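import Mathlib

set_option autoImplicit false
open Matrix

namespace Cfsg.Agent.EvenLattice24

variable (B : Matrix (Fin 24) (Fin 24) ℤ)

/-- The bilinear form of a Gram matrix. -/
def bf (x y : Fin 24 → ℤ) : ℤ := x ⬝ᵥ (B *ᵥ y)

theorem bf_add_left (x y z : Fin 24 → ℤ) : bf B (x + y) z = bf B x z + bf B y z := by
  simp [bf, add_dotProduct]

theorem bf_add_right (x y z : Fin 24 → ℤ) : bf B x (y + z) = bf B x y + bf B x z := by
  simp [bf, mulVec_add, dotProduct_add]

theorem bf_neg_left (x y : Fin 24 → ℤ) : bf B (-x) y = - bf B x y := by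
  simp [bf]

theorem bf_neg_right (x y : Fin 24 → ℤ) : bf B x (-y) = - bf B x y := by
  simp [bf, mulVec_neg]

theorem bf_symm (hsymm : B.IsSymm) (x y : Fin 24 → ℤ) : bf B x y = bf B y x := by
  unfold bf
  rw [dotProduct_mulVec, dotProduct_comm, ← mulVec_transpose, hsymm.eq]

/-- Congruence of two vectors modulo twice the lattice, split into the half sum and half difference. -/
theorem half_split (hsymm : B.IsSymm) (x y : Fin 24 → ℤ) (hc : ∀ i, (2 : ℤ) ∣ (x - y) i) :
    ∃ z w : Fin 24 → ℤ, x = w + z ∧ y = w + -z := by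
  choose z hz using hc
  refine ⟨z, x + -z, by abel, ?_⟩
  funext i
  have := hz i
  simp only [Pi.sub_apply] at this
  simp only [Pi.add_apply, Pi.neg_apply]
  omega

/-- Either the half difference or the half sum vanishes, or both have norm at least 4. -/
theorem cong_norms (hsymm : B.IsSymm) (hpos : ∀ x : Fin 24 → ℤ, x ≠ 0 → 0 < x ⬝ᵥ (B *ᵥ x))
    (heven : ∀ x : Fin 24 → ℤ, (2 : ℤ) ∣ x ⬝ᵥ (B *ᵥ x))
    (h2 : ∀ x : Fin 24 → ℤ, x ⬝ᵥ (B *ᵥ x) ≠ 2)
    (x y : Fin 24 → ℤ) (hc : ∀ i, (2 : ℤ) ∣ (x - y) i) :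
    y = x ∨ y = -x ∨ ∃ u v : ℤ, 4 ≤ u ∧ 4 ≤ v ∧ 2 ∣ u ∧ 2 ∣ v ∧
      bf B x x + bf B y y = 2 * u + 2 * v ∧ bf B x y = u - v := by
  obtain ⟨z, w, hx, hy⟩ := half_split B hsymm x y hc
  by_cases hz : z = 0
  · left; simp [hx, hy, hz]
  by_cases hw : w = 0
  · right; left; simp [hx, hy, hw]
  right; right
  refine ⟨bf B w w, bf B z z, ?_, ?_, heven w, heven z, ?_, ?_⟩
  · have := hpos w hw; have := heven w; have := h2 w; unfold bf; omega
  · have := hpos z hz; have := heven z; have := h2 z; unfold bf; omega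
  · subst hx hy
    simp only [bf_add_left, bf_add_right, bf_neg_left, bf_neg_right]
    rw [bf_symm B hsymm z w]; ring
  · subst hx hy
    simp only [bf_add_left, bf_add_right, bf_neg_right]
    rw [bf_symm B hsymm z w]; ring

/-- Reduction modulo 2. -/
def red (x : Fin 24 → ℤ) : Fin 24 → ZMod 2 := fun i => (x i : ZMod 2)

theorem red_eq_iff (x y : Fin 24 → ℤ) : red x = red y ↔ ∀ i, (2 : ℤ) ∣ (x - y) i := by
  simp only [red, funext_iff, Pi.sub_apply]
  refine forall_congr' fun i => ?_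
  rw [← sub_eq_zero, ← Int.cast_sub, ZMod.intCast_zmod_eq_zero_iff_dvd]
  norm_num

theorem two_neg_cong (x : Fin 24 → ℤ) : ∀ i, (2 : ℤ) ∣ (x - -x) i := fun i => by
  simp only [Pi.sub_apply, Pi.neg_apply]; omega

theorem orth_card_le (S : Finset (Fin 24 → ℤ)) (h8 : ∀ x ∈ S, bf B x x = 8)
    (horth : ∀ x ∈ S, ∀ y ∈ S, x ≠ y → bf B x y = 0) : S.card ≤ 24 := by
  classical
  have hli : LinearIndependent ℤ (fun x : {x // x ∈ S} => (x : Fin 24 → ℤ)) := by
    rw [Fintype.linearIndependent_iff]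
    intro g hg j
    have h := congrArg (fun v => bf B v (j : Fin 24 → ℤ)) hg
    simp only [bf, sum_dotProduct, smul_dotProduct, zero_dotProduct, smul_eq_mul] at h
    rw [Finset.sum_eq_single j] at h
    · have h8j := h8 j j.2
      simp only [bf] at h8j
      rw [h8j] at h
      omega
    · intro i _ hij
      have := horth i i.2 j j.2 (fun hh => hij (Subtype.ext hh))
      simp only [bf] at this
      simp [this]
    · intro hj; simp at hj
  have := hli.fintype_card_le_finrank
  simpa using this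

theorem frame_card_le (C : Finset (Fin 24 → ℤ)) (h8 : ∀ x ∈ C, bf B x x = 8)
    (horth : ∀ x ∈ C, ∀ y ∈ C, y = x ∨ y = -x ∨ bf B x y = 0) : C.card ≤ 48 := by
  classical
  obtain ⟨e, he⟩ := Countable.exists_injective_nat (Fin 24 → ℤ)
  set P : (Fin 24 → ℤ) → Prop := fun x => e x < e (-x) with hP
  have hne : ∀ x ∈ C, e x ≠ e (-x) := by
    intro x hx h
    have hx0 : x = -x := he h
    have : x = 0 := funext fun i => by have := congrFun hx0 i; simp at this ⊢; omega
    have := h8 x hx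
    simp [bf, ‹x = 0›] at this
  have hS : (C.filter P).card ≤ 24 := by
    refine orth_card_le B _ (fun x hx => h8 x (Finset.mem_filter.1 hx).1) ?_
    intro x hx y hy hxy
    obtain ⟨hxC, hxP⟩ := Finset.mem_filter.1 hx
    obtain ⟨hyC, hyP⟩ := Finset.mem_filter.1 hy
    rcases horth x hxC y hyC with h | h | h
    · exact absurd h.symm hxy
    · exfalso; subst h; simp only [hP, neg_neg] at hxP hyP; omega
    · exact h
  have hT : (C.filter fun x => ¬ P x).card ≤ 24 := by
    refine orth_card_le B _ (fun x hx => h8 x (Finset.mem_filter.1 hx).1) ?_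
    intro x hx y hy hxy
    obtain ⟨hxC, hxP⟩ := Finset.mem_filter.1 hx
    obtain ⟨hyC, hyP⟩ := Finset.mem_filter.1 hy
    rcases horth x hxC y hyC with h | h | h
    · exact absurd h.symm hxy
    · exfalso
      have := hne x hxC
      subst h; simp only [hP, neg_neg, not_lt] at hxP hyP; omega
    · exact h
  have := Finset.card_filter_add_card_filter_not (s := C) P
  omega

end Cfsg.Agent.EvenLattice24
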