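import Mathlib

/-! Elementary lemmas used by helper79's block (S4007-S4065). -/

set_option autoImplicit false

namespace H79

open Subgroup

variable {G : Type*} [Group G]

/-- A subgroup containing all prime-power order powers of `y` contains `y`. -/
theorem mem_of_primePow_powers [Finite G] (S : Subgroup G) (y : G)
    (h : ∀ z ∈ Subgroup.zpowers y, ∀ p k : ℕ, p.Prime → orderOf z = p ^ k → z ∈ S) : y ∈ S := by
  suffices key : ∀ n : ℕ, ∀ z ∈ Subgroup.zpowers y, orderOf z = n → z ∈ S from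
    key _ y (Subgroup.mem_zpowers y) rfl
  intro n
  induction n using Nat.recOnPrimeCoprime with
  | zero =>
    intro z _ hz
    exact absurd hz (orderOf_pos z).ne'
  | prime_pow p k hp =>
    intro z hz hzn
    exact h z hz p k hp hzn
  | coprime a b ha hb hab iha ihb =>
    intro z hz hzn
    have h1 : z ^ a ∈ S := by
      refine ihb _ (Subgroup.pow_mem _ hz a) ?_
      rw [orderOf_pow' z (by omega), hzn, Nat.gcd_eq_right (dvd_mul_right a b),
        Nat.mul_div_cancel_left _ (by omega)]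
    have h2 : z ^ b ∈ S := by
      refine iha _ (Subgroup.pow_mem _ hz b) ?_
      rw [orderOf_pow' z (by omega), hzn, Nat.gcd_eq_right (dvd_mul_left b a),
        Nat.mul_div_cancel _ (by omega)]
    have e : (1 : ℤ) = (a : ℤ) * Nat.gcdA a b + (b : ℤ) * Nat.gcdB a b := by
      rw [← Nat.gcd_eq_gcd_ab, hab.gcd_eq_one, Nat.cast_one]
    have : z = (z ^ a) ^ Nat.gcdA a b * (z ^ b) ^ Nat.gcdB a b := by
      rw [← zpow_natCast, ← zpow_natCast z b, ← zpow_mul, ← zpow_mul, ← zpow_add, ← e, zpow_one]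
    rw [this]
    exact S.mul_mem (S.zpow_mem h1 _) (S.zpow_mem h2 _)

/-- A `p`-element of a quotient by a normal subgroup of order prime to `p` lifts to a `p`-element. -/
theorem exists_lift_primePow [Finite G] (N : Subgroup G) [N.Normal] {p k : ℕ} (hp : p.Prime)
    (hN : ¬ p ∣ Nat.card N) (y : G ⧸ N) (hy : orderOf y = p ^ k) :
    ∃ x : G, (x : G ⧸ N) = y ∧ orderOf x = p ^ k := by
  obtain ⟨x₀, rfl⟩ := QuotientGroup.mk_surjective y
  have hcop : (Nat.card N).Coprime (p ^ k) := by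
    apply Nat.Coprime.pow_right
    exact Nat.Coprime.symm ((Nat.Prime.coprime_iff_not_dvd hp).2 hN)
  obtain ⟨c, hc⟩ : ∃ c : ℤ, ((p ^ k : ℕ) : ℤ) ∣ c * (Nat.card N : ℤ) - 1 := by
    refine ⟨Nat.gcdA (Nat.card N) (p ^ k), -(Nat.gcdB (Nat.card N) (p ^ k)), ?_⟩
    have := Nat.gcd_eq_gcd_ab (Nat.card N) (p ^ k)
    rw [hcop.gcd_eq_one, Nat.cast_one] at this
    linarith
  refine ⟨x₀ ^ (c * (Nat.card N : ℤ)), ?_, ?_⟩
  · obtain ⟨d, hd⟩ := hc
    have : c * (Nat.card N : ℤ) = 1 + ((p ^ k : ℕ) : ℤ) * d := by linarith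
    rw [QuotientGroup.mk_zpow, this, zpow_add, zpow_one, zpow_mul, zpow_natCast, ← hy,
      pow_orderOf_eq_one, one_zpow, mul_one]
  · have h1 : x₀ ^ (p ^ k) ∈ N := by
      rw [← QuotientGroup.eq_one_iff, QuotientGroup.mk_pow, ← hy, pow_orderOf_eq_one]
    have h2 : (x₀ ^ (c * (Nat.card N : ℤ))) ^ (p ^ k) = 1 := by
      have h3 : (x₀ ^ (p ^ k)) ^ Nat.card N = 1 :=
        orderOf_dvd_iff_pow_eq_one.1 (Subgroup.orderOf_dvd_natCard _ h1)
      rw [← zpow_natCast, ← zpow_mul,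
        show c * (Nat.card N : ℤ) * ((p ^ k : ℕ) : ℤ)
          = ((p ^ k : ℕ) : ℤ) * (Nat.card N : ℤ) * c by ring,
        zpow_mul, zpow_mul, zpow_natCast, zpow_natCast, h3, one_zpow]
    apply Nat.dvd_antisymm (orderOf_dvd_of_pow_eq_one h2)
    have h4 : ((x₀ ^ (c * (Nat.card N : ℤ)) : G) : G ⧸ N) = (x₀ : G ⧸ N) := by
      obtain ⟨d, hd⟩ := hc
      have : c * (Nat.card N : ℤ) = 1 + ((p ^ k : ℕ) : ℤ) * d := by linarith
      rw [QuotientGroup.mk_zpow, this, zpow_add, zpow_one, zpow_mul, zpow_natCast, ← hy,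
        pow_orderOf_eq_one, one_zpow, mul_one]
    rw [← hy, ← h4]
    exact orderOf_map_dvd (QuotientGroup.mk' N) _

theorem eq_one_of_mem_of_primePow_order [Finite G] (N : Subgroup G) {p k : ℕ} (hp : p.Prime)
    (hN : ¬ p ∣ Nat.card N) (x : G) (hx : x ∈ N) (ho : orderOf x ∣ p ^ k) : x = 1 := by
  rw [← orderOf_eq_one_iff]
  apply Nat.eq_one_of_dvd_coprimes (Nat.Coprime.pow_left k ((Nat.Prime.coprime_iff_not_dvd hp).2 hN)) ho
  exact Subgroup.orderOf_dvd_natCard _ hx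

/-- Two `p`-elements with the same image modulo a normal subgroup of order prime to `p` are
conjugate by an element of that subgroup. -/
theorem exists_conj_of_quotient_eq [Finite G] (N : Subgroup G) [N.Normal] {p k : ℕ}
    (hp : p.Prime) (hN : ¬ p ∣ Nat.card N) (x x' : G) (hx : orderOf x ∣ p ^ k)
    (hx' : orderOf x' ∣ p ^ k) (he : (x' : G ⧸ N) = (x : G ⧸ N)) :
    ∃ n ∈ N, n * x' * n⁻¹ = x := by
  have := Fact.mk hp
  have hmem : ∀ g ∈ Subgroup.zpowers x ⊔ N, ∃ i : ℤ, (g : G ⧸ N) = (x : G ⧸ N) ^ i := by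
    intro g hg
    obtain ⟨a, ha, n, hn, rfl⟩ := Subgroup.mem_sup_of_normal_right.1 hg
    obtain ⟨i, rfl⟩ := Subgroup.mem_zpowers_iff.1 ha
    exact ⟨i, by rw [QuotientGroup.mk_mul, (QuotientGroup.eq_one_iff n).2 hn, mul_one, QuotientGroup.mk_zpow]⟩
  set H : Subgroup G := Subgroup.zpowers x ⊔ N with hH
  have hxH : x ∈ H := Subgroup.mem_sup_left (Subgroup.mem_zpowers x)
  have hx'H : x' ∈ H := by
    have hn : x⁻¹ * x' ∈ N := QuotientGroup.eq.1 he.symm
    have := H.mul_mem hxH (Subgroup.mem_sup_right hn : x⁻¹ * x' ∈ H)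
    simpa using this
  have pow_pgroup : ∀ (z : H), orderOf z ∣ p ^ k → IsPGroup p (Subgroup.zpowers z) := by
    intro z hz
    obtain ⟨m, _, hm⟩ := (Nat.dvd_prime_pow hp).1 hz
    exact IsPGroup.of_card (n := m) (by rw [Nat.card_zpowers, hm])
  have hX : IsPGroup p (Subgroup.zpowers (⟨x, hxH⟩ : H)) := pow_pgroup _ (by rwa [Subgroup.orderOf_mk])
  have hX' : IsPGroup p (Subgroup.zpowers (⟨x', hx'H⟩ : H)) := pow_pgroup _ (by rwa [Subgroup.orderOf_mk])
  let P : Sylow p H :=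
    { toSubgroup := Subgroup.zpowers (⟨x, hxH⟩ : H)
      isPGroup' := hX
      is_maximal' := by
        intro Q hQ hle
        refine le_antisymm (fun t ht => ?_) hle
        obtain ⟨i, hi⟩ := hmem (t : G) t.2
        have hx₁ : (⟨x, hxH⟩ : H) ∈ Q := hle (Subgroup.mem_zpowers _)
        have hs : (⟨x, hxH⟩ : H) ^ (-i) * t ∈ Q := Q.mul_mem (Q.zpow_mem hx₁ _) ht
        obtain ⟨j, hj⟩ := IsPGroup.iff_orderOf.1 hQ ⟨_, hs⟩
        rw [Subgroup.orderOf_mk] at hj
        have hj' : orderOf ((((⟨x, hxH⟩ : H) ^ (-i) * t : H)) : G) = p ^ j := by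
          rw [Subgroup.orderOf_coe]; exact hj
        have h1 : ((((⟨x, hxH⟩ : H) ^ (-i) * t : H)) : G) ∈ N := by
          rw [← QuotientGroup.eq_one_iff]
          simp only [Subgroup.coe_mul, Subgroup.coe_zpow, QuotientGroup.mk_mul, QuotientGroup.mk_zpow, hi]
          rw [← zpow_add, neg_add_cancel, zpow_zero]
        have h2 := eq_one_of_mem_of_primePow_order N hp hN _ h1 hj'.dvd
        have h3 : (⟨x, hxH⟩ : H) ^ (-i) * t = 1 := Subtype.ext h2
        rw [zpow_neg, inv_mul_eq_one] at h3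
        rw [← h3]
        exact Subgroup.zpow_mem _ (Subgroup.mem_zpowers _) i }
  obtain ⟨Q, hQ⟩ := IsPGroup.exists_le_sylow hX'
  obtain ⟨h, hh⟩ := MulAction.exists_smul_eq H P Q
  have hx'Q : (⟨x', hx'H⟩ : H) ∈ (h • P : Sylow p H) := hh ▸ hQ (Subgroup.mem_zpowers _)
  have hconj : h⁻¹ * (⟨x', hx'H⟩ : H) * h ∈ Subgroup.zpowers (⟨x, hxH⟩ : H) := by
    have := (Subgroup.mem_pointwise_smul_iff_inv_smul_mem (a := MulAut.conj h) (S := (P : Subgroup H))).1 hx'Q
    simpa [P, MulAut.conj_inv_apply, MulAut.smul_def] using this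
  obtain ⟨i, hi⟩ := Subgroup.mem_zpowers_iff.1 hconj
  have hiG : x ^ i = (h : G)⁻¹ * x' * (h : G) := by
    have := congrArg Subtype.val hi
    simpa using this
  obtain ⟨j, hj⟩ := hmem (h : G) h.2
  have hq : (x : G ⧸ N) ^ i = (x : G ⧸ N) := by
    rw [← QuotientGroup.mk_zpow, hiG]
    simp only [QuotientGroup.mk_mul, QuotientGroup.mk_inv, he, hj]
    rw [← zpow_neg, ← zpow_add_one, ← zpow_add]
    rw [show -j + 1 + j = 1 by ring, zpow_one]
  have hxi : x ^ i = x := by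
    have h1 : x ^ i * x⁻¹ ∈ N := by
      rw [← QuotientGroup.eq_one_iff, QuotientGroup.mk_mul, QuotientGroup.mk_inv, QuotientGroup.mk_zpow, hq,
        mul_inv_cancel]
    have h2 : x ^ i * x⁻¹ ∈ Subgroup.zpowers x :=
      Subgroup.mul_mem _ (Subgroup.zpow_mem _ (Subgroup.mem_zpowers x) i) (Subgroup.inv_mem _ (Subgroup.mem_zpowers x))
    have h3 : orderOf (x ^ i * x⁻¹) ∣ p ^ k := (orderOf_dvd_of_mem_zpowers h2).trans hx
    exact mul_inv_eq_one.1 (eq_one_of_mem_of_primePow_order N hp hN _ h1 h3)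
  obtain ⟨a, ha, n, hn, han⟩ := Subgroup.mem_sup_of_normal_right.1 h.2
  have hax : a * x = x * a := by
    obtain ⟨l, rfl⟩ := Subgroup.mem_zpowers_iff.1 ha
    exact ((Commute.refl x).zpow_left l).eq
  refine ⟨a * n⁻¹ * a⁻¹, Subgroup.Normal.conj_mem inferInstance _ (N.inv_mem hn) a, ?_⟩
  rw [hxi, ← han] at hiG
  calc a * n⁻¹ * a⁻¹ * x' * (a * n⁻¹ * a⁻¹)⁻¹
      = a * ((a * n)⁻¹ * x' * (a * n)) * a⁻¹ := by group
    _ = a * x * a⁻¹ := by rw [← hiG]
    _ = x := by rw [hax, mul_inv_cancel_right]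

theorem exists_pow_of_mem_normalizer_zpowers [Finite G] {g x : G}
    (hg : g ∈ Subgroup.normalizer ((Subgroup.zpowers x : Subgroup G) : Set G)) :
    ∃ i : ℕ, g * x * g⁻¹ = x ^ i := by
  obtain ⟨i, hi⟩ := (Submonoid.mem_powers_iff _ _).1
    (mem_powers_iff_mem_zpowers.2 ((Subgroup.mem_normalizer_iff.1 hg x).1 (Subgroup.mem_zpowers x)))
  exact ⟨i, hi.symm⟩

theorem mem_normalizer_of_conj_mem [Finite G] {g : G} (H : Subgroup G)
    (h : ∀ x ∈ H, g * x * g⁻¹ ∈ H) : g ∈ Subgroup.normalizer (H : Set G) := by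
  have hle : H.map (MulAut.conj g).toMonoidHom ≤ H := by
    rintro _ ⟨x, hx, rfl⟩
    simpa using h x hx
  have heq : H.map (MulAut.conj g).toMonoidHom = H :=
    Subgroup.eq_of_le_of_card_ge hle
      (le_of_eq (Subgroup.card_map_of_injective (MulAut.conj g).injective).symm)
  rw [Subgroup.mem_normalizer_iff]
  intro x
  refine ⟨h x, fun hx => ?_⟩
  rw [← heq] at hx
  obtain ⟨y, hy, hyx⟩ := hx
  simp only [MulEquiv.toMonoidHom_eq_coe, MonoidHom.coe_coe, MulAut.conj_apply] at hyx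
  have : y = x := mul_left_cancel (mul_right_cancel hyx)
  exact this ▸ hy

theorem mem_normalizer_zpowers [Finite G] {g x : G} (h : g * x * g⁻¹ ∈ Subgroup.zpowers x) :
    g ∈ Subgroup.normalizer ((Subgroup.zpowers x : Subgroup G) : Set G) := by
  apply mem_normalizer_of_conj_mem
  intro y hy
  obtain ⟨i, rfl⟩ := Subgroup.mem_zpowers_iff.1 hy
  rw [← conj_zpow]
  exact Subgroup.zpow_mem _ h i

theorem mem_centralizer_singleton {g x : G} :
    g ∈ Subgroup.centralizer ({x} : Set G) ↔ g * x = x * g := by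
  rw [Subgroup.mem_centralizer_iff]
  simp [eq_comm]

/-- An element inverted by conjugation with `g` is inverted by all odd powers of `g`. -/
theorem conj_pow_inv_of_odd {g x : G} (h : g * x * g⁻¹ = x⁻¹) {m : ℕ} (hm : Odd m) :
    g ^ m * x * (g ^ m)⁻¹ = x⁻¹ := by
  obtain ⟨j, rfl⟩ := hm
  induction j with
  | zero => simpa using h
  | succ j ih =>
    calc g ^ (2 * (j + 1) + 1) * x * (g ^ (2 * (j + 1) + 1))⁻¹
        = g * (g * (g ^ (2 * j + 1) * x * (g ^ (2 * j + 1))⁻¹) * g⁻¹) * g⁻¹ := by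
          rw [show 2 * (j + 1) + 1 = 1 + (1 + (2 * j + 1)) by ring, pow_add _ 1, pow_add _ 1, pow_one]
          group
      _ = g * (g * x⁻¹ * g⁻¹) * g⁻¹ := by rw [ih]
      _ = g * (g * x * g⁻¹)⁻¹ * g⁻¹ := by group
      _ = g * x * g⁻¹ := by rw [h, inv_inv, h]
      _ = x⁻¹ := h

theorem eq_one_of_conj_inv_of_odd {g x : G} (h : g * x * g⁻¹ = x⁻¹) (hg : Odd (orderOf g))
    (hx : Odd (orderOf x)) : x = 1 := by
  have h1 := conj_pow_inv_of_odd h hg
  rw [pow_orderOf_eq_one, one_mul, inv_one, mul_one] at h1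
  have h2 : x ^ 2 = 1 := by rw [pow_two]; exact eq_inv_iff_mul_eq_one.1 h1
  rw [← orderOf_eq_one_iff]
  exact Nat.eq_one_of_dvd_coprimes (Nat.coprime_two_left.2 hx) (orderOf_dvd_of_pow_eq_one h2) dvd_rfl

/-- An element whose order is coprime to `φ(orderOf x)` and normalizes `⟨x⟩` centralizes `x`. -/
theorem commute_of_normalizes_of_coprime [Finite G] {g x : G}
    (hg : g ∈ Subgroup.normalizer ((Subgroup.zpowers x : Subgroup G) : Set G))
    (hc : (orderOf g).Coprime (Nat.totient (orderOf x))) : g * x = x * g := by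
  let f := (Subgroup.zpowers x).normalizerMonoidHom
  have h1 : orderOf (f ⟨g, hg⟩) ∣ orderOf g := by
    refine (orderOf_map_dvd f _).trans ?_
    rw [Subgroup.orderOf_mk]
  have h2 : orderOf (f ⟨g, hg⟩) ∣ Nat.totient (orderOf x) := by
    refine (_root_.orderOf_dvd_natCard _).trans ?_
    rw [IsCyclic.card_mulAut, Nat.card_zpowers]
  have h3 : f ⟨g, hg⟩ = 1 := orderOf_eq_one_iff.1 (Nat.eq_one_of_dvd_coprimes hc h1 h2)
  have h4 := congrArg Subtype.val (DFunLike.congr_fun h3 ⟨x, Subgroup.mem_zpowers x⟩)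
  simp [f, Subgroup.normalizerMonoidHom] at h4
  exact mul_inv_eq_iff_eq_mul.1 h4

/-- A 2-element part and odd part: if `orderOf g = 2^a * m` then `g ^ m` is a 2-element. -/
theorem exists_odd_part [Finite G] (g : G) :
    ∃ a m : ℕ, Odd m ∧ orderOf (g ^ m) = 2 ^ a ∧ Odd (orderOf (g ^ (2 ^ a))) := by
  obtain ⟨a, m, hm, he⟩ := Nat.exists_eq_two_pow_mul_odd (orderOf_pos g).ne'
  refine ⟨a, m, hm, ?_, ?_⟩
  · rw [orderOf_pow' g (Nat.ne_of_odd_add (by simpa using hm) : m ≠ 0), he,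
      Nat.gcd_eq_right (dvd_mul_left m _), Nat.mul_div_cancel _ hm.pos]
  · rw [orderOf_pow' g (pow_ne_zero a (by norm_num)), he, Nat.gcd_eq_right (dvd_mul_right _ m),
      Nat.mul_div_cancel_left _ (pow_pos (by norm_num) a)]
    exact hm

end H79
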