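import Cfsg.Agent.H79Basic
import Cfsg.Agent.Lib.Coprime.Action
import Cfsg.Agent.Lib.Solvable.MinNormal

/-! Groups in which `p`-subgroups of equal order are conjugate. -/

set_option autoImplicit false

namespace H79.ConjSub

open Pointwise CfsgLib.Coprime

universe u

/-- Any two `p`-subgroups of equal order are conjugate. -/
def PConj (p : ℕ) (G : Type u) [Group G] : Prop :=
  ∀ H K : Subgroup G, IsPGroup p H → IsPGroup p K → Nat.card H = Nat.card K →
    ∃ g : G, K = H.map (MulAut.conj g).toMonoidHom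

/-- All Sylow subgroups for primes other than `r` are cyclic. -/
def CycAway (r : ℕ) (G : Type u) [Group G] : Prop :=
  ∀ p : ℕ, p.Prime → p ≠ r → ∀ P : Sylow p G, IsCyclic P

variable {G : Type u} [Group G]

theorem map_conj_eq_smul (H : Subgroup G) (g : G) :
    H.map (MulAut.conj g).toMonoidHom = MulAut.conj g • H := by
  ext x
  rw [CfsgLib.Coprime.mem_conj_smul]
  constructor
  · rintro ⟨y, hy, rfl⟩
    simpa [mul_assoc] using hy
  · intro hx
    exact ⟨g⁻¹ * x * g, hx, by simp [mul_assoc]⟩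

theorem pConj_smul {p : ℕ} (h : PConj p G) {H K : Subgroup G} (hH : IsPGroup p H) (hK : IsPGroup p K)
    (hc : Nat.card H = Nat.card K) : ∃ g : G, MulAut.conj g • H = K := by
  obtain ⟨g, hg⟩ := h H K hH hK hc
  exact ⟨g, by rw [hg, map_conj_eq_smul]⟩

theorem conj_smul_normal (N : Subgroup G) [N.Normal] (g : G) : MulAut.conj g • N = N := by
  ext x
  rw [mem_conj_smul]
  exact ⟨fun h => by simpa [mul_assoc] using (inferInstance : N.Normal).conj_mem _ h g,
    fun h => (inferInstance : N.Normal).conj_mem' x h g⟩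

theorem comap_card [Finite G] (N : Subgroup G) [N.Normal] (A : Subgroup (G ⧸ N)) :
    Nat.card (A.comap (QuotientGroup.mk' N)) = Nat.card A * Nat.card N := by
  have h1 := card_map_mul_inf_ker (QuotientGroup.mk' N) (A.comap (QuotientGroup.mk' N))
  rw [QuotientGroup.ker_mk', Subgroup.map_comap_eq_self_of_surjective (QuotientGroup.mk'_surjective N)] at h1
  have hle : N ≤ A.comap (QuotientGroup.mk' N) := fun x hx => by
    rw [Subgroup.mem_comap, QuotientGroup.mk'_apply, (QuotientGroup.eq_one_iff x).2 hx]; exact A.one_mem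
  rw [inf_eq_left.2 hle] at h1
  exact h1.symm

theorem exists_lift_pgroup [Finite G] {p : ℕ} [Fact p.Prime] (N : Subgroup G) [N.Normal]
    (A : Subgroup (G ⧸ N)) (hA : IsPGroup p A) :
    ∃ P : Subgroup G, IsPGroup p P ∧ P.map (QuotientGroup.mk' N) = A ∧
      Nat.card P = p ^ (Nat.card A * Nat.card N).factorization p := by
  set L := A.comap (QuotientGroup.mk' N) with hL
  obtain ⟨P⟩ : Nonempty (Sylow p L) := inferInstance
  let ψ : L →* A := ((QuotientGroup.mk' N).comp L.subtype).codRestrict A (fun x => x.2)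
  have hψ : Function.Surjective ψ := by
    rintro ⟨a, ha⟩
    obtain ⟨g, rfl⟩ := QuotientGroup.mk_surjective a
    exact ⟨⟨g, ha⟩, rfl⟩
  have htop : ((P.mapSurjective hψ : Sylow p A) : Subgroup A) = ⊤ :=
    ((P.mapSurjective hψ).is_maximal' (hA.to_subgroup ⊤) le_top).symm
  refine ⟨(P : Subgroup L).map L.subtype, P.isPGroup'.map _, le_antisymm ?_ ?_, ?_⟩
  · rintro _ ⟨_, ⟨y, -, rfl⟩, rfl⟩
    exact y.2
  · intro a ha
    have : (⟨a, ha⟩ : A) ∈ ((P.mapSurjective hψ : Sylow p A) : Subgroup A) := htop ▸ Subgroup.mem_top _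
    rw [Sylow.coe_mapSurjective] at this
    obtain ⟨y, hy, hya⟩ := this
    exact ⟨(y : G), ⟨y, hy, rfl⟩, congrArg Subtype.val hya⟩
  · rw [Subgroup.card_map_of_injective L.subtype_injective, Sylow.card_eq_multiplicity, hL, comap_card]

theorem pConj_quotient [Finite G] {p : ℕ} [Fact p.Prime] (h : PConj p G) (N : Subgroup G) [N.Normal] :
    PConj p (G ⧸ N) := by
  intro A B hA hB hc
  obtain ⟨P, hP, hPA, hPc⟩ := exists_lift_pgroup N A hA
  obtain ⟨Q, hQ, hQB, hQc⟩ := exists_lift_pgroup N B hB
  obtain ⟨g, hg⟩ := h P Q hP hQ (by rw [hPc, hQc, hc])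
  refine ⟨(g : G ⧸ N), ?_⟩
  rw [← hQB, ← hPA, hg, Subgroup.map_map, Subgroup.map_map]
  rfl

theorem cycAway_quotient [Finite G] {r : ℕ} (h : CycAway r G) (N : Subgroup G) [N.Normal] :
    CycAway r (G ⧸ N) := by
  intro p hp hpr Q
  have := Fact.mk hp
  obtain ⟨P, rfl⟩ := Sylow.mapSurjective_surjective (QuotientGroup.mk'_surjective N) p Q
  have := h p hp hpr P
  let f : (P : Subgroup G) →* ((P.mapSurjective (QuotientGroup.mk'_surjective N) : Sylow p (G ⧸ N)) : Subgroup (G ⧸ N)) :=
    ((QuotientGroup.mk' N).comp (P : Subgroup G).subtype).codRestrict _ (fun x => by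
      rw [Sylow.coe_mapSurjective]; exact ⟨x, x.2, rfl⟩)
  refine isCyclic_of_surjective f ?_
  rintro ⟨y, hy⟩
  rw [Sylow.coe_mapSurjective] at hy
  obtain ⟨x, hx, rfl⟩ := hy
  exact ⟨⟨x, hx⟩, rfl⟩

theorem cycAway_subgroup [Finite G] {r : ℕ} (h : CycAway r G) (L : Subgroup G) : CycAway r L := by
  intro p hp hpr Q
  have := Fact.mk hp
  obtain ⟨P, hP⟩ := (Q.isPGroup'.map L.subtype).exists_le_sylow
  have := h p hp hpr P
  exact isCyclic_of_injective
    (((L.subtype).comp (Q : Subgroup L).subtype).codRestrict (P : Subgroup G) (fun x => hP ⟨_, x.2, rfl⟩))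
    (fun a b hab => Subtype.ext (Subtype.ext (congrArg (fun t : (P : Subgroup G) => (t : G)) hab)))

theorem eq_of_card_eq_of_cyclic [Finite G] {P A B : Subgroup G} (hP : IsCyclic P) (hA : A ≤ P) (hB : B ≤ P)
    (hc : Nat.card A = Nat.card B) : A = B := by
  classical
  have := Fintype.ofFinite P
  let S : Finset P := Finset.univ.filter (fun x : P => x ^ Nat.card A = 1)
  have hsub : ∀ C : Subgroup G, C ≤ P → Nat.card C = Nat.card A →
      (Finset.univ.filter fun x : P => (x : G) ∈ C) = S := by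
    intro C hC hCA
    apply Finset.eq_of_subset_of_card_le
    · intro x hx
      simp only [S, Finset.mem_filter, Finset.mem_univ, true_and] at hx ⊢
      apply Subtype.ext
      rw [SubmonoidClass.coe_pow, ← hCA]
      exact orderOf_dvd_iff_pow_eq_one.1 (Subgroup.orderOf_dvd_natCard C hx)
    · refine (IsCyclic.card_pow_eq_one_le (α := P) (Nat.card_pos (α := A))).trans (le_of_eq ?_)
      rw [← hCA, ← Fintype.card_subtype, ← Nat.card_eq_fintype_card]
      exact Nat.card_congr ((Equiv.subtypeSubtypeEquivSubtype (p := fun x => x ∈ P) (q := fun x => x ∈ C)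
        (fun h => hC h)).symm)
  have h2 := (hsub A hA rfl).trans (hsub B hB hc.symm).symm
  ext x
  constructor
  · intro hx
    have : (⟨x, hA hx⟩ : P) ∈ Finset.univ.filter fun y : P => (y : G) ∈ B := h2 ▸ by simp [hx]
    simpa using this
  · intro hx
    have : (⟨x, hB hx⟩ : P) ∈ Finset.univ.filter fun y : P => (y : G) ∈ A := h2.symm ▸ by simp [hx]
    simpa using this

theorem normal_le_of_card_prime [Finite G] {r q : ℕ} (h : CycAway r G) (hq : q.Prime) (hqr : q ≠ r)
    (V : Subgroup G) [V.Normal] (hV : Nat.card V = q) (H : Subgroup G) (hd : q ∣ Nat.card H) : V ≤ H := by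
  have := Fact.mk hq
  obtain ⟨a, ha⟩ := exists_prime_orderOf_dvd_card' q hd
  set A := Subgroup.zpowers (a : G) with hA
  have hAc : Nat.card A = q := by rw [hA, Nat.card_zpowers, Subgroup.orderOf_coe, ha]
  obtain ⟨P, hP⟩ := (IsPGroup.of_card (n := 1) (by rw [hAc, pow_one]) : IsPGroup q A).exists_le_sylow
  have hVP : V ≤ (P : Subgroup G) := by
    obtain ⟨Q, hQ⟩ := (IsPGroup.of_card (n := 1) (by rw [hV, pow_one]) : IsPGroup q V).exists_le_sylow
    obtain ⟨g, hg⟩ := MulAction.exists_smul_eq G Q P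
    rw [← hg, ← conj_smul_normal V g]
    exact Subgroup.pointwise_smul_le_pointwise_smul_iff.2 hQ
  rw [eq_of_card_eq_of_cyclic (h q hq hqr P) hVP hP (hV.trans hAc.symm)]
  exact Subgroup.zpowers_le.2 a.2

theorem conj_of_quotient [Finite G] (V : Subgroup G) [V.Normal] {H K : Subgroup G}
    (hc : Nat.card H = Nat.card K) (hVsolv : Group.IsSolvable V)
    (hq : ∃ g : G ⧸ V, MulAut.conj g • H.map (QuotientGroup.mk' V) = K.map (QuotientGroup.mk' V))
    (hcase : (V ≤ H ∧ V ≤ K) ∨ ((Nat.card H).Coprime (Nat.card V))) :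
    ∃ g : G, MulAut.conj g • H = K := by
  obtain ⟨g, hg⟩ := hq
  obtain ⟨g, rfl⟩ := QuotientGroup.mk_surjective g
  have hmem : ∀ h ∈ H, g * h * g⁻¹ ∈ K ⊔ V := by
    intro h hh
    have h1 : ((g * h * g⁻¹ : G) : G ⧸ V) ∈ K.map (QuotientGroup.mk' V) := by
      rw [← hg, mem_conj_smul]
      refine ⟨h, hh, ?_⟩
      simp [mul_assoc]
    obtain ⟨k, hk, hkh⟩ := h1
    rw [QuotientGroup.mk'_apply, QuotientGroup.eq] at hkh
    simpa using Subgroup.mul_mem_sup hk hkh
  rcases hcase with ⟨hVH, hVK⟩ | hcop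
  · refine ⟨g, conj_smul_eq_of_le (conj_smul_le.2 fun h hh => ?_) hc.ge⟩
    have := hmem h hh
    rwa [sup_eq_left.2 hVK] at this
  · obtain ⟨x, hx, hle⟩ := exists_conj_le_of_coprime K V Subgroup.le_normalizer_of_normal
      (hc ▸ hcop) (MulAut.conj g • H) (conj_smul_le.2 hmem) (by rw [card_conj_smul]; exact hcop) (Or.inr hVsolv)
    refine ⟨x * g, conj_smul_eq_of_le ?_ hc.ge⟩
    rwa [map_mul, mul_smul]

theorem card_map_eq_of_case [Finite G] (V : Subgroup G) [V.Normal] {H K : Subgroup G}
    (hc : Nat.card H = Nat.card K)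
    (hcase : (V ≤ H ∧ V ≤ K) ∨ ((Nat.card H).Coprime (Nat.card V))) :
    Nat.card (H.map (QuotientGroup.mk' V)) = Nat.card (K.map (QuotientGroup.mk' V)) := by
  have h1 := card_map_mul_inf_ker (QuotientGroup.mk' V) H
  have h2 := card_map_mul_inf_ker (QuotientGroup.mk' V) K
  rw [QuotientGroup.ker_mk'] at h1 h2
  rcases hcase with ⟨hVH, hVK⟩ | hcop
  · rw [inf_eq_left.2 hVH] at h1
    rw [inf_eq_left.2 hVK] at h2
    exact Nat.eq_of_mul_eq_mul_right Nat.card_pos (h1.trans (hc.trans h2.symm))
  · rw [Subgroup.inf_eq_bot_of_coprime hcop.symm, Subgroup.card_bot, mul_one] at h1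
    rw [Subgroup.inf_eq_bot_of_coprime (hc ▸ hcop.symm), Subgroup.card_bot, mul_one] at h2
    rw [h1, h2, hc]

theorem card_quotient_lt [Finite G] {V : Subgroup G} (hV : V ≠ ⊥) : Nat.card (G ⧸ V) < Nat.card G := by
  rw [Subgroup.card_eq_card_quotient_mul_card_subgroup V]
  exact lt_mul_of_one_lt_right Nat.card_pos (Subgroup.one_lt_card_iff_ne_bot V |>.2 hV)

theorem conj_of_card_away (r : ℕ) :
    ∀ (n : ℕ) (G : Type u) [Group G] [Finite G] [Group.IsSolvable G], Nat.card G = n → CycAway r G →
      ∀ H K : Subgroup G, (r.Prime → ¬ r ∣ Nat.card H) → Nat.card H = Nat.card K →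
        ∃ g : G, MulAut.conj g • H = K := by
  intro n
  induction n using Nat.strong_induction_on with
  | _ n ih =>
    intro G _ _ _ hn hcyc H K hr hc
    rcases subsingleton_or_nontrivial G with h | h
    · exact ⟨1, by rw [Subsingleton.elim H ⊥, Subsingleton.elim K ⊥]; simp⟩
    obtain ⟨V, hV⟩ := CfsgLib.MinNormal.exists_isMinNormal (G := G)
    have := hV.1
    obtain ⟨q, hq, hel, hVp, k, hk, hVc⟩ := hV.elementaryAbelian_of_solvable
    have := Fact.mk hq
    have hVsolv : Group.IsSolvable V := by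
      have := hVp.isNilpotent
      infer_instance
    have hcase : (V ≤ H ∧ V ≤ K) ∨ ((Nat.card H).Coprime (Nat.card V)) := by
      by_cases hd : q ∣ Nat.card H
      · have hqr : q ≠ r := fun e => hr (e ▸ hq) (e ▸ hd)
        have hVq : Nat.card V = q := by
          obtain ⟨P, hP⟩ := hVp.exists_le_sylow
          have hPc := hcyc q hq hqr P
          have hVcyc : IsCyclic V := isCyclic_of_injective (Subgroup.inclusion hP) (Subgroup.inclusion_injective hP)
          obtain ⟨gen, hgen⟩ := hVcyc.exists_ofOrder_eq_natCard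
          have h1 : Nat.card V ∣ q := by
            rw [← hgen, orderOf_dvd_iff_pow_eq_one]
            exact Subtype.ext (by simpa using hel.2 gen gen.2)
          exact ((Nat.dvd_prime hq).1 h1).resolve_left (fun h1 => hV.2.1 (Subgroup.card_eq_one.1 h1))
        exact Or.inl ⟨normal_le_of_card_prime hcyc hq hqr V hVq H hd,
          normal_le_of_card_prime hcyc hq hqr V hVq K (hc ▸ hd)⟩
      · exact Or.inr (hVc ▸ Nat.Coprime.pow_right _ ((hq.coprime_iff_not_dvd).2 hd).symm)
    refine conj_of_quotient V hc hVsolv ?_ hcase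
    refine ih _ (hn ▸ card_quotient_lt hV.2.1) (G ⧸ V) rfl (cycAway_quotient hcyc V) _ _ ?_
      (card_map_eq_of_case V hc hcase)
    exact fun hrp hd => hr hrp (hd.trans (Subgroup.card_map_dvd H _))

theorem conj_of_card (r : ℕ) :
    ∀ (n : ℕ) (G : Type u) [Group G] [Finite G] [Group.IsSolvable G], Nat.card G = n → CycAway r G →
      (∀ p : ℕ, p.Prime → PConj p G) →
      ∀ H K : Subgroup G, Nat.card H = Nat.card K → ∃ g : G, MulAut.conj g • H = K := by
  intro n
  induction n using Nat.strong_induction_on with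
  | _ n ih =>
    intro G _ _ _ hn hcyc hD H K hc
    rcases subsingleton_or_nontrivial G with h | h
    · exact ⟨1, by rw [Subsingleton.elim H ⊥, Subsingleton.elim K ⊥]; simp⟩
    obtain ⟨V, hV⟩ := CfsgLib.MinNormal.exists_isMinNormal (G := G)
    have := hV.1
    obtain ⟨q, hq, hel, hVp, v, hv, hVc⟩ := hV.elementaryAbelian_of_solvable
    have := Fact.mk hq
    have hVsolv : Group.IsSolvable V := by
      have := hVp.isNilpotent
      infer_instance
    have hdo : (V ≤ H ∧ V ≤ K) ∨ ((Nat.card H).Coprime (Nat.card V)) →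
        ∃ g : G, MulAut.conj g • H = K := fun hcase =>
      conj_of_quotient V hc hVsolv (ih _ (hn ▸ card_quotient_lt hV.2.1) (G ⧸ V) rfl (cycAway_quotient hcyc V)
        (fun p hp => by have := Fact.mk hp; exact pConj_quotient (hD p hp) V) _ _
        (card_map_eq_of_case V hc hcase)) hcase
    set b := (Nat.card H).factorization q with hb
    by_cases hb0 : b = 0
    · refine hdo (Or.inr (hVc ▸ Nat.Coprime.pow_right _ ((hq.coprime_iff_not_dvd).2 ?_).symm))
      intro hd
      have := (hq.pow_dvd_iff_le_factorization Nat.card_pos.ne').1 (by rwa [pow_one] : q ^ 1 ∣ Nat.card H)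
      omega
    by_cases hbv : v ≤ b
    · refine hdo (Or.inl ?_)
      have key : ∀ L : Subgroup G, q ^ v ∣ Nat.card L → V ≤ L := by
        intro L hL
        obtain ⟨W, hW⟩ := Sylow.exists_subgroup_card_pow_prime q hL
        have hWc : Nat.card (W.map L.subtype) = q ^ v := by
          rw [Subgroup.card_map_of_injective L.subtype_injective, hW]
        obtain ⟨g, hg⟩ := pConj_smul (hD q hq) hVp (IsPGroup.of_card hWc) (hVc.trans hWc.symm)
        rw [conj_smul_normal] at hg
        rw [hg]
        exact Subgroup.map_subtype_le W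
      exact ⟨key H ((pow_dvd_pow q hbv).trans (Nat.ordProj_dvd _ _)),
        key K (hc ▸ (pow_dvd_pow q hbv).trans (Nat.ordProj_dvd _ _))⟩
    -- `q`-part inside `V`
    have hqr : q = r := by
      by_contra hqr
      apply hbv
      obtain ⟨P, hP⟩ := hVp.exists_le_sylow
      have hPc := hcyc q hq hqr P
      have hVcyc : IsCyclic V := isCyclic_of_injective (Subgroup.inclusion hP) (Subgroup.inclusion_injective hP)
      obtain ⟨gen, hgen⟩ := hVcyc.exists_ofOrder_eq_natCard
      have h1 : Nat.card V ∣ q := by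
        rw [← hgen, orderOf_dvd_iff_pow_eq_one]
        exact Subtype.ext (by simpa using hel.2 gen gen.2)
      rw [hVc] at h1
      have : q ^ v ≤ q ^ 1 := by rw [pow_one]; exact Nat.le_of_dvd hq.pos h1
      have := (Nat.pow_le_pow_iff_right hq.one_lt).1 this
      omega
    have key : ∀ L : Subgroup G, Nat.card L = Nat.card H →
        (Nat.card (V ⊓ L : Subgroup G)) = q ^ b := by
      intro L hL
      obtain ⟨Q⟩ : Nonempty (Sylow q L) := inferInstance
      set Q' := (Q : Subgroup L).map L.subtype with hQ'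
      have hQc : Nat.card Q' = q ^ b := by
        rw [hQ', Subgroup.card_map_of_injective L.subtype_injective, Sylow.card_eq_multiplicity, hL]
      obtain ⟨W, hW⟩ := Sylow.exists_subgroup_card_pow_prime q
        (show q ^ b ∣ Nat.card V from hVc ▸ pow_dvd_pow q (by omega))
      have hWc : Nat.card (W.map V.subtype) = q ^ b := by
        rw [Subgroup.card_map_of_injective V.subtype_injective, hW]
      obtain ⟨g, hg⟩ := pConj_smul (hD q hq) (IsPGroup.of_card hWc) (IsPGroup.of_card hQc) (hWc.trans hQc.symm)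
      have hQV : Q' ≤ V ⊓ L := by
        refine le_inf ?_ (Subgroup.map_subtype_le _)
        rw [← hg]
        exact (Subgroup.pointwise_smul_le_pointwise_smul_iff.2 (Subgroup.map_subtype_le W)).trans
          (conj_smul_normal V g).le
      obtain ⟨j, hj⟩ := IsPGroup.iff_card.1 (hVp.to_le (inf_le_left : V ⊓ L ≤ V))
      apply le_antisymm
      · rw [hj]
        apply Nat.pow_le_pow_right hq.pos
        rw [hb, ← hL]
        exact (hq.pow_dvd_iff_le_factorization Nat.card_pos.ne').1 (hj ▸ Subgroup.card_dvd_of_le inf_le_right)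
      · rw [← hQc]
        exact Nat.le_of_dvd Nat.card_pos (Subgroup.card_dvd_of_le hQV)
    obtain ⟨g₀, hg₀⟩ := pConj_smul (hD q hq) (hVp.to_le (inf_le_left : V ⊓ H ≤ V))
      (hVp.to_le (inf_le_left : V ⊓ K ≤ V)) ((key H rfl).trans (key K hc.symm).symm)
    set H' := MulAut.conj g₀ • H with hH'
    have hH'U : V ⊓ K ≤ H' := by
      rw [← hg₀]
      exact Subgroup.pointwise_smul_le_pointwise_smul_iff.2 inf_le_right
    have hH'c : Nat.card H' = Nat.card H := card_conj_smul H g₀
    have hU : V ⊓ H' = V ⊓ K :=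
      (Subgroup.eq_of_le_of_card_ge (le_inf inf_le_left hH'U) (by rw [key H' hH'c, key K hc.symm])).symm
    set U := V ⊓ K with hUdef
    have hUc : Nat.card U = q ^ b := key K hc.symm
    set L := Subgroup.normalizer (U : Set G) with hLdef
    have hnorm : ∀ M : Subgroup G, V ⊓ M = U → M ≤ L := by
      intro M hM x hx
      apply H79.mem_normalizer_of_conj_mem
      intro y hy
      rw [← hM] at hy ⊢
      exact ⟨(inferInstance : V.Normal).conj_mem y hy.1 x, M.mul_mem (M.mul_mem hx hy.2) (M.inv_mem hx)⟩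
    have hcompl : ∀ M : Subgroup G, V ⊓ M = U → Nat.card M = Nat.card H →
        ∃ M0 : Subgroup L, Nat.card M0 * q ^ b = Nat.card H ∧ M0.map L.subtype ≤ M ∧
          M = M0.map L.subtype ⊔ U := by
      intro M hM hMc
      have hUM : U ≤ M := hM ▸ inf_le_right
      have : (U.subgroupOf M).Normal :=
        Subgroup.normal_subgroupOf_of_le_normalizer (hnorm M hM)
      have hidx : ¬ q ∣ (U.subgroupOf M).index := by
        intro hd
        have h1 := (U.subgroupOf M).card_mul_index
        rw [card_subgroupOf hUM, hUc, hMc] at h1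
        have h2 : q ^ (b + 1) ∣ Nat.card H := by
          rw [← h1, pow_succ]
          exact Nat.mul_dvd_mul_left _ hd
        have := (hq.pow_dvd_iff_le_factorization Nat.card_pos.ne').1 h2
        omega
      obtain ⟨C, hC⟩ := Subgroup.exists_right_complement'_of_coprime (N := U.subgroupOf M)
        (by rw [card_subgroupOf hUM, hUc]; exact Nat.Coprime.pow_left _ ((hq.coprime_iff_not_dvd).2 hidx))
      refine ⟨(C.map M.subtype).subgroupOf L, ?_, ?_, ?_⟩
      · rw [card_subgroupOf ((Subgroup.map_subtype_le C).trans (hnorm M hM)),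
          Subgroup.card_map_of_injective M.subtype_injective, ← hUc, ← card_subgroupOf hUM, ← hMc,
          mul_comm, hC.card_mul]
      · exact (Subgroup.map_subgroupOf_eq_of_le ((Subgroup.map_subtype_le C).trans (hnorm M hM))).le.trans
          (Subgroup.map_subtype_le C)
      · rw [Subgroup.map_subgroupOf_eq_of_le ((Subgroup.map_subtype_le C).trans (hnorm M hM))]
        have h1 := congrArg (Subgroup.map M.subtype) hC.sup_eq_top
        rw [Subgroup.map_sup, Subgroup.map_subgroupOf_eq_of_le hUM, ← MonoidHom.range_eq_map,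
          Subgroup.range_subtype] at h1
        rw [sup_comm, h1]
    obtain ⟨A, hAc, hAle, -⟩ := hcompl H' hU hH'c
    obtain ⟨B, hBc, hBle, hBeq⟩ := hcompl K hUdef.symm hc.symm
    have hAB : Nat.card A = Nat.card B :=
      Nat.eq_of_mul_eq_mul_right (pow_pos hq.pos b) (hAc.trans hBc.symm)
    have hAr : r.Prime → ¬ r ∣ Nat.card A := by
      intro _ hd
      rw [← hqr] at hd
      have h2 : q ^ (b + 1) ∣ Nat.card H := by
        rw [← hAc, pow_succ, mul_comm (Nat.card A)]
        exact Nat.mul_dvd_mul_left _ hd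
      have := (hq.pow_dvd_iff_le_factorization Nat.card_pos.ne').1 h2
      omega
    obtain ⟨l, hl⟩ := conj_of_card_away r _ L rfl (cycAway_subgroup hcyc L) B A
      (fun hp hd => hAr hp (hAB ▸ hd)) hAB.symm
    refine ⟨(l : G)⁻¹ * g₀, ?_⟩
    rw [map_mul, mul_smul, map_inv, inv_smul_eq_iff]
    symm
    refine conj_smul_eq_of_le (conj_smul_le.2 ?_) (by rw [hH'c, hc])
    intro k hk
    rw [hBeq] at hk
    have hle : B.map L.subtype ⊔ U ≤ MulAut.conj (l : G)⁻¹ • H' := by
      refine sup_le ?_ ?_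
      · rintro _ ⟨y, hy, rfl⟩
        rw [mem_conj_smul, inv_inv]
        exact hAle ⟨_, (hl ▸ (conj_smul_le.1 le_rfl y hy) : l * y * l⁻¹ ∈ A), rfl⟩
      · intro x hx
        rw [mem_conj_smul, inv_inv]
        exact hH'U ((Subgroup.mem_normalizer_iff.1 l.2 x).1 hx)
    have h1 := hle hk
    rwa [mem_conj_smul, inv_inv] at h1

end H79.ConjSub
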