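import Cfsg.Agent.Lib.Transfer.NormalComplement
import Cfsg.Agent.H79Basic
import Mathlib

/-! Groups with a cyclic Sylow subgroup all of whose `p'`-subgroups are abelian: preliminaries. -/

set_option autoImplicit false

namespace H79.CycSylow

open Subgroup

universe u

/-- Every subgroup of order prime to `p` is abelian. -/
def AbP (p : ℕ) (G : Type u) [Group G] : Prop :=
  ∀ H : Subgroup G, ¬ p ∣ Nat.card H → IsMulCommutative H

variable {G : Type u} [Group G] [Finite G] {p : ℕ} [hp : Fact p.Prime]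

omit [Finite G] hp in
theorem abP_subgroup (h : AbP p G) (H : Subgroup G) : AbP p H := by
  intro K hK
  have := h (K.map H.subtype) (by rwa [Subgroup.card_map_of_injective H.subtype_injective])
  refine ⟨⟨fun a b => Subtype.ext (Subtype.ext ?_)⟩⟩
  have e := congrArg Subtype.val (this.is_comm.comm ⟨_, mem_map_of_mem H.subtype a.2⟩
    ⟨_, mem_map_of_mem H.subtype b.2⟩)
  simpa using e

omit [Finite G] hp in
theorem comm_of_abP (h : AbP p G) {H : Subgroup G} (hH : ¬ p ∣ Nat.card H) {a b : G} (ha : a ∈ H)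
    (hb : b ∈ H) : a * b = b * a :=
  congrArg Subtype.val ((h H hH).is_comm.comm ⟨a, ha⟩ ⟨b, hb⟩)

omit hp in
theorem card_comap (M : Subgroup G) [M.Normal] (K : Subgroup (G ⧸ M)) :
    Nat.card (K.comap (QuotientGroup.mk' M)) = Nat.card M * Nat.card K := by
  have h1 := (K.comap (QuotientGroup.mk' M)).card_mul_index
  rw [index_comap_of_surjective _ (QuotientGroup.mk'_surjective M)] at h1
  have h2 := K.card_mul_index
  have h3 : Nat.card G = Nat.card (G ⧸ M) * Nat.card M := card_eq_card_quotient_mul_card_subgroup M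
  apply Nat.eq_of_mul_eq_mul_right (Nat.pos_of_ne_zero K.index_ne_zero_of_finite)
  rw [h1, h3, ← h2]; ring

theorem abP_quotient (h : AbP p G) (M : Subgroup G) [M.Normal] (hM : ¬ p ∣ Nat.card M) :
    AbP p (G ⧸ M) := by
  intro K hK
  have hc : ¬ p ∣ Nat.card (K.comap (QuotientGroup.mk' M)) := by
    rw [card_comap, hp.out.dvd_mul]; tauto
  refine ⟨⟨fun a b => Subtype.ext ?_⟩⟩
  obtain ⟨a', ha⟩ := QuotientGroup.mk'_surjective M a.1
  obtain ⟨b', hb⟩ := QuotientGroup.mk'_surjective M b.1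
  show a.1 * b.1 = b.1 * a.1
  rw [← ha, ← hb, ← map_mul, ← map_mul, comm_of_abP h hc (a := a') (b := b')
    (show a' ∈ K.comap _ by rw [mem_comap, ha]; exact a.2)
    (show b' ∈ K.comap _ by rw [mem_comap, hb]; exact b.2)]

theorem npc_of_quotient (M : Subgroup G) [M.Normal] (hM : ¬ p ∣ Nat.card M)
    (h : Cfsg.HasNormalPComplement p (G ⧸ M)) : Cfsg.HasNormalPComplement p G := by
  haveI := CfsgLib.Transfer.pResidual_normal (G := G ⧸ M) (p := p)
  rw [CfsgLib.Transfer.hasNormalPComplement_iff] at h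
  set K := (Cfsg.pResidual p (G ⧸ M)).comap (QuotientGroup.mk' M) with hK
  haveI hKn : K.Normal := by rw [hK]; infer_instance
  refine CfsgLib.Transfer.hasNormalPComplement_of_coprime K ?_ ?_
  · rw [hK, card_comap, hp.out.dvd_mul]; tauto
  · obtain ⟨k, hk⟩ := CfsgLib.Transfer.pResidual_index_eq_pow (G := G ⧸ M) (p := p)
    refine IsPGroup.of_card (n := k) ?_
    rw [← Subgroup.index, hK, index_comap_of_surjective _ (QuotientGroup.mk'_surjective M), hk]

omit [Finite G] hp in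
theorem coprime_of_not_dvd_card {H : Subgroup G} [hp : Fact p.Prime] (h : ¬ p ∣ Nat.card H) {x : G}
    (hx : x ∈ H) : (orderOf x).Coprime p := by
  rw [Nat.coprime_comm, hp.out.coprime_iff_not_dvd]
  exact fun hd => h (hd.trans (H.orderOf_dvd_natCard hx))

theorem eq_one_of_coprime_of_mem {Q : Subgroup G} (hQ : IsPGroup p Q) {x : G}
    (hx : (orderOf x).Coprime p) (hxQ : x ∈ Q) : x = 1 := by
  obtain ⟨k, hk⟩ := hQ.exists_card_eq
  have h1 : orderOf x ∣ p ^ k := hk ▸ Q.orderOf_dvd_natCard hxQ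
  exact orderOf_eq_one_iff.1 (Nat.eq_one_of_dvd_coprimes (hx.pow_right k) dvd_rfl h1)

theorem mem_zpowers_of_cyclic {P : Subgroup G} (hP : IsCyclic P) {y z : G} (hy : y ∈ P) (hz : z ∈ P)
    (h : orderOf z ∣ orderOf y) : z ∈ zpowers y := by
  classical
  have := Fintype.ofFinite P
  set y' : P := ⟨y, hy⟩
  have hd : orderOf y' = orderOf y := Subgroup.orderOf_mk _ _
  have hsub : ((zpowers y' : Subgroup P) : Set P).toFinset ⊆
      Finset.univ.filter fun a : P => a ^ orderOf y = 1 := by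
    intro a ha
    rw [Set.mem_toFinset, SetLike.mem_coe] at ha
    simp only [Finset.mem_filter, Finset.mem_univ, true_and]
    exact orderOf_dvd_iff_pow_eq_one.1 (hd ▸ orderOf_dvd_of_mem_zpowers ha)
  have he := Finset.eq_of_subset_of_card_le hsub (by
    refine le_trans (IsCyclic.card_pow_eq_one_le (orderOf_pos y)) ?_
    rw [← hd, ← Nat.card_zpowers, Set.toFinset_card, Nat.card_eq_fintype_card]
    exact le_rfl)
  have hzm : (⟨z, hz⟩ : P) ∈ ((zpowers y' : Subgroup P) : Set P).toFinset := by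
    rw [he]
    simp only [Finset.mem_filter, Finset.mem_univ, true_and]
    exact orderOf_dvd_iff_pow_eq_one.1 ((Subgroup.orderOf_mk _ _).dvd.trans h)
  rw [Set.mem_toFinset, SetLike.mem_coe] at hzm
  obtain ⟨i, hi⟩ := mem_zpowers_iff.1 hzm
  exact mem_zpowers_iff.2 ⟨i, by simpa using congrArg Subtype.val hi⟩

omit [Finite G] hp in
theorem conj_pow_iter {g a : G} {s : ℕ} (h : g * a * g⁻¹ = a ^ s) (n : ℕ) :
    g ^ n * a * (g ^ n)⁻¹ = a ^ s ^ n := by
  induction n with
  | zero => simp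
  | succ n ih =>
    calc g ^ (n + 1) * a * (g ^ (n + 1))⁻¹ = g * (g ^ n * a * (g ^ n)⁻¹) * g⁻¹ := by
          rw [pow_succ']; group
      _ = (g * a * g⁻¹) ^ (s ^ n) := by rw [ih, conj_pow]
      _ = _ := by rw [h, ← pow_mul, ← pow_succ']

/-- A `p'`-element normalising a cyclic `p`-group and fixing a nontrivial element centralises it. -/
theorem centralizes_of_fixed {P : Subgroup G} (hP : IsPGroup p P) (hcyc : IsCyclic P) {g y : G}
    (hg : g ∈ normalizer (P : Set G)) (hgo : (orderOf g).Coprime p) (hy : y ∈ P) (hy1 : y ≠ 1)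
    (hgy : g * y = y * g) : ∀ z ∈ P, g * z = z * g := by
  obtain ⟨k, hk⟩ := hP.exists_card_eq
  obtain ⟨a', ha'⟩ := hcyc.exists_generator
  have hgen : ∀ z ∈ P, ∃ i : ℕ, z = (a' : G) ^ i := by
    intro z hz
    obtain ⟨i, hi⟩ := (Submonoid.mem_powers_iff _ _).1 (mem_powers_iff_mem_zpowers.2 (ha' ⟨z, hz⟩))
    exact ⟨i, by simpa using (congrArg Subtype.val hi).symm⟩
  set a : G := (a' : G)
  have hao : orderOf a ∣ p ^ k := hk ▸ P.orderOf_dvd_natCard a'.2
  obtain ⟨s, hs⟩ := hgen _ ((mem_normalizer_iff.1 hg a).1 a'.2)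
  obtain ⟨j, rfl⟩ := hgen y hy
  have hys : (a ^ j) ^ s = a ^ j := by
    rw [← pow_mul, mul_comm, pow_mul, ← hs, conj_pow, hgy, mul_inv_cancel_right]
  have hps : (p : ℤ) ∣ (s : ℤ) - 1 := by
    have hdvd : (orderOf (a ^ j) : ℤ) ∣ (s : ℤ) - 1 := by
      rw [orderOf_dvd_iff_zpow_eq_one, zpow_sub, zpow_natCast, zpow_one, hys, mul_inv_cancel]
    obtain ⟨i, -, hi⟩ := (Nat.dvd_prime_pow hp.out).1 ((orderOf_pow_dvd (x := a) j).trans hao)
    have hi0 : i ≠ 0 := fun e => hy1 (orderOf_eq_one_iff.1 (by rw [hi, e, pow_zero]))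
    refine Int.dvd_trans ?_ hdvd
    rw [hi]
    exact_mod_cast dvd_pow_self p hi0
  have hfix : g ^ p ^ k * a = a * g ^ p ^ k := by
    refine mul_inv_eq_iff_eq_mul.1 ?_
    rw [conj_pow_iter hs]
    have h1 : (orderOf a : ℤ) ∣ (s : ℤ) ^ p ^ k - 1 := by
      have h2 := dvd_sub_pow_of_dvd_sub (R := ℤ) hps k
      rw [one_pow] at h2
      refine (Int.natCast_dvd_natCast.2 hao).trans ?_
      push_cast
      exact (pow_dvd_pow _ k.le_succ).trans h2
    rw [orderOf_dvd_iff_zpow_eq_one, zpow_sub, zpow_one, mul_inv_eq_one] at h1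
    exact_mod_cast h1
  have hga : g * a = a * g := by
    obtain ⟨n, hn⟩ := exists_pow_eq_self_of_coprime
      (show (p ^ k).Coprime (orderOf g) from (hgo.symm).pow_left k)
    rw [← hn]
    exact (Commute.pow_left hfix n).eq
  intro z hz
  obtain ⟨i, rfl⟩ := hgen z hz
  exact (Commute.pow_right hga i).eq

/-- In a group with a normal `p`-complement, `p'`-elements fix the `p`-groups they normalise. -/
theorem commute_of_npc {H : Subgroup G} (h : Cfsg.HasNormalPComplement p H) {Q : Subgroup G}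
    (hQ : IsPGroup p Q) (hQH : Q ≤ H) {g : G} (hgH : g ∈ H) (hgo : (orderOf g).Coprime p)
    (hg : g ∈ normalizer (Q : Set G)) {y : G} (hy : y ∈ Q) : g * y = y * g := by
  haveI := CfsgLib.Transfer.pResidual_normal (G := H) (p := p)
  rw [CfsgLib.Transfer.hasNormalPComplement_iff] at h
  have hgK : (⟨g, hgH⟩ : H) ∈ Cfsg.pResidual p H :=
    CfsgLib.Transfer.mem_pResidual (by rwa [Subgroup.orderOf_mk])
  have hc : (⟨g, hgH⟩ : H) * (⟨y, hQH hy⟩ * ⟨g, hgH⟩⁻¹ * (⟨y, hQH hy⟩ : H)⁻¹) ∈ Cfsg.pResidual p H :=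
    mul_mem hgK (Normal.conj_mem inferInstance _ (inv_mem hgK) _)
  set z : G := g * (y * g⁻¹ * y⁻¹) with hz
  have hzo : (orderOf z).Coprime p := by
    have := coprime_of_not_dvd_card h hc
    rwa [← Subgroup.orderOf_coe] at this
  have hzQ : z ∈ Q := by
    rw [hz, show g * (y * g⁻¹ * y⁻¹) = (g * y * g⁻¹) * y⁻¹ by group]
    exact mul_mem ((mem_normalizer_iff.1 hg y).1 hy) (inv_mem hy)
  have h1 := eq_one_of_coprime_of_mem hQ hzo hzQ
  have h2 : g * y * g⁻¹ = y := mul_inv_eq_one.1 (by rw [← h1, hz]; group)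
  exact mul_inv_eq_iff_eq_mul.1 h2

/-- A `p`-element normalising a Sylow subgroup lies in it. -/
theorem mem_sylow_of_pow {P : Sylow p G} {x : G} (hx : x ∈ normalizer ((P : Subgroup G) : Set G))
    {k : ℕ} (hk : orderOf x ∣ p ^ k) : x ∈ (P : Subgroup G) :=
  CfsgLib.Transfer.isPGroup_mem_of_mem_normalizer P hx k (orderOf_dvd_iff_pow_eq_one.1 hk)

/-- Every `p`-element is conjugate into a given Sylow subgroup. -/
theorem exists_conj_mem_sylow (P : Sylow p G) {x : G} {k : ℕ} (hk : orderOf x ∣ p ^ k) :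
    ∃ g : G, g * x * g⁻¹ ∈ (P : Subgroup G) := by
  obtain ⟨i, -, hi⟩ := (Nat.dvd_prime_pow hp.out).1 hk
  obtain ⟨T, hT⟩ := (IsPGroup.of_card (p := p) (n := i)
    (by rw [Nat.card_zpowers, hi]) : IsPGroup p (zpowers x)).exists_le_sylow
  obtain ⟨h, rfl⟩ := MulAction.exists_smul_eq G P T
  have hxm := hT (mem_zpowers x)
  rw [Sylow.coe_subgroup_smul, mem_pointwise_smul_iff_inv_smul_mem] at hxm
  exact ⟨h⁻¹, by simpa [MulAut.smul_def] using hxm⟩

end H79.CycSylow
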