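import Cfsg.Agent.H79CycSylowSimple

/-! Simple groups with a cyclic Sylow subgroup and abelian `p'`-subgroups: nontrivial centraliser. -/

set_option autoImplicit false

namespace H79.CycSylow

open Subgroup CfsgLib.Involutions

universe u

variable {G : Type u} [Group G] [Finite G] {p : ℕ} [hp : Fact p.Prime] {P : Sylow p G} {D : Subgroup G}

local notation "N" => normalizer ((P : Subgroup G) : Set G)

/-- A nontrivial element of `D` centralising `P` has centraliser `N`. -/
theorem Conf.centralizer_E (h : Conf P D) {e : G} (he : e ∈ D) (he1 : e ≠ 1)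
    (hc : ∀ z ∈ (P : Subgroup G), e * z = z * e) {g : G} : g * e = e * g ↔ g ∈ N := by
  have hN : ∀ g ∈ N, g * e = e * g := by
    intro g hg
    obtain ⟨a, ha, f, hf, rfl⟩ := h.dec g hg
    rw [mul_assoc, h.commD hf he, ← mul_assoc, ← hc a ha, mul_assoc]
  refine ⟨fun hg => ?_, hN g⟩
  have hle := h.le_N (h.centralizer_ne_top he1)
    (fun z hz => Subgroup.mem_centralizer_singleton_iff.2 (hc z hz).symm)
    (fun f hf => Subgroup.mem_centralizer_singleton_iff.2 (h.commD hf he))
  exact hle (Subgroup.mem_centralizer_singleton_iff.2 hg)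

/-- A `p`-element of `N` lies in `P`. -/
theorem Conf.mem_P (h : Conf P D) {x : G} (hx : x ∈ N) {k : ℕ} (hk : orderOf x ∣ p ^ k) :
    x ∈ (P : Subgroup G) :=
  mem_sylow_of_pow hx hk

/-- An element of `P` normalising a subgroup of `D` centralises it. -/
theorem Conf.commute_of_normalizes (h : Conf P D) {R : Subgroup G} (hR : R ≤ D) {y : G}
    (hy : y ∈ (P : Subgroup G)) (hyR : ∀ r ∈ R, y * r * y⁻¹ ∈ R) : ∀ r ∈ R, r * y = y * r := by
  intro r hr
  have h1 : y * r * y⁻¹ * r⁻¹ ∈ D := hR (mul_mem (hyR r hr) (inv_mem hr))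
  have h2 : y * r * y⁻¹ * r⁻¹ ∈ (P : Subgroup G) := by
    rw [show y * r * y⁻¹ * r⁻¹ = y * (r * y⁻¹ * r⁻¹) by group]
    exact mul_mem hy ((mem_normalizer_iff.1 (h.leN (hR hr)) y⁻¹).1 (inv_mem hy))
  have h3 := h.P_inf_D h2 h1
  exact (mul_inv_eq_iff_eq_mul.1 (mul_inv_eq_one.1 h3)).symm

/-- There is no configuration with `C(P) ≠ P`. -/
theorem Conf.false_of_central (h : Conf P D)
    (hE : ∃ f ∈ D, (∀ z ∈ (P : Subgroup G), f * z = z * f) ∧ f ≠ 1) : False := by
  classical
  haveI := h.simple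
  -- the centraliser of `P` in `D`
  let E : Subgroup G := D ⊓ centralizer ((P : Subgroup G) : Set G)
  have hE' : ∀ f, f ∈ E ↔ f ∈ D ∧ ∀ z ∈ (P : Subgroup G), f * z = z * f := fun f => by
    simp only [E, Subgroup.mem_inf, Subgroup.mem_centralizer_iff, SetLike.mem_coe]
    exact and_congr_right fun _ => forall₂_congr fun z _ => eq_comm
  obtain ⟨f, hf, hfc, hf1⟩ := hE
  have hEbot : E ≠ ⊥ := fun e0 => hf1 (by
    have : f ∈ E := (hE' f).2 ⟨hf, hfc⟩
    rwa [e0, Subgroup.mem_bot] at this)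
  obtain ⟨d, hd, y₁, hy₁, hmoves⟩ := h.moves
  have hdE : d ∉ E := fun hdE => hmoves (((hE' d).1 hdE).2 y₁ hy₁)
  -- an element moving `D`
  obtain ⟨g₀, hg₀, hg₀N⟩ : ∃ g₀, g₀ ∈ normalizer (D : Set G) ∧ g₀ ∉ N := by
    obtain ⟨r, hr, hrE⟩ := Nat.exists_prime_and_dvd (fun e1 => hEbot (Subgroup.card_eq_one.1 e1))
    have : Fact r.Prime := ⟨hr⟩
    obtain ⟨e', he'⟩ := exists_prime_orderOf_dvd_card' (G := E) r hrE
    set e : G := (e' : G) with hedef
    obtain ⟨heD, hec⟩ := (hE' e).1 e'.2
    have heo : orderOf e = r := by rw [hedef, Subgroup.orderOf_coe]; exact he'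
    have he1 : e ≠ 1 := fun e0 => hr.one_lt.ne' (by rw [← heo, e0, orderOf_one])
    have hrp : r ≠ p := fun e0 => h.notdvd (e0 ▸ heo ▸ Subgroup.orderOf_dvd_natCard D heD)
    let R₀ : Sylow r D := default
    set T : Subgroup G := (R₀ : Subgroup D).map D.subtype with hT
    obtain ⟨R, hR⟩ := (R₀.2.map D.subtype).exists_le_sylow
    have hRp : ¬ p ∣ Nat.card (R : Subgroup G) := by
      obtain ⟨j, hj⟩ := R.2.exists_card_eq
      rw [show Nat.card (R : Subgroup G) = r ^ j from hj]
      exact fun hd => hrp.symm ((Nat.prime_dvd_prime_iff_eq hp.out hr).1 (hp.out.dvd_of_dvd_pow hd))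
    have heR : e ∈ (R : Subgroup G) := by
      refine hR ⟨⟨e, heD⟩, ?_, rfl⟩
      refine CfsgLib.Transfer.isPGroup_mem_of_mem_normalizer R₀
        (mem_normalizer_of_conj_mem _ fun x hx => ?_) 1
        (Subtype.ext (by simp [← heo, pow_orderOf_eq_one]))
      have : (⟨e, heD⟩ : D) * x * (⟨e, heD⟩ : D)⁻¹ = x := by
        rw [mul_inv_eq_iff_eq_mul]
        exact Subtype.ext (h.commD heD x.2)
      rw [this]; exact hx
    have hRN : (R : Subgroup G) ≤ N := fun a ha =>
      (h.centralizer_E heD he1 hec).1 (comm_of_abP h.ab hRp ha heR)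
    have hRD : (R : Subgroup G) ≤ D := by
      have hle : T ≤ (R : Subgroup G) := hR
      have hd1 : Nat.card (R : Subgroup G) ∣ Nat.card D := by
        have h1 := Subgroup.card_dvd_of_le hRN
        rw [h.cardN] at h1
        obtain ⟨j, hj⟩ := R.2.exists_card_eq
        obtain ⟨k, hk⟩ := P.2.exists_card_eq
        refine Nat.Coprime.dvd_of_dvd_mul_left ?_ h1
        rw [show Nat.card (R : Subgroup G) = r ^ j from hj, show Nat.card P = p ^ k from hk]
        exact ((Nat.coprime_primes hr hp.out).2 hrp).pow _ _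
      have hd2 : Nat.card (R : Subgroup G) ∣ Nat.card T := by
        rw [hT, Subgroup.card_map_of_injective D.subtype_injective]
        obtain ⟨j, hj⟩ := R.2.exists_card_eq
        rw [show Nat.card (R : Subgroup G) = r ^ j from hj] at hd1 ⊢
        exact R₀.pow_dvd_card_of_pow_dvd_card hd1
      rw [← Subgroup.eq_of_le_of_card_ge hle (Nat.le_of_dvd Nat.card_pos hd2), hT]
      exact Subgroup.map_subtype_le _
    obtain ⟨g, hgN, s, hs, hgs⟩ : ∃ g ∈ normalizer ((R : Subgroup G) : Set G),
        ∃ s ∈ (R : Subgroup G), s * g ≠ g * s := by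
      by_contra hcon
      push Not at hcon
      rcases CfsgLib.Transfer.simple_of_hasNormalPComplement
        (CfsgLib.Transfer.hasNormalPComplement_of_normalizer_le R fun g hg s hs => hcon g hg s hs) with e0 | e0
      · exact e0 (by rw [← heo]; exact _root_.orderOf_dvd_natCard e)
      · obtain ⟨j, hj⟩ := e0.exists_card_eq
        have hpG : p ∣ r ^ j := hj ▸ h.p_dvd.trans (P : Subgroup G).card_subgroup_dvd_card
        exact hrp.symm ((Nat.prime_dvd_prime_iff_eq hp.out hr).1 (hp.out.dvd_of_dvd_pow hpG))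
    by_cases hRE : ∀ a ∈ (R : Subgroup G), ∀ z ∈ (P : Subgroup G), a * z = z * a
    · exfalso
      have hgn : g ∈ N := by
        refine mem_normalizer_of_conj_mem _ fun z hz => ?_
        obtain ⟨k, hk⟩ := P.2.exists_card_eq
        refine h.mem_P (k := k) ((h.centralizer_E heD he1 hec).1 ?_) ?_
        · have ha : g⁻¹ * e * g ∈ (R : Subgroup G) := by
            have := (mem_normalizer_iff.1 (inv_mem hgN) e).1 heR
            simpa using this
          calc g * z * g⁻¹ * e = g * (z * (g⁻¹ * e * g)) * g⁻¹ := by group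
            _ = g * ((g⁻¹ * e * g) * z) * g⁻¹ := by rw [hRE _ ha z hz]
            _ = _ := by group
        · rw [show orderOf (g * z * g⁻¹) = orderOf z from MulEquiv.orderOf_eq (MulAut.conj g) z]
          exact hk ▸ (P : Subgroup G).orderOf_dvd_natCard hz
      obtain ⟨a, ha, f, hf, rfl⟩ := h.dec g hgn
      apply hgs
      rw [← mul_assoc, hRE s hs a ha, mul_assoc, h.commD (hRD hs) hf, ← mul_assoc]
    · push Not at hRE
      obtain ⟨a₀, ha₀, z₀, hz₀, hne₀⟩ := hRE
      refine ⟨g, mem_normalizer_of_conj_mem _ fun f hf => ?_, fun hgn => ?_⟩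
      · have hC : ∀ a : G, (∀ s ∈ (R : Subgroup G), a * s = s * a) → a ∈ D := by
          intro a ha
          obtain ⟨b, hb, f', hf', rfl⟩ := h.dec a ((h.centralizer_E heD he1 hec).1 (ha e heR))
          have hb' : ∀ s ∈ (R : Subgroup G), b * s = s * b := fun s hs => by
            apply mul_right_cancel (b := f')
            rw [mul_assoc, ← h.commD hf' (hRD hs), ← mul_assoc, ha s hs, mul_assoc]
          have hb1 : b = 1 := by
            by_contra hb1
            exact hne₀ (h.centralizes (hRD ha₀) hb hb1 (hb' a₀ ha₀).symm z₀ hz₀)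
          rw [hb1, one_mul]; exact hf'
        refine hC _ fun s hs => ?_
        have ha : g⁻¹ * s * g ∈ (R : Subgroup G) := by
          have := (mem_normalizer_iff.1 (inv_mem hgN) s).1 hs
          simpa using this
        calc g * f * g⁻¹ * s = g * (f * (g⁻¹ * s * g)) * g⁻¹ := by group
          _ = g * ((g⁻¹ * s * g) * f) * g⁻¹ := by rw [h.commD hf (hRD ha)]
          _ = _ := by group
      · obtain ⟨b, hb, f', hf', rfl⟩ := h.dec g hgn
        have hbR : ∀ s ∈ (R : Subgroup G), b * s * b⁻¹ ∈ (R : Subgroup G) := by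
          intro s hs
          have := (mem_normalizer_iff.1 hgN s).1 hs
          rwa [show b * f' * s * (b * f')⁻¹ = b * (f' * s * f'⁻¹) * b⁻¹ by group,
            h.commD hf' (hRD hs), mul_inv_cancel_right] at this
        have hc := h.commute_of_normalizes hRD hb hbR s hs
        apply hgs
        rw [← mul_assoc, hc, mul_assoc, h.commD (hRD hs) hf', ← mul_assoc]
  -- an element of order `p` normalising `D`
  have hDne : D ≠ ⊥ := fun e0 => hf1 (by rwa [e0, Subgroup.mem_bot] at hf)
  have hDtop : D ≠ ⊤ := fun e0 => h.notdvd (by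
    rw [e0, Subgroup.card_top]; exact h.p_dvd.trans (P : Subgroup G).card_subgroup_dvd_card)
  have hM : p ∣ Nat.card (normalizer (D : Set G)) := by
    by_contra hnd
    apply hg₀N
    obtain ⟨hfE1, hfE2⟩ := (hE' f).1 ((hE' f).2 ⟨hf, hfc⟩)
    exact (h.centralizer_E hfE1 hf1 hfE2).1 (comm_of_abP h.ab hnd hg₀ (Subgroup.le_normalizer hf))
  obtain ⟨x', hx'⟩ := exists_prime_orderOf_dvd_card' p hM
  set x : G := (x' : G) with hxdef
  have hxo : orderOf x = p := by rw [hxdef, Subgroup.orderOf_coe]; exact hx'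
  have hxD : ∀ a ∈ D, x * a * x⁻¹ ∈ D := fun a ha => (mem_normalizer_iff.1 x'.2 a).1 ha
  have hxN : x ∉ N := by
    intro hxn
    have hxP := h.mem_P (k := 1) hxn (by rw [hxo, pow_one])
    have hc := h.commute_of_normalizes le_rfl hxP hxD d hd
    exact hmoves (h.centralizes hd hxP (fun e0 => hp.out.one_lt.ne' (by rw [← hxo, e0, orderOf_one]))
      hc y₁ hy₁)
  have hfpf : ∀ a ∈ D, x * a * x⁻¹ = a → a = 1 := by
    intro a ha hfix
    by_contra ha1
    have hax : x * a = a * x := mul_inv_eq_iff_eq_mul.1 hfix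
    obtain ⟨c, hc⟩ := exists_conj_mem_sylow P (k := 1) (by rw [hxo, pow_one] : orderOf x ∣ p ^ 1)
    set z := c * x * c⁻¹ with hz
    have hz1 : z ≠ 1 := fun e0 => by
      rw [show x = 1 by simpa [hz] using e0, orderOf_one] at hxo
      exact hp.out.one_lt.ne hxo
    set a' := c * a * c⁻¹ with ha'
    have ha'z : a' * z = z * a' := by
      calc a' * z = c * (a * x) * c⁻¹ := by rw [ha', hz]; group
        _ = c * (x * a) * c⁻¹ := by rw [hax]
        _ = z * a' := by rw [ha', hz]; group
    have ha'N : a' ∈ N := h.centralizer_le_N hc hz1 ha'z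
    obtain ⟨b, hb, f', hf', hbf⟩ := h.dec a' ha'N
    have hf'z : f' * z = z * f' := by
      apply mul_left_cancel (a := b)
      rw [← mul_assoc, ← hbf, ha'z, hbf, ← mul_assoc, ← h.commP hb hc, mul_assoc]
    have hf'c := h.centralizes hf' hc hz1 hf'z
    have ha'o : (orderOf a').Coprime p := by
      rw [ha', show orderOf (c * a * c⁻¹) = orderOf a from MulEquiv.orderOf_eq (MulAut.conj c) a]
      exact h.coprime ha
    have hb1 : b = 1 := by
      have hbcomm : Commute b f' := (hf'c b hb).symm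
      have h1 : b ^ (orderOf a' * orderOf f') = 1 := by
        have h2 : a' ^ (orderOf a' * orderOf f') = 1 := by rw [pow_mul, pow_orderOf_eq_one, one_pow]
        rwa [hbf, hbcomm.mul_pow, pow_mul' f', pow_orderOf_eq_one, one_pow, mul_one, ← hbf] at h2
      refine eq_one_of_coprime_of_mem P.2 ?_ hb
      exact (ha'o.mul_left (h.coprime hf')).coprime_dvd_left (orderOf_dvd_of_pow_eq_one h1)
    rw [hb1, one_mul] at hbf
    have ha'D : a' ∈ D := hbf ▸ hf'
    have ha'1 : a' ≠ 1 := fun e0 => ha1 (by simpa [ha'] using e0)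
    have hcomm : z * (c * d * c⁻¹) = (c * d * c⁻¹) * z := by
      have hd'N : c * d * c⁻¹ ∈ N := (h.centralizer_E ha'D ha'1 (hbf ▸ hf'c)).1 (by
        calc c * d * c⁻¹ * a' = c * (d * a) * c⁻¹ := by rw [ha']; group
          _ = c * (a * d) * c⁻¹ := by rw [h.commD hd ha]
          _ = a' * (c * d * c⁻¹) := by rw [ha']; group)
      have h1 : z * (c * d * c⁻¹) * z⁻¹ * (c * d * c⁻¹)⁻¹ ∈ (P : Subgroup G) := by
        rw [show z * (c * d * c⁻¹) * z⁻¹ * (c * d * c⁻¹)⁻¹ =
          z * ((c * d * c⁻¹) * z⁻¹ * (c * d * c⁻¹)⁻¹) by group]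
        exact mul_mem hc ((mem_normalizer_iff.1 hd'N z⁻¹).1 (inv_mem hc))
      have h2 : (orderOf (z * (c * d * c⁻¹) * z⁻¹ * (c * d * c⁻¹)⁻¹)).Coprime p := by
        rw [show z * (c * d * c⁻¹) * z⁻¹ * (c * d * c⁻¹)⁻¹ = c * (x * d * x⁻¹ * d⁻¹) * c⁻¹ by rw [hz]; group,
          show orderOf (c * (x * d * x⁻¹ * d⁻¹) * c⁻¹) = orderOf (x * d * x⁻¹ * d⁻¹) from
            MulEquiv.orderOf_eq (MulAut.conj c) _]
        exact h.coprime (mul_mem (hxD d hd) (inv_mem hd))
      have h3 := eq_one_of_coprime_of_mem P.2 h2 h1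
      exact mul_inv_eq_iff_eq_mul.1 (mul_inv_eq_one.1 h3)
    have hxd : x * d = d * x := by
      apply mul_left_cancel (a := c); apply mul_right_cancel (b := c⁻¹)
      calc c * (x * d) * c⁻¹ = z * (c * d * c⁻¹) := by rw [hz]; group
        _ = (c * d * c⁻¹) * z := hcomm
        _ = _ := by rw [hz]; group
    -- `x` centralises every element of `D`
    have hxall : ∀ b ∈ D, x * b = b * x := by
      intro b hbD
      have hd'N : c * b * c⁻¹ ∈ N := (h.centralizer_E ha'D ha'1 (hbf ▸ hf'c)).1 (by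
        calc c * b * c⁻¹ * a' = c * (b * a) * c⁻¹ := by rw [ha']; group
          _ = c * (a * b) * c⁻¹ := by rw [h.commD hbD ha]
          _ = a' * (c * b * c⁻¹) := by rw [ha']; group)
      have h1 : z * (c * b * c⁻¹) * z⁻¹ * (c * b * c⁻¹)⁻¹ ∈ (P : Subgroup G) := by
        rw [show z * (c * b * c⁻¹) * z⁻¹ * (c * b * c⁻¹)⁻¹ =
          z * ((c * b * c⁻¹) * z⁻¹ * (c * b * c⁻¹)⁻¹) by group]
        exact mul_mem hc ((mem_normalizer_iff.1 hd'N z⁻¹).1 (inv_mem hc))
      have h2 : (orderOf (z * (c * b * c⁻¹) * z⁻¹ * (c * b * c⁻¹)⁻¹)).Coprime p := by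
        rw [show z * (c * b * c⁻¹) * z⁻¹ * (c * b * c⁻¹)⁻¹ = c * (x * b * x⁻¹ * b⁻¹) * c⁻¹ by rw [hz]; group,
          show orderOf (c * (x * b * x⁻¹ * b⁻¹) * c⁻¹) = orderOf (x * b * x⁻¹ * b⁻¹) from
            MulEquiv.orderOf_eq (MulAut.conj c) _]
        exact h.coprime (mul_mem (hxD b hbD) (inv_mem hbD))
      have h3 := eq_one_of_coprime_of_mem P.2 h2 h1
      apply mul_left_cancel (a := c); apply mul_right_cancel (b := c⁻¹)
      calc c * (x * b) * c⁻¹ = z * (c * b * c⁻¹) := by rw [hz]; group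
        _ = (c * b * c⁻¹) * z := mul_inv_eq_iff_eq_mul.1 (mul_inv_eq_one.1 h3)
        _ = _ := by rw [hz]; group
    exact hxN ((h.centralizer_E hf hf1 hfc).1 (hxall f hf))
  -- conjugates of `E` under `x` meet trivially
  have hxE : ∀ a ∈ E, x * a * x⁻¹ ∈ E → a = 1 := by
    intro a ha ha'
    by_contra ha1
    obtain ⟨haD, hac⟩ := (hE' a).1 ha
    obtain ⟨hbD, hbc⟩ := (hE' _).1 ha'
    have hb1 : x * a * x⁻¹ ≠ 1 := fun e0 => ha1 (by simpa using e0)
    have hnorm : ∀ g, g ∈ N → x * g * x⁻¹ ∈ N := by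
      intro g hg
      refine (h.centralizer_E hbD hb1 hbc).1 ?_
      calc x * g * x⁻¹ * (x * a * x⁻¹) = x * (g * a) * x⁻¹ := by group
        _ = x * (a * g) * x⁻¹ := by rw [(h.centralizer_E haD ha1 hac).2 hg]
        _ = _ := by group
    apply hxN
    refine mem_normalizer_of_conj_mem _ fun z hz => ?_
    obtain ⟨k, hk⟩ := P.2.exists_card_eq
    refine h.mem_P (k := k) (hnorm z (Subgroup.le_normalizer hz)) ?_
    rw [show orderOf (x * z * x⁻¹) = orderOf z from MulEquiv.orderOf_eq (MulAut.conj x) z]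
    exact hk ▸ (P : Subgroup G).orderOf_dvd_natCard hz
  -- the action on the subgroup of order `p`
  obtain ⟨z', hz'⟩ := exists_prime_orderOf_dvd_card' (G := (P : Subgroup G)) p h.p_dvd
  set z : G := (z' : G) with hzdef
  have hzo : orderOf z = p := by rw [hzdef, Subgroup.orderOf_coe]; exact hz'
  have hz1 : z ≠ 1 := fun e0 => hp.out.one_lt.ne' (by rw [← hzo, e0, orderOf_one])
  have hzk : ∀ a ∈ D, ∃ i : ℕ, a * z * a⁻¹ = z ^ i := by
    intro a ha
    obtain ⟨i, hi⟩ := (Submonoid.mem_powers_iff _ _).1 (mem_powers_iff_mem_zpowers.2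
      (mem_zpowers_of_cyclic h.cyc z'.2 ((mem_normalizer_iff.1 (h.leN ha) z).1 z'.2)
        (dvd_of_eq (MulEquiv.orderOf_eq (MulAut.conj a) z))))
    exact ⟨i, hi.symm⟩
  choose! κ hκ using hzk
  have hκeq : ∀ i j : ℕ, z ^ i = z ^ j ↔ (i : ZMod p) = (j : ZMod p) := fun i j => by
    rw [pow_eq_pow_iff_modEq, hzo, ZMod.natCast_eq_natCast_iff]
  let ψ₀ : D →* ZMod p :=
    { toFun := fun a => (κ a.1 : ZMod p)
      map_one' := by
        rw [show (1 : ZMod p) = ((1 : ℕ) : ZMod p) by simp, ← hκeq, ← hκ _ (1 : D).2]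
        simp
      map_mul' := fun a b => by
        rw [← Nat.cast_mul, ← hκeq, ← hκ _ (a * b).2, pow_mul, ← hκ _ a.2, conj_pow, ← hκ _ b.2]
        simp only [Subgroup.coe_mul]
        group }
  let ψ : D →* (ZMod p)ˣ := ψ₀.toHomUnits
  have hker : ∀ a : D, ψ a = 1 ↔ (a : G) ∈ E := by
    intro a
    rw [Units.ext_iff, MonoidHom.coe_toHomUnits, Units.val_one]
    show (κ a.1 : ZMod p) = 1 ↔ _
    rw [show (1 : ZMod p) = ((1 : ℕ) : ZMod p) by simp, ← hκeq, ← hκ _ a.2, pow_one, hE']
    constructor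
    · intro e0
      exact ⟨a.2, h.centralizes a.2 z'.2 hz1 (mul_inv_eq_iff_eq_mul.1 e0)⟩
    · rintro ⟨-, hc⟩
      rw [hc z z'.2, mul_inv_cancel_right]
  have hrange : Nat.card ψ.range ∣ p - 1 := by
    refine (Subgroup.card_subgroup_dvd_card _).trans ?_
    rw [Nat.card_eq_fintype_card, ZMod.card_units]
  -- `E` embeds into the range
  have hED : E ≤ D := inf_le_left
  let j : E →* (ZMod p)ˣ :=
    { toFun := fun a => ψ ⟨x * a.1 * x⁻¹, hxD _ (hED a.2)⟩
      map_one' := by
        rw [show (⟨x * ((1 : E) : G) * x⁻¹, hxD _ (hED (1 : E).2)⟩ : D) = 1 from Subtype.ext (by simp),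
          map_one]
      map_mul' := fun a b => by
        rw [← map_mul]
        congr 1
        exact Subtype.ext (by simp) }
  have hj : Function.Injective j := by
    rw [injective_iff_map_eq_one]
    intro a ha
    exact Subtype.ext (hxE _ a.2 ((hker _).1 ha))
  have hEcard : Nat.card E ∣ Nat.card ψ.range := by
    rw [Nat.card_congr (MonoidHom.ofInjective hj).toEquiv]
    refine Subgroup.card_dvd_of_le ?_
    rintro _ ⟨a, rfl⟩
    exact ⟨_, rfl⟩
  haveI : IsCyclic E := isCyclic_of_injective j hj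
  have hprime : ∀ r : ℕ, r.Prime → r ∣ Nat.card E → r = 2 ∧ p = 3 := by
    intro r hr hrE
    have : Fact r.Prime := ⟨hr⟩
    have hrp1 : r ∣ p - 1 := hrE.trans (hEcard.trans hrange)
    have hrlt : r < p := by
      have := Nat.le_of_dvd (by have := hp.out.two_le; omega) hrp1
      have := hp.out.two_le
      omega
    obtain ⟨e', he'⟩ := exists_prime_orderOf_dvd_card' (G := E) r hrE
    let T : Subgroup D :=
      { carrier := {a | a ^ r = 1}
        one_mem' := one_pow r
        mul_mem' := fun {a b} ha hb => by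
          show (a * b) ^ r = 1
          rw [(show Commute a b from Subtype.ext (h.commD a.2 b.2)).mul_pow, ha, hb, one_mul]
        inv_mem' := fun {a} ha => by
          show a⁻¹ ^ r = 1
          rw [inv_pow, ha, inv_one] }
    have hmemT : ∀ a : D, a ∈ T ↔ a ^ r = 1 := fun a => Iff.rfl
    set χ : T →* (ZMod p)ˣ := ψ.comp T.subtype with hχ
    have hmul : Nat.card T = Nat.card χ.range * Nat.card χ.ker := by
      rw [Subgroup.card_eq_card_quotient_mul_card_subgroup χ.ker,
        Nat.card_congr (QuotientGroup.quotientKerEquivRange χ).toEquiv]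
    -- the image has order `r`
    have hbound : ∀ (K : Subgroup (ZMod p)ˣ), (∀ u ∈ K, u ^ r = 1) → Nat.card K ≤ r := by
      intro K hK
      classical
      rw [Nat.card_eq_fintype_card, Fintype.card_subtype]
      refine le_trans (Finset.card_le_card fun u hu => ?_) (IsCyclic.card_pow_eq_one_le (α := (ZMod p)ˣ) hr.pos)
      simp only [Finset.mem_filter, Finset.mem_univ, true_and] at hu ⊢
      exact hK u hu
    have hee : ((e' : G)) ∈ D := hED e'.2
    have hero : (⟨(e' : G), hee⟩ : D) ^ r = 1 := by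
      refine Subtype.ext ?_
      have := congrArg Subtype.val (pow_orderOf_eq_one e')
      rw [he'] at this
      simpa using this
    have he'1 : (e' : G) ≠ 1 := fun e0 => by
      rw [show e' = 1 from Subtype.ext e0, orderOf_one] at he'
      exact hr.one_lt.ne he'
    have hrlow1 : r ≤ Nat.card χ.ker := by
      have hm : (⟨⟨(e' : G), hee⟩, hero⟩ : T) ∈ χ.ker := (hker _).2 e'.2
      have h1 := Subgroup.orderOf_dvd_natCard χ.ker hm
      rw [orderOf_eq_prime (by exact Subtype.ext hero) (fun e0 => he'1 (by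
        simpa using congrArg (fun t : T => ((t : D) : G)) e0))] at h1
      exact Nat.le_of_dvd Nat.card_pos h1
    have hrlow2 : r ≤ Nat.card χ.range := by
      have hm : (⟨x * (e' : G) * x⁻¹, hxD _ hee⟩ : D) ^ r = 1 := by
        refine Subtype.ext ?_
        have := congrArg (fun t : D => x * (t : G) * x⁻¹) hero
        simpa [conj_pow] using this
      have hu : χ ⟨_, hm⟩ ≠ 1 := fun e0 => he'1 (hxE _ e'.2 ((hker _).1 e0))
      have h1 := Subgroup.orderOf_dvd_natCard χ.range (MonoidHom.mem_range.2 ⟨_, rfl⟩ : χ ⟨_, hm⟩ ∈ χ.range)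
      rw [orderOf_eq_prime (by rw [← map_pow, show (⟨_, hm⟩ : T) ^ r = 1 from Subtype.ext hm, map_one]) hu] at h1
      exact Nat.le_of_dvd Nat.card_pos h1
    have hup1 : Nat.card χ.range ≤ r := hbound _ (by
      rintro _ ⟨a, rfl⟩
      rw [← map_pow, show a ^ r = 1 from Subtype.ext a.2, map_one])
    have hup2 : Nat.card χ.ker ≤ r := by
      let i : χ.ker →* E :=
        { toFun := fun a => ⟨((a : T) : D), (hker _).1 a.2⟩
          map_one' := rfl
          map_mul' := fun a b => rfl }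
      have hi : Function.Injective i := fun a b e0 => by
        have e1 : (((a : T) : D) : G) = (((b : T) : D) : G) := congrArg (fun w : E => (w : G)) e0
        exact Subtype.ext (Subtype.ext (Subtype.ext e1))
      rw [Nat.card_congr (MonoidHom.ofInjective hi).toEquiv]
      classical
      have := Fintype.ofFinite E
      rw [Nat.card_eq_fintype_card, Fintype.card_subtype]
      refine le_trans (Finset.card_le_card fun u hu => ?_) (IsCyclic.card_pow_eq_one_le (α := E) hr.pos)
      simp only [Finset.mem_filter, Finset.mem_univ, true_and] at hu ⊢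
      obtain ⟨a, rfl⟩ := hu
      rw [← map_pow, show a ^ r = 1 from Subtype.ext (Subtype.ext (a : T).2), map_one]
    have hT : Nat.card T = r * r := by
      rw [hmul, le_antisymm hup1 hrlow2, le_antisymm hup2 hrlow1]
    -- `x` has a single fixed point on `T`
    have hmap : ∀ a : T, (⟨x * ((a : D) : G) * x⁻¹, hxD _ (a : D).2⟩ : D) ∈ T := fun a => by
      rw [hmemT]
      refine Subtype.ext ?_
      have := congrArg (fun t : D => x * (t : G) * x⁻¹) ((hmemT _).1 a.2)
      simpa [conj_pow] using this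
    have := Fintype.ofFinite T
    let σ : Equiv.Perm T :=
      Equiv.ofBijective (fun a => ⟨⟨x * ((a : D) : G) * x⁻¹, hxD _ (a : D).2⟩, hmap a⟩)
        (Finite.injective_iff_bijective.1 fun a b e0 => Subtype.ext (Subtype.ext (by
          simpa using congrArg (fun t : T => ((t : D) : G)) e0)))
    have hσn : ∀ n : ℕ, ∀ a : T, (((σ ^ n) a : T) : D).1 = x ^ n * ((a : D) : G) * (x ^ n)⁻¹ := by
      intro n
      induction n with
      | zero => intro s; simp
      | succ n ih =>
        intro s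
        rw [pow_succ', Equiv.Perm.mul_apply]
        show x * ((((σ ^ n) s : T) : D) : G) * x⁻¹ = _
        rw [ih, pow_succ']
        group
    have hσ : σ ^ p ^ 1 = 1 := Equiv.ext fun s => Subtype.ext (Subtype.ext (by
      rw [hσn, pow_one, ← hxo, pow_orderOf_eq_one]; simp))
    have hcong := Equiv.Perm.card_compl_support_modEq hσ
    have hone : σ.supportᶜ = {1} := by
      ext a
      simp only [Finset.mem_compl, Equiv.Perm.mem_support, not_not, Finset.mem_singleton]
      constructor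
      · intro ha
        exact Subtype.ext (Subtype.ext (hfpf _ (a : D).2 (congrArg (fun t : T => ((t : D) : G)) ha)))
      · rintro rfl
        exact Subtype.ext (Subtype.ext (by show x * 1 * x⁻¹ = 1; simp))
    rw [hone, Finset.card_singleton, ← Nat.card_eq_fintype_card, hT] at hcong
    have hd2 : p ∣ (r - 1) * (r + 1) := by
      have := (Nat.modEq_iff_dvd' (Nat.one_le_iff_ne_zero.2 (Nat.mul_ne_zero hr.ne_zero hr.ne_zero))).1 hcong
      rwa [show r * r - 1 = (r - 1) * (r + 1) by
        have := hr.two_le; obtain ⟨q, rfl⟩ := Nat.exists_eq_add_of_le this; simp only [Nat.add_sub_cancel_left, show 2 + q - 1 = q + 1 by omega]; rw [Nat.sub_eq_of_eq_add]; ring] at this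
    rcases hp.out.dvd_mul.1 hd2 with h1 | h1
    · have := Nat.le_of_dvd (by have := hr.two_le; omega) h1
      omega
    · have hle := Nat.le_of_dvd (by omega) h1
      have hpe : p = r + 1 := by omega
      rcases hr.eq_two_or_odd' with rfl | hodd
      · exact ⟨rfl, hpe⟩
      · exfalso
        exact h.p_ne_two ((Nat.prime_dvd_prime_iff_eq Nat.prime_two hp.out).1
          (hpe ▸ hodd.add_one.two_dvd)).symm
  have hp3 : p = 3 := by
    obtain ⟨r, hr, hrE⟩ := Nat.exists_prime_and_dvd (fun e1 => hEbot (Subgroup.card_eq_one.1 e1))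
    exact (hprime r hr hrE).2
  subst hp3
  have hE2 : Nat.card E = 2 := by
    have h1 := Nat.le_of_dvd (by norm_num) (hEcard.trans hrange)
    have h2 : Nat.card E ≠ 1 := fun e1 => hEbot (Subgroup.card_eq_one.1 e1)
    have h3 : 0 < Nat.card E := Nat.card_pos
    omega
  have hR2 : Nat.card ψ.range = 2 := by
    have h1 := Nat.le_of_dvd (by norm_num) hrange
    have h2 := Nat.le_of_dvd Nat.card_pos hEcard
    omega
  have hD4 : Nat.card D = 4 := by
    have hkerE : Nat.card ψ.ker = Nat.card E :=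
      Nat.card_congr
        { toFun := fun a => ⟨(a : D), (hker _).1 a.2⟩
          invFun := fun a => ⟨⟨a, hED a.2⟩, (hker _).2 a.2⟩
          left_inv := fun a => rfl
          right_inv := fun a => rfl }
    rw [Subgroup.card_eq_card_quotient_mul_card_subgroup ψ.ker,
      Nat.card_congr (QuotientGroup.quotientKerEquivRange ψ).toEquiv, hR2, hkerE, hE2]
  obtain ⟨e', he'⟩ := exists_prime_orderOf_dvd_card' (G := E) 2 (by rw [hE2])
  set e : G := (e' : G) with hedef
  obtain ⟨heD, hec⟩ := (hE' e).1 e'.2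
  have heo : orderOf e = 2 := by rw [hedef, Subgroup.orderOf_coe]; exact he'
  have he1 : e ≠ 1 := ne_one_of_involution heo
  have hCP : ∀ g : G, g ∈ centralizer ((P : Subgroup G) : Set G) ↔
      ∃ a ∈ (P : Subgroup G), ∃ b ∈ E, g = a * b := by
    intro g
    rw [Subgroup.mem_centralizer_iff]
    constructor
    · intro hg
      obtain ⟨a, ha, b, hb, rfl⟩ := h.dec g (mem_normalizer_of_conj_mem _ fun w hw => by
        rw [← hg w hw, mul_inv_cancel_right]; exact hw)
      refine ⟨a, ha, b, (hE' b).2 ⟨hb, fun w hw => ?_⟩, rfl⟩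
      apply mul_left_cancel (a := a)
      rw [← mul_assoc, ← hg w hw, ← mul_assoc, ← mul_assoc, h.commP ha hw]
    · rintro ⟨a, ha, b, hb, rfl⟩ w hw
      rw [← mul_assoc, h.commP hw ha, mul_assoc, ← ((hE' b).1 hb).2 w hw, ← mul_assoc]
  obtain ⟨k, hk⟩ := P.2.exists_card_eq
  have hcardP : Nat.card P = 3 ^ k := hk
  have hCcard : Nat.card (centralizer ((P : Subgroup G) : Set G)) = 2 * Nat.card P := by
    let φ : ↥(P : Subgroup G) × ↥E → centralizer ((P : Subgroup G) : Set G) :=
      fun w => ⟨w.1.1 * w.2.1, (hCP _).2 ⟨_, w.1.2, _, w.2.2, rfl⟩⟩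
    have hφ : Function.Bijective φ := by
      refine ⟨fun w w' e0 => ?_, fun g => ?_⟩
      · have e1 : w.1.1 * w.2.1 = w'.1.1 * w'.2.1 := congrArg Subtype.val e0
        have e2 : w'.1.1⁻¹ * w.1.1 = w'.2.1 * w.2.1⁻¹ := by
          apply mul_right_cancel (b := w.2.1)
          apply mul_left_cancel (a := w'.1.1)
          simp [mul_assoc, e1]
        have e3 := h.P_inf_D (mul_mem (inv_mem w'.1.2) w.1.2)
          (e2 ▸ mul_mem (hED w'.2.2) (inv_mem (hED w.2.2)))
        refine Prod.ext (Subtype.ext (inv_mul_eq_one.1 e3).symm) (Subtype.ext ?_)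
        rw [e2] at e3
        exact (mul_inv_eq_one.1 e3).symm
      · obtain ⟨a, ha, b, hb, e0⟩ := (hCP _).1 g.2
        exact ⟨(⟨a, ha⟩, ⟨b, hb⟩), Subtype.ext e0.symm⟩
    rw [← Nat.card_congr (Equiv.ofBijective φ hφ), Nat.card_prod, hE2, mul_comm]
  have hEel : ∀ b ∈ E, b = 1 ∨ b = e := by
    intro b hb
    have hb2 : (⟨b, hb⟩ : E) ^ Nat.card E = 1 := pow_card_eq_one'
    by_contra hcon
    push Not at hcon
    have hs : ({1, ⟨e, e'.2⟩, ⟨b, hb⟩} : Set E).ncard = 3 := by
      rw [Set.ncard_insert_of_notMem, Set.ncard_pair]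
      · exact fun e0 => hcon.2 (congrArg Subtype.val e0).symm
      · simp only [Set.mem_insert_iff, Set.mem_singleton_iff, not_or]
        exact ⟨fun e0 => he1 (congrArg Subtype.val e0).symm, fun e0 => hcon.1 (congrArg Subtype.val e0).symm⟩
    have hle := Set.ncard_le_ncard (Set.subset_univ ({1, ⟨e, e'.2⟩, ⟨b, hb⟩} : Set E))
    rw [Set.ncard_univ, hE2, hs] at hle
    omega
  have hodd := h.P_odd
  have hTI : Cfsg.IsTISubset (centralizer ((P : Subgroup G) : Set G) : Set G) := by
    intro g hg c hc hgc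
    by_contra hc1
    apply hg
    have hgN : g ∈ (normalizer ((P : Subgroup G) : Set G)) := by
      obtain ⟨a, ha, b, hb, rfl⟩ := (hCP c).1 hc
      obtain ⟨a', ha', b', hb', e0⟩ := (hCP _).1 hgc
      have hee : e * e = 1 := mul_self_eq_one heo
      have hsq : ∀ b ∈ E, b * b = 1 := fun b hb => by
        rcases hEel b hb with rfl | rfl <;> simp [hee]
      have hsq2 : g * (a * a) * g⁻¹ = a' * a' := by
        have e1 : Commute a b := (((hE' b).1 hb).2 a ha).symm
        have e2 : Commute a' b' := (((hE' b').1 hb').2 a' ha').symm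
        calc g * (a * a) * g⁻¹ = g * ((a * b) * (a * b)) * g⁻¹ := by
              rw [e1.symm.mul_mul_mul_comm, hsq b hb, mul_one]
          _ = (g * (a * b) * g⁻¹) * (g * (a * b) * g⁻¹) := by group
          _ = a' * a' := by rw [e0, e2.symm.mul_mul_mul_comm, hsq b' hb', mul_one]
      by_cases ha1 : a * a = 1
      · have ha0 : a = 1 := by
          obtain ⟨i, hi⟩ := hodd
          have h1 : a ^ Nat.card P = 1 := congrArg Subtype.val (pow_card_eq_one' (x := (⟨a, ha⟩ : P)))
          rw [hi, pow_succ, pow_mul, pow_two, ha1, one_pow, one_mul] at h1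
          exact h1
        have ha0' : a' = 1 := by
          obtain ⟨i, hi⟩ := hodd
          have h1 : a' ^ Nat.card P = 1 := congrArg Subtype.val (pow_card_eq_one' (x := (⟨a', ha'⟩ : P)))
          rw [hi, pow_succ, pow_mul, pow_two, ← hsq2, ha1, mul_one, mul_inv_cancel, one_pow, one_mul] at h1
          exact h1
        rw [ha0, one_mul] at hc1 e0
        rw [ha0', one_mul] at e0
        rcases hEel b hb with rfl | rfl
        · exact absurd rfl hc1
        rcases hEel b' hb' with rfl | rfl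
        · exact absurd (by simpa using e0) hc1
        exact (h.centralizer_E heD he1 hec).1 (mul_inv_eq_iff_eq_mul.1 e0)
      · exact h.ti (mul_mem ha ha) ha1 (hsq2 ▸ mul_mem ha' ha')
    refine mem_normalizer_of_conj_mem _ fun w hw => ?_
    rw [Subgroup.mem_centralizer_iff] at hw ⊢
    intro v hv
    have hv' : g⁻¹ * v * g ∈ (P : Subgroup G) := by
      have := (mem_normalizer_iff.1 (inv_mem hgN) v).1 hv
      simpa using this
    calc v * (g * w * g⁻¹) = g * ((g⁻¹ * v * g) * w) * g⁻¹ := by group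
      _ = g * (w * (g⁻¹ * v * g)) * g⁻¹ := by rw [hw _ hv']
      _ = _ := by group
  have hab : IsMulCommutative P := ⟨⟨fun a b => Subtype.ext (h.commP a.2 b.2)⟩⟩
  have hN4 : Nat.card (normalizer ((P : Subgroup G) : Set G)) = 4 * Nat.card P := by rw [h.cardN, hD4, mul_comm]
  -- involutions
  have : Fact (Nat.Prime 2) := ⟨Nat.prime_two⟩
  obtain ⟨S, hS⟩ := (IsPGroup.of_card (p := 2) (n := 2) (by rw [hD4]; norm_num) : IsPGroup 2 D).exists_le_sylow
  have hSD : (S : Subgroup G) = D := by
    obtain ⟨j, hj⟩ := S.2.exists_card_eq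
    have hSp : ¬ 3 ∣ Nat.card (S : Subgroup G) := by
      rw [show Nat.card (S : Subgroup G) = 2 ^ j from hj]
      exact fun hd => absurd (Nat.prime_three.dvd_of_dvd_pow hd) (by norm_num)
    have hSN : (S : Subgroup G) ≤ (normalizer ((P : Subgroup G) : Set G)) := fun s hs =>
      (h.centralizer_E heD he1 hec).1 (comm_of_abP h.ab hSp hs (hS heD))
    have hd1 := Subgroup.card_dvd_of_le hSN
    rw [hN4, show Nat.card (S : Subgroup G) = 2 ^ j from hj] at hd1
    have hcop : (2 ^ j).Coprime (Nat.card P) := (Nat.coprime_two_left.2 hodd).pow_left j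
    have hd2 := Nat.le_of_dvd (by norm_num) (hcop.dvd_of_dvd_mul_right hd1)
    exact (Subgroup.eq_of_le_of_card_ge hS
      (by rw [hD4, show Nat.card (S : Subgroup G) = 2 ^ j from hj]; exact hd2)).symm
  have hconjD : ∀ b ∈ D, b ≠ 1 → ∃ c : G, c * e * c⁻¹ = b := by
    intro b hb hb1
    set e₁ := x * e * x⁻¹
    set e₂ := x * e₁ * x⁻¹
    have he₁ : e₁ ∈ D := hxD e heD
    have he₂ : e₂ ∈ D := hxD e₁ he₁
    have n1 : e₁ ≠ 1 := fun e0 => he1 (by simpa [e₁] using e0)
    have n2 : e₂ ≠ 1 := fun e0 => n1 (by simpa [e₂] using e0)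
    have m1 : e₁ ≠ e := fun e0 => he1 (hfpf e heD e0)
    have m2 : e₂ ≠ e₁ := fun e0 => n1 (hfpf e₁ he₁ e0)
    have m3 : e₂ ≠ e := fun e0 => m1 (by
      have h3 : x ^ 3 = 1 := hxo ▸ pow_orderOf_eq_one x
      calc x * e * x⁻¹ = x * e₂ * x⁻¹ := by rw [e0]
        _ = x ^ 3 * e * (x ^ 3)⁻¹ := by simp only [e₂, e₁, pow_succ, pow_zero, one_mul]; group
        _ = e := by rw [h3]; group)
    by_contra hcon
    push Not at hcon
    have k1 : b ≠ e := fun e0 => hcon 1 (by simp [e0])
    have k2 : b ≠ e₁ := fun e0 => hcon x e0.symm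
    have k3 : b ≠ e₂ := fun e0 => hcon (x * x) (by rw [e0]; simp only [e₂, e₁]; group)
    have hs : ({1, e, e₁, e₂, b} : Finset G).card = 5 := by
      rw [Finset.card_insert_of_notMem, Finset.card_insert_of_notMem, Finset.card_insert_of_notMem,
        Finset.card_pair k3.symm]
      · simp [m2.symm, k2.symm]
      · simp [m1.symm, m3.symm, k1.symm]
      · simp [he1.symm, n1.symm, n2.symm, hb1.symm]
    have := Fintype.ofFinite ((D : Set G))
    have hsub : ({1, e, e₁, e₂, b} : Finset G) ⊆ ((D : Set G)).toFinset := by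
      intro w hw
      simp only [Finset.mem_insert, Finset.mem_singleton] at hw
      rw [Set.mem_toFinset, SetLike.mem_coe]
      rcases hw with rfl | rfl | rfl | rfl | rfl
      exacts [one_mem _, heD, he₁, he₂, hb]
    have hle := Finset.card_le_card hsub
    rw [hs, Set.toFinset_card, ← Nat.card_eq_fintype_card] at hle
    have : Nat.card ((D : Set G)) = 4 := hD4
    omega
  refine Cfsg.Agent.S4018.main P hab hN4 hCcard hTI (fun H hH h2 => ?_) h.simple
  have hcases : (Cfsg.HasNormalPComplement 3 H) ∨ ∃ Q : Sylow 3 H, (Q : Subgroup H).Normal ∧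
      (Q : Subgroup H) ≠ ⊥ := by
    rcases h.sub H hH with hc | hn
    · exact Or.inl hc
    · by_cases hQ : ((default : Sylow 3 H) : Subgroup H) = ⊥
      · refine Or.inl (CfsgLib.Transfer.hasNormalPComplement_of_normalizer_le default ?_)
        rw [hQ]
        intro g _
        rw [Subgroup.mem_centralizer_iff]
        intro a ha
        rw [SetLike.mem_coe, Subgroup.mem_bot] at ha
        simp [ha]
      · exact Or.inr ⟨default, hn _, hQ⟩
  rcases hcases with hc | ⟨Q, hQn, hQ⟩
  · haveI := CfsgLib.Transfer.pResidual_normal (G := H) (p := 3)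
    obtain ⟨i, hi⟩ := CfsgLib.Transfer.pResidual_index_eq_pow (G := H) (p := 3)
    rw [CfsgLib.Transfer.hasNormalPComplement_iff] at hc
    set K := (Cfsg.pResidual 3 H).map H.subtype with hK
    have hKcard : Nat.card K = Nat.card (Cfsg.pResidual 3 H) :=
      Subgroup.card_map_of_injective H.subtype_injective
    have hKp : ¬ 3 ∣ Nat.card K := hKcard ▸ hc
    have hHcard := (Cfsg.pResidual 3 H).card_mul_index
    rw [hi] at hHcard
    have hKeven : 2 ∣ Nat.card K := by
      rw [hKcard]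
      refine Nat.Coprime.dvd_of_dvd_mul_right ?_ (hHcard ▸ h2)
      exact Nat.Coprime.pow_right i (by norm_num)
    obtain ⟨t', ht'⟩ := exists_prime_orderOf_dvd_card' (G := K) 2 hKeven
    set t : G := (t' : G) with htdef
    have hto : orderOf t = 2 := by rw [htdef, Subgroup.orderOf_coe]; exact ht'
    obtain ⟨c, hc'⟩ := exists_conj_mem_sylow S (k := 1) (by rw [hto, pow_one] : orderOf t ∣ 2 ^ 1)
    obtain ⟨c', hc''⟩ := hconjD _ (hSD ▸ hc') (fun e0 => ne_one_of_involution hto (by simpa using e0))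
    set v := c'⁻¹ * c with hv
    have hve : v * t * v⁻¹ = e := by
      calc v * t * v⁻¹ = c'⁻¹ * (c * t * c⁻¹) * c' := by rw [hv]; group
        _ = c'⁻¹ * (c' * e * c'⁻¹) * c' := by rw [hc'']
        _ = e := by group
    have hKN : K.map (MulAut.conj v).toMonoidHom ≤ (normalizer ((P : Subgroup G) : Set G)) := by
      rintro _ ⟨a, ha, rfl⟩
      refine (h.centralizer_E heD he1 hec).1 ?_
      simp only [MulEquiv.toMonoidHom_eq_coe, MonoidHom.coe_coe, MulAut.conj_apply]
      rw [← hve]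
      calc v * a * v⁻¹ * (v * t * v⁻¹) = v * (a * t) * v⁻¹ := by group
        _ = v * (t * a) * v⁻¹ := by rw [comm_of_abP h.ab hKp ha t'.2]
        _ = _ := by group
    have hd1 := Subgroup.card_dvd_of_le hKN
    rw [Subgroup.card_map_of_injective (MulAut.conj v).injective, hN4] at hd1
    have hd4 : Nat.card K ∣ 4 := by
      refine Nat.Coprime.dvd_of_dvd_mul_right ?_ hd1
      rw [hcardP]
      exact ((Nat.Prime.coprime_iff_not_dvd Nat.prime_three).2 hKp).symm.pow_right k
    rw [← hHcard, ← hKcard]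
    refine mul_dvd_mul hd4 ?_
    rw [hcardP]
    refine Nat.pow_dvd_pow 3 ?_
    have h3 : 3 ^ i ∣ Nat.card G := (hHcard ▸ dvd_mul_left _ _).trans H.card_subgroup_dvd_card
    have h4 := P.pow_dvd_card_of_pow_dvd_card h3
    rw [show Nat.card (P : Subgroup G) = 3 ^ k from hcardP] at h4
    exact (Nat.pow_dvd_pow_iff_le_right (by norm_num)).1 h4
  · obtain ⟨y', hy'⟩ := (Subgroup.ne_bot_iff_exists_ne_one (H := (Q : Subgroup H))).1 hQ
    obtain ⟨y, hy, hy1⟩ : ∃ y : H, y ∈ (Q : Subgroup H) ∧ y ≠ 1 :=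
      ⟨y', y'.2, fun e0 => hy' (Subtype.ext e0)⟩
    obtain ⟨T, hT⟩ := (Q.2.map H.subtype).exists_le_sylow
    obtain ⟨c, rfl⟩ := MulAction.exists_smul_eq G P T
    have hmem : ∀ a ∈ (Q : Subgroup H), c⁻¹ * (a : G) * c ∈ (P : Subgroup G) := by
      intro a ha
      have hm := hT (Subgroup.mem_map_of_mem H.subtype ha)
      rw [Sylow.coe_subgroup_smul, Subgroup.mem_pointwise_smul_iff_inv_smul_mem] at hm
      simpa [MulAut.smul_def] using hm
    have hHN : H.map (MulAut.conj c⁻¹).toMonoidHom ≤ (normalizer ((P : Subgroup G) : Set G)) := by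
      rintro _ ⟨g, hg, rfl⟩
      simp only [MulEquiv.toMonoidHom_eq_coe, MonoidHom.coe_coe, MulAut.conj_apply, inv_inv]
      refine h.ti (hmem y hy) (fun e0 => hy1 (Subtype.ext (by simpa [mul_assoc, inv_mul_eq_one, eq_comm] using e0))) ?_
      have := hmem _ (hQn.conj_mem y hy ⟨g, hg⟩)
      rw [show c⁻¹ * g * c * (c⁻¹ * (y : G) * c) * (c⁻¹ * g * c)⁻¹ = c⁻¹ * (g * (y : G) * g⁻¹) * c by group]
      simpa using this
    have hd1 := Subgroup.card_dvd_of_le hHN
    rwa [Subgroup.card_map_of_injective (MulAut.conj c⁻¹).injective, hN4] at hd1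

end H79.CycSylow
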