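import Cfsg.Agent.H79DihMain

/-! The dihedral configuration does not occur in simple groups. -/

set_option autoImplicit false

namespace H79.DihCore

open CfsgLib.InvChar CfsgLib.Involutions

universe v

variable {G : Type v} [Group G] [Finite G] {C : Subgroup G} {t u : G} {P : ℕ}

/-- There is no simple group with the dihedral configuration. -/
theorem not_simple_of_hyp (h : Hyp C t u P) (hP : 1 < P) : ¬ IsSimpleGroup G := by
  classical
  intro hs
  have := Fintype.ofFinite G
  rcases Nat.lt_or_ge 3 P with h3 | h3
  · exact false_of_hyp h h3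
  obtain ⟨k, hk⟩ := h.odd
  have hP3 : P = 3 := by omega
  subst hP3
  have hc := h.count
  have hi := h.card_invs
  have hm : (invs G).card = 31 := by omega
  rw [hm] at hi
  have : Fact (Nat.Prime 31) := ⟨by norm_num⟩
  let S : Sylow 31 G := default
  have hdvd : Nat.card (Sylow 31 G) ∣ Nat.card G / Nat.card (S : Subgroup G) := by
    have e : (S : Subgroup G).index = Nat.card G / Nat.card (S : Subgroup G) := by
      rw [← Subgroup.card_mul_index (S : Subgroup G), Nat.mul_div_cancel_left _ Nat.card_pos]
    exact e ▸ S.card_dvd_index
  have hfac : (Nat.card G).factorization 31 = 1 := by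
    rw [← hi, Nat.factorization_mul (by norm_num) (by norm_num), Finsupp.add_apply,
      Nat.Prime.factorization_self (by norm_num), Nat.factorization_eq_zero_of_not_dvd (by norm_num)]
  have hS : Nat.card (S : Subgroup G) = 31 := by
    rw [S.card_eq_multiplicity, hfac, pow_one]
  rw [hS, ← hi] at hdvd
  have hmod := card_sylow_modEq_one 31 G
  have hle := Nat.le_of_dvd (by norm_num) hdvd
  have hone : Nat.card (Sylow 31 G) = 1 := by
    unfold Nat.ModEq at hmod
    omega
  have : Subsingleton (Sylow 31 G) := (Nat.card_eq_one_iff_unique.1 hone).1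
  have hn : (S : Subgroup G).Normal := Sylow.normal_of_subsingleton S
  rcases hs.eq_bot_or_eq_top_of_normal _ hn with e | e
  · rw [e, Subgroup.card_bot] at hS; norm_num at hS
  · rw [e, Subgroup.card_top, ← hi] at hS; norm_num at hS

end H79.DihCore
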