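import Cfsg.Statements.S4018
import Cfsg.Agent.H79DihSimple
import Cfsg.Agent.H79Basic

set_option autoImplicit false
open Cfsg

namespace Cfsg.Agent.S4018

/-- The group part: the local data give the dihedral configuration. -/
theorem main {G : Type*} [Group G] [Finite G]
    (P : Sylow 3 G) (hab : IsMulCommutative P)
    (hN : Nat.card (Subgroup.normalizer ((P : Subgroup G) : Set G)) = 4 * Nat.card P)
    (hC : Nat.card (Subgroup.centralizer (P : Set G)) = 2 * Nat.card P)
    (hTI : Cfsg.IsTISubset (Subgroup.centralizer (P : Set G) : Set G))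
    (heven : ∀ H : Subgroup G, H ≠ ⊤ → 2 ∣ Nat.card H → Nat.card H ∣ 4 * Nat.card P)
    (hs : IsSimpleGroup G) : False := by
  classical
  have : Fact (Nat.Prime 2) := ⟨Nat.prime_two⟩
  have : Fact (Nat.Prime 3) := ⟨by norm_num⟩
  set C := Subgroup.centralizer (P : Set G) with hCdef
  set N := Subgroup.normalizer ((P : Subgroup G) : Set G) with hNdef
  have hPpos : 0 < Nat.card P := Nat.card_pos
  obtain ⟨k, hk⟩ := P.2.exists_card_eq
  have hcard : Nat.card P = 3 ^ k := hk
  have hodd : Odd (Nat.card P) := hcard ▸ Odd.pow (by decide)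
  have hk0 : 1 < Nat.card P := by
    by_contra h1
    have h1' : Nat.card P = 1 := by omega
    have hbot : (P : Subgroup G) = ⊥ := Subgroup.card_eq_one.1 h1'
    have e1 : C = ⊤ := by
      rw [hCdef, eq_top_iff]
      intro g _ x hx
      have : x = 1 := by simpa [hbot] using (show x ∈ (P : Subgroup G) from hx)
      simp [this]
    have e2 : N = ⊤ := by
      rw [hNdef, hbot]
      exact Subgroup.normalizer_eq_top_iff.2 inferInstance
    rw [e1] at hC; rw [e2] at hN; omega
  -- the group has trivial centre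
  have hZ : Subgroup.center G = ⊥ := by
    rcases hs.eq_bot_or_eq_top_of_normal (Subgroup.center G) inferInstance with e | e
    · exact e
    · exfalso
      have e1 : C = ⊤ := by
        rw [hCdef, eq_top_iff]
        intro g _ x hx
        have : x ∈ Subgroup.center G := e ▸ Subgroup.mem_top x
        exact (Subgroup.mem_center_iff.1 this g).symm
      have h4 : Nat.card N ≤ Nat.card G := Subgroup.card_le_card_group N
      rw [e1, Subgroup.card_top] at hC
      omega
  have hproper : ∀ z : G, z ≠ 1 → Subgroup.centralizer ({z} : Set G) ≠ ⊤ := by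
    intro z hz e
    apply hz
    have : z ∈ Subgroup.center G := Subgroup.mem_center_iff.2 fun g => by
      have hg : g ∈ Subgroup.centralizer ({z} : Set G) := e ▸ Subgroup.mem_top g
      exact Subgroup.mem_centralizer_singleton_iff.1 hg
    rwa [hZ, Subgroup.mem_bot] at this
  have hPC : (P : Subgroup G) ≤ C := fun x hx y hy =>
    congrArg Subtype.val (hab.is_comm.comm (⟨y, hy⟩ : P) ⟨x, hx⟩)
  obtain ⟨t', ht'⟩ := exists_prime_orderOf_dvd_card' (G := C) 2 ⟨_, hC⟩
  set t : G := t'.1 with htdef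
  have htC : t ∈ C := t'.2
  have hordt : orderOf t = 2 := by rw [htdef, Subgroup.orderOf_coe]; exact ht'
  have ht1 : t ≠ 1 := fun e => by rw [e, orderOf_one] at hordt; norm_num at hordt
  have ht2 : t * t = 1 := (CfsgLib.Involutions.mul_self_eq_one hordt)
  have hnotP : ∀ z : G, orderOf z = 2 → z ∉ (P : Subgroup G) := fun z hz hzP => by
    have h2 : 2 ∣ Nat.card P := hz ▸ Subgroup.orderOf_dvd_natCard (P : Subgroup G) hzP
    obtain ⟨m, hm⟩ := hodd
    omega
  have hdec : ∀ c ∈ C, c ∈ (P : Subgroup G) ∨ c * t ∈ (P : Subgroup G) := by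
    intro c hc
    have hidx : ((P : Subgroup G).subgroupOf C).index = 2 := by
      have e := ((P : Subgroup G).subgroupOf C).card_mul_index
      rw [Nat.card_congr (Subgroup.subgroupOfEquivOfLe hPC).toEquiv, hC, Nat.mul_comm] at e
      exact Nat.eq_of_mul_eq_mul_right hPpos e
    have e := Subgroup.mul_mem_iff_of_index_two hidx (a := ⟨c, hc⟩) (b := ⟨t, htC⟩)
    simp only [Subgroup.mem_subgroupOf, Subgroup.coe_mul] at e
    by_cases hcP : c ∈ (P : Subgroup G)
    · exact Or.inl hcP
    · exact Or.inr (e.2 (iff_of_false hcP (hnotP t hordt)))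
  have hPcomm : ∀ a ∈ (P : Subgroup G), ∀ c ∈ C, a * c = c * a := fun a ha c hc => hc a ha
  have hCcomm : ∀ a ∈ C, ∀ b ∈ C, a * b = b * a := by
    intro a ha b hb
    rcases hdec a ha with h1 | h1
    · exact hPcomm a h1 b hb
    have h2 : Commute t b := by
      rcases hdec b hb with h3 | h3
      · exact (hPcomm b h3 t htC).symm
      · have h4 : Commute t (b * t) := (hPcomm _ h3 t htC).symm
        have := h4.mul_right (Commute.refl t)
        rwa [mul_assoc, ht2, mul_one] at this
    have h5 : Commute (a * t) b := hPcomm _ h1 b hb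
    have := h5.mul_left h2
    rwa [mul_assoc, ht2, mul_one] at this
  have huniq : ∀ c ∈ C, orderOf c = 2 → c = t := by
    intro c hc hc2
    rcases hdec c hc with h1 | h1
    · exact absurd h1 (hnotP c hc2)
    · by_contra hne
      refine hnotP (c * t) ?_ h1
      refine CfsgLib.Involutions.orderOf_eq_two_iff_mul.2 ⟨fun e => hne ?_, ?_⟩
      · exact (eq_inv_of_mul_eq_one_left e).trans (inv_eq_of_mul_eq_one_left ht2)
      · rw [mul_assoc, ← mul_assoc t, hCcomm t htC c hc, mul_assoc c, ht2, mul_one,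
          CfsgLib.Involutions.mul_self_eq_one hc2]
  have hNC : ∀ g ∈ N, ∀ c ∈ C, g * c * g⁻¹ ∈ C := by
    intro g hg c hc x hx
    have hx' : g⁻¹ * x * g ∈ (P : Subgroup G) := by
      have := (Subgroup.mem_normalizer_iff.1 (N.inv_mem hg) x).1 hx
      rwa [inv_inv] at this
    have e := hPcomm _ hx' c hc
    calc x * (g * c * g⁻¹) = g * ((g⁻¹ * x * g) * c) * g⁻¹ := by group
      _ = g * (c * (g⁻¹ * x * g)) * g⁻¹ := by rw [e]
      _ = g * c * g⁻¹ * x := by group
  have hconjt : ∀ g : G, g * t * g⁻¹ ∈ C → g ∈ Subgroup.centralizer ({t} : Set G) := by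
    intro g hg
    have e := huniq _ hg (by rw [H79.DihCore.orderOf_conj', hordt])
    rw [Subgroup.mem_centralizer_singleton_iff]
    exact mul_inv_eq_iff_eq_mul.1 e
  have hNt : N = Subgroup.centralizer ({t} : Set G) := by
    have hle : N ≤ Subgroup.centralizer ({t} : Set G) := fun g hg => hconjt g (hNC g hg t htC)
    have h2 : 2 ∣ Nat.card (Subgroup.centralizer ({t} : Set G)) :=
      hordt ▸ Subgroup.orderOf_dvd_natCard _ (Subgroup.mem_centralizer_singleton_iff.2 rfl)
    refine Subgroup.eq_of_le_of_card_ge hle ?_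
    rw [hN]
    exact Nat.le_of_dvd (by omega) (heven _ (hproper t ht1) h2)
  -- the Sylow 2-subgroup
  obtain ⟨S, hS⟩ := (IsPGroup.of_card (p := 2) (n := 1)
    (by rw [Nat.card_zpowers, hordt, pow_one]) : IsPGroup 2 (Subgroup.zpowers t)).exists_le_sylow
  have htS : t ∈ (S : Subgroup G) := hS (Subgroup.mem_zpowers t)
  have hS4 : Nat.card (S : Subgroup G) = 4 := by
    obtain ⟨e, he⟩ := S.2.exists_card_eq
    have hcard_S : Nat.card (S : Subgroup G) = 2 ^ e := he
    have hlo : 2 ^ 2 ∣ Nat.card (S : Subgroup G) :=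
      S.pow_dvd_card_of_pow_dvd_card (((show 2 ^ 2 ∣ 4 * Nat.card P from ⟨Nat.card P, by norm_num⟩).trans
        (hN ▸ N.card_subgroup_dvd_card)))
    have hnt : Nontrivial (S : Subgroup G) := by
      rw [← Finite.one_lt_card_iff_nontrivial]
      exact lt_of_lt_of_le (by norm_num) (Nat.le_of_dvd Nat.card_pos hlo)
    have : Nontrivial (Subgroup.center (S : Subgroup G)) := S.2.center_nontrivial
    obtain ⟨z, hz⟩ := exists_ne (1 : Subgroup.center (S : Subgroup G))
    have hzne : (z.1.1 : G) ≠ 1 := fun e => hz (Subtype.ext (Subtype.ext e))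
    have hle : (S : Subgroup G) ≤ Subgroup.centralizer ({z.1.1} : Set G) := fun x hx =>
      Subgroup.mem_centralizer_singleton_iff.2
        (congrArg Subtype.val (Subgroup.mem_center_iff.1 z.2 ⟨x, hx⟩))
    have hdvd : Nat.card (S : Subgroup G) ∣ 4 * Nat.card P :=
      (Subgroup.card_dvd_of_le hle).trans (heven _ (hproper _ hzne)
        ((dvd_pow_self 2 two_ne_zero).trans (hlo.trans (Subgroup.card_dvd_of_le hle))))
    have hcop : Nat.Coprime (Nat.card (S : Subgroup G)) (Nat.card P) := by
      rw [hcard_S]; exact Nat.Coprime.pow_left _ (Nat.coprime_two_left.2 hodd)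
    have h4 := Nat.le_of_dvd (by norm_num) (hcop.dvd_of_dvd_mul_right hdvd)
    have := Nat.le_of_dvd Nat.card_pos hlo
    omega
  have hG12 : 12 ≤ Nat.card G := by
    have := Subgroup.card_le_card_group N
    obtain ⟨m, hm⟩ := hodd
    omega
  have nocompl : ¬ (Subgroup.normalizer ((S : Subgroup G) : Set G) ≤ Subgroup.centralizer ((S : Subgroup G) : Set G)) := by
    intro hnc
    have hc := MonoidHom.ker_transferSylow_isComplement' S hnc
    have hmul := hc.card_mul
    rw [hS4] at hmul
    rcases hs.eq_bot_or_eq_top_of_normal (MonoidHom.transferSylow S hnc).ker inferInstance with e | e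
    · rw [e, Subgroup.card_bot] at hmul; omega
    · rw [e, Subgroup.card_top] at hmul
      have : 0 < Nat.card G := Nat.card_pos
      omega
  have hsq : ∀ x ∈ (S : Subgroup G), x * x = 1 := by
    intro x hx
    by_contra hne
    apply nocompl
    have hcyc : IsCyclic (S : Subgroup G) := by
      refine isCyclic_of_orderOf_eq_card ⟨x, hx⟩ ?_
      rw [hS4, Subgroup.orderOf_mk]
      have hd : orderOf x ∣ 2 ^ 2 :=
        (Subgroup.orderOf_dvd_natCard (S : Subgroup G) hx).trans (by rw [hS4]; norm_num)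
      obtain ⟨i, hi, he⟩ := (Nat.dvd_prime_pow Nat.prime_two).1 hd
      interval_cases i
      · exact absurd (show x * x = 1 by rw [orderOf_eq_one_iff.1 (show orderOf x = 1 by simpa using he), mul_one]) hne
      · exact absurd (CfsgLib.Involutions.mul_self_eq_one (by simpa using he)) hne
      · simpa using he
    exact hcyc.normalizer_le_centralizer
      ((Nat.minFac_eq_two_iff _).2 ((show 2 ∣ Nat.card (S : Subgroup G) by rw [hS4]; norm_num).trans
        (S : Subgroup G).card_subgroup_dvd_card))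
  have hScomm : ∀ a ∈ (S : Subgroup G), ∀ b ∈ (S : Subgroup G), a * b = b * a := by
    intro a ha b hb
    have e := hsq _ (Subgroup.mul_mem _ ha hb)
    have e' : (a * b)⁻¹ = a * b := inv_eq_of_mul_eq_one_left e
    rw [← e', mul_inv_rev, inv_eq_of_mul_eq_one_left (hsq a ha), inv_eq_of_mul_eq_one_left (hsq b hb)]
  -- the four elements
  have hfour : ∀ a ∈ (S : Subgroup G), ∀ b ∈ (S : Subgroup G), a ≠ 1 → b ≠ 1 → a ≠ b →
      ∀ x ∈ (S : Subgroup G), x = 1 ∨ x = a ∨ x = b ∨ x = a * b := by
    intro a ha b hb h1 h2 h3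
    have hsub : ({1, a, b, a * b} : Set G) ⊆ (S : Subgroup G) := by
      intro x hx
      rcases hx with rfl | rfl | rfl | rfl
      exacts [one_mem _, ha, hb, mul_mem ha hb]
    have hcard4 : ({1, a, b, a * b} : Set G).ncard = 4 := by
      have h4 : a * b ≠ 1 := fun e => h3 (mul_right_cancel (e.trans (hsq b hb).symm))
      have h5 : a * b ≠ a := fun e => h2 (by simpa using e)
      have h6 : a * b ≠ b := fun e => h1 (by simpa using e)
      rw [Set.ncard_insert_of_notMem (by simp [h1.symm, h2.symm, h4.symm]),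
        Set.ncard_insert_of_notMem (by simp [h3, h5.symm]), Set.ncard_pair h6.symm]
    have he := Set.eq_of_subset_of_ncard_le hsub
      (by rw [hcard4, ← Nat.card_coe_set_eq]; exact le_of_eq hS4) (Set.toFinite _)
    intro x hx
    have : x ∈ ({1, a, b, a * b} : Set G) := he ▸ hx
    simpa using this
  -- an element moving all three involutions
  obtain ⟨g, hgN, a₀, ha₀, hmove⟩ : ∃ g, g ∈ Subgroup.normalizer ((S : Subgroup G) : Set G) ∧
      ∃ a, a ∈ (S : Subgroup G) ∧ g * a * g⁻¹ ≠ a := by
    by_contra hcon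
    push Not at hcon
    exact nocompl fun g hg x hx => (mul_inv_eq_iff_eq_mul.1 (hcon g hg x hx)).symm
  have hgS : ∀ x ∈ (S : Subgroup G), g * x * g⁻¹ ∈ (S : Subgroup G) := fun x hx =>
    (Subgroup.mem_normalizer_iff.1 hgN x).1 hx
  have hfix : ∀ z ∈ (S : Subgroup G), g * z * g⁻¹ = z → z = 1 := by
    intro z hz hgz
    by_contra hz1
    have ha1 : a₀ ≠ 1 := fun e => hmove (by rw [e]; group)
    have hza : z ≠ a₀ := fun e => hmove (e ▸ hgz)
    have hstep : ∀ x ∈ (S : Subgroup G), g * (g * x * g⁻¹) * g⁻¹ = x := by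
      have hga : g * a₀ * g⁻¹ = z * a₀ := by
        rcases hfour z hz a₀ ha₀ hz1 ha1 hza _ (hgS a₀ ha₀) with e | e | e | e
        · exact absurd (by simpa using e) ha1
        · exact absurd (mul_left_cancel (mul_right_cancel (e.trans hgz.symm))) (Ne.symm hza)
        · exact absurd e hmove
        · exact e
      intro x hx
      have hzz : ∀ y : G, z * (z * y) = y := fun y => by rw [← mul_assoc, hsq z hz, one_mul]
      have hgza : g * (z * a₀) * g⁻¹ = a₀ := by
        rw [show g * (z * a₀) * g⁻¹ = (g * z * g⁻¹) * (g * a₀ * g⁻¹) by group, hgz, hga, hzz]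
      rcases hfour z hz a₀ ha₀ hz1 ha1 hza x hx with e | e | e | e <;> rw [e]
      · group
      · rw [hgz, hgz]
      · rw [hga, hgza]
      · rw [hgza, hga]
    have hodd_pow : ∀ i : ℕ, ∀ x ∈ (S : Subgroup G),
        g ^ (2 * i + 1) * x * (g ^ (2 * i + 1))⁻¹ = g * x * g⁻¹ := by
      intro i
      induction i with
      | zero => intro x _; simp
      | succ i ih =>
        intro x hx
        calc g ^ (2 * (i + 1) + 1) * x * (g ^ (2 * (i + 1) + 1))⁻¹
            = g ^ (2 * i + 1) * (g * (g * x * g⁻¹) * g⁻¹) * (g ^ (2 * i + 1))⁻¹ := by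
              rw [show 2 * (i + 1) + 1 = (2 * i + 1) + 1 + 1 by ring, pow_succ, pow_succ]; group
          _ = g ^ (2 * i + 1) * x * (g ^ (2 * i + 1))⁻¹ := by rw [hstep x hx]
          _ = _ := ih x hx
    have ho : orderOf g ≠ 0 := orderOf_pos g |>.ne'
    obtain ⟨m, hm, hh⟩ : ∃ m, Odd m ∧ g ^ m ∈ (S : Subgroup G) := by
      refine ⟨orderOf g / 2 ^ (orderOf g).factorization 2,
        Nat.odd_iff.2 (Nat.two_dvd_ne_zero.1 (Nat.not_dvd_ordCompl Nat.prime_two ho)), ?_⟩
      have hp : IsPGroup 2 (Subgroup.zpowers (g ^ (orderOf g / 2 ^ (orderOf g).factorization 2))) := by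
        refine IsPGroup.of_card (n := (orderOf g).factorization 2) ?_
        rw [Nat.card_zpowers, orderOf_pow_of_dvd
          (Nat.ne_of_gt (Nat.ordCompl_pos 2 ho)) (Nat.ordCompl_dvd _ 2),
          Nat.div_div_self (Nat.ordProj_dvd _ _) ho]
      have hmem := Subgroup.mem_inf.2 ⟨Subgroup.mem_zpowers (g ^ (orderOf g / 2 ^ (orderOf g).factorization 2)),
        pow_mem hgN _⟩
      exact (Subgroup.mem_inf.1 ((IsPGroup.inf_normalizer_sylow hp S).le hmem)).2
    obtain ⟨i, rfl⟩ := hm
    refine hmove ?_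
    rw [← hodd_pow i a₀ ha₀, hScomm _ hh a₀ ha₀]
    group
  have hconjS : ∀ a ∈ (S : Subgroup G), ∀ b ∈ (S : Subgroup G), a ≠ 1 → b ≠ 1 → IsConj a b := by
    intro a ha b hb h1 h2
    rcases eq_or_ne a b with e | h3
    · exact e ▸ IsConj.refl a
    have hne : g * a * g⁻¹ ≠ 1 := fun e => h1 (by simpa using e)
    rcases hfour a ha b hb h1 h2 h3 _ (hgS a ha) with e | e | e | e
    · exact absurd e hne
    · exact absurd (hfix a ha e) h1
    · exact isConj_iff.2 ⟨g, e⟩
    · refine isConj_iff.2 ⟨g * g, ?_⟩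
      rw [show g * g * a * (g * g)⁻¹ = g * (g * a * g⁻¹) * g⁻¹ by group, e]
      have hab' : a * b ≠ 1 := fun e' => h3 (mul_right_cancel (e'.trans (hsq b hb).symm))
      rcases hfour a ha b hb h1 h2 h3 _ (hgS _ (mul_mem ha hb)) with e' | e' | e' | e'
      · exact absurd (by simpa using e') hab'
      · exfalso
        refine h2 (hfix b hb ?_)
        calc g * b * g⁻¹ = (g * a * g⁻¹)⁻¹ * (g * (a * b) * g⁻¹) := by group
          _ = (a * b)⁻¹ * a := by rw [e', e]
          _ = b := by rw [mul_inv_rev, mul_assoc, inv_mul_cancel, mul_one,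
                inv_eq_of_mul_eq_one_left (hsq b hb)]
      · exact e'
      · exact absurd (hfix _ (mul_mem ha hb) e') hab'
  have hinS : ∀ x : G, orderOf x = 2 → ∃ y ∈ (S : Subgroup G), y ≠ 1 ∧ IsConj x y := by
    intro x hx
    obtain ⟨T, hT⟩ := (IsPGroup.of_card (p := 2) (n := 1)
      (by rw [Nat.card_zpowers, hx, pow_one]) : IsPGroup 2 (Subgroup.zpowers x)).exists_le_sylow
    obtain ⟨h, rfl⟩ := MulAction.exists_smul_eq G S T
    have hxm := hT (Subgroup.mem_zpowers x)
    rw [Sylow.coe_subgroup_smul, Subgroup.mem_pointwise_smul_iff_inv_smul_mem] at hxm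
    refine ⟨h⁻¹ * x * h, by simpa [MulAut.smul_def] using hxm, fun e => ?_,
      isConj_iff.2 ⟨h⁻¹, by rw [inv_inv]⟩⟩
    have hx1 : x = 1 := by simpa [mul_assoc, inv_mul_eq_one, eq_comm] using e
    rw [hx1, orderOf_one] at hx
    norm_num at hx
  have hconjI : ∀ x y : G, orderOf x = 2 → orderOf y = 2 → IsConj x y := by
    intro x y hx hy
    obtain ⟨a, ha, h1, hxa⟩ := hinS x hx
    obtain ⟨b, hb, h2, hyb⟩ := hinS y hy
    exact hxa.trans ((hconjS a ha b hb h1 h2).trans hyb.symm)
  obtain ⟨u, huS, huC⟩ : ∃ u ∈ (S : Subgroup G), u ∉ C := by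
    by_contra hcon
    push Not at hcon
    have hd := Subgroup.card_dvd_of_le (show (S : Subgroup G) ≤ C from hcon)
    rw [hS4, hC] at hd
    obtain ⟨m, hm⟩ := hodd
    omega
  have hu1 : u ≠ 1 := fun e => huC (e ▸ C.one_mem)
  have huu : u * u = 1 := hsq u huS
  have huinv : u⁻¹ = u := inv_eq_of_mul_eq_one_left huu
  have hordu : orderOf u = 2 := CfsgLib.Involutions.orderOf_eq_two_iff_mul.2 ⟨hu1, huu⟩
  have huN : u ∈ N := by
    rw [hNt]; exact Subgroup.mem_centralizer_singleton_iff.2 (hScomm u huS t htS)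
  have hidxN : (C.subgroupOf N).index = 2 := by
    have hCN : C ≤ N := by
      rw [hNt]; exact fun c hc => Subgroup.mem_centralizer_singleton_iff.2 (hCcomm c hc t htC)
    have e := (C.subgroupOf N).card_mul_index
    rw [Nat.card_congr (Subgroup.subgroupOfEquivOfLe hCN).toEquiv, hN, hC] at e
    refine Nat.eq_of_mul_eq_mul_left (show 0 < 2 * Nat.card P by omega) (e.trans (by ring))
  have hNdec : ∀ g ∈ N, g ∈ C ∨ g * u ∈ C := by
    intro g hg
    have e := Subgroup.mul_mem_iff_of_index_two hidxN (a := ⟨g, hg⟩) (b := ⟨u, huN⟩)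
    simp only [Subgroup.mem_subgroupOf, Subgroup.coe_mul] at e
    by_cases hgC : g ∈ C
    · exact Or.inl hgC
    · exact Or.inr (e.2 (iff_of_false hgC huC))
  have hti : ∀ g c : G, c ∈ C → c ≠ 1 → g * c * g⁻¹ ∈ C → g ∈ N := by
    intro g c hc hc1 hgc
    rw [hNt]
    apply hconjt
    by_cases hg : g ∈ Subgroup.normalizer (C : Set G)
    · exact (Subgroup.mem_normalizer_iff.1 hg t).1 htC
    · exact absurd (hTI g hg c hc hgc) hc1
  have hfree : ∀ p ∈ (P : Subgroup G), u * p = p * u → p = 1 := by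
    intro p hp hpu
    by_contra hp1
    obtain ⟨h, hh⟩ := isConj_iff.1 (hconjI t u hordt hordu)
    set q := h⁻¹ * p * h with hq
    have hqN : q ∈ N := by
      rw [hNt, Subgroup.mem_centralizer_singleton_iff, hq]
      calc h⁻¹ * p * h * t = h⁻¹ * (p * (h * t * h⁻¹)) * h := by group
        _ = h⁻¹ * ((h * t * h⁻¹) * p) * h := by rw [hh, hpu]
        _ = _ := by group
    have hord : orderOf q = orderOf p := by
      rw [hq]; conv_rhs => rw [← H79.DihCore.orderOf_conj' h⁻¹ p, inv_inv]
    have hqP : q ∈ (P : Subgroup G) := by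
      obtain ⟨i, -, hi⟩ := (Nat.dvd_prime_pow (show Nat.Prime 3 by norm_num)).1
        ((Subgroup.orderOf_dvd_natCard (P : Subgroup G) hp).trans (dvd_of_eq hcard))
      have hp3 : IsPGroup 3 (Subgroup.zpowers q) :=
        IsPGroup.of_card (n := i) (by rw [Nat.card_zpowers, hord, hi])
      have hmem := Subgroup.mem_inf.2 ⟨Subgroup.mem_zpowers q, hqN⟩
      exact (Subgroup.mem_inf.1 ((IsPGroup.inf_normalizer_sylow hp3 P).le hmem)).2
    have e : h * q * h⁻¹ = p := by rw [hq]; group
    have hhN := hti h q (hPC hqP) (fun e' => hp1 (by rw [← e, e']; group)) (e ▸ hPC hp)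
    rw [hNt, Subgroup.mem_centralizer_singleton_iff] at hhN
    rw [mul_inv_eq_iff_eq_mul.2 hhN] at hh
    exact huC (hh ▸ htC)
  have hinvP : ∀ p ∈ (P : Subgroup G), u * p * u⁻¹ = p⁻¹ := by
    intro p hp
    have hq : u * p * u⁻¹ ∈ (P : Subgroup G) := (Subgroup.mem_normalizer_iff.1 huN p).1 hp
    have hc := hPcomm _ hq p (hPC hp)
    have e := hfree _ (mul_mem hp hq) (by
      rw [huinv] at hc ⊢
      calc u * (p * (u * p * u)) = (u * p * u) * p * u := by group
        _ = p * (u * p * u) * u := by rw [hc])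
    exact eq_inv_of_mul_eq_one_right e
  have hinvC : ∀ c ∈ C, u * c * u⁻¹ = c⁻¹ := by
    intro c hc
    have htu : u * t * u⁻¹ = t⁻¹ := by
      rw [inv_eq_of_mul_eq_one_left ht2, hScomm u huS t htS]; group
    rcases hdec c hc with h1 | h1
    · exact hinvP c h1
    · have e := hinvP _ h1
      rw [← conj_mul, htu, mul_inv_rev] at e
      calc u * c * u⁻¹ = (u * c * u⁻¹ * t⁻¹) * t := by group
        _ = t⁻¹ * c⁻¹ * t := by rw [e]
        _ = _ := by
          rw [hCcomm t⁻¹ (C.inv_mem htC) c⁻¹ (C.inv_mem hc)]; group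
  have hreal : ∀ w x : G, orderOf w = 2 → w * x * w⁻¹ = x⁻¹ → x ^ 2 ≠ 1 →
      ∃ g : G, g * x * g⁻¹ ∈ C := by
    intro w x hw hwx hx2
    by_cases h2 : 2 ∣ orderOf x
    · have hz : orderOf (x ^ (orderOf x / 2)) = 2 := by
        have h0 : 0 < orderOf x := orderOf_pos x
        rw [orderOf_pow_of_dvd (by omega) (Nat.div_dvd_of_dvd h2), Nat.div_div_self h2 h0.ne']
      obtain ⟨h, hh⟩ := isConj_iff.1 (hconjI _ t hz hordt)
      have hxN : h * x * h⁻¹ ∈ N := by
        rw [hNt, Subgroup.mem_centralizer_singleton_iff, ← hh]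
        calc h * x * h⁻¹ * (h * x ^ (orderOf x / 2) * h⁻¹) = h * (x * x ^ (orderOf x / 2)) * h⁻¹ := by
              group
          _ = h * (x ^ (orderOf x / 2) * x) * h⁻¹ := by rw [← pow_succ', ← pow_succ]
          _ = _ := by group
      rcases hNdec _ hxN with h' | h'
      · exact ⟨h, h'⟩
      · exfalso
        apply hx2
        have e := hinvC _ h'
        have e2 : h * x ^ 2 * h⁻¹ = 1 := by
          have e3 : (h * x * h⁻¹ * u) * (u * (h * x * h⁻¹ * u) * u⁻¹) = 1 := by rw [e, mul_inv_cancel]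
          calc h * x ^ 2 * h⁻¹ = (h * x * h⁻¹) * (u * u) * (h * x * h⁻¹) * (u * u⁻¹) := by
                rw [huu, pow_two]; group
            _ = (h * x * h⁻¹ * u) * (u * (h * x * h⁻¹ * u) * u⁻¹) := by group
            _ = 1 := e3
        calc x ^ 2 = h⁻¹ * (h * x ^ 2 * h⁻¹) * h := by group
          _ = 1 := by rw [e2]; group
    · set H := Subgroup.normalizer ((Subgroup.zpowers x : Subgroup G) : Set G) with hH
      have hHne : H ≠ ⊤ := by
        intro e
        have hn : (Subgroup.zpowers x).Normal := Subgroup.normalizer_eq_top_iff.1 e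
        rcases hs.eq_bot_or_eq_top_of_normal _ hn with e' | e'
        · rw [Subgroup.zpowers_eq_bot] at e'
          exact hx2 (by rw [e']; simp)
        · refine hproper x (fun e1 => hx2 (by rw [e1]; simp)) ?_
          rw [eq_top_iff]
          intro y _
          have hy : y ∈ Subgroup.zpowers x := e' ▸ Subgroup.mem_top y
          obtain ⟨i, rfl⟩ := Subgroup.mem_zpowers_iff.1 hy
          exact Subgroup.mem_centralizer_singleton_iff.2 ((Commute.refl x).zpow_left i)
      have hwH : w ∈ H := H79.mem_normalizer_zpowers (by rw [hwx]; exact inv_mem (Subgroup.mem_zpowers x))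
      have hxH : x ∈ H := H79.mem_normalizer_zpowers (by simp)
      have hd := heven H hHne (hw ▸ Subgroup.orderOf_dvd_natCard H hwH)
      have hdx : orderOf x ∣ 4 * Nat.card P := (Subgroup.orderOf_dvd_natCard H hxH).trans hd
      have hcop : Nat.Coprime (orderOf x) 4 :=
        Nat.Coprime.pow_right 2 ((Nat.prime_two.coprime_iff_not_dvd.2 h2).symm)
      have hd3 : orderOf x ∣ 3 ^ k := hcard ▸ hcop.dvd_of_dvd_mul_left hdx
      obtain ⟨i, -, hi⟩ := (Nat.dvd_prime_pow (by norm_num)).1 hd3
      obtain ⟨T, hT⟩ := (IsPGroup.of_card (p := 3) (n := i)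
        (by rw [Nat.card_zpowers, hi]) : IsPGroup 3 (Subgroup.zpowers x)).exists_le_sylow
      obtain ⟨h, rfl⟩ := MulAction.exists_smul_eq G P T
      have hxm := hT (Subgroup.mem_zpowers x)
      rw [Sylow.coe_subgroup_smul, Subgroup.mem_pointwise_smul_iff_inv_smul_mem] at hxm
      refine ⟨h⁻¹, hPC ?_⟩
      simpa [MulAut.smul_def] using hxm
  refine H79.DihCore.not_simple_of_hyp
    (C := C) (t := t) (u := u) (P := Nat.card P) ?_ hk0 hs
  exact ⟨⟨⟨fun a b => Subtype.ext (hCcomm a a.2 b b.2)⟩⟩, hC, hodd, htC, hordt, hordu, huC, hinvC,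
    fun g c hc hc1 hgc => hNdec g (hti g c hc hc1 hgc), hconjI, hreal⟩

/-- Let G be a finite group with an abelian Sylow 3-subgroup P such that the normalizer of P has order 4·#P, the centralizer C of P has order 2·#P, C meets each of its conjugates by elements outside its normalizer trivially, and every proper subgroup of G of even order has order dividing 4·#P. Then G is not simple. -/
theorem result {G : Type*} [Group G] [Finite G]
    (P : Sylow 3 G) (hab : IsMulCommutative P)
    (hN : Nat.card (Subgroup.normalizer ((P : Subgroup G) : Set G)) = 4 * Nat.card P)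
    (hC : Nat.card (Subgroup.centralizer (P : Set G)) = 2 * Nat.card P)
    (hTI : Cfsg.IsTISubset (Subgroup.centralizer (P : Set G) : Set G))
    (heven : ∀ H : Subgroup G, H ≠ ⊤ → 2 ∣ Nat.card H → Nat.card H ∣ 4 * Nat.card P) :
    ¬ IsSimpleGroup G := by
  exact fun hs => main P hab hN hC hTI heven hs

end Cfsg.Agent.S4018
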