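import Cfsg.Agent.H79CycSylow
import Cfsg.Agent.Lib.CNCount.CA
import Cfsg.Agent.Lib.InvChar.InvolutionCount
import Cfsg.Agent.S4018

/-! Simple groups with a cyclic Sylow subgroup and abelian `p'`-subgroups do not exist. -/

set_option autoImplicit false

namespace H79.CycSylow

open Subgroup CfsgLib.InvChar CfsgLib.Involutions

universe u

variable {G : Type u} [Group G] [Finite G] {p : ℕ} [hp : Fact p.Prime]

/-- The data of a minimal counterexample. -/
structure Conf (P : Sylow p G) (D : Subgroup G) : Prop where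
  simple : IsSimpleGroup G
  cyc : IsCyclic (P : Subgroup G)
  ab : AbP p G
  leN : D ≤ normalizer ((P : Subgroup G) : Set G)
  notdvd : ¬ p ∣ Nat.card D
  dec : ∀ g ∈ normalizer ((P : Subgroup G) : Set G), ∃ y ∈ (P : Subgroup G), ∃ f ∈ D, g = y * f
  cardN : Nat.card (normalizer ((P : Subgroup G) : Set G)) = Nat.card P * Nat.card D
  moves : ∃ d ∈ D, ∃ y ∈ (P : Subgroup G), d * y ≠ y * d
  notNormal : ¬ (P : Subgroup G).Normal
  sub : ∀ H : Subgroup G, H ≠ ⊤ → Cfsg.HasNormalPComplement p H ∨
    ∀ Q : Sylow p H, (Q : Subgroup H).Normal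

variable {P : Sylow p G} {D : Subgroup G}

local notation "N" => normalizer ((P : Subgroup G) : Set G)

theorem Conf.ne_bot (h : Conf P D) : (P : Subgroup G) ≠ ⊥ := fun e =>
  h.notNormal (e ▸ inferInstance)

theorem Conf.center (h : Conf P D) : Subgroup.center G = ⊥ := by
  rcases h.simple.eq_bot_or_eq_top_of_normal (Subgroup.center G) inferInstance with e | e
  · exact e
  · exfalso
    obtain ⟨d, hd, y, hy, hne⟩ := h.moves
    exact hne (Subgroup.mem_center_iff.1 (e ▸ mem_top y : y ∈ Subgroup.center G) d)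

theorem Conf.centralizer_ne_top (h : Conf P D) {z : G} (hz : z ≠ 1) :
    centralizer ({z} : Set G) ≠ ⊤ := by
  intro e
  apply hz
  have : z ∈ Subgroup.center G := Subgroup.mem_center_iff.2 fun g =>
    Subgroup.mem_centralizer_singleton_iff.1 (e ▸ mem_top g)
  rwa [h.center, Subgroup.mem_bot] at this

theorem Conf.normalizer_ne_top (h : Conf P D) {X : Subgroup G} (h1 : X ≠ ⊥) (h2 : X ≠ ⊤) :
    normalizer (X : Set G) ≠ ⊤ := by
  intro e
  rcases h.simple.eq_bot_or_eq_top_of_normal X (normalizer_eq_top_iff.1 e) with e' | e'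
  exacts [h1 e', h2 e']

theorem Conf.coprime (h : Conf P D) {f : G} (hf : f ∈ D) : (orderOf f).Coprime p :=
  coprime_of_not_dvd_card h.notdvd hf

theorem Conf.commD (h : Conf P D) {a b : G} (ha : a ∈ D) (hb : b ∈ D) : a * b = b * a :=
  comm_of_abP h.ab h.notdvd ha hb

theorem Conf.commP (h : Conf P D) {a b : G} (ha : a ∈ (P : Subgroup G)) (hb : b ∈ (P : Subgroup G)) :
    a * b = b * a := by
  haveI := h.cyc
  obtain ⟨g, hg⟩ := h.cyc.exists_generator
  obtain ⟨i, hi⟩ := mem_zpowers_iff.1 (hg ⟨a, ha⟩)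
  obtain ⟨j, hj⟩ := mem_zpowers_iff.1 (hg ⟨b, hb⟩)
  have e := (Commute.refl g).zpow_zpow i j
  rw [hi, hj] at e
  exact congrArg Subtype.val e.eq

theorem Conf.le_N (h : Conf P D) {H : Subgroup G} (hH : H ≠ ⊤) (hPH : (P : Subgroup G) ≤ H)
    (hDH : D ≤ H) : H ≤ N := by
  rcases h.sub H hH with hc | hn
  · exfalso
    obtain ⟨d, hd, y, hy, hne⟩ := h.moves
    exact hne (commute_of_npc hc P.2 hPH (hDH hd) (h.coprime hd) (h.leN hd) hy)
  · have hnorm := hn (P.subtype hPH)
    intro g hg
    refine mem_normalizer_of_conj_mem _ fun x hx => ?_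
    have := hnorm.conj_mem ⟨x, hPH hx⟩
      (Subgroup.mem_subgroupOf.2 hx : (⟨x, hPH hx⟩ : H) ∈ ((P : Subgroup G)).subgroupOf H) ⟨g, hg⟩
    exact Subgroup.mem_subgroupOf.1 this

/-- `P` is a trivial intersection set with normaliser `N`. -/
theorem Conf.ti (h : Conf P D) {g y : G} (hy : y ∈ (P : Subgroup G)) (hy1 : y ≠ 1)
    (hgy : g * y * g⁻¹ ∈ (P : Subgroup G)) : g ∈ N := by
  set X := zpowers y with hX
  have hXP : X ≤ (P : Subgroup G) := by rw [hX, zpowers_le]; exact hy
  have hXne : X ≠ ⊥ := by rw [hX, Ne, zpowers_eq_bot]; exact hy1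
  have hmem : ∀ k : G, k * y * k⁻¹ ∈ (P : Subgroup G) → k ∈ normalizer (X : Set G) := by
    intro k hk
    refine H79.mem_normalizer_zpowers (mem_zpowers_of_cyclic h.cyc hy hk ?_)
    exact dvd_of_eq (MulEquiv.orderOf_eq (MulAut.conj k) y)
  have hL : normalizer (X : Set G) ≠ ⊤ := h.normalizer_ne_top hXne fun e => by
    refine h.notNormal ?_
    have : (P : Subgroup G) = ⊤ := eq_top_iff.2 (e ▸ hXP)
    rw [this]; infer_instance
  exact h.le_N hL (fun z hz => hmem z (by rw [h.commP hz hy, mul_inv_cancel_right]; exact hy))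
    (fun f hf => hmem f ((mem_normalizer_iff.1 (h.leN hf) y).1 hy)) (hmem g hgy)

theorem Conf.centralizer_le_N (h : Conf P D) {g y : G} (hy : y ∈ (P : Subgroup G)) (hy1 : y ≠ 1)
    (hgy : g * y = y * g) : g ∈ N :=
  h.ti hy hy1 (by rw [hgy, mul_inv_cancel_right]; exact hy)

theorem Conf.centralizes (h : Conf P D) {f y : G} (hf : f ∈ D) (hy : y ∈ (P : Subgroup G))
    (hy1 : y ≠ 1) (hfy : f * y = y * f) : ∀ z ∈ (P : Subgroup G), f * z = z * f :=
  centralizes_of_fixed P.2 h.cyc (h.leN hf) (h.coprime hf) hy hy1 hfy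

theorem Conf.P_inf_D (h : Conf P D) {x : G} (hx : x ∈ (P : Subgroup G)) (hxD : x ∈ D) : x = 1 :=
  eq_one_of_coprime_of_mem P.2 (h.coprime hxD) hx

theorem Conf.p_dvd (h : Conf P D) : p ∣ Nat.card P := by
  obtain ⟨k, hk⟩ := P.2.exists_card_eq
  rcases k with _ | k
  · rw [pow_zero] at hk
    exact absurd (Subgroup.card_eq_one.1 hk) h.ne_bot
  · exact (show Nat.card P = p ^ (k + 1) from hk) ▸ dvd_pow_self p k.succ_ne_zero

theorem Conf.p_ne_two (h : Conf P D) : p ≠ 2 := by
  intro e
  subst e
  obtain ⟨d, hd, y, hy, hne⟩ := h.moves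
  obtain ⟨z, hz⟩ := exists_prime_orderOf_dvd_card' (G := (P : Subgroup G)) 2 h.p_dvd
  have hzo : orderOf (z : G) = 2 := by rw [Subgroup.orderOf_coe]; exact hz
  have hz1 : (z : G) ≠ 1 := ne_one_of_involution hzo
  have hm : d * (z : G) * d⁻¹ ∈ zpowers (z : G) :=
    mem_zpowers_of_cyclic h.cyc z.2 ((mem_normalizer_iff.1 (h.leN hd) _).1 z.2)
      (dvd_of_eq (MulEquiv.orderOf_eq (MulAut.conj d) _))
  obtain ⟨i, hi⟩ := (Submonoid.mem_powers_iff _ _).1 (mem_powers_iff_mem_zpowers.2 hm)
  have hpp : (z : G) ^ i = 1 ∨ (z : G) ^ i = z := by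
    rw [← pow_mod_orderOf, hzo]
    rcases Nat.mod_two_eq_zero_or_one i with e | e <;> rw [e] <;> simp
  have hdz : d * (z : G) = z * d := by
    rw [hi] at hpp
    rcases hpp with e | e
    · exact absurd (by simpa using e) hz1
    · exact mul_inv_eq_iff_eq_mul.1 e
  exact hne (h.centralizes hd z.2 hz1 hdz y hy)

theorem Conf.P_odd (h : Conf P D) : Odd (Nat.card P) := by
  obtain ⟨k, hk⟩ := P.2.exists_card_eq
  rw [show Nat.card P = p ^ k from hk]
  exact (hp.out.odd_of_ne_two h.p_ne_two).pow

/-- Abelian: the centralizer of a `p'`-element commuting with no element of order `p`. -/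
theorem Conf.abelian_centralizer (h : Conf P D) {f : G}
    (hf : ∀ x : G, orderOf x = p → f * x ≠ x * f) : ¬ p ∣ Nat.card (centralizer ({f} : Set G)) := by
  intro hd
  obtain ⟨x, hx⟩ := exists_prime_orderOf_dvd_card' (G := centralizer ({f} : Set G)) p hd
  exact hf x (by rw [Subgroup.orderOf_coe]; exact hx)
    (Subgroup.mem_centralizer_singleton_iff.1 x.2).symm

section Trivial

/-- An element inverted by an involution, with square nontrivial, has order divisible by `p`. -/
theorem Conf.dvd_of_inverted (h : Conf P D) {t g : G} (ht : orderOf t = 2)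
    (htg : t * g * t⁻¹ = g⁻¹) (hg2 : g * g ≠ 1) : p ∣ orderOf g := by
  by_contra hnd
  have ht2 := mul_self_eq_one ht
  have hti := inv_eq_self_of_involution ht
  have hc : ∀ z ∈ zpowers g, t * z * t⁻¹ = z⁻¹ := by
    intro z hz
    obtain ⟨i, rfl⟩ := mem_zpowers_iff.1 hz
    rw [← conj_zpow, htg, inv_zpow]
  let S : Subgroup G :=
    { carrier := {a | a ∈ zpowers g ∨ a * t ∈ zpowers g}
      one_mem' := Or.inl (one_mem _)
      mul_mem' := fun {a b} ha hb => by
        rcases ha with ha | ha <;> rcases hb with hb | hb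
        · exact Or.inl (mul_mem ha hb)
        · exact Or.inr (by rw [mul_assoc]; exact mul_mem ha hb)
        · refine Or.inr ?_
          have := mul_mem ha ((hc b hb) ▸ inv_mem hb : t * b * t⁻¹ ∈ zpowers g)
          rwa [hti, show a * t * (t * b * t) = a * (t * t) * b * t by group, ht2, mul_one] at this
        · refine Or.inl ?_
          have := mul_mem ha ((hc _ hb) ▸ inv_mem hb : t * (b * t) * t⁻¹ ∈ zpowers g)
          rwa [show a * t * (t * (b * t) * t⁻¹) = a * (t * t) * b by group, ht2, mul_one] at this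
      inv_mem' := fun {a} ha => by
        rcases ha with ha | ha
        · exact Or.inl (inv_mem ha)
        · refine Or.inr ?_
          have := (hc _ ha) ▸ inv_mem ha
          rw [hti, mul_assoc, mul_assoc, ht2, mul_one] at this
          have h2 := inv_mem this
          rwa [mul_inv_rev, hti] at h2 }
  have hS : ¬ p ∣ Nat.card S := by
    intro hd
    obtain ⟨⟨x, hx⟩, hxo⟩ := exists_prime_orderOf_dvd_card' (G := S) p hd
    rw [Subgroup.orderOf_mk] at hxo
    rcases hx with hx | hx
    · exact hnd (hxo ▸ orderOf_dvd_of_mem_zpowers hx)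
    · have e := hc _ hx
      have hx2 : x * x = 1 := by
        rw [hti, show t * (x * t) * t = t * x * (t * t) by group, ht2, mul_one, mul_inv_rev, hti] at e
        have e2 : x = x⁻¹ := mul_left_cancel e
        nth_rewrite 2 [e2]
        exact mul_inv_cancel x
      have h2 : orderOf x ∣ 2 := orderOf_dvd_of_pow_eq_one (by rw [pow_two, hx2])
      rw [hxo] at h2
      exact h.p_ne_two ((Nat.prime_dvd_prime_iff_eq hp.out Nat.prime_two).1 h2)
  have hgt : t * g = g * t :=
    comm_of_abP h.ab hS (a := t) (b := g) (Or.inr (by rw [ht2]; exact one_mem _))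
      (Or.inl (mem_zpowers g))
  rw [hgt, mul_inv_cancel_right] at htg
  exact hg2 (eq_inv_iff_mul_eq_one.1 htg)

/-- There is no configuration in which `P` is self-centralizing. -/
theorem Conf.false_of_trivial (h : Conf P D)
    (hE : ∀ f ∈ D, (∀ z ∈ (P : Subgroup G), f * z = z * f) → f = 1) : False := by
  classical
  haveI := h.simple
  have := Fintype.ofFinite G
  -- centralizers of elements of `P`
  have hCP : ∀ y ∈ (P : Subgroup G), y ≠ 1 → ∀ g : G, g * y = y * g → g ∈ (P : Subgroup G) := by
    intro y hy hy1 g hg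
    obtain ⟨a, ha, f, hf, rfl⟩ := h.dec g (h.centralizer_le_N hy hy1 hg)
    have hfy : f * y = y * f := by
      apply mul_left_cancel (a := a)
      rw [← mul_assoc, hg, ← mul_assoc, ← h.commP ha hy]
      group
    rw [hE f hf (h.centralizes hf hy hy1 hfy), mul_one]
    exact ha
  obtain ⟨k, hk⟩ := P.2.exists_card_eq
  have hcardP : Nat.card P = p ^ k := hk
  have hk0 : k ≠ 0 := by
    rintro rfl
    exact h.ne_bot (Subgroup.card_eq_one.1 (by simpa using hcardP))
  have hpel : ∀ g : G, p ∣ orderOf g → ∃ c : G, c * g * c⁻¹ ∈ (P : Subgroup G) := by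
    intro g hg
    have hxo : orderOf (g ^ (orderOf g / p)) = p := orderOf_pow_orderOf_div (orderOf_pos g).ne' hg
    obtain ⟨c, hc⟩ := exists_conj_mem_sylow P (k := 1) (by rw [hxo, pow_one])
    refine ⟨c, hCP _ hc (fun e => hp.out.one_lt.ne' ?_) _ ?_⟩
    · rw [← hxo, show g ^ (orderOf g / p) = 1 by simpa using e, orderOf_one]
    · rw [← conj_pow]
      exact (Commute.self_pow _ _).eq
  have hpord : ∀ g : G, p ∣ orderOf g → orderOf g ∣ p ^ k := by
    intro g hg
    obtain ⟨c, hc⟩ := hpel g hg
    have := hcardP ▸ (P : Subgroup G).orderOf_dvd_natCard hc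
    rwa [show orderOf (c * g * c⁻¹) = orderOf g from MulEquiv.orderOf_eq (MulAut.conj c) g] at this
  have hp' : ∀ g : G, g ≠ 1 → ¬ p ∣ orderOf g → ¬ p ∣ Nat.card (centralizer ({g} : Set G)) := by
    intro g hg hng
    refine h.abelian_centralizer fun x hx hgx => ?_
    obtain ⟨c, hc⟩ := exists_conj_mem_sylow P (k := 1) (by rw [hx, pow_one] : orderOf x ∣ p ^ 1)
    have hm : c * g * c⁻¹ ∈ (P : Subgroup G) := by
      refine hCP _ hc (fun e => hp.out.one_lt.ne' (by rw [← hx, show x = 1 by simpa using e, orderOf_one]))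
        _ ?_
      calc c * g * c⁻¹ * (c * x * c⁻¹) = c * (g * x) * c⁻¹ := by group
        _ = c * (x * g) * c⁻¹ := by rw [hgx]
        _ = _ := by group
    have := eq_one_of_coprime_of_mem P.2 (x := c * g * c⁻¹) (by
      rw [show orderOf (c * g * c⁻¹) = orderOf g from MulEquiv.orderOf_eq (MulAut.conj c) g]
      exact (hp.out.coprime_iff_not_dvd.2 hng).symm) hm
    exact hg (by simpa using this)
  have hCA : ∀ x : G, x ≠ 1 → ∀ a ∈ centralizer ({x} : Set G),
      ∀ b ∈ centralizer ({x} : Set G), a * b = b * a := by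
    intro x hx a ha b hb
    by_cases hd : p ∣ orderOf x
    · obtain ⟨c, hc⟩ := hpel x hd
      have hm : ∀ a ∈ centralizer ({x} : Set G), c * a * c⁻¹ ∈ (P : Subgroup G) := fun a ha => by
        refine hCP _ hc (fun e => hx (by simpa using e)) _ ?_
        rw [Subgroup.mem_centralizer_singleton_iff] at ha
        calc c * a * c⁻¹ * (c * x * c⁻¹) = c * (a * x) * c⁻¹ := by group
          _ = c * (x * a) * c⁻¹ := by rw [ha]
          _ = _ := by group
      have e := h.commP (hm a ha) (hm b hb)
      apply mul_left_cancel (a := c)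
      apply mul_right_cancel (b := c⁻¹)
      calc c * (a * b) * c⁻¹ = c * a * c⁻¹ * (c * b * c⁻¹) := by group
        _ = c * b * c⁻¹ * (c * a * c⁻¹) := e
        _ = _ := by group
    · exact comm_of_abP h.ab (hp' x hx hd) ha hb
  rcases (Nat.even_or_odd (Nat.card G)).symm with hodd | heven
  · have := CfsgLib.CNCount.ca_solvable G hodd hCA
    obtain ⟨d, -, y, -, hne⟩ := h.moves
    exact hne (IsSimpleGroup.comm_iff_isSolvable.2 this d y)
  -- involutions
  have hnp2 : ∀ t : G, orderOf t = 2 → ¬ p ∣ orderOf t := fun t ht hd =>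
    h.p_ne_two ((Nat.prime_dvd_prime_iff_eq hp.out Nat.prime_two).1 (ht ▸ hd))
  have hA : ∀ t : G, orderOf t = 2 → ¬ p ∣ Nat.card (centralizer ({t} : Set G)) := fun t ht =>
    hp' t (ne_one_of_involution ht) (hnp2 t ht)
  -- commuting involutions come in multiples of `p`
  set I : G → Finset G := fun t => (invs G).filter fun s => s * t = t * s with hI
  have hIp : ∀ t : G, orderOf t = 2 → p ∣ (I t).card := by
    intro t ht
    set A := centralizer ({t} : Set G) with hAdef
    have : Fact (Nat.Prime 2) := ⟨Nat.prime_two⟩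
    obtain ⟨S, hS⟩ := (IsPGroup.of_card (p := 2) (n := 1)
      (by rw [Nat.card_zpowers, ht, pow_one]) : IsPGroup 2 (zpowers t)).exists_le_sylow
    have htS := hS (mem_zpowers t)
    have hSp : ¬ p ∣ Nat.card (S : Subgroup G) := by
      intro hd
      obtain ⟨j, hj⟩ := S.2.exists_card_eq
      rw [show Nat.card (S : Subgroup G) = 2 ^ j from hj] at hd
      exact h.p_ne_two ((Nat.prime_dvd_prime_iff_eq hp.out Nat.prime_two).1 (hp.out.dvd_of_dvd_pow hd))
    have hSA : (S : Subgroup G) ≤ A := fun s hs =>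
      Subgroup.mem_centralizer_singleton_iff.2 (comm_of_abP h.ab hSp hs htS)
    obtain ⟨g, hgN, s, hs, hgs⟩ : ∃ g ∈ normalizer ((S : Subgroup G) : Set G),
        ∃ s ∈ (S : Subgroup G), s * g ≠ g * s := by
      by_contra hcon
      push Not at hcon
      rcases CfsgLib.Transfer.simple_of_hasNormalPComplement
        (CfsgLib.Transfer.hasNormalPComplement_of_normalizer_le S fun g hg s hs => hcon g hg s hs) with e | e
      · exact e heven.two_dvd
      · obtain ⟨j, hj⟩ := e.exists_card_eq
        have hpG : p ∣ 2 ^ j := hj ▸ h.p_dvd.trans (P : Subgroup G).card_subgroup_dvd_card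
        exact h.p_ne_two ((Nat.prime_dvd_prime_iff_eq hp.out Nat.prime_two).1 (hp.out.dvd_of_dvd_pow hpG))
    have hgA : g ∈ normalizer (A : Set G) := by
      refine mem_normalizer_of_conj_mem _ fun a ha => ?_
      have ht' : g⁻¹ * t * g ∈ A := hSA (by
        have := (mem_normalizer_iff.1 (inv_mem hgN) t).1 htS
        simpa using this)
      have e := comm_of_abP h.ab (hA t ht) ha ht'
      rw [hAdef, Subgroup.mem_centralizer_singleton_iff]
      calc g * a * g⁻¹ * t = g * (a * (g⁻¹ * t * g)) * g⁻¹ := by group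
        _ = g * ((g⁻¹ * t * g) * a) * g⁻¹ := by rw [e]
        _ = _ := by group
    have hNA : p ∣ Nat.card (normalizer (A : Set G)) := by
      by_contra hnd
      exact hgs (comm_of_abP h.ab hnd (Subgroup.le_normalizer (hSA hs)) hgA)
    obtain ⟨x', hx'⟩ := exists_prime_orderOf_dvd_card' p hNA
    set x : G := (x' : G) with hxdef
    have hxo : orderOf x = p := by rw [hxdef, Subgroup.orderOf_coe]; exact hx'
    have hmap : ∀ s ∈ I t, x * s * x⁻¹ ∈ I t := by
      intro s hs
      simp only [hI, Finset.mem_filter, mem_invs] at hs ⊢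
      refine ⟨by rw [← hs.1]; exact MulEquiv.orderOf_eq (MulAut.conj x) s, ?_⟩
      have := (mem_normalizer_iff.1 x'.2 s).1 (Subgroup.mem_centralizer_singleton_iff.2 hs.2)
      exact Subgroup.mem_centralizer_singleton_iff.1 this
    let σ : Equiv.Perm {s // s ∈ I t} :=
      Equiv.ofBijective (fun s => ⟨x * s.1 * x⁻¹, hmap _ s.2⟩)
        (Finite.injective_iff_bijective.1 fun a b e => Subtype.ext (by
          simpa using congrArg Subtype.val e))
    have hσn : ∀ n : ℕ, ∀ s, ((σ ^ n) s).1 = x ^ n * s.1 * (x ^ n)⁻¹ := by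
      intro n
      induction n with
      | zero => intro s; simp
      | succ n ih =>
        intro s
        rw [pow_succ', Equiv.Perm.mul_apply]
        show x * ((σ ^ n) s).1 * x⁻¹ = _
        rw [ih, pow_succ']
        group
    have hσ : σ ^ p ^ 1 = 1 := Equiv.ext fun s => Subtype.ext (by
      rw [hσn, pow_one, ← hxo, pow_orderOf_eq_one]; simp)
    have e := Equiv.Perm.card_compl_support_modEq hσ
    have hempty : σ.supportᶜ = ∅ := by
      ext s
      simp only [Finset.mem_compl, Equiv.Perm.mem_support, not_not, Finset.notMem_empty, iff_false]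
      intro hfix
      have h1 := congrArg Subtype.val hfix
      have hs2 := s.2
      simp only [hI, Finset.mem_filter, mem_invs] at hs2
      refine hA s.1 hs2.1 (hxo ▸ Subgroup.orderOf_dvd_natCard _ ?_)
      exact Subgroup.mem_centralizer_singleton_iff.2 (mul_inv_eq_iff_eq_mul.1 h1)
    rw [hempty, Finset.card_empty, Fintype.card_coe] at e
    exact Nat.modEq_zero_iff_dvd.1 e.symm
  have hsumI : p ^ (k + 1) ∣ ∑ t ∈ invs G, (I t).card := by
    rw [← Finset.sum_fiberwise_of_maps_to (g := ConjClasses.mk) (t := (invs G).image ConjClasses.mk)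
      (fun t ht => Finset.mem_image_of_mem _ ht)]
    refine Finset.dvd_sum fun q hq => ?_
    obtain ⟨t, ht, rfl⟩ := Finset.mem_image.1 hq
    rw [mem_invs] at ht
    have hconst : ∀ s ∈ (invs G).filter (fun s => ConjClasses.mk s = ConjClasses.mk t),
        (I s).card = (I t).card := by
      intro s hs
      obtain ⟨c, rfl⟩ := isConj_iff.1 (ConjClasses.mk_eq_mk_iff_isConj.1 (Finset.mem_filter.1 hs).2).symm
      symm
      refine Finset.card_bij (fun a _ => c * a * c⁻¹) (fun a ha => ?_) (fun a _ b _ e => by simpa using e)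
        (fun a ha => ⟨c⁻¹ * a * c, ?_, by group⟩)
      · simp only [hI, Finset.mem_filter, mem_invs] at ha ⊢
        refine ⟨by rw [← ha.1]; exact MulEquiv.orderOf_eq (MulAut.conj c) a, ?_⟩
        calc c * a * c⁻¹ * (c * t * c⁻¹) = c * (a * t) * c⁻¹ := by group
          _ = c * (t * a) * c⁻¹ := by rw [ha.2]
          _ = _ := by group
      · simp only [hI, Finset.mem_filter, mem_invs] at ha ⊢
        refine ⟨by rw [← ha.1]; simpa using MulEquiv.orderOf_eq (MulAut.conj c⁻¹) a, ?_⟩
        calc c⁻¹ * a * c * t = c⁻¹ * (a * (c * t * c⁻¹)) * c := by group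
          _ = c⁻¹ * (c * t * c⁻¹ * a) * c := by rw [ha.2]
          _ = _ := by group
    rw [Finset.sum_congr rfl hconst, Finset.sum_const, smul_eq_mul, pow_succ]
    refine mul_dvd_mul ?_ (hIp t ht)
    have hset : (((invs G).filter fun s => ConjClasses.mk s = ConjClasses.mk t : Finset G) : Set G) =
        {s | IsConj t s} := by
      ext s
      simp only [Finset.coe_filter, mem_invs, Set.mem_setOf_eq, ConjClasses.mk_eq_mk_iff_isConj]
      refine ⟨fun hs => hs.2.symm, fun hs => ⟨?_, hs.symm⟩⟩
      obtain ⟨c, rfl⟩ := isConj_iff.1 hs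
      rw [← ht]; exact MulEquiv.orderOf_eq (MulAut.conj c) t
    rw [← Set.ncard_coe_finset, hset, ncard_conjugates]
    refine Nat.Coprime.dvd_of_dvd_mul_left ?_ (hcardP ▸ ((centralizer ({t} : Set G)).card_mul_index.symm ▸
      (P : Subgroup G).card_subgroup_dvd_card))
    exact ((hp.out.coprime_iff_not_dvd.2 (hA t ht))).pow_left k
  -- the inverted `p`-elements
  set R : Finset G := Finset.univ.filter fun g => g ≠ 1 ∧ p ∣ orderOf g with hR
  by_cases hex : ∃ t g : G, orderOf t = 2 ∧ g * g ≠ 1 ∧ t * g * t⁻¹ = g⁻¹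
  · obtain ⟨t, g, ht, hg2, htg⟩ := hex
    obtain ⟨c, hc⟩ := hpel g (h.dvd_of_inverted ht htg hg2)
    set y := c * g * c⁻¹ with hy
    set s := c * t * c⁻¹ with hs
    have hso : orderOf s = 2 := by rw [hs, ← ht]; exact MulEquiv.orderOf_eq (MulAut.conj c) t
    have hy1 : y ≠ 1 := fun e => hg2 (by rw [show g = 1 by simpa [hy] using e, mul_one])
    have hsy : s * y * s⁻¹ = y⁻¹ := by
      calc s * y * s⁻¹ = c * (t * g * t⁻¹) * c⁻¹ := by rw [hs, hy]; group
        _ = c * g⁻¹ * c⁻¹ := by rw [htg]
        _ = y⁻¹ := by rw [hy]; group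
    have hsN : s ∈ N := h.ti hc hy1 (hsy ▸ inv_mem hc)
    have hss := mul_self_eq_one hso
    have hsinv : ∀ z ∈ (P : Subgroup G), s * z * s⁻¹ = z⁻¹ := by
      intro z hz
      have hz' : s * z * s⁻¹ ∈ (P : Subgroup G) := (mem_normalizer_iff.1 hsN z).1 hz
      by_contra hne
      have hq1 : z * (s * z * s⁻¹) ≠ 1 := fun e => hne (eq_inv_of_mul_eq_one_right e)
      have hcs := hCP _ (mul_mem hz hz') hq1 s (by
        have e1 := h.commP hz hz'
        rw [inv_eq_self_of_involution hso] at e1 ⊢
        calc s * (z * (s * z * s)) = (s * z * s) * z * s := by group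
          _ = z * (s * z * s) * s := by rw [← e1])
      exact hnp2 s hso (by
        have hd := (P : Subgroup G).orderOf_dvd_natCard hcs
        rw [hso, hcardP] at hd
        exact absurd (Nat.prime_two.dvd_of_dvd_pow hd) fun h2 =>
          h.p_ne_two ((Nat.prime_dvd_prime_iff_eq Nat.prime_two hp.out).1 h2).symm)
    have hRval : ∀ z ∈ R, (invPairs z).card = p ^ k := by
      intro z hz
      simp only [hR, Finset.mem_filter, Finset.mem_univ, true_and] at hz
      obtain ⟨a, ha⟩ := hpel z hz.2
      have hw1 : a * z * a⁻¹ ≠ 1 := fun e => hz.1 (by simpa using e)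
      have hcent : centralizer ({a * z * a⁻¹} : Set G) = (P : Subgroup G) := le_antisymm
        (fun b hb => hCP _ ha hw1 b (Subgroup.mem_centralizer_singleton_iff.1 hb))
        (fun b hb => Subgroup.mem_centralizer_singleton_iff.2 (h.commP hb ha))
      have hmem : s ∈ invPairs (a * z * a⁻¹) := mem_invPairs_iff_inverts.2
        ⟨hso, fun e => hnp2 s hso (by
          have hs' : s = (a * z * a⁻¹)⁻¹ := eq_inv_of_mul_eq_one_left e
          rw [hs', orderOf_inv]
          rw [show orderOf (a * z * a⁻¹) = orderOf z from MulEquiv.orderOf_eq (MulAut.conj a) z]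
          exact hz.2), hsinv _ ha⟩
      have e := card_invPairs_eq hmem fun b hb hbs => by
        rw [hcent] at hb
        by_contra hb1
        have hsP := hCP b hb hb1 s hbs.eq.symm
        have hd := (P : Subgroup G).orderOf_dvd_natCard hsP
        rw [hso, hcardP] at hd
        exact h.p_ne_two ((Nat.prime_dvd_prime_iff_eq Nat.prime_two hp.out).1
          (Nat.prime_two.dvd_of_dvd_pow hd)).symm
      rw [hcent, hcardP] at e
      rw [← e]
      symm
      refine Finset.card_bij (fun w _ => a⁻¹ * w * a) (fun w hw => ?_) (fun w _ w' _ e => by simpa using e)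
        (fun w hw => ⟨a * w * a⁻¹, ?_, by group⟩)
      · rw [mem_invPairs] at hw ⊢
        rw [show a⁻¹ * w * a * z = a⁻¹ * (w * (a * z * a⁻¹)) * (a⁻¹)⁻¹ by group,
          show a⁻¹ * w * a = a⁻¹ * w * (a⁻¹)⁻¹ by group]
        exact ⟨(MulEquiv.orderOf_eq (MulAut.conj a⁻¹) w).trans hw.1,
          (MulEquiv.orderOf_eq (MulAut.conj a⁻¹) _).trans hw.2⟩
      · rw [mem_invPairs] at hw ⊢
        rw [show a * w * a⁻¹ * (a * z * a⁻¹) = a * (w * z) * a⁻¹ by group]
        exact ⟨(MulEquiv.orderOf_eq (MulAut.conj a) w).trans hw.1,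
          (MulEquiv.orderOf_eq (MulAut.conj a) _).trans hw.2⟩
    have hinvval : ∀ z ∈ invs G, (invPairs z).card + 1 = (I z).card := by
      intro z hz
      rw [mem_invs] at hz
      have hzI : z ∈ I z := by simp [hI, hz]
      have e : invPairs z = (I z).erase z := by
        ext w
        rw [mem_invPairs_of_involution hz]
        simp only [hI, Finset.mem_erase, Finset.mem_filter, mem_invs]
        exact ⟨fun hw => ⟨hw.2.2, hw.1, hw.2.1.eq⟩, fun hw => ⟨hw.2.1, hw.2.2, hw.1⟩⟩
      rw [e, Finset.card_erase_add_one hzI]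
    have hzero : ∀ z : G, z ≠ 1 → z ∉ invs G → z ∉ R → (invPairs z).card = 0 := by
      intro z hz1 hzi hzR
      rw [Finset.card_eq_zero, Finset.eq_empty_iff_forall_notMem]
      intro w hw
      obtain ⟨hw2, -, hwz⟩ := mem_invPairs_iff_inverts.1 hw
      refine hzR (Finset.mem_filter.2 ⟨Finset.mem_univ _, hz1, h.dvd_of_inverted hw2 hwz fun e => hzi ?_⟩)
      exact mem_invs.2 (orderOf_eq_two_iff_mul.2 ⟨hz1, e⟩)
    have hdisj : Disjoint (invs G) R := by
      rw [Finset.disjoint_left]
      intro z hz hzR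
      simp only [hR, Finset.mem_filter, Finset.mem_univ, true_and] at hzR
      exact hnp2 z (mem_invs.1 hz) hzR.2
    have hsum : (invs G).card * (invs G).card = ∑ z ∈ invs G, (I z).card + R.card * p ^ k := by
      have h1not : (1 : G) ∉ invs G ∪ R := by simp [hR]
      rw [← sum_card_invPairs, ← Finset.sum_subset (Finset.subset_univ (insert 1 (invs G ∪ R)))
        (fun z _ hz => by
          simp only [Finset.mem_insert, Finset.mem_union, not_or] at hz
          exact hzero z hz.1 hz.2.1 hz.2.2),
        Finset.sum_insert h1not, invPairs_one, Finset.sum_union hdisj, Finset.sum_congr rfl hRval,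
        Finset.sum_const, smul_eq_mul, ← Finset.sum_congr rfl hinvval, Finset.sum_add_distrib,
        Finset.sum_const, smul_eq_mul, mul_one]
      ring
    have hm : p ^ k ∣ (invs G).card := by
      rw [Finset.card_eq_sum_card_fiberwise (f := ConjClasses.mk) (t := (invs G).image ConjClasses.mk)
        (fun t ht => Finset.mem_image_of_mem _ ht)]
      refine Finset.dvd_sum fun q hq => ?_
      obtain ⟨t, ht, rfl⟩ := Finset.mem_image.1 hq
      rw [mem_invs] at ht
      have hset : (((invs G).filter fun s => ConjClasses.mk s = ConjClasses.mk t : Finset G) : Set G) =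
          {s | IsConj t s} := by
        ext s
        simp only [Finset.coe_filter, mem_invs, Set.mem_setOf_eq, ConjClasses.mk_eq_mk_iff_isConj]
        refine ⟨fun hs => hs.2.symm, fun hs => ⟨?_, hs.symm⟩⟩
        obtain ⟨c, rfl⟩ := isConj_iff.1 hs
        rw [← ht]; exact MulEquiv.orderOf_eq (MulAut.conj c) t
      rw [← Set.ncard_coe_finset, hset, ncard_conjugates]
      refine Nat.Coprime.dvd_of_dvd_mul_left ?_ (hcardP ▸ ((centralizer ({t} : Set G)).card_mul_index.symm ▸
        (P : Subgroup G).card_subgroup_dvd_card))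
      exact ((hp.out.coprime_iff_not_dvd.2 (hA t ht))).pow_left k
    have hmm : p ^ (k + 1) ∣ (invs G).card * (invs G).card := by
      refine (pow_dvd_pow p (show k + 1 ≤ k + k by omega)).trans ?_
      rw [pow_add]
      exact mul_dvd_mul hm hm
    rw [hsum, Nat.dvd_add_right hsumI, pow_succ'] at hmm
    have hRp : p ∣ R.card := (Nat.mul_dvd_mul_iff_right (pow_pos hp.out.pos k)).1 hmm
    -- count `R` modulo `p`
    obtain ⟨a', ha'⟩ := h.cyc.exists_generator
    set a : G := (a' : G) with hadef
    have hao : orderOf a = p ^ k := by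
      rw [hadef, Subgroup.orderOf_coe, ← hcardP]
      exact orderOf_eq_card_of_forall_mem_zpowers ha'
    have ha1 : a ≠ 1 := fun e => by
      rw [e, orderOf_one] at hao
      exact absurd hao.symm (Nat.one_lt_pow hk0 hp.out.one_lt).ne'
    have hmap : ∀ z ∈ R, a * z * a⁻¹ ∈ R := by
      intro z hz
      simp only [hR, Finset.mem_filter, Finset.mem_univ, true_and] at hz ⊢
      exact ⟨fun e => hz.1 (by simpa using e),
        (MulEquiv.orderOf_eq (MulAut.conj a) z).symm ▸ hz.2⟩
    let σ : Equiv.Perm {z // z ∈ R} :=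
      Equiv.ofBijective (fun z => ⟨a * z.1 * a⁻¹, hmap _ z.2⟩)
        (Finite.injective_iff_bijective.1 fun a b e => Subtype.ext (by
          simpa using congrArg Subtype.val e))
    have hσn : ∀ n : ℕ, ∀ z, ((σ ^ n) z).1 = a ^ n * z.1 * (a ^ n)⁻¹ := by
      intro n
      induction n with
      | zero => intro s; simp
      | succ n ih =>
        intro s
        rw [pow_succ', Equiv.Perm.mul_apply]
        show a * ((σ ^ n) s).1 * a⁻¹ = _
        rw [ih, pow_succ']
        group
    have hσ : σ ^ p ^ k = 1 := Equiv.ext fun s => Subtype.ext (by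
      rw [hσn, ← hao, pow_orderOf_eq_one]; simp)
    have e := Equiv.Perm.card_compl_support_modEq hσ
    have hfix : σ.supportᶜ.map (Function.Embedding.subtype _) =
        (Finset.univ.filter fun z : G => z ∈ (P : Subgroup G)).erase 1 := by
      ext z
      simp only [Finset.mem_map, Finset.mem_compl, Equiv.Perm.mem_support, not_not,
        Function.Embedding.coe_subtype, Finset.mem_erase, Finset.mem_filter, Finset.mem_univ, true_and]
      constructor
      · rintro ⟨z, hz, rfl⟩
        have hz2 := z.2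
        simp only [hR, Finset.mem_filter, Finset.mem_univ, true_and] at hz2
        exact ⟨hz2.1, hCP a a'.2 ha1 z.1 (mul_inv_eq_iff_eq_mul.1 (congrArg Subtype.val hz)).symm⟩
      · rintro ⟨hz1, hzP⟩
        have hzo : p ∣ orderOf z := by
          obtain ⟨i, -, hi⟩ := (Nat.dvd_prime_pow hp.out).1
            (hcardP ▸ (P : Subgroup G).orderOf_dvd_natCard hzP)
          rcases i with _ | i
          · exact absurd (orderOf_eq_one_iff.1 (by simpa using hi)) hz1
          · exact hi ▸ dvd_pow_self p i.succ_ne_zero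
        refine ⟨⟨z, Finset.mem_filter.2 ⟨Finset.mem_univ _, hz1, hzo⟩⟩, Subtype.ext ?_, rfl⟩
        show a * z * a⁻¹ = z
        rw [h.commP a'.2 hzP, mul_inv_cancel_right]
    rw [← Finset.card_map (Function.Embedding.subtype _), hfix, Finset.card_erase_of_mem (by simp),
      Fintype.card_coe, ← Fintype.card_subtype] at e
    have h0 : Fintype.card {z : G // z ∈ (P : Subgroup G)} = p ^ k := by
      rw [← Nat.card_eq_fintype_card]; exact hcardP
    rw [h0] at e
    have h1 : p ∣ p ^ k - 1 :=
      Nat.modEq_zero_iff_dvd.1 (e.trans (Nat.modEq_zero_iff_dvd.2 hRp))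
    have h2 := Nat.dvd_sub (dvd_pow_self p hk0) h1
    rw [Nat.sub_sub_self (Nat.one_le_pow _ _ hp.out.pos)] at h2
    exact hp.out.one_lt.ne' (Nat.dvd_one.1 h2)
  · push Not at hex
    obtain ⟨t', ht'⟩ := exists_prime_orderOf_dvd_card' (G := G) 2 heven.two_dvd
    have hcomm : ∀ a b : G, orderOf a = 2 → orderOf b = 2 → a * b = b * a := by
      intro a b ha hb
      have h1 : a * (a * b) * a⁻¹ = (a * b)⁻¹ := by
        rw [mul_inv_rev, inv_eq_self_of_involution ha, inv_eq_self_of_involution hb, ← mul_assoc,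
          mul_self_eq_one ha, one_mul]
      by_contra hne
      refine hex a (a * b) ha (fun e => hne ?_) h1
      have := inv_eq_of_mul_eq_one_left e
      rw [mul_inv_rev, inv_eq_self_of_involution ha, inv_eq_self_of_involution hb] at this
      exact this.symm
    let M := Subgroup.closure {a : G | orderOf a = 2}
    have hMn : M.Normal := ⟨fun m hm g => by
      refine Subgroup.closure_induction (fun a ha => ?_) (by simp) (fun a b _ _ ha hb => ?_)
        (fun a _ ha => ?_) hm
      · exact Subgroup.subset_closure ((MulEquiv.orderOf_eq (MulAut.conj g) a).trans ha)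
      · rw [← conj_mul]; exact M.mul_mem ha hb
      · rw [← conj_inv]; exact M.inv_mem ha⟩
    have htM : t' ∈ M := Subgroup.subset_closure ht'
    rcases h.simple.eq_bot_or_eq_top_of_normal M hMn with e | e
    · rw [e, Subgroup.mem_bot] at htM
      exact ne_one_of_involution ht' htM
    · refine h.centralizer_ne_top (ne_one_of_involution ht') (eq_top_iff.2 ?_)
      rw [← e]
      exact (Subgroup.closure_le _).2 fun a ha =>
        Subgroup.mem_centralizer_singleton_iff.2 (hcomm a t' ha ht')

end Trivial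

end H79.CycSylow
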