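import Mathlib

/-! Derived length of `p`-groups: subgroups of small index and regular wreath products. -/

set_option autoImplicit false

namespace H79

open Subgroup
open scoped commutatorElement

variable {G : Type*} [Group G]

theorem derivedSeries_succ_le_map (M : Subgroup G) (hM : commutator G ≤ M) (j : ℕ) :
    derivedSeries G (j + 1) ≤ (derivedSeries M j).map M.subtype := by
  induction j with
  | zero =>
    rw [derivedSeries_one, derivedSeries_zero, ← MonoidHom.range_eq_map, Subgroup.range_subtype]
    exact hM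
  | succ j ih =>
    rw [derivedSeries_succ G (j + 1), derivedSeries_succ M j, Subgroup.map_commutator]
    exact Subgroup.commutator_mono ih ih

theorem map_derivedSeries_derived_le (i j : ℕ) :
    (derivedSeries (derivedSeries G i) j).map (derivedSeries G i).subtype ≤ derivedSeries G (i + j) := by
  induction j with
  | zero => simp [← MonoidHom.range_eq_map, Subgroup.range_subtype]
  | succ j ih =>
    rw [derivedSeries_succ, Subgroup.map_commutator, ← Nat.add_assoc, derivedSeries_succ]
    exact Subgroup.commutator_mono ih ih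

/-- A normal subgroup of index `p` above a proper subgroup of a finite `p`-group. -/
theorem exists_normal_index_p_of_ne_top [Finite G] {p : ℕ} [Fact p.Prime] (hG : IsPGroup p G)
    (H : Subgroup G) (hH : H ≠ ⊤) : ∃ M : Subgroup G, H ≤ M ∧ M.Normal ∧ M.index = p := by
  obtain ⟨n, hn⟩ := IsPGroup.iff_card.1 hG
  obtain ⟨m, hm⟩ := IsPGroup.iff_card.1 (hG.to_subgroup H)
  have hlt : m < n := by
    have h1 : Nat.card H < Nat.card G := lt_of_le_of_ne (Subgroup.card_le_card_group H)
      (fun h => hH ((Subgroup.card_eq_iff_eq_top H).1 h))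
    rw [hn, hm] at h1
    exact (Nat.pow_lt_pow_iff_right (Fact.out : p.Prime).one_lt).1 h1
  obtain ⟨K, hK, hle⟩ := Sylow.exists_subgroup_card_pow_prime_le p (m := n - 1)
    (hn ▸ pow_dvd_pow p (Nat.sub_le n 1)) H hm (by omega)
  have hidx : K.index = p := by
    have := K.index_mul_card
    rw [hK, hn] at this
    apply Nat.eq_of_mul_eq_mul_right (pow_pos (Fact.out : p.Prime).pos (n - 1))
    rw [this, ← pow_succ', Nat.sub_add_cancel (by omega)]
  refine ⟨K, hle, ?_, hidx⟩
  apply Subgroup.normal_of_index_eq_minFac_card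
  rw [hidx, hn, Nat.pow_minFac (by omega), (Fact.out : p.Prime).minFac_eq]

theorem derivedSeries_le_of_index_lt : ∀ (k : ℕ) {G : Type*} [Group G] [Finite G] {p : ℕ} [Fact p.Prime]
    (_hG : IsPGroup p G) (H : Subgroup G), H.index < p ^ (k + 1) → derivedSeries G k ≤ H := by
  intro k
  induction k with
  | zero =>
    intro G _ _ p _ hG H hH
    by_cases hT : H = ⊤
    · rw [hT]; exact le_top
    obtain ⟨M, hle, -, hidx⟩ := exists_normal_index_p_of_ne_top hG H hT
    have h1 := Subgroup.index_dvd_of_le hle
    rw [hidx] at h1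
    have := Nat.le_of_dvd (Nat.pos_of_ne_zero Subgroup.index_ne_zero_of_finite) h1
    simp at hH
    omega
  | succ k ih =>
    intro G _ _ p _ hG H hH
    by_cases hT : H = ⊤
    · rw [hT]; exact le_top
    obtain ⟨M, hle, hMn, hidx⟩ := exists_normal_index_p_of_ne_top hG H hT
    have hrel : (H.subgroupOf M).index < p ^ (k + 1) := by
      have h1 : H.relIndex M * M.index = H.index := Subgroup.relIndex_mul_index hle
      rw [hidx] at h1
      rw [← h1, pow_succ p (k + 1)] at hH
      exact Nat.lt_of_mul_lt_mul_right hH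
    have hcomm : commutator G ≤ M := by
      have hcard : Nat.card (G ⧸ M) = p := hidx
      have := isCyclic_of_prime_card hcard
      exact (Subgroup.Normal.quotient_commutative_iff_commutator_le (N := M)).1 ⟨⟨fun a b => (IsCyclic.commGroup (α := G ⧸ M)).mul_comm a b⟩⟩
    refine (derivedSeries_succ_le_map M hcomm k).trans ?_
    refine (Subgroup.map_mono (ih (hG.to_subgroup M) _ hrel)).trans ?_
    rw [Subgroup.map_subgroupOf_eq_of_le hle]

theorem derivedSeries_wreath_ne_bot {D Q : Type*} [Group D] [CommGroup Q] [Nontrivial Q] (j : ℕ)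
    (hD : derivedSeries D j ≠ ⊥) : derivedSeries (D ≀ᵣ Q) (j + 1) ≠ ⊥ := by
  classical
  set S := derivedSeries (D ≀ᵣ Q) 1 with hS
  have hS0 : S ≤ (RegularWreathProduct.rightHom : D ≀ᵣ Q →* Q).ker := by
    rw [hS, derivedSeries_one]
    exact Abelianization.commutator_subset_ker _
  let π : S →* D :=
    { toFun := fun w => (w : D ≀ᵣ Q).left 1
      map_one' := rfl
      map_mul' := fun u v => by
        have hu : (u : D ≀ᵣ Q).right = 1 := hS0 u.2
        simp [hu] }
  have hπ : Function.Surjective π := by
    intro a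
    obtain ⟨c, hc⟩ := exists_ne (1 : Q)
    let f : D ≀ᵣ Q := ⟨Pi.mulSingle 1 a, 1⟩
    have hmem : ⁅f, RegularWreathProduct.inl c⁆ ∈ S := by
      rw [hS, derivedSeries_one, _root_.commutator_def]
      exact Subgroup.commutator_mem_commutator (Subgroup.mem_top _) (Subgroup.mem_top _)
    refine ⟨⟨_, hmem⟩, ?_⟩
    show (⁅f, RegularWreathProduct.inl c⁆).left 1 = a
    simp [commutatorElement_def, f, Pi.mulSingle_apply, hc]
  intro h
  apply hD
  rw [← map_derivedSeries_eq hπ j]
  have h2 := map_derivedSeries_derived_le (G := D ≀ᵣ Q) 1 j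
  rw [Nat.add_comm 1 j, h, le_bot_iff, Subgroup.map_eq_bot_iff_of_injective _ (Subgroup.subtype_injective _)] at h2
  rw [h2, Subgroup.map_bot]

theorem derivedSeries_iteratedWreath_ne_bot (Q : Type*) [CommGroup Q] [Finite Q] [Nontrivial Q] (n : ℕ) :
    derivedSeries (IteratedWreathProduct Q (n + 1)) n ≠ ⊥ := by
  induction n with
  | zero =>
    rw [derivedSeries_zero]
    intro h
    have h1 : Nat.card (IteratedWreathProduct Q 1) = 1 := by
      rw [← Subgroup.card_top, h, Subgroup.card_bot]
    rw [IteratedWreathProduct.card] at h1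
    simp at h1
    have := Finite.one_lt_card (α := Q)
    omega
  | succ n ih => exact derivedSeries_wreath_ne_bot n ih

theorem derivedSeries_ne_bot_of_injective {G H : Type*} [Group G] [Group H] (f : G →* H)
    (hf : Function.Injective f) (n : ℕ) (h : derivedSeries G n ≠ ⊥) : derivedSeries H n ≠ ⊥ := by
  intro hb
  apply h
  have := map_derivedSeries_le_derivedSeries f n
  rwa [hb, le_bot_iff, Subgroup.map_eq_bot_iff_of_injective _ hf] at this

end H79
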