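import Mathlib

/-! Integer vectors of small norm, and the final arithmetic, for the dihedral configuration. -/

set_option autoImplicit false

namespace H79.DihCore

theorem exists_one_of_sum_sq {ι : Type*} [DecidableEq ι] (s : Finset ι) (v : ι → ℤ)
    (h : ∑ i ∈ s, v i ^ 2 = 1) :
    ∃ a ∈ s, (v a = 1 ∨ v a = -1) ∧ ∀ i ∈ s, i ≠ a → v i = 0 := by
  obtain ⟨a, ha, hne⟩ : ∃ a ∈ s, v a ≠ 0 := by
    by_contra h0
    push Not at h0
    rw [Finset.sum_eq_zero fun i hi => by simp [h0 i hi]] at h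
    norm_num at h
  have h2 := Finset.add_sum_erase s (fun i => v i ^ 2) ha
  have hsq : 0 < v a ^ 2 := by positivity
  have hnn : 0 ≤ ∑ i ∈ s.erase a, v i ^ 2 := Finset.sum_nonneg fun i _ => sq_nonneg _
  have ha1 : v a ^ 2 = 1 := by simp only [h] at h2; omega
  have hz : ∑ i ∈ s.erase a, v i ^ 2 = 0 := by simp only [h] at h2; omega
  refine ⟨a, ha, sq_eq_one_iff.1 ha1, fun i hi hia => ?_⟩
  have := (Finset.sum_eq_zero_iff_of_nonneg fun i _ => sq_nonneg (v i)).1 hz i (Finset.mem_erase.2 ⟨hia, hi⟩)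
  exact pow_eq_zero_iff (n := 2) (by norm_num) |>.1 this

theorem exists_two_of_sum_sq {ι : Type*} [DecidableEq ι] (s : Finset ι) (v : ι → ℤ)
    (h : ∑ i ∈ s, v i ^ 2 = 2) :
    ∃ a ∈ s, ∃ b ∈ s, a ≠ b ∧ (v a = 1 ∨ v a = -1) ∧ (v b = 1 ∨ v b = -1) ∧
      ∀ i ∈ s, i ≠ a → i ≠ b → v i = 0 := by
  obtain ⟨a, ha, hne⟩ : ∃ a ∈ s, v a ≠ 0 := by
    by_contra h0
    push Not at h0
    rw [Finset.sum_eq_zero fun i hi => by simp [h0 i hi]] at h
    norm_num at h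
  have h2 := Finset.add_sum_erase s (fun i => v i ^ 2) ha
  have hsq : 0 < v a ^ 2 := by positivity
  have hnn : 0 ≤ ∑ i ∈ s.erase a, v i ^ 2 := Finset.sum_nonneg fun i _ => sq_nonneg _
  have hle : v a ^ 2 ≤ 2 := by simp only [h] at h2; omega
  have hb1 : v a ≤ 1 := by nlinarith
  have hb2 : -1 ≤ v a := by nlinarith
  have hva : v a = 1 ∨ v a = -1 := by omega
  have hz : ∑ i ∈ s.erase a, v i ^ 2 = 1 := by
    simp only [h] at h2
    rcases hva with e | e <;> rw [e] at h2 <;> linarith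
  obtain ⟨b, hb, hvb, hrest⟩ := exists_one_of_sum_sq _ v hz
  exact ⟨a, ha, b, (Finset.mem_erase.1 hb).2, (Finset.mem_erase.1 hb).1.symm, hva, hvb,
    fun i hi hia hib => hrest i (Finset.mem_erase.2 ⟨hia, hi⟩) hib⟩

/-- The arithmetic contradiction. -/
theorem arith_false {P : ℕ} (hP : 3 < P) (m : ℚ) (hm : m = 4 * (P : ℚ) * P - 2 * P + 1)
    (a b2 b3 s : ℤ) (ha : a ≠ 0) (h2 : b2 ≠ 0) (h3 : b3 ≠ 0) (hs : s ≠ 0)
    (hs1 : s = 1 + a) (hs2 : s = b2 + b3) (hdvd : (4 * P : ℤ) ∣ a - 1)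
    (hY : m * (1 + 1 / (a : ℚ) - 1 / b2 - 1 / b3) = 8 * (P : ℚ) * P)
    (hX : m * (1 + 1 / (a : ℚ) + 1 / b2 + 1 / b3 - 8 / s) = 8 * (P : ℚ) * P) : False := by
  have hPq : (3 : ℚ) < P := by exact_mod_cast hP
  have hm0 : m ≠ 0 := by rw [hm]; nlinarith
  have e := hX.trans hY.symm
  have e2 := mul_left_cancel₀ hm0 e
  have h2q : (b2 : ℚ) ≠ 0 := by exact_mod_cast h2
  have h3q : (b3 : ℚ) ≠ 0 := by exact_mod_cast h3
  have haq : (a : ℚ) ≠ 0 := by exact_mod_cast ha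
  have hsq : (s : ℚ) ≠ 0 := by exact_mod_cast hs
  field_simp at e2
  have hkey : (s : ℚ) * ((b2 : ℚ) + b3) = 4 * b2 * b3 := by
    have : (a : ℚ) * ((s : ℚ) * ((b2 : ℚ) + b3) - 4 * b2 * b3) = 0 := by linear_combination e2 / 2
    rcases mul_eq_zero.1 this with h | h
    · exact absurd h haq
    · linarith
  have hkey' : s * (b2 + b3) = 4 * b2 * b3 := by exact_mod_cast hkey
  have hbb : b2 = b3 := by
    rw [hs2] at hkey'
    have : (b2 - b3) ^ 2 = 0 := by linear_combination hkey'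
    have := pow_eq_zero_iff (n := 2) (by norm_num) |>.1 this
    linarith
  subst hbb
  obtain ⟨j, hj⟩ := hdvd
  have hb : b2 = 2 * (P : ℤ) * j + 1 := by linarith
  have ha' : a = 4 * (P : ℤ) * j + 1 := by linarith
  rw [hm] at hY
  field_simp at hY
  have hY' : ((4 * (P : ℤ) * P - 2 * P + 1) : ℤ) * (b2 * a + b2 - 2 * a) = 8 * (P : ℤ) * P * (b2 * a) := by
    have hq : (((4 * (P : ℤ) * P - 2 * P + 1) * (b2 * a + b2 - 2 * a) : ℤ) : ℚ) =
        ((8 * (P : ℤ) * P * (b2 * a) : ℤ) : ℚ) := by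
      push_cast
      linear_combination hY
    exact_mod_cast hq
  rw [hb, ha'] at hY'
  have hPz : (3 : ℤ) < P := by exact_mod_cast hP
  have hPP : (8 : ℤ) * P * P ≠ 0 := by positivity
  have hj2 : (4 * (P : ℤ) * P - 2 * P + 1) * (j * j) = (2 * P * j + 1) * (4 * P * j + 1) := by
    apply mul_left_cancel₀ hPP
    linear_combination hY'
  have hdiv : j ∣ 1 := ⟨(4 * (P : ℤ) * P - 2 * P + 1) * j - 8 * P * P * j - 6 * P, by linear_combination -hj2⟩
  rcases Int.isUnit_iff.1 (isUnit_of_dvd_one hdiv) with rfl | rfl <;> nlinarith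

end H79.DihCore
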