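import Cfsg.Agent.H79DihCore
import Cfsg.Agent.H79DihSums
import Cfsg.Agent.Lib.Characters.Exceptional
import Cfsg.Agent.Lib.Characters.Induction
import Cfsg.Agent.Lib.Characters.Artin
import Cfsg.Agent.Lib.CNCount.LinearChars
import Cfsg.Agent.Lib.Blocks.ClassCount

/-! The dihedral configuration is impossible: exceptional characters. -/

set_option autoImplicit false

noncomputable section

namespace H79.DihCore

open Cfsg CfsgLib.Characters CfsgLib.InvChar CfsgLib.Involutions
open scoped ComplexConjugate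

universe v

variable {G : Type v} [Group G] [Fintype G] {C : Subgroup G} {t u : G} {P : ℕ}

/-- `Ind (1 - η)`. -/
def beta (C : Subgroup G) [Fintype C] (η : C →* ℂˣ) : G → ℂ :=
  indFun C (fun c => 1 - (η c : ℂ))

variable [Fintype C]

theorem inner_hom [DecidableEq (C →* ℂˣ)] (η ζ : C →* ℂˣ) :
    classInner (fun c => (η c : ℂ)) (fun c => (ζ c : ℂ)) = if η = ζ then 1 else 0 := by
  classical
  have h := classInner_irr (linearIrr η) (linearIrr ζ)
  simp only [linearIrr_injective.eq_iff] at h
  exact h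

theorem beta_gen (η : C →* ℂˣ) : IsGeneralizedCharacter G (beta C η) := by
  refine CfsgLib.CharArtin.isGeneralizedCharacter_indFun C ?_
  exact ⟨fun _ => 1, fun c => (η c : ℂ), isCharacter_of_irr isIrrCharacter_one,
    isCharacter_of_irr (isIrrCharacter_of_hom η), rfl⟩

theorem beta_one (η : C →* ℂˣ) : beta C η 1 = 0 := by
  rw [beta, CfsgLib.Induction.indFun_one_apply]
  simp

theorem ind_apply (h : Hyp C t u P) (g : C → ℂ) (c : C) (hc : (c : G) ≠ 1) :
    indFun C g c = g c + g c⁻¹ := by
  classical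
  have hval : ∀ x : G, extendByZero C g (x⁻¹ * (c : G) * x) =
      (if x ∈ C then g c else 0) + (if x ∈ h.N ∧ x ∉ C then g c⁻¹ else 0) := by
    intro x
    by_cases hx : x ∈ C
    · rw [if_pos hx, if_neg (fun h' => h'.2 hx), add_zero]
      have e : x⁻¹ * (c : G) * x = (c : G) := by rw [mul_assoc, h.comm' c.2 hx, inv_mul_cancel_left]
      rw [e, CfsgLib.Induction.extendByZero_mem C g c.2]
    by_cases hxN : x ∈ h.N
    · rw [if_neg hx, if_pos ⟨hxN, hx⟩, zero_add]
      have e : x⁻¹ * (c : G) * x = ((c⁻¹ : C) : G) := by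
        have := (h.mem_uC (h.N.inv_mem hxN) (fun h' => hx (by simpa using C.inv_mem h'))).2 c c.2
        rw [inv_inv] at this
        simpa using this
      rw [e, CfsgLib.Induction.extendByZero_mem C g (c⁻¹ : C).2]
    · rw [if_neg hx, if_neg (fun h' => hxN h'.1), add_zero]
      refine CfsgLib.Induction.extendByZero_notMem C g fun hmem => hxN (h.mem_N.2 ?_)
      have := h.ti x⁻¹ c c.2 hc (by rw [inv_inv]; exact hmem)
      have hN := h.mem_N.2 this
      simpa using h.mem_N.1 (by simpa using h.N.inv_mem hN)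
  rw [CfsgLib.Induction.indFun_apply, Finset.sum_congr rfl fun x _ => hval x, Finset.sum_add_distrib,
    ← Finset.sum_filter, ← Finset.sum_filter, Finset.sum_const, Finset.sum_const]
  have hC : (Finset.univ.filter fun x : G => x ∈ C).card = 2 * P := by
    rw [← h.card, Nat.card_eq_fintype_card]
    exact (Fintype.card_subtype _).symm
  rw [hC, h.card_uC, h.card, nsmul_eq_mul, nsmul_eq_mul]
  have : ((2 * P : ℕ) : ℂ) ≠ 0 := Nat.cast_ne_zero.2 (by have := h.odd.pos; omega)
  field_simp

theorem inner_beta [DecidableEq (C →* ℂˣ)] (h : Hyp C t u P) (η ζ : C →* ℂˣ) :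
    classInner (beta C η) (beta C ζ) =
      ((2 - (if ζ = 1 then 1 else 0) - (if ζ = 1 then 1 else 0) - 2 * (if η = 1 then 1 else 0)
        + (if η = ζ then 1 else 0) + (if η = ζ⁻¹ then 1 else 0) : ℤ) : ℂ) := by
  rw [show classInner (beta C η) (beta C ζ) = classInner (indFun C (fun c => 1 - (η c : ℂ))) (beta C ζ)
      from rfl,
    CfsgLib.Induction.classInner_indFun C _
      (show IsClassFunction G (beta C ζ) from CfsgLib.Induction.isClassFunction_indFun C _)]
  have e : classInner (fun c : C => 1 - (η c : ℂ)) (fun c : C => beta C ζ (c : G)) =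
      classInner (fun c : C => 1 - (η c : ℂ)) (fun c : C => (1 - (ζ c : ℂ)) + (1 - (ζ c⁻¹ : ℂ))) := by
    unfold classInner
    congr 1
    refine Finset.sum_congr rfl fun c _ => ?_
    by_cases hc : (c : G) = 1
    · have hc1 : c = 1 := Subtype.ext hc
      simp [hc1]
    · simp only
      rw [beta, ind_apply h _ c hc]
  rw [e]
  have h1 : (fun c : C => 1 - (η c : ℂ)) = (fun c => ((1 : C →* ℂˣ) c : ℂ)) - (fun c => (η c : ℂ)) := by
    funext c; simp
  have h2 : (fun c : C => (1 - (ζ c : ℂ)) + (1 - (ζ c⁻¹ : ℂ))) =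
      ((fun c => ((1 : C →* ℂˣ) c : ℂ)) - (fun c => (ζ c : ℂ))) +
        ((fun c => ((1 : C →* ℂˣ) c : ℂ)) - (fun c => ((ζ⁻¹ : C →* ℂˣ) c : ℂ))) := by
    funext c; simp
  rw [h1, h2]
  simp only [classInner_add_right, classInner_sub_right, classInner_sub_left, inner_hom]
  have e1 : ((1 : C →* ℂˣ) = ζ⁻¹) ↔ (1 : C →* ℂˣ) = ζ := by
    constructor <;> intro e2 <;> ext c <;> have h3 := DFunLike.congr_fun e2 c
    · rw [MonoidHom.one_apply, MonoidHom.inv_apply, eq_comm, inv_eq_one] at h3
      rw [MonoidHom.one_apply, h3]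
    · rw [MonoidHom.one_apply] at h3
      rw [MonoidHom.one_apply, MonoidHom.inv_apply, ← h3, inv_one]
  rw [if_congr e1 rfl rfl]
  by_cases hz : ζ = 1 <;> by_cases he : η = 1 <;> subst_vars <;> simp [eq_comm, *] <;> ring

/-- Values against an irreducible character. -/
theorem inner_beta_irr (η : C →* ℂˣ) (χ : IrrCharacter G) :
    classInner (beta C η) (χ : G → ℂ) =
      (Nat.card C : ℂ)⁻¹ * ∑ c : C, (1 - (η c : ℂ)) * conj ((χ : G → ℂ) c) := by
  rw [beta, CfsgLib.Induction.classInner_indFun C _ (irr_isClassFunction χ)]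
  rfl

theorem inner_beta_principal [DecidableEq (C →* ℂˣ)] (η : C →* ℂˣ) (hη : η ≠ 1) :
    classInner (beta C η) (principalIrr G : G → ℂ) = 1 := by
  rw [beta, CfsgLib.Induction.classInner_indFun C _ (irr_isClassFunction _)]
  have h1 : (fun c : C => 1 - (η c : ℂ)) = (fun c => ((1 : C →* ℂˣ) c : ℂ)) - (fun c => (η c : ℂ)) := by
    funext c; simp
  have h2 : (fun c : C => (principalIrr G : G → ℂ) c) = fun c => ((1 : C →* ℂˣ) c : ℂ) := by
    funext c; simp
  rw [h1, h2, classInner_sub_left, inner_hom, inner_hom, if_pos rfl, if_neg hη, sub_zero]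

end H79.DihCore
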