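import Cfsg.Agent.Lib.InvChar.InvolutionCount

/-! Groups in which an abelian subgroup `C` of twice odd order is inverted by an involution and is a
trivial intersection set containing all inverted elements up to conjugacy: involution counting. -/

set_option autoImplicit false

namespace H79.DihCore

open Subgroup CfsgLib.InvChar CfsgLib.Involutions

variable {G : Type*} [Group G]

/-- The configuration. -/
structure Hyp (C : Subgroup G) (t u : G) (P : ℕ) : Prop where
  comm : IsMulCommutative C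
  card : Nat.card C = 2 * P
  odd : Odd P
  memt : t ∈ C
  ordt : orderOf t = 2
  ordu : orderOf u = 2
  notu : u ∉ C
  inv : ∀ c ∈ C, u * c * u⁻¹ = c⁻¹
  ti : ∀ g c : G, c ∈ C → c ≠ 1 → g * c * g⁻¹ ∈ C → g ∈ C ∨ g * u ∈ C
  conjInvol : ∀ x y : G, orderOf x = 2 → orderOf y = 2 → IsConj x y
  real : ∀ w x : G, orderOf w = 2 → w * x * w⁻¹ = x⁻¹ → x ^ 2 ≠ 1 → ∃ g : G, g * x * g⁻¹ ∈ C

variable {C : Subgroup G} {t u : G} {P : ℕ}

theorem Hyp.comm' (h : Hyp C t u P) {a b : G} (ha : a ∈ C) (hb : b ∈ C) : a * b = b * a :=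
  congrArg Subtype.val (h.comm.is_comm.comm ⟨a, ha⟩ ⟨b, hb⟩)

theorem Hyp.u_mul_self (h : Hyp C t u P) : u * u = 1 := mul_self_eq_one h.ordu

theorem Hyp.u_inv (h : Hyp C t u P) : u⁻¹ = u := inv_eq_self_of_involution h.ordu

variable [Finite G]

theorem Hyp.eq_t (h : Hyp C t u P) {c : G} (hc : c ∈ C) (h2 : c * c = 1) (h1 : c ≠ 1) : c = t := by
  classical
  have : Fact (Nat.Prime 2) := ⟨Nat.prime_two⟩
  have := Fintype.ofFinite C
  by_contra hne
  have ht2 := mul_self_eq_one h.ordt
  have hct := h.comm' hc h.memt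
  let K : Subgroup C :=
    { carrier := {x | x * x = 1}
      one_mem' := by simp
      mul_mem' := fun {a b} ha hb => by
        show a * b * (a * b) = 1
        calc a * b * (a * b) = a * (b * a) * b := by group
          _ = a * (a * b) * b := by rw [h.comm.is_comm.comm b a]
          _ = (a * a) * (b * b) := by group
          _ = 1 := by rw [ha, hb, one_mul]
      inv_mem' := fun {a} ha => by
        show a⁻¹ * a⁻¹ = 1
        rw [← mul_inv_rev, ha, inv_one] }
  have hK : IsPGroup 2 K := fun x => ⟨1, Subtype.ext (by rw [pow_one, pow_two]; exact x.2)⟩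
  obtain ⟨e, he⟩ := IsPGroup.iff_card.1 hK
  have hd : 2 ^ e ∣ 2 * P := he ▸ h.card ▸ K.card_subgroup_dvd_card
  have he1 : e ≤ 1 := by
    by_contra hlt
    have h4 : 2 ^ 2 ∣ 2 * P := (pow_dvd_pow 2 (by omega)).trans hd
    have := h.odd
    obtain ⟨m, rfl⟩ := this
    omega
  have hle : Nat.card K ≤ 2 := by
    rw [he]
    exact le_trans (Nat.pow_le_pow_right (by norm_num) he1) (by norm_num)
  have hsub : ({⟨1, C.one_mem⟩, ⟨t, h.memt⟩, ⟨c, hc⟩} : Set C) ⊆ (K : Set C) := by
    intro x hx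
    rcases hx with rfl | rfl | rfl
    · exact Subtype.ext (one_mul _)
    · exact Subtype.ext ht2
    · exact Subtype.ext h2
  have := Set.ncard_le_ncard hsub (Set.toFinite _)
  rw [Set.ncard_insert_of_notMem, Set.ncard_pair, ← Nat.card_coe_set_eq] at this
  · change 2 + 1 ≤ Nat.card K at this
    omega
  · intro he
    exact hne (congrArg Subtype.val he).symm
  · simp only [Set.mem_insert_iff, Set.mem_singleton_iff, Subtype.mk.injEq, not_or]
    exact ⟨(ne_one_of_involution h.ordt).symm, h1.symm⟩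

theorem Hyp.u_mul_t (h : Hyp C t u P) : u * t = t * u := by
  have := h.inv t h.memt
  rw [inv_eq_self_of_involution h.ordt] at this
  exact mul_inv_eq_iff_eq_mul.1 this

/-- The normaliser `C ∪ uC`. -/
def Hyp.N (_h : Hyp C t u P) : Subgroup G := C ⊔ Subgroup.zpowers u

theorem Hyp.mem_N (h : Hyp C t u P) {g : G} : g ∈ h.N ↔ g ∈ C ∨ g * u ∈ C := by
  let S : Subgroup G :=
    { carrier := {g | g ∈ C ∨ g * u ∈ C}
      one_mem' := Or.inl C.one_mem
      mul_mem' := fun {a b} ha hb => by
        have hc : ∀ c ∈ C, u * c * u ∈ C := fun c hc => by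
          have := h.inv c hc
          rw [h.u_inv] at this
          rw [this]; exact C.inv_mem hc
        rcases ha with ha | ha <;> rcases hb with hb | hb
        · exact Or.inl (C.mul_mem ha hb)
        · exact Or.inr (by rw [mul_assoc]; exact C.mul_mem ha hb)
        · refine Or.inr ?_
          have := C.mul_mem ha (hc b hb)
          rwa [show a * u * (u * b * u) = a * (u * u) * b * u by group, h.u_mul_self, mul_one] at this
        · refine Or.inl ?_
          have := C.mul_mem ha (hc _ hb)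
          rwa [show a * u * (u * (b * u) * u) = a * (u * u) * b * (u * u) by group, h.u_mul_self,
            mul_one, mul_one] at this
      inv_mem' := fun {a} ha => by
        rcases ha with ha | ha
        · exact Or.inl (C.inv_mem ha)
        · refine Or.inr ?_
          have := h.inv _ (C.inv_mem ha)
          rw [inv_inv, mul_inv_rev, h.u_inv] at this
          rw [show u * (u * a⁻¹) * u = (u * u) * a⁻¹ * u by group, h.u_mul_self, one_mul] at this
          rw [this]
          exact ha }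
  constructor
  · intro hg
    have hle : h.N ≤ S := sup_le (fun c hc => Or.inl hc)
      (zpowers_le.2 (Or.inr (by rw [h.u_mul_self]; exact C.one_mem)))
    exact hle hg
  · rintro (hg | hg)
    · exact Subgroup.mem_sup_left hg
    · have := (h.N).mul_mem (Subgroup.mem_sup_left hg : g * u ∈ h.N)
        ((h.N).inv_mem (Subgroup.mem_sup_right (Subgroup.mem_zpowers u)))
      simpa using this

theorem Hyp.card_N (h : Hyp C t u P) : Nat.card h.N = 4 * P := by
  have hidx : (C.subgroupOf h.N).index = 2 := by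
    rw [Subgroup.index_eq_two_iff]
    refine ⟨⟨u, Subgroup.mem_sup_right (Subgroup.mem_zpowers u)⟩, fun ⟨b, hb⟩ => ?_⟩
    simp only [Subgroup.mem_subgroupOf, Subgroup.coe_mul]
    rcases h.mem_N.1 hb with hb' | hb'
    · refine Or.inr ⟨hb', fun h' => h.notu ?_⟩
      exact (C.mul_mem_cancel_left hb').1 h'
    · refine Or.inl ⟨hb', fun hbC => h.notu ?_⟩
      exact (C.mul_mem_cancel_left hbC).1 hb'
  have h1 := (C.subgroupOf h.N).card_mul_index
  have hle : C ≤ h.N := le_sup_left
  rw [hidx, Nat.card_congr (Subgroup.subgroupOfEquivOfLe hle).toEquiv, h.card] at h1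
  rw [← h1]; ring

theorem Hyp.centralizer_le_N (h : Hyp C t u P) {c : G} (hc : c ∈ C) (hc1 : c ≠ 1) :
    centralizer ({c} : Set G) ≤ h.N := fun g hg => h.mem_N.2 (h.ti g c hc hc1 (by
      rw [mem_centralizer_singleton_iff.1 hg, mul_inv_cancel_right]; exact hc))

theorem Hyp.centralizer_t (h : Hyp C t u P) : centralizer ({t} : Set G) = h.N := by
  refine le_antisymm (h.centralizer_le_N h.memt (ne_one_of_involution h.ordt)) ?_
  refine sup_le (fun c hc => mem_centralizer_singleton_iff.2 (h.comm' hc h.memt)) ?_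
  exact zpowers_le.2 (mem_centralizer_singleton_iff.2 h.u_mul_t)

theorem Hyp.sq_ne (h : Hyp C t u P) {c : G} (hc : c ∈ C) (h1 : c ≠ 1) (ht : c ≠ t) : c * c ≠ 1 :=
  fun h2 => ht (h.eq_t hc h2 h1)

theorem Hyp.not_commute_u (h : Hyp C t u P) {c : G} (hc : c ∈ C) (h1 : c ≠ 1) (ht : c ≠ t) :
    u * c ≠ c * u := fun he => h.sq_ne hc h1 ht (by
      have := h.inv c hc
      rw [he, mul_inv_cancel_right] at this
      nth_rewrite 2 [this]
      exact mul_inv_cancel c)

theorem Hyp.centralizer_eq (h : Hyp C t u P) {c : G} (hc : c ∈ C) (h1 : c ≠ 1) (ht : c ≠ t) :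
    centralizer ({c} : Set G) = C := by
  refine le_antisymm (fun g hg => ?_) (fun g hg => mem_centralizer_singleton_iff.2 (h.comm' hg hc))
  rcases h.mem_N.1 (h.centralizer_le_N hc h1 hg) with hg' | hg'
  · exact hg'
  · exfalso
    refine h.not_commute_u hc h1 ht ?_
    have e1 := mem_centralizer_singleton_iff.1 hg
    have e2 := h.comm' hg' hc
    have : g⁻¹ * (g * u * c) = g⁻¹ * (c * (g * u)) := by rw [e2]
    rw [← mul_assoc c, ← e1] at this
    simpa [mul_assoc] using this

section count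
variable [Fintype G]

theorem Hyp.mem_uC (h : Hyp C t u P) {w : G} (hw : w ∈ h.N) (hwC : w ∉ C) :
    orderOf w = 2 ∧ ∀ c ∈ C, w * c * w⁻¹ = c⁻¹ := by
  have hwu : w * u ∈ C := (h.mem_N.1 hw).resolve_left hwC
  have hinv : ∀ c ∈ C, w * c * w⁻¹ = c⁻¹ := fun c hc => by
    have hw' : w = (w * u) * u := by rw [mul_assoc, h.u_mul_self, mul_one]
    calc w * c * w⁻¹ = (w * u) * (u⁻¹ * c * u) * (w * u)⁻¹ := by group
      _ = (w * u) * (u * c * u⁻¹) * (w * u)⁻¹ := by rw [h.u_inv]
      _ = (w * u) * c⁻¹ * (w * u)⁻¹ := by rw [h.inv c hc]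
      _ = c⁻¹ * (w * u) * (w * u)⁻¹ := by rw [h.comm' hwu (C.inv_mem hc)]
      _ = c⁻¹ := by group
  refine ⟨orderOf_eq_two_iff_mul.2 ⟨fun he => hwC (he ▸ C.one_mem), ?_⟩, hinv⟩
  have h3 := hinv _ hwu
  rw [mul_inv_rev, h.u_inv] at h3
  have e : w * w = w * (w * u) * w⁻¹ * (w * u) := by
    calc w * w = w * w * (u * u) := by rw [h.u_mul_self, mul_one]
      _ = w * (w * u) * u := by group
      _ = _ := by group
  rw [e, h3]
  group
  simp [h.u_mul_self]

theorem Hyp.card_uC (h : Hyp C t u P) [DecidableEq G] [DecidablePred (· ∈ h.N)] [DecidablePred (· ∈ C)] :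
    (Finset.univ.filter fun w : G => w ∈ h.N ∧ w ∉ C).card = 2 * P := by
  have e : (Finset.univ.filter fun w : G => w ∈ h.N ∧ w ∉ C) =
      (Finset.univ.filter fun w : G => w ∈ h.N) \ (Finset.univ.filter fun w : G => w ∈ C) := by
    ext w; simp
  have hs : (Finset.univ.filter fun w : G => w ∈ C) ⊆ (Finset.univ.filter fun w : G => w ∈ h.N) := by
    intro w hw
    simp only [Finset.mem_filter, Finset.mem_univ, true_and] at hw ⊢
    exact Subgroup.mem_sup_left hw
  rw [e, Finset.card_sdiff_of_subset hs, ← Fintype.card_subtype, ← Fintype.card_subtype,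
    ← Nat.card_eq_fintype_card, ← Nat.card_eq_fintype_card]
  change Nat.card h.N - Nat.card C = _
  rw [h.card_N, h.card]
  omega

theorem Hyp.card_invPairs (h : Hyp C t u P) {c : G} (hc : c ∈ C) (hc1 : c ≠ 1) :
    (invPairs c).card = 2 * P := by
  classical
  rw [← h.card_uC]
  congr 1
  ext w
  simp only [Finset.mem_filter, Finset.mem_univ, true_and]
  by_cases hct : c = t
  · subst hct
    rw [mem_invPairs_of_involution h.ordt, ← h.centralizer_t, mem_centralizer_singleton_iff]
    constructor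
    · rintro ⟨hw, hwc, hne⟩
      exact ⟨hwc, fun hwC => hne (h.eq_t hwC (mul_self_eq_one hw) (ne_one_of_involution hw))⟩
    · rintro ⟨hwc, hwC⟩
      have hwN : w ∈ h.N := by rw [← h.centralizer_t, mem_centralizer_singleton_iff]; exact hwc
      exact ⟨(h.mem_uC hwN hwC).1, hwc, fun he => hwC (he ▸ h.memt)⟩
  · rw [mem_invPairs_iff_inverts]
    constructor
    · rintro ⟨hw, hne, hinv⟩
      refine ⟨h.mem_N.2 (h.ti w c hc hc1 (hinv ▸ C.inv_mem hc)), fun hwC => ?_⟩
      rw [h.comm' hwC hc, mul_inv_cancel_right] at hinv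
      exact h.sq_ne hc hc1 hct (by nth_rewrite 2 [hinv]; exact mul_inv_cancel c)
    · rintro ⟨hwN, hwC⟩
      obtain ⟨hw, hinv⟩ := h.mem_uC hwN hwC
      exact ⟨hw, fun he => hwC ((C.mul_mem_cancel_right hc).1 (he ▸ C.one_mem)), hinv c hc⟩

omit [Finite G] [Fintype G] in
theorem orderOf_conj' (g w : G) : orderOf (g * w * g⁻¹) = orderOf w :=
  MulEquiv.orderOf_eq (MulAut.conj g) w

theorem invPairs_card_conj (g c : G) : (invPairs (g * c * g⁻¹)).card = (invPairs c).card := by
  symm
  refine Finset.card_bij (fun w _ => g * w * g⁻¹) (fun w hw => ?_) (fun a _ b _ e => by simpa using e)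
    (fun w hw => ⟨g⁻¹ * w * g, ?_, by group⟩)
  · rw [mem_invPairs] at hw ⊢
    rw [show g * w * g⁻¹ * (g * c * g⁻¹) = g * (w * c) * g⁻¹ by group]
    exact ⟨(orderOf_conj' g w).trans hw.1, (orderOf_conj' g _).trans hw.2⟩
  · rw [mem_invPairs] at hw ⊢
    have e1 : g⁻¹ * w * g = g⁻¹ * w * (g⁻¹)⁻¹ := by group
    have e2 : g⁻¹ * w * g * c = g⁻¹ * (w * (g * c * g⁻¹)) * (g⁻¹)⁻¹ := by group
    rw [e2, e1]
    exact ⟨(orderOf_conj' g⁻¹ w).trans hw.1, (orderOf_conj' g⁻¹ _).trans hw.2⟩

theorem Hyp.card_invs (h : Hyp C t u P) : (invs G).card * (4 * P) = Nat.card G := by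
  classical
  have e : (invs G : Set G) = {y | IsConj t y} := by
    ext y
    rw [Finset.mem_coe, mem_invs, Set.mem_setOf_eq]
    refine ⟨fun hy => h.conjInvol t y h.ordt hy, fun hy => ?_⟩
    obtain ⟨g, rfl⟩ := isConj_iff.1 hy
    rw [orderOf_conj']
    exact h.ordt
  have h1 := congrArg Set.ncard e
  rw [Set.ncard_coe_finset, ncard_conjugates] at h1
  rw [h1, ← h.card_N, ← h.centralizer_t, Subgroup.index_mul_card]

/-- `|G| = 4P(4P² - 2P + 1)`. -/
theorem Hyp.count (h : Hyp C t u P) : (invs G).card + 2 * P = 4 * P * P + 1 := by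
  classical
  set n := (invs G).card with hn
  have hcardG := h.card_invs
  have hidx : Nat.card (G ⧸ h.N) = n := by
    have hPpos : 0 < 4 * P := by have := h.odd.pos; omega
    apply Nat.eq_of_mul_eq_mul_right hPpos
    rw [hn, hcardG, Subgroup.card_eq_card_quotient_mul_card_subgroup h.N, h.card_N]
  have := Fintype.ofFinite (G ⧸ h.N)
  set C' : Finset G := Finset.univ.filter fun c => c ∈ C ∧ c ≠ 1 ∧ c ≠ t with hC'
  have hC'card : C'.card + 2 = 2 * P := by
    have e : C' = (Finset.univ.filter fun c : G => c ∈ C) \ {1, t} := by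
      ext c
      simp [hC']
    have hs : ({1, t} : Finset G) ⊆ (Finset.univ.filter fun c : G => c ∈ C) := by
      intro c hc
      simp only [Finset.mem_insert, Finset.mem_singleton] at hc
      rcases hc with rfl | rfl <;> simp [h.memt]
    have h2 : ({1, t} : Finset G).card = 2 := Finset.card_pair (ne_one_of_involution h.ordt).symm
    rw [e, Finset.card_sdiff_of_subset hs, h2]
    have h3 : 2 ≤ (Finset.univ.filter fun c : G => c ∈ C).card := h2 ▸ Finset.card_le_card hs
    rw [Nat.sub_add_cancel h3, ← h.card, Nat.card_eq_fintype_card]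
    exact (Fintype.card_subtype (fun c : G => c ∈ C)).symm
  let f : (G ⧸ h.N) × G → G := fun z => z.1.out * z.2 * (z.1.out)⁻¹
  set S := ((Finset.univ : Finset (G ⧸ h.N)) ×ˢ C') with hS
  set U := S.image f with hU
  have hUcard : U.card = n * C'.card := by
    rw [hU, Finset.card_image_of_injOn, hS, Finset.card_product, Finset.card_univ,
      ← Nat.card_eq_fintype_card, hidx]
    rintro ⟨q, c⟩ hc ⟨q', c'⟩ hc' he
    simp only [hS, Finset.coe_product, Set.mem_prod, Finset.mem_coe, hC', Finset.mem_filter,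
      Finset.mem_univ, true_and] at hc hc'
    simp only [f] at he
    have hmem : q'.out⁻¹ * q.out ∈ h.N := by
      refine h.mem_N.2 (h.ti _ c hc.1 hc.2.1 ?_)
      have : q'.out⁻¹ * q.out * c * (q'.out⁻¹ * q.out)⁻¹ = c' := by
        calc q'.out⁻¹ * q.out * c * (q'.out⁻¹ * q.out)⁻¹ = q'.out⁻¹ * (q.out * c * q.out⁻¹) * q'.out := by group
          _ = c' := by rw [he]; group
      rw [this]; exact hc'.1
    have hq : q' = q := by
      rw [← q'.out_eq', ← q.out_eq', QuotientGroup.eq]
      exact hmem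
    subst hq
    exact Prod.ext rfl (by simpa using he)
  have hUmem : ∀ x, x ∈ U ↔ ∃ g c, c ∈ C' ∧ g * c * g⁻¹ = x := by
    intro x
    rw [hU, Finset.mem_image]
    constructor
    · rintro ⟨z, hz, rfl⟩
      exact ⟨_, z.2, (Finset.mem_product.1 hz).2, rfl⟩
    · rintro ⟨g, c, hc, rfl⟩
      set q : G ⧸ h.N := (g : G ⧸ h.N)
      have hk : q.out⁻¹ * g ∈ h.N := QuotientGroup.eq.1 q.out_eq'
      simp only [hC', Finset.mem_filter, Finset.mem_univ, true_and] at hc
      have hconjC : (q.out⁻¹ * g) * c * (q.out⁻¹ * g)⁻¹ = c ∨ (q.out⁻¹ * g) * c * (q.out⁻¹ * g)⁻¹ = c⁻¹ := by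
        by_cases hkC : q.out⁻¹ * g ∈ C
        · exact Or.inl (by rw [h.comm' hkC hc.1, mul_inv_cancel_right])
        · exact Or.inr ((h.mem_uC hk hkC).2 c hc.1)
      refine ⟨(q, (q.out⁻¹ * g) * c * (q.out⁻¹ * g)⁻¹), Finset.mem_product.2 ⟨Finset.mem_univ _, ?_⟩, ?_⟩
      · simp only [hC', Finset.mem_filter, Finset.mem_univ, true_and]
        rcases hconjC with e | e <;> rw [e]
        · exact hc
        · refine ⟨C.inv_mem hc.1, inv_ne_one.2 hc.2.1, fun he => hc.2.2 ?_⟩
          rw [← inv_inv c, he, inv_eq_self_of_involution h.ordt]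
      · simp only [f]
        group
  have hsum := sum_card_invPairs (G := G)
  rw [← hn] at hsum
  have hpair : ∀ x ∈ U, (invPairs x).card = 2 * P := by
    intro x hx
    obtain ⟨g, c, hc, rfl⟩ := (hUmem x).1 hx
    simp only [hC', Finset.mem_filter, Finset.mem_univ, true_and] at hc
    rw [invPairs_card_conj]
    exact h.card_invPairs hc.1 hc.2.1
  have hinvs : ∀ x ∈ invs G, (invPairs x).card = 2 * P := by
    intro x hx
    obtain ⟨g, rfl⟩ := isConj_iff.1 (h.conjInvol t x h.ordt (mem_invs.1 hx))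
    rw [invPairs_card_conj]
    exact h.card_invPairs h.memt (ne_one_of_involution h.ordt)
  have hd1 : (1 : G) ∉ invs G := by simp [mem_invs]
  have hdU1 : (1 : G) ∉ U := by
    intro hx
    obtain ⟨g, c, hc, he⟩ := (hUmem 1).1 hx
    simp only [hC', Finset.mem_filter, Finset.mem_univ, true_and] at hc
    exact hc.2.1 (conj_eq_one_iff.1 he)
  have hdU : Disjoint (invs G) U := by
    rw [Finset.disjoint_right]
    intro x hx hxi
    obtain ⟨g, c, hc, rfl⟩ := (hUmem x).1 hx
    simp only [hC', Finset.mem_filter, Finset.mem_univ, true_and] at hc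
    rw [mem_invs, orderOf_conj'] at hxi
    exact hc.2.2 (h.eq_t hc.1 (mul_self_eq_one hxi) hc.2.1)
  have hzero : ∀ x ∉ insert (1 : G) (invs G ∪ U), (invPairs x).card = 0 := by
    intro x hx
    simp only [Finset.mem_insert, Finset.mem_union, not_or] at hx
    rw [Finset.card_eq_zero, Finset.eq_empty_iff_forall_notMem]
    intro w hw
    obtain ⟨hw2, -, hinv⟩ := mem_invPairs_iff_inverts.1 hw
    have hx2 : x ^ 2 ≠ 1 := fun e => hx.2.1 (mem_invs.2 (orderOf_eq_prime e hx.1))
    obtain ⟨g, hg⟩ := h.real w x hw2 hinv hx2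
    refine hx.2.2 ((hUmem x).2 ⟨g⁻¹, g * x * g⁻¹, ?_, by group⟩)
    simp only [hC', Finset.mem_filter, Finset.mem_univ, true_and]
    refine ⟨hg, fun e => hx.1 (conj_eq_one_iff.1 e), fun e => hx.2.1 ?_⟩
    rw [mem_invs, ← orderOf_conj' g x, e, h.ordt]
  rw [← Finset.sum_subset (Finset.subset_univ (insert (1 : G) (invs G ∪ U))) (fun x _ hx => hzero x hx),
    Finset.sum_insert (by simp [hd1, hdU1]), Finset.sum_union hdU, invPairs_one,
    Finset.sum_congr rfl hinvs, Finset.sum_congr rfl hpair, Finset.sum_const, Finset.sum_const, hUcard,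
    smul_eq_mul, smul_eq_mul, ← hn] at hsum
  have hnpos : 0 < n := Finset.card_pos.2 ⟨t, mem_invs.2 h.ordt⟩
  have h2 : n * (1 + 2 * P + C'.card * (2 * P)) = n * n := by rw [← hsum]; ring
  have h3 := Nat.eq_of_mul_eq_mul_left hnpos h2
  have h4 : C'.card * (2 * P) + 2 * (2 * P) = 2 * P * (2 * P) := by rw [← add_mul, hC'card]
  nlinarith

end count

end H79.DihCore
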