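import Cfsg.Agent.H79DihChars

/-! The dihedral configuration is impossible. -/

set_option autoImplicit false

noncomputable section

namespace H79.DihCore

open Cfsg CfsgLib.Characters CfsgLib.InvChar CfsgLib.Involutions
open scoped ComplexConjugate

universe v

variable {G : Type v} [Group G] [Fintype G] {C : Subgroup G} {t u : G} {P : ℕ} [Fintype C]

/-- The coefficients of `Ind (1 - η)`. -/
def coef (C : Subgroup G) [Fintype C] (η : C →* ℂˣ) (χ : IrrCharacter G) : ℤ :=
  (classInner_generalized_int (beta_gen (C := C) η) (isGeneralizedCharacter_irr χ)).choose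

theorem coef_spec (η : C →* ℂˣ) (χ : IrrCharacter G) :
    classInner (beta C η) (χ : G → ℂ) = (coef C η χ : ℂ) :=
  (classInner_generalized_int (beta_gen (C := C) η) (isGeneralizedCharacter_irr χ)).choose_spec

theorem beta_class (η : C →* ℂˣ) : IsClassFunction G (beta C η) :=
  CfsgLib.Induction.isClassFunction_indFun C _

theorem coef_mul_sum (η ζ : C →* ℂˣ) :
    classInner (beta C η) (beta C ζ) = ((∑ χ, coef C η χ * coef C ζ χ : ℤ) : ℂ) := by
  rw [classInner_eq_sum_mul (beta_class ζ)]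
  push_cast
  exact Finset.sum_congr rfl fun χ _ => by rw [coef_spec, coef_spec, map_intCast]

theorem inner_int [DecidableEq (C →* ℂˣ)] (h : Hyp C t u P) (η ζ : C →* ℂˣ) :
    ∑ χ, coef C η χ * coef C ζ χ =
      2 - (if ζ = 1 then 1 else 0) - (if ζ = 1 then 1 else 0) - 2 * (if η = 1 then 1 else 0)
        + (if η = ζ then 1 else 0) + (if η = ζ⁻¹ then 1 else 0) := by
  have := (coef_mul_sum η ζ).symm.trans (inner_beta h η ζ)
  exact_mod_cast this

theorem coef_one (χ : IrrCharacter G) : coef C (1 : C →* ℂˣ) χ = 0 := by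
  have h := coef_spec (1 : C →* ℂˣ) χ
  rw [inner_beta_irr] at h
  simp at h
  exact_mod_cast h.symm

theorem coef_principal (η : C →* ℂˣ) (hη : η ≠ 1) : coef C η (principalIrr G) = 1 := by
  classical
  have h := inner_beta_principal η hη
  rw [coef_spec] at h
  exact_mod_cast h

theorem coef_degree (η : C →* ℂˣ) :
    ∑ χ : IrrCharacter G, (coef C η χ : ℂ) * (χ : G → ℂ) 1 = 0 := by
  have h := congrFun (classFunction_eq_sum (beta_class η)) 1
  rw [beta_one, Finset.sum_apply] at h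
  rw [h]
  refine Finset.sum_congr rfl fun χ _ => ?_
  rw [coef_spec, Pi.smul_apply, smul_eq_mul]

open scoped Classical in
/-- Orthogonality on `C`. -/
theorem sum_hom (h : Hyp C t u P) (c : C) :
    ∑ η : C →* ℂˣ, (η c : ℂ) = if c = 1 then ((2 * P : ℕ) : ℂ) else 0 := by
  classical
  have hb : commutator C = ⊥ := by
    rw [eq_bot_iff, commutator_def, Subgroup.commutator_le]
    intro a _ b _
    rw [Subgroup.mem_bot, commutatorElement_eq_one_iff_mul_comm]
    exact h.comm.is_comm.comm a b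
  rw [CfsgLib.CNCount.sum_unitsHom, hb]
  simp only [Subgroup.mem_bot, Subgroup.index_bot, h.card]

theorem card_hom (h : Hyp C t u P) : Fintype.card (C →* ℂˣ) = 2 * P := by
  classical
  have := sum_hom h 1
  simp only [map_one, Units.val_one, Finset.sum_const, Finset.card_univ, nsmul_eq_mul, mul_one,
    if_true] at this
  exact_mod_cast this

theorem exists_sign (h : Hyp C t u P) :
    ∃ μ : C →* ℂˣ, (μ ⟨t, h.memt⟩ : ℂ) = -1 ∧ μ ≠ 1 ∧ (∀ c, (μ c : ℂ) = 1 ∨ (μ c : ℂ) = -1) ∧
      ∀ η : C →* ℂˣ, η = η⁻¹ → η = 1 ∨ η = μ := by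
  classical
  set τ : C := ⟨t, h.memt⟩
  have hτ1 : τ ≠ 1 := fun e => ne_one_of_involution h.ordt (congrArg Subtype.val e)
  have hτ2 : τ * τ = 1 := Subtype.ext (mul_self_eq_one h.ordt)
  have hex : ∃ f : C →* ℂˣ, f τ ≠ 1 := by
    by_contra hall
    push Not at hall
    have := sum_hom h τ
    rw [if_neg hτ1, Finset.sum_congr rfl fun f _ => show (f τ : ℂ) = 1 by rw [hall f, Units.val_one],
      Finset.sum_const, Finset.card_univ, card_hom h, nsmul_one, Nat.cast_eq_zero] at this
    have := h.odd.pos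
    omega
  obtain ⟨f, hf⟩ := hex
  have hfτ : (f τ : ℂ) = -1 := by
    have h2 : (f τ : ℂ) * (f τ : ℂ) = 1 := by rw [← Units.val_mul, ← map_mul, hτ2, map_one, Units.val_one]
    exact (mul_self_eq_one_iff.1 h2).resolve_left fun e => hf (Units.ext e)
  set μ : C →* ℂˣ := f ^ P
  have hμτ : (μ τ : ℂ) = -1 := by
    simp only [μ, MonoidHom.pow_apply, Units.val_pow_eq_pow_val, hfτ, h.odd.neg_one_pow]
  have hcard : ∀ c : C, c ^ (2 * P) = 1 := fun c => by rw [← h.card]; exact pow_card_eq_one'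
  refine ⟨μ, hμτ, fun e => ?_, fun c => ?_, fun η hη => ?_⟩
  · rw [e] at hμτ
    norm_num at hμτ
  · have h2 : (μ c : ℂ) * (μ c : ℂ) = 1 := by
      simp only [μ, MonoidHom.pow_apply, Units.val_pow_eq_pow_val]
      rw [← pow_add, show P + P = 2 * P by ring, ← Units.val_pow_eq_pow_val, ← map_pow, hcard, map_one,
        Units.val_one]
    exact mul_self_eq_one_iff.1 h2
  · have hsq : ∀ c, (η c : ℂ) * (η c : ℂ) = 1 := fun c => by
      nth_rewrite 1 [hη]
      rw [MonoidHom.inv_apply, ← Units.val_mul, inv_mul_cancel, Units.val_one]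
    have hpow : ∀ c, (η c : ℂ) = (η (c ^ P) : ℂ) := fun c => by
      obtain ⟨k, hk⟩ := h.odd
      rw [map_pow, Units.val_pow_eq_pow_val, hk, pow_succ, pow_mul, pow_two, hsq, one_pow, one_mul]
    have hcP : ∀ c : C, c ^ P = 1 ∨ c ^ P = τ := fun c => by
      by_cases h1 : c ^ P = 1
      · exact Or.inl h1
      refine Or.inr (Subtype.ext (h.eq_t (c ^ P).2 ?_ fun e => h1 (Subtype.ext e)))
      rw [← Subgroup.coe_mul, ← pow_add, show P + P = 2 * P by ring, hcard, Subgroup.coe_one]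
    have hμpow : ∀ c, (μ c : ℂ) = (f (c ^ P) : ℂ) := fun c => by
      simp only [μ, MonoidHom.pow_apply, map_pow]
    rcases mul_self_eq_one_iff.1 (hsq τ) with e | e
    · left
      ext c
      rw [MonoidHom.one_apply, Units.val_one, hpow c]
      rcases hcP c with hc | hc <;> rw [hc]
      · simp
      · exact e
    · right
      ext c
      rw [hpow c, hμpow c]
      rcases hcP c with hc | hc <;> rw [hc]
      · simp
      · rw [e, hfτ]

set_option maxHeartbeats 3200000 in
theorem false_of_hyp (h : Hyp C t u P) (hP : 3 < P) : False := by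
  classical
  obtain ⟨μ, hμt, hμ1, hμval, hμuniq⟩ := exists_sign h
  obtain ⟨kP, hkP⟩ := h.odd
  set τ : C := ⟨t, h.memt⟩ with hτdef
  have hinvinv : ∀ η : C →* ℂˣ, (η⁻¹)⁻¹ = η := fun η => by ext c; simp [MonoidHom.inv_apply]
  have hinvone : (1 : C →* ℂˣ)⁻¹ = 1 := by ext c; simp [MonoidHom.inv_apply]
  have hμinv : μ⁻¹ = μ := by
    ext c
    rcases hμval c with e | e <;> simp [MonoidHom.inv_apply, e]
  set Λ : Finset (C →* ℂˣ) := Finset.univ.filter fun η => η ≠ 1 ∧ η ≠ μ with hΛ
  have hmemΛ : ∀ η, η ∈ Λ ↔ η ≠ 1 ∧ η ≠ μ := fun η => by simp [hΛ]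
  have hne_inv : ∀ η ∈ Λ, η ≠ η⁻¹ := fun η hη e => by
    rcases hμuniq η e with h' | h'
    · exact ((hmemΛ η).1 hη).1 h'
    · exact ((hmemΛ η).1 hη).2 h'
  have hinvΛ : ∀ η ∈ Λ, η⁻¹ ∈ Λ := fun η hη => by
    rw [hmemΛ] at hη ⊢
    refine ⟨fun e => hη.1 (by rw [← hinvinv η, e, hinvone]), fun e => hη.2 (by rw [← hinvinv η, e, hμinv])⟩
  have hinn := inner_int h (C := C)
  have hinvcoef : ∀ η ∈ Λ, coef C η⁻¹ = coef C η := by
    intro η hη
    obtain ⟨h1, -⟩ := (hmemΛ η).1 hη
    have h1' : η⁻¹ ≠ 1 := ((hmemΛ _).1 (hinvΛ η hη)).1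
    have hne := hne_inv η hη
    have e1 := hinn η η
    have e2 := hinn η⁻¹ η⁻¹
    have e3 := hinn η⁻¹ η
    rw [if_neg h1, if_pos rfl, if_neg hne] at e1
    rw [if_neg h1', if_pos rfl, hinvinv, if_neg hne.symm] at e2
    rw [if_neg h1, if_neg h1', if_neg hne.symm, if_pos rfl] at e3
    have hz : ∑ χ, (coef C η⁻¹ χ - coef C η χ) ^ 2 = 0 := by
      rw [Finset.sum_congr rfl fun χ _ => show (coef C η⁻¹ χ - coef C η χ) ^ 2 =
        coef C η⁻¹ χ * coef C η⁻¹ χ + coef C η χ * coef C η χ - 2 * (coef C η⁻¹ χ * coef C η χ) by ring,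
        Finset.sum_sub_distrib, Finset.sum_add_distrib, ← Finset.mul_sum, e1, e2, e3]
      norm_num
    funext χ
    have := (Finset.sum_eq_zero_iff_of_nonneg fun χ _ => sq_nonneg _).1 hz χ (Finset.mem_univ _)
    have := pow_eq_zero_iff (n := 2) (by norm_num) |>.1 this
    linarith
  set B : Finset (IrrCharacter G → ℤ) := Λ.image (coef C) with hB
  have hfib : ∀ η ∈ Λ, Λ.filter (fun ζ => coef C ζ = coef C η) = {η, η⁻¹} := by
    intro η hη
    ext ζ
    simp only [Finset.mem_filter, Finset.mem_insert, Finset.mem_singleton]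
    constructor
    · rintro ⟨hζ, he⟩
      have e := hinn η ζ
      rw [he] at e
      have e1 := hinn η η
      rw [e1, if_neg ((hmemΛ η).1 hη).1, if_pos rfl, if_neg (hne_inv η hη),
        if_neg ((hmemΛ ζ).1 hζ).1] at e
      by_contra hno
      push Not at hno
      rw [if_neg (fun e' => hno.1 e'.symm), if_neg (fun e' => hno.2 (by rw [e', hinvinv]))] at e
      omega
    · rintro (rfl | rfl)
      · exact ⟨hη, rfl⟩
      · exact ⟨hinvΛ η hη, hinvcoef η hη⟩
  have hΛcard : Λ.card = 2 * P - 2 := by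
    have e : Λ = Finset.univ \ {1, μ} := by
      ext η; simp [hΛ]
    rw [e, Finset.card_sdiff_of_subset (Finset.subset_univ _), Finset.card_univ, card_hom h,
      Finset.card_pair hμ1.symm]
  have hsum2 : ∀ F : (C →* ℂˣ) → ℂ, (∀ η ∈ Λ, F η⁻¹ = F η) →
      ∀ F' : (IrrCharacter G → ℤ) → ℂ, (∀ η ∈ Λ, F' (coef C η) = F η) →
      ∑ η ∈ Λ, F η = 2 * ∑ b ∈ B, F' b := by
    intro F hF F' hF'
    rw [← Finset.sum_fiberwise_of_maps_to (g := coef C) (t := B)
      (fun η hη => Finset.mem_image_of_mem _ hη), Finset.mul_sum]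
    refine Finset.sum_congr rfl fun b hb => ?_
    obtain ⟨η, hη, rfl⟩ := Finset.mem_image.1 hb
    rw [hfib η hη, Finset.sum_pair (hne_inv η hη), hF η hη, hF' η hη]
    ring
  have hBcard : B.card + 1 = P := by
    have h1 := hsum2 (fun _ => 1) (fun _ _ => rfl) (fun _ => 1) (fun _ _ => rfl)
    rw [Finset.sum_const, Finset.sum_const, nsmul_one, nsmul_one] at h1
    have h2 : Λ.card = 2 * B.card := by exact_mod_cast h1
    omega
  have hB_inner : ∀ b ∈ B, ∀ b' ∈ B, ∑ χ, b χ * b' χ = if b = b' then 3 else 2 := by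
    intro b hb b' hb'
    obtain ⟨η, hη, rfl⟩ := Finset.mem_image.1 hb
    obtain ⟨ζ, hζ, rfl⟩ := Finset.mem_image.1 hb'
    rw [hinn η ζ, if_neg ((hmemΛ η).1 hη).1, if_neg ((hmemΛ ζ).1 hζ).1]
    by_cases he : coef C η = coef C ζ
    · rw [if_pos he]
      have : ζ ∈ ({η, η⁻¹} : Finset (C →* ℂˣ)) := by
        rw [← hfib η hη, Finset.mem_filter]; exact ⟨hζ, he.symm⟩
      simp only [Finset.mem_insert, Finset.mem_singleton] at this
      rcases this with rfl | rfl
      · rw [if_pos rfl, if_neg (hne_inv ζ hη)]; norm_num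
      · rw [if_neg (hne_inv η hη), hinvinv, if_pos rfl]; norm_num
    · rw [if_neg he, if_neg (fun e => he (by rw [e])),
        if_neg (fun e => he (by rw [e, hinvcoef ζ hζ]))]
      norm_num
  have hB1 : ∀ b ∈ B, b (principalIrr G) = 1 := by
    intro b hb
    obtain ⟨η, hη, rfl⟩ := Finset.mem_image.1 hb
    exact coef_principal η ((hmemΛ η).1 hη).1
  have hBdeg : ∀ b ∈ B, ∑ χ : IrrCharacter G, (b χ : ℂ) * (χ : G → ℂ) 1 = 0 := by
    intro b hb
    obtain ⟨η, hη, rfl⟩ := Finset.mem_image.1 hb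
    exact coef_degree η
  have hBne : B.Nonempty := Finset.card_pos.1 (by omega)
  obtain ⟨b₀, hb₀⟩ := hBne
  -- exceptional characters
  let fn : (IrrCharacter G → ℤ) → G → ℂ := fun b => ∑ χ, (b χ : ℂ) • (χ : G → ℂ)
  have hfn_inner : ∀ b b' : IrrCharacter G → ℤ, classInner (fn b) (fn b') = ((∑ χ, b χ * b' χ : ℤ) : ℂ) := by
    intro b b'
    simp only [fn]
    rw [classInner_sum_left]
    push_cast
    refine Finset.sum_congr rfl fun χ _ => ?_
    rw [classInner_smul_left, classInner_sum_right]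
    simp only [classInner_smul_right, classInner_irr, mul_ite, mul_one, mul_zero, Finset.sum_ite_eq,
      Finset.mem_univ, if_true, map_intCast]
  let τf : {b // b ∈ B} → G → ℂ := fun b => fn (fun χ => b.1 χ - b₀ χ)
  have hτinner : ∀ i j : {b // b ∈ B}, classInner (τf i) (τf j) =
      (((if i.1 = j.1 then 3 else 2) - (if i.1 = b₀ then 3 else 2) - (if b₀ = j.1 then 3 else 2) + 3 : ℤ) : ℂ) := by
    intro i j
    rw [hfn_inner]
    congr 1
    rw [Finset.sum_congr rfl fun χ _ => show (i.1 χ - b₀ χ) * (j.1 χ - b₀ χ) =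
      i.1 χ * j.1 χ - i.1 χ * b₀ χ - b₀ χ * j.1 χ + b₀ χ * b₀ χ by ring]
    rw [Finset.sum_add_distrib, Finset.sum_sub_distrib, Finset.sum_sub_distrib, hB_inner _ i.2 _ j.2,
      hB_inner _ i.2 _ hb₀, hB_inner _ hb₀ _ j.2, hB_inner _ hb₀ _ hb₀, if_pos rfl]
  obtain ⟨εc, hεc, Θ, hΘinj, hΘ⟩ := CfsgLib.CharExceptional.exceptional_family
    (⟨b₀, hb₀⟩ : {b // b ∈ B}) τf (by simp [τf, fn])
    (fun i => isGeneralizedCharacter_sum _ fun χ _ =>
      isGeneralizedCharacter_intCast_smul (isGeneralizedCharacter_irr χ) _)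
    (fun i => by
      simp only [τf, fn, Finset.sum_apply, Pi.smul_apply, smul_eq_mul, Int.cast_sub, sub_mul,
        Finset.sum_sub_distrib, hBdeg _ i.2, hBdeg _ hb₀, sub_self])
    (fun i hi => by
      have hne : i.1 ≠ b₀ := fun e => hi (Subtype.ext e)
      rw [hτinner, if_pos rfl, if_neg hne, if_neg hne.symm]; norm_num)
    (fun i j hi hj hij => by
      rw [hτinner, if_neg (fun e => hij (Subtype.ext e)), if_neg (fun e => hi (Subtype.ext e)),
        if_neg (fun e => hj (Subtype.ext e.symm))]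
      norm_num)
  obtain ⟨ε, hε, hεeq⟩ : ∃ ε : ℤ, (ε = 1 ∨ ε = -1) ∧ εc = (ε : ℂ) := by
    rcases hεc with rfl | rfl
    · exact ⟨1, Or.inl rfl, by norm_num⟩
    · exact ⟨-1, Or.inr rfl, by norm_num⟩
  subst hεeq
  have hε2 : ε * ε = 1 := by rcases hε with rfl | rfl <;> norm_num
  set o : {b // b ∈ B} := ⟨b₀, hb₀⟩
  have hdiff : ∀ (i : {b // b ∈ B}) (χ : IrrCharacter G), i.1 χ - b₀ χ =
      ε * ((if Θ i = χ then 1 else 0) - (if Θ o = χ then 1 else 0)) := by
    intro i χ
    have e := congrArg (fun F : G → ℂ => classInner F (χ : G → ℂ)) (hΘ i)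
    simp only [τf, fn, classInner_sum_left, classInner_smul_left, classInner_irr, classInner_sub_left,
      mul_ite, mul_one, mul_zero, Finset.sum_ite_eq', Finset.mem_univ, if_true] at e
    exact_mod_cast e
  set D : IrrCharacter G → ℤ := fun χ => b₀ χ - ε * (if Θ o = χ then 1 else 0)
  have hbD : ∀ (i : {b // b ∈ B}) (χ : IrrCharacter G), i.1 χ = D χ + ε * (if Θ i = χ then 1 else 0) := by
    intro i χ
    have := hdiff i χ
    simp only [D]
    linarith
  have hnB : Fintype.card {b // b ∈ B} + 1 = P := by rw [Fintype.card_coe]; exact hBcard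
  have hDinner : ∀ i j : {b // b ∈ B}, ∑ χ, D χ * D χ + ε * D (Θ i) + ε * D (Θ j) +
      (if i = j then 1 else 0) = (if i = j then 3 else 2) := by
    intro i j
    have e := hB_inner _ i.2 _ j.2
    rw [Finset.sum_congr rfl fun χ _ => show i.1 χ * j.1 χ = D χ * D χ +
        (if Θ i = χ then ε * D χ else 0) + (if Θ j = χ then ε * D χ else 0) +
        (if Θ i = χ then (if Θ j = χ then 1 else 0) else 0) by
          rw [hbD i χ, hbD j χ]
          split_ifs <;> first | linear_combination hε2 | ring] at e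
    simp only [Finset.sum_add_distrib, Finset.sum_ite_eq, Finset.mem_univ, if_true] at e
    have hiff : (Θ j = Θ i) ↔ i = j := ⟨fun e' => hΘinj e'.symm, fun e' => by rw [e']⟩
    simp only [hiff, ← Subtype.ext_iff] at e
    exact e
  have hΘ1 : ∀ i, Θ i ≠ principalIrr G := by
    intro i hi
    obtain ⟨j, hj⟩ := Fintype.exists_ne_of_one_lt_card (show 1 < Fintype.card {b // b ∈ B} by omega) i
    have h1 := hbD i (principalIrr G)
    have h2 := hbD j (principalIrr G)
    rw [hB1 _ i.2, if_pos hi] at h1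
    rw [hB1 _ j.2, if_neg (fun e => hj (hΘinj (e.trans hi.symm)))] at h2
    rcases hε with e | e <;> rw [e] at h1 h2 <;> omega
  have hD1 : D (principalIrr G) = 1 := by
    have h1 := hbD o (principalIrr G)
    rw [show o.1 (principalIrr G) = 1 from hB1 _ hb₀, if_neg (hΘ1 o)] at h1
    omega
  set S : ℤ := ∑ χ, D χ * D χ with hS
  set x : ℤ := ε * D (Θ o) with hx
  have hxi : ∀ i, ε * D (Θ i) = x ∧ S + 2 * x = 2 := by
    intro i
    have e0 := hDinner o o
    have e1 := hDinner i i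
    rw [if_pos rfl, if_pos rfl] at e0 e1
    constructor <;> simp only [hx] <;> linarith
  have hsq : ∀ v : IrrCharacter G → ℤ, v (principalIrr G) = 1 →
      1 + ∑ i : {b // b ∈ B}, v (Θ i) * v (Θ i) ≤ ∑ χ, v χ * v χ := by
    intro v hv
    rw [← Finset.sum_image (f := fun χ => v χ * v χ) (g := Θ) (fun a _ b _ e => hΘinj e)]
    have h1 : principalIrr G ∉ Finset.univ.image Θ := by
      simp only [Finset.mem_image, Finset.mem_univ, true_and, not_exists]
      exact hΘ1
    have e : (1 : ℤ) = v (principalIrr G) * v (principalIrr G) := by rw [hv]; norm_num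
    rw [e, ← Finset.sum_insert (f := fun χ => v χ * v χ) h1]
    exact Finset.sum_le_univ_sum_of_nonneg fun χ => mul_self_nonneg _
  have hxsq : ∀ i, D (Θ i) * D (Θ i) = x * x := by
    intro i
    rw [← (hxi i).1]
    linear_combination -(D (Θ i) * D (Θ i)) * hε2
  have hx0 : x = 0 := by
    have h1 := hsq D hD1
    rw [Finset.sum_congr rfl fun i _ => hxsq i, Finset.sum_const, Finset.card_univ, nsmul_eq_mul, ← hS] at h1
    have h4 : (4 : ℤ) ≤ (Fintype.card {b // b ∈ B} : ℤ) := by exact_mod_cast (show 4 ≤ Fintype.card {b // b ∈ B} by omega)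
    have h2 := (hxi o).2
    have h3 : 4 * (x * x) ≤ (Fintype.card {b // b ∈ B} : ℤ) * (x * x) :=
      mul_le_mul_of_nonneg_right h4 (mul_self_nonneg x)
    have : -1 < x ∧ x < 1 := by constructor <;> nlinarith
    omega
  have hDΘ : ∀ i, D (Θ i) = 0 := fun i => by
    have := hxsq i
    rw [hx0, mul_zero] at this
    exact mul_self_eq_zero.1 this
  have hS2 : S = 2 := by
    have := (hxi o).2
    omega
  have hDsum : ∑ χ ∈ Finset.univ.erase (principalIrr G), D χ ^ 2 = 1 := by
    have e := Finset.add_sum_erase Finset.univ (fun χ => D χ ^ 2) (Finset.mem_univ (principalIrr G))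
    simp only [pow_two] at e ⊢
    rw [← hS, hS2, hD1] at e
    linarith
  obtain ⟨A, hA, hδ, hDrest⟩ := exists_one_of_sum_sq _ D hDsum
  have hA1 : A ≠ principalIrr G := (Finset.mem_erase.1 hA).1
  set δ := D A with hδdef
  have hδ2 : δ * δ = 1 := by rcases hδ with e | e <;> rw [e] <;> norm_num
  have hDval : ∀ χ, χ ≠ principalIrr G → χ ≠ A → D χ = 0 := fun χ h1 h2 =>
    hDrest χ (Finset.mem_erase.2 ⟨h1, Finset.mem_univ _⟩) h2
  have hAΘ : ∀ i, Θ i ≠ A := fun i e => by
    have h0 := hDΘ i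
    rw [e] at h0
    rcases hδ with h' | h' <;> omega
  -- the coefficients of `β_μ`
  set a := coef C μ with hadef
  have ha1 : a (principalIrr G) = 1 := coef_principal μ hμ1
  have haa : ∑ χ, a χ * a χ = 4 := by
    rw [hinn μ μ, if_neg hμ1, if_pos rfl, hμinv, if_pos rfl]; norm_num
  have hab : ∀ i : {b // b ∈ B}, ∑ χ, a χ * D χ + ε * a (Θ i) = 2 := by
    intro i
    obtain ⟨η, hη, he⟩ := Finset.mem_image.1 i.2
    have e := hinn μ η
    obtain ⟨hη1, hημ⟩ := (hmemΛ η).1 hη
    rw [he, if_neg hη1, if_neg hμ1, if_neg hημ.symm,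
      if_neg (fun e' => hημ (by rw [← hinvinv η, ← e', hμinv]))] at e
    rw [Finset.sum_congr rfl fun χ _ => show a χ * i.1 χ = a χ * D χ +
      (if Θ i = χ then ε * a χ else 0) by rw [hbD i χ]; split_ifs <;> ring] at e
    simp only [Finset.sum_add_distrib, Finset.sum_ite_eq, Finset.mem_univ, if_true] at e
    linarith
  have haΘ : ∀ i, a (Θ i) = 0 := by
    have hconst : ∀ i, a (Θ i) * a (Θ i) = a (Θ o) * a (Θ o) := by
      intro i
      have h1 := hab i
      have h2 := hab o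
      have h3 : ε * a (Θ i) = ε * a (Θ o) := by linarith
      linear_combination (ε * a (Θ i) + ε * a (Θ o)) * h3 -
        (a (Θ i) * a (Θ i) - a (Θ o) * a (Θ o)) * hε2
    have h1 := hsq a ha1
    rw [Finset.sum_congr rfl fun i _ => hconst i, Finset.sum_const, Finset.card_univ, nsmul_eq_mul, haa] at h1
    have h4 : (4 : ℤ) ≤ (Fintype.card {b // b ∈ B} : ℤ) := by exact_mod_cast (show 4 ≤ Fintype.card {b // b ∈ B} by omega)
    have h0 : a (Θ o) * a (Θ o) = 0 := by
      by_contra hne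
      have h5 := mul_self_nonneg (a (Θ o))
      have h6 : 1 ≤ a (Θ o) * a (Θ o) := by omega
      nlinarith
    exact fun i => mul_self_eq_zero.1 ((hconst i).trans h0)
  have haA : a A = δ := by
    have h1 := hab o
    rw [haΘ, mul_zero, add_zero] at h1
    rw [← Finset.add_sum_erase _ _ (Finset.mem_univ (principalIrr G)), ha1, hD1,
      Finset.sum_eq_single_of_mem A hA (fun χ hχ hχA => by
        rw [hDval χ (Finset.mem_erase.1 hχ).1 hχA, mul_zero])] at h1
    have h2 : a A * δ = 1 := by linarith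
    linear_combination δ * h2 - a A * hδ2
  set rest := (Finset.univ.erase (principalIrr G)).erase A with hrest
  have harest : ∑ χ ∈ rest, a χ ^ 2 = 2 := by
    have e1 := Finset.add_sum_erase Finset.univ (fun χ => a χ * a χ) (Finset.mem_univ (principalIrr G))
    have e2 := Finset.add_sum_erase (Finset.univ.erase (principalIrr G)) (fun χ => a χ * a χ) hA
    simp only [haa, ha1, haA] at e1 e2
    simp only [pow_two]
    linarith
  obtain ⟨B2, hB2, B3, hB3, hB23, he2, he3, hazero⟩ := exists_two_of_sum_sq _ a harest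
  simp only [hrest, Finset.mem_erase, Finset.mem_univ, and_true] at hB2 hB3
  have haval : ∀ χ, χ ≠ principalIrr G → χ ≠ A → χ ≠ B2 → χ ≠ B3 → a χ = 0 := fun χ h1 h2 h3 h4 =>
    hazero χ (by simp [hrest, h1, h2]) h3 h4
  have hBΘ : ∀ i, Θ i ≠ B2 ∧ Θ i ≠ B3 := fun i => by
    have h0 := haΘ i
    constructor <;> intro e <;> rw [e] at h0
    · rcases he2 with h' | h' <;> omega
    · rcases he3 with h' | h' <;> omega
  -- values
  have hηt : ∀ η : C →* ℂˣ, (η τ : ℂ) = 1 ∨ (η τ : ℂ) = -1 := fun η => by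
    refine mul_self_eq_one_iff.1 ?_
    have h2 : τ * τ = 1 := Subtype.ext (mul_self_eq_one h.ordt)
    rw [← Units.val_mul, ← map_mul, h2, map_one, Units.val_one]
  let sgn : (IrrCharacter G → ℤ) → ℂ := fun b =>
    if hb : ∃ η, η ∈ Λ ∧ coef C η = b then (hb.choose τ : ℂ) else 0
  have hsgn : ∀ η ∈ Λ, sgn (coef C η) = (η τ : ℂ) := by
    intro η hη
    have hex : ∃ ζ, ζ ∈ Λ ∧ coef C ζ = coef C η := ⟨η, hη, rfl⟩
    simp only [sgn, dif_pos hex]
    obtain ⟨hζ, he⟩ := hex.choose_spec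
    have hm : hex.choose ∈ ({η, η⁻¹} : Finset (C →* ℂˣ)) := by
      rw [← hfib η hη, Finset.mem_filter]; exact ⟨hζ, he⟩
    simp only [Finset.mem_insert, Finset.mem_singleton] at hm
    rcases hm with e | e <;> rw [e]
    rcases hηt η with e' | e' <;> simp [MonoidHom.inv_apply, e']
  have hsgn_inv : ∀ η ∈ Λ, ((η⁻¹ : C →* ℂˣ) τ : ℂ) = (η τ : ℂ) := fun η _ => by
    rcases hηt η with e | e <;> simp [MonoidHom.inv_apply, e]
  have hsplit : ∀ F : (C →* ℂˣ) → ℂ, ∑ η, F η = F 1 + F μ + ∑ η ∈ Λ, F η := fun F => by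
    rw [show Λ = (Finset.univ.erase (1 : C →* ℂˣ)).erase μ by ext η; simp [hΛ, and_comm],
      ← Finset.add_sum_erase Finset.univ F (Finset.mem_univ 1),
      ← Finset.add_sum_erase (Finset.univ.erase (1 : C →* ℂˣ)) F (a := μ) (by simp [hμ1]), add_assoc]
  have hBtoι : ∀ F : (IrrCharacter G → ℤ) → ℂ, ∑ b ∈ B, F b = ∑ i : {b // b ∈ B}, F i.1 := fun F =>
    (Finset.sum_coe_sort B F).symm
  have hsgn0 : ∑ i : {b // b ∈ B}, sgn i.1 = 0 := by
    have h1 := hsum2 (fun η => (η τ : ℂ)) hsgn_inv sgn hsgn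
    have h2 := sum_hom h τ
    rw [if_neg (fun e => ne_one_of_involution h.ordt (congrArg Subtype.val e)), hsplit, h1] at h2
    simp only [MonoidHom.one_apply, Units.val_one, hμt, hBtoι] at h2
    linear_combination h2 / 2
  have hcast : ∀ η (χ : IrrCharacter G), classInner (beta C η) (χ : G → ℂ) = (coef C η χ : ℂ) := coef_spec
  have hP0 : ((2 * P : ℕ) : ℂ) ≠ 0 := Nat.cast_ne_zero.2 (by omega)
  -- value at `t`
  have hvt : ∀ χ : IrrCharacter G, conj ((χ : G → ℂ) t) =
      (a χ : ℂ) - 2 * (ε : ℂ) * ∑ i : {b // b ∈ B}, (if Θ i = χ then sgn i.1 else 0) := by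
    intro χ
    have key : ∀ c : C, ∑ η : C →* ℂˣ, (η τ : ℂ) * (1 - (η c : ℂ)) =
        - (if c = τ then ((2 * P : ℕ) : ℂ) else 0) := by
      intro c
      have e : ∀ η : C →* ℂˣ, (η τ : ℂ) * (1 - (η c : ℂ)) = (η τ : ℂ) - (η (τ * c) : ℂ) := fun η => by
        rw [map_mul, Units.val_mul]; ring
      have hiff : τ * c = 1 ↔ c = τ := by
        have h2 : τ * τ = 1 := Subtype.ext (mul_self_eq_one h.ordt)
        constructor
        · intro e'; exact mul_left_cancel (e'.trans h2.symm)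
        · rintro rfl; exact h2
      rw [Finset.sum_congr rfl fun η _ => e η, Finset.sum_sub_distrib, sum_hom h, sum_hom h,
        if_neg (fun e => ne_one_of_involution h.ordt (congrArg Subtype.val e)), if_congr hiff rfl rfl]
      ring
    have h1 : ∑ η : C →* ℂˣ, (η τ : ℂ) * (coef C η χ : ℂ) = - conj ((χ : G → ℂ) t) := by
      simp only [← hcast, inner_beta_irr, h.card]
      calc ∑ η : C →* ℂˣ, (η τ : ℂ) * ((((2 * P : ℕ) : ℂ))⁻¹ *
            ∑ c : C, (1 - (η c : ℂ)) * conj ((χ : G → ℂ) c))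
          = (((2 * P : ℕ) : ℂ))⁻¹ * ∑ c : C, (∑ η : C →* ℂˣ, (η τ : ℂ) * (1 - (η c : ℂ))) *
              conj ((χ : G → ℂ) c) := by
            simp only [Finset.mul_sum, Finset.sum_mul]
            rw [Finset.sum_comm]
            refine Finset.sum_congr rfl fun c _ => Finset.sum_congr rfl fun η _ => ?_
            ring
        _ = _ := by
            simp only [key, neg_mul, ite_mul, zero_mul, Finset.sum_neg_distrib, Finset.sum_ite_eq',
              Finset.mem_univ, if_true]
            field_simp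
            rfl
    rw [hsplit, hsum2 (fun η => (η τ : ℂ) * (coef C η χ : ℂ))
      (fun η hη => by rw [hsgn_inv η hη, hinvcoef η hη])
      (fun b => sgn b * (b χ : ℂ)) (fun η hη => by rw [hsgn η hη]), hBtoι,
      coef_one, hμt] at h1
    have e2 : ∀ i : {b // b ∈ B}, sgn i.1 * (i.1 χ : ℂ) =
        sgn i.1 * (D χ : ℂ) + (ε : ℂ) * (if Θ i = χ then sgn i.1 else 0) := by
      intro i
      rw [hbD i χ]
      push_cast
      split_ifs <;> ring
    rw [Finset.sum_congr rfl fun i _ => e2 i, Finset.sum_add_distrib, ← Finset.sum_mul, hsgn0,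
      ← Finset.mul_sum] at h1
    simp only [Int.cast_zero, mul_zero, zero_mul, zero_add, ← hadef] at h1
    linear_combination h1
  -- sum over the odd part of `C`
  let Q : Finset C := Finset.univ.filter fun c => (μ c : ℂ) = 1 ∧ c ≠ 1
  have hvS : ∀ χ : IrrCharacter G, ∑ c ∈ Q, conj ((χ : G → ℂ) c) =
      (1 - (P : ℂ)) * (a χ : ℂ) + 2 * ((P : ℂ) - 1) * (D χ : ℂ) +
        2 * (ε : ℂ) * ∑ i : {b // b ∈ B}, (if Θ i = χ then (1 : ℂ) else 0) := by
    intro χ
    have key : ∀ c : C, (∑ η : C →* ℂˣ, (1 - (η c : ℂ))) - (P : ℂ) * (1 - (μ c : ℂ)) =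
        if c ∈ Q then ((2 * P : ℕ) : ℂ) else 0 := by
      intro c
      rw [Finset.sum_sub_distrib, Finset.sum_const, Finset.card_univ, card_hom h, sum_hom h, nsmul_one]
      simp only [Q, Finset.mem_filter, Finset.mem_univ, true_and]
      by_cases hc : c = 1
      · subst hc; simp
      rcases hμval c with e | e
      · simp [hc, e]
      · simp [hc, e]
        norm_num
        ring
    have h1 : (∑ η : C →* ℂˣ, (coef C η χ : ℂ)) - (P : ℂ) * (coef C μ χ : ℂ) =
        ∑ c ∈ Q, conj ((χ : G → ℂ) c) := by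
      simp only [← hcast, inner_beta_irr, h.card]
      calc (∑ η : C →* ℂˣ, (((2 * P : ℕ) : ℂ))⁻¹ * ∑ c : C, (1 - (η c : ℂ)) * conj ((χ : G → ℂ) c)) -
            (P : ℂ) * ((((2 * P : ℕ) : ℂ))⁻¹ * ∑ c : C, (1 - (μ c : ℂ)) * conj ((χ : G → ℂ) c))
          = (((2 * P : ℕ) : ℂ))⁻¹ * ∑ c : C, ((∑ η : C →* ℂˣ, (1 - (η c : ℂ))) -
              (P : ℂ) * (1 - (μ c : ℂ))) * conj ((χ : G → ℂ) c) := by
            simp only [sub_mul, Finset.sum_mul, Finset.mul_sum, Finset.sum_sub_distrib, mul_sub]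
            congr 1
            · congr 1
              · rw [Finset.sum_comm]
              · rw [Finset.sum_comm]
            · congr 1 <;> refine Finset.sum_congr rfl fun c _ => ?_ <;> ring
        _ = _ := by
            simp only [key, ite_mul, zero_mul, Finset.sum_ite_mem, Finset.univ_inter]
            rw [← Finset.mul_sum, inv_mul_cancel_left₀ hP0]
    rw [hsplit, hsum2 (fun η => (coef C η χ : ℂ)) (fun η hη => by rw [hinvcoef η hη])
      (fun b => (b χ : ℂ)) (fun η hη => rfl), hBtoι, coef_one] at h1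
    have e2 : ∀ i : {b // b ∈ B}, (i.1 χ : ℂ) = (D χ : ℂ) + (ε : ℂ) * (if Θ i = χ then (1 : ℂ) else 0) := by
      intro i
      rw [hbD i χ]
      push_cast
      split_ifs <;> ring
    rw [Finset.sum_congr rfl fun i _ => e2 i, Finset.sum_add_distrib, Finset.sum_const, Finset.card_univ,
      ← Finset.mul_sum, nsmul_eq_mul] at h1
    have hn : (Fintype.card {b // b ∈ B} : ℂ) = (P : ℂ) - 1 := by
      rw [eq_sub_iff_add_eq]; exact_mod_cast hnB
    rw [hn] at h1
    simp only [Int.cast_zero, zero_add, ← hadef] at h1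
    linear_combination -h1
  -- evaluate on the support
  have hΘsum : ∀ (j : {b // b ∈ B}) (F : {b // b ∈ B} → ℂ), ∑ i, (if Θ i = Θ j then F i else 0) = F j :=
    fun j F => by simp [hΘinj.eq_iff]
  have hoff : ∀ χ, (∀ i, Θ i ≠ χ) → ∀ F : {b // b ∈ B} → ℂ, ∑ i, (if Θ i = χ then F i else 0) = 0 :=
    fun χ hχ F => Finset.sum_eq_zero fun i _ => if_neg (hχ i)
  have hsgnreal : ∀ i : {b // b ∈ B}, sgn i.1 = 1 ∨ sgn i.1 = -1 := by
    intro i
    obtain ⟨η, hη, he⟩ := Finset.mem_image.1 i.2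
    rw [← he, hsgn η hη]
    exact hηt η
  have hvt' : ∀ χ : IrrCharacter G, (χ : G → ℂ) t =
      (a χ : ℂ) - 2 * (ε : ℂ) * ∑ i : {b // b ∈ B}, (if Θ i = χ then sgn i.1 else 0) := by
    intro χ
    have e := congrArg conj (hvt χ)
    rw [Complex.conj_conj, map_sub, map_mul, map_mul, map_intCast, map_intCast, map_ofNat, map_sum] at e
    rw [e]
    congr 2
    refine Finset.sum_congr rfl fun i _ => ?_
    split_ifs
    · rcases hsgnreal i with e' | e' <;> simp [e']
    · simp
  have hvt1 : ∀ χ, (∀ i, Θ i ≠ χ) → (χ : G → ℂ) t = (a χ : ℂ) := fun χ hχ => by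
    rw [hvt', hoff χ hχ]; ring
  have hvtΘ : ∀ j, (Θ j : G → ℂ) t = -2 * (ε : ℂ) * sgn j.1 := fun j => by
    rw [hvt', hΘsum, haΘ]; push_cast; ring
  have hvS1 : ∀ χ, (∀ i, Θ i ≠ χ) → ∑ c ∈ Q, conj ((χ : G → ℂ) c) =
      (1 - (P : ℂ)) * (a χ : ℂ) + 2 * ((P : ℂ) - 1) * (D χ : ℂ) := fun χ hχ => by
    rw [hvS, hoff χ hχ]; ring
  have hvSΘ : ∀ j, ∑ c ∈ Q, conj ((Θ j : G → ℂ) c) = 2 * (ε : ℂ) := fun j => by
    rw [hvS, hΘsum, haΘ, hDΘ]; push_cast; ring
  -- degrees
  let f : IrrCharacter G → ℕ := fun χ => charDegree (χ : G → ℂ)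
  have hf : ∀ χ : IrrCharacter G, (χ : G → ℂ) 1 = (f χ : ℂ) := fun χ => (CfsgLib.ClassCount.degree_eq χ).1
  have hfpos : ∀ χ, 0 < f χ := fun χ => (CfsgLib.ClassCount.degree_eq χ).2.2
  have hf1 : f (principalIrr G) = 1 := by
    have := hf (principalIrr G)
    simp only [principalIrr_apply] at this
    exact_mod_cast this.symm
  have hA' : ∀ i, Θ i ≠ A := hAΘ
  have hdegD : ∀ i, (1 : ℤ) + δ * (f A : ℤ) + ε * (f (Θ i) : ℤ) = 0 := by
    intro i
    have e := hBdeg _ i.2
    simp only [hbD i, hf] at e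
    have e' : ∑ χ : IrrCharacter G, (D χ + ε * (if Θ i = χ then 1 else 0)) * (f χ : ℤ) = 0 := by
      exact_mod_cast e
    simp only [add_mul, Finset.sum_add_distrib, mul_ite, mul_one, mul_zero, ite_mul, zero_mul,
      Finset.sum_ite_eq, Finset.mem_univ, if_true] at e'
    rw [← Finset.add_sum_erase _ _ (Finset.mem_univ (principalIrr G)), hD1,
      Finset.sum_eq_single_of_mem A hA (fun χ hχ hχA => by
        rw [hDval χ (Finset.mem_erase.1 hχ).1 hχA, zero_mul]), hf1] at e'
    simp only [Nat.cast_one, one_mul, ← hδdef] at e'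
    exact e'
  have hdega : (1 : ℤ) + δ * (f A : ℤ) + a B2 * (f B2 : ℤ) + a B3 * (f B3 : ℤ) = 0 := by
    have e := coef_degree (C := C) μ
    simp only [hf, ← hadef] at e
    have e' : ∑ χ : IrrCharacter G, a χ * (f χ : ℤ) = 0 := by exact_mod_cast e
    rw [← Finset.add_sum_erase _ _ (Finset.mem_univ (principalIrr G)),
      ← Finset.add_sum_erase _ _ hA, ← Finset.add_sum_erase (a := B2) _ _ (by simp [hB2.1, hB2.2]),
      Finset.sum_eq_single_of_mem B3 (by simp [hB3.1, hB3.2, hB23.symm])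
        (fun χ hχ hne => by
          simp only [Finset.mem_erase, Finset.mem_univ, and_true] at hχ
          rw [haval χ hχ.2.2 hχ.2.1 hχ.1 hne, zero_mul]),
      ha1, haA, hf1] at e'
    simp only [Nat.cast_one, one_mul] at e'
    linarith
  set T := f (Θ o) with hT
  have hTeq : ∀ i, f (Θ i) = T := by
    intro i
    have h1 := hdegD i
    have h2 := hdegD o
    rcases hε with e | e <;> rw [e] at h1 h2 <;> omega
  -- the support of `χ(t)`
  have hsum_supp : ∀ g : IrrCharacter G → ℂ, (∀ χ : IrrCharacter G, (χ : G → ℂ) t = 0 → g χ = 0) →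
      ∑ χ, g χ = g (principalIrr G) + g A + g B2 + g B3 + ∑ i, g (Θ i) := by
    intro g hg
    have hd : Disjoint ({principalIrr G, A, B2, B3} : Finset (IrrCharacter G)) (Finset.univ.image Θ) := by
      rw [Finset.disjoint_right]
      intro χ hχ hmem
      obtain ⟨i, -, rfl⟩ := Finset.mem_image.1 hχ
      simp only [Finset.mem_insert, Finset.mem_singleton] at hmem
      rcases hmem with e | e | e | e
      exacts [hΘ1 i e, hAΘ i e, (hBΘ i).1 e, (hBΘ i).2 e]
    rw [← Finset.sum_subset (Finset.subset_univ (({principalIrr G, A, B2, B3} : Finset (IrrCharacter G)) ∪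
        Finset.univ.image Θ)), Finset.sum_union hd,
      Finset.sum_image (fun a _ b _ e => hΘinj e), Finset.sum_insert, Finset.sum_insert,
      Finset.sum_pair hB23]
    · ring
    · simp [hB2.1.symm, hB3.1.symm]
    · simp [hA1.symm, hB2.2.symm, hB3.2.symm]
    · intro χ _ hχ
      simp only [Finset.mem_union, Finset.mem_insert, Finset.mem_singleton, Finset.mem_image,
        Finset.mem_univ, true_and, not_or, not_exists] at hχ
      refine hg χ ?_
      rw [hvt1 χ hχ.2, haval χ hχ.1.1 hχ.1.2.1 hχ.1.2.2.1 hχ.1.2.2.2]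
      simp
  -- the counting formula
  have hcls : CfsgLib.ClassCount.cls t = invs G := by
    ext y
    rw [CfsgLib.ClassCount.mem_cls, mem_invs]
    refine ⟨fun hy => ?_, fun hy => h.conjInvol t y h.ordt hy⟩
    obtain ⟨g, rfl⟩ := isConj_iff.1 hy
    rw [orderOf_conj']; exact h.ordt
  have hpairs : ∀ T : Finset G, (∀ g ∈ T, (invPairs g).card = 2 * P) →
      (CfsgLib.ClassCount.pairs t t T).card = T.card * (2 * P) := by
    intro T hT
    rw [← smul_eq_mul, ← Finset.sum_const, ← Finset.sum_congr rfl hT, ← Finset.card_sigma]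
    refine Finset.card_bij (fun z _ => ⟨z.1 * z.2, z.1⟩) (fun z hz => ?_) (fun z hz w hw e => ?_)
      (fun z hz => ?_)
    · simp only [CfsgLib.ClassCount.pairs, Finset.mem_filter, Finset.mem_product, hcls, mem_invs] at hz
      refine Finset.mem_sigma.2 ⟨hz.2, mem_invPairs.2 ⟨hz.1.1, ?_⟩⟩
      rw [← mul_assoc, mul_self_eq_one hz.1.1, one_mul]
      exact hz.1.2
    · simp only [Sigma.mk.injEq, heq_eq_eq] at e
      refine Prod.ext e.2 ?_
      have := e.1
      rw [e.2] at this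
      exact mul_left_cancel this
    · obtain ⟨hz1, hz2⟩ := Finset.mem_sigma.1 hz
      obtain ⟨ht', htg⟩ := mem_invPairs.1 hz2
      refine ⟨(z.2, z.2 * z.1), ?_, ?_⟩
      · simp only [CfsgLib.ClassCount.pairs, Finset.mem_filter, Finset.mem_product, hcls, mem_invs]
        refine ⟨⟨ht', htg⟩, ?_⟩
        rw [← mul_assoc, mul_self_eq_one ht', one_mul]
        exact hz1
      · simp only [← mul_assoc, mul_self_eq_one ht', one_mul]
  set m : ℕ := (invs G).card with hm
  have hG : Nat.card G = m * (4 * P) := (h.card_invs).symm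
  have hCt : Nat.card (Subgroup.centralizer ({t} : Set G)) = 4 * P := by rw [h.centralizer_t]; exact h.card_N
  have hformula : ∀ T : Finset G, (∀ g ∈ T, (invPairs g).card = 2 * P) →
      (T.card : ℂ) * 8 * P * P = (m : ℂ) * ∑ χ : IrrCharacter G,
        (χ : G → ℂ) t * (χ : G → ℂ) t * (∑ g ∈ T, (χ : G → ℂ) g⁻¹) / (f χ : ℂ) := by
    intro T hT
    have e := CfsgLib.ClassCount.card_pairs_mul_centralizers t t T
    rw [hpairs T hT, hCt] at e
    have e' : ∑ χ : IrrCharacter G, (CfsgLib.ClassCount.cofDegree χ : ℂ) *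
        ((χ : G → ℂ) t * (χ : G → ℂ) t * ∑ g ∈ T, (χ : G → ℂ) g⁻¹) =
        ((m : ℂ) * (4 * P)) * ∑ χ : IrrCharacter G,
          (χ : G → ℂ) t * (χ : G → ℂ) t * (∑ g ∈ T, (χ : G → ℂ) g⁻¹) / (f χ : ℂ) := by
      rw [Finset.mul_sum]
      refine Finset.sum_congr rfl fun χ _ => ?_
      rw [← CfsgLib.ClassCount.card_div_degree χ, hf, hG]
      push_cast
      ring
    rw [e'] at e
    push_cast at e
    have h4P : (4 * (P : ℂ)) ≠ 0 := by
      have : (P : ℂ) ≠ 0 := Nat.cast_ne_zero.2 (by omega)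
      exact mul_ne_zero (by norm_num) this
    apply mul_left_cancel₀ h4P
    linear_combination e
  have htinv : t⁻¹ = t := inv_eq_self_of_involution h.ordt
  have eY : (8 : ℂ) * P * P = (m : ℂ) * (1 + (δ : ℂ) / (f A : ℂ) + (a B2 : ℂ) / (f B2 : ℂ) +
      (a B3 : ℂ) / (f B3 : ℂ)) := by
    have e := hformula {t} (fun g hg => by
      rw [Finset.mem_singleton.1 hg]; exact h.card_invPairs h.memt (ne_one_of_involution h.ordt))
    simp only [Finset.card_singleton, Nat.cast_one, one_mul, Finset.sum_singleton, htinv] at e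
    rw [hsum_supp _ (fun χ hχ => by rw [hχ]; simp)] at e
    have hs3 : ∀ i : {b // b ∈ B}, (Θ i : G → ℂ) t * (Θ i : G → ℂ) t * (Θ i : G → ℂ) t / (f (Θ i) : ℂ) =
        (-8 * (ε : ℂ) / (T : ℂ)) * sgn i.1 := by
      intro i
      rw [hvtΘ, hTeq]
      have h2 : (ε : ℂ) * (ε : ℂ) = 1 := by exact_mod_cast hε2
      rcases hsgnreal i with e' | e' <;> rw [e']
      · linear_combination (-8 * (ε : ℂ) / (T : ℂ)) * h2
      · linear_combination (8 * (ε : ℂ) / (T : ℂ)) * h2
    rw [Finset.sum_congr rfl fun i _ => hs3 i, ← Finset.mul_sum, hsgn0, mul_zero, add_zero,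
      hvt1 A hAΘ, hvt1 B2 (fun i => (hBΘ i).1), hvt1 B3 (fun i => (hBΘ i).2),
      principalIrr_apply, hf1, haA] at e
    rw [e]
    rcases hδ with e1 | e1 <;> rcases he2 with e2 | e2 <;> rcases he3 with e3 | e3 <;>
      rw [e1, e2, e3] <;> push_cast <;> ring
  set QG : Finset G := Q.map ⟨Subtype.val, Subtype.val_injective⟩ with hQG
  have hμQ : Q.card + 1 = P := by
    have hs : ∑ c : C, (μ c : ℂ) = 0 := by
      have e : (μ τ : ℂ) * ∑ c : C, (μ c : ℂ) = ∑ c : C, (μ c : ℂ) := by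
        rw [Finset.mul_sum]
        exact Fintype.sum_equiv (Equiv.mulLeft τ) _ _ fun c => by simp
      rw [hμt] at e
      linear_combination (-1 / 2 : ℂ) * e
    have hcardC : Fintype.card C = 2 * P := by rw [← Nat.card_eq_fintype_card]; exact h.card
    have e2 : ∀ c : C, (μ c : ℂ) = 2 * (if (μ c : ℂ) = 1 then 1 else 0) - 1 := fun c => by
      rcases hμval c with e | e <;> rw [e] <;> norm_num
    rw [Finset.sum_congr rfl fun c _ => e2 c, Finset.sum_sub_distrib, ← Finset.mul_sum, Finset.sum_boole,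
      Finset.sum_const, Finset.card_univ, hcardC, nsmul_one] at hs
    have h3 : (Finset.univ.filter fun c : C => (μ c : ℂ) = 1) = insert 1 Q := by
      ext c
      simp only [Q, Finset.mem_filter, Finset.mem_univ, true_and, Finset.mem_insert]
      by_cases hc : c = 1
      · subst hc; simp
      · simp [hc]
    rw [h3, Finset.card_insert_of_notMem (by simp [Q])] at hs
    push_cast at hs
    have : ((Q.card + 1 : ℕ) : ℂ) = (P : ℂ) := by push_cast; linear_combination hs / 2
    exact_mod_cast this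
  have hQinv : ∀ χ : IrrCharacter G, ∑ g ∈ QG, (χ : G → ℂ) g⁻¹ = ∑ c ∈ Q, conj ((χ : G → ℂ) c) := by
    intro χ
    rw [hQG, Finset.sum_map]
    exact Finset.sum_congr rfl fun c _ => irr_apply_inv χ _
  have hPm1 : ((P : ℂ) - 1) ≠ 0 := by
    rw [sub_ne_zero]; exact_mod_cast (show P ≠ 1 by omega)
  have eX : (8 : ℂ) * P * P = (m : ℂ) * (1 + (δ : ℂ) / (f A : ℂ) - (a B2 : ℂ) / (f B2 : ℂ) -
      (a B3 : ℂ) / (f B3 : ℂ) + 8 * (ε : ℂ) / (T : ℂ)) := by
    have e := hformula QG (fun g hg => by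
      rw [hQG, Finset.mem_map] at hg
      obtain ⟨c, hc, rfl⟩ := hg
      simp only [Q, Finset.mem_filter, Finset.mem_univ, true_and] at hc
      exact h.card_invPairs c.2 (fun e' => hc.2 (Subtype.ext e')))
    rw [hQG, Finset.card_map, ← hQG] at e
    simp only [hQinv] at e
    rw [hsum_supp _ (fun χ hχ => by rw [hχ]; simp)] at e
    have hs3 : ∀ i : {b // b ∈ B}, (Θ i : G → ℂ) t * (Θ i : G → ℂ) t *
        (∑ c ∈ Q, conj ((Θ i : G → ℂ) c)) / (f (Θ i) : ℂ) = 8 * (ε : ℂ) / (T : ℂ) := by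
      intro i
      rw [hvtΘ, hTeq, hvSΘ]
      have h2 : (ε : ℂ) * (ε : ℂ) = 1 := by exact_mod_cast hε2
      rcases hsgnreal i with e' | e' <;> rw [e'] <;>
        linear_combination (8 * (ε : ℂ) / (T : ℂ)) * h2
    have hDB : ∀ χ, χ ≠ principalIrr G → χ ≠ A → (D χ : ℂ) = 0 := fun χ h1 h2 => by
      rw [hDval χ h1 h2, Int.cast_zero]
    rw [Finset.sum_congr rfl fun i _ => hs3 i, Finset.sum_const, Finset.card_univ, nsmul_eq_mul,
      hvt1 A hAΘ, hvt1 B2 (fun i => (hBΘ i).1), hvt1 B3 (fun i => (hBΘ i).2),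
      hvS1 A hAΘ, hvS1 B2 (fun i => (hBΘ i).1), hvS1 B3 (fun i => (hBΘ i).2),
      hvS1 (principalIrr G) hΘ1, hDB B2 hB2.2 hB2.1, hDB B3 hB3.2 hB3.1, ha1, hD1, ← hδdef,
      principalIrr_apply, hf1, haA] at e
    have hn : (Fintype.card {b // b ∈ B} : ℂ) = (P : ℂ) - 1 := by
      rw [eq_sub_iff_add_eq]; exact_mod_cast hnB
    have hq : (Q.card : ℂ) = (P : ℂ) - 1 := by
      rw [eq_sub_iff_add_eq]; exact_mod_cast hμQ
    rw [hn, hq] at e
    apply mul_left_cancel₀ hPm1
    rcases hδ with e1 | e1 <;> rcases he2 with e2 | e2 <;> rcases he3 with e3 | e3 <;>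
      rw [e1, e2, e3] at e ⊢ <;> push_cast at e ⊢ <;> linear_combination e
  -- congruences
  have hdvdP : (P : ℤ) ∣ δ * (f A : ℤ) - 1 := by
    let H : Subgroup G := (MonoidHom.ker μ).map C.subtype
    obtain ⟨k, hk⟩ := CfsgLib.ClassCount.exists_mult A H
    have hH : (Finset.univ.filter fun g : G => g ∈ H) = (insert 1 Q).map ⟨Subtype.val, Subtype.val_injective⟩ := by
      ext g
      simp only [Finset.mem_filter, Finset.mem_univ, true_and, Finset.mem_map, Finset.mem_insert, H,
        Subgroup.mem_map, MonoidHom.mem_ker, Q, Subgroup.coe_subtype, Function.Embedding.coeFn_mk]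
      refine exists_congr fun c => and_congr_left fun _ => ?_
      by_cases hc : c = 1
      · subst hc; simp
      · simp only [hc, false_or, ne_eq, not_false_eq_true, and_true]
        exact ⟨fun e => by rw [e, Units.val_one], fun e => Units.ext e⟩
    have hcardH : Nat.card H = P := by
      rw [Nat.card_eq_fintype_card, ← hμQ, ← Finset.card_insert_of_notMem (show (1 : C) ∉ Q by simp [Q]),
        ← Finset.card_map ⟨Subtype.val, Subtype.val_injective⟩, ← hH]
      exact Fintype.card_subtype _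
    have e : ∑ g : H, (A : G → ℂ) ((g : G)⁻¹) = (f A : ℂ) + ((P : ℂ) - 1) * (δ : ℂ) := by
      rw [← Finset.sum_subtype (Finset.univ.filter fun g : G => g ∈ H) (fun g => by simp)
        (fun g => (A : G → ℂ) g⁻¹), hH, Finset.sum_map, Finset.sum_insert (by simp [Q])]
      have : ∑ c ∈ Q, (A : G → ℂ) ((c : G))⁻¹ = ∑ c ∈ Q, conj ((A : G → ℂ) c) :=
        Finset.sum_congr rfl fun c _ => irr_apply_inv A _
      simp only [Function.Embedding.coeFn_mk, Subgroup.coe_one, inv_one, hf, this, hvS1 A hAΘ, haA, ← hδdef]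
      ring
    rw [e, hcardH] at hk
    have hk' : (f A : ℤ) + ((P : ℤ) - 1) * δ = (P : ℤ) * k := by exact_mod_cast hk
    exact ⟨δ * k - δ * δ, by linear_combination δ * hk' + hδ2⟩
  have hdvd4 : (4 : ℤ) ∣ δ * (f A : ℤ) - 1 := by
    let V : Subgroup G := Subgroup.closure {t, u}
    have hVset : (V : Set G) = {1, t, u, t * u} := by
      have hu2 := h.u_mul_self
      have ht2 := mul_self_eq_one h.ordt
      have hc := h.u_mul_t
      have e1 : t * (t * u) = u := by rw [← mul_assoc, ht2, one_mul]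
      have e2 : t * u * t = u := by rw [mul_assoc, hc, e1]
      have e3 : t * u * u = t := by rw [mul_assoc, hu2, mul_one]
      have e4 : u * (t * u) = t := by rw [← mul_assoc, hc, e3]
      have e5 : t * u * (t * u) = 1 := by rw [mul_assoc, e4, ht2]
      let W : Subgroup G :=
        { carrier := {1, t, u, t * u}
          one_mem' := by simp
          mul_mem' := fun {x y} hx hy => by
            simp only [Set.mem_insert_iff, Set.mem_singleton_iff] at hx hy ⊢
            rcases hx with rfl | rfl | rfl | rfl <;> rcases hy with rfl | rfl | rfl | rfl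
            all_goals simp [hu2, ht2, hc, e1, e2, e3, e4, e5]
          inv_mem' := fun {x} hx => by
            simp only [Set.mem_insert_iff, Set.mem_singleton_iff] at hx ⊢
            rcases hx with rfl | rfl | rfl | rfl
            · simp
            · simp [inv_eq_self_of_involution h.ordt]
            · simp [h.u_inv]
            · simp [inv_eq_self_of_involution h.ordt, h.u_inv, hc] }
      refine le_antisymm ?_ ?_
      · show V ≤ W
        rw [Subgroup.closure_le]
        intro z hz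
        show z ∈ ({1, t, u, t * u} : Set G)
        rcases hz with rfl | rfl <;> simp
      · intro z hz
        rcases hz with rfl | rfl | rfl | rfl
        · exact V.one_mem
        · exact Subgroup.subset_closure (by simp)
        · exact Subgroup.subset_closure (by simp)
        · exact V.mul_mem (Subgroup.subset_closure (by simp)) (Subgroup.subset_closure (by simp))
    have hVfin : (Finset.univ.filter fun g : G => g ∈ V) = {1, t, u, t * u} := by
      ext g
      simp only [Finset.mem_filter, Finset.mem_univ, true_and, ← SetLike.mem_coe, hVset]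
      simp
    have h1 : t ≠ 1 := ne_one_of_involution h.ordt
    have h2 : u ≠ 1 := ne_one_of_involution h.ordu
    have h3 : u ≠ t := fun e => h.notu (e ▸ h.memt)
    have htu : orderOf (t * u) = 2 := by
      refine orderOf_eq_two_iff_mul.2 ⟨fun e => h3 ?_, ?_⟩
      · exact ((inv_eq_of_mul_eq_one_right e).symm.trans (inv_eq_self_of_involution h.ordt))
      · rw [mul_assoc, ← mul_assoc u, h.u_mul_t, mul_assoc, h.u_mul_self, mul_one, mul_self_eq_one h.ordt]
    have h4 : t * u ≠ 1 := ne_one_of_involution htu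
    have h5 : t * u ≠ t := fun e => h2 (by simpa using e)
    have h6 : t * u ≠ u := fun e => h1 (by simpa using e)
    obtain ⟨k, hk⟩ := CfsgLib.ClassCount.exists_mult A V
    have hval : ∀ g : G, orderOf g = 2 → (A : G → ℂ) g⁻¹ = (δ : ℂ) := fun g hg => by
      rw [inv_eq_self_of_involution hg, ← classFunction_eq_of_isConj (irr_isClassFunction A)
        (h.conjInvol t g h.ordt hg), hvt1 A hAΘ, haA]
    have hcardV : Nat.card V = 4 := by
      rw [Nat.card_eq_fintype_card, Fintype.card_subtype, hVfin, Finset.card_insert_of_notMem,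
        Finset.card_insert_of_notMem, Finset.card_pair h6.symm]
      · simp [h3.symm, h5.symm]
      · simp [h1.symm, h2.symm, h4.symm]
    rw [← Finset.sum_subtype (Finset.univ.filter fun g : G => g ∈ V) (fun g => by simp)
        (fun g => (A : G → ℂ) g⁻¹), hVfin, Finset.sum_insert, Finset.sum_insert, Finset.sum_pair h6.symm,
      hval t h.ordt, hval u h.ordu, hval _ htu, inv_one, hf, hcardV] at hk
    · have hk' : (f A : ℤ) + (δ + (δ + δ)) = 4 * (k : ℤ) := by exact_mod_cast hk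
      exact ⟨δ * k - 1, by linear_combination δ * hk' - 3 * hδ2⟩
    · simp [h3.symm, h5.symm]
    · simp [h1.symm, h2.symm, h4.symm]
  have h4P : (4 * P : ℤ) ∣ δ * (f A : ℤ) - 1 :=
    IsCoprime.mul_dvd (Int.isCoprime_iff_nat_coprime.2 (by
      simpa using Nat.Coprime.pow_left 2 (Nat.coprime_two_left.2 h.odd))) hdvd4 hdvdP
  -- conclude
  have hm' : (m : ℚ) = 4 * (P : ℚ) * P - 2 * P + 1 := by
    have := h.count
    have : ((m + 2 * P : ℕ) : ℚ) = ((4 * P * P + 1 : ℕ) : ℚ) := by rw [hm, this]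
    push_cast at this
    linarith
  have hTne : (f (Θ o) : ℤ) ≠ 0 := by have := hfpos (Θ o); omega
  have hne : ∀ χ, (f χ : ℤ) ≠ 0 := fun χ => by have := hfpos χ; omega
  have hnz : ∀ e : ℤ, (e = 1 ∨ e = -1) → e ≠ 0 := fun e he => by omega
  have hinvq : ∀ (e : ℤ) (n : ℕ), (e = 1 ∨ e = -1) → (1 : ℚ) / ((e * (n : ℤ) : ℤ) : ℚ) = (e : ℚ) / n := by
    intro e n he
    rcases he with rfl | rfl <;> push_cast <;> simp [div_neg, neg_div]
  refine arith_false hP (m : ℚ) hm' (δ * (f A : ℤ)) (-(a B2) * (f B2 : ℤ)) (-(a B3) * (f B3 : ℤ))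
    (-ε * (f (Θ o) : ℤ)) (mul_ne_zero (hnz _ hδ) (hne _))
    (mul_ne_zero (by have := hnz _ he2; omega) (hne _))
    (mul_ne_zero (by have := hnz _ he3; omega) (hne _))
    (mul_ne_zero (by have := hnz _ hε; omega) (hne _))
    (by linarith [hdegD o]) (by linarith [hdegD o, hdega]) h4P ?_ ?_
  all_goals rw [hinvq δ _ hδ, hinvq (-(a B2)) _ (by omega), hinvq (-(a B3)) _ (by omega)]
  · have e : ((m : ℚ) * (1 + (δ : ℚ) / f A + (a B2 : ℚ) / f B2 + (a B3 : ℚ) / f B3) : ℂ) = ((8 * (P : ℚ) * P : ℚ) : ℂ) := by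
      push_cast; exact eY.symm
    have e' : (m : ℚ) * (1 + (δ : ℚ) / f A + (a B2 : ℚ) / f B2 + (a B3 : ℚ) / f B3) = 8 * (P : ℚ) * P :=
      Rat.cast_injective (α := ℂ) (by push_cast; exact eY.symm)
    rw [← e']; push_cast; ring
  · have e' : (m : ℚ) * (1 + (δ : ℚ) / f A - (a B2 : ℚ) / f B2 - (a B3 : ℚ) / f B3 + 8 * (ε : ℚ) / T) =
        8 * (P : ℚ) * P :=
      Rat.cast_injective (α := ℂ) (by push_cast; exact eX.symm)
    rw [← e', show (8 : ℚ) / ((-ε * (f (Θ o) : ℤ) : ℤ) : ℚ) = 8 * ((1 : ℚ) / ((-ε * (f (Θ o) : ℤ) : ℤ) : ℚ)) by ring,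
      hinvq (-ε) _ (by omega)]
    push_cast
    ring

end H79.DihCore
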