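import Cfsg.Agent.H79Linear
import Cfsg.Agent.H79Derived

/-! Derived length of `p`-groups of linear maps over finite fields of other characteristic. -/

set_option autoImplicit false

namespace H79

open Module

universe u v w

variable {F : Type w} [Field F] [Fintype F] {p : ℕ} [Fact p.Prime]

theorem derivedSeries_apply_finite_field (hpq : ¬ p ∣ Fintype.card F) :
    ∀ (n : ℕ) (V : Type v) [AddCommGroup V] [Module F V] [FiniteDimensional F V], finrank F V = n →
      ∀ (P : Type u) [Group P] [Finite P], IsPGroup p P → ∀ (ρ : P →* Module.End F V) (k : ℕ),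
        n < orderOf (Fintype.card F : ZMod p) * p ^ k → ∀ g ∈ derivedSeries P k, ρ g = 1 := by
  have hp := (Fact.out : p.Prime)
  have hpF : (p : F) ≠ 0 := by
    intro h
    obtain ⟨c, hc⟩ := CharP.exists F
    obtain ⟨i, hcp, hi⟩ := FiniteField.card F c
    have h2 : c ∣ p := (CharP.cast_eq_zero_iff F c p).1 h
    have h3 := (Nat.prime_dvd_prime_iff_eq hcp hp).1 h2
    subst h3
    exact hpq (hi ▸ dvd_pow_self c i.ne_zero)
  intro n
  induction n using Nat.strong_induction_on with
  | _ n ih =>
    intro V _ _ _ hn P _ _ hP ρ k hk g hg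
    classical
    by_cases htriv : ∀ x, ρ x = 1
    · exact htriv g
    by_cases hred : ∃ W : Submodule F V, W ≠ ⊥ ∧ W ≠ ⊤ ∧ ∀ g, ∀ v ∈ W, ρ g v ∈ W
    · obtain ⟨W, hWb, hWt, hWinv⟩ := hred
      obtain ⟨W', hc, hW'inv⟩ := exists_invariant_compl (by
        obtain ⟨e, he⟩ := IsPGroup.iff_card.1 hP
        rw [he, Nat.cast_pow]
        exact pow_ne_zero e hpF) ρ W hWinv
      have hW't : W' ≠ ⊤ := fun h => hWb (by simpa [h] using hc.inf_eq_bot)
      have hlt : finrank F W < n := hn ▸ Submodule.finrank_lt hWt
      have hlt' : finrank F W' < n := hn ▸ Submodule.finrank_lt hW't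
      have h1 := ih _ hlt W rfl P hP (restrictEndHom ρ W hWinv) _ (hlt.trans hk) g hg
      have h2 := ih _ hlt' W' rfl P hP (restrictEndHom ρ W' hW'inv) _ (hlt'.trans hk) g hg
      ext v
      obtain ⟨a, ha, b, hb, rfl⟩ := Submodule.mem_sup.1 (hc.sup_eq_top ▸ Submodule.mem_top (x := v))
      have e1 := congrArg Subtype.val (LinearMap.congr_fun h1 ⟨a, ha⟩)
      have e2 := congrArg Subtype.val (LinearMap.congr_fun h2 ⟨b, hb⟩)
      simp only [restrictEndHom_coe, Module.End.one_apply] at e1 e2
      simp [e1, e2]
    simp only [not_forall] at htriv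
    obtain ⟨z, hz1, hz⟩ := exists_central_image hP ρ htriv
    obtain ⟨s, hs⟩ : ∃ s, orderOf (ρ z) = p ^ (s + 1) := by
      obtain ⟨e, he⟩ := IsPGroup.iff_orderOf.1 hP z
      obtain ⟨j, -, hj⟩ := (Nat.dvd_prime_pow hp).1 (he ▸ orderOf_map_dvd ρ z)
      rcases j with _ | s
      · rw [pow_zero, orderOf_eq_one_iff] at hj; exact absurd hj hz1
      · exact ⟨s, hj⟩
    set a := ρ z ^ p ^ s with ha
    have haord : orderOf a = p := by
      rw [ha, orderOf_pow' _ (pow_ne_zero s hp.ne_zero), hs,
        Nat.gcd_eq_right (pow_dvd_pow p s.le_succ), pow_succ, Nat.mul_div_cancel_left _ (pow_pos hp.pos s)]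
    have hacomm : ∀ x, Commute a (ρ x) := fun x =>
      Commute.pow_left (show Commute (ρ z) (ρ x) by
        show ρ z * ρ x = ρ x * ρ z
        rw [← map_mul, ← map_mul, hz]) _
    set A := Algebra.adjoin F ({a} : Set (Module.End F V)) with hA
    have hLcomm : ∀ l ∈ A, ∀ x, Commute l (ρ x) := by
      intro l hl x
      induction hl using Algebra.adjoin_induction with
      | mem y hy => rw [Set.mem_singleton_iff.1 hy]; exact hacomm x
      | algebraMap r => exact Algebra.commute_algebraMap_left r _
      | add y y' _ _ h h' => exact Commute.add_left h h'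
      | mul y y' _ _ h h' => exact Commute.mul_left h h'
    let _ : CommRing A := Algebra.adjoinCommRingOfComm F (by
      intro x hx y hy
      rw [Set.mem_singleton_iff] at hx hy
      rw [hx, hy])
    have hinj : ∀ l : A, l ≠ 0 → Function.Injective ⇑(l : Module.End F V) := by
      intro l hl
      rw [← LinearMap.ker_eq_bot]
      by_contra hker
      refine hred ⟨_, hker, ?_, ?_⟩
      · intro htop
        exact hl (Subtype.ext (LinearMap.ker_eq_top.1 htop))
      · intro x v hv
        rw [LinearMap.mem_ker] at hv ⊢
        rw [← Module.End.mul_apply, (hLcomm l l.2 x).eq, Module.End.mul_apply, hv, map_zero]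
    have : Nontrivial V := by
      by_contra hV
      rw [not_nontrivial_iff_subsingleton] at hV
      exact hz1 (LinearMap.ext fun v => Subsingleton.elim _ _)
    have : Nontrivial A := ⟨⟨0, 1, fun h => by
      obtain ⟨v, hv⟩ := exists_ne (0 : V)
      have := LinearMap.congr_fun (congrArg Subtype.val h) v
      exact hv (by simpa using this.symm)⟩⟩
    have : IsDomain A := by
      refine @NoZeroDivisors.to_isDomain _ _ _ ⟨fun {x y} hxy => ?_⟩
      by_contra hne
      rw [not_or] at hne
      obtain ⟨v, hv⟩ := exists_ne (0 : V)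
      have h0 := LinearMap.congr_fun (congrArg Subtype.val hxy) v
      simp only [Subalgebra.coe_mul, Module.End.mul_apply, ZeroMemClass.coe_zero, LinearMap.zero_apply] at h0
      exact hv ((hinj y hne.2) ((hinj x hne.1) (by rw [h0, map_zero, map_zero])))
    have : Finite V := Module.finite_of_finite F
    have : Finite A := Finite.of_injective (fun l : A => ((l : Module.End F V) : V → V))
      (DFunLike.coe_injective.comp Subtype.val_injective)
    let _ : Field A := (Finite.isField_of_domain A).toField
    have : Module.Finite F A := Module.Finite.of_finite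
    have : Module.Finite A V := Module.Finite.of_finite
    -- `e` divides the degree of `A`
    let a' : A := ⟨a, Algebra.self_mem_adjoin_singleton F a⟩
    have ha'ord : orderOf a' = p := by
      rw [← haord]
      exact (orderOf_injective A.val.toMonoidHom Subtype.val_injective a').symm
    have hpow : (Fintype.card F : ZMod p) ^ finrank F A = 1 := by
      let _ := Fintype.ofFinite A
      have hc : Fintype.card A = Fintype.card F ^ finrank F A := Module.card_eq_pow_finrank
      have hne : a' ≠ 0 := by
        intro h
        have hcontra := pow_orderOf_eq_one a'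
        rw [ha'ord, h, zero_pow hp.ne_zero] at hcontra
        exact zero_ne_one hcontra
      have hd : p ∣ Fintype.card A - 1 := ha'ord ▸ orderOf_dvd_of_pow_eq_one (FiniteField.pow_card_sub_one_eq_one a' hne)
      have h1 : ((Fintype.card A : ℕ) : ZMod p) = 1 := by
        rw [← Nat.sub_add_cancel (Fintype.card_pos (α := A)), Nat.cast_add, (CharP.cast_eq_zero_iff (ZMod p) p _).2 hd]
        simp
      rwa [hc, Nat.cast_pow] at h1
    have hf : orderOf (Fintype.card F : ZMod p) ≤ finrank F A :=
      Nat.le_of_dvd finrank_pos (orderOf_dvd_of_pow_eq_one hpow)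
    have hmn : finrank F A * finrank A V = n := hn ▸ Module.finrank_mul_finrank F A V
    have hm : finrank A V < p ^ k := by
      have h1 : orderOf (Fintype.card F : ZMod p) * finrank A V ≤ n := hmn ▸ Nat.mul_le_mul_right _ hf
      exact Nat.lt_of_mul_lt_mul_left (h1.trans_lt hk)
    let σ : P →* Module.End A V :=
      { toFun := fun x =>
          { toFun := ρ x
            map_add' := map_add _
            map_smul' := fun l v => by
              show ρ x ((l : Module.End F V) v) = (l : Module.End F V) (ρ x v)
              rw [← Module.End.mul_apply, ← (hLcomm l l.2 x).eq, Module.End.mul_apply] }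
        map_one' := by ext v; simp
        map_mul' := fun x y => by ext v; simp }
    have hpA : (p : A) ≠ 0 := by
      rw [← map_natCast (algebraMap F A)]
      exact (map_ne_zero_iff _ (algebraMap F A).injective).2 hpF
    have := derivedSeries_apply_of_natCast_ne_zero (V := V) hpA hP σ k hm g hg
    ext v
    exact LinearMap.congr_fun this v

/-- The induced linear action of a regular wreath product. -/
def wreathEnd {W : Type u} {Q : Type*} [Group W] [Group Q] {V : Type v} [AddCommGroup V] [Module F V]
    (f : W →* Module.End F V) : W ≀ᵣ Q →* Module.End F (Q → V) where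
  toFun w :=
    { toFun := fun v x => f (w.left x) (v (w.right⁻¹ * x))
      map_add' := fun u v => funext fun x => map_add _ _ _
      map_smul' := fun c v => funext fun x => map_smul _ _ _ }
  map_one' := by
    refine LinearMap.ext fun v => funext fun x => ?_
    show f ((1 : W ≀ᵣ Q).left x) (v ((1 : W ≀ᵣ Q).right⁻¹ * x)) = v x
    simp only [RegularWreathProduct.one_left, RegularWreathProduct.one_right, Pi.one_apply, map_one,
      Module.End.one_apply, inv_one, one_mul]
  map_mul' a b := by
    refine LinearMap.ext fun v => funext fun x => ?_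
    show f ((a * b).left x) (v ((a * b).right⁻¹ * x))
      = f (a.left x) (f (b.left (a.right⁻¹ * x)) (v (b.right⁻¹ * (a.right⁻¹ * x))))
    simp only [RegularWreathProduct.mul_left, RegularWreathProduct.mul_right, Pi.mul_apply, map_mul,
      Module.End.mul_apply, mul_inv_rev, mul_assoc]

@[simp] theorem wreathEnd_apply {W : Type u} {Q : Type*} [Group W] [Group Q] {V : Type v} [AddCommGroup V]
    [Module F V] (f : W →* Module.End F V) (w : W ≀ᵣ Q) (v : Q → V) (x : Q) :
    wreathEnd f w v x = f (w.left x) (v (w.right⁻¹ * x)) := rfl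

theorem exists_pgroup_linear_derived_ne_bot (e : ℕ) (hpe : p ∣ Fintype.card F ^ e - 1) (he : 0 < e) :
    ∀ j : ℕ, ∃ (W : Type w) (_ : Group W) (_ : Finite W) (V : Type w) (_ : AddCommGroup V) (_ : Module F V)
      (f : W →* Module.End F V), FiniteDimensional F V ∧ finrank F V = e * p ^ j ∧ Function.Injective f ∧
        IsPGroup p W ∧ derivedSeries W j ≠ ⊥ := by
  have hp := (Fact.out : p.Prime)
  intro j
  induction j with
  | zero =>
    have hd : p ∣ Nat.card (GL (Fin e) F) := by
      rw [Matrix.card_GL_field]
      exact (by simpa using hpe : p ∣ Fintype.card F ^ e - Fintype.card F ^ ((⟨0, he⟩ : Fin e) : ℕ)).trans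
        (Finset.dvd_prod_of_mem _ (Finset.mem_univ _))
    obtain ⟨a, ha⟩ := exists_prime_orderOf_dvd_card' p hd
    refine ⟨Subgroup.zpowers a, inferInstance, inferInstance, Fin e → F, inferInstance, inferInstance,
      (Matrix.toLinAlgEquiv' : Matrix (Fin e) (Fin e) F ≃ₐ[F] _).toMonoidHom.comp
        ((Units.coeHom _).comp (Subgroup.zpowers a).subtype), inferInstance, by simp, ?_, ?_, ?_⟩
    · exact (Matrix.toLinAlgEquiv' : Matrix (Fin e) (Fin e) F ≃ₐ[F] _).injective.comp
        (Units.val_injective.comp Subtype.val_injective)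
    · exact IsPGroup.of_card (n := 1) (by rw [Nat.card_zpowers, ha, pow_one])
    · rw [derivedSeries_zero]
      intro h
      have : Nat.card (Subgroup.zpowers a) = 1 := by rw [← Subgroup.card_top, h, Subgroup.card_bot]
      rw [Nat.card_zpowers, ha] at this
      exact hp.ne_one this
  | succ j ih =>
    obtain ⟨W, _, _, V, _, _, f, hV, hrank, hf, hW, hder⟩ := ih
    let Q := Multiplicative (ZMod p)
    have hQ : Nat.card Q = p := by rw [Nat.card_congr Multiplicative.toAdd, Nat.card_zmod]
    have : Nontrivial Q := Finite.one_lt_card_iff_nontrivial.1 (hQ.symm ▸ hp.one_lt)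
    let f' : W ≀ᵣ Q →* Module.End F (Q → V) := wreathEnd f
    refine ⟨W ≀ᵣ Q, inferInstance, inferInstance, Q → V, inferInstance, inferInstance, f', inferInstance, ?_, ?_, ?_,
      derivedSeries_wreath_ne_bot j hder⟩
    · rw [Module.finrank_pi_fintype, Finset.sum_const, Finset.card_univ, hrank, smul_eq_mul, ← Nat.card_eq_fintype_card, hQ]
      ring
    · rw [injective_iff_map_eq_one]
      intro w hw
      obtain ⟨v, hv⟩ : ∃ v : V, v ≠ 0 := by
        have : Nontrivial V := Module.nontrivial_of_finrank_pos (R := F) (hrank ▸ Nat.mul_pos he (pow_pos hp.pos j))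
        exact exists_ne 0
      have hr : w.right = 1 := by
        by_contra hne
        have := congrFun (LinearMap.congr_fun hw (Pi.single 1 v)) 1
        simp [f', Pi.single_apply, inv_eq_one, hne] at this
        exact hv this.symm
      refine RegularWreathProduct.ext (funext fun x => hf (LinearMap.ext fun u => ?_)) hr
      have := congrFun (LinearMap.congr_fun hw (fun _ => u)) x
      simpa [f', hr] using this
    · obtain ⟨m, hm⟩ := IsPGroup.iff_card.1 hW
      exact IsPGroup.of_card (n := m * p + 1) (by rw [RegularWreathProduct.card, hQ, hm, pow_succ, pow_mul])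

end H79
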