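import Mathlib

/-! Groups acting faithfully on an abelian group so that every fixed point of a nontrivial element lies
in a given subgroup of common fixed points: a criterion to be a group of prime-power order. -/

set_option autoImplicit false

namespace H79.FpfMod

variable {W : Type*} [Group W] [Finite W] {V : Type*} [CommGroup V] [Finite V]

/-- If all prime-power-order elements of a finite group `B` lie in `K` then `B ≤ K`. -/
theorem le_of_primary {G : Type*} [Group G] [Finite G] {B K : Subgroup G}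
    (h : ∀ x ∈ B, ∀ l k : ℕ, l.Prime → orderOf x = l ^ k → x ∈ K) : B ≤ K := by
  have hdvd : Nat.card B ∣ Nat.card (B ⊓ K : Subgroup G) := by
    rw [Nat.dvd_iff_prime_pow_dvd_dvd]
    intro l k hl hlk
    haveI := Fact.mk hl
    obtain ⟨S⟩ : Nonempty (Sylow l B) := inferInstance
    have h1 : l ^ k ∣ Nat.card S := by
      rw [Sylow.card_eq_multiplicity]
      exact pow_dvd_pow l ((hl.pow_dvd_iff_le_factorization Nat.card_pos.ne').1 hlk)
    refine h1.trans ?_
    rw [Nat.card_congr (Subgroup.equivMapOfInjective (S : Subgroup B) B.subtype B.subtype_injective).toEquiv]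
    refine Subgroup.card_dvd_of_le ?_
    rintro _ ⟨z, hz, rfl⟩
    obtain ⟨m, hm⟩ := (IsPGroup.iff_orderOf.1 S.isPGroup') ⟨z, hz⟩
    rw [← Subgroup.orderOf_coe, ← Subgroup.orderOf_coe] at hm
    exact ⟨z.2, h _ z.2 l m hl hm⟩
  have := Subgroup.eq_of_le_of_card_ge (inf_le_left : B ⊓ K ≤ B) (Nat.le_of_dvd Nat.card_pos hdvd)
  exact this ▸ inf_le_right

/-- The data: a faithful action with fixed points of nontrivial elements inside `Z`. -/
structure Sys (W : Type*) [Group W] (V : Type*) [CommGroup V] where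
  act : W →* MulAut V
  Z : Subgroup V
  fixZ : ∀ w z, z ∈ Z → act w z = z
  fix : ∀ w, w ≠ 1 → ∀ v, act w v = v → v ∈ Z

variable (S : Sys W V)

omit [Finite W] [Finite V] in
theorem Sys.act_mul (u v : W) (a : V) : S.act (u * v) a = S.act u (S.act v a) := by
  rw [map_mul]; rfl

omit [Finite W] [Finite V] in
/-- The product of an orbit of a nontrivial element lies in `Z`. -/
theorem Sys.orbit_prod {g : W} (hg : g ≠ 1) {n : ℕ} (hn : g ^ n = 1) (a : V) :
    ∏ j ∈ Finset.range n, S.act (g ^ j) a ∈ S.Z := by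
  refine S.fix g hg _ ?_
  rw [map_prod]
  calc ∏ j ∈ Finset.range n, S.act g (S.act (g ^ j) a)
      = ∏ j ∈ Finset.range n, S.act (g ^ (j + 1)) a := by
        refine Finset.prod_congr rfl fun j _ => ?_
        rw [← S.act_mul, ← pow_succ']
    _ = ∏ j ∈ Finset.range n, S.act (g ^ j) a := by
        rcases Nat.eq_zero_or_pos n with rfl | hpos
        · simp
        obtain ⟨m, rfl⟩ : ∃ m, n = m + 1 := ⟨n - 1, by omega⟩
        have e := Finset.prod_range_succ' (fun j => S.act (g ^ j) a) m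
        rw [Finset.prod_range_succ (fun j => S.act (g ^ (j + 1)) a) m, hn]
        simp only [pow_zero] at e
        exact e.symm

omit [Finite W] [Finite V] in
/-- A covering of `W` by cyclic subgroups around an abelian subgroup `L` kills the exponent. -/
theorem Sys.pow_card_mem (L : Subgroup W) [Fintype L] (hL : L ≠ ⊥) (u : W) (r : ℕ) (hr : 1 < r)
    (g : L → W) (hg : ∀ y, g y ≠ 1) (hgr : ∀ y, g y ^ r = 1)
    (τ : ℕ → L → L) (hτ : ∀ j, 0 < j → j < r → Function.Bijective (τ j))
    (hgτ : ∀ j, 0 < j → j < r → ∀ y : L, g y ^ j = (τ j y : W) * u ^ j) (a : V) :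
    a ^ Fintype.card L ∈ S.Z := by
  classical
  obtain ⟨⟨l₀, hl₀⟩, hl₀'⟩ := Subgroup.ne_bot_iff_exists_ne_one.1 hL
  have hl₀1 : l₀ ≠ 1 := fun e => hl₀' (Subtype.ext e)
  have hN : ∀ b : V, ∏ y : L, S.act (y : W) b ∈ S.Z := fun b => by
    refine S.fix l₀ hl₀1 _ ?_
    rw [map_prod]
    exact Fintype.prod_equiv (Equiv.mulLeft (⟨l₀, hl₀⟩ : L)) _ _ fun y => (S.act_mul _ _ _).symm
  obtain ⟨m, rfl⟩ : ∃ m, r = m + 1 := ⟨r - 1, by omega⟩
  have hall : ∏ y : L, ∏ j ∈ Finset.range (m + 1), S.act (g y ^ j) a ∈ S.Z :=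
    S.Z.prod_mem fun y _ => S.orbit_prod (hg y) (hgr y) a
  rw [Finset.prod_comm, Finset.prod_range_succ'] at hall
  have hrest : ∏ j ∈ Finset.range m, ∏ y : L, S.act (g y ^ (j + 1)) a ∈ S.Z := by
    refine S.Z.prod_mem fun j hj => ?_
    have hjr : j + 1 < m + 1 := by have := Finset.mem_range.1 hj; omega
    have e : ∏ y : L, S.act (g y ^ (j + 1)) a = ∏ y : L, S.act (y : W) (S.act (u ^ (j + 1)) a) := by
      refine Fintype.prod_bijective (τ (j + 1)) (hτ _ (by omega) hjr) _ _ fun y => ?_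
      rw [hgτ _ (by omega) hjr, S.act_mul]
    rw [e]; exact hN _
  have h := (S.Z.mul_mem_cancel_left hrest).1 hall
  simpa using h

omit [Finite W] in
/-- A prime power order element of the abelian group killed modulo `Z` by a coprime exponent is in `Z`. -/
theorem Sys.mem_of_pow_coprime {a : V} {n : ℕ} (h : a ^ n ∈ S.Z) (hc : (orderOf a).Coprime n) :
    a ∈ S.Z := by
  obtain ⟨m, hm⟩ := exists_pow_eq_self_of_coprime hc.symm
  rw [← hm]; exact pow_mem h m

/-- No elementary abelian subgroup of order `l²`. -/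
theorem Sys.commute_mem_zpowers (hA : ∀ s : ℕ, s.Prime → ∃ a, a ∉ S.Z ∧ (orderOf a).Coprime s)
    {l : ℕ} (hl : l.Prime) {e f : W} (he : orderOf e = l) (hf : orderOf f = l) (hc : Commute e f) :
    e ∈ Subgroup.zpowers f := by
  by_contra hef
  haveI := Fact.mk hl
  haveI : Fintype (Subgroup.zpowers f) := Fintype.ofFinite _
  obtain ⟨a, ha, hac⟩ := hA l hl
  have hcomm : ∀ y : Subgroup.zpowers f, Commute (y : W) e := fun y => by
    obtain ⟨i, hi⟩ := Subgroup.mem_zpowers_iff.1 y.2
    rw [← hi]; exact (hc.symm).zpow_left i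
  have hfl : Fintype.card (Subgroup.zpowers f) = l := by
    rw [← Nat.card_eq_fintype_card, Nat.card_zpowers, hf]
  have h := S.pow_card_mem (Subgroup.zpowers f) (by
      rw [Ne, Subgroup.zpowers_eq_bot]; intro h1; exact hl.ne_one (by rw [← hf, h1, orderOf_one]))
    e l hl.one_lt (fun y => (y : W) * e)
    (fun y h1 => hef (by rw [← inv_eq_of_mul_eq_one_right h1]; exact inv_mem y.2))
    (fun y => by
      rw [(hcomm y).mul_pow, ← he, pow_orderOf_eq_one, mul_one, he]
      have hy : orderOf (y : W) ∣ l := by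
        rw [Subgroup.orderOf_coe]; exact orderOf_dvd_natCard y |>.trans (by rw [Nat.card_zpowers, hf])
      exact orderOf_dvd_iff_pow_eq_one.1 hy)
    (fun j y => y ^ j) (fun j hj hjl => (powCoprime (by
      rw [Nat.card_zpowers, hf]
      exact (Nat.Prime.coprime_iff_not_dvd hl).2 (Nat.not_dvd_of_pos_of_lt hj hjl))).bijective)
    (fun j _ _ y => by rw [(hcomm y).mul_pow, Subgroup.coe_pow]) a
  rw [hfl] at h
  exact ha (S.mem_of_pow_coprime h hac)

/-- No non-abelian subgroup of order a product of two primes. -/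
theorem Sys.commute_of_normalizes (hA : ∀ s : ℕ, s.Prime → ∃ a, a ∉ S.Z ∧ (orderOf a).Coprime s)
    {s r : ℕ} (hs : s.Prime) (hr : r.Prime) {l u : W} (hl : orderOf l = s) (hu : orderOf u = r)
    (hn : u * l * u⁻¹ ∈ Subgroup.zpowers l) : Commute u l := by
  by_contra hnc
  haveI := Fact.mk hs
  haveI := Fact.mk hr
  set L := Subgroup.zpowers l
  haveI : Fintype L := Fintype.ofFinite _
  have hconj : ∀ j : ℕ, ∀ y ∈ L, u ^ j * y * (u ^ j)⁻¹ ∈ L := by
    intro j
    induction j with
    | zero => intro y hy; simpa using hy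
    | succ j ih =>
      intro y hy
      obtain ⟨i, rfl⟩ := Subgroup.mem_zpowers_iff.1 hy
      rw [pow_succ, show u ^ j * u * l ^ i * (u ^ j * u)⁻¹ = u ^ j * (u * l ^ i * u⁻¹) * (u ^ j)⁻¹ by group,
        ← conj_zpow]
      exact ih _ (zpow_mem hn i)
  have hL : L ≠ ⊥ := by
    rw [Ne, Subgroup.zpowers_eq_bot]; intro h1; exact hs.ne_one (by rw [← hl, h1, orderOf_one])
  have hfl : Fintype.card L = s := by
    rw [← Nat.card_eq_fintype_card, Nat.card_zpowers, hl]
  have hu1 : u ≠ 1 := fun h1 => hr.ne_one (by rw [← hu, h1, orderOf_one])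
  obtain ⟨a, ha, hac⟩ := hA s hs
  let τ : ℕ → L → L := fun j y => ⟨(y : W) * (u ^ j * (y : W)⁻¹ * (u ^ j)⁻¹),
    L.mul_mem y.2 (hconj j _ (inv_mem y.2))⟩
  have hτ : ∀ j, 0 < j → j < r → Function.Bijective (τ j) := by
    intro j hj hjr
    refine Finite.injective_iff_bijective.1 fun y z hyz => ?_
    have h0 : (y : W) * (u ^ j * (y : W)⁻¹ * (u ^ j)⁻¹) = (z : W) * (u ^ j * (z : W)⁻¹ * (u ^ j)⁻¹) :=
      congrArg Subtype.val hyz
    by_contra hne
    have hz : z⁻¹ * y ≠ 1 := fun h => hne (inv_mul_eq_one.1 h).symm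
    have hcw : Commute (u ^ j) ((z⁻¹ * y : L) : W) := by
      rw [Subgroup.coe_mul, Subgroup.coe_inv]
      show u ^ j * ((z : W)⁻¹ * (y : W)) = (z : W)⁻¹ * (y : W) * u ^ j
      calc u ^ j * ((z : W)⁻¹ * (y : W))
          = (z : W)⁻¹ * ((z : W) * (u ^ j * (z : W)⁻¹ * (u ^ j)⁻¹)) * u ^ j * (y : W) := by group
        _ = (z : W)⁻¹ * ((y : W) * (u ^ j * (y : W)⁻¹ * (u ^ j)⁻¹)) * u ^ j * (y : W) := by rw [h0]
        _ = (z : W)⁻¹ * (y : W) * u ^ j := by group
    have hcop : (orderOf u).Coprime j := by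
      rw [hu]; exact (Nat.Prime.coprime_iff_not_dvd hr).2 (Nat.not_dvd_of_pos_of_lt hj hjr)
    obtain ⟨m, hm⟩ := exists_pow_eq_self_of_coprime hcop.symm
    have h1 : Commute u ((z⁻¹ * y : L) : W) := hm ▸ hcw.pow_left m
    have htop := zpowers_eq_top_of_prime_card (G := L) (by rw [Nat.card_zpowers, hl]) (g := z⁻¹ * y) hz
    obtain ⟨i, hi⟩ := Subgroup.mem_zpowers_iff.1
      (htop.symm ▸ Subgroup.mem_top (⟨l, Subgroup.mem_zpowers l⟩ : L))
    have hi' := congrArg (fun v : L => (v : W)) hi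
    simp only [Subgroup.coe_zpow] at hi'
    exact hnc (hi' ▸ h1.zpow_right i)
  have h := S.pow_card_mem L hL u r hr.one_lt (fun y => (y : W) * u * (y : W)⁻¹)
    (fun y h1 => hu1 (conj_eq_one_iff.1 h1))
    (fun y => by rw [conj_pow, ← hu, pow_orderOf_eq_one, mul_one, mul_inv_cancel])
    τ hτ
    (fun j _ _ y => by rw [conj_pow]; simp only [τ]; group) a
  rw [hfl] at h
  exact ha (S.mem_of_pow_coprime h hac)

/-- The criterion. -/
theorem Sys.isPGroup (hA : ∀ s : ℕ, s.Prime → ∃ a, a ∉ S.Z ∧ (orderOf a).Coprime s)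
    {r : ℕ} [hr : Fact r.Prime] (R : Sylow r W) (hR : (R : Subgroup W) ≠ ⊥)
    {x : V} (hx : x ∉ S.Z) (hxo : ∃ k, x ^ r ^ k = 1)
    (hxR : ∀ u ∈ (R : Subgroup W), S.act u x * x⁻¹ ∈ S.Z) : IsPGroup r W := by
  classical
  -- the Sylow subgroup is abelian
  have hab : ∀ u ∈ (R : Subgroup W), ∀ v ∈ (R : Subgroup W), u * v = v * u := by
    intro u hu v hv
    have key : ∀ a b, a ∈ (R : Subgroup W) → b ∈ (R : Subgroup W) →
        S.act (a * b) x = x * ((S.act a x * x⁻¹) * (S.act b x * x⁻¹)) := by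
      intro a b ha hb
      conv_lhs => rw [S.act_mul, ← mul_inv_cancel_comm x (S.act b x)]
      rw [mul_assoc x, map_mul, S.fixZ a _ (hxR b hb)]
      rw [← mul_assoc x, mul_comm (S.act a x) x⁻¹, ← mul_assoc x, mul_inv_cancel, one_mul]
    have h : S.act (u * v) x = S.act (v * u) x := by
      rw [key u v hu hv, key v u hv hu, mul_comm (S.act u x * x⁻¹)]
    by_contra hne
    refine hx (S.fix ((v * u)⁻¹ * (u * v)) ?_ x ?_)
    · intro h1
      exact hne (inv_mul_eq_one.1 h1).symm
    · rw [S.act_mul, h, ← S.act_mul, inv_mul_cancel, map_one]; rfl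
  -- a coprime element commuting with a nontrivial element of `R` is trivial
  have hcen : ∀ u ∈ (R : Subgroup W), u ≠ 1 → ∀ t, Commute t u → (orderOf t).Coprime r → t = 1 := by
    intro u hu hu1 t htu htr
    by_contra ht
    set z := S.act u x * x⁻¹ with hz
    have hzZ := hxR u hu
    have hux : S.act u x = z * x := (inv_mul_cancel_right _ _).symm
    have h1 : S.act u (S.act t x) = z * S.act t x := by
      rw [← S.act_mul, ← htu.eq, S.act_mul, hux, map_mul, S.fixZ t z hzZ]
    set w := S.act t x * x⁻¹ with hw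
    have hwZ : w ∈ S.Z := S.fix u hu1 w (by
      rw [hw, map_mul, map_inv, h1, hux, mul_inv_rev, ← mul_assoc]
      rw [mul_comm z (S.act t x), mul_assoc (S.act t x), mul_comm z x⁻¹, ← mul_assoc,
        mul_assoc (S.act t x * x⁻¹), mul_inv_cancel, mul_one])
    have hpw : ∀ k : ℕ, S.act (t ^ k) x = w ^ k * x := by
      intro k
      induction k with
      | zero => rw [pow_zero, map_one, pow_zero, one_mul]; rfl
      | succ k ih =>
        rw [pow_succ', S.act_mul, ih, map_mul, map_pow, S.fixZ t w hwZ, pow_succ, mul_assoc, hw,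
          inv_mul_cancel_right]
    have h2 := hpw (orderOf t)
    rw [pow_orderOf_eq_one, map_one, eq_comm, MulAut.one_apply, mul_eq_right] at h2
    obtain ⟨k, hk⟩ := hxo
    have h3 : w ^ r ^ k = 1 := by
      rw [hw, mul_pow, ← map_pow, inv_pow, hk, map_one, inv_one, mul_one]
    have h4 : orderOf w ∣ Nat.gcd (orderOf t) (r ^ k) :=
      Nat.dvd_gcd (orderOf_dvd_of_pow_eq_one h2) (orderOf_dvd_of_pow_eq_one h3)
    rw [Nat.Coprime.gcd_eq_one (Nat.Coprime.pow_right k htr), Nat.dvd_one, orderOf_eq_one_iff, hw,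
      mul_inv_eq_one] at h4
    exact hx (S.fix t ht x h4)
  -- an element of order `r` in `R`
  obtain ⟨u₀, hu₀R, hu₀⟩ : ∃ u ∈ (R : Subgroup W), orderOf u = r := by
    obtain ⟨k, hk⟩ := IsPGroup.iff_card.1 R.isPGroup'
    have hk0 : k ≠ 0 := by
      rintro rfl
      exact hR (Subgroup.card_eq_one.1 (by simpa using hk))
    obtain ⟨u, hu⟩ := exists_prime_orderOf_dvd_card' (G := (R : Subgroup W)) r
      (hk ▸ dvd_pow_self r hk0)
    exact ⟨(u : W), u.2, by rw [Subgroup.orderOf_coe, hu]⟩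
  have hu₀1 : u₀ ≠ 1 := fun h => hr.out.ne_one (by rw [← hu₀, h, orderOf_one])
  -- Burnside's condition
  have hB : Subgroup.normalizer ((R : Subgroup W) : Set W) ≤
      Subgroup.centralizer ((R : Subgroup W) : Set W) := by
    refine le_of_primary fun t ht l k hl hlk => ?_
    by_cases hlr : l = r
    · subst hlr
      have hp : IsPGroup l (Subgroup.zpowers t) := IsPGroup.of_card (n := k) (by rw [Nat.card_zpowers, hlk])
      have h1 : IsPGroup l ((R : Subgroup W) ⊔ Subgroup.zpowers t : Subgroup W) :=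
        R.isPGroup'.to_sup_of_normal_left' hp (Subgroup.zpowers_le.2 ht)
      have h2 := R.is_maximal' h1 le_sup_left
      have htR : t ∈ (R : Subgroup W) := by
        rw [← h2]; exact Subgroup.mem_sup_right (Subgroup.mem_zpowers t)
      exact Subgroup.mem_centralizer_iff.2 fun y hy => hab y hy t htR
    · by_cases ht1 : t = 1
      · rw [ht1]; exact one_mem _
      exfalso
      have hk0 : k ≠ 0 := by
        rintro rfl
        exact ht1 (orderOf_eq_one_iff.1 (by rw [hlk, pow_zero]))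
      have hs : orderOf (t ^ l ^ (k - 1)) = l := by
        rw [orderOf_pow, hlk, Nat.gcd_eq_right (pow_dvd_pow l (Nat.sub_le k 1)),
          Nat.pow_div (Nat.sub_le k 1) hl.pos, Nat.sub_sub_self (Nat.one_le_iff_ne_zero.2 hk0), pow_one]
      set t' := t ^ l ^ (k - 1)
      have ht' : t' ∈ Subgroup.normalizer ((R : Subgroup W) : Set W) := pow_mem ht _
      have hconj : t' * u₀ * t'⁻¹ ∈ (R : Subgroup W) := (Subgroup.mem_normalizer_iff.1 ht' u₀).1 hu₀R
      have hord : orderOf (t' * u₀ * t'⁻¹) = r := by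
        rw [← hu₀]; exact orderOf_injective (MulAut.conj t').toMonoidHom (MulAut.conj t').injective u₀
      have hin := S.commute_mem_zpowers hA hr.out hord hu₀ (hab _ hconj _ hu₀R)
      have hco := S.commute_of_normalizes hA hr.out hl hu₀ hs hin
      have := hcen u₀ hu₀R hu₀1 t' hco (by rw [hs]; exact (Nat.coprime_primes hl hr.out).2 hlr)
      rw [this, orderOf_one] at hs
      exact hl.ne_one hs.symm
  -- the complement is trivial
  set K := (MonoidHom.transferSylow R hB).ker with hK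
  have hcompl := MonoidHom.ker_transferSylow_isComplement' R hB
  have hKcard : Nat.card K * Nat.card R = Nat.card W := hcompl.card_mul_card
  have hKcop : (Nat.card K).Coprime r := by
    have h1 := R.not_dvd_index
    rw [show (R : Subgroup W).index = Nat.card K from hcompl.index_eq_card] at h1
    exact (Nat.Prime.coprime_iff_not_dvd hr.out).2 h1 |>.symm
  suffices hK1 : Nat.card K = 1 by
    rw [hK1, one_mul] at hKcard
    obtain ⟨k, hk⟩ := IsPGroup.iff_card.1 R.isPGroup'
    exact IsPGroup.of_card (hKcard ▸ hk)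
  by_contra hK1
  obtain ⟨s, hs, hsK⟩ := Nat.exists_prime_and_dvd hK1
  haveI := Fact.mk hs
  have hsr : s ≠ r := fun h => (Nat.Prime.coprime_iff_not_dvd hr.out).1 hKcop.symm (h ▸ hsK)
  obtain ⟨Q⟩ : Nonempty (Sylow s K) := inferInstance
  set Q' := (Q : Subgroup K).map K.subtype with hQ'
  set N := Subgroup.normalizer (Q' : Set W)
  have hNK : N ⊔ K = ⊤ := Sylow.normalizer_sup_eq_top Q
  have hrN : r ∣ Nat.card N := by
    have h1 : Nat.card W ∣ Nat.card N * Nat.card K := by
      have h2 : (K.relIndex N) * Nat.card K = Nat.card W := by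
        have h3 : K.relIndex (N ⊔ K) = K.relIndex N := Subgroup.relIndex_sup_right N K
        rw [hNK, Subgroup.relIndex_top_right] at h3
        rw [← h3, mul_comm]; exact K.card_mul_index
      rw [← h2]
      exact Nat.mul_dvd_mul_right (Subgroup.index_dvd_card _) _
    have h5 : r ∣ Nat.card N * Nat.card K :=
      ((hu₀ ▸ orderOf_dvd_natCard u₀ : r ∣ Nat.card W)).trans h1
    exact (hr.out.dvd_mul.1 h5).resolve_right ((Nat.Prime.coprime_iff_not_dvd hr.out).1 hKcop.symm)
  obtain ⟨u, hu⟩ := exists_prime_orderOf_dvd_card' (G := N) r hrN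
  rw [← Subgroup.orderOf_coe] at hu
  -- an element of order `s` central in `Q'`
  have hQp : IsPGroup s Q' := IsPGroup.map Q.isPGroup' _
  have hQ1 : Nontrivial Q' := by
    rw [Subgroup.nontrivial_iff_ne_bot, hQ', Ne,
      Subgroup.map_eq_bot_iff_of_injective _ K.subtype_injective]
    exact Q.ne_bot_of_dvd_card hsK
  haveI := hQp.center_nontrivial
  obtain ⟨l, hl⟩ : ∃ l : Subgroup.center Q', orderOf l = s := by
    have hp : IsPGroup s (Subgroup.center Q') := hQp.to_subgroup _
    obtain ⟨k, hk⟩ := IsPGroup.iff_card.1 hp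
    have hk0 : k ≠ 0 := by
      rintro rfl
      rw [pow_zero] at hk
      exact absurd hk (Finite.one_lt_card).ne'
    exact exists_prime_orderOf_dvd_card' s (hk ▸ dvd_pow_self s hk0)
  set l' : W := ((l : Q') : W)
  have hl' : orderOf l' = s := by rw [Subgroup.orderOf_coe, Subgroup.orderOf_coe, hl]
  have hlQ : ∀ q ∈ Q', Commute l' q := fun q hq =>
    (congrArg Subtype.val ((Subgroup.mem_center_iff.1 l.2) ⟨q, hq⟩)).symm
  have hmem : (u : W) * l' * (u : W)⁻¹ ∈ Q' :=
    (Subgroup.mem_normalizer_iff.1 u.2 l').1 (l : Q').2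
  have hin := S.commute_mem_zpowers hA hs
    (e := (u : W) * l' * (u : W)⁻¹) (f := l')
    (by rw [← hl']; exact orderOf_injective (MulAut.conj (u : W)).toMonoidHom (MulAut.conj (u : W)).injective l') hl' (hlQ _ hmem).symm
  have hco : Commute (u : W) l' := S.commute_of_normalizes hA hs hr.out hl' hu hin
  -- move `u` into `R`
  have hp : IsPGroup r (Subgroup.zpowers (u : W)) :=
    IsPGroup.of_card (n := 1) (by rw [Nat.card_zpowers, hu, pow_one])
  obtain ⟨P, hP⟩ := hp.exists_le_sylow
  obtain ⟨g, hg⟩ := MulAction.exists_smul_eq W P R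
  have huR : g * (u : W) * g⁻¹ ∈ (R : Subgroup W) := by
    rw [← hg, Sylow.coe_subgroup_smul]
    exact Subgroup.smul_mem_pointwise_smul _ (MulAut.conj g) _ (hP (Subgroup.mem_zpowers _))
  have hordu : orderOf (g * (u : W) * g⁻¹) = r := by
    rw [← hu]; exact orderOf_injective (MulAut.conj g).toMonoidHom (MulAut.conj g).injective _
  have h6 := hcen _ huR (fun h => hr.out.ne_one (by rw [← hordu, h, orderOf_one]))
    (g * l' * g⁻¹) (hco.symm.map (MulAut.conj g).toMonoidHom) (by
      rw [show orderOf (g * l' * g⁻¹) = s from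
        hl' ▸ orderOf_injective (MulAut.conj g).toMonoidHom (MulAut.conj g).injective l']
      exact (Nat.coprime_primes hs hr.out).2 hsr)
  rw [conj_eq_one_iff] at h6
  rw [h6, orderOf_one] at hl'
  exact hs.ne_one hl'.symm

end H79.FpfMod
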