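import Mathlib

/-! Commutative rings of endomorphisms that are regular on an orbit: semilinear structures. -/

set_option autoImplicit false

namespace H79.LinField

variable {V : Type*} [AddCommGroup V] [Finite V] {p : ℕ} [hp : Fact p.Prime]

/-- The endomorphism attached to an element of an acting group. -/
abbrev io {S : Type*} [Group S] [DistribMulAction S V] (s : S) : AddMonoid.End V :=
  DistribMulAction.toAddMonoidEnd S V s

/-- A commutative subring regular on a vector is a field whose normaliser is semilinear. -/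
theorem semilinear (hexp : ∀ v : V, p • v = 0) {n : ℕ} (hn : n ≠ 0) (hcard : Nat.card V = p ^ n)
    (R : Subring (AddMonoid.End V)) (hcomm : ∀ a ∈ R, ∀ b ∈ R, a * b = b * a)
    (hinj : ∀ a ∈ R, a ≠ 0 → Function.Injective a) (v0 : V)
    (hsurj : ∀ v : V, ∃ l ∈ R, (l : AddMonoid.End V) v0 = v) :
    ∃ e : V ≃+ GaloisField p n, (∀ l ∈ R, ∀ v, e (l v) = e (l v0) * e v) ∧
      ∀ {S : Type _} [Group S] [DistribMulAction S V] (s : S),
        (∀ l ∈ R, io (V := V) s * l * io (V := V) s⁻¹ ∈ R) →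
        (∀ l ∈ R, io (V := V) s⁻¹ * l * io (V := V) s ∈ R) →
        ∃ (a : (GaloisField p n)ˣ) (φ : GaloisField p n ≃+* GaloisField p n),
          (∀ v, e (s • v) = (a : GaloisField p n) * φ (e v)) ∧
          ∀ l ∈ R, io (V := V) s * l * io (V := V) s⁻¹ = l ↔ φ (e (l v0)) = e (l v0) := by
  classical
  have hv0 : v0 ≠ 0 := by
    rintro rfl
    have h1 : Nat.card V = 1 := Nat.card_eq_one_iff_unique.2
      ⟨⟨fun a b => by
        obtain ⟨l, -, rfl⟩ := hsurj a
        obtain ⟨m, -, rfl⟩ := hsurj b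
        rw [map_zero, map_zero]⟩, ⟨0⟩⟩
    rw [hcard, Nat.pow_eq_one] at h1
    exact h1.elim hp.out.ne_one hn
  haveI : Finite (AddMonoid.End V) :=
    Finite.of_injective (fun f : AddMonoid.End V => (f : V → V)) DFunLike.coe_injective
  letI : CommRing R := { (inferInstance : Ring R) with
    mul_comm := fun a b => Subtype.ext (hcomm a a.2 b b.2) }
  haveI : Nontrivial R := ⟨⟨0, 1, fun h => hv0 (DFunLike.congr_fun (congrArg Subtype.val h) v0).symm⟩⟩
  haveI : NoZeroDivisors R := ⟨fun {a b} hab => by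
    by_contra hne
    push Not at hne
    refine hne.2 (Subtype.ext (DFunLike.ext _ _ fun v => hinj a a.2 (fun h => hne.1 (Subtype.ext h)) ?_))
    show (a : AddMonoid.End V) ((b : AddMonoid.End V) v) = (a : AddMonoid.End V) 0
    rw [map_zero]
    exact DFunLike.congr_fun (congrArg Subtype.val hab) v⟩
  haveI : IsDomain R := NoZeroDivisors.to_isDomain R
  letI : Field R := (Finite.isDomain_to_isField R).toField
  haveI : Fintype R := Fintype.ofFinite R
  haveI : Fintype (GaloisField p n) := Fintype.ofFinite _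
  let ev : R →+ V := AddMonoidHom.mk' (fun l => (l : AddMonoid.End V) v0) (fun a b => rfl)
  have hevi : Function.Injective ev := by
    rw [injective_iff_map_eq_zero]
    intro l hl
    by_contra hne
    refine hv0 (hinj l l.2 (fun h => hne (Subtype.ext h)) ?_)
    rw [map_zero]; exact hl
  let E : R ≃+ V := AddEquiv.ofBijective ev ⟨hevi, fun v => by
    obtain ⟨l, hl, h⟩ := hsurj v; exact ⟨⟨l, hl⟩, h⟩⟩
  have hRc : Fintype.card R = Fintype.card (GaloisField p n) := by
    rw [← Nat.card_eq_fintype_card, ← Nat.card_eq_fintype_card, GaloisField.card p n hn, ← hcard]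
    exact Nat.card_congr E.toEquiv
  let θ : R ≃+* GaloisField p n := FiniteField.ringEquivOfCardEq hRc
  let e : V ≃+ GaloisField p n := E.symm.trans θ.toAddEquiv
  have heE : ∀ l : R, e ((l : AddMonoid.End V) v0) = θ l := fun l => by
    show θ (E.symm (E l)) = θ l
    rw [E.symm_apply_apply]
  have hmul : ∀ l ∈ R, ∀ v, e (l v) = e (l v0) * e v := by
    intro l hl v
    obtain ⟨m, hm, rfl⟩ := hsurj v
    rw [show l (m v0) = ((⟨l, hl⟩ * ⟨m, hm⟩ : R) : AddMonoid.End V) v0 from rfl,
      heE, show m v0 = ((⟨m, hm⟩ : R) : AddMonoid.End V) v0 from rfl, heE,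
      show l v0 = ((⟨l, hl⟩ : R) : AddMonoid.End V) v0 from rfl, heE, map_mul]
  refine ⟨e, hmul, fun {S} _ _ s h1 h2 => ?_⟩
  have hio : ∀ t : S, ∀ v : V, io (V := V) t v = t • v := fun _ _ => rfl
  let c : R ≃+* R :=
    { toFun := fun l => ⟨_, h1 l l.2⟩
      invFun := fun l => ⟨_, h2 l l.2⟩
      left_inv := fun l => Subtype.ext (DFunLike.ext _ _ fun v => by
        show s⁻¹ • (s • (l : AddMonoid.End V) (s⁻¹ • (s • v))) = (l : AddMonoid.End V) v
        rw [inv_smul_smul, inv_smul_smul])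
      right_inv := fun l => Subtype.ext (DFunLike.ext _ _ fun v => by
        show s • (s⁻¹ • (l : AddMonoid.End V) (s • (s⁻¹ • v))) = (l : AddMonoid.End V) v
        rw [smul_inv_smul, smul_inv_smul])
      map_mul' := fun a b => Subtype.ext (DFunLike.ext _ _ fun v => by
        show s • (a : AddMonoid.End V) ((b : AddMonoid.End V) (s⁻¹ • v)) =
          s • (a : AddMonoid.End V) (s⁻¹ • (s • (b : AddMonoid.End V) (s⁻¹ • v)))
        rw [inv_smul_smul])
      map_add' := fun a b => Subtype.ext (DFunLike.ext _ _ fun v => by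
        show s • ((a : AddMonoid.End V) (s⁻¹ • v) + (b : AddMonoid.End V) (s⁻¹ • v)) =
          s • (a : AddMonoid.End V) (s⁻¹ • v) + s • (b : AddMonoid.End V) (s⁻¹ • v)
        rw [smul_add]) }
  obtain ⟨l₀, hl₀, hl₀v⟩ := hsurj (s • v0)
  have ha : θ ⟨l₀, hl₀⟩ ≠ 0 := by
    intro h
    rw [map_eq_zero_iff θ θ.injective] at h
    have h3 : l₀ v0 = 0 := by rw [show l₀ = 0 from congrArg Subtype.val h]; rfl
    rw [hl₀v, smul_eq_zero_iff_eq] at h3
    exact hv0 h3
  refine ⟨Units.mk0 _ ha, (θ.symm.trans c).trans θ, fun v => ?_, fun l hl => ?_⟩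
  · obtain ⟨m, hm, rfl⟩ := hsurj v
    have e1 : s • m v0 = ((c ⟨m, hm⟩ * ⟨l₀, hl₀⟩ : R) : AddMonoid.End V) v0 := by
      show s • m v0 = (io (V := V) s * m * io (V := V) s⁻¹) (l₀ v0)
      rw [hl₀v]
      show s • m v0 = s • m (s⁻¹ • (s • v0))
      rw [inv_smul_smul]
    rw [e1, heE, map_mul, show m v0 = ((⟨m, hm⟩ : R) : AddMonoid.End V) v0 from rfl, heE]
    simp [mul_comm]
  · rw [show l v0 = ((⟨l, hl⟩ : R) : AddMonoid.End V) v0 from rfl, heE]
    show _ ↔ θ (c (θ.symm (θ ⟨l, hl⟩))) = θ ⟨l, hl⟩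
    rw [RingEquiv.symm_apply_apply, θ.injective.eq_iff]
    exact ⟨fun h => Subtype.ext h, fun h => congrArg Subtype.val h⟩

/-- The number of ring automorphisms of the Galois field. -/
theorem card_aut {n : ℕ} (hn : n ≠ 0) :
    Nat.card (GaloisField p n ≃+* GaloisField p n) = n := by
  haveI : FiniteDimensional (ZMod p) (GaloisField p n) := Module.Finite.of_finite
  have hm := GaloisField.finrank p hn
  conv_rhs => rw [← hm, ← IsGalois.card_aut_eq_finrank (ZMod p) (GaloisField p n)]
  refine Nat.card_congr ⟨fun σ => AlgEquiv.ofRingEquiv (f := σ) (fun z => ?_), fun σ => σ.toRingEquiv,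
    fun σ => rfl, fun σ => rfl⟩
  exact RingHom.congr_fun (RingHom.ext_zmod ((σ : GaloisField p n →+* GaloisField p n).comp
    (algebraMap (ZMod p) (GaloisField p n))) (algebraMap (ZMod p) (GaloisField p n))) z

end H79.LinField
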