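import Cfsg.Agent.H79LinField
import Cfsg.Agent.Lib.NumberTheory.Zsigmondy
import Cfsg.Agent.Lib.Hall.Solvable
import Cfsg.Agent.Lib.Structure.TransitiveSolvable

/-! Solvable linear groups of order prime to the characteristic, transitive on the nonzero vectors and on
the two-dimensional subspaces: dimension at least three forces the semilinear groups of dimensions 3, 5. -/

set_option autoImplicit false

namespace H79.LinSolv

open scoped commutatorElement

open H79.LinField

universe u v

variable {V : Type u} [AddCommGroup V] [Finite V] {p : ℕ} [hp : Fact p.Prime]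
  {S : Type v} [Group S] [Finite S] [DistribMulAction S V] [FaithfulSMul S V]

omit [Finite V] [Finite S] [FaithfulSMul S V] hp in
theorem io_apply (s : S) (v : V) : io (V := V) s v = s • v := rfl

omit [Finite V] [Finite S] hp in
theorem ext_smul {x y : S} (h : ∀ v : V, x • v = y • v) : x = y := eq_of_smul_eq_smul h

omit [Finite V] [Finite S] [FaithfulSMul S V] hp in
theorem smul_ns (t : S) (k : ℕ) (v : V) : t • (k • v) = k • (t • v) :=
  map_nsmul (DistribSMul.toAddMonoidHom V t) k v

/-- Acting by a scalar. -/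
def Sc (V : Type u) [AddCommGroup V] {S : Type v} [Group S] [DistribMulAction S V] (s : S) : Prop :=
  ∃ k : ℕ, ∀ v : V, s • v = k • v

omit [Finite V] [Finite S] hp in
theorem Sc.commute {s : S} (h : Sc V s) (t : S) : Commute s t := by
  obtain ⟨k, hk⟩ := h
  exact ext_smul (V := V) fun v => by rw [mul_smul, mul_smul, hk, hk, smul_ns]

/-- The subgroup of scalars. -/
def scSub (V : Type u) [AddCommGroup V] (S : Type v) [Group S] [Finite S] [DistribMulAction S V] :
    Subgroup S where
  carrier := {s | Sc V s}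
  one_mem' := ⟨1, fun v => by rw [one_smul, one_nsmul]⟩
  mul_mem' {a b} ha hb := by
    obtain ⟨i, hi⟩ := ha
    obtain ⟨j, hj⟩ := hb
    exact ⟨j * i, fun v => by rw [mul_smul, hj, smul_ns, hi, ← mul_nsmul']⟩
  inv_mem' {a} ha := by
    obtain ⟨i, hi⟩ := ha
    have hpow : ∀ m : ℕ, ∀ v : V, a ^ m • v = (i ^ m) • v := by
      intro m
      induction m with
      | zero => intro v; rw [pow_zero, pow_zero, one_smul, one_nsmul]
      | succ m ih => intro v; rw [pow_succ, mul_smul, hi, ih, ← mul_nsmul', ← pow_succ]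
    obtain ⟨m, hm⟩ : a⁻¹ ∈ Submonoid.powers a :=
      (isOfFinOrder_of_finite a).mem_powers_iff_mem_zpowers.2 (inv_mem (Subgroup.mem_zpowers a))
    exact ⟨i ^ m, fun v => by rw [← hm]; exact hpow m v⟩

omit [Finite V] hp in
theorem scSub_normal : (scSub V S).Normal := ⟨fun s hs t => by
  rw [((show Sc V s from hs).commute t).symm.eq, mul_inv_cancel_right]; exact hs⟩

/-- The fixed vectors of an element. -/
def fx (g : S) : AddSubgroup V where
  carrier := {v | g • v = v}
  zero_mem' := smul_zero g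
  add_mem' {a b} ha hb := by
    show g • (a + b) = a + b
    rw [smul_add, show g • a = a from ha, show g • b = b from hb]
  neg_mem' {a} ha := by
    show g • (-a) = -a
    rw [smul_neg, show g • a = a from ha]

omit [Finite S] [FaithfulSMul S V] in
/-- Orbits of a subgroup of prime order on an invariant subgroup. -/
theorem orbit_count {r : ℕ} [hr : Fact r.Prime] {g : S} (hg : orderOf g = r) (U : AddSubgroup V)
    (hU : ∀ u ∈ U, g • u ∈ U) :
    Nat.card U ≡ Nat.card (U ⊓ fx g : AddSubgroup V) [MOD r] := by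
  have hinv : ∀ k : Subgroup.zpowers g, ∀ u ∈ U, (k : S) • u ∈ U := by
    intro k u hu
    haveI : Finite (Subgroup.zpowers g) := Nat.finite_of_card_ne_zero (by
      rw [Nat.card_zpowers, hg]; exact hr.out.ne_zero)
    obtain ⟨m, hm⟩ := (isOfFinOrder_iff_pow_eq_one.2 ⟨r, hr.out.pos, hg ▸ pow_orderOf_eq_one g⟩ :
      IsOfFinOrder g).mem_powers_iff_mem_zpowers.2 k.2
    rw [← hm]
    show g ^ m • u ∈ U
    clear hm
    induction m with
    | zero => simpa using hu
    | succ m ih => rw [pow_succ', mul_smul]; exact hU _ ih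
  letI : MulAction (Subgroup.zpowers g) U :=
    { smul := fun k u => ⟨(k : S) • (u : V), hinv k u u.2⟩
      one_smul := fun u => Subtype.ext (one_smul S (u : V))
      mul_smul := fun k l u => Subtype.ext (mul_smul (k : S) (l : S) (u : V)) }
  have h := (IsPGroup.of_card (n := 1) (by rw [Nat.card_zpowers, hg, pow_one]) :
    IsPGroup r (Subgroup.zpowers g)).card_modEq_card_fixedPoints U
  rwa [Nat.card_congr
    ({ toFun := fun u => ⟨((u.1 : U) : V), u.1.2, congrArg Subtype.val (u.2 ⟨g, Subgroup.mem_zpowers g⟩)⟩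
       invFun := fun u => ⟨⟨(u : V), u.2.1⟩, fun k => Subtype.ext (by
         obtain ⟨i, hi⟩ := Subgroup.mem_zpowers_iff.1 k.2
         show (k : S) • (u : V) = (u : V)
         rw [← hi]
         exact MulAction.mem_stabilizer_iff.1
           (zpow_mem (show g ∈ MulAction.stabilizer S (u : V) from u.2.2) i))⟩
       left_inv := fun u => rfl
       right_inv := fun u => rfl } :
      MulAction.fixedPoints (Subgroup.zpowers g) U ≃ (U ⊓ fx g : AddSubgroup V))] at h

omit [Finite S] in
/-- The fixed space of an element whose order is a primitive prime divisor for `b`. -/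
theorem fx_dim {n : ℕ} (hcard : Nat.card V = p ^ n) {r b : ℕ} (hb : 0 < b)
    (hr : CfsgLib.NumberTheory.IsPPD r p b) {g : S} (hg : orderOf g = r) :
    ∃ c, Nat.card (fx g : AddSubgroup V) = p ^ c ∧ c < n ∧ b ∣ n - c := by
  haveI := Fact.mk hr.prime
  have h1 : Nat.card (fx g : AddSubgroup V) ∣ p ^ n := hcard ▸ AddSubgroup.card_addSubgroup_dvd_card _
  obtain ⟨c, hcn, hc⟩ := (Nat.dvd_prime_pow hp.out).1 h1
  refine ⟨c, hc, lt_of_le_of_ne hcn ?_, ?_⟩
  · rintro rfl
    have htop : (fx g : AddSubgroup V) = ⊤ := AddSubgroup.eq_top_of_card_eq _ (hc.trans hcard.symm)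
    have : g = 1 := ext_smul (V := V) fun v => by
      rw [one_smul]; exact (htop.symm ▸ AddSubgroup.mem_top v : v ∈ fx g)
    rw [this, orderOf_one] at hg
    exact hr.prime.ne_one hg.symm
  · have h2 := orbit_count hg (⊤ : AddSubgroup V) (fun _ _ => trivial)
    rw [top_inf_eq, hc, Nat.card_congr AddSubgroup.topEquiv.toEquiv, hcard] at h2
    have h3 : r ∣ p ^ c * (p ^ (n - c) - 1) := by
      rw [Nat.mul_sub_one, ← pow_add, Nat.add_sub_cancel' hcn]
      exact (Nat.modEq_iff_dvd' (Nat.pow_le_pow_right hp.out.pos hcn)).1 h2.symm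
    rcases hr.prime.dvd_mul.1 h3 with h4 | h4
    · exact absurd (hr.prime.dvd_of_dvd_pow h4) (hr.not_dvd_base hp.out.pos hb)
    · exact (hr.dvd_pow_sub_one_iff hp.out.pos hb _).1 h4

omit [Finite S] in
/-- An element whose order is a primitive prime divisor for `n` is irreducible. -/
theorem eq_top_of_invariant {n : ℕ} (hcard : Nat.card V = p ^ n) (hn : 0 < n) {r : ℕ}
    (hr : CfsgLib.NumberTheory.IsPPD r p n) {g : S} (hg : orderOf g = r) (U : AddSubgroup V)
    (hU : ∀ u ∈ U, g • u ∈ U) (hU0 : U ≠ ⊥) : U = ⊤ := by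
  haveI := Fact.mk hr.prime
  obtain ⟨c, hc, hcn, hbc⟩ := fx_dim hcard hn hr hg
  have hc0 : c = 0 := by
    have := Nat.le_of_dvd (by omega) hbc
    omega
  have hfix : (fx g : AddSubgroup V) = ⊥ := AddSubgroup.eq_bot_of_card_eq _ (by rw [hc, hc0, pow_zero])
  have h2 := orbit_count hg U hU
  rw [hfix, inf_bot_eq, AddSubgroup.card_bot] at h2
  have h1 : Nat.card U ∣ p ^ n := hcard ▸ AddSubgroup.card_addSubgroup_dvd_card _
  obtain ⟨u, hun, hu⟩ := (Nat.dvd_prime_pow hp.out).1 h1
  rw [hu] at h2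
  have h3 : r ∣ p ^ u - 1 := (Nat.modEq_iff_dvd' (Nat.one_le_pow _ _ hp.out.pos)).1 h2.symm
  have h4 := (hr.dvd_pow_sub_one_iff hp.out.pos hn _).1 h3
  have hu0 : u ≠ 0 := by
    rintro rfl
    exact hU0 (AddSubgroup.eq_bot_of_card_eq _ (by rw [hu, pow_zero]))
  have : u = n := le_antisymm hun (Nat.le_of_dvd (Nat.pos_of_ne_zero hu0) h4)
  exact AddSubgroup.eq_top_of_card_eq _ (by rw [hu, this, hcard])

/-- The subring generated by a subgroup. -/
abbrev ring (V : Type u) [AddCommGroup V] {S : Type v} [Group S] [DistribMulAction S V] (A : Subgroup S) :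
    Subring (AddMonoid.End V) :=
  Subring.closure ((fun a : S => io (V := V) a) '' (A : Set S))

omit [Finite V] [Finite S] [FaithfulSMul S V] hp in
theorem io_mem_ring {A : Subgroup S} {a : S} (ha : a ∈ A) : io (V := V) a ∈ ring V A :=
  Subring.subset_closure ⟨a, ha, rfl⟩

omit [Finite V] [Finite S] [FaithfulSMul S V] hp in
theorem ring_comm {A : Subgroup S} (hA : ∀ a ∈ A, ∀ b ∈ A, a * b = b * a) :
    ∀ φ ∈ ring V A, ∀ ψ ∈ ring V A, φ * ψ = ψ * φ := by
  set T := (fun a : S => io (V := V) a) '' (A : Set S)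
  have hle : ring V A ≤ Subring.centralizer T := Subring.closure_le.mpr (by
    rintro _ ⟨a, ha, rfl⟩
    rw [SetLike.mem_coe, Subring.mem_centralizer_iff]
    rintro _ ⟨b, hb, rfl⟩
    show io b * io a = io a * io b
    rw [← map_mul, ← map_mul, hA b hb a ha])
  have h1 : ring V A ≤ Subring.centralizer (ring V A : Set (AddMonoid.End V)) := Subring.closure_le.mpr (by
    rintro _ ⟨a, ha, rfl⟩
    rw [SetLike.mem_coe, Subring.mem_centralizer_iff]
    intro ψ' hψ'
    exact ((Subring.mem_centralizer_iff.mp (hle hψ')) _ ⟨a, ha, rfl⟩).symm)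
  intro φ hφ ψ hψ
  exact (Subring.mem_centralizer_iff.mp (h1 hψ)) φ hφ

omit [Finite V] [Finite S] [FaithfulSMul S V] hp in
theorem ring_conj {A : Subgroup S} {s : S} (hs : ∀ a ∈ A, s * a * s⁻¹ ∈ A) :
    ∀ φ ∈ ring V A, io (V := V) s * φ * io (V := V) s⁻¹ ∈ ring V A := by
  let u : (AddMonoid.End V) →+* (AddMonoid.End V) :=
    { toFun := fun φ => io s * φ * io s⁻¹
      map_one' := by rw [mul_one, ← map_mul, mul_inv_cancel, map_one]
      map_mul' := fun a b => DFunLike.ext _ _ fun v => by
        show s • a (b (s⁻¹ • v)) = s • a (s⁻¹ • (s • b (s⁻¹ • v)))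
        rw [inv_smul_smul]
      map_zero' := DFunLike.ext _ _ fun v => smul_zero s
      map_add' := fun a b => DFunLike.ext _ _ fun v => smul_add s (a (s⁻¹ • v)) (b (s⁻¹ • v)) }
  have hle : ring V A ≤ (ring V A).comap u := Subring.closure_le.mpr (by
    rintro _ ⟨a, ha, rfl⟩
    show io s * io a * io s⁻¹ ∈ ring V A
    rw [← map_mul, ← map_mul]
    exact io_mem_ring (hs a ha))
  exact fun φ hφ => hle hφ

/-- Semilinear maps for a field structure. -/
def IsSemilinear (p n : ℕ) [Fact p.Prime] (V : Type u) [AddCommGroup V] (S : Type v) [Group S]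
    [DistribMulAction S V] : Prop :=
  ∃ e : V ≃+ GaloisField p n, ∀ s : S, ∃ (a : (GaloisField p n)ˣ)
    (φ : GaloisField p n ≃+* GaloisField p n), ∀ v, e (s • v) = (a : GaloisField p n) * φ (e v)

theorem IsSemilinear.card_le {n : ℕ} (hn : n ≠ 0) (h : IsSemilinear p n V S) :
    Nat.card S ≤ (p ^ n - 1) * n := by
  obtain ⟨e, he⟩ := h
  choose a φ haφ using he
  haveI : Fintype (GaloisField p n) := Fintype.ofFinite _
  haveI : Finite (GaloisField p n ≃+* GaloisField p n) :=
    Finite.of_injective (fun σ => (σ : GaloisField p n → GaloisField p n)) DFunLike.coe_injective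
  refine (Nat.card_le_card_of_injective (fun s => (a s, φ s)) fun s t hst => ?_).trans (le_of_eq ?_)
  · refine ext_smul (V := V) fun v => e.injective ?_
    rw [haφ, haφ, show a s = a t from congrArg Prod.fst hst, show φ s = φ t from congrArg Prod.snd hst]
  · rw [Nat.card_prod, H79.LinField.card_aut hn, Nat.card_units, GaloisField.card p n hn]

variable {n : ℕ} (hexp : ∀ v : V, p • v = 0) (hcard : Nat.card V = p ^ n)
  (hsolv : Group.IsSolvable S) (hcop : (Nat.card S).Coprime p)
  (htr : ∀ v w : V, v ≠ 0 → w ≠ 0 → ∃ s : S, s • v = w)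

include hcard htr in
omit [FaithfulSMul S V] in
theorem pow_sub_one_dvd (hn : n ≠ 0) : p ^ n - 1 ∣ Nat.card S := by
  obtain ⟨v0, hv0⟩ : ∃ v : V, v ≠ 0 := by
    haveI : Nontrivial V := Finite.one_lt_card_iff_nontrivial.1 (hcard ▸ Nat.one_lt_pow hn hp.out.one_lt)
    exact exists_ne 0
  have horb : MulAction.orbit S v0 = ({0} : Set V)ᶜ := by
    ext v
    refine ⟨?_, fun hv => htr v0 v hv0 hv⟩
    rintro ⟨s, rfl⟩ e
    exact hv0 ((smul_eq_zero_iff_eq s).mp e)
  have h1 := (MulAction.stabilizer S v0).card_mul_index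
  rw [MulAction.index_stabilizer, horb, Set.ncard_compl, Set.ncard_singleton, hcard] at h1
  exact ⟨_, by rw [mul_comm]; exact h1.symm⟩

include hexp hcard htr in
omit [FaithfulSMul S V] in
/-- A normal abelian subgroup containing a non-scalar element gives semilinearity in prime dimension. -/
theorem semilinear_of_abelian (hn : n.Prime) (A : Subgroup S) [A.Normal]
    (hAc : ∀ a ∈ A, ∀ b ∈ A, a * b = b * a) {a₀ : S} (ha₀ : a₀ ∈ A) (ha₀s : ¬ Sc V a₀) :
    IsSemilinear p n V S := by
  classical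
  haveI : Finite (AddMonoid.End V) :=
    Finite.of_injective (fun f : AddMonoid.End V => (f : V → V)) DFunLike.coe_injective
  set R := ring V A
  have hcomm := ring_comm (V := V) hAc
  have hAn : ∀ s : S, ∀ a ∈ A, s * a * s⁻¹ ∈ A := fun s a ha => Subgroup.Normal.conj_mem ‹A.Normal› a ha s
  have hinj : ∀ φ ∈ R, φ ≠ 0 → Function.Injective φ := fun φ hφ hne =>
    CfsgLib.TransitiveSolvable.injective_of_ne_zero htr R hcomm
      (fun s ψ hψ => ⟨_, ring_conj (hAn s) ψ hψ, fun v => rfl⟩) hφ hne
  obtain ⟨v0, hv0⟩ : ∃ v : V, v ≠ 0 := by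
    haveI : Nontrivial V :=
      Finite.one_lt_card_iff_nontrivial.1 (hcard ▸ Nat.one_lt_pow hn.ne_zero hp.out.one_lt)
    exact exists_ne 0
  -- the ring is a field and `V` a vector space over it
  letI : CommRing R := { (inferInstance : Ring R) with
    mul_comm := fun a b => Subtype.ext (hcomm a a.2 b b.2) }
  haveI : Nontrivial R := ⟨⟨0, 1, fun h => hv0 (DFunLike.congr_fun (congrArg Subtype.val h) v0).symm⟩⟩
  haveI : NoZeroDivisors R := ⟨fun {a b} hab => by
    by_contra hne
    push Not at hne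
    refine hne.2 (Subtype.ext (DFunLike.ext _ _ fun v => hinj a a.2 (fun h => hne.1 (Subtype.ext h)) ?_))
    show (a : AddMonoid.End V) ((b : AddMonoid.End V) v) = (a : AddMonoid.End V) 0
    rw [map_zero]
    exact DFunLike.congr_fun (congrArg Subtype.val hab) v⟩
  haveI : IsDomain R := NoZeroDivisors.to_isDomain R
  letI : Field R := (Finite.isDomain_to_isField R).toField
  letI : Module R V := Module.compHom V R.subtype
  haveI : Module.Finite R V := Module.Finite.of_finite
  have hVR := Module.natCard_eq_pow_finrank (K := R) (V := V)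
  rw [hcard] at hVR
  have hk0 : Module.finrank R V ≠ 0 := by
    intro h0
    rw [h0, pow_zero, Nat.pow_eq_one] at hVR
    exact hVR.elim hp.out.ne_one hn.ne_zero
  obtain ⟨d, -, hd⟩ : ∃ d, d ≤ n ∧ Nat.card R = p ^ d := by
    have : Nat.card R ∣ p ^ n := hVR ▸ dvd_pow_self _ hk0
    exact (Nat.dvd_prime_pow hp.out).1 this
  rw [hd, ← pow_mul] at hVR
  have hdn : d * Module.finrank R V = n := (Nat.pow_right_injective hp.out.two_le hVR).symm
  have hd1 : d ≠ 1 := by
    rintro rfl
    -- the ring consists of scalars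
    let f : ZMod p → R := fun i => (i.val : R)
    have hf : Function.Injective f := by
      intro i j hij
      have hzero : ∀ m : ℕ, m < p → (m : R) = 0 → m = 0 := by
        intro m hm h0
        by_contra hm0
        have h1 : m • v0 = 0 := by
          have h := DFunLike.congr_fun (congrArg Subtype.val h0) v0
          rw [show ((m : R) : AddMonoid.End V) = (m : AddMonoid.End V) from map_natCast R.subtype m,
            AddMonoid.End.natCast_apply] at h
          exact h
        have h2 := addOrderOf_eq_prime (hexp v0) hv0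
        have h3 := Nat.le_of_dvd (Nat.pos_of_ne_zero hm0) (h2 ▸ addOrderOf_dvd_of_nsmul_eq_zero h1)
        omega
      have key : ∀ a b : ℕ, a ≤ b → b < p → (a : R) = (b : R) → a = b := by
        intro a b hab hb h
        have := hzero (b - a) (by omega) (by rw [Nat.cast_sub hab, h, sub_self])
        omega
      apply ZMod.val_injective p
      rcases le_total i.val j.val with h | h
      · exact key _ _ h (ZMod.val_lt j) hij
      · exact (key _ _ h (ZMod.val_lt i) hij.symm).symm
    have hbij := (Nat.bijective_iff_injective_and_card f).2 ⟨hf, by rw [hd, pow_one, Nat.card_zmod]⟩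
    obtain ⟨i, hi⟩ := hbij.2 ⟨io (V := V) a₀, io_mem_ring ha₀⟩
    refine ha₀s ⟨i.val, fun v => ?_⟩
    have h := DFunLike.congr_fun (congrArg Subtype.val hi) v
    rw [show ((f i : R) : AddMonoid.End V) = (i.val : AddMonoid.End V) from map_natCast R.subtype i.val,
      AddMonoid.End.natCast_apply] at h
    exact h.symm
  have hk1 : Module.finrank R V = 1 := by
    rcases hn.eq_one_or_self_of_dvd d ⟨_, hdn.symm⟩ with h | h
    · exact absurd h hd1
    · rw [h] at hdn
      exact (Nat.mul_eq_left hn.ne_zero).1 hdn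
  have hspan := (finrank_eq_one_iff_of_nonzero' v0 hv0).mp hk1
  obtain ⟨e, -, he⟩ := semilinear hexp hn.ne_zero hcard R hcomm hinj v0
    (fun v => by obtain ⟨l, hl⟩ := hspan v; exact ⟨l, l.2, hl⟩)
  refine ⟨e, fun s => ?_⟩
  obtain ⟨a, φ, h, -⟩ := he s (ring_conj (hAn s)) (fun l hl => by
    have := ring_conj (hAn s⁻¹) l hl
    rwa [inv_inv] at this)
  exact ⟨a, φ, h⟩

omit [Finite S] [Finite V] in
/-- Averaging: homogeneous summands of a zero sum vanish. -/
theorem eq_zero_of_graded {m : ℕ} (hm : (m : ZMod p) ≠ 0) {ω : ZMod p} (hω : IsPrimitiveRoot ω m)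
    [Module (ZMod p) V] (T : Module.End (ZMod p) V →ₗ[ZMod p] Module.End (ZMod p) V)
    (F : Fin m → Module.End (ZMod p) V) (hT : ∀ i, T (F i) = ω ^ (i : ℕ) • F i) (h0 : ∑ i, F i = 0) :
    ∀ i, F i = 0 := by
  intro i₀
  have hTk : ∀ (k : ℕ) (i : Fin m), (T ^ k) (F i) = (ω ^ (i : ℕ)) ^ k • F i := by
    intro k i
    induction k with
    | zero => simp
    | succ k ih =>
      rw [pow_succ', Module.End.mul_apply, ih, LinearMap.map_smul, hT, smul_smul, ← pow_succ]
  have h1 : ∀ k : ℕ, ∑ i : Fin m, (ω ^ (i : ℕ)) ^ k • F i = 0 := fun k => by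
    simp_rw [← hTk k]
    rw [← map_sum, h0, map_zero]
  have hω0 : ω ≠ 0 := hω.ne_zero (by rintro rfl; simp at hm)
  have h2 : ∑ i : Fin m, (∑ k ∈ Finset.range m, ((ω ^ (i₀ : ℕ))⁻¹ * ω ^ (i : ℕ)) ^ k) • F i = 0 := by
    simp_rw [Finset.sum_smul]
    rw [Finset.sum_comm]
    refine Finset.sum_eq_zero fun k _ => ?_
    simp_rw [mul_pow, ← smul_smul, ← Finset.smul_sum, h1, smul_zero]
  rw [Finset.sum_eq_single i₀ ?_ (fun h => absurd (Finset.mem_univ i₀) h)] at h2
  · rw [inv_mul_cancel₀ (pow_ne_zero _ hω0)] at h2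
    simp only [one_pow, Finset.sum_const, Finset.card_range, nsmul_eq_mul, mul_one] at h2
    exact (smul_eq_zero.1 h2).resolve_left hm
  · intro i _ hi
    rw [geom_sum_eq (fun he => hi (Fin.ext (hω.pow_inj i.2 i₀.2 (inv_mul_eq_one₀ (pow_ne_zero _ hω0) |>.1 he).symm)))]
    rw [mul_pow, inv_pow, ← pow_mul, mul_comm (i₀ : ℕ), pow_mul, hω.pow_eq_one, one_pow, inv_one,
      one_mul, ← pow_mul, mul_comm (i : ℕ), pow_mul, hω.pow_eq_one, one_pow, sub_self, zero_div,
      zero_smul]

include hexp hcard hsolv htr in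
/-- In prime dimension some normal abelian subgroup is not scalar. -/
theorem semilinear_of_prime [Module (ZMod p) V] (hn : n.Prime) {r : ℕ} (hr : CfsgLib.NumberTheory.IsPPD r p n)
    (hn3 : 2 < n) : IsSemilinear p n V S := by
  classical
  by_contra hns
  have habel : ∀ A : Subgroup S, A.Normal → (∀ a ∈ A, ∀ b ∈ A, a * b = b * a) → A ≤ scSub V S :=
    fun A hA hAc a ha => by
      by_contra h
      exact hns (semilinear_of_abelian hexp hcard htr hn A hAc ha h)
  set Z := scSub V S with hZ
  haveI := scSub_normal (V := V) (S := S)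
  haveI := Fact.mk hn
  haveI := Fact.mk hr.prime
  have hrn := hr.lt hp.out.pos hn.pos
  obtain ⟨g, hg⟩ := exists_prime_orderOf_dvd_card' (G := S) r
    (((hr.dvd_pow_sub_one_iff hp.out.pos hn.pos n).2 dvd_rfl).trans
      (pow_sub_one_dvd hcard htr hn.ne_zero))
  have hgZ : g ∉ Z := by
    rintro ⟨k, hk⟩
    obtain ⟨v0, hv0⟩ : ∃ v : V, v ≠ 0 := by
      haveI : Nontrivial V :=
        Finite.one_lt_card_iff_nontrivial.1 (hcard ▸ Nat.one_lt_pow hn.ne_zero hp.out.one_lt)
      exact exists_ne 0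
    have h := eq_top_of_invariant hcard hn.pos hr hg (AddSubgroup.zmultiples v0)
      (fun u hu => by rw [hk]; exact nsmul_mem hu k) (AddSubgroup.zmultiples_ne_bot.2 hv0)
    have h1 : Nat.card (AddSubgroup.zmultiples v0) = p := by
      rw [Nat.card_zmultiples]; exact addOrderOf_eq_prime (hexp v0) hv0
    rw [h, Nat.card_congr AddSubgroup.topEquiv.toEquiv, hcard] at h1
    have := Nat.pow_right_injective hp.out.two_le (h1.trans (pow_one p).symm)
    omega
  -- a minimal normal subgroup over the scalars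
  obtain ⟨B, ⟨hBn, hZB⟩, hBmin⟩ := Set.Finite.exists_minimal
    (s := {B : Subgroup S | B.Normal ∧ Z < B}) (Set.toFinite _)
    ⟨⊤, inferInstance, lt_top_iff_ne_top.2 fun h => hgZ (h ▸ Subgroup.mem_top g)⟩
  haveI := hBn
  have hBc : ∀ x ∈ B, ∀ y ∈ B, ⁅x, y⁆ ∈ Z := by
    set D := ⁅B, B⁆ ⊔ Z with hD
    have hle : D ≤ B := sup_le (Subgroup.commutator_le_left B B) hZB.le
    intro x hx y hy
    by_contra hxy
    have hlt : Z < D := lt_of_le_of_ne le_sup_right fun e =>
      hxy (e ▸ Subgroup.mem_sup_left (Subgroup.commutator_mem_commutator hx hy))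
    have heq : D = B := le_antisymm hle (hBmin ⟨inferInstance, hlt⟩ hle)
    -- then `B / Z` would be perfect
    set q := QuotientGroup.mk' Z
    have h1 : ⁅B.map q, B.map q⁆ = B.map q := by
      rw [← Subgroup.map_commutator]
      conv_rhs => rw [← heq, hD, Subgroup.map_sup]
      rw [show Z.map q = ⊥ by rw [Subgroup.map_eq_bot_iff, QuotientGroup.ker_mk'], sup_bot_eq]
    haveI := hsolv
    haveI : Group.IsSolvable (B.map q) :=
      Group.isSolvable_of_surjective (f := q.subgroupMap B) (MonoidHom.subgroupMap_surjective q B)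
    haveI : Nontrivial (B.map q) := (B.map q).nontrivial_iff_ne_bot.2 fun h => by
      rw [Subgroup.map_eq_bot_iff, QuotientGroup.ker_mk'] at h
      exact hZB.not_ge h
    have hlt' := IsSolvable.commutator_lt_top_of_nontrivial (G := B.map q)
    refine hlt'.ne (Subgroup.map_injective (B.map q).subtype_injective ?_)
    rw [Subgroup.map_subtype_commutator, h1, ← MonoidHom.range_eq_map, Subgroup.range_subtype]
  let L : S →* Module.End (ZMod p) V :=
    { toFun := fun s => ((DistribSMul.toAddMonoidHom V s).toZModLinearMap p : V →ₗ[ZMod p] V)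
      map_one' := LinearMap.ext fun v => by
        show (1 : S) • v = v
        exact one_smul S v
      map_mul' := fun s t => LinearMap.ext fun v => by
        show (s * t) • v = s • t • v
        exact mul_smul s t v }
  have hL : ∀ s v, L s v = s • v := fun _ _ => rfl
  have hLinj : Function.Injective L := fun x y h => ext_smul (V := V) fun v => by rw [← hL, ← hL, h]
  have hfin : Module.finrank (ZMod p) V = n := by
    have h := Module.natCard_eq_pow_finrank (K := ZMod p) (V := V)
    rw [hcard, Nat.card_zmod] at h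
    exact (Nat.pow_right_injective hp.out.two_le h).symm
  haveI : Module.Finite (ZMod p) V := Module.Finite.of_finite
  have hscal : ∀ z ∈ Z, ∃ k : ZMod p, L z = k • (1 : Module.End (ZMod p) V) := by
    rintro z ⟨k, hk⟩
    exact ⟨k, LinearMap.ext fun v => by
      rw [hL, hk, LinearMap.smul_apply, Module.End.one_apply, Nat.cast_smul_eq_nsmul]⟩
  -- central commutators have order dividing `n`
  have hcp : ∀ x y : S, ⁅x, y⁆ ∈ Z → ⁅x, y⁆ ^ n = 1 := by
    intro x y h
    obtain ⟨k, hk⟩ := hscal _ h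
    have h1 : L x * L y = k • (L y * L x) := by
      rw [← map_mul, ← map_mul, show x * y = ⁅x, y⁆ * (y * x) by rw [commutatorElement_def]; group,
        map_mul, hk, smul_mul_assoc, one_mul]
    have h2 := congrArg LinearMap.det h1
    rw [LinearMap.det_smul, hfin, map_mul, map_mul, mul_comm (LinearMap.det (L y))] at h2
    have hne : ∀ s, LinearMap.det (L s) ≠ 0 := fun s h0 => by
      have := congrArg LinearMap.det (show L s * L s⁻¹ = 1 by rw [← map_mul, mul_inv_cancel, map_one])
      rw [map_mul, h0, zero_mul, map_one] at this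
      exact zero_ne_one this
    have hk' : k ^ n = 1 := (mul_eq_right₀ (mul_ne_zero (hne x) (hne y))).1 h2.symm
    refine hLinj ?_
    rw [map_pow, hk, smul_pow, one_pow, hk', one_smul, map_one]
  obtain ⟨b, hb, c, hc, hbc⟩ : ∃ b ∈ B, ∃ c ∈ B, b * c ≠ c * b := by
    by_contra hno
    push Not at hno
    exact hZB.not_ge (habel B hBn hno)
  obtain ⟨ω, hω⟩ := hscal _ (hBc b hb c hc)
  have hωn : ω ^ n = 1 := by
    have h := congrArg L (hcp b c (hBc b hb c hc))
    rw [map_pow, hω, smul_pow, one_pow, map_one] at h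
    obtain ⟨v0, hv0⟩ : ∃ v : V, v ≠ 0 := by
      haveI : Nontrivial V :=
        Finite.one_lt_card_iff_nontrivial.1 (hcard ▸ Nat.one_lt_pow hn.ne_zero hp.out.one_lt)
      exact exists_ne 0
    have h' := LinearMap.congr_fun h v0
    rw [LinearMap.smul_apply, Module.End.one_apply] at h'
    by_contra hne
    have : (ω ^ n - 1) • v0 = 0 := by rw [sub_smul, h', one_smul, sub_self]
    exact hv0 ((smul_eq_zero.1 this).resolve_left (sub_ne_zero.2 hne))
  have hswap : L b * L c = ω • (L c * L b) := by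
    rw [← map_mul, ← map_mul, show b * c = ⁅b, c⁆ * (c * b) by rw [commutatorElement_def]; group,
      map_mul, hω, smul_mul_assoc, one_mul]
  have hω1 : ω ≠ 1 := by
    rintro rfl
    rw [one_smul, ← map_mul, ← map_mul] at hswap
    exact hbc (hLinj hswap)
  have hωp : IsPrimitiveRoot ω n := by
    have := orderOf_eq_prime hωn hω1
    exact this ▸ IsPrimitiveRoot.orderOf ω
  have hnp : (n : ZMod p) ≠ 0 := by
    intro h
    rw [ZMod.natCast_eq_zero_iff, Nat.prime_dvd_prime_iff_eq hp.out hn] at h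
    subst h
    exact hω1 (by simpa [ZMod.pow_card] using hωn)
  have hω0 : ω ≠ 0 := hωp.ne_zero hn.ne_zero
  -- conjugations by `b` and `c`
  let cj : S → (Module.End (ZMod p) V →ₗ[ZMod p] Module.End (ZMod p) V) := fun s =>
    (LinearMap.mulLeft (ZMod p) (L s)).comp (LinearMap.mulRight (ZMod p) (L s⁻¹))
  have hcj : ∀ s X, cj s X = L s * (X * L s⁻¹) := fun _ _ => rfl
  have hbcj : ∀ j : ℕ, L b * L c ^ j = ω ^ j • (L c ^ j * L b) := by
    intro j
    induction j with
    | zero => simp
    | succ j ih =>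
      rw [pow_succ, ← mul_assoc, ih, smul_mul_assoc, mul_assoc, hswap, mul_smul_comm, smul_smul,
        ← pow_succ, ← mul_assoc]
  have hcbi : ∀ i : ℕ, L b ^ i * L c = ω ^ i • (L c * L b ^ i) := by
    intro i
    induction i with
    | zero => simp
    | succ i ih =>
      rw [pow_succ, mul_assoc, hswap, mul_smul_comm, ← mul_assoc, ih, smul_mul_assoc, smul_smul,
        ← pow_succ', mul_assoc]
  have hcent : ∀ X : Module.End (ZMod p) V, X * L b = L b * X → X * L c = L c * X →
      ∃ k : ZMod p, X = k • (1 : Module.End (ZMod p) V) := by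
    intro X hXb hXc
    let Φ : (Fin n → Fin n → ZMod p) →ₗ[ZMod p] Module.End (ZMod p) V :=
      { toFun := fun a => ∑ i, ∑ j, a i j • (L b ^ (i : ℕ) * L c ^ (j : ℕ))
        map_add' := fun a a' => by simp [add_smul, Finset.sum_add_distrib]
        map_smul' := fun k a => by simp [Finset.smul_sum, smul_smul] }
    have hΦinj : Function.Injective Φ := by
      rw [injective_iff_map_eq_zero]
      intro a ha
      -- conjugation by `c⁻¹` grades by the first index
      have h1 := eq_zero_of_graded hnp hωp (cj c⁻¹)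
        (fun i => ∑ j, a i j • (L b ^ (i : ℕ) * L c ^ (j : ℕ))) (fun i => by
          rw [map_sum, Finset.smul_sum]
          refine Finset.sum_congr rfl fun j _ => ?_
          rw [LinearMap.map_smul, smul_comm]
          congr 1
          rw [hcj, inv_inv, mul_assoc (L b ^ (i : ℕ)), ← pow_succ, pow_succ' (L c), ← mul_assoc (L b ^ (i : ℕ)),
            hcbi, smul_mul_assoc, mul_smul_comm, mul_assoc (L c), ← mul_assoc (L c⁻¹), ← map_mul,
            inv_mul_cancel, map_one, one_mul]) ha
      ext i₀ j₀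
      have h2 : ∑ j, a i₀ j • L c ^ (j : ℕ) = 0 := by
        have h3 := h1 i₀
        simp_rw [← mul_smul_comm, ← Finset.mul_sum] at h3
        have h4 := congrArg (fun Y => L (b⁻¹ ^ (i₀ : ℕ)) * Y) h3
        simp only [mul_zero] at h4
        rwa [← mul_assoc, ← map_pow L b, ← map_mul, inv_pow, inv_mul_cancel, map_one, one_mul] at h4
      have h5 := eq_zero_of_graded hnp hωp (cj b) (fun j => a i₀ j • L c ^ (j : ℕ)) (fun j => by
        rw [LinearMap.map_smul, smul_comm]
        congr 1
        rw [hcj, ← mul_assoc, hbcj, smul_mul_assoc, mul_assoc, ← map_mul, mul_inv_cancel, map_one, mul_one])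
        h2 j₀
      refine (smul_eq_zero.1 h5).resolve_right fun h0 => ?_
      rw [← map_pow] at h0
      have := congrArg (fun Y => L (c ^ (j₀ : ℕ))⁻¹ * Y) h0
      simp only [mul_zero, ← map_mul, inv_mul_cancel, map_one] at this
      obtain ⟨v0, hv0⟩ : ∃ v : V, v ≠ 0 := by
        haveI : Nontrivial V :=
          Finite.one_lt_card_iff_nontrivial.1 (hcard ▸ Nat.one_lt_pow hn.ne_zero hp.out.one_lt)
        exact exists_ne 0
      exact hv0 (LinearMap.congr_fun this v0)
    haveI : Finite (Module.End (ZMod p) V) :=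
      Finite.of_injective (fun f : Module.End (ZMod p) V => (f : V → V)) DFunLike.coe_injective
    have hsurj : Function.Surjective Φ := by
      refine ((Nat.bijective_iff_injective_and_card Φ).2 ⟨hΦinj, ?_⟩).2
      rw [Module.natCard_eq_pow_finrank (K := ZMod p) (V := Module.End (ZMod p) V),
        Module.finrank_linearMap (ZMod p) (ZMod p) V V, hfin, Nat.card_fun, Nat.card_fun, Nat.card_fin, Nat.card_zmod,
        ← pow_mul]
    have hall : ∀ Y, X * Y = Y * X := by
      intro Y
      obtain ⟨a, rfl⟩ := hsurj Y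
      show X * ∑ i, ∑ j, a i j • (L b ^ (i : ℕ) * L c ^ (j : ℕ)) =
        (∑ i, ∑ j, a i j • (L b ^ (i : ℕ) * L c ^ (j : ℕ))) * X
      simp only [Finset.mul_sum, Finset.sum_mul]
      refine Finset.sum_congr rfl fun i _ => Finset.sum_congr rfl fun j _ => ?_
      rw [mul_smul_comm, smul_mul_assoc]
      congr 1
      rw [← mul_assoc, ((show Commute X (L b) from hXb).pow_right _).eq, mul_assoc,
        ((show Commute X (L c) from hXc).pow_right _).eq, mul_assoc]
    obtain ⟨v0, hv0⟩ : ∃ v : V, v ≠ 0 := by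
      haveI : Nontrivial V :=
        Finite.one_lt_card_iff_nontrivial.1 (hcard ▸ Nat.one_lt_pow hn.ne_zero hp.out.one_lt)
      exact exists_ne 0
    obtain ⟨f, hf⟩ := Module.Projective.exists_dual_ne_zero (ZMod p) hv0
    refine ⟨(f v0)⁻¹ * f (X v0), LinearMap.ext fun w => ?_⟩
    have h := LinearMap.congr_fun (hall (f.smulRight w)) v0
    rw [Module.End.mul_apply, Module.End.mul_apply, LinearMap.smulRight_apply, LinearMap.smulRight_apply,
      LinearMap.map_smul] at h
    rw [LinearMap.smul_apply, Module.End.one_apply, mul_smul, ← h, smul_smul, inv_mul_cancel₀ hf, one_smul]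
  have hscZ : ∀ s : S, ∀ k : ZMod p, L s = k • (1 : Module.End (ZMod p) V) → s ∈ Z := by
    intro s k hk
    refine ⟨k.val, fun v => ?_⟩
    rw [← hL, hk, LinearMap.smul_apply, Module.End.one_apply, ← Nat.cast_smul_eq_nsmul (ZMod p),
      ZMod.natCast_zmod_val]
  have hroot : ∀ x y : S, ⁅x, y⁆ ∈ Z → ∃ i : ℕ, i < n ∧ L x * L y = ω ^ i • (L y * L x) := by
    intro x y h
    obtain ⟨k, hk⟩ := hscal _ h
    have h1 : L x * L y = k • (L y * L x) := by
      rw [← map_mul, ← map_mul, show x * y = ⁅x, y⁆ * (y * x) by rw [commutatorElement_def]; group,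
        map_mul, hk, smul_mul_assoc, one_mul]
    have hk' : k ^ n = 1 := by
      have h2 := congrArg L (hcp x y h)
      rw [map_pow, hk, smul_pow, one_pow, map_one] at h2
      obtain ⟨v0, hv0⟩ : ∃ v : V, v ≠ 0 := by
        haveI : Nontrivial V :=
          Finite.one_lt_card_iff_nontrivial.1 (hcard ▸ Nat.one_lt_pow hn.ne_zero hp.out.one_lt)
        exact exists_ne 0
      have h' := LinearMap.congr_fun h2 v0
      rw [LinearMap.smul_apply, Module.End.one_apply] at h'
      by_contra hne
      have : (k ^ n - 1) • v0 = 0 := by rw [sub_smul, h', one_smul, sub_self]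
      exact hv0 ((smul_eq_zero.1 this).resolve_left (sub_ne_zero.2 hne))
    haveI : NeZero n := ⟨hn.ne_zero⟩
    obtain ⟨i, hi, rfl⟩ := hωp.eq_pow_of_pow_eq_one hk'
    exact ⟨i, hi, h1⟩
  -- elements of `B` commuting with `b` and `c` are scalar; the structure of `B / Z`
  have hcentS : ∀ x : S, x * b = b * x → x * c = c * x → x ∈ Z := by
    intro x h1 h2
    obtain ⟨k, hk⟩ := hcent (L x) (by rw [← map_mul, h1, map_mul]) (by rw [← map_mul, h2, map_mul])
    exact hscZ x k hk
  set q := QuotientGroup.mk' Z with hq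
  have hkerq : ∀ {x : S}, q x = 1 ↔ x ∈ Z := fun {x} => QuotientGroup.eq_one_iff x
  have hqc : ∀ x ∈ B, ∀ y ∈ B, q x * q y = q y * q x := fun x hx y hy => by
    have h := hkerq.2 (hBc x hx y hy)
    rw [map_commutatorElement, commutatorElement_eq_one_iff_mul_comm] at h
    exact h
  have hdecomp : ∀ x ∈ B, ∃ i j : ℕ, q x = q b ^ i * q c ^ j := by
    intro x hx
    obtain ⟨i, hin, hi⟩ := hroot x c (hBc x hx c hc)
    obtain ⟨j, hjn, hj⟩ := hroot x b (hBc x hx b hb)
    -- `x * b ^ i' * c ^ j'` commutes with `b` and `c`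
    refine ⟨i, n - j, ?_⟩
    set y := x⁻¹ * (b ^ i * c ^ (n - j)) with hy
    suffices hyZ : y ∈ Z by
      have h := hkerq.2 hyZ
      rw [hy, map_mul, map_inv, inv_mul_eq_one, map_mul, map_pow, map_pow] at h
      exact h
    set M := b ^ i * c ^ (n - j) with hM
    have e1 : L M * L c = ω ^ i • (L c * L M) := by
      rw [hM, map_mul, map_pow, map_pow, mul_assoc, ← pow_succ, pow_succ' (L c), ← mul_assoc, hcbi,
        smul_mul_assoc, mul_assoc]
    have e2 : L M * L b = ω ^ j • (L b * L M) := by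
      rw [hM, map_mul, map_pow, map_pow, mul_assoc, ← mul_assoc (L b), ← pow_succ', pow_succ (L b),
        mul_assoc (L b ^ i), hbcj, mul_smul_comm, smul_smul, ← pow_add, Nat.add_sub_cancel' hjn.le, hωn,
        one_smul]
    have comm : ∀ w : S, ∀ a : ℕ, L x * L w = ω ^ a • (L w * L x) → L M * L w = ω ^ a • (L w * L M) →
        y * w = w * y := by
      intro w a h1 h2
      have ea : ω ^ a ≠ 0 := pow_ne_zero _ hω0
      have h3 : L x⁻¹ * L w = (ω ^ a)⁻¹ • (L w * L x⁻¹) := by
        have h4 := congrArg (fun Y => L x⁻¹ * Y * L x⁻¹) h1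
        simp only [mul_smul_comm, smul_mul_assoc] at h4
        rw [← mul_assoc (L x⁻¹) (L x), ← map_mul L x⁻¹ x, inv_mul_cancel, map_one, one_mul,
          mul_assoc (L x⁻¹) (L w * L x), mul_assoc (L w) (L x), ← map_mul L x x⁻¹, mul_inv_cancel, map_one,
          mul_one] at h4
        rw [h4, smul_smul, inv_mul_cancel₀ ea, one_smul]
      refine hLinj ?_
      rw [map_mul L y w, map_mul L w y, hy, map_mul L x⁻¹ M, mul_assoc, h2, mul_smul_comm, ← mul_assoc, h3, smul_mul_assoc,
        smul_smul, mul_inv_cancel₀ ea, one_smul, mul_assoc]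
    exact hcentS y (comm b j hj e2) (comm c i hi e1)
  have hpown : ∀ x ∈ B, q x ^ n = 1 := by
    intro x hx
    rw [← map_pow, hkerq]
    have key : ∀ w ∈ B, (x ^ n) * w = w * x ^ n := by
      intro w hw
      obtain ⟨i, -, hi⟩ := hroot x w (hBc x hx w hw)
      have hpw : ∀ m : ℕ, L x ^ m * L w = (ω ^ i) ^ m • (L w * L x ^ m) := by
        intro m
        induction m with
        | zero => simp
        | succ m ih =>
          rw [pow_succ (L x), mul_assoc, hi, mul_smul_comm, ← mul_assoc, ih, smul_mul_assoc, smul_smul,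
            ← pow_succ', mul_assoc]
      have h := hpw n
      rw [← pow_mul, mul_comm, pow_mul, hωn, one_pow, one_smul, ← map_pow, ← map_mul, ← map_mul] at h
      exact hLinj h
    exact hcentS _ (key b hb) (key c hc)
  have hbexp : ∀ m : ℕ, q b ^ m = 1 → n ∣ m := by
    intro m hm
    rw [← map_pow, hkerq] at hm
    have h := (show Sc V (b ^ m) from hm).commute c
    have h1 := hcbi m
    rw [← map_pow, ← map_mul, ← map_mul, h.eq, map_mul] at h1
    rw [← hωp.pow_eq_one_iff_dvd m]
    by_contra hne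
    have h2 : (1 - ω ^ m) • (L c * L (b ^ m)) = 0 := by
      rw [sub_smul, one_smul]
      exact sub_eq_zero.2 h1
    rcases smul_eq_zero.1 h2 with h3 | h3
    · exact hne (sub_eq_zero.1 h3).symm
    · have h4 := congrArg (fun Y => L (c * b ^ m)⁻¹ * Y) h3
      simp only [mul_zero, ← map_mul, inv_mul_cancel, map_one] at h4
      obtain ⟨v0, hv0⟩ : ∃ v : V, v ≠ 0 := by
        haveI : Nontrivial V :=
          Finite.one_lt_card_iff_nontrivial.1 (hcard ▸ Nat.one_lt_pow hn.ne_zero hp.out.one_lt)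
        exact exists_ne 0
      exact hv0 (LinearMap.congr_fun h4 v0)
  -- the lines of `B / Z`
  let line : Option (Fin n) → Subgroup (S ⧸ Z) := fun o =>
    match o with
    | none => Subgroup.zpowers (q b)
    | some i => Subgroup.zpowers (q c * q b ^ (i : ℕ))
  have hlines : ∀ x ∈ B, q x ≠ 1 → ∃ o, Subgroup.zpowers (q x) = line o := by
    intro x hx hx1
    obtain ⟨i, j, hij⟩ := hdecomp x hx
    have hgen : ∀ w : S ⧸ Z, w ^ n = 1 → q x ∈ Subgroup.zpowers w →
        Subgroup.zpowers (q x) = Subgroup.zpowers w := by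
      intro w hwn hmem
      refine Subgroup.eq_of_le_of_card_ge (Subgroup.zpowers_le.2 hmem) ?_
      rw [Nat.card_zpowers, Nat.card_zpowers, orderOf_eq_prime (hpown x hx) hx1]
      exact Nat.le_of_dvd hn.pos (orderOf_dvd_of_pow_eq_one hwn)
    by_cases hj : n ∣ j
    · obtain ⟨t, rfl⟩ := hj
      refine ⟨none, hgen _ (hpown b hb) ?_⟩
      rw [hij, pow_mul, hpown c hc, one_pow, mul_one]
      exact pow_mem (Subgroup.mem_zpowers _) _
    · obtain ⟨j', hj'⟩ : ∃ j' : ℕ, j * j' % n = 1 := by
        have hcp : Nat.Coprime j n := Nat.Coprime.symm (hn.coprime_iff_not_dvd.2 hj)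
        obtain ⟨j', -, hj'⟩ := Nat.exists_mul_mod_eq_one_of_coprime hcp hn.one_lt
        exact ⟨j', hj'⟩
      refine ⟨some ⟨i * j' % n, Nat.mod_lt _ hn.pos⟩, hgen _ ?_ ?_⟩
      · rw [← map_pow, ← map_mul]; exact hpown _ (mul_mem hc (pow_mem hb _))
      · refine ⟨(j : ℤ), ?_⟩
        show (q c * q b ^ (i * j' % n)) ^ (j : ℤ) = q x
        have hcm : Commute (q c) (q b ^ (i * j' % n)) := ((show Commute (q c) (q b) from hqc c hc b hb)).pow_right _
        rw [zpow_natCast, hcm.mul_pow, ← pow_mul, hij,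
          ((show Commute (q b) (q c) from hqc b hb c hc).pow_pow i j).eq]
        congr 1
        have hmod : ∀ a : ℕ, q b ^ a = q b ^ (a % n) := fun a => by
          conv_lhs => rw [← Nat.mod_add_div a n, pow_add, pow_mul, hpown b hb, one_pow, mul_one]
        rw [hmod (i * j' % n * j), hmod i]
        congr 1
        rw [Nat.mod_mul_mod, mul_assoc, mul_comm j', Nat.mul_mod, hj', mul_one, Nat.mod_mod]
  -- `g` fixes the line through `b`
  have hfixline : q (g * b * g⁻¹) ∈ Subgroup.zpowers (q b) := by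
    have hmemB : ∀ m : ℕ, g ^ m * b * (g ^ m)⁻¹ ∈ B := fun m => hBn.conj_mem b hb _
    have hne1 : ∀ m : ℕ, q (g ^ m * b * (g ^ m)⁻¹) ≠ 1 := by
      intro m h
      rw [map_mul, map_mul, map_inv, conj_eq_one_iff] at h
      exact hn.ne_one (Nat.dvd_one.1 (hbexp 1 (by rw [pow_one]; exact h)))
    choose o ho using fun m : Fin r => hlines _ (hmemB m) (hne1 m)
    obtain ⟨m₁, m₂, hne, heq⟩ := Fintype.exists_ne_map_eq_of_card_lt o (by
      rw [Fintype.card_option, Fintype.card_fin, Fintype.card_fin]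
      have h1 := hr.dvd_sub_one hp.out.pos hn.pos
      by_contra hle
      have : r = n + 1 := by omega
      have h2 : 2 ∣ r := by
        rw [this]; rcases hn.eq_two_or_odd with h | h <;> omega
      rcases (Nat.dvd_prime hr.prime).1 h2 with h | h <;> omega)
    wlog hlt : m₁.val < m₂.val generalizing m₁ m₂
    · exact this m₂ m₁ hne.symm heq.symm
        (lt_of_le_of_ne (not_lt.1 hlt) fun h => hne (Fin.ext h).symm)
    have hzz : Subgroup.zpowers (q (g ^ m₁.val * b * (g ^ m₁.val)⁻¹)) =
        Subgroup.zpowers (q (g ^ m₂.val * b * (g ^ m₂.val)⁻¹)) := by rw [ho, ho, heq]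
    set d := m₂.val - m₁.val with hd
    -- the line of `b` is fixed by `g ^ d`
    have hd1 : q (g ^ d * b * (g ^ d)⁻¹) ∈ Subgroup.zpowers (q b) := by
      have h2 : q (g ^ m₂.val * b * (g ^ m₂.val)⁻¹) ∈ Subgroup.zpowers (q (g ^ m₁.val * b * (g ^ m₁.val)⁻¹)) :=
        hzz ▸ Subgroup.mem_zpowers _
      obtain ⟨z, hz⟩ := Subgroup.mem_zpowers_iff.1 h2
      refine ⟨z, ?_⟩
      have h3 := congrArg (fun w => q (g ^ m₁.val)⁻¹ * w * (q (g ^ m₁.val)⁻¹)⁻¹) hz
      simp only [← map_zpow, ← map_mul, ← map_inv, conj_zpow] at h3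
      show q b ^ z = _
      rw [← map_zpow]
      convert! h3 using 2
      · group
      · rw [show g ^ m₂.val = g ^ m₁.val * g ^ d by rw [← pow_add, hd, Nat.add_sub_cancel' hlt.le]]
        group
    have hdr : (orderOf g).Coprime d := by
      rw [hg]
      exact hr.prime.coprime_iff_not_dvd.2 fun h => by
        have h1 := Nat.le_of_dvd (by omega) h
        have := m₂.isLt
        omega
    obtain ⟨t, ht⟩ := exists_pow_eq_self_of_coprime hdr.symm
    have hpows : ∀ t : ℕ, q ((g ^ d) ^ t * b * ((g ^ d) ^ t)⁻¹) ∈ Subgroup.zpowers (q b) := by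
      intro t
      induction t with
      | zero => rw [pow_zero, one_mul, inv_one, mul_one]; exact Subgroup.mem_zpowers _
      | succ t ih =>
        obtain ⟨z, hz⟩ := Subgroup.mem_zpowers_iff.1 ih
        rw [pow_succ', show g ^ d * (g ^ d) ^ t * b * (g ^ d * (g ^ d) ^ t)⁻¹ =
          g ^ d * ((g ^ d) ^ t * b * ((g ^ d) ^ t)⁻¹) * (g ^ d)⁻¹ by group, map_mul, map_mul, ← hz,
          map_inv, ← conj_zpow, ← map_inv, ← map_mul, ← map_mul]
        exact zpow_mem hd1 z
    have := hpows t
    rwa [ht] at this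
  obtain ⟨i, hi⟩ : ∃ i : ℕ, q (g * b * g⁻¹) = q b ^ i := by
    obtain ⟨i, hi⟩ := (isOfFinOrder_of_finite (q b)).mem_powers_iff_mem_zpowers.2 hfixline
    exact ⟨i, hi.symm⟩
  have hiter : ∀ m : ℕ, q (g ^ m * b * (g ^ m)⁻¹) = q b ^ (i ^ m) := by
    intro m
    induction m with
    | zero => simp
    | succ m ih =>
      rw [pow_succ' g, show g * g ^ m * b * (g * g ^ m)⁻¹ = g * (g ^ m * b * (g ^ m)⁻¹) * g⁻¹ by group,
        map_mul, map_mul, ih, map_inv, ← conj_pow, ← map_inv, ← map_mul, ← map_mul, hi, ← pow_mul, pow_succ']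
  have hqb : orderOf (q b) = n := orderOf_eq_prime (hpown b hb) fun h =>
    hn.ne_one (Nat.dvd_one.1 (hbexp 1 (by rw [pow_one]; exact h)))
  have hir : (i : ZMod n) ^ r = 1 := by
    have h := hiter r
    rw [← hg, pow_orderOf_eq_one, one_mul, inv_one, mul_one, hg] at h
    have h2 : 1 ≡ i ^ r [MOD orderOf (q b)] := pow_eq_pow_iff_modEq.1 (by rw [pow_one]; exact h)
    rw [hqb, ← ZMod.natCast_eq_natCast_iff, Nat.cast_one, Nat.cast_pow] at h2
    exact h2.symm
  have hi1 : (i : ZMod n) = 1 := by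
    have h0 : (i : ZMod n) ≠ 0 := fun h => by rw [h, zero_pow hr.prime.ne_zero] at hir; exact zero_ne_one hir
    have h1 := ZMod.pow_card_sub_one_eq_one h0
    have h2 : orderOf (i : ZMod n) ∣ Nat.gcd r (n - 1) :=
      Nat.dvd_gcd (orderOf_dvd_of_pow_eq_one hir) (orderOf_dvd_of_pow_eq_one h1)
    rw [(hr.prime.coprime_iff_not_dvd.2 (fun h => by
      have := Nat.le_of_dvd (by omega) h; omega) : Nat.Coprime r (n - 1)).gcd_eq_one, Nat.dvd_one,
      orderOf_eq_one_iff] at h2
    exact h2
  -- `g` commutes with `b` modulo scalars, hence exactly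
  have hcomm_of : ∀ w ∈ B, q (g * w * g⁻¹) = q w → g * w = w * g := by
    intro w _ hw
    have hz : ⁅g, w⁆ ∈ Z := by
      rw [← hkerq, commutatorElement_def, map_mul, hw, map_inv, mul_inv_cancel]
    have hzc := (show Sc V ⁅g, w⁆ from hz).commute
    have hconj : ∀ m : ℕ, g ^ m * w * (g ^ m)⁻¹ = ⁅g, w⁆ ^ m * w := by
      intro m
      induction m with
      | zero => simp
      | succ m ih =>
        calc g ^ (m + 1) * w * (g ^ (m + 1))⁻¹ = g * (g ^ m * w * (g ^ m)⁻¹) * g⁻¹ := by
              rw [pow_succ']; group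
          _ = g * ⁅g, w⁆ ^ m * w * g⁻¹ := by rw [ih]; group
          _ = ⁅g, w⁆ ^ m * (g * w * g⁻¹) := by rw [((hzc g).pow_left m).symm.eq]; group
          _ = ⁅g, w⁆ ^ (m + 1) * w := by
              rw [show g * w * g⁻¹ = ⁅g, w⁆ * w by rw [commutatorElement_def]; group, ← mul_assoc, ← pow_succ]
    have h1 : ⁅g, w⁆ = 1 := by
      have hr' := hconj r
      rw [← hg, pow_orderOf_eq_one, one_mul, inv_one, mul_one, eq_comm, mul_eq_right, hg] at hr'
      have h2 : orderOf ⁅g, w⁆ ∣ Nat.gcd r n :=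
        Nat.dvd_gcd (orderOf_dvd_of_pow_eq_one hr') (orderOf_dvd_of_pow_eq_one (hcp g w hz))
      rw [((Nat.coprime_primes hr.prime hn).2 (by omega)).gcd_eq_one, Nat.dvd_one, orderOf_eq_one_iff] at h2
      exact h2
    exact commutatorElement_eq_one_iff_mul_comm.1 h1
  have hgb : g * b = b * g := hcomm_of b hb (by
    rw [hi]
    conv_rhs => rw [← pow_one (q b)]
    rw [pow_eq_pow_iff_modEq, hqb, ← ZMod.natCast_eq_natCast_iff, hi1, Nat.cast_one])
  have hgc : g * c = c * g := by
    refine hcomm_of c hc ?_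
    obtain ⟨a, e, hae⟩ := hdecomp _ (hBn.conj_mem c hc g)
    -- `[b, c]` is scalar, so it is unchanged
    have h1 : L b * L (g * c * g⁻¹) = ω • (L (g * c * g⁻¹) * L b) := by
      have hcb : g⁻¹ * b = b * g⁻¹ := (show Commute g b from hgb).inv_left.eq
      rw [map_mul, map_mul, ← mul_assoc, ← mul_assoc, ← map_mul L b g, ← hgb, map_mul, mul_assoc (L g),
        hswap, mul_smul_comm, smul_mul_assoc, mul_assoc (L g), mul_assoc (L c) (L b), ← map_mul L b g⁻¹, ← hcb,
        map_mul, mul_assoc, mul_assoc]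
    have hz : (b ^ a * c ^ e)⁻¹ * (g * c * g⁻¹) ∈ Z := by
      rw [← hkerq, map_mul, map_inv, hae, map_mul, map_pow, map_pow, inv_mul_cancel]
    obtain ⟨k, hk⟩ := hscal _ hz
    have hk0 : k ≠ 0 := by
      rintro rfl
      rw [zero_smul] at hk
      have := congrArg (fun Y => L ((b ^ a * c ^ e)⁻¹ * (g * c * g⁻¹))⁻¹ * Y) hk
      simp only [mul_zero, ← map_mul, inv_mul_cancel, map_one] at this
      obtain ⟨v0, hv0⟩ : ∃ v : V, v ≠ 0 := by
        haveI : Nontrivial V :=
          Finite.one_lt_card_iff_nontrivial.1 (hcard ▸ Nat.one_lt_pow hn.ne_zero hp.out.one_lt)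
        exact exists_ne 0
      exact hv0 (LinearMap.congr_fun this v0)
    have hgc' : L (g * c * g⁻¹) = k • (L b ^ a * L c ^ e) := by
      rw [← map_pow, ← map_pow, ← map_mul,
        show g * c * g⁻¹ = b ^ a * c ^ e * ((b ^ a * c ^ e)⁻¹ * (g * c * g⁻¹)) by rw [mul_inv_cancel_left],
        map_mul L (b ^ a * c ^ e), hk, mul_smul_comm, mul_one]
    rw [hgc', mul_smul_comm, smul_mul_assoc, ← mul_assoc, ← pow_succ' (L b), pow_succ (L b), mul_assoc,
      hbcj, mul_smul_comm, mul_assoc, smul_comm ω k] at h1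
    have h2 : (k * (ω ^ e - ω)) • (L b ^ a * (L c ^ e * L b)) = 0 := by
      rw [mul_smul, sub_smul, smul_sub, h1, sub_self]
    have he1 : ω ^ e = ω ^ 1 := by
      rw [pow_one]
      by_contra hne
      have h3 := (smul_eq_zero.1 h2).resolve_left (mul_ne_zero hk0 (sub_ne_zero.2 hne))
      rw [← map_pow, ← map_pow, ← map_mul, ← map_mul] at h3
      have := congrArg (fun Y => L (b ^ a * (c ^ e * b))⁻¹ * Y) h3
      simp only [mul_zero, ← map_mul, inv_mul_cancel, map_one] at this
      obtain ⟨v0, hv0⟩ : ∃ v : V, v ≠ 0 := by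
        haveI : Nontrivial V :=
          Finite.one_lt_card_iff_nontrivial.1 (hcard ▸ Nat.one_lt_pow hn.ne_zero hp.out.one_lt)
        exact exists_ne 0
      exact hv0 (LinearMap.congr_fun this v0)
    have hqe : q c ^ e = q c := by
      have h3 : e % n = 1 % n := by
        have := pow_eq_pow_iff_modEq.1 (show (Units.mk0 ω hω0) ^ e = (Units.mk0 ω hω0) ^ 1 from
          Units.ext (by simpa using he1))
        rw [← orderOf_units, Units.val_mk0, ← hωp.eq_orderOf] at this
        exact this
      have hmod : ∀ t : ℕ, q c ^ t = q c ^ (t % n) := fun t => by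
        conv_lhs => rw [← Nat.mod_add_div t n, pow_add, pow_mul, hpown c hc, one_pow, mul_one]
      rw [hmod e, h3, ← hmod 1, pow_one]
    rw [hqe] at hae
    -- the translation part dies under the iteration
    have hqg : q (g * b * g⁻¹) = q b := by rw [hgb, mul_inv_cancel_right]
    have hpw : ∀ m : ℕ, q (g ^ m * c * (g ^ m)⁻¹) = q b ^ (a * m) * q c := by
      intro m
      induction m with
      | zero => simp
      | succ m ih =>
        rw [pow_succ' g, show g * g ^ m * c * (g * g ^ m)⁻¹ = g * (g ^ m * c * (g ^ m)⁻¹) * g⁻¹ by group,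
          map_mul, map_mul, ih, map_inv, ← conj_mul, ← conj_pow, ← map_inv, ← map_mul, ← map_mul, ← map_mul,
          ← map_mul, hae, hqg, ← mul_assoc, ← pow_add, Nat.mul_succ, add_comm]
    have hr' := hpw r
    rw [← hg, pow_orderOf_eq_one, one_mul, inv_one, mul_one, eq_comm, mul_eq_right, hg] at hr'
    have hna : n ∣ a := ((hn.dvd_mul).1 (hbexp _ hr')).resolve_right fun h =>
      absurd ((Nat.prime_dvd_prime_iff_eq hn hr.prime).1 h) (by omega)
    obtain ⟨t, rfl⟩ := hna
    rw [hae, pow_mul, hpown b hb, one_pow, one_mul]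
  exact hgZ (hcentS g hgb hgc)

end H79.LinSolv
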