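import Cfsg.Agent.H79LinSolv

/-! Solvable coprime linear groups transitive on nonzero vectors and planes live in dimension 3 or 5. -/

set_option autoImplicit false

namespace H79.LinSolv

open H79.LinField
open scoped commutatorElement

universe u v

variable {V : Type u} [AddCommGroup V] [Finite V] {p : ℕ} [hp : Fact p.Prime]
  {S : Type v} [Group S] [Finite S] [DistribMulAction S V] [FaithfulSMul S V]

omit [Finite V] hp [Finite S] in
/-- A nontrivial solvable finite group has an elementary abelian normal subgroup. -/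
theorem exists_elementary_normal {K : Type v} [Group K] [Finite K] [Nontrivial K]
    (hK : Group.IsSolvable K) : ∃ (l : ℕ) (M : Subgroup K), l.Prime ∧ M.Normal ∧ M ≠ ⊥ ∧
      (∀ a ∈ M, ∀ b ∈ M, a * b = b * a) ∧ ∀ a ∈ M, a ^ l = 1 := by
  classical
  obtain ⟨M, ⟨hMn, hM1⟩, hMmin⟩ := Set.Finite.exists_minimal
    (s := {M : Subgroup K | M.Normal ∧ M ≠ ⊥}) (Set.toFinite _) ⟨⊤, inferInstance, top_ne_bot⟩
  haveI := hMn
  haveI := hK
  have hab : ⁅M, M⁆ = ⊥ := by
    by_contra hne
    have heq : ⁅M, M⁆ = M := le_antisymm (Subgroup.commutator_le_left M M)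
      (hMmin ⟨inferInstance, hne⟩ (Subgroup.commutator_le_left M M))
    haveI : Nontrivial M := M.nontrivial_iff_ne_bot.2 hM1
    refine (IsSolvable.commutator_lt_top_of_nontrivial (G := M)).ne
      (Subgroup.map_injective M.subtype_injective ?_)
    rw [Subgroup.map_subtype_commutator, heq, ← MonoidHom.range_eq_map, Subgroup.range_subtype]
  have hcomm : ∀ a ∈ M, ∀ b ∈ M, a * b = b * a := fun a ha b hb => by
    have := Subgroup.commutator_mem_commutator ha hb
    rw [hab, Subgroup.mem_bot] at this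
    exact commutatorElement_eq_one_iff_mul_comm.1 this
  haveI : Nontrivial M := M.nontrivial_iff_ne_bot.2 hM1
  obtain ⟨l, hl, hlM⟩ := Nat.exists_prime_and_dvd (Finite.one_lt_card (α := M)).ne'
  haveI := Fact.mk hl
  refine ⟨l, M, hl, hMn, hM1, hcomm, ?_⟩
  let B : Subgroup K :=
    { carrier := {a | a ∈ M ∧ a ^ l = 1}
      one_mem' := ⟨one_mem _, one_pow _⟩
      mul_mem' := fun {a b} ha hb => ⟨mul_mem ha.1 hb.1, by
        rw [(show Commute a b from hcomm a ha.1 b hb.1).mul_pow, ha.2, hb.2, one_mul]⟩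
      inv_mem' := fun {a} ha => ⟨inv_mem ha.1, by rw [inv_pow, ha.2, inv_one]⟩ }
  have hBn : B.Normal := ⟨fun a ha g =>
    ⟨hMn.conj_mem a ha.1 g, by rw [conj_pow, ha.2, mul_one, mul_inv_cancel]⟩⟩
  have hB1 : B ≠ ⊥ := by
    obtain ⟨a, ha⟩ := exists_prime_orderOf_dvd_card' (G := M) l hlM
    intro h
    have hmem : (a : K) ∈ B := by
      refine ⟨a.2, ?_⟩
      rw [← Subgroup.coe_pow, ← ha, pow_orderOf_eq_one, Subgroup.coe_one]
    rw [h, Subgroup.mem_bot] at hmem
    rw [show a = 1 from Subtype.ext hmem, orderOf_one] at ha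
    exact hl.ne_one ha.symm
  intro a ha
  exact (hMmin ⟨hBn, hB1⟩ (fun _ h => h.1) ha).2

omit [Finite V] in
/-- A subgroup with two elements has one nonzero element. -/
theorem eq_of_card_two {U : AddSubgroup V} (hU : Nat.card U = 2) {a b : V} (ha : a ∈ U) (hb : b ∈ U)
    (ha0 : a ≠ 0) (hb0 : b ≠ 0) : a = b := by
  obtain ⟨u, -, huniq⟩ := (Nat.card_eq_two_iff' (0 : U)).1 hU
  exact congrArg Subtype.val ((huniq ⟨a, ha⟩ fun h => ha0 (congrArg Subtype.val h)).trans
    (huniq ⟨b, hb⟩ fun h => hb0 (congrArg Subtype.val h)).symm)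

/-- A Hall subgroup for a set of primes of a solvable group. -/
theorem exists_hall {G : Type v} [Group G] [Finite G] (hG : Group.IsSolvable G) (π : Finset ℕ)
    (hπ : ∀ q ∈ π, q.Prime) :
    ∃ K : Subgroup G, (∀ q ∈ π, q ^ (Nat.card G).factorization q ∣ Nat.card K) ∧
      ∀ l : ℕ, l.Prime → l ∣ Nat.card K → l ∈ π := by
  classical
  haveI := hG
  set m := ∏ q ∈ π, q ^ (Nat.card G).factorization q with hm
  have hdvd : ∀ q ∈ π, q ^ (Nat.card G).factorization q ∣ m := fun q hq =>
    Finset.dvd_prod_of_mem _ hq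
  have hmG : m ∣ Nat.card G := by
    rw [hm]
    refine Finset.prod_dvd_of_isRelPrime (fun a ha b hb hab => ?_) fun q _ => Nat.ordProj_dvd _ _
    exact Nat.coprime_iff_isRelPrime.1 (Nat.Coprime.pow _ _ ((Nat.coprime_primes (hπ a ha) (hπ b hb)).2 hab))
  obtain ⟨k, hk⟩ := hmG
  have hprimes : ∀ l : ℕ, l.Prime → l ∣ m → l ∈ π := by
    intro l hl h
    obtain ⟨q, hq, hlq⟩ := (hl.prime.dvd_finsetProd_iff _).1 h
    rwa [(Nat.prime_dvd_prime_iff_eq hl (hπ q hq)).1 (hl.dvd_of_dvd_pow hlq)]
  have hcop : m.Coprime k := by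
    refine Nat.coprime_of_dvd fun l hl h1 h2 => ?_
    have hlπ := hprimes l hl h1
    have h3 : l ^ ((Nat.card G).factorization l + 1) ∣ Nat.card G := by
      have h4 := Nat.mul_dvd_mul (hdvd l hlπ) h2
      rw [← hk, ← pow_succ] at h4
      exact h4
    exact Nat.pow_succ_factorization_not_dvd Nat.card_pos.ne' hl h3
  obtain ⟨K, hK⟩ := CfsgLib.Hall.exists_subgroup_card hk hcop
  exact ⟨K, fun q hq => hK ▸ hdvd q hq, fun l hl h => hprimes l hl (hK ▸ h)⟩

variable {n : ℕ} (hexp : ∀ v : V, p • v = 0) (hcard : Nat.card V = p ^ n)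
  (hsolv : Group.IsSolvable S)
  (htr : ∀ v w : V, v ≠ 0 → w ≠ 0 → ∃ s : S, s • v = w)

include hexp hcard in
omit [Finite S] in
/-- The only nonzero fixed line of a subgroup of index dividing `n - 1`. -/
theorem fx_card_eq {s : ℕ} (hn : 3 ≤ n) (hs : CfsgLib.NumberTheory.IsPPD s p (n - 1)) {x : S}
    (hx : orderOf x = s) : Nat.card (fx x : AddSubgroup V) = p := by
  obtain ⟨c, hc, hcn, hdvd⟩ := fx_dim hcard (show 0 < n - 1 by omega) hs hx
  obtain ⟨d, hd⟩ := hdvd
  have : c = 1 := by
    rcases Nat.lt_or_ge d 2 with h | h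
    · interval_cases d <;> simp at hd <;> omega
    · have : 2 * (n - 1) ≤ (n - 1) * d := by nlinarith
      omega
  rw [hc, this, pow_one]

include hexp hcard hsolv htr in
/-- In composite dimension there is no such group. -/
theorem composite (hn : 4 ≤ n) (hnp : ¬ n.Prime) (h6 : ¬ (p = 2 ∧ n = 6))
    (hdiv : (p ^ n - 1) * (p ^ n - p) * (p - 1) ∣ Nat.card S * ((p ^ 2 - 1) * (p ^ 2 - p))) : False := by
  classical
  obtain ⟨r, hr⟩ := CfsgLib.NumberTheory.exists_isPPD_of_two_lt (a := p) (n := n) hp.out.one_lt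
    (by omega) (fun h => h6 h)
  obtain ⟨s, hs⟩ := CfsgLib.NumberTheory.exists_isPPD_of_two_lt (a := p) (n := n - 1) hp.out.one_lt
    (by omega) (fun h => hnp (by rw [show n = 7 by omega]; norm_num))
  have hp1 := hp.out.pos
  have hsn := hs.lt hp1 (show 0 < n - 1 by omega)
  have hrn := hr.lt hp1 (show 0 < n by omega)
  have hrs : r ≠ s := by
    intro h
    subst h
    have := Nat.le_of_dvd (show 0 < n - 1 by omega)
      ((hr.dvd_pow_sub_one_iff hp1 (by omega) (n - 1)).1 hs.2.1)
    omega
  haveI := Fact.mk hr.prime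
  haveI := Fact.mk hs.prime
  have hrS : r ∣ Nat.card S := hr.2.1.trans (pow_sub_one_dvd hcard htr (by omega))
  have hsp : ¬ s ∣ p := hs.not_dvd_base hp1 (by omega)
  have hsj : ∀ j, 0 < j → j < n - 1 → ¬ s ∣ p ^ j - 1 := fun j h1 h2 => hs.2.2 j h1 h2
  have hs1 : ¬ s ∣ p - 1 := by simpa using hsj 1 one_pos (by omega)
  have hsS : s ∣ Nat.card S := by
    have h1 : s ∣ (p ^ n - 1) * (p ^ n - p) * (p - 1) := by
      refine dvd_mul_of_dvd_left (dvd_mul_of_dvd_right ?_ _) _
      rw [show p ^ n - p = p * (p ^ (n - 1) - 1) by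
        rw [Nat.mul_sub_one, ← pow_succ', Nat.sub_add_cancel (show 1 ≤ n by omega)]]
      exact dvd_mul_of_dvd_right hs.2.1 _
    rcases hs.prime.dvd_mul.1 (h1.trans hdiv) with h | h
    · exact h
    · exfalso
      rcases hs.prime.dvd_mul.1 h with h | h
      · exact hsj 2 two_pos (by omega) h
      · rw [sq, ← Nat.mul_sub_one] at h
        exact (hs.prime.dvd_mul.1 h).elim hsp hs1
  obtain ⟨K, hKfull, hKprimes⟩ := exists_hall hsolv {r, s} (by
    intro q hq
    simp only [Finset.mem_insert, Finset.mem_singleton] at hq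
    rcases hq with rfl | rfl
    exacts [hr.prime, hs.prime])
  have helt : ∀ q : ℕ, q.Prime → q ∈ ({r, s} : Finset ℕ) → q ∣ Nat.card S → ∃ g ∈ K, orderOf g = q := by
    intro q hq hqπ hqS
    haveI := Fact.mk hq
    obtain ⟨g, hg⟩ := exists_prime_orderOf_dvd_card' (G := K) q
      ((dvd_pow_self q (hq.factorization_pos_of_dvd Nat.card_pos.ne' hqS).ne').trans (hKfull q hqπ))
    exact ⟨g, g.2, by rw [Subgroup.orderOf_coe, hg]⟩
  obtain ⟨g, hgK, hg⟩ := helt r hr.prime (by simp) hrS
  obtain ⟨t, htK, ht⟩ := helt s hs.prime (by simp) hsS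
  -- an element of order `r` fixing a line is absurd
  have hline : ∀ (x : S) (U : AddSubgroup V), orderOf x = r → Nat.card U = p →
      (∀ u ∈ U, x • u ∈ U) → False := by
    intro x U hx hU hinv
    have hU0 : U ≠ ⊥ := fun h => by
      rw [h, AddSubgroup.card_bot] at hU
      exact hp.out.ne_one hU.symm
    have h := eq_top_of_invariant hcard (show 0 < n by omega) hr hx U hinv hU0
    rw [h, Nat.card_congr AddSubgroup.topEquiv.toEquiv, hcard] at hU
    have := Nat.pow_right_injective hp.out.two_le (hU.trans (pow_one p).symm)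
    omega
  haveI : Nontrivial K := ⟨⟨⟨g, hgK⟩, 1, fun h => hr.prime.ne_one (by
    rw [← hg, show g = 1 from congrArg Subtype.val h, orderOf_one])⟩⟩
  haveI := hsolv
  obtain ⟨l, M, hl, hMn, hM1, hMc, hMe⟩ := exists_elementary_normal (K := K) inferInstance
  haveI := Fact.mk hl
  obtain ⟨⟨x, hxM⟩, hx1⟩ := Subgroup.ne_bot_iff_exists_ne_one.1 hM1
  have hxord : orderOf (x : S) = l := by
    rw [Subgroup.orderOf_coe]
    exact orderOf_eq_prime (hMe x hxM) fun h => hx1 (Subtype.ext h)
  have hlK : l ∣ Nat.card K := by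
    rw [← hxord, Subgroup.orderOf_coe]; exact orderOf_dvd_natCard x
  have hlπ := hKprimes l hl hlK
  simp only [Finset.mem_insert, Finset.mem_singleton] at hlπ
  rcases hlπ with hlr | hls
  · -- an `r`-group
    subst hlr
    set M' := M.map K.subtype with hM'
    have hM'c : ∀ a ∈ M', ∀ b ∈ M', a * b = b * a := by
      rintro _ ⟨a, ha, rfl⟩ _ ⟨b, hb, rfl⟩
      exact congrArg Subtype.val (hMc a ha b hb)
    have hxM' : (x : S) ∈ M' := ⟨x, hxM, rfl⟩
    set R := ring V M'
    have hcomm := ring_comm (V := V) hM'c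
    have hxinv : ∀ φ ∈ R, ∀ v, φ ((x : S) • v) = (x : S) • φ v := fun φ hφ v =>
      DFunLike.congr_fun (hcomm φ hφ _ (io_mem_ring hxM')) v
    have hinj : ∀ φ ∈ R, φ ≠ 0 → Function.Injective φ := by
      intro φ hφ hne
      rw [injective_iff_map_eq_zero]
      by_contra hnot
      push Not at hnot
      obtain ⟨v, hv, hv0⟩ := hnot
      have h := eq_top_of_invariant hcard (show 0 < n by omega) hr hxord (φ : V →+ V).ker
        (fun u hu => by
          replace hu : φ u = 0 := hu
          show φ ((x : S) • u) = 0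
          rw [hxinv φ hφ]
          show (x : S) • (φ : V →+ V) u = 0
          rw [hu, smul_zero])
        (fun hb => hv0 (AddSubgroup.mem_bot.1 (hb ▸ (AddMonoidHom.mem_ker.2 hv : v ∈ (φ : V →+ V).ker))))
      exact hne (DFunLike.ext _ _ fun w => AddMonoidHom.mem_ker.1 (h.symm ▸ AddSubgroup.mem_top w))
    obtain ⟨v0, hv0⟩ : ∃ v : V, v ≠ 0 := by
      haveI : Nontrivial V :=
        Finite.one_lt_card_iff_nontrivial.1 (hcard ▸ Nat.one_lt_pow (by omega) hp.out.one_lt)
      exact exists_ne 0
    have hsurj : ∀ v : V, ∃ φ ∈ R, φ v0 = v := by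
      let U : AddSubgroup V :=
        { carrier := {v | ∃ φ ∈ R, φ v0 = v}
          zero_mem' := ⟨0, zero_mem _, rfl⟩
          add_mem' := by
            rintro a b ⟨φ, hφ, rfl⟩ ⟨ψ, hψ, rfl⟩
            exact ⟨φ + ψ, add_mem hφ hψ, rfl⟩
          neg_mem' := by
            rintro a ⟨φ, hφ, rfl⟩
            exact ⟨-φ, neg_mem hφ, rfl⟩ }
      have hv0U : v0 ∈ U := ⟨1, one_mem _, rfl⟩
      have h : U = ⊤ := eq_top_of_invariant hcard (show 0 < n by omega) hr hxord U
        (fun u hu => by
          obtain ⟨φ, hφ, rfl⟩ := hu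
          exact ⟨io (V := V) (x : S) * φ, mul_mem (io_mem_ring hxM') hφ, rfl⟩)
        (fun hb => hv0 (AddSubgroup.mem_bot.1 (hb ▸ hv0U)))
      exact fun v => (h.symm ▸ AddSubgroup.mem_top v : v ∈ U)
    obtain ⟨e, he, hsem⟩ := semilinear hexp (show n ≠ 0 by omega) hcard R hcomm hinj v0 hsurj
    have htM : ∀ a ∈ M', t * a * t⁻¹ ∈ M' := by
      rintro _ ⟨a, ha, rfl⟩
      exact ⟨⟨t, htK⟩ * a * ⟨t, htK⟩⁻¹, hMn.conj_mem a ha _, rfl⟩
    have htM' : ∀ a ∈ M', t⁻¹ * a * t⁻¹⁻¹ ∈ M' := by
      rintro _ ⟨a, ha, rfl⟩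
      exact ⟨⟨t, htK⟩⁻¹ * a * ⟨t, htK⟩⁻¹⁻¹, hMn.conj_mem a ha _, rfl⟩
    obtain ⟨a, φ, haφ, hcrit⟩ := hsem (S := S) t (ring_conj htM) (fun l hl => by
      have := ring_conj htM' l hl
      rwa [inv_inv] at this)
    have hiter : ∀ m : ℕ, ∃ A : GaloisField p n, ∀ v, e (t ^ m • v) = A * (φ ^ m) (e v) := by
      intro m
      induction m with
      | zero => exact ⟨1, fun v => by rw [pow_zero, one_smul, one_mul, pow_zero]; rfl⟩
      | succ m ih =>
        obtain ⟨A, hA⟩ := ih
        refine ⟨(a : GaloisField p n) * φ A, fun v => ?_⟩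
        rw [pow_succ', mul_smul, haφ, hA, map_mul, mul_assoc, pow_succ']
        rfl
    have hφs : φ ^ s = 1 := by
      obtain ⟨A, hA⟩ := hiter s
      rw [← ht, pow_orderOf_eq_one, ht] at hA
      simp only [one_smul] at hA
      have hA1 : A = 1 := by
        have := hA (e.symm 1)
        rw [e.apply_symm_apply, map_one, mul_one] at this
        exact this.symm
      refine RingEquiv.ext fun w => ?_
      have := hA (e.symm w)
      rw [e.apply_symm_apply, hA1, one_mul] at this
      exact this.symm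
    haveI : Finite (GaloisField p n ≃+* GaloisField p n) :=
      Finite.of_injective (fun σ => (σ : GaloisField p n → GaloisField p n)) DFunLike.coe_injective
    have hφ1 : φ = 1 := by
      have h1 : orderOf φ ∣ Nat.gcd s n := Nat.dvd_gcd (orderOf_dvd_of_pow_eq_one hφs)
        (by have := orderOf_dvd_natCard φ; rwa [H79.LinField.card_aut (show n ≠ 0 by omega)] at this)
      rw [((hs.prime.coprime_iff_not_dvd).2 fun h => hnp (by
        have h2 := Nat.le_of_dvd (by omega) h
        have h3 : s = n := by omega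
        exact h3 ▸ hs.prime) : Nat.Coprime s n).gcd_eq_one, Nat.dvd_one, orderOf_eq_one_iff] at h1
      exact h1
    have hfix : io (V := V) t * io (V := V) (x : S) * io (V := V) t⁻¹ = io (V := V) (x : S) :=
      (hcrit _ (io_mem_ring hxM')).2 (by rw [hφ1]; rfl)
    have hcommute : t * (x : S) = (x : S) * t := by
      have h1 : t * (x : S) * t⁻¹ = (x : S) := ext_smul (V := V) fun v => by
        rw [mul_smul, mul_smul]
        exact DFunLike.congr_fun hfix v
      exact mul_inv_eq_iff_eq_mul.1 h1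
    exact hline x (fx t) hxord (fx_card_eq hexp hcard (by omega) hs ht) fun u hu => by
      show t • ((x : S) • u) = (x : S) • u
      rw [← mul_smul, hcommute, mul_smul, show t • u = u from hu]
  · -- an `s`-group
    subst hls
    set L : AddSubgroup V := fx (x : S) with hL
    have hLc : Nat.card L = p := fx_card_eq hexp hcard (by omega) hs hxord
    have hLfix : ∀ y ∈ M, ∀ v ∈ L, (y : S) • v = v := by
      intro y hy
      by_cases hy1 : y = 1
      · intro v _; rw [hy1, Subgroup.coe_one, one_smul]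
      have hyord : orderOf (y : S) = l := by
        rw [Subgroup.orderOf_coe]; exact orderOf_eq_prime (hMe y hy) hy1
      have hinvL : ∀ u ∈ L, (y : S) • u ∈ L := fun u hu => by
        show (x : S) • ((y : S) • u) = (y : S) • u
        have hc : (x : S) * y = y * x := congrArg Subtype.val (hMc x hxM y hy)
        rw [← mul_smul, hc, mul_smul, show (x : S) • u = u from hu]
      have h1 := orbit_count hyord L hinvL
      have h2 : Nat.card (L ⊓ fx (y : S) : AddSubgroup V) ∣ Nat.card L :=
        AddSubgroup.card_dvd_of_le inf_le_left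
      rw [hLc] at h1 h2
      rcases (Nat.dvd_prime hp.out).1 h2 with h3 | h3
      · rw [h3] at h1
        exact absurd ((Nat.modEq_iff_dvd' hp.out.pos).1 h1.symm) hs1
      · have h4 : L ⊓ fx (y : S) = L := AddSubgroup.eq_of_le_of_card_ge inf_le_left (by rw [h3, hLc])
        exact fun v hv => ((h4.symm ▸ hv : v ∈ L ⊓ fx (y : S))).2
    refine hline g L hg hLc fun u hu => ?_
    show (x : S) • (g • u) = g • u
    have hmem : (⟨g, hgK⟩ : K)⁻¹ * x * ⟨g, hgK⟩ ∈ M := by
      have := hMn.conj_mem x hxM (⟨g, hgK⟩ : K)⁻¹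
      rwa [inv_inv] at this
    have h1 := hLfix _ hmem u hu
    rw [Subgroup.coe_mul, Subgroup.coe_mul, Subgroup.coe_inv, mul_smul, mul_smul, inv_smul_eq_iff] at h1
    exact h1

include hexp hcard hsolv htr in
/-- The exceptional dimension six over the field with two elements. -/
theorem six (hp2 : p = 2) (hn : n = 6) [Module (ZMod p) V]
    (hdiv : (p ^ n - 1) * (p ^ n - p) * (p - 1) ∣ Nat.card S * ((p ^ 2 - 1) * (p ^ 2 - p))) : False := by
  classical
  subst hp2 hn
  haveI h31 : Fact (Nat.Prime 31) := ⟨by norm_num⟩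
  haveI h3 : Fact (Nat.Prime 3) := ⟨Nat.prime_three⟩
  have hs : CfsgLib.NumberTheory.IsPPD 31 2 (6 - 1) := by
    refine ⟨h31.out, by norm_num, fun k h1 h2 => ?_⟩
    interval_cases k <;> norm_num
  have h31S : 31 ∣ Nat.card S := by
    norm_num at hdiv
    rcases h31.out.dvd_mul.1 (dvd_trans (by norm_num) hdiv : 31 ∣ Nat.card S * 6) with h | h
    · exact h
    · norm_num at h
  obtain ⟨K, hKfull, hKprimes⟩ := exists_hall hsolv {3, 7, 31} (by
    intro q hq
    simp only [Finset.mem_insert, Finset.mem_singleton] at hq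
    rcases hq with rfl | rfl | rfl <;> norm_num)
  obtain ⟨⟨t, htK⟩, ht⟩ := exists_prime_orderOf_dvd_card' (G := K) 31
    ((dvd_pow_self 31 (h31.out.factorization_pos_of_dvd Nat.card_pos.ne' h31S).ne').trans
      (hKfull 31 (by simp)))
  rw [← Subgroup.orderOf_coe] at ht
  replace ht : orderOf t = 31 := ht
  set L : AddSubgroup V := fx t with hL
  have hLc : Nat.card L = 2 := fx_card_eq hexp hcard (by norm_num) hs ht
  -- a line fixed by `K` is absurd
  have habs : ∀ U : AddSubgroup V, Nat.card U = 2 → (∀ k ∈ K, ∀ u ∈ U, k • u ∈ U) → False := by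
    intro U hU hinv
    obtain ⟨v0, hv0, hne⟩ : ∃ v ∈ U, v ≠ 0 := by
      by_contra hno
      push Not at hno
      have : U = ⊥ := (AddSubgroup.eq_bot_iff_forall U).2 hno
      rw [this, AddSubgroup.card_bot] at hU
      exact absurd hU (by norm_num)
    have hKfix : K ≤ MulAction.stabilizer S v0 := by
      intro k hk
      rw [MulAction.mem_stabilizer_iff]
      have h1 : k • v0 ∈ U := hinv k hk v0 hv0
      have h2 : k • v0 ≠ 0 := fun h => hne ((smul_eq_zero_iff_eq k).1 h)
      exact eq_of_card_two hU h1 hv0 h2 hne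
    have horb : MulAction.orbit S v0 = ({0} : Set V)ᶜ := by
      ext v
      refine ⟨?_, fun hv => htr v0 v hne hv⟩
      rintro ⟨s, rfl⟩ e
      exact hne ((smul_eq_zero_iff_eq s).mp e)
    have h1 := (MulAction.stabilizer S v0).card_mul_index
    rw [MulAction.index_stabilizer, horb, Set.ncard_compl, Set.ncard_singleton, hcard] at h1
    have h2 : 3 ^ (Nat.card S).factorization 3 ∣ Nat.card (MulAction.stabilizer S v0) :=
      (hKfull 3 (by simp)).trans (Subgroup.card_dvd_of_le hKfix)
    have h3' : 3 ^ ((Nat.card S).factorization 3 + 1) ∣ Nat.card S := by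
      have h4 := Nat.mul_dvd_mul h2 (show 3 ∣ 2 ^ 6 - 1 by norm_num)
      rw [h1, ← pow_succ] at h4
      exact h4
    exact Nat.pow_succ_factorization_not_dvd Nat.card_pos.ne' Nat.prime_three h3'
  haveI : Nontrivial K := ⟨⟨⟨t, htK⟩, 1, fun h => by
    have h2 : orderOf t = 1 := orderOf_eq_one_iff.2 (congrArg Subtype.val h)
    omega⟩⟩
  haveI := hsolv
  obtain ⟨l, M, hl, hMn, hM1, hMc, hMe⟩ := exists_elementary_normal (K := K) inferInstance
  haveI := Fact.mk hl
  obtain ⟨⟨x, hxM⟩, hx1⟩ := Subgroup.ne_bot_iff_exists_ne_one.1 hM1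
  have hxord : orderOf (x : S) = l := by
    rw [Subgroup.orderOf_coe]
    exact orderOf_eq_prime (hMe x hxM) fun h => hx1 (Subtype.ext h)
  have hlK : l ∣ Nat.card K := by
    rw [← hxord, Subgroup.orderOf_coe]; exact orderOf_dvd_natCard x
  have hlπ := hKprimes l hl hlK
  -- the common fixed space of `M`
  let W : AddSubgroup V := ⨅ y : M, fx ((y : K) : S)
  have hmemW : ∀ v, v ∈ W ↔ ∀ y ∈ M, ((y : K) : S) • v = v := fun v => by
    simp only [W, AddSubgroup.mem_iInf]
    exact ⟨fun h y hy => h ⟨y, hy⟩, fun h y => h y y.2⟩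
  have hWinv : ∀ k ∈ K, ∀ v ∈ W, k • v ∈ W := by
    intro k hk v hv
    rw [hmemW] at hv ⊢
    intro y hy
    have hy' := hMn.conj_mem y hy (⟨k, hk⟩ : K)⁻¹
    rw [inv_inv] at hy'
    have h1 := hv _ hy'
    rw [Subgroup.coe_mul, Subgroup.coe_mul, Subgroup.coe_inv, mul_smul, mul_smul, inv_smul_eq_iff] at h1
    exact h1
  by_cases hl31 : l = 31
  · subst hl31
    have hLx : Nat.card (fx (x : S) : AddSubgroup V) = 2 := fx_card_eq hexp hcard (by norm_num) hs hxord
    have hW : W = fx (x : S) := by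
      refine le_antisymm (iInf_le (fun y : M => fx ((y : K) : S)) ⟨x, hxM⟩) ?_
      intro v hv
      rw [hmemW]
      intro y hy
      by_cases hy1 : y = 1
      · rw [hy1, Subgroup.coe_one, one_smul]
      have hc : (x : S) * y = y * x := congrArg Subtype.val (hMc x hxM y hy)
      have h1 : (x : S) • ((y : S) • v) = (y : S) • v := by
        rw [← mul_smul, hc, mul_smul, show (x : S) • v = v from hv]
      by_cases hv0 : v = 0
      · rw [hv0, smul_zero]
      exact eq_of_card_two hLx h1 hv (fun h => hv0 ((smul_eq_zero_iff_eq (y : S)).1 h)) hv0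
    exact habs W (hW ▸ hLx) hWinv
  · -- `t` centralises `M`
    let Lh : S →* Module.End (ZMod 2) V :=
      { toFun := fun s => ((DistribSMul.toAddMonoidHom V s).toZModLinearMap 2 : V →ₗ[ZMod 2] V)
        map_one' := LinearMap.ext fun v => by
          show (1 : S) • v = v
          exact one_smul S v
        map_mul' := fun s t => LinearMap.ext fun v => by
          show (s * t) • v = s • t • v
          exact mul_smul s t v }
    haveI : Module.Finite (ZMod 2) V := Module.Finite.of_finite
    have hfin : Module.finrank (ZMod 2) V = 6 := by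
      have h := Module.natCard_eq_pow_finrank (K := ZMod 2) (V := V)
      rw [hcard, Nat.card_zmod] at h
      exact (Nat.pow_right_injective (le_refl 2) h).symm
    let b := Module.finBasisOfFinrankEq (ZMod 2) V hfin
    have hGL : Nat.card S ∣ 20158709760 := by
      let f : S →* GL (Fin 6) (ZMod 2) :=
        (Units.map (LinearMap.toMatrixAlgEquiv b).toMonoidHom).comp Lh.toHomUnits
      have hf : Function.Injective f := by
        intro a a' haa
        refine ext_smul (V := V) fun v => ?_
        have h1 : Lh a = Lh a' := (LinearMap.toMatrixAlgEquiv b).injective (congrArg Units.val haa :)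
        exact LinearMap.congr_fun h1 v
      have h := Subgroup.card_dvd_of_injective f hf
      rw [Matrix.card_GL_field] at h
      norm_num [Fin.prod_univ_succ, ZMod.card] at h
      exact h
    have hl37 : l = 3 ∨ l = 7 := by
      simp only [Finset.mem_insert, Finset.mem_singleton] at hlπ
      tauto
    have hMp : IsPGroup l M := fun a => ⟨1, by rw [pow_one]; exact Subtype.ext (hMe _ a.2)⟩
    obtain ⟨j, hj⟩ := IsPGroup.iff_card.1 hMp
    -- orbits of `t` on `M`
    set tk : K := ⟨t, htK⟩
    haveI := hMn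
    let cf : M →* M := (MulAut.conjNormal (H := M) tk).toMonoidHom
    have hcent : ∀ y ∈ M, (tk * y * tk⁻¹) = y := by
      have hT : IsPGroup 31 (Subgroup.zpowers tk) := IsPGroup.of_card (n := 1) (by
        rw [Nat.card_zpowers, pow_one, ← Subgroup.orderOf_coe]; exact ht)
      let C : Subgroup M := MonoidHom.eqLocus cf (MonoidHom.id M)
      letI : MulAction (Subgroup.zpowers tk) M :=
        MulAction.compHom M ((MulAut.conjNormal (H := M)).comp (Subgroup.zpowers tk).subtype)
      have h := hT.card_modEq_card_fixedPoints M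
      have hfix : Nat.card (MulAction.fixedPoints (Subgroup.zpowers tk) M) = Nat.card C := by
        refine Nat.card_congr (Equiv.subtypeEquivRight fun y => ?_)
        constructor
        · intro hy
          exact hy ⟨tk, Subgroup.mem_zpowers tk⟩
        · rintro hy ⟨k, hk⟩
          have h2 : k ∈ (MulAction.stabilizer (MulAut M) y).comap (MulAut.conjNormal (H := M)) :=
            (Subgroup.zpowers_le.2 (show tk ∈ (MulAction.stabilizer (MulAut M) y).comap
              (MulAut.conjNormal (H := M)) from hy)) hk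
          exact h2
      rw [hfix] at h
      obtain ⟨i, hij, hi⟩ := (Nat.dvd_prime_pow hl).1 (hj ▸ C.card_subgroup_dvd_card)
      rw [hj, hi] at h
      have hlj : l ^ j ∣ 20158709760 := hj ▸ ((M.card_subgroup_dvd_card.trans K.card_subgroup_dvd_card).trans hGL)
      have hij' : i = j := by
        rcases hl37 with rfl | rfl
        · have : j ≤ 4 := by
            by_contra hc
            exact absurd ((pow_dvd_pow 3 (show 5 ≤ j by omega)).trans hlj) (by norm_num)
          unfold Nat.ModEq at h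
          interval_cases j <;> interval_cases i <;> first | rfl | (norm_num at h)
        · have : j ≤ 2 := by
            by_contra hc
            exact absurd ((pow_dvd_pow 7 (show 3 ≤ j by omega)).trans hlj) (by norm_num)
          unfold Nat.ModEq at h
          interval_cases j <;> interval_cases i <;> first | rfl | (norm_num at h)
      have htop : C = ⊤ := Subgroup.eq_top_of_card_eq _ (by rw [hi, hij', hj])
      intro y hy
      exact congrArg Subtype.val (htop.symm ▸ Subgroup.mem_top (⟨y, hy⟩ : M) : (⟨y, hy⟩ : M) ∈ C)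
    -- `L` is fixed by `M`
    have hLW : L ≤ W := by
      intro v hv
      rw [hmemW]
      intro y hy
      have hc : t * (y : S) = (y : S) * t := mul_inv_eq_iff_eq_mul.1 (congrArg Subtype.val (hcent y hy))
      have h1 : (y : S) • v ∈ L := by
        show t • ((y : S) • v) = (y : S) • v
        rw [← mul_smul, hc, mul_smul, show t • v = v from hv]
      by_cases hv0 : v = 0
      · rw [hv0, smul_zero]
      exact eq_of_card_two hLc h1 hv (fun h => hv0 ((smul_eq_zero_iff_eq (y : S)).1 h)) hv0
    obtain ⟨w, hw6, hw⟩ := (Nat.dvd_prime_pow Nat.prime_two).1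
      (hcard ▸ AddSubgroup.card_addSubgroup_dvd_card W)
    have h := orbit_count ht W (fun u hu => hWinv t htK u hu)
    have hinf : W ⊓ fx t = L := inf_eq_right.2 hLW
    rw [hinf, hLc, hw] at h
    have hw2 : w = 1 ∨ w = 6 := by
      unfold Nat.ModEq at h
      interval_cases w <;> first | omega | (norm_num at h)
    rcases hw2 with rfl | rfl
    · exact habs W (by rw [hw]; norm_num) hWinv
    · have htop : W = ⊤ := AddSubgroup.eq_top_of_card_eq _ (by rw [hw, hcard])
      refine hx1 (Subtype.ext (Subtype.ext (ext_smul (V := V) fun v => ?_)))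
      show (x : S) • v = (1 : S) • v
      rw [one_smul]
      exact (hmemW v).1 (htop.symm ▸ AddSubgroup.mem_top v) x hxM

include hexp hcard hsolv htr in
/-- The main theorem. -/
theorem classify [Module (ZMod p) V] (hn : 3 ≤ n)
    (hdiv : (p ^ n - 1) * (p ^ n - p) * (p - 1) ∣ Nat.card S * ((p ^ 2 - 1) * (p ^ 2 - p))) :
    IsSemilinear p n V S ∧ (n = 3 ∨ (n = 5 ∧ p = 2)) := by
  by_cases hnp : n.Prime
  · have h6 : ¬ (p = 2 ∧ n = 6) := fun h => absurd (h.2 ▸ hnp) (by norm_num)
    obtain ⟨r, hr⟩ := CfsgLib.NumberTheory.exists_isPPD_of_two_lt (a := p) (n := n) hp.out.one_lt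
      (by omega) h6
    have hsl := semilinear_of_prime hexp hcard hsolv htr hnp hr (by omega)
    refine ⟨hsl, ?_⟩
    have hle := hsl.card_le (show n ≠ 0 by omega)
    obtain ⟨q, rfl⟩ : ∃ q, p = q + 2 := ⟨p - 2, by have := hp.out.two_le; omega⟩
    set p := q + 2 with hpq
    have hp2 : 2 ≤ p := by omega
    have h1 := Nat.le_of_dvd (Nat.mul_pos Nat.card_pos (Nat.mul_pos
      (Nat.sub_pos_of_lt (Nat.one_lt_pow two_ne_zero (by omega)))
      (Nat.sub_pos_of_lt (by nlinarith)))) hdiv
    have h2 := h1.trans (Nat.mul_le_mul_right _ hle)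
    have e1 : p ^ n - p = p * (p ^ (n - 1) - 1) := by
      rw [Nat.mul_sub_one, ← pow_succ', Nat.sub_add_cancel (show 1 ≤ n by omega)]
    have e2 : p ^ 2 - p = p * (p - 1) := by rw [Nat.mul_sub_one, sq]
    rw [e1, e2] at h2
    have hpos : 0 < (p ^ n - 1) * p * (p - 1) :=
      Nat.mul_pos (Nat.mul_pos (Nat.sub_pos_of_lt (Nat.one_lt_pow (by omega) (by omega))) (by omega))
        (by omega)
    have h3 : p ^ (n - 1) - 1 ≤ n * (p ^ 2 - 1) := by
      refine Nat.le_of_mul_le_mul_left ?_ hpos
      calc (p ^ n - 1) * p * (p - 1) * (p ^ (n - 1) - 1)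
          = (p ^ n - 1) * (p * (p ^ (n - 1) - 1)) * (p - 1) := by ring
        _ ≤ _ := h2
        _ = (p ^ n - 1) * p * (p - 1) * (n * (p ^ 2 - 1)) := by ring
    rcases eq_or_lt_of_le hn with h | h
    · exact Or.inl h.symm
    have hodd : n % 2 = 1 := hnp.eq_two_or_odd.resolve_left (by omega)
    have hn5 : 5 ≤ n := by omega
    right
    have h4 : p ^ (n - 1) ≤ n * p ^ 2 := by
      have h5 : n * (p ^ 2 - 1) + n = n * p ^ 2 := by
        rw [← Nat.mul_succ, Nat.succ_eq_add_one, Nat.sub_add_cancel (Nat.one_le_pow _ _ (by omega))]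
      omega
    have h6' : p ^ (n - 3) ≤ n := by
      refine Nat.le_of_mul_le_mul_right ?_ (Nat.pow_pos (n := 2) (show 0 < p by omega))
      rwa [← pow_add, show n - 3 + 2 = n - 1 by omega]
    have h7 : 2 ^ (n - 3) ≤ n := (Nat.pow_le_pow_left hp2 _).trans h6'
    have hn6 : n < 6 := by
      by_contra hc
      have key : ∀ m, 3 ≤ m → m + 3 < 2 ^ m := by
        intro m hm
        induction m, hm using Nat.le_induction with
        | base => norm_num
        | succ m hm ih => rw [pow_succ]; omega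
      have := key (n - 3) (by omega)
      omega
    obtain rfl : n = 5 := by omega
    refine ⟨rfl, ?_⟩
    norm_num at h6'
    nlinarith
  · exfalso
    have hn4 : 4 ≤ n := by
      rcases eq_or_lt_of_le hn with h | h
      · exact absurd (h ▸ Nat.prime_three) hnp
      · omega
    by_cases h6 : p = 2 ∧ n = 6
    · exact six hexp hcard hsolv htr h6.1 h6.2 hdiv
    · exact composite hexp hcard hsolv htr hn4 hnp h6 hdiv

end H79.LinSolv
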