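import Mathlib

/-! Derived length of finite `p`-groups of linear transformations. -/

set_option autoImplicit false
set_option maxHeartbeats 800000

namespace H79

open Subgroup Module
open scoped commutatorElement

universe u v w

section basic

variable {K : Type w} [Field K] {V : Type v} [AddCommGroup V] [Module K V] {P : Type u} [Group P]

/-- The action on an invariant subspace. -/
def restrictEndHom (ρ : P →* Module.End K V) (W : Submodule K V) (h : ∀ g, ∀ v ∈ W, ρ g v ∈ W) :
    P →* Module.End K W where
  toFun g := (ρ g).restrict (h g)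
  map_one' := by ext v; simp
  map_mul' a b := by ext v; simp

@[simp] theorem restrictEndHom_coe (ρ : P →* Module.End K V) (W : Submodule K V)
    (h : ∀ g, ∀ v ∈ W, ρ g v ∈ W) (g : P) (v : W) : (restrictEndHom ρ W h g v : V) = ρ g v := rfl

/-- The action on the quotient by an invariant subspace. -/
def quotientEndHom (ρ : P →* Module.End K V) (W : Submodule K V) (h : ∀ g, ∀ v ∈ W, ρ g v ∈ W) :
    P →* Module.End K (V ⧸ W) where
  toFun g := W.mapQ W (ρ g) (h g)
  map_one' := by ext v; simp
  map_mul' a b := by ext v; simp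

@[simp] theorem quotientEndHom_mk (ρ : P →* Module.End K V) (W : Submodule K V)
    (h : ∀ g, ∀ v ∈ W, ρ g v ∈ W) (g : P) (v : V) :
    quotientEndHom ρ W h g (Submodule.Quotient.mk v) = Submodule.Quotient.mk (ρ g v) := rfl

theorem end_inv_apply (ρ : P →* Module.End K V) (g : P) (v : V) : ρ g⁻¹ (ρ g v) = v := by
  rw [← Module.End.mul_apply, ← map_mul, inv_mul_cancel, map_one, Module.End.one_apply]

theorem end_apply_injective (ρ : P →* Module.End K V) (g : P) : Function.Injective (ρ g) :=
  Function.LeftInverse.injective (end_inv_apply ρ g)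

theorem mk_ker_eq_iff {M : Type*} [Monoid M] (f : P →* M) (a b : P) :
    (a : P ⧸ f.ker) = b ↔ f a = f b := by
  rw [QuotientGroup.eq, MonoidHom.mem_ker, map_mul]
  have h1 : f a * f a⁻¹ = 1 := by rw [← map_mul, mul_inv_cancel, map_one]
  have h2 : f a⁻¹ * f a = 1 := by rw [← map_mul, inv_mul_cancel, map_one]
  constructor
  · intro h
    calc f a = f a * (f a⁻¹ * f b) := by rw [h, mul_one]
      _ = f b := by rw [← mul_assoc, h1, one_mul]
  · intro h
    rw [← h, h2]

theorem exists_central_image [Finite P] {p : ℕ} [Fact p.Prime] (hP : IsPGroup p P) {M : Type*}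
    [Monoid M] (f : P →* M) (hne : ∃ g, f g ≠ 1) : ∃ z, f z ≠ 1 ∧ ∀ g, f (z * g) = f (g * z) := by
  obtain ⟨g₀, hg₀⟩ := hne
  have : Nontrivial (P ⧸ f.ker) :=
    ⟨⟨(g₀ : P ⧸ f.ker), 1, fun h => hg₀ ((MonoidHom.mem_ker).1 ((QuotientGroup.eq_one_iff g₀).1 h))⟩⟩
  have := (hP.to_quotient f.ker).center_nontrivial
  obtain ⟨⟨q, hq⟩, hq1⟩ := exists_ne (1 : Subgroup.center (P ⧸ f.ker))
  obtain ⟨z, rfl⟩ := QuotientGroup.mk_surjective q
  refine ⟨z, fun h => hq1 (Subtype.ext ((QuotientGroup.eq_one_iff z).2 h)), fun g => ?_⟩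
  have h := (Subgroup.mem_center_iff.1 hq (g : P ⧸ f.ker)).symm
  rw [← QuotientGroup.mk_mul, ← QuotientGroup.mk_mul] at h
  exact (mk_ker_eq_iff f _ _).1 h

theorem commutator_le_ker_of_commute {M : Type*} [Monoid M] (f : P →* M)
    (h : ∀ a b, f a * f b = f b * f a) : commutator P ≤ f.ker := by
  rw [commutator_eq_closure, Subgroup.closure_le]
  rintro _ ⟨a, b, rfl⟩
  rw [SetLike.mem_coe, MonoidHom.mem_ker, commutatorElement_def, map_mul, map_mul, map_mul, h a b,
    mul_assoc (f b), ← map_mul f a, mul_inv_cancel, map_one, mul_one, ← map_mul, mul_inv_cancel, map_one]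

end basic

section char

variable {K : Type w} [Field K] {P : Type u} [Group P] [Finite P] {p : ℕ} [Fact p.Prime]

theorem exists_fixed_ne_zero (hP : IsPGroup p P) (hpK : (p : K) = 0) :
    ∀ (n : ℕ) (V : Type v) [AddCommGroup V] [Module K V] [FiniteDimensional K V] [Nontrivial V],
      finrank K V = n → ∀ ρ : P →* Module.End K V, ∃ v : V, v ≠ 0 ∧ ∀ g, ρ g v = v := by
  intro n
  induction n using Nat.strong_induction_on with
  | _ n ih =>
    intro V _ _ _ _ hn ρ
    by_cases hne : ∃ g, ρ g ≠ 1
    · obtain ⟨z, hz1, hz⟩ := exists_central_image hP ρ hne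
      obtain ⟨e, he⟩ := hP z
      have : CharP K p := by
        obtain ⟨q, hq⟩ := CharP.exists K
        have hd := (CharP.cast_eq_zero_iff K q p).1 hpK
        rcases (Nat.dvd_prime Fact.out).1 hd with h | h
        · exact absurd (h ▸ hq) (by intro hc; exact CharP.char_ne_one K 1 rfl)
        · exact h ▸ hq
      have : CharP (Module.End K V) p := charP_of_injective_algebraMap (algebraMap K _).injective p
      have hnil : (ρ z - 1) ^ (p ^ e) = 0 := by
        rw [sub_pow_char_pow_of_commute p e (Commute.one_right (ρ z)), ← map_pow, he, map_one, one_pow, sub_self]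
      set W := LinearMap.ker (ρ z - 1) with hW
      have hinv : ∀ g, ∀ v ∈ W, ρ g v ∈ W := by
        intro g v hv
        simp only [hW, LinearMap.mem_ker, LinearMap.sub_apply, Module.End.one_apply, sub_eq_zero] at hv ⊢
        rw [← Module.End.mul_apply, ← map_mul, hz, map_mul, Module.End.mul_apply, hv]
      have hWne : W ≠ ⊥ := by
        intro hbot
        have hinj : Function.Injective ⇑(ρ z - 1) := LinearMap.ker_eq_bot.1 hbot
        have hpow := Function.Injective.iterate hinj (p ^ e)
        rw [← Module.End.coe_pow, hnil] at hpow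
        obtain ⟨v, hv⟩ := exists_ne (0 : V)
        exact hv (hpow (by simp))
      have hWtop : W ≠ ⊤ := by
        intro htop
        apply hz1
        rw [← sub_eq_zero]
        exact LinearMap.ker_eq_top.1 htop
      have : Nontrivial W := Submodule.nontrivial_iff_ne_bot.2 hWne
      have hlt : finrank K W < n := hn ▸ Submodule.finrank_lt hWtop
      obtain ⟨w, hw, hfix⟩ := ih _ hlt W rfl (restrictEndHom ρ W hinv)
      exact ⟨w, fun h => hw (Subtype.ext h), fun g => congrArg Subtype.val (hfix g)⟩
    · simp only [not_exists, not_not] at hne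
      obtain ⟨v, hv⟩ := exists_ne (0 : V)
      exact ⟨v, hv, fun g => by rw [hne g, Module.End.one_apply]⟩

/-- The ascending series of subspaces on which the group acts unipotently. -/
def fixSeq {V : Type v} [AddCommGroup V] [Module K V] (ρ : P →* Module.End K V) : ℕ → Submodule K V
  | 0 => ⊥
  | i + 1 => ⨅ g, (fixSeq ρ i).comap (ρ g - 1)

theorem derivedSeries_apply_of_natCast_eq_zero {V : Type v} [AddCommGroup V] [Module K V]
    [FiniteDimensional K V] (hP : IsPGroup p P) (hpK : (p : K) = 0) (ρ : P →* Module.End K V) (k : ℕ)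
    (hk : finrank K V ≤ 2 ^ k) : ∀ g ∈ derivedSeries P k, ρ g = 1 := by
  let F : ℕ → Submodule K V := fixSeq ρ
  have hF0 : F 0 = ⊥ := rfl
  have hFs : ∀ i v, v ∈ F (i + 1) ↔ ∀ g, ρ g v - v ∈ F i := by
    intro i v
    show v ∈ ⨅ g, (F i).comap (ρ g - 1) ↔ _
    simp [Submodule.mem_iInf]
  have hmono1 : ∀ i, F i ≤ F (i + 1) := by
    intro i
    induction i with
    | zero => rw [hF0]; exact bot_le
    | succ i ih =>
      intro v hv
      exact (hFs (i + 1) v).2 (fun g => ih ((hFs i v).1 hv g))
  have hmono : Monotone F := monotone_nat_of_le_succ hmono1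
  have hinv : ∀ i g, ∀ v ∈ F i, ρ g v ∈ F i := by
    intro i g v hv
    cases i with
    | zero => rw [hF0, Submodule.mem_bot] at hv; simp [hv, hF0]
    | succ i =>
      have := (F (i + 1)).add_mem (hmono1 i ((hFs i v).1 hv g)) hv
      simpa using this
  have hgrow : ∀ i, min i (finrank K V) ≤ finrank K (F i) := by
    intro i
    induction i with
    | zero => simp
    | succ i ih =>
      by_cases htop : F i = ⊤
      · have h1 : F (i + 1) = ⊤ := top_le_iff.1 (htop ▸ hmono1 i)
        rw [h1, finrank_top]
        exact min_le_right _ _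
      · have : Nontrivial (V ⧸ F i) := Submodule.Quotient.nontrivial_iff.2 htop
        obtain ⟨q, hq, hfix⟩ := exists_fixed_ne_zero hP hpK _ (V ⧸ F i) rfl (quotientEndHom ρ (F i) (hinv i))
        obtain ⟨v, rfl⟩ := Submodule.Quotient.mk_surjective _ q
        have hlt : F i < F (i + 1) := by
          refine lt_of_le_of_ne (hmono1 i) (fun heq => hq ?_)
          rw [Submodule.Quotient.mk_eq_zero, heq, hFs]
          exact fun g => (Submodule.Quotient.eq _).1 (hfix g)
        have h2 := Submodule.finrank_lt_finrank_of_lt hlt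
        omega
  let D : ℕ → Subgroup P := fun j =>
    { carrier := {g | ∀ i, ∀ v ∈ F (i + 2 ^ j), ρ g v - v ∈ F i}
      one_mem' := fun i v _ => by simp
      mul_mem' := fun {a b} ha hb i v hv => by
        rw [show ρ (a * b) v - v = ρ a (ρ b v - v) + (ρ a v - v) by
          rw [map_mul, Module.End.mul_apply, map_sub]; abel]
        exact (F i).add_mem (hinv i a _ (hb i v hv)) (ha i v hv)
      inv_mem' := fun {a} ha i v hv => by
        rw [show ρ a⁻¹ v - v = - ρ a⁻¹ (ρ a v - v) by rw [map_sub, end_inv_apply, neg_sub]]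
        exact (F i).neg_mem (hinv i _ _ (ha i v hv)) }
  have hD : ∀ j, derivedSeries P j ≤ D j := by
    intro j
    induction j with
    | zero =>
      intro g _ i v hv
      exact (hFs i v).1 hv g
    | succ j ih =>
      rw [derivedSeries_succ, Subgroup.commutator_le]
      intro a ha b hb i v hv
      set w := ρ a⁻¹ (ρ b⁻¹ v) with hw
      have hwm : w ∈ F ((i + 2 ^ j) + 2 ^ j) := by
        rw [show i + 2 ^ j + 2 ^ j = i + 2 ^ (j + 1) by ring]
        exact hinv _ _ _ (hinv _ _ _ hv)
      have e1 : ρ ⁅a, b⁆ v = ρ a (ρ b w) := by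
        simp only [commutatorElement_def, map_mul, Module.End.mul_apply, hw]
      have e2 : v = ρ b (ρ a w) := by
        rw [hw, ← Module.End.mul_apply (ρ a), ← map_mul, mul_inv_cancel, map_one, Module.End.one_apply,
          ← Module.End.mul_apply (ρ b), ← map_mul, mul_inv_cancel, map_one, Module.End.one_apply]
      rw [e1, show ρ a (ρ b w) - v = ρ a (ρ b w) - ρ b (ρ a w) by rw [← e2],
        show ρ a (ρ b w) - ρ b (ρ a w)
          = (ρ a (ρ b w - w) - (ρ b w - w)) - (ρ b (ρ a w - w) - (ρ a w - w)) by
            simp only [map_sub]; abel]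
      exact (F i).sub_mem (ih ha i _ (ih hb _ w hwm)) (ih hb i _ (ih ha _ w hwm))
  intro g hg
  ext v
  have htop : F (2 ^ k) = ⊤ := by
    apply Submodule.eq_top_of_finrank_eq
    have h1 := hgrow (2 ^ k)
    have h2 := Submodule.finrank_le (F (2 ^ k))
    omega
  have h := hD k hg 0 v (by rw [zero_add, htop]; trivial)
  rw [hF0, Submodule.mem_bot, sub_eq_zero] at h
  simpa using h

end char

section coprime

variable {K : Type w} [Field K] {p : ℕ} [Fact p.Prime]

theorem exists_invariant_compl {P : Type u} [Group P] [Finite P] {V : Type v} [AddCommGroup V] [Module K V]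
    (hP : (Nat.card P : K) ≠ 0) (ρ : P →* Module.End K V) (W : Submodule K V)
    (h : ∀ g, ∀ v ∈ W, ρ g v ∈ W) : ∃ W' : Submodule K V, IsCompl W W' ∧ ∀ g, ∀ v ∈ W', ρ g v ∈ W' := by
  classical
  let _ := Fintype.ofFinite P
  obtain ⟨U, hU⟩ := Submodule.exists_isCompl W
  let π₀ : Module.End K V := W.subtype ∘ₗ W.projectionOnto U hU
  let π : Module.End K V := (Nat.card P : K)⁻¹ • ∑ g : P, ρ g * π₀ * ρ g⁻¹
  have hmem : ∀ v, π v ∈ W := by
    intro v
    simp only [π, LinearMap.smul_apply, LinearMap.sum_apply, Module.End.mul_apply]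
    exact W.smul_mem _ (W.sum_mem fun g _ => h g _ (Submodule.coe_mem _))
  have hid : ∀ v ∈ W, π v = v := by
    intro v hv
    simp only [π, LinearMap.smul_apply, LinearMap.sum_apply, Module.End.mul_apply]
    have : ∀ g : P, ρ g (π₀ (ρ g⁻¹ v)) = v := by
      intro g
      have h1 : π₀ (ρ g⁻¹ v) = ρ g⁻¹ v := by
        show (W.projectionOnto U hU (ρ g⁻¹ v) : V) = ρ g⁻¹ v
        have := Submodule.projectionOnto_apply_left hU ⟨_, h g⁻¹ v hv⟩
        exact congrArg Subtype.val this
      rw [h1, ← Module.End.mul_apply, ← map_mul, mul_inv_cancel, map_one, Module.End.one_apply]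
    rw [Finset.sum_congr rfl (fun g _ => this g), Finset.sum_const, Finset.card_univ, ← Nat.card_eq_fintype_card,
      ← Nat.cast_smul_eq_nsmul K, smul_smul, inv_mul_cancel₀ hP, one_smul]
  have hcomm : ∀ g, ρ g * π = π * ρ g := by
    intro g
    simp only [π, mul_smul_comm, smul_mul_assoc, Finset.mul_sum, Finset.sum_mul]
    congr 1
    refine Fintype.sum_equiv (Equiv.mulLeft g) _ _ (fun x => ?_)
    simp only [Equiv.coe_mulLeft, map_mul, mul_inv_rev]
    have e : ρ g⁻¹ * ρ g = 1 := by rw [← map_mul, inv_mul_cancel, map_one]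
    simp only [mul_assoc, e, mul_one]
  refine ⟨LinearMap.ker π, ?_, ?_⟩
  · refine ⟨?_, ?_⟩
    · rw [Submodule.disjoint_def]
      intro v hv hk
      rw [← hid v hv]
      exact hk
    · rw [codisjoint_iff, eq_top_iff]
      intro v _
      rw [show v = π v + (v - π v) by abel]
      exact Submodule.add_mem_sup (hmem v) (by rw [LinearMap.mem_ker, map_sub, hid _ (hmem v), sub_self])
  · intro g v hv
    rw [LinearMap.mem_ker] at hv ⊢
    rw [← Module.End.mul_apply, ← hcomm, Module.End.mul_apply, hv, map_zero]

theorem derivedSeries_apply_of_isAlgClosed [IsAlgClosed K] (hpK : (p : K) ≠ 0) :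
    ∀ (n : ℕ) (V : Type v) [AddCommGroup V] [Module K V] [FiniteDimensional K V], finrank K V = n →
      ∀ (P : Type u) [Group P] [Finite P], IsPGroup p P → ∀ (ρ : P →* Module.End K V) (k : ℕ),
        n < p ^ k → ∀ g ∈ derivedSeries P k, ρ g = 1 := by
  intro n
  induction n using Nat.strong_induction_on with
  | _ n ih =>
    intro V _ _ _ hn P _ _ hP ρ k hk g hg
    classical
    rcases subsingleton_or_nontrivial V with hV | hV
    · exact LinearMap.ext fun v => Subsingleton.elim _ _
    have hn0 : 0 < n := hn ▸ finrank_pos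
    obtain ⟨k, rfl⟩ : ∃ k', k = k' + 1 := by
      refine ⟨k - 1, ?_⟩
      rcases Nat.eq_zero_or_pos k with h | h
      · subst h; rw [pow_zero] at hk; omega
      · omega
    by_cases hred : ∃ W : Submodule K V, W ≠ ⊥ ∧ W ≠ ⊤ ∧ ∀ g, ∀ v ∈ W, ρ g v ∈ W
    · obtain ⟨W, hWb, hWt, hWinv⟩ := hred
      obtain ⟨W', hc, hW'inv⟩ := exists_invariant_compl (by
        obtain ⟨e, he⟩ := IsPGroup.iff_card.1 hP
        rw [he, Nat.cast_pow]
        exact pow_ne_zero e hpK) ρ W hWinv
      have hW't : W' ≠ ⊤ := fun h => hWb (by simpa [h] using hc.inf_eq_bot)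
      have hlt : finrank K W < n := hn ▸ Submodule.finrank_lt hWt
      have hlt' : finrank K W' < n := hn ▸ Submodule.finrank_lt hW't
      have h1 := ih _ hlt W rfl P hP (restrictEndHom ρ W hWinv) _ (hlt.trans hk) g hg
      have h2 := ih _ hlt' W' rfl P hP (restrictEndHom ρ W' hW'inv) _ (hlt'.trans hk) g hg
      ext v
      obtain ⟨a, ha, b, hb, rfl⟩ := Submodule.mem_sup.1 (hc.sup_eq_top ▸ Submodule.mem_top (x := v))
      have e1 := congrArg Subtype.val (LinearMap.congr_fun h1 ⟨a, ha⟩)
      have e2 := congrArg Subtype.val (LinearMap.congr_fun h2 ⟨b, hb⟩)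
      simp only [restrictEndHom_coe, Module.End.one_apply] at e1 e2
      simp [e1, e2]
    have hirr : ∀ W : Submodule K V, W ≠ ⊥ → (∀ g, ∀ v ∈ W, ρ g v ∈ W) → W = ⊤ := fun W h1 h2 => by
      by_contra h3
      exact hred ⟨W, h1, h3, h2⟩
    by_cases hab : ∀ a b, ρ a * ρ b = ρ b * ρ a
    · have hle : derivedSeries P (k + 1) ≤ derivedSeries P 1 := derivedSeries_antitone P (by omega)
      rw [derivedSeries_one] at hle
      exact MonoidHom.mem_ker.1 (commutator_le_ker_of_commute ρ hab (hle hg))
    simp only [not_forall] at hab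
    obtain ⟨a₀, b₀, hab⟩ := hab
    -- an element whose image is central modulo the centre of the image
    let C : Subgroup P := ((Subgroup.center (P ⧸ ρ.ker)).comap (QuotientGroup.mk' ρ.ker))
    have hCmem : ∀ c, c ∈ C ↔ ∀ x, ρ (x * c) = ρ (c * x) := by
      intro c
      rw [Subgroup.mem_comap, Subgroup.mem_center_iff]
      constructor
      · intro h x
        have h' := h (x : P ⧸ ρ.ker)
        rw [QuotientGroup.mk'_apply, ← QuotientGroup.mk_mul, ← QuotientGroup.mk_mul] at h'
        exact (mk_ker_eq_iff ρ _ _).1 h'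
      · intro h q
        obtain ⟨x, rfl⟩ := QuotientGroup.mk_surjective q
        rw [QuotientGroup.mk'_apply, ← QuotientGroup.mk_mul, ← QuotientGroup.mk_mul]
        exact (mk_ker_eq_iff ρ _ _).2 (h x)
    have hCn : C.Normal := inferInstance
    obtain ⟨z, hz1, hz⟩ := exists_central_image hP (QuotientGroup.mk' C) ⟨b₀, fun h => hab (by
      have := (hCmem b₀).1 ((QuotientGroup.eq_one_iff b₀).1 h) a₀
      rwa [map_mul, map_mul] at this)⟩
    have hzC : z ∉ C := fun h => hz1 ((QuotientGroup.eq_one_iff z).2 h)
    have hscal : ∀ x, ∃ c : K, ρ x * ρ z = c • (ρ z * ρ x) := by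
      intro x
      set c := x * z * x⁻¹ * z⁻¹ with hc
      have hcC : c ∈ C := by
        rw [← QuotientGroup.eq_one_iff]
        have h := hz x
        simp only [QuotientGroup.mk'_apply, QuotientGroup.mk_mul] at h
        rw [hc, QuotientGroup.mk_mul, QuotientGroup.mk_mul, QuotientGroup.mk_mul, ← h, QuotientGroup.mk_inv,
          QuotientGroup.mk_inv, mul_inv_cancel_right, mul_inv_cancel]
      obtain ⟨l, hl⟩ := Module.End.exists_eigenvalue (ρ c)
      have htop := hirr (Module.End.eigenspace (ρ c) l) hl (by
        intro y v hv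
        rw [Module.End.mem_eigenspace_iff] at hv ⊢
        rw [← Module.End.mul_apply, ← map_mul, ← (hCmem c).1 hcC y, map_mul, Module.End.mul_apply, hv, map_smul])
      refine ⟨l, ?_⟩
      have hρc : ρ c = l • (1 : Module.End K V) := LinearMap.ext fun v => by
        simpa using Module.End.mem_eigenspace_iff.1 (htop ▸ Submodule.mem_top (x := v))
      have : x * z = c * (z * x) := by rw [hc]; group
      rw [← map_mul ρ x z, this, map_mul ρ c, map_mul ρ z, hρc, smul_mul_assoc, one_mul]
    choose l hl using hscal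
    have hzx0 : ∀ x, ρ z * ρ x ≠ 0 := by
      intro x h0
      obtain ⟨v, hv⟩ := exists_ne (0 : V)
      exact hv (((end_apply_injective ρ z).comp (end_apply_injective ρ x)) (by
        have := LinearMap.congr_fun h0 v
        simpa using this))
    have hlmul : ∀ x y, l (x * y) = l x * l y := by
      intro x y
      apply smul_left_injective K (hzx0 (x * y))
      show l (x * y) • (ρ z * ρ (x * y)) = (l x * l y) • (ρ z * ρ (x * y))
      rw [← hl, map_mul, mul_assoc, hl, mul_smul_comm, ← mul_assoc (ρ x), hl, smul_mul_assoc, smul_smul, mul_comm,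
        mul_assoc]
    have hl1 : l 1 = 1 := by
      apply smul_left_injective K (hzx0 1)
      show l 1 • (ρ z * ρ 1) = (1 : K) • (ρ z * ρ 1)
      rw [← hl]
      simp
    let lHom : P →* K := { toFun := l, map_one' := hl1, map_mul' := hlmul }
    set M := lHom.ker with hMdef
    have hMmem : ∀ x, x ∈ M ↔ l x = 1 := fun x => MonoidHom.mem_ker
    have hcommM : commutator P ≤ M := commutator_le_ker_of_commute lHom (fun a b => mul_comm _ _)
    obtain ⟨g₁, hg₁⟩ : ∃ g₁, l g₁ ≠ 1 := by
      by_contra hall
      simp only [not_exists, not_not] at hall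
      apply hzC
      rw [hCmem]
      intro x
      rw [map_mul, map_mul, hl, hall, one_smul]
    have hord : p ≤ orderOf (l g₁) := by
      obtain ⟨e, he⟩ := IsPGroup.iff_orderOf.1 hP g₁
      have h1 : orderOf (l g₁) ∣ p ^ e := he ▸ orderOf_map_dvd lHom g₁
      obtain ⟨j, -, hj⟩ := (Nat.dvd_prime_pow Fact.out).1 h1
      rcases Nat.eq_zero_or_pos j with h | h
      · subst h; rw [pow_zero, orderOf_eq_one_iff] at hj; exact absurd hj hg₁
      · rw [hj]; exact Nat.le_self_pow h.ne' p
    have hmove : ∀ x (μ : K) v, v ∈ Module.End.eigenspace (ρ z) μ → l x • ρ z (ρ x v) = μ • ρ x v := by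
      intro x μ v hv
      have := LinearMap.congr_fun (hl x) v
      simp only [Module.End.mul_apply, LinearMap.smul_apply, Module.End.mem_eigenspace_iff.1 hv, map_smul] at this
      exact this.symm
    have hl0 : ∀ x, l x ≠ 0 := fun x h0 => by
      have := hlmul x x⁻¹
      rw [mul_inv_cancel, hl1, h0, zero_mul] at this
      exact one_ne_zero this
    have hdim : ∀ μ : K, finrank K (Module.End.eigenspace (ρ z) μ) < p ^ k := by
      intro μ
      set W := Module.End.eigenspace (ρ z) μ with hW
      by_cases hμ : μ = 0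
      · have hWb : W = ⊥ := by
          rw [Submodule.eq_bot_iff]
          intro v hv
          apply end_apply_injective ρ z
          simp [Module.End.mem_eigenspace_iff.1 hv, hμ]
        rw [hWb, finrank_bot]
        exact pow_pos (Fact.out : p.Prime).pos k
      let φ : (Fin p → W) →ₗ[K] V := ∑ j : Fin p, (ρ (g₁ ^ (j : ℕ))) ∘ₗ W.subtype ∘ₗ LinearMap.proj j
      have hker : Function.Injective φ := by
        rw [← LinearMap.ker_eq_bot, Submodule.eq_bot_iff]
        intro f hf
        simp only [φ, LinearMap.mem_ker, LinearMap.sum_apply, LinearMap.comp_apply, LinearMap.proj_apply,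
          Submodule.subtype_apply] at hf
        let ν : Fin p → K := fun j => (l g₁)⁻¹ ^ (j : ℕ) * μ
        have hν : Function.Injective ν := by
          intro i j hij
          have hinvord : ∀ a : K, orderOf a⁻¹ = orderOf a := fun a => by
            apply orderOf_eq_orderOf_iff.2
            intro m
            rw [inv_pow, inv_eq_one]
          have hij' := mul_right_cancel₀ hμ hij
          apply Fin.ext
          refine pow_injOn_Iio_orderOf ?_ ?_ hij'
          · exact i.2.trans_le (hord.trans (le_of_eq (hinvord _).symm))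
          · exact j.2.trans_le (hord.trans (le_of_eq (hinvord _).symm))
        have hind := (Module.End.eigenspaces_iSupIndep (ρ z)).comp hν
        have hmem : ∀ j : Fin p, ρ (g₁ ^ (j : ℕ)) (f j : V) ∈ Module.End.eigenspace (ρ z) (ν j) := by
          intro j
          rw [Module.End.mem_eigenspace_iff]
          have h1 := hmove (g₁ ^ (j : ℕ)) μ _ (f j).2
          have h2 : l (g₁ ^ (j : ℕ)) = l g₁ ^ (j : ℕ) := map_pow lHom g₁ j
          rw [h2] at h1
          simp only [ν, mul_smul, inv_pow]
          rw [← h1, inv_smul_smul₀ (pow_ne_zero _ (hl0 g₁))]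
        have h0 := (iSupIndep_iff_finsetSum_eq_zero_imp_eq_zero _).1 hind Finset.univ
          (fun j => ρ (g₁ ^ (j : ℕ)) (f j : V)) (fun j _ => hmem j) hf
        funext j
        exact Subtype.ext (end_apply_injective ρ (g₁ ^ (j : ℕ)) ((h0 j (Finset.mem_univ j)).trans (map_zero _).symm))
      have h := LinearMap.finrank_le_finrank_of_injective hker
      rw [Module.finrank_pi_fintype, Finset.sum_const, Finset.card_univ, Fintype.card_fin, smul_eq_mul, hn] at h
      have h' : p * finrank K W < p * p ^ k := by
        rw [← pow_succ']; omega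
      exact Nat.lt_of_mul_lt_mul_left h'
    have hEinv : ∀ μ, ∀ x : M, ∀ v ∈ Module.End.eigenspace (ρ z) μ, (ρ.comp M.subtype) x v ∈ Module.End.eigenspace (ρ z) μ := by
      intro μ x v hv
      have h := hmove x μ v hv
      rw [(hMmem x).1 x.2, one_smul] at h
      exact Module.End.mem_eigenspace_iff.2 h
    have hspan : (⨆ μ, Module.End.eigenspace (ρ z) μ) = ⊤ := by
      apply hirr
      · obtain ⟨μ, hμ⟩ := Module.End.exists_eigenvalue (ρ z)
        exact fun hbot => hμ (iSup_eq_bot.1 hbot μ)
      · intro x v hv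
        induction hv using Submodule.iSup_induction' with
        | mem μ v hv =>
          refine Submodule.mem_iSup_of_mem ((l x)⁻¹ * μ) (Module.End.mem_eigenspace_iff.2 ?_)
          rw [mul_smul, ← hmove x μ v hv, inv_smul_smul₀ (hl0 x)]
        | zero => simp
        | add a b _ _ iha ihb => rw [map_add]; exact Submodule.add_mem _ iha ihb
    obtain ⟨g', hg', rfl⟩ : g ∈ (derivedSeries M k).map M.subtype := by
      suffices h : ∀ j, derivedSeries P (j + 1) ≤ (derivedSeries M j).map M.subtype from h k hg
      intro j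
      induction j with
      | zero =>
        rw [derivedSeries_one, derivedSeries_zero, ← MonoidHom.range_eq_map, Subgroup.range_subtype]
        exact hcommM
      | succ j ihj =>
        rw [derivedSeries_succ P (j + 1), derivedSeries_succ M j, Subgroup.map_commutator]
        exact Subgroup.commutator_mono ihj ihj
    ext v
    have hv : v ∈ ⨆ μ, Module.End.eigenspace (ρ z) μ := hspan ▸ Submodule.mem_top
    induction hv using Submodule.iSup_induction' with
    | mem μ v hv =>
      have hlt : finrank K (Module.End.eigenspace (ρ z) μ) < n := by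
        refine hn ▸ Submodule.finrank_lt ?_
        intro htop
        apply hzC
        rw [hCmem]
        intro x
        have hρz : ρ z = μ • (1 : Module.End K V) := LinearMap.ext fun w => by
          simpa using Module.End.mem_eigenspace_iff.1 (htop ▸ Submodule.mem_top (x := w))
        rw [map_mul, map_mul, hρz, mul_smul_comm, smul_mul_assoc, one_mul, mul_one]
      have := ih _ hlt _ rfl M (hP.to_subgroup M) (restrictEndHom (ρ.comp M.subtype) _ (hEinv μ)) k (hdim μ) g' hg'
      simpa using congrArg Subtype.val (LinearMap.congr_fun this ⟨v, hv⟩)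
    | zero => simp
    | add a b _ _ iha ihb => rw [map_add, map_add, iha, ihb]

/-- Over any field in which `p` is nonzero. -/
theorem derivedSeries_apply_of_natCast_ne_zero (hpK : (p : K) ≠ 0) {V : Type v} [AddCommGroup V] [Module K V]
    [FiniteDimensional K V] {P : Type u} [Group P] [Finite P] (hP : IsPGroup p P) (ρ : P →* Module.End K V)
    (k : ℕ) (hk : finrank K V < p ^ k) : ∀ g ∈ derivedSeries P k, ρ g = 1 := by
  intro g hg
  classical
  let n := finrank K V
  let b := Module.finBasis K V
  let L := AlgebraicClosure K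
  let t : Module.End K V →* Module.End L (Fin n → L) :=
    (Matrix.toLinAlgEquiv' : Matrix (Fin n) (Fin n) L ≃ₐ[L] _).toMonoidHom.comp
      ((RingHom.mapMatrix (algebraMap K L)).toMonoidHom.comp (LinearMap.toMatrixAlgEquiv b).toMonoidHom)
  have ht : Function.Injective t :=
    (Matrix.toLinAlgEquiv' : Matrix (Fin n) (Fin n) L ≃ₐ[L] _).injective.comp
      ((Matrix.map_injective (algebraMap K L).injective).comp (LinearMap.toMatrixAlgEquiv b).injective)
  apply ht
  rw [map_one]
  refine derivedSeries_apply_of_isAlgClosed (K := L) (p := p) ?_ n (Fin n → L) (Module.finrank_fin_fun L)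
    P hP (t.comp ρ) k hk g hg
  rw [← map_natCast (algebraMap K L)]
  exact (map_ne_zero_iff _ (algebraMap K L).injective).2 hpK

end coprime

end H79
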