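import Cfsg.Agent.Lib.H82.ThreeSubgroup

/-! Mann's bound on the order of a `p`-group of given derived length. -/

set_option autoImplicit false

namespace H79.Mann

open Subgroup
open scoped commutatorElement

universe u

variable {G : Type u} [Group G]

local notation "L" => Subgroup.lowerCentralSeries (⊤ : Subgroup G)

/-- `⁅A j, γ_{t+1}⁆ ≤ A (j + t + 1)` for a sequence with `⁅A j, G⁆ ≤ A (j + 1)`. -/
theorem commutator_seq_le (A : ℕ → Subgroup G) (hn : ∀ j, (A j).Normal)
    (hA : ∀ j, ⁅A j, (⊤ : Subgroup G)⁆ ≤ A (j + 1)) : ∀ t j, ⁅A j, L t⁆ ≤ A (j + t + 1) := by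
  intro t
  induction t with
  | zero => intro j; rw [Subgroup.lowerCentralSeries_zero]; exact hA j
  | succ t ih =>
    intro j
    haveI := hn (j + (t + 1) + 1)
    rw [commutator_comm, Subgroup.lowerCentralSeries_succ]
    refine CfsgLib.ThreeSub82.commutator_commutator_le_of_rotate _ ?_ ?_
    · -- ⁅⁅G, A j⁆, L t⁆
      refine le_trans (commutator_mono ((Subgroup.commutator_comm (⊤ : Subgroup G) (A j)).le.trans (hA j)) le_rfl) ?_
      exact (ih (j + 1)).trans (le_of_eq (congrArg A (by omega)))
    · -- ⁅⁅A j, L t⁆, G⁆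
      refine le_trans (commutator_mono (ih j) le_rfl) ?_
      exact (hA (j + t + 1)).trans (le_of_eq (congrArg A (by omega)))

theorem lcs_commutator_le (a b : ℕ) : ⁅L a, L b⁆ ≤ L (a + b + 1) :=
  commutator_seq_le (fun j => L j) (fun j => inferInstance)
    (fun j => by rw [Subgroup.lowerCentralSeries_succ]) b a

/-- Commutators of a generated subgroup, modulo a normal subgroup. -/
theorem commutator_le_of_pairwise (N H : Subgroup G) [N.Normal] (S : Set G) (hH : H ≤ closure S)
    (hS : ∀ a ∈ S, ∀ b ∈ S, ⁅a, b⁆ ∈ N) : ⁅H, H⁆ ≤ N := by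
  refine le_trans (commutator_mono hH hH) ?_
  rw [commutator_le]
  intro a ha b hb
  rw [← QuotientGroup.eq_one_iff, ← QuotientGroup.mk'_apply, map_commutatorElement,
    commutatorElement_eq_one_iff_mul_comm]
  have key : ∀ a ∈ closure S, ∀ b ∈ S, Commute (QuotientGroup.mk' N a) (QuotientGroup.mk' N b) := by
    intro a ha b hb
    induction ha using closure_induction with
    | mem x hx =>
      refine commutatorElement_eq_one_iff_commute.1 ?_
      rw [← map_commutatorElement, QuotientGroup.mk'_apply, QuotientGroup.eq_one_iff]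
      exact hS x hx b hb
    | one => rw [map_one]; exact Commute.one_left _
    | mul x y _ _ hx hy => rw [map_mul]; exact hx.mul_left hy
    | inv x _ hx => rw [map_inv]; exact hx.inv_left
  induction hb using closure_induction with
  | mem x hx => exact key a ha x hx
  | one => rw [map_one]; exact Commute.one_right _
  | mul x y _ _ hx hy => rw [map_mul]; exact (show Commute _ _ from hx).mul_right hy
  | inv x _ hx => rw [map_inv]; exact (show Commute _ _ from hx).inv_right

/-- A subgroup containing `⁅S, G⁆` is normal. -/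
theorem normal_of_commutator_le {S : Subgroup G} (h : ⁅S, (⊤ : Subgroup G)⁆ ≤ S) : S.Normal := by
  refine ⟨fun s hs g => ?_⟩
  have h1 : ⁅g, s⁆ ∈ S := by
    rw [commutator_comm] at h
    exact h (commutator_mem_commutator (mem_top g) hs)
  have := mul_mem h1 hs
  rwa [commutatorElement_def, inv_mul_cancel_right] at this

/-- The top of `H ≤ γ_{s+1}` modulo `γ_{s+2}` is cyclic. -/
def CycTop (H : Subgroup G) (s : ℕ) : Prop :=
  ∃ x ∈ H, H ≤ zpowers x ⊔ L (s + 1)

/-- Commutators of generators lying in `⟨w⟩ γ_{t+2}`. -/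
theorem commutator_cycTop {H : Subgroup G} {t : ℕ} (S : Set G) (hH : H ≤ closure S) {w : G}
    (hw : w ∈ ⁅H, H⁆) (hwt : w ∈ L t)
    (hS : ∀ a ∈ S, ∀ b ∈ S, ⁅a, b⁆ ∈ zpowers w ⊔ L (t + 1)) : CycTop ⁅H, H⁆ t := by
  haveI : (zpowers w ⊔ L (t + 1)).Normal := by
    refine normal_of_commutator_le ?_
    refine le_trans (commutator_mono (sup_le ((zpowers_le).2 hwt) (Subgroup.lowerCentralSeries_antitone _ t.le_succ))
      le_rfl) ?_
    rw [← Subgroup.lowerCentralSeries_succ]
    exact le_sup_right
  exact ⟨w, hw, commutator_le_of_pairwise _ H S hH hS⟩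

variable [Finite G] {p : ℕ} [hp : Fact p.Prime]

theorem exists_relIndex_pow (hP : IsPGroup p G) (K H : Subgroup G) : ∃ a, K.relIndex H = p ^ a := by
  obtain ⟨n, hn⟩ := hP.exists_card_eq
  have hd : K.relIndex H ∣ p ^ n := hn ▸ (relIndex_dvd_card K H).trans H.card_subgroup_dvd_card
  obtain ⟨a, -, ha⟩ := (Nat.dvd_prime_pow hp.out).1 hd
  exact ⟨a, ha⟩

omit [Finite G] in
theorem zpowers_sup_eq_of_relIndex {K H : Subgroup G} (hKH : K ≤ H) (h : K.relIndex H = p) {x : G}
    (hx : x ∈ H) (hxK : x ∉ K) : zpowers x ⊔ K = H := by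
  set M := zpowers x ⊔ K
  have hMH : M ≤ H := sup_le (zpowers_le.2 hx) hKH
  have e := relIndex_mul_relIndex K M H le_sup_right hMH
  rw [h] at e
  rcases (Nat.dvd_prime hp.out).1 (Dvd.intro _ e) with e1 | e1
  · exact absurd (relIndex_eq_one.1 e1 (mem_sup_left (mem_zpowers x))) hxK
  · rw [e1] at e
    have e2 : M.relIndex H = 1 := (Nat.mul_eq_left hp.out.ne_zero).1 e
    exact le_antisymm hMH (relIndex_eq_one.1 e2)

open scoped Classical in
/-- The descending chain `C (j + 1) = ⁅C j, G⁆ K` from `H` down to `K`. -/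
theorem exists_chain (hP : IsPGroup p G) (H K : Subgroup G) [H.Normal] [K.Normal] (hKH : K ≤ H) :
    ∃ (C : ℕ → Subgroup G) (Λ : ℕ), C 0 = H ∧ (∀ j, (C j).Normal) ∧ (∀ j, K ≤ C j) ∧ (∀ j, C j ≤ H) ∧
      (∀ j, C (j + 1) = ⁅C j, (⊤ : Subgroup G)⁆ ⊔ K) ∧ C Λ = K ∧
      (∀ i j, i ≤ j → C j ≤ C i) ∧ ∀ j < Λ, C (j + 1) < C j := by
  set C : ℕ → Subgroup G := fun j => Nat.rec H (fun _ X => ⁅X, (⊤ : Subgroup G)⁆ ⊔ K) j with hC
  have hCs : ∀ j, C (j + 1) = ⁅C j, (⊤ : Subgroup G)⁆ ⊔ K := fun j => rfl
  have hn : ∀ j, (C j).Normal := by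
    intro j
    induction j with
    | zero => exact (inferInstance : H.Normal)
    | succ j ih => haveI := ih; rw [hCs]; infer_instance
  have hK : ∀ j, K ≤ C j := fun j => by
    cases j with
    | zero => exact hKH
    | succ j => rw [hCs]; exact le_sup_right
  have hanti : ∀ j, C (j + 1) ≤ C j := fun j => by
    haveI := hn j
    rw [hCs]; exact sup_le (commutator_le_left _ _) (hK j)
  have hmono : ∀ i j, i ≤ j → C j ≤ C i := fun i j hij => by
    induction hij with
    | refl => exact le_rfl
    | step _ ih => exact (hanti _).trans ih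
  have hlcs : ∀ j, C j ≤ L j ⊔ K := by
    intro j
    induction j with
    | zero => rw [Subgroup.lowerCentralSeries_zero, top_sup_eq]; exact le_top
    | succ j ih =>
      rw [hCs]
      refine sup_le ?_ le_sup_right
      refine le_trans (commutator_mono ih le_rfl) ?_
      rw [commutator_le]
      intro a ha b _
      obtain ⟨c, hc, d, hd, rfl⟩ := mem_sup_of_normal_right.1 ha
      rw [commutatorElement_def, show c * d * b * (c * d)⁻¹ * b⁻¹ =
        (c * (d * b * d⁻¹ * b⁻¹) * c⁻¹) * (c * b * c⁻¹ * b⁻¹) by group]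
      refine mul_mem (mem_sup_right ?_) (mem_sup_left ?_)
      · refine (inferInstance : K.Normal).conj_mem _ ?_ c
        rw [show d * b * d⁻¹ * b⁻¹ = d * (b * d⁻¹ * b⁻¹) by group]
        exact mul_mem hd ((inferInstance : K.Normal).conj_mem _ (inv_mem hd) b)
      · rw [Subgroup.lowerCentralSeries_succ, ← commutatorElement_def]
        exact commutator_mem_commutator hc (mem_top b)
  haveI := hP.isNilpotent
  obtain ⟨n, hn0⟩ := Subgroup.nilpotent_iff_lowerCentralSeries.1 (inferInstance : Group.IsNilpotent G)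
  have hex : ∃ j, C j = K := ⟨n, le_antisymm ((hlcs n).trans (by rw [hn0, bot_sup_eq])) (hK n)⟩
  refine ⟨C, Nat.find hex, rfl, hn, hK, fun j => hmono 0 j (Nat.zero_le j), hCs, Nat.find_spec hex,
    hmono, fun j hj => lt_of_le_of_ne (hanti j) fun e => ?_⟩
  have hstab : ∀ i, C (j + i) = C j := by
    intro i
    induction i with
    | zero => rfl
    | succ i ih => rw [← Nat.add_assoc, hCs, ih, ← hCs, e]
  have h1 : C j = K := by
    refine le_antisymm ?_ (hK j)
    rw [← hstab n]
    exact ((hlcs (j + n)).trans (sup_le_sup_right (Subgroup.lowerCentralSeries_antitone _ (Nat.le_add_left n j)) K)).trans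
      (by rw [hn0, bot_sup_eq])
  exact Nat.find_min hex hj h1

/-- The basic step. -/
theorem step (hP : IsPGroup p G) (H : Subgroup G) [H.Normal] (s : ℕ) (hs : H ≤ L s) (hne : ⁅H, H⁆ ≠ ⊥) :
    ∃ a, ⁅H, H⁆.relIndex H = p ^ a ∧ s + 2 ≤ a ∧ (CycTop H s → ⁅H, H⁆ ≤ L (2 * s + 2)) ∧
      (a = s + 2 → ¬ CycTop H s → CycTop ⁅H, H⁆ (2 * s + 1)) ∧
      (a = s + 2 → CycTop H s → CycTop ⁅H, H⁆ (2 * s + 2)) := by
  classical
  set K := ⁅H, H⁆ with hKdef
  have hKH : K ≤ H := commutator_le_left _ _
  obtain ⟨a, ha⟩ := exists_relIndex_pow hP K H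
  have hKL : K ≤ L (2 * s + 1) :=
    (commutator_mono hs hs).trans ((lcs_commutator_le s s).trans (le_of_eq (congrArg _ (by omega))))
  have hKL2 : CycTop H s → K ≤ L (2 * s + 2) := by
    rintro ⟨x, hxH, hx⟩
    refine commutator_le_of_pairwise _ H ({x} ∪ (L (s + 1) : Set G)) ?_ ?_
    · refine hx.trans (sup_le (zpowers_le.2 (subset_closure (Or.inl rfl))) fun y hy => subset_closure (Or.inr hy))
    · intro b hb c hc
      have e1 : ∀ b c : G, b ∈ L (s + 1) → c ∈ L s → ⁅b, c⁆ ∈ L (2 * s + 2) := fun b c hb hc =>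
        ((lcs_commutator_le (s + 1) s).trans (le_of_eq (congrArg _ (by omega)))) (commutator_mem_commutator hb hc)
      have hsub : ∀ b, b ∈ L (s + 1) → b ∈ L s := fun b hb => Subgroup.lowerCentralSeries_antitone _ s.le_succ hb
      rcases hb with rfl | hb <;> rcases hc with rfl | hc
      · rw [commutatorElement_self]; exact one_mem _
      · rw [← commutatorElement_inv]; exact inv_mem (e1 _ _ hc (hs hxH))
      · exact e1 _ _ hb (hs hxH)
      · exact e1 b c hb (hsub c hc)
  obtain ⟨C, Λ, hC0, hCn, hCK, hCH, hCs, hCΛ, hmono, hstrict⟩ := exists_chain hP H K hKH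
  -- modulo `⁅K, G⁆`
  set M := ⁅K, (⊤ : Subgroup G)⁆ with hMdef
  have hMK : M ≤ K := commutator_le_left _ _
  have hMne : ¬ K ≤ M := by
    intro h
    have hle : ∀ j, K ≤ L j := by
      intro j
      induction j with
      | zero => rw [Subgroup.lowerCentralSeries_zero]; exact le_top
      | succ j ih => exact h.trans ((commutator_mono ih le_rfl).trans (by rw [Subgroup.lowerCentralSeries_succ]))
    haveI := hP.isNilpotent
    obtain ⟨n, hn0⟩ := Subgroup.nilpotent_iff_lowerCentralSeries.1 (inferInstance : Group.IsNilpotent G)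
    exact hne (eq_bot_iff.2 (hn0 ▸ hle n))
  let A : ℕ → Subgroup G := fun j => if j ≤ Λ then C j else M
  have hAn : ∀ j, (A j).Normal := fun j => by
    simp only [A]; split_ifs
    · exact hCn j
    · infer_instance
  have hA : ∀ j, ⁅A j, (⊤ : Subgroup G)⁆ ≤ A (j + 1) := by
    intro j
    simp only [A]
    split_ifs with h1 h2 h3
    · rw [hCs]; exact le_sup_left
    · rw [show j = Λ by omega, hCΛ]
    · omega
    · exact commutator_le_left _ _
  have hcomm : ∀ j, j ≤ Λ → Λ ≤ j + s → ∀ b ∈ C j, ∀ c ∈ L s, ⁅b, c⁆ ∈ M := by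
    intro j hj hjs b hb c hc
    have := commutator_seq_le A hAn hA s j (commutator_mem_commutator
      (show b ∈ A j by simp only [A, if_pos hj]; exact hb) hc)
    simpa only [A, if_neg (show ¬ j + s + 1 ≤ Λ by omega)] using this
  -- exponents along the chain
  choose e he using fun j => exists_relIndex_pow hP (C j) H
  have hmul : ∀ i j, i ≤ j → (C j).relIndex (C i) * (C i).relIndex H = (C j).relIndex H := fun i j hij =>
    relIndex_mul_relIndex _ _ _ (hmono i j hij) (hCH i)
  have he0 : e 0 = 0 := by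
    refine Nat.pow_right_injective hp.out.two_le ?_
    show p ^ e 0 = p ^ 0
    rw [← he, hC0, relIndex_self, pow_zero]
  have hinc : ∀ j < Λ, e j < e (j + 1) := by
    intro j hj
    have e1 := hmul j (j + 1) j.le_succ
    rw [he, he] at e1
    obtain ⟨b, hb⟩ := exists_relIndex_pow hP (C (j + 1)) (C j)
    rw [hb, ← pow_add] at e1
    have hb0 : b ≠ 0 := fun e0 => (hstrict j hj).not_ge (relIndex_eq_one.1 (by rw [hb, e0, pow_zero]))
    have := Nat.pow_right_injective hp.out.two_le e1
    omega
  have hgrow : ∀ i j, i ≤ j → j ≤ Λ → e i + (j - i) ≤ e j := by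
    intro i j hij
    induction j, hij using Nat.le_induction with
    | base => intro _; omega
    | succ m hm ih => intro hjΛ; have := ih (by omega); have := hinc m (by omega); omega
  have heΛ : e Λ = a := by
    refine Nat.pow_right_injective hp.out.two_le ?_
    show p ^ e Λ = p ^ a
    rw [← he, hCΛ, ha]
  have hΛs : s + 1 ≤ Λ := by
    by_contra hlt
    refine hMne (commutator_le.2 fun b hb c hc => hcomm 0 (Nat.zero_le _) (by omega) b (hC0.symm ▸ hb) c (hs hc))
  -- the quotient `H / C 1` is not cyclic when `Λ = s + 1`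
  have he1 : Λ = s + 1 → 2 ≤ e 1 := by
    intro hΛ
    by_contra hlt
    have h01 : e 0 < e 1 := hinc 0 (by omega)
    have h1 : e 1 = 1 := by omega
    obtain ⟨x, hx, hx1⟩ : ∃ x ∈ H, x ∉ C 1 := by
      by_contra h
      push Not at h
      exact (hstrict 0 (by omega)).not_ge (hC0.symm ▸ h)
    have hgen := zpowers_sup_eq_of_relIndex (p := p) (hCH 1) (by rw [he, h1, pow_one]) hx hx1
    refine hMne (commutator_le_of_pairwise M H ({x} ∪ (C 1 : Set G)) ?_ ?_)
    · rw [← hgen]
      exact sup_le (zpowers_le.2 (subset_closure (Or.inl rfl))) fun y hy => subset_closure (Or.inr hy)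
    · intro b hb c hc
      have hk := fun (b : G) (hb : b ∈ C 1) (c : G) (hc : c ∈ L s) => hcomm 1 (by omega) (by omega) b hb c hc
      rcases hb with rfl | hb <;> rcases hc with rfl | hc
      · rw [commutatorElement_self]; exact one_mem _
      · rw [← commutatorElement_inv]; exact inv_mem (hk c hc _ (hs hx))
      · exact hk b hb _ (hs hx)
      · exact hk b hb c (hs (hCH 1 hc))
  have ha2 : s + 2 ≤ a := by
    rcases eq_or_lt_of_le hΛs with h1 | h1
    · have := he1 h1.symm
      have := hgrow 1 Λ (by omega) le_rfl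
      omega
    · have := hgrow 0 Λ (Nat.zero_le _) le_rfl
      omega
  have hC1 : C 1 ≤ L (s + 1) := by
    rw [hCs, hC0]
    refine sup_le ?_ (hKL.trans (Subgroup.lowerCentralSeries_antitone _ (by omega)))
    exact (commutator_mono hs le_rfl).trans (by rw [Subgroup.lowerCentralSeries_succ])
  refine ⟨a, ha, ha2, hKL2, fun hmin hnc => ?_, fun hmin hc => ?_⟩
  · -- noncyclic top
    have hΛ : Λ = s + 1 := by
      by_contra hne'
      apply hnc
      have h01 : e 0 < e 1 := hinc 0 (by omega)
      have h1 : e 1 = 1 := by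
        have := hgrow 1 Λ (by omega) le_rfl
        omega
      obtain ⟨x, hx, hx1⟩ : ∃ x ∈ H, x ∉ C 1 := by
        by_contra h
        push Not at h
        exact (hstrict 0 (by omega)).not_ge (hC0.symm ▸ h)
      refine ⟨x, hx, ?_⟩
      rw [← zpowers_sup_eq_of_relIndex (p := p) (hCH 1) (by rw [he, h1, pow_one]) hx hx1]
      exact sup_le_sup_left hC1 _
    obtain ⟨x, hx, hx1⟩ : ∃ x ∈ H, x ∉ C 1 := by
      by_contra h
      push Not at h
      exact (hstrict 0 (by omega)).not_ge (hC0.symm ▸ h)
    set X := zpowers x ⊔ C 1 with hX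
    obtain ⟨y, hy, hyX⟩ : ∃ y ∈ H, y ∉ X := by
      by_contra h
      push Not at h
      exact hnc ⟨x, hx, fun z hz => (sup_le_sup_left hC1 (zpowers x) : X ≤ _) (h z hz)⟩
    have hXH : X ≤ H := sup_le (zpowers_le.2 hx) (hCH 1)
    have h12 : e 1 = 2 := by
      have := he1 hΛ
      have := hgrow 1 Λ (by omega) le_rfl
      omega
    have hXr : X.relIndex H = p := by
      have e1 := relIndex_mul_relIndex (C 1) X H le_sup_right hXH
      obtain ⟨b, hb⟩ := exists_relIndex_pow hP (C 1) X
      obtain ⟨c, hc⟩ := exists_relIndex_pow hP X H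
      rw [hb, hc, he, h12, ← pow_add] at e1
      have := Nat.pow_right_injective hp.out.two_le e1
      have hb0 : b ≠ 0 := fun e0 => hx1 (relIndex_eq_one.1 (by rw [hb, e0, pow_zero])
        (mem_sup_left (mem_zpowers x) : x ∈ X))
      have hc0 : c ≠ 0 := fun e0 => hyX (relIndex_eq_one.1 (by rw [hc, e0, pow_zero]) hy)
      rw [hc, show c = 1 by omega, pow_one]
    have hgen := zpowers_sup_eq_of_relIndex (p := p) hXH hXr hy hyX
    refine commutator_cycTop ({x, y} ∪ (C 1 : Set G)) ?_ (w := ⁅x, y⁆) (commutator_mem_commutator hx hy)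
      (hKL (commutator_mem_commutator hx hy)) ?_
    · rw [← hgen, hX]
      exact sup_le (zpowers_le.2 (subset_closure (Or.inl (Or.inr rfl))))
        (sup_le (zpowers_le.2 (subset_closure (Or.inl (Or.inl rfl)))) fun z hz => subset_closure (Or.inr hz))
    · have e1 : ∀ b ∈ C 1, ∀ c ∈ L s, ⁅b, c⁆ ∈ zpowers ⁅x, y⁆ ⊔ L (2 * s + 1 + 1) := fun b hb c hc =>
        mem_sup_right (((lcs_commutator_le (s + 1) s).trans (le_of_eq (congrArg _ (by omega))))
          (commutator_mem_commutator (hC1 hb) hc))
      intro b hb c hc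
      rcases hb with (rfl | rfl) | hb <;> rcases hc with (rfl | rfl) | hc
      all_goals first
        | exact e1 _ hb _ (hs hx)
        | exact e1 _ hb _ (hs hy)
        | exact e1 _ hb _ (hs (hCH 1 hc))
        | (rw [commutatorElement_self]; exact one_mem _)
        | exact mem_sup_left (mem_zpowers _)
        | (refine inv_mem_iff.1 ?_; rw [commutatorElement_inv]; exact (mem_sup_left (mem_zpowers _)))
        | (refine inv_mem_iff.1 ?_; rw [commutatorElement_inv]; exact (e1 _ hc _ (hs hx)))
        | (refine inv_mem_iff.1 ?_; rw [commutatorElement_inv]; exact (e1 _ hc _ (hs hy)))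
  · -- cyclic top
    have hK2 := hKL2 hc
    have hM3 : M ≤ L (2 * s + 2 + 1) :=
      (commutator_mono hK2 le_rfl).trans (Subgroup.lowerCentralSeries_succ (⊤ : Subgroup G) (2 * s + 2)).ge
    rcases eq_or_lt_of_le hΛs with hΛ | hΛ
    · have h12 : e 1 = 2 := by
        have := he1 hΛ.symm
        have := hgrow 1 Λ (by omega) le_rfl
        omega
      obtain ⟨x, hx, hx1⟩ : ∃ x ∈ H, x ∉ C 1 := by
        by_contra h
        push Not at h
        exact (hstrict 0 (by omega)).not_ge (hC0.symm ▸ h)
      set X := zpowers x ⊔ C 1 with hX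
      have hXH : X ≤ H := sup_le (zpowers_le.2 hx) (hCH 1)
      have hkC : ∀ b ∈ C 1, ∀ c ∈ L s, ∀ w : G, ⁅b, c⁆ ∈ zpowers w ⊔ L (2 * s + 2 + 1) := fun b hb c hc w =>
        mem_sup_right (hM3 (hcomm 1 (by omega) (by omega) b hb c hc))
      obtain ⟨y, hy, hgen⟩ : ∃ y ∈ H, H ≤ zpowers y ⊔ X := by
        by_cases hall : H ≤ X
        · exact ⟨1, one_mem H, hall.trans le_sup_right⟩
        · obtain ⟨y, hy, hyX⟩ : ∃ y ∈ H, y ∉ X := by
            by_contra h
            push Not at h
            exact hall h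
          refine ⟨y, hy, (zpowers_sup_eq_of_relIndex (p := p) hXH ?_ hy hyX).ge⟩
          have e1 := relIndex_mul_relIndex (C 1) X H le_sup_right hXH
          obtain ⟨b, hb⟩ := exists_relIndex_pow hP (C 1) X
          obtain ⟨c, hc'⟩ := exists_relIndex_pow hP X H
          rw [hb, hc', he, h12, ← pow_add] at e1
          have := Nat.pow_right_injective hp.out.two_le e1
          have hb0 : b ≠ 0 := fun e0 => hx1 (relIndex_eq_one.1 (by rw [hb, e0, pow_zero])
            (mem_sup_left (mem_zpowers x) : x ∈ X))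
          have hc0 : c ≠ 0 := fun e0 => hyX (relIndex_eq_one.1 (by rw [hc', e0, pow_zero]) hy)
          rw [hc', show c = 1 by omega, pow_one]
      refine commutator_cycTop ({x, y} ∪ (C 1 : Set G)) ?_ (w := ⁅x, y⁆) (commutator_mem_commutator hx hy)
        (hK2 (commutator_mem_commutator hx hy)) ?_
      · refine hgen.trans ?_
        exact sup_le (zpowers_le.2 (subset_closure (Or.inl (Or.inr rfl))))
          (sup_le (zpowers_le.2 (subset_closure (Or.inl (Or.inl rfl)))) fun z hz => subset_closure (Or.inr hz))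
      · intro b hb c hc
        rcases hb with (rfl | rfl) | hb <;> rcases hc with (rfl | rfl) | hc
        all_goals first
          | exact hkC _ hb _ (hs hx) _
          | exact hkC _ hb _ (hs hy) _
          | exact hkC _ hb _ (hs (hCH 1 hc)) _
          | (rw [commutatorElement_self]; exact one_mem _)
          | exact mem_sup_left (mem_zpowers _)
          | (refine inv_mem_iff.1 ?_; rw [commutatorElement_inv]; exact (mem_sup_left (mem_zpowers _)))
          | (refine inv_mem_iff.1 ?_; rw [commutatorElement_inv]; exact (hkC _ hc _ (hs hx) _))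
          | (refine inv_mem_iff.1 ?_; rw [commutatorElement_inv]; exact (hkC _ hc _ (hs hy) _))
    · have h01 : e 0 < e 1 := hinc 0 (by omega)
      have h12 : e 1 < e 2 := hinc 1 (by omega)
      have hd1 := hgrow 1 Λ (by omega) le_rfl
      have hd2 := hgrow 2 Λ (by omega) le_rfl
      obtain ⟨x, hx, hx1⟩ : ∃ x ∈ H, x ∉ C 1 := by
        by_contra h
        push Not at h
        exact (hstrict 0 (by omega)).not_ge (hC0.symm ▸ h)
      obtain ⟨y, hy, hy2⟩ : ∃ y ∈ C 1, y ∉ C 2 := by
        by_contra h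
        push Not at h
        exact (hstrict 1 (by omega)).not_ge h
      have hg1 := zpowers_sup_eq_of_relIndex (p := p) (hCH 1) (by rw [he, show e 1 = 1 by omega, pow_one]) hx hx1
      have hg2 := zpowers_sup_eq_of_relIndex (p := p) (hmono 1 2 (by omega)) (by
        have e1 := hmul 1 2 (by omega)
        rw [he, he, show e 1 = 1 by omega, show e 2 = 2 by omega, pow_one, pow_two] at e1
        exact mul_right_cancel₀ hp.out.ne_zero e1) hy hy2
      have hC2 : C 2 ≤ L (s + 2) := by
        rw [hCs]
        refine sup_le ?_ (hK2.trans (Subgroup.lowerCentralSeries_antitone _ (by omega)))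
        exact (commutator_mono hC1 le_rfl).trans (by rw [Subgroup.lowerCentralSeries_succ _ (s + 1)])
      have e1 : ∀ b ∈ C 2, ∀ c ∈ L s, ∀ w : G, ⁅b, c⁆ ∈ zpowers w ⊔ L (2 * s + 2 + 1) := fun b hb c hc w =>
        mem_sup_right (((lcs_commutator_le (s + 2) s).trans (le_of_eq (congrArg _ (by omega))))
          (commutator_mem_commutator (hC2 hb) hc))
      refine commutator_cycTop ({x, y} ∪ (C 2 : Set G)) ?_ (w := ⁅x, y⁆)
        (commutator_mem_commutator hx (hCH 1 hy)) (hK2 (commutator_mem_commutator hx (hCH 1 hy))) ?_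
      · rw [← hg1]
        refine sup_le (zpowers_le.2 (subset_closure (Or.inl (Or.inl rfl)))) ?_
        rw [← hg2]
        exact sup_le (zpowers_le.2 (subset_closure (Or.inl (Or.inr rfl)))) fun z hz => subset_closure (Or.inr hz)
      · intro b hb c hc
        rcases hb with (rfl | rfl) | hb <;> rcases hc with (rfl | rfl) | hc
        all_goals first
          | exact e1 _ hb _ (hs hx) _
          | exact e1 _ hb _ (hs (hCH 1 hy)) _
          | exact e1 _ hb _ (hs (hCH 2 hc)) _
          | (rw [commutatorElement_self]; exact one_mem _)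
          | exact mem_sup_left (mem_zpowers _)
          | (refine inv_mem_iff.1 ?_; rw [commutatorElement_inv]; exact (mem_sup_left (mem_zpowers _)))
          | (refine inv_mem_iff.1 ?_; rw [commutatorElement_inv]; exact (e1 _ hc _ (hs hx) _))
          | (refine inv_mem_iff.1 ?_; rw [commutatorElement_inv]; exact (e1 _ hc _ (hs (hCH 1 hy)) _))

/-- **Mann's bound.** -/
theorem bound (hP : IsPGroup p G) (n k : ℕ) (hcard : Nat.card G = p ^ n) (hk : derivedSeries G k ≠ ⊥) :
    2 ^ k + 2 * k ≤ n + 2 := by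
  have hne : ∀ i ≤ k, derivedSeries G i ≠ ⊥ := fun i hi h => hk (eq_bot_iff.2 (h ▸ derivedSeries_antitone G hi))
  have main : ∀ i ≤ k, ∃ A s, (derivedSeries G i).index = p ^ A ∧ derivedSeries G i ≤ L s ∧ 2 ^ i ≤ s + 1 ∧
      (2 * 2 ^ i + 2 * i ≤ A + s + 2 ∨
        (CycTop (derivedSeries G i) s ∧ 2 * 2 ^ i + 2 * i ≤ A + s + 3)) := by
    intro i
    induction i with
    | zero =>
      intro _
      exact ⟨0, 0, by rw [derivedSeries_zero, index_top, pow_zero], by rw [Subgroup.lowerCentralSeries_zero]; exact le_top,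
        by norm_num, Or.inl (by norm_num)⟩
    | succ i ih =>
      intro hi
      obtain ⟨A, s, hA, hs, hs2, hinv⟩ := ih (by omega)
      have hne1 := hne (i + 1) hi
      rw [derivedSeries_succ] at hne1
      obtain ⟨a, ha, ha2, hb, hc, hd⟩ := step hP (derivedSeries G i) s hs hne1
      have hidx : (derivedSeries G (i + 1)).index = p ^ (A + a) := by
        rw [derivedSeries_succ, ← relIndex_mul_index (commutator_le_left (derivedSeries G i) _), ha, hA,
          ← pow_add, add_comm]
      have h1 : ∀ j, derivedSeries G i ≤ L s → ⁅derivedSeries G i, derivedSeries G i⁆ ≤ L (j + j + 1) ∨ j ≠ s :=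
        fun j hj => if hjs : j = s then Or.inl (hjs ▸ (commutator_mono hj hj).trans (lcs_commutator_le s s))
          else Or.inr hjs
      have hp2 : 2 ^ (i + 1) = 2 * 2 ^ i := by rw [pow_succ']
      by_cases hct : CycTop (derivedSeries G i) s
      · refine ⟨A + a, 2 * s + 2, hidx, by rw [derivedSeries_succ]; exact hb hct, by omega, ?_⟩
        rcases eq_or_lt_of_le ha2 with he | he
        · refine Or.inr ⟨by rw [derivedSeries_succ]; exact hd he.symm hct, ?_⟩
          rcases hinv with h | ⟨-, h⟩ <;> omega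
        · left
          rcases hinv with h | ⟨-, h⟩ <;> omega
      · have h := hinv.resolve_right fun h => hct h.1
        refine ⟨A + a, 2 * s + 1, hidx, ?_, by omega, ?_⟩
        · rw [derivedSeries_succ]
          have := (h1 s hs).resolve_right (by simp)
          rwa [show s + s + 1 = 2 * s + 1 by omega] at this
        · rcases eq_or_lt_of_le ha2 with he | he
          · exact Or.inr ⟨by rw [derivedSeries_succ]; exact hc he.symm hct, by omega⟩
          · left; omega
  rcases k with _ | k
  · simp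
  obtain ⟨A, s, hA, hs, -, hinv⟩ := main k (by omega)
  have hne1 := hne (k + 1) le_rfl
  rw [derivedSeries_succ] at hne1
  obtain ⟨a, ha, ha2, -⟩ := step hP (derivedSeries G k) s hs hne1
  obtain ⟨b, hb⟩ := (hP.to_subgroup ⁅derivedSeries G k, derivedSeries G k⁆).exists_card_eq
  have hb0 : b ≠ 0 := fun e => hne1 (Subgroup.card_eq_one.1 (by rw [hb, e, pow_zero]))
  have hcard' : n = b + a + A := by
    apply Nat.pow_right_injective hp.out.two_le
    show p ^ n = p ^ (b + a + A)
    rw [pow_add, pow_add, ← hb, ← ha, ← hA, ← hcard, mul_assoc,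
      relIndex_mul_index (commutator_le_left (derivedSeries G k) _), card_mul_index]
  have hp2 : 2 ^ (k + 1) = 2 * 2 ^ k := by rw [pow_succ']
  rcases hinv with h | ⟨-, h⟩ <;> omega

end H79.Mann
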