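import Cfsg.Agent.H79Basic
import Cfsg.Agent.Lib.Transfer.Hall
import Cfsg.Agent.Lib.Solvable.NilpotentSubgroups
import Cfsg.Agent.Lib.Coprime.Action

/-! Groups with a nilpotent maximal subgroup. -/

set_option autoImplicit false

namespace H79.MaxNilp

open Pointwise

variable {G : Type*} [Group G] [Finite G]

/-- If Frobenius' condition fails, it fails at a subgroup containing its centraliser in a Sylow subgroup. -/
theorem exists_bad {p : ℕ} [hp : Fact p.Prime] (h : ¬ CfsgLib.Transfer.FrobeniusCond p G) :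
    ∃ (P : Sylow p G) (Q : Subgroup G), Q ≤ (P : Subgroup G) ∧
      (P : Subgroup G) ⊓ Subgroup.centralizer (Q : Set G) ≤ Q ∧
      ∃ g ∈ Subgroup.normalizer (Q : Set G), (orderOf g).Coprime p ∧
        g ∉ Subgroup.centralizer (Q : Set G) := by
  classical
  let Bad : Subgroup G → Prop := fun Q => IsPGroup p Q ∧
    ∃ g ∈ Subgroup.normalizer (Q : Set G), (orderOf g).Coprime p ∧
      g ∉ Subgroup.centralizer (Q : Set G)
  obtain ⟨Q, hQ⟩ : ∃ Q, Bad Q := by
    simp only [CfsgLib.Transfer.FrobeniusCond, not_forall] at h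
    obtain ⟨Q, hQ, g, hg, hc, hgC⟩ := h
    exact ⟨Q, hQ, g, hg, hc, hgC⟩
  obtain ⟨Q, hQmax⟩ := (Set.toFinite {Q | Bad Q}).exists_maximal ⟨Q, hQ⟩
  obtain ⟨hQp, g, hg, hgc, hgC⟩ := hQmax.prop
  set N := Subgroup.normalizer (Q : Set G) with hN
  set C := Subgroup.centralizer (Q : Set G) with hC
  have hCN : C ≤ N := Subgroup.centralizer_le_normalizer _
  have hCn : (C.subgroupOf N).Normal := by
    refine ⟨fun c hc n => ?_⟩
    rw [Subgroup.mem_subgroupOf] at hc ⊢
    rw [hC, Subgroup.mem_centralizer_iff] at hc ⊢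
    intro q hq
    have hq' : (n : G)⁻¹ * q * n ∈ Q := by
      have := (Subgroup.mem_normalizer_iff.1 (N.inv_mem n.2) q).1 hq
      simpa using this
    have := hc _ hq'
    simp only [Subgroup.coe_mul, Subgroup.coe_inv]
    calc q * ((n : G) * c * (n : G)⁻¹) = n * (((n : G)⁻¹ * q * n) * c) * (n : G)⁻¹ := by group
      _ = n * (c * ((n : G)⁻¹ * q * n)) * (n : G)⁻¹ := by rw [this]
      _ = (n : G) * c * (n : G)⁻¹ * q := by group
  obtain ⟨D⟩ : Nonempty (Sylow p (C.subgroupOf N)) := inferInstance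
  set D₁ := ((D : Subgroup (C.subgroupOf N)).map (C.subgroupOf N).subtype) with hD₁
  set D₂ := D₁.map N.subtype with hD₂
  have hD₂C : D₂ ≤ C := by
    rintro _ ⟨_, ⟨x, -, rfl⟩, rfl⟩
    exact x.2
  have hD₂N : D₂ ≤ N := hD₂C.trans hCN
  have hD₂p : IsPGroup p D₂ := (D.2.map _).map _
  set Q₁ := D₂ ⊔ Q with hQ₁
  have hQ₁p : IsPGroup p Q₁ := hD₂p.to_sup_of_normal_right' hQp hD₂N
  -- Frattini
  have hfr := Sylow.normalizer_sup_eq_top D
  have hgm : (⟨g, hg⟩ : N) ∈ Subgroup.normalizer (D₁ : Set N) ⊔ C.subgroupOf N := by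
    rw [hfr]; trivial
  rw [← SetLike.mem_coe, Subgroup.mul_normal] at hgm
  obtain ⟨n, hn, c, hc, hnc⟩ := hgm
  replace hnc : n * c = ⟨g, hg⟩ := hnc
  obtain ⟨a, m, hm, hoa⟩ : ∃ a m, ¬ p ∣ m ∧ orderOf n = p ^ a * m :=
    ⟨_, _, Nat.not_dvd_ordCompl hp.out (orderOf_pos n).ne', (Nat.ordProj_mul_ordCompl_eq_self (orderOf n) p).symm⟩
  have hn₁ : (orderOf (n ^ p ^ a)).Coprime p := by
    rw [orderOf_pow, hoa, Nat.gcd_mul_right_left, Nat.mul_div_cancel_left _ (pow_pos hp.out.pos a)]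
    exact (Nat.Coprime.symm ((hp.out.coprime_iff_not_dvd).2 hm))
  have hn₁C : (n ^ p ^ a : N) ∉ C.subgroupOf N := by
    intro hmem
    have he : QuotientGroup.mk' (C.subgroupOf N) n = QuotientGroup.mk' (C.subgroupOf N) ⟨g, hg⟩ := by
      rw [← hnc, map_mul, QuotientGroup.mk'_apply, QuotientGroup.mk'_apply,
        (QuotientGroup.eq_one_iff c).2 hc, mul_one]
    have h1 : (QuotientGroup.mk' (C.subgroupOf N) ⟨g, hg⟩) ^ p ^ a = 1 := by
      rw [← he, ← map_pow]
      exact (QuotientGroup.eq_one_iff _).2 hmem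
    have h2 : orderOf (QuotientGroup.mk' (C.subgroupOf N) ⟨g, hg⟩) = 1 := by
      refine Nat.eq_one_of_dvd_coprimes (a := orderOf g) (b := p ^ a) (hgc.pow_right a) ?_ (orderOf_dvd_of_pow_eq_one h1)
      have := orderOf_map_dvd (QuotientGroup.mk' (C.subgroupOf N)) ⟨g, hg⟩
      rwa [Subgroup.orderOf_mk] at this
    rw [orderOf_eq_one_iff, QuotientGroup.mk'_apply, QuotientGroup.eq_one_iff] at h2
    exact hgC h2
  have hnN : ((n ^ p ^ a : N) : G) ∈ Subgroup.normalizer (Q₁ : Set G) := by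
    rw [SubmonoidClass.coe_pow]
    refine Subgroup.pow_mem _ ?_ _
    apply H79.mem_normalizer_of_conj_mem
    have hle : Q₁ ≤ Q₁.comap (MulAut.conj (n : G)).toMonoidHom := by
      refine sup_le ?_ ?_
      · rintro _ ⟨x, hx, rfl⟩
        refine Subgroup.mem_sup_left ⟨n * x * n⁻¹, ?_, by simp⟩
        exact (Subgroup.mem_normalizer_iff.1 hn x).1 hx
      · intro x hx
        exact Subgroup.mem_sup_right ((Subgroup.mem_normalizer_iff.1 n.2 x).1 hx)
    exact fun x hx => hle hx
  have hBad : Bad Q₁ := by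
    refine ⟨hQ₁p, _, hnN, by rwa [Subgroup.orderOf_coe], fun hmem => hn₁C ?_⟩
    exact Subgroup.centralizer_le (SetLike.coe_subset_coe.2 le_sup_right) hmem
  have hle : D₂ ≤ Q := le_trans le_sup_left (hQmax.le_of_ge hBad le_sup_right)
  obtain ⟨P, hP⟩ := hQp.exists_le_sylow
  refine ⟨P, Q, hP, ?_, g, hg, hgc, hgC⟩
  intro x hx
  apply hle
  have hD₂P : D₂ ≤ (P : Subgroup G) ⊓ C := le_inf (hle.trans hP) hD₂C
  set E := (((P : Subgroup G) ⊓ C).subgroupOf N).subgroupOf (C.subgroupOf N)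
  have hEp : IsPGroup p E := by
    refine ((P.2.to_le inf_le_left).comap_of_injective _ N.subtype_injective).comap_of_injective _ ?_
    exact (C.subgroupOf N).subtype_injective
  have hDE : (D : Subgroup (C.subgroupOf N)) ≤ E := fun y hy =>
    hD₂P ⟨y, ⟨y, hy, rfl⟩, rfl⟩
  have := D.is_maximal' hEp hDE
  have hxE : (⟨⟨x, hCN hx.2⟩, hx.2⟩ : C.subgroupOf N) ∈ E := hx
  rw [this] at hxE
  exact ⟨_, ⟨_, hxE, rfl⟩, rfl⟩

section
variable (M : Subgroup G) (hmax : IsCoatom M) (hnil : Group.IsNilpotent M)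
  (hfree : ∀ N : Subgroup G, N.Normal → N ≤ M → N = ⊥)

include hmax hfree in
omit [Finite G] in
theorem normalizer_eq {U : Subgroup G} (hU : U ≠ ⊥) (hUM : U ≤ M) (hn : M ≤ Subgroup.normalizer (U : Set G)) :
    Subgroup.normalizer (U : Set G) = M := by
  refine (hmax.le_iff.1 hn).resolve_left fun h => hU (hfree U ?_ hUM)
  exact Subgroup.normalizer_eq_top_iff.1 h

include hnil in
theorem le_normalizer_sylow {p : ℕ} [Fact p.Prime] (S : Sylow p M) :
    M ≤ Subgroup.normalizer ((S : Subgroup M).map M.subtype : Set G) := by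
  intro x hx
  have h3 : ∀ (p : ℕ) (_ : Fact p.Prime) (P : Sylow p M), (P : Subgroup M).Normal :=
    ((Group.isNilpotent_of_finite_tfae (G := M)).out 0 3).1 hnil
  have hSn : (S : Subgroup M).Normal := h3 p inferInstance S
  apply H79.mem_normalizer_of_conj_mem
  rintro _ ⟨y, hy, rfl⟩
  exact ⟨⟨x, hx⟩ * y * ⟨x, hx⟩⁻¹, hSn.conj_mem y hy _, rfl⟩

include hmax hnil hfree in
theorem exists_sylow_le {p : ℕ} [hp : Fact p.Prime] (hd : p ∣ Nat.card M) :
    ∃ P : Sylow p G, (P : Subgroup G) ≤ M := by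
  obtain ⟨S⟩ : Nonempty (Sylow p M) := inferInstance
  set S' := (S : Subgroup M).map M.subtype with hS'
  have hne : S' ≠ ⊥ := by
    rw [hS', Ne, Subgroup.map_eq_bot_iff_of_injective _ M.subtype_injective]
    exact S.ne_bot_of_dvd_card hd
  have hN := normalizer_eq M hmax hfree hne (Subgroup.map_subtype_le _) (le_normalizer_sylow M hnil S)
  obtain ⟨P, hP⟩ := (S.2.map M.subtype).exists_le_sylow
  refine ⟨P, ?_⟩
  suffices S' = P by rw [← this]; exact Subgroup.map_subtype_le _
  by_contra hne'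
  have hlt : (S'.subgroupOf P) < ⊤ := lt_top_iff_ne_top.2 fun h =>
    hne' (le_antisymm hP (Subgroup.subgroupOf_eq_top.1 h))
  have hPnil := P.2.isNilpotent
  obtain ⟨x, hxN, hx⟩ := SetLike.exists_of_lt (normalizerCondition_of_isNilpotent (G := P) _ hlt)
  have hxM : (x : G) ∈ M := by
    rw [← hN]
    apply H79.mem_normalizer_of_conj_mem
    intro y hy
    exact (Subgroup.mem_normalizer_iff.1 hxN ⟨y, hP hy⟩).1 hy
  have hle : (S : Subgroup M) ≤ (P : Subgroup G).subgroupOf M := fun y hy => hP ⟨y, hy, rfl⟩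
  have := S.is_maximal' (P.2.comap_of_injective M.subtype M.subtype_injective) hle
  refine hx ⟨⟨x, hxM⟩, ?_, rfl⟩
  rw [← this]
  exact x.2

include hmax hnil hfree in
theorem solvable_of_npc (h : ∀ p : ℕ, p.Prime → p ∣ Nat.card M → Cfsg.HasNormalPComplement p G) :
    Group.IsSolvable G := by
  have hHall : (Nat.card M).Coprime M.index := by
    refine Nat.coprime_of_dvd fun p hp hd1 hd2 => ?_
    have := Fact.mk hp
    obtain ⟨P, hP⟩ := exists_sylow_le M hmax hnil hfree hd1
    exact P.not_dvd_index (hd2.trans (Subgroup.index_dvd_of_le hP))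
  obtain ⟨K, hK, hc⟩ := CfsgLib.Transfer.exists_normal_complement_of_forall M hHall h
  have hcop : (Nat.card M).Coprime (Nat.card K) := by
    rw [← hc.index_eq_card]
    exact hHall
  have hMK : M ≤ Subgroup.normalizer (K : Set G) := Subgroup.le_normalizer_of_normal
  have hKnil : Group.IsNilpotent K := by
    refine (Group.isNilpotent_of_finite_tfae.out 0 3).2 ?_
    intro q hq P0
    obtain ⟨Q, hQ⟩ := CfsgLib.Coprime.exists_invariant_sylow M K hMK hcop (Or.inl inferInstance) q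
    have hQn : (Q : Subgroup K).Normal := by
      rcases hmax.le_iff.1 hQ with h1 | h1
      · have hn := Subgroup.normalizer_eq_top_iff.1 h1
        have := hn.subgroupOf K
        rwa [Subgroup.subgroupOf, Subgroup.comap_map_eq_self_of_injective K.subtype_injective] at this
      · have hle : (Q : Subgroup K).map K.subtype ≤ K ⊓ M :=
          le_inf (Subgroup.map_subtype_le _) (Subgroup.le_normalizer.trans h1.le)
        rw [disjoint_iff.1 hc.disjoint, le_bot_iff, Subgroup.map_eq_bot_iff_of_injective _ K.subtype_injective] at hle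
        rw [hle]; infer_instance
    have := Sylow.unique_of_normal Q hQn
    rwa [Subsingleton.elim P0 Q]
  have : Group.IsSolvable K := inferInstance
  have hq : Group.IsSolvable (G ⧸ K) := Group.isSolvable_of_surjective
    (f := (QuotientGroup.mk' K).comp M.subtype) (by
      intro x
      obtain ⟨g, rfl⟩ := QuotientGroup.mk_surjective x
      obtain ⟨⟨k, m⟩, rfl⟩ := hc.surjective g
      refine ⟨m, ?_⟩
      simp only [MonoidHom.comp_apply, Subgroup.coe_subtype, QuotientGroup.mk'_apply, QuotientGroup.mk_mul,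
        (QuotientGroup.eq_one_iff (k : G)).2 k.2, one_mul])
  exact Group.isSolvable_of_ker_le_range K.subtype (QuotientGroup.mk' K)
    (by rw [QuotientGroup.ker_mk', Subgroup.range_subtype])

end

end H79.MaxNilp
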