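import Cfsg.Agent.H79Basic
import Cfsg.Agent.Lib.Involutions.BaerSuzuki

/-! Groups without nontrivial real elements of odd order. -/

set_option autoImplicit false

namespace H79.NoReal

universe u

theorem sylow_two_normal : ∀ (n : ℕ) (G : Type u) [Group G] [Finite G], Nat.card G = n →
    (∀ x g : G, Odd (orderOf x) → g * x * g⁻¹ = x⁻¹ → x = 1) →
      ∀ P : Sylow 2 G, (P : Subgroup G).Normal := by
  intro n
  induction n using Nat.strong_induction_on with
  | _ n ih =>
    intro G _ _ hn hnr P
    classical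
    by_cases hodd : Odd (Nat.card G)
    · have hP : (P : Subgroup G) = ⊥ := by
        apply Subgroup.card_eq_one.1
        obtain ⟨e, he⟩ := IsPGroup.iff_card.1 P.isPGroup'
        exact Nat.eq_one_of_dvd_coprimes (Nat.Coprime.pow_left e (Nat.coprime_two_left.2 hodd))
          (dvd_of_eq he) (Subgroup.card_subgroup_dvd_card _)
      rw [hP]; infer_instance
    obtain ⟨t, ht⟩ := exists_prime_orderOf_dvd_card' (G := G) 2 (Nat.not_odd_iff_even.1 hodd).two_dvd
    have htwo : t⁻¹ = t := inv_eq_of_mul_eq_one_right (by rw [← pow_two, ← ht, pow_orderOf_eq_one])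
    obtain ⟨N, hNn, hNp, htN⟩ := CfsgLib.Involutions.exists_normal_isPGroup_of_mem (p := 2) (x := t) (by
      intro g
      set s := g * t * g⁻¹ with hs
      have hss : s⁻¹ = s := by rw [hs, mul_inv_rev, mul_inv_rev, inv_inv, htwo, mul_assoc]
      set y := t * s with hy
      have hinv : t * y * t⁻¹ = y⁻¹ := by
        rw [hy, mul_inv_rev, hss, htwo, show t * (t * s) = (t * t) * s by group, show t * t = 1 by
          rw [← pow_two, ← ht, pow_orderOf_eq_one], one_mul]
      obtain ⟨a, m, hm, h2, hodd'⟩ := H79.exists_odd_part y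
      have h1 : y ^ 2 ^ a = 1 := hnr _ t hodd' (by rw [← conj_pow, hinv, inv_pow])
      have hy2 : IsPGroup 2 (Subgroup.zpowers y) := by
        obtain ⟨j, -, hj⟩ := (Nat.dvd_prime_pow Nat.prime_two).1 (orderOf_dvd_of_pow_eq_one h1)
        exact IsPGroup.of_card (by rw [Nat.card_zpowers, hj])
      have ht2 : IsPGroup 2 (Subgroup.zpowers t) :=
        IsPGroup.of_card (n := 1) (by rw [Nat.card_zpowers, ht, pow_one])
      have hT : IsPGroup 2 (Subgroup.zpowers t ⊔ Subgroup.zpowers y : Subgroup G) :=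
        ht2.to_sup_of_normal_right' hy2 (Subgroup.zpowers_le.2 (H79.mem_normalizer_zpowers
          (hinv ▸ Subgroup.inv_mem _ (Subgroup.mem_zpowers y))))
      refine hT.to_le ?_
      rw [Subgroup.closure_le, Set.insert_subset_iff, Set.singleton_subset_iff]
      refine ⟨Subgroup.mem_sup_left (Subgroup.mem_zpowers t), ?_⟩
      have e : s = t * y := by rw [hy, ← mul_assoc, ← pow_two, ← ht, pow_orderOf_eq_one, one_mul]
      rw [e]
      exact Subgroup.mul_mem_sup (Subgroup.mem_zpowers t) (Subgroup.mem_zpowers y))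
    have hNne : N ≠ ⊥ := by
      intro hbot
      rw [hbot, Subgroup.mem_bot] at htN
      rw [htN, orderOf_one] at ht
      exact absurd ht (by norm_num)
    have hlt : Nat.card (G ⧸ N) < n := by
      rw [← hn, Subgroup.card_eq_card_quotient_mul_card_subgroup N]
      exact lt_mul_of_one_lt_right Nat.card_pos (Subgroup.one_lt_card_iff_ne_bot N |>.2 hNne)
    have hq : ∀ y g : G ⧸ N, Odd (orderOf y) → g * y * g⁻¹ = y⁻¹ → y = 1 := by
      intro y g hy hgy
      suffices y ∈ (⊥ : Subgroup (G ⧸ N)) from Subgroup.mem_bot.1 this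
      apply H79.mem_of_primePow_powers
      intro z hz p k hp hzo
      rw [Subgroup.mem_bot]
      rcases Nat.eq_zero_or_pos k with rfl | hk
      · rwa [pow_zero, orderOf_eq_one_iff] at hzo
      have hp2 : p ≠ 2 := by
        rintro rfl
        exact (Nat.not_even_iff_odd.2 hy) (even_iff_two_dvd.2
          ((hzo ▸ dvd_pow_self 2 hk.ne').trans (orderOf_dvd_of_mem_zpowers hz)))
      have hpN : ¬ p ∣ Nat.card N := by
        intro hd
        obtain ⟨e, he⟩ := IsPGroup.iff_card.1 hNp
        rw [he] at hd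
        exact hp2 ((Nat.prime_dvd_prime_iff_eq hp Nat.prime_two).1 (hp.dvd_of_dvd_pow hd))
      obtain ⟨g, rfl⟩ := QuotientGroup.mk_surjective g
      obtain ⟨x, rfl, hxo⟩ := H79.exists_lift_primePow N hp hpN z hzo
      obtain ⟨j, hj⟩ := Subgroup.mem_zpowers_iff.1 hz
      have himg : ((g * x * g⁻¹ : G) : G ⧸ N) = ((x⁻¹ : G) : G ⧸ N) := by
        simp only [QuotientGroup.mk_mul, QuotientGroup.mk_inv, ← hj]
        rw [← conj_zpow, hgy, inv_zpow]
      obtain ⟨c, hc, hcx⟩ := H79.exists_conj_of_quotient_eq N hp hpN x⁻¹ (g * x * g⁻¹)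
        (by rw [orderOf_inv]; exact hxo.dvd)
        (((orderOf_injective (MulAut.conj g).toMonoidHom (MulAut.conj g).injective x).trans hxo).dvd) himg
      have hx1 : x = 1 := hnr x (c * g) (by rw [hxo]; exact (hp.odd_of_ne_two hp2).pow) (by
        rw [← hcx]; group)
      rw [hx1]; rfl
    have hQ := ih _ hlt (G ⧸ N) rfl hq (P.mapSurjective (QuotientGroup.mk'_surjective N))
    have hNP : N ≤ (P : Subgroup G) := by
      obtain ⟨Q, hQle⟩ := hNp.exists_le_sylow
      obtain ⟨c, hc⟩ := MulAction.exists_smul_eq G P Q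
      intro x hx
      have h1 : c * x * c⁻¹ ∈ (↑(c • P) : Subgroup G) := by
        rw [hc]; exact hQle (hNn.conj_mem x hx c)
      have h2 := (Subgroup.mem_pointwise_smul_iff_inv_smul_mem (a := MulAut.conj c)
        (S := (P : Subgroup G))).1 h1
      simpa [MulAut.smul_def, MulAut.conj_inv_apply, mul_assoc] using h2
    rw [Sylow.coe_mapSurjective] at hQ
    have e : ((P : Subgroup G).map (QuotientGroup.mk' N)).comap (QuotientGroup.mk' N) = (P : Subgroup G) :=
      Subgroup.comap_map_eq_self (by rw [QuotientGroup.ker_mk']; exact hNP)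
    rw [← e]
    exact hQ.comap _

end H79.NoReal
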