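import Cfsg.Agent.Lib.PGroup.Frattini
import Cfsg.Agent.Lib.PGroup.Class2

/-! Generators of a `p`-group (`p` odd) all whose elements of order `p` are central. -/

set_option autoImplicit false

namespace H79.OmegaCentral

open scoped commutatorElement

universe u

variable {p : ℕ} [hp : Fact p.Prime]

/-- The elements of order dividing `p` are central. -/
def CentralOmega (p : ℕ) (H : Type u) [Group H] : Prop :=
  ∀ z : H, z ^ p = 1 → z ∈ Subgroup.center H

theorem CentralOmega.subgroup {H : Type u} [Group H] (h : CentralOmega p H) (M : Subgroup H) :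
    CentralOmega p M := fun z hz => by
  rw [Subgroup.mem_center_iff]
  exact fun g => Subtype.ext
    (Subgroup.mem_center_iff.1 (h (z : H) (by rw [← Subgroup.coe_pow, hz, Subgroup.coe_one])) (g : H))

/-- `x ^ p ^ 2 = 1` forces all commutators with `x` to have order dividing `p`. -/
theorem commutator_pow_aux (hodd : p ≠ 2) : ∀ (n : ℕ) {H : Type u} [Group H] [Finite H],
    Nat.card H ≤ n → IsPGroup p H → CentralOmega p H → ∀ x g : H, x ^ p ^ 2 = 1 → ⁅g, x⁆ ^ p = 1 := by
  intro n
  induction n with
  | zero => intro H _ _ hn; exact absurd hn (not_le.2 Nat.card_pos)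
  | succ n ih =>
    intro H _ _ hn hH hc x g hx
    obtain hh | ⟨M, hM, hxM⟩ := eq_top_or_exists_le_coatom (Subgroup.zpowers x)
    · obtain ⟨i, rfl⟩ := Subgroup.mem_zpowers_iff.1 (hh ▸ Subgroup.mem_top g)
      have h1 : ⁅x ^ i, x⁆ = 1 :=
        commutatorElement_eq_one_iff_commute.2 ((Commute.refl x).zpow_left i)
      rw [h1, one_pow]
    · have hMn := CfsgLib.PGroup.normal_of_isCoatom hH hM
      have hxm : x ∈ M := hxM (Subgroup.mem_zpowers x)
      have hym : g * x * g⁻¹ ∈ M := hMn.conj_mem x hxm g
      have hcard : Nat.card M ≤ n := by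
        have h1 := M.card_mul_index
        rw [CfsgLib.PGroup.index_of_isCoatom hH hM] at h1
        have h2 := hp.out.two_le
        have h3 : 0 < Nat.card M := Nat.card_pos
        nlinarith
      have ih' := ih hcard (hH.to_subgroup M) (hc.subgroup M)
      have hxp : x ^ p ∈ Subgroup.center H := hc _ (by rw [← pow_mul, ← sq, hx])
      have hyp : (g * x * g⁻¹) ^ p = x ^ p := by
        rw [conj_pow, Subgroup.mem_center_iff.1 hxp g, mul_inv_cancel_right]
      set y : M := ⟨g * x * g⁻¹, hym⟩
      set z : M := ⟨x, hxm⟩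
      have hcz : ⁅z⁻¹, y⁆ ^ p = 1 := by
        refine ih' y z⁻¹ (Subtype.ext ?_)
        rw [Subgroup.coe_pow, Subgroup.coe_one]
        show (g * x * g⁻¹) ^ p ^ 2 = 1
        rw [conj_pow, hx, mul_one, mul_inv_cancel]
      have hzc : ⁅z⁻¹, y⁆ ∈ Subgroup.center M := hc.subgroup M _ hcz
      have hod : Odd p := hp.out.odd_of_ne_two hodd
      have h := CfsgLib.PGroup.mul_pow_odd_of_central (x := y) (y := z⁻¹) hod hzc hcz
      have h' := congrArg (fun w : M => (w : H)) h
      simp only [Subgroup.coe_pow, Subgroup.coe_mul, Subgroup.coe_inv, y, z] at h'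
      rw [inv_pow, hyp, mul_inv_cancel] at h'
      exact h'

theorem commutator_pow (hodd : p ≠ 2) {H : Type u} [Group H] [Finite H] (hH : IsPGroup p H)
    (hc : CentralOmega p H) (x g : H) (hx : x ^ p ^ 2 = 1) : ⁅g, x⁆ ^ p = 1 :=
  commutator_pow_aux hodd _ le_rfl hH hc x g hx

/-- The subgroup of elements of order dividing `p`. -/
def omega (p : ℕ) {H : Type u} [Group H] (hc : CentralOmega p H) : Subgroup H where
  carrier := {z | z ^ p = 1}
  one_mem' := one_pow p
  mul_mem' {a b} ha hb := by
    have h : Commute a b := (Subgroup.mem_center_iff.1 (hc b hb) a)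
    show (a * b) ^ p = 1
    rw [h.mul_pow, ha, hb, mul_one]
  inv_mem' {a} ha := by
    show (a⁻¹) ^ p = 1
    rw [inv_pow, ha, inv_one]

theorem omega_le_center {H : Type u} [Group H] (hc : CentralOmega p H) :
    omega p hc ≤ Subgroup.center H := fun z hz => hc z hz

theorem exists_gens_aux (hodd : p ≠ 2) : ∀ (n : ℕ) {H : Type u} [Group H] [Finite H],
    Nat.card H ≤ n → IsPGroup p H → CentralOmega p H → ∀ m : ℕ,
      Nat.card {z : H // z ^ p = 1} ≤ p ^ m →
      ∃ S : Finset H, S.card ≤ m ∧ Subgroup.closure (S : Set H) = ⊤ := by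
  classical
  intro n
  induction n with
  | zero => intro H _ _ hn; exact absurd hn (not_le.2 Nat.card_pos)
  | succ n ih =>
    intro H _ _ hn hH hc m hm
    rcases subsingleton_or_nontrivial H with hs | hnt
    · exact ⟨∅, by simp, Subsingleton.elim _ _⟩
    by_cases hex : ∃ z : H, z ^ p = 1 ∧ z ∉ frattini H
    · obtain ⟨z, hz, hzF⟩ := hex
      simp only [frattini, Order.radical, Subgroup.mem_iInf] at hzF
      push Not at hzF
      obtain ⟨M, hM, hzM⟩ := hzF
      have hcard : Nat.card M ≤ n := by
        have h1 := M.card_mul_index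
        rw [CfsgLib.PGroup.index_of_isCoatom hH hM] at h1
        have h2 := hp.out.two_le
        have h3 : 0 < Nat.card M := Nat.card_pos
        nlinarith
      have hzord : orderOf z = p := orderOf_eq_prime hz (fun e => hzM (e ▸ M.one_mem))
      have hdisj : Disjoint (Subgroup.zpowers z) M := by
        rw [Subgroup.disjoint_def]
        intro w hwz hwM
        by_contra hw1
        have hzc : Nat.card (Subgroup.zpowers z) = p := by rw [Nat.card_zpowers, hzord]
        have := zpowers_eq_top_of_prime_card hzc (g := ⟨w, hwz⟩)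
          (fun e => hw1 (congrArg Subtype.val e))
        obtain ⟨i, hi⟩ := Subgroup.mem_zpowers_iff.1
          (this.symm ▸ Subgroup.mem_top (⟨z, Subgroup.mem_zpowers z⟩ : Subgroup.zpowers z))
        have hi' := congrArg (fun v : Subgroup.zpowers z => (v : H)) hi
        simp only [Subgroup.coe_zpow] at hi'
        exact hzM (hi' ▸ M.zpow_mem hwM i)
      obtain ⟨m', rfl⟩ : ∃ m', m = m' + 1 := by
        refine Nat.exists_eq_succ_of_ne_zero fun h0 => ?_
        rw [h0, pow_zero] at hm
        haveI := Finite.card_le_one_iff_subsingleton.1 hm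
        have h1 : z = 1 := congrArg Subtype.val
          (Subsingleton.elim (⟨z, hz⟩ : {z : H // z ^ p = 1}) ⟨1, one_pow p⟩)
        exact hzM (h1 ▸ M.one_mem)
      have hm' : Nat.card {w : M // w ^ p = 1} ≤ p ^ m' := by
        let φ : Subgroup.zpowers z × {w : M // w ^ p = 1} → {w : H // w ^ p = 1} := fun ab =>
          ⟨(ab.1 : H) * ((ab.2.1 : M) : H), by
            have ha : (ab.1 : H) ^ p = 1 := by
              obtain ⟨i, hi⟩ := Subgroup.mem_zpowers_iff.1 ab.1.2
              rw [← hi, ← zpow_natCast, zpow_comm, zpow_natCast, hz, one_zpow]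
            have hb : ((ab.2.1 : M) : H) ^ p = 1 := by
              rw [← Subgroup.coe_pow, ab.2.2, Subgroup.coe_one]
            have hco : Commute (ab.1 : H) ((ab.2.1 : M) : H) :=
              Subgroup.mem_center_iff.1 (hc _ hb) _
            rw [hco.mul_pow, ha, hb, mul_one]⟩
        have hφ : Function.Injective φ := by
          rintro ⟨a, b⟩ ⟨a', b'⟩ he
          have he' : (a : H) * ((b.1 : M) : H) = (a' : H) * ((b'.1 : M) : H) :=
            congrArg Subtype.val he
          have h1 := Subgroup.mul_injective_of_disjoint hdisj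
            (a₁ := (a, b.1)) (a₂ := (a', b'.1)) he'
          exact Prod.ext (congrArg Prod.fst h1 :) (Subtype.ext (congrArg Prod.snd h1 :))
        have h1 := Nat.card_le_card_of_injective φ hφ
        rw [Nat.card_prod, Nat.card_zpowers, hzord] at h1
        have h2 := h1.trans hm
        rw [pow_succ'] at h2
        exact Nat.le_of_mul_le_mul_left h2 hp.out.pos
      obtain ⟨S, hS, hSM⟩ := ih hcard (hH.to_subgroup M) (hc.subgroup M) m' hm'
      refine ⟨insert z (S.image M.subtype), (Finset.card_insert_le _ _).trans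
        (Nat.add_le_add_right (Finset.card_image_le.trans hS) 1), ?_⟩
      refine hM.2 _ (lt_of_le_of_ne ?_ fun e => hzM ?_)
      · intro w hw
        have h1 : w ∈ (Subgroup.closure (S : Set M)).map M.subtype := by
          rw [hSM]; exact ⟨⟨w, hw⟩, trivial, rfl⟩
        rw [MonoidHom.map_closure] at h1
        refine Subgroup.closure_mono ?_ h1
        rw [Finset.coe_insert, Finset.coe_image]
        exact Set.subset_insert _ _
      · rw [e]; exact Subgroup.subset_closure (by simp)
    · push Not at hex
      let Z := omega p hc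
      haveI : Z.Normal := ⟨fun z hz g => by
        rw [Subgroup.mem_center_iff.1 (hc z hz) g, mul_inv_cancel_right]; exact hz⟩
      have hQ : IsPGroup p (H ⧸ Z) := hH.to_quotient Z
      have hQc : CentralOmega p (H ⧸ Z) := by
        intro q hq
        obtain ⟨x, rfl⟩ := QuotientGroup.mk_surjective q
        rw [← QuotientGroup.mk_pow, QuotientGroup.eq_one_iff] at hq
        have hx : x ^ p ^ 2 = 1 := by rw [sq, pow_mul]; exact hq
        rw [Subgroup.mem_center_iff]
        intro r
        obtain ⟨g, rfl⟩ := QuotientGroup.mk_surjective r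
        rw [← QuotientGroup.mk_mul, ← QuotientGroup.mk_mul, QuotientGroup.eq_iff_div_mem, div_eq_mul_inv,
          show g * x * (x * g)⁻¹ = ⁅g, x⁆ by rw [commutatorElement_def]; group]
        exact commutator_pow hodd hH hc x g hx
      have hmQ : Nat.card {q : H ⧸ Z // q ^ p = 1} ≤ p ^ m := by
        refine le_trans ?_ hm
        have hmem : ∀ q : {q : H ⧸ Z // q ^ p = 1}, (q.1.out ^ p) ^ p = 1 := fun q => by
          have h1 := q.2
          rw [← QuotientGroup.out_eq' q.1, ← QuotientGroup.mk_pow, QuotientGroup.eq_one_iff] at h1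
          exact h1
        refine Nat.card_le_card_of_injective (fun q => (⟨q.1.out ^ p, hmem q⟩ : {z : H // z ^ p = 1}))
          fun q r hqr => Subtype.ext ?_
        have hqr' : q.1.out ^ p = r.1.out ^ p := congrArg Subtype.val hqr
        set x := q.1.out
        set y := r.1.out
        have hy2 : (y⁻¹) ^ p ^ 2 = 1 := by rw [inv_pow, sq, pow_mul, hmem r, inv_one]
        have hcp : ⁅x, y⁻¹⁆ ^ p = 1 := commutator_pow hodd hH hc y⁻¹ x hy2
        have h := CfsgLib.PGroup.mul_pow_odd_of_central (x := y⁻¹) (y := x)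
          (hp.out.odd_of_ne_two hodd) (hc _ hcp) hcp
        rw [inv_pow, ← hqr', inv_mul_cancel] at h
        rw [← QuotientGroup.out_eq' q.1, ← QuotientGroup.out_eq' r.1]
        exact ((QuotientGroup.eq (s := Z)).2 (show y⁻¹ * x ∈ Z from h)).symm
      have hZ : Z ≠ ⊥ := by
        intro hb
        obtain ⟨e, he⟩ := IsPGroup.iff_card.1 hH
        have he0 : e ≠ 0 := by
          rintro rfl
          exact absurd he (Finite.one_lt_card (α := H)).ne'
        obtain ⟨w, hw⟩ := exists_prime_orderOf_dvd_card' p (he ▸ dvd_pow_self p he0)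
        have hwZ : w ∈ Z := by
          show w ^ p = 1
          rw [← hw]; exact pow_orderOf_eq_one w
        rw [hb, Subgroup.mem_bot] at hwZ
        exact hp.out.ne_one (by rw [← hw, hwZ, orderOf_one])
      have hcard : Nat.card (H ⧸ Z) ≤ n := by
        have h1 := Subgroup.card_eq_card_quotient_mul_card_subgroup Z
        have h2 : 1 < Nat.card Z := (Subgroup.one_lt_card_iff_ne_bot Z).2 hZ
        have h3 : 0 < Nat.card (H ⧸ Z) := Nat.card_pos
        nlinarith
      obtain ⟨S, hS, hST⟩ := ih hcard hQ hQc m hmQ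
      refine ⟨S.image Quotient.out, Finset.card_image_le.trans hS, ?_⟩
      apply frattini_nongenerating
      rw [eq_top_iff]
      intro g _
      set K := Subgroup.closure ((S.image Quotient.out : Finset H) : Set H) ⊔ frattini H
      have hZK : Z ≤ K := fun z hz => Subgroup.mem_sup_right (hex z hz)
      have hle : (⊤ : Subgroup (H ⧸ Z)) ≤ K.map (QuotientGroup.mk' Z) := by
        rw [← hST, Subgroup.closure_le]
        intro q hq
        exact ⟨q.out, Subgroup.mem_sup_left (Subgroup.subset_closure (Finset.mem_image_of_mem _ hq)),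
          QuotientGroup.out_eq' q⟩
      obtain ⟨k, hk, hkg⟩ := hle (Subgroup.mem_top (g : H ⧸ Z))
      have h1 : k⁻¹ * g ∈ Z := QuotientGroup.eq.1 hkg
      simpa using K.mul_mem hk (hZK h1)

/-- If every element of order `p` of the `p`-group `H` (`p` odd) is central and there are at most
`p ^ m` of them, then `m` elements generate `H`. -/
theorem exists_gens (hodd : p ≠ 2) {H : Type u} [Group H] [Finite H] (hH : IsPGroup p H)
    (hc : CentralOmega p H) {m : ℕ} (hm : Nat.card {z : H // z ^ p = 1} ≤ p ^ m) :
    ∃ S : Finset H, S.card ≤ m ∧ Subgroup.closure (S : Set H) = ⊤ :=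
  exists_gens_aux hodd _ le_rfl hH hc m hm

end H79.OmegaCentral
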