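import Cfsg.Agent.H79Basic
import Cfsg.Agent.Lib.Hall.Pi
import Cfsg.Agent.Lib.Coprime.Action
import Cfsg.Agent.Lib.Coprime.Commutator

/-! `π`-closed groups and homogeneity. -/

set_option autoImplicit false

namespace H79.PiClosed

universe u

/-- Every prime divisor lies in `π`. -/
def PiNum (π : Set ℕ) (n : ℕ) : Prop := ∀ p : ℕ, p.Prime → p ∣ n → p ∈ π

/-- The `π`-elements form a subgroup. -/
def Closed (π : Set ℕ) (G : Type u) [Group G] : Prop :=
  ∃ K : Subgroup G, ∀ x : G, x ∈ K ↔ PiNum π (orderOf x)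

/-- A `π`-element normalising a `q`-subgroup, `q ∉ π`, centralises it. -/
def WeakHom (π : Set ℕ) (G : Type u) [Group G] : Prop :=
  ∀ q : ℕ, q.Prime → q ∉ π → ∀ Q : Subgroup G, IsPGroup q Q → ∀ h : G, PiNum π (orderOf h) →
    h ∈ Subgroup.normalizer (Q : Set G) → ∀ y ∈ Q, h * y = y * h

variable {G : Type u} [Group G] {π : Set ℕ}

theorem piNum_of_dvd {m n : ℕ} (h : PiNum π n) (hd : m ∣ n) : PiNum π m :=
  fun p hp hpm => h p hp (hpm.trans hd)

theorem eq_one_of_piNum {n : ℕ} (h : PiNum π n) (h' : ∀ p : ℕ, p.Prime → p ∣ n → p ∉ π) : n = 1 := by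
  by_contra hne
  obtain ⟨p, hp, hpn⟩ := Nat.exists_prime_and_dvd hne
  exact h' p hp hpn (h p hp hpn)

/-- The `π`-part of an element. -/
theorem exists_pi_part [Finite G] (g : G) :
    ∃ c : ℕ, PiNum π (orderOf (g ^ c)) ∧
      ∀ {M : Type u} [Group M] (f : G →* M), PiNum π (orderOf (f g)) → f g ^ c = f g := by
  obtain ⟨m, k, hmk, hm, hk⟩ := CfsgLib.Hall.exists_pi_factorisation π (orderOf g) (orderOf_pos g).ne'
  have hcop : m.Coprime k := CfsgLib.Hall.coprime_of_pi hm hk
  obtain ⟨c, hc1, hc2⟩ := Nat.chineseRemainder hcop 1 0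
  refine ⟨c, piNum_of_dvd hm (orderOf_dvd_of_pow_eq_one ?_), fun {M} _ f hf => ?_⟩
  · rw [← pow_mul]
    refine orderOf_dvd_iff_pow_eq_one.1 (hmk ▸ ?_)
    rw [mul_comm c]
    exact mul_dvd_mul_left m (Nat.modEq_zero_iff_dvd.1 hc2)
  · have hdvd : orderOf (f g) ∣ m := by
      have hcop' : (orderOf (f g)).Coprime k := CfsgLib.Hall.coprime_of_pi hf hk
      exact hcop'.dvd_of_dvd_mul_right (hmk ▸ orderOf_map_dvd f g)
    conv_rhs => rw [← pow_one (f g)]
    exact pow_eq_pow_iff_modEq.2 (hc1.of_dvd hdvd)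

theorem closed_iff_normal_hall [Finite G] :
    Closed π G ↔ ∃ K : Subgroup G, K.Normal ∧ PiNum π (Nat.card K) ∧ ∀ p : ℕ, p.Prime → p ∣ K.index → p ∉ π := by
  constructor
  · rintro ⟨K, hK⟩
    have hn : K.Normal := ⟨fun x hx g => by
      rw [hK] at hx ⊢
      have e : orderOf (g * x * g⁻¹) = orderOf x :=
        orderOf_injective (MulAut.conj g).toMonoidHom (MulAut.conj g).injective x
      rwa [e]⟩
    refine ⟨K, hn, fun p hp hd => ?_, fun p hp hd hpπ => ?_⟩
    · have := Fact.mk hp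
      obtain ⟨y, hy⟩ := exists_prime_orderOf_dvd_card' p hd
      exact (hK (y : G)).1 y.2 p hp (by rw [Subgroup.orderOf_coe, hy])
    · have := Fact.mk hp
      obtain ⟨y, hy⟩ := exists_prime_orderOf_dvd_card' (G := G ⧸ K) p hd
      obtain ⟨g, rfl⟩ := QuotientGroup.mk_surjective y
      obtain ⟨c, hc1, hc2⟩ := exists_pi_part (π := π) g
      have h1 : (g : G ⧸ K) = 1 := by
        rw [← QuotientGroup.mk'_apply, ← hc2 (QuotientGroup.mk' K) (by
          rw [QuotientGroup.mk'_apply, hy]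
          exact fun r hr hd => (Nat.prime_dvd_prime_iff_eq hr hp).1 hd ▸ hpπ), ← map_pow,
          QuotientGroup.mk'_apply, QuotientGroup.eq_one_iff, hK]
        exact hc1
      rw [h1, orderOf_one] at hy
      exact hp.ne_one hy.symm
  · rintro ⟨K, hn, h1, h2⟩
    refine ⟨K, fun x => ⟨fun hx => piNum_of_dvd h1 (Subgroup.orderOf_dvd_natCard K hx), fun hx => ?_⟩⟩
    rw [← QuotientGroup.eq_one_iff (N := K), ← orderOf_eq_one_iff]
    exact eq_one_of_piNum (piNum_of_dvd hx (orderOf_map_dvd (QuotientGroup.mk' K) x))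
      (fun p hp hd => h2 p hp (hd.trans (orderOf_dvd_natCard _)))

theorem closed_of_piNum_card [Finite G] (h : PiNum π (Nat.card G)) : Closed π G :=
  closed_iff_normal_hall.2 ⟨⊤, inferInstance, by rwa [Subgroup.card_top],
    fun p hp hd => by rw [Subgroup.index_top] at hd; exact absurd (Nat.dvd_one.1 hd) hp.ne_one⟩

theorem closed_of_piNum_compl_card [Finite G] (h : ∀ p : ℕ, p.Prime → p ∣ Nat.card G → p ∉ π) :
    Closed π G :=
  closed_iff_normal_hall.2 ⟨⊥, inferInstance,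
    fun p hp hd => by rw [Subgroup.card_bot] at hd; exact absurd (Nat.dvd_one.1 hd) hp.ne_one,
    by rwa [Subgroup.index_bot]⟩

theorem closed_of_mulEquiv {H : Type u} [Group H] (e : G ≃* H) (h : Closed π G) : Closed π H := by
  obtain ⟨K, hK⟩ := h
  refine ⟨K.map e.toMonoidHom, fun x => ?_⟩
  rw [Subgroup.mem_map_equiv, hK, MulEquiv.orderOf_eq]

theorem weakHom_subgroup (h : WeakHom π G) (H : Subgroup G) : WeakHom π H := by
  intro q hq hqπ Q hQ g hg hgN y hy
  apply Subtype.ext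
  refine h q hq hqπ (Q.map H.subtype) (hQ.map _) g (by rwa [Subgroup.orderOf_coe]) ?_ _ ⟨y, hy, rfl⟩
  exact Subgroup.le_normalizer_map H.subtype ⟨g, hgN, rfl⟩

theorem weakHom_of_relIndex [Finite G]
    (h : ∀ H : Subgroup G, H ≠ ⊥ → (∀ p : ℕ, p.Prime → p ∣ Nat.card ↥H → p ∉ π) →
      ∀ p : ℕ, p.Prime →
        p ∣ (Subgroup.centralizer (H : Set G)).relIndex (Subgroup.normalizer (H : Set G)) → p ∉ π) :
    WeakHom π G := by
  intro q hq hqπ Q hQ g hg hgN y hy
  by_cases hQ1 : Q = ⊥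
  · rw [hQ1, Subgroup.mem_bot] at hy
    simp [hy]
  have := Fact.mk hq
  have hQπ : ∀ p : ℕ, p.Prime → p ∣ Nat.card Q → p ∉ π := by
    intro p hp hd
    obtain ⟨n, hn⟩ := IsPGroup.iff_card.1 hQ
    rw [hn] at hd
    exact (Nat.prime_dvd_prime_iff_eq hp hq).1 (hp.dvd_of_dvd_pow hd) ▸ hqπ
  let f := Q.normalizerMonoidHom
  have hrange : Nat.card f.range =
      (Subgroup.centralizer (Q : Set G)).relIndex (Subgroup.normalizer (Q : Set G)) := by
    rw [← Subgroup.index_ker, Subgroup.normalizerMonoidHom_ker]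
    rfl
  have h1 : f ⟨g, hgN⟩ = 1 := by
    rw [← orderOf_eq_one_iff]
    refine eq_one_of_piNum (piNum_of_dvd hg ?_) (fun p hp hd => h Q hQ1 hQπ p hp (hd.trans ?_))
    · exact (orderOf_map_dvd f _).trans (by rw [Subgroup.orderOf_mk])
    · rw [← hrange]
      exact Subgroup.orderOf_dvd_natCard _ ⟨_, rfl⟩
  have h2 : (⟨g, hgN⟩ : Subgroup.normalizer (Q : Set G)) ∈ f.ker := h1
  rw [Subgroup.normalizerMonoidHom_ker, Subgroup.mem_subgroupOf] at h2
  exact (Subgroup.mem_centralizer_iff.1 h2 y hy).symm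

theorem closed_extension [Finite G] (hhom : WeakHom π G) (K : Subgroup G) [K.Normal]
    (hK : Closed π K) (hQ : Closed π (G ⧸ K)) : Closed π G := by
  classical
  obtain ⟨L, hL⟩ := hK
  obtain ⟨M₀, hM₀n, hM₀c, hM₀i⟩ := closed_iff_normal_hall.1 hQ
  set O := L.map K.subtype with hO
  have hOn : O.Normal := by
    refine ⟨fun x hx g => ?_⟩
    obtain ⟨⟨x, hxK⟩, hxL, rfl⟩ := hx
    refine ⟨⟨g * x * g⁻¹, (inferInstance : K.Normal).conj_mem x hxK g⟩, (hL _).2 ?_, rfl⟩
    rw [Subgroup.orderOf_mk]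
    have h1 := (hL _).1 hxL
    rw [Subgroup.orderOf_mk] at h1
    have e : orderOf (g * x * g⁻¹) = orderOf x :=
      orderOf_injective (MulAut.conj g).toMonoidHom (MulAut.conj g).injective x
    rwa [e]
  have hOK : O ≤ K := Subgroup.map_subtype_le L
  obtain ⟨hLc, hLi⟩ : PiNum π (Nat.card L) ∧ ∀ p : ℕ, p.Prime → p ∣ L.index → p ∉ π := by
    obtain ⟨L', hL'n, hL'c, hL'i⟩ := closed_iff_normal_hall.1 ⟨L, hL⟩
    have e : L' = L := by
      ext x
      rw [hL]
      refine ⟨fun hx => piNum_of_dvd hL'c (Subgroup.orderOf_dvd_natCard _ hx), fun hx => ?_⟩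
      rw [← QuotientGroup.eq_one_iff (N := L'), ← orderOf_eq_one_iff]
      exact eq_one_of_piNum (piNum_of_dvd hx (orderOf_map_dvd (QuotientGroup.mk' L') x))
        (fun p hp hd => hL'i p hp (hd.trans (orderOf_dvd_natCard _)))
    subst e
    exact ⟨hL'c, hL'i⟩
  have hOc : PiNum π (Nat.card O) := by
    rwa [hO, Subgroup.card_map_of_injective K.subtype_injective]
  let φ := QuotientGroup.mk' O
  set K' := K.map φ with hK'
  set M := M₀.comap (QuotientGroup.mk' K) with hM
  set M' := M.map φ with hM'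
  have hKM : K ≤ M := fun x hx => by
    rw [hM, Subgroup.mem_comap, QuotientGroup.mk'_apply, (QuotientGroup.eq_one_iff x).2 hx]
    exact M₀.one_mem
  have hcardK' : Nat.card K' * Nat.card O = Nat.card K := by
    have h1 := CfsgLib.Coprime.card_map_mul_inf_ker φ K
    rwa [QuotientGroup.ker_mk', inf_eq_left.2 hOK] at h1
  have hK'π : ∀ p : ℕ, p.Prime → p ∣ Nat.card K' → p ∉ π := by
    intro p hp hd
    refine hLi p hp ?_
    have h1 : L.index * Nat.card L = Nat.card K := L.index_mul_card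
    have h2 : Nat.card O = Nat.card L := Subgroup.card_map_of_injective K.subtype_injective
    rw [← hcardK', h2] at h1
    rwa [Nat.eq_of_mul_eq_mul_right Nat.card_pos h1]
  have hK'n : K'.Normal := (inferInstance : K.Normal).map φ (QuotientGroup.mk'_surjective O)
  -- `π`-elements of the quotient centralise `K'`
  have hcentral : ∀ h : G ⧸ O, PiNum π (orderOf h) → ∀ y ∈ K', h * y = y * h := by
    intro h hh
    suffices hle : K' ≤ Subgroup.centralizer ({h} : Set (G ⧸ O)) from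
      fun y hy => (H79.mem_centralizer_singleton.1 (hle hy)).symm
    suffices hd : Nat.card K' ∣ Nat.card (K' ⊓ Subgroup.centralizer ({h} : Set (G ⧸ O)) : Subgroup (G ⧸ O)) from
      inf_eq_left.1 (Subgroup.eq_of_le_of_card_ge inf_le_left (Nat.le_of_dvd Nat.card_pos hd))
    rw [Nat.dvd_iff_prime_pow_dvd_dvd]
    intro q e hq hqe
    rcases Nat.eq_zero_or_pos e with rfl | he0
    · simp
    have := Fact.mk hq
    have hqd : q ∣ Nat.card K' := (dvd_pow_self q he0.ne').trans hqe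
    have hqπ : q ∉ π := hK'π q hq hqd
    obtain ⟨Q⟩ : Nonempty (Sylow q K) := inferInstance
    set QG := (Q : Subgroup K).map K.subtype with hQG
    obtain ⟨g, rfl⟩ := QuotientGroup.mk_surjective h
    have hfr : g ∈ Subgroup.normalizer (QG : Set G) ⊔ K := by
      rw [hQG, Sylow.normalizer_sup_eq_top Q]; trivial
    obtain ⟨n, hn, k, hk, rfl⟩ := Subgroup.mem_sup_of_normal_right.1 hfr
    obtain ⟨c, hc1, hc2⟩ := exists_pi_part (π := π) n
    have hnc : n ^ c ∈ Subgroup.normalizer (QG : Set G) := Subgroup.pow_mem _ hn c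
    have hcent : ∀ y ∈ QG, n ^ c * y = y * n ^ c :=
      hhom q hq hqπ QG (Q.isPGroup'.map _) _ hc1 hnc
    -- the images agree modulo `K'`
    have hmod : (φ (n * k))⁻¹ * φ (n ^ c) ∈ K' := by
      have h1 : QuotientGroup.mk' K n ^ c = QuotientGroup.mk' K n := by
        refine hc2 (QuotientGroup.mk' K) (piNum_of_dvd hh ?_)
        have e : QuotientGroup.mk' K n = QuotientGroup.map O K (MonoidHom.id G) hOK (φ (n * k)) := by
          show (n : G ⧸ K) = ((n * k : G) : G ⧸ K)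
          rw [QuotientGroup.mk_mul, (QuotientGroup.eq_one_iff k).2 hk, mul_one]
        rw [e]
        exact orderOf_map_dvd _ _
      refine ⟨(n * k)⁻¹ * n ^ c, ?_, by simp⟩
      rw [SetLike.mem_coe, ← QuotientGroup.eq_one_iff]
      simp only [QuotientGroup.mk_mul, QuotientGroup.mk_inv, QuotientGroup.mk_pow,
        (QuotientGroup.eq_one_iff k).2 hk, mul_one]
      rw [show (n : G ⧸ K) ^ c = n from h1, inv_mul_cancel]
    set h0 := φ (n * k) with hh0
    set h1 := φ (n ^ c) with hh1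
    have hh1π : PiNum π (orderOf h1) := piNum_of_dvd hc1 (orderOf_map_dvd φ _)
    have hcop : ∀ x : G ⧸ O, PiNum π (orderOf x) → (Nat.card (Subgroup.zpowers x)).Coprime (Nat.card K') :=
      fun x hx => by rw [Nat.card_zpowers]; exact CfsgLib.Hall.coprime_of_pi hx (fun p hp hπ hd => hK'π p hp hd hπ)
    obtain ⟨x, hx, hle⟩ := CfsgLib.Coprime.exists_conj_le_of_coprime (Subgroup.zpowers h0) K'
      Subgroup.le_normalizer_of_normal (hcop h0 hh) (Subgroup.zpowers h1)
      (Subgroup.zpowers_le.2 (by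
        have := Subgroup.mul_mem_sup (Subgroup.mem_zpowers h0) hmod
        simpa using this))
      (hcop h1 hh1π) (Or.inl inferInstance)
    have hxh : x * h1 * x⁻¹ = h0 := by
      have h2 : x * h1 * x⁻¹ ∈ Subgroup.zpowers h0 :=
        CfsgLib.Coprime.conj_smul_le.1 hle h1 (Subgroup.mem_zpowers h1)
      have h3 : (x * h1 * x⁻¹) * h0⁻¹ ∈ Subgroup.zpowers h0 ⊓ K' := by
        refine ⟨Subgroup.mul_mem _ h2 (Subgroup.inv_mem _ (Subgroup.mem_zpowers h0)), ?_⟩
        rw [show x * h1 * x⁻¹ * h0⁻¹ = x * (h0 * (h0⁻¹ * h1) * x⁻¹ * h0⁻¹) by group]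
        refine K'.mul_mem hx ?_
        rw [show h0 * (h0⁻¹ * h1) * x⁻¹ * h0⁻¹ = h0 * ((h0⁻¹ * h1) * x⁻¹) * h0⁻¹ by group]
        exact hK'n.conj_mem _ (K'.mul_mem hmod (K'.inv_mem hx)) h0
      rw [Subgroup.inf_eq_bot_of_coprime (hcop h0 hh), Subgroup.mem_bot] at h3
      exact mul_inv_eq_one.1 h3
    -- the Sylow subgroup `Q'` is conjugate to the image of `QG`
    let ψ : K →* K' := (φ.comp K.subtype).codRestrict K' (fun y => ⟨y, y.2, rfl⟩)
    have hψ : Function.Surjective ψ := by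
      rintro ⟨_, y, hy, rfl⟩
      exact ⟨⟨y, hy⟩, rfl⟩
    set R := ((Q.mapSurjective hψ : Sylow q K') : Subgroup K').map K'.subtype with hR
    have hRle : R.map (MulAut.conj x).toMonoidHom ≤ K' ⊓ Subgroup.centralizer ({h0} : Set (G ⧸ O)) := by
      rintro _ ⟨r, hr, rfl⟩
      obtain ⟨r, hrQ, rfl⟩ := hr
      rw [Sylow.coe_mapSurjective] at hrQ
      obtain ⟨z, hz, rfl⟩ := hrQ
      have e : (MulAut.conj x).toMonoidHom (K'.subtype (ψ z)) = x * φ (z : G) * x⁻¹ := rfl
      rw [e]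
      refine ⟨hK'n.conj_mem _ ⟨(z : G), z.2, rfl⟩ x, H79.mem_centralizer_singleton.2 ?_⟩
      ·
        have hc := congrArg φ (hcent (z : G) ⟨z, hz, rfl⟩)
        rw [map_mul, map_mul, ← hh1] at hc
        show x * φ (z : G) * x⁻¹ * h0 = h0 * (x * φ (z : G) * x⁻¹)
        rw [← hxh]
        calc x * φ (z : G) * x⁻¹ * (x * h1 * x⁻¹) = x * (φ (z : G) * h1) * x⁻¹ := by group
          _ = x * (h1 * φ (z : G)) * x⁻¹ := by rw [hc]
          _ = (x * h1 * x⁻¹) * (x * φ (z : G) * x⁻¹) := by group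
    refine dvd_trans ?_ (Subgroup.card_dvd_of_le hRle)
    rw [Subgroup.card_map_of_injective (MulAut.conj x).injective, hR,
      Subgroup.card_map_of_injective K'.subtype_injective, Sylow.card_eq_multiplicity]
    exact pow_dvd_pow q ((hq.pow_dvd_iff_le_factorization Nat.card_pos.ne').1 hqe)
  -- a complement of `K'` in `M'` centralises it, hence is normal
  have hMn : M.Normal := hM₀n.comap _
  have hM'n : M'.Normal := hMn.map φ (QuotientGroup.mk'_surjective O)
  have hK'M' : K' ≤ M' := Subgroup.map_mono hKM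
  have hMi : ∀ p : ℕ, p.Prime → p ∣ M.index → p ∉ π := fun p hp hd => hM₀i p hp
    (by rwa [hM, Subgroup.index_comap_of_surjective _ (QuotientGroup.mk'_surjective K)] at hd)
  have hKMπ : PiNum π (K.relIndex M) := by
    intro p hp hd
    refine hM₀c p hp ?_
    have h1 : Nat.card K * K.relIndex M = Nat.card M := by
      rw [← Subgroup.relIndex_bot_left, ← Subgroup.relIndex_bot_left]
      exact Subgroup.relIndex_mul_relIndex ⊥ K M bot_le hKM
    have h2 := CfsgLib.Coprime.card_map_mul_inf_ker (QuotientGroup.mk' K) M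
    rw [QuotientGroup.ker_mk', inf_eq_left.2 hKM, hM,
      Subgroup.map_comap_eq_self_of_surjective (QuotientGroup.mk'_surjective K), ← hM, ← h1, mul_comm] at h2
    rwa [Nat.eq_of_mul_eq_mul_left Nat.card_pos h2]
  have hidx : PiNum π (K'.subgroupOf M').index := by
    have h2 : K'.relIndex M' ∣ K.relIndex M := by
      have h3 := Subgroup.relIndex_mul_relIndex (⊥ : Subgroup (G ⧸ O)) K' M' bot_le hK'M'
      have h4 := Subgroup.relIndex_mul_relIndex (⊥ : Subgroup G) K M bot_le hKM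
      simp only [Subgroup.relIndex_bot_left] at h3 h4
      have h5 := CfsgLib.Coprime.card_map_mul_inf_ker φ M
      rw [QuotientGroup.ker_mk', inf_eq_left.2 (hOK.trans hKM), ← hM', ← h3, ← h4, ← hcardK', mul_right_comm] at h5
      exact (Nat.eq_of_mul_eq_mul_left (Nat.mul_pos Nat.card_pos Nat.card_pos) h5).dvd
    exact piNum_of_dvd hKMπ h2
  have : (K'.subgroupOf M').Normal := hK'n.subgroupOf _
  obtain ⟨H, hH⟩ := Subgroup.exists_right_complement'_of_coprime (N := K'.subgroupOf M')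
    (by
      rw [CfsgLib.Coprime.card_subgroupOf hK'M']
      exact (CfsgLib.Hall.coprime_of_pi hidx (fun p hp hπ hd => hK'π p hp hd hπ)).symm)
  have hHc : PiNum π (Nat.card H) := by rwa [← hH.symm.index_eq_card]
  have hHcen : ∀ k ∈ K'.subgroupOf M', ∀ b ∈ H, b * k = k * b := fun k hk b hb =>
    Subtype.ext (hcentral b (piNum_of_dvd hHc (by
      rw [Subgroup.orderOf_coe]; exact Subgroup.orderOf_dvd_natCard H hb)) _ hk)
  have hHn : H.Normal := ⟨fun b hb g => by
    have hg : g ∈ K'.subgroupOf M' ⊔ H := hH.sup_eq_top ▸ Subgroup.mem_top g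
    obtain ⟨k, hk, c, hc, rfl⟩ := Subgroup.mem_sup_of_normal_left.1 hg
    have hbc : c * b * c⁻¹ ∈ H := H.mul_mem (H.mul_mem hc hb) (H.inv_mem hc)
    rw [show k * c * b * (k * c)⁻¹ = k * (c * b * c⁻¹) * k⁻¹ by group,
      ← hHcen k hk _ hbc, mul_inv_cancel_right]
    exact hbc⟩
  have hHmem : ∀ y : M', PiNum π (orderOf y) → y ∈ H := by
    intro y hy
    rw [← QuotientGroup.eq_one_iff (N := H), ← orderOf_eq_one_iff]
    refine eq_one_of_piNum (piNum_of_dvd hy (orderOf_map_dvd (QuotientGroup.mk' H) y))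
      (fun p hp hd => hK'π p hp ?_)
    have h1 : H.index = Nat.card K' := by
      rw [hH.index_eq_card, CfsgLib.Coprime.card_subgroupOf hK'M']
    exact h1 ▸ hd.trans (orderOf_dvd_natCard _)
  refine ⟨(H.map M'.subtype).comap φ, fun x => ⟨fun hx => ?_, fun hx => ?_⟩⟩
  · obtain ⟨b, hb, hbx⟩ := hx
    have h1 : PiNum π (orderOf (φ x)) := by
      rw [← hbx]
      refine piNum_of_dvd hHc ?_
      rw [show orderOf (M'.subtype b) = orderOf b from Subgroup.orderOf_coe b]
      exact Subgroup.orderOf_dvd_natCard H hb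
    intro p hp hd
    by_contra hpπ
    have hx' : x ^ orderOf (φ x) ∈ O := by
      rw [← QuotientGroup.eq_one_iff, QuotientGroup.mk_pow]
      exact pow_orderOf_eq_one (φ x)
    have h2 : orderOf x ∣ orderOf (φ x) * Nat.card O := by
      rw [orderOf_dvd_iff_pow_eq_one, pow_mul]
      exact orderOf_dvd_iff_pow_eq_one.1 (Subgroup.orderOf_dvd_natCard O hx')
    rcases hp.dvd_mul.1 (hd.trans h2) with h' | h'
    · exact hpπ (h1 p hp h')
    · exact hpπ (hOc p hp h')
  · have hxM : x ∈ M := by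
      rw [hM, Subgroup.mem_comap, ← QuotientGroup.eq_one_iff (N := M₀), ← orderOf_eq_one_iff]
      exact eq_one_of_piNum (piNum_of_dvd hx ((orderOf_map_dvd (QuotientGroup.mk' M₀) _).trans
        (orderOf_map_dvd (QuotientGroup.mk' K) x))) (fun p hp hd => hM₀i p hp (hd.trans (orderOf_dvd_natCard _)))
    have hy : (⟨φ x, x, hxM, rfl⟩ : M') ∈ H :=
      hHmem _ (piNum_of_dvd hx (by rw [← Subgroup.orderOf_coe]; exact orderOf_map_dvd φ x))
    exact ⟨_, hy, rfl⟩

end H79.PiClosed
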