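import Cfsg.Agent.Lib.PGroup.Frattini
import Cfsg.Agent.Lib.OddOrder41.NormalElementary
import Mathlib.Combinatorics.SimpleGraph.Extremal.Turan

/-! A `p`-subgroup acting on an elementary abelian group of order `p ^ a` needs at most `a ^ 2 / 4`
generators modulo the kernel: the pivot positions of independent generators contain no transitive
triangle. -/

set_option autoImplicit false

namespace H79.Pivot

open scoped commutatorElement

variable {P : Type*} [Group P] [Finite P] {p : ℕ} [hp : Fact p.Prime]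

/-- A central series through an elementary abelian normal subgroup, with steps of order `p`. -/
theorem exists_chain (hP : IsPGroup p P) (A : Subgroup P) [A.Normal]
    (hexp : ∀ x ∈ A, x ^ p = 1) {a : ℕ} (ha : Nat.card A = p ^ a) :
    ∀ m ≤ a, ∃ f : ℕ → Subgroup P, f 0 = ⊥ ∧
      (∀ n ≤ m, (f n).Normal ∧ f n ≤ A ∧ Nat.card (f n) = p ^ n) ∧
      ∀ n < m, f n ≤ f (n + 1) ∧ ∀ x ∈ f (n + 1), ∀ g : P, ⁅g, x⁆ ∈ f n := by
  haveI := hP.isNilpotent
  intro m hm
  induction m with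
  | zero =>
    refine ⟨fun _ => ⊥, rfl, fun n hn => ⟨inferInstance, bot_le, ?_⟩, fun n hn => absurd hn (by omega)⟩
    rw [Nat.le_zero.1 hn, pow_zero, Subgroup.card_bot]
  | succ m ih =>
    obtain ⟨f, hf0, hf1, hf2⟩ := ih (by omega)
    obtain ⟨hn, hle, hc⟩ := hf1 m le_rfl
    haveI := hn
    have hnot : ¬ A ≤ f m := by
      intro h
      have h1 := Nat.le_of_dvd Nat.card_pos (Subgroup.card_dvd_of_le h)
      rw [ha, hc, Nat.pow_le_pow_iff_right hp.out.one_lt] at h1
      omega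
    obtain ⟨y, hyA, hy, hyc⟩ := CfsgLib.OddOrder41.exists_central_step A (f m) hnot
    set q := QuotientGroup.mk' (f m)
    set C := (Subgroup.zpowers (q y)).comap q with hC
    have hord : orderOf (q y) = p := by
      refine orderOf_eq_prime ?_ fun h => hy ((QuotientGroup.eq_one_iff y).1 h)
      rw [← map_pow, hexp y hyA, map_one]
    have hle' : f m ≤ C := fun x hx => by
      rw [hC, Subgroup.mem_comap, show q x = 1 from (QuotientGroup.eq_one_iff x).2 hx]
      exact one_mem _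
    have hcomm : ∀ x ∈ C, ∀ g : P, ⁅g, x⁆ ∈ f m := by
      intro x hx g
      obtain ⟨i, hi⟩ := Subgroup.mem_zpowers_iff.1 (Subgroup.mem_comap.1 hx)
      apply (QuotientGroup.eq_one_iff _).1
      show q ⁅g, x⁆ = 1
      have hco : Commute (q y) (q g) := by
        rw [← commutatorElement_eq_one_iff_commute, ← map_commutatorElement]
        exact (QuotientGroup.eq_one_iff _).2 (hyc g)
      rw [map_commutatorElement, ← hi, commutatorElement_eq_one_iff_commute]
      exact (hco.zpow_left i).symm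
    have hCn : C.Normal := ⟨fun x hx g => by
      have h1 : g * x * g⁻¹ = ⁅g, x⁆ * x := by rw [commutatorElement_def]; group
      rw [h1]; exact C.mul_mem (hle' (hcomm x hx g)) hx⟩
    have hCA : C ≤ A := by
      intro x hx
      obtain ⟨i, hi⟩ := Subgroup.mem_zpowers_iff.1 (Subgroup.mem_comap.1 hx)
      rw [← map_zpow] at hi
      have h2 : (y ^ i)⁻¹ * x ∈ f m := QuotientGroup.eq.1 hi
      simpa using A.mul_mem (A.zpow_mem hyA i) (hle h2)
    have hCc : Nat.card C = p ^ (m + 1) := by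
      have h1 := C.card_mul_index
      have h2 := (f m).card_mul_index
      have h3 := (Subgroup.zpowers (q y)).card_mul_index
      rw [hC, Subgroup.index_comap_of_surjective _ (QuotientGroup.mk'_surjective (f m))] at h1
      rw [← h2, hc, (f m).index_eq_card, ← h3, Nat.card_zpowers, hord, ← mul_assoc, ← pow_succ] at h1
      exact Nat.eq_of_mul_eq_mul_right (Nat.pos_of_ne_zero Subgroup.index_ne_zero_of_finite) h1
    refine ⟨Function.update f (m + 1) C, ?_, fun n hn' => ?_, fun n hn' => ?_⟩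
    · rw [Function.update_of_ne (by omega)]; exact hf0
    · by_cases h : n = m + 1
      · subst h; rw [Function.update_self]; exact ⟨hCn, hCA, hCc⟩
      · rw [Function.update_of_ne h]; exact hf1 n (by omega)
    · rw [Function.update_of_ne (show n ≠ m + 1 by omega)]
      by_cases h : n = m
      · subst h; rw [Function.update_self]; exact ⟨hle', hcomm⟩
      · rw [Function.update_of_ne (show n + 1 ≠ m + 1 by omega)]; exact hf2 n (by omega)

/-- An elementary abelian normal subgroup together with a central series of it. -/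
structure Flag (p : ℕ) (P : Type*) [Group P] where
  A : Subgroup P
  a : ℕ
  f : ℕ → Subgroup P
  comm : ∀ x ∈ A, ∀ y ∈ A, x * y = y * x
  bot : f 0 = ⊥
  top : f a = A
  normal : ∀ n ≤ a, (f n).Normal
  le : ∀ n ≤ a, f n ≤ A
  card : ∀ n ≤ a, Nat.card (f n) = p ^ n
  step : ∀ n < a, f n ≤ f (n + 1)
  central : ∀ n < a, ∀ x ∈ f (n + 1), ∀ g : P, ⁅g, x⁆ ∈ f n

theorem Flag.exists_of (hP : IsPGroup p P) (A : Subgroup P) [A.Normal]
    (hcomm : ∀ x ∈ A, ∀ y ∈ A, x * y = y * x) (hexp : ∀ x ∈ A, x ^ p = 1) {a : ℕ}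
    (ha : Nat.card A = p ^ a) : ∃ F : Flag p P, F.A = A ∧ F.a = a := by
  obtain ⟨f, h0, h1, h2⟩ := exists_chain hP A hexp ha a le_rfl
  have ht : f a = A := Subgroup.eq_of_le_of_card_ge (h1 a le_rfl).2.1
    (by rw [(h1 a le_rfl).2.2, ha])
  exact ⟨⟨A, a, f, hcomm, h0, ht, fun n hn => (h1 n hn).1, fun n hn => (h1 n hn).2.1,
    fun n hn => (h1 n hn).2.2, fun n hn => (h2 n hn).1, fun n hn => (h2 n hn).2⟩, rfl, rfl⟩

variable (F : Flag p P)

omit [Finite P] hp in
theorem Flag.mono {n m : ℕ} (h : n ≤ m) (hm : m ≤ F.a) : F.f n ≤ F.f m := by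
  induction m, h using Nat.le_induction with
  | base => exact le_rfl
  | succ m _ ih => exact (ih (by omega)).trans (F.step m (by omega))

/-- The level to which `⁅h, f (n+1)⁆` falls for `h` in position `(d, i)`. -/
def lev (d i n : ℕ) : ℕ := if n < i + d then n - d else n + 1 - d

omit [Finite P] hp in
theorem Flag.lev_le {d i n : ℕ} (hn : n < F.a) : lev d i n ≤ F.a := by
  unfold lev; split <;> omega

/-- The elements of position at least `(d, i)`. -/
def Flag.K (d i : ℕ) : Subgroup P where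
  carrier := {g | ∀ n < F.a, ∀ x ∈ F.f (n + 1), ⁅g, x⁆ ∈ F.f (lev d i n)}
  one_mem' := fun n _ x _ => by rw [commutatorElement_one_left]; exact one_mem _
  mul_mem' {g h} hg hh n hn x hx := by
    have e : ⁅g * h, x⁆ = g * ⁅h, x⁆ * g⁻¹ * ⁅g, x⁆ := by simp only [commutatorElement_def]; group
    rw [e]
    exact mul_mem ((F.normal _ (F.lev_le hn)).conj_mem _ (hh n hn x hx) g) (hg n hn x hx)
  inv_mem' {g} hg n hn x hx := by
    have e : ⁅g⁻¹, x⁆ = g⁻¹ * ⁅g, x⁆⁻¹ * g⁻¹⁻¹ := by simp only [commutatorElement_def]; group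
    rw [e]
    exact (F.normal _ (F.lev_le hn)).conj_mem _ (inv_mem (hg n hn x hx)) _

omit [Finite P] hp in
theorem Flag.K_start : F.K 1 0 = ⊤ := by
  refine eq_top_iff.2 fun g _ n hn x hx => ?_
  have e : lev 1 0 n = n := by unfold lev; split <;> omega
  rw [e]
  exact F.central n hn x hx g

omit [Finite P] hp in
theorem Flag.K_succ_deg {d : ℕ} (hd : d < F.a) : F.K d (F.a - d) ≤ F.K (d + 1) 0 := by
  intro g hg n hn x hx
  have e : lev (d + 1) 0 n = lev d (F.a - d) n := by unfold lev; split <;> split <;> omega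
  rw [e]
  exact hg n hn x hx

omit [Finite P] hp in
theorem Flag.K_end {g : P} (hg : g ∈ F.K F.a 0) : g ∈ Subgroup.centralizer (F.A : Set P) := by
  rw [Subgroup.mem_centralizer_iff]
  intro x hx
  rcases Nat.eq_zero_or_pos F.a with h0 | h0
  · have hx1 : x ∈ F.f 0 := by rw [← h0, F.top]; exact hx
    rw [F.bot, Subgroup.mem_bot] at hx1
    rw [hx1, one_mul, mul_one]
  · have h1 := hg (F.a - 1) (by omega) x (by rw [Nat.sub_add_cancel h0, F.top]; exact hx)
    have e : lev F.a 0 (F.a - 1) = 0 := by unfold lev; split <;> omega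
    rw [e, F.bot, Subgroup.mem_bot, commutatorElement_eq_one_iff_commute] at h1
    exact h1.eq.symm

/-- `g` has its pivot at `(i, i + d)`. -/
def Flag.PivotAt (g : P) (d i : ℕ) : Prop :=
  1 ≤ d ∧ i + d < F.a ∧ g ∈ F.K d i ∧ ∃ x ∈ F.f (i + d + 1), ⁅g, x⁆ ∉ F.f i

omit [Finite P] hp in
theorem Flag.mem_next {g : P} {d i : ℕ} (hd : 1 ≤ d) (hg : g ∈ F.K d i)
    (h : ¬ F.PivotAt g d i) : g ∈ F.K d (i + 1) := by
  intro n hn x hx
  by_cases hne : n = i + d
  · subst hne
    have e : lev d (i + 1) (i + d) = i := by unfold lev; split <;> omega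
    rw [e]
    by_contra hc
    exact h ⟨hd, hn, hg, x, hx, hc⟩
  · have e : lev d (i + 1) n = lev d i n := by unfold lev; split <;> split <;> omega
    rw [e]; exact hg n hn x hx

/-- A subgroup between two consecutive terms which meets the outer part is the whole term. -/
theorem Flag.step_eq {n : ℕ} (hn : n < F.a) {B : Subgroup P} (hB : F.f n ≤ B) {x : P}
    (hx : x ∈ F.f (n + 1)) (hxn : x ∉ F.f n) (hxB : x ∈ B) : F.f (n + 1) ≤ B := by
  have hlt : F.f n < B ⊓ F.f (n + 1) := lt_of_le_of_ne (le_inf hB (F.step n hn))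
    fun e => hxn (e ▸ ⟨hxB, hx⟩)
  have h1 : Nat.card (F.f n) < Nat.card (B ⊓ F.f (n + 1) : Subgroup P) := by
    by_contra hle
    exact hlt.ne (Subgroup.eq_of_le_of_card_ge hlt.le (not_lt.1 hle))
  have h2 := Subgroup.card_dvd_of_le (inf_le_right : B ⊓ F.f (n + 1) ≤ _)
  rw [F.card (n + 1) (by omega)] at h2
  obtain ⟨k, hk, hk'⟩ := (Nat.dvd_prime_pow hp.out).1 h2
  rw [F.card n (by omega), hk', Nat.pow_lt_pow_iff_right hp.out.one_lt] at h1
  have hk2 : k = n + 1 := by omega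
  have h3 : B ⊓ F.f (n + 1) = F.f (n + 1) := Subgroup.eq_of_le_of_card_ge inf_le_right
    (by rw [hk', hk2, F.card (n + 1) (by omega)])
  exact h3 ▸ inf_le_left

/-- The map `x ↦ ⁅g, x⁆` restricted to `A` is a homomorphism. -/
theorem Flag.comm_mul {g x y : P} (hx : x ∈ F.A) (hy : ⁅g, y⁆ ∈ F.A) :
    ⁅g, x * y⁆ = ⁅g, x⁆ * ⁅g, y⁆ := by
  have e : ⁅g, x * y⁆ = ⁅g, x⁆ * (x * ⁅g, y⁆ * x⁻¹) := by simp only [commutatorElement_def]; group
  rw [e, F.comm x hx _ hy, mul_inv_cancel_right]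

/-- The elements of `f (n+1)` which `g` sends into `f i`. -/
def Flag.pre (g : P) {n i : ℕ} (hn : n < F.a) (hi : i ≤ F.a) : Subgroup P where
  carrier := {x | x ∈ F.f (n + 1) ∧ ⁅g, x⁆ ∈ F.f i}
  one_mem' := ⟨one_mem _, by rw [commutatorElement_one_right]; exact one_mem _⟩
  mul_mem' {x y} hx hy := ⟨mul_mem hx.1 hy.1, by
    rw [F.comm_mul (F.le (n + 1) (by omega) hx.1) (F.le i hi hy.2)]
    exact mul_mem hx.2 hy.2⟩
  inv_mem' {x} hx := ⟨inv_mem hx.1, by
    have e : ⁅g, x⁻¹⁆ = x⁻¹ * ⁅g, x⁆⁻¹ * x⁻¹⁻¹ := by simp only [commutatorElement_def]; group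
    rw [e]
    exact (F.normal i hi).conj_mem _ (inv_mem hx.2) _⟩

/-- At a pivot every outer element is sent to an outer element. -/
theorem Flag.PivotAt.outer {g : P} {d i : ℕ} (h : F.PivotAt g d i) {x : P}
    (hx : x ∈ F.f (i + d + 1)) (hxo : x ∉ F.f (i + d)) :
    ⁅g, x⁆ ∈ F.f (i + 1) ∧ ⁅g, x⁆ ∉ F.f i := by
  obtain ⟨hd, hj, hK, x₀, hx₀, hx₀'⟩ := h
  have e : lev d i (i + d) = i + 1 := by unfold lev; split <;> omega
  refine ⟨e ▸ hK (i + d) hj x hx, fun hc => hx₀' ?_⟩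
  have hle : F.f (i + d) ≤ F.pre g hj (show i ≤ F.a by omega) := by
    intro z hz
    refine ⟨F.step _ hj hz, ?_⟩
    have h1 := hK (i + d - 1) (by omega) z (by rwa [Nat.sub_add_cancel (show 1 ≤ i + d by omega)])
    have e' : lev d i (i + d - 1) = i - 1 := by unfold lev; split <;> omega
    rw [e'] at h1
    exact F.mono (by omega) (by omega) h1
  exact (F.step_eq hj hle hx hxo ⟨hx, hc⟩ hx₀).2

/-- Two consecutive pivots commute to the composite pivot. -/
theorem Flag.pivot_comp {g h : P} {d e i : ℕ} (hg : F.PivotAt g d i) (hh : F.PivotAt h e (i + d)) :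
    F.PivotAt ⁅g, h⁆ (d + e) i := by
  have hd := hg.1
  have he := hh.1
  have hj : i + d + e < F.a := hh.2.1
  -- the value of the commutator, up to conjugating the argument
  have key : ∀ n < F.a, ∀ x ∈ F.f (n + 1),
      ⁅⁅g, h⁆, h * g * x * g⁻¹ * h⁻¹⁆ = ⁅g, ⁅h, x⁆⁆ * (⁅h, ⁅g, x⁆⁆)⁻¹ := by
    intro n hn x hx
    have hAn : F.A.Normal := F.top ▸ F.normal F.a le_rfl
    have hxA : x ∈ F.A := F.le (n + 1) (by omega) hx
    have hcl : ∀ (u : P), ∀ z ∈ F.A, ⁅u, z⁆ ∈ F.A := fun u z hz => by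
      rw [commutatorElement_def, mul_assoc (u * z)]
      have := F.A.mul_mem (hAn.conj_mem z hz u) (F.A.inv_mem hz)
      simpa [mul_assoc] using this
    set a := ⁅g, x⁆ with hadef
    set b := ⁅h, x⁆ with hbdef
    have ha : a ∈ F.A := hcl g x hxA
    have hb : b ∈ F.A := hcl h x hxA
    have hgb := hcl g b hb
    have hha := hcl h a ha
    have e1 : ⁅⁅g, h⁆, h * g * x * g⁻¹ * h⁻¹⁆ =
        (g * (h * x * h⁻¹) * g⁻¹) * (h * (g * x * g⁻¹) * h⁻¹)⁻¹ := by
      simp only [commutatorElement_def]; group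
    have e2 : g * (h * x * h⁻¹) * g⁻¹ = ⁅g, b⁆ * b * (a * x) := by
      simp only [hadef, hbdef, commutatorElement_def]; group
    have e3 : h * (g * x * g⁻¹) * h⁻¹ = ⁅h, a⁆ * a * (b * x) := by
      simp only [hadef, hbdef, commutatorElement_def]; group
    rw [e1, e2, e3]
    have e4 : b * (a * x) = a * (b * x) := by rw [← mul_assoc, F.comm b hb a ha, mul_assoc]
    rw [mul_assoc ⁅g, b⁆, e4, mul_assoc ⁅h, a⁆]
    group
  have conj : ∀ n < F.a, ∀ y ∈ F.f (n + 1), ∃ x ∈ F.f (n + 1), y = h * g * x * g⁻¹ * h⁻¹ := by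
    intro n hn y hy
    refine ⟨(h * g)⁻¹ * y * (h * g)⁻¹⁻¹, (F.normal (n + 1) (by omega)).conj_mem y hy _, ?_⟩
    group
  have bound : ∀ (u v : P) (d₁ i₁ d₂ i₂ : ℕ), 1 ≤ d₁ → 1 ≤ d₂ → u ∈ F.K d₁ i₁ → v ∈ F.K d₂ i₂ →
      ∀ n < F.a, ∀ x ∈ F.f (n + 1),
        ⁅u, ⁅v, x⁆⁆ ∈ F.f (if lev d₂ i₂ n = 0 then 0 else lev d₁ i₁ (lev d₂ i₂ n - 1)) := by
    intro u v d₁ i₁ d₂ i₂ h1 h2 hu hv n hn x hx
    have h3 := hv n hn x hx
    split
    · next h0 =>
      rw [h0, F.bot, Subgroup.mem_bot] at h3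
      rw [h3, commutatorElement_one_right]; exact one_mem _
    · next h0 =>
      refine hu _ (by unfold lev at h0 ⊢; split <;> omega) _ ?_
      rwa [Nat.sub_add_cancel (Nat.pos_of_ne_zero h0)]
  refine ⟨by omega, by omega, fun n hn y hy => ?_, ?_⟩
  · obtain ⟨x, hx, rfl⟩ := conj n hn y hy
    rw [key n hn x hx]
    refine mul_mem (F.mono ?_ (F.lev_le hn) (bound g h d i e (i + d) hd he hg.2.2.1 hh.2.2.1 n hn x hx))
      (inv_mem (F.mono ?_ (F.lev_le hn) (bound h g e (i + d) d i he hd hh.2.2.1 hg.2.2.1 n hn x hx)))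
    · unfold lev; split_ifs <;> omega
    · unfold lev; split_ifs <;> omega
  · have hpos : ¬ F.f (i + d + e + 1) ≤ F.f (i + d + e) := by
      intro hle
      have h1 := Nat.le_of_dvd Nat.card_pos (Subgroup.card_dvd_of_le hle)
      rw [F.card _ (by omega), F.card _ (by omega), Nat.pow_le_pow_iff_right hp.out.one_lt] at h1
      omega
    obtain ⟨x, hx, hxo⟩ := SetLike.not_le_iff_exists.1 hpos
    refine ⟨h * g * x * g⁻¹ * h⁻¹, ?_, ?_⟩
    · have := (F.normal (i + (d + e) + 1) (by omega)).conj_mem x (by rwa [← add_assoc i d e]) (h * g)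
      simpa [mul_assoc] using this
    rw [key (i + d + e) hj x hx]
    have h1 := hh.outer F hx hxo
    have h2 := hg.outer F h1.1 h1.2
    have h3 := bound h g e (i + d) d i he hd hh.2.2.1 hg.2.2.1 (i + d + e) hj x hx
    have h3' : ⁅h, ⁅g, x⁆⁆ ∈ F.f i :=
      F.mono (by unfold lev; split_ifs <;> omega) (by omega) h3
    intro hc
    have h5 := mul_mem hc h3'
    rw [inv_mul_cancel_right] at h5
    exact h2.2 h5

/-- Modulo the next term, a term is generated by any of its pivots. -/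
theorem Flag.step_gen {g₀ : P} {d i : ℕ} (h₀ : F.PivotAt g₀ d i) {g : P} (hg : g ∈ F.K d i) :
    ∃ k : ℕ, (g₀ ^ k)⁻¹ * g ∈ F.K d (i + 1) := by
  have hd := h₀.1
  have hj := h₀.2.1
  have hK₀ := h₀.2.2.1
  have hi : i ≤ F.a := by omega
  haveI := F.normal i hi
  have hpos : ¬ F.f (i + d + 1) ≤ F.f (i + d) := by
    intro hle
    have h1 := Nat.le_of_dvd Nat.card_pos (Subgroup.card_dvd_of_le hle)
    rw [F.card _ (by omega), F.card _ (by omega), Nat.pow_le_pow_iff_right hp.out.one_lt] at h1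
    omega
  obtain ⟨x, hx, hxo⟩ := SetLike.not_le_iff_exists.1 hpos
  have e : lev d i (i + d) = i + 1 := by unfold lev; split <;> omega
  have hval : ∀ u ∈ F.K d i, ⁅u, x⁆ ∈ F.f (i + 1) := fun u hu => e ▸ hu (i + d) hj x hx
  -- modulo `f i` conjugation fixes `f (i+1)`
  have hmul : ∀ u ∈ F.K d i, ∀ v ∈ F.K d i,
      QuotientGroup.mk' (F.f i) ⁅u * v, x⁆ =
        QuotientGroup.mk' (F.f i) ⁅v, x⁆ * QuotientGroup.mk' (F.f i) ⁅u, x⁆ := by
    intro u hu v hv
    have e' : ⁅u * v, x⁆ = ⁅u, ⁅v, x⁆⁆ * (⁅v, x⁆ * ⁅u, x⁆) := by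
      simp only [commutatorElement_def]; group
    rw [e', map_mul, map_mul,
      show QuotientGroup.mk' (F.f i) ⁅u, ⁅v, x⁆⁆ = 1 from
        (QuotientGroup.eq_one_iff _).2 (F.central i (by omega) _ (hval v hv) u), one_mul]
  set c := QuotientGroup.mk' (F.f i) ⁅g₀, x⁆
  have hpow : ∀ k : ℕ, QuotientGroup.mk' (F.f i) ⁅g₀ ^ k, x⁆ = c ^ k := by
    intro k
    induction k with
    | zero => rw [pow_zero, commutatorElement_one_left, map_one, pow_zero]
    | succ k ih => rw [pow_succ, hmul _ (pow_mem hK₀ k) _ hK₀, ih, pow_succ' c]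
  -- the powers of `c` fill the quotient
  let B : Subgroup P := (Subgroup.zpowers c).comap (QuotientGroup.mk' (F.f i))
  have hBle : F.f i ≤ B := fun z hz => by
    rw [Subgroup.mem_comap, show QuotientGroup.mk' (F.f i) z = 1 from (QuotientGroup.eq_one_iff z).2 hz]
    exact one_mem _
  have ho := h₀.outer F hx hxo
  have hfill := F.step_eq (show i < F.a by omega) hBle ho.1 ho.2 (Subgroup.mem_zpowers c)
  have hgc := Subgroup.mem_comap.1 (hfill (hval g hg))
  obtain ⟨k, hk⟩ := (isOfFinOrder_of_finite c).mem_powers_iff_mem_zpowers.2 hgc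
  refine ⟨k, F.mem_next hd (mul_mem (inv_mem (pow_mem hK₀ k)) hg) ?_⟩
  rintro ⟨-, -, hmem, x₁, hx₁, hx₁'⟩
  apply hx₁'
  have hpiv : ⁅(g₀ ^ k)⁻¹ * g, x⁆ ∈ F.f i := by
    apply (QuotientGroup.eq_one_iff _).1
    have h4 := hmul _ (pow_mem hK₀ k) _ hmem
    rw [mul_inv_cancel_left, hpow k, show c ^ k = QuotientGroup.mk' (F.f i) ⁅g, x⁆ from hk] at h4
    exact mul_eq_right.1 h4.symm
  by_contra hc
  exact (Flag.PivotAt.outer F (g := (g₀ ^ k)⁻¹ * g) ⟨hd, hj, hmem, x₁, hx₁, hc⟩ hx hxo).2 hpiv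

open Classical in
/-- A subgroup is generated, modulo its intersection with the centralizer of `A` and its commutator,
by elements with pivots free of transitive triangles. -/
theorem Flag.exists_gens (H : Subgroup P) :
    ∃ S : Finset P, 4 * S.card ≤ F.a ^ 2 ∧ ↑S ⊆ (H : Set P) ∧
      H ≤ (H ⊓ Subgroup.centralizer (F.A : Set P)) ⊔ ⁅H, H⁆ ⊔ Subgroup.closure (S : Set P) := by
  let Piv : ℕ → ℕ → Prop := fun i j => i < j ∧ ∃ g ∈ H, F.PivotAt g (j - i) i
  let E : Finset (Fin F.a × Fin F.a) := Finset.univ.filter fun e =>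
    Piv e.1 e.2 ∧ ¬ ∃ m, Piv e.1 m ∧ Piv m e.2
  choose φ hφH hφ using fun (e : {e // e ∈ E}) => (Finset.mem_filter.1 e.2).2.1.2
  refine ⟨E.attach.image φ, ?_, ?_, ?_⟩
  · refine le_trans (Nat.mul_le_mul_left 4 (Finset.card_image_le.trans Finset.card_attach.le)) ?_
    let G : SimpleGraph (Fin F.a) := SimpleGraph.fromRel fun u v => (u, v) ∈ E
    have hlt : ∀ u v : Fin F.a, (u, v) ∈ E → (u : ℕ) < v := fun u v h =>
      (Finset.mem_filter.1 h).2.1.1
    have htri : ∀ u v w : Fin F.a, (u, v) ∈ E → (v, w) ∈ E → (u, w) ∈ E → False :=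
      fun u v w h1 h2 h3 => (Finset.mem_filter.1 h3).2.2
        ⟨v, (Finset.mem_filter.1 h1).2.1, (Finset.mem_filter.1 h2).2.1⟩
    have hfree : G.CliqueFree (2 + 1) := by
      intro t ht
      obtain ⟨u, v, w, huv, huw, hvw, -⟩ := SimpleGraph.is3Clique_iff.1 ht
      simp only [G, SimpleGraph.fromRel_adj] at huv huw hvw
      rcases huv.2 with h1 | h1 <;> rcases huw.2 with h2 | h2 <;> rcases hvw.2 with h3 | h3 <;>
        first
          | exact htri _ _ _ h1 h3 h2
          | exact htri _ _ _ h2 h3 h1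
          | exact htri _ _ _ h1 h2 h3
          | exact htri _ _ _ h2 h1 h3
          | exact htri _ _ _ h3 h2 h1
          | exact htri _ _ _ h3 h1 h2
          | (have := hlt _ _ h1; have := hlt _ _ h2; have := hlt _ _ h3; omega)
    have h := hfree.card_edgeFinset_le
    have hE : E.card ≤ G.edgeFinset.card := by
      refine Finset.card_le_card_of_injOn (fun e => s(e.1, e.2)) (fun e he => ?_) ?_
      · simp only [Finset.mem_coe, SimpleGraph.mem_edgeFinset, SimpleGraph.mem_edgeSet, G,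
          SimpleGraph.fromRel_adj]
        exact ⟨fun h => (hlt _ _ he).ne (congrArg Fin.val h), Or.inl he⟩
      · rintro ⟨u, v⟩ h1 ⟨u', v'⟩ h2 heq
        rcases Sym2.eq_iff.1 heq with ⟨r1, r2⟩ | ⟨r1, r2⟩
        · exact Prod.ext r1 r2
        · have e1 := hlt _ _ h1
          have e2 := hlt _ _ h2
          simp only at r1 r2
          subst r1 r2
          omega
    simp only [Fintype.card_fin] at h
    have h' : E.card ≤ F.a ^ 2 / 4 := by
      refine hE.trans (h.trans ?_)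
      have h1 : F.a % 2 < 2 := Nat.mod_lt _ (by norm_num)
      have h2 : (F.a % 2).choose 2 = 0 := Nat.choose_eq_zero_of_lt h1
      rw [h2, add_zero]
      norm_num
      exact Nat.div_le_div_right (Nat.sub_le _ _)
    calc 4 * E.card ≤ 4 * (F.a ^ 2 / 4) := Nat.mul_le_mul_left 4 h'
      _ ≤ F.a ^ 2 := Nat.mul_div_le _ _
  · intro z hz
    obtain ⟨e, -, rfl⟩ := Finset.mem_image.1 (Finset.mem_coe.1 hz)
    exact hφH e
  set W := (H ⊓ Subgroup.centralizer (F.A : Set P)) ⊔ ⁅H, H⁆ ⊔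
    Subgroup.closure ((E.attach.image φ : Finset P) : Set P)
  have hWH : W ≤ H := by
    refine sup_le (sup_le inf_le_left (Subgroup.commutator_le.2 fun a ha b hb => by
      rw [commutatorElement_def]
      exact H.mul_mem (H.mul_mem (H.mul_mem ha hb) (H.inv_mem ha)) (H.inv_mem hb))) ?_
    rw [Subgroup.closure_le]
    intro z hz
    obtain ⟨e, -, rfl⟩ := Finset.mem_image.1 (Finset.mem_coe.1 hz)
    exact hφH e
  -- every pivot of `H` is realised in `W`
  have hreal : ∀ d i, (∃ g ∈ H, F.PivotAt g d i) → ∃ g ∈ W, F.PivotAt g d i := by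
    intro d i hgi
    obtain ⟨g, hgH, hg⟩ := id hgi
    have hd := hg.1
    have hj := hg.2.1
    let u : Fin F.a := ⟨i, by omega⟩
    let v : Fin F.a := ⟨i + d, hj⟩
    have hP' : Piv i (i + d) := ⟨by omega, g, hgH, by rwa [Nat.add_sub_cancel_left]⟩
    by_cases hcomp : ∃ m, Piv i m ∧ Piv m (i + d)
    · obtain ⟨m, ⟨him, a₁, ha₁, hp₁⟩, hmj, a₂, ha₂, hp₂⟩ := hcomp
      refine ⟨⁅a₁, a₂⁆, Subgroup.mem_sup_left (Subgroup.mem_sup_right
        (Subgroup.commutator_mem_commutator ha₁ ha₂)), ?_⟩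
      have h := F.pivot_comp hp₁ (h := a₂) (e := i + d - m)
        (by rwa [Nat.add_sub_cancel' him.le])
      rwa [show m - i + (i + d - m) = d by omega] at h
    · have hmem : (u, v) ∈ E := Finset.mem_filter.2 ⟨Finset.mem_univ _, hP', hcomp⟩
      refine ⟨φ ⟨_, hmem⟩, Subgroup.mem_sup_right (Subgroup.subset_closure
        (Finset.mem_image_of_mem _ (Finset.mem_attach _ _))), ?_⟩
      have h : F.PivotAt (φ ⟨_, hmem⟩) (i + d - i) i := hφ ⟨(u, v), hmem⟩
      rwa [Nat.add_sub_cancel_left] at h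
  -- descending along the positions
  have hstep : ∀ d i, 1 ≤ d → H ⊓ F.K d (i + 1) ≤ W → H ⊓ F.K d i ≤ W := by
    intro d i hd hnext g hg
    by_cases hex : ∃ g' ∈ H, F.PivotAt g' d i
    · obtain ⟨g₀, hg₀, hp₀⟩ := hreal d i hex
      obtain ⟨k, hk⟩ := F.step_gen hp₀ hg.2
      have h1 := hnext ⟨H.mul_mem (H.inv_mem (H.pow_mem (hWH hg₀) k)) hg.1, hk⟩
      simpa using W.mul_mem (W.pow_mem hg₀ k) h1
    · exact hnext ⟨hg.1, F.mem_next hd hg.2 fun h => hex ⟨g, hg.1, h⟩⟩
  have hdown : ∀ d, 1 ≤ d → ∀ r i, H ⊓ F.K d (i + r) ≤ W → H ⊓ F.K d i ≤ W := by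
    intro d hd r
    induction r with
    | zero => intro i h; exact h
    | succ r ih =>
      intro i h
      exact hstep d i hd (ih (i + 1) (by rwa [show i + 1 + r = i + (r + 1) by omega]))
  have hall : ∀ r d, 1 ≤ d → d + r = F.a → H ⊓ F.K d 0 ≤ W := by
    intro r
    induction r with
    | zero =>
      intro d hd hdr g hg
      obtain rfl : d = F.a := by omega
      exact Subgroup.mem_sup_left (Subgroup.mem_sup_left ⟨hg.1, F.K_end hg.2⟩)
    | succ r ih =>
      intro d hd hdr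
      refine hdown d hd (F.a - d) 0 ?_
      rw [zero_add]
      exact (inf_le_inf_left H (F.K_succ_deg (show d < F.a by omega))).trans
        (ih (d + 1) (by omega) (by omega))
  rcases Nat.eq_zero_or_pos F.a with h0 | h0
  · intro g hg
    refine Subgroup.mem_sup_left (Subgroup.mem_sup_left ⟨hg, Subgroup.mem_centralizer_iff.2 ?_⟩)
    intro x hx
    have hx1 : x ∈ F.f 0 := by rw [← h0, F.top]; exact hx
    rw [F.bot, Subgroup.mem_bot] at hx1
    rw [hx1, one_mul, mul_one]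
  · intro g hg
    refine hall (F.a - 1) 1 le_rfl (by omega) ⟨hg, ?_⟩
    rw [F.K_start]; trivial

end H79.Pivot
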