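import Cfsg.Agent.H79Basic

/-! Real elements centralizing a Sylow 2-subgroup. -/

set_option autoImplicit false

namespace H79

variable {G : Type*} [Group G]

/-- A real element centralizing a Sylow 2-subgroup squares to the identity. -/
theorem sq_eq_one_of_real_of_mem_centralizer_sylow [Finite G] (S : Sylow 2 G) {x : G}
    (hx : x ∈ Subgroup.centralizer ((S : Subgroup G) : Set G)) (hr : IsConj x x⁻¹) : x ^ 2 = 1 := by
  obtain ⟨g, hg⟩ := isConj_iff.1 hr
  have hy : (g⁻¹)⁻¹ * x * g⁻¹ ∈ Subgroup.centralizer ((S : Subgroup G) : Set G) := by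
    rw [inv_inv, hg]
    exact Subgroup.inv_mem _ hx
  obtain ⟨n, hn, hnx⟩ := Sylow.conj_eq_normalizer_conj_of_mem_centralizer S x g⁻¹ hx hy
  rw [inv_inv, hg] at hnx
  have hinv : n⁻¹ * x * (n⁻¹)⁻¹ = x⁻¹ := by rw [inv_inv]; exact hnx.symm
  obtain ⟨a, m, hm, h2, -⟩ := exists_odd_part n⁻¹
  have hconj := conj_pow_inv_of_odd hinv hm
  have hS : (n⁻¹) ^ m ∈ (S : Subgroup G) := by
    have hR : IsPGroup 2 (Subgroup.zpowers ((n⁻¹) ^ m)) :=
      IsPGroup.of_card (by rw [Nat.card_zpowers, h2])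
    have hmem : (n⁻¹) ^ m ∈ Subgroup.zpowers ((n⁻¹) ^ m) ⊓ Subgroup.normalizer ((S : Subgroup G) : Set G) :=
      ⟨Subgroup.mem_zpowers _, Subgroup.pow_mem _ (Subgroup.inv_mem _ hn) m⟩
    exact ((hR.inf_normalizer_sylow S).le hmem).2
  have hc : (n⁻¹) ^ m * x = x * (n⁻¹) ^ m := Subgroup.mem_centralizer_iff.1 hx _ hS
  rw [hc, mul_inv_cancel_right] at hconj
  rw [pow_two]
  exact eq_inv_iff_mul_eq_one.1 hconj

end H79
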