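import Cfsg.Agent.Lib.Characters.LinearTwist
import Cfsg.Agent.Lib.Characters.Counting
import Cfsg.Agent.Lib.Characters.BrauerPerm
import Cfsg.Agent.Lib.Characters.Values
import Cfsg.Agent.Lib.PGroup.Frattini

/-! Real linear characters of a `2`-group and their action on the irreducible characters. -/

set_option autoImplicit false

namespace H79.RealLinear

open Cfsg CfsgLib.Characters
open scoped ComplexConjugate

universe u

variable (G : Type u) [Group G]

/-- Linear characters with values `±1`. -/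
def signHoms : Subgroup (G →* ℂˣ) where
  carrier := {f | ∀ g, f g ^ 2 = 1}
  one_mem' g := by simp
  mul_mem' {a b} ha hb g := by rw [MonoidHom.mul_apply, mul_pow, ha g, hb g, one_mul]
  inv_mem' {a} ha g := by rw [MonoidHom.inv_apply, inv_pow, ha g, inv_one]

theorem card_frattini_quotient_le [Finite G] (hG : IsPGroup 2 G) :
    Nat.card (G ⧸ frattini G) ≤ Nat.card (signHoms G) := by
  classical
  let Q := G ⧸ frattini G
  have hcomm : IsMulCommutative Q :=
    (Subgroup.Normal.quotient_commutative_iff_commutator_le).2 (CfsgLib.PGroup.commutator_le_frattini hG)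
  let _ : CommGroup Q := { (inferInstance : Group Q) with mul_comm := fun a b => hcomm.is_comm.comm a b }
  have hsq : ∀ q : Q, q ^ 2 = 1 := by
    intro q
    obtain ⟨g, rfl⟩ := QuotientGroup.mk_surjective q
    rw [← QuotientGroup.mk_pow, QuotientGroup.eq_one_iff]
    exact CfsgLib.PGroup.pow_mem_frattini hG g
  have : NeZero (Monoid.exponent Q) := ⟨Monoid.exponent_ne_zero_of_finite⟩
  have hcard := CommGroup.card_monoidHom_of_hasEnoughRootsOfUnity Q ℂ
  rw [← hcard]
  refine Nat.card_le_card_of_injective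
    (fun f : Q →* ℂˣ => (⟨f.comp (QuotientGroup.mk' _), fun g => ?_⟩ : signHoms G)) ?_
  · rw [MonoidHom.comp_apply, ← map_pow, hsq, map_one]
  · intro a b hab
    refine MonoidHom.ext fun q => ?_
    obtain ⟨g, rfl⟩ := QuotientGroup.mk_surjective q
    exact DFunLike.congr_fun (congrArg Subtype.val hab) g

variable {G}

theorem sign_im (f : signHoms G) (g : G) : ((f.1 g : ℂ)).im = 0 := by
  have h := congrArg Units.val (f.2 g)
  rw [Units.val_pow_eq_pow_val, Units.val_one] at h
  rcases sq_eq_one_iff.1 h with h | h <;> simp [h]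

theorem card_signHoms_le_card_real [Finite G] :
    Nat.card (signHoms G) ≤
      Nat.card {χ : IrrCharacter G // CfsgLib.BrauerPerm.conjIrr χ = χ} := by
  refine Nat.card_le_card_of_injective
    (fun f : signHoms G => ⟨⟨_, isIrrCharacter_of_hom f.1⟩,
      (CfsgLib.BrauerPerm.conjIrr_eq_self_iff _).2 (sign_im f)⟩) ?_
  intro a b hab
  exact Subtype.ext (MonoidHom.ext fun g =>
    Units.ext (congrFun (congrArg (fun x => (x.1.1 : G → ℂ)) hab) g))

theorem card_real_eq_card_classes [Finite G] :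
    Nat.card {χ : IrrCharacter G // CfsgLib.BrauerPerm.conjIrr χ = χ} =
      Nat.card {c : ConjClasses G // ∀ k : G, ConjClasses.mk k = c → ConjClasses.mk k⁻¹ = c} := by
  refine CfsgLib.BrauerPerm.card_fixed_eq _ (fun k : G => k⁻¹) inv_involutive.bijective (fun χ k => ?_)
  rw [CfsgLib.BrauerPerm.conjIrr_apply, ← irr_apply_inv, inv_inv]

/-- Twisting by a sign character. -/
@[reducible] noncomputable def twistAction [Finite G] : MulAction (signHoms G) (IrrCharacter G) where
  smul f χ := ⟨fun g => (χ : G → ℂ) g * (f.1 g : ℂ), CfsgLib.LinearTwist.isIrr_mul_hom χ.2 f.1⟩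
  one_smul χ := by
    apply Subtype.ext
    funext g
    show (χ : G → ℂ) g * ((1 : G →* ℂˣ) g : ℂ) = (χ : G → ℂ) g
    simp
  mul_smul a b χ := by
    apply Subtype.ext
    funext g
    show (χ : G → ℂ) g * ((a.1 * b.1) g : ℂ) = (χ : G → ℂ) g * (b.1 g : ℂ) * (a.1 g : ℂ)
    rw [MonoidHom.mul_apply, Units.val_mul]
    ring

theorem card_fixing_le [Finite G] (χ : IrrCharacter G) (n : ℕ) (hn : (χ : G → ℂ) 1 = n)
    (S : Set (G →* ℂˣ)) (hS : ∀ f ∈ S, ∀ g, (χ : G → ℂ) g * (f g : ℂ) = (χ : G → ℂ) g) :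
    Nat.card S ≤ n ^ 2 := by
  classical
  have := Fintype.ofFinite G
  let H : Subgroup G := ⨅ f : S, (f : G →* ℂˣ).ker
  have hH : ∀ g, g ∉ H → (χ : G → ℂ) g = 0 := by
    intro g hg
    simp only [H, Subgroup.mem_iInf, MonoidHom.mem_ker, not_forall] at hg
    obtain ⟨⟨f, hf⟩, hfg⟩ := hg
    by_contra h0
    apply hfg
    exact Units.ext (mul_left_cancel₀ h0 (by rw [Units.val_one, mul_one]; exact hS f hf g))
  have h1 : Nat.card S ≤ H.index := by
    refine le_trans ?_ (CfsgLib.LinearTwist.card_hom_trivial_le H)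
    refine Nat.card_le_card_of_injective
      (fun f : S => (⟨f.1, fun h hh => ?_⟩ : {f : G →* ℂˣ // ∀ h ∈ H, f h = 1}))
      (fun a b hab => Subtype.ext (congrArg (fun x => x.1) hab))
    have := (Subgroup.mem_iInf.1 hh) f
    exact this
  refine h1.trans ?_
  have hnorm : ∑ g : G, ‖(χ : G → ℂ) g‖ ^ 2 = (Nat.card G : ℝ) := by
    have h := classInner_irr_self χ.2
    rw [classInner, inv_mul_eq_iff_eq_mul₀ (Nat.cast_ne_zero.mpr Nat.card_pos.ne'), mul_one] at h
    simp only [Complex.mul_conj'] at h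
    exact_mod_cast h
  have hle : ∑ g : G, ‖(χ : G → ℂ) g‖ ^ 2 ≤ (Nat.card H : ℝ) * (n : ℝ) ^ 2 := by
    rw [← Finset.sum_subset (Finset.subset_univ (Finset.univ.filter fun g => g ∈ H))
      (fun g _ hg => by rw [hH g (fun h => hg (by simp [h])), norm_zero, sq, zero_mul])]
    refine (Finset.sum_le_card_nsmul _ _ ((n : ℝ) ^ 2) fun g _ => ?_).trans (le_of_eq ?_)
    · have hb := norm_le_degree_of_isCharacter (isCharacter_of_irr χ.2) g
      have hb' : ‖(χ : G → ℂ) g‖ ≤ (n : ℝ) := by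
        simpa [hn] using hb
      exact pow_le_pow_left₀ (norm_nonneg _) hb' 2
    · rw [nsmul_eq_mul, Nat.card_eq_fintype_card, Fintype.card_subtype]
  rw [hnorm, ← H.index_mul_card, Nat.cast_mul, mul_comm (H.index : ℝ)] at hle
  exact_mod_cast le_of_mul_le_mul_left hle (Nat.cast_pos.2 Nat.card_pos)

/-- The number of square roots of the identity is divisible by `2 ^ (k + 1)`. -/
theorem dvd_card_sqrt_one [Finite G] (hG : IsPGroup 2 G) (k : ℕ)
    (hgen : 2 ^ (2 * k + 1) ≤ Nat.card (G ⧸ frattini G)) :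
    2 ^ (k + 1) ∣ Nat.card {x : G // x * x = 1} := by
  classical
  have := Fintype.ofFinite G
  have hA : 2 ^ (2 * k + 1) ≤ Nat.card (signHoms G) := hgen.trans (card_frattini_quotient_le G hG)
  let A := signHoms G
  have hA2 : IsPGroup 2 A := fun f => ⟨1, Subtype.ext (MonoidHom.ext fun g => by
    show (f.1 g) ^ (2 ^ 1) = 1
    rw [pow_one]; exact f.2 g)⟩
  let _ := twistAction (G := G)
  let w : IrrCharacter G → ℂ := fun χ =>
    ((Nat.card G : ℂ)⁻¹ * ∑ s : G, (χ : G → ℂ) (s * s)) * (χ : G → ℂ) 1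
  have hw : ∀ (f : A) (χ : IrrCharacter G), w (f • χ) = w χ := by
    intro f χ
    have hf : ∀ s : G, (f.1 (s * s) : ℂ) = 1 := fun s => by
      rw [← pow_two, map_pow, f.2 s, Units.val_one]
    show ((Nat.card G : ℂ)⁻¹ * ∑ s : G, (χ : G → ℂ) (s * s) * (f.1 (s * s) : ℂ)) *
        ((χ : G → ℂ) 1 * (f.1 1 : ℂ)) = w χ
    rw [Finset.sum_congr rfl (fun s _ => by rw [hf s, mul_one]), map_one, Units.val_one, mul_one]
  let O := Quotient (MulAction.orbitRel A (IrrCharacter G))
  have := Fintype.ofFinite O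
  have horb : ∀ o : O, ∃ z : ℤ,
      (∑ χ : IrrCharacter G with Quotient.mk'' χ = o, w χ) = (2 : ℂ) ^ (k + 1) * (z : ℂ) := by
    intro o
    induction o using Quotient.inductionOn' with
    | h χ =>
    have hfilter : (Finset.univ.filter fun ψ : IrrCharacter G =>
        (Quotient.mk'' ψ : O) = Quotient.mk'' χ) = (MulAction.orbit A χ).toFinset := by
      ext ψ
      simp only [Finset.mem_filter, Finset.mem_univ, true_and, Set.mem_toFinset]
      rw [Quotient.eq'', MulAction.orbitRel_apply]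
    have hconst : ∀ ψ ∈ (MulAction.orbit A χ).toFinset, w ψ = w χ := by
      intro ψ hψ
      rw [Set.mem_toFinset] at hψ
      obtain ⟨f, rfl⟩ := hψ
      exact hw f χ
    rw [hfilter, Finset.sum_congr rfl hconst, Finset.sum_const, nsmul_eq_mul]
    obtain ⟨n, -, hn⟩ := irr_exists_degree χ.2
    have hn2 : ∃ j, n = 2 ^ j := by
      obtain ⟨m, hm⟩ := IsPGroup.iff_card.1 hG
      obtain ⟨d, hd, -, hdvd⟩ := irr_degree_dvd_card χ
      rw [hd, Nat.cast_inj] at hn
      subst hn
      rw [hm] at hdvd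
      obtain ⟨j, -, hj⟩ := (Nat.dvd_prime_pow Nat.prime_two).1 hdvd
      exact ⟨j, hj⟩
    obtain ⟨j, rfl⟩ := hn2
    obtain ⟨a, ha⟩ := hA2.card_orbit χ
    have hst : Nat.card (MulAction.stabilizer A χ) ≤ (2 ^ j) ^ 2 := by
      refine le_trans ?_ (card_fixing_le χ (2 ^ j) hn
        {f | ∃ hf : f ∈ A, (⟨f, hf⟩ : A) ∈ MulAction.stabilizer A χ} ?_)
      · exact Nat.card_le_card_of_injective
          (fun f => ⟨f.1.1, f.1.2, f.2⟩)
          (fun a b hab => Subtype.ext (Subtype.ext (congrArg (fun x => x.1) hab)))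
      · rintro f ⟨hf, hfix⟩ g
        exact congrFun (congrArg Subtype.val hfix) g
    have hmul : Nat.card (MulAction.orbit A χ) * Nat.card (MulAction.stabilizer A χ) = Nat.card A := by
      rw [← (MulAction.stabilizer A χ).index_mul_card, MulAction.index_stabilizer, Nat.card_coe_set_eq]
    have haj : k + 1 ≤ a + j := by
      have h1 : 2 ^ (2 * k + 1) ≤ 2 ^ (a + 2 * j) := by
        calc 2 ^ (2 * k + 1) ≤ Nat.card A := hA
          _ ≤ 2 ^ a * (2 ^ j) ^ 2 := by rw [← hmul, ha]; exact Nat.mul_le_mul_left _ hst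
          _ = 2 ^ (a + 2 * j) := by rw [← pow_mul, ← pow_add, mul_comm j]
      have := (Nat.pow_le_pow_iff_right (by norm_num)).1 h1
      omega
    have hcard : (MulAction.orbit A χ).toFinset.card = 2 ^ a := by
      rw [Set.toFinset_card, ← Nat.card_eq_fintype_card, ha]
    obtain ⟨c, hc⟩ := Nat.exists_eq_add_of_le haj
    have hν : ∃ e : ℤ, (Nat.card G : ℂ)⁻¹ * ∑ s : G, (χ : G → ℂ) (s * s) = (e : ℂ) := by
      rw [← CfsgLib.FrobSchur.fsInd_eq_sum]
      rcases CfsgLib.FrobSchur.fsInd_cases χ.2 with ⟨_, h | h⟩ | ⟨_, h⟩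
      · exact ⟨1, by rw [h]; simp⟩
      · exact ⟨-1, by rw [h]; simp⟩
      · exact ⟨0, by rw [h]; simp⟩
    obtain ⟨e, he⟩ := hν
    refine ⟨(2 : ℤ) ^ c * e, ?_⟩
    simp only [w]
    rw [hcard, he, hn]
    push_cast
    have hp : (2 : ℂ) ^ a * (2 : ℂ) ^ j = 2 ^ (k + 1) * 2 ^ c := by rw [← pow_add, ← pow_add, hc]
    linear_combination (e : ℂ) * hp
  choose z hz using horb
  have htot : ((Nat.card {x : G // x * x = 1} : ℕ) : ℂ) = (2 : ℂ) ^ (k + 1) * ((∑ o : O, z o : ℤ) : ℂ) := by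
    rw [card_sqrt_one_eq, Int.cast_sum, Finset.mul_sum]
    rw [← Finset.sum_fiberwise Finset.univ (fun χ : IrrCharacter G => (Quotient.mk'' χ : O))]
    exact Finset.sum_congr rfl fun o _ => hz o
  have : ((2 ^ (k + 1) : ℕ) : ℤ) ∣ (Nat.card {x : G // x * x = 1} : ℤ) :=
    ⟨∑ o : O, z o, by exact_mod_cast htot⟩
  exact_mod_cast this

end H79.RealLinear
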