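import Cfsg.Agent.H79ConjSubgroups
import Cfsg.Agent.Lib.Struct77.BGroup
import Cfsg.Agent.Lib.TwoGroups.OneInvolution
import Cfsg.Agent.Lib.ConstStab.Basic

/-! Sylow subgroups of groups in which `p`-subgroups of equal order are conjugate. -/

set_option autoImplicit false

namespace H79.ConjSub

universe u

variable {G : Type u} [Group G] [Finite G] {p : ℕ} [hp : Fact p.Prime]

theorem PConj.mem_normal (h : PConj p G) {M : Subgroup G} [M.Normal] {a m : G} (hm : m ∈ M)
    (hm' : orderOf m = p) (ha : orderOf a = p) : a ∈ M := by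
  obtain ⟨g, hg⟩ := h (Subgroup.zpowers m) (Subgroup.zpowers a)
    (IsPGroup.of_card (n := 1) (by rw [Nat.card_zpowers, hm', pow_one]))
    (IsPGroup.of_card (n := 1) (by rw [Nat.card_zpowers, ha, pow_one]))
    (by rw [Nat.card_zpowers, Nat.card_zpowers, hm', ha])
  have ha2 : a ∈ Subgroup.zpowers a := Subgroup.mem_zpowers a
  rw [hg] at ha2
  obtain ⟨z, hz, rfl⟩ := ha2
  exact (inferInstance : M.Normal).conj_mem z ((Subgroup.zpowers_le.mpr hm) hz) g

/-- Conjugate subgroups are both commutative or both noncommutative. -/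
theorem PConj.commutative (h : PConj p G) {A B : Subgroup G} (hA : IsPGroup p A) (hB : IsPGroup p B)
    (hc : Nat.card A = Nat.card B) (hcom : IsMulCommutative A) : IsMulCommutative B := by
  obtain ⟨g, rfl⟩ := h A B hA hB hc
  infer_instance

theorem PConj.unique_or_exponent (h : PConj p G) {P : Subgroup G} (hP : IsPGroup p P) :
    (∀ a b : G, a ∈ P → b ∈ P → orderOf a = p → orderOf b = p →
      Subgroup.zpowers a = Subgroup.zpowers b) ∨ (∀ x ∈ P, x ^ p = 1) := by
  by_contra hcon
  push Not at hcon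
  obtain ⟨⟨a, b, ha, hb, hao, hbo, hab⟩, x, hx, hxp⟩ := hcon
  have : Nontrivial P := ⟨⟨a, ha⟩, 1, fun h => hp.out.ne_one (hao.symm.trans
    (orderOf_eq_one_iff.mpr (congrArg Subtype.val h)))⟩
  have := hP.center_nontrivial
  obtain ⟨z₀, hz₀⟩ := exists_prime_orderOf_dvd_card' p
    ((hP.to_subgroup (Subgroup.center P)).card_eq_or_dvd.resolve_left
      (fun h => by have := Finite.one_lt_card (α := Subgroup.center P); omega))
  set z : G := ((z₀ : P) : G) with hz
  have hzo : orderOf z = p := by rw [hz, Subgroup.orderOf_coe, Subgroup.orderOf_coe, hz₀]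
  obtain ⟨u, hu, huo, hun⟩ : ∃ u ∈ P, orderOf u = p ∧ u ∉ Subgroup.zpowers z := by
    have key : ∀ w : G, orderOf w = p → w ∈ Subgroup.zpowers z →
        Subgroup.zpowers w = Subgroup.zpowers z := fun w hw hm =>
      Subgroup.eq_of_le_of_card_ge (Subgroup.zpowers_le.mpr hm)
        (by rw [Nat.card_zpowers, Nat.card_zpowers, hw, hzo])
    by_cases hza : a ∈ Subgroup.zpowers z
    · exact ⟨b, hb, hbo, fun h2 => hab ((key a hao hza).trans (key b hbo h2).symm)⟩
    · exact ⟨a, ha, hao, hza⟩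
  have hc : Commute z u :=
    (congrArg Subtype.val (Subgroup.mem_center_iff.mp z₀.2 ⟨u, hu⟩)).symm
  obtain ⟨hE, hEc⟩ := CfsgLib.BGroup.card_pair hzo huo hc hun
  obtain ⟨j, hj⟩ := IsPGroup.iff_orderOf.mp hP ⟨x, hx⟩
  rw [Subgroup.orderOf_mk] at hj
  have hj2 : 2 ≤ j := by
    by_contra h2
    exact hxp (orderOf_dvd_iff_pow_eq_one.mp
      (hj ▸ (pow_dvd_pow p (by omega : j ≤ 1)).trans (by rw [pow_one])))
  set y := x ^ p ^ (j - 2) with hy
  have hyo : orderOf y = p ^ 2 := by
    rw [hy, orderOf_pow_of_dvd (pow_ne_zero _ hp.out.ne_zero) (hj ▸ pow_dvd_pow p (by omega)), hj,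
      Nat.pow_div (by omega) hp.out.pos]
    congr 1
    omega
  obtain ⟨g, hg⟩ := h _ (Subgroup.zpowers y) (IsPGroup.of_card hEc)
    (IsPGroup.of_card (n := 2) (by rw [Nat.card_zpowers, hyo]))
    (by rw [hEc, Nat.card_zpowers, hyo])
  have hym : y ∈ Subgroup.zpowers y := Subgroup.mem_zpowers y
  rw [hg] at hym
  obtain ⟨w, hw, hwy⟩ := hym
  have hwp : y ^ p = 1 := by rw [← hwy, ← map_pow, hE.2 w hw, map_one]
  have := Nat.le_of_dvd hp.out.pos (hyo ▸ orderOf_dvd_of_pow_eq_one hwp)
  have := hp.out.two_le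
  nlinarith

theorem PConj.cyclic_or_exponent (h : PConj p G) (hp2 : p ≠ 2) (P : Sylow p G) :
    IsCyclic P ∨ ∀ x ∈ (P : Subgroup G), x ^ p = 1 := by
  rcases h.unique_or_exponent P.2 with hu | hu
  · refine Or.inl (CfsgLib.ConstStab.isCyclic_of_unique_prime_subgroup hp2 P.2 ?_)
    intro x y hx1 hxp hyp
    by_cases hy1 : y = 1
    · rw [hy1]; exact Subgroup.one_mem _
    have hx' : orderOf (x : G) = p := by rw [Subgroup.orderOf_coe, orderOf_eq_prime hxp hx1]
    have hy' : orderOf (y : G) = p := by rw [Subgroup.orderOf_coe, orderOf_eq_prime hyp hy1]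
    have heq := hu x y x.2 y.2 hx' hy'
    have hm : (y : G) ∈ Subgroup.zpowers (x : G) := heq ▸ Subgroup.mem_zpowers (y : G)
    obtain ⟨i, hi⟩ := Subgroup.mem_zpowers_iff.mp hm
    exact ⟨i, Subtype.ext (by simpa using hi)⟩
  · exact Or.inr hu

/-- Parity homomorphism of a generalised quaternion group of even parameter. -/
theorem quaternion_subgroup {m : ℕ} (hm : Even m) (hm4 : 2 < m) :
    ∃ A B : Subgroup (QuaternionGroup m), Nat.card A = Nat.card B ∧ IsMulCommutative A ∧
      ¬ IsMulCommutative B := by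
  have : NeZero m := ⟨by omega⟩
  have h2 : 2 ∣ 2 * m := dvd_mul_right 2 m
  have hm0 : (m : ZMod 2) = 0 := (ZMod.natCast_eq_zero_iff_even).2 hm
  have hsub : ∀ a b : ZMod 2, a - b = b + a := by decide
  let f : QuaternionGroup m → Multiplicative (ZMod 2)
    | .a i => Multiplicative.ofAdd (ZMod.castHom h2 (ZMod 2) i)
    | .xa i => Multiplicative.ofAdd (ZMod.castHom h2 (ZMod 2) i)
  have hf : ∀ x y, f (x * y) = f x * f y := by
    rintro (i | i) (j | j) <;>
      simp only [f, QuaternionGroup.a_mul_a, QuaternionGroup.a_mul_xa, QuaternionGroup.xa_mul_a,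
        QuaternionGroup.xa_mul_xa, map_add, map_sub, map_natCast, hm0, zero_add, ← ofAdd_add, hsub]
  let φ := MonoidHom.mk' f hf
  refine ⟨Subgroup.zpowers (QuaternionGroup.a 1), φ.ker, ?_, inferInstance, ?_⟩
  · have hs : Function.Surjective φ := by
      intro z
      refine ⟨QuaternionGroup.a (z.toAdd.val : ZMod (2 * m)), ?_⟩
      change Multiplicative.ofAdd (ZMod.castHom h2 (ZMod 2) _) = z
      rw [map_natCast, ZMod.natCast_zmod_val, ofAdd_toAdd]
    have h1 := φ.ker.card_mul_index
    rw [Subgroup.index_ker, MonoidHom.range_eq_top.2 hs, Subgroup.card_top, Nat.card_congr Multiplicative.toAdd, Nat.card_zmod, Nat.card_eq_fintype_card (α := QuaternionGroup m), QuaternionGroup.card] at h1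
    rw [Nat.card_zpowers, QuaternionGroup.orderOf_a_one]
    omega
  · intro hc
    have ha : QuaternionGroup.a (2 : ZMod (2 * m)) ∈ φ.ker := by
      change Multiplicative.ofAdd (ZMod.castHom h2 (ZMod 2) (2 : ZMod (2 * m))) = 1
      rw [map_ofNat]; rfl
    have hb : QuaternionGroup.xa (0 : ZMod (2 * m)) ∈ φ.ker := by
      change Multiplicative.ofAdd (ZMod.castHom h2 (ZMod 2) (0 : ZMod (2 * m))) = 1
      rw [map_zero]; rfl
    have h3 := congrArg Subtype.val (hc.is_comm.comm ⟨_, ha⟩ ⟨_, hb⟩)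
    simp only [Subgroup.coe_mul, QuaternionGroup.a_mul_xa, QuaternionGroup.xa_mul_a,
      QuaternionGroup.xa.injEq, zero_sub, zero_add, neg_eq_iff_add_eq_zero] at h3
    have h4 : ((4 : ℕ) : ZMod (2 * m)) = 0 := by rw [← h3]; norm_num
    have := Nat.le_of_dvd (by norm_num) ((ZMod.natCast_eq_zero_iff _ _).1 h4)
    omega

theorem PConj.sylow_two {G : Type u} [Group G] [Finite G] (h : PConj 2 G) (P : Sylow 2 G) :
    IsCyclic P ∨ Cfsg.IsElementaryAbelian 2 (P : Subgroup G) ∨
      Nonempty ((P : Subgroup G) ≃* QuaternionGroup 2) := by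
  have : Fact (Nat.Prime 2) := ⟨Nat.prime_two⟩
  rcases h.unique_or_exponent P.2 with hu | hu
  · have h1 : ∀ a b : ↥(P : Subgroup G), orderOf a = 2 → orderOf b = 2 → a = b := by
      intro a b ha hb
      have ha' : orderOf (a : G) = 2 := by rw [Subgroup.orderOf_coe, ha]
      have hb' : orderOf (b : G) = 2 := by rw [Subgroup.orderOf_coe, hb]
      have heq := hu a b a.2 b.2 ha' hb'
      obtain ⟨i, hi⟩ := Subgroup.mem_zpowers_iff.mp
        (show (b : G) ∈ Subgroup.zpowers (a : G) from heq ▸ Subgroup.mem_zpowers (b : G))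
      rw [← zpow_mod_orderOf, ha'] at hi
      rcases Int.emod_two_eq i with h2 | h2 <;> simp [h2] at hi
      · exfalso
        rw [← hi, orderOf_one] at hb'
        exact absurd hb' (by norm_num)
      · exact hi
    rcases CfsgLib.TwoGroups.OneInvolution.isCyclic_or_quaternion P.2 h1 with hc | ⟨n, hn, ⟨e⟩⟩
    · exact Or.inl hc
    · rcases Nat.lt_or_ge n 2 with hn2 | hn2
      · obtain rfl : n = 1 := by omega
        exact Or.inr (Or.inr ⟨by simpa using e⟩)
      · exfalso
        obtain ⟨A, B, hc, hA, hB⟩ := quaternion_subgroup (m := 2 ^ n)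
          ((Nat.even_pow).2 ⟨even_two, by omega⟩)
          (lt_of_lt_of_le (by norm_num) (Nat.pow_le_pow_right two_pos hn2))
        let f : QuaternionGroup (2 ^ n) →* G := (P : Subgroup G).subtype.comp e.symm.toMonoidHom
        have hf : Function.Injective f := (P : Subgroup G).subtype_injective.comp e.symm.injective
        have hp' : ∀ C : Subgroup (QuaternionGroup (2 ^ n)), IsPGroup 2 (C.map f) := fun C =>
          P.2.to_le (by rintro _ ⟨x, -, rfl⟩; exact (e.symm x).2)
        have := h.commutative (hp' A) (hp' B)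
          (by rw [Subgroup.card_map_of_injective hf, Subgroup.card_map_of_injective hf, hc])
          inferInstance
        exact hB ⟨⟨fun a b => Subtype.ext (hf (by
          rw [Subgroup.coe_mul, Subgroup.coe_mul, map_mul, map_mul]
          exact congrArg Subtype.val (this.is_comm.comm ⟨f a, a, a.2, rfl⟩ ⟨f b, b, b.2, rfl⟩)))⟩⟩
  · refine Or.inr (Or.inl ⟨⟨⟨fun a b => Subtype.ext ?_⟩⟩, hu⟩)
    have hab := hu _ ((P : Subgroup G).mul_mem a.2 b.2)
    have ha := hu _ a.2
    have hb := hu _ b.2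
    rw [pow_two] at hab ha hb
    show (a : G) * b = b * a
    calc (a : G) * b = (a : G)⁻¹ * (b : G)⁻¹ := by
          rw [inv_eq_of_mul_eq_one_right ha, inv_eq_of_mul_eq_one_right hb]
      _ = ((b : G) * a)⁻¹ := (mul_inv_rev _ _).symm
      _ = (b : G) * a := by
          apply inv_eq_of_mul_eq_one_right
          calc (b : G) * a * (b * a) = b * (a * b * (a * b)) * (b : G)⁻¹ := by group
            _ = 1 := by rw [hab]; group

end H79.ConjSub
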