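import Cfsg.Agent.H79FpfMod
import Cfsg.Agent.Lib.InvChar.Kazarin
import Cfsg.Agent.Lib.OddOrder41.NormalElementary

/-! Finite groups whose noncentral `p`-regular elements all have centralisers of the same order. -/

set_option autoImplicit false

namespace H79.TwoClass

open scoped commutatorElement

variable {G : Type*} [Group G] {p : ℕ}

/-- `p`-regular elements. -/
def PR (p : ℕ) (x : G) : Prop := (orderOf x).Coprime p

/-- Noncentral `p`-regular elements. -/
def Nc (p : ℕ) (x : G) : Prop := PR p x ∧ x ∉ Subgroup.center G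

/-- The centralizer of an element. -/
abbrev C (x : G) : Subgroup G := Subgroup.centralizer ({x} : Set G)

/-- The relevant primes. -/
def Rel (p r : ℕ) (G : Type*) [Group G] : Prop :=
  r.Prime ∧ r ≠ p ∧ ∃ y : G, y ∉ Subgroup.center G ∧ ∃ k, y ^ r ^ k = 1

theorem mem_C {x y : G} : y ∈ C x ↔ Commute y x := Subgroup.mem_centralizer_singleton_iff

theorem le_C_of_commute {x : G} {K : Subgroup G} (h : ∀ y ∈ K, Commute y x) : K ≤ C x :=
  fun y hy => mem_C.2 (h y hy)

theorem C_conj_mem {x g y : G} : g * y * g⁻¹ ∈ C (g * x * g⁻¹) ↔ y ∈ C x := by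
  rw [mem_C, mem_C]; exact Commute.conj_iff g

theorem C_mul_central {x z : G} (hz : z ∈ Subgroup.center G) : C (z * x) = C x := by
  ext y
  rw [mem_C, mem_C]
  have hzy : y * z = z * y := Subgroup.mem_center_iff.1 hz y
  constructor
  · intro h
    have h' : y * (z * x) = z * x * y := h
    rw [← mul_assoc, hzy, mul_assoc z, mul_assoc z] at h'
    exact mul_left_cancel h'
  · intro h
    exact (show Commute y z from hzy).mul_right h

theorem normalizer_of_conj_eq [Finite G] {K : Subgroup G} {g : G} (h : ∀ y ∈ K, g * y * g⁻¹ ∈ K) :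
    g ∈ Subgroup.normalizer (K : Set G) := by
  have hmap : K.map (MulAut.conj g).toMonoidHom = K := by
    refine Subgroup.eq_of_le_of_card_ge ?_ ?_
    · rintro _ ⟨y, hy, rfl⟩; exact h y hy
    · exact le_of_eq (Nat.card_congr (K.equivMapOfInjective _ (MulAut.conj g).injective).toEquiv)
  refine Subgroup.mem_normalizer_iff.2 fun y => ⟨h y, fun hy => ?_⟩
  rw [← hmap] at hy
  obtain ⟨z, hz, hzy⟩ := hy
  rwa [(MulAut.conj g).injective hzy] at hz

theorem PR.of_pow_prime_pow {y : G} {r : ℕ} (hp : p.Prime) (hr : r.Prime) (hrp : r ≠ p) {k : ℕ}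
    (h : y ^ r ^ k = 1) : PR p y :=
  (((Nat.coprime_primes hr hp).2 hrp).pow_left k).coprime_dvd_left (orderOf_dvd_of_pow_eq_one h)

theorem PR.pow {x y : G} (hx : PR p x) (hy : y ∈ Subgroup.zpowers x) : PR p y :=
  Nat.Coprime.coprime_dvd_left (orderOf_dvd_of_mem_zpowers hy) hx

theorem PR.mul {x y : G} (hx : PR p x) (hy : PR p y) (h : Commute x y) : PR p (x * y) :=
  Nat.Coprime.coprime_dvd_left h.orderOf_mul_dvd_mul_orderOf (Nat.Coprime.mul_left hx hy)

theorem PR.conj {x : G} (hx : PR p x) (g : G) : PR p (g * x * g⁻¹) := by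
  unfold PR
  rw [show orderOf (g * x * g⁻¹) = orderOf x from
    orderOf_injective (MulAut.conj g).toMonoidHom (MulAut.conj g).injective x]
  exact hx

theorem center_conj_iff {x g : G} : g * x * g⁻¹ ∈ Subgroup.center G ↔ x ∈ Subgroup.center G := by
  refine ⟨fun h => ?_, fun h => Subgroup.Normal.conj_mem inferInstance x h g⟩
  have h1 : g⁻¹ * (g * x * g⁻¹) * g⁻¹⁻¹ ∈ Subgroup.center G :=
    Subgroup.Normal.conj_mem inferInstance _ h g⁻¹
  simpa [mul_assoc] using h1

theorem Nc.conj {x : G} (hx : Nc p x) (g : G) : Nc p (g * x * g⁻¹) :=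
  ⟨hx.1.conj g, fun h => hx.2 (center_conj_iff.1 h)⟩

/-- Equal centraliser orders and centrality of `p`-regular elements in centralisers. -/
structure Cfg (p : ℕ) (G : Type*) [Group G] : Prop where
  hp : p.Prime
  hcard : ∀ x y : G, Nc p x → Nc p y → Nat.card (C x) = Nat.card (C y)
  hcen : ∀ x y : G, Nc p x → PR p y → y ∈ C x → C x ≤ C y
  two : ∀ l : ℕ, ∃ r, r ≠ l ∧ Rel p r G

variable [Finite G]

theorem C_eq_of_le {x y : G} (hcard : Nat.card (C x) = Nat.card (C y)) (h : C x ≤ C y) : C x = C y :=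
  Subgroup.eq_of_le_of_card_ge h hcard.ge

/-- Every centraliser of a noncentral `p`-regular element contains a noncentral `r`-element. -/
theorem exists_relevant_mem (hcard : ∀ x y : G, Nc p x → Nc p y → Nat.card (C x) = Nat.card (C y))
    (hp : p.Prime) {r : ℕ} (hrel : Rel p r G) {x : G} (hx : Nc p x) :
    ∃ y, y ∈ C x ∧ y ∉ Subgroup.center G ∧ ∃ k, y ^ r ^ k = 1 := by
  classical
  obtain ⟨hr, hrp, y₀, hy₀, k₀, hk₀⟩ := hrel
  haveI := Fact.mk hr
  by_contra hno
  push Not at hno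
  obtain ⟨S⟩ : Nonempty (Sylow r (C x)) := inferInstance
  set S' := (S : Subgroup (C x)).map (C x).subtype
  have hS' : IsPGroup r S' := IsPGroup.map S.isPGroup' _
  have hSc : S' ≤ Subgroup.center G := by
    rintro _ ⟨z, hz, rfl⟩
    by_contra hzc
    obtain ⟨m, hm⟩ := S.isPGroup' ⟨z, hz⟩
    have hm' : (z : G) ^ r ^ m = 1 := congrArg (fun v : (S : Subgroup (C x)) => ((v : C x) : G)) hm
    exact hno _ z.2 hzc m hm'
  have hz : IsPGroup r (Subgroup.zpowers y₀) := by
    obtain ⟨j, -, hj⟩ := (Nat.dvd_prime_pow hr).1 (orderOf_dvd_of_pow_eq_one hk₀)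
    exact IsPGroup.of_card (n := j) (by rw [Nat.card_zpowers, hj])
  have hT : IsPGroup r (S' ⊔ Subgroup.zpowers y₀ : Subgroup G) := by
    refine hS'.to_sup_of_normal_left' hz fun g _ => normalizer_of_conj_eq fun w hw => ?_
    rw [Subgroup.mem_center_iff.1 (hSc hw) g, mul_inv_cancel_right]; exact hw
  have hle : S' ⊔ Subgroup.zpowers y₀ ≤ C y₀ := by
    refine le_C_of_commute fun w hw => ?_
    exact Subgroup.mem_centralizer_singleton_iff.1 ((sup_le
      (hSc.trans (fun z hz => mem_C.2 (Subgroup.mem_center_iff.1 hz y₀).symm))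
      (Subgroup.zpowers_le.2 (mem_C.2 (Commute.refl y₀))) : _ ≤ C y₀) hw)
  obtain ⟨j, hj⟩ := IsPGroup.iff_card.1 hT
  have h1 : r ^ j ∣ Nat.card (C x) := by
    rw [hcard x y₀ hx ⟨PR.of_pow_prime_pow hp hr hrp hk₀, hy₀⟩, ← hj]
    exact Subgroup.card_dvd_of_le hle
  have h2 : r ^ j ≤ Nat.card S' := by
    rw [← Nat.card_congr ((S : Subgroup (C x)).equivMapOfInjective _ (C x).subtype_injective).toEquiv,
      Sylow.card_eq_multiplicity]
    exact Nat.pow_le_pow_right hr.pos ((hr.pow_dvd_iff_le_factorization Nat.card_pos.ne').1 h1)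
  rw [← hj] at h2
  have h3 := Subgroup.eq_of_le_of_card_ge (le_sup_left : S' ≤ S' ⊔ Subgroup.zpowers y₀) h2
  exact hy₀ (hSc (h3 ▸ Subgroup.mem_sup_right (Subgroup.mem_zpowers y₀)))

/-- With two relevant primes, `p`-regular elements are central in centralisers. -/
theorem Cfg.of_hcard (hp : p.Prime)
    (hcard : ∀ x y : G, Nc p x → Nc p y → Nat.card (C x) = Nat.card (C y))
    (two : ∀ l : ℕ, ∃ r, r ≠ l ∧ Rel p r G) : Cfg p G := by
  refine ⟨hp, hcard, ?_, two⟩
  -- coprime commuting elements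
  have keyA : ∀ x y : G, Nc p x → PR p y → Commute x y → (orderOf x).Coprime (orderOf y) →
      C x ≤ C y := by
    intro x y hx hy hco hcop
    have hxy : x ∈ Subgroup.zpowers (x * y) ∧ y ∈ Subgroup.zpowers (x * y) := by
      constructor
      · obtain ⟨m, hm⟩ := exists_pow_eq_self_of_coprime (x := x) hcop.symm
        have e : x ^ orderOf y = (x * y) ^ orderOf y := by
          rw [hco.mul_pow, pow_orderOf_eq_one y, mul_one]
        have h := pow_mem (pow_mem (Subgroup.mem_zpowers (x * y)) (orderOf y)) m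
        rw [← e, hm] at h
        exact h
      · obtain ⟨m, hm⟩ := exists_pow_eq_self_of_coprime (x := y) hcop
        have e : y ^ orderOf x = (x * y) ^ orderOf x := by
          rw [hco.mul_pow, pow_orderOf_eq_one x, one_mul]
        have h := pow_mem (pow_mem (Subgroup.mem_zpowers (x * y)) (orderOf x)) m
        rw [← e, hm] at h
        exact h
    have hle : ∀ z ∈ Subgroup.zpowers (x * y), C (x * y) ≤ C z := by
      intro z hz w hw
      obtain ⟨i, rfl⟩ := Subgroup.mem_zpowers_iff.1 hz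
      exact mem_C.2 ((mem_C.1 hw).zpow_right i)
    have hn : Nc p (x * y) := by
      refine ⟨PR.mul hx.1 hy hco, fun hc => hx.2 ?_⟩
      obtain ⟨i, hi⟩ := Subgroup.mem_zpowers_iff.1 hxy.1
      rw [← hi]; exact zpow_mem hc i
    have he := C_eq_of_le (hcard _ _ hn hx) (hle x hxy.1)
    rw [← he]; exact hle y hxy.2
  -- prime power elements
  have primary : ∀ (q : ℕ) (x y : G) (l k m : ℕ), q.Prime → q ≠ p → Nc p x → x ^ q ^ m = 1 →
      l.Prime → PR p y → orderOf y = l ^ k → y ∈ C x → C x ≤ C y := by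
    intro q x y l k m hq hqp hx hxm hl hy hyk hyC
    have hco := (mem_C.1 hyC).symm
    obtain ⟨i, -, hi⟩ := (Nat.dvd_prime_pow hq).1 (orderOf_dvd_of_pow_eq_one hxm)
    by_cases hlq : l = q
    · obtain ⟨r, hrq, hrel⟩ := two q
      obtain ⟨w, hw, hwc, j, hj⟩ := exists_relevant_mem hcard hp hrel hx
      have hwn : Nc p w := ⟨PR.of_pow_prime_pow hp hrel.1 hrel.2.1 hj, hwc⟩
      obtain ⟨j', -, hj'⟩ := (Nat.dvd_prime_pow hrel.1).1 (orderOf_dvd_of_pow_eq_one hj)
      have h1 : C x ≤ C w := keyA x w hx hwn.1 (mem_C.1 hw).symm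
        (by rw [hi, hj']; exact Nat.Coprime.pow _ _ ((Nat.coprime_primes hq hrel.1).2 hrq.symm))
      have h2 : C w ≤ C y := keyA w y hwn hy (mem_C.1 (h1 hyC)).symm
        (by rw [hj', hyk, hlq]; exact Nat.Coprime.pow _ _ ((Nat.coprime_primes hrel.1 hq).2 hrq))
      exact h1.trans h2
    · exact keyA x y hx hy hco
        (by rw [hi, hyk]; exact Nat.Coprime.pow _ _ ((Nat.coprime_primes hq hl).2 (Ne.symm hlq)))
  intro x y hx hy hyC
  -- a noncentral primary component
  have hnot : ¬ Subgroup.zpowers x ≤ Subgroup.center G := fun h => hx.2 (h (Subgroup.mem_zpowers x))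
  obtain ⟨x', hx', q, m, hq, hqm, hx'c⟩ : ∃ x' ∈ Subgroup.zpowers x, ∃ q m : ℕ, q.Prime ∧
      orderOf x' = q ^ m ∧ x' ∉ Subgroup.center G := by
    by_contra hno
    push Not at hno
    exact hnot (H79.FpfMod.le_of_primary fun z hz l k hl hlk => hno z hz l k hl hlk)
  have hx'n : Nc p x' := ⟨hx.1.pow hx', hx'c⟩
  have hqp : q ≠ p := by
    rintro rfl
    rcases Nat.eq_zero_or_pos m with rfl | hm
    · rw [pow_zero, orderOf_eq_one_iff] at hqm
      exact hx'c (hqm ▸ one_mem _)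
    · have h := hx'n.1
      unfold PR at h
      rw [hqm, Nat.coprime_pow_left_iff hm, Nat.coprime_self] at h
      exact hq.ne_one h
  have hle : C x ≤ C x' := fun w hw => by
    obtain ⟨i, rfl⟩ := Subgroup.mem_zpowers_iff.1 hx'
    exact mem_C.2 ((mem_C.1 hw).zpow_right i)
  have heq := C_eq_of_le (hcard _ _ hx hx'n) hle
  have hall : Subgroup.zpowers y ≤ Subgroup.centralizer (C x : Set G) := by
    refine H79.FpfMod.le_of_primary fun z hz l k hl hlk => ?_
    have hzC : z ∈ C x' := by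
      rw [← heq]
      obtain ⟨i, rfl⟩ := Subgroup.mem_zpowers_iff.1 hz
      exact zpow_mem hyC i
    have h1 := primary q x' z l k m hq hqp hx'n (by rw [← hqm]; exact pow_orderOf_eq_one x') hl
      (hy.pow hz) hlk hzC
    rw [← heq] at h1
    exact Subgroup.mem_centralizer_iff.2 fun w hw => mem_C.1 (h1 hw)
  intro w hw
  exact mem_C.2 (Subgroup.mem_centralizer_iff.1 (hall (Subgroup.mem_zpowers y)) w hw)

namespace Cfg

variable (cf : Cfg p G)
include cf

theorem C_eq {x y : G} (hx : Nc p x) (hy : Nc p y) (h : y ∈ C x) : C y = C x :=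
  (C_eq_of_le (cf.hcard x y hx hy) (cf.hcen x y hx hy.1 h)).symm

theorem commute_of_mem {x y w : G} (hx : Nc p x) (hy : PR p y) (hyC : y ∈ C x) (hw : w ∈ C x) :
    Commute w y := mem_C.1 (cf.hcen x y hx hy hyC hw)

/-- The `p`-regular part of a centraliser. -/
def H {x : G} (hx : Nc p x) : Subgroup G where
  carrier := {y | y ∈ C x ∧ PR p y}
  one_mem' := ⟨one_mem _, by show (orderOf (1 : G)).Coprime p; rw [orderOf_one]; exact Nat.coprime_one_left p⟩
  mul_mem' {a b} ha hb := ⟨mul_mem ha.1 hb.1, ha.2.mul hb.2 (cf.commute_of_mem hx hb.2 hb.1 ha.1)⟩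
  inv_mem' {a} ha := ⟨inv_mem ha.1, by show (orderOf a⁻¹).Coprime p; rw [orderOf_inv]; exact ha.2⟩

/-- The `r`-part of a centraliser. -/
def A {x : G} (hx : Nc p x) {r : ℕ} (hr : r.Prime) (hrp : r ≠ p) : Subgroup G where
  carrier := {y | y ∈ C x ∧ ∃ k, y ^ r ^ k = 1}
  one_mem' := ⟨one_mem _, 0, one_pow _⟩
  mul_mem' {a b} ha hb := by
    obtain ⟨i, hi⟩ := ha.2
    obtain ⟨j, hj⟩ := hb.2
    refine ⟨mul_mem ha.1 hb.1, i + j, ?_⟩
    rw [(cf.commute_of_mem hx (PR.of_pow_prime_pow cf.hp hr hrp hj) hb.1 ha.1).mul_pow, pow_add,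
      pow_mul, hi, one_pow, one_mul, mul_comm, pow_mul, hj, one_pow]
  inv_mem' {a} ha := by
    obtain ⟨i, hi⟩ := ha.2
    exact ⟨inv_mem ha.1, i, by rw [inv_pow, hi, inv_one]⟩

variable {x y : G} (hx : Nc p x) (hy : Nc p y) {r : ℕ} (hr : r.Prime) (hrp : r ≠ p)

theorem nc_of_mem_A {a : G} (ha : a ∈ cf.A hx hr hrp) (hac : a ∉ Subgroup.center G) : Nc p a :=
  ⟨PR.of_pow_prime_pow cf.hp hr hrp ha.2.choose_spec, hac⟩

theorem C_of_mem_A {a : G} (ha : a ∈ cf.A hx hr hrp) (hac : a ∉ Subgroup.center G) : C a = C x :=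
  cf.C_eq hx (cf.nc_of_mem_A hx hr hrp ha hac) ha.1

theorem A_isPGroup : IsPGroup r (cf.A hx hr hrp) := fun a => by
  obtain ⟨k, hk⟩ := a.2.2
  exact ⟨k, Subtype.ext (by rw [Subgroup.coe_pow, hk, Subgroup.coe_one])⟩

theorem card_A : Nat.card (cf.A hx hr hrp) = r ^ (Nat.card (C x)).factorization r := by
  haveI := Fact.mk hr
  obtain ⟨n, hn⟩ := IsPGroup.iff_card.1 (cf.A_isPGroup hx hr hrp)
  have hle : cf.A hx hr hrp ≤ C x := fun a ha => ha.1
  have h1 : r ^ n ∣ Nat.card (C x) := hn ▸ Subgroup.card_dvd_of_le hle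
  obtain ⟨S⟩ : Nonempty (Sylow r (C x)) := inferInstance
  have h2 : (S : Subgroup (C x)).map (C x).subtype ≤ cf.A hx hr hrp := by
    rintro _ ⟨z, hz, rfl⟩
    obtain ⟨m, hm⟩ := S.isPGroup' ⟨z, hz⟩
    exact ⟨z.2, m, congrArg (fun v : (S : Subgroup (C x)) => ((v : C x) : G)) hm⟩
  have h3 := Nat.le_of_dvd Nat.card_pos (Subgroup.card_dvd_of_le h2)
  rw [← Nat.card_congr ((S : Subgroup (C x)).equivMapOfInjective _ (C x).subtype_injective).toEquiv,
    Sylow.card_eq_multiplicity] at h3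
  refine le_antisymm ?_ h3
  rw [hn]
  exact Nat.pow_le_pow_right hr.pos ((hr.pow_dvd_iff_le_factorization Nat.card_pos.ne').1 h1)

theorem card_A_eq : Nat.card (cf.A hx hr hrp) = Nat.card (cf.A hy hr hrp) := by
  rw [cf.card_A hx hr hrp, cf.card_A hy hr hrp, cf.hcard x y hx hy]

theorem inf_center_eq : cf.A hx hr hrp ⊓ Subgroup.center G = cf.A hy hr hrp ⊓ Subgroup.center G := by
  have key : ∀ {u v : G} (hu : Nc p u) (hv : Nc p v),
      cf.A hu hr hrp ⊓ Subgroup.center G ≤ cf.A hv hr hrp ⊓ Subgroup.center G :=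
    fun {u v} hu hv a ha => ⟨⟨mem_C.2 (Subgroup.mem_center_iff.1 ha.2 v).symm, ha.1.2⟩, ha.2⟩
  exact le_antisymm (key hx hy) (key hy hx)

theorem exists_noncentral_A (hrel : Rel p r G) :
    ∃ a ∈ cf.A hx hr hrp, a ∉ Subgroup.center G := by
  obtain ⟨a, h1, h2, h3⟩ := exists_relevant_mem cf.hcard cf.hp hrel hx
  exact ⟨a, ⟨h1, h3⟩, h2⟩

theorem conj_A {g : G} (hg : C (g * x * g⁻¹) = C x) {a : G} (ha : a ∈ cf.A hx hr hrp) :
    g * a * g⁻¹ ∈ cf.A hx hr hrp := by
  obtain ⟨k, hk⟩ := ha.2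
  exact ⟨hg ▸ C_conj_mem.2 ha.1, k, by rw [conj_pow, hk, mul_one, mul_inv_cancel]⟩

/-- The part of a Sylow subgroup normalising a centraliser. -/
theorem sylow_inf {R : Sylow r G} (hRx : ∀ u ∈ (R : Subgroup G), C (u * x * u⁻¹) = C x) :
    (R : Subgroup G) ⊓ C x = cf.A hx hr hrp := by
  haveI := Fact.mk hr
  apply le_antisymm
  · intro a ha
    obtain ⟨k, hk⟩ := R.isPGroup' ⟨a, ha.1⟩
    exact ⟨ha.2, k, congrArg Subtype.val hk⟩
  · have h := (cf.A_isPGroup hx hr hrp).to_sup_of_normal_left' R.isPGroup'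
      (fun u hu => normalizer_of_conj_eq fun a ha => cf.conj_A hx hr hrp (hRx u hu) ha)
    have h2 := R.is_maximal' h le_sup_right
    intro a ha
    exact ⟨h2 ▸ Subgroup.mem_sup_left ha, ha.1⟩

omit hx in
/-- An element central modulo the centre in a Sylow subgroup. -/
theorem exists_sylow_step (hrel : Rel p r G) (R : Sylow r G) :
    ∃ (z : G) (hz : Nc p z), z ∈ (R : Subgroup G) ∧ z ∈ cf.A hz hr hrp ∧
      ∀ u ∈ (R : Subgroup G), C (u * z * u⁻¹) = C z := by
  haveI := Fact.mk hr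
  obtain ⟨-, -, y₀, hy₀, k, hk⟩ := hrel
  have hRc : ¬ (R : Subgroup G) ≤ Subgroup.center G := by
    intro h
    have hp0 : IsPGroup r (Subgroup.zpowers y₀) := by
      obtain ⟨j, -, hj⟩ := (Nat.dvd_prime_pow hr).1 (orderOf_dvd_of_pow_eq_one hk)
      exact IsPGroup.of_card (n := j) (by rw [Nat.card_zpowers, hj])
    obtain ⟨P, hP⟩ := hp0.exists_le_sylow
    obtain ⟨g, hg⟩ := MulAction.exists_smul_eq G P R
    apply hy₀
    rw [← center_conj_iff (g := g)]
    apply h
    rw [← hg, Sylow.coe_subgroup_smul]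
    exact Subgroup.smul_mem_pointwise_smul _ (MulAut.conj g) _ (hP (Subgroup.mem_zpowers _))
  haveI := R.isPGroup'.isNilpotent
  obtain ⟨z, -, hzc, hzu⟩ := CfsgLib.OddOrder41.exists_central_step (⊤ : Subgroup (R : Subgroup G))
    ((Subgroup.center G).subgroupOf (R : Subgroup G))
    (fun h => hRc fun u hu => h (Subgroup.mem_top ⟨u, hu⟩))
  obtain ⟨m, hm⟩ := R.isPGroup' z
  have hm' : (z : G) ^ r ^ m = 1 := congrArg Subtype.val hm
  have hzn : Nc p (z : G) := ⟨PR.of_pow_prime_pow cf.hp hr hrp hm', fun h => hzc h⟩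
  refine ⟨(z : G), hzn, z.2, ⟨mem_C.2 (Commute.refl _), m, hm'⟩, fun u hu => ?_⟩
  have h1 : ⁅(z : G), u⁆ ∈ Subgroup.center G := hzu ⟨u, hu⟩
  rw [show u * (z : G) * u⁻¹ = ⁅(z : G), u⁆⁻¹ * (z : G) by rw [commutatorElement_def]; group]
  exact C_mul_central (inv_mem h1)

omit hx in
/-- Large relevant primes: `|A|² > z g` fails for at most one prime. -/
theorem exists_good : ∃ (s : ℕ) (hs : s.Prime) (hsp : s ≠ p) (x : G) (hx : Nc p x) (S : Sylow s G),
    Rel p s G ∧ (∀ u ∈ (S : Subgroup G), C (u * x * u⁻¹) = C x) ∧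
      Nat.card (cf.A hx hs hsp ⊓ Subgroup.center G : Subgroup G) * Nat.card S <
        Nat.card (cf.A hx hs hsp) ^ 2 := by
  classical
  -- the orbit inequality
  have orbit : ∀ (r s : ℕ) (hr : r.Prime) (hrp : r ≠ p) (hs : s.Prime) (hsp : s ≠ p), r ≠ s →
      Rel p s G → ∀ (R : Sylow r G) (x : G) (hx : Nc p x),
      (∀ u ∈ (R : Subgroup G), C (u * x * u⁻¹) = C x) →
      Nat.card R * Nat.card (cf.A hx hs hsp ⊓ Subgroup.center G : Subgroup G) <
        Nat.card (cf.A hx hr hrp) * Nat.card (cf.A hx hs hsp) := by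
    intro r s hr hrp hs hsp hrs hrel R x hx hRx
    obtain ⟨v, hv, hvc⟩ := cf.exists_noncentral_A hx hs hsp hrel
    set Q := (R : Subgroup G) ⧸ (C x).subgroupOf (R : Subgroup G)
    let Φ : Q × (cf.A hx hs hsp ⊓ Subgroup.center G : Subgroup G) → cf.A hx hs hsp := fun qw =>
      ⟨((qw.1.out : (R : Subgroup G)) : G) * v * ((qw.1.out : (R : Subgroup G)) : G)⁻¹ * (qw.2 : G),
        mul_mem (cf.conj_A hx hs hsp (hRx _ (qw.1.out).2) hv) qw.2.2.1⟩
    have hinj : Function.Injective Φ := by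
      rintro ⟨q, w⟩ ⟨q', w'⟩ h
      have h0 : ((q.out : (R : Subgroup G)) : G) * v * ((q.out : (R : Subgroup G)) : G)⁻¹ * (w : G) =
          ((q'.out : (R : Subgroup G)) : G) * v * ((q'.out : (R : Subgroup G)) : G)⁻¹ * (w' : G) :=
        congrArg Subtype.val h
      set a := q.out
      set b := q'.out
      set d : (R : Subgroup G) := b⁻¹ * a with hd
      set c : G := (w' : G) * (w : G)⁻¹ with hc
      have hcc : c ∈ Subgroup.center G := mul_mem w'.2.2 (inv_mem w.2.2)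
      have hcA : c ∈ cf.A hx hs hsp := mul_mem w'.2.1 (inv_mem w.2.1)
      have hcw := Subgroup.mem_center_iff.1 hcc
      have hdv : (d : G) * v * (d : G)⁻¹ = v * c := by
        have h1 : (a : G) * v * (a : G)⁻¹ = (b : G) * v * (b : G)⁻¹ * c := by
          rw [hc, ← mul_assoc, ← h0, mul_inv_cancel_right]
        calc (d : G) * v * (d : G)⁻¹ = (b : G)⁻¹ * ((a : G) * v * (a : G)⁻¹) * (b : G) := by
              rw [hd, Subgroup.coe_mul, Subgroup.coe_inv]; group
          _ = (b : G)⁻¹ * ((b : G) * v * (b : G)⁻¹ * c) * (b : G) := by rw [h1]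
          _ = v * ((b : G)⁻¹ * c * (b : G)) := by group
          _ = v * c := by rw [hcw (b : G)⁻¹, inv_mul_cancel_right]
      have hpow : ∀ n : ℕ, (d : G) ^ n * v * ((d : G) ^ n)⁻¹ = v * c ^ n := by
        intro n
        induction n with
        | zero => simp
        | succ n ih =>
          rw [pow_succ' (d : G), show (d : G) * (d : G) ^ n * v * ((d : G) * (d : G) ^ n)⁻¹ =
            (d : G) * ((d : G) ^ n * v * ((d : G) ^ n)⁻¹) * (d : G)⁻¹ by group, ih, ← mul_assoc,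
            mul_assoc ((d : G) * v) (c ^ n), ← (show Commute (d : G)⁻¹ (c ^ n) from
              (Subgroup.mem_center_iff.1 (pow_mem hcc n) _)).eq, ← mul_assoc, hdv, mul_assoc, ← pow_succ']
      obtain ⟨m, hm⟩ := R.isPGroup' d
      have hm' : (d : G) ^ r ^ m = 1 := congrArg Subtype.val hm
      have h2 := hpow (r ^ m)
      rw [hm', one_mul, inv_one, mul_one, eq_comm, mul_eq_left] at h2
      obtain ⟨j, hj⟩ := hcA.2
      have h3 : orderOf c ∣ Nat.gcd (r ^ m) (s ^ j) :=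
        Nat.dvd_gcd (orderOf_dvd_of_pow_eq_one h2) (orderOf_dvd_of_pow_eq_one hj)
      rw [Nat.Coprime.gcd_eq_one (Nat.Coprime.pow m j ((Nat.coprime_primes hr hs).2 hrs)), Nat.dvd_one,
        orderOf_eq_one_iff] at h3
      rw [h3, mul_one, mul_inv_eq_iff_eq_mul] at hdv
      have hdC : (d : G) ∈ C x := cf.C_of_mem_A hx hs hsp hv hvc ▸ mem_C.2 hdv
      have hq : q = q' := by
        rw [← QuotientGroup.out_eq' q, ← QuotientGroup.out_eq' q']
        exact (QuotientGroup.eq.2 (show b⁻¹ * a ∈ (C x).subgroupOf (R : Subgroup G) from hdC)).symm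
      refine Prod.ext hq (Subtype.ext ?_)
      exact (mul_inv_eq_one.1 (hc ▸ h3)).symm
    have hns : ¬ Function.Surjective Φ := by
      intro h
      obtain ⟨qw, hqw⟩ := h 1
      have h1 : ((qw.1.out : (R : Subgroup G)) : G) * v * ((qw.1.out : (R : Subgroup G)) : G)⁻¹ *
          (qw.2 : G) = 1 := congrArg Subtype.val hqw
      apply hvc
      rw [← center_conj_iff (g := ((qw.1.out : (R : Subgroup G)) : G)), eq_inv_of_mul_eq_one_left h1]
      exact inv_mem qw.2.2.2
    have h1 : Nat.card (Q × (cf.A hx hs hsp ⊓ Subgroup.center G : Subgroup G)) <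
        Nat.card (cf.A hx hs hsp) := by
      refine lt_of_le_of_ne (Nat.card_le_card_of_injective Φ hinj) fun e => hns ?_
      exact ((Nat.bijective_iff_injective_and_card Φ).2 ⟨hinj, e⟩).2
    rw [Nat.card_prod] at h1
    have h2 : Nat.card R = Nat.card Q * Nat.card (cf.A hx hr hrp) := by
      rw [Subgroup.card_eq_card_quotient_mul_card_subgroup ((C x).subgroupOf (R : Subgroup G)),
        ← cf.sylow_inf hx hr hrp hRx]
      congr 1
      rw [Nat.card_congr (Subgroup.equivMapOfInjective ((C x).subgroupOf (R : Subgroup G))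
        (R : Subgroup G).subtype (R : Subgroup G).subtype_injective).toEquiv,
        Subgroup.subgroupOf_map_subtype, inf_comm]
    rw [h2, mul_comm (Nat.card Q), mul_assoc]
    exact Nat.mul_lt_mul_of_pos_left h1 Nat.card_pos
  obtain ⟨r, -, hrel⟩ := cf.two 0
  obtain ⟨s, hsr, hsrel⟩ := cf.two r
  obtain ⟨R⟩ : Nonempty (Sylow r G) := inferInstance
  obtain ⟨S⟩ : Nonempty (Sylow s G) := inferInstance
  obtain ⟨a, ha, -, -, haR⟩ := cf.exists_sylow_step hrel.1 hrel.2.1 hrel R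
  obtain ⟨b, hb, -, -, hbS⟩ := cf.exists_sylow_step hsrel.1 hsrel.2.1 hsrel S
  by_contra hno
  push Not at hno
  have h1 := hno r hrel.1 hrel.2.1 a ha R hrel haR
  have h2 := hno s hsrel.1 hsrel.2.1 b hb S hsrel hbS
  have h3 := orbit r s hrel.1 hrel.2.1 hsrel.1 hsrel.2.1 hsr.symm hsrel R a ha haR
  have h4 := orbit s r hsrel.1 hsrel.2.1 hrel.1 hrel.2.1 hsr hrel S b hb hbS
  rw [cf.card_A_eq hb ha hsrel.1 hsrel.2.1, cf.inf_center_eq hb ha hsrel.1 hsrel.2.1] at h2
  rw [cf.card_A_eq hb ha hsrel.1 hsrel.2.1, cf.card_A_eq hb ha hrel.1 hrel.2.1,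
    cf.inf_center_eq hb ha hrel.1 hrel.2.1] at h4
  nlinarith [Nat.mul_lt_mul_of_lt_of_lt h3 h4, Nat.mul_le_mul h1 h2]

omit hx in
/-- A single class of centralisers, whose normaliser contains a Sylow subgroup for every `r ≠ p`. -/
theorem exists_single : ∃ (x : G) (_ : Nc p x), (∀ y, Nc p y → ∃ g, C (g * y * g⁻¹) = C x) ∧
    ∀ r : ℕ, r.Prime → r ≠ p → ∃ R : Sylow r G, ∀ u ∈ (R : Subgroup G), C (u * x * u⁻¹) = C x := by
  classical
  obtain ⟨s, hs, hsp, x, hx, S, hsrel, hSx, hlt⟩ := cf.exists_good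
  haveI := Fact.mk hs
  have hall : ∀ y, Nc p y → ∃ g, C (g * y * g⁻¹) = C x := by
    intro y hy
    obtain ⟨w, hw, hwc⟩ := cf.exists_noncentral_A hy hs hsp hsrel
    obtain ⟨P, hP⟩ := (cf.A_isPGroup hy hs hsp).exists_le_sylow
    obtain ⟨g, hg⟩ := MulAction.exists_smul_eq G P S
    refine ⟨g, ?_⟩
    have hy' : Nc p (g * y * g⁻¹) := hy.conj g
    have hBS : cf.A hy' hs hsp ≤ (S : Subgroup G) := by
      intro b hb
      obtain ⟨k, hk⟩ := hb.2
      have hb' : g⁻¹ * b * g ∈ cf.A hy hs hsp := by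
        refine ⟨?_, k, ?_⟩
        · have h1 : g * (g⁻¹ * b * g) * g⁻¹ ∈ C (g * y * g⁻¹) := by simpa [mul_assoc] using hb.1
          exact C_conj_mem.1 h1
        · rw [show g⁻¹ * b * g = g⁻¹ * b * g⁻¹⁻¹ by rw [inv_inv], conj_pow, hk, mul_one,
            mul_inv_cancel]
      rw [← hg, Sylow.coe_subgroup_smul]
      have h2 := Subgroup.smul_mem_pointwise_smul _ (MulAut.conj g) _ (hP hb')
      have e : MulAut.conj g • (g⁻¹ * b * g) = b := by
        show g * (g⁻¹ * b * g) * g⁻¹ = b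
        group
      rwa [e] at h2
    have hAS : cf.A hx hs hsp ≤ (S : Subgroup G) := cf.sylow_inf hx hs hsp hSx ▸ inf_le_left
    obtain ⟨c, hc1, hc2⟩ : ∃ c ∈ cf.A hx hs hsp ⊓ cf.A hy' hs hsp, c ∉ Subgroup.center G := by
      by_contra hno
      push Not at hno
      set A₁ := cf.A hx hs hsp
      set B₁ := cf.A hy' hs hsp
      let Φ : (A₁ ⧸ B₁.subgroupOf A₁) × B₁ → (S : Subgroup G) := fun qb =>
        ⟨((qb.1.out : A₁) : G) * (qb.2 : G), mul_mem (hAS (qb.1.out).2) (hBS qb.2.2)⟩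
      have hinj : Function.Injective Φ := by
        rintro ⟨q, b⟩ ⟨q', b'⟩ h
        have h0 : ((q.out : A₁) : G) * (b : G) = ((q'.out : A₁) : G) * (b' : G) :=
          congrArg Subtype.val h
        have hm : ((q.out : A₁) : G)⁻¹ * ((q'.out : A₁) : G) = (b : G) * (b' : G)⁻¹ := by
          rw [inv_mul_eq_iff_eq_mul, ← mul_assoc, h0, mul_inv_cancel_right]
        have hq : q = q' := by
          rw [← QuotientGroup.out_eq' q, ← QuotientGroup.out_eq' q']
          refine QuotientGroup.eq.2 ?_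
          rw [Subgroup.mem_subgroupOf, Subgroup.coe_mul, Subgroup.coe_inv, hm]
          exact mul_mem b.2 (inv_mem b'.2)
        subst hq
        exact Prod.ext rfl (Subtype.ext (mul_left_cancel h0))
      have h1 := Nat.card_le_card_of_injective Φ hinj
      rw [Nat.card_prod] at h1
      have h2 := Subgroup.card_eq_card_quotient_mul_card_subgroup (B₁.subgroupOf A₁)
      have h3 : Nat.card (B₁.subgroupOf A₁) ≤ Nat.card (A₁ ⊓ Subgroup.center G : Subgroup G) := by
        rw [Nat.card_congr (Subgroup.equivMapOfInjective _ A₁.subtype A₁.subtype_injective).toEquiv,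
          Subgroup.subgroupOf_map_subtype, inf_comm]
        exact Nat.le_of_dvd Nat.card_pos (Subgroup.card_dvd_of_le fun c hc => ⟨hc.1, hno c hc⟩)
      rw [← cf.card_A_eq hx hy' hs hsp] at h1
      have h4 : Nat.card A₁ ^ 2 ≤ Nat.card (A₁ ⊓ Subgroup.center G : Subgroup G) * Nat.card S := by
        rw [sq]
        calc Nat.card A₁ * Nat.card A₁
            = Nat.card (B₁.subgroupOf A₁) * (Nat.card (A₁ ⧸ B₁.subgroupOf A₁) * Nat.card A₁) := by
              conv_lhs => arg 1; rw [h2]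
              ring
          _ ≤ _ := Nat.mul_le_mul h3 h1
      omega
    rw [← cf.C_of_mem_A hx hs hsp hc1.1 hc2, cf.C_of_mem_A hy' hs hsp hc1.2 hc2]
  refine ⟨x, hx, hall, fun r hr hrp => ?_⟩
  haveI := Fact.mk hr
  obtain ⟨R⟩ : Nonempty (Sylow r G) := inferInstance
  by_cases hrel : Rel p r G
  · obtain ⟨y, hy, -, -, hRy⟩ := cf.exists_sylow_step hr hrp hrel R
    obtain ⟨g, hg⟩ := hall y hy
    refine ⟨g • R, fun u hu => ?_⟩
    rw [Sylow.coe_subgroup_smul] at hu
    obtain ⟨v, hv, rfl⟩ := hu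
    show C (g * v * g⁻¹ * x * (g * v * g⁻¹)⁻¹) = C x
    have h2 := hRy v hv
    have move : ∀ {a b : G}, C a = C b → ∀ t, C (t * a * t⁻¹) = C (t * b * t⁻¹) := by
      intro a b h t
      ext w
      have e1 : w = t * (t⁻¹ * w * t) * t⁻¹ := by group
      rw [e1, C_conj_mem, C_conj_mem, h]
    rw [← move hg (g * v * g⁻¹),
      show g * v * g⁻¹ * (g * y * g⁻¹) * (g * v * g⁻¹)⁻¹ = g * (v * y * v⁻¹) * g⁻¹ by group,
      move h2 g, hg]
  · refine ⟨R, fun u hu => ?_⟩
    have huc : u ∈ Subgroup.center G := by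
      by_contra h
      obtain ⟨k, hk⟩ := R.isPGroup' ⟨u, hu⟩
      exact hrel ⟨hr, hrp, u, h, k, congrArg Subtype.val hk⟩
    rw [← Subgroup.mem_center_iff.1 huc x, mul_inv_cancel_right]

end Cfg

end H79.TwoClass
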