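import Cfsg.Agent.H79TwoClass

/-! Two sizes of `p`-regular classes with two relevant primes: the `p`-complement is abelian. -/

set_option autoImplicit false

namespace H79.TwoClass

open scoped commutatorElement

variable {G : Type*} [Group G] [Finite G] {p : ℕ}

/-- The hypotheses after the class of centralisers has been shown to be unique. -/
structure Single (p : ℕ) (G : Type*) [Group G] (x : G) : Prop where
  cf : Cfg p G
  hx : Nc p x
  all : ∀ y, Nc p y → ∃ g, C (g * y * g⁻¹) = C x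
  sylow : ∀ r : ℕ, r.Prime → r ≠ p → ∃ R : Sylow r G, ∀ u ∈ (R : Subgroup G), C (u * x * u⁻¹) = C x

namespace Single

variable {x : G} (sg : Single p G x)
include sg

theorem conj_mem_C {u : G} (hu : C (u * x * u⁻¹) = C x) {y : G} (hy : y ∈ C x) :
    u * y * u⁻¹ ∈ C x := hu ▸ C_conj_mem.2 hy

theorem exists_other (r : ℕ) :
    ∃ (t : ℕ) (ht : t.Prime) (htp : t ≠ p), t ≠ r ∧ ∃ v ∈ sg.cf.A sg.hx ht htp, v ∉ Subgroup.center G := by
  obtain ⟨t, htr, hrel⟩ := sg.cf.two r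
  exact ⟨t, hrel.1, hrel.2.1, htr, sg.cf.exists_noncentral_A sg.hx hrel.1 hrel.2.1 hrel⟩

/-- No solvable normal subgroup contains noncentral `p`-regular elements while some Sylow subgroup
escapes the centraliser. -/
theorem not_solvable_normal (K : Subgroup G) [K.Normal] (hK : Group.IsSolvable K) {k : G}
    (hk : k ∈ K) (hkn : Nc p k) {r : ℕ} (hr : r.Prime) (hrp : r ≠ p) (R : Sylow r G)
    (hRx : ∀ u ∈ (R : Subgroup G), C (u * x * u⁻¹) = C x) {u₀ : G} (hu₀ : u₀ ∈ (R : Subgroup G))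
    (hu₀x : u₀ ∉ C x) : False := by
  classical
  haveI := Fact.mk hr
  -- a maximal normal subgroup of `K` without noncentral regular elements
  obtain ⟨J, ⟨hJn, hJK, hJc⟩, hmax⟩ := Set.Finite.exists_maximal
    (s := {J : Subgroup G | J.Normal ∧ J ≤ K ∧ ∀ j ∈ J, PR p j → j ∈ Subgroup.center G}) (Set.toFinite _)
    ⟨⊥, inferInstance, bot_le, fun j hj _ => by rw [Subgroup.mem_bot.1 hj]; exact one_mem _⟩
  haveI := hJn
  set q := QuotientGroup.mk' J with hq
  haveI : (K.map q).Normal := Subgroup.Normal.map inferInstance q (QuotientGroup.mk'_surjective J)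
  have hKb : K.map q ≠ ⊥ := by
    intro h
    rw [Subgroup.map_eq_bot_iff, hq, QuotientGroup.ker_mk'] at h
    exact hkn.2 (hJc k (h hk) hkn.1)
  obtain ⟨Tb, ⟨hTn, hTK, hT1⟩, hTmin⟩ := Set.Finite.exists_minimal
    (s := {T : Subgroup (G ⧸ J) | T.Normal ∧ T ≤ K.map q ∧ T ≠ ⊥}) (Set.toFinite _)
    ⟨K.map q, inferInstance, le_rfl, hKb⟩
  haveI := hTn
  have hTs : Group.IsSolvable Tb := by
    haveI := hK
    haveI : Group.IsSolvable (K.map q) :=
      Group.isSolvable_of_surjective (f := q.subgroupMap K) (MonoidHom.subgroupMap_surjective q K)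
    exact Group.isSolvable_of_isSolvable_injective (Subgroup.inclusion_injective hTK)
  have hTab : ⁅Tb, Tb⁆ = ⊥ := by
    by_contra hne
    have hle : ⁅Tb, Tb⁆ ≤ Tb := Subgroup.commutator_le_left Tb Tb
    have heq : ⁅Tb, Tb⁆ = Tb :=
      le_antisymm hle (hTmin ⟨inferInstance, hle.trans hTK, hne⟩ hle)
    haveI : Nontrivial Tb := Tb.nontrivial_iff_ne_bot.2 hT1
    haveI := hTs
    have hlt := IsSolvable.commutator_lt_top_of_nontrivial (G := Tb)
    refine hlt.ne (Subgroup.map_injective Tb.subtype_injective ?_)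
    rw [Subgroup.map_subtype_commutator, heq, ← MonoidHom.range_eq_map, Subgroup.range_subtype]
  have hTcomm : ∀ a ∈ Tb, ∀ b ∈ Tb, a * b = b * a := fun a ha b hb => by
    have := Subgroup.commutator_mem_commutator ha hb
    rw [hTab, Subgroup.mem_bot] at this
    exact commutatorElement_eq_one_iff_mul_comm.1 this
  haveI : Nontrivial Tb := Tb.nontrivial_iff_ne_bot.2 hT1
  obtain ⟨s, hs, hsT⟩ := Nat.exists_prime_and_dvd (Finite.one_lt_card (α := Tb)).ne'
  haveI := Fact.mk hs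
  have hexp : ∀ a ∈ Tb, a ^ s = 1 := by
    let B : Subgroup (G ⧸ J) :=
      { carrier := {a | a ∈ Tb ∧ a ^ s = 1}
        one_mem' := ⟨one_mem _, one_pow _⟩
        mul_mem' := fun {a b} ha hb => ⟨mul_mem ha.1 hb.1, by
          rw [(show Commute a b from hTcomm a ha.1 b hb.1).mul_pow, ha.2, hb.2, one_mul]⟩
        inv_mem' := fun {a} ha => ⟨inv_mem ha.1, by rw [inv_pow, ha.2, inv_one]⟩ }
    have hBn : B.Normal := ⟨fun a ha g =>
      ⟨hTn.conj_mem a ha.1 g, by rw [conj_pow, ha.2, mul_one, mul_inv_cancel]⟩⟩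
    have hB1 : B ≠ ⊥ := by
      obtain ⟨a, ha⟩ := exists_prime_orderOf_dvd_card' (G := Tb) s hsT
      intro h
      have hmem : (a : G ⧸ J) ∈ B := by
        refine ⟨a.2, ?_⟩
        rw [← Subgroup.coe_pow, ← ha, pow_orderOf_eq_one, Subgroup.coe_one]
      rw [h, Subgroup.mem_bot] at hmem
      rw [show a = 1 from Subtype.ext hmem, orderOf_one] at ha
      exact hs.ne_one ha.symm
    have hle : B ≤ Tb := fun a ha => ha.1
    intro a ha
    exact (hTmin ⟨hBn, hle.trans hTK, hB1⟩ hle ha).2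
  set T := Tb.comap q with hT
  haveI : T.Normal := Subgroup.Normal.comap hTn q
  have hJT : J ≤ T := fun j hj => by
    rw [hT, Subgroup.mem_comap, show q j = 1 from (QuotientGroup.eq_one_iff j).2 hj]; exact one_mem _
  have hTK' : T ≤ K := fun t ht => by
    obtain ⟨t', ht', he⟩ := hTK ht
    simpa using K.mul_mem ht' (hJK (QuotientGroup.eq.1 he))
  have hTbad : ∃ t ∈ T, PR p t ∧ t ∉ Subgroup.center G := by
    by_contra hno
    push Not at hno
    have hle := hmax ⟨inferInstance, hTK', hno⟩ hJT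
    apply hT1
    rw [eq_bot_iff]
    intro a ha
    obtain ⟨t, rfl⟩ := QuotientGroup.mk'_surjective J a
    exact Subgroup.mem_bot.2 ((QuotientGroup.eq_one_iff t).2 (hle ha))
  -- a coprime element of `T` lies in `J`
  have hcopJ : ∀ t ∈ T, (orderOf t).Coprime s → t ∈ J := by
    intro t ht hc
    have h1 : orderOf (q t) ∣ Nat.gcd (orderOf t) s :=
      Nat.dvd_gcd (orderOf_map_dvd q t) (orderOf_dvd_of_pow_eq_one (hexp _ ht))
    rw [hc.gcd_eq_one, Nat.dvd_one, orderOf_eq_one_iff] at h1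
    exact (QuotientGroup.eq_one_iff t).1 h1
  obtain ⟨t₀, ht₀, ht₀p, ht₀c⟩ := hTbad
  have hsp : s ≠ p := by
    intro h
    exact ht₀c (hJc t₀ (hcopJ t₀ ht₀ (h ▸ ht₀p)) ht₀p)
  -- a noncentral `s`-element of `T`
  obtain ⟨y, hyT, hyc, hys⟩ : ∃ y ∈ T, y ∉ Subgroup.center G ∧ ∃ m, y ^ s ^ m = 1 := by
    by_contra hno
    push Not at hno
    apply ht₀c
    refine H79.FpfMod.le_of_primary (B := Subgroup.zpowers t₀) (fun z hz l m hl hlm => ?_)
      (Subgroup.mem_zpowers t₀)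
    have hzT : z ∈ T := by
      obtain ⟨i, rfl⟩ := Subgroup.mem_zpowers_iff.1 hz
      exact zpow_mem ht₀ i
    by_cases hls : l = s
    · by_contra hc
      exact hno z hzT hc m (by rw [← hls, ← hlm]; exact pow_orderOf_eq_one z)
    · exact hJc z (hcopJ z hzT (hlm ▸ ((Nat.coprime_primes hl hs).2 hls).pow_left m)) (ht₀p.pow hz)
  have hrel : Rel p s G := ⟨hs, hsp, y, hyc, hys⟩
  obtain ⟨S, hSx⟩ := sg.sylow s hs hsp
  have hT1C : ∀ z ∈ T, z ∈ (S : Subgroup G) → z ∈ C x := by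
    intro z hzT hzS
    obtain ⟨t, ht, htp, hts, v, hv, hvc⟩ := sg.exists_other s
    have hzx := hSx z hzS
    set w := z * v * z⁻¹ * v⁻¹ with hw
    have hwT : w ∈ T := by
      rw [hw, show z * v * z⁻¹ * v⁻¹ = z * (v * z⁻¹ * v⁻¹) by group]
      exact mul_mem hzT (Subgroup.Normal.conj_mem inferInstance _ (inv_mem hzT) v)
    have hwA : w ∈ sg.cf.A sg.hx ht htp :=
      mul_mem (sg.cf.conj_A sg.hx ht htp hzx hv) (inv_mem hv)
    obtain ⟨m, hm⟩ := hwA.2
    obtain ⟨i, -, hi⟩ := (Nat.dvd_prime_pow ht).1 (orderOf_dvd_of_pow_eq_one hm)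
    have hwc : w ∈ Subgroup.center G :=
      hJc w (hcopJ w hwT (by rw [hi]; exact ((Nat.coprime_primes ht hs).2 hts).pow_left i))
        (PR.of_pow_prime_pow sg.cf.hp ht htp hm)
    have hzv : z * v * z⁻¹ = w * v := (inv_mul_cancel_right _ _).symm
    have hpow : ∀ n : ℕ, z ^ n * v * (z ^ n)⁻¹ = w ^ n * v := by
      intro n
      induction n with
      | zero => simp
      | succ n ih =>
        calc z ^ (n + 1) * v * (z ^ (n + 1))⁻¹ = z * (z ^ n * v * (z ^ n)⁻¹) * z⁻¹ := by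
              rw [pow_succ']; group
          _ = z * (w ^ n * v) * z⁻¹ := by rw [ih]
          _ = z * w ^ n * v * z⁻¹ := by group
          _ = w ^ n * z * v * z⁻¹ := by rw [Subgroup.mem_center_iff.1 (pow_mem hwc n) z]
          _ = w ^ n * (z * v * z⁻¹) := by group
          _ = w ^ (n + 1) * v := by rw [hzv, ← mul_assoc, ← pow_succ]
    obtain ⟨e, he⟩ := S.isPGroup' ⟨z, hzS⟩
    have he' : z ^ s ^ e = 1 := congrArg Subtype.val he
    have h2 := hpow (s ^ e)
    rw [he', one_mul, inv_one, mul_one, eq_comm, mul_eq_right] at h2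
    have h3 : orderOf w ∣ Nat.gcd (s ^ e) (t ^ i) :=
      Nat.dvd_gcd (orderOf_dvd_of_pow_eq_one h2) (hi ▸ dvd_rfl)
    rw [Nat.Coprime.gcd_eq_one (Nat.Coprime.pow e i ((Nat.coprime_primes hs ht).2 hts.symm)), Nat.dvd_one,
      orderOf_eq_one_iff] at h3
    rw [h3, one_mul, mul_inv_eq_iff_eq_mul] at hzv
    exact sg.cf.C_of_mem_A sg.hx ht htp hv hvc ▸ mem_C.2 hzv
  -- Frattini
  obtain ⟨P⟩ : Nonempty (Sylow s T) := inferInstance
  obtain ⟨P', hP'⟩ := (P.isPGroup'.map T.subtype).exists_le_sylow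
  obtain ⟨g, hg⟩ := MulAction.exists_smul_eq G P' S
  have hST : IsPGroup s (((S : Subgroup G) ⊓ T).subgroupOf T) :=
    (S.isPGroup'.to_le inf_le_left).comap_of_injective _ T.subtype_injective
  obtain ⟨Q, hQ⟩ : ∃ Q : Sylow s T, (Q : Subgroup T) = ((S : Subgroup G) ⊓ T).subgroupOf T := by
    refine ⟨Sylow.ofCard _ (le_antisymm ?_ ?_), rfl⟩
    · obtain ⟨n, hn⟩ := IsPGroup.iff_card.1 hST
      have h1 := Subgroup.card_subgroup_dvd_card (((S : Subgroup G) ⊓ T).subgroupOf T)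
      rw [hn] at h1
      exact hn.trans_le
        (Nat.pow_le_pow_right hs.pos ((hs.pow_dvd_iff_le_factorization Nat.card_pos.ne').1 h1))
    · rw [← Sylow.card_eq_multiplicity P]
      refine Nat.card_le_card_of_injective (fun a =>
        (⟨⟨g * ((a : T) : G) * g⁻¹, Subgroup.Normal.conj_mem inferInstance _ (a : T).2 g⟩, ?_⟩ :
          (((S : Subgroup G) ⊓ T).subgroupOf T : Subgroup T))) ?_
      · refine ⟨?_, Subgroup.Normal.conj_mem inferInstance _ (a : T).2 g⟩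
        rw [← hg, Sylow.coe_subgroup_smul]
        exact Subgroup.smul_mem_pointwise_smul _ (MulAut.conj g) _ (hP' ⟨(a : T), a.2, rfl⟩)
      · intro a b hab
        have h1 := congrArg (fun v : (((S : Subgroup G) ⊓ T).subgroupOf T : Subgroup T) => ((v : T) : G)) hab
        exact Subtype.ext (Subtype.ext (mul_left_cancel (mul_right_cancel h1)))
  have hQmap : (Q : Subgroup T).map T.subtype = (S : Subgroup G) ⊓ T := by
    rw [hQ, Subgroup.subgroupOf_map_subtype, inf_eq_left.2 inf_le_right]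
  obtain ⟨z, hz, hzc⟩ : ∃ z ∈ (S : Subgroup G) ⊓ T, z ∉ Subgroup.center G := by
    obtain ⟨m, hm⟩ := hys
    have hp0 : IsPGroup s (Subgroup.zpowers (⟨y, hyT⟩ : T)) := by
      have h1 : (⟨y, hyT⟩ : T) ^ s ^ m = 1 := Subtype.ext hm
      obtain ⟨j, -, hj⟩ := (Nat.dvd_prime_pow hs).1 (orderOf_dvd_of_pow_eq_one h1)
      exact IsPGroup.of_card (n := j) (by rw [Nat.card_zpowers, hj])
    obtain ⟨P₁, hP₁⟩ := hp0.exists_le_sylow
    obtain ⟨t, ht⟩ := MulAction.exists_smul_eq T P₁ Q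
    refine ⟨(t : G) * y * (t : G)⁻¹, ?_, fun h => hyc (center_conj_iff.1 h)⟩
    rw [← hQmap]
    refine ⟨t * ⟨y, hyT⟩ * t⁻¹, ?_, rfl⟩
    rw [← ht, Sylow.coe_subgroup_smul]
    exact Subgroup.smul_mem_pointwise_smul _ (MulAut.conj t) _ (hP₁ (Subgroup.mem_zpowers _))
  have hzA : ∀ {z : G}, z ∈ (S : Subgroup G) ⊓ T → z ∈ sg.cf.A sg.hx hs hsp := fun {z} h => by
    obtain ⟨e, he⟩ := S.isPGroup' ⟨z, h.1⟩
    exact ⟨hT1C z h.2 h.1, e, congrArg Subtype.val he⟩
  have hfix : ∀ n ∈ Subgroup.normalizer (((S : Subgroup G) ⊓ T : Subgroup G) : Set G),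
      C (n * x * n⁻¹) = C x := by
    intro n hn
    have h1 := sg.cf.C_of_mem_A sg.hx hs hsp (hzA hz) hzc
    have hz' := (Subgroup.mem_normalizer_iff.1 hn z).1 hz
    have h2 := sg.cf.C_of_mem_A sg.hx hs hsp (hzA hz') (fun h => hzc (center_conj_iff.1 h))
    ext w
    have e1 : w = n * (n⁻¹ * w * n) * n⁻¹ := by group
    rw [e1, C_conj_mem, ← h1, ← C_conj_mem (g := n), ← e1, h2, h1]
  have hfr : Subgroup.normalizer ((((S : Subgroup G) ⊓ T : Subgroup G)) : Set G) ⊔ T = ⊤ := by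
    rw [← hQmap]; exact Sylow.normalizer_sup_eq_top Q
  have hdecomp : ∀ g : G, ∃ n j, C (n * x * n⁻¹) = C x ∧ j ∈ J ∧ g = n * j := by
    intro g
    obtain ⟨n, hn, t, ht, hnt⟩ := Subgroup.mem_sup_of_normal_right.1 (hfr.symm ▸ Subgroup.mem_top g)
    -- `T = (S ⊓ T) J`
    have hcl : T ≤ ((S : Subgroup G) ⊓ T) ⊔ J := by
      refine H79.FpfMod.le_of_primary fun w hw l m hl hlm => ?_
      by_cases hls : l = s
      · subst hls
        have h1 : (⟨w, hw⟩ : T) ^ l ^ m = 1 := Subtype.ext (hlm ▸ pow_orderOf_eq_one w)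
        obtain ⟨j, -, hj⟩ := (Nat.dvd_prime_pow hl).1 (orderOf_dvd_of_pow_eq_one h1)
        obtain ⟨P₁, hP₁⟩ :=
          (IsPGroup.of_card (n := j) (by rw [Nat.card_zpowers, hj]) :
            IsPGroup l (Subgroup.zpowers (⟨w, hw⟩ : T))).exists_le_sylow
        obtain ⟨a, ha⟩ := MulAction.exists_smul_eq T P₁ Q
        have h2 : (a : G) * w * (a : G)⁻¹ ∈ (S : Subgroup G) ⊓ T := by
          rw [← hQmap]
          refine ⟨a * ⟨w, hw⟩ * a⁻¹, ?_, rfl⟩
          rw [← ha, Sylow.coe_subgroup_smul]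
          exact Subgroup.smul_mem_pointwise_smul _ (MulAut.conj a) _ (hP₁ (Subgroup.mem_zpowers _))
        -- conjugation in `T` is trivial modulo `J`
        have h3 : ((a : G) * w * (a : G)⁻¹)⁻¹ * w ∈ J := by
          apply QuotientGroup.eq.1
          show q ((a : G) * w * (a : G)⁻¹) = q w
          rw [map_mul, map_mul, hTcomm _ a.2 _ hw, map_inv, mul_inv_cancel_right]
        have h4 := mul_mem (Subgroup.mem_sup_left h2) (Subgroup.mem_sup_right h3 :
          _ ∈ ((S : Subgroup G) ⊓ T) ⊔ J)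
        rwa [mul_inv_cancel_left] at h4
      · exact Subgroup.mem_sup_right
          (hcopJ w hw (hlm ▸ ((Nat.coprime_primes hl hs).2 hls).pow_left m))
    obtain ⟨a, ha, j, hj, haj⟩ := Subgroup.mem_sup_of_normal_right.1 (hcl ht)
    exact ⟨n * a, j, hfix _ (mul_mem hn (Subgroup.le_normalizer ha)), hj,
      by rw [mul_assoc, haj, hnt]⟩
  -- `u₀` lies in a conjugate of `C x` by an element of `J`
  obtain ⟨e₀, he₀⟩ := R.isPGroup' ⟨u₀, hu₀⟩
  have hu₀n : Nc p u₀ := ⟨PR.of_pow_prime_pow sg.cf.hp hr hrp (congrArg Subtype.val he₀ : u₀ ^ r ^ e₀ = 1),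
    fun h => hu₀x (mem_C.2 (Subgroup.mem_center_iff.1 h x).symm)⟩
  obtain ⟨g₀, hg₀⟩ := sg.all u₀ hu₀n
  obtain ⟨n, j, hn, hj, rfl⟩ := hdecomp g₀
  set u' := j * u₀ * j⁻¹ with hu'
  have hu'C : u' ∈ C x := by
    have h1 : n * u' * n⁻¹ ∈ C (n * x * n⁻¹) := by
      rw [hn, ← hg₀, hu', show n * (j * u₀ * j⁻¹) * n⁻¹ = n * j * u₀ * (n * j)⁻¹ by group]
      exact mem_C.2 (Commute.refl _)
    exact C_conj_mem.1 h1
  set e := u' * u₀⁻¹ with he
  have heJ : e ∈ J := by
    rw [he, hu', show j * u₀ * j⁻¹ * u₀⁻¹ = j * (u₀ * j⁻¹ * u₀⁻¹) by group]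
    exact mul_mem hj (hJn.conj_mem _ (inv_mem hj) u₀)
  have hu₀inv : C (u₀⁻¹ * x * u₀⁻¹⁻¹) = C x := hRx _ (inv_mem hu₀)
  have heN : ∀ y ∈ C x, e * y * e⁻¹ ∈ C x := fun y hy => by
    have h1 := sg.conj_mem_C hu₀inv hy
    have h2 := mul_mem (mul_mem hu'C h1) (inv_mem hu'C)
    rwa [he, show u' * u₀⁻¹ * y * (u' * u₀⁻¹)⁻¹ = u' * (u₀⁻¹ * y * u₀⁻¹⁻¹) * u'⁻¹ by group]
  have heC : e ∈ C x := by
    refine H79.FpfMod.le_of_primary (B := Subgroup.zpowers e) (fun z hz l m hl hlm => ?_)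
      (Subgroup.mem_zpowers e)
    have hzJ : z ∈ J := (Subgroup.zpowers_le.2 heJ) hz
    by_cases hlp : l = p
    · obtain ⟨i, rfl⟩ := Subgroup.mem_zpowers_iff.1 hz
      have hconj : e ^ i * x * (e ^ i)⁻¹ ∈ C x := by
        have h2 : e ∈ Subgroup.normalizer (C x : Set G) := normalizer_of_conj_eq heN
        exact (Subgroup.mem_normalizer_iff.1 (zpow_mem h2 i) x).1 (mem_C.2 (Commute.refl x))
      set w := e ^ i * x * (e ^ i)⁻¹ * x⁻¹ with hw
      have hwp : PR p w := PR.mul (sg.hx.1.conj _) (by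
        show (orderOf x⁻¹).Coprime p
        rw [orderOf_inv]; exact sg.hx.1) ((mem_C.1 hconj).inv_right)
      have hwJ : w ∈ J := by
        rw [hw, show e ^ i * x * (e ^ i)⁻¹ * x⁻¹ = e ^ i * (x * (e ^ i)⁻¹ * x⁻¹) by group]
        exact mul_mem hzJ (hJn.conj_mem _ (inv_mem hzJ) x)
      have hwc := hJc w hwJ hwp
      have hzx : e ^ i * x * (e ^ i)⁻¹ = w * x := (inv_mul_cancel_right _ _).symm
      have hpow : ∀ n : ℕ, (e ^ i) ^ n * x * ((e ^ i) ^ n)⁻¹ = w ^ n * x := by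
        intro n
        induction n with
        | zero => simp
        | succ n ih =>
          calc (e ^ i) ^ (n + 1) * x * ((e ^ i) ^ (n + 1))⁻¹
              = e ^ i * ((e ^ i) ^ n * x * ((e ^ i) ^ n)⁻¹) * (e ^ i)⁻¹ := by rw [pow_succ']; group
            _ = e ^ i * (w ^ n * x) * (e ^ i)⁻¹ := by rw [ih]
            _ = e ^ i * w ^ n * x * (e ^ i)⁻¹ := by group
            _ = w ^ n * e ^ i * x * (e ^ i)⁻¹ := by rw [Subgroup.mem_center_iff.1 (pow_mem hwc n) (e ^ i)]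
            _ = w ^ n * (e ^ i * x * (e ^ i)⁻¹) := by group
            _ = w ^ (n + 1) * x := by rw [hzx, ← mul_assoc, ← pow_succ]
      have h2 := hpow (l ^ m)
      rw [← hlm, pow_orderOf_eq_one, one_mul, inv_one, mul_one, eq_comm, mul_eq_right] at h2
      have h3 := orderOf_dvd_of_pow_eq_one h2
      rw [hlm, hlp] at h3
      have h4 : orderOf w = 1 := Nat.eq_one_of_dvd_coprimes (Nat.Coprime.pow_right m hwp) dvd_rfl h3
      rw [orderOf_eq_one_iff] at h4
      rw [h4, one_mul, mul_inv_eq_iff_eq_mul] at hzx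
      exact mem_C.2 hzx
    · have := hJc z hzJ (show PR p z by unfold PR; rw [hlm]; exact ((Nat.coprime_primes hl sg.cf.hp).2 hlp).pow_left m)
      exact mem_C.2 (Subgroup.mem_center_iff.1 this x).symm
  apply hu₀x
  have h := mul_mem (inv_mem heC) hu'C
  rwa [he, mul_inv_rev, inv_inv, inv_mul_cancel_right] at h

/-- Every Sylow subgroup for a prime other than `p` is inside a centraliser. -/
theorem sylow_le (r : ℕ) (hr : r.Prime) (hrp : r ≠ p) : ∃ R : Sylow r G, (R : Subgroup G) ≤ C x := by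
  classical
  haveI := Fact.mk hr
  obtain ⟨R, hRx⟩ := sg.sylow r hr hrp
  refine ⟨R, ?_⟩
  by_contra hRC
  obtain ⟨u₀, hu₀, hu₀x⟩ := SetLike.not_le_iff_exists.1 hRC
  obtain ⟨e₀, he₀⟩ := R.isPGroup' ⟨u₀, hu₀⟩
  have hrel : Rel p r G := ⟨hr, hrp, u₀,
    fun h => hu₀x (mem_C.2 (Subgroup.mem_center_iff.1 h x).symm), e₀, congrArg Subtype.val he₀⟩
  -- an element central modulo the centre in `R ⊓ C x`
  have hAR : sg.cf.A sg.hx hr hrp ≤ (R : Subgroup G) := sg.cf.sylow_inf sg.hx hr hrp hRx ▸ inf_le_left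
  haveI := R.isPGroup'.isNilpotent
  haveI : ((sg.cf.A sg.hx hr hrp).subgroupOf (R : Subgroup G)).Normal :=
    ⟨fun a ha u => sg.cf.conj_A sg.hx hr hrp (hRx _ u.2) ha⟩
  obtain ⟨a₀, ha₀, ha₀c⟩ := sg.cf.exists_noncentral_A sg.hx hr hrp hrel
  obtain ⟨z, hzA, hzc, hzu⟩ := CfsgLib.OddOrder41.exists_central_step
    ((sg.cf.A sg.hx hr hrp).subgroupOf (R : Subgroup G))
    ((Subgroup.center G).subgroupOf (R : Subgroup G))
    (fun h => ha₀c (h (show (⟨a₀, hAR ha₀⟩ : (R : Subgroup G)) ∈ _ from ha₀)))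
  have hzc' : (z : G) ∉ Subgroup.center G := hzc
  have hzn := sg.cf.nc_of_mem_A sg.hx hr hrp hzA hzc'
  have hCz := sg.cf.C_of_mem_A sg.hx hr hrp hzA hzc'
  -- the action on the regular part of `C x`
  set H := sg.cf.H sg.hx with hH
  have hxH : x ∈ H := ⟨mem_C.2 (Commute.refl x), sg.hx.1⟩
  set N := Subgroup.normalizer (H : Set G)
  have hNof : ∀ u, C (u * x * u⁻¹) = C x → u ∈ N := fun u hu =>
    normalizer_of_conj_eq fun w hw => ⟨sg.conj_mem_C hu hw.1, hw.2.conj u⟩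
  have hRN : (R : Subgroup G) ≤ N := fun u hu => hNof u (hRx u hu)
  letI : CommGroup H :=
    { (inferInstance : Group H) with
      mul_comm := fun a b => Subtype.ext (sg.cf.commute_of_mem sg.hx b.2.2 b.2.1 a.2.1) }
  set φ := H.normalizerMonoidHom
  have hφ : ∀ (n : N) (v : H), ((φ n v : H) : G) = (n : G) * v * (n : G)⁻¹ := fun n v => rfl
  let Ssys : H79.FpfMod.Sys φ.range H :=
    { act := φ.range.subtype
      Z := (Subgroup.center G).subgroupOf H
      fixZ := by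
        rintro ⟨_, n, rfl⟩ z hz
        refine Subtype.ext ((hφ n z).trans ?_)
        rw [Subgroup.mem_center_iff.1 (Subgroup.mem_subgroupOf.1 hz) (n : G), mul_inv_cancel_right]
      fix := by
        rintro ⟨_, n, rfl⟩ hne v hv
        by_contra hvc
        apply hne
        refine Subtype.ext (MulEquiv.ext fun w => Subtype.ext ((hφ n w).trans ?_))
        have hcomm : (n : G) * v * (n : G)⁻¹ = v := (hφ n v).symm.trans (congrArg Subtype.val hv)
        have hn : (n : G) ∈ C x := by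
          rw [← sg.cf.C_eq sg.hx ⟨v.2.2, fun h => hvc h⟩ v.2.1]
          exact mem_C.2 (mul_inv_eq_iff_eq_mul.1 hcomm)
        show (n : G) * (w : G) * (n : G)⁻¹ = w
        rw [(sg.cf.commute_of_mem sg.hx w.2.2 w.2.1 hn).eq, mul_inv_cancel_right] }
  let Rb : Sylow r φ.range := (R.subtype hRN).mapSurjective φ.rangeRestrict_surjective
  have hzH : (z : G) ∈ H := ⟨hzA.1, hzn.1⟩
  have hW : IsPGroup r φ.range := by
    refine Ssys.isPGroup (fun s hs => ?_) Rb ?_ (x := ⟨(z : G), hzH⟩) hzc' ?_ ?_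
    · obtain ⟨t, ht, htp, hts, v, hv, hvc⟩ := sg.exists_other s
      obtain ⟨m, hm⟩ := hv.2
      refine ⟨⟨v, hv.1, PR.of_pow_prime_pow sg.cf.hp ht htp hm⟩, hvc, ?_⟩
      rw [← Subgroup.orderOf_coe]
      exact Nat.Coprime.coprime_dvd_left (orderOf_dvd_of_pow_eq_one hm)
        (((Nat.coprime_primes ht hs).2 hts).pow_left m)
    · intro h
      apply hu₀x
      have h1 : φ.rangeRestrict ⟨u₀, hRN hu₀⟩ ∈ (Rb : Subgroup φ.range) := by
        show _ ∈ (R.subtype hRN : Subgroup N).map φ.rangeRestrict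
        exact Subgroup.mem_map_of_mem _ (show (⟨u₀, hRN hu₀⟩ : N) ∈ (R.subtype hRN : Subgroup N) from hu₀)
      rw [h, Subgroup.mem_bot] at h1
      have h2 : ((φ ⟨u₀, hRN hu₀⟩ ⟨x, hxH⟩ : H) : G) = x := by
        rw [show φ ⟨u₀, hRN hu₀⟩ = 1 from congrArg Subtype.val h1]; rfl
      rw [hφ] at h2
      exact mem_C.2 (mul_inv_eq_iff_eq_mul.1 h2)
    · obtain ⟨m, hm⟩ := hzA.2
      exact ⟨m, Subtype.ext hm⟩
    · intro w hw
      obtain ⟨n, hn, rfl⟩ : ∃ n ∈ (R.subtype hRN : Subgroup N), φ.rangeRestrict n = w := hw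
      show (n : G) * (z : G) * (n : G)⁻¹ * (z : G)⁻¹ ∈ Subgroup.center G
      have h1 : ⁅(z : G), (n : G)⁆ ∈ Subgroup.center G := hzu ⟨(n : G), hn⟩
      rw [show (n : G) * (z : G) * (n : G)⁻¹ * (z : G)⁻¹ = ⁅(z : G), (n : G)⁆⁻¹ by
        rw [commutatorElement_def]; group]
      exact inv_mem h1
  -- the other Sylow subgroups are inside `C x`
  have hother : ∀ s, s.Prime → s ≠ p → s ≠ r → ∃ S : Sylow s G, (S : Subgroup G) ≤ C x := by
    intro s hs hsp hsr
    obtain ⟨S, hSx⟩ := sg.sylow s hs hsp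
    refine ⟨S, fun u hu => ?_⟩
    have huN := hNof u (hSx u hu)
    obtain ⟨m, hm⟩ := S.isPGroup' ⟨u, hu⟩
    have hm' : (⟨u, huN⟩ : N) ^ s ^ m = 1 := Subtype.ext (congrArg Subtype.val hm :)
    obtain ⟨j, hj⟩ := hW (φ.rangeRestrict ⟨u, huN⟩)
    have h1 : orderOf (φ.rangeRestrict ⟨u, huN⟩) ∣ Nat.gcd (s ^ m) (r ^ j) :=
      Nat.dvd_gcd ((orderOf_map_dvd _ _).trans (orderOf_dvd_of_pow_eq_one hm'))
        (orderOf_dvd_of_pow_eq_one hj)
    rw [Nat.Coprime.gcd_eq_one (Nat.Coprime.pow m j ((Nat.coprime_primes hs hr).2 hsr)), Nat.dvd_one,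
      orderOf_eq_one_iff] at h1
    have h2 : ((φ ⟨u, huN⟩ ⟨x, hxH⟩ : H) : G) = x := by
      rw [show φ ⟨u, huN⟩ = 1 from congrArg Subtype.val h1]; rfl
    rw [hφ] at h2
    exact mem_C.2 (mul_inv_eq_iff_eq_mul.1 h2)
  -- the class of `z` modulo the centre has `p`-power size
  set q := QuotientGroup.mk' (Subgroup.center G)
  set P0 := (Subgroup.centralizer ({q (z : G)} : Set (G ⧸ Subgroup.center G))).comap q with hP0
  have hP0idx : P0.index = (Subgroup.centralizer ({q (z : G)} : Set (G ⧸ Subgroup.center G))).index :=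
    Subgroup.index_comap_of_surjective _ (QuotientGroup.mk'_surjective _)
  have hmemP0 : ∀ u, ⁅(z : G), u⁆ ∈ Subgroup.center G → u ∈ P0 := by
    intro u hu
    rw [hP0, Subgroup.mem_comap, Subgroup.mem_centralizer_singleton_iff]
    have h1 : ⁅q (z : G), q u⁆ = 1 := by
      rw [← map_commutatorElement]; exact (QuotientGroup.eq_one_iff _).2 hu
    exact (commutatorElement_eq_one_iff_mul_comm.1 h1).symm
  obtain ⟨k, hk⟩ : ∃ k, P0.index = p ^ k := by
    refine ⟨_, Nat.eq_prime_pow_of_unique_prime_dvd Subgroup.index_ne_zero_of_finite ?_⟩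
    intro l hl hlk
    by_contra hlp
    by_cases hlr : l = r
    · subst hlr
      exact R.not_dvd_index (hlk.trans (Subgroup.index_dvd_of_le fun u hu => hmemP0 u (hzu ⟨u, hu⟩)))
    · haveI := Fact.mk hl
      obtain ⟨S, hS⟩ := hother l hl hlp hlr
      refine S.not_dvd_index (hlk.trans (Subgroup.index_dvd_of_le fun u hu => hmemP0 u ?_))
      have h1 : u ∈ C (z : G) := hCz.symm ▸ hS hu
      rw [commutatorElement_eq_one_iff_commute.2 (mem_C.1 h1).symm]
      exact one_mem _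
  have hrad := CfsgLib.InvChar.mem_solvableRadical_of_class (k := k) sg.cf.hp (q (z : G)) (hP0idx ▸ hk ▸ dvd_rfl)
  haveI : (Cfsg.solvableRadical (G ⧸ Subgroup.center G)).Normal := CfsgLib.Structure.solvableRadical_normal
  set K := (Cfsg.solvableRadical (G ⧸ Subgroup.center G)).comap q
  have hK : Group.IsSolvable K := by
    haveI := CfsgLib.Structure.isSolvable_solvableRadical (G := G ⧸ Subgroup.center G)
    haveI : Group.IsSolvable (Subgroup.center G) := Group.isSolvable_of_comm fun a b =>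
      Subtype.ext (Subgroup.mem_center_iff.1 b.2 a)
    refine Group.isSolvable_of_ker_le_range (Subgroup.inclusion (show Subgroup.center G ≤ K from
      fun c hc => by
        rw [Subgroup.mem_comap, show q c = 1 from (QuotientGroup.eq_one_iff c).2 hc]; exact one_mem _))
      ((q.comp K.subtype).codRestrict (Cfsg.solvableRadical (G ⧸ Subgroup.center G)) fun a => a.2) ?_
    intro a ha
    have h1 : q (a : G) = 1 := congrArg Subtype.val ha
    exact ⟨⟨(a : G), (QuotientGroup.eq_one_iff _).1 h1⟩, rfl⟩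
  exact sg.not_solvable_normal K hK (k := (z : G)) hrad hzn hr hrp R hRx hu₀ hu₀x

/-- The `p`-complement is abelian. -/
theorem exists_complement :
    ∃ H : Subgroup G, IsMulCommutative H ∧ ¬ p ∣ Nat.card H ∧ ∃ k : ℕ, H.index = p ^ k := by
  haveI := Fact.mk sg.cf.hp
  refine ⟨sg.cf.H sg.hx, ⟨⟨fun a b => Subtype.ext (sg.cf.commute_of_mem sg.hx b.2.2 b.2.1 a.2.1)⟩⟩,
    fun h => ?_, _, Nat.eq_prime_pow_of_unique_prime_dvd Subgroup.index_ne_zero_of_finite ?_⟩
  · obtain ⟨a, ha⟩ := exists_prime_orderOf_dvd_card' (G := sg.cf.H sg.hx) p h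
    rw [← Subgroup.orderOf_coe] at ha
    have h1 : PR p (a : G) := a.2.2
    unfold PR at h1
    rw [ha, Nat.coprime_self] at h1
    exact sg.cf.hp.ne_one h1
  · intro l hl hlk
    by_contra hlp
    haveI := Fact.mk hl
    obtain ⟨R, hR⟩ := sg.sylow_le l hl hlp
    refine R.not_dvd_index (hlk.trans (Subgroup.index_dvd_of_le fun u hu => ?_))
    obtain ⟨m, hm⟩ := R.isPGroup' ⟨u, hu⟩
    exact ⟨hR hu, PR.of_pow_prime_pow sg.cf.hp hl hlp (congrArg Subtype.val hm : u ^ l ^ m = 1)⟩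

end Single

end H79.TwoClass
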