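import Cfsg.Agent.H79CycSylow
import Cfsg.Agent.Lib.InvChar.InvolutionCount
import Cfsg.Agent.S4018

/-! Groups all of whose even proper subgroups are `{2, p}`-groups, `p + 1 = 2 ^ a`. -/

set_option autoImplicit false

namespace H79.TwoPrime

open Subgroup CfsgLib.InvChar CfsgLib.Involutions

universe u

variable {G : Type u} [Group G] [Finite G] {p a : ℕ} [hp : Fact p.Prime]

/-- The configuration. -/
structure Conf (p a : ℕ) (G : Type u) [Group G] [Finite G] : Prop where
  p_ne_two : p ≠ 2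
  hpa : p + 1 = 2 ^ a
  two_part : (Nat.card G).factorization 2 = a
  abel : ∀ P : Sylow p G, IsMulCommutative P
  perfect : commutator G = ⊤
  small : ∀ H : Subgroup G, H ≠ ⊤ → 2 ∣ Nat.card H → ∀ r : ℕ, r.Prime → r ∣ Nat.card H → r = p ∨ r = 2
  third : ∃ r : ℕ, r.Prime ∧ r ∣ Nat.card G ∧ r ≠ p ∧ r ≠ 2
  transitive : ∃ (S : Sylow 2 G) (x : G), (∃ k, orderOf x = p ^ k) ∧
    x ∈ normalizer ((S : Subgroup G) : Set G) ∧
    ∀ b ∈ (S : Subgroup G), ∀ c ∈ (S : Subgroup G), b ≠ 1 → c ≠ 1 → ∃ i : ℕ, x ^ i * b * (x ^ i)⁻¹ = c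

theorem orderOf_conj (g w : G) : orderOf (g * w * g⁻¹) = orderOf w :=
  MulEquiv.orderOf_eq (MulAut.conj g) w

theorem Conf.two_le (h : Conf p a G) : 2 ≤ a := by
  have := h.hpa
  have := hp.out.two_le
  have := h.p_ne_two
  rcases a with _ | _ | a <;> simp_all <;> omega

theorem Conf.sylow_card (h : Conf p a G) (S : Sylow 2 G) : Nat.card (S : Subgroup G) = 2 ^ a := by
  have : Fact (Nat.Prime 2) := ⟨Nat.prime_two⟩
  rw [S.card_eq_multiplicity, h.two_part]

theorem Conf.two_dvd (h : Conf p a G) : 2 ∣ Nat.card G := by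
  obtain ⟨S, -⟩ := h.transitive
  have h1 : 2 ∣ Nat.card (S : Subgroup G) := by
    rw [h.sylow_card]; exact dvd_pow_self 2 (by have := h.two_le; omega)
  exact h1.trans (S : Subgroup G).card_subgroup_dvd_card

/-- A Sylow 2-subgroup is elementary abelian, and transitively permuted by a `p`-element. -/
theorem Conf.sylow_facts (h : Conf p a G) (S : Sylow 2 G) :
    (∀ b ∈ (S : Subgroup G), b * b = 1) ∧ ∃ x : G, (∃ k, orderOf x = p ^ k) ∧
      x ∈ normalizer ((S : Subgroup G) : Set G) ∧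
      ∀ b ∈ (S : Subgroup G), ∀ c ∈ (S : Subgroup G), b ≠ 1 → c ≠ 1 →
        ∃ i : ℕ, x ^ i * b * (x ^ i)⁻¹ = c := by
  have : Fact (Nat.Prime 2) := ⟨Nat.prime_two⟩
  obtain ⟨S₀, x, ⟨k, hk⟩, hx, htr⟩ := h.transitive
  have hsq₀ : ∀ b ∈ (S₀ : Subgroup G), b * b = 1 := by
    intro b hb
    rcases eq_or_ne b 1 with e | hb1
    · rw [e, mul_one]
    have hd : 2 ∣ Nat.card (S₀ : Subgroup G) := by
      rw [h.sylow_card]; exact dvd_pow_self 2 (by have := h.two_le; omega)
    obtain ⟨c, hc⟩ := exists_prime_orderOf_dvd_card' (G := (S₀ : Subgroup G)) 2 hd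
    have hco : orderOf (c : G) = 2 := by rw [Subgroup.orderOf_coe]; exact hc
    obtain ⟨i, hi⟩ := htr c c.2 b hb (ne_one_of_involution hco) hb1
    exact mul_self_eq_one (by rw [← hi, orderOf_conj, hco])
  obtain ⟨g, rfl⟩ := MulAction.exists_smul_eq G S₀ S
  have hmem : ∀ b : G, b ∈ ((g • S₀ : Sylow 2 G) : Subgroup G) ↔ g⁻¹ * b * g ∈ (S₀ : Subgroup G) := by
    intro b
    rw [Sylow.coe_subgroup_smul, mem_pointwise_smul_iff_inv_smul_mem]
    simp [MulAut.smul_def]
  refine ⟨fun b hb => ?_, g * x * g⁻¹, ⟨k, (orderOf_conj g x).trans hk⟩, ?_, fun b hb c hc hb1 hc1 => ?_⟩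
  · have e := hsq₀ _ ((hmem b).1 hb)
    calc b * b = g * (g⁻¹ * b * g * (g⁻¹ * b * g)) * g⁻¹ := by group
      _ = 1 := by rw [e]; group
  · refine H79.mem_normalizer_of_conj_mem _ fun b hb => ?_
    rw [hmem] at hb ⊢
    have := (mem_normalizer_iff.1 hx _).1 hb
    convert this using 1
    group
  · obtain ⟨i, hi⟩ := htr _ ((hmem b).1 hb) _ ((hmem c).1 hc) (fun e => hb1 (by simpa [mul_assoc, inv_mul_eq_one, eq_comm] using e))
      (fun e => hc1 (by simpa [mul_assoc, inv_mul_eq_one, eq_comm] using e))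
    refine ⟨i, ?_⟩
    calc (g * x * g⁻¹) ^ i * b * ((g * x * g⁻¹) ^ i)⁻¹
        = g * (x ^ i * (g⁻¹ * b * g) * (x ^ i)⁻¹) * g⁻¹ := by rw [conj_pow]; group
      _ = c := by rw [hi]; group

theorem exists_sylow_mem {q : ℕ} [Fact q.Prime] {g : G} {k : ℕ} (hg : orderOf g ∣ q ^ k) :
    ∃ S : Sylow q G, g ∈ (S : Subgroup G) := by
  obtain ⟨i, -, hi⟩ := (Nat.dvd_prime_pow (Fact.out : q.Prime)).1 hg
  obtain ⟨S, hS⟩ := (IsPGroup.of_card (p := q) (n := i)
    (by rw [Nat.card_zpowers, hi]) : IsPGroup q (zpowers g)).exists_le_sylow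
  exact ⟨S, hS (mem_zpowers g)⟩

theorem Conf.comm_sylow (h : Conf p a G) (S : Sylow 2 G) {b c : G} (hb : b ∈ (S : Subgroup G))
    (hc : c ∈ (S : Subgroup G)) : b * c = c * b := by
  have hsq := (h.sylow_facts S).1
  have e := inv_eq_of_mul_eq_one_left (hsq _ (mul_mem hb hc))
  rw [← e, mul_inv_rev, inv_eq_of_mul_eq_one_left (hsq b hb), inv_eq_of_mul_eq_one_left (hsq c hc)]

theorem Conf.sq_of_two (h : Conf p a G) {g : G} {k : ℕ} (hg : orderOf g ∣ 2 ^ k) : g * g = 1 := by
  have : Fact (Nat.Prime 2) := ⟨Nat.prime_two⟩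
  obtain ⟨S, hS⟩ := exists_sylow_mem hg
  exact (h.sylow_facts S).1 g hS

theorem Conf.comm_P (h : Conf p a G) (P : Sylow p G) {b c : G} (hb : b ∈ (P : Subgroup G))
    (hc : c ∈ (P : Subgroup G)) : b * c = c * b :=
  congrArg Subtype.val ((h.abel P).is_comm.comm (⟨b, hb⟩ : P) ⟨c, hc⟩)

theorem Conf.P_inf_two (h : Conf p a G) (P : Sylow p G) {g : G} (hg : g ∈ (P : Subgroup G)) {k : ℕ}
    (hk : orderOf g ∣ 2 ^ k) : g = 1 :=
  CycSylow.eq_one_of_coprime_of_mem P.2 (Nat.Coprime.coprime_dvd_left hk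
    (((Nat.coprime_primes Nat.prime_two hp.out).2 h.p_ne_two.symm).pow_left k)) hg

theorem Conf.center (h : Conf p a G) {z : G} (hz : ∀ g : G, g * z = z * g) :
    ∀ P : Sylow p G, z ∈ (P : Subgroup G) → z = 1 := by
  intro P hzP
  haveI := h.abel P
  let φ : (P : Subgroup G) →* (P : Subgroup G) := MonoidHom.id _
  letI : CommGroup (P : Subgroup G) :=
    { (inferInstance : Group (P : Subgroup G)) with mul_comm := (h.abel P).is_comm.comm }
  let V : G →* (P : Subgroup G) := MonoidHom.transfer (MonoidHom.id (P : Subgroup G))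
  have hV : V z = 1 := by
    have : commutator G ≤ V.ker := Abelianization.commutator_subset_ker V
    exact this (h.perfect ▸ mem_top z)
  have hkey : ∀ (k : ℕ) (g₀ : G), g₀⁻¹ * z ^ k * g₀ ∈ (P : Subgroup G) → g₀⁻¹ * z ^ k * g₀ = z ^ k := by
    intro k g₀ _
    rw [mul_assoc, ← ((show Commute g₀ z from hz g₀).pow_right k).eq, inv_mul_cancel_left]
  rw [show V z = _ from MonoidHom.transfer_eq_pow _ z hkey] at hV
  have h1 : z ^ (P : Subgroup G).index = 1 := congrArg Subtype.val hV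
  refine CycSylow.eq_one_of_coprime_of_mem P.2 ?_ hzP
  exact Nat.Coprime.coprime_dvd_left (orderOf_dvd_of_pow_eq_one h1)
    (hp.out.coprime_iff_not_dvd.2 P.not_dvd_index).symm

/-- In a perfect group nothing of an abelian Sylow subgroup is central in its normaliser. -/
theorem Conf.transfer (h : Conf p a G) (P : Sylow p G) {z : G} (hzP : z ∈ (P : Subgroup G))
    (hz : ∀ g ∈ normalizer ((P : Subgroup G) : Set G), g * z = z * g) : z = 1 := by
  haveI := h.abel P
  letI : CommGroup (P : Subgroup G) :=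
    { (inferInstance : Group (P : Subgroup G)) with mul_comm := (h.abel P).is_comm.comm }
  let V : G →* (P : Subgroup G) := MonoidHom.transfer (MonoidHom.id (P : Subgroup G))
  have hV : V z = 1 := by
    have : commutator G ≤ V.ker := Abelianization.commutator_subset_ker V
    exact this (h.perfect ▸ mem_top z)
  have hkey : ∀ (k : ℕ) (g₀ : G), g₀⁻¹ * z ^ k * g₀ ∈ (P : Subgroup G) → g₀⁻¹ * z ^ k * g₀ = z ^ k := by
    intro k g₀ hg
    obtain ⟨n, hn, e⟩ := P.conj_eq_normalizer_conj_of_mem (z ^ k) g₀ (pow_mem hzP k) hg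
    rw [e, mul_assoc, ← ((show Commute n z from hz n hn).pow_right k).eq, inv_mul_cancel_left]
  rw [show V z = _ from MonoidHom.transfer_eq_pow _ z hkey] at hV
  have h1 : z ^ (P : Subgroup G).index = 1 := congrArg Subtype.val hV
  refine CycSylow.eq_one_of_coprime_of_mem P.2 ?_ hzP
  exact Nat.Coprime.coprime_dvd_left (orderOf_dvd_of_pow_eq_one h1)
    (hp.out.coprime_iff_not_dvd.2 P.not_dvd_index).symm

theorem Conf.not_top_of_small (h : Conf p a G) {H : Subgroup G}
    (hH : ∀ r : ℕ, r.Prime → r ∣ Nat.card H → r = p ∨ r = 2) : H ≠ ⊤ := by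
  intro e
  obtain ⟨r, hr, hd, h1, h2⟩ := h.third
  rcases hH r hr (by rw [e, card_top]; exact hd) with e' | e'
  exacts [h1 e', h2 e']

theorem commutator_le_of_sup (M A : Subgroup G) [M.Normal] (hA : ∀ b ∈ A, ∀ c ∈ A, b * c = c * b)
    (htop : M ⊔ A = ⊤) : commutator G ≤ M := by
  rw [commutator_def, Subgroup.commutator_le]
  intro u _ v _
  obtain ⟨m₁, hm₁, b, hb, rfl⟩ := mem_sup_of_normal_left.1 (htop ▸ mem_top u : u ∈ M ⊔ A)
  obtain ⟨m₂, hm₂, c, hc, rfl⟩ := mem_sup_of_normal_left.1 (htop ▸ mem_top v : v ∈ M ⊔ A)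
  rw [← QuotientGroup.eq_one_iff, commutatorElement_def]
  have k1 : (QuotientGroup.mk m₁ : G ⧸ M) = 1 := (QuotientGroup.eq_one_iff _).2 hm₁
  have k2 : (QuotientGroup.mk m₂ : G ⧸ M) = 1 := (QuotientGroup.eq_one_iff _).2 hm₂
  have k3 : (QuotientGroup.mk b : G ⧸ M) * QuotientGroup.mk c = QuotientGroup.mk c * QuotientGroup.mk b := by
    rw [← QuotientGroup.mk_mul, ← QuotientGroup.mk_mul, hA b hb c hc]
  simp only [QuotientGroup.mk_mul, QuotientGroup.mk_inv, k1, k2, one_mul, k3]
  group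

theorem Conf.simple (h : Conf p a G) : IsSimpleGroup G := by
  have : Fact (Nat.Prime 2) := ⟨Nat.prime_two⟩
  obtain ⟨S, -⟩ := h.transitive
  obtain ⟨hsq, x, ⟨k, hk⟩, hx, htr⟩ := h.sylow_facts S
  have hSne : (S : Subgroup G) ≠ ⊥ := fun e => by
    have := h.sylow_card S
    rw [e, card_bot] at this
    exact absurd this.symm (Nat.one_lt_pow (by have := h.two_le; omega) (by norm_num)).ne'
  obtain ⟨r, hr, hrG, hrp, hr2⟩ := h.third
  -- an even proper normal subgroup is impossible
  have heven : ∀ M : Subgroup G, M.Normal → M ≠ ⊤ → ¬ 2 ∣ Nat.card M := by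
    intro M hM hMt hd
    haveI := hM
    obtain ⟨t', ht'⟩ := exists_prime_orderOf_dvd_card' (G := M) 2 hd
    have hto : orderOf (t' : G) = 2 := by rw [Subgroup.orderOf_coe]; exact ht'
    obtain ⟨c, hc⟩ := CycSylow.exists_conj_mem_sylow S (k := 1) (by rw [hto, pow_one] : orderOf (t' : G) ∣ 2 ^ 1)
    have hcM : c * (t' : G) * c⁻¹ ∈ M := hM.conj_mem _ t'.2 c
    have hSM : (S : Subgroup G) ≤ M := by
      intro b hb
      rcases eq_or_ne b 1 with e | hb1
      · rw [e]; exact one_mem M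
      obtain ⟨i, hi⟩ := htr _ hc b hb (fun e => ne_one_of_involution hto (by simpa using e)) hb1
      rw [← hi]; exact hM.conj_mem _ hcM _
    have hsup := Sylow.normalizer_sup_eq_top' S hSM
    have hdvd : Nat.card G ∣ Nat.card (normalizer ((S : Subgroup G) : Set G)) * Nat.card M := by
      rw [← card_top (G := G), ← hsup]
      set N := normalizer ((S : Subgroup G) : Set G)
      have e1 : M.index ∣ Nat.card N := by
        rw [← relIndex_top_right, ← hsup, relIndex_sup_right]
        exact relIndex_dvd_card M N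
      rw [hsup, card_top, ← M.card_mul_index, mul_comm]
      exact mul_dvd_mul_right e1 _
    rcases hr.dvd_mul.1 (hrG.trans hdvd) with h1 | h1
    · have hNt : normalizer ((S : Subgroup G) : Set G) ≠ ⊤ := fun e => by
        have hn : (S : Subgroup G).Normal := normalizer_eq_top_iff.1 e
        haveI := hn
        have hcomm : commutator G ≤ (S : Subgroup G) → False := fun hle => by
          have htop : (S : Subgroup G) = ⊤ := eq_top_iff.2 (h.perfect ▸ hle)
          have := h.sylow_card S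
          rw [htop, card_top] at this
          exact hr2 ((Nat.prime_dvd_prime_iff_eq hr Nat.prime_two).1 (hr.dvd_of_dvd_pow (this ▸ hrG)))
        -- an element of order `r` centralises or moves `S`
        have : Fact r.Prime := ⟨hr⟩
        obtain ⟨g, hg⟩ := exists_prime_orderOf_dvd_card' (G := G) r hrG
        let H := (S : Subgroup G) ⊔ zpowers g
        have hHt : H ≠ ⊤ := fun e' => by
          refine hcomm ?_
          refine commutator_le_of_sup _ (zpowers g) (fun u hu v hv => ?_) e'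
          obtain ⟨i, rfl⟩ := mem_zpowers_iff.1 hu
          obtain ⟨j, rfl⟩ := mem_zpowers_iff.1 hv
          exact ((Commute.refl g).zpow_zpow i j).eq
        have h2H : 2 ∣ Nat.card H := (show 2 ∣ Nat.card (S : Subgroup G) by
          rw [h.sylow_card]; exact dvd_pow_self 2 (by have := h.two_le; omega)).trans (card_dvd_of_le le_sup_left)
        have hrH : r ∣ Nat.card H := hg ▸ H.orderOf_dvd_natCard (le_sup_right (a := (S : Subgroup G)) (mem_zpowers g))
        rcases h.small H hHt h2H r hr hrH with e' | e'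
        exacts [hrp e', hr2 e']
      have h2N : 2 ∣ Nat.card (normalizer ((S : Subgroup G) : Set G)) := (show 2 ∣ Nat.card (S : Subgroup G) by
          rw [h.sylow_card]; exact dvd_pow_self 2 (by have := h.two_le; omega)).trans (card_dvd_of_le le_normalizer)
      rcases h.small _ hNt h2N r hr h1 with e' | e'
      exacts [hrp e', hr2 e']
    · rcases h.small M hMt hd r hr h1 with e' | e'
      exacts [hrp e', hr2 e']
  -- an odd proper normal subgroup is a `p`-group
  have hodd : ∀ M : Subgroup G, M.Normal → M ≠ ⊤ → IsPGroup p M := by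
    intro M hM hMt
    haveI := hM
    have hH : M ⊔ (S : Subgroup G) ≠ ⊤ := fun e => by
      apply hMt
      rw [eq_top_iff, ← h.perfect]
      exact commutator_le_of_sup M _ (fun _ hb _ hc => h.comm_sylow S hb hc) e
    have h2H : 2 ∣ Nat.card (M ⊔ (S : Subgroup G) : Subgroup G) := (show 2 ∣ Nat.card (S : Subgroup G) by
      rw [h.sylow_card]; exact dvd_pow_self 2 (by have := h.two_le; omega)).trans (card_dvd_of_le le_sup_right)
    refine IsPGroup.of_card (n := (Nat.card M).primeFactorsList.length) ?_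
    refine Nat.eq_prime_pow_of_unique_prime_dvd Nat.card_pos.ne' fun {q} hq hqd => ?_
    rcases h.small _ hH h2H q hq (hqd.trans (card_dvd_of_le le_sup_left)) with e | e
    · exact e
    · exact absurd (e ▸ hqd) (heven M hM hMt)
  have : Nontrivial G := by
    obtain ⟨⟨b, hb⟩, hb1⟩ := (ne_bot_iff_exists_ne_one).1 hSne
    exact ⟨b, 1, fun e => hb1 (Subtype.ext e)⟩
  refine { exists_pair_ne := exists_pair_ne G, eq_bot_or_eq_top_of_normal := fun M hM => ?_ }
  by_contra hcon
  push Not at hcon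
  obtain ⟨hM1, hMt⟩ := hcon
  haveI := hM
  have hMp := hodd M hM hMt
  have hMP : ∀ P : Sylow p G, M ≤ (P : Subgroup G) := by
    intro P
    obtain ⟨T, hT⟩ := hMp.exists_le_sylow
    obtain ⟨c, rfl⟩ := MulAction.exists_smul_eq G P T
    intro q hq
    have := hT (hM.conj_mem q hq c)
    rw [Sylow.coe_subgroup_smul, mem_pointwise_smul_iff_inv_smul_mem] at this
    simpa [MulAut.smul_def, mul_assoc] using this
  let P : Sylow p G := default
  set C := centralizer (M : Set G) with hC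
  haveI : C.Normal := by rw [hC]; infer_instance
  have hPC : (P : Subgroup G) ≤ C := fun b hb => by
    rw [hC, mem_centralizer_iff]
    exact fun m hm => h.comm_P P (hMP P hm) hb
  have hCt : C ≠ ⊤ := fun e => by
    refine hM1 ((eq_bot_iff_forall M).2 fun m hm => h.center (fun g => ?_) P (hMP P hm))
    exact ((mem_centralizer_iff.1 (e ▸ mem_top g : g ∈ C)) m hm).symm
  have hCP : C = (P : Subgroup G) := P.3 (hodd C inferInstance hCt) hPC
  have hxP : x ∈ (P : Subgroup G) := by
    refine CycSylow.mem_sylow_of_pow (k := k) ?_ hk.dvd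
    rw [← hCP, normalizer_eq_top_iff.2 inferInstance]
    exact mem_top x
  obtain ⟨⟨b, hb⟩, hb1'⟩ := (ne_bot_iff_exists_ne_one).1 hSne
  have hb1 : b ≠ 1 := fun e => hb1' (Subtype.ext e)
  -- `x` fixes `b`
  have hxb : x * b = b * x := by
    have hP' : (P : Subgroup G).Normal := hCP ▸ inferInstance
    have h1 : x * b * x⁻¹ * b⁻¹ ∈ (P : Subgroup G) := by
      rw [show x * b * x⁻¹ * b⁻¹ = x * (b * x⁻¹ * b⁻¹) by group]
      exact mul_mem hxP (hP'.conj_mem _ (inv_mem hxP) b)
    have h2 : x * b * x⁻¹ * b⁻¹ ∈ (S : Subgroup G) :=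
      mul_mem ((mem_normalizer_iff.1 hx b).1 hb) (inv_mem hb)
    have h3 := h.P_inf_two P h1 (k := a) (h.sylow_card S ▸ (S : Subgroup G).orderOf_dvd_natCard h2)
    exact mul_inv_eq_iff_eq_mul.1 (mul_inv_eq_one.1 h3)
  have hcard := h.sylow_card S
  have hsub : ((S : Subgroup G) : Set G) ⊆ {1, b} := fun c hc => by
    rcases eq_or_ne c 1 with e | hc1
    · exact Or.inl e
    · obtain ⟨i, hi⟩ := htr b hb c hc hb1 hc1
      refine Or.inr ?_
      rw [← hi, ((show Commute x b from hxb).pow_left i).eq, mul_inv_cancel_right]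
      rfl
  have hle := Set.ncard_le_ncard hsub (Set.toFinite _)
  rw [← Nat.card_coe_set_eq, Set.ncard_pair hb1.symm] at hle
  change Nat.card (S : Subgroup G) ≤ 2 at hle
  rw [hcard] at hle
  have : 2 ^ 2 ≤ 2 ^ a := Nat.pow_le_pow_right (by norm_num) h.two_le
  omega

end H79.TwoPrime
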