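import Cfsg.Agent.H79TwoPrimeReal

/-! The configuration `p + 1 = 2 ^ a` is impossible. -/

set_option autoImplicit false

namespace H79.TwoPrime

open Subgroup CfsgLib.InvChar CfsgLib.Involutions

universe u

variable {G : Type u} [Group G] [Finite G] {p a : ℕ} [hp : Fact p.Prime]

theorem Conf.two_ne (h : Conf p a G) : ¬ p ∣ 2 := fun hd =>
  h.p_ne_two ((Nat.prime_dvd_prime_iff_eq hp.out Nat.prime_two).1 hd)

/-- An element with square nontrivial inverted by an involution is a `p`-element. -/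
theorem Conf.real_ppower (h : Conf p a G) {t g : G} (ht : orderOf t = 2) (htg : t * g * t⁻¹ = g⁻¹)
    (hg2 : g * g ≠ 1) : ∃ j, orderOf g = p ^ j ∧ j ≠ 0 := by
  have hg1 : g ≠ 1 := fun e => hg2 (by rw [e, mul_one])
  set L := normalizer ((zpowers g : Subgroup G) : Set G) with hLdef
  have htL : t ∈ L := H79.mem_normalizer_zpowers (htg ▸ inv_mem (mem_zpowers g))
  have hgL : g ∈ L := le_normalizer (mem_zpowers g)
  have hLt : L ≠ ⊤ := fun e => by
    rcases h.simple.eq_bot_or_eq_top_of_normal _ (normalizer_eq_top_iff.1 e) with e' | e'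
    · exact hg1 (zpowers_eq_bot.1 e')
    · refine h.centralizer_ne_top hg1 (eq_top_iff.2 ?_)
      rw [← e', zpowers_le]
      exact Subgroup.mem_centralizer_singleton_iff.2 rfl
  have hsm := h.small L hLt (ht ▸ Subgroup.orderOf_dvd_natCard L htL)
  have h2 : ¬ 2 ∣ orderOf g := by
    intro hd
    set i := (orderOf g).factorization 2
    have hi : i ≠ 0 := fun e =>
      (Nat.Prime.factorization_pos_of_dvd Nat.prime_two (orderOf_pos g).ne' hd).ne' e
    have hyo : orderOf (g ^ 2 ^ i) = orderOf g / 2 ^ i := by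
      rw [orderOf_pow' g (pow_ne_zero _ (by norm_num)), Nat.gcd_eq_right (Nat.ordProj_dvd _ _)]
    obtain ⟨j, hj⟩ : ∃ j, orderOf g / 2 ^ i = p ^ j := ⟨_, Nat.eq_prime_pow_of_unique_prime_dvd
      (Nat.ordCompl_pos 2 (orderOf_pos g).ne').ne' fun {r} hr hrd => by
        rcases hsm r hr ((hrd.trans (Nat.ordCompl_dvd _ 2)).trans (L.orderOf_dvd_natCard hgL)) with e | e
        · exact e
        · subst e; exact absurd hrd (Nat.not_dvd_ordCompl Nat.prime_two (orderOf_pos g).ne')⟩
    by_cases hy1 : g ^ 2 ^ i = 1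
    · exact hg2 (h.sq_of_two (k := i) (orderOf_dvd_of_pow_eq_one hy1))
    · refine h.no_good (g ^ 2 ^ i) ⟨hy1, ⟨j, hyo.trans hj⟩, ⟨t, ht, ?_⟩, g ^ (orderOf g / 2),
        orderOf_pow_orderOf_div (orderOf_pos g).ne' hd, ((Commute.refl g).pow_pow _ _).eq⟩
      rw [← conj_pow, htg, inv_pow]
  refine ⟨_, Nat.eq_prime_pow_of_unique_prime_dvd (orderOf_pos g).ne' fun {r} hr hrd => ?_, ?_⟩
  · rcases hsm r hr (hrd.trans (L.orderOf_dvd_natCard hgL)) with e | e
    · exact e
    · exact absurd (e ▸ hrd) h2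
  · rw [Ne, List.length_eq_zero_iff, Nat.primeFactorsList_eq_nil, not_or]
    exact ⟨(orderOf_pos g).ne', fun e => hg1 (orderOf_eq_one_iff.1 e)⟩

/-- An element of `P` inverted by an involution has centraliser `P`. -/
theorem Conf.centralizer_real (h : Conf p a G) {P : Sylow p G} {t y : G} (hy : y ∈ (P : Subgroup G))
    (hy1 : y ≠ 1) (ht : orderOf t = 2) (hty : t * y * t⁻¹ = y⁻¹) :
    centralizer ({y} : Set G) = (P : Subgroup G) := by
  obtain ⟨n, hn⟩ := P.2.exists_card_eq
  obtain ⟨i, -, hi⟩ := (Nat.dvd_prime_pow hp.out).1 (hn ▸ (P : Subgroup G).orderOf_dvd_natCard hy)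
  set L := normalizer ((zpowers y : Subgroup G) : Set G) with hLdef
  have htL : t ∈ L := H79.mem_normalizer_zpowers (hty ▸ inv_mem (mem_zpowers y))
  have hLt : L ≠ ⊤ := fun e => by
    rcases h.simple.eq_bot_or_eq_top_of_normal _ (normalizer_eq_top_iff.1 e) with e' | e'
    · exact hy1 (zpowers_eq_bot.1 e')
    · refine h.centralizer_ne_top hy1 (eq_top_iff.2 ?_)
      rw [← e', zpowers_le]
      exact Subgroup.mem_centralizer_singleton_iff.2 rfl
  have hsm := h.small L hLt (ht ▸ Subgroup.orderOf_dvd_natCard L htL)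
  have hCL : centralizer ({y} : Set G) ≤ L := fun g hg => H79.mem_normalizer_zpowers (by
    rw [Subgroup.mem_centralizer_singleton_iff.1 hg, mul_inv_cancel_right]; exact mem_zpowers y)
  have hCp : IsPGroup p (centralizer ({y} : Set G)) := by
    refine IsPGroup.of_card (n := (Nat.card (centralizer ({y} : Set G))).primeFactorsList.length) ?_
    refine Nat.eq_prime_pow_of_unique_prime_dvd Nat.card_pos.ne' fun {r} hr hrd => ?_
    rcases hsm r hr (hrd.trans (card_dvd_of_le hCL)) with e | e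
    · exact e
    · subst e
      have : Fact (Nat.Prime 2) := ⟨Nat.prime_two⟩
      obtain ⟨s, hs⟩ := exists_prime_orderOf_dvd_card' (G := centralizer ({y} : Set G)) 2 hrd
      exact (h.no_good y ⟨hy1, ⟨i, hi⟩, ⟨t, ht, hty⟩, s, by rw [Subgroup.orderOf_coe]; exact hs,
        Subgroup.mem_centralizer_singleton_iff.1 s.2⟩).elim
  exact P.3 hCp fun g hg => Subgroup.mem_centralizer_singleton_iff.2 (h.comm_P P hg hy)

/-- The configuration is impossible. -/
theorem Conf.false (h : Conf p a G) : False := by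
  classical
  have : Fact (Nat.Prime 2) := ⟨Nat.prime_two⟩
  haveI := h.simple
  have := Fintype.ofFinite G
  obtain ⟨t', ht'⟩ := exists_prime_orderOf_dvd_card' (G := G) 2 h.two_dvd
  obtain ⟨t, g, ht, hg2, htg⟩ : ∃ t g : G, orderOf t = 2 ∧ g * g ≠ 1 ∧ t * g * t⁻¹ = g⁻¹ := by
    by_contra hex
    push Not at hex
    have hcomm : ∀ b c : G, orderOf b = 2 → orderOf c = 2 → b * c = c * b := by
      intro b c hb hc
      have h1 : b * (b * c) * b⁻¹ = (b * c)⁻¹ := by
        rw [mul_inv_rev, inv_eq_self_of_involution hb, inv_eq_self_of_involution hc, ← mul_assoc,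
          mul_self_eq_one hb, one_mul]
      by_contra hne
      refine hex b (b * c) hb (fun e => hne ?_) h1
      have := inv_eq_of_mul_eq_one_left e
      rw [mul_inv_rev, inv_eq_self_of_involution hb, inv_eq_self_of_involution hc] at this
      exact this.symm
    let M := Subgroup.closure {b : G | orderOf b = 2}
    have hMn : M.Normal := ⟨fun m hm g => by
      refine Subgroup.closure_induction (fun b hb => ?_) (by simp) (fun b c _ _ hb hc => ?_)
        (fun b _ hb => ?_) hm
      · exact Subgroup.subset_closure ((MulEquiv.orderOf_eq (MulAut.conj g) b).trans hb)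
      · rw [← conj_mul]; exact M.mul_mem hb hc
      · rw [← conj_inv]; exact M.inv_mem hb⟩
    have htM : t' ∈ M := Subgroup.subset_closure ht'
    rcases h.simple.eq_bot_or_eq_top_of_normal M hMn with e | e
    · rw [e, Subgroup.mem_bot] at htM
      exact ne_one_of_involution ht' htM
    · refine h.centralizer_ne_top (ne_one_of_involution ht') (eq_top_iff.2 ?_)
      rw [← e]
      exact (Subgroup.closure_le _).2 fun b hb =>
        Subgroup.mem_centralizer_singleton_iff.2 (hcomm b t' hb ht')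
  obtain ⟨j, hj, -⟩ := h.real_ppower ht htg hg2
  obtain ⟨P, hgP⟩ := exists_sylow_mem (q := p) hj.dvd
  have hg1 : g ≠ 1 := fun e => hg2 (by rw [e, mul_one])
  obtain ⟨k, hk⟩ := P.2.exists_card_eq
  have hcardP : Nat.card P = p ^ k := hk
  have hdvdP : ∀ w ∈ (P : Subgroup G), orderOf w ∣ p ^ k := fun w hw =>
    hcardP ▸ (P : Subgroup G).orderOf_dvd_natCard hw
  have hk0 : k ≠ 0 := fun e => by
    have := hdvdP g hgP
    rw [e, pow_zero] at this
    exact hg1 (orderOf_eq_one_iff.1 (Nat.dvd_one.1 this))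
  have hCg := h.centralizer_real hgP hg1 ht htg
  have htN : t ∈ normalizer ((P : Subgroup G) : Set G) := by
    refine H79.mem_normalizer_of_conj_mem _ fun w hw => ?_
    rw [← hCg, Subgroup.mem_centralizer_singleton_iff]
    have hc : w * g⁻¹ = g⁻¹ * w := h.comm_P P hw (inv_mem hgP)
    have e : t * g⁻¹ * t⁻¹ = g := by rw [← conj_inv, htg, inv_inv]
    calc t * w * t⁻¹ * g = t * w * t⁻¹ * (t * g⁻¹ * t⁻¹) := by rw [e]
      _ = t * (w * g⁻¹) * t⁻¹ := by group
      _ = t * (g⁻¹ * w) * t⁻¹ := by rw [hc]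
      _ = (t * g⁻¹ * t⁻¹) * (t * w * t⁻¹) := by group
      _ = g * (t * w * t⁻¹) := by rw [e]
  -- a Sylow 2-subgroup of the normaliser
  set N := normalizer ((P : Subgroup G) : Set G) with hNdef
  obtain ⟨R, hR⟩ := exists_sylow_mem (q := 2) (g := (⟨t, htN⟩ : N)) (k := 1)
    (by rw [Subgroup.orderOf_mk, ht, pow_one])
  set T : Subgroup G := (R : Subgroup N).map N.subtype with hT
  have htT : t ∈ T := ⟨_, hR, rfl⟩
  have hT2 : IsPGroup 2 T := R.2.map _
  obtain ⟨S₀, hS₀⟩ := hT2.exists_le_sylow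
  obtain ⟨hdec, -⟩ := h.normalizer_dec P ht htN T hT2 (map_subtype_le _) (fun Q hQ hTQ hQN => by
    have e : Q.subgroupOf N = (R : Subgroup N) := R.3
      (hQ.comap_of_injective N.subtype N.subtype_injective)
      (fun w hw => hTQ (mem_map_of_mem _ hw))
    rw [hT, ← e, subgroupOf_map_subtype, inf_eq_left.2 hQN])
  have hTcomm : ∀ b ∈ T, ∀ c ∈ T, b * c = c * b := fun b hb c hc =>
    h.comm_sylow S₀ (hS₀ hb) (hS₀ hc)
  have hTsq : ∀ b ∈ T, b * b = 1 := fun b hb => (h.sylow_facts S₀).1 b (hS₀ hb)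
  have hord : ∀ w ∈ (P : Subgroup G), ∀ v : G, v * w * v⁻¹ = w⁻¹ → v * v = 1 → w ≠ 1 → orderOf v = 2 := by
    intro w hw v hvw hv hw1
    refine orderOf_eq_two_iff_mul.2 ⟨fun e => hw1 ?_, hv⟩
    rw [e, inv_one, mul_one, one_mul] at hvw
    exact h.P_inf_two P hw (k := 1)
      (by rw [pow_one]; exact orderOf_dvd_of_pow_eq_one (by rw [pow_two]; exact eq_inv_iff_mul_eq_one.1 hvw))
  have hfree : ∀ w ∈ (P : Subgroup G), t * w = w * t → w = 1 := by
    intro w hw htw
    by_contra hw1
    let W : Subgroup G := (P : Subgroup G) ⊓ centralizer ({t} : Set G)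
    have hTW : ∀ b ∈ T, ∀ w ∈ W, b * w * b⁻¹ ∈ W := by
      intro b hb w hw
      refine ⟨(mem_normalizer_iff.1 (map_subtype_le _ hb) w).1 hw.1,
        Subgroup.mem_centralizer_singleton_iff.2 ?_⟩
      have e : b⁻¹ * t * b = t := by rw [mul_assoc, hTcomm t htT b hb, inv_mul_cancel_left]
      calc b * w * b⁻¹ * t = b * (w * (b⁻¹ * t * b)) * b⁻¹ := by group
        _ = b * (t * w) * b⁻¹ := by rw [e, Subgroup.mem_centralizer_singleton_iff.1 hw.2]
        _ = t * (b * w * b⁻¹) := by
          rw [← mul_assoc, hTcomm b hb t htT]; group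
    obtain ⟨q, hqW, hq1, -, v, hvT, hvq⟩ := h.exists_eigen P T W hTcomm hTsq hdec inf_le_left
      (fun e => hw1 (mem_bot.1 (e ▸ (⟨hw, Subgroup.mem_centralizer_singleton_iff.2 htw.symm⟩ : w ∈ W)))) hTW
    obtain ⟨i, -, hi⟩ := (Nat.dvd_prime_pow hp.out).1 (hdvdP q hqW.1)
    exact h.no_good q ⟨hq1, ⟨i, hi⟩, ⟨v, hord q hqW.1 v hvq (hTsq v hvT) hq1, hvq⟩, t, ht,
      (Subgroup.mem_centralizer_singleton_iff.1 hqW.2).symm⟩
  have htinv : ∀ w ∈ (P : Subgroup G), t * w * t⁻¹ = w⁻¹ := by
    intro w hw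
    have hw' : t * w * t⁻¹ ∈ (P : Subgroup G) := (mem_normalizer_iff.1 htN w).1 hw
    have hc := h.comm_P P hw hw'
    have e := hfree _ (mul_mem hw hw') (by
      rw [inv_eq_self_of_involution ht] at hc ⊢
      calc t * (w * (t * w * t)) = (t * w * t) * w * t := by group
        _ = w * (t * w * t) * t := by rw [← hc])
    exact eq_inv_of_mul_eq_one_right e
  have hCP : ∀ w ∈ (P : Subgroup G), w ≠ 1 → centralizer ({w} : Set G) = (P : Subgroup G) := fun w hw hw1 =>
    h.centralizer_real hw hw1 ht (htinv w hw)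
  -- centralisers of involutions
  have hA : ∀ s : G, orderOf s = 2 → ∀ S : Sylow 2 G, s ∈ (S : Subgroup G) →
      centralizer ({s} : Set G) = (S : Subgroup G) := by
    intro s hs S hsS
    refine S.3 ?_ fun b hb => Subgroup.mem_centralizer_singleton_iff.2 (h.comm_sylow S hb hsS)
    refine IsPGroup.of_card (n := (Nat.card (centralizer ({s} : Set G))).primeFactorsList.length) ?_
    refine Nat.eq_prime_pow_of_unique_prime_dvd Nat.card_pos.ne' fun {r} hr hrd => ?_
    rcases h.small_centralizer (ne_one_of_involution hs) hs rfl r hr hrd with e | e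
    · exfalso
      subst e
      obtain ⟨x, hx⟩ := exists_prime_orderOf_dvd_card' (G := centralizer ({s} : Set G)) r hrd
      have hxo : orderOf (x : G) = r := by rw [Subgroup.orderOf_coe]; exact hx
      obtain ⟨c, hc⟩ := CycSylow.exists_conj_mem_sylow P (k := 1)
        (by rw [hxo, pow_one] : orderOf (x : G) ∣ r ^ 1)
      have hx1 : c * (x : G) * c⁻¹ ≠ 1 := fun e => hr.one_lt.ne' (by
        rw [← hxo, show (x : G) = 1 by simpa using e, orderOf_one])
      have hmem : c * s * c⁻¹ ∈ centralizer ({c * (x : G) * c⁻¹} : Set G) := by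
        rw [Subgroup.mem_centralizer_singleton_iff]
        calc c * s * c⁻¹ * (c * (x : G) * c⁻¹) = c * (s * (x : G)) * c⁻¹ := by group
          _ = c * ((x : G) * s) * c⁻¹ := by rw [Subgroup.mem_centralizer_singleton_iff.1 x.2]
          _ = _ := by group
      rw [hCP _ hc hx1] at hmem
      exact ne_one_of_involution ((orderOf_conj c s).trans hs)
        (h.P_inf_two P hmem (k := 1) (by rw [orderOf_conj, hs, pow_one]))
    · exact e
  set I : G → Finset G := fun s => (invs G).filter fun b => b * s = s * b with hI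
  have hIcard : ∀ s : G, orderOf s = 2 → (I s).card = p := by
    intro s hs
    obtain ⟨S, hsS⟩ := exists_sylow_mem (q := 2) (g := s) (k := 1) (by rw [hs, pow_one])
    have e : I s = (Finset.univ.filter fun b : G => b ∈ (S : Subgroup G)).erase 1 := by
      ext b
      simp only [hI, Finset.mem_filter, mem_invs, Finset.mem_erase, Finset.mem_univ, true_and]
      rw [← hA s hs S hsS, Subgroup.mem_centralizer_singleton_iff]
      constructor
      · exact fun hb => ⟨ne_one_of_involution hb.1, hb.2⟩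
      · rintro ⟨hb1, hb⟩
        refine ⟨orderOf_eq_two_iff_mul.2 ⟨hb1, (h.sylow_facts S).1 b ?_⟩, hb⟩
        rw [← hA s hs S hsS, Subgroup.mem_centralizer_singleton_iff]; exact hb
    rw [e, Finset.card_erase_of_mem (by simp), ← Fintype.card_subtype]
    have h0 : Fintype.card {b : G // b ∈ (S : Subgroup G)} = 2 ^ a := by
      rw [← Nat.card_eq_fintype_card]; exact h.sylow_card S
    rw [h0]
    have := h.hpa
    omega
  have hconj : ∀ b c : G, orderOf b = 2 → orderOf c = 2 → IsConj b c := by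
    intro b c hb hc
    obtain ⟨S, hS⟩ := exists_sylow_mem (q := 2) (g := b) (k := 1) (by rw [hb, pow_one])
    obtain ⟨d, hd⟩ := CycSylow.exists_conj_mem_sylow S (k := 1) (by rw [hc, pow_one] : orderOf c ∣ 2 ^ 1)
    obtain ⟨-, x, -, -, htr⟩ := h.sylow_facts S
    obtain ⟨i, hi⟩ := htr b hS _ hd (ne_one_of_involution hb)
      (ne_one_of_involution ((orderOf_conj d c).trans hc))
    exact (isConj_iff.2 ⟨x ^ i, hi⟩).trans (isConj_iff.2 ⟨d, rfl⟩).symm
  have hm : p ^ k ∣ (invs G).card := by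
    obtain ⟨S, hsS⟩ := exists_sylow_mem (q := 2) (g := t) (k := 1) (by rw [ht, pow_one])
    have e : (invs G : Set G) = {y | IsConj t y} := by
      ext y
      rw [Finset.mem_coe, mem_invs, Set.mem_setOf_eq]
      refine ⟨fun hy => hconj t y ht hy, fun hy => ?_⟩
      obtain ⟨c, rfl⟩ := isConj_iff.1 hy
      exact (orderOf_conj c t).trans ht
    rw [← Set.ncard_coe_finset, e, ncard_conjugates, hA t ht S hsS]
    refine Nat.Coprime.dvd_of_dvd_mul_left ?_ (hcardP ▸ ((S : Subgroup G).card_mul_index.symm ▸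
      (P : Subgroup G).card_subgroup_dvd_card))
    rw [h.sylow_card]
    exact ((Nat.coprime_primes hp.out Nat.prime_two).2 h.p_ne_two).pow _ _
  set R : Finset G := Finset.univ.filter fun z => z ≠ 1 ∧ ∃ j, orderOf z = p ^ j with hRdef
  have hRconj : ∀ z ∈ R, ∃ c : G, c * z * c⁻¹ ∈ (P : Subgroup G) ∧ c * z * c⁻¹ ≠ 1 := by
    intro z hz
    simp only [hRdef, Finset.mem_filter, Finset.mem_univ, true_and] at hz
    obtain ⟨hz1, j, hj⟩ := hz
    obtain ⟨c, hc⟩ := CycSylow.exists_conj_mem_sylow P hj.dvd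
    exact ⟨c, hc, fun e => hz1 (by simpa using e)⟩
  have hRval : ∀ z ∈ R, (invPairs z).card = p ^ k := by
    intro z hz
    obtain ⟨c, hc, hc1⟩ := hRconj z hz
    have hmem : t ∈ invPairs (c * z * c⁻¹) := mem_invPairs_iff_inverts.2 ⟨ht, fun e => by
      have e' : t = (c * z * c⁻¹)⁻¹ := eq_inv_of_mul_eq_one_left e
      exact ne_one_of_involution ht (h.P_inf_two P (g := t) (e' ▸ inv_mem hc) (k := 1) (by rw [ht, pow_one])),
      htinv _ hc⟩
    have e := card_invPairs_eq hmem fun b hb hbt => by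
      rw [hCP _ hc hc1] at hb
      exact hfree b hb hbt.eq.symm
    rw [hCP _ hc hc1] at e
    rw [← hcardP, ← e]
    symm
    refine Finset.card_bij (fun w _ => c⁻¹ * w * c) (fun w hw => ?_) (fun w _ w' _ e => by simpa using e)
      (fun w hw => ⟨c * w * c⁻¹, ?_, by group⟩)
    · rw [mem_invPairs] at hw ⊢
      rw [show c⁻¹ * w * c * z = c⁻¹ * (w * (c * z * c⁻¹)) * (c⁻¹)⁻¹ by group,
        show c⁻¹ * w * c = c⁻¹ * w * (c⁻¹)⁻¹ by group]
      exact ⟨(orderOf_conj c⁻¹ w).trans hw.1, (orderOf_conj c⁻¹ _).trans hw.2⟩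
    · rw [mem_invPairs] at hw ⊢
      rw [show c * w * c⁻¹ * (c * z * c⁻¹) = c * (w * z) * c⁻¹ by group]
      exact ⟨(orderOf_conj c w).trans hw.1, (orderOf_conj c _).trans hw.2⟩
  have hinvval : ∀ z ∈ invs G, (invPairs z).card + 1 = p := by
    intro z hz
    rw [mem_invs] at hz
    have hzI : z ∈ I z := by simp [hI, hz]
    have e : invPairs z = (I z).erase z := by
      ext w
      rw [mem_invPairs_of_involution hz]
      simp only [hI, Finset.mem_erase, Finset.mem_filter, mem_invs]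
      exact ⟨fun hw => ⟨hw.2.2, hw.1, hw.2.1.eq⟩, fun hw => ⟨hw.2.1, hw.2.2, hw.1⟩⟩
    rw [e, Finset.card_erase_add_one hzI, hIcard z hz]
  have hzero : ∀ z : G, z ≠ 1 → z ∉ invs G → z ∉ R → (invPairs z).card = 0 := by
    intro z hz1 hzi hzR
    rw [Finset.card_eq_zero, Finset.eq_empty_iff_forall_notMem]
    intro w hw
    obtain ⟨hw2, -, hwz⟩ := mem_invPairs_iff_inverts.1 hw
    obtain ⟨j, hj, -⟩ := h.real_ppower hw2 hwz fun e =>
      hzi (mem_invs.2 (orderOf_eq_two_iff_mul.2 ⟨hz1, e⟩))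
    exact hzR (Finset.mem_filter.2 ⟨Finset.mem_univ _, hz1, j, hj⟩)
  have hdisj : Disjoint (invs G) R := by
    rw [Finset.disjoint_left]
    intro z hz hzR
    simp only [hRdef, Finset.mem_filter, Finset.mem_univ, true_and] at hzR
    obtain ⟨-, j, hj⟩ := hzR
    rw [mem_invs] at hz
    rw [hz] at hj
    rcases j with _ | j
    · simp at hj
    · exact h.two_ne (hj ▸ dvd_pow_self p j.succ_ne_zero)
  have hsum : (invs G).card * (invs G).card = (invs G).card * p + R.card * p ^ k := by
    have h1not : (1 : G) ∉ invs G ∪ R := by simp [hRdef]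
    have hI2 : ∑ z ∈ invs G, ((invPairs z).card + 1) = (invs G).card * p := by
      rw [Finset.sum_congr rfl hinvval, Finset.sum_const, smul_eq_mul]
    rw [Finset.sum_add_distrib, Finset.sum_const, smul_eq_mul, mul_one] at hI2
    rw [← sum_card_invPairs, ← Finset.sum_subset (Finset.subset_univ (insert 1 (invs G ∪ R)))
      (fun z _ hz => by
        simp only [Finset.mem_insert, Finset.mem_union, not_or] at hz
        exact hzero z hz.1 hz.2.1 hz.2.2),
      Finset.sum_insert h1not, invPairs_one, Finset.sum_union hdisj, Finset.sum_congr rfl hRval,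
      Finset.sum_const, smul_eq_mul]
    omega
  have hmm : p ^ (k + 1) ∣ (invs G).card * (invs G).card := by
    refine (pow_dvd_pow p (show k + 1 ≤ k + k by omega)).trans ?_
    rw [pow_add]
    exact mul_dvd_mul hm hm
  have hmp : p ^ (k + 1) ∣ (invs G).card * p := by rw [pow_succ]; exact mul_dvd_mul_right hm _
  rw [hsum, Nat.dvd_add_right hmp, pow_succ'] at hmm
  have hRp : p ∣ R.card := (Nat.mul_dvd_mul_iff_right (pow_pos hp.out.pos k)).1 hmm
  -- count `R` modulo `p`
  have hmap : ∀ z ∈ R, g * z * g⁻¹ ∈ R := by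
    intro z hz
    simp only [hRdef, Finset.mem_filter, Finset.mem_univ, true_and] at hz ⊢
    obtain ⟨hz1, i, hi⟩ := hz
    exact ⟨fun e => hz1 (by simpa using e), i, (orderOf_conj g z).trans hi⟩
  let σ : Equiv.Perm {z // z ∈ R} :=
    Equiv.ofBijective (fun z => ⟨g * z.1 * g⁻¹, hmap _ z.2⟩)
      (Finite.injective_iff_bijective.1 fun b c e => Subtype.ext (by
        simpa using congrArg Subtype.val e))
  have hσn : ∀ n : ℕ, ∀ z, ((σ ^ n) z).1 = g ^ n * z.1 * (g ^ n)⁻¹ := by
    intro n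
    induction n with
    | zero => intro s; simp
    | succ n ih =>
      intro s
      rw [pow_succ', Equiv.Perm.mul_apply]
      show g * ((σ ^ n) s).1 * g⁻¹ = _
      rw [ih, pow_succ']
      group
  have hσ : σ ^ p ^ k = 1 := Equiv.ext fun s => Subtype.ext (by
    rw [hσn, orderOf_dvd_iff_pow_eq_one.1 (hdvdP g hgP)]; simp)
  have e := Equiv.Perm.card_compl_support_modEq hσ
  have hfix : σ.supportᶜ.map (Function.Embedding.subtype _) =
      (Finset.univ.filter fun z : G => z ∈ (P : Subgroup G)).erase 1 := by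
    ext z
    simp only [Finset.mem_map, Finset.mem_compl, Equiv.Perm.mem_support, not_not,
      Function.Embedding.coe_subtype, Finset.mem_erase, Finset.mem_filter, Finset.mem_univ, true_and]
    constructor
    · rintro ⟨z, hz, rfl⟩
      have hz2 := z.2
      simp only [hRdef, Finset.mem_filter, Finset.mem_univ, true_and] at hz2
      refine ⟨hz2.1, ?_⟩
      rw [← hCg, Subgroup.mem_centralizer_singleton_iff]
      exact (mul_inv_eq_iff_eq_mul.1 (congrArg Subtype.val hz)).symm
    · rintro ⟨hz1, hzP⟩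
      obtain ⟨i, -, hi⟩ := (Nat.dvd_prime_pow hp.out).1 (hdvdP z hzP)
      refine ⟨⟨z, Finset.mem_filter.2 ⟨Finset.mem_univ _, hz1, i, hi⟩⟩, Subtype.ext ?_, rfl⟩
      show g * z * g⁻¹ = z
      rw [h.comm_P P hgP hzP, mul_inv_cancel_right]
  rw [← Finset.card_map (Function.Embedding.subtype _), hfix, Finset.card_erase_of_mem (by simp),
    Fintype.card_coe, ← Fintype.card_subtype] at e
  have h0 : Fintype.card {z : G // z ∈ (P : Subgroup G)} = p ^ k := by
    rw [← Nat.card_eq_fintype_card]; exact hcardP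
  rw [h0] at e
  have h1 : p ∣ p ^ k - 1 :=
    Nat.modEq_zero_iff_dvd.1 (e.trans (Nat.modEq_zero_iff_dvd.2 hRp))
  have h2 := Nat.dvd_sub (dvd_pow_self p hk0) h1
  rw [Nat.sub_sub_self (Nat.one_le_pow _ _ hp.out.pos)] at h2
  exact hp.out.one_lt.ne' (Nat.dvd_one.1 h2)

end H79.TwoPrime
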