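import Cfsg.Agent.H79TwoPrime

/-! Real `p`-elements with centralisers of even order. -/

set_option autoImplicit false

namespace H79.TwoPrime

open Subgroup CfsgLib.InvChar CfsgLib.Involutions

universe u

variable {G : Type u} [Group G] [Finite G] {p a : ℕ} [hp : Fact p.Prime]

/-- A nontrivial `p`-element inverted by an involution and commuting with another. -/
def Good (p : ℕ) (y : G) : Prop :=
  y ≠ 1 ∧ (∃ k, orderOf y = p ^ k) ∧ (∃ t, orderOf t = 2 ∧ t * y * t⁻¹ = y⁻¹) ∧
    ∃ s, orderOf s = 2 ∧ s * y = y * s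

theorem Good.conj {y : G} (hy : Good p y) (g : G) : Good p (g * y * g⁻¹) := by
  obtain ⟨h1, ⟨k, hk⟩, ⟨t, ht, hty⟩, s, hs, hsy⟩ := hy
  refine ⟨fun e => h1 (by simpa using e), ⟨k, (orderOf_conj g y).trans hk⟩,
    ⟨g * t * g⁻¹, (orderOf_conj g t).trans ht, ?_⟩, g * s * g⁻¹, (orderOf_conj g s).trans hs, ?_⟩
  · calc g * t * g⁻¹ * (g * y * g⁻¹) * (g * t * g⁻¹)⁻¹ = g * (t * y * t⁻¹) * g⁻¹ := by group
      _ = g * y⁻¹ * g⁻¹ := by rw [hty]
      _ = _ := by group
  · calc g * s * g⁻¹ * (g * y * g⁻¹) = g * (s * y) * g⁻¹ := by group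
      _ = g * (y * s) * g⁻¹ := by rw [hsy]
      _ = _ := by group

theorem Conf.centralizer_ne_top (h : Conf p a G) {z : G} (hz : z ≠ 1) :
    centralizer ({z} : Set G) ≠ ⊤ := by
  intro e
  have hzc : z ∈ Subgroup.center G := Subgroup.mem_center_iff.2 fun g =>
    Subgroup.mem_centralizer_singleton_iff.1 (e ▸ mem_top g)
  rcases h.simple.eq_bot_or_eq_top_of_normal (Subgroup.center G) inferInstance with e' | e'
  · exact hz (Subgroup.mem_bot.1 (e' ▸ hzc))
  · have hP : ∀ g u : G, g * u = u * g := fun g u =>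
      Subgroup.mem_center_iff.1 (e' ▸ mem_top u : u ∈ Subgroup.center G) g
    have hc : commutator G = ⊥ := by
      rw [commutator_def, Subgroup.commutator_eq_bot_iff_le_centralizer]
      intro g _
      rw [mem_centralizer_iff]
      exact fun u _ => hP u g
    rw [h.perfect] at hc
    exact hz (Subgroup.mem_bot.1 (hc ▸ mem_top z))

theorem Conf.small_centralizer (h : Conf p a G) {z s : G} (hz : z ≠ 1) (hs : orderOf s = 2)
    (hsz : s * z = z * s) : ∀ r : ℕ, r.Prime → r ∣ Nat.card (centralizer ({z} : Set G)) → r = p ∨ r = 2 :=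
  h.small _ (h.centralizer_ne_top hz)
    (hs ▸ Subgroup.orderOf_dvd_natCard _ (Subgroup.mem_centralizer_singleton_iff.2 hsz))

omit [Finite G] hp in
theorem normal_centralizer_in_normalizer {y n c : G} {i : ℕ} (hn : n⁻¹ * y * n = y ^ i)
    (hc : c * y = y * c) : n * c * n⁻¹ * y = y * (n * c * n⁻¹) := by
  have h1 : c * y ^ i = y ^ i * c := ((show Commute c y from hc).pow_right i).eq
  calc n * c * n⁻¹ * y = n * (c * (n⁻¹ * y * n)) * n⁻¹ := by group
    _ = n * ((n⁻¹ * y * n) * c) * n⁻¹ := by rw [hn, h1]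
    _ = _ := by group

/-- A group of 2-elements of order below `2 ^ a` admits no nontrivial action of a `p`-element. -/
theorem Conf.commute_two (h : Conf p a G) {Q : Subgroup G} (hQ : IsPGroup 2 Q) {g : G} {k : ℕ}
    (hg : g ∈ normalizer (Q : Set G)) (hgo : orderOf g ∣ p ^ k)
    (hfix : ∃ z, z * z = 1 ∧ z ≠ 1 ∧ g * z = z * g ∧ (∀ q ∈ Q, q * z = z * q) ∨
      Nat.card Q < 2 ^ a) : ∀ q ∈ Q, g * q = q * g := by
  classical
  have : Fact (Nat.Prime 2) := ⟨Nat.prime_two⟩
  have hfpf : ∀ R : Subgroup G, IsPGroup 2 R → g ∈ normalizer (R : Set G) →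
      (∃ q ∈ R, g * q ≠ q * g) → Nat.card R = 2 ^ a ∧ ∀ q ∈ R, g * q = q * g → q = 1 := by
    intro R hR hgR ⟨q₀, hq₀, hne⟩
    have hgm : ∀ q : R, g * q.1 * g⁻¹ ∈ R := fun q => (mem_normalizer_iff.1 hgR _).1 q.2
    have := Fintype.ofFinite R
    let σ : Equiv.Perm R := Equiv.ofBijective (fun q => ⟨g * q.1 * g⁻¹, hgm q⟩)
      (Finite.injective_iff_bijective.1 fun b c e => Subtype.ext (by
        simpa using congrArg Subtype.val e))
    have hσn : ∀ n : ℕ, ∀ q, ((σ ^ n) q).1 = g ^ n * q.1 * (g ^ n)⁻¹ := by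
      intro n
      induction n with
      | zero => intro s; simp
      | succ n ih =>
        intro s
        rw [pow_succ', Equiv.Perm.mul_apply]
        show g * ((σ ^ n) s).1 * g⁻¹ = _
        rw [ih, pow_succ']
        group
    have hσ : σ ^ p ^ k = 1 := Equiv.ext fun s => Subtype.ext (by
      rw [hσn, orderOf_dvd_iff_pow_eq_one.1 hgo]; simp)
    have e := Equiv.Perm.card_compl_support_modEq hσ
    let F : Subgroup R :=
      { carrier := {q | g * q.1 = q.1 * g}
        one_mem' := by simp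
        mul_mem' := fun {b c} hb hc => (show Commute g b.1 from hb).mul_right hc
        inv_mem' := fun {b} hb => (show Commute g b.1 from hb).inv_right }
    have hF : σ.supportᶜ = Finset.univ.filter fun q => q ∈ F := by
      ext q
      simp only [Finset.mem_compl, Equiv.Perm.mem_support, not_not, Finset.mem_filter, Finset.mem_univ,
        true_and]
      constructor
      · intro e; exact mul_inv_eq_iff_eq_mul.1 (congrArg Subtype.val e)
      · intro e; exact Subtype.ext (mul_inv_eq_iff_eq_mul.2 e)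
    rw [hF, ← Fintype.card_subtype, ← Nat.card_eq_fintype_card, ← Nat.card_eq_fintype_card] at e
    obtain ⟨n, hn⟩ := hR.exists_card_eq
    have hdv : Nat.card F ∣ 2 ^ n := hn ▸ F.card_subgroup_dvd_card
    obtain ⟨m, hm, hFm⟩ := (Nat.dvd_prime_pow Nat.prime_two).1 hdv
    have hlt : m < n := by
      refine lt_of_le_of_ne hm fun e' => hne ?_
      have : F = ⊤ := F.eq_top_of_card_eq (by rw [hFm, e', hn])
      exact (this ▸ mem_top (⟨q₀, hq₀⟩ : R) : (⟨q₀, hq₀⟩ : R) ∈ F)
    have hna : n ≤ a := by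
      have h2 : 2 ^ n ∣ Nat.card G := hn ▸ R.card_subgroup_dvd_card
      obtain ⟨S, -⟩ := h.transitive
      have := S.pow_dvd_card_of_pow_dvd_card h2
      rw [h.sylow_card] at this
      exact (Nat.pow_dvd_pow_iff_le_right (by norm_num)).1 this
    change Nat.card F ≡ Nat.card R [MOD p] at e
    rw [hFm, hn] at e
    have hle : 2 ^ m ≤ 2 ^ n := Nat.pow_le_pow_right (by norm_num) hm
    have hd := (Nat.modEq_iff_dvd' hle).1 e
    have hpos : 2 ^ m < 2 ^ n := Nat.pow_lt_pow_right (by norm_num) hlt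
    have hpd := Nat.le_of_dvd (by omega) hd
    have hna2 : 2 ^ n ≤ 2 ^ a := Nat.pow_le_pow_right (by norm_num) hna
    have := h.hpa
    have hm1 : 1 ≤ 2 ^ m := Nat.one_le_pow _ _ (by norm_num)
    have hmn : 2 ^ n = 2 ^ a ∧ 2 ^ m = 1 := by constructor <;> omega
    refine ⟨hn.trans hmn.1, fun q hq hgq => ?_⟩
    have hF1 : F = ⊥ := Subgroup.card_eq_one.1 (hFm.trans hmn.2)
    have : (⟨q, hq⟩ : R) ∈ F := hgq
    rw [hF1, Subgroup.mem_bot] at this
    exact congrArg Subtype.val this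
  intro q hq
  by_contra hne
  obtain ⟨z, hz | hlt⟩ := hfix
  · obtain ⟨hz2, hz1, hgz, hzQ⟩ := hz
    obtain ⟨hcard, hfree⟩ := hfpf Q hQ hg ⟨q, hq, hne⟩
    -- `z` lies in `Q`
    have hzp : IsPGroup 2 (zpowers z) := by
      refine IsPGroup.of_card (n := 1) ?_
      rw [Nat.card_zpowers, pow_one]
      exact orderOf_eq_two_iff_mul.2 ⟨hz1, hz2⟩
    have hzn : zpowers z ≤ normalizer (Q : Set G) := by
      rw [zpowers_le]
      exact H79.mem_normalizer_of_conj_mem _ fun q hq => by
        rw [← hzQ q hq, mul_inv_cancel_right]; exact hq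
    obtain ⟨S, hS⟩ := (hzp.to_sup_of_normal_right' hQ hzn).exists_le_sylow
    have hQS : Q = (S : Subgroup G) := Subgroup.eq_of_le_of_card_ge (le_trans le_sup_right hS)
      (by rw [hcard, h.sylow_card])
    have hzQ' : z ∈ Q := hQS ▸ hS (mem_sup_left (mem_zpowers z))
    exact hz1 (hfree z hzQ' hgz)
  · exact absurd (hfpf Q hQ hg ⟨q, hq, hne⟩).1 (by omega)

/-- The `p`-elements of a `{2, p}`-subgroup with a normal 2-complement generate a `p`-group. -/
theorem Conf.npc_p (h : Conf p a G) {H : Subgroup G}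
    (hsm : ∀ r : ℕ, r.Prime → r ∣ Nat.card H → r = p ∨ r = 2)
    (hc : CfsgLib.Transfer.FrobeniusCond 2 H) :
    ∃ K : Subgroup G, IsPGroup p K ∧ K ≤ H ∧ ∀ g ∈ H, ∀ k, orderOf g ∣ p ^ k → g ∈ K := by
  have : Fact (Nat.Prime 2) := ⟨Nat.prime_two⟩
  have hn := CfsgLib.Transfer.hasNormalPComplement_of_frobeniusCond hc
  rw [CfsgLib.Transfer.hasNormalPComplement_iff] at hn
  refine ⟨(Cfsg.pResidual 2 H).map H.subtype, ?_, map_subtype_le _, fun g hg k hk => ?_⟩
  · refine IsPGroup.map ?_ _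
    refine IsPGroup.of_card (n := (Nat.card (Cfsg.pResidual 2 H)).primeFactorsList.length) ?_
    refine Nat.eq_prime_pow_of_unique_prime_dvd Nat.card_pos.ne' fun {q} hq hqd => ?_
    rcases hsm q hq (hqd.trans (card_subgroup_dvd_card _)) with e | e
    · exact e
    · exact absurd (e ▸ hqd) hn
  · refine ⟨⟨g, hg⟩, CfsgLib.Transfer.mem_pResidual ?_, rfl⟩
    rw [Subgroup.orderOf_mk]
    exact Nat.Coprime.coprime_dvd_left hk
      (((Nat.coprime_primes hp.out Nat.prime_two).2 h.p_ne_two).pow_left k)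

/-- `p`-elements of `C(s)`, `s` an involution, generate a `p`-group. -/
theorem Conf.centralizer_involution (h : Conf p a G) {s : G} (hs : orderOf s = 2) :
    ∃ K : Subgroup G, IsPGroup p K ∧ K ≤ centralizer ({s} : Set G) ∧
      ∀ g : G, g * s = s * g → ∀ k, orderOf g ∣ p ^ k → g ∈ K := by
  have : Fact (Nat.Prime 2) := ⟨Nat.prime_two⟩
  set H := centralizer ({s} : Set G) with hH
  obtain ⟨K, hK, hKle, hKmem⟩ := h.npc_p (H := H)
    (h.small_centralizer (ne_one_of_involution hs) hs rfl) (fun Q hQ g hg hgc => by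
      rw [mem_centralizer_iff]
      intro q hq
      have hgn : (g : G) ∈ normalizer ((Q.map H.subtype : Subgroup G) : Set G) := by
        refine H79.mem_normalizer_of_conj_mem _ fun w hw => ?_
        obtain ⟨w', hw', rfl⟩ := hw
        exact ⟨g * w' * g⁻¹, (mem_normalizer_iff.1 hg w').1 hw', rfl⟩
      obtain ⟨k, hk⟩ : ∃ k, orderOf g = p ^ k := ⟨_,
        Nat.eq_prime_pow_of_unique_prime_dvd (orderOf_pos g).ne' fun {r} hr hrd => by
          rcases h.small_centralizer (ne_one_of_involution hs) hs rfl r hr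
            (hrd.trans (_root_.orderOf_dvd_natCard g)) with e | e
          · exact e
          · exact absurd (e ▸ hrd) (Nat.prime_two.coprime_iff_not_dvd.1 hgc.symm)⟩
      have e := h.commute_two (hQ.map H.subtype) hgn (k := k) (by rw [Subgroup.orderOf_coe, hk])
        ⟨s, Or.inl ⟨mul_self_eq_one hs, ne_one_of_involution hs,
          Subgroup.mem_centralizer_singleton_iff.1 g.2, fun w hw => by
            obtain ⟨w', -, rfl⟩ := hw
            exact Subgroup.mem_centralizer_singleton_iff.1 w'.2⟩⟩ (q : G) (mem_map_of_mem _ hq)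
      exact Subtype.ext e.symm)
  exact ⟨K, hK, hKle, fun g hg k hk => hKmem g (Subgroup.mem_centralizer_singleton_iff.2 hg) k hk⟩

/-- The centraliser of a good element has a normal Sylow `p`-subgroup, containing it. -/
theorem Conf.good_sylow (h : Conf p a G) {y : G} (hy : Good p y) :
    ∃ P : Sylow p G, y ∈ (P : Subgroup G) ∧ (∀ g ∈ (P : Subgroup G), g * y = y * g) ∧
      ∀ g : G, g * y = y * g → ∀ k, orderOf g ∣ p ^ k → g ∈ (P : Subgroup G) := by
  classical
  have : Fact (Nat.Prime 2) := ⟨Nat.prime_two⟩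
  obtain ⟨hy1, ⟨k, hk⟩, ⟨t, ht, hty⟩, s, hs, hsy⟩ := hy
  obtain ⟨P, hP⟩ := exists_sylow_mem (q := p) (hk.dvd)
  have hPy : ∀ g ∈ (P : Subgroup G), g * y = y * g := fun g hg => h.comm_P P hg hP
  set H := centralizer ({y} : Set G) with hH
  have hbound : ∀ Q : Subgroup G, IsPGroup 2 Q → Q ≤ H → Nat.card Q < 2 ^ a := by
    intro Q hQ hQH
    -- `t` normalises `H`; compare with a Sylow subgroup of `H⟨t⟩`
    obtain ⟨S, hS⟩ := hQ.exists_le_sylow
    refine lt_of_le_of_ne (h.sylow_card S ▸ card_le_of_le hS) fun e => ?_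
    set L := normalizer ((zpowers y : Subgroup G) : Set G)
    have htL : t ∈ L := H79.mem_normalizer_zpowers (hty ▸ inv_mem (mem_zpowers y))
    have hHL : H ≤ L := fun g hg => H79.mem_normalizer_zpowers (by
      rw [Subgroup.mem_centralizer_singleton_iff.1 hg, mul_inv_cancel_right]; exact mem_zpowers y)
    haveI hn : (H.subgroupOf L).Normal := ⟨fun c hc n => by
      rw [mem_subgroupOf] at hc ⊢
      obtain ⟨i, hi⟩ := H79.exists_pow_of_mem_normalizer_zpowers (inv_mem n.2)
      rw [inv_inv] at hi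
      exact Subgroup.mem_centralizer_singleton_iff.2
        (normal_centralizer_in_normalizer hi (Subgroup.mem_centralizer_singleton_iff.1 hc))⟩
    obtain ⟨T₀, hT₀⟩ := exists_sylow_mem (q := 2) (g := (⟨t, htL⟩ : L)) (k := 1)
      (by rw [Subgroup.orderOf_mk, ht, pow_one])
    obtain ⟨T₁, hT₁⟩ := (hQ.comap_of_injective L.subtype L.subtype_injective).exists_le_sylow
    obtain ⟨c, hc⟩ := MulAction.exists_smul_eq L T₁ T₀
    -- `T₁` is all of `Q`
    have hT₁Q : (T₁ : Subgroup L).map L.subtype = Q := by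
      symm
      refine Subgroup.eq_of_le_of_card_ge (fun q hq => ?_) ?_
      · exact ⟨⟨q, hHL (hQH hq)⟩, hT₁ hq, rfl⟩
      · rw [e]
        obtain ⟨S', hS'⟩ := (T₁.2.map L.subtype).exists_le_sylow
        exact h.sylow_card S' ▸ card_le_of_le hS'
    have htm : (⟨t, htL⟩ : L) ∈ (c • T₁ : Sylow 2 L).toSubgroup := hc ▸ hT₀
    rw [Sylow.coe_subgroup_smul, mem_pointwise_smul_iff_inv_smul_mem] at htm
    have htQ : ((c⁻¹ * ⟨t, htL⟩ * c : L) : G) ∈ Q := by
      rw [← hT₁Q]; exact mem_map_of_mem L.subtype (by simpa [MulAut.smul_def] using htm)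
    have h1 := hn.conj_mem (c⁻¹ * ⟨t, htL⟩ * c) (mem_subgroupOf.2 (hQH htQ)) c
    rw [show c * (c⁻¹ * ⟨t, htL⟩ * c) * c⁻¹ = (⟨t, htL⟩ : L) by group, mem_subgroupOf,
      Subgroup.mem_centralizer_singleton_iff] at h1
    rw [h1, mul_inv_cancel_right] at hty
    have hy2 : y ^ 2 = 1 := by rw [pow_two]; exact eq_inv_iff_mul_eq_one.1 hty
    exact hy1 (CycSylow.eq_one_of_coprime_of_mem P.2
      (((Nat.coprime_primes Nat.prime_two hp.out).2 h.p_ne_two.symm).coprime_dvd_left
        (orderOf_dvd_of_pow_eq_one hy2)) hP)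
  have hsm := h.small_centralizer hy1 hs hsy
  obtain ⟨K, hK, -, hKmem⟩ := h.npc_p hsm (fun Q hQ g hg hgc => by
    rw [mem_centralizer_iff]
    intro q hq
    have hgn : (g : G) ∈ normalizer ((Q.map H.subtype : Subgroup G) : Set G) := by
      refine H79.mem_normalizer_of_conj_mem _ fun w hw => ?_
      obtain ⟨w', hw', rfl⟩ := hw
      exact ⟨g * w' * g⁻¹, (mem_normalizer_iff.1 hg w').1 hw', rfl⟩
    obtain ⟨j, hj⟩ : ∃ k, orderOf g = p ^ k := ⟨_,
      Nat.eq_prime_pow_of_unique_prime_dvd (orderOf_pos g).ne' fun {r} hr hrd => by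
        rcases hsm r hr (hrd.trans (_root_.orderOf_dvd_natCard g)) with e | e
        · exact e
        · exact absurd (e ▸ hrd) (Nat.prime_two.coprime_iff_not_dvd.1 hgc.symm)⟩
    exact Subtype.ext (h.commute_two (hQ.map H.subtype) hgn (k := j) (by rw [Subgroup.orderOf_coe, hj])
      ⟨1, Or.inr (hbound _ (hQ.map H.subtype) (map_subtype_le _))⟩ (q : G) (mem_map_of_mem _ hq)).symm)
  obtain ⟨n, hn⟩ := P.2.exists_card_eq
  have hPK : (P : Subgroup G) ≤ K := fun g hg =>
    hKmem g (Subgroup.mem_centralizer_singleton_iff.2 (hPy g hg)) n (hn ▸ (P : Subgroup G).orderOf_dvd_natCard hg)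
  have hKP : K = (P : Subgroup G) := P.3 hK hPK
  exact ⟨P, hP, hPy, fun g hg j hj => hKP ▸ hKmem g (Subgroup.mem_centralizer_singleton_iff.2 hg) j hj⟩

/-- Conjugation between good elements of `P` happens in `N(P)`. -/
theorem Conf.good_conj (h : Conf p a G) {P : Sylow p G} {y g : G} (hy : Good p y)
    (hyP : y ∈ (P : Subgroup G)) (hgy : g * y * g⁻¹ ∈ (P : Subgroup G)) :
    g ∈ normalizer ((P : Subgroup G) : Set G) := by
  obtain ⟨Q, -, -, hQ⟩ := h.good_sylow (hy.conj g)
  obtain ⟨n, hn⟩ := P.2.exists_card_eq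
  have hdvd : ∀ b ∈ (P : Subgroup G), orderOf b ∣ p ^ n := fun b hb =>
    hn ▸ (P : Subgroup G).orderOf_dvd_natCard hb
  have h1 : (P : Subgroup G) ≤ (Q : Subgroup G) := fun b hb =>
    hQ b (h.comm_P P hb hgy) n (hdvd b hb)
  have hPQ : (Q : Subgroup G) = (P : Subgroup G) := P.3 Q.2 h1
  refine H79.mem_normalizer_of_conj_mem _ fun b hb => ?_
  rw [← hPQ]
  refine hQ _ ?_ n (by rw [orderOf_conj]; exact hdvd b hb)
  calc g * b * g⁻¹ * (g * y * g⁻¹) = g * (b * y) * g⁻¹ := by group
    _ = g * (y * b) * g⁻¹ := by rw [h.comm_P P hb hyP]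
    _ = _ := by group

/-- The `p`-elements commuting with an involution that centralises a good element. -/
theorem Conf.good_K (h : Conf p a G) {P : Sylow p G} {y s : G} (hy : Good p y)
    (hyP : y ∈ (P : Subgroup G)) (hs : orderOf s = 2) (hsy : s * y = y * s) {z : G}
    (hzs : z * s = s * z) {k : ℕ} (hz : orderOf z ∣ p ^ k) : z ∈ (P : Subgroup G) := by
  obtain ⟨K, hK, -, hKmem⟩ := h.centralizer_involution hs
  obtain ⟨T, hT⟩ := hK.exists_le_sylow
  obtain ⟨Q, -, -, hQ⟩ := h.good_sylow hy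
  obtain ⟨j, hj⟩ := hy.2.1
  obtain ⟨n, hn⟩ := P.2.exists_card_eq
  have hzQ : z ∈ (Q : Subgroup G) :=
    hQ z (h.comm_P T (hT (hKmem z hzs k hz)) (hT (hKmem y hsy.symm j hj.dvd))) k hz
  have hPQ : (P : Subgroup G) ≤ (Q : Subgroup G) := fun b hb =>
    hQ b (h.comm_P P hb hyP) n (hn ▸ (P : Subgroup G).orderOf_dvd_natCard hb)
  rwa [P.3 Q.2 hPQ] at hzQ

/-- A good element commutes with only one involution of each abelian 2-subgroup. -/
theorem Conf.good_unique (h : Conf p a G) {y s s' : G} (hy : Good p y) (hs : orderOf s = 2)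
    (hs' : orderOf s' = 2) (hc : s * s' = s' * s) (hsy : s * y = y * s) (hsy' : s' * y = y * s') :
    s = s' := by
  have : Fact (Nat.Prime 2) := ⟨Nat.prime_two⟩
  by_contra hne
  obtain ⟨P, hyP, -, -⟩ := h.good_sylow hy
  -- a Sylow subgroup containing both
  obtain ⟨S, hS⟩ := ((IsPGroup.of_card (p := 2) (n := 1) (by rw [Nat.card_zpowers, hs, pow_one]) :
      IsPGroup 2 (zpowers s)).to_sup_of_normal_right'
    (IsPGroup.of_card (p := 2) (n := 1) (by rw [Nat.card_zpowers, hs', pow_one]) :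
      IsPGroup 2 (zpowers s'))
    (by
      rw [zpowers_le]
      exact H79.mem_normalizer_zpowers (by rw [hc, mul_inv_cancel_right]; exact mem_zpowers s'))).exists_le_sylow
  have hsS := hS (mem_sup_left (mem_zpowers s))
  have hs'S := hS (mem_sup_right (mem_zpowers s'))
  obtain ⟨-, x, ⟨k, hk⟩, hx, htr⟩ := h.sylow_facts S
  obtain ⟨i, hi⟩ := htr s hsS s' hs'S (ne_one_of_involution hs) (ne_one_of_involution hs')
  set w := x ^ i
  obtain ⟨j, hj⟩ := hy.2.1
  have hy' : w * y * w⁻¹ ∈ (P : Subgroup G) := by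
    refine h.good_K hy hyP hs' hsy' ?_ (k := j) (by rw [orderOf_conj, hj])
    rw [← hi]
    calc w * y * w⁻¹ * (w * s * w⁻¹) = w * (y * s) * w⁻¹ := by group
      _ = w * (s * y) * w⁻¹ := by rw [hsy]
      _ = _ := by group
  have hwN := h.good_conj hy hyP hy'
  have hwP : w ∈ (P : Subgroup G) :=
    CycSylow.mem_sylow_of_pow (k := k) hwN ((orderOf_pow_dvd i).trans hk.dvd)
  have hsN : s ∈ normalizer ((P : Subgroup G) : Set G) :=
    h.good_conj hy hyP (by rw [hsy, mul_inv_cancel_right]; exact hyP)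
  have h1 : w * s * w⁻¹ * s⁻¹ ∈ (P : Subgroup G) := by
    rw [show w * s * w⁻¹ * s⁻¹ = w * (s * w⁻¹ * s⁻¹) by group]
    exact mul_mem hwP ((mem_normalizer_iff.1 hsN _).1 (inv_mem hwP))
  have h2 : w * s * w⁻¹ * s⁻¹ ∈ (S : Subgroup G) := by rw [hi]; exact mul_mem hs'S (inv_mem hsS)
  have h3 := h.P_inf_two P h1 (k := a) (h.sylow_card S ▸ (S : Subgroup G).orderOf_dvd_natCard h2)
  exact hne (by rw [← hi]; exact (mul_inv_eq_one.1 h3).symm)

/-- An abelian group of involutions normalising `Z ≤ P` and fixing nothing central in `N(P)` has an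
eigenvector in `Z` which it does not centralise. -/
theorem Conf.exists_eigen (h : Conf p a G) (P : Sylow p G) (T Z : Subgroup G)
    (hT : ∀ b ∈ T, ∀ c ∈ T, b * c = c * b) (hT2 : ∀ b ∈ T, b * b = 1)
    (hN : ∀ g ∈ normalizer ((P : Subgroup G) : Set G), ∃ y ∈ (P : Subgroup G), ∃ b ∈ T, g = y * b)
    (hZP : Z ≤ (P : Subgroup G)) (hZ : Z ≠ ⊥) (hTZ : ∀ b ∈ T, ∀ z ∈ Z, b * z * b⁻¹ ∈ Z) :
    ∃ z ∈ Z, z ≠ 1 ∧ (∀ b ∈ T, b * z = z * b ∨ b * z * b⁻¹ = z⁻¹) ∧ ∃ v ∈ T, v * z * v⁻¹ = z⁻¹ := by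
  classical
  have := Fintype.ofFinite T
  have key : ∀ F : Finset T, ∃ z ∈ Z, z ≠ 1 ∧ ∀ b ∈ F, (b : G) * z = z * b ∨ (b : G) * z * (b : G)⁻¹ = z⁻¹ := by
    intro F
    induction F using Finset.induction_on with
    | empty =>
      obtain ⟨⟨z, hz⟩, hz1⟩ := ne_bot_iff_exists_ne_one.1 hZ
      exact ⟨z, hz, fun e => hz1 (Subtype.ext e), by simp⟩
    | insert u F _ ih =>
      obtain ⟨z, hz, hz1, hzF⟩ := ih
      set z' := (u : G) * z * (u : G)⁻¹ with hz'
      have hz'Z : z' ∈ Z := hTZ u u.2 z hz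
      have hzz' := h.comm_P P (hZP hz) (hZP hz'Z)
      by_cases hw : z * z' = 1
      · refine ⟨z, hz, hz1, fun b hb => ?_⟩
        rcases Finset.mem_insert.1 hb with rfl | hb
        · exact Or.inr (eq_inv_of_mul_eq_one_right hw)
        · exact hzF b hb
      · refine ⟨z * z', mul_mem hz hz'Z, hw, fun b hb => ?_⟩
        have hcu := hT b b.2 u u.2
        have hbz' : (b : G) * z' * (b : G)⁻¹ = (u : G) * ((b : G) * z * (b : G)⁻¹) * (u : G)⁻¹ := by
          calc (b : G) * z' * (b : G)⁻¹ = (b * u) * z * ((b : G) * u)⁻¹ := by rw [hz']; group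
            _ = (u * b) * z * ((u : G) * b)⁻¹ := by rw [hcu]
            _ = _ := by group
        rcases Finset.mem_insert.1 hb with rfl | hb
        · refine Or.inl (mul_inv_eq_iff_eq_mul.1 ?_)
          have hu2 := hT2 _ b.2
          calc (b : G) * (z * z') * (b : G)⁻¹
              = ((b : G) * z * (b : G)⁻¹) * ((b : G) * b * z * ((b : G) * b)⁻¹) := by rw [hz']; group
            _ = z' * z := by rw [hu2, hz']; group
            _ = z * z' := hzz'.symm
        · rcases hzF b hb with e | e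
          · refine Or.inl (mul_inv_eq_iff_eq_mul.1 ?_)
            rw [← mul_inv_eq_iff_eq_mul] at e
            rw [← conj_mul, hbz', e]
          · refine Or.inr ?_
            rw [← conj_mul, hbz', e, ← conj_inv, ← hz', ← mul_inv_rev, hzz']
  obtain ⟨z, hz, hz1, hzT⟩ := key Finset.univ
  refine ⟨z, hz, hz1, fun b hb => hzT ⟨b, hb⟩ (Finset.mem_univ _), ?_⟩
  by_contra hcon
  push Not at hcon
  refine hz1 (h.transfer P (hZP hz) fun g hg => ?_)
  obtain ⟨y, hy, b, hb, rfl⟩ := hN g hg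
  have e := (hzT ⟨b, hb⟩ (Finset.mem_univ _)).resolve_right (hcon b hb)
  rw [mul_assoc, e, ← mul_assoc, h.comm_P P hy (hZP hz), mul_assoc]

/-- If `N(P)` contains a 2-group `T` meeting every Sylow 2-subgroup of it, it is `PT`. -/
theorem Conf.normalizer_dec (h : Conf p a G) (P : Sylow p G) {t : G} (ht : orderOf t = 2)
    (htN : t ∈ normalizer ((P : Subgroup G) : Set G)) (T : Subgroup G) (hT : IsPGroup 2 T)
    (hTN : T ≤ normalizer ((P : Subgroup G) : Set G))
    (hmax : ∀ Q : Subgroup G, IsPGroup 2 Q → T ≤ Q → Q ≤ normalizer ((P : Subgroup G) : Set G) → Q = T) :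
    (∀ g ∈ normalizer ((P : Subgroup G) : Set G), ∃ y ∈ (P : Subgroup G), ∃ b ∈ T, g = y * b) ∧
      Nat.card (normalizer ((P : Subgroup G) : Set G)) = Nat.card P * Nat.card T := by
  have : Fact (Nat.Prime 2) := ⟨Nat.prime_two⟩
  set N := normalizer ((P : Subgroup G) : Set G) with hN
  have hNtop : N ≠ ⊤ := fun e => by
    rcases h.simple.eq_bot_or_eq_top_of_normal _ (normalizer_eq_top_iff.1 e) with e' | e'
    · obtain ⟨S, x, ⟨k, hk⟩, hx, htr⟩ := h.transitive
      have hxP : x ∈ (P : Subgroup G) :=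
        CycSylow.mem_sylow_of_pow (k := k) (by rw [← hN, e]; exact mem_top x) hk.dvd
      rw [e', mem_bot] at hxP
      have hsub : ((S : Subgroup G) : Set G).Subsingleton ∨ ∃ b, b ∈ (S : Subgroup G) ∧ b ≠ 1 :=
        (em (∃ b, b ∈ (S : Subgroup G) ∧ b ≠ 1)).symm.imp (fun hno b hb c hc => by
          push Not at hno
          rw [hno b hb, hno c hc]) id
      rcases hsub with hsub | ⟨b, hb, hb1⟩
      · have hcard := h.sylow_card S
        have hle : Nat.card (S : Subgroup G) ≤ 1 := by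
          rw [Finite.card_le_one_iff_subsingleton]
          exact ⟨fun b c => Subtype.ext (hsub b.2 c.2)⟩
        rw [hcard] at hle
        exact absurd hle (not_le.2 (Nat.one_lt_pow (by have := h.two_le; omega) (by norm_num)))
      · have hle : Nat.card (S : Subgroup G) ≤ 2 := by
          have hsub : ((S : Subgroup G) : Set G) ⊆ {1, b} := fun c hc => by
            rcases eq_or_ne c 1 with e1 | hc1
            · exact Or.inl e1
            · obtain ⟨i, hi⟩ := htr b hb c hc hb1 hc1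
              rw [hxP, one_pow] at hi
              exact Or.inr (by simpa using hi.symm)
          have hle := Set.ncard_le_ncard hsub (Set.toFinite _)
          rw [← Nat.card_coe_set_eq, Set.ncard_pair hb1.symm] at hle
          exact hle
        rw [h.sylow_card] at hle
        have : 2 ^ 2 ≤ 2 ^ a := Nat.pow_le_pow_right (by norm_num) h.two_le
        omega
    · obtain ⟨k, hk⟩ := P.2.exists_card_eq
      have h2 := h.two_dvd
      rw [← card_top (G := G), ← e', show Nat.card (P : Subgroup G) = p ^ k from hk] at h2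
      exact h.p_ne_two ((Nat.prime_dvd_prime_iff_eq Nat.prime_two hp.out).1
        (Nat.prime_two.dvd_of_dvd_pow h2)).symm
  have hsm := h.small N hNtop (ht ▸ Subgroup.orderOf_dvd_natCard N htN)
  let T' : Subgroup N := T.subgroupOf N
  obtain ⟨R, hR⟩ := (hT.comap_of_injective N.subtype N.subtype_injective : IsPGroup 2 T').exists_le_sylow
  have hRT : (R : Subgroup N).map N.subtype = T := hmax _ (R.2.map _)
    (fun b hb => ⟨⟨b, hTN hb⟩, hR hb, rfl⟩) (map_subtype_le _)
  let P' : Sylow p N := P.subtype le_normalizer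
  have hcard : Nat.card N = Nat.card P * Nat.card T := by
    have h1 : Nat.card T = Nat.card (R : Subgroup N) := by
      rw [← hRT, card_map_of_injective N.subtype_injective]
    have h2 : Nat.card P = Nat.card (P' : Subgroup N) := by
      show Nat.card P = Nat.card ((P : Subgroup G).subgroupOf N)
      exact (Nat.card_congr (subgroupOfEquivOfLe le_normalizer).toEquiv).symm
    rw [h1, h2, P'.card_eq_multiplicity, R.card_eq_multiplicity]
    conv_lhs => rw [← Nat.prod_factorization_pow_eq_self (Nat.card_pos (α := N)).ne']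
    rw [Finsupp.prod_of_support_subset _ (s := {p, 2}) ?_ _ (fun _ _ => pow_zero _),
      Finset.prod_pair h.p_ne_two]
    intro r hr
    rw [Nat.support_factorization, Nat.mem_primeFactors] at hr
    simpa using hsm r hr.1 hr.2.1
  refine ⟨?_, hcard⟩
  let φ : ↥(P : Subgroup G) × ↥T → ↥N := fun w => ⟨w.1.1 * w.2.1, mul_mem (le_normalizer w.1.2) (hTN w.2.2)⟩
  have hφ : Function.Bijective φ := by
    refine (Nat.bijective_iff_injective_and_card φ).2 ⟨fun w w' e0 => ?_, by rw [Nat.card_prod, hcard]⟩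
    have e1 : w.1.1 * w.2.1 = w'.1.1 * w'.2.1 := congrArg Subtype.val e0
    have e2 : w'.1.1⁻¹ * w.1.1 = w'.2.1 * w.2.1⁻¹ := by
      apply mul_right_cancel (b := w.2.1)
      apply mul_left_cancel (a := w'.1.1)
      simp [mul_assoc, e1]
    obtain ⟨n, hn⟩ := hT.exists_card_eq
    have e3 := h.P_inf_two P (mul_mem (inv_mem w'.1.2) w.1.2) (k := n)
      (e2 ▸ hn ▸ T.orderOf_dvd_natCard (mul_mem w'.2.2 (inv_mem w.2.2)))
    refine Prod.ext (Subtype.ext (inv_mul_eq_one.1 e3).symm) (Subtype.ext ?_)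
    rw [e2] at e3
    exact (mul_inv_eq_one.1 e3).symm
  intro g hg
  obtain ⟨⟨⟨y, hy⟩, b, hb⟩, e0⟩ := hφ.2 ⟨g, hg⟩
  exact ⟨y, hy, b, hb, (congrArg Subtype.val e0).symm⟩

/-- There are no good elements. -/
theorem Conf.no_good (h : Conf p a G) (y : G) : ¬ Good p y := by
  intro hy
  classical
  have : Fact (Nat.Prime 2) := ⟨Nat.prime_two⟩
  obtain ⟨P, hyP, hPy, hPmem⟩ := h.good_sylow hy
  obtain ⟨hy1, ⟨k, hk⟩, ⟨t, ht, hty⟩, s, hs, hsy⟩ := id hy
  have hsuniq : ∀ {z b : G}, Good p z → orderOf b = 2 → b * s = s * b → s * z = z * s → b * z = z * b → b = s :=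
    fun hz hb hbs h1 h2 => (h.good_unique hz hs hb hbs.symm h1 h2).symm
  obtain ⟨S, hsS⟩ := exists_sylow_mem (q := 2) (g := s) (k := 1) (by rw [hs, pow_one])
  have hS2 := (h.sylow_facts S).1
  have hSN : (S : Subgroup G) ≤ normalizer ((P : Subgroup G) : Set G) := fun b hb => by
    refine h.good_conj hy hyP (h.good_K hy hyP hs hsy ?_ (k := k) (by rw [orderOf_conj, hk]))
    calc b * y * b⁻¹ * s = b * (y * (b⁻¹ * s * b)) * b⁻¹ := by group
      _ = b * (y * s) * b⁻¹ := by
        rw [show b⁻¹ * s * b = s by rw [mul_assoc, h.comm_sylow S hsS hb, inv_mul_cancel_left]]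
      _ = b * (s * y) * b⁻¹ := by rw [hsy]
      _ = s * (b * y * b⁻¹) := by
        rw [← mul_assoc, h.comm_sylow S hb hsS]; group
  obtain ⟨hdec, hNcard⟩ := h.normalizer_dec P hs (hSN hsS) S S.2 hSN
    (fun Q hQ hSQ _ => S.3 hQ hSQ)
  have hScomm : ∀ b ∈ (S : Subgroup G), ∀ c ∈ (S : Subgroup G), b * c = c * b := fun b hb c hc =>
    h.comm_sylow S hb hc
  obtain ⟨n, hn⟩ := P.2.exists_card_eq
  have hPdvd : ∀ b ∈ (P : Subgroup G), orderOf b ∣ p ^ n := fun b hb =>
    hn ▸ (P : Subgroup G).orderOf_dvd_natCard hb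
  have hgood : ∀ z ∈ (P : Subgroup G), z ≠ 1 → ∀ v c : G, orderOf v = 2 → orderOf c = 2 →
      v * z * v⁻¹ = z⁻¹ → c * z = z * c → Good p z := by
    intro z hz hz1 v c hv hc h1 h2
    obtain ⟨i, -, hi⟩ := (Nat.dvd_prime_pow hp.out).1 (hPdvd z hz)
    exact ⟨hz1, ⟨i, hi⟩, ⟨v, hv, h1⟩, c, hc, h2⟩
  have hinv : ∀ b ∈ (S : Subgroup G), b ≠ 1 → orderOf b = 2 := fun b hb hb1 =>
    orderOf_eq_two_iff_mul.2 ⟨hb1, hS2 b hb⟩
  -- an eigenvector centralised by `s`
  let Z : Subgroup G := (P : Subgroup G) ⊓ centralizer ({s} : Set G)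
  have hTZ : ∀ b ∈ (S : Subgroup G), ∀ z ∈ Z, b * z * b⁻¹ ∈ Z := by
    intro b hb z hz
    refine ⟨(mem_normalizer_iff.1 (hSN hb) z).1 hz.1, Subgroup.mem_centralizer_singleton_iff.2 ?_⟩
    have e : b⁻¹ * s * b = s := by rw [mul_assoc, hScomm s hsS b hb, inv_mul_cancel_left]
    calc b * z * b⁻¹ * s = b * (z * (b⁻¹ * s * b)) * b⁻¹ := by group
      _ = b * (s * z) * b⁻¹ := by rw [e, Subgroup.mem_centralizer_singleton_iff.1 hz.2]
      _ = s * (b * z * b⁻¹) := by
        rw [← mul_assoc, hScomm b hb s hsS]; group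
  obtain ⟨z, hzZ, hz1, hzpm, v, hvS, hvz⟩ := h.exists_eigen P S Z hScomm hS2 hdec inf_le_left
    (fun e => hy1 (mem_bot.1 (e ▸ (⟨hyP, Subgroup.mem_centralizer_singleton_iff.2 hsy.symm⟩ : y ∈ Z)))) hTZ
  have hsz : s * z = z * s := (Subgroup.mem_centralizer_singleton_iff.1 hzZ.2).symm
  have hzne : z⁻¹ ≠ z := fun e => by
    have hz2 : z ^ 2 = 1 := by rw [pow_two]; exact eq_inv_iff_mul_eq_one.1 e.symm
    exact hz1 (h.P_inf_two P hzZ.1 (k := 1) (by rw [pow_one]; exact orderOf_dvd_of_pow_eq_one hz2))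
  have hv1 : v ≠ 1 := fun e => hzne (by rw [← hvz, e]; group)
  have hvs : v ≠ s := fun e => hzne (by rw [← hvz, e, hsz, mul_inv_cancel_right])
  have hvo := hinv v hvS hv1
  have hzg := hgood z hzZ.1 hz1 v s hvo hs hvz hsz
  have hcases : ∀ b ∈ (S : Subgroup G), b = 1 ∨ b = s ∨ b = v ∨ b = v * s := by
    intro b hb
    rcases hzpm b hb with e | e
    · rcases eq_or_ne b 1 with e1 | hb1
      · exact Or.inl e1
      · exact Or.inr (Or.inl (hsuniq hzg (hinv b hb hb1) (hScomm b hb s hsS) hsz e))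
    · have hvz' : (v * b) * z = z * (v * b) := by
        refine mul_inv_eq_iff_eq_mul.1 ?_
        calc v * b * z * (v * b)⁻¹ = v * (b * z * b⁻¹) * v⁻¹ := by group
          _ = (v * z * v⁻¹)⁻¹ := by rw [e, conj_inv]
          _ = z := by rw [hvz, inv_inv]
      rcases eq_or_ne (v * b) 1 with e1 | hne
      · refine Or.inr (Or.inr (Or.inl ?_))
        exact (inv_eq_of_mul_eq_one_right e1).symm.trans (inv_eq_self_of_involution hvo)
      · have := hsuniq hzg (hinv _ (mul_mem hvS hb) hne) (hScomm _ (mul_mem hvS hb) s hsS) hsz hvz'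
        refine Or.inr (Or.inr (Or.inr ?_))
        rw [← this, ← mul_assoc, hS2 v hvS, one_mul]
  have ha : a = 2 := by
    have hle : Nat.card (S : Subgroup G) ≤ 4 := by
      have hsub : ((S : Subgroup G) : Set G) ⊆ {1, s, v, v * s} := fun b hb => by
        simpa using hcases b hb
      have hle := Set.ncard_le_ncard hsub (Set.toFinite _)
      rw [← Nat.card_coe_set_eq] at hle
      change Nat.card (S : Subgroup G) ≤ _ at hle
      refine hle.trans ((Set.ncard_insert_le _ _).trans ?_)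
      refine Nat.succ_le_succ ((Set.ncard_insert_le _ _).trans (Nat.succ_le_succ ?_))
      exact (Set.ncard_insert_le _ _).trans (by rw [Set.ncard_singleton])
    rw [h.sylow_card] at hle
    have := h.two_le
    by_contra hne
    have : 2 ^ 3 ≤ 2 ^ a := Nat.pow_le_pow_right (by norm_num) (by omega)
    omega
  have hp3 : p = 3 := by have := h.hpa; rw [ha] at this; omega
  -- every other involution of `S` inverts `P`
  have hfree : ∀ u ∈ (S : Subgroup G), u ≠ 1 → u ≠ s → ∀ w ∈ (P : Subgroup G), u * w = w * u → w = 1 := by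
    intro u hu hu1 hus w hw huw
    by_contra hw1
    let W : Subgroup G := (P : Subgroup G) ⊓ centralizer ({u} : Set G)
    have hTW : ∀ b ∈ (S : Subgroup G), ∀ w ∈ W, b * w * b⁻¹ ∈ W := by
      intro b hb w hw
      refine ⟨(mem_normalizer_iff.1 (hSN hb) w).1 hw.1, Subgroup.mem_centralizer_singleton_iff.2 ?_⟩
      have e : b⁻¹ * u * b = u := by rw [mul_assoc, hScomm u hu b hb, inv_mul_cancel_left]
      calc b * w * b⁻¹ * u = b * (w * (b⁻¹ * u * b)) * b⁻¹ := by group
        _ = b * (u * w) * b⁻¹ := by rw [e, Subgroup.mem_centralizer_singleton_iff.1 hw.2]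
        _ = u * (b * w * b⁻¹) := by
          rw [← mul_assoc, hScomm b hb u hu]; group
    obtain ⟨q, hqW, hq1, -, v', hv'S, hv'q⟩ := h.exists_eigen P S W hScomm hS2 hdec inf_le_left
      (fun e => hw1 (mem_bot.1 (e ▸ (⟨hw, Subgroup.mem_centralizer_singleton_iff.2 huw.symm⟩ : w ∈ W)))) hTW
    have huq : u * q = q * u := (Subgroup.mem_centralizer_singleton_iff.1 hqW.2).symm
    have hv'1 : v' ≠ 1 := fun e => by
      have hq2 : q ^ 2 = 1 := by
        rw [pow_two]; exact eq_inv_iff_mul_eq_one.1 (by rw [← hv'q, e]; group)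
      exact hq1 (h.P_inf_two P hqW.1 (k := 1) (by rw [pow_one]; exact orderOf_dvd_of_pow_eq_one hq2))
    have huo := hinv u hu hu1
    have hqg := hgood q hqW.1 hq1 v' u (hinv v' hv'S hv'1) huo hv'q huq
    obtain ⟨-, x, ⟨j, hj⟩, -, htr⟩ := h.sylow_facts S
    obtain ⟨i, hi⟩ := htr s hsS u hu (ne_one_of_involution hs) hu1
    set g := x ^ i
    have hy'P : g * y * g⁻¹ ∈ (P : Subgroup G) := by
      refine h.good_K hqg hqW.1 huo huq ?_ (k := k) (by rw [orderOf_conj, hk])
      rw [← hi]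
      calc g * y * g⁻¹ * (g * s * g⁻¹) = g * (y * s) * g⁻¹ := by group
        _ = g * (s * y) * g⁻¹ := by rw [hsy]
        _ = _ := by group
    have hgN := h.good_conj hy hyP hy'P
    have hgP : g ∈ (P : Subgroup G) :=
      CycSylow.mem_sylow_of_pow (k := j) hgN ((orderOf_pow_dvd i).trans hj.dvd)
    have h1 : g * s * g⁻¹ * s⁻¹ ∈ (P : Subgroup G) := by
      rw [show g * s * g⁻¹ * s⁻¹ = g * (s * g⁻¹ * s⁻¹) by group]
      exact mul_mem hgP ((mem_normalizer_iff.1 (hSN hsS) _).1 (inv_mem hgP))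
    have h2 : g * s * g⁻¹ * s⁻¹ ∈ (S : Subgroup G) := by rw [hi]; exact mul_mem hu (inv_mem hsS)
    have h3 := h.P_inf_two P h1 (k := a) (h.sylow_card S ▸ (S : Subgroup G).orderOf_dvd_natCard h2)
    exact hus (by rw [← hi]; exact mul_inv_eq_one.1 h3)
  have hinvP : ∀ u ∈ (S : Subgroup G), u ≠ 1 → u ≠ s → ∀ w ∈ (P : Subgroup G), u * w * u⁻¹ = w⁻¹ := by
    intro u hu hu1 hus w hw
    have hw' : u * w * u⁻¹ ∈ (P : Subgroup G) := (mem_normalizer_iff.1 (hSN hu) w).1 hw
    have hc := h.comm_P P hw hw'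
    have e := hfree u hu hu1 hus _ (mul_mem hw hw') (by
      have hui := inv_eq_of_mul_eq_one_left (hS2 u hu)
      rw [hui] at hc ⊢
      calc u * (w * (u * w * u)) = (u * w * u) * w * u := by group
        _ = w * (u * w * u) * u := by rw [← hc])
    exact eq_inv_of_mul_eq_one_right e
  have hvsS : v * s ∈ (S : Subgroup G) := mul_mem hvS hsS
  have hvs1 : v * s ≠ 1 := fun e => hvs
    ((eq_inv_of_mul_eq_one_left e).trans (inv_eq_self_of_involution hs))
  have hvss : v * s ≠ s := fun e => hv1 (by simpa using e)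
  have hsP : ∀ w ∈ (P : Subgroup G), s * w = w * s := by
    intro w hw
    refine mul_inv_eq_iff_eq_mul.1 ?_
    calc s * w * s⁻¹ = v * (v * s * w * (v * s)⁻¹) * v⁻¹ := by
          rw [show v * (v * s * w * (v * s)⁻¹) * v⁻¹ = (v * v) * s * w * s⁻¹ * (v * v)⁻¹ by group,
            hS2 v hvS]
          group
      _ = v * w⁻¹ * v⁻¹ := by rw [hinvP _ hvsS hvs1 hvss w hw]
      _ = (v * w * v⁻¹)⁻¹ := conj_inv.symm
      _ = w := by rw [hinvP v hvS hv1 hvs w hw, inv_inv]
  subst hp3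
  have hS4 : Nat.card (S : Subgroup G) = 4 := by rw [h.sylow_card, ha]; norm_num
  set C := centralizer ((P : Subgroup G) : Set G) with hCdef
  have hCmem : ∀ g : G, g ∈ C ↔ ∃ w ∈ (P : Subgroup G), g = w ∨ g = w * s := by
    intro g
    rw [hCdef, mem_centralizer_iff]
    constructor
    · intro hg
      obtain ⟨w, hw, b, hb, rfl⟩ := hdec g (H79.mem_normalizer_of_conj_mem _ fun c hc => by
        rw [← hg c hc, mul_inv_cancel_right]; exact hc)
      refine ⟨w, hw, ?_⟩
      have hbc : ∀ c ∈ (P : Subgroup G), b * c = c * b := fun c hc => by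
        apply mul_left_cancel (a := w)
        rw [← mul_assoc, ← hg c hc, ← mul_assoc, ← mul_assoc, h.comm_P P hw hc]
      rcases eq_or_ne b 1 with rfl | hb1
      · exact Or.inl (mul_one _)
      rcases eq_or_ne b s with rfl | hbs
      · exact Or.inr rfl
      · exact absurd (hfree b hb hb1 hbs y hyP (hbc y hyP)) hy1
    · rintro ⟨w, hw, rfl | rfl⟩ c hc
      · exact h.comm_P P hc hw
      · rw [← mul_assoc, h.comm_P P hc hw, mul_assoc, ← hsP c hc, ← mul_assoc]
  have hodd : Odd (Nat.card P) := by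
    rw [show Nat.card P = 3 ^ n from hn]; exact Odd.pow (by decide)
  have hsnP : ∀ w ∈ (P : Subgroup G), w * s ∉ (P : Subgroup G) := fun w hw hm => by
    have hsP' : s ∈ (P : Subgroup G) := by simpa using mul_mem (inv_mem hw) hm
    exact ne_one_of_involution hs (h.P_inf_two P hsP' (k := 1) (by rw [hs, pow_one]))
  have hCcard : Nat.card C = 2 * Nat.card P := by
    let φ : Bool × ↥(P : Subgroup G) → ↥C := fun w =>
      if w.1 then ⟨w.2.1 * s, (hCmem _).2 ⟨_, w.2.2, Or.inr rfl⟩⟩ else ⟨w.2.1, (hCmem _).2 ⟨_, w.2.2, Or.inl rfl⟩⟩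
    have hφ : Function.Bijective φ := by
      refine ⟨?_, fun g => ?_⟩
      · rintro ⟨i, b⟩ ⟨j, c⟩ e0
        cases i <;> cases j <;> simp only [φ, Bool.false_eq_true, if_false, if_true, Subtype.mk.injEq] at e0
        · exact Prod.ext rfl (Subtype.ext e0)
        · exact absurd (e0 ▸ b.2) (hsnP _ c.2)
        · exact absurd (e0.symm ▸ c.2) (hsnP _ b.2)
        · exact Prod.ext rfl (Subtype.ext (mul_right_cancel e0))
      · obtain ⟨w, hw, e | e⟩ := (hCmem _).1 g.2
        · exact ⟨(false, ⟨w, hw⟩), Subtype.ext (by simp [φ, e])⟩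
        · exact ⟨(true, ⟨w, hw⟩), Subtype.ext (by simp [φ, e])⟩
    rw [← Nat.card_congr (Equiv.ofBijective φ hφ), Nat.card_prod, Nat.card_eq_fintype_card,
      Fintype.card_bool]
  -- the centraliser of a nontrivial element of `P`
  have hCy : ∀ w ∈ (P : Subgroup G), w ≠ 1 → ∀ g : G, g * w = w * g → g ∈ C := by
    intro w hw hw1 g hg
    have hwg := hgood w hw hw1 v s hvo hs (hinvP v hvS hv1 hvs w hw) (hsP w hw)
    have hgN : g ∈ normalizer ((P : Subgroup G) : Set G) :=
      h.good_conj hwg hw (by rw [hg, mul_inv_cancel_right]; exact hw)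
    obtain ⟨c, hc, b, hb, rfl⟩ := hdec g hgN
    have hbw : b * w = w * b := by
      apply mul_left_cancel (a := c)
      rw [← mul_assoc, hg, ← mul_assoc, ← mul_assoc, h.comm_P P hc hw]
    refine (hCmem _).2 ⟨c, hc, ?_⟩
    rcases eq_or_ne b 1 with rfl | hb1
    · exact Or.inl (mul_one _)
    rcases eq_or_ne b s with rfl | hbs
    · exact Or.inr rfl
    · exact absurd (hfree b hb hb1 hbs w hw hbw) hw1
  have hTI : Cfsg.IsTISubset (C : Set G) := by
    intro g hg c hc hgc
    by_contra hc1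
    apply hg
    have hgN : g ∈ normalizer ((P : Subgroup G) : Set G) := by
      obtain ⟨w, hw, hcw⟩ := (hCmem c).1 hc
      obtain ⟨w', hw', hcw'⟩ := (hCmem _).1 hgc
      have hss := mul_self_eq_one hs
      have hsq : ∀ {w c : G}, w ∈ (P : Subgroup G) → (c = w ∨ c = w * s) → c * c = w * w := by
        intro w c hw hcw
        rcases hcw with rfl | rfl
        · rfl
        · rw [show w * s * (w * s) = w * (s * w) * s by group, hsP w hw,
            show w * (w * s) * s = w * w * (s * s) by group, hss, mul_one]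
      have e1 : g * (w * w) * g⁻¹ = w' * w' := by
        rw [← hsq hw hcw, ← hsq hw' hcw']; group
      by_cases hw2 : w * w = 1
      · have hw0 : w = 1 := h.P_inf_two P hw (k := 1)
          (by rw [pow_one]; exact orderOf_dvd_of_pow_eq_one (by rw [pow_two]; exact hw2))
        have hw0' : w' = 1 := h.P_inf_two P hw' (k := 1)
          (by rw [pow_one]; exact orderOf_dvd_of_pow_eq_one (by rw [pow_two, ← e1, hw2]; group))
        rw [hw0, one_mul] at hcw
        rw [hw0', one_mul] at hcw'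
        have hcs : c = s := hcw.resolve_left hc1
        rcases hcw' with e | e
        · exact absurd (by simpa using e) hc1
        · rw [hcs] at e
          refine h.good_conj hy hyP (h.good_K hy hyP hs hsy ?_ (k := k) (by rw [orderOf_conj, hk]))
          calc g * y * g⁻¹ * s = g * (y * s) * g⁻¹ := by
                nth_rewrite 1 [← e]; group
            _ = g * (s * y) * g⁻¹ := by rw [hsy]
            _ = (g * s * g⁻¹) * (g * y * g⁻¹) := by group
            _ = s * (g * y * g⁻¹) := by rw [e]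
      · exact h.good_conj (hgood _ (mul_mem hw hw) hw2 v s hvo hs
          (hinvP v hvS hv1 hvs _ (mul_mem hw hw)) (hsP _ (mul_mem hw hw))) (mul_mem hw hw)
          (e1 ▸ mul_mem hw' hw')
    refine H79.mem_normalizer_of_conj_mem _ fun b hb => ?_
    rw [hCdef, mem_centralizer_iff] at hb ⊢
    intro w hw
    have hw' : g⁻¹ * w * g ∈ (P : Subgroup G) := by
      have := (mem_normalizer_iff.1 (inv_mem hgN) w).1 hw
      simpa using this
    calc w * (g * b * g⁻¹) = g * ((g⁻¹ * w * g) * b) * g⁻¹ := by group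
      _ = g * (b * (g⁻¹ * w * g)) * g⁻¹ := by rw [hb _ hw']
      _ = _ := by group
  refine Cfsg.Agent.S4018.main P (h.abel P) ?_ hCcard hTI (fun H hH h2 => ?_) h.simple
  · rw [hNcard, hS4, mul_comm]
  · have hsm := h.small H hH h2
    rw [← hS4]
    have h0 : Nat.card H ≠ 0 := Nat.card_pos.ne'
    conv_lhs => rw [← Nat.prod_factorization_pow_eq_self h0]
    rw [Finsupp.prod_of_support_subset _ (s := ({2, 3} : Finset ℕ)) ?_ _ (fun _ _ => pow_zero _),
      Finset.prod_pair (by norm_num)]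
    · refine mul_dvd_mul ?_ ?_
      · exact S.pow_dvd_card_of_pow_dvd_card ((Nat.ordProj_dvd _ 2).trans H.card_subgroup_dvd_card)
      · exact P.pow_dvd_card_of_pow_dvd_card ((Nat.ordProj_dvd _ 3).trans H.card_subgroup_dvd_card)
    · intro r hr
      rw [Nat.support_factorization, Nat.mem_primeFactors] at hr
      rcases hsm r hr.1 hr.2.1 with e | e <;> simp [e]

end H79.TwoPrime
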