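import Mathlib

/-!
Recognising `D₈ × C_f` (`f` odd) from generators and relations.
-/

set_option autoImplicit false
set_option linter.unusedSectionVars false

namespace Cfsg.Agent.DihExt57

variable {G : Type*} [Group G]

theorem pow_val_add {ρ : G} (h4 : ρ ^ 4 = 1) (i j : ZMod 4) :
    ρ ^ (i + j).val = ρ ^ i.val * ρ ^ j.val := by
  rw [← pow_add, ZMod.val_add]
  conv_rhs => rw [← Nat.mod_add_div (i.val + j.val) 4, pow_add, pow_mul, h4, one_pow, mul_one]

/-- The homomorphism from `D₈` given by a rotation and a reflection. -/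
def dihHom (ρ s : G) (h4 : ρ ^ 4 = 1) (hs : s * s = 1) (hc : s * ρ * s = ρ⁻¹) :
    DihedralGroup 4 →* G where
  toFun
    | .r i => ρ ^ i.val
    | .sr i => s * ρ ^ i.val
  map_one' := by
    show ρ ^ (0 : ZMod 4).val = 1
    simp
  map_mul' := by
    have hcon : ∀ i : ZMod 4, ρ ^ i.val * s = s * ρ ^ (-i).val := by
      intro i
      have h1 : s * ρ ^ (-i).val * s = (ρ⁻¹) ^ (-i).val := by
        rw [← hc]
        induction (-i).val with
        | zero => simp [hs]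
        | succ n ih =>
          rw [pow_succ (s * ρ * s), ← ih, pow_succ]
          simp only [mul_assoc]
          rw [← mul_assoc s s, hs, one_mul]
      have h2 : (ρ⁻¹) ^ (-i).val = ρ ^ i.val := by
        rw [inv_pow, inv_eq_iff_mul_eq_one, ← pow_val_add h4, neg_add_cancel]
        simp
      rw [← h2, ← h1, mul_assoc, hs, mul_one]
    intro x y
    rcases x with i | i <;> rcases y with j | j <;>
      simp only [DihedralGroup.r_mul_r, DihedralGroup.r_mul_sr, DihedralGroup.sr_mul_r,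
        DihedralGroup.sr_mul_sr]
    · exact pow_val_add h4 i j
    · rw [← mul_assoc, hcon, mul_assoc, ← pow_val_add h4, neg_add_eq_sub]
    · rw [mul_assoc, ← pow_val_add h4]
    · rw [mul_assoc, ← mul_assoc (ρ ^ i.val), hcon, ← mul_assoc, ← mul_assoc, hs, one_mul,
        ← pow_val_add h4, neg_add_eq_sub]

theorem dihHom_injective {ρ s : G} (h4 : ρ ^ 4 = 1) (hs : s * s = 1) (hc : s * ρ * s = ρ⁻¹)
    (h2 : ρ ^ 2 ≠ 1) : Function.Injective (dihHom ρ s h4 hs hc) := by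
  refine (injective_iff_map_eq_one _).2 fun x hx => ?_
  rcases x with i | i
  · have h : ρ ^ i.val = 1 := hx
    have h' : ρ ^ (2 * i.val) = 1 := by rw [two_mul, pow_add, h, one_mul]
    fin_cases i
    · rfl
    · exact absurd h' h2
    · exact absurd h h2
    · exfalso
      apply h2
      calc ρ ^ 2 = ρ ^ 4 * ρ ^ 2 := by rw [h4, one_mul]
        _ = ρ ^ (2 * 3) := by rw [← pow_add]
        _ = 1 := h'
  · have h : s * ρ ^ i.val = 1 := hx
    exfalso
    apply h2
    have hs' : s = (ρ ^ i.val)⁻¹ := eq_inv_of_mul_eq_one_left h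
    have hcomm : s * ρ = ρ * s := by
      rw [hs']
      exact ((Commute.self_pow ρ i.val).inv_right).eq.symm
    have h3 : ρ = ρ⁻¹ := by
      conv_rhs => rw [← hc, hcomm, mul_assoc, hs, mul_one]
    rw [pow_two]
    exact (congrArg (ρ * ·) h3).trans (mul_inv_cancel ρ)

/-- `G ≅ D₈ × C_f` from generators `A`, `Δ`, `Φ`. -/
theorem nonempty_dihedral_prod {Q : Type*} [Group Q] (π : G →* Q) {f : ℕ} (hf : Odd f) {A Δ Φ : G}
    (hA : A * A = 1) (hB : Δ * (Δ * A * Δ⁻¹) * Δ⁻¹ = A) (hAB : Commute A (Δ * A * Δ⁻¹))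
    (hΔ : Δ * Δ = 1 ∨ Δ * Δ = A * (Δ * A * Δ⁻¹)) (ht : A * (Δ * A * Δ⁻¹) ≠ 1)
    (hΦA : Commute Φ A) (hΦB : Commute Φ (Δ * A * Δ⁻¹))
    (hΦΔ : Φ * Δ * Φ⁻¹ * Δ⁻¹ ∈ ({1, A, Δ * A * Δ⁻¹, A * (Δ * A * Δ⁻¹)} : Set G))
    (hΦf : Φ ^ f ∈ ({1, A, Δ * A * Δ⁻¹, A * (Δ * A * Δ⁻¹)} : Set G))
    (hπA : π A = 1) (hπΔ : π Δ = 1) (hπΦ : ∀ i : ℕ, π (Φ ^ i) = 1 → f ∣ i)
    (hgen : ∀ x : G, x ∈ Subgroup.closure ({A, Δ, Φ} : Set G)) :
    Nonempty (G ≃* DihedralGroup 4 × Multiplicative (ZMod f)) := by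
  set B := Δ * A * Δ⁻¹ with hBdef
  have hBB : B * B = 1 := by
    rw [hBdef, conj_mul, hA]
    simp
  have hV2 : ∀ v ∈ ({1, A, B, A * B} : Set G), v * v = 1 ∧ Commute Φ v := by
    rintro v (rfl | rfl | rfl | rfl)
    · exact ⟨one_mul 1, Commute.one_right Φ⟩
    · exact ⟨hA, hΦA⟩
    · exact ⟨hBB, hΦB⟩
    · refine ⟨?_, hΦA.mul_right hΦB⟩
      calc A * B * (A * B) = A * B * (B * A) := by rw [hAB.eq]
        _ = A * (B * B) * A := by simp only [mul_assoc]
        _ = 1 := by rw [hBB, mul_one, hA]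
  set v := Φ * Δ * Φ⁻¹ * Δ⁻¹ with hvdef
  obtain ⟨hvv, hvΦ⟩ := hV2 v hΦΔ
  have hstep : ∀ n : ℕ, Φ ^ n * Δ * (Φ ^ n)⁻¹ = v ^ n * Δ := by
    intro n
    induction n with
    | zero => simp
    | succ n ih =>
      have h1 : Φ ^ (n + 1) * Δ * (Φ ^ (n + 1))⁻¹ = Φ * (Φ ^ n * Δ * (Φ ^ n)⁻¹) * Φ⁻¹ := by
        rw [pow_succ' Φ n]; group
      have h2 : Φ * Δ * Φ⁻¹ = v * Δ := by rw [hvdef]; group
      calc Φ ^ (n + 1) * Δ * (Φ ^ (n + 1))⁻¹ = Φ * (v ^ n * Δ) * Φ⁻¹ := by rw [h1, ih]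
        _ = v ^ n * (Φ * Δ * Φ⁻¹) := by
          rw [← mul_assoc Φ, (hvΦ.pow_right n).eq]; simp only [mul_assoc]
        _ = v ^ (n + 1) * Δ := by rw [pow_succ, mul_assoc (v ^ n) v Δ, ← h2]
  set z := Φ ^ 8
  have hzA : Commute z A := hΦA.pow_left 8
  have hzΔ : Commute z Δ := by
    have h := hstep 8
    rw [show v ^ 8 = (v * v) ^ 4 by rw [← pow_two, ← pow_mul], hvv, one_pow, one_mul,
      mul_inv_eq_iff_eq_mul] at h
    exact h
  -- the rotation
  obtain ⟨ρ, hρ2, hρc, hρz, hρπ, hρmem⟩ : ∃ ρ : G, ρ ^ 2 = A * B ∧ A * ρ * A = ρ⁻¹ ∧ Commute z ρ ∧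
      π ρ = 1 ∧ Δ ∈ Subgroup.closure ({A, ρ} : Set G) := by
    have hAinv : A⁻¹ = A := inv_eq_of_mul_eq_one_right hA
    rcases hΔ with h | h
    · have hΔinv : Δ⁻¹ = Δ := inv_eq_of_mul_eq_one_right h
      refine ⟨Δ * A, ?_, ?_, hzΔ.mul_right hzA, by rw [map_mul, hπΔ, hπA, one_mul], ?_⟩
      · rw [pow_two, hAB.eq, hBdef, hΔinv]; simp only [mul_assoc]
      · rw [_root_.mul_inv_rev, hAinv, hΔinv]
        simp only [mul_assoc, hA, mul_one]
      · have h3 : Δ * A * A ∈ Subgroup.closure ({A, Δ * A} : Set G) :=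
          mul_mem (Subgroup.subset_closure (by simp)) (Subgroup.subset_closure (by simp))
        rwa [mul_assoc Δ A A, hA, mul_one] at h3
    · refine ⟨Δ, by rw [pow_two, h], ?_, hzΔ, hπΔ, Subgroup.subset_closure (by simp)⟩
      rw [eq_comm, inv_eq_iff_mul_eq_one]
      calc Δ * (A * Δ * A) = B * (Δ * Δ) * A := by rw [hBdef]; group
        _ = B * (A * B) * A := by rw [h]
        _ = B * (B * A) * A := by rw [hAB.eq]
        _ = B * B * (A * A) := by simp only [mul_assoc]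
        _ = 1 := by rw [hBB, hA, one_mul]
  have h4 : ρ ^ 4 = 1 := by
    rw [show (4 : ℕ) = 2 * 2 from rfl, pow_mul, hρ2, pow_two]
    exact (hV2 _ (by simp)).1
  let θ := dihHom ρ A h4 hA hρc
  have hθ : Function.Injective θ := dihHom_injective h4 hA hρc (by rw [hρ2]; exact ht)
  have hzf : z ^ f = 1 := by
    rw [← pow_mul, mul_comm, pow_mul, show (8 : ℕ) = 2 * 4 from rfl, pow_mul, pow_two (Φ ^ f),
      (hV2 _ hΦf).1, one_pow]
  have hord : orderOf z = f := by
    refine Nat.dvd_antisymm (orderOf_dvd_of_pow_eq_one hzf) ?_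
    have h := hπΦ (8 * orderOf z) (by rw [pow_mul, pow_orderOf_eq_one, map_one])
    have hcop : Nat.Coprime f 8 := by
      rw [show (8 : ℕ) = 2 ^ 3 from rfl]
      exact (Nat.coprime_two_right.2 hf).pow_right 3
    exact hcop.dvd_of_dvd_mul_left h
  have hcz : Nat.card (Subgroup.zpowers z) = f := by rw [Nat.card_zpowers, hord]
  let e := zmodCyclicMulEquiv (G := Subgroup.zpowers z) inferInstance
  let η : Multiplicative (ZMod f) →* G :=
    (Subgroup.zpowers z).subtype.comp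
      ((hcz ▸ e : Multiplicative (ZMod f) ≃* Subgroup.zpowers z)).toMonoidHom
  have hηmem : ∀ c, η c ∈ Subgroup.zpowers z := fun c => Subtype.prop _
  have hηsurj : ∀ y ∈ Subgroup.zpowers z, ∃ c, η c = y := fun y hy => by
    obtain ⟨c, hc⟩ := (hcz ▸ e : Multiplicative (ZMod f) ≃* Subgroup.zpowers z).surjective ⟨y, hy⟩
    exact ⟨c, congrArg Subtype.val hc⟩
  have hηinj : Function.Injective η :=
    (Subgroup.zpowers z).subtype_injective.comp
      (hcz ▸ e : Multiplicative (ZMod f) ≃* Subgroup.zpowers z).injective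
  have hθz : ∀ x, Commute z (θ x) := by
    rintro (i | i)
    · exact hρz.pow_right _
    · exact hzA.mul_right (hρz.pow_right _)
  have hcomm : ∀ x c, Commute (θ x) (η c) := fun x c => by
    obtain ⟨n, hn⟩ := Subgroup.mem_zpowers_iff.1 (hηmem c)
    rw [← hn]
    exact ((hθz x).zpow_left n).symm
  let H := MonoidHom.noncommCoprod θ η hcomm
  have hπθ : ∀ x, π (θ x) = 1 := by
    rintro (i | i)
    · show π (ρ ^ i.val) = 1
      rw [map_pow, hρπ, one_pow]
    · show π (A * ρ ^ i.val) = 1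
      rw [map_mul, map_pow, hρπ, hπA, one_pow, one_mul]
  have hinj : Function.Injective H := by
    refine (injective_iff_map_eq_one H).2 ?_
    rintro ⟨x, c⟩ h
    have h' : θ x * η c = 1 := h
    have h1 := congrArg π h'
    rw [map_mul, hπθ, one_mul, map_one] at h1
    obtain ⟨n, hn⟩ := (IsOfFinOrder.mem_powers_iff_mem_zpowers
      (orderOf_pos_iff.1 (by rw [hord]; exact hf.pos))).2 (hηmem c)
    simp only at hn
    rw [← hn, ← pow_mul] at h1
    have hd := hπΦ _ h1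
    have hcop : Nat.Coprime f 8 := by
      rw [show (8 : ℕ) = 2 ^ 3 from rfl]
      exact (Nat.coprime_two_right.2 hf).pow_right 3
    obtain ⟨t, rfl⟩ := hcop.dvd_of_dvd_mul_left hd
    have hc1 : η c = 1 := by rw [← hn, pow_mul, hzf, one_pow]
    rw [hc1, mul_one] at h'
    exact Prod.ext (hθ (h'.trans (map_one θ).symm)) (hηinj (hc1.trans (map_one η).symm))
  have hrange : H.range = ⊤ := by
    rw [Subgroup.eq_top_iff']
    intro x
    refine (Subgroup.closure_le _).2 ?_ (hgen x)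
    have hAm : A ∈ H.range := ⟨(DihedralGroup.sr 0, 1), by
      show θ (DihedralGroup.sr 0) * η 1 = A
      rw [map_one, mul_one]
      show A * ρ ^ (0 : ZMod 4).val = A
      simp⟩
    have hρm : ρ ∈ H.range := ⟨(DihedralGroup.r 1, 1), by
      show θ (DihedralGroup.r 1) * η 1 = ρ
      rw [map_one, mul_one]
      show ρ ^ (1 : ZMod 4).val = ρ
      exact pow_one ρ⟩
    have hΔm : Δ ∈ H.range := (Subgroup.closure_le _).2 (by
      rintro y (rfl | rfl)
      · exact hAm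
      · exact hρm) hρmem
    have hzm : z ∈ H.range := by
      obtain ⟨c, hc⟩ := hηsurj z (Subgroup.mem_zpowers z)
      exact ⟨(1, c), by show θ 1 * η c = z; rw [map_one, one_mul, hc]⟩
    rintro y (rfl | rfl | rfl)
    · exact hAm
    · exact hΔm
    · have hfm : y ^ f ∈ H.range := by
        have hBm : B ∈ H.range := mul_mem (mul_mem hΔm hAm) (inv_mem hΔm)
        rcases hΦf with h | h | h | h
        · rw [h]; exact one_mem _
        · rw [h]; exact hAm
        · rw [h]; exact hBm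
        · rw [h]; exact mul_mem hAm hBm
      have hcop : Nat.Coprime 8 f := by
        rw [show (8 : ℕ) = 2 ^ 3 from rfl]
        exact (Nat.coprime_two_left.2 hf).pow_left 3
      have hb := Nat.gcd_eq_gcd_ab 8 f
      rw [hcop.gcd_eq_one] at hb
      have : y = (y ^ 8) ^ Nat.gcdA 8 f * (y ^ f) ^ Nat.gcdB 8 f := by
        rw [← zpow_natCast y 8, ← zpow_natCast y f, ← zpow_mul, ← zpow_mul, ← zpow_add, ← hb]
        simp
      rw [this]
      exact mul_mem (zpow_mem hzm _) (zpow_mem hfm _)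
  exact ⟨(MulEquiv.ofBijective H ⟨hinj, MonoidHom.range_eq_top.1 hrange⟩).symm⟩

end Cfsg.Agent.DihExt57
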