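import Cfsg.Agent.Helper57Spinor
import Cfsg.Agent.Classical.SLGen

/-!
The Levi subgroup `GL_m` of `O⁺_{2m}` and the element interchanging the two standard singular subspaces.
-/

set_option autoImplicit false
set_option linter.unusedSectionVars false

namespace Cfsg.Agent.Levi57

open CfsgLib.Orth Matrix

variable {F : Type*} [Field F] [Fintype F] {m : ℕ}

/-- `diag(A, A⁻ᵀ)` in the general linear group. -/
def leviGL (m : ℕ) (F : Type*) [Field F] : GL (Fin m) F →* GL (Fin m ⊕ Fin m) F where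
  toFun A := ⟨fromBlocks A 0 0 ((A⁻¹ : GL (Fin m) F) : Matrix (Fin m) (Fin m) F)ᵀ,
    fromBlocks ((A⁻¹ : GL (Fin m) F) : Matrix (Fin m) (Fin m) F) 0 0 (A : Matrix (Fin m) (Fin m) F)ᵀ,
    by simp [fromBlocks_multiply, ← transpose_mul], by simp [fromBlocks_multiply, ← transpose_mul]⟩
  map_one' := Units.ext (by simp)
  map_mul' A B := Units.ext (by simp [fromBlocks_multiply])

theorem leviGL_mem (A : GL (Fin m) F) : leviGL m F A ∈ O (plusQ m F) := by
  intro u _
  show plusQ m F (fromBlocks (A : Matrix (Fin m) (Fin m) F) 0 0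
    ((A⁻¹ : GL (Fin m) F) : Matrix (Fin m) (Fin m) F)ᵀ *ᵥ u) = plusQ m F u
  rw [fromBlocks_mulVec, plusQ_coe]
  simp only [Cfsg.quadFormPlus, zero_mulVec, add_zero, zero_add, Sum.elim_inl, Sum.elim_inr]
  show ((A : Matrix (Fin m) (Fin m) F) *ᵥ (u ∘ Sum.inl)) ⬝ᵥ
      (((A⁻¹ : GL (Fin m) F) : Matrix (Fin m) (Fin m) F)ᵀ *ᵥ (u ∘ Sum.inr))
      = (u ∘ Sum.inl) ⬝ᵥ (u ∘ Sum.inr)
  rw [mulVec_transpose, dotProduct_comm, ← dotProduct_mulVec, mulVec_mulVec, ← Units.val_mul,
    inv_mul_cancel, Units.val_one, one_mulVec, dotProduct_comm]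

/-- `diag(A, A⁻ᵀ)` as an isometry. -/
noncomputable def levi (m : ℕ) (F : Type*) [Field F] [Fintype F] : GL (Fin m) F →* O (plusQ m F) :=
  (leviGL m F).codRestrict _ leviGL_mem

theorem levi_coe (A : GL (Fin m) F) :
    ((levi m F A : GL (Fin m ⊕ Fin m) F) : Matrix (Fin m ⊕ Fin m) (Fin m ⊕ Fin m) F)
      = fromBlocks (A : Matrix (Fin m) (Fin m) F) 0 0 ((A : Matrix (Fin m) (Fin m) F)⁻¹)ᵀ := by
  show fromBlocks (A : Matrix (Fin m) (Fin m) F) 0 0 ((A⁻¹ : GL (Fin m) F) : Matrix (Fin m) (Fin m) F)ᵀ = _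
  rw [coe_units_inv]

theorem exists_ne_zero_one (h : Fintype.card F ≠ 2) : ∃ a : F, a ≠ 0 ∧ a ≠ 1 :=
  (CfsgLib.OrthOmega.gen_cond (n := 4) (Or.inl h)).resolve_right (fun e => e rfl)

theorem reflClosure_plus (hh : Fintype.card F ≠ 2 ∨ m ≠ 2) : reflClosure (plusQ m F) = ⊤ :=
  reflClosure_eq_top (plusQ_nondegenerate m) (CfsgLib.OrthOmega.gen_cond (hh.imp id (fun h => by
    simp only [Fintype.card_sum, Fintype.card_fin]
    omega)))

theorem levi_mem_of_det_one (h : Fintype.card F ≠ 2 ∨ m ≠ 2) {A : GL (Fin m) F}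
    (hA : GeneralLinearGroup.det A = 1) : levi m F A ∈ Cfsg.Omega F ⇑(plusQ m F) := by
  have hc := Cfsg.Agent.Classical.gl_commutator_eq_ker_det (ι := Fin m) (F := F) (fun e => by
    rw [Fintype.card_fin] at e
    exact exists_ne_zero_one (h.resolve_right (fun h' => h' e)))
  have hmem : A ∈ commutator (GL (Fin m) F) := hc ▸ hA
  have h1 : (commutator (GL (Fin m) F)).map (levi m F) ≤ commutator (O (plusQ m F)) := by
    rw [commutator_def, Subgroup.map_commutator, commutator_def]
    exact Subgroup.commutator_mono le_top le_top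
  exact h1 ⟨A, hmem, rfl⟩

/-- the element `diag(t, 1, …, 1)` -/
def diagT (i0 : Fin m) (t : Fˣ) : GL (Fin m) F :=
  ⟨diagonal (fun k => if k = i0 then (t : F) else 1),
    diagonal (fun k => if k = i0 then ((t⁻¹ : Fˣ) : F) else 1),
    by rw [diagonal_mul_diagonal, ← diagonal_one]; congr 1; funext k; split_ifs <;> simp,
    by rw [diagonal_mul_diagonal, ← diagonal_one]; congr 1; funext k; split_ifs <;> simp⟩

theorem det_diagT (i0 : Fin m) (t : Fˣ) : GeneralLinearGroup.det (diagT i0 t) = t := by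
  apply Units.ext
  show (diagonal fun k => if k = i0 then (t : F) else 1).det = t
  rw [det_diagonal, Finset.prod_eq_single i0 (fun b _ hb => if_neg hb) (by simp), if_pos rfl]

theorem Q_pair (i0 : Fin m) (c : F) :
    plusQ m F (Pi.single (Sum.inl i0) 1 + c • Pi.single (Sum.inr i0) 1) = c := by
  simp [plusQ_coe, Cfsg.quadFormPlus, Pi.single_apply]

theorem polar_pair (i0 : Fin m) (c : F) (x : Fin m ⊕ Fin m → F) :
    QuadraticMap.polar ⇑(plusQ m F) x (Pi.single (Sum.inl i0) 1 + c • Pi.single (Sum.inr i0) 1)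
      = c * x (.inl i0) + x (.inr i0) := by
  rw [polar_plusQ]
  simp [Pi.single_apply, Finset.sum_add_distrib, mul_comm]

theorem levi_diagT (i0 : Fin m) (t : Fˣ) :
    levi m F (diagT i0 t) =
      refl (plusQ m F) (Pi.single (Sum.inl i0) 1 + ((t⁻¹ : Fˣ) : F) • Pi.single (Sum.inr i0) 1) *
      refl (plusQ m F) (Pi.single (Sum.inl i0) 1 + (1 : F) • Pi.single (Sum.inr i0) 1) := by
  refine ext_app fun x => ?_
  rw [app_mul, app_refl, app_refl, Q_pair, Q_pair, polar_pair, polar_pair, app_apply,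
    show ((levi m F (diagT i0 t) : GL (Fin m ⊕ Fin m) F) : Matrix (Fin m ⊕ Fin m) (Fin m ⊕ Fin m) F)
      = fromBlocks (diagonal (fun k => if k = i0 then (t : F) else 1)) 0 0
        (diagonal (fun k => if k = i0 then ((t⁻¹ : Fˣ) : F) else 1))ᵀ from rfl,
    diagonal_transpose, fromBlocks_mulVec]
  have ht : (t : F) ≠ 0 := t.ne_zero
  funext k
  rcases k with k | k
  · by_cases hk : k = i0
    · subst hk
      simp [mulVec_diagonal]
      field_simp
      ring
    · simp [mulVec_diagonal, hk]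
  · by_cases hk : k = i0
    · subst hk
      simp [mulVec_diagonal]
      field_simp
      ring
    · simp [mulVec_diagonal, hk]

theorem refl_pair_mul_mem_iff (h : Fintype.card F ≠ 2 ∨ m ≠ 2) {u v : Fin m ⊕ Fin m → F}
    (hu : plusQ m F u ≠ 0) (hv : plusQ m F v ≠ 0) :
    refl (plusQ m F) u * refl (plusQ m F) v ∈ Cfsg.Omega F ⇑(plusQ m F)
      ↔ IsSquare (plusQ m F u * plusQ m F v) := by
  classical
  by_cases h2 : (2 : F) = 0
  · haveI := CfsgLib.OrthOmega.charP_two_of_two_eq_zero h2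
    rw [CfsgLib.OrthOmega.mem_omega_two (plusQ_nondegenerate m) (reflClosure_plus h), map_mul,
      dicksonHom_refl _ _ hu, dicksonHom_refl _ _ hv]
    simp [isSquare_of_charTwo']
  · obtain ⟨d, hd⟩ := CfsgLib.OrthOmega.exists_not_square h2
    rw [CfsgLib.OrthOmega.mem_omega_odd (plusQ_nondegenerate m) h2 hd, map_mul,
      Spinor57.chiPair_refl' h2 hd hu, Spinor57.chiPair_refl' h2 hd hv, Prod.mk_mul_mk, neg_mul_neg,
      Prod.ext_iff, Prod.fst_one, Prod.snd_one, and_self, ← Spinor57.sqSign_mul hu hv,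
      Spinor57.sqSign_eq_one_iff]

theorem levi_mem_iff (hm : 1 ≤ m) (h : Fintype.card F ≠ 2 ∨ m ≠ 2) (A : GL (Fin m) F) :
    levi m F A ∈ Cfsg.Omega F ⇑(plusQ m F) ↔ IsSquare (A : Matrix (Fin m) (Fin m) F).det := by
  let i0 : Fin m := ⟨0, hm⟩
  let t := GeneralLinearGroup.det A
  have hsl : levi m F ((diagT i0 t)⁻¹ * A) ∈ Cfsg.Omega F ⇑(plusQ m F) :=
    levi_mem_of_det_one h (by rw [map_mul, map_inv, det_diagT, inv_mul_cancel])
  rw [show levi m F A = levi m F (diagT i0 t) * levi m F ((diagT i0 t)⁻¹ * A) by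
    rw [← map_mul, mul_inv_cancel_left], Subgroup.mul_mem_cancel_right _ hsl, levi_diagT,
    refl_pair_mul_mem_iff h (by rw [Q_pair]; exact (t⁻¹).ne_zero) (by rw [Q_pair]; exact one_ne_zero),
    Q_pair, Q_pair, mul_one, Units.val_inv_eq_inv_val, isSquare_inv]
  rfl

/-- the exchange `(x, y) ↦ (y, x)` -/
def swapGL (m : ℕ) (F : Type*) [Field F] : GL (Fin m ⊕ Fin m) F :=
  ⟨fromBlocks (0 : Matrix (Fin m) (Fin m) F) (1 : Matrix (Fin m) (Fin m) F)
      (1 : Matrix (Fin m) (Fin m) F) (0 : Matrix (Fin m) (Fin m) F),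
    fromBlocks (0 : Matrix (Fin m) (Fin m) F) (1 : Matrix (Fin m) (Fin m) F)
      (1 : Matrix (Fin m) (Fin m) F) (0 : Matrix (Fin m) (Fin m) F),
    by simp [fromBlocks_multiply], by simp [fromBlocks_multiply]⟩

theorem swapGL_mem : swapGL m F ∈ O (plusQ m F) := by
  intro u _
  show plusQ m F (fromBlocks (0 : Matrix (Fin m) (Fin m) F) (1 : Matrix (Fin m) (Fin m) F)
      (1 : Matrix (Fin m) (Fin m) F) (0 : Matrix (Fin m) (Fin m) F) *ᵥ u) = plusQ m F u
  rw [fromBlocks_mulVec, plusQ_coe]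
  simp [Cfsg.quadFormPlus, mul_comm]

/-- the exchange as an isometry -/
noncomputable def swapO (m : ℕ) (F : Type*) [Field F] [Fintype F] : O (plusQ m F) := ⟨swapGL m F, swapGL_mem⟩

theorem app_swapO (x : Fin m ⊕ Fin m → F) :
    app (swapO m F) x = Sum.elim (fun i => x (.inr i)) (fun i => x (.inl i)) := by
  show fromBlocks (0 : Matrix (Fin m) (Fin m) F) (1 : Matrix (Fin m) (Fin m) F)
      (1 : Matrix (Fin m) (Fin m) F) (0 : Matrix (Fin m) (Fin m) F) *ᵥ x = _
  rw [fromBlocks_mulVec]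
  simp [Function.comp_def]

/-- the vectors `e_i - f_i` -/
abbrev wv (i : Fin m) : Fin m ⊕ Fin m → F := Pi.single (Sum.inl i) 1 + (-1 : F) • Pi.single (Sum.inr i) 1

theorem swap_eq_prod : swapO m F = ((List.finRange m).map (fun i => refl (plusQ m F) (wv i))).prod := by
  have key : ∀ l : List (Fin m), l.Nodup → ∀ x : Fin m ⊕ Fin m → F,
      app ((l.map (fun i => refl (plusQ m F) (wv i))).prod) x =
        Sum.elim (fun i => if i ∈ l then x (.inr i) else x (.inl i))
          (fun i => if i ∈ l then x (.inl i) else x (.inr i)) := by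
    intro l
    induction l with
    | nil =>
      intro _ x
      simp only [List.map_nil, List.prod_nil, app_one]
      funext k
      rcases k with k | k <;> simp
    | cons a l ih =>
      intro hnd x
      rw [List.nodup_cons] at hnd
      rw [List.map_cons, List.prod_cons, app_mul, ih hnd.2, app_refl, wv, Q_pair, polar_pair]
      funext k
      rcases k with k | k <;> by_cases hk : k = a
      · subst hk; simp [hnd.1]
      · simp [hk]
      · subst hk; simp [hnd.1]
      · simp [hk]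
  refine ext_app fun x => ?_
  rw [key _ (List.nodup_finRange m), app_swapO]
  funext k
  rcases k with k | k <;> simp

theorem swap_dvd (h : Fintype.card F ≠ 2 ∨ m ≠ 2) :
    swapO m F ∈ Cfsg.Omega F ⇑(plusQ m F) ↔ Even m := by
  classical
  by_cases h2 : (2 : F) = 0
  · haveI := CfsgLib.OrthOmega.charP_two_of_two_eq_zero h2
    rw [CfsgLib.OrthOmega.mem_omega_two (plusQ_nondegenerate m) (reflClosure_plus h), swap_eq_prod,
      map_list_prod, List.map_map,
      show (⇑(dicksonHom (plusQ_nondegenerate m) (reflClosure_plus h)) ∘ fun i => refl (plusQ m F) (wv i))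
          = fun _ => (-1 : ℤˣ) from funext fun i => dicksonHom_refl _ _
            (by rw [Q_pair]; exact neg_ne_zero.2 one_ne_zero),
      List.map_const', List.prod_replicate, List.length_finRange]
    exact neg_one_pow_eq_one_iff_even (by decide)
  · obtain ⟨d, hd⟩ := CfsgLib.OrthOmega.exists_not_square h2
    have hp := Spinor57.chiPair_prod_refl (Q := plusQ m F) h2 hd ((List.finRange m).map wv) (by
      intro v hv
      rw [List.mem_map] at hv
      obtain ⟨i, -, rfl⟩ := hv
      rw [Q_pair]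
      exact neg_ne_zero.2 one_ne_zero)
    rw [List.map_map, List.map_map, List.length_map, List.length_finRange] at hp
    rw [CfsgLib.OrthOmega.mem_omega_odd (plusQ_nondegenerate m) h2 hd, swap_eq_prod,
      show (fun i => refl (plusQ m F) (wv i)) = refl (plusQ m F) ∘ wv from rfl, hp.2,
      show ((fun v => plusQ m F v) ∘ wv) = fun _ : Fin m => (-1 : F) from funext fun i => Q_pair i _,
      List.map_const', List.prod_replicate, List.length_finRange, Prod.ext_iff, Prod.fst_one,
      Prod.snd_one]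
    constructor
    · rintro ⟨h1, h3⟩
      dsimp only at h1 h3
      rw [h3, mul_one] at h1
      exact (neg_one_pow_eq_one_iff_even (by decide)).1 h1
    · intro he
      dsimp only
      rw [he.neg_one_pow, he.neg_one_pow, Spinor57.sqSign_one, one_mul]
      exact ⟨rfl, rfl⟩

/-- An isometry exchanging the two subspaces is the exchange times a Levi element. -/
theorem exists_levi_of_interchange (g : O (plusQ m F))
    (h1 : ∀ v : Fin m ⊕ Fin m → F, (∀ i, v (Sum.inr i) = 0) → ∀ i, app g v (Sum.inl i) = 0)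
    (h2 : ∀ v : Fin m ⊕ Fin m → F, (∀ i, v (Sum.inl i) = 0) → ∀ i, app g v (Sum.inr i) = 0) :
    ∃ A : GL (Fin m) F, g = swapO m F * levi m F A := by
  classical
  let k := swapO m F * g
  have k1 : ∀ v : Fin m ⊕ Fin m → F, (∀ i, v (Sum.inr i) = 0) → ∀ i, app k v (Sum.inr i) = 0 := by
    intro v hv i
    simp only [k, app_mul, app_swapO, Sum.elim_inr]
    exact h1 v hv i
  have k2 : ∀ v : Fin m ⊕ Fin m → F, (∀ i, v (Sum.inl i) = 0) → ∀ i, app k v (Sum.inl i) = 0 := by
    intro v hv i
    simp only [k, app_mul, app_swapO, Sum.elim_inl]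
    exact h2 v hv i
  let K : Matrix (Fin m ⊕ Fin m) (Fin m ⊕ Fin m) F := ((k : GL (Fin m ⊕ Fin m) F) : Matrix _ _ F)
  let A : Matrix (Fin m) (Fin m) F := fun i j => K (.inl i) (.inl j)
  let D : Matrix (Fin m) (Fin m) F := fun i j => K (.inr i) (.inr j)
  have happ : ∀ s t, app k (Pi.single s 1) t = K t s := fun s t => by
    rw [app_apply, mulVec_single_one]
    rfl
  have hK : K = fromBlocks A 0 0 D := by
    ext i j
    rcases i with i | i <;> rcases j with j | j
    · rfl
    · rw [fromBlocks_apply₁₂, Matrix.zero_apply, ← happ]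
      exact k2 _ (fun l => by simp) i
    · rw [fromBlocks_apply₂₁, Matrix.zero_apply, ← happ]
      exact k1 _ (fun l => by simp) i
    · rfl
  have hAD : Aᵀ * D = 1 := by
    ext i j
    have h := polar_app k (Pi.single (Sum.inl i) 1) (Pi.single (Sum.inr j) 1)
    rw [polar_plusQ, polar_plusQ] at h
    simp only [happ, hK, fromBlocks_apply₁₁, fromBlocks_apply₁₂, fromBlocks_apply₂₁, fromBlocks_apply₂₂,
      Matrix.zero_apply, mul_zero, zero_mul, add_zero] at h
    rw [Matrix.mul_apply]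
    simp only [transpose_apply]
    rw [h]
    simp [Pi.single_apply, Matrix.one_apply, eq_comm]
  have hA : IsUnit A := by
    rw [Matrix.isUnit_iff_isUnit_det]
    refine IsUnit.of_mul_eq_one D.det ?_
    rw [← det_transpose A, ← det_mul, hAD, det_one]
  refine ⟨hA.unit, ?_⟩
  have hk : k = levi m F hA.unit := by
    apply Subtype.ext
    apply Units.ext
    show K = fromBlocks A 0 0 ((hA.unit⁻¹ : GL (Fin m) F) : Matrix (Fin m) (Fin m) F)ᵀ
    rw [hK]
    congr 1
    rw [coe_units_inv, IsUnit.unit_spec, transpose_nonsing_inv, inv_eq_right_inv hAD]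
  rw [← hk]
  show g = swapO m F * (swapO m F * g)
  rw [← mul_assoc, show swapO m F * swapO m F = 1 from ext_app fun x => by
    rw [app_mul, app_swapO, app_swapO, app_one]; funext s; rcases s with s | s <;> simp, one_mul]

end Cfsg.Agent.Levi57
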