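import Cfsg.Agent.Lib.Orth.NegOne
import Cfsg.Agent.Lib.Orth.CharTwo
import Cfsg.Agent.Lib.OrthOmega.Invariant

/-!
Spinor-norm computations for the standard forms.
-/

set_option autoImplicit false
set_option linter.unusedSectionVars false

namespace Cfsg.Agent.Spinor57

open QuadraticMap CfsgLib.Orth

variable {F : Type*} [Field F] [Fintype F]

/-- `1` for squares, `-1` otherwise. -/
noncomputable def sqSign (x : F) : ℤˣ :=
  open scoped Classical in if IsSquare x then 1 else -1

theorem sqSign_mul {x y : F} (hx : x ≠ 0) (hy : y ≠ 0) : sqSign (x * y) = sqSign x * sqSign y := by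
  classical
  unfold sqSign
  have hxy : (x * y) ≠ 0 := mul_ne_zero hx hy
  by_cases h1 : IsSquare x <;> by_cases h2 : IsSquare y
  · simp [h1, h2, h1.mul h2]
  · have : ¬ IsSquare (x * y) := fun h => h2 (by simpa [hx] using h.div h1)
    simp [h1, h2, this]
  · have : ¬ IsSquare (x * y) := fun h => h1 (by simpa [hy] using h.div h2)
    simp [h1, h2, this]
  · have : IsSquare (x * y) := by
      rw [← quadraticChar_one_iff_isSquare hxy, map_mul, quadraticChar_neg_one_iff_not_isSquare.2 h1,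
        quadraticChar_neg_one_iff_not_isSquare.2 h2]
      norm_num
    simp [h1, h2, this]

theorem sqSign_eq_one_iff (x : F) : sqSign x = 1 ↔ IsSquare x := by
  classical
  unfold sqSign
  split_ifs with h <;> simp [h]

theorem sqSign_one : sqSign (1 : F) = 1 := (sqSign_eq_one_iff 1).2 IsSquare.one

variable {ι : Type} [Fintype ι] [DecidableEq ι] {Q : QuadraticForm F (ι → F)}

theorem chiPair_refl' [DecidableEq F] (h2 : (2 : F) ≠ 0) {d : F} (hd : ¬ IsSquare d) {v : ι → F}
    (hv : Q v ≠ 0) : chiPair Q d (refl Q v) = (-sqSign (Q v), sqSign (Q v)) := by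
  classical
  rw [chiPair_refl h2 hd hv, sqSign]
  by_cases h : IsSquare (Q v) <;> simp [h]

theorem chiPair_prod_refl [DecidableEq F] (h2 : (2 : F) ≠ 0) {d : F} (hd : ¬ IsSquare d) :
    ∀ vs : List (ι → F), (∀ v ∈ vs, Q v ≠ 0) →
      (vs.map (fun v => Q v)).prod ≠ 0 ∧
      chiPair Q d (vs.map (refl Q)).prod =
        ((-1) ^ vs.length * sqSign (vs.map (fun v => Q v)).prod, sqSign (vs.map (fun v => Q v)).prod) := by
  intro vs
  induction vs with
  | nil => intro _; exact ⟨by simp, by simp [sqSign_one]; rfl⟩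
  | cons v vs ih =>
    intro h
    obtain ⟨h0, h1⟩ := ih fun w hw => h w (List.mem_cons_of_mem _ hw)
    have hv := h v List.mem_cons_self
    simp only [List.map_cons, List.prod_cons, List.length_cons]
    refine ⟨mul_ne_zero hv h0, ?_⟩
    rw [map_mul, h1, chiPair_refl' h2 hd hv, sqSign_mul hv h0, Prod.mk_mul_mk, pow_succ]
    refine Prod.ext ?_ rfl
    simp only [neg_mul, mul_neg, mul_one]
    rw [mul_left_comm]

theorem prod_pair [DecidableEq F] {κ : Type*} (s : Finset κ) (x : κ → F) (hx : ∀ i ∈ s, x i ≠ 0) :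
    ∏ i ∈ s, (if IsSquare (x i) then ((-1 : ℤˣ), (1 : ℤˣ)) else (1, -1)) =
      ((-1) ^ s.card * sqSign (∏ i ∈ s, x i), sqSign (∏ i ∈ s, x i)) := by
  classical
  induction s using Finset.induction_on with
  | empty => simp [sqSign_one]; rfl
  | insert i s hi ih =>
    have h0 := fun j hj => hx j (Finset.mem_insert_of_mem hj)
    have hxi := hx i (Finset.mem_insert_self i s)
    rw [Finset.prod_insert hi, ih h0, Finset.prod_insert hi, Finset.card_insert_of_notMem hi, pow_succ,
      sqSign_mul hxi (Finset.prod_ne_zero_iff.2 h0)]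
    by_cases h : IsSquare (x i) <;> simp [h, sqSign]

theorem sq_neg_one_pow_iff {q : ℕ} (hF : Fintype.card F = q) (hq : Odd q) (i : ℕ) :
    IsSquare ((-1 : F) ^ i) ↔ q ^ i % 4 = 1 := by
  have hq1 : q % 2 = 1 := Nat.odd_iff.1 hq
  rcases Nat.even_or_odd i with he | ho
  · simp only [he.neg_one_pow, IsSquare.one, true_iff]
    obtain ⟨k, rfl⟩ := he
    rw [← two_mul, pow_mul, Nat.pow_mod]
    have : q ^ 2 % 4 = 1 := by
      rw [Nat.pow_mod]
      have : q % 4 = 1 ∨ q % 4 = 3 := by omega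
      rcases this with h | h <;> rw [h]
    simp [this]
  · rw [ho.neg_one_pow, FiniteField.isSquare_neg_one_iff, hF]
    obtain ⟨k, rfl⟩ := ho
    have h2 : q ^ 2 % 4 = 1 := by
      rw [Nat.pow_mod]
      have : q % 4 = 1 ∨ q % 4 = 3 := by omega
      rcases this with h | h <;> rw [h]
    have h3 : q ^ (2 * k + 1) % 4 = q % 4 := by
      rw [pow_succ, pow_mul, Nat.mul_mod, Nat.pow_mod, h2]
      simp
    rw [h3]
    omega

theorem two_ne_zero_of_odd {q : ℕ} (hF : Fintype.card F = q) (hq : Odd q) : (2 : F) ≠ 0 := by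
  apply Ring.two_ne_zero
  intro hch
  have h := FiniteField.even_card_of_char_two hch
  rw [hF] at h
  have := Nat.odd_iff.1 hq
  omega

/-- Membership of the involution negating `i` hyperbolic pairs. -/
theorem pairs_involution_mem_iff (hQ : Q.polarBilin.Nondegenerate) {q : ℕ}
    (hF : Fintype.card F = q) (hq : Odd q) {i : ℕ} (E G : Fin i → ι) (D : ι → F)
    (hE : ∀ j, Q (Pi.single (E j) 1) = 0) (hG : ∀ j, Q (Pi.single (G j) 1) = 0)
    (hEG : ∀ j l, polar Q (Pi.single (E j) 1) (Pi.single (G l) 1) = if j = l then 1 else 0)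
    (hEE : ∀ j l, polar Q (Pi.single (E j) 1) (Pi.single (E l) 1) = 0)
    (hGG : ∀ j l, polar Q (Pi.single (G j) 1) (Pi.single (G l) 1) = 0)
    (hDE : ∀ j, D (E j) = -1) (hDG : ∀ j, D (G j) = -1)
    (hrest : ∀ k, (∀ j, k ≠ E j) → (∀ j, k ≠ G j) → D k = 1 ∧ ∀ j,
      polar Q (Pi.single k 1) (Pi.single (E j) 1) = 0 ∧ polar Q (Pi.single k 1) (Pi.single (G j) 1) = 0) :
    (∃ g : O Q, g ∈ Cfsg.Omega F ⇑Q ∧
      ((g : Matrix.GeneralLinearGroup ι F) : Matrix ι ι F) = Matrix.diagonal D) ↔ q ^ i % 4 = 1 := by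
  classical
  have h2 := two_ne_zero_of_odd hF hq
  obtain ⟨d, hd⟩ := CfsgLib.OrthOmega.exists_not_square h2
  let c : Fin i ⊕ Fin i → F := Sum.elim (fun _ => 1) (fun _ => -1)
  let K : Fin i ⊕ Fin i → Fin i := Sum.elim id id
  let v : Fin i ⊕ Fin i → ι → F := fun s => Pi.single (E (K s)) 1 + c s • Pi.single (G (K s)) 1
  have hQv : ∀ s, Q (v s) = c s := by
    intro s
    simp only [v]
    rw [QuadraticMap.map_add Q, QuadraticMap.map_smul, QuadraticMap.polar_smul_right, hE, hG, hEG,
      if_pos rfl]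
    simp
  have hpv : ∀ s t, polar Q (v s) (v t) = if K s = K t then c s + c t else 0 := by
    intro s t
    simp only [v, QuadraticMap.polar_add_left, QuadraticMap.polar_add_right,
      QuadraticMap.polar_smul_left, QuadraticMap.polar_smul_right, hEE, hGG, hEG,
      QuadraticMap.polar_comm Q (Pi.single (G (K s)) 1) (Pi.single (E (K t)) 1), smul_eq_mul]
    by_cases h : K s = K t
    · simp [h, add_comm]
    · simp [h, Ne.symm h]
  have hv : ∀ s, Q (v s) ≠ 0 := fun s => by rw [hQv]; rcases s with j | j <;> simp [c]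
  have ho : ∀ s t, s ≠ t → polar Q (v s) (v t) = 0 := by
    intro s t hst
    rw [hpv]
    split_ifs with h
    · rcases s with j | j <;> rcases t with l | l <;> simp_all [c, K]
    · rfl
  obtain ⟨g, hg, hfix, hgc⟩ := exists_neg_on v hv ho d Finset.univ
  have hgE : ∀ j, app g (Pi.single (E j) 1) = -Pi.single (E j) 1 := by
    intro j
    have e : (Pi.single (E j) 1 : ι → F) = (2 : F)⁻¹ • (v (.inl j) + v (.inr j)) := by
      simp only [v, c, K, Sum.elim_inl, Sum.elim_inr, id, one_smul, neg_one_smul]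
      rw [show Pi.single (E j) (1 : F) + Pi.single (G j) 1 + (Pi.single (E j) 1 + -Pi.single (G j) 1)
        = (2 : F) • (Pi.single (E j) 1 : ι → F) by rw [two_smul]; abel, smul_smul,
        inv_mul_cancel₀ h2, one_smul]
    rw [e, map_smul, map_add, hg _ (Finset.mem_univ _), hg _ (Finset.mem_univ _)]
    simp only [smul_add, smul_neg, neg_add]
  have hgG : ∀ j, app g (Pi.single (G j) 1) = -Pi.single (G j) 1 := by
    intro j
    have h1 := hg (.inl j) (Finset.mem_univ _)
    simp only [v, c, K, Sum.elim_inl, id, one_smul, map_add, hgE, neg_add] at h1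
    exact add_left_cancel h1
  have hmat : ((g : Matrix.GeneralLinearGroup ι F) : Matrix ι ι F) = Matrix.diagonal D := by
    refine Matrix.ext_of_mulVec_single fun k => ?_
    rw [← app_apply, Matrix.diagonal_mulVec_single, mul_one]
    by_cases h1 : ∃ j, k = E j
    · obtain ⟨j, rfl⟩ := h1
      rw [hgE, hDE, ← Pi.single_neg]
    by_cases h1' : ∃ j, k = G j
    · obtain ⟨j, rfl⟩ := h1'
      rw [hgG, hDG, ← Pi.single_neg]
    push Not at h1 h1'
    obtain ⟨hD, horth⟩ := hrest k h1 h1'
    rw [hD, hfix]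
    intro s _
    simp only [v, QuadraticMap.polar_add_right, QuadraticMap.polar_smul_right, horth]
    simp
  have hiff : g ∈ Cfsg.Omega F ⇑Q ↔ q ^ i % 4 = 1 := by
    rw [CfsgLib.OrthOmega.mem_omega_odd hQ h2 hd, hgc,
      Finset.prod_congr rfl (fun s _ => chiPair_refl h2 hd (hv s)),
      prod_pair Finset.univ (fun s => Q (v s)) (fun s _ => hv s)]
    simp only [hQv, Fintype.prod_sum_type, c, Sum.elim_inl, Sum.elim_inr, Finset.prod_const_one, one_mul,
      Finset.prod_const, Finset.card_univ, Fintype.card_fin, Fintype.card_sum, Prod.ext_iff,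
      Prod.fst_one, Prod.snd_one, Even.neg_one_pow ⟨i, rfl⟩, and_self]
    rw [sqSign_eq_one_iff, sq_neg_one_pow_iff hF hq]
  rw [← hiff]
  exact ⟨fun ⟨g', hg', hm⟩ => by rwa [show g = g' from Subtype.ext (Units.ext (hmat.trans hm.symm))],
    fun h => ⟨g, h, hmat⟩⟩

/-- `x₀² + Σ x_i y_i` as a quadratic form. -/
noncomputable def qOdd (m : ℕ) (F : Type*) [Field F] : QuadraticForm F (Unit ⊕ (Fin m ⊕ Fin m) → F) :=
  QuadraticMap.linMulLin (LinearMap.proj (Sum.inl ())) (LinearMap.proj (Sum.inl ()))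
    + ∑ i : Fin m, QuadraticMap.linMulLin (LinearMap.proj (Sum.inr (Sum.inl i))) (LinearMap.proj (Sum.inr (Sum.inr i)))

theorem qOdd_coe {m : ℕ} : ⇑(qOdd m F) = Cfsg.quadFormOdd m F := by
  funext v
  simp [qOdd, Cfsg.quadFormOdd, pow_two]

theorem polar_qOdd {m : ℕ} (x y : Unit ⊕ (Fin m ⊕ Fin m) → F) :
    polar (qOdd m F) x y = 2 * x (.inl ()) * y (.inl ()) +
      ∑ i, (x (.inr (.inl i)) * y (.inr (.inr i)) + x (.inr (.inr i)) * y (.inr (.inl i))) := by
  rw [QuadraticMap.polar, qOdd_coe]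
  simp only [Cfsg.quadFormOdd, Pi.add_apply, add_mul, mul_add, Finset.sum_add_distrib]
  rw [Finset.sum_congr rfl fun i _ => mul_comm (y (Sum.inr (Sum.inl i))) (x (Sum.inr (Sum.inr i)))]
  ring

theorem qOdd_nondegenerate (h2 : (2 : F) ≠ 0) {m : ℕ} : (qOdd m F).polarBilin.Nondegenerate := by
  have key : ∀ x, (∀ y, polar (qOdd m F) x y = 0) → x = 0 := fun x hx => funext fun j => by
    rcases j with u | i | i
    · have := hx (Pi.single (Sum.inl ()) 1)
      simpa [polar_qOdd, Pi.single_apply, h2] using this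
    · have := hx (Pi.single (Sum.inr (Sum.inr i)) 1)
      simpa [polar_qOdd, Pi.single_apply, Finset.sum_add_distrib] using this
    · have := hx (Pi.single (Sum.inr (Sum.inl i)) 1)
      simpa [polar_qOdd, Pi.single_apply, Finset.sum_add_distrib] using this
  exact ⟨key, fun y hy => key y fun x => by rw [polar_comm]; exact hy x⟩

end Cfsg.Agent.Spinor57
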