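import Cfsg.Agent.Helper57Similitude
import Cfsg.Agent.Helper57Spinor
import Cfsg.Agent.Lib.Orth.SO
import Cfsg.Agent.Lib.AutPSL.OutPSL

/-!
`Out` of `Ω_{2m+1}(q)`, given that every automorphism is induced by a semisimilarity.
-/

set_option autoImplicit false
set_option linter.unusedSectionVars false

namespace Cfsg.Agent.GammaO57

open Matrix QuadraticMap CfsgLib.Orth Cfsg.Agent.Spinor57

variable {F : Type*} [Field F] [Fintype F] {m : ℕ}

/-- The index type. -/
abbrev OI (m : ℕ) : Type := Unit ⊕ (Fin m ⊕ Fin m)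

theorem qOdd_prime : IsPrimeForm (qOdd m F) := fun σ v => by
  simp [qOdd_coe, Cfsg.quadFormOdd, map_sum]

/-- The vector of value one. -/
def e0 (m : ℕ) (F : Type*) [Field F] : Unit ⊕ (Fin m ⊕ Fin m) → F := Pi.single (Sum.inl ()) 1

theorem qOdd_e0 : qOdd m F (e0 m F) = 1 := by
  simp [qOdd_coe, Cfsg.quadFormOdd, e0]

/-- Two hyperbolic pairs. -/
noncomputable def oddData (hm : 2 ≤ m) : HypData (qOdd m F) where
  u := Pi.single (Sum.inr (Sum.inl ⟨0, by omega⟩)) 1
  v := Pi.single (Sum.inr (Sum.inl ⟨1, by omega⟩)) 1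
  u' := Pi.single (Sum.inr (Sum.inr ⟨0, by omega⟩)) 1
  v' := Pi.single (Sum.inr (Sum.inr ⟨1, by omega⟩)) 1
  hu := by simp [qOdd_coe, Cfsg.quadFormOdd]
  hv := by simp [qOdd_coe, Cfsg.quadFormOdd]
  hu' := by simp [qOdd_coe, Cfsg.quadFormOdd]
  hv' := by simp [qOdd_coe, Cfsg.quadFormOdd]
  huv := by simp [polar_qOdd]
  huv' := by simp [polar_qOdd, Pi.single_apply]
  hu'v := by simp [polar_qOdd, Pi.single_apply]
  hu'v' := by simp [polar_qOdd]
  huu' := by simp [polar_qOdd, Pi.single_apply]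
  hvv' := by simp [polar_qOdd, Pi.single_apply]


/-- The multiplier. -/
noncomputable def mlt (x : ↥(semiGroup (qOdd m F))) : F :=
  qOdd m F ((x.1.left : Matrix (OI m) (OI m) F) *ᵥ e0 m F)

theorem mlt_spec (x : ↥(semiGroup (qOdd m F))) (w : Unit ⊕ (Fin m ⊕ Fin m) → F) :
    qOdd m F ((x.1.left : Matrix (OI m) (OI m) F) *ᵥ w) = mlt x * qOdd m F w := by
  obtain ⟨c, hc⟩ := similitude_left qOdd_prime x
  rw [mlt, hc, hc, qOdd_e0, mul_one]

theorem mlt_ne (x : ↥(semiGroup (qOdd m F))) : mlt x ≠ 0 := by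
  obtain ⟨c, hc⟩ := similitude_left qOdd_prime x
  rw [mlt, hc, qOdd_e0, mul_one]
  exact c.ne_zero

/-- The factor normalising to determinant one. -/
noncomputable def nu (x : ↥(semiGroup (qOdd m F))) : Fˣ :=
  Units.mk0 (mlt x) (mlt_ne x) ^ m * (GeneralLinearGroup.det x.1.left)⁻¹

theorem nu_mul (x y : ↥(semiGroup (qOdd m F))) :
    nu (x * y) = nu x * Units.map x.1.right.toMonoidHom (nu y) := by
  have h : Units.mk0 (mlt (x * y)) (mlt_ne _) =
      Units.mk0 (mlt x) (mlt_ne x) * Units.map x.1.right.toMonoidHom (Units.mk0 (mlt y) (mlt_ne y)) :=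
    Units.ext (mult_mul qOdd_prime qOdd_e0 x y)
  have hd : GeneralLinearGroup.det (x * y).1.left =
      GeneralLinearGroup.det x.1.left * Units.map x.1.right.toMonoidHom (GeneralLinearGroup.det y.1.left) := by
    show GeneralLinearGroup.det (x.1.left * glAut (OI m) F x.1.right y.1.left) = _
    rw [map_mul]
    congr 1
    exact GeneralLinearGroup.map_det _ _
  rw [nu, nu, nu, h, hd, mul_pow, _root_.mul_inv_rev, map_mul (Units.map x.1.right.toMonoidHom),
    map_pow (Units.map x.1.right.toMonoidHom), map_inv (Units.map x.1.right.toMonoidHom)]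
  simp only [mul_comm, mul_left_comm, mul_assoc]

variable (h2 : (2 : F) ≠ 0)

include h2 in
theorem det_eq (x : ↥(semiGroup (qOdd m F))) :
    (x.1.left : Matrix (OI m) (OI m) F).det ^ 2 = mlt x ^ (2 * m + 1) := by
  rw [det_sq_of_similitude (qOdd_nondegenerate h2) (mlt_spec x)]
  congr 1
  simp; ring

include h2 in
theorem norm_mem (x : ↥(semiGroup (qOdd m F))) :
    GeneralLinearGroup.scalar (OI m) (nu x) * x.1.left ∈ O (qOdd m F) := by
  rw [mem_O_iff]
  intro v
  have hd : (x.1.left : Matrix (OI m) (OI m) F).det ≠ 0 :=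
    (GeneralLinearGroup.det x.1.left).ne_zero
  rw [Units.val_mul, ← mulVec_mulVec]
  show qOdd m F (Matrix.scalar _ ((nu x : Fˣ) : F) *ᵥ _) = _
  rw [Matrix.scalar_apply, ← Matrix.smul_one_eq_diagonal, smul_mulVec, one_mulVec,
    QuadraticMap.map_smul, mlt_spec, smul_eq_mul, ← mul_assoc]
  have hnu : ((nu x : Fˣ) : F) = mlt x ^ m * ((x.1.left : Matrix (OI m) (OI m) F).det)⁻¹ := by
    simp [nu]
  have h0 := mlt_ne x
  rw [hnu]
  field_simp
  linear_combination (-(qOdd m F v)) * det_eq h2 x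

/-- The normalised linear part, an isometry. -/
noncomputable def nrm (x : ↥(semiGroup (qOdd m F))) : O (qOdd m F) := ⟨_, norm_mem h2 x⟩

include h2 in
theorem nrm_mem_SO (x : ↥(semiGroup (qOdd m F))) : nrm h2 x ∈ SO (qOdd m F) := by
  classical
  rw [mem_SO]
  apply Units.ext
  show (Matrix.scalar _ ((nu x : Fˣ) : F) * (x.1.left : Matrix (OI m) (OI m) F)).det = 1
  have hd : (x.1.left : Matrix (OI m) (OI m) F).det ≠ 0 := (GeneralLinearGroup.det x.1.left).ne_zero
  have hnu : ((nu x : Fˣ) : F) = mlt x ^ m * ((x.1.left : Matrix (OI m) (OI m) F).det)⁻¹ := by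
    simp [nu]
  have h0 := mlt_ne x
  rw [det_mul, Matrix.scalar_apply, det_diagonal, Finset.prod_const, Finset.card_univ, hnu]
  have hc : Fintype.card (Unit ⊕ (Fin m ⊕ Fin m)) = 2 * m + 1 := by simp; ring
  rw [hc, mul_pow, inv_pow]
  field_simp
  calc (mlt x ^ m) ^ (2 * m + 1) * (x.1.left : Matrix (OI m) (OI m) F).det
      = (mlt x ^ (2 * m + 1)) ^ m * (x.1.left : Matrix (OI m) (OI m) F).det := by rw [← pow_mul, ← pow_mul, mul_comm m]
    _ = (x.1.left : Matrix (OI m) (OI m) F).det ^ (2 * m + 1) := by rw [← det_eq h2]; ring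

include h2 in
theorem nrm_mul (x y : ↥(semiGroup (qOdd m F))) :
    nrm h2 (x * y) = nrm h2 x * conjO (qOdd m F) (fieldIn (Q := qOdd m F) qOdd_prime x.1.right) (nrm h2 y) := by
  apply Subtype.ext
  show GeneralLinearGroup.scalar (OI m) (nu (x * y)) * (x.1.left * glAut (OI m) F x.1.right y.1.left) =
    GeneralLinearGroup.scalar (OI m) (nu x) * x.1.left *
      (1 * glAut (OI m) F x.1.right (GeneralLinearGroup.scalar (OI m) (nu y) * y.1.left) * 1⁻¹)
  rw [nu_mul, inv_one, mul_one, one_mul, map_mul (glAut (OI m) F x.1.right), map_mul (GeneralLinearGroup.scalar (OI m))]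
  have hs : glAut (OI m) F x.1.right (GeneralLinearGroup.scalar (Unit ⊕ (Fin m ⊕ Fin m)) (nu y)) =
      GeneralLinearGroup.scalar (OI m) (Units.map x.1.right.toMonoidHom (nu y)) :=
    GeneralLinearGroup.map_scalar _ _
  rw [hs]
  have hc : GeneralLinearGroup.scalar (Unit ⊕ (Fin m ⊕ Fin m)) (Units.map x.1.right.toMonoidHom (nu y))
      * x.1.left = x.1.left * GeneralLinearGroup.scalar (OI m) (Units.map x.1.right.toMonoidHom (nu y)) :=
    Units.ext ((Matrix.scalar_commute _ (fun _ => Commute.all _ _) _).eq)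
  simp only [mul_assoc]
  rw [← mul_assoc (GeneralLinearGroup.scalar (OI m) (Units.map x.1.right.toMonoidHom (nu y))), hc, mul_assoc]

include h2 in
theorem chi_field [DecidableEq F] (hm : 1 ≤ m) (σ : F ≃+* F) {g : O (qOdd m F)} (hg : g ∈ SO (qOdd m F)) :
    chi (qOdd m F) 1 (conjO (qOdd m F) (fieldIn (Q := qOdd m F) qOdd_prime σ) g) = chi (qOdd m F) 1 g := by
  classical
  obtain ⟨d, hd⟩ := CfsgLib.OrthOmega.exists_not_square h2
  have hQ : (qOdd m F).polarBilin.Nondegenerate := qOdd_nondegenerate h2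
  have hn : 2 ≤ Fintype.card (Unit ⊕ (Fin m ⊕ Fin m)) := by simp; omega
  set θ := conjO (qOdd m F) (fieldIn (Q := qOdd m F) qOdd_prime σ)
  have hθ : ∀ g, g ∈ SO (qOdd m F) → θ g ∈ SO (qOdd m F) := by
    intro g hg
    rw [mem_SO] at hg ⊢
    show GeneralLinearGroup.det (1 * glAut (OI m) F σ (g : GL (OI m) F) * 1⁻¹) = 1
    rw [inv_one, mul_one, one_mul]
    refine (GeneralLinearGroup.map_det _ _).trans ?_
    rw [show GeneralLinearGroup.det (g : GL (OI m) F) = 1 from hg, map_one]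
  let f : ↥(SO (qOdd m F)) →* ℤˣ :=
    { toFun := fun g => chi (qOdd m F) 1 (θ g.1)
      map_one' := by simp
      map_mul' := fun a b => by simp [map_mul] }
  have hsurj : Function.Surjective f := by
    intro e
    have h1 : Function.Surjective ((chi (qOdd m F) 1).comp (SO (qOdd m F)).subtype) := by
      have hi := index_chi_SO hQ h2 hn hd
      rw [Subgroup.index_ker] at hi
      rw [← MonoidHom.range_eq_top]
      exact Subgroup.eq_top_of_card_eq _ (by rw [hi, Nat.card_eq_fintype_card, Fintype.card_units_int])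
    obtain ⟨⟨g, hg⟩, he⟩ := h1 e
    have hmem : θ.symm g ∈ SO (qOdd m F) := by
      have hs : θ.symm = conjO (qOdd m F) (fieldIn (Q := qOdd m F) qOdd_prime σ⁻¹) := by
        rw [map_inv, map_inv]; rfl
      rw [hs, mem_SO]
      show GeneralLinearGroup.det (1 * glAut (OI m) F σ⁻¹ (g : GL (OI m) F) * 1⁻¹) = 1
      rw [inv_one, mul_one, one_mul]
      refine (GeneralLinearGroup.map_det _ _).trans ?_
      rw [show GeneralLinearGroup.det (g : GL (OI m) F) = 1 from mem_SO.1 hg, map_one]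
    exact ⟨⟨θ.symm g, hmem⟩, by simpa [f] using he⟩
  have hidx : f.ker.index = 2 := by
    rw [Subgroup.index_ker, MonoidHom.range_eq_top.2 hsurj, Subgroup.card_top, Nat.card_eq_fintype_card,
      Fintype.card_units_int]
  have hker := SO_index_two_unique hQ h2 hn hd hidx
  have h := SetLike.ext_iff.1 hker ⟨g, hg⟩
  simp only [MonoidHom.mem_ker, f, MonoidHom.coe_mk, OneHom.coe_mk, MonoidHom.comp_apply,
    Subgroup.coe_subtype] at h
  rcases Int.units_eq_one_or (chi (qOdd m F) 1 g) with e | e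
  · rw [e, h.2 e]
  · rcases Int.units_eq_one_or (chi (qOdd m F) 1 (θ g)) with e' | e'
    · rw [h.1 e'] at e; exact absurd e (by decide)
    · rw [e, e']

/-- The invariant `(spinor sign, field automorphism)`. -/
noncomputable def oddInv [DecidableEq F] (hm : 1 ≤ m) : ↥(semiGroup (qOdd m F)) →* ℤˣ × (F ≃+* F) :=
  MonoidHom.mk' (fun x => (chi (qOdd m F) 1 (nrm h2 x), x.1.right)) fun x y => by
    rw [Prod.mk_mul_mk, nrm_mul h2, map_mul, chi_field h2 hm _ (nrm_mem_SO h2 y)]
    rfl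

theorem out_odd (hm : 2 ≤ m) (hgamma : Cfsg.gammaPOmega F (Cfsg.quadFormOdd m F) = ⊤) (h2 : (2 : F) ≠ 0) :
    Nonempty (Cfsg.Out (Cfsg.POmega F (Cfsg.quadFormOdd m F)) ≃* ℤˣ × (F ≃+* F)) ∧
      Nat.card (MulAut (Cfsg.POmega F (Cfsg.quadFormOdd m F))) =
        Nat.card (Cfsg.Out (Cfsg.POmega F (Cfsg.quadFormOdd m F))) *
          Nat.card (Cfsg.POmega F (Cfsg.quadFormOdd m F)) := by
  classical
  rw [← qOdd_coe] at hgamma ⊢
  have hQ : (qOdd m F).polarBilin.Nondegenerate := qOdd_nondegenerate h2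
  have hn : 5 ≤ Fintype.card (Unit ⊕ (Fin m ⊕ Fin m)) := by simp; omega
  obtain ⟨d, hd⟩ := CfsgLib.OrthOmega.exists_not_square h2
  refine ⟨?_, card_mulAut hQ hn (oddData hm)⟩
  set Ψ := oddInv h2 (by omega : 1 ≤ m)
  have hchi : ∀ g : O (qOdd m F), g ∈ SO (qOdd m F) →
      (g ∈ Cfsg.Omega F ⇑(qOdd m F) ↔ chi (qOdd m F) 1 g = 1) := fun g hg => by
    rw [CfsgLib.OrthOmega.mem_omega_odd hQ h2 hd]
    refine ⟨fun h => ?_, fun h => MonoidHom.mem_ker.1 (chiPair_eq_one_of_SO hQ h2 hd hg h)⟩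
    exact congrArg Prod.fst h
  have hscal : ∀ x : ↥(semiGroup (qOdd m F)), x.1.right = 1 →
      (∃ c : Fˣ, x.1.left = GeneralLinearGroup.scalar (OI m) c) → Ψ x = 1 := by
    intro x h1 hc
    obtain ⟨c, hc⟩ := hc
    refine Prod.ext ?_ h1
    have hn1 : nrm h2 x = 1 := by
      have hdet := mem_SO.1 (nrm_mem_SO h2 x)
      have hO : ∀ v, app (nrm h2 x) v = ((nu x * c : Fˣ) : F) • v := fun v => by
        rw [app_apply]
        show ((GeneralLinearGroup.scalar (OI m) (nu x) * x.1.left : GL (OI m) F) : Matrix (OI m) (OI m) F) *ᵥ v = _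
        rw [hc, ← map_mul]
        show Matrix.scalar _ _ *ᵥ v = _
        rw [Matrix.scalar_apply, ← Matrix.smul_one_eq_diagonal, smul_mulVec, one_mulVec]
      have hl2 : ((nu x * c : Fˣ) : F) ^ 2 = 1 := by
        have h := Q_app (nrm h2 x) (e0 m F)
        rw [hO, QuadraticMap.map_smul, qOdd_e0, smul_eq_mul, mul_one] at h
        rw [pow_two]; exact h
      have hl : ((nu x * c : Fˣ) : F) ^ (2 * m + 1) = 1 := by
        have h := congrArg Units.val hdet
        rw [show (detHom (qOdd m F) (nrm h2 x) : F) =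
          (((GeneralLinearGroup.scalar (OI m) (nu x) * x.1.left : GL (OI m) F) : Matrix (OI m) (OI m) F)).det from rfl, hc,
          ← map_mul] at h
        simpa [GeneralLinearGroup.scalar, Matrix.det_diagonal, two_mul, add_comm, add_left_comm] using h
      rw [pow_succ, pow_mul, hl2, one_pow, one_mul] at hl
      exact ext_app fun v => by rw [hO, hl, one_smul, app_one]
    show chi (qOdd m F) 1 (nrm h2 x) = 1
    rw [hn1, map_one]
  refine nonempty_out_equiv hQ hn (oddData hm) hgamma Ψ ?_ hscal ?_ ?_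
  · rintro ⟨e, σ⟩
    have hi := index_chi_SO hQ h2 (by omega) hd (Q := qOdd m F)
    rw [Subgroup.index_ker] at hi
    have hr : ((chi (qOdd m F) 1).comp (SO (qOdd m F)).subtype).range = ⊤ :=
      Subgroup.eq_top_of_card_eq _ (by rw [hi, Nat.card_eq_fintype_card, Fintype.card_units_int])
    obtain ⟨⟨g, hg⟩, he⟩ := MonoidHom.range_eq_top.1 hr e
    let x : ↥(semiGroup (qOdd m F)) := ⟨SemidirectProduct.inl (g : GL (OI m) F),
      ⟨1, fun v => by rw [app_semi, Q_app, Units.val_one, one_mul]; rfl⟩⟩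
    refine ⟨x * fieldIn (Q := qOdd m F) qOdd_prime σ, ?_⟩
    have hx : nrm h2 x = g := by
      apply Subtype.ext
      show GeneralLinearGroup.scalar (OI m) (nu x) * (g : GL (OI m) F) = g
      have hnu : nu x = 1 := by
        apply Units.ext
        have hm1 : mlt x = 1 := by
          show qOdd m F (app g (e0 m F)) = 1
          rw [Q_app, qOdd_e0]
        have hd1 : GeneralLinearGroup.det x.1.left = 1 := mem_SO.1 hg
        simp [nu, hm1, hd1]
      rw [hnu, map_one, one_mul]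
    have hf : Ψ (fieldIn (Q := qOdd m F) qOdd_prime σ) = (1, σ) := by
      refine Prod.ext ?_ rfl
      show chi (qOdd m F) 1 (nrm h2 _) = 1
      have h1 : nrm h2 (fieldIn (Q := qOdd m F) qOdd_prime σ) = 1 := by
        apply Subtype.ext
        show GeneralLinearGroup.scalar (OI m) (nu (fieldIn (Q := qOdd m F) qOdd_prime σ)) * 1 = 1
        have hnu : nu (fieldIn (Q := qOdd m F) qOdd_prime σ) = 1 := by
          apply Units.ext
          have hm1 : mlt (fieldIn (Q := qOdd m F) qOdd_prime σ) = 1 := by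
            show qOdd m F ((1 : Matrix (OI m) (OI m) F) *ᵥ e0 m F) = 1
            rw [one_mulVec, qOdd_e0]
          have hd1 : GeneralLinearGroup.det (fieldIn (Q := qOdd m F) qOdd_prime σ).1.left = 1 := map_one _
          simp [nu, hm1, hd1]
        rw [hnu, map_one, one_mul]
      rw [h1, map_one]
    rw [map_mul, hf]
    show (chi (qOdd m F) 1 (nrm h2 x), (1 : F ≃+* F)) * (1, σ) = (e, σ)
    rw [hx, Prod.mk_mul_mk, mul_one, one_mul]
    exact Prod.ext he rfl
  · intro s
    have hs : (s : O (qOdd m F)) ∈ SO (qOdd m F) :=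
      mem_SO.2 (MonoidHom.mem_ker.1 (Abelianization.commutator_subset_ker _ s.2))
    refine Prod.ext ?_ rfl
    show chi (qOdd m F) 1 (nrm h2 _) = 1
    have hx : nrm h2 (omegaIn _ s) = (s : O (qOdd m F)) := by
      apply Subtype.ext
      show GeneralLinearGroup.scalar (OI m) (nu (omegaIn _ s)) * ((s : O (qOdd m F)) : GL (OI m) F) = _
      have hnu : nu (omegaIn _ s) = 1 := by
        apply Units.ext
        have hm1 : mlt (omegaIn _ s) = 1 := by
          show qOdd m F (app (s : O (qOdd m F)) (e0 m F)) = 1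
          rw [Q_app, qOdd_e0]
        have hd1 : GeneralLinearGroup.det (omegaIn _ s).1.left = 1 := mem_SO.1 hs
        simp [nu, hm1, hd1]
      rw [hnu, map_one, one_mul]
    rw [hx, ← hchi _ hs]
    exact s.2
  · intro x hx
    refine ⟨congrArg Prod.snd hx, (nu x)⁻¹, ⟨nrm h2 x, (hchi _ (nrm_mem_SO h2 x)).2 (congrArg Prod.fst hx)⟩, ?_⟩
    show x.1.left = GeneralLinearGroup.scalar (OI m) (nu x)⁻¹ * (GeneralLinearGroup.scalar (OI m) (nu x) * x.1.left)
    rw [← mul_assoc, ← map_mul, inv_mul_cancel, map_one, one_mul]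

end Cfsg.Agent.GammaO57

namespace Cfsg.Agent.GammaO57

universe u

theorem units_int_equiv : Nonempty (ℤˣ ≃* Multiplicative (ZMod 2)) :=
  ⟨mulEquivOfPrimeCardEq (p := 2) (by simp [Nat.card_eq_fintype_card, Fintype.card_units_int])
    (by simp [Nat.card_eq_fintype_card])⟩

theorem out_odd_zmod {F : Type u} [Field F] [Fintype F] {p f m : ℕ} [Fact p.Prime] (hF : Fintype.card F = p ^ f)
    (hp : p ≠ 2) (hm : 2 ≤ m) (hgamma : Cfsg.gammaPOmega F (Cfsg.quadFormOdd m F) = ⊤) :
    Nonempty (Cfsg.Out (Cfsg.POmega F (Cfsg.quadFormOdd m F)) ≃* Multiplicative (ZMod 2 × ZMod f)) ∧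
      Nat.card (MulAut (Cfsg.POmega F (Cfsg.quadFormOdd m F))) =
        2 * f * Nat.card (Cfsg.POmega F (Cfsg.quadFormOdd m F)) := by
  have h2 : (2 : F) ≠ 0 :=
    Cfsg.Agent.Spinor57.two_ne_zero_of_odd hF (((Nat.Prime.odd_of_ne_two Fact.out hp)).pow)
  obtain ⟨⟨e⟩, hc⟩ := out_odd hm hgamma h2
  obtain ⟨e1⟩ := units_int_equiv
  obtain ⟨e2⟩ := CfsgLib.AutPSL.nonempty_ringAut_equiv hF
  let e3 : Cfsg.Out (Cfsg.POmega F (Cfsg.quadFormOdd m F)) ≃* Multiplicative (ZMod 2 × ZMod f) :=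
    (e.trans (MulEquiv.prodCongr e1 e2)).trans (MulEquiv.prodMultiplicative _ _).symm
  refine ⟨⟨e3⟩, ?_⟩
  rw [hc, Nat.card_congr e3.toEquiv, Nat.card_congr Multiplicative.toAdd, Nat.card_prod, Nat.card_zmod, Nat.card_zmod]

end Cfsg.Agent.GammaO57
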