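import Cfsg.Agent.Helper57GammaO

/-!
The determinant of a similarity and the split form of field automorphisms for forms over the prime field.
-/

set_option autoImplicit false
set_option linter.unusedSectionVars false

namespace Cfsg.Agent.GammaO57

open Matrix QuadraticMap CfsgLib.Orth

variable {F : Type*} [Field F] {ι : Type} [Fintype ι] [DecidableEq ι] {Q : QuadraticForm F (ι → F)}

/-- `det² = cⁿ` for a similarity with multiplier `c`. -/
theorem det_sq_of_similitude (hQ : Q.polarBilin.Nondegenerate) {g : GL ι F} {c : F}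
    (h : ∀ v, Q ((g : Matrix ι ι F) *ᵥ v) = c * Q v) :
    (g : Matrix ι ι F).det ^ 2 = c ^ Fintype.card ι := by
  set B := LinearMap.toMatrix₂' F Q.polarBilin
  have hpol : Q.polarBilin.compl₁₂ (Matrix.toLin' (g : Matrix ι ι F)) (Matrix.toLin' (g : Matrix ι ι F))
      = c • Q.polarBilin := by
    refine LinearMap.ext₂ fun x y => ?_
    simp [QuadraticMap.polar, ← mulVec_add, h]
    ring
  have hB : ((g : Matrix ι ι F))ᵀ * B * (g : Matrix ι ι F) = c • B := by
    rw [← map_smul, ← hpol, LinearMap.toMatrix₂'_compl₁₂, LinearMap.toMatrix'_toLin']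
  have hB0 : B.det ≠ 0 :=
    Matrix.nondegenerate_iff_det_ne_zero.1 (LinearMap.nondegenerate_toMatrix₂'_iff.2 hQ)
  have := congrArg Matrix.det hB
  rw [det_mul, det_mul, det_transpose, det_smul] at this
  exact mul_right_cancel₀ hB0 (by linear_combination this)

/-- `Q` has coefficients fixed by all field automorphisms. -/
def IsPrimeForm (Q : QuadraticForm F (ι → F)) : Prop :=
  ∀ (σ : F ≃+* F) (v : ι → F), Q (σ ∘ v) = σ (Q v)

/-- Field automorphisms as semisimilarities. -/
def fieldIn (hP : IsPrimeForm Q) : (F ≃+* F) →* ↥(semiGroup Q) where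
  toFun σ := ⟨SemidirectProduct.inr σ, ⟨1, fun v => by
    show Q ((1 : Matrix ι ι F) *ᵥ (σ ∘ v)) = _
    rw [one_mulVec, hP, Units.val_one, one_mul]; rfl⟩⟩
  map_one' := Subtype.ext (map_one _)
  map_mul' a b := Subtype.ext (map_mul _ a b)

theorem similitude_left (hP : IsPrimeForm Q) (x : ↥(semiGroup Q)) :
    ∃ c : Fˣ, ∀ w, Q ((x.1.left : Matrix ι ι F) *ᵥ w) = (c : F) * Q w := by
  obtain ⟨c, hc⟩ := x.2
  refine ⟨c, fun w => ?_⟩
  have h := hc (x.1.right.symm ∘ w)
  rw [hP, RingEquiv.apply_symm_apply] at h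
  have e : x.1.right ∘ (x.1.right.symm ∘ w) = w := funext fun i => x.1.right.apply_symm_apply _
  rwa [semi, e] at h

/-- The multiplier of the linear part, read at a vector of value `1`. -/
theorem mult_mul (hP : IsPrimeForm Q) {e : ι → F} (he : Q e = 1) (x y : ↥(semiGroup Q)) :
    Q (((x * y).1.left : Matrix ι ι F) *ᵥ e) =
      Q ((x.1.left : Matrix ι ι F) *ᵥ e) * x.1.right (Q ((y.1.left : Matrix ι ι F) *ᵥ e)) := by
  obtain ⟨c, hc⟩ := similitude_left hP x
  obtain ⟨d, hd⟩ := similitude_left hP y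
  show Q (((x.1.left : Matrix ι ι F) * (y.1.left : Matrix ι ι F).map x.1.right) *ᵥ e) = _
  rw [← mulVec_mulVec, hc, hc e, he, mul_one]
  congr 1
  have h2 : (y.1.left : Matrix ι ι F).map x.1.right *ᵥ e
      = x.1.right ∘ ((y.1.left : Matrix ι ι F) *ᵥ (x.1.right.symm ∘ e)) := by
    rw [map_mulVec']; congr 1; exact funext fun i => (x.1.right.apply_symm_apply _).symm
  rw [h2, hP, hd, hd e, he, hP, he, map_one]

end Cfsg.Agent.GammaO57
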