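import Cfsg.Agent.Helper57SemiClass
import Cfsg.Agent.Helper57Similitude
import Cfsg.Agent.Helper57Spinor
import Cfsg.Agent.Helper57DihExt
import Cfsg.Agent.Helper57OutOdd

/-!
`Out` of `PΩ⁻` in odd characteristic, given that every automorphism is induced by a semisimilarity.

A semisimilarity `v ↦ g σ(v)` with multiplier `c` has two invariants: the square class of `c`, and the pair
`(det g / c^(k+1), σ)`, which runs through a cyclic group of order `2f`.
-/

set_option autoImplicit false
set_option linter.unusedSectionVars false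

namespace Cfsg.Agent.GammaO57

open Matrix QuadraticMap CfsgLib.Orth Cfsg.Agent.Spinor57

section Frob

variable {F : Type*} [Field F] [Fintype F] {p : ℕ} [hp : Fact p.Prime] [CharP F p]

theorem frobP_apply (i : ℕ) (x : F) : ((frobeniusEquiv F p) ^ i) x = x ^ p ^ i := by
  induction i with
  | zero => simp
  | succ i ih =>
    rw [pow_succ', RingAut.mul_apply, ih, frobeniusEquiv_apply, frobenius_def, ← pow_mul, pow_succ]

theorem frobP_pow_ne_one {d f : ℕ} (hF : Fintype.card F = p ^ f) (hd : d ≠ 0) (hdf : d < f) :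
    (frobeniusEquiv F p) ^ d ≠ 1 := by
  classical
  intro h
  have hall : ∀ z : F, z ^ p ^ d = z := fun z => by rw [← frobP_apply, h]; rfl
  have hp1 : 1 < p := hp.out.one_lt
  have hp0 : (Polynomial.X ^ p ^ d - Polynomial.X : Polynomial F) ≠ 0 :=
    FiniteField.X_pow_card_pow_sub_X_ne_zero F hd hp1
  have hsub : (Finset.univ : Finset F).val ⊆
      (Polynomial.X ^ p ^ d - Polynomial.X : Polynomial F).roots := fun z _ => by
    rw [Polynomial.mem_roots hp0]
    simp [hall z]
  have hc := Multiset.card_le_card ((Multiset.le_iff_subset (Finset.univ : Finset F).nodup).2 hsub)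
  have hdeg := Polynomial.card_roots' (Polynomial.X ^ p ^ d - Polynomial.X : Polynomial F)
  rw [FiniteField.X_pow_card_pow_sub_X_natDegree_eq F hd hp1] at hdeg
  have hle : Fintype.card F ≤ p ^ d :=
    calc Fintype.card F = Multiset.card (Finset.univ : Finset F).val := rfl
      _ ≤ _ := hc
      _ ≤ p ^ d := hdeg
  rw [hF] at hle
  have := (Nat.pow_le_pow_iff_right hp1).1 hle
  omega

theorem frobP_dvd {i f : ℕ} (hF : Fintype.card F = p ^ f) (hf : f ≠ 0)
    (h : (frobeniusEquiv F p) ^ i = 1) : f ∣ i := by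
  by_contra hnd
  have hff : frobeniusEquiv F p ^ f = 1 := RingEquiv.ext fun z => by
    rw [frobP_apply, ← hF, FiniteField.pow_card]; rfl
  rw [← Nat.mod_add_div i f, pow_add, pow_mul, hff, one_pow, mul_one] at h
  exact frobP_pow_ne_one hF (fun e => hnd (Nat.dvd_of_mod_eq_zero e))
    (Nat.mod_lt i (Nat.pos_of_ne_zero hf)) h

theorem frobP_surjective {f : ℕ} (hF : Fintype.card F = p ^ f) (σ : F ≃+* F) :
    ∃ i : ℕ, σ = frobeniusEquiv F p ^ i := by
  have hcard : Nat.card (F ≃+* F) = f := CfsgLib.FieldGalois.card_ringAut hF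
  have hf : f ≠ 0 := by
    rintro rfl
    have := Fintype.one_lt_card (α := F)
    rw [hF, pow_zero] at this
    omega
  have hinj : Function.Injective (fun i : Fin f => frobeniusEquiv F p ^ (i : ℕ)) := by
    intro i j h
    have key : ∀ i j : Fin f, i ≤ j → frobeniusEquiv F p ^ (i : ℕ) = frobeniusEquiv F p ^ (j : ℕ) → i = j := by
      intro i j hij h
      by_contra hne
      have hlt : (i : ℕ) < j := lt_of_le_of_ne hij (fun e => hne (Fin.ext e))
      exact frobP_pow_ne_one hF (d := (j : ℕ) - i) (by omega) (by omega)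
        (by rw [pow_sub (frobeniusEquiv F p) hlt.le, h, mul_inv_cancel])
    rcases le_total i j with hij | hij
    · exact key i j hij h
    · exact (key j i hij h.symm).symm
  have : Finite (F ≃+* F) := Nat.finite_of_card_ne_zero (by rw [hcard]; exact hf)
  have := Fintype.ofFinite (F ≃+* F)
  obtain ⟨-, hsurj⟩ := (Fintype.bijective_iff_injective_and_card _).2 ⟨hinj, by
    rw [Fintype.card_fin, ← Nat.card_eq_fintype_card, hcard]⟩
  obtain ⟨i, hi⟩ := hsurj σ
  exact ⟨i, hi.symm⟩

end Frob

section MinusOdd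

variable {F : Type*} [Field F] [Fintype F] {k : ℕ} {a b : F}

/-- The vector of value one. -/
def eM (k : ℕ) (F : Type*) [Field F] : MI k → F := Pi.single (Sum.inr 0) 1

theorem minusQ_eM : minusQ k F a b (eM k F) = 1 := by
  simp [minusQ_coe, Cfsg.quadFormMinus, eM]

/-- The multiplier of a semisimilarity. -/
noncomputable def mu (x : ↥(semiGroup (minusQ k F a b))) : F := minusQ k F a b (semi x.1 (eM k F))

theorem mu_spec (x : ↥(semiGroup (minusQ k F a b))) (v : MI k → F) :
    minusQ k F a b (semi x.1 v) = mu x * x.1.right (minusQ k F a b v) := by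
  obtain ⟨c, hc⟩ := x.2
  rw [mu, hc, hc, minusQ_eM, map_one, mul_one]

theorem mu_ne (x : ↥(semiGroup (minusQ k F a b))) : mu x ≠ 0 := by
  obtain ⟨c, hc⟩ := x.2
  rw [mu, hc, minusQ_eM, map_one, mul_one]
  exact c.ne_zero

theorem mu_mul (x y : ↥(semiGroup (minusQ k F a b))) : mu (x * y) = mu x * x.1.right (mu y) := by
  show minusQ k F a b (semi (x.1 * y.1) (eM k F)) = _
  rw [semi_mul, mu_spec]
  rfl

theorem mu_oIn (g : O (minusQ k F a b)) : mu (oIn _ g) = 1 := by
  show minusQ k F a b (semi (SemidirectProduct.inl (g : GL (MI k) F)) (eM k F)) = 1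
  rw [app_semi, Q_app, minusQ_eM]

/-- Field automorphisms acting on units. -/
def uAut (F : Type*) [Field F] : (F ≃+* F) →* MulAut Fˣ where
  toFun σ := Units.mapEquiv σ.toMulEquiv
  map_one' := MulEquiv.ext fun u => Units.ext rfl
  map_mul' s t := MulEquiv.ext fun u => Units.ext rfl

/-- The invariant `(det g / c^(k+1), σ)`. -/
noncomputable def wInv : ↥(semiGroup (minusQ k F a b)) →* Fˣ ⋊[uAut F] (F ≃+* F) :=
  MonoidHom.mk' (fun x => ⟨GeneralLinearGroup.det x.1.left * ((Units.mk0 (mu x) (mu_ne x)) ^ (k + 1))⁻¹,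
    x.1.right⟩) fun x y => by
    have hd : GeneralLinearGroup.det (x * y).1.left =
        GeneralLinearGroup.det x.1.left * Units.map x.1.right.toMonoidHom (GeneralLinearGroup.det y.1.left) := by
      show GeneralLinearGroup.det (x.1.left * glAut (MI k) F x.1.right y.1.left) = _
      rw [map_mul]
      congr 1
      exact GeneralLinearGroup.map_det _ _
    have hm : Units.mk0 (mu (x * y)) (mu_ne _) =
        Units.mk0 (mu x) (mu_ne x) * Units.map x.1.right.toMonoidHom (Units.mk0 (mu y) (mu_ne y)) :=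
      Units.ext (mu_mul x y)
    ext1
    · show GeneralLinearGroup.det (x * y).1.left * ((Units.mk0 (mu (x * y)) (mu_ne _)) ^ (k + 1))⁻¹ =
        GeneralLinearGroup.det x.1.left * ((Units.mk0 (mu x) (mu_ne x)) ^ (k + 1))⁻¹ *
          Units.map x.1.right.toMonoidHom
            (GeneralLinearGroup.det y.1.left * ((Units.mk0 (mu y) (mu_ne y)) ^ (k + 1))⁻¹)
      rw [hd, hm, mul_pow, _root_.mul_inv_rev, map_mul (Units.map x.1.right.toMonoidHom),
        map_inv (Units.map x.1.right.toMonoidHom), map_pow (Units.map x.1.right.toMonoidHom)]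
      simp only [mul_comm, mul_left_comm, mul_assoc]
    · rfl

theorem isSquare_map_iff (σ : F ≃+* F) (x : F) : IsSquare (σ x) ↔ IsSquare x :=
  ⟨fun h => by simpa using h.map σ.symm, fun h => h.map σ⟩

/-- The square class of the multiplier. -/
noncomputable def sInv : ↥(semiGroup (minusQ k F a b)) →* ℤˣ :=
  MonoidHom.mk' (fun x => sqSign (mu x)) fun x y => by
    rw [mu_mul, sqSign_mul (mu_ne x) ((map_ne_zero _).2 (mu_ne y))]
    congr 1
    classical
    unfold sqSign
    simp only [isSquare_map_iff]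

/-! ### Block elements -/

/-- `diag(c on the first singular subspace, 1 on the second, M on the plane)`. -/
def blk (k : ℕ) (c : F) (M : Matrix (Fin 2) (Fin 2) F) : Matrix (MI k) (MI k) F :=
  fromBlocks (fromBlocks (c • (1 : Matrix (Fin k) (Fin k) F)) 0 0 1) 0 0 M

theorem det_blk (c : F) (M : Matrix (Fin 2) (Fin 2) F) : (blk k c M).det = c ^ k * M.det := by
  rw [blk, det_fromBlocks_zero₁₂, det_fromBlocks_zero₁₂, det_smul, det_one, Fintype.card_fin]
  simp

theorem blk_mulVec (c : F) (M : Matrix (Fin 2) (Fin 2) F) (v : MI k → F) :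
    blk k c M *ᵥ v = Sum.elim (Sum.elim (fun i => c * v (.inl (.inl i))) (fun i => v (.inl (.inr i))))
      (M *ᵥ (v ∘ Sum.inr)) := by
  rw [blk, fromBlocks_mulVec]
  funext i
  rcases i with (i | i) | i <;> simp [fromBlocks_mulVec, smul_mulVec]

theorem exists_blk (σ : F ≃+* F) {c : F} (hc : c ≠ 0) (M : Matrix (Fin 2) (Fin 2) F) (hM : M.det ≠ 0)
    (h : ∀ z : Fin 2 → F,
      (M *ᵥ (σ ∘ z)) 0 ^ 2 + a * (M *ᵥ (σ ∘ z)) 0 * (M *ᵥ (σ ∘ z)) 1 + b * (M *ᵥ (σ ∘ z)) 1 ^ 2 =
        c * σ (z 0 ^ 2 + a * z 0 * z 1 + b * z 1 ^ 2)) :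
    ∃ x : ↥(semiGroup (minusQ k F a b)), x.1.right = σ ∧ mu x = c ∧
      ((GeneralLinearGroup.det x.1.left : Fˣ) : F) = c ^ k * M.det := by
  have hdet : (blk k c M).det ≠ 0 := by rw [det_blk]; exact mul_ne_zero (pow_ne_zero _ hc) hM
  have hmem : ∀ v : MI k → F, minusQ k F a b (blk k c M *ᵥ (σ ∘ v)) = c * σ (minusQ k F a b v) := by
    intro v
    rw [blk_mulVec, minusQ_coe]
    have h' := h (v ∘ Sum.inr)
    simp only [Cfsg.quadFormMinus, Sum.elim_inl, Sum.elim_inr, Function.comp_apply, map_add, map_sum,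
      map_mul, map_pow, mul_add, Finset.mul_sum] at h' ⊢
    rw [show (σ ∘ v) ∘ Sum.inr = σ ∘ v ∘ Sum.inr from rfl, h']
    simp only [mul_assoc]
  refine ⟨⟨⟨GeneralLinearGroup.mkOfDetNeZero (blk k c M) hdet, σ⟩,
    ⟨Units.mk0 c hc, fun v => hmem v⟩⟩, rfl, ?_, det_blk c M⟩
  show minusQ k F a b (blk k c M *ᵥ (σ ∘ eM k F)) = c
  rw [hmem, minusQ_eM, map_one, mul_one]

variable (h2 : (2 : F) ≠ 0)
  (hab : ∀ z₁ z₂ : F, z₁ ^ 2 + a * z₁ * z₂ + b * z₂ ^ 2 = 0 → z₁ = 0 ∧ z₂ = 0)

include h2 hab in
theorem not_isSquare_delta : ¬ IsSquare (a ^ 2 - 4 * b) := by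
  have h4 : (4 : F) ≠ 0 := by rw [show (4 : F) = 2 * 2 by norm_num]; exact mul_ne_zero h2 h2
  intro h
  refine not_isSquare_neg_disc h2 hab ?_
  have : -(b - a ^ 2 / 4) = (a ^ 2 - 4 * b) / (2 * 2) := by field_simp; ring
  rw [this]
  exact h.div (IsSquare.mul_self 2)

include h2 in
/-- A semisimilarity with multiplier one over `σ`. -/
theorem exists_field_elem (σ : F ≃+* F) {r : F} (hr0 : r ≠ 0)
    (hr : r ^ 2 * (a ^ 2 - 4 * b) = σ (a ^ 2 - 4 * b)) :
    ∃ x : ↥(semiGroup (minusQ k F a b)), x.1.right = σ ∧ mu x = 1 ∧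
      ((GeneralLinearGroup.det x.1.left : Fˣ) : F) = r := by
  have h4 : (4 : F) ≠ 0 := by rw [show (4 : F) = 2 * 2 by norm_num]; exact mul_ne_zero h2 h2
  set M : Matrix (Fin 2) (Fin 2) F := !![1, σ a / 2 - a * r / 2; 0, r]
  have hM : M.det = r := by simp [M, Matrix.det_fin_two]
  obtain ⟨x, h1, h3, h5⟩ := exists_blk (k := k) (a := a) (b := b) σ one_ne_zero M (by rw [hM]; exact hr0)
    (fun z => by
      simp only [M, Matrix.mulVec, dotProduct, Fin.sum_univ_two, Matrix.of_apply, Matrix.cons_val',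
        Matrix.cons_val_zero, Matrix.cons_val_one, Matrix.empty_val', Matrix.cons_val_fin_one,
        Function.comp_apply, map_add, map_mul, map_pow, one_mul, zero_mul, zero_add]
      rw [map_sub, map_mul, map_pow, map_ofNat] at hr
      field_simp
      linear_combination (-(σ (z 1)) ^ 2) * hr)
  exact ⟨x, h1, h3, by rw [h5, one_pow, one_mul, hM]⟩

include h2 hab in
/-- A proper similarity with non-square multiplier. -/
theorem exists_delta_elem {d : F} (hd : d ≠ 0) :
    ∃ x : ↥(semiGroup (minusQ k F a b)), x.1.right = 1 ∧ mu x = d ∧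
      ((GeneralLinearGroup.det x.1.left : Fˣ) : F) = d ^ (k + 1) := by
  have h4 : (4 : F) ≠ 0 := by rw [show (4 : F) = 2 * 2 by norm_num]; exact mul_ne_zero h2 h2
  have hδ := not_isSquare_delta h2 hab
  have hδ0 : a ^ 2 - 4 * b ≠ 0 := fun h => hδ (by rw [h]; exact IsSquare.zero)
  obtain ⟨s, w, hsw⟩ := exists_binary h2 (A := (1 : F)) (B := -((a ^ 2 - 4 * b) / 4)) one_ne_zero
    (neg_ne_zero.2 (div_ne_zero hδ0 h4)) d
  set u := s - a / 2 * w
  have hu : u ^ 2 + a * u * w + b * w ^ 2 = d := by
    rw [← hsw]; simp only [u]; field_simp; ring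
  set M : Matrix (Fin 2) (Fin 2) F := !![u, -(b * w); w, u + a * w]
  have hM : M.det = d := by
    rw [Matrix.det_fin_two, ← hu]; simp [M]; ring
  obtain ⟨x, h1, h3, h5⟩ := exists_blk (k := k) (a := a) (b := b) 1 hd M (by rw [hM]; exact hd)
    (fun z => by
      simp only [M, Matrix.mulVec, dotProduct, Fin.sum_univ_two, Matrix.of_apply, Matrix.cons_val',
        Matrix.cons_val_zero, Matrix.cons_val_one, Matrix.empty_val', Matrix.cons_val_fin_one,
        Function.comp_apply, RingAut.one_apply]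
      rw [← hu]; ring)
  exact ⟨x, h1, h3, by rw [h5, hM, pow_succ]⟩

theorem exists_isometry_of_square {x : ↥(semiGroup (minusQ k F a b))} (h1 : x.1.right = 1)
    (hs : sInv x = 1) : ∃ (c : Fˣ) (g : O (minusQ k F a b)),
      x.1.left = GeneralLinearGroup.scalar (MI k) c * (g : GL (MI k) F) ∧
      detHom _ g = (wInv x).left := by
  obtain ⟨t, ht⟩ := (sqSign_eq_one_iff (mu x)).1 hs
  have ht0 : t ≠ 0 := fun h => mu_ne x (by rw [ht, h, mul_zero])
  set c := Units.mk0 t ht0
  have hmem : GeneralLinearGroup.scalar (MI k) c⁻¹ * x.1.left ∈ O (minusQ k F a b) := by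
    rw [mem_O_iff]
    intro v
    have h := mu_spec x v
    rw [semi, h1] at h
    rw [Units.val_mul, ← mulVec_mulVec]
    show minusQ k F a b (Matrix.scalar (MI k) ((c⁻¹ : Fˣ) : F) *ᵥ _) = _
    rw [Matrix.scalar_apply, ← Matrix.smul_one_eq_diagonal, smul_mulVec, one_mulVec, QuadraticMap.map_smul]
    rw [show (1 : F ≃+* F) ∘ v = v from rfl] at h
    rw [h, ht, RingAut.one_apply, smul_eq_mul, Units.val_inv_eq_inv_val, Units.val_mk0]
    field_simp
  refine ⟨c, ⟨_, hmem⟩, ?_, ?_⟩
  · show x.1.left = GeneralLinearGroup.scalar (MI k) c * (GeneralLinearGroup.scalar (MI k) c⁻¹ * x.1.left)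
    rw [← mul_assoc, ← map_mul, mul_inv_cancel, map_one, one_mul]
  · show GeneralLinearGroup.det (GeneralLinearGroup.scalar (MI k) c⁻¹ * x.1.left) =
      GeneralLinearGroup.det x.1.left * ((Units.mk0 (mu x) (mu_ne x)) ^ (k + 1))⁻¹
    rw [map_mul, mul_comm]
    congr 1
    apply Units.ext
    show (Matrix.scalar (MI k) ((c⁻¹ : Fˣ) : F)).det = _
    rw [Matrix.scalar_apply, det_diagonal, Finset.prod_const, Finset.card_univ,
      show Fintype.card (MI k) = 2 * (k + 1) by simp; ring, Units.val_inv_eq_inv_val, Units.val_inv_eq_inv_val,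
      Units.val_pow_eq_pow_val, Units.val_mk0, Units.val_mk0, ht, inv_pow, pow_mul, pow_two]

/-- `-1` as an isometry. -/
noncomputable def negI (Q : QuadraticForm F (MI k → F)) : O Q :=
  ⟨GeneralLinearGroup.scalar (MI k) (-1), by
    rw [mem_O_iff]
    intro v
    show Q (Matrix.scalar (MI k) ((-1 : Fˣ) : F) *ᵥ v) = _
    rw [Matrix.scalar_apply, ← Matrix.smul_one_eq_diagonal, smul_mulVec, one_mulVec, Units.val_neg,
      Units.val_one, neg_one_smul, QuadraticMap.map_neg]⟩

include h2 hab in
/-- When `-1` lies in `Ω`. -/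
theorem negI_mem_iff {q : ℕ} (hF : Fintype.card F = q) (hq : Odd q) :
    negI (minusQ k F a b) ∈ Cfsg.Omega F ⇑(minusQ k F a b) ↔ ¬ q ^ (k + 1) % 4 = 1 := by
  classical
  have hQ := minusQ_nondegenerate (m := k) h2 hab
  obtain ⟨d, hd⟩ := CfsgLib.OrthOmega.exists_not_square h2
  have h4 : (4 : F) ≠ 0 := by rw [show (4 : F) = 2 * 2 by norm_num]; exact mul_ne_zero h2 h2
  have hδ := not_isSquare_delta h2 hab
  have hδ0 : a ^ 2 - 4 * b ≠ 0 := fun h => hδ (by rw [h]; exact IsSquare.zero)
  let v : MI k → MI k → F := Sum.elim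
    (Sum.elim (fun i => Pi.single (.inl (.inl i)) 1 + Pi.single (.inl (.inr i)) 1)
      (fun i => Pi.single (.inl (.inl i)) 1 - Pi.single (.inl (.inr i)) 1))
    ![eM k F, Pi.single (Sum.inr 1) 1 - (a / 2) • eM k F]
  let val : MI k → F := Sum.elim (Sum.elim (fun _ => 1) (fun _ => -1)) ![1, b - a ^ 2 / 4]
  have hval : ∀ s, minusQ k F a b (v s) = val s := by
    intro s
    rcases s with (i | i) | i
    · simp [v, val, minusQ_coe, Cfsg.quadFormMinus, Pi.single_apply]
    · simp [v, val, minusQ_coe, Cfsg.quadFormMinus, Pi.single_apply]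
    · fin_cases i
      · simp [v, val, minusQ_coe, Cfsg.quadFormMinus, eM, Pi.single_apply]
      · simp [v, val, minusQ_coe, Cfsg.quadFormMinus, eM, Pi.single_apply]
        field_simp
        ring
  have hvne : ∀ s, minusQ k F a b (v s) ≠ 0 := by
    intro s
    rw [hval]
    rcases s with (i | i) | i
    · simp [val]
    · simp [val]
    · fin_cases i
      · simp [val]
      · simp only [val, Sum.elim_inr]
        show b - a ^ 2 / 4 ≠ 0
        intro h
        apply hδ0
        field_simp at h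
        linear_combination -h
  have ho : ∀ s t, s ≠ t → polar (minusQ k F a b) (v s) (v t) = 0 := by
    intro s t hst
    rw [polar_minusQ]
    rcases s with (i | i) | i <;> rcases t with (j | j) | j
    all_goals first
      | (simp [v, Pi.single_apply, Finset.sum_add_distrib]; done)
      | (by_cases hij : i = j
         · subst hij
           first
             | exact absurd rfl hst
             | (simp [v, Pi.single_apply, Finset.sum_add_distrib]; try ring)
         · simp [v, Pi.single_apply, Finset.sum_add_distrib, hij, Ne.symm hij]; done)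
      | (fin_cases i <;> fin_cases j <;>
          first | exact absurd rfl hst
                | (simp [v, eM, Pi.single_apply]; field_simp; ring))
      | (fin_cases j <;> simp [v, eM, Pi.single_apply])
      | (fin_cases i <;> simp [v, eM, Pi.single_apply])
  have h := neg_one_mem_iff hQ h2 hd v hvne ho rfl
  rw [prod_pair Finset.univ _ (fun s _ => hvne s)] at h
  have hmat : (((negI (minusQ k F a b) : O _) : GL (MI k) F) : Matrix (MI k) (MI k) F) = -1 := by
    show Matrix.scalar (MI k) ((-1 : Fˣ) : F) = _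
    rw [Matrix.scalar_apply, Units.val_neg, Units.val_one, ← Matrix.diagonal_neg, Matrix.diagonal_one]
  have hiff : negI (minusQ k F a b) ∈ Cfsg.Omega F ⇑(minusQ k F a b) ↔
      sqSign (∏ s, minusQ k F a b (v s)) = 1 := by
    rw [Finset.card_univ, show Fintype.card (MI k) = 2 * (k + 1) by simp; ring, pow_mul, neg_one_sq,
        one_pow, one_mul, Prod.mk_eq_one, and_self] at h
    rw [← h]
    constructor
    · exact fun hh => ⟨_, hh, hmat⟩
    · rintro ⟨g, hg, hm⟩
      rwa [show negI (minusQ k F a b) = g from Subtype.ext (Units.ext (hmat.trans hm.symm))]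
  rw [hiff]
  have hprod : (∏ s, minusQ k F a b (v s)) = (-1) ^ (k + 1) * ((a ^ 2 - 4 * b) / (2 * 2)) := by
    simp only [hval, val, Fintype.prod_sum_type, Sum.elim_inl, Sum.elim_inr, Fin.prod_univ_two,
      Finset.prod_const_one, Finset.prod_const, Finset.card_univ, Fintype.card_fin, one_mul,
      Matrix.cons_val_zero, Matrix.cons_val_one, Matrix.cons_val_fin_one]
    field_simp
    ring
  have hns : ¬ IsSquare ((a ^ 2 - 4 * b) / (2 * 2)) := fun hh => hδ (by
    have := hh.mul (IsSquare.mul_self (2 : F))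
    rwa [div_mul_cancel₀ _ (mul_ne_zero h2 h2)] at this)
  have hne : (a ^ 2 - 4 * b) / (2 * 2) ≠ 0 := div_ne_zero hδ0 (mul_ne_zero h2 h2)
  rw [hprod, sqSign_mul (pow_ne_zero _ (neg_ne_zero.2 one_ne_zero)) hne,
    show sqSign ((a ^ 2 - 4 * b) / (2 * 2)) = -1 from by simp [sqSign, hns], ← sq_neg_one_pow_iff hF hq,
    ← sqSign_eq_one_iff]
  rcases Int.units_eq_one_or (sqSign ((-1 : F) ^ (k + 1))) with e | e <;> rw [e] <;> decide

end MinusOdd

section MainThm

universe u

variable {F : Type u} [Field F] [Fintype F] {k : ℕ} {a b : F}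

set_option maxHeartbeats 3200000 in
theorem out_minus_odd {p f : ℕ} [Fact p.Prime] (hF : Fintype.card F = p ^ f) (hp : p ≠ 2) (hk : 2 ≤ k)
    (hab : ∀ z₁ z₂ : F, z₁ ^ 2 + a * z₁ * z₂ + b * z₂ ^ 2 = 0 → z₁ = 0 ∧ z₂ = 0)
    (hgamma : Cfsg.gammaPOmega F (Cfsg.quadFormMinus k F a b) = ⊤) :
    (if p ^ f % 4 = 3 ∧ Odd (k + 1) then
        Nonempty (Cfsg.Out (Cfsg.POmega F (Cfsg.quadFormMinus k F a b)) ≃*
          DihedralGroup 4 × Multiplicative (ZMod f))
      else Nonempty (Cfsg.Out (Cfsg.POmega F (Cfsg.quadFormMinus k F a b)) ≃*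
          Multiplicative (ZMod 2 × ZMod (2 * f)))) ∧
    Nat.card (MulAut (Cfsg.POmega F (Cfsg.quadFormMinus k F a b))) =
      (if p ^ f % 4 = 3 ∧ Odd (k + 1) then 8 else 4) * f *
        Nat.card (Cfsg.POmega F (Cfsg.quadFormMinus k F a b)) := by
  classical
  rw [← minusQ_coe] at hgamma ⊢
  set Q := minusQ k F a b with hQdef
  have hpodd : Odd p := (Nat.Prime.odd_of_ne_two Fact.out hp)
  have hq : Odd (p ^ f) := hpodd.pow
  have h2 : (2 : F) ≠ 0 := two_ne_zero_of_odd hF hq
  have : CharP F p := charP_of_card_eq_prime_pow hF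
  have hQ : Q.polarBilin.Nondegenerate := minusQ_nondegenerate h2 hab
  have hn : 5 ≤ Fintype.card (MI k) := by simp; omega
  have dat := minusData hk a b
  have hf : f ≠ 0 := by
    rintro rfl
    rw [pow_zero] at hF
    have := Fintype.one_lt_card (α := F)
    omega
  have hδ := not_isSquare_delta h2 hab
  set δ := a ^ 2 - 4 * b
  have hδ0 : δ ≠ 0 := fun h => hδ (by rw [h]; exact IsSquare.zero)
  obtain ⟨d, hd⟩ := CfsgLib.OrthOmega.exists_not_square h2
  have hd0 : d ≠ 0 := fun h => hd (by rw [h]; exact IsSquare.zero)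
  obtain ⟨e, he⟩ : ∃ e, 2 * e + 1 = p := by obtain ⟨e, rfl⟩ := hpodd; exact ⟨e, rfl⟩
  -- the generators
  obtain ⟨φ, hφr, hφm, hφd⟩ := exists_field_elem (k := k) (a := a) (b := b) h2 (frobeniusEquiv F p)
    (r := δ ^ e) (pow_ne_zero _ hδ0) (by
      rw [← pow_mul, ← pow_succ, mul_comm e 2, he, frobeniusEquiv_apply, frobenius_def])
  obtain ⟨Δ, hΔr, hΔm, hΔd⟩ := exists_delta_elem (k := k) h2 hab hd0
  set g0 := wInv φ with hg0
  have hg0l : (g0.left : F) = δ ^ e := by
    show ((GeneralLinearGroup.det φ.1.left * ((Units.mk0 (mu φ) (mu_ne φ)) ^ (k + 1))⁻¹ : Fˣ) : F) = _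
    simp [hφm, hφd]
  have hg0r : g0.right = frobeniusEquiv F p := hφr
  have hg0pow : ∀ i, (g0 ^ i).right = frobeniusEquiv F p ^ i ∧
      ∃ s, 2 * s + 1 = p ^ i ∧ ((g0 ^ i).left : F) = δ ^ s := by
    intro i
    induction i with
    | zero => exact ⟨rfl, 0, rfl, by simp⟩
    | succ i ih =>
      obtain ⟨hr, s, hs, hl⟩ := ih
      refine ⟨by rw [pow_succ, pow_succ, SemidirectProduct.mul_right, hr, hg0r], s + e * p ^ i, ?_, ?_⟩
      · rw [pow_succ]
        calc 2 * (s + e * p ^ i) + 1 = (2 * s + 1) + 2 * e * p ^ i := by ring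
          _ = p ^ i * (2 * e + 1) := by rw [hs]; ring
          _ = p ^ i * p := by rw [he]
      · rw [pow_succ, SemidirectProduct.mul_left, Units.val_mul, hl, pow_add]
        congr 1
        show ((g0 ^ i).right) (g0.left : F) = _
        rw [hr, hg0l, frobP_apply, ← pow_mul]
  have hrootf : ((g0 ^ f).left : F) = -1 ∧ (g0 ^ f).right = 1 := by
    obtain ⟨hr, s, hs, hl⟩ := hg0pow f
    have hff : frobeniusEquiv F p ^ f = 1 := RingEquiv.ext fun z => by
      rw [frobP_apply, ← hF, FiniteField.pow_card]; rfl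
    refine ⟨?_, hr.trans hff⟩
    have hchar : ringChar F ≠ 2 := by rw [ringChar.eq F p]; exact hp
    have hs' : s = Fintype.card F / 2 := by rw [hF]; omega
    rw [hl, hs']
    rcases FiniteField.pow_dichotomy hchar hδ0 with h | h
    · exact absurd ((FiniteField.isSquare_iff hchar hδ0).2 h) hδ
    · exact h
  have hneg : (-1 : F) ≠ 1 := fun h => h2 (by linear_combination -h)
  have hord : orderOf g0 = 2 * f := by
    have h2f : g0 ^ (2 * f) = 1 := by
      rw [two_mul, pow_add]
      ext1
      · apply Units.ext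
        rw [SemidirectProduct.mul_left, hrootf.2, map_one, MulAut.one_apply, Units.val_mul, hrootf.1]
        simp
      · rw [SemidirectProduct.mul_right, hrootf.2, mul_one]; rfl
    have hdd := orderOf_dvd_of_pow_eq_one h2f
    obtain ⟨t, ht⟩ : f ∣ orderOf g0 := by
      refine frobP_dvd hF hf ?_
      rw [← (hg0pow _).1, pow_orderOf_eq_one]; rfl
    rw [ht, mul_comm 2 f] at hdd
    rcases (Nat.dvd_prime Nat.prime_two).1 ((Nat.mul_dvd_mul_iff_left (Nat.pos_of_ne_zero hf)).1 hdd)
      with rfl | rfl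
    · exfalso
      have h1 : g0 ^ f = 1 := by rw [← mul_one f, ← ht]; exact pow_orderOf_eq_one g0
      have := hrootf.1
      rw [h1] at this
      exact hneg (by rw [← this]; rfl)
    · rw [ht, mul_comm]
  have hwmem : ∀ x : ↥(semiGroup (minusQ k F a b)), wInv x ∈ Subgroup.zpowers g0 := by
    intro x
    obtain ⟨i, hi⟩ := frobP_surjective hF x.1.right
    set y := x * (φ ^ i)⁻¹
    have hy1 : y.1.right = 1 := by
      have hpr : (φ ^ i).1.right = frobeniusEquiv F p ^ i := by
        rw [SubmonoidClass.coe_pow, ← hφr]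
        exact map_pow SemidirectProduct.rightHom _ i
      show x.1.right * (φ ^ i).1.right⁻¹ = 1
      rw [hpr, hi, mul_inv_cancel]
    have hsq : ((GeneralLinearGroup.det y.1.left : Fˣ) : F) ^ 2 = (mu y) ^ Fintype.card (MI k) :=
      det_sq_of_similitude hQ (c := mu y) fun v => by
        have := mu_spec y v
        rw [semi, hy1] at this
        exact this
    have hy : wInv y = 1 ∨ wInv y = g0 ^ f := by
      have hcases : ((wInv y).left : F) = 1 ∨ ((wInv y).left : F) = -1 := by
        rw [← mul_self_eq_one_iff]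
        show ((GeneralLinearGroup.det y.1.left * ((Units.mk0 (mu y) (mu_ne y)) ^ (k + 1))⁻¹ : Fˣ) : F) *
          ((GeneralLinearGroup.det y.1.left * ((Units.mk0 (mu y) (mu_ne y)) ^ (k + 1))⁻¹ : Fˣ) : F) = 1
        rw [Units.val_mul, Units.val_inv_eq_inv_val, Units.val_pow_eq_pow_val, Units.val_mk0,
          mul_mul_mul_comm, ← pow_two, hsq, show Fintype.card (MI k) = (k + 1) + (k + 1) by simp; ring,
          pow_add, ← mul_inv, mul_inv_cancel₀ (mul_ne_zero (pow_ne_zero _ (mu_ne y)) (pow_ne_zero _ (mu_ne y)))]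
      rcases hcases with h | h
      · exact Or.inl (SemidirectProduct.ext (Units.ext h) hy1)
      · exact Or.inr (SemidirectProduct.ext (Units.ext (h.trans hrootf.1.symm)) (hy1.trans hrootf.2.symm))
    have hx : wInv x = wInv y * g0 ^ i := by
      rw [map_mul, map_inv, map_pow, inv_mul_cancel_right]
    rw [hx]
    refine mul_mem ?_ (Subgroup.npow_mem_zpowers g0 i)
    rcases hy with h | h <;> rw [h]
    · exact one_mem _
    · exact Subgroup.npow_mem_zpowers g0 f
  -- classes of isometries
  have hclsEq : ∀ {g h : O Q}, chiPair Q d g = chiPair Q d h → cls Q g = cls Q h :=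
    fun h => cls_congr hQ h2 hn dat hd h
  have hdetchi : ∀ g : O Q, detHom Q g = 1 → chiPair Q d g = 1 ∨ chiPair Q d g = (-1, -1) := by
    intro g hg
    rw [detHom_eq hQ h2 hd] at hg
    rcases Int.units_eq_one_or (chi Q 1 g) with e1 | e1 <;>
      rcases Int.units_eq_one_or (chi Q d g) with e2 | e2 <;> rw [e1, e2] at hg
    · exact Or.inl (Prod.ext e1 e2)
    · exact absurd (by simpa using congrArg Units.val hg) hneg
    · exact absurd (by simpa using congrArg Units.val hg) hneg
    · exact Or.inr (Prod.ext e1 e2)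
  have hnegdet : detHom Q (negI Q) = 1 := by
    apply Units.ext
    show (Matrix.scalar (MI k) ((-1 : Fˣ) : F)).det = 1
    rw [Matrix.scalar_apply, det_diagonal, Finset.prod_const, Finset.card_univ,
      show Fintype.card (MI k) = 2 * (k + 1) by simp; ring, pow_mul]
    simp
  have hcond : (p ^ f % 4 = 3 ∧ Odd (k + 1)) ↔ negI Q ∈ Cfsg.Omega F ⇑Q := by
    rw [negI_mem_iff h2 hab hF hq]
    have hq2 := Nat.odd_iff.1 hq
    rcases Nat.even_or_odd (k + 1) with hev | hod
    · simp only [Nat.not_odd_iff_even.2 hev, and_false, false_iff, not_not]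
      obtain ⟨t, ht⟩ := hev
      rw [ht, pow_add, Nat.mul_mod]
      have : (p ^ f) ^ t % 4 = 1 ∨ (p ^ f) ^ t % 4 = 3 := by
        have : Odd ((p ^ f) ^ t) := hq.pow
        have := Nat.odd_iff.1 this
        omega
      rcases this with h | h <;> rw [h]
    · simp only [hod, and_true]
      obtain ⟨t, ht⟩ := hod
      have h4 : (p ^ f) ^ (k + 1) % 4 = p ^ f % 4 := by
        rw [ht, pow_succ, pow_mul, Nat.mul_mod, Nat.pow_mod]
        have : (p ^ f) ^ 2 % 4 = 1 := by
          rw [Nat.pow_mod]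
          have : p ^ f % 4 = 1 ∨ p ^ f % 4 = 3 := by omega
          rcases this with h | h <;> rw [h]
        rw [this]
        simp
      rw [h4]
      omega
  have hker := outMap_eq_one_iff hQ hn dat
  have hscal1 : ∀ c : Fˣ, GeneralLinearGroup.scalar (MI k) c ∈ O Q → c = 1 ∨ c = -1 := by
    intro c hc
    have h := (mem_O_iff _).1 hc (eM k F)
    rw [show ((GeneralLinearGroup.scalar (MI k) c : GL (MI k) F) : Matrix (MI k) (MI k) F) *ᵥ eM k F
      = (c : F) • eM k F by
        show Matrix.scalar (MI k) (c : F) *ᵥ _ = _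
        rw [Matrix.scalar_apply, ← Matrix.smul_one_eq_diagonal, smul_mulVec, one_mulVec],
      QuadraticMap.map_smul, hQdef, minusQ_eM, smul_eq_mul, mul_one] at h
    rcases mul_self_eq_one_iff.1 h with h' | h'
    · exact Or.inl (Units.ext h')
    · exact Or.inr (Units.ext h')
  by_cases hc : p ^ f % 4 = 3 ∧ Odd (k + 1)
  · -- the dihedral case
    rw [if_pos hc, if_pos hc]
    have hnegmem := hcond.1 hc
    have hfodd : Odd f := by
      by_contra hfe
      obtain ⟨t, rfl⟩ := Nat.not_odd_iff_even.1 hfe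
      have h1 : Odd (p ^ t) := hpodd.pow
      have h3 := Nat.odd_iff.1 h1
      have h4 : p ^ (t + t) % 4 = 1 := by
        rw [pow_add, Nat.mul_mod]
        have : p ^ t % 4 = 1 ∨ p ^ t % 4 = 3 := by omega
        rcases this with h | h <;> rw [h]
      omega
    set G := Cfsg.Out (Cfsg.POmega F ⇑Q)
    set A : G := cls Q (refl Q (eM k F))
    set D : G := outMap Q Δ
    set P : G := outMap Q φ
    have hQe : Q (eM k F) = 1 := minusQ_eM
    have hrval : ∀ v, Q v ≠ 0 → chiPair Q d (refl Q v) = if IsSquare (Q v) then (-1, 1) else (1, -1) :=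
      fun v hv => chiPair_refl h2 hd hv
    have hA1 : chiPair Q d (refl Q (eM k F)) = (-1, 1) := by
      rw [hrval _ (by rw [hQe]; exact one_ne_zero), hQe, if_pos IsSquare.one]
    have hDe : Q (semi Δ.1 (eM k F)) = d := hΔm
    have hB1 : chiPair Q d (refl Q (semi Δ.1 (eM k F))) = (1, -1) := by
      rw [hrval _ (by rw [hDe]; exact hd0), hDe, if_neg hd]
    have hconj : ∀ (x : ↥(semiGroup Q)) (g : O Q), outMap Q x * cls Q g * (outMap Q x)⁻¹ = cls Q (conjO Q x g) := by
      intro x g
      rw [cls, MonoidHom.comp_apply, MonoidHom.comp_apply, ← map_inv, ← map_mul, ← map_mul, conj_oIn]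
    have hB : D * A * D⁻¹ = cls Q (refl Q (semi Δ.1 (eM k F))) := by rw [hconj, conjO_refl]
    have hfour : ∀ g : O Q, cls Q g ∈ ({1, A, D * A * D⁻¹, A * (D * A * D⁻¹)} : Set G) := by
      intro g
      rw [hB]
      rcases Int.units_eq_one_or (chi Q 1 g) with e1 | e1 <;>
        rcases Int.units_eq_one_or (chi Q d g) with e2 | e2
      · left
        rw [hclsEq (h := 1) (by rw [map_one]; exact Prod.ext e1 e2), map_one]
      · right; right; left
        exact hclsEq (by rw [hB1]; exact Prod.ext e1 e2)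
      · right; left
        exact hclsEq (by rw [hA1]; exact Prod.ext e1 e2)
      · right; right; right
        show cls Q g = A * _
        rw [← map_mul]
        exact hclsEq (by rw [map_mul, hA1, hB1]; exact Prod.ext e1 e2)
    have hright1 : ∀ x : ↥(semiGroup Q), x.1.right = 1 → sInv x = 1 → ∃ g, outMap Q x = cls Q g := by
      intro x h1 hs
      obtain ⟨c, g, hg, -⟩ := exists_isometry_of_square h1 hs
      exact ⟨g, outMap_scalar_mul hQ hn dat h1 hg⟩
    have hπker : (outMap Q).ker ≤ ((SemidirectProduct.rightHom).comp (semiGroup Q).subtype).ker :=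
      fun x hx => ((hker x).1 hx).1
    let π : G →* (F ≃+* F) :=
      MonoidHom.liftOfSurjective (outMap Q) (outMap_surjective hgamma)
        ⟨(SemidirectProduct.rightHom).comp (semiGroup Q).subtype, hπker⟩
    have hπ : ∀ x, π (outMap Q x) = x.1.right := fun x =>
      MonoidHom.liftOfRightInverse_comp_apply (outMap Q) _ _ _ x
    have hPcomm : ∀ v, Q v ≠ 0 → P * cls Q (refl Q v) * P⁻¹ = cls Q (refl Q v) := by
      intro v hv
      rw [hconj, conjO_refl]
      apply hclsEq
      have hval : Q (semi φ.1 v) = frobeniusEquiv F p (Q v) := by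
        rw [hQdef, mu_spec, hφm, hφr, one_mul]
      rw [hrval _ (by rw [hval]; exact (map_ne_zero _).2 hv), hrval _ hv, hval]
      simp only [isSquare_map_iff]
    have hiso : Nonempty (G ≃* DihedralGroup 4 × Multiplicative (ZMod f)) := by
      refine Cfsg.Agent.DihExt57.nonempty_dihedral_prod π hfodd (A := A) (Δ := D) (Φ := P)
        ?_ ?_ ?_ ?_ ?_ ?_ ?_ ?_ ?_ ?_ ?_ ?_ ?_
      · rw [← map_mul, refl_mul_self, map_one]
      · rw [hB, hconj, conjO_refl]
        apply hclsEq
        have hval : Q (semi Δ.1 (semi Δ.1 (eM k F))) = d * d := by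
          rw [hQdef, mu_spec, hΔm, hΔr, RingAut.one_apply]
          exact congrArg (d * ·) hDe
        rw [hA1, hrval _ (by rw [hval]; exact mul_ne_zero hd0 hd0), hval, if_pos (IsSquare.mul_self d)]
      · rw [hB]
        show A * _ = _ * A
        rw [← map_mul, ← map_mul]
        exact hclsEq (by rw [map_mul, map_mul, mul_comm])
      · have hr : (Δ * Δ).1.right = 1 := by
          show Δ.1.right * Δ.1.right = 1
          rw [hΔr, mul_one]
        have hs : sInv (Δ * Δ) = 1 := by rw [map_mul]; exact Int.units_mul_self _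
        obtain ⟨c, g, hg, hdet⟩ := exists_isometry_of_square hr hs
        have hw : (wInv Δ) = 1 := by
          refine SemidirectProduct.ext (Units.ext ?_) hΔr
          show ((GeneralLinearGroup.det Δ.1.left * ((Units.mk0 (mu Δ) (mu_ne Δ)) ^ (k + 1))⁻¹ : Fˣ) : F) = 1
          simp [hΔm, hΔd, hd0]
        rw [map_mul, hw, one_mul] at hdet
        have hD2 : D * D = cls Q g := by rw [← map_mul]; exact outMap_scalar_mul hQ hn dat hr hg
        rw [hD2, hB]
        rcases hdetchi g hdet with h | h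
        · left; rw [hclsEq (h := 1) (by rw [h, map_one]), map_one]
        · right
          rw [← map_mul]
          exact hclsEq (by rw [h, map_mul, hA1, hB1]; rfl)
      · rw [hB, ← map_mul]
        intro h
        rw [cls, MonoidHom.comp_apply, hker] at h
        obtain ⟨-, c, s, hs⟩ := h
        set g := refl Q (eM k F) * refl Q (semi Δ.1 (eM k F))
        have hg : chiPair Q d g = (-1, -1) := by rw [map_mul, hA1, hB1]; rfl
        have hs' : (g : GL (MI k) F) = GeneralLinearGroup.scalar (MI k) c * ((s : O Q) : GL (MI k) F) := hs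
        have hcO : GeneralLinearGroup.scalar (MI k) c ∈ O Q := by
          have := mul_mem g.2 (inv_mem (s : O Q).2)
          rwa [hs', mul_inv_cancel_right] at this
        have hgs : g ∈ Cfsg.Omega F ⇑Q := by
          rcases hscal1 c hcO with rfl | rfl
          · have : g = (s : O Q) := Subtype.ext (by rw [hs', map_one, one_mul])
            rw [this]; exact s.2
          · have : g = negI Q * (s : O Q) := Subtype.ext hs'
            rw [this]; exact mul_mem hnegmem s.2
        rw [CfsgLib.OrthOmega.mem_omega_odd hQ h2 hd, hg] at hgs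
        exact absurd hgs (by decide)
      · exact (mul_inv_eq_iff_eq_mul.1 (hPcomm _ (by rw [hQe]; exact one_ne_zero)))
      · rw [hB]
        exact (mul_inv_eq_iff_eq_mul.1 (hPcomm _ (by rw [hDe]; exact hd0)))
      · have hr : (φ * Δ * φ⁻¹ * Δ⁻¹).1.right = 1 := by
          show φ.1.right * Δ.1.right * φ.1.right⁻¹ * Δ.1.right⁻¹ = 1
          rw [hΔr]; simp
        have hs : sInv (φ * Δ * φ⁻¹ * Δ⁻¹) = 1 := by
          rw [map_mul, map_mul, map_mul, map_inv, map_inv, mul_inv_cancel_comm, mul_inv_cancel]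
        obtain ⟨g, hg⟩ := hright1 _ hr hs
        rw [map_mul, map_mul, map_mul, map_inv, map_inv] at hg
        rw [show P * D * P⁻¹ * D⁻¹ = cls Q g from hg]
        exact hfour g
      · have hr : (φ ^ f).1.right = 1 := by
          rw [SubmonoidClass.coe_pow, show ((φ : GLS (MI k) F) ^ f).right = φ.1.right ^ f from
            map_pow SemidirectProduct.rightHom _ f, hφr]
          exact RingEquiv.ext fun z => by rw [frobP_apply, ← hF, FiniteField.pow_card]; rfl
        have hs : sInv (φ ^ f) = 1 := by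
          rw [map_pow, show sInv φ = 1 from (sqSign_eq_one_iff _).2 (by rw [hφm]; exact IsSquare.one),
            one_pow]
        obtain ⟨g, hg⟩ := hright1 _ hr hs
        rw [map_pow] at hg
        rw [show P ^ f = cls Q g from hg]
        exact hfour g
      · show π (outMap Q (oIn Q _)) = 1
        rw [hπ]; rfl
      · show π (outMap Q Δ) = 1
        rw [hπ, hΔr]
      · intro i hi
        rw [← map_pow, hπ, SubmonoidClass.coe_pow] at hi
        refine frobP_dvd hF hf ?_
        rw [← hφr]
        exact (map_pow SemidirectProduct.rightHom _ i).symm.trans hi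
      · intro z
        obtain ⟨x, rfl⟩ := outMap_surjective hgamma z
        obtain ⟨i, hi⟩ := frobP_surjective hF x.1.right
        set S := Subgroup.closure ({A, D, P} : Set G)
        have hAS : A ∈ S := Subgroup.subset_closure (by simp)
        have hDS : D ∈ S := Subgroup.subset_closure (by simp)
        have hPS : P ∈ S := Subgroup.subset_closure (by simp)
        have hclsS : ∀ g, cls Q g ∈ S := fun g => by
          rcases hfour g with h | h | h | h <;> rw [h]
          · exact one_mem _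
          · exact hAS
          · exact mul_mem (mul_mem hDS hAS) (inv_mem hDS)
          · exact mul_mem hAS (mul_mem (mul_mem hDS hAS) (inv_mem hDS))
        set y := x * (φ ^ i)⁻¹
        have hy1 : y.1.right = 1 := by
          show x.1.right * (φ ^ i).1.right⁻¹ = 1
          rw [SubmonoidClass.coe_pow, show ((φ : GLS (MI k) F) ^ i).right = φ.1.right ^ i from
            map_pow SemidirectProduct.rightHom _ i, hφr, hi, mul_inv_cancel]
        have hyS : outMap Q y ∈ S := by
          rcases Int.units_eq_one_or (sInv y) with h | h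
          · obtain ⟨g, hg⟩ := hright1 y hy1 h
            rw [hg]; exact hclsS g
          · have hr : (y * Δ⁻¹).1.right = 1 := by
              show y.1.right * Δ.1.right⁻¹ = 1
              rw [hy1, hΔr, inv_one, mul_one]
            have hs : sInv (y * Δ⁻¹) = 1 := by
              rw [map_mul, map_inv, h, show sInv Δ = -1 from by
                rcases Int.units_eq_one_or (sInv Δ) with e1 | e1
                · exact absurd ((sqSign_eq_one_iff _).1 e1) (by rw [hΔm]; exact hd)
                · exact e1]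
              decide
            obtain ⟨g, hg⟩ := hright1 _ hr hs
            rw [map_mul, map_inv, mul_inv_eq_iff_eq_mul] at hg
            rw [hg]
            exact mul_mem (hclsS g) hDS
        have hx : outMap Q x = outMap Q y * P ^ i := by
          rw [map_mul, map_inv, map_pow, inv_mul_cancel_right]
        rw [hx]
        exact mul_mem hyS (pow_mem hPS i)
    refine ⟨hiso, ?_⟩
    obtain ⟨iso⟩ := hiso
    rw [card_mulAut hQ hn dat, Nat.card_congr iso.toEquiv, Nat.card_prod, DihedralGroup.nat_card,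
      Nat.card_congr Multiplicative.toAdd, Nat.card_zmod]
  · -- the abelian case
    rw [if_neg hc, if_neg hc]
    have hnegmem : negI Q ∉ Cfsg.Omega F ⇑Q := fun h => hc (hcond.2 h)
    have hnegchi : chiPair Q d (negI Q) = (-1, -1) := by
      rcases hdetchi _ hnegdet with h | h
      · exact absurd ((CfsgLib.OrthOmega.mem_omega_odd hQ h2 hd _).2 h) hnegmem
      · exact h
    set C := Subgroup.zpowers g0
    let Ψ : ↥(semiGroup Q) →* ℤˣ × C := sInv.prod (wInv.codRestrict C hwmem)
    have hΨ : ∀ x, Ψ x = 1 ↔ sInv x = 1 ∧ wInv x = 1 := fun x => by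
      rw [Prod.ext_iff]
      exact and_congr Iff.rfl Subtype.ext_iff
    have hscal : ∀ x : ↥(semiGroup Q), x.1.right = 1 →
        (∃ c : Fˣ, x.1.left = GeneralLinearGroup.scalar (MI k) c) → Ψ x = 1 := by
      rintro x h1 ⟨c, hc⟩
      have hm : mu x = c * c := by
        show Q (semi x.1 (eM k F)) = _
        rw [semi, h1, hc]
        show Q (Matrix.scalar (MI k) (c : F) *ᵥ eM k F) = _
        rw [Matrix.scalar_apply, ← Matrix.smul_one_eq_diagonal, smul_mulVec, one_mulVec,
          QuadraticMap.map_smul, hQdef, minusQ_eM, smul_eq_mul, mul_one]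
      rw [hΨ]
      refine ⟨(sqSign_eq_one_iff _).2 ⟨c, hm⟩, SemidirectProduct.ext (Units.ext ?_) h1⟩
      show ((GeneralLinearGroup.det x.1.left * ((Units.mk0 (mu x) (mu_ne x)) ^ (k + 1))⁻¹ : Fˣ) : F) = 1
      rw [hc, Units.val_mul, Units.val_inv_eq_inv_val, Units.val_pow_eq_pow_val, Units.val_mk0, hm]
      show (Matrix.scalar (MI k) (c : F)).det * _ = 1
      rw [Matrix.scalar_apply, det_diagonal, Finset.prod_const, Finset.card_univ,
        show Fintype.card (MI k) = 2 * (k + 1) by simp; ring, pow_mul, pow_two,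
        mul_inv_cancel₀ (pow_ne_zero _ (mul_ne_zero c.ne_zero c.ne_zero))]
    have homega : ∀ s, Ψ (omegaIn Q s) = 1 := by
      intro s
      rw [hΨ]
      have hm : mu (omegaIn Q s) = 1 := mu_oIn (s : O Q)
      refine ⟨(sqSign_eq_one_iff _).2 (by rw [hm]; exact IsSquare.one), SemidirectProduct.ext (Units.ext ?_) rfl⟩
      show ((detHom Q (s : O Q) * ((Units.mk0 (mu (omegaIn Q s)) (mu_ne _)) ^ (k + 1))⁻¹ : Fˣ) : F) = 1
      rw [MonoidHom.mem_ker.1 (Abelianization.commutator_subset_ker (detHom Q) s.2)]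
      simp [hm]
    have hk' : ∀ x : ↥(semiGroup Q), Ψ x = 1 → x.1.right = 1 ∧
        ∃ (c : Fˣ) (s : ↥(Cfsg.Omega F ⇑Q)),
          x.1.left = GeneralLinearGroup.scalar (MI k) c * ((s : O Q) : GL (MI k) F) := by
      intro x hx
      obtain ⟨hs, hw⟩ := (hΨ x).1 hx
      have h1 : x.1.right = 1 := congrArg SemidirectProduct.right hw
      refine ⟨h1, ?_⟩
      obtain ⟨c, g, hg, hdet⟩ := exists_isometry_of_square h1 hs
      rw [hw] at hdet
      rcases hdetchi g hdet with h | h
      · exact ⟨c, ⟨g, (CfsgLib.OrthOmega.mem_omega_odd hQ h2 hd g).2 h⟩, hg⟩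
      · refine ⟨c * -1, ⟨negI Q * g, (CfsgLib.OrthOmega.mem_omega_odd hQ h2 hd _).2
          (by rw [map_mul, hnegchi, h]; decide)⟩, ?_⟩
        show x.1.left = GeneralLinearGroup.scalar (MI k) (c * -1) *
          (GeneralLinearGroup.scalar (MI k) (-1) * (g : GL (MI k) F))
        rw [← mul_assoc, ← map_mul, mul_assoc, show (-1 : Fˣ) * -1 = 1 by simp, mul_one, hg]
    have hsurj : Function.Surjective Ψ := by
      rintro ⟨ε, w, hw⟩
      have hfin : IsOfFinOrder g0 := orderOf_pos_iff.1 (by rw [hord]; omega)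
      obtain ⟨i, rfl⟩ := hfin.mem_powers_iff_mem_zpowers.2 hw
      have hwΔ : wInv Δ = 1 := by
        refine SemidirectProduct.ext (Units.ext ?_) hΔr
        show ((GeneralLinearGroup.det Δ.1.left * ((Units.mk0 (mu Δ) (mu_ne Δ)) ^ (k + 1))⁻¹ : Fˣ) : F) = 1
        simp [hΔm, hΔd, hd0]
      have hsφ : sInv φ = 1 := (sqSign_eq_one_iff _).2 (by rw [hφm]; exact IsSquare.one)
      have hsΔ : sInv Δ = -1 := by
        rcases Int.units_eq_one_or (sInv Δ) with e1 | e1
        · exact absurd ((sqSign_eq_one_iff _).1 e1) (by rw [hΔm]; exact hd)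
        · exact e1
      rcases Int.units_eq_one_or ε with rfl | rfl
      · refine ⟨φ ^ i, Prod.ext ?_ (Subtype.ext ?_)⟩
        · show sInv (φ ^ i) = 1
          rw [map_pow, hsφ, one_pow]
        · show wInv (φ ^ i) = g0 ^ i
          rw [map_pow]
      · refine ⟨Δ * φ ^ i, Prod.ext ?_ (Subtype.ext ?_)⟩
        · show sInv (Δ * φ ^ i) = -1
          rw [map_mul, map_pow, hsφ, hsΔ, one_pow, mul_one]
        · show wInv (Δ * φ ^ i) = g0 ^ i
          rw [map_mul, map_pow, hwΔ, one_mul]
    obtain ⟨iso⟩ := nonempty_out_equiv hQ hn dat hgamma Ψ hsurj hscal homega hk'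
    obtain ⟨e1⟩ := units_int_equiv
    have hcC : Nat.card C = 2 * f := by rw [Nat.card_zpowers, hord]
    let e2 : C ≃* Multiplicative (ZMod (2 * f)) :=
      (hcC ▸ zmodCyclicMulEquiv (G := C) inferInstance : Multiplicative (ZMod (2 * f)) ≃* C).symm
    let e3 := (iso.trans (MulEquiv.prodCongr e1 e2)).trans (MulEquiv.prodMultiplicative _ _).symm
    refine ⟨⟨e3⟩, ?_⟩
    rw [card_mulAut hQ hn dat, Nat.card_congr e3.toEquiv, Nat.card_congr Multiplicative.toAdd,
      Nat.card_prod, Nat.card_zmod, Nat.card_zmod]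
    ring

end MainThm

end Cfsg.Agent.GammaO57
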