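import Cfsg.Agent.Helper57SemiClass
import Cfsg.Agent.Helper57Similitude
import Cfsg.Agent.Helper57Levi
import Cfsg.Agent.Helper57DihExt
import Cfsg.Agent.Helper57OutMinusOdd
import Cfsg.Agent.Lib.Orth.SO

/-!
The outer classes of semisimilarities of the plus-type form: generators, relations, and their independence.
-/

set_option autoImplicit false
set_option linter.unusedSectionVars false

namespace Cfsg.Agent.OutPlus57

open Matrix QuadraticMap CfsgLib.Orth Cfsg.Agent.GammaO57 Cfsg.Agent.Levi57 Cfsg.Agent.Spinor57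

variable {F : Type*} [Field F] [Fintype F] {m : ℕ}

/-- the index type -/
abbrev PI' (m : ℕ) : Type := Fin m ⊕ Fin m

theorem plusQ_prime : IsPrimeForm (plusQ m F) := fun σ v => by
  simp [plusQ_coe, Cfsg.quadFormPlus, map_sum]

/-- two hyperbolic pairs -/
noncomputable def plusData (hm : 2 ≤ m) : HypData (plusQ m F) where
  u := Pi.single (Sum.inl ⟨0, by omega⟩) 1
  v := Pi.single (Sum.inl ⟨1, by omega⟩) 1
  u' := Pi.single (Sum.inr ⟨0, by omega⟩) 1
  v' := Pi.single (Sum.inr ⟨1, by omega⟩) 1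
  hu := by simp [plusQ_coe, Cfsg.quadFormPlus]
  hv := by simp [plusQ_coe, Cfsg.quadFormPlus]
  hu' := by simp [plusQ_coe, Cfsg.quadFormPlus]
  hv' := by simp [plusQ_coe, Cfsg.quadFormPlus]
  huv := by simp [polar_plusQ]
  huv' := by simp [polar_plusQ, Pi.single_apply]
  hu'v := by simp [polar_plusQ, Pi.single_apply]
  hu'v' := by simp [polar_plusQ]
  huu' := by simp [polar_plusQ, Pi.single_apply]
  hvv' := by simp [polar_plusQ, Pi.single_apply]

/-- the kernel of the map to `Out` -/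
theorem outMap_one_iff (hm : 4 ≤ m) (x : ↥(semiGroup (plusQ m F))) :
    outMap (plusQ m F) x = 1 ↔ x.1.right = 1 ∧ ∃ (c : Fˣ) (s : ↥(Cfsg.Omega F ⇑(plusQ m F))),
      x.1.left = GeneralLinearGroup.scalar (PI' m) c * ((s : O (plusQ m F)) : GL (PI' m) F) :=
  outMap_eq_one_iff (plusQ_nondegenerate m) (by simp; omega) (plusData (by omega)) x

theorem cls_omega (hm : 4 ≤ m) {g : O (plusQ m F)} (hg : g ∈ Cfsg.Omega F ⇑(plusQ m F)) :
    cls (plusQ m F) g = 1 :=
  cls_of_mem (plusQ_nondegenerate m) (by simp; omega) (plusData (by omega)) hg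

theorem outMap_scalar (hm : 4 ≤ m) {x : ↥(semiGroup (plusQ m F))} (h1 : x.1.right = 1) {c : Fˣ}
    {g : O (plusQ m F)} (hx : x.1.left = GeneralLinearGroup.scalar (PI' m) c * (g : GL (PI' m) F)) :
    outMap (plusQ m F) x = cls (plusQ m F) g :=
  outMap_scalar_mul (plusQ_nondegenerate m) (by simp; omega) (plusData (by omega)) h1 hx

/-! ### The elements -/

/-- the last index -/
def lastI (hm : 4 ≤ m) : Fin m := ⟨m - 1, by omega⟩

/-- a vector of value `c` on one hyperbolic pair -/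
abbrev pv (i : Fin m) (c : F) : PI' m → F := Pi.single (Sum.inl i) 1 + c • Pi.single (Sum.inr i) 1

/-- the class of an improper isometry -/
noncomputable def gA (hm : 4 ≤ m) : Cfsg.Out (Cfsg.POmega F ⇑(plusQ m F)) :=
  cls (plusQ m F) (refl (plusQ m F) (pv (lastI hm) (-1)))

/-- `diag(c, …, c, 1, …, 1)` -/
def blkGL (m : ℕ) (c : Fˣ) : GL (PI' m) F :=
  ⟨fromBlocks ((c : F) • (1 : Matrix (Fin m) (Fin m) F)) 0 0 1,
    fromBlocks (((c⁻¹ : Fˣ) : F) • (1 : Matrix (Fin m) (Fin m) F)) 0 0 1,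
    by rw [fromBlocks_multiply]; simp [smul_smul],
    by rw [fromBlocks_multiply]; simp [smul_smul]⟩

theorem blkGL_mulVec (c : Fˣ) (v : PI' m → F) :
    (blkGL m c : Matrix (PI' m) (PI' m) F) *ᵥ v =
      Sum.elim (fun i => (c : F) * v (.inl i)) (fun i => v (.inr i)) := by
  show fromBlocks ((c : F) • (1 : Matrix (Fin m) (Fin m) F)) 0 0 1 *ᵥ v = _
  rw [fromBlocks_mulVec]
  funext i
  rcases i with i | i <;> simp [smul_mulVec]

/-- the block similitudes -/
noncomputable def blkS (m : ℕ) (F : Type*) [Field F] [Fintype F] : Fˣ →* ↥(semiGroup (plusQ m F)) where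
  toFun c := ⟨SemidirectProduct.inl (blkGL m c), ⟨c, fun v => by
    show plusQ m F ((blkGL m c : Matrix (PI' m) (PI' m) F) *ᵥ ((1 : F ≃+* F) ∘ v)) = _
    rw [blkGL_mulVec, plusQ_coe]
    simp [Cfsg.quadFormPlus, Finset.mul_sum, mul_assoc]⟩⟩
  map_one' := Subtype.ext ((congrArg SemidirectProduct.inl (show blkGL (F := F) m 1 = 1 from Units.ext (by
      show fromBlocks (((1 : Fˣ) : F) • (1 : Matrix (Fin m) (Fin m) F)) 0 0 1 = _
      rw [Units.val_one, one_smul, fromBlocks_one]; rfl))).trans (map_one _))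
  map_mul' a b := Subtype.ext ((congrArg SemidirectProduct.inl
    (show blkGL (F := F) m (a * b) = blkGL m a * blkGL m b from Units.ext (by
      show _ = fromBlocks _ _ _ _ * fromBlocks _ _ _ _
      rw [fromBlocks_multiply]
      show fromBlocks (((a * b : Fˣ) : F) • (1 : Matrix (Fin m) (Fin m) F)) 0 0 1 = _
      simp [smul_smul, mul_comm]))).trans (map_mul SemidirectProduct.inl _ _))

/-- the class of a proper similitude -/
noncomputable def gD (m : ℕ) (d : Fˣ) : Cfsg.Out (Cfsg.POmega F ⇑(plusQ m F)) :=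
  outMap (plusQ m F) (blkS m F d)

/-- the classes of field automorphisms -/
noncomputable def gF (m : ℕ) (F : Type*) [Field F] [Fintype F] :
    (F ≃+* F) →* Cfsg.Out (Cfsg.POmega F ⇑(plusQ m F)) :=
  (outMap (plusQ m F)).comp (fieldIn (Q := plusQ m F) plusQ_prime)

/-- the class of a torus element -/
noncomputable def gT (i : Fin m) (d : Fˣ) : Cfsg.Out (Cfsg.POmega F ⇑(plusQ m F)) :=
  cls (plusQ m F) (levi m F (diagT i d))

theorem conj_cls (x : ↥(semiGroup (plusQ m F))) (g : O (plusQ m F)) :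
    outMap (plusQ m F) x * cls (plusQ m F) g * (outMap (plusQ m F) x)⁻¹ =
      cls (plusQ m F) (conjO (plusQ m F) x g) := by
  rw [cls, MonoidHom.comp_apply, MonoidHom.comp_apply, ← conj_oIn, map_mul, map_mul, map_inv]

theorem gF_comm_gA (hm : 4 ≤ m) (σ : F ≃+* F) : Commute (gF m F σ) (gA hm) := by
  have h := conj_cls (fieldIn (Q := plusQ m F) plusQ_prime σ) (refl (plusQ m F) (pv (lastI hm) (-1)))
  rw [conjO_refl] at h
  have he : semi (fieldIn (Q := plusQ m F) plusQ_prime σ).1 (pv (lastI hm) (-1)) = pv (lastI hm) (-1) := by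
    show (1 : Matrix (PI' m) (PI' m) F) *ᵥ (σ ∘ _) = _
    rw [one_mulVec]
    funext k
    rcases k with k | k <;> simp [Pi.single_apply, apply_ite σ]
  rw [he] at h
  exact mul_inv_eq_iff_eq_mul.1 h

theorem gF_conj_gD (σ : F ≃+* F) (d : Fˣ) :
    gF m F σ * gD m d * (gF m F σ)⁻¹ = gD m (Units.map σ.toMonoidHom d) := by
  rw [gF, gD, gD, MonoidHom.comp_apply, ← map_mul, ← map_inv, ← map_mul]
  congr 1
  apply Subtype.ext
  have hmap : glAut (PI' m) F σ (blkGL m d) = blkGL m (Units.map σ.toMonoidHom d) := by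
    apply Units.ext
    show (fromBlocks ((d : F) • (1 : Matrix (Fin m) (Fin m) F)) 0 0 1).map σ = fromBlocks (σ (d : F) • 1) 0 0 1
    rw [Matrix.fromBlocks_map]
    simp [Matrix.map_smul']
  show SemidirectProduct.inr σ * SemidirectProduct.inl (blkGL m d) * (SemidirectProduct.inr σ)⁻¹ =
    SemidirectProduct.inl (blkGL m (Units.map σ.toMonoidHom d))
  rw [← hmap, SemidirectProduct.inl_aut, ← map_inv]

/-- A semisimilarity is a field automorphism composed with a similitude. -/
theorem split_field (x : ↥(semiGroup (plusQ m F))) : ∃ y : ↥(semiGroup (plusQ m F)), y.1.right = 1 ∧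
    x = y * fieldIn (Q := plusQ m F) plusQ_prime x.1.right := by
  refine ⟨x * (fieldIn (Q := plusQ m F) plusQ_prime x.1.right)⁻¹, ?_, (inv_mul_cancel_right _ _).symm⟩
  show x.1.right * (fieldIn (Q := plusQ m F) plusQ_prime x.1.right).1.right⁻¹ = 1
  exact mul_inv_cancel _

/-- A similitude with square multiplier is a scalar times an isometry. -/
theorem split_square {y : ↥(semiGroup (plusQ m F))} (h1 : y.1.right = 1) {c : F}
    (hc : ∀ v, plusQ m F (semi y.1 v) = c * plusQ m F v) (hc0 : c ≠ 0) (hsq : IsSquare c) :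
    ∃ (t : Fˣ) (g : O (plusQ m F)), y.1.left = GeneralLinearGroup.scalar (PI' m) t * (g : GL (PI' m) F) := by
  obtain ⟨t, ht⟩ := hsq
  have ht0 : t ≠ 0 := fun h => hc0 (by rw [ht, h, mul_zero])
  set u := Units.mk0 t ht0
  refine ⟨u, ⟨GeneralLinearGroup.scalar (PI' m) u⁻¹ * y.1.left, ?_⟩, ?_⟩
  · rw [mem_O_iff]
    intro v
    have h := hc v
    rw [semi, h1, show (1 : F ≃+* F) ∘ v = v from rfl] at h
    rw [Units.val_mul, ← mulVec_mulVec]
    show plusQ m F (Matrix.scalar (PI' m) ((u⁻¹ : Fˣ) : F) *ᵥ _) = _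
    rw [Matrix.scalar_apply, ← Matrix.smul_one_eq_diagonal, smul_mulVec, one_mulVec, QuadraticMap.map_smul, h,
      ht, smul_eq_mul, Units.val_inv_eq_inv_val, Units.val_mk0]
    field_simp
  · show y.1.left = GeneralLinearGroup.scalar (PI' m) u * (GeneralLinearGroup.scalar (PI' m) u⁻¹ * y.1.left)
    rw [← mul_assoc, ← map_mul, mul_inv_cancel, map_one, one_mul]

theorem pv_ne {i : Fin m} {c : F} (hc : c ≠ 0) : plusQ m F (pv i c) ≠ 0 := by rw [Q_pair]; exact hc

/-- the scalar of a scalar isometry -/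
theorem scalar_sq (hm : 1 ≤ m) {g : O (plusQ m F)} {c : Fˣ} {s : O (plusQ m F)}
    (h : (g : GL (PI' m) F) = GeneralLinearGroup.scalar (PI' m) c * (s : GL (PI' m) F)) :
    (c : F) * c = 1 := by
  set v := pv (F := F) (⟨0, hm⟩ : Fin m) 1
  obtain ⟨w, hw⟩ : ∃ w, app s w = v := ⟨_, app_app_inv s v⟩
  have e : app g w = (c : F) • v := by
    rw [app_apply, h, Units.val_mul, ← mulVec_mulVec]
    show Matrix.scalar _ (c : F) *ᵥ app s w = _
    rw [hw, Matrix.scalar_apply, ← Matrix.smul_one_eq_diagonal, smul_mulVec, one_mulVec]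
  have := Q_app g w
  rw [e, QuadraticMap.map_smul, ← Q_app s w, hw, Q_pair, smul_eq_mul, mul_one] at this
  exact this

/-- scalars of square one as Levi elements -/
theorem scalar_eq_levi {c : Fˣ} (hc : (c : F) * c = 1) :
    GeneralLinearGroup.scalar (PI' m) c = (levi m F (GeneralLinearGroup.scalar (Fin m) c) : GL (PI' m) F) := by
  have hci : ((c⁻¹ : Fˣ) : F) = c := by rw [← mul_left_inj' c.ne_zero, Units.inv_mul, hc]
  apply Units.ext
  show Matrix.scalar (PI' m) (c : F) = fromBlocks (Matrix.scalar (Fin m) (c : F)) 0 0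
    (Matrix.scalar (Fin m) ((c⁻¹ : Fˣ) : F))ᵀ
  rw [hci, Matrix.scalar_apply, Matrix.scalar_apply, diagonal_transpose, fromBlocks_diagonal]
  congr 1
  funext k
  rcases k with k | k <;> rfl

/-- When the classes of torus elements vanish. -/
theorem gT_eq_one_iff (hm : 4 ≤ m) (i : Fin m) (d : Fˣ) :
    gT i d = 1 ↔ IsSquare (d : F) ∨ IsSquare ((-1 : F) ^ m * d) := by
  rw [gT, cls, MonoidHom.comp_apply, outMap_one_iff hm]
  have hdet : ((diagT i d : GL (Fin m) F) : Matrix (Fin m) (Fin m) F).det = d :=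
    congrArg Units.val (det_diagT i d)
  have hlev := levi_mem_iff (F := F) (m := m) (by omega) (Or.inr (by omega))
  have hdc : ∀ c : Fˣ, ((GeneralLinearGroup.scalar (Fin m) c * diagT i d : GL (Fin m) F) :
      Matrix (Fin m) (Fin m) F).det = (c : F) ^ m * d := fun c => by
    rw [Units.val_mul, det_mul, hdet]
    show (Matrix.scalar (Fin m) (c : F)).det * _ = _
    rw [Matrix.scalar_apply, det_diagonal, Finset.prod_const, Finset.card_univ, Fintype.card_fin]
  constructor
  · rintro ⟨-, c, ⟨s, hs⟩, h⟩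
    have hl : (levi m F (diagT i d) : GL (PI' m) F) = GeneralLinearGroup.scalar (PI' m) c * (s : GL (PI' m) F) :=
      h
    have hcc := scalar_sq (by omega) hl
    have hs' : levi m F (GeneralLinearGroup.scalar (Fin m) c * diagT i d) = s := by
      apply Subtype.ext
      rw [map_mul, Subgroup.coe_mul, hl, ← scalar_eq_levi hcc, ← mul_assoc, ← map_mul]
      rw [show c * c = 1 from Units.ext hcc, map_one, one_mul]
    rw [← hs', hlev, hdc] at hs
    rcases mul_self_eq_one_iff.1 hcc with h' | h' <;> rw [h'] at hs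
    · left; rwa [one_pow, one_mul] at hs
    · exact Or.inr hs
  · refine fun h => ⟨rfl, ?_⟩
    obtain ⟨c, hcc, hsq⟩ : ∃ c : Fˣ, (c : F) * c = 1 ∧ IsSquare ((c : F) ^ m * d) := by
      rcases h with h | h
      · exact ⟨1, by simp, by simpa using h⟩
      · exact ⟨-1, by simp, by simpa using h⟩
    refine ⟨c, ⟨levi m F (GeneralLinearGroup.scalar (Fin m) c * diagT i d), (hlev _).2 (by rw [hdc]; exact hsq)⟩, ?_⟩
    show (levi m F (diagT i d) : GL (PI' m) F) =
      GeneralLinearGroup.scalar (PI' m) c *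
        (levi m F (GeneralLinearGroup.scalar (Fin m) c * diagT i d) : GL (PI' m) F)
    rw [map_mul, Subgroup.coe_mul, ← scalar_eq_levi hcc, ← mul_assoc, ← map_mul,
      show c * c = 1 from Units.ext hcc, map_one, one_mul]

/-- Levi elements of equal determinant classes. -/
theorem cls_levi_congr (hm : 4 ≤ m) {A B : GL (Fin m) F}
    (h : IsSquare ((A : Matrix (Fin m) (Fin m) F).det * (B : Matrix (Fin m) (Fin m) F).det)) :
    cls (plusQ m F) (levi m F A) = cls (plusQ m F) (levi m F B) := by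
  rw [← inv_mul_eq_one, ← map_inv, ← map_mul, ← map_inv, ← map_mul]
  refine cls_omega hm ((levi_mem_iff (by omega) (Or.inr (by omega)) _).2 ?_)
  rw [Units.val_mul, det_mul, Matrix.coe_units_inv, Matrix.det_nonsing_inv, Ring.inverse_eq_inv']
  have hA : (A : Matrix (Fin m) (Fin m) F).det ≠ 0 := (GeneralLinearGroup.det A).ne_zero
  have := h.div (IsSquare.mul_self (A : Matrix (Fin m) (Fin m) F).det)
  rw [mul_div_mul_left _ _ hA, ← inv_mul_eq_div] at this
  exact this

/-- The class of a block similitude with square multiplier. -/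
theorem gD_sq (hm : 4 ≤ m) (e : Fˣ) :
    gD m (e * e) = cls (plusQ m F) (levi m F (GeneralLinearGroup.scalar (Fin m) e)) := by
  refine outMap_scalar hm (c := e) rfl (Units.ext ?_)
  show fromBlocks (((e * e : Fˣ) : F) • (1 : Matrix (Fin m) (Fin m) F)) 0 0 1 =
    Matrix.scalar (PI' m) (e : F) * fromBlocks (Matrix.scalar (Fin m) (e : F)) 0 0
      (Matrix.scalar (Fin m) ((e⁻¹ : Fˣ) : F))ᵀ
  rw [Matrix.scalar_apply, Matrix.scalar_apply, Matrix.scalar_apply, diagonal_transpose, fromBlocks_diagonal,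
    diagonal_mul_diagonal, ← Matrix.diagonal_one, ← diagonal_smul, fromBlocks_diagonal]
  congr 1
  funext k
  rcases k with k | k <;> simp

open scoped _root_.Classical in
theorem gD_sq_eq (hm : 4 ≤ m) (i : Fin m) {d : Fˣ} (hd : ¬ IsSquare (d : F)) (e : Fˣ) :
    gD m (e * e) = if IsSquare ((e : F) ^ m) then 1 else gT i d := by
  have hdet : ((GeneralLinearGroup.scalar (Fin m) e : GL (Fin m) F) : Matrix (Fin m) (Fin m) F).det = (e : F) ^ m := by
    show (Matrix.scalar (Fin m) (e : F)).det = _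
    rw [Matrix.scalar_apply, det_diagonal, Finset.prod_const, Finset.card_univ, Fintype.card_fin]
  rw [gD_sq hm]
  split_ifs with h
  · exact cls_omega hm ((levi_mem_iff (by omega) (Or.inr (by omega)) _).2 (by rwa [hdet]))
  · refine cls_levi_congr hm ?_
    rw [hdet, show ((diagT i d : GL (Fin m) F) : Matrix (Fin m) (Fin m) F).det = (d : F) from
      congrArg Units.val (det_diagT i d), ← sqSign_eq_one_iff,
      sqSign_mul (pow_ne_zero _ e.ne_zero) d.ne_zero]
    simp [sqSign, h, hd]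

/-! ### Relations in odd characteristic -/

section Odd

variable (h2 : (2 : F) ≠ 0) (hm : 4 ≤ m) {d : Fˣ} (hd : ¬ IsSquare (d : F))

include h2 hm hd in
theorem cls_eq_of_chi [DecidableEq F] {g h : O (plusQ m F)}
    (e : chiPair (plusQ m F) (d : F) g = chiPair (plusQ m F) (d : F) h) :
    cls (plusQ m F) g = cls (plusQ m F) h :=
  cls_congr (plusQ_nondegenerate m) h2 (by simp; omega) (plusData (by omega)) hd e

include h2 hd in
theorem chi_refl_pv [DecidableEq F] (i : Fin m) {c : F} (hc : c ≠ 0) :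
    chiPair (plusQ m F) (d : F) (refl (plusQ m F) (pv i c)) = (-sqSign c, sqSign c) := by
  rw [chiPair_refl' h2 hd (pv_ne hc), Q_pair]

include h2 hm hd in
theorem gD_conj_refl (v : PI' m → F) (hv : plusQ m F v ≠ 0) :
    gD m d * cls (plusQ m F) (refl (plusQ m F) v) * (gD m d)⁻¹ =
      cls (plusQ m F) (refl (plusQ m F) (pv (lastI hm) ((d : F) * plusQ m F v))) := by
  classical
  rw [gD, conj_cls, conjO_refl]
  refine cls_eq_of_chi h2 hm hd ?_
  have e : plusQ m F (semi (blkS m F d).1 v) = (d : F) * plusQ m F v := by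
    show plusQ m F ((blkGL m d : Matrix (PI' m) (PI' m) F) *ᵥ ((1 : F ≃+* F) ∘ v)) = _
    rw [blkGL_mulVec, plusQ_coe]
    simp [Cfsg.quadFormPlus, Finset.mul_sum, mul_assoc]
  rw [chiPair_refl' h2 hd (by rw [e]; exact mul_ne_zero d.ne_zero hv), e,
    chi_refl_pv h2 hd _ (mul_ne_zero d.ne_zero hv)]

/-- the second improper class -/
noncomputable def gB (hm : 4 ≤ m) (d : Fˣ) : Cfsg.Out (Cfsg.POmega F ⇑(plusQ m F)) :=
  cls (plusQ m F) (refl (plusQ m F) (pv (lastI hm) (-(d : F))))

theorem gA_sq (hm : 4 ≤ m) : gA (F := F) hm * gA hm = 1 := by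
  rw [gA, ← map_mul, refl_mul_self, map_one]

theorem gB_sq (hm : 4 ≤ m) (d : Fˣ) : gB (F := F) hm d * gB hm d = 1 := by
  rw [gB, ← map_mul, refl_mul_self, map_one]

include h2 hd in
theorem gD_conj_gA : gD m d * gA hm * (gD m d)⁻¹ = gB hm d := by
  rw [gA, gD_conj_refl h2 hm hd _ (pv_ne (neg_ne_zero.2 one_ne_zero)), Q_pair, mul_neg, mul_one, gB]

include h2 hd in
theorem gD_conj_gB : gD m d * gB hm d * (gD m d)⁻¹ = gA hm := by
  classical
  rw [gB, gD_conj_refl h2 hm hd _ (pv_ne (neg_ne_zero.2 d.ne_zero)), Q_pair, gA]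
  refine cls_eq_of_chi h2 hm hd ?_
  rw [chi_refl_pv h2 hd _ (mul_ne_zero d.ne_zero (neg_ne_zero.2 d.ne_zero)),
    chi_refl_pv h2 hd _ (neg_ne_zero.2 one_ne_zero)]
  rw [show (d : F) * -(d : F) = -1 * ((d : F) * d) by ring,
    sqSign_mul (neg_ne_zero.2 one_ne_zero) (mul_ne_zero d.ne_zero d.ne_zero),
    (sqSign_eq_one_iff _).2 (IsSquare.mul_self _), mul_one]

include h2 hd in
theorem gA_mul_gB (i : Fin m) : gA hm * gB hm d = gT i d := by
  classical
  rw [gA, gB, gT, ← map_mul]
  refine cls_eq_of_chi h2 hm hd ?_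
  have h1 : ((d⁻¹ : Fˣ) : F) ≠ 0 := Units.ne_zero _
  rw [map_mul, levi_diagT, map_mul, chi_refl_pv h2 hd _ (neg_ne_zero.2 one_ne_zero),
    chi_refl_pv h2 hd _ (neg_ne_zero.2 d.ne_zero), chi_refl_pv h2 hd _ h1, chi_refl_pv h2 hd _ one_ne_zero,
    Prod.mk_mul_mk, Prod.mk_mul_mk, neg_mul_neg, neg_mul_neg, ← sqSign_mul (neg_ne_zero.2 one_ne_zero)
      (neg_ne_zero.2 d.ne_zero), ← sqSign_mul h1 one_ne_zero, neg_mul_neg, one_mul, mul_one]
  have : sqSign ((d⁻¹ : Fˣ) : F) = sqSign (d : F) := by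
    simp [sqSign, Units.val_inv_eq_inv_val, isSquare_inv]
  rw [this]

include h2 hd in
theorem gA_gB_comm : Commute (gA hm) (gB hm d) := by
  classical
  show gA hm * gB hm d = gB hm d * gA hm
  rw [gA, gB, ← map_mul, ← map_mul]
  exact cls_eq_of_chi h2 hm hd (by rw [map_mul, map_mul, mul_comm])

include h2 hm hd in
theorem gT_sq (i : Fin m) : gT i d * gT i d = 1 := by
  rw [← gA_mul_gB h2 hm hd i, (gA_gB_comm h2 hm hd).symm.mul_mul_mul_comm, gA_sq, gB_sq, one_mul]

include h2 hd in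
theorem gT_comm_gA (i : Fin m) : Commute (gT i d) (gA hm) := by
  rw [← gA_mul_gB h2 hm hd i]
  exact (Commute.refl _).mul_left (gA_gB_comm h2 hm hd).symm

include h2 hm hd in
theorem gT_comm_gD (i : Fin m) : Commute (gT i d) (gD m d) := by
  have h : gD m d * gT i d * (gD m d)⁻¹ = gT i d := by
    rw [← gA_mul_gB h2 hm hd i, ← conj_mul, gD_conj_gA h2 hm hd, gD_conj_gB h2 hm hd]
    exact (gA_gB_comm h2 hm hd).eq.symm
  exact (mul_inv_eq_iff_eq_mul.1 h).symm

include h2 hd in
theorem gA_gD_gA (i : Fin m) : gA hm * gD m d * gA hm = gT i d * gD m d := by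
  rw [← gA_mul_gB h2 hm hd i, ← gD_conj_gA h2 hm hd]
  group

include hm hd in
theorem gD_mul_self (i : Fin m) : gD m d * gD m d = if Even m then 1 else gT i d := by
  classical
  rw [gD, ← map_mul, ← map_mul]
  show gD m (d * d) = _
  rw [gD_sq_eq hm i hd]
  rcases Nat.even_or_odd m with ⟨k, rfl⟩ | ⟨k, rfl⟩
  · rw [if_pos (show IsSquare ((d : F) ^ (k + k)) from ⟨(d : F) ^ k, pow_add _ _ _⟩), if_pos ⟨k, rfl⟩]
  · rw [if_neg, if_neg (by simp)]
    intro h
    apply hd
    have := h.div (IsSquare.mul_self ((d : F) ^ k))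
    rwa [pow_succ, two_mul, pow_add, mul_div_cancel_left₀] at this
    exact mul_ne_zero (pow_ne_zero _ d.ne_zero) (pow_ne_zero _ d.ne_zero)

include h2 hd in
theorem gF_comm_gB (σ : F ≃+* F) : Commute (gF m F σ) (gB hm d) := by
  classical
  have h := conj_cls (fieldIn (Q := plusQ m F) plusQ_prime σ) (refl (plusQ m F) (pv (lastI hm) (-(d : F))))
  rw [conjO_refl] at h
  have he : semi (fieldIn (Q := plusQ m F) plusQ_prime σ).1 (pv (lastI hm) (-(d : F))) =
      pv (lastI hm) (-σ (d : F)) := by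
    show (1 : Matrix (PI' m) (PI' m) F) *ᵥ (σ ∘ _) = _
    rw [one_mulVec]
    funext k
    rcases k with k | k <;> simp [Pi.single_apply, apply_ite σ]
  rw [he] at h
  refine mul_inv_eq_iff_eq_mul.1 (h.trans (cls_eq_of_chi h2 hm hd ?_))
  rw [chi_refl_pv h2 hd _ (neg_ne_zero.2 ((map_ne_zero σ).2 d.ne_zero)),
    chi_refl_pv h2 hd _ (neg_ne_zero.2 d.ne_zero), show -σ (d : F) = σ (-(d : F)) by rw [map_neg]]
  have : ∀ x : F, sqSign (σ x) = sqSign x := fun x => by simp [sqSign, isSquare_map_iff]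
  rw [this]

include h2 hm hd in
theorem gF_comm_gT (i : Fin m) (σ : F ≃+* F) : Commute (gF m F σ) (gT i d) := by
  rw [← gA_mul_gB h2 hm hd i]
  exact (gF_comm_gA hm σ).mul_right (gF_comm_gB h2 hm hd σ)

include h2 hd in
theorem cls_four (g : O (plusQ m F)) :
    cls (plusQ m F) g ∈ ({1, gA hm, gB hm d, gA hm * gB hm d} :
      Set (Cfsg.Out (Cfsg.POmega F ⇑(plusQ m F)))) := by
  classical
  have hA : chiPair (plusQ m F) (d : F) (refl (plusQ m F) (pv (lastI hm) (-1))) =
      (-sqSign (-1 : F), sqSign (-1 : F)) := chi_refl_pv h2 hd _ (neg_ne_zero.2 one_ne_zero)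
  have hB : chiPair (plusQ m F) (d : F) (refl (plusQ m F) (pv (lastI hm) (-(d : F)))) =
      (sqSign (-1 : F), -sqSign (-1 : F)) := by
    rw [chi_refl_pv h2 hd _ (neg_ne_zero.2 d.ne_zero), show -(d : F) = -1 * d by ring,
      sqSign_mul (neg_ne_zero.2 one_ne_zero) d.ne_zero, show sqSign (d : F) = -1 by simp [sqSign, hd]]
    simp
  obtain ⟨a, b, hab⟩ : ∃ a b, chiPair (plusQ m F) (d : F) g = (a, b) := ⟨_, _, rfl⟩
  rcases Int.units_eq_one_or (a * b) with hp | hp
  · rcases Int.units_eq_one_or a with ha | ha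
    · left
      rw [cls_eq_of_chi h2 hm hd (h := 1) ?_, map_one]
      rw [map_one, hab, ha]
      rw [ha, one_mul] at hp
      rw [hp]; rfl
    · right; right; right
      show cls (plusQ m F) g = gA hm * gB hm d
      rw [gA, gB, ← map_mul]
      refine cls_eq_of_chi h2 hm hd ?_
      rw [map_mul, hA, hB, hab, ha]
      rw [ha] at hp
      have hb : b = -1 := by rw [← neg_inj, neg_neg, ← hp, neg_one_mul]
      rw [hb, Prod.mk_mul_mk]
      rcases Int.units_eq_one_or (sqSign (-1 : F)) with e | e <;> rw [e] <;> rfl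
  · have hb : b = -a := by
      rcases Int.units_eq_one_or a with ha | ha <;> rcases Int.units_eq_one_or b with hb | hb <;>
        subst ha hb <;> revert hp <;> decide
    by_cases ha : a = -sqSign (-1 : F)
    · right; left
      exact cls_eq_of_chi h2 hm hd (by rw [hA, hab, hb, ha, neg_neg])
    · right; right; left
      refine cls_eq_of_chi h2 hm hd ?_
      rw [hB, hab, hb]
      rcases Int.units_eq_one_or a with e | e <;> rcases Int.units_eq_one_or (sqSign (-1 : F)) with e' | e' <;>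
        rw [e, e'] at ha ⊢ <;> first | rfl | exact absurd rfl ha | exact absurd (by decide) ha

include h2 hd in
theorem range_le_of_mem {S : Subgroup (Cfsg.Out (Cfsg.POmega F ⇑(plusQ m F)))} (hA : gA hm ∈ S)
    (hD : gD m d ∈ S) (hF : ∀ σ, gF m F σ ∈ S) : (outMap (plusQ m F)).range ≤ S := by
  rintro _ ⟨x, rfl⟩
  have hcls : ∀ g, cls (plusQ m F) g ∈ S := fun g => by
    have hB : gB hm d ∈ S := by
      rw [← gD_conj_gA h2 hm hd]; exact mul_mem (mul_mem hD hA) (inv_mem hD)
    rcases cls_four h2 hm hd g with h | h | h | h <;> rw [h]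
    · exact one_mem _
    · exact hA
    · exact hB
    · exact mul_mem hA hB
  obtain ⟨y, hy, hx⟩ := split_field x
  rw [hx, map_mul]
  refine mul_mem ?_ (hF _)
  obtain ⟨c, hc⟩ := y.2
  rw [hy] at hc
  by_cases hsq : IsSquare (c : F)
  · obtain ⟨t, g, hg⟩ := split_square hy hc c.ne_zero hsq
    rw [outMap_scalar hm hy hg]; exact hcls g
  · set z := y * (blkS m F d)⁻¹
    have hz : z.1.right = 1 := by
      show y.1.right * (1 : F ≃+* F)⁻¹ = 1
      rw [hy, inv_one, mul_one]
    have hzc : ∀ v, plusQ m F (semi z.1 v) = ((c * d⁻¹ : Fˣ) : F) * plusQ m F v := by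
      intro v
      show plusQ m F (semi (y.1 * (blkS m F d⁻¹).1) v) = _
      rw [semi_mul, hc]
      show (c : F) * plusQ m F ((blkGL m d⁻¹ : Matrix (PI' m) (PI' m) F) *ᵥ ((1 : F ≃+* F) ∘ v)) = _
      rw [blkGL_mulVec, plusQ_coe]
      simp [Cfsg.quadFormPlus, Finset.mul_sum, mul_assoc]
    have hzsq : IsSquare ((c * d⁻¹ : Fˣ) : F) := by
      rw [Units.val_mul, Units.val_inv_eq_inv_val, ← sqSign_eq_one_iff,
        sqSign_mul c.ne_zero (inv_ne_zero d.ne_zero)]
      simp [sqSign, hsq, hd]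
    obtain ⟨t, g, hg⟩ := split_square hz hzc (Units.ne_zero _) hzsq
    have : outMap (plusQ m F) y = cls (plusQ m F) g * gD m d := by
      rw [← outMap_scalar hm hz hg, gD, ← map_mul, inv_mul_cancel_right]
    rw [this]
    exact mul_mem (hcls g) hD

end Odd

/-! ### Independence -/

theorem right_eq_one (hm : 4 ≤ m) {x : ↥(semiGroup (plusQ m F))} (h : outMap (plusQ m F) x = 1) :
    x.1.right = 1 := ((outMap_one_iff hm x).1 h).1

theorem gF_eq_of_mul_eq_one (hm : 4 ≤ m) {y : ↥(semiGroup (plusQ m F))} (hy : y.1.right = 1)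
    {σ : F ≃+* F} (h : outMap (plusQ m F) y * gF m F σ = 1) : σ = 1 := by
  rw [gF, MonoidHom.comp_apply, ← map_mul] at h
  have := right_eq_one hm h
  simpa [fieldIn, hy] using this

theorem gD_ne (hm : 4 ≤ m) {d : Fˣ} (hd : ¬ IsSquare (d : F)) (g : O (plusQ m F)) :
    cls (plusQ m F) g * gD m d ≠ 1 := by
  rw [cls, MonoidHom.comp_apply, gD, ← map_mul]
  intro h
  obtain ⟨-, c, ⟨s, hs⟩, e⟩ := (outMap_one_iff hm _).1 h
  apply hd
  refine ⟨(c : F), ?_⟩
  set v := pv (F := F) (⟨0, by omega⟩ : Fin m) 1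
  have h1 : plusQ m F (semi (oIn (plusQ m F) g * blkS m F d).1 v) = (d : F) := by
    show plusQ m F (semi ((oIn (plusQ m F) g).1 * (blkS m F d).1) v) = _
    rw [semi_mul]
    show plusQ m F (semi (SemidirectProduct.inl (g : GL (PI' m) F)) _) = _
    rw [app_semi, Q_app]
    show plusQ m F ((blkGL m d : Matrix (PI' m) (PI' m) F) *ᵥ ((1 : F ≃+* F) ∘ v)) = _
    rw [blkGL_mulVec, plusQ_coe]
    simp [Cfsg.quadFormPlus, v, Pi.single_apply]
  rw [← h1]
  show plusQ m F (((oIn (plusQ m F) g * blkS m F d).1.left : Matrix (PI' m) (PI' m) F) *ᵥ ((1 : F ≃+* F) ∘ v)) = _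
  rw [e, Units.val_mul, ← mulVec_mulVec]
  show plusQ m F (Matrix.scalar _ (c : F) *ᵥ app s v) = _
  rw [Matrix.scalar_apply, ← Matrix.smul_one_eq_diagonal, smul_mulVec, one_mulVec, QuadraticMap.map_smul, Q_app,
    Q_pair, smul_eq_mul, mul_one]

theorem det_one_of_cls (hm : 4 ≤ m) {g : O (plusQ m F)} (h : cls (plusQ m F) g = 1) :
    detHom (plusQ m F) g = 1 := by
  obtain ⟨-, c, ⟨s, hs⟩, e⟩ := (outMap_one_iff hm _).1 h
  have e' : (g : GL (PI' m) F) = GeneralLinearGroup.scalar (PI' m) c * (s : GL (PI' m) F) := e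
  have hcc := scalar_sq (by omega) e'
  show GeneralLinearGroup.det (g : GL (PI' m) F) = 1
  rw [e', map_mul, show GeneralLinearGroup.det (s : GL (PI' m) F) = 1 from
    MonoidHom.mem_ker.1 (Abelianization.commutator_subset_ker (detHom (plusQ m F)) hs), mul_one]
  apply Units.ext
  show (Matrix.scalar (PI' m) (c : F)).det = 1
  rw [Matrix.scalar_apply, det_diagonal, Finset.prod_const, Finset.card_univ,
    show Fintype.card (PI' m) = 2 * m by simp; ring, pow_mul, pow_two, hcc, one_pow]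

/-! ### Generated groups -/

/-- A homomorphism from a finite cyclic group. -/
def cycHom {G : Type*} [Group G] {n : ℕ} [NeZero n] (P : G) (h : P ^ n = 1) : Multiplicative (ZMod n) →* G where
  toFun i := P ^ (Multiplicative.toAdd i).val
  map_one' := by simp
  map_mul' i j := by
    show P ^ (Multiplicative.toAdd i + Multiplicative.toAdd j).val = _
    rw [ZMod.val_add, ← pow_add]
    conv_rhs => rw [← Nat.mod_add_div ((Multiplicative.toAdd i).val + (Multiplicative.toAdd j).val) n, pow_add,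
      pow_mul, h, one_pow, mul_one]

theorem cycHom_one {G : Type*} [Group G] {n : ℕ} [NeZero n] (P : G) (h : P ^ n = 1) :
    cycHom P h (Multiplicative.ofAdd 1) = P := by
  show P ^ (1 : ZMod n).val = P
  rw [ZMod.val_one_eq_one_mod]
  rcases eq_or_ne n 1 with hn | hn
  · subst hn
    rw [pow_one] at h
    rw [h, one_pow]
  · rw [Nat.one_mod_eq_one.2 hn, pow_one]

theorem cls_mul_gF_eq_one (hm : 4 ≤ m) {g : O (plusQ m F)} {σ : F ≃+* F}
    (h : cls (plusQ m F) g * gF m F σ = 1) : σ = 1 ∧ cls (plusQ m F) g = 1 := by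
  have hσ : σ = 1 := gF_eq_of_mul_eq_one hm (y := oIn (plusQ m F) g) rfl h
  rw [hσ, map_one, mul_one] at h
  exact ⟨hσ, h⟩

theorem det_gA (hm : 4 ≤ m) : detHom (plusQ m F) (refl (plusQ m F) (pv (lastI hm) (-1))) = -1 :=
  detHom_refl (pv_ne (neg_ne_zero.2 one_ne_zero))

theorem det_levi_diagT (i : Fin m) (d : Fˣ) : detHom (plusQ m F) (levi m F (diagT i d)) = 1 := by
  rw [levi_diagT, map_mul, detHom_refl (pv_ne (Units.ne_zero _)), detHom_refl (pv_ne one_ne_zero)]
  simp

/-- The semisimilarity classes in odd characteristic, when the torus class is not trivial. -/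
theorem range_dihedral {p f : ℕ} [Fact p.Prime] (hF : Fintype.card F = p ^ f) (hp : p ≠ 2) (hm : 4 ≤ m)
    (hc : ¬ (p ^ f % 4 = 3 ∧ Odd m)) :
    ∃ Θ : DihedralGroup 4 × Multiplicative (ZMod f) →* Cfsg.Out (Cfsg.POmega F ⇑(plusQ m F)),
      Function.Injective Θ ∧ Θ.range = (outMap (plusQ m F)).range := by
  classical
  have hpodd : Odd p := Nat.Prime.odd_of_ne_two Fact.out hp
  have hq : Odd (p ^ f) := hpodd.pow
  have h2 : (2 : F) ≠ 0 := two_ne_zero_of_odd hF hq
  have : CharP F p := charP_of_card_eq_prime_pow hF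
  have hf : f ≠ 0 := by
    rintro rfl
    have := Fintype.one_lt_card (α := F)
    rw [hF, pow_zero] at this
    omega
  have : NeZero f := ⟨hf⟩
  obtain ⟨d₀, hd₀⟩ := CfsgLib.OrthOmega.exists_not_square h2
  set d := Units.mk0 d₀ (fun h => hd₀ (by rw [h]; exact IsSquare.zero))
  have hd : ¬ IsSquare (d : F) := hd₀
  set i0 := lastI hm
  set A := gA (F := F) hm
  set D := gD m d
  set T := gT i0 d
  have hneg : IsSquare ((-1 : F) ^ m) := by
    rw [sq_neg_one_pow_iff hF hq]
    rcases Nat.even_or_odd m with ⟨k, rfl⟩ | hmo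
    · rw [← two_mul, pow_mul, Nat.pow_mod]
      have h4 : (p ^ f) ^ 2 % 4 = 1 := by
        rw [Nat.pow_mod]
        have hq1 := Nat.odd_iff.1 hq
        have : p ^ f % 4 = 1 ∨ p ^ f % 4 = 3 := by omega
        rcases this with h | h <;> rw [h]
      simp [h4]
    · have hq1 := Nat.odd_iff.1 hq
      have h1 : p ^ f % 4 = 1 := by
        by_contra hne
        exact hc ⟨by omega, hmo⟩
      simp [Nat.pow_mod, h1]
  have hT : T ≠ 1 := by
    intro h
    rcases (gT_eq_one_iff hm i0 d).1 h with e | e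
    · exact hd e
    · have := e.div hneg
      rw [mul_div_cancel_left₀ _ (pow_ne_zero _ (neg_ne_zero.2 (one_ne_zero (α := F))))] at this
      exact hd this
  have hTT : T * T = 1 := gT_sq h2 hm hd i0
  have hAA : A * A = 1 := gA_sq hm
  have hADA : A * D * A = T * D := gA_gD_gA h2 hm hd i0
  have hTD : Commute T D := gT_comm_gD h2 hm hd i0
  -- the rotation
  obtain ⟨ρ, hρ2, hρc, hρD⟩ : ∃ ρ, ρ ^ 2 = T ∧ A * ρ * A = ρ⁻¹ ∧
      (ρ = D ∨ ρ = D * A) := by
    have hsq := gD_mul_self hm hd i0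
    rcases Nat.even_or_odd m with he | ho
    · rw [if_pos he] at hsq
      refine ⟨D * A, ?_, ?_, Or.inr rfl⟩
      · rw [pow_two, mul_assoc, show A * (D * A) = T * D by rw [← mul_assoc, hADA], ← mul_assoc, ← hTD.eq,
          mul_assoc, hsq, mul_one]
      · have hDinv : D⁻¹ = D := inv_eq_of_mul_eq_one_right hsq
        have hAinv : A⁻¹ = A := inv_eq_of_mul_eq_one_right hAA
        rw [_root_.mul_inv_rev, hDinv, hAinv, mul_assoc, mul_assoc, hAA, mul_one]
    · rw [if_neg (Nat.not_even_iff_odd.2 ho)] at hsq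
      refine ⟨D, by rw [pow_two, hsq], ?_, Or.inl rfl⟩
      rw [hADA, eq_inv_iff_mul_eq_one, mul_assoc, hsq, hTT]
  have h4 : ρ ^ 4 = 1 := by rw [show (4 : ℕ) = 2 * 2 from rfl, pow_mul, hρ2, pow_two, hTT]
  let θ := DihExt57.dihHom ρ A h4 hAA hρc
  have hθinj : Function.Injective θ := DihExt57.dihHom_injective h4 hAA hρc (by rw [hρ2]; exact hT)
  -- the field automorphism, adjusted to commute with the dihedral part
  set φ := frobeniusEquiv F p
  set Φ := gF m F φ
  have hφf : φ ^ f = 1 := RingEquiv.ext fun z => by rw [frobP_apply, ← hF, FiniteField.pow_card]; rfl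
  have hΦf : Φ ^ f = 1 := by rw [← map_pow, hφf, map_one]
  have hΦA : Commute Φ A := gF_comm_gA hm φ
  have hΦT : Commute Φ T := gF_comm_gT h2 hm hd i0 φ
  obtain ⟨v, hv, hΦD⟩ : ∃ v, (v = 1 ∨ v = T) ∧ Φ * D * Φ⁻¹ = v * D := by
    obtain ⟨e, he⟩ : IsSquare (φ (d : F) / d) := by
      rw [div_eq_mul_inv, ← sqSign_eq_one_iff, sqSign_mul ((map_ne_zero _).2 d.ne_zero)
        (inv_ne_zero d.ne_zero)]
      simp [sqSign, hd, isSquare_map_iff]
    have he0 : e ≠ 0 := fun h => by
      rw [h, mul_zero, div_eq_zero_iff] at he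
      rcases he with he | he
      · exact (map_ne_zero φ).2 d.ne_zero he
      · exact d.ne_zero he
    have hσd : Units.map φ.toMonoidHom d = Units.mk0 e he0 * Units.mk0 e he0 * d := Units.ext (by
      show φ (d : F) = e * e * d
      rw [← he, div_mul_cancel₀ _ d.ne_zero])
    refine ⟨gD m (Units.mk0 e he0 * Units.mk0 e he0), ?_, ?_⟩
    · rw [gD_sq_eq hm i0 hd]
      split_ifs with h
      · exact Or.inl rfl
      · exact Or.inr rfl
    · rw [gF_conj_gD, hσd, gD, map_mul, map_mul]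
      rfl
  obtain ⟨P, hPA, hPD, hPf, hPΦ, hPx⟩ : ∃ P, Commute P A ∧ Commute P D ∧ P ^ f = 1 ∧
      (P = Φ ∨ P = Φ * A) ∧ ∃ g, P = cls (plusQ m F) g * Φ := by
    rcases hv with rfl | rfl
    · exact ⟨Φ, hΦA, mul_inv_eq_iff_eq_mul.1 (by rw [hΦD, one_mul]), hΦf, Or.inl rfl, 1, by rw [map_one, one_mul]⟩
    · have hpow : ∀ n : ℕ, Φ ^ n * D * (Φ ^ n)⁻¹ = T ^ n * D := by
        intro n
        induction n with
        | zero => simp
        | succ n ih =>
          calc Φ ^ (n + 1) * D * (Φ ^ (n + 1))⁻¹ = Φ * (Φ ^ n * D * (Φ ^ n)⁻¹) * Φ⁻¹ := by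
                rw [pow_succ' Φ n]; group
            _ = Φ * (T ^ n * D) * Φ⁻¹ := by rw [ih]
            _ = T ^ n * (Φ * D * Φ⁻¹) := by
                rw [← mul_assoc Φ, (hΦT.pow_right n).eq]; simp only [mul_assoc]
            _ = T ^ (n + 1) * D := by rw [hΦD, pow_succ, mul_assoc]
      have hTf : T ^ f = 1 := by
        have := hpow f
        rw [hΦf, one_mul, inv_one, mul_one] at this
        exact (mul_eq_right.1 this.symm)
      have hfe : Even f := by
        rcases Nat.even_or_odd f with he | ⟨k, hk⟩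
        · exact he
        · exfalso
          apply hT
          rwa [hk, pow_succ, pow_mul, pow_two, hTT, one_pow, one_mul] at hTf
      refine ⟨Φ * A, hΦA.mul_left (Commute.refl A), ?_, ?_, Or.inr rfl,
        refl (plusQ m F) (pv (lastI hm) (-1)), hΦA.eq⟩
      · apply mul_inv_eq_iff_eq_mul.1
        have hAinv : A⁻¹ = A := inv_eq_of_mul_eq_one_right hAA
        rw [_root_.mul_inv_rev, hAinv]
        calc Φ * A * D * (A * Φ⁻¹) = Φ * (A * D * A) * Φ⁻¹ := by simp only [mul_assoc]
          _ = Φ * (T * D) * Φ⁻¹ := by rw [hADA]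
          _ = T * (Φ * D * Φ⁻¹) := by rw [← mul_assoc Φ, hΦT.eq]; simp only [mul_assoc]
          _ = D := by rw [hΦD, ← mul_assoc, hTT, one_mul]
      · obtain ⟨k, rfl⟩ := hfe
        rw [hΦA.mul_pow, hΦf, one_mul, ← two_mul, pow_mul, pow_two, hAA, one_pow]
  have hPρ : Commute P ρ := by
    rcases hρD with e | e <;> rw [e]
    · exact hPD
    · exact hPD.mul_right hPA
  have hcomm : ∀ x c, Commute (θ x) (cycHom P hPf c) := by
    intro x c
    refine Commute.pow_right ?_ _
    rcases x with i | i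
    · exact (hPρ.pow_right _).symm
    · exact (hPA.mul_right (hPρ.pow_right _)).symm
  let Θ := MonoidHom.noncommCoprod θ (cycHom P hPf) hcomm
  have hΘ : ∀ x c, Θ (x, c) = θ x * P ^ (Multiplicative.toAdd c).val := fun x c => rfl
  -- images of the dihedral group
  obtain ⟨gg, hgg⟩ := hPx
  have hφn : ∀ n, φ ^ n = 1 → f ∣ n := fun n hn => frobP_dvd hF hf hn
  have hθim : ∀ x, ∃ y : ↥(semiGroup (plusQ m F)), y.1.right = 1 ∧ outMap (plusQ m F) y = θ x := by
    let R : Subgroup (Cfsg.Out (Cfsg.POmega F ⇑(plusQ m F))) :=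
      ((SemidirectProduct.rightHom.comp (semiGroup (plusQ m F)).subtype).ker).map (outMap (plusQ m F))
    have hA' : A ∈ R := ⟨oIn _ _, rfl, rfl⟩
    have hD' : D ∈ R := ⟨blkS m F d, rfl, rfl⟩
    have hρR : ρ ∈ R := by
      rcases hρD with e | e <;> rw [e]
      · exact hD'
      · exact mul_mem hD' hA'
    intro x
    have : θ x ∈ R := by
      rcases x with i | i
      · exact pow_mem hρR _
      · exact mul_mem hA' (pow_mem hρR _)
    obtain ⟨y, hy, e⟩ := this
    exact ⟨y, hy, e⟩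
  refine ⟨Θ, (injective_iff_map_eq_one Θ).2 ?_, ?_⟩
  · rintro ⟨x, c⟩ h
    rw [hΘ] at h
    obtain ⟨y, hy, hye⟩ := hθim x
    set n := (Multiplicative.toAdd c).val
    have hPim : P = outMap (plusQ m F) (oIn (plusQ m F) gg * fieldIn (Q := plusQ m F) plusQ_prime φ) := by
      rw [map_mul]; exact hgg
    rw [← hye, hPim, ← map_pow, ← map_mul] at h
    have hr := right_eq_one hm h
    have hr' : (y.1 * ((oIn (plusQ m F) gg * fieldIn (Q := plusQ m F) plusQ_prime φ) ^ n).1).right = φ ^ n := by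
      rw [SemidirectProduct.mul_right, hy, one_mul, SubmonoidClass.coe_pow,
        ← SemidirectProduct.rightHom_eq_right, map_pow]
      simp [oIn, fieldIn]
    rw [Subgroup.coe_mul, hr'] at hr
    have hn : n = 0 := Nat.eq_zero_of_dvd_of_lt (hφn n hr) (ZMod.val_lt _)
    rw [hn, pow_zero, mul_one, hye] at h
    refine Prod.ext (hθinj (h.trans (map_one θ).symm)) ?_
    show c = 1
    exact Multiplicative.toAdd.injective ((ZMod.val_eq_zero _).1 hn)
  · refine le_antisymm ?_ ?_
    · rintro _ ⟨⟨x, c⟩, rfl⟩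
      rw [hΘ]
      obtain ⟨y, -, hye⟩ := hθim x
      refine mul_mem ⟨y, hye⟩ (pow_mem ?_ _)
      rw [hgg]
      exact mul_mem ⟨_, rfl⟩ ⟨_, rfl⟩
    · have hAm : A ∈ Θ.range := ⟨(DihedralGroup.sr 0, 1), by
        rw [hΘ]
        show A * ρ ^ (0 : ZMod 4).val * P ^ (0 : ZMod f).val = A
        simp⟩
      have hρm : ρ ∈ Θ.range := ⟨(DihedralGroup.r 1, 1), by
        rw [hΘ]
        show ρ ^ (1 : ZMod 4).val * P ^ (0 : ZMod f).val = ρ
        rw [show (1 : ZMod 4).val = 1 from rfl]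
        simp⟩
      have hDm : D ∈ Θ.range := by
        rcases hρD with e | e
        · rw [← e]; exact hρm
        · have := mul_mem hρm hAm
          rwa [e, mul_assoc, hAA, mul_one] at this
      have hPm : P ∈ Θ.range := ⟨(1, Multiplicative.ofAdd 1), by
        show θ 1 * cycHom P hPf _ = P
        rw [map_one, one_mul, cycHom_one]⟩
      have hΦm : Φ ∈ Θ.range := by
        rcases hPΦ with e | e
        · rw [← e]; exact hPm
        · have := mul_mem hPm hAm
          rwa [e, mul_assoc, hAA, mul_one] at this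
      refine range_le_of_mem h2 hm hd hAm hDm fun σ => ?_
      obtain ⟨i, rfl⟩ := frobP_surjective hF σ
      rw [map_pow]
      exact pow_mem hΦm i

/-- The semisimilarity classes in odd characteristic, when the torus class is trivial. -/
theorem range_abelian {p f : ℕ} [Fact p.Prime] (hF : Fintype.card F = p ^ f) (hp : p ≠ 2) (hm : 4 ≤ m)
    (hc : p ^ f % 4 = 3 ∧ Odd m) :
    ∃ Θ : Multiplicative (ZMod 2 × ZMod 2 × ZMod f) →* Cfsg.Out (Cfsg.POmega F ⇑(plusQ m F)),
      Function.Injective Θ ∧ Θ.range = (outMap (plusQ m F)).range := by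
  classical
  have hpodd : Odd p := Nat.Prime.odd_of_ne_two Fact.out hp
  have hq : Odd (p ^ f) := hpodd.pow
  have h2 : (2 : F) ≠ 0 := two_ne_zero_of_odd hF hq
  have : CharP F p := charP_of_card_eq_prime_pow hF
  have hf : f ≠ 0 := by
    rintro rfl
    have := Fintype.one_lt_card (α := F)
    rw [hF, pow_zero] at this
    omega
  have : NeZero f := ⟨hf⟩
  obtain ⟨d₀, hd₀⟩ := CfsgLib.OrthOmega.exists_not_square h2
  set d := Units.mk0 d₀ (fun h => hd₀ (by rw [h]; exact IsSquare.zero))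
  have hd : ¬ IsSquare (d : F) := hd₀
  set i0 := lastI hm
  set A := gA (F := F) hm
  set D := gD m d
  have hT : gT i0 d = 1 := by
    refine (gT_eq_one_iff hm i0 d).2 (Or.inr ?_)
    have hn : ¬ IsSquare ((-1 : F) ^ m) := by
      rw [sq_neg_one_pow_iff hF hq]
      obtain ⟨⟨k, hk⟩, h3⟩ := And.intro hc.2 hc.1
      have h4 : (p ^ f) ^ 2 % 4 = 1 := by rw [Nat.pow_mod, h3]
      rw [hk, pow_succ, pow_mul, Nat.mul_mod, Nat.pow_mod, h4, one_pow, h3]
      decide
    rw [← sqSign_eq_one_iff, sqSign_mul (pow_ne_zero _ (neg_ne_zero.2 one_ne_zero)) d.ne_zero]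
    simp [sqSign, hn, hd]
  have hAA : A * A = 1 := gA_sq hm
  have hDD : D * D = 1 := by
    rw [gD_mul_self hm hd i0, if_neg (Nat.not_even_iff_odd.2 hc.2), hT]
  have hAD : Commute A D := by
    have h := gA_gD_gA h2 hm hd i0
    rw [hT, one_mul] at h
    show A * D = D * A
    calc A * D = A * D * A * A := by rw [mul_assoc _ A A, hAA, mul_one]
      _ = D * A := by rw [h]
  set φ := frobeniusEquiv F p
  set Φ := gF m F φ
  have hφf : φ ^ f = 1 := RingEquiv.ext fun z => by rw [frobP_apply, ← hF, FiniteField.pow_card]; rfl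
  have hΦf : Φ ^ f = 1 := by rw [← map_pow, hφf, map_one]
  have hΦA : Commute Φ A := gF_comm_gA hm φ
  have hΦD : Commute Φ D := by
    obtain ⟨e, he⟩ : IsSquare (φ (d : F) / d) := by
      rw [div_eq_mul_inv, ← sqSign_eq_one_iff, sqSign_mul ((map_ne_zero _).2 d.ne_zero)
        (inv_ne_zero d.ne_zero)]
      simp [sqSign, hd, isSquare_map_iff]
    have he0 : e ≠ 0 := fun h => by
      rw [h, mul_zero, div_eq_zero_iff] at he
      rcases he with he | he
      · exact (map_ne_zero φ).2 d.ne_zero he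
      · exact d.ne_zero he
    have hσd : Units.map φ.toMonoidHom d = Units.mk0 e he0 * Units.mk0 e he0 * d := Units.ext (by
      show φ (d : F) = e * e * d
      rw [← he, div_mul_cancel₀ _ d.ne_zero])
    apply mul_inv_eq_iff_eq_mul.1
    rw [gF_conj_gD, hσd, gD, map_mul, map_mul, ← gD, gD_sq_eq hm i0 hd, hT, ite_self, one_mul]
    rfl
  let hA2 : A ^ 2 = 1 := by rw [pow_two, hAA]
  let hD2 : D ^ 2 = 1 := by rw [pow_two, hDD]
  let θ : Multiplicative (ZMod 2) × Multiplicative (ZMod 2) →* _ :=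
    MonoidHom.noncommCoprod (cycHom A hA2) (cycHom D hD2) fun a b => (hAD.pow_pow _ _)
  let Θ' : (Multiplicative (ZMod 2) × Multiplicative (ZMod 2)) × Multiplicative (ZMod f) →* _ :=
    MonoidHom.noncommCoprod θ (cycHom Φ hΦf) fun a b =>
      ((hΦA.symm.pow_pow _ _).mul_left (hΦD.symm.pow_pow _ _))
  let e : Multiplicative (ZMod 2 × ZMod 2 × ZMod f) ≃*
      (Multiplicative (ZMod 2) × Multiplicative (ZMod 2)) × Multiplicative (ZMod f) :=
    ((MulEquiv.prodMultiplicative _ _).trans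
      (MulEquiv.prodCongr (MulEquiv.refl _) (MulEquiv.prodMultiplicative _ _))).trans MulEquiv.prodAssoc.symm
  have hΘ' : ∀ a b c, Θ' ((a, b), c) = A ^ (Multiplicative.toAdd a).val * D ^ (Multiplicative.toAdd b).val *
      Φ ^ (Multiplicative.toAdd c).val := fun a b c => rfl
  refine ⟨Θ'.comp e.toMonoidHom, ?_, ?_⟩
  · show Function.Injective (⇑Θ' ∘ ⇑e)
    refine Function.Injective.comp ?_ e.injective
    refine (injective_iff_map_eq_one Θ').2 ?_
    rintro ⟨⟨a, b⟩, c⟩ h
    rw [hΘ'] at h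
    set i := (Multiplicative.toAdd a).val with hi
    set j := (Multiplicative.toAdd b).val with hj
    set n := (Multiplicative.toAdd c).val with hn
    set y := oIn (plusQ m F) (refl (plusQ m F) (pv (lastI hm) (-1))) ^ i * blkS m F d ^ j
    have hy : y.1.right = 1 := by
      show (SemidirectProduct.rightHom.comp (semiGroup (plusQ m F)).subtype) y = 1
      rw [map_mul, map_pow, map_pow]
      simp [oIn, blkS]
    have hyA : outMap (plusQ m F) y = A ^ i * D ^ j := by rw [map_mul, map_pow, map_pow]; rfl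
    rw [← hyA, ← map_pow] at h
    have hσ : φ ^ n = 1 := gF_eq_of_mul_eq_one hm hy h
    have hn0 : n = 0 := Nat.eq_zero_of_dvd_of_lt (frobP_dvd hF hf hσ) (ZMod.val_lt _)
    rw [hn0, pow_zero, map_one, mul_one, hyA] at h
    have hi2 : i < 2 := ZMod.val_lt _
    have hj2 : j < 2 := ZMod.val_lt _
    have hj0 : j = 0 := by
      by_contra hne
      rw [show j = 1 by omega, pow_one] at h
      exact gD_ne hm hd (refl (plusQ m F) (pv (lastI hm) (-1)) ^ i) (by rw [map_pow]; exact h)
    rw [hj0, pow_zero, mul_one] at h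
    have hi0 : i = 0 := by
      by_contra hne
      rw [show i = 1 by omega, pow_one] at h
      have := det_one_of_cls hm h
      rw [det_gA hm] at this
      exact h2 (by
        have h' := congrArg Units.val this
        rw [Units.val_neg, Units.val_one] at h'
        linear_combination -h')
    refine Prod.ext (Prod.ext ?_ ?_) ?_ <;> apply Multiplicative.toAdd.injective
    · exact (ZMod.val_eq_zero _).1 hi0
    · exact (ZMod.val_eq_zero _).1 hj0
    · exact (ZMod.val_eq_zero _).1 hn0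
  · rw [MonoidHom.range_comp, MonoidHom.range_eq_top.2 (show Function.Surjective e.toMonoidHom from e.surjective),
      ← MonoidHom.range_eq_map]
    refine le_antisymm ?_ ?_
    · rintro _ ⟨⟨⟨a, b⟩, c⟩, rfl⟩
      rw [hΘ']
      exact mul_mem (mul_mem (pow_mem (show A ∈ (outMap (plusQ m F)).range from ⟨_, rfl⟩) _)
        (pow_mem (show D ∈ (outMap (plusQ m F)).range from ⟨_, rfl⟩) _)) (pow_mem (show Φ ∈ (outMap (plusQ m F)).range from ⟨_, rfl⟩) _)
    · have h1 : (1 : ZMod 2).val = 1 := rfl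
      refine range_le_of_mem h2 hm hd ⟨((Multiplicative.ofAdd 1, 1), 1), ?_⟩
        ⟨((1, Multiplicative.ofAdd 1), 1), ?_⟩ fun σ => ?_
      · rw [hΘ']; simp [h1, A]
      · rw [hΘ']; simp [h1, D]
      · obtain ⟨i, rfl⟩ := frobP_surjective hF σ
        rw [map_pow]
        refine pow_mem ?_ i
        exact ⟨(1, Multiplicative.ofAdd (1 : ZMod f)), by
          show θ 1 * cycHom Φ hΦf _ = _
          rw [map_one, one_mul, cycHom_one]⟩

/-- The semisimilarity classes in characteristic two. -/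
theorem range_two {f : ℕ} (hF : Fintype.card F = 2 ^ f) (hm : 4 ≤ m) :
    ∃ Θ : Multiplicative (ZMod 2 × ZMod f) →* Cfsg.Out (Cfsg.POmega F ⇑(plusQ m F)),
      Function.Injective Θ ∧ Θ.range = (outMap (plusQ m F)).range := by
  classical
  have : CharP F 2 := charP_of_card_eq_prime_pow hF
  have : Fact (Nat.Prime 2) := ⟨Nat.prime_two⟩
  have hf : f ≠ 0 := by
    rintro rfl
    have := Fintype.one_lt_card (α := F)
    rw [hF, pow_zero] at this
    omega
  have : NeZero f := ⟨hf⟩
  have hQ := plusQ_nondegenerate (F := F) m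
  have hgen := reflClosure_plus (F := F) (m := m) (Or.inr (by omega))
  set A := gA (F := F) hm
  set φ := frobeniusEquiv F 2
  set Φ := gF m F φ
  have hφf : φ ^ f = 1 := RingEquiv.ext fun z => by rw [frobP_apply, ← hF, FiniteField.pow_card]; rfl
  have hΦf : Φ ^ f = 1 := by rw [← map_pow, hφf, map_one]
  have hΦA : Commute Φ A := gF_comm_gA hm φ
  have hA2 : A ^ 2 = 1 := by rw [pow_two]; exact gA_sq hm
  let Θ' : Multiplicative (ZMod 2) × Multiplicative (ZMod f) →* _ :=
    MonoidHom.noncommCoprod (cycHom A hA2) (cycHom Φ hΦf) fun a b => hΦA.symm.pow_pow _ _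
  set rA := refl (plusQ m F) (pv (lastI hm) (-1))
  have hrA : dicksonHom hQ hgen rA = -1 := dicksonHom_refl hQ hgen (pv_ne (neg_ne_zero.2 one_ne_zero))
  refine ⟨Θ'.comp (MulEquiv.prodMultiplicative _ _).toMonoidHom, ?_, ?_⟩
  · show Function.Injective (⇑Θ' ∘ ⇑(MulEquiv.prodMultiplicative (ZMod 2) (ZMod f)))
    refine Function.Injective.comp ?_ (MulEquiv.injective _)
    refine (injective_iff_map_eq_one Θ').2 ?_
    rintro ⟨a, c⟩ h
    set i := (Multiplicative.toAdd a).val
    set n := (Multiplicative.toAdd c).val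
    have h' : cls (plusQ m F) (rA ^ i) * gF m F (φ ^ n) = 1 := by
      rw [map_pow, map_pow]; exact h
    obtain ⟨hσ, hc1⟩ := cls_mul_gF_eq_one hm h'
    have hn0 : n = 0 := Nat.eq_zero_of_dvd_of_lt (frobP_dvd hF hf hσ) (ZMod.val_lt _)
    have hi2 : i < 2 := ZMod.val_lt _
    have hi0 : i = 0 := by
      by_contra hne
      rw [show i = 1 by omega, pow_one] at hc1
      obtain ⟨-, u, ⟨s, hs⟩, e⟩ := (outMap_one_iff hm _).1 hc1
      have e' : (rA : GL (PI' m) F) = GeneralLinearGroup.scalar (PI' m) u * (s : GL (PI' m) F) := e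
      have huu := scalar_sq (by omega) e'
      have hu : u = 1 := by
        refine Units.ext ?_
        rcases mul_self_eq_one_iff.1 huu with h4 | h4
        · exact h4
        · rw [h4, CharTwo.neg_eq]; rfl
      have hrs : rA = s := Subtype.ext (by rw [e', hu, map_one, one_mul])
      rw [CfsgLib.OrthOmega.mem_omega_two hQ hgen, ← hrs, hrA] at hs
      exact absurd hs (by decide)
    refine Prod.ext ?_ ?_ <;> apply Multiplicative.toAdd.injective
    · exact (ZMod.val_eq_zero _).1 hi0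
    · exact (ZMod.val_eq_zero _).1 hn0
  · rw [MonoidHom.range_comp, MonoidHom.range_eq_top.2 (show Function.Surjective
        (MulEquiv.prodMultiplicative (ZMod 2) (ZMod f)).toMonoidHom from MulEquiv.surjective _), ← MonoidHom.range_eq_map]
    refine le_antisymm ?_ ?_
    · rintro _ ⟨⟨a, c⟩, rfl⟩
      exact mul_mem (pow_mem (show A ∈ (outMap (plusQ m F)).range from ⟨_, rfl⟩) _) (pow_mem (show Φ ∈ (outMap (plusQ m F)).range from ⟨_, rfl⟩) _)
    · rintro _ ⟨x, rfl⟩
      obtain ⟨y, hy, hx⟩ := split_field x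
      have hAm : A ∈ Θ'.range := ⟨(Multiplicative.ofAdd (1 : ZMod 2), 1), by
        show cycHom A hA2 (Multiplicative.ofAdd (1 : ZMod 2)) * cycHom Φ hΦf 1 = A
        rw [map_one (cycHom Φ hΦf), mul_one, cycHom_one]⟩
      have hFm : ∀ σ, gF m F σ ∈ Θ'.range := fun σ => by
        obtain ⟨i, rfl⟩ := frobP_surjective hF σ
        rw [map_pow]
        refine pow_mem (show Φ ∈ Θ'.range from ⟨(1, Multiplicative.ofAdd (1 : ZMod f)), ?_⟩) i
        show cycHom A hA2 1 * cycHom Φ hΦf _ = _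
        rw [map_one, one_mul, cycHom_one]
      rw [hx, map_mul]
      refine mul_mem ?_ (hFm _)
      obtain ⟨u, g, hg⟩ := exists_scalar_isometry hy
      rw [outMap_scalar hm hy hg]
      rcases Int.units_eq_one_or (dicksonHom hQ hgen g) with e | e
      · rw [cls_omega hm ((CfsgLib.OrthOmega.mem_omega_two hQ hgen g).2 e)]; exact one_mem _
      · have : cls (plusQ m F) (rA⁻¹ * g) = 1 := cls_omega hm
          ((CfsgLib.OrthOmega.mem_omega_two hQ hgen _).2 (by rw [map_mul, map_inv, hrA, e]; decide))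
        rw [map_mul, map_inv, inv_mul_eq_one] at this
        rw [← this]; exact hAm

end Cfsg.Agent.OutPlus57
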