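import Cfsg.Statements.S0752
import Cfsg.Agent.Lib.Sp.Witt

set_option autoImplicit false
open Cfsg

namespace Cfsg.Agent.S0752

/-- Induction on the dimension: split off a hyperbolic pair. -/
theorem symp_decomp {F : Type*} [Field F] (n : ℕ) : ∀ {V : Type*} [AddCommGroup V] [Module F V]
    [FiniteDimensional F V] (B : LinearMap.BilinForm F V), B.IsAlt → Module.finrank F V = n →
    ∃ (m k : ℕ) (b : Module.Basis ((Fin m ⊕ Fin m) ⊕ Fin k) F V),
      (∀ i j : Fin m, B (b (Sum.inl (Sum.inl i))) (b (Sum.inl (Sum.inr j))) = if i = j then 1 else 0) ∧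
      (∀ i j : Fin m, B (b (Sum.inl (Sum.inl i))) (b (Sum.inl (Sum.inl j))) = 0) ∧
      (∀ i j : Fin m, B (b (Sum.inl (Sum.inr i))) (b (Sum.inl (Sum.inr j))) = 0) ∧
      (∀ (j : Fin k) (v : V), B (b (Sum.inr j)) v = 0) := by
  induction n using Nat.strong_induction_on with
  | _ n ih =>
  intro V _ _ _ B hA hn
  by_cases hB : B = 0
  · exact ⟨0, Module.finrank F V,
      (Module.finBasis F V).reindex (Equiv.emptySum (Fin 0 ⊕ Fin 0) (Fin (Module.finrank F V))).symm,
      fun i => i.elim0, fun i => i.elim0, fun i => i.elim0, fun j v => by simp [hB]⟩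
  obtain ⟨u, hu⟩ : ∃ u, B u ≠ 0 := by
    by_contra h; push Not at h; exact hB (LinearMap.ext h)
  obtain ⟨v₀, hv₀⟩ : ∃ v, B u v ≠ 0 := by
    by_contra h; push Not at h; exact hu (LinearMap.ext h)
  obtain ⟨v, huv⟩ : ∃ v, B u v = 1 := ⟨(B u v₀)⁻¹ • v₀, by simp [hv₀]⟩
  have hvu : B v u = -1 := by rw [CfsgLib.Sp.alt_flip hA u v, huv]
  let W : Submodule F V := LinearMap.ker (B u) ⊓ LinearMap.ker (B v)
  have hpW : ∀ x, x - B x v • u - B u x • v ∈ W := fun x => by
    simp [W, hA.self_eq_zero u, hA.self_eq_zero v, huv, hvu, CfsgLib.Sp.alt_flip hA x v]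
  let e : V ≃ₗ[F] (F × F) × W :=
    { toFun := fun x => ((B x v, B u x), ⟨_, hpW x⟩)
      map_add' := fun x y => by ext <;> simp [add_smul]; abel
      map_smul' := fun a x => by ext <;> simp [smul_sub, smul_smul]
      invFun := fun p => p.1.1 • u + p.1.2 • v + (p.2 : V)
      left_inv := fun x => by simp
      right_inv := fun p => by
        obtain ⟨⟨a, c⟩, w, hw⟩ := p
        obtain ⟨hw1, hw2⟩ := Submodule.mem_inf.mp hw
        rw [LinearMap.mem_ker] at hw1 hw2
        ext <;> simp [hA.self_eq_zero u, hA.self_eq_zero v, huv, hw1, CfsgLib.Sp.alt_flip hA v w, hw2]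
        abel }
  have hdim : n = 2 + Module.finrank F W := by
    rw [← hn, e.finrank_eq, Module.finrank_prod, Module.finrank_prod, Module.finrank_self]
  obtain ⟨m, k, bW, h1, h2, h3, h4⟩ :=
    ih (Module.finrank F W) (by omega) (B.restrict W) (fun x => hA.self_eq_zero (x : V)) rfl
  let f : (Fin (m + 1) ⊕ Fin (m + 1)) ⊕ Fin k → V :=
    Sum.elim (Sum.elim (Fin.cons u fun i => (bW (.inl (.inl i)) : V))
      (Fin.cons v fun i => (bW (.inl (.inr i)) : V))) (fun j => (bW (.inr j) : V))
  have hW : W ≤ Submodule.span F (Set.range f) := by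
    intro x hx
    have h : (⟨x, hx⟩ : W) ∈ Submodule.span F (Set.range bW) := bW.mem_span _
    have h' := Submodule.mem_map_of_mem (f := W.subtype) h
    rw [Submodule.map_span, ← Set.range_comp] at h'
    refine Submodule.span_mono ?_ h'
    rintro _ ⟨(⟨i⟩ | ⟨i⟩) | i, rfl⟩
    · exact ⟨.inl (.inl i.succ), by simp [f]⟩
    · exact ⟨.inl (.inr i.succ), by simp [f]⟩
    · exact ⟨.inr i, by simp [f]⟩
  have hspan : ⊤ ≤ Submodule.span F (Set.range f) := fun x _ => by
    have hu' : u ∈ Submodule.span F (Set.range f) := Submodule.subset_span ⟨.inl (.inl 0), by simp [f]⟩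
    have hv' : v ∈ Submodule.span F (Set.range f) := Submodule.subset_span ⟨.inl (.inr 0), by simp [f]⟩
    have hx := hW (hpW x)
    have := add_mem (add_mem hx (Submodule.smul_mem _ (B x v) hu')) (Submodule.smul_mem _ (B u x) hv')
    convert this using 1
    abel
  have hcard : Fintype.card ((Fin (m + 1) ⊕ Fin (m + 1)) ⊕ Fin k) = Module.finrank F V := by
    rw [hn, hdim, Module.finrank_eq_card_basis bW]
    simp
    omega
  let b := basisOfTopLeSpanOfCardEqFinrank f hspan hcard
  have hb : ⇑b = f := coe_basisOfTopLeSpanOfCardEqFinrank f hspan hcard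
  have hWu : ∀ w : W, B u (w : V) = 0 := fun w => (Submodule.mem_inf.mp w.2).1
  have hWv : ∀ w : W, B v (w : V) = 0 := fun w => (Submodule.mem_inf.mp w.2).2
  have hWu' : ∀ w : W, B (w : V) u = 0 := fun w => by rw [CfsgLib.Sp.alt_flip hA u w, hWu w, neg_zero]
  have hWv' : ∀ w : W, B (w : V) v = 0 := fun w => by rw [CfsgLib.Sp.alt_flip hA v w, hWv w, neg_zero]
  have g1 : ∀ i j, B (bW (.inl (.inl i)) : V) (bW (.inl (.inr j)) : V) = if i = j then 1 else 0 := h1
  have g2 : ∀ i j, B (bW (.inl (.inl i)) : V) (bW (.inl (.inl j)) : V) = 0 := h2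
  have g3 : ∀ i j, B (bW (.inl (.inr i)) : V) (bW (.inl (.inr j)) : V) = 0 := h3
  refine ⟨m + 1, k, b, fun i j => ?_, fun i j => ?_, fun i j => ?_, fun j x => ?_⟩
  · rw [hb]
    induction i using Fin.cases <;> induction j using Fin.cases <;>
      simp [f, huv, hWu, hWv', g1, eq_comm (a := (0 : Fin (m + 1)))]
  · rw [hb]
    induction i using Fin.cases <;> induction j using Fin.cases <;>
      simp [f, hA.self_eq_zero u, hWu, hWu', g2]
  · rw [hb]
    induction i using Fin.cases <;> induction j using Fin.cases <;>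
      simp [f, hA.self_eq_zero v, hWv, hWv', g3]
  · rw [hb, show x = B x v • u + B u x • v + (x - B x v • u - B u x • v) by abel]
    have h5 : B (bW (.inr j) : V) (x - B x v • u - B u x • v) = 0 := h4 j ⟨_, hpW x⟩
    simp only [f, Sum.elim_inr, map_add, map_smul, hWu', hWv', h5, smul_zero, add_zero]

/-- Classification of alternating forms: for an alternating bilinear form B on a finite-dimensional space over any field there is a basis indexed by (Fin m ⊕ Fin m) ⊕ Fin k such that B (e_i, f_j) = δ_ij, the e's are pairwise orthogonal, the f's are pairwise orthogonal, and the last k basis vectors are orthogonal to everything (they span the radical). -/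
theorem result {F V : Type*} [Field F] [AddCommGroup V] [Module F V] [FiniteDimensional F V] (B : LinearMap.BilinForm F V) (hA : B.IsAlt) : ∃ (m k : ℕ) (b : Module.Basis ((Fin m ⊕ Fin m) ⊕ Fin k) F V), (∀ i j : Fin m, B (b (Sum.inl (Sum.inl i))) (b (Sum.inl (Sum.inr j))) = if i = j then 1 else 0) ∧ (∀ i j : Fin m, B (b (Sum.inl (Sum.inl i))) (b (Sum.inl (Sum.inl j))) = 0) ∧ (∀ i j : Fin m, B (b (Sum.inl (Sum.inr i))) (b (Sum.inl (Sum.inr j))) = 0) ∧ (∀ (j : Fin k) (v : V), B (b (Sum.inr j)) v = 0) := by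
  exact symp_decomp (Module.finrank F V) B hA rfl

end Cfsg.Agent.S0752
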