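import Cfsg.Agent.Helper57Triality
import Cfsg.Agent.Helper57OutPlus
import Cfsg.Agent.Lib.Orth.Lagrangian

/-!
Every automorphism of `PΩ⁺₈` is a semisimilarity automorphism times a power of triality.

For an automorphism the six lines through a frame point go to six lines that are concurrent or lie in one
totally singular solid. The sixes and their images under triality form triangles in each of which exactly
one member is of the concurrent kind; hence one of three translates sends all points to points.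
-/

set_option autoImplicit false
set_option linter.unusedSectionVars false

namespace Cfsg.Agent.Triality57

open Matrix QuadraticMap CfsgLib.Orth CfsgLib.AutPOmega Cfsg.Agent.GammaO57

variable {F : Type*} [Field F] [Fintype F]

/-! ### The combinatorics of the lines -/

/-- numbering of the frame vectors -/
def kq (k : Fin 8) : Fin 4 × Bool := (⟨(k : ℕ) / 2, by omega⟩, decide ((k : ℕ) % 2 = 0))

/-- the sixes -/
def six : Fin 3 → Fin 8 → List (Fin 24) :=
  ![![[0, 1, 2, 3, 4, 5], [6, 7, 8, 9, 10, 11], [0, 6, 12, 13, 14, 15], [1, 7, 16, 17, 18, 19], [2, 8, 12, 16, 20, 21], [3, 9, 13, 17, 22, 23], [4, 10, 14, 18, 20, 22], [5, 11, 15, 19, 21, 23]],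
    ![[0, 2, 4, 12, 14, 20], [7, 9, 11, 17, 19, 23], [0, 3, 5, 13, 15, 23], [7, 8, 10, 16, 18, 20], [1, 2, 5, 16, 19, 21], [6, 9, 10, 13, 14, 22], [6, 8, 11, 12, 15, 21], [1, 3, 4, 17, 18, 22]],
    ![[0, 2, 5, 12, 15, 21], [7, 9, 10, 17, 18, 22], [0, 3, 4, 13, 14, 22], [7, 8, 11, 16, 19, 21], [1, 2, 4, 16, 18, 20], [6, 9, 11, 13, 15, 23], [1, 3, 5, 17, 19, 23], [6, 8, 10, 12, 14, 20]]]

/-- the completing pair of a triangle -/
def pick : Fin 8 → Fin 8 → Fin 8 × Fin 8 :=
  ![![(0, 0), (0, 0), (0, 0), (4, 4), (0, 0), (2, 2), (0, 2), (2, 0)],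
    ![(0, 0), (0, 0), (5, 5), (1, 1), (3, 3), (1, 1), (3, 1), (1, 3)],
    ![(0, 0), (5, 5), (0, 0), (0, 0), (0, 0), (2, 2), (0, 2), (2, 0)],
    ![(4, 4), (1, 1), (0, 0), (0, 0), (3, 3), (1, 1), (3, 1), (1, 3)],
    ![(0, 0), (3, 3), (0, 0), (3, 3), (0, 0), (0, 0), (0, 4), (4, 0)],
    ![(2, 2), (1, 1), (2, 2), (1, 1), (0, 0), (0, 0), (5, 1), (1, 5)],
    ![(0, 2), (3, 1), (0, 2), (3, 1), (0, 4), (5, 1), (0, 0), (0, 0)],
    ![(2, 0), (1, 3), (2, 0), (1, 3), (4, 0), (1, 5), (0, 0), (0, 0)]]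

/-- two lines whose root groups do not commute -/
def nc (n m : Fin 24) : Bool :=
  let a := root n
  let b := root m
  (decide (b.1 = opp a.1) && decide (b.2.1 ≠ a.2.1)) || (decide (b.2 = opp a.1) && decide (b.1.1 ≠ a.2.1)) ||
    (decide (b.1 = opp a.2) && decide (b.2.1 ≠ a.1.1)) || (decide (b.2 = opp a.2) && decide (b.1.1 ≠ a.1.1))

/-- two sixes with two common lines and two lines that do not commute -/
def adj (j : Fin 3) (k : Fin 8) (j' : Fin 3) (k' : Fin 8) : Bool :=
  decide (2 ≤ ((six j k).filter fun n => decide (n ∈ six j' k')).length) &&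
    (six j k).any fun n => (six j' k').any (nc n)

theorem six_nodup : ∀ j k, (six j k).Nodup := by decide

theorem six_zero : ∀ k n, n ∈ six 0 k ↔ ((root n).1 = kq k ∨ (root n).2 = kq k) := by decide

theorem six_one : ∀ k, six 1 k ⊆ (six 0 k).map piT ∧ (six 0 k).map piT ⊆ six 1 k := by decide

theorem six_two : ∀ k, six 2 k ⊆ (six 1 k).map piT ∧ (six 1 k).map piT ⊆ six 2 k := by decide

theorem pick_spec : ∀ k k', (kq k).1 ≠ (kq k').1 →
    adj 0 k 1 (pick k k').1 = true ∧ adj 0 k 2 (pick k k').2 = true ∧ adj 0 k' 1 (pick k k').1 = true ∧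
      adj 0 k' 2 (pick k k').2 = true ∧ adj 1 (pick k k').1 2 (pick k k').2 = true := by
  decide

theorem exists_other : ∀ k : Fin 8, ∃ k', (kq k).1 ≠ (kq k').1 := by decide

theorem exists_between : ∀ k k' : Fin 8, (kq k).1 = (kq k').1 → ∃ k'', (kq k).1 ≠ (kq k'').1 ∧
    (kq k'').1 ≠ (kq k').1 := by decide

theorem kq_surj : ∀ a : Fin 4 × Bool, ∃ k, kq k = a := by decide

/-! ### Lines -/

/-- a frame line -/
noncomputable def line (n : Fin 24) : Submodule F (I → F) := (S4 F).fl (root n).1 (root n).2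

theorem line_isLine (n : Fin 24) : IsLine (plusQ 4 F) (line n) := (S4 F).fl_line (root_ne n)

theorem line_injective {n m : Fin 24} (h : line (F := F) n = line m) : n = m := by
  have key : ∀ (k : Fin 4 × Bool) (n : Fin 24), (S4 F).x k ∈ line (F := F) n →
      (root n).1 = k ∨ (root n).2 = k := by
    intro k n hk
    by_contra hc
    push Not at hc
    obtain ⟨p, r, e⟩ := mem_ln.1 hk
    have := (S4 F).coeff_eq_zero (p := p) (r := r) (k := (root n).1) (l := (root n).2) (n := k)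
      (Ne.symm hc.1) (Ne.symm hc.2)
    rw [e, (S4 F).pair_opp] at this
    exact one_ne_zero this
  have hdet : ∀ n m : Fin 24, ((root m).1 = (root n).1 ∨ (root m).2 = (root n).1) →
      ((root m).1 = (root n).2 ∨ (root m).2 = (root n).2) → n = m := by decide
  exact hdet n m (key _ m (h ▸ left_mem_ln _ _)) (key _ m (h ▸ right_mem_ln _ _))

theorem not_comm {a b c : Fin 4 × Bool} (h1 : a.1 ≠ b.1) (h2 : a.1 ≠ c.1) (h3 : b.1 ≠ c.1) :
    ¬ (S4 F).Comm ((S4 F).fl a b) ((S4 F).fl (opp a) c) := by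
  intro h
  set S := S4 F
  have hac : (opp a).1 ≠ c.1 := by simpa using h2
  obtain ⟨h4, -⟩ := S.app_eq_of_commute (S.good_frame h1) (S.sing (opp a)) (S.pair_fst hac)
    (h _ (S.rt_mem_X (left_mem_ln _ _) (right_mem_ln _ _)) _
      (S.rt_mem_X (left_mem_ln _ _) (right_mem_ln _ _))).symm
  rw [app_eich_sing (S.sing _) (S.sing _) (S.pair_fst hac), S.pair_opp, S.pair_fst h2, one_smul, zero_smul,
    sub_zero] at h4
  obtain ⟨p, r, hpr⟩ := mem_ln.1 h4
  have := S.coeff_eq_zero (k := a) (l := b) (n := c) (p := p) (r := r) (ne_of_fst (Ne.symm h2)) (ne_of_fst (Ne.symm h3))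
  rw [hpr, polar_add_left, S.pair_opp, S.pair_ne (fun e => ne_of_fst (Ne.symm h2) (by simpa using congrArg opp e)),
    zero_add] at this
  exact one_ne_zero this

theorem comm_symm {L M : Submodule F (I → F)} (h : (S4 F).Comm L M) : (S4 F).Comm M L :=
  fun x hx y hy => (h y hy x hx).symm

theorem nc_spec {n m : Fin 24} (h : nc n m = true) : ¬ (S4 F).Comm (line n) (line m) := by
  simp only [nc, Bool.or_eq_true, Bool.and_eq_true, decide_eq_true_eq] at h
  have hn := root_ne n
  have hm := root_ne m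
  unfold line
  rcases h with ((⟨e, e'⟩ | ⟨e, e'⟩) | ⟨e, e'⟩) | ⟨e, e'⟩
  · rw [e] at hm ⊢
    exact not_comm hn (by simpa using hm) (Ne.symm e')
  · rw [e] at hm ⊢
    rw [(S4 F).fl_comm (root m).1]
    exact not_comm hn (by simpa using Ne.symm hm) (Ne.symm e')
  · rw [e] at hm ⊢
    rw [(S4 F).fl_comm (root n).1]
    exact not_comm (Ne.symm hn) (by simpa using hm) (Ne.symm e')
  · rw [e] at hm ⊢
    rw [(S4 F).fl_comm (root n).1, (S4 F).fl_comm (root m).1]
    exact not_comm (Ne.symm hn) (by simpa using Ne.symm hm) (Ne.symm e')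

theorem comm_of_perp {L M : Submodule F (I → F)} (hL : IsLine (plusQ 4 F) L) (hM : IsLine (plusQ 4 F) M)
    (ho : ∀ x ∈ L, ∀ y ∈ M, polar (plusQ 4 F) x y = 0) : (S4 F).Comm L M := by
  obtain ⟨u, a, hu, rfl⟩ := hL
  obtain ⟨v, b, hv, rfl⟩ := hM
  intro x hx y hy
  obtain ⟨s, rfl⟩ := ((S4 F).mem_X_iff hu).1 hx
  obtain ⟨t, rfl⟩ := ((S4 F).mem_X_iff hv).1 hy
  have hv' : polar (plusQ 4 F) v (t • b) = 0 := by rw [polar_smul_right, hv.ortho, smul_zero]
  have hfix : ∀ z ∈ ln u a, app (eich (plusQ 4 F) v (t • b)) z = z := fun z hz =>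
    app_eich_of_ortho hv.left hv' (ho z hz v (left_mem_ln _ _))
      (by rw [polar_smul_right, ho z hz b (right_mem_ln _ _), smul_zero])
  have h := (S4 F).rt_conj hu.left (show polar (plusQ 4 F) u (s • a) = 0 by
    rw [polar_smul_right, hu.ortho, smul_zero]) ((S4 F).om v (t • b))
  rw [show ((S4 F).om v (t • b)).1 = eich (plusQ 4 F) v (t • b) from rfl, hfix u (left_mem_ln _ _),
    hfix _ (Submodule.smul_mem _ s (right_mem_ln u a))] at h
  exact (mul_inv_eq_iff_eq_mul.1 h).symm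

theorem img_mul (β γ : MulAut (PG (plusQ 4 F))) {L : Submodule F (I → F)} (hL : IsLine (plusQ 4 F) L) :
    (S4 F).img (β * γ) L = (S4 F).img β ((S4 F).img γ L) := by
  have h' := (S4 F).img_line γ hL
  refine (S4 F).X_injective ((S4 F).img_line _ hL) ((S4 F).img_line _ h') ?_
  rw [← (S4 F).img_map (β * γ) hL, ← (S4 F).img_map β h', ← (S4 F).img_map γ hL, Subgroup.map_map]
  exact le_rfl

theorem img_triality (n : Fin 24) : (S4 F).img (triality F) (line n) = line (piT n) := by
  refine (S4 F).X_injective ((S4 F).img_line _ (line_isLine n)) (line_isLine _) ?_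
  rw [← (S4 F).img_map _ (line_isLine n)]
  rintro _ ⟨x, hx, rfl⟩
  obtain ⟨t, rfl⟩ := ((S4 F).mem_X_iff ((S4 F).good_frame (root_ne n))).1 hx
  obtain ⟨s, s', e⟩ := rel_root n t
  show triality F (QuotientGroup.mk ((S4 F).om _ _)) ∈ _
  rw [show triality F (QuotientGroup.mk ((S4 F).om ((S4 F).x (root n).1) (t • (S4 F).x (root n).2))) =
      QuotientGroup.mk ((S4 F).om (ev (root (piT n)).1) (s • ev (root (piT n)).2)) from
    triality_spec (h := ⟨_, rootE_mem _ _ s'⟩) e]
  exact (S4 F).rt_mem_X (left_mem_ln _ _) (Submodule.smul_mem _ s (right_mem_ln _ _))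

/-! ### The two kinds of sixes -/

/-- the images of the lines of a six have a common point -/
def IsPoint (β : MulAut (PG (plusQ 4 F))) (j : Fin 3) (k : Fin 8) : Prop :=
  ∃ P, P ≠ 0 ∧ ∀ n ∈ six j k, P ∈ (S4 F).img β (line n)

/-- the images of the lines of a six lie in one totally singular solid -/
def IsSolid (β : MulAut (PG (plusQ 4 F))) (j : Fin 3) (k : Fin 8) : Prop :=
  ∃ U : Submodule F (I → F), Module.finrank F U = 4 ∧ (∀ u ∈ U, plusQ 4 F u = 0) ∧
    ∀ n ∈ six j k, (S4 F).img β (line n) ≤ U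

theorem star_dichotomy (β : MulAut (PG (plusQ 4 F))) (k : Fin 4 × Bool) :
    (∃ P, P ≠ 0 ∧ ∀ l, k.1 ≠ l.1 → P ∈ (S4 F).img β ((S4 F).fl k l)) ∨
      ∃ U : Submodule F (I → F), Module.finrank F U = 4 ∧ (∀ u ∈ U, plusQ 4 F u = 0) ∧
        ∀ l, k.1 ≠ l.1 → (S4 F).img β ((S4 F).fl k l) ≤ U := by
  set S := S4 F
  obtain ⟨i, hik, -⟩ := S.exists_third k.1 k.1
  have hl : ∀ b, IsLine (plusQ 4 F) (S.fl k (i, b)) := fun b => S.fl_line (Ne.symm hik)
  set L := S.img β (S.fl k (i, true))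
  set M := S.img β (S.fl k (i, false))
  have hL : IsLine (plusQ 4 F) L := S.img_line β (hl true)
  have hM : IsLine (plusQ 4 F) M := S.img_line β (hl false)
  have hcomm : S.Comm L M := (S.comm_img β (hl _) (hl _)).2
    (S.comm_of_meet (hl _) (hl _) (S.ne_zero k) (left_mem_ln _ _) (left_mem_ln _ _))
  have hne : L ≠ M := fun e =>
    S.fl_ne (ne_of_fst (l := (i, false)) (Ne.symm hik)) (by simp) (S.img_inj β (hl _) (hl _) e)
  have hclose : ∀ l, k.1 ≠ l.1 → l.1 ≠ i → ∀ b, S.Close (S.img β (S.fl k (i, b))) (S.img β (S.fl k l)) :=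
    fun l hl' hli b => (S.close_img β (hl b) (S.fl_line hl')).2 (S.fl_close (Ne.symm hik) hl' (Ne.symm hli))
  by_cases hd : ∀ x, x ∈ L → x ∈ M → x = 0
  · right
    have ho := S.perp_of_comm hL hM hcomm hd
    refine ⟨L ⊔ M, ?_, ?_, ?_⟩
    · have := Submodule.finrank_sup_add_finrank_inf_eq L M
      rw [hL.finrank, hM.finrank, show L ⊓ M = ⊥ from eq_bot_iff.2 fun x hx => (Submodule.mem_bot F).2
        (hd x hx.1 hx.2), finrank_bot] at this
      omega
    · intro u hu
      obtain ⟨x, hx, y, hy, rfl⟩ := Submodule.mem_sup.1 hu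
      rw [QuadraticMap.map_add ⇑(plusQ 4 F), hL.sing hx, hM.sing hy, ho x hx y hy]
      simp
    · intro l hl'
      by_cases hli : l.1 = i
      · obtain ⟨li, lb⟩ := l
        subst hli
        cases lb
        · exact le_sup_right
        · exact le_sup_left
      set N := S.img β (S.fl k l)
      have hN : IsLine (plusQ 4 F) N := S.img_line β (S.fl_line hl')
      obtain ⟨⟨p, hp, hpL, hpN⟩, -⟩ := S.close_spec hL hN (hclose l hl' hli true)
      obtain ⟨⟨r, hr, hrM, hrN⟩, -⟩ := S.close_spec hM hN (hclose l hl' hli false)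
      rw [hN.eq_ln hpN hrN (independent_pair hp fun hm => by
        obtain ⟨c, rfl⟩ := Submodule.mem_span_singleton.1 hm
        exact hr (hd _ (L.smul_mem c hpL) hrM))]
      exact Submodule.span_le.2 (by
        rintro z (rfl | rfl)
        · exact Submodule.mem_sup_left hpL
        · exact Submodule.mem_sup_right hrM)
  · left
    push Not at hd
    obtain ⟨P, hP1, hP2, hP⟩ := hd
    refine ⟨P, hP, fun l hl' => ?_⟩
    by_cases hli : l.1 = i
    · obtain ⟨li, lb⟩ := l
      subst hli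
      cases lb
      · exact hP2
      · exact hP1
    set N := S.img β (S.fl k l)
    have hN : IsLine (plusQ 4 F) N := S.img_line β (S.fl_line hl')
    by_contra hPN
    obtain ⟨⟨p, hp, hpL, hpN⟩, o1⟩ := S.close_spec hL hN (hclose l hl' hli true)
    obtain ⟨⟨r, hr, hrM, hrN⟩, o2⟩ := S.close_spec hM hN (hclose l hl' hli false)
    have hp' : p ∉ Submodule.span F {P} := fun hm => by
      obtain ⟨c, rfl⟩ := Submodule.mem_span_singleton.1 hm
      exact hPN ((N.smul_mem_iff (left_ne_zero_of_smul hp)).1 hpN)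
    have hr' : r ∉ Submodule.span F {P} := fun hm => by
      obtain ⟨c, rfl⟩ := Submodule.mem_span_singleton.1 hm
      exact hPN ((N.smul_mem_iff (left_ne_zero_of_smul hr)).1 hrN)
    have e1 := hL.eq_ln hP1 hpL (independent_pair hP hp')
    have e2 := hM.eq_ln hP2 hrM (independent_pair hP hr')
    have hc := S.close_of_meet (hL.good hP1 hpL (independent_pair hP hp'))
      (hM.good hP2 hrM (independent_pair hP hr')) (o1 p hpL r hrN) (by rw [← e1, ← e2]; exact hne)
    rw [← e1, ← e2, S.close_img β (hl true) (hl false)] at hc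
    refine S.not_close_of_polar (S.good_frame (Ne.symm hik)) (S.good_frame (Ne.symm hik)) ?_ hc
    rw [show ((i, false) : Fin 4 × Bool) = opp (i, true) from rfl, S.pair_opp]
    exact one_ne_zero

theorem six_line {k : Fin 8} {n : Fin 24} (h : n ∈ six 0 k) :
    ∃ l, (kq k).1 ≠ l.1 ∧ line (F := F) n = (S4 F).fl (kq k) l := by
  rcases (six_zero k n).1 h with e | e
  · exact ⟨(root n).2, e ▸ root_ne n, by rw [line, e]⟩
  · exact ⟨(root n).1, e ▸ Ne.symm (root_ne n), by rw [line, e, (S4 F).fl_comm]⟩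

theorem line_of_fst {k : Fin 8} {l : Fin 4 × Bool} (h : (kq k).1 ≠ l.1) :
    ∃ n ∈ six 0 k, (S4 F).fl (kq k) l = line n := by
  have key : ∀ a b : Fin 4 × Bool, a.1 ≠ b.1 → ∃ n, root n = (a, b) ∨ root n = (b, a) := by decide
  obtain ⟨n, e | e⟩ := key _ _ h
  · exact ⟨n, (six_zero k n).2 (Or.inl (by rw [e])), by rw [line, e]⟩
  · exact ⟨n, (six_zero k n).2 (Or.inr (by rw [e])), by rw [line, e, (S4 F).fl_comm]⟩

theorem pow_succ_point (β : MulAut (PG (plusQ 4 F))) (k : Fin 8) :
    (IsPoint (β * triality F) 0 k ↔ IsPoint β 1 k) ∧ (IsPoint (β * triality F) 1 k ↔ IsPoint β 2 k) ∧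
    (IsSolid (β * triality F) 0 k ↔ IsSolid β 1 k) ∧ (IsSolid (β * triality F) 1 k ↔ IsSolid β 2 k) := by
  have key : ∀ (P : Submodule F (I → F) → Prop) (A B : List (Fin 24)),
      (B ⊆ A.map piT ∧ A.map piT ⊆ B) →
      ((∀ n ∈ A, P ((S4 F).img (β * triality F) (line n))) ↔ ∀ n ∈ B, P ((S4 F).img β (line n))) := by
    intro P A B hAB
    have e : ∀ n, (S4 F).img (β * triality F) (line n) = (S4 F).img β (line (piT n)) := fun n => by
      rw [img_mul β _ (line_isLine n), img_triality]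
    constructor
    · intro h n hn
      obtain ⟨m, hm, rfl⟩ := List.mem_map.1 (hAB.1 hn)
      rw [← e]; exact h m hm
    · intro h n hn
      rw [e]; exact h _ (hAB.2 (List.mem_map_of_mem hn))
  refine ⟨?_, ?_, ?_, ?_⟩
  · exact exists_congr fun P => and_congr_right' (key (fun L => P ∈ L) _ _ (six_one k))
  · exact exists_congr fun P => and_congr_right' (key (fun L => P ∈ L) _ _ (six_two k))
  · exact exists_congr fun U => and_congr_right' (and_congr_right' (key (fun L => L ≤ U) _ _ (six_one k)))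
  · exact exists_congr fun U => and_congr_right' (and_congr_right' (key (fun L => L ≤ U) _ _ (six_two k)))

theorem six_kind (β : MulAut (PG (plusQ 4 F))) (j : Fin 3) (k : Fin 8) : IsPoint β j k ∨ IsSolid β j k := by
  have h0 : ∀ γ : MulAut (PG (plusQ 4 F)), IsPoint γ 0 k ∨ IsSolid γ 0 k := fun γ => by
    rcases star_dichotomy γ (kq k) with ⟨P, hP, h⟩ | ⟨U, h1, h2, h⟩
    · left
      refine ⟨P, hP, fun n hn => ?_⟩
      obtain ⟨l, hl, e⟩ := six_line (F := F) hn
      rw [e]; exact h l hl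
    · right
      refine ⟨U, h1, h2, fun n hn => ?_⟩
      obtain ⟨l, hl, e⟩ := six_line (F := F) hn
      rw [e]; exact h l hl
  have h1 : ∀ γ : MulAut (PG (plusQ 4 F)), IsPoint γ 1 k ∨ IsSolid γ 1 k := fun γ =>
    (h0 (γ * triality F)).imp (pow_succ_point γ k).1.1 (pow_succ_point γ k).2.2.1.1
  fin_cases j
  · exact h0 β
  · exact h1 β
  · exact (h1 (β * triality F)).imp (pow_succ_point β k).2.1.1 (pow_succ_point β k).2.2.2.1

theorem adj_spec {j j' : Fin 3} {k k' : Fin 8} (h : adj j k j' k' = true) :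
    (∃ n m, n ≠ m ∧ n ∈ six j k ∧ n ∈ six j' k' ∧ m ∈ six j k ∧ m ∈ six j' k') ∧
    ∃ n m, n ∈ six j k ∧ m ∈ six j' k' ∧ ¬ (S4 F).Comm (line n) (line m) := by
  simp only [adj, Bool.and_eq_true, decide_eq_true_eq, List.any_eq_true] at h
  obtain ⟨h1, n, hn, m, hm, hnc⟩ := h
  refine ⟨?_, n, m, hn, hm, nc_spec hnc⟩
  set l := (six j k).filter fun n => decide (n ∈ six j' k') with hl
  have hd : l.Nodup := (six_nodup j k).filter _
  refine ⟨l[0], l[1], fun e => by
    have := (hd.getElem_inj_iff).1 e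
    omega, ?_⟩
  have key : ∀ a ∈ l, a ∈ six j k ∧ a ∈ six j' k' := fun a ha => by
    rw [hl, List.mem_filter, decide_eq_true_eq] at ha; exact ha
  exact ⟨(key _ (List.getElem_mem _)).1, (key _ (List.getElem_mem _)).2, (key _ (List.getElem_mem _)).1,
    (key _ (List.getElem_mem _)).2⟩

theorem not_two_points (β : MulAut (PG (plusQ 4 F))) {j j' : Fin 3} {k k' : Fin 8}
    (h : adj j k j' k' = true) : ¬ (IsPoint β j k ∧ IsPoint β j' k') := by
  rintro ⟨⟨P, hP, hPk⟩, P', hP', hPk'⟩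
  obtain ⟨⟨n, m, hnm, hn, hn', hm, hm'⟩, a, b, ha, hb, hab⟩ := adj_spec (F := F) h
  refine hab (((S4 F).comm_img β (line_isLine a) (line_isLine b)).1 ?_)
  have hln := (S4 F).img_line β (line_isLine (F := F) n)
  have hlm := (S4 F).img_line β (line_isLine (F := F) m)
  have hne : (S4 F).img β (line n) ≠ (S4 F).img β (line m) := fun e =>
    hnm (line_injective ((S4 F).img_inj β (line_isLine n) (line_isLine m) e))
  have hmem := hln.meet_unique hlm hne hP (hPk n hn) (hPk m hm) (hPk' n hn') (hPk' m hm')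
  obtain ⟨c, rfl⟩ := Submodule.mem_span_singleton.1 hmem
  exact (S4 F).comm_of_meet ((S4 F).img_line β (line_isLine a)) ((S4 F).img_line β (line_isLine b)) hP
    (hPk a ha) ((Submodule.smul_mem_iff _ (left_ne_zero_of_smul hP')).1 (hPk' b hb))

theorem finrank_inter_of_solids (β : MulAut (PG (plusQ 4 F))) {j j' : Fin 3} {k k' : Fin 8}
    (h : adj j k j' k' = true) {U W : Submodule F (I → F)} (dU : Module.finrank F U = 4)
    (dW : Module.finrank F W = 4) (qU : ∀ u ∈ U, plusQ 4 F u = 0)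
    (hU : ∀ n ∈ six j k, (S4 F).img β (line n) ≤ U) (hW : ∀ n ∈ six j' k', (S4 F).img β (line n) ≤ W) :
    Module.finrank F ↥(U ⊓ W) = 3 := by
  obtain ⟨⟨n, m, hnm, hn, hn', hm, hm'⟩, a, b, ha, hb, hab⟩ := adj_spec (F := F) h
  set A := (S4 F).img β (line n)
  set B := (S4 F).img β (line m)
  have hA : IsLine (plusQ 4 F) A := (S4 F).img_line β (line_isLine n)
  have hB : IsLine (plusQ 4 F) B := (S4 F).img_line β (line_isLine m)
  have hA' : A ≤ U ⊓ W := le_inf (hU n hn) (hW n hn')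
  have hB' : B ≤ U ⊓ W := le_inf (hU m hm) (hW m hm')
  have hlt : A < U ⊓ W := lt_of_le_of_ne hA' fun e => hnm (line_injective
    ((S4 F).img_inj β (line_isLine n) (line_isLine m) (Submodule.eq_of_le_of_finrank_eq
      (show B ≤ A from e ▸ hB') (by rw [hA.finrank, hB.finrank])).symm))
  have h1 := Submodule.finrank_lt_finrank_of_lt hlt
  rw [hA.finrank] at h1
  have h2 : U ⊓ W < U := lt_of_le_of_ne inf_le_left fun e => by
    have hUW : U = W := Submodule.eq_of_le_of_finrank_eq (e ▸ inf_le_right) (dU.trans dW.symm)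
    subst hUW
    refine hab (((S4 F).comm_img β (line_isLine a) (line_isLine b)).1
      (comm_of_perp ((S4 F).img_line β (line_isLine a)) ((S4 F).img_line β (line_isLine b)) fun x hx y hy => ?_))
    have hx' := hU a ha hx
    have hy' := hW b hb hy
    rw [QuadraticMap.polar, qU x hx', qU y hy', qU _ (U.add_mem hx' hy'), sub_zero, sub_zero]
  have h3 := Submodule.finrank_lt_finrank_of_lt h2
  have k1 : 2 < Module.finrank F ↥(U ⊓ W) := h1
  have k3 : Module.finrank F ↥(U ⊓ W) < 4 := dU ▸ h3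
  omega

theorem triangle_point (β : MulAut (PG (plusQ 4 F))) {k₀ k₁ k₂ : Fin 8} (h01 : adj 0 k₀ 1 k₁ = true)
    (h02 : adj 0 k₀ 2 k₂ = true) (h12 : adj 1 k₁ 2 k₂ = true) :
    IsPoint β 0 k₀ ∨ IsPoint β 1 k₁ ∨ IsPoint β 2 k₂ := by
  by_contra hc
  push Not at hc
  obtain ⟨U, dU, qU, hU⟩ := (six_kind β 0 k₀).resolve_left hc.1
  obtain ⟨W, dW, qW, hW⟩ := (six_kind β 1 k₁).resolve_left hc.2.1
  obtain ⟨X, dX, qX, hX⟩ := (six_kind β 2 k₂).resolve_left hc.2.2
  have h := lagrangian_parity (plusQ 4 F) (plusQ_nondegenerate 4) (m := 4)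
    (by rw [Module.finrank_fintype_fun_eq_card]; simp) qU qW qX dU dW dX
  rw [finrank_inter_of_solids β h01 dU dW qU hU hW, finrank_inter_of_solids β h12 dW dX qW hW hX,
    finrank_inter_of_solids β h02 dU dX qU hU hX] at h
  exact absurd h (by decide)

theorem all_points {β : MulAut (PG (plusQ 4 F))} {k : Fin 8} (h : IsPoint β 0 k) (k' : Fin 8) :
    IsPoint β 0 k' := by
  have step : ∀ a b : Fin 8, (kq a).1 ≠ (kq b).1 → IsPoint β 0 a → IsPoint β 0 b := fun a b hne ha => by
    obtain ⟨e1, e2, e3, e4, e5⟩ := pick_spec a b hne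
    rcases triangle_point β e3 e4 e5 with h0 | h1 | h2
    · exact h0
    · exact absurd ⟨ha, h1⟩ (not_two_points β e1)
    · exact absurd ⟨ha, h2⟩ (not_two_points β e2)
  by_cases hk : (kq k).1 = (kq k').1
  · obtain ⟨k'', h1, h2⟩ := exists_between k k' hk
    exact step k'' k' h2 (step k k'' h1 h)
  · exact step k k' hk h

/-! ### The automorphism group -/

/-- A semisimilarity as a bundled structure induces the same automorphism. -/
theorem gAut_eq_aut (p : Semi (plusQ 4 F)) :
    ∃ x : ↥(semiGroup (plusQ 4 F)), gAut _ x = p.aut :=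
  gammaPOmega_le_range p.aut_mem_gamma

theorem isPoint_gAut (x : ↥(semiGroup (plusQ 4 F))) (k : Fin 8) : IsPoint (gAut _ x) 0 k := by
  obtain ⟨c, hc⟩ := x.2
  let p : Semi (plusQ 4 F) := { g := x.1.left, σ := x.1.right, c := c, spec := fun v => hc v }
  have hp : gAut (plusQ 4 F) x = p.aut := MulEquiv.ext fun y => by
    obtain ⟨s, rfl⟩ := QuotientGroup.mk_surjective y
    rw [gAut_mk, Semi.aut_mk]
    rfl
  refine ⟨p.ap ((S4 F).x (kq k)), p.ap_ne_zero ((S4 F).ne_zero _), fun n hn => ?_⟩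
  obtain ⟨l, hl, e⟩ := six_line (F := F) hn
  rw [e, hp]
  set S := S4 F
  have hline := S.fl_line hl
  have hi := S.img_line p.aut hline
  have hm := (S.mem_img p.aut hline _).2
    (S.rt_mem_X (left_mem_ln (S.x (kq k)) (S.x l)) (right_mem_ln (S.x (kq k)) (S.x l)))
  rw [Semi.aut_rt p S (S.sing _) (S.pair_fst hl)] at hm
  obtain ⟨u, a, hu, hL⟩ := hi
  rw [hL] at hm ⊢
  have h0 : plusQ 4 F (p.ap (S.x (kq k))) = 0 := by rw [p.Q_ap, S.sing, map_zero, mul_zero]
  have h00 : plusQ 4 F (p.ap (S.x l)) = 0 := by rw [p.Q_ap, S.sing, map_zero, mul_zero]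
  have hg : Good (plusQ 4 F) (p.ap (S.x (kq k))) ((p.c⁻¹ : Fˣ) • p.ap (S.x l)) := by
    refine ⟨h0, by rw [Units.smul_def, QuadraticMap.map_smul, h00, smul_zero], ?_, ?_⟩
    · rw [Units.smul_def, polar_smul_right, p.polar_ap, S.pair_fst hl, map_zero, mul_zero, smul_zero]
    · refine independent_pair (p.ap_ne_zero (S.ne_zero _)) fun hmem => ?_
      obtain ⟨r, hr⟩ := Submodule.mem_span_singleton.1 hmem
      have e1 := congrArg (fun v => polar (plusQ 4 F) v (p.ap (S.x (opp l)))) hr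
      simp only [Units.smul_def, polar_smul_left, p.polar_ap, S.pair_opp,
        S.pair_fst (k := kq k) (l := opp l) (by simpa using hl), map_zero, mul_zero, smul_zero, map_one,
        mul_one, smul_eq_mul] at e1
      exact one_ne_zero (e1.trans (Units.inv_mul p.c)).symm
  obtain ⟨r, hr⟩ := (S.mem_X_iff hu).1 hm
  have hua : polar (plusQ 4 F) u (r • a) = 0 := by rw [polar_smul_right, hu.ortho, smul_zero]
  have hle : ln u (r • a) ≤ ln u a := Submodule.span_le.2 (by
    rintro z (rfl | rfl)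
    · exact left_mem_ln _ _
    · exact Submodule.smul_mem _ _ (right_mem_ln u a))
  exact hle (S.mem_of_rt hg hu.left hua (by exact hr.symm)).1

theorem mem_range_of_points {β : MulAut (PG (plusQ 4 F))} (h : ∀ k, IsPoint β 0 k) :
    β ∈ (gAut (plusQ 4 F)).range := by
  refine gammaPOmega_le_range ((S4 F).mem_gamma_of_points β fun a => ?_)
  obtain ⟨k, rfl⟩ := kq_surj a
  obtain ⟨P, hP, hPk⟩ := h k
  refine ⟨P, hP, fun l hl => ?_⟩
  obtain ⟨n, hn, e⟩ := line_of_fst (F := F) hl
  rw [e]; exact hPk n hn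

/-- Every automorphism is induced by a semisimilarity, up to triality. -/
theorem exists_gAut_mul_pow (β : MulAut (PG (plusQ 4 F))) :
    ∃ (x : ↥(semiGroup (plusQ 4 F))) (j : Fin 3), β = gAut _ x * triality F ^ (j : ℕ) := by
  have h3 : triality F ^ 3 = 1 := triality_pow_three
  obtain ⟨e1, e2, -, -, e5⟩ := pick_spec 0 2 (by decide)
  rcases triangle_point β e1 e2 e5 with h | h | h
  · obtain ⟨x, hx⟩ := mem_range_of_points (all_points h)
    exact ⟨x, 0, by simp [hx]⟩
  · obtain ⟨x, hx⟩ := mem_range_of_points (all_points ((pow_succ_point β _).1.2 h))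
    refine ⟨x, 2, ?_⟩
    rw [hx, mul_assoc]
    show β = β * (triality F * triality F ^ 2)
    rw [← pow_succ', h3, mul_one]
  · obtain ⟨x, hx⟩ := mem_range_of_points (all_points ((pow_succ_point (β * triality F) _).1.2
      ((pow_succ_point β _).2.1.2 h)))
    refine ⟨x, 1, ?_⟩
    rw [hx, Fin.val_one, pow_one, mul_assoc, mul_assoc]
    show β = β * (triality F * (triality F * triality F))
    rw [← pow_two, ← pow_succ', h3, mul_one]

/-- Triality is not induced by a semisimilarity. -/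
theorem triality_not_mem : triality F ∉ (gAut (plusQ 4 F)).range := by
  rintro ⟨x, hx⟩
  obtain ⟨e1, -, -, -, -⟩ := pick_spec 0 2 (by decide)
  have h0 : IsPoint (1 : MulAut (PG (plusQ 4 F))) 0 0 := by
    rw [← map_one (gAut (plusQ 4 F))]; exact isPoint_gAut 1 0
  have h1 := isPoint_gAut x (pick 0 2).1
  rw [hx, ← one_mul (triality F)] at h1
  exact not_two_points 1 e1 ⟨h0, (pow_succ_point 1 _).1.1 h1⟩

end Cfsg.Agent.Triality57
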