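import Cfsg.Agent.Helper57NilpJordan

/-!
Counting the invertible endomorphisms commuting with a nilpotent one.
-/

set_option autoImplicit false
set_option linter.unusedSectionVars false

namespace Cfsg.Agent.Jordan57

open Module CfsgLib.RankProfile

variable {F : Type*} [Field F] {V : Type*} [AddCommGroup V] [Module F V]

/-- Independent families in nested subspaces. -/
theorem card_indep_nested [Fintype F] [FiniteDimensional F V] :
    ∀ (r : ℕ) (U : Fin r → Submodule F V), Monotone U →
      Nat.card {u : Fin r → V // (∀ i, u i ∈ U i) ∧ LinearIndependent F u} =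
        ∏ i : Fin r, (Fintype.card F ^ finrank F (U i) - Fintype.card F ^ (i : ℕ)) := by
  classical
  haveI : Finite V := Module.finite_of_finite F
  haveI : Fintype V := Fintype.ofFinite V
  intro r
  induction r with
  | zero =>
    intro U _
    simp only [Finset.univ_eq_empty, Finset.prod_empty]
    exact Nat.card_eq_one_iff_unique.2 ⟨⟨fun a b => Subtype.ext (Subsingleton.elim _ _)⟩,
      ⟨⟨Fin.elim0, fun i => i.elim0, linearIndependent_empty_type⟩⟩⟩
  | succ r ih =>
    intro U hU
    let S := {u : Fin r → V // (∀ i, u i ∈ U i.castSucc) ∧ LinearIndependent F u}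
    let e : {u : Fin (r + 1) → V // (∀ i, u i ∈ U i) ∧ LinearIndependent F u} ≃
        Σ v : S, {x : U (Fin.last r) // (x : V) ∉ Submodule.span F (Set.range v.1)} :=
      { toFun := fun u => ⟨⟨Fin.init u.1, fun i => u.2.1 i.castSucc,
            (linearIndependent_finSucc'.1 u.2.2).1⟩,
            ⟨⟨u.1 (Fin.last r), u.2.1 _⟩, (linearIndependent_finSucc'.1 u.2.2).2⟩⟩
        invFun := fun p => ⟨Fin.snoc p.1.1 (p.2.1 : V),
            Fin.lastCases (by rw [Fin.snoc_last]; exact p.2.1.2)
              (fun i => by rw [Fin.snoc_castSucc]; exact p.1.2.1 i),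
            linearIndependent_finSnoc.2 ⟨p.1.2.2, p.2.2⟩⟩
        left_inv := fun u => Subtype.ext (Fin.snoc_init_self u.1)
        right_inv := fun p => by
          obtain ⟨⟨v, hv⟩, ⟨⟨x, hx⟩, hx'⟩⟩ := p
          refine Sigma.subtype_ext (Subtype.ext (Fin.init_snoc (α := fun _ => V) (p := v) x)) ?_
          exact Subtype.ext (Fin.snoc_last (α := fun _ => V) (p := v) x) }
    rw [Nat.card_congr e, Nat.card_sigma]
    have hfib : ∀ v : S, Nat.card {x : U (Fin.last r) // (x : V) ∉ Submodule.span F (Set.range v.1)}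
        = Fintype.card F ^ finrank F (U (Fin.last r)) - Fintype.card F ^ r := by
      intro v
      have hle : Submodule.span F (Set.range v.1) ≤ U (Fin.last r) :=
        Submodule.span_le.2 (by rintro _ ⟨i, rfl⟩; exact hU (Fin.le_last _) (v.2.1 i))
      have ee : {x : U (Fin.last r) // (x : V) ∈ Submodule.span F (Set.range v.1)} ≃
          Submodule.span F (Set.range v.1) :=
        ⟨fun x => ⟨(x.1 : V), x.2⟩, fun y => ⟨⟨(y : V), hle y.2⟩, y.2⟩, fun x => rfl, fun y => rfl⟩
      rw [Nat.card_eq_fintype_card, Fintype.card_subtype_compl, ← Nat.card_eq_fintype_card,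
        ← Nat.card_eq_fintype_card, Module.natCard_eq_pow_finrank (K := F) (V := U (Fin.last r)),
        Nat.card_congr ee,
        Module.natCard_eq_pow_finrank (K := F) (V := Submodule.span F (Set.range v.1)),
        finrank_span_eq_card v.2.2, Fintype.card_fin,
        Nat.card_eq_fintype_card]
    have hS : Nat.card S = ∏ i : Fin r, (Fintype.card F ^ finrank F (U i.castSucc) - Fintype.card F ^ (i : ℕ)) :=
      ih (fun i => U i.castSucc) (fun a b hab => hU (Fin.castSucc_le_castSucc_iff.2 hab))
    rw [Finset.sum_congr rfl (fun v _ => hfib v), Finset.sum_const, Finset.card_univ, smul_eq_mul,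
      ← Nat.card_eq_fintype_card, hS, Fin.prod_univ_castSucc]
    rfl

variable {f : End F V} (C : Chains f)

theorem Chains.finrank_eq : finrank F V = ∑ k, C.d k := by
  rw [finrank_eq_card_basis C.b, Fintype.card_sigma]
  simp

theorem Chains.partProfile_parts (j : ℕ) : partProfile C.parts j = ∑ k, (C.d k - j) := by
  rw [partProfile, Chains.parts, Multiset.map_map]
  rfl

theorem Chains.finrank_ker_pow [FiniteDimensional F V] (j : ℕ) :
    finrank F (LinearMap.ker (f ^ j)) = ∑ k, min (C.d k) j := by
  have h := (f ^ j).finrank_range_add_finrank_ker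
  rw [C.finrank_range_pow, C.partProfile_parts, C.finrank_eq] at h
  have h2 : ∑ k, C.d k = ∑ k, (C.d k - j) + ∑ k, min (C.d k) j := by
    rw [← Finset.sum_add_distrib]
    exact Finset.sum_congr rfl fun k _ => by omega
  omega

/-- `ker f ⊓ range f^(d k - 1)`, where the top of a chain of length `d k` may be sent. -/
def Chains.target (k : Fin C.r) : Submodule F V := LinearMap.ker f ⊓ LinearMap.range (f ^ (C.d k - 1))

theorem Chains.finrank_target [FiniteDimensional F V] (k : Fin C.r) :
    finrank F (C.target k) = (Finset.univ.filter fun j => C.d k ≤ C.d j).card := by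
  have h1 := ((f : V →ₗ[F] V).domRestrict (LinearMap.range (f ^ (C.d k - 1)))).finrank_range_add_finrank_ker
  have hr : LinearMap.range ((f : V →ₗ[F] V).domRestrict (LinearMap.range (f ^ (C.d k - 1))))
      = LinearMap.range (f ^ C.d k) := by
    rw [LinearMap.range_domRestrict, ← LinearMap.range_comp]
    congr 1
    show f * f ^ (C.d k - 1) = f ^ C.d k
    rw [← pow_succ', Nat.sub_add_cancel (C.pos k)]
  have hk : finrank F (LinearMap.ker ((f : V →ₗ[F] V).domRestrict (LinearMap.range (f ^ (C.d k - 1)))))
      = finrank F (C.target k) := by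
    rw [← Submodule.finrank_map_subtype_eq, LinearMap.ker_domRestrict, Submodule.map_comap_subtype,
      inf_comm]
    rfl
  rw [hr, hk, C.finrank_range_pow, C.finrank_range_pow, C.partProfile_parts, C.partProfile_parts] at h1
  have h2 : ∑ j, (C.d j - (C.d k - 1)) = ∑ j, (C.d j - C.d k) + (Finset.univ.filter fun j => C.d k ≤ C.d j).card := by
    rw [Finset.card_filter, ← Finset.sum_add_distrib]
    refine Finset.sum_congr rfl fun j _ => ?_
    have := C.pos k
    split_ifs <;> omega
  omega

/-- the top of the `k`-th chain -/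
def Chains.last (k : Fin C.r) : (k : Fin C.r) × Fin (C.d k) := ⟨k, ⟨C.d k - 1, Nat.sub_lt (C.pos k) one_pos⟩⟩

theorem Chains.f_last (k : Fin C.r) : f (C.b (C.last k)) = 0 := by
  have h := C.pow_b 1 (C.last k)
  rw [dif_neg (by show ¬ (C.d k - 1) + 1 < C.d k; omega), pow_one] at h
  exact h

theorem Chains.last_indep : LinearIndependent F fun k => C.b (C.last k) :=
  C.b.linearIndependent.comp _ fun _ _ h => congrArg Sigma.fst h

theorem Chains.ker_eq_span [FiniteDimensional F V] :
    LinearMap.ker f = Submodule.span F (Set.range fun k => C.b (C.last k)) := by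
  refine (Submodule.eq_of_le_of_finrank_le (Submodule.span_le.2 ?_) ?_).symm
  · rintro _ ⟨k, rfl⟩
    exact LinearMap.mem_ker.2 (C.f_last k)
  · have h := C.finrank_ker_pow 1
    rw [pow_one] at h
    rw [h, finrank_span_eq_card C.last_indep, Fintype.card_fin]
    calc ∑ k, min (C.d k) 1 ≤ ∑ _k : Fin C.r, 1 := Finset.sum_le_sum fun k _ => min_le_right _ _
      _ = C.r := by simp

include C in
theorem Chains.isNilpotent : IsNilpotent f := by
  refine ⟨∑ k, C.d k, C.b.ext fun s => ?_⟩
  have hle : C.d s.1 ≤ ∑ k, C.d k := Finset.single_le_sum (f := C.d) (fun k _ => Nat.zero_le _) (Finset.mem_univ s.1)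
  rw [C.pow_b, dif_neg (by omega), LinearMap.zero_apply]

/-- The data determining an element of the commutant. -/
abbrev Chains.Data := (k : Fin C.r) → LinearMap.ker (f ^ C.d k)

/-- The element of the commutant with given images of the first vectors. -/
noncomputable def Chains.mkEnd (w : C.Data) : End F V :=
  C.b.constr F fun s => (f ^ (s.2 : ℕ)) (w s.1 : V)

theorem Chains.mkEnd_b (w : C.Data) (s : (k : Fin C.r) × Fin (C.d k)) :
    C.mkEnd w (C.b s) = (f ^ (s.2 : ℕ)) (w s.1 : V) := C.b.constr_basis F _ _

theorem Chains.mkEnd_comm (w : C.Data) : Commute (C.mkEnd w) f := by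
  refine C.b.ext fun s => ?_
  show C.mkEnd w (f (C.b s)) = f (C.mkEnd w (C.b s))
  have h := C.pow_b 1 s
  rw [pow_one] at h
  rw [h, C.mkEnd_b, ← Module.End.mul_apply, ← pow_succ']
  split_ifs with h1
  · rw [C.mkEnd_b]
  · rw [map_zero, pow_eq_zero_of_le' (w s.1).2 (by omega)]
where
  pow_eq_zero_of_le' {x : V} {a b : ℕ} (h : x ∈ LinearMap.ker (f ^ a)) (hab : a ≤ b) : (f ^ b) x = 0 := by
    obtain ⟨e, rfl⟩ := Nat.exists_eq_add_of_le hab
    rw [add_comm, pow_add, Module.End.mul_apply, LinearMap.mem_ker.1 h, map_zero]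

theorem Chains.injective_iff [FiniteDimensional F V] (w : C.Data) :
    Function.Injective (C.mkEnd w) ↔ LinearIndependent F fun k => (f ^ (C.d k - 1)) (w k : V) := by
  have himg : (fun k => (f ^ (C.d k - 1)) (w k : V)) = ⇑(C.mkEnd w) ∘ fun k => C.b (C.last k) :=
    funext fun k => (C.mkEnd_b w (C.last k)).symm
  rw [himg]
  constructor
  · exact fun h => C.last_indep.map' _ (LinearMap.ker_eq_bot.2 h)
  · intro h
    have hinj : ∀ x ∈ LinearMap.ker f, C.mkEnd w x = 0 → x = 0 := by
      intro x hx h0
      rw [C.ker_eq_span, Submodule.mem_span_range_iff_exists_fun] at hx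
      obtain ⟨c, rfl⟩ := hx
      rw [map_sum] at h0
      simp only [map_smul] at h0
      exact Finset.sum_eq_zero fun k _ => by rw [Fintype.linearIndependent_iff.1 h c h0 k, zero_smul]
    rw [injective_iff_map_eq_zero]
    intro x hx
    obtain ⟨N, hN⟩ := C.isNilpotent
    have hall : ∀ j ≤ N, (f ^ (N - j)) x = 0 := by
      intro j hj
      induction j with
      | zero => rw [Nat.sub_zero, hN, LinearMap.zero_apply]
      | succ j ihj =>
        refine hinj _ (LinearMap.mem_ker.2 ?_) ?_
        · rw [← Module.End.mul_apply, ← pow_succ', show N - (j + 1) + 1 = N - j by omega]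
          exact ihj (by omega)
        · rw [← Module.End.mul_apply, ((C.mkEnd_comm w).pow_right _).eq, Module.End.mul_apply, hx, map_zero]
    simpa using hall N le_rfl

/-- The commutant, as data. -/
noncomputable def Chains.commEquiv [FiniteDimensional F V] :
    {w : C.Data // LinearIndependent F fun k => (f ^ (C.d k - 1)) (w k : V)} ≃
      {T : End F V // Commute T f ∧ Function.Injective T} where
  toFun w := ⟨C.mkEnd w.1, C.mkEnd_comm w.1, (C.injective_iff w.1).2 w.2⟩
  invFun T := ⟨fun k => ⟨T.1 (C.gen k), by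
      rw [LinearMap.mem_ker, ← Module.End.mul_apply, ← (T.2.1.pow_right _).eq, Module.End.mul_apply,
        C.gen_zero, map_zero]⟩, by
      refine (C.injective_iff _).1 ?_
      have e : C.mkEnd (fun k => ⟨T.1 (C.gen k), by
          rw [LinearMap.mem_ker, ← Module.End.mul_apply, ← (T.2.1.pow_right _).eq, Module.End.mul_apply,
            C.gen_zero, map_zero]⟩) = T.1 := by
        refine C.b.ext fun s => ?_
        rw [C.mkEnd_b, C.b_apply]
        show (f ^ (s.2 : ℕ)) (T.1 (C.gen s.1)) = T.1 _
        rw [← Module.End.mul_apply, ← (T.2.1.pow_right _).eq, Module.End.mul_apply]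
      rw [e]
      exact T.2.2⟩
  left_inv w := by
    apply Subtype.ext
    funext k
    apply Subtype.ext
    show C.mkEnd w.1 (C.gen k) = (w.1 k : V)
    have h := C.mkEnd_b w.1 ⟨k, ⟨0, C.pos k⟩⟩
    rwa [C.b_apply, pow_zero, Module.End.one_apply, Module.End.one_apply] at h
  right_inv T := by
    apply Subtype.ext
    refine C.b.ext fun s => ?_
    show C.mkEnd _ (C.b s) = T.1 _
    rw [C.mkEnd_b, C.b_apply]
    show (f ^ (s.2 : ℕ)) (T.1 (C.gen s.1)) = _
    rw [← Module.End.mul_apply, ← (T.2.1.pow_right _).eq, Module.End.mul_apply]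

set_option maxHeartbeats 1600000 in
theorem Chains.card_comm [Fintype F] [FiniteDimensional F V]
    (hd : ∀ k l, k ≤ l → C.d l ≤ C.d k) :
    Nat.card {T : End F V // Commute T f ∧ Function.Injective T} =
      Fintype.card F ^ (∑ k, ∑ j, min (C.d j) (C.d k - 1)) *
        ∏ k : Fin C.r, (Fintype.card F ^ (Finset.univ.filter fun j => C.d k ≤ C.d j).card - Fintype.card F ^ (k : ℕ)) := by
  classical
  haveI : Finite V := Module.finite_of_finite F
  rw [← Nat.card_congr C.commEquiv]
  let π : ∀ k, LinearMap.ker (f ^ C.d k) →ₗ[F] C.target k := fun k =>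
    ((f ^ (C.d k - 1)).comp (LinearMap.ker (f ^ C.d k)).subtype).codRestrict _ (fun x => ⟨by
      rw [SetLike.mem_coe, LinearMap.mem_ker, LinearMap.comp_apply, ← Module.End.mul_apply, ← pow_succ',
        Nat.sub_add_cancel (C.pos k)]
      exact x.2, LinearMap.mem_range_self _ _⟩)
  have hπ : ∀ k, Function.Surjective (π k) := by
    rintro k ⟨y, hy1, ⟨x, rfl⟩⟩
    refine ⟨⟨x, ?_⟩, rfl⟩
    rw [SetLike.mem_coe, LinearMap.mem_ker, ← Module.End.mul_apply, ← pow_succ', Nat.sub_add_cancel (C.pos k)] at hy1
    exact hy1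
  choose s hs using fun k => LinearMap.exists_rightInverse_of_surjective (π k) (LinearMap.range_eq_top.2 (hπ k))
  have hs' : ∀ k y, π k (s k y) = y := fun k y => LinearMap.congr_fun (hs k) y
  let e : C.Data ≃ ((k : Fin C.r) → LinearMap.ker (π k)) × ((k : Fin C.r) → C.target k) :=
    { toFun := fun w => (fun k => ⟨w k - s k (π k (w k)), by rw [LinearMap.mem_ker, map_sub, hs', sub_self]⟩,
        fun k => π k (w k))
      invFun := fun p k => (p.1 k : LinearMap.ker (f ^ C.d k)) + s k (p.2 k)
      left_inv := fun w => funext fun k => sub_add_cancel _ _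
      right_inv := fun p => by
        have hk : ∀ k, π k ((p.1 k : LinearMap.ker (f ^ C.d k)) + s k (p.2 k)) = p.2 k := fun k => by
          rw [map_add, LinearMap.mem_ker.1 (p.1 k).2, zero_add, hs']
        refine Prod.ext (funext fun k => Subtype.ext ?_) (funext hk)
        show (p.1 k : LinearMap.ker (f ^ C.d k)) + s k (p.2 k) - s k (π k _) = _
        rw [hk, add_sub_cancel_right] }
  have e2 : {w : C.Data // LinearIndependent F fun k => (f ^ (C.d k - 1)) (w k : V)} ≃
      ((k : Fin C.r) → LinearMap.ker (π k)) ×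
        {u : Fin C.r → V // (∀ k, u k ∈ C.target k) ∧ LinearIndependent F u} :=
    (e.subtypeEquiv (q := fun p => LinearIndependent F fun k => ((p.2 k : C.target k) : V)) fun w => Iff.rfl).trans
    { toFun := fun p => (p.1.1, ⟨fun k => (p.1.2 k : V), fun k => (p.1.2 k).2, p.2⟩)
      invFun := fun p => ⟨(p.1, fun k => ⟨p.2.1 k, p.2.2.1 k⟩), p.2.2.2⟩
      left_inv := fun p => rfl
      right_inv := fun p => by obtain ⟨a, u, hu⟩ := p; rfl }
  rw [Nat.card_congr e2, Nat.card_prod, Nat.card_pi, card_indep_nested C.r C.target ?_,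
    ← Finset.prod_pow_eq_pow_sum]
  · refine congrArg₂ (· * ·) (Finset.prod_congr rfl fun k _ => ?_) (Finset.prod_congr rfl fun k _ => ?_)
    · rw [Module.natCard_eq_pow_finrank (K := F), Nat.card_eq_fintype_card, ← C.finrank_ker_pow]
      congr 1
      have h := (π k).finrank_range_add_finrank_ker
      rw [LinearMap.range_eq_top.2 (hπ k), finrank_top, C.finrank_target, C.finrank_ker_pow] at h
      rw [C.finrank_ker_pow]
      have h2 : ∑ j, min (C.d j) (C.d k) = ∑ j, min (C.d j) (C.d k - 1) + (Finset.univ.filter fun j => C.d k ≤ C.d j).card := by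
        rw [Finset.card_filter, ← Finset.sum_add_distrib]
        refine Finset.sum_congr rfl fun j _ => ?_
        have := C.pos k
        split_ifs <;> omega
      omega
    · rw [C.finrank_target]
  · intro a b hab x hx
    refine ⟨hx.1, ?_⟩
    obtain ⟨y, rfl⟩ := hx.2
    have hle := hd a b hab
    refine ⟨(f ^ (C.d a - C.d b)) y, ?_⟩
    rw [← Module.End.mul_apply, ← pow_add]
    have := C.pos b
    congr 2
    omega

/-- Reorder the chains. -/
noncomputable def Chains.perm (σ : Equiv.Perm (Fin C.r)) : Chains f where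
  r := C.r
  d := C.d ∘ σ
  pos k := C.pos (σ k)
  gen := C.gen ∘ σ
  gen_zero k := C.gen_zero (σ k)
  b := C.b.reindex (Equiv.sigmaCongrLeft (β := fun k => Fin (C.d k)) σ).symm
  b_apply s := by
    rw [Basis.reindex_apply, Equiv.symm_symm, Equiv.sigmaCongrLeft_apply, C.b_apply]
    rfl

end Cfsg.Agent.Jordan57
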