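import Cfsg.Agent.Helper57CentCount

/-!
The count specialised to a Jordan matrix.
-/

set_option autoImplicit false

namespace Cfsg.Agent.Jordan57

variable {t : ℕ}

theorem lt_card_ge_iff (e : Fin t → ℕ) (he : Antitone e) (i : ℕ) (k : Fin t) :
    (k : ℕ) < (Finset.univ.filter fun j => i ≤ e j).card ↔ i ≤ e k := by
  constructor
  · intro h
    by_contra hk
    have hsub : (Finset.univ.filter fun j => i ≤ e j) ⊆ Finset.Iio k := by
      intro j hj
      rw [Finset.mem_filter] at hj
      rw [Finset.mem_Iio]
      by_contra hjk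
      exact hk (hj.2.trans (he (not_lt.1 hjk)))
    have := Finset.card_le_card hsub
    rw [Fin.card_Iio] at this
    omega
  · intro h
    have hsub : Finset.Iic k ⊆ Finset.univ.filter fun j => i ≤ e j := by
      intro j hj
      rw [Finset.mem_Iic] at hj
      exact Finset.mem_filter.2 ⟨Finset.mem_univ _, h.trans (he hj)⟩
    have := Finset.card_le_card hsub
    rw [Fin.card_Iic] at this
    omega

theorem card_ge_eq (e : Fin t → ℕ) (i : ℕ) :
    (Finset.univ.filter fun j => i ≤ e j).card =
      (Finset.univ.filter fun j => i < e j).card + (Finset.univ.filter fun j => e j = i).card := by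
  rw [Finset.card_filter, Finset.card_filter, Finset.card_filter, ← Finset.sum_add_distrib]
  exact Finset.sum_congr rfl fun j _ => by split_ifs <;> omega

/-- The product over a sorted family, grouped by values. -/
theorem prod_antitone (e : Fin t → ℕ) (he : Antitone e) (M : ℕ) (hM : ∀ k, e k < M) (q : ℕ) :
    ∏ k : Fin t, (q ^ (Finset.univ.filter fun j => e k ≤ e j).card - q ^ (k : ℕ)) =
      q ^ (∑ k : Fin t, (Finset.univ.filter fun j => e k < e j).card) *
        ∏ i ∈ Finset.range M, ∏ j : Fin ((Finset.univ.filter fun k => e k = i).card),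
          (q ^ (Finset.univ.filter fun k => e k = i).card - q ^ (j : ℕ)) := by
  rw [← Finset.prod_pow_eq_pow_sum,
    ← Finset.prod_fiberwise_of_maps_to (g := e) (t := Finset.range M) (fun k _ => Finset.mem_range.2 (hM k)),
    ← Finset.prod_fiberwise_of_maps_to (g := e) (t := Finset.range M) (fun k _ => Finset.mem_range.2 (hM k)),
    ← Finset.prod_mul_distrib]
  refine Finset.prod_congr rfl fun i _ => ?_
  have hc := card_ge_eq e i
  set a := (Finset.univ.filter fun k => e k = i).card with ha
  set B := (Finset.univ.filter fun k => i < e k).card with hB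
  have hbd : ∀ k : Fin t, e k = i → B ≤ (k : ℕ) ∧ (k : ℕ) < B + a := by
    intro k hk
    constructor
    · by_contra h
      have := (lt_card_ge_iff e he (i + 1) k).1 (by simpa [hB, Nat.succ_le_iff] using not_le.1 h)
      omega
    · rw [← hc]
      exact (lt_card_ge_iff e he i k).2 hk.ge
  have hmem : ∀ j : Fin a, ∃ k : Fin t, (k : ℕ) = B + j ∧ e k = i := by
    intro j
    have hle : (Finset.univ.filter fun j => i ≤ e j).card ≤ t :=
      (Finset.card_le_univ _).trans (le_of_eq (Fintype.card_fin t))
    refine ⟨⟨B + j, by omega⟩, rfl, le_antisymm ?_ ?_⟩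
    · by_contra h
      have := (lt_card_ge_iff e he (i + 1) ⟨B + j, by omega⟩).2 (by omega)
      simp only [Nat.succ_le_iff] at this
      omega
    · exact (lt_card_ge_iff e he i _).1 (by rw [hc]; have := j.isLt; simp only; omega)
  have h1 : ∏ k ∈ Finset.univ.filter (fun k => e k = i), q ^ (Finset.univ.filter fun j => e k < e j).card
      = ∏ _j : Fin a, q ^ B := by
    rw [Finset.prod_const, Finset.card_univ, Fintype.card_fin,
      Finset.prod_congr rfl (g := fun _ => q ^ B) (fun k hk => by rw [(Finset.mem_filter.1 hk).2]),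
      Finset.prod_const]
  rw [h1, ← Finset.prod_mul_distrib]
  symm
  choose g hg1 hg2 using hmem
  refine Finset.prod_bij (fun j _ => g j) (fun j _ => Finset.mem_filter.2 ⟨Finset.mem_univ _, hg2 j⟩)
    (fun a _ b _ h => ?_) (fun k hk => ?_) (fun j _ => ?_)
  · have := congrArg Fin.val h
    rw [hg1, hg1] at this
    exact Fin.ext (by omega)
  · have hk2 := (Finset.mem_filter.1 hk).2
    obtain ⟨h2, h3⟩ := hbd k hk2
    exact ⟨⟨k - B, by omega⟩, Finset.mem_univ _, Fin.ext (by rw [hg1]; simp only; omega)⟩
  · rw [hg2 j, hc, hg1, Nat.mul_sub, ← pow_add, ← pow_add]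

theorem sum_sum_fiberwise (d : Fin t → ℕ) (M : ℕ) (hM : ∀ k, d k < M) (φ : ℕ → ℕ → ℕ) :
    ∑ k : Fin t, ∑ l : Fin t, φ (d k) (d l) =
      ∑ i ∈ Finset.range M, ∑ j ∈ Finset.range M,
        (Finset.univ.filter fun k => d k = i).card * (Finset.univ.filter fun k => d k = j).card * φ i j := by
  rw [← Finset.sum_fiberwise_of_maps_to (g := d) (t := Finset.range M) (fun k _ => Finset.mem_range.2 (hM k))]
  refine Finset.sum_congr rfl fun i _ => ?_
  rw [Finset.sum_congr rfl (g := fun _ => ∑ l : Fin t, φ i (d l)) (fun k hk => by rw [(Finset.mem_filter.1 hk).2]),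
    Finset.sum_const, smul_eq_mul,
    ← Finset.sum_fiberwise_of_maps_to (g := d) (t := Finset.range M) (fun k _ => Finset.mem_range.2 (hM k)),
    Finset.mul_sum]
  refine Finset.sum_congr rfl fun j _ => ?_
  rw [Finset.sum_congr rfl (g := fun _ => φ i j) (fun k hk => by rw [(Finset.mem_filter.1 hk).2]),
    Finset.sum_const, smul_eq_mul]
  ring

theorem gamma_eq (a : ℕ → ℕ) (s : Finset ℕ) :
    ∑ i ∈ s, ∑ j ∈ s, a i * a j * (if i = j then i - 1 else min i j) =
      2 * (∑ i ∈ s, ∑ j ∈ s, if i < j then i * a i * a j else 0) + ∑ i ∈ s, (i - 1) * a i ^ 2 := by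
  have hstep : ∀ i j, a i * a j * (if i = j then i - 1 else min i j) =
      (if i < j then i * a i * a j else 0) + (if j < i then j * a j * a i else 0)
        + (if i = j then (i - 1) * a i ^ 2 else 0) := by
    intro i j
    rcases lt_trichotomy i j with h | h | h
    · rw [if_neg h.ne, if_pos h, if_neg h.not_gt, if_neg h.ne, min_eq_left h.le]; ring
    · subst h; simp; ring
    · rw [if_neg h.ne', if_neg h.not_gt, if_pos h, if_neg h.ne', min_eq_right h.le]; ring
  simp only [hstep, Finset.sum_add_distrib]
  rw [Finset.sum_comm (f := fun i j => if j < i then j * a j * a i else 0), ← two_mul]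
  congr 1
  exact Finset.sum_congr rfl fun i hi => by rw [Finset.sum_ite_eq, if_pos hi]

/-- Invertible matrices commuting with a Jordan matrix, as endomorphisms. -/
noncomputable def glCommEquiv {F : Type*} [Field F] (d : Fin t → ℕ) :
    {g : GL ((k : Fin t) × Fin (d k)) F // (g : Matrix ((k : Fin t) × Fin (d k)) ((k : Fin t) × Fin (d k)) F) *
        Cfsg.jordanTypeMatrix d F = Cfsg.jordanTypeMatrix d F *
          (g : Matrix ((k : Fin t) × Fin (d k)) ((k : Fin t) × Fin (d k)) F)} ≃
      {T : Module.End F (((k : Fin t) × Fin (d k)) → F) // Commute T (jordanN d F) ∧ Function.Injective T} where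
  toFun g := ⟨Matrix.toLinAlgEquiv' g.1.1,
    (Commute.sub_right g.2 (Commute.one_right _) :
      Commute g.1.1 (Cfsg.jordanTypeMatrix d F - 1)).map
        (Matrix.toLinAlgEquiv' (R := F) (n := (k : Fin t) × Fin (d k))),
    ((Module.End.isUnit_iff _).1 ((g.1.isUnit).map (Matrix.toLinAlgEquiv' (R := F) (n := (k : Fin t) × Fin (d k))))).1⟩
  invFun T := ⟨(((LinearMap.isUnit_iff_ker_eq_bot T.1).2 (LinearMap.ker_eq_bot.2 T.2.2)).map
      (Matrix.toLinAlgEquiv' (R := F) (n := (k : Fin t) × Fin (d k))).symm).unit, by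
    rw [IsUnit.unit_spec]
    have h : Commute ((Matrix.toLinAlgEquiv' (R := F) (n := (k : Fin t) × Fin (d k))).symm T.1)
        (Cfsg.jordanTypeMatrix d F - 1) := by
      have e : (Matrix.toLinAlgEquiv' (R := F) (n := (k : Fin t) × Fin (d k))).symm (jordanN d F) =
          Cfsg.jordanTypeMatrix d F - 1 :=
        (Matrix.toLinAlgEquiv' (R := F) (n := (k : Fin t) × Fin (d k))).symm_apply_apply _
      rw [← e]
      exact T.2.1.map _
    have h2 := h.add_right (Commute.one_right _)
    rwa [sub_add_cancel] at h2⟩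
  left_inv g := Subtype.ext (Units.ext (by
    rw [IsUnit.unit_spec]; exact AlgEquiv.symm_apply_apply _ _))
  right_inv T := Subtype.ext (by
    show Matrix.toLinAlgEquiv' _ = T.1
    rw [IsUnit.unit_spec]; exact AlgEquiv.apply_symm_apply _ _)

theorem card_gl_comm_jordan {F : Type*} [Field F] [Fintype F] (d : Fin t → ℕ) (hd : ∀ k, 1 ≤ d k) :
    Nat.card {g : GL ((k : Fin t) × Fin (d k)) F // (g : Matrix ((k : Fin t) × Fin (d k)) ((k : Fin t) × Fin (d k)) F) *
        Cfsg.jordanTypeMatrix d F = Cfsg.jordanTypeMatrix d F *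
          (g : Matrix ((k : Fin t) × Fin (d k)) ((k : Fin t) × Fin (d k)) F)} =
      Fintype.card F ^ (2 * (∑ i ∈ Finset.range (Finset.univ.sup d + 1), ∑ j ∈ Finset.range (Finset.univ.sup d + 1),
          if i < j then i * (Finset.univ.filter (fun k : Fin t => d k = i)).card *
            (Finset.univ.filter (fun k : Fin t => d k = j)).card else 0) +
          ∑ i ∈ Finset.range (Finset.univ.sup d + 1), (i - 1) * (Finset.univ.filter (fun k : Fin t => d k = i)).card ^ 2) *
        ∏ i ∈ Finset.range (Finset.univ.sup d + 1), ∏ j : Fin ((Finset.univ.filter (fun k : Fin t => d k = i)).card),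
          (Fintype.card F ^ (Finset.univ.filter (fun k : Fin t => d k = i)).card - Fintype.card F ^ (j : ℕ)) := by
  classical
  let σ : Equiv.Perm (Fin t) := Tuple.sort (fun k => OrderDual.toDual (d k))
  let C := (jordanChains (F := F) d hd).perm σ
  have hmono : Antitone (d ∘ σ) := fun a b hab => Tuple.monotone_sort (fun k => OrderDual.toDual (d k)) hab
  set M := Finset.univ.sup d + 1 with hMdef
  have hM : ∀ k, d k < M := fun k => Nat.lt_succ_of_le (Finset.le_sup (Finset.mem_univ k))
  rw [Nat.card_congr (glCommEquiv d), C.card_comm (fun k l h => hmono h)]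
  show Fintype.card F ^ (∑ k : Fin t, ∑ j : Fin t, min (d (σ j)) (d (σ k) - 1)) *
      ∏ k : Fin t, (Fintype.card F ^ (Finset.univ.filter fun j => d (σ k) ≤ d (σ j)).card - Fintype.card F ^ (k : ℕ)) = _
  rw [prod_antitone (fun k => d (σ k)) hmono M (fun k => hM _) (Fintype.card F), ← mul_assoc, ← pow_add]
  have hcnt : ∀ i, (Finset.univ.filter fun k => d (σ k) = i).card = (Finset.univ.filter fun k => d k = i).card := by
    intro i
    rw [Finset.card_filter, Finset.card_filter]
    exact Equiv.sum_comp σ (fun k => if d k = i then 1 else 0)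
  congr 1
  · congr 1
    rw [← Finset.sum_add_distrib, ← gamma_eq,
      ← sum_sum_fiberwise d M hM (fun i j => if i = j then i - 1 else min i j)]
    rw [← Equiv.sum_comp σ (fun k => ∑ l : Fin t, if d k = d l then d k - 1 else min (d k) (d l))]
    refine Finset.sum_congr rfl fun k _ => ?_
    rw [Finset.card_filter, ← Finset.sum_add_distrib,
      ← Equiv.sum_comp σ (fun l => if d (σ k) = d l then d (σ k) - 1 else min (d (σ k)) (d l))]
    refine Finset.sum_congr rfl fun l _ => ?_
    have := hd (σ k)
    split_ifs <;> omega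
  · exact Finset.prod_congr rfl fun i _ => by rw [hcnt i]

end Cfsg.Agent.Jordan57
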