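import Cfsg.Agent.Helper57GammaO
import Cfsg.Agent.Lib.Orth.Lagrangian
import Cfsg.Agent.Lib.POmegaSim.Parity

/-!
The sign of a semisimilarity of a split quadratic form: whether it interchanges the two families of
Lagrangian subspaces. Valid in every characteristic.
-/

set_option autoImplicit false
set_option linter.unusedSectionVars false

namespace Cfsg.Agent.ClassSign57

open Matrix QuadraticMap CfsgLib.Orth Cfsg.Agent.GammaO57

variable {F : Type*} [Field F] {ι : Type} [Fintype ι] [DecidableEq ι]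

/-- The image of a subspace under a semilinear map. -/
def img (x : GLS ι F) (U : Submodule F (ι → F)) : Submodule F (ι → F) where
  carrier := semi x '' U
  add_mem' := by
    rintro _ _ ⟨a, ha, rfl⟩ ⟨b, hb, rfl⟩
    exact ⟨a + b, U.add_mem ha hb, semi_add x a b⟩
  zero_mem' := ⟨0, U.zero_mem, by
    have h : x.right ∘ (0 : ι → F) = 0 := funext fun i => map_zero x.right
    rw [semi, h, mulVec_zero]⟩
  smul_mem' := by
    rintro t _ ⟨a, ha, rfl⟩
    exact ⟨x.right.symm t • a, U.smul_mem _ ha, by rw [semi_smul, RingEquiv.apply_symm_apply]⟩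

theorem mem_img {x : GLS ι F} {U : Submodule F (ι → F)} {v : ι → F} :
    v ∈ img x U ↔ ∃ u ∈ U, semi x u = v := Iff.rfl

theorem semi_injective (x : GLS ι F) : Function.Injective (semi x) :=
  Function.LeftInverse.injective (semi_inv_semi x)

theorem img_inf (x : GLS ι F) (U W : Submodule F (ι → F)) : img x (U ⊓ W) = img x U ⊓ img x W :=
  SetLike.coe_injective (Set.image_inter (semi_injective x))

theorem img_mul (x y : GLS ι F) (U : Submodule F (ι → F)) : img (x * y) U = img x (img y U) := by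
  apply SetLike.coe_injective
  show semi (x * y) '' (U : Set (ι → F)) = semi x '' (semi y '' U)
  rw [Set.image_image]
  exact Set.image_congr fun v _ => semi_mul x y v

theorem img_inl (g : GL ι F) (U : Submodule F (ι → F)) :
    img (SemidirectProduct.inl g) U = Cfsg.imageSubmodule (g : Matrix ι ι F) U := by
  apply SetLike.coe_injective
  rw [Cfsg.imageSubmodule, Submodule.map_coe]
  refine Set.image_congr fun v _ => ?_
  show ((g : GL ι F) : Matrix ι ι F) *ᵥ ((1 : F ≃+* F) ∘ v) = _
  rw [Matrix.toLin'_apply]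
  rfl

variable [Finite F]

theorem finrank_img (x : GLS ι F) (U : Submodule F (ι → F)) :
    Module.finrank F ↥(img x U) = Module.finrank F ↥U := by
  have := Fintype.ofFinite F
  refine Nat.pow_right_injective (a := Nat.card F) (Finite.one_lt_card (α := F)) ?_
  show Nat.card F ^ _ = Nat.card F ^ _
  rw [← Module.natCard_eq_pow_finrank, ← Module.natCard_eq_pow_finrank]
  exact (Nat.card_congr (Equiv.Set.image _ (U : Set (ι → F)) (semi_injective x))).symm

/-- A Lagrangian subspace. -/
structure Lag (Q : QuadraticForm F (ι → F)) where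
  /-- half of the dimension -/
  m : ℕ
  hm : Fintype.card ι = 2 * m
  nondeg : Q.polarBilin.Nondegenerate
  /-- the subspace -/
  W : Submodule F (ι → F)
  sing : ∀ w ∈ W, Q w = 0
  dim : Module.finrank F W = m

variable {Q : QuadraticForm F (ι → F)} (L : Lag Q)

namespace Lag

theorem hV : Module.finrank F (ι → F) = 2 * L.m := by rw [Module.finrank_fintype_fun_eq_card, L.hm]

theorem parity {U X Y : Submodule F (ι → F)} (hU : ∀ u ∈ U, Q u = 0) (hX : ∀ u ∈ X, Q u = 0)
    (hY : ∀ u ∈ Y, Q u = 0) (dU : Module.finrank F U = L.m) (dX : Module.finrank F X = L.m)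
    (dY : Module.finrank F Y = L.m) :
    ((-1 : ℤˣ) ^ (L.m - Module.finrank F ↥(U ⊓ Y))) =
      (-1) ^ (L.m - Module.finrank F ↥(U ⊓ X)) * (-1) ^ (L.m - Module.finrank F ↥(X ⊓ Y)) := by
  have h := CfsgLib.Orth.lagrangian_parity Q L.nondeg L.hV hU hX hY dU dX dY
  have e : ∀ {a b c : ℕ}, Even (a + b + c) → ((-1 : ℤˣ) ^ c) = (-1) ^ a * (-1) ^ b := fun {a b c} h => by
    rw [← pow_add, Units.ext_iff]
    push_cast
    rw [neg_one_pow_eq_pow_mod_two (R := ℤ), neg_one_pow_eq_pow_mod_two (R := ℤ) (a + b)]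
    congr 1
    rw [Nat.even_iff] at h
    omega
  exact e h

theorem sing_img {x : GLS ι F} (hx : x ∈ semiGroup Q) {U : Submodule F (ι → F)}
    (hU : ∀ u ∈ U, Q u = 0) : ∀ u ∈ img x U, Q u = 0 := by
  rintro _ ⟨u, hu, rfl⟩
  obtain ⟨c, hc⟩ := hx
  rw [hc, hU u hu, map_zero, mul_zero]

theorem dim_img (x : GLS ι F) {U : Submodule F (ι → F)} (dU : Module.finrank F U = L.m) :
    Module.finrank F ↥(img x U) = L.m := (finrank_img x U).trans dU

theorem sign_mul {U : Submodule F (ι → F)} (hU : ∀ u ∈ U, Q u = 0) (dU : Module.finrank F U = L.m)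
    (x y : ↥(semiGroup Q)) :
    ((-1 : ℤˣ) ^ (L.m - Module.finrank F ↥(U ⊓ img (x * y : ↥(semiGroup Q)).1 U))) =
      (-1) ^ (L.m - Module.finrank F ↥(U ⊓ img x.1 U)) *
        (-1) ^ (L.m - Module.finrank F ↥(U ⊓ img y.1 U)) := by
  rw [Subgroup.coe_mul, img_mul, L.parity hU (sing_img x.2 hU) (sing_img x.2 (sing_img y.2 hU)) dU
    (L.dim_img _ dU) (L.dim_img _ (L.dim_img _ dU)), ← img_inf, finrank_img]

/-- The sign. -/
noncomputable def sgn : ↥(semiGroup Q) →* ℤˣ where
  toFun x := (-1) ^ (L.m - Module.finrank F ↥(L.W ⊓ img x.1 L.W))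
  map_one' := by
    have h : img (1 : ↥(semiGroup Q)).1 L.W = L.W := by
      apply SetLike.coe_injective
      show semi (1 : GLS ι F) '' (L.W : Set (ι → F)) = L.W
      exact (Set.image_congr fun v _ => semi_one v).trans (Set.image_id' _)
    rw [h, inf_idem, L.dim, Nat.sub_self, pow_zero]
  map_mul' x y := L.sign_mul L.sing L.dim x y

theorem sgn_apply (x : ↥(semiGroup Q)) :
    L.sgn x = (-1) ^ (L.m - Module.finrank F ↥(L.W ⊓ img x.1 L.W)) := rfl

theorem sgn_eq_one_of_stab {x : ↥(semiGroup Q)} (h : ∀ w ∈ L.W, semi x.1 w ∈ L.W) : L.sgn x = 1 := by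
  have e : img x.1 L.W = L.W :=
    Submodule.eq_of_le_of_finrank_eq (by rintro _ ⟨w, hw, rfl⟩; exact h w hw) (finrank_img _ _)
  rw [sgn_apply, e, inf_idem, L.dim, Nat.sub_self, pow_zero]

/-- The sign may be read on any Lagrangian subspace. -/
theorem sgn_eq {U : Submodule F (ι → F)} (hU : ∀ u ∈ U, Q u = 0) (dU : Module.finrank F U = L.m)
    (x : ↥(semiGroup Q)) :
    L.sgn x = (-1) ^ (L.m - Module.finrank F ↥(U ⊓ img x.1 U)) := by
  rw [L.parity hU L.sing (sing_img x.2 hU) dU L.dim (L.dim_img _ dU),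
    L.parity L.sing (sing_img x.2 L.sing) (sing_img x.2 hU) L.dim (L.dim_img _ L.dim) (L.dim_img _ dU),
    ← img_inf, finrank_img, inf_comm U L.W, ← sgn_apply, mul_left_comm]
  rw [Int.units_mul_self, mul_one]

theorem finrank_le_of_tsing {X : Submodule F (ι → F)} (hX : ∀ u ∈ X, Q u = 0) (hle : L.W ≤ X) :
    X = L.W := by
  refine le_antisymm ?_ hle
  have o := CfsgLib.Orth.ts_max_orth Q L.nondeg L.hV L.sing L.dim
  intro v hv
  rw [← o]
  intro w hw
  exact CfsgLib.Orth.ts_polar_eq_zero Q hX (hle hw) hv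

theorem isMax : Cfsg.IsMaxTotallySingular (⇑Q) L.W :=
  ⟨L.sing, fun _ hX hle => L.finrank_le_of_tsing hX hle⟩

theorem finrank_max {U : Submodule F (ι → F)} (hU : Cfsg.IsMaxTotallySingular (⇑Q) U) :
    Module.finrank F U = L.m := by
  obtain ⟨h, -, hh⟩ := CfsgLib.POmegaSim.exists_move L.isMax _ U hU.1 rfl
  obtain ⟨h', -, hh'⟩ := CfsgLib.POmegaSim.exists_move hU _ L.W L.sing rfl
  have e1 := Submodule.finrank_mono hh
  have e2 := Submodule.finrank_mono hh'
  rw [(Submodule.equivMapOfInjective (app h) (app_injective h) U).finrank_eq.symm, L.dim] at e1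
  rw [(Submodule.equivMapOfInjective (app h') (app_injective h') L.W).finrank_eq.symm, L.dim] at e2
  omega

theorem preserves_iff (g : GL ι F) (hg : SemidirectProduct.inl g ∈ semiGroup Q) :
    Cfsg.PreservesSingularClasses (⇑Q) (g : Matrix ι ι F) ↔ L.sgn ⟨_, hg⟩ = 1 := by
  have key : ∀ {n : ℕ}, ((-1 : ℤˣ) ^ n = 1 ↔ Even n) := fun {n} => by
    rw [Units.ext_iff]
    simp [neg_one_pow_eq_one_iff_even]
  constructor
  · intro h
    have h' := h _ L.isMax
    rw [Cfsg.SameParityClass, L.dim, ← img_inl] at h'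
    exact key.2 h'
  · intro h U hU
    rw [L.sgn_eq hU.1 (L.finrank_max hU)] at h
    rw [Cfsg.SameParityClass, L.finrank_max hU, ← img_inl]
    exact key.1 h

theorem sgn_refl {v : ι → F} (hv : Q v ≠ 0) {x : ↥(semiGroup Q)}
    (hx : ∀ u, semi x.1 u = app (refl Q v) u) : L.sgn x = -1 := by
  set H := L.W ⊓ LinearMap.ker (Q.polarBilin v)
  have hvW : v ∉ L.W := fun h => hv (L.sing v h)
  have hle : H ≤ L.W ⊓ img x.1 L.W := by
    rintro u ⟨huW, hu⟩
    refine ⟨huW, u, huW, ?_⟩
    rw [hx]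
    exact app_refl_of_ortho (by rw [polar_comm]; exact hu)
  have hne : img x.1 L.W ≠ L.W := by
    intro e
    have hker : ∀ w ∈ L.W, polar Q v w = 0 := by
      intro w hw
      have h1 : semi x.1 w ∈ L.W := e ▸ ⟨w, hw, rfl⟩
      rw [hx, app_refl] at h1
      by_contra h0
      apply hvW
      have h2 := L.W.sub_mem hw h1
      rw [sub_sub_cancel, polar_comm] at h2
      have := L.W.smul_mem ((Q v)⁻¹ * polar Q v w)⁻¹ h2
      rwa [smul_smul, inv_mul_cancel₀ (mul_ne_zero (inv_ne_zero hv) h0), one_smul] at this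
    apply hvW
    rw [← CfsgLib.Orth.ts_max_orth Q L.nondeg L.hV L.sing L.dim]
    intro w hw
    show polar Q w v = 0
    rw [polar_comm]
    exact hker w hw
  have h1 : L.m ≤ Module.finrank F H + 1 := by
    rw [← L.dim]
    exact CfsgLib.POmegaSim.finrank_le_inf_ker_add_one L.W (Q.polarBilin v)
  have h2 : Module.finrank F ↥(L.W ⊓ img x.1 L.W) < L.m := by
    refine lt_of_le_of_ne ((Submodule.finrank_mono inf_le_left).trans L.dim.le) fun h => hne ?_
    have e : L.W ⊓ img x.1 L.W = L.W :=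
      Submodule.eq_of_le_of_finrank_eq inf_le_left (h.trans L.dim.symm)
    exact (Submodule.eq_of_le_of_finrank_eq (inf_eq_left.1 e) (finrank_img _ _).symm).symm
  have h3 := Submodule.finrank_mono hle
  rw [sgn_apply, show L.m - Module.finrank F ↥(L.W ⊓ img x.1 L.W) = 1 by omega, pow_one]

theorem sgn_scalar {x : ↥(semiGroup Q)} (h1 : x.1.right = 1) {c : Fˣ}
    (hc : x.1.left = GeneralLinearGroup.scalar ι c) : L.sgn x = 1 := by
  refine L.sgn_eq_one_of_stab fun w hw => ?_
  have e : semi x.1 w = (c : F) • w := by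
    rw [semi, h1, hc]
    show Matrix.scalar ι (c : F) *ᵥ w = _
    rw [Matrix.scalar_apply, ← Matrix.smul_one_eq_diagonal, smul_mulVec, one_mulVec]
  rw [e]
  exact L.W.smul_mem _ hw

end Lag

/-- Transport of class preservation along a semilinear similarity of forms. -/
theorem preserves_transport {K L : Type*} [Field K] [Finite K] [Field L] [Finite L] {κ : Type} [Fintype κ]
    [DecidableEq κ] {Q₁ : (ι → K) → K} {Q₂ : (κ → L) → L} (hKL : Nat.card K = Nat.card L) (τ : K ≃+* L)
    (T : (ι → K) ≃+ (κ → L)) (hT : ∀ (a : K) v, T (a • v) = τ a • T v) {c : L} (hc : c ≠ 0)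
    (hQ : ∀ v, Q₂ (T v) = c * τ (Q₁ v)) (g : Matrix ι ι K) (g' : Matrix κ κ L)
    (hg : ∀ v, g' *ᵥ T v = T (g *ᵥ v)) (h : Cfsg.PreservesSingularClasses Q₁ g) :
    Cfsg.PreservesSingularClasses Q₂ g' := by
  have hT' : ∀ (a : L) w, T.symm (a • w) = τ.symm a • T.symm w := fun a w => T.injective (by
    rw [hT, T.apply_symm_apply, τ.apply_symm_apply, T.apply_symm_apply])
  let back : Submodule L (κ → L) → Submodule K (ι → K) := fun U =>
    { carrier := T ⁻¹' U
      add_mem' := fun {a b} ha hb => by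
        show T (a + b) ∈ U
        rw [map_add]; exact U.add_mem ha hb
      zero_mem' := by show T 0 ∈ U; rw [map_zero]; exact U.zero_mem
      smul_mem' := fun a v hv => by show T (a • v) ∈ U; rw [hT]; exact U.smul_mem _ hv }
  let fwd : Submodule K (ι → K) → Submodule L (κ → L) := fun U =>
    { carrier := T.symm ⁻¹' U
      add_mem' := fun {a b} ha hb => by
        show T.symm (a + b) ∈ U
        rw [map_add]; exact U.add_mem ha hb
      zero_mem' := by show T.symm 0 ∈ U; rw [map_zero]; exact U.zero_mem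
      smul_mem' := fun a v hv => by show T.symm (a • v) ∈ U; rw [hT']; exact U.smul_mem _ hv }
  have hdim : ∀ U, Module.finrank K ↥(back U) = Module.finrank L ↥U := fun U => by
    refine Nat.pow_right_injective (a := Nat.card K) (Finite.one_lt_card (α := K)) ?_
    show Nat.card K ^ _ = Nat.card K ^ _
    rw [← Module.natCard_eq_pow_finrank, hKL, ← Module.natCard_eq_pow_finrank]
    exact Nat.card_congr (T.toEquiv.subtypeEquiv fun v => Iff.rfl)
  have hTinv : ∀ w, Q₂ w = 0 → Q₁ (T.symm w) = 0 := fun w hw => by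
    have h1 := hQ (T.symm w)
    rw [T.apply_symm_apply, hw, eq_comm, mul_eq_zero] at h1
    exact τ.injective ((h1.resolve_left hc).trans (map_zero τ).symm)
  intro U hU
  have hmax : Cfsg.IsMaxTotallySingular Q₁ (back U) := by
    refine ⟨fun v hv => by
      have h1 := hTinv _ (hU.1 _ hv)
      rwa [T.symm_apply_apply] at h1, fun X hX hle => ?_⟩
    have h1 := hU.2 (fwd X) (fun w hw => by
      have h2 := hQ (T.symm w)
      rw [T.apply_symm_apply, hX _ hw, map_zero, mul_zero] at h2
      exact h2) fun u hu => hle (by show T (T.symm u) ∈ U; rwa [T.apply_symm_apply])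
    refine SetLike.ext fun v => ?_
    show v ∈ X ↔ T v ∈ U
    rw [← h1]
    show v ∈ X ↔ T.symm (T v) ∈ X
    rw [T.symm_apply_apply]
  have hinf : back (U ⊓ Cfsg.imageSubmodule g' U) = back U ⊓ Cfsg.imageSubmodule g (back U) := by
    refine SetLike.ext fun v => and_congr_right fun _ => ?_
    simp only [Cfsg.imageSubmodule, Submodule.mem_map, Matrix.toLin'_apply, SetLike.mem_coe]
    constructor
    · rintro ⟨u, hu, e⟩
      refine ⟨T.symm u, by show T (T.symm u) ∈ U; rwa [T.apply_symm_apply], T.injective ?_⟩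
      rw [← hg, T.apply_symm_apply, e]
    · rintro ⟨u, hu, e⟩
      exact ⟨T u, hu, by rw [hg, e]⟩
  have h2 := h _ hmax
  rw [Cfsg.SameParityClass, ← hinf, hdim, hdim] at h2
  exact h2

end Cfsg.Agent.ClassSign57
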