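import Cfsg.Agent.Helper57NilpJordan
import Cfsg.Agent.Lib.Orth.Lagrangian

/-!
Rank profiles of isometries and skew endomorphisms: parity of multiplicities of parts.
-/

set_option autoImplicit false
set_option linter.unusedSectionVars false

namespace Cfsg.Agent.JordanForm57

open Module

variable {F : Type*} [Field F] {V : Type*} [AddCommGroup V] [Module F V] [FiniteDimensional F V]

theorem finrank_range_inf_ker (N : End F V) (a b : ℕ) :
    finrank F ↥(LinearMap.range (N ^ a) ⊓ LinearMap.ker (N ^ b)) + finrank F (LinearMap.range (N ^ (a + b))) =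
      finrank F (LinearMap.range (N ^ a)) := by
  have h1 := ((N ^ b : End F V).domRestrict (LinearMap.range (N ^ a))).finrank_range_add_finrank_ker
  have hr : LinearMap.range ((N ^ b : End F V).domRestrict (LinearMap.range (N ^ a))) = LinearMap.range (N ^ (a + b)) := by
    rw [LinearMap.range_domRestrict, ← LinearMap.range_comp, add_comm, pow_add]
    rfl
  have hk : finrank F (LinearMap.ker ((N ^ b : End F V).domRestrict (LinearMap.range (N ^ a)))) =
      finrank F ↥(LinearMap.range (N ^ a) ⊓ LinearMap.ker (N ^ b)) := by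
    rw [← Submodule.finrank_map_subtype_eq, LinearMap.ker_domRestrict, Submodule.map_comap_subtype]
  rw [hr, hk] at h1
  omega

theorem range_pow_le (N : End F V) {a b : ℕ} (h : a ≤ b) : LinearMap.range (N ^ b) ≤ LinearMap.range (N ^ a) := by
  obtain ⟨e, rfl⟩ := Nat.exists_eq_add_of_le h
  rw [pow_add]
  exact LinearMap.range_comp_le_range _ _

theorem ker_pow_le (N : End F V) {a b : ℕ} (h : a ≤ b) : LinearMap.ker (N ^ a) ≤ LinearMap.ker (N ^ b) := by
  obtain ⟨e, rfl⟩ := Nat.exists_eq_add_of_le h
  rw [add_comm, pow_add]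
  exact LinearMap.ker_le_ker_comp _ _

variable (B : LinearMap.BilinForm F V)

theorem orth_sup (A C : Submodule F V) : B.orthogonal (A ⊔ C) = B.orthogonal A ⊓ B.orthogonal C := by
  refine le_antisymm (le_inf (LinearMap.BilinForm.orthogonal_le le_sup_left)
    (LinearMap.BilinForm.orthogonal_le le_sup_right)) fun x hx n hn => ?_
  obtain ⟨a, ha, c, hc, rfl⟩ := Submodule.mem_sup.1 hn
  show B (a + c) x = 0
  rw [map_add, LinearMap.add_apply, show B a x = 0 from (Submodule.mem_inf.1 hx).1 a ha,
    show B c x = 0 from (Submodule.mem_inf.1 hx).2 c hc, add_zero]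

theorem orth_inf {B : LinearMap.BilinForm F V} (hB : B.Nondegenerate) (hr : B.IsRefl) (A C : Submodule F V) :
    B.orthogonal (A ⊓ C) = B.orthogonal A ⊔ B.orthogonal C := by
  rw [← LinearMap.BilinForm.orthogonal_orthogonal hB hr (B.orthogonal A ⊔ B.orthogonal C), orth_sup,
    LinearMap.BilinForm.orthogonal_orthogonal hB hr, LinearMap.BilinForm.orthogonal_orthogonal hB hr]

/-- `B.orthogonal` of a power's range is the kernel, given an adjoint. -/
theorem orth_range {B : LinearMap.BilinForm F V} (hB : B.Nondegenerate) (T T' : End F V)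
    (h : ∀ x y, B (T x) y = B x (T' y)) : B.orthogonal (LinearMap.range T) = LinearMap.ker T' := by
  ext y
  constructor
  · intro hy
    refine LinearMap.mem_ker.2 (hB.2 _ fun x => ?_)
    rw [← h]
    exact hy _ (LinearMap.mem_range_self _ _)
  · rintro hy _ ⟨x, rfl⟩
    show B (T x) y = 0
    rw [h, LinearMap.mem_ker.1 hy, map_zero]

theorem adjoint_pow {B : LinearMap.BilinForm F V} {T T' : End F V} (h : ∀ x y, B (T x) y = B x (T' y)) (k : ℕ) :
    ∀ x y, B ((T ^ k) x) y = B x ((T' ^ k) y) := by
  induction k with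
  | zero => exact fun x y => rfl
  | succ k ih =>
    intro x y
    rw [pow_succ, pow_succ', Module.End.mul_apply, Module.End.mul_apply, ih, h]

/-- rank of an alternating form, via its radical -/
theorem even_of_alt {W R : Submodule F V} (β : LinearMap.BilinForm F W) (hβ : β.IsAlt)
    (hR : ∀ x : W, x ∈ LinearMap.ker β ↔ (x : V) ∈ R) (hle : R ≤ W) :
    Even (finrank F W - finrank F R) := by
  have h := CfsgLib.Orth.alt_even_corank β hβ
  have e : LinearMap.ker β = R.comap W.subtype := Submodule.ext hR
  rwa [e, (Submodule.comapSubtypeEquivOfLe hle).finrank_eq] at h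

/-- For an alternating form with `ker (N^k) = (range N^k)^⊥`, odd parts have even multiplicity. -/
theorem even_step_of_alt {B : LinearMap.BilinForm F V} (hB : B.Nondegenerate) (hA : B.IsAlt) (N : End F V)
    (horth : ∀ k, B.orthogonal (LinearMap.range (N ^ k)) = LinearMap.ker (N ^ k)) (i : ℕ) :
    Even (finrank F (LinearMap.range (N ^ (2 * i))) + finrank F (LinearMap.range (N ^ (2 * i + 2)))
      - 2 * finrank F (LinearMap.range (N ^ (2 * i + 1)))) := by
  have hr : B.IsRefl := hA.isRefl
  have horth' : ∀ k, B.orthogonal (LinearMap.ker (N ^ k)) = LinearMap.range (N ^ k) := fun k => by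
    rw [← horth, LinearMap.BilinForm.orthogonal_orthogonal hB hr]
  set W := LinearMap.range (N ^ i) ⊓ LinearMap.ker (N ^ (i + 1)) with hW
  set P := LinearMap.range (N ^ i) ⊓ LinearMap.ker (N ^ i) with hP
  set Q := LinearMap.range (N ^ (i + 1)) ⊓ LinearMap.ker (N ^ (i + 1)) with hQ
  have hWo : B.orthogonal W = LinearMap.ker (N ^ i) ⊔ LinearMap.range (N ^ (i + 1)) := by
    rw [hW, orth_inf hB hr, horth, horth']
  have hrad : W ⊓ B.orthogonal W = P ⊔ Q := by
    rw [hWo]
    refine le_antisymm ?_ (sup_le ?_ ?_)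
    · rintro z ⟨⟨hz1, hz2⟩, hz⟩
      obtain ⟨a, ha, b, hb, rfl⟩ := Submodule.mem_sup.1 hz
      refine Submodule.add_mem_sup ⟨?_, ha⟩ ⟨hb, ?_⟩
      · simpa using sub_mem hz1 (range_pow_le N (Nat.le_succ i) hb)
      · simpa using sub_mem hz2 (ker_pow_le N (Nat.le_succ i) ha)
    · exact le_inf (inf_le_inf_left _ (ker_pow_le N (Nat.le_succ i))) (inf_le_right.trans le_sup_left)
    · exact le_inf (inf_le_inf_right _ (range_pow_le N (Nat.le_succ i))) (inf_le_left.trans le_sup_right)
  have heven := even_of_alt (R := W ⊓ B.orthogonal W) (LinearMap.BilinForm.restrict B W) (fun x => hA _)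
    (fun x => ⟨fun h => ⟨x.2, fun y hy => hr _ _ (LinearMap.congr_fun (LinearMap.mem_ker.1 h) ⟨y, hy⟩)⟩,
      fun h => LinearMap.mem_ker.2 (LinearMap.ext fun y => hr _ _ (h.2 _ y.2))⟩) inf_le_left
  rw [hrad] at heven
  have hPQ : P ⊓ Q = LinearMap.range (N ^ (i + 1)) ⊓ LinearMap.ker (N ^ i) :=
    le_antisymm (le_inf (inf_le_right.trans inf_le_left) (inf_le_left.trans inf_le_right))
      (le_inf (inf_le_inf_right _ (range_pow_le N (Nat.le_succ i))) (inf_le_inf_left _ (ker_pow_le N (Nat.le_succ i))))
  have s := Submodule.finrank_sup_add_finrank_inf_eq P Q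
  rw [hPQ] at s
  have f1 := finrank_range_inf_ker N i (i + 1)
  have f2 := finrank_range_inf_ker N i i
  have f3 := finrank_range_inf_ker N (i + 1) (i + 1)
  have f4 := finrank_range_inf_ker N (i + 1) i
  rw [← hW, show i + (i + 1) = 2 * i + 1 by omega] at f1
  rw [← hP, show i + i = 2 * i by omega] at f2
  rw [← hQ, show i + 1 + (i + 1) = 2 * i + 2 by omega] at f3
  rw [show i + 1 + i = 2 * i + 1 by omega] at f4
  convert heven using 1
  omega

/-- For a symmetric form and a skew endomorphism in characteristic not two, even parts have even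
multiplicity. -/
theorem even_step_of_skew {B : LinearMap.BilinForm F V} (h2 : (2 : F) ≠ 0) (hB : B.Nondegenerate)
    (hS : B.IsSymm) (M : End F V) (hskew : ∀ x y, B (M x) y = -B x (M y)) (i : ℕ) :
    Even (finrank F (LinearMap.range (M ^ (2 * i + 1))) + finrank F (LinearMap.range (M ^ (2 * i + 3)))
      - 2 * finrank F (LinearMap.range (M ^ (2 * i + 2)))) := by
  have hr : B.IsRefl := fun x y h => by rw [hS.eq]; exact h
  have horth : ∀ k, B.orthogonal (LinearMap.range (M ^ k)) = LinearMap.ker (M ^ k) := fun k => by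
    rw [orth_range hB (M ^ k) ((-M) ^ k) (adjoint_pow (T := M) (T' := -M)
      (fun x y => by rw [hskew, LinearMap.neg_apply, map_neg]) k)]
    ext y
    rcases Nat.even_or_odd k with h | h
    · rw [h.neg_pow]
    · rw [h.neg_pow]; simp
  have horth' : ∀ k, B.orthogonal (LinearMap.ker (M ^ k)) = LinearMap.range (M ^ k) := fun k => by
    rw [← horth, LinearMap.BilinForm.orthogonal_orthogonal hB hr]
  set W := LinearMap.range (M ^ i) ⊓ LinearMap.ker (M ^ (i + 2)) with hW
  set P := LinearMap.range (M ^ i) ⊓ LinearMap.ker (M ^ (i + 1)) with hP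
  set Q := LinearMap.range (M ^ (i + 1)) ⊓ LinearMap.ker (M ^ (i + 2)) with hQ
  have hWo : B.orthogonal W = LinearMap.ker (M ^ i) ⊔ LinearMap.range (M ^ (i + 2)) := by
    rw [hW, orth_inf hB hr, horth, horth']
  have hrad : W ⊓ (B.orthogonal W).comap M = P ⊔ Q := by
    rw [hWo]
    refine le_antisymm ?_ (sup_le ?_ ?_)
    · rintro z ⟨⟨hz1, hz2⟩, hz⟩
      obtain ⟨a, ha, b, hb, hab⟩ := Submodule.mem_sup.1 (Submodule.mem_comap.1 hz)
      obtain ⟨c, rfl⟩ := hb
      have hMy : M ((M ^ (i + 1)) c) = (M ^ (i + 2)) c := by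
        rw [← Module.End.mul_apply, ← pow_succ']
      have hz' : M (z - (M ^ (i + 1)) c) = a := by rw [map_sub, hMy, ← hab, add_sub_cancel_right]
      have hker : z - (M ^ (i + 1)) c ∈ LinearMap.ker (M ^ (i + 1)) := by
        rw [LinearMap.mem_ker, pow_succ, Module.End.mul_apply]
        exact (congrArg (M ^ i) hz').trans ha
      have hrange : (M ^ (i + 1)) c ∈ LinearMap.range (M ^ i) :=
        range_pow_le M (Nat.le_succ i) (LinearMap.mem_range_self _ _)
      rw [← sub_add_cancel z ((M ^ (i + 1)) c)]
      refine Submodule.add_mem_sup ⟨sub_mem hz1 hrange, hker⟩ ⟨LinearMap.mem_range_self _ _, ?_⟩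
      simpa using sub_mem hz2 (ker_pow_le M (Nat.le_succ (i + 1)) hker)
    · refine le_inf (inf_le_inf_left _ (ker_pow_le M (Nat.le_succ _))) fun z hz => Submodule.mem_sup_left ?_
      rw [LinearMap.mem_ker, ← Module.End.mul_apply, ← pow_succ]
      exact hz.2
    · refine le_inf (inf_le_inf_right _ (range_pow_le M (Nat.le_succ _))) ?_
      rintro z ⟨⟨c, rfl⟩, -⟩
      refine Submodule.mem_sup_right ⟨c, ?_⟩
      rw [← Module.End.mul_apply, ← pow_succ']
  let β : LinearMap.BilinForm F W := B.compl₁₂ (M.comp W.subtype) W.subtype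
  have hβ : β.IsAlt := fun x => by
    show B (M x) x = 0
    have h : B (M (x : V)) x = -B (M (x : V)) x := by
      conv_lhs => rw [hskew, hS.eq]
    have h' : (2 : F) * B (M (x : V)) x = 0 := by linear_combination h
    exact (mul_eq_zero.1 h').resolve_left h2
  have heven := even_of_alt (R := W ⊓ (B.orthogonal W).comap M) β hβ
    (fun x => ⟨fun h => ⟨x.2, fun y hy => hr _ _ (LinearMap.congr_fun (LinearMap.mem_ker.1 h) ⟨y, hy⟩)⟩,
      fun h => LinearMap.mem_ker.2 (LinearMap.ext fun y => hr _ _ (h.2 _ y.2))⟩) inf_le_left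
  rw [hrad] at heven
  have hPQ : P ⊓ Q = LinearMap.range (M ^ (i + 1)) ⊓ LinearMap.ker (M ^ (i + 1)) :=
    le_antisymm (le_inf (inf_le_right.trans inf_le_left) (inf_le_left.trans inf_le_right))
      (le_inf (inf_le_inf_right _ (range_pow_le M (Nat.le_succ i))) (inf_le_inf_left _ (ker_pow_le M (Nat.le_succ _))))
  have s := Submodule.finrank_sup_add_finrank_inf_eq P Q
  rw [hPQ] at s
  have f1 := finrank_range_inf_ker M i (i + 2)
  have f2 := finrank_range_inf_ker M i (i + 1)
  have f3 := finrank_range_inf_ker M (i + 1) (i + 2)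
  have f4 := finrank_range_inf_ker M (i + 1) (i + 1)
  rw [← hW, show i + (i + 2) = 2 * i + 2 by omega] at f1
  rw [← hP, show i + (i + 1) = 2 * i + 1 by omega] at f2
  rw [← hQ, show i + 1 + (i + 2) = 2 * i + 3 by omega] at f3
  rw [show i + 1 + (i + 1) = 2 * i + 2 by omega] at f4
  convert heven using 1
  omega

theorem finrank_range_comp_injective (A U : End F V) (hU : Function.Injective U) :
    finrank F (LinearMap.range (U * A)) = finrank F (LinearMap.range A) := by
  rw [Module.End.mul_eq_comp, LinearMap.range_comp]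
  exact ((LinearMap.range A).equivMapOfInjective U hU).finrank_eq.symm

/-- An isometry of an alternating non-degenerate form: multiplicities of odd parts are even. -/
theorem even_count_alt {B : LinearMap.BilinForm F V} (hB : B.Nondegenerate) (hA : B.IsAlt) (T : End F V)
    (hT : ∀ x y, B (T x) (T y) = B x y) {μ : Multiset ℕ}
    (hμ : ∀ k, finrank F (LinearMap.range ((T - 1) ^ k)) = CfsgLib.RankProfile.partProfile μ k)
    (j : ℕ) (hj : Odd j) : Even (μ.count j) := by
  have hinj : Function.Injective T := by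
    rw [← LinearMap.ker_eq_bot]
    refine (Submodule.eq_bot_iff _).2 fun x hx => hB.1 x fun y => ?_
    rw [← hT, LinearMap.mem_ker.1 hx, map_zero, LinearMap.zero_apply]
  set e := LinearEquiv.ofInjectiveEndo T hinj
  let S : End F V := e.symm.toLinearMap
  have hTS : T * S = 1 := LinearMap.ext fun x => e.apply_symm_apply x
  have hST : S * T = 1 := LinearMap.ext fun x => e.symm_apply_apply x
  have hadj : ∀ x y, B ((T - 1) x) y = B x ((S - 1) y) := by
    intro x y
    rw [LinearMap.sub_apply, LinearMap.sub_apply, map_sub, LinearMap.sub_apply, map_sub,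
      Module.End.one_apply, Module.End.one_apply, sub_left_inj, ← hT x (S y)]
    rw [← Module.End.mul_apply T S, hTS, Module.End.one_apply]
  have horth : ∀ k, B.orthogonal (LinearMap.range ((T - 1) ^ k)) = LinearMap.ker ((T - 1) ^ k) := by
    intro k
    rw [orth_range hB _ _ (adjoint_pow hadj k)]
    have hc : Commute (-S) (T - 1) := by
      refine Commute.neg_left (Commute.sub_right ?_ (Commute.one_right _))
      show S * T = T * S
      rw [hST, hTS]
    have hS1 : S - 1 = -S * (T - 1) := by rw [mul_sub, mul_one, neg_mul, hST]; abel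
    have hi : Function.Injective ((-S) ^ k) := by
      rw [Module.End.coe_pow]
      exact Function.Injective.iterate
        (fun a b h => e.symm.injective (show e.symm a = e.symm b from neg_injective h)) k
    rw [hS1, hc.mul_pow, Module.End.mul_eq_comp, LinearMap.ker_comp, LinearMap.ker_eq_bot.2 hi,
      Submodule.comap_bot]
  obtain ⟨i, rfl⟩ := hj
  have h := even_step_of_alt hB hA (T - 1) horth i
  rw [hμ, hμ, hμ] at h
  have h2 := CfsgLib.RankProfile.count_partProfile μ (2 * i)
  convert h using 1
  omega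

/-- An isometry of a symmetric non-degenerate form in characteristic not two: multiplicities of even
parts are even. -/
theorem even_count_symm {B : LinearMap.BilinForm F V} (h2 : (2 : F) ≠ 0) (hB : B.Nondegenerate)
    (hS : B.IsSymm) (T : End F V) (hT : ∀ x y, B (T x) (T y) = B x y) {μ : Multiset ℕ}
    (hnil : IsNilpotent (T - 1))
    (hμ : ∀ k, finrank F (LinearMap.range ((T - 1) ^ k)) = CfsgLib.RankProfile.partProfile μ k)
    (j : ℕ) (hj : Even j) (hj0 : 0 < j) : Even (μ.count j) := by
  have hinj : Function.Injective T := by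
    rw [← LinearMap.ker_eq_bot]
    refine (Submodule.eq_bot_iff _).2 fun x hx => hB.1 x fun y => ?_
    rw [← hT, LinearMap.mem_ker.1 hx, map_zero, LinearMap.zero_apply]
  set e := LinearEquiv.ofInjectiveEndo T hinj
  let S : End F V := e.symm.toLinearMap
  have hTS : T * S = 1 := LinearMap.ext fun x => e.apply_symm_apply x
  have hST : S * T = 1 := LinearMap.ext fun x => e.symm_apply_apply x
  have hadj : ∀ x y, B (T x) y = B x (S y) := fun x y => by
    rw [← hT x (S y), ← Module.End.mul_apply T S, hTS, Module.End.one_apply]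
  have hadj' : ∀ x y, B (S x) y = B x (T y) := fun x y => by
    rw [← hT (S x) y, ← Module.End.mul_apply T S, hTS, Module.End.one_apply]
  have hskew : ∀ x y, B ((T - S) x) y = -B x ((T - S) y) := by
    intro x y
    rw [LinearMap.sub_apply, LinearMap.sub_apply, map_sub, LinearMap.sub_apply, map_sub, hadj, hadj']
    ring
  have hM : T - S = S * (T + 1) * (T - 1) := by
    have h : S * (T + 1) * (T - 1) = S * T * T - S := by noncomm_ring
    rw [h, hST, one_mul]
  have hu : IsUnit (T + 1) := by
    have h : T + 1 = 2 + (T - 1) := by rw [← one_add_one_eq_two]; abel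
    rw [h]
    refine IsNilpotent.isUnit_add_left_of_commute hnil ?_ (Commute.ofNat_right _ _)
    rw [show (2 : End F V) = algebraMap F (End F V) 2 from (map_ofNat _ 2).symm]
    exact (isUnit_iff_ne_zero.2 h2).map _
  have hU : Function.Injective (S * (T + 1) : End F V) := by
    rw [Module.End.mul_eq_comp, LinearMap.coe_comp]
    exact e.symm.injective.comp ((Module.End.isUnit_iff _).1 hu).1
  have hprof : ∀ k, finrank F (LinearMap.range ((T - S) ^ k)) = CfsgLib.RankProfile.partProfile μ k := by
    intro k
    have hST' : Commute S T := hST.trans hTS.symm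
    have hc : Commute (S * (T + 1)) (T - 1) :=
      (Commute.sub_right hST' (Commute.one_right _)).mul_left
        (((Commute.refl T).add_left (Commute.one_left _)).sub_right (Commute.one_right _))
    rw [hM, hc.mul_pow, finrank_range_comp_injective _ _ (by rw [Module.End.coe_pow]; exact hU.iterate k), hμ]
  obtain ⟨i, rfl⟩ : ∃ i, j = 2 * i + 2 := ⟨j / 2 - 1, by obtain ⟨r, rfl⟩ := hj; omega⟩
  have h := even_step_of_skew h2 hB hS (T - S) hskew i
  rw [hprof, hprof, hprof] at h
  have h3 := CfsgLib.RankProfile.count_partProfile μ (2 * i + 1)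
  simp only [add_assoc, Nat.reduceAdd] at h3
  convert h using 1
  omega

end Cfsg.Agent.JordanForm57
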