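import Mathlib
import Cfsg.Prelude.Def_Classical

/-!
The standard hyperbolic form as a quadratic map; its Gram determinant.
-/

set_option autoImplicit false

namespace Cfsg.Agent.Forms57

variable {F : Type*} [Field F] {m : ℕ}

/-- `quadFormPlus` as a quadratic form. -/
noncomputable def qPlus (m : ℕ) (F : Type*) [Field F] : QuadraticForm F (Fin m ⊕ Fin m → F) :=
  ∑ i : Fin m, QuadraticMap.linMulLin (LinearMap.proj (Sum.inl i)) (LinearMap.proj (Sum.inr i))

theorem qPlus_apply (v : Fin m ⊕ Fin m → F) : qPlus m F v = Cfsg.quadFormPlus m F v := by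
  simp [qPlus, Cfsg.quadFormPlus]

theorem coe_qPlus : ⇑(qPlus m F) = Cfsg.quadFormPlus m F := funext qPlus_apply

theorem polar_plus (u v : Fin m ⊕ Fin m → F) :
    QuadraticMap.polar (Cfsg.quadFormPlus m F) u v
      = ∑ i : Fin m, (u (.inl i) * v (.inr i) + u (.inr i) * v (.inl i)) := by
  simp only [QuadraticMap.polar, Cfsg.quadFormPlus, Pi.add_apply, ← Finset.sum_sub_distrib]
  exact Finset.sum_congr rfl fun i _ => by ring

theorem det_fromBlocks_swap (n : Type*) [Fintype n] [DecidableEq n] :
    (Matrix.fromBlocks (0 : Matrix n n F) (1 : Matrix n n F) (1 : Matrix n n F) (0 : Matrix n n F)).det = (-1) ^ Fintype.card n := by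
  have h : Matrix.fromBlocks (1 : Matrix n n F) (1 : Matrix n n F) (0 : Matrix n n F) (1 : Matrix n n F)
        * Matrix.fromBlocks (0 : Matrix n n F) (1 : Matrix n n F) (1 : Matrix n n F) (0 : Matrix n n F)
      = Matrix.fromBlocks (1 : Matrix n n F) (1 : Matrix n n F) (1 : Matrix n n F) (0 : Matrix n n F) := by
    rw [Matrix.fromBlocks_multiply]
    simp
  have h1 := congrArg Matrix.det h
  rw [Matrix.det_mul, Matrix.det_fromBlocks_zero₂₁, Matrix.det_one, one_mul, one_mul,
    Matrix.det_fromBlocks_one₁₁] at h1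
  rw [h1]
  simp [Matrix.det_neg]

/-- The Gram determinant of the hyperbolic form in any basis is `(-1)^m` times a non-zero square. -/
theorem det_gram_plus {ι : Type*} [Fintype ι] [DecidableEq ι]
    (b : Module.Basis ι F (Fin m ⊕ Fin m → F)) :
    ∃ c : F, c ≠ 0 ∧
      (Matrix.of (fun i j : ι => QuadraticMap.polar (Cfsg.quadFormPlus m F) (b i) (b j))).det
        = (-1) ^ m * c ^ 2 := by
  let s := Pi.basisFun F (Fin m ⊕ Fin m)
  let e : ι ≃ Fin m ⊕ Fin m := b.indexEquiv s
  let b' := b.reindex e
  let B := QuadraticMap.polarBilin (qPlus m F)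
  have hB : ∀ u v, B u v = QuadraticMap.polar (Cfsg.quadFormPlus m F) u v := by
    intro u v
    rw [← coe_qPlus]
    rfl
  have h1 : Matrix.of (fun i j : ι => QuadraticMap.polar (Cfsg.quadFormPlus m F) (b i) (b j))
      = (LinearMap.BilinForm.toMatrix b' B).submatrix e e := by
    ext i j
    simp [b', hB]
  have h2 : LinearMap.BilinForm.toMatrix s B = Matrix.fromBlocks 0 1 1 0 := by
    ext i j
    rw [LinearMap.BilinForm.toMatrix_apply, hB, polar_plus]
    rcases i with i | i <;> rcases j with j | j <;>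
      simp [s, Pi.single_apply, Matrix.one_apply, Finset.sum_add_distrib, eq_comm]
  refine ⟨(s.toMatrix b').det, ?_, ?_⟩
  · refine IsUnit.ne_zero (IsUnit.of_mul_eq_one (b'.toMatrix s).det ?_)
    rw [← Matrix.det_mul, Module.Basis.toMatrix_mul_toMatrix_flip, Matrix.det_one]
  · rw [h1, Matrix.det_submatrix_equiv_self, ← LinearMap.BilinForm.toMatrix_mul_basis_toMatrix s b' B,
      Matrix.det_mul, Matrix.det_mul, Matrix.det_transpose, h2, det_fromBlocks_swap, Fintype.card_fin]
    ring

end Cfsg.Agent.Forms57
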