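import Cfsg.Prelude.Def_LieTypeDatum
import Cfsg.Agent.Lib.AutPSL.Basic
import Cfsg.Agent.Lib.Orth.Siegel
import Cfsg.Agent.Lib.Orth.CharTwo
import Cfsg.Agent.Lib.OrthOmega.Invariant

/-!
The group of semisimilarities of a quadratic form, its action on `PΩ(Q)`, the kernel of this action, and
the resulting description of the outer automorphism group when this action is surjective.
-/

set_option autoImplicit false
set_option linter.unusedSectionVars false

namespace Cfsg.Agent.GammaO57

open Matrix QuadraticMap CfsgLib.Orth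

variable {F : Type*} [Field F] {ι : Type} [Fintype ι] [DecidableEq ι]

/-- Entrywise action of field automorphisms on invertible matrices. -/
def glAut (ι : Type) [Fintype ι] [DecidableEq ι] (F : Type*) [Field F] :
    (F ≃+* F) →* MulAut (GL ι F) where
  toFun σ :=
    { toFun := GeneralLinearGroup.map σ.toRingHom
      invFun := GeneralLinearGroup.map σ.symm.toRingHom
      left_inv := fun g => by ext i j; simp
      right_inv := fun g => by ext i j; simp
      map_mul' := map_mul _ }
  map_one' := by ext g i j; rfl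
  map_mul' a b := by ext g i j; rfl

/-- Invertible semilinear maps `v ↦ g σ(v)`. -/
abbrev GLS (ι : Type) [Fintype ι] [DecidableEq ι] (F : Type*) [Field F] := GL ι F ⋊[glAut ι F] (F ≃+* F)

/-- The map `v ↦ g σ(v)`. -/
def semi (x : GLS ι F) (v : ι → F) : ι → F := (x.left : Matrix ι ι F) *ᵥ (x.right ∘ v)

theorem map_mulVec' (σ : F ≃+* F) (A : Matrix ι ι F) (v : ι → F) :
    σ ∘ (A *ᵥ v) = A.map σ *ᵥ (σ ∘ v) := funext fun i => RingHom.map_mulVec σ.toRingHom A v i

theorem semi_mul (x y : GLS ι F) (v : ι → F) : semi (x * y) v = semi x (semi y v) := by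
  unfold semi
  rw [map_mulVec', mulVec_mulVec]
  rfl

theorem semi_one (v : ι → F) : semi (1 : GLS ι F) v = v := by
  show (1 : Matrix ι ι F) *ᵥ (id ∘ v) = v
  rw [one_mulVec]; rfl

theorem semi_add (x : GLS ι F) (v w : ι → F) : semi x (v + w) = semi x v + semi x w := by
  unfold semi
  rw [← mulVec_add]
  congr 1
  funext i
  exact map_add x.right _ _

theorem semi_smul (x : GLS ι F) (t : F) (v : ι → F) : semi x (t • v) = x.right t • semi x v := by
  unfold semi
  rw [← mulVec_smul]
  congr 1
  funext i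
  exact map_mul x.right _ _

theorem semi_inv_semi (x : GLS ι F) (v : ι → F) : semi x⁻¹ (semi x v) = v := by
  rw [← semi_mul, inv_mul_cancel, semi_one]

theorem semi_semi_inv (x : GLS ι F) (v : ι → F) : semi x (semi x⁻¹ v) = v := by
  rw [← semi_mul, mul_inv_cancel, semi_one]

/-- The group of semisimilarities. -/
def semiGroup (Q : QuadraticForm F (ι → F)) : Subgroup (GLS ι F) where
  carrier := {x | ∃ c : Fˣ, ∀ v, Q (semi x v) = (c : F) * x.right (Q v)}
  one_mem' := ⟨1, fun v => by rw [semi_one, Units.val_one, one_mul]; rfl⟩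
  mul_mem' {x y} := by
    rintro ⟨c, hc⟩ ⟨d, hd⟩
    refine ⟨c * Units.map x.right.toMonoidHom d, fun v => ?_⟩
    rw [semi_mul, hc, hd, map_mul, ← mul_assoc, Units.val_mul]
    rfl
  inv_mem' {x} := by
    rintro ⟨c, hc⟩
    refine ⟨Units.map x.right.symm.toMonoidHom c⁻¹, fun v => ?_⟩
    have h := congrArg x.right.symm (hc (semi x⁻¹ v))
    rw [semi_semi_inv, map_mul, RingEquiv.symm_apply_apply] at h
    show _ = x.right.symm ((c⁻¹ : Fˣ) : F) * x.right.symm (Q v)
    rw [h, ← mul_assoc, ← map_mul, Units.inv_mul, map_one, one_mul]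

variable {Q : QuadraticForm F (ι → F)}

theorem mem_semiGroup_iff (x : GLS ι F) :
    x ∈ semiGroup Q ↔ Cfsg.IsSemisimilarityPair (⇑Q) x.left x.right := Iff.rfl

theorem app_semi (g : O Q) (v : ι → F) :
    semi (SemidirectProduct.inl (g : GL ι F)) v = app g v := by
  rw [app_apply]; rfl

theorem mem_O_iff (h : GL ι F) : h ∈ O Q ↔ ∀ v, Q ((h : Matrix ι ι F) *ᵥ v) = Q v :=
  ⟨fun hh v => hh v v, fun hh v _ => hh v⟩

/-- Conjugation of an isometry by a semisimilarity. -/
theorem conj_mem {x : GLS ι F} (hx : x ∈ semiGroup Q) (s : O Q) :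
    x.left * glAut ι F x.right (s : GL ι F) * x.left⁻¹ ∈ O Q := by
  obtain ⟨c, hc⟩ := hx
  rw [mem_O_iff]
  intro v
  have h : semi (SemidirectProduct.inl (x.left * glAut ι F x.right (s : GL ι F) * x.left⁻¹)) v
      = semi x (app s (semi x⁻¹ v)) := by
    rw [← app_semi, ← semi_mul, ← semi_mul]
    congr 1
    ext1 <;> simp [mul_assoc]
  change Q (semi (SemidirectProduct.inl _) v) = Q v
  rw [h, hc, Q_app, ← hc, semi_semi_inv]

/-- The automorphism of `O(Q)` given by a semisimilarity. -/
def conjEquiv (x : ↥(semiGroup Q)) : MulAut (O Q) where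
  toFun s := ⟨_, conj_mem x.2 s⟩
  invFun s := ⟨_, conj_mem (inv_mem x.2) s⟩
  left_inv s := by
    apply Subtype.ext
    apply SemidirectProduct.inl_injective (φ := glAut ι F)
    simp only [SemidirectProduct.inv_left, SemidirectProduct.inv_right]
    ext1 <;> simp [mul_assoc]
  right_inv s := by
    apply Subtype.ext
    apply SemidirectProduct.inl_injective (φ := glAut ι F)
    simp only [SemidirectProduct.inv_left, SemidirectProduct.inv_right]
    ext1 <;> simp [mul_assoc]
  map_mul' s t := by
    apply Subtype.ext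
    simp [mul_assoc]

/-- The action of the semisimilarities on `O(Q)`. -/
def conjO (Q : QuadraticForm F (ι → F)) : ↥(semiGroup Q) →* MulAut (O Q) where
  toFun := conjEquiv
  map_one' := by
    apply MulEquiv.ext
    intro s
    apply Subtype.ext
    simp [conjEquiv]
  map_mul' x y := by
    apply MulEquiv.ext
    intro s
    apply Subtype.ext
    simp [conjEquiv, mul_assoc]

theorem conjO_coe (x : ↥(semiGroup Q)) (s : O Q) :
    ((conjO Q x s : O Q) : GL ι F) = x.1.left * glAut ι F x.1.right (s : GL ι F) * x.1.left⁻¹ := rfl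

theorem semi_app_conj (x : ↥(semiGroup Q)) (s : O Q) (v : ι → F) :
    app (conjO Q x s) (semi x.1 v) = semi x.1 (app s v) := by
  rw [← app_semi, ← app_semi, ← semi_mul, ← semi_mul]
  congr 1
  ext1 <;> simp [conjO_coe, mul_assoc]

/-- An automorphism restricts to the commutator subgroup. -/
def commAut (G : Type*) [Group G] : MulAut G →* MulAut ↥(commutator G) where
  toFun e :=
    { toFun := fun s => ⟨e s, (Subgroup.characteristic_iff_map_eq.mp
        (inferInstance : (commutator G).Characteristic) e).le ⟨s, s.2, rfl⟩⟩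
      invFun := fun s => ⟨e.symm s, (Subgroup.characteristic_iff_map_eq.mp
        (inferInstance : (commutator G).Characteristic) e.symm).le ⟨s, s.2, rfl⟩⟩
      left_inv := fun s => Subtype.ext (e.symm_apply_apply _)
      right_inv := fun s => Subtype.ext (e.apply_symm_apply _)
      map_mul' := fun s t => Subtype.ext (map_mul e _ _) }
  map_one' := MulEquiv.ext fun s => rfl
  map_mul' a b := MulEquiv.ext fun s => rfl

/-- The action of the semisimilarities on `PΩ(Q)`. -/
noncomputable def gAut (Q : QuadraticForm F (ι → F)) :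
    ↥(semiGroup Q) →* MulAut (Cfsg.POmega F ⇑Q) :=
  (CfsgLib.AutPSL.descendAut _).comp ((commAut (O Q)).comp (conjO Q))

theorem gAut_mk (x : ↥(semiGroup Q)) (s : ↥(Cfsg.Omega F ⇑Q)) :
    gAut Q x (QuotientGroup.mk s) = QuotientGroup.mk (commAut (O Q) (conjO Q x) s) := rfl

theorem gammaPOmega_le_range : Cfsg.gammaPOmega F ⇑Q ≤ (gAut Q).range := by
  refine (Subgroup.closure_le _).2 ?_
  rintro β ⟨g, σ, hgσ, hβ⟩
  refine ⟨⟨⟨g, σ⟩, hgσ⟩, MulEquiv.ext fun y => ?_⟩
  induction y using QuotientGroup.induction_on with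
  | _ s =>
    rw [gAut_mk]
    exact (hβ s _ rfl).symm

theorem gAut_surjective (h : Cfsg.gammaPOmega F ⇑Q = ⊤) : Function.Surjective (gAut Q) := fun β =>
  gammaPOmega_le_range (h ▸ Subgroup.mem_top β)

/-- An element of `Ω(Q)` as a semisimilarity. -/
def omegaIn (Q : QuadraticForm F (ι → F)) : ↥(Cfsg.Omega F ⇑Q) →* ↥(semiGroup Q) where
  toFun s := ⟨SemidirectProduct.inl ((s : O Q) : GL ι F),
    ⟨1, fun v => by rw [app_semi, Q_app, Units.val_one, one_mul]; rfl⟩⟩
  map_one' := Subtype.ext (map_one _)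
  map_mul' s t := Subtype.ext (map_mul SemidirectProduct.inl ((s : O Q) : GL ι F) _)

theorem gAut_omegaIn (s : ↥(Cfsg.Omega F ⇑Q)) :
    gAut Q (omegaIn Q s) = MulAut.conj (QuotientGroup.mk s : Cfsg.POmega F ⇑Q) := by
  apply MulEquiv.ext
  intro y
  induction y using QuotientGroup.induction_on with
  | _ t =>
    rw [gAut_mk, MulAut.conj_apply, ← QuotientGroup.mk_mul, ← QuotientGroup.mk_inv, ← QuotientGroup.mk_mul]
    refine congrArg _ (Subtype.ext (Subtype.ext ?_))
    show ((s : O Q) : GL ι F) * glAut ι F 1 ((t : O Q) : GL ι F) * ((s : O Q) : GL ι F)⁻¹ = _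
    rw [map_one]
    rfl

/-! ### Maps commuting with the Eichler transformations -/

/-- Two orthogonal hyperbolic pairs. -/
structure HypData (Q : QuadraticForm F (ι → F)) where
  u : ι → F
  v : ι → F
  u' : ι → F
  v' : ι → F
  hu : Q u = 0
  hv : Q v = 0
  hu' : Q u' = 0
  hv' : Q v' = 0
  huv : polar Q u v = 0
  huv' : polar Q u v' = 0
  hu'v : polar Q u' v = 0
  hu'v' : polar Q u' v' = 0
  huu' : polar Q u u' = 1
  hvv' : polar Q v v' = 1

/-- The same pairs with the vectors exchanged. -/
def HypData.swap (d : HypData Q) : HypData Q :=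
  ⟨d.v, d.u, d.v', d.u', d.hv, d.hu, d.hv', d.hu', by rw [polar_comm]; exact d.huv,
    by rw [polar_comm]; exact d.hu'v, by rw [polar_comm]; exact d.huv',
    by rw [polar_comm]; exact d.hu'v', d.hvv', d.huu'⟩

/-- The same pairs with partners exchanged. -/
def HypData.flip (d : HypData Q) : HypData Q :=
  ⟨d.u', d.v', d.u, d.v, d.hu', d.hv', d.hu, d.hv, d.hu'v', d.hu'v, d.huv', d.huv,
    by rw [polar_comm]; exact d.huu', by rw [polar_comm]; exact d.hvv'⟩

theorem eq_smul_of_perp (hQ : Q.polarBilin.Nondegenerate) {u w y : ι → F} (huw : polar Q u w = 1)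
    (h : ∀ a, polar Q u a = 0 → polar Q y a = 0) : y = polar Q y w • u := by
  rw [← sub_eq_zero]
  refine eq_zero_of_polar hQ fun z => ?_
  have h1 := h (z - polar Q u z • w) (by rw [polar_sub_right, polar_smul_right, huw, smul_eq_mul, mul_one,
    sub_self])
  rw [polar_sub_right, polar_smul_right, smul_eq_mul] at h1
  rw [polar_sub_left, polar_smul_left, smul_eq_mul]
  linear_combination h1

section Commute

variable (hQ : Q.polarBilin.Nondegenerate) {L : (ι → F) → (ι → F)} {σ : F ≃+* F}
  (hadd : ∀ x y, L (x + y) = L x + L y) (hsmul : ∀ (t : F) x, L (t • x) = σ t • L x)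
  (hcomm : ∀ u a, Q u = 0 → polar Q u a = 0 → ∀ x, L (app (eich Q u a) x) = app (eich Q u a) (L x))

include hadd hsmul hcomm in
theorem comm_eich_eval {u : ι → F} (hu : Q u = 0) {a : ι → F} (ha : polar Q u a = 0) {x : ι → F}
    (hx : polar Q x u = 0) :
    -(σ (polar Q x a)) • L u
      = polar Q (L x) u • a + (-(polar Q (L x) a) - Q a * polar Q (L x) u) • u := by
  have h := hcomm u a hu ha x
  rw [app_eich hu ha, app_eich hu ha, hx, zero_smul, add_zero, mul_zero, sub_zero, hadd, hsmul, map_neg,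
    add_assoc] at h
  exact add_left_cancel h

include hQ hadd hsmul hcomm in
theorem eigen (d : HypData Q) : ∃ l : F, L d.u = l • d.u ∧ ∀ x, polar Q x d.u = 0 →
    polar Q (L x) d.u = 0 ∧ ∀ a, polar Q d.u a = 0 → polar Q (L x) a = σ (polar Q x a) * l := by
  have huu : polar Q d.u d.u = 0 := by rw [polar_self', d.hu, mul_zero]
  have hu0 : d.u ≠ 0 := fun h => one_ne_zero (α := F) (by rw [← d.huu', h, polar_zero_left])
  have key : ∀ x : ι → F, polar Q x d.u = 0 → ∀ s : F, L d.u = s • d.u →
      polar Q (L x) d.u = 0 ∧ ∀ a, polar Q d.u a = 0 → polar Q (L x) a = σ (polar Q x a) * s := by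
    intro x hx s hs
    have h0 : polar Q (L x) d.u = 0 := by
      have h := congrArg (fun z => polar Q z d.v') (comm_eich_eval hadd hsmul hcomm d.hu d.huv hx)
      simpa [hs, polar_add_left, polar_smul_left, d.huv', d.hvv'] using h.symm
    refine ⟨h0, fun a ha => ?_⟩
    have h := congrArg (fun z => polar Q z d.u') (comm_eich_eval hadd hsmul hcomm d.hu ha hx)
    simp only [hs, h0, zero_smul, mul_zero, sub_zero, zero_add, polar_smul_left, smul_eq_mul, d.huu',
      mul_one] at h
    linear_combination h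
  suffices ∃ l : F, L d.u = l • d.u by
    obtain ⟨l, hl⟩ := this
    exact ⟨l, hl, fun x hx => key x hx l hl⟩
  have e : ∀ a, polar Q d.u a = 0 →
      polar Q (L d.u) d.u • a + (-(polar Q (L d.u) a) - Q a * polar Q (L d.u) d.u) • d.u = 0 := by
    intro a ha
    rw [← comm_eich_eval hadd hsmul hcomm d.hu ha huu, ha, map_zero, neg_zero, zero_smul]
  have h0 : polar Q (L d.u) d.u = 0 := by
    have h := congrArg (fun z => polar Q z d.v') (e d.v d.huv)
    simpa [polar_add_left, polar_smul_left, d.huv', d.hvv'] using h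
  refine ⟨_, eq_smul_of_perp hQ d.huu' fun a ha => ?_⟩
  have h := e a ha
  rw [h0, zero_smul, zero_add, mul_zero, sub_zero, smul_eq_zero, neg_eq_zero] at h
  exact h.resolve_right hu0

include hQ hadd hsmul hcomm in
theorem comm_eich_scalar (hinj : Function.Injective L) (d : HypData Q) :
    σ = 1 ∧ ∃ l : F, ∀ x, L x = l • x := by
  obtain ⟨a, hLu, hu⟩ := eigen hQ hadd hsmul hcomm d
  obtain ⟨b, hLv, hv⟩ := eigen hQ hadd hsmul hcomm d.swap
  obtain ⟨a', hLu', hu'⟩ := eigen hQ hadd hsmul hcomm d.flip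
  obtain ⟨b', hLv', hv'⟩ := eigen hQ hadd hsmul hcomm d.flip.swap
  simp only [HypData.swap, HypData.flip] at hLv hv hLu' hu' hLv' hv'
  have ha0 : a ≠ 0 := fun h => by
    have hu0 : d.u ≠ 0 := fun h' => one_ne_zero (α := F) (by rw [← d.huu', h', polar_zero_left])
    refine hu0 (hinj ?_)
    have hL0 : L 0 = 0 := by simpa using hadd 0 0
    rw [hLu, h, zero_smul, hL0]
  have cvu : ∀ x y, polar Q x y = polar Q y x := polar_comm _
  -- the four eigenvalues agree, and the field automorphism is trivial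
  have hab : ∀ t, σ t * a = t * b := fun t => by
    have h := (hu d.v (by rw [cvu]; exact d.huv)).2 (t • d.v') (by rw [polar_smul_right, d.huv', smul_zero])
    simp only [hLv, polar_smul_left, polar_smul_right, d.hvv', smul_eq_mul, mul_one] at h
    linear_combination -h
  have hb : b = a := by simpa using (hab 1).symm
  have hσ : σ = 1 := RingEquiv.ext fun t => by
    have h := hab t
    rw [hb] at h
    exact mul_right_cancel₀ ha0 h
  subst hσ
  refine ⟨rfl, a, ?_⟩
  have hb' : b' = a := by
    have h := (hu d.v' (by rw [cvu]; exact d.huv')).2 d.v d.huv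
    rw [hLv', polar_smul_left, cvu d.v' d.v, d.hvv'] at h
    simpa using h
  have ha' : a' = a := by
    have h := (hv d.u' d.hu'v).2 d.u (by rw [cvu]; exact d.huv)
    rw [hLu', polar_smul_left, cvu d.u' d.u, d.huu'] at h
    rw [← hb]
    simpa using h
  subst b b' a'
  have perp : ∀ x, polar Q x d.u = 0 → polar Q x d.v = 0 → L x = a • x := by
    intro x hxu hxv
    have e1 := eq_smul_of_perp hQ d.huu' (y := L x - a • x) fun z hz => by
      rw [polar_sub_left, polar_smul_left, (hu x hxu).2 z hz]; simp [mul_comm]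
    have e2 := eq_smul_of_perp hQ d.hvv' (y := L x - a • x) fun z hz => by
      rw [polar_sub_left, polar_smul_left, (hv x hxv).2 z hz]; simp [mul_comm]
    have h3 := congrArg (fun z => polar Q z d.u') (e1.symm.trans e2)
    simp only [polar_smul_left, d.huu', cvu d.v d.u', d.hu'v, smul_eq_mul, mul_one, mul_zero] at h3
    rwa [h3, zero_smul, sub_eq_zero] at e1
  have perp' : ∀ x, polar Q x d.u' = 0 → polar Q x d.v' = 0 → L x = a • x := by
    intro x hxu hxv
    have e1 := eq_smul_of_perp hQ (show polar Q d.u' d.u = 1 by rw [cvu]; exact d.huu')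
      (y := L x - a • x) fun z hz => by rw [polar_sub_left, polar_smul_left, (hu' x hxu).2 z hz]; simp [mul_comm]
    have e2 := eq_smul_of_perp hQ (show polar Q d.v' d.v = 1 by rw [cvu]; exact d.hvv')
      (y := L x - a • x) fun z hz => by rw [polar_sub_left, polar_smul_left, (hv' x hxv).2 z hz]; simp [mul_comm]
    have h3 := congrArg (fun z => polar Q z d.u) (e1.symm.trans e2)
    simp only [polar_smul_left, cvu d.u' d.u, d.huu', cvu d.v' d.u, d.huv', smul_eq_mul, mul_one,
      mul_zero] at h3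
    rwa [h3, zero_smul, sub_eq_zero] at e1
  intro x
  set y := polar Q x d.u • d.u' + polar Q x d.v • d.v'
  have hy : L y = a • y := perp' y
    (by simp [y, polar_add_left, polar_self', d.hu', cvu d.v' d.u', d.hu'v'])
    (by simp [y, polar_add_left, polar_self', d.hv', d.hu'v'])
  have hz : L (x - y) = a • (x - y) := perp (x - y)
    (by simp [y, polar_sub_left, polar_add_left, cvu d.u' d.u, d.huu', cvu d.v' d.u, d.huv'])
    (by simp [y, polar_sub_left, polar_add_left, d.hu'v, cvu d.v' d.v, d.hvv'])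
  rw [show L x = L (x - y) + L y by rw [← hadd, sub_add_cancel], hy, hz, ← smul_add, sub_add_cancel]

end Commute

section Finite

variable [Fintype F]

theorem eich_mem_omega (hQ : Q.polarBilin.Nondegenerate) (hn : 5 ≤ Fintype.card ι) {u a : ι → F}
    (hu : Q u = 0) (ha : polar Q u a = 0) : eich Q u a ∈ Cfsg.Omega F ⇑Q := by
  classical
  show eich Q u a ∈ commutator (O Q)
  by_cases h2 : (2 : F) = 0
  · have : CharP F 2 := CfsgLib.OrthOmega.charP_two_of_two_eq_zero h2
    have hgen : reflClosure Q = ⊤ := by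
      refine reflClosure_eq_top hQ (Or.inr (by omega))
    rw [commutator_eq_ker_dickson hQ hgen, MonoidHom.mem_ker]
    have two : ∀ b, polar Q u b = 0 → Q b ≠ 0 → dicksonHom hQ hgen (eich Q u b) = 1 := by
      intro b hb hb0
      have hb1 : Q (b + Q b • u) ≠ 0 := by
        rw [QuadraticMap.map_add ⇑Q, QuadraticMap.map_smul, polar_smul_right, hu,
          polar_comm (⇑Q) b u, hb]
        simpa using hb0
      rw [eich_eq_refl_mul hu hb hb0, map_mul, dicksonHom_refl hQ hgen hb0, dicksonHom_refl hQ hgen hb1]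
      decide
    rcases ne_or_eq (Q a) 0 with h | h
    · exact two a ha h
    · let W : Submodule F (ι → F) := Submodule.span F (Set.range ![u, a])
      obtain ⟨b, hbW, hb0⟩ : ∃ b ∈ LinearMap.BilinForm.orthogonal Q.polarBilin W, Q b ≠ 0 := by
        by_contra hc
        push Not at hc
        have h4 := two_finrank_le hQ hc
        have hW : Module.finrank F W ≤ 2 := by
          have := finrank_range_le_card (R := F) (b := ![u, a])
          simpa [W, Set.finrank] using this
        have h5 := LinearMap.BilinForm.finrank_orthogonal hQ W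
        rw [Module.finrank_fintype_fun_eq_card] at h5
        omega
      have hub : polar Q u b = 0 := hbW u (Submodule.subset_span ⟨0, rfl⟩)
      have hab : polar Q a b = 0 := hbW a (Submodule.subset_span ⟨1, rfl⟩)
      have h1 : Q (a - b) ≠ 0 := by
        rw [sub_eq_add_neg, QuadraticMap.map_add ⇑Q, QuadraticMap.map_neg, h, polar_neg_right, hab]
        simpa using hb0
      have hu1 : polar Q u (a - b) = 0 := by rw [polar_sub_right, ha, hub, sub_self]
      rw [← sub_add_cancel a b, ← eich_add hu hu1 hub, map_mul, two _ hu1 h1, two _ hub hb0, one_mul]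
  · rw [commutator_eq_siegelClosure hQ h2 hn]
    exact eich_mem_siegelClosure hQ h2 hn hu ha

theorem central_scalar (hQ : Q.polarBilin.Nondegenerate) (hn : 5 ≤ Fintype.card ι) (d : HypData Q)
    {z : ↥(Cfsg.Omega F ⇑Q)} (hz : z ∈ Subgroup.center ↥(Cfsg.Omega F ⇑Q)) :
    ∃ c : F, c * c = 1 ∧ ∀ x, app (z : O Q) x = c • x := by
  obtain ⟨-, c, hc⟩ := comm_eich_scalar hQ (σ := 1) (L := app (z : O Q)) (fun x y => map_add _ x y)
    (fun t x => map_smul _ t x)
    (fun u a hu ha x => by
      rw [← app_mul, ← app_mul]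
      exact congrArg (fun g => app g x) (congrArg Subtype.val
        (Subgroup.mem_center_iff.1 hz ⟨eich Q u a, eich_mem_omega hQ hn hu ha⟩)).symm)
    (app_injective _) d
  refine ⟨c, ?_, hc⟩
  have h := polar_app (z : O Q) d.u d.u'
  rw [hc, hc, polar_smul_left, polar_smul_right, d.huu'] at h
  simpa using h

theorem gAut_eq_one (hQ : Q.polarBilin.Nondegenerate) (hn : 5 ≤ Fintype.card ι) (d : HypData Q)
    {x : ↥(semiGroup Q)} (hx : gAut Q x = 1) :
    x.1.right = 1 ∧ ∃ c : Fˣ, x.1.left = GeneralLinearGroup.scalar ι c := by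
  have hcomm : ∀ u a, Q u = 0 → polar Q u a = 0 → ∀ w,
      semi x.1 (app (eich Q u a) w) = app (eich Q u a) (semi x.1 w) := by
    intro u a hu ha
    set s : ↥(Cfsg.Omega F ⇑Q) := ⟨eich Q u a, eich_mem_omega hQ hn hu ha⟩
    have h := congrArg (fun β : MulAut (Cfsg.POmega F ⇑Q) => β (QuotientGroup.mk s)) hx
    obtain ⟨z, hz, hzs⟩ : ∃ z ∈ Subgroup.center ↥(Cfsg.Omega F ⇑Q),
        commAut (O Q) (conjO Q x) s = s * z := by
      simp only [gAut_mk, MulAut.one_apply] at h
      exact ⟨s⁻¹ * _, QuotientGroup.eq.1 h.symm, (mul_inv_cancel_left s _).symm⟩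
    obtain ⟨c, hc2, hc⟩ := central_scalar hQ hn d hz
    have key : ∀ w, semi x.1 (app (eich Q u a) w) = c • app (eich Q u a) (semi x.1 w) := by
      intro w
      rw [← semi_app_conj]
      show app ((commAut (O Q) (conjO Q x) s : ↥(Cfsg.Omega F ⇑Q)) : O Q) _ = _
      rw [hzs, Subgroup.coe_mul, app_mul, hc, map_smul]
    -- the scalar is `1`, since `u` is fixed
    suffices u = 0 ∨ c = 1 by
      intro w
      rcases this with rfl | rfl
      · rw [eich_zero_left, app_one, app_one]
      · rw [key, one_smul]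
    by_cases hu0 : u = 0
    · exact Or.inl hu0
    refine Or.inr ?_
    have huu : polar Q u u = 0 := by rw [polar_self', hu, mul_zero]
    have hfix : app (eich Q u a) u = u := by
      rw [app_eich hu ha, huu, ha]; simp
    rcases mul_self_eq_one_iff.1 hc2 with h1 | h1
    · exact h1
    by_cases h2 : (2 : F) = 0
    · rw [h1]; linear_combination -h2
    exfalso
    set y := semi x.1 u
    have hy0 : y ≠ 0 := fun h0 => hu0 (by
      have h00 : semi x.1⁻¹ (0 : ι → F) = 0 := by simpa using semi_add x.1⁻¹ 0 0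
      rw [← semi_inv_semi x.1 u, show semi x.1 u = 0 from h0, h00])
    have hy : app (eich Q u a) y = -y := by
      have h3 := key u
      rw [hfix, h1, neg_one_smul] at h3
      exact (neg_eq_iff_eq_neg.2 h3).symm
    have hyu : polar Q y u = 0 := by
      have h3 := polar_app (eich Q u a) y u
      rw [hfix, hy, polar_neg_left] at h3
      have : (2 : F) * polar Q y u = 0 := by linear_combination -h3
      exact (mul_eq_zero.1 this).resolve_left h2
    have h4 : (2 : F) • y = polar Q y a • u := by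
      rw [app_eich hu ha, hyu, zero_smul, mul_zero, sub_zero, add_zero] at hy
      rw [two_smul]
      linear_combination (norm := module) hy
    have h5 : app (eich Q u a) y = y := by
      rw [← inv_smul_smul₀ h2 y, h4, map_smul, map_smul, hfix]
    rw [h5, eq_neg_iff_add_eq_zero, ← two_smul F, smul_eq_zero] at hy
    exact hy.elim h2 hy0
  have hinj : Function.Injective (semi x.1) := fun v w h => by
    rw [← semi_inv_semi x.1 v, h, semi_inv_semi]
  obtain ⟨h1, l, hl⟩ := comm_eich_scalar hQ (semi_add x.1) (semi_smul x.1) hcomm hinj d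
  refine ⟨h1, ?_⟩
  have hl' : ∀ v, (x.1.left : Matrix ι ι F) *ᵥ v = l • v := fun v => by
    rw [← hl v, semi, h1]; rfl
  have hl0 : l ≠ 0 := fun h0 => by
    have h3 := d.huu'
    have hu0 : d.u = 0 := hinj (by rw [hl, hl, h0, zero_smul, zero_smul])
    rw [hu0, polar_zero_left] at h3
    exact zero_ne_one h3
  refine ⟨Units.mk0 l hl0, Units.ext (Matrix.ext_of_mulVec_single fun i => ?_)⟩
  rw [hl']
  ext j
  simp [GeneralLinearGroup.scalar, Matrix.diagonal_mulVec_single, Pi.single_apply]

theorem gAut_scalar {x : ↥(semiGroup Q)} (h1 : x.1.right = 1) {c : Fˣ}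
    (hc : x.1.left = GeneralLinearGroup.scalar ι c) : gAut Q x = 1 := by
  apply MulEquiv.ext
  intro y
  induction y using QuotientGroup.induction_on with
  | _ s =>
    rw [gAut_mk, MulAut.one_apply]
    refine congrArg _ (Subtype.ext (Subtype.ext ?_))
    show x.1.left * glAut ι F x.1.right ((s : O Q) : GL ι F) * x.1.left⁻¹ = _
    rw [h1, map_one, hc, MulAut.one_apply]
    rw [mul_inv_eq_iff_eq_mul]
    apply Units.ext
    exact (Matrix.scalar_commute (c : F) (fun _ => Commute.all _ _) _).eq

/-- `Out(PΩ(Q))` as a quotient of the semisimilarity group, when its action is onto. -/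
theorem nonempty_out_equiv (hQ : Q.polarBilin.Nondegenerate) (hn : 5 ≤ Fintype.card ι) (d : HypData Q)
    (hgamma : Cfsg.gammaPOmega F ⇑Q = ⊤) {T : Type*} [Group T] (Ψ : ↥(semiGroup Q) →* T)
    (hsurj : Function.Surjective Ψ)
    (hscal : ∀ x : ↥(semiGroup Q), x.1.right = 1 →
      (∃ c : Fˣ, x.1.left = GeneralLinearGroup.scalar ι c) → Ψ x = 1)
    (homega : ∀ s, Ψ (omegaIn Q s) = 1)
    (hker : ∀ x : ↥(semiGroup Q), Ψ x = 1 → x.1.right = 1 ∧
      ∃ (c : Fˣ) (s : ↥(Cfsg.Omega F ⇑Q)), x.1.left = GeneralLinearGroup.scalar ι c * ((s : O Q) : GL ι F)) :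
    Nonempty (Cfsg.Out (Cfsg.POmega F ⇑Q) ≃* T) := by
  set ρ : ↥(semiGroup Q) →* Cfsg.Out (Cfsg.POmega F ⇑Q) :=
    (QuotientGroup.mk' (Cfsg.Inn (Cfsg.POmega F ⇑Q))).comp (gAut Q) with hρ
  have hρs : Function.Surjective ρ :=
    (QuotientGroup.mk'_surjective _).comp (gAut_surjective hgamma)
  have hkk : ρ.ker = Ψ.ker := by
    ext x
    rw [MonoidHom.mem_ker, MonoidHom.mem_ker, hρ, MonoidHom.comp_apply, QuotientGroup.mk'_apply,
      QuotientGroup.eq_one_iff]
    constructor
    · rintro ⟨y, hy⟩
      obtain ⟨s, rfl⟩ := QuotientGroup.mk_surjective y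
      have h1 : gAut Q (x * (omegaIn Q s)⁻¹) = 1 := by
        rw [map_mul, map_inv, gAut_omegaIn, ← hy]; simp
      obtain ⟨e1, e2⟩ := gAut_eq_one hQ hn d h1
      have h2 := hscal _ e1 e2
      rwa [map_mul, map_inv, homega, inv_one, mul_one] at h2
    · intro hx
      obtain ⟨e1, c, s, e2⟩ := hker x hx
      refine ⟨QuotientGroup.mk s, ?_⟩
      have h1 : gAut Q (x * (omegaIn Q s)⁻¹) = 1 := by
        refine gAut_scalar (c := c) ?_ ?_
        · simp [omegaIn, e1]
        · simp [omegaIn, e1, e2]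
      rw [map_mul, map_inv, gAut_omegaIn, mul_inv_eq_one] at h1
      rw [h1]
  exact ⟨(QuotientGroup.quotientKerEquivOfSurjective ρ hρs).symm.trans
    ((QuotientGroup.quotientMulEquivOfEq hkk).trans (QuotientGroup.quotientKerEquivOfSurjective Ψ hsurj))⟩

/-- `PΩ(Q)` has trivial centre, so `|Aut| = |Out| · |PΩ(Q)|`. -/
theorem card_mulAut (hQ : Q.polarBilin.Nondegenerate) (hn : 5 ≤ Fintype.card ι) (d : HypData Q) :
    Nat.card (MulAut (Cfsg.POmega F ⇑Q)) =
      Nat.card (Cfsg.Out (Cfsg.POmega F ⇑Q)) * Nat.card (Cfsg.POmega F ⇑Q) := by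
  have hinj : Function.Injective (MulAut.conj : Cfsg.POmega F ⇑Q →* MulAut (Cfsg.POmega F ⇑Q)) := by
    refine (injective_iff_map_eq_one _).2 fun y hy => ?_
    obtain ⟨s, rfl⟩ := QuotientGroup.mk_surjective y
    rw [← gAut_omegaIn] at hy
    obtain ⟨-, c, hc⟩ := gAut_eq_one hQ hn d hy
    have hc' : ((s : O Q) : GL ι F) = GeneralLinearGroup.scalar ι c := hc
    rw [QuotientGroup.eq_one_iff, Subgroup.mem_center_iff]
    intro t
    refine Subtype.ext (Subtype.ext (Units.ext ?_))
    show (((t : O Q) : GL ι F) : Matrix ι ι F) * (((s : O Q) : GL ι F) : Matrix ι ι F) =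
      (((s : O Q) : GL ι F) : Matrix ι ι F) * (((t : O Q) : GL ι F) : Matrix ι ι F)
    rw [hc']
    exact ((Matrix.scalar_commute (c : F) (fun _ => Commute.all _ _) _).eq).symm
  have hI : Nat.card (Cfsg.Inn (Cfsg.POmega F ⇑Q)) = Nat.card (Cfsg.POmega F ⇑Q) :=
    (Nat.card_congr (MonoidHom.ofInjective hinj).toEquiv).symm
  rw [← hI, ← Subgroup.card_eq_card_quotient_mul_card_subgroup]

end Finite

end Cfsg.Agent.GammaO57
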