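import Cfsg.Agent.Helper57PlusFieldAut
import Cfsg.Agent.Lib.POmegaSim.Inndiag
import Cfsg.Agent.Lib.AutPSL.Split
import Cfsg.Agent.Lib.POmega.Forms

/-!
Involutory graph-field automorphisms of `PΩ⁺_{2m}(F)`, `m ≥ 5`.
-/

set_option autoImplicit false
set_option linter.unusedSectionVars false

namespace Cfsg.Agent.GraphFieldAut57

open Matrix QuadraticMap CfsgLib.Orth CfsgLib.FieldPOmega
open CfsgLib.FieldGalois hiding semi semi_smul
open Cfsg.Agent.GammaO57 Cfsg.Agent.OutPlus57 Cfsg.Agent.PlusField57 Cfsg.Agent.PlusTwist57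
open Cfsg.Agent.PlusSplit57 Cfsg.Agent.PlusFieldAut57 Cfsg.Agent.Levi57 Cfsg.Agent.Spinor57

variable {F : Type*} [Field F] [Fintype F] {m : ℕ}

theorem eq_of_order_two {σ σ' : F ≃+* F} (h : orderOf σ = 2) (h' : orderOf σ' = 2) : σ = σ' := by
  classical
  obtain ⟨p, hchar⟩ := CharP.exists F
  have : Fact p.Prime := ⟨CharP.char_is_prime F p⟩
  obtain ⟨n, -, hn⟩ := FiniteField.card F p
  obtain ⟨e⟩ := CfsgLib.AutPSL.nonempty_ringAut_equiv (F := F) hn
  have : NeZero (n : ℕ) := ⟨n.pos.ne'⟩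
  let := Fintype.ofEquiv _ e.symm.toEquiv
  have : IsCyclic (F ≃+* F) := isCyclic_of_surjective e.symm e.symm.surjective
  have hle := IsCyclic.card_pow_eq_one_le (α := F ≃+* F) (n := 2) two_pos
  by_contra hne
  have h1 : σ ≠ 1 := fun e => by rw [e, orderOf_one] at h; omega
  have h1' : σ' ≠ 1 := fun e => by rw [e, orderOf_one] at h'; omega
  have hsub : ({1, σ, σ'} : Finset (F ≃+* F)) ⊆ Finset.univ.filter (fun a => a ^ 2 = 1) := by
    intro a ha
    simp only [Finset.mem_insert, Finset.mem_singleton] at ha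
    simp only [Finset.mem_filter, Finset.mem_univ, true_and]
    rcases ha with rfl | rfl | rfl
    · simp
    · rw [← h]; exact pow_orderOf_eq_one _
    · rw [← h']; exact pow_orderOf_eq_one _
  have := (Finset.card_le_card hsub).trans hle
  rw [Finset.card_insert_of_notMem (by simp [Ne.symm h1, Ne.symm h1']),
    Finset.card_insert_of_notMem (by simp [hne]), Finset.card_singleton] at this
  omega

/-- The standard graph-field element. -/
noncomputable abbrev sEl (i₀ : Fin m) (σ : F ≃+* F) : ↥(semiGroup (plusQ m F)) :=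
  rEl (pv i₀ (-1)) σ

theorem app_swap (i₀ : Fin m) (x : PI' m → F) :
    app (refl (plusQ m F) (pv i₀ (-1))) x =
      Sum.elim (fun i => if i = i₀ then x (.inr i₀) else x (.inl i))
        (fun i => if i = i₀ then x (.inl i₀) else x (.inr i)) := by
  rw [app_refl, Q_pair, polar_pair]
  funext k
  rcases k with i | i <;> by_cases h : i = i₀ <;>
    first
      | (subst h; simp; ring)
      | simp [h]

theorem semi_sEl (i₀ : Fin m) (σ : F ≃+* F) (x : PI' m → F) :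
    semi (sEl i₀ σ).1 x = Sum.elim (fun i => if i = i₀ then σ (x (.inr i₀)) else σ (x (.inl i)))
      (fun i => if i = i₀ then σ (x (.inl i₀)) else σ (x (.inr i))) := by
  show semi ((oIn (plusQ m F) (refl (plusQ m F) (pv i₀ (-1)))).1 * (fEl (plusQ_fixes σ)).1) x = _
  rw [semi_mul]
  have hf : semi (fEl (plusQ_fixes (m := m) σ)).1 x = σ ∘ x := by
    show (1 : Matrix (PI' m) (PI' m) F) *ᵥ (σ ∘ x) = _
    rw [one_mulVec]
  rw [hf, show semi (oIn (plusQ m F) (refl (plusQ m F) (pv i₀ (-1)))).1 (σ ∘ x) =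
    app (refl (plusQ m F) (pv i₀ (-1))) (σ ∘ x) from app_semi _ _, app_swap]
  rfl

theorem sEl_fix (i₀ : Fin m) (σ : F ≃+* F) : ∀ i, σ ((pv i₀ (-1) : PI' m → F) i) = (pv i₀ (-1) : PI' m → F) i := by
  intro i
  rcases i with i | i <;> simp [Pi.single_apply, apply_ite σ]

theorem gf_conj (hm : 5 ≤ m) {x : MulAut (Cfsg.POmega F ⇑(plusQ m F))} (hx : IsGFClass x)
    (hx2 : orderOf x = 2) : ∃ σ : F ≃+* F, orderOf σ = 2 ∧ ∀ i₀ : Fin m,
      Cfsg.IsConjUnder (indAut m F) (gAut (plusQ m F) (sEl i₀ σ)) x := by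
  obtain ⟨α, σ, v, hσ1, hv, hfix, hα⟩ := graph_normal hx
  obtain ⟨h2, -⟩ := rEl_order (by omega) hσ1 hv Nat.prime_two (by rw [← hα, orderOf_conj', hx2])
  refine ⟨σ, h2, fun i₀ => ?_⟩
  have hg : Cfsg.gammaPOmega F ⇑(plusQ m F) = ⊤ := by rw [plusQ_coe]; exact Cfsg.Agent.S2695.result hm
  obtain ⟨a, rfl⟩ := gAut_surjective hg α
  have hX : x = gAut (plusQ m F) (a⁻¹ * rEl v σ * a) := by rw [map_mul, map_mul, map_inv, ← hα]; group
  rw [hX]
  refine conj_indAut (σ := σ) (by omega) (h2.symm ▸ Nat.prime_two) ?_ (rEl_right _ σ) ?_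
    (rEl_sq_two h2 (sEl_fix i₀ σ)) ?_ (oIn (plusQ m F) (refl (plusQ m F) (pv i₀ (-1)))) rfl
    (psgn_refl (pv_ne (neg_ne_zero.2 one_ne_zero)))
    ((Commute.refl _).mul_right (refl_comm_fEl (sEl_fix i₀ σ)))
  · show a.1.right⁻¹ * (rEl v σ).1.right * a.1.right = σ
    rw [rEl_right, mul_assoc, (commute_ringAut σ a.1.right).eq, inv_mul_cancel_left]
  · rw [← hX, h2, ← hx2, pow_orderOf_eq_one]
  · rw [map_mul, map_mul, map_inv, psgn_rEl hv, psgn_rEl (pv_ne (neg_ne_zero.2 one_ne_zero)), mul_comm,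
      ← mul_assoc, mul_inv_cancel, one_mul]

section Twisted

variable {F₀ : Type*} [Field F₀] [Fintype F₀] {e : F₀ →+* F} {σ : F ≃+* F} {k : ℕ}

/-- Coordinates in which the standard graph-field element is the field automorphism of the elliptic form. -/
noncomputable def minusTwist (he : ∀ y, σ y = y ↔ ∃ a, e a = y) {ζ : F₀} {θ θ' : F} (hθ : θ' ≠ θ)
    (hs : θ + θ' = 1) (hp : θ * θ' = e ζ) (h1 : σ θ = θ') (h2 : σ θ' = θ) :
    Twist e σ (minusQ k F₀ 1 ζ) (sEl (0 : Fin (k + 1)) σ) where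
  T := (CfsgLib.POmegaSim.splitEquiv k θ θ' hθ).symm
  hfix := he
  hQ w := by
    rw [← CfsgLib.POmegaSim.splitEquiv_form k hθ hs hp, LinearEquiv.apply_symm_apply, minusQ_coe, minusQ_coe]
    simp [Cfsg.quadFormMinus]
  hright := rEl_right _ _
  hX v := by
    rw [semi_sEl]
    funext i
    rcases i with i | i <;> refine Fin.cases ?_ (fun j => ?_) i <;>
      simp [CfsgLib.POmegaSim.splitEquiv, Fin.succ_ne_zero, h1, h2]

theorem exists_theta {q : ℕ} (hF₀ : Fintype.card F₀ = q) (hF : Fintype.card F = q ^ 2)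
    (he : ∀ y, σ y = y ↔ ∃ a, e a = y) {ζ : F₀}
    (hab : ∀ z₁ z₂ : F₀, z₁ ^ 2 + 1 * z₁ * z₂ + ζ * z₂ ^ 2 = 0 → z₁ = 0 ∧ z₂ = 0) :
    ∃ θ θ' : F, θ' ≠ θ ∧ θ + θ' = 1 ∧ θ * θ' = e ζ ∧ σ θ = θ' ∧ σ θ' = θ := by
  obtain ⟨θ, hne, hs, hp⟩ := CfsgLib.UnitaryEmbed.exists_quadratic_root hF hF₀ e 1 ζ hab
  rw [map_one] at hs
  have h1 : σ (θ + θ ^ q) = θ + θ ^ q := by rw [hs, map_one]
  have h2 : σ (θ * θ ^ q) = θ * θ ^ q := by rw [hp]; exact (he _).2 ⟨ζ, rfl⟩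
  rw [map_add] at h1
  rw [map_mul] at h2
  have hsol : (σ θ - θ) * (σ θ - θ ^ q) = 0 := by linear_combination (σ θ) * h1 - h2
  have hnot : σ θ ≠ θ := fun h => by
    obtain ⟨a, rfl⟩ := (he θ).1 h
    exact hne (by rw [← map_pow, ← hF₀, FiniteField.pow_card])
  have hσ : σ θ = θ ^ q := sub_eq_zero.1 ((mul_eq_zero.1 hsol).resolve_left (sub_ne_zero.2 hnot))
  exact ⟨θ, θ ^ q, hne, hs, hp, hσ, by rw [hσ] at h1; linear_combination h1⟩

theorem exists_rootless : ∃ ζ : F₀, ∀ t : F₀, t ^ 2 + t + ζ ≠ 0 := by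
  let g : F₀ → F₀ := fun t => -(t ^ 2 + t)
  have hns : ¬ Function.Surjective g := fun hs => by
    have hinj := (Finite.injective_iff_surjective (f := g)).2 hs
    have e0 : g 0 = g (-1) := by simp [g]
    exact one_ne_zero (neg_eq_zero.1 (hinj e0).symm)
  obtain ⟨ζ, hζ⟩ := not_forall.1 hns
  exact ⟨ζ, fun t ht => hζ ⟨t, by simp only [g]; linear_combination -ht⟩⟩

theorem aniso_of_rootless {K : Type*} [Field K] {ζ : K} (hζ : ∀ t : K, t ^ 2 + t + ζ ≠ 0) (z₁ z₂ : K)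
    (h : z₁ ^ 2 + 1 * z₁ * z₂ + ζ * z₂ ^ 2 = 0) : z₁ = 0 ∧ z₂ = 0 := by
  by_cases h2 : z₂ = 0
  · subst h2
    exact ⟨by simpa using h, rfl⟩
  · exact absurd (by field_simp; linear_combination h) (hζ (z₁ / z₂))

universe v

theorem preserves_map_ringEquiv {A B : Type*} [Field A] [Finite A] [Field B] [Finite B] (χ : A ≃+* B) (a b : A)
    (M : Matrix ((Fin k ⊕ Fin k) ⊕ Fin 2) ((Fin k ⊕ Fin k) ⊕ Fin 2) A)
    (h : Cfsg.PreservesSingularClasses (Cfsg.quadFormMinus k A a b) M) :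
    Cfsg.PreservesSingularClasses (Cfsg.quadFormMinus k B (χ a) (χ b)) (M.map χ) := by
  refine Cfsg.Agent.ClassSign57.preserves_transport (Nat.card_congr χ.toEquiv) χ
    (AddEquiv.piCongrRight fun _ : (Fin k ⊕ Fin k) ⊕ Fin 2 => χ.toAddEquiv)
    (fun c v => funext fun i => map_mul χ c (v i)) one_ne_zero (fun v => ?_) M _ (fun v => ?_) h
  · simp [Cfsg.quadFormMinus]
  · funext i
    exact (RingHom.map_mulVec χ.toRingHom M v i).symm

theorem preserves_minus_iff {F₁ : Type v} [Field F₁] [Fintype F₁] {q : ℕ} (hF₁ : Fintype.card F₁ = q)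
    (hF : Fintype.card F = q ^ 2) (f : F₁ →+* F) {ζ : F₁}
    (hab : ∀ z₁ z₂ : F₁, z₁ ^ 2 + 1 * z₁ * z₂ + ζ * z₂ ^ 2 = 0 → z₁ = 0 ∧ z₂ = 0)
    (g : Matrix ((Fin k ⊕ Fin k) ⊕ Fin 2) ((Fin k ⊕ Fin k) ⊕ Fin 2) F₁) :
    Cfsg.PreservesSingularClassesMinus k 1 ζ g ↔
      Cfsg.PreservesSingularClasses (⇑(minusQ k F 1 (f ζ))) (g.map f) := by
  have key : ∀ (K : Type v) (_ : Field K) (_ : Algebra F₁ K), Module.finrank F₁ K = 2 →
      (Cfsg.PreservesSingularClasses (Cfsg.quadFormMinus k K (algebraMap F₁ K 1) (algebraMap F₁ K ζ))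
        (g.map (algebraMap F₁ K)) ↔
      Cfsg.PreservesSingularClasses (⇑(minusQ k F 1 (f ζ))) (g.map f)) := by
    intro K _ _ hK
    let := f.toAlgebra
    have : FiniteDimensional F₁ K := FiniteDimensional.of_finrank_pos (by omega)
    have : Finite K := Module.finite_of_finite F₁
    have h2 : Module.finrank F₁ F = 2 := by
      have h := Module.card_eq_pow_finrank (K := F₁) (V := F)
      rw [hF, hF₁] at h
      exact (Nat.pow_right_injective (hF₁ ▸ Fintype.one_lt_card) h).symm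
    obtain ⟨φ⟩ := FiniteField.nonempty_algHom_of_finrank_dvd (F := F₁) (K := K) (L := F) (by rw [hK, h2])
    have hcard : Nat.card K = Nat.card F := by
      rw [Module.natCard_eq_pow_finrank (K := F₁), Module.natCard_eq_pow_finrank (K := F₁) (V := F), hK, h2]
    have hbij : Function.Bijective φ := φ.toRingHom.injective.bijective_of_nat_card_le hcard.ge
    let τ : K ≃+* F := RingEquiv.ofBijective φ.toRingHom hbij
    have hτ : ∀ a, τ (algebraMap F₁ K a) = f a := fun a => φ.commutes a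
    constructor
    · intro h
      have h' := preserves_map_ringEquiv τ _ _ _ h
      rw [hτ, hτ, map_one, Matrix.map_map, show ⇑τ ∘ ⇑(algebraMap F₁ K) = f from funext hτ, ← minusQ_coe] at h'
      exact h'
    · intro h
      rw [minusQ_coe] at h
      have h' := preserves_map_ringEquiv τ.symm _ _ _ h
      have hτ' : ∀ a, τ.symm (f a) = algebraMap F₁ K a := fun a => by rw [← hτ, τ.symm_apply_apply]
      rw [map_one, hτ', Matrix.map_map, show ⇑τ.symm ∘ ⇑f = algebraMap F₁ K from funext hτ'] at h'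
      rwa [map_one]
  constructor
  · rintro ⟨K, hK1, hK2, hK, h⟩
    exact (key K hK1 hK2 hK).1 h
  · intro h
    obtain ⟨K, hK1, hK2, hK⟩ := CfsgLib.POmegaSim.exists_quadratic_ext (1 : F₁) ζ hab
    exact ⟨K, hK1, hK2, hK, (key K hK1 hK2 hK).2 h⟩

theorem mem_indSub₀_iff {q : ℕ} (hF₀ : Fintype.card F₀ = q) (hF : Fintype.card F = q ^ 2) {ζ : F₀}
    (hab : ∀ z₁ z₂ : F₀, z₁ ^ 2 + 1 * z₁ * z₂ + ζ * z₂ ^ 2 = 0 → z₁ = 0 ∧ z₂ = 0)
    (he : ∀ y, σ y = y ↔ ∃ a, e a = y) {θ θ' : F} (hθ : θ' ≠ θ)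
    (hs : θ + θ' = 1) (hp : θ * θ' = e ζ) (h1 : σ θ = θ') (h2 : σ θ' = θ)
    (x : ↥(simSub (minusQ k F₀ 1 ζ))) :
    x ∈ (minusTwist (k := k) he hθ hs hp h1 h2).indSub₀ ↔ Cfsg.PreservesSingularClassesMinus k 1 ζ
      (x.1.1.left : Matrix ((Fin k ⊕ Fin k) ⊕ Fin 2) ((Fin k ⊕ Fin k) ⊕ Fin 2) F₀) := by
  set D := minusTwist (k := k) he hθ hs hp h1 h2
  rw [preserves_minus_iff hF₀ hF e hab]
  have hl : SemidirectProduct.inl (D.emb x).1.left ∈ semiGroup (plusQ (k + 1) F) := D.emb_mem x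
  have hQ : ∀ w, plusQ (k + 1) F (D.T w) = minusQ k F 1 (e ζ) w := fun w => by
    show plusQ (k + 1) F ((CfsgLib.POmegaSim.splitEquiv k θ θ' hθ).symm w) = _
    rw [← CfsgLib.POmegaSim.splitEquiv_form k hθ hs hp, LinearEquiv.apply_symm_apply]
  have hx : psgn (k + 1) F (D.emb x) = 1 ↔ Cfsg.PreservesSingularClasses (⇑(plusQ (k + 1) F))
      ((D.emb x).1.left : Matrix (PI' (k + 1)) (PI' (k + 1)) F) :=
    (preserves_iff (D.emb x).1.left hl).symm
  show psgn (k + 1) F (D.emb x) = 1 ↔ _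
  rw [hx, D.emb_left]
  constructor
  · refine Cfsg.Agent.ClassSign57.preserves_transport rfl (RingEquiv.refl F) D.T.symm.toAddEquiv
      (fun c v => map_smul D.T.symm c v) one_ne_zero (fun v => ?_) _ _ (fun v => ?_)
    · rw [one_mul]
      show minusQ k F 1 (e ζ) (D.T.symm v) = plusQ (k + 1) F v
      rw [← hQ, LinearEquiv.apply_symm_apply]
    · show (x.1.1.left : Matrix _ _ F₀).map e *ᵥ D.T.symm v = D.T.symm _
      obtain ⟨w, rfl⟩ := D.T.surjective v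
      rw [D.conjT_mulVec, LinearEquiv.symm_apply_apply, LinearEquiv.symm_apply_apply]
      rfl
  · refine Cfsg.Agent.ClassSign57.preserves_transport rfl (RingEquiv.refl F) D.T.toAddEquiv
      (fun c v => map_smul D.T c v) one_ne_zero (fun v => ?_) _ _ (fun v => ?_)
    · rw [one_mul]
      exact hQ v
    · exact D.conjT_mulVec _ v

theorem sqSign_pow {a : F} (ha : a ≠ 0) (n : ℕ) : sqSign (a ^ n) = sqSign a ^ n := by
  induction n with
  | zero => rw [pow_zero, pow_zero]; exact (sqSign_eq_one_iff _).2 IsSquare.one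
  | succ n ih => rw [pow_succ, pow_succ, sqSign_mul (pow_ne_zero _ ha) ha, ih]

set_option maxHeartbeats 1600000 in
/-- The classes into which the class of the standard graph-field automorphism falls. -/
theorem gf_count (hk : 4 ≤ k) {p f : ℕ} [Fact p.Prime] (hF : Fintype.card F = p ^ f)
    (he : ∀ y, σ y = y ↔ ∃ a, e a = y) (hσ : orderOf σ = 2) (hF₀ : Fintype.card F₀ = p ^ (f / 2)) :
    (p = 2 → Cfsg.splitClassCount (indAut (k + 1) F) (Cfsg.Inn (Cfsg.POmega F ⇑(plusQ (k + 1) F)))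
      (gAut (plusQ (k + 1) F) (sEl (0 : Fin (k + 1)) σ)) = 1) ∧
    ((p ≠ 2 ∧ Odd (k + 1) ∧ p ^ (f / 2) % 4 = 1) →
      Cfsg.splitClassCount (indAut (k + 1) F) (Cfsg.Inn (Cfsg.POmega F ⇑(plusQ (k + 1) F)))
      (gAut (plusQ (k + 1) F) (sEl (0 : Fin (k + 1)) σ)) = 4) ∧
    ((p ≠ 2 ∧ ¬ (Odd (k + 1) ∧ p ^ (f / 2) % 4 = 1)) →
      Cfsg.splitClassCount (indAut (k + 1) F) (Cfsg.Inn (Cfsg.POmega F ⇑(plusQ (k + 1) F)))
      (gAut (plusQ (k + 1) F) (sEl (0 : Fin (k + 1)) σ)) = 2) := by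
  classical
  have hm : 4 ≤ k + 1 := by omega
  refine ⟨fun hp => ?_, ?_⟩
  · subst hp
    have : CharP F 2 := charP_of_card_eq_prime_pow hF
    rw [indAut_eq_inn hm]
    exact splitClassCount_self _ _
  by_cases hp : p = 2
  · exact ⟨fun h => absurd hp h.1, fun h => absurd hp h.1⟩
  have h2 : (2 : F) ≠ 0 := two_ne_zero_of_odd hF (Odd.pow (Nat.Prime.odd_of_ne_two Fact.out hp))
  have h20 : (2 : F₀) ≠ 0 := fun h => h2 (by rw [← map_ofNat e, h, map_zero])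
  have hq : Fintype.card F = (p ^ (f / 2)) ^ 2 := by
    rw [← pow_mul, hF, Nat.div_mul_cancel (hσ ▸ orderOf_dvd hF σ)]
  have hsq : ∀ a, IsSquare (e a) := fun a => isSquare_of_two h2 he hσ a
  obtain ⟨d₁, hd₁⟩ := CfsgLib.OrthOmega.exists_not_square h2
  set d := Units.mk0 d₁ (fun h => hd₁ (h ▸ IsSquare.zero))
  have hd : ¬ IsSquare (d : F) := hd₁
  have hT : clT hm d ≠ 1 := by
    rw [clT, Ne, gT_eq_one_iff hm]
    rintro (h | h)
    · exact hd h
    · refine hd ?_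
      obtain ⟨i, hi⟩ := neg_one_square hsq
      have h3 := (show IsSquare ((-1 : F) ^ (k + 1)) from ⟨i ^ (k + 1), by rw [← mul_pow, ← hi]⟩).mul h
      rwa [← mul_assoc, ← pow_add, ← two_mul, pow_mul, neg_one_sq, one_pow, one_mul] at h3
  obtain ⟨ζ, hζ⟩ := exists_rootless (F₀ := F₀)
  obtain ⟨θ, θ', hθ, hs, hp', hσ1, hσ2⟩ := exists_theta hF₀ hq he (aniso_of_rootless hζ)
  obtain ⟨d₀, hd₀⟩ := CfsgLib.OrthOmega.exists_not_square h20
  have hd0 : d₀ ≠ 0 := fun h => hd₀ (h ▸ IsSquare.zero)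
  obtain ⟨s₀, hs₀⟩ := hsq d₀
  have hs0 : s₀ ≠ 0 := fun h => hd0 (by rw [h, mul_zero] at hs₀; exact (map_eq_zero e).1 hs₀)
  obtain ⟨w, hw⟩ := exists_norm_eq σ (c := Units.mk0 (e d₀) ((map_ne_zero e).2 hd0)) ((he _).2 ⟨d₀, rfl⟩)
  have hw' : (w : F) * σ (w : F) = e d₀ := by
    have h := congrArg Units.val hw
    rw [normU_apply] at h
    rw [Units.coe_prod, Units.val_mk0] at h
    rw [← Fin.prod_congr' _ hσ.symm, Fin.prod_univ_two] at h
    simpa using h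
  have hwns : ¬ IsSquare (w : F) := by
    rintro ⟨z, hz⟩
    rw [hz, map_mul] at hw'
    have hfix : σ (z * σ z) = z * σ z := by
      rw [map_mul, show σ (σ z) = z by
        rw [← RingAut.mul_apply, ← pow_two, ← hσ, pow_orderOf_eq_one]; rfl, mul_comm]
    obtain ⟨c, hc⟩ := (he _).1 hfix
    refine hd₀ ⟨c, e.injective ?_⟩
    rw [map_mul, hc, ← hw']
    ring
  set s := Units.mk0 s₀ hs0
  let a : Fin (k + 1) → Fˣ := fun i => if i = 0 then w * s⁻¹ else s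
  let A : GL (Fin (k + 1)) F := ⟨diagonal fun i => (a i : F), diagonal fun i => ((a i)⁻¹ : Fˣ),
    by rw [diagonal_mul_diagonal, ← diagonal_one]; congr 1; funext i; simp,
    by rw [diagonal_mul_diagonal, ← diagonal_one]; congr 1; funext i; simp⟩
  let S : ↥(semiGroup (plusQ (k + 1) F)) :=
    ⟨SemidirectProduct.inl (GeneralLinearGroup.scalar (PI' (k + 1)) s), ⟨s * s, fun v => by
      show plusQ (k + 1) F ((GeneralLinearGroup.scalar (PI' (k + 1)) s : Matrix (PI' (k + 1)) (PI' (k + 1)) F) *ᵥ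
        ((1 : F ≃+* F) ∘ v)) = _
      rw [scalar_mulVec, QuadraticMap.map_smul]
      rfl⟩⟩
  obtain ⟨H₁, hH₁⟩ : ∃ H, H = S * oIn (plusQ (k + 1) F) (levi (k + 1) F A) := ⟨_, rfl⟩
  have hsemi : ∀ v, semi H₁.1 v = Sum.elim (fun i => (s : F) * (a i : F) * v (.inl i))
      (fun i => (s : F) * ((a i)⁻¹ : Fˣ) * v (.inr i)) := fun v => by
    rw [hH₁, Subgroup.coe_mul, semi_mul,
      show semi (oIn (plusQ (k + 1) F) (levi (k + 1) F A)).1 v = app (levi (k + 1) F A) v from app_semi _ _]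
    show (GeneralLinearGroup.scalar (PI' (k + 1)) s : Matrix (PI' (k + 1)) (PI' (k + 1)) F) *ᵥ
      ((1 : F ≃+* F) ∘ app (levi (k + 1) F A) v) = _
    rw [scalar_mulVec, app_apply]
    show (s : F) • ((1 : F ≃+* F) ∘ (fromBlocks (diagonal fun i => (a i : F)) 0 0
      (diagonal fun i => (((a i)⁻¹ : Fˣ) : F))ᵀ *ᵥ v)) = _
    rw [diagonal_transpose, fromBlocks_mulVec]
    funext i
    rcases i with i | i <;> simp [mulVec_diagonal, mul_assoc]
  have hc₁ : Commute H₁ (sEl (0 : Fin (k + 1)) σ) := by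
    refine Subtype.ext (left_ext ?_ fun v => ?_)
    · rw [hH₁]
      show 1 * 1 * (sEl (0 : Fin (k + 1)) σ).1.right = (sEl (0 : Fin (k + 1)) σ).1.right * (1 * 1)
      rw [one_mul, one_mul, mul_one]
    have hR : σ ((s : F) * ((w * s⁻¹)⁻¹ : Fˣ)) = (w : F) ∧ σ (w : F) = (s : F) * ((w * s⁻¹)⁻¹ : Fˣ) ∧
        σ ((s : F) * (s : F)) = (s : F) * s := by
      have hd' : (s : F) * s = e d₀ := hs₀.symm
      have h3 : (s : F) * ((w * s⁻¹)⁻¹ : Fˣ) = σ (w : F) := by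
        simp only [Units.val_inv_eq_inv_val, Units.val_mul, _root_.mul_inv_rev, inv_inv]
        rw [← mul_assoc, hd', ← hw']
        field_simp
      refine ⟨?_, h3.symm, by rw [hd']; exact (he _).2 ⟨d₀, rfl⟩⟩
      rw [h3, ← RingAut.mul_apply, ← pow_two, ← hσ, pow_orderOf_eq_one]
      rfl
    show semi (H₁.1 * (sEl (0 : Fin (k + 1)) σ).1) v = semi ((sEl (0 : Fin (k + 1)) σ).1 * H₁.1) v
    rw [semi_mul, semi_mul, semi_sEl, semi_sEl, hsemi, hsemi]
    have hL : (s : F) * ((w * s⁻¹ : Fˣ) : F) = w := by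
      rw [Units.val_mul, mul_left_comm, ← Units.val_mul, mul_inv_cancel, Units.val_one, mul_one]
    obtain ⟨e1, e2, e3⟩ := hR
    funext i
    rcases i with i | i <;> by_cases hi : i = 0
    · subst hi
      simp only [Sum.elim_inl, Sum.elim_inr, if_true, a, map_mul σ _ (v _)]
      rw [e1, hL]
    · simp only [Sum.elim_inl, if_neg hi, a]
      rw [map_mul σ _ (v _), e3]
    · subst hi
      simp only [Sum.elim_inl, Sum.elim_inr, if_true, a, hL, map_mul σ (w : F), e2]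
    · simp only [Sum.elim_inr, if_neg hi, a]
      rw [Units.mul_inv, one_mul, one_mul]
  have hs₁ : psgn (k + 1) F H₁ = 1 := (plusLag (k + 1) F).sgn_eq_one_of_stab fun v hv => mem_W.2 fun i => by
    rw [hsemi]
    simp [mem_W.1 hv i]
  have hH₁Q : ∀ v, plusQ (k + 1) F (semi H₁.1 v) = e d₀ * plusQ (k + 1) F v := fun v => by
    rw [hsemi, plusQ_coe, hs₀]
    simp only [Cfsg.quadFormPlus, Sum.elim_inl, Sum.elim_inr, Finset.mul_sum]
    refine Finset.sum_congr rfl fun i _ => ?_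
    show (s : F) * (a i : F) * v (.inl i) * ((s : F) * ((a i)⁻¹ : Fˣ) * v (.inr i)) =
      (s : F) * s * (v (.inl i) * v (.inr i))
    simp only [Units.val_inv_eq_inv_val]
    field_simp
  obtain ⟨hu, hcl⟩ := centCls_cases (minusTwist (k := k) he hθ hs hp' hσ1 hσ2) h2 hm hsq
    (minusQ_nondegenerate h20 (aniso_of_rootless hζ)) (by simp; omega) hs₁ (by rw [hH₁]; rfl) hc₁ hd₀ hH₁Q
  obtain ⟨k4, k2⟩ := count_of_image h2 hm hd hT _ _ hu hcl
  have hout : outMap (plusQ (k + 1) F) H₁ = cls (plusQ (k + 1) F) (levi (k + 1) F A) := by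
    rw [hH₁, map_mul, show outMap (plusQ (k + 1) F) S = 1 by
      rw [outMap, MonoidHom.comp_apply, gAut_scalar (x := S) rfl rfl, map_one], one_mul]
    rfl
  have hdet : (A : Matrix (Fin (k + 1)) (Fin (k + 1)) F).det = (w : F) * (s₀⁻¹ * s₀ ^ k) := by
    show (diagonal fun i => (a i : F)).det = _
    rw [det_diagonal, Fin.prod_univ_succ]
    simp [a, s, Fin.succ_ne_zero, mul_assoc]
  have hsign : IsSquare (A : Matrix (Fin (k + 1)) (Fin (k + 1)) F).det ↔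
      (Odd (k + 1) ∧ p ^ (f / 2) % 4 = 1) := by
    have hsi := isSquare_sqrt_iff h2 hF₀ hq hd₀ hs₀
    have hqodd : (p ^ (f / 2)) % 2 = 1 := Nat.odd_iff.1 (Odd.pow (Nat.Prime.odd_of_ne_two Fact.out hp))
    rw [hdet, ← sqSign_eq_one_iff, sqSign_mul w.ne_zero (mul_ne_zero (inv_ne_zero hs0) (pow_ne_zero _ hs0)),
      sqSign_mul (inv_ne_zero hs0) (pow_ne_zero _ hs0), sqSign_pow hs0,
      show sqSign (s₀⁻¹) = sqSign s₀ by simp [sqSign, isSquare_inv],
      show sqSign (w : F) = -1 by simp [sqSign, hwns], ← pow_succ']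
    by_cases h3 : IsSquare s₀
    · rw [(sqSign_eq_one_iff _).2 h3, one_pow]
      refine iff_of_false (by decide) fun h => ?_
      have := hsi.1 h3
      omega
    · rw [show sqSign s₀ = -1 by simp [sqSign, h3]]
      rcases Nat.even_or_odd (k + 1) with he' | ho
      · rw [he'.neg_one_pow]
        exact iff_of_false (by decide) fun h => (Nat.not_even_iff_odd.2 h.1) he'
      · rw [ho.neg_one_pow]
        refine iff_of_true (by decide) ⟨ho, ?_⟩
        have : p ^ (f / 2) % 4 ≠ 3 := fun h => h3 (hsi.2 h)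
        omega
  have hone : outMap (plusQ (k + 1) F) H₁ = 1 ↔ IsSquare (A : Matrix (Fin (k + 1)) (Fin (k + 1)) F).det := by
    rw [hout]
    constructor
    · intro h
      by_contra hns
      refine hT ?_
      rw [← h, clT, gT]
      refine cls_levi_congr hm ?_
      rw [show ((diagT (⟨0, by omega⟩ : Fin (k + 1)) d : GL (Fin (k + 1)) F) :
        Matrix (Fin (k + 1)) (Fin (k + 1)) F).det = (d : F) from congrArg Units.val (det_diagT _ d),
        ← sqSign_eq_one_iff, sqSign_mul d.ne_zero (show (A : Matrix (Fin (k + 1)) (Fin (k + 1)) F).det ≠ 0 from (GeneralLinearGroup.det A).ne_zero)]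
      simp [sqSign, hns, hd]
    · intro h
      exact cls_omega hm ((levi_mem_iff (by omega) (Or.inr (by omega)) _).2 h)
  exact ⟨fun h => k4 (hone.2 (hsign.2 h.2)), fun h => k2 fun h' => h.2 (hsign.1 (hone.1 h'))⟩

theorem fieldHom_inl (g : GL ((Fin k ⊕ Fin k) ⊕ Fin 2) F₀) {Q : QuadraticForm F₀ (((Fin k ⊕ Fin k) ⊕ Fin 2) → F₀)}
    (hg : g ∈ Cfsg.Geo.quadSimilarityGroup (F := F₀) ⇑Q) : SemidirectProduct.inl g ∈ semiGroup Q := by
  obtain ⟨c, hc⟩ := hg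
  exact ⟨c, fun v => hc v⟩

/-- The inner-diagonal group of the minus form, for the predicate of the prelude. -/
theorem map_indSub₀_eq {q : ℕ} (hF₀ : Fintype.card F₀ = q) (hF : Fintype.card F = q ^ 2) {ζ : F₀}
    (hab : ∀ z₁ z₂ : F₀, z₁ ^ 2 + 1 * z₁ * z₂ + ζ * z₂ ^ 2 = 0 → z₁ = 0 ∧ z₂ = 0)
    (he : ∀ y, σ y = y ↔ ∃ a, e a = y) {θ θ' : F} (hθ : θ' ≠ θ)
    (hs : θ + θ' = 1) (hp : θ * θ' = e ζ) (h1 : σ θ = θ') (h2 : σ θ' = θ) :
    ((minusTwist (k := k) he hθ hs hp h1 h2).indSub₀).map ((gAut (minusQ k F₀ 1 ζ)).comp (simSub (minusQ k F₀ 1 ζ)).subtype) =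
      Cfsg.autSubgroupOf (fun β : Cfsg.POmega F₀ ⇑(minusQ k F₀ 1 ζ) ≃* Cfsg.POmega F₀ ⇑(minusQ k F₀ 1 ζ) =>
        ∃ g : GL ((Fin k ⊕ Fin k) ⊕ Fin 2) F₀, g ∈ Cfsg.Geo.quadSimilarityGroup (F := F₀) ⇑(minusQ k F₀ 1 ζ) ∧
          Cfsg.PreservesSingularClassesMinus k 1 ζ
            (g : Matrix ((Fin k ⊕ Fin k) ⊕ Fin 2) ((Fin k ⊕ Fin k) ⊕ Fin 2) F₀) ∧
          Cfsg.IsInducedBySemilinearPOmega (⇑(minusQ k F₀ 1 ζ)) g (RingEquiv.refl F₀) β) := by
  refine le_antisymm ?_ ((Subgroup.closure_le _).2 ?_)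
  · rintro _ ⟨x, hx, rfl⟩
    have hr : x.1.1.right = 1 := x.2
    obtain ⟨c, hc⟩ := x.1.2
    have hi := gAut_induced x.1
    rw [hr] at hi hc
    exact Subgroup.subset_closure ⟨x.1.1.left, ⟨c, fun v => by have := hc v; rw [semi, hr] at this; exact this⟩,
      (mem_indSub₀_iff hF₀ hF hab he hθ hs hp h1 h2 x).1 hx, hi⟩
  · rintro β ⟨g, hg, hpres, hβ⟩
    let x : ↥(simSub (minusQ k F₀ 1 ζ)) := ⟨⟨SemidirectProduct.inl g, fieldHom_inl g hg⟩, rfl⟩
    exact ⟨x, (mem_indSub₀_iff hF₀ hF hab he hθ hs hp h1 h2 x).2 hpres, (eq_gAut_of_induced x.1 hβ).symm⟩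

end Twisted

set_option maxHeartbeats 800000 in
/-- The involutory graph-field automorphisms. -/
theorem gf_main {k : ℕ} (hk : 4 ≤ k) {p f : ℕ} [Fact p.Prime] (hF : Fintype.card F = p ^ f)
    {x : MulAut (Cfsg.POmega F ⇑(plusQ (k + 1) F))} (hx : IsGFClass x) (hx2 : orderOf x = 2)
    {F₀ : Type*} [Field F₀] [Fintype F₀] (hF₀ : Fintype.card F₀ = p ^ (f / 2)) :
    Even f ∧
    (∀ y : MulAut (Cfsg.POmega F ⇑(plusQ (k + 1) F)), IsGFClass y → orderOf y = 2 →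
      Cfsg.IsConjUnder (indAut (k + 1) F) x y) ∧
    (∃ ζ : F₀, (∀ z₁ z₂ : F₀, z₁ ^ 2 + 1 * z₁ * z₂ + ζ * z₂ ^ 2 = 0 → z₁ = 0 ∧ z₂ = 0) ∧
      Nonempty (↥(indAut (k + 1) F ⊓ Subgroup.centralizer {x}) ≃*
        ↥(Cfsg.autSubgroupOf (fun β : Cfsg.POmega F₀ ⇑(minusQ k F₀ 1 ζ) ≃* Cfsg.POmega F₀ ⇑(minusQ k F₀ 1 ζ) =>
          ∃ g : GL ((Fin k ⊕ Fin k) ⊕ Fin 2) F₀, g ∈ Cfsg.Geo.quadSimilarityGroup (F := F₀) ⇑(minusQ k F₀ 1 ζ) ∧
            Cfsg.PreservesSingularClassesMinus k 1 ζ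
              (g : Matrix ((Fin k ⊕ Fin k) ⊕ Fin 2) ((Fin k ⊕ Fin k) ⊕ Fin 2) F₀) ∧
            Cfsg.IsInducedBySemilinearPOmega (⇑(minusQ k F₀ 1 ζ)) g (RingEquiv.refl F₀) β)))) ∧
    (p = 2 → Cfsg.splitClassCount (indAut (k + 1) F) (Cfsg.Inn (Cfsg.POmega F ⇑(plusQ (k + 1) F))) x = 1) ∧
    ((p ≠ 2 ∧ Odd (k + 1) ∧ p ^ (f / 2) % 4 = 1) →
      Cfsg.splitClassCount (indAut (k + 1) F) (Cfsg.Inn (Cfsg.POmega F ⇑(plusQ (k + 1) F))) x = 4) ∧
    ((p ≠ 2 ∧ ¬ (Odd (k + 1) ∧ p ^ (f / 2) % 4 = 1)) →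
      Cfsg.splitClassCount (indAut (k + 1) F) (Cfsg.Inn (Cfsg.POmega F ⇑(plusQ (k + 1) F))) x = 2) := by
  obtain ⟨σ, hσ, hc⟩ := gf_conj (by omega) hx hx2
  obtain ⟨h, hh, hxe⟩ := hc 0
  obtain ⟨e, he⟩ := exists_fixed_hom hF σ (by rw [hσ]; exact hF₀)
  have hf : 2 ∣ f := hσ ▸ orderOf_dvd hF σ
  have hq : Fintype.card F = (p ^ (f / 2)) ^ 2 := by rw [← pow_mul, hF, Nat.div_mul_cancel hf]
  refine ⟨even_iff_two_dvd.2 hf, fun y hy hy2 => ?_, ?_, ?_⟩
  · obtain ⟨τ, hτ, hc'⟩ := gf_conj (by omega) hy hy2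
    have := hc' 0
    rw [eq_of_order_two hτ hσ] at this
    exact CfsgLib.Split.isConjUnder_trans (CfsgLib.Split.isConjUnder_symm ⟨h, hh, hxe⟩) this
  · obtain ⟨ζ, hζ⟩ := exists_rootless (F₀ := F₀)
    have hab := aniso_of_rootless hζ
    obtain ⟨θ, θ', hθ, hs, hp, h1, h2⟩ := exists_theta hF₀ hq he hab
    obtain ⟨E⟩ := (minusTwist (k := k) he hθ hs hp h1 h2).nonempty_equiv (by omega)
      (CfsgLib.POmega.minusQ_nondegenerate_any hab) (by simp; omega) (minusData (by omega) 1 ζ)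
    refine ⟨ζ, hab, ⟨?_⟩⟩
    rw [hxe, ← map_indSub₀_eq hF₀ hq hab he hθ hs hp h1 h2]
    exact (CfsgLib.Split.centralizerConj hh).symm.trans E
  · rw [hxe, CfsgLib.Split.splitClassCount_conj hh]
    exact gf_count hk hF he hσ hF₀

end Cfsg.Agent.GraphFieldAut57
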