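import Cfsg.Agent.Lib.Sp.Decomp

/-!
Involutive isometries in characteristic two: normal forms.
-/

set_option autoImplicit false
set_option linter.unusedSectionVars false

namespace Cfsg.Agent.InvolForm57

open Module
open LinearMap (BilinForm)

variable {F : Type*} [Field F] [CharP F 2] {V : Type*} [AddCommGroup V] [Module F V] [FiniteDimensional F V]
  {B : BilinForm F V}

theorem alt_comm (hA : B.IsAlt) (x y : V) : B x y = B y x := by
  rw [← LinearMap.IsAlt.neg hA y x, CharTwo.neg_eq]

/-- `x ↦ ∑ B x (w i) • w (π i)` -/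
def nMap (B : BilinForm F V) {κ : Type*} [Fintype κ] (π : κ → κ) (w : κ → V) : End F V :=
  ∑ i, (B.flip (w i)).smulRight (w (π i))

theorem nMap_apply {κ : Type*} [Fintype κ] (π : κ → κ) (w : κ → V) (x : V) :
    nMap B π w x = ∑ i, B x (w i) • w (π i) := by
  simp [nMap, LinearMap.sum_apply]

/-- An independent family spanning a totally isotropic subspace. -/
structure IsFam (B : BilinForm F V) {κ : Type*} (w : κ → V) : Prop where
  indep : LinearIndependent F w
  iso : ∀ i j, B (w i) (w j) = 0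

theorem nMap_conj {κ : Type*} [Fintype κ] (π : κ → κ) (w : κ → V) (g : V →ₗ[F] V)
    (hg : ∀ x y, B (g x) (g y) = B x y) (x : V) :
    g (nMap B π w x) = nMap B π (fun i => g (w i)) (g x) := by
  rw [nMap_apply, nMap_apply, map_sum]
  exact Finset.sum_congr rfl fun i _ => by rw [map_smul, hg]

section Fam

variable {κ : Type*} [Fintype κ] {π : κ → κ} {w : κ → V}

theorem nMap_sq (hw : IsFam B w) (x : V) : nMap B π w (nMap B π w x) = 0 := by
  rw [nMap_apply]
  refine Finset.sum_eq_zero fun i _ => ?_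
  rw [nMap_apply, map_sum, LinearMap.sum_apply, Finset.sum_eq_zero, zero_smul]
  intro j _
  rw [map_smul, LinearMap.smul_apply, hw.iso, smul_zero]

theorem nMap_adj (hA : B.IsAlt) (hπ : Function.Involutive π) (x y : V) :
    B (nMap B π w x) y = B x (nMap B π w y) := by
  rw [nMap_apply, nMap_apply, map_sum, LinearMap.sum_apply, map_sum]
  rw [← Equiv.sum_comp (hπ.toPerm π) (fun i => (B (B x (w i) • w (π i))) y)]
  refine Finset.sum_congr rfl fun i _ => ?_
  show (B (B x (w (π i)) • w (π (π i)))) y = B x (B y (w i) • w (π i))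
  rw [hπ i, map_smul, LinearMap.smul_apply, map_smul, smul_eq_mul, smul_eq_mul, alt_comm hA (w i) y, mul_comm]

theorem nMap_iso (hw : IsFam B w) (hA : B.IsAlt) (hπ : Function.Involutive π) (x y : V) :
    B (x + nMap B π w x) (y + nMap B π w y) = B x y := by
  have h : B (nMap B π w x) (nMap B π w y) = 0 := by rw [nMap_adj hA hπ, nMap_sq hw, map_zero]
  rw [map_add, map_add, LinearMap.add_apply, LinearMap.add_apply, h, nMap_adj hA hπ, add_zero, add_assoc,
    CharTwo.add_self_eq_zero, add_zero]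

theorem exists_pairing (hB : B.Nondegenerate) (hA : B.IsAlt) (hw : IsFam B w) (c : κ → F) :
    ∃ x, ∀ i, B x (w i) = c i := by
  let L : V →ₗ[F] (κ → F) := LinearMap.pi fun i => B.flip (w i)
  have hker : LinearMap.ker L = B.orthogonal (Submodule.span F (Set.range w)) := by
    ext x
    constructor
    · intro hx n hn
      show B n x = 0
      induction hn using Submodule.span_induction with
      | mem v hv =>
        obtain ⟨i, rfl⟩ := hv
        rw [alt_comm hA]
        exact congrFun (LinearMap.mem_ker.1 hx) i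
      | zero => rw [map_zero, LinearMap.zero_apply]
      | add u v _ _ hu hv => rw [map_add, LinearMap.add_apply, hu, hv, add_zero]
      | smul a v _ hv => rw [map_smul, LinearMap.smul_apply, hv, smul_zero]
    · intro hx
      refine LinearMap.mem_ker.2 (funext fun i => ?_)
      show B x (w i) = 0
      rw [alt_comm hA]
      exact hx _ (Submodule.subset_span ⟨i, rfl⟩)
  have h1 := L.finrank_range_add_finrank_ker
  rw [hker, LinearMap.BilinForm.finrank_orthogonal hB, finrank_span_eq_card hw.indep] at h1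
  have h2 : Fintype.card κ ≤ finrank F V := hw.indep.fintype_card_le_finrank
  have htop : LinearMap.range L = ⊤ := by
    refine Submodule.eq_top_of_finrank_eq ?_
    rw [Module.finrank_fintype_fun_eq_card]
    omega
  obtain ⟨x, hx⟩ := LinearMap.range_eq_top.1 htop c
  exact ⟨x, fun i => congrFun hx i⟩

theorem finrank_range_nMap (hB : B.Nondegenerate) (hA : B.IsAlt) (hw : IsFam B w) (hπ : Function.Involutive π) :
    finrank F (LinearMap.range (nMap B π w)) = Fintype.card κ := by
  classical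
  have h : LinearMap.range (nMap B π w) = Submodule.span F (Set.range w) := by
    refine le_antisymm ?_ (Submodule.span_le.2 ?_)
    · rintro _ ⟨x, rfl⟩
      rw [nMap_apply]
      exact Submodule.sum_mem _ fun i _ => Submodule.smul_mem _ _ (Submodule.subset_span ⟨_, rfl⟩)
    · rintro _ ⟨j, rfl⟩
      obtain ⟨x, hx⟩ := exists_pairing hB hA hw (Pi.single (π j) 1)
      refine ⟨x, ?_⟩
      rw [nMap_apply, Finset.sum_eq_single (π j)]
      · rw [hx, Pi.single_eq_same, one_smul, hπ]
      · intro i _ hi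
        rw [hx, Pi.single_eq_of_ne hi, zero_smul]
      · simp
  rw [h, finrank_span_eq_card hw.indep]

theorem pairing_nMap (x : V) : B x (nMap B π w x) = ∑ i, B x (w i) * B x (w (π i)) := by
  rw [nMap_apply, map_sum]
  exact Finset.sum_congr rfl fun i _ => by rw [map_smul, smul_eq_mul]

theorem exists_not_alt [Nonempty κ] (hB : B.Nondegenerate) (hA : B.IsAlt) (hw : IsFam B w) :
    ∃ x, B x (nMap B id w x) ≠ 0 := by
  classical
  obtain ⟨i₀⟩ := (inferInstance : Nonempty κ)
  obtain ⟨x, hx⟩ := exists_pairing hB hA hw (Pi.single i₀ 1)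
  refine ⟨x, ?_⟩
  rw [pairing_nMap, Finset.sum_eq_single i₀ (fun i _ hi => by rw [hx, Pi.single_eq_of_ne hi, zero_mul]) (by simp)]
  simp [hx]

theorem alt_of_swap {κ' : Type*} [Fintype κ'] (w : κ' ⊕ κ' → V) (x : V) : B x (nMap B Sum.swap w x) = 0 := by
  rw [pairing_nMap, Fintype.sum_sum_type, ← Finset.sum_add_distrib]
  refine Finset.sum_eq_zero fun i _ => ?_
  rw [Sum.swap_inl, Sum.swap_inr, mul_comm (B x (w (Sum.inr i))), CharTwo.add_self_eq_zero]

end Fam

section Decompose

theorem exists_dual_family [Finite F] (β : BilinForm F V) (hs : β.IsSymm) :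
    ∀ (n : ℕ) (U : Submodule F V), finrank F U = n → (∀ x ∈ U, (∀ y ∈ U, β x y = 0) → x = 0) →
      (∃ x ∈ U, β x x ≠ 0) ∨ n = 0 →
      ∃ v : Fin n → V, (∀ i, v i ∈ U) ∧ ∀ i j, β (v i) (v j) = if i = j then 1 else 0 := by
  haveI : Fintype F := Fintype.ofFinite F
  intro n
  induction n with
  | zero => exact fun U _ _ _ => ⟨Fin.elim0, fun i => i.elim0, fun i => i.elim0⟩
  | succ n ih =>
    intro U hU hsep hna
    obtain ⟨x, hxU, hx⟩ := hna.resolve_right (Nat.succ_ne_zero n)
    obtain ⟨c, hc⟩ := FiniteField.isSquare_of_char_two (ringChar.eq_iff.2 inferInstance) (β x x)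
    have hc0 : c ≠ 0 := fun h => hx (by rw [hc, h, mul_zero])
    obtain ⟨u₀, hu₀U, hu₀1⟩ : ∃ u₀ ∈ U, β u₀ u₀ = 1 := ⟨c⁻¹ • x, U.smul_mem _ hxU, by
      simp only [map_smul, LinearMap.smul_apply, smul_eq_mul, hc]
      field_simp⟩
    -- choose `u` with non-alternating complement
    obtain ⟨u, huU, hu1, hrest⟩ : ∃ u ∈ U, β u u = 1 ∧
        ((∃ y ∈ U, β u y = 0 ∧ β y y ≠ 0) ∨ n = 0) := by
      by_cases hgood : ∃ y ∈ U, β u₀ y = 0 ∧ β y y ≠ 0
      · exact ⟨u₀, hu₀U, hu₀1, Or.inl hgood⟩
      push Not at hgood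
      rcases Nat.eq_zero_or_pos n with hn | hn
      · exact ⟨u₀, hu₀U, hu₀1, Or.inr hn⟩
      obtain ⟨e, he, he0⟩ : ∃ e, (e ∈ U ∧ β u₀ e = 0) ∧ e ≠ 0 := by
        have hk : LinearMap.ker ((β u₀).comp U.subtype) ≠ ⊥ :=
          LinearMap.ker_ne_bot_of_finrank_lt (by rw [Module.finrank_self, hU]; omega)
        obtain ⟨e, he, he0⟩ := Submodule.exists_mem_ne_zero_of_ne_bot hk
        exact ⟨e, ⟨e.2, LinearMap.mem_ker.1 he⟩, fun h => he0 (Subtype.ext h)⟩
      obtain ⟨y, hyU, hy⟩ : ∃ y ∈ U, β e y ≠ 0 := by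
        by_contra h
        push Not at h
        exact he0 (hsep e he.1 h)
      set f₀ := y - β u₀ y • u₀ with hf₀
      have hf₀U : f₀ ∈ U := U.sub_mem hyU (U.smul_mem _ hu₀U)
      have hf₀u : β u₀ f₀ = 0 := by rw [hf₀, map_sub, map_smul, smul_eq_mul, hu₀1, mul_one, sub_self]
      have hef : β e f₀ = β e y := by
        rw [hf₀, map_sub, map_smul, smul_eq_mul, hs.eq e u₀, he.2, mul_zero, sub_zero]
      set f := (β e y)⁻¹ • f₀ with hf
      have hfU : f ∈ U := U.smul_mem _ hf₀U
      have hfu : β u₀ f = 0 := by rw [hf, map_smul, hf₀u, smul_zero]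
      have hef1 : β e f = 1 := by rw [hf, map_smul, hef, smul_eq_mul, inv_mul_cancel₀ hy]
      have hee := hgood e he.1 he.2
      have hff := hgood f hfU hfu
      refine ⟨u₀ + e, U.add_mem hu₀U he.1, ?_, Or.inl ⟨u₀ + f, U.add_mem hu₀U hfU, ?_, ?_⟩⟩
      · simp only [map_add, LinearMap.add_apply, hu₀1, he.2, hs.eq e u₀, hee, add_zero]
      · simp only [map_add, LinearMap.add_apply, hu₀1, hfu, hs.eq e u₀, he.2, hef1, zero_add, add_zero]
        exact CharTwo.add_self_eq_zero 1
      · simp only [map_add, LinearMap.add_apply, hu₀1, hfu, hs.eq f u₀, hff, add_zero]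
        exact one_ne_zero
    let U' : Submodule F V := U ⊓ LinearMap.ker (β u)
    have hproj : ∀ y ∈ U, y - β u y • u ∈ U' := fun y hy =>
      ⟨U.sub_mem hy (U.smul_mem _ huU), LinearMap.mem_ker.2 (by rw [map_sub, map_smul, smul_eq_mul, hu1, mul_one, sub_self])⟩
    have hU' : finrank F U' = n := by
      have h := ((β u).comp U.subtype).finrank_range_add_finrank_ker
      have hr : LinearMap.range ((β u).comp U.subtype) = ⊤ := by
        rw [LinearMap.range_eq_top]
        exact fun a => ⟨⟨a • u, U.smul_mem a huU⟩, by simp [hu1]⟩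
      rw [hr, finrank_top, Module.finrank_self, hU, ← Submodule.finrank_map_subtype_eq] at h
      have : (LinearMap.ker ((β u).comp U.subtype)).map U.subtype = U' := by
        rw [LinearMap.ker_comp, Submodule.map_comap_subtype]
      rw [this] at h
      omega
    have hsep' : ∀ z ∈ U', (∀ y ∈ U', β z y = 0) → z = 0 := fun z hz hzy => hsep z hz.1 fun y hy => by
      have := hzy _ (hproj y hy)
      rw [map_sub, map_smul, hs.eq z u, LinearMap.mem_ker.1 hz.2, smul_zero, sub_zero] at this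
      exact this
    obtain ⟨v, hvU, hv⟩ := ih U' hU' hsep' (by
      rcases hrest with ⟨y, hy, hy0, hy1⟩ | h
      · exact Or.inl ⟨y, ⟨hy, LinearMap.mem_ker.2 hy0⟩, hy1⟩
      · exact Or.inr h)
    refine ⟨Fin.cons u v, fun i => ?_, fun i j => ?_⟩
    · refine Fin.cases ?_ (fun k => ?_) i
      · exact huU
      · exact (hvU k).1
    · have h0 : ∀ k, β u (v k) = 0 := fun k => LinearMap.mem_ker.1 (hvU k).2
      refine Fin.cases ?_ (fun a => ?_) i <;> refine Fin.cases ?_ (fun b => ?_) j
      · simp [hu1]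
      · simp [h0, (Fin.succ_ne_zero b).symm]
      · rw [Fin.cons_succ, Fin.cons_zero, if_neg (Fin.succ_ne_zero a), hs.eq (v a) u, h0]
      · simp [hv, Fin.succ_inj]

variable {N : End F V}

/-- `N` is the map attached to the images of a dual family. -/
theorem eq_nMap (hA : B.IsAlt) (hN : ∀ x, N (N x) = 0) (hadj : ∀ x y, B (N x) y = B x (N y))
    {κ : Type*} [Fintype κ] [DecidableEq κ] {π : κ → κ} (hπ : Function.Involutive π) (v : κ → V)
    (hv : ∀ i j, B (N (v i)) (v j) = if π i = j then 1 else 0)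
    (hcard : Fintype.card κ = finrank F (LinearMap.range N)) :
    IsFam B (fun i => N (v i)) ∧ N = nMap B π (fun i => N (v i)) := by
  have hli : LinearIndependent F fun i => N (v i) := by
    rw [Fintype.linearIndependent_iff]
    intro c hc i
    have := congrArg (fun z => B z (v (π i))) hc
    simp only [map_sum, LinearMap.sum_apply, map_smul, LinearMap.smul_apply, hv, smul_eq_mul, mul_ite, mul_one,
      mul_zero, map_zero, LinearMap.zero_apply] at this
    rwa [Finset.sum_eq_single i (fun b _ hb => if_neg fun h => hb (hπ.injective h)) (by simp), if_pos rfl] at this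
  have hfam : IsFam B (fun i => N (v i)) := ⟨hli, fun i j => by rw [hadj, hN, map_zero]⟩
  have hspan : Submodule.span F (Set.range fun i => N (v i)) = LinearMap.range N := by
    refine Submodule.eq_of_le_of_finrank_eq (Submodule.span_le.2 (by rintro _ ⟨i, rfl⟩; exact LinearMap.mem_range_self _ _)) ?_
    rw [finrank_span_eq_card hli, hcard]
  refine ⟨hfam, LinearMap.ext fun x => sub_eq_zero.1 ?_⟩
  have hd : N x - nMap B π (fun i => N (v i)) x ∈ Submodule.span F (Set.range fun i => N (v i)) := by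
    refine sub_mem (hspan ▸ LinearMap.mem_range_self _ _) ?_
    rw [nMap_apply]
    exact Submodule.sum_mem _ fun i _ => Submodule.smul_mem _ _ (Submodule.subset_span ⟨_, rfl⟩)
  obtain ⟨c, hc⟩ := Submodule.mem_span_range_iff_exists_fun F |>.1 hd
  rw [← hc]
  refine Finset.sum_eq_zero fun i _ => ?_
  have h := congrArg (fun z => B z (v (π i))) hc
  simp only [map_sum, LinearMap.sum_apply, map_smul, LinearMap.smul_apply, hv, smul_eq_mul, mul_ite, mul_one,
    mul_zero, map_sub, LinearMap.sub_apply, nMap_apply] at h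
  rw [Finset.sum_eq_single i (fun b _ hb => if_neg fun h => hb (hπ.injective h)) (by simp), if_pos rfl,
    Finset.sum_eq_single (π i) (fun b _ hb => by rw [hπ b, if_neg hb]) (by simp), hπ (π i), if_pos rfl,
    hadj x, sub_self] at h
  rw [h, zero_smul]

theorem beta_symm (hA : B.IsAlt) (hadj : ∀ x y, B (N x) y = B x (N y)) : LinearMap.BilinForm.IsSymm (B.compl₁₂ N LinearMap.id : BilinForm F V) :=
  ⟨fun x y => by
    show B (N x) y = B (N y) x
    rw [hadj, alt_comm hA]⟩

theorem compl_sep (hB : B.Nondegenerate) (hN : ∀ x, N (N x) = 0) (hadj : ∀ x y, B (N x) y = B x (N y))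
    {C : Submodule F V} (hC : IsCompl C (LinearMap.ker N)) :
    (∀ x ∈ C, (∀ y ∈ C, B (N x) y = 0) → x = 0) ∧ finrank F C = finrank F (LinearMap.range N) := by
  refine ⟨fun x hx h => ?_, ?_⟩
  · refine Submodule.disjoint_def.1 hC.disjoint x hx (LinearMap.mem_ker.2 (hB.1 _ fun y => ?_))
    obtain ⟨c, hc, k, hk, rfl⟩ := Submodule.mem_sup.1 (show y ∈ C ⊔ LinearMap.ker N by rw [hC.sup_eq_top]; trivial)
    rw [map_add, h c hc, zero_add, hadj, LinearMap.mem_ker.1 hk, map_zero]
  · have h1 := Submodule.finrank_add_eq_of_isCompl hC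
    have h2 := N.finrank_range_add_finrank_ker
    omega

theorem decompose_nonalt [Finite F] (hB : B.Nondegenerate) (hA : B.IsAlt) (hN : ∀ x, N (N x) = 0)
    (hadj : ∀ x y, B (N x) y = B x (N y)) (hna : ∃ x, B x (N x) ≠ 0) :
    ∃ (s : ℕ) (w : Fin s → V), 0 < s ∧ IsFam B w ∧ N = nMap B id w ∧ ∀ i, ∃ v, w i = N v ∧ B v (N v) = 1 := by
  obtain ⟨C, hC⟩ := (LinearMap.ker N).exists_isCompl
  obtain ⟨hsep, hdim⟩ := compl_sep hB hN hadj hC.symm
  obtain ⟨x, hx⟩ := hna
  obtain ⟨c, hc, k, hk, rfl⟩ := Submodule.mem_sup.1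
    (show x ∈ C ⊔ LinearMap.ker N by rw [hC.symm.sup_eq_top]; trivial)
  have hcc : B (N c) c ≠ 0 := by
    rw [map_add, map_add, LinearMap.add_apply, LinearMap.mem_ker.1 hk] at hx
    rw [hadj]
    have h0 : B k (N c) = 0 := by rw [← hadj, LinearMap.mem_ker.1 hk, map_zero, LinearMap.zero_apply]
    simpa [h0] using hx
  have hs : 0 < finrank F C := by
    rw [Module.finrank_pos_iff_exists_ne_zero]
    exact ⟨⟨c, hc⟩, fun h => hcc (by simp [show c = 0 from congrArg Subtype.val h])⟩
  obtain ⟨v, -, hv⟩ := exists_dual_family (B.compl₁₂ N LinearMap.id) (beta_symm hA hadj) _ C rfl hsep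
    (Or.inl ⟨c, hc, hcc⟩)
  obtain ⟨hfam, heq⟩ := eq_nMap hA hN hadj (κ := Fin (finrank F C)) (π := id) (fun _ => rfl) v
    (fun i j => hv i j) (by rw [Fintype.card_fin, hdim])
  exact ⟨_, _, hs, hfam, heq, fun i => ⟨v i, rfl, by rw [← hadj]; exact (hv i i).trans (if_pos rfl)⟩⟩

theorem decompose_alt (hB : B.Nondegenerate) (hA : B.IsAlt) (hN : ∀ x, N (N x) = 0)
    (hadj : ∀ x y, B (N x) y = B x (N y)) (halt : ∀ x, B x (N x) = 0) :
    ∃ (r : ℕ) (w : Fin r ⊕ Fin r → V), IsFam B w ∧ N = nMap B Sum.swap w ∧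
      ∀ i, ∃ v, w i = N v ∧ B v (N v) = 0 := by
  obtain ⟨C, hC⟩ := (LinearMap.ker N).exists_isCompl
  obtain ⟨hsep, hdim⟩ := compl_sep hB hN hadj hC.symm
  let β : BilinForm F C := B.compl₁₂ (N.comp C.subtype) C.subtype
  have hβA : β.IsAlt := fun x => by
    show B (N x) x = 0
    rw [hadj, halt]
  have hβs : LinearMap.SeparatingLeft β := fun x hx => Subtype.ext (hsep x x.2 fun y hy => hx ⟨y, hy⟩)
  obtain ⟨n', k', b, -, -, -, h4⟩ := Cfsg.Agent.S0752.result β hβA
  have hk' : k' = 0 := by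
    by_contra h
    exact b.ne_zero _ (hβs _ (h4 ⟨0, Nat.pos_of_ne_zero h⟩))
  subst hk'
  have hn : finrank F C = 2 * n' := by
    rw [finrank_eq_card_basis b]
    simp
    omega
  obtain ⟨e, he⟩ := CfsgLib.Sp.exists_std_equiv β hβA hβs hn
  classical
  obtain ⟨hfam, heq⟩ := eq_nMap hA hN hadj (π := Sum.swap) Sum.swap_swap
    (fun i : Fin n' ⊕ Fin n' => ((e (Pi.single i 1) : C) : V)) (fun i j => by
      show β (e _) (e _) = _
      rw [he, CfsgLib.Sp.sympForm_eq_sum]
      rcases i with i | i <;> rcases j with j | j <;>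
        simp [Pi.single_apply, eq_comm, CharTwo.neg_eq])
    (by rw [Fintype.card_sum, Fintype.card_fin, ← hdim, hn, two_mul])
  exact ⟨n', _, hfam, heq, fun i => ⟨_, rfl, halt _⟩⟩

end Decompose

end Cfsg.Agent.InvolForm57
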