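import Cfsg.Agent.Helper57InvolForm

/-!
Classification of involutions in an isometry group in characteristic two, abstractly.
-/

set_option autoImplicit false
set_option linter.unusedSectionVars false

namespace Cfsg.Agent.InvolForm57

open Module
open LinearMap (BilinForm)

variable {F : Type*} [Field F] [CharP F 2] {V : Type*} [AddCommGroup V] [Module F V] [FiniteDimensional F V]
  {G : Type*} [Group G]

/-- A group of isometries of `B` in which Witt's lemma holds; `ok w ε` constrains the vectors moved to. -/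
structure Model (G : Type*) [Group G] (F : Type*) [Field F] (V : Type*) [AddCommGroup V] [Module F V] where
  B : BilinForm F V
  nondeg : B.Nondegenerate
  alt : B.IsAlt
  rho : G →* End F V
  inj : Function.Injective rho
  iso : ∀ g x y, B (rho g x) (rho g y) = B x y
  ok : V → F → Prop
  ok_moved : ∀ g, g * g = 1 → ∀ v, ok (rho g v - v) (B v (rho g v - v))
  lift_id : ∀ (κ : Type) [Fintype κ] (w : κ → V), IsFam B w → (∀ i, ok (w i) 1) →
    ∃ g, rho g = 1 + nMap B id w
  lift_swap : ∀ (r : ℕ) (w : Fin r ⊕ Fin r → V), IsFam B w → (∀ i, ok (w i) 0) →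
    ∃ g, rho g = 1 + nMap B Sum.swap w
  witt : ∀ (κ : Type) [Fintype κ] (x y : κ → V) (ε : F), IsFam B x → IsFam B y →
    (∀ i, ok (x i) ε) → (∀ i, ok (y i) ε) → ∃ g, ∀ i, rho g (x i) = y i

variable (M : Model G F V)

/-- `g - 1` -/
def Model.nil (g : G) : End F V := M.rho g - 1

/-- the rank of `g - 1` -/
noncomputable def Model.rk (g : G) : ℕ := finrank F (LinearMap.range (M.nil g))

/-- `B x (g x - x) = 0` for all `x` -/
def Model.IsAltAt (g : G) : Prop := ∀ x, M.B x (M.nil g x) = 0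

theorem Model.rho_comp (g h : G) (x : V) : M.rho (g * h) x = M.rho g (M.rho h x) := by
  rw [map_mul, Module.End.mul_apply]

theorem Model.rho_inv (g : G) (x : V) : M.rho g (M.rho g⁻¹ x) = x := by
  rw [← M.rho_comp, mul_inv_cancel, map_one, Module.End.one_apply]

theorem Model.nil_sq {g : G} (hg : g * g = 1) (x : V) : M.nil g (M.nil g x) = 0 := by
  have h : M.rho g (M.rho g x) = x := by rw [← M.rho_comp, hg, map_one, Module.End.one_apply]
  simp only [Model.nil, LinearMap.sub_apply, Module.End.one_apply, map_sub, h]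
  rw [← sub_eq_zero]
  have h2 : ∀ y : V, y + y = 0 := fun y => by rw [← two_smul F, CharTwo.two_eq_zero, zero_smul]
  calc x - M.rho g x - (M.rho g x - x) - 0 = (x + x) - (M.rho g x + M.rho g x) := by abel
    _ = 0 := by rw [h2, h2, sub_zero]

theorem Model.nil_adj {g : G} (hg : g * g = 1) (x y : V) : M.B (M.nil g x) y = M.B x (M.nil g y) := by
  have h : M.B (M.rho g x) y = M.B x (M.rho g y) := by
    conv_lhs => rw [← M.iso g, ← M.rho_comp, hg, map_one, Module.End.one_apply]
  simp only [Model.nil, LinearMap.sub_apply, Module.End.one_apply, map_sub, h]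

theorem Model.eq_of_nil {g h : G} (e : M.nil g = M.nil h) : g = h := M.inj (sub_left_injective e)

theorem Model.sq_of_eq {κ : Type*} [Fintype κ] {π : κ → κ} {w : κ → V} (hw : IsFam M.B w) {g : G}
    (hg : M.rho g = 1 + nMap M.B π w) : g * g = 1 := by
  refine M.inj (LinearMap.ext fun x => ?_)
  rw [map_mul, map_one, Module.End.mul_apply, hg]
  simp only [LinearMap.add_apply, Module.End.one_apply, map_add, nMap_sq hw, add_zero]
  rw [add_assoc, ← two_smul F (nMap M.B π w x), CharTwo.two_eq_zero, zero_smul, add_zero]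

theorem Model.nil_of_eq {κ : Type*} [Fintype κ] {π : κ → κ} {w : κ → V} {g : G}
    (hg : M.rho g = 1 + nMap M.B π w) : M.nil g = nMap M.B π w := by
  rw [Model.nil, hg, add_sub_cancel_left]

theorem Model.nil_conj (c g : G) (x : V) : M.nil (c * g * c⁻¹) (M.rho c x) = M.rho c (M.nil g x) := by
  simp only [Model.nil, LinearMap.sub_apply, Module.End.one_apply, map_sub, ← M.rho_comp]
  rw [show c * g * c⁻¹ * c = c * g by group]

theorem Model.invariants {g h : G} (e : IsConj g h) : M.rk g = M.rk h ∧ (M.IsAltAt g ↔ M.IsAltAt h) := by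
  obtain ⟨c, rfl⟩ := isConj_iff.1 e
  constructor
  · have hinj : Function.Injective (M.rho c) := fun a b hab => by
      have := congrArg (M.rho c⁻¹) hab
      rwa [← M.rho_comp, ← M.rho_comp, inv_mul_cancel, map_one] at this
    have hr : LinearMap.range (M.nil (c * g * c⁻¹)) = (LinearMap.range (M.nil g)).map (M.rho c) := by
      ext z
      constructor
      · rintro ⟨x, rfl⟩
        exact ⟨M.nil g (M.rho c⁻¹ x), LinearMap.mem_range_self _ _, by rw [← M.nil_conj, M.rho_inv]⟩
      · rintro ⟨_, ⟨x, rfl⟩, rfl⟩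
        exact ⟨M.rho c x, M.nil_conj c g x⟩
    rw [Model.rk, Model.rk, hr]
    exact ((LinearMap.range (M.nil g)).equivMapOfInjective _ hinj).finrank_eq
  · constructor
    · intro hg x
      rw [← M.rho_inv c x, M.nil_conj, M.iso]
      exact hg _
    · intro hg x
      have := hg (M.rho c x)
      rwa [M.nil_conj, M.iso] at this

theorem Model.nil_ne_zero {g : G} (hg : g ≠ 1) : M.nil g ≠ 0 := fun h =>
  hg (M.inj (by rw [map_one, ← sub_eq_zero]; exact h))

theorem Model.rk_pos {g : G} (hg : g ≠ 1) : 0 < M.rk g :=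
  Nat.pos_of_ne_zero fun h => M.nil_ne_zero hg (LinearMap.range_eq_bot.1 (Submodule.finrank_eq_zero.1 h))

theorem Model.normal_id [Finite F] {g : G} (hg : g * g = 1) (hna : ¬ M.IsAltAt g) :
    ∃ w : Fin (M.rk g) → V, IsFam M.B w ∧ (∀ i, M.ok (w i) 1) ∧ M.rho g = 1 + nMap M.B id w := by
  simp only [Model.IsAltAt, not_forall] at hna
  obtain ⟨s, w, -, hfam, heq, hw⟩ := decompose_nonalt M.nondeg M.alt (M.nil_sq hg) (M.nil_adj hg) hna
  have hs : M.rk g = s := by
    rw [Model.rk, heq, finrank_range_nMap M.nondeg M.alt hfam (fun _ => rfl), Fintype.card_fin]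
  rw [hs]
  refine ⟨w, hfam, fun i => ?_, by rw [← heq, Model.nil, add_sub_cancel]⟩
  obtain ⟨v, hv, hv1⟩ := hw i
  have := M.ok_moved g hg v
  rw [show M.rho g v - v = M.nil g v from rfl] at this
  rwa [← hv, show M.B v (w i) = 1 by rw [hv]; exact hv1] at this

theorem Model.normal_swap {g : G} (hg : g * g = 1) (halt : M.IsAltAt g) :
    ∃ (r : ℕ) (w : Fin r ⊕ Fin r → V), M.rk g = r + r ∧ IsFam M.B w ∧ (∀ i, M.ok (w i) 0) ∧
      M.rho g = 1 + nMap M.B Sum.swap w := by
  obtain ⟨r, w, hfam, heq, hw⟩ := decompose_alt M.nondeg M.alt (M.nil_sq hg) (M.nil_adj hg) halt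
  refine ⟨r, w, ?_, hfam, fun i => ?_, by rw [← heq, Model.nil, add_sub_cancel]⟩
  · rw [Model.rk, heq, finrank_range_nMap M.nondeg M.alt hfam Sum.swap_swap, Fintype.card_sum, Fintype.card_fin]
  · obtain ⟨v, hv, -⟩ := hw i
    have := M.ok_moved g hg v
    rw [show M.rho g v - v = M.nil g v from rfl, halt v] at this
    rwa [← hv] at this

theorem Model.isConj_of_eq [Finite F] {g h : G} (hg : g * g = 1) (hh : h * h = 1) (hr : M.rk g = M.rk h)
    (ha : M.IsAltAt g ↔ M.IsAltAt h) : IsConj g h := by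
  have finish : ∀ {κ : Type} [Fintype κ] (π : κ → κ) (x y : κ → V) (c : G),
      (∀ i, M.rho c (x i) = y i) → M.rho g = 1 + nMap M.B π x → M.rho h = 1 + nMap M.B π y → IsConj g h := by
    intro κ _ π x y c hc hgx hhy
    refine isConj_iff.2 ⟨c, M.eq_of_nil (LinearMap.ext fun z => ?_)⟩
    have h1 := M.nil_conj c g (M.rho c⁻¹ z)
    rw [M.rho_inv] at h1
    rw [h1, M.nil_of_eq hgx, M.nil_of_eq hhy, nMap_conj π x (M.rho c) (M.iso c), M.rho_inv,
      show (fun i => M.rho c (x i)) = y from funext hc]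
  by_cases halt : M.IsAltAt g
  · obtain ⟨r, x, hrx, hfx, hox, hgx⟩ := M.normal_swap hg halt
    obtain ⟨r', y, hry, hfy, hoy, hhy⟩ := M.normal_swap hh (ha.1 halt)
    obtain rfl : r = r' := by omega
    obtain ⟨c, hc⟩ := M.witt (Fin r ⊕ Fin r) x y 0 hfx hfy hox hoy
    exact finish Sum.swap x y c hc hgx hhy
  · obtain ⟨x, hfx, hox, hgx⟩ := M.normal_id hg halt
    obtain ⟨y, hfy, hoy, hhy⟩ := M.normal_id hh (fun h => halt (ha.2 h))
    let e : Fin (M.rk g) ≃ Fin (M.rk h) := finCongr hr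
    obtain ⟨c, hc⟩ := M.witt (Fin (M.rk g)) x (y ∘ e) 1 hfx
      ⟨hfy.indep.comp e e.injective, fun i j => hfy.iso _ _⟩ hox (fun i => hoy _)
    refine finish id x (y ∘ e) c hc hgx ?_
    rw [hhy]
    congr 1
    refine LinearMap.ext fun z => ?_
    rw [nMap_apply, nMap_apply]
    exact (Equiv.sum_comp e (fun i => M.B z (y i) • y i)).symm

/-- Representatives and counting. -/
theorem Model.exists_reps [Finite F] (a b : ℕ)
    (ha : ∀ s, s ≤ a → ∃ w : Fin s → V, IsFam M.B w ∧ ∀ i, M.ok (w i) 1)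
    (hb : ∀ r, r ≤ b → ∃ w : Fin r ⊕ Fin r → V, IsFam M.B w ∧ ∀ i, M.ok (w i) 0) :
    ∃ rep : Fin a ⊕ Fin b → G, (∀ i, rep i * rep i = 1 ∧ rep i ≠ 1) ∧
      (∀ k, ¬ M.IsAltAt (rep (.inl k)) ∧ M.rk (rep (.inl k)) = k + 1) ∧
      (∀ k, M.IsAltAt (rep (.inr k)) ∧ M.rk (rep (.inr k)) = 2 * (k + 1)) := by
  choose w hw hwo using fun k : Fin a => ha ((k : ℕ) + 1) k.isLt
  choose u hu huo using fun k : Fin b => hb ((k : ℕ) + 1) k.isLt
  choose g hg using fun k : Fin a => M.lift_id _ (w k) (hw k) (hwo k)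
  choose h hh using fun k : Fin b => M.lift_swap _ (u k) (hu k) (huo k)
  have r1 : ∀ k, M.rk (g k) = k + 1 := fun k => by
    rw [Model.rk, M.nil_of_eq (hg k), finrank_range_nMap M.nondeg M.alt (hw k) (fun _ => rfl), Fintype.card_fin]
  have r2 : ∀ k, M.rk (h k) = 2 * (k + 1) := fun k => by
    rw [Model.rk, M.nil_of_eq (hh k), finrank_range_nMap M.nondeg M.alt (hu k) Sum.swap_swap, Fintype.card_sum,
      Fintype.card_fin, two_mul]
  have hone : M.rk 1 = 0 := by
    rw [Model.rk, Model.nil, map_one, sub_self, LinearMap.range_zero, finrank_bot]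
  refine ⟨Sum.elim g h, fun i => ?_, fun k => ⟨fun hal => ?_, r1 k⟩, fun k => ⟨fun x => ?_, r2 k⟩⟩
  · rcases i with k | k
    · refine ⟨M.sq_of_eq (hw k) (hg k), fun e => ?_⟩
      have h1 := r1 k
      rw [show g k = 1 from e, hone] at h1
      omega
    · refine ⟨M.sq_of_eq (hu k) (hh k), fun e => ?_⟩
      have h1 := r2 k
      rw [show h k = 1 from e, hone] at h1
      omega
  · obtain ⟨x, hx⟩ := exists_not_alt M.nondeg M.alt (hw k)
    exact hx (by rw [← M.nil_of_eq (hg k)]; exact hal x)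
  · show M.B x (M.nil (h k) x) = 0
    rw [M.nil_of_eq (hh k)]
    exact alt_of_swap _ x

theorem orderOf_eq_two_iff' {H : Type*} [Group H] {g : H} : orderOf g = 2 ↔ g * g = 1 ∧ g ≠ 1 := by
  haveI : Fact (Nat.Prime 2) := ⟨Nat.prime_two⟩
  rw [orderOf_eq_prime_iff, pow_two]

theorem Model.card_classes [Finite F] (a b : ℕ)
    (ha : ∀ s, s ≤ a → ∃ w : Fin s → V, IsFam M.B w ∧ ∀ i, M.ok (w i) 1)
    (hb : ∀ r, r ≤ b → ∃ w : Fin r ⊕ Fin r → V, IsFam M.B w ∧ ∀ i, M.ok (w i) 0)
    (ha' : ∀ s (w : Fin s → V), IsFam M.B w → s ≤ a)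
    (hb' : ∀ r (w : Fin r ⊕ Fin r → V), IsFam M.B w → (∀ i, M.ok (w i) 0) → r ≤ b) :
    Nat.card {C : ConjClasses G // ∃ g : G, ConjClasses.mk g = C ∧ orderOf g = 2} = a + b := by
  obtain ⟨rep, hrep, hna, hal⟩ := M.exists_reps a b ha hb
  have hinj : Function.Injective fun i => ConjClasses.mk (rep i) := by
    intro i j h
    obtain ⟨hr, hx⟩ := M.invariants (ConjClasses.mk_eq_mk_iff_isConj.1 h)
    rcases i with i | i <;> rcases j with j | j
    · rw [(hna i).2, (hna j).2] at hr
      exact congrArg Sum.inl (Fin.ext (by omega))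
    · exact absurd (hx.2 (hal j).1) (hna i).1
    · exact absurd (hx.1 (hal i).1) (hna j).1
    · rw [(hal i).2, (hal j).2] at hr
      exact congrArg Sum.inr (Fin.ext (by omega))
  have hset : {C : ConjClasses G | ∃ g : G, ConjClasses.mk g = C ∧ orderOf g = 2} =
      Set.range fun i => ConjClasses.mk (rep i) := by
    ext C
    constructor
    · rintro ⟨g, rfl, hg⟩
      obtain ⟨hg2, hg1⟩ := orderOf_eq_two_iff'.1 hg
      have hpos := M.rk_pos hg1
      by_cases halt : M.IsAltAt g
      · obtain ⟨r, w, hr, hw, hwo, -⟩ := M.normal_swap hg2 halt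
        have := hb' r w hw hwo
        refine ⟨.inr ⟨r - 1, by omega⟩, ConjClasses.mk_eq_mk_iff_isConj.2
          (M.isConj_of_eq (hrep _).1 hg2 ?_ ⟨fun _ => halt, fun _ => (hal _).1⟩)⟩
        rw [(hal _).2]
        simp only
        omega
      · obtain ⟨w, hw, -, -⟩ := M.normal_id hg2 halt
        have := ha' _ w hw
        refine ⟨.inl ⟨M.rk g - 1, by omega⟩, ConjClasses.mk_eq_mk_iff_isConj.2
          (M.isConj_of_eq (hrep _).1 hg2 ?_ ⟨fun h => absurd h (hna _).1, fun h => absurd h halt⟩)⟩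
        rw [(hna _).2]
        simp only
        omega
    · rintro ⟨i, rfl⟩
      exact ⟨_, rfl, orderOf_eq_two_iff'.2 (hrep i)⟩
  show Nat.card ↥{C : ConjClasses G | ∃ g : G, ConjClasses.mk g = C ∧ orderOf g = 2} = _
  rw [hset, Nat.card_range_of_injective hinj, Nat.card_sum, Nat.card_fin, Nat.card_fin]

theorem card_le_of_fam {B : BilinForm F V} (hB : B.Nondegenerate) {m : ℕ} (hm : finrank F V = 2 * m)
    {κ : Type*} [Fintype κ] {w : κ → V} (hw : IsFam B w) : Fintype.card κ ≤ m := by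
  have hle : Submodule.span F (Set.range w) ≤ B.orthogonal (Submodule.span F (Set.range w)) := by
    rw [Submodule.span_le]
    rintro _ ⟨j, rfl⟩ n hn
    show B n (w j) = 0
    induction hn using Submodule.span_induction with
    | mem v hv => obtain ⟨i, rfl⟩ := hv; exact hw.iso i j
    | zero => rw [map_zero, LinearMap.zero_apply]
    | add u v _ _ hu hv => rw [map_add, LinearMap.add_apply, hu, hv, add_zero]
    | smul c v _ hv => rw [map_smul, LinearMap.smul_apply, hv, smul_zero]
  have := Submodule.finrank_mono hle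
  rw [LinearMap.BilinForm.finrank_orthogonal hB, finrank_span_eq_card hw.indep] at this
  have h2 : Fintype.card κ ≤ finrank F V := hw.indep.fintype_card_le_finrank
  omega

end Cfsg.Agent.InvolForm57
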