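import Cfsg.Agent.Helper57InvolModel
import Cfsg.Agent.Lib.OrthOmega.Classes
import Cfsg.Agent.Lib.Orth.CharTwo

/-!
Involution classes of orthogonal groups in characteristic two.
-/

set_option autoImplicit false
set_option linter.unusedSectionVars false

namespace Cfsg.Agent.InvolForm57

open Matrix CfsgLib QuadraticMap

variable {ι : Type} [Fintype ι] [DecidableEq ι] {F : Type*} [Field F] [CharP F 2]
  (Q : QuadraticForm F (ι → F))

theorem polarBilin_alt : (Q.polarBilin : LinearMap.BilinForm F (ι → F)).IsAlt := fun x => by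
  show polar Q x x = 0
  rw [Orth.polar_self', CharTwo.two_eq_zero, zero_mul]

theorem Q_sum_of_iso {κ : Type*} (s : Finset κ) (f : κ → ι → F) (h : ∀ i j, polar Q (f i) (f j) = 0) :
    Q (∑ i ∈ s, f i) = ∑ i ∈ s, Q (f i) := by
  classical
  induction s using Finset.induction_on with
  | empty => simp
  | insert a s ha ih =>
    have hp : polar Q (f a) (∑ i ∈ s, f i) = 0 := by
      show Q.polarBilin (f a) (∑ i ∈ s, f i) = 0
      rw [map_sum]
      exact Finset.sum_eq_zero fun i _ => h a i
    rw [Finset.sum_insert ha, Finset.sum_insert ha, QuadraticMap.map_add ⇑Q, ih, hp, add_zero]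

theorem Q_nMap {κ : Type} [Fintype κ] {π : κ → κ} {w : κ → ι → F} (hw : IsFam Q.polarBilin w) {ε : F}
    (hε : ∀ i, Q (w i) = ε) (x : ι → F) :
    Q (nMap Q.polarBilin π w x) = ε * ∑ i, polar Q x (w i) * polar Q x (w i) := by
  rw [nMap_apply, Q_sum_of_iso, Finset.mul_sum]
  · refine Finset.sum_congr rfl fun i _ => ?_
    rw [QuadraticMap.map_smul, hε, polarBilin_apply_apply, smul_eq_mul, mul_comm]
  · intro i j
    rw [polar_smul_left, polar_smul_right, show polar Q (w (π i)) (w (π j)) = 0 from hw.iso _ _, smul_zero, smul_zero]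

theorem Q_one_add {κ : Type} [Fintype κ] {π : κ → κ} {w : κ → ι → F} (hw : IsFam Q.polarBilin w) {ε : F}
    (hε : ∀ i, Q (w i) = ε)
    (h : ∀ x, ∑ i, polar Q x (w i) * polar Q x (w (π i)) + ε * ∑ i, polar Q x (w i) * polar Q x (w i) = 0)
    (x : ι → F) : Q (x + nMap Q.polarBilin π w x) = Q x := by
  rw [QuadraticMap.map_add ⇑Q, Q_nMap Q hw hε, show polar Q x (nMap Q.polarBilin π w x) = Q.polarBilin x (nMap Q.polarBilin π w x) from rfl,
    pairing_nMap]
  simp only [polarBilin_apply_apply]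
  linear_combination h x

/-- the action as a homomorphism -/
noncomputable def oRho : Orth.O Q →* Module.End F (ι → F) :=
  ((Matrix.toLinAlgEquiv' (R := F) (n := ι)).toAlgHom.toMonoidHom.comp (Units.coeHom (Matrix ι ι F))).comp
    (Orth.O Q).subtype

theorem oRho_apply (g : Orth.O Q) (x : ι → F) : oRho Q g x = Orth.app g x := rfl

theorem exists_oRho {κ : Type} [Fintype κ] {π : κ → κ} {w : κ → ι → F}
    (hw : IsFam Q.polarBilin w) (h : ∀ x, Q (x + nMap Q.polarBilin π w x) = Q x) :
    ∃ g, oRho Q g = 1 + nMap Q.polarBilin π w := by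
  set T : Module.End F (ι → F) := 1 + nMap Q.polarBilin π w
  have hT : T.comp T = LinearMap.id := by
    refine LinearMap.ext fun x => ?_
    simp only [T, LinearMap.comp_apply, LinearMap.add_apply, Module.End.one_apply, map_add, nMap_sq hw, add_zero,
      LinearMap.id_apply]
    rw [add_assoc, ← two_smul F (nMap Q.polarBilin π w x), CharTwo.two_eq_zero, zero_smul, add_zero]
  exact ⟨Orth.mkO T T hT hT h, LinearMap.ext fun x => by rw [oRho_apply, Orth.app_mkO]⟩

/-- The model of `O(Q)`. -/
noncomputable def oModel (hQ : Q.polarBilin.Nondegenerate) : Model (Orth.O Q) F (ι → F) where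
  B := Q.polarBilin
  nondeg := hQ
  alt := polarBilin_alt Q
  rho := oRho Q
  inj g h e := Orth.ext_app fun x => LinearMap.congr_fun e x
  iso g x y := by
    rw [polarBilin_apply_apply, polarBilin_apply_apply, oRho_apply, oRho_apply, Orth.polar_app]
  ok w ε := Q w = ε
  ok_moved g _ v := by
    have h2 : ∀ y : ι → F, -y = y := fun y => funext fun i => CharTwo.neg_eq (y i)
    rw [polarBilin_apply_apply, oRho_apply, show Orth.app g v - v = v - Orth.app g v by rw [← neg_sub, h2]]
    exact Orth.Q_mov g v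
  lift_id κ _ w hw ho := exists_oRho Q hw (Q_one_add Q hw ho fun x => by
    rw [one_mul]
    simp only [id_eq]
    exact CharTwo.add_self_eq_zero _)
  lift_swap r w hw ho := exists_oRho Q hw (Q_one_add Q hw ho fun x => by
    rw [zero_mul, add_zero]
    exact (pairing_nMap (B := Q.polarBilin) (π := Sum.swap) (w := w) x).symm.trans (alt_of_swap w x))
  witt κ _ x y ε hx hy ox oy := by
    let e := Fintype.equivFin κ
    obtain ⟨g, hg, hgx⟩ := Forms.quad_witt_family Q hQ (x ∘ e.symm) (y ∘ e.symm)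
      (hx.indep.comp _ e.symm.injective) (hy.indep.comp _ e.symm.injective)
      (fun i => (ox _).trans (oy _).symm) (fun i j => (hx.iso _ _).trans (hy.iso _ _).symm)
    refine ⟨Orth.mkO g.toLinearMap g.symm.toLinearMap (LinearMap.ext fun v => g.apply_symm_apply v)
      (LinearMap.ext fun v => g.symm_apply_apply v) hg, fun i => ?_⟩
    rw [oRho_apply, Orth.app_mkO]
    simpa using hgx (e i)

variable {Q} (hQ : Q.polarBilin.Nondegenerate)
include hQ

theorem finrank_range_nil (g : Orth.O Q) :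
    Fintype.card ι - Module.finrank F (Orth.fixS g) = (oModel Q hQ).rk g := by
  have h := ((LinearMap.id : (ι → F) →ₗ[F] (ι → F)) - Orth.app g).finrank_range_add_finrank_ker
  rw [Module.finrank_fintype_fun_eq_card] at h
  have hn : LinearMap.range ((oModel Q hQ).nil g) = LinearMap.range ((LinearMap.id : (ι → F) →ₗ[F] (ι → F)) - Orth.app g) := by
    rw [show (oModel Q hQ).nil g = -((LinearMap.id : (ι → F) →ₗ[F] (ι → F)) - Orth.app g) from
      (neg_sub _ _).symm, LinearMap.range_neg]
  rw [Model.rk, hn, Orth.fixS]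
  exact Nat.sub_eq_of_eq_add h.symm

theorem mem_omega_iff [Fintype F] (hgen : Orth.reflClosure Q = ⊤) (g : Orth.O Q) :
    g ∈ commutator (Orth.O Q) ↔ Even ((oModel Q hQ).rk g) := by
  rw [Orth.commutator_eq_ker_dickson hQ hgen, MonoidHom.mem_ker]
  show Orth.dickson g = 1 ↔ _
  rw [Orth.dickson, finrank_range_nil hQ]
  exact neg_one_pow_eq_one_iff_even (by decide)

theorem totally_singular {κ : Type} [Fintype κ] {w : κ → ι → F} (hw : IsFam Q.polarBilin w)
    (h0 : ∀ i, Q (w i) = 0) : ∀ u ∈ Submodule.span F (Set.range w), Q u = 0 := by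
  intro u hu
  obtain ⟨c, rfl⟩ := (Submodule.mem_span_range_iff_exists_fun F).1 hu
  rw [Q_sum_of_iso]
  · exact Finset.sum_eq_zero fun i _ => by rw [QuadraticMap.map_smul, h0, smul_zero]
  · intro i j
    rw [polar_smul_left, polar_smul_right, show polar Q (w i) (w j) = 0 from hw.iso _ _, smul_zero, smul_zero]

theorem exists_odd_centralizer [Fintype F] (hgen : Orth.reflClosure Q = ⊤) {m : ℕ} (hι : Fintype.card ι = 2 * m)
    {g : Orth.O Q} (hg : g * g = 1) (hne : g ≠ 1) (h : ¬ (oModel Q hQ).IsAltAt g ∨ (oModel Q hQ).rk g < m) :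
    ∃ r : Orth.O Q, r ∉ commutator (Orth.O Q) ∧ r * g * r⁻¹ = g := by
  obtain ⟨z, hz, hQz⟩ : ∃ z, Orth.app g z = z ∧ Q z ≠ 0 := by
    by_cases halt : (oModel Q hQ).IsAltAt g
    · have hlt := h.resolve_left (not_not.2 halt)
      rw [← finrank_range_nil hQ] at hlt
      by_contra hall
      push Not at hall
      have := Orth.two_finrank_le hQ (W := Orth.fixS g) (fun x hx => hall x (Orth.mem_fixS.1 hx))
      have h2 : Module.finrank F (Orth.fixS g) ≤ Fintype.card ι := Orth.finrank_fix_le_card g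
      omega
    · have hpos := (oModel Q hQ).rk_pos hne
      obtain ⟨w, hw, ho, hrho⟩ := (oModel Q hQ).normal_id hg halt
      refine ⟨w ⟨0, hpos⟩, ?_, by rw [show Q (w ⟨0, hpos⟩) = 1 from ho _]; exact one_ne_zero⟩
      rw [← oRho_apply, show oRho Q g = _ from hrho, LinearMap.add_apply, Module.End.one_apply, nMap_apply,
        Finset.sum_eq_zero, add_zero]
      intro i _
      rw [hw.iso, zero_smul]
  refine ⟨Orth.refl Q z, fun hm => ?_, ?_⟩
  · rw [Orth.commutator_eq_ker_dickson hQ hgen, MonoidHom.mem_ker, Orth.dicksonHom_refl hQ hgen hQz] at hm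
    exact absurd hm (by decide)
  · have h1 := Orth.refl_conj g z
    rw [hz, mul_inv_eq_iff_eq_mul] at h1
    rw [mul_inv_eq_iff_eq_mul, h1]

omit hQ in
/-- Conjugacy in `Ω` of involutions having an odd element in their centraliser. -/
theorem omega_isConj {G : Type*} [Group G] (H : Subgroup G) [H.Normal] (hidx : ∀ a b : G, a ∉ H → b ∉ H → a * b ∈ H)
    {g h : H} (hc : IsConj (g : G) (h : G)) (hr : ∃ r : G, r ∉ H ∧ r * (g : G) * r⁻¹ = g) : IsConj g h := by
  obtain ⟨c, hc⟩ := isConj_iff.1 hc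
  obtain ⟨r, hr, hrg⟩ := hr
  by_cases hcH : c ∈ H
  · exact isConj_iff.2 ⟨⟨c, hcH⟩, Subtype.ext hc⟩
  · refine isConj_iff.2 ⟨⟨c * r, hidx c r hcH hr⟩, Subtype.ext ?_⟩
    show c * r * (g : G) * (c * r)⁻¹ = h
    rw [_root_.mul_inv_rev, show c * r * (g : G) * (r⁻¹ * c⁻¹) = c * (r * g * r⁻¹) * c⁻¹ by group, hrg, hc]

theorem card_omega_classes [Fintype F] (hgen : Orth.reflClosure Q = ⊤) {m : ℕ} (hι : Fintype.card ι = 2 * m)
    (hm : 1 ≤ m) (b : ℕ)
    (ha : ∀ s, s ≤ m → ∃ w : Fin s → ι → F, IsFam Q.polarBilin w ∧ ∀ i, Q (w i) = 1)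
    (hb : ∀ r, r ≤ b → ∃ w : Fin r ⊕ Fin r → ι → F, IsFam Q.polarBilin w ∧ ∀ i, Q (w i) = 0)
    (hb' : ∀ r (w : Fin r ⊕ Fin r → ι → F), IsFam Q.polarBilin w → (∀ i, Q (w i) = 0) → r ≤ b)
    (hbm : 2 * b ≤ m) :
    Nat.card {C : ConjClasses ↥(commutator (Orth.O Q)) //
      ∃ g : ↥(commutator (Orth.O Q)), ConjClasses.mk g = C ∧ orderOf g = 2} =
      m / 2 + b + (if 2 * b = m then 1 else 0) := by
  classical
  set M := oModel Q hQ with hM
  set H := commutator (Orth.O Q) with hH
  have hdim : Module.finrank F (ι → F) = 2 * m := by rw [Module.finrank_fintype_fun_eq_card, hι]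
  have hidx : ∀ a c : Orth.O Q, a ∉ H → c ∉ H → a * c ∈ H := fun a c ha hc => by
    rw [hH, Orth.commutator_eq_ker_dickson hQ hgen, MonoidHom.mem_ker] at *
    rw [map_mul, (Int.units_eq_one_or _).resolve_left ha, (Int.units_eq_one_or _).resolve_left hc]
    decide
  obtain ⟨rep, hrep, hna, hal⟩ := M.exists_reps m b ha hb
  -- representatives inside Ω
  let idx : Fin (m / 2) ⊕ Fin b → Fin m ⊕ Fin b :=
    Sum.map (fun k => ⟨2 * (k : ℕ) + 1, by have := k.isLt; omega⟩) id
  have hev : ∀ i, rep (idx i) ∈ H := by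
    intro i
    rw [hH, mem_omega_iff hQ hgen]
    rcases i with k | k
    · exact ⟨(k : ℕ) + 1, ((hna _).2).trans (by simp only; omega)⟩
    · exact ⟨(k : ℕ) + 1, ((hal _).2).trans (by simp only [id_eq]; omega)⟩
  let f : Fin (m / 2) ⊕ Fin b → ConjClasses H := fun i => ConjClasses.mk ⟨rep (idx i), hev i⟩
  have hG : ∀ {g h : H}, IsConj g h → IsConj (g : Orth.O Q) (h : Orth.O Q) := fun h => MonoidHom.map_isConj H.subtype h
  have hinj : Function.Injective f := by
    intro i j h
    obtain ⟨hr, hx⟩ := M.invariants (hG (ConjClasses.mk_eq_mk_iff_isConj.1 h))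
    rcases i with i | i <;> rcases j with j | j
    · simp only [idx, Sum.map_inl, (hna _).2] at hr
      exact congrArg Sum.inl (Fin.ext (by omega))
    · exact absurd (hx.2 (hal j).1) (hna _).1
    · exact absurd (hx.1 (hal i).1) (hna _).1
    · simp only [idx, Sum.map_inr, id_eq, (hal _).2] at hr
      exact congrArg Sum.inr (Fin.ext (by omega))
  have hord : ∀ g : H, orderOf g = 2 ↔ (g : Orth.O Q) * g = 1 ∧ (g : Orth.O Q) ≠ 1 := fun g => by
    rw [← orderOf_eq_two_iff', Subgroup.orderOf_coe]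
  have hcov : ∀ g : H, orderOf g = 2 → ∃ i, IsConj (rep (idx i)) (g : Orth.O Q) := by
    intro g hg
    obtain ⟨hg2, hg1⟩ := (hord g).1 hg
    have hpos := M.rk_pos hg1
    obtain ⟨s, hs⟩ := (mem_omega_iff hQ hgen _).1 g.2
    rw [← hM] at hs
    by_cases halt : M.IsAltAt (g : Orth.O Q)
    · obtain ⟨r, w, hr, hw, hwo, -⟩ := M.normal_swap hg2 halt
      have := hb' r w hw hwo
      refine ⟨.inr ⟨r - 1, by omega⟩, M.isConj_of_eq (hrep _).1 hg2 ?_ ⟨fun _ => halt, fun _ => (hal _).1⟩⟩
      simp only [idx, Sum.map_inr, id_eq, (hal _).2]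
      omega
    · obtain ⟨w, hw, -, -⟩ := M.normal_id hg2 halt
      have := card_le_of_fam (B := Q.polarBilin) hQ hdim hw
      rw [Fintype.card_fin] at this
      refine ⟨.inl ⟨s - 1, by omega⟩, M.isConj_of_eq (hrep _).1 hg2 ?_ ⟨fun h => absurd h (hna _).1, fun h => absurd h halt⟩⟩
      simp only [idx, Sum.map_inl, (hna _).2]
      omega
  have hone : ∀ i, orderOf (⟨rep (idx i), hev i⟩ : H) = 2 := fun i => (hord _).2 (hrep _)
  show Nat.card ↥{C : ConjClasses H | ∃ g : H, ConjClasses.mk g = C ∧ orderOf g = 2} = _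
  by_cases hsplit : 2 * b = m
  · rw [if_pos hsplit]
    have hbpos : 0 < b := by omega
    let top : Fin (m / 2) ⊕ Fin b := .inr ⟨b - 1, by omega⟩
    have htop : M.rk (rep (idx top)) = m := by
      simp only [idx, top, Sum.map_inr, id_eq, (hal _).2]
      omega
    obtain ⟨z, hz⟩ := Orth.exists_anisotropic hQ (by omega)
    let r := Orth.refl Q z
    have hrodd : r ∉ H := fun hm' => by
      rw [hH, Orth.commutator_eq_ker_dickson hQ hgen, MonoidHom.mem_ker, Orth.dicksonHom_refl hQ hgen hz] at hm'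
      exact absurd hm' (by decide)
    have hcent : ∀ c : Orth.O Q, c * rep (idx top) * c⁻¹ = rep (idx top) → c ∈ H := by
      intro c hc
      set g := rep (idx top) with hg
      set U := LinearMap.range (M.nil g) with hU
      have hgalt : M.IsAltAt g := (hal _).1
      have hUs : ∀ u ∈ U, Q u = 0 := by
        rintro _ ⟨v, rfl⟩
        exact (M.ok_moved g (hrep _).1 v).trans (hgalt v)
      have hUd : Module.finrank F U = m := htop
      have hmap : U.map (Orth.app c) = U := by
        refine Submodule.eq_of_le_of_finrank_eq ?_ ((Submodule.equivMapOfInjective _ (Orth.app_injective c) U).finrank_eq.symm)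
        rintro _ ⟨_, ⟨v, rfl⟩, rfl⟩
        refine ⟨Orth.app c v, ?_⟩
        conv_lhs => rw [← hc]
        exact M.nil_conj c g v
      have h1 := OrthOmega.classSign_app hQ hgen hι hUd hUs c
      rw [hmap, OrthOmega.classSign_self hUd] at h1
      rw [hH, Orth.commutator_eq_ker_dickson hQ hgen, MonoidHom.mem_ker]
      exact h1.symm
    let x : H := ⟨r * rep (idx top) * r⁻¹, (inferInstance : (commutator (Orth.O Q)).Normal).conj_mem _ (hev top) r⟩
    let G : (Fin (m / 2) ⊕ Fin b) ⊕ Unit → ConjClasses H := Sum.elim f fun _ => ConjClasses.mk x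
    have hne : ∀ i, f i ≠ ConjClasses.mk x := by
      intro i h
      have hi := hG (ConjClasses.mk_eq_mk_iff_isConj.1 h)
      have hit : i = top := by
        have h2 : IsConj (rep (idx i)) (rep (idx top)) := hi.trans (isConj_iff.2 ⟨r, rfl⟩).symm
        obtain ⟨hr, hx⟩ := M.invariants h2
        rcases i with i | i
        · exact absurd (hx.2 (hal _).1) (hna _).1
        · simp only [idx, top, Sum.map_inr, id_eq, (hal _).2] at hr
          exact congrArg Sum.inr (Fin.ext (by simp only; omega))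
      subst hit
      obtain ⟨c, hc⟩ := isConj_iff.1 (ConjClasses.mk_eq_mk_iff_isConj.1 h)
      have hc' : (c : Orth.O Q) * rep (idx top) * (c : Orth.O Q)⁻¹ = r * rep (idx top) * r⁻¹ := congrArg Subtype.val hc
      refine hrodd ?_
      have h3 : r⁻¹ * (c : Orth.O Q) ∈ H := hcent _ (by
        rw [show r⁻¹ * (c : Orth.O Q) * rep (idx top) * (r⁻¹ * (c : Orth.O Q))⁻¹ =
          r⁻¹ * ((c : Orth.O Q) * rep (idx top) * (c : Orth.O Q)⁻¹) * r by group, hc']
        group)
      have := H.mul_mem c.2 (H.inv_mem h3)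
      rwa [_root_.mul_inv_rev, inv_inv, mul_inv_cancel_left] at this
    have hGinj : Function.Injective G := hinj.sumElim (fun _ _ _ => rfl) fun i _ => hne i
    have hset : {C : ConjClasses H | ∃ g : H, ConjClasses.mk g = C ∧ orderOf g = 2} = Set.range G := by
      ext C
      constructor
      · rintro ⟨g, rfl, hg⟩
        obtain ⟨i, hi⟩ := hcov g hg
        by_cases hit : i = top
        · subst hit
          obtain ⟨c, hc⟩ := isConj_iff.1 hi
          by_cases hcH : c ∈ H
          · exact ⟨.inl top, ConjClasses.mk_eq_mk_iff_isConj.2 (isConj_iff.2 ⟨⟨c, hcH⟩, Subtype.ext hc⟩)⟩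
          · refine ⟨.inr (), ConjClasses.mk_eq_mk_iff_isConj.2 (isConj_iff.2
              ⟨⟨c * r⁻¹, hidx c _ hcH (fun h => hrodd (inv_mem_iff.1 h))⟩, Subtype.ext ?_⟩)⟩
            show c * r⁻¹ * (r * rep (idx top) * r⁻¹) * (c * r⁻¹)⁻¹ = g
            rw [← hc]; group
        · refine ⟨.inl i, ConjClasses.mk_eq_mk_iff_isConj.2 (omega_isConj H hidx hi
            (exists_odd_centralizer hQ hgen hι (hrep _).1 (hrep _).2 ?_))⟩
          rcases i with k | k
          · exact Or.inl (hna _).1
          · right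
            rw [← hM]
            simp only [idx, Sum.map_inr, id_eq, (hal _).2]
            have : (k : ℕ) ≠ b - 1 := fun h => hit (congrArg Sum.inr (Fin.ext h))
            omega
      · rintro ⟨i | u, rfl⟩
        · exact ⟨_, rfl, hone i⟩
        · refine ⟨x, rfl, (hord x).2 ⟨?_, fun h => (hrep (idx top)).2 (conj_eq_one_iff.1 h)⟩⟩
          show r * rep (idx top) * r⁻¹ * (r * rep (idx top) * r⁻¹) = 1
          rw [show r * rep (idx top) * r⁻¹ * (r * rep (idx top) * r⁻¹) =
            r * (rep (idx top) * rep (idx top)) * r⁻¹ by group, (hrep _).1, mul_one, mul_inv_cancel]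
    rw [hset, Nat.card_range_of_injective hGinj]
    simp
  · rw [if_neg hsplit, add_zero]
    have hset : {C : ConjClasses H | ∃ g : H, ConjClasses.mk g = C ∧ orderOf g = 2} = Set.range f := by
      ext C
      constructor
      · rintro ⟨g, rfl, hg⟩
        obtain ⟨i, hi⟩ := hcov g hg
        refine ⟨i, ConjClasses.mk_eq_mk_iff_isConj.2 (omega_isConj H hidx hi
          (exists_odd_centralizer hQ hgen hι (hrep _).1 (hrep _).2 ?_))⟩
        rcases i with k | k
        · exact Or.inl (hna _).1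
        · right
          rw [← hM]
          simp only [idx, Sum.map_inr, id_eq, (hal _).2]
          have := k.isLt
          omega
      · rintro ⟨i, rfl⟩
        exact ⟨_, rfl, hone i⟩
    rw [hset, Nat.card_range_of_injective hinj]
    simp

end Cfsg.Agent.InvolForm57
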