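import Cfsg.Agent.Helper57InvolOrth
import Cfsg.Agent.Lib.Orth.NegOne

/-!
Involution classes of `O^±` and `Ω^±` in characteristic two.
-/

set_option autoImplicit false
set_option linter.unusedSectionVars false

namespace Cfsg.Agent.InvolForm57

open Matrix CfsgLib QuadraticMap

variable {F : Type*} [Field F] [CharP F 2] {m : ℕ}

theorem plus_fam_one (s : ℕ) (h : s ≤ m) :
    ∃ w : Fin s → Fin m ⊕ Fin m → F, IsFam (Orth.plusQ m F).polarBilin w ∧ ∀ i, Orth.plusQ m F (w i) = 1 := by
  classical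
  let w : Fin s → Fin m ⊕ Fin m → F := fun k =>
    Pi.single (Sum.inl (Fin.castLE h k)) 1 + Pi.single (Sum.inr (Fin.castLE h k)) 1
  have hinj := Fin.castLE_injective h
  refine ⟨w, ⟨?_, fun i j => ?_⟩, fun i => ?_⟩
  · rw [Fintype.linearIndependent_iff]
    intro c hc i
    have := congrFun hc (Sum.inl (Fin.castLE h i))
    simpa [w, Finset.sum_apply, Pi.single_apply, hinj.eq_iff] using this
  · show polar (Orth.plusQ m F) (w i) (w j) = 0
    rw [Orth.polar_plusQ]
    refine Finset.sum_eq_zero fun k _ => ?_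
    simp [w, Pi.single_apply, CharTwo.add_self_eq_zero]
  · rw [Orth.plusQ_coe, Cfsg.quadFormPlus, Finset.sum_eq_single (Fin.castLE h i)]
    · simp [w]
    · intro k _ hk
      simp [w, Pi.single_apply, hk]
    · simp

theorem plus_fam_zero (r : ℕ) (h : r + r ≤ m) :
    ∃ w : Fin r ⊕ Fin r → Fin m ⊕ Fin m → F, IsFam (Orth.plusQ m F).polarBilin w ∧ ∀ i, Orth.plusQ m F (w i) = 0 := by
  classical
  let f : Fin r ⊕ Fin r → Fin m ⊕ Fin m := fun k => Sum.inl (Fin.castLE h (finSumFinEquiv k))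
  have hf : Function.Injective f := Sum.inl_injective.comp ((Fin.castLE_injective h).comp finSumFinEquiv.injective)
  refine ⟨fun k => Pi.single (f k) 1, ⟨(Pi.linearIndependent_single_one _ F).comp f hf, fun i j => ?_⟩, fun i => ?_⟩
  · show polar (Orth.plusQ m F) (Pi.single (f i) 1) (Pi.single (f j) 1) = 0
    rw [Orth.polar_plusQ]
    exact Finset.sum_eq_zero fun k _ => by simp [f]
  · rw [Orth.plusQ_coe, Cfsg.quadFormPlus]
    exact Finset.sum_eq_zero fun k _ => by simp [f]

theorem plus_card_classes [Fintype F] (m : ℕ) :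
    Nat.card {C : ConjClasses ↥(Orth.O (Orth.plusQ m F)) //
      ∃ g : ↥(Orth.O (Orth.plusQ m F)), ConjClasses.mk g = C ∧ orderOf g = 2} = m + m / 2 := by
  have hQ := Orth.plusQ_nondegenerate (F := F) m
  have hdim : Module.finrank F (Fin m ⊕ Fin m → F) = 2 * m := by
    rw [Module.finrank_fintype_fun_eq_card, Fintype.card_sum, Fintype.card_fin, two_mul]
  refine (oModel _ hQ).card_classes m (m / 2) plus_fam_one (fun r hr => plus_fam_zero r (by omega))
    (fun s w hw => ?_) (fun r w hw _ => ?_)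
  · simpa using card_le_of_fam (B := (Orth.plusQ m F).polarBilin) hQ hdim hw
  · have := card_le_of_fam (B := (Orth.plusQ m F).polarBilin) hQ hdim hw
    simp only [Fintype.card_sum, Fintype.card_fin] at this
    omega

theorem plus_card_omega [Fintype F] (m : ℕ) (hm : 1 ≤ m) (h : Fintype.card F ≠ 2 ∨ m ≠ 2) :
    Nat.card {C : ConjClasses ↥(commutator (Orth.O (Orth.plusQ m F))) //
      ∃ g : ↥(commutator (Orth.O (Orth.plusQ m F))), ConjClasses.mk g = C ∧ orderOf g = 2} =
      2 * (m / 2) + (if Even m then 1 else 0) := by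
  have hQ := Orth.plusQ_nondegenerate (F := F) m
  have hι : Fintype.card (Fin m ⊕ Fin m) = 2 * m := by rw [Fintype.card_sum, Fintype.card_fin, two_mul]
  have hdim : Module.finrank F (Fin m ⊕ Fin m → F) = 2 * m := by
    rw [Module.finrank_fintype_fun_eq_card, hι]
  have hgen : Orth.reflClosure (Orth.plusQ m F) = ⊤ := by
    refine Orth.reflClosure_eq_top hQ ?_
    rcases h with h | h
    · left
      by_contra hall
      push Not at hall
      have h2 : Fintype.card F ≤ 2 := by
        classical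
        calc Fintype.card F = (Finset.univ : Finset F).card := Finset.card_univ.symm
          _ ≤ ({0, 1} : Finset F).card := Finset.card_le_card fun p _ => by
              by_cases hp : p = 0
              · simp [hp]
              · simp [hall p hp]
          _ ≤ 2 := Finset.card_le_two
      have := Fintype.one_lt_card (α := F)
      omega
    · right; omega
  have h' := card_omega_classes hQ hgen hι hm (m / 2) plus_fam_one (fun r hr => plus_fam_zero r (by omega))
    (fun r w hw _ => by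
      have := card_le_of_fam (B := (Orth.plusQ m F).polarBilin) hQ hdim hw
      simp only [Fintype.card_sum, Fintype.card_fin] at this
      omega) (by omega)
  rw [h']
  by_cases he : Even m
  · rw [if_pos he, if_pos (Nat.two_mul_div_two_of_even he)]
    omega
  · rw [if_neg he, if_neg (fun h2 => he ⟨m / 2, by omega⟩)]
    omega

section Minus

variable {a b : F}

theorem minus_a_ne_zero [Finite F] (hab : ∀ z₁ z₂ : F, z₁ ^ 2 + a * z₁ * z₂ + b * z₂ ^ 2 = 0 → z₁ = 0 ∧ z₂ = 0) :
    a ≠ 0 := by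
  rintro rfl
  haveI : Fintype F := Fintype.ofFinite F
  obtain ⟨r, hr⟩ := FiniteField.isSquare_of_char_two (ringChar.eq_iff.2 inferInstance) b
  refine one_ne_zero (hab r 1 ?_).2
  rw [hr]
  linear_combination (r * r) * CharTwo.two_eq_zero (R := F)

theorem minus_nondeg [Finite F] (k : ℕ) (hab : ∀ z₁ z₂ : F, z₁ ^ 2 + a * z₁ * z₂ + b * z₂ ^ 2 = 0 → z₁ = 0 ∧ z₂ = 0) :
    (Orth.minusQ k F a b).polarBilin.Nondegenerate := by
  have ha := minus_a_ne_zero hab
  have h2 : (2 : F) = 0 := CharTwo.two_eq_zero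
  have key : ∀ x, (∀ y, polar (Orth.minusQ k F a b) x y = 0) → x = 0 := fun x hx => funext fun j => by
    rcases j with (i | i) | i
    · have := hx (Pi.single (Sum.inl (Sum.inr i)) 1)
      simpa [Orth.polar_minusQ, Pi.single_apply, Finset.sum_add_distrib] using this
    · have := hx (Pi.single (Sum.inl (Sum.inl i)) 1)
      simpa [Orth.polar_minusQ, Pi.single_apply, Finset.sum_add_distrib] using this
    · fin_cases i
      · have := hx (Pi.single (Sum.inr 1) 1)
        simpa [Orth.polar_minusQ, Pi.single_apply, h2, ha] using this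
      · have := hx (Pi.single (Sum.inr 0) 1)
        simpa [Orth.polar_minusQ, Pi.single_apply, h2, ha] using this
  exact ⟨key, fun y hy => key y fun x => by rw [polar_comm]; exact hy x⟩

theorem minus_fam_one (k s : ℕ) (h : s ≤ k + 1) :
    ∃ w : Fin s → (Fin k ⊕ Fin k) ⊕ Fin 2 → F, IsFam (Orth.minusQ k F a b).polarBilin w ∧
      ∀ i, Orth.minusQ k F a b (w i) = 1 := by
  classical
  suffices h' : ∃ w : Fin (k + 1) → (Fin k ⊕ Fin k) ⊕ Fin 2 → F, IsFam (Orth.minusQ k F a b).polarBilin w ∧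
      ∀ i, Orth.minusQ k F a b (w i) = 1 by
    obtain ⟨w, hw, ho⟩ := h'
    exact ⟨fun i => w (Fin.castLE h i), ⟨hw.indep.comp _ (Fin.castLE_injective h), fun i j => hw.iso _ _⟩, fun i => ho _⟩
  let w : Fin (k + 1) → (Fin k ⊕ Fin k) ⊕ Fin 2 → F :=
    Fin.lastCases (Pi.single (Sum.inr 0) 1) fun i => Pi.single (Sum.inl (Sum.inl i)) 1 + Pi.single (Sum.inl (Sum.inr i)) 1
  have h2 : (2 : F) = 0 := CharTwo.two_eq_zero
  refine ⟨w, ⟨?_, fun i j => ?_⟩, fun i => ?_⟩
  · rw [Fintype.linearIndependent_iff]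
    intro c hc i
    refine Fin.lastCases ?_ (fun i => ?_) i
    · have := congrFun hc (Sum.inr 0)
      simpa [w, Fin.sum_univ_castSucc, Finset.sum_apply, Pi.single_apply] using this
    · have := congrFun hc (Sum.inl (Sum.inl i))
      simpa [w, Fin.sum_univ_castSucc, Finset.sum_apply, Pi.single_apply] using this
  · show polar (Orth.minusQ k F a b) (w i) (w j) = 0
    rw [Orth.polar_minusQ]
    refine Fin.lastCases ?_ (fun i => ?_) i <;> refine Fin.lastCases ?_ (fun j => ?_) j <;>
      simp [w, Pi.single_apply, h2, Finset.sum_add_distrib, CharTwo.add_self_eq_zero]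
  · rw [Orth.minusQ_coe, Cfsg.quadFormMinus]
    refine Fin.lastCases ?_ (fun i => ?_) i
    · simp [w, Pi.single_apply]
    · simp [w, Pi.single_apply]

theorem minus_fam_zero (k r : ℕ) (h : r + r ≤ k) :
    ∃ w : Fin r ⊕ Fin r → (Fin k ⊕ Fin k) ⊕ Fin 2 → F, IsFam (Orth.minusQ k F a b).polarBilin w ∧
      ∀ i, Orth.minusQ k F a b (w i) = 0 := by
  classical
  let f : Fin r ⊕ Fin r → (Fin k ⊕ Fin k) ⊕ Fin 2 := fun i => Sum.inl (Sum.inl (Fin.castLE h (finSumFinEquiv i)))
  have hf : Function.Injective f :=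
    Sum.inl_injective.comp (Sum.inl_injective.comp ((Fin.castLE_injective h).comp finSumFinEquiv.injective))
  refine ⟨fun i => Pi.single (f i) 1, ⟨(Pi.linearIndependent_single_one _ F).comp f hf, fun i j => ?_⟩, fun i => ?_⟩
  · show polar (Orth.minusQ k F a b) (Pi.single (f i) 1) (Pi.single (f j) 1) = 0
    rw [Orth.polar_minusQ]
    simp [f]
  · rw [Orth.minusQ_coe, Cfsg.quadFormMinus]
    simp [f]

theorem minus_ts_bound (hab : ∀ z₁ z₂ : F, z₁ ^ 2 + a * z₁ * z₂ + b * z₂ ^ 2 = 0 → z₁ = 0 ∧ z₂ = 0) (k : ℕ)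
    (U : Submodule F ((Fin k ⊕ Fin k) ⊕ Fin 2 → F)) (hU : ∀ u ∈ U, Orth.minusQ k F a b u = 0) :
    Module.finrank F U ≤ k := by
  let πy : ((Fin k ⊕ Fin k) ⊕ Fin 2 → F) →ₗ[F] (Fin k → F) := LinearMap.funLeft F F fun i => Sum.inl (Sum.inr i)
  let πx : ((Fin k ⊕ Fin k) ⊕ Fin 2 → F) →ₗ[F] (Fin k → F) := LinearMap.funLeft F F fun i => Sum.inl (Sum.inl i)
  let K := LinearMap.ker (πy.comp U.subtype)
  have hK : ∀ u : K, ((u : U) : (Fin k ⊕ Fin k) ⊕ Fin 2 → F) (Sum.inr 0) = 0 ∧
      ((u : U) : (Fin k ⊕ Fin k) ⊕ Fin 2 → F) (Sum.inr 1) = 0 := by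
    intro u
    have hy : ∀ i, ((u : U) : (Fin k ⊕ Fin k) ⊕ Fin 2 → F) (Sum.inl (Sum.inr i)) = 0 := fun i =>
      congrFun (LinearMap.mem_ker.1 u.2) i
    have h := hU _ (u : U).2
    rw [Orth.minusQ_coe, Cfsg.quadFormMinus, Finset.sum_eq_zero (fun i _ => by rw [hy i, mul_zero]), zero_add] at h
    exact hab _ _ h
  let ψ : K →ₗ[F] (Fin k → F) := (πx.comp U.subtype).comp K.subtype
  have hψ : Function.Injective ψ := by
    rw [injective_iff_map_eq_zero]
    intro u hu
    refine Subtype.ext (Subtype.ext (funext fun i => ?_))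
    rcases i with (i | i) | i
    · exact congrFun hu i
    · exact congrFun (LinearMap.mem_ker.1 u.2) i
    · fin_cases i
      exacts [(hK u).1, (hK u).2]
  have h1 := (πy.comp U.subtype).finrank_range_add_finrank_ker
  have h3 : Module.finrank F (LinearMap.range ψ) = Module.finrank F K := LinearMap.finrank_range_of_inj hψ
  -- the two ranges annihilate each other
  let dp : LinearMap.BilinForm F (Fin k → F) := Matrix.toBilin' (1 : Matrix (Fin k) (Fin k) F)
  have hdp : ∀ x y, dp x y = x ⬝ᵥ y := fun x y => by simp [dp, Matrix.toBilin'_apply']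
  have hle : LinearMap.range (πy.comp U.subtype) ≤ dp.orthogonal (LinearMap.range ψ) := by
    rintro _ ⟨v, rfl⟩ _ ⟨u, rfl⟩
    show dp (ψ u) (πy (v : (Fin k ⊕ Fin k) ⊕ Fin 2 → F)) = 0
    rw [hdp]
    have h : polar (Orth.minusQ k F a b) ((u : U) : (Fin k ⊕ Fin k) ⊕ Fin 2 → F) (v : (Fin k ⊕ Fin k) ⊕ Fin 2 → F) = 0 := by
      simp [QuadraticMap.polar, hU _ (u : U).2, hU _ v.2, hU _ (U.add_mem (u : U).2 v.2)]
    rw [Orth.polar_minusQ, (hK u).1, (hK u).2] at h
    simp only [mul_zero, zero_mul, add_zero] at h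
    rw [← h]
    refine Finset.sum_congr rfl fun i _ => ?_
    rw [show ((u : U) : (Fin k ⊕ Fin k) ⊕ Fin 2 → F) (Sum.inl (Sum.inr i)) = 0 from congrFun (LinearMap.mem_ker.1 u.2) i,
      zero_mul, add_zero]
    rfl
  have h4 := Submodule.finrank_mono hle
  rw [LinearMap.BilinForm.finrank_orthogonal
    (LinearMap.BilinForm.nondegenerate_toBilin'_of_det_ne_zero' _ (by simp)), h3, Module.finrank_fin_fun] at h4
  have h5 : Module.finrank F (LinearMap.range ψ) ≤ k := (Submodule.finrank_le _).trans (by simp)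
  have h1' : Module.finrank F (LinearMap.range (πy.comp U.subtype)) + Module.finrank F K = Module.finrank F U := h1
  omega

theorem minus_alt_bound (hab : ∀ z₁ z₂ : F, z₁ ^ 2 + a * z₁ * z₂ + b * z₂ ^ 2 = 0 → z₁ = 0 ∧ z₂ = 0) (k r : ℕ)
    (hQ : (Orth.minusQ k F a b).polarBilin.Nondegenerate)
    (w : Fin r ⊕ Fin r → (Fin k ⊕ Fin k) ⊕ Fin 2 → F) (hw : IsFam (Orth.minusQ k F a b).polarBilin w)
    (h0 : ∀ i, Orth.minusQ k F a b (w i) = 0) : r ≤ k / 2 := by
  have h := minus_ts_bound hab k _ (totally_singular hQ hw h0)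
  rw [finrank_span_eq_card hw.indep, Fintype.card_sum, Fintype.card_fin] at h
  omega

theorem minus_card_classes [Fintype F] (k : ℕ) (hab : ∀ z₁ z₂ : F, z₁ ^ 2 + a * z₁ * z₂ + b * z₂ ^ 2 = 0 → z₁ = 0 ∧ z₂ = 0) :
    Nat.card {C : ConjClasses ↥(Orth.O (Orth.minusQ k F a b)) //
      ∃ g : ↥(Orth.O (Orth.minusQ k F a b)), ConjClasses.mk g = C ∧ orderOf g = 2} = (k + 1) + k / 2 := by
  have hQ := minus_nondeg k hab
  have hdim : Module.finrank F ((Fin k ⊕ Fin k) ⊕ Fin 2 → F) = 2 * (k + 1) := by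
    rw [Module.finrank_fintype_fun_eq_card, Fintype.card_sum, Fintype.card_sum, Fintype.card_fin, Fintype.card_fin]
    omega
  refine (oModel _ hQ).card_classes (k + 1) (k / 2) (minus_fam_one k) (fun r hr => minus_fam_zero k r (by omega))
    (fun s w hw => ?_) (fun r w hw h0 => minus_alt_bound hab k r hQ w hw h0)
  simpa using card_le_of_fam (B := (Orth.minusQ k F a b).polarBilin) hQ hdim hw

theorem minus_gen [Fintype F] (k : ℕ) (hab : ∀ z₁ z₂ : F, z₁ ^ 2 + a * z₁ * z₂ + b * z₂ ^ 2 = 0 → z₁ = 0 ∧ z₂ = 0) :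
    Orth.reflClosure (Orth.minusQ k F a b) = ⊤ := by
  have hQ := minus_nondeg k hab
  by_cases hk : k = 1
  · subst hk
    refine (Subgroup.eq_top_iff' _).2 fun g => Orth.mem_reflClosure hQ (fun u v hu hv huv => ?_) g
    rcases eq_or_ne u 0 with rfl | hu0
    · convert (Orth.reflClosure (Orth.minusQ 1 F a b)).one_mem
      exact Orth.ext_app fun x => by simp [Orth.app_eich hu huv, hv]
    by_cases hspan : v ∈ Submodule.span F {u}
    · obtain ⟨t, rfl⟩ := Submodule.mem_span_singleton.1 hspan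
      rw [Orth.eich_smul_self hu]
      exact Subgroup.one_mem _
    exfalso
    have hli : LinearIndependent F ![u, v] := by
      rw [LinearIndependent.pair_iff' hu0]
      exact fun t ht => hspan (Submodule.mem_span_singleton.2 ⟨t, ht⟩)
    have huu : polar (Orth.minusQ 1 F a b) u u = 0 := by rw [Orth.polar_self', hu, mul_zero]
    have hvv : polar (Orth.minusQ 1 F a b) v v = 0 := by rw [Orth.polar_self', hv, mul_zero]
    have hfam : IsFam (Orth.minusQ 1 F a b).polarBilin ![u, v] := ⟨hli, fun i j => by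
      fin_cases i <;> fin_cases j
      · exact huu
      · exact huv
      · show polar (Orth.minusQ 1 F a b) v u = 0
        rw [polar_comm]; exact huv
      · exact hvv⟩
    have h := minus_ts_bound hab 1 _ (totally_singular hQ hfam (fun i => by fin_cases i <;> assumption))
    rw [finrank_span_eq_card hfam.indep, Fintype.card_fin] at h
    omega
  · refine Orth.reflClosure_eq_top hQ (Or.inr ?_)
    simp only [Fintype.card_sum, Fintype.card_fin]
    omega

theorem minus_card_omega [Fintype F] (k : ℕ) (hab : ∀ z₁ z₂ : F, z₁ ^ 2 + a * z₁ * z₂ + b * z₂ ^ 2 = 0 → z₁ = 0 ∧ z₂ = 0) :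
    Nat.card {C : ConjClasses ↥(commutator (Orth.O (Orth.minusQ k F a b))) //
      ∃ g : ↥(commutator (Orth.O (Orth.minusQ k F a b))), ConjClasses.mk g = C ∧ orderOf g = 2} =
      (k + 1) / 2 + k / 2 := by
  have hQ := minus_nondeg k hab
  have hι : Fintype.card ((Fin k ⊕ Fin k) ⊕ Fin 2) = 2 * (k + 1) := by
    simp only [Fintype.card_sum, Fintype.card_fin]; omega
  rw [card_omega_classes hQ (minus_gen k hab) hι (by omega) (k / 2) (minus_fam_one k)
    (fun r hr => minus_fam_zero k r (by omega)) (fun r w hw h0 => minus_alt_bound hab k r hQ w hw h0) (by omega),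
    if_neg (by omega), add_zero]

end Minus

end Cfsg.Agent.InvolForm57
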