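import Cfsg.Agent.Helper57NilpJordan
import Cfsg.Agent.Lib.Maximal99.UnipBlocks

/-!
Unipotent isometries with prescribed Jordan partition.
-/

set_option autoImplicit false
set_option linter.unusedSectionVars false

namespace Cfsg.Agent.JordanForm57

open Matrix Module CfsgLib.RankProfile CfsgLib.UnipBlocks Cfsg.Agent.Jordan57

variable {F : Type*} [Field F]

section Rank

variable {k l : Type*} [Fintype k] [DecidableEq k] [Fintype l] [DecidableEq l]

theorem fromBlocks_lower_pow (X : Matrix k k F) (Z : Matrix l k F) (W : Matrix l l F) (n : ℕ) :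
    ∃ Z' : Matrix l k F, fromBlocks X 0 Z W ^ n = fromBlocks (X ^ n) 0 Z' (W ^ n) := by
  induction n with
  | zero => exact ⟨0, by simp [fromBlocks_one]⟩
  | succ n ih =>
    obtain ⟨Z', hZ'⟩ := ih
    exact ⟨Z' * X + W ^ n * Z, by rw [pow_succ, hZ', fromBlocks_multiply]; simp [pow_succ]⟩

theorem fromBlocks_lower_nilpotent {X : Matrix k k F} (Z : Matrix l k F) {W : Matrix l l F} (hX : IsNilpotent X)
    (hW : IsNilpotent W) : IsNilpotent (fromBlocks X 0 Z W) := by
  obtain ⟨a, ha⟩ := hX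
  obtain ⟨b, hb⟩ := hW
  obtain ⟨Z', hZ'⟩ := fromBlocks_lower_pow X Z W (a + b)
  refine ⟨(a + b) * 2, ?_⟩
  rw [pow_mul, hZ', pow_add X, ha, zero_mul, pow_add W, hb, mul_zero, pow_two, fromBlocks_multiply]
  simp

/-- A nilpotent matrix with a kernel of dimension at most one has a single chain. -/
theorem rank_pow_of_cyclic {A : Matrix k k F} (hA : IsNilpotent A) (z : k → F)
    (hker : ∀ x, A *ᵥ x = 0 → ∃ c : F, x = c • z) (j : ℕ) : (A ^ j).rank = Fintype.card k - j := by
  have hf : IsNilpotent A.mulVecLin := hA.map (Matrix.toLinAlgEquiv' (R := F) (n := k))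
  obtain ⟨C⟩ := exists_chains hf
  have h := C.finrank_range_pow 1
  rw [pow_one] at h
  have hle : finrank F (LinearMap.ker A.mulVecLin) ≤ 1 := by
    refine (Submodule.finrank_mono (t := Submodule.span F {z}) fun x hx => ?_).trans
      ((finrank_span_le_card ({z} : Set (k → F))).trans (by simp))
    obtain ⟨c, rfl⟩ := hker x hx
    exact Submodule.smul_mem _ _ (Submodule.mem_span_singleton_self z)
  have hn : finrank F (k → F) = C.parts.sum := by
    have := C.finrank_range_pow 0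
    rw [partProfile_zero, pow_zero, show LinearMap.range (1 : End F (k → F)) = ⊤ from LinearMap.range_id,
      finrank_top] at this
    exact this
  have hcard := card_partProfile C.parts_pos
  have hrn := A.mulVecLin.finrank_range_add_finrank_ker
  rw [h, hn] at hrn
  rw [partProfile_zero] at hcard
  have hr : (A ^ j).rank = partProfile C.parts j := by
    rw [← C.finrank_range_pow j, Matrix.rank,
      show (A ^ j).mulVecLin = A.mulVecLin ^ j from map_pow (Matrix.toLinAlgEquiv' (R := F) (n := k)) A j]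
  rw [Module.finrank_fintype_fun_eq_card] at hn
  rw [hr, hn]
  have hc1 : Multiset.card C.parts ≤ 1 := by omega
  rcases Nat.le_one_iff_eq_zero_or_eq_one.1 hc1 with h0 | h0
  · rw [Multiset.card_eq_zero.1 h0]; simp [partProfile]
  · obtain ⟨a, ha⟩ := Multiset.card_eq_one.1 h0
    rw [ha]; simp [partProfile]

theorem rank_sub_one_pow_conj {A P P' : Matrix k k F} (h : P * P' = 1) (j : ℕ) :
    ((P * A * P' - 1) ^ j).rank = ((A - 1) ^ j).rank := by
  have h' : P' * P = 1 := mul_eq_one_comm.1 h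
  have e : P * A * P' - 1 = P * (A - 1) * P' := by rw [mul_sub, sub_mul, mul_one, h]
  let u : (Matrix k k F)ˣ := ⟨P, P', h, h'⟩
  rw [e, show P * (A - 1) * P' = (u : Matrix k k F) * (A - 1) * ↑u⁻¹ from rfl, Units.conj_pow,
    Matrix.rank_mul_eq_left_of_isUnit_det _ _ ((Matrix.isUnit_iff_isUnit_det _).1 (u⁻¹).isUnit),
    Matrix.rank_mul_eq_right_of_isUnit_det _ _ ((Matrix.isUnit_iff_isUnit_det _).1 u.isUnit)]

theorem rank_sub_one_pow_submatrix (A : Matrix k k F) (e : l ≃ k) (j : ℕ) :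
    ((A.submatrix e e - 1) ^ j).rank = ((A - 1) ^ j).rank := by
  have h := map_pow (Matrix.reindexAlgEquiv F F e.symm) (A - 1) j
  rw [map_sub, map_one] at h
  rw [show A.submatrix e e = Matrix.reindexAlgEquiv F F e.symm A from rfl, ← h]
  exact Matrix.rank_submatrix _ e e

theorem rank_fromBlocks_sub_one_pow (A : Matrix k k F) (D : Matrix l l F) (j : ℕ) :
    ((fromBlocks A 0 0 D - 1) ^ j).rank = ((A - 1) ^ j).rank + ((D - 1) ^ j).rank := by
  rw [← fromBlocks_one (l := k) (m := l), sub_eq_add_neg, fromBlocks_neg, fromBlocks_add]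
  simp only [neg_zero, add_zero, ← sub_eq_add_neg]
  rw [fromBlocks_diag_pow, rank_fromBlocks_diag]

end Rank

section Block

/-- `1 + ` shift. -/
def gMat (F : Type*) [Field F] (a : ℕ) : Matrix (Fin a) (Fin a) F := 1 + shiftMatrix F a

theorem shiftMatrix_isNilpotent (a : ℕ) : IsNilpotent (shiftMatrix F a) := by
  refine ⟨a, ?_⟩
  have h := rank_shiftMatrix_pow (F := F) a a
  rwa [Nat.sub_self, Matrix.rank, Submodule.finrank_eq_zero, LinearMap.range_eq_bot,
    ← Matrix.toLin'_apply', LinearEquiv.map_eq_zero_iff] at h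

theorem isUnit_gMat (a : ℕ) : IsUnit (gMat F a) := (shiftMatrix_isNilpotent a).isUnit_one_add

/-- `(g⁻¹)ᵀ` -/
noncomputable def hMat (F : Type*) [Field F] (a : ℕ) : Matrix (Fin a) (Fin a) F := ((gMat F a)⁻¹)ᵀ

theorem transpose_mul_hMat (a : ℕ) : (gMat F a)ᵀ * hMat F a = 1 := by
  rw [hMat, ← transpose_mul, nonsing_inv_mul _ ((Matrix.isUnit_iff_isUnit_det _).1 (isUnit_gMat a)), transpose_one]

theorem hMat_mul_transpose (a : ℕ) : hMat F a * (gMat F a)ᵀ = 1 := mul_eq_one_comm.1 (transpose_mul_hMat a)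

theorem hMat_sub_one (a : ℕ) : hMat F a - 1 = -(hMat F a * (shiftMatrix F a)ᵀ) := by
  have h := hMat_mul_transpose (F := F) a
  rw [gMat, transpose_add, transpose_one, mul_add, mul_one] at h
  rw [← h]
  abel

theorem hMat_sub_one_pow (a j : ℕ) : ((hMat F a - 1) ^ j).rank = a - j := by
  have hc : Commute (hMat F a) (shiftMatrix F a)ᵀ := by
    have : Commute (hMat F a) (gMat F a)ᵀ := (hMat_mul_transpose a).trans (transpose_mul_hMat a).symm
    have h2 := this.sub_right (Commute.one_right _)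
    rwa [gMat, transpose_add, transpose_one, add_sub_cancel_left] at h2
  have hu : IsUnit (hMat F a) := IsUnit.of_mul_eq_one _ (hMat_mul_transpose a)
  rw [hMat_sub_one, neg_pow, hc.mul_pow, ← mul_assoc, Matrix.rank_mul_eq_right_of_isUnit_det _ _
    ((Matrix.isUnit_iff_isUnit_det _).1 (((isUnit_neg_one).pow j).mul (hu.pow j))),
    ← transpose_pow, rank_transpose, rank_shiftMatrix_pow]

theorem gMat_sub_one_pow (a j : ℕ) : ((gMat F a - 1) ^ j).rank = a - j := by
  rw [gMat, add_sub_cancel_left, rank_shiftMatrix_pow]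

/-- The pair block. -/
noncomputable def pairMat (F : Type*) [Field F] (a : ℕ) : Matrix (Fin a ⊕ Fin a) (Fin a ⊕ Fin a) F :=
  fromBlocks (gMat F a) 0 0 (hMat F a)

theorem pairMat_profile (a j : ℕ) : ((pairMat F a - 1) ^ j).rank = partProfile {a, a} j := by
  rw [pairMat, rank_fromBlocks_sub_one_pow, gMat_sub_one_pow, hMat_sub_one_pow]
  simp [partProfile]

theorem pairMat_quad (a : ℕ) (x y : Fin a → F) :
    (gMat F a *ᵥ x) ⬝ᵥ (hMat F a *ᵥ y) = x ⬝ᵥ y := by
  rw [dotProduct_mulVec, ← mulVec_transpose, mulVec_mulVec, hMat, transpose_transpose,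
    nonsing_inv_mul _ ((Matrix.isUnit_iff_isUnit_det _).1 (isUnit_gMat a)), one_mulVec]

/-- The last coordinate. -/
def lastF (a : ℕ) (ha : 0 < a) : Fin a := ⟨a - 1, by omega⟩

/-- The regular block of size `2 a`. -/
noncomputable def regMat (F : Type*) [Field F] (a : ℕ) (ha : 0 < a) (c : F) :
    Matrix (Fin a ⊕ Fin a) (Fin a ⊕ Fin a) F :=
  fromBlocks (gMat F a) 0 (hMat F a * Matrix.single (lastF a ha) (lastF a ha) c) (hMat F a)

theorem regMat_mem (a : ℕ) (ha : 0 < a) (c : F) : regMat F a ha c ∈ Matrix.symplecticGroup (Fin a) F := by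
  rw [SymplecticGroup.mem_iff', regMat, Matrix.J, fromBlocks_transpose, fromBlocks_multiply, fromBlocks_multiply]
  have h1 := transpose_mul_hMat (F := F) a
  have h2 : (hMat F a)ᵀ * gMat F a = 1 := by
    have := congrArg Matrix.transpose h1
    rwa [transpose_mul, transpose_transpose, transpose_one] at this
  simp only [transpose_mul, transpose_single, transpose_zero, zero_mul, mul_zero, zero_add, add_zero,
    mul_neg, neg_mul, mul_one, one_mul, mul_assoc, neg_zero]
  rw [h2, ← mul_assoc (gMat F a)ᵀ (hMat F a), h1, mul_one, one_mul, add_neg_cancel]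

theorem shiftMatrix_mulVec_eq_zero {a : ℕ} (ha : 0 < a) {x : Fin a → F} (h : shiftMatrix F a *ᵥ x = 0) :
    x = x (lastF a ha) • Pi.single (lastF a ha) 1 := by
  funext i
  rcases eq_or_ne i (lastF a ha) with rfl | hi
  · simp
  · have hi' : (i : ℕ) + 1 < a := by
      have : (i : ℕ) ≠ a - 1 := fun h => hi (Fin.ext h)
      omega
    have h2 := congrFun h ⟨(i : ℕ) + 1, hi'⟩
    simp only [mulVec, dotProduct, shiftMatrix, of_apply, ite_mul, one_mul, zero_mul, Pi.zero_apply,
      add_left_inj] at h2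
    rw [Finset.sum_eq_single i (fun b _ hb => by rw [if_neg]; exact fun h => hb (Fin.ext h.symm)) (by simp),
      if_pos rfl] at h2
    simp [h2, hi]

theorem shiftMatrix_transpose_mulVec (a : ℕ) (y : Fin a → F) (i : Fin a) :
    ((shiftMatrix F a)ᵀ *ᵥ y) i = if h : (i : ℕ) + 1 < a then y ⟨(i : ℕ) + 1, h⟩ else 0 := by
  simp only [mulVec, dotProduct, shiftMatrix, transpose_apply, of_apply, ite_mul, one_mul, zero_mul]
  split_ifs with h
  · rw [Finset.sum_eq_single ⟨(i : ℕ) + 1, h⟩ (fun b _ hb => by rw [if_neg]; exact fun h => hb (Fin.ext h)) (by simp),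
      if_pos rfl]
  · exact Finset.sum_eq_zero fun b _ => by rw [if_neg]; omega

theorem regMat_profile (a : ℕ) (ha : 0 < a) {c : F} (hc : c ≠ 0) (j : ℕ) :
    ((regMat F a ha c - 1) ^ j).rank = partProfile {2 * a} j := by
  have e : regMat F a ha c - 1 = fromBlocks (shiftMatrix F a) 0
      (hMat F a * Matrix.single (lastF a ha) (lastF a ha) c) (hMat F a - 1) := by
    rw [regMat, ← fromBlocks_one (l := Fin a) (m := Fin a), sub_eq_add_neg, fromBlocks_neg, fromBlocks_add]
    simp [gMat, sub_eq_add_neg]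
  have hW : IsNilpotent (hMat F a - 1) := by
    refine ⟨a, ?_⟩
    have h := hMat_sub_one_pow (F := F) a a
    rwa [Nat.sub_self, Matrix.rank, Submodule.finrank_eq_zero, LinearMap.range_eq_bot,
      ← Matrix.toLin'_apply', LinearEquiv.map_eq_zero_iff] at h
  rw [e, rank_pow_of_cyclic (fromBlocks_lower_nilpotent _ (shiftMatrix_isNilpotent a) hW)
    (Sum.elim 0 (Pi.single ⟨0, ha⟩ 1))]
  · simp [partProfile, two_mul]
  intro x hx
  rw [fromBlocks_mulVec, hMat_sub_one] at hx
  have hx1 : shiftMatrix F a *ᵥ (x ∘ Sum.inl) = 0 := funext fun i => by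
    simpa using congrFun hx (Sum.inl i)
  have hx2 : (hMat F a * Matrix.single (lastF a ha) (lastF a ha) c) *ᵥ (x ∘ Sum.inl) +
      (-(hMat F a * (shiftMatrix F a)ᵀ)) *ᵥ (x ∘ Sum.inr) = 0 := funext fun i => by
    simpa using congrFun hx (Sum.inr i)
  rw [neg_mulVec, ← sub_eq_add_neg, ← mulVec_mulVec, ← mulVec_mulVec, ← mulVec_sub] at hx2
  have hx3 : Matrix.single (lastF a ha) (lastF a ha) c *ᵥ (x ∘ Sum.inl) - (shiftMatrix F a)ᵀ *ᵥ (x ∘ Sum.inr) = 0 := by
    have := congrArg ((gMat F a)ᵀ *ᵥ ·) hx2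
    simpa [mulVec_mulVec, transpose_mul_hMat] using this
  have hlast : x (Sum.inl (lastF a ha)) = 0 := by
    have h := congrFun hx3 (lastF a ha)
    rw [Pi.sub_apply, shiftMatrix_transpose_mulVec, dif_neg (by simp [lastF]; omega), sub_zero] at h
    simpa [hc, Matrix.single_mulVec] using h
  have hinl : x ∘ Sum.inl = 0 := by
    rw [shiftMatrix_mulVec_eq_zero ha hx1]
    simp [hlast]
  refine ⟨x (Sum.inr ⟨0, ha⟩), funext fun i => ?_⟩
  rcases i with i | i
  · simpa using congrFun hinl i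
  · rcases Nat.eq_zero_or_pos (i : ℕ) with h0 | h0
    · obtain rfl : i = ⟨0, ha⟩ := Fin.ext h0
      simp
    · have h := congrFun hx3 ⟨(i : ℕ) - 1, by omega⟩
      rw [hinl, mulVec_zero, Pi.sub_apply, shiftMatrix_transpose_mulVec, dif_pos (by simp only; omega)] at h
      simp only [Pi.zero_apply, zero_sub, neg_eq_zero] at h
      have hi : i ≠ ⟨0, ha⟩ := fun e => by simp [e] at h0
      have e : (⟨(i : ℕ) - 1 + 1, by omega⟩ : Fin a) = i := Fin.ext (by simp only; omega)
      rw [e] at h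
      simpa [hi] using h

end Block

section Sp

/-- A symplectic unipotent with partition `μ`. -/
def HasSp (F : Type*) [Field F] (μ : Multiset ℕ) : Prop :=
  ∃ (ι : Type) (_ : Fintype ι) (_ : DecidableEq ι) (A : Matrix (ι ⊕ ι) (ι ⊕ ι) F),
    A ∈ Matrix.symplecticGroup ι F ∧ ∀ j, ((A - 1) ^ j).rank = partProfile μ j

theorem hasSp_zero : HasSp F 0 :=
  ⟨Fin 0, inferInstance, inferInstance, 1, Submonoid.one_mem _, fun j => by
    have := Matrix.rank_le_card_width ((1 - 1 : Matrix (Fin 0 ⊕ Fin 0) (Fin 0 ⊕ Fin 0) F) ^ j)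
    simp only [Fintype.card_sum, Fintype.card_fin] at this
    simp only [partProfile, Multiset.map_zero, Multiset.sum_zero]
    omega⟩

theorem hasSp_pair (a : ℕ) : HasSp F {a, a} := by
  refine ⟨Fin a, inferInstance, inferInstance, pairMat F a, ?_, pairMat_profile a⟩
  rw [SymplecticGroup.mem_iff', pairMat, Matrix.J, fromBlocks_transpose, fromBlocks_multiply, fromBlocks_multiply]
  have h1 := transpose_mul_hMat (F := F) a
  have h2 : (hMat F a)ᵀ * gMat F a = 1 := by
    have := congrArg Matrix.transpose h1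
    rwa [transpose_mul, transpose_transpose, transpose_one] at this
  simp [h1, h2]

theorem hasSp_even {a : ℕ} (ha : 0 < a) : HasSp F {2 * a} :=
  ⟨Fin a, inferInstance, inferInstance, regMat F a ha 1, regMat_mem a ha 1, regMat_profile a ha one_ne_zero⟩

theorem submatrix_mem_symplectic {ι κ : Type*} [Fintype ι] [DecidableEq ι] [Fintype κ] [DecidableEq κ]
    {A : Matrix (ι ⊕ ι) (ι ⊕ ι) F} (hA : A ∈ Matrix.symplecticGroup ι F) (e : κ ≃ ι) :
    A.submatrix (Equiv.sumCongr e e) (Equiv.sumCongr e e) ∈ Matrix.symplecticGroup κ F := by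
  have hJ : Matrix.J κ F = (Matrix.J ι F).submatrix (Equiv.sumCongr e e) (Equiv.sumCongr e e) := by
    ext i j
    rcases i with i | i <;> rcases j with j | j <;> simp [Matrix.J, Matrix.one_apply, EmbeddingLike.apply_eq_iff_eq]
  rw [SymplecticGroup.mem_iff', hJ, transpose_submatrix, submatrix_mul_equiv, submatrix_mul_equiv,
    SymplecticGroup.mem_iff'.1 hA]

theorem HasSp.add {μ ν : Multiset ℕ} (h : HasSp F μ) (h' : HasSp F ν) : HasSp F (μ + ν) := by
  obtain ⟨ι, hι, hι', A, hA, hr⟩ := h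
  obtain ⟨κ, hκ, hκ', B, hB, hr'⟩ := h'
  let σ : (ι ⊕ κ) ⊕ (ι ⊕ κ) ≃ (ι ⊕ ι) ⊕ (κ ⊕ κ) := Equiv.sumSumSumComm ι κ ι κ
  refine ⟨ι ⊕ κ, inferInstance, inferInstance, (fromBlocks A 0 0 B).submatrix σ σ, ?_, fun j => ?_⟩
  · have hJ : Matrix.J (ι ⊕ κ) F = (fromBlocks (Matrix.J ι F) 0 0 (Matrix.J κ F)).submatrix σ σ := by
      ext i j
      rcases i with (i | i) | (i | i) <;> rcases j with (j | j) | (j | j) <;>
        simp [σ, Matrix.J, Matrix.one_apply, Equiv.sumSumSumComm]
    rw [SymplecticGroup.mem_iff', hJ, transpose_submatrix, submatrix_mul_equiv, submatrix_mul_equiv,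
      fromBlocks_transpose, fromBlocks_multiply, fromBlocks_multiply]
    simp [SymplecticGroup.mem_iff'.1 hA, SymplecticGroup.mem_iff'.1 hB]
  · rw [rank_sub_one_pow_submatrix, rank_fromBlocks_sub_one_pow, hr, hr', partProfile_add]

end Sp

section Quad

/-- A unipotent isometry with partition `μ` of a non-degenerate quadratic form. -/
def HasQ (F : Type*) [Field F] (μ : Multiset ℕ) : Prop :=
  ∃ (ι : Type) (_ : Fintype ι) (_ : DecidableEq ι) (Q : QuadraticForm F (ι → F)) (A : Matrix ι ι F),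
    (QuadraticMap.polarBilin Q).Nondegenerate ∧ (∀ v, Q (A *ᵥ v) = Q v) ∧
      ∀ j, ((A - 1) ^ j).rank = partProfile μ j

theorem nondegenerate_of_right {ι : Type*} (Q : QuadraticForm F (ι → F))
    (h : ∀ x, (∀ y, QuadraticMap.polar Q x y = 0) → x = 0) : (QuadraticMap.polarBilin Q).Nondegenerate :=
  ⟨fun x hx => h x hx, fun y hy => h y fun x => by rw [QuadraticMap.polar_comm]; exact hy x⟩

theorem hasQ_zero : HasQ F 0 :=
  ⟨Fin 0, inferInstance, inferInstance, 0, 1,
    nondegenerate_of_right _ (fun x _ => Subsingleton.elim _ _), fun v => by rw [one_mulVec], fun j => by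
    have := Matrix.rank_le_card_width ((1 - 1 : Matrix (Fin 0) (Fin 0) F) ^ j)
    simp only [Fintype.card_fin] at this
    simp only [partProfile, Multiset.map_zero, Multiset.sum_zero]
    omega⟩

theorem HasQ.add {μ ν : Multiset ℕ} (h : HasQ F μ) (h' : HasQ F ν) : HasQ F (μ + ν) := by
  obtain ⟨ι, hι, hι', Q, A, hQ, hA, hr⟩ := h
  obtain ⟨κ, hκ, hκ', Q', B, hQ', hB, hr'⟩ := h'
  let R : QuadraticForm F (ι ⊕ κ → F) := Q.comp (LinearMap.funLeft F F Sum.inl) + Q'.comp (LinearMap.funLeft F F Sum.inr)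
  refine ⟨ι ⊕ κ, inferInstance, inferInstance, R, fromBlocks A 0 0 B, ?_, fun v => ?_, fun j => ?_⟩
  · have hp : ∀ x y, QuadraticMap.polar R x y = QuadraticMap.polar Q (x ∘ Sum.inl) (y ∘ Sum.inl) +
        QuadraticMap.polar Q' (x ∘ Sum.inr) (y ∘ Sum.inr) := fun x y => by
      show (Q (x ∘ Sum.inl + y ∘ Sum.inl) + Q' (x ∘ Sum.inr + y ∘ Sum.inr)) - (Q (x ∘ Sum.inl) + Q' (x ∘ Sum.inr)) -
        (Q (y ∘ Sum.inl) + Q' (y ∘ Sum.inr)) = (Q (x ∘ Sum.inl + y ∘ Sum.inl) - Q (x ∘ Sum.inl) - Q (y ∘ Sum.inl)) +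
          (Q' (x ∘ Sum.inr + y ∘ Sum.inr) - Q' (x ∘ Sum.inr) - Q' (y ∘ Sum.inr))
      ring
    refine nondegenerate_of_right _ fun x hx => ?_
    have h1 : x ∘ Sum.inl = 0 := hQ.1 _ fun y => by
      have := hx (Sum.elim y 0)
      rw [hp] at this
      simpa [QuadraticMap.polar] using this
    have h2 : x ∘ Sum.inr = 0 := hQ'.1 _ fun y => by
      have := hx (Sum.elim 0 y)
      rw [hp] at this
      simpa [QuadraticMap.polar] using this
    exact funext (Sum.rec (congrFun h1) (congrFun h2))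
  · show R _ = R v
    simp only [R, _root_.add_apply, QuadraticMap.comp_apply, fromBlocks_mulVec]
    congr 1
    · refine Eq.trans (congrArg Q (funext fun i => ?_)) (hA _)
      simp [LinearMap.funLeft, Function.comp_def]
    · refine Eq.trans (congrArg Q' (funext fun i => ?_)) (hB _)
      simp [LinearMap.funLeft, Function.comp_def]
  · rw [rank_fromBlocks_sub_one_pow, hr, hr', partProfile_add]

/-- `∑ xᵢ yᵢ` -/
noncomputable def hypQ (a : ℕ) (F : Type*) [Field F] : QuadraticForm F (Fin a ⊕ Fin a → F) :=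
  ∑ i, QuadraticMap.proj (Sum.inl i) (Sum.inr i)

theorem hypQ_apply (a : ℕ) (v : Fin a ⊕ Fin a → F) : hypQ a F v = (v ∘ Sum.inl) ⬝ᵥ (v ∘ Sum.inr) := by
  simp [hypQ, QuadraticMap.sum_apply, dotProduct]

theorem hypQ_polar (a : ℕ) (x y : Fin a ⊕ Fin a → F) :
    QuadraticMap.polar (hypQ a F) x y = (x ∘ Sum.inl) ⬝ᵥ (y ∘ Sum.inr) + (y ∘ Sum.inl) ⬝ᵥ (x ∘ Sum.inr) := by
  simp only [QuadraticMap.polar, hypQ_apply, dotProduct, Function.comp_apply, Pi.add_apply, ← Finset.sum_sub_distrib,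
    ← Finset.sum_add_distrib]
  exact Finset.sum_congr rfl fun i _ => by ring

theorem hypQ_nondeg_aux (a : ℕ) (x : Fin a ⊕ Fin a → F)
    (hx : ∀ y, (x ∘ Sum.inl) ⬝ᵥ (y ∘ Sum.inr) + (y ∘ Sum.inl) ⬝ᵥ (x ∘ Sum.inr) = 0) : x = 0 := by
  funext i
  rcases i with i | i
  · have h := hx (Sum.elim 0 (Pi.single i 1))
    rw [Sum.elim_comp_inl, Sum.elim_comp_inr, dotProduct_single, zero_dotProduct, mul_one, add_zero] at h
    exact h
  · have h := hx (Sum.elim (Pi.single i 1) 0)
    rw [Sum.elim_comp_inl, Sum.elim_comp_inr, single_dotProduct, dotProduct_zero, one_mul, zero_add] at h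
    exact h

theorem hasQ_pair (a : ℕ) : HasQ F {a, a} := by
  refine ⟨Fin a ⊕ Fin a, inferInstance, inferInstance, hypQ a F, pairMat F a, ?_, fun v => ?_, pairMat_profile a⟩
  · exact nondegenerate_of_right _ fun x hx => hypQ_nondeg_aux a x fun y => by rw [← hypQ_polar]; exact hx y
  · rw [hypQ_apply, hypQ_apply, pairMat, fromBlocks_mulVec]
    simpa using pairMat_quad a (v ∘ Sum.inl) (v ∘ Sum.inr)

theorem hasQ_even_char2 [CharP F 2] {a : ℕ} (ha : 0 < a) : HasQ F {2 * a} := by
  let L := lastF a ha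
  let Q : QuadraticForm F (Fin a ⊕ Fin a → F) := hypQ a F + QuadraticMap.proj (Sum.inr L) (Sum.inr L)
  have hQ : ∀ v, Q v = (v ∘ Sum.inl) ⬝ᵥ (v ∘ Sum.inr) + v (Sum.inr L) * v (Sum.inr L) := fun v => by
    simp [Q, hypQ_apply]
  refine ⟨Fin a ⊕ Fin a, inferInstance, inferInstance, Q, regMat F a ha 1, ?_, fun v => ?_,
    regMat_profile a ha one_ne_zero⟩
  · refine nondegenerate_of_right _ fun x hx => hypQ_nondeg_aux a x fun y => ?_
    have h := hx y
    rw [← hypQ_polar]
    simp only [QuadraticMap.polar, Q, _root_.add_apply, QuadraticMap.proj_apply, Pi.add_apply] at h ⊢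
    linear_combination h - CharTwo.two_eq_zero (R := F) * (x (Sum.inr L) * y (Sum.inr L))
  · have hlast : ∀ w, ((hMat F a) *ᵥ w) L = w L := by
      intro w
      have h : (gMat F a)ᵀ *ᵥ ((hMat F a) *ᵥ w) = w := by
        rw [mulVec_mulVec, transpose_mul_hMat, one_mulVec]
      have h2 := congrFun h L
      rw [gMat, transpose_add, transpose_one, add_mulVec, one_mulVec, Pi.add_apply,
        shiftMatrix_transpose_mulVec, dif_neg (by simp [L, lastF]; omega), add_zero] at h2
      exact h2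
    rw [hQ, hQ]
    have e1 : (regMat F a ha 1 *ᵥ v) ∘ Sum.inl = gMat F a *ᵥ (v ∘ Sum.inl) := by
      rw [regMat, fromBlocks_mulVec, Sum.elim_comp_inl, zero_mulVec, add_zero]
    have e2 : (regMat F a ha 1 *ᵥ v) ∘ Sum.inr =
        hMat F a *ᵥ (Matrix.single L L (1 : F) *ᵥ (v ∘ Sum.inl) + v ∘ Sum.inr) := by
      rw [regMat, fromBlocks_mulVec, Sum.elim_comp_inr, mulVec_add, mulVec_mulVec]
    rw [show (regMat F a ha 1 *ᵥ v) (Sum.inr L) = ((regMat F a ha 1 *ᵥ v) ∘ Sum.inr) L from rfl, e1, e2,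
      pairMat_quad, hlast, dotProduct_add, Pi.add_apply, Function.comp_apply]
    have e3 : Matrix.single L L (1 : F) *ᵥ (v ∘ Sum.inl) = Pi.single L (v (Sum.inl L)) := by
      rw [single_mulVec, one_mul, Function.comp_apply]; rfl
    rw [e3, dotProduct_single, Pi.single_eq_same, Function.comp_apply]
    linear_combination (v (Sum.inl L) * v (Sum.inl L) + v (Sum.inl L) * v (Sum.inr L)) * CharTwo.two_eq_zero (R := F)

theorem hasQ_odd (h2 : (2 : F) ≠ 0) {a : ℕ} (ha : Odd a) : HasQ F {a} := by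
  obtain ⟨D, hD, hb⟩ := hasBlock_odd (F := F) ha
  obtain ⟨ι, hι, hι', G, N, g, hG, hr, hd⟩ := hb 1
  have hnil : IsNilpotent N := by
    refine ⟨a, ?_⟩
    have h := hr a
    rwa [partProfile_eq_zero (by simp), Matrix.rank, Submodule.finrank_eq_zero, LinearMap.range_eq_bot,
      ← Matrix.toLin'_apply', LinearEquiv.map_eq_zero_iff] at h
  obtain ⟨U, hU⟩ := hnil.isUnit_one_sub
  let A : Matrix ι ι F := (1 + N) * (↑U⁻¹ : Matrix ι ι F)
  let Q : QuadraticForm F (ι → F) := (Matrix.toBilin' G).toQuadraticMap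
  have hQ : ∀ v, Q v = v ⬝ᵥ G *ᵥ v := fun v => by simp [Q, Matrix.toBilin'_apply']
  have hiso : Aᵀ * G * A = G := by
    have h1 : (1 + N)ᵀ * G * (1 + N) = (U : Matrix ι ι F)ᵀ * G * (U : Matrix ι ι F) := by
      rw [hU, transpose_add, transpose_sub, transpose_one, add_mul, one_mul, sub_mul, one_mul, hG.skew]
      noncomm_ring
    calc Aᵀ * G * A = (↑U⁻¹ : Matrix ι ι F)ᵀ * ((1 + N)ᵀ * G * (1 + N)) * (↑U⁻¹ : Matrix ι ι F) := by
          simp only [A, transpose_mul, mul_assoc]
      _ = ((U : Matrix ι ι F) * (↑U⁻¹ : Matrix ι ι F))ᵀ * G * ((U : Matrix ι ι F) * (↑U⁻¹ : Matrix ι ι F)) := by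
          rw [h1]; simp only [transpose_mul, mul_assoc]
      _ = G := by rw [Units.mul_inv, transpose_one, one_mul, mul_one]
  refine ⟨ι, hι, hι', Q, A, ?_, fun v => ?_, fun j => ?_⟩
  · refine nondegenerate_of_right _ fun x hx => ?_
    have hp : ∀ y, QuadraticMap.polar Q x y = 2 * (x ⬝ᵥ G *ᵥ y) := fun y => by
      have hs : y ⬝ᵥ G *ᵥ x = x ⬝ᵥ G *ᵥ y := by
        rw [dotProduct_mulVec, ← mulVec_transpose, hG.symm, dotProduct_comm]
      simp only [QuadraticMap.polar, hQ, mulVec_add, dotProduct_add, add_dotProduct, hs]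
      ring
    have hdet : G.det ≠ 0 := by rw [hd, one_pow, one_mul]; exact hD
    refine (Matrix.nondegenerate_of_det_ne_zero hdet).eq_zero_of_ortho fun y => ?_
    have := hp y ▸ hx y
    exact (mul_eq_zero.1 this).resolve_left h2
  · rw [hQ, hQ, mulVec_mulVec, dotProduct_mulVec, ← vecMul_transpose, vecMul_vecMul, ← mul_assoc, hiso,
      ← dotProduct_mulVec]
  · have hc : Commute N (↑U⁻¹ : Matrix ι ι F) := by
      refine Commute.units_inv_right ?_
      rw [hU]
      exact (Commute.one_right N).sub_right (Commute.refl N)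
    have hAN : A - 1 = (2 : F) • (N * (↑U⁻¹ : Matrix ι ι F)) := by
      have e : A - 1 = ((1 + N) - (U : Matrix ι ι F)) * (↑U⁻¹ : Matrix ι ι F) := by rw [sub_mul, Units.mul_inv]
      rw [e, hU, ← smul_mul_assoc, two_smul]
      congr 1
      abel
    rw [hAN, smul_pow, hc.mul_pow]
    have hu : IsUnit ((2 : F) ^ j • (↑U⁻¹ : Matrix ι ι F) ^ j) := by
      rw [Algebra.smul_def]
      exact ((isUnit_iff_ne_zero.2 (pow_ne_zero j h2)).map _).mul ((U⁻¹).isUnit.pow j)
    rw [← mul_smul_comm, Matrix.rank_mul_eq_left_of_isUnit_det _ _ ((Matrix.isUnit_iff_isUnit_det _).1 hu), hr]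

end Quad

/-- Induction over partitions: pairs, and admissible single parts. -/
theorem partition_induction {P : Multiset ℕ → Prop} {G : ℕ → Prop} (h0 : P 0)
    (hadd : ∀ μ ν, P μ → P ν → P (μ + ν)) (hpair : ∀ a, P {a, a}) (hsingle : ∀ a, G a → P {a}) :
    ∀ μ : Multiset ℕ, (∀ e, ¬ G e → Even (μ.count e)) → P μ := by
  intro μ
  induction μ using Multiset.strongInductionOn with
  | ih μ ih =>
    intro hev
    rcases Multiset.empty_or_exists_mem μ with rfl | ⟨e, he⟩
    · exact h0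
    obtain ⟨ν, rfl⟩ := Multiset.exists_cons_of_mem he
    by_cases hG : G e
    · have h := hadd _ _ (hsingle e hG) (ih ν (Multiset.lt_cons_self ν e) (fun b hb => by
        have := hev b hb
        rwa [Multiset.count_cons_of_ne (fun h : b = e => hb (h ▸ hG))] at this))
      rwa [Multiset.singleton_add] at h
    · have hc := hev e hG
      rw [Multiset.count_cons_self] at hc
      have : e ∈ ν := by
        rw [← Multiset.count_pos]
        rcases Nat.eq_zero_or_pos (ν.count e) with h0 | h0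
        · rw [h0] at hc; simp at hc
        · exact h0
      obtain ⟨ρ, rfl⟩ := Multiset.exists_cons_of_mem this
      have hlt : ρ < e ::ₘ e ::ₘ ρ := (Multiset.lt_cons_self ρ e).trans (Multiset.lt_cons_self _ e)
      have h := hadd _ _ (hpair e) (ih ρ hlt (fun b hb => by
        have := hev b hb
        rw [Multiset.count_cons, Multiset.count_cons] at this
        split_ifs at this <;> first | exact this | (simpa [Nat.even_add_one] using this)))
      rwa [show ({e, e} : Multiset ℕ) + ρ = e ::ₘ e ::ₘ ρ from by simp] at h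

end Cfsg.Agent.JordanForm57
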