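import Mathlib
import Cfsg.Prelude.Def_ClassicalGeometry

/-!
The symplectic form as a bilinear form.
-/

set_option autoImplicit false

namespace Cfsg.Agent.Symp57

variable {F : Type*} [Field F] {m : ℕ}

/-- The form of the symplectic group. -/
noncomputable def sB (m : ℕ) (F : Type*) [Field F] : LinearMap.BilinForm F (Fin m ⊕ Fin m → F) :=
  Matrix.toBilin' (Matrix.J (Fin m) F)

theorem sB_apply (u v : Fin m ⊕ Fin m → F) : sB m F u v = Cfsg.sympForm m F u v := by
  rw [sB, Matrix.toBilin'_apply']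
  rfl

theorem sB_nondegenerate : (sB m F).Nondegenerate :=
  LinearMap.BilinForm.nondegenerate_toBilin'_of_det_ne_zero' _ (Matrix.isUnit_det_J (Fin m) F).ne_zero

theorem sympForm_invariant {A : Matrix (Fin m ⊕ Fin m) (Fin m ⊕ Fin m) F}
    (hA : A ∈ Matrix.symplecticGroup (Fin m) F) (u v : Fin m ⊕ Fin m → F) :
    Cfsg.sympForm m F (A.mulVec u) (A.mulVec v) = Cfsg.sympForm m F u v := by
  rw [Cfsg.sympForm, Cfsg.sympForm, Matrix.mulVec_mulVec, Matrix.dotProduct_mulVec,
    Matrix.dotProduct_mulVec, ← Matrix.vecMul_transpose, Matrix.vecMul_vecMul, ← Matrix.mul_assoc,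
    SymplecticGroup.mem_iff'.1 hA]

theorem sympForm_alt (v : Fin m ⊕ Fin m → F) : Cfsg.sympForm m F v v = 0 := by
  simp only [Cfsg.sympForm, dotProduct, Matrix.mulVec, Matrix.J, Fintype.sum_sum_type,
    Matrix.fromBlocks_apply₁₁, Matrix.fromBlocks_apply₁₂, Matrix.fromBlocks_apply₂₁,
    Matrix.fromBlocks_apply₂₂, Matrix.zero_apply, Matrix.neg_apply, Matrix.one_apply]
  simp only [zero_mul, neg_mul, ite_mul, one_mul, Finset.sum_const_zero, zero_add, add_zero,
    Finset.sum_neg_distrib, Finset.sum_ite_eq, Finset.mem_univ, if_true, mul_neg]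
  rw [neg_add_eq_zero]
  exact Finset.sum_congr rfl fun i _ => mul_comm _ _

theorem sB_alt : (sB m F).IsAlt := fun v => (sB_apply v v).trans (sympForm_alt v)

end Cfsg.Agent.Symp57
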