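import Cfsg.Agent.Helper57FormProfile
import Cfsg.Agent.Helper57JordanConstr
import Cfsg.Agent.Helper57Symp

/-!
Jordan types of unipotent elements of symplectic and orthogonal groups.
-/

set_option autoImplicit false
set_option linter.unusedSectionVars false

namespace Cfsg.Agent.JordanForm57

open Matrix Module CfsgLib.RankProfile Cfsg.Agent.Jordan57

variable {F : Type*} [Field F] {t : ℕ}

/-- The parts of `d`. -/
def partsOf (d : Fin t → ℕ) : Multiset ℕ := Finset.univ.val.map d

theorem count_partsOf (d : Fin t → ℕ) (j : ℕ) :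
    (partsOf d).count j = (Finset.univ.filter fun k => d k = j).card := by
  rw [partsOf, Multiset.count_map, Finset.card_def, Finset.filter_val]
  congr 2
  funext k
  exact propext eq_comm

theorem sum_partsOf (d : Fin t → ℕ) : (partsOf d).sum = ∑ k, d k := rfl

theorem count_partsOf_zero (d : Fin t → ℕ) (hd : ∀ k, 1 ≤ d k) : (partsOf d).count 0 = 0 :=
  Multiset.count_eq_zero_of_notMem fun h => by
    obtain ⟨k, -, hk⟩ := Multiset.mem_map.1 h
    have := hd k
    omega

theorem jordan_profile (d : Fin t → ℕ) (hd : ∀ k, 1 ≤ d k) (j : ℕ) :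
    ((Cfsg.jordanTypeMatrix d F - 1) ^ j).rank = partProfile (partsOf d) j := by
  have h := (jordanChains (F := F) d hd).finrank_range_pow j
  rw [Matrix.rank, show ((Cfsg.jordanTypeMatrix d F - 1) ^ j).mulVecLin = jordanN d F ^ j from
    map_pow (Matrix.toLinAlgEquiv' (R := F) (n := (k : Fin t) × Fin (d k))) _ j]
  exact h

theorem profile_of_isConj {ι : Type*} [Fintype ι] [DecidableEq ι] {d : Fin t → ℕ} (hd : ∀ k, 1 ≤ d k)
    (e : ((k : Fin t) × Fin (d k)) ≃ ι) {A : Matrix ι ι F}
    (h : IsConj (Matrix.reindex e e (Cfsg.jordanTypeMatrix d F)) A) (j : ℕ) :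
    ((A - 1) ^ j).rank = partProfile (partsOf d) j := by
  obtain ⟨c, hc⟩ := h
  have hA : A = (c : Matrix ι ι F) * Matrix.reindex e e (Cfsg.jordanTypeMatrix d F) * (↑c⁻¹ : Matrix ι ι F) := by
    rw [hc.eq, mul_assoc, Units.mul_inv, mul_one]
  rw [hA, rank_sub_one_pow_conj (Units.mul_inv c), Matrix.reindex_apply, rank_sub_one_pow_submatrix,
    jordan_profile d hd]

theorem pow_mulVecLin {ι : Type*} [Fintype ι] [DecidableEq ι] (A : Matrix ι ι F) (j : ℕ) :
    (A.mulVecLin - 1) ^ j = ((A - 1) ^ j).mulVecLin := by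
  refine Eq.trans ?_ (map_pow (Matrix.toLinAlgEquiv' (R := F) (n := ι)) (A - 1) j).symm
  rw [map_sub, map_one]
  rfl

theorem nilpotent_of_profile {ι : Type*} [Fintype ι] [DecidableEq ι] {A : Matrix ι ι F} {μ : Multiset ℕ}
    (h : ∀ j, ((A - 1) ^ j).rank = partProfile μ j) : IsNilpotent (A - 1) := by
  refine ⟨μ.sum, ?_⟩
  have h := h μ.sum
  rwa [partProfile_eq_zero (fun a ha => Multiset.le_sum_of_mem ha), Matrix.rank, Submodule.finrank_eq_zero,
    LinearMap.range_eq_bot, ← Matrix.toLin'_apply', LinearEquiv.map_eq_zero_iff] at h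

theorem card_of_profile {ι : Type*} [Fintype ι] [DecidableEq ι] {A : Matrix ι ι F} {μ : Multiset ℕ}
    (h : ∀ j, ((A - 1) ^ j).rank = partProfile μ j) : Fintype.card ι = μ.sum := by
  have := h 0
  rwa [pow_zero, Matrix.rank_one, partProfile_zero] at this

theorem isConj_of_rank {ι : Type*} [Fintype ι] [DecidableEq ι] {A B : Matrix ι ι F} {μ : Multiset ℕ}
    (hA : ∀ j, ((A - 1) ^ j).rank = partProfile μ j) (hB : ∀ j, ((B - 1) ^ j).rank = partProfile μ j) :
    IsConj A B := by
  have n1 : IsNilpotent (A - 1).mulVecLin := (nilpotent_of_profile hA).map (Matrix.toLinAlgEquiv' (R := F) (n := ι))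
  have n2 : IsNilpotent (B - 1).mulVecLin := (nilpotent_of_profile hB).map (Matrix.toLinAlgEquiv' (R := F) (n := ι))
  have hk : ∀ (M : Matrix ι ι F) (j : ℕ), finrank F (LinearMap.range (M.mulVecLin ^ j)) = (M ^ j).rank := fun M j => by
    rw [Matrix.rank, show (M ^ j).mulVecLin = M.mulVecLin ^ j from map_pow (Matrix.toLinAlgEquiv' (R := F) (n := ι)) M j]
  obtain ⟨T, hT⟩ := conj_of_profile n1 n2 (fun j => by rw [hk, hk, hA, hB])
  have hM : IsUnit (LinearMap.toMatrix' T.toLinearMap) := by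
    rw [← Matrix.mulVec_injective_iff_isUnit]
    intro x y hxy
    apply T.injective
    simpa [LinearMap.toMatrix'_mulVec] using hxy
  have h1 := congrArg LinearMap.toMatrix' hT
  rw [LinearMap.toMatrix'_comp, LinearMap.toMatrix'_comp, ← Matrix.toLin'_apply',
    ← Matrix.toLin'_apply', LinearMap.toMatrix'_toLin', LinearMap.toMatrix'_toLin', mul_sub, sub_mul,
    mul_one, one_mul, sub_left_inj] at h1
  exact ⟨hM.unit, h1⟩

theorem sp_iff {m : ℕ} (d : Fin t → ℕ) (hd : ∀ k, 1 ≤ d k) (hsum : ∑ k, d k = 2 * m) :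
    (∃ e : ((k : Fin t) × Fin (d k)) ≃ (Fin m ⊕ Fin m), ∃ A : Matrix.symplecticGroup (Fin m) F,
      IsConj (Matrix.reindex e e (Cfsg.jordanTypeMatrix d F)) (A : Matrix (Fin m ⊕ Fin m) (Fin m ⊕ Fin m) F)) ↔
    ∀ j : ℕ, Odd j → Even (Finset.univ.filter (fun k : Fin t => d k = j)).card := by
  constructor
  · rintro ⟨e, A, hA⟩ j hj
    rw [← count_partsOf]
    refine even_count_alt Symp57.sB_nondegenerate Symp57.sB_alt (A : Matrix (Fin m ⊕ Fin m) (Fin m ⊕ Fin m) F).mulVecLin
      (fun x y => ?_) (fun k => ?_) j hj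
    · rw [Symp57.sB_apply, Symp57.sB_apply]
      exact Symp57.sympForm_invariant A.2 x y
    · rw [pow_mulVecLin]
      exact profile_of_isConj hd e hA k
  · intro h
    have hP : HasSp F (partsOf d) := by
      refine partition_induction (G := fun a => Even a ∧ 0 < a) hasSp_zero (fun _ _ => HasSp.add) hasSp_pair
        (fun a ha => ?_) _ (fun e he => ?_)
      · obtain ⟨⟨b, rfl⟩, hb⟩ := ha
        rw [← two_mul]
        exact hasSp_even (by omega)
      · rcases Nat.eq_zero_or_pos e with rfl | he0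
        · rw [count_partsOf_zero d hd]; exact Even.zero
        · rw [count_partsOf]
          exact h e (Nat.not_even_iff_odd.1 fun h => he ⟨h, he0⟩)
    obtain ⟨ι, hι, hι', A, hA, hr⟩ := hP
    have hc := card_of_profile hr
    rw [sum_partsOf, hsum, Fintype.card_sum] at hc
    let e0 : Fin m ≃ ι := Fintype.equivOfCardEq (by simp; omega)
    have hcard : Fintype.card ((k : Fin t) × Fin (d k)) = Fintype.card (Fin m ⊕ Fin m) := by simp [hsum]; omega
    let e := Fintype.equivOfCardEq hcard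
    refine ⟨e, ⟨_, submatrix_mem_symplectic hA e0⟩, isConj_of_rank (μ := partsOf d) (fun j => ?_) (fun j => ?_)⟩
    · rw [Matrix.reindex_apply, rank_sub_one_pow_submatrix, jordan_profile d hd]
    · show ((A.submatrix (Equiv.sumCongr e0 e0) (Equiv.sumCongr e0 e0) - 1) ^ j).rank = _
      rw [rank_sub_one_pow_submatrix, hr]

theorem exists_isometry_of_hasQ {n : ℕ} (d : Fin t → ℕ) (hd : ∀ k, 1 ≤ d k) (hsum : ∑ k, d k = n)
    (hP : HasQ F (partsOf d)) :
    ∃ Q : QuadraticForm F (Fin n → F), (QuadraticMap.polarBilin Q).Nondegenerate ∧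
      ∃ e : ((k : Fin t) × Fin (d k)) ≃ Fin n, ∃ A : ↥(Cfsg.isometryGroup F ⇑Q),
        IsConj (Matrix.reindex e e (Cfsg.jordanTypeMatrix d F))
          ((A : Matrix.GeneralLinearGroup (Fin n) F) : Matrix (Fin n) (Fin n) F) := by
  obtain ⟨ι, hι, hι', Q, A, hQ, hA, hr⟩ := hP
  have hc := card_of_profile hr
  rw [sum_partsOf, hsum] at hc
  let e0 : Fin n ≃ ι := Fintype.equivOfCardEq (by simp [hc])
  let L : (Fin n → F) ≃ₗ[F] (ι → F) := LinearEquiv.funCongrLeft F F e0.symm
  let Q' : QuadraticForm F (Fin n → F) := Q.comp L.toLinearMap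
  have hp : ∀ x y, QuadraticMap.polar Q' x y = QuadraticMap.polar Q (L x) (L y) := fun x y => by
    simp [Q', QuadraticMap.polar, QuadraticMap.comp_apply]
  have hnd : (QuadraticMap.polarBilin Q').Nondegenerate := nondegenerate_of_right _ fun x hx =>
    L.map_eq_zero_iff.1 (hQ.1 _ fun y => by
      have := hx (L.symm y)
      rw [hp, L.apply_symm_apply] at this
      exact this)
  set A' := A.submatrix e0 e0 with hA'
  have hr' : ∀ j, ((A' - 1) ^ j).rank = partProfile (partsOf d) j := fun j => by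
    rw [hA', rank_sub_one_pow_submatrix, hr]
  have hu : IsUnit A' := by
    have := (nilpotent_of_profile hr').isUnit_add_one
    rwa [sub_add_cancel] at this
  have hiso : ∀ v, Q' (A' *ᵥ v) = Q' v := by
    intro v
    show Q (L (A' *ᵥ v)) = Q (L v)
    rw [show L (A' *ᵥ v) = A *ᵥ L v from ?_, hA]
    rw [hA', submatrix_mulVec_equiv]
    funext i
    simp [L, LinearMap.funLeft, Function.comp_def]
  let e := Fintype.equivOfCardEq (show Fintype.card ((k : Fin t) × Fin (d k)) = Fintype.card (Fin n) by simp [hsum])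
  refine ⟨Q', hnd, e, ⟨hu.unit, fun u _ => hiso u⟩, ?_⟩
  refine isConj_of_rank (μ := partsOf d) (fun j => ?_) (fun j => ?_)
  · rw [Matrix.reindex_apply, rank_sub_one_pow_submatrix, jordan_profile d hd]
  · exact hr' j

theorem polar_invariant {n : ℕ} {Q : QuadraticForm F (Fin n → F)} (A : ↥(Cfsg.isometryGroup F ⇑Q))
    (x y : Fin n → F) :
    QuadraticMap.polar Q (((A : Matrix.GeneralLinearGroup (Fin n) F) : Matrix (Fin n) (Fin n) F) *ᵥ x)
      (((A : Matrix.GeneralLinearGroup (Fin n) F) : Matrix (Fin n) (Fin n) F) *ᵥ y) = QuadraticMap.polar Q x y := by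
  have h : ∀ w, Q (((A : Matrix.GeneralLinearGroup (Fin n) F) : Matrix (Fin n) (Fin n) F) *ᵥ w) = Q w :=
    fun w => A.2 w w
  simp only [QuadraticMap.polar, ← Matrix.mulVec_add, h]

theorem orth_odd_iff (h2 : (2 : F) ≠ 0) {n : ℕ} (d : Fin t → ℕ) (hd : ∀ k, 1 ≤ d k) (hsum : ∑ k, d k = n) :
    (∃ Q : QuadraticForm F (Fin n → F), (QuadraticMap.polarBilin Q).Nondegenerate ∧
      ∃ e : ((k : Fin t) × Fin (d k)) ≃ Fin n, ∃ A : ↥(Cfsg.isometryGroup F ⇑Q),
        IsConj (Matrix.reindex e e (Cfsg.jordanTypeMatrix d F))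
          ((A : Matrix.GeneralLinearGroup (Fin n) F) : Matrix (Fin n) (Fin n) F)) ↔
    ∀ j : ℕ, Even j → 0 < j → Even (Finset.univ.filter (fun k : Fin t => d k = j)).card := by
  constructor
  · rintro ⟨Q, hQ, e, A, hA⟩ j hj hj0
    rw [← count_partsOf]
    refine even_count_symm h2 hQ ⟨fun x y => QuadraticMap.polar_comm Q x y⟩
      ((A : Matrix.GeneralLinearGroup (Fin n) F) : Matrix (Fin n) (Fin n) F).mulVecLin
      (fun x y => polar_invariant A x y) ?_ (fun k => ?_) j hj hj0
    · obtain ⟨N, hN⟩ := nilpotent_of_profile (profile_of_isConj hd e hA)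
      exact ⟨N, by rw [pow_mulVecLin, hN, Matrix.mulVecLin_zero]⟩
    · rw [pow_mulVecLin]
      exact profile_of_isConj hd e hA k
  · intro h
    refine exists_isometry_of_hasQ d hd hsum (partition_induction (G := fun a => Odd a) hasQ_zero
      (fun _ _ => HasQ.add) hasQ_pair (fun a ha => hasQ_odd h2 ha) _ (fun e he => ?_))
    rcases Nat.eq_zero_or_pos e with rfl | he0
    · rw [count_partsOf_zero d hd]; exact Even.zero
    · rw [count_partsOf]
      exact h e (Nat.not_odd_iff_even.1 he) he0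

theorem orth_two_iff [CharP F 2] {n : ℕ} (d : Fin t → ℕ) (hd : ∀ k, 1 ≤ d k) (hsum : ∑ k, d k = n) :
    (∃ Q : QuadraticForm F (Fin n → F), (QuadraticMap.polarBilin Q).Nondegenerate ∧
      ∃ e : ((k : Fin t) × Fin (d k)) ≃ Fin n, ∃ A : ↥(Cfsg.isometryGroup F ⇑Q),
        IsConj (Matrix.reindex e e (Cfsg.jordanTypeMatrix d F))
          ((A : Matrix.GeneralLinearGroup (Fin n) F) : Matrix (Fin n) (Fin n) F)) ↔
    ∀ j : ℕ, Odd j → Even (Finset.univ.filter (fun k : Fin t => d k = j)).card := by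
  constructor
  · rintro ⟨Q, hQ, e, A, hA⟩ j hj
    rw [← count_partsOf]
    refine even_count_alt hQ (fun x => ?_)
      ((A : Matrix.GeneralLinearGroup (Fin n) F) : Matrix (Fin n) (Fin n) F).mulVecLin
      (fun x y => polar_invariant A x y) (fun k => ?_) j hj
    · show QuadraticMap.polar Q x x = 0
      rw [QuadraticMap.polar_self, two_nsmul, CharTwo.add_self_eq_zero]
    · rw [pow_mulVecLin]
      exact profile_of_isConj hd e hA k
  · intro h
    refine exists_isometry_of_hasQ d hd hsum (partition_induction (G := fun a => Even a ∧ 0 < a) hasQ_zero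
      (fun _ _ => HasQ.add) hasQ_pair (fun a ha => ?_) _ (fun e he => ?_))
    · obtain ⟨⟨b, rfl⟩, hb⟩ := ha
      rw [← two_mul]
      exact hasQ_even_char2 (by omega)
    · rcases Nat.eq_zero_or_pos e with rfl | he0
      · rw [count_partsOf_zero d hd]; exact Even.zero
      · rw [count_partsOf]
        exact h e (Nat.not_even_iff_odd.1 fun h => he ⟨h, he0⟩)

end Cfsg.Agent.JordanForm57
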