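import Mathlib
import Cfsg.Prelude.Def_JordanBlocks
import Cfsg.Agent.Lib.Maximal99.RankProfile

/-!
Jordan chains of a nilpotent endomorphism: existence, rank profile, conjugacy.
-/

set_option autoImplicit false
set_option linter.unusedSectionVars false

namespace Cfsg.Agent.Jordan57

open Module CfsgLib.RankProfile

variable {F : Type*} [Field F] {V : Type*} [AddCommGroup V] [Module F V]

/-- A basis made of chains `gen k, f (gen k), …, f^(d k - 1) (gen k)`. -/
structure Chains (f : End F V) where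
  /-- the number of chains -/
  r : ℕ
  /-- their lengths -/
  d : Fin r → ℕ
  pos : ∀ k, 0 < d k
  /-- their first vectors -/
  gen : Fin r → V
  gen_zero : ∀ k, (f ^ d k) (gen k) = 0
  /-- the basis -/
  b : Basis ((k : Fin r) × Fin (d k)) F V
  b_apply : ∀ s, b s = (f ^ (s.2 : ℕ)) (gen s.1)

/-- The multiset of chain lengths. -/
def Chains.parts {f : End F V} (C : Chains f) : Multiset ℕ := Finset.univ.val.map C.d

theorem exists_chains [FiniteDimensional F V] {f : End F V} (hf : IsNilpotent f) :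
    Nonempty (Chains f) := by
  induction' hn : finrank F V using Nat.strong_induction_on with n ih generalizing V
  rcases Nat.eq_zero_or_pos n with h0 | h0
  · subst h0
    haveI : Subsingleton V := Module.finrank_zero_iff.1 hn
    exact ⟨{ r := 0, d := Fin.elim0, pos := fun k => k.elim0, gen := Fin.elim0,
             gen_zero := fun k => k.elim0,
             b := Basis.empty V,
             b_apply := fun s => s.1.elim0 }⟩
  haveI : Nontrivial V := Module.finrank_pos_iff.1 (hn ▸ h0 : 0 < finrank F V)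
  set m := nilpotencyClass f with hm
  have hm1 : 0 < m := pos_nilpotencyClass_iff.2 hf
  have hfm : f ^ m = 0 := pow_nilpotencyClass hf
  obtain ⟨v, hv⟩ : ∃ v, (f ^ (m - 1)) v ≠ 0 := by
    by_contra h
    push Not at h
    exact pow_pred_nilpotencyClass hf (LinearMap.ext h)
  obtain ⟨φ, hφ⟩ : ∃ φ : Dual F V, φ ((f ^ (m - 1)) v) ≠ 0 := by
    by_contra h
    push Not at h
    exact hv ((Module.forall_dual_apply_eq_zero_iff F _).1 h)
  let Ψ : V →ₗ[F] (Fin m → F) := LinearMap.pi fun j : Fin m => φ.comp (f ^ (j : ℕ))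
  let W := LinearMap.ker Ψ
  have hW : ∀ x ∈ W, f x ∈ W := by
    intro x hx
    refine LinearMap.mem_ker.2 (funext fun j => ?_)
    show φ ((f ^ (j : ℕ)) (f x)) = 0
    rw [← Module.End.mul_apply, ← pow_succ]
    by_cases hj : (j : ℕ) + 1 < m
    · exact congrFun (LinearMap.mem_ker.1 hx) ⟨_, hj⟩
    · rw [pow_eq_zero_of_le (not_lt.1 hj) hfm, LinearMap.zero_apply, map_zero]
  have hvW : v ∉ W := fun h => hφ (congrFun (LinearMap.mem_ker.1 h) ⟨m - 1, by omega⟩)
  have hWlt : finrank F W < n := hn ▸ Submodule.finrank_lt fun h => hvW (h ▸ Submodule.mem_top)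
  have hfW : IsNilpotent (f.restrict hW) := ⟨m, by
    rw [Module.End.pow_restrict m]
    ext x
    simp [hfm]⟩
  obtain ⟨C⟩ := ih _ hWlt hfW rfl
  let d' : Fin (C.r + 1) → ℕ := Fin.cons m C.d
  let gen' : Fin (C.r + 1) → V := Fin.cons v (fun k => (C.gen k : V))
  let fam : ((k : Fin (C.r + 1)) × Fin (d' k)) → V := fun s => (f ^ (s.2 : ℕ)) (gen' s.1)
  have hli : LinearIndependent F fam := by
    rw [Fintype.linearIndependent_iff]
    intro g hg
    rw [Fintype.sum_sigma, Fin.sum_univ_succ] at hg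
    have hCb : ∀ s : (k : Fin C.r) × Fin (C.d k), ((C.b s : W) : V) = (f ^ (s.2 : ℕ)) (C.gen s.1 : V) := by
      intro s
      rw [C.b_apply, Module.End.pow_restrict]
      rfl
    let w : W := ∑ k : Fin C.r, ∑ i : Fin (C.d k), g ⟨k.succ, i⟩ • C.b ⟨k, i⟩
    have hw : (w : V) = ∑ k : Fin C.r, ∑ i : Fin (d' k.succ), g ⟨k.succ, i⟩ • fam ⟨k.succ, i⟩ := by
      simp only [w, Submodule.coe_sum, Submodule.coe_smul, hCb]
      rfl
    rw [← hw] at hg
    have h1 : ∀ i : Fin m, g ⟨0, i⟩ = 0 := by
      intro i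
      induction' hi : (i : ℕ) using Nat.strong_induction_on with a iha generalizing i
      subst hi
      have h2 := congrFun (congrArg Ψ hg) ⟨m - 1 - (i : ℕ), by omega⟩
      rw [map_add, LinearMap.mem_ker.1 w.2, add_zero, map_zero, map_sum, Finset.sum_apply,
        Pi.zero_apply] at h2
      have hz : ∀ j : Fin (d' 0), j ≠ (i : Fin (d' 0)) →
          Ψ (g ⟨0, j⟩ • fam ⟨0, j⟩) ⟨m - 1 - (i : ℕ), by omega⟩ = 0 := by
        intro j hj
        rcases lt_or_gt_of_ne (Fin.val_ne_of_ne hj) with hlt | hgt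
        · rw [show g ⟨0, j⟩ = 0 from iha (j : ℕ) hlt (j : Fin m) rfl, zero_smul, map_zero]
          rfl
        · show Ψ (g ⟨0, j⟩ • (f ^ (j : ℕ)) v) _ = 0
          rw [map_smul, Pi.smul_apply]
          show g ⟨0, j⟩ • φ ((f ^ (m - 1 - (i : ℕ))) ((f ^ (j : ℕ)) v)) = 0
          rw [← Module.End.mul_apply, ← pow_add, pow_eq_zero_of_le (by omega) hfm, LinearMap.zero_apply,
            map_zero, smul_zero]
      have h4 := (Fintype.sum_eq_single (i : Fin (d' 0)) hz).symm.trans h2
      rw [map_smul, Pi.smul_apply, smul_eq_mul] at h4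
      refine (mul_eq_zero.1 h4).resolve_right ?_
      show φ ((f ^ (m - 1 - (i : ℕ))) ((f ^ (i : ℕ)) v)) ≠ 0
      rwa [← Module.End.mul_apply, ← pow_add, show m - 1 - (i : ℕ) + i = m - 1 by omega]
    rw [Finset.sum_eq_zero (fun i _ => by rw [h1 i, zero_smul]), zero_add] at hg
    have hw0 : ∑ s : (k : Fin C.r) × Fin (C.d k), g ⟨s.1.succ, s.2⟩ • C.b s = 0 := by
      rw [Fintype.sum_sigma]
      exact Subtype.ext hg
    have h3 := Fintype.linearIndependent_iff.1 C.b.linearIndependent _ hw0
    rintro ⟨k, i⟩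
    induction k using Fin.cases with
    | zero => exact h1 i
    | succ k => exact h3 ⟨k, i⟩
  have hcard : Fintype.card ((k : Fin (C.r + 1)) × Fin (d' k)) = finrank F V := by
    have h1 : Fintype.card ((k : Fin (C.r + 1)) × Fin (d' k)) = m + finrank F W := by
      rw [Module.finrank_eq_card_basis C.b]
      simp [d', Fintype.card_sigma, Fin.sum_univ_succ]
    have h2 := hli.fintype_card_le_finrank
    have h3 := Ψ.finrank_range_add_finrank_ker
    have h4 : finrank F (LinearMap.range Ψ) ≤ m := (Submodule.finrank_le _).trans (le_of_eq (Module.finrank_fin_fun F))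
    have h5 : finrank F (LinearMap.ker Ψ) = finrank F W := rfl
    omega
  haveI : Nonempty ((k : Fin (C.r + 1)) × Fin (d' k)) := ⟨⟨0, ⟨0, hm1⟩⟩⟩
  exact ⟨{
    r := C.r + 1
    d := d'
    pos := Fin.cases hm1 C.pos
    gen := gen'
    gen_zero := by
      refine Fin.cases ?_ (fun k => ?_)
      · show (f ^ m) v = 0
        rw [hfm, LinearMap.zero_apply]
      · show (f ^ C.d k) (C.gen k : V) = 0
        have := congrArg Subtype.val (C.gen_zero k)
        rwa [Module.End.pow_restrict] at this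
    b := basisOfLinearIndependentOfCardEqFinrank hli hcard
    b_apply := fun s => congrFun (coe_basisOfLinearIndependentOfCardEqFinrank hli hcard) s }⟩

variable {f : End F V} (C : Chains f)

theorem Chains.pow_b (j : ℕ) (s : (k : Fin C.r) × Fin (C.d k)) :
    (f ^ j) (C.b s) = if h : (s.2 : ℕ) + j < C.d s.1 then C.b ⟨s.1, ⟨(s.2 : ℕ) + j, h⟩⟩ else 0 := by
  rw [C.b_apply, ← Module.End.mul_apply, ← pow_add]
  split_ifs with h
  · rw [C.b_apply, add_comm]
  · obtain ⟨e, he⟩ := Nat.exists_eq_add_of_le (not_lt.1 h)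
    rw [show j + (s.2 : ℕ) = e + C.d s.1 by omega, pow_add, Module.End.mul_apply, C.gen_zero, map_zero]

theorem Chains.finrank_range_pow (j : ℕ) :
    finrank F (LinearMap.range (f ^ j)) = partProfile C.parts j := by
  let P : ((k : Fin C.r) × Fin (C.d k)) → Prop := fun s => j ≤ (s.2 : ℕ)
  have hspan : LinearMap.range (f ^ j) = Submodule.span F (Set.range fun s : Subtype P => C.b s.1) := by
    refine le_antisymm ?_ (Submodule.span_le.2 ?_)
    · rw [LinearMap.range_eq_map, ← C.b.span_eq, Submodule.map_span, Submodule.span_le]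
      rintro _ ⟨_, ⟨s, rfl⟩, rfl⟩
      rw [C.pow_b]
      split_ifs with h
      · exact Submodule.subset_span ⟨⟨⟨s.1, ⟨_, h⟩⟩, Nat.le_add_left _ _⟩, rfl⟩
      · exact zero_mem _
    · rintro _ ⟨⟨s, hs⟩, rfl⟩
      refine ⟨(f ^ ((s.2 : ℕ) - j)) (C.gen s.1), ?_⟩
      rw [← Module.End.mul_apply, ← pow_add, Nat.add_sub_cancel' hs]
      exact (C.b_apply s).symm
  have hli : LinearIndependent F (fun s : Subtype P => C.b s.1) :=
    C.b.linearIndependent.comp _ Subtype.val_injective
  rw [hspan, finrank_span_eq_card hli, Chains.parts, partProfile, Multiset.map_map]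
  show _ = ∑ k, (C.d k - j)
  rw [Fintype.card_subtype, show (Finset.univ.filter P) = Finset.univ.sigma
    (fun k => Finset.univ.filter fun i : Fin (C.d k) => j ≤ (i : ℕ)) by ext ⟨k, i⟩; simp [P], Finset.card_sigma]
  refine Finset.sum_congr rfl fun k _ => ?_
  have h := Fin.card_filter_val_lt (n := C.d k) (m := j)
  have h2 := Finset.card_filter_add_card_filter_not (s := (Finset.univ : Finset (Fin (C.d k))))
    (fun i => (i : ℕ) < j)
  simp only [not_lt, Finset.card_univ, Fintype.card_fin] at h2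
  omega

theorem Chains.parts_pos : ∀ a ∈ C.parts, 0 < a := by
  intro a ha
  obtain ⟨k, -, rfl⟩ := Multiset.mem_map.1 ha
  exact C.pos k

theorem parts_eq_of_profile {μ ν : Multiset ℕ} (hμ : ∀ a ∈ μ, 0 < a) (hν : ∀ a ∈ ν, 0 < a)
    (h : ∀ k, partProfile μ k = partProfile ν k) : μ = ν := by
  refine Multiset.ext.2 fun a => ?_
  cases a with
  | zero =>
    rw [Multiset.count_eq_zero_of_notMem (fun h => (hμ 0 h).false),
      Multiset.count_eq_zero_of_notMem (fun h => (hν 0 h).false)]
  | succ a =>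
    have h1 := count_partProfile μ a
    have h2 := count_partProfile ν a
    rw [h, h, h] at h1
    omega

variable {W : Type*} [AddCommGroup W] [Module F W] {g : End F W}

theorem exists_conj_of_parts_eq (D : Chains g) (h : C.parts = D.parts) :
    ∃ T : V ≃ₗ[F] W, T.toLinearMap.comp f = g.comp T.toLinearMap := by
  classical
  have hcard : ∀ a, Fintype.card {k // C.d k = a} = Fintype.card {k // D.d k = a} := by
    intro a
    have := congrArg (Multiset.count a) h
    simp only [Chains.parts, Multiset.count_map] at this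
    rw [Fintype.card_subtype, Fintype.card_subtype]
    simpa [Finset.card, Finset.filter_val, eq_comm] using this
  let σ : Fin C.r ≃ Fin D.r := Equiv.ofFiberEquiv (fun a => Fintype.equivOfCardEq (hcard a))
  have hσ : ∀ k, D.d (σ k) = C.d k := fun k => Equiv.ofFiberEquiv_map _ k
  let e : ((k : Fin C.r) × Fin (C.d k)) ≃ ((k : Fin D.r) × Fin (D.d k)) :=
    Equiv.sigmaCongr σ (fun k => finCongr (hσ k).symm)
  refine ⟨C.b.equiv D.b e, C.b.ext fun s => ?_⟩
  have key : ∀ (j : ℕ), (g ^ j) (D.b (e s)) = if h : (s.2 : ℕ) + j < C.d s.1 then D.b (e ⟨s.1, ⟨_, h⟩⟩) else 0 := by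
    intro j
    rw [D.pow_b]
    have hlen : D.d (e s).1 = C.d s.1 := hσ s.1
    have hpos : ((e s).2 : ℕ) = (s.2 : ℕ) := rfl
    by_cases h : (s.2 : ℕ) + j < C.d s.1
    · rw [dif_pos h, dif_pos (by omega)]
      rfl
    · rw [dif_neg h, dif_neg (by omega)]
  rw [LinearMap.comp_apply, LinearMap.comp_apply, LinearEquiv.coe_coe, Basis.equiv_apply,
    ← show (f ^ 1) (C.b s) = f (C.b s) by rw [pow_one], C.pow_b,
    ← show (g ^ 1) (D.b (e s)) = g (D.b (e s)) by rw [pow_one], key]
  split_ifs with h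
  · rw [Basis.equiv_apply]
  · rw [map_zero]

theorem conj_of_profile [FiniteDimensional F V] [FiniteDimensional F W] (hf : IsNilpotent f) (hg : IsNilpotent g)
    (h : ∀ j, finrank F (LinearMap.range (f ^ j)) = finrank F (LinearMap.range (g ^ j))) :
    ∃ T : V ≃ₗ[F] W, T.toLinearMap.comp f = g.comp T.toLinearMap := by
  obtain ⟨C⟩ := exists_chains hf
  obtain ⟨D⟩ := exists_chains hg
  exact exists_conj_of_parts_eq C D (parts_eq_of_profile C.parts_pos D.parts_pos fun k => by
    rw [← C.finrank_range_pow, h, D.finrank_range_pow])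

section Matrix

variable {t : ℕ} (d : Fin t → ℕ)

/-- The nilpotent part of the Jordan matrix of type `d`. -/
noncomputable def jordanN (F : Type*) [Field F] : End F (((k : Fin t) × Fin (d k)) → F) :=
  Matrix.mulVecLin (Cfsg.jordanTypeMatrix d F - 1)

theorem jordanN_single (s : (k : Fin t) × Fin (d k)) :
    jordanN d F (Pi.single s 1) = if h : (s.2 : ℕ) + 1 < d s.1 then Pi.single ⟨s.1, ⟨_, h⟩⟩ 1 else 0 := by
  obtain ⟨k, i⟩ := s
  funext ⟨l, j⟩
  rw [jordanN, Matrix.mulVecLin_apply, Matrix.mulVec_single_one]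
  show (Matrix.blockDiagonal' (fun k => Cfsg.jordanBlock (d k) F) - 1) ⟨l, j⟩ ⟨k, i⟩ = _
  rw [Matrix.sub_apply]
  by_cases hl : l = k
  · subst hl
    rw [Matrix.blockDiagonal'_apply_eq]
    simp only [Cfsg.jordanBlock, Matrix.of_apply, Matrix.one_apply, Sigma.mk.injEq, heq_eq_eq, true_and]
    by_cases hji : j = i
    · subst hji
      rw [if_pos rfl, if_pos rfl, sub_self]
      split_ifs with h <;> simp [Pi.single_apply, Fin.ext_iff]
    · have hji' : (j : ℕ) ≠ i := Fin.val_ne_of_ne hji
      rw [if_neg hji', if_neg hji, sub_zero]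
      split_ifs with h h2 <;> simp [Pi.single_apply, Fin.ext_iff] <;> omega
  · rw [Matrix.blockDiagonal'_apply_ne _ _ _ hl, Matrix.one_apply_ne (by simp [hl])]
    split_ifs with h <;> simp [hl]

theorem jordanN_pow_single (k : Fin t) (hk : 0 < d k) (j : ℕ) :
    (jordanN d F ^ j) (Pi.single ⟨k, ⟨0, hk⟩⟩ 1) = if h : j < d k then Pi.single ⟨k, ⟨j, h⟩⟩ 1 else 0 := by
  induction j with
  | zero => rw [dif_pos hk]; rfl
  | succ j ih =>
    rw [pow_succ', Module.End.mul_apply, ih]
    split_ifs with h h' h'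
    · rw [jordanN_single, dif_pos h']
    · rw [jordanN_single, dif_neg h']
    · omega
    · rw [map_zero]

/-- The standard chains of a Jordan matrix. -/
noncomputable def jordanChains (hd : ∀ k, 0 < d k) : Chains (jordanN d F) where
  r := t
  d := d
  pos := hd
  gen k := Pi.single ⟨k, ⟨0, hd k⟩⟩ 1
  gen_zero k := by rw [jordanN_pow_single, dif_neg (lt_irrefl _)]
  b := Pi.basisFun F _
  b_apply s := by rw [jordanN_pow_single, dif_pos s.2.isLt, Pi.basisFun_apply]

theorem jordanN_isNilpotent (hd : ∀ k, 0 < d k) : IsNilpotent (jordanN d F) := by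
  refine ⟨∑ k, d k, (Pi.basisFun F _).ext fun s => ?_⟩
  have h := Chains.pow_b (jordanChains (F := F) d hd) (∑ k, d k) s
  have hle : d s.1 ≤ ∑ k, d k := Finset.single_le_sum (f := d) (fun k _ => Nat.zero_le _) (Finset.mem_univ s.1)
  have hneg : ¬ (s.2 : ℕ) + (∑ k, d k) < (jordanChains (F := F) d hd).d s.1 := by
    show ¬ _ < d s.1
    omega
  rw [dif_neg hneg] at h
  exact h.trans (LinearMap.zero_apply _).symm

end Matrix

end Cfsg.Agent.Jordan57
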