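import Mathlib

/-!
Homomorphisms out of `Sym(3)` and `Sym(4)` given by generators and relations.
-/

set_option autoImplicit false
set_option linter.unusedSectionVars false

namespace Cfsg.Agent.OctahedralHom57

variable {G : Type*} [Group G]

theorem pow_val_add {R : G} (h : R ^ 3 = 1) (i j : ZMod 3) : R ^ (i + j).val = R ^ i.val * R ^ j.val := by
  rw [← pow_add, ZMod.val_add]
  conv_rhs => rw [← Nat.mod_add_div (i.val + j.val) 3, pow_add, pow_mul, h, one_pow, mul_one]

/-- the homomorphism from the dihedral group of order six -/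
def dihHom3 (R A : G) (h3 : R ^ 3 = 1) (hA : A * A = 1) (hc : A * R * A = R⁻¹) : DihedralGroup 3 →* G where
  toFun
    | .r i => R ^ i.val
    | .sr i => A * R ^ i.val
  map_one' := by
    show R ^ (0 : ZMod 3).val = 1
    simp
  map_mul' := by
    have hcon : ∀ i : ZMod 3, R ^ i.val * A = A * R ^ (-i).val := by
      intro i
      have h1 : A * R ^ (-i).val * A = (R⁻¹) ^ (-i).val := by
        rw [← hc]
        induction (-i).val with
        | zero => simp [hA]
        | succ n ih =>
          rw [pow_succ (A * R * A), ← ih, pow_succ]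
          simp only [mul_assoc]
          rw [← mul_assoc A A, hA, one_mul]
      have h2 : (R⁻¹) ^ (-i).val = R ^ i.val := by
        rw [inv_pow, inv_eq_iff_mul_eq_one, ← pow_val_add h3, neg_add_cancel]
        simp
      rw [← h2, ← h1, mul_assoc, hA, mul_one]
    intro x y
    rcases x with i | i <;> rcases y with j | j <;>
      simp only [DihedralGroup.r_mul_r, DihedralGroup.r_mul_sr, DihedralGroup.sr_mul_r,
        DihedralGroup.sr_mul_sr]
    · exact pow_val_add h3 i j
    · rw [← mul_assoc, hcon, mul_assoc, ← pow_val_add h3, neg_add_eq_sub]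
    · rw [mul_assoc, ← pow_val_add h3]
    · rw [mul_assoc, ← mul_assoc (R ^ i.val), hcon, ← mul_assoc, ← mul_assoc, hA, one_mul,
        ← pow_val_add h3, neg_add_eq_sub]

theorem dihHom3_r {R A : G} (h3 : R ^ 3 = 1) (hA : A * A = 1) (hc : A * R * A = R⁻¹) :
    dihHom3 R A h3 hA hc (DihedralGroup.r 1) = R := by
  show R ^ (1 : ZMod 3).val = R
  rw [show (1 : ZMod 3).val = 1 from rfl, pow_one]

theorem dihHom3_sr {R A : G} (h3 : R ^ 3 = 1) (hA : A * A = 1) (hc : A * R * A = R⁻¹) :
    dihHom3 R A h3 hA hc (DihedralGroup.sr 0) = A := by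
  show A * R ^ (0 : ZMod 3).val = A
  simp

/-- Generators and relations of `Sym(3)`. -/
theorem exists_perm3_hom {R A : G} (h3 : R ^ 3 = 1) (hA : A * A = 1) (hc : A * R * A = R⁻¹) :
    ∃ θ : Equiv.Perm (Fin 3) →* G, R ∈ θ.range ∧ A ∈ θ.range ∧
      ∀ z, Commute z R → Commute z A → ∀ x, Commute z (θ x) := by
  let ψ : DihedralGroup 3 →* Equiv.Perm (Fin 3) :=
    dihHom3 (Equiv.swap 0 1 * Equiv.swap 1 2) (Equiv.swap 0 1) (by decide) (by decide) (by decide)
  have hψ : Function.Bijective ψ := by
    refine (Fintype.bijective_iff_injective_and_card ψ).2 ⟨?_, ?_⟩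
    · have key : ∀ x y : DihedralGroup 3, ψ x = ψ y → x = y := by decide
      exact fun x y => key x y
    · rw [DihedralGroup.card, Fintype.card_perm, Fintype.card_fin]; rfl
  let e := MulEquiv.ofBijective ψ hψ
  refine ⟨(dihHom3 R A h3 hA hc).comp e.symm.toMonoidHom, ⟨e (.r 1), ?_⟩, ⟨e (.sr 0), ?_⟩, ?_⟩
  · show dihHom3 R A h3 hA hc (e.symm (e _)) = R
    rw [MulEquiv.symm_apply_apply, dihHom3_r]
  · show dihHom3 R A h3 hA hc (e.symm (e _)) = A
    rw [MulEquiv.symm_apply_apply, dihHom3_sr]
  · intro z h1 h2 x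
    show Commute z (dihHom3 R A h3 hA hc (e.symm x))
    rcases e.symm x with i | i
    · exact h1.pow_right _
    · exact h2.mul_right (h1.pow_right _)

/-- the four-group -/
abbrev K4 : Type := Multiplicative (ZMod 2) × Multiplicative (ZMod 2)

/-- a homomorphism out of the four-group -/
def k4Hom (a b : G) (ha : a * a = 1) (hb : b * b = 1) (hab : a * b = b * a) : K4 →* G where
  toFun p := a ^ (Multiplicative.toAdd p.1).val * b ^ (Multiplicative.toAdd p.2).val
  map_one' := by simp
  map_mul' p q := by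
    have key : ∀ (c : G), c * c = 1 → ∀ i j : ZMod 2, c ^ (i + j).val = c ^ i.val * c ^ j.val := by
      intro c hc i j
      rw [← pow_add, ZMod.val_add]
      conv_rhs => rw [← Nat.mod_add_div (i.val + j.val) 2, pow_add, pow_mul, pow_two, hc, one_pow, mul_one]
    show a ^ (Multiplicative.toAdd p.1 + Multiplicative.toAdd q.1).val *
      b ^ (Multiplicative.toAdd p.2 + Multiplicative.toAdd q.2).val = _
    rw [key a ha, key b hb]
    exact ((show Commute a b from hab).pow_pow _ _).mul_mul_mul_comm _ _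

theorem k4_cases : ∀ p : K4, p = 1 ∨ p = (Multiplicative.ofAdd 1, 1) ∨ p = (1, Multiplicative.ofAdd 1) ∨
    p = (Multiplicative.ofAdd 1, Multiplicative.ofAdd 1) := by decide

theorem k4_hom_ext {f g : K4 →* G} (h1 : f (Multiplicative.ofAdd 1, 1) = g (Multiplicative.ofAdd 1, 1))
    (h2 : f (1, Multiplicative.ofAdd 1) = g (1, Multiplicative.ofAdd 1)) : f = g := by
  refine MonoidHom.ext fun p => ?_
  rcases k4_cases p with rfl | rfl | rfl | rfl
  · rw [map_one, map_one]
  · exact h1
  · exact h2
  · rw [show ((Multiplicative.ofAdd 1, Multiplicative.ofAdd 1) : K4) =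
      (Multiplicative.ofAdd 1, 1) * (1, Multiplicative.ofAdd 1) by decide, map_mul, map_mul, h1, h2]

/-- `(x, y) ↦ (y, x + y)` -/
def rotV : MulAut K4 where
  toFun p := (p.2, p.1 * p.2)
  invFun p := (p.2 * p.1, p.1)
  left_inv := by unfold Function.LeftInverse; decide
  right_inv := by unfold Function.RightInverse Function.LeftInverse; decide
  map_mul' := by decide

/-- `(x, y) ↦ (x + y, y)` -/
def refV : MulAut K4 where
  toFun p := (p.1 * p.2, p.2)
  invFun p := (p.1 * p.2, p.2)
  left_inv := by unfold Function.LeftInverse; decide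
  right_inv := by unfold Function.RightInverse Function.LeftInverse; decide
  map_mul' := by decide

/-- the action of `Sym(3)` on the four-group -/
def actV : DihedralGroup 3 →* MulAut K4 :=
  dihHom3 rotV refV (MulEquiv.ext (by decide)) (MulEquiv.ext (by decide)) (MulEquiv.ext (by decide))

/-- the generators satisfy the relations of `Sym(4)` -/
structure Oct (a b R A : G) : Prop where
  ha : a * a = 1
  hb : b * b = 1
  hab : a * b = b * a
  h3 : R ^ 3 = 1
  hA : A * A = 1
  hc : A * R * A = R⁻¹
  hRa : R * a * R⁻¹ = b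
  hRb : R * b * R⁻¹ = a * b
  hAa : A * a * A = a
  hAb : A * b * A = a * b

theorem k4_a {a b : G} (ha : a * a = 1) (hb : b * b = 1) (hab : a * b = b * a) :
    k4Hom a b ha hb hab (Multiplicative.ofAdd 1, 1) = a := by
  show a ^ (1 : ZMod 2).val * b ^ (0 : ZMod 2).val = a
  rw [show (1 : ZMod 2).val = 1 from rfl, show (0 : ZMod 2).val = 0 from rfl, pow_one, pow_zero, mul_one]

theorem k4_b {a b : G} (ha : a * a = 1) (hb : b * b = 1) (hab : a * b = b * a) :
    k4Hom a b ha hb hab (1, Multiplicative.ofAdd 1) = b := by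
  show a ^ (0 : ZMod 2).val * b ^ (1 : ZMod 2).val = b
  rw [show (1 : ZMod 2).val = 1 from rfl, show (0 : ZMod 2).val = 0 from rfl, pow_one, pow_zero, one_mul]

theorem k4_ab {a b : G} (ha : a * a = 1) (hb : b * b = 1) (hab : a * b = b * a) :
    k4Hom a b ha hb hab (Multiplicative.ofAdd 1, Multiplicative.ofAdd 1) = a * b := by
  show a ^ (1 : ZMod 2).val * b ^ (1 : ZMod 2).val = a * b
  rw [show (1 : ZMod 2).val = 1 from rfl, pow_one, pow_one]

theorem Oct.compat {a b R A : G} (h : Oct a b R A) (g : DihedralGroup 3) (p : K4) :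
    k4Hom a b h.ha h.hb h.hab (actV g p) =
      dihHom3 R A h.h3 h.hA h.hc g * k4Hom a b h.ha h.hb h.hab p * (dihHom3 R A h.h3 h.hA h.hc g)⁻¹ := by
  set v := k4Hom a b h.ha h.hb h.hab
  set κ := dihHom3 R A h.h3 h.hA h.hc
  let H : Subgroup (DihedralGroup 3) :=
    { carrier := {g | ∀ p, v (actV g p) = κ g * v p * (κ g)⁻¹}
      one_mem' := fun p => by simp
      mul_mem' := fun {g g'} hg hg' p => by
        rw [map_mul, map_mul, MulAut.mul_apply, hg, hg', _root_.mul_inv_rev]
        simp only [mul_assoc]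
      inv_mem' := fun {g} hg p => by
        obtain ⟨q, rfl⟩ := (actV g).surjective p
        rw [map_inv, MulAut.inv_apply_self, map_inv, hg q]
        group }
  have hAinv : A⁻¹ = A := inv_eq_of_mul_eq_one_right h.hA
  have hr : DihedralGroup.r (1 : ZMod 3) ∈ H := fun p => by
    have e : v.comp (actV (DihedralGroup.r 1)).toMonoidHom = (MulAut.conj (κ (DihedralGroup.r 1))).toMonoidHom.comp v := by
      refine k4_hom_ext ?_ ?_
      · show v (actV (DihedralGroup.r 1) (Multiplicative.ofAdd 1, 1)) = κ _ * v _ * (κ _)⁻¹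
        rw [show actV (DihedralGroup.r 1) (Multiplicative.ofAdd 1, 1) = ((1, Multiplicative.ofAdd 1) : K4) by decide,
          k4_b, k4_a, dihHom3_r, h.hRa]
      · show v (actV (DihedralGroup.r 1) (1, Multiplicative.ofAdd 1)) = κ _ * v _ * (κ _)⁻¹
        rw [show actV (DihedralGroup.r 1) (1, Multiplicative.ofAdd 1) =
            ((Multiplicative.ofAdd 1, Multiplicative.ofAdd 1) : K4) by decide,
          k4_ab, k4_b, dihHom3_r, h.hRb]
    exact DFunLike.congr_fun e p
  have hs : DihedralGroup.sr (0 : ZMod 3) ∈ H := fun p => by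
    have e : v.comp (actV (DihedralGroup.sr 0)).toMonoidHom = (MulAut.conj (κ (DihedralGroup.sr 0))).toMonoidHom.comp v := by
      refine k4_hom_ext ?_ ?_
      · show v (actV (DihedralGroup.sr 0) (Multiplicative.ofAdd 1, 1)) = κ _ * v _ * (κ _)⁻¹
        rw [show actV (DihedralGroup.sr 0) (Multiplicative.ofAdd 1, 1) = ((Multiplicative.ofAdd 1, 1) : K4) by decide,
          k4_a, dihHom3_sr, hAinv, h.hAa]
      · show v (actV (DihedralGroup.sr 0) (1, Multiplicative.ofAdd 1)) = κ _ * v _ * (κ _)⁻¹
        rw [show actV (DihedralGroup.sr 0) (1, Multiplicative.ofAdd 1) =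
            ((Multiplicative.ofAdd 1, Multiplicative.ofAdd 1) : K4) by decide,
          k4_ab, k4_b, dihHom3_sr, hAinv, h.hAb]
    exact DFunLike.congr_fun e p
  have hall : ∀ g, g ∈ H := by
    intro g
    have hri : ∀ i : ZMod 3, DihedralGroup.r i ∈ H := fun i => by
      rw [show i = ((i.val : ℕ) : ZMod 3) from (ZMod.natCast_zmod_val i).symm, ← DihedralGroup.r_one_pow]
      exact pow_mem hr _
    rcases g with i | i
    · exact hri i
    · have := mul_mem hs (hri i)
      rwa [DihedralGroup.sr_mul_r, zero_add] at this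
  exact hall g p

/-- the homomorphism from the semidirect product -/
def Oct.hom {a b R A : G} (h : Oct a b R A) : K4 ⋊[actV] DihedralGroup 3 →* G :=
  SemidirectProduct.lift (k4Hom a b h.ha h.hb h.hab) (dihHom3 R A h.h3 h.hA h.hc) fun g =>
    MonoidHom.ext fun p => h.compat g p

theorem Oct.hom_apply {a b R A : G} (h : Oct a b R A) (x : K4 ⋊[actV] DihedralGroup 3) :
    h.hom x = k4Hom a b h.ha h.hb h.hab x.left * dihHom3 R A h.h3 h.hA h.hc x.right := rfl

theorem oct_perm : Oct (Equiv.swap (0 : Fin 4) 1 * Equiv.swap 2 3) (Equiv.swap 0 2 * Equiv.swap 1 3)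
    (Equiv.swap 1 2 * Equiv.swap 2 3) (Equiv.swap 2 3) := by
  constructor <;> decide

/-- Generators and relations of `Sym(4)`. -/
theorem exists_perm4_hom {a b R A : G} (h : Oct a b R A) :
    ∃ θ : Equiv.Perm (Fin 4) →* G, a ∈ θ.range ∧ b ∈ θ.range ∧ R ∈ θ.range ∧ A ∈ θ.range ∧
      ∀ z, Commute z a → Commute z b → Commute z R → Commute z A → ∀ x, Commute z (θ x) := by
  have hψ : Function.Bijective oct_perm.hom := by
    have key : ∀ p : K4 × DihedralGroup 3, k4Hom _ _ oct_perm.ha oct_perm.hb oct_perm.hab p.1 *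
        dihHom3 _ _ oct_perm.h3 oct_perm.hA oct_perm.hc p.2 = 1 → p = 1 := by decide
    have hinj : Function.Injective oct_perm.hom := (injective_iff_map_eq_one _).2 fun x hx => by
      have := key (x.left, x.right) hx
      exact SemidirectProduct.ext (congrArg Prod.fst this) (congrArg Prod.snd this)
    refine (Nat.bijective_iff_injective_and_card _).2 ⟨hinj, ?_⟩
    rw [SemidirectProduct.card, Nat.card_prod, DihedralGroup.nat_card, Nat.card_eq_fintype_card,
      Nat.card_eq_fintype_card, Fintype.card_perm, Fintype.card_fin]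
    rfl
  let e := MulEquiv.ofBijective oct_perm.hom hψ
  refine ⟨h.hom.comp e.symm.toMonoidHom, ?_, ?_, ?_, ?_, ?_⟩
  · exact ⟨e (SemidirectProduct.inl (Multiplicative.ofAdd 1, 1)), by
      show h.hom (e.symm (e _)) = a
      rw [MulEquiv.symm_apply_apply, Oct.hom, SemidirectProduct.lift_inl, k4_a]⟩
  · exact ⟨e (SemidirectProduct.inl (1, Multiplicative.ofAdd 1)), by
      show h.hom (e.symm (e _)) = b
      rw [MulEquiv.symm_apply_apply, Oct.hom, SemidirectProduct.lift_inl, k4_b]⟩
  · exact ⟨e (SemidirectProduct.inr (DihedralGroup.r 1)), by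
      show h.hom (e.symm (e _)) = R
      rw [MulEquiv.symm_apply_apply, Oct.hom, SemidirectProduct.lift_inr, dihHom3_r]⟩
  · exact ⟨e (SemidirectProduct.inr (DihedralGroup.sr 0)), by
      show h.hom (e.symm (e _)) = A
      rw [MulEquiv.symm_apply_apply, Oct.hom, SemidirectProduct.lift_inr, dihHom3_sr]⟩
  · intro z h1 h2 h3 h4 x
    show Commute z (h.hom (e.symm x))
    rw [Oct.hom_apply]
    refine ((h1.pow_right _).mul_right (h2.pow_right _)).mul_right ?_
    rcases (e.symm x).right with i | i
    · exact h3.pow_right _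
    · exact h4.mul_right (h3.pow_right _)

end Cfsg.Agent.OctahedralHom57
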