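import Cfsg.Agent.Helper57AutEight
import Cfsg.Agent.Helper57OctahedralHom
import Cfsg.Agent.Helper57OutOdd
import Cfsg.Agent.Lib.AutPSL.OutPSL

/-!
The outer automorphism group of `PΩ⁺_{2m}(q)`.
-/

set_option autoImplicit false
set_option linter.unusedSectionVars false

namespace Cfsg.Agent.OutEight57

open Matrix QuadraticMap CfsgLib.Orth Cfsg.Agent.GammaO57 Cfsg.Agent.OutPlus57 Cfsg.Agent.Triality57
  Cfsg.Agent.Levi57

variable {F : Type*} [Field F] [Fintype F]

/-- the outer group -/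
abbrev G4 (F : Type*) [Field F] := Cfsg.Out (Cfsg.POmega F ⇑(plusQ 4 F))

/-- the class of triality -/
noncomputable def gR (F : Type*) [Field F] [Fintype F] : G4 F :=
  QuotientGroup.mk' (Cfsg.Inn (Cfsg.POmega F ⇑(plusQ 4 F))) (triality F)

theorem outMap_def (x : ↥(semiGroup (plusQ 4 F))) :
    outMap (plusQ 4 F) x = QuotientGroup.mk' (Cfsg.Inn (Cfsg.POmega F ⇑(plusQ 4 F))) (gAut _ x) := rfl

theorem gR_three : gR F ^ 3 = 1 := by rw [gR, ← map_pow, triality_pow_three, map_one]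

theorem gR_conj {P₁ P₂ P₃ : ↥(semiGroup (plusQ 4 F))} {c : F} {σ : F ≃+* F}
    (e : ∀ x y z, tri (semi P₁.1 x) (semi P₂.1 y) (semi P₃.1 z) = c * σ (tri x y z)) :
    gR F * outMap _ P₁ * (gR F)⁻¹ = outMap _ P₂ := by
  rw [mul_inv_eq_iff_eq_mul, gR, outMap_def, outMap_def, ← map_mul, ← map_mul, triality_intertwine e]

theorem gR_not_mem : gR F ∉ (outMap (plusQ 4 F)).range := by
  rintro ⟨x, hx⟩
  rw [outMap_def, gR, QuotientGroup.mk'_apply, QuotientGroup.mk'_apply, QuotientGroup.eq] at hx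
  obtain ⟨y, hy⟩ := hx
  obtain ⟨s, rfl⟩ := QuotientGroup.mk_surjective y
  apply triality_not_mem (F := F)
  refine ⟨x * omegaIn _ s, ?_⟩
  rw [map_mul, gAut_omegaIn, hy, mul_inv_cancel_left]

theorem exists_range_mul_pow (w : G4 F) : ∃ u ∈ (outMap (plusQ 4 F)).range, ∃ j : Fin 3, w = u * gR F ^ (j : ℕ) := by
  obtain ⟨β, rfl⟩ := QuotientGroup.mk'_surjective _ w
  obtain ⟨x, j, rfl⟩ := exists_gAut_mul_pow β
  exact ⟨_, ⟨x, rfl⟩, j, by rw [map_mul, map_pow, outMap_def]; rfl⟩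

theorem card_eight : Nat.card (G4 F) = 3 * Nat.card ↥(outMap (plusQ 4 F)).range := by
  let H := (outMap (plusQ 4 F)).range
  let Φ : ↥H × Fin 3 → G4 F := fun p => (p.1 : G4 F) * gR F ^ (p.2 : ℕ)
  have hΦ : Function.Bijective Φ := by
    constructor
    · rintro ⟨u, i⟩ ⟨v, j⟩ h
      have hpow : ∀ n : ℕ, gR F ^ n ∈ H → n % 3 = 0 := by
        intro n hn
        have hm : gR F ^ (n % 3) ∈ H := by
          rwa [← Nat.mod_add_div n 3, pow_add, pow_mul, gR_three, one_pow, mul_one] at hn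
        have : n % 3 = 0 ∨ n % 3 = 1 ∨ n % 3 = 2 := by omega
        rcases this with e | e | e
        · exact e
        · rw [e, pow_one] at hm; exact absurd hm gR_not_mem
        · rw [e] at hm
          have := mul_mem hm hm
          rw [← pow_add, show 2 + 2 = 3 + 1 from rfl, pow_add, gR_three, one_mul, pow_one] at this
          exact absurd this gR_not_mem
      have hij : i = j := by
        have h' : (u : G4 F) * gR F ^ (i : ℕ) = v * gR F ^ (j : ℕ) := h
        have hk : gR F ^ ((i : ℕ) + (3 - (j : ℕ))) ∈ H := by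
          rw [pow_add, ← inv_mul_cancel_left (u : G4 F) (gR F ^ (i : ℕ)), h', mul_assoc, mul_assoc, ← pow_add,
            show (j : ℕ) + (3 - (j : ℕ)) = 3 by omega, gR_three, mul_one]
          exact mul_mem (inv_mem u.2) v.2
        have := hpow _ hk
        ext
        omega
      subst hij
      exact Prod.ext (Subtype.ext (mul_right_cancel h)) rfl
    · intro w
      obtain ⟨u, hu, j, rfl⟩ := exists_range_mul_pow w
      exact ⟨(⟨u, hu⟩, j), rfl⟩
  rw [← Nat.card_congr (Equiv.ofBijective Φ hΦ), Nat.card_prod, Nat.card_fin, mul_comm]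

theorem semi_field (σ : F ≃+* F) (x : I → F) :
    semi (fieldIn (Q := plusQ 4 F) plusQ_prime σ).1 x = σ ∘ x := by
  show (1 : Matrix I I F) *ᵥ (σ ∘ x) = _
  rw [one_mulVec]

theorem gR_comm_gF (σ : F ≃+* F) : Commute (gR F) (gF 4 F σ) := by
  have h := gR_conj (P₁ := fieldIn (Q := plusQ 4 F) plusQ_prime σ)
    (P₂ := fieldIn (Q := plusQ 4 F) plusQ_prime σ) (P₃ := fieldIn (Q := plusQ 4 F) plusQ_prime σ)
    (c := 1) (σ := σ) fun x y z => by
      rw [semi_field, semi_field, semi_field, tri_eq, tri_eq, one_mul]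
      simp [map_add, map_sub, map_mul, map_neg]
  exact mul_inv_eq_iff_eq_mul.1 h

theorem semi_oIn (g : O (plusQ 4 F)) (x : I → F) : semi (oIn (plusQ 4 F) g).1 x = app g x :=
  app_semi g x

theorem app_rA (x : I → F) :
    app (refl (plusQ 4 F) (pv (lastI (le_refl 4)) (-1))) x =
      Sum.elim (fun i => if i = 3 then x (.inr 3) else x (.inl i))
        (fun i => if i = 3 then x (.inl 3) else x (.inr i)) := by
  rw [app_refl, Q_pair, polar_pair]
  have h3 : lastI (le_refl 4) = (3 : Fin 4) := rfl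
  rw [h3]
  funext k
  rcases k with i | i <;> fin_cases i <;> simp [Pi.single_apply] <;> ring

theorem gR_A_gR : gA (F := F) (le_refl 4) * gR F * gA (le_refl 4) = (gR F)⁻¹ := by
  set P := oIn (plusQ 4 F) (refl (plusQ 4 F) (pv (lastI (le_refl 4)) (-1)))
  have e := triality_inverting (P := P) (c := -1) (σ := 1) fun x y z => by
    rw [semi_oIn, semi_oIn, semi_oIn, app_rA, app_rA, app_rA, tri_eq, tri_eq, RingAut.one_apply]
    simp
    ring
  have h := congrArg (QuotientGroup.mk' (Cfsg.Inn (Cfsg.POmega F ⇑(plusQ 4 F)))) e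
  rw [map_mul, map_mul, map_mul] at h
  have h' : gR F * gA (le_refl 4) = gA (le_refl 4) * (gR F * gR F) := h
  rw [mul_assoc, h', ← mul_assoc, gA_sq, one_mul, eq_inv_iff_mul_eq_one, ← pow_two, ← pow_succ, gR_three]

theorem semi_blk (d : Fˣ) (x : I → F) :
    semi (blkS 4 F d).1 x = Sum.elim (fun i => (d : F) * x (.inl i)) (fun i => x (.inr i)) := by
  show (blkGL 4 d : Matrix I I F) *ᵥ ((1 : F ≃+* F) ∘ x) = _
  rw [blkGL_mulVec]
  rfl

theorem app_levi0 (d : Fˣ) (x : I → F) :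
    app (levi 4 F (diagT 0 d)) x =
      Sum.elim (fun i => if i = 0 then (d : F) * x (.inl i) else x (.inl i))
        (fun i => if i = 0 then ((d⁻¹ : Fˣ) : F) * x (.inr i) else x (.inr i)) := by
  rw [app_apply]
  show fromBlocks (diagonal (fun k => if k = (0 : Fin 4) then (d : F) else 1)) 0 0
        (diagonal (fun k => if k = (0 : Fin 4) then ((d⁻¹ : Fˣ) : F) else 1))ᵀ *ᵥ x = _
  rw [diagonal_transpose, fromBlocks_mulVec]
  funext k
  rcases k with i | i <;> by_cases h : i = 0 <;> simp [mulVec_diagonal, h]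

/-- The generators satisfy the relations of `Sym(4)`. -/
theorem oct_rel (h2 : (2 : F) ≠ 0) {d : Fˣ} (hd : ¬ IsSquare (d : F)) :
    OctahedralHom57.Oct (gT (0 : Fin 4) d) (gD 4 d) (gR F) (gA (le_refl 4)) := by
  classical
  set T := gT (0 : Fin 4) d with hTdef
  set D := gD 4 d
  set A := gA (F := F) (le_refl 4)
  set rA := refl (plusQ 4 F) (pv (lastI (le_refl 4)) (-1))
  have hTT : T * T = 1 := gT_sq h2 (le_refl 4) hd 0
  have hDD : D * D = 1 := by
    rw [gD_mul_self (le_refl 4) hd (0 : Fin 4), if_pos (by decide)]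
  have hTA : Commute T A := gT_comm_gA h2 (le_refl 4) hd 0
  have hTD : Commute T D := gT_comm_gD h2 (le_refl 4) hd 0
  have hADA : A * D * A = T * D := gA_gD_gA h2 (le_refl 4) hd 0
  set P₁ := oIn (plusQ 4 F) (levi 4 F (diagT 0 d))
  set P₂ := blkS 4 F d
  set P₃ := oIn (plusQ 4 F) rA * blkS 4 F d * oIn (plusQ 4 F) rA
  have e : ∀ x y z, tri (semi P₁.1 x) (semi P₂.1 y) (semi P₃.1 z) = (d : F) * (1 : F ≃+* F) (tri x y z) := by
    intro x y z
    rw [show semi P₃.1 z = app rA (semi (blkS 4 F d).1 (app rA z)) by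
      rw [← semi_oIn, ← semi_oIn, ← semi_mul, ← semi_mul]; rfl]
    rw [semi_oIn, semi_blk, semi_blk, app_levi0, app_rA, app_rA, tri_eq, tri_eq, RingAut.one_apply]
    simp
    field_simp
  have hP₁ : outMap (plusQ 4 F) P₁ = T := rfl
  have hP₃ : outMap (plusQ 4 F) P₃ = A * D * A := by rw [map_mul, map_mul]; rfl
  refine ⟨hTT, hDD, hTD.eq, gR_three, gA_sq _, gR_A_gR, ?_, ?_, ?_, hADA⟩
  · rw [← hP₁, gR_conj e]; rfl
  · show gR F * outMap (plusQ 4 F) P₂ * (gR F)⁻¹ = _
    rw [← hADA, ← hP₃]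
    refine gR_conj (P₃ := P₁) (c := (d : F)) (σ := 1) fun y z x => ?_
    rw [tri_cycle (semi P₁.1 x), e]
    exact congrArg _ (congrArg _ (tri_cycle x y z).symm)
  · rw [← hTA.eq, mul_assoc, gA_sq, mul_one]

section Assembled

variable {p f : ℕ} [Fact p.Prime]

theorem field_hom (hF : Fintype.card F = p ^ f) :
    ∃ η : Multiplicative (ZMod f) →* G4 F, (∀ σ, gF 4 F σ ∈ η.range) ∧ ∀ c, ∃ σ, η c = gF 4 F σ := by
  obtain ⟨e⟩ := CfsgLib.AutPSL.nonempty_ringAut_equiv (F := F) hF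
  refine ⟨(gF 4 F).comp e.symm.toMonoidHom, fun σ => ⟨e σ, ?_⟩, fun c => ⟨e.symm c, rfl⟩⟩
  show gF 4 F (e.symm (e σ)) = _
  rw [MulEquiv.symm_apply_apply]

theorem finish {S : Type} [Group S] [Finite S] (hf : f ≠ 0) (θ : S →* G4 F)
    (η : Multiplicative (ZMod f) →* G4 F) (hc : ∀ x c, Commute (θ x) (η c))
    (hcard : Nat.card (G4 F) = Nat.card S * f) (hle : (outMap (plusQ 4 F)).range ≤ (θ.noncommCoprod η hc).range)
    (hR : gR F ∈ (θ.noncommCoprod η hc).range) :
    Nonempty (G4 F ≃* S × Multiplicative (ZMod f)) := by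
  have : NeZero f := ⟨hf⟩
  have hsurj : Function.Surjective (θ.noncommCoprod η hc) := fun w => by
    obtain ⟨u, hu, j, rfl⟩ := exists_range_mul_pow w
    exact mul_mem (hle hu) (pow_mem hR _)
  have hbij := hsurj.bijective_of_nat_card_le (by
    rw [hcard, Nat.card_prod, Nat.card_congr Multiplicative.toAdd, Nat.card_zmod])
  exact ⟨(MulEquiv.ofBijective _ hbij).symm⟩

theorem out_eight_odd (hF : Fintype.card F = p ^ f) (hp : p ≠ 2) :
    Nonempty (G4 F ≃* Equiv.Perm (Fin 4) × Multiplicative (ZMod f)) := by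
  classical
  have hpodd : Odd p := Nat.Prime.odd_of_ne_two Fact.out hp
  have h2 : (2 : F) ≠ 0 := Spinor57.two_ne_zero_of_odd hF hpodd.pow
  have hf : f ≠ 0 := by
    rintro rfl
    have := Fintype.one_lt_card (α := F)
    rw [hF, pow_zero] at this
    omega
  obtain ⟨d₀, hd₀⟩ := CfsgLib.OrthOmega.exists_not_square h2
  set d := Units.mk0 d₀ (fun h => hd₀ (by rw [h]; exact IsSquare.zero))
  have hd : ¬ IsSquare (d : F) := hd₀
  obtain ⟨θ, ha, hb, hR, hA, hθc⟩ := OctahedralHom57.exists_perm4_hom (oct_rel h2 hd)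
  obtain ⟨η, hη, hη'⟩ := field_hom (F := F) hF
  have hFD : ∀ σ, Commute (gF 4 F σ) (gD 4 d) := by
    intro σ
    obtain ⟨e, he⟩ : IsSquare (σ (d : F) / d) := by
      rw [div_eq_mul_inv, ← Spinor57.sqSign_eq_one_iff, Spinor57.sqSign_mul ((map_ne_zero _).2 d.ne_zero)
        (inv_ne_zero d.ne_zero)]
      simp [Spinor57.sqSign, hd, isSquare_map_iff]
    have he0 : e ≠ 0 := fun h => by
      rw [h, mul_zero, div_eq_zero_iff] at he
      rcases he with he | he
      · exact (map_ne_zero σ).2 d.ne_zero he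
      · exact d.ne_zero he
    have hσd : Units.map σ.toMonoidHom d = Units.mk0 e he0 * Units.mk0 e he0 * d := Units.ext (by
      show σ (d : F) = e * e * d
      rw [← he, div_mul_cancel₀ _ d.ne_zero])
    apply mul_inv_eq_iff_eq_mul.1
    rw [gF_conj_gD, hσd, gD, map_mul, map_mul, ← gD, gD_sq_eq (le_refl 4) (0 : Fin 4) hd,
      if_pos (show IsSquare (((Units.mk0 e he0 : Fˣ) : F) ^ 4) from ⟨e ^ 2, by rw [← pow_add]; rfl⟩), one_mul]
    rfl
  have hc : ∀ x c, Commute (θ x) (η c) := by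
    intro x c
    obtain ⟨σ, hσ⟩ := hη' c
    rw [hσ]
    exact (hθc _ (gF_comm_gT h2 (le_refl 4) hd 0 σ) (hFD σ) (gR_comm_gF σ).symm
      (gF_comm_gA (le_refl 4) σ) x).symm
  have hl : θ.range ≤ (θ.noncommCoprod η hc).range := by
    rintro _ ⟨x, rfl⟩
    exact ⟨(x, 1), by simp⟩
  refine finish hf θ η hc ?_ (range_le_of_mem h2 (le_refl 4) hd (hl hA) (hl hb) fun σ => ?_) (hl hR)
  · obtain ⟨Θ, hinj, hr⟩ := range_dihedral hF hp (le_refl 4) (fun h => absurd h.2 (by decide))
    rw [card_eight, ← hr, ← Nat.card_congr (MonoidHom.ofInjective hinj).toEquiv, Nat.card_prod,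
      DihedralGroup.nat_card, Nat.card_congr Multiplicative.toAdd, Nat.card_zmod,
      Nat.card_eq_fintype_card (α := Equiv.Perm (Fin 4)), Fintype.card_perm, Fintype.card_fin,
      show Nat.factorial 4 = 24 from rfl]
    ring
  · obtain ⟨c, hc'⟩ := hη σ
    exact ⟨(1, c), by simp [hc']⟩

theorem out_eight_two {f : ℕ} (hF : Fintype.card F = 2 ^ f) :
    Nonempty (G4 F ≃* Equiv.Perm (Fin 3) × Multiplicative (ZMod f)) := by
  have : Fact (Nat.Prime 2) := ⟨Nat.prime_two⟩
  have hf : f ≠ 0 := by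
    rintro rfl
    have := Fintype.one_lt_card (α := F)
    rw [hF, pow_zero] at this
    omega
  obtain ⟨θ, hR, hA, hθc⟩ := OctahedralHom57.exists_perm3_hom (gR_three (F := F)) (gA_sq (le_refl 4)) gR_A_gR
  obtain ⟨η, hη, hη'⟩ := field_hom (F := F) hF
  have hc : ∀ x c, Commute (θ x) (η c) := by
    intro x c
    obtain ⟨σ, hσ⟩ := hη' c
    rw [hσ]
    exact (hθc _ (gR_comm_gF σ).symm (gF_comm_gA (le_refl 4) σ) x).symm
  have hl : θ.range ≤ (θ.noncommCoprod η hc).range := by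
    rintro _ ⟨x, rfl⟩
    exact ⟨(x, 1), by simp⟩
  have hηl : ∀ σ, gF 4 F σ ∈ (θ.noncommCoprod η hc).range := fun σ => by
    obtain ⟨c, hc'⟩ := hη σ
    exact ⟨(1, c), by simp [hc']⟩
  refine finish hf θ η hc ?_ ?_ (hl hR)
  · obtain ⟨Θ, hinj, hr⟩ := range_two (m := 4) hF le_rfl
    rw [card_eight, ← hr, ← Nat.card_congr (MonoidHom.ofInjective hinj).toEquiv,
      Nat.card_congr Multiplicative.toAdd, Nat.card_prod, Nat.card_zmod, Nat.card_zmod,
      Nat.card_eq_fintype_card (α := Equiv.Perm (Fin 3)), Fintype.card_perm, Fintype.card_fin,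
      show Nat.factorial 3 = 6 from rfl]
    ring
  · -- in characteristic two a reflection and the field automorphisms generate the classes
    classical
    have : CharP F 2 := charP_of_card_eq_prime_pow hF
    have hQ := plusQ_nondegenerate (F := F) 4
    have hgen := reflClosure_plus (F := F) (m := 4) (Or.inr (by omega))
    rintro _ ⟨x, rfl⟩
    obtain ⟨y, hy, hx⟩ := split_field x
    rw [hx, map_mul]
    refine mul_mem ?_ (hηl _)
    obtain ⟨u, g, hg⟩ := exists_scalar_isometry hy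
    rw [outMap_scalar le_rfl hy hg]
    rcases Int.units_eq_one_or (dicksonHom hQ hgen g) with e | e
    · rw [cls_omega le_rfl ((CfsgLib.OrthOmega.mem_omega_two hQ hgen g).2 e)]; exact one_mem _
    · set rA := refl (plusQ 4 F) (pv (lastI (le_refl 4)) (-1))
      have hrA : dicksonHom hQ hgen rA = -1 := dicksonHom_refl hQ hgen (pv_ne (neg_ne_zero.2 one_ne_zero))
      have : cls (plusQ 4 F) (rA⁻¹ * g) = 1 := cls_omega le_rfl
        ((CfsgLib.OrthOmega.mem_omega_two hQ hgen _).2 (by rw [map_mul, map_inv, hrA, e]; decide))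
      rw [map_mul, map_inv, inv_mul_eq_one] at this
      rw [← this]; exact hl hA

end Assembled

/-- `Out` when all automorphisms come from semisimilarities. -/
theorem out_equiv_of_range {m : ℕ} (hgamma : Cfsg.gammaPOmega F ⇑(plusQ m F) = ⊤) {T : Type} [Group T]
    (Θ : T →* Cfsg.Out (Cfsg.POmega F ⇑(plusQ m F))) (hinj : Function.Injective Θ)
    (hr : Θ.range = (outMap (plusQ m F)).range) :
    Nonempty (Cfsg.Out (Cfsg.POmega F ⇑(plusQ m F)) ≃* T) := by
  have hsurj : Function.Surjective Θ := by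
    rw [← MonoidHom.range_eq_top, hr, MonoidHom.range_eq_top]
    exact outMap_surjective hgamma
  exact ⟨(MulEquiv.ofBijective Θ ⟨hinj, hsurj⟩).symm⟩

end Cfsg.Agent.OutEight57
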