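import Cfsg.Agent.Helper57GammaO
import Cfsg.Agent.Helper57InvolPlusMinus
import Cfsg.Agent.Lib.AutPSL.FieldGalois
import Cfsg.Prelude.Def_KGroupFacts

/-!
`Out` of `PΩ⁻` in characteristic two, given that every automorphism is induced by a semisimilarity: it
is cyclic, generated by a semilinear map over the Frobenius automorphism.
-/

set_option autoImplicit false
set_option linter.unusedSectionVars false

namespace Cfsg.Agent.GammaO57

open Matrix QuadraticMap CfsgLib.Orth

section Generic

variable {F : Type*} [Field F] [Fintype F] {ι : Type} [Fintype ι] [DecidableEq ι]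
  {Q : QuadraticForm F (ι → F)}

/-- The map to the outer automorphism group. -/
noncomputable def outMap (Q : QuadraticForm F (ι → F)) :
    ↥(semiGroup Q) →* Cfsg.Out (Cfsg.POmega F ⇑Q) :=
  (QuotientGroup.mk' (Cfsg.Inn (Cfsg.POmega F ⇑Q))).comp (gAut Q)

theorem outMap_surjective (h : Cfsg.gammaPOmega F ⇑Q = ⊤) : Function.Surjective (outMap Q) :=
  (QuotientGroup.mk'_surjective _).comp (gAut_surjective h)

theorem outMap_eq_one_iff (hQ : Q.polarBilin.Nondegenerate) (hn : 5 ≤ Fintype.card ι) (d : HypData Q)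
    (x : ↥(semiGroup Q)) : outMap Q x = 1 ↔ x.1.right = 1 ∧ ∃ (c : Fˣ) (s : ↥(Cfsg.Omega F ⇑Q)),
      x.1.left = GeneralLinearGroup.scalar ι c * ((s : O Q) : GL ι F) := by
  rw [outMap, MonoidHom.comp_apply, QuotientGroup.mk'_apply, QuotientGroup.eq_one_iff]
  constructor
  · rintro ⟨y, hy⟩
    obtain ⟨s, rfl⟩ := QuotientGroup.mk_surjective y
    have h1 : gAut Q (x * (omegaIn Q s)⁻¹) = 1 := by
      rw [map_mul, map_inv, gAut_omegaIn, ← hy]; simp
    obtain ⟨e1, c, e2⟩ := gAut_eq_one hQ hn d h1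
    have e1' : x.1.right = 1 := by simpa [omegaIn] using e1
    refine ⟨e1', c, s, ?_⟩
    have e2' : x.1.left * ((s : O Q) : GL ι F)⁻¹ = GeneralLinearGroup.scalar ι c := by
      rw [← e2]; simp [omegaIn, e1']
    rw [← e2', inv_mul_cancel_right]
  · rintro ⟨e1, c, s, e2⟩
    refine ⟨QuotientGroup.mk s, ?_⟩
    have h1 : gAut Q (x * (omegaIn Q s)⁻¹) = 1 := by
      refine gAut_scalar (c := c) ?_ ?_
      · simp [omegaIn, e1]
      · simp [omegaIn, e1, e2]
    rw [map_mul, map_inv, gAut_omegaIn, mul_inv_eq_one] at h1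
    rw [h1]

theorem exists_scalar_isometry [CharP F 2] {x : ↥(semiGroup Q)} (h1 : x.1.right = 1) :
    ∃ (c : Fˣ) (g : O Q), x.1.left = GeneralLinearGroup.scalar ι c * (g : GL ι F) := by
  obtain ⟨k, hk⟩ := x.2
  obtain ⟨t, ht⟩ := FiniteField.isSquare_of_char_two (ringChar.eq_iff.2 inferInstance) (k : F)
  have ht0 : t ≠ 0 := fun h => k.ne_zero (by rw [ht, h, mul_zero])
  refine ⟨Units.mk0 t ht0, ⟨GeneralLinearGroup.scalar ι (Units.mk0 t ht0)⁻¹ * x.1.left, ?_⟩, ?_⟩
  · rw [mem_O_iff]
    intro v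
    have h := hk v
    rw [semi, h1] at h
    rw [Units.val_mul, ← mulVec_mulVec]
    show Q (Matrix.scalar ι (((Units.mk0 t ht0)⁻¹ : Fˣ) : F) *ᵥ _) = _
    rw [Matrix.scalar_apply, ← Matrix.smul_one_eq_diagonal, smul_mulVec, one_mulVec, QuadraticMap.map_smul,
      show (1 : F ≃+* F) ∘ v = v from rfl] at *
    rw [h]
    show _ • ((k : F) * Q v) = Q v
    rw [ht, smul_eq_mul, Units.val_inv_eq_inv_val, Units.val_mk0]
    field_simp
  · show x.1.left = GeneralLinearGroup.scalar ι (Units.mk0 t ht0) *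
      (GeneralLinearGroup.scalar ι (Units.mk0 t ht0)⁻¹ * x.1.left)
    rw [← mul_assoc, ← map_mul, mul_inv_cancel, map_one, one_mul]

end Generic

section MinusTwo

variable {F : Type*} [Field F] [Fintype F] [CharP F 2] {k : ℕ} {a b : F}
  (hab : ∀ z₁ z₂ : F, z₁ ^ 2 + a * z₁ * z₂ + b * z₂ ^ 2 = 0 → z₁ = 0 ∧ z₂ = 0)

/-- The index type. -/
abbrev MI (k : ℕ) : Type := (Fin k ⊕ Fin k) ⊕ Fin 2

/-- Two hyperbolic pairs. -/
noncomputable def minusData (hk : 2 ≤ k) (a b : F) : HypData (minusQ k F a b) where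
  u := Pi.single (Sum.inl (Sum.inl ⟨0, by omega⟩)) 1
  v := Pi.single (Sum.inl (Sum.inl ⟨1, by omega⟩)) 1
  u' := Pi.single (Sum.inl (Sum.inr ⟨0, by omega⟩)) 1
  v' := Pi.single (Sum.inl (Sum.inr ⟨1, by omega⟩)) 1
  hu := by simp [minusQ_coe, Cfsg.quadFormMinus]
  hv := by simp [minusQ_coe, Cfsg.quadFormMinus]
  hu' := by simp [minusQ_coe, Cfsg.quadFormMinus]
  hv' := by simp [minusQ_coe, Cfsg.quadFormMinus]
  huv := by simp [polar_minusQ]
  huv' := by simp [polar_minusQ, Pi.single_apply]
  hu'v := by simp [polar_minusQ, Pi.single_apply]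
  hu'v' := by simp [polar_minusQ]
  huu' := by simp [polar_minusQ, Pi.single_apply]
  hvv' := by simp [polar_minusQ, Pi.single_apply]

/-- The block matrix `diag(1, [[1, B], [0, A]])`. -/
def planeMat (k : ℕ) (B A : F) : Matrix (MI k) (MI k) F := fromBlocks 1 0 0 !![1, B; 0, A]

theorem planeMat_mul (B A B' A' : F) :
    planeMat k B A * planeMat k B' A' = planeMat k (B' + B * A') (A * A') := by
  rw [planeMat, planeMat, planeMat, fromBlocks_multiply]
  simp

theorem planeMat_map (σ : F ≃+* F) (B A : F) : (planeMat k B A).map σ = planeMat k (σ B) (σ A) := by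
  ext i j
  rcases i with i | i <;> rcases j with j | j
  · simp [planeMat, Matrix.one_apply, apply_ite σ]
  · simp [planeMat]
  · simp [planeMat]
  · fin_cases i <;> fin_cases j <;> simp [planeMat]

theorem planeMat_mulVec (B A : F) (v : MI k → F) :
    planeMat k B A *ᵥ v = Sum.elim (v ∘ Sum.inl) ![v (.inr 0) + B * v (.inr 1), A * v (.inr 1)] := by
  rw [planeMat, fromBlocks_mulVec]
  funext i
  rcases i with i | i
  · simp
  · fin_cases i <;> simp [Matrix.mulVec, dotProduct, Fin.sum_univ_two]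

/-- The Frobenius semilinear map. -/
noncomputable def phiLeft (k : ℕ) (a b : F) (ha : a ≠ 0) : GL (MI k) F :=
  ⟨planeMat k b a, planeMat k (-(b / a)) a⁻¹,
    by rw [planeMat_mul, mul_inv_cancel₀ ha, ← div_eq_mul_inv, neg_add_cancel, planeMat,
      ← Matrix.one_fin_two, fromBlocks_one],
    by rw [planeMat_mul, inv_mul_cancel₀ ha, neg_mul, div_mul_cancel₀ b ha, add_neg_cancel, planeMat,
      ← Matrix.one_fin_two, fromBlocks_one]⟩

theorem frob_apply (i : ℕ) (x : F) : ((frobeniusEquiv F 2) ^ i) x = x ^ 2 ^ i := by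
  induction i with
  | zero => simp
  | succ i ih =>
    rw [pow_succ', RingAut.mul_apply, ih, frobeniusEquiv_apply, frobenius_def, ← pow_mul, pow_succ]

theorem frob_pow_ne_one {d f : ℕ} (hF : Fintype.card F = 2 ^ f) (hd : d ≠ 0) (hdf : d < f) :
    (frobeniusEquiv F 2) ^ d ≠ 1 := by
  classical
  intro h
  have hall : ∀ z : F, z ^ 2 ^ d = z := fun z => by rw [← frob_apply, h]; rfl
  have hp0 : (Polynomial.X ^ 2 ^ d - Polynomial.X : Polynomial F) ≠ 0 :=
    FiniteField.X_pow_card_pow_sub_X_ne_zero F hd Nat.one_lt_two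
  have hsub : (Finset.univ : Finset F).val ⊆
      (Polynomial.X ^ 2 ^ d - Polynomial.X : Polynomial F).roots := fun z _ => by
    rw [Polynomial.mem_roots hp0]
    simp [hall z]
  have hc := Multiset.card_le_card ((Multiset.le_iff_subset (Finset.univ : Finset F).nodup).2 hsub)
  have hdeg := Polynomial.card_roots' (Polynomial.X ^ 2 ^ d - Polynomial.X : Polynomial F)
  rw [FiniteField.X_pow_card_pow_sub_X_natDegree_eq F hd Nat.one_lt_two] at hdeg
  have hle : Fintype.card F ≤ 2 ^ d :=
    calc Fintype.card F = Multiset.card (Finset.univ : Finset F).val := rfl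
      _ ≤ _ := hc
      _ ≤ 2 ^ d := hdeg
  rw [hF] at hle
  have := (Nat.pow_le_pow_iff_right Nat.one_lt_two).1 hle
  omega

theorem phi_mem (ha : a ≠ 0) :
    (⟨phiLeft k a b ha, frobeniusEquiv F 2⟩ : GLS (MI k) F) ∈ semiGroup (minusQ k F a b) := by
  refine ⟨1, fun v => ?_⟩
  show minusQ k F a b (planeMat k b a *ᵥ (frobeniusEquiv F 2 ∘ v)) = _
  rw [planeMat_mulVec, Units.val_one, one_mul, minusQ_coe]
  simp only [Cfsg.quadFormMinus, Function.comp_apply, Sum.elim_inl, Sum.elim_inr, Matrix.cons_val_zero,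
    Matrix.cons_val_one, frobeniusEquiv_apply, frobenius_def, map_add, map_sum, map_mul, map_pow]
  have h2 : (2 : F) = 0 := CharTwo.two_eq_zero
  linear_combination ((v (.inr 0) ^ 2 * b * v (.inr 1) ^ 2) + (a ^ 2 * b * v (.inr 1) ^ 4)) * h2

/-- The semisimilarity inducing the generator. -/
noncomputable def phi (k : ℕ) (a b : F) (ha : a ≠ 0) : ↥(semiGroup (minusQ k F a b)) :=
  ⟨_, phi_mem ha⟩

theorem phi_pow (ha : a ≠ 0) {K : Type*} [Field K] [CharP K 2] (ι₀ : F →+* K) {θ : K}
    (hθ : θ * θ = ι₀ a * θ + ι₀ b) (i : ℕ) :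
    (phi k a b ha ^ i).1.right = frobeniusEquiv F 2 ^ i ∧ ∃ B A : F, A * a = a ^ 2 ^ i ∧
      θ ^ 2 ^ i = ι₀ B + ι₀ A * θ ∧
      ((phi k a b ha ^ i).1.left : Matrix (MI k) (MI k) F) = planeMat k B A := by
  induction i with
  | zero =>
    refine ⟨by simp, 0, 1, by simp, by simp, ?_⟩
    simp [planeMat, Matrix.one_fin_two.symm]
  | succ i ih =>
    obtain ⟨hr, B, A, hA, hB, hm⟩ := ih
    refine ⟨by rw [pow_succ, pow_succ, Subgroup.coe_mul, SemidirectProduct.mul_right, hr]; rfl,
      b ^ 2 ^ i + B * a ^ 2 ^ i, A * a ^ 2 ^ i, ?_, ?_, ?_⟩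
    · rw [mul_right_comm, hA, ← pow_add, pow_succ, mul_two]
    · rw [pow_succ', pow_mul, pow_two, hθ, add_pow_char_pow, mul_pow, ← map_pow, ← map_pow, hB]
      simp only [map_add, map_mul, map_pow]
      ring
    · rw [pow_succ, Subgroup.coe_mul, SemidirectProduct.mul_left, Units.val_mul, hm, hr]
      show planeMat k B A * (planeMat k b a).map (frobeniusEquiv F 2 ^ i) = _
      rw [planeMat_map, planeMat_mul, frob_apply, frob_apply]

include hab in
theorem phi_pow_f (ha : a ≠ 0) {f : ℕ} (hF : Fintype.card F = 2 ^ f) :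
    (phi k a b ha ^ f).1.right = 1 ∧
      ∃ B : F, B ≠ 0 ∧ ((phi k a b ha ^ f).1.left : Matrix (MI k) (MI k) F) = planeMat k B 1 := by
  let K := AlgebraicClosure F
  have : CharP K 2 := charP_of_injective_algebraMap (algebraMap F K).injective 2
  set ι₀ := algebraMap F K
  have h2 : (2 : K) = 0 := CharTwo.two_eq_zero
  let P : Polynomial K := Polynomial.C 1 * Polynomial.X ^ 2 + Polynomial.C (ι₀ a) * Polynomial.X +
    Polynomial.C (ι₀ b)
  obtain ⟨θ, hθ'⟩ := IsAlgClosed.exists_root P (by
    rw [show P.degree = 2 from Polynomial.degree_quadratic one_ne_zero]; decide)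
  have hθ : θ * θ = ι₀ a * θ + ι₀ b := by
    have h := hθ'
    simp [P, Polynomial.IsRoot] at h
    linear_combination h - (ι₀ a * θ + ι₀ b) * h2
  obtain ⟨hr, B, A, hA, hB, hm⟩ := phi_pow (k := k) ha ι₀ hθ f
  have hA1 : A = 1 := by
    rw [← hF, FiniteField.pow_card] at hA
    exact mul_right_cancel₀ ha (by rw [hA, one_mul])
  subst hA1
  refine ⟨?_, B, fun hB0 => ?_, hm⟩
  · rw [hr]
    refine RingEquiv.ext fun x => ?_
    rw [frob_apply, ← hF, FiniteField.pow_card]
    rfl
  · rw [hB0, map_zero, map_one, one_mul, zero_add, ← hF] at hB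
    have hmem : θ ∈ Set.range ι₀ := by
      classical
      have hroots := FiniteField.roots_X_pow_card_sub_X F
      have h0 : (Polynomial.X ^ Fintype.card F - Polynomial.X : Polynomial F) ≠ 0 :=
        FiniteField.X_pow_card_sub_X_ne_zero F Fintype.one_lt_card
      have hsp : (Polynomial.X ^ Fintype.card F - Polynomial.X : Polynomial F) =
          (Finset.univ.val.map fun z : F => Polynomial.X - Polynomial.C z).prod := by
        have hs := Polynomial.prod_multiset_X_sub_C_of_monic_of_roots_card_eq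
          (p := (Polynomial.X ^ Fintype.card F - Polynomial.X : Polynomial F))
          (Polynomial.monic_X_pow_sub (by
            rw [Polynomial.degree_X]; exact_mod_cast Fintype.one_lt_card))
          (by rw [hroots, FiniteField.X_pow_card_sub_X_natDegree_eq F Fintype.one_lt_card]; rfl)
        rw [hroots] at hs
        exact hs.symm
      have h1 := congrArg (fun p => Polynomial.eval₂ ι₀ θ p) hsp
      simp only [Polynomial.eval₂_sub, Polynomial.eval₂_X_pow, Polynomial.eval₂_X, hB, sub_self,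
        Polynomial.eval₂_multiset_prod, Multiset.map_map] at h1
      have h1' := Multiset.prod_eq_zero_iff.1 h1.symm
      obtain ⟨z, -, hz⟩ := Multiset.mem_map.1 h1'
      simp only [Function.comp_apply, Polynomial.eval₂_sub, Polynomial.eval₂_X, Polynomial.eval₂_C,
        sub_eq_zero] at hz
      exact ⟨z, hz.symm⟩
    obtain ⟨z, rfl⟩ := hmem
    have h0 : ι₀ (z ^ 2 + a * z * 1 + b * 1 ^ 2) = 0 := by
      simp only [map_add, map_mul, map_pow, map_one]
      linear_combination hθ + (ι₀ a * ι₀ z + ι₀ b) * h2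
    exact one_ne_zero (hab z 1 (ι₀.injective (h0.trans (map_zero ι₀).symm))).2

set_option maxHeartbeats 1600000 in
include hab in
theorem out_minus_two (hk : 2 ≤ k) {f : ℕ} (hF : Fintype.card F = 2 ^ f)
    (hgamma : Cfsg.gammaPOmega F (Cfsg.quadFormMinus k F a b) = ⊤) :
    IsCyclic (Cfsg.Out (Cfsg.POmega F (Cfsg.quadFormMinus k F a b))) ∧
      Nat.card (Cfsg.Out (Cfsg.POmega F (Cfsg.quadFormMinus k F a b))) = 2 * f ∧
      Nat.card (MulAut (Cfsg.POmega F (Cfsg.quadFormMinus k F a b))) =
        2 * f * Nat.card (Cfsg.POmega F (Cfsg.quadFormMinus k F a b)) := by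
  classical
  rw [← minusQ_coe] at hgamma ⊢
  set Q := minusQ k F a b
  have hQ : Q.polarBilin.Nondegenerate := Cfsg.Agent.InvolForm57.minus_nondeg k hab
  have hgen : reflClosure Q = ⊤ := reflClosure_eq_top hQ (Or.inr (by simp; omega))
  have hn : 5 ≤ Fintype.card (MI k) := by simp; omega
  have ha : a ≠ 0 := Cfsg.Agent.InvolForm57.minus_a_ne_zero hab
  obtain ⟨hr, B, hB, hm⟩ := phi_pow_f (k := k) hab ha hF
  have hf : f ≠ 0 := by
    rintro rfl
    rw [pow_zero] at hF
    have := Fintype.one_lt_card (α := F)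
    omega
  -- the power `φ^f` as an isometry outside `Ω`
  have hmem : (phi k a b ha ^ f).1.left ∈ O Q := by
    obtain ⟨c, hc⟩ := (phi k a b ha ^ f).2
    have hc1 : c = 1 := by
      have h := hc (Pi.single (Sum.inr 0) 1)
      rw [semi, hr] at h
      apply Units.ext
      have e : Q (Pi.single (Sum.inr 0) 1) = 1 := by simp [Q, minusQ_coe, Cfsg.quadFormMinus]
      rw [show (1 : F ≃+* F) ∘ (Pi.single (Sum.inr 0) 1 : MI k → F) = Pi.single (Sum.inr 0) 1 from rfl,
        hm, planeMat_mulVec] at h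
      rw [show (1 : F ≃+* F) (Q (Pi.single (Sum.inr 0) 1)) = 1 by rw [e]; rfl, mul_one] at h
      rw [Units.val_one, ← h]
      simp [Q, minusQ_coe, Cfsg.quadFormMinus]
    rw [mem_O_iff]
    intro v
    have h := hc v
    rw [semi, hr, hc1, Units.val_one, one_mul] at h
    exact h
  set τ : O Q := ⟨_, hmem⟩
  have hτ : τ ∉ Cfsg.Omega F ⇑Q := by
    rw [CfsgLib.OrthOmega.mem_omega_two hQ hgen]
    show ¬ dickson τ = 1
    have hfix : fixS τ = LinearMap.ker (LinearMap.proj (R := F) (φ := fun _ : MI k => F) (Sum.inr 1)) := by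
      ext v
      rw [mem_fixS, LinearMap.mem_ker, LinearMap.proj_apply, app_apply]
      rw [show (((τ : O Q) : GL (MI k) F) : Matrix (MI k) (MI k) F) = planeMat k B 1 from hm, planeMat_mulVec]
      constructor
      · intro h
        have h0 := congrFun h (Sum.inr 0)
        simpa [hB] using h0
      · intro h
        funext i
        rcases i with i | i
        · rfl
        · fin_cases i <;> simp [h]
    have hrk := LinearMap.finrank_range_add_finrank_ker
      (LinearMap.proj (R := F) (φ := fun _ : MI k => F) (Sum.inr 1))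
    rw [LinearMap.range_eq_top.2 (fun y => ⟨Pi.single (Sum.inr 1) y, by simp⟩), finrank_top,
      Module.finrank_self, Module.finrank_fintype_fun_eq_card] at hrk
    have h1c : Fintype.card (MI k) - Module.finrank F
        (LinearMap.ker (LinearMap.proj (R := F) (φ := fun _ : MI k => F) (Sum.inr 1))) = 1 := by omega
    rw [dickson, hfix, h1c, pow_one]
    decide
  have hker := outMap_eq_one_iff hQ hn (minusData hk a b)
  set y := outMap Q (phi k a b ha)
  have hf1 : y ^ f ≠ 1 := by
    rw [← map_pow]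
    intro h
    obtain ⟨-, c, s, hs⟩ := (hker _).1 h
    apply hτ
    have hc : c = 1 := by
      set e : MI k → F := Pi.single (Sum.inr 0) 1
      have h1 := Q_app τ e
      have h3 : app τ e = (c : F) • app (s : O Q) e := by
        rw [app_apply, app_apply]
        show ((phi k a b ha ^ f).1.left : Matrix (MI k) (MI k) F) *ᵥ e = _
        rw [hs, Units.val_mul, ← mulVec_mulVec]
        show Matrix.scalar _ _ *ᵥ _ = _
        rw [Matrix.scalar_apply, ← Matrix.smul_one_eq_diagonal, smul_mulVec, one_mulVec]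
      rw [h3, QuadraticMap.map_smul, Q_app, smul_eq_mul] at h1
      have e1 : Q e = 1 := by simp [Q, e, minusQ_coe, Cfsg.quadFormMinus]
      rw [e1, mul_one] at h1
      refine Units.ext ?_
      rcases mul_self_eq_one_iff.1 h1 with h4 | h4
      · exact h4
      · rw [h4, CharTwo.neg_eq]; rfl
    have : τ = (s : O Q) := Subtype.ext (by
      show (phi k a b ha ^ f).1.left = _
      rw [hs, hc, map_one, one_mul])
    rw [this]
    exact s.2
  -- every outer class is a power of `y`
  have hgenΦ : ∀ x, ∃ i : ℕ, outMap Q x = y ^ i := by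
    intro x
    obtain ⟨i, hi⟩ : ∃ i : ℕ, x.1.right = frobeniusEquiv F 2 ^ i := by
      have hcard : Nat.card (F ≃+* F) = f := CfsgLib.FieldGalois.card_ringAut hF
      have hinj : Function.Injective (fun i : Fin f => frobeniusEquiv F 2 ^ (i : ℕ)) := by
        have key : ∀ i j : Fin f, i ≤ j → frobeniusEquiv F 2 ^ (i : ℕ) = frobeniusEquiv F 2 ^ (j : ℕ) → i = j := by
          intro i j hij h
          by_contra hne
          have hlt : (i : ℕ) < j := lt_of_le_of_ne hij (fun e => hne (Fin.ext e))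
          set d := (j : ℕ) - i with hd
          have hd1 : frobeniusEquiv F 2 ^ d = 1 := by
            have := pow_sub (frobeniusEquiv F 2) hlt.le
            rw [this, h, mul_inv_cancel]
          exact frob_pow_ne_one hF (by omega) (by omega) hd1
        intro i j h
        rcases le_total i j with hij | hij
        · exact key i j hij h
        · exact (key j i hij h.symm).symm
      have : Finite (F ≃+* F) := Nat.finite_of_card_ne_zero (by rw [hcard]; exact hf)
      have := Fintype.ofFinite (F ≃+* F)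
      obtain ⟨-, hsurj⟩ := (Fintype.bijective_iff_injective_and_card _).2 ⟨hinj, by
        rw [Fintype.card_fin, ← Nat.card_eq_fintype_card, hcard]⟩
      obtain ⟨i, hi⟩ := hsurj x.1.right
      exact ⟨i, hi.symm⟩
    have h1 : (x * (phi k a b ha ^ i)⁻¹).1.right = 1 := by
      have hp : ((phi k a b ha ^ i)).1.right = frobeniusEquiv F 2 ^ i := by
        rw [SubmonoidClass.coe_pow]
        exact map_pow SemidirectProduct.rightHom _ i
      rw [Subgroup.coe_mul, SemidirectProduct.mul_right, Subgroup.coe_inv, SemidirectProduct.inv_right, hp,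
        hi, mul_inv_cancel]
    obtain ⟨c, g, hg⟩ := exists_scalar_isometry h1
    by_cases hgo : g ∈ Cfsg.Omega F ⇑Q
    · refine ⟨i, ?_⟩
      have h := (hker _).2 ⟨h1, c, ⟨g, hgo⟩, hg⟩
      rwa [map_mul, map_inv, map_pow, mul_inv_eq_one] at h
    · refine ⟨f + i, ?_⟩
      have hgt : g * τ⁻¹ ∈ Cfsg.Omega F ⇑Q := by
        rw [CfsgLib.OrthOmega.mem_omega_two hQ hgen] at hgo hτ ⊢
        rw [map_mul, map_inv]
        rcases Int.units_eq_one_or (dicksonHom hQ hgen g) with e | e
        · exact absurd e hgo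
        · rcases Int.units_eq_one_or (dicksonHom hQ hgen τ) with e' | e'
          · exact absurd e' hτ
          · rw [e, e']; decide
      have h1' : (x * (phi k a b ha ^ i)⁻¹ * (phi k a b ha ^ f)⁻¹).1.right = 1 := by
        rw [Subgroup.coe_mul, SemidirectProduct.mul_right, h1, Subgroup.coe_inv, SemidirectProduct.inv_right,
          hr, inv_one, mul_one]
      have h := (hker _).2 ⟨h1', c, ⟨g * τ⁻¹, hgt⟩, by
        rw [Subgroup.coe_mul, SemidirectProduct.mul_left, hg, h1, map_one, MulAut.one_apply, Subgroup.coe_inv,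
          SemidirectProduct.inv_left, hr, inv_one, map_one, MulAut.one_apply, mul_assoc]
        rfl⟩
      rwa [map_mul, map_inv, map_pow, mul_inv_eq_one, map_mul, map_inv, map_pow, mul_inv_eq_iff_eq_mul,
        ← pow_add] at h
  have hzp : ∀ z, z ∈ Subgroup.zpowers y := by
    intro z
    obtain ⟨x, rfl⟩ := outMap_surjective hgamma z
    obtain ⟨i, hi⟩ := hgenΦ x
    exact ⟨i, by simp [hi]⟩
  have hdvd : ∀ j : ℕ, y ^ j = 1 → f ∣ j := by
    intro j hj
    rw [← map_pow] at hj
    have h := ((hker _).1 hj).1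
    have hp : ((phi k a b ha ^ j)).1.right = frobeniusEquiv F 2 ^ j := by
      rw [SubmonoidClass.coe_pow]
      exact map_pow SemidirectProduct.rightHom _ j
    rw [hp] at h
    by_contra hnd
    have hmod : j % f ≠ 0 := fun e => hnd (Nat.dvd_of_mod_eq_zero e)
    have hfr : frobeniusEquiv F 2 ^ (j % f) = 1 := by
      have hff : frobeniusEquiv F 2 ^ f = 1 := RingEquiv.ext fun z => by
        rw [frob_apply, ← hF, FiniteField.pow_card]; rfl
      rwa [← Nat.mod_add_div j f, pow_add, pow_mul, hff, one_pow, mul_one] at h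
    exact frob_pow_ne_one hF hmod (Nat.mod_lt j (Nat.pos_of_ne_zero hf)) hfr
  have hord : orderOf y = 2 * f := by
    have h2f : y ^ (2 * f) = 1 := by
      rw [← map_pow, hker]
      refine ⟨by rw [two_mul, pow_add, Subgroup.coe_mul, SemidirectProduct.mul_right, hr, mul_one],
        1, ⟨τ * τ, ?_⟩, ?_⟩
      · rw [CfsgLib.OrthOmega.mem_omega_two hQ hgen, map_mul]
        exact Int.units_mul_self _
      · rw [two_mul, pow_add, Subgroup.coe_mul, SemidirectProduct.mul_left, hr, map_one, MulAut.one_apply,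
          map_one, one_mul]
        rfl
    have hd := orderOf_dvd_of_pow_eq_one h2f
    obtain ⟨t, ht⟩ := hdvd _ (pow_orderOf_eq_one y)
    rw [ht, mul_comm 2 f] at hd
    have ht2 := (Nat.mul_dvd_mul_iff_left (Nat.pos_of_ne_zero hf)).1 hd
    rcases (Nat.dvd_prime Nat.prime_two).1 ht2 with rfl | rfl
    · exact absurd (by rw [← pow_orderOf_eq_one y, ht, mul_one]) hf1
    · rw [ht, mul_comm]
  have hcard : Nat.card (Cfsg.Out (Cfsg.POmega F ⇑Q)) = 2 * f := by
    rw [← hord, ← Nat.card_zpowers, (Subgroup.eq_top_iff' _).2 hzp, Subgroup.card_top]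
  exact ⟨⟨y, hzp⟩, hcard, by rw [card_mulAut hQ hn (minusData hk a b), hcard]⟩

end MinusTwo

end Cfsg.Agent.GammaO57
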