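import Mathlib
import Cfsg.Agent.Lib.Maximal99.SquareScalar

/-!
Conjugacy classes of involutions of `PGL n` in odd characteristic.
-/

set_option autoImplicit false
set_option linter.unusedSectionVars false

namespace Cfsg.Agent.PGLInvol57

open Matrix Module

variable {F : Type*} [Field F] {n : ℕ}

/-- square matrices -/
abbrev M (n : ℕ) (F : Type*) := Matrix (Fin n) (Fin n) F

theorem isConj_of_lin (A B : GL (Fin n) F) (e : (Fin n → F) ≃ₗ[F] (Fin n → F))
    (h : ∀ v, e ((A : M n F) *ᵥ v) = (B : M n F) *ᵥ e v) : IsConj A B := by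
  have hu : IsUnit (LinearMap.toMatrix' e.toLinearMap) := by
    rw [← Matrix.mulVec_injective_iff_isUnit]
    intro x y hxy
    apply e.injective
    simpa [LinearMap.toMatrix'_mulVec] using hxy
  refine isConj_iff.2 ⟨hu.unit, mul_inv_eq_iff_eq_mul.2 (Units.ext (Matrix.toLin'.injective (LinearMap.ext fun v => ?_)))⟩
  rw [Units.val_mul, Units.val_mul, IsUnit.unit_spec, Matrix.toLin'_apply, Matrix.toLin'_apply,
    ← mulVec_mulVec, ← mulVec_mulVec, LinearMap.toMatrix'_mulVec, LinearMap.toMatrix'_mulVec]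
  exact h v

theorem isConj_of_nonsquare (A B : GL (Fin n) F) {z : F} (hz : ¬ IsSquare z)
    (hA : (A : M n F) * A = z • 1) (hB : (B : M n F) * B = z • 1) : IsConj A B := by
  obtain ⟨s, b, μ, h1, h2, -, -⟩ := CfsgLib.SquareScalar.hasPairBasis_of_not_square
    (A : M n F).mulVecLin z (fun v => by simp [mulVec_mulVec, hA, smul_mulVec]) hz
  obtain ⟨s', b', μ', h1', h2', -, -⟩ := CfsgLib.SquareScalar.hasPairBasis_of_not_square
    (B : M n F).mulVecLin z (fun v => by simp [mulVec_mulVec, hB, smul_mulVec]) hz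
  have e1 := finrank_eq_card_basis b
  have e2 := finrank_eq_card_basis b'
  rw [e1] at e2
  simp only [Fintype.card_sum, Fintype.card_prod, Fintype.card_fin, Fintype.card_bool] at e2
  obtain rfl : s = s' := by omega
  refine isConj_of_lin A B (b.equiv b' (Equiv.refl _)) fun v => ?_
  refine LinearMap.congr_fun (f := (b.equiv b' (Equiv.refl _)).toLinearMap.comp (A : M n F).mulVecLin)
    (g := (B : M n F).mulVecLin.comp (b.equiv b' (Equiv.refl _)).toLinearMap) (b.ext fun i => ?_) v
  rcases i with ⟨i, β⟩ | i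
  · cases β <;> simp [-Matrix.mulVecLin_apply, h1, h2, h1', h2', Basis.equiv_apply]
  · exact i.elim0

theorem even_of_nonsquare (A : GL (Fin n) F) {z : F} (hz : ¬ IsSquare z)
    (hA : (A : M n F) * A = z • 1) : Even n := by
  obtain ⟨s, b, -⟩ := CfsgLib.SquareScalar.hasPairBasis_of_not_square
    (A : M n F).mulVecLin z (fun v => by simp [mulVec_mulVec, hA, smul_mulVec]) hz
  refine ⟨s, ?_⟩
  have e1 := finrank_eq_card_basis b
  simp only [Module.finrank_fin_fun, Fintype.card_sum, Fintype.card_prod, Fintype.card_fin, Fintype.card_bool] at e1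
  omega

theorem isCompl_eigen (h2 : (2 : F) ≠ 0) (A : M n F) (hA : A * A = 1) :
    IsCompl (LinearMap.ker (A + 1).mulVecLin) (LinearMap.range (A + 1).mulVecLin) := by
  have hfix : ∀ w ∈ LinearMap.range (A + 1).mulVecLin, A *ᵥ w = w := by
    rintro _ ⟨u, rfl⟩
    rw [Matrix.mulVecLin_apply, mulVec_mulVec, mul_add, hA, mul_one, add_comm]
  refine ⟨Submodule.disjoint_def.2 fun v hv hv' => ?_, codisjoint_iff.2 (Submodule.eq_top_iff'.2 fun v => ?_)⟩
  · have h := LinearMap.mem_ker.1 hv
    rw [Matrix.mulVecLin_apply, add_mulVec, one_mulVec, hfix v hv', ← two_smul F] at h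
    exact (smul_eq_zero.1 h).resolve_left h2
  · have e : v = (v - (A + 1) *ᵥ ((2 : F)⁻¹ • v)) + (A + 1) *ᵥ ((2 : F)⁻¹ • v) := by rw [sub_add_cancel]
    rw [e]
    refine Submodule.add_mem_sup (LinearMap.mem_ker.2 ?_) (LinearMap.mem_range_self _ _)
    rw [Matrix.mulVecLin_apply, mulVec_sub, mulVec_mulVec, mulVec_smul,
      show (A + 1) * (A + 1) = (2 : F) • (A + 1) by
        rw [mul_add, add_mul, hA, one_mul, mul_one, two_smul]; abel,
      smul_mulVec, smul_smul, inv_mul_cancel₀ h2, one_smul, sub_self]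

theorem isConj_of_invol (h2 : (2 : F) ≠ 0) (A B : GL (Fin n) F) (hA : (A : M n F) * A = 1)
    (hB : (B : M n F) * B = 1) (h : ((A : M n F) + 1).rank = ((B : M n F) + 1).rank) : IsConj A B := by
  set KA := LinearMap.ker ((A : M n F) + 1).mulVecLin
  set RA := LinearMap.range ((A : M n F) + 1).mulVecLin
  set KB := LinearMap.ker ((B : M n F) + 1).mulVecLin
  set RB := LinearMap.range ((B : M n F) + 1).mulVecLin
  have hR : finrank F RA = finrank F RB := h
  have hK : finrank F KA = finrank F KB := by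
    have e1 : finrank F RA + finrank F KA = finrank F (Fin n → F) :=
      ((A : M n F) + 1).mulVecLin.finrank_range_add_finrank_ker
    have e2 : finrank F RB + finrank F KB = finrank F (Fin n → F) :=
      ((B : M n F) + 1).mulVecLin.finrank_range_add_finrank_ker
    omega
  let eK := LinearEquiv.ofFinrankEq KA KB hK
  let eR := LinearEquiv.ofFinrankEq RA RB hR
  let pA := Submodule.prodEquivOfIsCompl KA RA (isCompl_eigen h2 _ hA)
  let pB := Submodule.prodEquivOfIsCompl KB RB (isCompl_eigen h2 _ hB)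
  let e := pA.symm.trans ((eK.prodCongr eR).trans pB)
  have hneg : ∀ (C : M n F), ∀ v ∈ LinearMap.ker (C + 1).mulVecLin, C *ᵥ v = -v := fun C v hv => by
    have h := LinearMap.mem_ker.1 hv
    rw [Matrix.mulVecLin_apply, add_mulVec, one_mulVec] at h
    exact eq_neg_of_add_eq_zero_left h
  have hfix : ∀ (C : M n F), C * C = 1 → ∀ v ∈ LinearMap.range (C + 1).mulVecLin, C *ᵥ v = v := by
    rintro C hC _ ⟨u, rfl⟩
    rw [Matrix.mulVecLin_apply, mulVec_mulVec, mul_add, hC, mul_one, add_comm]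
  refine isConj_of_lin A B e fun v => ?_
  obtain ⟨⟨k, r⟩, rfl⟩ := pA.surjective v
  have ha : (A : M n F) *ᵥ pA (k, r) = pA (-k, r) := by
    show (A : M n F) *ᵥ ((k : Fin n → F) + r) = -(k : Fin n → F) + r
    rw [mulVec_add, hneg _ _ k.2, hfix _ hA _ r.2]
  have hb : ∀ (k : KB) (r : RB), (B : M n F) *ᵥ pB (k, r) = pB (-k, r) := fun k r => by
    show (B : M n F) *ᵥ ((k : Fin n → F) + r) = -(k : Fin n → F) + r
    rw [mulVec_add, hneg _ _ k.2, hfix _ hB _ r.2]
  have he : ∀ x, e (pA x) = pB (eK x.1, eR x.2) := fun x => by simp [e]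
  rw [ha, he, he, hb, map_neg]

theorem rank_conj (g : GL (Fin n) F) (A : M n F) :
    ((g : M n F) * A * ((g⁻¹ : GL (Fin n) F) : M n F)).rank = A.rank := by
  rw [Matrix.rank_mul_eq_left_of_isUnit_det _ _ ((Matrix.isUnit_iff_isUnit_det _).1 (g⁻¹).isUnit),
    Matrix.rank_mul_eq_right_of_isUnit_det _ _ ((Matrix.isUnit_iff_isUnit_det _).1 g.isUnit)]

/-- `diag(-1, …, -1, 1, …, 1)` with `i` minus ones. -/
def dInv (n : ℕ) (F : Type*) [Field F] (i : ℕ) : GL (Fin n) F :=
  ⟨diagonal fun j => if (j : ℕ) < i then -1 else 1, diagonal fun j => if (j : ℕ) < i then -1 else 1,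
    by rw [diagonal_mul_diagonal, ← diagonal_one]; congr 1; funext j; split_ifs <;> simp,
    by rw [diagonal_mul_diagonal, ← diagonal_one]; congr 1; funext j; split_ifs <;> simp⟩

theorem dInv_sq (i : ℕ) : (dInv n F i : M n F) * dInv n F i = 1 := (dInv n F i).val_inv

theorem rank_dInv (h2 : (2 : F) ≠ 0) {i : ℕ} (hi : i ≤ n) :
    ((dInv n F i : M n F) + 1).rank = n - i ∧ (-(dInv n F i : M n F) + 1).rank = i := by
  classical
  have e1 : (dInv n F i : M n F) + 1 = diagonal (fun j : Fin n => if (j : ℕ) < i then 0 else (2 : F)) := by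
    show diagonal _ + 1 = _
    rw [← diagonal_one, diagonal_add]
    congr 1; funext j; split_ifs <;> norm_num
  have e2 : -(dInv n F i : M n F) + 1 = diagonal (fun j : Fin n => if (j : ℕ) < i then (2 : F) else 0) := by
    show -diagonal _ + 1 = _
    rw [diagonal_neg, ← diagonal_one, diagonal_add]
    congr 1; funext j; split_ifs <;> norm_num
  have hc := Fin.card_filter_val_lt (n := n) (m := i)
  constructor
  · rw [e1, Matrix.rank_diagonal, Fintype.card_subtype]
    have : (Finset.univ.filter fun j : Fin n => (if (j : ℕ) < i then 0 else (2 : F)) ≠ 0) =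
        Finset.univ.filter fun j : Fin n => ¬ (j : ℕ) < i := Finset.filter_congr fun j _ => by split_ifs with h <;> simp [h, h2]
    rw [this]
    have := Finset.card_filter_add_card_filter_not (s := (Finset.univ : Finset (Fin n))) (fun j => (j : ℕ) < i)
    rw [hc, Finset.card_univ, Fintype.card_fin] at this
    omega
  · rw [e2, Matrix.rank_diagonal, Fintype.card_subtype]
    have : (Finset.univ.filter fun j : Fin n => (if (j : ℕ) < i then (2 : F) else 0) ≠ 0) =
        Finset.univ.filter fun j : Fin n => (j : ℕ) < i := Finset.filter_congr fun j _ => by split_ifs with h <;> simp [h, h2]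
    rw [this, hc]
    omega

/-- The scalar matrix as a unit. -/
def sc (c : Fˣ) : GL (Fin n) F := Units.map (Matrix.scalar (Fin n)).toMonoidHom c

theorem sc_val (c : Fˣ) : (sc (n := n) c : M n F) = (c : F) • 1 := by
  show Matrix.scalar (Fin n) (c : F) = _
  rw [Matrix.scalar_apply, Matrix.smul_one_eq_diagonal]

theorem mk_eq_mk {A B : GL (Fin n) F} :
    (A : GL (Fin n) F ⧸ Subgroup.center (GL (Fin n) F)) = (B : GL (Fin n) F ⧸ Subgroup.center (GL (Fin n) F)) ↔
      ∃ c : Fˣ, B = A * sc c := by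
  rw [QuotientGroup.eq, Matrix.GeneralLinearGroup.center_eq_range_scalar]
  constructor
  · rintro ⟨c, hc⟩
    refine ⟨c, ?_⟩
    rw [show sc c = A⁻¹ * B from hc ▸ Units.ext rfl]
    simp
  · rintro ⟨c, rfl⟩
    exact ⟨c, by rw [inv_mul_cancel_left]; exact Units.ext rfl⟩

theorem mk_eq_one {A : GL (Fin n) F} :
    (A : GL (Fin n) F ⧸ Subgroup.center (GL (Fin n) F)) = 1 ↔ ∃ c : Fˣ, (A : M n F) = (c : F) • 1 := by
  rw [← QuotientGroup.mk_one, eq_comm, mk_eq_mk]
  simp only [one_mul]
  exact exists_congr fun c => ⟨fun h => by rw [h, sc_val], fun h => Units.ext (by rw [h, sc_val])⟩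

theorem mk_isConj {A B : GL (Fin n) F} :
    IsConj (A : GL (Fin n) F ⧸ Subgroup.center (GL (Fin n) F)) (B : GL (Fin n) F ⧸ Subgroup.center (GL (Fin n) F)) ↔
      ∃ c : Fˣ, IsConj A (B * sc c) := by
  constructor
  · intro h
    obtain ⟨g, hg⟩ := isConj_iff.1 h
    obtain ⟨g, rfl⟩ := QuotientGroup.mk_surjective g
    have hg' : ((g * A * g⁻¹ : GL (Fin n) F) : GL (Fin n) F ⧸ Subgroup.center (GL (Fin n) F)) = B := hg
    obtain ⟨c, hc⟩ := mk_eq_mk.1 hg'.symm
    exact ⟨c, isConj_iff.2 ⟨g, hc⟩⟩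
  · rintro ⟨c, h⟩
    have h' : IsConj (A : GL (Fin n) F ⧸ Subgroup.center (GL (Fin n) F))
        ((B * sc c : GL (Fin n) F) : GL (Fin n) F ⧸ Subgroup.center (GL (Fin n) F)) :=
      MonoidHom.map_isConj (QuotientGroup.mk' (Subgroup.center (GL (Fin n) F))) h
    rwa [← mk_eq_mk.2 ⟨c, rfl⟩] at h'

theorem mk_sq {A : GL (Fin n) F} :
    (A : GL (Fin n) F ⧸ Subgroup.center (GL (Fin n) F)) ^ 2 = 1 ↔ ∃ c : Fˣ, (A : M n F) * A = (c : F) • 1 := by
  rw [pow_two, ← QuotientGroup.mk_mul, mk_eq_one, Units.val_mul]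

theorem card_classes [Fintype F] (h2 : ringChar F ≠ 2) (hn : 2 ≤ n) :
    Nat.card {C : ConjClasses (GL (Fin n) F ⧸ Subgroup.center (GL (Fin n) F)) //
      ∃ g : GL (Fin n) F ⧸ Subgroup.center (GL (Fin n) F), ConjClasses.mk g = C ∧ orderOf g = 2} =
      n / 2 + (if Even n then 1 else 0) := by
  classical
  have h2' : (2 : F) ≠ 0 := Ring.two_ne_zero h2
  haveI : Fact (Nat.Prime 2) := ⟨Nat.prime_two⟩
  haveI : Nonempty (Fin n) := ⟨⟨0, by omega⟩⟩
  obtain ⟨δ, hδ⟩ := FiniteField.exists_nonsquare h2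
  have hδ0 : δ ≠ 0 := fun h => hδ (h ▸ IsSquare.zero)
  let P := GL (Fin n) F ⧸ Subgroup.center (GL (Fin n) F)
  let f : Fin (n / 2) → ConjClasses P := fun i => ConjClasses.mk ((dInv n F ((i : ℕ) + 1) : GL (Fin n) F) : P)
  have hsq_scale : ∀ (A : GL (Fin n) F) (c : Fˣ), ((A * sc c : GL (Fin n) F) : M n F) = (c : F) • (A : M n F) := by
    intro A c
    rw [Units.val_mul, sc_val, mul_smul_comm, mul_one]
  have hdj : ∀ i j : Fin (n / 2), IsConj ((dInv n F ((i : ℕ) + 1) : GL (Fin n) F) : P) ((dInv n F ((j : ℕ) + 1) : GL (Fin n) F) : P) → i = j := by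
    intro i j h
    obtain ⟨c, hc⟩ := mk_isConj.1 h
    obtain ⟨g, hg⟩ := isConj_iff.1 hc
    have hg' : (g : M n F) * (dInv n F ((i : ℕ) + 1) : M n F) * ((g⁻¹ : GL (Fin n) F) : M n F) =
        (c : F) • (dInv n F ((j : ℕ) + 1) : M n F) := by
      rw [← hsq_scale, ← hg]; rfl
    have hc2 : (c : F) * c = 1 := by
      have h1 : ((c : F) * c) • (1 : M n F) = (1 : F) • 1 := by
        rw [← dInv_sq (n := n) (F := F) ((j : ℕ) + 1), ← smul_mul_smul_comm, ← hg', one_smul]
        calc _ = (g : M n F) * ((dInv n F ((i : ℕ) + 1) : M n F) * (((g⁻¹ : GL (Fin n) F) : M n F) * g) *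
              (dInv n F ((i : ℕ) + 1) : M n F)) * ((g⁻¹ : GL (Fin n) F) : M n F) := by simp only [mul_assoc]
          _ = _ := by rw [Units.inv_mul, mul_one, dInv_sq, mul_one, Units.mul_inv, dInv_sq]
      exact smul_left_injective F one_ne_zero h1
    have hr : ((c : F) • (dInv n F ((j : ℕ) + 1) : M n F) + 1).rank = ((dInv n F ((i : ℕ) + 1) : M n F) + 1).rank := by
      rw [← hg', ← rank_conj g ((dInv n F ((i : ℕ) + 1) : M n F) + 1), mul_add, add_mul, mul_one, Units.mul_inv]
    have hi := i.isLt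
    have hj := j.isLt
    rw [(rank_dInv h2' (show (i : ℕ) + 1 ≤ n by omega)).1] at hr
    rcases mul_self_eq_one_iff.1 hc2 with h | h <;> rw [h] at hr
    · rw [one_smul, (rank_dInv h2' (show (j : ℕ) + 1 ≤ n by omega)).1] at hr
      exact Fin.ext (by omega)
    · rw [neg_one_smul, (rank_dInv h2' (show (j : ℕ) + 1 ≤ n by omega)).2] at hr
      exact Fin.ext (by omega)
  have hinj : Function.Injective f := fun i j h => hdj i j (ConjClasses.mk_eq_mk_iff_isConj.1 h)
  have hord : ∀ A : GL (Fin n) F, (∀ c : F, (A : M n F) ≠ c • 1) → (∃ z : Fˣ, (A : M n F) * A = (z : F) • 1) →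
      orderOf (A : P) = 2 := fun A hne hz =>
    orderOf_eq_prime (mk_sq.2 hz) fun h => by
      obtain ⟨c, hc⟩ := mk_eq_one.1 h
      exact hne _ hc
  have hfmem : ∀ i, f i ∈ {C : ConjClasses P | ∃ g : P, ConjClasses.mk g = C ∧ orderOf g = 2} := by
    intro i
    have hi := i.isLt
    refine ⟨_, rfl, hord _ (fun c hc => ?_) ⟨1, by rw [dInv_sq, Units.val_one, one_smul]⟩⟩
    have e1 : (diagonal fun j : Fin n => if (j : ℕ) < (i : ℕ) + 1 then (-1 : F) else 1) = c • 1 := hc
    rw [Matrix.smul_one_eq_diagonal] at e1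
    have ea := congrFun (diagonal_injective e1) ⟨0, by omega⟩
    have eb := congrFun (diagonal_injective e1) ⟨n - 1, by omega⟩
    simp only [Nat.succ_pos, if_true] at ea
    rw [if_neg (by simp only; omega)] at eb
    exact h2' (by linear_combination eb - ea)
  -- every involution
  have hall : ∀ A : GL (Fin n) F, orderOf (A : P) = 2 →
      (∃ i, ConjClasses.mk (A : P) = f i) ∨ ∃ c : F, (A : M n F) * A = (c * c * δ) • 1 ∧ c ≠ 0 := by
    intro A hA
    have hA2 : (A : P) ^ 2 = 1 := by rw [← hA]; exact pow_orderOf_eq_one _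
    obtain ⟨z, hz⟩ := mk_sq.1 hA2
    by_cases hsq : IsSquare (z : F)
    · left
      obtain ⟨s, hs⟩ := hsq
      have hs0 : s ≠ 0 := fun h => z.ne_zero (by rw [hs, h, zero_mul])
      set c : Fˣ := (Units.mk0 s hs0)⁻¹
      set A' := A * sc c with hA'
      have hA'2 : (A' : M n F) * A' = 1 := by
        rw [hA', hsq_scale, smul_mul_smul_comm, hz, smul_smul, hs]
        simp only [c, Units.val_inv_eq_inv_val, Units.val_mk0]
        rw [show s⁻¹ * s⁻¹ * (s * s) = 1 by field_simp, one_smul]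
      set r := ((A' : M n F) + 1).rank with hr
      have hrle : r ≤ n := (Matrix.rank_le_card_width _).trans (le_of_eq (Fintype.card_fin n))
      have hne : ∀ d : Fˣ, (A' : M n F) ≠ (d : F) • 1 := fun d hd => by
        have : (A : P) = 1 := by
          rw [mk_eq_mk.2 ⟨c, rfl⟩, ← hA', mk_eq_one]
          exact ⟨d, hd⟩
        rw [this, orderOf_one] at hA
        omega
      have hr0 : r ≠ 0 := fun h0 => hne (-1) (by
        rw [hr, Matrix.rank, Submodule.finrank_eq_zero, LinearMap.range_eq_bot, ← Matrix.toLin'_apply',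
          LinearEquiv.map_eq_zero_iff] at h0
        rw [eq_neg_of_add_eq_zero_left h0, Units.val_neg, Units.val_one, neg_one_smul])
      have hrn : r ≠ n := fun h0 => hne 1 (by
        have hc := isCompl_eigen h2' _ hA'2
        have htop : LinearMap.range ((A' : M n F) + 1).mulVecLin = ⊤ := by
          apply Submodule.eq_top_of_finrank_eq
          rw [Module.finrank_fin_fun]
          exact h0
        rw [Units.val_one, one_smul]
        refine Matrix.toLin'.injective (LinearMap.ext fun v => ?_)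
        obtain ⟨u, rfl⟩ : v ∈ LinearMap.range ((A' : M n F) + 1).mulVecLin := by rw [htop]; trivial
        rw [Matrix.toLin'_apply, Matrix.toLin'_apply, one_mulVec, Matrix.mulVecLin_apply, mulVec_mulVec, mul_add,
          hA'2, mul_one, add_comm])
      have hcl : (A : P) = (A' : P) := mk_eq_mk.2 ⟨c, rfl⟩
      by_cases hhalf : n - r ≤ n / 2
      · refine ⟨⟨n - r - 1, by omega⟩, ConjClasses.mk_eq_mk_iff_isConj.2 ?_⟩
        rw [hcl, mk_isConj]
        refine ⟨1, ?_⟩
        rw [show sc (1 : Fˣ) = (1 : GL (Fin n) F) from Units.ext (by rw [sc_val, Units.val_one, one_smul, Units.val_one]), mul_one]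
        refine isConj_of_invol h2' _ _ hA'2 (dInv_sq _) ?_
        rw [(rank_dInv h2' (show n - r - 1 + 1 ≤ n by omega)).1, ← hr]
        omega
      · refine ⟨⟨r - 1, by omega⟩, ConjClasses.mk_eq_mk_iff_isConj.2 ?_⟩
        rw [hcl, mk_isConj]
        refine ⟨-1, isConj_of_invol h2' _ _ hA'2 ?_ ?_⟩
        · rw [hsq_scale, smul_mul_smul_comm, dInv_sq]; simp
        · rw [← hr, hsq_scale, Units.val_neg, Units.val_one, neg_one_smul,
            (rank_dInv h2' (show r - 1 + 1 ≤ n by omega)).2]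
          omega
    · right
      have hq : IsSquare ((z : F) * δ⁻¹) := by
        rw [← quadraticChar_one_iff_isSquare (mul_ne_zero z.ne_zero (inv_ne_zero hδ0)), map_mul,
          quadraticChar_neg_one_iff_not_isSquare.2 hsq, quadraticChar_neg_one_iff_not_isSquare.2
            (fun h => hδ (by simpa using h.inv))]
        rfl
      obtain ⟨s, hs⟩ := hq
      refine ⟨s, ?_, fun h => mul_ne_zero z.ne_zero (inv_ne_zero hδ0) (by rw [hs, h, zero_mul])⟩
      rw [hz, ← hs, mul_assoc, inv_mul_cancel₀ hδ0, mul_one]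
  by_cases he : Even n
  · rw [if_pos he]
    obtain ⟨s, hs⟩ := he
    let e : Fin s ⊕ Fin s ≃ Fin n := finSumFinEquiv.trans (finCongr hs.symm)
    let W0 : M n F := Matrix.reindex e e (fromBlocks 0 (δ • 1) 1 0)
    have hW0 : W0 * W0 = δ • 1 := by
      simp only [W0, Matrix.reindex_apply, submatrix_mul_equiv, fromBlocks_multiply]
      simp only [Matrix.mul_zero, Matrix.zero_mul, mul_one, one_mul, zero_add, add_zero]
      rw [show fromBlocks (δ • (1 : Matrix (Fin s) (Fin s) F)) 0 0 (δ • 1) =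
        δ • (1 : Matrix (Fin s ⊕ Fin s) (Fin s ⊕ Fin s) F) by rw [← fromBlocks_one, fromBlocks_smul]; simp]
      rw [Matrix.submatrix_smul]
      simp
    have hWu : W0 * (δ⁻¹ • W0) = 1 := by rw [mul_smul_comm, hW0, smul_smul, inv_mul_cancel₀ hδ0, one_smul]
    let W : GL (Fin n) F := ⟨W0, δ⁻¹ • W0, hWu, mul_eq_one_comm.1 hWu⟩
    let G : Fin (n / 2) ⊕ Unit → ConjClasses P := Sum.elim f fun _ => ConjClasses.mk (W : P)
    have hG : Function.Injective G := by
      refine hinj.sumElim (fun _ _ _ => rfl) fun i _ h => ?_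
      obtain ⟨c, hc⟩ := mk_isConj.1 (ConjClasses.mk_eq_mk_iff_isConj.1 h)
      obtain ⟨g, hg⟩ := isConj_iff.1 hc
      have h1 : ((c : F) * c * δ) • (1 : M n F) = (1 : F) • 1 := by
        have hsq : (g * dInv n F ((i : ℕ) + 1) * g⁻¹) * (g * dInv n F ((i : ℕ) + 1) * g⁻¹) = 1 := by
          rw [show (g * dInv n F ((i : ℕ) + 1) * g⁻¹) * (g * dInv n F ((i : ℕ) + 1) * g⁻¹) =
            g * (dInv n F ((i : ℕ) + 1) * dInv n F ((i : ℕ) + 1)) * g⁻¹ by group,
            show dInv n F ((i : ℕ) + 1) * dInv n F ((i : ℕ) + 1) = 1 from Units.ext (dInv_sq _), mul_one, mul_inv_cancel]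
        rw [hg] at hsq
        have h3 : ((W * sc c : GL (Fin n) F) : M n F) * ((W * sc c : GL (Fin n) F) : M n F) = 1 := congrArg Units.val hsq
        rw [hsq_scale, smul_mul_smul_comm, show ((W : GL (Fin n) F) : M n F) * W = δ • 1 from hW0, smul_smul] at h3
        rw [h3, one_smul]
      have h4 := smul_left_injective F (one_ne_zero (α := M n F)) h1
      refine hδ ⟨(c : F)⁻¹, ?_⟩
      have := c.ne_zero
      field_simp
      linear_combination h4
    have hset : {C : ConjClasses P | ∃ g : P, ConjClasses.mk g = C ∧ orderOf g = 2} = Set.range G := by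
      ext C
      constructor
      · rintro ⟨g, rfl, hg⟩
        obtain ⟨A, rfl⟩ := QuotientGroup.mk_surjective g
        rcases hall A hg with ⟨i, hi⟩ | ⟨c, hc, hc0⟩
        · exact ⟨.inl i, hi.symm⟩
        · refine ⟨.inr (), ConjClasses.mk_eq_mk_iff_isConj.2 (mk_isConj.2 ⟨(Units.mk0 c hc0)⁻¹, ?_⟩)⟩
          refine isConj_of_nonsquare _ _ hδ hW0 ?_
          rw [hsq_scale, smul_mul_smul_comm, hc, smul_smul, Units.val_inv_eq_inv_val, Units.val_mk0]
          congr 1
          field_simp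
      · rintro ⟨(i | u), rfl⟩
        · exact hfmem i
        · refine ⟨_, rfl, hord W (fun c hc => ?_) ⟨Units.mk0 δ hδ0, hW0⟩⟩
          have h3 : W0 * W0 = (c * c) • (1 : M n F) := by
            rw [show W0 = c • (1 : M n F) from hc, smul_mul_smul_comm, one_mul]
          exact hδ ⟨c, smul_left_injective F one_ne_zero (hW0.symm.trans h3)⟩
    show Nat.card ↥{C : ConjClasses P | ∃ g : P, ConjClasses.mk g = C ∧ orderOf g = 2} = _
    rw [hset, Nat.card_range_of_injective hG]
    simp
  · rw [if_neg he, add_zero]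
    have hset : {C : ConjClasses P | ∃ g : P, ConjClasses.mk g = C ∧ orderOf g = 2} = Set.range f := by
      ext C
      constructor
      · rintro ⟨g, rfl, hg⟩
        obtain ⟨A, rfl⟩ := QuotientGroup.mk_surjective g
        rcases hall A hg with ⟨i, hi⟩ | ⟨c, hc, hc0⟩
        · exact ⟨i, hi.symm⟩
        · exfalso
          refine he (even_of_nonsquare A (fun hsq => hδ ?_) hc)
          obtain ⟨r, hr⟩ := hsq
          exact ⟨r / c, by field_simp; linear_combination hr⟩
      · rintro ⟨i, rfl⟩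
        exact hfmem i
    show Nat.card ↥{C : ConjClasses P | ∃ g : P, ConjClasses.mk g = C ∧ orderOf g = 2} = _
    rw [hset, Nat.card_range_of_injective hinj, Nat.card_fin]

end Cfsg.Agent.PGLInvol57
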