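import Cfsg.Statements.S2617


set_option autoImplicit false
open Cfsg

namespace Cfsg.Agent.S2617

/-- The two standard quadratic forms of even dimension 2m over a finite field are not isometric: there is no linear isomorphism carrying the elliptic form Σ_(i<m−1) x_i y_i + z₁² + z₁z₂ + ζ z₂² (t² + t + ζ without roots) to the hyperbolic form Σ_(i<m) x_i y_i (they have different Witt index). -/
theorem result {F : Type*} [Field F] [Finite F] {m : ℕ} (hm : 1 ≤ m) (ζ : F) (hζ : ∀ t : F, t ^ 2 + t + ζ ≠ 0) (g : (Fin m ⊕ Fin m → F) ≃ₗ[F] ((Fin (m - 1) ⊕ Fin (m - 1)) ⊕ Fin 2 → F)) : ¬ (∀ v : Fin m ⊕ Fin m → F, Cfsg.quadFormMinus (m - 1) F 1 ζ (g v) = Cfsg.quadFormPlus m F v) := by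
  intro hiso
  let W : Submodule F (Fin m ⊕ Fin m → F) :=
    { carrier := {v | ∀ i, v (Sum.inr i) = 0}
      add_mem' := fun {a b} ha hb i => by simp [ha i, hb i]
      zero_mem' := fun i => rfl
      smul_mem' := fun c a ha i => by simp [ha i] }
  have hWdim : m ≤ Module.finrank F W := by
    refine le_of_eq_of_le ?_ (LinearMap.finrank_le_finrank_of_injective
      (f := ({ toFun := fun (x : Fin m → F) => (⟨Sum.elim x 0, fun i => rfl⟩ : W),
               map_add' := fun x y => Subtype.ext (funext fun k => by cases k <;> simp),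
               map_smul' := fun c x => Subtype.ext (funext fun k => by cases k <;> simp) } :
        (Fin m → F) →ₗ[F] W))
      (fun x y h => funext fun i => congrFun (congrArg Subtype.val h) (Sum.inl i)))
    simp
  let P : W →ₗ[F] ((Fin (m - 1) ⊕ Fin (m - 1)) ⊕ Fin 2 → F) := g.toLinearMap ∘ₗ W.subtype
  have hP0 : ∀ w : W, Cfsg.quadFormMinus (m - 1) F 1 ζ (P w) = 0 := by
    intro w
    rw [show P w = g w from rfl, hiso]
    exact Finset.sum_eq_zero fun i _ => by rw [w.2 i, mul_zero]
  let X : W →ₗ[F] (Fin (m - 1) → F) :=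
    LinearMap.funLeft F F (fun i => Sum.inl (Sum.inl i)) ∘ₗ P
  let Y : W →ₗ[F] (Fin (m - 1) → F) :=
    LinearMap.funLeft F F (fun i => Sum.inl (Sum.inr i)) ∘ₗ P
  have hz : ∀ z₁ z₂ : F, z₁ ^ 2 + 1 * z₁ * z₂ + ζ * z₂ ^ 2 = 0 → z₁ = 0 ∧ z₂ = 0 := by
    intro z₁ z₂ h
    by_cases h2 : z₂ = 0
    · subst h2
      exact ⟨by simpa using h, rfl⟩
    · exact absurd (by field_simp; linear_combination h) (hζ (z₁ / z₂))
  have hz0 : ∀ w : W, X w = 0 → P w (Sum.inr 0) = 0 ∧ P w (Sum.inr 1) = 0 := by
    intro w hw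
    apply hz
    have h := hP0 w
    rw [Cfsg.quadFormMinus, Finset.sum_eq_zero (fun i _ => ?_), zero_add] at h
    · exact h
    · rw [show P w (Sum.inl (Sum.inl i)) = X w i from rfl, hw]
      simp
  let B : LinearMap.BilinForm F (Fin (m - 1) → F) := Matrix.toBilin' 1
  have hB : B.Nondegenerate :=
    LinearMap.BilinForm.nondegenerate_toBilin'_of_det_ne_zero' _ (by simp)
  let A : Submodule F (Fin (m - 1) → F) := Submodule.map Y (LinearMap.ker X)
  have hA : Module.finrank F (LinearMap.ker X) ≤ Module.finrank F A := by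
    refine LinearMap.finrank_le_finrank_of_injective
      (f := (Y.comp (LinearMap.ker X).subtype).codRestrict A
        (fun x => Submodule.mem_map_of_mem x.2)) ?_
    rw [injective_iff_map_eq_zero]
    rintro ⟨w, hw⟩ h
    have hY : Y w = 0 := congrArg Subtype.val h
    have hzw := hz0 w hw
    have : P w = 0 := by
      funext k
      rcases k with (i | i) | k
      · exact congrFun (LinearMap.mem_ker.1 hw) i
      · exact congrFun hY i
      · fin_cases k
        · exact hzw.1
        · exact hzw.2
    apply Subtype.ext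
    apply Subtype.ext
    exact g.injective (this.trans (map_zero _).symm)
  have hle : LinearMap.range X ≤ B.orthogonal A := by
    rintro _ ⟨w, rfl⟩ _ ⟨w', hw', rfl⟩
    show B (Y w') (X w) = 0
    rw [Matrix.toBilin'_apply', Matrix.one_mulVec]
    have h := hP0 (w + w')
    have h1 := hP0 w
    have h2 := hP0 w'
    have hzw := hz0 w' hw'
    have hX : ∀ i, P w' (Sum.inl (Sum.inl i)) = 0 := fun i => congrFun (LinearMap.mem_ker.1 hw') i
    simp only [Cfsg.quadFormMinus, map_add, Pi.add_apply, hX, hzw.1, hzw.2, add_zero, mul_add,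
      zero_mul, Finset.sum_add_distrib] at h h1
    simp only [dotProduct]
    rw [show (∑ i, Y w' i * X w i)
      = ∑ i, P w (Sum.inl (Sum.inl i)) * P w' (Sum.inl (Sum.inr i)) from
      Finset.sum_congr rfl fun i _ => mul_comm _ _]
    linear_combination h - h1
  have h1 := Submodule.finrank_mono hle
  rw [LinearMap.BilinForm.finrank_orthogonal hB] at h1
  have h2 := X.finrank_range_add_finrank_ker
  have h3 : Module.finrank F A ≤ Module.finrank F (Fin (m - 1) → F) := Submodule.finrank_le _
  simp only [Module.finrank_fintype_fun_eq_card, Fintype.card_fin] at h1 h3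
  omega

end Cfsg.Agent.S2617
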