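import Cfsg.Agent.S2616
import Cfsg.Agent.S2617
import Cfsg.Agent.Lib.AutPOmega.FieldBase
import Cfsg.Agent.Lib.Orth.NegOne

/-!
The two isometry classes of non-degenerate quadratic forms in even dimension over a finite field.
-/

set_option autoImplicit false
set_option linter.unusedSectionVars false

namespace Cfsg.Agent.PlusClasses57

open Matrix QuadraticMap CfsgLib.Orth

variable {F : Type*} [Field F]

/-- `1 - 4ζ` and the Artin–Schreier classes: two irreducible binary forms `z₁² + z₁z₂ + ζz₂²` are linked. -/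
theorem exists_link [Finite F] {ζ ζ' : F} (hζ : ∀ t : F, t ^ 2 + t + ζ ≠ 0)
    (hζ' : ∀ t : F, t ^ 2 + t + ζ' ≠ 0) : ∃ u : F, 1 - 2 * u ≠ 0 ∧ ζ + (1 - 4 * ζ) * (u - u ^ 2) = ζ' := by
  have := Fintype.ofFinite F
  by_cases h2 : (2 : F) = 0
  · let φ : F →+ F :=
      { toFun := fun t => t ^ 2 + t
        map_zero' := by simp
        map_add' := fun a b => by linear_combination (a * b) * h2 }
    have hker : Nat.card φ.ker = 2 := by
      have e : (φ.ker : Set F) = {0, -1} := by
        ext t
        simp only [SetLike.mem_coe, AddMonoidHom.mem_ker, Set.mem_insert_iff, Set.mem_singleton_iff]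
        show t ^ 2 + t = 0 ↔ _
        rw [show t ^ 2 + t = t * (t + 1) by ring, mul_eq_zero, add_eq_zero_iff_eq_neg]
      rw [← SetLike.coe_sort_coe, e, Nat.card_coe_set_eq, Set.ncard_pair]
      simp
    have hidx : φ.range.index = 2 := by
      have h1 := AddSubgroup.index_ker φ
      have h2' := φ.range.index_mul_card
      have h3 := φ.ker.index_mul_card
      rw [h1, hker] at h3
      rw [← h3, mul_comm (Nat.card φ.range)] at h2'
      exact Nat.eq_of_mul_eq_mul_right Nat.card_pos h2'
    have hn : ∀ {x : F}, (∀ t : F, t ^ 2 + t + x ≠ 0) → x ∉ φ.range := by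
      rintro x hx ⟨t, ht⟩
      refine hx t ?_
      change t ^ 2 + t = x at ht
      linear_combination ht + x * h2
    obtain ⟨u, hu⟩ : ζ + ζ' ∈ φ.range :=
      (AddSubgroup.add_mem_iff_of_index_two hidx).2 (iff_of_false (hn hζ) (hn hζ'))
    change u ^ 2 + u = ζ + ζ' at hu
    refine ⟨u, by rw [h2, zero_mul, sub_zero]; exact one_ne_zero, ?_⟩
    linear_combination hu + (ζ - u ^ 2 - 2 * ζ * u + 2 * ζ * u ^ 2) * h2
  · have hns : ∀ {x : F}, (∀ t : F, t ^ 2 + t + x ≠ 0) → ¬ IsSquare (1 - 4 * x) := by
      rintro x hx ⟨s, hs⟩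
      refine hx ((s - 1) / 2) ?_
      field_simp
      linear_combination -hs
    have hdiv : IsSquare ((1 - 4 * ζ') / (1 - 4 * ζ)) := by
      classical
      have h1 := hns hζ
      have h1' := hns hζ'
      have e1 : (1 : F) - 4 * ζ ≠ 0 := fun h => h1 (by rw [h]; exact IsSquare.zero)
      have e2 : (1 : F) - 4 * ζ' ≠ 0 := fun h => h1' (by rw [h]; exact IsSquare.zero)
      have hchar : ringChar F ≠ 2 := fun h => h2 (by
        have := ringChar.spec F 2
        rw [h] at this
        exact_mod_cast this.2 dvd_rfl)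
      rw [← quadraticChar_one_iff_isSquare (div_ne_zero e2 e1), div_eq_mul_inv, map_mul,
        quadraticChar_neg_one_iff_not_isSquare.2 h1',
        quadraticChar_neg_one_iff_not_isSquare.2 (fun h => h1 (isSquare_inv.1 h))]
      rfl
    obtain ⟨r, hr⟩ := hdiv
    refine ⟨(1 - r) / 2, ?_, ?_⟩
    · rw [mul_div_cancel₀ _ h2, sub_sub_cancel]
      rintro rfl
      rw [mul_zero, div_eq_zero_iff] at hr
      rcases hr with hr | hr
      · exact hns hζ' (by rw [hr]; exact IsSquare.zero)
      · exact hns hζ (by rw [hr]; exact IsSquare.zero)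
    · have e1 : (1 : F) - 4 * ζ ≠ 0 := fun h => hns hζ (by rw [h]; exact IsSquare.zero)
      rw [div_eq_iff e1] at hr
      field_simp
      linear_combination hr

/-- The standard elliptic forms over the same field are isometric. -/
theorem minus_equiv [Finite F] {k : ℕ} {ζ ζ' : F} (hζ : ∀ t : F, t ^ 2 + t + ζ ≠ 0)
    (hζ' : ∀ t : F, t ^ 2 + t + ζ' ≠ 0) :
    ∃ g : ((Fin k ⊕ Fin k) ⊕ Fin 2 → F) ≃ₗ[F] ((Fin k ⊕ Fin k) ⊕ Fin 2 → F),
      ∀ v, minusQ k F 1 ζ (g v) = minusQ k F 1 ζ' v := by
  obtain ⟨u, hu, he⟩ := exists_link hζ hζ'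
  refine ⟨{ toFun := fun v => Sum.elim (fun i => v (.inl i)) ![v (.inr 0) + u * v (.inr 1), (1 - 2 * u) * v (.inr 1)]
            invFun := fun v => Sum.elim (fun i => v (.inl i))
              ![v (.inr 0) - u * ((1 - 2 * u)⁻¹ * v (.inr 1)), (1 - 2 * u)⁻¹ * v (.inr 1)]
            left_inv := fun v => by
              funext i
              rcases i with i | i
              · rfl
              · fin_cases i <;> simp [inv_mul_cancel_left₀ hu]
            right_inv := fun v => by
              funext i
              rcases i with i | i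
              · rfl
              · fin_cases i <;> simp [mul_inv_cancel_left₀ hu]
            map_add' := fun v w => by
              funext i
              rcases i with i | i
              · rfl
              · fin_cases i <;> simp <;> ring
            map_smul' := fun c v => by
              funext i
              rcases i with i | i
              · rfl
              · fin_cases i <;> simp <;> ring }, fun v => ?_⟩
  rw [minusQ_coe, minusQ_coe]
  simp [Cfsg.quadFormMinus]
  linear_combination (v (.inr 1)) ^ 2 * he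

variable {m : ℕ}

/-- `R` is hyperbolic. -/
def IsPlus (R : QuadraticForm F (Fin m ⊕ Fin m → F)) : Prop :=
  ∃ k : (Fin m ⊕ Fin m → F) ≃ₗ[F] (Fin m ⊕ Fin m → F), ∀ w, R (k w) = plusQ m F w

theorem exists_minus [Finite F] (hm : 1 ≤ m) (R : QuadraticForm F (Fin m ⊕ Fin m → F))
    (hR : R.polarBilin.Nondegenerate) (hP : ¬ IsPlus R) :
    ∃ (ζ : F) (k : ((Fin (m - 1) ⊕ Fin (m - 1)) ⊕ Fin 2 → F) ≃ₗ[F] (Fin m ⊕ Fin m → F)),
      (∀ t : F, t ^ 2 + t + ζ ≠ 0) ∧ ∀ w, R (k w) = minusQ (m - 1) F 1 ζ w := by
  rcases Cfsg.Agent.S2616.result hm (by simp; omega) R hR with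
    ⟨b, hs, hef, heq⟩ | ⟨b, ζ, hζ, hs, hef, heq, hez, hx, hxy, hy⟩
  · refine absurd ⟨b.equivFun.symm, fun w => ?_⟩ hP
    have hb : ∀ j, b.equivFun.symm (Pi.single j 1) = b j := fun j => by simp
    have key : R.comp b.equivFun.symm.toLinearMap = plusQ m F := by
      refine CfsgLib.FieldPOmega.ext_of_basis (fun j => ?_) (fun i j => ?_)
      · rw [QuadraticMap.comp_apply, LinearEquiv.coe_coe, hb]
        rcases j with j | j <;> simp [plusQ_coe, Cfsg.quadFormPlus, hs]
      · have e : polar (R.comp b.equivFun.symm.toLinearMap) (Pi.single i 1) (Pi.single j 1) =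
            polar R (b i) (b j) := by
          simp only [QuadraticMap.polar, QuadraticMap.comp_apply, map_add, LinearEquiv.coe_coe, hb]
        rw [e, polar_plusQ]
        rcases i with i | i <;> rcases j with j | j <;>
          simp [heq, hef, polar_comm (⇑R) (b (Sum.inr _)) (b (Sum.inl _)), Pi.single_apply, eq_comm]
    exact congrArg (fun P : QuadraticForm F (Fin m ⊕ Fin m → F) => P w) key
  · refine ⟨ζ, b.equivFun.symm, hζ, fun w => ?_⟩
    have hb : ∀ j, b.equivFun.symm (Pi.single j 1) = b j := fun j => by simp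
    have key : R.comp b.equivFun.symm.toLinearMap = minusQ (m - 1) F 1 ζ := by
      refine CfsgLib.FieldPOmega.ext_of_basis (fun j => ?_) (fun i j => ?_)
      · rw [QuadraticMap.comp_apply, LinearEquiv.coe_coe, hb]
        rcases j with (j | j) | j
        · simp [minusQ_coe, Cfsg.quadFormMinus, hs]
        · simp [minusQ_coe, Cfsg.quadFormMinus, hs]
        · fin_cases j <;> simp [minusQ_coe, Cfsg.quadFormMinus, hx, hy]
      · have e : polar (R.comp b.equivFun.symm.toLinearMap) (Pi.single i 1) (Pi.single j 1) =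
            polar R (b i) (b j) := by
          simp only [QuadraticMap.polar, QuadraticMap.comp_apply, map_add, LinearEquiv.coe_coe, hb]
        have hxy' : polar R (b (Sum.inr 1)) (b (Sum.inr 0)) = 1 := by rw [polar_comm]; exact hxy
        rw [e, polar_minusQ]
        rcases i with (i | i) | i <;> rcases j with (j | j) | j
        all_goals first
          | (simp [heq, hef, hez, polar_comm (⇑R) (b (Sum.inl (Sum.inr _))) (b (Sum.inl (Sum.inl _))),
              polar_comm (⇑R) (b (Sum.inr _)) (b (Sum.inl _)), Pi.single_apply, eq_comm] <;> done)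
          | (fin_cases i <;> fin_cases j <;>
              simp [polar_self', hx, hy, hxy, hxy', Pi.single_apply, mul_comm])
    exact congrArg (fun P : QuadraticForm F ((Fin (m - 1) ⊕ Fin (m - 1)) ⊕ Fin 2 → F) => P w) key

theorem isometric_of_not_plus [Finite F] (hm : 1 ≤ m) {R R' : QuadraticForm F (Fin m ⊕ Fin m → F)}
    (hR : R.polarBilin.Nondegenerate) (hR' : R'.polarBilin.Nondegenerate) (h : ¬ IsPlus R)
    (h' : ¬ IsPlus R') :
    ∃ k : (Fin m ⊕ Fin m → F) ≃ₗ[F] (Fin m ⊕ Fin m → F), ∀ w, R (k w) = R' w := by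
  obtain ⟨ζ, a, hζ, ha⟩ := exists_minus hm R hR h
  obtain ⟨ζ', a', hζ', ha'⟩ := exists_minus hm R' hR' h'
  obtain ⟨g, hg⟩ := minus_equiv (k := m - 1) hζ hζ'
  refine ⟨a'.symm.trans (g.trans a), fun w => ?_⟩
  rw [LinearEquiv.trans_apply, LinearEquiv.trans_apply, ha, hg, ← ha', LinearEquiv.apply_symm_apply]

theorem rootless_map {K : Type*} [Field K] [Finite K] [Finite F] (e : F →+* K) {σ : K ≃+* K}
    (he : ∀ y, σ y = y ↔ ∃ a, e a = y) (hodd : Odd (orderOf σ)) {ζ : F}
    (hζ : ∀ t : F, t ^ 2 + t + ζ ≠ 0) (t : K) : t ^ 2 + t + e ζ ≠ 0 := by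
  intro ht
  have hs : σ t ^ 2 + σ t + e ζ = 0 := by
    have h := congrArg σ ht
    rwa [map_add, map_add, map_pow, (he _).2 ⟨ζ, rfl⟩, map_zero] at h
  have hcases : (σ t - t) * (σ t + t + 1) = 0 := by linear_combination hs - ht
  have hfix : σ t = t := by
    rcases mul_eq_zero.1 hcases with h | h
    · exact sub_eq_zero.1 h
    have h1 : σ (σ t) = t := by
      have h' := congrArg σ h
      rw [map_add, map_add, map_one, map_zero] at h'
      linear_combination h' - h
    have hk : ∀ k : ℕ, (σ ^ (2 * k)) t = t := by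
      intro k
      induction k with
      | zero => rfl
      | succ k ih =>
        rw [mul_add, mul_one, pow_succ, pow_succ, RingAut.mul_apply, RingAut.mul_apply, h1, ih]
    obtain ⟨k, hk'⟩ := hodd
    have h2 := pow_orderOf_eq_one σ
    rw [hk', pow_succ'] at h2
    have h3 := congrArg (fun τ : K ≃+* K => τ t) h2
    simp only [RingAut.mul_apply, hk] at h3
    exact h3
  obtain ⟨a, rfl⟩ := (he t).1 hfix
  exact hζ a (e.injective (by rw [map_add, map_add, map_pow, map_zero, ht]))

/-- Multiples of the hyperbolic form are hyperbolic. -/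
theorem isPlus_of_similar {R : QuadraticForm F (Fin m ⊕ Fin m → F)}
    (k : (Fin m ⊕ Fin m → F) ≃ₗ[F] (Fin m ⊕ Fin m → F)) {c : F} (hc : c ≠ 0)
    (h : ∀ w, R (k w) = c * plusQ m F w) : IsPlus R := by
  let s : (Fin m ⊕ Fin m → F) ≃ₗ[F] (Fin m ⊕ Fin m → F) :=
    { toFun := fun v => Sum.elim (fun i => c⁻¹ * v (.inl i)) (fun i => v (.inr i))
      invFun := fun v => Sum.elim (fun i => c * v (.inl i)) (fun i => v (.inr i))
      left_inv := fun v => by funext i; rcases i with i | i <;> simp [mul_inv_cancel_left₀ hc]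
      right_inv := fun v => by funext i; rcases i with i | i <;> simp [inv_mul_cancel_left₀ hc]
      map_add' := fun v w => by funext i; rcases i with i | i <;> simp [mul_add]
      map_smul' := fun t v => by funext i; rcases i with i | i <;> simp [mul_left_comm] }
  refine ⟨s.trans k, fun w => ?_⟩
  rw [LinearEquiv.trans_apply, h, plusQ_coe]
  simp only [Cfsg.quadFormPlus, Finset.mul_sum]
  refine Finset.sum_congr rfl fun i _ => ?_
  show c * (c⁻¹ * w (.inl i) * w (.inr i)) = _
  rw [mul_assoc c⁻¹, mul_inv_cancel_left₀ hc]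

end Cfsg.Agent.PlusClasses57
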