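import Cfsg.Agent.Helper57PlusSplit
import Cfsg.Agent.Helper57OutEight

/-!
Field automorphisms of `PΩ⁺_{2m}(F)`, `m ≥ 4`: centralisers and splitting of classes.
-/

set_option autoImplicit false
set_option linter.unusedSectionVars false

namespace Cfsg.Agent.PlusFieldAut57

open Matrix QuadraticMap CfsgLib.Orth CfsgLib.FieldPOmega
open CfsgLib.FieldGalois hiding semi semi_smul
open Cfsg.Agent.GammaO57 Cfsg.Agent.OutPlus57 Cfsg.Agent.PlusField57 Cfsg.Agent.PlusTwist57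
open Cfsg.Agent.PlusSplit57 Cfsg.Agent.Levi57 Cfsg.Agent.Spinor57

variable {F : Type*} [Field F] [Fintype F] {m : ℕ}

set_option maxHeartbeats 1600000 in
/-- The inner-diagonal group is normal, also in dimension eight. -/
theorem indAut_normal' (hm : 4 ≤ m) : (indAut m F).Normal := by
  classical
  rcases Nat.lt_or_ge m 5 with hm5 | hm5
  swap
  · exact indAut_normal hm5
  obtain rfl : m = 4 := by omega
  by_cases h2 : (2 : F) = 0
  · have : CharP F 2 := CharTwo.of_one_ne_zero_of_two_eq_zero one_ne_zero h2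
    rw [indAut_eq_inn le_rfl]
    infer_instance
  obtain ⟨d₀, hd₀⟩ := CfsgLib.OrthOmega.exists_not_square h2
  set d := Units.mk0 d₀ (fun h => hd₀ (h ▸ IsSquare.zero))
  have hd : ¬ IsSquare (d : F) := hd₀
  have O := Cfsg.Agent.OutEight57.oct_rel h2 hd
  have htri : ∀ γ ∈ indAut 4 F, Cfsg.Agent.Triality57.triality F * γ * (Cfsg.Agent.Triality57.triality F)⁻¹ ∈
      indAut 4 F := by
    intro γ hγ
    obtain ⟨x, hs, hr, rfl⟩ := mem_indAut.1 hγ
    set t := Cfsg.Agent.Triality57.triality F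
    have hw : Cfsg.Agent.OutEight57.gR F * outMap (plusQ 4 F) x * (Cfsg.Agent.OutEight57.gR F)⁻¹ ∈
        clsSub (le_refl 4) d := by
      have hmap : (clsSub (le_refl 4) d).map (MulAut.conj (Cfsg.Agent.OutEight57.gR F)).toMonoidHom ≤
          clsSub (le_refl 4) d := by
        rw [clsSub, MonoidHom.map_closure]
        refine (Subgroup.closure_le _).2 ?_
        rintro _ ⟨y, hy, rfl⟩
        rcases hy with rfl | rfl
        · show Cfsg.Agent.OutEight57.gR F * gT (0 : Fin 4) d * (Cfsg.Agent.OutEight57.gR F)⁻¹ ∈ _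
          rw [O.hRa]
          exact Subgroup.subset_closure (Set.mem_insert_of_mem _ rfl)
        · show Cfsg.Agent.OutEight57.gR F * gD 4 d * (Cfsg.Agent.OutEight57.gR F)⁻¹ ∈ _
          rw [O.hRb]
          exact mul_mem (Subgroup.subset_closure (Set.mem_insert _ _))
            (Subgroup.subset_closure (Set.mem_insert_of_mem _ rfl))
      exact hmap ⟨_, outMap_mem_clsSub h2 (le_refl 4) hd hs hr, rfl⟩
    obtain ⟨dh, hsurj, hdh⟩ := exists_classHom h2 (le_refl 4) hd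
    obtain ⟨y, hy⟩ := hsurj ⟨_, hw⟩
    have hy' : outMap (plusQ 4 F) y.1 =
        Cfsg.Agent.OutEight57.gR F * outMap (plusQ 4 F) x * (Cfsg.Agent.OutEight57.gR F)⁻¹ := by
      rw [← hdh y, hy]
    have hinn : (gAut (plusQ 4 F) y.1)⁻¹ * (t * gAut (plusQ 4 F) x * t⁻¹) ∈
        Cfsg.Inn (Cfsg.POmega F ⇑(plusQ 4 F)) := by
      rw [← QuotientGroup.eq_one_iff]
      show QuotientGroup.mk' (Cfsg.Inn (Cfsg.POmega F ⇑(plusQ 4 F))) _ = 1
      rw [map_mul, map_inv, map_mul, map_mul, map_inv, inv_mul_eq_one]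
      exact hy'
    have h2' := mul_mem (show gAut (plusQ 4 F) y.1 ∈ indAut 4 F from ⟨y.1, y.2, rfl⟩) (inn_le_indAut hinn)
    rwa [mul_inv_cancel_left] at h2'
  refine ⟨fun γ hγ β => ?_⟩
  obtain ⟨x, j, rfl⟩ := Cfsg.Agent.Triality57.exists_gAut_mul_pow β
  have hj : ∀ k : ℕ, Cfsg.Agent.Triality57.triality F ^ k * γ *
      (Cfsg.Agent.Triality57.triality F ^ k)⁻¹ ∈ indAut 4 F := by
    intro k
    induction k with
    | zero => simpa using hγ
    | succ k ih =>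
      rw [pow_succ', show ∀ a b c : MulAut (Cfsg.POmega F ⇑(plusQ 4 F)),
        a * b * c * (a * b)⁻¹ = a * (b * c * b⁻¹) * a⁻¹ from fun a b c => by group]
      exact htri _ ih
  rw [show ∀ a b c : MulAut (Cfsg.POmega F ⇑(plusQ 4 F)),
    a * b * c * (a * b)⁻¹ = a * (b * c * b⁻¹) * a⁻¹ from fun a b c => by group]
  obtain ⟨y, hy, hy'⟩ := hj j
  refine ⟨x * y * x⁻¹, indSub_normal.conj_mem y hy x, ?_⟩
  rw [map_mul, map_mul, map_inv, hy']

variable {F₀ : Type*} [Field F₀] [Fintype F₀] {e : F₀ →+* F} {σ : F ≃+* F}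

/-- The untwisted coordinates of a field automorphism. -/
noncomputable def fieldTwist (he : ∀ y, σ y = y ↔ ∃ a, e a = y) :
    Twist e σ (plusQ m F₀) (fEl (plusQ_fixes (m := m) σ)) where
  T := LinearEquiv.refl F _
  hfix := he
  hQ w := by
    show plusQ m F (e ∘ w) = _
    rw [plusQ_coe, plusQ_coe]
    simp [Cfsg.quadFormPlus]
  hright := rfl
  hX v := by
    show (1 : Matrix (PI' m) (PI' m) F) *ᵥ (σ ∘ v) = σ ∘ v
    rw [one_mulVec]

theorem psgn_emb (hm : 4 ≤ m) (he : ∀ y, σ y = y ↔ ∃ a, e a = y) (x : ↥(simSub (plusQ m F₀))) :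
    psgn m F ((fieldTwist he).emb x) = psgn m F₀ x.1 := by
  set D := fieldTwist (m := m) he
  have hO : ((psgn m F).comp D.emb).comp ((oIn (plusQ m F₀)).codRestrict (simSub (plusQ m F₀)) fun _ => rfl) =
      (psgn m F₀).comp (oIn (plusQ m F₀)) := by
    refine CfsgLib.OrthOmega.hom_ext_refl (reflClosure_plus (Or.inr (by omega))) fun v hv => ?_
    show psgn m F (D.emb (oSim (refl (plusQ m F₀) v))) = psgn m F₀ (oIn (plusQ m F₀) (refl (plusQ m F₀) v))
    rw [D.emb_refl, psgn_refl hv, psgn_refl]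
    rw [D.hQ]
    exact (map_ne_zero e).2 hv
  have hblk : ∀ c : F₀ˣ, psgn m F (D.emb ⟨blkS m F₀ c, rfl⟩) = 1 := by
    intro c
    refine (plusLag m F).sgn_eq_one_of_stab fun w hw => mem_W.2 fun i => ?_
    rw [show w = D.T w from rfl, D.semi_emb]
    show ((blkGL m c : Matrix (PI' m) (PI' m) F₀).map e *ᵥ w) (Sum.inr i) = 0
    show ((fromBlocks ((c : F₀) • (1 : Matrix (Fin m) (Fin m) F₀)) 0 0 1).map e *ᵥ w) (Sum.inr i) = 0
    rw [Matrix.fromBlocks_map, fromBlocks_mulVec]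
    simp [show w ∘ Sum.inr = 0 from funext (mem_W.1 hw)]
  obtain ⟨c, hc⟩ := x.1.2
  rw [show x.1.1.right = 1 from x.2] at hc
  set z : ↥(simSub (plusQ m F₀)) := x * (⟨blkS m F₀ c, rfl⟩ : ↥(simSub (plusQ m F₀)))⁻¹ with hz
  have hzQ : ∀ v, plusQ m F₀ (semi z.1.1 v) = plusQ m F₀ v := by
    intro v
    rw [hz, Subgroup.coe_mul, Subgroup.coe_inv, Subgroup.coe_mul, semi_mul, hc]
    show (c : F₀) * plusQ m F₀ (semi (blkS m F₀ c)⁻¹.1 v) = _
    rw [← map_inv]
    show (c : F₀) * plusQ m F₀ ((blkGL m c⁻¹ : Matrix (PI' m) (PI' m) F₀) *ᵥ ((1 : F₀ ≃+* F₀) ∘ v)) = _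
    rw [blkGL_mulVec, plusQ_coe]
    simp [Cfsg.quadFormPlus, Finset.mul_sum, mul_assoc]
  let g : O (plusQ m F₀) := ⟨z.1.1.left, (mem_O_iff _).2 fun v => by
    have h := hzQ v
    rw [semi, show z.1.1.right = 1 from z.2] at h
    exact h⟩
  have hzg : z = oSim g := Subtype.ext (Subtype.ext (SemidirectProduct.ext rfl z.2))
  have hx : x = oSim g * ⟨blkS m F₀ c, rfl⟩ := by rw [← hzg, hz, inv_mul_cancel_right]
  rw [hx, map_mul, map_mul, hblk, mul_one, Subgroup.coe_mul, map_mul, psgn_blk, mul_one]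
  exact DFunLike.congr_fun hO g

theorem commute_fEl {H : ↥(semiGroup (plusQ m F))} (h1 : H.1.right = 1)
    (hfix : ∀ i j, σ ((H.1.left : Matrix (PI' m) (PI' m) F) i j) = (H.1.left : Matrix (PI' m) (PI' m) F) i j) :
    Commute H (fEl (plusQ_fixes σ)) := by
  refine Subtype.ext (left_ext ?_ fun v => ?_)
  · show H.1.right * σ = σ * H.1.right
    rw [h1, one_mul, mul_one]
  have hs : ∀ u, semi (fEl (plusQ_fixes (m := m) σ)).1 u = σ ∘ u := fun u => by
    show (1 : Matrix (PI' m) (PI' m) F) *ᵥ (σ ∘ u) = _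
    rw [one_mulVec]
  rw [Subgroup.coe_mul, Subgroup.coe_mul, semi_mul, semi_mul, hs, hs, semi, semi, h1]
  funext i
  show ((H.1.left : Matrix (PI' m) (PI' m) F) *ᵥ (σ ∘ v)) i = σ (((H.1.left : Matrix (PI' m) (PI' m) F) *ᵥ v) i)
  simp only [Matrix.mulVec, dotProduct, Function.comp_apply, map_sum, map_mul, hfix]

theorem blk_commute (he : ∀ y, σ y = y ↔ ∃ a, e a = y) {d : Fˣ} {a : F₀} (hd : e a = d) :
    Commute (blkS m F d) (fEl (plusQ_fixes σ)) := by
  refine commute_fEl rfl fun i j => ?_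
  have hσ : σ (d : F) = d := (he _).2 ⟨a, hd⟩
  show σ ((fromBlocks ((d : F) • (1 : Matrix (Fin m) (Fin m) F)) 0 0 1) i j) =
    (fromBlocks ((d : F) • (1 : Matrix (Fin m) (Fin m) F)) 0 0 1) i j
  rcases i with i | i <;> rcases j with j | j <;> simp [Matrix.one_apply, apply_ite σ, hσ]

theorem levi_commute (he : ∀ y, σ y = y ↔ ∃ a, e a = y) {d : Fˣ} {a : F₀} (hd : e a = d) (i₀ : Fin m) :
    Commute (oIn (plusQ m F) (levi m F (diagT i₀ d))) (fEl (plusQ_fixes σ)) := by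
  refine commute_fEl rfl fun i j => ?_
  have hσ : σ (d : F) = d := (he _).2 ⟨a, hd⟩
  show σ ((fromBlocks (diagonal fun k => if k = i₀ then (d : F) else 1) 0 0
      (diagonal fun k => if k = i₀ then ((d⁻¹ : Fˣ) : F) else 1)ᵀ) i j) =
    (fromBlocks (diagonal fun k => if k = i₀ then (d : F) else 1) 0 0
      (diagonal fun k => if k = i₀ then ((d⁻¹ : Fˣ) : F) else 1)ᵀ) i j
  rcases i with i | i <;> rcases j with j | j <;>
    simp [Matrix.diagonal_apply, apply_ite σ, hσ, Units.val_inv_eq_inv_val]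

theorem neg_one_square (hsq : ∀ a, IsSquare (e a)) : IsSquare (-1 : F) := by
  have := hsq (-1)
  rwa [map_neg, map_one] at this

theorem isSquare_sqrt_iff (h2 : (2 : F) ≠ 0) {q₀ : ℕ} (hq₀ : Fintype.card F₀ = q₀)
    (hF : Fintype.card F = q₀ ^ 2) {d₀ : F₀} (hd₀ : ¬ IsSquare d₀) {s : F} (hs : e d₀ = s * s) :
    IsSquare s ↔ q₀ % 4 = 3 := by
  have h20 : (2 : F₀) ≠ 0 := fun h => h2 (by rw [← map_ofNat e, h, map_zero])
  have hchar : ringChar F ≠ 2 := fun h => h2 (by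
    have := ringChar.spec F 2
    rw [h] at this
    exact_mod_cast this.2 dvd_rfl)
  have hchar0 : ringChar F₀ ≠ 2 := fun h => h20 (by
    have := ringChar.spec F₀ 2
    rw [h] at this
    exact_mod_cast this.2 dvd_rfl)
  have hodd : Odd q₀ := Nat.odd_iff.2 (hq₀ ▸ FiniteField.odd_card_of_char_ne_two hchar0)
  have hd0 : d₀ ≠ 0 := fun h => hd₀ (h ▸ IsSquare.zero)
  have hs0 : s ≠ 0 := fun h => hd0 (by
    rw [h, mul_zero] at hs; exact (map_eq_zero e).1 hs)
  have hpow : d₀ ^ (q₀ / 2) = -1 := by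
    rcases FiniteField.pow_dichotomy hchar0 hd0 with h | h
    · exact absurd ((FiniteField.isSquare_iff hchar0 hd0).2 h) hd₀
    · rw [← hq₀]; exact h
  obtain ⟨j, hj⟩ := hodd
  have e1 : q₀ ^ 2 / 2 = 2 * ((q₀ / 2) * (j + 1)) := by
    rw [hj, show (2 * j + 1) / 2 = j by omega, show (2 * j + 1) ^ 2 = 2 * (2 * (j * (j + 1))) + 1 by ring]
    omega
  rw [FiniteField.isSquare_iff hchar hs0, hF, e1, pow_mul, pow_two, ← hs, pow_mul, ← map_pow, hpow,
    map_neg, map_one]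
  have hne : (-1 : F) ≠ 1 := fun h => h2 (by linear_combination -h)
  rcases Nat.even_or_odd (j + 1) with hj' | hj'
  · rw [hj'.neg_one_pow]
    refine iff_of_true rfl ?_
    obtain ⟨k, hk⟩ := hj'
    omega
  · rw [hj'.neg_one_pow]
    refine iff_of_false hne ?_
    obtain ⟨k, hk⟩ := hj'
    omega

/-- The classes into which the class of a standard field automorphism falls. -/
theorem field_count (hm : 4 ≤ m) {p f : ℕ} [Fact p.Prime] (hF : Fintype.card F = p ^ f)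
    (he : ∀ y, σ y = y ↔ ∃ a, e a = y) {r : ℕ} (hσ : orderOf σ = r)
    (hF₀ : Fintype.card F₀ = p ^ (f / r)) :
    ((Odd r ∨ p = 2) → Cfsg.splitClassCount (indAut m F) (Cfsg.Inn (Cfsg.POmega F ⇑(plusQ m F)))
      (gAut (plusQ m F) (fEl (plusQ_fixes σ))) = 1) ∧
    ((r = 2 ∧ p ≠ 2 ∧ Odd m ∧ p ^ (f / 2) % 4 = 1) →
      Cfsg.splitClassCount (indAut m F) (Cfsg.Inn (Cfsg.POmega F ⇑(plusQ m F)))
      (gAut (plusQ m F) (fEl (plusQ_fixes σ))) = 2) ∧
    ((r = 2 ∧ p ≠ 2 ∧ ¬ (Odd m ∧ p ^ (f / 2) % 4 = 1)) →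
      Cfsg.splitClassCount (indAut m F) (Cfsg.Inn (Cfsg.POmega F ⇑(plusQ m F)))
      (gAut (plusQ m F) (fEl (plusQ_fixes σ))) = 4) := by
  classical
  have hodd : p ≠ 2 → (2 : F) ≠ 0 := fun hp =>
    two_ne_zero_of_odd hF (Odd.pow (Nat.Prime.odd_of_ne_two Fact.out hp))
  have main : r = 2 → p ≠ 2 → ∀ {d₀ : F₀}, ¬ IsSquare d₀ → ∀ {s : Fˣ}, e d₀ = (s : F) * s →
      (IsSquare ((s : F) ^ m) → Cfsg.splitClassCount (indAut m F) (Cfsg.Inn (Cfsg.POmega F ⇑(plusQ m F)))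
        (gAut (plusQ m F) (fEl (plusQ_fixes σ))) = 4) ∧
      (¬ IsSquare ((s : F) ^ m) → Cfsg.splitClassCount (indAut m F) (Cfsg.Inn (Cfsg.POmega F ⇑(plusQ m F)))
        (gAut (plusQ m F) (fEl (plusQ_fixes σ))) = 2) := by
    intro hr hp d₀ hd₀ s hs
    have h2 := hodd hp
    have h20 : (2 : F₀) ≠ 0 := fun h => h2 (by rw [← map_ofNat e, h, map_zero])
    have hsq : ∀ a, IsSquare (e a) := fun a => isSquare_of_two h2 he (hσ.trans hr) a
    obtain ⟨d₁, hd₁⟩ := CfsgLib.OrthOmega.exists_not_square h2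
    set d := Units.mk0 d₁ (fun h => hd₁ (h ▸ IsSquare.zero))
    have hd : ¬ IsSquare (d : F) := hd₁
    have hT : clT hm d ≠ 1 := by
      rw [clT, Ne, gT_eq_one_iff hm]
      rintro (h | h)
      · exact hd h
      · refine hd ?_
        obtain ⟨i, hi⟩ := neg_one_square hsq
        have h1 : IsSquare ((-1 : F) ^ m) := ⟨i ^ m, by rw [← mul_pow, ← hi]⟩
        have h3 := h1.mul h
        rwa [← mul_assoc, ← pow_add, ← two_mul, pow_mul, neg_one_sq, one_pow, one_mul] at h3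
    obtain ⟨hu, hcl⟩ := centCls_cases (fieldTwist (m := m) he) h2 hm hsq (plusQ_nondegenerate m) (card_PI hm)
      (H₁ := blkS m F (s * s)) (psgn_blk _) rfl (blk_commute he (show e d₀ = ((s * s : Fˣ) : F) from hs)) hd₀
      (fun v => by
        show plusQ m F ((blkGL m (s * s) : Matrix (PI' m) (PI' m) F) *ᵥ ((1 : F ≃+* F) ∘ v)) = _
        rw [blkGL_mulVec, plusQ_coe, hs]
        simp [Cfsg.quadFormPlus, Finset.mul_sum, mul_assoc])
    obtain ⟨k1, k2⟩ := count_of_image h2 hm hd hT _ _ hu hcl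
    have hval : outMap (plusQ m F) (blkS m F (s * s)) =
        if IsSquare ((s : F) ^ m) then 1 else clT hm d := gD_sq_eq hm _ hd s
    exact ⟨fun h => k1 (by rw [hval, if_pos h]), fun h => k2 (by rw [hval, if_neg h]; exact hT)⟩
  refine ⟨?_, ?_, ?_⟩
  · intro h
    by_cases hp : p = 2
    · subst hp
      have : CharP F 2 := charP_of_card_eq_prime_pow hF
      rw [indAut_eq_inn hm]
      exact splitClassCount_self _ _
    have hr := h.resolve_right hp
    have h2 := hodd hp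
    have h20 : (2 : F₀) ≠ 0 := fun h => h2 (by rw [← map_ofNat e, h, map_zero])
    obtain ⟨d₀, hd₀⟩ := CfsgLib.OrthOmega.exists_not_square h20
    have hd0 : e d₀ ≠ 0 := (map_ne_zero e).2 (fun h => hd₀ (h ▸ IsSquare.zero))
    set d := Units.mk0 (e d₀) hd0
    have hd : ¬ IsSquare (d : F) := fun h => hd₀ (isSquare_of_odd h2 he (hσ.symm ▸ hr) h)
    refine count_one h2 hm hd _ ⟨_, ⟨?_, ?_, rfl⟩, rfl⟩ ⟨_, ⟨?_, psgn_blk d, rfl⟩, rfl⟩
    · exact Subgroup.mem_centralizer_singleton_iff.2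
        ((levi_commute he (show e d₀ = (d : F) from rfl) _).map (gAut (plusQ m F))).eq
    · show psgn m F (oIn (plusQ m F) (levi m F (diagT _ d))) = 1
      refine (plusLag m F).sgn_eq_one_of_stab fun v hv => mem_W.2 fun i => ?_
      rw [show semi (oIn (plusQ m F) (levi m F (diagT (⟨0, by omega⟩ : Fin m) d))).1 v =
        app (levi m F (diagT (⟨0, by omega⟩ : Fin m) d)) v from app_semi _ _, app_apply, levi_coe,
        fromBlocks_mulVec]
      simp [show v ∘ Sum.inr = 0 from funext (mem_W.1 hv)]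
    · exact Subgroup.mem_centralizer_singleton_iff.2
        ((blk_commute he (show e d₀ = (d : F) from rfl)).map (gAut (plusQ m F))).eq
  all_goals
    rintro ⟨rfl, hp, hcond⟩
    have h2 := hodd hp
    have h20 : (2 : F₀) ≠ 0 := fun h => h2 (by rw [← map_ofNat e, h, map_zero])
    obtain ⟨d₀, hd₀⟩ := CfsgLib.OrthOmega.exists_not_square h20
    obtain ⟨s₀, hs⟩ := isSquare_of_two h2 he hσ d₀
    have hs0 : s₀ ≠ 0 := fun h => hd₀ (by
      rw [h, mul_zero] at hs; rw [(map_eq_zero e).1 hs]; exact IsSquare.zero)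
    have hq : Fintype.card F = (p ^ (f / 2)) ^ 2 := by
      rw [← pow_mul, hF, Nat.div_mul_cancel (hσ ▸ orderOf_dvd hF σ)]
    have hsi := isSquare_sqrt_iff h2 hF₀ hq hd₀ hs
    have hqodd : (p ^ (f / 2)) % 2 = 1 := Nat.odd_iff.1 (Odd.pow (Nat.Prime.odd_of_ne_two Fact.out hp))
  · refine (main rfl hp hd₀ (s := Units.mk0 s₀ hs0) hs).2 fun hsm => ?_
    obtain ⟨k, hk⟩ := hcond.1
    have h' : IsSquare (s₀ ^ (2 * k) * s₀) := by rw [← pow_succ, ← hk]; exact hsm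
    have h3 : IsSquare s₀ := by
      have := (IsSquare.mul_self ((s₀ ^ k)⁻¹)).mul h'
      rwa [two_mul, pow_add, show (s₀ ^ k)⁻¹ * (s₀ ^ k)⁻¹ * (s₀ ^ k * s₀ ^ k * s₀) = s₀ by field_simp] at this
    have := hsi.1 h3
    omega
  · refine (main rfl hp hd₀ (s := Units.mk0 s₀ hs0) hs).1 ?_
    show IsSquare (s₀ ^ m)
    rcases Nat.even_or_odd m with hme | hmo
    · exact hme.isSquare_pow s₀
    · have h3 : p ^ (f / 2) % 4 = 3 := by
        have : p ^ (f / 2) % 4 ≠ 1 := fun h => hcond ⟨hmo, h⟩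
        omega
      obtain ⟨t, ht⟩ := hsi.2 h3
      exact ⟨t ^ m, by rw [ht, mul_pow]⟩

/-- Field automorphisms of prime order of `PΩ⁺_{2m}(F)`. -/
theorem field_main (hm : 4 ≤ m) {p f : ℕ} [Fact p.Prime] (hF : Fintype.card F = p ^ f)
    {x : MulAut (Cfsg.POmega F ⇑(plusQ m F))} (hx : Cfsg.IsFieldAutClassPOmega (⇑(plusQ m F)) x)
    {r : ℕ} (hxr : orderOf x = r) {F₁ : Type*} [Field F₁] [Fintype F₁]
    (hF₁ : Fintype.card F₁ = p ^ (f / r)) :
    r ∣ f ∧ Nonempty (↥(indAut m F ⊓ Subgroup.centralizer {x}) ≃* ↥(indAut m F₁)) ∧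
    ((Odd r ∨ p = 2) → Cfsg.splitClassCount (indAut m F) (Cfsg.Inn (Cfsg.POmega F ⇑(plusQ m F))) x = 1) ∧
    ((r = 2 ∧ p ≠ 2 ∧ Odd m ∧ p ^ (f / 2) % 4 = 1) →
      Cfsg.splitClassCount (indAut m F) (Cfsg.Inn (Cfsg.POmega F ⇑(plusQ m F))) x = 2) ∧
    ((r = 2 ∧ p ≠ 2 ∧ ¬ (Odd m ∧ p ^ (f / 2) % 4 = 1)) →
      Cfsg.splitClassCount (indAut m F) (Cfsg.Inn (Cfsg.POmega F ⇑(plusQ m F))) x = 4) := by
  have := indAut_normal' (F := F) hm
  obtain ⟨α, σ', -, hα⟩ := field_normal hx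
  have hσ : orderOf σ' = r := by rw [← gAut_fEl_order hm, ← hα, orderOf_conj', hxr]
  obtain ⟨e', he⟩ := exists_fixed_hom hF σ' (by rw [hσ]; exact hF₁)
  refine ⟨hσ ▸ orderOf_dvd hF σ', ?_, ?_⟩
  · obtain ⟨T⟩ := CfsgLib.Split.nonempty_centralizer_map (H := indAut m F) α x
    rw [hα] at T
    obtain ⟨E⟩ := (fieldTwist (m := m) he).nonempty_equiv hm (plusQ_nondegenerate m) (card_PI hm)
      (plusData (by omega))
    refine ⟨T.trans (E.trans (MulEquiv.subgroupCongr ?_))⟩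
    ext β
    constructor
    · rintro ⟨z, hz, rfl⟩
      exact mem_indAut.2 ⟨z.1, (psgn_emb hm he z).symm.trans hz, z.2, rfl⟩
    · intro hβ
      obtain ⟨z, hs, hr, rfl⟩ := mem_indAut.1 hβ
      exact ⟨⟨z, hr⟩, (psgn_emb hm he ⟨z, hr⟩).trans hs, rfl⟩
  · rw [← CfsgLib.Split.splitClassCount_map (H := indAut m F) α x, hα]
    exact field_count hm hF he hσ hF₁

end Cfsg.Agent.PlusFieldAut57
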