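import Cfsg.Agent.Helper57ClassSign
import Cfsg.Agent.Helper57PlusClasses
import Cfsg.Agent.Helper57OutPlus
import Cfsg.Agent.Lib.AutPSp.Transport
import Cfsg.Agent.Lib.AutPSL.Split
import Cfsg.Agent.S2695

/-!
Field and graph-field automorphisms of `PΩ⁺_{2m}(F)`: the elements of bounded order in a coset of the
inner-diagonal group are conjugate.
-/

set_option autoImplicit false
set_option linter.unusedSectionVars false

namespace Cfsg.Agent.PlusField57

open Matrix QuadraticMap CfsgLib.Orth CfsgLib.FieldPOmega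
open CfsgLib.FieldGalois hiding semi
open Cfsg.Agent.GammaO57 Cfsg.Agent.OutPlus57 Cfsg.Agent.ClassSign57 Cfsg.Agent.PlusClasses57

variable {F : Type*} [Field F] [Fintype F] {m : ℕ}

/-- the standard Lagrangian subspace -/
noncomputable def plusLag (m : ℕ) (F : Type*) [Field F] : Lag (plusQ m F) where
  m := m
  hm := by simp; omega
  nondeg := plusQ_nondegenerate m
  W := CfsgLib.POmegaSim.stdMax (LinearEquiv.refl F _)
  sing := (CfsgLib.POmegaSim.isMax_stdMax (LinearEquiv.refl F _) fun _ => rfl).1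
  dim := CfsgLib.POmegaSim.finrank_stdMax (LinearEquiv.refl F _) fun _ => rfl

theorem mem_W {v : PI' m → F} : v ∈ (plusLag m F).W ↔ ∀ i, v (Sum.inr i) = 0 :=
  CfsgLib.POmegaSim.mem_stdMax _

/-- The sign of a semisimilarity: `-1` if it interchanges the classes. -/
noncomputable def psgn (m : ℕ) (F : Type*) [Field F] [Finite F] : ↥(semiGroup (plusQ m F)) →* ℤˣ :=
  (plusLag m F).sgn

theorem psgn_def : psgn m F = (plusLag m F).sgn := rfl

theorem plusQ_fixes (σ : F ≃+* F) : Fixes σ (plusQ m F) := plusQ_prime σ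

theorem psgn_fEl (σ : F ≃+* F) : psgn m F (fEl (plusQ_fixes σ)) = 1 :=
  (plusLag m F).sgn_eq_one_of_stab fun w hw => mem_W.2 fun i => by
    show ((1 : Matrix (PI' m) (PI' m) F) *ᵥ (σ ∘ w)) (Sum.inr i) = 0
    rw [one_mulVec, Function.comp_apply, mem_W.1 hw i, map_zero]

theorem psgn_refl {v : PI' m → F} (hv : plusQ m F v ≠ 0) :
    psgn m F (oIn (plusQ m F) (refl (plusQ m F) v)) = -1 :=
  (plusLag m F).sgn_refl hv fun u => app_semi (refl (plusQ m F) v) u

theorem psgn_blk (d : Fˣ) : psgn m F (blkS m F d) = 1 :=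
  (plusLag m F).sgn_eq_one_of_stab fun w hw => mem_W.2 fun i => by
    show ((blkGL m d : Matrix (PI' m) (PI' m) F) *ᵥ ((1 : F ≃+* F) ∘ w)) (Sum.inr i) = 0
    rw [blkGL_mulVec]
    exact mem_W.1 hw i

theorem psgn_scalar {x : ↥(semiGroup (plusQ m F))} (h1 : x.1.right = 1) {c : Fˣ}
    (hc : x.1.left = GeneralLinearGroup.scalar (PI' m) c) : psgn m F x = 1 :=
  (plusLag m F).sgn_scalar h1 hc

theorem psgn_omega (s : ↥(Cfsg.Omega F ⇑(plusQ m F))) :
    psgn m F (oIn (plusQ m F) (s : O (plusQ m F))) = 1 :=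
  MonoidHom.mem_ker.1 (Abelianization.commutator_subset_ker ((psgn m F).comp (oIn (plusQ m F))) s.2)

theorem card_PI (hm : 4 ≤ m) : 5 ≤ Fintype.card (PI' m) := by simp; omega

theorem gAut_inj_iff (hm : 4 ≤ m) {x y : ↥(semiGroup (plusQ m F))}
    (h : gAut (plusQ m F) x = gAut (plusQ m F) y) :
    x.1.right = y.1.right ∧ psgn m F x = psgn m F y := by
  have h1 : gAut (plusQ m F) (x * y⁻¹) = 1 := by rw [map_mul, map_inv, h, mul_inv_cancel]
  obtain ⟨hr, c, hc⟩ := gAut_eq_one (plusQ_nondegenerate m) (card_PI hm) (plusData (by omega)) h1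
  refine ⟨mul_inv_eq_one.1 hr, mul_inv_eq_one.1 ?_⟩
  rw [← map_inv, ← map_mul]
  exact psgn_scalar hr hc

/-- The semisimilarities inducing inner-diagonal automorphisms. -/
noncomputable def indSub (m : ℕ) (F : Type*) [Field F] [Finite F] : Subgroup ↥(semiGroup (plusQ m F)) :=
  (psgn m F).ker ⊓ (SemidirectProduct.rightHom.comp (semiGroup (plusQ m F)).subtype).ker

theorem mem_indSub {x : ↥(semiGroup (plusQ m F))} : x ∈ indSub m F ↔ psgn m F x = 1 ∧ x.1.right = 1 :=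
  Iff.rfl

instance indSub_normal : (indSub m F).Normal := by
  refine ⟨fun n hn g => ?_⟩
  exact ⟨(psgn m F).normal_ker.conj_mem n hn.1 g,
    (SemidirectProduct.rightHom.comp (semiGroup (plusQ m F)).subtype).normal_ker.conj_mem n hn.2 g⟩

/-- The inner-diagonal group. -/
noncomputable def indAut (m : ℕ) (F : Type*) [Field F] [Fintype F] : Subgroup (MulAut (Cfsg.POmega F ⇑(plusQ m F))) :=
  (indSub m F).map (gAut (plusQ m F))

theorem preserves_iff (g : GL (PI' m) F) (hg : SemidirectProduct.inl g ∈ semiGroup (plusQ m F)) :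
    Cfsg.PreservesSingularClasses (⇑(plusQ m F)) (g : Matrix (PI' m) (PI' m) F) ↔
      psgn m F ⟨_, hg⟩ = 1 :=
  (plusLag m F).preserves_iff g hg

theorem inl_left {x : GLS (PI' m) F} (h : x.right = 1) : SemidirectProduct.inl x.left = x := by
  apply SemidirectProduct.ext
  · rfl
  · exact h.symm

/-- The inner-diagonal group, for the predicate of the prelude. -/
theorem indAut_eq : Cfsg.autSubgroupOf (fun β : Cfsg.POmega F ⇑(plusQ m F) ≃* Cfsg.POmega F ⇑(plusQ m F) =>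
    ∃ g : GL (PI' m) F, g ∈ Cfsg.Geo.quadSimilarityGroup (F := F) ⇑(plusQ m F) ∧
      Cfsg.PreservesSingularClasses (⇑(plusQ m F)) (g : Matrix (PI' m) (PI' m) F) ∧
      Cfsg.IsInducedBySemilinearPOmega (⇑(plusQ m F)) g (RingEquiv.refl F) β) = indAut m F := by
  refine le_antisymm ((Subgroup.closure_le _).2 ?_) ?_
  · rintro β ⟨g, ⟨c, hc⟩, hp, hβ⟩
    let x : ↥(semiGroup (plusQ m F)) := ⟨SemidirectProduct.inl g, ⟨c, fun v => hc v⟩⟩
    exact ⟨x, ⟨(preserves_iff g x.2).1 hp, rfl⟩, (eq_gAut_of_induced x hβ).symm⟩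
  · rintro _ ⟨x, ⟨h1, h2⟩, rfl⟩
    have hr : x.1.right = 1 := h2
    obtain ⟨c, hc⟩ := x.2
    have hi := gAut_induced x
    rw [hr] at hi hc
    have hmem : SemidirectProduct.inl x.1.left ∈ semiGroup (plusQ m F) := by rw [inl_left hr]; exact x.2
    refine Subgroup.subset_closure ⟨x.1.left, ⟨c, fun v => ?_⟩, (preserves_iff _ hmem).2 ?_, hi⟩
    · have h := hc v
      rw [semi, hr] at h
      exact h
    · rw [← h1]
      exact congrArg (psgn m F) (Subtype.ext (inl_left hr))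

theorem mem_indAut {β : MulAut (Cfsg.POmega F ⇑(plusQ m F))} :
    β ∈ indAut m F ↔ ∃ x, psgn m F x = 1 ∧ x.1.right = 1 ∧ gAut (plusQ m F) x = β := by
  constructor
  · rintro ⟨x, ⟨h1, h2⟩, rfl⟩; exact ⟨x, h1, h2, rfl⟩
  · rintro ⟨x, h1, h2, rfl⟩; exact ⟨x, ⟨h1, h2⟩, rfl⟩

theorem indAut_normal (hm : 5 ≤ m) : (indAut m F).Normal := by
  have hg : Cfsg.gammaPOmega F ⇑(plusQ m F) = ⊤ := by
    rw [plusQ_coe]; exact Cfsg.Agent.S2695.result hm
  exact indSub_normal.map (gAut (plusQ m F)) (gAut_surjective hg)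

theorem inn_le_indAut : Cfsg.Inn (Cfsg.POmega F ⇑(plusQ m F)) ≤ indAut m F := by
  rintro _ ⟨y, rfl⟩
  obtain ⟨s, rfl⟩ := QuotientGroup.mk_surjective y
  refine mem_indAut.2 ⟨omegaIn (plusQ m F) s, ?_, rfl, gAut_omegaIn s⟩
  have e : omegaIn (plusQ m F) s = oIn (plusQ m F) (s : O (plusQ m F)) := Subtype.ext rfl
  rw [e]
  exact psgn_omega s

/-! ### Lang's theorem in a coset -/

/-- Two forms over the fixed field with the same isometry class give conjugate semisimilarities. -/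
theorem conj_of_isometric {σ : F ≃+* F} {X₁ X₂ : ↥(semiGroup (plusQ m F))} (h₁ : X₁.1.right = σ)
    (h₂ : X₂.1.right = σ) {k₁ k₂ : GL (PI' m) F} {y₁ y₂ : Fˣ}
    (hk₁ : X₁.1.left * GeneralLinearGroup.map σ.toRingHom k₁ = k₁)
    (hk₂ : X₂.1.left * GeneralLinearGroup.map σ.toRingHom k₂ = k₂)
    (hf₁ : Fixes σ ((((y₁⁻¹ : Fˣ) : F)) • (plusQ m F).comp (Matrix.mulVecLin (k₁ : Matrix (PI' m) (PI' m) F))))
    (hf₂ : Fixes σ ((((y₂⁻¹ : Fˣ) : F)) • (plusQ m F).comp (Matrix.mulVecLin (k₂ : Matrix (PI' m) (PI' m) F))))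
    (a : (PI' m → fixedSub σ) ≃ₗ[fixedSub σ] (PI' m → fixedSub σ))
    (ha : ∀ w, descend hf₁ (a w) = descend hf₂ w) :
    ∃ h : ↥(semiGroup (plusQ m F)), h.1.right = 1 ∧ h * X₂ * h⁻¹ = X₁ := by
  set e := (fixedSub σ).subtype with hedef
  let A : GL (PI' m) (fixedSub σ) := Matrix.GeneralLinearGroup.toLin.symm
    (LinearMap.GeneralLinearGroup.ofLinearEquiv a)
  have hA : ∀ w, (A : Matrix (PI' m) (PI' m) (fixedSub σ)) *ᵥ w = a w := fun w =>
    LinearMap.toMatrix'_mulVec _ w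
  set K := GeneralLinearGroup.map e A with hKdef
  have heq : ((((y₁⁻¹ : Fˣ) : F)) • (plusQ m F).comp (Matrix.mulVecLin (k₁ : Matrix (PI' m) (PI' m) F))).comp
      (Matrix.mulVecLin (K : Matrix (PI' m) (PI' m) F)) =
      (((y₂⁻¹ : Fˣ) : F)) • (plusQ m F).comp (Matrix.mulVecLin (k₂ : Matrix (PI' m) (PI' m) F)) := by
    refine Extends.eq_comp (e := e) (Q₀ := descend hf₂) (fun w => ?_) (descend_extends hf₂)
    show _ = e (descend hf₂ w)
    rw [QuadraticMap.comp_apply, Matrix.mulVecLin_apply]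
    show ((((y₁⁻¹ : Fˣ) : F)) • (plusQ m F).comp (Matrix.mulVecLin (k₁ : Matrix (PI' m) (PI' m) F)))
      ((A : Matrix (PI' m) (PI' m) (fixedSub σ)).map e *ᵥ (e ∘ w)) = _
    rw [map_mulVec_comp, descend_extends hf₁, hA, ha]
  set H := k₁ * K * k₂⁻¹ with hHdef
  have hsim : ∀ v, plusQ m F ((H : Matrix (PI' m) (PI' m) F) *ᵥ v) =
      ((y₁ * y₂⁻¹ : Fˣ) : F) * plusQ m F v := by
    intro v
    have h := congrArg (fun P : QuadraticForm F (PI' m → F) =>
      P (((k₂⁻¹ : GL (PI' m) F) : Matrix (PI' m) (PI' m) F) *ᵥ v)) heq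
    simp only [QuadraticMap.comp_apply, _root_.smul_apply, Matrix.mulVecLin_apply, smul_eq_mul,
      mulVec_mulVec, ← Units.val_mul, mul_inv_cancel, Units.val_one, one_mulVec] at h
    rw [← mul_assoc k₁, ← hHdef] at h
    rw [Units.val_mul y₁, mul_assoc, ← h, ← mul_assoc, Units.mul_inv, one_mul]
  let h : ↥(semiGroup (plusQ m F)) :=
    ⟨SemidirectProduct.inl H, ⟨y₁ * y₂⁻¹, fun v => hsim v⟩⟩
  refine ⟨h, rfl, ?_⟩
  have hK : GeneralLinearGroup.map σ.toRingHom K = K := by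
    apply Units.ext; ext i j
    exact mem_fixedSub.1 ((A : Matrix (PI' m) (PI' m) (fixedSub σ)) i j).2
  have key : H * X₂.1.left = X₁.1.left * GeneralLinearGroup.map σ.toRingHom H := by
    rw [hHdef, map_mul, map_mul, map_inv, hK, ← mul_assoc, ← mul_assoc, hk₁,
      eq_mul_inv_iff_mul_eq, mul_assoc, mul_assoc, hk₂, inv_mul_cancel, mul_one]
  rw [mul_inv_eq_iff_eq_mul]
  apply Subtype.ext
  apply SemidirectProduct.ext
  · show H * glAut (PI' m) F 1 X₂.1.left = X₁.1.left * glAut (PI' m) F X₁.1.right H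
    rw [map_one, MulAut.one_apply, h₁]
    exact key
  · show (1 : F ≃+* F) * X₂.1.right = X₁.1.right * 1
    rw [one_mul, mul_one, h₁, h₂]

/-- Lang data of an element of a coset `Sim·σ` inducing an automorphism of order dividing `orderOf σ`. -/
theorem lang_data (hm : 4 ≤ m) {σ : F ≃+* F} (X : ↥(semiGroup (plusQ m F))) (h1 : X.1.right = σ)
    (hX : gAut (plusQ m F) X ^ orderOf σ = 1) :
    ∃ (X' : ↥(semiGroup (plusQ m F))) (k : GL (PI' m) F) (y : Fˣ)
      (hf : Fixes σ ((((y⁻¹ : Fˣ) : F)) • (plusQ m F).comp (Matrix.mulVecLin (k : Matrix (PI' m) (PI' m) F)))),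
      gAut (plusQ m F) X' = gAut (plusQ m F) X ∧ X'.1.right = σ ∧
      X'.1.left * GeneralLinearGroup.map σ.toRingHom k = k ∧ (descend hf).polarBilin.Nondegenerate := by
  have : Nonempty (PI' m) := ⟨Sum.inl ⟨0, by omega⟩⟩
  rw [← map_pow] at hX
  obtain ⟨-, c, hc⟩ := gAut_eq_one (plusQ_nondegenerate m) (card_PI hm) (plusData (by omega)) hX
  have hXe : X.1 = ⟨X.1.left, σ⟩ := SemidirectProduct.ext rfl h1
  rw [SubmonoidClass.coe_pow, hXe, pow_coset] at hc
  obtain ⟨x, hx⟩ := norm_adjust (show cocy σ X.1.left (orderOf σ) = _ from hc)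
  let S : ↥(semiGroup (plusQ m F)) :=
    ⟨SemidirectProduct.inl (GeneralLinearGroup.scalar (PI' m) x), ⟨x * x, fun v => by
      show plusQ m F ((GeneralLinearGroup.scalar (PI' m) x : Matrix (PI' m) (PI' m) F) *ᵥ
        ((1 : F ≃+* F) ∘ v)) = _
      rw [scalar_mulVec, QuadraticMap.map_smul]
      rfl⟩⟩
  set X' := S * X
  have hl : X'.1.left = GeneralLinearGroup.scalar (PI' m) x * X.1.left := by
    show _ * glAut (PI' m) F 1 _ = _
    rw [map_one, MulAut.one_apply]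
    rfl
  have hr : X'.1.right = σ := by show 1 * X.1.right = σ; rw [one_mul, h1]
  obtain ⟨μ, hμ⟩ := X'.2
  have hg : ∀ v, plusQ m F ((X'.1.left : Matrix (PI' m) (PI' m) F) *ᵥ v) = (μ : F) * plusQ m F v := fun v => by
    have h := hμ (σ.symm ∘ v)
    rw [semi, hr] at h
    rw [show σ ∘ (σ.symm ∘ v) = v from funext fun i => σ.apply_symm_apply _,
      ← plusQ_fixes σ (σ.symm ∘ v), show σ ∘ (σ.symm ∘ v) = v from funext fun i => σ.apply_symm_apply _] at h
    exact h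
  obtain ⟨k, y, hk, hf⟩ := lang_form (plusQ_fixes σ)
    ⟨pv (⟨0, by omega⟩ : Fin m) 1, pv_ne one_ne_zero⟩ hg (by rw [hl]; exact hx)
  refine ⟨X', k, y, hf, ?_, hr, hk, ?_⟩
  · rw [map_mul, gAut_scalar (x := S) rfl rfl, one_mul]
  refine (descend_extends hf).nondeg ?_
  have key : ∀ u, (∀ z, polar ((((y⁻¹ : Fˣ) : F)) • (plusQ m F).comp
      (Matrix.mulVecLin (k : Matrix (PI' m) (PI' m) F))) u z = 0) → u = 0 := by
    intro u hu
    have h0 : ∀ z, polar (plusQ m F) ((k : Matrix (PI' m) (PI' m) F) *ᵥ u) z = 0 := fun z => by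
      have e := hu (((k⁻¹ : GL (PI' m) F) : Matrix (PI' m) (PI' m) F) *ᵥ z)
      simp [QuadraticMap.polar, Matrix.mulVec_add, mulVec_mulVec, ← mul_sub] at e
      simpa [QuadraticMap.polar] using e
    have h1 := (plusQ_nondegenerate m).1 _ h0
    have h3 := congrArg (((k⁻¹ : GL (PI' m) F) : Matrix (PI' m) (PI' m) F) *ᵥ ·) h1
    simpa [mulVec_mulVec, ← Units.val_mul] using h3
  exact ⟨key, fun u hu => key u fun z => by rw [polar_comm]; exact hu z⟩

/-- A hyperbolic form over the fixed field means a conjugate of the field automorphism. -/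
theorem conj_fEl_of_plus {σ : F ≃+* F} {X : ↥(semiGroup (plusQ m F))} (h1 : X.1.right = σ)
    {k : GL (PI' m) F} {y : Fˣ} (hk : X.1.left * GeneralLinearGroup.map σ.toRingHom k = k)
    (hf : Fixes σ ((((y⁻¹ : Fˣ) : F)) • (plusQ m F).comp (Matrix.mulVecLin (k : Matrix (PI' m) (PI' m) F))))
    (hP : IsPlus (descend hf)) :
    ∃ h : ↥(semiGroup (plusQ m F)), h.1.right = 1 ∧ h * fEl (plusQ_fixes σ) * h⁻¹ = X := by
  obtain ⟨a, ha⟩ := hP
  have hf2 : Fixes σ ((((1⁻¹ : Fˣ) : F)) • (plusQ m F).comp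
      (Matrix.mulVecLin ((1 : GL (PI' m) F) : Matrix (PI' m) (PI' m) F))) := fun v => by
    simp only [_root_.smul_apply, QuadraticMap.comp_apply, Matrix.mulVecLin_apply, Units.val_one,
      one_mulVec, inv_one, one_smul]
    exact plusQ_fixes σ v
  refine conj_of_isometric (X₂ := fEl (plusQ_fixes σ)) h1 rfl hk
    (show (1 : GL (PI' m) F) * GeneralLinearGroup.map σ.toRingHom (1 : GL (PI' m) F) = 1 by
      rw [map_one, mul_one]) hf hf2 a fun w => ?_
  rw [ha]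
  apply Subtype.ext
  show (((plusQ m (fixedSub σ) w : fixedSub σ)) : F) =
    (((1⁻¹ : Fˣ) : F)) • plusQ m F ((((1 : GL (PI' m) F)) : Matrix (PI' m) (PI' m) F) *ᵥ
      ((fixedSub σ).subtype ∘ w))
  rw [Units.val_one, one_mulVec, inv_one, Units.val_one, one_smul, plusQ_coe, plusQ_coe]
  simp [Cfsg.quadFormPlus]

/-- A reflection fixed by `σ`, followed by `σ`. -/
noncomputable def rEl (v : PI' m → F) (σ : F ≃+* F) : ↥(semiGroup (plusQ m F)) :=
  oIn (plusQ m F) (refl (plusQ m F) v) * fEl (plusQ_fixes σ)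

theorem psgn_rEl {v : PI' m → F} (hv : plusQ m F v ≠ 0) (σ : F ≃+* F) : psgn m F (rEl v σ) = -1 := by
  rw [rEl, map_mul, psgn_refl hv, psgn_fEl, mul_one]

theorem rEl_right (v : PI' m → F) (σ : F ≃+* F) : (rEl v σ).1.right = σ := by
  show 1 * σ = σ
  rw [one_mul]

theorem refl_comm_fEl {v : PI' m → F} {σ : F ≃+* F} (hfix : ∀ i, σ (v i) = v i) :
    Commute (oIn (plusQ m F) (refl (plusQ m F) v)) (fEl (plusQ_fixes σ)) := by
  have h := conj_oIn (fEl (plusQ_fixes σ)) (refl (plusQ m F) v)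
  have e : semi (fEl (plusQ_fixes σ)).1 v = v := by
    show (1 : Matrix (PI' m) (PI' m) F) *ᵥ (σ ∘ v) = v
    rw [one_mulVec]
    exact funext hfix
  rw [conjO_refl, e, mul_inv_eq_iff_eq_mul] at h
  exact h.symm

theorem psgn_conj (h x : ↥(semiGroup (plusQ m F))) : psgn m F (h * x * h⁻¹) = psgn m F x := by
  rw [map_mul, map_mul, map_inv, mul_comm, ← mul_assoc, inv_mul_cancel, one_mul]

/-- In odd degree every form over the fixed field that becomes hyperbolic is hyperbolic. -/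
theorem isPlus_of_odd (hm : 4 ≤ m) {σ : F ≃+* F} (ho : Odd (orderOf σ)) {k : GL (PI' m) F} {y : Fˣ}
    (hf : Fixes σ ((((y⁻¹ : Fˣ) : F)) • (plusQ m F).comp (Matrix.mulVecLin (k : Matrix (PI' m) (PI' m) F))))
    (hn : (descend hf).polarBilin.Nondegenerate) : IsPlus (descend hf) := by
  by_contra hP
  obtain ⟨ζ, a, hζ, ha⟩ := exists_minus (by omega) _ hn hP
  set e := (fixedSub σ).subtype
  have he : ∀ z, σ z = z ↔ ∃ b, e b = z := fun z =>
    ⟨fun h => ⟨⟨z, h⟩, rfl⟩, fun ⟨b, hb⟩ => hb ▸ b.2⟩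
  have hζF := fun t => rootless_map e he ho hζ t
  -- extend the coordinates of the elliptic form to `F`
  let A : Matrix (PI' m) ((Fin (m - 1) ⊕ Fin (m - 1)) ⊕ Fin 2) (fixedSub σ) :=
    LinearMap.toMatrix' a.toLinearMap
  let B : Matrix ((Fin (m - 1) ⊕ Fin (m - 1)) ⊕ Fin 2) (PI' m) (fixedSub σ) :=
    LinearMap.toMatrix' a.symm.toLinearMap
  have hAB : A * B = 1 := by
    rw [← LinearMap.toMatrix'_comp, LinearEquiv.comp_coe, LinearEquiv.symm_trans_self]
    exact LinearMap.toMatrix'_id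
  have hBA : B * A = 1 := by
    rw [← LinearMap.toMatrix'_comp, LinearEquiv.comp_coe, LinearEquiv.self_trans_symm]
    exact LinearMap.toMatrix'_id
  let T : ((Fin (m - 1) ⊕ Fin (m - 1)) ⊕ Fin 2 → F) ≃ₗ[F] (PI' m → F) :=
    Matrix.toLin'OfInv (M := B.map e) (M' := A.map e)
      (by rw [← Matrix.map_mul, hBA, Matrix.map_one _ (map_zero e) (map_one e)])
      (by rw [← Matrix.map_mul, hAB, Matrix.map_one _ (map_zero e) (map_one e)])
  have hT : ∀ w, T w = (A.map e) *ᵥ w := fun w => rfl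
  set R := (((y⁻¹ : Fˣ) : F)) • (plusQ m F).comp (Matrix.mulVecLin (k : Matrix (PI' m) (PI' m) F)) with hR
  have hcomp : R.comp (Matrix.mulVecLin (A.map e)) = minusQ (m - 1) F 1 (e ζ) := by
    refine Extends.eq_comp (e := e) (Q₀ := minusQ (m - 1) (fixedSub σ) 1 ζ) (fun w => ?_) (fun w => ?_)
    · rw [QuadraticMap.comp_apply, Matrix.mulVecLin_apply]
      have : A.map e *ᵥ (e ∘ w) = e ∘ a w := by
        funext i
        rw [← RingHom.map_mulVec e A w i, Function.comp_apply]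
        exact congrArg e (congrFun (LinearMap.toMatrix'_mulVec a.toLinearMap w) i)
      rw [this, descend_extends hf, ha]
    · rw [minusQ_coe, minusQ_coe]
      simp [Cfsg.quadFormMinus]
  let kE : (PI' m → F) ≃ₗ[F] (PI' m → F) := (GeneralLinearGroup.toLin k).toLinearEquiv
  have hkE : ∀ v, kE v = (k : Matrix (PI' m) (PI' m) F) *ᵥ v := fun v => rfl
  -- a multiple of the hyperbolic form isometric to the elliptic one
  obtain ⟨b, hb⟩ := isPlus_of_similar (R := R) kE.symm (c := ((y⁻¹ : Fˣ) : F)) (Units.ne_zero _) (fun w => by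
    rw [hR, _root_.smul_apply, QuadraticMap.comp_apply, Matrix.mulVecLin_apply, ← hkE,
      LinearEquiv.apply_symm_apply, smul_eq_mul])
  refine Cfsg.Agent.S2617.result (m := m) (by omega) (e ζ) hζF (b.trans T.symm) fun v => ?_
  rw [← minusQ_coe, ← plusQ_coe, ← hb v, ← hcomp, QuadraticMap.comp_apply, Matrix.mulVecLin_apply,
    LinearEquiv.trans_apply, ← hT, LinearEquiv.apply_symm_apply]

theorem psgn_of_plus {σ : F ≃+* F} {Z : ↥(semiGroup (plusQ m F))} {k : GL (PI' m) F} {y : Fˣ}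
    (hf : Fixes σ ((((y⁻¹ : Fˣ) : F)) • (plusQ m F).comp (Matrix.mulVecLin (k : Matrix (PI' m) (PI' m) F))))
    (hz : Z.1.right = σ) (hk : Z.1.left * GeneralLinearGroup.map σ.toRingHom k = k)
    (hp : IsPlus (descend hf)) : psgn m F Z = 1 := by
  obtain ⟨h, -, he⟩ := conj_fEl_of_plus hz hk hf hp
  rw [← he, psgn_conj, psgn_fEl]

theorem rEl_sq_two {σ : F ≃+* F} (h2 : orderOf σ = 2) {v : PI' m → F} (hvfix : ∀ i, σ (v i) = v i) :
    gAut (plusQ m F) (rEl v σ) ^ orderOf σ = 1 := by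
  have e1 : oIn (plusQ m F) (refl (plusQ m F) v) ^ 2 = 1 := by
    rw [pow_two, ← map_mul, refl_mul_self, map_one]
  have e2 : fEl (plusQ_fixes (m := m) σ) ^ 2 = 1 := by
    have hs : σ * σ = 1 := by rw [← pow_two, ← h2, pow_orderOf_eq_one]
    refine Subtype.ext ?_
    show (SemidirectProduct.inr σ : GLS (PI' m) F) ^ 2 = 1
    rw [← map_pow, pow_two, hs, map_one]
  rw [← map_pow, h2, rEl, (refl_comm_fEl hvfix).mul_pow, e1, e2, one_mul, map_one]

theorem isPlus_of_two (hm : 4 ≤ m) {σ : F ≃+* F} (h2 : orderOf σ = 2) {Z : ↥(semiGroup (plusQ m F))}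
    {k : GL (PI' m) F} {y : Fˣ}
    (hf : Fixes σ ((((y⁻¹ : Fˣ) : F)) • (plusQ m F).comp (Matrix.mulVecLin (k : Matrix (PI' m) (PI' m) F))))
    (hz : Z.1.right = σ) (hk : Z.1.left * GeneralLinearGroup.map σ.toRingHom k = k)
    (hn : (descend hf).polarBilin.Nondegenerate) (hs : psgn m F Z = 1) : IsPlus (descend hf) := by
  set v := pv (F := F) (⟨0, by omega⟩ : Fin m) 1
  have hv : plusQ m F v ≠ 0 := pv_ne one_ne_zero
  have hvfix : ∀ i, σ (v i) = v i := fun i => by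
    rcases i with i | i <;> simp [v, Pi.single_apply, apply_ite σ]
  obtain ⟨Z', k₃, y₃, hf₃, ez, hz1, hk₃, hn₃⟩ := lang_data hm (rEl v σ) (rEl_right v σ) (rEl_sq_two h2 hvfix)
  have hneg : psgn m F Z' = -1 := by rw [(gAut_inj_iff hm ez).2, psgn_rEl hv]
  have hnp₃ : ¬ IsPlus (descend hf₃) := fun hp => by
    have h := psgn_of_plus hf₃ hz1 hk₃ hp
    rw [hneg] at h
    exact absurd h (by decide)
  by_contra hp
  obtain ⟨a, ha⟩ := isometric_of_not_plus (by omega) hn hn₃ hp hnp₃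
  obtain ⟨h, -, he⟩ := conj_of_isometric hz hz1 hk hk₃ hf hf₃ a ha
  rw [← he, psgn_conj, hneg] at hs
  exact absurd hs (by decide)

/-- Any two semisimilarities over `σ` of the same sign inducing automorphisms of order dividing `orderOf σ`
are conjugate by similitudes, modulo scalars. -/
theorem conj_coset (hm : 4 ≤ m) {σ : F ≃+* F} (hr : (orderOf σ).Prime)
    {X Y : ↥(semiGroup (plusQ m F))} (hX1 : X.1.right = σ) (hY1 : Y.1.right = σ)
    (hX : gAut (plusQ m F) X ^ orderOf σ = 1) (hY : gAut (plusQ m F) Y ^ orderOf σ = 1)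
    (hs : psgn m F X = psgn m F Y) :
    ∃ h : ↥(semiGroup (plusQ m F)), h.1.right = 1 ∧
      gAut (plusQ m F) (h * Y * h⁻¹) = gAut (plusQ m F) X := by
  obtain ⟨X', k₁, y₁, hf₁, ex, hx1, hk₁, hn₁⟩ := lang_data hm X hX1 hX
  obtain ⟨Y', k₂, y₂, hf₂, ey, hy1, hk₂, hn₂⟩ := lang_data hm Y hY1 hY
  have hs' : psgn m F X' = psgn m F Y' := by rw [(gAut_inj_iff hm ex).2, hs, (gAut_inj_iff hm ey).2]
  obtain ⟨a, ha⟩ : ∃ a : (PI' m → fixedSub σ) ≃ₗ[fixedSub σ] (PI' m → fixedSub σ),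
      ∀ w, descend hf₁ (a w) = descend hf₂ w := by
    by_cases hP : IsPlus (descend hf₁) ∨ IsPlus (descend hf₂)
    · have hP' : IsPlus (descend hf₁) ∧ IsPlus (descend hf₂) := by
        rcases Nat.Prime.eq_two_or_odd' hr with h2 | ho
        · have h1 : psgn m F X' = 1 := by
            rcases hP with hp | hp
            · exact psgn_of_plus hf₁ hx1 hk₁ hp
            · rw [hs']; exact psgn_of_plus hf₂ hy1 hk₂ hp
          exact ⟨isPlus_of_two hm h2 hf₁ hx1 hk₁ hn₁ h1, isPlus_of_two hm h2 hf₂ hy1 hk₂ hn₂ (hs' ▸ h1)⟩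
        · exact ⟨isPlus_of_odd hm ho hf₁ hn₁, isPlus_of_odd hm ho hf₂ hn₂⟩
      obtain ⟨a, ha⟩ := hP'.1
      obtain ⟨b, hb⟩ := hP'.2
      refine ⟨b.symm.trans a, fun w => ?_⟩
      rw [LinearEquiv.trans_apply, ha, ← hb, LinearEquiv.apply_symm_apply]
    · rw [not_or] at hP
      exact isometric_of_not_plus (by omega) hn₁ hn₂ hP.1 hP.2
  obtain ⟨h, h1, he⟩ := conj_of_isometric hx1 hy1 hk₁ hk₂ hf₁ hf₂ a ha
  exact ⟨h, h1, by rw [← ex, ← he, map_mul, map_mul, map_mul, map_mul, ey]⟩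

/-- The conjugator may be taken inner-diagonal. -/
theorem conj_indAut (hm : 4 ≤ m) {σ : F ≃+* F} (hr : (orderOf σ).Prime)
    {X Y : ↥(semiGroup (plusQ m F))} (hX1 : X.1.right = σ) (hY1 : Y.1.right = σ)
    (hX : gAut (plusQ m F) X ^ orderOf σ = 1) (hY : gAut (plusQ m F) Y ^ orderOf σ = 1)
    (hs : psgn m F X = psgn m F Y) (τ : ↥(semiGroup (plusQ m F))) (hτ1 : τ.1.right = 1)
    (hτ : psgn m F τ = -1) (hτY : Commute τ Y) :
    Cfsg.IsConjUnder (indAut m F) (gAut (plusQ m F) Y) (gAut (plusQ m F) X) := by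
  obtain ⟨h, h1, he⟩ := conj_coset hm hr hX1 hY1 hX hY hs
  rcases Int.units_eq_one_or (psgn m F h) with e | e
  · exact ⟨_, mem_indAut.2 ⟨h, e, h1, rfl⟩, by rw [← he, map_mul, map_mul, map_inv]⟩
  · refine ⟨_, mem_indAut.2 ⟨h * τ, by rw [map_mul, e, hτ]; rfl, ?_, rfl⟩, ?_⟩
    · show h.1.right * τ.1.right = 1
      rw [h1, hτ1, one_mul]
    · rw [← map_inv, ← map_mul, ← map_mul, _root_.mul_inv_rev, ← mul_assoc, mul_assoc h τ Y, hτY.eq,
        ← mul_assoc, mul_inv_cancel_right]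
      exact he.symm

/-! ### Normal forms of the classes -/

/-- An element with fixed entries is a field automorphism composed with a similitude. -/
theorem gAut_fEl_order (hm : 4 ≤ m) (σ : F ≃+* F) :
    orderOf (gAut (plusQ m F) (fEl (plusQ_fixes σ))) = orderOf σ := by
  refine Nat.dvd_antisymm (orderOf_dvd_of_pow_eq_one ?_) (orderOf_dvd_of_pow_eq_one ?_)
  · rw [← map_pow, show fEl (plusQ_fixes (m := m) σ) ^ orderOf σ = 1 from Subtype.ext (by
      show (SemidirectProduct.inr σ : GLS (PI' m) F) ^ orderOf σ = 1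
      rw [← map_pow, pow_orderOf_eq_one, map_one]), map_one]
  · have h := pow_orderOf_eq_one (gAut (plusQ m F) (fEl (plusQ_fixes (m := m) σ)))
    rw [← map_pow] at h
    have h1 := (gAut_eq_one (plusQ_nondegenerate m) (card_PI hm) (plusData (by omega)) h).1
    rw [← SemidirectProduct.rightHom_eq_right, SubmonoidClass.coe_pow, map_pow] at h1
    exact h1

theorem field_normal {x : MulAut (Cfsg.POmega F ⇑(plusQ m F))}
    (hx : Cfsg.IsFieldAutClassPOmega (⇑(plusQ m F)) x) :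
    ∃ (α : MulAut (Cfsg.POmega F ⇑(plusQ m F))) (σ : F ≃+* F), σ ≠ 1 ∧
      α * x * α⁻¹ = gAut (plusQ m F) (fEl (plusQ_fixes σ)) := by
  obtain ⟨α, φ, σ, hσ, hφ, e⟩ := hx
  exact ⟨α, σ, hσ, e.trans (eq_gAut_of_field (plusQ_fixes σ) hφ)⟩

/-- Graph-field automorphisms, for a form given as a quadratic map. -/
def IsGFClass (x : MulAut (Cfsg.POmega F ⇑(plusQ m F))) : Prop :=
  ∃ (α γ φ : MulAut (Cfsg.POmega F ⇑(plusQ m F))) (σ : F ≃+* F) (v : PI' m → F) (r : GL (PI' m) F),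
    σ ≠ RingEquiv.refl F ∧ plusQ m F v ≠ 0 ∧ (∀ i, σ (v i) = v i) ∧
    (r : Matrix (PI' m) (PI' m) F) = Cfsg.reflectionMatrix (⇑(plusQ m F)) v ∧
    Cfsg.IsInducedBySemilinearPOmega (⇑(plusQ m F)) r (RingEquiv.refl F) γ ∧
    Cfsg.IsFieldAutPOmegaOf (⇑(plusQ m F)) σ φ ∧ α * x * α⁻¹ = γ * φ

theorem graph_normal {x : MulAut (Cfsg.POmega F ⇑(plusQ m F))} (hx : IsGFClass x) :
    ∃ (α : MulAut (Cfsg.POmega F ⇑(plusQ m F))) (σ : F ≃+* F) (v : PI' m → F), σ ≠ 1 ∧ plusQ m F v ≠ 0 ∧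
      (∀ i, σ (v i) = v i) ∧ α * x * α⁻¹ = gAut (plusQ m F) (rEl v σ) := by
  obtain ⟨α, γ, φ, σ, v, r, hσ, hv, hfix, hr, hγ, hφ, e⟩ := hx
  refine ⟨α, σ, v, hσ, hv, hfix, ?_⟩
  have hrv : r = ((refl (plusQ m F) v : O (plusQ m F)) : GL (PI' m) F) :=
    Units.ext (hr.trans (coe_refl (plusQ m F) v).symm)
  subst hrv
  rw [e, eq_gAut_of_field (plusQ_fixes σ) hφ,
    eq_gAut_of_induced (oIn (plusQ m F) (refl (plusQ m F) v)) hγ, rEl, map_mul]

/-- A graph-field automorphism of prime order is involutory. -/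
theorem rEl_order (hm : 4 ≤ m) {σ : F ≃+* F} (hσ : σ ≠ 1) {v : PI' m → F} (hv : plusQ m F v ≠ 0) {r : ℕ}
    (hr : r.Prime) (h : orderOf (gAut (plusQ m F) (rEl v σ)) = r) : orderOf σ = 2 ∧ r = 2 := by
  have h1 := pow_orderOf_eq_one (gAut (plusQ m F) (rEl v σ))
  rw [h, ← map_pow] at h1
  obtain ⟨hr1, c, hc⟩ := gAut_eq_one (plusQ_nondegenerate m) (card_PI hm) (plusData (by omega)) h1
  have hs := psgn_scalar hr1 hc
  rw [map_pow, psgn_rEl hv] at hs
  rw [← SemidirectProduct.rightHom_eq_right, SubmonoidClass.coe_pow, map_pow,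
    SemidirectProduct.rightHom_eq_right, rEl_right] at hr1
  have hσr : orderOf σ = r := by
    rcases (Nat.dvd_prime hr).1 (orderOf_dvd_of_pow_eq_one hr1) with h' | h'
    · exact absurd (orderOf_eq_one_iff.1 h') hσ
    · exact h'
  rcases hr.eq_two_or_odd' with h' | h'
  · exact ⟨hσr.trans h', h'⟩
  · rw [h'.neg_one_pow] at hs
    exact absurd hs (by decide)

theorem commute_pv_fEl (hm : 4 ≤ m) (σ : F ≃+* F) : ∃ τ : ↥(semiGroup (plusQ m F)),
    τ.1.right = 1 ∧ psgn m F τ = -1 ∧ Commute τ (fEl (plusQ_fixes σ)) := by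
  refine ⟨oIn (plusQ m F) (refl (plusQ m F) (pv (lastI hm) 1)), rfl, psgn_refl (pv_ne one_ne_zero),
    refl_comm_fEl fun i => ?_⟩
  rcases i with i | i <;> simp [Pi.single_apply, apply_ite σ]

/-- The coset criterion for a conjugate of a standard element `Y` over `σ`. -/
theorem coset_criterion (hm : 5 ≤ m) {σ : F ≃+* F} {r : ℕ} (hr : r.Prime) (hσ : orderOf σ = r)
    {Y τ : ↥(semiGroup (plusQ m F))} (hY : Y.1.right = σ) (hτ1 : τ.1.right = 1) (hτ : psgn m F τ = -1)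
    (hτY : Commute τ Y) {x δ α : MulAut (Cfsg.POmega F ⇑(plusQ m F))}
    (hα : α * x * α⁻¹ = gAut (plusQ m F) Y) (hxr : orderOf x = r) (hδ : δ ∈ indAut m F) :
    orderOf (δ * x) = r ↔ Cfsg.IsConjUnder (indAut m F) x (δ * x) := by
  have := indAut_normal (F := F) hm
  constructor
  · intro hy
    obtain ⟨d, hd1, hd2, hd⟩ := mem_indAut.1 (this.conj_mem δ hδ α)
    have e : α * (δ * x) * α⁻¹ = gAut (plusQ m F) (d * Y) := by rw [map_mul, hd, ← hα]; group
    rw [← CfsgLib.Split.isConjUnder_map α, e, hα]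
    refine conj_indAut (by omega) (hσ.symm ▸ hr) ?_ hY ?_ ?_ ?_ τ hτ1 hτ hτY
    · show d.1.right * Y.1.right = σ
      rw [hd2, one_mul, hY]
    · rw [← e, hσ, conj_pow, ← hy, pow_orderOf_eq_one, mul_one, mul_inv_cancel]
    · rw [← hα, hσ, conj_pow, ← hxr, pow_orderOf_eq_one, mul_one, mul_inv_cancel]
    · rw [map_mul, hd1, one_mul]
  · intro h
    rw [CfsgLib.Split.isConjUnder_orderOf h, hxr]

theorem orderOf_conj' {G : Type*} [Group G] (a x : G) : orderOf (a * x * a⁻¹) = orderOf x :=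
  orderOf_injective (MulAut.conj a).toMonoidHom (MulAut.conj a).injective x

/-- The coset criterion. -/
theorem orderOf_coset_iff (hm : 5 ≤ m) {x δ : MulAut (Cfsg.POmega F ⇑(plusQ m F))}
    (hx : Cfsg.IsFieldAutClassPOmega (⇑(plusQ m F)) x ∨ IsGFClass x) {r : ℕ} (hr : r.Prime)
    (hxr : orderOf x = r) (hδ : δ ∈ indAut m F) :
    orderOf (δ * x) = r ↔ Cfsg.IsConjUnder (indAut m F) x (δ * x) := by
  rcases hx with hx | hx
  · obtain ⟨α, σ, -, hα⟩ := field_normal hx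
    have hσ : orderOf σ = r := by rw [← gAut_fEl_order (show 4 ≤ m by omega), ← hα, orderOf_conj', hxr]
    obtain ⟨τ, h1, h2, h3⟩ := commute_pv_fEl (show 4 ≤ m by omega) σ
    exact coset_criterion hm hr hσ rfl h1 h2 h3 hα hxr hδ
  · obtain ⟨α, σ, v, hσ1, hv, hfix, hα⟩ := graph_normal hx
    obtain ⟨h2, rfl⟩ := rEl_order (by omega) hσ1 hv hr (by rw [← hα, orderOf_conj', hxr])
    refine coset_criterion (τ := oIn (plusQ m F) (refl (plusQ m F) v)) hm hr h2 (rEl_right v σ) rfl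
      (psgn_refl hv) ?_ hα hxr hδ
    exact (Commute.refl _).mul_right (refl_comm_fEl hfix)


end Cfsg.Agent.PlusField57
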