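import Cfsg.Agent.Helper57PlusTwist
import Cfsg.Agent.Lib.AutPOmega.FieldSquares

/-!
Classes of inner-diagonal automorphisms of `PΩ⁺_{2m}(F)` modulo inner ones, and into how many classes
under the inner automorphisms the class of a twisted field automorphism falls.
-/

set_option autoImplicit false
set_option linter.unusedSectionVars false

namespace Cfsg.Agent.PlusSplit57

open Matrix QuadraticMap CfsgLib.Orth CfsgLib.FieldPOmega
open CfsgLib.FieldGalois hiding semi
open Cfsg.Agent.GammaO57 Cfsg.Agent.OutPlus57 Cfsg.Agent.PlusField57 Cfsg.Agent.PlusTwist57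
open Cfsg.Agent.Levi57 Cfsg.Agent.Spinor57

variable {F : Type*} [Field F] [Fintype F] {m : ℕ}

theorem psgn_eq_one_of_outMap (hm : 4 ≤ m) {x : ↥(semiGroup (plusQ m F))}
    (h : outMap (plusQ m F) x = 1) : psgn m F x = 1 := by
  obtain ⟨hr, c, s, hs⟩ := (outMap_one_iff hm x).1 h
  have hz : psgn m F (x * (oIn (plusQ m F) (s : O (plusQ m F)))⁻¹) = 1 := by
    refine psgn_scalar (c := c) ?_ ?_
    · show x.1.right * (1 : F ≃+* F)⁻¹ = 1
      rw [inv_one, mul_one, hr]
    · rw [← map_inv]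
      show x.1.left * glAut (PI' m) F x.1.right _ = _
      rw [hr, map_one, MulAut.one_apply, hs, mul_assoc]
      show _ * (((s : O (plusQ m F)) : GL (PI' m) F) * (((s : O (plusQ m F))⁻¹ : O (plusQ m F)) : GL (PI' m) F)) = _
      rw [← Subgroup.coe_mul, mul_inv_cancel, Subgroup.coe_one, mul_one]
  rwa [map_mul, map_inv, psgn_omega, inv_one, mul_one] at hz

theorem psgn_eq_of_outMap (hm : 4 ≤ m) {x y : ↥(semiGroup (plusQ m F))}
    (h : outMap (plusQ m F) x = outMap (plusQ m F) y) : psgn m F x = psgn m F y := by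
  have h1 := psgn_eq_one_of_outMap hm (x := x * y⁻¹) (by rw [map_mul, map_inv, h, mul_inv_cancel])
  rwa [map_mul, map_inv, mul_inv_eq_one] at h1

theorem outMap_inn (x : ↥(semiGroup (plusQ m F))) :
    outMap (plusQ m F) x = 1 ↔ gAut (plusQ m F) x ∈ Cfsg.Inn (Cfsg.POmega F ⇑(plusQ m F)) := by
  rw [outMap, MonoidHom.comp_apply, QuotientGroup.mk'_apply, QuotientGroup.eq_one_iff]

section Two

/-- In characteristic two the inner-diagonal automorphisms are inner. -/
theorem indAut_eq_inn [CharP F 2] (hm : 4 ≤ m) :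
    indAut m F = Cfsg.Inn (Cfsg.POmega F ⇑(plusQ m F)) := by
  refine le_antisymm ?_ inn_le_indAut
  intro β hβ
  obtain ⟨x, hs, hr, rfl⟩ := mem_indAut.1 hβ
  rw [← outMap_inn]
  have hQ := plusQ_nondegenerate (F := F) m
  have hgen := reflClosure_plus (F := F) (m := m) (Or.inr (by omega))
  obtain ⟨u, g, hg⟩ := exists_scalar_isometry hr
  rw [outMap_scalar hm hr hg]
  refine cls_omega hm ((CfsgLib.OrthOmega.mem_omega_two hQ hgen g).2 ?_)
  have hhom : (psgn m F).comp (oIn (plusQ m F)) = dicksonHom hQ hgen :=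
    CfsgLib.OrthOmega.hom_ext_refl hgen fun v hv => by
      rw [MonoidHom.comp_apply, psgn_refl hv, dicksonHom_refl hQ hgen hv]
  have h1 : psgn m F x = psgn m F (oIn (plusQ m F) g) := by
    refine psgn_eq_of_outMap hm ?_
    rw [outMap_scalar hm hr hg]
    rfl
  rw [← hhom, MonoidHom.comp_apply, ← h1, hs]

theorem splitClassCount_self {X : Type*} [Group X] (H : Subgroup X) (x : X) :
    Cfsg.splitClassCount H H x = 1 := by
  rw [Cfsg.splitClassCount, Nat.card_eq_one_iff_unique]
  constructor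
  · constructor
    intro a b
    refine Quot.induction_on₂ a b fun y z => Quot.sound ?_
    exact CfsgLib.Split.isConjUnder_trans (CfsgLib.Split.isConjUnder_symm y.2) z.2
  · exact ⟨Quot.mk _ ⟨x, 1, H.one_mem, by simp⟩⟩

end Two

/-- The classes of inner-diagonal automorphisms. -/
noncomputable def clsSub (hm : 4 ≤ m) (d : Fˣ) : Subgroup (Cfsg.Out (Cfsg.POmega F ⇑(plusQ m F))) :=
  Subgroup.closure {gT (⟨0, by omega⟩ : Fin m) d, gD m d}

/-- The class of the torus element. -/
noncomputable def clT (hm : 4 ≤ m) (d : Fˣ) : Cfsg.Out (Cfsg.POmega F ⇑(plusQ m F)) :=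
  gT (⟨0, by omega⟩ : Fin m) d

section Odd

variable (h2 : (2 : F) ≠ 0) (hm : 4 ≤ m) {d : Fˣ} (hd : ¬ IsSquare (d : F))

include h2 hd in
theorem clT_sq : clT hm d * clT hm d = 1 := gT_sq h2 hm hd _

include h2 hd in
theorem clT_comm : Commute (clT hm d) (gD m d) := gT_comm_gD h2 hm hd _

include h2 hd in
theorem gD_sq_cases : gD m d * gD m d = 1 ∨ gD m d * gD m d = clT hm d := by
  rw [clT, gD_mul_self hm hd]
  split_ifs
  · exact Or.inl rfl
  · exact Or.inr rfl

include h2 hd in
theorem mem_clsSub {w : Cfsg.Out (Cfsg.POmega F ⇑(plusQ m F))} :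
    w ∈ clsSub hm d ↔ w = 1 ∨ w = clT hm d ∨ w = gD m d ∨ w = clT hm d * gD m d := by
  have hT : clT hm d ∈ clsSub hm d := Subgroup.subset_closure (by simp [clT])
  have hD : gD m d ∈ clsSub hm d := Subgroup.subset_closure (by simp)
  refine ⟨fun h => ?_, ?_⟩
  · have hs := gD_sq_cases h2 hm hd
    have ht := clT_sq h2 hm hd
    have hc := clT_comm h2 hm hd
    set T := clT hm d with hTdef
    set D := gD m d
    have mT : ∀ x, T * (T * x) = x := fun x => by rw [← mul_assoc, ht, one_mul]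
    have mD : D * T = T * D := hc.eq.symm
    have mD' : ∀ x, D * (T * x) = T * (D * x) := fun x => by rw [← mul_assoc, mD, mul_assoc]
    unfold clsSub at h
    rw [show gT (⟨0, by omega⟩ : Fin m) d = T from rfl] at h
    induction h using Subgroup.closure_induction with
    | mem x hx =>
      rcases hx with rfl | rfl
      · exact Or.inr (Or.inl rfl)
      · exact Or.inr (Or.inr (Or.inl rfl))
    | one => exact Or.inl rfl
    | mul x y _ _ hx hy =>
      rcases hx with rfl | rfl | rfl | rfl <;> rcases hy with rfl | rfl | rfl | rfl <;>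
        rcases hs with hs | hs <;>
        simp [mul_assoc, ht, mT, mD, mD', hs]
    | inv x _ hx =>
      have inv1 : T⁻¹ = T := inv_eq_of_mul_eq_one_right ht
      rcases hx with rfl | rfl | rfl | rfl <;> rcases hs with hs | hs
      · simp
      · simp
      · simp [inv1]
      · simp [inv1]
      · exact Or.inr (Or.inr (Or.inl (inv_eq_of_mul_eq_one_right hs)))
      · refine Or.inr (Or.inr (Or.inr (inv_eq_of_mul_eq_one_right ?_)))
        rw [mD', hs, ht]
      · refine Or.inr (Or.inr (Or.inr (inv_eq_of_mul_eq_one_right ?_)))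
        rw [mul_assoc, mD', hs, mul_one, ht]
      · refine Or.inr (Or.inr (Or.inl (inv_eq_of_mul_eq_one_right ?_)))
        rw [mul_assoc, hs, ht]
  · rintro (rfl | rfl | rfl | rfl)
    exacts [one_mem _, hT, hD, mul_mem hT hD]

include h2 hd in
theorem outMap_mem_clsSub {x : ↥(semiGroup (plusQ m F))} (hs : psgn m F x = 1) (hr : x.1.right = 1) :
    outMap (plusQ m F) x ∈ clsSub hm d := by
  classical
  have hcls : ∀ {y : ↥(semiGroup (plusQ m F))}, psgn m F y = 1 → y.1.right = 1 → ∀ {t : Fˣ}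
      {g : O (plusQ m F)}, y.1.left = GeneralLinearGroup.scalar (PI' m) t * (g : GL (PI' m) F) →
      cls (plusQ m F) g ∈ clsSub hm d := by
    intro y hy hyr t g hg
    have hg1 : psgn m F (oIn (plusQ m F) g) = 1 := by
      refine (psgn_eq_of_outMap hm ?_).trans hy
      rw [outMap_scalar hm hyr hg]
      rfl
    have key : ∀ v : PI' m → F, plusQ m F v ≠ 0 → cls (plusQ m F) g ≠ cls (plusQ m F) (refl (plusQ m F) v) := by
      intro v hv h
      have h1 := psgn_eq_of_outMap hm (x := oIn (plusQ m F) g) (y := oIn (plusQ m F) (refl (plusQ m F) v)) h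
      rw [hg1, psgn_refl hv] at h1
      exact absurd h1 (by decide)
    rcases cls_four h2 hm hd g with h | h | h | h
    · rw [h]; exact one_mem _
    · exact absurd h (key _ (pv_ne (neg_ne_zero.2 one_ne_zero)))
    · exact absurd h (key _ (pv_ne (neg_ne_zero.2 d.ne_zero)))
    · rw [h, gA_mul_gB h2 hm hd (⟨0, by omega⟩ : Fin m)]
      exact Subgroup.subset_closure (by simp)
  obtain ⟨c, hc⟩ := x.2
  rw [hr] at hc
  by_cases hsq : IsSquare (c : F)
  · obtain ⟨t, g, hg⟩ := split_square hr hc c.ne_zero hsq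
    rw [outMap_scalar hm hr hg]
    exact hcls hs hr hg
  · set z := x * (blkS m F d)⁻¹
    have hz : z.1.right = 1 := by
      show x.1.right * (1 : F ≃+* F)⁻¹ = 1
      rw [hr, inv_one, mul_one]
    have hzs : psgn m F z = 1 := by rw [map_mul, map_inv, hs, psgn_blk, inv_one, mul_one]
    have hzc : ∀ v, plusQ m F (semi z.1 v) = ((c * d⁻¹ : Fˣ) : F) * plusQ m F v := by
      intro v
      show plusQ m F (semi (x.1 * (blkS m F d⁻¹).1) v) = _
      rw [semi_mul, hc]
      show (c : F) * plusQ m F ((blkGL m d⁻¹ : Matrix (PI' m) (PI' m) F) *ᵥ ((1 : F ≃+* F) ∘ v)) = _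
      rw [blkGL_mulVec, plusQ_coe]
      simp [Cfsg.quadFormPlus, Finset.mul_sum, mul_assoc]
    have hzsq : IsSquare ((c * d⁻¹ : Fˣ) : F) := by
      rw [Units.val_mul, Units.val_inv_eq_inv_val, ← sqSign_eq_one_iff,
        sqSign_mul c.ne_zero (inv_ne_zero d.ne_zero)]
      simp [sqSign, hsq, hd]
    obtain ⟨t, g, hg⟩ := split_square hz hzc (Units.ne_zero _) hzsq
    have : outMap (plusQ m F) x = cls (plusQ m F) g * gD m d := by
      rw [← outMap_scalar hm hz hg, gD, ← map_mul, inv_mul_cancel_right]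
    rw [this]
    exact mul_mem (hcls hzs hz hg) (Subgroup.subset_closure (by simp))

include h2 hm hd in
theorem gD_ne_one : gD m d ≠ 1 := by
  have h := gD_ne hm hd (1 : O (plusQ m F))
  rwa [map_one, one_mul] at h

include h2 hd in
theorem gD_ne_clT : gD m d ≠ clT hm d := by
  intro h
  have h1 := gD_ne hm hd (levi m F (diagT (⟨0, by omega⟩ : Fin m) d))
  exact h1 (by show clT hm d * gD m d = 1; rw [h, clT_sq h2 hm hd])

include h2 hd in
theorem card_clsSub (hT : clT hm d ≠ 1) : Nat.card ↥(clsSub hm d) = 4 := by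
  classical
  have e : (clsSub hm d : Set (Cfsg.Out (Cfsg.POmega F ⇑(plusQ m F)))) =
      ↑({1, clT hm d, gD m d, clT hm d * gD m d} : Finset (Cfsg.Out (Cfsg.POmega F ⇑(plusQ m F)))) := by
    ext w
    simp [mem_clsSub h2 hm hd]
  rw [← SetLike.coe_sort_coe, e, Nat.card_coe_set_eq, Set.ncard_coe_finset]
  have h1 := gD_ne_one h2 hm hd
  have h3 := gD_ne_clT h2 hm hd
  have h4 : clT hm d * gD m d ≠ 1 := fun h => h3 (by
    rw [eq_comm, ← mul_right_inj (clT hm d), clT_sq h2 hm hd, h])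
  have h5 : clT hm d * gD m d ≠ clT hm d := fun h => h1 (mul_left_cancel (h.trans (mul_one _).symm))
  have h6 : clT hm d * gD m d ≠ gD m d := fun h => hT (mul_right_cancel (h.trans (one_mul _).symm))
  rw [Finset.card_insert_of_notMem (by simp [Ne.symm hT, Ne.symm h1, Ne.symm h4]),
    Finset.card_insert_of_notMem (by simp [Ne.symm h3, Ne.symm h5]),
    Finset.card_insert_of_notMem (by simp [Ne.symm h6]), Finset.card_singleton]

include h2 hd in
/-- The class of an inner-diagonal semisimilarity. -/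
theorem exists_classHom : ∃ dh : ↥(indSub m F) →* ↥(clsSub hm d), Function.Surjective dh ∧
    ∀ x, (dh x : Cfsg.Out (Cfsg.POmega F ⇑(plusQ m F))) = outMap (plusQ m F) x.1 := by
  refine ⟨((outMap (plusQ m F)).comp (indSub m F).subtype).codRestrict _
    fun x => outMap_mem_clsSub h2 hm hd (mem_indSub.1 x.2).1 (mem_indSub.1 x.2).2, ?_, fun x => rfl⟩
  rintro ⟨w, hw⟩
  have hTm : oIn (plusQ m F) (levi m F (diagT (⟨0, by omega⟩ : Fin m) d)) ∈ indSub m F := by
    refine ⟨(plusLag m F).sgn_eq_one_of_stab fun v hv => mem_W.2 fun i => ?_, rfl⟩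
    rw [show semi (oIn (plusQ m F) (levi m F (diagT (⟨0, by omega⟩ : Fin m) d))).1 v =
      app (levi m F (diagT (⟨0, by omega⟩ : Fin m) d)) v from app_semi _ _, app_apply, levi_coe,
      fromBlocks_mulVec]
    simp [show v ∘ Sum.inr = 0 from funext (mem_W.1 hv)]
  have hDm : blkS m F d ∈ indSub m F := ⟨psgn_blk d, rfl⟩
  rcases (mem_clsSub h2 hm hd).1 hw with rfl | rfl | rfl | rfl
  · exact ⟨1, Subtype.ext (map_one _)⟩
  · exact ⟨⟨_, hTm⟩, Subtype.ext (by
      show outMap (plusQ m F) (oIn (plusQ m F) (levi m F (diagT (⟨0, by omega⟩ : Fin m) d))) = clT hm d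
      rw [clT, gT, cls, MonoidHom.comp_apply])⟩
  · exact ⟨⟨_, hDm⟩, Subtype.ext (by
      show outMap (plusQ m F) (blkS m F d) = gD m d
      rw [gD])⟩
  · exact ⟨⟨_, mul_mem hTm hDm⟩, Subtype.ext (by
      show outMap (plusQ m F) (oIn (plusQ m F) (levi m F (diagT (⟨0, by omega⟩ : Fin m) d)) * blkS m F d) = clT hm d * gD m d
      rw [clT, gT, cls, MonoidHom.comp_apply, gD, map_mul])⟩

/-- The classes of inner-diagonal automorphisms centralising a given one. -/
noncomputable def centCls (β : MulAut (Cfsg.POmega F ⇑(plusQ m F))) :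
    Subgroup (Cfsg.Out (Cfsg.POmega F ⇑(plusQ m F))) :=
  (((Subgroup.centralizer {β}).comap (gAut (plusQ m F))) ⊓ indSub m F).map (outMap (plusQ m F))

set_option maxHeartbeats 1600000 in
include h2 hd in
theorem splitClassCount_mul (β : MulAut (Cfsg.POmega F ⇑(plusQ m F))) :
    Cfsg.splitClassCount (indAut m F) (Cfsg.Inn (Cfsg.POmega F ⇑(plusQ m F))) β * Nat.card ↥(centCls β) =
      Nat.card ↥(clsSub hm d) := by
  letI : CommGroup ↥(clsSub hm d) :=
    { (inferInstance : Group ↥(clsSub hm d)) with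
      mul_comm := fun a b => Subtype.ext (by
        have hD : Commute (clT hm d) (gD m d) := clT_comm h2 hm hd
        have hle : ∀ x ∈ clsSub hm d, Commute (clT hm d) x ∧ Commute (gD m d) x := by
          intro x hx
          have h1 : clsSub hm d ≤ Subgroup.centralizer {clT hm d, gD m d} := by
            refine (Subgroup.closure_le _).2 ?_
            intro y hy z hz
            rcases hy with rfl | rfl <;> rcases hz with rfl | rfl
            · rfl
            · exact hD.eq.symm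
            · exact hD.eq
            · rfl
          exact ⟨h1 hx _ (Set.mem_insert _ _), h1 hx _ (Set.mem_insert_of_mem _ rfl)⟩
        have h2' : clsSub hm d ≤ Subgroup.centralizer {(a : Cfsg.Out (Cfsg.POmega F ⇑(plusQ m F)))} := by
          refine (Subgroup.closure_le _).2 ?_
          intro y hy z hz
          rw [Set.mem_singleton_iff.1 hz]
          rcases hy with rfl | rfl
          · exact (hle _ a.2).1.eq.symm
          · exact (hle _ a.2).2.eq.symm
        exact h2' b.2 _ rfl) }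
  obtain ⟨dh, hsurj, hdh⟩ := exists_classHom h2 hm hd
  have hI : Cfsg.Inn (Cfsg.POmega F ⇑(plusQ m F)) =
      ((⊥ : Subgroup ↥(clsSub hm d)).comap dh).map ((gAut (plusQ m F)).comp (indSub m F).subtype) := by
    ext γ
    constructor
    · intro hγ
      obtain ⟨x, hs, hr, rfl⟩ := mem_indAut.1 (inn_le_indAut hγ)
      exact ⟨⟨x, hs, hr⟩, Subgroup.mem_bot.2 (Subtype.ext ((hdh _).trans ((outMap_inn x).2 hγ))), rfl⟩
    · rintro ⟨x, hx, rfl⟩
      exact (outMap_inn x.1).1 ((hdh x).symm.trans (congrArg Subtype.val (Subgroup.mem_bot.1 hx)))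
  have hH : indAut m F = ((gAut (plusQ m F)).comp (indSub m F).subtype).range := by
    rw [MonoidHom.range_comp, Subgroup.range_subtype]; rfl
  rw [CfsgLib.Split.splitClassCount_eq_index _ dh hsurj ⊥ hH hI, bot_sup_eq]
  set M := ((Subgroup.centralizer {β}).comap ((gAut (plusQ m F)).comp (indSub m F).subtype)).map dh
  have hM : Nat.card ↥M = Nat.card ↥(centCls β) := by
    have e : M.map (clsSub hm d).subtype = centCls β := by
      rw [centCls, Subgroup.map_map]
      ext w
      constructor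
      · rintro ⟨x, hx, rfl⟩
        exact ⟨x.1, ⟨hx, x.2⟩, (hdh x).symm⟩
      · rintro ⟨x, ⟨hx, hi⟩, rfl⟩
        exact ⟨⟨x, hi⟩, hx, hdh _⟩
    rw [← e]
    exact (Nat.card_congr (M.equivMapOfInjective _ Subtype.val_injective).toEquiv)
  rw [← hM, mul_comm]
  exact M.card_mul_index

include h2 hd in
theorem count_one (β : MulAut (Cfsg.POmega F ⇑(plusQ m F))) (hT : clT hm d ∈ centCls β)
    (hD : gD m d ∈ centCls β) :
    Cfsg.splitClassCount (indAut m F) (Cfsg.Inn (Cfsg.POmega F ⇑(plusQ m F))) β = 1 := by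
  have h := splitClassCount_mul h2 hm hd β
  have e : centCls β = clsSub hm d := by
    refine le_antisymm ?_ ((Subgroup.closure_le _).2 ?_)
    · rintro _ ⟨x, ⟨-, hx⟩, rfl⟩
      exact outMap_mem_clsSub h2 hm hd (mem_indSub.1 hx).1 (mem_indSub.1 hx).2
    · rintro _ (rfl | rfl)
      exacts [hT, hD]
  rw [e] at h
  exact Nat.eq_of_mul_eq_mul_right Nat.card_pos (h.trans (one_mul _).symm)

include h2 hd in
theorem count_of_image (hT : clT hm d ≠ 1) (β : MulAut (Cfsg.POmega F ⇑(plusQ m F)))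
    (u : Cfsg.Out (Cfsg.POmega F ⇑(plusQ m F))) (hu : u ∈ centCls β)
    (hcl : ∀ w ∈ centCls β, w = 1 ∨ w = u) :
    (u = 1 → Cfsg.splitClassCount (indAut m F) (Cfsg.Inn (Cfsg.POmega F ⇑(plusQ m F))) β = 4) ∧
    (u ≠ 1 → Cfsg.splitClassCount (indAut m F) (Cfsg.Inn (Cfsg.POmega F ⇑(plusQ m F))) β = 2) := by
  classical
  have h := splitClassCount_mul h2 hm hd β
  rw [card_clsSub h2 hm hd hT] at h
  have e : (centCls β : Set (Cfsg.Out (Cfsg.POmega F ⇑(plusQ m F)))) = {1, u} := by
    ext w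
    refine ⟨fun hw => hcl w hw, ?_⟩
    rintro (rfl | rfl)
    exacts [one_mem _, hu]
  have hcard : Nat.card ↥(centCls β) = if u = 1 then 1 else 2 := by
    rw [← SetLike.coe_sort_coe, e, Nat.card_coe_set_eq]
    split_ifs with h'
    · subst h'; simp
    · rw [Set.ncard_pair (Ne.symm h')]
  rw [hcard] at h
  constructor <;> intro hu1
  · rw [if_pos hu1, mul_one] at h; exact h
  · rw [if_neg hu1] at h; omega

end Odd

section Image

variable {F₀ : Type*} [Field F₀] [Fintype F₀] {κ : Type} [Fintype κ] [DecidableEq κ] {e : F₀ →+* F}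
  {σ : F ≃+* F} {Q₀ : QuadraticForm F₀ (κ → F₀)} {X : ↥(semiGroup (plusQ m F))} (D : Twist e σ Q₀ X)

include D in
/-- Similitudes over the subfield with square multiplier give inner classes, when the subfield consists of
squares. -/
theorem outMap_of_square (h2 : (2 : F) ≠ 0) (hm : 4 ≤ m) (hsq : ∀ a, IsSquare (e a))
    (hQ : Q₀.polarBilin.Nondegenerate) (hn : 5 ≤ Fintype.card κ) {H : ↥(semiGroup (plusQ m F))}
    (hs : psgn m F H = 1) (hr : H.1.right = 1) (hc : Commute H X) {c : F₀}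
    (hH : ∀ v, plusQ m F (semi H.1 v) = e c * plusQ m F v) (hcsq : IsSquare c) :
    outMap (plusQ m F) H = 1 := by
  classical
  obtain ⟨t, ht⟩ := hcsq
  have hv0 : plusQ m F (pv (⟨0, by omega⟩ : Fin m) 1) ≠ 0 := pv_ne one_ne_zero
  have ht0 : t ≠ 0 := by
    rintro rfl
    obtain ⟨u, hu⟩ : ∃ u, semi H.1 u = pv (F := F) (⟨0, by omega⟩ : Fin m) 1 := ⟨_, semi_semi_inv H.1 _⟩
    apply hv0
    rw [← hu, hH, ht, mul_zero, map_zero, zero_mul]
  set u : Fˣ := (Units.mk0 (e t) ((map_ne_zero e).2 ht0))⁻¹ with hu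
  let S : ↥(semiGroup (plusQ m F)) :=
    ⟨SemidirectProduct.inl (GeneralLinearGroup.scalar (PI' m) u), ⟨u * u, fun v => by
      show plusQ m F ((GeneralLinearGroup.scalar (PI' m) u : Matrix (PI' m) (PI' m) F) *ᵥ
        ((1 : F ≃+* F) ∘ v)) = _
      rw [scalar_mulVec, QuadraticMap.map_smul]
      rfl⟩⟩
  have hSs : ∀ v, semi S.1 v = (u : F) • v := fun v => by
    show (GeneralLinearGroup.scalar (PI' m) u : Matrix (PI' m) (PI' m) F) *ᵥ ((1 : F ≃+* F) ∘ v) = _
    rw [scalar_mulVec]; rfl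
  have hu0 : σ (u : F) = u := by rw [hu, Units.val_inv_eq_inv_val, map_inv₀, Units.val_mk0, D.fix_e]
  have hSX : Commute S X := by
    refine Subtype.ext (left_ext ?_ fun v => ?_)
    · show 1 * X.1.right = X.1.right * 1
      rw [one_mul, mul_one]
    rw [Subgroup.coe_mul, Subgroup.coe_mul, semi_mul, semi_mul, hSs, hSs, GammaO57.semi_smul, D.hright, hu0]
  have hn₀ : Fintype.card κ ≠ 4 := by omega
  obtain ⟨x, hx⟩ := D.descend (⟨_, (exists_anisotropic hQ (by omega)).choose_spec⟩)
    (H := S * H) (by show 1 * H.1.right = 1; rw [hr, one_mul]) (hSX.mul_left hc)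
  have hx1 : ∀ w, Q₀ ((x.1.1.left : Matrix κ κ F₀) *ᵥ w) = Q₀ w := fun w => e.injective (by
    have e1 := congrArg (fun y : ↥(semiGroup (plusQ m F)) => plusQ m F (semi y.1 (D.T (e ∘ w)))) hx
    simp only [D.semi_emb] at e1
    rw [show (GeneralLinearGroup.map e x.1.1.left : Matrix κ κ F) = (x.1.1.left : Matrix κ κ F₀).map e from rfl,
      map_mulVec_comp, D.hQ, Subgroup.coe_mul, semi_mul, hSs, QuadraticMap.map_smul, hH, D.hQ, smul_eq_mul,
      hu, Units.val_inv_eq_inv_val, Units.val_mk0, ← mul_assoc, ht, map_mul] at e1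
    rw [e1, show ((e t)⁻¹ * (e t)⁻¹) * (e t * e t) = 1 by
      have := (map_ne_zero e).2 ht0; field_simp, one_mul])
  let g : O Q₀ := ⟨x.1.1.left, (mem_O_iff _).2 hx1⟩
  have hxg : x = oSim g := Subtype.ext (Subtype.ext (SemidirectProduct.ext rfl x.2))
  -- two homomorphisms on the isometry group
  obtain ⟨d, hd⟩ := CfsgLib.OrthOmega.exists_not_square h2
  have hd0 : d ≠ 0 := fun h => hd (h ▸ IsSquare.zero)
  have hgen : reflClosure Q₀ = ⊤ := reflClosure_eq_top hQ (Or.inr hn₀)
  let M : O Q₀ →* O (plusQ m F) :=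
    { toFun := fun g => ⟨(D.emb (oSim g)).1.left, (mem_O_iff _).2 fun v => by
        obtain ⟨w, rfl⟩ := D.T.surjective v
        rw [D.emb_left, D.conjT_mulVec, D.map_similar (c := 1) (fun w' => by
          rw [one_mul]; exact Q_app g w'), map_one, one_mul]⟩
      map_one' := Subtype.ext (by
        show (D.emb (oSim 1)).1.left = 1
        rw [show oSim (1 : O Q₀) = 1 from Subtype.ext (map_one _), map_one]; rfl)
      map_mul' := fun a b => Subtype.ext (by
        show (D.emb (oSim (a * b))).1.left = _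
        rw [show oSim (a * b) = oSim a * oSim b from Subtype.ext (map_mul _ _ _), map_mul, Subgroup.coe_mul,
          SemidirectProduct.mul_left, D.emb_right, map_one, MulAut.one_apply]
        rfl) }
  have hM : ∀ a, D.emb (oSim a) = oIn (plusQ m F) (M a) := fun a =>
    Subtype.ext (SemidirectProduct.ext rfl rfl)
  have hhom : (chiPair (plusQ m F) d).comp M =
      (((psgn m F).comp D.emb).comp ((oIn Q₀).codRestrict (simSub Q₀) fun _ => rfl)).prod 1 := by
    refine CfsgLib.OrthOmega.hom_ext_refl hgen fun v hv => ?_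
    have e1 : M (refl Q₀ v) = refl (plusQ m F) (D.T (e ∘ v)) := by
      apply Subtype.ext
      show (D.emb (oSim (refl Q₀ v))).1.left = _
      rw [D.emb_refl]; rfl
    have hne : plusQ m F (D.T (e ∘ v)) ≠ 0 := by rw [D.hQ]; exact (map_ne_zero e).2 hv
    rw [MonoidHom.comp_apply, e1, chiPair_refl' h2 hd hne, D.hQ, (sqSign_eq_one_iff _).2 (hsq _)]
    show ((-1 : ℤˣ), (1 : ℤˣ)) = (psgn m F (D.emb (oSim (refl Q₀ v))), 1)
    rw [D.emb_refl, psgn_refl hne]
  have hchi : chiPair (plusQ m F) d (M g) = 1 := by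
    have h1 := DFunLike.congr_fun hhom g
    rw [MonoidHom.comp_apply] at h1
    rw [h1]
    show (psgn m F (D.emb (oSim g)), (1 : ℤˣ)) = 1
    rw [← hxg, hx, map_mul, hs, psgn_scalar (x := S) rfl rfl, one_mul]
    rfl
  have hSH : outMap (plusQ m F) (S * H) = 1 := by
    rw [← hx, hxg, hM]
    show cls (plusQ m F) (M g) = 1
    refine cls_omega hm ?_
    rwa [CfsgLib.OrthOmega.mem_omega_odd (plusQ_nondegenerate m) h2 hd]
  rw [map_mul, show outMap (plusQ m F) S = 1 by
    rw [outMap, MonoidHom.comp_apply, gAut_scalar (x := S) rfl rfl, map_one], one_mul] at hSH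
  exact hSH

include D in
/-- The classes centralising `gAut X` when the subfield consists of squares: generated by one element of
non-square multiplier. -/
theorem centCls_cases (h2 : (2 : F) ≠ 0) (hm : 4 ≤ m) (hsq : ∀ a, IsSquare (e a))
    (hQ : Q₀.polarBilin.Nondegenerate) (hn : 5 ≤ Fintype.card κ) {H₁ : ↥(semiGroup (plusQ m F))}
    (hs₁ : psgn m F H₁ = 1) (hr₁ : H₁.1.right = 1) (hc₁ : Commute H₁ X) {d₀ : F₀} (hd₀ : ¬ IsSquare d₀)
    (hH₁ : ∀ v, plusQ m F (semi H₁.1 v) = e d₀ * plusQ m F v) :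
    outMap (plusQ m F) H₁ ∈ centCls (gAut (plusQ m F) X) ∧
      ∀ w ∈ centCls (gAut (plusQ m F) X), w = 1 ∨ w = outMap (plusQ m F) H₁ := by
  classical
  refine ⟨⟨H₁, ⟨Subgroup.mem_centralizer_singleton_iff.2 (hc₁.map (gAut (plusQ m F))).eq, hs₁, hr₁⟩, rfl⟩, ?_⟩
  rintro _ ⟨h, ⟨hcent, hind⟩, rfl⟩
  obtain ⟨hs', hr'⟩ := mem_indSub.1 hind
  obtain ⟨H, hr, hc, hg⟩ := D.exists_comm hm hr' hcent
  have hout : outMap (plusQ m F) h = outMap (plusQ m F) H := by
    rw [outMap, MonoidHom.comp_apply, MonoidHom.comp_apply, hg]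
  have hs : psgn m F H = 1 := (gAut_inj_iff hm hg).2.trans hs'
  rw [hout]
  have hQ0 : ∃ w, Q₀ w ≠ 0 := exists_anisotropic hQ (by omega)
  obtain ⟨x, rfl⟩ := D.descend hQ0 hr hc
  obtain ⟨c, hcx⟩ := x.1.2
  rw [show x.1.1.right = 1 from x.2] at hcx
  have hmult : ∀ v, plusQ m F (semi (D.emb x).1 v) = e c * plusQ m F v := fun v => by
    obtain ⟨w, rfl⟩ := D.T.surjective v
    rw [D.semi_emb, D.map_similar]
    intro w'
    have h := hcx w'
    rw [semi, show x.1.1.right = 1 from x.2] at h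
    exact h
  by_cases hcs : IsSquare (c : F₀)
  · exact Or.inl (outMap_of_square D h2 hm hsq hQ hn hs hr hc hmult hcs)
  right
  have h20 : (2 : F₀) ≠ 0 := fun h => h2 (by rw [← map_ofNat e, h, map_zero])
  have hd00 : d₀ ≠ 0 := fun h => hd₀ (h ▸ IsSquare.zero)
  have hsqc : IsSquare (d₀⁻¹ * (c : F₀)) := by
    rw [← sqSign_eq_one_iff, sqSign_mul (inv_ne_zero hd00) c.ne_zero]
    simp [sqSign, hd₀, hcs]
  have hinv : ∀ v, plusQ m F (semi (H₁⁻¹ * D.emb x : ↥(semiGroup (plusQ m F))).1 v) =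
      e (d₀⁻¹ * c) * plusQ m F v := fun v => by
    have e1 := hH₁ (semi (H₁⁻¹ * D.emb x : ↥(semiGroup (plusQ m F))).1 v)
    rw [← semi_mul, ← Subgroup.coe_mul, mul_inv_cancel_left, hmult] at e1
    rw [map_mul, map_inv₀, mul_assoc, e1, inv_mul_cancel_left₀ ((map_ne_zero e).2 hd00)]
  have h1 := outMap_of_square D h2 hm hsq hQ hn
    (H := H₁⁻¹ * D.emb x) (by rw [map_mul, map_inv, hs₁, hs, inv_one, one_mul])
    (by show (H₁⁻¹).1.right * (D.emb x).1.right = 1
        rw [D.emb_right, mul_one]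
        show H₁.1.right⁻¹ = 1
        rw [hr₁, inv_one])
    (hc₁.inv_left.mul_left hc) hinv hsqc
  rw [map_mul, map_inv, inv_mul_eq_one] at h1
  exact h1.symm

end Image

end Cfsg.Agent.PlusSplit57
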