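import Cfsg.Agent.Helper57PlusLang
import Cfsg.Agent.Helper57OutMinusTwo

/-!
The centraliser of a (twisted) field automorphism of `PΩ⁺_{2m}(F)` in the inner-diagonal group, as the
similitudes of a form over the fixed field.
-/

set_option autoImplicit false
set_option linter.unusedSectionVars false

namespace Cfsg.Agent.PlusTwist57

open Matrix QuadraticMap CfsgLib.Orth CfsgLib.FieldPOmega
open CfsgLib.FieldGalois hiding semi
open Cfsg.Agent.GammaO57 Cfsg.Agent.OutPlus57 Cfsg.Agent.PlusField57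

variable {F : Type*} [Field F] [Fintype F] {F₀ : Type*} [Field F₀] [Fintype F₀] {m : ℕ} {κ : Type}
  [Fintype κ] [DecidableEq κ]

/-- Coordinates for the semisimilarity `X` over `σ` in which it is the field automorphism, and in which
the form is the extension of a form over the fixed field. -/
structure Twist (e : F₀ →+* F) (σ : F ≃+* F) (Q₀ : QuadraticForm F₀ (κ → F₀))
    (X : ↥(semiGroup (plusQ m F))) where
  /-- the coordinates -/
  T : (κ → F) ≃ₗ[F] (PI' m → F)
  hfix : ∀ y, σ y = y ↔ ∃ a, e a = y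
  hQ : ∀ w : κ → F₀, plusQ m F (T (e ∘ w)) = e (Q₀ w)
  hright : X.1.right = σ
  hX : ∀ v, semi X.1 (T v) = T (σ ∘ v)

variable {e : F₀ →+* F} {σ : F ≃+* F} {Q₀ : QuadraticForm F₀ (κ → F₀)}
  {X : ↥(semiGroup (plusQ m F))} (D : Twist e σ Q₀ X)

/-- Conjugating by the coordinates. -/
noncomputable def Twist.conjT : GL κ F →* GL (PI' m) F :=
  (Matrix.GeneralLinearGroup.toLin.symm.toMonoidHom.comp
    (LinearMap.GeneralLinearGroup.congrLinearEquiv D.T).toMonoidHom).comp
      Matrix.GeneralLinearGroup.toLin.toMonoidHom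

theorem Twist.conjT_mulVec (g : GL κ F) (v : κ → F) :
    (D.conjT g : Matrix (PI' m) (PI' m) F) *ᵥ D.T v = D.T ((g : Matrix κ κ F) *ᵥ v) := by
  show LinearMap.toMatrix' _ *ᵥ _ = _
  rw [LinearMap.toMatrix'_mulVec]
  show D.T (Matrix.toLin' (g : Matrix κ κ F) (D.T.symm (D.T v))) = _
  rw [LinearEquiv.symm_apply_apply, Matrix.toLin'_apply]

theorem Twist.conjT_injective : Function.Injective D.conjT := fun a b h => by
  refine Units.ext (Matrix.ext_of_mulVec_single fun i => D.T.injective ?_)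
  rw [← D.conjT_mulVec, ← D.conjT_mulVec, h]

theorem Twist.conjT_scalar (c : Fˣ) :
    D.conjT (GeneralLinearGroup.scalar κ c) = GeneralLinearGroup.scalar (PI' m) c := by
  refine Units.ext (Matrix.ext_of_mulVec_single fun i => ?_)
  obtain ⟨v, hv⟩ := D.T.surjective (Pi.single i 1)
  rw [← hv, D.conjT_mulVec, scalar_mulVec, scalar_mulVec, map_smul]

include D in
theorem Twist.fix_e (a : F₀) : σ (e a) = e a := (D.hfix _).2 ⟨a, rfl⟩

theorem Twist.extends_comp : Extends e Q₀ ((plusQ m F).comp D.T.toLinearMap) := D.hQ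

/-- Similitudes of the form over the subfield. -/
noncomputable def simSub (Q₀ : QuadraticForm F₀ (κ → F₀)) : Subgroup ↥(semiGroup Q₀) :=
  (SemidirectProduct.rightHom.comp (semiGroup Q₀).subtype).ker

theorem simSub_left_mul {x y : ↥(semiGroup Q₀)} (hx : x.1.right = 1) :
    (x * y).1.left = x.1.left * y.1.left := by
  show x.1.left * glAut κ F₀ x.1.right y.1.left = _
  rw [hx, map_one, MulAut.one_apply]

theorem Twist.map_similar {g : GL κ F₀} {c : F₀} (hc : ∀ w, Q₀ ((g : Matrix κ κ F₀) *ᵥ w) = c * Q₀ w)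
    (v : κ → F) :
    plusQ m F (D.T ((GeneralLinearGroup.map e g : Matrix κ κ F) *ᵥ v)) = e c * plusQ m F (D.T v) := by
  have h : ((plusQ m F).comp D.T.toLinearMap).comp
      (Matrix.mulVecLin (GeneralLinearGroup.map e g : Matrix κ κ F)) =
      e c • (plusQ m F).comp D.T.toLinearMap := by
    refine Extends.eq_comp (e := e) (Q₀ := c • Q₀) (fun w => ?_) (fun w => ?_)
    · show plusQ m F (D.T ((g : Matrix κ κ F₀).map e *ᵥ (e ∘ w))) = e (c * Q₀ w)
      rw [map_mulVec_comp, D.hQ, hc]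
    · show e c * plusQ m F (D.T (e ∘ w)) = e (c * Q₀ w)
      rw [D.hQ, map_mul]
  exact congrArg (fun P : QuadraticForm F (κ → F) => P v) h

theorem Twist.emb_mem (x : ↥(simSub Q₀)) :
    SemidirectProduct.inl (D.conjT (GeneralLinearGroup.map e x.1.1.left)) ∈ semiGroup (plusQ m F) := by
  obtain ⟨c, hc⟩ := x.1.2
  have hr : x.1.1.right = 1 := x.2
  have hc' : ∀ w, Q₀ ((x.1.1.left : Matrix κ κ F₀) *ᵥ w) = (c : F₀) * Q₀ w := fun w => by
    have h := hc w
    rw [semi, hr] at h
    exact h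
  refine ⟨Units.map e.toMonoidHom c, fun v => ?_⟩
  obtain ⟨w, rfl⟩ := D.T.surjective v
  show plusQ m F ((D.conjT _ : Matrix (PI' m) (PI' m) F) *ᵥ ((1 : F ≃+* F) ∘ D.T w)) = _
  rw [show (1 : F ≃+* F) ∘ D.T w = D.T w from rfl, D.conjT_mulVec, D.map_similar hc']
  rfl

/-- Similitudes over the subfield as similitudes commuting with `X`. -/
noncomputable def Twist.emb : ↥(simSub Q₀) →* ↥(semiGroup (plusQ m F)) where
  toFun x := ⟨_, D.emb_mem x⟩
  map_one' := Subtype.ext (by
    show SemidirectProduct.inl (D.conjT (GeneralLinearGroup.map e (1 : GLS κ F₀).left)) = 1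
    rw [SemidirectProduct.one_left, map_one, map_one, map_one])
  map_mul' x y := Subtype.ext (by
    show SemidirectProduct.inl (D.conjT (GeneralLinearGroup.map e (x.1 * y.1).1.left)) = _
    rw [simSub_left_mul x.2, map_mul, map_mul, map_mul]
    rfl)

theorem Twist.emb_right (x : ↥(simSub Q₀)) : (D.emb x).1.right = 1 := rfl

theorem Twist.emb_left (x : ↥(simSub Q₀)) :
    (D.emb x).1.left = D.conjT (GeneralLinearGroup.map e x.1.1.left) := rfl

theorem Twist.semi_emb (x : ↥(simSub Q₀)) (v : κ → F) :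
    semi (D.emb x).1 (D.T v) = D.T ((GeneralLinearGroup.map e x.1.1.left : Matrix κ κ F) *ᵥ v) := by
  show (D.conjT _ : Matrix (PI' m) (PI' m) F) *ᵥ ((1 : F ≃+* F) ∘ D.T v) = _
  rw [show (1 : F ≃+* F) ∘ D.T v = D.T v from rfl, D.conjT_mulVec]

theorem left_ext {x y : GLS (PI' m) F} (hr : x.right = y.right) (h : ∀ v, semi x v = semi y v) : x = y := by
  refine SemidirectProduct.ext (Units.ext (Matrix.ext_of_mulVec_single fun i => ?_)) hr
  have hs : ∀ τ : F ≃+* F, τ ∘ (Pi.single i 1 : PI' m → F) = Pi.single i 1 := fun τ => by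
    funext j; simp [Pi.single_apply, apply_ite τ]
  have h1 := h (Pi.single i 1)
  rwa [semi, semi, hs, hs] at h1

theorem Twist.emb_comm (x : ↥(simSub Q₀)) : Commute (D.emb x) X := by
  refine Subtype.ext (left_ext ?_ fun v => ?_)
  · show 1 * X.1.right = X.1.right * 1
    rw [one_mul, mul_one]
  obtain ⟨w, rfl⟩ := D.T.surjective v
  rw [Subgroup.coe_mul, Subgroup.coe_mul, semi_mul, semi_mul, D.hX, D.semi_emb, D.semi_emb, D.hX]
  congr 1
  have hA : ∀ i j, σ ((GeneralLinearGroup.map e x.1.1.left : Matrix κ κ F) i j) =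
      (GeneralLinearGroup.map e x.1.1.left : Matrix κ κ F) i j := fun i j => D.fix_e _
  funext i
  simp only [Matrix.mulVec, dotProduct, Function.comp_apply, map_sum, map_mul, hA]

/-- An isometry over the subfield. -/
noncomputable def oSim (g : O Q₀) : ↥(simSub Q₀) := ⟨oIn Q₀ g, rfl⟩

theorem Twist.emb_refl (u : κ → F₀) :
    D.emb (oSim (refl Q₀ u)) = oIn (plusQ m F) (refl (plusQ m F) (D.T (e ∘ u))) := by
  refine Subtype.ext (left_ext rfl fun v => ?_)
  obtain ⟨w, rfl⟩ := D.T.surjective v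
  rw [D.semi_emb, show semi (oIn (plusQ m F) (refl (plusQ m F) (D.T (e ∘ u)))).1 (D.T w) =
    app (refl (plusQ m F) (D.T (e ∘ u))) (D.T w) from app_semi _ _, app_refl]
  have hP : ∀ w', polar ((plusQ m F).comp D.T.toLinearMap) w' (e ∘ u) =
      polar (plusQ m F) (D.T w') (D.T (e ∘ u)) := fun w' => by simp [QuadraticMap.polar]
  have hfun : ∀ a : κ → F₀, e ∘ app (refl Q₀ u) a =
      e ∘ a - ((plusQ m F (D.T (e ∘ u)))⁻¹ * polar (plusQ m F) (D.T (e ∘ a)) (D.T (e ∘ u))) • (e ∘ u) :=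
    fun a => by
    rw [← hP, D.extends_comp.polar_comp, D.hQ, app_refl]
    funext i
    simp [map_inv₀]
  have key : Matrix.mulVecLin (GeneralLinearGroup.map e (oSim (refl Q₀ u)).1.1.left : Matrix κ κ F) =
      LinearMap.id - LinearMap.smulRight
        ((plusQ m F (D.T (e ∘ u)))⁻¹ • (((plusQ m F).comp D.T.toLinearMap).polarBilin.flip (e ∘ u))) (e ∘ u) := by
    refine (Pi.basisFun F κ).ext fun j => ?_
    rw [Pi.basisFun_apply, ← comp_single (e := e), Matrix.mulVecLin_apply]
    show (((oIn Q₀ (refl Q₀ u)).1.left : GL κ F₀) : Matrix κ κ F₀).map e *ᵥ (e ∘ Pi.single j 1) =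
      e ∘ Pi.single j 1 - ((plusQ m F (D.T (e ∘ u)))⁻¹ •
        polar ((plusQ m F).comp D.T.toLinearMap) (e ∘ Pi.single j 1) (e ∘ u)) • (e ∘ u)
    rw [map_mulVec_comp, hP, smul_eq_mul, ← hfun]
    rfl
  have h := congrArg (fun L : (κ → F) →ₗ[F] (κ → F) => D.T (L w)) key
  simp only [Matrix.mulVecLin_apply] at h
  rw [h]
  show D.T (w - ((plusQ m F (D.T (e ∘ u)))⁻¹ •
      polar ((plusQ m F).comp D.T.toLinearMap) w (e ∘ u)) • (e ∘ u)) = _
  rw [hP, map_sub, map_smul, smul_eq_mul]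

/-- A similitude commuting with `X` comes from the subfield. -/
theorem Twist.descend (hQ0 : ∃ w, Q₀ w ≠ 0) {H : ↥(semiGroup (plusQ m F))} (h1 : H.1.right = 1)
    (hc : Commute H X) : ∃ x : ↥(simSub Q₀), D.emb x = H := by
  set A : GL κ F := Matrix.GeneralLinearGroup.toLin.symm
    ((LinearMap.GeneralLinearGroup.congrLinearEquiv D.T.symm) (Matrix.GeneralLinearGroup.toLin H.1.left))
    with hAdef
  have hA : ∀ v, (A : Matrix κ κ F) *ᵥ v = D.T.symm ((H.1.left : Matrix (PI' m) (PI' m) F) *ᵥ D.T v) := fun v => by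
    show LinearMap.toMatrix' _ *ᵥ _ = _
    rw [LinearMap.toMatrix'_mulVec]
    rfl
  have hH : ∀ v, semi H.1 (D.T v) = D.T ((A : Matrix κ κ F) *ᵥ v) := fun v => by
    rw [hA, LinearEquiv.apply_symm_apply, semi, h1]
    rfl
  have hfixA : ∀ i j, σ ((A : Matrix κ κ F) i j) = (A : Matrix κ κ F) i j := by
    intro i j
    have h := congrArg (fun y : ↥(semiGroup (plusQ m F)) => semi y.1 (D.T (Pi.single j 1))) hc.eq
    simp only [Subgroup.coe_mul, semi_mul] at h
    have hs : σ ∘ (Pi.single j 1 : κ → F) = Pi.single j 1 := by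
      funext k; simp [Pi.single_apply, apply_ite σ]
    rw [D.hX, hH, hs, hH, D.hX, D.T.injective.eq_iff] at h
    have h' := congrFun h i
    simp only [mulVec_single_one, Function.comp_apply, Matrix.col_apply] at h'
    exact h'.symm
  choose a ha using fun i j => (D.hfix _).1 (hfixA i j)
  set M : Matrix κ κ F₀ := Matrix.of a
  have hM : M.map e = (A : Matrix κ κ F) := by ext i j; exact ha i j
  have hdet : M.det ≠ 0 := fun h0 => (GeneralLinearGroup.det A).ne_zero (by
    show (A : Matrix κ κ F).det = 0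
    rw [← hM, ← RingHom.mapMatrix_apply, ← RingHom.map_det, h0, map_zero])
  set g := GeneralLinearGroup.mkOfDetNeZero M hdet
  obtain ⟨c, hcQ⟩ := H.2
  have hw : ∀ w, e (Q₀ (M *ᵥ w)) = (c : F) * e (Q₀ w) := fun w => by
    rw [← D.hQ, ← D.hQ, ← map_mulVec_comp (e := e), hM, ← hH, hcQ, h1]
    rfl
  obtain ⟨w₀, hw₀⟩ := hQ0
  set c₀ := Q₀ (M *ᵥ w₀) / Q₀ w₀
  have hec : e c₀ = c := by rw [map_div₀, hw, mul_div_cancel_right₀ _ ((map_ne_zero e).2 hw₀)]
  have hc₀ : c₀ ≠ 0 := fun h => c.ne_zero (by rw [← hec, h, map_zero])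
  let x : ↥(semiGroup Q₀) := ⟨SemidirectProduct.inl g, ⟨Units.mk0 c₀ hc₀, fun w => e.injective (by
    show e (Q₀ (M *ᵥ ((1 : F₀ ≃+* F₀) ∘ w))) = e (c₀ * Q₀ w)
    rw [map_mul, hec]
    exact hw w)⟩⟩
  refine ⟨⟨x, rfl⟩, Subtype.ext (left_ext h1.symm fun v => ?_)⟩
  obtain ⟨w, rfl⟩ := D.T.surjective v
  rw [D.semi_emb, hH]
  show D.T (M.map e *ᵥ w) = _
  rw [hM]

/-- Similitudes over the subfield inducing inner-diagonal automorphisms. -/
noncomputable def Twist.indSub₀ : Subgroup ↥(simSub Q₀) := ((psgn m F).comp D.emb).ker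

theorem Twist.emb_mem_indSub (x : ↥(D.indSub₀)) : D.emb x.1 ∈ indSub m F := ⟨x.2, rfl⟩

include D in
/-- An element of `indAut` centralising `gAut X` has a representative commuting with `X`. -/
theorem Twist.exists_comm (hm : 4 ≤ m) {h : ↥(semiGroup (plusQ m F))} (h1 : h.1.right = 1)
    (hc : gAut (plusQ m F) h ∈ Subgroup.centralizer {gAut (plusQ m F) X}) :
    ∃ H : ↥(semiGroup (plusQ m F)), H.1.right = 1 ∧ Commute H X ∧
      gAut (plusQ m F) H = gAut (plusQ m F) h := by
  have : Nonempty (PI' m) := ⟨Sum.inl ⟨0, by omega⟩⟩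
  rw [Subgroup.mem_centralizer_singleton_iff, ← map_mul, ← map_mul] at hc
  have h3 : gAut (plusQ m F) ((h * X) * (X * h)⁻¹) = 1 := by rw [map_mul, map_inv, hc, mul_inv_cancel]
  obtain ⟨hr, c, hc'⟩ := gAut_eq_one (plusQ_nondegenerate m) (card_PI hm) (plusData (by omega)) h3
  have hXh : (X * h).1.right = σ := by show X.1.right * h.1.right = σ; rw [h1, mul_one, D.hright]
  have key : ∀ v, semi (h * X).1 v = (c : F) • semi (X * h).1 v := by
    intro v
    have e1 : h * X = ((h * X) * (X * h)⁻¹) * (X * h) := (inv_mul_cancel_right _ _).symm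
    rw [e1, Subgroup.coe_mul, semi_mul]
    generalize semi (X * h).1 v = u
    rw [semi, hr, hc', scalar_mulVec]
    rfl
  set A : GL κ F := Matrix.GeneralLinearGroup.toLin.symm
    ((LinearMap.GeneralLinearGroup.congrLinearEquiv D.T.symm) (Matrix.GeneralLinearGroup.toLin h.1.left))
  have hH : ∀ v, semi h.1 (D.T v) = D.T ((A : Matrix κ κ F) *ᵥ v) := fun v => by
    have hA : (A : Matrix κ κ F) *ᵥ v = D.T.symm ((h.1.left : Matrix (PI' m) (PI' m) F) *ᵥ D.T v) := by
      show LinearMap.toMatrix' _ *ᵥ _ = _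
      rw [LinearMap.toMatrix'_mulVec]
      rfl
    rw [hA, LinearEquiv.apply_symm_apply, semi, h1]
    rfl
  have hmap : GeneralLinearGroup.map σ.toRingHom A = GeneralLinearGroup.scalar κ c⁻¹ * A := by
    refine Units.ext (Matrix.ext_of_mulVec_single fun j => ?_)
    have hs : σ ∘ (Pi.single j 1 : κ → F) = Pi.single j 1 := by
      funext k; simp [Pi.single_apply, apply_ite σ]
    have h4 := key (D.T (Pi.single j 1))
    rw [Subgroup.coe_mul, Subgroup.coe_mul, semi_mul, semi_mul, D.hX, hH, hs, hH, D.hX, ← map_smul,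
      D.T.injective.eq_iff, map_mulVec', hs] at h4
    rw [Units.val_mul, ← mulVec_mulVec, scalar_mulVec, h4, smul_smul, Units.inv_mul, one_smul]
    rfl
  have : Nonempty κ := by
    by_contra hκ
    rw [not_nonempty_iff] at hκ
    have e1 := congrFun (congrArg D.T (Subsingleton.elim
      (D.T.symm (Pi.single (Sum.inl ⟨0, by omega⟩) 1)) (0 : κ → F))) (Sum.inl ⟨0, by omega⟩)
    rw [LinearEquiv.apply_symm_apply, map_zero] at e1
    simp at e1
  obtain ⟨x, hx⟩ := exists_fixed_scalar hmap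
  let S : ↥(semiGroup (plusQ m F)) :=
    ⟨SemidirectProduct.inl (GeneralLinearGroup.scalar (PI' m) x), ⟨x * x, fun v => by
      show plusQ m F ((GeneralLinearGroup.scalar (PI' m) x : Matrix (PI' m) (PI' m) F) *ᵥ
        ((1 : F ≃+* F) ∘ v)) = _
      rw [scalar_mulVec, QuadraticMap.map_smul]
      rfl⟩⟩
  refine ⟨S * h, by show 1 * h.1.right = 1; rw [h1, one_mul], ?_, ?_⟩
  · refine Subtype.ext (left_ext ?_ fun v => ?_)
    · show 1 * h.1.right * X.1.right = X.1.right * (1 * h.1.right)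
      rw [h1, one_mul, one_mul, mul_one]
    obtain ⟨w, rfl⟩ := D.T.surjective v
    have hS : ∀ u, semi (S * h).1 (D.T u) =
        D.T ((GeneralLinearGroup.scalar κ x * A : GL κ F) *ᵥ u : κ → F) := fun u => by
      rw [Subgroup.coe_mul, semi_mul, hH, Units.val_mul, ← mulVec_mulVec, scalar_mulVec, map_smul]
      show (GeneralLinearGroup.scalar (PI' m) x : Matrix (PI' m) (PI' m) F) *ᵥ _ = _
      rw [scalar_mulVec]
      rfl
    rw [Subgroup.coe_mul (semiGroup (plusQ m F)) (S * h) X, Subgroup.coe_mul (semiGroup (plusQ m F)) X (S * h),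
      semi_mul, semi_mul, D.hX, hS, hS, D.hX]
    refine congrArg D.T ?_
    conv_lhs => rw [← hx]
    rw [map_mulVec']
    rfl
  · rw [map_mul, gAut_scalar (x := S) rfl rfl, one_mul]

/-- The centraliser consists of the images of the similitudes over the subfield. -/
theorem Twist.centralizer_eq (hm : 4 ≤ m) (hQ0 : ∃ w, Q₀ w ≠ 0) :
    indAut m F ⊓ Subgroup.centralizer {gAut (plusQ m F) X} =
      (D.indSub₀).map ((gAut (plusQ m F)).comp D.emb) := by
  ext β
  constructor
  · rintro ⟨hi, hc⟩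
    obtain ⟨h, hs, h1, rfl⟩ := mem_indAut.1 hi
    obtain ⟨H, H1, HC, Hg⟩ := D.exists_comm hm h1 hc
    obtain ⟨x, rfl⟩ := D.descend hQ0 H1 HC
    exact ⟨x, show psgn m F (D.emb x) = 1 from (gAut_inj_iff hm Hg).2.trans hs, Hg⟩
  · rintro ⟨x, hx, rfl⟩
    refine ⟨mem_indAut.2 ⟨_, hx, rfl, rfl⟩, Subgroup.mem_centralizer_singleton_iff.2 ?_⟩
    exact ((D.emb_comm x).map (gAut (plusQ m F))).eq

theorem scalar_of_map_scalar [Nonempty κ] {g : GL κ F₀} {c : Fˣ}
    (h : GeneralLinearGroup.map e g = GeneralLinearGroup.scalar κ c) :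
    ∃ a : F₀ˣ, g = GeneralLinearGroup.scalar κ a := by
  obtain ⟨i⟩ := ‹Nonempty κ›
  have hent : ∀ j k, e ((g : Matrix κ κ F₀) j k) = (Matrix.scalar κ (c : F)) j k := fun j k =>
    congrArg (fun u : GL κ F => (u : Matrix κ κ F) j k) h
  have hd : ∀ j k, (g : Matrix κ κ F₀) j k = (Matrix.scalar κ ((g : Matrix κ κ F₀) i i)) j k := fun j k => by
    apply e.injective
    rw [hent, Matrix.scalar_apply, Matrix.scalar_apply]
    by_cases hjk : j = k
    · subst hjk
      rw [diagonal_apply_eq, diagonal_apply_eq, hent, Matrix.scalar_apply, diagonal_apply_eq]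
    · rw [diagonal_apply_ne _ hjk, diagonal_apply_ne _ hjk, map_zero]
  have hne : (g : Matrix κ κ F₀) i i ≠ 0 := fun h0 => c.ne_zero (by
    have := hent i i
    rw [h0, map_zero, Matrix.scalar_apply, diagonal_apply_eq] at this
    exact this.symm)
  exact ⟨Units.mk0 _ hne, Units.ext (Matrix.ext fun j k => hd j k)⟩

/-- The centraliser as the group induced on `PΩ(Q₀)`. -/
theorem Twist.nonempty_equiv (hm : 4 ≤ m) (hQ : Q₀.polarBilin.Nondegenerate) (hn : 5 ≤ Fintype.card κ)
    (d : HypData Q₀) :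
    Nonempty (↥(indAut m F ⊓ Subgroup.centralizer {gAut (plusQ m F) X}) ≃*
      ↥((D.indSub₀).map ((gAut Q₀).comp (simSub Q₀).subtype))) := by
  have : Nonempty κ := Fintype.card_pos_iff.1 (by omega)
  have hQ0 : ∃ w, Q₀ w ≠ 0 := by
    by_contra h0
    push Not at h0
    have hz : ∀ x y, polar Q₀ x y = 0 := fun x y => by simp [QuadraticMap.polar, h0]
    exact one_ne_zero (d.huu'.symm.trans (hz _ _))
  let π₁ := (((gAut (plusQ m F)).comp D.emb).comp (D.indSub₀).subtype)
  let π₂ := (((gAut Q₀).comp (simSub Q₀).subtype).comp (D.indSub₀).subtype)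
  have hker : π₁.ker = π₂.ker := by
    ext x
    simp only [MonoidHom.mem_ker]
    constructor
    · intro h
      obtain ⟨-, c, hc⟩ := gAut_eq_one (plusQ_nondegenerate m) (card_PI hm) (plusData (by omega)) h
      change (D.emb x.1).1.left = _ at hc
      rw [D.emb_left, ← D.conjT_scalar] at hc
      obtain ⟨a, ha⟩ := scalar_of_map_scalar (D.conjT_injective hc)
      exact gAut_scalar (c := a) x.1.2 ha
    · intro h
      obtain ⟨-, c, hc⟩ := gAut_eq_one hQ hn d h
      refine gAut_scalar (c := Units.map e.toMonoidHom c) rfl ?_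
      change x.1.1.1.left = _ at hc
      show (D.emb x.1).1.left = _
      rw [D.emb_left, hc, GeneralLinearGroup.map_scalar, D.conjT_scalar]
      rfl
  rw [D.centralizer_eq hm hQ0]
  rw [show (D.indSub₀).map ((gAut (plusQ m F)).comp D.emb) = π₁.range by
      rw [MonoidHom.range_comp, Subgroup.range_subtype],
    show (D.indSub₀).map ((gAut Q₀).comp (simSub Q₀).subtype) = π₂.range by
      rw [MonoidHom.range_comp, Subgroup.range_subtype]]
  exact ⟨((QuotientGroup.quotientKerEquivRange π₁).symm.trans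
    (QuotientGroup.quotientMulEquivOfEq hker)).trans (QuotientGroup.quotientKerEquivRange π₂)⟩

end Cfsg.Agent.PlusTwist57
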