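import Mathlib

/-!
Regular nilpotent endomorphisms: kernels of powers, invariant subspaces, cyclic bases.
-/

set_option autoImplicit false
set_option linter.unusedSectionVars false

namespace Cfsg.Agent.RegNilp

open Module

variable {F : Type*} [Field F] {V : Type*} [AddCommGroup V] [Module F V] [FiniteDimensional F V]

theorem finrank_ker_comp_le (f g : End F V) :
    finrank F (LinearMap.ker (f * g)) ≤ finrank F (LinearMap.ker f) + finrank F (LinearMap.ker g) := by
  let φ : LinearMap.ker (f * g) →ₗ[F] LinearMap.ker f :=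
    (g.comp (LinearMap.ker (f * g)).subtype).codRestrict _ (fun x => x.2)
  have h := φ.finrank_range_add_finrank_ker
  have h1 : finrank F (LinearMap.range φ) ≤ finrank F (LinearMap.ker f) :=
    Submodule.finrank_le _
  have h2 : finrank F (LinearMap.ker φ) ≤ finrank F (LinearMap.ker g) := by
    refine LinearMap.finrank_le_finrank_of_injective
      (f := ((LinearMap.ker (f * g)).subtype.comp (LinearMap.ker φ).subtype).codRestrict _
        (fun x => congrArg Subtype.val (LinearMap.mem_ker.1 x.2))) ?_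
    · intro x y hxy
      apply Subtype.ext
      apply Subtype.ext
      have h3 := congrArg Subtype.val hxy
      exact h3
  omega

theorem finrank_ker_pow_le (f : End F V) (h1 : finrank F (LinearMap.ker f) ≤ 1) (k : ℕ) :
    finrank F (LinearMap.ker (f ^ k)) ≤ k := by
  induction k with
  | zero =>
    rw [pow_zero, Module.End.one_eq_id, LinearMap.ker_id]
    simp
  | succ k ih =>
    rw [pow_succ]
    have := finrank_ker_comp_le (f ^ k) f
    omega

theorem ker_le_of_mem {f : End F V} {W : Submodule F V} (hf : IsNilpotent f)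
    (hW : ∀ v ∈ W, f v ∈ W) : W ≤ LinearMap.ker (f ^ finrank F W) := by
  intro v hv
  have hr : IsNilpotent (f.restrict hW) := by
    obtain ⟨k, hk⟩ := hf
    refine ⟨k, ?_⟩
    rw [Module.End.pow_restrict k]
    ext x
    simp [hk]
  have hn : (f.restrict hW) ^ finrank F W = 0 := by
    have := IsNilpotent.charpoly_eq_X_pow_finrank hr
    have h2 := LinearMap.aeval_self_charpoly (f.restrict hW)
    rw [this] at h2
    simpa using h2
  rw [Module.End.pow_restrict] at hn
  have := congrArg Subtype.val (LinearMap.congr_fun hn ⟨v, hv⟩)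
  simpa using this

/-- Invariant subspaces of a regular nilpotent endomorphism are the kernels of its powers. -/
theorem eq_ker_pow {f : End F V} (hf : IsNilpotent f) (h1 : finrank F (LinearMap.ker f) ≤ 1)
    {W : Submodule F V} (hW : ∀ v ∈ W, f v ∈ W) : W = LinearMap.ker (f ^ finrank F W) :=
  Submodule.eq_of_le_of_finrank_le (ker_le_of_mem hf hW) (finrank_ker_pow_le f h1 _)

theorem invariant_mono {f : End F V} (hf : IsNilpotent f) (h1 : finrank F (LinearMap.ker f) ≤ 1)
    {W W' : Submodule F V} (hW : ∀ v ∈ W, f v ∈ W) (hW' : ∀ v ∈ W', f v ∈ W')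
    (hle : finrank F W ≤ finrank F W') : W ≤ W' := by
  intro x hx
  rw [eq_ker_pow hf h1 hW] at hx
  rw [eq_ker_pow hf h1 hW']
  obtain ⟨d, hd⟩ := Nat.exists_eq_add_of_le hle
  rw [LinearMap.mem_ker] at hx ⊢
  rw [hd, add_comm, pow_add, Module.End.mul_apply, hx, map_zero]

/-- A regular nilpotent endomorphism has a cyclic vector. -/
theorem exists_pow_pred_ne {f : End F V} {n : ℕ} (hn : finrank F V = n) (h0 : 1 ≤ n)
    (h1 : finrank F (LinearMap.ker f) ≤ 1) : ∃ e, (f ^ (n - 1)) e ≠ 0 := by
  by_contra h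
  push_neg at h
  have hz : f ^ (n - 1) = 0 := LinearMap.ext h
  have := finrank_ker_pow_le f h1 (n - 1)
  rw [hz, LinearMap.ker_zero, finrank_top, hn] at this
  omega

theorem linearIndependent_orbit {f : End F V} {n : ℕ} (hfn : f ^ n = 0) {e : V}
    (he : (f ^ (n - 1)) e ≠ 0) : LinearIndependent F (fun i : Fin n => (f ^ (i : ℕ)) e) := by
  classical
  rw [Fintype.linearIndependent_iff]
  intro g hg i
  induction' hi : (i : ℕ) using Nat.strong_induction_on with k ih generalizing i
  subst hi
  have h2 := congrArg (f ^ (n - 1 - (i : ℕ))) hg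
  rw [map_zero, map_sum, Finset.sum_eq_single i] at h2
  · rw [map_smul, ← Module.End.mul_apply, ← pow_add,
      show n - 1 - (i : ℕ) + i = n - 1 by omega, smul_eq_zero] at h2
    exact h2.resolve_right he
  · intro j _ hj
    rcases lt_or_gt_of_ne (Fin.val_ne_of_ne hj) with hlt | hgt
    · rw [ih _ hlt j rfl, zero_smul, map_zero]
    · rw [map_smul, ← Module.End.mul_apply, ← pow_add,
        pow_eq_zero_of_le (by omega) hfn, LinearMap.zero_apply, smul_zero]
  · simp

/-- The basis `e, f e, …` of a cyclic vector. -/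
noncomputable def orbitBasis {f : End F V} {n : ℕ} (hn : finrank F V = n) (hfn : f ^ n = 0) {e : V}
    (he : (f ^ (n - 1)) e ≠ 0) (h0 : 1 ≤ n) : Basis (Fin n) F V :=
  haveI : Nonempty (Fin n) := ⟨⟨0, h0⟩⟩
  basisOfLinearIndependentOfCardEqFinrank (linearIndependent_orbit hfn he) (by simp [hn])

theorem orbitBasis_apply {f : End F V} {n : ℕ} (hn : finrank F V = n) (hfn : f ^ n = 0) {e : V}
    (he : (f ^ (n - 1)) e ≠ 0) (h0 : 1 ≤ n) (i : Fin n) :
    orbitBasis hn hfn he h0 i = (f ^ (i : ℕ)) e := by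
  unfold orbitBasis
  simp

theorem exists_intertwine {f : End F V} {n : ℕ} (hn : finrank F V = n) (h0 : 1 ≤ n)
    (hfn : f ^ n = 0) {e : V} (he : (f ^ (n - 1)) e ≠ 0) {W : Type*} [AddCommGroup W] [Module F W]
    {g : End F W} (hgn : g ^ n = 0) (w : W) :
    ∃ T : V →ₗ[F] W, (∀ i, T ((f ^ i) e) = (g ^ i) w) ∧ T.comp f = g.comp T := by
  let b := orbitBasis hn hfn he h0
  let T := b.constr F (fun i : Fin n => (g ^ (i : ℕ)) w)
  have hT : ∀ i, T ((f ^ i) e) = (g ^ i) w := by
    intro i
    by_cases hi : i < n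
    · have := b.constr_basis F (fun i : Fin n => (g ^ (i : ℕ)) w) ⟨i, hi⟩
      rw [orbitBasis_apply] at this
      exact this
    · rw [pow_eq_zero_of_le (not_lt.1 hi) hfn, pow_eq_zero_of_le (not_lt.1 hi) hgn]
      simp
  refine ⟨T, hT, b.ext fun i => ?_⟩
  rw [LinearMap.comp_apply, LinearMap.comp_apply, orbitBasis_apply]
  rw [← Module.End.mul_apply, ← pow_succ', hT, hT, pow_succ', Module.End.mul_apply]

theorem intertwine_bijective {f : End F V} {n : ℕ} (hn : finrank F V = n) (h0 : 1 ≤ n)
    (hfn : f ^ n = 0) {e : V} (he : (f ^ (n - 1)) e ≠ 0) {W : Type*} [AddCommGroup W] [Module F W]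
    [FiniteDimensional F W] {g : End F W} (hW : finrank F W = n) (hgn : g ^ n = 0) {w : W}
    (hw : (g ^ (n - 1)) w ≠ 0) {T : V →ₗ[F] W} (hT : ∀ i, T ((f ^ i) e) = (g ^ i) w) :
    Function.Bijective T := by
  have : T = ((orbitBasis hn hfn he h0).equiv (orbitBasis hW hgn hw h0) (Equiv.refl _)).toLinearMap := by
    refine (orbitBasis hn hfn he h0).ext fun i => ?_
    rw [LinearEquiv.coe_coe, Basis.equiv_apply, Equiv.refl_apply, orbitBasis_apply, orbitBasis_apply,
      hT]
  rw [this]
  exact LinearEquiv.bijective _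

/-- Two regular nilpotent endomorphisms of equal dimension are conjugate. -/
theorem exists_conj {f : End F V} {n : ℕ} (hn : finrank F V = n) (h0 : 1 ≤ n) (hfn : f ^ n = 0)
    (h1 : finrank F (LinearMap.ker f) ≤ 1) {W : Type*} [AddCommGroup W] [Module F W]
    [FiniteDimensional F W] {g : End F W} (hW : finrank F W = n) (hgn : g ^ n = 0)
    (h1' : finrank F (LinearMap.ker g) ≤ 1) :
    ∃ T : V ≃ₗ[F] W, T.toLinearMap.comp f = g.comp T.toLinearMap := by
  obtain ⟨e, he⟩ := exists_pow_pred_ne hn h0 h1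
  obtain ⟨w, hw⟩ := exists_pow_pred_ne hW h0 h1'
  obtain ⟨T, hT, hc⟩ := exists_intertwine hn h0 hfn he hgn w
  exact ⟨LinearEquiv.ofBijective T (intertwine_bijective hn h0 hfn he hW hgn hw hT), hc⟩

theorem finrank_ker_of_rank {n : Type*} [Fintype n] [DecidableEq n] (A : Matrix n n F) {k : ℕ}
    (hA : A.rank = Fintype.card n - k) (hk : k ≤ Fintype.card n) :
    finrank F (LinearMap.ker (Matrix.mulVecLin A)) = k := by
  have := (Matrix.mulVecLin A).finrank_range_add_finrank_ker
  rw [finrank_fintype_fun_eq_card] at this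
  rw [Matrix.rank] at hA
  omega

theorem mulVecLin_pow {n : Type*} [Fintype n] [DecidableEq n] (A : Matrix n n F) (k : ℕ) :
    Matrix.mulVecLin (A ^ k) = (Matrix.mulVecLin A : End F (n → F)) ^ k :=
  map_pow (Matrix.toLinAlgEquiv' (R := F) (n := n)).toAlgHom A k

end Cfsg.Agent.RegNilp
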