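import Cfsg.Agent.Helper57RegNilp

/-!
Rank and commutant of a regular nilpotent matrix.
-/

set_option autoImplicit false

namespace Cfsg.Agent.RegNilp

open Module

variable {F : Type*} [Field F] {n : ℕ}

theorem finrank_range_of_cyclic {V : Type*} [AddCommGroup V] [Module F V] [FiniteDimensional F V]
    {f : End F V} (hn : finrank F V = n) (h0 : 1 ≤ n) (hfn : f ^ n = 0) {e : V}
    (he : (f ^ (n - 1)) e ≠ 0) : finrank F (LinearMap.range f) = n - 1 := by
  have hle : LinearMap.range f ≤ LinearMap.ker (f ^ (n - 1)) := by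
    rintro _ ⟨v, rfl⟩
    rw [LinearMap.mem_ker, ← Module.End.mul_apply, ← pow_succ, Nat.sub_add_cancel h0, hfn]
    rfl
  have h1 : finrank F (LinearMap.range f) < n := by
    rw [← hn]
    refine lt_of_le_of_lt (Submodule.finrank_mono hle) (Submodule.finrank_lt fun h => he ?_)
    exact LinearMap.mem_ker.1 (h ▸ Submodule.mem_top (x := e))
  have h2 : n - 1 ≤ finrank F (LinearMap.range f) := by
    have hli := (linearIndependent_orbit hfn he).comp (fun i : Fin (n - 1) => (⟨(i : ℕ) + 1, by omega⟩ : Fin n))
      (fun i j h => Fin.ext (by simpa using congrArg Fin.val h))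
    have hmem : ∀ i : Fin (n - 1), (f ^ ((i : ℕ) + 1)) e ∈ LinearMap.range f := fun i =>
      ⟨(f ^ (i : ℕ)) e, by rw [← Module.End.mul_apply, ← pow_succ']⟩
    have hli' : LinearIndependent F (fun i => (⟨_, hmem i⟩ : LinearMap.range f)) :=
      LinearIndependent.of_comp (LinearMap.range f).subtype hli
    simpa using hli'.fintype_card_le_finrank
  omega

theorem det_scalar_add_nilpotent {M : Matrix (Fin n) (Fin n) F} (hM : IsNilpotent M) (c : F) :
    (Matrix.scalar (Fin n) c + M).det = c ^ n := by
  have h := Matrix.isNilpotent_charpoly_sub_pow_of_isNilpotent (IsNilpotent.neg hM)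
  have h' := sub_eq_zero.1 h.eq_zero
  have he := Matrix.eval_charpoly (-M) c
  rw [h', Polynomial.eval_pow, Polynomial.eval_X, Fintype.card_fin, sub_neg_eq_add] at he
  exact he.symm

/-- A matrix commuting with a regular nilpotent one has an `n`-th power as determinant. -/
theorem det_of_commute (h0 : 1 ≤ n) {N g : Matrix (Fin n) (Fin n) F} (hN : N ^ n = 0)
    (hreg : N.rank = n - 1) (hg : Commute g N) : ∃ c : F, g.det = c ^ n := by
  set f : End F (Fin n → F) := Matrix.mulVecLin N with hfdef
  have hn' : finrank F (Fin n → F) = n := Module.finrank_fin_fun F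
  have hfn : f ^ n = 0 := by rw [hfdef, ← mulVecLin_pow, hN, Matrix.mulVecLin_zero]
  have hker : finrank F (LinearMap.ker f) = 1 :=
    finrank_ker_of_rank _ (by simpa using hreg) (by simpa using h0)
  obtain ⟨e, he⟩ := exists_pow_pred_ne hn' h0 hker.le
  have hK : Submodule.span F {e} ⊔ LinearMap.range f = ⊤ := by
    apply Submodule.eq_top_of_finrank_eq
    have h1 := Submodule.finrank_sup_add_finrank_inf_eq (Submodule.span F {e}) (LinearMap.range f)
    have hd : Submodule.span F {e} ⊓ LinearMap.range f = ⊥ := by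
      rw [← disjoint_iff, disjoint_comm, Submodule.disjoint_span_singleton']
      · rintro ⟨v, hv⟩
        apply he
        rw [← hv, ← Module.End.mul_apply, ← pow_succ, Nat.sub_add_cancel h0, hfn]
        rfl
      · rintro rfl
        exact he (map_zero _)
    have h2 : finrank F (LinearMap.range f) = n - 1 := hreg
    rw [hd, finrank_bot, finrank_span_singleton (fun h => he (by rw [h, map_zero])), h2] at h1
    rw [hn']
    omega
  obtain ⟨x, hx, y, ⟨v, rfl⟩, hxy⟩ := Submodule.mem_sup.1 (hK ▸ Submodule.mem_top (x := g.mulVec e))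
  obtain ⟨c, rfl⟩ := Submodule.mem_span_singleton.1 hx
  obtain ⟨T, hT, hTc⟩ := exists_intertwine hn' h0 hfn he hfn v
  set h := LinearMap.toMatrix' T with hh
  have hhN : Commute h N := by
    have := congrArg LinearMap.toMatrix' hTc
    rw [LinearMap.toMatrix'_comp, LinearMap.toMatrix'_comp] at this
    simpa [hfdef, ← Matrix.toLin'_apply', LinearMap.toMatrix'_toLin', Commute, SemiconjBy] using this
  have hnil : IsNilpotent (N * h) := hhN.symm.isNilpotent_mul_right ⟨n, hN⟩
  have hg' : g = Matrix.scalar (Fin n) c + N * h := by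
    apply Matrix.toLin'.injective
    refine (orbitBasis hn' hfn he h0).ext fun i => ?_
    rw [orbitBasis_apply, Matrix.toLin'_apply, Matrix.toLin'_apply, hfdef, ← mulVecLin_pow,
      Matrix.mulVecLin_apply]
    have hcm : Commute (Matrix.scalar (Fin n) c + N * h) (N ^ (i : ℕ)) :=
      ((Matrix.scalar_commute c (fun r => Commute.all _ _) _).add_left
        ((Commute.refl N).pow_right _ |>.mul_left (hhN.pow_right _)))
    rw [Matrix.mulVec_mulVec, Matrix.mulVec_mulVec, (hg.pow_right _).eq, hcm.eq, ← Matrix.mulVec_mulVec,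
      ← Matrix.mulVec_mulVec, ← hxy, Matrix.add_mulVec, ← Matrix.mulVec_mulVec e N h, hh,
      LinearMap.toMatrix'_mulVec]
    congr 1
    have := hT 0
    simp only [pow_zero, Module.End.one_apply] at this
    rw [this, hfdef, Matrix.mulVecLin_apply, Matrix.scalar_apply, Matrix.diagonal_const_mulVec]
  exact ⟨c, by rw [hg', det_scalar_add_nilpotent hnil]⟩

end Cfsg.Agent.RegNilp
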