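import Cfsg.Agent.Helper57OutMinusTwo

/-!
Outer classes of isometries: they depend only on the spinor characters, and how semisimilarities permute
the classes of reflections.
-/

set_option autoImplicit false
set_option linter.unusedSectionVars false

namespace Cfsg.Agent.GammaO57

open Matrix QuadraticMap CfsgLib.Orth

variable {F : Type*} [Field F] [Fintype F] {ι : Type} [Fintype ι] [DecidableEq ι]
  {Q : QuadraticForm F (ι → F)}

/-- An isometry as a semisimilarity. -/
def oIn (Q : QuadraticForm F (ι → F)) : O Q →* ↥(semiGroup Q) where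
  toFun g := ⟨SemidirectProduct.inl (g : GL ι F),
    ⟨1, fun v => by rw [app_semi, Q_app, Units.val_one, one_mul]; rfl⟩⟩
  map_one' := Subtype.ext (map_one _)
  map_mul' s t := Subtype.ext (map_mul SemidirectProduct.inl (s : GL ι F) _)

theorem conj_oIn (x : ↥(semiGroup Q)) (g : O Q) : x * oIn Q g * x⁻¹ = oIn Q (conjO Q x g) := by
  apply Subtype.ext
  ext1 <;> simp [oIn, conjO_coe, mul_assoc]

theorem polar_semi (x : ↥(semiGroup Q)) {c : F} (hc : ∀ v, Q (semi x.1 v) = c * x.1.right (Q v))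
    (u v : ι → F) : polar Q (semi x.1 u) (semi x.1 v) = c * x.1.right (polar Q u v) := by
  rw [QuadraticMap.polar, ← semi_add, hc, hc, hc, QuadraticMap.polar, map_sub, map_sub]
  ring

/-- A semisimilarity sends the reflection in `v` to the reflection in its image. -/
theorem conjO_refl (x : ↥(semiGroup Q)) (v : ι → F) :
    conjO Q x (refl Q v) = refl Q (semi x.1 v) := by
  obtain ⟨c, hc⟩ := x.2
  have hsub : ∀ a b, semi x.1 (a - b) = semi x.1 a - semi x.1 b := fun a b => by
    rw [eq_sub_iff_add_eq, ← semi_add, sub_add_cancel]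
  refine ext_app fun w => ?_
  obtain ⟨u, rfl⟩ : ∃ u, semi x.1 u = w := ⟨semi x.1⁻¹ w, semi_semi_inv _ _⟩
  rw [semi_app_conj, app_refl, app_refl, hsub, semi_smul, hc, polar_semi x hc, map_mul, map_inv₀]
  congr 2
  rw [_root_.mul_inv_rev, mul_assoc, ← mul_assoc ((c : F)⁻¹), inv_mul_cancel₀ c.ne_zero, one_mul]

/-- The outer class of an isometry. -/
noncomputable def cls (Q : QuadraticForm F (ι → F)) : O Q →* Cfsg.Out (Cfsg.POmega F ⇑Q) :=
  (outMap Q).comp (oIn Q)

theorem cls_of_mem (hQ : Q.polarBilin.Nondegenerate) (hn : 5 ≤ Fintype.card ι) (d : HypData Q)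
    {g : O Q} (hg : g ∈ Cfsg.Omega F ⇑Q) : cls Q g = 1 := by
  rw [cls, MonoidHom.comp_apply, outMap_eq_one_iff hQ hn d]
  exact ⟨rfl, 1, ⟨g, hg⟩, by rw [map_one, one_mul]; rfl⟩

theorem cls_congr [DecidableEq F] (hQ : Q.polarBilin.Nondegenerate) (h2 : (2 : F) ≠ 0)
    (hn : 5 ≤ Fintype.card ι) (dd : HypData Q) {d : F} (hd : ¬ IsSquare d) {g h : O Q}
    (hgh : chiPair Q d g = chiPair Q d h) : cls Q g = cls Q h := by
  have hmem : g⁻¹ * h ∈ Cfsg.Omega F ⇑Q := by
    rw [CfsgLib.OrthOmega.mem_omega_odd hQ h2 hd, map_mul, map_inv, hgh, inv_mul_cancel]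
  have := cls_of_mem hQ hn dd hmem
  rwa [map_mul, map_inv, inv_mul_eq_one] at this

theorem outMap_scalar_mul (hQ : Q.polarBilin.Nondegenerate) (hn : 5 ≤ Fintype.card ι) (d : HypData Q)
    {x : ↥(semiGroup Q)} (h1 : x.1.right = 1) {c : Fˣ} {g : O Q}
    (hx : x.1.left = GeneralLinearGroup.scalar ι c * (g : GL ι F)) : outMap Q x = cls Q g := by
  have h : outMap Q (x * (oIn Q g)⁻¹) = 1 := by
    rw [outMap_eq_one_iff hQ hn d]
    refine ⟨?_, c, 1, ?_⟩
    · simp [oIn, h1]
    · simp [oIn, h1, hx]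
  rwa [map_mul, map_inv, mul_inv_eq_one] at h

end Cfsg.Agent.GammaO57
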