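import Cfsg.Agent.Helper57JordanTypes

/-!
Regular unipotent elements of the symplectic group in odd characteristic: the commutant,
centralisers and classes.
-/

set_option autoImplicit false
set_option linter.unusedSectionVars false

namespace Cfsg.Agent.SpRegUnip57

open Matrix Module Cfsg.Agent.Jordan57 Cfsg.Agent.JordanForm57 CfsgLib.RankProfile

variable {F : Type*} [Field F] {m : ℕ}

/-- square matrices of size `2 m` -/
abbrev Mat (m : ℕ) (F : Type*) := Matrix (Fin m ⊕ Fin m) (Fin m ⊕ Fin m) F

/-- the adjoint of the symplectic form -/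
def tau (a : Mat m F) : Mat m F := -(Matrix.J (Fin m) F * aᵀ * Matrix.J (Fin m) F)

theorem J_mul_J : Matrix.J (Fin m) F * Matrix.J (Fin m) F = -1 := Matrix.J_squared _ _

theorem tau_mul (a b : Mat m F) : tau (a * b) = tau b * tau a := by
  calc tau (a * b) = -(Matrix.J (Fin m) F * bᵀ * (1 : Mat m F) * aᵀ * Matrix.J (Fin m) F) := by
        simp only [tau, transpose_mul, mul_one, mul_assoc]
    _ = -(Matrix.J (Fin m) F * bᵀ * (-(Matrix.J (Fin m) F * Matrix.J (Fin m) F)) * aᵀ * Matrix.J (Fin m) F) := by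
        rw [J_mul_J, neg_neg]
    _ = tau b * tau a := by simp only [tau, mul_neg, neg_mul, neg_neg, mul_assoc]

theorem tau_add (a b : Mat m F) : tau (a + b) = tau a + tau b := by
  simp only [tau, transpose_add, mul_add, add_mul, neg_add]

theorem tau_neg (a : Mat m F) : tau (-a) = -tau a := by
  simp only [tau, transpose_neg, mul_neg, neg_mul]

theorem tau_sub (a b : Mat m F) : tau (a - b) = tau a - tau b := by
  rw [sub_eq_add_neg, tau_add, tau_neg, ← sub_eq_add_neg]

theorem tau_smul (c : F) (a : Mat m F) : tau (c • a) = c • tau a := by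
  simp only [tau, transpose_smul, mul_smul_comm, smul_mul_assoc, smul_neg]

theorem tau_one : tau (1 : Mat m F) = 1 := by
  rw [tau, transpose_one, mul_one, J_mul_J, neg_neg]

theorem tau_tau (a : Mat m F) : tau (tau a) = a := by
  simp only [tau, transpose_neg, transpose_mul, transpose_transpose, Matrix.J_transpose, neg_mul, mul_neg,
    neg_neg, ← mul_assoc, J_mul_J, one_mul]
  rw [mul_assoc, J_mul_J, mul_neg, mul_one, neg_neg]

theorem tau_pow (a : Mat m F) (i : ℕ) : tau (a ^ i) = tau a ^ i := by
  induction i with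
  | zero => rw [pow_zero, pow_zero, tau_one]
  | succ i ih => rw [pow_succ, tau_mul, ih, ← pow_succ']

theorem tau_sum {κ : Type*} (s : Finset κ) (f : κ → Mat m F) : tau (∑ i ∈ s, f i) = ∑ i ∈ s, tau (f i) :=
  by
  classical
  induction s using Finset.induction_on with
  | empty => simp [tau]
  | insert a s ha ih => rw [Finset.sum_insert ha, Finset.sum_insert ha, tau_add, ih]

theorem mem_iff_tau (a : Mat m F) : a ∈ Matrix.symplecticGroup (Fin m) F ↔ tau a * a = 1 := by
  rw [SymplecticGroup.mem_iff']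
  constructor
  · intro h
    rw [tau, neg_mul, mul_assoc (Matrix.J (Fin m) F * aᵀ), mul_assoc (Matrix.J (Fin m) F), ← mul_assoc aᵀ, h,
      J_mul_J, neg_neg]
  · intro h
    have h2 := congrArg (Matrix.J (Fin m) F * ·) h
    simp only [tau, neg_mul, mul_neg, mul_one, ← mul_assoc, J_mul_J, one_mul, neg_neg] at h2
    exact h2

/-- A nilpotent matrix with all powers of a single vector independent. -/
structure Cyclic (M : Mat m F) : Prop where
  skew : tau M = -M
  nil : M ^ (2 * m) = 0
  indep : ∃ v : Fin m ⊕ Fin m → F, LinearIndependent F fun i : Fin (2 * m) => (M ^ (i : ℕ)) *ᵥ v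

/-- polynomials in `M` -/
def poly (M : Mat m F) (c : Fin (2 * m) → F) : Mat m F := ∑ i, c i • M ^ (i : ℕ)

variable {M : Mat m F}

theorem poly_injective (hM : Cyclic M) : Function.Injective (poly M) := by
  intro c c' h
  obtain ⟨v, hv⟩ := hM.indep
  funext i
  refine sub_eq_zero.1 (Fintype.linearIndependent_iff.1 hv (fun i => c i - c' i) ?_ i)
  simp only [sub_smul, Finset.sum_sub_distrib]
  have h2 := congrArg (· *ᵥ v) h
  simp only [poly, Matrix.sum_mulVec, smul_mulVec] at h2
  rw [h2, sub_self]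

theorem exists_poly (hM : Cyclic M) {a : Mat m F} (ha : Commute a M) : ∃ c, a = poly M c := by
  obtain ⟨v, hv⟩ := hM.indep
  rcases Nat.eq_zero_or_pos m with rfl | hm
  · exact ⟨0, Subsingleton.elim _ _⟩
  haveI : Nonempty (Fin (2 * m)) := ⟨⟨0, by omega⟩⟩
  let b := basisOfLinearIndependentOfCardEqFinrank hv (by simp [two_mul])
  have hb : ∀ i, b i = (M ^ (i : ℕ)) *ᵥ v := fun i =>
    congrFun (coe_basisOfLinearIndependentOfCardEqFinrank hv _) i
  refine ⟨fun i => b.repr (a *ᵥ v) i, Matrix.toLin'.injective (b.ext fun i => ?_)⟩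
  rw [Matrix.toLin'_apply, Matrix.toLin'_apply, hb, mulVec_mulVec, (ha.pow_right _).eq, ← mulVec_mulVec]
  conv_lhs => rw [← b.sum_repr (a *ᵥ v)]
  rw [poly, Matrix.sum_mulVec, Matrix.mulVec_sum]
  refine Finset.sum_congr rfl fun j _ => ?_
  rw [hb, mulVec_smul, smul_mulVec, mulVec_mulVec, mulVec_mulVec, ← pow_add, ← pow_add, add_comm]

theorem poly_commute (c : Fin (2 * m) → F) : Commute (poly M c) M :=
  Commute.sum_left _ _ _ fun i _ => ((Commute.refl M).pow_left _).smul_left _

theorem commute_of (hM : Cyclic M) {a b : Mat m F} (ha : Commute a M) (hb : Commute b M) : Commute a b := by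
  obtain ⟨c, rfl⟩ := exists_poly hM hb
  exact Commute.sum_right _ _ _ fun i _ => (ha.pow_right _).smul_right _

theorem tau_commute (hM : Cyclic M) {a : Mat m F} (ha : Commute a M) : Commute (tau a) M := by
  have h := congrArg tau ha.eq
  rw [tau_mul, tau_mul, hM.skew, neg_mul, mul_neg, neg_inj] at h
  exact h.symm

theorem exists_const (hM : Cyclic M) (hm : 1 ≤ m) {a : Mat m F} (ha : Commute a M) :
    ∃ c : F, IsNilpotent (a - c • 1) ∧ a * M ^ (2 * m - 1) = c • M ^ (2 * m - 1) := by
  obtain ⟨d, rfl⟩ := exists_poly hM ha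
  refine ⟨d ⟨0, by omega⟩, ?_, ?_⟩
  · have h : poly M d - d ⟨0, by omega⟩ • 1 = ∑ i ∈ Finset.univ.erase ⟨0, by omega⟩, d i • M ^ (i : ℕ) := by
      rw [poly, ← Finset.add_sum_erase _ _ (Finset.mem_univ (⟨0, by omega⟩ : Fin (2 * m)))]
      simp
    rw [h]
    refine Commute.isNilpotent_sum (fun i hi => ?_) (fun i j _ _ =>
      ((((Commute.refl M).pow_pow _ _).smul_right _).smul_left _))
    have h0 : (i : ℕ) ≠ 0 := fun e => (Finset.mem_erase.1 hi).1 (Fin.ext e)
    exact IsNilpotent.smul (IsNilpotent.pow_of_pos ⟨_, hM.nil⟩ h0) _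
  · rw [poly, Finset.sum_mul, Finset.sum_eq_single ⟨0, by omega⟩]
    · simp
    · intro i _ hi
      have h0 : (i : ℕ) ≠ 0 := fun e => hi (Fin.ext e)
      rw [smul_mul_assoc, ← pow_add, pow_eq_zero_of_le (by omega) hM.nil, smul_zero]
    · simp

theorem pow_top_ne_zero (hM : Cyclic M) (hm : 1 ≤ m) : M ^ (2 * m - 1) ≠ 0 := by
  intro h
  obtain ⟨v, hv⟩ := hM.indep
  exact hv.ne_zero ⟨2 * m - 1, by omega⟩ (by simp [h])

theorem smul_top_injective (hM : Cyclic M) (hm : 1 ≤ m) {a b : F}
    (h : a • M ^ (2 * m - 1) = b • M ^ (2 * m - 1)) : a = b := smul_left_injective F (pow_top_ne_zero hM hm) h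

/-- skew elements of the commutant -/
abbrev Skew (M : Mat m F) := {s : Mat m F // Commute s M ∧ tau s = -s}

theorem card_skew [Fintype F] (h2 : (2 : F) ≠ 0) (hM : Cyclic M) : Nat.card (Skew M) = Fintype.card F ^ m := by
  let e : Fin m → Fin (2 * m) := fun i => ⟨2 * (i : ℕ) + 1, by omega⟩
  have he : Function.Injective e := fun i j h => Fin.ext (by have := congrArg Fin.val h; simp only [e] at this; omega)
  let Φ : (Fin m → F) → Skew M := fun d => ⟨∑ i, d i • M ^ (e i : ℕ),
    Commute.sum_left _ _ _ fun i _ => ((Commute.refl M).pow_left _).smul_left _, by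
      rw [tau_sum, ← Finset.sum_neg_distrib]
      refine Finset.sum_congr rfl fun i _ => ?_
      rw [tau_smul, tau_pow, hM.skew, Odd.neg_pow ⟨i, rfl⟩, smul_neg]⟩
  have hΦ : Function.Bijective Φ := by
    constructor
    · intro d d' h
      obtain ⟨v, hv⟩ := hM.indep
      funext i
      refine sub_eq_zero.1 (Fintype.linearIndependent_iff.1 (hv.comp e he) (fun i => d i - d' i) ?_ i)
      have h' : (∑ i, d i • M ^ (e i : ℕ)) *ᵥ v = (∑ i, d' i • M ^ (e i : ℕ)) *ᵥ v :=
        congrArg (· *ᵥ v) (congrArg Subtype.val h)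
      simp only [Matrix.sum_mulVec, smul_mulVec] at h'
      simp only [Function.comp_apply, sub_smul, Finset.sum_sub_distrib, h', sub_self]
    · rintro ⟨s, hs, hts⟩
      obtain ⟨c, rfl⟩ := exists_poly hM hs
      have h : poly M (fun i => c i * (-1) ^ (i : ℕ)) = poly M (fun i => -c i) := by
        rw [show poly M (fun i => -c i) = -poly M c from by simp [poly, Finset.sum_neg_distrib], ← hts,
          poly, poly, tau_sum]
        refine Finset.sum_congr rfl fun i _ => ?_
        rw [tau_smul, tau_pow, hM.skew, mul_smul]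
        rcases Nat.even_or_odd (i : ℕ) with hi | hi
        · rw [hi.neg_pow, hi.neg_pow, one_pow, one_smul]
        · rw [hi.neg_pow, hi.neg_pow, one_pow, neg_one_smul, smul_neg]
      refine ⟨fun i => c (e i), Subtype.ext ?_⟩
      refine Fintype.sum_of_injective e he _ (fun i => c i • M ^ (i : ℕ)) (fun i hi => ?_) (fun i => rfl)
      have hev : Even (i : ℕ) := by
        by_contra hodd
        obtain ⟨j, hj⟩ := Nat.not_even_iff_odd.1 hodd
        exact hi ⟨⟨j, by omega⟩, Fin.ext hj.symm⟩
      have h2' := congrFun (poly_injective hM h) i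
      simp only [hev.neg_pow, one_pow, mul_one] at h2'
      have : (2 : F) * c i = 0 := by linear_combination h2'
      rw [(mul_eq_zero.1 this).resolve_left h2, zero_smul]
  rw [← Nat.card_eq_of_bijective Φ hΦ, Nat.card_fun, Nat.card_eq_fintype_card, Nat.card_fin]

theorem skew_top (hM : Cyclic M) (h2 : (2 : F) ≠ 0) (hm : 1 ≤ m) {s : Mat m F} (hs : Commute s M)
    (hts : tau s = -s) : IsNilpotent s ∧ s * M ^ (2 * m - 1) = 0 := by
  obtain ⟨c, hc, hc'⟩ := exists_const hM hm hs
  have htop : tau s * M ^ (2 * m - 1) = c • M ^ (2 * m - 1) := by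
    have h := congrArg tau hc'
    rw [tau_mul, tau_smul, tau_pow, hM.skew, Odd.neg_pow ⟨m - 1, by omega⟩, neg_mul, smul_neg, neg_inj] at h
    rw [(tau_commute hM hs).pow_right _ |>.eq]
    exact h
  rw [hts, neg_mul, hc', ← neg_smul] at htop
  have h0 : c = 0 := by
    have := smul_top_injective hM hm htop
    have h' : (2 : F) * c = 0 := by linear_combination -this
    exact (mul_eq_zero.1 h').resolve_left h2
  rw [h0, zero_smul] at hc hc'
  exact ⟨by simpa using hc, hc'⟩

theorem const_of_norm (hM : Cyclic M) (hm : 1 ≤ m) {a b : Mat m F} {c : F} (ha : Commute a M)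
    (hc : a * M ^ (2 * m - 1) = c • M ^ (2 * m - 1)) (h : tau a * a = b) :
    b * M ^ (2 * m - 1) = (c * c) • M ^ (2 * m - 1) := by
  have h' : tau a * M ^ (2 * m - 1) = c • M ^ (2 * m - 1) := by
    have h := congrArg tau hc
    rw [tau_mul, tau_smul, tau_pow, hM.skew, Odd.neg_pow ⟨m - 1, by omega⟩, neg_mul, smul_neg, neg_inj] at h
    rw [(tau_commute hM ha).pow_right _ |>.eq]
    exact h
  rw [← h, mul_assoc, hc, mul_smul_comm, h', smul_smul]

theorem two_smul_cancel (h2 : (2 : F) ≠ 0) {a b : Mat m F} (h : a + a = b + b) : a = b := by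
  have h' : (2 : F) • a = (2 : F) • b := by rw [two_smul, two_smul, h]
  exact smul_right_injective _ h2 h'

theorem inv_commute {a M : Mat m F} (ha : IsUnit a) (h : Commute a M) :
    Commute ((ha.unit⁻¹ : (Mat m F)ˣ) : Mat m F) M :=
  Commute.units_inv_left (u := ha.unit) (by rw [IsUnit.unit_spec]; exact h)

theorem isUnit_two_add (h2 : (2 : F) ≠ 0) {n : Mat m F} (hn : IsNilpotent n) :
    IsUnit (1 + 1 + n : Mat m F) := by
  refine IsNilpotent.isUnit_add_left_of_commute hn ?_
    ((Commute.one_right n).add_right (Commute.one_right n))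
  rw [show (1 + 1 : Mat m F) = algebraMap F (Mat m F) 2 by rw [one_add_one_eq_two, map_ofNat]]
  exact (isUnit_iff_ne_zero.2 h2).map _

/-- Elements of the commutant preserving the form are twice as many as the skew ones. -/
theorem card_isometries [Fintype F] (h2 : (2 : F) ≠ 0) (hM : Cyclic M) (hm : 1 ≤ m) :
    Nat.card {a : Mat m F // Commute a M ∧ tau a * a = 1} = 2 * Fintype.card F ^ m := by
  let sg : Bool → F := fun b => if b then 1 else -1
  have hsg : ∀ b, sg b * sg b = 1 := fun b => by cases b <;> simp [sg]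
  have hu : ∀ s : Skew M, IsUnit (1 - s.1) := fun s => (skew_top hM h2 hm s.2.1 s.2.2).1.isUnit_one_sub
  let Φ : Bool × Skew M → {a : Mat m F // Commute a M ∧ tau a * a = 1} := fun p =>
    ⟨sg p.1 • ((1 + p.2.1) * (((hu p.2).unit⁻¹ : (Mat m F)ˣ) : Mat m F)), by
      refine ⟨(((Commute.one_left M).add_left p.2.2.1).mul_left
        (inv_commute (hu p.2) ((Commute.one_left M).sub_left p.2.2.1))).smul_left _, ?_⟩
      set U := (hu p.2).unit with hU
      have hUv : (U : Mat m F) = 1 - p.2.1 := IsUnit.unit_spec _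
      have htU : tau (↑U⁻¹ : Mat m F) * (1 + p.2.1) = 1 := by
        have h := congrArg tau (Units.mul_inv U)
        rwa [tau_mul, tau_one, hUv, tau_sub, tau_one, p.2.2.2, sub_neg_eq_add] at h
      have htt : tau (1 + p.2.1) = (U : Mat m F) := by
        rw [tau_add, tau_one, p.2.2.2, hUv, sub_eq_add_neg]
      have hc : Commute (1 + p.2.1) (U : Mat m F) := by
        rw [hUv]
        exact commute_of hM ((Commute.one_left M).add_left p.2.2.1) ((Commute.one_left M).sub_left p.2.2.1)
      rw [tau_smul, tau_mul, htt, smul_mul_assoc, mul_smul_comm, smul_smul, hsg, one_smul,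
        mul_assoc (tau (↑U⁻¹ : Mat m F)), ← mul_assoc (U : Mat m F), ← hc.eq, mul_assoc (1 + p.2.1),
        Units.mul_inv, mul_one, htU]⟩
  have hΦ : Function.Bijective Φ := by
    constructor
    · rintro ⟨b, s⟩ ⟨b', s'⟩ h
      have h1 : sg b • ((1 + s.1) * (((hu s).unit⁻¹ : (Mat m F)ˣ) : Mat m F)) =
          sg b' • ((1 + s'.1) * (((hu s').unit⁻¹ : (Mat m F)ˣ) : Mat m F)) := congrArg Subtype.val h
      have key : sg b • ((1 + s.1) * (1 - s'.1)) = sg b' • ((1 + s'.1) * (1 - s.1)) := by
        have := congrArg (· * ((1 - s.1) * (1 - s'.1))) h1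
        simp only [smul_mul_assoc] at this
        rw [mul_assoc (1 + s.1), ← mul_assoc _ (1 - s.1) (1 - s'.1), IsUnit.val_inv_mul, one_mul] at this
        rw [(commute_of hM ((Commute.one_left M).sub_left s.2.1) ((Commute.one_left M).sub_left s'.2.1)).eq,
          mul_assoc (1 + s'.1), ← mul_assoc _ (1 - s'.1) (1 - s.1), IsUnit.val_inv_mul, one_mul] at this
        exact this
      have hs0 := (skew_top hM h2 hm s.2.1 s.2.2).2
      have hs0' := (skew_top hM h2 hm s'.2.1 s'.2.2).2
      have hb : sg b = sg b' := by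
        have := congrArg (· * M ^ (2 * m - 1)) key
        simp only [smul_mul_assoc, mul_assoc, sub_mul, one_mul, hs0, hs0', sub_zero, add_mul, add_zero] at this
        exact smul_top_injective hM hm this
      have hbb : b = b' := by
        cases b <;> cases b' <;> simp only [sg, if_true, Bool.false_eq_true, if_false] at hb <;>
          first | rfl | exact absurd (show (2 : F) = 0 by linear_combination hb) h2 |
            exact absurd (show (2 : F) = 0 by linear_combination -hb) h2
      subst hbb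
      have hne : sg b ≠ 0 := fun h0 => by simpa [h0] using hsg b
      have h3 : (1 + s.1) * (1 - s'.1) = (1 + s'.1) * (1 - s.1) := smul_right_injective _ hne key
      simp only [add_mul, mul_sub, mul_one, one_mul, (commute_of hM s'.2.1 s.2.1).eq] at h3
      refine Prod.ext rfl (Subtype.ext (two_smul_cancel h2 ?_))
      rw [← sub_eq_zero] at h3 ⊢
      rw [← h3]
      abel
    · rintro ⟨a, ha, hta⟩
      obtain ⟨c, hc, hc'⟩ := exists_const hM hm ha
      have hcc : c * c = 1 := by
        have := const_of_norm hM hm ha hc' hta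
        rw [one_mul] at this
        exact smul_top_injective hM hm (this.symm.trans (one_smul F _).symm)
      obtain ⟨b, rfl⟩ : ∃ b, c = sg b := by
        rcases mul_self_eq_one_iff.1 hcc with rfl | rfl
        exacts [⟨true, rfl⟩, ⟨false, rfl⟩]
      set A := sg b • a with hA
      have hAM : Commute A M := ha.smul_left _
      have hAn : IsNilpotent (A - 1) := by
        have h := IsNilpotent.smul hc (sg b)
        rwa [smul_sub, smul_smul, hsg, one_smul] at h
      have hAt : tau A * A = 1 := by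
        rw [hA, tau_smul, smul_mul_assoc, mul_smul_comm, smul_smul, hsg, one_smul, hta]
      have hA1 : IsUnit (A + 1) := by
        rw [show A + 1 = 1 + 1 + (A - 1) by abel]
        exact isUnit_two_add h2 hAn
      have hA1M : Commute (A + 1) M := hAM.add_left (Commute.one_left _)
      set V := hA1.unit with hV
      have hVv : (V : Mat m F) = A + 1 := IsUnit.unit_spec _
      have hVM : Commute (↑V⁻¹ : Mat m F) M := inv_commute hA1 hA1M
      have hsM : Commute ((A - 1) * (↑V⁻¹ : Mat m F)) M := (hAM.sub_left (Commute.one_left _)).mul_left hVM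
      have hs1 : (A - 1) * (↑V⁻¹ : Mat m F) * (A + 1) = A - 1 := by
        rw [mul_assoc, ← hVv, Units.inv_mul, mul_one]
      have hskew : tau ((A - 1) * (↑V⁻¹ : Mat m F)) = -((A - 1) * (↑V⁻¹ : Mat m F)) := by
        set S := (A - 1) * (↑V⁻¹ : Mat m F) with hS
        have h := congrArg tau hs1
        rw [tau_mul, tau_add, tau_sub, tau_one] at h
        have h' := congrArg (A * ·) h
        have hAtA : A * tau A = 1 := mul_eq_one_comm.1 hAt
        simp only [← mul_assoc, mul_add, mul_sub, mul_one, hAtA] at h'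
        have h'' : (A + 1) * tau S = (A + 1) * -S := by
          rw [mul_neg, ← (commute_of hM hsM hA1M).eq, hs1, neg_sub, ← h', add_comm A 1]
        exact hA1.mul_left_cancel h''
      refine ⟨(b, ⟨_, hsM, hskew⟩), Subtype.ext ?_⟩
      show sg b • ((1 + (A - 1) * (↑V⁻¹ : Mat m F)) *
        (((hu ⟨_, hsM, hskew⟩).unit⁻¹ : (Mat m F)ˣ) : Mat m F)) = a
      have h4 : 1 + (A - 1) * (↑V⁻¹ : Mat m F) = A * (1 - (A - 1) * (↑V⁻¹ : Mat m F)) := by
        refine hA1.mul_right_cancel ?_
        rw [add_mul, one_mul, hs1, mul_assoc, sub_mul, one_mul, hs1,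
          show A + 1 - (A - 1) = 1 + 1 by abel, mul_add, mul_one]
        abel
      rw [h4, mul_assoc, IsUnit.mul_val_inv, mul_one, hA, smul_smul, hsg, one_smul]
  rw [← Nat.card_eq_of_bijective Φ hΦ, Nat.card_prod, card_skew h2 hM, Nat.card_eq_fintype_card, Fintype.card_bool]

/-- Square roots of fixed unipotent elements of the commutant. -/
theorem exists_sqrt [Fintype F] (h2 : (2 : F) ≠ 0) (hM : Cyclic M) {b : Mat m F} (hb : Commute b M)
    (hfix : tau b = b) (hnil : IsNilpotent (b - 1)) :
    ∃ a : Mat m F, Commute a M ∧ tau a = a ∧ a * a = b ∧ IsUnit a := by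
  let P : Mat m F → Prop := fun n => Commute n M ∧ tau n = n ∧ IsNilpotent n
  let sq : Subtype P → Subtype P := fun n => ⟨(1 + n.1) * (1 + n.1) - 1,
    (((Commute.one_left M).add_left n.2.1).mul_left ((Commute.one_left M).add_left n.2.1)).sub_left
      (Commute.one_left M),
    by rw [tau_sub, tau_mul, tau_add, tau_one, n.2.2.1],
    by
      rw [show (1 + n.1) * (1 + n.1) - 1 = n.1 * (1 + 1 + n.1) by noncomm_ring]
      exact Commute.isNilpotent_mul_right
        (((Commute.one_right n.1).add_right (Commute.one_right n.1)).add_right (Commute.refl n.1)) n.2.2.2⟩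
  have hinj : Function.Injective sq := by
    intro n n' h
    have h' : (1 + n.1) * (1 + n.1) - 1 = (1 + n'.1) * (1 + n'.1) - 1 := congrArg Subtype.val h
    have hc := commute_of hM n.2.1 n'.2.1
    have h3 : (n.1 - n'.1) * (1 + 1 + (n.1 + n'.1)) = 0 := by
      calc (n.1 - n'.1) * (1 + 1 + (n.1 + n'.1)) = ((1 + n.1) * (1 + n.1) - 1) - ((1 + n'.1) * (1 + n'.1) - 1)
            + (n.1 * n'.1 - n'.1 * n.1) := by noncomm_ring
        _ = 0 := by rw [h', sub_self, hc.eq, sub_self, add_zero]
    exact Subtype.ext (sub_eq_zero.1 ((isUnit_two_add h2 (hc.isNilpotent_add n.2.2.2 n'.2.2.2)).mul_left_eq_zero.1 h3))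
  obtain ⟨⟨n, hn1, hn2, hn3⟩, hn⟩ := Finite.surjective_of_injective hinj
    ⟨b - 1, hb.sub_left (Commute.one_left M), by rw [tau_sub, hfix, tau_one], hnil⟩
  refine ⟨1 + n, (Commute.one_left M).add_left hn1, by rw [tau_add, tau_one, hn2], ?_, hn3.isUnit_one_add⟩
  have h' : (1 + n) * (1 + n) - 1 = b - 1 := congrArg Subtype.val hn
  exact sub_left_injective h'

/-- The skew generator of the commutant of a regular unipotent element. -/
theorem cyclic_of_regular (h2 : (2 : F) ≠ 0) (hm : 1 ≤ m) (x : Matrix.symplecticGroup (Fin m) F)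
    (hnil : ((x : Mat m F) - 1) ^ (2 * m) = 0) (hreg : ((x : Mat m F) - 1).rank = 2 * m - 1) :
    Cyclic ((x : Mat m F) - tau (x : Mat m F)) ∧
      ∀ a : Mat m F, Commute a (x : Mat m F) ↔ Commute a ((x : Mat m F) - tau (x : Mat m F)) := by
  set X : Mat m F := (x : Mat m F) with hX
  have hS : tau X * X = 1 := (mem_iff_tau X).1 x.2
  have hS' : X * tau X = 1 := mul_eq_one_comm.1 hS
  set U := tau X * (X + 1) with hU
  have hXn : IsNilpotent (X - 1) := ⟨_, hnil⟩
  have hU1 : IsUnit U := by
    refine (IsUnit.of_mul_eq_one X hS).mul ?_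
    rw [show X + 1 = 1 + 1 + (X - 1) by abel]
    exact isUnit_two_add h2 hXn
  have hMU : X - tau X = U * (X - 1) := by
    rw [hU, mul_assoc, show (X + 1) * (X - 1) = X * X - 1 by noncomm_ring, mul_sub, ← mul_assoc, hS, one_mul,
      mul_one]
  have hcU : Commute U (X - 1) :=
    (Commute.sub_right ((show Commute (tau X) X from hS.trans hS'.symm)) (Commute.one_right _)).mul_left
      (((Commute.refl X).add_left (Commute.one_left X)).sub_right (Commute.one_right _))
  have hM : Cyclic (X - tau X) := by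
    refine ⟨by rw [tau_sub, tau_tau, neg_sub], by rw [hMU, hcU.mul_pow, hnil, mul_zero], ?_⟩
    have hMn : IsNilpotent (X - tau X).mulVecLin :=
      (show IsNilpotent (X - tau X) by rw [hMU]; exact hcU.isNilpotent_mul_left hXn).map
        (Matrix.toLinAlgEquiv' (R := F) (n := Fin m ⊕ Fin m))
    obtain ⟨C⟩ := exists_chains hMn
    have h1 := C.finrank_range_pow 1
    have hrk : (X - tau X).rank = 2 * m - 1 := by
      rw [hMU, Matrix.rank_mul_eq_right_of_isUnit_det _ _ ((Matrix.isUnit_iff_isUnit_det _).1 hU1), hreg]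
    rw [pow_one, show finrank F (LinearMap.range (X - tau X).mulVecLin) = (X - tau X).rank from rfl, hrk] at h1
    have h0 := C.finrank_range_pow 0
    rw [pow_zero, show LinearMap.range (1 : End F (Fin m ⊕ Fin m → F)) = ⊤ from LinearMap.range_id, finrank_top,
      Module.finrank_fintype_fun_eq_card, Fintype.card_sum, Fintype.card_fin] at h0
    have hc := card_partProfile C.parts_pos
    rw [← h0, ← h1] at hc
    have hr : C.r = 1 := by
      have : Multiset.card C.parts = C.r := by simp [Chains.parts]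
      omega
    let k : Fin C.r := ⟨0, by omega⟩
    have hd : C.d k = 2 * m := by
      rw [partProfile_zero] at h0
      have : C.parts.sum = C.d k := by
        rw [Chains.parts, show (Finset.univ.val.map C.d).sum = ∑ i, C.d i from rfl,
          Finset.sum_eq_single k (fun b _ hb => absurd (Fin.ext (by simp only [k]; omega)) hb) (by simp)]
      omega
    refine ⟨C.gen k, ?_⟩
    have hli := C.b.linearIndependent.comp (fun i : Fin (2 * m) => (⟨k, Fin.cast hd.symm i⟩ : (k : Fin C.r) × Fin (C.d k)))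
      (fun i j h => by simpa using h)
    suffices e : (fun i : Fin (2 * m) => ((X - tau X) ^ (i : ℕ)) *ᵥ C.gen k) =
        ⇑C.b ∘ fun i : Fin (2 * m) => (⟨k, Fin.cast hd.symm i⟩ : (k : Fin C.r) × Fin (C.d k)) from e ▸ hli
    funext i
    rw [Function.comp_apply, C.b_apply]
    exact LinearMap.congr_fun (map_pow (Matrix.toLinAlgEquiv' (R := F) (n := Fin m ⊕ Fin m)) (X - tau X) (i : ℕ)) (C.gen k)
  refine ⟨hM, fun a => ⟨fun ha => ha.sub_right ?_, fun ha => commute_of hM ha ?_⟩⟩
  · exact Commute.units_inv_right (u := ⟨X, tau X, hS', hS⟩) ha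
  · exact (Commute.refl X).sub_right (hS'.trans hS.symm)

/-- `diag(1, d)`. -/
def dMat (d : F) : Mat m F := fromBlocks 1 0 0 (d • 1)

theorem tau_dMat (d : F) : tau (dMat (m := m) d) * dMat d = d • 1 := by
  simp only [tau, dMat, Matrix.J, fromBlocks_transpose, fromBlocks_multiply, fromBlocks_neg, transpose_smul,
    transpose_one, transpose_zero, Matrix.mul_zero, Matrix.zero_mul, add_zero, zero_add, mul_one, one_mul,
    neg_mul, mul_neg, neg_neg, neg_zero, smul_neg]
  rw [← fromBlocks_one (l := Fin m) (m := Fin m), fromBlocks_smul]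
  simp

theorem dMat_regMat (hm : 1 ≤ m) (d : F) : dMat d * regMat F m hm 1 = regMat F m hm d * dMat d := by
  simp only [dMat, regMat, fromBlocks_multiply, Matrix.mul_zero, Matrix.zero_mul, add_zero, zero_add, mul_one,
    one_mul, smul_mul_assoc, mul_smul_comm]
  rw [← mul_smul_comm, Matrix.smul_single, smul_eq_mul, mul_one, smul_zero]

/-- The predicate of regular unipotency. -/
def IsReg (x : Matrix.symplecticGroup (Fin m) F) : Prop :=
  ((x : Mat m F) - 1) ^ (2 * m) = 0 ∧ ((x : Mat m F) - 1).rank = 2 * m - 1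

theorem profile_of_reg (hm : 1 ≤ m) {x : Matrix.symplecticGroup (Fin m) F} (hx : IsReg x) (j : ℕ) :
    (((x : Mat m F) - 1) ^ j).rank = partProfile {2 * m} j := by
  have hker := ((x : Mat m F) - 1).mulVecLin.finrank_range_add_finrank_ker
  rw [show finrank F (LinearMap.range ((x : Mat m F) - 1).mulVecLin) = ((x : Mat m F) - 1).rank from rfl, hx.2,
    Module.finrank_fintype_fun_eq_card, Fintype.card_sum, Fintype.card_fin] at hker
  obtain ⟨z, -, hz⟩ := (finrank_eq_one_iff' (K := F)
    (V := LinearMap.ker ((x : Mat m F) - 1).mulVecLin)).1 (by omega)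
  rw [rank_pow_of_cyclic ⟨_, hx.1⟩ (z : Fin m ⊕ Fin m → F) (fun v hv => ?_)]
  · simp [partProfile, two_mul]
  · obtain ⟨c, hc⟩ := hz ⟨v, hv⟩
    exact ⟨c, (congrArg Subtype.val hc).symm⟩

theorem isReg_regMat (hm : 1 ≤ m) {c : F} (hc : c ≠ 0) :
    IsReg ⟨regMat F m hm c, regMat_mem m hm c⟩ := by
  constructor
  · have h := regMat_profile (F := F) m hm hc (2 * m)
    rw [partProfile_eq_zero (by simp), Matrix.rank, Submodule.finrank_eq_zero, LinearMap.range_eq_bot,
      ← Matrix.toLin'_apply', LinearEquiv.map_eq_zero_iff] at h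
    exact h
  · have h := regMat_profile (F := F) m hm hc 1
    rw [pow_one] at h
    show (regMat F m hm c - 1).rank = _
    rw [h]
    simp [partProfile]

theorem card_classes [Fintype F] (h2 : ringChar F ≠ 2) (hm : 1 ≤ m) :
    Nat.card {C : ConjClasses ↥(Matrix.symplecticGroup (Fin m) F) //
      ∃ u : Matrix.symplecticGroup (Fin m) F, ConjClasses.mk u = C ∧ IsReg u} = 2 := by
  classical
  have h2' : (2 : F) ≠ 0 := Ring.two_ne_zero h2
  obtain ⟨δ, hδ⟩ := FiniteField.exists_nonsquare h2
  have hδ0 : δ ≠ 0 := fun h => hδ (h ▸ IsSquare.zero)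
  let x0 : Matrix.symplecticGroup (Fin m) F := ⟨regMat F m hm 1, regMat_mem m hm 1⟩
  let y0 : Matrix.symplecticGroup (Fin m) F := ⟨regMat F m hm δ, regMat_mem m hm δ⟩
  have hx0 : IsReg x0 := isReg_regMat hm one_ne_zero
  have hy0 : IsReg y0 := isReg_regMat hm hδ0
  obtain ⟨hM, hcomm⟩ := cyclic_of_regular h2' hm x0 hx0.1 hx0.2
  have hne : ¬ IsConj x0 y0 := by
    intro h
    obtain ⟨w, hw⟩ := isConj_iff.1 h
    have hw' : (w : Mat m F) * regMat F m hm 1 = regMat F m hm δ * (w : Mat m F) :=
      congrArg Subtype.val (mul_inv_eq_iff_eq_mul.1 hw)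
    let Di : Mat m F := dMat δ⁻¹
    have hDD : Di * dMat δ = 1 := by
      simp [Di, dMat, fromBlocks_multiply, hδ0, fromBlocks_one]
    have hDD' : dMat δ * Di = 1 := mul_eq_one_comm.1 hDD
    have ha : Commute (Di * (w : Mat m F)) (regMat F m hm 1) := by
      show Di * (w : Mat m F) * regMat F m hm 1 = regMat F m hm 1 * (Di * (w : Mat m F))
      rw [mul_assoc, hw', ← mul_assoc, ← mul_assoc]
      congr 1
      calc Di * regMat F m hm δ = Di * (regMat F m hm δ * dMat δ) * Di := by
            rw [mul_assoc, mul_assoc (regMat F m hm δ), hDD', mul_one]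
        _ = regMat F m hm 1 * Di := by rw [← dMat_regMat, ← mul_assoc, hDD, one_mul]
    have ha' := (hcomm _).1 ha
    obtain ⟨c, -, hc⟩ := exists_const hM hm ha'
    have ht : tau (Di * (w : Mat m F)) * (Di * (w : Mat m F)) = δ⁻¹ • 1 := by
      rw [tau_mul, mul_assoc, ← mul_assoc (tau Di), tau_dMat, smul_mul_assoc, one_mul, mul_smul_comm,
        (mem_iff_tau _).1 w.2]
    have h3 := const_of_norm hM hm ha' hc ht
    rw [smul_mul_assoc, one_mul] at h3
    have h4 := smul_top_injective hM hm h3
    refine hδ ⟨c⁻¹, ?_⟩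
    rw [← mul_inv, ← h4, inv_inv]
  have hall : ∀ u, IsReg u → IsConj x0 u ∨ IsConj y0 u := by
    intro u hu
    obtain ⟨g, hg⟩ := isConj_of_rank (profile_of_reg hm hx0) (profile_of_reg hm hu)
    set G : Mat m F := (g : Mat m F) with hG
    have hgx : G * regMat F m hm 1 = (u : Mat m F) * G := hg.eq
    set b := tau G * G with hb
    have hbX : Commute b (regMat F m hm 1) := by
      have h1 : tau (regMat F m hm 1) * b * regMat F m hm 1 = b := by
        rw [hb]
        calc tau (regMat F m hm 1) * (tau G * G) * regMat F m hm 1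
            = tau (G * regMat F m hm 1) * (G * regMat F m hm 1) := by simp only [tau_mul, mul_assoc]
          _ = tau G * (tau (u : Mat m F) * (u : Mat m F)) * G := by rw [hgx]; simp only [tau_mul, mul_assoc]
          _ = tau G * G := by rw [(mem_iff_tau _).1 u.2, mul_one]
      show b * regMat F m hm 1 = regMat F m hm 1 * b
      calc b * regMat F m hm 1 = regMat F m hm 1 * tau (regMat F m hm 1) * (b * regMat F m hm 1) := by
            rw [mul_eq_one_comm.1 ((mem_iff_tau _).1 (regMat_mem (F := F) m hm 1)), one_mul]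
        _ = regMat F m hm 1 * b := by rw [mul_assoc, ← mul_assoc (tau _), h1]
    have hbM := (hcomm _).1 hbX
    obtain ⟨c, hcn, -⟩ := exists_const hM hm hbM
    have hbfix : tau b = b := by rw [hb, tau_mul, tau_tau]
    have hbu : IsUnit b := by
      refine IsUnit.mul ?_ g.isUnit
      refine IsUnit.of_mul_eq_one (tau ((g⁻¹ : (Mat m F)ˣ) : Mat m F)) ?_
      rw [← tau_mul, Units.inv_mul, tau_one]
    haveI : Nontrivial (Mat m F) := by
      haveI : Nonempty (Fin m ⊕ Fin m) := ⟨Sum.inl ⟨0, hm⟩⟩
      infer_instance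
    have hc0 : c ≠ 0 := by
      rintro rfl
      obtain ⟨k, hk⟩ := hcn
      rw [zero_smul, sub_zero] at hk
      exact (hbu.pow k).ne_zero hk
    obtain ⟨a, haM, hat, haa, hau⟩ := exists_sqrt h2' hM (b := c⁻¹ • b) (hbM.smul_left _)
      (by rw [tau_smul, hbfix]) (by
        have := IsNilpotent.smul hcn c⁻¹
        rwa [smul_sub, smul_smul, inv_mul_cancel₀ hc0, one_smul] at this)
    have haX : Commute a (regMat F m hm 1) := (hcomm _).2 haM
    set A := (hau.unit⁻¹ : (Mat m F)ˣ)
    have hAX : Commute (A : Mat m F) (regMat F m hm 1) := inv_commute hau haX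
    have hnorm : ∀ s : F, c = s * s → tau (s⁻¹ • (G * (A : Mat m F))) * (s⁻¹ • (G * (A : Mat m F))) = 1 := by
      intro s hs
      have hAa : (A : Mat m F) * a = 1 := hau.val_inv_mul
      have haA : a * (A : Mat m F) = 1 := hau.mul_val_inv
      have htA : tau (A : Mat m F) = (A : Mat m F) := by
        have h := congrArg tau haA
        rw [tau_mul, tau_one, hat] at h
        calc tau (A : Mat m F) = tau (A : Mat m F) * (a * (A : Mat m F)) := by rw [haA, mul_one]
          _ = _ := by rw [← mul_assoc, h, one_mul]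
      have hbb : b = c • (a * a) := by rw [haa, smul_smul, mul_inv_cancel₀ hc0, one_smul]
      rw [tau_smul, tau_mul, smul_mul_assoc, mul_smul_comm, smul_smul, htA, mul_assoc,
        ← mul_assoc (tau G), ← hb, hbb, smul_mul_assoc, mul_smul_comm, smul_smul, mul_assoc a, haA, mul_one,
        hAa, hs, show s⁻¹ * s⁻¹ * (s * s) = 1 by
          have : s ≠ 0 := fun h => hc0 (by rw [hs, h, zero_mul])
          field_simp, one_smul]
    by_cases hsq : IsSquare c
    · left
      obtain ⟨s, hs⟩ := hsq
      refine isConj_iff.2 ⟨⟨_, (mem_iff_tau _).2 (hnorm s hs)⟩, mul_inv_eq_iff_eq_mul.2 (Subtype.ext ?_)⟩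
      show s⁻¹ • (G * (A : Mat m F)) * regMat F m hm 1 = (u : Mat m F) * (s⁻¹ • (G * (A : Mat m F)))
      rw [smul_mul_assoc, mul_assoc, hAX.eq, ← mul_assoc, hgx, mul_smul_comm, mul_assoc]
    · right
      have hq : IsSquare (c * δ⁻¹) := by
        rw [← quadraticChar_one_iff_isSquare (mul_ne_zero hc0 (inv_ne_zero hδ0)), map_mul,
          quadraticChar_neg_one_iff_not_isSquare.2 hsq, quadraticChar_neg_one_iff_not_isSquare.2
            (fun h => hδ (by simpa using h.inv))]
        rfl
      obtain ⟨s, hs⟩ := hq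
      let Di : Mat m F := dMat δ⁻¹
      have hDD : Di * dMat δ = 1 := by
        simp [Di, dMat, fromBlocks_multiply, hδ0, fromBlocks_one]
      have hDD' : dMat δ * Di = 1 := mul_eq_one_comm.1 hDD
      let W : Mat m F := s⁻¹ • (G * (A : Mat m F)) * Di
      have hs0 : s ≠ 0 := fun h => mul_ne_zero hc0 (inv_ne_zero hδ0) (by rw [hs, h, zero_mul])
      have hW : tau W * W = 1 := by
        have hAa : (A : Mat m F) * a = 1 := hau.val_inv_mul
        have haA : a * (A : Mat m F) = 1 := hau.mul_val_inv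
        have htA : tau (A : Mat m F) = (A : Mat m F) := by
          have h := congrArg tau haA
          rw [tau_mul, tau_one, hat] at h
          calc tau (A : Mat m F) = tau (A : Mat m F) * (a * (A : Mat m F)) := by rw [haA, mul_one]
            _ = _ := by rw [← mul_assoc, h, one_mul]
        have hbb : b = c • (a * a) := by rw [haa, smul_smul, mul_inv_cancel₀ hc0, one_smul]
        have hcore : tau (s⁻¹ • (G * (A : Mat m F))) * (s⁻¹ • (G * (A : Mat m F))) = δ • 1 := by
          rw [tau_smul, tau_mul, smul_mul_assoc, mul_smul_comm, smul_smul, htA, mul_assoc,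
            ← mul_assoc (tau G), ← hb, hbb, smul_mul_assoc, mul_smul_comm, smul_smul, mul_assoc a, haA, mul_one,
            hAa]
          congr 1
          field_simp at hs ⊢
          linear_combination hs
        calc tau W * W = tau Di * (tau (s⁻¹ • (G * (A : Mat m F))) * (s⁻¹ • (G * (A : Mat m F)))) * Di := by
              simp only [W, tau_mul, mul_assoc]
          _ = δ • (δ⁻¹ • (1 : Mat m F)) := by
              rw [hcore, mul_smul_comm, mul_one, smul_mul_assoc, tau_dMat]
          _ = 1 := by rw [smul_smul, mul_inv_cancel₀ hδ0, one_smul]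
      refine isConj_iff.2 ⟨⟨W, (mem_iff_tau _).2 hW⟩, mul_inv_eq_iff_eq_mul.2 (Subtype.ext ?_)⟩
      show W * regMat F m hm δ = (u : Mat m F) * W
      have hDi : Di * regMat F m hm δ = regMat F m hm 1 * Di := by
        calc Di * regMat F m hm δ = Di * (regMat F m hm δ * dMat δ) * Di := by
              rw [mul_assoc, mul_assoc (regMat F m hm δ), hDD', mul_one]
          _ = regMat F m hm 1 * Di := by rw [← dMat_regMat, ← mul_assoc, hDD, one_mul]
      simp only [W, smul_mul_assoc, mul_smul_comm, mul_assoc, hDi]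
      rw [← mul_assoc (A : Mat m F), hAX.eq, mul_assoc, ← mul_assoc G, hgx, mul_assoc]
  have hset : {C : ConjClasses ↥(Matrix.symplecticGroup (Fin m) F) |
      ∃ u : Matrix.symplecticGroup (Fin m) F, ConjClasses.mk u = C ∧ IsReg u} = {ConjClasses.mk x0, ConjClasses.mk y0} := by
    ext C
    constructor
    · rintro ⟨u, rfl, hu⟩
      rcases hall u hu with h | h
      · exact Or.inl (ConjClasses.mk_eq_mk_iff_isConj.2 h.symm)
      · exact Or.inr (ConjClasses.mk_eq_mk_iff_isConj.2 h.symm)
    · rintro (rfl | rfl)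
      exacts [⟨x0, rfl, hx0⟩, ⟨y0, rfl, hy0⟩]
  show Nat.card ↥{C : ConjClasses ↥(Matrix.symplecticGroup (Fin m) F) |
      ∃ u : Matrix.symplecticGroup (Fin m) F, ConjClasses.mk u = C ∧ IsReg u} = 2
  rw [hset, Nat.card_coe_set_eq, Set.ncard_pair (fun h => hne (ConjClasses.mk_eq_mk_iff_isConj.1 h))]

theorem card_centralizer [Fintype F] (h2 : (2 : F) ≠ 0) (hm : 1 ≤ m) (u : Matrix.symplecticGroup (Fin m) F)
    (hu : IsReg u) :
    Nat.card ↥(Subgroup.centralizer ({u} : Set ↥(Matrix.symplecticGroup (Fin m) F))) =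
      2 * Fintype.card F ^ m := by
  obtain ⟨hM, hcomm⟩ := cyclic_of_regular h2 hm u hu.1 hu.2
  rw [← card_isometries h2 hM hm]
  refine Nat.card_congr
    { toFun := fun g => ⟨((g : Matrix.symplecticGroup (Fin m) F) : Mat m F), (hcomm _).1
        (congrArg Subtype.val (Subgroup.mem_centralizer_singleton_iff.1 g.2)), (mem_iff_tau _).1 g.1.2⟩
      invFun := fun a => ⟨⟨a.1, (mem_iff_tau _).2 a.2.2⟩,
        Subgroup.mem_centralizer_singleton_iff.2 (Subtype.ext ((hcomm _).2 a.2.1))⟩
      left_inv := fun g => rfl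
      right_inv := fun a => rfl }

end Cfsg.Agent.SpRegUnip57
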