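import Cfsg.Agent.Lib.IsomConj.Classical
import Cfsg.Agent.Lib.Sp.Decomp

/-!
Semisimple elements of a finite symplectic group that are similar are conjugate in it.
-/

set_option autoImplicit false

namespace Cfsg.Agent.SpSemisimple57

open Matrix Finset CfsgLib.IsomConj

variable {F : Type*} [Field F] {ι : Type*} [Fintype ι] [DecidableEq ι] {r : ℕ}

/-- A similarity `g` between isometries `x`, `y` of order dividing `r` (prime to the characteristic) of a
symmetric or skew form can be replaced by `k` which is isometric away from the fixed space of `x²`. -/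
theorem exists_isometric_on_sq [Fintype F] {B : Matrix ι ι F} (hBd : IsUnit B.det) (ε : F)
    (hε : ε * ε = 1) (hBt : Bᵀ = ε • B) (hr : (r : F) ≠ 0)
    (x y g : Matrix.GeneralLinearGroup ι F)
    (hxB : (x : Matrix ι ι F)ᵀ * B * (x : Matrix ι ι F) = B)
    (hyB : (y : Matrix ι ι F)ᵀ * B * (y : Matrix ι ι F) = B)
    (hxr : (x : Matrix ι ι F) ^ r = 1) (hg : g * x * g⁻¹ = y) :
    ∃ k : Matrix.GeneralLinearGroup ι F, k * x = y * k ∧
      ((k : Matrix ι ι F) * movedProj r ((x : Matrix ι ι F) * (x : Matrix ι ι F)))ᵀ * B *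
          ((k : Matrix ι ι F) * movedProj r ((x : Matrix ι ι F) * (x : Matrix ι ι F))) =
        (movedProj r ((x : Matrix ι ι F) * (x : Matrix ι ι F)))ᵀ * B *
          movedProj r ((x : Matrix ι ι F) * (x : Matrix ι ι F)) := by
  classical
  let X : Matrix ι ι F := x
  let Y : Matrix ι ι F := y
  obtain ⟨τ, hτdef⟩ : ∃ τ : Matrix ι ι F → Matrix ι ι F, ∀ M, τ M = B⁻¹ * Mᵀ * B :=
    ⟨_, fun _ => rfl⟩
  have hBB : B * B⁻¹ = 1 := Matrix.mul_nonsing_inv _ hBd
  have hBB' : B⁻¹ * B = 1 := Matrix.nonsing_inv_mul _ hBd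
  have hBinvt : (B⁻¹)ᵀ = ε • B⁻¹ := by
    rw [Matrix.transpose_nonsing_inv, hBt]
    exact Matrix.inv_eq_right_inv (by rw [smul_mul_smul_comm, hε, one_smul, hBB])
  have hτmul : ∀ a b, τ (a * b) = τ b * τ a := fun a b => by
    simp only [hτdef, transpose_mul, mul_assoc]
    rw [← mul_assoc B B⁻¹, hBB, one_mul]
  have hττ : ∀ a, τ (τ a) = a := fun a => by
    simp only [hτdef, transpose_mul, transpose_transpose, hBinvt, hBt, smul_mul_assoc, mul_smul_comm,
      smul_smul, hε, one_smul]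
    rw [← mul_assoc B⁻¹, hBB', one_mul, mul_assoc, hBB', mul_one]
  have hτadd : ∀ a b, τ (a + b) = τ a + τ b := fun a b => by
    simp only [hτdef, transpose_add, mul_add, add_mul]
  have hτsc : ∀ c : F, τ (Matrix.scalar ι c) = Matrix.scalar ι c := fun c => by
    simp only [hτdef, Matrix.scalar_apply, Matrix.diagonal_transpose]
    rw [← Matrix.smul_one_eq_diagonal, mul_smul_comm, mul_one, smul_mul_assoc, hBB']
  have hτX : τ X * X = 1 := by
    rw [hτdef]
    rw [mul_assoc B⁻¹, mul_assoc B⁻¹, show Xᵀ * B * X = B from hxB, hBB']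
  have hXτ : X * τ X = 1 := mul_eq_one_comm.1 hτX
  have hτY : τ Y * Y = 1 := by
    rw [hτdef]
    rw [mul_assoc B⁻¹, mul_assoc B⁻¹, show Yᵀ * B * Y = B from hyB, hBB']
  let u : Matrix ι ι F := τ (g : Matrix ι ι F) * (g : Matrix ι ι F)
  have hgx : Y * (g : Matrix ι ι F) = (g : Matrix ι ι F) * X := by
    show (y : Matrix ι ι F) * _ = _ * (x : Matrix ι ι F)
    rw [← hg, Units.val_mul, Units.val_mul, mul_assoc, Units.inv_mul, mul_one]
  have hux : u * X = X * u := by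
    have h1 : τ X * u * X = u := by
      show τ X * (τ _ * _) * X = τ _ * _
      rw [← mul_assoc, ← hτmul, mul_assoc, ← hgx, hτmul, mul_assoc, ← mul_assoc (τ Y), hτY, one_mul]
    calc u * X = X * (τ X * u * X) := by rw [← mul_assoc, ← mul_assoc, hXτ, one_mul]
      _ = X * u := by rw [h1]
  let X2 : Matrix ι ι F := X * X
  have hX2r : X2 ^ r = 1 := by
    show (X * X) ^ r = 1
    rw [← pow_two, ← pow_mul, mul_comm, pow_mul, hxr, one_pow]
  have hX2B : X2ᵀ * B * X2 = B := by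
    show (X * X)ᵀ * B * (X * X) = B
    have h : Xᵀ * B * X = B := hxB
    calc (X * X)ᵀ * B * (X * X) = Xᵀ * (Xᵀ * B * X) * X := by simp only [transpose_mul, mul_assoc]
      _ = B := by rw [h, h]
  let e := movedProj r X2
  have hτe : τ e = e := by
    rw [hτdef]
    rw [mul_assoc, transpose_movedProj_mul hX2B hX2r, ← mul_assoc, hBB', one_mul]
  let S : Set (Matrix ι ι F) := {u, X, τ X} ∪ Set.range (fun c : F => Matrix.scalar ι c)
  have hsc : ∀ (c : F) (M : Matrix ι ι F), Matrix.scalar ι c * M = M * Matrix.scalar ι c :=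
    fun c M => Matrix.scalar_commute c (fun r' => mul_comm c r') M
  have huτX : u * τ X = τ X * u :=
    calc u * τ X = τ X * (X * u) * τ X := by rw [← mul_assoc (τ X), hτX, one_mul]
      _ = τ X * u := by rw [← hux, mul_assoc, mul_assoc, hXτ, mul_one]
  have hXX : X * τ X = τ X * X := by rw [hXτ, hτX]
  have hcomm : ∀ a ∈ S, ∀ b ∈ S, a * b = b * a := by
    rintro a ((rfl | rfl | rfl) | ⟨c, rfl⟩) b ((rfl | rfl | rfl) | ⟨c', rfl⟩) <;>
      first
        | rfl | exact hsc _ _ | exact (hsc _ _).symm | exact hux | exact hux.symm | exact huτX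
        | exact huτX.symm | exact hXX | exact hXX.symm
  have hmS : ∀ a ∈ S, a ∈ Subring.closure S := fun a ha => Subring.subset_closure ha
  have hSτ : ∀ a ∈ S, τ a ∈ Subring.closure S := by
    rintro a ((rfl | rfl | rfl) | ⟨c, rfl⟩)
    · rw [show τ u = u by show τ (τ _ * _) = τ _ * _; rw [hτmul, hττ]]
      exact hmS _ (Or.inl (Or.inl rfl))
    · exact hmS _ (Or.inl (Or.inr (Or.inr rfl)))
    · rw [hττ]; exact hmS _ (Or.inl (Or.inr (Or.inl rfl)))
    · rw [hτsc]; exact hmS _ (Or.inr ⟨c, rfl⟩)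
  have hsmul : ∀ (c : F) (M : Matrix ι ι F), M ∈ Subring.closure S → c • M ∈ Subring.closure S :=
    fun c M hM => by
      rw [show c • M = Matrix.scalar ι c * M by
        rw [Matrix.scalar_apply, Matrix.smul_eq_diagonal_mul]]
      exact mul_mem (hmS _ (Or.inr ⟨c, rfl⟩)) hM
  have hXmem : X ∈ Subring.closure S := hmS _ (Or.inl (Or.inr (Or.inl rfl)))
  have heS : e ∈ Subring.closure S :=
    sub_mem (one_mem _) (hsmul _ _ (sum_mem fun i _ => pow_mem (mul_mem hXmem hXmem) i))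
  let d : Matrix ι ι F := X * movedInv r X2
  have hdS : d ∈ Subring.closure S :=
    mul_mem hXmem (hsmul _ _ (sum_mem fun i _ => hsmul _ _ (pow_mem (mul_mem hXmem hXmem) i)))
  have hd : (X - τ X) * d = e := by
    show (X - τ X) * (X * movedInv r X2) = e
    rw [← mul_assoc, sub_mul, hτX]
    exact sub_one_mul_movedInv hr hX2r
  obtain ⟨a, haS, ha⟩ := exists_star_mul_self_idem τ hτadd hτmul hττ S hcomm hSτ e heS
    (movedProj_idem hr hX2r) hτe X d hXmem hdS hd u (hmS _ (Or.inl (Or.inl rfl)))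
    (IsUnit.mul (IsUnit.of_mul_eq_one (τ ((g⁻¹ : Matrix.GeneralLinearGroup ι F) : Matrix ι ι F)) (by
      rw [← hτmul, Units.inv_mul, hτdef, transpose_one, mul_one, hBB'])) g.isUnit)
    (by show τ (τ _ * _) = τ _ * _; rw [hτmul, hττ])
  obtain ⟨hQ, -, -⟩ := exists_closure_involution τ hτadd hτmul hττ S hcomm hSτ
  have hax : x * a = a * x := Units.ext (hQ _ hXmem _ haS)
  have hkx : g * a⁻¹ * x = y * (g * a⁻¹) := by
    rw [← hg, mul_assoc g, show a⁻¹ * x = x * a⁻¹ by rw [inv_mul_eq_iff_eq_mul, ← mul_assoc, ← hax, mul_inv_cancel_right]]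
    group
  refine ⟨g * a⁻¹, hkx, ?_⟩
  · have hk : τ ((g * a⁻¹ : Matrix.GeneralLinearGroup ι F) : Matrix ι ι F) *
        ((g * a⁻¹ : Matrix.GeneralLinearGroup ι F) : Matrix ι ι F) * e = e := by
      have hea : (a : Matrix ι ι F) * e = e * (a : Matrix ι ι F) := hQ _ haS _ heS
      have hea' : ((a⁻¹ : (Matrix ι ι F)ˣ) : Matrix ι ι F) * e = e * ((a⁻¹ : (Matrix ι ι F)ˣ) : Matrix ι ι F) := by
        calc _ = ((a⁻¹ : (Matrix ι ι F)ˣ) : Matrix ι ι F) * (e * (a : Matrix ι ι F)) * ((a⁻¹ : (Matrix ι ι F)ˣ) : Matrix ι ι F) := by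
              rw [mul_assoc, mul_assoc e, Units.mul_inv, mul_one]
          _ = _ := by rw [← hea, ← mul_assoc, Units.inv_mul, one_mul]
      rw [Units.val_mul, hτmul, mul_assoc (τ ((a⁻¹ : (Matrix ι ι F)ˣ) : Matrix ι ι F)), ← mul_assoc (τ (g : Matrix ι ι F))]
      show τ _ * (u * _) * e = e
      rw [mul_assoc, mul_assoc u, hea', ← mul_assoc u, hQ u (hmS _ (Or.inl (Or.inl rfl))) e heS, ← ha]
      simp only [mul_assoc, Units.mul_inv, mul_one]
      rw [hQ e heS (τ (a : Matrix ι ι F)) (by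
        obtain ⟨-, hτQ, -⟩ := exists_closure_involution τ hτadd hτmul hττ S hcomm hSτ
        exact hτQ _ haS), ← mul_assoc (τ ((a⁻¹ : (Matrix ι ι F)ˣ) : Matrix ι ι F)), ← hτmul, Units.mul_inv]
      rw [hτdef, transpose_one, mul_one, hBB', one_mul]
    set kM : Matrix ι ι F := ((g * a⁻¹ : Matrix.GeneralLinearGroup ι F) : Matrix ι ι F)
    calc (kM * e)ᵀ * B * (kM * e) = eᵀ * (B * (τ kM * kM * e)) := by
          simp only [hτdef, transpose_mul, ← mul_assoc]
          rw [mul_assoc eᵀ B B⁻¹, hBB, mul_one]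
      _ = eᵀ * B * e := by rw [hk, mul_assoc]

/-- The projection onto the fixed space. -/
def fixProj (r : ℕ) (X : Matrix ι ι F) : Matrix ι ι F := 1 - movedProj r X

section Proj

variable {X : Matrix ι ι F}

theorem pow_sq_eq_one (hx : X ^ r = 1) : (X * X) ^ r = 1 := by
  rw [← pow_two, ← pow_mul, mul_comm, pow_mul, hx, one_pow]

theorem mul_fixProj (hx : X ^ r = 1) : X * fixProj r X = fixProj r X := mul_one_sub_movedProj hx

theorem fixProj_mul (hx : X ^ r = 1) : fixProj r X * X = fixProj r X := by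
  rw [fixProj, sub_mul, one_mul, ← movedProj_comm]
  have h := mul_fixProj hx
  rwa [fixProj, mul_sub, mul_one] at h

theorem fixProj_idem (hr : (r : F) ≠ 0) (hx : X ^ r = 1) : fixProj r X * fixProj r X = fixProj r X := by
  simp only [fixProj, mul_sub, sub_mul, mul_one, one_mul, movedProj_idem hr hx, sub_self, sub_zero]

theorem fixProj_mul_sq (hr : (r : F) ≠ 0) (hx : X ^ r = 1) :
    fixProj r X * movedProj r (X * X) = 0 := by
  have h : ∀ i : ℕ, fixProj r X * (X * X) ^ i = fixProj r X := fun i => by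
    induction i with
    | zero => rw [pow_zero, mul_one]
    | succ i ih => rw [pow_succ, ← mul_assoc, ih, ← mul_assoc, fixProj_mul hx, fixProj_mul hx]
  rw [show movedProj r (X * X) = 1 - (r : F)⁻¹ • ∑ i ∈ range r, (X * X) ^ i from rfl, mul_sub, mul_one,
    mul_smul_comm, Finset.mul_sum, Finset.sum_congr rfl (fun i _ => h i), Finset.sum_const, Finset.card_range,
    ← Nat.cast_smul_eq_nsmul F, smul_smul, inv_mul_cancel₀ hr, one_smul, sub_self]

theorem sq_mul_fixProj (hr : (r : F) ≠ 0) (hx : X ^ r = 1) :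
    movedProj r (X * X) * fixProj r X = 0 := by
  have h : Commute (fixProj r X) (movedProj r (X * X)) := by
    refine Commute.symm ?_
    refine (Commute.one_right _).sub_right (Commute.symm ?_)
    refine movedProj_commute (r := r) ?_
    have hc : Commute (movedProj r X) X := (movedProj_comm r X).symm
    exact (hc.mul_right hc).eq
  rw [← h.eq, fixProj_mul_sq hr hx]

theorem mulVec_fixed (hr : (r : F) ≠ 0) {v : ι → F} (hv : X *ᵥ v = v) :
    fixProj r X *ᵥ v = v := by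
  have h : ∀ i : ℕ, X ^ i *ᵥ v = v := fun i => by
    induction i with
    | zero => rw [pow_zero, one_mulVec]
    | succ i ih => rw [pow_succ, ← mulVec_mulVec, hv, ih]
  rw [fixProj, movedProj, sub_sub_cancel, smul_mulVec, Matrix.sum_mulVec,
    Finset.sum_congr rfl (fun i _ => h i), Finset.sum_const, Finset.card_range, ← Nat.cast_smul_eq_nsmul F,
    smul_smul, inv_mul_cancel₀ hr, one_smul]

theorem neg_on_rest (hr : (r : F) ≠ 0) (hx : X ^ r = 1) {z : ι → F} (hf : fixProj r X *ᵥ z = 0)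
    (he : movedProj r (X * X) *ᵥ z = 0) : X *ᵥ z = -z := by
  have h1 : X *ᵥ (X *ᵥ z) = z := by
    have h := congrArg (fun M : Matrix ι ι F => M *ᵥ z) (mul_one_sub_movedProj (pow_sq_eq_one hx))
    simp only [← mulVec_mulVec, sub_mulVec, one_mulVec, he, sub_zero] at h
    exact h
  have h2 : fixProj r X *ᵥ (X *ᵥ z + z) = X *ᵥ z + z :=
    mulVec_fixed hr (by rw [mulVec_add, h1, add_comm])
  rw [mulVec_add, mulVec_mulVec, fixProj_mul hx, hf, add_zero] at h2
  exact eq_neg_of_add_eq_zero_left h2.symm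

end Proj

section Sp

open LinearMap (BilinForm)
open CfsgLib

variable [Fintype F] {m : ℕ}

theorem selfAdjoint {M : Matrix (Fin m ⊕ Fin m) (Fin m ⊕ Fin m) F}
    (h : Mᵀ * Matrix.J (Fin m) F = Matrix.J (Fin m) F * M) (u v : Fin m ⊕ Fin m → F) :
    Sp.sympBilin m F (M *ᵥ u) v = Sp.sympBilin m F u (M *ᵥ v) := by
  rw [Sp.sympBilin, Matrix.toBilin'_apply', Matrix.toBilin'_apply', mulVec_mulVec, ← h, ← vecMul_transpose,
    ← dotProduct_mulVec, mulVec_mulVec]

theorem fixProj_adj {X : Matrix (Fin m ⊕ Fin m) (Fin m ⊕ Fin m) F}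
    (hX : Xᵀ * Matrix.J (Fin m) F * X = Matrix.J (Fin m) F) (hx : X ^ r = 1) (u v : Fin m ⊕ Fin m → F) :
    Sp.sympBilin m F (fixProj r X *ᵥ u) v = Sp.sympBilin m F u (fixProj r X *ᵥ v) := by
  refine selfAdjoint ?_ u v
  rw [fixProj, transpose_sub, transpose_one, sub_mul, one_mul, transpose_movedProj_mul hX hx, mul_sub, mul_one]

theorem sq_adj {X : Matrix (Fin m ⊕ Fin m) (Fin m ⊕ Fin m) F}
    (hX : Xᵀ * Matrix.J (Fin m) F * X = Matrix.J (Fin m) F) (hx : X ^ r = 1) (u v : Fin m ⊕ Fin m → F) :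
    Sp.sympBilin m F (movedProj r (X * X) *ᵥ u) v = Sp.sympBilin m F u (movedProj r (X * X) *ᵥ v) := by
  refine selfAdjoint (transpose_movedProj_mul ?_ (pow_sq_eq_one hx)) u v
  calc (X * X)ᵀ * Matrix.J (Fin m) F * (X * X) = Xᵀ * (Xᵀ * Matrix.J (Fin m) F * X) * X := by
        simp only [transpose_mul, mul_assoc]
    _ = Matrix.J (Fin m) F := by rw [hX, hX]

/-- An isometry between the fixed spaces of similar semisimple isometries. -/
theorem exists_fixed_isometry {X Y : Matrix (Fin m ⊕ Fin m) (Fin m ⊕ Fin m) F}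
    (hX : Xᵀ * Matrix.J (Fin m) F * X = Matrix.J (Fin m) F)
    (hY : Yᵀ * Matrix.J (Fin m) F * Y = Matrix.J (Fin m) F) (hr : (r : F) ≠ 0) (hx : X ^ r = 1) (hy : Y ^ r = 1)
    (k : GL (Fin m ⊕ Fin m) F) (hk : (k : Matrix (Fin m ⊕ Fin m) (Fin m ⊕ Fin m) F) * X =
      Y * (k : Matrix (Fin m ⊕ Fin m) (Fin m ⊕ Fin m) F)) :
    ∃ j : LinearMap.range (Matrix.toLin' (fixProj r X)) ≃ₗ[F] LinearMap.range (Matrix.toLin' (fixProj r Y)),
      ∀ u v, Sp.sympBilin m F (j u : Fin m ⊕ Fin m → F) (j v : Fin m ⊕ Fin m → F) =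
        Sp.sympBilin m F (u : Fin m ⊕ Fin m → F) (v : Fin m ⊕ Fin m → F) := by
  classical
  set B := Sp.sympBilin m F with hB
  have hnd : ∀ {Z : Matrix (Fin m ⊕ Fin m) (Fin m ⊕ Fin m) F}, Zᵀ * Matrix.J (Fin m) F * Z = Matrix.J (Fin m) F →
      Z ^ r = 1 → LinearMap.SeparatingLeft (B.restrict (LinearMap.range (Matrix.toLin' (fixProj r Z)))) := by
    intro Z hZ hz u hu
    obtain ⟨w, hw⟩ := u.2
    refine Subtype.ext (Sp.sympBilin_separatingLeft _ fun v => ?_)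
    have h : fixProj r Z *ᵥ (u : Fin m ⊕ Fin m → F) = (u : Fin m ⊕ Fin m → F) := by
      rw [← hw, Matrix.toLin'_apply, mulVec_mulVec, fixProj_idem hr hz]
    rw [← h, fixProj_adj hZ hz]
    exact hu ⟨fixProj r Z *ᵥ v, ⟨v, Matrix.toLin'_apply _ _⟩⟩
  have hAX : (B.restrict (LinearMap.range (Matrix.toLin' (fixProj r X)))).IsAlt := fun v => Sp.sympBilin_isAlt _
  have hAY : (B.restrict (LinearMap.range (Matrix.toLin' (fixProj r Y)))).IsAlt := fun v => Sp.sympBilin_isAlt _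
  let kU := k
  have hconj : fixProj r Y = (k : Matrix (Fin m ⊕ Fin m) (Fin m ⊕ Fin m) F) * fixProj r X *
      ((k⁻¹ : GL (Fin m ⊕ Fin m) F) : Matrix (Fin m ⊕ Fin m) (Fin m ⊕ Fin m) F) := by
    rw [fixProj, fixProj, movedProj_conj hk (Units.mul_inv k), mul_sub, sub_mul, mul_one, Units.mul_inv]
  have hdim : Module.finrank F (LinearMap.range (Matrix.toLin' (fixProj r Y))) =
      Module.finrank F (LinearMap.range (Matrix.toLin' (fixProj r X))) := by
    show (fixProj r Y).rank = (fixProj r X).rank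
    rw [hconj, Matrix.rank_mul_eq_left_of_isUnit_det _ _ ((Matrix.isUnit_iff_isUnit_det _).1 (k⁻¹).isUnit),
      Matrix.rank_mul_eq_right_of_isUnit_det _ _ ((Matrix.isUnit_iff_isUnit_det _).1 k.isUnit)]
  have heven : ∀ {W : Submodule F (Fin m ⊕ Fin m → F)}, LinearMap.SeparatingLeft (B.restrict W) →
      (B.restrict W).IsAlt → ∃ n, Module.finrank F W = 2 * n := by
    intro W hs hA
    obtain ⟨n', k', b, -, -, -, h4⟩ := Cfsg.Agent.S0752.result (B.restrict W) hA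
    have hk' : k' = 0 := by
      by_contra h
      exact b.ne_zero _ (hs _ (h4 ⟨0, Nat.pos_of_ne_zero h⟩))
    subst hk'
    refine ⟨n', ?_⟩
    rw [Module.finrank_eq_card_basis b]
    simp
    omega
  obtain ⟨n, hn⟩ := heven (hnd hX hx) hAX
  obtain ⟨e1, he1⟩ := Sp.exists_std_equiv _ hAX (hnd hX hx) hn
  obtain ⟨e2, he2⟩ := Sp.exists_std_equiv _ hAY (hnd hY hy) (hdim.trans hn)
  refine ⟨e1.symm.trans e2, fun u v => ?_⟩
  show B.restrict _ (e2 (e1.symm u)) (e2 (e1.symm v)) = B.restrict _ u v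
  rw [he2, ← he1, e1.apply_symm_apply, e1.apply_symm_apply]

/-- Similar semisimple elements of a finite symplectic group are conjugate in it. -/
theorem sp_isConj_of_similar (hr : (r : F) ≠ 0) (x y : Matrix.symplecticGroup (Fin m) F) (hxr : x ^ r = 1)
    (g : GL (Fin m ⊕ Fin m) F)
    (h : (g : Matrix (Fin m ⊕ Fin m) (Fin m ⊕ Fin m) F) * x.1 =
      y.1 * (g : Matrix (Fin m ⊕ Fin m) (Fin m ⊕ Fin m) F)) : IsConj x y := by
  have hJt : (Matrix.J (Fin m) F)ᵀ = (-1 : F) • Matrix.J (Fin m) F := by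
    rw [neg_one_smul]; exact Matrix.J_transpose _ _
  have hpres : ∀ w : Matrix.symplecticGroup (Fin m) F,
      w.1ᵀ * Matrix.J (Fin m) F * w.1 = Matrix.J (Fin m) F := fun w => SymplecticGroup.mem_iff'.1 w.2
  let U : ∀ w : Matrix.symplecticGroup (Fin m) F, GL (Fin m ⊕ Fin m) F := fun w =>
    ⟨w.1, (w⁻¹).1, by rw [← Submonoid.coe_mul, mul_inv_cancel, Submonoid.coe_one],
      by rw [← Submonoid.coe_mul, inv_mul_cancel, Submonoid.coe_one]⟩
  have hX : x.1 ^ r = 1 := by rw [← SubmonoidClass.coe_pow, hxr, Submonoid.coe_one]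
  have hY : y.1 ^ r = 1 := by
    have h2 := (SemiconjBy.pow_right (show SemiconjBy (g : Matrix (Fin m ⊕ Fin m) (Fin m ⊕ Fin m) F) x.1 y.1 from h) r).eq
    rw [hX, mul_one] at h2
    exact g.isUnit.mul_right_cancel (by rw [one_mul]; exact h2.symm)
  obtain ⟨k, hkx, hkB⟩ := exists_isometric_on_sq (Matrix.isUnit_det_J (Fin m) F) (-1)
    (by ring) hJt hr (U x) (U y) g (hpres x) (hpres y) hX (mul_inv_eq_iff_eq_mul.2 (Units.ext h))
  let K : Matrix (Fin m ⊕ Fin m) (Fin m ⊕ Fin m) F := k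
  have hKX : K * x.1 = y.1 * K := congrArg Units.val hkx
  set B := Sp.sympBilin m F with hB
  set f := fixProj r x.1 with hf
  set f' := fixProj r y.1 with hf'
  set e := movedProj r (x.1 * x.1) with he
  set e' := movedProj r (y.1 * y.1) with he'
  have hKe : e' * K = K * e := by
    have h2 : K * (x.1 * x.1) = y.1 * y.1 * K := by rw [← mul_assoc, hKX, mul_assoc, hKX, mul_assoc]
    rw [he', movedProj_conj (k' := ((k⁻¹ : GL (Fin m ⊕ Fin m) F) : Matrix _ _ F)) h2 (Units.mul_inv k),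
      mul_assoc, show ((k⁻¹ : GL (Fin m ⊕ Fin m) F) : Matrix (Fin m ⊕ Fin m) (Fin m ⊕ Fin m) F) * K = 1 from
        Units.inv_mul k, mul_one]
  obtain ⟨j, hj⟩ := exists_fixed_isometry (hpres x) (hpres y) hr hX hY k hKX
  let jm : (Fin m ⊕ Fin m → F) →ₗ[F] (Fin m ⊕ Fin m → F) :=
    (Submodule.subtype _).comp (j.toLinearMap.comp (Matrix.toLin' f).rangeRestrict)
  have hjf : ∀ u, f' *ᵥ jm u = jm u := fun u => by
    obtain ⟨w, hw⟩ := (j ((Matrix.toLin' f).rangeRestrict u)).2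
    show f' *ᵥ (j ((Matrix.toLin' f).rangeRestrict u) : Fin m ⊕ Fin m → F) = _
    rw [← hw, Matrix.toLin'_apply, mulVec_mulVec, fixProj_idem hr hY]
    exact ((Matrix.toLin'_apply _ _).symm.trans hw)
  have hjB : ∀ u v, B (jm u) (jm v) = B (f *ᵥ u) (f *ᵥ v) := fun u v => hj _ _
  have hjf2 : ∀ u, jm (f *ᵥ u) = jm u := fun u => by
    show ((j _ : _) : Fin m ⊕ Fin m → F) = ((j _ : _) : Fin m ⊕ Fin m → F)
    congr 2
    refine Subtype.ext ?_
    show Matrix.toLin' f (f *ᵥ u) = Matrix.toLin' f u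
    rw [Matrix.toLin'_apply, Matrix.toLin'_apply, mulVec_mulVec, fixProj_idem hr hX]
  have hjker : ∀ u, jm u = 0 → f *ᵥ u = 0 := fun u hu => by
    have : (Matrix.toLin' f).rangeRestrict u = 0 := j.map_eq_zero_iff.1 (Subtype.ext hu)
    exact congrArg Subtype.val this
  have hje : ∀ u, jm (e *ᵥ u) = 0 := fun u => by
    have h0 : (Matrix.toLin' f).rangeRestrict (e *ᵥ u) = 0 := Subtype.ext (by
      show Matrix.toLin' f (e *ᵥ u) = 0
      rw [Matrix.toLin'_apply, mulVec_mulVec, fixProj_mul_sq hr hX, zero_mulVec])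
    show ((j ((Matrix.toLin' f).rangeRestrict (e *ᵥ u)) : _) : Fin m ⊕ Fin m → F) = 0
    rw [h0, map_zero, Submodule.coe_zero]
  have hKB : ∀ u v, B (K *ᵥ (e *ᵥ u)) (K *ᵥ (e *ᵥ v)) = B (e *ᵥ u) (e *ᵥ v) := by
    intro u v
    have hJ : BilinForm.toMatrix' B = Matrix.J (Fin m) F := BilinForm.toMatrix'_toBilin' _
    have := (toMatrix'_preserved B (K * e) e).1 (by rw [hJ]; exact hkB) u v
    rwa [← mulVec_mulVec, ← mulVec_mulVec] at this
  have hcross : ∀ u v, B (jm u) (K *ᵥ (e *ᵥ v)) = 0 := fun u v => by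
    rw [mulVec_mulVec, ← hKe, ← mulVec_mulVec, ← hjf, hB, fixProj_adj (hpres y) hY, mulVec_mulVec,
      fixProj_mul_sq hr hY, zero_mulVec, map_zero]
  have hcross' : ∀ u v, B (f *ᵥ u) (e *ᵥ v) = 0 := fun u v => by
    rw [hB, fixProj_adj (hpres x) hX, mulVec_mulVec, fixProj_mul_sq hr hX, zero_mulVec, map_zero]
  let Φ : (Fin m ⊕ Fin m → F) →ₗ[F] (Fin m ⊕ Fin m → F) := jm + (Matrix.toLin' K).comp (Matrix.toLin' e)
  have hΦ : ∀ u, Φ u = jm u + K *ᵥ (e *ᵥ u) := fun u => rfl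
  set X0 := LinearMap.range (Matrix.toLin' (f + e)) with hX0
  have hid : ∀ u ∈ X0, f *ᵥ u + e *ᵥ u = u := by
    rintro u ⟨w, rfl⟩
    rw [Matrix.toLin'_apply, ← add_mulVec, mulVec_mulVec, add_mul, mul_add, mul_add, fixProj_idem hr hX,
      fixProj_mul_sq hr hX, sq_mul_fixProj hr hX, movedProj_idem hr (pow_sq_eq_one hX), add_zero, zero_add]
  have hinj : Function.Injective (Φ.comp X0.subtype) := by
    rw [injective_iff_map_eq_zero]
    intro u hu
    have hu' : jm (u : Fin m ⊕ Fin m → F) + K *ᵥ (e *ᵥ (u : Fin m ⊕ Fin m → F)) = 0 := hu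
    have h1 : jm (u : Fin m ⊕ Fin m → F) = 0 := by
      have := congrArg (f' *ᵥ ·) hu'
      simp only [mulVec_add, mulVec_zero, hjf] at this
      rwa [mulVec_mulVec, mulVec_mulVec, mul_assoc, ← hKe, ← mul_assoc, fixProj_mul_sq hr hY, zero_mul,
        zero_mulVec, add_zero] at this
    rw [h1, zero_add] at hu'
    have h2 : e *ᵥ (u : Fin m ⊕ Fin m → F) = 0 := by
      have := congrArg (((k⁻¹ : GL (Fin m ⊕ Fin m) F) : Matrix (Fin m ⊕ Fin m) (Fin m ⊕ Fin m) F) *ᵥ ·) hu'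
      simpa [K, mulVec_mulVec] using this
    refine Subtype.ext ?_
    rw [← hid _ u.2, hjker _ h1, h2, add_zero]
    rfl
  obtain ⟨G, hG, hGe⟩ := Sp.witt_extension Sp.sympBilin_isAlt Sp.sympBilin_separatingLeft X0
    (Φ.comp X0.subtype) hinj (fun u v => by
      show B (Φ (u : Fin m ⊕ Fin m → F)) (Φ (v : Fin m ⊕ Fin m → F)) = B (u : Fin m ⊕ Fin m → F) (v : Fin m ⊕ Fin m → F)
      conv_rhs => rw [← hid _ u.2, ← hid _ v.2]
      simp only [hΦ, map_add, LinearMap.add_apply, hjB, hKB, hcross, hcross',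
        show ∀ a b, B (K *ᵥ (e *ᵥ a)) (jm b) = 0 from fun a b => Sp.sympBilin_isAlt.isRefl _ _ (hcross b a),
        show ∀ a b, B (e *ᵥ a) (f *ᵥ b) = 0 from fun a b => Sp.sympBilin_isAlt.isRefl _ _ (hcross' b a)])
  obtain ⟨W, rfl⟩ := Sp.exists_toEquiv_eq (Sp.transvGroup_le_isom hG)
  refine isConj_iff.2 ⟨W, mul_inv_eq_iff_eq_mul.2 (Subtype.ext (Matrix.ext_of_mulVec_single fun i => ?_))⟩
  set v : Fin m ⊕ Fin m → F := Pi.single i 1
  show (W.1 * x.1) *ᵥ v = (y.1 * W.1) *ᵥ v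
  have hGf : ∀ u, W.1 *ᵥ (f *ᵥ u) = jm u := fun u => by
    have hm : f *ᵥ u ∈ X0 := ⟨f *ᵥ u, by
      rw [Matrix.toLin'_apply, add_mulVec, mulVec_mulVec, mulVec_mulVec, fixProj_idem hr hX,
        sq_mul_fixProj hr hX, zero_mulVec, add_zero]⟩
    refine (hGe ⟨_, hm⟩).trans ?_
    show Φ (f *ᵥ u) = _
    rw [hΦ, mulVec_mulVec u e, sq_mul_fixProj hr hX, zero_mulVec, mulVec_zero, add_zero, hjf2]
  have hGE : ∀ u, W.1 *ᵥ (e *ᵥ u) = K *ᵥ (e *ᵥ u) := fun u => by
    have hm : e *ᵥ u ∈ X0 := ⟨e *ᵥ u, by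
      rw [Matrix.toLin'_apply, add_mulVec, mulVec_mulVec, mulVec_mulVec, movedProj_idem hr (pow_sq_eq_one hX),
        fixProj_mul_sq hr hX, zero_mulVec, zero_add]⟩
    refine (hGe ⟨_, hm⟩).trans ?_
    show Φ (e *ᵥ u) = _
    rw [hΦ, hje, zero_add, mulVec_mulVec u e, movedProj_idem hr (pow_sq_eq_one hX)]
  set z := v - (f *ᵥ v + e *ᵥ v) with hz
  have hzf : f *ᵥ z = 0 := by
    rw [hz, mulVec_sub, mulVec_add, mulVec_mulVec, mulVec_mulVec, fixProj_idem hr hX, fixProj_mul_sq hr hX,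
      zero_mulVec, add_zero, sub_self]
  have hze : e *ᵥ z = 0 := by
    rw [hz, mulVec_sub, mulVec_add, mulVec_mulVec, mulVec_mulVec, sq_mul_fixProj hr hX,
      movedProj_idem hr (pow_sq_eq_one hX), zero_mulVec, zero_add, sub_self]
  have hWB : ∀ a b, B (W.1 *ᵥ a) (W.1 *ᵥ b) = B a b := fun a b => by
    rw [hB, Sp.sympBilin_apply, Sp.sympBilin_apply]; exact Sp.sympForm_mulVec W a b
  have hzf' : f' *ᵥ (W.1 *ᵥ z) = 0 := by
    refine Sp.sympBilin_nondegenerate.2 _ fun a => ?_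
    rw [← fixProj_adj (hpres y) hY]
    obtain ⟨b, hb⟩ := j.surjective ⟨f' *ᵥ a, ⟨a, Matrix.toLin'_apply _ _⟩⟩
    obtain ⟨w, hw⟩ := b.2
    have e1 : (Matrix.toLin' f).rangeRestrict w = b := Subtype.ext hw
    have e2 : f' *ᵥ a = jm w := by
      show _ = ((j _ : _) : Fin m ⊕ Fin m → F)
      rw [e1, hb]
    rw [← hf', e2, ← hGf, ← hB, hWB, hB, fixProj_adj (hpres x) hX, ← hf, hzf, map_zero]
  have hze' : e' *ᵥ (W.1 *ᵥ z) = 0 := by
    refine Sp.sympBilin_nondegenerate.2 _ fun a => ?_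
    rw [← sq_adj (hpres y) hY]
    have e2 : e' *ᵥ a = W.1 *ᵥ (e *ᵥ (((k⁻¹ : GL (Fin m ⊕ Fin m) F) : Matrix (Fin m ⊕ Fin m) (Fin m ⊕ Fin m) F) *ᵥ a)) := by
      rw [hGE, mulVec_mulVec, mulVec_mulVec, ← hKe, mul_assoc,
        show K * ((k⁻¹ : GL (Fin m ⊕ Fin m) F) : Matrix (Fin m ⊕ Fin m) (Fin m ⊕ Fin m) F) = 1 from Units.mul_inv k,
        mul_one]
    rw [← he', e2, ← hB, hWB, hB, sq_adj (hpres x) hX, ← he, hze, map_zero]
  have hXz : x.1 *ᵥ z = -z := neg_on_rest hr hX hzf hze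
  have hYz : y.1 *ᵥ (W.1 *ᵥ z) = -(W.1 *ᵥ z) := neg_on_rest hr hY hzf' hze'
  have hv : v = f *ᵥ v + e *ᵥ v + z := by rw [hz, add_sub_cancel]
  have c1 : x.1 *ᵥ (f *ᵥ v) = f *ᵥ v := by rw [mulVec_mulVec, mul_fixProj hX]
  have c2 : y.1 *ᵥ jm v = jm v := by rw [← hjf, mulVec_mulVec, mul_fixProj hY]
  have c3 : x.1 *ᵥ (e *ᵥ v) = e *ᵥ (x.1 *ᵥ v) := by
    rw [mulVec_mulVec, mulVec_mulVec]
    congr 1
    exact movedProj_commute (r := r) ((Commute.refl x.1).mul_right (Commute.refl x.1)).eq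
  rw [← mulVec_mulVec, ← mulVec_mulVec, hv]
  simp only [mulVec_add, c1, c3, hGf, hGE, hXz, hYz, c2, mulVec_neg]
  congr 2
  rw [← c3, mulVec_mulVec, hKX, ← mulVec_mulVec]

end Sp

end Cfsg.Agent.SpSemisimple57
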