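import Mathlib

/-!
Every endomorphism of a finite-dimensional vector space is self-adjoint for some non-degenerate
bilinear form; every square matrix over a field is similar to its transpose.
-/

set_option autoImplicit false

namespace Cfsg.Agent.Transpose57

open Polynomial

universe u

variable {F : Type u} [Field F]

theorem exists_functional {p : F[X]} (hp : Irreducible p) (e : ℕ) :
    ∃ l : (F[X] ⧸ Ideal.span {p ^ e}) →ₗ[F] F,
      ∀ a, (∀ r : F[X], l (r • a) = 0) → a = 0 := by
  set J : Ideal F[X] := Ideal.span {p ^ e} with hJ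
  rcases Nat.eq_zero_or_pos e with rfl | he
  · refine ⟨0, fun a _ => ?_⟩
    obtain ⟨r, rfl⟩ := Ideal.Quotient.mk_surjective a
    rw [Ideal.Quotient.eq_zero_iff_dvd, pow_zero]
    exact one_dvd r
  · have hx : Ideal.Quotient.mk J (p ^ (e - 1)) ≠ 0 := by
      rw [Ne, hJ, Ideal.Quotient.eq_zero_iff_dvd]
      intro h
      have := (pow_dvd_pow_iff hp.ne_zero hp.not_isUnit).1 h
      omega
    obtain ⟨l, hl⟩ : ∃ l : (F[X] ⧸ J) →ₗ[F] F, l (Ideal.Quotient.mk J (p ^ (e - 1))) ≠ 0 := by
      by_contra h
      push Not at h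
      exact hx ((Module.forall_dual_apply_eq_zero_iff F _).1 h)
    refine ⟨l, fun a ha => ?_⟩
    obtain ⟨r, rfl⟩ := Ideal.Quotient.mk_surjective a
    by_contra h0
    rw [hJ, Ideal.Quotient.eq_zero_iff_dvd] at h0
    have hr : r ≠ 0 := by
      rintro rfl
      exact h0 (dvd_zero _)
    obtain ⟨k, u, hu, rfl⟩ := WfDvdMonoid.max_power_factor hr hp
    have hk : k < e := by
      by_contra h
      exact h0 (dvd_mul_of_dvd_left (pow_dvd_pow p (not_lt.1 h)) u)
    obtain ⟨s, v, huv⟩ := (hp.coprime_iff_not_dvd).2 hu
    apply hl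
    have h1 : Ideal.Quotient.mk J (p ^ (e - 1))
        = (v * p ^ (e - 1 - k)) • Ideal.Quotient.mk J (p ^ k * u) := by
      change _ = Ideal.Quotient.mk J ((v * p ^ (e - 1 - k)) * (p ^ k * u))
      rw [Ideal.Quotient.eq, hJ,
        Ideal.mem_span_singleton]
      refine ⟨s, ?_⟩
      have hk1 : p ^ (e - 1) = p ^ (e - 1 - k) * p ^ k := by
        rw [← pow_add]
        congr 1
        omega
      have hk2 : p ^ e = p ^ (e - 1) * p := by
        rw [← pow_succ, Nat.sub_add_cancel he]
      rw [hk2, hk1]
      linear_combination (-(p ^ (e - 1 - k) * p ^ k)) * huv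
    rw [h1]
    exact ha _

/-- Every endomorphism is self-adjoint for a non-degenerate bilinear form. -/
theorem exists_selfAdjoint_form {V : Type u} [AddCommGroup V] [Module F V] [FiniteDimensional F V]
    (f : Module.End F V) :
    ∃ B : LinearMap.BilinForm F V,
      (∀ x, (∀ y, B x y = 0) → x = 0) ∧ ∀ x y, B (f x) y = B x (f y) := by
  classical
  have htor := Module.AEval.isTorsion_of_finiteDimensional (K := F) (M := V) f
  obtain ⟨ι, _, p, hp, e, ⟨ψ⟩⟩ := Module.equiv_directSum_of_isTorsion htor
  choose l hl using fun i => exists_functional (hp i) (e i)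
  let π : ∀ i, V →ₗ[F] (F[X] ⧸ Ideal.span {p i ^ e i}) := fun i =>
    ((DirectSum.component F[X] ι _ i).comp ψ.toLinearMap).restrictScalars F ∘ₗ
      (Module.AEval'.of f).toLinearMap
  have hπ : ∀ i x, π i (f x) = (X : F[X]) • π i x := by
    intro i x
    simp only [π, LinearMap.coe_comp, Function.comp_apply, LinearEquiv.coe_coe,
      LinearMap.coe_restrictScalars]
    rw [← Module.AEval'.X_smul_of, map_smul, map_smul]
  let B : LinearMap.BilinForm F V := ∑ i, ((LinearMap.mul F _).compl₁₂ (π i) (π i)).compr₂ (l i)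
  have hB : ∀ x y, B x y = ∑ i, l i (π i x * π i y) := by
    intro x y
    simp [B, LinearMap.sum_apply]
  refine ⟨B, fun x hx => ?_, fun x y => ?_⟩
  · suffices h : ∀ i, π i x = 0 by
      apply (Module.AEval'.of f).injective
      apply ψ.injective
      refine DFinsupp.ext fun i => ?_
      rw [map_zero, map_zero]
      exact h i
    intro i
    refine hl i _ fun r => ?_
    let y : V := (Module.AEval'.of f).symm (ψ.symm (DirectSum.lof F[X] ι _ i (r • (1 : F[X] ⧸ Ideal.span {p i ^ e i}))))
    have h := hx y
    have hy : ∀ j, π j y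
        = DirectSum.component F[X] ι _ j
            (DirectSum.lof F[X] ι (fun i => F[X] ⧸ Ideal.span {p i ^ e i}) i (r • 1)) := by
      intro j
      simp only [π, y, LinearMap.coe_comp, Function.comp_apply, LinearEquiv.coe_coe,
        LinearMap.coe_restrictScalars, LinearEquiv.apply_symm_apply]
    rw [hB, Finset.sum_eq_single i] at h
    · rwa [hy, DirectSum.component.lof_self, mul_smul_comm, mul_one] at h
    · intro j _ hj
      rw [hy, DirectSum.component.of, dif_neg (Ne.symm hj)]
      rw [mul_zero, map_zero]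
    · simp
  · simp only [hB, hπ, smul_mul_assoc, mul_smul_comm]

/-- Every square matrix over a field is similar to its transpose. -/
theorem isConj_transpose {n : Type} [Fintype n] [DecidableEq n] (A : Matrix n n F) :
    IsConj A A.transpose := by
  obtain ⟨B, hnd, hadj⟩ := exists_selfAdjoint_form (Matrix.toLin' A)
  let M := LinearMap.BilinForm.toMatrix' B
  have hB : ∀ x y, B x y = dotProduct x (M.mulVec y) := by
    intro x y
    rw [← Matrix.toBilin'_apply', Matrix.toBilin'_toMatrix']
  have hM : IsUnit M := by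
    rw [← Matrix.vecMul_injective_iff_isUnit]
    intro x x' h
    rw [← sub_eq_zero]
    refine hnd _ fun y => ?_
    rw [hB, Matrix.dotProduct_mulVec, Matrix.sub_vecMul]
    simp only at h
    rw [h, sub_self, zero_dotProduct]
  have hMA : A.transpose * M = M * A := by
    apply LinearEquiv.injective Matrix.toBilin'
    refine LinearMap.ext fun x => LinearMap.ext fun y => ?_
    have h := hadj x y
    rw [Matrix.toLin'_apply, Matrix.toLin'_apply, hB, hB] at h
    rw [Matrix.toBilin'_apply', Matrix.toBilin'_apply', ← Matrix.mulVec_mulVec, ← Matrix.mulVec_mulVec,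
      Matrix.dotProduct_mulVec, Matrix.vecMul_transpose]
    exact h
  exact ⟨hM.unit, hMA.symm⟩

end Cfsg.Agent.Transpose57
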