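import Mathlib
import Cfsg.Prelude.Def_ClassicalGeometry

/-!
Transvection matrices: normal form, conjugacy, centralisers.
-/

set_option autoImplicit false

namespace Cfsg.Agent.Transvec57

open Matrix

variable {F : Type*} [Field F] {n : ℕ}

/-- A pair (centre, axis) of a transvection. -/
abbrev Pair (n : ℕ) (F : Type*) [Field F] :=
  {p : (Fin n → F) × (Fin n → F) // p.1 ≠ 0 ∧ p.2 ≠ 0 ∧ p.2 ⬝ᵥ p.1 = 0}

theorem exists_pair {t : Matrix (Fin n) (Fin n) F} (ht : Cfsg.IsTransvection t) :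
    ∃ p : Pair n F, t = 1 + vecMulVec p.1.1 p.1.2 := by
  obtain ⟨hr, hsq⟩ := ht
  obtain ⟨⟨a, ha⟩, ha0, hspan⟩ := finrank_eq_one_iff'.1 hr
  have hc : ∀ j, ∃ c : F, c • a = (t - 1).col j := by
    intro j
    obtain ⟨c, hc⟩ := hspan ⟨(t - 1).col j, ⟨Pi.single j 1, by rw [Matrix.mulVecLin_apply, Matrix.mulVec_single_one]⟩⟩
    exact ⟨c, congrArg Subtype.val hc⟩
  choose b hb using hc
  have ha' : a ≠ 0 := fun h => ha0 (Subtype.ext h)
  have hM : t - 1 = vecMulVec a b := by
    ext i j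
    have := congrFun (hb j) i
    simp only [Pi.smul_apply, smul_eq_mul, Matrix.col_apply] at this
    rw [vecMulVec_apply, mul_comm, this]
  have hb0 : b ≠ 0 := by
    intro h
    rw [h, vecMulVec_zero] at hM
    rw [hM, Matrix.rank_zero] at hr
    exact zero_ne_one hr
  have hba : b ⬝ᵥ a = 0 := by
    rw [hM, vecMulVec_mul_vecMulVec] at hsq
    by_contra h
    obtain ⟨i, hi⟩ := Function.ne_iff.1 ha'
    obtain ⟨j, hj⟩ := Function.ne_iff.1 hb0
    have := congrFun (congrFun hsq i) j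
    simp [vecMulVec_apply] at this
    tauto
  exact ⟨⟨(a, b), ha', hb0, hba⟩, by rw [← hM]; abel⟩

theorem exists_adapted_gen {V : Type*} [AddCommGroup V] [Module F V] [FiniteDimensional F V]
    (hV : Module.finrank F V = n) (φ : V →ₗ[F] F) (hφ : φ ≠ 0) {a : V} (ha : a ≠ 0) (hφa : φ a = 0) :
    ∃ B : Module.Basis (Fin 2 ⊕ Fin (n - 2)) F V, B (.inl 0) = a ∧ φ (B (.inl 1)) = 1 ∧
      ∀ i, φ (B (.inr i)) = 0 := by
  obtain ⟨ψ, hψ⟩ : ∃ ψ : Module.Dual F V, ψ a ≠ 0 := by
    by_contra h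
    push Not at h
    exact ha ((Module.forall_dual_apply_eq_zero_iff F a).1 h)
  obtain ⟨v, hv⟩ := LinearMap.surjective hφ 1
  have hsurj : Function.Surjective (φ.prod ψ) := by
    rintro ⟨x, y⟩
    refine ⟨x • v + ((y - x * ψ v) / ψ a) • a, Prod.ext ?_ ?_⟩
    · simp [hv, hφa]
    · simp [hψ]
  have hC : Module.finrank F (LinearMap.ker (φ.prod ψ)) + 2 = n := by
    have h := (φ.prod ψ).finrank_range_add_finrank_ker
    rw [LinearMap.range_eq_top.2 hsurj, finrank_top, Module.finrank_prod, Module.finrank_self] at h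
    omega
  let c := Module.finBasisOfFinrankEq F (LinearMap.ker (φ.prod ψ)) (by omega :
    Module.finrank F (LinearMap.ker (φ.prod ψ)) = n - 2)
  have hcφ : ∀ i, φ (c i : V) = 0 := fun i => congrArg Prod.fst (LinearMap.mem_ker.1 (c i).2)
  have hcψ : ∀ i, ψ (c i : V) = 0 := fun i => congrArg Prod.snd (LinearMap.mem_ker.1 (c i).2)
  have hu : LinearIndependent F (Sum.elim ![a, v] (fun i => (c i : V))) := by
    rw [Fintype.linearIndependent_iff]
    intro g hg
    rw [Fintype.sum_sum_type, Fin.sum_univ_two] at hg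
    simp only [Sum.elim_inl, Sum.elim_inr, Matrix.cons_val_zero, Matrix.cons_val_one] at hg
    have h1 : g (.inl 1) = 0 := by
      simpa [hcφ, hφa, hv] using congrArg φ hg
    have h2 : g (.inl 0) = 0 := by
      simpa [hcψ, h1, hψ] using congrArg ψ hg
    simp only [h1, h2, zero_smul, zero_add] at hg
    have h4 := Fintype.linearIndependent_iff.1 c.linearIndependent (fun i => g (.inr i))
      (Subtype.ext (by simpa using hg))
    rintro (i | i)
    · fin_cases i
      exacts [h2, h1]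
    · exact h4 i
  refine ⟨basisOfLinearIndependentOfCardEqFinrank hu (by simp [hV]; omega), ?_, ?_, fun i => ?_⟩ <;>
    rw [coe_basisOfLinearIndependentOfCardEqFinrank]
  · rfl
  · exact hv
  · exact hcφ i

/-- Adapted basis of a pair. -/
theorem exists_adapted (p : Pair n F) :
    ∃ B : Module.Basis (Fin 2 ⊕ Fin (n - 2)) F (Fin n → F), B (.inl 0) = p.1.1 ∧
      p.1.2 ⬝ᵥ B (.inl 1) = 1 ∧ ∀ i, p.1.2 ⬝ᵥ B (.inr i) = 0 := by
  obtain ⟨⟨a, b⟩, ha, hb, hba⟩ := p
  exact exists_adapted_gen (V := Fin n → F) (Module.finrank_fin_fun F) (dotProductBilin F F b)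
    (fun h => hb (dotProduct_eq_zero_iff.1 fun w => LinearMap.congr_fun h w)) ha hba

/-- `GL` is transitive on pairs. -/
theorem exists_map (p p' : Pair n F) :
    ∃ g : GL (Fin n) F, (g : Matrix (Fin n) (Fin n) F) *ᵥ p.1.1 = p'.1.1 ∧
      p'.1.2 ᵥ* (g : Matrix (Fin n) (Fin n) F) = p.1.2 := by
  obtain ⟨B, h0, h1, hr⟩ := exists_adapted p
  obtain ⟨B', h0', h1', hr'⟩ := exists_adapted p'
  let e := B.equiv B' (Equiv.refl _)
  have hM : IsUnit (LinearMap.toMatrix' e.toLinearMap) := by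
    rw [← Matrix.mulVec_injective_iff_isUnit]
    intro x y h
    apply e.injective
    simpa [LinearMap.toMatrix'_mulVec] using h
  refine ⟨hM.unit, ?_, ?_⟩
  · rw [IsUnit.unit_spec, LinearMap.toMatrix'_mulVec, LinearEquiv.coe_coe, ← h0, ← h0',
      Module.Basis.equiv_apply]
    rfl
  · rw [← sub_eq_zero]
    refine dotProduct_eq_zero_iff.1 fun w => ?_
    let ψ : (Fin n → F) →ₗ[F] F :=
      { toFun := fun x => p'.1.2 ⬝ᵥ e x - p.1.2 ⬝ᵥ x
        map_add' := fun x y => by simp only [map_add, dotProduct_add]; ring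
        map_smul' := fun c x => by simp only [map_smul, dotProduct_smul, smul_eq_mul, RingHom.id_apply]; ring }
    have hψ : ψ = 0 := by
      refine B.ext fun i => ?_
      show p'.1.2 ⬝ᵥ e (B i) - p.1.2 ⬝ᵥ B i = 0
      rw [Module.Basis.equiv_apply, Equiv.refl_apply]
      rcases i with i | i
      · fin_cases i
        · simp [h0, h0', p.2.2.2, p'.2.2.2]
        · simp [h1, h1']
      · simp [hr, hr']
    rw [IsUnit.unit_spec, sub_dotProduct, ← dotProduct_mulVec, LinearMap.toMatrix'_mulVec]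
    exact LinearMap.congr_fun hψ w

theorem conj_of_map {g : Matrix (Fin n) (Fin n) F} {p p' : Pair n F}
    (h1 : g *ᵥ p.1.1 = p'.1.1) (h2 : p'.1.2 ᵥ* g = p.1.2) :
    g * (1 + vecMulVec p.1.1 p.1.2) = (1 + vecMulVec p'.1.1 p'.1.2) * g := by
  rw [mul_add, add_mul, mul_one, one_mul, Matrix.mul_vecMulVec, Matrix.vecMulVec_mul, h1, h2]

end Cfsg.Agent.Transvec57
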