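import Cfsg.Agent.Helper57GammaO
import Cfsg.Agent.Helper57Levi
import Cfsg.Agent.Lib.AutPOmega.Std

/-!
The triality automorphism of `PΩ⁺₈`, from the invariant trilinear form on the three eight-dimensional
modules, written in the coordinates of `plusQ 4`.

Three isometries `(f, g, h)` are related when they leave the form invariant. Every element of `Ω` is the first
member of a related triple in `Ω`, the other two being determined up to sign; `f ↦ g` gives the automorphism.
-/

set_option autoImplicit false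
set_option linter.unusedSectionVars false

namespace Cfsg.Agent.Triality57

open Matrix QuadraticMap CfsgLib.Orth Cfsg.Agent.GammaO57

/-- the coordinates -/
abbrev I : Type := Fin 4 ⊕ Fin 4

variable {F : Type*} [Field F]

/-- numbering of the coordinates -/
def num : I → Fin 8 := Sum.elim (fun i => ⟨i, by omega⟩) (fun i => ⟨i + 4, by omega⟩)

/-- inverse of `num` -/
def unum : Fin 8 → I := ![.inl 0, .inl 1, .inl 2, .inl 3, .inr 0, .inr 1, .inr 2, .inr 3]

/-- the signs of the trilinear form -/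
def sgn (a c : I) : ℤ :=
  (![![0, 0, 0, 0, -1, 1, -1, 1],
    ![0, 0, -1, -1, 1, 1, 0, 0],
    ![0, 1, 0, -1, -1, 0, 1, 0],
    ![-1, 0, 0, -1, 0, -1, -1, 0],
    ![1, -1, 1, -1, 0, 0, 0, 0],
    ![-1, -1, 0, 0, 0, 0, 1, 1],
    ![1, 0, -1, 0, 0, -1, 0, 1],
    ![0, 1, 1, 0, 1, 0, 0, 1]] : Fin 8 → Fin 8 → ℤ) (num a) (num c)

/-- the third index -/
def tgt (a c : I) : I :=
  unum ((![![0, 0, 0, 0, 3, 6, 5, 4],
    ![0, 0, 4, 5, 2, 7, 0, 0],
    ![0, 4, 0, 6, 1, 0, 7, 0],
    ![4, 0, 0, 3, 0, 1, 2, 0],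
    ![7, 2, 1, 0, 0, 0, 0, 0],
    ![6, 3, 0, 0, 0, 0, 0, 1],
    ![5, 0, 3, 0, 0, 0, 0, 2],
    ![0, 5, 6, 0, 0, 0, 0, 7]] : Fin 8 → Fin 8 → Fin 8) (num a) (num c))

/-- the trilinear form -/
def tri (x y z : I → F) : F := ∑ a, ∑ c, (sgn a c : F) * x a * y c * z (tgt a c)

theorem tri_eq (x y z : I → F) : tri x y z =
    -(x (.inl 0) * y (.inr 0) * z (.inl 3))
    + x (.inl 0) * y (.inr 1) * z (.inr 2)
    - x (.inl 0) * y (.inr 2) * z (.inr 1)
    + x (.inl 0) * y (.inr 3) * z (.inr 0)
    + x (.inr 0) * y (.inl 0) * z (.inr 3)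
    - x (.inr 0) * y (.inl 1) * z (.inl 2)
    + x (.inr 0) * y (.inl 2) * z (.inl 1)
    - x (.inr 0) * y (.inl 3) * z (.inl 0)
    + x (.inl 1) * y (.inr 0) * z (.inl 2)
    + x (.inl 1) * y (.inr 1) * z (.inr 3)
    - x (.inl 1) * y (.inl 2) * z (.inr 0)
    - x (.inl 1) * y (.inl 3) * z (.inr 1)
    - x (.inr 1) * y (.inl 0) * z (.inr 2)
    - x (.inr 1) * y (.inl 1) * z (.inl 3)
    + x (.inr 1) * y (.inr 2) * z (.inl 0)
    + x (.inr 1) * y (.inr 3) * z (.inl 1)
    - x (.inl 2) * y (.inr 0) * z (.inl 1)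
    + x (.inl 2) * y (.inl 1) * z (.inr 0)
    + x (.inl 2) * y (.inr 2) * z (.inr 3)
    - x (.inl 2) * y (.inl 3) * z (.inr 2)
    + x (.inr 2) * y (.inl 0) * z (.inr 1)
    - x (.inr 2) * y (.inr 1) * z (.inl 0)
    - x (.inr 2) * y (.inl 2) * z (.inl 3)
    + x (.inr 2) * y (.inr 3) * z (.inl 2)
    - x (.inl 3) * y (.inl 0) * z (.inr 0)
    - x (.inl 3) * y (.inr 1) * z (.inl 1)
    - x (.inl 3) * y (.inr 2) * z (.inl 2)
    - x (.inl 3) * y (.inl 3) * z (.inl 3)
    + x (.inr 3) * y (.inr 0) * z (.inl 0)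
    + x (.inr 3) * y (.inl 1) * z (.inr 1)
    + x (.inr 3) * y (.inl 2) * z (.inr 2)
    + x (.inr 3) * y (.inr 3) * z (.inr 3) := by
  simp [tri, sgn, tgt, num, unum, Fintype.sum_sum_type, Fin.sum_univ_four]
  ring

theorem tri_cycle (x y z : I → F) : tri y z x = tri x y z := by
  rw [tri_eq, tri_eq]; ring

theorem tri_zero_left (y z : I → F) : tri 0 y z = 0 := by
  rw [tri_eq]; simp

theorem tri_single (a : I) (v w : I → F) :
    tri (Pi.single a 1) v w = ∑ c, (sgn a c : F) * v c * w (tgt a c) := by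
  rw [tri, Finset.sum_eq_single a]
  · simp
  · intro b _ hb; simp [hb]
  · simp

theorem tgt_inj : ∀ a c c' : I, sgn a c ≠ 0 → sgn a c' ≠ 0 → tgt a c = tgt a c' → c = c' := by
  decide

theorem sgn_cases : ∀ a c : I, sgn a c = 0 ∨ sgn a c = 1 ∨ sgn a c = -1 := by
  decide

theorem separate : ∀ b c : I, b ≠ c → ∃ a, sgn a b = 0 ∧ sgn a c ≠ 0 := by
  decide

theorem covered : ∀ j : I, ∃ a c, sgn a c ≠ 0 ∧ tgt a c = j := by
  decide

/-- two indices sharing a third index -/
def Share (c c' : I) : Prop := ∃ a a', sgn a c ≠ 0 ∧ sgn a' c' ≠ 0 ∧ tgt a c = tgt a' c'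

instance : DecidableRel Share := fun c c' => by unfold Share; infer_instance

theorem connected : ∀ c c' : I, ∃ c'', Share c c'' ∧ Share c'' c' := by
  decide

theorem sgn_ne_zero {a c : I} (h : sgn a c ≠ 0) : (sgn a c : F) ≠ 0 := by
  rcases sgn_cases a c with e | e | e
  · exact absurd e h
  · rw [e]; simp
  · rw [e]; simp

theorem tri_single_two (a b : I) (w : I → F) :
    tri (Pi.single a 1) (Pi.single b 1) w = (sgn a b : F) * w (tgt a b) := by
  rw [tri_single, Finset.sum_eq_single b]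
  · simp
  · intro c _ hc; simp [hc]
  · simp

theorem tri_single_third {a c : I} (h : sgn a c ≠ 0) (v : I → F) :
    tri (Pi.single a 1) v (Pi.single (tgt a c) 1) = (sgn a c : F) * v c := by
  rw [tri_single, Finset.sum_eq_single c]
  · simp
  · intro b _ hb
    rcases eq_or_ne (sgn a b) 0 with e | e
    · simp [e]
    · rw [Pi.single_eq_of_ne fun e' => hb (tgt_inj a b c e h e')]; simp
  · simp

variable [Fintype F]

/-- related triples of isometries -/
def Rel (f g h : O (plusQ 4 F)) : Prop := ∀ x y z, tri (app f x) (app g y) (app h z) = tri x y z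

theorem Rel.one : Rel (1 : O (plusQ 4 F)) 1 1 := fun x y z => by simp

theorem Rel.mul {f g h f' g' h' : O (plusQ 4 F)} (e : Rel f g h) (e' : Rel f' g' h') :
    Rel (f * f') (g * g') (h * h') := fun x y z => by rw [app_mul, app_mul, app_mul, e, e']

theorem Rel.inv {f g h : O (plusQ 4 F)} (e : Rel f g h) : Rel f⁻¹ g⁻¹ h⁻¹ := fun x y z => by
  rw [← e, app_app_inv, app_app_inv, app_app_inv]

theorem Rel.cycle {f g h : O (plusQ 4 F)} (e : Rel f g h) : Rel g h f := fun x y z => by
  rw [tri_cycle (app f z), e]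
  exact (tri_cycle z x y).symm

/-- the scalar `±1` -/
def IsSign (g : O (plusQ 4 F)) : Prop := ∃ l : F, l * l = 1 ∧ ∀ x, app g x = l • x

/-- A triple with first member one consists of scalars. -/
theorem rel_one_left {g h : O (plusQ 4 F)} (e : Rel 1 g h) :
    ∃ l : F, l * l = 1 ∧ (∀ x, app g x = l • x) ∧ ∀ x, app h x = l • x := by
  have e' : ∀ a v z, tri (Pi.single a 1) (app g v) (app h z) = tri (Pi.single a 1) v z := fun a v z => by
    have := e (Pi.single a 1) v z
    rwa [app_one] at this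
  set d : I → F := fun c => app g (Pi.single c 1) c
  have hoff : ∀ b c, b ≠ c → app g (Pi.single b 1) c = 0 := by
    intro b c hbc
    obtain ⟨a, h0, h1⟩ := separate b c hbc
    have h := e' a (Pi.single b 1) (app h⁻¹ (Pi.single (tgt a c) 1))
    rw [app_app_inv, tri_single_two, h0, Int.cast_zero, zero_mul, tri_single_third h1] at h
    exact (mul_eq_zero.1 h).resolve_left (sgn_ne_zero h1)
  have hg : ∀ b, app g (Pi.single b 1) = d b • Pi.single b 1 := by
    intro b
    funext c
    rcases eq_or_ne b c with rfl | hbc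
    · simp [d]
    · simp [hoff b c hbc, hbc.symm]
  have hh : ∀ a c, sgn a c ≠ 0 → ∀ z, d c * app h z (tgt a c) = z (tgt a c) := by
    intro a c hac z
    have h := e' a (Pi.single c 1) z
    rw [hg, tri_single_two, tri_single, Finset.sum_eq_single c (fun b _ hb => by simp [hb]) (by simp)] at h
    refine mul_left_cancel₀ (sgn_ne_zero (F := F) hac) ?_
    rw [← h]
    simp [mul_assoc]
  have hshare : ∀ c c', Share c c' → d c = d c' := by
    rintro c c' ⟨a, a', h1, h2, h3⟩
    have p1 := hh a c h1 (app h⁻¹ (Pi.single (tgt a c) 1))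
    have p2 := hh a' c' h2 (app h⁻¹ (Pi.single (tgt a c) 1))
    rw [app_app_inv, Pi.single_eq_same, mul_one] at p1
    rw [app_app_inv, ← h3, Pi.single_eq_same, mul_one] at p2
    rw [p1, p2]
  have hd : ∀ c c', d c = d c' := fun c c' => by
    obtain ⟨c'', h1, h2⟩ := connected c c'
    rw [hshare c c'' h1, hshare c'' c' h2]
  set l := d (.inl 0)
  have hgl : ∀ x, app g x = l • x := fun x => by
    have hlin : app g = l • LinearMap.id := by
      refine (Pi.basisFun F I).ext fun b => ?_
      rw [Pi.basisFun_apply, hg, hd b (.inl 0)]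
      rfl
    rw [hlin]; rfl
  have hl : l * l = 1 := by
    have h := Q_app g (Pi.single (.inl 0) 1 + Pi.single (.inr 0) 1)
    rw [hgl, QuadraticMap.map_smul] at h
    have e1 : plusQ 4 F (Pi.single (.inl 0) 1 + Pi.single (.inr 0) 1) = 1 := by
      simp [plusQ_coe, Cfsg.quadFormPlus, Pi.single_apply, Fin.sum_univ_four]
    rw [e1, smul_eq_mul, mul_one] at h
    exact h
  refine ⟨l, hl, hgl, fun x => funext fun j => ?_⟩
  obtain ⟨a, c, hac, rfl⟩ := covered j
  have := hh a c hac x
  rw [hd c (.inl 0)] at this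
  rw [Pi.smul_apply, smul_eq_mul, ← this, ← mul_assoc, hl, one_mul]

theorem rel_sign_left {f g h : O (plusQ 4 F)} (e : Rel f g h) {l : F} (hl : l * l = 1)
    (hf : ∀ x, app f x = l • x) : IsSign g ∧ IsSign h := by
  let N : O (plusQ 4 F) := mkO (l • LinearMap.id) (l • LinearMap.id)
    (LinearMap.ext fun x => by simp [smul_smul, hl]) (LinearMap.ext fun x => by simp [smul_smul, hl])
    (fun x => by simp [QuadraticMap.map_smul, hl])
  have hN : ∀ x, app N x = l • x := fun x => by rw [app_mkO]; rfl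
  have hlin : ∀ x y z : I → F, tri (l • x) (l • y) z = tri x y z := fun x y z => by
    rw [tri_eq, tri_eq]
    simp only [Pi.smul_apply, smul_eq_mul]
    linear_combination (tri x y z) * hl - (l * l - 1) * tri_eq x y z
  have r1 : Rel (F := F) N N 1 := fun x y z => by rw [hN, hN, app_one, hlin]
  obtain ⟨m, hm, hg', hh'⟩ := rel_one_left (g := N * g) (h := 1 * h) (show Rel 1 _ _ by
    have hff : N * f = 1 := ext_app fun x => by rw [app_mul, hf, hN, smul_smul, hl, one_smul, app_one]
    have := r1.mul e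
    rwa [hff] at this)
  refine ⟨⟨l * m, by linear_combination (m * m) * hl + hm, fun x => ?_⟩, ⟨m, hm, fun x => ?_⟩⟩
  · have := hg' x
    rw [app_mul, hN] at this
    rw [← smul_smul, ← this, smul_smul, hl, one_smul]
  · have := hh' x
    rwa [one_mul] at this

/-! ### Root elements -/

/-- a basis vector of the frame -/
def ev (k : Fin 4 × Bool) : I → F := Pi.single (CfsgLib.AutPOmega.hypIdx k) 1

/-- a root element -/
noncomputable def rootE (k l : Fin 4 × Bool) (t : F) : O (plusQ 4 F) := eich (plusQ 4 F) (ev k) (t • ev l)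

/-- the frame -/
noncomputable def S4 (F : Type*) [Field F] : CfsgLib.AutPOmega.Frame (plusQ 4 F) 4 :=
  CfsgLib.AutPOmega.plusFrame F 4 le_rfl

theorem S4_x (k : Fin 4 × Bool) : (S4 F).x k = ev k := rfl

theorem rootE_mem (k l : Fin 4 × Bool) (t : F) : rootE k l t ∈ Cfsg.Omega F ⇑(plusQ 4 F) :=
  (S4 F).eich_mem_omega _ _

theorem app_rootE (k l : Fin 4 × Bool) (h : k.1 ≠ l.1) (t : F) (x : I → F) :
    app (rootE k l t) x = x + (t * x (CfsgLib.AutPOmega.hypIdx (CfsgLib.AutPOmega.opp k))) • ev l -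
      (t * x (CfsgLib.AutPOmega.hypIdx (CfsgLib.AutPOmega.opp l))) • ev k := by
  have hp : ∀ k, polar (plusQ 4 F) x (ev k) = x (CfsgLib.AutPOmega.hypIdx (CfsgLib.AutPOmega.opp k)) := by
    rintro ⟨i, b⟩
    cases b <;> simp [ev, polar_plusQ, CfsgLib.AutPOmega.hypIdx, CfsgLib.AutPOmega.opp, Pi.single_apply,
      Finset.sum_add_distrib]
  have hkl : polar (plusQ 4 F) (ev k) (ev l) = 0 := (S4 F).pair_fst h
  have hs : ∀ k, plusQ 4 F (ev k) = 0 := fun k => (S4 F).sing k
  rw [rootE, CfsgLib.AutPOmega.app_eich_sing (hs k)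
    (by rw [QuadraticMap.map_smul, hs, smul_zero])
    (by rw [polar_smul_right, hkl, smul_zero]), polar_smul_right, hp, hp]
  module

theorem rel_rootE {k l k' l' k'' l'' : Fin 4 × Bool} {t t' t'' : F} (h : k.1 ≠ l.1) (h' : k'.1 ≠ l'.1)
    (h'' : k''.1 ≠ l''.1)
    (e : ∀ x y z : I → F,
      tri (x + (t * x (CfsgLib.AutPOmega.hypIdx (CfsgLib.AutPOmega.opp k))) • ev l -
          (t * x (CfsgLib.AutPOmega.hypIdx (CfsgLib.AutPOmega.opp l))) • ev k)
        (y + (t' * y (CfsgLib.AutPOmega.hypIdx (CfsgLib.AutPOmega.opp k'))) • ev l' -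
          (t' * y (CfsgLib.AutPOmega.hypIdx (CfsgLib.AutPOmega.opp l'))) • ev k')
        (z + (t'' * z (CfsgLib.AutPOmega.hypIdx (CfsgLib.AutPOmega.opp k''))) • ev l'' -
          (t'' * z (CfsgLib.AutPOmega.hypIdx (CfsgLib.AutPOmega.opp l''))) • ev k'') = tri x y z) :
    Rel (rootE k l t) (rootE k' l' t') (rootE k'' l'' t'') := fun x y z => by
  rw [app_rootE _ _ h, app_rootE _ _ h', app_rootE _ _ h'']
  exact e x y z

/-- the lines of the frame -/
def root : Fin 24 → (Fin 4 × Bool) × (Fin 4 × Bool) :=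
  ![((0, true), (1, true)), ((0, true), (1, false)), ((0, true), (2, true)), ((0, true), (2, false)), ((0, true), (3, true)), ((0, true), (3, false)), ((0, false), (1, true)), ((0, false), (1, false)), ((0, false), (2, true)), ((0, false), (2, false)), ((0, false), (3, true)), ((0, false), (3, false)),
    ((1, true), (2, true)), ((1, true), (2, false)), ((1, true), (3, true)), ((1, true), (3, false)), ((1, false), (2, true)), ((1, false), (2, false)), ((1, false), (3, true)), ((1, false), (3, false)), ((2, true), (3, true)), ((2, true), (3, false)), ((2, false), (3, true)), ((2, false), (3, false))]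

/-- the permutation of the lines by triality -/
def piT : Fin 24 → Fin 24 := ![0, 20, 2, 14, 12, 4, 23, 7, 19, 9, 11, 17, 5, 13, 15, 3, 16, 10, 8, 18, 21, 1, 6, 22]

theorem root_ne : ∀ n, (root n).1.1 ≠ (root n).2.1 := by decide

theorem exists_root : ∀ (i j : Fin 4) (b c : Bool), i < j → ∃ n, root n = ((i, b), (j, c)) := by decide

set_option maxHeartbeats 4000000 in
theorem rel_root (n : Fin 24) (t : F) : ∃ s s' : F, Rel (rootE (root n).1 (root n).2 t)
    (rootE (root (piT n)).1 (root (piT n)).2 s) (rootE (root (piT (piT n))).1 (root (piT (piT n))).2 s') := by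
  fin_cases n
  · exact ⟨t, t, rel_rootE (k := (0, true)) (l := (1, true)) (t := t) (k' := (0, true)) (l' := (1, true)) (t' := t)
      (k'' := (0, true)) (l'' := (1, true)) (t'' := t) (by decide) (by decide) (by decide) fun x y z => by
        simp [tri_eq, ev, CfsgLib.AutPOmega.hypIdx, CfsgLib.AutPOmega.opp]; ring⟩
  · exact ⟨t, t, rel_rootE (k := (0, true)) (l := (1, false)) (t := t) (k' := (2, true)) (l' := (3, true)) (t' := t)
      (k'' := (2, true)) (l'' := (3, false)) (t'' := t) (by decide) (by decide) (by decide) fun x y z => by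
        simp [tri_eq, ev, CfsgLib.AutPOmega.hypIdx, CfsgLib.AutPOmega.opp]; ring⟩
  · exact ⟨t, t, rel_rootE (k := (0, true)) (l := (2, true)) (t := t) (k' := (0, true)) (l' := (2, true)) (t' := t)
      (k'' := (0, true)) (l'' := (2, true)) (t'' := t) (by decide) (by decide) (by decide) fun x y z => by
        simp [tri_eq, ev, CfsgLib.AutPOmega.hypIdx, CfsgLib.AutPOmega.opp]; ring⟩
  · exact ⟨(-t), (-t), rel_rootE (k := (0, true)) (l := (2, false)) (t := t) (k' := (1, true)) (l' := (3, true)) (t' := (-t))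
      (k'' := (1, true)) (l'' := (3, false)) (t'' := (-t)) (by decide) (by decide) (by decide) fun x y z => by
        simp [tri_eq, ev, CfsgLib.AutPOmega.hypIdx, CfsgLib.AutPOmega.opp]; ring⟩
  · exact ⟨t, t, rel_rootE (k := (0, true)) (l := (3, true)) (t := t) (k' := (1, true)) (l' := (2, true)) (t' := t)
      (k'' := (0, true)) (l'' := (3, false)) (t'' := t) (by decide) (by decide) (by decide) fun x y z => by
        simp [tri_eq, ev, CfsgLib.AutPOmega.hypIdx, CfsgLib.AutPOmega.opp]; ring⟩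
  · exact ⟨t, t, rel_rootE (k := (0, true)) (l := (3, false)) (t := t) (k' := (0, true)) (l' := (3, true)) (t' := t)
      (k'' := (1, true)) (l'' := (2, true)) (t'' := t) (by decide) (by decide) (by decide) fun x y z => by
        simp [tri_eq, ev, CfsgLib.AutPOmega.hypIdx, CfsgLib.AutPOmega.opp]; ring⟩
  · exact ⟨t, t, rel_rootE (k := (0, false)) (l := (1, true)) (t := t) (k' := (2, false)) (l' := (3, false)) (t' := t)
      (k'' := (2, false)) (l'' := (3, true)) (t'' := t) (by decide) (by decide) (by decide) fun x y z => by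
        simp [tri_eq, ev, CfsgLib.AutPOmega.hypIdx, CfsgLib.AutPOmega.opp]; ring⟩
  · exact ⟨t, t, rel_rootE (k := (0, false)) (l := (1, false)) (t := t) (k' := (0, false)) (l' := (1, false)) (t' := t)
      (k'' := (0, false)) (l'' := (1, false)) (t'' := t) (by decide) (by decide) (by decide) fun x y z => by
        simp [tri_eq, ev, CfsgLib.AutPOmega.hypIdx, CfsgLib.AutPOmega.opp]; ring⟩
  · exact ⟨(-t), (-t), rel_rootE (k := (0, false)) (l := (2, true)) (t := t) (k' := (1, false)) (l' := (3, false)) (t' := (-t))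
      (k'' := (1, false)) (l'' := (3, true)) (t'' := (-t)) (by decide) (by decide) (by decide) fun x y z => by
        simp [tri_eq, ev, CfsgLib.AutPOmega.hypIdx, CfsgLib.AutPOmega.opp]; ring⟩
  · exact ⟨t, t, rel_rootE (k := (0, false)) (l := (2, false)) (t := t) (k' := (0, false)) (l' := (2, false)) (t' := t)
      (k'' := (0, false)) (l'' := (2, false)) (t'' := t) (by decide) (by decide) (by decide) fun x y z => by
        simp [tri_eq, ev, CfsgLib.AutPOmega.hypIdx, CfsgLib.AutPOmega.opp]; ring⟩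
  · exact ⟨t, t, rel_rootE (k := (0, false)) (l := (3, true)) (t := t) (k' := (0, false)) (l' := (3, false)) (t' := t)
      (k'' := (1, false)) (l'' := (2, false)) (t'' := t) (by decide) (by decide) (by decide) fun x y z => by
        simp [tri_eq, ev, CfsgLib.AutPOmega.hypIdx, CfsgLib.AutPOmega.opp]; ring⟩
  · exact ⟨t, t, rel_rootE (k := (0, false)) (l := (3, false)) (t := t) (k' := (1, false)) (l' := (2, false)) (t' := t)
      (k'' := (0, false)) (l'' := (3, true)) (t'' := t) (by decide) (by decide) (by decide) fun x y z => by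
        simp [tri_eq, ev, CfsgLib.AutPOmega.hypIdx, CfsgLib.AutPOmega.opp]; ring⟩
  · exact ⟨t, t, rel_rootE (k := (1, true)) (l := (2, true)) (t := t) (k' := (0, true)) (l' := (3, false)) (t' := t)
      (k'' := (0, true)) (l'' := (3, true)) (t'' := t) (by decide) (by decide) (by decide) fun x y z => by
        simp [tri_eq, ev, CfsgLib.AutPOmega.hypIdx, CfsgLib.AutPOmega.opp]; ring⟩
  · exact ⟨t, t, rel_rootE (k := (1, true)) (l := (2, false)) (t := t) (k' := (1, true)) (l' := (2, false)) (t' := t)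
      (k'' := (1, true)) (l'' := (2, false)) (t'' := t) (by decide) (by decide) (by decide) fun x y z => by
        simp [tri_eq, ev, CfsgLib.AutPOmega.hypIdx, CfsgLib.AutPOmega.opp]; ring⟩
  · exact ⟨t, (-t), rel_rootE (k := (1, true)) (l := (3, true)) (t := t) (k' := (1, true)) (l' := (3, false)) (t' := t)
      (k'' := (0, true)) (l'' := (2, false)) (t'' := (-t)) (by decide) (by decide) (by decide) fun x y z => by
        simp [tri_eq, ev, CfsgLib.AutPOmega.hypIdx, CfsgLib.AutPOmega.opp]; ring⟩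
  · exact ⟨(-t), t, rel_rootE (k := (1, true)) (l := (3, false)) (t := t) (k' := (0, true)) (l' := (2, false)) (t' := (-t))
      (k'' := (1, true)) (l'' := (3, true)) (t'' := t) (by decide) (by decide) (by decide) fun x y z => by
        simp [tri_eq, ev, CfsgLib.AutPOmega.hypIdx, CfsgLib.AutPOmega.opp]; ring⟩
  · exact ⟨t, t, rel_rootE (k := (1, false)) (l := (2, true)) (t := t) (k' := (1, false)) (l' := (2, true)) (t' := t)
      (k'' := (1, false)) (l'' := (2, true)) (t'' := t) (by decide) (by decide) (by decide) fun x y z => by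
        simp [tri_eq, ev, CfsgLib.AutPOmega.hypIdx, CfsgLib.AutPOmega.opp]; ring⟩
  · exact ⟨t, t, rel_rootE (k := (1, false)) (l := (2, false)) (t := t) (k' := (0, false)) (l' := (3, true)) (t' := t)
      (k'' := (0, false)) (l'' := (3, false)) (t'' := t) (by decide) (by decide) (by decide) fun x y z => by
        simp [tri_eq, ev, CfsgLib.AutPOmega.hypIdx, CfsgLib.AutPOmega.opp]; ring⟩
  · exact ⟨(-t), t, rel_rootE (k := (1, false)) (l := (3, true)) (t := t) (k' := (0, false)) (l' := (2, true)) (t' := (-t))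
      (k'' := (1, false)) (l'' := (3, false)) (t'' := t) (by decide) (by decide) (by decide) fun x y z => by
        simp [tri_eq, ev, CfsgLib.AutPOmega.hypIdx, CfsgLib.AutPOmega.opp]; ring⟩
  · exact ⟨t, (-t), rel_rootE (k := (1, false)) (l := (3, false)) (t := t) (k' := (1, false)) (l' := (3, true)) (t' := t)
      (k'' := (0, false)) (l'' := (2, true)) (t'' := (-t)) (by decide) (by decide) (by decide) fun x y z => by
        simp [tri_eq, ev, CfsgLib.AutPOmega.hypIdx, CfsgLib.AutPOmega.opp]; ring⟩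
  · exact ⟨t, t, rel_rootE (k := (2, true)) (l := (3, true)) (t := t) (k' := (2, true)) (l' := (3, false)) (t' := t)
      (k'' := (0, true)) (l'' := (1, false)) (t'' := t) (by decide) (by decide) (by decide) fun x y z => by
        simp [tri_eq, ev, CfsgLib.AutPOmega.hypIdx, CfsgLib.AutPOmega.opp]; ring⟩
  · exact ⟨t, t, rel_rootE (k := (2, true)) (l := (3, false)) (t := t) (k' := (0, true)) (l' := (1, false)) (t' := t)
      (k'' := (2, true)) (l'' := (3, true)) (t'' := t) (by decide) (by decide) (by decide) fun x y z => by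
        simp [tri_eq, ev, CfsgLib.AutPOmega.hypIdx, CfsgLib.AutPOmega.opp]; ring⟩
  · exact ⟨t, t, rel_rootE (k := (2, false)) (l := (3, true)) (t := t) (k' := (0, false)) (l' := (1, true)) (t' := t)
      (k'' := (2, false)) (l'' := (3, false)) (t'' := t) (by decide) (by decide) (by decide) fun x y z => by
        simp [tri_eq, ev, CfsgLib.AutPOmega.hypIdx, CfsgLib.AutPOmega.opp]; ring⟩
  · exact ⟨t, t, rel_rootE (k := (2, false)) (l := (3, false)) (t := t) (k' := (2, false)) (l' := (3, true)) (t' := t)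
      (k'' := (0, false)) (l'' := (1, true)) (t'' := t) (by decide) (by decide) (by decide) fun x y z => by
        simp [tri_eq, ev, CfsgLib.AutPOmega.hypIdx, CfsgLib.AutPOmega.opp]; ring⟩

theorem gen_table (i j : Fin 4) (b c : Bool) (hij : i < j) (t : F) : ∃ g h : O (plusQ 4 F),
    g ∈ Cfsg.Omega F ⇑(plusQ 4 F) ∧ h ∈ Cfsg.Omega F ⇑(plusQ 4 F) ∧ Rel (rootE (i, b) (j, c) t) g h := by
  obtain ⟨n, hn⟩ := exists_root i j b c hij
  obtain ⟨s, s', e⟩ := rel_root n t
  rw [hn] at e
  exact ⟨_, _, rootE_mem _ _ _, rootE_mem _ _ _, e⟩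

/-! ### The automorphism -/

/-- The members of related triples in `Ω`. -/
def partners (F : Type*) [Field F] [Fintype F] : Subgroup (O (plusQ 4 F)) where
  carrier := {f | f ∈ Cfsg.Omega F ⇑(plusQ 4 F) ∧ ∃ g h : O (plusQ 4 F),
    g ∈ Cfsg.Omega F ⇑(plusQ 4 F) ∧ h ∈ Cfsg.Omega F ⇑(plusQ 4 F) ∧ Rel f g h}
  one_mem' := ⟨one_mem _, 1, 1, one_mem _, one_mem _, Rel.one⟩
  mul_mem' := by
    rintro a b ⟨ha, g, h, hg, hh, e⟩ ⟨hb, g', h', hg', hh', e'⟩
    exact ⟨mul_mem ha hb, g * g', h * h', mul_mem hg hg', mul_mem hh hh', e.mul e'⟩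
  inv_mem' := by
    rintro a ⟨ha, g, h, hg, hh, e⟩
    exact ⟨inv_mem ha, g⁻¹, h⁻¹, inv_mem hg, inv_mem hh, e.inv⟩

theorem rootE_swap (k l : Fin 4 × Bool) (h : k.1 ≠ l.1) (t : F) : rootE k l t = rootE l k (-t) :=
  ext_app fun x => by
    rw [app_rootE k l h, app_rootE l k (Ne.symm h)]
    module

theorem rootE_mem_partners {k l : Fin 4 × Bool} (h : k.1 ≠ l.1) (t : F) :
    rootE k l t ∈ partners F := by
  obtain ⟨i, b⟩ := k; obtain ⟨j, c⟩ := l
  rcases lt_or_gt_of_ne h with h' | h'
  · exact ⟨rootE_mem _ _ _, gen_table i j b c h' t⟩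
  · rw [rootE_swap _ _ h]
    exact ⟨rootE_mem _ _ _, gen_table j i c b h' (-t)⟩

theorem omega_le_partners : Cfsg.Omega F ⇑(plusQ 4 F) ≤ partners F := by
  refine le_trans (S4 F).omega_le_closure ((Subgroup.closure_le _).2 ?_)
  rintro _ ⟨k, a, ha, rfl⟩
  rw [S4_x] at ha ⊢
  have hperp : (S4 F).proj a = 0 := by
    funext j
    rcases j with i | i
    · have := (S4 F).perp_proj a (i, false)
      simpa [S4_x, ev, polar_plusQ, CfsgLib.AutPOmega.hypIdx, Pi.single_apply] using this
    · have := (S4 F).perp_proj a (i, true)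
      simpa [S4_x, ev, polar_plusQ, CfsgLib.AutPOmega.hypIdx, Pi.single_apply] using this
  have hdec := (S4 F).decomp a
  rw [hperp, zero_add] at hdec
  simp only [S4_x] at hdec
  have key : ∀ s : Finset (Fin 4 × Bool),
      polar (plusQ 4 F) (ev k) (∑ l ∈ s, polar (plusQ 4 F) a (ev (CfsgLib.AutPOmega.opp l)) • ev l) = 0 ∧
      eich (plusQ 4 F) (ev k) (∑ l ∈ s, polar (plusQ 4 F) a (ev (CfsgLib.AutPOmega.opp l)) • ev l) ∈
        partners F := by
    intro s
    have hs : plusQ 4 F (ev k) = 0 := (S4 F).sing k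
    induction s using Finset.induction with
    | empty =>
      rw [Finset.sum_empty]
      exact ⟨polar_zero_right _ _, by rw [CfsgLib.AutPOmega.eich_zero_right hs]; exact one_mem _⟩
    | insert l s hl ih =>
      rw [Finset.sum_insert hl]
      rcases eq_or_ne l (CfsgLib.AutPOmega.opp k) with hlk | hlk
      · rw [hlk, CfsgLib.AutPOmega.opp_opp, polar_comm (f := ⇑(plusQ 4 F)) a, ha, zero_smul, zero_add]
        exact ih
      have e : polar (plusQ 4 F) (ev k) (polar (plusQ 4 F) a (ev (CfsgLib.AutPOmega.opp l)) • ev l) = 0 := by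
        rw [polar_smul_right, show polar (plusQ 4 F) (ev k) (ev l) = 0 from (S4 F).pair_ne hlk, smul_zero]
      refine ⟨by rw [polar_add_right, e, ih.1, add_zero], ?_⟩
      rw [← eich_add hs e ih.1]
      refine mul_mem ?_ ih.2
      by_cases h1 : k.1 = l.1
      · rcases CfsgLib.AutPOmega.eq_or_opp h1.symm with h2 | h2
        · rw [h2, CfsgLib.Orth.eich_smul_self hs]; exact one_mem _
        · exact absurd h2 hlk
      · exact rootE_mem_partners h1 _
  rw [hdec]
  exact (key Finset.univ).2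

/-- `PΩ⁺₈` -/
abbrev PG4 (F : Type*) [Field F] := Cfsg.POmega F ⇑(plusQ 4 F)

theorem mk_eq_one_of_sign {g : O (plusQ 4 F)} (hg : g ∈ Cfsg.Omega F ⇑(plusQ 4 F)) (h : IsSign g) :
    (QuotientGroup.mk (⟨g, hg⟩ : ↥(Cfsg.Omega F ⇑(plusQ 4 F))) : PG4 F) = 1 := by
  obtain ⟨l, -, hl⟩ := h
  rw [QuotientGroup.eq_one_iff, Subgroup.mem_center_iff]
  intro t
  refine Subtype.ext (ext_app fun x => ?_)
  show app ((t : O (plusQ 4 F)) * g) x = app (g * (t : O (plusQ 4 F))) x
  rw [app_mul, app_mul, hl, hl, map_smul]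

theorem sign_of_mk_eq_one {s : ↥(Cfsg.Omega F ⇑(plusQ 4 F))} (h : (QuotientGroup.mk s : PG4 F) = 1) :
    IsSign (s : O (plusQ 4 F)) := by
  rw [QuotientGroup.eq_one_iff] at h
  obtain ⟨c, -, hc, hv⟩ := (S4 F).center_scalar h
  exact ⟨c, hc, hv⟩

/-- the related triples in `Ω` -/
def triples (F : Type*) [Field F] [Fintype F] :
    Subgroup (↥(Cfsg.Omega F ⇑(plusQ 4 F)) × ↥(Cfsg.Omega F ⇑(plusQ 4 F)) × ↥(Cfsg.Omega F ⇑(plusQ 4 F))) where
  carrier := {p | Rel (p.1 : O (plusQ 4 F)) p.2.1 p.2.2}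
  one_mem' := Rel.one
  mul_mem' e e' := e.mul e'
  inv_mem' e := e.inv

/-- the first member, in `PΩ` -/
noncomputable def fstMap (F : Type*) [Field F] [Fintype F] : ↥(triples F) →* PG4 F :=
  (QuotientGroup.mk' _).comp ((MonoidHom.fst _ _).comp (triples F).subtype)

/-- the second member, in `PΩ` -/
noncomputable def sndMap (F : Type*) [Field F] [Fintype F] : ↥(triples F) →* PG4 F :=
  (QuotientGroup.mk' _).comp ((MonoidHom.fst _ _).comp ((MonoidHom.snd _ _).comp (triples F).subtype))

theorem fstMap_surjective : Function.Surjective (fstMap F) := fun y => by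
  obtain ⟨s, rfl⟩ := QuotientGroup.mk_surjective y
  obtain ⟨-, g, h, hg, hh, e⟩ := omega_le_partners s.2
  exact ⟨⟨(s, ⟨g, hg⟩, ⟨h, hh⟩), e⟩, rfl⟩

theorem fstMap_ker_le : (fstMap F).ker ≤ (sndMap F).ker := by
  rintro ⟨⟨f, g, h⟩, e⟩ hp
  obtain ⟨l, hl, hf⟩ := sign_of_mk_eq_one (MonoidHom.mem_ker.1 hp)
  exact mk_eq_one_of_sign g.2 (rel_sign_left e hl hf).1

/-- triality as an endomorphism -/
noncomputable def triHom (F : Type*) [Field F] [Fintype F] : PG4 F →* PG4 F :=
  (fstMap F).liftOfSurjective fstMap_surjective ⟨sndMap F, fstMap_ker_le⟩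

theorem triHom_spec {f g h : ↥(Cfsg.Omega F ⇑(plusQ 4 F))} (e : Rel (f : O (plusQ 4 F)) g h) :
    triHom F (QuotientGroup.mk f) = QuotientGroup.mk g :=
  MonoidHom.liftOfRightInverse_comp_apply (fstMap F) _ _ ⟨sndMap F, fstMap_ker_le⟩ ⟨(f, g, h), e⟩

theorem exists_triple (y : PG4 F) : ∃ f g h : ↥(Cfsg.Omega F ⇑(plusQ 4 F)),
    Rel (f : O (plusQ 4 F)) g h ∧ QuotientGroup.mk f = y := by
  obtain ⟨⟨⟨f, g, h⟩, e⟩, hy⟩ := fstMap_surjective y
  exact ⟨f, g, h, e, hy⟩

theorem triHom_three (y : PG4 F) : triHom F (triHom F (triHom F y)) = y := by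
  obtain ⟨f, g, h, e, rfl⟩ := exists_triple y
  rw [triHom_spec e, triHom_spec e.cycle, triHom_spec e.cycle.cycle]

/-- the triality automorphism -/
noncomputable def triality (F : Type*) [Field F] [Fintype F] : MulAut (PG4 F) where
  toFun := triHom F
  invFun y := triHom F (triHom F y)
  left_inv := triHom_three
  right_inv := triHom_three
  map_mul' := map_mul _

theorem triality_spec {f g h : ↥(Cfsg.Omega F ⇑(plusQ 4 F))} (e : Rel (f : O (plusQ 4 F)) g h) :
    triality F (QuotientGroup.mk f) = QuotientGroup.mk g := triHom_spec e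

theorem triality_pow_three : triality F ^ 3 = 1 := MulEquiv.ext fun y => by
  show triHom F (triHom F (triHom F y)) = y
  exact triHom_three y

/-! ### Semisimilarities compatible with triality -/

theorem semi_surjective (x : GLS I F) (v : I → F) : ∃ u, semi x u = v := ⟨_, semi_semi_inv x v⟩

/-- If three semisimilarities scale the form, triality carries the first to the second. -/
theorem triality_intertwine {P₁ P₂ P₃ : ↥(semiGroup (plusQ 4 F))} {c : F} {σ : F ≃+* F}
    (e : ∀ x y z, tri (semi P₁.1 x) (semi P₂.1 y) (semi P₃.1 z) = c * σ (tri x y z)) :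
    triality F * gAut _ P₁ = gAut _ P₂ * triality F := by
  refine MulEquiv.ext fun w => ?_
  obtain ⟨f, g, h, r, rfl⟩ := exists_triple w
  have r' : Rel (conjO _ P₁ f) (conjO _ P₂ g) (conjO _ P₃ h) := fun x y z => by
    obtain ⟨x, rfl⟩ := semi_surjective P₁.1 x
    obtain ⟨y, rfl⟩ := semi_surjective P₂.1 y
    obtain ⟨z, rfl⟩ := semi_surjective P₃.1 z
    rw [semi_app_conj, semi_app_conj, semi_app_conj, e, r, e]
  rw [MulAut.mul_apply, MulAut.mul_apply, gAut_mk, triality_spec r, gAut_mk]
  exact triality_spec (f := commAut _ (conjO _ P₁) f) (g := commAut _ (conjO _ P₂) g)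
    (h := commAut _ (conjO _ P₃) h) r'

/-- If a semisimilarity scales the form and exchanges the last two arguments, it inverts triality. -/
theorem triality_inverting {P : ↥(semiGroup (plusQ 4 F))} {c : F} {σ : F ≃+* F}
    (e : ∀ x y z, tri (semi P.1 x) (semi P.1 z) (semi P.1 y) = c * σ (tri x y z)) :
    triality F * gAut _ P = gAut _ P * (triality F * triality F) := by
  refine MulEquiv.ext fun w => ?_
  obtain ⟨f, g, h, r, rfl⟩ := exists_triple w
  have r' : Rel (conjO _ P f) (conjO _ P h) (conjO _ P g) := fun x y z => by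
    obtain ⟨x, rfl⟩ := semi_surjective P.1 x
    obtain ⟨y, rfl⟩ := semi_surjective P.1 y
    obtain ⟨z, rfl⟩ := semi_surjective P.1 z
    rw [semi_app_conj, semi_app_conj, semi_app_conj, e, r, e]
  rw [MulAut.mul_apply, MulAut.mul_apply, MulAut.mul_apply, gAut_mk, triality_spec r, triality_spec r.cycle,
    gAut_mk]
  exact triality_spec (f := commAut _ (conjO _ P) f) (g := commAut _ (conjO _ P) h)
    (h := commAut _ (conjO _ P) g) r'

end Cfsg.Agent.Triality57
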