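import Mathlib

/-!
`-1` as a power in a finite field of odd order.
-/

set_option autoImplicit false

namespace Cfsg.Agent.TwoPower57

variable {F : Type*} [Field F] [Fintype F] {q : ℕ}

theorem exists_eq_two_pow_mul_odd {n : ℕ} (hn : n ≠ 0) :
    ∃ r, Odd r ∧ n = 2 ^ padicValNat 2 n * r := by
  obtain ⟨r, hr⟩ := (pow_padicValNat_dvd : 2 ^ padicValNat 2 n ∣ n)
  refine ⟨r, ?_, hr⟩
  by_contra h
  rw [Nat.not_odd_iff_even, even_iff_two_dvd] at h
  apply pow_succ_padicValNat_not_dvd (p := 2) hn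
  obtain ⟨s, hs⟩ := h
  exact ⟨s, by rw [pow_succ, mul_assoc, ← hs, ← hr]⟩

theorem neg_one_ne_one (hF : Fintype.card F = q) (hq : Odd q) : (-1 : F) ≠ 1 := by
  apply Ring.neg_one_ne_one_of_char_ne_two
  intro h
  have h2 := FiniteField.even_card_of_char_two h
  rw [hF, ← Nat.even_iff] at h2
  exact (Nat.not_even_iff_odd.2 hq) h2

theorem exists_pow_eq_neg_one_iff (hF : Fintype.card F = q) (hq : Odd q) {n : ℕ} (hn : n ≠ 0) :
    (∃ c : F, c ^ n = -1) ↔ padicValNat 2 n < padicValNat 2 (q - 1) := by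
  have h1 := neg_one_ne_one hF hq
  have hq2 : 2 ≤ q := hF ▸ Fintype.one_lt_card
  obtain ⟨r, hr, hnr⟩ := exists_eq_two_pow_mul_odd hn
  constructor
  · rintro ⟨c, hc⟩
    have hc0 : c ≠ 0 := by
      rintro rfl
      rw [zero_pow hn] at hc
      exact one_ne_zero (neg_eq_zero.1 hc.symm)
    have ho : orderOf (c ^ r) = 2 ^ (padicValNat 2 n + 1) := by
      refine orderOf_eq_prime_pow ?_ ?_
      · rw [← pow_mul, mul_comm, ← hnr, hc]
        exact h1
      · rw [← pow_mul, pow_succ, ← mul_assoc, mul_comm r, ← hnr, pow_mul, hc, neg_one_sq]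
    have hd : 2 ^ (padicValNat 2 n + 1) ∣ q - 1 := by
      rw [← ho, ← hF]
      exact orderOf_dvd_of_pow_eq_one (FiniteField.pow_card_sub_one_eq_one _ (pow_ne_zero _ hc0))
    exact Nat.succ_le_iff.1 ((padicValNat_dvd_iff_le (p := 2) (by omega)).1 hd)
  · intro hlt
    have hd : 2 ^ (padicValNat 2 n + 1) ∣ Nat.card Fˣ := by
      rw [Nat.card_units, Nat.card_eq_fintype_card, hF]
      exact (pow_dvd_pow 2 (Nat.succ_le_iff.2 hlt)).trans pow_padicValNat_dvd
    obtain ⟨g, hg⟩ := IsCyclic.exists_ofOrder_eq_natCard (α := Fˣ)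
    obtain ⟨d, hd⟩ := hd
    have hpos : 0 < Nat.card Fˣ := Nat.card_pos
    have ho : orderOf ((g ^ d : Fˣ) : F) = 2 ^ (padicValNat 2 n + 1) := by
      have hd0 : d ≠ 0 := by rintro rfl; omega
      rw [orderOf_units, orderOf_pow' g hd0, hg,
        Nat.gcd_eq_right (Dvd.intro_left _ hd.symm), hd, Nat.mul_div_cancel _ (Nat.pos_of_ne_zero hd0)]
    refine ⟨((g ^ d : Fˣ) : F), ?_⟩
    have h2 : (((g ^ d : Fˣ) : F) ^ (2 ^ padicValNat 2 n)) ^ 2 = 1 := by
      rw [← pow_mul, ← pow_succ, ← ho, pow_orderOf_eq_one]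
    rw [sq_eq_one_iff] at h2
    rcases h2 with h2 | h2
    · have := orderOf_dvd_of_pow_eq_one h2
      rw [ho, Nat.pow_dvd_pow_iff_le_right (by norm_num)] at this
      omega
    · rw [hnr, pow_mul, h2, hr.neg_one_pow]

theorem neg_one_pow_half (hF : Fintype.card F = q) (hq : Odd q) {μ : F}
    (hμ : orderOf μ = 2 ^ padicValNat 2 (q - 1)) : μ ^ ((q - 1) / 2) = -1 := by
  have hq2 : 3 ≤ q := by
    have : 2 ≤ q := hF ▸ Fintype.one_lt_card
    rcases hq with ⟨k, rfl⟩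
    omega
  have hμ0 : μ ≠ 0 := by
    rintro rfl
    rw [orderOf_zero] at hμ
    exact (pow_ne_zero _ two_ne_zero) hμ.symm
  have h2 : (μ ^ ((q - 1) / 2)) ^ 2 = 1 := by
    rw [← pow_mul, Nat.div_mul_cancel (by obtain ⟨k, rfl⟩ := hq; exact ⟨k, by omega⟩), ← hF]
    exact FiniteField.pow_card_sub_one_eq_one _ hμ0
  rw [sq_eq_one_iff] at h2
  refine h2.resolve_left fun h => ?_
  have hd := orderOf_dvd_of_pow_eq_one h
  rw [hμ] at hd
  have : 2 ^ (padicValNat 2 (q - 1) + 1) ∣ q - 1 := by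
    obtain ⟨s, hs⟩ := hd
    refine ⟨s, ?_⟩
    obtain ⟨k, rfl⟩ := hq
    rw [pow_succ, mul_assoc, mul_left_comm, ← hs]
    omega
  exact pow_succ_padicValNat_not_dvd (by omega) this

end Cfsg.Agent.TwoPower57
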