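import Cfsg.Agent.Helper57NilpJordan

/-!
Unipotent classes of `GL_n` by rank profile.
-/

set_option autoImplicit false
set_option linter.unusedSectionVars false

namespace Cfsg.Agent.Jordan57

open Module CfsgLib.RankProfile

variable {F : Type*} [Field F] {n : ℕ}

/-- `g - 1` as an endomorphism. -/
noncomputable def nilPart (g : GL (Fin n) F) : End F (Fin n → F) :=
  Matrix.mulVecLin ((g : Matrix (Fin n) (Fin n) F) - 1)

theorem nilPart_pow (g : GL (Fin n) F) (k : ℕ) :
    nilPart g ^ k = Matrix.mulVecLin (((g : Matrix (Fin n) (Fin n) F) - 1) ^ k) :=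
  (map_pow (Matrix.toLinAlgEquiv' (R := F) (n := Fin n)).toAlgHom _ k).symm

theorem nilPart_conj (g c : GL (Fin n) F) :
    ∀ k, finrank F (LinearMap.range (nilPart (c * g * c⁻¹) ^ k)) = finrank F (LinearMap.range (nilPart g ^ k)) := by
  intro k
  have h : (((c * g * c⁻¹ : GL (Fin n) F) : Matrix (Fin n) (Fin n) F) - 1) ^ k
      = (c : Matrix (Fin n) (Fin n) F) * ((g : Matrix (Fin n) (Fin n) F) - 1) ^ k * ((c⁻¹ : GL (Fin n) F) : Matrix (Fin n) (Fin n) F) := by
    rw [← Units.conj_pow]
    simp only [Units.val_mul, mul_sub, sub_mul, mul_one]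
    rw [← Units.val_mul c c⁻¹, mul_inv_cancel, Units.val_one]
  rw [nilPart_pow, nilPart_pow, h]
  show Matrix.rank _ = Matrix.rank _
  rw [Matrix.rank_mul_eq_left_of_isUnit_det _ _ ((Matrix.isUnit_iff_isUnit_det _).1 (c⁻¹).isUnit),
    Matrix.rank_mul_eq_right_of_isUnit_det _ _ ((Matrix.isUnit_iff_isUnit_det _).1 c.isUnit)]

theorem isConj_of_profile {g h : GL (Fin n) F} (hg : IsNilpotent (nilPart g)) (hh : IsNilpotent (nilPart h))
    (e : ∀ k, finrank F (LinearMap.range (nilPart g ^ k)) = finrank F (LinearMap.range (nilPart h ^ k))) :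
    IsConj g h := by
  obtain ⟨T, hT⟩ := conj_of_profile hg hh e
  have hM : IsUnit (LinearMap.toMatrix' T.toLinearMap) := by
    rw [← Matrix.mulVec_injective_iff_isUnit]
    intro x y hxy
    apply T.injective
    simpa [LinearMap.toMatrix'_mulVec] using hxy
  have h1 := congrArg LinearMap.toMatrix' hT
  rw [LinearMap.toMatrix'_comp, LinearMap.toMatrix'_comp, nilPart, nilPart, ← Matrix.toLin'_apply',
    ← Matrix.toLin'_apply', LinearMap.toMatrix'_toLin', LinearMap.toMatrix'_toLin', mul_sub, sub_mul,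
    mul_one, one_mul, sub_left_inj] at h1
  refine isConj_iff.2 ⟨hM.unit, ?_⟩
  rw [mul_inv_eq_iff_eq_mul]
  exact Units.ext h1

/-- A unipotent element with prescribed partition. -/
theorem exists_unip_of_parts (μ : Multiset ℕ) (hn : μ.sum = n) :
    ∃ g : GL (Fin n) F, IsNilpotent (nilPart g) ∧
      ∀ k, finrank F (LinearMap.range (nilPart g ^ k)) = partProfile μ k := by
  obtain ⟨N, hN⟩ := exists_end_of_partition (F := F) μ hn
  have hN' : ∀ k, finrank F (LinearMap.range (N ^ k)) = partProfile μ k := fun k => by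
    rw [← imDim_top, hN]
  have hnil : IsNilpotent N := by
    refine ⟨n, LinearMap.range_eq_bot.1 (Submodule.finrank_eq_zero.1 ?_)⟩
    rw [hN', partProfile_eq_zero (fun a ha => hn ▸ Multiset.le_sum_of_mem ha)]
  have hu : IsUnit (1 + LinearMap.toMatrix' N) := by
    refine IsNilpotent.isUnit_one_add ?_
    exact hnil.map (LinearMap.toMatrixAlgEquiv' (R := F) (n := Fin n))
  have e : nilPart hu.unit = N := by
    rw [nilPart, IsUnit.unit_spec, add_sub_cancel_left, ← Matrix.toLin'_apply', Matrix.toLin'_toMatrix']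
  exact ⟨hu.unit, by rw [e]; exact hnil, fun k => by rw [e, hN']⟩

theorem partProfile_eq_zero_iff {μ : Multiset ℕ} {k : ℕ} : partProfile μ k = 0 ↔ ∀ a ∈ μ, a ≤ k := by
  refine ⟨fun h a ha => ?_, partProfile_eq_zero⟩
  have := Multiset.le_sum_of_mem (Multiset.mem_map_of_mem (fun a => a - k) ha)
  rw [show (μ.map fun a => a - k).sum = partProfile μ k from rfl, h] at this
  omega

theorem pow_eq_one_iff_nilPart {p : ℕ} [Fact p.Prime] [CharP F p] (g : GL (Fin n) F) :
    g ^ p = 1 ↔ nilPart g ^ p = 0 := by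
  rcases Nat.eq_zero_or_pos n with h0 | h0
  · subst h0
    exact ⟨fun _ => LinearMap.ext fun x => Subsingleton.elim _ _, fun _ => Subsingleton.elim _ _⟩
  haveI : NeZero n := ⟨h0.ne'⟩
  haveI : CharP (Matrix (Fin n) (Fin n) F) p := charP_of_injective_algebraMap (algebraMap F _).injective p
  rw [nilPart_pow, ← Matrix.toLin'_apply', LinearEquiv.map_eq_zero_iff,
    sub_pow_char_of_commute p (Commute.one_right _), one_pow, sub_eq_zero, Units.ext_iff,
    Units.val_pow_eq_pow_val, Units.val_one]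

theorem nilPart_eq_zero_iff (g : GL (Fin n) F) : nilPart g = 0 ↔ g = 1 := by
  rw [nilPart, ← Matrix.toLin'_apply', LinearEquiv.map_eq_zero_iff, sub_eq_zero, Units.ext_iff,
    Units.val_one]

end Cfsg.Agent.Jordan57
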