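import Cfsg.Agent.Lib.IsomConj.Unitary
import Cfsg.Agent.Lib.AutPSL.Hermitian

/-!
A matrix similar to its inverse conjugate transpose is similar to a unitary matrix.
-/

set_option autoImplicit false
set_option linter.unusedSectionVars false

namespace Cfsg.Agent.UnitaryConj57

open Matrix CfsgLib.IsomConj CfsgLib.UnitaryEmbed

variable {K : Type*} [Field K] [Fintype K] {q n : ℕ}

theorem exists_idem_pow {R : Type*} [Monoid R] [Finite R] (N : R) :
    ∃ k, 1 ≤ k ∧ N ^ k * N ^ k = N ^ k := by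
  obtain ⟨i, j, hne, he⟩ := Finite.exists_ne_map_eq_of_infinite fun i : ℕ => N ^ i
  wlog hij : i < j generalizing i j
  · exact this j i hne.symm he.symm (by omega)
  obtain ⟨d, rfl⟩ := Nat.exists_eq_add_of_le hij.le
  have hstep : ∀ t, N ^ (i + d * t) = N ^ i := fun t => by
    induction t with
    | zero => simp
    | succ t ih =>
      rw [show i + d * (t + 1) = (i + d * t) + d by ring, pow_add, ih, ← pow_add]
      exact he.symm
  refine ⟨d * (i + 1), Nat.mul_pos (by omega) (by omega), ?_⟩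
  obtain ⟨r, hr⟩ : ∃ r, d * (i + 1) = i + r := ⟨d * (i + 1) - i, by
    have : i + 1 ≤ d * (i + 1) := Nat.le_mul_of_pos_left _ (by omega)
    omega⟩
  rw [← pow_add]
  conv_lhs => rw [show d * (i + 1) + d * (i + 1) = (i + d * (i + 1)) + r by omega, pow_add, hstep, ← pow_add, ← hr]

variable (τ : K →+* K)

/-- conjugate transpose -/
def adj (M : Matrix (Fin n) (Fin n) K) : Matrix (Fin n) (Fin n) K := (M.map τ)ᵀ

theorem adj_mul (a b : Matrix (Fin n) (Fin n) K) : adj τ (a * b) = adj τ b * adj τ a := by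
  show ((a * b).map τ)ᵀ = (b.map τ)ᵀ * (a.map τ)ᵀ
  rw [Matrix.map_mul, transpose_mul]

theorem adj_add (a b : Matrix (Fin n) (Fin n) K) : adj τ (a + b) = adj τ a + adj τ b := by
  ext i j; simp [adj]

theorem adj_sub (a b : Matrix (Fin n) (Fin n) K) : adj τ (a - b) = adj τ a - adj τ b := by
  ext i j; simp [adj]

theorem adj_smul (c : K) (a : Matrix (Fin n) (Fin n) K) : adj τ (c • a) = τ c • adj τ a := by
  ext i j; simp [adj]

theorem adj_one : adj τ (1 : Matrix (Fin n) (Fin n) K) = 1 := by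
  show ((1 : Matrix (Fin n) (Fin n) K).map τ)ᵀ = 1
  rw [Matrix.map_one _ (map_zero τ) (map_one τ), transpose_one]

theorem adj_adj (hττ : ∀ x, τ (τ x) = x) (a : Matrix (Fin n) (Fin n) K) : adj τ (adj τ a) = a := by
  ext i j; exact hττ _

theorem adj_pow (a : Matrix (Fin n) (Fin n) K) (k : ℕ) : adj τ (a ^ k) = adj τ a ^ k := by
  induction k with
  | zero => rw [pow_zero, pow_zero, adj_one]
  | succ k ih => rw [pow_succ, adj_mul, ih, ← pow_succ']

/-- An invariant invertible sesquilinear form gives an invariant invertible Hermitian one. -/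
theorem exists_hermitian (hττ : ∀ x, τ (τ x) = x) (d : K) (hd : τ d ≠ d)
    (A S₀ : Matrix (Fin n) (Fin n) K) (hA : IsUnit A) (hS : IsUnit S₀) (hinv : adj τ A * S₀ * A = S₀) :
    ∃ S : Matrix (Fin n) (Fin n) K, IsUnit S ∧ adj τ S = S ∧ adj τ A * S * A = S := by
  have hd0 : d ≠ 0 := fun h => hd (by rw [h, map_zero])
  have htd0 : τ d ≠ 0 := fun h => hd0 (by rw [← hττ d, h, map_zero])
  obtain ⟨U, rfl⟩ := hS
  have hinv' : adj τ A * adj τ (U : Matrix (Fin n) (Fin n) K) * A = adj τ (U : Matrix (Fin n) (Fin n) K) := by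
    have h := congrArg (adj τ) hinv
    rwa [adj_mul, adj_mul, adj_adj τ hττ, ← mul_assoc] at h
  set T : Matrix (Fin n) (Fin n) K := (↑U⁻¹ : Matrix (Fin n) (Fin n) K) * adj τ (U : Matrix (Fin n) (Fin n) K) with hT
  have hUT : (U : Matrix (Fin n) (Fin n) K) * T = adj τ (U : Matrix (Fin n) (Fin n) K) := by
    rw [hT, ← mul_assoc, Units.mul_inv, one_mul]
  set T' : Matrix (Fin n) (Fin n) K := adj τ (↑U⁻¹ : Matrix (Fin n) (Fin n) K) * (U : Matrix (Fin n) (Fin n) K) with hT'
  have hT'T : T' * T = 1 := by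
    rw [hT', mul_assoc, hUT, ← adj_mul, Units.mul_inv, adj_one]
  have hTT' : T * T' = 1 := mul_eq_one_comm.1 hT'T
  have hTadj : adj τ T * (U : Matrix (Fin n) (Fin n) K) = (U : Matrix (Fin n) (Fin n) K) * T' := by
    rw [hT, adj_mul, adj_adj τ hττ, mul_assoc]
  have hAT : Commute T A := by
    have hAu : IsUnit (adj τ A) := by
      obtain ⟨V, rfl⟩ := hA
      exact IsUnit.of_mul_eq_one (adj τ (↑V⁻¹ : Matrix (Fin n) (Fin n) K)) (by rw [← adj_mul, Units.inv_mul, adj_one])
    show T * A = A * T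
    refine (hAu.mul U.isUnit).mul_left_cancel ?_
    calc adj τ A * (U : Matrix (Fin n) (Fin n) K) * (T * A)
        = adj τ A * ((U : Matrix (Fin n) (Fin n) K) * T) * A := by simp only [mul_assoc]
      _ = adj τ (U : Matrix (Fin n) (Fin n) K) := by rw [hUT, hinv']
      _ = adj τ A * (U : Matrix (Fin n) (Fin n) K) * A * T := by rw [hinv, hUT]
      _ = _ := by simp only [mul_assoc]
  obtain ⟨k, hk1, hk⟩ := exists_idem_pow (T + 1)
  set N := T + 1 with hN
  set e := N ^ k with he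
  have hNadj : adj τ N * (U : Matrix (Fin n) (Fin n) K) = (U : Matrix (Fin n) (Fin n) K) * (T' * N) := by
    rw [hN, adj_add, adj_one, add_mul, one_mul, hTadj, mul_add T', hT'T, mul_one, mul_add, mul_one, add_comm]
  have hcT : Commute T N := (Commute.refl T).add_right (Commute.one_right T)
  have hcT' : Commute T' N := (show Commute T' T from hT'T.trans hTT'.symm).add_right (Commute.one_right T')
  have headj : adj τ e * (U : Matrix (Fin n) (Fin n) K) = (U : Matrix (Fin n) (Fin n) K) * e := by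
    have h1 : adj τ e * (U : Matrix (Fin n) (Fin n) K) = (U : Matrix (Fin n) (Fin n) K) * (T' ^ k * e) := by
      rw [he, adj_pow, ← hcT'.mul_pow]
      exact (SemiconjBy.pow_right (show SemiconjBy (U : Matrix (Fin n) (Fin n) K) (T' * N) (adj τ N) from hNadj.symm) k).eq.symm
    have hce : Commute (T' ^ k) e := hcT'.pow_pow k k
    have hid : (U : Matrix (Fin n) (Fin n) K) * (T' ^ k * e * (T' ^ k * e)) =
        (U : Matrix (Fin n) (Fin n) K) * (T' ^ k * e) := by
      rw [← mul_assoc, ← h1, mul_assoc, ← h1, ← mul_assoc, ← adj_mul, hk]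
    have hid2 := U.isUnit.mul_left_cancel hid
    rw [← mul_assoc, mul_assoc (T' ^ k) e, ← hce.eq, ← mul_assoc, mul_assoc _ e e, hk, mul_assoc] at hid2
    have hu : IsUnit (T' ^ k) := (IsUnit.of_mul_eq_one T hT'T).pow k
    rw [h1, hu.mul_left_cancel hid2]
  set X₁ := d • (1 : Matrix (Fin n) (Fin n) K) + τ d • T with hX₁
  set X := (1 - e) * X₁ + e * N with hX
  have hce : Commute e T := (hcT.pow_right k).symm
  have hcN : Commute e N := (Commute.refl N).pow_left k
  have hcX₁ : Commute e X₁ := ((Commute.one_right e).smul_right d).add_right (hce.smul_right (τ d))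
  refine ⟨(U : Matrix (Fin n) (Fin n) K) * X, U.isUnit.mul ?_, ?_, ?_⟩
  · rw [← Matrix.mulVec_injective_iff_isUnit]
    intro v w hvw
    rw [← sub_eq_zero]
    set z := v - w with hz
    have hz0 : X *ᵥ z = 0 := by
      rw [hz, mulVec_sub]
      exact sub_eq_zero.2 hvw
    have heN : (e * X) *ᵥ z = 0 := by rw [← mulVec_mulVec, hz0, mulVec_zero]
    have heX : e * X = e * N := by
      rw [hX, mul_add, ← mul_assoc, ← mul_assoc, mul_sub, mul_one, hk, sub_self, zero_mul, zero_add]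
    have hfX : (1 - e) * X = (1 - e) * X₁ := by
      rw [hX, mul_add, ← mul_assoc, ← mul_assoc, sub_mul 1 e e, one_mul, hk, sub_self, zero_mul, add_zero]
      congr 1
      simp only [sub_mul, mul_sub, one_mul, mul_one, hk, sub_self, sub_zero]
    rw [heX] at heN
    have hez : e *ᵥ z = 0 := by
      obtain ⟨j, hj⟩ : ∃ j, k = j + 1 := ⟨k - 1, by omega⟩
      have h : e * e = N ^ j * (e * N) := by
        rw [hcN.eq, ← mul_assoc, ← pow_succ, ← hj]
      rw [← hk, h, ← mulVec_mulVec, heN, mulVec_zero]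
    have hf : X₁ *ᵥ z = 0 := by
      have h : ((1 - e) * X) *ᵥ z = 0 := by rw [← mulVec_mulVec, hz0, mulVec_zero]
      rw [hfX, sub_mul, one_mul, sub_mulVec, hcX₁.eq, ← mulVec_mulVec z X₁ e, hez, mulVec_zero, sub_zero] at h
      exact h
    have hNz : N *ᵥ z = ((τ d)⁻¹ * (τ d - d)) • z := by
      rw [hX₁, add_mulVec, smul_mulVec, smul_mulVec, one_mulVec] at hf
      have hTz : T *ᵥ z = -((τ d)⁻¹ * d) • z := by
        have h := congrArg ((τ d)⁻¹ • ·) hf
        simp only [smul_add, smul_smul, inv_mul_cancel₀ htd0, one_smul, smul_zero] at h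
        rw [neg_smul]
        exact eq_neg_of_add_eq_zero_right h
      rw [hN, add_mulVec, one_mulVec, hTz, mul_sub, inv_mul_cancel₀ htd0, sub_smul, one_smul, neg_smul]
      abel
    have hpow : ∀ j, N ^ j *ᵥ z = ((τ d)⁻¹ * (τ d - d)) ^ j • z := fun j => by
      induction j with
      | zero => rw [pow_zero, pow_zero, one_mulVec, one_smul]
      | succ j ih => rw [pow_succ, ← mulVec_mulVec, hNz, mulVec_smul, ih, smul_smul, ← pow_succ']
    have h0 := hpow k
    rw [← he, hez] at h0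
    exact (smul_eq_zero.1 h0.symm).resolve_left
      (pow_ne_zero _ (mul_ne_zero (inv_ne_zero htd0) (sub_ne_zero.2 hd)))
  · have hM : adj τ (d • (U : Matrix (Fin n) (Fin n) K) + τ d • adj τ (U : Matrix (Fin n) (Fin n) K)) =
        d • (U : Matrix (Fin n) (Fin n) K) + τ d • adj τ (U : Matrix (Fin n) (Fin n) K) := by
      rw [adj_add, adj_smul, adj_smul, adj_adj τ hττ, hττ, add_comm]
    have hM' : adj τ ((U : Matrix (Fin n) (Fin n) K) + adj τ (U : Matrix (Fin n) (Fin n) K)) =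
        (U : Matrix (Fin n) (Fin n) K) + adj τ (U : Matrix (Fin n) (Fin n) K) := by
      rw [adj_add, adj_adj τ hττ, add_comm]
    have e1 : (U : Matrix (Fin n) (Fin n) K) * X₁ =
        d • (U : Matrix (Fin n) (Fin n) K) + τ d • adj τ (U : Matrix (Fin n) (Fin n) K) := by
      rw [hX₁, mul_add, mul_smul_comm, mul_smul_comm, mul_one, hUT]
    have e2 : (U : Matrix (Fin n) (Fin n) K) * N =
        (U : Matrix (Fin n) (Fin n) K) + adj τ (U : Matrix (Fin n) (Fin n) K) := by
      rw [hN, mul_add, mul_one, hUT, add_comm]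
    have hfadj : adj τ (1 - e) * (U : Matrix (Fin n) (Fin n) K) = (U : Matrix (Fin n) (Fin n) K) * (1 - e) := by
      rw [adj_sub, adj_one, sub_mul, one_mul, headj, mul_sub, mul_one]
    have key : ∀ (f Y : Matrix (Fin n) (Fin n) K), adj τ f * (U : Matrix (Fin n) (Fin n) K) = (U : Matrix (Fin n) (Fin n) K) * f →
        Commute f Y → adj τ ((U : Matrix (Fin n) (Fin n) K) * Y) = (U : Matrix (Fin n) (Fin n) K) * Y →
        adj τ ((U : Matrix (Fin n) (Fin n) K) * (f * Y)) = (U : Matrix (Fin n) (Fin n) K) * (f * Y) := by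
      intro f Y hf hfY hY
      conv_lhs => rw [hfY.eq, ← mul_assoc, adj_mul, hY, ← mul_assoc, hf, mul_assoc]
    rw [hX, mul_add, adj_add, key _ _ hfadj ((Commute.one_left X₁).sub_left hcX₁) (by rw [e1, hM]),
      key _ _ headj hcN (by rw [e2, hM'])]
  · have hAN : Commute N A := hAT.add_left (Commute.one_left A)
    have hAX : Commute X A :=
      (((Commute.one_left A).sub_left (hAN.pow_left k)).mul_left
        (((Commute.one_left A).smul_left d).add_left (hAT.smul_left _))).add_left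
          ((hAN.pow_left k).mul_left hAN)
    calc adj τ A * ((U : Matrix (Fin n) (Fin n) K) * X) * A
        = adj τ A * (U : Matrix (Fin n) (Fin n) K) * A * X := by simp only [mul_assoc, hAX.eq]
      _ = _ := by rw [hinv]

theorem exists_gu_conj (hK : Fintype.card K = q ^ 2) (A : GL (Fin n) K)
    (h : IsConj (A : Matrix (Fin n) (Fin n) K) (((A : Matrix (Fin n) (Fin n) K).map (fun x : K => x ^ q)).transpose)⁻¹) :
    ∃ B : ↥(Cfsg.GU n K q), IsConj A (B : GL (Fin n) K) := by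
  obtain ⟨τ, hτ, hτne, hττ⟩ := exists_conj hK
  obtain ⟨d, hd⟩ : ∃ d, τ d ≠ d := by
    by_contra hall
    push Not at hall
    exact hτne (RingHom.ext hall)
  have hctr : ∀ M : Matrix (Fin n) (Fin n) K, (M.map (fun x : K => x ^ q))ᵀ = adj τ M := fun M => by
    show _ = (M.map τ)ᵀ
    congr 2
    exact funext fun c => (hτ c).symm
  rw [hctr] at h
  obtain ⟨S₀, hS₀⟩ := h
  have hAu : IsUnit (adj τ (A : Matrix (Fin n) (Fin n) K)) :=
    IsUnit.of_mul_eq_one (adj τ ((A⁻¹ : GL (Fin n) K) : Matrix (Fin n) (Fin n) K)) (by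
      rw [← adj_mul, Units.inv_mul, adj_one])
  have hinv : adj τ (A : Matrix (Fin n) (Fin n) K) * (S₀ : Matrix (Fin n) (Fin n) K) * A = S₀ := by
    rw [mul_assoc, hS₀.eq, ← mul_assoc, mul_nonsing_inv _ ((Matrix.isUnit_iff_isUnit_det _).1 hAu), one_mul]
  obtain ⟨S, hS, hherm, hSA⟩ := exists_hermitian τ hττ d hd _ _ A.isUnit S₀.isUnit hinv
  let τe : K ≃+* K := { τ with invFun := τ, left_inv := hττ, right_inv := hττ }
  have hord : orderOf τe = 2 := by
    haveI : Fact (Nat.Prime 2) := ⟨Nat.prime_two⟩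
    exact orderOf_eq_prime (RingEquiv.ext fun x => by rw [pow_two]; exact hττ x)
      (fun h => hd (DFunLike.congr_fun h d))
  obtain ⟨k, hk⟩ := CfsgLib.FieldGalois.exists_hermitian_sqrt hord hS.unit (by
    rw [IsUnit.unit_spec, Matrix.transpose_map]; exact hherm)
  rw [IsUnit.unit_spec, Matrix.transpose_map] at hk
  -- `S = R* R` with `R = k*`
  have hRu : IsUnit (adj τ (k : Matrix (Fin n) (Fin n) K)) :=
    IsUnit.of_mul_eq_one (adj τ ((k⁻¹ : GL (Fin n) K) : Matrix (Fin n) (Fin n) K)) (by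
      rw [← adj_mul, Units.inv_mul, adj_one])
  obtain ⟨R, hR⟩ := hRu
  have hRS : adj τ (R : Matrix (Fin n) (Fin n) K) * R = S := by
    rw [hR, adj_adj τ hττ]; exact hk
  refine ⟨⟨R * A * R⁻¹, (mem_GU_iff_ctr hK).2 ?_⟩, isConj_iff.2 ⟨R, rfl⟩⟩
  show ((((R * A * R⁻¹ : GL (Fin n) K) : Matrix (Fin n) (Fin n) K)).map (fun x : K => x ^ q))ᵀ * _ = 1
  rw [hctr, Units.val_mul, Units.val_mul, adj_mul, adj_mul]
  calc adj τ (↑R⁻¹ : Matrix (Fin n) (Fin n) K) * (adj τ (A : Matrix (Fin n) (Fin n) K) * adj τ (R : Matrix (Fin n) (Fin n) K)) *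
        ((R : Matrix (Fin n) (Fin n) K) * A * (↑R⁻¹ : Matrix (Fin n) (Fin n) K))
      = adj τ (↑R⁻¹ : Matrix (Fin n) (Fin n) K) * (adj τ (A : Matrix (Fin n) (Fin n) K) *
          (adj τ (R : Matrix (Fin n) (Fin n) K) * R) * A) * (↑R⁻¹ : Matrix (Fin n) (Fin n) K) := by simp only [mul_assoc]
    _ = adj τ (↑R⁻¹ : Matrix (Fin n) (Fin n) K) * adj τ (R : Matrix (Fin n) (Fin n) K) *
          ((R : Matrix (Fin n) (Fin n) K) * (↑R⁻¹ : Matrix (Fin n) (Fin n) K)) := by
        rw [hRS, hSA, ← hRS]; simp only [mul_assoc]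
    _ = 1 := by rw [Units.mul_inv, mul_one, ← adj_mul, Units.mul_inv, adj_one]

theorem isConj_of_gu (hK : Fintype.card K = q ^ 2) (A : GL (Fin n) K) (B : ↥(Cfsg.GU n K q))
    (h : IsConj A (B : GL (Fin n) K)) :
    IsConj (A : Matrix (Fin n) (Fin n) K) (((A : Matrix (Fin n) (Fin n) K).map (fun x : K => x ^ q)).transpose)⁻¹ := by
  obtain ⟨τ, hτ, -, hττ⟩ := exists_conj hK
  have hctr : ∀ M : Matrix (Fin n) (Fin n) K, (M.map (fun x : K => x ^ q))ᵀ = adj τ M := fun M => by
    show _ = (M.map τ)ᵀ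
    congr 2
    exact funext fun c => (hτ c).symm
  obtain ⟨g, hg⟩ := isConj_iff.1 h
  have hB : adj τ ((B : GL (Fin n) K) : Matrix (Fin n) (Fin n) K) * ((B : GL (Fin n) K) : Matrix (Fin n) (Fin n) K) = 1 := by
    rw [← hctr]; exact (mem_GU_iff_ctr hK).1 B.2
  set S : Matrix (Fin n) (Fin n) K := adj τ (g : Matrix (Fin n) (Fin n) K) * (g : Matrix (Fin n) (Fin n) K)
  have hgA : (g : Matrix (Fin n) (Fin n) K) * A = ((B : GL (Fin n) K) : Matrix (Fin n) (Fin n) K) * g := by
    rw [← hg]; simp [mul_assoc]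
  have hSA : adj τ (A : Matrix (Fin n) (Fin n) K) * S * A = S := by
    calc adj τ (A : Matrix (Fin n) (Fin n) K) * (adj τ (g : Matrix (Fin n) (Fin n) K) * (g : Matrix (Fin n) (Fin n) K)) * (A : Matrix (Fin n) (Fin n) K)
        = adj τ ((g : Matrix (Fin n) (Fin n) K) * (A : Matrix (Fin n) (Fin n) K)) * ((g : Matrix (Fin n) (Fin n) K) * (A : Matrix (Fin n) (Fin n) K)) := by
          simp only [adj_mul, mul_assoc]
      _ = adj τ (g : Matrix (Fin n) (Fin n) K) * (adj τ ((B : GL (Fin n) K) : Matrix (Fin n) (Fin n) K) *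
            ((B : GL (Fin n) K) : Matrix (Fin n) (Fin n) K)) * (g : Matrix (Fin n) (Fin n) K) := by rw [hgA]; simp only [adj_mul, mul_assoc]
      _ = _ := by rw [hB, mul_one]
  have hSu : IsUnit S := (IsUnit.of_mul_eq_one (adj τ ((g⁻¹ : GL (Fin n) K) : Matrix (Fin n) (Fin n) K)) (by
      rw [← adj_mul, Units.inv_mul, adj_one])).mul g.isUnit
  have hAu : IsUnit (adj τ (A : Matrix (Fin n) (Fin n) K)) :=
    IsUnit.of_mul_eq_one (adj τ ((A⁻¹ : GL (Fin n) K) : Matrix (Fin n) (Fin n) K)) (by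
      rw [← adj_mul, Units.inv_mul, adj_one])
  rw [hctr]
  refine ⟨hSu.unit, ?_⟩
  show S * (A : Matrix (Fin n) (Fin n) K) = (adj τ (A : Matrix (Fin n) (Fin n) K))⁻¹ * S
  refine hAu.mul_left_cancel ?_
  exact (mul_assoc _ _ _).symm.trans (hSA.trans
    (by rw [← mul_assoc, mul_nonsing_inv _ ((Matrix.isUnit_iff_isUnit_det _).1 hAu), one_mul]))

end Cfsg.Agent.UnitaryConj57
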