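import Mathlib

/-!
Hyperbolic splitting of a non-degenerate quadratic space over a finite field.
-/

set_option autoImplicit false

namespace Cfsg.Agent.WittBasis57

variable {F : Type*} [Field F] [Finite F]

/-- Chevalley–Warning: a quadratic form in three variables has a non-trivial zero. -/
theorem exists_zero_three (R : QuadraticForm F (Fin 3 → F)) : ∃ c, c ≠ 0 ∧ R c = 0 := by
  classical
  haveI := Fintype.ofFinite F
  let M := LinearMap.BilinForm.toMatrix' (R.toBilin (Pi.basisFun F (Fin 3)))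
  have hR : ∀ c, R c = ∑ i, ∑ j, c i * M i j * c j := by
    intro c
    conv_lhs => rw [← R.toQuadraticMap_toBilin (Pi.basisFun F (Fin 3))]
    rw [LinearMap.BilinMap.toQuadraticMap_apply, ← Matrix.toBilin'_apply, Matrix.toBilin'_toMatrix']
  let P : MvPolynomial (Fin 3) F :=
    ∑ i, ∑ j, MvPolynomial.X i * MvPolynomial.C (M i j) * MvPolynomial.X j
  have hP : ∀ c, MvPolynomial.eval c P = R c := by
    intro c
    simp [P, hR, map_sum]
  have hdeg : P.totalDegree < Fintype.card (Fin 3) := by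
    refine lt_of_le_of_lt (MvPolynomial.totalDegree_finsetSum_le (d := 2) fun i _ =>
      MvPolynomial.totalDegree_finsetSum_le fun j _ => ?_) (by simp)
    refine (MvPolynomial.totalDegree_mul _ _).trans ?_
    refine le_trans (Nat.add_le_add_right (MvPolynomial.totalDegree_mul _ _) _) ?_
    simp
  obtain ⟨p, hp⟩ := CharP.exists F
  haveI := hp
  haveI : Fact p.Prime := ⟨CharP.char_is_prime F p⟩
  have hdvd := char_dvd_card_solutions p hdeg
  by_contra h
  push Not at h
  have : Fintype.card {x : Fin 3 → F // MvPolynomial.eval x P = 0} = 1 := by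
    refine Fintype.card_eq_one_iff.2 ⟨⟨0, by rw [hP]; exact map_zero R⟩, fun x => Subtype.ext ?_⟩
    by_contra hx
    exact h x.1 hx ((hP x.1).symm.trans x.2)
  rw [this] at hdvd
  exact (Fact.out : p.Prime).one_lt.ne' (Nat.dvd_one.1 hdvd)

variable {V : Type*} [AddCommGroup V] [Module F V] [FiniteDimensional F V]
  (Q : QuadraticForm F V)

/-- `Q` restricted to `W` has non-degenerate polar form. -/
def Nondeg (W : Submodule F V) : Prop :=
  ∀ w ∈ W, (∀ v ∈ W, QuadraticMap.polarBilin Q w v = 0) → w = 0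

/-- A hyperbolic family in `W` orthogonal to an anisotropic remainder `U`. -/
structure Split (W : Submodule F V) where
  k : ℕ
  e : Fin k → V
  f : Fin k → V
  U : Submodule F V
  U_le : U ≤ W
  e_mem : ∀ i, e i ∈ W
  f_mem : ∀ i, f i ∈ W
  Qe : ∀ i, Q (e i) = 0
  Qf : ∀ i, Q (f i) = 0
  ef : ∀ i j, QuadraticMap.polarBilin Q (e i) (f j) = if i = j then 1 else 0
  ee : ∀ i j, QuadraticMap.polarBilin Q (e i) (e j) = 0
  ff : ∀ i j, QuadraticMap.polarBilin Q (f i) (f j) = 0
  eU : ∀ i, ∀ u ∈ U, QuadraticMap.polarBilin Q (e i) u = 0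
  fU : ∀ i, ∀ u ∈ U, QuadraticMap.polarBilin Q (f i) u = 0
  nd : Nondeg Q U
  aniso : ∀ u ∈ U, Q u = 0 → u = 0
  dim : Module.finrank F U + 2 * k = Module.finrank F W

theorem polarBilin_comm (x y : V) :
    QuadraticMap.polarBilin Q x y = QuadraticMap.polarBilin Q y x := QuadraticMap.polar_comm _ _ _

theorem polarBilin_self (x : V) : QuadraticMap.polarBilin Q x x = 2 * Q x := by
  rw [QuadraticMap.polarBilin_apply_apply, QuadraticMap.polar_self]
  simp [two_mul, two_smul]

theorem map_add' (x y : V) : Q (x + y) = Q x + Q y + QuadraticMap.polarBilin Q x y :=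
  QuadraticMap.map_add Q x y

theorem exists_split : ∀ (W : Submodule F V), Nondeg Q W → Nonempty (Split Q W) := by
  intro W
  induction' hn : Module.finrank F W using Nat.strong_induction_on with n ih generalizing W
  intro hW
  by_cases hiso : ∀ u ∈ W, Q u = 0 → u = 0
  · exact ⟨⟨0, Fin.elim0, Fin.elim0, W, le_rfl, fun i => i.elim0, fun i => i.elim0, fun i => i.elim0,
      fun i => i.elim0, fun i => i.elim0, fun i => i.elim0, fun i => i.elim0, fun i => i.elim0,
      fun i => i.elim0, hW, hiso, by simp⟩⟩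
  push Not at hiso
  obtain ⟨v, hv, hQv, hv0⟩ := hiso
  obtain ⟨w₀, hw₀, hvw₀⟩ : ∃ w ∈ W, QuadraticMap.polarBilin Q v w = 1 := by
    by_contra h
    apply hv0
    refine hW v hv fun x hx => ?_
    by_contra hne
    exact h ⟨(QuadraticMap.polarBilin Q v x)⁻¹ • x, W.smul_mem _ hx, by
      rw [map_smul, smul_eq_mul, inv_mul_cancel₀ hne]⟩
  have hvv : QuadraticMap.polarBilin Q v v = 0 := by rw [polarBilin_self, hQv, mul_zero]
  let w := w₀ - Q w₀ • v
  have hw : w ∈ W := W.sub_mem hw₀ (W.smul_mem _ hv)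
  have hvw : QuadraticMap.polarBilin Q v w = 1 := by
    simp only [w, map_sub, map_smul, hvw₀, hvv, smul_zero, sub_zero]
  have hQw : Q w = 0 := by
    simp only [w, sub_eq_add_neg, ← neg_smul]
    rw [map_add', QuadraticMap.map_smul, hQv, map_smul, polarBilin_comm Q w₀ v, hvw₀]
    simp
  have hww : QuadraticMap.polarBilin Q w w = 0 := by rw [polarBilin_self, hQw, mul_zero]
  let φ : W →ₗ[F] F × F :=
    ((QuadraticMap.polarBilin Q v).prod (QuadraticMap.polarBilin Q w)).comp W.subtype
  have hφ : Function.Surjective φ := by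
    rintro ⟨a, b⟩
    refine ⟨⟨a • w + b • v, W.add_mem (W.smul_mem _ hw) (W.smul_mem _ hv)⟩, Prod.ext ?_ ?_⟩
    · show QuadraticMap.polarBilin Q v (a • w + b • v) = a
      simp only [map_add, map_smul, hvw, hvv, smul_eq_mul, mul_one, mul_zero, add_zero]
    · show QuadraticMap.polarBilin Q w (a • w + b • v) = b
      simp only [map_add, map_smul, hww, polarBilin_comm Q w v, hvw, smul_eq_mul, mul_one, mul_zero,
        zero_add]
  let W' : Submodule F V := Submodule.map W.subtype (LinearMap.ker φ)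
  have hmem : ∀ u, u ∈ W' ↔ u ∈ W ∧ QuadraticMap.polarBilin Q v u = 0 ∧
      QuadraticMap.polarBilin Q w u = 0 := by
    intro u
    simp only [W', Submodule.mem_map, LinearMap.mem_ker]
    constructor
    · rintro ⟨x, hx, rfl⟩
      exact ⟨x.2, congrArg Prod.fst hx, congrArg Prod.snd hx⟩
    · rintro ⟨hu, h1, h2⟩
      exact ⟨⟨u, hu⟩, Prod.ext h1 h2, rfl⟩
  have hdim : Module.finrank F W' + 2 = n := by
    have h := φ.finrank_range_add_finrank_ker
    rw [LinearMap.range_eq_top.2 hφ, finrank_top, Module.finrank_prod, Module.finrank_self, hn] at h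
    rw [show Module.finrank F W' = Module.finrank F (LinearMap.ker φ) from
      Submodule.finrank_map_subtype_eq W _]
    omega
  have hW' : Nondeg Q W' := by
    intro u hu hperp
    obtain ⟨huW, huv, huw⟩ := (hmem u).1 hu
    refine hW u huW fun x hx => ?_
    have hx' : x - QuadraticMap.polarBilin Q v x • w - QuadraticMap.polarBilin Q w x • v ∈ W' := by
      refine (hmem _).2 ⟨W.sub_mem (W.sub_mem hx (W.smul_mem _ hw)) (W.smul_mem _ hv), ?_, ?_⟩
      · simp [map_sub, map_smul, hvv, hvw]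
      · simp [map_sub, map_smul, hww, polarBilin_comm Q w v, hvw]
    have h := hperp _ hx'
    simpa [map_sub, map_smul, polarBilin_comm Q u v, polarBilin_comm Q u w, huv, huw] using h
  obtain ⟨S⟩ := ih _ (by omega) W' rfl hW'
  have hle : W' ≤ W := fun u hu => ((hmem u).1 hu).1
  refine ⟨⟨S.k + 1, Fin.cons v S.e, Fin.cons w S.f, S.U, S.U_le.trans hle,
    Fin.cases hv (fun i => hle (S.e_mem i)), Fin.cases hw (fun i => hle (S.f_mem i)),
    Fin.cases hQv S.Qe, Fin.cases hQw S.Qf, ?_, ?_, ?_, ?_, ?_, S.nd, S.aniso, ?_⟩⟩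
  · intro i j
    refine Fin.cases ?_ (fun i => ?_) i <;> refine Fin.cases ?_ (fun j => ?_) j
    · simp [hvw]
    · rw [Fin.cons_zero, Fin.cons_succ, ((hmem _).1 (S.f_mem j)).2.1,
        if_neg (Fin.succ_ne_zero j).symm]
    · rw [Fin.cons_zero, Fin.cons_succ, polarBilin_comm, ((hmem _).1 (S.e_mem i)).2.2,
        if_neg (Fin.succ_ne_zero i)]
    · simp only [Fin.cons_succ, S.ef, Fin.succ_inj]
  · intro i j
    refine Fin.cases ?_ (fun i => ?_) i <;> refine Fin.cases ?_ (fun j => ?_) j
    · simp [hvv]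
    · rw [Fin.cons_zero, Fin.cons_succ, ((hmem _).1 (S.e_mem j)).2.1]
    · rw [Fin.cons_zero, Fin.cons_succ, polarBilin_comm, ((hmem _).1 (S.e_mem i)).2.1]
    · simp only [Fin.cons_succ, S.ee]
  · intro i j
    refine Fin.cases ?_ (fun i => ?_) i <;> refine Fin.cases ?_ (fun j => ?_) j
    · simp [hww]
    · rw [Fin.cons_zero, Fin.cons_succ, ((hmem _).1 (S.f_mem j)).2.2]
    · rw [Fin.cons_zero, Fin.cons_succ, polarBilin_comm, ((hmem _).1 (S.f_mem i)).2.2]
    · simp only [Fin.cons_succ, S.ff]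
  · intro i u hu
    refine Fin.cases ?_ (fun i => ?_) i
    · rw [Fin.cons_zero]; exact ((hmem _).1 (S.U_le hu)).2.1
    · rw [Fin.cons_succ]; exact S.eU i u hu
  · intro i u hu
    refine Fin.cases ?_ (fun i => ?_) i
    · rw [Fin.cons_zero]; exact ((hmem _).1 (S.U_le hu)).2.2
    · rw [Fin.cons_succ]; exact S.fU i u hu
  · have := S.dim
    omega

theorem linMap_three_zero {x : Fin 3 → V} (hx : LinearIndependent F x) :
    ∃ c : Fin 3 → F, Fintype.linearCombination F x c ≠ 0 ∧ Q (Fintype.linearCombination F x c) = 0 := by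
  obtain ⟨c, hc, hQc⟩ := exists_zero_three (Q.comp (Fintype.linearCombination F x))
  refine ⟨c, fun h => hc ?_, hQc⟩
  exact (linearIndependent_iff_injective_fintypeLinearCombination.1 hx) (h.trans (map_zero _).symm)

theorem finrank_le_two {U : Submodule F V} (h : ∀ u ∈ U, Q u = 0 → u = 0) :
    Module.finrank F U ≤ 2 := by
  by_contra hlt
  let b := Module.finBasis F U
  let x : Fin 3 → V := fun i => b (Fin.castLE (by omega) i)
  have hx : LinearIndependent F x :=
    (b.linearIndependent.comp _ (Fin.castLE_injective _)).map' U.subtype (Submodule.ker_subtype U)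
  obtain ⟨c, hc, hQc⟩ := linMap_three_zero Q hx
  refine hc (h _ ?_ hQc)
  rw [Fintype.linearCombination_apply]
  exact U.sum_mem fun i _ => U.smul_mem _ (b _).2

/-- An anisotropic plane represents one, and has a basis `x, y` with `Q x = 1`, `f(x,y) = 1`. -/
theorem exists_plane_basis {U : Submodule F V} (hd : Module.finrank F U = 2) (hnd : Nondeg Q U)
    (h : ∀ u ∈ U, Q u = 0 → u = 0) :
    ∃ x ∈ U, ∃ y ∈ U, Q x = 1 ∧ QuadraticMap.polarBilin Q x y = 1 ∧
      LinearIndependent F ![x, y] ∧ ∀ t : F, t ^ 2 + t + Q y ≠ 0 := by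
  let b := Module.finBasisOfFinrankEq F U hd
  let L : (Fin 3 → F) →ₗ[F] V :=
    (LinearMap.proj 0).smulRight (b 0 : V) + (LinearMap.proj 1).smulRight (b 1 : V)
  obtain ⟨c, hc, hR⟩ := exists_zero_three
    (Q.comp L - QuadraticMap.linMulLin (LinearMap.proj 2) (LinearMap.proj 2))
  have hR' : Q (L c) = c 2 * c 2 := sub_eq_zero.1 hR
  have hmem : L c ∈ U := U.add_mem (U.smul_mem _ (b 0).2) (U.smul_mem _ (b 1).2)
  have hc2 : c 2 ≠ 0 := by
    intro h2
    rw [h2, mul_zero] at hR'
    have h0 : c 0 • b 0 + c 1 • b 1 = 0 := Subtype.ext (h _ hmem hR')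
    have hli := Fintype.linearIndependent_iff.1 b.linearIndependent ![c 0, c 1] (by
      rw [Fin.sum_univ_two]; exact h0)
    apply hc
    funext i
    fin_cases i
    · exact hli 0
    · exact hli 1
    · exact h2
  obtain ⟨x, hx, hQx⟩ : ∃ x ∈ U, Q x = 1 :=
    ⟨(c 2)⁻¹ • L c, U.smul_mem _ hmem, by rw [QuadraticMap.map_smul, hR', smul_eq_mul]; field_simp⟩
  have hx0 : x ≠ 0 := by
    rintro rfl
    rw [map_zero] at hQx
    exact zero_ne_one hQx
  let ψ : U →ₗ[F] F := (QuadraticMap.polarBilin Q x).comp U.subtype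
  have hψ : ψ ≠ 0 := fun h0 => hx0 (hnd x hx fun v hv => LinearMap.congr_fun h0 ⟨v, hv⟩)
  obtain ⟨y₀, hy₀⟩ := LinearMap.surjective hψ 1
  have hk : 0 < Module.finrank F (LinearMap.ker ψ) := by
    have h1 := ψ.finrank_range_add_finrank_ker
    rw [LinearMap.range_eq_top.2 (LinearMap.surjective hψ), finrank_top, Module.finrank_self, hd] at h1
    omega
  obtain ⟨k, hk0⟩ := Module.finrank_pos_iff_exists_ne_zero.1 hk
  obtain ⟨y, hyψ, hyli⟩ : ∃ y : U, ψ y = 1 ∧ ∀ a : F, (y : V) ≠ a • x := by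
    by_contra hcon
    push Not at hcon
    obtain ⟨a, ha⟩ := hcon y₀ hy₀
    obtain ⟨a', ha'⟩ := hcon (y₀ + k) (by rw [map_add, hy₀, LinearMap.mem_ker.1 k.2, add_zero])
    have hkx : ((k : U) : V) = (a' - a) • x := by
      rw [sub_smul, ← ha', ← ha]
      simp
    have h1 : (a' - a) * QuadraticMap.polarBilin Q x x = 0 := by
      rw [← smul_eq_mul, ← map_smul, ← hkx]
      exact LinearMap.mem_ker.1 k.2
    have h2 : a' - a ≠ 0 := by
      intro h0
      rw [h0, zero_smul] at hkx
      exact hk0 (Subtype.ext (Subtype.ext hkx))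
    have h3 : QuadraticMap.polarBilin Q x (y₀ : V) = 0 := by
      rw [ha, map_smul, (mul_eq_zero.1 h1).resolve_left h2, smul_zero]
    exact zero_ne_one (h3.symm.trans hy₀)
  have hli : LinearIndependent F ![x, (y : V)] :=
    (LinearIndependent.pair_iff' hx0).2 fun a ha => hyli a ha.symm
  refine ⟨x, hx, y, y.2, hQx, hyψ, hli, fun t ht => ?_⟩
  have hxy : QuadraticMap.polarBilin Q x (y : V) = 1 := hyψ
  have hQ0 : Q (t • x + (y : V)) = 0 := by
    rw [map_add', QuadraticMap.map_smul, hQx, LinearMap.BilinForm.smul_left, hxy, smul_eq_mul]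
    linear_combination ht
  have := (LinearIndependent.pair_iff.1 hli) t 1
    (by rw [one_smul]; exact h _ (U.add_mem (U.smul_mem _ hx) y.2) hQ0)
  exact one_ne_zero this.2

theorem split_indep {W : Submodule F V} (S : Split Q W) {ι : Type*} [Fintype ι] {u : ι → V}
    (hu : LinearIndependent F u) (huU : ∀ i, u i ∈ S.U) :
    LinearIndependent F (Sum.elim (Sum.elim S.e S.f) u) := by
  classical
  rw [Fintype.linearIndependent_iff]
  intro g hg
  rw [Fintype.sum_sum_type, Fintype.sum_sum_type] at hg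
  simp only [Sum.elim_inl, Sum.elim_inr] at hg
  have h1 : ∀ i, g (Sum.inl (Sum.inr i)) = 0 := by
    intro i
    have := congrArg (QuadraticMap.polarBilin Q (S.e i)) hg
    simpa [map_sum, map_add, map_smul, S.ee, S.ef, S.eU i _ (huU _), eq_comm] using this
  have h2 : ∀ i, g (Sum.inl (Sum.inl i)) = 0 := by
    intro i
    have := congrArg (QuadraticMap.polarBilin Q (S.f i)) hg
    simpa [map_sum, map_add, map_smul, polarBilin_comm Q (S.f i) (S.e _), S.ff, S.ef,
      S.fU i _ (huU _)] using this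
  have h3 : ∀ i, g (Sum.inr i) = 0 := by
    simp only [h1, h2, zero_smul, Finset.sum_const_zero, zero_add] at hg
    exact Fintype.linearIndependent_iff.1 hu _ hg
  rintro ((i | i) | i)
  exacts [h2 i, h1 i, h3 i]

theorem nondeg_top (hQ : (QuadraticMap.polarBilin Q).Nondegenerate) : Nondeg Q ⊤ :=
  fun w _ h => hQ.1 w fun v => h v trivial

end Cfsg.Agent.WittBasis57
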