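import Mathlib

set_option autoImplicit false

open Matrix

namespace Cfsg.Agent.KS59

variable {F : Type*} [Field F] [Fintype F]

lemma pow_three_eq_one_of_card_four (hF : Fintype.card F = 4) {a : F} (ha : a ≠ 0) :
    a ^ 3 = 1 := by
  have := FiniteField.pow_card_sub_one_eq_one a ha
  rwa [hF] at this

lemma exists_omega_card_four (hF : Fintype.card F = 4) :
    ∃ w : F, w ≠ 1 ∧ w ^ 3 = 1 ∧ w ^ 2 + w + 1 = 0 := by
  classical
  have h : ∃ w : F, w ∉ ({0, 1} : Finset F) := by
    by_contra h
    push_neg at h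
    have : (Finset.univ : Finset F) ⊆ {0, 1} := fun x _ => h x
    have := Finset.card_le_card this
    rw [Finset.card_univ, hF] at this
    have h2 : ({0, 1} : Finset F).card ≤ 2 := Finset.card_le_two
    omega
  obtain ⟨w, hw⟩ := h
  simp only [Finset.mem_insert, Finset.mem_singleton, not_or] at hw
  have h3 := pow_three_eq_one_of_card_four hF hw.1
  refine ⟨w, hw.2, h3, ?_⟩
  have hm : (w - 1) * (w ^ 2 + w + 1) = 0 := by linear_combination h3
  exact (mul_eq_zero.mp hm).resolve_left (sub_ne_zero.mpr hw.2)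

lemma two_eq_zero_card_four (hF : Fintype.card F = 4) : (2 : F) = 0 := by
  have h : ((4 : ℕ) : F) = 0 := hF ▸ FiniteField.cast_card_eq_zero F
  have h2 : (2 : F) * 2 = 0 := by
    rw [Nat.cast_ofNat] at h
    linear_combination h
  exact mul_self_eq_zero.mp h2

lemma charpoly_fin_three_expand (A : Matrix (Fin 3) (Fin 3) F) :
    ∃ t s : F, A.charpoly =
      Polynomial.X ^ 3 + Polynomial.C t * Polynomial.X ^ 2 + Polynomial.C s * Polynomial.X
        + Polynomial.C (- A.det) := by
  have hdeg : A.charpoly.natDegree = 3 := by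
    simp [Matrix.charpoly_natDegree_eq_dim]
  have hlead : A.charpoly.coeff 3 = 1 := by
    have := A.charpoly_monic
    rw [Polynomial.Monic, Polynomial.leadingCoeff, hdeg] at this
    exact this
  refine ⟨A.charpoly.coeff 2, A.charpoly.coeff 1, ?_⟩
  have h0 : A.charpoly.coeff 0 = -A.det := by
    have := A.det_eq_sign_charpoly_coeff
    rw [this]; simp [pow_succ]
  conv_lhs => rw [A.charpoly.as_sum_range_C_mul_X_pow, hdeg]
  simp [Finset.sum_range_succ, hlead, h0]
  ring

lemma aeval_fin_three_relation (A : Matrix (Fin 3) (Fin 3) F) :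
    ∃ t s : F, (A ^ 3 + t • A ^ 2 + s • A - A.det • (1 : Matrix (Fin 3) (Fin 3) F) = 0) ∧
      ∀ x : F, (Matrix.scalar (Fin 3) x - A).det = x ^ 3 + t * x ^ 2 + s * x - A.det := by
  obtain ⟨t, s, h⟩ := charpoly_fin_three_expand A
  refine ⟨t, s, ?_, fun x => ?_⟩
  · have := A.aeval_self_charpoly
    rw [h] at this
    simp [Algebra.smul_def, sub_eq_add_neg] at this ⊢
    exact this
  · rw [← A.eval_charpoly, h]
    simp
    ring

end Cfsg.Agent.KS59
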