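import Mathlib

set_option autoImplicit false

/-! The rank of an alternating matrix over a field is even. -/

namespace Cfsg.Agent.KsAltRank

open Matrix Finset

/-- An alternating matrix (skew with zero diagonal) of odd size has determinant zero. -/
theorem det_eq_zero_of_odd {R : Type*} [CommRing R] {ι : Type*} [Fintype ι] [DecidableEq ι]
    (M : Matrix ι ι R) (hskew : ∀ i j, M i j = -M j i) (hdiag : ∀ i, M i i = 0)
    (hodd : Odd (Fintype.card ι)) : M.det = 0 := by
  rw [Matrix.det_apply']
  refine Finset.sum_involution (fun σ _ => σ⁻¹) ?_ ?_ (fun _ _ => mem_univ _) (fun _ _ => inv_inv _)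
  · intro σ _
    have h1 : ∏ i, M (σ⁻¹ i) i = (-1) ^ Fintype.card ι * ∏ i, M (σ i) i := by
      rw [← Equiv.prod_comp σ (fun i => M (σ⁻¹ i) i)]
      have : ∀ i, M (σ⁻¹ (σ i)) (σ i) = (-1) * M (σ i) i := by
        intro i
        rw [Equiv.Perm.inv_def, Equiv.symm_apply_apply, hskew, neg_one_mul]
      rw [Finset.prod_congr rfl (fun i _ => this i), Finset.prod_mul_distrib, Finset.prod_const,
        Finset.card_univ]
    rw [h1, hodd.neg_one_pow, Equiv.Perm.sign_inv]
    ring
  · intro σ _ hne heq
    apply hne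
    have h2 : σ * σ = 1 := by
      have := congrArg (fun τ => σ * τ) heq
      simpa using this.symm
    obtain ⟨i, hi⟩ : ∃ i, σ i = i := by
      by_contra hcon
      push_neg at hcon
      apply (Nat.not_even_iff_odd.mpr hodd)
      have hs : σ.support = Finset.univ := by
        ext i; simp [Equiv.Perm.mem_support, hcon i]
      have hdvd : ∀ c ∈ σ.cycleType, 2 ∣ c := by
        intro c hc
        have h3 : orderOf σ ∣ 2 := orderOf_dvd_of_pow_eq_one (by rw [sq, h2])
        have h4 : c ∣ 2 := (Equiv.Perm.dvd_of_mem_cycleType hc).trans h3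
        have h5 := Equiv.Perm.two_le_of_mem_cycleType hc
        have h6 := Nat.le_of_dvd (by norm_num) h4
        omega
      have h7 : 2 ∣ σ.cycleType.sum := Multiset.dvd_sum hdvd
      rw [Equiv.Perm.sum_cycleType, hs, Finset.card_univ] at h7
      exact even_iff_two_dvd.mpr h7
    rw [Finset.prod_eq_zero (mem_univ i) (by rw [hi]; exact hdiag i), mul_zero]

/-- The rank of an alternating matrix over a field is even. -/
theorem even_rank {F : Type*} [Field F] {ι : Type*} [Fintype ι] [DecidableEq ι]
    (M : Matrix ι ι F) (halt : ∀ v, v ⬝ᵥ (M *ᵥ v) = 0) : Even M.rank := by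
  have hdiag : ∀ i, M i i = 0 := by
    intro i
    simpa using halt (Pi.single i 1)
  have hskew' : ∀ u v, u ⬝ᵥ (M *ᵥ v) = -(v ⬝ᵥ (M *ᵥ u)) := by
    intro u v
    have h := halt (u + v)
    rw [Matrix.mulVec_add, add_dotProduct, dotProduct_add, dotProduct_add, halt, halt] at h
    linear_combination h
  obtain ⟨W, hW⟩ := Submodule.exists_isCompl (LinearMap.ker M.mulVecLin)
  have hdim : Module.finrank F W = M.rank := by
    have h1 := Submodule.finrank_add_eq_of_isCompl hW
    have h2 := LinearMap.finrank_range_add_finrank_ker M.mulVecLin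
    show Module.finrank F W = Module.finrank F (LinearMap.range M.mulVecLin)
    omega
  let b := Module.finBasisOfFinrankEq F W hdim
  let C : Matrix ι (Fin M.rank) F := Matrix.of (fun i k => (b k : ι → F) i)
  have hC : ∀ x, C *ᵥ x = ((b.equivFun.symm x : W) : ι → F) := by
    intro x
    ext i
    rw [Module.Basis.equivFun_symm_apply]
    simp [C, Matrix.mulVec, dotProduct, mul_comm]
  have hbil : ∀ x y, x ⬝ᵥ ((Cᵀ * M * C) *ᵥ y) = (C *ᵥ x) ⬝ᵥ (M *ᵥ (C *ᵥ y)) := by
    intro x y
    rw [← Matrix.mulVec_mulVec, ← Matrix.mulVec_mulVec, Matrix.dotProduct_mulVec x Cᵀ,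
      Matrix.vecMul_transpose]
  have hdet : (Cᵀ * M * C).det ≠ 0 := by
    intro h0
    obtain ⟨y, hy, hy0⟩ := Matrix.exists_mulVec_eq_zero_iff.mpr h0
    set w := C *ᵥ y with hw
    have hwW : w ∈ W := by rw [hw, hC]; exact (b.equivFun.symm y).2
    have hMw : M *ᵥ w = 0 := by
      apply dotProduct_eq_zero
      intro z
      obtain ⟨k, hk, u, hu, rfl⟩ :=
        Submodule.mem_sup.mp (hW.sup_eq_top ▸ Submodule.mem_top (x := z))
      rw [dotProduct_comm, add_dotProduct]
      have e1 : k ⬝ᵥ (M *ᵥ w) = 0 := by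
        have hk' : M *ᵥ k = 0 := hk
        rw [hskew', hk', dotProduct_zero, neg_zero]
      have e2 : u ⬝ᵥ (M *ᵥ w) = 0 := by
        have hu' : u = C *ᵥ (b.equivFun ⟨u, hu⟩) := by rw [hC, LinearEquiv.symm_apply_apply]
        rw [hu', hw, ← hbil, hy0, dotProduct_zero]
      rw [e1, e2, add_zero]
    have hwk : w ∈ LinearMap.ker M.mulVecLin := hMw
    have hw0 : w = 0 := by
      have hmem : w ∈ LinearMap.ker M.mulVecLin ⊓ W := Submodule.mem_inf.mpr ⟨hwk, hwW⟩
      rw [hW.inf_eq_bot] at hmem
      exact (Submodule.mem_bot F).mp hmem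
    apply hy
    rw [hw, hC] at hw0
    have := b.equivFun.symm.map_eq_zero_iff.mp (Subtype.ext hw0)
    exact this
  rcases Nat.even_or_odd M.rank with h | h
  · exact h
  · exfalso
    apply hdet
    refine det_eq_zero_of_odd _ ?_ ?_ (by simpa using h)
    · intro i j
      have := hskew' (C *ᵥ Pi.single i 1) (C *ᵥ Pi.single j 1)
      rw [← hbil, ← hbil] at this
      simpa using this
    · intro i
      have := hbil (Pi.single i 1) (Pi.single i 1)
      rw [halt] at this
      simpa using this

end Cfsg.Agent.KsAltRank
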