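import Cfsg.Statements.S2427
-- import your own Cfsg.Agent.* helpers here

set_option autoImplicit false
open Cfsg

namespace Cfsg.Agent.S2427


abbrev G := Matrix.SpecialLinearGroup (Fin 2) (ZMod 3)

/-- The elements whose fourth power is trivial. -/
def Q : Subgroup G where
  carrier := {g | g ^ 4 = 1}
  mul_mem' {a b} := by
    have h : ∀ a b : G, a ^ 4 = 1 → b ^ 4 = 1 → (a * b) ^ 4 = 1 := by decide +kernel
    exact h a b
  one_mem' := one_pow 4
  inv_mem' {a} ha := by simpa [inv_pow] using ha

theorem mem_Q (g : G) : g ∈ Q ↔ g ^ 4 = 1 := Iff.rfl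

instance decMemQ : DecidablePred (· ∈ Q) := fun g => decidable_of_iff _ (mem_Q g).symm

theorem commutator_eq : commutator G = Q := by
  refine le_antisymm ?_ fun g hg => ?_
  · rw [commutator_def, Subgroup.commutator_le]
    intro a _ b _
    have h : ∀ a b : G, (a * b * a⁻¹ * b⁻¹) ^ 4 = 1 := by decide +kernel
    exact h a b
  · have h : ∀ g : G, g ^ 4 = 1 → ∃ a b : G, a * b * a⁻¹ * b⁻¹ = g := by decide +kernel
    obtain ⟨a, b, rfl⟩ := h g hg
    exact Subgroup.commutator_mem_commutator (Subgroup.mem_top a) (Subgroup.mem_top b)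

theorem card_G : Nat.card G = 24 := by
  rw [Nat.card_eq_fintype_card]
  decide +kernel

theorem card_Q : Nat.card Q = 8 := by
  rw [Nat.card_eq_fintype_card]
  decide +kernel

theorem mem_center (g : G) : g ∈ Subgroup.center G ↔ g = 1 ∨ g = -1 := by
  have h : ∀ g : G, (∀ x : G, x * g = g * x) ↔ g = 1 ∨ g = -1 := by decide +kernel
  rw [Subgroup.mem_center_iff]
  exact h g

/-- An element of order 4. -/
def qa : G := ⟨!![0, 1; -1, 0], by decide +kernel⟩

/-- A second element of order 4, inverting `qa`. -/
def qb : G := ⟨!![1, 1; 1, -1], by decide +kernel⟩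

/-- An explicit map from the quaternion group. -/
def quat : QuaternionGroup 2 → G
  | .a i => qa ^ i.val
  | .xa i => qb * qa ^ i.val

theorem quat_mem (x : QuaternionGroup 2) : quat x ∈ Q := by
  have h : ∀ x, quat x ^ 4 = 1 := by decide +kernel
  exact h x

theorem noncentral_normal {N : Subgroup G} (hN : N.Normal) {g : G} (hg : g ∈ N)
    (hgc : g ∉ Subgroup.center G) : Q ≤ N := by
  intro y hy
  have h : ∀ g : G, (g = 1 ∨ g = -1) ∨ ∀ y : G, y ^ 4 = 1 → ∃ a b : G,
      y = (a * g * a⁻¹ * g⁻¹) * (b * g * b⁻¹ * g⁻¹) := by decide +kernel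
  rcases h g with h' | h'
  · exact absurd ((mem_center g).2 h') hgc
  · obtain ⟨a, b, rfl⟩ := h' y hy
    exact N.mul_mem (N.mul_mem (hN.conj_mem g hg a) (N.inv_mem hg))
      (N.mul_mem (hN.conj_mem g hg b) (N.inv_mem hg))

/-- The group SL₂ over the field with 3 elements has order 24 and centre of order 2; its commutator subgroup has order 8, is isomorphic to the quaternion group of order 8 and is complemented by every Sylow 3-subgroup (so the group is a semidirect product of a quaternion group of order 8 by a cyclic group of order 3); and its only normal subgroups besides the trivial subgroup and the whole group are the centre and the commutator subgroup. -/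
theorem result :
    Nat.card (Matrix.SpecialLinearGroup (Fin 2) (ZMod 3)) = 24 ∧
    Nat.card (Subgroup.center (Matrix.SpecialLinearGroup (Fin 2) (ZMod 3))) = 2 ∧
    Nat.card (commutator (Matrix.SpecialLinearGroup (Fin 2) (ZMod 3))) = 8 ∧
    Nonempty (commutator (Matrix.SpecialLinearGroup (Fin 2) (ZMod 3)) ≃* QuaternionGroup 2) ∧
    (∀ P : Sylow 3 (Matrix.SpecialLinearGroup (Fin 2) (ZMod 3)),
      Subgroup.IsComplement' (commutator (Matrix.SpecialLinearGroup (Fin 2) (ZMod 3)))
        (P : Subgroup (Matrix.SpecialLinearGroup (Fin 2) (ZMod 3)))) ∧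
    ∀ N : Subgroup (Matrix.SpecialLinearGroup (Fin 2) (ZMod 3)), N.Normal →
      N = ⊥ ∨ N = ⊤ ∨ N = Subgroup.center (Matrix.SpecialLinearGroup (Fin 2) (ZMod 3)) ∨
        N = commutator (Matrix.SpecialLinearGroup (Fin 2) (ZMod 3)) := by
  rw [commutator_eq]
  refine ⟨card_G, ?_, card_Q, ⟨?_⟩, fun P => ?_, fun N hN => ?_⟩
  · have e : (Subgroup.center G : Set G) = ({1, -1} : Finset G) := by
      ext g
      simp [mem_center g]
    rw [← SetLike.coe_sort_coe, e, Nat.card_eq_fintype_card]
    simp [show (1 : G) ≠ -1 by decide +kernel]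
  · refine (MulEquiv.ofBijective (MonoidHom.mk' (fun x => (⟨quat x, quat_mem x⟩ : Q)) ?_) ?_).symm
    · intro x y
      have h : ∀ x y, quat (x * y) = quat x * quat y := by decide +kernel
      exact Subtype.ext (h x y)
    · rw [Nat.bijective_iff_injective_and_card]
      refine ⟨fun x y hxy => ?_, ?_⟩
      · have h : ∀ x y, quat x = quat y → x = y := by decide +kernel
        exact h x y (congrArg Subtype.val hxy)
      · rw [card_Q, Nat.card_eq_fintype_card, QuaternionGroup.card]
  · have hP : Nat.card P = 3 := by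
      rw [P.card_eq_multiplicity, card_G, show (24 : ℕ) = 3 ^ 1 * 8 by norm_num,
        Nat.factorization_mul_of_coprime (by norm_num)]
      simp [Nat.factorization_eq_zero_of_not_dvd, Nat.Prime.factorization_self Nat.prime_three]
    exact Subgroup.isComplement'_of_coprime (by rw [card_Q, hP, card_G]) (by rw [card_Q, hP]; decide)
  · by_cases hle : N ≤ Subgroup.center G
    · by_cases h1 : (-1 : G) ∈ N
      · refine Or.inr (Or.inr (Or.inl (le_antisymm hle fun g hg => ?_)))
        rcases (mem_center g).1 hg with rfl | rfl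
        · exact N.one_mem
        · exact h1
      · refine Or.inl (eq_bot_iff.2 fun g hg => ?_)
        rcases (mem_center g).1 (hle hg) with rfl | rfl
        · exact Subgroup.one_mem _
        · exact absurd hg h1
    · obtain ⟨g, hg, hgc⟩ := SetLike.not_le_iff_exists.1 hle
      have hQ := noncentral_normal hN hg hgc
      by_cases hNQ : N ≤ Q
      · exact Or.inr (Or.inr (Or.inr (le_antisymm hNQ hQ)))
      · obtain ⟨x, hx, hxQ⟩ := SetLike.not_le_iff_exists.1 hNQ
        refine Or.inr (Or.inl (eq_top_iff.2 fun y _ => ?_))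
        have h : ∀ x : G, x ^ 4 ≠ 1 → ∀ y : G,
            y ^ 4 = 1 ∨ (x⁻¹ * y) ^ 4 = 1 ∨ ((x * x)⁻¹ * y) ^ 4 = 1 := by decide +kernel
        rcases h x hxQ y with h' | h' | h'
        · exact hQ h'
        · simpa using N.mul_mem hx (hQ h')
        · simpa [mul_assoc] using N.mul_mem (N.mul_mem hx hx) (hQ h')

end Cfsg.Agent.S2427
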