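import Cfsg.Statements.S4503
import Cfsg.Agent.Lib.PrimeDefect.SmallKernel
import Cfsg.Agent.Lib.PrimeDefect.Galois
import Cfsg.Agent.Lib.Blk7.HalfDegree
import Cfsg.Agent.Lib.Blocks.DefectZeroVanish

set_option autoImplicit false
set_option linter.style.haveILetI false
open Cfsg

namespace Cfsg.Agent.S4503

open CfsgLib CfsgLib.Characters CfsgLib.PrimeDefect CfsgLib.SelfCentralPrime
open scoped ComplexConjugate

universe u

open scoped Classical in
/-- The fixed points of an element of order `p` on a constituent of `ψ ψ̄`. -/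
theorem fixed_le {K : Type u} [Group K] [Fintype K] {p : ℕ} [hp : Fact p.Prime] {x : K}
    (hx : orderOf x = p) (hsq : ¬ p ^ 2 ∣ Nat.card K) (ψ : IrrCharacter K)
    (hψ : 2 * charDegree (ψ : K → ℂ) + 1 < p) (ξ : IrrCharacter K)
    (hξ : classInner (fun g => (ψ : K → ℂ) g * conj ((ψ : K → ℂ) g)) (ξ : K → ℂ) ≠ 0)
    (hne : (ξ : K → ℂ) x ≠ (ξ : K → ℂ) 1) (n0 : ℕ)
    (hn0 : (∑ i : ZMod p, (ξ : K → ℂ) (pw x i)) = (p : ℂ) * (n0 : ℂ)) :
    n0 * (p + 1) ≤ 2 * charDegree (ξ : K → ℂ) := by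
  obtain ⟨M, hM, O, hpO, hO⟩ := SmallTensor.exists_valuation_above p
  obtain ⟨V, D⟩ := exists_data hx hsq
  set C := Subgroup.centralizer ({x} : Set K)
  haveI := Fintype.ofFinite C
  haveI := Fintype.ofFinite V
  set d := charDegree (ξ : K → ℂ)
  have hd1 : (ξ : K → ℂ) 1 = (d : ℂ) := LinearTwist.apply_one_eq_charDegree (irr_isCharacter ξ)
  have hp2 := hp.out.two_le
  by_cases hdp : p ∣ d
  · -- a character of defect zero
    have hv : ∀ i : ZMod p, i ≠ 0 → (ξ : K → ℂ) (pw x i) = 0 := fun i hi =>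
      DefectZeroVanish.vanish_of_defect_zero ξ
        (by rw [D.factorization_card_eq, pow_one]; exact hdp) (dvd_of_eq (D.orderOf_pw hi).symm)
    rw [Finset.sum_eq_single (0 : ZMod p) (fun i _ hi => hv i hi)
      (fun h => absurd (Finset.mem_univ _) h), D.pw_zero, hd1] at hn0
    have h : d = p * n0 := by exact_mod_cast hn0
    rw [h]
    calc n0 * (p + 1) ≤ n0 * (2 * p) := Nat.mul_le_mul_left _ (by omega)
      _ = 2 * (p * n0) := by ring
  set B := blockOf M (ξ : K → ℂ) with hBdef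
  have hB : IsPBlock M B := Blocks.isPBlock_blockOf ξ
  have hξB : ξ ∈ B := Blocks.mem_blockOf_self hM ξ
  have hdpos : 0 < blockDefect p B := by
    rw [blockDefect, D.factorization_card_eq, Nat.sub_pos_iff_lt]
    refine lt_of_le_of_lt (Nat.sInf_le ⟨ξ, hξB, rfl⟩) ?_
    dsimp only
    rw [Nat.factorization_eq_zero_of_not_dvd hdp]
    exact one_pos
  obtain ⟨β, hβ⟩ := D.exists_hits_of_defect hM hB hdpos
  obtain ⟨F⟩ := D.exists_family hM hB hdpos hβ
  have hzero : ∀ γ a, ¬ D.Hits M B γ → D.mult ξ a γ = 0 := fun γ a hγ =>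
    D.mult_eq_zero_of_small hM O hpO hO (by omega) hξ hB hξB hγ a
  -- some non-zero residue occurs
  have hu : ∃ u : (ZMod p)ˣ, D.mult ξ (u : ZMod p) β ≠ 0 := by
    by_contra hc
    push Not at hc
    have hall : ∀ γ a, a ≠ 0 → D.mult ξ a γ = 0 := by
      intro γ a ha
      by_cases hγ : D.Hits M B γ
      · obtain ⟨n, rfl⟩ := D.exists_cj_of_hits hM hβ hγ
        rw [D.mult_cj, show ((D.mu n)⁻¹ : (ZMod p)ˣ) * a =
          (((D.mu n)⁻¹ * Units.mk0 a ha : (ZMod p)ˣ) : ZMod p) by rw [Units.val_mul, Units.val_mk0]]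
        exact hc _
      · exact hzero γ a hγ
    apply hne
    have h1 := D.value_eq ξ 1 1
    have h0 := D.value_eq ξ 0 1
    rw [OneMemClass.coe_one, mul_one] at h1 h0
    rw [pw_one] at h1
    rw [D.pw_zero] at h0
    rw [h1, h0]
    refine Finset.sum_congr rfl fun γ _ => ?_
    congr 1
    refine Finset.sum_congr rfl fun a _ => ?_
    by_cases ha : a = 0
    · subst ha; simp
    · simp [hall γ a ha]
  -- fixed points and degree
  set O' := Finset.univ.filter fun γ => D.Hits M B γ with hO'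
  set mb := O'.card * charDegree (β : V → ℂ)
  have hcnt : ∀ γ ∈ O', ∃ n, γ = D.cj n β ∧ charDegree (γ : V → ℂ) = charDegree (β : V → ℂ) := by
    intro γ hγ
    obtain ⟨n, rfl⟩ := D.exists_cj_of_hits hM hβ (Finset.mem_filter.1 hγ).2
    exact ⟨n, rfl, by rw [charDegree, charDegree, D.cj_one_apply]⟩
  have hsum : ∀ f : IrrCharacter V → ℕ, (∀ γ, ¬ D.Hits M B γ → f γ = 0) →
      (∀ n, f (D.cj n β) = f β) → ∑ γ, f γ * charDegree (γ : V → ℂ) = mb * f β := by
    intro f hf0 hfc
    rw [← Finset.sum_filter_add_sum_filter_not Finset.univ (fun γ => D.Hits M B γ),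
      Finset.sum_eq_zero (s := Finset.univ.filter fun γ => ¬ D.Hits M B γ)
        (fun γ hγ => by rw [hf0 γ (Finset.mem_filter.1 hγ).2, zero_mul]), add_zero,
      Finset.sum_congr rfl (g := fun _ => f β * charDegree (β : V → ℂ)) fun γ hγ => by
        obtain ⟨n, rfl, h⟩ := hcnt γ hγ
        rw [hfc, h], Finset.sum_const, smul_eq_mul]
    ring
  set S := ∑ a : ZMod p, D.mult ξ a β
  have hdeg : d = mb * S := by
    have h := D.degree_eq ξ
    rw [hd1] at h
    simp only [fun γ : IrrCharacter V => LinearTwist.apply_one_eq_charDegree (irr_isCharacter γ),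
      ← Finset.sum_mul] at h
    have h' : d = ∑ γ : IrrCharacter V, (∑ a : ZMod p, D.mult ξ a γ) * charDegree (γ : V → ℂ) := by
      exact_mod_cast h
    rw [h']
    refine hsum _ (fun γ hγ => Finset.sum_eq_zero fun a _ => hzero γ a hγ) fun n => ?_
    simp only [D.mult_cj]
    exact Fintype.sum_equiv (Units.mulLeft (D.mu n)⁻¹) _ _ fun a => rfl
  have hn : n0 = mb * D.mult ξ 0 β := by
    have h : (p : ℂ) * (n0 : ℂ) =
        (p : ℂ) * ∑ γ : IrrCharacter V, (D.mult ξ 0 γ : ℂ) * (charDegree (γ : V → ℂ) : ℂ) := by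
      rw [← hn0]
      have hval : ∀ i : ZMod p, (ξ : K → ℂ) (pw x i) = ∑ γ : IrrCharacter V,
          (∑ a : ZMod p, (D.mult ξ a γ : ℂ) * ZMod.stdAddChar (i * a)) *
            (charDegree (γ : V → ℂ) : ℂ) := fun i => by
        have h := D.value_eq ξ i 1
        rw [OneMemClass.coe_one, mul_one] at h
        rw [h]
        exact Finset.sum_congr rfl fun γ _ => by
          rw [LinearTwist.apply_one_eq_charDegree (irr_isCharacter γ)]
      simp only [hval]
      rw [Finset.sum_comm, Finset.mul_sum]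
      refine Finset.sum_congr rfl fun γ _ => ?_
      rw [← Finset.sum_mul, Finset.sum_comm]
      simp only [← Finset.mul_sum, sum_std]
      rw [Finset.sum_eq_single (0 : ZMod p) (fun a _ ha => by rw [if_neg ha, mul_zero])
        (fun h => absurd (Finset.mem_univ _) h), if_pos rfl]
      ring
    have h' : n0 = ∑ γ : IrrCharacter V, D.mult ξ 0 γ * charDegree (γ : V → ℂ) := by
      exact_mod_cast mul_left_cancel₀ (Nat.cast_ne_zero.2 hp.out.ne_zero) h
    rw [h']
    exact hsum _ (fun γ hγ => hzero γ 0 hγ) fun n => by rw [D.mult_cj, mul_zero]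
  suffices hmain : D.mult ξ 0 β * (p + 1) ≤ 2 * S by
    rw [hn, hdeg, mul_assoc, mul_left_comm 2 mb]
    exact Nat.mul_le_mul_left _ hmain
  suffices key : ∀ η : IrrCharacter K, (η ∈ F.X ∨ ∃ q, F.θ q = η) →
      (∃ u : (ZMod p)ˣ, D.mult η (u : ZMod p) β ≠ 0) →
      (D.mult η 0 β : ℤ) * (p + 1) ≤ 2 * ∑ a : ZMod p, (D.mult η a β : ℤ) by
    have h := key ξ ((F.mem_iff ξ).1 hξB) hu
    rw [← Nat.cast_sum] at h
    exact_mod_cast h
  clear hu
  intro η hη hu
  obtain ⟨u, hu⟩ := hu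
  clear_value S
  rcases hη with hX | ⟨q, rfl⟩
  · rw [F.sum_mult_X hX]
    have hA := F.mult_X η hX u
    have hA1 : (1 : ℤ) ≤ D.mult η (u : ZMod p) β := by
      have := Nat.pos_of_ne_zero hu; omega
    rcases F.sign_spec η hX with hs | hs <;> rw [hs] at hA ⊢ <;> nlinarith
  · rw [F.sum_mult_θ]
    have he : (1 : ℤ) ≤ Nat.card (D.expH β) := by exact_mod_cast Nat.card_pos
    have hmul : (Nat.card (D.expH β) : ℤ) * Nat.card (D.Orbits β) = (p : ℤ) - 1 := by
      rw [← Nat.cast_mul, D.card_expH_mul, Nat.cast_sub hp.out.one_le, Nat.cast_one]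
    have hA0 : (0 : ℤ) ≤ D.mult (F.θ q) 0 β := Int.natCast_nonneg _
    rcases F.ε_spec with hs | hs
    · rw [hs]; nlinarith
    rw [hs]
    have hout := F.mult_θ_eq q q.out q.out_eq
    rw [hs] at hout
    have hA1 : (1 : ℤ) ≤ D.mult (F.θ q) 0 β := by
      have : (0 : ℤ) ≤ D.mult (F.θ q) ((q.out : (ZMod p)ˣ) : ZMod p) β := Int.natCast_nonneg _
      omega
    rcases Nat.lt_or_ge (Nat.card (D.Orbits β)) 2 with ht | ht
    · have ht1 : Nat.card (D.Orbits β) = 1 := by
        have := Nat.card_pos (α := D.Orbits β); omega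
      haveI : Subsingleton (D.Orbits β) := (Nat.card_eq_one_iff_unique.1 ht1).1
      have hAu := F.mult_θ_eq q u (Subsingleton.elim _ _)
      have hu1 : (1 : ℤ) ≤ D.mult (F.θ q) (u : ZMod p) β := by
        have := Nat.pos_of_ne_zero hu; omega
      rw [hs] at hAu
      rw [ht1, Nat.cast_one, mul_one] at hmul
      have hA2 : (2 : ℤ) ≤ D.mult (F.θ q) 0 β := by omega
      nlinarith
    · have ht' : (2 : ℤ) ≤ Nat.card (D.Orbits β) := by exact_mod_cast ht
      have h2e : 2 * (Nat.card (D.expH β) : ℤ) ≤ (p : ℤ) - 1 := by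
        rw [← hmul]; nlinarith
      nlinarith

/-- Let G be a finite group whose order is divisible by the prime p exactly once and which has no normal subgroup of order p. Then every faithful character χ of G has degree at least (p − 1)/2: 2·χ(1) + 1 ≥ p. -/
theorem result {G : Type*} [Group G] [Finite G] (p : ℕ) (hp : p.Prime) (hdiv : p ∣ Nat.card G) (hsq : ¬ p ^ 2 ∣ Nat.card G) (hnn : ∀ H : Subgroup G, H.Normal → Nat.card H ≠ p) (χ : G → ℂ) (hχ : Cfsg.IsCharacter G χ) (hfaith : ∀ g : G, χ g = χ 1 → g = 1) : p ≤ 2 * Cfsg.charDegree χ + 1 := by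
  haveI : Fact p.Prime := ⟨hp⟩
  refine HalfDegree.faithful_degree hdiv hsq hnn χ hχ hfaith ?_
  intro K _ _ y hy hsqK hker ψ hψ
  exact HalfDegree.degree_eq_one hy hker ψ hψ fun ξ hξ hne n0 hn0 =>
    fixed_le hy hsqK ψ hψ ξ hξ hne n0 hn0

end Cfsg.Agent.S4503
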