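import Cfsg.Statements.S4504
import Cfsg.Agent.Lib.HalfPSL.Main

set_option autoImplicit false
open Cfsg

namespace Cfsg.Agent.S4504

/-- Let G be a finite group whose order is divisible by the prime p exactly once and which has no normal subgroup of order p. If G has a faithful character of degree exactly (p − 1)/2, then G modulo its centre is isomorphic to PSL(2, p). -/
theorem result {G : Type*} [Group G] [Finite G] (p : ℕ) (hp : p.Prime) (hdiv : p ∣ Nat.card G) (hsq : ¬ p ^ 2 ∣ Nat.card G) (hnn : ∀ H : Subgroup G, H.Normal → Nat.card H ≠ p) (χ : G → ℂ) (hχ : Cfsg.IsCharacter G χ) (hfaith : ∀ g : G, χ g = χ 1 → g = 1) (hdeg : 2 * Cfsg.charDegree χ + 1 = p) : Nonempty ((G ⧸ Subgroup.center G) ≃* Matrix.ProjectiveSpecialLinearGroup (Fin 2) (ZMod p)) := by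
  classical
  haveI : Fact p.Prime := ⟨hp⟩
  obtain ⟨x, hx⟩ := exists_prime_orderOf_dvd_card' p hdiv
  have hp5 : 5 ≤ p := by
    by_contra hlt
    have h2 := hp.two_le
    have h4 : p ≠ 4 := fun h => by rw [h] at hp; norm_num at hp
    have h3 : p = 3 := by omega
    obtain ⟨n, ρ, hρ⟩ := id hχ
    have h1 : χ 1 = 1 := by
      rw [← CfsgLib.Chars17.cast_charDegree hχ, show charDegree χ = 1 by omega, Nat.cast_one]
    obtain ⟨f, hf⟩ := CfsgLib.LinearExt.exists_unitsHom hχ h1
    have hab : ∀ a b : G, a * b = b * a := by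
      intro a b
      have h : χ (a * b * a⁻¹ * b⁻¹) = χ 1 := by
        rw [hf]; simp [mul_comm, mul_left_comm]
      exact commutatorElement_eq_one_iff_mul_comm.1 (hfaith _ h)
    refine hnn (Subgroup.zpowers x) ⟨fun a ha g => by rwa [hab g a, mul_inv_cancel_right]⟩ ?_
    rw [Nat.card_zpowers, hx]
  exact CfsgLib.HalfPSL.psl_of_half hx hsq hnn χ hχ hfaith hdeg hp5

end Cfsg.Agent.S4504
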