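import Cfsg.Statements.S0997
import Cfsg.Agent.Lib.Small.BrauerTuan

set_option autoImplicit false
open Cfsg

namespace Cfsg.Agent.S0997

/-- Let G be a non-cyclic finite simple group of order p * q^b * g₀, where p and q are distinct primes and g₀ < p - 1. Then either p has the form 2^m + 1 or 2^m - 1 and G is isomorphic to the projective special linear group of dimension 2 over the field with p elements, or p = 2^m + 1 > 3 and G is isomorphic to that group over the field with 2^m elements. -/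
theorem result {G : Type*} [Group G] [Finite G] [IsSimpleGroup G] (hG : ¬ IsCyclic G) (p q b g₀ : ℕ) (hp : p.Prime) (hq : q.Prime) (hpq : p ≠ q) (hG' : Nat.card G = p * q ^ b * g₀) (hg : g₀ < p - 1) : (∃ (m : ℕ) (F : Type) (_ : Field F) (_ : Fintype F), Fintype.card F = p ∧ (p = 2 ^ m + 1 ∨ p = 2 ^ m - 1) ∧ Nonempty (G ≃* Matrix.ProjectiveSpecialLinearGroup (Fin 2) F)) ∨ (∃ (m : ℕ) (F : Type) (_ : Field F) (_ : Fintype F), Fintype.card F = 2 ^ m ∧ p = 2 ^ m + 1 ∧ 3 < p ∧ Nonempty (G ≃* Matrix.ProjectiveSpecialLinearGroup (Fin 2) F)) := by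
  classical
  haveI : Fintype G := Fintype.ofFinite G
  have hnc : ¬ IsMulCommutative G := fun hc => hG (by
    haveI := Fact.mk (CfsgLib.Burnside.prime_card_of_comm (fun a b => hc.is_comm.comm a b))
    exact isCyclic_of_prime_card rfl)
  have hg0 : g₀ ≠ 0 := fun e => by
    rw [e, mul_zero] at hG'
    exact Nat.card_pos.ne' hG'
  obtain ⟨v, g', hqg', hgg'⟩ := Nat.exists_eq_pow_mul_and_not_dvd hg0 q hq.ne_one
  have hle : g' ≤ g₀ := hgg' ▸ Nat.le_mul_of_pos_left g' (pow_pos hq.pos v)
  have hcard : Nat.card G = p * (q ^ (b + v) * g') := by rw [hG', hgg', pow_add]; ring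
  have hp5 : 5 ≤ p := by
    by_contra hlt
    have h2 := hp.two_le
    have h4 : p ≠ 4 := fun h => by rw [h] at hp; norm_num at hp
    have hg'0 : 0 < g' := Nat.pos_of_ne_zero fun e => hqg' (e ▸ dvd_zero q)
    have h3 : g' = 1 := by omega
    have hsol : Group.IsSolvable G := CfsgLib.Burnside.isSolvable_of_card_eq hp hq 1 (b + v)
      (by rw [hcard, h3, pow_one, mul_one])
    exact hnc ⟨⟨fun a b => IsSimpleGroup.comm_iff_isSolvable.2 hsol a b⟩⟩
  exact CfsgLib.Small.BrauerTuan.main hnc hp hp5 hq hpq hcard (lt_of_le_of_lt hle hg) hqg'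

end Cfsg.Agent.S0997
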