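import Cfsg.Statements.S0960
import Cfsg.Agent.Lib.CyclicDefect.Principal

set_option autoImplicit false
open Cfsg

namespace Cfsg.Agent.S0960

/-- Let p be an odd prime and G a finite group whose Sylow p-subgroup P has order p; let e be the index of C_G(P) in N_G(P) (a divisor of p − 1) and fix a maximal ideal M of the algebraic integers containing p. Then the principal block of G consists of exactly e + (p - 1) / e irreducible characters, and the degree d of each of them satisfies d ≡ 1, d ≡ -1, d ≡ e or d ≡ -e modulo p. -/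
theorem result {G : Type*} [Group G] [Finite G] (p : ℕ) [Fact p.Prime] (M : Ideal Cfsg.AlgInt) (hM : Cfsg.IsPModular p M) (hodd : p ≠ 2) (P : Sylow p G) (hP : Nat.card P = p) (e : ℕ) (he : (Subgroup.centralizer ((P : Subgroup G) : Set G)).relIndex (Subgroup.normalizer ((P : Subgroup G) : Set G)) = e) : Nat.card (Cfsg.principalBlock M G) = e + (p - 1) / e ∧ ∀ χ ∈ Cfsg.principalBlock M G, ((Cfsg.charDegree (χ : G → ℂ) : ℤ) ≡ 1 [ZMOD p] ∨ (Cfsg.charDegree (χ : G → ℂ) : ℤ) ≡ -1 [ZMOD p] ∨ (Cfsg.charDegree (χ : G → ℂ) : ℤ) ≡ (e : ℤ) [ZMOD p] ∨ (Cfsg.charDegree (χ : G → ℂ) : ℤ) ≡ -(e : ℤ) [ZMOD p]) := by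
  classical
  haveI := Fintype.ofFinite G
  obtain ⟨L, rfl⟩ := CfsgLib.CyclicDefect.exists_loc P hP
  letI := Fintype.ofFinite L.C
  letI := Fintype.ofFinite L.O
  letI := Fintype.ofFinite L.Dual
  obtain ⟨X, Y, εY, hmem, hdisj, hXc, hYc, hεY, hX, hY, hreg, hrel⟩ :=
    L.exists_decomposition hM hodd (CfsgLib.Characters.principalIrr L.O)
  rw [L.indB_principal hM] at hmem
  have hee : L.eIdx (CfsgLib.Characters.principalIrr L.O) = e := L.eIdx_principal.trans he
  refine ⟨?_, fun χ hχ => ?_⟩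
  · rw [show principalBlock M G = ↑(X ∪ Y) from Set.ext fun χ => by simpa using hmem χ,
      Nat.card_coe_set_eq, Set.ncard_coe_finset, Finset.card_union_of_disjoint hdisj, hXc, hYc,
      L.card_idx, hee]
  · rcases (hmem χ).1 hχ with h | h
    · obtain ⟨hs, -, K, hK⟩ := hX χ h
      rw [L.wOrb_principal, L.charDegree_principal, mul_one, Nat.cast_one, mul_one] at hK
      rcases hs with hs | hs <;> rw [hs] at hK
      · exact Or.inl (CfsgLib.CyclicDefect.Loc.modEq_of_eq hK)
      · exact Or.inr (Or.inl (CfsgLib.CyclicDefect.Loc.modEq_of_eq hK))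
    · obtain ⟨K, hK⟩ := hY χ h
      rw [L.wOrb_principal, L.charDegree_principal, mul_one, mul_one, hee] at hK
      rcases hεY with hs | hs <;> rw [hs] at hK
      · rw [one_mul] at hK
        exact Or.inr (Or.inr (Or.inl (CfsgLib.CyclicDefect.Loc.modEq_of_eq hK)))
      · rw [neg_one_mul] at hK
        exact Or.inr (Or.inr (Or.inr (CfsgLib.CyclicDefect.Loc.modEq_of_eq hK)))

end Cfsg.Agent.S0960
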