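import Cfsg.Statements.S4441
import Cfsg.Agent.Lib.CyclicDefect.Principal

set_option autoImplicit false
open Cfsg

namespace Cfsg.Agent.S4441

/-- Let p be an odd prime and G a finite group whose Sylow p-subgroup P has order p; let C = C_G(P), N = N_G(P), e the index of C in N and t = (p − 1)/e; fix a maximal ideal M of the algebraic integers containing p and let B₀ be the principal block. Then B₀ is the disjoint union of a set X of e characters and a set Y of t characters such that: each χ ∈ X has a sign ε_χ with χ(1) ≡ ε_χ (mod p) and χ(x y) = ε_χ for every non-identity x ∈ P and every p-regular y ∈ C; all members of Y agree on the p-regular elements of G; there is one sign ε with θ(1) ≡ ε e (mod p) for every θ ∈ Y; and for every θ ∈ Y and every p-regular g, ε θ(g) = Σ_{χ ∈ X} ε_χ χ(g). -/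
theorem result {G : Type*} [Group G] [Fintype G] (p : ℕ) [Fact p.Prime] (M : Ideal Cfsg.AlgInt) (hM : Cfsg.IsPModular p M) (hodd : p ≠ 2) (P : Sylow p G) (hP : Nat.card P = p) (e : ℕ) (he : (Subgroup.centralizer ((P : Subgroup G) : Set G)).relIndex (Subgroup.normalizer ((P : Subgroup G) : Set G)) = e) : ∃ X Y : Set (Cfsg.IrrCharacter G), Cfsg.principalBlock M G = X ∪ Y ∧ Disjoint X Y ∧ Nat.card X = e ∧ Nat.card Y = (p - 1) / e ∧ ∃ (εX : Cfsg.IrrCharacter G → ℤ) (ε : ℤ), (∀ χ ∈ X, (εX χ = 1 ∨ εX χ = -1) ∧ (Cfsg.charDegree (χ : G → ℂ) : ℤ) ≡ εX χ [ZMOD p] ∧ ∀ x : G, x ∈ (P : Subgroup G) → x ≠ 1 → ∀ y : G, y ∈ Subgroup.centralizer ((P : Subgroup G) : Set G) → ¬ p ∣ orderOf y → (χ : G → ℂ) (x * y) = (εX χ : ℂ)) ∧ (ε = 1 ∨ ε = -1) ∧ (∀ θ ∈ Y, (Cfsg.charDegree (θ : G → ℂ) : ℤ) ≡ ε * (e : ℤ) [ZMOD p]) ∧ (∀ θ ∈ Y, ∀ θ' ∈ Y, ∀ g : G, ¬ p ∣ orderOf g → (θ : G → ℂ) g = (θ' : G → ℂ) g) ∧ ∀ θ ∈ Y, ∀ g : G, ¬ p ∣ orderOf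 g → (ε : ℂ) * (θ : G → ℂ) g = ∑ᶠ χ ∈ X, (εX χ : ℂ) * (χ : G → ℂ) g := by
  classical
  obtain ⟨L, rfl⟩ := CfsgLib.CyclicDefect.exists_loc P hP
  letI := Fintype.ofFinite L.C
  letI := Fintype.ofFinite L.O
  letI := Fintype.ofFinite L.Dual
  obtain ⟨X, Y, εY, hmem, hdisj, hXc, hYc, hεY, hX, hY, hreg, hrel⟩ :=
    L.exists_decomposition hM hodd (CfsgLib.Characters.principalIrr L.O)
  rw [L.indB_principal hM] at hmem
  have hee : L.eIdx (CfsgLib.Characters.principalIrr L.O) = e := L.eIdx_principal.trans he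
  have hXB : ∀ χ ∈ X, χ ∈ L.indB hM (CfsgLib.Characters.principalIrr L.O) := fun χ hχ => by
    rw [L.indB_principal hM]
    exact (hmem χ).2 (Or.inl hχ)
  refine ⟨↑X, ↑Y, Set.ext fun χ => (by simpa using hmem χ), Finset.disjoint_coe.2 hdisj, ?_, ?_,
    fun χ => L.eV χ (CfsgLib.Characters.principalIrr L.O), εY, fun χ hχ => ?_, hεY, fun θ hθ => ?_,
    fun θ hθ θ' hθ' g hg => hreg θ (Finset.mem_coe.1 hθ) θ' (Finset.mem_coe.1 hθ') g hg,
    fun θ hθ g hg => ?_⟩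
  · rw [Nat.card_coe_set_eq, Set.ncard_coe_finset, hXc, hee]
  · rw [Nat.card_coe_set_eq, Set.ncard_coe_finset, hYc, L.card_idx, hee]
  · obtain ⟨hs, ht, K, hK⟩ := hX χ (Finset.mem_coe.1 hχ)
    refine ⟨hs, ?_, fun x hx hx1 y hy hyr =>
      L.value_principal hM (hXB χ (Finset.mem_coe.1 hχ)) ht hx hx1 hy hyr⟩
    rw [L.wOrb_principal, L.charDegree_principal, mul_one, Nat.cast_one, mul_one] at hK
    exact CfsgLib.CyclicDefect.Loc.modEq_of_eq hK
  · obtain ⟨K, hK⟩ := hY θ (Finset.mem_coe.1 hθ)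
    rw [L.wOrb_principal, L.charDegree_principal, mul_one, mul_one, hee] at hK
    exact CfsgLib.CyclicDefect.Loc.modEq_of_eq hK
  · rw [finsum_mem_coe_finset]
    exact hrel θ (Finset.mem_coe.1 hθ) g hg

end Cfsg.Agent.S4441
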