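import Cfsg.Statements.S0495
import Cfsg.Agent.Lib.Small.SylowLine

set_option autoImplicit false
open Cfsg

namespace Cfsg.Agent.S0495

theorem psl_check : CfsgLib.Small.PSLCheck 7 3 [1] (2 : ZMod 7) (3 : ZMod 7) := by
  decide +kernel

theorem psl_param : CfsgLib.Small.PSLParam 7 3 (2 : ZMod 7) (3 : ZMod 7) := by
  constructor <;> decide +kernel

theorem one_ne_two7 : (1 : ZMod 7) ≠ 2 := by decide

open MulAction in
/-- A simple group of order 168 has no element of order two commuting with one of order three. -/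
theorem no_commuting_two_three {G : Type*} [Group G] [Finite G] [IsSimpleGroup G] (h : Nat.card G = 168)
    {i x : G} (hi : orderOf i = 2) (hx : orderOf x = 3) (hix : i * x = x * i) : False := by
  classical
  have : Fact (Nat.Prime 3) := ⟨Nat.prime_three⟩
  have : Fact (Nat.Prime 2) := ⟨Nat.prime_two⟩
  have hG := CfsgLib.Small.nc_of_not_prime (G := G) (by rw [h]; norm_num)
  have hP : ∀ P : Sylow 3 G, Nat.card P = 3 := fun P => by
    simpa using CfsgLib.Small.card_sylow_of_card_eq (k := 1) (m := 56) (by rw [h]; norm_num) (by norm_num) P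
  obtain ⟨P, hxP, -⟩ := CfsgLib.Small.exists_unique_sylow_mem hx hP
  obtain ⟨e, he1, he2, h3C, -, hmul⟩ := CfsgLib.Small.sylow_prime_order_data hG P (hP P)
  have he : e = 2 := by
    have := Nat.le_of_dvd (by norm_num) he2
    omega
  have hx1 : x ≠ 1 := fun e => by rw [e, orderOf_one] at hx; norm_num at hx
  have hiC : i ∈ Subgroup.centralizer ((P : Subgroup G) : Set G) := by
    rw [Subgroup.mem_centralizer_iff]
    intro y hy
    rw [SetLike.mem_coe, CfsgLib.Small.eq_zpowers_of_mem (hP P) hxP hx1] at hy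
    obtain ⟨n, rfl⟩ := hy
    exact (Commute.zpow_left (show Commute x i from hix.symm) n).eq
  have h2C : 2 ∣ Nat.card (Subgroup.centralizer ((P : Subgroup G) : Set G)) := by
    rw [← hi, ← Subgroup.orderOf_mk i hiC]; exact orderOf_dvd_natCard _
  have hn := CfsgLib.Small.card_sylow_mem (p := 3) hG (k := 1) (m := 56) one_ne_zero
    (by rw [h]; norm_num) (by norm_num)
  rw [show ((Nat.divisors 56).filter fun n => n % 3 = 1 ∧ 1 < n) = {4, 7, 28} from by decide] at hn
  simp only [Finset.mem_insert, Finset.mem_singleton] at hn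
  have h4 := CfsgLib.Small.two_mul_card_dvd_factorial_card_sylow (p := 3) hG (by rw [h]; norm_num)
  rw [he, h] at hmul
  have hn7 : Nat.card (Sylow 3 G) = 7 := by
    rcases hn with h0 | h0 | h0
    · rw [h0, h] at h4; exact absurd h4 (by decide)
    · exact h0
    · rw [h0] at hmul
      obtain ⟨c, hc⟩ := h2C
      obtain ⟨d, hd⟩ := h3C
      omega
  letI := Fintype.ofFinite (Sylow 3 G)
  set σ : Equiv.Perm (Sylow 3 G) := toPerm i with hσ
  have hsign : Equiv.Perm.sign σ = 1 := CfsgLib.Small.sign_toPerm hG i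
  have hσ2 : σ ^ 2 = 1 := by
    have : (toPermHom G (Sylow 3 G)) (i ^ 2) = 1 := by
      rw [← hi, pow_orderOf_eq_one, map_one]
    rwa [map_pow] at this
  have hσ1 : σ ≠ 1 := by
    intro e
    rcases CfsgLib.Small.eq_bot_or_top (toPermHom G (Sylow 3 G)).ker with hk | hk
    · have hi1 : i = 1 := (MonoidHom.ker_eq_bot_iff _).mp hk
        (show toPermHom G (Sylow 3 G) i = toPermHom G (Sylow 3 G) 1 by rw [map_one]; exact e)
      rw [hi1, orderOf_one] at hi; norm_num at hi
    · obtain ⟨Q, R, hQR⟩ : ∃ Q R : Sylow 3 G, Q ≠ R := by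
        have : Nontrivial (Sylow 3 G) := Finite.one_lt_card_iff_nontrivial.mp (by omega)
        exact exists_pair_ne _
      obtain ⟨g, hg⟩ := exists_smul_eq G Q R
      have hg1 : toPermHom G (Sylow 3 G) g = 1 := MonoidHom.mem_ker.mp (hk ▸ Subgroup.mem_top g)
      have := Equiv.ext_iff.mp hg1 Q
      exact hQR (this.symm.trans hg)
  obtain ⟨k, hk⟩ := Equiv.Perm.cycleType_prime_order (σ := σ)
    (by rw [orderOf_eq_prime hσ2 hσ1]; exact Nat.prime_two)
  rw [orderOf_eq_prime hσ2 hσ1] at hk
  have hsupp : σ.support.card = 2 * (k + 1) := by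
    rw [← Equiv.Perm.sum_cycleType, hk, Multiset.sum_replicate, smul_eq_mul, mul_comm]
  have hsgn : (-1 : ℤˣ) ^ (2 * (k + 1) + (k + 1)) = 1 := by
    have := Equiv.Perm.sign_of_cycleType σ
    rw [hsign, hk, Multiset.sum_replicate, Multiset.card_replicate, smul_eq_mul, mul_comm] at this
    exact this.symm
  have hkodd : Even (k + 1) := by
    rcases Nat.even_or_odd (k + 1) with h0 | h0
    · exact h0
    · rw [pow_add, pow_mul, h0.neg_one_pow] at hsgn
      simp at hsgn
  have hle : σ.support.card ≤ 7 := by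
    rw [← hn7, Nat.card_eq_fintype_card]; exact Finset.card_le_univ _
  -- `x` permutes the points fixed by `i`
  have hxpg : IsPGroup 3 (Subgroup.zpowers x) :=
    IsPGroup.of_card (n := 1) (by rw [Nat.card_zpowers, hx, pow_one])
  let _ : MulAction (Subgroup.zpowers x) {Q : Sylow 3 G // σ Q = Q} :=
    { smul := fun g Q => ⟨(g : G) • Q.1, by
        obtain ⟨n, hn⟩ := g.2
        have hc : Commute i (g : G) := hn ▸ (Commute.zpow_right hix n)
        show i • (g : G) • Q.1 = (g : G) • Q.1
        rw [← mul_smul, hc.eq, mul_smul]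
        exact congrArg ((g : G) • ·) Q.2⟩
      one_smul := fun Q => Subtype.ext (one_smul G Q.1)
      mul_smul := fun a b Q => Subtype.ext (mul_smul (a : G) (b : G) Q.1) }
  have hmod := hxpg.card_modEq_card_fixedPoints {Q : Sylow 3 G // σ Q = Q}
  have hfix : Nat.card (fixedPoints (Subgroup.zpowers x) {Q : Sylow 3 G // σ Q = Q}) = 1 := by
    have h1 := CfsgLib.Small.card_fixedBy_sylow_of_orderOf_eq hP hx
    have hPσ : σ P = P := Sylow.smul_eq_iff_mem_normalizer.mpr
      (CfsgLib.Small.centralizer_le_normalizer' _ hiC)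
    have hPx : x • P = P := Sylow.smul_eq_iff_mem_normalizer.mpr (Subgroup.le_normalizer hxP)
    rw [Nat.card_eq_one_iff_unique] at h1 ⊢
    refine ⟨⟨fun a b => ?_⟩, ⟨⟨⟨P, hPσ⟩, ?_⟩⟩⟩
    · have ha : x • a.1.1 = a.1.1 := congrArg Subtype.val (a.2 ⟨x, Subgroup.mem_zpowers x⟩)
      have hb : x • b.1.1 = b.1.1 := congrArg Subtype.val (b.2 ⟨x, Subgroup.mem_zpowers x⟩)
      haveI := h1.1
      have := congrArg Subtype.val (Subsingleton.elim (⟨a.1.1, ha⟩ : fixedBy (Sylow 3 G) x) ⟨b.1.1, hb⟩)
      exact Subtype.ext (Subtype.ext this)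
    · rintro ⟨g, hg⟩
      refine Subtype.ext ?_
      show g • P = P
      have hle : Subgroup.zpowers x ≤ stabilizer G P := Subgroup.zpowers_le.mpr hPx
      exact hle hg
  rw [hfix] at hmod
  have hcard : Nat.card {Q : Sylow 3 G // σ Q = Q} = 7 - σ.support.card := by
    rw [Nat.card_eq_fintype_card, Fintype.card_subtype]
    have hs : (Finset.univ.filter fun Q => σ Q = Q) = σ.supportᶜ := by
      ext Q; simp [Equiv.Perm.mem_support]
    rw [hs, Finset.card_compl, ← Nat.card_eq_fintype_card, hn7]
  rw [hcard, hsupp, Nat.ModEq] at hmod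
  obtain ⟨j, hj⟩ := hkodd
  omega

/-- A simple group of order 168 is isomorphic to the projective special linear group of dimension 2 over the field with
7 elements. -/
theorem result {G : Type*} [Group G] [Finite G] [IsSimpleGroup G]
    (h : Nat.card G = 168) {F : Type*} [Field F] [Fintype F] (hF : Fintype.card F = 7) :
    Nonempty (G ≃* Matrix.ProjectiveSpecialLinearGroup (Fin 2) F) := by
  have : Fact (Nat.Prime 7) := ⟨by norm_num⟩
  have hG := CfsgLib.Small.nc_of_not_prime (G := G) (by rw [h]; norm_num)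
  have hm := CfsgLib.Small.card_sylow_mem (p := 7) hG (k := 1) (m := 24) one_ne_zero
    (by rw [h]; norm_num) (by norm_num)
  rw [show ((Nat.divisors 24).filter fun n => n % 7 = 1 ∧ 1 < n) = {8} from by decide,
    Finset.mem_singleton] at hm
  refine CfsgLib.Small.nonempty_mulEquiv_psl_field hF
    (CfsgLib.Small.nonempty_mulEquiv_psl (p := 7) (m := 3) (E := [1]) (a0 := 2) (ν := 3)
      (by norm_num) psl_param psl_check (by rw [h]) hm ?_)
  intro k hk x t φ hφ hxn hxs htn ht0 hrel
  obtain rfl : k = 1 := List.mem_singleton.mp hk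
  have hx3 : orderOf x = 3 := by
    refine orderOf_eq_prime (hp := ⟨Nat.prime_three⟩) (hφ ?_) ?_
    · rw [map_pow, map_one]
      apply Equiv.ext
      intro z
      cases z with
      | none => simp [pow_succ, hxn]
      | some y =>
        simp only [pow_succ, pow_zero, one_mul, Equiv.Perm.mul_apply, hxs, Equiv.Perm.one_apply,
          ← mul_assoc]
        rw [show (2 : ZMod 7) * 2 * 2 = 1 from rfl, one_mul]
    · intro e
      have h1 := hxs 1
      rw [e, map_one, Equiv.Perm.one_apply] at h1
      exact absurd (Option.some.inj h1) (fun e2 => one_ne_two7 (e2.trans (mul_one _)))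
  have hcomm : Commute t x := by
    apply hφ
    rw [map_mul, map_mul]
    apply Equiv.ext
    intro z
    rw [Equiv.Perm.mul_apply, Equiv.Perm.mul_apply]
    cases z with
    | none => rw [hxn, htn, hxs, mul_zero]
    | some y =>
      rw [hxs, hrel y]
      cases φ t (some y) with
      | none => simp [hxn]
      | some w => simp [hxs]
  have heven : Even (orderOf t) := by
    by_contra hodd
    obtain ⟨j, hj⟩ := Nat.not_even_iff_odd.mp hodd
    have h2 : ∀ n : ℕ, φ ((t ^ 2) ^ n) none = none := by
      intro n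
      induction n with
      | zero => simp
      | succ n ih =>
        rw [pow_succ', map_mul, Equiv.Perm.mul_apply, ih, pow_two, map_mul, Equiv.Perm.mul_apply,
          htn, ht0]
    have h3 : (t ^ 2) ^ (j + 1) = t := by
      rw [← pow_mul, show 2 * (j + 1) = orderOf t + 1 by omega, pow_succ, pow_orderOf_eq_one, one_mul]
    have := h2 (j + 1)
    rw [h3, htn] at this
    simp at this
  obtain ⟨j, hj⟩ := heven
  have hi : orderOf (t ^ j) = 2 := by
    have hpos : 0 < orderOf t := orderOf_pos t
    refine orderOf_eq_prime (hp := ⟨Nat.prime_two⟩) ?_ (pow_ne_one_of_lt_orderOf (by omega) (by omega))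
    rw [← pow_mul, show j * 2 = orderOf t by omega, pow_orderOf_eq_one]
  exact no_commuting_two_three h hi hx3 (hcomm.pow_left j).eq


end Cfsg.Agent.S0495
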