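import Cfsg.Statements.S0998
import Cfsg.Agent.Lib.PQOrders.TwoPrimes
import Cfsg.Agent.Lib.PQOrders.Three
import Cfsg.Agent.Lib.FewOrders.Prime
import Cfsg.Agent.Lib.Small.OrderSixty
import Cfsg.Agent.S0183
import Cfsg.Agent.S0495
-- import your own Cfsg.Agent.* helpers here

set_option autoImplicit false
open Cfsg

namespace Cfsg.Agent.S0998

open CfsgLib in
/-- With two self-centralizing Sylow subgroups of prime order every centralizer is a `p`-group. -/
theorem isCN {G : Type*} [Group G] [Finite G] [IsSimpleGroup G] {p q r b : ℕ} (hp : p.Prime)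
    (hq : q.Prime) (hr : r.Prime) (hpq : p ≠ q) (hpr : p ≠ r) (hqr : q ≠ r)
    (hG : Nat.card G = p * r * q ^ b) : Cfsg.IsCNGroup G := by
  intro g hg
  haveI := Fintype.ofFinite G
  have key : ∀ l m : ℕ, l.Prime → m.Prime → l ≠ m → l ≠ q → q ≠ m → Nat.card G = m * l * q ^ b →
      l ∣ Nat.card (Subgroup.centralizer ({g} : Set G)) →
      Group.IsNilpotent (Subgroup.centralizer ({g} : Set G)) := by
    intro l m hl hm hlm hlq hqm hG' hd
    haveI := Fact.mk hl
    have hsyl : ∀ Q : Sylow l G, Nat.card (Q : Subgroup G) = l := fun Q => by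
      simpa using Small.card_sylow_of_card_eq (k := 1) (m := m * q ^ b) (by rw [hG']; ring)
        (fun h => by
          rcases hl.dvd_mul.1 h with h | h
          · exact hlm ((Nat.prime_dvd_prime_iff_eq hl hm).1 h)
          · exact hlq ((Nat.prime_dvd_prime_iff_eq hl hq).1 (hl.dvd_of_dvd_pow h))) Q
    have hself : ∀ Q : Sylow l G,
        Subgroup.centralizer ((Q : Subgroup G) : Set G) = (Q : Subgroup G) := fun Q =>
      CfsgLib.Blocks.centralizer_sylow_eq hm hq hqm.symm hlm.symm hlq.symm
        (show Nat.card G = m ^ 1 * q ^ b * l by rw [hG']; ring) Q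
    obtain ⟨y, hy⟩ := exists_prime_orderOf_dvd_card' (G := Subgroup.centralizer ({g} : Set G)) l hd
    rw [← Subgroup.orderOf_coe] at hy
    obtain ⟨Q, hQ, -⟩ := Small.exists_unique_sylow_mem hy hsyl
    have hy1 : (y : G) ≠ 1 := fun h => hl.ne_one (by rw [← hy, h, orderOf_one])
    have hgQ : g ∈ (Q : Subgroup G) := by
      rw [← hself Q, Small.eq_zpowers_of_mem (hsyl Q) hQ hy1, Subgroup.zpowers_eq_closure,
        Subgroup.centralizer_closure, Subgroup.mem_centralizer_singleton_iff]
      exact (Subgroup.mem_centralizer_singleton_iff.1 y.2).symm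
    have hQg : Subgroup.centralizer ({g} : Set G) = (Q : Subgroup G) := by
      conv_rhs => rw [← hself Q, Small.eq_zpowers_of_mem (hsyl Q) hgQ hg, Subgroup.zpowers_eq_closure,
        Subgroup.centralizer_closure]
    rw [hQg]
    exact Q.2.isNilpotent
  by_cases hdp : p ∣ Nat.card (Subgroup.centralizer ({g} : Set G))
  · exact key p r hp hr hpr hpq hqr (by rw [hG]; ring) hdp
  by_cases hdr : r ∣ Nat.card (Subgroup.centralizer ({g} : Set G))
  · exact key r p hr hp hpr.symm hqr.symm hpq.symm (by rw [hG]) hdr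
  have hd : Nat.card (Subgroup.centralizer ({g} : Set G)) ∣ (p * r) * q ^ b :=
    hG ▸ Subgroup.card_subgroup_dvd_card _
  have hd' := (Nat.Coprime.mul_right (hp.coprime_iff_not_dvd.2 hdp).symm
    (hr.coprime_iff_not_dvd.2 hdr).symm).dvd_of_dvd_mul_left hd
  obtain ⟨k, -, hk⟩ := (Nat.dvd_prime_pow hq).1 hd'
  haveI := Fact.mk hq
  exact (IsPGroup.of_card hk).isNilpotent

/-- The case `q = 2`. -/
theorem card_cases {G : Type*} [Group G] [Finite G] [IsSimpleGroup G] (hnc : ¬ IsMulCommutative G)
    {p r b : ℕ} (hp : p.Prime) (hr : r.Prime) (hp2 : p ≠ 2) (hlt : p < r)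
    (hG : Nat.card G = p * r * 2 ^ b) (hb : 1 ≤ b) : Nat.card G = 60 ∨ Nat.card G = 168 := by
  haveI := Fintype.ofFinite G
  obtain rfl := CfsgLib.PQOrders.smaller_eq_three hnc hp hr hp2 hlt hG
  exact CfsgLib.PQOrders.card_three hnc hr (by omega) (by omega) le_rfl one_le_two hb
    (by rw [hG, pow_one])

/-- A non-cyclic finite simple group whose order has the form p * r * q^b for distinct primes p, q, r is isomorphic to the projective special linear group of dimension 2 over the field with 5 or with 7 elements. -/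
theorem result {G : Type*} [Group G] [Finite G] [IsSimpleGroup G] (hG : ¬ IsCyclic G) (p q r b : ℕ) (hp : p.Prime) (hq : q.Prime) (hr : r.Prime) (hpq : p ≠ q) (hpr : p ≠ r) (hqr : q ≠ r) (hG' : Nat.card G = p * r * q ^ b) : (∃ (F : Type) (_ : Field F) (_ : Fintype F), Fintype.card F = 5 ∧ Nonempty (G ≃* Matrix.ProjectiveSpecialLinearGroup (Fin 2) F)) ∨ (∃ (F : Type) (_ : Field F) (_ : Fintype F), Fintype.card F = 7 ∧ Nonempty (G ≃* Matrix.ProjectiveSpecialLinearGroup (Fin 2) F)) := by
  classical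
  haveI := Fintype.ofFinite G
  have hnc : ¬ IsMulCommutative G := fun hc => hG (by
    let _ : CommGroup G := { (inferInstance : Group G) with mul_comm := hc.is_comm.comm }
    exact isCyclic_of_prime_card (p := (Nat.card G)) (hp := ⟨IsSimpleGroup.prime_card⟩) rfl)
  have htwo : ∀ s t : ℕ, s.Prime → t.Prime →
      ¬ ∀ l : ℕ, l.Prime → l ∣ Nat.card G → l = s ∨ l = t := by
    intro s t hs ht h
    have hsol := CfsgLib.FewOrders.isSolvable_of_two_primes hs ht h
    exact CfsgLib.Small.nc_iff.1 hnc (IsSimpleGroup.comm_iff_isSolvable.2 hsol)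
  have hfin : Nat.card G = 60 ∨ Nat.card G = 168 := by
    have hcyc : ∀ m : ℕ, Nat.card G = 2 * m → m % 2 = 1 → False := by
      intro m hm hmodd
      haveI : Fact (Nat.Prime 2) := ⟨Nat.prime_two⟩
      obtain ⟨P⟩ : Nonempty (Sylow 2 G) := inferInstance
      have hP : Nat.card (P : Subgroup G) = 2 := by
        simpa using CfsgLib.Small.card_sylow_of_card_eq (k := 1) (m := m) (by rw [hm, pow_one])
          (by omega) P
      haveI : IsCyclic (P : Subgroup G) := isCyclic_of_prime_card hP
      exact CfsgLib.Small.not_normalizer_le_centralizer hnc ⟨m, hm⟩ P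
        (IsCyclic.normalizer_le_centralizer ((Nat.minFac_eq_two_iff _).2 ⟨m, hm⟩) inferInstance)
    by_cases hq2 : q = 2
    · subst hq2
      have hb : 1 ≤ b := by
        by_contra h
        refine htwo p r hp hr fun l hl hd => ?_
        rw [hG', show b = 0 by omega, pow_zero, mul_one] at hd
        rcases hl.dvd_mul.1 hd with h | h
        · exact Or.inl ((Nat.prime_dvd_prime_iff_eq hl hp).1 h)
        · exact Or.inr ((Nat.prime_dvd_prime_iff_eq hl hr).1 h)
      rcases lt_or_gt_of_ne hpr with h | h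
      · exact card_cases hnc hp hr hpq h hG' hb
      · exact card_cases hnc hr hp hqr.symm h (by rw [hG']; ring) hb
    have hqodd := Nat.odd_iff.1 ((hq.odd_of_ne_two hq2).pow (n := b))
    by_cases hp2 : p = 2
    · subst hp2
      exact absurd (hcyc (r * q ^ b) (by rw [hG', mul_assoc])
        (Nat.odd_iff.1 ((hr.odd_of_ne_two hpr.symm).mul (Nat.odd_iff.2 hqodd)))) id
    by_cases hr2 : r = 2
    · subst hr2
      exact absurd (hcyc (p * q ^ b) (by rw [hG']; ring)
        (Nat.odd_iff.1 ((hp.odd_of_ne_two hp2).mul (Nat.odd_iff.2 hqodd)))) id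
    exfalso
    have hsol := S0183.result (G := G)
      (by rw [hG']; exact ((hp.odd_of_ne_two hp2).mul (hr.odd_of_ne_two hr2)).mul (Nat.odd_iff.2 hqodd))
      (isCN hp hq hr hpq hpr hqr hG')
    exact CfsgLib.Small.nc_iff.1 hnc (IsSimpleGroup.comm_iff_isSolvable.2 hsol)
  haveI : Fact (Nat.Prime 5) := ⟨by norm_num⟩
  haveI : Fact (Nat.Prime 7) := ⟨by norm_num⟩
  rcases hfin with h | h
  · exact Or.inl ⟨ZMod 5, inferInstance, inferInstance, ZMod.card 5,
      CfsgLib.Small.nonempty_mulEquiv_psl_five h⟩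
  · exact Or.inr ⟨ZMod 7, inferInstance, inferInstance, ZMod.card 7,
      S0495.result h (ZMod.card 7)⟩

end Cfsg.Agent.S0998
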