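import Cfsg.Statements.S3225
import Mathlib.GroupTheory.Transfer
import Mathlib.Algebra.Group.TypeTags.Basic
import Mathlib.Data.ZMod.Basic

set_option autoImplicit false
open Cfsg

namespace Cfsg.Agent.S3225

theorem mul_mem_iff {G : Type*} [Group G] {S M : Subgroup G} (hM : M.relIndex S = 2) {a b : G}
    (ha : a ∈ S) (hb : b ∈ S) : a * b ∈ M ↔ (a ∈ M ↔ b ∈ M) := by
  have := Subgroup.mul_mem_iff_of_index_two (H := M.subgroupOf S) hM (a := ⟨a, ha⟩) (b := ⟨b, hb⟩)
  simpa [Subgroup.mem_subgroupOf] using this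


/-- Let G be a finite group of even order with no subgroup of index 2, S a Sylow 2-subgroup of G and M a subgroup of index 2 in S such that, for some n ≥ 1, every element of S outside M has order greater than 2^(n−1). Then every element of S of order 2ⁿ is conjugate in G to an element of M. -/
theorem result {G : Type*} [Group G] [Finite G] (hev : Even (Nat.card G))
    (hG : ∀ H : Subgroup G, H.index ≠ 2) (S : Sylow 2 G) (M : Subgroup G) (hMS : M ≤ (S : Subgroup G)) (hM : M.relIndex (S : Subgroup G) = 2)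
    (n : ℕ) (hn : 1 ≤ n) (hord : ∀ y ∈ (S : Subgroup G), y ∉ M → 2 ^ (n - 1) < orderOf y)
    (x : G) (hx : x ∈ (S : Subgroup G)) (hxn : orderOf x = 2 ^ n) :
    ∃ g : G, g * x * g⁻¹ ∈ M := by
  classical
  by_contra hcon
  push Not at hcon
  haveI : Fact (Nat.Prime 2) := ⟨Nat.prime_two⟩
  let a : Multiplicative (ZMod 2) := Multiplicative.ofAdd 1
  have ha2 : a * a = 1 := by decide
  have ha1 : a ≠ 1 := by decide
  let φ : ↥(S : Subgroup G) →* Multiplicative (ZMod 2) :=
    MonoidHom.mk' (fun s => if (s : G) ∈ M then 1 else a) (by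
      intro s t
      have h := mul_mem_iff hM s.2 t.2
      show (if (s : G) * (t : G) ∈ M then 1 else a) = _
      by_cases hs : (s : G) ∈ M <;> by_cases ht : (t : G) ∈ M <;> simp_all)
  have htriv : ∀ g : G, MonoidHom.transfer φ g = 1 := by
    intro g
    by_contra hne
    apply hG (MonoidHom.transfer φ).ker
    rw [Subgroup.index_ker]
    have h1 : Nat.card ↥(MonoidHom.transfer φ).range ∣ Nat.card (Multiplicative (ZMod 2)) :=
      Subgroup.card_subgroup_dvd_card _
    have h2 : Nat.card (Multiplicative (ZMod 2)) = 2 :=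
      (Nat.card_congr Multiplicative.toAdd).trans (Nat.card_zmod 2)
    rw [h2, Nat.dvd_prime Nat.prime_two] at h1
    refine h1.resolve_left fun h => hne ?_
    exact Subgroup.mem_bot.1 (Subgroup.card_eq_one.1 h ▸ MonoidHom.mem_range.2 ⟨g, rfl⟩ :
      MonoidHom.transfer φ g ∈ (⊥ : Subgroup (Multiplicative (ZMod 2))))
  have := htriv x
  letI instF : Fintype (Quotient (MulAction.orbitRel (Subgroup.zpowers x) (G ⧸ (S : Subgroup G)))) :=
    Fintype.ofFinite _
  rw [MonoidHom.transfer_eq_prod_quotient_orbitRel_zpowers_quot] at this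
  have hfac : ∀ q : Quotient (MulAction.orbitRel (Subgroup.zpowers x) (G ⧸ (S : Subgroup G))),
      φ ⟨q.out.out⁻¹ * x ^ Function.minimalPeriod (x • ·) q.out * q.out.out,
          QuotientGroup.out_conj_pow_minimalPeriod_mem (S : Subgroup G) x q.out⟩ =
        a ^ Function.minimalPeriod (x • ·) q.out := by
    intro q
    set r := Function.minimalPeriod (x • ·) q.out with hr
    set g₀ := q.out.out
    have hrdvd : r ∣ 2 ^ n := by
      refine Function.IsPeriodicPt.minimalPeriod_dvd ?_
      show (fun y : G ⧸ (S : Subgroup G) => x • y)^[2 ^ n] q.out = q.out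
      rw [smul_iterate_apply, ← hxn, pow_orderOf_eq_one, one_smul]
    obtain ⟨i, hi, hri⟩ := (Nat.dvd_prime_pow Nat.prime_two).1 hrdvd
    show (if g₀⁻¹ * x ^ r * g₀ ∈ M then 1 else a) = a ^ r
    rcases Nat.eq_zero_or_pos i with rfl | hi0
    · rw [pow_zero] at hri
      rw [hri, pow_one, pow_one, if_neg]
      have := hcon g₀⁻¹
      rwa [inv_inv] at this
    · have hev : a ^ r = 1 := by
        rw [hri, show 2 ^ i = 2 * 2 ^ (i - 1) by rw [← pow_succ']; congr 1; omega, pow_mul, pow_two,
          ha2, one_pow]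
      rw [hev, if_pos]
      by_contra hy
      have hlt := hord _ (QuotientGroup.out_conj_pow_minimalPeriod_mem (S : Subgroup G) x q.out) hy
      rw [show g₀⁻¹ * x ^ r * g₀ = MulAut.conj g₀⁻¹ (x ^ r) by simp, MulEquiv.orderOf_eq,
        orderOf_pow, hxn, hri, Nat.gcd_eq_right (Nat.pow_dvd_pow 2 hi), Nat.pow_div hi two_pos] at hlt
      exact absurd hlt (not_lt.2 (Nat.pow_le_pow_right two_pos (by omega)))
  rw [Finset.prod_congr rfl (fun q _ => hfac q), Finset.prod_pow_eq_pow_sum,
    ← Subgroup.index_eq_sum_minimalPeriod] at this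
  obtain ⟨m, hm⟩ : Odd (S : Subgroup G).index :=
    Nat.not_even_iff_odd.1 fun h => S.not_dvd_index (even_iff_two_dvd.1 h)
  rw [hm, pow_add, pow_mul, pow_two, ha2, one_pow, one_mul, pow_one] at this
  exact ha1 this

end Cfsg.Agent.S3225
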