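import Cfsg.Statements.S3224
import Mathlib.GroupTheory.Sylow
import Mathlib.GroupTheory.SpecificGroups.Cyclic
import Mathlib.GroupTheory.GroupAction.Quotient

set_option autoImplicit false
open Cfsg

namespace Cfsg.Agent.S3224

variable {S : Type*} [Group S] [Finite S]

theorem dihedral_of_rel {N : ℕ} (hN : 2 ≤ N) (hS : Nat.card S = 2 * N) (a x : S) (ha : orderOf a = N)
    (hx : x * x = 1) (hxa : x ∉ Subgroup.zpowers a) (hrel : x * a * x⁻¹ = a⁻¹) :
    Nonempty (S ≃* DihedralGroup N) := by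
  have : NeZero N := ⟨by omega⟩
  have haN : a ^ N = 1 := ha ▸ pow_orderOf_eq_one a
  have hxi : x⁻¹ = x := inv_eq_of_mul_eq_one_right hx
  let e : ZMod N → S := fun i => a ^ i.val
  have he : ∀ i j : ZMod N, e (i + j) = e i * e j := by
    intro i j
    show a ^ (i + j).val = a ^ i.val * a ^ j.val
    rw [← pow_add, ZMod.val_add, pow_eq_pow_iff_modEq, ha]
    exact Nat.mod_modEq _ _
  have he0 : e 0 = 1 := by simp [e]
  have heneg : ∀ i, e (-i) = (e i)⁻¹ := fun i => eq_inv_of_mul_eq_one_left (by rw [← he, neg_add_cancel, he0])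
  have hconj : ∀ i, e i * x = x * (e i)⁻¹ := by
    intro i
    have h : x * e i * x⁻¹ = (e i)⁻¹ := by
      show x * a ^ i.val * x⁻¹ = (a ^ i.val)⁻¹
      rw [← conj_pow, hrel, inv_pow]
    rw [← h, hxi]
    simp [← mul_assoc, hx]
  let f : DihedralGroup N → S := fun
    | .r i => e i
    | .sr i => x * e i
  have hf : ∀ u v, f (u * v) = f u * f v := by
    rintro (i | i) (j | j)
    · exact he i j
    · show x * e (j - i) = e i * (x * e j)
      rw [← mul_assoc, hconj, mul_assoc, ← heneg, ← he, neg_add_eq_sub]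
    · show x * e (i + j) = x * e i * e j
      rw [he, mul_assoc]
    · show e (j - i) = x * e i * (x * e j)
      rw [mul_assoc x, ← mul_assoc (e i), hconj, mul_assoc, ← heneg, ← he, neg_add_eq_sub, ← mul_assoc, hx,
        one_mul]
  have hinj : Function.Injective (MonoidHom.mk' f hf) := by
    rw [injective_iff_map_eq_one]
    rintro (i | i) h
    · have h' : a ^ i.val = 1 := h
      have hdvd : N ∣ i.val := ha.symm.dvd.trans (orderOf_dvd_of_pow_eq_one h')
      have : i.val = 0 := Nat.eq_zero_of_dvd_of_lt hdvd (ZMod.val_lt i)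
      rw [(ZMod.val_eq_zero i).1 this]
      exact (DihedralGroup.one_def).symm
    · exfalso
      apply hxa
      have h' : x * e i = 1 := h
      rw [eq_inv_of_mul_eq_one_left h']
      exact Subgroup.inv_mem _ (Subgroup.pow_mem _ (Subgroup.mem_zpowers a) _)
  exact ⟨(MulEquiv.ofBijective _ ((Nat.bijective_iff_injective_and_card _).2
    ⟨hinj, by rw [DihedralGroup.nat_card, hS]⟩)).symm⟩


/-- A finite 2-group containing an involution whose centralizer has order 4 is dihedral, quasi-dihedral (semidihedral), or of order 4. -/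
theorem result {S : Type*} [Group S] [Finite S] (hS : IsPGroup 2 S)
    (x : S) (hx : orderOf x = 2) (hC : Nat.card ↥(Subgroup.centralizer ({x} : Set S)) = 4) :
    (∃ n : ℕ, Nonempty (S ≃* DihedralGroup n)) ∨ Cfsg.IsQuasiDihedral S ∨ Nat.card S = 4 := by
  classical
  haveI : Fact (Nat.Prime 2) := ⟨Nat.prime_two⟩
  obtain ⟨N, hN⟩ := IsPGroup.iff_card.1 hS
  by_cases h4 : Nat.card S = 4
  · exact Or.inr (Or.inr h4)
  have hx2 : x * x = 1 := by rw [← pow_two, ← hx]; exact pow_orderOf_eq_one x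
  have hx1 : x ≠ 1 := by rintro rfl; simp at hx
  have hxi : x⁻¹ = x := inv_eq_of_mul_eq_one_right hx2
  have hN3 : 3 ≤ N := by
    have hd := Subgroup.card_subgroup_dvd_card (Subgroup.centralizer ({x} : Set S))
    rw [hC, hN, show (4 : ℕ) = 2 ^ 2 from rfl, Nat.pow_dvd_pow_iff_le_right (by norm_num)] at hd
    rcases hd.eq_or_lt with h | h
    · exact absurd (by rw [hN, ← h]; norm_num) h4
    · omega
  obtain ⟨n, rfl⟩ : ∃ n, N = n + 1 := ⟨N - 1, by omega⟩
  -- an index two subgroup contains all squares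
  let K : Subgroup S := Subgroup.closure (Set.range fun s : S => s ^ 2)
  have hsq : ∀ s : S, s ^ 2 ∈ K := fun s => Subgroup.subset_closure ⟨s, rfl⟩
  have hKJ : ∀ J : Subgroup S, J.index = 2 → K ≤ J := fun J hJ => by
    rw [Subgroup.closure_le]
    rintro _ ⟨s, rfl⟩
    exact Subgroup.sq_mem_of_index_two hJ s
  have hJ : ∀ H : Subgroup S, H ≠ ⊤ → ∃ J : Subgroup S, H ≤ J ∧ J.index = 2 := by
    intro H hH
    obtain ⟨m, hm⟩ := IsPGroup.iff_card.1 (hS.to_subgroup H)
    have hmn : m ≤ n := by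
      by_contra hc
      apply hH
      refine Subgroup.eq_top_of_le_card H ?_
      rw [hN, hm]
      exact Nat.pow_le_pow_right two_pos (by omega)
    obtain ⟨J, hJc, hHJ⟩ := Sylow.exists_subgroup_card_pow_prime_le 2 (m := n) (by rw [hN]; exact pow_dvd_pow 2 (by omega)) H hm hmn
    refine ⟨J, hHJ, ?_⟩
    have := Subgroup.card_mul_index J
    rw [hN, hJc, pow_succ] at this
    exact Nat.eq_of_mul_eq_mul_left (by positivity) this
  obtain ⟨kk, hkk⟩ := IsPGroup.iff_card.1 (hS.to_subgroup K)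
  have hKtop : K ≠ ⊤ := by
    intro h
    have hbot : (⊥ : Subgroup S) ≠ ⊤ := by
      intro h'
      have := congrArg (fun H : Subgroup S => Nat.card ↥H) h'
      simp [hN] at this
      have : 2 ≤ 2 ^ (n + 1) := Nat.le_self_pow (by omega) 2
      omega
    obtain ⟨J, -, hJ2⟩ := hJ ⊥ hbot
    have := hKJ J hJ2
    rw [h, top_le_iff] at this
    rw [this] at hJ2
    simp at hJ2
  have hkk_le : kk + 2 ≤ n + 1 := by
    by_contra hc
    obtain ⟨J, hKle, hJ2⟩ := hJ K hKtop
    have hKJeq : K = J := by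
      refine Subgroup.eq_of_le_of_card_ge hKle ?_
      have := Subgroup.card_mul_index J
      rw [hN, hJ2] at this
      have h2 : 2 ^ n ≤ 2 ^ kk := Nat.pow_le_pow_right two_pos (by omega)
      rw [hkk]
      rw [pow_succ] at this
      omega
    obtain ⟨s, hs⟩ : ∃ s, s ∉ K := by
      by_contra h; push Not at h; exact hKtop ((Subgroup.eq_top_iff' K).2 h)
    have htop : Subgroup.zpowers s = ⊤ := by
      by_contra h
      obtain ⟨J', hle, hJ'⟩ := hJ _ h
      have h1 : K = J' := by
        refine Subgroup.eq_of_le_of_card_ge (hKJ J' hJ') ?_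
        have e1 := Subgroup.card_mul_index J
        have e2 := Subgroup.card_mul_index J'
        rw [hJ2] at e1
        rw [hJ'] at e2
        rw [hKJeq]
        omega
      exact hs (h1 ▸ hle (Subgroup.mem_zpowers s))
    have hcomm : ∀ y, y ∈ Subgroup.centralizer ({x} : Set S) := by
      intro y
      rw [Subgroup.mem_centralizer_singleton_iff]
      obtain ⟨i, rfl⟩ := Subgroup.mem_zpowers_iff.1 (htop.ge (Subgroup.mem_top y))
      obtain ⟨j, rfl⟩ := Subgroup.mem_zpowers_iff.1 (htop.ge (Subgroup.mem_top x))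
      rw [← zpow_add, ← zpow_add, add_comm]
    rw [(Subgroup.eq_top_iff' _).2 hcomm, Subgroup.card_top] at hC
    exact h4 hC
  -- the class of `x` lies in the coset `x K`
  have hclass : MulAction.orbit (ConjAct S) x ⊆ (fun k => x * k) '' (K : Set S) := by
    rintro _ ⟨c, rfl⟩
    refine ⟨x⁻¹ * (c • x), ?_, by simp⟩
    rw [ConjAct.smul_def]
    set s := ConjAct.ofConjAct c
    have : x⁻¹ * (s * x * s⁻¹) = (x * s) ^ 2 * (s⁻¹) ^ 2 := by
      rw [hxi]; simp [pow_two, mul_assoc]
    show x⁻¹ * (s * x * s⁻¹) ∈ K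
    rw [this]
    exact K.mul_mem (hsq _) (hsq _)
  have hcard : Set.ncard (MulAction.orbit (ConjAct S) x) = 2 ^ (n + 1) / 4 := by
    have hmul : Nat.card (MulAction.orbit (ConjAct S) x) *
        Nat.card (MulAction.stabilizer (ConjAct S) x) = Nat.card S := by
      rw [← Nat.card_prod]
      exact Nat.card_congr ((MulAction.orbitProdStabilizerEquivGroup (ConjAct S) x).trans ConjAct.ofConjAct.toEquiv)
    have hstab : Nat.card (MulAction.stabilizer (ConjAct S) x) = 4 := by
      rw [← hC]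
      refine Nat.card_congr (Equiv.subtypeEquiv ConjAct.ofConjAct.toEquiv (fun g => ?_))
      rw [MulAction.mem_stabilizer_iff, Subgroup.mem_centralizer_singleton_iff, ConjAct.smul_def,
        mul_inv_eq_iff_eq_mul]
      rfl
    rw [hstab, hN] at hmul
    rw [← Nat.card_coe_set_eq, ← hmul, Nat.mul_div_cancel _ (by norm_num)]
  have himg : Set.ncard ((fun k => x * k) '' (K : Set S)) = 2 ^ kk := by
    rw [Set.ncard_image_of_injective _ (mul_right_injective x), ← Nat.card_coe_set_eq]
    exact hkk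
  have h22 : 2 ^ (n + 1) / 4 = 2 ^ (n - 1) := by
    rw [show n + 1 = (n - 1) + 2 by omega, pow_add]; norm_num
  rw [h22] at hcard
  have hle := Set.ncard_le_ncard hclass (Set.toFinite _)
  rw [hcard, himg] at hle
  have hkk1 : kk = n - 1 := by
    have := (Nat.pow_le_pow_iff_right (by norm_num : 1 < 2)).1 hle
    omega
  have heq : MulAction.orbit (ConjAct S) x = (fun k => x * k) '' (K : Set S) :=
    Set.eq_of_subset_of_ncard_le hclass (by rw [himg, hcard, hkk1]) (Set.toFinite _)
  have hinvol : ∀ k ∈ K, (x * k) * (x * k) = 1 ∧ x * k ≠ 1 := by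
    intro k hk
    obtain ⟨c, hc⟩ := heq.ge ⟨k, hk, rfl⟩
    replace hc : c • x = x * k := hc
    rw [ConjAct.smul_def] at hc
    rw [← hc]
    refine ⟨by simp [mul_assoc, hx2, ← mul_assoc x x], fun h => hx1 ?_⟩
    exact (conj_eq_one_iff).1 h
  have hxK : x ∉ K := fun h => (hinvol x h).2 hx2
  have hinv : ∀ k ∈ K, x * k * x⁻¹ = k⁻¹ := fun k hk =>
    eq_inv_of_mul_eq_one_left (by have := (hinvol k hk).1; rw [hxi]; simpa [mul_assoc] using this)
  have hcommK : ∀ u ∈ K, ∀ v ∈ K, u * v = v * u := by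
    intro u hu v hv
    have h := hinv (u * v) (K.mul_mem hu hv)
    have : x * (u * v) * x⁻¹ = (x * u * x⁻¹) * (x * v * x⁻¹) := by simp [mul_assoc]
    rw [this, hinv u hu, hinv v hv, ← mul_inv_rev] at h
    exact (inv_injective h).symm
  -- at most two solutions of `k ^ 2 = 1` in `K`
  have hfour : ∀ k ∈ K, k * k = 1 → k ∈ Subgroup.centralizer ({x} : Set S) := by
    intro k hk h2
    rw [Subgroup.mem_centralizer_singleton_iff]
    have := hinv k hk
    rw [inv_eq_of_mul_eq_one_right h2, mul_inv_eq_iff_eq_mul] at this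
    exact this.symm
  have htwo : ∀ u v : S, u ∈ K → v ∈ K → u * u = 1 → v * v = 1 → u ≠ 1 → v ≠ 1 → u = v := by
    intro u v hu hv hu2 hv2 hu1 hv1
    by_contra hne
    have hsub : ({1, u, v, x, x * u} : Set S) ⊆ (Subgroup.centralizer ({x} : Set S) : Set S) := by
      have hxc : x ∈ Subgroup.centralizer ({x} : Set S) := Subgroup.mem_centralizer_singleton_iff.2 rfl
      intro y hy
      rcases hy with rfl | rfl | rfl | rfl | rfl
      · exact one_mem _
      · exact hfour _ hu hu2
      · exact hfour _ hv hv2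
      · exact hxc
      · exact mul_mem hxc (hfour _ hu hu2)
    have h5 := Set.ncard_le_ncard hsub (Set.toFinite _)
    have hxu : x * u ∉ K := fun h => hxK (by simpa using K.mul_mem h (K.inv_mem hu))
    have e5 : ({1, u, v, x, x * u} : Set S).ncard = 5 := by
      rw [Set.ncard_insert_of_notMem, Set.ncard_insert_of_notMem, Set.ncard_insert_of_notMem, Set.ncard_pair]
      · exact fun h => hu1 (mul_left_cancel (a := x) (by rw [mul_one, ← h]))
      · simp only [Set.mem_insert_iff, Set.mem_singleton_iff, not_or]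
        exact ⟨fun h => hxK (h ▸ hv), fun h => hxu (h ▸ hv)⟩
      · simp only [Set.mem_insert_iff, Set.mem_singleton_iff, not_or]
        exact ⟨hne, fun h => hxK (h ▸ hu), fun h => hxu (h ▸ hu)⟩
      · simp only [Set.mem_insert_iff, Set.mem_singleton_iff, not_or]
        exact ⟨Ne.symm hu1, Ne.symm hv1, Ne.symm hx1, fun h => hxu (h ▸ K.one_mem)⟩
    rw [e5, ← Nat.card_coe_set_eq] at h5
    have : Nat.card ((Subgroup.centralizer ({x} : Set S) : Set S) : Type _) = 4 := hC
    omega
  -- `K` is generated by any element of maximal order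
  obtain ⟨f, hfK, hfmax⟩ := Set.exists_max_image (K : Set S) orderOf (Set.toFinite _) ⟨1, K.one_mem⟩
  have hfgen : ∀ i : ℕ, ∀ y ∈ K, y ^ (2 ^ i) ∈ Subgroup.zpowers f → y ∈ Subgroup.zpowers f := by
    intro i
    induction i with
    | zero => intro y _ h; simpa using h
    | succ i ih =>
      intro y hy h
      rw [pow_succ, pow_mul] at h
      refine ih y hy ?_
      clear ih
      set w := y ^ 2 ^ i with hw
      have hwK : w ∈ K := K.pow_mem hy _
      clear_value w
      by_contra hwn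
      obtain ⟨j, hj⟩ := (mem_zpowers_iff_mem_range_orderOf).1 h |> Finset.mem_image.1
      obtain ⟨-, hj⟩ := hj
      obtain ⟨m, hm⟩ := IsPGroup.iff_orderOf.1 hS f
      obtain ⟨l, hl⟩ := IsPGroup.iff_orderOf.1 hS w
      have hlm : l ≤ m := (Nat.pow_le_pow_iff_right (by norm_num : 1 < 2)).1 (hl ▸ hm ▸ hfmax w hwK)
      have hm0 : m ≠ 0 := by
        rintro rfl
        apply hwn
        obtain rfl : l = 0 := by omega
        rw [pow_zero, orderOf_eq_one_iff] at hl
        rw [hl]; exact one_mem _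
      have hpowm : w ^ 2 ^ m = 1 := orderOf_dvd_iff_pow_eq_one.1 (hl ▸ pow_dvd_pow 2 hlm)
      rcases Nat.even_or_odd' j with ⟨c, rfl | rfl⟩
      · have hc2 : (w * (f ^ c)⁻¹) * (w * (f ^ c)⁻¹) = 1 := by
          have hfc : (f ^ c)⁻¹ ∈ K := K.inv_mem (K.pow_mem hfK _)
          calc (w * (f ^ c)⁻¹) * (w * (f ^ c)⁻¹) = w * ((f ^ c)⁻¹ * w) * (f ^ c)⁻¹ := by simp [mul_assoc]
            _ = w * (w * (f ^ c)⁻¹) * (f ^ c)⁻¹ := by rw [hcommK _ hfc _ hwK]
            _ = w ^ 2 * (f ^ (2 * c))⁻¹ := by rw [two_mul c, pow_add, mul_inv_rev, pow_two]; simp [mul_assoc]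
            _ = 1 := by rw [← hj, mul_inv_cancel]
        have hne1 : w * (f ^ c)⁻¹ ≠ 1 := fun h0 => hwn (by
          rw [mul_inv_eq_one.1 h0]; exact Subgroup.pow_mem _ (Subgroup.mem_zpowers f) _)
        have ht2 : (f ^ 2 ^ (m - 1)) * (f ^ 2 ^ (m - 1)) = 1 := by
          rw [← pow_add, ← two_mul, ← pow_succ', show m - 1 + 1 = m by omega, ← hm, pow_orderOf_eq_one]
        have ht1 : f ^ 2 ^ (m - 1) ≠ 1 := fun h0 => by
          have := orderOf_dvd_of_pow_eq_one h0
          rw [hm, Nat.pow_dvd_pow_iff_le_right (by norm_num)] at this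
          omega
        have := htwo _ _ (K.mul_mem hwK (K.inv_mem (K.pow_mem hfK c))) (K.pow_mem hfK _) hc2 ht2 hne1 ht1
        exact hwn (by
          rw [mul_inv_eq_iff_eq_mul.1 this]
          exact mul_mem (Subgroup.pow_mem _ (Subgroup.mem_zpowers f) _) (Subgroup.pow_mem _ (Subgroup.mem_zpowers f) _))
      · have h1 : f ^ ((2 * c + 1) * 2 ^ (m - 1)) = 1 := by
          rw [pow_mul, hj, ← pow_mul, ← pow_succ', show m - 1 + 1 = m by omega, hpowm]
        have := orderOf_dvd_of_pow_eq_one h1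
        rw [hm] at this
        have hcop : Nat.Coprime (2 ^ m) (2 * c + 1) :=
          Nat.Coprime.pow_left m ((Nat.Prime.coprime_iff_not_dvd Nat.prime_two).2 (by omega))
        have := hcop.dvd_of_dvd_mul_left this
        rw [Nat.pow_dvd_pow_iff_le_right (by norm_num)] at this
        omega
  have hKf : K = Subgroup.zpowers f := by
    refine le_antisymm (fun y hy => ?_) (Subgroup.zpowers_le.2 hfK)
    obtain ⟨l, hl⟩ := IsPGroup.iff_orderOf.1 hS y
    exact hfgen l y hy (by rw [← hl, pow_orderOf_eq_one]; exact one_mem _)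
  have hford : orderOf f = 2 ^ (n - 1) := by rw [← Nat.card_zpowers, ← hKf, hkk, hkk1]
  -- some square generates `K`
  have hf2 : f ∉ Subgroup.zpowers (f ^ 2) := by
    intro h
    obtain ⟨i, hi⟩ := Subgroup.mem_zpowers_iff.1 h
    have h1 : f ^ (2 * i - 1) = 1 := by rw [zpow_sub, zpow_mul, zpow_ofNat, zpow_one, hi, mul_inv_cancel]
    have := (orderOf_dvd_iff_zpow_eq_one).2 h1
    have h2 : (2 : ℤ) ∣ ((orderOf f : ℕ) : ℤ) := by
      rw [hford]
      exact_mod_cast dvd_pow_self 2 (by omega)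
    have h3 : (2 : ℤ) ∣ 2 * i - 1 := h2.trans this
    omega
  obtain ⟨a, ha⟩ : ∃ s : S, s ^ 2 ∉ Subgroup.zpowers (f ^ 2) := by
    by_contra h
    push Not at h
    apply hf2
    have : K ≤ Subgroup.zpowers (f ^ 2) := by
      rw [Subgroup.closure_le]; rintro _ ⟨s, rfl⟩; exact h s
    exact this hfK
  obtain ⟨i, hi⟩ := Subgroup.mem_zpowers_iff.1 (hKf ▸ hsq a)
  have hiodd : Odd i := by
    rw [← Int.not_even_iff_odd]
    rintro ⟨c, rfl⟩
    refine ha (Subgroup.mem_zpowers_iff.2 ⟨c, ?_⟩)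
    rw [← hi, ← two_mul, zpow_mul, zpow_ofNat]
  have ha2ord : orderOf (a ^ 2) = 2 ^ (n - 1) := by
    have h1 : orderOf (a ^ 2) ∣ 2 ^ (n - 1) := by
      rw [← hford]; exact orderOf_dvd_of_mem_zpowers (hKf ▸ hsq a)
    obtain ⟨l, hl, hl'⟩ := (Nat.dvd_prime_pow Nat.prime_two).1 h1
    by_contra hne
    have hlt : l < n - 1 := lt_of_le_of_ne hl (fun h => hne (by rw [hl', h]))
    have h2 : f ^ (i * (2 ^ l : ℕ)) = 1 := by
      rw [zpow_mul, hi, zpow_natCast, ← hl', pow_orderOf_eq_one]
    have h3 := orderOf_dvd_iff_zpow_eq_one.2 h2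
    rw [hford] at h3
    have hcop : IsCoprime ((2 ^ (n - 1) : ℕ) : ℤ) i := by
      rw [Nat.cast_pow]
      refine IsCoprime.pow_left ?_
      obtain ⟨c, rfl⟩ := hiodd
      exact ⟨-c, 1, by push_cast; ring⟩
    have h4 := hcop.dvd_of_dvd_mul_left h3
    rw [Int.natCast_dvd_natCast, Nat.pow_dvd_pow_iff_le_right (by norm_num)] at h4
    omega
  have haord : orderOf a = 2 ^ n := by
    obtain ⟨l, hl⟩ := IsPGroup.iff_orderOf.1 hS a
    rw [orderOf_pow, hl] at ha2ord
    rcases Nat.eq_zero_or_pos l with rfl | hl0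
    · rw [pow_zero, Nat.gcd_one_left, Nat.div_one, eq_comm, Nat.pow_eq_one] at ha2ord
      omega
    · rw [Nat.gcd_eq_right (dvd_pow_self 2 hl0.ne')] at ha2ord
      obtain ⟨l', rfl⟩ : ∃ l', l = l' + 1 := ⟨l - 1, by omega⟩
      rw [pow_succ, Nat.mul_div_cancel _ two_pos] at ha2ord
      rw [hl, show l' + 1 = n by have := Nat.pow_right_injective (le_refl 2) ha2ord; omega]
  have hindex : (Subgroup.zpowers a).index = 2 := by
    have := Subgroup.card_mul_index (Subgroup.zpowers a)
    rw [Nat.card_zpowers, haord, hN, pow_succ] at this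
    exact Nat.eq_of_mul_eq_mul_left (by positivity) this
  have hxa : x ∉ Subgroup.zpowers a := by
    intro h
    have hsub : Subgroup.zpowers a ≤ Subgroup.centralizer ({x} : Set S) := by
      intro y hy
      rw [Subgroup.mem_centralizer_singleton_iff]
      obtain ⟨i, rfl⟩ := Subgroup.mem_zpowers_iff.1 hy
      obtain ⟨j, rfl⟩ := Subgroup.mem_zpowers_iff.1 h
      rw [← zpow_add, ← zpow_add, add_comm]
    have := Subgroup.card_le_of_le hsub
    rw [Nat.card_zpowers, haord, hC] at this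
    have h8 : 2 ^ 3 ≤ 2 ^ n * 2 := by rw [← pow_succ]; exact Nat.pow_le_pow_right two_pos (by omega)
    have hn2 : n = 2 := by
      by_contra hne
      have : 2 ^ 3 ≤ 2 ^ n := Nat.pow_le_pow_right two_pos (by omega)
      omega
    subst hn2
    have hCeq : Subgroup.zpowers a = Subgroup.centralizer ({x} : Set S) :=
      Subgroup.eq_of_le_of_card_ge hsub (by rw [Nat.card_zpowers, haord, hC]; norm_num)
    obtain ⟨j, hj⟩ := Subgroup.mem_zpowers_iff.1 h
    rcases Int.even_or_odd' j with ⟨c, rfl | rfl⟩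
    · refine hxK ?_
      rw [← hj, zpow_mul, zpow_ofNat]
      exact K.zpow_mem (hsq a) c
    · have hx2' : a ^ ((2 * c + 1) * 2) = 1 := by rw [zpow_mul, hj, zpow_ofNat, pow_two, hx2]
      have h3 := orderOf_dvd_iff_zpow_eq_one.2 hx2'
      rw [haord] at h3
      push_cast at h3
      omega
  have hnormal : (Subgroup.zpowers a).Normal := Subgroup.normal_of_index_eq_two hindex
  obtain ⟨r, hr, hra⟩ := Finset.mem_image.1 (mem_zpowers_iff_mem_range_orderOf.1
    (hnormal.conj_mem a (Subgroup.mem_zpowers a) x))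
  rw [Finset.mem_range, haord] at hr
  have hr2 : a ^ (2 * r + 2) = 1 := by
    have h1 := hinv (a ^ 2) (hsq a)
    rw [← conj_pow, ← hra, ← pow_mul] at h1
    rw [pow_add, mul_comm 2 r, h1, inv_mul_cancel]
  have hdvd := orderOf_dvd_of_pow_eq_one hr2
  rw [haord] at hdvd
  obtain ⟨n', rfl⟩ : ∃ n', n = n' + 1 := ⟨n - 1, by omega⟩
  rw [show 2 * r + 2 = (r + 1) * 2 by ring, pow_succ] at hdvd
  obtain ⟨c, hc⟩ := Nat.dvd_of_mul_dvd_mul_right two_pos hdvd
  rw [pow_succ] at hr
  have hc12 : c = 1 ∨ c = 2 := by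
    have hpos : 0 < 2 ^ n' := by positivity
    rcases c with _ | _ | _ | c
    · omega
    · exact Or.inl rfl
    · exact Or.inr rfl
    · exfalso; nlinarith
  rcases hc12 with rfl | rfl
  · rcases Nat.lt_or_ge n' 2 with hn' | hn'
    · have hn1 : n' = 1 := by omega
      subst hn1
      exfalso
      obtain rfl : r = 1 := by omega
      rw [pow_one] at hra
      have hac : a ∈ Subgroup.centralizer ({x} : Set S) := by
        rw [Subgroup.mem_centralizer_singleton_iff]
        exact (eq_mul_inv_iff_mul_eq.1 hra)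
      have hsub : Subgroup.zpowers a < Subgroup.centralizer ({x} : Set S) :=
        lt_of_le_of_ne (Subgroup.zpowers_le.2 hac) fun h =>
          hxa (h ▸ Subgroup.mem_centralizer_singleton_iff.2 rfl)
      have := Subgroup.eq_of_le_of_card_ge hsub.le (by rw [Nat.card_zpowers, haord, hC]; norm_num)
      exact hsub.ne this
    · refine Or.inr (Or.inl ⟨n' + 1, by omega, hN, a, x, haord, hx, ?_⟩)
      rw [← hra]
      congr 1
      simp only [Nat.add_sub_cancel]
      omega
  · left
    refine ⟨2 ^ (n' + 1), dihedral_of_rel (Nat.le_self_pow (by omega) 2) (by rw [hN, pow_succ']) a x haord hx2 hxa ?_⟩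
    rw [← hra]
    refine eq_inv_of_mul_eq_one_left ?_
    rw [← pow_succ, ← orderOf_dvd_iff_pow_eq_one, haord, pow_succ]
    exact ⟨1, by omega⟩

end Cfsg.Agent.S3224
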