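import Cfsg.Statements.S0496
import Cfsg.Agent.Lib.Small.Sieve
import Cfsg.Agent.Lib.Small.Residual
import Cfsg.Agent.Lib.Small.Order720

set_option autoImplicit false
open Cfsg

namespace Cfsg.Agent.S0496

theorem chunk_low : ∀ n ∈ List.range' 1 546, CfsgLib.Small.Sieve.survive n = true →
    n ∈ ([60, 168, 360, 504, 660, 720, 756, 1008, 1040, 1080, 1092] : List ℕ) := by decide +kernel

theorem chunk_high : ∀ n ∈ List.range' 547 546, CfsgLib.Small.Sieve.survive n = true →
    n ∈ ([60, 168, 360, 504, 660, 720, 756, 1008, 1040, 1080, 1092] : List ℕ) := by decide +kernel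

/-- A non-abelian finite simple group of order at most 1092 has order 60, 168, 360, 504, 660 or 1092. -/
theorem result {G : Type*} [Group G] [Finite G] [IsSimpleGroup G]
    (hG : ¬ IsMulCommutative G) (h : Nat.card G ≤ 1092) :
    Nat.card G = 60 ∨ Nat.card G = 168 ∨ Nat.card G = 360 ∨ Nat.card G = 504 ∨ Nat.card G = 660 ∨
      Nat.card G = 1092 := by
  have hs := CfsgLib.Small.Sieve.survive_of_simple hG (by omega)
  have key : Nat.card G ∈ ([60, 168, 360, 504, 660, 720, 756, 1008, 1040, 1080, 1092] : List ℕ) := by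
    rcases Nat.lt_or_ge (Nat.card G) 547 with hlt | hge
    · exact chunk_low _ (List.mem_range'_1.mpr ⟨Nat.card_pos, by omega⟩) hs
    · exact chunk_high _ (List.mem_range'_1.mpr ⟨hge, by omega⟩) hs
  simp only [List.mem_cons, List.not_mem_nil, or_false] at key
  rcases key with e | e | e | e | e | e | e | e | e | e | e
  · exact Or.inl e
  · exact Or.inr (Or.inl e)
  · exact Or.inr (Or.inr (Or.inl e))
  · exact Or.inr (Or.inr (Or.inr (Or.inl e)))
  · exact Or.inr (Or.inr (Or.inr (Or.inr (Or.inl e))))
  · exact (CfsgLib.Small.Order720.card_ne e).elim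
  · exact (CfsgLib.Small.Residual.card_ne_756 e).elim
  · exact (CfsgLib.Small.Residual.card_ne_1008 e).elim
  · exact (CfsgLib.Small.Residual.card_ne_1040 e).elim
  · exact (CfsgLib.Small.Residual.card_ne_1080 e).elim
  · exact Or.inr (Or.inr (Or.inr (Or.inr (Or.inr e))))

end Cfsg.Agent.S0496
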