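import Cfsg.Statements.S0983
import Cfsg.Agent.Lib.Small.Sieve
import Cfsg.Agent.Lib.Small.MidA
import Cfsg.Agent.Lib.Small.MidB
import Cfsg.Agent.Lib.Small.MidC
import Cfsg.Agent.Lib.Small.Order3648
import Cfsg.Agent.Lib.Small.Order4032
import Cfsg.Agent.Lib.Small.Order4320
import Cfsg.Agent.Lib.Small.Order5040
import Cfsg.Agent.Lib.Small.Order5472
import Cfsg.Agent.Lib.Small.Order5760

set_option autoImplicit false
open Cfsg

namespace Cfsg.Agent.S0983

theorem chunk0 : ∀ n ∈ List.range' 3641 432, CfsgLib.Small.Sieve.survive n = true →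
    n ∈ ([3648, 3696, 3744, 3780, 3960, 4032, 4080, 4160, 4200, 4212, 4320, 4400, 4536, 4620, 4680, 4760, 4800, 4928, 4960, 5040, 5104, 5148, 5376, 5400, 5460, 5472, 5600, 5616, 5760, 5880, 5940, 6048, 6072] : List ℕ) := by
  decide +kernel

theorem chunk1 : ∀ n ∈ List.range' 4073 432, CfsgLib.Small.Sieve.survive n = true →
    n ∈ ([3648, 3696, 3744, 3780, 3960, 4032, 4080, 4160, 4200, 4212, 4320, 4400, 4536, 4620, 4680, 4760, 4800, 4928, 4960, 5040, 5104, 5148, 5376, 5400, 5460, 5472, 5600, 5616, 5760, 5880, 5940, 6048, 6072] : List ℕ) := by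
  decide +kernel

theorem chunk2 : ∀ n ∈ List.range' 4505 432, CfsgLib.Small.Sieve.survive n = true →
    n ∈ ([3648, 3696, 3744, 3780, 3960, 4032, 4080, 4160, 4200, 4212, 4320, 4400, 4536, 4620, 4680, 4760, 4800, 4928, 4960, 5040, 5104, 5148, 5376, 5400, 5460, 5472, 5600, 5616, 5760, 5880, 5940, 6048, 6072] : List ℕ) := by
  decide +kernel

theorem chunk3 : ∀ n ∈ List.range' 4937 432, CfsgLib.Small.Sieve.survive n = true →
    n ∈ ([3648, 3696, 3744, 3780, 3960, 4032, 4080, 4160, 4200, 4212, 4320, 4400, 4536, 4620, 4680, 4760, 4800, 4928, 4960, 5040, 5104, 5148, 5376, 5400, 5460, 5472, 5600, 5616, 5760, 5880, 5940, 6048, 6072] : List ℕ) := by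
  decide +kernel

theorem chunk4 : ∀ n ∈ List.range' 5369 432, CfsgLib.Small.Sieve.survive n = true →
    n ∈ ([3648, 3696, 3744, 3780, 3960, 4032, 4080, 4160, 4200, 4212, 4320, 4400, 4536, 4620, 4680, 4760, 4800, 4928, 4960, 5040, 5104, 5148, 5376, 5400, 5460, 5472, 5600, 5616, 5760, 5880, 5940, 6048, 6072] : List ℕ) := by
  decide +kernel

theorem chunk5 : ∀ n ∈ List.range' 5801 432, CfsgLib.Small.Sieve.survive n = true →
    n ∈ ([3648, 3696, 3744, 3780, 3960, 4032, 4080, 4160, 4200, 4212, 4320, 4400, 4536, 4620, 4680, 4760, 4800, 4928, 4960, 5040, 5104, 5148, 5376, 5400, 5460, 5472, 5600, 5616, 5760, 5880, 5940, 6048, 6072] : List ℕ) := by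
  decide +kernel

/-- A non-abelian finite simple group of order greater than 3640 and at most 6232 has order 4080, 5616, 6048 or 6072. -/
theorem result {G : Type*} [Group G] [Finite G] [IsSimpleGroup G] (hG : ¬ IsMulCommutative G) (h1 : 3640 < Nat.card G) (h2 : Nat.card G ≤ 6232) : Nat.card G = 4080 ∨ Nat.card G = 5616 ∨ Nat.card G = 6048 ∨ Nat.card G = 6072 := by
  have := Fintype.ofFinite G
  have hs := CfsgLib.Small.Sieve.survive_of_simple hG (by omega)
  have key : Nat.card G ∈ ([3648, 3696, 3744, 3780, 3960, 4032, 4080, 4160, 4200, 4212, 4320, 4400, 4536, 4620, 4680, 4760, 4800, 4928, 4960, 5040, 5104, 5148, 5376, 5400, 5460, 5472, 5600, 5616, 5760, 5880, 5940, 6048, 6072] : List ℕ) := by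
    rcases Nat.lt_or_ge (Nat.card G) 4073 with h | h
    · exact chunk0 _ (List.mem_range'_1.mpr ⟨by omega, by omega⟩) hs
    rcases Nat.lt_or_ge (Nat.card G) 4505 with h | h
    · exact chunk1 _ (List.mem_range'_1.mpr ⟨by omega, by omega⟩) hs
    rcases Nat.lt_or_ge (Nat.card G) 4937 with h | h
    · exact chunk2 _ (List.mem_range'_1.mpr ⟨by omega, by omega⟩) hs
    rcases Nat.lt_or_ge (Nat.card G) 5369 with h | h
    · exact chunk3 _ (List.mem_range'_1.mpr ⟨by omega, by omega⟩) hs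
    rcases Nat.lt_or_ge (Nat.card G) 5801 with h | h
    · exact chunk4 _ (List.mem_range'_1.mpr ⟨by omega, by omega⟩) hs
    exact chunk5 _ (List.mem_range'_1.mpr ⟨by omega, by omega⟩) hs
  simp only [List.mem_cons, List.not_mem_nil, or_false] at key
  rcases key with e | e | e | e | e | e | e | e | e | e | e | e | e | e | e | e | e | e | e | e | e | e | e | e | e | e | e | e | e | e | e | e | e
  · exact (CfsgLib.Small.Order3648.card_ne e).elim
  · exact (CfsgLib.Small.Mid.card_ne_3696 e).elim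
  · exact (CfsgLib.Small.Order3648.card_ne' e).elim
  · exact (CfsgLib.Small.Mid.card_ne_3780 e).elim
  · exact (CfsgLib.Small.Mid.card_ne_3960 e).elim
  · exact (CfsgLib.Small.Order4032.card_ne e).elim
  · exact Or.inl e
  · exact (CfsgLib.Small.Mid.card_ne_4160 e).elim
  · exact (CfsgLib.Small.Mid.card_ne_4200 e).elim
  · exact (CfsgLib.Small.Mid.card_ne_4212 e).elim
  · exact (CfsgLib.Small.Order4320.card_ne e).elim
  · exact (CfsgLib.Small.Mid.card_ne_4400 e).elim
  · exact (CfsgLib.Small.Mid.card_ne_4536 e).elim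
  · exact (CfsgLib.Small.Mid.card_ne_4620 e).elim
  · exact (CfsgLib.Small.Mid.card_ne_4680 e).elim
  · exact (CfsgLib.Small.Mid.card_ne_4760 e).elim
  · exact (CfsgLib.Small.Mid.card_ne_4800 e).elim
  · exact (CfsgLib.Small.Mid.card_ne_4928 e).elim
  · exact (CfsgLib.Small.Mid.card_ne_4960 e).elim
  · exact (CfsgLib.Small.Order5040.card_ne e).elim
  · exact (CfsgLib.Small.Mid.card_ne_5104 e).elim
  · exact (CfsgLib.Small.Mid.card_ne_5148 e).elim
  · exact (CfsgLib.Small.Mid.card_ne_5376 e).elim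
  · exact (CfsgLib.Small.Mid.card_ne_5400 e).elim
  · exact (CfsgLib.Small.Mid.card_ne_5460 e).elim
  · exact (CfsgLib.Small.Order5472.card_ne e).elim
  · exact (CfsgLib.Small.Mid.card_ne_5600 e).elim
  · exact Or.inr (Or.inl e)
  · exact (CfsgLib.Small.Order5760.card_ne e).elim
  · exact (CfsgLib.Small.Mid.card_ne_5880 e).elim
  · exact (CfsgLib.Small.Mid.card_ne_5940 e).elim
  · exact Or.inr (Or.inr (Or.inl e))
  · exact Or.inr (Or.inr (Or.inr e))

end Cfsg.Agent.S0983
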