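import Cfsg.Statements.S0939
import Cfsg.Agent.Lib.Blocks.BlockKernel
import Cfsg.Agent.Lib.PCore.Basic

set_option autoImplicit false
open Cfsg

namespace Cfsg.Agent.S0939

/-- Let G be a finite group with a normal p-complement (the largest normal subgroup O_p'(G) of order prime to p has p-power index). Then, relative to any maximal ideal M of the algebraic integers containing p, the principal block of G is the set of irreducible characters χ with χ n = χ 1 for every n ∈ O_p'(G). -/
theorem result {G : Type*} [Group G] [Finite G] (p : ℕ) [Fact p.Prime] (M : Ideal Cfsg.AlgInt) (hM : Cfsg.IsPModular p M) (hnc : ∃ k : ℕ, (Cfsg.pPrimeCore p G).index = p ^ k) : Cfsg.principalBlock M G = {χ : Cfsg.IrrCharacter G | ∀ n ∈ Cfsg.pPrimeCore p G, (χ : G → ℂ) n = (χ : G → ℂ) 1} := by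
  classical
  letI := Fintype.ofFinite G
  haveI : (Cfsg.pPrimeCore p G).Normal := Cfsg.pPrimeCore_normal p G
  have hN : ¬ p ∣ Nat.card (Cfsg.pPrimeCore p G) := CfsgLib.PCore.not_dvd_card_pPrimeCore
  obtain ⟨k, hk⟩ := hnc
  have hreg : ∀ y : G, ¬ p ∣ orderOf y → y ∈ Cfsg.pPrimeCore p G := by
    intro y hy
    have h1 := Subgroup.pow_index_mem (Cfsg.pPrimeCore p G) y
    rw [hk] at h1
    have hcop : Nat.Coprime (p ^ k) (orderOf y) :=
      Nat.Coprime.pow_left k ((Fact.out : p.Prime).coprime_iff_not_dvd.2 hy)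
    obtain ⟨m, hm⟩ := exists_pow_eq_self_of_coprime hcop
    rw [← hm]
    exact Subgroup.pow_mem _ h1 m
  ext χ
  refine ⟨fun hχ n hn => CfsgLib.Blocks.principalBlock_kernel hM hχ hN hn, fun hker => ?_⟩
  set B := Cfsg.blockOf M (χ : G → ℂ)
  have hB : Cfsg.IsPBlock M B := CfsgLib.Blocks.isPBlock_blockOf χ
  have hχB : χ ∈ B := CfsgLib.Blocks.mem_blockOf_self hM χ
  have h1 : CfsgLib.Blocks.omega (CfsgLib.Characters.principalIrr G : G → ℂ)
      (CfsgLib.Blocks.blockIdem B) =
      CfsgLib.Blocks.omega (χ : G → ℂ) (CfsgLib.Blocks.blockIdem B) := by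
    rw [CfsgLib.Blocks.omega_apply, CfsgLib.Blocks.omega_apply, Finset.sum_div, Finset.sum_div]
    refine Finset.sum_congr rfl fun y _ => ?_
    rw [CfsgLib.Blocks.coeff_blockIdem]
    by_cases hy : p ∣ orderOf y
    · simp [CfsgLib.Blocks.blockCoeff_eq_zero_of_singular hM hB hy]
    · rw [hker y (hreg y hy), mul_div_cancel_right₀ _ (CfsgLib.Characters.irr_one_ne_zero χ)]
      show _ * (1 : ℂ) / (1 : ℂ) = _
      rw [mul_one, div_one]
  rw [CfsgLib.Blocks.omega_blockIdem, CfsgLib.Blocks.omega_blockIdem, if_pos hχB] at h1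
  split_ifs at h1 with h2
  · rw [show Cfsg.principalBlock M G = Cfsg.blockOf M
        (CfsgLib.Characters.principalIrr G : G → ℂ) from rfl,
      ← CfsgLib.Blocks.IsPBlock.eq_blockOf hM hB h2]
    exact hχB
  · exact absurd h1 zero_ne_one

end Cfsg.Agent.S0939
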