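import Cfsg.Statements.S0914
import Cfsg.Agent.Lib.Blocks.WeakOrth
import Cfsg.Agent.Lib.Characters.Values
-- import your own Cfsg.Agent.* helpers here

set_option autoImplicit false
open Cfsg

namespace Cfsg.Agent.S0914

/-- Let χ be an irreducible character of the finite group G, p a prime and M a maximal ideal of the algebraic integers containing p. Then p does not divide the integer (Nat.card G) / χ(1) if and only if the block of χ relative to M consists of χ alone. -/
theorem result {G : Type*} [Group G] [Finite G] (p : ℕ) [Fact p.Prime] (M : Ideal Cfsg.AlgInt) (hM : Cfsg.IsPModular p M) (χ : Cfsg.IrrCharacter G) : ¬ p ∣ Nat.card G / Cfsg.charDegree (χ : G → ℂ) ↔ Cfsg.blockOf M (χ : G → ℂ) = {χ} := by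
  classical
  letI := Fintype.ofFinite G
  obtain ⟨n, hn0, hn⟩ := CfsgLib.Characters.irr_exists_degree χ.2
  have hdeg : Cfsg.charDegree (χ : G → ℂ) = n := by
    rw [Cfsg.charDegree, hn, Complex.natCast_re, Nat.floor_natCast]
  rw [hdeg]
  have hdvd : n ∣ Nat.card G := by
    obtain ⟨m, hm1, -, hm2⟩ := CfsgLib.Characters.irr_degree_dvd_card χ
    exact (Nat.cast_inj.1 (hm1.symm.trans hn)) ▸ hm2
  have hG : (Nat.card G : ℂ) ≠ 0 := by simp
  have hp : p.Prime := hM.1
  constructor
  · intro h
    apply Set.Subset.antisymm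
    · refine CfsgLib.Blocks.blockOf_subset_of_coeff hM (fun g => ?_) rfl
      rw [Cfsg.blockCoeff, finsum_mem_singleton]
      obtain ⟨q, hq⟩ := hdvd
      have hq' : ¬ p ∣ q := by
        rwa [hq, Nat.mul_div_cancel_left q hn0] at h
      have hn0' : (n : ℂ) ≠ 0 := by exact_mod_cast hn0.ne'
      rw [hn, ← CfsgLib.Characters.irr_apply_inv, hq, Nat.cast_mul, ← mul_assoc, mul_inv,
        mul_comm ((n : ℂ)⁻¹), mul_assoc ((q : ℂ)⁻¹), inv_mul_cancel₀ hn0', mul_one]
      exact (CfsgLib.Blocks.lRing hM).mul_mem (CfsgLib.Blocks.inv_natCast_mem_lRing hM hq')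
        (CfsgLib.Blocks.isIntegral_mem_lRing hM
          (CfsgLib.Characters.isIntegral_of_isCharacter (CfsgLib.Characters.irr_isCharacter χ) _))
    · intro ψ hψ
      rw [Set.mem_singleton_iff.1 hψ]
      exact CfsgLib.Blocks.mem_blockOf_self hM χ
  · intro h
    have hB : Cfsg.IsPBlock M ({χ} : Set (Cfsg.IrrCharacter G)) := ⟨χ, h.symm⟩
    have hvan : ∀ g : G, p ∣ orderOf g → (χ : G → ℂ) g = 0 := by
      intro g hg
      have h1 := CfsgLib.Blocks.blockCoeff_eq_zero_of_singular hM hB hg
      rw [Cfsg.blockCoeff, finsum_mem_singleton] at h1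
      simpa [hG, hn, hn0.ne'] using h1
    let P : Sylow p G := default
    obtain ⟨m, ρ, hρ, hρχ⟩ := χ.2
    have hres : Cfsg.IsCharacter P (fun x : P => (χ : G → ℂ) x) :=
      ⟨m, ρ.comp (P : Subgroup G).subtype, by rw [← hρχ]; rfl⟩
    obtain ⟨k, hk⟩ := CfsgLib.Characters.classInner_char_nat hres
      (CfsgLib.Characters.isCharacter_one (G := P))
    have hsum : ∑ x : P, (χ : G → ℂ) x = n := by
      rw [Finset.sum_eq_single 1]
      · exact hn
      · intro x _ hx
        refine hvan _ ?_
        obtain ⟨j, hj⟩ := IsPGroup.iff_orderOf.1 P.isPGroup' x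
        rw [Subgroup.orderOf_coe, hj]
        refine dvd_pow_self p ?_
        rintro rfl
        exact hx (orderOf_eq_one_iff.1 (by rw [hj, pow_zero]))
      · simp
    have hP0 : (Nat.card P : ℂ) ≠ 0 := by simp
    have hPn : Nat.card P ∣ n := by
      refine ⟨k, ?_⟩
      simp only [Cfsg.classInner, Pi.one_apply, map_one, mul_one, hsum] at hk
      rw [inv_mul_eq_iff_eq_mul₀ hP0] at hk
      exact_mod_cast hk
    rw [P.card_eq_multiplicity] at hPn
    intro hdiv
    obtain ⟨q, hq⟩ := hdvd
    rw [hq, Nat.mul_div_cancel_left q hn0] at hdiv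
    have hpow : p ^ ((Nat.card G).factorization p + 1) ∣ Nat.card G := by
      rw [pow_succ]
      conv_rhs => rw [hq]
      exact mul_dvd_mul hPn hdiv
    exact Nat.pow_succ_factorization_not_dvd Nat.card_pos.ne' hp hpow

end Cfsg.Agent.S0914
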