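import Cfsg.Statements.S4646
import Cfsg.Agent.Lib.BrauerPairs.PrincipalPair
import Cfsg.Agent.Lib.Blocks.Kernel
import Cfsg.Agent.Lib.Chars17.IrrBasic
import Cfsg.Agent.Lib.Transfer.NormalComplement

set_option autoImplicit false
open Cfsg

namespace Cfsg.Agent.S4646

/-- For a finite group G, a prime p and a maximal ideal M of the algebraic integers containing p: the principal block of G is nilpotent if and only if its p-regular rank is 1 (the trivial Brauer character is its only irreducible Brauer character). -/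
theorem result {G : Type*} [Group G] [Finite G] (p : ℕ) [Fact p.Prime] (M : Ideal Cfsg.AlgInt) (hM : Cfsg.IsPModular p M) : Cfsg.IsNilpotentBlock p M (Cfsg.principalBlock M G) ↔ Cfsg.blockRank p (Cfsg.principalBlock M G) = 1 := by
  classical
  have : Fintype G := Fintype.ofFinite G
  have hp : p.Prime := Fact.out
  set B := principalBlock M G with hBdef
  have hB : IsPBlock M B := CfsgLib.Blocks.isPBlock_principalBlock M
  have htriv : CfsgLib.Characters.principalIrr G ∈ B := by
    rw [hBdef, CfsgLib.Blocks.principalBlock_eq]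
    exact CfsgLib.Blocks.mem_blockOf_self hM (CfsgLib.Characters.principalIrr G)
  haveI := CfsgLib.Transfer.pResidual_normal (G := G) (p := p)
  have h1 : pRegularPart p (fun _ : G => (1 : ℂ)) ≠ 0 := by
    intro h
    have := congrFun h 1
    have hr : IsPRegular p (1 : G) := by rw [IsPRegular, orderOf_one]; exact hp.not_dvd_one
    rw [pRegularPart, if_pos hr] at this
    exact one_ne_zero this
  constructor
  · intro hnil
    have hfrob : CfsgLib.Transfer.FrobeniusCond p G := fun Q hQ g hg hcop =>
      hnil.2 Q _ (CfsgLib.BrauerPairs.isBrauerPairOf_principalPair hM hQ) g hg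
        (CfsgLib.BrauerPairs.stabilizesBlock_principal hM
          (CfsgLib.BrauerPairs.normalizer_le_normalizer_cz Q hg))
        (hp.coprime_iff_not_dvd.1 hcop.symm)
    have hR := CfsgLib.Transfer.hasNormalPComplement_iff.1
      (CfsgLib.Transfer.hasNormalPComplement_of_frobeniusCond hfrob)
    have hkey : ∀ χ ∈ B, pRegularPart p (χ : G → ℂ) =
        (χ : G → ℂ) 1 • pRegularPart p (fun _ : G => (1 : ℂ)) := by
      intro χ hχ
      funext g
      by_cases hg : IsPRegular p g
      · have hgR : g ∈ pResidual p G :=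
          CfsgLib.Transfer.mem_pResidual (Nat.Coprime.symm (hp.coprime_iff_not_dvd.2 hg))
        simp [pRegularPart, if_pos hg, CfsgLib.Blocks.principalBlock_kernel hM hχ hR hgR]
      · simp [pRegularPart, if_neg hg]
    have hspan : Submodule.span ℂ ((fun χ : IrrCharacter G => pRegularPart p (χ : G → ℂ)) '' B) =
        Submodule.span ℂ {pRegularPart p (fun _ : G => (1 : ℂ))} := by
      refine le_antisymm (Submodule.span_le.2 ?_) (Submodule.span_le.2 ?_)
      · rintro _ ⟨χ, hχ, rfl⟩
        exact Submodule.mem_span_singleton.2 ⟨_, (hkey χ hχ).symm⟩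
      · rintro _ rfl
        exact Submodule.subset_span ⟨_, htriv, rfl⟩
    rw [blockRank, hspan]
    exact finrank_span_singleton h1
  · intro hrank
    refine ⟨hB, fun Q e he x hx _ hxr => ?_⟩
    have hle : Submodule.span ℂ {pRegularPart p (fun _ : G => (1 : ℂ))} =
        Submodule.span ℂ ((fun χ : IrrCharacter G => pRegularPart p (χ : G → ℂ)) '' B) :=
      Submodule.eq_of_le_of_finrank_eq (Submodule.span_le.2 (by
        rintro _ rfl
        exact Submodule.subset_span ⟨_, htriv, rfl⟩)) ((finrank_span_singleton h1).trans hrank.symm)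
    let K : Subgroup G := ⨅ χ ∈ B, CfsgLib.Chars17.irrKer χ
    have hKmem : ∀ g, g ∈ K ↔ ∀ χ ∈ B, (χ : G → ℂ) g = (χ : G → ℂ) 1 := fun g => by
      simp only [K, Subgroup.mem_iInf, CfsgLib.Chars17.mem_irrKer]
    have hreg : ∀ g : G, IsPRegular p g → g ∈ K := by
      intro g hg
      rw [hKmem]
      intro χ hχ
      obtain ⟨c, hc⟩ := Submodule.mem_span_singleton.1
        (hle ▸ Submodule.subset_span ⟨χ, hχ, rfl⟩ :
          pRegularPart p (χ : G → ℂ) ∈ Submodule.span ℂ {pRegularPart p (fun _ : G => (1 : ℂ))})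
      have hr : IsPRegular p (1 : G) := by rw [IsPRegular, orderOf_one]; exact hp.not_dvd_one
      have e1 := congrFun hc g
      have e2 := congrFun hc 1
      simp only [pRegularPart, Pi.smul_apply, if_pos hg, if_pos hr, smul_eq_mul, mul_one] at e1 e2
      rw [← e1, ← e2]
    have hK : ¬ p ∣ Nat.card K := by
      intro hd
      obtain ⟨g, hg⟩ := exists_prime_orderOf_dvd_card' p hd
      rw [← Subgroup.orderOf_coe] at hg
      have h0 := CfsgLib.Blocks.blockCoeff_eq_zero_of_singular hM hB (y := ((g : G))) (hg ▸ dvd_rfl)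
      rw [CfsgLib.Blocks.blockCoeff_eq_sum] at h0
      have h2 := (mul_eq_zero.1 h0).resolve_left (inv_ne_zero (Nat.cast_ne_zero.2 Nat.card_pos.ne'))
      rw [Finset.sum_congr rfl (fun χ hχ => by
        rw [(hKmem (g : G)).1 g.2 χ (Finset.mem_filter.1 hχ).2, ← CfsgLib.Chars17.cast_irrDegree,
          map_natCast, ← Nat.cast_mul])] at h2
      rw [← Nat.cast_sum, Nat.cast_eq_zero, Finset.sum_eq_zero_iff] at h2
      have h3 := h2 (CfsgLib.Characters.principalIrr G)
        (Finset.mem_filter.2 ⟨Finset.mem_univ _, htriv⟩)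
      have := CfsgLib.Chars17.irrDegree_pos (CfsgLib.Characters.principalIrr G)
      rcases Nat.mul_eq_zero.1 h3 with h | h <;> omega
    have hR : ¬ p ∣ Nat.card (pResidual p G) := fun h => hK (h.trans (Subgroup.card_dvd_of_le
      (CfsgLib.Transfer.pResidual_le_iff.2 fun g hg => hreg g (hp.coprime_iff_not_dvd.1 hg.symm))))
    have hxR : x ∈ pResidual p G :=
      CfsgLib.Transfer.mem_pResidual (Nat.Coprime.symm (hp.coprime_iff_not_dvd.2 hxr))
    rw [Subgroup.mem_centralizer_iff]
    intro q hq
    have hQ : IsPGroup p Q := he.1.1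
    have hcR : x * q * x⁻¹ * q⁻¹ ∈ pResidual p G := by
      rw [mul_assoc x q, mul_assoc x, ← mul_assoc]
      have := (pResidual p G).mul_mem hxR
        ((inferInstance : (pResidual p G).Normal).conj_mem _ ((pResidual p G).inv_mem hxR) q)
      simpa [mul_assoc] using this
    have hcQ : x * q * x⁻¹ * q⁻¹ ∈ Q :=
      Q.mul_mem ((Subgroup.mem_normalizer_iff.1 hx q).1 hq) (Q.inv_mem hq)
    obtain ⟨k, hk⟩ := IsPGroup.iff_orderOf.1 hQ ⟨_, hcQ⟩
    rw [Subgroup.orderOf_mk] at hk
    have hone : x * q * x⁻¹ * q⁻¹ = 1 := orderOf_eq_one_iff.1 (Nat.eq_one_of_dvd_coprimes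
      ((CfsgLib.Transfer.coprime_orderOf_of_not_dvd hR hcR).pow_right k) dvd_rfl (hk ▸ dvd_rfl))
    rw [mul_inv_eq_one, mul_inv_eq_iff_eq_mul] at hone
    exact hone.symm

end Cfsg.Agent.S4646
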