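import Cfsg.Statements.S4720
import Cfsg.Agent.Lib.Blocks.SectionNorm
import Cfsg.Agent.Lib.Characters.Generalized
import Cfsg.Agent.Lib.Characters.LinearTwist

set_option autoImplicit false
open Cfsg CfsgLib.Characters
open scoped ComplexConjugate

set_option linter.style.haveILetI false

namespace Cfsg.Agent.S4720

/-- Let p be a prime, M a maximal ideal of the algebraic integers containing p, P a p-subgroup of the finite group G, N a subgroup with P ≤ N ≤ N_G(P), and U a nonempty subset of P normalized by N such that an element of U and an element of P that are conjugate in G are already conjugate in N, and such that λ(C_G(y)) = w·#C_N(y) for every y ∈ U with one rational number w, where λ(X) denotes the sum of the squares of the degrees of the irreducible characters in the principal p-block of X. For a complex function θ on P and χ in the principal block of G put a_χ(θ) = #P⁻¹ Σ_{y ∈ P} χ(y) θ(y⁻¹). Then for generalized characters θ, η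 of P with θ vanishing outside U, Σ_χ a_χ(θ)·conj(a_χ(η)) = (w/#P²)·Σ_{y ∈ P} θ(y)·conj(Σ_{x ∈ N} η(x y x⁻¹)) (η extended by zero off P; the conjugates lie in P), the first sum over the principal p-block of G. -/
theorem result {G : Type*} [Group G] [Finite G] (p : ℕ) [Fact p.Prime] (M : Ideal Cfsg.AlgInt) (hM : Cfsg.IsPModular p M) (P : Subgroup G) (hP : IsPGroup p P) (N : Subgroup G) (hPN : P ≤ N) (hNN : N ≤ Subgroup.normalizer (P : Set G)) (U : Set G) (hUne : U.Nonempty) (hUP : U ⊆ (P : Set G)) (hUN : ∀ n ∈ N, ∀ u ∈ U, n * u * n⁻¹ ∈ U) (hfus : ∀ u ∈ U, ∀ g : G, g * u * g⁻¹ ∈ (P : Set G) → ∃ n ∈ N, n * u * n⁻¹ = g * u * g⁻¹) (w : ℚ) (hw : ∀ y ∈ U, ((∑ᶠ ψ ∈ Cfsg.principalBlock M ↥(Subgroup.centralizer ({y} : Set G)), Cfsg.charDegree (ψ : ↥(Subgroup.centralizer ({y} : Set G)) → ℂ) ^ 2) : ℚ) = w * Nat.card ↥(N ⊓ Subgroup.centralizer ({y} : Set G))) (θ η : ↥P → ℂ) (hθ : Cfsg.IsGeneralizedCharacter ↥P θ) (hη : Cfsg.IsGeneralizedCharacter ↥P η)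 (hθU : ∀ y : ↥P, (y : G) ∉ U → θ y = 0) : ∑ᶠ χ ∈ Cfsg.principalBlock M G, ((Nat.card ↥P : ℂ)⁻¹ * ∑ᶠ y : ↥P, (χ : G → ℂ) (y : G) * θ y⁻¹) * (starRingEnd ℂ) ((Nat.card ↥P : ℂ)⁻¹ * ∑ᶠ y : ↥P, (χ : G → ℂ) (y : G) * η y⁻¹) = ((w : ℂ) / ((Nat.card ↥P : ℂ) ^ 2)) * ∑ᶠ y : ↥P, θ y * (starRingEnd ℂ) (∑ᶠ x : ↥N, Cfsg.extendByZero P η ((x : G) * (y : G) * (x : G)⁻¹)) := by
  classical
  letI := Fintype.ofFinite G
  letI := Fintype.ofFinite ↥P
  letI := Fintype.ofFinite ↥N
  set B := Finset.univ.filter (· ∈ Cfsg.principalBlock M G) with hB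
  have hfin : ∀ f : IrrCharacter G → ℂ, ∑ᶠ χ ∈ Cfsg.principalBlock M G, f χ = ∑ χ ∈ B, f χ := fun f =>
    finsum_mem_eq_sum_of_inter_support_eq _ (by rw [hB]; simp)
  rw [hfin]
  simp only [finsum_eq_sum_of_fintype, map_mul, map_inv₀, map_natCast, map_sum]
  have hPpart : ∀ y : G, y ∈ P → Cfsg.IsPPart p y y := fun y hy => by
    obtain ⟨k, hk⟩ := IsPGroup.iff_orderOf.1 hP ⟨y, hy⟩
    exact ⟨1, mul_one y, Commute.one_right y, ⟨k, by rw [← Subgroup.orderOf_mk y hy, hk]⟩,
      by rw [orderOf_one]; exact hM.1.not_dvd_one⟩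
  -- the block column sums
  have hS : ∀ y : ↥P, (y : G) ∈ U → ∀ x : ↥P,
      ∑ χ ∈ B, (χ : G → ℂ) y * conj ((χ : G → ℂ) x) =
        if IsConj (y : G) x then (w : ℂ) * Nat.card ↥(N ⊓ Subgroup.centralizer ({(y : G)} : Set G))
        else 0 := by
    intro y hy x
    by_cases h : IsConj (y : G) x
    · rw [if_pos h, Finset.sum_congr rfl fun χ _ => by
        rw [← classFunction_eq_of_isConj (irr_isClassFunction χ) h, Complex.mul_conj']]
      letI : Fintype (Subgroup.centralizer ({(y : G)} : Set G)) := Fintype.ofFinite _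
      obtain ⟨-, -, -, hk, -⟩ := hPpart y y.2
      have hn := CfsgLib.Blocks.principal_section_norm (z := (y : G)) hM hk
        (y := (1 : Subgroup.centralizer ({(y : G)} : Set G)))
        (by rw [orderOf_one]; exact hM.1.not_dvd_one)
      simp only [OneMemClass.coe_one, mul_one] at hn
      have hw' := congrArg (Rat.cast : ℚ → ℂ) (hw y hy)
      rw [finsum_mem_eq_sum_of_inter_support_eq _ (t := Finset.univ.filter
        (· ∈ Cfsg.principalBlock M ↥(Subgroup.centralizer ({(y : G)} : Set G)))) (by simp)] at hw'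
      push_cast at hw'
      rw [← hw']
      have hn' := congrArg (Complex.ofReal : ℝ → ℂ) hn
      push_cast at hn'
      rw [hn']
      refine Finset.sum_congr rfl fun ψ _ => ?_
      rw [CfsgLib.LinearTwist.apply_one_eq_charDegree (irr_isCharacter ψ), Complex.norm_natCast]
      norm_num
    · rw [if_neg h, ← CfsgLib.Blocks.sum_block_eq_zero_of_not_isConj hM
        (CfsgLib.Blocks.isPBlock_principalBlock M) (hPpart y y.2) (hPpart x x.2) h]
      exact Finset.sum_congr rfl fun χ _ => by rw [irr_apply_inv]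
  -- orbit counting
  have horb : ∀ y : ↥P, (y : G) ∈ U →
      (Nat.card ↥(N ⊓ Subgroup.centralizer ({(y : G)} : Set G)) : ℂ) *
        ∑ x : ↥P, (if IsConj (y : G) x then conj (η x⁻¹) else 0) =
        ∑ n : ↥N, conj (Cfsg.extendByZero P η ((n : G) * (y : G)⁻¹ * (n : G)⁻¹)) := by
    intro y hy
    have hmem : ∀ n : ↥N, (n : G) * (y : G) * (n : G)⁻¹ ∈ P := fun n => hUP (hUN _ n.2 _ hy)
    rw [Finset.mul_sum,
      ← Finset.sum_fiberwise Finset.univ (fun n : ↥N => (⟨_, hmem n⟩ : ↥P))]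
    refine Finset.sum_congr rfl fun x _ => ?_
    have hval : ∀ n : ↥N, (⟨_, hmem n⟩ : ↥P) = x →
        conj (Cfsg.extendByZero P η ((n : G) * (y : G)⁻¹ * (n : G)⁻¹)) = conj (η x⁻¹) := by
      intro n hn
      rw [show (n : G) * (y : G)⁻¹ * (n : G)⁻¹ = ((x⁻¹ : ↥P) : G) by
        rw [← hn]; simp [mul_assoc], CfsgLib.Induction.extendByZero_coe]
    rw [Finset.sum_congr rfl fun n hn => hval n (Finset.mem_filter.1 hn).2, Finset.sum_const,
      nsmul_eq_mul]
    split_ifs with hc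
    · congr 2
      rw [← Fintype.card_subtype, ← Nat.card_eq_fintype_card]
      obtain ⟨g, hg⟩ := isConj_iff.1 hc
      obtain ⟨a, ha, hae⟩ := hfus y hy g (by rw [hg]; exact x.2)
      rw [hg] at hae
      refine Nat.card_congr
        { toFun := fun c => ⟨⟨a * (c : G), N.mul_mem ha c.2.1⟩, Subtype.ext ?_⟩
          invFun := fun n => ⟨a⁻¹ * (n.1 : G), N.mul_mem (N.inv_mem ha) n.1.2,
            Subgroup.mem_centralizer_singleton_iff.2 ?_⟩
          left_inv := fun c => Subtype.ext (by simp)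
          right_inv := fun n => Subtype.ext (Subtype.ext (by simp)) }
      · show a * (c : G) * y * (a * (c : G))⁻¹ = x
        rw [← hae, mul_assoc a, Subgroup.mem_centralizer_singleton_iff.1 c.2.2]
        group
      · have h1 : (n.1 : G) * y * (n.1 : G)⁻¹ = x := congrArg Subtype.val n.2
        rw [← hae] at h1
        rw [mul_assoc, mul_inv_eq_iff_eq_mul.1 h1]
        group
    · have he : ∀ n : ↥N, (⟨_, hmem n⟩ : ↥P) ≠ x := fun n hn =>
        hc (isConj_iff.2 ⟨(n : G), congrArg Subtype.val hn⟩)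
      simp [he]
  have key : ∀ y : ↥P, θ y⁻¹ * ∑ x : ↥P,
      (∑ χ ∈ B, (χ : G → ℂ) y * conj ((χ : G → ℂ) x)) * conj (η x⁻¹) =
      θ y⁻¹ * ((w : ℂ) *
        ∑ n : ↥N, conj (Cfsg.extendByZero P η ((n : G) * (y : G)⁻¹ * (n : G)⁻¹))) := by
    intro y
    by_cases h0 : θ y⁻¹ = 0
    · simp [h0]
    have hy : (y : G) ∈ U := by
      by_contra hy
      exact h0 (by rw [isGeneralizedCharacter_apply_inv hθ, hθU y hy, map_zero])
    rw [← horb y hy, ← mul_assoc (w : ℂ), Finset.mul_sum (a := (w : ℂ) * _)]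
    congr 1
    refine Finset.sum_congr rfl fun x _ => ?_
    rw [hS y hy]
    split_ifs <;> simp
  calc ∑ χ ∈ B, (Nat.card ↥P : ℂ)⁻¹ * (∑ y : ↥P, (χ : G → ℂ) y * θ y⁻¹) *
        ((Nat.card ↥P : ℂ)⁻¹ * ∑ x : ↥P, conj ((χ : G → ℂ) x) * conj (η x⁻¹))
      = ((Nat.card ↥P : ℂ) ^ 2)⁻¹ * ∑ y : ↥P, θ y⁻¹ * ∑ x : ↥P,
          (∑ χ ∈ B, (χ : G → ℂ) y * conj ((χ : G → ℂ) x)) * conj (η x⁻¹) := by
        simp only [Finset.mul_sum, Finset.sum_mul]
        rw [Finset.sum_comm]
        conv_rhs => rw [Finset.sum_comm]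
        refine Finset.sum_congr rfl fun x _ => ?_
        rw [Finset.sum_comm]
        refine Finset.sum_congr rfl fun y _ => Finset.sum_congr rfl fun χ _ => ?_
        ring
    _ = ((Nat.card ↥P : ℂ) ^ 2)⁻¹ * ∑ y : ↥P, θ y⁻¹ * ((w : ℂ) *
          ∑ n : ↥N, conj (Cfsg.extendByZero P η ((n : G) * (y : G)⁻¹ * (n : G)⁻¹))) := by
        rw [Finset.sum_congr rfl fun y _ => key y]
    _ = _ := by
        rw [Finset.mul_sum, Finset.mul_sum]
        refine Fintype.sum_equiv (Equiv.inv ↥P) _ _ fun y => ?_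
        simp only [Equiv.inv_apply, Subgroup.coe_inv]
        ring

end Cfsg.Agent.S4720
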