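import Cfsg.Statements.S1250
-- import your own Cfsg.Agent.* helpers here

set_option autoImplicit false
open Cfsg

namespace Cfsg.Agent.S1250

/-- Let S be a Sylow p-subgroup of the finite group G, A ≤ S strongly closed in S, and N a normal subgroup. Then the image of A in G ⧸ N is strongly closed in the image of S (which is a Sylow p-subgroup of G ⧸ N). -/
theorem result {G : Type*} [Group G] [Finite G] {p : ℕ} [Fact p.Prime] (S : Sylow p G) (A : Subgroup G) (hA : Cfsg.IsStronglyClosed A (S : Subgroup G)) (N : Subgroup G) [N.Normal] : Cfsg.IsStronglyClosed (A.map (QuotientGroup.mk' N)) ((S : Subgroup G).map (QuotientGroup.mk' N)) := by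
  obtain ⟨hAS, hclosed⟩ := hA
  refine ⟨Subgroup.map_mono hAS, ?_⟩
  rintro _ ⟨a, ha, rfl⟩ gbar
  obtain ⟨g, rfl⟩ := QuotientGroup.mk'_surjective N gbar
  intro hg
  obtain ⟨s, hs, hse⟩ := hg
  have hmem : g * a * g⁻¹ ∈ (S : Subgroup G) ⊔ N := by
    have h0 : (QuotientGroup.mk' N) s = QuotientGroup.mk' N (g * a * g⁻¹) := by
      rw [hse]; simp
    obtain ⟨n, hn, hn'⟩ := (QuotientGroup.mk'_eq_mk' N).1 h0
    rw [← hn']
    exact mul_mem (Subgroup.mem_sup_left hs) (Subgroup.mem_sup_right hn)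
  set L := (S : Subgroup G) ⊔ N with hL
  have hyp : IsPGroup p (Subgroup.zpowers (g * a * g⁻¹)) := by
    have h1 : IsPGroup p (((S : Subgroup G).map (MulAut.conj g).toMonoidHom) : Subgroup G) :=
      S.isPGroup'.map _
    exact h1.to_le (Subgroup.zpowers_le.2 ⟨a, hAS ha, rfl⟩)
  obtain ⟨P', hP'⟩ := IsPGroup.exists_le_sylow (hyp.comap_subtype (K := L))
  obtain ⟨l, hl⟩ := MulAction.exists_smul_eq L P' (S.subtype (le_sup_left : (S : Subgroup G) ≤ L))
  have h3 : (l : G) * (g * a * g⁻¹) * (l : G)⁻¹ ∈ (S : Subgroup G) := by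
    have h4 : l * (⟨g * a * g⁻¹, hmem⟩ : L) * l⁻¹ ∈
        ((S.subtype (le_sup_left : (S : Subgroup G) ≤ L)) : Subgroup L) := by
      rw [← hl, Sylow.coe_subgroup_smul]
      exact Subgroup.smul_mem_pointwise_smul _ (MulAut.conj l) _
        (hP' (Subgroup.mem_zpowers (g * a * g⁻¹)))
    exact h4
  obtain ⟨t, ht, n, hn, htn⟩ := Subgroup.mem_sup_of_normal_right.1 l.2
  rw [← htn] at h3
  have h5 : n * (g * a * g⁻¹) * n⁻¹ ∈ (S : Subgroup G) := by
    have h6 := mul_mem (mul_mem (inv_mem ht) h3) ht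
    convert h6 using 1
    group
  have h6 := hclosed a ha (n * g) (by convert h5 using 1; group)
  refine ⟨_, h6, ?_⟩
  have hn1 : QuotientGroup.mk' N n = 1 := (QuotientGroup.eq_one_iff n).2 hn
  simp only [map_mul, map_inv, hn1, one_mul, mul_assoc]

end Cfsg.Agent.S1250
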