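import Cfsg.Statements.S0865
import Cfsg.Agent.Lib.Characters.LinearExt
import Cfsg.Agent.Lib.Characters.Induction

set_option autoImplicit false
open Cfsg

namespace Cfsg.Agent.S0865

/-- Let N be a normal subgroup of the finite group G and λ a character of N of degree 1, invariant under conjugation by G, whose order (under pointwise multiplication) is coprime to the index of N. Then there is a character μ of G of degree 1 restricting to λ with the same order as λ, and μ is the only degree-1 character of G restricting to λ whose order is coprime to the index of N. -/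
theorem result {G : Type*} [Group G] [Finite G] (N : Subgroup G) [hN : N.Normal] (lam : N → ℂ) (hlam : Cfsg.IsCharacter N lam ∧ lam 1 = 1) (hinv : ∀ (g : G) (n : N), lam ⟨g * n * g⁻¹, hN.conj_mem (n : G) n.2 g⟩ = lam n) (hcop : Nat.Coprime N.index (orderOf lam)) : ∃ μ : G → ℂ, (Cfsg.IsCharacter G μ ∧ μ 1 = 1 ∧ (∀ n : N, μ n = lam n) ∧ orderOf μ = orderOf lam) ∧ ∀ μ' : G → ℂ, Cfsg.IsCharacter G μ' ∧ μ' 1 = 1 → (∀ n : N, μ' n = lam n) → Nat.Coprime N.index (orderOf μ') → μ' = μ := by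
  obtain ⟨f, rfl⟩ := CfsgLib.LinearExt.exists_unitsHom hlam.1 hlam.2
  rw [CfsgLib.LinearExt.orderOf_coeUnitsFun] at hcop
  have hf : CfsgLib.LinearExt.InvHom N f := fun g n => Units.ext (hinv g n)
  obtain ⟨μ, hμ⟩ := CfsgLib.LinearExt.powExtends_index hf le_rfl f (fun _ => rfl)
  obtain ⟨l, hl⟩ : ∃ l : ℕ, (f ^ N.index) ^ l = f := exists_pow_eq_self_of_coprime hcop
  have hν₀ : ∀ n : N, (μ ^ l) n = f n := fun n => by
    rw [MonoidHom.pow_apply, hμ n, zpow_natCast, ← MonoidHom.pow_apply, ← MonoidHom.pow_apply, hl]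
  have hidx : ∀ β : G →* ℂˣ, (∀ n : N, β n = 1) → β ^ N.index = 1 := fun β h =>
    MonoidHom.ext fun g => by
      rw [MonoidHom.pow_apply, ← map_pow, MonoidHom.one_apply]
      exact h ⟨_, N.pow_index_mem g⟩
  -- powers by the order of `f` are killed by the index
  have hord : ∀ ν : G →* ℂˣ, (∀ n : N, ν n = f n) → (ν ^ orderOf f) ^ N.index = 1 := fun ν hν =>
    hidx _ fun n => by
      rw [MonoidHom.pow_apply, hν, ← MonoidHom.pow_apply, pow_orderOf_eq_one, MonoidHom.one_apply]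
  have hdvd : ∀ ν : G →* ℂˣ, (∀ n : N, ν n = f n) →
      Nat.Coprime N.index (orderOf ν) → orderOf ν ∣ orderOf f := fun ν hν hc => by
    refine hc.symm.dvd_of_dvd_mul_right (orderOf_dvd_of_pow_eq_one ?_)
    rw [pow_mul]
    exact hord ν hν
  have huniq : ∀ ν ν' : G →* ℂˣ, (∀ n : N, ν n = f n) → (∀ n : N, ν' n = f n) →
      Nat.Coprime N.index (orderOf ν) → Nat.Coprime N.index (orderOf ν') → ν' = ν := by
    intro ν ν' hν hν' hc hc'
    refine MonoidHom.ext fun g => ?_
    have h1 : (ν' g * (ν g)⁻¹) ^ N.index = 1 := by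
      have := DFunLike.congr_fun (hidx (ν' * ν⁻¹) fun n => by simp [hν n, hν' n]) g
      simpa using this
    have h2 : ∀ χ : G →* ℂˣ, orderOf χ ∣ orderOf f → χ g ^ orderOf f = 1 := fun χ h => by
      rw [← MonoidHom.pow_apply, orderOf_dvd_iff_pow_eq_one.1 h, MonoidHom.one_apply]
    have h3 : (ν' g * (ν g)⁻¹) ^ Nat.gcd N.index (orderOf f) = 1 := pow_gcd_eq_one.2 ⟨h1, by
      rw [mul_pow, inv_pow, h2 ν (hdvd ν hν hc), h2 ν' (hdvd ν' hν' hc'), inv_one, mul_one]⟩
    rw [hcop.gcd_eq_one, pow_one] at h3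
    exact mul_inv_eq_one.1 h3
  let ν : G →* ℂˣ := ((μ ^ l) ^ N.index) ^ l
  have hν : ∀ n : N, ν n = f n := fun n => by
    show (((μ ^ l) ^ N.index) ^ l) n = f n
    rw [MonoidHom.pow_apply, MonoidHom.pow_apply, hν₀, ← MonoidHom.pow_apply,
      ← MonoidHom.pow_apply, hl]
  have hνo : orderOf ν ∣ orderOf f := by
    refine orderOf_dvd_of_pow_eq_one ?_
    show (((μ ^ l) ^ N.index) ^ l) ^ orderOf f = 1
    rw [pow_right_comm _ l, pow_right_comm _ N.index, hord _ hν₀, one_pow]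
  have hfν : orderOf f ∣ orderOf ν := orderOf_dvd_of_pow_eq_one <| MonoidHom.ext fun n => by
    rw [MonoidHom.pow_apply, ← hν, ← MonoidHom.pow_apply, pow_orderOf_eq_one]
    rfl
  have hνc : Nat.Coprime N.index (orderOf ν) := Nat.Coprime.coprime_dvd_right hνo hcop
  refine ⟨fun g => (ν g : ℂ), ⟨CfsgLib.Induction.isCharacter_monoidHom
    ((Units.coeHom ℂ).comp ν), by simp, fun n => congrArg Units.val (hν n), ?_⟩, ?_⟩
  · rw [CfsgLib.LinearExt.orderOf_coeUnitsFun, CfsgLib.LinearExt.orderOf_coeUnitsFun]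
    exact Nat.dvd_antisymm hνo hfν
  · rintro μ' ⟨hμ', hμ'1⟩ hn hc'
    obtain ⟨ν', rfl⟩ := CfsgLib.LinearExt.exists_unitsHom hμ' hμ'1
    rw [CfsgLib.LinearExt.orderOf_coeUnitsFun] at hc'
    rw [huniq ν ν' hν (fun n => Units.ext (hn n)) hνc hc']

end Cfsg.Agent.S0865
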