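import Cfsg.Statements.S0867
import Cfsg.Agent.Lib.Characters.ExtensionUnique
import Cfsg.Agent.S0865

set_option autoImplicit false
open Cfsg

namespace Cfsg.Agent.S0867

/-- Let N be a normal subgroup of the finite group G and ϑ an irreducible character of N of degree d, invariant under conjugation by G, such that the index of N is coprime to the product of d and the determinantal order of ϑ. Then there is an irreducible character χ of G restricting to ϑ whose determinantal order equals that of ϑ, and χ is the only irreducible character of G restricting to ϑ whose determinantal order is coprime to the index of N. -/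
theorem result {G : Type*} [Group G] [Finite G] (N : Subgroup G) [hN : N.Normal] (ϑ : N → ℂ) (hϑ : Cfsg.IsIrrCharacter N ϑ) (hinv : ∀ (g : G) (n : N), ϑ ⟨g * n * g⁻¹, hN.conj_mem (n : G) n.2 g⟩ = ϑ n) (d : ℕ) (hd : ϑ 1 = d) (hcop : Nat.Coprime N.index (Cfsg.detOrder ϑ * d)) : ∃ χ : G → ℂ, (Cfsg.IsIrrCharacter G χ ∧ (∀ n : N, χ n = ϑ n) ∧ Cfsg.detOrder χ = Cfsg.detOrder ϑ) ∧ ∀ χ' : G → ℂ, Cfsg.IsIrrCharacter G χ' → (∀ n : N, χ' n = ϑ n) → Nat.Coprime N.index (Cfsg.detOrder χ') → χ' = χ := by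
  obtain ⟨hco, hcd⟩ := Nat.coprime_mul_iff_right.1 hcop
  obtain ⟨μ, ⟨hμ, hμ1, hμn, hμo⟩, huniq⟩ := Cfsg.Agent.S0865.result N (Cfsg.detChar ϑ)
    (CfsgLib.CharExtension.isCharacter_detChar N hϑ)
    (CfsgLib.CharExtension.detChar_invariant N hϑ hinv) hco
  have hext := CfsgLib.CharExtension.extends_of_det N hϑ hinv d hd hcd μ hμ hμ1 hμn
  obtain ⟨f, rfl⟩ := CfsgLib.LinearExt.exists_unitsHom hμ hμ1
  obtain ⟨χ, ⟨hχ, hχn, hχd⟩, hu⟩ :=
    CfsgLib.CharExtension.existsUnique_ext_det N hϑ d hd hcd hext f hμn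
  refine ⟨χ, ⟨hχ, hχn, ?_⟩, fun χ' hχ' hn' hc' => ?_⟩
  · unfold Cfsg.detOrder
    rw [hχd]
    exact hμo
  · refine hu χ' ⟨hχ', hn', ?_⟩
    obtain ⟨m, σ, hσ, rfl⟩ := hχ'
    refine huniq _ ?_ (fun n => ?_) hc'
    · rw [CfsgLib.CharExtension.detChar_eq]
      exact ⟨CfsgLib.Induction.isCharacter_monoidHom (LinearMap.det.comp σ), by simp⟩
    · obtain ⟨e, ρ, hρ, rfl⟩ := hϑ
      rw [CfsgLib.CharExtension.detChar_eq, CfsgLib.CharExtension.detChar_eq]
      exact CfsgLib.CharExtension.det_restrict ρ σ hn' n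

end Cfsg.Agent.S0867
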