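import Cfsg.Statements.S0856
import Cfsg.Agent.Lib.Characters.Clifford

set_option autoImplicit false
open Cfsg

namespace Cfsg.Agent.S0856

/-- Let N be a normal subgroup of the finite group G and φ, ϑ irreducible characters of N that are invariant under conjugation by G, such that the pointwise product φ * ϑ is irreducible and ϑ is the restriction of an irreducible character χ of G. Then multiplication by χ is a bijection from the set of irreducible characters of G having nonzero inner product with the function induced from φ onto the set of those having nonzero inner product with the function induced from φ * ϑ. -/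
theorem result {G : Type*} [Group G] [Fintype G] (N : Subgroup G) [hN : N.Normal] (φ ϑ : N → ℂ) (hφ : Cfsg.IsIrrCharacter N φ) (hϑ : Cfsg.IsIrrCharacter N ϑ) (hφinv : ∀ (g : G) (n : N), φ ⟨g * n * g⁻¹, hN.conj_mem (n : G) n.2 g⟩ = φ n) (hϑinv : ∀ (g : G) (n : N), ϑ ⟨g * n * g⁻¹, hN.conj_mem (n : G) n.2 g⟩ = ϑ n) (hprod : Cfsg.IsIrrCharacter N (φ * ϑ)) (χ : G → ℂ) (hχ : Cfsg.IsIrrCharacter G χ) (hext : ∀ n : N, χ n = ϑ n) : Set.BijOn (fun β : G → ℂ => β * χ) {β : G → ℂ | Cfsg.IsIrrCharacter G β ∧ Cfsg.classInner (Cfsg.indFun N φ) β ≠ 0} {ψ : G → ℂ | Cfsg.IsIrrCharacter G ψ ∧ Cfsg.classInner (Cfsg.indFun N (φ * ϑ)) ψ ≠ 0} := by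
  classical
  have : Fintype N := Fintype.ofFinite N
  have hφc := CfsgLib.Characters.isCharacter_of_irr hφ
  have hprodc := CfsgLib.Characters.isCharacter_of_irr hprod
  have hχc := CfsgLib.Characters.isCharacter_of_irr hχ
  have hinv2 : ∀ (g : G) (n : N),
      (φ * ϑ) ⟨g * n * g⁻¹, hN.conj_mem (n : G) n.2 g⟩ = (φ * ϑ) n := fun g n => by
    simp only [Pi.mul_apply, hφinv g n, hϑinv g n]
  have hnorm : ∀ {α : N → ℂ}, Cfsg.IsIrrCharacter N α →
      (∀ (g : G) (n : N), α ⟨g * n * g⁻¹, hN.conj_mem (n : G) n.2 g⟩ = α n) →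
      Cfsg.classInner (Cfsg.indFun N α) (Cfsg.indFun N α) = (N.index : ℂ) := by
    intro α hα hinv
    rw [CfsgLib.Clifford.classInner_indFun_indFun hN
      (CfsgLib.Characters.isClassFunction_of_isCharacter (CfsgLib.Characters.isCharacter_of_irr hα)),
      Finset.sum_congr rfl (fun g _ => show Cfsg.classInner α (CfsgLib.Clifford.conjChar hN α g) = 1 by
        rw [show CfsgLib.Clifford.conjChar hN α g = α from funext (hinv g)]
        exact CfsgLib.Characters.classInner_irr_self hα),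
      Finset.sum_const, nsmul_one, Finset.card_univ, ← Nat.card_eq_fintype_card, ← N.card_mul_index,
      Nat.cast_mul, ← mul_assoc, inv_mul_cancel₀ (Nat.cast_ne_zero.2 Nat.card_pos.ne'), one_mul]
  have hindc := CfsgLib.Induction.isCharacter_indFun N hφc
  obtain ⟨m, hm, hsum⟩ := CfsgLib.Clifford.exists_mult hindc
  have hsum2 : Cfsg.indFun N (φ * ϑ) =
      ∑ β : Cfsg.IrrCharacter G, (m β : ℂ) • ((β : G → ℂ) * χ) := by
    have h : Cfsg.indFun N φ * χ = Cfsg.indFun N (φ * ϑ) := by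
      rw [CfsgLib.Induction.indFun_mul N (CfsgLib.Characters.isClassFunction_of_isCharacter hχc)]
      exact congrArg _ (funext fun n => by simp [hext n])
    rw [← h, hsum, Finset.sum_mul]
    exact Finset.sum_congr rfl fun β _ => smul_mul_assoc _ _ _
  have hprodchar : ∀ β : Cfsg.IrrCharacter G, Cfsg.IsCharacter G ((β : G → ℂ) * χ) := fun β =>
    CfsgLib.Characters.isCharacter_mul (CfsgLib.Characters.irr_isCharacter β) hχc
  have hc : ∀ β γ : Cfsg.IrrCharacter G, ∃ c : ℕ,
      Cfsg.classInner ((β : G → ℂ) * χ) ((γ : G → ℂ) * χ) = c :=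
    fun β γ => CfsgLib.Characters.classInner_char_nat (hprodchar β) (hprodchar γ)
  choose c hc using hc
  have hsq : N.index = ∑ β : Cfsg.IrrCharacter G, m β * m β := by
    have h := hnorm hφ hφinv
    rw [CfsgLib.Characters.classInner_eq_sum_mul
      (CfsgLib.Characters.isClassFunction_of_isCharacter hindc)] at h
    simp only [hm, map_natCast] at h
    exact_mod_cast h.symm
  have hdouble : N.index =
      ∑ β : Cfsg.IrrCharacter G, ∑ γ : Cfsg.IrrCharacter G, m β * m γ * c β γ := by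
    have h := hnorm hprod hinv2
    rw [hsum2, CfsgLib.Characters.classInner_sum_left] at h
    simp only [CfsgLib.Characters.classInner_smul_left, CfsgLib.Characters.classInner_sum_right,
      CfsgLib.Characters.classInner_smul_right, hc, map_natCast, Finset.mul_sum] at h
    have h' : ∑ β : Cfsg.IrrCharacter G, ∑ γ : Cfsg.IrrCharacter G, (m β * m γ * c β γ : ℕ) = N.index := by
      have h2 : ((∑ β : Cfsg.IrrCharacter G, ∑ γ : Cfsg.IrrCharacter G, (m β * m γ * c β γ : ℕ) : ℕ) : ℂ) =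
          (N.index : ℂ) := by
        push_cast
        rw [← h]
        refine Finset.sum_congr rfl fun β _ => Finset.sum_congr rfl fun γ _ => ?_
        ring
      exact_mod_cast h2
    exact h'.symm
  have hcpos : ∀ β, 1 ≤ c β β := by
    intro β
    by_contra h
    have h0 : c β β = 0 := by omega
    have hz : ((β : G → ℂ) * χ) = 0 := by
      refine CfsgLib.Clifford.sum_mult_eq_zero (hprodchar β) fun ξ => ?_
      obtain ⟨k, hk, -⟩ := CfsgLib.Clifford.exists_mult (hprodchar β)
      have hh := hc β β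
      rw [h0, CfsgLib.Characters.classInner_eq_sum_mul
        (CfsgLib.Characters.isClassFunction_of_isCharacter (hprodchar β))] at hh
      simp only [hk, map_natCast] at hh
      have hh' : ∑ ξ : Cfsg.IrrCharacter G, k ξ * k ξ = 0 := by exact_mod_cast hh
      rw [hk ξ, mul_self_eq_zero.1 (Finset.sum_eq_zero_iff.1 hh' ξ (Finset.mem_univ _)), Nat.cast_zero]
    have := congrFun hz 1
    rw [Pi.mul_apply, Pi.zero_apply, mul_eq_zero] at this
    exact this.elim (CfsgLib.Characters.irr_one_ne_zero β) (CfsgLib.Characters.irr_one_ne_zero ⟨χ, hχ⟩)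
  have hrow : ∀ β, m β * m β ≤ ∑ γ, m β * m γ * c β γ := fun β =>
    le_trans (Nat.le_mul_of_pos_right _ (hcpos β))
      (Finset.single_le_sum (f := fun γ => m β * m γ * c β γ) (fun _ _ => Nat.zero_le _)
        (Finset.mem_univ β))
  have hroweq : ∀ β, ∑ γ, m β * m γ * c β γ = m β * m β := fun β =>
    ((Finset.sum_eq_sum_iff_of_le fun β _ => hrow β).1 (hsq.symm.trans hdouble) β
      (Finset.mem_univ β)).symm
  have hfacts : ∀ β, m β ≠ 0 → c β β = 1 ∧ ∀ γ, γ ≠ β → m γ ≠ 0 → c β γ = 0 := by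
    intro β hβ
    have hsplit := hroweq β
    rw [← Finset.add_sum_erase _ _ (Finset.mem_univ β)] at hsplit
    have h2 : m β * m β * 1 ≤ m β * m β * c β β := Nat.mul_le_mul_left _ (hcpos β)
    refine ⟨Nat.eq_of_mul_eq_mul_left (n := m β * m β) (by positivity) (by omega), fun γ hγ hmγ => ?_⟩
    have hrest : ∑ γ ∈ Finset.univ.erase β, m β * m γ * c β γ = 0 := by omega
    have := Finset.sum_eq_zero_iff.1 hrest γ (Finset.mem_erase.2 ⟨hγ, Finset.mem_univ _⟩)
    simp [hβ, hmγ] at this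
    exact this
  have hirr : ∀ β, m β ≠ 0 → Cfsg.IsIrrCharacter G ((β : G → ℂ) * χ) := fun β hβ =>
    CfsgLib.Clifford.isIrr_of_norm_one (hprodchar β) (by rw [hc, (hfacts β hβ).1, Nat.cast_one])
  have hmem : ∀ (β : G → ℂ) (hβ : Cfsg.IsIrrCharacter G β),
      Cfsg.classInner (Cfsg.indFun N φ) β ≠ 0 → m ⟨β, hβ⟩ ≠ 0 := fun β hβ h h0 => h (by
    rw [hm ⟨β, hβ⟩, h0, Nat.cast_zero])
  refine ⟨?_, ?_, ?_⟩
  · rintro β ⟨hβ, hne⟩
    have hβm := hmem β hβ hne
    refine ⟨hirr ⟨β, hβ⟩ hβm, ?_⟩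
    rw [hsum2, CfsgLib.Characters.classInner_sum_left, Finset.sum_eq_single (⟨β, hβ⟩ : Cfsg.IrrCharacter G)]
    · rw [CfsgLib.Characters.classInner_smul_left, hc ⟨β, hβ⟩ ⟨β, hβ⟩, (hfacts _ hβm).1]
      simpa using hβm
    · intro γ _ hγ
      rw [CfsgLib.Characters.classInner_smul_left, hc γ ⟨β, hβ⟩]
      by_cases hmγ : m γ = 0
      · simp [hmγ]
      · simp [(hfacts γ hmγ).2 _ (Ne.symm hγ) hβm]
    · exact fun h => absurd (Finset.mem_univ _) h
  · rintro β ⟨hβ, hne⟩ γ ⟨hγ, hne'⟩ heq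
    by_contra hbg
    have h1 := hc ⟨β, hβ⟩ ⟨γ, hγ⟩
    rw [(hfacts _ (hmem β hβ hne)).2 _ (fun h => hbg (congrArg Subtype.val h).symm) (hmem γ hγ hne')]
      at h1
    simp only at heq h1
    rw [← heq, CfsgLib.Characters.classInner_irr_self (hirr ⟨β, hβ⟩ (hmem β hβ hne))] at h1
    simp at h1
  · rintro ψ ⟨hψ, hne⟩
    rw [hsum2, CfsgLib.Characters.classInner_sum_left] at hne
    obtain ⟨β, -, hβ⟩ := Finset.exists_ne_zero_of_sum_ne_zero hne
    rw [CfsgLib.Characters.classInner_smul_left, mul_ne_zero_iff] at hβ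
    have hβm : m β ≠ 0 := fun h => hβ.1 (by rw [h, Nat.cast_zero])
    refine ⟨β, ⟨β.2, by rw [hm β]; exact hβ.1⟩, ?_⟩
    by_contra hne'
    exact hβ.2 (CfsgLib.Characters.classInner_irr_ne (hirr β hβm) hψ hne')

end Cfsg.Agent.S0856
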