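import Cfsg.Statements.S4456
import Cfsg.Agent.Lib.CharDeg.ResidualSum
-- import your own Cfsg.Agent.* helpers here

set_option autoImplicit false
open Cfsg
open CfsgLib.Characters CfsgLib.CharCorr

namespace Cfsg.Agent.S4456

/-- Let p be a prime and G a finite group such that p divides the degree of every irreducible character of G of degree greater than one. Then G has a normal p-complement: a normal subgroup of order prime to p whose index is a power of p. -/
theorem result {G : Type*} [Group G] [Finite G] (p : ℕ) (hp : p.Prime) (hdeg : ∀ χ : Cfsg.IrrCharacter G, Cfsg.charDegree (χ : G → ℂ) ≠ 1 → p ∣ Cfsg.charDegree (χ : G → ℂ)) : ∃ N : Subgroup G, N.Normal ∧ (Nat.card N).Coprime p ∧ ∃ k : ℕ, N.index = p ^ k := by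
  classical
  haveI := Fact.mk hp
  let _ := Fintype.ofFinite G
  haveI hNn : (Cfsg.pResidual p G).Normal := CfsgLib.Transfer.pResidual_normal
  set N := Cfsg.pResidual p G with hN
  obtain ⟨a, ha⟩ := CfsgLib.Transfer.pResidual_index_eq_pow (G := G) (p := p)
  rw [← hN] at ha
  refine ⟨N, hNn, ?_, a, ha⟩
  rw [Nat.coprime_comm, hp.coprime_iff_not_dvd]
  intro hdvd
  let T : Subgroup (G →* ℂˣ) :=
    { carrier := {f | ¬ p ∣ orderOf f}
      one_mem' := by simp [hp.not_dvd_one]
      mul_mem' := fun {x y} hx hy hd =>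
        (hp.dvd_mul.1 (hd.trans (Commute.all x y).orderOf_mul_dvd_mul_orderOf)).elim hx hy
      inv_mem' := fun {x} hx => by
        show ¬ p ∣ orderOf x⁻¹
        intro hd; exact hx (hd.trans (dvd_of_eq (orderOf_inv x))) }
  haveI := Fintype.ofFinite T
  have hT : ¬ p ∣ Nat.card T := fun hd => by
    obtain ⟨x, hx⟩ := exists_prime_orderOf_dvd_card' p hd
    exact x.2 (by rw [Subgroup.orderOf_coe, hx])
  let lin : (G →* ℂˣ) → IrrCharacter G := fun f => ⟨_, isIrrCharacter_of_hom f⟩
  have hlin1 : ∀ f, charDegree (lin f : G → ℂ) = 1 := fun f =>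
    CfsgLib.LinearTwist.charDegree_eq_of_apply_one (by simp [lin])
  have hlin : ∀ f : G →* ℂˣ, detChar (lin f : G → ℂ) = fun g => (f g : ℂ) := fun f => by
    obtain ⟨d, ρ, hρ, hc⟩ := (lin f).2
    haveI := hρ
    have h1 : d = 1 := by
      have := congrFun hc 1
      simpa [lin] using this
    subst h1
    rw [← hc, CfsgLib.CharExtension.detChar_eq ρ]
    funext g
    have := congrFun hc g
    rw [← LinearMap.det_toMatrix', Matrix.det_fin_one]
    rw [Representation.character, LinearMap.trace_eq_matrix_trace ℂ (Pi.basisFun ℂ (Fin 1)),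
      Matrix.trace_fin_one] at this
    exact this
  have hsum := CfsgLib.CharDeg.sum_sq_congr (G := G) (p := p)
  rw [finsum_mem_eq_finite_toFinset_sum _ (Set.toFinite _)] at hsum
  rw [Finset.sum_congr rfl (g := fun _ => (1 : ℤ)) fun χ hχ => by
    simp only [Set.Finite.mem_toFinset, Set.mem_setOf_eq] at hχ
    rw [show charDegree (χ : G → ℂ) = 1 from by_contra fun h1 => hχ.1 (hdeg χ h1)]
    norm_num, Finset.sum_const, nsmul_one, ← hN] at hsum
  apply hT
  rw [← Int.natCast_dvd_natCast]
  have h1 : (Nat.card T : ℤ) ≡ (Nat.card N : ℤ) [ZMOD p] := by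
    refine (?_ : (Nat.card T : ℤ) = _) ▸ hsum.symm
    rw [Nat.card_eq_fintype_card, ← Finset.card_univ]
    congr 1
    refine Finset.card_bij (fun f _ => lin f.1) (fun f _ => ?_) (fun f _ f' _ h => ?_) fun χ hχ => ?_
    · simp only [Set.Finite.mem_toFinset, Set.mem_setOf_eq]
      refine ⟨by rw [hlin1]; exact hp.not_dvd_one, ?_⟩
      show ¬ p ∣ orderOf (detChar (lin f.1 : G → ℂ))
      rw [hlin, CfsgLib.LinearExt.orderOf_coeUnitsFun]
      exact f.2
    · exact Subtype.ext (MonoidHom.ext fun g => Units.ext (congrFun (congrArg Subtype.val h) g))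
    · simp only [Set.Finite.mem_toFinset, Set.mem_setOf_eq] at hχ
      obtain ⟨f, hf⟩ := CfsgLib.LinearTwist.exists_hom_of_charDegree_one (irr_isCharacter χ)
        (by_contra fun h1 => hχ.1 (hdeg χ h1))
      have he : χ = lin f := Subtype.ext hf
      refine ⟨⟨f, ?_⟩, Finset.mem_univ _, he.symm⟩
      have h2 := hχ.2
      rw [he] at h2
      change ¬ p ∣ orderOf (detChar (lin f : G → ℂ)) at h2
      rwa [hlin, CfsgLib.LinearExt.orderOf_coeUnitsFun] at h2
  exact (Int.ModEq.dvd_iff h1).2 (Int.natCast_dvd_natCast.2 hdvd)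

end Cfsg.Agent.S4456
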