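import Cfsg.Statements.S0813
-- import your own Cfsg.Agent.* helpers here
import Cfsg.Agent.Lib.AutPSL.OutPSL

set_option autoImplicit false
open Cfsg

namespace Cfsg.Agent.S0813

open CfsgLib.AutPSL in
/-- scalars act trivially on `PSL_n` -/
theorem conjAut_central {n : ℕ} {F : Type*} [Field F] {g : GL (Fin n) F}
    (hg : g ∈ Subgroup.center (GL (Fin n) F)) : (conjAut g : MulAut (PSLG n F)) = 1 := by
  refine MulEquiv.ext fun x => ?_
  induction x using QuotientGroup.induction_on with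
  | H t =>
    rw [conjAut_mk, MulAut.one_apply]
    congr 1
    refine Subtype.ext ?_
    have h := congrArg Units.val (Subgroup.mem_center_iff.1 hg (Matrix.SpecialLinearGroup.toGL t))
    rw [Units.val_mul, Units.val_mul] at h
    rw [slConj_coe]
    change (t : Matrix (Fin n) (Fin n) F) * (g : Matrix (Fin n) (Fin n) F) = (g : Matrix (Fin n) (Fin n) F) * t.1 at h
    rw [← h, Matrix.mul_assoc, ← Units.val_mul, mul_inv_cancel, Units.val_one, Matrix.mul_one]


/-- |Aut(PSL_n(q))|, q = p^f: for n ≥ 3 it is 2 f |PGL_n(q)|, and for n = 2 (q ≥ 4) it is f |PGL_2(q)|. -/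
theorem result {F : Type*} [Field F] [Fintype F] (p f : ℕ) [Fact p.Prime] (hf : 1 ≤ f) (hF : Fintype.card F = p ^ f) (n : ℕ) (hn : 2 ≤ n) (h2 : n = 2 → 4 ≤ p ^ f) : Nat.card (MulAut (Matrix.ProjectiveSpecialLinearGroup (Fin n) F)) = (if n = 2 then 1 else 2) * f * Nat.card (Matrix.ProjGenLinGroup (Fin n) F) := by
  classical
  obtain ⟨e⟩ := CfsgLib.AutPSL.nonempty_ringAut_equiv (F := F) hF
  have hcardσ : Nat.card (F ≃+* F) = f := by
    rw [Nat.card_congr e.toEquiv, Nat.card_congr Multiplicative.toAdd, Nat.card_zmod]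
  have : Finite (Matrix.ProjGenLinGroup (Fin n) F) :=
    inferInstanceAs (Finite (GL (Fin n) F ⧸ Subgroup.center (GL (Fin n) F)))
  have : Finite (F ≃+* F) := Nat.finite_of_card_ne_zero (by omega)
  set c := (CfsgLib.AutPSL.conjAut : GL (Fin n) F →* MulAut (CfsgLib.AutPSL.PSLG n F))
  set φ := (CfsgLib.AutPSL.fieldAut : (F ≃+* F) →* MulAut (CfsgLib.AutPSL.PSLG n F))
  set ι := (CfsgLib.AutPSL.iotaAut : MulAut (CfsgLib.AutPSL.PSLG n F))
  let cbar : Matrix.ProjGenLinGroup (Fin n) F →* MulAut (CfsgLib.AutPSL.PSLG n F) :=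
    QuotientGroup.lift (Subgroup.center (GL (Fin n) F)) c fun g hg => conjAut_central hg
  let Ψ : Matrix.ProjGenLinGroup (Fin n) F × (F ≃+* F) → MulAut (CfsgLib.AutPSL.PSLG n F) :=
    fun x => cbar x.1 * φ x.2
  have hΨ : Function.Injective Ψ := by
    rintro ⟨x, σ⟩ ⟨x', σ'⟩ h
    obtain ⟨g, rfl⟩ := Matrix.ProjGenLinGroup.mk_surjective x
    obtain ⟨g', rfl⟩ := Matrix.ProjGenLinGroup.mk_surjective x'
    replace h : c g * φ σ = c g' * φ σ' := h
    have h1 : c (g'⁻¹ * g) * φ (σ * σ'⁻¹) = 1 := by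
      simp only [map_mul, map_inv]
      rw [mul_assoc, ← mul_assoc (c g), h]
      group
    obtain ⟨hg, hσ⟩ := CfsgLib.AutPSL.eq_one_of_conj_field hn h1
    exact Prod.ext (QuotientGroup.eq.2 (by simpa using inv_mem hg)) (mul_inv_eq_one.1 hσ)
  have hrange : ∀ β, (∃ x, Ψ x = β) ∨ ∃ x, Ψ x * ι = β := fun β => by
    obtain ⟨g, σ, h | h⟩ := CfsgLib.AutPSL.aut_psl_structure hn β
    · exact Or.inl ⟨(Matrix.ProjGenLinGroup.mk g, σ), h.symm⟩
    · exact Or.inr ⟨(Matrix.ProjGenLinGroup.mk g, σ), h.symm⟩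
  by_cases hn2 : n = 2
  · subst hn2
    have hsurj : Function.Surjective Ψ := fun β => by
      rcases hrange β with h | ⟨⟨x, σ⟩, h⟩
      · exact h
      · obtain ⟨w, hw⟩ := CfsgLib.AutPSL.iotaAut_two (F := F)
        obtain ⟨g, rfl⟩ := Matrix.ProjGenLinGroup.mk_surjective x
        refine ⟨(Matrix.ProjGenLinGroup.mk (g * CfsgLib.AutPSL.glField σ w), σ), ?_⟩
        rw [← h]
        change c (g * CfsgLib.AutPSL.glField σ w) * φ σ = c g * φ σ * ι
        rw [map_mul, mul_assoc, ← CfsgLib.AutPSL.fieldAut_mul_conjAut, ← mul_assoc]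
        rw [show c w = ι from hw]
    rw [← Nat.card_eq_of_bijective Ψ ⟨hΨ, hsurj⟩, Nat.card_prod, hcardσ, if_pos rfl, one_mul,
      mul_comm]
  · have hn3 : 3 ≤ n := by omega
    let Θ : (Matrix.ProjGenLinGroup (Fin n) F × (F ≃+* F)) ⊕
        (Matrix.ProjGenLinGroup (Fin n) F × (F ≃+* F)) → MulAut (CfsgLib.AutPSL.PSLG n F) :=
      Sum.elim Ψ fun x => Ψ x * ι
    have hΘ : Function.Bijective Θ := by
      refine ⟨hΨ.sumElim (fun a b h => hΨ (mul_right_cancel h)) ?_, fun β => ?_⟩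
      · rintro ⟨x, σ⟩ ⟨x', σ'⟩ h
        obtain ⟨g, rfl⟩ := Matrix.ProjGenLinGroup.mk_surjective x
        obtain ⟨g', rfl⟩ := Matrix.ProjGenLinGroup.mk_surjective x'
        replace h : c g * φ σ = c g' * φ σ' * ι := h
        refine CfsgLib.AutPSL.ne_one_of_conj_field_iota hn3 (g⁻¹ * g') (σ' * σ⁻¹) ?_
        simp only [map_mul, map_inv]
        have hh : ι * (φ σ)⁻¹ = (φ σ)⁻¹ * ι := by
          rw [← map_inv φ σ]; exact CfsgLib.AutPSL.iotaAut_mul_fieldAut _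
        rw [mul_assoc _ (φ σ' * (φ σ)⁻¹) ι, mul_assoc (φ σ'), ← hh]
        calc (c g)⁻¹ * c g' * (φ σ' * (ι * (φ σ)⁻¹))
            = (c g)⁻¹ * (c g' * φ σ' * ι) * (φ σ)⁻¹ := by group
          _ = 1 := by rw [← h]; group
      · rcases hrange β with ⟨x, h⟩ | ⟨x, h⟩
        · exact ⟨Sum.inl x, h⟩
        · exact ⟨Sum.inr x, h⟩
    rw [← Nat.card_eq_of_bijective Θ hΘ, Nat.card_sum, Nat.card_prod, hcardσ, if_neg hn2]
    ring

end Cfsg.Agent.S0813
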