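import Cfsg.Statements.S4037
import Cfsg.Agent.Lib.InvChar.Kazarin
-- import your own Cfsg.Agent.* helpers here

set_option autoImplicit false
open Cfsg

namespace Cfsg.Agent.S4037

/-- If an element x of a finite group G has a conjugacy class of prime-power size, then the normal closure of x in G (the subgroup generated by the conjugacy class of x) is solvable. -/
theorem result {G : Type*} [Group G] [Finite G]
    (x : G) {p : ℕ} (hp : p.Prime) (k : ℕ) (hx : (ConjClasses.mk x).carrier.ncard = p ^ k) :
    Group.IsSolvable ↥(Subgroup.normalClosure ({x} : Set G)) := by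
  haveI hN := CfsgLib.Structure.solvableRadical_normal (G := G)
  have hidx : (Subgroup.centralizer ({x} : Set G)).index = p ^ k := by
    rw [← hx, ← CfsgLib.Characters.card_isConj_eq_index, ← Nat.card_coe_set_eq]
    exact Nat.card_congr (Equiv.subtypeEquivRight fun g => by
      rw [ConjClasses.mem_carrier_iff_mk_eq, ConjClasses.mk_eq_mk_iff_isConj]
      exact isConj_comm)
  refine CfsgLib.Structure.isSolvable_of_le ?_ (CfsgLib.Structure.isSolvable_solvableRadical (G := G))
  exact Subgroup.normalClosure_le_normal (Set.singleton_subset_iff.2 (CfsgLib.InvChar.mem_solvableRadical_of_class hp x hidx.dvd))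

end Cfsg.Agent.S4037
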