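import Cfsg.Statements.S0016
import Cfsg.Agent.Lib.SubgroupCount.Basic
import Cfsg.Agent.Lib.TwoGroups.OneInvolution

set_option autoImplicit false
open Cfsg

namespace Cfsg.Agent.S0016

/-- A finite p-group in which only one subgroup has order p is either cyclic or (with p = 2) isomorphic to a generalized quaternion group. -/
theorem result {G : Type*} [Group G] [Finite G] (p : ℕ) [Fact p.Prime]
    (hG : IsPGroup p G) (huniq : ∀ H K : Subgroup G, Nat.card H = p → Nat.card K = p → H = K) :
    IsCyclic G ∨ (p = 2 ∧ ∃ n : ℕ, Nonempty (G ≃* QuaternionGroup (2 ^ n))) := by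
  have hu : ∀ a b : G, orderOf a = p → orderOf b = p → b ∈ Subgroup.zpowers a := by
    intro a b ha hb
    rw [huniq (Subgroup.zpowers a) (Subgroup.zpowers b) (by rw [Nat.card_zpowers, ha])
      (by rw [Nat.card_zpowers, hb])]
    exact Subgroup.mem_zpowers b
  classical
  by_cases hp2 : p = 2
  · subst hp2
    rcases CfsgLib.TwoGroups.OneInvolution.isCyclic_or_quaternion hG (fun a b ha hb => by
      have hm := hu a b ha hb
      rw [mem_zpowers_iff_mem_range_orderOf, ha] at hm
      simp only [Finset.mem_image, Finset.mem_range] at hm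
      obtain ⟨k, hk, hkb⟩ := hm
      interval_cases k
      · rw [pow_zero] at hkb
        rw [← hkb, orderOf_one] at hb
        omega
      · rwa [pow_one] at hkb) with h | ⟨n, -, h⟩
    · exact Or.inl h
    · exact Or.inr ⟨rfl, n, h⟩
  · obtain ⟨n, hn⟩ := hG.exists_card_eq
    exact Or.inl (CfsgLib.SubgroupCount.isCyclic_of_unique (Fact.out : p.Prime) n hn hu
      (fun h => absurd h hp2))

end Cfsg.Agent.S0016
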