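import Cfsg.Statements.S0199
import Cfsg.Agent.Lib.Involutions.BaerSuzuki
-- import your own Cfsg.Agent.* helpers here

set_option autoImplicit false
open Cfsg

namespace Cfsg.Agent.S0199

/-- Baer–Suzuki Theorem: a p-subgroup X of a finite group such that X and any of its conjugates generate a p-group is contained in a normal p-subgroup. -/
theorem result {G : Type*} [Group G] [Finite G] {p : ℕ} [Fact p.Prime] (X : Subgroup G) (hX : IsPGroup p X) (h : ∀ g : G, IsPGroup p ↥(X ⊔ X.map (MulAut.conj g).toMonoidHom)) : ∃ N : Subgroup G, N.Normal ∧ IsPGroup p N ∧ X ≤ N := by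
  refine ⟨Subgroup.normalClosure (X : Set G), Subgroup.normalClosure_normal, ?_,
    Subgroup.le_normalClosure⟩
  apply CfsgLib.Involutions.isPGroup_closure_of_pairwise
  · intro g d hd
    obtain ⟨a, ha, hc⟩ := Group.mem_conjugatesOfSet_iff.mp hd
    obtain ⟨c, rfl⟩ := isConj_iff.mp hc
    exact Group.mem_conjugatesOfSet_iff.mpr ⟨a, ha, isConj_iff.mpr ⟨g * c, by group⟩⟩
  · intro a ha b hb
    obtain ⟨v, hv, hac⟩ := Group.mem_conjugatesOfSet_iff.mp ha
    obtain ⟨w, hw, hbc⟩ := Group.mem_conjugatesOfSet_iff.mp hb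
    obtain ⟨c, rfl⟩ := isConj_iff.mp hac
    obtain ⟨e, rfl⟩ := isConj_iff.mp hbc
    refine ((h (c⁻¹ * e)).map (MulAut.conj c).toMonoidHom).to_le ?_
    rw [Subgroup.closure_le]
    rintro _ (rfl | rfl)
    · exact ⟨v, Subgroup.mem_sup_left hv, by simp⟩
    · exact ⟨c⁻¹ * e * w * (c⁻¹ * e)⁻¹, Subgroup.mem_sup_right ⟨w, hw, rfl⟩, by
        rw [MulEquiv.coe_toMonoidHom, MulAut.conj_apply]; group⟩

end Cfsg.Agent.S0199
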