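import Cfsg.Statements.S0505
import Cfsg.Agent.Lib.PCore.PSolvable
import Cfsg.Agent.Lib.OddOrder41.Coprime

set_option autoImplicit false
open Cfsg

namespace Cfsg.Agent.S0505

theorem le_normalizer_sup {G : Type*} [Group G] (R T : Subgroup G) :
    Subgroup.normalizer (R : Set G) ⊓ Subgroup.normalizer (T : Set G) ≤
      Subgroup.normalizer ((R ⊔ T : Subgroup G) : Set G) := by
  have main : ∀ w : G, w ∈ Subgroup.normalizer (R : Set G) ⊓ Subgroup.normalizer (T : Set G) →
      ∀ x ∈ R ⊔ T, w * x * w⁻¹ ∈ R ⊔ T := by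
    intro w hw x hx
    have : R ⊔ T ≤ (R ⊔ T).comap (MulAut.conj w).toMonoidHom := by
      rw [sup_le_iff]
      exact ⟨fun r hr => (le_sup_left : R ≤ R ⊔ T) ((Subgroup.mem_normalizer_iff.mp hw.1 r).mp hr),
        fun r hr => (le_sup_right : T ≤ R ⊔ T) ((Subgroup.mem_normalizer_iff.mp hw.2 r).mp hr)⟩
    exact this hx
  intro w hw
  rw [Subgroup.mem_normalizer_iff]
  intro x
  refine ⟨main w hw x, fun hx => ?_⟩
  have := main w⁻¹ (inv_mem hw) _ hx
  simpa [mul_assoc] using this


/-- Let G be a finite group of even order in which the centralizer of every involution is solvable and has trivial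
core (no nontrivial normal subgroup of odd order). Then G is of characteristic 2 type. -/
theorem result {G : Type*} [Group G] [Finite G]
    (h2 : Even (Nat.card G))
    (hs : ∀ t : G, orderOf t = 2 → Group.IsSolvable (Subgroup.centralizer ({t} : Set G)))
    (hc : ∀ t : G, orderOf t = 2 → Cfsg.oddCore (Subgroup.centralizer ({t} : Set G)) = ⊥) :
    Cfsg.IsCharacteristicTwoType G := by
  classical
  haveI : Fact (Nat.Prime 2) := ⟨Nat.prime_two⟩
  refine ⟨h2, fun T hT hTne => ?_⟩
  set N := Subgroup.normalizer (T : Set G) with hNdef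
  show Subgroup.centralizer (Cfsg.pCore 2 N : Set N) ≤ Cfsg.pCore 2 N
  set K := Cfsg.pCore 2 N with hK
  set D := Subgroup.centralizer (K : Set N) with hD
  have hTN : T ≤ N := Subgroup.le_normalizer
  have hTK : T.subgroupOf N ≤ K :=
    CfsgLib.PCore.le_pCore (Subgroup.normal_in_normalizer) (hT.comap_of_injective _ N.subtype_injective)
  have hDT : ∀ d : N, d ∈ D → ∀ x ∈ T, x * (d : G) = (d : G) * x := fun d hd x hx =>
    congrArg Subtype.val (Subgroup.mem_centralizer_iff.mp hd ⟨x, hTN hx⟩
      (hTK (Subgroup.mem_subgroupOf.mpr hx)))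
  haveI : Nontrivial T := (Subgroup.nontrivial_iff_ne_bot T).mpr hTne
  obtain ⟨k, hk, hkc⟩ := hT.nontrivial_iff_card.mp inferInstance
  haveI : Finite T := inferInstance
  haveI := hT.center_nontrivial
  obtain ⟨k', hk', hkc'⟩ := (hT.to_subgroup (Subgroup.center T)).nontrivial_iff_card.mp inferInstance
  obtain ⟨t0, ht0⟩ := exists_prime_orderOf_dvd_card' (G := Subgroup.center T) 2
    (hkc' ▸ dvd_pow_self 2 (by omega))
  set t : G := ((t0 : T) : G) with htdef
  have ht : orderOf t = 2 := by
    rw [htdef, Subgroup.orderOf_coe, Subgroup.orderOf_coe]; exact ht0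
  have htT : t ∈ T := (t0 : T).2
  have hTt : T ≤ Subgroup.centralizer ({t} : Set G) := fun x hx =>
    Subgroup.mem_centralizer_singleton_iff.mpr
      (congrArg Subtype.val (Subgroup.mem_center_iff.mp t0.2 ⟨x, hx⟩))
  set C := Subgroup.centralizer ({t} : Set G) with hCdef
  have hDC : D.map N.subtype ≤ C := by
    rintro _ ⟨d, hd, rfl⟩
    exact Subgroup.mem_centralizer_singleton_iff.mpr (hDT d hd t htT).symm
  haveI hDsol : Group.IsSolvable D := by
    haveI := hs t ht
    refine Group.isSolvable_of_isSolvable_injective (G := D)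
      (f := (Subgroup.inclusion hDC).comp (D.equivMapOfInjective N.subtype N.subtype_injective).toMonoidHom)
      ((Subgroup.inclusion_injective hDC).comp (MulEquiv.injective _))
  haveI hDn : D.Normal := inferInstance
  set W0 : Subgroup N := (Cfsg.pPrimeCore 2 D).map D.subtype with hW0
  haveI hW0n : W0.Normal := ConjAct.normal_of_characteristic_of_normal
  have hW0D : W0 ≤ D := Subgroup.map_subtype_le _
  have hW0odd : (Nat.card W0).Coprime 2 := by
    rw [hW0, Subgroup.card_map_of_injective D.subtype_injective]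
    exact CfsgLib.PCore.pPrimeCore_coprime
  -- the odd core of the centraliser of the 2-core is trivial
  have hW0bot : W0 = ⊥ := by
    set W := W0.map N.subtype with hW
    have hWodd : (Nat.card W).Coprime 2 := by
      rwa [hW, Subgroup.card_map_of_injective N.subtype_injective]
    have hWC : W ≤ C := (Subgroup.map_mono hW0D).trans hDC
    have hWN : ∀ x ∈ N, ∀ w ∈ W, x * w * x⁻¹ ∈ W := by
      rintro x hx _ ⟨w, hw, rfl⟩
      exact ⟨_, hW0n.conj_mem w hw ⟨x, hx⟩, rfl⟩
    set R := (Cfsg.pCore 2 C).map C.subtype with hR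
    have hRp : IsPGroup 2 R := CfsgLib.PCore.pCore_isPGroup.map _
    have hCR : ∀ x ∈ C, x ∈ Subgroup.normalizer (R : Set G) := by
      intro x hx
      rw [Subgroup.mem_normalizer_iff]
      intro r
      constructor
      · rintro ⟨r', hr', rfl⟩
        exact ⟨_, (Cfsg.pCore_normal 2 C).conj_mem r' hr' ⟨x, hx⟩, rfl⟩
      · rintro ⟨r', hr', hrr⟩
        refine ⟨_, (Cfsg.pCore_normal 2 C).conj_mem r' hr' ⟨x, hx⟩⁻¹, ?_⟩
        have e : (r' : G) = x * r * x⁻¹ := hrr
        show x⁻¹ * (r' : G) * x⁻¹⁻¹ = r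
        rw [e]; group
    set H := R ⊔ T with hH
    have hHp : IsPGroup 2 H :=
      IsPGroup.to_sup_of_normal_left' hRp hT (fun x hx => hCR x (hTt hx))
    have hHC : H ≤ C := sup_le (Subgroup.map_subtype_le _) hTt
    have hWT : ∀ w ∈ W, ∀ x ∈ T, x * w = w * x := by
      rintro _ ⟨w, hw, rfl⟩ x hx
      exact hDT w (hW0D hw) x hx
    have hWH : W ≤ Subgroup.normalizer (H : Set G) := by
      intro w hw
      refine le_normalizer_sup R T (Subgroup.mem_inf.mpr ⟨hCR w (hWC hw), ?_⟩)
      exact Subgroup.mem_normalizer_iff.mpr fun x => ⟨fun hx => by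
          rw [← hWT w hw x hx, mul_inv_cancel_right]; exact hx, fun hx => by
          have e := hWT w hw _ hx
          have e2 : w * x * w⁻¹ = x := by
            calc w * x * w⁻¹ = w⁻¹ * (w * (w * x * w⁻¹)) := by group
              _ = w⁻¹ * ((w * x * w⁻¹) * w) := by rw [e]
              _ = x := by group
          rwa [e2] at hx⟩
    have hcop : (Nat.card W).Coprime (Nat.card H) := by
      obtain ⟨n, hn⟩ := IsPGroup.iff_card.mp hHp
      rw [hn]; exact Nat.Coprime.pow_right n hWodd
    have hTfix : T ≤ H ⊓ Subgroup.centralizer (W : Set G) := fun x hx =>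
      ⟨(le_sup_right : T ≤ H) hx, Subgroup.mem_centralizer_iff.mpr fun w hw => (hWT w hw x hx).symm⟩
    have hfix : W ≤ Subgroup.centralizer (H : Set G) := by
      refine CfsgLib.OddOrder41.le_centralizer_of_centralizer_fixed_le H W hHp.isNilpotent hWH hcop ?_
      intro x hx
      refine ⟨hx.1, Subgroup.mem_centralizer_iff.mpr fun w hw => ?_⟩
      have hxN : x ∈ N := Subgroup.mem_normalizer_iff.mpr fun y => ⟨fun hy => by
          rw [← Subgroup.mem_centralizer_iff.mp hx.2 y (hTfix hy), mul_inv_cancel_right]; exact hy,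
        fun hy => by
          have e := Subgroup.mem_centralizer_iff.mp hx.2 _ (hTfix hy)
          have e2 : x * y * x⁻¹ = y := by
            calc x * y * x⁻¹ = x⁻¹ * (x * (x * y * x⁻¹)) := by group
              _ = x⁻¹ * ((x * y * x⁻¹) * x) := by rw [e]
              _ = y := by group
          rwa [e2] at hy⟩
      have h1 : x * w * x⁻¹ * w⁻¹ ∈ H ⊓ W := by
        refine ⟨?_, W.mul_mem (hWN x hxN w hw) (W.inv_mem hw)⟩
        have : x * w * x⁻¹ * w⁻¹ = x * (w * x⁻¹ * w⁻¹) := by group
        rw [this]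
        exact H.mul_mem hx.1 ((Subgroup.mem_normalizer_iff.mp (hWH hw) _).mp (H.inv_mem hx.1))
      rw [disjoint_iff.mp (Subgroup.disjoint_of_coprime_natCard hcop.symm), Subgroup.mem_bot] at h1
      calc w * x = 1 * (w * x) := (one_mul _).symm
        _ = (x * w * x⁻¹ * w⁻¹) * (w * x) := by rw [h1]
        _ = x * w := by group
    have hWR : W ≤ R := by
      haveI := hs t ht
      have hsol : Cfsg.IsPSolvable 2 C := CfsgLib.PCore.isPSolvable_of_isSolvable
      have hcent := CfsgLib.PCore.centralizer_pCore_le hsol (hc t ht)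
      intro w hw
      refine ⟨⟨w, hWC hw⟩, hcent (Subgroup.mem_centralizer_iff.mpr fun r hr => Subtype.ext ?_), rfl⟩
      exact Subgroup.mem_centralizer_iff.mp (hfix hw) _ ((le_sup_left : R ≤ H) ⟨r, hr, rfl⟩)
    have hWbot : W = ⊥ := CfsgLib.PCore.eq_bot_of_isPGroup_coprime (hRp.to_le hWR) hWodd
    rwa [hW, Subgroup.map_eq_bot_iff_of_injective _ N.subtype_injective] at hWbot
  have hO : Cfsg.pPrimeCore 2 D = ⊥ := by
    rwa [hW0, Subgroup.map_eq_bot_iff_of_injective _ D.subtype_injective] at hW0bot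
  have hcd := CfsgLib.PCore.centralizer_pCore_le (G := D) (p := 2) CfsgLib.PCore.isPSolvable_of_isSolvable hO
  have hDK : (Cfsg.pCore 2 D).map D.subtype ≤ K :=
    CfsgLib.PCore.le_pCore ConjAct.normal_of_characteristic_of_normal (CfsgLib.PCore.pCore_isPGroup.map _)
  have htop : (⊤ : Subgroup D) ≤ Cfsg.pCore 2 D := by
    refine le_trans ?_ hcd
    intro d _
    exact Subgroup.mem_centralizer_iff.mpr fun r hr =>
      Subtype.ext (Subgroup.mem_centralizer_iff.mp d.2 _ (hDK ⟨r, hr, rfl⟩))
  intro d hd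
  exact hDK ⟨⟨d, hd⟩, htop (Subgroup.mem_top _), rfl⟩


end Cfsg.Agent.S0505
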