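import Cfsg.Statements.S0514
import Cfsg.Agent.Lib.Transfer.NormalComplement
import Cfsg.Agent.Lib.OddOrder41.Coprime
import Cfsg.Agent.S0505
import Mathlib.GroupTheory.SpecificGroups.Dihedral
import Mathlib.GroupTheory.SpecificGroups.Cyclic

set_option autoImplicit false
open Cfsg

namespace Cfsg.Agent.S0514

/-- An element of odd order normalizing a 2-subgroup of a dihedral group and fixing an
involution in it centralizes it. -/
theorem dihedral_fix {X : Type*} [Group X] [Finite X] {n : ℕ} (hn : NeZero n) (H : Subgroup X)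
    (hHp : IsPGroup 2 H) (ψ : ↥H →* DihedralGroup n) (hψ : Function.Injective ψ) (g : X)
    (hg : g ∈ Subgroup.normalizer (H : Set X)) (hodd : Odd (orderOf g)) {t : X} (hgt : g * t = t * g)
    (htH : t ∈ H) (ht1 : t ≠ 1) : ∀ h ∈ H, g * h = h * g := by
  classical
  haveI : Fact (Nat.Prime 2) := ⟨Nat.prime_two⟩
  have hcoprime : ∀ K : Subgroup X, K ≤ H → (orderOf g).Coprime (Nat.card K) := by
    intro K hK
    obtain ⟨k, hk⟩ := IsPGroup.iff_card.mp (hHp.to_le hK)
    rw [hk]
    exact Nat.Coprime.pow_right k (Nat.coprime_two_right.mpr hodd)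
  have hc : ∀ h ∈ H, g * h * g⁻¹ ∈ H := fun h hh => (Subgroup.mem_normalizer_iff.mp hg h).mp hh
  intro h hh
  by_cases hsmall : Nat.card H ≤ 4
  · by_cases h1 : h = 1
    · simp [h1]
    by_cases h2 : h = t
    · rw [h2]; exact hgt
    have hS : ∀ y ∈ H, y ≠ 1 → y ≠ t →
        g * y * g⁻¹ ∈ H ∧ g * y * g⁻¹ ≠ 1 ∧ g * y * g⁻¹ ≠ t := by
      intro y hy hy1 hyt
      refine ⟨hc y hy, fun e => hy1 ?_, fun e => hyt ?_⟩
      · calc y = g⁻¹ * (g * y * g⁻¹) * g := by group
          _ = 1 := by rw [e]; group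
      · calc y = g⁻¹ * (g * y * g⁻¹) * g := by group
          _ = t := by rw [e, mul_assoc, ← hgt]; group
    obtain ⟨hh', hh1', hht'⟩ := hS h hh h1 h2
    obtain ⟨hh'', hh1'', hht''⟩ := hS _ hh' hh1' hht'
    have hcases : g * h * g⁻¹ = h ∨ g * (g * h * g⁻¹) * g⁻¹ = h := by
      by_contra hne
      push Not at hne
      have h5 : ({⟨1, H.one_mem⟩, ⟨t, htH⟩, ⟨h, hh⟩, ⟨_, hh'⟩, ⟨_, hh''⟩} : Finset H).card = 5 := by
        have hne3 : g * (g * h * g⁻¹) * g⁻¹ ≠ g * h * g⁻¹ := fun e =>
          hne.1 (mul_left_cancel (mul_right_cancel e))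
        rw [Finset.card_insert_of_notMem, Finset.card_insert_of_notMem, Finset.card_insert_of_notMem,
          Finset.card_pair]
        · simpa using hne3.symm
        · simp only [Finset.mem_insert, Finset.mem_singleton, Subtype.mk.injEq, not_or]
          exact ⟨hne.1.symm, hne.2.symm⟩
        · simp only [Finset.mem_insert, Finset.mem_singleton, Subtype.mk.injEq, not_or]
          exact ⟨Ne.symm h2, hht'.symm, hht''.symm⟩
        · simp only [Finset.mem_insert, Finset.mem_singleton, Subtype.mk.injEq, not_or]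
          exact ⟨ht1.symm, Ne.symm h1, hh1'.symm, hh1''.symm⟩
      haveI : Fintype H := Fintype.ofFinite _
      have := Finset.card_le_univ ({⟨1, H.one_mem⟩, ⟨t, htH⟩, ⟨h, hh⟩, ⟨_, hh'⟩, ⟨_, hh''⟩} : Finset H)
      rw [h5, ← Nat.card_eq_fintype_card] at this
      omega
    have hg2 : Commute (g ^ 2) h := by
      show g ^ 2 * h = h * g ^ 2
      rw [pow_two]
      rcases hcases with e | e
      · have e' : g * h = h * g := by
          calc g * h = g * h * g⁻¹ * g := by group
            _ = h * g := by rw [e]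
        rw [mul_assoc, e', ← mul_assoc, e', mul_assoc]
      · calc g * g * h = g * (g * h * g⁻¹) * g⁻¹ * (g * g) := by group
          _ = h * (g * g) := by rw [e]
    obtain ⟨k, hk⟩ := hodd
    have hge : (g ^ 2) ^ (k + 1) = g := by
      rw [← pow_mul, show 2 * (k + 1) = orderOf g + 1 by omega, pow_succ, pow_orderOf_eq_one, one_mul]
    have := (hg2.pow_left (k + 1))
    rw [hge] at this
    exact this
  -- now `H` has at least five elements
  set Rot : Subgroup (DihedralGroup n) := Subgroup.zpowers (DihedralGroup.r 1) with hRot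
  have hrot : ∀ i, DihedralGroup.r i ∈ Rot := by
    intro i
    obtain ⟨j, hj⟩ := ZMod.intCast_surjective i
    exact ⟨j, by simp [hj]⟩
  have hsr : ∀ d : DihedralGroup n, d ∉ Rot → ∃ i, d = DihedralGroup.sr i := by
    rintro (i | i) hd
    · exact absurd (hrot i) hd
    · exact ⟨i, rfl⟩
  set R0 : Subgroup H := Rot.comap ψ with hR0
  set R : Subgroup X := R0.map H.subtype with hR
  have hRH : R ≤ H := Subgroup.map_subtype_le _
  haveI hR0c : IsCyclic R0 := isCyclic_of_injective
    (((ψ.comp R0.subtype)).codRestrict Rot fun x => x.2)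
    (fun a b e => Subtype.ext (hψ (congrArg Subtype.val e)))
  haveI hRc : IsCyclic R := isCyclic_of_surjective
    (R0.equivMapOfInjective H.subtype H.subtype_injective) (MulEquiv.surjective _)
  have hidx : R0.index ≤ 2 := by
    rcases eq_or_ne R0 ⊤ with e | e
    · rw [e, Subgroup.index_top]; omega
    obtain ⟨a, -, ha⟩ := SetLike.exists_of_lt (lt_top_iff_ne_top.mpr e)
    refine le_of_eq (Subgroup.index_eq_two_iff.mpr ⟨a, fun b => ?_⟩)
    obtain ⟨i, hi⟩ := hsr _ ha
    by_cases hb : b ∈ R0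
    · refine Or.inr ⟨hb, fun hba => ha ?_⟩
      simpa using R0.mul_mem (R0.inv_mem hb) hba
    · obtain ⟨j, hj⟩ := hsr _ hb
      refine Or.inl ⟨?_, hb⟩
      show ψ (b * a) ∈ Rot
      rw [map_mul, hi, hj, DihedralGroup.sr_mul_sr]
      exact hrot _
  obtain ⟨x, hx⟩ := IsCyclic.exists_generator (α := R)
  have hxord : 2 < orderOf (x : X) := by
    rw [Subgroup.orderOf_coe, orderOf_eq_card_of_forall_mem_zpowers hx]
    have h1 := Subgroup.card_mul_index R0
    have h2 : Nat.card R = Nat.card R0 := Subgroup.card_map_of_injective H.subtype_injective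
    rw [h2]
    by_contra hle
    have := Nat.mul_le_mul (not_lt.mp hle) hidx
    omega
  have hgx : g * (x : X) * g⁻¹ ∈ R := by
    refine ⟨⟨_, hc _ (hRH x.2)⟩, ?_, rfl⟩
    by_contra hnot
    obtain ⟨i, hi⟩ := hsr _ hnot
    have h2 := DihedralGroup.orderOf_sr i
    rw [← hi, orderOf_injective ψ hψ, Subgroup.orderOf_mk] at h2
    have h3 : orderOf (g * (x : X) * g⁻¹) = orderOf (x : X) :=
      orderOf_injective (MulAut.conj g).toMonoidHom (MulAut.conj g).injective (x : X)
    omega
  have hgR : g ∈ Subgroup.normalizer (R : Set X) := by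
    have e : R.map (MulAut.conj g).toMonoidHom = R := by
      refine Subgroup.eq_of_le_of_card_ge ?_ (Subgroup.card_map_of_injective (MulAut.conj g).injective).ge
      rintro _ ⟨r, hr, rfl⟩
      obtain ⟨k, hk⟩ := hx ⟨r, hr⟩
      have hk' : (x : X) ^ k = r := congrArg Subtype.val hk
      rw [← hk', map_zpow]
      exact R.zpow_mem hgx k
    rw [Subgroup.mem_normalizer_iff]
    intro y
    constructor
    · intro hy
      rw [← e]
      exact ⟨y, hy, rfl⟩
    · intro hy
      rw [← e] at hy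
      obtain ⟨y', hy', hyy⟩ := hy
      have : y' = y := by simpa using hyy
      exact this ▸ hy'
  have hfixR : ∀ r ∈ R, g * r = r * g := by
    let φ := R.normalizerMonoidHom ⟨g, hgR⟩
    have h1 : orderOf φ ∣ Nat.card (MulAut R) := orderOf_dvd_natCard φ
    have h2 : orderOf φ ∣ orderOf g := by
      rw [← Subgroup.orderOf_mk g hgR]
      exact orderOf_map_dvd R.normalizerMonoidHom _
    obtain ⟨k, hk⟩ := IsPGroup.iff_card.mp (hHp.to_le hRH)
    have h3 : φ = 1 := by
      rw [← orderOf_eq_one_iff]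
      rw [IsCyclic.card_mulAut, hk] at h1
      rcases k with _ | k
      · simpa using h1
      · rw [Nat.totient_prime_pow_succ Nat.prime_two, show (2 : ℕ) - 1 = 1 from rfl, mul_one] at h1
        exact Nat.eq_one_of_dvd_coprimes
          (Nat.Coprime.pow_right k (Nat.coprime_two_right.mpr hodd)) h2 h1
    intro r hr
    have h4 := congrArg (fun f : MulAut R => ((f ⟨r, hr⟩ : R) : X)) h3
    have h5 : g * r * g⁻¹ = r := h4
    calc g * r = g * r * g⁻¹ * g := by group
      _ = r * g := by rw [h5]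
  by_cases hR' : h ∈ R
  · exact hfixR h hR'
  have hstep : h⁻¹ * (g * h * g⁻¹) ∈ R := by
    refine ⟨⟨h, hh⟩⁻¹ * ⟨_, hc h hh⟩, ?_, rfl⟩
    have hn1 : (⟨h, hh⟩ : H) ∉ R0 := fun e => hR' ⟨_, e, rfl⟩
    have hn2 : (⟨_, hc h hh⟩ : H) ∉ R0 := fun e => by
      apply hR'
      have hm : g * h * g⁻¹ ∈ R := ⟨_, e, rfl⟩
      exact (Subgroup.mem_normalizer_iff.mp hgR h).mpr hm
    show ψ _ ∈ Rot
    obtain ⟨i, hi⟩ := hsr _ hn1
    obtain ⟨j, hj⟩ := hsr _ hn2
    rw [map_mul, map_inv, hi, hj, DihedralGroup.inv_sr, DihedralGroup.sr_mul_sr]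
    exact hrot _
  refine CfsgLib.OddOrder41.fixes_of_step_fixed (hcoprime R hRH) hstep (by group) ?_
  rw [hfixR _ hstep]; group


/-- In a finite group whose Sylow 2-subgroups are dihedral of order at least 4, the centralizer of any involution has a
normal subgroup of odd order whose index in the centralizer is a power of 2. -/
theorem result {X : Type*} [Group X] [Finite X]
    (S : Sylow 2 X) (n : ℕ) (hn : 2 ≤ n) (hS : Nonempty ((S : Subgroup X) ≃* DihedralGroup n)) (t : X)
    (ht : orderOf t = 2) :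
    ∃ N : Subgroup (Subgroup.centralizer ({t} : Set X)), N.Normal ∧ Odd (Nat.card N) ∧ ∃ k : ℕ, N.index = 2 ^ k := by
  classical
  haveI : Fact (Nat.Prime 2) := ⟨Nat.prime_two⟩
  set C := Subgroup.centralizer ({t} : Set X) with hC
  have hfc : CfsgLib.Transfer.FrobeniusCond 2 ↥C := by
    intro Q hQ g hg hcop
    rw [Subgroup.mem_centralizer_iff]
    intro q hq
    have htC : t ∈ C := Subgroup.mem_centralizer_singleton_iff.mpr rfl
    set H : Subgroup X := Q.map C.subtype ⊔ Subgroup.zpowers t with hH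
    have hcomm : ∀ x ∈ C, x * t = t * x := fun x hx => Subgroup.mem_centralizer_singleton_iff.mp hx
    have hzn : ∀ x ∈ C, x ∈ Subgroup.normalizer (Subgroup.zpowers t : Set X) := by
      intro x hx
      rw [Subgroup.mem_normalizer_iff]
      intro y
      have hxy : ∀ y ∈ Subgroup.zpowers t, x * y * x⁻¹ = y := by
        rintro y ⟨k, rfl⟩
        have h1 : Commute x t := hcomm x hx
        show x * t ^ k * x⁻¹ = t ^ k
        rw [(h1.zpow_right k).eq, mul_inv_cancel_right]
      refine ⟨fun hy => by rw [hxy y hy]; exact hy, fun hy => ?_⟩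
      have e := hxy _ hy
      have e2 : x * y * x⁻¹ = y := mul_left_cancel (mul_right_cancel e)
      rwa [e2] at hy
    have hQC : Q.map C.subtype ≤ Subgroup.normalizer (Subgroup.zpowers t : Set X) := fun x hx =>
      hzn x (Subgroup.map_subtype_le _ hx)
    have hHp : IsPGroup 2 H := by
      refine IsPGroup.to_sup_of_normal_right' (hQ.map _) ?_ hQC
      exact IsPGroup.of_card (n := 1) (by rw [Nat.card_zpowers, ht, pow_one])
    obtain ⟨P, hP⟩ := hHp.exists_le_sylow
    obtain ⟨e⟩ := hS
    let ψ : ↥H →* DihedralGroup n :=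
      ((P.equiv S).trans e).toMonoidHom.comp (Subgroup.inclusion hP)
    have hψ : Function.Injective ψ :=
      ((P.equiv S).trans e).injective.comp (Subgroup.inclusion_injective hP)
    have hgQ : (g : X) ∈ Subgroup.normalizer ((Q.map C.subtype : Subgroup X) : Set X) := by
      rw [Subgroup.mem_normalizer_iff]
      intro y
      constructor
      · rintro ⟨y', hy', rfl⟩
        exact ⟨_, (Subgroup.mem_normalizer_iff.mp hg y').mp hy', rfl⟩
      · rintro ⟨y', hy', hyy⟩
        refine ⟨g⁻¹ * y' * g, (Subgroup.mem_normalizer_iff.mp hg _).mpr ?_, ?_⟩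
        · rwa [show g * (g⁻¹ * y' * g) * g⁻¹ = y' by group]
        · have e2 : (y' : X) = g * y * (g : X)⁻¹ := hyy
          show (g : X)⁻¹ * y' * g = y
          rw [e2]; group
    have hgH : (g : X) ∈ Subgroup.normalizer (H : Set X) :=
      Cfsg.Agent.S0505.le_normalizer_sup _ _ (Subgroup.mem_inf.mpr ⟨hgQ, hzn _ g.2⟩)
    have hodd : Odd (orderOf (g : X)) := by
      rw [Subgroup.orderOf_coe]
      exact Nat.coprime_two_right.mp hcop
    have htH : t ∈ H := (le_sup_right : _ ≤ H) (Subgroup.mem_zpowers t)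
    have ht1 : t ≠ 1 := fun h => by rw [h, orderOf_one] at ht; norm_num at ht
    have hqH : (q : X) ∈ H := (le_sup_left : _ ≤ H) ⟨q, hq, rfl⟩
    exact Subtype.ext (dihedral_fix (NeZero.mk (by omega)) H hHp ψ hψ (g : X) hgH hodd
      (hcomm _ g.2) htH ht1 (q : X) hqH).symm
  obtain ⟨P, N, hN, hc⟩ := CfsgLib.Transfer.hasNormalPComplement_of_frobeniusCond hfc
  obtain ⟨k, hk⟩ := IsPGroup.iff_card.mp P.2
  refine ⟨N, hN, ?_, k, ?_⟩
  · have h1 : Nat.card N = (P : Subgroup ↥C).index := (hc.index_eq_card).symm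
    rw [h1, ← Nat.not_even_iff_odd, even_iff_two_dvd]
    exact P.not_dvd_index
  · rw [hc.symm.index_eq_card, hk]


end Cfsg.Agent.S0514
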