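import Cfsg.Statements.S0731
import Cfsg.Agent.Lib.PermSmall.OddRecognition

set_option autoImplicit false
open Cfsg

namespace Cfsg.Agent.S0731

/-- A finite Zassenhaus group whose point stabiliser has an abelian regular normal subgroup on the remaining points is sharply triply transitive or isomorphic to `PSL(2, F)` for a finite field `F` of odd characteristic. -/
theorem result {G Ω : Type*} [Group G] [Finite G] [MulAction G Ω] [Finite Ω] (hZ : Cfsg.IsZassenhausGroup G Ω) (x : Ω) (F : Subgroup G) (hFle : F ≤ MulAction.stabilizer G x) (hFn : (F.subgroupOf (MulAction.stabilizer G x)).Normal) (hFab : IsMulCommutative F) (hreg : ∀ y z : Ω, y ≠ x → z ≠ x → ∃! u : F, (u : G) • y = z) : (MulAction.IsMultiplyPretransitive G Ω 3 ∧ ∀ t : Fin 3 ↪ Ω, MulAction.stabilizer G t = ⊥) ∨ ∃ (K : Type) (_ : Field K) (_ : Fintype K), ringChar K ≠ 2 ∧ Nonempty (G ≃* Matrix.ProjectiveSpecialLinearGroup (Fin 2) K) := by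
  classical
  haveI := Fintype.ofFinite Ω
  haveI := hZ.1
  obtain ⟨g₀, -, x₀, y₀, hxy₀, -, -⟩ := hZ.2.2.2.1
  obtain ⟨b, hxb⟩ : ∃ b, x ≠ b := by
    by_cases h : x = x₀
    · exact ⟨y₀, h ▸ hxy₀⟩
    · exact ⟨x₀, h⟩
  rcases CfsgLib.PermSmall.OddRecognition.card_and_recognition hZ hxb F hFle hFn hFab hreg with
    hd | ⟨-, K, iF, iT, hchar, -, hiso⟩
  swap
  · exact Or.inr ⟨K, iF, iT, hchar, hiso⟩
  left
  have h3 := CfsgLib.PermSmall.Zassenhaus.three_le_card hZ hxb
  refine ⟨CfsgLib.PermSmall.isMultiplyPretransitive_of_fixing_transitive (by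
    by_contra h
    have hd1 := CfsgLib.PermSmall.OddStab.pairStab_ne_bot hZ hxb
    omega) ?_, ?_⟩
  · intro s hs y z hy hz
    obtain ⟨p, q, hpq, rfl⟩ := Finset.card_eq_two.mp (show s.card = 2 by omega)
    simp only [Finset.mem_insert, Finset.mem_singleton, not_or] at hy hz
    let f : CfsgLib.PermSmall.Zassenhaus.pairStab G p q → {w : Ω // w ≠ p ∧ w ≠ q} := fun h =>
      ⟨(h : G) • y, fun e => hy.1 (smul_left_cancel (h : G) (e.trans h.2.1.symm)),
        fun e => hy.2 (smul_left_cancel (h : G) (e.trans h.2.2.symm))⟩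
    have hinj : Function.Injective f := by
      intro h k e
      have e' : (h : G) • y = (k : G) • y := congrArg Subtype.val e
      have h1 := CfsgLib.PermSmall.Zassenhaus.eq_one hZ hpq (Ne.symm hy.2) (Ne.symm hy.1)
        (mul_mem (inv_mem k.2) h.2).1 (mul_mem (inv_mem k.2) h.2).2
        (by rw [mul_smul, e', inv_smul_smul])
      exact Subtype.ext (inv_mul_eq_one.mp h1).symm
    have hcard : Nat.card {w : Ω // w ≠ p ∧ w ≠ q} = Fintype.card Ω - 2 := by
      rw [Nat.card_eq_fintype_card, Fintype.card_subtype]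
      have : (Finset.univ.filter fun w : Ω => w ≠ p ∧ w ≠ q) = Finset.univ \ {p, q} := by
        ext w; simp
      rw [this, Finset.card_sdiff_of_subset (Finset.subset_univ _), Finset.card_univ,
        Finset.card_pair hpq]
    have hbij : Function.Bijective f := (Nat.bijective_iff_injective_and_card f).mpr ⟨hinj, by
      rw [hcard, CfsgLib.PermSmall.Zassenhaus.card_pairStab_eq hZ hxb hpq, hd]⟩
    obtain ⟨h, hh⟩ := hbij.2 ⟨z, hz⟩
    refine ⟨h, fun w hw => ?_, congrArg Subtype.val hh⟩
    simp only [Finset.mem_insert, Finset.mem_singleton] at hw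
    rcases hw with rfl | rfl
    · exact h.2.1
    · exact h.2.2
  · intro t
    rw [Subgroup.eq_bot_iff_forall]
    intro g hg
    have hfix : ∀ i, g • t i = t i := fun i => DFunLike.congr_fun hg i
    exact hZ.2.2.1 g (t 0) (t 1) (t 2) (fun e => by simpa using t.injective e)
      (fun e => by simpa using t.injective e) (fun e => by simpa using t.injective e)
      (hfix 0) (hfix 1) (hfix 2)

end Cfsg.Agent.S0731
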