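import Cfsg.Statements.S3116
import Mathlib

set_option autoImplicit false
open Cfsg

namespace Cfsg.Agent.S3116

/-- If `⟨x⟩` has index 2 and no outside element has the order of `x`, automorphisms form a 2-group. -/
theorem aut_isPGroup {X : Type*} [Group X] [Finite X] (k : ℕ) (x : X) (hx : orderOf x = 2 ^ k)
    (hcard : Nat.card X = 2 * 2 ^ k)
    (hout : ∀ g : X, g ∉ Subgroup.zpowers x → orderOf g ≠ 2 ^ k) : IsPGroup 2 (MulAut X) := by
  have hidx : (Subgroup.zpowers x).index = 2 := by
    have h := Subgroup.card_mul_index (Subgroup.zpowers x)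
    rw [Nat.card_zpowers, hx, hcard] at h
    exact Nat.eq_of_mul_eq_mul_left (n := 2 ^ k) (by positivity) (h.trans (mul_comm _ _))
  intro φ
  have hmem : φ x ∈ Subgroup.zpowers x := by
    by_contra hc
    exact hout _ hc (by rw [MulEquiv.orderOf_eq, hx])
  obtain ⟨u, -, hu⟩ : ∃ u, u < orderOf x ∧ x ^ u = φ x := by
    classical
    have := (mem_zpowers_iff_mem_range_orderOf (x := x)).1 hmem
    simpa using this
  have hpow : ∀ m : ℕ, (φ ^ m) x = x ^ (u ^ m) := by
    intro m
    induction m with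
    | zero => simp
    | succ m ih => rw [pow_succ', MulAut.mul_apply, ih, map_pow, ← hu, ← pow_mul, pow_succ']
  have hcop : Nat.Coprime u (2 ^ k) := by
    have h1 : orderOf (x ^ u) = orderOf x := by rw [hu, MulEquiv.orderOf_eq]
    rw [orderOf_pow, hx] at h1
    have h2 : Nat.gcd (2 ^ k) u ∣ 2 ^ k := Nat.gcd_dvd_left _ _
    have h3 := Nat.div_mul_cancel h2
    rw [h1] at h3
    rw [Nat.coprime_comm, Nat.coprime_iff_gcd_eq_one]
    exact Nat.eq_of_mul_eq_mul_left (n := 2 ^ k) (by positivity) (h3.trans (mul_one _).symm)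
  have hfix : (φ ^ (2 ^ k).totient) x = x := by
    rw [hpow]
    nth_rw 2 [← pow_one x]
    rw [pow_eq_pow_iff_modEq, hx]
    exact Nat.ModEq.pow_totient hcop
  obtain ⟨j, hj⟩ : ∃ j, (2 ^ k).totient = 2 ^ j := by
    rcases Nat.eq_zero_or_pos k with hk | hk
    · exact ⟨0, by subst hk; simp⟩
    · exact ⟨k - 1, by rw [Nat.totient_prime_pow Nat.prime_two hk]; simp⟩
  refine ⟨j + k, ?_⟩
  rw [pow_add, pow_mul, ← hj]
  set ψ := φ ^ (2 ^ k).totient
  have hψz : ∀ z ∈ Subgroup.zpowers x, ψ z = z := by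
    rintro _ ⟨i, rfl⟩; simp [hfix]
  ext g
  by_cases hg : g ∈ Subgroup.zpowers x
  · simp only [MulAut.one_apply]
    clear_value ψ
    have : ∀ m : ℕ, (ψ ^ m) g = g := fun m => by
      induction m with
      | zero => simp
      | succ m ih => rw [pow_succ', MulAut.mul_apply, ih, hψz g hg]
    exact this _
  · have hψg : ψ g ∉ Subgroup.zpowers x := fun h => hg (by
      have h1 := hψz _ h
      rw [ψ.injective h1] at h; exact h)
    have hd : ψ g * g⁻¹ ∈ Subgroup.zpowers x := by
      rw [Subgroup.mul_mem_iff_of_index_two hidx, Subgroup.inv_mem_iff]; tauto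
    clear_value ψ
    have hm : ∀ m : ℕ, (ψ ^ m) g = (ψ g * g⁻¹) ^ m * g := by
      intro m
      induction m with
      | zero => simp
      | succ m ih =>
        rw [pow_succ', MulAut.mul_apply, ih, map_mul, map_pow, hψz _ hd, pow_succ, mul_assoc, mul_assoc,
          inv_mul_cancel, mul_one]
    have h1 : (ψ g * g⁻¹) ^ (2 ^ k) = 1 := by
      obtain ⟨i, hi⟩ := hd
      simp only at hi
      rw [← hi, ← hx, ← zpow_natCast, ← zpow_mul, mul_comm, zpow_mul, zpow_natCast, pow_orderOf_eq_one, one_zpow]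
    simp [hm, h1]

/-- In a semidihedral group elements outside the cyclic subgroup have order less than `2 ^ n`. -/
theorem quasiDihedral_outside {X : Type*} [Group X] [Finite X] (n : ℕ) (hn : 3 ≤ n)
    (hcard : Nat.card X = 2 ^ (n + 1)) (x y : X) (hx : orderOf x = 2 ^ n) (hy : orderOf y = 2)
    (hxy : y * x * y⁻¹ = x ^ (2 ^ (n - 1) - 1)) (g : X) (hg : g ∉ Subgroup.zpowers x) :
    orderOf g ≠ 2 ^ n := by
  have hbig : 8 ≤ 2 ^ n := (show (2 : ℕ) ^ 3 = 8 by rfl) ▸ Nat.pow_le_pow_right (by omega) hn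
  have hidx : (Subgroup.zpowers x).index = 2 := by
    have h := Subgroup.card_mul_index (Subgroup.zpowers x)
    rw [Nat.card_zpowers, hx, hcard, pow_succ] at h
    exact Nat.eq_of_mul_eq_mul_left (n := 2 ^ n) (by positivity) h
  have hyx : y ∉ Subgroup.zpowers x := by
    intro hc
    have hcomm : y * x * y⁻¹ = x := by
      obtain ⟨i, rfl⟩ := hc
      simp only
      group
    rw [hcomm] at hxy
    have : x ^ 1 = x ^ (2 ^ (n - 1) - 1) := by rw [pow_one]; exact hxy
    rw [pow_eq_pow_iff_modEq, hx] at this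
    have h2 : 2 ^ n = 2 * 2 ^ (n - 1) := by rw [← pow_succ', Nat.sub_add_cancel (by omega)]
    have := this.eq_of_lt_of_lt (by omega) (by omega)
    omega
  have hgy : g * y ∈ Subgroup.zpowers x := by
    rw [Subgroup.mul_mem_iff_of_index_two hidx]; tauto
  obtain ⟨i, hi⟩ := hgy
  simp only at hi
  have hy2 : y * y = 1 := by rw [← pow_two, ← hy]; exact pow_orderOf_eq_one y
  have hgi : g = x ^ i * y := by rw [hi, mul_assoc, hy2, mul_one]
  have hconj : y * x ^ i * y = x ^ ((2 ^ (n - 1) - 1 : ℕ) * i : ℤ) := by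
    conv_lhs => arg 2; rw [← inv_eq_of_mul_eq_one_right hy2]
    rw [← conj_zpow, hxy, ← zpow_natCast, ← zpow_mul]
  have h4 : g ^ 4 = 1 := by
    have hsq : g * g = x ^ ((2 ^ (n - 1) : ℕ) * i : ℤ) := by
      rw [hgi, show x ^ i * y * (x ^ i * y) = x ^ i * (y * x ^ i * y) by group, hconj, ← zpow_add]
      congr 1
      have : 1 ≤ 2 ^ (n - 1) := Nat.one_le_two_pow
      push_cast [Nat.cast_sub this]
      ring
    rw [show g ^ 4 = (g * g) * (g * g) by rw [← pow_two g, ← pow_add], hsq, ← zpow_add, ← orderOf_dvd_iff_zpow_eq_one, hx]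
    refine ⟨i, ?_⟩
    have : (2 : ℕ) ^ n = 2 * 2 ^ (n - 1) := by rw [← pow_succ', Nat.sub_add_cancel (by omega)]
    push_cast [this]
    ring
  intro hc
  have := Nat.le_of_dvd (by norm_num) (orderOf_dvd_of_pow_eq_one h4)
  omega

/-- The automorphism group of a dihedral 2-group of order at least 8, or of a quasi-dihedral (semidihedral) 2-group of order at least 16, is a 2-group. -/
theorem result {X : Type*} [Group X] [Finite X] (h2 : IsPGroup 2 X)
    (h : (∃ n : ℕ, 4 ≤ n ∧ Nonempty (X ≃* DihedralGroup n)) ∨ Cfsg.IsQuasiDihedral X) : IsPGroup 2 (MulAut X) := by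
  have : Finite (MulAut X) := Finite.of_injective (fun φ : MulAut X => (φ : X → X)) DFunLike.coe_injective
  rcases h with ⟨n, hn, ⟨e⟩⟩ | ⟨n, hn, hcard, x, y, hx, hy, hxy⟩
  · obtain ⟨k, hk⟩ : ∃ k, n = 2 ^ k := by
      have hdvd : n ∣ Nat.card X := by
        rw [Nat.card_congr e.toEquiv, DihedralGroup.nat_card]; exact dvd_mul_left n 2
      obtain ⟨j, hj⟩ := IsPGroup.iff_card.1 h2
      rw [hj] at hdvd
      obtain ⟨k, -, hk⟩ := (Nat.dvd_prime_pow Nat.prime_two).1 hdvd
      exact ⟨k, hk⟩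
    subst hk
    have : NeZero (2 ^ k) := ⟨by positivity⟩
    apply aut_isPGroup k (e.symm (DihedralGroup.r 1))
    · rw [← MulEquiv.coe_toMonoidHom, orderOf_injective _ e.symm.injective, DihedralGroup.orderOf_r_one]
    · rw [Nat.card_congr e.toEquiv, DihedralGroup.nat_card]
    · intro g hg
      have hg' : e g ∉ Subgroup.zpowers (DihedralGroup.r (1 : ZMod (2 ^ k))) := by
        rintro ⟨i, hi⟩
        exact hg ⟨i, by simp only at hi ⊢; rw [← map_zpow, hi, MulEquiv.symm_apply_apply]⟩
      rcases he : e g with i | i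
      · exfalso
        apply hg'
        rw [he]
        exact ⟨i.val, by simp [DihedralGroup.r_one_pow]⟩
      · rw [← orderOf_injective e.toMonoidHom e.injective g]
        show orderOf (e g) ≠ _
        rw [he, DihedralGroup.orderOf_sr]
        omega
  · apply aut_isPGroup n x hx
    · rw [hcard, pow_succ]; ring
    · intro g hg
      exact quasiDihedral_outside n hn hcard x y hx hy hxy g hg

end Cfsg.Agent.S3116
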