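import Cfsg.Statements.S0347
import Cfsg.Agent.Lib.Zass29.SuzukiClassify

set_option autoImplicit false
open Cfsg

namespace Cfsg.Agent.S0347

/-- If in a finite simple Zassenhaus group the stabiliser of a point `x` has a normal `2`-subgroup `U` which is
non-abelian and acts regularly on the points other than `x`, then the group is simple of Suzuki order (order-level
predicate `IsSuzuki`). -/
theorem result {G Ω : Type*} [Group G] [Finite G] [MulAction G Ω] [Finite Ω]
    (hZ : Cfsg.IsZassenhausGroup G Ω) [IsSimpleGroup G]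
    (x : Ω) (U : Subgroup G) (hUle : U ≤ MulAction.stabilizer G x) (hUn : (U.subgroupOf (MulAction.stabilizer G x)).Normal)
    (hU2 : IsPGroup 2 U) (hUna : ∃ u v : U, u * v ≠ v * u)
    (hreg : ∀ y z : Ω, y ≠ x → z ≠ x → ∃! u : U, (u : G) • y = z) :
    Cfsg.IsSuzuki G := by
  haveI := Fintype.ofFinite Ω
  haveI := hZ.1
  obtain ⟨b, hbx, -⟩ := CfsgLib.PermSmall.Zassenhaus.exists_ne_ne hZ x x
  have hxb : x ≠ b := Ne.symm hbx
  have hfix : ∀ u ∈ U, u ≠ 1 → ∀ c : Ω, u • c = c → c = x := by
    intro u hu hu1 c hc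
    by_contra hcx
    obtain ⟨w, -, huniq⟩ := hreg c c hcx hcx
    exact hu1 (congrArg Subtype.val ((huniq ⟨u, hu⟩ hc).trans (huniq 1 (one_smul _ _)).symm))
  have hcard : Nat.card U + 1 = Fintype.card Ω := by
    classical
    have hne : ∀ u : U, (u : G) • b ≠ x := fun u e =>
      hbx (smul_left_cancel (u : G) (e.trans (hUle u.2).symm))
    have h : Nat.card U = Nat.card {y : Ω // ¬ y = x} := by
      refine Nat.card_eq_of_bijective (fun u => ⟨(u : G) • b, hne u⟩) ⟨?_, ?_⟩
      · intro u v e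
        obtain ⟨w, -, huniq⟩ := hreg b ((u : G) • b) hbx (hne u)
        exact (huniq u rfl).trans (huniq v (congrArg Subtype.val e).symm).symm
      · rintro ⟨y, hy⟩
        obtain ⟨u, hu, -⟩ := hreg b y hbx hy
        exact ⟨u, Subtype.ext hu⟩
    rw [Nat.card_eq_fintype_card (α := {y : Ω // ¬ y = x}), Fintype.card_subtype_compl,
      Fintype.card_subtype_eq] at h
    have := Fintype.card_pos_iff.mpr ⟨x⟩
    omega
  rcases Nat.even_or_odd (Nat.card (CfsgLib.PermSmall.Zassenhaus.pairStab G x b)) with he | ho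
  · obtain ⟨K, hK, hmem⟩ := CfsgLib.PermSmall.Zassenhaus.exists_kernel hZ hxb he
    have hle : U ≤ K := fun u hu => by
      rw [hmem]
      by_cases hu1 : u = 1
      · exact Or.inl hu1
      · exact Or.inr fun y => ⟨hfix u hu hu1 y, fun e => e ▸ hUle hu⟩
    obtain ⟨u, v, huv⟩ := hUna
    refine absurd ?_ huv
    apply Subtype.ext
    exact congrArg (fun z : K => (z : G)) (hK.is_comm.comm ⟨u, hle u.2⟩ ⟨v, hle v.2⟩)
  · exact CfsgLib.Zass29.isSuzuki_of_translations hZ hxb ho U hUle hcard hfix hU2 hUna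

end Cfsg.Agent.S0347
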