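import Mathlib
import Cfsg.Statements.S3396
import Cfsg.Agent.Lib.EPPO21.Main
-- import your own Cfsg.Agent.* helpers here

set_option autoImplicit false
open Cfsg

namespace Cfsg.Agent.S3396

/-- Let G be a finite group whose order has at least three distinct prime divisors, and suppose every nonidentity element of G has order a power of 2 or a prime other than 5. Then G is isomorphic to PSL₂(7) (here F is any field with 7 elements). In particular a finite group whose set of element orders is {1, 2, 3, 4, 7} is PSL₂(7). -/
theorem result {G : Type*} [Group G] [Finite G]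
    {F : Type*} [Field F] [Fintype F] (hF : Fintype.card F = 7)
    (h3 : 3 ≤ (Nat.card G).primeFactors.card)
    (hord : ∀ g : G, g ≠ 1 → (∃ k : ℕ, orderOf g = 2 ^ k) ∨ ((orderOf g).Prime ∧ orderOf g ≠ 5)) :
    Nonempty (G ≃* Matrix.ProjectiveSpecialLinearGroup (Fin 2) F) := by
  refine CfsgLib.EPPO21.main hF (Nat.card G) G rfl
    (fun g hg => (hord g hg).imp id And.left) ?_ h3
  intro h5
  obtain ⟨g, hg⟩ := exists_prime_orderOf_dvd_card' (hp := ⟨by norm_num⟩) 5 h5
  rcases hord g (fun e => by rw [e, orderOf_one] at hg; omega) with ⟨k, hk⟩ | ⟨-, h5'⟩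
  · rw [hg] at hk
    have := (Nat.prime_dvd_prime_iff_eq (by norm_num) Nat.prime_two).1
      ((by norm_num : (5 : ℕ).Prime).dvd_of_dvd_pow (dvd_of_eq hk))
    omega
  · exact h5' hg

end Cfsg.Agent.S3396
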