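import Cfsg.Statements.S1012
import Cfsg.Agent.Lib.Small.Basic

set_option autoImplicit false
open Cfsg

namespace Cfsg.Agent.S1012

/-- A group of order 24 containing no element of order 6 is isomorphic to the symmetric group of degree 4. -/
theorem result {G : Type*} [Group G] [Finite G] (h : Nat.card G = 24) (h6 : ∀ g : G, orderOf g ≠ 6) : Nonempty (G ≃* Equiv.Perm (Fin 4)) := by
  classical
  have : Fact (Nat.Prime 3) := ⟨Nat.prime_three⟩
  have hS : ∀ S : Sylow 3 G, Nat.card S = 3 := fun S => by
    simpa using CfsgLib.Small.card_sylow_of_card_eq (k := 1) (m := 8) (by rw [h]; norm_num)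
      (by norm_num) S
  obtain ⟨P⟩ := (inferInstance : Nonempty (Sylow 3 G))
  set C := Subgroup.centralizer ((P : Subgroup G) : Set G)
  set N := Subgroup.normalizer ((P : Subgroup G) : Set G)
  have hC2 : ¬ 2 ∣ Nat.card C := by
    intro hd
    have : Fact (Nat.Prime 2) := ⟨Nat.prime_two⟩
    obtain ⟨⟨t, ht⟩, ht2⟩ := exists_prime_orderOf_dvd_card' 2 hd
    rw [Subgroup.orderOf_mk] at ht2
    obtain ⟨⟨x, hx⟩, hx3⟩ := exists_prime_orderOf_dvd_card' (G := (P : Subgroup G)) 3
      (by rw [hS P])
    rw [Subgroup.orderOf_mk] at hx3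
    have hc : Commute t x := ((Subgroup.mem_centralizer_iff.mp ht) x hx).symm
    exact h6 (t * x) (by rw [hc.orderOf_mul_eq_mul_orderOf_of_coprime (by rw [ht2, hx3]; norm_num),
      ht2, hx3])
  have hCN := CfsgLib.Small.card_centralizer_mul_relIndex (P : Subgroup G)
  have hd2 := CfsgLib.Small.relIndex_centralizer_normalizer_dvd_of_prime (hS P)
  have hCd : Nat.card C ∣ 24 := h ▸ Subgroup.card_subgroup_dvd_card _
  have hC13 : Nat.card C = 1 ∨ Nat.card C = 3 := by
    have := (show ∀ d ∈ Nat.divisors 24, ¬ 2 ∣ d → d = 1 ∨ d = 3 from by decide +kernel)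
      (Nat.card C) (Nat.mem_divisors.mpr ⟨hCd, by norm_num⟩) hC2
    exact this
  have hN6 : Nat.card N ≤ 6 := by
    rw [← hCN]
    have := Nat.le_of_dvd (by norm_num) hd2
    calc Nat.card C * C.relIndex N ≤ 3 * 2 := Nat.mul_le_mul (by omega) (by omega)
      _ = 6 := rfl
  have hn4 : Nat.card (Sylow 3 G) = 4 := by
    have hdvd := P.card_dvd_index
    rw [CfsgLib.Small.index_sylow_of_card_eq (k := 1) (m := 8) (by rw [h]; norm_num) (by norm_num)
      P] at hdvd
    have hmod := card_sylow_modEq_one 3 G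
    have hN : Nat.card N * Nat.card (Sylow 3 G) = Nat.card G :=
      CfsgLib.Small.card_normalizer_mul_card_sylow P
    rw [h] at hN
    have := (show ∀ d ∈ Nat.divisors 8, d % 3 = 1 % 3 → d = 1 ∨ d = 4 from by decide +kernel)
      _ (Nat.mem_divisors.mpr ⟨hdvd, by norm_num⟩) hmod
    rcases this with h1 | h1
    · rw [h1, mul_one] at hN
      have : Nat.card N ≤ 6 := hN6
      omega
    · exact h1
  let φ := MulAction.toPermHom G (Sylow 3 G)
  have hker : φ.ker = ⊥ := by
    rw [Subgroup.eq_bot_iff_forall]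
    intro g hg
    by_contra hg1
    have hfix : ∀ Q : Sylow 3 G, g • Q = Q := fun Q => by
      have := DFunLike.congr_fun (MonoidHom.mem_ker.mp hg) Q
      exact this
    -- the kernel lies in `N(P)`, of order at most 6
    have hkN : φ.ker ≤ N := fun x hx =>
      Sylow.smul_eq_iff_mem_normalizer.mp (DFunLike.congr_fun (MonoidHom.mem_ker.mp hx) P)
    have hk3 : ¬ 3 ∣ Nat.card φ.ker := by
      intro hd
      obtain ⟨⟨y, hy⟩, hy3⟩ := exists_prime_orderOf_dvd_card' 3 hd
      rw [Subgroup.orderOf_mk] at hy3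
      obtain ⟨R, hR, huniq⟩ := CfsgLib.Small.exists_unique_sylow_mem hy3 hS
      have hall : ∀ Q : Sylow 3 G, y ∈ Q := fun Q => by
        have hyN : y ∈ Subgroup.normalizer ((Q : Subgroup G) : Set G) :=
          Sylow.smul_eq_iff_mem_normalizer.mp (DFunLike.congr_fun (MonoidHom.mem_ker.mp hy) Q)
        have hpg : IsPGroup 3 (Subgroup.zpowers y) :=
          IsPGroup.of_card (n := 1) (by rw [Nat.card_zpowers, hy3, pow_one])
        have h2 : y ∈ Subgroup.zpowers y ⊓ (Q : Subgroup G) :=
          hpg.inf_normalizer_sylow Q ▸ Subgroup.mem_inf.mpr ⟨Subgroup.mem_zpowers y, hyN⟩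
        exact h2.2
      have : Subsingleton (Sylow 3 G) := ⟨fun a b => (huniq a (hall a)).trans (huniq b (hall b)).symm⟩
      have := Nat.card_of_subsingleton P
      omega
    have hcard : Nat.card φ.ker ∣ Nat.card N := Subgroup.card_dvd_of_le hkN
    have hd : Nat.card φ.ker = 2 := by
      have h1 : Nat.card φ.ker ≠ 1 := fun e => hg1 (by
        have := Subgroup.card_eq_one.mp e
        rw [this, Subgroup.mem_bot] at hg; exact hg)
      have h2 := Nat.le_of_dvd Nat.card_pos hcard
      have h4 : Nat.card φ.ker ∣ 24 := h ▸ Subgroup.card_subgroup_dvd_card _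
      have h0 := Nat.card_pos (α := φ.ker)
      have h5 : Nat.card φ.ker ≤ 6 := h2.trans hN6
      have hNeq : Nat.card N = 6 := by
        have hN : Nat.card N * Nat.card (Sylow 3 G) = Nat.card G :=
          CfsgLib.Small.card_normalizer_mul_card_sylow P
        rw [h, hn4] at hN; omega
      rw [hNeq] at hcard
      interval_cases hk : Nat.card φ.ker <;> omega
    -- a normal subgroup of order 2 is central, hence centralises `P`
    refine hC2 (hd ▸ Subgroup.card_dvd_of_le fun y hy => ?_)
    rw [Subgroup.mem_centralizer_iff]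
    intro x hx
    have hc : x * y * x⁻¹ ∈ φ.ker := (MonoidHom.normal_ker φ).conj_mem y hy x
    by_cases hy1 : y = 1
    · rw [hy1, mul_one, one_mul]
    · have hzp := CfsgLib.Small.eq_zpowers_of_mem (hp := ⟨Nat.prime_two⟩) hd hy hy1
      rw [hzp, Subgroup.mem_zpowers_iff] at hc
      obtain ⟨k, hk⟩ := hc
      have hy2 : orderOf y = 2 := by
        rw [← Nat.card_zpowers, ← hzp, hd]
      rcases Int.emod_two_eq k with h2 | h2
      · rw [← zpow_mod_orderOf, hy2] at hk
        norm_num [h2] at hk
        exact absurd (conj_eq_one_iff.mp hk.symm) hy1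
      · rw [← zpow_mod_orderOf, hy2] at hk
        norm_num [h2] at hk
        exact (eq_mul_inv_iff_mul_eq.mp hk).symm
  have hinj : Function.Injective φ := (MonoidHom.ker_eq_bot_iff φ).mp hker
  have hbij : Function.Bijective φ :=
    (Nat.bijective_iff_injective_and_card _).mpr ⟨hinj, by rw [h, Nat.card_perm, hn4]; rfl⟩
  exact ⟨(MulEquiv.ofBijective φ hbij).trans
    (Finite.equivFinOfCardEq hn4).permCongrHom⟩

end Cfsg.Agent.S1012
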