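import Cfsg.Statements.S3035
import Cfsg.Agent.Lib.InvChar.DihedralEight
import Cfsg.Agent.Lib.Involutions.BrauerSuzuki
import Cfsg.Agent.Lib.Involutions.Isolated
import Cfsg.Agent.Lib.Involutions.KleinSylow
import Cfsg.Agent.Lib.StrongEmbedding.PSLTwo
import Cfsg.Agent.Lib.ClassicalGroups.SmallIso
import Cfsg.Agent.S0497
import Cfsg.Agent.S1012
import Cfsg.Agent.Lib.Small.Order168

set_option autoImplicit false
open Cfsg

namespace Cfsg.Agent.S3035

open CfsgLib.Involutions Subgroup

theorem mulEquiv_perm {H : Type*} [Group H] [Finite H] (S : Subgroup H) {n : ℕ} (hn2 : 2 ≤ n) (hn : S.index ≤ n)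
    (hS : S.normalCore = ⊥) (hcard : Nat.card H = n.factorial) :
    Nonempty (H ≃* Equiv.Perm (Fin n)) := by
  have := Fintype.ofFinite (H ⧸ S)
  have hinj : Function.Injective (MulAction.toPermHom H (H ⧸ S)) := by
    rw [← MonoidHom.ker_eq_bot_iff, ← Subgroup.normalCore_eq_ker]; exact hS
  have h1 := Nat.card_le_card_of_injective _ hinj
  rw [Nat.card_perm, ← Subgroup.index_eq_card, hcard] at h1
  have h2 : n.factorial = S.index.factorial := le_antisymm h1 (Nat.factorial_le hn)
  have hbij := (Nat.bijective_iff_injective_and_card _).mpr ⟨hinj, by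
    rw [Nat.card_perm, ← Subgroup.index_eq_card, hcard, h2]⟩
  rcases Nat.lt_or_ge n 2 with h | h
  · omega
  · have h3 : S.index = n := by
      rcases Nat.lt_or_ge S.index n with h' | h'
      · exact absurd h2 (ne_of_gt ((Nat.factorial_lt (Nat.pos_of_ne_zero Subgroup.index_ne_zero_of_finite)).mpr h'))
      · omega
    exact ⟨(MulEquiv.ofBijective _ hbij).trans
      (Finite.equivFinOfCardEq (by rw [← Subgroup.index_eq_card, h3])).permCongrHom⟩

/-- Let G be a finite group with an involution z whose centralizer is dihedral of order 8. Then G = C_G(z) O(G) with O(G) the largest normal subgroup of odd order, or G is isomorphic to the symmetric group of degree 4, the symmetric group of degree 5, the group SL₃(2), or the alternating group of degree 6. -/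
theorem result {G : Type*} [Group G] [Finite G] (z : G) (hz : orderOf z = 2)
    (hC : Nonempty (↥(Subgroup.centralizer ({z} : Set G)) ≃* DihedralGroup 4)) :
    Subgroup.centralizer ({z} : Set G) ⊔ Cfsg.oddCore G = ⊤ ∨ Nonempty (G ≃* Equiv.Perm (Fin 4)) ∨ Nonempty (G ≃* Equiv.Perm (Fin 5)) ∨
      Nonempty (G ≃* Matrix.SpecialLinearGroup (Fin 3) (ZMod 2)) ∨ Nonempty (G ≃* ↥(alternatingGroup (Fin 6))) := by
  classical
  obtain ⟨e⟩ := hC
  have hD := CfsgLib.InvChar.DihedralEight.isD8Centralizer_of_equiv hz e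
  set C := centralizer ({z} : Set G) with hCdef
  by_cases hiso : Cfsg.IsIsolatedInvolution z
  · left
    rw [eq_top_iff]
    intro g _
    have hg : g * z * g⁻¹ * z ∈ Cfsg.oddCore G := by
      have := zstar G z hiso g
      rwa [inv_eq_self_of_involution hz] at this
    obtain ⟨c, hc, hcN⟩ := Isolated.quotient_centralizer hiso (Cfsg.oddCore G) hg
    have : g = c * (g⁻¹ * c)⁻¹ := by group
    rw [this]
    exact mul_mem (mem_sup_left (mem_centralizer_singleton_iff.mpr hc.eq)) (mem_sup_right (inv_mem hcN))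
  obtain ⟨g, hgc, hgne⟩ : ∃ g : G, Commute z (g * z * g⁻¹) ∧ g * z * g⁻¹ ≠ z := by
    by_contra h
    push Not at h
    exact hiso ⟨hz, h⟩
  set w := g * z * g⁻¹ with hwdef
  have hw : orderOf w = 2 := (orderOf_conj_eq g z).trans hz
  right
  by_cases hidx : ∀ H : Subgroup G, H.index ≠ 2
  · -- the simple groups
    have hs := CfsgLib.InvChar.DihedralEight.isSimpleGroup hz e hidx
    rcases CfsgLib.InvChar.DihedralEight.card_168_or_360 hz e hidx with h | h
    · right; right; left
      have : Fact (Nat.Prime 7) := ⟨by norm_num⟩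
      obtain ⟨a⟩ := CfsgLib.Small.Order168.nonempty_mulEquiv_psl_seven (G := G) h
      obtain ⟨b⟩ := CfsgLib.ClassicalGroups.psl_two_seven_psl_three_two (K := ZMod 7) (L := ZMod 2)
        (ZMod.card 7) (ZMod.card 2)
      have hz' : center (Matrix.SpecialLinearGroup (Fin 3) (ZMod 2)) = ⊥ :=
        Subgroup.eq_bot_of_card_eq _ (by rw [Cfsg.Agent.Classical.card_center_sl 3 (by norm_num)]; simp [ZMod.card])
      exact ⟨(a.trans b).trans ((QuotientGroup.quotientMulEquivOfEq hz').trans QuotientGroup.quotientBot)⟩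
    · right; right; right
      exact Cfsg.Agent.S0497.result h
  push Not at hidx
  obtain ⟨N, hN⟩ := hidx
  haveI hNn : N.Normal := Subgroup.normal_of_index_eq_two hN
  obtain ⟨P, hP⟩ := CfsgLib.InvChar.DihedralEight.exists_sylow_eq hD
  obtain ⟨c, hcC, hcN⟩ : ∃ c ∈ C, c ∉ N := by
    by_contra h
    push Not at h
    have := P.not_dvd_index
    rw [hP] at this
    exact this (hN ▸ Subgroup.index_dvd_of_le (h : C ≤ N))
  have hsq : ∀ x : G, x * x ∈ N := fun x => mul_self_mem_of_index_two hN x
  have hzN : z ∈ N := by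
    obtain ⟨r, -, hr⟩ := hD.rot
    exact hr ▸ hsq r
  have hwN : w ∈ N := hNn.conj_mem z hzN g
  have hcardN : 2 * Nat.card N = Nat.card G := by rw [mul_comm, ← hN, Subgroup.card_mul_index]
  set V := C ⊓ N with hVdef
  have hVcard : Nat.card V = 4 := by
    have h1 : (N.subgroupOf C).index = 2 := by
      rw [Subgroup.index_eq_two_iff]
      refine ⟨⟨c, hcC⟩, fun b => ?_⟩
      simp only [Subgroup.mem_subgroupOf, Subgroup.coe_mul, Subgroup.mul_mem_iff_of_index_two hN, hcN, iff_false]
      by_cases hb : (b : G) ∈ N <;> simp [hb]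
    have h2 := (N.subgroupOf C).card_mul_index
    rw [h1, hD.card, show Nat.card (N.subgroupOf C) = Nat.card V from ?_] at h2
    · omega
    · rw [hVdef, ← Subgroup.inf_subgroupOf_left]
      exact Nat.card_congr (Subgroup.subgroupOfEquivOfLe inf_le_left).toEquiv
  have hzV : z ∈ V := ⟨mem_centralizer_singleton_iff.mpr rfl, hzN⟩
  have hwV : w ∈ V := ⟨mem_centralizer_singleton_iff.mpr hgc.symm.eq, hwN⟩
  obtain ⟨d, hd, hdw⟩ : ∃ d ∈ C, ¬ Commute d w := by
    by_contra h
    push Not at h
    exact hgne (hD.central w hw hgc.symm fun d hd => (h d (mem_centralizer_singleton_iff.mpr hd.eq)).symm)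
  -- `V` is a Klein group
  have hV2 : ∀ x ∈ V, x * x = 1 := by
    intro x hx
    by_contra hxx
    have hx' : Commute x z := mem_centralizer_singleton_iff.mp hx.1
    have h4 := hD.four x hx' hxx
    have hxo : orderOf x = 4 := by
      refine orderOf_eq_prime_pow (p := 2) (n := 1) ?_ ?_
      · rw [pow_one, pow_two]; exact hxx
      · rw [show (2:ℕ) ^ (1 + 1) = 2 * 2 from rfl, pow_mul, pow_two x, h4, pow_two]
        exact mul_self_eq_one hz
    have heq : zpowers x = V := Subgroup.eq_of_le_of_card_ge (zpowers_le.mpr hx)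
      (by rw [hVcard, Nat.card_zpowers, hxo])
    have hwx : w ∈ zpowers x := heq ▸ hwV
    obtain ⟨k, hk⟩ := hwx
    have hinv := hD.inv x w hx' hgc.symm hxx hw hgne
    have hcomm : w * x * w⁻¹ = x := by
      change x ^ k = w at hk
      rw [← hk, ((Commute.refl x).zpow_left k).eq, mul_inv_cancel_right]
    exact hxx (mul_eq_one_iff_eq_inv.mpr (hcomm.symm.trans hinv))
  have hVnt : Nontrivial V := ⟨⟨⟨z, hzV⟩, 1, fun h => ne_one_of_involution hz (congrArg Subtype.val h)⟩⟩
  have hVk : IsKleinFour V := ⟨hVcard, (Monoid.exponent_eq_prime_iff Nat.prime_two).mpr fun x hx => by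
    rw [orderOf_eq_two_iff_mul]; exact ⟨hx, Subtype.ext (hV2 x x.2)⟩⟩
  have hVab : ∀ x ∈ V, ∀ y ∈ V, x * y = y * x := fun x hx y hy =>
    congrArg Subtype.val ((hVk.isMulCommutative).is_comm.comm (⟨x, hx⟩ : V) ⟨y, hy⟩)
  have hCV : centralizer (V : Set G) = V := by
    refine le_antisymm (fun x hx => ?_) (fun x hx => mem_centralizer_iff.mpr fun y hy => hVab y hy x hx)
    have hxz : x ∈ C := mem_centralizer_singleton_iff.mpr (mem_centralizer_iff.mp hx z hzV).symm
    by_contra hxV
    apply hdw
    have hxw : Commute w x := mem_centralizer_iff.mp hx w hwV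
    -- `C` is generated by `V` and `x`
    have hall : C ≤ centralizer ({w} : Set G) := by
      have hlt : V < C ⊓ centralizer ({w} : Set G) := lt_of_le_of_ne
        (le_inf inf_le_left fun y hy => mem_centralizer_singleton_iff.mpr (hVab y hy w hwV))
        fun h => hxV (h.ge ⟨hxz, mem_centralizer_singleton_iff.mpr hxw.symm.eq⟩)
      have h1 : Nat.card V < Nat.card ↥(C ⊓ centralizer ({w} : Set G)) := Set.ncard_lt_ncard hlt
      have h2 : Nat.card ↥(C ⊓ centralizer ({w} : Set G)) ∣ 2 ^ 3 := by
        have := Subgroup.card_dvd_of_le (inf_le_left : C ⊓ centralizer ({w} : Set G) ≤ C)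
        rwa [hD.card] at this
      obtain ⟨i, hi, hi'⟩ := (Nat.dvd_prime_pow Nat.prime_two).mp h2
      have : i = 3 := by
        rw [hVcard, hi'] at h1
        interval_cases i <;> omega
      rw [← inf_eq_left]
      exact Subgroup.eq_of_le_of_card_ge inf_le_left (by rw [hi', this, hD.card]; norm_num)
    exact mem_centralizer_singleton_iff.mp (hall hd)
  have hCN : ∀ x : N, x ∈ centralizer ({(⟨z, hzN⟩ : N)} : Set N) ↔ (x : G) ∈ V := fun x => by
    rw [mem_centralizer_singleton_iff, hVdef, mem_inf, hCdef, mem_centralizer_singleton_iff, Subtype.ext_iff]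
    exact ⟨fun h => ⟨h, x.2⟩, fun h => h.1⟩
  have hV2g : IsPGroup 2 (V.subgroupOf N) := (IsPGroup.of_card (n := 2) (by rw [hVcard]; norm_num) :
    IsPGroup 2 V).of_equiv (Subgroup.subgroupOfEquivOfLe inf_le_right).symm
  have hVNcard : Nat.card (V.subgroupOf N) = 4 := by
    rw [Nat.card_congr (Subgroup.subgroupOfEquivOfLe (inf_le_right : V ≤ N)).toEquiv, hVcard]
  obtain ⟨T, hT⟩ := hV2g.exists_le_sylow
  have hTeq : (T : Subgroup N) = V.subgroupOf N := by
    symm
    refine Subgroup.eq_of_le_of_card_ge hT ?_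
    rw [hVNcard, T.card_eq_multiplicity]
    have h8 : ¬ 2 ^ 3 ∣ Nat.card N := by
      intro h
      have h16 : 2 ^ 4 ∣ Nat.card G := by
        rw [← hcardN, pow_succ']; exact mul_dvd_mul_left 2 h
      have := (Nat.Prime.pow_dvd_iff_le_factorization Nat.prime_two Nat.card_pos.ne').mp h16
      have hPc := P.card_eq_multiplicity
      rw [show Nat.card (P : Subgroup G) = 8 by rw [hP]; exact hD.card] at hPc
      have h3 : (Nat.card G).factorization 2 = 3 := Nat.pow_right_injective le_rfl (by simpa using hPc.symm)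
      omega
    have : (Nat.card N).factorization 2 ≤ 2 := by
      by_contra h
      exact h8 ((Nat.Prime.pow_dvd_iff_le_factorization Nat.prime_two Nat.card_pos.ne').mpr (by omega))
    calc 2 ^ (Nat.card N).factorization 2 ≤ 2 ^ 2 := Nat.pow_le_pow_right two_pos this
      _ = 4 := by norm_num
  have hTk : IsKleinFour (T : Subgroup N) := by
    rw [hTeq]
    exact ⟨hVNcard, by rw [Monoid.exponent_eq_of_mulEquiv (Subgroup.subgroupOfEquivOfLe (inf_le_right : V ≤ N))]; exact hVk.exponent_two⟩
  -- all involutions of `N` are conjugate in `N`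
  have hzwN : IsConj (⟨z, hzN⟩ : N) ⟨w, hwN⟩ := by
    by_cases hg1 : g ∈ N
    · exact isConj_iff.mpr ⟨⟨g, hg1⟩, rfl⟩
    · have hgcN : g * c ∈ N := (Subgroup.mul_mem_iff_of_index_two hN).mpr (iff_of_false hg1 hcN)
      refine isConj_iff.mpr ⟨⟨g * c, hgcN⟩, Subtype.ext ?_⟩
      show g * c * z * (g * c)⁻¹ = w
      have hcz : c * z = z * c := mem_centralizer_singleton_iff.mp hcC
      rw [hwdef, mul_assoc g c z, hcz]; group
  have hTmem : ∀ x : N, x ∈ T ↔ (x : G) ∈ V := fun x => by
    show x ∈ (T : Subgroup N) ↔ _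
    rw [hTeq, Subgroup.mem_subgroupOf]
  have hzT : (⟨z, hzN⟩ : N) ∈ T := (hTmem _).mpr hzV
  have hwT : (⟨w, hwN⟩ : N) ∈ T := (hTmem _).mpr hwV
  have hallN : ∀ u : N, orderOf u = 2 → IsConj (⟨z, hzN⟩ : N) u := by
    intro u hu
    obtain ⟨b, hb⟩ := exists_conj_le_sylow (isPGroup_two_zpowers hu) T
    have hb' := hb u (mem_zpowers u)
    have h2 : IsConj (⟨z, hzN⟩ : N) (b * u * b⁻¹) :=
      klein_all_conj T hTk hzT hwT (fun h => ne_one_of_involution hz (congrArg Subtype.val h))
        (fun h => hgne (congrArg Subtype.val h).symm) hzwN hzT hb'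
        (fun h => ne_one_of_involution hz (congrArg Subtype.val h))
        (fun h => ne_one_of_involution hu (conj_eq_one_iff.mp h))
    exact h2.trans (isConj_iff.mpr ⟨b⁻¹, by group⟩)
  -- `24` divides the order of the normalizer of `V`
  have hVn : C ≤ normalizer (V : Set G) := fun x hx => by
    refine Subgroup.mem_normalizer_fintype fun y hy => ⟨?_, hNn.conj_mem y hy.2 x⟩
    exact C.mul_mem (C.mul_mem hx hy.1) (C.inv_mem hx)
  have htrans : ∀ v ∈ V, v ≠ 1 → ∃ n : G, n ∈ normalizer (V : Set G) ∧ n * z * n⁻¹ = v := by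
    intro v hv hv1
    have hvo : orderOf v = 2 := orderOf_eq_two_iff_mul.mpr ⟨hv1, hV2 v hv⟩
    have hvT : (⟨v, hv.2⟩ : N) ∈ T := (hTmem _).mpr hv
    obtain ⟨b, hb⟩ := isConj_iff.mp (hallN ⟨v, hv.2⟩ (by rw [Subgroup.orderOf_mk]; exact hvo))
    have := hTk.isMulCommutative
    obtain ⟨n, hn, hn'⟩ := Sylow.conj_eq_normalizer_conj_of_mem T (⟨z, hzN⟩ : N) b⁻¹ hzT
      (by rw [inv_inv, hb]; exact hvT)
    rw [inv_inv, hb] at hn'
    refine ⟨((n⁻¹ : N) : G), ?_, ?_⟩
    · refine Subgroup.mem_normalizer_fintype fun y hy => ?_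
      have hn2 := (Subgroup.mem_normalizer_iff.mp (inv_mem hn) ⟨y, hy.2⟩).mp (by
        rw [hTeq]; exact Subgroup.mem_subgroupOf.mpr hy)
      rw [hTeq] at hn2
      exact Subgroup.mem_subgroupOf.mp hn2
    · have := congrArg Subtype.val hn'.symm
      simpa using this
  have h24 : 24 ∣ Nat.card (normalizer (V : Set G)) := by
    have h8 : 8 ∣ Nat.card (normalizer (V : Set G)) := hD.card ▸ Subgroup.card_dvd_of_le hVn
    have h3 : 3 ∣ Nat.card (normalizer (V : Set G)) := by
      set R := normalizer (V : Set G)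
      have hzR : z ∈ R := Subgroup.le_normalizer hzV
      have h := CfsgLib.Characters.card_isConj_eq_index (⟨z, hzR⟩ : R)
      have hset : Nat.card {x : R // IsConj (⟨z, hzR⟩ : R) x} = Nat.card {v : V // v ≠ 1} := by
        refine (Nat.card_eq_of_bijective (fun x : {x : R // IsConj (⟨z, hzR⟩ : R) x} =>
          (⟨⟨(x.1 : G), ?_⟩, ?_⟩ : {v : V // v ≠ 1})) ⟨fun x y h => ?_, fun v => ?_⟩)
        · obtain ⟨b, hb⟩ := isConj_iff.mp x.2
          rw [← hb]
          exact (Subgroup.mem_normalizer_iff.mp b.2 z).mp hzV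
        · intro h
          obtain ⟨b, hb⟩ := isConj_iff.mp x.2
          have h' : (b : G) * z * (b : G)⁻¹ = 1 := by
            have := congrArg Subtype.val hb
            rw [show (b : G) * z * (b : G)⁻¹ = ((x.1 : R) : G) from this]
            exact congrArg Subtype.val h
          exact ne_one_of_involution hz (conj_eq_one_iff.mp h')
        · exact Subtype.ext (Subtype.ext (congrArg (fun v : {v : V // v ≠ 1} => ((v.1 : V) : G)) h))
        · obtain ⟨n, hn, hn'⟩ := htrans v.1 v.1.2 (fun h => v.2 (Subtype.ext h))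
          refine ⟨⟨⟨v.1, Subgroup.le_normalizer v.1.2⟩, isConj_iff.mpr ⟨⟨n, hn⟩, Subtype.ext hn'⟩⟩, rfl⟩
      have hthree : Nat.card {v : V // v ≠ 1} = 3 := by
        have := Fintype.ofFinite V
        rw [Nat.card_eq_fintype_card, Fintype.card_subtype_compl, Fintype.card_subtype_eq,
          ← Nat.card_eq_fintype_card, hVcard]
      rw [hset, hthree] at h
      exact h ▸ Subgroup.index_dvd_card _
    exact (by norm_num : Nat.Coprime 8 3).mul_dvd_of_dvd_of_dvd h8 h3
  by_cases hTn : (T : Subgroup N).Normal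
  · -- the symmetric group of degree four
    left
    have hin : ∀ u : G, orderOf u = 2 → u ∈ N → u ∈ V := by
      intro u hu huN
      obtain ⟨b, hb⟩ := isConj_iff.mp (hallN ⟨u, huN⟩ (by rw [Subgroup.orderOf_mk]; exact hu))
      have h := hTn.conj_mem _ hzT b
      rw [hb, hTeq] at h
      exact Subgroup.mem_subgroupOf.mp h
    have hVnormal : V.Normal := by
      refine ⟨fun v hv x => ?_⟩
      by_cases hv1 : v = 1
      · simp [hv1]
      · exact hin _ ((orderOf_conj_eq x v).trans (orderOf_eq_two_iff_mul.mpr ⟨hv1, hV2 v hv⟩))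
          (hNn.conj_mem v hv.2 x)
    have hNtop : normalizer (V : Set G) = ⊤ := Subgroup.normalizer_eq_top_iff.mpr hVnormal
    haveI := hVnormal
    have hcard : Nat.card G = 24 := by
      refine Nat.dvd_antisymm ?_ (by rw [← Subgroup.card_top (G := G), ← hNtop]; exact h24)
      have hker : (MulAut.conjNormal : G →* MulAut V).ker ≤ V := fun x hx => by
        refine hCV.le (mem_centralizer_iff.mpr fun y hy => ?_)
        have h := DFunLike.congr_fun (MonoidHom.mem_ker.mp hx) (⟨y, hy⟩ : V)
        have := congrArg Subtype.val h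
        rw [MulAut.conjNormal_apply] at this
        exact (mul_inv_eq_iff_eq_mul.mp this).symm
      let ρ : MulAut V →* Equiv.Perm {v : V // v ≠ 1} :=
        { toFun := fun f => f.toEquiv.subtypeEquiv fun v => by
            simp [EmbeddingLike.map_eq_one_iff]
          map_one' := Equiv.ext fun v => rfl
          map_mul' := fun f f' => Equiv.ext fun v => rfl }
      have hρ : Function.Injective ρ := fun f f' h => MulEquiv.ext fun v => by
        by_cases hv : v = 1
        · simp [hv]
        · exact congrArg Subtype.val (DFunLike.congr_fun h ⟨v, hv⟩)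
      have h1 := (MulAut.conjNormal : G →* MulAut V).ker.card_mul_index
      rw [Subgroup.index_ker] at h1
      rw [← h1, show 24 = 4 * 6 from rfl]
      refine mul_dvd_mul (hVcard ▸ Subgroup.card_dvd_of_le hker) ?_
      refine (Subgroup.card_subgroup_dvd_card _).trans ((Subgroup.card_dvd_of_injective ρ hρ).trans ?_)
      have := Fintype.ofFinite V
      rw [Nat.card_perm, Nat.card_eq_fintype_card, Fintype.card_subtype_compl, Fintype.card_subtype_eq,
        ← Nat.card_eq_fintype_card, hVcard]
      rfl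
    refine Cfsg.Agent.S1012.result hcard fun x hx => ?_
    -- no element of order six
    have hx3 : orderOf (x ^ 3) = 2 := by rw [orderOf_pow' _ (by norm_num), hx]; rfl
    have hx2 : orderOf (x ^ 2) = 3 := by rw [orderOf_pow' _ (by norm_num), hx]; rfl
    have hx3N : x ^ 3 ∈ N := by
      by_contra hnot
      -- otherwise `x ^ 2` centralizes a fixed point of `x ^ 3` on `V`
      obtain ⟨v, hv, hv1, hvc⟩ : ∃ v ∈ V, v ≠ 1 ∧ Commute (x ^ 3) v := by
        set i := x ^ 3
        by_cases h : Commute i z
        · exact ⟨z, hzV, ne_one_of_involution hz, h⟩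
        · have hiz : i * z * i⁻¹ ∈ V := hVnormal.conj_mem z hzV i
          refine ⟨z * (i * z * i⁻¹), mul_mem hzV hiz, fun h' => h ?_, ?_⟩
          · rw [mul_eq_one_iff_inv_eq, inv_eq_self_of_involution hz] at h'
            exact mul_inv_eq_iff_eq_mul.mp h'.symm
          · have hii : i * i = 1 := mul_self_eq_one hx3
            show i * (z * (i * z * i⁻¹)) = z * (i * z * i⁻¹) * i
            rw [hVab z hzV _ hiz]
            nth_rw 2 [hVab _ hiz z hzV]
            rw [inv_eq_self_of_involution hx3]
            simp [mul_assoc, ← mul_assoc i i, hii]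
      -- conjugating by `x ^ 2` gives a second fixed point or fixes `v`
      set y := x ^ 2
      have hyi : Commute y (x ^ 3) := (Commute.refl x).pow_pow 2 3
      by_cases hyv : Commute y v
      · obtain ⟨n, -, hn⟩ := htrans v hv hv1
        have hy' : Commute (n⁻¹ * y * n) z := by
          have := Commute.map hyv (MulAut.conj n⁻¹).toMonoidHom
          simpa [← hn, mul_assoc] using this
        have hd' := Subgroup.orderOf_dvd_natCard C (mem_centralizer_singleton_iff.mpr hy'.eq)
        rw [hD.card] at hd'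
        have h3 := orderOf_conj_eq n⁻¹ y
        rw [inv_inv] at h3
        rw [h3, hx2] at hd'
        norm_num at hd'
      · -- `x ^ 3` centralizes all of `V`, hence lies in it
        apply hnot
        have hv' : y * v * y⁻¹ ∈ V := hVnormal.conj_mem v hv y
        have hiv' : Commute (x ^ 3) (y * v * y⁻¹) := (hyi.symm.mul_right hvc).mul_right hyi.symm.inv_right
        have hgen : (V : Set G) ⊆ centralizer ({x ^ 3} : Set G) := by
          have hlt : 2 < Nat.card ↥(V ⊓ centralizer ({x ^ 3} : Set G)) := by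
            have := Fintype.ofFinite ↥(V ⊓ centralizer ({x ^ 3} : Set G))
            rw [Nat.card_eq_fintype_card, ← Finset.card_univ]
            refine Finset.two_lt_card.mpr ⟨1, Finset.mem_univ _,
              ⟨v, hv, mem_centralizer_singleton_iff.mpr hvc.symm.eq⟩, Finset.mem_univ _,
              ⟨_, hv', mem_centralizer_singleton_iff.mpr hiv'.symm.eq⟩, Finset.mem_univ _, ?_, ?_, ?_⟩
            · exact fun h => hv1 (congrArg Subtype.val h).symm
            · exact fun h => hv1 (conj_eq_one_iff.mp (congrArg Subtype.val h).symm)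
            · exact fun h => hyv (mul_inv_eq_iff_eq_mul.mp (congrArg Subtype.val h).symm)
          have hd' := Subgroup.card_dvd_of_le (inf_le_left : V ⊓ centralizer ({x ^ 3} : Set G) ≤ V)
          rw [hVcard] at hd'
          have h4 : Nat.card ↥(V ⊓ centralizer ({x ^ 3} : Set G)) = 4 := by
            have := Nat.le_of_dvd (by norm_num) hd'
            rcases (show Nat.card ↥(V ⊓ centralizer ({x ^ 3} : Set G)) = 3 ∨ Nat.card ↥(V ⊓ centralizer ({x ^ 3} : Set G)) = 4 by omega) with h | h
            · rw [h] at hd'; norm_num at hd'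
            · exact h
          have := Subgroup.eq_of_le_of_card_ge (inf_le_left : V ⊓ centralizer ({x ^ 3} : Set G) ≤ V) (by rw [h4, hVcard])
          exact fun a ha => (this.ge ha).2
        exact (hCV.le (mem_centralizer_iff.mpr fun a ha => mem_centralizer_singleton_iff.mp (hgen ha))).2
    obtain ⟨n, -, hn⟩ := htrans _ (hin _ hx3 hx3N) (ne_one_of_involution hx3)
    have hy' : Commute (n⁻¹ * x ^ 2 * n) z := by
      have := Commute.map ((Commute.refl x).pow_pow 2 3) (MulAut.conj n⁻¹).toMonoidHom
      simpa [← hn, mul_assoc] using this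
    have hd' := Subgroup.orderOf_dvd_natCard C (mem_centralizer_singleton_iff.mpr hy'.eq)
    rw [hD.card] at hd'
    have h3 := orderOf_conj_eq n⁻¹ (x ^ 2)
    rw [inv_inv] at h3
    rw [h3, hx2] at hd'
    norm_num at hd'
  · -- the symmetric group of degree five
    right; left
    have hH : CfsgLib.StrongEmbedding.ElementaryCentralizers.Hyp T := by
      refine ⟨hTk.not_isCyclic, hTn, fun u hu => ?_⟩
      obtain ⟨b, hb⟩ := isConj_iff.mp (hallN u hu)
      have key : ∀ x : N, x ∈ centralizer ({u} : Set N) → ((b⁻¹ * x * b : N) : G) ∈ V := by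
        intro x hx
        rw [← hCN, mem_centralizer_singleton_iff]
        have hx' : Commute x u := mem_centralizer_singleton_iff.mp hx
        have := Commute.map hx' (MulAut.conj b⁻¹).toMonoidHom
        simpa [← hb, mul_assoc, Commute, SemiconjBy] using this
      refine ⟨⟨⟨fun x y => Subtype.ext ?_⟩⟩, fun x hx => ?_⟩
      · have h := hVab _ (key x x.2) _ (key y y.2)
        rw [← Subgroup.coe_mul, ← Subgroup.coe_mul] at h
        have h' : b⁻¹ * ((x : N) * y) * b = b⁻¹ * ((y : N) * x) * b := by
          rw [show b⁻¹ * ((x : N) * y) * b = (b⁻¹ * x * b) * (b⁻¹ * y * b) by group,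
            show b⁻¹ * ((y : N) * x) * b = (b⁻¹ * y * b) * (b⁻¹ * x * b) by group]
          exact Subtype.ext h
        simpa using h'
      · have h := hV2 _ (key x hx)
        rw [← Subgroup.coe_mul] at h
        have h' : b⁻¹ * (x * x) * b = 1 := by
          rw [show b⁻¹ * (x * x) * b = (b⁻¹ * x * b) * (b⁻¹ * x * b) by group]
          exact Subtype.ext h
        rw [pow_two]
        calc x * x = b * (b⁻¹ * (x * x) * b) * b⁻¹ := by group
          _ = 1 := by rw [h']; group
    obtain ⟨F, _, _, hFc, ⟨ψ⟩⟩ := CfsgLib.StrongEmbedding.PSLTwo.exists_psl hH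
    rw [show Nat.card (T : Subgroup N) = 4 by rw [hTeq, hVNcard]] at hFc
    obtain ⟨a5⟩ := CfsgLib.ClassicalGroups.psl_two_four_alternating (K := F) hFc
    have hN60 : Nat.card N = 60 := by
      rw [Nat.card_congr (ψ.trans a5).toEquiv]; exact (by
        rw [Nat.card_eq_fintype_card]; decide +kernel)
    haveI : IsSimpleGroup N :=
      (ψ.trans a5).isSimpleGroup
    refine mulEquiv_perm (normalizer (V : Set G)) (n := 5) (by norm_num) ?_ ?_ (by
      rw [← hcardN, hN60]; rfl)
    · have h1 := (normalizer (V : Set G)).card_mul_index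
      have h2 := Nat.le_of_dvd Nat.card_pos h24
      rw [← hcardN, hN60] at h1
      have h3 := Nat.mul_le_mul_right (normalizer (V : Set G)).index h2
      omega
    · set K := (normalizer (V : Set G)).normalCore
      have hKN : K ⊓ N = ⊥ := by
        rcases (inferInstance : ((K ⊓ N).subgroupOf N).Normal).eq_bot_or_eq_top with h | h
        · rw [Subgroup.subgroupOf_eq_bot, disjoint_iff] at h
          simpa [inf_assoc] using h
        · exfalso
          rw [Subgroup.subgroupOf_eq_top] at h
          apply hTn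
          rw [hTeq]
          refine ⟨fun v hv x => Subgroup.mem_subgroupOf.mpr ?_⟩
          exact (Subgroup.mem_normalizer_iff.mp (Subgroup.normalCore_le _ (h x.2).1) (v : G)).mp
            (Subgroup.mem_subgroupOf.mp hv)
      rw [eq_bot_iff]
      intro k hk
      have hkV : k ∈ centralizer (V : Set G) := mem_centralizer_iff.mpr fun v hv =>
        ((Subgroup.commute_of_normal_of_disjoint K N inferInstance hNn (disjoint_iff.mpr hKN) k v hk hv.2).eq).symm
      rw [hCV] at hkV
      rw [← hKN]
      exact ⟨hk, hkV.2⟩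

end Cfsg.Agent.S3035
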