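import Cfsg.Statements.S0494
import Cfsg.Agent.Lib.Recognition.OrderSixtyFive

set_option autoImplicit false
open Cfsg

namespace Cfsg.Agent.S0494

/-- A simple group of order 60 is isomorphic to the alternating group of degree 5. -/
theorem result {G : Type*} [Group G] [Finite G] [IsSimpleGroup G]
    (h : Nat.card G = 60) : Nonempty (G ≃* alternatingGroup (Fin 5)) := by
  have : Fact (Nat.Prime 5) := ⟨by norm_num⟩
  have hG := CfsgLib.Small.nc_of_not_prime (G := G) (by rw [h]; norm_num)
  have hm := CfsgLib.Small.card_sylow_mem (p := 5) hG (k := 1) (m := 12) one_ne_zero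
    (by rw [h]; norm_num) (by norm_num)
  rw [show ((Nat.divisors 12).filter fun n => n % 5 = 1 ∧ 1 < n) = {6} from by decide,
    Finset.mem_singleton] at hm
  exact CfsgLib.Recognition.OrderSixty.nonempty_mulEquiv_alternating_five h hm


end Cfsg.Agent.S0494
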