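import Cfsg.Statements.S3331
import Cfsg.Agent.Lib.SelfThree29.Main
import Cfsg.Agent.S0494
import Cfsg.Agent.S0495

set_option autoImplicit false
open Cfsg

namespace Cfsg.Agent.S3331

/-- Let G be a finite group containing a subgroup X of order 3 with C_G(X) = X. Then one of the following holds: G has a nilpotent normal subgroup N of order prime to 3 with G/N of order 3 or isomorphic to Sym(3); or G has an elementary abelian normal 2-subgroup N with G/N isomorphic to the alternating group of degree 5; or G is isomorphic to PSL(2,7). -/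
theorem result {G : Type*} [Group G] [Finite G]
    (X : Subgroup G) (hX : Nat.card X = 3) (hC : Subgroup.centralizer (X : Set G) = X) :
    (∃ (N : Subgroup G) (hN : N.Normal), Group.IsNilpotent N ∧ (Nat.card N).Coprime 3 ∧
        (Nat.card (G ⧸ N) = 3 ∨ Nonempty (G ⧸ N ≃* Equiv.Perm (Fin 3)))) ∨
    (∃ (N : Subgroup G) (hN : N.Normal), IsMulCommutative N ∧ (∀ n ∈ N, n ^ 2 = 1) ∧
        Nonempty (G ⧸ N ≃* alternatingGroup (Fin 5))) ∨
    Nonempty (G ≃* Matrix.ProjectiveSpecialLinearGroup (Fin 2) (ZMod 7)) := by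
  classical
  obtain ⟨⟨x, hxX⟩, hx1⟩ : ∃ x : X, x ≠ 1 := by
    have : Nontrivial X := Finite.one_lt_card_iff_nontrivial.1 (by rw [hX]; norm_num)
    exact exists_ne 1
  have hord : orderOf x = 3 := by
    have h : orderOf x ∣ 3 := by
      rw [← hX, ← Subgroup.orderOf_mk x hxX]
      exact orderOf_dvd_natCard _
    rcases (Nat.dvd_prime Nat.prime_three).1 h with h | h
    · exact absurd (Subtype.ext (orderOf_eq_one_iff.1 h) : (⟨x, hxX⟩ : X) = 1) hx1
    · exact h
  have hXz : Subgroup.zpowers x = X :=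
    Subgroup.eq_of_le_of_card_ge (Subgroup.zpowers_le.2 hxX)
      (by rw [Nat.card_zpowers, hord, hX])
  have hx : CfsgLib.SelfThree29.SC3 x := ⟨hord, fun g hg => by
    rw [hXz, ← hC, Subgroup.mem_centralizer_iff]
    intro y hy
    rw [SetLike.mem_coe, ← hXz] at hy
    obtain ⟨j, rfl⟩ := hy
    exact (Commute.zpow_left (show Commute x g from hg.symm) j).eq⟩
  obtain ⟨N, hN, hN3, hred⟩ := CfsgLib.SelfThree29.exists_core x
  have hQ := hx.quotient N hN3
  have hnil : Group.IsNilpotent N :=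
    hx.isNilpotent (by rw [Subgroup.normalizer_eq_top]; exact Subgroup.mem_top x) hN3
  have hcop : (Nat.card N).Coprime 3 := (Nat.prime_three.coprime_iff_not_dvd.2 hN3).symm
  rcases hQ.reduced_cases hred with h | ⟨h, s, hs⟩ | ⟨hsimp, hbig, -⟩
  · exact Or.inl ⟨N, hN, hnil, hcop, Or.inl h⟩
  · exact Or.inl ⟨N, hN, hnil, hcop,
      Or.inr (CfsgLib.SelfThree29.nonempty_mulEquiv_perm_three h hQ hs)⟩
  obtain ⟨hcard, a, b, ha, hb, hab⟩ := hQ.good hbig
  rcases hcard with h60 | h168
  · obtain ⟨hc, hsq⟩ := hx.ext_elementary N hN3 ha hb hab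
    exact Or.inr (Or.inl ⟨N, hN, hc, hsq, Cfsg.Agent.S0494.result h60⟩)
  · have hbot := hx.core_eq_bot_of_168 N hN3 h168 ha hb hab
    subst hbot
    have : Fact (Nat.Prime 7) := ⟨by norm_num⟩
    obtain ⟨e⟩ := Cfsg.Agent.S0495.result h168 (F := ZMod 7) (ZMod.card 7)
    exact Or.inr (Or.inr ⟨QuotientGroup.quotientBot.symm.trans e⟩)

end Cfsg.Agent.S3331
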