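import Cfsg.Statements.S3433
import Cfsg.Agent.Lib.Recog.OrdersFive
import Cfsg.Agent.Lib.FewOrders.Prime
import Cfsg.Agent.Lib.PCore.Basic
import Cfsg.Agent.S3331
import Cfsg.Agent.S3035

set_option autoImplicit false
open Cfsg

namespace Cfsg.Agent.S3433

open CfsgLib.Recog.OrdersFive

theorem exists_seven :
    ∃ g : Matrix.ProjectiveSpecialLinearGroup (Fin 2) (ZMod 7), orderOf g = 7 := by
  let t : Matrix.SpecialLinearGroup (Fin 2) (ZMod 7) := ⟨!![1, 1; 0, 1], by decide +kernel⟩
  let s : Matrix.SpecialLinearGroup (Fin 2) (ZMod 7) := ⟨!![0, -1; 1, 0], by decide +kernel⟩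
  haveI := Fact.mk (show Nat.Prime 7 by norm_num)
  refine ⟨QuotientGroup.mk' _ t, orderOf_eq_prime ?_ ?_⟩
  · rw [← map_pow, show t ^ 7 = 1 by decide +kernel, map_one]
  · intro e
    have h1 := Subgroup.mem_center_iff.1 ((QuotientGroup.eq_one_iff t).1 e) s
    exact absurd h1 (by decide +kernel)

theorem not_oddCore_sup {G : Type*} [Group G] [Finite G] (hS : CfsgLib.Recog.OrdersFive.Small G) {u v f : G}
    (hu2 : orderOf u = 2) (hv : v * v = 1) (hv1 : v ≠ 1) (hvu : v ≠ u) (huv : Commute u v)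
    (hf : orderOf f = 5) (hO : Subgroup.centralizer ({u} : Set G) ⊔ Cfsg.oddCore G = ⊤) : False := by
  haveI : (Cfsg.oddCore G).Normal := inferInstance
  haveI : Fact (Nat.Prime 2) := ⟨Nat.prime_two⟩
  have hu : u * u = 1 := by rw [← sq, ← hu2, pow_orderOf_eq_one]
  have hu1 : u ≠ 1 := fun e => by simp [e] at hu2
  obtain ⟨c, hc, o, ho, hco⟩ := Subgroup.mem_sup_of_normal_right.1
    (show f ∈ Subgroup.centralizer ({u} : Set G) ⊔ Cfsg.oddCore G from hO ▸ Subgroup.mem_top f)
  have hc4 := hS.two_centralizer hu hu1 (Subgroup.mem_centralizer_singleton_iff.1 hc).symm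
  have hfO : f ∈ Cfsg.oddCore G := by
    rw [← QuotientGroup.eq_one_iff]
    have e : (QuotientGroup.mk f : G ⧸ Cfsg.oddCore G) = QuotientGroup.mk c := by
      rw [← hco, QuotientGroup.mk_mul, (QuotientGroup.eq_one_iff o).2 ho, mul_one]
    have h4 : (QuotientGroup.mk f : G ⧸ Cfsg.oddCore G) ^ 4 = 1 := by
      rw [e, ← QuotientGroup.mk_pow, hc4, QuotientGroup.mk_one]
    have h5 : (QuotientGroup.mk f : G ⧸ Cfsg.oddCore G) ^ 5 = 1 := by
      rw [← QuotientGroup.mk_pow, ← hf, pow_orderOf_eq_one, QuotientGroup.mk_one]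
    rwa [pow_succ, h4, one_mul] at h5
  have hinv : ∀ t : G, t * t = 1 → t ≠ 1 → ∀ g ∈ Cfsg.oddCore G, t * g * t⁻¹ = g⁻¹ := by
    intro t ht ht1 g hg
    let φ : MulAut (Cfsg.oddCore G) := MulAut.conjNormal t
    have hfp : MonoidHom.FixedPointFree φ := by
      intro a ha
      have e : t * (a : G) * t⁻¹ = a := by
        rw [← MulAut.conjNormal_apply]; exact congrArg Subtype.val ha
      have h4 := hS.two_centralizer ht ht1 (mul_inv_eq_iff_eq_mul.1 e)
      have hodd : (orderOf a).Coprime 4 := by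
        have h2 : ¬ 2 ∣ orderOf a := fun hd => CfsgLib.PCore.not_dvd_card_pPrimeCore (p := 2) (G := G)
          (hd.trans (orderOf_dvd_natCard a))
        exact (Nat.Prime.coprime_iff_not_dvd Nat.prime_two).2 h2 |>.symm.pow_right 2
      have h4' : orderOf a ∣ 4 := orderOf_dvd_of_pow_eq_one (Subtype.ext (by simpa using h4))
      exact orderOf_eq_one_iff.1 (hodd.eq_one_of_dvd h4')
    have hinvol : Function.Involutive φ := by
      intro a
      apply Subtype.ext
      simp only [φ, MulAut.conjNormal_apply]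
      rw [show t * (t * (a : G) * t⁻¹) * t⁻¹ = (t * t) * a * (t * t)⁻¹ by group, ht]; group
    have := congrArg Subtype.val (congrFun (hfp.coe_eq_inv_of_involutive hinvol) ⟨g, hg⟩)
    simpa [φ] using this
  have huv2 : (u * v) * (u * v) = 1 := by
    rw [show u * v * (u * v) = u * (v * u) * v by group, ← huv.eq,
      show u * (u * v) * v = (u * u) * (v * v) by group, hu, hv, one_mul]
  have huv1 : u * v ≠ 1 := fun e =>
    hvu (by rw [← inv_eq_of_mul_eq_one_right e, inv_eq_of_mul_eq_one_right hu])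
  have e : u * v * f * (u * v)⁻¹ = f := by
    rw [show u * v * f * (u * v)⁻¹ = u * (v * f * v⁻¹) * u⁻¹ by group, hinv v hv hv1 f hfO,
      hinv u hu hu1 _ (inv_mem hfO), inv_inv]
  have h4 := orderOf_dvd_of_pow_eq_one (hS.two_centralizer huv2 huv1 (mul_inv_eq_iff_eq_mul.1 e))
  rw [hf] at h4
  norm_num at h4

/-- A finite group whose set of element orders is exactly {1, 2, 3, 4, 5} is isomorphic to the alternating group of degree 6, or has a normal elementary abelian 2-subgroup with quotient isomorphic to the alternating group of degree 5. -/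
theorem result {G : Type*} [Group G] [Finite G] (h : Set.range (orderOf : G → ℕ) = {k : ℕ | 1 ≤ k ∧ k ≤ 5}) :
    Nonempty (G ≃* ↥(alternatingGroup (Fin 6))) ∨
      ∃ (N : Subgroup G) (_ : N.Normal), Cfsg.IsElementaryAbelian 2 N ∧ Nonempty (G ⧸ N ≃* ↥(alternatingGroup (Fin 5))) := by
  have hr : ∀ k : ℕ, (∃ g : G, orderOf g = k) ↔ 1 ≤ k ∧ k ≤ 5 := fun k => by
    have := Set.ext_iff.1 h k
    simpa using this
  have hS : CfsgLib.Recog.OrdersFive.Small G := fun g => ⟨orderOf_pos g, ((hr _).1 ⟨g, rfl⟩).2⟩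
  have hE : CfsgLib.FewOrders.IsEPPO G := by
    intro g hg
    obtain ⟨h0, h5⟩ := hS g
    have hne : orderOf g ≠ 1 := fun e => hg (orderOf_eq_one_iff.1 e)
    rcases hS.cases g with e | e | e | e | e
    · exact absurd e hg
    · rw [e]; exact Nat.prime_two.isPrimePow
    · rw [e]; exact Nat.prime_three.isPrimePow
    · rw [e]; exact ⟨2, 2, Nat.prime_two.prime, two_pos, rfl⟩
    · rw [e]; exact (by norm_num : Nat.Prime 5).isPrimePow
  obtain ⟨g2, hg2⟩ := (hr 2).2 (by norm_num)
  obtain ⟨f, hf⟩ := (hr 5).2 (by norm_num)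
  obtain ⟨g3, hg3⟩ := (hr 3).2 (by norm_num)
  have hd : ∀ g : G, orderOf g ∣ Nat.card G := fun g => orderOf_dvd_natCard g
  have hns : ¬ Group.IsSolvable G := by
    intro hs
    have hsub : ({2, 3, 5} : Finset ℕ) ⊆ (Nat.card G).primeFactors := by
      intro p hp
      simp only [Finset.mem_insert, Finset.mem_singleton] at hp
      rcases hp with rfl | rfl | rfl <;>
        refine Nat.mem_primeFactors.2 ⟨by norm_num, ?_, Nat.card_pos.ne'⟩
      · exact hg2 ▸ hd g2
      · exact hg3 ▸ hd g3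
      · exact hf ▸ hd f
    have := (Finset.card_le_card hsub).trans (hE.card_primeFactors_le_two hs)
    norm_num at this
  by_cases hA : ∃ x : G, orderOf x = 3 ∧ ∀ g, Commute x g → g ∈ Subgroup.zpowers x
  · obtain ⟨x, hx, hC⟩ := hA
    right
    have hCX : Subgroup.centralizer (Subgroup.zpowers x : Set G) = Subgroup.zpowers x := by
      refine le_antisymm (fun g hg => hC g (Subgroup.mem_centralizer_iff.1 hg x (Subgroup.mem_zpowers x))) ?_
      intro g hg
      obtain ⟨k, rfl⟩ := Subgroup.mem_zpowers_iff.1 hg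
      refine Subgroup.mem_centralizer_iff.2 fun b hb => ?_
      obtain ⟨l, rfl⟩ := Subgroup.mem_zpowers_iff.1 hb
      exact ((Commute.refl x).zpow_zpow l k).eq
    rcases Cfsg.Agent.S3331.result (Subgroup.zpowers x) (by rw [Nat.card_zpowers, hx]) hCX with
      ⟨N, hN, hnil, -, hq⟩ | ⟨N, hN, hc, h2, hq⟩ | hq
    · exfalso
      apply hns
      haveI := hnil
      have hq' : Group.IsSolvable (G ⧸ N) := by
        rcases hq with hq | ⟨⟨e⟩⟩
        · have := Fact.mk Nat.prime_three
          have : IsCyclic (G ⧸ N) := isCyclic_of_prime_card hq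
          letI := IsCyclic.commGroup (α := G ⧸ N)
          infer_instance
        · haveI : Group.IsSolvable (Equiv.Perm (Fin 3)) :=
            CfsgLib.FewOrders.isSolvable_of_two_primes Nat.prime_two Nat.prime_three (fun t ht htd => by
              rw [Nat.card_perm, Nat.card_fin] at htd
              have := Nat.le_of_dvd (by norm_num [Nat.factorial]) htd
              have h6 : t ≤ 6 := by simpa [Nat.factorial] using this
              have htd' : t ∣ 6 := by simpa [Nat.factorial] using htd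
              interval_cases t <;> first | exact Or.inl rfl | exact Or.inr rfl | (exfalso; revert ht htd'; norm_num))
          exact solvable_of_solvable_injective (f := e.toMonoidHom) e.injective
      haveI := hq'
      exact solvable_of_ker_le_range N.subtype (QuotientGroup.mk' N)
        (le_of_eq (by rw [QuotientGroup.ker_mk', Subgroup.range_subtype]))
    · exact ⟨N, hN, ⟨hc, h2⟩, hq⟩
    · exfalso
      obtain ⟨e⟩ := hq
      obtain ⟨g, hg⟩ := exists_seven
      have := (hS (e.symm g)).2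
      rw [MulEquiv.orderOf_eq, hg] at this
      omega
  push Not at hA
  left
  obtain ⟨y, hyc, hyn⟩ := hA g3 hg3
  have hx : g3 ^ 3 = 1 := by rw [← hg3, pow_orderOf_eq_one]
  have hx1 : g3 ≠ 1 := fun e => by simp [e] at hg3
  have hn : Nine g3 y := {
    hx := hx
    hx1 := hx1
    hy := hS.three_centralizer hx hx1 hyc
    hy1 := fun e => hyn (e ▸ one_mem _)
    hc := hyc
    hne := fun e => hyn (eq_inv_of_mul_eq_one_right e ▸ inv_mem (Subgroup.mem_zpowers g3))
    hne' := fun e => hyn (by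
      rw [mul_inv_eq_one] at e
      exact e ▸ Subgroup.mem_zpowers g3) }
  have ht : g2 * g2 = 1 := by rw [← sq, ← hg2, pow_orderOf_eq_one]
  have ht1 : g2 ≠ 1 := fun e => by simp [e] at hg2
  obtain ⟨s, hs, hs1, hsx⟩ := exists_not_inverting hS hx hx1 hf ht ht1
  obtain ⟨u, hu2, hC, v, hv, hv1, hvu, huv⟩ := exists_dihedral hS hn hs hs1 hsx
  have hord : ∀ {H : Type} [Group H] (_ : G ≃* H) (h' : H), orderOf h' ≤ 5 := fun e h' =>
    (MulEquiv.orderOf_eq e.symm h') ▸ (hS _).2
  rcases Cfsg.Agent.S3035.result u hu2 hC with hO | ⟨⟨e⟩⟩ | ⟨⟨e⟩⟩ | ⟨⟨e⟩⟩ | hA6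
  · exfalso
    exact not_oddCore_sup hS hu2 hv hv1 hvu huv hf hO
  · exfalso
    have h5 : 5 ∣ Nat.card (Equiv.Perm (Fin 4)) := Nat.card_congr e.toEquiv ▸ hf ▸ hd f
    rw [Nat.card_perm, Nat.card_fin] at h5
    norm_num [Nat.factorial] at h5
  · exfalso
    have := hord e (Equiv.swap (0 : Fin 5) 1 * Equiv.swap 1 2 * Equiv.swap 3 4)
    rw [show orderOf (Equiv.swap (0 : Fin 5) 1 * Equiv.swap 1 2 * Equiv.swap 3 4) = 6 from
      (orderOf_eq_iff (by norm_num)).2 ⟨by decide +kernel, by decide +kernel⟩] at this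
    omega
  · exfalso
    let g : Matrix.SpecialLinearGroup (Fin 3) (ZMod 2) := ⟨!![0, 0, 1; 1, 0, 1; 0, 1, 0], by decide +kernel⟩
    have h7 : orderOf g = 7 :=
      orderOf_eq_prime (p := 7) (hp := ⟨by norm_num⟩) (by decide +kernel)
        (fun he => absurd (congrArg Subtype.val he) (by decide +kernel))
    have := hord e g
    omega
  · exact hA6

end Cfsg.Agent.S3433
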