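import Cfsg.Statements.S0878
import Cfsg.Agent.Lib.PermSmall.Zassenhaus

set_option autoImplicit false
open Cfsg

namespace Cfsg.Agent.S0878

/-- Let G be a Zassenhaus group on the finite set Ω, a a point, and let H be the subgroup of the stabilizer of a consisting of the identity and the elements fixing no point other than a (given here as a subgroup of the stabilizer of order one less than the number of points whose non-identity elements fix only a; it is the Frobenius kernel of the stabilizer). Then an element outside the stabilizer of a conjugates no non-identity element of H into H, and the normalizer of H is exactly the stabilizer of a. -/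
theorem result {G Ω : Type*} [Group G] [Finite G] [MulAction G Ω] [Fintype Ω] (hZ : Cfsg.IsZassenhausGroup G Ω) (a : Ω) (H : Subgroup G) (hHa : H ≤ MulAction.stabilizer G a) (hHcard : Nat.card H + 1 = Fintype.card Ω) (hHfix : ∀ u ∈ H, u ≠ 1 → ∀ c : Ω, u • c = c → c = a) : (∀ g : G, g ∉ MulAction.stabilizer G a → ∀ u ∈ H, g * u * g⁻¹ ∈ H → u = 1) ∧ Subgroup.normalizer (H : Set G) = MulAction.stabilizer G a := by
  classical
  have h2 : 2 ≤ Nat.card H := by
    obtain ⟨g, _, x, y, hxy, _, _⟩ := hZ.2.2.2.1
    have := CfsgLib.PermSmall.Zassenhaus.three_le_card hZ hxy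
    omega
  obtain ⟨⟨u, hu⟩, hu1⟩ : ∃ u : H, u ≠ 1 := by
    have : Nontrivial H := Finite.one_lt_card_iff_nontrivial.1 h2
    exact exists_ne 1
  have hu1' : u ≠ 1 := fun h => hu1 (Subtype.ext h)
  have hti : ∀ g : G, ∀ v ∈ H, g * v * g⁻¹ ∈ H → v ≠ 1 → g • a = a := by
    intro g v hv hgv hv1
    refine hHfix _ hgv (fun h => hv1 (conj_eq_one_iff.1 h)) _ ?_
    rw [mul_smul, mul_smul, inv_smul_smul]
    exact congrArg (g • ·) (hHa hv)
  refine ⟨fun g hg v hv hgv => by_contra fun hv1 => hg (hti g v hv hgv hv1), le_antisymm ?_ ?_⟩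
  · intro g hg
    exact hti g u hu ((Subgroup.mem_normalizer_iff.1 hg u).1 hu) hu1'
  · have hset : (H : Set G) = insert 1 {g : G | CfsgLib.PermSmall.Zassenhaus.fixOnly a g} := by
      refine Set.eq_of_subset_of_ncard_le (fun v hv => ?_) ?_ (Set.toFinite _)
      · by_cases hv1 : v = 1
        · exact Or.inl hv1
        · exact Or.inr fun x => ⟨fun hx => hHfix v hv hv1 x hx, fun hx => by rw [hx]; exact hHa hv⟩
      · have := CfsgLib.PermSmall.Zassenhaus.ncard_fixOnly hZ a
        have := Set.ncard_insert_le (1 : G) {g : G | CfsgLib.PermSmall.Zassenhaus.fixOnly a g}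
        rw [← Nat.card_coe_set_eq (H : Set G)]
        simp only [SetLike.coe_sort_coe]
        omega
    have key : ∀ g : G, g • a = a → ∀ v ∈ H, g * v * g⁻¹ ∈ H := by
      intro g hg v hv
      rw [← SetLike.mem_coe, hset] at hv ⊢
      rcases hv with rfl | hv
      · exact Or.inl (by group)
      · refine Or.inr fun x => ?_
        rw [mul_smul, mul_smul, ← eq_inv_smul_iff, hv]
        exact ⟨fun h => by rw [inv_smul_eq_iff] at h; rw [h, hg],
          fun h => by rw [h, inv_smul_eq_iff, hg]⟩
    intro g hg
    refine Subgroup.mem_normalizer_iff.2 fun v => ⟨key g hg v, fun h => ?_⟩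
    have h' := key g⁻¹ (inv_smul_eq_iff.2 (MulAction.mem_stabilizer_iff.1 hg).symm) _ h
    simpa [mul_assoc] using h'

end Cfsg.Agent.S0878
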