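import Cfsg.Statements.S0738
import Cfsg.Agent.Lib.PermSmall.Zassenhaus

set_option autoImplicit false
open Cfsg

namespace Cfsg.Agent.S0738

/-- Let a finite Zassenhaus group of degree `n + 1` have two-point stabilisers of order `d` with `2d ≥ n - 1`. Then a normal subgroup of a point stabiliser acting regularly on the remaining points is elementary abelian, and the degree is a prime power plus one. -/
theorem result {G Ω : Type*} [Group G] [Finite G] [MulAction G Ω] [Fintype Ω] (hZ : Cfsg.IsZassenhausGroup G Ω) {a b : Ω} (hab : a ≠ b) (hd : Fintype.card Ω - 2 ≤ 2 * Nat.card ↥(MulAction.stabilizer G a ⊓ MulAction.stabilizer G b)) (F : Subgroup G) (hFle : F ≤ MulAction.stabilizer G a) (hFn : (F.subgroupOf (MulAction.stabilizer G a)).Normal) (hreg : ∀ y z : Ω, y ≠ a → z ≠ a → ∃! u : F, (u : G) • y = z) : IsMulCommutative F ∧ ∃ p f : ℕ, p.Prime ∧ (∀ u ∈ F, u ^ p = 1) ∧ Fintype.card Ω = p ^ f + 1 := by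
  classical
  set H := CfsgLib.PermSmall.Zassenhaus.pairStab G a b with hH
  set d := Nat.card H with hd'
  have hd2 : Fintype.card Ω - 2 ≤ 2 * d := hd
  have h3 := CfsgLib.PermSmall.Zassenhaus.three_le_card hZ hab
  have hddvd : d ∣ Fintype.card Ω - 2 := CfsgLib.PermSmall.Zassenhaus.card_pairStab_dvd hZ hab
  have hfa : ∀ u ∈ F, u • a = a := fun u hu => hFle hu
  have hfix : ∀ u ∈ F, u ≠ 1 → ∀ x, u • x = x → x = a := by
    intro u hu hu1 x hx
    by_contra hxa
    obtain ⟨w, -, huniq⟩ := hreg x x hxa hxa
    exact hu1 (congrArg Subtype.val ((huniq ⟨u, hu⟩ hx).trans (huniq 1 (one_smul _ _)).symm))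
  have hinj : ∀ u ∈ F, ∀ v ∈ F, u • b = v • b → u = v := by
    intro u hu v hv e
    by_contra hne
    have h1 : v⁻¹ * u ≠ 1 := fun e' => hne (inv_mul_eq_one.mp e').symm
    exact hab (hfix _ (mul_mem (inv_mem hv) hu) h1 b (by rw [mul_smul, e, inv_smul_smul])).symm
  have hcardF : Nat.card F = Fintype.card Ω - 1 := by
    rw [← Fintype.card_subtype_eq a, ← Fintype.card_subtype_compl, ← Nat.card_eq_fintype_card]
    refine Nat.card_congr (Equiv.ofBijective
      (fun u : F => (⟨(u : G) • b, fun e => hab ?_⟩ : {x : Ω // ¬ x = a})) ⟨?_, ?_⟩)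
    · have := e.trans (hfa u u.2).symm
      exact (smul_left_cancel _ this).symm
    · intro u v e
      exact Subtype.ext (hinj u u.2 v v.2 (congrArg Subtype.val e))
    · intro x
      obtain ⟨u, hu, -⟩ := hreg b x.1 (Ne.symm hab) x.2
      exact ⟨u, Subtype.ext hu⟩
  have hnorm : ∀ g ∈ H, ∀ u ∈ F, g * u * g⁻¹ ∈ F := by
    intro g hg u hu
    exact hFn.conj_mem ⟨u, hFle hu⟩ hu ⟨g, hg.1⟩
  have hconjb : ∀ g ∈ H, ∀ u : G, (g * u * g⁻¹) • b = g • u • b := by
    intro g hg u
    rw [mul_smul, mul_smul, inv_smul_eq_iff.mpr hg.2.symm]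
  have hmove : ∀ u ∈ F, u ≠ 1 → u • b ≠ a ∧ u • b ≠ b := by
    intro u hu hu1
    exact ⟨fun e => hab (smul_left_cancel u (e.trans (hfa u hu).symm)).symm,
      fun e => hab (hfix u hu hu1 b e).symm⟩
  -- a non-trivial invariant subgroup is everything
  have hmax : ∀ M : Subgroup G, M ≤ F → (∀ g ∈ H, ∀ u ∈ M, g * u * g⁻¹ ∈ M) →
      (∃ u ∈ M, u ≠ 1) → M = F := by
    intro M hMF hMH hM1
    set S : Set Ω := (fun u : G => u • b) '' ((M : Set G) \ {1}) with hS
    have hScard : S.ncard = Nat.card M - 1 := by
      rw [hS, Set.InjOn.ncard_image (fun u hu v hv e => hinj u (hMF hu.1) v (hMF hv.1) e),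
        Set.ncard_sdiff (by simp) (Set.toFinite _), Set.ncard_singleton]
      rfl
    have hdvdS : d ∣ S.ncard := by
      refine CfsgLib.PermSmall.Zassenhaus.dvd_ncard_invariant hZ hab S ?_ ?_ ?_
      · rintro g hg _ ⟨u, ⟨hu, hu1⟩, rfl⟩
        refine ⟨g * u * g⁻¹, ⟨hMH g hg u hu, fun e => hu1 ?_⟩, hconjb g hg u⟩
        simp only [Set.mem_singleton_iff] at e ⊢
        exact conj_eq_one_iff.mp e
      · rintro ⟨u, ⟨hu, hu1⟩, e⟩; exact (hmove u (hMF hu) hu1).1 e
      · rintro ⟨u, ⟨hu, hu1⟩, e⟩; exact (hmove u (hMF hu) hu1).2 e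
    have hMpos : 1 < Nat.card M := by
      rw [Finite.one_lt_card_iff_nontrivial]
      obtain ⟨u, hu, hu1⟩ := hM1
      exact ⟨⟨u, hu⟩, 1, fun e => hu1 (congrArg Subtype.val e)⟩
    refine Subgroup.eq_of_le_of_card_ge hMF ?_
    obtain ⟨q, hq⟩ := Subgroup.card_dvd_of_le hMF
    by_contra hlt
    have hq2 : 2 ≤ q := by
      rcases q with _ | _ | q
      · omega
      · omega
      · omega
    have : Nat.card M * 2 ≤ Nat.card M * q := Nat.mul_le_mul_left _ hq2
    have := Nat.le_of_dvd (by omega) hdvdS
    omega
  -- a prime dividing the degree of the kernel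
  obtain ⟨p, hp, hpdvd⟩ := Nat.exists_prime_and_dvd (n := Nat.card F) (by omega)
  haveI := Fact.mk hp
  obtain ⟨u, hu⟩ := exists_prime_orderOf_dvd_card' (G := F) p hpdvd
  have hu1 : (u : G) ≠ 1 := by
    intro e
    rw [Subtype.ext (a1 := u) (a2 := 1) e, orderOf_one] at hu
    exact hp.one_lt.ne hu
  have hup : (u : G) ^ p = 1 := by rw [← hu, ← Subgroup.orderOf_coe, pow_orderOf_eq_one]
  have hmain : IsMulCommutative F ∧ ∀ v ∈ F, v ^ p = 1 := by
    rcases Nat.even_or_odd d with hdev | hdodd
    · obtain ⟨K, hK, hKmem⟩ := CfsgLib.PermSmall.Zassenhaus.exists_kernel hZ hab hdev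
      have hFK : F ≤ K := fun v hv => by
        rw [hKmem]
        by_cases hv1 : v = 1
        · exact Or.inl hv1
        · exact Or.inr fun x => ⟨hfix v hv hv1 x, fun e => e ▸ hfa v hv⟩
      have hcomm : ∀ v ∈ F, ∀ w ∈ F, v * w = w * v := fun v hv w hw =>
        congrArg Subtype.val (hK.is_comm.comm ⟨v, hFK hv⟩ ⟨w, hFK hw⟩)
      refine ⟨⟨⟨fun v w => Subtype.ext (hcomm v v.2 w w.2)⟩⟩, ?_⟩
      let M : Subgroup G :=
        { carrier := {v | v ∈ F ∧ v ^ p = 1}
          one_mem' := ⟨one_mem _, one_pow _⟩
          mul_mem' := fun {v w} hv hw => ⟨mul_mem hv.1 hw.1, by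
            rw [(show Commute v w from hcomm v hv.1 w hw.1).mul_pow, hv.2, hw.2, one_mul]⟩
          inv_mem' := fun {v} hv => ⟨inv_mem hv.1, by rw [inv_pow, hv.2, inv_one]⟩ }
      have hM := hmax M (fun v hv => hv.1) (fun g hg v hv => ⟨hnorm g hg v hv.1, by
        rw [conj_pow, hv.2, mul_one, mul_inv_cancel]⟩) ⟨u, ⟨u.2, hup⟩, hu1⟩
      intro v hv
      rw [← hM] at hv
      exact hv.2
    · -- every non-identity element is conjugate to `u` or to its inverse
      have hall : ∀ v ∈ F, v ^ p = 1 := by
        set f : Bool × H → Ω := fun x =>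
          ((x.2 : G) * (if x.1 then (u : G) else (u : G)⁻¹) * (x.2 : G)⁻¹) • b with hf
        have hdd : Fintype.card Ω - 2 = d ∨ Fintype.card Ω - 2 = 2 * d := by
          obtain ⟨q, hq⟩ := hddvd
          have hdpos : 0 < d := Nat.card_pos
          rcases q with _ | _ | _ | q
          · omega
          · left; omega
          · right; omega
          · exfalso
            have : d * 3 ≤ d * (q + 1 + 1 + 1) := Nat.mul_le_mul_left _ (by omega)
            omega
        have hcover : ∀ x, x ≠ a → x ≠ b → ∃ y, f y = x := by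
          have hfinj : ∀ i : Bool, Function.Injective fun g : H => f (i, g) := by
            intro i g g' e
            simp only [hf] at e
            rw [hconjb g g.2, hconjb g' g'.2] at e
            have hc1 : (if i then (u : G) else (u : G)⁻¹) ∈ F := by cases i <;> simp [u.2]
            have hc2 : (if i then (u : G) else (u : G)⁻¹) ≠ 1 := by cases i <;> simp [hu1]
            apply Subtype.ext
            by_contra hne
            have hne' : (g' : G)⁻¹ * g ≠ 1 := fun e' => hne (inv_mul_eq_one.mp e').symm
            exact CfsgLib.PermSmall.Zassenhaus.smul_ne hZ hab (mul_mem (inv_mem g'.2) g.2) hne'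
              (hmove _ hc1 hc2).1 (hmove _ hc1 hc2).2 (by rw [mul_smul, e, inv_smul_smul])
          intro x hxa hxb
          have hrange : ∀ y, f y ≠ a ∧ f y ≠ b := by
            intro y
            simp only [hf]
            refine hmove _ (hnorm _ y.2.2 _ (by cases y.1 <;> simp [u.2])) ?_
            rw [ne_eq, conj_eq_one_iff]
            cases y.1 <;> simp [hu1]
          haveI : Fintype H := Fintype.ofFinite H
          have hcH : Fintype.card H = d := Nat.card_eq_fintype_card.symm
          have htarget : ((Finset.univ : Finset Ω) \ {a, b}).card = Fintype.card Ω - 2 := by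
            rw [Finset.card_sdiff_of_subset (Finset.subset_univ _), Finset.card_univ,
              Finset.card_pair hab]
          have hmemT : x ∈ (Finset.univ : Finset Ω) \ {a, b} := by simp [hxa, hxb]
          have hsub : ∀ s : Finset (Bool × H), s.image f ⊆ (Finset.univ : Finset Ω) \ {a, b} := by
            intro s z hz
            obtain ⟨y, -, rfl⟩ := Finset.mem_image.mp hz
            simp [(hrange y).1, (hrange y).2]
          rcases hdd with h1 | h1
          · have : (({true} : Finset Bool) ×ˢ (Finset.univ : Finset H)).image f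
                = (Finset.univ : Finset Ω) \ {a, b} := by
              refine Finset.eq_of_subset_of_card_le (hsub _) ?_
              rw [Finset.card_image_of_injOn, Finset.card_product, Finset.card_singleton,
                Finset.card_univ, hcH, htarget, one_mul, h1]
              rintro ⟨i, g⟩ hi ⟨j, g'⟩ hj e
              simp at hi hj
              subst hi hj
              exact Prod.ext rfl (hfinj true e)
            rw [← this] at hmemT
            obtain ⟨y, -, hy⟩ := Finset.mem_image.mp hmemT
            exact ⟨y, hy⟩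
          · have : (Finset.univ : Finset (Bool × H)).image f = (Finset.univ : Finset Ω) \ {a, b} := by
              refine Finset.eq_of_subset_of_card_le (hsub _) ?_
              rw [Finset.card_image_of_injective, Finset.card_univ, Fintype.card_prod,
                Fintype.card_bool, hcH, htarget, h1]
              -- the two families are disjoint
              have hsep : ∀ g g' : H, f (true, g) ≠ f (false, g') := by
                intro g g' e
                simp only [hf] at e
                have e1 := hinj _ (hnorm _ g.2 _ (by simp [u.2])) _ (hnorm _ g'.2 _ (by simp [u.2])) e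
                simp only [↓reduceIte, Bool.false_eq_true] at e1
                set k : G := (g' : G)⁻¹ * g with hk
                have hkH : k ∈ H := mul_mem (inv_mem g'.2) g.2
                have e2 : k * u * k⁻¹ = (u : G)⁻¹ := by
                  calc k * u * k⁻¹ = (g' : G)⁻¹ * (g * u * (g : G)⁻¹) * g' := by rw [hk]; group
                    _ = (u : G)⁻¹ := by rw [e1]; group
                have e3 : (k * k) * u * (k * k)⁻¹ = (u : G) := by
                  calc (k * k) * u * (k * k)⁻¹ = k * (k * u * k⁻¹) * k⁻¹ := by group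
                    _ = k * (u : G)⁻¹ * k⁻¹ := by rw [e2]
                    _ = (k * u * k⁻¹)⁻¹ := by group
                    _ = (u : G) := by rw [e2, inv_inv]
                have hk2 : k * k = 1 := by
                  by_contra hne
                  refine CfsgLib.PermSmall.Zassenhaus.smul_ne hZ hab (mul_mem hkH hkH) hne
                    (hmove _ u.2 hu1).1 (hmove _ u.2 hu1).2 ?_
                  rw [← hconjb _ (mul_mem hkH hkH), e3]
                have hk1 : k = 1 := by
                  obtain ⟨m, hm⟩ := hdodd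
                  have hpc : k ^ d = 1 := congrArg Subtype.val (pow_card_eq_one' (x := (⟨k, hkH⟩ : H)))
                  rwa [hm, pow_succ, pow_mul, pow_two, hk2, one_pow, one_mul] at hpc
                rw [hk1, one_mul, inv_one, mul_one] at e2
                have hp2 : p ∣ 2 := by
                  rw [← hu, ← Subgroup.orderOf_coe]
                  exact orderOf_dvd_of_pow_eq_one (by rw [pow_two]; nth_rewrite 2 [e2]; exact mul_inv_cancel _)
                have hp2' : p = 2 := (Nat.prime_dvd_prime_iff_eq hp Nat.prime_two).mp hp2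
                rw [hp2', hcardF] at hpdvd
                omega
              rintro ⟨i, g⟩ ⟨j, g'⟩ e
              cases i <;> cases j
              · exact Prod.ext rfl (hfinj false e)
              · exact absurd e.symm (hsep g' g)
              · exact absurd e (hsep g g')
              · exact Prod.ext rfl (hfinj true e)
            rw [← this] at hmemT
            obtain ⟨y, -, hy⟩ := Finset.mem_image.mp hmemT
            exact ⟨y, hy⟩
        intro v hv
        by_cases hv1 : v = 1
        · rw [hv1, one_pow]
        obtain ⟨y, hy⟩ := hcover _ (hmove v hv hv1).1 (hmove v hv hv1).2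
        have hmemy : ((y.2 : G) * (if y.1 then (u : G) else (u : G)⁻¹) * (y.2 : G)⁻¹) ∈ F :=
          hnorm _ y.2.2 _ (by cases y.1 <;> simp [u.2])
        rw [← hinj _ hmemy v hv hy, conj_pow]
        cases y.1 <;> simp [hup]
      refine ⟨?_, hall⟩
      have hFp : IsPGroup p F := fun v => ⟨1, Subtype.ext (by simpa using hall v v.2)⟩
      haveI : Nontrivial F := ⟨⟨u, 1, fun e => hu1 (congrArg Subtype.val e)⟩⟩
      haveI := hFp.center_nontrivial
      let M : Subgroup G := (Subgroup.center F).map F.subtype
      obtain ⟨⟨z, hz⟩, hz1⟩ := exists_ne (1 : Subgroup.center F)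
      have hM := hmax M (Subgroup.map_subtype_le _) (fun g hg v hv => by
          obtain ⟨w, hw, rfl⟩ := Subgroup.mem_map.mp hv
          refine Subgroup.mem_map.mpr ⟨⟨g * w * g⁻¹, hnorm g hg w w.2⟩, ?_, rfl⟩
          rw [Subgroup.mem_center_iff]
          intro x
          have hx : g⁻¹ * x * g ∈ F := by
            simpa using hnorm g⁻¹ (inv_mem hg) x x.2
          have := congrArg Subtype.val (Subgroup.mem_center_iff.mp hw ⟨_, hx⟩)
          apply Subtype.ext
          simp only [Subgroup.coe_mul] at this ⊢
          calc (x : G) * (g * w * g⁻¹) = g * ((g⁻¹ * x * g) * w) * g⁻¹ := by group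
            _ = g * (w * (g⁻¹ * x * g)) * g⁻¹ := by rw [this]
            _ = g * w * g⁻¹ * x := by group)
        ⟨z, Subgroup.mem_map.mpr ⟨z, hz, rfl⟩, fun e => hz1 (Subtype.ext (Subtype.ext e))⟩
      refine ⟨⟨fun v w => ?_⟩⟩
      obtain ⟨v', hv', hv''⟩ := Subgroup.mem_map.mp (hM.symm ▸ v.2 : (v : G) ∈ M)
      have hvv : v' = v := Subtype.ext hv''
      subst hvv
      exact (Subgroup.mem_center_iff.mp hv' w).symm
  refine ⟨hmain.1, p, ?_⟩
  obtain ⟨f, hf⟩ := IsPGroup.iff_card.mp
    (show IsPGroup p F from fun v => ⟨1, Subtype.ext (by simpa using hmain.2 v v.2)⟩)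
  exact ⟨f, hp, hmain.2, by omega⟩

end Cfsg.Agent.S0738
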