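import Cfsg.Statements.S0346
import Cfsg.Agent.Lib.Zass29.FeitTheorem
import Cfsg.Agent.S0738

set_option autoImplicit false
open Cfsg

namespace Cfsg.Agent.S0346

/-- The number of points of a finite simple Zassenhaus group is `p^k + 1` for some prime power `p^k` (the regular normal
subgroup of a point stabiliser is a `p`-group). -/
theorem result {G Ω : Type*} [Group G] [Finite G] [MulAction G Ω] [Fintype Ω]
    (hZ : Cfsg.IsZassenhausGroup G Ω) [IsSimpleGroup G] :
    IsPrimePow (Fintype.card Ω - 1) := by
  obtain ⟨g, -, a, b, hab, -, -⟩ := hZ.2.2.2.1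
  obtain ⟨H, hHa, hHcard, hHfix⟩ := CfsgLib.PermSmall.FeitFrame.exists_translations hZ hab
  have h3 := CfsgLib.PermSmall.Zassenhaus.three_le_card hZ hab
  have hle : Fintype.card Ω - 2 ≤ 2 * Nat.card (CfsgLib.PermSmall.Zassenhaus.pairStab G a b) ∨
      IsPGroup 2 H := by
    rcases Nat.even_or_odd (Nat.card (CfsgLib.PermSmall.Zassenhaus.pairStab G a b)) with he | ho
    · exact Or.inl (CfsgLib.PermSmall.Zassenhaus.le_two_mul_card hZ hab he)
    · exact (CfsgLib.Zass29.FeitThm.feit hZ hab ho H hHa hHcard hHfix).imp id And.left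
  rcases hle with hle | h2
  · have hmem := CfsgLib.Zass29.FeitThm.mem_iff_fixOnly hZ hab hHa hHcard hHfix
    have hHn : (H.subgroupOf (MulAction.stabilizer G a)).Normal := by
      refine ⟨fun u hu k => ?_⟩
      rw [Subgroup.mem_subgroupOf, hmem] at hu ⊢
      rcases hu with hu | hu
      · left; simp [hu]
      · right
        intro x
        simp only [Subgroup.coe_mul, Subgroup.coe_inv, mul_smul]
        rw [smul_eq_iff_eq_inv_smul, hu, inv_smul_eq_iff, k.2]
    have hreg : ∀ y z : Ω, y ≠ a → z ≠ a → ∃! u : H, (u : G) • y = z := by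
      intro y z hy hz
      let f : H → {x : Ω // ¬ x = a} := fun u => ⟨(u : G) • y, fun e =>
        hy (smul_left_cancel (u : G) (e.trans (hHa u.2).symm))⟩
      have hf : Function.Bijective f := by
        classical
        refine (Nat.bijective_iff_injective_and_card _).mpr ⟨?_, ?_⟩
        · intro u v e
          have e' : (u : G) • y = (v : G) • y := congrArg Subtype.val e
          apply Subtype.ext
          refine (inv_mul_eq_one.mp (by_contra fun h1 => hy ?_ : (v : G)⁻¹ * u = 1)).symm
          exact hHfix _ (mul_mem (inv_mem v.2) u.2) h1 y (by rw [mul_smul, e', inv_smul_smul])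
        · rw [Nat.card_eq_fintype_card (α := {x : Ω // ¬ x = a}), Fintype.card_subtype_compl,
            Fintype.card_subtype_eq]
          omega
      obtain ⟨u, hu⟩ := hf.2 ⟨z, hz⟩
      exact ⟨u, congrArg Subtype.val hu, fun v hv => hf.1 (hu ▸ Subtype.ext hv)⟩
    obtain ⟨-, p, f, hp, -, hn⟩ := Cfsg.Agent.S0738.result hZ hab hle H hHa hHn hreg
    have hf0 : f ≠ 0 := by
      rintro rfl
      rw [pow_zero] at hn
      omega
    rw [hn, Nat.add_sub_cancel]
    exact hp.isPrimePow.pow hf0
  · obtain ⟨k, hk⟩ := IsPGroup.iff_card.mp h2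
    have hk0 : k ≠ 0 := by
      rintro rfl
      rw [pow_zero] at hk
      omega
    rw [show Fintype.card Ω - 1 = 2 ^ k by omega]
    exact Nat.prime_two.isPrimePow.pow hk0

end Cfsg.Agent.S0346
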