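import Cfsg.Statements.S2618
import Cfsg.Agent.Helper57WittBasis

set_option autoImplicit false
open Cfsg

namespace Cfsg.Agent.S2618

/-- Standard (parabolic) basis of a non-degenerate quadratic space of odd dimension 2m + 1 over a finite field (the non-degeneracy of the polar form forces the characteristic to be odd): there is a basis e_i, f_i (i < m), x with Q(e_i) = Q(f_i) = 0, B(e_i, f_j) = δ_ij (B the polar form), the e's pairwise orthogonal and the f's pairwise orthogonal, x orthogonal to all of them and Q(x) ≠ 0. -/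
theorem result {F V : Type*} [Field F] [Finite F] [AddCommGroup V] [Module F V] [FiniteDimensional F V] {m : ℕ} (hV : Module.finrank F V = 2 * m + 1) (Q : QuadraticForm F V) (hQ : (QuadraticMap.polarBilin Q).Nondegenerate) : ∃ b : Module.Basis (Unit ⊕ (Fin m ⊕ Fin m)) F V, Q (b (Sum.inl ())) ≠ 0 ∧ (∀ i, QuadraticMap.polar ⇑Q (b (Sum.inl ())) (b (Sum.inr (Sum.inl i))) = 0 ∧ QuadraticMap.polar ⇑Q (b (Sum.inl ())) (b (Sum.inr (Sum.inr i))) = 0) ∧ (∀ i, Q (b (Sum.inr (Sum.inl i))) = 0 ∧ Q (b (Sum.inr (Sum.inr i))) = 0) ∧ (∀ i j, QuadraticMap.polar ⇑Q (b (Sum.inr (Sum.inl i))) (b (Sum.inr (Sum.inr j))) = if i = j then 1 else 0) ∧ (∀ i j, QuadraticMap.polar ⇑Q (b (Sum.inr (Sum.inl i))) (b (Sum.inr (Sum.inl j))) = 0 ∧ QuadraticMap.polar ⇑Q (b (Sum.inr (Sum.inr i))) (b (Sum.inr (Sum.inr j))) = 0) := by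
  obtain ⟨S⟩ := WittBasis57.exists_split Q ⊤ (WittBasis57.nondeg_top Q hQ)
  have hdim := S.dim
  rw [finrank_top, hV] at hdim
  have h2 := WittBasis57.finrank_le_two Q S.aniso
  have hU : Module.finrank F S.U = 1 := by omega
  obtain rfl : S.k = m := by omega
  obtain ⟨x, hx0⟩ := Module.finrank_pos_iff_exists_ne_zero.1 (by omega : 0 < Module.finrank F S.U)
  have hx0' : (x : V) ≠ 0 := fun h => hx0 (Subtype.ext h)
  have hli := WittBasis57.split_indep Q S (u := fun _ : Unit => (x : V))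
    (linearIndependent_unique_iff.2 hx0') (fun _ => x.2)
  have hli' := hli.comp _ (Equiv.sumComm Unit (Fin S.k ⊕ Fin S.k)).injective
  let b := basisOfLinearIndependentOfCardEqFinrank hli' (by simp [hV]; omega)
  have hb : ∀ i, b i = Sum.elim (Sum.elim S.e S.f) (fun _ : Unit => (x : V)) (Equiv.sumComm Unit _ i) :=
    fun i => congrFun (coe_basisOfLinearIndependentOfCardEqFinrank _ _) i
  refine ⟨b, ?_, fun i => ⟨?_, ?_⟩, fun i => ⟨?_, ?_⟩, fun i j => ?_, fun i j => ⟨?_, ?_⟩⟩ <;>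
    simp only [hb, Equiv.sumComm_apply, Sum.swap_inl, Sum.swap_inr, Sum.elim_inl, Sum.elim_inr,
      ← QuadraticMap.polarBilin_apply_apply]
  · exact fun h => hx0' (S.aniso _ x.2 h)
  · rw [WittBasis57.polarBilin_comm]; exact S.eU i _ x.2
  · rw [WittBasis57.polarBilin_comm]; exact S.fU i _ x.2
  · exact S.Qe i
  · exact S.Qf i
  · exact S.ef i j
  · exact S.ee i j
  · exact S.ff i j

end Cfsg.Agent.S2618
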