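import Cfsg.Statements.S4683
import Cfsg.Agent.Lib.Blk7.SubsectionNorm
import Cfsg.Agent.Lib.BlockCover.Basic
import Cfsg.Agent.Lib.BrauerPairs.Core
-- import your own Cfsg.Agent.* helpers here

set_option autoImplicit false
open Cfsg

namespace Cfsg.Agent.S4683

/-- Fix a prime p and a maximal ideal M of the algebraic integers containing p, a p-block B of the finite group G, a p-element u and a p-block e of C = C_G(u) such that (⟨u⟩, e) is a Brauer pair of B (a Brauer element of B). For χ ∈ B let χ_u be the e-part of the class function c ↦ χ(u c) on C and χ_u' the e-part of c ↦ χ(u⁻¹ c). Then the sum over χ ∈ B and over the p-regular elements s of C of χ_u(s)·χ_u'(s⁻¹) equals the order of C times the p-regular rank of e (the number of irreducible Brauer characters of e). -/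
theorem result {G : Type*} [Group G] [Fintype G] (p : ℕ) [Fact p.Prime] (M : Ideal Cfsg.AlgInt) (hM : Cfsg.IsPModular p M) (B : Set (Cfsg.IrrCharacter G)) (u : G) (hu : ∃ k : ℕ, orderOf u = p ^ k) (e : Set (Cfsg.IrrCharacter (Subgroup.centralizer (Subgroup.zpowers u : Set G)))) (hBe : Cfsg.IsBrauerPairOf p M B (Subgroup.zpowers u) e) : ∑ᶠ χ ∈ B, ∑ᶠ s : Subgroup.centralizer (Subgroup.zpowers u : Set G), Cfsg.pRegularPart p (Cfsg.blockPart e (fun c : Subgroup.centralizer (Subgroup.zpowers u : Set G) => (χ : G → ℂ) (u * c))) s * Cfsg.blockPart e (fun c : Subgroup.centralizer (Subgroup.zpowers u : Set G) => (χ : G → ℂ) (u⁻¹ * c)) s⁻¹ = (Nat.card (Subgroup.centralizer (Subgroup.zpowers u : Set G)) : ℂ) * (Cfsg.blockRank p e : ℂ) := by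
  classical
  have : M.IsMaximal := hM.2.1
  have hcent : Subgroup.centralizer ((Subgroup.zpowers u : Subgroup G) : Set G) =
      Subgroup.centralizer ({u} : Set G) := by
    rw [Subgroup.zpowers_eq_closure, Subgroup.centralizer_closure]
  obtain ⟨⟨-, he⟩, hB, homega⟩ := hBe
  unfold Cfsg.brauerOmega at homega
  suffices key : ∀ (C : Subgroup G), C = Subgroup.centralizer ({u} : Set G) →
      ∀ e : Set (Cfsg.IrrCharacter C), Cfsg.IsPBlock M e →
      (∀ ξ ∈ e, Cfsg.MemLocalIdeal M
        ((∑ᶠ x : C, Cfsg.blockCoeff B x * (ξ : C → ℂ) x / (ξ : C → ℂ) 1) - 1)) →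
      ∑ᶠ χ ∈ B, ∑ᶠ s : C, Cfsg.pRegularPart p (Cfsg.blockPart e
          (fun c : C => (χ : G → ℂ) (u * c))) s *
          Cfsg.blockPart e (fun c : C => (χ : G → ℂ) (u⁻¹ * c)) s⁻¹ =
        (Nat.card C : ℂ) * (Cfsg.blockRank p e : ℂ) from key _ hcent e he homega
  rintro C rfl e he homega
  let _ := Fintype.ofFinite ↥(Subgroup.centralizer ({u} : Set G))
  obtain ⟨B', hB'⟩ := CfsgLib.Blocks.inducedBlockDefined_centralizer hM hu he
  obtain ⟨ξ, hξ⟩ := CfsgLib.Blocks.IsPBlock.nonempty hM he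
  obtain ⟨χ', hχ'⟩ := CfsgLib.Blocks.IsPBlock.nonempty hM hB'.2.1
  have hmem : χ' ∈ B := by
    by_contra hne
    have h1 := CfsgLib.BlockCover.sum_mul_congr_induced (Subgroup.centralizer ({u} : Set G)) hM ξ χ'
      (fun g => hB'.2.2 ξ hξ χ' hχ' g)
      (CfsgLib.BlockCover.isClassFunction_blockCoeff B)
      (fun x => CfsgLib.BrauerPairs.blockCoeff_mem hM hB x)
    rw [CfsgLib.BlockCover.sum_blockCoeff_mul, if_neg hne, sub_zero, Finset.sum_div] at h1
    have h2 := homega ξ hξ
    rw [finsum_eq_sum_of_fintype] at h2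
    apply CfsgLib.Blocks.not_memLocalIdeal_one hM
    have := CfsgLib.Blocks.MemLocalIdeal.add hM h1 (CfsgLib.Blocks.MemLocalIdeal.neg hM h2)
    simpa using this
  have hBB : B' = B := by
    rw [CfsgLib.Blocks.IsPBlock.eq_blockOf hM hB'.2.1 hχ', CfsgLib.Blocks.IsPBlock.eq_blockOf hM hB hmem]
  subst hBB
  rw [finsum_mem_eq_sum_of_inter_support_eq _ (t := Finset.univ.filter (· ∈ B')) (by simp),
    ← CfsgLib.SubsectionNorm.sum_norms hM hu hB hB']
  refine Finset.sum_congr rfl fun χ _ => ?_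
  rw [finsum_eq_sum_of_fintype, Finset.sum_filter]
  refine Finset.sum_congr rfl fun s _ => ?_
  by_cases h : p ∣ orderOf s <;> simp [Cfsg.pRegularPart, Cfsg.IsPRegular, h]

end Cfsg.Agent.S4683
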