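import Cfsg.Statements.S0735
import Mathlib.Algebra.Group.Pointwise.Finset.Scalar
import Mathlib.Tactic
import Mathlib.GroupTheory.Perm.Cycle.Type

set_option autoImplicit false
open Cfsg
open scoped Pointwise

namespace Cfsg.Agent.S0735

/-- A 2-homogeneous permutation group (transitive on 2-subsets) of even order is doubly transitive; a non-trivial 2-homogeneous group is primitive. -/
theorem result {α : Type*} [Fintype α] [DecidableEq α] (G : Subgroup (Equiv.Perm α)) (h2 : MulAction.IsPretransitive G (Set.powersetCard α 2)) (hα : 3 ≤ Fintype.card α) : (Even (Nat.card G) → MulAction.IsMultiplyPretransitive G α 2) ∧ (G ≠ ⊥ → MulAction.IsPreprimitive G α) := by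
  classical
  have key : ∀ a b c d : α, a ≠ b → c ≠ d →
      ∃ g : G, g • a = c ∧ g • b = d ∨ g • a = d ∧ g • b = c := by
    intro a b c d hab hcd
    obtain ⟨g, hg⟩ := h2.exists_smul_eq ⟨{a, b}, Finset.card_pair hab⟩ ⟨{c, d}, Finset.card_pair hcd⟩
    have he : g • ({a, b} : Finset α) = {c, d} := congrArg Subtype.val hg
    simp only [Finset.smul_finset_insert, Finset.smul_finset_singleton] at he
    have h1 : g • a ∈ ({c, d} : Finset α) := he ▸ Finset.mem_insert_self _ _
    have h2' : g • b ∈ ({c, d} : Finset α) := he ▸ Finset.mem_insert_of_mem (Finset.mem_singleton_self _)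
    simp only [Finset.mem_insert, Finset.mem_singleton] at h1 h2'
    have hne : g • a ≠ g • b := fun e => hab (smul_left_cancel g e)
    refine ⟨g, ?_⟩
    rcases h1 with h1 | h1 <;> rcases h2' with h3 | h3
    · exact absurd (h1.trans h3.symm) hne
    · exact Or.inl ⟨h1, h3⟩
    · exact Or.inr ⟨h1, h3⟩
    · exact absurd (h1.trans h3.symm) hne
  refine ⟨fun heven => ?_, fun _ => ?_⟩
  · obtain ⟨t, ht⟩ := exists_prime_orderOf_dvd_card' (G := G) 2 heven.two_dvd
    obtain ⟨u, hu⟩ : ∃ u : α, t • u ≠ u := by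
      by_contra hall
      simp only [not_exists, not_not] at hall
      have : t = 1 := Subtype.ext (Equiv.ext hall)
      rw [this, orderOf_one] at ht
      omega
    have htt : t • t • u = u := by
      rw [← mul_smul, ← pow_two, ← ht, pow_orderOf_eq_one, one_smul]
    rw [MulAction.is_two_pretransitive_iff]
    intro a b c d hab hcd
    obtain ⟨g, hg⟩ := key a b u (t • u) hab (Ne.symm hu)
    obtain ⟨k, hk⟩ := key u (t • u) c d (Ne.symm hu) hcd
    rcases hg with ⟨h1, h2'⟩ | ⟨h1, h2'⟩ <;> rcases hk with ⟨k1, k2⟩ | ⟨k1, k2⟩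
    · exact ⟨k * g, by rw [mul_smul, h1, k1], by rw [mul_smul, h2', k2]⟩
    · exact ⟨k * t * g, by rw [mul_smul, mul_smul, h1, k2], by rw [mul_smul, mul_smul, h2', htt, k1]⟩
    · exact ⟨k * t * g, by rw [mul_smul, mul_smul, h1, htt, k1], by rw [mul_smul, mul_smul, h2', k2]⟩
    · exact ⟨k * g, by rw [mul_smul, h1, k2], by rw [mul_smul, h2', k1]⟩
  · haveI : MulAction.IsPretransitive G α := by
      refine ⟨fun a b => ?_⟩
      rcases eq_or_ne a b with rfl | hab
      · exact ⟨1, one_smul _ _⟩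
      obtain ⟨c, hc⟩ : ∃ c, c ∉ ({a, b} : Finset α) := by
        by_contra hall
        simp only [not_exists, not_not] at hall
        have := Finset.card_le_card (fun z (_ : z ∈ Finset.univ) => hall z)
        have h2c : ({a, b} : Finset α).card ≤ 2 := Finset.card_le_two
        rw [Finset.card_univ] at this
        omega
      simp only [Finset.mem_insert, Finset.mem_singleton, not_or] at hc
      -- {a,c} to {b,c} and {a,c} to {a,b}
      obtain ⟨g, hg⟩ := key a c b c (Ne.symm hc.1) (Ne.symm hc.2)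
      rcases hg with ⟨h1, -⟩ | ⟨h1, h3⟩
      · exact ⟨g, h1⟩
      obtain ⟨k, hk⟩ := key a c a b (Ne.symm hc.1) hab
      rcases hk with ⟨-, k2⟩ | ⟨k1, -⟩
      · exact ⟨k * g, by rw [mul_smul, h1, k2]⟩
      · exact ⟨k, k1⟩
    refine ⟨fun {B} hB => ?_⟩
    rcases Set.subsingleton_or_nontrivial B with h | h
    · exact Or.inl h
    obtain ⟨a, ha, b, hb, hab⟩ := h
    right
    refine Set.eq_univ_of_forall fun c => ?_
    by_contra hc
    have hac : a ≠ c := fun e => hc (e ▸ ha)
    obtain ⟨g, hg⟩ := key a b a c hab hac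
    rcases hg with ⟨h1, h3⟩ | ⟨h1, h3⟩
    · have he : g • B = B := MulAction.IsBlock.smul_eq_of_nonempty hB ⟨a, ⟨a, ha, h1⟩, ha⟩
      exact hc (he ▸ ⟨b, hb, h3⟩)
    · have he : g • B = B := MulAction.IsBlock.smul_eq_of_nonempty hB ⟨a, ⟨b, hb, h3⟩, ha⟩
      exact hc (he ▸ ⟨a, ha, h1⟩)

end Cfsg.Agent.S0735
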