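import Cfsg.Statements.S0662
import Cfsg.Agent.Lib.PGroup.MaximalClass

set_option autoImplicit false
open Cfsg

namespace Cfsg.Agent.S0662

open Subgroup
open scoped commutatorElement

theorem lcs_card {G : Type*} [Group G] [Finite G] {p : ℕ} [Fact p.Prime] {n : ℕ}
    (hG : Nat.card G = p ^ n) (hcl : Group.nilpotencyClass G = n - 1) (hn : 3 ≤ n) :
    ∀ i, 1 ≤ i → i ≤ n - 1 → Nat.card ((⊤ : Subgroup G).lowerCentralSeries i) = p ^ (n - 1 - i) := by
  have hp := (Fact.out : p.Prime)
  haveI hnil : Group.IsNilpotent G := (IsPGroup.of_card hG).isNilpotent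
  have hex : ∀ i, ∃ e, Nat.card ((⊤ : Subgroup G).lowerCentralSeries i) = p ^ e := fun i =>
    ((IsPGroup.of_card hG).to_subgroup _).exists_card_eq
  choose e he using hex
  have hlast : (⊤ : Subgroup G).lowerCentralSeries (n - 1) = ⊥ := by
    rw [← hcl]; exact Subgroup.lowerCentralSeries_nilpotencyClass
  have hne : ∀ i, i < n - 1 → (⊤ : Subgroup G).lowerCentralSeries i ≠ ⊥ := fun i hi h => by
    have := Subgroup.lowerCentralSeries_eq_bot_iff_nilpotencyClass_le.1 h
    omega
  have hlt : ∀ i, i < n - 1 → e (i + 1) < e i := by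
    intro i hi
    have hle : (⊤ : Subgroup G).lowerCentralSeries (i + 1) ≤ (⊤ : Subgroup G).lowerCentralSeries i :=
      Subgroup.lowerCentralSeries_antitone (⊤ : Subgroup G) (Nat.le_succ i)
    have hne' : (⊤ : Subgroup G).lowerCentralSeries (i + 1) ≠ (⊤ : Subgroup G).lowerCentralSeries i := by
      intro h
      have : ∀ j, (⊤ : Subgroup G).lowerCentralSeries (i + j) = (⊤ : Subgroup G).lowerCentralSeries i := by
        intro j
        induction j with
        | zero => rfl
        | succ j ihj =>
          rw [← add_assoc, Subgroup.lowerCentralSeries_succ, ihj, ← Subgroup.lowerCentralSeries_succ, h]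
      have := this (n - 1 - i)
      rw [show i + (n - 1 - i) = n - 1 by omega, hlast] at this
      exact hne i hi this.symm
    have hc : Nat.card ((⊤ : Subgroup G).lowerCentralSeries (i + 1)) <
        Nat.card ((⊤ : Subgroup G).lowerCentralSeries i) :=
      lt_of_not_ge fun h => hne' (eq_of_le_of_card_ge hle h)
    rw [he, he] at hc
    exact (Nat.pow_lt_pow_iff_right hp.one_lt).1 hc
  have he1 : e 1 ≤ n - 2 := by
    have h0 : e 1 ≤ n := by
      have := card_subgroup_dvd_card ((⊤ : Subgroup G).lowerCentralSeries 1)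
      rw [he, hG] at this
      exact (Nat.pow_dvd_pow_iff_le_right hp.one_lt).1 this
    by_contra hh
    have hcom : (⊤ : Subgroup G).lowerCentralSeries 1 ≤ frattini G := by
      rw [Subgroup.lowerCentralSeries_succ, Subgroup.lowerCentralSeries_zero]
      exact CfsgLib.PGroup.commutator_le_frattini (IsPGroup.of_card hG)
    have hcyc : IsCyclic G := by
      set Φ := frattini G
      have hi : Φ.index ∣ p := by
        have h1 := card_mul_index Φ
        rw [hG] at h1
        obtain ⟨a, ha⟩ := ((IsPGroup.of_card hG).to_subgroup Φ).exists_card_eq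
        have h2 := card_le_of_le hcom
        rw [he, ha, Nat.pow_le_pow_iff_right hp.one_lt] at h2
        rw [ha] at h1
        have h3 : p ^ a * Φ.index = p ^ a * p ^ (n - a) := by
          rw [h1, ← pow_add]; congr 1
          have : a ≤ n := by
            by_contra h'
            have h5 : p ^ a ∣ p ^ n := ⟨_, h1.symm⟩
            exact absurd ((Nat.pow_dvd_pow_iff_le_right hp.one_lt).1 h5) h'
          omega
        rw [Nat.eq_of_mul_eq_mul_left (pow_pos hp.pos a) h3]
        exact (pow_dvd_pow p (show n - a ≤ 1 by omega)).trans (pow_one p).dvd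
      haveI : IsCyclic (G ⧸ Φ) := by
        rcases (Nat.dvd_prime hp).1 hi with h | h
        · haveI : Subsingleton (G ⧸ Φ) := (Nat.card_eq_one_iff_unique.1 h).1
          exact isCyclic_of_subsingleton
        · exact isCyclic_of_prime_card (h : Nat.card (G ⧸ Φ) = p)
      obtain ⟨g, hg⟩ := IsCyclic.exists_generator (α := G ⧸ Φ)
      obtain ⟨x, rfl⟩ := QuotientGroup.mk'_surjective Φ g
      have htop : zpowers x ⊔ Φ = ⊤ := by
        rw [eq_top_iff]
        intro y _
        obtain ⟨k, hk⟩ := mem_zpowers_iff.1 (hg (QuotientGroup.mk' Φ y))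
        rw [← map_zpow, QuotientGroup.mk'_eq_mk'] at hk
        obtain ⟨z, hz, rfl⟩ := hk
        exact mul_mem_sup (zpow_mem (mem_zpowers x) k) hz
      exact isCyclic_iff_exists_zpowers_eq_top.2 ⟨x, frattini_nongenerating htop⟩
    exact CfsgLib.MaxClass.not_isMulCommutative_of_class hG hn hcl IsCyclic.isMulCommutative
  have he0 : e (n - 1) = 0 := by
    have := he (n - 1)
    rw [hlast, card_bot] at this
    exact (Nat.pow_eq_one.1 this.symm).resolve_left hp.ne_one
  intro i hi1 hi2
  rw [he]
  congr 1
  have hup : ∀ k, 1 + k ≤ n - 1 → e (1 + k) + k ≤ e 1 := by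
    intro k
    induction k with
    | zero => intro _; rfl
    | succ k ihk =>
      intro hk
      have := hlt (1 + k) (by omega)
      have := ihk (by omega)
      rw [show 1 + (k + 1) = 1 + k + 1 by omega]; omega
  have hdown : ∀ k, k ≤ n - 1 → k ≤ e (n - 1 - k) := by
    intro k
    induction k with
    | zero => intro _; exact Nat.zero_le _
    | succ k ihk =>
      intro hk
      have h1 := hlt (n - 1 - (k + 1)) (by omega)
      rw [show n - 1 - (k + 1) + 1 = n - 1 - k by omega] at h1
      have := ihk (by omega)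
      omega
  have h1 := hup (i - 1) (by omega)
  rw [show 1 + (i - 1) = i by omega] at h1
  have h2 := hdown (n - 1 - i) (by omega)
  rw [show n - 1 - (n - 1 - i) = i by omega] at h2
  omega

theorem card_order_p_subgroups {Q : Type*} [Group Q] [Finite Q] {p : ℕ} [Fact p.Prime]
    (hQ : Nat.card Q = p ^ 2) (hnc : ¬ IsCyclic Q) :
    Nat.card {K : Subgroup Q // Nat.card K = p} = p + 1 := by
  classical
  have hp := (Fact.out : p.Prime)
  have hord : ∀ x : Q, x ≠ 1 → orderOf x = p := by
    intro x hx
    obtain ⟨j, hj2, hj⟩ := (Nat.dvd_prime_pow hp).1 (hQ ▸ orderOf_dvd_natCard x)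
    interval_cases j
    · rw [pow_zero, orderOf_eq_one_iff] at hj; exact absurd hj hx
    · rw [hj, pow_one]
    · exact absurd (isCyclic_of_orderOf_eq_card x (hj.trans hQ.symm)) hnc
  letI := Fintype.ofFinite Q
  letI := Fintype.ofFinite {K : Subgroup Q // Nat.card K = p}
  let f : {x : Q // x ≠ 1} → {K : Subgroup Q // Nat.card K = p} := fun x =>
    ⟨zpowers (x : Q), by rw [Nat.card_zpowers, hord x x.2]⟩
  have hfib : ∀ K, Fintype.card {x // f x = K} = p - 1 := by
    rintro ⟨K, hK⟩
    rw [← Nat.card_eq_fintype_card]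
    have e : {x // f x = ⟨K, hK⟩} ≃ {x : K // x ≠ 1} :=
      { toFun := fun x => ⟨⟨x.1.1, by
          have h : zpowers (x.1 : Q) = K := congrArg Subtype.val x.2
          exact h.le (mem_zpowers _)⟩, fun h => x.1.2 (congrArg Subtype.val h)⟩
        invFun := fun x => ⟨⟨x.1.1, fun h => x.2 (Subtype.ext h)⟩, Subtype.ext (eq_of_le_of_card_ge
          (zpowers_le.2 x.1.2) (le_of_eq (by
            show Nat.card K = Nat.card (zpowers ((x.1 : K) : Q))
            rw [hK, Nat.card_zpowers, hord _ fun h => x.2 (Subtype.ext h)])))⟩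
        left_inv := fun _ => rfl
        right_inv := fun _ => rfl }
    rw [Nat.card_congr e, Nat.card_eq_fintype_card, Fintype.card_subtype_compl,
      Fintype.card_subtype_eq, ← Nat.card_eq_fintype_card, hK]
  have h := Fintype.card_congr (Equiv.sigmaFiberEquiv f)
  rw [Fintype.card_sigma, Finset.sum_congr rfl (fun K _ => hfib K), Finset.sum_const, Finset.card_univ,
    smul_eq_mul, Fintype.card_subtype_compl, Fintype.card_subtype_eq, ← Nat.card_eq_fintype_card,
    ← Nat.card_eq_fintype_card, hQ] at h
  have h2 : p ^ 2 - 1 = (p + 1) * (p - 1) := by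
    have := hp.one_le
    simpa using Nat.sq_sub_sq p 1
  rw [h2] at h
  exact Nat.eq_of_mul_eq_mul_right (by have := hp.two_le; omega) h

/-- In a p-group of maximal class of order at least p³ the normal subgroups of index at least p² are exactly the terms of the lower central series, and there are exactly p + 1 normal subgroups of index p. -/
theorem result {G : Type*} [Group G] [Finite G] {p : ℕ} [Fact p.Prime] (n : ℕ) (hG : Nat.card G = p ^ n) (hcl : Group.nilpotencyClass G = n - 1) (hn : 3 ≤ n) : (∀ (N : Subgroup G) [N.Normal] (r : ℕ), 2 ≤ r → N.index = p ^ r → N = (⊤ : Subgroup G).lowerCentralSeries (r - 1)) ∧ Nat.card {N : Subgroup G // N.Normal ∧ N.index = p} = p + 1 := by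
  have hp := (Fact.out : p.Prime)
  have hpg : IsPGroup p G := IsPGroup.of_card hG
  haveI := hpg.isNilpotent
  have hcard := lcs_card hG hcl hn
  have hcont : ∀ (N : Subgroup G) [N.Normal] (r : ℕ), 1 ≤ r → N.index = p ^ r →
      (⊤ : Subgroup G).lowerCentralSeries (max 1 (r - 1)) ≤ N := by
    intro N _ r hr hN
    have hq : Nat.card (G ⧸ N) = p ^ r := hN
    have hcl' : Group.nilpotencyClass (G ⧸ N) ≤ max 1 (r - 1) := by
      rcases le_or_gt 2 r with h2 | h2
      · exact (CfsgLib.MaxClass.class_le r (G ⧸ N) hq h2).trans (le_max_right _ _)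
      · obtain rfl : r = 1 := by omega
        haveI : IsCyclic (G ⧸ N) := isCyclic_of_prime_card (hq.trans (pow_one p))
        exact (Group.IsNilpotent.nilpotencyClass_le_one_iff.mpr IsCyclic.isMulCommutative).trans
          (le_max_left _ _)
    have h1 : (⊤ : Subgroup (G ⧸ N)).lowerCentralSeries (max 1 (r - 1)) = ⊥ :=
      Subgroup.lowerCentralSeries_eq_bot_iff_nilpotencyClass_le.2 hcl'
    rw [← map_top_of_surjective _ (QuotientGroup.mk'_surjective N), ← Subgroup.map_lowerCentralSeries,
      Subgroup.map_eq_bot_iff, QuotientGroup.ker_mk'] at h1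
    exact h1
  constructor
  · intro N _ r hr hN
    have hle := hcont N r (by omega) hN
    rw [max_eq_right (by omega)] at hle
    refine (eq_of_le_of_card_ge hle ?_).symm
    have hrn : r ≤ n := by
      have := N.index_dvd_card
      rw [hN, hG] at this
      exact (Nat.pow_dvd_pow_iff_le_right hp.one_lt).1 this
    rw [hcard (r - 1) (by omega) (by omega)]
    have h1 := card_mul_index N
    rw [hN, hG, show p ^ n = p ^ (n - r) * p ^ r by rw [← pow_add]; congr 1; omega] at h1
    rw [Nat.eq_of_mul_eq_mul_right (pow_pos hp.pos r) h1]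
    exact Nat.pow_le_pow_right hp.pos (by omega)
  · set L := (⊤ : Subgroup G).lowerCentralSeries 1 with hL
    set q := QuotientGroup.mk' L with hq
    have hqs : Function.Surjective q := QuotientGroup.mk'_surjective L
    have hQ : Nat.card (G ⧸ L) = p ^ 2 := by
      have h1 := card_mul_index L
      rw [hcard 1 le_rfl (by omega), hG, show p ^ n = p ^ (n - 1 - 1) * p ^ 2 by
        rw [← pow_add]; congr 1; omega] at h1
      exact Nat.eq_of_mul_eq_mul_left (pow_pos hp.pos _) h1
    have hnc : ¬ IsCyclic (G ⧸ L) := by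
      intro hc
      have hLf : L ≤ frattini G := by
        rw [hL, Subgroup.lowerCentralSeries_succ, Subgroup.lowerCentralSeries_zero]
        exact CfsgLib.PGroup.commutator_le_frattini hpg
      obtain ⟨g, hg⟩ := hc.exists_generator
      obtain ⟨x, rfl⟩ := hqs g
      have htop : zpowers x ⊔ frattini G = ⊤ := by
        rw [eq_top_iff]
        intro y _
        obtain ⟨k, hk⟩ := mem_zpowers_iff.1 (hg (q y))
        rw [← map_zpow, hq, QuotientGroup.mk'_eq_mk'] at hk
        obtain ⟨z, hz, rfl⟩ := hk
        exact mul_mem_sup (zpow_mem (mem_zpowers x) k) (hLf hz)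
      haveI : IsCyclic G := isCyclic_iff_exists_zpowers_eq_top.2 ⟨x, frattini_nongenerating htop⟩
      exact CfsgLib.MaxClass.not_isMulCommutative_of_class hG hn hcl IsCyclic.isMulCommutative
    rw [← card_order_p_subgroups hQ hnc]
    have hLN : ∀ N : Subgroup G, N.Normal → N.index = p → L ≤ N := fun N hN hi => by
      have := hcont N 1 le_rfl (by rw [hi, pow_one])
      rwa [Nat.sub_self, max_eq_left (Nat.zero_le _)] at this
    have hkey : ∀ K : Subgroup (G ⧸ L), K.index = p ↔ Nat.card K = p := by
      intro K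
      have h := card_mul_index K
      rw [hQ, sq] at h
      constructor <;> intro h' <;> rw [h'] at h
      · exact Nat.eq_of_mul_eq_mul_right hp.pos h
      · exact Nat.eq_of_mul_eq_mul_left hp.pos h
    refine Nat.card_congr
      { toFun := fun N => ⟨N.1.map q, ?_⟩
        invFun := fun K => ⟨K.1.comap q, ?_, ?_⟩
        left_inv := fun N => Subtype.ext ?_
        right_inv := fun K => Subtype.ext (map_comap_eq_self_of_surjective hqs _) }
    · rw [← hkey, index_map_eq N.1 hqs (by rw [hq, QuotientGroup.ker_mk']; exact hLN _ N.2.1 N.2.2)]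
      exact N.2.2
    · haveI : IsMulCommutative (G ⧸ L) := IsPGroup.isMulCommutative_of_card_eq_prime_sq hQ
      infer_instance
    · rw [index_comap_of_surjective _ hqs]; exact (hkey K.1).2 K.2
    · show (N.1.map q).comap q = N.1
      rw [comap_map_eq, hq, QuotientGroup.ker_mk', sup_eq_left]
      exact hLN _ N.2.1 N.2.2

end Cfsg.Agent.S0662
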