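import Cfsg.Statements.S5737
import Cfsg.Agent.Lib.SuzukiGroup.BinaryActions

set_option autoImplicit false
open Cfsg

namespace Cfsg.Agent.S5737

open CfsgLib.SuzukiGroup CfsgLib.BinaryAct
open scoped Pointwise

theorem mem_center_map {G : Type*} [Group G] (K : Subgroup G) (x : G) :
    x ∈ (Subgroup.center ↥K).map K.subtype ↔ x ∈ K ∧ ∀ y ∈ K, y * x = x * y := by
  constructor
  · rintro ⟨⟨u, hu⟩, hc, rfl⟩
    exact ⟨hu, fun y hy => congrArg Subtype.val (Subgroup.mem_center_iff.1 hc ⟨y, hy⟩)⟩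
  · rintro ⟨hx, hc⟩
    exact ⟨⟨x, hx⟩, Subgroup.mem_center_iff.2 fun y => Subtype.ext (hc _ y.2), rfl⟩

theorem mem_center_smul {G : Type*} [Group G] {p : ℕ} (S : Sylow p G) (k x : G) :
    x ∈ (Subgroup.center ↥((k • S : Sylow p G) : Subgroup G)).map
        ((k • S : Sylow p G) : Subgroup G).subtype ↔
      k⁻¹ * x * k ∈ (Subgroup.center ↥(S : Subgroup G)).map (S : Subgroup G).subtype := by
  have hm : ∀ z, z ∈ ((k • S : Sylow p G) : Subgroup G) ↔ k⁻¹ * z * k ∈ (S : Subgroup G) :=
    fun z => by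
      rw [Sylow.coe_subgroup_smul, Subgroup.mem_pointwise_smul_iff_inv_smul_mem, ← map_inv,
        MulAut.smul_def, MulAut.conj_apply, inv_inv]
  rw [mem_center_map, mem_center_map, hm]
  refine and_congr_right fun _ => ⟨fun h y hy => ?_, fun h y hy => ?_⟩
  · have := h (k * y * k⁻¹) ((hm _).2 (by simpa [mul_assoc] using hy))
    have h' := congrArg (fun t => k⁻¹ * t * k) this
    simpa [mul_assoc] using h'
  · have := h _ ((hm y).1 hy)
    have h' := congrArg (fun t => k * t * k⁻¹) this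
    simpa [mul_assoc] using h'

/-- Let G = Sz(q) be a Suzuki group, q = 2^(2a+1) with a ≥ 1 (realised inside Sp₄ over the field with q elements), and let H be a proper subgroup of G. Then the action of G on the cosets of H is binary if and only if H is trivial or H is the centre of a Sylow 2-subgroup of G. Here an action is binary (relational complexity 2) when, for every n ≥ 2 and all n-tuples I, J of points, if for every pair of positions some group element carries the corresponding pair of entries of I to those of J, then a single group element carries I to J. -/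
theorem result {F : Type*} [Field F] [Fintype F] (a : ℕ) (ha : 1 ≤ a) (hF : Fintype.card F = 2 ^ (2 * a + 1))
    (H : Subgroup (Cfsg.Lie.Sz F (2 ^ (a + 1)))) (hH : H ≠ ⊤) :
    (∀ (n : ℕ) (I J : Fin n → (Cfsg.Lie.Sz F (2 ^ (a + 1))) ⧸ H), 2 ≤ n →
        (∀ i j : Fin n, i ≠ j → ∃ g : (Cfsg.Lie.Sz F (2 ^ (a + 1))), g • I i = J i ∧ g • I j = J j) → ∃ g : (Cfsg.Lie.Sz F (2 ^ (a + 1))), ∀ i, g • I i = J i) ↔
      (H = ⊥ ∨ ∃ P : Sylow 2 (Cfsg.Lie.Sz F (2 ^ (a + 1))), H = (Subgroup.center (P : Subgroup (Cfsg.Lie.Sz F (2 ^ (a + 1))))).map (P : Subgroup (Cfsg.Lie.Sz F (2 ^ (a + 1)))).subtype) := by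
  obtain ⟨hchar, ⟨P⟩⟩ := exists_params hF
  haveI := hchar
  haveI : Fact (Nat.Prime 2) := ⟨Nat.prime_two⟩
  constructor
  · intro hb
    rcases eq_or_ne H ⊥ with h | hbot
    · exact Or.inl h
    obtain ⟨k, hk⟩ := binary_cases P hF ha hb hbot hH
    refine Or.inr ⟨k⁻¹ • sylowTwo P, ?_⟩
    ext g
    rw [mem_center_smul, center_sylowTwo P hF ha, hk, inv_inv]
  · rintro (rfl | ⟨S, hS⟩)
    · intro n I J hn hp
      haveI : NeZero n := ⟨by omega⟩
      obtain ⟨g₀, h₀, -⟩ := hp 0 ⟨1, by omega⟩ (by simp [Fin.ext_iff])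
      refine ⟨g₀, fun i => ?_⟩
      rcases eq_or_ne i 0 with rfl | hi
      · exact h₀
      obtain ⟨g, h1, h2⟩ := hp 0 i (Ne.symm hi)
      obtain ⟨x, hx⟩ := QuotientGroup.mk_surjective (I 0)
      obtain ⟨y, hy⟩ := QuotientGroup.mk_surjective (J 0)
      rw [← hx, ← hy, smul_eq_iff, Subgroup.mem_bot] at h1 h₀
      have e : g = g₀ := mul_left_cancel (mul_right_cancel (h1.trans h₀.symm))
      rwa [← e]
    · obtain ⟨k, rfl⟩ := MulAction.exists_smul_eq ↥(Lie.Sz F (2 ^ (a + 1))) (sylowTwo P) S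
      have h0 := (binary_center P hF ha fun g => center_sylowTwo P hF ha g).map k
      have e : H = ((Subgroup.center ↥(sylowTwo P : Subgroup ↥(Lie.Sz F (2 ^ (a + 1))))).map
          (sylowTwo P : Subgroup ↥(Lie.Sz F (2 ^ (a + 1)))).subtype).map
            (MulAut.conj k).toMonoidHom := by
        rw [hS]
        ext g
        rw [mem_center_smul, Subgroup.mem_map_equiv, MulAut.conj_symm_apply]
      rw [e]
      exact h0

end Cfsg.Agent.S5737
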