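import Cfsg.Statements.S0873
import Cfsg.Agent.Lib.Characters.LinearExt
import Cfsg.Agent.Lib.Tech46.CoprimeGen

set_option autoImplicit false
open Cfsg

namespace Cfsg.Agent.S0873

/-- Let C be a normal subgroup of the finite group G of order prime to p and P a p-subgroup with C ⊔ P = G. Let λ be a character of C of degree 1 invariant under conjugation by G and equal to 1 at every element of C centralized by P. Then λ is identically 1. -/
theorem result {G : Type*} [Group G] [Finite G] (p : ℕ) [Fact p.Prime] (C P : Subgroup G) [hC : C.Normal] (hP : IsPGroup p P) (hcop : Nat.Coprime (Nat.card C) p) (hCP : C ⊔ P = ⊤) (lam : C → ℂ) (hlam : Cfsg.IsCharacter C lam ∧ lam 1 = 1) (hinv : ∀ (g : G) (c : C), lam ⟨g * c * g⁻¹, hC.conj_mem (c : G) c.2 g⟩ = lam c) (hker : ∀ c : C, (c : G) ∈ Subgroup.centralizer (P : Set G) → lam c = 1) : lam = fun _ => 1 := by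
  obtain ⟨f, rfl⟩ := CfsgLib.LinearExt.exists_unitsHom hlam.1 hlam.2
  funext c
  let K : Subgroup G := f.ker.map C.subtype
  have hKC : K ≤ C := Subgroup.map_subtype_le _
  have hK : ¬ p ∣ Nat.card K := fun h => (Fact.out : p.Prime).one_lt.ne'
    (Nat.dvd_one.1 (hcop ▸ Nat.dvd_gcd (h.trans (Subgroup.card_dvd_of_le hKC)) dvd_rfl))
  have hKn : ∀ g : G, ∀ y ∈ K, g * y * g⁻¹ ∈ K := by
    rintro g _ ⟨y, hy, rfl⟩
    refine ⟨⟨g * y * g⁻¹, hC.conj_mem (y : G) y.2 g⟩, ?_, rfl⟩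
    exact MonoidHom.mem_ker.2 ((Units.ext (hinv g y)).trans hy)
  have hAN : P ≤ Subgroup.normalizer (K : Set G) := by
    intro a _
    rw [Subgroup.mem_normalizer_iff]
    intro y
    refine ⟨hKn a y, fun h => ?_⟩
    have := hKn a⁻¹ _ h
    simpa [mul_assoc] using this
  obtain ⟨n, hn, hcn⟩ := CfsgLib.Tech46.exists_fixed_in_coset hP hK hAN (x := (c : G)) fun a _ => by
    refine ⟨c⁻¹ * ⟨a * c * a⁻¹, hC.conj_mem (c : G) c.2 a⟩, ?_, rfl⟩
    refine MonoidHom.mem_ker.2 ?_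
    rw [map_mul, map_inv, inv_mul_eq_one]
    exact (Units.ext (hinv a c)).symm
  obtain ⟨m, hm, rfl⟩ := hn
  have h := hker (c * m) hcn
  simpa [MonoidHom.mem_ker.1 hm] using h

end Cfsg.Agent.S0873
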