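import Cfsg.Statements.S0955
import Cfsg.Agent.Lib.PCore.Basic
import Cfsg.Agent.Lib.BlockCover.DefectGroup
-- import your own Cfsg.Agent.* helpers here

set_option autoImplicit false
open Cfsg

namespace Cfsg.Agent.S0955

/-- Let D be a defect group of a block of the finite group G relative to a maximal ideal M of the algebraic integers containing the prime p. Then D is the largest normal p-subgroup of its own normalizer: O_p(N_G(D)) = D. -/
theorem result {G : Type*} [Group G] [Finite G] (p : ℕ) [Fact p.Prime] (M : Ideal Cfsg.AlgInt) (hM : Cfsg.IsPModular p M) (B : Set (Cfsg.IrrCharacter G)) (hB : Cfsg.IsPBlock M B) (D : Subgroup G) (hD : Cfsg.IsDefectGroup p M B D) : (Cfsg.pCore p (Subgroup.normalizer (D : Set G))).map (Subgroup.normalizer (D : Set G)).subtype = D := by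
  classical
  letI := Fintype.ofFinite G
  haveI := hM.2.1
  haveI := CfsgLib.BrauerPairs.charP_res hM
  set N := Subgroup.normalizer (D : Set G) with hN
  set O := (Cfsg.pCore p N).map N.subtype with hO
  have hd := (CfsgLib.BrauerPairs.isDefectGroup_iff hM hB D).1 hD
  have hDN : D ≤ N := Subgroup.le_normalizer
  have hDO : D ≤ O := by
    rw [hO, ← Subgroup.map_subgroupOf_eq_of_le hDN]
    refine Subgroup.map_mono (CfsgLib.PCore.le_pCore ?_ (hd.pgroup.comap_of_injective _ N.subtype_injective))
    exact (Subgroup.normal_subgroupOf_iff_le_normalizer hDN).2 le_rfl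
  have hOp : IsPGroup p O := CfsgLib.PCore.pCore_isPGroup.map _
  have hON : O ≤ N := Subgroup.map_subtype_le _
  have hNO : N ≤ Subgroup.normalizer (O : Set G) := by
    refine (Subgroup.normal_subgroupOf_iff_le_normalizer hON).1 ?_
    rw [hO, Subgroup.subgroupOf, Subgroup.comap_map_eq_self_of_injective N.subtype_injective]
    exact Subgroup.normal_of_characteristic _
  have hCD : CfsgLib.BrauerPairs.cz D ≤ N := CfsgLib.BrauerPairs.cz_le_normalizer D
  set e := CfsgLib.BrauerPairs.eG hM B
  have hb := CfsgLib.BrauerPairs.isBlockIdem_eG hM hB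
  have hefix : ∀ L : Subgroup G, e ∈ CfsgLib.BrauerPairs.fixAlg (CfsgLib.BrauerPairs.ResK M) L :=
    fun L => CfsgLib.BrauerPairs.fixAlg_anti le_top hb.fixed
  set f := CfsgLib.BrauerPairs.brMap (CfsgLib.BrauerPairs.ResK M) D e with hf
  have hfs : f ∈ CfsgLib.BrauerPairs.suppAlg (CfsgLib.BrauerPairs.ResK M) N :=
    CfsgLib.BrauerPairs.suppAlg_mono hCD (CfsgLib.BrauerPairs.brMap_mem_suppAlg D e)
  have hff : f ∈ CfsgLib.BrauerPairs.fixAlg (CfsgLib.BrauerPairs.ResK M) N :=
    CfsgLib.BrauerPairs.brMap_mem_fixAlg le_rfl (hefix N)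
  have hid : f * f = f := by
    rw [hf, ← CfsgLib.BrauerPairs.brMap_mul hd.pgroup (hefix D) (hefix D), hb.idem]
  have h1 := CfsgLib.BrauerPairs.brMap_idem_eq hOp hNO hON
    ((CfsgLib.BrauerPairs.cz_anti hDO).trans hCD) hfs hff hid
  rw [hf, CfsgLib.BrauerPairs.brMap_brMap_of_le hDO] at h1
  obtain ⟨t, -, ht⟩ := (CfsgLib.BrauerPairs.brSetup_block hM hB).exists_le_conj hd.inTr hOp le_top
    (fun h0 => hd.br_ne (by rw [← h1, h0]))
  refine (Subgroup.eq_of_le_of_card_ge hDO ?_).symm
  exact (Subgroup.card_le_of_le ht).trans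
    (Subgroup.card_map_of_injective (MulAut.conj t).injective).le

end Cfsg.Agent.S0955
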