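import Cfsg.Statements.S4508
import Cfsg.Agent.Lib.Blk7.SelfCentralDet

set_option autoImplicit false
open Cfsg

namespace Cfsg.Agent.S4508

/-- Let the finite group G contain an element x of prime order p with C_G(x) = ⟨x⟩, and let t be the number of conjugacy classes of elements of order p. If G has an irreducible character of degree p − 1, then t is even or the commutator subgroup has even index. -/
theorem result {G : Type*} [Group G] [Finite G] (p : ℕ) (hp : p.Prime) (x : G) (hx : orderOf x = p) (hC : Subgroup.centralizer ({x} : Set G) = Subgroup.zpowers x) (t : ℕ) (ht : Nat.card {C : ConjClasses G // ∃ g ∈ C.carrier, orderOf g = p} = t) (χ : Cfsg.IrrCharacter G) (hχ : Cfsg.charDegree (χ : G → ℂ) + 1 = p) : Even t ∨ Even (commutator G).index := by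
  classical
  have : Fact p.Prime := ⟨hp⟩
  have := Fintype.ofFinite G
  by_cases hp2 : p = 2
  · subst hp2
    exact Or.inr (CfsgLib.SelfCentralPrime.even_index_two hx hC)
  rcases Nat.even_or_odd t with ht2 | ht2
  · exact Or.inl ht2
  obtain ⟨_, d, ρ, hρ, rfl⟩ := χ
  have := hρ
  refine Or.inr (CfsgLib.SelfCentralPrime.even_index_of_odd hx hC ρ ?_ hp2 ?_)
  · rw [← hχ, Cfsg.charDegree]
    show d + 1 = ⌊(ρ.character 1).re⌋₊ + 1
    rw [Representation.char_one, Module.finrank_fin_fun, Complex.natCast_re, Nat.floor_natCast]
  · rwa [← CfsgLib.SelfCentralPrime.card_classes hx hC, ht]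

end Cfsg.Agent.S4508
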