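import Cfsg.Statements.S4201
import Cfsg.Agent.Lib.H82.CommCount
open CfsgLib.CommCount82

set_option autoImplicit false
open Cfsg

namespace Cfsg.Agent.S4201

/-- If N is a normal subgroup of the finite group X then k(X) ≤ k(N)·k(X ⧸ N), where k denotes the number of conjugacy classes. -/
theorem result {X : Type*} [Group X] [Finite X] (N : Subgroup X) [N.Normal] : Nat.card (ConjClasses X) ≤ Nat.card (ConjClasses N) * Nat.card (ConjClasses (X ⧸ N)) := by
  classical
  haveI := Fintype.ofFinite X
  have hN : Nat.card X = Nat.card (X ⧸ N) * Nat.card N := Subgroup.card_eq_card_quotient_mul_card_subgroup N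
  have key : ∀ x : X, Nat.card (Subgroup.centralizer ({x} : Set X)) ≤
      Nat.card (Subgroup.centralizer ({(x : X ⧸ N)} : Set (X ⧸ N))) *
        Nat.card (N ⊓ Subgroup.centralizer ({x} : Set X) : Subgroup X) := by
    intro x
    set C := Subgroup.centralizer ({x} : Set X) with hC
    let f : C →* Subgroup.centralizer ({(x : X ⧸ N)} : Set (X ⧸ N)) :=
      ((QuotientGroup.mk' N).comp C.subtype).codRestrict _ fun c =>
        Subgroup.mem_centralizer_singleton_iff.2 (by
          simp only [MonoidHom.coe_comp, Function.comp_apply, QuotientGroup.mk'_apply,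
            Subgroup.coe_subtype, ← QuotientGroup.mk_mul]
          rw [Subgroup.mem_centralizer_singleton_iff.1 c.2])
    have h1 : Nat.card f.ker = Nat.card (N ⊓ C : Subgroup X) := by
      refine Nat.card_congr
        { toFun := fun z => ⟨((z : C) : X), (QuotientGroup.eq_one_iff _).1
            (congrArg Subtype.val z.2), (z : C).2⟩
          invFun := fun z => ⟨⟨(z : X), z.2.2⟩, Subtype.ext ((QuotientGroup.eq_one_iff _).2 z.2.1)⟩
          left_inv := fun z => rfl
          right_inv := fun z => rfl }
    rw [Subgroup.card_eq_card_quotient_mul_card_subgroup f.ker, h1]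
    exact Nat.mul_le_mul_right _
      (Nat.card_le_card_of_injective (QuotientGroup.kerLift f) (QuotientGroup.kerLift_injective f))
  have key2 : ∀ (q : X ⧸ N),
      (∑ x ∈ Finset.univ.filter (fun x : X => (x : X ⧸ N) = q),
        Nat.card (N ⊓ Subgroup.centralizer ({x} : Set X) : Subgroup X)) ≤
        Nat.card (ConjClasses N) * Nat.card N := by
    intro q
    haveI := Fintype.ofFinite N
    rw [← card_comm_eq_card_conjClasses_mul_card,
      Nat.card_congr (Equiv.subtypeProdEquivSigmaSubtype fun a b : N => Commute a b), Nat.card_sigma]
    calc _ = ∑ x ∈ Finset.univ.filter (fun x : X => (x : X ⧸ N) = q),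
          (Finset.univ.filter fun n : N => Commute (n : X) x).card := by
            refine Finset.sum_congr rfl fun x _ => ?_
            rw [← Fintype.card_subtype, ← Nat.card_eq_fintype_card]
            refine Nat.card_congr
              { toFun := fun z => ⟨⟨(z : X), z.2.1⟩, Subgroup.mem_centralizer_singleton_iff.1 z.2.2⟩
                invFun := fun z => ⟨((z : N) : X), (z : N).2,
                  Subgroup.mem_centralizer_singleton_iff.2 z.2⟩
                left_inv := fun z => rfl
                right_inv := fun z => rfl }
      _ = ∑ n : N, ((Finset.univ.filter (fun x : X => (x : X ⧸ N) = q)).filter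
            fun x => Commute (n : X) x).card := by
            simp only [Finset.card_filter]
            rw [Finset.sum_comm]
      _ ≤ _ := by
            refine Finset.sum_le_sum fun n _ => ?_
            rcases ((Finset.univ.filter (fun x : X => (x : X ⧸ N) = q)).filter
              fun x => Commute (n : X) x).eq_empty_or_nonempty with h | ⟨x0, hx0⟩
            · rw [h]; exact Nat.zero_le _
            simp only [Finset.mem_filter, Finset.mem_univ, true_and] at hx0
            rw [← Nat.card_eq_finsetCard]
            refine Nat.card_le_card_of_injective (fun x =>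
              ⟨⟨x0⁻¹ * x.1, ?_⟩, ?_⟩) fun a b hab => Subtype.ext ?_
            · have := x.2
              simp only [Finset.mem_filter, Finset.mem_univ, true_and] at this
              exact QuotientGroup.eq.1 (hx0.1.trans this.1.symm)
            · have := x.2
              simp only [Finset.mem_filter, Finset.mem_univ, true_and] at this
              exact Subtype.ext ((hx0.2.inv_right.mul_right this.2).eq)
            · simpa using congrArg (fun z => ((z.1 : N) : X)) hab
  have hQ := Fintype.ofFinite (X ⧸ N)
  refine Nat.le_of_mul_le_mul_right ?_ (Nat.card_pos : 0 < Nat.card X)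
  calc Nat.card (ConjClasses X) * Nat.card X
      = ∑ x : X, Nat.card (Subgroup.centralizer ({x} : Set X)) := card_comm X
    _ ≤ _ := Finset.sum_le_sum fun x _ => key x
    _ = ∑ q : X ⧸ N, Nat.card (Subgroup.centralizer ({q} : Set (X ⧸ N))) *
          ∑ x ∈ Finset.univ.filter (fun x : X => (x : X ⧸ N) = q),
            Nat.card (N ⊓ Subgroup.centralizer ({x} : Set X) : Subgroup X) := by
        rw [← Finset.sum_fiberwise (s := Finset.univ) (g := fun x : X => (x : X ⧸ N))]
        refine Finset.sum_congr rfl fun q _ => ?_
        rw [Finset.mul_sum]
        refine Finset.sum_congr rfl fun x hx => ?_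
        rw [(Finset.mem_filter.1 hx).2]
    _ ≤ _ := Finset.sum_le_sum fun q _ => Nat.mul_le_mul_left _ (key2 q)
    _ = _ := by rw [← Finset.sum_mul, ← card_comm, hN]; ring

end Cfsg.Agent.S4201
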