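import Cfsg.Statements.S4958
import Cfsg.Agent.Lib.KGV.GaussPsi

set_option autoImplicit false
open Cfsg

namespace Cfsg.Agent.S4958

/-- Let X be a finite group and V a normal subgroup of X in which every element has order dividing the prime p, whose index in X is prime to p and which is its own centralizer in X; so V is an elementary abelian normal Sylow p-subgroup, and any complement G to V in X is a group of order prime to p acting faithfully on the vector space V by conjugation (the coprime linear setting of the k(GV) problem). Let G be a complement to V in X and suppose that for some v in V the centralizer of v in G is abelian. Then the number of conjugacy classes of X is at most the order of V (the abelian-stabilizer criterion for the k(GV) problem). -/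
theorem result {X : Type*} [Group X] [Finite X] (p : ℕ) [Fact p.Prime] (V : Subgroup X) [V.Normal] (hVexp : ∀ v ∈ V, v ^ p = 1) (hidx : ¬ p ∣ V.index) (hself : Subgroup.centralizer (V : Set X) = V) (G : Subgroup X) (hGV : Subgroup.IsComplement' V G) (v : X) (hv : v ∈ V) (hab : ∀ a ∈ G ⊓ Subgroup.centralizer ({v} : Set X), ∀ b ∈ G ⊓ Subgroup.centralizer ({v} : Set X), a * b = b * a) : Nat.card (ConjClasses X) ≤ Nat.card V := by
  classical
  obtain ⟨M, hM⟩ := CfsgLib.KGV.exists_isPModular p (Fact.out : p.Prime)
  have hVp : IsPGroup p V := fun x => ⟨1, Subtype.ext (by simpa using hVexp x x.2)⟩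
  have hVab : ∀ a ∈ V, ∀ b ∈ V, a * b = b * a := by
    intro a ha b hb
    have hb' : b ∈ Subgroup.centralizer (V : Set X) := hself.symm ▸ hb
    exact Subgroup.mem_centralizer_iff.1 hb' a ha
  obtain ⟨C, hC⟩ : ∃ C, C = G ⊓ Subgroup.centralizer ({v} : Set X) := ⟨_, rfl⟩
  have hCG : C ≤ G := hC ▸ inf_le_left
  have hpC : ¬ p ∣ Nat.card C := fun h => hidx (by
    rw [hGV.symm.index_eq_card]; exact h.trans (Subgroup.card_dvd_of_le hCG))
  obtain ⟨N, ψ, m, hN, hψ, hψ1, hm, hψM, hle⟩ := CfsgLib.KGV.exists_psi_abelian (p := p) hM C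
    (fun a ha b hb => hab a (hC ▸ ha) b (hC ▸ hb)) hpC V hVab hVp
    (fun y _ w hw => Subgroup.Normal.conj_mem inferInstance w hw y)
  refine CfsgLib.KGV.knorr hM V hVp hidx hVab G hGV v hv C hC hN ψ hψ hψ1 (fun y hy => ?_) m hm hle
  refine (hψM y).resolve_left fun hcen => hy ?_
  have h1 : (y : X) ∈ V := by
    rw [← hself, Subgroup.mem_centralizer_iff]
    intro w hw
    exact (mul_inv_eq_iff_eq_mul.1 (hcen w hw)).symm
  have h2 : (y : X) ∈ V ⊓ G := ⟨h1, hCG y.2⟩
  rw [hGV.disjoint.eq_bot, Subgroup.mem_bot] at h2
  exact Subtype.ext h2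

end Cfsg.Agent.S4958
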