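import Cfsg.Statements.S4965
import Mathlib.Tactic.Group
import Mathlib.GroupTheory.CommutingProbability

set_option autoImplicit false
open Cfsg

namespace Cfsg.Agent.S4965

/-- Let X be a finite group with an abelian normal subgroup V (any two elements of V commute), and let φ be the action of X ⧸ V on V induced by conjugation (well defined because V is abelian; the hypothesis hφ says that the class of x acts as conjugation by x). Then X has at most as many conjugacy classes as the semidirect product of V by X ⧸ V formed with this action: the split extension has the largest class number among extensions with the given action. -/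
theorem result {X : Type*} [Group X] [Finite X] (V : Subgroup X) [V.Normal] (hab : ∀ a ∈ V, ∀ b ∈ V, a * b = b * a) (φ : X ⧸ V →* MulAut ↥V) (hφ : ∀ (x : X) (v : ↥V), ((φ (QuotientGroup.mk x) v : ↥V) : X) = x * v * x⁻¹) : Nat.card (ConjClasses X) ≤ Nat.card (ConjClasses (SemidirectProduct ↥V (X ⧸ V) φ)) := by
  classical
  set q := QuotientGroup.mk' V with hq
  let CX := {p : X × X // Commute p.1 p.2}
  let CS := {p : SemidirectProduct ↥V (X ⧸ V) φ × SemidirectProduct ↥V (X ⧸ V) φ // Commute p.1 p.2}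
  let π : CX → (X ⧸ V) × (X ⧸ V) := fun p => (q p.1.1, q p.1.2)
  haveI : Nonempty CX := ⟨⟨(1, 1), Commute.one_left 1⟩⟩
  let b : (X ⧸ V) × (X ⧸ V) → CX := Function.invFun π
  have hb : ∀ p : CX, π (b (π p)) = π p := fun p => Function.invFun_eq ⟨p, rfl⟩
  have hmem : ∀ {x y : X}, q x = q y → x * y⁻¹ ∈ V := by
    intro x y h
    rw [← QuotientGroup.eq_one_iff]
    simp only [hq, QuotientGroup.mk'_apply] at h
    simp [h]
  let dx : CX → V := fun p => ⟨p.1.1 * (b (π p)).1.1⁻¹, hmem (congrArg Prod.fst (hb p)).symm⟩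
  let dy : CX → V := fun p => ⟨p.1.2 * (b (π p)).1.2⁻¹, hmem (congrArg Prod.snd (hb p)).symm⟩
  have key : ∀ p : CX, Commute (⟨dx p, (π p).1⟩ : SemidirectProduct ↥V (X ⧸ V) φ) ⟨dy p, (π p).2⟩ := by
    intro p
    have h0 := (b (π p)).2
    have h1 := congrArg Prod.fst (hb p)
    have h2 := congrArg Prod.snd (hb p)
    apply SemidirectProduct.ext
    · apply Subtype.ext
      simp only [SemidirectProduct.mul_left, Subgroup.coe_mul]
      rw [← h1, ← h2]
      simp only [π, hq, QuotientGroup.mk'_apply, hφ, dx, dy]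
      set x0 := (b (π p)).1.1
      set y0 := (b (π p)).1.2
      have hc : x0⁻¹ * y0⁻¹ = y0⁻¹ * x0⁻¹ := (Commute.inv_inv h0).eq
      calc p.1.1 * x0⁻¹ * (x0 * (p.1.2 * y0⁻¹) * x0⁻¹) = p.1.1 * p.1.2 * (y0⁻¹ * x0⁻¹) := by group
        _ = p.1.2 * p.1.1 * (x0⁻¹ * y0⁻¹) := by rw [p.2.eq, hc]
        _ = p.1.2 * y0⁻¹ * (y0 * (p.1.1 * x0⁻¹) * y0⁻¹) := by group
    · simp only [SemidirectProduct.mul_right, π, hq, QuotientGroup.mk'_apply, ← QuotientGroup.mk_mul, p.2.eq]
  let F : CX → CS := fun p => ⟨(⟨dx p, (π p).1⟩, ⟨dy p, (π p).2⟩), key p⟩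
  have hF : Function.Injective F := by
    intro p p' h
    have h' := congrArg Subtype.val h
    obtain ⟨hl, hr⟩ := Prod.ext_iff.1 h'
    obtain ⟨hx, h1⟩ := SemidirectProduct.ext_iff.1 hl
    obtain ⟨hy, h2⟩ := SemidirectProduct.ext_iff.1 hr
    have hπ : π p = π p' := Prod.ext h1 h2
    have hx' : p.1.1 * (b (π p)).1.1⁻¹ = p'.1.1 * (b (π p')).1.1⁻¹ := congrArg Subtype.val hx
    have hy' : p.1.2 * (b (π p)).1.2⁻¹ = p'.1.2 * (b (π p')).1.2⁻¹ := congrArg Subtype.val hy
    rw [hπ] at hx' hy'
    exact Subtype.ext (Prod.ext (mul_right_cancel hx') (mul_right_cancel hy'))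
  haveI : Finite (SemidirectProduct ↥V (X ⧸ V) φ) := Finite.of_equiv _ SemidirectProduct.equivProd.symm
  have hle := Nat.card_le_card_of_injective F hF
  have hcard : Nat.card (SemidirectProduct ↥V (X ⧸ V) φ) = Nat.card X := by
    rw [Nat.card_congr SemidirectProduct.equivProd, Nat.card_prod, Subgroup.card_eq_card_quotient_mul_card_subgroup V, mul_comm]
  simp only [CX, CS] at hle
  rw [card_comm_eq_card_conjClasses_mul_card, card_comm_eq_card_conjClasses_mul_card, hcard] at hle
  exact Nat.le_of_mul_le_mul_right hle Nat.card_pos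

end Cfsg.Agent.S4965
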