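import Cfsg.Statements.S4633
import Cfsg.Agent.Lib.BrauerPairs.Induced
import Mathlib.GroupTheory.SpecificGroups.Cyclic
import Mathlib.NumberTheory.Basic
import Mathlib.Algebra.GroupWithZero.Units.Fintype

set_option autoImplicit false
open Cfsg

namespace Cfsg.Agent.S4633

open CfsgLib.BrauerPairs MonoidAlgebra

/-- The index of `C(Q)` in a group fixing a local block with central defect group is prime to `p`:
stated for any trace of a fixed element of `k[C]`. -/
theorem not_dvd_relIndex_of_trace {k : Type*} [Field k] {G : Type*} [Group G] [Fintype G] {p : ℕ}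
    [CharP k p] [Fact p.Prime] {Q T : Subgroup G} {f : MonoidAlgebra k G}
    (hS : BrSetup p Q f T) (hQC : Q ≤ cz Q) (hD : IsDefect p Q f T Q) :
    ¬ p ∣ (cz Q).relIndex T := by
  classical
  intro hdvd
  obtain ⟨a, has, haf, hfa⟩ := hD.inTr
  set b := relTr k Q (cz Q) a
  have hbs : b ∈ suppAlg k (cz Q) := relTr_mem_suppAlg Subgroup.le_normalizer has
  have hbf : b ∈ fixAlg k (cz Q) := relTr_mem_fixAlg haf
  obtain ⟨l, hl⟩ := hS.block.locally b hbs hbf
  have hfb : relTr k (cz Q) T (b * f) = f := by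
    rw [← relTr_mul_right hS.fixed, relTr_relTr hQC hS.cz_le haf, hfa, hS.block.idem]
  have hfl : relTr k (cz Q) T (l • f) = 0 := by
    rw [relTr_smul, relTr_of_fixed hS.fixed, (CharP.cast_eq_zero_iff k p _).2 hdvd, zero_smul,
      smul_zero]
  have key : IsNilpotent (relTr k (cz Q) T (b * f - l • f)) := by
    rw [relTr_eq_sum]
    refine Commute.isNilpotent_sum (fun q _ => hl.map (conjHom ((q.out : T) : G))) ?_
    intro q q' _ _
    have hn : ∀ t : T, (t : G) ∈ Subgroup.normalizer ((cz Q : Subgroup G) : Set G) := fun t =>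
      normalizer_le_normalizer_cz Q (hS.le_norm t.2)
    have hzs : b * f - l • f ∈ suppAlg k (cz Q) :=
      Subalgebra.sub_mem _ (Subalgebra.mul_mem _ hbs hS.block.supp)
        (Subalgebra.smul_mem _ hS.block.supp l)
    have hzf : b * f - l • f ∈ fixAlg k (cz Q) :=
      Subalgebra.sub_mem _ (Subalgebra.mul_mem _ hbf hS.block.fixed)
        (Subalgebra.smul_mem _ hS.block.fixed l)
    have h1 := conjA_mem_suppAlg hzs ((q.out : T) : G)
    have h2 := conjA_mem_fixAlg hzf ((q'.out : T) : G)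
    rw [map_conj_eq_self (hn q.out)] at h1
    rw [map_conj_eq_self (hn q'.out)] at h2
    exact commute_of_supp_fix h1 h2
  have hsub : relTr k (cz Q) T (b * f - l • f) = f := by
    rw [sub_eq_add_neg, ← neg_smul, relTr_add, hfb, relTr_smul, relTr_of_fixed hS.fixed,
      (CharP.cast_eq_zero_iff k p _).2 hdvd, zero_smul, smul_zero, add_zero]
  rw [hsub] at key
  exact hS.block.ne_zero (eq_zero_of_nilpotent_idem key hS.block.idem)

/-- An element acting on a cyclic `p`-group with a nontrivial fixed point has a `p`-power power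
centralising it. -/
theorem exists_pow_mem_centralizer {G : Type*} [Group G] [Finite G] {p : ℕ} [hp : Fact p.Prime]
    {P : Subgroup G} (hP : IsPGroup p P) (hcyc : IsCyclic P) {g : G}
    (hg : g ∈ Subgroup.normalizer (P : Set G)) {x : G} (hx : x ∈ P) (hx1 : x ≠ 1)
    (hgx : g * x * g⁻¹ = x) : ∃ n : ℕ, g ^ p ^ n ∈ Subgroup.centralizer (P : Set G) := by
  obtain ⟨u, hu⟩ := (Subgroup.isCyclic_iff_exists_zpowers_eq_top P).1 hcyc
  have huP : u ∈ P := hu ▸ Subgroup.mem_zpowers u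
  obtain ⟨n, hn⟩ := (IsPGroup.iff_orderOf.1 hP) ⟨u, huP⟩
  rw [Subgroup.orderOf_mk] at hn
  have hgen : ∀ y ∈ P, ∃ i : ℤ, u ^ i = y := fun y hy => Subgroup.mem_zpowers_iff.1 (hu ▸ hy)
  obtain ⟨a, ha⟩ := hgen (g * u * g⁻¹) ((Subgroup.mem_normalizer_iff.1 hg u).1 huP)
  obtain ⟨j, rfl⟩ := hgen x hx
  have h1 : (↑(p ^ n) : ℤ) ∣ (a - 1) * j := by
    rw [← hn, orderOf_dvd_iff_zpow_eq_one, sub_mul, one_mul, zpow_sub, zpow_mul, ha, conj_zpow,
      hgx, mul_inv_cancel]
  have hj : ¬ (↑(p ^ n) : ℤ) ∣ j := fun h => hx1 (orderOf_dvd_iff_zpow_eq_one.1 (hn ▸ h))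
  have hpa : (p : ℤ) ∣ a - 1 := by
    by_contra h
    have hcop : IsCoprime ((↑(p ^ n) : ℤ)) (a - 1) := by
      push_cast
      exact ((Nat.prime_iff_prime_int.1 hp.out).coprime_iff_not_dvd.2 h).pow_left
    exact hj (hcop.dvd_of_dvd_mul_left h1)
  refine ⟨n, Subgroup.mem_centralizer_iff.2 fun y hy => ?_⟩
  obtain ⟨i, rfl⟩ := hgen y hy
  have hpow : ∀ m : ℕ, g ^ m * u * (g ^ m)⁻¹ = u ^ (a ^ m) := fun m => by
    induction m with
    | zero => simp
    | succ m ih =>
      have : g ^ (m + 1) * u * (g ^ (m + 1))⁻¹ = g * (g ^ m * u * (g ^ m)⁻¹) * g⁻¹ := by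
        rw [pow_succ', mul_inv_rev]; group
      rw [this, ih, ← conj_zpow, ← ha, ← zpow_mul, pow_succ']
  have hfix : g ^ p ^ n * u * (g ^ p ^ n)⁻¹ = u := by
    rw [hpow]
    have h2 : ((p : ℤ) ^ (n + 1)) ∣ a ^ p ^ n - (1 : ℤ) ^ p ^ n := dvd_sub_pow_of_dvd_sub hpa n
    rw [one_pow] at h2
    have h3 : (↑(orderOf u) : ℤ) ∣ a ^ p ^ n - 1 := by
      rw [hn]; push_cast
      exact (pow_dvd_pow _ (Nat.le_succ n)).trans h2
    have h4 := orderOf_dvd_iff_zpow_eq_one.1 h3
    rwa [zpow_sub_one, mul_inv_eq_one] at h4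
  calc u ^ i * g ^ p ^ n = (g ^ p ^ n * u * (g ^ p ^ n)⁻¹) ^ i * g ^ p ^ n := by rw [hfix]
    _ = g ^ p ^ n * u ^ i := by rw [conj_zpow, inv_mul_cancel_right]



/-- Let B be a block of the finite group G relative to a maximal ideal M of the algebraic integers containing the prime p, with a nontrivial cyclic defect group P. Let c be a block of C_G(P) inducing B and T the stabilizer of c in N_G(P) (the elements of N_G(P) conjugating c to itself); T contains C_G(P). Then T/C_G(P) is cyclic of order dividing p − 1, and it acts freely on the non-identity elements of P: an element of T fixing some non-identity element of P under conjugation lies in C_G(P). -/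
theorem result {G : Type*} [Group G] [Finite G] (p : ℕ) [Fact p.Prime] (M : Ideal Cfsg.AlgInt) (hM : Cfsg.IsPModular p M) (B : Set (Cfsg.IrrCharacter G)) (hB : Cfsg.IsPBlock M B) (P : Subgroup G) (hPD : Cfsg.IsDefectGroup p M B P) (hP1 : P ≠ ⊥) (hcyc : IsCyclic P) (c : Set (Cfsg.IrrCharacter (Subgroup.centralizer (P : Set G)))) (hc : Cfsg.IsInducedBlock M (Subgroup.centralizer (P : Set G)) c B) (T : Subgroup G) (hT : ∀ g : G, g ∈ T ↔ (g ∈ Subgroup.normalizer (P : Set G) ∧ Cfsg.StabilizesBlock (Subgroup.centralizer (P : Set G)) c g)) [hn : ((Subgroup.centralizer (P : Set G)).subgroupOf T).Normal] : IsCyclic (T ⧸ (Subgroup.centralizer (P : Set G)).subgroupOf T) ∧ (Subgroup.centralizer (P : Set G)).relIndex T ∣ p - 1 ∧ ∀ g ∈ T, ∀ x ∈ P, x ≠ 1 → g * x * g⁻¹ = x → g ∈ Subgroup.centralizer (P : Set G) := by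
  classical
  have hp : p.Prime := Fact.out
  have : Fintype G := Fintype.ofFinite G
  haveI : M.IsMaximal := hM.2.1
  have := charP_res hM
  let _ : CommGroup P := IsCyclic.commGroup
  have hD0 := (isDefectGroup_iff hM hB P).1 hPD
  have hPp : IsPGroup p P := hD0.pgroup
  have hPC : P ≤ cz P := fun x hx => mem_cz.2 fun y hy =>
    congrArg Subtype.val (mul_comm (⟨y, hy⟩ : P) ⟨x, hx⟩)
  obtain ⟨hcB, -, hO⟩ := (isBrauerPairOf_iff hM B P c).1 (isBrauerPairOf_of_isInducedBlock hM hPp hc)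
  have hTN : T ≤ Subgroup.normalizer (P : Set G) := fun g hg => ((hT g).1 hg).1
  have hb := isBlockIdem_eA hM hcB
  have hCT : cz P ≤ T := fun g hg => (hT g).2 ⟨cz_le_normalizer P hg,
    (stabilizesBlock_iff_conjA hM (Subgroup.le_normalizer hg) hcB).2 (hb.fixed g hg)⟩
  have hS : BrSetup p P (eA hM (cz P) c) T :=
    ⟨hPp, hb, hTN, hCT, hPC.trans hCT, fun g hg => (stabilizesBlock_iff_conjA hM
      (normalizer_le_normalizer_cz P (hTN hg)) hcB).1 ((hT g).1 hg).2⟩
  have hDS : IsDefect p P (eA hM (cz P) c) T P := by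
    obtain ⟨D, hD, hPD'⟩ := hS.exists_defect_ge hPp (hPC.trans hCT)
      (by rw [brMap_eq_self hb.supp]; exact hb.ne_zero)
    have hEb := isBlockIdem_eG hM hB
    have hfixD : brMap (ResK M) P (eG hM B) ∈ fixAlg (ResK M) D :=
      brMap_mem_fixAlg (hD.le_T.trans hTN) (fixAlg_anti le_top hEb.fixed)
    have hbne : brMap (ResK M) D (eG hM B) ≠ 0 := fun h0 => hD.br_ne (by
      conv_lhs => rw [← hO.cover]
      rw [brMap_mul hD.pgroup hfixD (fixAlg_anti hD.le_T hS.fixed),
        brMap_brMap_of_le hD.le, h0, zero_mul])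
    have hle := (brSetup_block hM hB).card_le_defect hD0 hD.pgroup le_top hbne
    obtain rfl : D = P := (Subgroup.eq_of_le_of_card_ge hPD' hle).symm
    exact hD
  have hndvd : ¬ p ∣ (cz P).relIndex T := not_dvd_relIndex_of_trace hS hPC hDS
  have hfree : ∀ g ∈ T, ∀ x ∈ P, x ≠ 1 → g * x * g⁻¹ = x → g ∈ cz P := by
    intro g hg x hx hx1 hgx
    obtain ⟨n, hn⟩ := exists_pow_mem_centralizer hPp hcyc (hTN hg) hx hx1 hgx
    have hm : g ^ (cz P).relIndex T ∈ cz P := by
      have h1 : (((⟨g, hg⟩ : T) : T ⧸ (cz P).subgroupOf T)) ^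
          Nat.card (T ⧸ (cz P).subgroupOf T) = 1 := pow_card_eq_one'
      rw [← QuotientGroup.mk_pow, QuotientGroup.eq_one_iff, Subgroup.mem_subgroupOf] at h1
      simpa [Subgroup.relIndex, Subgroup.index] using h1
    have hcop : Nat.Coprime (p ^ n) ((cz P).relIndex T) :=
      (hp.coprime_iff_not_dvd.2 hndvd).pow_left n
    obtain ⟨a, b, hab⟩ := Int.isCoprime_iff_gcd_eq_one.2 (by rwa [Int.gcd_natCast_natCast] :
      Int.gcd ((p ^ n : ℕ) : ℤ) ((cz P).relIndex T : ℤ) = 1)
    rw [← zpow_one g, ← hab, zpow_add, zpow_mul', zpow_mul', zpow_natCast, zpow_natCast]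
    exact (cz P).mul_mem ((cz P).zpow_mem hn a) ((cz P).zpow_mem hm b)
  obtain ⟨u, hu⟩ := (Subgroup.isCyclic_iff_exists_zpowers_eq_top P).1 hcyc
  have huP : u ∈ P := hu ▸ Subgroup.mem_zpowers u
  have : Nontrivial P := (Subgroup.nontrivial_iff_ne_bot P).2 hP1
  obtain ⟨z, hz⟩ := exists_prime_orderOf_dvd_card' (G := P) p (by
    obtain ⟨n, hn, hcard⟩ := hPp.nontrivial_iff_card.1 ‹_›
    rw [hcard]; exact dvd_pow_self p hn.ne')
  rw [← Subgroup.orderOf_coe] at hz
  set Z : Subgroup G := Subgroup.zpowers (z : G) with hZ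
  have hZP : Z ≤ P := Subgroup.zpowers_le.2 z.2
  have hZc : Nat.card Z = p := by rw [hZ, Nat.card_zpowers, hz]
  have huniq : ∀ g ∈ Subgroup.normalizer (P : Set G), g * (z : G) * g⁻¹ ∈ Z := by
    intro g hg
    obtain ⟨a, ha⟩ := Subgroup.mem_zpowers_iff.1
      (hu ▸ (Subgroup.mem_normalizer_iff.1 hg u).1 huP : g * u * g⁻¹ ∈ Subgroup.zpowers u)
    obtain ⟨j, hj⟩ := Subgroup.mem_zpowers_iff.1 (hu ▸ z.2 : (z : G) ∈ Subgroup.zpowers u)
    refine Subgroup.mem_zpowers_iff.2 ⟨a, ?_⟩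
    rw [← hj, ← zpow_mul, mul_comm, zpow_mul, ha, conj_zpow]
  have hTZ : T ≤ Subgroup.normalizer (Z : Set G) := by
    refine fun g hg => Subgroup.mem_normalizer_iff_map_conj_eq.2 ?_
    refine Subgroup.eq_of_le_of_card_ge ?_ (Subgroup.card_map_of_injective
      (MulAut.conj g).injective).ge
    rw [hZ, MonoidHom.map_zpowers, Subgroup.zpowers_le]
    exact huniq g (hTN hg)
  set ψ : T →* MulAut Z := (Z.normalizerMonoidHom).comp (Subgroup.inclusion hTZ)
  have hker : ψ.ker = (cz P).subgroupOf T := by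
    ext g
    rw [MonoidHom.mem_ker, MonoidHom.comp_apply, ← MonoidHom.mem_ker,
      Subgroup.normalizerMonoidHom_ker]
    simp only [Subgroup.mem_subgroupOf, Subgroup.coe_inclusion]
    refine ⟨fun h => hfree g g.2 z z.2 (fun h1 => hp.ne_one (by rw [← hz, h1, orderOf_one])) ?_,
      fun h => Subgroup.centralizer_le hZP h⟩
    rw [← Subgroup.mem_centralizer_iff.1 h z (Subgroup.mem_zpowers _), mul_inv_cancel_right]
  have : IsCyclic Z := Subgroup.isCyclic_iff_exists_zpowers_eq_top _ |>.2 ⟨_, rfl⟩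
  let e : MulAut Z ≃* (ZMod (Nat.card Z))ˣ := IsCyclic.mulAutMulEquiv Z
  have : Fact (Nat.card Z).Prime := ⟨hZc.symm ▸ hp⟩
  have hcycA : IsCyclic (MulAut Z) := isCyclic_of_surjective e.symm.toMonoidHom e.symm.surjective
  set q : T ⧸ (cz P).subgroupOf T →* MulAut Z :=
    (QuotientGroup.kerLift ψ).comp (QuotientGroup.quotientMulEquivOfEq hker.symm).toMonoidHom
  have hq : Function.Injective q :=
    (QuotientGroup.kerLift_injective ψ).comp (MulEquiv.injective _)
  refine ⟨isCyclic_of_injective q hq, ?_, hfree⟩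
  have h := Subgroup.card_dvd_of_injective q hq
  rw [Nat.card_congr e.toEquiv, Nat.card_units, Nat.card_zmod, hZc] at h
  simpa [Subgroup.relIndex, Subgroup.index] using h

end Cfsg.Agent.S4633
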