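import Cfsg.Statements.S4937
import Cfsg.Agent.Lib.Blk4.AlperinDade
import Cfsg.Agent.Lib.Blocks.DefectZeroVanish

set_option autoImplicit false
open Cfsg

namespace Cfsg.Agent.S4937

open CfsgLib.Characters CfsgLib.Blocks CfsgLib.PrincipalSq CfsgLib.Blk4.AlperinDade
open scoped ComplexConjugate

universe u

variable {p : ℕ} {M : Ideal AlgInt}

/-- Two extensions of an irreducible character differ by a linear character. -/
theorem twist_of_extensions {A : Type u} [Group A] [Finite A] (N : Subgroup A) [N.Normal]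
    {θ : N → ℂ} (hθ : IsIrrCharacter N θ) (φ ψ : IrrCharacter A)
    (hφ : ∀ n : N, (φ : A → ℂ) n = θ n) (hψ : ∀ n : N, (ψ : A → ℂ) n = θ n) :
    ∃ α : A →* ℂˣ, (∀ n : N, α n = 1) ∧ ∀ x, (ψ : A → ℂ) x = (α x : ℂ) * (φ : A → ℂ) x := by
  obtain ⟨d, ρ, hρ, rfl⟩ := hθ
  haveI := hρ
  obtain ⟨s, hs, hsφ⟩ := CfsgLib.CharExtension.exists_hom_of_char_top N ρ (irr_isCharacter φ) hφ
  obtain ⟨t, ht, htψ⟩ := CfsgLib.CharExtension.exists_hom_of_char_top N ρ (irr_isCharacter ψ) hψ
  obtain ⟨α, hα, hαN⟩ := CfsgLib.CharExtension.exists_twist N ρ hs ht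
  refine ⟨α, hαN, fun x => ?_⟩
  rw [← hsφ, ← htψ]
  show LinearMap.trace ℂ _ ((t x : _) : Module.End ℂ (Fin d → ℂ)) =
    (α x : ℂ) * LinearMap.trace ℂ _ ((s x : _) : Module.End ℂ (Fin d → ℂ))
  rw [hα x, Units.val_mul]
  show LinearMap.trace ℂ _ (algebraMap ℂ (Module.End ℂ (Fin d → ℂ)) (α x : ℂ) * _) = _
  rw [Algebra.algebraMap_eq_smul_one, smul_mul_assoc, one_mul, map_smul, smul_eq_mul]

/-- Roots of unity of order prime to `p` with congruent values are equal. -/
theorem root_unique (hM : IsPModular p M) {m : ℕ} (hm : ¬ p ∣ m) {r ω ω' : ℂ} (hω : ω ^ m = 1)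
    (hω' : ω' ^ m = 1) (h : MemLocalIdeal M (r - ω)) (h' : MemLocalIdeal M (r - ω')) : ω = ω' := by
  have hm0 : m ≠ 0 := fun h0 => hm (by rw [h0]; exact dvd_zero p)
  have hω0 : ω' ≠ 0 := fun h0 => by rw [h0, zero_pow hm0] at hω'; exact zero_ne_one hω'
  have hinv : IsIntegral ℤ ω'⁻¹ :=
    IsIntegral.of_pow (Nat.pos_of_ne_zero hm0) (by rw [inv_pow, hω', inv_one]; exact isIntegral_one)
  have h1 := MemLocalIdeal.mul_left hM (x := ω'⁻¹) (isIntegral_mem_lRing hM hinv)
    (MemLocalIdeal.sub hM h' h)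
  have h2 := eq_one_of_congr hM hm (z := ω'⁻¹ * ω) (by rw [mul_pow, hω, inv_pow, hω', inv_one, mul_one])
    (by convert h1 using 1; field_simp; ring)
  rw [inv_mul_eq_one₀ hω0] at h2
  exact h2.symm

theorem main {G : Type u} [Group G] [Finite G] [Fact p.Prime] (hM : IsPModular p M) (N : Subgroup G)
    [N.Normal] (P : Sylow p N)
    (hcov : N ⊔ Subgroup.centralizer (((P : Subgroup N).map N.subtype : Subgroup G) : Set G) = ⊤)
    (θ : IrrCharacter N) (hθ : θ ∈ principalBlock M N)
    (hext : ∃ ψ : IrrCharacter G, ∀ x : N, (ψ : G → ℂ) x = (θ : N → ℂ) x) :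
    ∃ χ : IrrCharacter G, χ ∈ principalBlock M G ∧ (∀ x : N, (χ : G → ℂ) x = (θ : N → ℂ) x) ∧
      ∀ J : Subgroup G, N ≤ J → ∃ ξ : IrrCharacter J, ξ ∈ principalBlock M J ∧
        ∀ y : J, (ξ : J → ℂ) y = (χ : G → ℂ) y := by
  classical
  haveI := Fintype.ofFinite G
  haveI := Fintype.ofFinite N
  have hp : p.Prime := Fact.out
  set Pc : Subgroup G := (P : Subgroup N).map N.subtype with hPc
  set C := Subgroup.centralizer (Pc : Set G) with hC
  obtain ⟨ψ, hψ⟩ := hext
  have hd : (θ : N → ℂ) 1 ≠ 0 := irr_one_ne_zero θ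
  set d : ℂ := (θ : N → ℂ) 1 with hddef
  set m : ℕ := N.index / p ^ N.index.factorization p with hm
  have hN0 : N.index ≠ 0 := Subgroup.index_ne_zero_of_finite
  have hmp : ¬ p ∣ m := Nat.not_dvd_ordCompl hp hN0
  -- lifts
  have hlift : ∀ x : G ⧸ N, ∃ z ∈ C, (z : G ⧸ N) = x := by
    intro x
    induction x using QuotientGroup.induction_on with
    | _ g =>
      obtain ⟨n, hn, z, hz, rfl⟩ :=
        Subgroup.mem_sup_of_normal_left.1 (hcov ▸ Subgroup.mem_top g : g ∈ N ⊔ C)
      exact ⟨z, hz, by rw [QuotientGroup.mk_mul, (QuotientGroup.eq_one_iff n).2 hn, one_mul]⟩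
  -- class sizes above `N`
  have hPJ : ∀ (J : Subgroup G), N ≤ J → ¬ p ∣ N.relIndex J → ∀ z : J, (z : G) ∈ C →
      ¬ p ∣ (Subgroup.centralizer ({z} : Set J)).index := by
    intro J hNJ hJ z hz hdvd
    have hle : Pc.subgroupOf J ≤ Subgroup.centralizer ({z} : Set J) := fun y hy => by
      rw [Subgroup.mem_centralizer_singleton_iff]
      exact Subtype.ext (Subgroup.mem_centralizer_iff.1 hz y hy)
    have h1 : p ∣ Pc.relIndex J := hdvd.trans (Subgroup.index_dvd_of_le hle)
    have hPN : Pc ≤ N := Subgroup.map_subtype_le _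
    rw [← Subgroup.relIndex_mul_relIndex Pc N J hPN hNJ] at h1
    rcases hp.dvd_mul.1 h1 with h2 | h2
    · refine P.not_dvd_index ?_
      rwa [hPc, Subgroup.relIndex, Subgroup.subgroupOf,
        Subgroup.comap_map_eq_self_of_injective N.subtype_injective] at h2
    · exact hJ h2
  -- canonical extensions to overgroups of `p'` index
  have hcan : ∀ (J : Subgroup G), N ≤ J → ¬ p ∣ N.relIndex J → ∃ F : IrrCharacter J,
      F ∈ principalBlock M J ∧ (∀ (x : J) (h : (x : G) ∈ N), (F : J → ℂ) x = (θ : N → ℂ) ⟨x, h⟩) ∧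
      ∀ z : J, (z : G) ∈ C → Congr1 M (F : J → ℂ) z := by
    intro J hNJ hJ
    haveI := Fintype.ofFinite J
    haveI := Fintype.ofFinite (N.subgroupOf J)
    obtain ⟨θ', hθ', hθ'v⟩ := principal_subgroupOf (K := J) hNJ θ hθ
    have hgood : Good p (N.subgroupOf J) := by
      intro c
      obtain ⟨z, hz, hzc⟩ := hlift (c : G)
      have hcz : (c : G)⁻¹ * z ∈ N := QuotientGroup.eq.1 hzc.symm
      have hzJ : z ∈ J := by
        have := J.mul_mem c.2 (hNJ hcz)
        rwa [mul_inv_cancel_left] at this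
      exact ⟨⟨z, hzJ⟩, hcz, hPJ J hNJ hJ ⟨z, hzJ⟩ hz⟩
    obtain ⟨F, hF, hFv⟩ := exists_extension hM (N.subgroupOf J) hJ hgood θ' hθ'
    exact ⟨F, hF, fun x h => (hFv ⟨x, h⟩).trans (hθ'v ⟨x, h⟩),
      fun z hz => congr_of_principal hM F hF (hPJ J hNJ hJ z hz)⟩
  -- the local linear characters
  have hloc : ∀ (S : Subgroup (G ⧸ N)), ¬ p ∣ Nat.card S → ∃ α : S →* ℂˣ,
      ∀ (x : S) (z : G), z ∈ C → (z : G ⧸ N) = x →
        MemLocalIdeal M ((ψ : G → ℂ) z / d - (α x : ℂ)) := by
    intro S hS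
    let J : Subgroup G := S.comap (QuotientGroup.mk' N)
    have hNJ : N ≤ J := fun g hg => by
      change QuotientGroup.mk' N g ∈ S
      rw [QuotientGroup.mk'_apply, (QuotientGroup.eq_one_iff g).2 hg]
      exact S.one_mem
    let π : J →* S := ((QuotientGroup.mk' N).comp J.subtype).codRestrict S fun y => y.2
    have hπ : Function.Surjective π := by
      rintro ⟨x, hx⟩
      obtain ⟨g, rfl⟩ := QuotientGroup.mk_surjective x
      exact ⟨⟨g, hx⟩, rfl⟩
    have hker : π.ker = N.subgroupOf J := by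
      ext y
      rw [MonoidHom.mem_ker, Subgroup.mem_subgroupOf, ← QuotientGroup.eq_one_iff]
      exact Subtype.ext_iff
    have hJ : ¬ p ∣ N.relIndex J := by
      rwa [Subgroup.relIndex, ← hker, Subgroup.index_ker, MonoidHom.range_eq_top.2 hπ,
        Subgroup.card_top]
    obtain ⟨F, -, hFv, hFc⟩ := hcan J hNJ hJ
    haveI := Fintype.ofFinite (N.subgroupOf J)
    have hθ' : IsIrrCharacter (N.subgroupOf J) ((θ : N → ℂ) ∘ Subgroup.subgroupOfEquivOfLe hNJ) :=
      CfsgLib.CharCorr.isIrrCharacter_comp_equiv θ.2 _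
    have hψJ : IsIrrCharacter J (fun y : J => (ψ : G → ℂ) y) := by
      refine CfsgLib.CharExtension.isIrrCharacter_of_restrict (N.subgroupOf J)
        (CfsgLib.Clifford.isCharacter_subtype (irr_isCharacter ψ) J) ?_
      rw [show (fun n : N.subgroupOf J => (ψ : G → ℂ) ((n : J) : G)) =
        (θ : N → ℂ) ∘ Subgroup.subgroupOfEquivOfLe hNJ from funext fun n => hψ ⟨_, n.2⟩]
      exact hθ'
    obtain ⟨α, hαN, hα⟩ := twist_of_extensions (N.subgroupOf J) hθ' F ⟨_, hψJ⟩
      (fun n => hFv n n.2) (fun n => hψ ⟨_, n.2⟩)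
    let αS : S →* ℂˣ := π.liftOfRightInverse _ (Function.rightInverse_surjInv hπ)
      ⟨α, fun y hy => MonoidHom.mem_ker.2 (hαN ⟨y, hker ▸ hy⟩)⟩
    refine ⟨αS, fun x z hz hzx => ?_⟩
    have hzJ : z ∈ J := by
      change QuotientGroup.mk' N z ∈ S
      rw [QuotientGroup.mk'_apply, hzx]
      exact x.2
    have hαS : αS x = α ⟨z, hzJ⟩ := by
      rw [show x = π ⟨z, hzJ⟩ from Subtype.ext hzx.symm]
      exact MonoidHom.liftOfRightInverse_comp_apply π _ _ _ _
    have hint : IsIntegral ℤ ((α ⟨z, hzJ⟩ : ℂˣ) : ℂ) :=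
      IsIntegral.of_pow (orderOf_pos (⟨z, hzJ⟩ : J)) (by
        rw [← Units.val_pow_eq_pow_val, ← map_pow, pow_orderOf_eq_one, map_one, Units.val_one]
        exact isIntegral_one)
    have h1 := MemLocalIdeal.mul_left hM (isIntegral_mem_lRing hM hint) (hFc ⟨z, hzJ⟩ hz)
    have hF1 : (F : J → ℂ) 1 = d := hFv 1 N.one_mem
    rw [hαS]
    convert h1 using 1
    rw [hF1, show (ψ : G → ℂ) z = _ from hα ⟨z, hzJ⟩]
    ring
  have hpowm : ∀ (S : Subgroup (G ⧸ N)), ¬ p ∣ Nat.card S → ∀ x : S, x ^ m = 1 := by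
    intro S hS x
    rw [← orderOf_dvd_iff_pow_eq_one]
    refine Nat.Coprime.dvd_of_dvd_mul_left (k := orderOf x)
      (m := p ^ N.index.factorization p) ?_ ?_
    · exact (Nat.Coprime.pow_left _ (hp.coprime_iff_not_dvd.2 fun h =>
        hS (h.trans (orderOf_dvd_natCard x)))).symm
    · rw [hm, Nat.mul_div_cancel' (Nat.ordProj_dvd _ _), Subgroup.index_eq_card, ← Subgroup.orderOf_coe]
      exact orderOf_dvd_natCard _
  -- the function on `p'`-elements
  have hex : ∀ x : G ⧸ N, ∃ ω : ℂ, x ^ m = 1 → (ω ^ m = 1 ∧ ∀ z : G, z ∈ C → (z : G ⧸ N) = x →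
      MemLocalIdeal M ((ψ : G → ℂ) z / d - ω)) := by
    intro x
    by_cases hx : x ^ m = 1
    · have hS : ¬ p ∣ Nat.card (Subgroup.zpowers x) := by
        rw [Nat.card_zpowers]
        exact fun h => hmp (h.trans (orderOf_dvd_of_pow_eq_one hx))
      obtain ⟨α, hα⟩ := hloc _ hS
      refine ⟨(α ⟨x, Subgroup.mem_zpowers x⟩ : ℂ), fun _ => ⟨?_, fun z hz hzx => hα _ z hz hzx⟩⟩
      rw [← Units.val_pow_eq_pow_val, ← map_pow, hpowm _ hS, map_one, Units.val_one]
    · exact ⟨1, fun h => absurd h hx⟩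
  choose a ha using hex
  have ha_eq : ∀ x : G ⧸ N, x ^ m = 1 → ∀ ω : ℂ, ω ^ m = 1 → ∀ z : G, z ∈ C → (z : G ⧸ N) = x →
      MemLocalIdeal M ((ψ : G → ℂ) z / d - ω) → a x = ω := fun x hx ω hω z hz hzx h =>
    root_unique hM hmp (ha x hx).1 hω ((ha x hx).2 z hz hzx) h
  have ha_S : ∀ (S : Subgroup (G ⧸ N)), ¬ p ∣ Nat.card S → ∀ (α : S →* ℂˣ),
      (∀ (x : S) (z : G), z ∈ C → (z : G ⧸ N) = x →
        MemLocalIdeal M ((ψ : G → ℂ) z / d - (α x : ℂ))) → ∀ x : S, a x = (α x : ℂ) := by
    intro S hS α hα x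
    obtain ⟨z, hz, hzx⟩ := hlift (x : G ⧸ N)
    refine ha_eq x (by rw [← Subgroup.coe_pow, hpowm S hS x, Subgroup.coe_one]) _ ?_ z hz hzx
      (hα x z hz hzx)
    rw [← Units.val_pow_eq_pow_val, ← map_pow, hpowm S hS, map_one, Units.val_one]
  have ha1 : a 1 = 1 := ha_eq 1 (one_pow m) 1 (one_pow m) 1 C.one_mem (QuotientGroup.mk_one N) (by
    rw [show (ψ : G → ℂ) 1 = d from hψ 1, div_self hd, sub_self]
    exact memLocalIdeal_zero hM)
  -- the exponent
  obtain ⟨k, hk0, hk1⟩ : ∃ k, p ^ N.index.factorization p ∣ k ∧ k ≡ 1 [MOD m] := by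
    have hco : Nat.Coprime (p ^ N.index.factorization p) m :=
      Nat.Coprime.pow_left _ (hp.coprime_iff_not_dvd.2 hmp)
    obtain ⟨k, h1, h2⟩ := Nat.chineseRemainder hco 0 1
    exact ⟨k, Nat.modEq_zero_iff_dvd.1 h1, h2⟩
  have hkreg : ∀ y : G ⧸ N, (y ^ k) ^ m = 1 := fun y => by
    rw [← pow_mul]
    have hcard : Nat.card (G ⧸ N) ∣ k * m := by
      rw [← Subgroup.index_eq_card]
      conv_lhs => rw [← Nat.mul_div_cancel' (Nat.ordProj_dvd N.index p)]
      exact mul_dvd_mul_right hk0 m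
    exact orderOf_dvd_iff_pow_eq_one.1 ((orderOf_dvd_natCard y).trans hcard)
  have hkfix : ∀ y : G ⧸ N, y ^ m = 1 → y ^ k = y := fun y hy => by
    conv_rhs => rw [← pow_one y]
    exact pow_eq_pow_iff_modEq.2 (hk1.of_dvd (orderOf_dvd_of_pow_eq_one hy))
  haveI := Fintype.ofFinite (G ⧸ N)
  let f : G ⧸ N → ℂ := fun y => a (y ^ k)
  have hfc : IsClassFunction (G ⧸ N) f := by
    intro y g
    show a ((g * y * g⁻¹) ^ k) = a (y ^ k)
    rw [conj_pow]
    obtain ⟨c, hc, rfl⟩ := hlift g
    obtain ⟨z, hz, hzy⟩ := hlift (y ^ k)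
    have hreg : ((c : G ⧸ N) * y ^ k * (c : G ⧸ N)⁻¹) ^ m = 1 := by
      rw [conj_pow, hkreg, mul_one, mul_inv_cancel]
    refine ha_eq _ hreg _ (ha _ (hkreg y)).1 (c * z * c⁻¹) (C.mul_mem (C.mul_mem hc hz) (C.inv_mem hc))
      (by rw [QuotientGroup.mk_mul, QuotientGroup.mk_mul, QuotientGroup.mk_inv, hzy]) ?_
    rw [irr_isClassFunction ψ z c]
    exact (ha _ (hkreg y)).2 z hz hzy
  have hgen : IsGeneralizedCharacter (G ⧸ N) f := by
    refine CfsgLib.Brauer.isGeneralizedCharacter_of_restrictions hfc fun E q hq hE => ?_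
    obtain ⟨S, hScard, hmem, ⟨i, hi⟩, -⟩ := CfsgLib.DefectZeroVanish.elementary_split (p := p) hq hE
    haveI hSn : S.Normal := ⟨fun s hs g => by
      rw [hmem] at hs ⊢
      rwa [show orderOf (g * s * g⁻¹) = orderOf s from (MulAut.conj g).orderOf_eq s]⟩
    let S' : Subgroup (G ⧸ N) := S.map E.subtype
    have hS' : ¬ p ∣ Nat.card S' := by rwa [Subgroup.card_map_of_injective E.subtype_injective]
    obtain ⟨α, hα⟩ := hloc S' hS'
    let g : S →* ℂˣ := α.comp (S.equivMapOfInjective E.subtype E.subtype_injective).toMonoidHom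
    have hg : ∀ s : S, a ((s : E) : G ⧸ N) = (g s : ℂ) := fun s => by
      have := ha_S S' hS' α hα (S.equivMapOfInjective E.subtype E.subtype_injective s)
      rwa [Subgroup.coe_equivMapOfInjective_apply] at this
    have hginv : CfsgLib.LinearExt.InvHom S g := by
      intro x s
      refine Units.ext ?_
      rw [← hg, ← hg]
      have hs : ((s : E) : G ⧸ N) ^ m = 1 := by
        have := hpowm S' hS' (S.equivMapOfInjective E.subtype E.subtype_injective s)
        exact congrArg Subtype.val this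
      have h1 := hfc ((s : E) : G ⧸ N) (x : G ⧸ N)
      simp only [f] at h1
      rw [hkfix _ hs, hkfix _ (by rw [conj_pow, hs, mul_one, mul_inv_cancel])] at h1
      simpa using h1
    have hSco : Nat.Coprime S.index (Nat.card S) := by
      rw [hi]
      exact Nat.Coprime.pow_left i (hp.coprime_iff_not_dvd.2 hScard)
    obtain ⟨μ, hμ⟩ := CfsgLib.LinearExt.extends_of_coprime hSco
      (CfsgLib.LinearExt.powExtends_index hginv le_rfl g fun _ => rfl)
      (CfsgLib.LinearExt.powExtends_of_pow_eq_one (MonoidHom.ext fun s => by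
        rw [MonoidHom.pow_apply, ← map_pow, pow_card_eq_one', map_one, MonoidHom.one_apply]))
    have hfE : (fun e : E => f e) = fun e => ((μ ^ k) e : ℂ) := by
      funext e
      have heS : e ^ k ∈ S := by
        rw [hmem, ← Subgroup.orderOf_coe, Subgroup.coe_pow]
        exact fun h => hmp (h.trans (orderOf_dvd_of_pow_eq_one (hkreg _)))
      show a ((e : G ⧸ N) ^ k) = _
      rw [MonoidHom.pow_apply, ← map_pow, show μ (e ^ k) = g ⟨_, heS⟩ from hμ ⟨_, heS⟩, ← hg]
      rfl
    rw [hfE]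
    exact isGeneralizedCharacter_of_isCharacter (isCharacter_of_irr (isIrrCharacter_of_hom _))
  have hnorm : classInner f f = 1 := by
    have hm0 : m ≠ 0 := fun h0 => hmp (by rw [h0]; exact dvd_zero p)
    have h1 : ∀ y, f y * conj (f y) = 1 := fun y => by
      rw [Complex.mul_conj, Complex.normSq_eq_norm_sq,
        Complex.norm_eq_one_of_pow_eq_one (ha _ (hkreg y)).1 hm0]
      simp
    unfold classInner
    rw [Finset.sum_congr rfl fun y _ => h1 y, Finset.sum_const, Finset.card_univ,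
      ← Nat.card_eq_fintype_card, nsmul_one, inv_mul_cancel₀ (Nat.cast_ne_zero.2 Nat.card_pos.ne')]
  have hf1 : f 1 = 1 := by simp only [f, one_pow, ha1]
  have hfirr : IsIrrCharacter (G ⧸ N) f :=
    isIrrCharacter_of_generalized_norm_one hgen hnorm (by rw [hf1]; simp)
  obtain ⟨lam, hlam⟩ := CfsgLib.LinearExt.exists_unitsHom (isCharacter_of_irr hfirr) hf1
  let l : G →* ℂˣ := (lam.comp (QuotientGroup.mk' N))⁻¹
  let χ : IrrCharacter G := ⟨_, CfsgLib.LinearTwist.isIrr_mul_hom ψ.2 l⟩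
  have hχv : ∀ g : G, (χ : G → ℂ) g = (ψ : G → ℂ) g * (f (g : G ⧸ N))⁻¹ := fun g => by
    show (ψ : G → ℂ) g * ((l g : ℂˣ) : ℂ) = _
    rw [hlam]
    simp [l]
  have hχN : ∀ n : N, (χ : G → ℂ) n = (θ : N → ℂ) n := fun n => by
    rw [hχv, (QuotientGroup.eq_one_iff (n : G)).2 n.2, hf1, inv_one, mul_one, hψ]
  have hχcan : ∀ z : G, z ∈ C → ((z : G ⧸ N)) ^ m = 1 →
      MemLocalIdeal M ((χ : G → ℂ) z / d - 1) := by
    intro z hz hzm
    obtain ⟨hω, hω'⟩ := ha (z : G ⧸ N) hzm
    have hm0 : m ≠ 0 := fun h0 => hmp (by rw [h0]; exact dvd_zero p)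
    have hne : a (z : G ⧸ N) ≠ 0 := fun h0 => by
      rw [h0, zero_pow hm0] at hω; exact zero_ne_one hω
    have hinv : IsIntegral ℤ (a (z : G ⧸ N))⁻¹ :=
      IsIntegral.of_pow (Nat.pos_of_ne_zero hm0) (by rw [inv_pow, hω, inv_one]; exact isIntegral_one)
    have h1 := MemLocalIdeal.mul_left hM (isIntegral_mem_lRing hM hinv) (hω' z hz rfl)
    convert h1 using 1
    rw [hχv]
    simp only [f, hkfix _ hzm]
    field_simp
  -- membership in the principal blocks
  have hblock : ∀ J : Subgroup G, N ≤ J → ∃ ξ : IrrCharacter J, ξ ∈ principalBlock M J ∧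
      ∀ y : J, (ξ : J → ℂ) y = (χ : G → ℂ) y := by
    intro J hNJ
    haveI := Fintype.ofFinite J
    haveI := Fintype.ofFinite (N.subgroupOf J)
    have hirr : ∀ (L : Subgroup G) (hNL : N ≤ L), IsIrrCharacter L (fun y : L => (χ : G → ℂ) y) := by
      intro L hNL
      haveI := Fintype.ofFinite (N.subgroupOf L)
      refine CfsgLib.CharExtension.isIrrCharacter_of_restrict (N.subgroupOf L)
        (CfsgLib.Clifford.isCharacter_subtype (irr_isCharacter χ) L) ?_
      rw [show (fun n : N.subgroupOf L => (χ : G → ℂ) ((n : L) : G)) =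
        (θ : N → ℂ) ∘ Subgroup.subgroupOfEquivOfLe hNL from funext fun n => hχN ⟨_, n.2⟩]
      exact CfsgLib.CharCorr.isIrrCharacter_comp_equiv θ.2 _
    let ξ : IrrCharacter J := ⟨_, hirr J hNJ⟩
    refine ⟨ξ, ?_, fun y => rfl⟩
    have hξ1 : (ξ : J → ℂ) 1 = d := hχN 1
    set B := principalBlock M J with hB
    have hBb : IsPBlock M B := isPBlock_principalBlock M
    -- the contribution of each coset
    have hcoset : ∀ x : G ⧸ N, MemLocalIdeal M
        (∑ g ∈ Finset.univ.filter (fun g : J => ((g : G) : G ⧸ N) = x),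
          blockCoeff B g * ((ξ : J → ℂ) g / d - 1)) := by
      intro x
      by_cases hx : x ^ m = 1 ∧ x ∈ J.map (QuotientGroup.mk' N)
      · obtain ⟨hxm, hxJ⟩ := hx
        let L : Subgroup G := (Subgroup.zpowers x).comap (QuotientGroup.mk' N)
        have hNL : N ≤ L := fun g hg => by
          change QuotientGroup.mk' N g ∈ Subgroup.zpowers x
          rw [QuotientGroup.mk'_apply, (QuotientGroup.eq_one_iff g).2 hg]
          exact one_mem _
        have hLJ : L ≤ J := by
          intro g hg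
          have h1 : QuotientGroup.mk' N g ∈ J.map (QuotientGroup.mk' N) :=
            (Subgroup.zpowers_le.2 hxJ) hg
          obtain ⟨j, hj, hjg⟩ := h1
          have h2 : j⁻¹ * g ∈ N := QuotientGroup.eq.1 hjg
          have := J.mul_mem hj (hNJ h2)
          rwa [mul_inv_cancel_left] at this
        haveI := Fintype.ofFinite L
        haveI := Fintype.ofFinite (N.subgroupOf L)
        have hLm : ∀ y : G, y ∈ L → (y : G ⧸ N) ^ m = 1 := fun y hy => by
          obtain ⟨i, hi⟩ := Subgroup.mem_zpowers_iff.1 hy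
          rw [show (y : G ⧸ N) = x ^ i from hi.symm, ← zpow_natCast, zpow_comm, zpow_natCast, hxm,
            one_zpow]
        let π : L →* Subgroup.zpowers x :=
          ((QuotientGroup.mk' N).comp L.subtype).codRestrict _ fun y => y.2
        have hπ : Function.Surjective π := by
          rintro ⟨y, hy⟩
          obtain ⟨g, rfl⟩ := QuotientGroup.mk_surjective y
          exact ⟨⟨g, hy⟩, rfl⟩
        have hker : π.ker = N.subgroupOf L := by
          ext y
          rw [MonoidHom.mem_ker, Subgroup.mem_subgroupOf, ← QuotientGroup.eq_one_iff]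
          exact Subtype.ext_iff
        have hL : ¬ p ∣ N.relIndex L := by
          rw [Subgroup.relIndex, ← hker, Subgroup.index_ker, MonoidHom.range_eq_top.2 hπ,
            Subgroup.card_top, Nat.card_zpowers]
          exact fun h => hmp (h.trans (orderOf_dvd_of_pow_eq_one hxm))
        obtain ⟨F, hF, hFv, hFc⟩ := hcan L hNL hL
        have hθ' : IsIrrCharacter (N.subgroupOf L) ((θ : N → ℂ) ∘ Subgroup.subgroupOfEquivOfLe hNL) :=
          CfsgLib.CharCorr.isIrrCharacter_comp_equiv θ.2 _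
        have hEq : F = ⟨_, hirr L hNL⟩ := by
          refine eq_of_congr hM (N.subgroupOf L) hL hθ' F ⟨_, hirr L hNL⟩ (fun n => hFv n n.2)
            (fun n => hχN ⟨_, n.2⟩) fun c => ?_
          obtain ⟨z, hz, hzc⟩ := hlift (c : G)
          have hcz : (c : G)⁻¹ * z ∈ N := QuotientGroup.eq.1 hzc.symm
          have hzL : z ∈ L := by
            have := L.mul_mem c.2 (hNL hcz)
            rwa [mul_inv_cancel_left] at this
          refine ⟨⟨z, hzL⟩, hcz, hFc ⟨z, hzL⟩ hz, ?_⟩
          have h1 := hχcan z hz (hLm z hzL)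
          rwa [← show (χ : G → ℂ) ((1 : L) : G) = d from hχN 1] at h1
        let u : L → ℂ := fun y =>
          if ((y : G) : G ⧸ N) = x then blockCoeff B ⟨y, hLJ y.2⟩ else 0
        have hu : IsClassFunction L u := by
          intro y b
          obtain ⟨i, hi⟩ := Subgroup.mem_zpowers_iff.1 y.2
          obtain ⟨j, hj⟩ := Subgroup.mem_zpowers_iff.1 b.2
          have hco : (((b * y * b⁻¹ : L) : G) : G ⧸ N) = ((y : G) : G ⧸ N) := by
            simp only [Subgroup.coe_mul, Subgroup.coe_inv, QuotientGroup.mk_mul, QuotientGroup.mk_inv]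
            rw [show ((y : G) : G ⧸ N) = x ^ i from hi.symm,
              show ((b : G) : G ⧸ N) = x ^ j from hj.symm,
              ((Commute.refl x).zpow_zpow j i).eq, mul_inv_cancel_right]
          simp only [u, hco]
          split_ifs
          · exact blockCoeff_conj B (⟨y, hLJ y.2⟩ : J) (⟨b, hLJ b.2⟩ : J)
          · rfl
        have huR : ∀ y, MemLocalRing M (u y) := fun y => by
          simp only [u]
          split_ifs
          · exact memLocalRing_blockCoeff hM hBb _
          · exact (lRing hM).zero_mem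
        have h1 := CfsgLib.BlockCover.omega_congr hM (χ := principalIrr L) (ψ := F) hF hu huR
        have h2 : ∑ g ∈ Finset.univ.filter (fun g : J => ((g : G) : G ⧸ N) = x),
            blockCoeff B g * ((ξ : J → ℂ) g / d - 1) =
            ∑ y : L, u y * ((χ : G → ℂ) y / d - 1) := by
          simp only [u, ite_mul, zero_mul]
          rw [← Finset.sum_filter]
          refine Finset.sum_bij' (fun g hg => (⟨(g : G), by
              change QuotientGroup.mk' N (g : G) ∈ Subgroup.zpowers x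
              rw [QuotientGroup.mk'_apply, (Finset.mem_filter.1 hg).2]
              exact Subgroup.mem_zpowers x⟩ : L))
            (fun y _ => (⟨(y : G), hLJ y.2⟩ : J)) (fun g hg => ?_) (fun y hy => ?_)
            (fun g _ => rfl) (fun y _ => rfl) (fun g _ => rfl)
          · exact Finset.mem_filter.2 ⟨Finset.mem_univ _, (Finset.mem_filter.1 hg).2⟩
          · exact Finset.mem_filter.2 ⟨Finset.mem_univ _, (Finset.mem_filter.1 hy).2⟩
        rw [h2]
        have h3 : MemLocalIdeal M ((∑ y : L, u y * (χ : G → ℂ) y) / d - ∑ y : L, u y) := by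
          rw [hEq] at h1
          have h4 : (χ : G → ℂ) ((1 : L) : G) = d := hχN 1
          simp only [principalIrr_apply, mul_one, div_one] at h1
          rw [h4] at h1
          have h5 := MemLocalIdeal.neg hM h1
          rwa [neg_sub] at h5
        convert h3 using 1
        rw [Finset.sum_div, ← Finset.sum_sub_distrib]
        exact Finset.sum_congr rfl fun y _ => by ring
      · refine MemLocalIdeal.sum hM _ fun g hg => ?_
        have hgx := (Finset.mem_filter.1 hg).2
        have hxJ : x ∈ J.map (QuotientGroup.mk' N) := ⟨(g : G), g.2, hgx⟩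
        have hsing : p ∣ orderOf g := by
          by_contra hnd
          refine hx ⟨?_, hxJ⟩
          rw [← hgx]
          have hnd' : ¬ p ∣ Nat.card (Subgroup.zpowers ((g : G) : G ⧸ N)) := by
            rw [Nat.card_zpowers]
            exact fun h => hnd (Subgroup.orderOf_coe g ▸ h.trans (orderOf_map_dvd (QuotientGroup.mk' N) (g : G)))
          exact congrArg Subtype.val (hpowm _ hnd' ⟨_, Subgroup.mem_zpowers _⟩)
        rw [blockCoeff_eq_zero_of_singular hM hBb hsing, zero_mul]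
        exact memLocalIdeal_zero hM
    by_contra hne
    have htot : MemLocalIdeal M (∑ g : J, blockCoeff B g * ((ξ : J → ℂ) g / d - 1)) := by
      rw [← Finset.sum_fiberwise Finset.univ (fun g : J => ((g : G) : G ⧸ N))]
      exact MemLocalIdeal.sum hM _ fun x _ => hcoset x
    have hone := CfsgLib.BlockCover.sum_blockCoeff_mul B (principalIrr J)
    rw [if_pos (show principalIrr J ∈ B from CfsgLib.Blocks.mem_blockOf_self hM (principalIrr J))] at hone
    simp only [principalIrr_apply, mul_one, div_one] at hone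
    have hzero := CfsgLib.BlockCover.sum_blockCoeff_mul B ξ
    rw [if_neg hne, hξ1] at hzero
    refine not_memLocalIdeal_one hM ?_
    have h6 := MemLocalIdeal.neg hM htot
    convert h6 using 1
    simp only [mul_sub, mul_one, Finset.sum_sub_distrib, mul_div_assoc', ← Finset.sum_div]
    rw [hzero, hone]
    ring
  obtain ⟨ξ, hξB, hξv⟩ := hblock ⊤ le_top
  refine ⟨χ, ?_, hχN, hblock⟩
  intro g
  have h1 := CfsgLib.BlockCover.sameBlock_twistIrr (Subgroup.topEquiv (G := G)).symm
    (χ := principalIrr (⊤ : Subgroup G)) (ψ := ξ) hξB g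
  have h2 : (fun y : G => (ξ : (⊤ : Subgroup G) → ℂ) (Subgroup.topEquiv.symm y)) = (χ : G → ℂ) :=
    funext fun y => hξv _
  rw [← h2]
  exact h1


/-- Let G be a finite group, p a prime, M a maximal ideal of the algebraic integers containing p, N a normal subgroup of G and P a Sylow p-subgroup of N such that G = N·C_G(P). Let θ be an irreducible character in the principal p-block of N that is the restriction of some irreducible character of G. Then θ is the restriction of an irreducible character χ of G lying in the principal p-block of G such that, for every subgroup J of G containing N, the restriction of χ to J is an irreducible character of J lying in the principal p-block of J. -/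
theorem result {G : Type*} [Group G] [Finite G] (p : ℕ) [Fact p.Prime] (M : Ideal Cfsg.AlgInt) (hM : Cfsg.IsPModular p M) (N : Subgroup G) [N.Normal] (P : Sylow p ↥N)
    (hcov : N ⊔ Subgroup.centralizer (((P : Subgroup ↥N).map N.subtype : Subgroup G) : Set G) = ⊤)
    (θ : Cfsg.IrrCharacter ↥N) (hθ : θ ∈ Cfsg.principalBlock M ↥N)
    (hext : ∃ ψ : Cfsg.IrrCharacter G, ∀ x : ↥N, (ψ : G → ℂ) x = (θ : ↥N → ℂ) x) :
    ∃ χ : Cfsg.IrrCharacter G, χ ∈ Cfsg.principalBlock M G ∧ (∀ x : ↥N, (χ : G → ℂ) x = (θ : ↥N → ℂ) x) ∧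
      ∀ J : Subgroup G, N ≤ J → ∃ ξ : Cfsg.IrrCharacter ↥J, ξ ∈ Cfsg.principalBlock M ↥J ∧ ∀ y : ↥J, (ξ : ↥J → ℂ) y = (χ : G → ℂ) y := by
  exact main hM N P hcov θ hθ hext

end Cfsg.Agent.S4937
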