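import Cfsg.Statements.S3378
import Cfsg.Agent.Lib.Recognition.Icosahedral

set_option autoImplicit false
open Cfsg

namespace Cfsg.Agent.S3378

/-- The images of `x`, `y`, `z` in `SL(2,5)`. -/
def gx : Matrix.SpecialLinearGroup (Fin 2) (ZMod 5) :=
  ⟨!![0, -1; 1, -1], by decide +kernel⟩

/-- The image of `y`. -/
def gy : Matrix.SpecialLinearGroup (Fin 2) (ZMod 5) :=
  ⟨!![1, 1; 0, 1], by decide +kernel⟩

/-- The image of `z`. -/
def gz : Matrix.SpecialLinearGroup (Fin 2) (ZMod 5) :=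
  ⟨!![-1, 0; 0, -1], by decide +kernel⟩

/-- All elements as normal forms. -/
def elts : List (Matrix.SpecialLinearGroup (Fin 2) (ZMod 5)) :=
  (List.range 2).flatMap fun e => (List.range 5).flatMap fun k =>
    CfsgLib.Icosahedral.words.map fun w =>
      gz ^ e * (gy ^ k * CfsgLib.CosetCert.eval (fun i => if i = 0 then gx else gy) w)

/-- The entries of a matrix. -/
def quad (g : Matrix.SpecialLinearGroup (Fin 2) (ZMod 5)) : ZMod 5 × ZMod 5 × ZMod 5 × ZMod 5 :=
  (g.1 0 0, g.1 0 1, g.1 1 0, g.1 1 1)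

theorem quad_injective : Function.Injective quad := by
  intro g h e
  simp only [quad, Prod.mk.injEq] at e
  obtain ⟨h1, h2, h3, h4⟩ := e
  apply Subtype.ext
  ext i j
  fin_cases i <;> fin_cases j <;> assumption

theorem elts_check : (elts.map quad).Nodup ∧ (elts.map quad).length = 120 ∧
    ∀ a b c d : ZMod 5, a * d - b * c = 1 → (a, b, c, d) ∈ elts.map quad := by
  decide +kernel

theorem gens_check : gx ^ 3 = 1 ∧ gy ^ 5 = 1 ∧ gz ^ 2 = 1 ∧ gz * gx = gx * gz ∧ gz * gy = gy * gz ∧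
    (gx * gy) ^ 2 = gz := by
  decide +kernel

theorem mem_elts (g : Matrix.SpecialLinearGroup (Fin 2) (ZMod 5)) : g ∈ elts := by
  have h := elts_check.2.2 (g.1 0 0) (g.1 0 1) (g.1 1 0) (g.1 1 1)
    ((Matrix.det_fin_two g.1).symm.trans g.2)
  obtain ⟨g', hg', he⟩ := List.mem_map.1 h
  exact quad_injective (show quad g' = quad g from he) ▸ hg'

theorem card_ge : 120 ≤ Nat.card (Matrix.SpecialLinearGroup (Fin 2) (ZMod 5)) := by
  have h := elts_check
  have hnd : elts.Nodup := h.1.of_map _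
  have hl : elts.length = 120 := by have := h.2.1; rwa [List.length_map] at this
  have := Nat.card_le_card_of_injective (fun i : Fin elts.length => elts[i])
    (List.nodup_iff_injective_getElem.1 hnd)
  rw [Nat.card_fin] at this
  omega

/-- A group with binary icosahedral generators maps onto nothing bigger than `SL(2,5)`. -/
theorem presented_iso :
    Nonempty (PresentedGroup ({FreeGroup.of (0 : Fin 3) ^ 3, FreeGroup.of (1 : Fin 3) ^ 5, FreeGroup.of (2 : Fin 3) ^ 2,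
        (FreeGroup.of (2 : Fin 3))⁻¹ * FreeGroup.of 0 * FreeGroup.of 2 * (FreeGroup.of (0 : Fin 3))⁻¹,
        (FreeGroup.of (2 : Fin 3))⁻¹ * FreeGroup.of 1 * FreeGroup.of 2 * (FreeGroup.of (1 : Fin 3))⁻¹,
        (FreeGroup.of (0 : Fin 3) * FreeGroup.of 1) ^ 2 * (FreeGroup.of (2 : Fin 3))⁻¹} : Set (FreeGroup (Fin 3)))
      ≃* Matrix.SpecialLinearGroup (Fin 2) (ZMod 5)) ∧
    ∀ (G : Type*) [Group G] [Finite G] (x y z : G), Nat.card G = 120 → x ^ 3 = 1 → y ^ 5 = 1 →
      z ^ 2 = 1 → z * x = x * z → z * y = y * z → (x * y) ^ 2 = z →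
      Subgroup.closure ({x, y, z} : Set G) = ⊤ →
      Nonempty (G ≃* Matrix.SpecialLinearGroup (Fin 2) (ZMod 5)) := by
  set rels : Set (FreeGroup (Fin 3)) := {FreeGroup.of (0 : Fin 3) ^ 3, FreeGroup.of (1 : Fin 3) ^ 5, FreeGroup.of (2 : Fin 3) ^ 2,
        (FreeGroup.of (2 : Fin 3))⁻¹ * FreeGroup.of 0 * FreeGroup.of 2 * (FreeGroup.of (0 : Fin 3))⁻¹,
        (FreeGroup.of (2 : Fin 3))⁻¹ * FreeGroup.of 1 * FreeGroup.of 2 * (FreeGroup.of (1 : Fin 3))⁻¹,
        (FreeGroup.of (0 : Fin 3) * FreeGroup.of 1) ^ 2 * (FreeGroup.of (2 : Fin 3))⁻¹} with hrels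
  have hrel : ∀ r ∈ rels, PresentedGroup.mk rels r = 1 := fun r hr => PresentedGroup.one_of_mem hr
  set X : PresentedGroup rels := PresentedGroup.of 0 with hX
  set Y : PresentedGroup rels := PresentedGroup.of 1 with hY
  set Z : PresentedGroup rels := PresentedGroup.of 2 with hZ
  have c1 : Z * X = X * Z := by
    have h : Z⁻¹ * X * Z * X⁻¹ = 1 := hrel _ (Or.inr (Or.inr (Or.inr (Or.inl rfl))))
    rw [mul_inv_eq_one, mul_assoc, inv_mul_eq_iff_eq_mul] at h
    exact h.symm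
  have c2 : Z * Y = Y * Z := by
    have h : Z⁻¹ * Y * Z * Y⁻¹ = 1 := hrel _ (Or.inr (Or.inr (Or.inr (Or.inr (Or.inl rfl)))))
    rw [mul_inv_eq_one, mul_assoc, inv_mul_eq_iff_eq_mul] at h
    exact h.symm
  have c3 : (X * Y) ^ 2 = Z := by
    have h : (X * Y) ^ 2 * Z⁻¹ = 1 := hrel _ (Or.inr (Or.inr (Or.inr (Or.inr (Or.inr rfl)))))
    rwa [mul_inv_eq_one] at h
  have hgenP : Subgroup.closure ({X, Y, Z} : Set (PresentedGroup rels)) = ⊤ := by
    rw [← PresentedGroup.closure_range_of rels]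
    congr 1
    ext w
    simp [Fin.exists_fin_succ, hX, hY, hZ, eq_comm]
  obtain ⟨hfin, hle⟩ := CfsgLib.Icosahedral.finite_card_le_onetwenty
    (x := X) (y := Y) (z := Z) (hrel _ (Or.inl rfl)) (hrel _ (Or.inr (Or.inl rfl)))
    (hrel _ (Or.inr (Or.inr (Or.inl rfl)))) c1 c2 c3 hgenP
  obtain ⟨g1, g2, g3, g4, g5, g6⟩ := gens_check
  have hlift : ∀ r ∈ rels, FreeGroup.lift ![gx, gy, gz] r = 1 := by
    rintro r (rfl | rfl | rfl | rfl | rfl | rfl)
    · simp [g1]
    · simp [g2]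
    · simp [g3]
    · simp only [map_mul, map_inv, FreeGroup.lift_apply_of, Matrix.cons_val]
      rw [mul_inv_eq_one, mul_assoc, inv_mul_eq_iff_eq_mul]
      exact g4.symm
    · simp only [map_mul, map_inv, FreeGroup.lift_apply_of, Matrix.cons_val]
      rw [mul_inv_eq_one, mul_assoc, inv_mul_eq_iff_eq_mul]
      exact g5.symm
    · simp [g6]
  let f := PresentedGroup.toGroup hlift
  have hf : Function.Surjective f := by
    intro g
    have hg := mem_elts g
    simp only [elts, List.mem_flatMap, List.mem_map] at hg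
    obtain ⟨e, -, k, -, w, -, rfl⟩ := hg
    refine ⟨Z ^ e * (Y ^ k * CfsgLib.CosetCert.eval (fun i => if i = 0 then X else Y) w), ?_⟩
    have hx : f X = gx := by simp [f, hX]
    have hy : f Y = gy := by simp [f, hY]
    have hz : f Z = gz := by simp [f, hZ]
    rw [map_mul, map_mul, map_pow, map_pow, hy, hz, CfsgLib.CosetCert.eval, map_list_prod,
      List.map_map]
    congr 3
    apply List.map_congr_left
    intro i _
    by_cases hi : i = 0 <;> simp [hi, hx, hy]
  have hiso : PresentedGroup rels ≃* Matrix.SpecialLinearGroup (Fin 2) (ZMod 5) :=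
    MulEquiv.ofBijective f ((Nat.bijective_iff_surjective_and_card _).2 ⟨hf,
      le_antisymm (hle.trans card_ge) (Nat.card_le_card_of_surjective f hf)⟩)
  refine ⟨⟨hiso⟩, fun G _ _ x y z hG hx hy hz hxz hyz hxy hgen => ?_⟩
  have hlift' : ∀ r ∈ rels, FreeGroup.lift ![x, y, z] r = 1 := by
    rintro r (rfl | rfl | rfl | rfl | rfl | rfl)
    · simp [hx]
    · simp [hy]
    · simp [hz]
    · simp only [map_mul, map_inv, FreeGroup.lift_apply_of, Matrix.cons_val]
      rw [mul_inv_eq_one, mul_assoc, inv_mul_eq_iff_eq_mul]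
      exact hxz.symm
    · simp only [map_mul, map_inv, FreeGroup.lift_apply_of, Matrix.cons_val]
      rw [mul_inv_eq_one, mul_assoc, inv_mul_eq_iff_eq_mul]
      exact hyz.symm
    · simp [hxy]
  let p := PresentedGroup.toGroup hlift'
  have hp : Function.Surjective p := by
    rw [← MonoidHom.range_eq_top, eq_top_iff, ← hgen, Subgroup.closure_le]
    rintro w (rfl | rfl | rfl)
    · exact ⟨X, by simp [p, hX]⟩
    · exact ⟨Y, by simp [p, hY]⟩
    · exact ⟨Z, by simp [p, hZ]⟩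
  exact ⟨(MulEquiv.ofBijective p ((Nat.bijective_iff_surjective_and_card _).2 ⟨hp,
    le_antisymm (hle.trans hG.ge) (Nat.card_le_card_of_surjective p hp)⟩)).symm.trans hiso⟩

/-- Every non-solvable group of order 120 whose Sylow 2-subgroups are quaternion of order 8 is isomorphic to SL(2,5), and SL(2,5) has the presentation ⟨x, y, z | x³ = y⁵ = z² = 1, z⁻¹xz = x, z⁻¹yz = y, (xy)² = z⟩. -/
theorem result :
    (∀ (G : Type*) [Group G] [Finite G], Nat.card G = 120 → ¬ Group.IsSolvable G →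
      (∀ P : Sylow 2 G, Nonempty ((P : Subgroup G) ≃* QuaternionGroup 2)) →
      Nonempty (G ≃* Matrix.SpecialLinearGroup (Fin 2) (ZMod 5))) ∧
    Nonempty (PresentedGroup ({FreeGroup.of (0 : Fin 3) ^ 3, FreeGroup.of (1 : Fin 3) ^ 5, FreeGroup.of (2 : Fin 3) ^ 2,
        (FreeGroup.of (2 : Fin 3))⁻¹ * FreeGroup.of 0 * FreeGroup.of 2 * (FreeGroup.of (0 : Fin 3))⁻¹,
        (FreeGroup.of (2 : Fin 3))⁻¹ * FreeGroup.of 1 * FreeGroup.of 2 * (FreeGroup.of (1 : Fin 3))⁻¹,
        (FreeGroup.of (0 : Fin 3) * FreeGroup.of 1) ^ 2 * (FreeGroup.of (2 : Fin 3))⁻¹} : Set (FreeGroup (Fin 3)))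
      ≃* Matrix.SpecialLinearGroup (Fin 2) (ZMod 5)) := by
  refine ⟨fun G _ _ hG hns hQ => ?_, presented_iso.{0}.1⟩
  obtain ⟨x, y, z, hx, hy, hz, hxz, hyz, hxy, hgen⟩ :=
    CfsgLib.Icosahedral.exists_binary_gens hG hns hQ
  exact presented_iso.2 G x y z hG hx hy hz hxz hyz hxy hgen

end Cfsg.Agent.S3378
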