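import Cfsg.Statements.S4025
import Cfsg.Agent.H79LinSolvMain
import Cfsg.Agent.Lib.PCore.Basic
import Cfsg.Agent.Lib.PGroup.ExtraspecialIso

set_option autoImplicit false
open Cfsg

namespace Cfsg.Agent.S4025

set_option maxHeartbeats 1000000

/-- The semiaffine group over a finite field has order `(q - 1) q · #Aut`. -/
theorem card_semiaffine (p n : ℕ) [Fact p.Prime] (hn : n ≠ 0) :
    Nat.card (semiaffineGroup (GaloisField p n)) = (p ^ n - 1) * p ^ n * n := by
  classical
  haveI : Fintype (GaloisField p n) := Fintype.ofFinite _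
  let L := GaloisField p n
  let f : Lˣ × L × (L ≃+* L) → semiaffineGroup L := fun x =>
    ⟨(x.2.2.toEquiv.trans (Equiv.mulLeft₀ (x.1 : L) x.1.ne_zero)).trans (Equiv.addRight x.2.1),
      x.1, x.2.1, x.2.2, fun _ => rfl⟩
  have hf : Function.Bijective f := by
    refine ⟨?_, ?_⟩
    · rintro ⟨a, b, φ⟩ ⟨a', b', φ'⟩ h
      have h' : ∀ x, (a : L) * φ x + b = (a' : L) * φ' x + b' := fun x =>
        Equiv.Perm.ext_iff.1 (congrArg Subtype.val h) x
      have hb : b = b' := by simpa using h' 0
      subst hb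
      have ha : a = a' := Units.ext (by simpa using h' 1)
      subst ha
      rw [show φ = φ' from RingEquiv.ext fun x => mul_left_cancel₀ a.ne_zero (add_right_cancel (h' x))]
    · rintro ⟨σ, a, b, φ, h⟩
      exact ⟨(a, b, φ), Subtype.ext (Equiv.ext fun x => (h x).symm)⟩
  rw [← Nat.card_eq_of_bijective f hf, Nat.card_prod, Nat.card_prod, H79.LinField.card_aut hn,
    Nat.card_units, GaloisField.card p n hn, mul_assoc]

/-- Pairs of independent elements. -/
theorem card_pairs {X : Type*} [Group X] [Finite X] {p : ℕ} [hp : Fact p.Prime]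
    (hexp : ∀ x : X, x ^ p = 1) :
    Nat.card {ab : X × X // ab.1 ≠ 1 ∧ ab.2 ∉ Subgroup.zpowers ab.1} =
      (Nat.card X - 1) * (Nat.card X - p) := by
  classical
  let e : {ab : X × X // ab.1 ≠ 1 ∧ ab.2 ∉ Subgroup.zpowers ab.1} ≃
      Σ a : {a : X // a ≠ 1}, ↥((Subgroup.zpowers (a : X) : Set X)ᶜ) :=
    { toFun := fun x => ⟨⟨x.1.1, x.2.1⟩, ⟨x.1.2, x.2.2⟩⟩
      invFun := fun y => ⟨(y.1.1, y.2.1), y.1.2, y.2.2⟩
      left_inv := fun x => rfl
      right_inv := fun y => rfl }
  haveI : Fintype {a : X // a ≠ 1} := Fintype.ofFinite _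
  rw [Nat.card_congr e, Nat.card_sigma]
  have h1 : ∀ a : {a : X // a ≠ 1}, Nat.card ↥((Subgroup.zpowers (a : X) : Set X)ᶜ) = Nat.card X - p := by
    intro a
    rw [Nat.card_coe_set_eq, Set.ncard_compl, ← Nat.card_coe_set_eq]
    show Nat.card X - Nat.card (Subgroup.zpowers (a : X)) = _
    rw [Nat.card_zpowers, orderOf_eq_prime (hexp _) a.2]
  rw [Finset.sum_congr rfl fun a _ => h1 a, Finset.sum_const, Finset.card_univ, smul_eq_mul,
    ← Nat.card_eq_fintype_card]
  congr 1
  rw [show {a : X // a ≠ 1} = ↥(({1} : Set X)ᶜ) from rfl, Nat.card_coe_set_eq, Set.ncard_compl,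
    Set.ncard_singleton]

open Pointwise in
/-- Burnside's fusion lemma for an abelian Sylow subgroup, on subgroups. -/
theorem fusion {G : Type*} [Group G] [Finite G] {p : ℕ} [Fact p.Prime] (P : Sylow p G)
    (hab : ∀ x ∈ (P : Subgroup G), ∀ y ∈ (P : Subgroup G), x * y = y * x) {H K : Subgroup G}
    (hH : H ≤ (P : Subgroup G)) (hK : K ≤ (P : Subgroup G)) (g : G)
    (hg : K = H.map (MulAut.conj g).toMonoidHom) :
    ∃ m ∈ Subgroup.normalizer ((P : Subgroup G) : Set G),
      ∀ h ∈ H, m * h * m⁻¹ ∈ K := by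
  set C := Subgroup.centralizer (K : Set G)
  have h1 : (P : Subgroup G) ≤ C := fun x hx =>
    Subgroup.mem_centralizer_iff.2 fun k hk => hab k (hK hk) x hx
  have h2 : ((g • P : Sylow p G) : Subgroup G) ≤ C := by
    intro x hx
    rw [Sylow.coe_subgroup_smul] at hx
    obtain ⟨y, hy, rfl⟩ := hx
    refine Subgroup.mem_centralizer_iff.2 fun k hk => ?_
    rw [hg] at hk
    obtain ⟨h, hh, rfl⟩ := hk
    show (g * h * g⁻¹) * (g * y * g⁻¹) = (g * y * g⁻¹) * (g * h * g⁻¹)
    rw [show (g * h * g⁻¹) * (g * y * g⁻¹) = g * (h * y) * g⁻¹ by group, hab h (hH hh) y hy]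
    group
  obtain ⟨c, hc⟩ := MulAction.exists_smul_eq C ((g • P).subtype h2) (P.subtype h1)
  rw [Sylow.smul_subtype] at hc
  have hc' : (c : G) • (g • P) = P := Sylow.subtype_injective hc
  refine ⟨c * g, Sylow.smul_eq_iff_mem_normalizer.1 (by rw [mul_smul, hc']), fun h hh => ?_⟩
  have hk : g * h * g⁻¹ ∈ K := by rw [hg]; exact ⟨h, hh, rfl⟩
  have hck := Subgroup.mem_centralizer_iff.1 c.2 _ hk
  rw [show (c : G) * g * h * ((c : G) * g)⁻¹ = (c : G) * (g * h * g⁻¹) * (c : G)⁻¹ by group, ← hck,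
    mul_inv_cancel_right]
  exact hk

/-- Let p be a prime and G a finite group in which any two p-subgroups of the same order are conjugate, and suppose a Sylow p-subgroup P of G is elementary abelian of order pⁿ with n ≥ 3. Let N be the normalizer of P and K the largest normal subgroup of N of order prime to p, and assume N/K is solvable. Then either n = 3 and N/K embeds in the one-dimensional semi-affine group over the field with p³ elements (and for p = 2 it is isomorphic to the affine or the semi-affine group over the field with 8 elements), or n = 5, p = 2 and N/K is isomorphic to the one-dimensional semi-affine group over the field with 32 elements. -/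
theorem result {G : Type*} [Group G] [Finite G]
    {p : ℕ} [Fact p.Prime] (hC : ∀ H K : Subgroup G, IsPGroup p H → IsPGroup p K → Nat.card H = Nat.card K →
      ∃ g : G, K = H.map (MulAut.conj g).toMonoidHom) (P : Sylow p G) (n : ℕ) (hn : 3 ≤ n)
    (hel : Cfsg.IsElementaryAbelian p (P : Subgroup G)) (hcard : Nat.card P = p ^ n)
    (N : Subgroup G) (hN : N = Subgroup.normalizer ((P : Subgroup G) : Set G))
    (hsolv : Group.IsSolvable (↥N ⧸ Cfsg.pPrimeCore p ↥N)) :
    (n = 3 ∧ (∃ f : ↥N ⧸ Cfsg.pPrimeCore p ↥N →* ↥(Cfsg.semiaffineGroup (GaloisField p 3)), Function.Injective f) ∧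
      (p = 2 → Nonempty (↥N ⧸ Cfsg.pPrimeCore p ↥N ≃* Cfsg.semiaffineGroup (GaloisField 2 3)) ∨
               Nonempty (↥N ⧸ Cfsg.pPrimeCore p ↥N ≃* Cfsg.affineGroup (GaloisField 2 3)))) ∨
    (n = 5 ∧ p = 2 ∧ Nonempty (↥N ⧸ Cfsg.pPrimeCore p ↥N ≃* Cfsg.semiaffineGroup (GaloisField 2 5))) := by
  classical
  have hp := Fact.out (p := p.Prime)
  subst hN
  set N := Subgroup.normalizer ((P : Subgroup G) : Set G)
  have hPN : (P : Subgroup G) ≤ N := Subgroup.le_normalizer
  set PN := (P : Subgroup G).subgroupOf N with hPNdef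
  haveI hPNn : PN.Normal := Subgroup.normal_in_normalizer
  have hPab : ∀ x ∈ (P : Subgroup G), ∀ y ∈ (P : Subgroup G), x * y = y * x := fun x hx y hy =>
    congrArg Subtype.val (hel.1.is_comm.comm ⟨x, hx⟩ ⟨y, hy⟩)
  have hcardPN : Nat.card PN = p ^ n := by
    rw [← hcard]; exact Nat.card_congr (Subgroup.subgroupOfEquivOfLe hPN).toEquiv
  have hexp : ∀ x : PN, x ^ p = 1 := fun x => Subtype.ext (Subtype.ext (hel.2 _ x.2))
  letI : CommGroup PN :=
    { (inferInstance : Group PN) with
      mul_comm := fun a b => Subtype.ext (Subtype.ext (hPab _ a.2 _ b.2)) }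
  haveI hnt : Nontrivial PN :=
    Finite.one_lt_card_iff_nontrivial.1 (hcardPN ▸ Nat.one_lt_pow (by omega) hp.one_lt)
  -- transitivity on subgroups of equal order
  have htrans : ∀ A B : Subgroup PN, Nat.card A = Nat.card B →
      ∃ m : N, A.map (MulAut.conjNormal m).toMonoidHom = B := by
    intro A B hAB
    set A' := (A.map PN.subtype).map N.subtype with hA'
    set B' := (B.map PN.subtype).map N.subtype with hB'
    have hle : ∀ C : Subgroup PN, (C.map PN.subtype).map N.subtype ≤ (P : Subgroup G) := by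
      rintro C _ ⟨_, ⟨c, -, rfl⟩, rfl⟩; exact c.2
    have hcardmap : ∀ C : Subgroup PN, Nat.card ((C.map PN.subtype).map N.subtype : Subgroup G) = Nat.card C :=
      fun C => by
        rw [Subgroup.card_map_of_injective N.subtype_injective, Subgroup.card_map_of_injective PN.subtype_injective]
    obtain ⟨g, hg⟩ := hC A' B' (P.isPGroup'.to_le (hle A)) (P.isPGroup'.to_le (hle B))
      (by rw [hcardmap, hcardmap, hAB])
    obtain ⟨m, hm, hmAB⟩ := fusion P hPab (hle A) (hle B) g hg
    refine ⟨⟨m, hm⟩, Subgroup.eq_of_le_of_card_ge ?_ ?_⟩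
    · rintro _ ⟨a, ha, rfl⟩
      obtain ⟨_, ⟨b, hb, rfl⟩, hb'⟩ := hmAB (((a : N)) : G) ⟨(a : N), ⟨a, ha, rfl⟩, rfl⟩
      have he : (MulAut.conjNormal (⟨m, hm⟩ : N)) a = b := by
        refine Subtype.ext (Subtype.ext ?_)
        rw [MulAut.conjNormal_apply]
        exact hb'.symm
      show (MulAut.conjNormal (⟨m, hm⟩ : N)) a ∈ B
      rw [he]; exact hb
    · rw [← hAB]
      exact le_of_eq (Nat.card_congr (A.equivMapOfInjective _ (MulEquiv.injective _)).toEquiv)
  -- the group of automorphisms with the scalars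
  set ψ : N →* MulAut PN := MulAut.conjNormal
  have hval : ∀ (x : PN) (a : ℕ), x ^ (a % p) = x ^ a := fun x a => by
    conv_rhs => rw [← Nat.mod_add_div a p, pow_add, pow_mul, hexp, one_pow, mul_one]
  have hscmul : ∀ (x : PN) (a b : ZMod p), (x ^ b.val) ^ a.val = x ^ (a * b).val := fun x a b => by
    rw [← pow_mul, ZMod.val_mul, hval, mul_comm]
  let σ : (ZMod p)ˣ →* MulAut PN :=
    { toFun := fun k =>
        { toFun := fun x => x ^ (k : ZMod p).val
          invFun := fun x => x ^ ((k⁻¹ : (ZMod p)ˣ) : ZMod p).val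
          left_inv := fun x => by
            show (x ^ _) ^ _ = x
            rw [hscmul, Units.inv_mul, ZMod.val_one, pow_one]
          right_inv := fun x => by
            show (x ^ _) ^ _ = x
            rw [hscmul, Units.mul_inv, ZMod.val_one, pow_one]
          map_mul' := fun x y => mul_pow x y _ }
      map_one' := MulEquiv.ext fun x => by
        show x ^ ((1 : (ZMod p)ˣ) : ZMod p).val = x
        rw [Units.val_one, ZMod.val_one, pow_one]
      map_mul' := fun k k' => MulEquiv.ext fun x => by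
        show x ^ ((k * k' : (ZMod p)ˣ) : ZMod p).val = (x ^ (k' : ZMod p).val) ^ (k : ZMod p).val
        rw [hscmul, Units.val_mul] }
  have hσ : ∀ k x, σ k x = x ^ (k : ZMod p).val := fun _ _ => rfl
  have hσinj : Function.Injective σ := by
    obtain ⟨x, hx⟩ := exists_ne (1 : PN)
    intro k k' h
    have h1 : x ^ (k : ZMod p).val = x ^ (k' : ZMod p).val := by rw [← hσ, ← hσ, h]
    rw [pow_eq_pow_iff_modEq, orderOf_eq_prime (hexp x) hx] at h1
    refine Units.ext (ZMod.val_injective p ?_)
    unfold Nat.ModEq at h1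
    rwa [Nat.mod_eq_of_lt (ZMod.val_lt _), Nat.mod_eq_of_lt (ZMod.val_lt _)] at h1
  have hcommσ : ∀ (α : ψ.range) (k : (ZMod p)ˣ), Commute (α : MulAut PN) (σ k) := fun α k =>
    MulEquiv.ext fun x => by
      show (α : MulAut PN) (x ^ (k : ZMod p).val) = ((α : MulAut PN) x) ^ (k : ZMod p).val
      exact map_pow _ _ _
  set full := ψ.range.subtype.noncommCoprod σ hcommσ with hfull
  set S := full.range with hS
  have hfa : ∀ (α : ψ.range) (k : (ZMod p)ˣ), full (α, k) = (α : MulAut PN) * σ k := fun _ _ => rfl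
  have hψS : ∀ m : N, ψ m ∈ S := fun m => ⟨(⟨ψ m, m, rfl⟩, 1), by rw [hfa, map_one, mul_one]⟩
  have hσS : ∀ k, σ k ∈ S := fun k => ⟨(1, k), by rw [hfa, Subgroup.coe_one, one_mul]⟩
  set K0 := Cfsg.pPrimeCore p ↥N with hK0
  haveI hK0n : K0.Normal := Cfsg.pPrimeCore_normal p ↥N
  have hK0cop : (Nat.card K0).Coprime p := CfsgLib.PCore.pPrimeCore_coprime
  have hK0ψ : K0 ≤ ψ.ker := by
    intro k hk
    refine MonoidHom.mem_ker.2 (MulEquiv.ext fun x => Subtype.ext ?_)
    show ((ψ k) x : N) = (x : N)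
    rw [MulAut.conjNormal_apply]
    have hd : Disjoint K0 PN := by
      refine Subgroup.disjoint_def.2 fun {y} hy1 hy2 => ?_
      have h1 : orderOf y ∣ Nat.card K0 := Subgroup.orderOf_dvd_natCard K0 hy1
      have h2 : orderOf y ∣ p := orderOf_dvd_of_pow_eq_one (congrArg Subtype.val (hexp ⟨y, hy2⟩))
      exact orderOf_eq_one_iff.1 (Nat.eq_one_of_dvd_coprimes hK0cop h1 h2)
    exact mul_inv_eq_iff_eq_mul.2 (Subgroup.commute_of_normal_of_disjoint K0 PN hK0n hPNn hd k x hk x.2)
  haveI : Group.IsSolvable ψ.range := by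
    haveI := hsolv
    exact Group.isSolvable_of_surjective (f := QuotientGroup.lift K0 ψ.rangeRestrict (fun k hk => by
      rw [MonoidHom.mem_ker]; exact Subtype.ext (MonoidHom.mem_ker.1 (hK0ψ hk)))) (fun a => by
        obtain ⟨m, rfl⟩ := ψ.rangeRestrict_surjective a
        exact ⟨m, rfl⟩)
  haveI hunits : Group.IsSolvable (ZMod p)ˣ := Group.isSolvable_of_comm fun a b => mul_comm a b
  have hSsolv : Group.IsSolvable S :=
    Group.isSolvable_of_surjective (f := full.rangeRestrict) full.rangeRestrict_surjective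
  letI : DistribMulAction S (Additive PN) :=
    { smul := fun s v => Additive.ofMul ((s : MulAut PN) (Additive.toMul v))
      one_smul := fun v => rfl
      mul_smul := fun s t v => rfl
      smul_zero := fun s => congrArg Additive.ofMul (map_one (s : MulAut PN))
      smul_add := fun s v w => congrArg Additive.ofMul (map_mul (s : MulAut PN) _ _) }
  have hsmul : ∀ (s : S) (v : Additive PN), s • v = Additive.ofMul ((s : MulAut PN) (Additive.toMul v)) :=
    fun _ _ => rfl
  haveI : FaithfulSMul S (Additive PN) := ⟨fun {s t} h => Subtype.ext (MulEquiv.ext fun x =>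
    Additive.ofMul.injective (h (Additive.ofMul x)))⟩
  have hexpV : ∀ v : Additive PN, p • v = 0 := fun v => by
    show Additive.ofMul ((Additive.toMul v) ^ p) = 0
    rw [hexp]; rfl
  have hcardV : Nat.card (Additive PN) = p ^ n := hcardPN
  have htr : ∀ v w : Additive PN, v ≠ 0 → w ≠ 0 → ∃ s : S, s • v = w := by
    intro v w hv hw
    have ov := orderOf_eq_prime (hexp (Additive.toMul v)) hv
    have ow := orderOf_eq_prime (hexp (Additive.toMul w)) hw
    obtain ⟨m, hm⟩ := htrans (Subgroup.zpowers (Additive.toMul v)) (Subgroup.zpowers (Additive.toMul w))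
      (by rw [Nat.card_zpowers, Nat.card_zpowers, ov, ow])
    have hmem : ψ m (Additive.toMul v) ∈ Subgroup.zpowers (Additive.toMul w) :=
      hm ▸ ⟨_, Subgroup.mem_zpowers _, rfl⟩
    obtain ⟨j, hj⟩ := (isOfFinOrder_of_finite (Additive.toMul w)).mem_powers_iff_mem_zpowers.2 hmem
    have hj0 : (j : ZMod p) ≠ 0 := by
      intro h
      rw [ZMod.natCast_eq_zero_iff] at h
      obtain ⟨d, rfl⟩ := h
      have h1 : ψ m (Additive.toMul v) = 1 := by rw [← hj]; show _ ^ (p * d) = 1; rw [pow_mul, hexp, one_pow]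
      exact hv ((map_eq_one_iff _ (MulEquiv.injective _)).1 h1)
    set k := (Units.mk0 (j : ZMod p) hj0)⁻¹
    refine ⟨⟨σ k, hσS k⟩ * ⟨ψ m, hψS m⟩, ?_⟩
    show Additive.ofMul ((ψ m (Additive.toMul v)) ^ (k : ZMod p).val) = w
    rw [← hj]
    show Additive.ofMul ((Additive.toMul w ^ j) ^ (k : ZMod p).val) = w
    rw [← pow_mul, ← hval, ← ZMod.val_natCast, Nat.cast_mul, ZMod.natCast_zmod_val,
      show ((j : ZMod p) * (k : ZMod p)) = 1 from Units.mul_inv (Units.mk0 (j : ZMod p) hj0),
      ZMod.val_one, pow_one]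
    rfl
  -- subgroups of order `p ^ 2`
  have hdiv : (p ^ n - 1) * (p ^ n - p) * (p - 1) ∣ Nat.card S * ((p ^ 2 - 1) * (p ^ 2 - p)) := by
    let T := {ab : PN × PN // ab.1 ≠ 1 ∧ ab.2 ∉ Subgroup.zpowers ab.1}
    let W2 := {W : Subgroup PN // Nat.card W = p ^ 2}
    have hspan : ∀ ab : T, Nat.card (Subgroup.zpowers ab.1.2 ⊔ Subgroup.zpowers ab.1.1 : Subgroup PN) = p ^ 2 := by
      rintro ⟨⟨a, b⟩, ha, hb⟩
      have oa : Nat.card (Subgroup.zpowers a) = p := by rw [Nat.card_zpowers, orderOf_eq_prime (hexp a) ha]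
      have h1 := CfsgLib.ExtraIso.card_sup_zpowers_le (p := p) (Subgroup.zpowers a) b hp.pos
        (Subgroup.normalizer_eq_top_iff.2 (inferInstance : (Subgroup.zpowers a).Normal) ▸ Subgroup.mem_top b)
        (by rw [hexp]; exact one_mem _)
      rw [oa, ← sq] at h1
      obtain ⟨i, -, hi⟩ := (Nat.dvd_prime_pow hp).1
        (hcardPN ▸ Subgroup.card_subgroup_dvd_card (Subgroup.zpowers b ⊔ Subgroup.zpowers a))
      show Nat.card (Subgroup.zpowers b ⊔ Subgroup.zpowers a : Subgroup PN) = p ^ 2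
      rw [hi] at h1 ⊢
      have h2 := (Nat.pow_le_pow_iff_right hp.one_lt).1 h1
      have h3 : 1 < i := by
        by_contra hc
        have h4 : Nat.card (Subgroup.zpowers b ⊔ Subgroup.zpowers a : Subgroup PN) ≤ Nat.card (Subgroup.zpowers a) := by
          rw [hi, oa]; exact (Nat.pow_le_pow_right hp.pos (not_lt.1 hc)).trans (by rw [pow_one])
        exact hb ((Subgroup.eq_of_le_of_card_ge le_sup_right h4) ▸ Subgroup.mem_sup_left (Subgroup.mem_zpowers b))
      rw [show i = 2 by omega]
    let f : T → W2 := fun ab => ⟨Subgroup.zpowers ab.1.2 ⊔ Subgroup.zpowers ab.1.1, hspan ab⟩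
    haveI : Fintype W2 := Fintype.ofFinite _
    have hfib : ∀ W : W2, Nat.card {ab : T // f ab = W} = (p ^ 2 - 1) * (p ^ 2 - p) := by
      rintro ⟨W, hW⟩
      have hWexp : ∀ x : W, x ^ p = 1 := fun x => Subtype.ext (hexp x)
      refine Eq.trans ?_ ((card_pairs hWexp).trans (by rw [hW]))
      have hz : ∀ a b : W, ((b : PN) ∈ Subgroup.zpowers (a : PN)) ↔ b ∈ Subgroup.zpowers a := fun a b => by
        constructor <;> rintro ⟨i, hi⟩
        · exact ⟨i, Subtype.ext (by rw [Subgroup.coe_zpow]; exact hi)⟩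
        · exact ⟨i, by rw [← hi]; exact (Subgroup.coe_zpow W a i).symm⟩
      refine Nat.card_congr
        { toFun := fun x => ⟨(⟨x.1.1.1, ?_⟩, ⟨x.1.1.2, ?_⟩), fun h => x.1.2.1 (congrArg Subtype.val h),
            fun h => x.1.2.2 ((hz _ _).2 h)⟩
          invFun := fun y => ⟨⟨((y.1.1 : PN), (y.1.2 : PN)), fun h => y.2.1 (Subtype.ext h),
            fun h => y.2.2 ((hz _ _).1 h)⟩, Subtype.ext (Subgroup.eq_of_le_of_card_ge
              (sup_le (Subgroup.zpowers_le.2 y.1.2.2) (Subgroup.zpowers_le.2 y.1.1.2)) ?_)⟩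
          left_inv := fun x => rfl
          right_inv := fun y => rfl }
      · have h : f x.1 = ⟨W, hW⟩ := x.2
        have h' : Subgroup.zpowers x.1.1.2 ⊔ Subgroup.zpowers x.1.1.1 = W := congrArg Subtype.val h
        exact (SetLike.ext_iff.1 h' _).1 (Subgroup.mem_sup_right (Subgroup.mem_zpowers _))
      · have h : f x.1 = ⟨W, hW⟩ := x.2
        have h' : Subgroup.zpowers x.1.1.2 ⊔ Subgroup.zpowers x.1.1.1 = W := congrArg Subtype.val h
        exact (SetLike.ext_iff.1 h' _).1 (Subgroup.mem_sup_left (Subgroup.mem_zpowers _))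
      · refine le_of_eq (hW.trans (hspan _).symm)
    have hT : Nat.card T = Nat.card W2 * ((p ^ 2 - 1) * (p ^ 2 - p)) := by
      rw [← Nat.card_congr (Equiv.sigmaFiberEquiv f), Nat.card_sigma, Finset.sum_congr rfl fun W _ => hfib W,
        Finset.sum_const, Finset.card_univ, smul_eq_mul, ← Nat.card_eq_fintype_card]
    have hT' : Nat.card T = (p ^ n - 1) * (p ^ n - p) := by rw [card_pairs hexp, hcardPN]
    suffices hW : Nat.card W2 * (p - 1) ∣ Nat.card S by
      rw [← hT', hT, mul_right_comm]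
      exact Nat.mul_dvd_mul_right hW _
    obtain ⟨W0, hW0⟩ : ∃ W0 : Subgroup PN, Nat.card W0 = p ^ 2 :=
      Sylow.exists_subgroup_card_pow_prime p (hcardPN ▸ pow_dvd_pow p (by omega))
    letI : MulAction S (Subgroup PN) :=
      { smul := fun s W => W.map ((s : MulAut PN)).toMonoidHom
        one_smul := fun W => Subgroup.map_id W
        mul_smul := fun s t W => by
          show W.map _ = (W.map _).map _
          rw [Subgroup.map_map]
          rfl }
    have horb : MulAction.orbit S W0 = {W : Subgroup PN | Nat.card W = p ^ 2} := by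
      ext W
      constructor
      · rintro ⟨s, rfl⟩
        show Nat.card (W0.map ((s : MulAut PN)).toMonoidHom : Subgroup PN) = p ^ 2
        rw [Subgroup.card_map_of_injective (s : MulAut PN).injective, hW0]
      · intro hW
        obtain ⟨m, hm⟩ := htrans W0 W (hW0.trans hW.symm)
        exact ⟨⟨ψ m, hψS m⟩, hm⟩
    have h1 := (MulAction.stabilizer S W0).card_mul_index
    rw [MulAction.index_stabilizer, horb, ← Nat.card_coe_set_eq] at h1
    rw [← h1, mul_comm (Nat.card W2)]
    refine Nat.mul_dvd_mul ?_ dvd_rfl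
    let σ' : (ZMod p)ˣ →* MulAction.stabilizer S W0 :=
      { toFun := fun k => ⟨⟨σ k, hσS k⟩, by
          rw [MulAction.mem_stabilizer_iff]
          refine Subgroup.eq_of_le_of_card_ge ?_
            (le_of_eq (Subgroup.card_map_of_injective (σ k).injective).symm)
          rintro _ ⟨x, hx, rfl⟩
          exact pow_mem hx _⟩
        map_one' := Subtype.ext (Subtype.ext (map_one σ))
        map_mul' := fun k k' => Subtype.ext (Subtype.ext (map_mul σ k k')) }
    have h2 := Subgroup.card_dvd_of_injective σ' (fun k k' h =>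
      hσinj (congrArg (fun v : MulAction.stabilizer S W0 => ((v : S) : MulAut PN)) h))
    rwa [Nat.card_eq_fintype_card, ZMod.card_units] at h2
  haveI : Module (ZMod p) (Additive PN) := AddCommGroup.zmodModule hexpV
  obtain ⟨⟨e, he⟩, hn35⟩ := H79.LinSolv.classify hexpV hcardV hSsolv htr hn hdiv
  -- the affine representation of `N`
  have hcop : (Nat.card PN).Coprime PN.index := by
    rw [hcardPN]
    exact Nat.Coprime.pow_left n (hp.coprime_iff_not_dvd.2 (P.subtype hPN).not_dvd_index)
  obtain ⟨E, hE⟩ := Subgroup.exists_left_complement'_of_coprime hcop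
  have hdecomp : ∀ m : N, ∃ u : PN, ∃ h ∈ E, m = u * h := fun m => by
    obtain ⟨⟨⟨u, hu⟩, ⟨h, hh⟩⟩, he⟩ := hE.symm.2 m
    exact ⟨⟨u, hu⟩, h, hh, he.symm⟩
  let μ : PN → N ⧸ E := fun v => QuotientGroup.mk (v : N)
  have hμ : Function.Bijective μ := by
    constructor
    · intro v w hvw
      have h1 : ((v⁻¹ * w : PN) : N) ∈ E := QuotientGroup.eq.1 hvw
      have h2 := Subgroup.disjoint_def.1 hE.symm.disjoint (v⁻¹ * w : PN).2 h1
      exact inv_mul_eq_one.1 (Subtype.ext h2)
    · intro q
      obtain ⟨m, rfl⟩ := QuotientGroup.mk_surjective q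
      obtain ⟨u, h, hh, rfl⟩ := hdecomp m
      exact ⟨u, (QuotientGroup.eq.2 (by rw [inv_mul_cancel_left]; exact hh))⟩
  let ι : N ⧸ E ≃ GaloisField p n :=
    (Equiv.ofBijective μ hμ).symm.trans (Additive.ofMul.trans e.toEquiv)
  let Φ : N →* Equiv.Perm (GaloisField p n) :=
    (Equiv.permCongrHom ι).toMonoidHom.comp (MulAction.toPermHom N (N ⧸ E))
  have hιμ : ∀ v, ι (μ v) = e (Additive.ofMul v) := fun v => by
    show e (Additive.ofMul ((Equiv.ofBijective μ hμ).symm (μ v))) = _
    rw [Equiv.ofBijective_symm_apply_apply μ hμ v]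
  have hΦ : ∀ (u : PN) (h : N), h ∈ E → ∀ v : PN,
      Φ ((u : N) * h) (e (Additive.ofMul v)) = e (Additive.ofMul (u * ψ ((u : N) * h) v)) := by
    intro u h hh v
    show ι (((u : N) * h) • ι.symm (e (Additive.ofMul v))) = _
    rw [← hιμ, ι.symm_apply_apply, ← hιμ]
    congr 1
    show QuotientGroup.mk ((u : N) * h * (v : N)) = QuotientGroup.mk ((u * ψ ((u : N) * h) v : PN) : N)
    refine QuotientGroup.eq.2 ?_
    have hc : u * ψ ((u : N) * h) v = ψ ((u : N) * h) v * u := mul_comm _ _
    rw [hc, Subgroup.coe_mul, MulAut.conjNormal_apply,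
      show ((u : N) * h * (v : N))⁻¹ * ((u : N) * h * (v : N) * ((u : N) * h)⁻¹ * (u : N)) = h⁻¹ by group]
    exact inv_mem hh
  have hsemi : ∀ m, Φ m ∈ semiaffineGroup (GaloisField p n) := by
    intro m
    obtain ⟨u, h, hh, rfl⟩ := hdecomp m
    obtain ⟨a, φ, hφ⟩ := he ⟨ψ ((u : N) * h), hψS _⟩
    refine ⟨a, e (Additive.ofMul u), φ, fun x => ?_⟩
    obtain ⟨v, rfl⟩ := e.surjective x
    have h1 := hΦ u h hh (Additive.toMul v)
    rw [show Additive.ofMul (Additive.toMul v) = v from rfl] at h1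
    rw [h1, ofMul_mul, map_add, add_comm, ← hφ]
    rfl
  have hker : ∀ m, m ∈ Φ.ker ↔ m ∈ E ∧ ψ m = 1 := by
    intro m
    constructor
    · intro hm
      obtain ⟨u, h, hh, rfl⟩ := hdecomp m
      have h1 : ∀ v : PN, u * ψ ((u : N) * h) v = v := fun v => by
        have := hΦ u h hh v
        rw [MonoidHom.mem_ker.1 hm] at this
        exact Additive.ofMul.injective (e.injective this).symm
      have hu : u = 1 := by simpa using h1 1
      subst hu
      refine ⟨by simpa using hh, MulEquiv.ext fun v => ?_⟩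
      simpa using h1 v
    · rintro ⟨hmE, hmψ⟩
      refine MonoidHom.mem_ker.2 (Equiv.ext fun x => ?_)
      obtain ⟨v, rfl⟩ := e.surjective x
      have h1 := hΦ 1 m hmE (Additive.toMul v)
      rw [Subgroup.coe_one, one_mul] at h1
      rw [show Additive.ofMul (Additive.toMul v) = v from rfl] at h1
      rw [h1, hmψ, one_mul]
      rfl
  have hEcard : Nat.card E = PN.index := (hE.index_eq_card).symm
  have hEcop : (Nat.card E).Coprime p := by
    rw [hEcard]
    exact (hp.coprime_iff_not_dvd.2 (P.subtype hPN).not_dvd_index).symm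
  have hK0E : K0 ≤ E := by
    have h1 : Nat.card (K0 ⊔ E : Subgroup N) ∣ PN.index := by
      have h2 := (K0 ⊔ E).card_subgroup_dvd_card
      rw [← PN.card_mul_index, hcardPN] at h2
      exact (Nat.Coprime.pow_right n (Nat.Coprime.coprime_dvd_left (CfsgLib.PCore.card_sup_dvd_mul K0 E)
        (Nat.Coprime.mul_left hK0cop hEcop))).dvd_of_dvd_mul_left h2
    have h3 := Subgroup.eq_of_le_of_card_ge (le_sup_right : E ≤ K0 ⊔ E)
      (hEcard ▸ Nat.le_of_dvd (Nat.pos_of_ne_zero Subgroup.index_ne_zero_of_finite) h1)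
    exact h3 ▸ le_sup_left
  have hkerK : K0 = Φ.ker := by
    refine le_antisymm (fun k hk => (hker k).2 ⟨hK0E hk, hK0ψ hk⟩)
      (CfsgLib.PCore.le_pPrimeCore inferInstance ?_)
    exact Nat.Coprime.coprime_dvd_left (Subgroup.card_dvd_of_le fun m hm => ((hker m).1 hm).1) hEcop
  let Ψ : ↥N ⧸ K0 ≃* Φ.range :=
    (QuotientGroup.quotientMulEquivOfEq hkerK).trans (QuotientGroup.quotientKerEquivRange Φ)
  have hle : Φ.range ≤ semiaffineGroup (GaloisField p n) := by
    rintro _ ⟨m, rfl⟩; exact hsemi m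
  -- the order of the image
  have hψker : Nat.card ψ.ker = p ^ n * Nat.card Φ.ker := by
    have hPk : ∀ u : PN, (u : N) ∈ ψ.ker := fun u => MonoidHom.mem_ker.2 (MulEquiv.ext fun v => Subtype.ext (by
      rw [MulAut.conjNormal_apply, ← Subgroup.coe_mul, mul_comm u v, Subgroup.coe_mul, mul_inv_cancel_right]
      rfl))
    let g : PN × Φ.ker → ψ.ker := fun x => ⟨(x.1 : N) * (x.2 : N),
      mul_mem (hPk x.1) (((hker _).1 x.2.2).2)⟩
    have hg : Function.Bijective g := by
      constructor
      · rintro ⟨u, k⟩ ⟨u', k'⟩ h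
        have h' : (u : N) * (k : N) = (u' : N) * (k' : N) := congrArg Subtype.val h
        have h'' := hE.symm.1 (a₁ := (⟨(u : N), u.2⟩, ⟨(k : N), ((hker _).1 k.2).1⟩))
          (a₂ := (⟨(u' : N), u'.2⟩, ⟨(k' : N), ((hker _).1 k'.2).1⟩)) h'
        exact Prod.ext (Subtype.ext (congrArg (fun z => (z.1 : N)) h'')) (Subtype.ext (congrArg (fun z => (z.2 : N)) h''))
      · rintro ⟨m, hm⟩
        obtain ⟨u, h, hh, rfl⟩ := hdecomp m
        refine ⟨(u, ⟨h, (hker h).2 ⟨hh, ?_⟩⟩), rfl⟩
        have h1 := MonoidHom.mem_ker.1 hm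
        rwa [map_mul, MonoidHom.mem_ker.1 (hPk u), one_mul] at h1
    rw [← Nat.card_eq_of_bijective g hg, Nat.card_prod, hcardPN]
  have hΦcard : Nat.card Φ.range = p ^ n * Nat.card ψ.range := by
    have h1 := Φ.ker.card_mul_index
    have h2 := ψ.ker.card_mul_index
    rw [Subgroup.index_ker] at h1 h2
    rw [hψker, ← h1, mul_assoc, mul_left_comm] at h2
    exact (Nat.eq_of_mul_eq_mul_left Nat.card_pos h2).symm
  have hS2 : p = 2 → S = ψ.range := by
    rintro rfl
    refine le_antisymm ?_ ?_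
    · rintro _ ⟨⟨α, k⟩, rfl⟩
      have hk : k = 1 := Subsingleton.elim _ _
      subst hk
      rw [hfa, map_one, mul_one]
      exact α.2
    · rintro _ ⟨m, rfl⟩; exact hψS m
  rcases hn35 with rfl | ⟨rfl, rfl⟩
  · refine Or.inl ⟨rfl, ⟨(Subgroup.inclusion hle).comp Ψ.toMonoidHom,
      (Subgroup.inclusion_injective hle).comp Ψ.injective⟩, fun hp2 => ?_⟩
    subst hp2
    have h2 := Subgroup.card_dvd_of_le hle
    rw [hΦcard, card_semiaffine 2 3 (by norm_num)] at h2
    have h7 : 7 ∣ Nat.card ψ.range := by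
      rw [← hS2 rfl]
      exact H79.LinSolv.pow_sub_one_dvd hcardV htr (by norm_num)
    have h3 : Nat.card ψ.range ∣ 21 := by
      exact Nat.dvd_of_mul_dvd_mul_left (show 0 < 2 ^ 3 by norm_num)
        (h2.trans (dvd_of_eq (by norm_num)))
    have h4 : Nat.card ψ.range = 7 ∨ Nat.card ψ.range = 21 := by
      revert h3 h7
      generalize Nat.card ψ.range = a
      intro h7 h3
      have := Nat.le_of_dvd (by norm_num) h3
      interval_cases a <;> omega
    rcases h4 with h4 | h4
    · right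
      have hle' : Φ.range ≤ affineGroup (GaloisField 2 3) := by
        rintro _ ⟨m, rfl⟩
        obtain ⟨u, h, hh, rfl⟩ := hdecomp m
        set s : S := ⟨ψ ((u : N) * h), hψS _⟩ with hs
        obtain ⟨a, φ, hφ⟩ := he s
        have hiter : ∀ j : ℕ, ∃ A : GaloisField 2 3, ∀ v, e (s ^ j • v) = A * (φ ^ j) (e v) := by
          intro j
          induction j with
          | zero => exact ⟨1, fun v => by rw [pow_zero, one_smul, one_mul, pow_zero]; rfl⟩
          | succ j ih =>
            obtain ⟨A, hA⟩ := ih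
            refine ⟨(a : GaloisField 2 3) * φ A, fun v => ?_⟩
            rw [pow_succ', mul_smul, hφ, hA, map_mul, mul_assoc, pow_succ']
            rfl
        have hs7 : s ^ 7 = 1 := by
          have h5 : (⟨ψ ((u : N) * h), _, rfl⟩ : ψ.range) ^ 7 = 1 := by rw [← h4]; exact pow_card_eq_one'
          have h6 := congrArg (fun z : ψ.range => (z : MulAut PN)) h5
          simp only [Subgroup.coe_pow, Subgroup.coe_one] at h6
          exact Subtype.ext (by rw [Subgroup.coe_pow]; exact h6)
        obtain ⟨A, hA⟩ := hiter 7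
        rw [hs7] at hA
        simp only [one_smul] at hA
        have hA1 : A = 1 := by
          have := hA (e.symm 1)
          rw [e.apply_symm_apply, map_one, mul_one] at this
          exact this.symm
        have hφ7 : φ ^ 7 = 1 := RingEquiv.ext fun w => by
          have := hA (e.symm w)
          rw [e.apply_symm_apply, hA1, one_mul] at this
          exact this.symm
        haveI : Finite (GaloisField 2 3 ≃+* GaloisField 2 3) :=
          Finite.of_injective (fun σ => (σ : GaloisField 2 3 → GaloisField 2 3)) DFunLike.coe_injective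
        have hφ3 : φ ^ 3 = 1 := by
          have := pow_card_eq_one' (x := φ)
          rwa [H79.LinField.card_aut (p := 2) (n := 3) (by norm_num)] at this
        have hφ1 : φ = 1 := by
          have := calc φ = φ ^ 7 * ((φ ^ 3) ^ 2)⁻¹ := by group
            _ = 1 := by rw [hφ7, hφ3]; simp
          exact this
        refine ⟨a, e (Additive.ofMul u), fun x => ?_⟩
        obtain ⟨v, rfl⟩ := e.surjective x
        have h1 := hΦ u h hh (Additive.toMul v)
        rw [show Additive.ofMul (Additive.toMul v) = v from rfl] at h1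
        rw [h1, ofMul_mul, map_add, add_comm, show (Additive.ofMul (ψ ((u : N) * h) (Additive.toMul v))) = s • v from rfl,
          hφ, hφ1]
        rfl
      have hcardA : Nat.card (affineGroup (GaloisField 2 3)) ≤ 56 := by
        haveI : Fintype (GaloisField 2 3) := Fintype.ofFinite _
        have hA : ∀ σ : affineGroup (GaloisField 2 3), ∃ a : (GaloisField 2 3)ˣ, ∃ b, ∀ x,
            (σ : Equiv.Perm (GaloisField 2 3)) x = (a : GaloisField 2 3) * x + b := fun σ => σ.2
        choose ga gb hg using hA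
        refine (Nat.card_le_card_of_injective (fun σ => (ga σ, gb σ)) fun σ τ h => ?_).trans (le_of_eq ?_)
        · refine Subtype.ext (Equiv.ext fun x => ?_)
          rw [hg, hg, show ga σ = ga τ from congrArg Prod.fst h, show gb σ = gb τ from congrArg Prod.snd h]
        · rw [Nat.card_prod, Nat.card_units, GaloisField.card 2 3 (by norm_num)]; norm_num
      have heq := Subgroup.eq_of_le_of_card_ge hle' (by rw [hΦcard, h4]; exact hcardA.trans (by norm_num))
      exact ⟨Ψ.trans (MulEquiv.subgroupCongr heq)⟩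
    · left
      have heq := Subgroup.eq_of_le_of_card_ge hle
        (le_of_eq (by rw [card_semiaffine 2 3 (by norm_num), hΦcard, h4]; norm_num))
      exact ⟨Ψ.trans (MulEquiv.subgroupCongr heq)⟩
  · refine Or.inr ⟨rfl, rfl, ?_⟩
    rw [hS2 rfl] at hdiv
    have h5 : 155 ∣ Nat.card ψ.range := by
      rw [show (2 ^ 2 - 1) * (2 ^ 2 - 2) = 6 by norm_num] at hdiv
      have h6 : 155 * 6 ∣ Nat.card ψ.range * 6 := dvd_trans (by norm_num) hdiv
      exact Nat.dvd_of_mul_dvd_mul_right (by norm_num) h6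
    have heq := Subgroup.eq_of_le_of_card_ge hle (by
      rw [card_semiaffine 2 5 (by norm_num), hΦcard]
      rw [show (2 ^ 5 - 1) * 2 ^ 5 * 5 = 2 ^ 5 * 155 by norm_num]
      exact Nat.mul_le_mul_left _ (Nat.le_of_dvd Nat.card_pos h5))
    exact ⟨Ψ.trans (MulEquiv.subgroupCongr heq)⟩

end Cfsg.Agent.S4025
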