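import Cfsg.Statements.S4023
import Cfsg.Agent.H79SylowTypes

set_option autoImplicit false
open Cfsg

namespace Cfsg.Agent.S4023

open H79.ConjSub CfsgLib.Coprime
open scoped commutatorElement

/-- A nonabelian group of exponent `p` and order `pⁿ` in which equal order subgroups are
commutative together has `n = 3`. -/
theorem exp_prime_order {P : Type*} [Group P] [Finite P] {p : ℕ} [hp : Fact p.Prime]
    (hexp : ∀ x : P, x ^ p = 1) (hnc : ¬ IsMulCommutative P)
    (hU : ∀ A B : Subgroup P, Nat.card A = Nat.card B → IsMulCommutative A → IsMulCommutative B) :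
    Nat.card P = p ^ 3 := by
  have hP : IsPGroup p P := fun g => ⟨1, by rw [pow_one]; exact hexp g⟩
  obtain ⟨n, hn⟩ := IsPGroup.iff_card.1 hP
  have hord : ∀ x : P, x ≠ 1 → orderOf x = p := fun x hx => orderOf_eq_prime (hexp x) hx
  have hn3 : 3 ≤ n := by
    by_contra h
    apply hnc
    interval_cases n
    · have := (Nat.card_eq_one_iff_unique.1 (by simpa using hn)).1
      exact ⟨⟨fun a b => Subsingleton.elim _ _⟩⟩
    · have := isCyclic_of_prime_card (α := P) (p := p) (by simpa using hn)
      infer_instance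
    · exact ⟨⟨IsPGroup.commutative_of_card_eq_prime_sq hn⟩⟩
  rw [hn]
  by_contra hne
  have hn4 : 4 ≤ n := Nat.succ_le_iff.2 (lt_of_le_of_ne hn3 (fun e => hne (by rw [← e])))
  -- `y` in the second centre
  set Z := Subgroup.center P with hZ
  have : Nontrivial P := by
    by_contra h
    rw [not_nontrivial_iff_subsingleton] at h
    exact hnc ⟨⟨fun a b => Subsingleton.elim _ _⟩⟩
  have : Nontrivial (P ⧸ Z) := by
    rw [QuotientGroup.nontrivial_iff]
    intro h
    exact hnc ⟨⟨fun a b => (Subgroup.mem_center_iff.1 ((hZ ▸ h) ▸ Subgroup.mem_top a : a ∈ Subgroup.center P) b).symm⟩⟩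
  have := (hP.to_quotient Z).center_nontrivial
  obtain ⟨⟨w, hw⟩, hw1⟩ := exists_ne (1 : Subgroup.center (P ⧸ Z))
  obtain ⟨y, rfl⟩ := QuotientGroup.mk_surjective w
  have hyZ : y ∉ Z := fun h => hw1 (Subtype.ext ((QuotientGroup.eq_one_iff y).2 h))
  have hcomm : ∀ g : P, ⁅g, y⁆ ∈ Z := by
    intro g
    rw [← QuotientGroup.eq_one_iff, ← QuotientGroup.mk'_apply, map_commutatorElement]
    exact commutatorElement_eq_one_iff_commute.2 (Subgroup.mem_center_iff.1 hw _)
  obtain ⟨x, hx⟩ : ∃ x : P, x * y ≠ y * x := by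
    by_contra h
    push Not at h
    exact hyZ (Subgroup.mem_center_iff.2 h)
  set c := ⁅x, y⁆ with hc
  have hc1 : c ≠ 1 := fun h => hx (commutatorElement_eq_one_iff_commute.1 h)
  have hcZ : ∀ g : P, g * c = c * g := Subgroup.mem_center_iff.1 (hcomm x)
  have hy1 : y ≠ 1 := fun h => hyZ (h ▸ Z.one_mem)
  have hx1 : x ≠ 1 := fun h => hx (by simp [h])
  obtain ⟨hA, hAc⟩ := CfsgLib.BGroup.card_pair (hord c hc1) (hord y hy1) (hcZ y).symm
    (fun h => hyZ ((Subgroup.zpowers_le.2 (hcomm x)) h))
  set A := Subgroup.closure ({c, y} : Set P) with hAdef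
  have hcA : c ∈ A := Subgroup.subset_closure (by simp)
  have hyA : y ∈ A := Subgroup.subset_closure (by simp)
  have hxN : Subgroup.zpowers x ≤ Subgroup.normalizer (A : Set P) := by
    rw [Subgroup.zpowers_le]
    apply H79.mem_normalizer_of_conj_mem
    intro a ha
    induction ha using Subgroup.closure_induction with
    | mem a ha =>
      rcases ha with rfl | rfl
      · rw [hcZ x, mul_inv_cancel_right]; exact hcA
      · have : x * a * x⁻¹ = c * a := by rw [hc, commutatorElement_def]; group
        rw [this]; exact A.mul_mem hcA hyA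
    | one => simp
    | mul a b _ _ h1 h2 =>
      have := A.mul_mem h1 h2
      simpa [mul_assoc] using this
    | inv a _ h1 =>
      have := A.inv_mem h1
      simpa [mul_assoc] using this
  have hdisj : A ⊓ Subgroup.zpowers x = ⊥ := by
    have : Fact (Nat.card (Subgroup.zpowers x)).Prime := ⟨by rw [Nat.card_zpowers, hord x hx1]; exact hp.out⟩
    rcases Subgroup.eq_bot_or_eq_top_of_prime_card ((A ⊓ Subgroup.zpowers x).subgroupOf (Subgroup.zpowers x)) with h | h
    · rwa [Subgroup.subgroupOf_eq_bot, disjoint_iff, inf_assoc, inf_idem] at h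
    · exfalso
      rw [Subgroup.subgroupOf_eq_top] at h
      exact hx (congrArg Subtype.val (hA.1.is_comm.comm ⟨x, (h (Subgroup.mem_zpowers x)).1⟩ ⟨y, hyA⟩))
  have hD : Nat.card (Subgroup.zpowers x ⊔ A : Subgroup P) = p ^ 3 := by
    rw [card_sup_of_disjoint hxN hdisj, Nat.card_zpowers, hord x hx1, hAc]
    ring
  -- an abelian subgroup of order at least `p³`
  have habel : ∀ (S : Set P), (∀ a ∈ S, ∀ b ∈ S, a * b = b * a) →
      IsMulCommutative (Subgroup.closure S) := fun S hS => Subgroup.isMulCommutative_closure hS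
  obtain ⟨B, hB, hB3⟩ : ∃ B : Subgroup P, IsMulCommutative B ∧ p ^ 3 ∣ Nat.card B := by
    set B0 := Subgroup.closure ((Z : Set P) ∪ {y}) with hB0
    have hS0 : ∀ a ∈ (Z : Set P) ∪ {y}, ∀ b ∈ (Z : Set P) ∪ {y}, a * b = b * a := by
      rintro a (ha | rfl) b (hb | rfl)
      · exact (Subgroup.mem_center_iff.1 ha b).symm
      · exact (Subgroup.mem_center_iff.1 ha _).symm
      · exact Subgroup.mem_center_iff.1 hb _
      · rfl
    obtain ⟨b, hb⟩ := IsPGroup.iff_card.1 (hP.to_subgroup B0)
    by_cases hb3 : 3 ≤ b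
    · exact ⟨B0, habel _ hS0, hb ▸ pow_dvd_pow p hb3⟩
    obtain ⟨a, ha⟩ := IsPGroup.iff_card.1 (hP.to_subgroup Z)
    have hZB : Z < B0 := lt_of_le_of_ne (fun z hz => Subgroup.subset_closure (Or.inl hz))
      (fun e => hyZ (e ▸ Subgroup.subset_closure (Or.inr rfl)))
    have hab : a < b := by
      refine lt_of_not_ge fun h => hZB.ne (Subgroup.eq_of_le_of_card_ge hZB.le ?_)
      rw [ha, hb]
      exact Nat.pow_le_pow_right hp.out.pos h
    have ha1 : 1 ≤ a := by
      by_contra h
      have := hP.center_nontrivial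
      have h1 := Finite.one_lt_card (α := Z)
      rw [ha, show a = 0 by omega, pow_zero] at h1
      omega
    let φ : P →* P := MonoidHom.mk' (fun g => ⁅g, y⁆) (fun g h => by
      have e : ⁅g * h, y⁆ = g * ⁅h, y⁆ * g⁻¹ * ⁅g, y⁆ := by
        simp only [commutatorElement_def]; group
      rw [e, Subgroup.mem_center_iff.1 (hcomm h) g, mul_inv_cancel_right]
      exact (Subgroup.mem_center_iff.1 (hcomm h) _).symm)
    have hker : p ^ n ≤ Nat.card φ.ker * p ^ a := by
      rw [← hn, ← ha, ← φ.ker.card_mul_index, Subgroup.index_ker]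
      exact Nat.mul_le_mul_left _ (Nat.le_of_dvd Nat.card_pos
        (Subgroup.card_dvd_of_le (by rintro _ ⟨g, rfl⟩; exact hcomm g)))
    have hnle : ¬ φ.ker ≤ B0 := by
      intro h
      have h1 := Nat.le_of_dvd Nat.card_pos (Subgroup.card_dvd_of_le h)
      rw [hb] at h1
      have h2 := hker.trans (Nat.mul_le_mul_right _ h1)
      rw [← pow_add] at h2
      have := (Nat.pow_le_pow_iff_right hp.out.one_lt).1 h2
      omega
    obtain ⟨w, hwk, hwB⟩ := SetLike.not_le_iff_exists.1 hnle
    have hwy : w * y = y * w := commutatorElement_eq_one_iff_commute.1 hwk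
    refine ⟨Subgroup.closure ((Z : Set P) ∪ {y, w}), habel _ ?_, ?_⟩
    · rintro u (hu | rfl | rfl) v (hv | rfl | rfl)
      all_goals first
        | rfl
        | exact hwy
        | exact hwy.symm
        | exact (Subgroup.mem_center_iff.1 hu _).symm
        | exact Subgroup.mem_center_iff.1 hv _
    · have hlt : B0 < Subgroup.closure ((Z : Set P) ∪ {y, w}) :=
        lt_of_le_of_ne (Subgroup.closure_mono (Set.union_subset_union_right _ (by simp)))
          (fun e => hwB (e ▸ Subgroup.subset_closure (Or.inr (Or.inr rfl))))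
      obtain ⟨d, hd⟩ := IsPGroup.iff_card.1 (hP.to_subgroup (Subgroup.closure ((Z : Set P) ∪ {y, w})))
      rw [hd]
      refine pow_dvd_pow p ?_
      have hbd : b < d := by
        refine lt_of_not_ge fun h => hlt.ne (Subgroup.eq_of_le_of_card_ge hlt.le ?_)
        rw [hb, hd]
        exact Nat.pow_le_pow_right hp.out.pos h
      omega
  obtain ⟨W, hW⟩ := Sylow.exists_subgroup_card_pow_prime p hB3
  have := hU (W.map B.subtype) (Subgroup.zpowers x ⊔ A)
    (by rw [Subgroup.card_map_of_injective B.subtype_injective, hW, hD]) inferInstance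
  exact hx (congrArg Subtype.val (this.is_comm.comm
    ⟨x, Subgroup.mem_sup_left (Subgroup.mem_zpowers x)⟩ ⟨y, Subgroup.mem_sup_right hyA⟩))

/-- Let p be a prime and G a finite group in which any two p-subgroups of the same order are conjugate, with Sylow p-subgroup P. Then P is cyclic, or elementary abelian, or p = 2 and P is a quaternion group of order 8, or p is odd and P is non-abelian of order p³ and exponent p. -/
theorem result {G : Type*} [Group G] [Finite G]
    {p : ℕ} [Fact p.Prime] (hC : ∀ H K : Subgroup G, IsPGroup p H → IsPGroup p K → Nat.card H = Nat.card K →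
      ∃ g : G, K = H.map (MulAut.conj g).toMonoidHom) (P : Sylow p G) :
    IsCyclic P ∨ Cfsg.IsElementaryAbelian p (P : Subgroup G) ∨
      (p = 2 ∧ Nonempty ((P : Subgroup G) ≃* QuaternionGroup 2)) ∨
      (p ≠ 2 ∧ ¬ IsMulCommutative P ∧ Nat.card P = p ^ 3 ∧ Monoid.exponent P = p) := by
  by_cases hp2 : p = 2
  · subst hp2
    rcases PConj.sylow_two hC P with h | h | h
    · exact Or.inl h
    · exact Or.inr (Or.inl h)
    · exact Or.inr (Or.inr (Or.inl ⟨rfl, h⟩))
  · rcases PConj.cyclic_or_exponent hC hp2 P with h | h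
    · exact Or.inl h
    by_cases hcom : IsMulCommutative P
    · exact Or.inr (Or.inl ⟨hcom, h⟩)
    refine Or.inr (Or.inr (Or.inr ⟨hp2, hcom, ?_, ?_⟩))
    · refine exp_prime_order (fun x => Subtype.ext (by simpa using h x x.2)) hcom ?_
      intro A B hAB hA
      have := PConj.commutative hC (P.2.to_le (Subgroup.map_subtype_le A))
        (P.2.to_le (Subgroup.map_subtype_le B))
        (by rw [Subgroup.card_map_of_injective (Subgroup.subtype_injective _),
          Subgroup.card_map_of_injective (Subgroup.subtype_injective _), hAB]) inferInstance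
      exact ⟨⟨fun a b => Subtype.ext (Subtype.ext (congrArg Subtype.val
        (this.is_comm.comm ⟨_, a, a.2, rfl⟩ ⟨_, b, b.2, rfl⟩) :))⟩⟩
    · refine ((Nat.dvd_prime Fact.out).1 (Monoid.exponent_dvd_of_forall_pow_eq_one
        (fun x : P => Subtype.ext (by simpa using h x x.2)))).resolve_left ?_
      intro he
      exact hcom ⟨⟨fun a b => by
        have := Monoid.exp_eq_one_iff.1 he
        exact Subsingleton.elim _ _⟩⟩

end Cfsg.Agent.S4023
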