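import Cfsg.Statements.S0742
import Cfsg.Agent.Lib.PermSmall.Kernel

set_option autoImplicit false
open Cfsg

namespace Cfsg.Agent.S0742

/-- A finite Zassenhaus group of degree `n + 1` with two-point stabilisers of even order `d` satisfying `2d ≤ n - 1` has `n = p^f` for an odd prime `p` and is isomorphic to `PSL(2, p^f)`. -/
theorem result {G Ω : Type*} [Group G] [Finite G] [MulAction G Ω] [Fintype Ω] (hZ : Cfsg.IsZassenhausGroup G Ω) {a b : Ω} (hab : a ≠ b) (heven : Even (Nat.card ↥(MulAction.stabilizer G a ⊓ MulAction.stabilizer G b))) (hd : 2 * Nat.card ↥(MulAction.stabilizer G a ⊓ MulAction.stabilizer G b) ≤ Fintype.card Ω - 2) : ∃ (p f : ℕ) (K : Type) (_ : Field K) (_ : Fintype K), p.Prime ∧ p ≠ 2 ∧ Fintype.card K = p ^ f ∧ Fintype.card Ω = p ^ f + 1 ∧ Nonempty (G ≃* Matrix.ProjectiveSpecialLinearGroup (Fin 2) K) := by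
  classical
  haveI := hZ.1
  set H := CfsgLib.PermSmall.Zassenhaus.pairStab G a b with hH
  have h3 := CfsgLib.PermSmall.Zassenhaus.three_le_card hZ hab
  have hle := CfsgLib.PermSmall.Zassenhaus.le_two_mul_card hZ hab heven
  have hdd : 2 * Nat.card H = Fintype.card Ω - 2 := le_antisymm hd hle
  set Z : Set G := {z : G | orderOf z = 2 ∧ (∃ x : Ω, z • x = x) ∧ z • a = b ∧ z • b = a} with hZdef
  have hm : 2 * Z.ncard = Fintype.card Ω - 2 :=
    CfsgLib.PermSmall.Zassenhaus.two_mul_swapping hZ hab heven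
  have hHpos : 0 < Nat.card H := Nat.card_pos
  obtain ⟨s, hs⟩ : Z.Nonempty := by
    rw [← Set.ncard_pos (Set.toFinite _)]; omega
  obtain ⟨hs2, ⟨c, hsc⟩, hsa, hsb⟩ := hs
  have hss := CfsgLib.PermSmall.Zassenhaus.sq_eq_one_of_orderOf hs2
  have hac : a ≠ c := fun e => hab (by rw [← hsa, e, hsc])
  have hbc : b ≠ c := fun e => hab (by rw [← hsb, e, hsc])
  -- all elements exchanging `a` and `b` are involutions
  have hall : ∀ h ∈ H, s * h ∈ Z := by
    have himg : (fun h : G => s * h) '' (H : Set G) = Z := by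
      refine (Set.eq_of_subset_of_ncard_le ?_ ?_ (Set.toFinite _)).symm
      · rintro z ⟨-, -, hza, hzb⟩
        refine ⟨s * z, CfsgLib.PermSmall.Zassenhaus.mem_pairStab.mpr ⟨?_, ?_⟩, ?_⟩
        · rw [mul_smul, hza, hsb]
        · rw [mul_smul, hzb, hsa]
        · show s * (s * z) = z
          rw [← mul_assoc, hss, one_mul]
      · refine le_trans (Set.ncard_image_le (Set.toFinite _)) ?_
        have : (H : Set G).ncard = Nat.card H := rfl
        omega
    intro h hh
    rw [← himg]
    exact ⟨h, hh, rfl⟩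
  have hinv : ∀ h ∈ H, s * h * s⁻¹ = h⁻¹ := by
    intro h hh
    have h1 := CfsgLib.PermSmall.Zassenhaus.sq_eq_one_of_orderOf (hall h hh).1
    rw [inv_eq_of_mul_eq_one_left hss, eq_inv_iff_mul_eq_one]
    rw [← mul_assoc] at h1
    exact h1
  have hHc : IsMulCommutative H := by
    refine ⟨⟨fun g k => Subtype.ext ?_⟩⟩
    have h1 := hinv _ (mul_mem g.2 k.2)
    rw [show s * ((g : G) * k) * s⁻¹ = (s * g * s⁻¹) * (s * k * s⁻¹) by group,
      hinv _ g.2, hinv _ k.2, mul_inv_rev] at h1
    have := congrArg (·⁻¹) h1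
    simpa using this.symm
  -- the kernel
  obtain ⟨F, hFc, hFmem⟩ := CfsgLib.PermSmall.Zassenhaus.exists_kernel hZ hab heven
  have hFle : F ≤ MulAction.stabilizer G a := fun g hg => by
    rcases (hFmem g).mp hg with rfl | h
    · exact one_mem _
    · exact (h a).mpr rfl
  have hFn : (F.subgroupOf (MulAction.stabilizer G a)).Normal := by
    refine ⟨fun u hu g => ?_⟩
    rw [Subgroup.mem_subgroupOf] at hu ⊢
    rw [hFmem] at hu ⊢
    rcases hu with hu | hu
    · left; simp [hu]
    · right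
      intro x
      simp only [Subgroup.coe_mul, Subgroup.coe_inv, mul_smul]
      rw [smul_eq_iff_eq_inv_smul, hu, inv_smul_eq_iff, g.2]
  have hfree : ∀ u ∈ F, ∀ x, x ≠ a → u • x = x → u = 1 := by
    intro u hu x hx hux
    rcases (hFmem u).mp hu with h | h
    · exact h
    · exact absurd ((h x).mp hux) hx
  have hcardF : Nat.card F = Fintype.card Ω - 1 := by
    have hset : (F : Set G) = insert 1 {g : G | CfsgLib.PermSmall.Zassenhaus.fixOnly a g} := by
      ext g; exact hFmem g
    have h1 : (1 : G) ∉ {g : G | CfsgLib.PermSmall.Zassenhaus.fixOnly a g} := fun h =>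
      hab ((h b).mp (one_smul G b)).symm
    show (F : Set G).ncard = _
    rw [hset, Set.ncard_insert_of_notMem h1 (Set.toFinite _)]
    have := CfsgLib.PermSmall.Zassenhaus.ncard_fixOnly hZ a
    omega
  have hreg : ∀ y z : Ω, y ≠ a → z ≠ a → ∃! u : F, (u : G) • y = z := by
    intro y z hy hz
    let f : F → {x : Ω // ¬ x = a} := fun u => ⟨(u : G) • y, fun e =>
      hy (smul_left_cancel (u : G) (e.trans (hFle u.2).symm))⟩
    have hf : Function.Bijective f := by
      refine (Nat.bijective_iff_injective_and_card _).mpr ⟨?_, ?_⟩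
      · intro u v e
        have e' : (u : G) • y = (v : G) • y := congrArg Subtype.val e
        apply Subtype.ext
        exact (inv_mul_eq_one.mp (hfree _ (mul_mem (inv_mem v.2) u.2) y hy
          (by rw [mul_smul, e', inv_smul_smul]))).symm
      · rw [hcardF, Nat.card_eq_fintype_card, Fintype.card_subtype_compl, Fintype.card_subtype_eq]
    obtain ⟨u, hu⟩ := hf.2 ⟨z, hz⟩
    exact ⟨u, congrArg Subtype.val hu, fun v hv => hf.1 (hu ▸ Subtype.ext hv)⟩
  obtain ⟨K, iF, iT, hchar, hK, hiso⟩ := CfsgLib.PermSmall.Recognition.psl_of_inverted hab hac hbc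
    (fun g h1 h2 h3' => CfsgLib.PermSmall.Zassenhaus.eq_one hZ hab hbc hac h1 h2 h3')
    F hFle hFn hFc hreg hHc
    (CfsgLib.PermSmall.Kernel.irreducible_of_large hZ hab hle hFle hreg)
    hdd heven s hsa hsb hsc hinv
  obtain ⟨p, hp, n, hpp, hpn⟩ := @FiniteField.card' K iF iT
  refine ⟨p, n, K, iF, iT, hpp, ?_, hpn, by omega, hiso⟩
  intro h2
  apply hchar
  subst h2
  exact ringChar.eq K 2

end Cfsg.Agent.S0742
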