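import Cfsg.Statements.S0727
import Cfsg.Agent.Lib.PermSmall.Kernel
import Mathlib.GroupTheory.FixedPointFree

set_option autoImplicit false
open Cfsg

namespace Cfsg.Agent.S0727

/-- A sharply triply transitive permutation group of degree `2^f + 1` is isomorphic to the projective general linear group of degree 2 over the field with `2^f` elements. -/
theorem result {α : Type*} [Fintype α] [DecidableEq α] {f : ℕ} (hf : 1 ≤ f) (hα : Fintype.card α = 2 ^ f + 1) (G : Subgroup (Equiv.Perm α)) (h3 : MulAction.IsMultiplyPretransitive G α 3) (hsharp : ∀ x : Fin 3 ↪ α, MulAction.stabilizer G x = ⊥) : ∃ (F : Type) (_ : Field F) (_ : Fintype F), Fintype.card F = 2 ^ f ∧ Nonempty (G ≃* Matrix.ProjGenLinGroup (Fin 2) F) := by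
  classical
  have hthree := CfsgLib.PermSmall.Kernel.three_of_stabilizer_embedding (G := G) hsharp
  have h2f : 2 ≤ 2 ^ f := le_trans (by norm_num) (Nat.pow_le_pow_right (by norm_num) hf)
  obtain ⟨a, b, c, hab, hac, hbc⟩ : ∃ a b c : α, a ≠ b ∧ a ≠ c ∧ b ≠ c := by
    have : 2 < (Finset.univ : Finset α).card := by rw [Finset.card_univ, hα]; omega
    obtain ⟨a, -, b, -, c, -, h1, h2, h3'⟩ := Finset.two_lt_card.mp this
    exact ⟨a, b, c, h1, h2, h3'⟩
  obtain ⟨htr, hd, F, hFle, hFn, hFc, -, hreg⟩ :=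
    CfsgLib.PermSmall.Kernel.sharplyThree (G := G) h3 hthree (by omega) hab
  obtain ⟨s, hs⟩ : ∃ s : G, s • a = b ∧ s • b = a ∧ s • c = c := by
    let u : Fin 3 ↪ α := ⟨![a, b, c], fun i j e => by
      fin_cases i <;> fin_cases j <;> simp [hab, hac, hbc, hab.symm, hac.symm, hbc.symm] at e ⊢⟩
    let v : Fin 3 ↪ α := ⟨![b, a, c], fun i j e => by
      fin_cases i <;> fin_cases j <;> simp [hab, hac, hbc, hab.symm, hac.symm, hbc.symm] at e ⊢⟩
    obtain ⟨g, hg⟩ := MulAction.exists_smul_eq G u v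
    exact ⟨g, DFunLike.congr_fun hg 0, DFunLike.congr_fun hg 1, DFunLike.congr_fun hg 2⟩
  obtain ⟨hsa, hsb, hsc⟩ := hs
  set H := CfsgLib.PermSmall.Zassenhaus.pairStab G a b with hH
  have hss : s * s = 1 := hthree _ a b c hab hbc hac (by rw [mul_smul, hsa, hsb])
    (by rw [mul_smul, hsb, hsa]) (by rw [mul_smul, hsc, hsc])
  have hfix : ∀ x, s • x = x → x = c := by
    intro x hx
    by_contra hxc
    have hs1 : s ≠ 1 := fun e => hab (by rw [← hsa, e, one_smul])
    have hmod := CfsgLib.PermSmall.Zassenhaus.fixedBy_modEq (Ω := α) hss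
    have hF : MulAction.fixedBy α s = {c, x} := by
      ext y
      refine ⟨fun hy => ?_, by rintro (rfl | rfl); exacts [hsc, hx]⟩
      by_contra hcon
      simp only [Set.mem_insert_iff, Set.mem_singleton_iff, not_or] at hcon
      exact hs1 (hthree s c x y (Ne.symm hxc) (Ne.symm hcon.2) (Ne.symm hcon.1) hsc hx hy)
    rw [Nat.card_coe_set_eq, hF, Set.ncard_pair (Ne.symm hxc), hα] at hmod
    obtain ⟨j, hj⟩ : 2 ∣ 2 ^ f := dvd_pow_self 2 (by omega)
    unfold Nat.ModEq at hmod
    omega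
  -- conjugation by `s` inverts the two-point stabiliser
  have hconj : ∀ h ∈ H, s * h * s⁻¹ ∈ H := by
    intro h hh
    have := CfsgLib.PermSmall.Zassenhaus.conj_mem_pairStab (g := s) hh
    rw [hsa, hsb] at this
    exact ⟨this.2, this.1⟩
  let φ : H →* H :=
    { toFun := fun h => ⟨s * (h : G) * s⁻¹, hconj h h.2⟩
      map_one' := Subtype.ext (by simp)
      map_mul' := fun h k => Subtype.ext (by simp) }
  have hsi : s⁻¹ = s := inv_eq_of_mul_eq_one_left hss
  have hfpf : MonoidHom.FixedPointFree φ := by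
    intro h hh
    have hcomm : s * (h : G) = h * s := mul_inv_eq_iff_eq_mul.mp (congrArg Subtype.val hh)
    have : s • ((h : G) • c) = (h : G) • c := by rw [← mul_smul, hcomm, mul_smul, hsc]
    exact Subtype.ext (hthree _ a b c hab hbc hac h.2.1 h.2.2 (hfix _ this))
  have hinvol : Function.Involutive φ := by
    intro h
    apply Subtype.ext
    show s * (s * (h : G) * s⁻¹) * s⁻¹ = h
    rw [hsi, ← mul_assoc, ← mul_assoc, hss, one_mul, mul_assoc, hss, mul_one]
  have hinv : ∀ h ∈ H, s * h * s⁻¹ = h⁻¹ := fun h hh =>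
    congrArg Subtype.val (congrFun (hfpf.coe_eq_inv_of_involutive hinvol) ⟨h, hh⟩)
  have hHc : IsMulCommutative H := ⟨⟨fun g k => hfpf.commute_all_of_involutive hinvol g k⟩⟩
  obtain ⟨K, iF, iT, hK, hiso⟩ := CfsgLib.PermSmall.Recognition.pgl_of_inverted hab hac hbc
    (fun g h1 h2 h3' => hthree g a b c hab hbc hac h1 h2 h3') F hFle hFn hFc hreg hHc
    (CfsgLib.PermSmall.Kernel.irreducible_of_transitive hab hFle
      (fun g hg u hu => hFn.conj_mem ⟨u, hFle hu⟩ hu ⟨g, hg.1⟩) hreg htr)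
    hd s hsa hsb hsc hinv
  exact ⟨K, iF, iT, by omega, hiso⟩

end Cfsg.Agent.S0727
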