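import Cfsg.Statements.S0340
import Cfsg.Agent.Lib.Zass29.SuzukiClassify
import Cfsg.Agent.S0344
import Cfsg.Agent.S0727
import Cfsg.Agent.S0731
import Cfsg.Agent.S0738

set_option autoImplicit false
open Cfsg

namespace Cfsg.Agent.S0340

/-- Classification of Zassenhaus groups, simple case, order-level form: a finite simple Zassenhaus group is
isomorphic to `PSL₂(F)` for some finite field `F` or is simple of Suzuki order. -/
theorem result {G Ω : Type*} [Group G] [Finite G] [MulAction G Ω]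
    [Finite Ω] (hZ : Cfsg.IsZassenhausGroup G Ω) [IsSimpleGroup G] :
    (∃ (F : Type) (_ : Field F) (_ : Fintype F), Nonempty (G ≃* Matrix.ProjectiveSpecialLinearGroup (Fin 2) F)) ∨ Cfsg.IsSuzuki G := by
  classical
  haveI := Fintype.ofFinite Ω
  haveI := hZ.1
  obtain ⟨g, -, a, b, hab, -, -⟩ := hZ.2.2.2.1
  rcases Nat.even_or_odd (Nat.card (CfsgLib.PermSmall.Zassenhaus.pairStab G a b)) with he | ho
  · obtain ⟨F, iF, iT, -, h⟩ := Cfsg.Agent.S0344.result hZ hab he
    exact Or.inl ⟨F, iF, iT, h⟩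
  obtain ⟨H, hHa, hHcard, hHfix⟩ := CfsgLib.PermSmall.FeitFrame.exists_translations hZ hab
  rcases CfsgLib.Zass29.FeitThm.feit hZ hab ho H hHa hHcard hHfix with hle | ⟨h2, hna, -⟩
  swap
  · exact Or.inr (CfsgLib.Zass29.isSuzuki_of_translations hZ hab ho H hHa hHcard hHfix h2 hna)
  obtain ⟨T, rfl⟩ := CfsgLib.PermSmall.FeitFrame.exists_frame hZ hab ho H hHa hHcard hHfix
  have hHn : (T.F.subgroupOf (MulAction.stabilizer G a)).Normal :=
    ⟨fun u hu k => T.F_norm _ k.2 _ hu⟩
  obtain ⟨hab', p, f, hp, -, hn⟩ := Cfsg.Agent.S0738.result hZ hab hle T.F T.F_le hHn T.regular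
  rcases Cfsg.Agent.S0731.result hZ a T.F T.F_le hHn hab' T.regular with ⟨h3, hsharp⟩ | ⟨K, iK, iT, -, h⟩
  swap
  · exact Or.inl ⟨K, iK, iT, h⟩
  -- the order of a two-point stabiliser is `n - 2`, so the degree is `2 ^ f + 1`
  have hthree := CfsgLib.PermSmall.Kernel.three_of_stabilizer_embedding (G := G) hsharp
  obtain ⟨c, hca, hcb⟩ := CfsgLib.PermSmall.Zassenhaus.exists_ne_ne hZ a b
  have hd : Nat.card (CfsgLib.PermSmall.Zassenhaus.pairStab G a b) = Fintype.card Ω - 2 := by
    have hmk : ∀ y : Ω, y ≠ a → y ≠ b → ∃ i : Fin 3 ↪ Ω, i 0 = a ∧ i 1 = b ∧ i 2 = y := fun y hya hyb =>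
      ⟨⟨![a, b, y], fun i j e => by
        fin_cases i <;> fin_cases j <;>
          simp [hab, hya, hyb, hab.symm, hya.symm, hyb.symm] at e ⊢⟩, rfl, rfl, rfl⟩
    rw [Nat.card_eq_of_bijective (fun k : CfsgLib.PermSmall.Zassenhaus.pairStab G a b =>
      (⟨(k : G) • c, fun e => hca (smul_left_cancel (k : G) (e.trans k.2.1.symm)),
        fun e => hcb (smul_left_cancel (k : G) (e.trans k.2.2.symm))⟩ : {y : Ω // y ≠ a ∧ y ≠ b})) ⟨?_, ?_⟩,
      Nat.card_eq_fintype_card, Fintype.card_subtype,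
      show (Finset.univ.filter fun y : Ω => y ≠ a ∧ y ≠ b) = Finset.univ \ {a, b} by ext; simp,
      Finset.card_sdiff_of_subset (Finset.subset_univ _), Finset.card_univ, Finset.card_pair hab]
    · intro k l e
      have e' : (k : G) • c = (l : G) • c := congrArg Subtype.val e
      refine Subtype.ext (inv_mul_eq_one.mp ?_).symm
      exact hthree _ a b c hab hcb.symm hca.symm
        (by rw [mul_smul, k.2.1, inv_smul_eq_iff, l.2.1])
        (by rw [mul_smul, k.2.2, inv_smul_eq_iff, l.2.2])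
        (by rw [mul_smul, e', inv_smul_smul])
    · rintro ⟨y, hya, hyb⟩
      obtain ⟨i, hi0, hi1, hi2⟩ := hmk c hca hcb
      obtain ⟨j, hj0, hj1, hj2⟩ := hmk y hya hyb
      obtain ⟨m, hm⟩ := MulAction.exists_smul_eq G i j
      have h0 : m • i 0 = j 0 := DFunLike.congr_fun hm 0
      have h1 : m • i 1 = j 1 := DFunLike.congr_fun hm 1
      have h2 : m • i 2 = j 2 := DFunLike.congr_fun hm 2
      rw [hi0, hj0] at h0
      rw [hi1, hj1] at h1
      rw [hi2, hj2] at h2
      exact ⟨⟨m, h0, h1⟩, Subtype.ext h2⟩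
  have hf : 1 ≤ f := by
    by_contra hf0
    have := CfsgLib.PermSmall.Zassenhaus.three_le_card hZ hab
    rw [hn, show f = 0 by omega, pow_zero] at this
    omega
  have hp2 : p = 2 := by
    rw [hd, hn] at ho
    rcases hp.eq_two_or_odd' with h | h
    · exact h
    · exfalso
      obtain ⟨r, hr⟩ := h.pow (n := f)
      obtain ⟨s, hs⟩ := ho
      omega
  subst hp2
  let φ : G →* Equiv.Perm Ω := MulAction.toPermHom G Ω
  have hφ : Function.Injective φ := MulAction.toPerm_injective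
  have h3' : MulAction.IsMultiplyPretransitive φ.range Ω 3 := ⟨fun i j => by
    obtain ⟨m, hm⟩ := MulAction.exists_smul_eq G i j
    exact ⟨⟨φ m, m, rfl⟩, by
      ext k
      exact DFunLike.congr_fun hm k⟩⟩
  have hs' : ∀ i : Fin 3 ↪ Ω, MulAction.stabilizer φ.range i = ⊥ := by
    intro i
    rw [eq_bot_iff]
    rintro ⟨_, m, rfl⟩ hk
    have hm : m • i = i := by
      ext k
      exact DFunLike.congr_fun hk k
    have : m = 1 := by
      have h' : m ∈ MulAction.stabilizer G i := hm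
      rwa [hsharp i, Subgroup.mem_bot] at h'
    subst this
    exact Subtype.ext (map_one φ)
  obtain ⟨K, iK, iT, hK, ⟨e⟩⟩ := Cfsg.Agent.S0727.result hf hn φ.range h3' hs'
  haveI : Finite K := Finite.of_fintype K
  have hchar : ringChar K = 2 := by
    rw [ringChar.eq_iff]
    obtain ⟨q, hq⟩ := CharP.exists K
    haveI := hq
    obtain ⟨n', hq', hcard⟩ := FiniteField.card K q
    have : q = 2 := by
      have h := hK ▸ hcard
      exact (Nat.prime_dvd_prime_iff_eq hq' Nat.prime_two).mp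
        (hq'.dvd_of_dvd_pow (h ▸ dvd_pow_self q n'.2.ne'))
    subst this
    exact hq
  have hroots : ∀ r : Kˣ, ∃ k : Kˣ, k ^ Fintype.card (Fin 2) = r := by
    intro r
    obtain ⟨k, hk⟩ := FiniteField.isSquare_of_char_two hchar (r : K)
    have hk0 : k ≠ 0 := fun e0 => r.ne_zero (by rw [hk, e0, mul_zero])
    exact ⟨Units.mk0 k hk0, Units.ext (by rw [Fintype.card_fin, pow_two]; exact hk.symm)⟩
  exact Or.inl ⟨K, iK, iT, ⟨(MonoidHom.ofInjective hφ).trans (e.trans (MulEquiv.ofBijective _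
    ⟨Matrix.ProjectiveSpecialLinearGroup.toPGL_injective,
      Matrix.ProjectiveSpecialLinearGroup.toPGL_surj_of_roots hroots⟩).symm)⟩⟩

end Cfsg.Agent.S0340
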