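import Cfsg.Statements.S3007
import Cfsg.Agent.Lib.ChermakDelgado.Basic

set_option autoImplicit false
open Cfsg

namespace Cfsg.Agent.S3007

/-- Let P be a finite p-group and Q, R minimal centrally large subgroups of P (centrally large: |Q|·|Z(Q)| maximal among subgroups of P; minimal among such under inclusion). Then Q = (Q ∩ R)·Z(Q), the derived subgroups [Q, Q] and [R, R] coincide, |Q| = |R| and |Z(Q)| = |Z(R)|; and if Q is abelian then the minimal centrally large subgroups of P are exactly the abelian subgroups of P of largest order. -/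
theorem result {p : ℕ} [Fact p.Prime] (P : Type*) [Group P] [Finite P] (hP : IsPGroup p P) (Q R : Subgroup P) (hQ : Cfsg.IsMinimalCentrallyLarge Q) (hR : Cfsg.IsMinimalCentrallyLarge R) : (Q ⊓ R) ⊔ (Q ⊓ Subgroup.centralizer (Q : Set P)) = Q ∧ ⁅Q, Q⁆ = ⁅R, R⁆ ∧ Nat.card ↥Q = Nat.card ↥R ∧ Nat.card ↥(Q ⊓ Subgroup.centralizer (Q : Set P)) = Nat.card ↥(R ⊓ Subgroup.centralizer (R : Set P)) ∧ (IsMulCommutative ↥Q → ∀ X : Subgroup P, Cfsg.IsMinimalCentrallyLarge X ↔ X ∈ Cfsg.maxAbelianSubgroups P) := by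
  have hcard := CfsgLib.ChermakDelgado.minimalCL_card_eq hQ hR
  have hZ : ∀ X : Subgroup P, Cfsg.IsMinimalCentrallyLarge X →
      X ⊓ Subgroup.centralizer (X : Set P) = Subgroup.centralizer (X : Set P) :=
    fun X hX => inf_eq_right.2 (CfsgLib.ChermakDelgado.cl_le hX.1)
  have hcomm : ∀ X Y : Subgroup P, Cfsg.IsMinimalCentrallyLarge X → Cfsg.IsMinimalCentrallyLarge Y →
      ⁅X, X⁆ = ⁅Y, Y⁆ := by
    intro X Y hX hY
    rw [CfsgLib.ChermakDelgado.commutator_eq_commutator_inf hX hY.1,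
      CfsgLib.ChermakDelgado.commutator_eq_commutator_inf hY hX.1, inf_comm]
  refine ⟨?_, hcomm Q R hQ hR, hcard.1, by rw [hZ Q hQ, hZ R hR, hcard.2], fun hab => ?_⟩
  · rw [hZ Q hQ]; exact CfsgLib.ChermakDelgado.minimalCL_decomp hQ hR.1
  have hQc : Q ≤ Subgroup.centralizer (Q : Set P) := (CfsgLib.ChermakDelgado.comm_iff Q).1 hab
  have hQeq : Subgroup.centralizer (Q : Set P) = Q := le_antisymm (CfsgLib.ChermakDelgado.cl_le hQ.1) hQc
  have hle : ∀ B : Subgroup P, IsMulCommutative B → Nat.card B ≤ Nat.card Q := by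
    intro B hB
    have h1 := (Nat.mul_le_mul_left (Nat.card B) (CfsgLib.ChermakDelgado.card_le_of_le'
      ((CfsgLib.ChermakDelgado.comm_iff B).1 hB))).trans (CfsgLib.ChermakDelgado.le_maxCentralizerProduct B)
    rw [← show _ = Cfsg.maxCentralizerProduct P from CfsgLib.ChermakDelgado.cl_large hQ.1, hQeq] at h1
    exact Nat.mul_self_le_mul_self_iff.1 h1
  have habel : ∀ X : Subgroup P, Cfsg.IsMinimalCentrallyLarge X → IsMulCommutative X := by
    intro X hX
    rw [CfsgLib.ChermakDelgado.comm_iff, ← Subgroup.commutator_eq_bot_iff_le_centralizer, hcomm X Q hX hQ,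
      Subgroup.commutator_eq_bot_iff_le_centralizer]
    exact hQc
  intro X
  constructor
  · exact fun hX => ⟨habel X hX, fun B hB => (CfsgLib.ChermakDelgado.minimalCL_card_eq hX hQ).1 ▸ hle B hB⟩
  · intro hX
    have hXc := CfsgLib.ChermakDelgado.centralizer_maxAb hX
    have hge : Nat.card Q ≤ Nat.card X := hX.2 Q hab
    have hl : Cfsg.IsCentralizerLarge X := by
      refine CfsgLib.ChermakDelgado.large_of_ge (CfsgLib.ChermakDelgado.cl_large hQ.1) ?_
      rw [hXc, hQeq]; exact Nat.mul_le_mul hge hge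
    obtain ⟨M, hM, hMX⟩ := CfsgLib.ChermakDelgado.exists_minimalCL_le
      ((CfsgLib.ChermakDelgado.centrallyLarge_iff X).2 ⟨hl, hXc.le⟩)
    have hMX' : M = X := Subgroup.eq_of_le_of_card_ge hMX
      ((CfsgLib.ChermakDelgado.minimalCL_card_eq hQ hM).1 ▸ hle X hX.1)
    exact hMX' ▸ hM

end Cfsg.Agent.S3007
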