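import Cfsg.Statements.S2990
import Cfsg.Agent.Lib.PushingUp.CentrallyLarge
import Cfsg.Agent.S3007
-- import your own Cfsg.Agent.* helpers here

set_option autoImplicit false
open Cfsg CfsgLib.ChermakDelgado CfsgLib.PushingUp

namespace Cfsg.Agent.S2990

/-- Let G be a finite group and S a Sylow p-subgroup of G in the basic pushing-up situation (G ≠ 1, C_G(O_p(G)) ≤ O_p(G), S lies in a unique maximal subgroup of G, and some quotient of G is isomorphic to PSL₂ over a field of order a power of p), and suppose that S centralizes Z(J(S)), where J(S) is generated by the abelian subgroups of S of largest order (that is, J̃(S) = C_S(Z(J(S))) = S). Call a subgroup R of S centrally large if |R|·|Z(R)| is as large as possible among subgroups of S, let Q be a minimal centrally large subgroup of S and let S_MCL be the subgroup generated by all minimal centrally large subgroups of S. Then the derived subgroup [Q, Q] is characteristic in S; Z(S) ∩ [Q, Q] or S_MCL is normal in G; and if [Q,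 Q] = 1, the minimal centrally large subgroups of S are exactly the abelian subgroups of S of largest order. -/
theorem result {G : Type*} [Group G] [Finite G] {p : ℕ} [Fact p.Prime] (S : Subgroup G) (hE : Cfsg.IsPushingUpSituation p S) (hJ : S ≤ Subgroup.centralizer (Cfsg.centerThompsonAOf S : Set G)) (Q : Subgroup ↥S) (hQ : Cfsg.IsMinimalCentrallyLarge Q) : (⁅Q, Q⁆).Characteristic ∧ (((S ⊓ Subgroup.centralizer (S : Set G)) ⊓ (⁅Q, Q⁆).map S.subtype).Normal ∨ ((Cfsg.minimalCentrallyLargeJoin ↥S).map S.subtype).Normal) ∧ (⁅Q, Q⁆ = ⊥ → ∀ R : Subgroup ↥S, Cfsg.IsMinimalCentrallyLarge R ↔ R ∈ Cfsg.maxAbelianSubgroups ↥S) := by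
  have hcomm : ∀ X Y : Subgroup ↥S, IsMinimalCentrallyLarge X → IsMinimalCentrallyLarge Y → ⁅X, X⁆ = ⁅Y, Y⁆ := by
    intro X Y hX hY
    rw [commutator_eq_commutator_inf hX hY.1, commutator_eq_commutator_inf hY hX.1, inf_comm]
  refine ⟨?_, ?_, fun hab R => ?_⟩
  · rw [Subgroup.characteristic_iff_map_eq]
    intro φ
    rw [Subgroup.map_commutator]
    exact hcomm _ _ (minimalCL_map φ hQ) hQ
  swap
  · exact (Cfsg.Agent.S3007.result ↥S (isPGroup_self hE) Q Q hQ hQ).2.2.2.2
      ((comm_iff Q).2 (Subgroup.commutator_eq_bot_iff_le_centralizer.1 hab)) R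
  set Z := (S ⊓ Subgroup.centralizer (S : Set G)) ⊓ (⁅Q, Q⁆).map S.subtype with hZ
  by_cases hnc : Z ≤ Subgroup.center G
  · exact Or.inl ⟨fun n hn g => by
      rw [Subgroup.mem_center_iff.1 (hnc hn) g, mul_inv_cancel_right]; exact hn⟩
  right
  have hZS : Z ≤ S := inf_le_left.trans inf_le_left
  have hZc : Z ≤ Subgroup.centralizer (S : Set G) := inf_le_left.trans inf_le_right
  obtain ⟨Q₀, hQ₀, hQ₀T⟩ := exists_minimalCL_le_core hE hZS hZc hnc hJ
  -- central elements of the common derived subgroup are centralized by all minimal centrally large subgroups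
  have hz0 : ∀ X : Subgroup ↥S, IsMinimalCentrallyLarge X → ∀ z, z ∈ ⁅X, X⁆ →
      z ∈ Subgroup.centralizer (X : Set ↥S) →
      ∀ R : Subgroup ↥S, IsMinimalCentrallyLarge R → z ∈ Subgroup.centralizer (R : Set ↥S) := by
    intro X hX z hz hzC R hR
    rw [← minimalCL_decomp hR hX.1, centralizer_sup]
    refine ⟨cent_mono inf_le_right hzC, le_centralizer_centralizer R ?_⟩
    rw [hcomm X R hX hR] at hz
    exact Subgroup.commutator_le_self R hz
  set J := Cfsg.minimalCentrallyLargeJoin ↥S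
  have hV : Subgroup.normalClosure (Z : Set G) ≤
      (Subgroup.centralizer (J : Set ↥S)).map S.subtype := by
    refine (Subgroup.closure_le _).2 fun y hy => ?_
    obtain ⟨b, hb, hc⟩ := Group.mem_conjugatesOfSet_iff.1 hy
    obtain ⟨g, rfl⟩ := isConj_iff.1 hc
    obtain ⟨z, hz, rfl⟩ := hb.2
    rw [hcomm Q Q₀ hQ hQ₀] at hz
    have hzC : z ∈ Subgroup.centralizer (Q₀ : Set ↥S) := Subgroup.mem_centralizer_iff.2 fun x _ =>
      Subtype.ext (Subgroup.mem_centralizer_iff.1 hb.1.2 x x.2)
    obtain ⟨hX, hXC⟩ := minimalCL_cjS hE hQ₀ hQ₀T g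
    have hzT : z ∈ coreIn p S := hQ₀T (Subgroup.commutator_le_self Q₀ hz)
    have hgS : g * z * g⁻¹ ∈ S := pCore_le hE ((pCore_normal p G).conj_mem _ hzT g)
    refine ⟨⟨g * z * g⁻¹, hgS⟩, Subgroup.le_centralizer_iff.1 (sSup_le fun R hR => ?_) (Subgroup.mem_zpowers _), rfl⟩
    rw [Subgroup.le_centralizer_iff, Subgroup.zpowers_le]
    refine hz0 _ hX _ ?_ ?_ R hR
    · have h2 : (g * z * g⁻¹ : G) ∈ (⁅cjS g Q₀, cjS g Q₀⁆).map S.subtype := by
        rw [Subgroup.map_commutator, map_cjS hE hQ₀T, ← Subgroup.map_commutator, ← Subgroup.map_commutator]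
        exact ⟨_, ⟨z, hz, rfl⟩, rfl⟩
      obtain ⟨w, hw, hwe⟩ := h2
      have : w = ⟨g * z * g⁻¹, hgS⟩ := Subtype.ext hwe
      exact this ▸ hw
    · rw [← hXC]
      exact mem_cjS hzC hgS
  have hJT : J ≤ coreIn p S := by
    intro x hx
    show (x : G) ∈ Cfsg.pCore p G
    rw [← inf_centralizer_closure hE hZS hZc hnc]
    refine ⟨x.2, Subgroup.mem_centralizer_iff.2 fun v hv => ?_⟩
    obtain ⟨w, hw, rfl⟩ := hV hv
    exact congrArg Subtype.val (Subgroup.mem_centralizer_iff.1 hw x hx).symm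
  refine normal_of_conj_le fun g => ?_
  rw [show J = sSup _ from rfl, sSup_eq_iSup', Subgroup.map_iSup, Subgroup.map_iSup]
  refine iSup_le fun R => ?_
  have hRT : (R : Subgroup ↥S) ≤ coreIn p S := (le_sSup R.2).trans hJT
  rw [← map_cjS hE hRT]
  exact le_iSup (fun R : {X : Subgroup ↥S | IsMinimalCentrallyLarge X} => (R : Subgroup ↥S).map S.subtype)
    ⟨_, (minimalCL_cjS hE R.2 hRT g).1⟩

end Cfsg.Agent.S2990
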