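import Cfsg.Statements.S1304
import Mathlib.Tactic.Group
import Mathlib.GroupTheory.Commutator.Basic

set_option autoImplicit false
open Cfsg
open scoped commutatorElement Pointwise

namespace Cfsg.Agent.S1304

/-- Let X be a perfect group and α an automorphism of X with α(x) x⁻¹ central for every x. Then α is the identity. -/
theorem result {X : Type*} [Group X] (hperf : commutator X = ⊤) (α : X ≃* X) (h : ∀ x : X, α x * x⁻¹ ∈ Subgroup.center X) : ∀ x : X, α x = x := by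
  let N : Subgroup X := MonoidHom.eqLocus α.toMonoidHom (MonoidHom.id X)
  have hle : commutator X ≤ N := by
    rw [commutator_def, Subgroup.commutator_le]
    intro a _ b _
    show α ⁅a, b⁆ = ⁅a, b⁆
    have hz := Subgroup.mem_center_iff.1 (h a)
    have hw := Subgroup.mem_center_iff.1 (h b)
    have ea : α a = α a * a⁻¹ * a := by group
    have eb : α b = α b * b⁻¹ * b := by group
    rw [map_commutatorElement, ea, eb]
    clear ea eb
    generalize α a * a⁻¹ = z at hz ⊢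
    generalize α b * b⁻¹ = w at hw ⊢
    rw [commutatorElement_def, commutatorElement_def, mul_inv_rev, mul_inv_rev]
    calc z * a * (w * b) * (a⁻¹ * z⁻¹) * (b⁻¹ * w⁻¹)
        = z * (a * w) * b * a⁻¹ * z⁻¹ * b⁻¹ * w⁻¹ := by group
      _ = z * (w * a) * b * a⁻¹ * z⁻¹ * b⁻¹ * w⁻¹ := by rw [hw a]
      _ = (z * w) * (a * b * a⁻¹) * z⁻¹ * b⁻¹ * w⁻¹ := by group
      _ = (w * z) * (a * b * a⁻¹) * z⁻¹ * b⁻¹ * w⁻¹ := by rw [hw z]
      _ = w * (z * (a * b * a⁻¹)) * z⁻¹ * b⁻¹ * w⁻¹ := by group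
      _ = w * ((a * b * a⁻¹) * z) * z⁻¹ * b⁻¹ * w⁻¹ := by rw [hz (a * b * a⁻¹)]
      _ = w * (a * b * a⁻¹ * b⁻¹) * w⁻¹ := by group
      _ = (a * b * a⁻¹ * b⁻¹) * w * w⁻¹ := by rw [hw (a * b * a⁻¹ * b⁻¹)]
      _ = a * b * a⁻¹ * b⁻¹ := by group
  intro x
  have hx : x ∈ N := hle (by rw [hperf]; trivial)
  exact hx

end Cfsg.Agent.S1304
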