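import Cfsg.Statements.S0042
import Cfsg.Agent.Lib.Frobenius.FPFThompson
import Cfsg.Agent.Lib.Frobenius.Theorem
import Cfsg.Agent.Lib.Frobenius.Basic

set_option autoImplicit false
open Cfsg

namespace Cfsg.Agent.S0042

/-- In a finite Frobenius group, the Frobenius kernel is (the carrier of) a normal subgroup which is nilpotent. -/
theorem result {G : Type*} [Group G] [Finite G] (H : Subgroup G) (hH : Cfsg.IsFrobeniusComplement H) :
    ∃ N : Subgroup G, (N : Set G) = Cfsg.frobeniusKernel H ∧ N.Normal ∧ Group.IsNilpotent N := by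
  obtain ⟨N, hN, hNn, hc⟩ := CfsgLib.Frobenius.exists_normal_kernel hH
  refine ⟨N, hN, hNn, ?_⟩
  obtain ⟨p, hp, hpd⟩ := Nat.exists_prime_and_dvd ((Subgroup.one_lt_card_iff_ne_bot H).2 hH.1).ne'
  haveI := Fact.mk hp
  obtain ⟨⟨h, hh⟩, hord⟩ := exists_prime_orderOf_dvd_card' p hpd
  rw [Subgroup.orderOf_mk] at hord
  refine CfsgLib.Frobenius.Thompson.isNilpotent_of_element N (h := h)
    (by rw [Subgroup.normalizer_eq_top N]; trivial) hp (hord ▸ pow_orderOf_eq_one h) ?_
  intro k hk hcomm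
  refine CfsgLib.Frobenius.eq_one_of_commute hH hc.disjoint hk hh ?_ hcomm
  rintro rfl
  rw [orderOf_one] at hord
  exact hp.ne_one hord.symm

end Cfsg.Agent.S0042
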