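import Mathlib
import Cfsg.Statements.S0432

set_option autoImplicit false
open Cfsg
open scoped Pointwise symmDiff

namespace Cfsg.Agent.S0432

/-- Coordinate permutations from the code's group preserve the lattice. -/
theorem result (σ : Equiv.Perm Cfsg.GolayPt) (hσ : σ ∈ Cfsg.M24) (x : Cfsg.GolayPt → ℤ) (hx : x ∈ Cfsg.leechLattice) : (fun i => x (σ i)) ∈ Cfsg.leechLattice := by
  refine AddSubgroup.closure_induction (p := fun y _ => (fun i => y (σ i)) ∈ Cfsg.leechLattice)
    ?_ ?_ ?_ ?_ hx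
  · rintro y ⟨m, h1, h2, h3⟩
    apply AddSubgroup.subset_closure
    refine ⟨m, fun i => h1 (σ i), ?_, fun k => ?_⟩
    · rwa [Equiv.sum_comp σ y]
    · have hσ' : σ⁻¹ • Cfsg.supports (Cfsg.golayCode : Set (Cfsg.GolayPt → ZMod 2)) =
          Cfsg.supports (Cfsg.golayCode : Set (Cfsg.GolayPt → ZMod 2)) :=
        MulAction.mem_stabilizer_iff.mp (inv_mem hσ)
      rw [← hσ']
      refine ⟨Finset.univ.filter fun i => y i ≡ k [ZMOD 4], h3 k, ?_⟩
      ext i
      simp only [Finset.mem_inv_smul_finset_iff, Finset.mem_filter, Finset.mem_univ, true_and,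
        Equiv.Perm.smul_def]
  · exact zero_mem _
  · intro y z _ _ hy hz
    exact add_mem hy hz
  · intro y _ hy
    exact neg_mem hy

end Cfsg.Agent.S0432
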