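import Mathlib
import Cfsg.Statements.S0433

set_option autoImplicit false
open Cfsg
open scoped Pointwise symmDiff

namespace Cfsg.Agent.S0433

/-- Common support size of two binary words, modulo 2, and the weight modulo 4. -/
private def gen : Option (ZMod 23) → (Cfsg.GolayPt → ZMod 2)
  | none => 1
  | some t => Cfsg.qrWord t

private lemma gen_range : Set.range gen = Set.range Cfsg.qrWord ∪ {1} := by
  ext v
  constructor
  · rintro ⟨_ | t, rfl⟩
    · exact Or.inr rfl
    · exact Or.inl ⟨t, rfl⟩
  · rintro (⟨t, rfl⟩ | rfl)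
    · exact ⟨some t, rfl⟩
    · exact ⟨none, rfl⟩

/-- An integer lift of a binary word. -/
private def lift (v : Cfsg.GolayPt → ZMod 2) (i : Cfsg.GolayPt) : ℕ := (v i).val

private lemma gen_orth : ∀ a b, (∑ i, gen a i * gen b i) = 0 := by decide +kernel

private lemma gen_weight : ∀ a, 4 ∣ ∑ i, lift (gen a) i := by decide +kernel

private lemma orth {v w : Cfsg.GolayPt → ZMod 2} (hv : v ∈ Cfsg.golayCode)
    (hw : w ∈ Cfsg.golayCode) : ∑ i, v i * w i = 0 := by
  rw [Cfsg.golayCode, ← gen_range] at hv hw
  induction hv, hw using Submodule.span_induction₂ with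
  | mem_mem x y hx hy => obtain ⟨a, rfl⟩ := hx; obtain ⟨b, rfl⟩ := hy; exact gen_orth a b
  | zero_left y hy => simp
  | zero_right x hx => simp
  | add_left x y z hx hy hz h1 h2 => simp [add_mul, Finset.sum_add_distrib, h1, h2]
  | add_right x y z hx hy hz h1 h2 => simp [mul_add, Finset.sum_add_distrib, h1, h2]
  | smul_left r x y hx hy h => simp [mul_assoc, ← Finset.mul_sum, h]
  | smul_right r x y hx hy h => simp [mul_left_comm, ← Finset.mul_sum, h]

private lemma lift_add (v w : Cfsg.GolayPt → ZMod 2) (i : Cfsg.GolayPt) :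
    lift (v + w) i + 2 * (v i * w i).val = lift v i + lift w i := by
  simp only [lift, Pi.add_apply]
  generalize v i = a
  generalize w i = b
  revert a b
  decide

private lemma weight {v : Cfsg.GolayPt → ZMod 2} (hv : v ∈ Cfsg.golayCode) :
    4 ∣ ∑ i, lift v i := by
  induction hv using Submodule.span_induction with
  | mem x hx => rw [← gen_range] at hx; obtain ⟨a, rfl⟩ := hx; exact gen_weight a
  | zero => simp [lift]
  | add x y hx hy h1 h2 =>
    have hs : ∑ i, lift (x + y) i + 2 * ∑ i, (x i * y i).val = ∑ i, lift x i + ∑ i, lift y i := by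
      rw [Finset.mul_sum, ← Finset.sum_add_distrib, ← Finset.sum_add_distrib]
      exact Finset.sum_congr rfl fun i _ => lift_add x y i
    have he : 2 ∣ ∑ i, (x i * y i).val := by
      rw [← ZMod.natCast_eq_zero_iff]
      push_cast
      simpa [ZMod.natCast_val] using orth hx hy
    omega
  | smul r x hx h =>
    rcases (show ∀ r : ZMod 2, r = 0 ∨ r = 1 by decide) r with rfl | rfl
    · rw [zero_smul]; simp [lift]
    · rwa [one_smul]

private lemma ite_add_ite : ∀ a b : ZMod 2, a + b ≠ 0 ↔ ¬ ((a ≠ 0) ↔ (b ≠ 0)) := by decide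

private lemma mem_supports {A : Finset Cfsg.GolayPt} :
    A ∈ Cfsg.supports (Cfsg.golayCode : Set (Cfsg.GolayPt → ZMod 2)) ↔
      (fun i => if i ∈ A then (1 : ZMod 2) else 0) ∈ Cfsg.golayCode := by
  constructor
  · rintro ⟨v, hv, rfl⟩
    show (fun i => if i ∈ Cfsg.support₂ v then (1 : ZMod 2) else 0) ∈ Cfsg.golayCode
    convert (show v ∈ Cfsg.golayCode from hv) using 1
    ext i
    simp only [Cfsg.support₂, Finset.mem_filter, Finset.mem_univ, true_and]
    generalize v i = a
    revert a; decide
  · intro h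
    refine ⟨_, h, ?_⟩
    ext i
    simp [Cfsg.support₂]

private lemma symmDiff_mem {A B : Finset Cfsg.GolayPt}
    (hA : A ∈ Cfsg.supports (Cfsg.golayCode : Set (Cfsg.GolayPt → ZMod 2)))
    (hB : B ∈ Cfsg.supports (Cfsg.golayCode : Set (Cfsg.GolayPt → ZMod 2))) :
    symmDiff A B ∈ Cfsg.supports (Cfsg.golayCode : Set (Cfsg.GolayPt → ZMod 2)) := by
  rw [mem_supports] at *
  convert add_mem hA hB using 1
  ext i
  by_cases h1 : i ∈ A <;> by_cases h2 : i ∈ B <;> simp [Finset.mem_symmDiff, h1, h2] <;> rfl

private lemma inter_even {A B : Finset Cfsg.GolayPt}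
    (hA : A ∈ Cfsg.supports (Cfsg.golayCode : Set (Cfsg.GolayPt → ZMod 2)))
    (hB : B ∈ Cfsg.supports (Cfsg.golayCode : Set (Cfsg.GolayPt → ZMod 2))) :
    2 ∣ (A ∩ B).card := by
  rw [mem_supports] at hA hB
  have h := orth hA hB
  rw [← ZMod.natCast_eq_zero_iff, ← h]
  simp [Finset.sum_ite_mem, Finset.inter_comm]

private lemma card_mod {A : Finset Cfsg.GolayPt}
    (hA : A ∈ Cfsg.supports (Cfsg.golayCode : Set (Cfsg.GolayPt → ZMod 2))) : 4 ∣ A.card := by
  rw [mem_supports] at hA
  have h := weight hA
  convert h using 1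
  rw [Finset.card_eq_sum_ones]
  simp only [lift, apply_ite ZMod.val, ZMod.val_one, ZMod.val_zero, Finset.sum_ite_mem,
    Finset.univ_inter]

/-- Negation on the support of a codeword maps the generating set into itself. -/
private lemma flip_mem {c : Finset Cfsg.GolayPt}
    (hc : c ∈ Cfsg.supports (Cfsg.golayCode : Set (Cfsg.GolayPt → ZMod 2)))
    {y : Cfsg.GolayPt → ℤ} (hy : y ∈ Cfsg.leechSet) :
    (fun i => if i ∈ c then -y i else y i) ∈ Cfsg.leechSet := by
  obtain ⟨m, h1, h2, h3⟩ := hy
  refine ⟨m, fun i => ?_, ?_, fun k => ?_⟩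
  · have := h1 i
    simp only [Int.ModEq] at this ⊢
    split_ifs <;> omega
  · -- the sum changes by twice the sum over `c`, which is divisible by 8
    have hsum : ∑ i, (if i ∈ c then -y i else y i) = ∑ i, y i - 2 * ∑ i ∈ c, y i := by
      have h4 : ∑ i ∈ c, y i = ∑ i, (if i ∈ c then y i else 0) := by
        rw [Finset.sum_ite_mem, Finset.univ_inter]
      rw [h4, Finset.mul_sum, ← Finset.sum_sub_distrib]
      exact Finset.sum_congr rfl fun i _ => by split_ifs <;> ring
    have hc4 : (4 : ℤ) ∣ ∑ i ∈ c, y i := by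
      obtain ⟨j, hj⟩ := card_mod hc
      obtain ⟨l, hl⟩ := inter_even hc (h3 (m + 2))
      have hpt : ∀ i, (4 : ℤ) ∣ y i - m - (if y i ≡ m + 2 [ZMOD 4] then 2 else 0) := by
        intro i
        have := h1 i
        simp only [Int.ModEq] at this ⊢
        split_ifs <;> omega
      have h5 : (4 : ℤ) ∣ ∑ i ∈ c, (y i - m - (if y i ≡ m + 2 [ZMOD 4] then 2 else 0)) :=
        Finset.dvd_sum fun i _ => hpt i
      have h6 : ∑ i ∈ c, (if y i ≡ m + 2 [ZMOD 4] then (2 : ℤ) else 0) = 4 * l := by
        rw [← Finset.sum_filter, Finset.sum_const]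
        have : (Finset.filter (fun i => y i ≡ m + 2 [ZMOD 4]) c).card = 2 * l := by
          rw [← hl]; congr 1; ext i; simp
        rw [this]; simp; ring
      rw [Finset.sum_sub_distrib, Finset.sum_sub_distrib, h6, Finset.sum_const, hj] at h5
      obtain ⟨q, hq⟩ := h5
      refine ⟨q + j * m + l, ?_⟩
      simp at hq
      linarith
    obtain ⟨q, hq⟩ := hc4
    simp only [Int.ModEq, hsum, hq] at h2 ⊢
    omega
  · show Finset.univ.filter (fun i => (if i ∈ c then -y i else y i) ≡ k [ZMOD 4]) ∈ _
    by_cases hk : (m - k) % 2 = 0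
    · by_cases hm : m % 2 = 0
      · convert h3 k using 1
        ext i
        have := h1 i
        simp only [Finset.mem_filter, Finset.mem_univ, true_and]
        simp only [Int.ModEq] at this ⊢
        split_ifs <;> omega
      · convert symmDiff_mem (h3 k) hc using 1
        ext i
        have := h1 i
        simp only [Finset.mem_symmDiff, Finset.mem_filter, Finset.mem_univ, true_and]
        simp only [Int.ModEq] at this ⊢
        by_cases hi : i ∈ c <;> simp only [hi, if_true, if_false, not_true_eq_false,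
          not_false_eq_true, and_true, and_false, false_or, or_false, true_and, false_and] <;>
          omega
    · convert h3 k using 1
      ext i
      have := h1 i
      simp only [Finset.mem_filter, Finset.mem_univ, true_and]
      simp only [Int.ModEq] at this ⊢
      split_ifs <;> omega

/-- Sign changes on the support of a codeword preserve the lattice. -/
theorem result (c : Finset Cfsg.GolayPt) (hc : c ∈ Cfsg.supports (Cfsg.golayCode : Set (Cfsg.GolayPt → ZMod 2))) (x : Cfsg.GolayPt → ℤ) (hx : x ∈ Cfsg.leechLattice) : (fun i => if i ∈ c then -x i else x i) ∈ Cfsg.leechLattice := by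
  refine AddSubgroup.closure_induction
    (p := fun y _ => (fun i => if i ∈ c then -y i else y i) ∈ Cfsg.leechLattice)
    (fun y hy => AddSubgroup.subset_closure (flip_mem hc hy)) ?_ ?_ ?_ hx
  · convert zero_mem Cfsg.leechLattice using 1
    ext i; simp
  · intro y z _ _ hy hz
    convert add_mem hy hz using 1
    ext i; simp only [Pi.add_apply]; split_ifs <;> ring
  · intro y _ hy
    convert neg_mem hy using 1
    ext i; simp only [Pi.neg_apply]; split_ifs <;> ring

end Cfsg.Agent.S0433
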