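import Cfsg.Statements.S3961
import Cfsg.Agent.Lib.SchurCover.Perfect

set_option autoImplicit false
universe u v
open Cfsg

namespace Cfsg.Agent.S3961

/-- Let `π : G →* Q` be a surjective homomorphism with central kernel from a finite perfect group `G` (a perfect cover of `Q`). Then `π` is universal, in the sense that every surjective homomorphism `ξ : X →* Q` with central kernel from a group `X` in the universe of `G` admits a homomorphism `η : G →* X` with `ξ ∘ η = π`, if and only if `G` has trivial Schur multiplier. -/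
theorem result {G : Type u} {Q : Type v} [Group G] [Group Q] [Finite G] (hG : Group.IsPerfect G) (π : G →* Q) (hπ : Function.Surjective π) (hker : π.ker ≤ Subgroup.center G) : (∀ (X : Type u) [Group X] (ξ : X →* Q), Function.Surjective ξ → ξ.ker ≤ Subgroup.center X → ∃ η : G →* X, ξ.comp η = π) ↔ Cfsg.HasCyclicSchurMultiplier G 1 := by
  constructor
  · intro huniv
    refine CfsgLib.SchurCover.hasCyclicSchurMultiplier_one_of_stem G fun Γ _ _ σ hσ => ?_
    obtain ⟨hs, hc, hd⟩ := hσ
    have hΓ : Group.IsPerfect Γ := by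
      rw [Group.isPerfect_def, eq_top_iff]
      intro x _
      have h1 : σ x ∈ (commutator Γ).map σ := by
        rw [CfsgLib.SchurCover.map_commutator_eq σ hs, (Group.isPerfect_def).1 hG]
        exact Subgroup.mem_top _
      obtain ⟨y, hy, hyx⟩ := h1
      have h2 : y⁻¹ * x ∈ commutator Γ := hd (by
        rw [MonoidHom.mem_ker, map_mul, map_inv, hyx, inv_mul_cancel])
      simpa using mul_mem hy h2
    have hkc : (π.comp σ).ker ≤ Subgroup.center Γ := by
      intro z hz
      refine CfsgLib.SchurCover.mem_center_of_map_mem_center hΓ σ hc fun g => ?_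
      exact (Subgroup.mem_center_iff.1 (hker (show σ z ∈ π.ker from hz)) (σ g)).symm
    obtain ⟨η, hη⟩ := huniv Γ (π.comp σ) (hπ.comp hs) hkc
    have hid : σ.comp η = MonoidHom.id G :=
      CfsgLib.SchurCover.hom_ext_of_perfect hG hker _ _ (by
        rw [MonoidHom.comp_id, ← MonoidHom.comp_assoc, hη])
    have hηv : ∀ g, σ (η g) = g := DFunLike.congr_fun hid
    have hsurj : Function.Surjective η := by
      rw [← MonoidHom.range_eq_top, eq_top_iff, ← (Group.isPerfect_def).1 hΓ, commutator_def,
        Subgroup.commutator_le]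
      intro x _ y _
      have hx : (η (σ x))⁻¹ * x ∈ Subgroup.center Γ := hc (by
        rw [MonoidHom.mem_ker, map_mul, map_inv, hηv, inv_mul_cancel])
      have hy : (η (σ y))⁻¹ * y ∈ Subgroup.center Γ := hc (by
        rw [MonoidHom.mem_ker, map_mul, map_inv, hηv, inv_mul_cancel])
      rw [CfsgLib.SchurCover.commutator_congr_central hx hy, ← map_commutatorElement]
      exact ⟨_, rfl⟩
    rw [eq_bot_iff]
    intro z hz
    obtain ⟨g, rfl⟩ := hsurj z
    rw [MonoidHom.mem_ker, hηv] at hz
    rw [hz, map_one, Subgroup.mem_bot]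
  · intro hM X _ ξ hξ hc
    set f := CfsgLib.SchurCover.fibreFst π ξ
    have hbot := CfsgLib.SchurCover.ker_inf_commutator_eq_bot hM f
      (CfsgLib.SchurCover.fibreFst_surjective π hξ)
      (CfsgLib.SchurCover.ker_fibreFst_le_center π hc)
    obtain ⟨s, hs⟩ := CfsgLib.SchurCover.exists_section_of_perfect hG f
      (CfsgLib.SchurCover.fibreFst_surjective π hξ) hbot
    refine ⟨(CfsgLib.SchurCover.fibreSnd π ξ).comp s, MonoidHom.ext fun g => ?_⟩
    show ξ (CfsgLib.SchurCover.fibreSnd π ξ (s g)) = π g
    rw [← CfsgLib.SchurCover.fibre_rel]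
    exact congrArg π (DFunLike.congr_fun hs g)

end Cfsg.Agent.S3961
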