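import Cfsg.Statements.S0218
import Cfsg.Agent.Lib.Involutions.Basic
-- import your own Cfsg.Agent.* helpers here

set_option autoImplicit false
open Cfsg

namespace Cfsg.Agent.S0218

/-- The generalized quaternion group of order 2^(n+3) contains exactly one element of order 2. -/
theorem result (n : ℕ) : Nat.card {x : QuaternionGroup (2 ^ (n + 1)) // orderOf x = 2} = 1 := by
  haveI : NeZero (2 ^ (n + 1)) := ⟨by positivity⟩
  rw [Nat.card_eq_one_iff_unique]
  have horder : ∀ i : ZMod (2 * 2 ^ (n + 1)), orderOf (QuaternionGroup.a i) = 2 → i.val = 2 ^ (n + 1) := by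
    intro i hi
    rw [QuaternionGroup.orderOf_a] at hi
    have hd := Nat.gcd_dvd_left (2 * 2 ^ (n + 1)) i.val
    have hr := Nat.gcd_dvd_right (2 * 2 ^ (n + 1)) i.val
    have hlt := ZMod.val_lt i
    have hg : Nat.gcd (2 * 2 ^ (n + 1)) i.val = 2 ^ (n + 1) := by
      have := Nat.div_mul_cancel hd
      rw [hi] at this
      omega
    rw [hg] at hr
    obtain ⟨c, hc⟩ := hr
    rcases c with _ | _ | c
    · rw [mul_zero] at hc
      rw [hc, Nat.gcd_zero_right] at hg
      have : 0 < 2 ^ (n + 1) := by positivity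
      omega
    · omega
    · rw [hc] at hlt
      nlinarith
  refine ⟨⟨?_⟩, ⟨⟨QuaternionGroup.a ((2 ^ (n + 1) : ℕ) : ZMod (2 * 2 ^ (n + 1))), ?_⟩⟩⟩
  · rintro ⟨x | x, hx⟩ ⟨y | y, hy⟩
    · simp only [Subtype.mk.injEq, QuaternionGroup.a.injEq]
      exact ZMod.val_injective _ ((horder x hx).trans (horder y hy).symm)
    all_goals first
      | exact absurd ((QuaternionGroup.orderOf_xa x).symm.trans hx) (by decide)
      | exact absurd ((QuaternionGroup.orderOf_xa y).symm.trans hy) (by decide)
  · rw [QuaternionGroup.orderOf_a, ZMod.val_natCast, Nat.mod_eq_of_lt (by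
      have : 0 < 2 ^ (n + 1) := by positivity
      omega), Nat.gcd_eq_right (dvd_mul_left _ _), Nat.mul_div_cancel _ (by positivity)]

end Cfsg.Agent.S0218
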