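import Cfsg.Statements.S3742


set_option autoImplicit false
open Cfsg

namespace Cfsg.Agent.S3742

open QuaternionGroup

/-- Images of `a 1` and `xa 0` under the automorphism inducing a given permutation of the four diagonals. -/
def genImage : ℕ → QuaternionGroup 2 × QuaternionGroup 2
  | 6 => (.a 1, .xa 0)
  | 7 => (.xa 2, .a 3)
  | 9 => (.a 3, .xa 1)
  | 11 => (.xa 3, .a 1)
  | 13 => (.xa 0, .xa 3)
  | 14 => (.xa 1, .xa 2)
  | 18 => (.xa 0, .a 1)
  | 19 => (.a 3, .xa 2)
  | 24 => (.xa 2, .xa 3)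
  | 27 => (.xa 1, .xa 0)
  | 28 => (.a 1, .xa 1)
  | 30 => (.xa 3, .a 3)
  | 33 => (.xa 1, .a 3)
  | 35 => (.a 1, .xa 3)
  | 36 => (.xa 3, .xa 2)
  | 39 => (.xa 0, .xa 1)
  | 44 => (.a 3, .xa 0)
  | 45 => (.xa 2, .a 1)
  | 49 => (.xa 3, .xa 0)
  | 50 => (.xa 2, .xa 1)
  | 52 => (.xa 1, .a 1)
  | 54 => (.a 3, .xa 3)
  | 56 => (.xa 0, .a 3)
  | 57 => (.a 1, .xa 2)
  | _ => (1, 1)

/-- The automorphism attached to a permutation, as a function. -/
def autFun (σ : Equiv.Perm (Fin 4)) : QuaternionGroup 2 → QuaternionGroup 2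
  | .a i => (genImage ((σ 0).val * 16 + (σ 1).val * 4 + (σ 2).val)).1 ^ i.val
  | .xa i => (genImage ((σ 0).val * 16 + (σ 1).val * 4 + (σ 2).val)).2 *
      (genImage ((σ 0).val * 16 + (σ 1).val * 4 + (σ 2).val)).1 ^ i.val

set_option maxRecDepth 100000 in
theorem autFun_mul : ∀ (σ : Equiv.Perm (Fin 4)) (g h : QuaternionGroup 2),
    autFun σ (g * h) = autFun σ g * autFun σ h := by decide +kernel

set_option maxRecDepth 100000 in
theorem autFun_comp : ∀ (σ τ : Equiv.Perm (Fin 4)) (g : QuaternionGroup 2),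
    autFun (σ * τ) g = autFun σ (autFun τ g) := by decide +kernel

theorem autFun_one : ∀ g : QuaternionGroup 2, autFun 1 g = g := by decide +kernel

set_option maxRecDepth 100000 in
theorem autFun_gen : ∀ u v : QuaternionGroup 2, u * u = a 2 → v * v = a 2 → v ≠ u → v ≠ u ^ 3 →
    ∃ σ : Equiv.Perm (Fin 4), autFun σ (a 1) = u ∧ autFun σ (xa 0) = v := by decide +kernel

set_option maxRecDepth 100000 in
theorem autFun_faithful : ∀ σ : Equiv.Perm (Fin 4),
    autFun σ (a 1) = a 1 → autFun σ (xa 0) = xa 0 → σ = 1 := by decide +kernel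

theorem eq_central : ∀ g : QuaternionGroup 2, g * g = 1 → g ≠ 1 → g = a 2 := by decide +kernel

theorem gen_split : ∀ g : QuaternionGroup 2, ∃ i : Fin 4, g = a 1 ^ i.val ∨ g = xa 0 * a 1 ^ i.val := by
  decide +kernel

/-- The automorphism attached to a permutation. -/
def toAut (σ : Equiv.Perm (Fin 4)) : MulAut (QuaternionGroup 2) where
  toFun := autFun σ
  invFun := autFun σ⁻¹
  left_inv g := by rw [← autFun_comp, inv_mul_cancel, autFun_one]
  right_inv g := by rw [← autFun_comp, mul_inv_cancel, autFun_one]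
  map_mul' := autFun_mul σ

/-- The homomorphism from `Perm (Fin 4)` to the automorphism group. -/
def permHom : Equiv.Perm (Fin 4) →* MulAut (QuaternionGroup 2) :=
  MonoidHom.mk' toAut fun σ τ => MulEquiv.ext fun g => autFun_comp σ τ g

theorem permHom_bijective : Function.Bijective permHom := by
  refine ⟨(injective_iff_map_eq_one _).mpr fun σ h => ?_, fun φ => ?_⟩
  · exact autFun_faithful σ (DFunLike.congr_fun h (a 1)) (DFunLike.congr_fun h (xa 0))
  · have hc : φ (a 2) = a 2 := eq_central _ (by rw [← map_mul, show (a 2 : QuaternionGroup 2) * a 2 = 1 from by decide +kernel, map_one])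
      (fun h => absurd (φ.injective (h.trans (map_one φ).symm)) (by decide +kernel))
    obtain ⟨σ, hσ1, hσ2⟩ := autFun_gen (φ (a 1)) (φ (xa 0))
      (by rw [← map_mul, show (a 1 : QuaternionGroup 2) * a 1 = a 2 from by decide +kernel, hc])
      (by rw [← map_mul, show (xa 0 : QuaternionGroup 2) * xa 0 = a 2 from by decide +kernel, hc])
      (fun h => absurd (φ.injective h) (by decide +kernel))
      (fun h => absurd (φ.injective (h.trans (map_pow φ _ _).symm)) (by decide +kernel))
    refine ⟨σ, MulEquiv.ext fun g => ?_⟩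
    have h1 : permHom σ (a 1) = φ (a 1) := hσ1
    have h2 : permHom σ (xa 0) = φ (xa 0) := hσ2
    obtain ⟨i, rfl | rfl⟩ := gen_split g
    · rw [map_pow, map_pow, h1]
    · rw [map_mul, map_mul, map_pow, map_pow, h1, h2]


/-- The automorphism group of the quaternion group of order 8 is isomorphic to the symmetric group of degree 4. -/
theorem result : Nonempty (MulAut (QuaternionGroup 2) ≃* Equiv.Perm (Fin 4)) := by
  exact ⟨(MulEquiv.ofBijective permHom permHom_bijective).symm⟩

end Cfsg.Agent.S3742
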