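import Cfsg.Statements.S0106
import Cfsg.Agent.Lib.Transfer.NormalComplement
import Cfsg.Agent.Lib.TwoGroups.OneInvolution
import Cfsg.Agent.Lib.PGroup.ExtraspecialIso
import Cfsg.Agent.S3742
import Cfsg.Agent.S0218

set_option autoImplicit false
open Cfsg

namespace Cfsg.Agent.S0106

open Subgroup
open scoped commutatorElement

abbrev SL23 := Matrix.SpecialLinearGroup (Fin 2) (ZMod 3)

def si : SL23 := ⟨!![0, 2; 1, 0], by decide⟩

def st : SL23 := ⟨!![1, 1; 0, 1], by decide⟩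

theorem sl_rel : st ^ 3 = 1 ∧ si ^ 4 = 1 ∧ (st * si * st⁻¹) ^ 2 = si ^ 2 ∧
    st * si * st⁻¹ * si * (st * si * st⁻¹)⁻¹ = si⁻¹ ∧
    st * (st * si * st⁻¹) * st⁻¹ = si * (st * si * st⁻¹) := by decide +kernel

theorem sl_gen : ∀ x : SL23, ∃ (a : Fin 4) (b : Fin 2) (c : Fin 3),
    x = si ^ a.val * (st * si * st⁻¹) ^ b.val * st ^ c.val := by decide +kernel

theorem q8_pair : ∀ u v : QuaternionGroup 2, u * u ≠ 1 → v * v ≠ 1 → v ≠ u → v ≠ u⁻¹ →
    (v * v = u * u ∧ v * u * v⁻¹ = u⁻¹ ∧ u * (v * u) = v ∧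
      ∀ q : QuaternionGroup 2, ∃ (a : Fin 4) (b : Fin 2), q = u ^ a.val * v ^ b.val) := by decide +kernel

theorem q8_third : ∀ u v w : QuaternionGroup 2, u * u ≠ 1 → v * v ≠ 1 → v ≠ u → v ≠ u⁻¹ → w * w ≠ 1 →
    w ≠ u → w ≠ u⁻¹ → w ≠ v → w ≠ v⁻¹ → (w = u * v ∨ w = v * u) := by decide +kernel

/-- A group of order at least 24 with these relations is a copy of `SL(2,3)`. -/
theorem iso_of_relations {X : Type*} [Group X] [Finite X] (i t : X) (hcard : 24 ≤ Nat.card X)
    (ht : t ^ 3 = 1) (hi : i ^ 4 = 1) (hj2 : (t * i * t⁻¹) ^ 2 = i ^ 2)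
    (hji : t * i * t⁻¹ * i * (t * i * t⁻¹)⁻¹ = i⁻¹)
    (htj : t * (t * i * t⁻¹) * t⁻¹ = i * (t * i * t⁻¹))
    (hgen : zpowers i ⊔ zpowers t = ⊤) : Nonempty (X ≃* SL23) := by
  obtain ⟨s1, s2, s3, s4, s5⟩ := sl_rel
  have hnorm : ∀ (N : Subgroup (X × SL23)) (a : X × SL23), (∀ g ∈ N, a * g * a⁻¹ ∈ N) →
      a ∈ normalizer (N : Set (X × SL23)) := fun N a ha =>
    CfsgLib.Transfer.mem_normalizer_of_map_conj_eq (eq_of_le_of_card_ge
      (fun x ⟨g, hg, e⟩ => e ▸ ha g hg) (card_map_of_injective (MulAut.conj a).injective).ge)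
  obtain ⟨I, hI⟩ : ∃ I : X × SL23, I = (i, si) := ⟨_, rfl⟩
  obtain ⟨T, hT⟩ : ∃ T : X × SL23, T = (t, st) := ⟨_, rfl⟩
  obtain ⟨J, hJ⟩ : ∃ J : X × SL23, J = T * I * T⁻¹ := ⟨_, rfl⟩
  have rT : T ^ 3 = 1 := by rw [hT]; exact Prod.ext ht s1
  have rI : I ^ 4 = 1 := by rw [hI]; exact Prod.ext hi s2
  have rJ : J ^ 2 = I ^ 2 := by rw [hJ, hI, hT]; exact Prod.ext hj2 s3
  have rJI : J * I * J⁻¹ = I⁻¹ := by rw [hJ, hI, hT]; exact Prod.ext hji s4
  have rTJ : T * J * T⁻¹ = I * J := by rw [hJ, hI, hT]; exact Prod.ext htj s5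
  have hJn : J ∈ normalizer (zpowers I : Set (X × SL23)) := hnorm _ _ fun g hg => by
    obtain ⟨k, rfl⟩ := mem_zpowers_iff.mp hg
    rw [← conj_zpow, rJI]
    exact zpow_mem (inv_mem (mem_zpowers I)) k
  obtain ⟨N₁, hN₁⟩ : ∃ N₁ : Subgroup (X × SL23), N₁ = zpowers J ⊔ zpowers I := ⟨_, rfl⟩
  have hTn : T ∈ normalizer (N₁ : Set (X × SL23)) := hnorm _ _ fun g hg => by
    have hle : N₁.map (MulAut.conj T).toMonoidHom ≤ N₁ := by
      rw [hN₁, Subgroup.map_sup, MonoidHom.map_zpowers, MonoidHom.map_zpowers]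
      refine sup_le (zpowers_le.mpr ?_) (zpowers_le.mpr ?_)
      · show T * J * T⁻¹ ∈ _
        rw [rTJ]; exact mul_mem (mem_sup_right (mem_zpowers I)) (mem_sup_left (mem_zpowers J))
      · show T * I * T⁻¹ ∈ _
        rw [← hJ]; exact mem_sup_left (mem_zpowers J)
    exact hle ⟨g, hg, rfl⟩
  have c0 : Nat.card (zpowers I) ≤ 4 := by
    rw [Nat.card_zpowers]; exact Nat.le_of_dvd (by norm_num) (orderOf_dvd_of_pow_eq_one rI)
  have c1 : Nat.card N₁ ≤ 8 := by
    rw [hN₁]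
    refine (CfsgLib.ExtraIso.card_sup_zpowers_le (p := 2) _ J two_pos hJn ?_).trans (by omega)
    rw [rJ]; exact pow_mem (mem_zpowers I) 2
  obtain ⟨N, hN⟩ : ∃ N : Subgroup (X × SL23), N = zpowers T ⊔ N₁ := ⟨_, rfl⟩
  have c2 : Nat.card N ≤ 24 := by
    rw [hN]
    refine (CfsgLib.ExtraIso.card_sup_zpowers_le (p := 3) _ T (by norm_num) hTn ?_).trans (by omega)
    rw [rT]; exact one_mem _
  have hIN : I ∈ N := hN ▸ mem_sup_right (hN₁ ▸ mem_sup_right (mem_zpowers I))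
  have hTN : T ∈ N := hN ▸ mem_sup_left (mem_zpowers T)
  have hsl : 24 ≤ Nat.card SL23 := by rw [Nat.card_eq_fintype_card]; decide +kernel
  have h1 : N.map (MonoidHom.fst X SL23) = ⊤ := by
    rw [eq_top_iff, ← hgen]
    exact sup_le (zpowers_le.mpr ⟨I, hIN, by rw [hI]; rfl⟩) (zpowers_le.mpr ⟨T, hTN, by rw [hT]; rfl⟩)
  have h2 : N.map (MonoidHom.snd X SL23) = ⊤ := by
    refine top_le_iff.mp fun x _ => ?_
    obtain ⟨a, b, c, rfl⟩ := sl_gen x
    have mi : si ∈ N.map (MonoidHom.snd X SL23) := ⟨I, hIN, by rw [hI]; rfl⟩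
    have mt : st ∈ N.map (MonoidHom.snd X SL23) := ⟨T, hTN, by rw [hT]; rfl⟩
    exact mul_mem (mul_mem (pow_mem mi _) (pow_mem (mul_mem (mul_mem mt mi) (inv_mem mt)) _))
      (pow_mem mt _)
  have b1 : Nat.card X ≤ Nat.card N := by
    rw [← card_top (G := X), ← h1]; exact Nat.le_of_dvd Nat.card_pos (card_map_dvd _ _)
  have b2 : Nat.card SL23 ≤ Nat.card N := by
    rw [← card_top (G := SL23), ← h2]; exact Nat.le_of_dvd Nat.card_pos (card_map_dvd _ _)
  have e1 : Nat.card N = Nat.card X := by omega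
  have p1 := CfsgLib.ExtraIso.bijective_comp_subtype N (MonoidHom.fst X SL23) h1 e1
  have p2 : Function.Bijective ((MonoidHom.snd X SL23).comp N.subtype) := by
    have hs : Function.Surjective ((MonoidHom.snd X SL23).comp N.subtype) := fun a => by
      obtain ⟨x, hx, rfl⟩ := h2.ge (mem_top a)
      exact ⟨⟨x, hx⟩, rfl⟩
    refine (Nat.bijective_iff_surjective_and_card _).mpr ⟨hs, le_antisymm (c2.trans hsl) b2⟩
  exact ⟨(MulEquiv.ofBijective _ p1).symm.trans (MulEquiv.ofBijective _ p2)⟩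

theorem a_pow {N : ℕ} (j : ZMod (2 * N)) (k : ℕ) :
    (QuaternionGroup.a j) ^ k = QuaternionGroup.a ((k : ZMod (2 * N)) * j) := by
  induction k with
  | zero => rw [pow_zero, Nat.cast_zero, zero_mul, QuaternionGroup.one_def]
  | succ k ihk => rw [pow_succ, ihk, QuaternionGroup.a_mul_a]; push_cast; ring_nf

/-- Automorphisms of odd order of a generalized quaternion group of order at least 16 are trivial. -/
theorem quaternion_aut_trivial {m : ℕ} (hm : 2 ≤ m) (σ : MulAut (QuaternionGroup (2 ^ m)))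
    (hodd : Odd (orderOf σ)) : σ = 1 := by
  haveI : NeZero (2 ^ m) := ⟨pow_ne_zero _ two_ne_zero⟩
  haveI : NeZero (2 * 2 ^ m) := ⟨mul_ne_zero two_ne_zero (pow_ne_zero _ two_ne_zero)⟩
  have h8 : 4 < 2 * 2 ^ m := by
    have := Nat.pow_le_pow_right two_pos hm
    omega
  obtain ⟨j, hj⟩ : ∃ j, σ (QuaternionGroup.a 1) = QuaternionGroup.a j := by
    rcases hh : σ (QuaternionGroup.a 1) with j | j
    · exact ⟨j, rfl⟩
    · exfalso
      have h := orderOf_injective σ.toMonoidHom σ.injective (QuaternionGroup.a 1)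
      change orderOf (σ (QuaternionGroup.a 1)) = _ at h
      rw [hh, QuaternionGroup.orderOf_xa, QuaternionGroup.orderOf_a_one] at h
      omega
  obtain ⟨l, hl⟩ : ∃ l, σ (QuaternionGroup.xa 0) = QuaternionGroup.xa l := by
    rcases hh : σ (QuaternionGroup.xa 0) with l | l
    · exfalso
      have hall : ∀ g, ∃ k, σ g = QuaternionGroup.a k := by
        intro g
        have ha : ∀ i : ZMod (2 * 2 ^ m), ∃ k, σ (QuaternionGroup.a i) = QuaternionGroup.a k := fun i => by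
          refine ⟨(i.val : ZMod (2 * 2 ^ m)) * j, ?_⟩
          rw [show QuaternionGroup.a i = QuaternionGroup.a 1 ^ i.val by
            rw [QuaternionGroup.a_one_pow, ZMod.natCast_zmod_val], map_pow, hj, a_pow]
        rcases g with i | i
        · exact ha i
        · obtain ⟨k, hk⟩ := ha i
          refine ⟨l + k, ?_⟩
          rw [show QuaternionGroup.xa i = QuaternionGroup.xa 0 * QuaternionGroup.a i by
            rw [QuaternionGroup.xa_mul_a, zero_add], map_mul, hh, hk, QuaternionGroup.a_mul_a]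
      obtain ⟨g, hg⟩ := σ.surjective (QuaternionGroup.xa 0)
      obtain ⟨k, hk⟩ := hall g
      rw [hg] at hk
      cases hk
    · exact ⟨l, rfl⟩
  have hapow : ∀ (i : ZMod (2 * 2 ^ m)), σ (QuaternionGroup.a i) = QuaternionGroup.a (i * j) := by
    intro i
    rw [show QuaternionGroup.a i = QuaternionGroup.a 1 ^ i.val by
      rw [QuaternionGroup.a_one_pow, ZMod.natCast_zmod_val], map_pow, hj, a_pow, ZMod.natCast_zmod_val]
  have hiter : ∀ k : ℕ, ∀ i, (σ ^ k) (QuaternionGroup.a i) = QuaternionGroup.a (i * j ^ k) := by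
    intro k
    induction k with
    | zero => intro i; simp
    | succ k ihk =>
      intro i
      rw [pow_succ, MulAut.mul_apply, hapow, ihk, pow_succ]; ring_nf
  have hjr : j ^ orderOf σ = 1 := by
    have h := hiter (orderOf σ) 1
    rw [pow_orderOf_eq_one, MulAut.one_apply, one_mul] at h
    exact (QuaternionGroup.a.inj h).symm
  obtain ⟨r, hr⟩ := hodd
  have hj1 : j = 1 := by
    have hu : IsUnit j := IsUnit.of_pow_eq_one hjr (by omega)
    obtain ⟨u, rfl⟩ := hu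
    have h1 : orderOf u ∣ orderOf σ := orderOf_dvd_of_pow_eq_one (Units.ext (by simpa using hjr))
    have h2 : orderOf u ∣ 2 ^ m := by
      refine (orderOf_dvd_card).trans (dvd_of_eq ?_)
      rw [ZMod.card_units_eq_totient, ← pow_succ', Nat.totient_prime_pow_succ Nat.prime_two]
      simp
    have h3 : orderOf u = 1 := Nat.eq_one_of_dvd_coprimes (Nat.Coprime.pow_left m (by
      rw [hr]; exact Nat.coprime_two_left.mpr ⟨r, rfl⟩)) h2 h1
    rw [orderOf_eq_one_iff.mp h3]; rfl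
  have hiterx : ∀ k : ℕ, (σ ^ k) (QuaternionGroup.xa 0) = QuaternionGroup.xa ((k : ZMod (2 * 2 ^ m)) * l) := by
    intro k
    induction k with
    | zero => simp
    | succ k ihk =>
      rw [pow_succ, MulAut.mul_apply, hl,
        show QuaternionGroup.xa l = QuaternionGroup.xa 0 * QuaternionGroup.a l by
          rw [QuaternionGroup.xa_mul_a, zero_add], map_mul, ihk, hiter, hj1, one_pow, mul_one,
        QuaternionGroup.xa_mul_a]
      push_cast; ring_nf
  have hl0 : l = 0 := by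
    have h := hiterx (orderOf σ)
    rw [pow_orderOf_eq_one, MulAut.one_apply] at h
    have h1 := QuaternionGroup.xa.inj h
    have hu : IsUnit ((orderOf σ : ℕ) : ZMod (2 * 2 ^ m)) := by
      rw [ZMod.isUnit_iff_coprime, ← pow_succ']
      exact Nat.Coprime.pow_right _ (Nat.coprime_two_right.mpr ⟨r, hr⟩)
    exact hu.mul_right_eq_zero.mp h1.symm
  ext g
  rcases g with i | i
  · rw [hapow, hj1, mul_one]; rfl
  · rw [show QuaternionGroup.xa i = QuaternionGroup.xa 0 * QuaternionGroup.a i by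
      rw [QuaternionGroup.xa_mul_a, zero_add], map_mul, hl, hapow, hj1, hl0, mul_one]
    rfl

/-- An automorphism of order 3 of `Q₈` cycles suitable generators `u, v, uv`. -/
theorem q8_aut (σ : MulAut (QuaternionGroup 2)) (h3 : σ ^ 3 = 1) (hne : σ ≠ 1) :
    ∃ u : QuaternionGroup 2, u * u ≠ 1 ∧ σ u * σ u = u * u ∧ σ u * u * (σ u)⁻¹ = u⁻¹ ∧
      (∀ q : QuaternionGroup 2, ∃ (a : Fin 4) (b : Fin 2), q = u ^ a.val * (σ u) ^ b.val) ∧
      σ (σ u) = u * σ u ∧ σ u ≠ u := by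
  have h3' : ∀ x, σ (σ (σ x)) = x := fun x => by
    have := DFunLike.congr_fun h3 x
    simpa [pow_succ, MulAut.mul_apply] using this
  obtain ⟨u, hu2, hu⟩ : ∃ u : QuaternionGroup 2, u * u ≠ 1 ∧ σ u ≠ u := by
    by_contra hcon
    push Not at hcon
    apply hne
    ext g
    obtain ⟨a, b, rfl⟩ := (q8_pair (QuaternionGroup.a 1) (QuaternionGroup.xa 0) (by decide) (by decide)
      (by decide) (by decide)).2.2.2 g
    rw [map_mul, map_pow, map_pow, hcon _ (by decide), hcon _ (by decide), MulAut.one_apply]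
  have hv2 : σ u * σ u ≠ 1 := by
    rw [← map_mul]; exact fun h => hu2 (σ.injective (h.trans (map_one σ).symm))
  have hvu' : σ u ≠ u⁻¹ := by
    intro h
    have h4 : σ (σ (σ u)) = u⁻¹ := by rw [h, map_inv, h, inv_inv, h]
    exact hu (h.trans (h4.symm.trans (h3' u)))
  have hw2 : σ (σ u) * σ (σ u) ≠ 1 := by
    rw [← map_mul]; exact fun h => hv2 (σ.injective (h.trans (map_one σ).symm))
  rcases q8_third u (σ u) (σ (σ u)) hu2 hv2 hu hvu' hw2
      (fun h => hu ((congrArg σ h).symm.trans (h3' u)))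
      (fun h => by
        have := h3' u
        rw [h, map_inv] at this
        exact hvu' (inv_eq_iff_eq_inv.mp this))
      (fun h => hu (σ.injective h))
      (fun h => hvu' (σ.injective (h.trans (map_inv σ u).symm))) with h | h
  · obtain ⟨e1, e2, -, e4⟩ := q8_pair u (σ u) hu2 hv2 hu hvu'
    exact ⟨u, hu2, e1, e2, e4, h, hu⟩
  · have u2 : u⁻¹ * u⁻¹ ≠ 1 := by rw [← mul_inv_rev, ne_eq, inv_eq_one]; exact hu2
    have v2 : σ u⁻¹ * σ u⁻¹ ≠ 1 := by rw [map_inv, ← mul_inv_rev, ne_eq, inv_eq_one]; exact hv2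
    have n1 : σ u⁻¹ ≠ u⁻¹ := by rw [map_inv]; simpa using hu
    have n2 : σ u⁻¹ ≠ u⁻¹⁻¹ := by rw [map_inv, inv_inv]; exact fun he => hvu' (inv_eq_iff_eq_inv.mp he)
    obtain ⟨e1, e2, -, e4⟩ := q8_pair u⁻¹ (σ u⁻¹) u2 v2 n1 n2
    refine ⟨u⁻¹, u2, e1, e2, e4, ?_, n1⟩
    rw [map_inv, map_inv, h, mul_inv_rev]

/-- A finite group with generalized quaternion Sylow 2-subgroups either has a normal 2-complement or has a section isomorphic to SL(2,3). -/
theorem result {G : Type*} [Group G] [Finite G] (T : Sylow 2 G) (n : ℕ) (hn : 1 ≤ n) (hT : Nonempty ((T : Subgroup G) ≃* QuaternionGroup (2 ^ n))) : Cfsg.HasNormalPComplement 2 G ∨ ∃ (H K : Subgroup G) (hK : (K.subgroupOf H).Normal), Nonempty ((H ⧸ K.subgroupOf H) ≃* Matrix.SpecialLinearGroup (Fin 2) (ZMod 3)) := by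
  haveI := Fact.mk Nat.prime_two
  by_cases hF : ∀ Q : Subgroup G, Q ≤ (T : Subgroup G) → ∀ g ∈ normalizer (Q : Set G),
      Nat.Coprime (orderOf g) 2 → g ∈ centralizer (Q : Set G)
  · exact Or.inl (CfsgLib.Transfer.hasNormalPComplement_of_frobeniusCond
      (CfsgLib.Transfer.frobeniusCond_of_le_sylow T hF))
  right
  push Not at hF
  obtain ⟨Q, hQT, g, hg, hgcop, hgC⟩ := hF
  obtain ⟨e⟩ := hT
  have hQp : IsPGroup 2 Q := T.2.to_le hQT
  have hone : ∀ a b : Q, orderOf a = 2 → orderOf b = 2 → a = b := by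
    intro a b ha hb
    have h := Cfsg.Agent.S0218.result (n - 1)
    rw [show n - 1 + 1 = n by omega] at h
    have hsub : Subsingleton {x : QuaternionGroup (2 ^ n) // orderOf x = 2} :=
      (Nat.card_eq_one_iff_unique.mp h).1
    let ι : Q →* QuaternionGroup (2 ^ n) := e.toMonoidHom.comp (inclusion hQT)
    have hι : Function.Injective ι := e.injective.comp (inclusion_injective hQT)
    exact hι (congrArg Subtype.val (hsub.elim ⟨ι a, (orderOf_injective ι hι a).trans ha⟩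
      ⟨ι b, (orderOf_injective ι hι b).trans hb⟩))
  let f := Q.normalizerMonoidHom
  obtain ⟨σ, hσ⟩ : ∃ σ, σ = f ⟨g, hg⟩ := ⟨_, rfl⟩
  have hσodd : Odd (orderOf σ) := by
    have h1 : orderOf σ ∣ orderOf g := by
      rw [hσ, ← Subgroup.orderOf_mk g hg]; exact orderOf_map_dvd f _
    exact Nat.coprime_two_right.mp (hgcop.coprime_dvd_left h1)
  have hσ1 : σ ≠ 1 := by
    intro h
    apply hgC
    have : (⟨g, hg⟩ : normalizer (Q : Set G)) ∈ f.ker := by rw [MonoidHom.mem_ker, ← hσ, h]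
    rwa [normalizerMonoidHom_ker, mem_subgroupOf] at this
  rcases CfsgLib.TwoGroups.OneInvolution.isCyclic_or_quaternion hQp hone with hc | ⟨m, hm, ⟨e'⟩⟩
  · exfalso
    obtain ⟨k, hk⟩ := hQp.exists_card_eq
    have h1 : orderOf σ ∣ (2 ^ k).totient := by
      rw [← hk, ← hc.card_mulAut]; exact _root_.orderOf_dvd_natCard σ
    rcases k with _ | k
    · rw [pow_zero, Nat.totient_one, Nat.dvd_one] at h1
      exact hσ1 (orderOf_eq_one_iff.mp h1)
    · rw [Nat.totient_prime_pow_succ Nat.prime_two, Nat.succ_sub_one, mul_one] at h1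
      exact hσ1 (orderOf_eq_one_iff.mp (Nat.eq_one_of_dvd_coprimes
        (Nat.Coprime.pow_left k (Nat.coprime_two_left.mpr hσodd)) h1 dvd_rfl))
  by_cases hm2 : 2 ≤ m
  · exfalso
    let c := MulAut.congr e'
    have h1 : c σ = 1 := quaternion_aut_trivial hm2 _ (by
      rwa [show orderOf (c σ) = orderOf σ from orderOf_injective c.toMonoidHom c.injective σ])
    exact hσ1 (c.injective (h1.trans (map_one c).symm))
  obtain rfl : m = 1 := by omega
  obtain ⟨e8⟩ : Nonempty (Q ≃* QuaternionGroup 2) := ⟨e'⟩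
  let c := MulAut.congr e8
  have hc3 : (c σ) ^ 3 = 1 := by
    have hd : orderOf (c σ) ∣ 24 := by
      refine (_root_.orderOf_dvd_natCard _).trans (dvd_of_eq ?_)
      obtain ⟨E⟩ := Cfsg.Agent.S3742.result
      rw [Nat.card_congr E.toEquiv, Nat.card_perm, Nat.card_eq_fintype_card, Fintype.card_fin]
      rfl
    rw [show orderOf (c σ) = orderOf σ from orderOf_injective c.toMonoidHom c.injective σ] at hd
    have h3 : orderOf σ ∣ 3 :=
      (Nat.Coprime.pow_right 3 (Nat.coprime_two_right.mpr hσodd)).dvd_of_dvd_mul_left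
        (show orderOf σ ∣ 2 ^ 3 * 3 by norm_num; exact hd)
    rw [← map_pow, orderOf_dvd_iff_pow_eq_one.mp h3, map_one]
  have hcne : c σ ≠ 1 := fun h => hσ1 (c.injective (h.trans (map_one c).symm))
  obtain ⟨u, hu2, huv, hconj, hall, hthird, hne⟩ := q8_aut (c σ) hc3 hcne
  obtain ⟨v, hv⟩ : ∃ v, v = c σ u := ⟨_, rfl⟩
  rw [← hv] at huv hconj hall hthird hne
  obtain ⟨H, hH⟩ : ∃ H : Subgroup G, H = Q ⊔ zpowers g := ⟨_, rfl⟩
  obtain ⟨K, hK⟩ : ∃ K : Subgroup G, K = zpowers (g ^ 3) := ⟨_, rfl⟩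
  have hact : ∀ q : Q, ((σ q : Q) : G) = g * q * g⁻¹ := fun q => by rw [hσ]; rfl
  have hσ3 : σ ^ 3 = 1 := c.injective (by rw [map_pow, hc3, map_one])
  have hg3C : g ^ 3 ∈ centralizer (Q : Set G) := by
    have : (⟨g, hg⟩ : normalizer (Q : Set G)) ^ 3 ∈ f.ker := by
      rw [MonoidHom.mem_ker, map_pow, ← hσ, hσ3]
    rw [normalizerMonoidHom_ker, mem_subgroupOf] at this
    exact this
  have hQH : Q ≤ H := hH ▸ le_sup_left
  have hgH : g ∈ H := hH ▸ mem_sup_right (mem_zpowers g)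
  have hHC : H ≤ centralizer ({g ^ 3} : Set G) := by
    rw [hH]
    refine sup_le (fun q hq => ?_) (zpowers_le.mpr ?_)
    · exact mem_centralizer_singleton_iff.mpr (mem_centralizer_iff.mp hg3C q hq)
    · exact mem_centralizer_singleton_iff.mpr (by group)
  haveI hKn : (K.subgroupOf H).Normal := by
    refine ⟨fun k hk h => ?_⟩
    rw [mem_subgroupOf, hK] at hk ⊢
    obtain ⟨i, hi⟩ := mem_zpowers_iff.mp hk
    have hc' : Commute (h : G) (k : G) := by
      rw [← hi]; exact (show Commute (h : G) (g ^ 3) from mem_centralizer_singleton_iff.mp (hHC h.2)).zpow_right i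
    simp only [coe_mul, coe_inv]
    rw [hc'.eq, mul_inv_cancel_right, ← hi]
    exact zpow_mem (mem_zpowers _) i
  refine ⟨H, K, hKn, ?_⟩
  obtain ⟨π, hπ⟩ : ∃ π, π = QuotientGroup.mk' (K.subgroupOf H) := ⟨_, rfl⟩
  obtain ⟨τ, hτdef⟩ : ∃ τ, τ = π ⟨g, hgH⟩ := ⟨_, rfl⟩
  let ψ : QuaternionGroup 2 →* H ⧸ K.subgroupOf H := π.comp ((inclusion hQH).comp e8.symm.toMonoidHom)
  have hτ : ∀ x, τ * ψ x * τ⁻¹ = ψ (c σ x) := by
    intro x
    rw [hτdef, ← map_inv, show ψ x = π (inclusion hQH (e8.symm x)) from rfl, ← map_mul, ← map_mul]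
    refine congrArg π (Subtype.ext ?_)
    have h1 : e8.symm (c σ x) = σ (e8.symm x) := by simp [c]
    change g * (e8.symm x : G) * g⁻¹ = (e8.symm (c σ x) : G)
    rw [h1, hact]
  have ht3 : τ ^ 3 = 1 := by
    rw [hτdef, ← map_pow, hπ]
    exact (QuotientGroup.eq_one_iff _).mpr (mem_subgroupOf.mpr (hK ▸ mem_zpowers _))
  have hψinj : Function.Injective ψ := by
    rw [injective_iff_map_eq_one]
    intro x hx
    have hx' : (e8.symm x : G) ∈ zpowers g := by
      have h1 : π (inclusion hQH (e8.symm x)) = 1 := hx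
      rw [hπ] at h1
      have h1' : inclusion hQH (e8.symm x) ∈ K.subgroupOf H := (QuotientGroup.eq_one_iff _).mp h1
      exact (hK.le.trans (zpowers_le.mpr (pow_mem (mem_zpowers g) 3))) (mem_subgroupOf.mp h1')
    obtain ⟨j, hj⟩ := hQp (e8.symm x)
    have h2 : orderOf (e8.symm x : G) ∣ 2 ^ j :=
      orderOf_dvd_of_pow_eq_one (by simpa using congrArg Subtype.val hj)
    have h4 : orderOf (e8.symm x : G) ∣ orderOf g := by
      rw [← Nat.card_zpowers g]
      exact Subgroup.orderOf_dvd_natCard _ hx'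
    have h5 := orderOf_eq_one_iff.mp (Nat.eq_one_of_dvd_coprimes (hgcop.pow_right j) h4 h2)
    exact e8.symm.injective ((Subtype.ext h5 : e8.symm x = 1).trans (map_one e8.symm).symm)
  have hgenX : zpowers (ψ u) ⊔ zpowers τ = ⊤ := by
    obtain ⟨Y, hY⟩ : ∃ Y, Y = zpowers (ψ u) ⊔ zpowers τ := ⟨_, rfl⟩
    rw [← hY]
    refine top_le_iff.mp fun y _ => ?_
    obtain ⟨z, rfl⟩ := QuotientGroup.mk'_surjective _ y
    have hz : H ≤ (Y.comap π).map H.subtype := by
      refine hH.le.trans (sup_le ?_ (zpowers_le.mpr ⟨⟨g, hgH⟩, ?_, rfl⟩))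
      · intro q hq
        refine ⟨inclusion hQH ⟨q, hq⟩, ?_, rfl⟩
        obtain ⟨a, b, hab⟩ := hall (e8 ⟨q, hq⟩)
        have hvY : ψ v ∈ Y := by
          rw [hv, ← hτ u, hY]
          exact mul_mem (mul_mem (mem_sup_right (mem_zpowers τ)) (mem_sup_left (mem_zpowers _)))
            (inv_mem (mem_sup_right (mem_zpowers τ)))
        have h1 : ψ (e8 ⟨q, hq⟩) ∈ Y := by
          rw [hab, map_mul, map_pow, map_pow]
          exact mul_mem (pow_mem (hY ▸ mem_sup_left (mem_zpowers _)) _) (pow_mem hvY _)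
        simpa [ψ] using h1
      · show π ⟨g, hgH⟩ ∈ Y
        rw [← hτdef, hY]; exact mem_sup_right (mem_zpowers τ)
    obtain ⟨z', hz', e⟩ := hz z.2
    rw [(Subtype.ext e : z' = z)] at hz'
    rw [← hπ]; exact hz'
  have hu4 : ψ u ^ 4 = 1 := by
    rw [← map_pow, (by decide +kernel : ∀ q : QuaternionGroup 2, q ^ 4 = 1) u, map_one]
  have hτu : τ * ψ u * τ⁻¹ = ψ v := by rw [hτ u, hv]
  refine iso_of_relations (ψ u) τ ?_ ht3 hu4 ?_ ?_ ?_ hgenX
  · have h8 : 8 ∣ Nat.card (H ⧸ K.subgroupOf H) := by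
      have h := card_subgroup_dvd_card ψ.range
      rw [Nat.card_congr (MonoidHom.ofInjective hψinj).symm.toEquiv, Nat.card_eq_fintype_card,
        QuaternionGroup.card] at h
      exact h
    have h3 : 3 ∣ Nat.card (H ⧸ K.subgroupOf H) := by
      rw [← orderOf_eq_prime ht3 (fun h => hne (hψinj (by rw [← hτu, h]; group)))]
      exact _root_.orderOf_dvd_natCard τ
    exact Nat.le_of_dvd Nat.card_pos (Nat.Coprime.mul_dvd_of_dvd_of_dvd (by norm_num : Nat.Coprime 8 3) h8 h3)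
  · rw [hτu, ← map_pow, ← map_pow, sq, sq, huv]
  · rw [hτu, ← map_inv, ← map_mul, ← map_mul, hconj, map_inv]
  · rw [hτu, hτ v, hthird, map_mul]

end Cfsg.Agent.S0106
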