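import Cfsg.Statements.S0812
import Cfsg.Agent.Lib.PSL2.MaxDihedral

set_option autoImplicit false
open Cfsg

namespace Cfsg.Agent.S0812

/-- For q ∉ {2, 3, 5, 7, 9, 11}, PSL_2(q) has a maximal subgroup isomorphic to the dihedral group of order 2(q − 1)/d, d = gcd(2, q − 1). -/
theorem result {F : Type*} [Field F] [Fintype F] {q : ℕ} (hF : Fintype.card F = q) (hq : q ∉ ({2, 3, 5, 7, 9, 11} : Finset ℕ)) : ∃ H : Subgroup (Matrix.ProjectiveSpecialLinearGroup (Fin 2) F), IsCoatom H ∧ Nonempty (H ≃* DihedralGroup ((q - 1) / Nat.gcd 2 (q - 1))) := by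
  classical
  subst hF
  obtain ⟨p, hp⟩ := CharP.exists F
  have : Fact p.Prime := ⟨CharP.char_is_prime F p⟩
  have : CharP (AlgebraicClosure F) p :=
    charP_of_injective_ringHom (algebraMap F (AlgebraicClosure F)).injective p
  obtain ⟨Φ, hΦ⟩ := CfsgLib.PSL2.exists_frob (F := F) (L := AlgebraicClosure F) p
  obtain ⟨x, y, h⟩ := CfsgLib.PSL2.exists_isPair_split (ι := algebraMap F (AlgebraicClosure F)) (Φ := Φ) 
  exact ⟨_, CfsgLib.PSL2.isCoatom_pslPair (ι := algebraMap F (AlgebraicClosure F)) hΦ p h (Or.inl ⟨rfl, hq⟩),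
    (CfsgLib.PSL2.pslPair_dihedral hΦ h).2⟩

end Cfsg.Agent.S0812
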