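import Cfsg.Statements.S0948
import Cfsg.Agent.Lib.Involutions.KleinBlock
import Cfsg.Agent.Lib.Characters.Generalized
import Cfsg.Agent.Lib.Characters.LinearTwist
import Cfsg.Agent.S0942

set_option autoImplicit false
open Cfsg

namespace Cfsg.Agent.S0948


open scoped ComplexConjugate

universe u

/-- The degrees in a Klein family are congruent to 1 modulo 4. -/
theorem degree_mod_four {K : Type u} [Group K] [Fintype K] (V : Sylow 2 K)
    (hV : IsKleinFour (V : Subgroup K)) {M : Ideal Cfsg.AlgInt}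
    (F : CfsgLib.Involutions.KleinFamily M K) (i : Fin 4) (d : ℤ) (hd : F.q i 1 = (d : ℂ)) :
    4 ∣ d - 1 := by
  classical
  have hres : Cfsg.IsGeneralizedCharacter ↥(V : Subgroup K) (fun v => F.q i v) := by
    obtain ⟨a, b, ha, hb, hab⟩ := F.q_gen i
    refine ⟨fun v => a v, fun v => b v, ?_, ?_, funext fun v => congrFun hab v⟩
    · obtain ⟨m, ρ, rfl⟩ := ha
      exact ⟨m, ρ.comp (V : Subgroup K).subtype, rfl⟩
    · obtain ⟨m, ρ, rfl⟩ := hb
      exact ⟨m, ρ.comp (V : Subgroup K).subtype, rfl⟩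
  obtain ⟨z, hz⟩ := CfsgLib.Characters.classInner_generalized_int hres
    CfsgLib.Characters.isGeneralizedCharacter_one
  have hsum : ∑ v : ↥(V : Subgroup K), F.q i v = (d : ℂ) + 3 := by
    rw [← Finset.add_sum_erase _ _ (Finset.mem_univ (1 : ↥(V : Subgroup K)))]
    have hev : ∀ v ∈ Finset.univ.erase (1 : ↥(V : Subgroup K)), F.q i (v : K) = 1 := fun v hv =>
      F.q_even i (v : K) (by
        rw [CfsgLib.Involutions.klein_orderOf V hV v.2
          (fun h => (Finset.mem_erase.1 hv).1 (Subtype.ext h))])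
    rw [Finset.sum_congr rfl hev]
    rw [Finset.sum_const, Finset.card_erase_of_mem (Finset.mem_univ _), Finset.card_univ,
      ← Nat.card_eq_fintype_card, hV.card_four, OneMemClass.coe_one, hd]
    norm_num
  rw [Cfsg.classInner, hV.card_four] at hz
  simp only [Pi.one_apply, map_one, mul_one, hsum] at hz
  have h4 : d + 3 = 4 * z := by
    have : (d : ℂ) + 3 = 4 * z := by rw [← hz]; push_cast; ring
    exact_mod_cast this
  omega

/-- Let the finite group G have a Sylow 2-subgroup P that is a Klein four-group, suppose all involutions of G are conjugate, and fix a maximal ideal M of the algebraic integers containing 2. Then the principal block consists of exactly four irreducible characters, the principal character and ζ₂, ζ₃, ζ₄, and there is a sign ε such that for every involution z: ζ₂ z = 1, ζ₃ z = ε, ζ₄ z = -1; moreover ζ₂ 1 ≡ 1, ζ₃ 1 ≡ ε, ζ₄ 1 ≡ -1 (mod 4), and 1 + ζ₂ y + ε ζ₃ y - ζ₄ y = 0 for every y of odd order. -/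
theorem result {G : Type*} [Group G] [Finite G] (M : Ideal Cfsg.AlgInt) (hM : Cfsg.IsPModular 2 M) (P : Sylow 2 G) (hP : IsKleinFour (P : Subgroup G)) (hone : ∀ s t : G, orderOf s = 2 → orderOf t = 2 → IsConj s t) : ∃ ζ₂ ζ₃ ζ₄ : Cfsg.IrrCharacter G, ∃ ε : ℤ, (ε = 1 ∨ ε = -1) ∧ (ζ₂ : G → ℂ) ≠ (fun _ => 1) ∧ (ζ₃ : G → ℂ) ≠ (fun _ => 1) ∧ ζ₂ ≠ ζ₃ ∧ ζ₂ ≠ ζ₄ ∧ ζ₃ ≠ ζ₄ ∧ Cfsg.principalBlock M G = {χ : Cfsg.IrrCharacter G | (χ : G → ℂ) = (fun _ => 1) ∨ χ = ζ₂ ∨ χ = ζ₃ ∨ χ = ζ₄} ∧ (∀ z : G, orderOf z = 2 → (ζ₂ : G → ℂ) z = 1 ∧ (ζ₃ : G → ℂ) z = (ε : ℂ) ∧ (ζ₄ : G → ℂ) z = -1) ∧ (4 : ℤ) ∣ (Cfsg.charDegree (ζ₂ : G → ℂ) : ℤ) - 1 ∧ (4 : ℤ) ∣ (Cfsg.charDegree (ζ₃ : G → ℂ) : ℤ) - ε ∧ (4 : ℤ) ∣ (Cfsg.charDegree (ζ₄ : G → ℂ) : ℤ) + 1 ∧ ∀ y : G, Odd (orderOf y) → 1 + (ζ₂ : G → ℂ) y + (ε : ℂ) * (ζ₃ : G → ℂ) y - (ζ₄ : G → ℂ) y = 0 := by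
  classical
  letI := Fintype.ofFinite G
  have hPC : CfsgLib.Involutions.PrincipalConstant.{_} := fun K _ _ M hM x hx y hy χ hχ =>
    Cfsg.Agent.S0942.result 2 M hM x ⟨1, by simp [hx]⟩ y hy χ hχ
  obtain ⟨F⟩ := CfsgLib.Involutions.exists_kleinFamily (K := G) P hP hPC hM hone
  have hirr : ∀ i, ∃ (χ : Cfsg.IrrCharacter G) (e : ℤ), (e = 1 ∨ e = -1) ∧
      ∀ g, F.q i g = (e : ℂ) * (χ : G → ℂ) g := by
    intro i
    obtain ⟨χ, h | h⟩ := CfsgLib.Characters.eq_irr_or_neg_of_classInner_self_eq_one (F.q_gen i)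
      (by simp [F.q_inner])
    · exact ⟨χ, 1, Or.inl rfl, fun g => by rw [h]; simp⟩
    · exact ⟨χ, -1, Or.inr rfl, fun g => by rw [h]; simp⟩
  choose χ e he hq using hirr
  have hn : ∀ i, ∃ n : ℕ, 0 < n ∧ (χ i : G → ℂ) 1 = n := fun i =>
    CfsgLib.Characters.irr_exists_degree (χ i).2
  choose n hn0 hn using hn
  have he2 : ∀ i, (e i : ℂ) * (e i : ℂ) = 1 := fun i => by
    rcases he i with h | h <;> simp [h]
  have hd : ∀ i, F.q i 1 = ((e i * n i : ℤ) : ℂ) := fun i => by
    rw [hq, hn]; push_cast; rfl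
  have hd4 : ∀ i, (4 : ℤ) ∣ e i * n i - 1 := fun i => degree_mod_four P hP F i _ (hd i)
  have hinj : Function.Injective χ := by
    intro i j hij
    by_contra hne
    have h : F.q i = ((e i * e j : ℤ) : ℂ) • F.q j := by
      funext g
      simp only [Pi.smul_apply, smul_eq_mul, Int.cast_mul, hq, hij]
      linear_combination (-(e i : ℂ) * (χ j : G → ℂ) g) * he2 j
    have h0 := F.q_inner i j
    rw [if_neg hne, h, CfsgLib.Characters.classInner_smul_left, F.q_inner, if_pos rfl, mul_one] at h0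
    have hz : e i * e j = 0 := by exact_mod_cast h0
    rcases he i with h1 | h1 <;> rcases he j with h2 | h2 <;> simp [h1, h2] at hz
  have hχ0 : (χ 0 : G → ℂ) = fun _ => 1 := by
    have h1 := hd 0
    rw [F.q_zero] at h1
    have h1' : e 0 * (n 0 : ℤ) = 1 := by exact_mod_cast h1.symm
    have he0 : e 0 = 1 := by
      rcases he 0 with h | h
      · exact h
      · exfalso
        rw [h] at h1'
        have := hn0 0
        omega
    funext g
    have h2 := hq 0 g
    rw [F.q_zero, he0, Int.cast_one, one_mul] at h2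
    exact h2.symm
  set B := Cfsg.principalBlock M G
  have hsub : ∀ ψ ∈ B, ∃ i, ψ = χ i := by
    intro ψ hψ
    obtain ⟨i, c, hc, heq⟩ := F.block ψ hψ
    refine ⟨i, ?_⟩
    obtain ⟨m, hm0, hm⟩ := CfsgLib.Characters.irr_exists_degree ψ.2
    have h1 := congrFun heq 1
    rw [Pi.smul_apply, smul_eq_mul, hm, hq, hn] at h1
    have hce : c * (e i : ℂ) = 1 := by
      rcases hc with rfl | rfl <;> rcases he i with h | h <;> rw [h] at h1 ⊢ <;> simp at h1 ⊢
      all_goals
        exfalso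
        have h2 := congrArg Complex.re h1
        simp at h2
        have : (0 : ℝ) < m := by exact_mod_cast hm0
        have : (0 : ℝ) < n i := by exact_mod_cast hn0 i
        linarith
    apply Subtype.ext
    funext g
    rw [heq, Pi.smul_apply, smul_eq_mul, hq, ← mul_assoc, hce, one_mul]
  obtain ⟨t, ht⟩ : ∃ t : G, orderOf t = 2 := by
    obtain ⟨⟨b, hb, hb1⟩⟩ := (Nat.card_pos_iff.mp
      (by rw [CfsgLib.Involutions.klein_card_involutions P hP]; norm_num :
        0 < Nat.card {a : G // a ∈ P ∧ a ≠ 1})).1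
    exact ⟨b, CfsgLib.Involutions.klein_orderOf P hP hb hb1⟩
  have hval : ∀ i, ∀ z : G, orderOf z = 2 → (χ i : G → ℂ) z = (e i : ℂ) := by
    intro i z hz
    have h := F.q_even i z (by rw [hz])
    rw [hq] at h
    linear_combination (-(χ i : G → ℂ) z) * he2 i + (e i : ℂ) * h
  have hB : Cfsg.IsPBlock M B := CfsgLib.Blocks.isPBlock_principalBlock M
  have horth := CfsgLib.Blocks.weak_orth hM hB (x := (1 : G)) (y := t)
    (by rw [orderOf_one]; decide) (by rw [ht])
  have himg : Finset.univ.filter (· ∈ B) = (Finset.univ.filter fun i => χ i ∈ B).image χ := by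
    ext ψ
    simp only [Finset.mem_filter, Finset.mem_univ, true_and, Finset.mem_image]
    constructor
    · intro h
      obtain ⟨i, rfl⟩ := hsub ψ h
      exact ⟨i, h, rfl⟩
    · rintro ⟨i, hi, rfl⟩; exact hi
  rw [himg, Finset.sum_image fun a _ b _ h => hinj h,
    Finset.sum_congr rfl (fun i _ => (show (χ i : G → ℂ) 1 * conj ((χ i : G → ℂ) t) =
      ((e i * n i : ℤ) : ℂ) by rw [hn, hval i t ht, map_intCast]; push_cast; ring))] at horth
  have horth' : ∑ i ∈ Finset.univ.filter (fun i => χ i ∈ B), e i * (n i : ℤ) = 0 := by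
    exact_mod_cast horth
  have hmod : (4 : ℤ) ∣ ((Finset.univ.filter fun i => χ i ∈ B).card : ℤ) := by
    have h1 : (4 : ℤ) ∣ ∑ i ∈ Finset.univ.filter (fun i => χ i ∈ B), (e i * (n i : ℤ) - 1) :=
      Finset.dvd_sum fun i _ => hd4 i
    rw [Finset.sum_sub_distrib, horth', zero_sub, dvd_neg, Finset.sum_const, nsmul_eq_mul, mul_one] at h1
    exact h1
  have h0B : χ 0 ∈ B := by
    have h : χ 0 = CfsgLib.Characters.principalIrr G := Subtype.ext hχ0
    rw [h]
    exact CfsgLib.Blocks.sameBlock_refl hM _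
  have hfull : (Finset.univ.filter fun i => χ i ∈ B) = Finset.univ := by
    apply Finset.eq_univ_of_card
    have h1 : 0 < (Finset.univ.filter fun i => χ i ∈ B).card :=
      Finset.card_pos.2 ⟨0, Finset.mem_filter.2 ⟨Finset.mem_univ _, h0B⟩⟩
    have h2 := Finset.card_le_univ (Finset.univ.filter fun i => χ i ∈ B)
    rw [Fintype.card_fin] at h2 ⊢
    omega
  have hall : ∀ i, χ i ∈ B := fun i => by
    have h := Finset.mem_univ i
    rw [← hfull] at h
    exact (Finset.mem_filter.1 h).2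
  rw [hfull] at horth'
  simp only [Fin.sum_univ_four] at horth'
  have e0n0 : e 0 * (n 0 : ℤ) = 1 := by
    have h1 := hd 0
    rw [F.q_zero] at h1
    exact_mod_cast h1.symm
  obtain ⟨a, b, c, hab, hac, hbc, ha0, hb0, hc0, hea, hec, hcov⟩ : ∃ a b c : Fin 4,
      a ≠ b ∧ a ≠ c ∧ b ≠ c ∧ a ≠ 0 ∧ b ≠ 0 ∧ c ≠ 0 ∧ e a = 1 ∧ e c = -1 ∧
      ∀ i, i = 0 ∨ i = a ∨ i = b ∨ i = c := by
    have k1 := hd4 1; have k2 := hd4 2; have k3 := hd4 3
    have p1 := hn0 1; have p2 := hn0 2; have p3 := hn0 3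
    rcases he 1 with a1 | a1 <;> rcases he 2 with a2 | a2 <;> rcases he 3 with a3 | a3 <;>
      simp only [a1, a2, a3, one_mul, neg_one_mul] at horth' k1 k2 k3
    · omega
    · exact ⟨1, 2, 3, by decide, by decide, by decide, by decide, by decide, by decide, a1, a3, by decide⟩
    · exact ⟨1, 3, 2, by decide, by decide, by decide, by decide, by decide, by decide, a1, a2, by decide⟩
    · exact ⟨1, 3, 2, by decide, by decide, by decide, by decide, by decide, by decide, a1, a2, by decide⟩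
    · exact ⟨2, 3, 1, by decide, by decide, by decide, by decide, by decide, by decide, a2, a1, by decide⟩
    · exact ⟨2, 3, 1, by decide, by decide, by decide, by decide, by decide, by decide, a2, a1, by decide⟩
    · exact ⟨3, 2, 1, by decide, by decide, by decide, by decide, by decide, by decide, a3, a1, by decide⟩
    · omega
  have hcd : ∀ i, (Cfsg.charDegree (χ i : G → ℂ) : ℤ) = n i := fun i => by
    rw [CfsgLib.LinearTwist.charDegree_eq_of_apply_one (hn i)]
  refine ⟨χ a, χ b, χ c, e b, he b, ?_, ?_, hinj.ne hab, hinj.ne hac, hinj.ne hbc, ?_, ?_, ?_, ?_, ?_, ?_⟩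
  · rw [← hχ0]; exact fun h => ha0 (hinj (Subtype.ext h))
  · rw [← hχ0]; exact fun h => hb0 (hinj (Subtype.ext h))
  · ext ψ
    simp only [Set.mem_setOf_eq]
    constructor
    · intro hψ
      obtain ⟨i, rfl⟩ := hsub ψ hψ
      rcases hcov i with rfl | rfl | rfl | rfl
      · exact Or.inl hχ0
      · exact Or.inr (Or.inl rfl)
      · exact Or.inr (Or.inr (Or.inl rfl))
      · exact Or.inr (Or.inr (Or.inr rfl))
    · rintro (h | rfl | rfl | rfl)
      · exact (Subtype.ext (h.trans hχ0.symm) : ψ = χ 0) ▸ h0B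
      all_goals exact hall _
  · intro z hz
    exact ⟨by rw [hval a z hz, hea, Int.cast_one], hval b z hz,
      by rw [hval c z hz, hec]; simp⟩
  · have := hd4 a
    rw [hea, one_mul] at this
    rwa [hcd]
  · have := hd4 b
    rw [hcd]
    rcases he b with h | h <;> rw [h] at this ⊢ <;> omega
  · have := hd4 c
    rw [hec] at this
    rw [hcd]
    omega
  · intro y hy
    have h := F.q_sum y hy
    have hu : (Finset.univ : Finset (Fin 4)) = {0, a, b, c} := by
      ext i
      simpa using hcov i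
    rw [hu, Finset.sum_insert (by simp [ha0.symm, hb0.symm, hc0.symm]),
      Finset.sum_insert (by simp [hab, hac]), Finset.sum_insert (by simp [hbc]), Finset.sum_singleton,
      F.q_zero, hq, hq, hq, hea, hec] at h
    push_cast at h
    linear_combination h

end Cfsg.Agent.S0948
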