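import Cfsg.Statements.S1292
import Cfsg.Agent.Lib.Components.Local
-- import your own Cfsg.Agent.* helpers here

set_option autoImplicit false
open Cfsg

namespace Cfsg.Agent.S1292

open Subgroup in
theorem normalizer_le_normalizer_centralizer {G : Type*} [Group G] (T : Subgroup G) :
    normalizer (T : Set G) ≤
      normalizer ((Subgroup.centralizer (T : Set G) : Subgroup G) : Set G) := by
  rw [le_normalizer_iff]
  intro g hg c hc
  rw [mem_centralizer_iff] at hc ⊢
  intro u hu
  have := hc _ ((mem_normalizer_iff.mp (inv_mem hg) u).mp hu)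
  calc u * (g * c * g⁻¹) = g * ((g⁻¹ * u * g⁻¹⁻¹) * c) * g⁻¹ := by group
    _ = g * (c * (g⁻¹ * u * g⁻¹⁻¹)) * g⁻¹ := by rw [this]
    _ = g * c * g⁻¹ * u := by group

open Subgroup in
theorem mem_pCore_transfer {G : Type*} [Group G] [Finite G] {p : ℕ} {A C M : Subgroup G}
    (hAC : A ≤ C) (hAM : A ≤ M) (hn : (A.subgroupOf M).Normal) {r : G} (hrA : r ∈ A) {hrC : r ∈ C}
    (hr : (⟨r, hrC⟩ : C) ∈ Cfsg.pCore p C) : (⟨r, hAM hrA⟩ : M) ∈ Cfsg.pCore p M := by
  haveI := hn
  have h := CfsgLib.PCore.comap_pCore_le (p := p)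
    ((inclusion hAC).comp (subgroupOfEquivOfLe hAM).toMonoidHom)
    ((inclusion_injective hAC).comp (subgroupOfEquivOfLe hAM).injective)
    (x := ⟨⟨r, hAM hrA⟩, hrA⟩) hr
  have := mem_map_of_mem (A.subgroupOf M).subtype h
  rw [CfsgLib.PCore.map_pCore_subtype_of_normal] at this
  exact this.2

/-- Let G be a finite group such that F*(C_G(t)) = O_2(C_G(t)) for every involution t. Then F*(N_G(T)) = O_2(N_G(T)) for every nontrivial 2-subgroup T of G. -/
theorem result {G : Type*} [Group G] [Finite G] (h : ∀ t : G, orderOf t = 2 → Cfsg.generalizedFittingSubgroup ↥(Subgroup.centralizer ({t} : Set G)) = Cfsg.pCore 2 ↥(Subgroup.centralizer ({t} : Set G))) (T : Subgroup G) (hT : IsPGroup 2 ↥T) (hT1 : T ≠ ⊥) : Cfsg.generalizedFittingSubgroup ↥(Subgroup.normalizer (T : Set G)) = Cfsg.pCore 2 ↥(Subgroup.normalizer (T : Set G)) := by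
  open Subgroup CfsgLib.Components in
  haveI : Fact (Nat.Prime 2) := ⟨Nat.prime_two⟩
  haveI : Nontrivial T := T.nontrivial_iff_ne_bot.mpr hT1
  haveI := hT.center_nontrivial
  obtain ⟨z, hz, hord⟩ : ∃ z ∈ center T, orderOf z = 2 := by
    obtain ⟨z, hz⟩ := exists_prime_orderOf_dvd_card' (G := center T) 2
      ((hT.to_subgroup (center T)).exists_card_eq.elim fun n hn => by
        rw [hn]
        refine dvd_pow_self 2 fun h0 => ?_
        rw [h0, pow_zero] at hn
        have := Finite.one_lt_card (α := center T)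
        omega)
    exact ⟨z, z.2, by rwa [Subgroup.orderOf_coe]⟩
  have ht : orderOf (z : G) = 2 := by rwa [Subgroup.orderOf_coe]
  set C := Subgroup.centralizer ({(z : G)} : Set G) with hC
  have hTC : T ≤ C := fun u hu =>
    mem_centralizer_singleton_iff.mpr (congrArg Subtype.val (mem_center_iff.mp hz ⟨u, hu⟩))
  have hC2 := centralizer_pCore_le_of_generalizedFitting_eq (h _ ht)
  have hCTN : Subgroup.centralizer (T : Set G) ≤ normalizer (T : Set G) := centralizer_le_normalizer _
  refine generalizedFitting_eq_pCore_of_centralizer_le 2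
    (centralizer_pCore_le_of_forall fun x hx hxord => ?_)
  have hxT : (x : G) ∈ Subgroup.centralizer (T : Set G) := mem_centralizer_iff.mpr fun u hu =>
    congrArg Subtype.val (mem_centralizer_iff.mp hx ⟨u, le_normalizer hu⟩
      (CfsgLib.PCore.le_pCore (p := 2) (normal_subgroupOf_of_le_normalizer le_rfl) hT.comap_subtype hu))
  have hxC : (x : G) ∈ C := mem_centralizer_singleton_iff.mpr
    (mem_centralizer_iff.mp hxT _ z.2).symm
  suffices h' : (⟨x, hxC⟩ : C) ∈ Subgroup.centralizer (Cfsg.pCore 2 C : Set C) by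
    have := eq_one_of_mem_pCore_of_coprime (hC2 h') (by
      rwa [← Subgroup.orderOf_coe, Subgroup.orderOf_coe x])
    exact Subtype.ext (congrArg (Subtype.val : C → G) this :)
  refine pPrimeElement_mem_centralizer_pCore (P := T.subgroupOf C) hT.comap_subtype
    (by rwa [← Subgroup.orderOf_coe, Subgroup.orderOf_coe x])
    (mem_centralizer_iff.mpr fun u hu => Subtype.ext (mem_centralizer_iff.mp hxT _ hu))
    fun r hr hrT => ?_
  have hrT' : (r : G) ∈ Subgroup.centralizer (T : Set G) := mem_centralizer_iff.mpr fun u hu =>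
    congrArg (Subtype.val : C → G) (mem_centralizer_iff.mp hrT ⟨u, hTC hu⟩ hu)
  have hCTC : Subgroup.centralizer (T : Set G) ≤ C :=
    centralizer_le (Set.singleton_subset_iff.mpr z.2)
  have hn : ((Subgroup.centralizer (T : Set G)).subgroupOf (normalizer (T : Set G))).Normal :=
    (normal_subgroupOf_iff_le_normalizer hCTN).mpr (normalizer_le_normalizer_centralizer T)
  have hrN := mem_pCore_transfer (p := 2) hCTC hCTN hn hrT' hr
  exact Subtype.ext (congrArg Subtype.val (mem_centralizer_iff.mp hx _ hrN)).symm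

end Cfsg.Agent.S1292
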