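import Cfsg.Statements.S1221
import Cfsg.Agent.Lib.BenderTrans.Semireg.Main
import Cfsg.Agent.Lib.BenderTrans.Semireg.Assembly
import Cfsg.Agent.Lib.CoreSplit.Decomp
import Cfsg.Agent.Lib.PF.OddOrder

set_option autoImplicit false
open Cfsg

namespace Cfsg.Agent.S1221

/-- Let H be a strongly embedded subgroup of the finite group G. Then O(H) ≤ O(G): the largest normal subgroup of odd order of H lies in the largest normal subgroup of odd order of G. -/
theorem result {G : Type*} [Group G] [Finite G] (H : Subgroup G) (hH : Cfsg.IsStronglyEmbedded H) : (Cfsg.oddCore ↥H).map H.subtype ≤ Cfsg.oddCore G := by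
  have hodd := fun X (i : Group X) (j : Finite X) hX => @CfsgLib.PF.oddSolvable X i j hX
  exact CfsgLib.BenderTrans.core_in_core
    (fun K Ω _ _ _ _ h hfaith hf => CfsgLib.BenderTrans.coreFree_of_card_le
      CfsgLib.CoreSplit.decompFaithful _ K Ω le_rfl hodd h hfaith hf) hH

end Cfsg.Agent.S1221
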