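import Cfsg.Statements.S1134
import Cfsg.Agent.Lib.RankOneInvol.Basic

set_option autoImplicit false
open Cfsg

namespace Cfsg.Agent.S1134

/-- In the rank-one set-up (`G` finite and doubly transitive on `Ω`, `t` an involution moving `a`, `Q` normal in `G_a` with `G_a = Q D`, `Q ⊓ D = 1` for the two-point stabiliser `D = G_a ⊓ G_{t • a}`, `|Q|` even, `|D|` odd), with the action faithful and `G` containing two distinct commuting involutions, with `V = C_D(t)`: subsets of `V` conjugate in `G` are conjugate in `V`. -/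
theorem result {G Ω : Type*} [Group G] [Finite G] [MulAction G Ω] [FaithfulSMul G Ω] {a : Ω} {t : G} {Q : Subgroup G}
    (hS : Cfsg.IsRankOneSetup G Ω a t Q)
    (h2 : ∃ x y : G, x ≠ 1 ∧ y ≠ 1 ∧ x ≠ y ∧ x * x = 1 ∧ y * y = 1 ∧ x * y = y * x)
    (X : Set G) (hX : X ⊆ (((MulAction.stabilizer G a ⊓ MulAction.stabilizer G (t • a)) ⊓ Subgroup.centralizer {t} : Subgroup G) : Set G)) (g : G)
    (hY : (fun x => g * x * g⁻¹) '' X ⊆ (((MulAction.stabilizer G a ⊓ MulAction.stabilizer G (t • a)) ⊓ Subgroup.centralizer {t} : Subgroup G) : Set G)) :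
    ∃ v ∈ (MulAction.stabilizer G a ⊓ MulAction.stabilizer G (t • a)) ⊓ Subgroup.centralizer {t}, (fun x => v * x * v⁻¹) '' X = (fun x => g * x * g⁻¹) '' X := by
  have hX' : X ⊆ (CfsgLib.RankOneInvol.twoPt G a t : Set G) := fun x hx => (hX hx).1
  set Y : Set G := (fun x => g * x * g⁻¹) '' X with hYdef
  have hY' : Y ⊆ (CfsgLib.RankOneInvol.twoPt G a t : Set G) := fun x hx => (hY hx).1
  obtain ⟨c, hc⟩ := CfsgLib.RankOneInvol.exists_fixed hS hS.mul_self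
  have hca : c ≠ a := by rintro rfl; exact CfsgLib.RankOneInvol.ta_ne hS hc
  have hcb : c ≠ t • a := by
    rintro rfl
    exact CfsgLib.RankOneInvol.ta_ne hS (by rw [← hc, CfsgLib.RankOneInvol.t_smul_smul hS])
  have hVc : ∀ {x : G}, x ∈ (((MulAction.stabilizer G a ⊓ MulAction.stabilizer G (t • a)) ⊓
      Subgroup.centralizer {t} : Subgroup G) : Set G) → x • c = c := fun hx =>
    CfsgLib.RankOneInvol.commute_fixed hS hS.ne_one hS.mul_self
      (Subgroup.mem_centralizer_singleton_iff.1 hx.2) hc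
  have h3Y : ∃ b c d : Ω, b ≠ c ∧ b ≠ d ∧ c ≠ d ∧ ∀ x ∈ Y, x • b = b ∧ x • c = c ∧ x • d = d :=
    ⟨a, t • a, c, (CfsgLib.RankOneInvol.ta_ne hS).symm, hca.symm, hcb.symm, fun x hx =>
      ⟨(CfsgLib.RankOneInvol.mem_twoPt.1 (hY' hx)).1, (CfsgLib.RankOneInvol.mem_twoPt.1 (hY' hx)).2,
        hVc (hY hx)⟩⟩
  have hg : ∀ b : Ω, (∀ x ∈ X, x • b = b) → ∀ y ∈ Y, y • g • b = g • b := by
    rintro b hb _ ⟨x, hx, rfl⟩
    rw [mul_smul, mul_smul, inv_smul_smul, hb x hx]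
  obtain ⟨h, hh, hha, hhb⟩ := CfsgLib.RankOneInvol.centralizer_two_trans hS hY' h3Y
    (hg a fun x hx => (CfsgLib.RankOneInvol.mem_twoPt.1 (hX' hx)).1)
    (hg (t • a) fun x hx => (CfsgLib.RankOneInvol.mem_twoPt.1 (hX' hx)).2)
    (fun x hx => (CfsgLib.RankOneInvol.mem_twoPt.1 (hY' hx)).1)
    (fun x hx => (CfsgLib.RankOneInvol.mem_twoPt.1 (hY' hx)).2)
    (fun e => CfsgLib.RankOneInvol.ta_ne hS (smul_left_cancel g e).symm)
    (CfsgLib.RankOneInvol.ta_ne hS).symm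
  have hd : h * g ∈ CfsgLib.RankOneInvol.twoPt G a t :=
    CfsgLib.RankOneInvol.mem_twoPt.2 ⟨by rw [mul_smul, hha], by rw [mul_smul, hhb]⟩
  obtain ⟨k, v, hk, hv, hvt, hkv⟩ := CfsgLib.RankOneInvol.decomp_V' hS hd
  obtain ⟨hkD, hkt⟩ := (CfsgLib.RankOneInvol.mem_invSet hS).1 hk
  have hvC : v * t = t * v := by
    calc v * t = t * v * t * t := by rw [hvt]
      _ = t * v := by rw [mul_assoc, hS.mul_self, mul_one]
  refine ⟨v, ⟨hv, Subgroup.mem_centralizer_singleton_iff.2 hvC⟩, Set.image_congr fun x hx => ?_⟩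
  have hy : g * x * g⁻¹ ∈ Y := ⟨x, hx, rfl⟩
  have hconj : k * (v * x * v⁻¹) * k⁻¹ = g * x * g⁻¹ := by
    have h1 : (g * x * g⁻¹) * h = h * (g * x * g⁻¹) := Subgroup.mem_centralizer_iff.1 hh _ hy
    calc k * (v * x * v⁻¹) * k⁻¹ = (k * v) * x * (k * v)⁻¹ := by group
      _ = h * (g * x * g⁻¹) * h⁻¹ := by rw [← hkv]; group
      _ = g * x * g⁻¹ := by rw [← h1]; group
  have hfix : ∀ {z : G}, z ∈ (((MulAction.stabilizer G a ⊓ MulAction.stabilizer G (t • a)) ⊓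
      Subgroup.centralizer {t} : Subgroup G) : Set G) → t * z * t = z := fun hz => by
    rw [← Subgroup.mem_centralizer_singleton_iff.1 hz.2, mul_assoc, hS.mul_self, mul_one]
  have hzt : t * (v * x * v⁻¹) * t = v * x * v⁻¹ := by
    rw [CfsgLib.RankOneInvol.conj_t_mul hS, CfsgLib.RankOneInvol.conj_t_mul hS,
      CfsgLib.RankOneInvol.conj_t_inv hS, hvt, hfix (hX hx)]
  have h2 : k⁻¹ * (v * x * v⁻¹) * k = g * x * g⁻¹ := by
    rw [← hfix (hY hy), ← hconj, CfsgLib.RankOneInvol.conj_t_mul hS (k * (v * x * v⁻¹)) k⁻¹,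
      CfsgLib.RankOneInvol.conj_t_mul hS k, CfsgLib.RankOneInvol.conj_t_inv hS, hkt, hzt, inv_inv]
  have hkk : Commute (k * k) (v * x * v⁻¹) := by
    show k * k * (v * x * v⁻¹) = v * x * v⁻¹ * (k * k)
    calc k * k * (v * x * v⁻¹) = k * (k * (v * x * v⁻¹) * k⁻¹) * k := by group
      _ = k * (k⁻¹ * (v * x * v⁻¹) * k) * k := by rw [hconj, h2]
      _ = _ := by group
  obtain ⟨j, hj⟩ := CfsgLib.RankOneInvol.exists_pow_sq_eq (CfsgLib.RankOneInvol.odd_twoPt hS hkD)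
  have h4 := hkk.pow_left j
  rw [(Commute.refl k).mul_pow, hj] at h4
  rw [← hconj, h4.eq, mul_inv_cancel_right]

end Cfsg.Agent.S1134
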