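import Cfsg.Statements.S1248
import Cfsg.Agent.Lib.InvChar.SylowThree
import Cfsg.Agent.Lib.Involutions.Basic

open scoped commutatorElement

set_option autoImplicit false
open Cfsg

namespace Cfsg.Agent.S1248

/-- Let F be a field with 16 elements and S a Sylow 2-subgroup of PSU(3) over F (the unitary group U₃(4)). Then |S| = 64; the centre Z(S) is a Klein four-group and coincides with the subgroup generated by the involutions of S and with the derived subgroup; and every element of S ⧸ Z(S) squares to the identity, S ⧸ Z(S) having order 16. -/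
theorem result {F : Type*} [Field F] [Fintype F] (hF : Fintype.card F = 16) (S : Sylow 2 (Cfsg.PSU 3 F 4)) : Nat.card S = 64 ∧ IsKleinFour (Subgroup.center (S : Subgroup (Cfsg.PSU 3 F 4))) ∧ Subgroup.center (S : Subgroup (Cfsg.PSU 3 F 4)) = Subgroup.closure {x : (S : Subgroup (Cfsg.PSU 3 F 4)) | orderOf x = 2} ∧ Subgroup.center (S : Subgroup (Cfsg.PSU 3 F 4)) = commutator (S : Subgroup (Cfsg.PSU 3 F 4)) ∧ Nat.card ((S : Subgroup (Cfsg.PSU 3 F 4)) ⧸ Subgroup.center (S : Subgroup (Cfsg.PSU 3 F 4))) = 16 ∧ ∀ x : (S : Subgroup (Cfsg.PSU 3 F 4)) ⧸ Subgroup.center (S : Subgroup (Cfsg.PSU 3 F 4)), x ^ 2 = 1 := by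
  classical
  have hF' : Fintype.card F = 4 ^ 2 := by rw [hF]; norm_num
  have he : Even 4 := ⟨2, rfl⟩
  letI := CfsgLib.InvCharThree.hermGroup hF' he
  obtain ⟨e⟩ := CfsgLib.InvCharThree.herm_equiv_sylow_psu hF' he (n := 2) rfl S
  have h2 := CfsgLib.InvCharThree.two_eq_zero hF' he
  have hma := CfsgLib.InvCharThree.herm_mul_a hF' he
  have hmb := CfsgLib.InvCharThree.herm_mul_b hF' he
  have hone : ((1 : CfsgLib.InvCharThree.Herm F 4)).a = 0 := CfsgLib.InvCharThree.herm_one_a hF' he
  let A : CfsgLib.InvCharThree.Herm F 4 →* Multiplicative F :=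
    { toFun := fun x => Multiplicative.ofAdd x.a
      map_one' := by rw [hone]; rfl
      map_mul' := fun x y => by rw [hma]; rfl }
  set Z := (A.ker).map e.toMonoidHom with hZ
  have hmem : ∀ x, e x ∈ Z ↔ x.a = 0 := by
    intro x
    rw [hZ]
    constructor
    · rintro ⟨y, hy, hye⟩
      rw [← e.injective hye]
      exact hy
    · intro h; exact ⟨x, h, rfl⟩
  have hex : ∀ a : F, ∃ x : CfsgLib.InvCharThree.Herm F 4, x.a = a := by
    intro a
    have h := CfsgLib.InvCharThree.card_trace_fibre hF' he
      (CfsgLib.InvCharThree.norm_fixed hF' a)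
    have : Nonempty {b : F // b + b ^ 4 = a ^ (4 + 1)} := (Nat.card_pos_iff.1 (by omega)).1
    obtain ⟨b, hb⟩ := this
    exact ⟨⟨a, b, hb⟩, rfl⟩
  have hcard : Nat.card Z = 4 := by
    rw [Subgroup.card_map_of_injective e.injective]
    refine Eq.trans ?_ (CfsgLib.InvCharThree.card_trace_fibre hF' he (c := (0 : F)) (zero_pow (by norm_num)))
    refine Nat.card_congr
      { toFun := fun x => ⟨x.1.b, ?_⟩
        invFun := fun b => ⟨⟨0, b.1, ?_⟩, ?_⟩
        left_inv := fun x => ?_
        right_inv := fun b => rfl }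
    · have hx : x.1.a = 0 := x.2
      have := x.1.rel
      rw [hx, zero_pow (by norm_num)] at this
      exact this
    · rw [b.2, zero_pow (by norm_num)]
    · rfl
    · exact Subtype.ext (CfsgLib.InvCharThree.Herm.ext (show (0 : F) = x.1.a from
        (show x.1.a = 0 from x.2).symm) rfl)
  have hcS : Nat.card S = 64 := by
    show Nat.card (S : Subgroup (Cfsg.PSU 3 F 4)) = 64
    rw [← Nat.card_congr e.toEquiv, CfsgLib.InvCharThree.natCard_herm hF' he]
    norm_num
  have hsq : ∀ x : CfsgLib.InvCharThree.Herm F 4, (x * x).a = 0 := fun x => by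
    rw [hma, ← two_mul, h2, zero_mul]
  have hinv : ∀ x : CfsgLib.InvCharThree.Herm F 4, x * x = 1 ↔ x.a = 0 := by
    intro x
    constructor
    · intro h
      have hb := congrArg CfsgLib.InvCharThree.Herm.b h
      rw [hmb, CfsgLib.InvCharThree.herm_one_b hF' he, ← two_mul, h2, zero_mul, zero_add,
        ← pow_succ] at hb
      exact (pow_eq_zero_iff (by norm_num)).1 hb
    · intro h
      refine CfsgLib.InvCharThree.Herm.ext ((hsq x).trans hone.symm) ?_
      rw [hmb, CfsgLib.InvCharThree.herm_one_b hF' he, ← two_mul, h2, h, mul_zero, add_zero,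
        zero_mul]
  have hcenter : Subgroup.center (S : Subgroup (Cfsg.PSU 3 F 4)) = Z := by
    ext s
    obtain ⟨x, rfl⟩ := e.surjective s
    rw [hmem, Subgroup.mem_center_iff]
    constructor
    · intro h
      by_contra hx
      have hkey : ∀ c : F, x.a ^ 4 * c = c ^ 4 * x.a := by
        intro c
        obtain ⟨y, rfl⟩ := hex c
        have h1 : y * x = x * y := e.injective (by rw [map_mul, map_mul, h])
        have hb := congrArg CfsgLib.InvCharThree.Herm.b h1
        rw [hmb, hmb] at hb
        linear_combination -hb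
      have hall : ∀ c : F, c ^ 4 = c := by
        intro c
        have h1 := hkey 1
        rw [mul_one, one_pow, one_mul] at h1
        have h2' := hkey c
        rw [h1] at h2'
        exact mul_right_cancel₀ hx (by rw [← h2', mul_comm])
      have hle := CfsgLib.InvCharThree.card_fixed_le (F := F) hF'
      rw [Nat.card_congr (Equiv.subtypeUnivEquiv hall), Nat.card_eq_fintype_card, hF] at hle
      omega
    · intro hx s
      obtain ⟨y, rfl⟩ := e.surjective s
      rw [← map_mul, ← map_mul]
      refine congrArg e (CfsgLib.InvCharThree.Herm.ext ?_ ?_)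
      · rw [hma, hma, add_comm]
      · rw [hmb, hmb, hx, zero_pow (by norm_num), zero_mul, mul_zero]
        ring
  have hcomm : commutator (S : Subgroup (Cfsg.PSU 3 F 4)) = Z := by
    apply le_antisymm
    · rw [commutator_def, Subgroup.commutator_le]
      intro s _ t _
      obtain ⟨x, rfl⟩ := e.surjective s
      obtain ⟨y, rfl⟩ := e.surjective t
      rw [← map_commutatorElement, hmem]
      show Multiplicative.toAdd (A ⁅x, y⁆) = 0
      rw [map_commutatorElement, commutatorElement_eq_one_iff_mul_comm.2 (mul_comm _ _)]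
      rfl
    · rintro s ⟨z, hz, rfl⟩
      have hza : z.a = 0 := hz
      have hzb : z.b + z.b ^ 4 = 0 := by
        have := z.rel
        rwa [hza, zero_pow (by norm_num)] at this
      have hzfix : z.b ^ 4 = z.b := by linear_combination hzb - z.b * h2
      obtain ⟨c, hc⟩ : ∃ c : F, c + c ^ 4 = z.b := by
        have h := CfsgLib.InvCharThree.card_trace_fibre hF' he hzfix
        have : Nonempty {b : F // b + b ^ 4 = z.b} := (Nat.card_pos_iff.1 (by omega)).1
        obtain ⟨b, hb⟩ := this
        exact ⟨b, hb⟩
      obtain ⟨x, hx⟩ := hex 1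
      obtain ⟨y, hy⟩ := hex c
      have he2 : ⁅x, y⁆ = z := by
        have h1 : x * y = z * (y * x) := by
          refine CfsgLib.InvCharThree.Herm.ext ?_ ?_
          · rw [hma, hma, hma, hza, zero_add, add_comm]
          · rw [hmb, hmb, hmb, hma, hx, hy, hza, zero_pow (by norm_num), zero_mul, add_zero,
              one_pow, one_mul, mul_one]
            linear_combination hc - c ^ 4 * h2
        rw [commutatorElement_def, h1]; group
      rw [commutator_def]
      show e z ∈ _
      rw [← he2, map_commutatorElement]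
      exact Subgroup.commutator_mem_commutator (Subgroup.mem_top _) (Subgroup.mem_top _)
  have hclos : Subgroup.closure {x : (S : Subgroup (Cfsg.PSU 3 F 4)) | orderOf x = 2} = Z := by
    apply le_antisymm
    · rw [Subgroup.closure_le]
      intro s hs
      obtain ⟨x, rfl⟩ := e.surjective s
      rw [SetLike.mem_coe, hmem, ← hinv]
      apply e.injective
      rw [map_mul, map_one]
      exact CfsgLib.Involutions.mul_self_eq_one hs
    · intro s hs
      obtain ⟨x, rfl⟩ := e.surjective s
      by_cases h1 : e x = 1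
      · rw [h1]; exact one_mem _
      refine Subgroup.subset_closure (orderOf_eq_prime ?_ h1)
      rw [pow_two, ← map_mul, (hinv x).2 ((hmem x).1 hs), map_one]
  refine ⟨hcS, ?_, hcenter.trans hclos.symm, hcenter.trans hcomm.symm, ?_, ?_⟩
  · rw [hcenter]
    refine ⟨hcard, ?_⟩
    have : Nontrivial Z := Finite.one_lt_card_iff_nontrivial.1 (by rw [hcard]; norm_num)
    rcases (Nat.dvd_prime Nat.prime_two).1 (Monoid.exponent_dvd_of_forall_pow_eq_one (G := Z)
        (n := 2) (fun v => Subtype.ext (by
          obtain ⟨x, hx⟩ := e.surjective (v : (S : Subgroup (Cfsg.PSU 3 F 4)))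
          have hxa : x.a = 0 := (hmem x).1 (by rw [hx]; exact v.2)
          show (v : (S : Subgroup (Cfsg.PSU 3 F 4))) ^ 2 = 1
          rw [← hx, pow_two, ← map_mul, (hinv x).2 hxa, map_one]))) with h | h
    · exact absurd (Monoid.exp_eq_one_iff.1 h) (not_subsingleton _)
    · exact h
  · have h := Subgroup.card_eq_card_quotient_mul_card_subgroup
      (Subgroup.center (S : Subgroup (Cfsg.PSU 3 F 4)))
    rw [hcenter] at h ⊢
    rw [hcard] at h
    have hcS' : Nat.card (S : Subgroup (Cfsg.PSU 3 F 4)) = 64 := hcS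
    omega
  · intro v
    obtain ⟨s, rfl⟩ := QuotientGroup.mk_surjective v
    obtain ⟨x, rfl⟩ := e.surjective s
    rw [← QuotientGroup.mk_pow, QuotientGroup.eq_one_iff, hcenter, pow_two, ← map_mul, hmem]
    exact hsq x

end Cfsg.Agent.S1248
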