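import Cfsg.Statements.S0215
import Cfsg.Agent.Lib.Involutions.BrauerSuzuki
-- import your own Cfsg.Agent.* helpers here

set_option autoImplicit false
open Cfsg

namespace Cfsg.Agent.S0215

/-- Glauberman's Z*-Theorem: let u be an involution in a Sylow 2-subgroup P of a finite group G such that the only G-conjugate of u lying in P is u itself. Then there is a normal subgroup N of odd order such that every commutator of u with an element of G lies in N (that is, uN is central in G/N). -/
theorem result {G : Type*} [Group G] [Finite G] (P : Sylow 2 G) (u : G) (hu : orderOf u = 2) (huP : u ∈ P) (hiso : ∀ g : G, g * u * g⁻¹ ∈ P → g * u * g⁻¹ = u) : ∃ N : Subgroup G, N.Normal ∧ Odd (Nat.card N) ∧ ∀ g : G, (u * g * u⁻¹ * g⁻¹) ∈ N := by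
  have hz : IsIsolatedInvolution u := by
    refine ⟨hu, fun g hg => ?_⟩
    have hv := (CfsgLib.Involutions.orderOf_conj_eq g u).trans hu
    obtain ⟨j, -, hj⟩ := (Nat.dvd_prime_pow Nat.prime_two).mp (show orderOf (u * (g * u * g⁻¹)) ∣ 2 ^ 1 by
      refine orderOf_dvd_of_pow_eq_one ?_
      rw [pow_one, hg.mul_pow, pow_two, pow_two, CfsgLib.Involutions.mul_self_eq_one hu,
        CfsgLib.Involutions.mul_self_eq_one hv, one_mul])
    obtain ⟨c, hc⟩ := CfsgLib.Involutions.exists_conj_le_sylow
      (CfsgLib.Involutions.isPGroup_two_closure_pair hu hv hj) P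
    have h1 := hiso c (hc u (Subgroup.subset_closure (Set.mem_insert _ _)))
    have h2 := hiso (c * g) (by
      have := hc (g * u * g⁻¹) (Subgroup.subset_closure (Set.mem_insert_of_mem _ rfl))
      simpa [mul_assoc] using this)
    have h3 : c * (g * u * g⁻¹) * c⁻¹ = c * u * c⁻¹ := by
      rw [h1]; simpa [mul_assoc] using h2
    exact mul_left_cancel (mul_right_cancel h3)
  refine ⟨pPrimeCore 2 G, inferInstance, ?_, fun g => ?_⟩
  · rw [← Nat.not_even_iff_odd, even_iff_two_dvd]; exact CfsgLib.PCore.not_dvd_card_pPrimeCore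
  · have h := inv_mem (CfsgLib.Involutions.zstar G u hz g)
    simpa [CfsgLib.Involutions.inv_eq_self_of_involution hu, mul_assoc] using h

end Cfsg.Agent.S0215
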