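import Cfsg.Statements.S0502

set_option autoImplicit false
open Cfsg

namespace Cfsg.Agent.S0502

/-- adjacency in the commuting graph on four-subgroups -/
abbrev R {P : Type*} [Group P] : Subgroup P → Subgroup P → Prop :=
  fun A B => IsKleinFour A ∧ IsKleinFour B ∧ ∀ a ∈ A, ∀ b ∈ B, a * b = b * a

theorem closure_pair_comm {P : Type*} [Group P] {a b y : P} (h1 : y * a = a * y) (h2 : y * b = b * y) :
    ∀ x ∈ Subgroup.closure ({a, b} : Set P), y * x = x * y := by
  intro x hx
  have : Subgroup.closure ({a, b} : Set P) ≤ Subgroup.centralizer ({y} : Set P) := by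
    rw [Subgroup.closure_le]
    intro e he
    rw [SetLike.mem_coe, Subgroup.mem_centralizer_singleton_iff]
    rcases he with rfl | rfl
    · exact h1.symm
    · exact h2.symm
  exact (Subgroup.mem_centralizer_singleton_iff.mp (this hx)).symm

theorem four_isKlein {P : Type*} [Group P] {a b : P} (ha : a * a = 1) (hb : b * b = 1)
    (hab : a * b = b * a) (ha1 : a ≠ 1) (hb1 : b ≠ 1) (hne : a ≠ b) :
    IsKleinFour ↥(Subgroup.closure ({a, b} : Set P)) := by
  classical
  have hba : ∀ x, a * (a * x) = x := fun x => by rw [← mul_assoc, ha, one_mul]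
  have hbb : ∀ x, b * (b * x) = x := fun x => by rw [← mul_assoc, hb, one_mul]
  have hcom : ∀ x, b * (a * x) = a * (b * x) := fun x => by rw [← mul_assoc, ← hab, mul_assoc]
  have ainv : a⁻¹ = a := inv_eq_of_mul_eq_one_left ha
  have binv : b⁻¹ = b := inv_eq_of_mul_eq_one_left hb
  let K : Subgroup P :=
    { carrier := {1, a, b, a * b}
      one_mem' := by simp
      mul_mem' := by
        intro x y hx hy
        simp only [Set.mem_insert_iff, Set.mem_singleton_iff] at hx hy ⊢
        rcases hx with rfl | rfl | rfl | rfl <;> rcases hy with rfl | rfl | rfl | rfl <;>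
          simp [mul_assoc, ha, hb, hba, hbb, hab.symm, hcom]
      inv_mem' := by
        intro x hx
        simp only [Set.mem_insert_iff, Set.mem_singleton_iff] at hx ⊢
        rcases hx with rfl | rfl | rfl | rfl <;> simp [ainv, binv, mul_inv_rev, hab.symm] }
  have hK : Subgroup.closure ({a, b} : Set P) = K := by
    apply le_antisymm
    · rw [Subgroup.closure_le]
      intro x hx
      rcases hx with rfl | rfl <;> simp [K]
    · intro x hx
      have hA : a ∈ Subgroup.closure ({a, b} : Set P) := Subgroup.subset_closure (by simp)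
      have hB : b ∈ Subgroup.closure ({a, b} : Set P) := Subgroup.subset_closure (by simp)
      rcases hx with rfl | rfl | rfl | rfl
      · exact one_mem _
      · exact hA
      · exact hB
      · exact mul_mem hA hB
  rw [hK]
  have habne : a * b ≠ 1 := fun h => hne (by rw [← mul_one a, ← hb, ← mul_assoc, h, one_mul])
  have haab : a ≠ a * b := fun h => hb1 (mul_left_cancel (a := a) (by rw [mul_one]; exact h.symm))
  have hbab : b ≠ a * b := fun h => ha1 (mul_right_cancel (b := b) (by rw [one_mul]; exact h.symm))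
  refine ⟨?_, ?_⟩
  · change Nat.card ({1, a, b, a * b} : Set P) = 4
    rw [Nat.card_coe_set_eq, Set.ncard_insert_of_notMem, Set.ncard_insert_of_notMem,
      Set.ncard_pair hbab] <;> simp [ha1.symm, hb1.symm, habne.symm, hne, haab]
  · have hdvd : Monoid.exponent K ∣ 2 := by
      rw [Monoid.exponent_dvd_iff_forall_pow_eq_one]
      rintro ⟨x, hx⟩
      apply Subtype.ext
      change x ^ 2 = 1
      rcases hx with rfl | rfl | rfl | rfl
      · simp
      · rw [pow_two, ha]
      · rw [pow_two, hb]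
      · rw [pow_two, mul_assoc, hcom, hb, mul_one, ha]
    rcases (Nat.dvd_prime Nat.prime_two).mp hdvd with h | h
    · exfalso
      have := Monoid.pow_exponent_eq_one (⟨a, by exact Or.inr (Or.inl rfl)⟩ : K)
      rw [h, pow_one] at this
      exact ha1 (congrArg Subtype.val this)
    · exact h

theorem exists_central {P : Type*} [Group P] [Finite P] (hP : IsPGroup 2 P) (E : Subgroup P) [E.Normal]
    (hE : 2 ≤ Nat.card E) : ∃ z ∈ E, z ≠ 1 ∧ ∀ x : P, z * x = x * z := by
  haveI : Fact (Nat.Prime 2) := ⟨Nat.prime_two⟩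
  have hE' : 2 ∣ Nat.card E := by
    haveI : Nontrivial E := Finite.one_lt_card_iff_nontrivial.mp (by omega)
    obtain ⟨n, hn, he⟩ := (hP.to_subgroup E).nontrivial_iff_card.mp inferInstance
    exact he ▸ dvd_pow_self 2 (by omega)
  let _ : MulAction P E := MulAction.compHom E (MulAut.conjNormal (H := E))
  have h1 : (1 : E) ∈ MulAction.fixedPoints P E := fun g => map_one (MulAut.conjNormal g)
  obtain ⟨b, hb, hne⟩ := hP.exists_fixed_point_of_prime_dvd_card_of_fixed_point E hE' h1
  refine ⟨b, b.2, fun h => hne (Subtype.ext h.symm), fun x => ?_⟩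
  have h : x * (b : P) * x⁻¹ = (b : P) := congrArg Subtype.val (hb x)
  calc (b : P) * x = x * b * x⁻¹ * x := by rw [h]
    _ = x * b := by group

theorem toE {P : Type*} [Group P] [Finite P] {E : Subgroup P} [hn : E.Normal] (hE : IsMulCommutative E)
    (hE2 : ∀ e ∈ E, e ^ 2 = 1) (hE8 : 8 ≤ Nat.card E) {z : P} (hzE : z ∈ E) (hz1 : z ≠ 1)
    (hzc : ∀ x : P, z * x = x * z) (hz2 : z * z = 1) (U : Subgroup P) (hU : IsKleinFour U) :
    ∃ w ∈ E, w ≠ z ∧ w ≠ 1 ∧ Relation.ReflTransGen R U (Subgroup.closure ({z, w} : Set P)) := by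
  classical
  obtain ⟨a, haU, ha1, haz⟩ : ∃ a ∈ U, a ≠ 1 ∧ a ≠ z := by
    by_contra h
    push Not at h
    have : (U : Set P) ⊆ {1, z} := fun x hx => by
      by_cases hx1 : x = 1
      · exact Or.inl hx1
      · exact Or.inr (h x hx hx1)
    have h2 := Set.ncard_le_ncard this (Set.toFinite _)
    rw [← Nat.card_coe_set_eq, Set.ncard_pair (Ne.symm hz1)] at h2
    have h4 : Nat.card U = 4 := hU.card_four
    change Nat.card U ≤ 2 at h2
    omega
  have ha2 : a * a = 1 := by
    have := Monoid.pow_exponent_eq_one (⟨a, haU⟩ : U)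
    rw [hU.exponent_two, pow_two] at this
    exact congrArg Subtype.val this
  have ainv : a⁻¹ = a := inv_eq_of_mul_eq_one_left ha2
  have step1 : R U (Subgroup.closure ({z, a} : Set P)) := by
    refine ⟨hU, four_isKlein hz2 ha2 (hzc a) hz1 ha1 (Ne.symm haz), fun u hu x hx => ?_⟩
    haveI := hU
    haveI := IsKleinFour.isMulCommutative (G := U)
    exact closure_pair_comm (hzc u).symm
      (congrArg Subtype.val (mul_comm' (⟨u, hu⟩ : U) ⟨a, haU⟩)) x hx
  have hEc : ∀ p ∈ E, ∀ q ∈ E, p * q = q * p := fun p hp q hq =>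
    congrArg Subtype.val (hE.is_comm.comm ⟨p, hp⟩ ⟨q, hq⟩)
  obtain ⟨w, hwE, hwz, hw1, hwa⟩ : ∃ w ∈ E, w ≠ z ∧ w ≠ 1 ∧ w * a = a * w := by
    let f : E →* E :=
      { toFun := fun e => ⟨a * e * a⁻¹ * e, E.mul_mem (hn.conj_mem _ e.2 a) e.2⟩
        map_one' := Subtype.ext (by simp)
        map_mul' := fun p q => Subtype.ext (by
          simp only [Subgroup.coe_mul]
          calc a * ((p : P) * q) * a⁻¹ * (p * q) = (a * p * a⁻¹) * ((a * q * a⁻¹) * p) * q := by group
            _ = (a * p * a⁻¹) * ((p : P) * (a * q * a⁻¹)) * q := by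
              rw [hEc _ (hn.conj_mem _ q.2 a) _ p.2]
            _ = a * (p : P) * a⁻¹ * p * (a * q * a⁻¹ * q) := by group) }
    have hrk : f.range ≤ f.ker := by
      rintro _ ⟨e, rfl⟩
      rw [MonoidHom.mem_ker]
      apply Subtype.ext
      show a * (a * (e : P) * a⁻¹ * e) * a⁻¹ * (a * e * a⁻¹ * e) = 1
      have he : (e : P) * e = 1 := by rw [← pow_two]; exact hE2 e e.2
      have h1 : a * (a * (e : P) * a⁻¹ * e) * a⁻¹ = e * (a * e * a⁻¹) := by
        calc a * (a * (e : P) * a⁻¹ * e) * a⁻¹ = (a * a) * e * (a⁻¹ * (e * a⁻¹)) := by group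
          _ = (e : P) * (a * (e * a⁻¹)) := by rw [ha2, one_mul]; simp only [ainv]
          _ = (e : P) * (a * e * a⁻¹) := by group
      rw [h1, hEc _ e.2 _ (hn.conj_mem _ e.2 a)]
      calc a * (e : P) * a⁻¹ * e * (a * e * a⁻¹ * e)
          = a * e * a⁻¹ * (e * (a * e * a⁻¹)) * e := by group
        _ = a * e * a⁻¹ * ((a * e * a⁻¹) * e) * e := by rw [hEc _ e.2 _ (hn.conj_mem _ e.2 a)]
        _ = a * ((e : P) * e) * a⁻¹ * ((e : P) * e) := by group
        _ = 1 := by rw [he]; group
    have hcard : Nat.card E ≤ Nat.card f.ker * Nat.card f.ker := by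
      rw [← Subgroup.card_mul_index f.ker, Subgroup.index_ker]
      exact Nat.mul_le_mul_left _ (Subgroup.card_le_of_le hrk)
    by_contra h
    push Not at h
    have hsub : (f.ker : Set E) ⊆ {1, ⟨z, hzE⟩} := by
      intro e he
      by_cases h1 : e = 1
      · exact Or.inl h1
      by_cases h2 : (e : P) = z
      · exact Or.inr (Subtype.ext h2)
      exfalso
      refine h e e.2 h2 (fun h3 => h1 (Subtype.ext h3)) ?_
      have h4 : a * (e : P) * a⁻¹ * e = 1 := congrArg Subtype.val (MonoidHom.mem_ker.mp he)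
      have he2 : (e : P) * e = 1 := by rw [← pow_two]; exact hE2 e e.2
      calc (e : P) * a = (a * e * a⁻¹ * e) * e * a := by rw [h4, one_mul]
        _ = (a * e * a⁻¹) * ((e : P) * e) * a := by group
        _ = a * e := by rw [he2]; group
    have h2 := Set.ncard_le_ncard hsub (Set.toFinite _)
    rw [← Nat.card_coe_set_eq, Set.ncard_pair (fun e => hz1 (congrArg Subtype.val e).symm)] at h2
    change Nat.card f.ker ≤ 2 at h2
    have := Nat.mul_le_mul h2 h2
    omega
  refine ⟨w, hwE, hwz, hw1, (Relation.ReflTransGen.single step1).tail ⟨step1.2.1,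
    four_isKlein hz2 (by rw [← pow_two]; exact hE2 w hwE) (hzc w) hz1 hw1 (Ne.symm hwz), ?_⟩⟩
  intro p hp q hq
  refine closure_pair_comm (hzc p).symm ?_ q hq
  exact (closure_pair_comm (y := w) (hzc w).symm hwa p hp).symm


/-- If a finite 2-group has a normal elementary abelian subgroup of order at least 8, then any two of its Klein
four-subgroups are joined by a chain of Klein four-subgroups with consecutive members commuting elementwise. -/
theorem result {P : Type*} [Group P] [Finite P] (hP : IsPGroup 2 P)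
    (E : Subgroup P) [E.Normal] (hE : IsMulCommutative E) (hE2 : ∀ e ∈ E, e ^ 2 = 1) (hE8 : 8 ≤ Nat.card E) :
    Cfsg.IsFourConnected P := by
  classical
  intro U V hU hV
  obtain ⟨z, hzE, hz1, hzc⟩ := exists_central hP E (by omega)
  have hz2 : z * z = 1 := by rw [← pow_two]; exact hE2 z hzE
  have hEc : ∀ a ∈ E, ∀ b ∈ E, a * b = b * a := fun a ha b hb =>
    congrArg Subtype.val (hE.is_comm.comm ⟨a, ha⟩ ⟨b, hb⟩)
  obtain ⟨w, hwE, hwz, hw1, hU'⟩ := toE hE hE2 hE8 hzE hz1 hzc hz2 U hU
  obtain ⟨w', hwE', hwz', hw1', hV'⟩ := toE hE hE2 hE8 hzE hz1 hzc hz2 V hV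
  have hsym : ∀ A B : Subgroup P, Relation.ReflTransGen R A B → Relation.ReflTransGen R B A :=
    fun A B h => by
      induction h with
      | refl => exact .refl
      | tail _ h2 ih => exact ih.head ⟨h2.2.1, h2.1, fun a ha b hb => (h2.2.2 b hb a ha).symm⟩
  refine hU'.trans (Relation.ReflTransGen.head ?_ (hsym _ _ hV'))
  refine ⟨four_isKlein hz2 (by rw [← pow_two]; exact hE2 w hwE) (hEc z hzE w hwE) hz1 hw1 (Ne.symm hwz),
    four_isKlein hz2 (by rw [← pow_two]; exact hE2 w' hwE') (hEc z hzE w' hwE') hz1 hw1' (Ne.symm hwz'), ?_⟩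
  intro a ha b hb
  have h : ∀ y : P, y ∈ E → ∀ x ∈ Subgroup.closure ({z, y} : Set P), x ∈ E := fun y hy x hx =>
    (Subgroup.closure_le E).mpr (by
      intro e he
      rcases he with rfl | rfl
      · exact hzE
      · exact hy) hx
  exact hEc a (h w hwE a ha) b (h w' hwE' b hb)


end Cfsg.Agent.S0502
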