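import Cfsg.Statements.S0519
import Cfsg.Agent.Lib.OddOrder41.NormalElementary
import Cfsg.Agent.S0502
import Cfsg.Agent.Lib.Involutions.Basic
import Mathlib

set_option autoImplicit false
open Cfsg

namespace Cfsg.Agent.S0519

open scoped commutatorElement

theorem conj_inv_eq {P : Type*} [Group P] {y g x : P} {χ : P → ℤ} {A : Subgroup P}
    (e : y * g * x * (y * g)⁻¹ = g * y * x * (g * y)⁻¹) (hχ : ∀ k, k * x * k⁻¹ = x ^ χ k)
    (_ : Subgroup.centralizer (A : Set P) = A) (hA : A = Subgroup.zpowers x) :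
    (y * g) * ((g * y)⁻¹ * x * (g * y)) * (y * g)⁻¹ = x := by
  obtain ⟨j, hj⟩ : ∃ j : ℤ, (g * y)⁻¹ * x * (g * y) = x ^ j :=
    ⟨χ (g * y)⁻¹, by simpa using hχ (g * y)⁻¹⟩
  rw [hj, ← conj_zpow, e, conj_zpow, ← hj]
  group

theorem dvd_sub_one_of_pow {p : ℕ} (hp : p.Prime) (hodd : p ≠ 2) (m : ℕ) (k : ℤ)
    (h : (p : ℤ) ^ m ∣ k ^ p - 1) : (p : ℤ) ^ (m - 1) ∣ k - 1 := by
  haveI := Fact.mk hp
  rcases m with _ | m
  · simp
  rw [Nat.add_sub_cancel]
  have hk : (p : ℤ) ∣ k - 1 := by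
    rw [← ZMod.intCast_zmod_eq_zero_iff_dvd]
    have h1 : ((k ^ p - 1 : ℤ) : ZMod p) = 0 := by
      rw [ZMod.intCast_zmod_eq_zero_iff_dvd]
      exact (dvd_pow_self _ (Nat.succ_ne_zero m)).trans h
    push_cast at h1 ⊢
    rwa [ZMod.pow_card] at h1
  obtain ⟨b, hb⟩ := hk
  have hS := odd_sq_dvd_geom_sum₂_sub (R := ℤ) (p := p) (a := 1) b (hp.odd_of_ne_two hodd)
  simp only [one_pow, mul_one] at hS
  have hk' : k = 1 + p * b := by linarith
  rw [← hk'] at hS
  obtain ⟨w, hw⟩ := hS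
  have hgs := geom_sum_mul k p
  rw [sub_eq_iff_eq_add] at hw
  rw [hw] at hgs
  rw [← hgs] at h
  rw [pow_succ', show ((p : ℤ) ^ 2 * w + p) * (k - 1) = p * ((p * w + 1) * (k - 1)) by ring] at h
  have h2 := (mul_dvd_mul_iff_left (by exact_mod_cast hp.ne_zero)).mp h
  exact IsCoprime.dvd_of_dvd_mul_left (IsCoprime.pow_left ⟨-w, 1, by ring⟩) h2

theorem two_split (m : ℕ) (hm : 1 ≤ m) (k : ℤ) (h : (2 : ℤ) ^ m ∣ k ^ 2 - 1) :
    Odd k ∧ ((2 : ℤ) ^ (m - 1) ∣ k - 1 ∨ (2 : ℤ) ^ (m - 1) ∣ k + 1) := by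
  obtain ⟨m, rfl⟩ : ∃ j, m = j + 1 := ⟨m - 1, by omega⟩
  rw [Nat.add_sub_cancel]
  rcases Int.even_or_odd k with ⟨j, hj⟩ | ⟨j, hj⟩
  · exfalso
    have h1 : (2 : ℤ) ∣ k ^ 2 - 1 := (dvd_pow_self _ (Nat.succ_ne_zero m)).trans h
    have h2 : (2 : ℤ) ∣ k ^ 2 := ⟨2 * j * j, by rw [hj]; ring⟩
    have := h2.sub h1
    simp at this
  refine ⟨⟨j, hj⟩, ?_⟩
  rcases m with _ | m
  · simp
  have h' : (2 : ℤ) ^ m ∣ j * (j + 1) := by
    rw [hj, show (2 * j + 1) ^ 2 - 1 = 2 ^ 2 * (j * (j + 1)) by ring, show m + 1 + 1 = 2 + m by omega,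
      pow_add] at h
    exact (mul_dvd_mul_iff_left (by norm_num)).mp h
  rcases Int.even_or_odd j with ⟨i, hi⟩ | ⟨i, hi⟩
  · left
    have : (2 : ℤ) ^ m ∣ j := by
      refine IsCoprime.dvd_of_dvd_mul_right (IsCoprime.pow_left ⟨-i, 1, by rw [hi]; ring⟩) h'
    rw [hj, add_sub_cancel_right, pow_succ']
    exact mul_dvd_mul_left 2 this
  · right
    have : (2 : ℤ) ^ m ∣ j + 1 := by
      refine IsCoprime.dvd_of_dvd_mul_left (IsCoprime.pow_left ⟨-i, 1, by rw [hi]; ring⟩) h'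
    rw [hj, show 2 * j + 1 + 1 = 2 * (j + 1) by ring, pow_succ']
    exact mul_dvd_mul_left 2 this

theorem unit_odd_gen {P : Type*} [Group P] [Finite P] {x y : P} {m : ℕ} {k : ℤ} (hm : 1 ≤ m)
    (hx : orderOf x = 2 ^ m) (h : y * x * y⁻¹ = x ^ k) (hk : (2 : ℤ) ∣ k) : False := by
  obtain ⟨j, rfl⟩ := hk
  have h1 : orderOf (x ^ (2 * j)) = orderOf x := by
    rw [← h]
    exact orderOf_injective (MulAut.conj y).toMonoidHom (MulAut.conj y).injective x
  have hmul : (2 : ℕ) ^ m = 2 * 2 ^ (m - 1) := by rw [← pow_succ']; congr 1; omega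
  have hcast : (2 : ℤ) * (2 ^ (m - 1) : ℕ) = ((orderOf x : ℕ) : ℤ) := by
    rw [hx, hmul]; push_cast; ring
  have h2 : (x ^ (2 * j)) ^ (2 ^ (m - 1)) = 1 := by
    rw [← zpow_natCast, ← zpow_mul, ← orderOf_dvd_iff_zpow_eq_one]
    refine ⟨j, ?_⟩
    rw [← hcast]; ring
  have h3 := orderOf_dvd_of_pow_eq_one h2
  rw [h1, hx] at h3
  have h4 := Nat.le_of_dvd (by positivity) h3
  have h5 : 0 < 2 ^ (m - 1) := by positivity
  omega

theorem unit_odd {P : Type*} [Group P] [Finite P] {x y : P} {k : ℤ}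
    (hx : orderOf x = 2 ^ 2) (h : y * x * y⁻¹ = x ^ k) (hk : (2 : ℤ) ∣ k) : False :=
  unit_odd_gen (by norm_num) hx h hk

theorem mul_pow_central {P : Type*} [Group P] (v u c : P) (h : u * v = v * u * c) (hv : Commute c v)
    (hu : Commute c u) (n : ℕ) : (v * u) ^ n = v ^ n * u ^ n * c ^ n.choose 2 := by
  have hun : ∀ j : ℕ, u ^ j * v = v * u ^ j * c ^ j := by
    intro j
    induction j with
    | zero => simp
    | succ j ih =>
      calc u ^ (j + 1) * v = u * (u ^ j * v) := by rw [pow_succ']; group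
        _ = u * (v * u ^ j * c ^ j) := by rw [ih]
        _ = (u * v) * u ^ j * c ^ j := by group
        _ = v * u * c * u ^ j * c ^ j := by rw [h]
        _ = v * u * (c * u ^ j) * c ^ j := by group
        _ = v * u * (u ^ j * c) * c ^ j := by rw [(hu.pow_right j).eq]
        _ = v * u ^ (j + 1) * c ^ (j + 1) := by rw [pow_succ', pow_succ' c]; group
  induction n with
  | zero => simp
  | succ n ih =>
    calc (v * u) ^ (n + 1) = v ^ n * u ^ n * (c ^ n.choose 2 * v) * u := by rw [pow_succ, ih]; group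
      _ = v ^ n * u ^ n * (v * c ^ n.choose 2) * u := by rw [(hv.pow_left _).eq]
      _ = v ^ n * (u ^ n * v) * (c ^ n.choose 2 * u) := by group
      _ = v ^ n * (v * u ^ n * c ^ n) * (u * c ^ n.choose 2) := by rw [hun, (hu.pow_left _).eq]
      _ = v ^ n * v * u ^ n * (c ^ n * u) * c ^ n.choose 2 := by group
      _ = v ^ n * v * u ^ n * (u * c ^ n) * c ^ n.choose 2 := by rw [(hu.pow_left _).eq]
      _ = v ^ (n + 1) * u ^ (n + 1) * c ^ (n + 1).choose 2 := by
        rw [Nat.choose_succ_succ' n 1, Nat.choose_one_right, pow_succ, pow_succ, pow_add]; group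

theorem caseC {P : Type*} [Group P] [Finite P] {p : ℕ} [hp : Fact p.Prime] {x y : P} {m : ℕ}
    {k : ℤ} (hx : orderOf x = p ^ m) (hy : y ∉ Subgroup.zpowers x) (hyp : y ^ p ∈ Subgroup.zpowers x)
    (hk : y * x * y⁻¹ = x ^ k) (hdvd : (p : ℤ) ^ (m - 1) ∣ k - 1) (hnd : ¬ (p : ℤ) ^ m ∣ k - 1)
    (h3 : p = 2 → 3 ≤ m) (hcomm : ∀ g : P, ⁅y, g⁆ ∈ Subgroup.zpowers x)
    (hxn : ∀ g : P, ∃ i : ℤ, g * x * g⁻¹ = x ^ i) :
    ∃ E : Subgroup P, E.Normal ∧ IsMulCommutative E ∧ ¬ IsCyclic E := by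
  classical
  have hp0 : (p : ℤ) ≠ 0 := by exact_mod_cast hp.out.ne_zero
  have hone : ∀ a : ℤ, (p : ℤ) ^ m ∣ a → x ^ a = 1 := by
    intro a ha
    rw [← orderOf_dvd_iff_zpow_eq_one, hx]; exact_mod_cast ha
  have hdiv : ∀ a : ℤ, x ^ a = 1 → (p : ℤ) ^ m ∣ a := by
    intro a ha
    have := orderOf_dvd_iff_zpow_eq_one.mpr ha
    rw [hx] at this; exact_mod_cast this
  have hm1 : 1 ≤ m := by
    by_contra h
    have : m = 0 := by omega
    subst this
    exact hnd (by simp)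
  obtain ⟨j, hj⟩ := hdvd
  have hpj : ¬ (p : ℤ) ∣ j := by
    rintro ⟨i, rfl⟩
    refine hnd ⟨i, ?_⟩
    rw [hj, show (p:ℤ) ^ m = (p:ℤ) ^ (m - 1) * p by rw [← pow_succ]; congr 1; omega]; ring
  have hm2 : 2 ≤ m := by
    by_contra h
    have : m = 1 := by omega
    subst this
    have hyp' : (p : ℤ) ∣ k ^ p - 1 := by
      have hpow : ∀ i : ℕ, y ^ i * x * (y ^ i)⁻¹ = x ^ (k ^ i) := by
        intro i
        induction i with
        | zero => simp
        | succ i ih =>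
          calc y ^ (i + 1) * x * (y ^ (i + 1))⁻¹ = y * (y ^ i * x * (y ^ i)⁻¹) * y⁻¹ := by
                rw [pow_succ']; group
            _ = x ^ (k ^ (i + 1)) := by rw [ih, ← conj_zpow, hk, ← zpow_mul, pow_succ']
      obtain ⟨l, hl⟩ := hyp
      have h5 : x ^ (k ^ p - 1) = 1 := by
        rw [zpow_sub, ← hpow p, zpow_one, ← (show x ^ l = y ^ p from hl)]; group
      simpa using hdiv _ h5
    apply hnd
    rw [pow_one, ← ZMod.intCast_zmod_eq_zero_iff_dvd]
    have h6 := (ZMod.intCast_zmod_eq_zero_iff_dvd _ p).mpr hyp'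
    push_cast at h6 ⊢
    rwa [ZMod.pow_card] at h6
  set z := x ^ (k - 1) with hz
  have hz1 : z ≠ 1 := fun h => hnd (hdiv _ h)
  have hsq : (p : ℤ) ^ m ∣ (k - 1) * (k - 1) := by
    rw [hj]
    refine Dvd.intro ((p : ℤ) ^ (m - 2) * (j * j)) ?_
    rw [← mul_assoc, ← pow_add]
    rw [show (p : ℤ) ^ (m - 1) * j * ((p : ℤ) ^ (m - 1) * j) = (p : ℤ) ^ (m - 1 + (m - 1)) * (j * j) by
      rw [pow_add]; ring]
    congr 2; omega
  have hzy : Commute y z := by
    show y * z = z * y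
    have : y * z * y⁻¹ = z := by
      rw [hz, ← conj_zpow, hk, ← zpow_mul]
      calc x ^ (k * (k - 1)) = x ^ ((k - 1) * (k - 1)) * x ^ (k - 1) := by rw [← zpow_add]; ring_nf
        _ = x ^ (k - 1) := by rw [hone _ hsq, one_mul]
    calc y * z = y * z * y⁻¹ * y := by group
      _ = z * y := by rw [this]
  have hzp : z ^ p = 1 := by
    rw [hz, ← zpow_natCast, ← zpow_mul]
    refine hone _ ⟨j, ?_⟩
    rw [hj, show (p:ℤ) ^ m = (p:ℤ) ^ (m - 1) * p by rw [← pow_succ]; congr 1; omega]; ring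
  have hzo : orderOf z = p := orderOf_eq_prime hzp hz1
  obtain ⟨l, hl⟩ := hyp
  have hpl : (p : ℤ) ∣ l := by
    have h1 : x ^ (l * (k - 1)) = 1 := by
      have e : x ^ l = y ^ p := hl
      have e2 : x ^ (k * l) = x ^ l := by
        rw [zpow_mul, ← hk, conj_zpow, e, ← pow_succ', pow_succ, mul_inv_cancel_right]
      rw [show l * (k - 1) = k * l - l by ring, zpow_sub, e2, mul_inv_cancel]
    have h2 := hdiv _ h1
    rw [hj, show (p:ℤ) ^ m = (p:ℤ) ^ (m - 1) * p by rw [← pow_succ]; congr 1; omega,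
      show l * ((p:ℤ) ^ (m - 1) * j) = (p:ℤ) ^ (m - 1) * (l * j) by ring] at h2
    have h3 := (mul_dvd_mul_iff_left (pow_ne_zero _ hp0)).mp h2
    exact ((Nat.prime_iff_prime_int.mp hp.out).dvd_or_dvd h3).resolve_right hpj
  obtain ⟨l', hl'⟩ := hpl
  obtain ⟨w, hw, hw1⟩ : ∃ w : ℤ, (p : ℤ) + (k - 1) * (p.choose 2 : ℕ) = p * w ∧ (p : ℤ) ∣ w - 1 := by
    by_cases hp2 : p = 2
    · subst hp2
      have := h3 rfl
      refine ⟨1 + 2 ^ (m - 2) * j, ?_, ?_⟩
      · rw [hj, show m - 1 = m - 2 + 1 by omega, pow_succ]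
        norm_num; ring
      · rw [add_sub_cancel_left]
        exact ((dvd_pow_self (2 : ℤ) (show m - 2 ≠ 0 by omega)).mul_right j)
    · obtain ⟨h, hh⟩ := hp.out.odd_of_ne_two hp2
      have hc : p.choose 2 = p * h := by
        rw [Nat.choose_two_right, show p - 1 = 2 * h by omega,
          show p * (2 * h) = 2 * (p * h) by ring, Nat.mul_div_cancel_left _ two_pos]
      refine ⟨1 + (k - 1) * h, by rw [hc]; push_cast; ring, ?_⟩
      rw [add_sub_cancel_left, hj]
      exact ((dvd_pow_self (p : ℤ) (show m - 1 ≠ 0 by omega)).mul_right j).mul_right _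
  have hcop : IsCoprime w ((p : ℤ) ^ (m - 1)) := by
    refine IsCoprime.pow_right ?_
    obtain ⟨i, hi⟩ := hw1
    exact ⟨1, -i, by linear_combination hi⟩
  have hform : ∀ (u : P), u * x * u⁻¹ = x ^ k → Commute z u → ∀ a : ℤ,
      (x ^ a * u) ^ p = x ^ (a * ((p : ℤ) + (k - 1) * (p.choose 2 : ℕ))) * u ^ p := by
    intro u hu hzu a
    have hzu' : ∀ i : ℤ, Commute (x ^ ((k - 1) * i)) u := fun i => by
      rw [zpow_mul]; exact hzu.zpow_left i
    have h1 : u * x ^ a = x ^ a * u * x ^ ((k - 1) * a) := by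
      rw [mul_assoc, ← (hzu' a).eq, ← mul_assoc, ← zpow_add,
        show a + (k - 1) * a = k * a by ring, zpow_mul, ← hu, conj_zpow]
      group
    rw [mul_pow_central _ _ _ h1 ((Commute.refl x).zpow_zpow _ _) (hzu' a) p,
      ← zpow_natCast (x ^ a), ← zpow_mul, ← zpow_natCast (x ^ ((k - 1) * a)), ← zpow_mul,
      mul_assoc (k - 1) a, mul_assoc (x ^ (a * (p:ℤ))),
      ← ((hzu' (a * (p.choose 2 : ℕ))).pow_right p).eq, ← mul_assoc, ← zpow_add,
      show a * (p : ℤ) + (k - 1) * (a * (p.choose 2 : ℕ)) = a * ((p : ℤ) + (k - 1) * (p.choose 2 : ℕ)) by ring]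
  obtain ⟨c, d, hcd⟩ := hcop
  set u := x ^ (-c * l') * y with hu
  have hzx : ∀ i : ℤ, Commute z (x ^ i) := fun i => (Commute.refl x).zpow_zpow _ _
  have hzu : Commute z u := (hzx _).mul_right hzy.symm
  have huc : u * x * u⁻¹ = x ^ k := by
    calc u * x * u⁻¹ = x ^ (-c * l') * (y * x * y⁻¹) * (x ^ (-c * l'))⁻¹ := by rw [hu]; group
      _ = x ^ k := by rw [hk]; group
  have hup : u ^ p = 1 := by
    rw [hu, hform y hk hzy.symm, ← (show x ^ l = y ^ p from hl), ← zpow_add]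
    refine hone _ ⟨l' * d, ?_⟩
    rw [hw, hl', show (p:ℤ) ^ m = (p:ℤ) ^ (m - 1) * p by rw [← pow_succ]; congr 1; omega]
    linear_combination (-(l' * (p:ℤ))) * hcd
  have hu_not : u ∉ Subgroup.zpowers x := by
    intro h
    apply hy
    have h2 := Subgroup.mul_mem _ (Subgroup.inv_mem _ (Subgroup.zpow_mem _ (Subgroup.mem_zpowers x) (-c * l'))) h
    rw [hu, inv_mul_cancel_left] at h2
    exact h2
  set E := Subgroup.closure ({z, u} : Set P) with hE
  have hzE : z ∈ E := Subgroup.subset_closure (by simp)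
  have huE : u ∈ E := Subgroup.subset_closure (by simp)
  have hEcomm : IsMulCommutative E := by
    refine Subgroup.isMulCommutative_closure ?_
    rintro a (rfl | rfl) b (rfl | rfl)
    · rfl
    · exact hzu.eq
    · exact hzu.eq.symm
    · rfl
  have hzgen : ∀ a : ℤ, (p : ℤ) ^ (m - 1) ∣ a → x ^ a ∈ E := by
    rintro a ⟨b, rfl⟩
    obtain ⟨e, f, hef⟩ := ((Nat.prime_iff_prime_int.mp hp.out).coprime_iff_not_dvd.mpr hpj)
    have hh : x ^ ((p : ℤ) ^ (m - 1) * b) = z ^ (f * b) := by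
      rw [hz, ← zpow_mul, ← mul_inv_eq_one, ← zpow_sub]
      refine hone _ ⟨e * b, ?_⟩
      rw [hj, show (p:ℤ) ^ m = (p:ℤ) ^ (m - 1) * p by rw [← pow_succ]; congr 1; omega]
      linear_combination (-((p:ℤ) ^ (m - 1) * b)) * hef
    rw [hh]
    exact E.zpow_mem hzE _
  refine ⟨E, ⟨?_⟩, hEcomm, ?_⟩
  · intro e he g
    refine CfsgLib.OddOrder41.closure_conj_invariant (a := g) ?_ e he
    rintro s (rfl | rfl)
    · -- `z` is a power of `x`; its conjugates have order dividing p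
      obtain ⟨i, hi⟩ : ∃ i : ℤ, g * x * g⁻¹ = x ^ i := by
        exact hxn g
      rw [hz, ← conj_zpow, hi, ← zpow_mul]
      exact hzgen _ (Dvd.dvd.mul_left ⟨j, hj⟩ i)
    · obtain ⟨a, ha⟩ : ∃ a : ℤ, g * u * g⁻¹ = x ^ a * u := by
        have hmem : g * u * g⁻¹ * u⁻¹ ∈ Subgroup.zpowers x := by
          have hyg := hcomm g
          obtain ⟨i, hi⟩ := hxn g
          have e1 : g * u * g⁻¹ * u⁻¹ =
              (g * x * g⁻¹) ^ (-c * l') * (⁅y, g⁆⁻¹) * (x ^ (-c * l'))⁻¹ := by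
            rw [hu, conj_zpow, commutatorElement_def]; group
          rw [e1, hi]
          exact Subgroup.mul_mem _ (Subgroup.mul_mem _ (Subgroup.zpow_mem _ (Subgroup.zpow_mem _
            (Subgroup.mem_zpowers x) _) _) (Subgroup.inv_mem _ hyg))
            (Subgroup.inv_mem _ (Subgroup.zpow_mem _ (Subgroup.mem_zpowers x) _))
        obtain ⟨a, ha⟩ := hmem
        refine ⟨a, ?_⟩
        rw [show x ^ a = g * u * g⁻¹ * u⁻¹ from ha]; group
      rw [ha]
      refine E.mul_mem (hzgen a ?_) huE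
      have h1 : (x ^ a * u) ^ p = 1 := by rw [← ha, conj_pow, hup]; group
      rw [hform u huc hzu, hup, mul_one, hw] at h1
      have h2 := hdiv _ h1
      rw [show (p:ℤ) ^ m = (p:ℤ) * (p:ℤ) ^ (m - 1) by rw [← pow_succ']; congr 1; omega,
        show a * ((p:ℤ) * w) = (p:ℤ) * (a * w) by ring] at h2
      have h4 := (mul_dvd_mul_iff_left hp0).mp h2
      exact IsCoprime.dvd_of_dvd_mul_right (IsCoprime.symm ⟨c, d, hcd⟩) h4
  · intro hcyc
    obtain ⟨g, hg⟩ := IsCyclic.exists_generator (α := E)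
    have hexp : (g : P) ^ p = 1 := by
      have hle : E ≤ ({ carrier := {t | t ^ p = 1 ∧ t ∈ E}
                        one_mem' := ⟨one_pow p, E.one_mem⟩
                        mul_mem' := fun {a b} ha hb => ⟨by
                          have hab : Commute a b := congrArg Subtype.val
                            (hEcomm.is_comm.comm ⟨a, ha.2⟩ ⟨b, hb.2⟩)
                          rw [hab.mul_pow, ha.1, hb.1, one_mul], E.mul_mem ha.2 hb.2⟩
                        inv_mem' := fun {a} ha => ⟨by rw [inv_pow, ha.1, inv_one], E.inv_mem ha.2⟩ } :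
          Subgroup P) := by
        refine le_of_eq_of_le hE ?_
        rw [Subgroup.closure_le]
        rintro s (rfl | rfl)
        · exact ⟨hzp, hzE⟩
        · exact ⟨hup, huE⟩
      exact (hle g.2).1
    have hcard : Nat.card E ≤ p := by
      rw [← orderOf_eq_card_of_forall_mem_zpowers hg, ← Subgroup.orderOf_coe]
      exact Nat.le_of_dvd hp.out.pos (orderOf_dvd_of_pow_eq_one hexp)
    have hle : Subgroup.zpowers z ≤ E := Subgroup.zpowers_le.mpr hzE
    have := Subgroup.eq_of_le_of_card_ge hle (by rwa [Nat.card_zpowers, hzo])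
    exact hu_not (Subgroup.zpowers_le.mpr (Subgroup.zpow_mem _ (Subgroup.mem_zpowers x) (k - 1))
      (this.symm ▸ huE))

theorem dihedral_eight {P : Type*} [Group P] [Finite P] {x y : P} (hx : orderOf x = 2 ^ 2)
    (hP : Nat.card P = 2 * 2 ^ 2) (hy : y * y = 1) (hconj : y * x * y⁻¹ = x⁻¹)
    (hyA : y ∉ Subgroup.zpowers x) :
    ∃ E : Subgroup P, E.Normal ∧ IsMulCommutative E ∧ ¬ IsCyclic E := by
  have hx4 : x ^ (4 : ℕ) = 1 := by
    have := pow_orderOf_eq_one x
    rwa [hx] at this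
  have hzz : x ^ 2 * x ^ 2 = 1 := by rw [← pow_add]; exact hx4
  have hzy : x ^ 2 * y = y * x ^ 2 := by
    have h : y * x ^ 2 * y⁻¹ = x ^ 2 := by
      rw [← conj_pow, hconj, inv_pow, inv_eq_of_mul_eq_one_left hzz]
    calc x ^ 2 * y = y * x ^ 2 * y⁻¹ * y := by rw [h]
      _ = y * x ^ 2 := by group
  have hz1 : x ^ 2 ≠ 1 := fun h => by
    have h2 := Nat.le_of_dvd two_pos (orderOf_dvd_of_pow_eq_one h)
    rw [hx] at h2
    norm_num at h2
  have hy1 : y ≠ 1 := fun h => hyA (h ▸ one_mem _)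
  have hne : x ^ 2 ≠ y := fun h => hyA (h ▸ Subgroup.pow_mem _ (Subgroup.mem_zpowers x) 2)
  set E := Subgroup.closure ({x ^ 2, y} : Set P) with hE
  have hK : IsKleinFour E := Cfsg.Agent.S0502.four_isKlein hzz hy hzy hz1 hy1 hne
  have hidx : E.index = 2 := by
    have h := Subgroup.card_mul_index E
    rw [hK.card_four, hP] at h
    omega
  exact ⟨E, Subgroup.normal_of_index_eq_two hidx, IsKleinFour.isMulCommutative,
    IsKleinFour.not_isCyclic⟩

theorem quaternion_abelian_cyclic {P : Type*} [Group P] [Finite P] {x y : P} {m : ℕ} {l : ℤ}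
    (hx : orderOf x = 2 ^ m) (hconj : y * x * y⁻¹ = x⁻¹) (hl : y ^ 2 = x ^ l) (hl0 : x ^ l ≠ 1)
    (hcover : ∀ g : P, g ∈ Subgroup.zpowers x ∨ ∃ a ∈ Subgroup.zpowers x, g = a * y)
    (B : Subgroup P) (hB : IsMulCommutative B) : IsCyclic B := by
  classical
  have hinv : ∀ i : ℤ, y * x ^ i * y⁻¹ = x ^ (-i) := fun i => by
    rw [← conj_zpow, hconj, inv_zpow, zpow_neg]
  by_cases hBA : B ≤ Subgroup.zpowers x
  · exact isCyclic_of_injective (Subgroup.inclusion hBA) (Subgroup.inclusion_injective hBA)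
  obtain ⟨b, hb, hbA⟩ := SetLike.not_le_iff_exists.mp hBA
  obtain ⟨a, ⟨i, rfl⟩, hbe⟩ := (hcover b).resolve_left hbA
  have hbx : ∀ j : ℤ, b * x ^ j * b⁻¹ = x ^ (-j) := fun j => by
    rw [hbe, show x ^ i * y * x ^ j * (x ^ i * y)⁻¹ = x ^ i * (y * x ^ j * y⁻¹) * (x ^ i)⁻¹ by group,
      hinv]
    group
  have hb2 : b ^ 2 = x ^ l := by
    rw [hbe, pow_two, show x ^ i * y * (x ^ i * y) = x ^ i * (y * x ^ i * y⁻¹) * y ^ 2 by group, hinv, hl]
    group
  have hsq : ∀ j : ℤ, x ^ j ∈ B → (x ^ j) * (x ^ j) = 1 := by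
    intro j hj
    have hc : b * x ^ j = x ^ j * b := congrArg Subtype.val (hB.is_comm.comm ⟨b, hb⟩ ⟨_, hj⟩)
    have h1 : x ^ j = x ^ (-j) := by rw [← hbx j, hc, mul_inv_cancel_right]
    nth_rewrite 2 [h1]
    rw [zpow_neg, mul_inv_cancel]
  have hlB : x ^ l ∈ B := hb2 ▸ B.pow_mem hb 2
  have huniq : ∀ j : ℤ, x ^ j ∈ B → x ^ j = 1 ∨ x ^ j = x ^ l := by
    intro j hj
    by_contra hne
    push Not at hne
    letI : Fintype (Subgroup.zpowers x) := Fintype.ofFinite _
    let e1 : Subgroup.zpowers x := 1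
    let ej : Subgroup.zpowers x := ⟨x ^ j, j, rfl⟩
    let el : Subgroup.zpowers x := ⟨x ^ l, l, rfl⟩
    have hc3 : ({e1, ej, el} : Finset (Subgroup.zpowers x)).card = 3 :=
      Finset.card_eq_three.mpr ⟨_, _, _, fun h => hne.1 (congrArg Subtype.val h).symm,
        fun h => hl0 (congrArg Subtype.val h).symm, fun h => hne.2 (congrArg Subtype.val h), rfl⟩
    have hsub : ({e1, ej, el} : Finset (Subgroup.zpowers x)) ⊆
        Finset.univ.filter (fun t => t ^ 2 = 1) := by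
      intro t ht
      simp only [Finset.mem_insert, Finset.mem_singleton] at ht
      simp only [Finset.mem_filter, Finset.mem_univ, true_and]
      rcases ht with rfl | rfl | rfl
      · exact one_pow 2
      · exact Subtype.ext (by rw [pow_two]; exact hsq j hj)
      · exact Subtype.ext (by rw [pow_two]; exact hsq l hlB)
    have h2 := (Finset.card_le_card hsub).trans (IsCyclic.card_pow_eq_one_le two_pos)
    omega
  refine ⟨⟨⟨b, hb⟩, ?_⟩⟩
  rintro ⟨t, ht⟩
  have hmem : ∀ s : P, s ∈ B → s ∈ Subgroup.zpowers x → s ∈ Subgroup.zpowers b := by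
    rintro s hsB ⟨j, rfl⟩
    rcases huniq j hsB with e | e
    · show x ^ j ∈ _
      rw [e]; exact one_mem _
    · show x ^ j ∈ _
      rw [e, ← hb2]; exact Subgroup.pow_mem _ (Subgroup.mem_zpowers b) 2
  have htb : t ∈ Subgroup.zpowers b := by
    rcases hcover t with h | ⟨a', ha', rfl⟩
    · exact hmem t ht h
    · have h1 : a' * y * b⁻¹ ∈ Subgroup.zpowers x := by
        rw [hbe, show a' * y * (x ^ i * y)⁻¹ = a' * (x ^ i)⁻¹ by group]
        exact mul_mem ha' (inv_mem ⟨i, rfl⟩)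
      have h2 := hmem _ (B.mul_mem ht (B.inv_mem hb)) h1
      have h3 := mul_mem h2 (Subgroup.mem_zpowers b)
      rwa [inv_mul_cancel_right] at h3
  obtain ⟨n, hn⟩ := htb
  exact ⟨n, Subtype.ext hn⟩


/-- Let P be a finite p-group in which every abelian normal subgroup is cyclic, but which has a non-cyclic abelian
subgroup. Then p = 2 and P is generalized quaternion, dihedral of order at least 16, or quasi-dihedral. -/
theorem result {P : Type*} [Group P] [Finite P] (p : ℕ) [Fact p.Prime]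
    (hP : IsPGroup p P) (hn : ∀ A : Subgroup P, A.Normal → IsMulCommutative A → IsCyclic A)
    (hm : ∃ B : Subgroup P, IsMulCommutative B ∧ ¬ IsCyclic B) :
    p = 2 ∧ ((∃ n : ℕ, Nonempty (P ≃* QuaternionGroup n)) ∨ (∃ n : ℕ, 8 ≤ n ∧ Nonempty (P ≃* DihedralGroup n)) ∨
      Cfsg.IsQuasiDihedral P) := by
  classical
  have hnc : ¬ IsCyclic P := by
    intro h
    obtain ⟨B, -, hB⟩ := hm
    exact hB inferInstance
  haveI : Group.IsNilpotent P := hP.isNilpotent
  obtain ⟨A, -, hAn, hAa, hAc⟩ := CfsgLib.OddOrder41.exists_normal_abelian_self_centralizing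
    (⊥ : Subgroup P) inferInstance ⟨⟨fun a b => Subsingleton.elim _ _⟩⟩
  haveI hAcyc : IsCyclic A := hn A hAn hAa
  obtain ⟨x0, hx0⟩ := IsCyclic.exists_generator (α := A)
  set x : P := (x0 : P) with hxdef
  have hA : A = Subgroup.zpowers x := by
    ext a
    constructor
    · intro ha
      obtain ⟨k, hk⟩ := hx0 ⟨a, ha⟩
      exact ⟨k, congrArg Subtype.val hk⟩
    · rintro ⟨k, rfl⟩
      exact A.zpow_mem x0.2 k
  have hself : ∀ g : P, g * x = x * g → g ∈ A := by
    intro g hg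
    rw [← hAc, Subgroup.mem_centralizer_iff]
    intro a ha
    rw [SetLike.mem_coe, hA] at ha
    obtain ⟨k, rfl⟩ := ha
    have h1 : Commute g x := hg
    exact (h1.zpow_right k).eq.symm
  have hex : ∀ g : P, ∃ k : ℤ, g * x * g⁻¹ = x ^ k := by
    intro g
    have h := hAn.conj_mem x x0.2 g
    rw [hA] at h
    obtain ⟨k, hk⟩ := h
    exact ⟨k, hk.symm⟩
  choose χ hχ using hex
  obtain ⟨m, hmo⟩ : ∃ m, orderOf x = p ^ m := IsPGroup.iff_orderOf.mp hP x
  have hxeq : ∀ a b : ℤ, x ^ a = x ^ b → (p : ℤ) ^ m ∣ a - b := by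
    intro a b hab
    have : x ^ (a - b) = 1 := by rw [zpow_sub, hab, mul_inv_cancel]
    have := orderOf_dvd_iff_zpow_eq_one.mpr this
    rw [hmo] at this
    exact_mod_cast this
  have hmem_iff : ∀ g : P, g ∈ A ↔ (p : ℤ) ^ m ∣ χ g - 1 := by
    intro g
    constructor
    · intro hg
      refine hxeq _ _ ?_
      rw [zpow_one, ← hχ g]
      have h1 : g * x = x * g := congrArg Subtype.val (hAa.is_comm.comm ⟨g, hg⟩ x0)
      rw [h1, mul_inv_cancel_right]
    · intro hd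
      refine hself g ?_
      have h1 : x ^ χ g = x := by
        have h2 : x ^ (χ g - 1) = 1 := by
          rw [← orderOf_dvd_iff_zpow_eq_one, hmo]; exact_mod_cast hd
        calc x ^ χ g = x ^ (χ g - 1) * x ^ (1 : ℤ) := by rw [← zpow_add, sub_add_cancel]
          _ = x := by rw [h2, one_mul, zpow_one]
      calc g * x = g * x * g⁻¹ * g := by group
        _ = x * g := by rw [hχ g, h1]
  have hmul : ∀ g h : P, (p : ℤ) ^ m ∣ χ (g * h) - χ g * χ h := by
    intro g h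
    refine hxeq _ _ ?_
    calc x ^ χ (g * h) = g * (h * x * h⁻¹) * g⁻¹ := by rw [← hχ]; group
      _ = (g * x * g⁻¹) ^ χ h := by rw [hχ h, conj_zpow]
      _ = x ^ (χ g * χ h) := by rw [hχ g, zpow_mul]
  have hpowp : ∀ g : P, ∀ j : ℕ, (p : ℤ) ^ m ∣ χ (g ^ j) - χ g ^ j := by
    intro g j
    induction j with
    | zero =>
      rw [pow_zero, pow_zero]
      exact (hmem_iff 1).mp A.one_mem
    | succ j ih =>
      rw [pow_succ g, pow_succ (χ g)]
      have h1 := (hmul (g ^ j) g).add (ih.mul_right (χ g))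
      have e : χ (g ^ j * g) - χ (g ^ j) * χ g + (χ (g ^ j) - χ g ^ j) * χ g
          = χ (g ^ j * g) - χ g ^ j * χ g := by ring
      rwa [e] at h1
  have hcomm : ∀ y g : P, ⁅y, g⁆ ∈ A := by
    intro y g
    rw [hmem_iff]
    -- the action of `A`'s automorphisms is abelian
    have e1 : x ^ χ (y * g) = x ^ χ (g * y) := by
      calc x ^ χ (y * g) = y * (g * x * g⁻¹) * y⁻¹ := by rw [← hχ]; group
        _ = x ^ (χ y * χ g) := by rw [hχ g, ← conj_zpow, hχ y, zpow_mul]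
        _ = x ^ (χ g * χ y) := by rw [mul_comm]
        _ = g * (y * x * y⁻¹) * g⁻¹ := by rw [hχ y, ← conj_zpow, hχ g, zpow_mul]
        _ = x ^ χ (g * y) := by rw [← hχ]; group
    refine hxeq _ _ ?_
    rw [zpow_one, ← hχ]
    have e2 : y * g * x * (y * g)⁻¹ = g * y * x * (g * y)⁻¹ := by rw [hχ, hχ, e1]
    calc ⁅y, g⁆ * x * ⁅y, g⁆⁻¹
        = (y * g) * ((g * y)⁻¹ * x * (g * y)) * (y * g)⁻¹ := by rw [commutatorElement_def]; group
      _ = x := conj_inv_eq e2 (fun k => hχ k) hAc hA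
  -- key contradiction
  have noC : ∀ y : P, y ∉ A → y ^ p ∈ A → (p = 2 → 3 ≤ m) → (p : ℤ) ^ (m - 1) ∣ χ y - 1 → False := by
    intro y hy hyp h3 hdvd
    rw [hA] at hy hyp
    have hnd : ¬ (p : ℤ) ^ m ∣ χ y - 1 := fun h => hy (hA ▸ (hmem_iff y).mpr h)
    obtain ⟨E, hEn, hEa, hEc⟩ := caseC hmo hy hyp (hχ y) hdvd hnd h3 (fun g => hA ▸ hcomm y g) (fun g => ⟨χ g, hχ g⟩)
    exact hEc (hn E hEn hEa)
  have hout : ∃ y, y ∉ A := by
    by_contra h
    push Not at h
    exact hnc (isCyclic_of_surjective A.subtype fun g => ⟨⟨g, h g⟩, rfl⟩)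
  have hordp : ∀ y : P, y ∉ A → ∃ i : ℕ, y ^ p ^ i ∉ A ∧ (y ^ p ^ i) ^ p ∈ A := by
    intro y hy
    obtain ⟨N, hN⟩ := hP y
    have hex : ∃ i, y ^ p ^ i ∈ A := ⟨N, by rw [hN]; exact A.one_mem⟩
    have h0 : Nat.find hex ≠ 0 := fun h => hy (by
      have := Nat.find_spec hex
      rwa [h, pow_zero, pow_one] at this)
    obtain ⟨i, hi⟩ := Nat.exists_eq_succ_of_ne_zero h0
    refine ⟨i, Nat.find_min hex (by omega), ?_⟩
    have := Nat.find_spec hex
    rw [hi, pow_succ, pow_mul] at this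
    exact this
  have hp2 : p = 2 := by
    by_contra hp2
    obtain ⟨y0, hy0⟩ := hout
    obtain ⟨i, hy, hyp⟩ := hordp y0 hy0
    refine noC _ hy hyp (fun h => absurd h hp2) ?_
    refine dvd_sub_one_of_pow (Fact.out : p.Prime) hp2 m _ ?_
    have := (hmem_iff _).mp hyp
    have h2 := hpowp (y0 ^ p ^ i) p
    have e : χ (y0 ^ p ^ i) ^ p - 1 = (χ ((y0 ^ p ^ i) ^ p) - 1)
        - (χ ((y0 ^ p ^ i) ^ p) - χ (y0 ^ p ^ i) ^ p) := by ring
    rw [e]
    exact this.sub h2
  refine ⟨hp2, ?_⟩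
  subst hp2
  simp only [Nat.cast_ofNat] at hmem_iff hmul hpowp hxeq
  have hm2 : 2 ≤ m := by
    by_contra hm'
    obtain ⟨y, hy⟩ := hout
    refine hy (hself y ?_)
    have hd : χ y - 1 = χ y - 1 := rfl
    have hx2 : x ^ 2 = 1 := orderOf_dvd_iff_pow_eq_one.mp (hmo ▸ (pow_dvd_pow 2 (show m ≤ 1 by omega)))
    rcases Int.even_or_odd (χ y) with ⟨j, hj⟩ | ⟨j, hj⟩
    · have hx1 : x = 1 := by
        have h1 := hχ y
        rw [hj, ← two_mul, zpow_mul, zpow_two, ← pow_two, hx2, one_zpow] at h1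
        simpa using h1
      rw [hx1, mul_one, one_mul]
    · have h1 := hχ y
      rw [hj, zpow_add, zpow_mul, zpow_two, ← pow_two, hx2, one_zpow, one_mul, zpow_one] at h1
      calc y * x = y * x * y⁻¹ * y := by group
        _ = x * y := by rw [h1]
  -- every element outside inverts modulo 2^(m-1)
  have hord2 : ∀ y : P, y ∉ A → y ^ 2 ∈ A → (2 : ℤ) ^ (m - 1) ∣ χ y + 1 := by
    intro y hy hyp
    have h1 := (hmem_iff _).mp hyp
    have h2 := hpowp y 2
    have h3 : (2 : ℤ) ^ m ∣ χ y ^ 2 - 1 := by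
      have e : χ y ^ 2 - 1 = (χ (y ^ 2) - 1) - (χ (y ^ 2) - χ y ^ 2) := by ring
      rw [e]; exact h1.sub h2
    obtain ⟨hodd, h4⟩ := two_split m (by omega) _ h3
    rcases h4 with h4 | h4
    swap
    · exact h4
    rcases Nat.lt_or_ge m 3 with h5 | h5
    · have : m = 2 := by omega
      subst this
      obtain ⟨j, hj⟩ := hodd
      exact ⟨j + 1, by rw [hj]; ring⟩
    · exact absurd (noC y hy hyp (fun _ => h5) (by exact_mod_cast h4)) id
  have hsq : ∀ y : P, y ^ 2 ∈ A := by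
    intro y
    by_contra hy2
    have hy : y ∉ A := fun h => hy2 (A.pow_mem h 2)
    obtain ⟨i, hyi, hyp⟩ := hordp y hy
    rcases i with _ | i
    · rw [pow_zero, pow_one] at hyp
      exact hy2 hyp
    have e2 : y ^ 2 ^ (i + 1) = (y ^ 2 ^ i) ^ 2 := by rw [← pow_mul, ← pow_succ]
    rw [e2] at hyi hyp
    set w := y ^ 2 ^ i with hw
    rcases Nat.lt_or_ge m 3 with h5 | h5
    · -- the automorphism group of a cyclic group of order four has exponent two
      have hm' : m = 2 := by omega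
      apply hy2
      rw [hmem_iff]
      have hk : ¬ (2 : ℤ) ∣ χ y := fun h => unit_odd (hmo.trans (by rw [hm'])) (hχ y) h
      obtain ⟨j, hj⟩ : ∃ j, χ y = 2 * j + 1 := Int.odd_iff.mpr (Int.two_dvd_ne_zero.mp hk) |>.imp fun j h => h
      have e : χ (y ^ 2) - 1 = (χ (y ^ 2) - χ y ^ 2) + (χ y ^ 2 - 1) := by ring
      rw [e, hm']
      refine (hm' ▸ hpowp y 2).add ⟨j * j + j, ?_⟩
      rw [hj]; ring
    · have h1 := hord2 _ hyi hyp
      have h2 : (2 : ℤ) ^ m ∣ χ (w ^ 2) - χ w ^ 2 := hpowp w 2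
      have h6 : (4 : ℤ) ∣ χ w ^ 2 + 1 := by
        have e : χ w ^ 2 + 1 = (χ (w ^ 2) + 1) - (χ (w ^ 2) - χ w ^ 2) := by ring
        rw [e]
        have h4a : (4 : ℤ) ∣ (2 : ℤ) ^ (m - 1) := by
          rw [show (4 : ℤ) = 2 ^ 2 by norm_num]; exact pow_dvd_pow 2 (by omega)
        have h4b : (4 : ℤ) ∣ (2 : ℤ) ^ m := by
          rw [show (4 : ℤ) = 2 ^ 2 by norm_num]; exact pow_dvd_pow 2 (by omega)
        exact (h4a.trans h1).sub (h4b.trans h2)
      rcases Int.even_or_odd (χ w) with ⟨j, hj⟩ | ⟨j, hj⟩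
      · obtain ⟨c, hc⟩ := h6
        have : (1 : ℤ) = 4 * (c - j * j) := by rw [hj] at hc; linear_combination hc
        omega
      · obtain ⟨c, hc⟩ := h6
        have : (2 : ℤ) = 4 * (c - j * j - j) := by rw [hj] at hc; linear_combination hc
        omega
  have hprod : ∀ y g : P, y ∉ A → g ∉ A → y * g ∈ A := by
    intro y g hy hg
    by_contra hyg
    have h1 := hord2 y hy (hsq y)
    have h2 := hord2 g hg (hsq g)
    have h3 := hord2 _ hyg (hsq _)
    rcases Nat.lt_or_ge m 3 with h5 | h5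
    · apply hyg
      rw [hmem_iff]
      have hm' : m = 2 := by omega
      rw [hm'] at h1 h2 ⊢
      obtain ⟨a, ha⟩ := h1
      obtain ⟨b, hb⟩ := h2
      have e : χ (y * g) - 1 = (χ (y * g) - χ y * χ g) + (χ y * χ g - 1) := by ring
      rw [e]
      refine (hm' ▸ hmul y g).add ⟨a * b - ((a + b) / 2), ?_⟩
      have ha' : χ y = 2 * a - 1 := by simp at ha; linarith
      have hb' : χ g = 2 * b - 1 := by simp at hb; linarith
      have hab : 2 ∣ a + b := by
        have hya : ¬ (2:ℤ) ^ 2 ∣ χ y - 1 := hm' ▸ (fun h => hy ((hmem_iff y).mpr h))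
        have hgb : ¬ (2:ℤ) ^ 2 ∣ χ g - 1 := hm' ▸ (fun h => hg ((hmem_iff g).mpr h))
        rw [ha'] at hya
        rw [hb'] at hgb
        norm_num at hya hgb
        omega
      rw [ha', hb']
      obtain ⟨c, hc⟩ := hab
      rw [hc, Int.mul_ediv_cancel_left _ (by norm_num : (2 : ℤ) ≠ 0)]
      linear_combination (-2 : ℤ) * hc
    · have h4 : (2 : ℤ) ^ (m - 1) ∣ 2 := by
        have h7 := ((h3.sub ((pow_dvd_pow 2 (by omega : m - 1 ≤ m)).trans (hmul y g))).sub
          (h1.mul_right (χ g))).add h2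
        have e : (χ (y * g) + 1) - (χ (y * g) - χ y * χ g) - (χ y + 1) * χ g + (χ g + 1) = 2 := by ring
        exact e ▸ h7
      have h6 : (2 : ℤ) ^ 2 ∣ 2 := (pow_dvd_pow 2 (by omega)).trans h4
      norm_num at h6
  obtain ⟨y, hy⟩ := hout
  have hcover : ∀ g : P, g ∈ A ∨ ∃ a ∈ A, g = a * y := by
    intro g
    by_cases hg : g ∈ A
    · exact Or.inl hg
    · refine Or.inr ⟨g * y⁻¹, ?_, by group⟩
      have h1 := hprod g y hg hy
      have h2 : g * y⁻¹ = g * y * (y ^ 2)⁻¹ := by group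
      rw [h2]
      exact A.mul_mem h1 (A.inv_mem (hsq y))
  have hcardP : Nat.card P = 2 * 2 ^ m := by
    have hidx : A.index = 2 := Subgroup.index_eq_two_iff.mpr ⟨y, fun b => by
      by_cases hb : b ∈ A
      · exact Or.inr ⟨hb, fun h => hy (by simpa using A.mul_mem (A.inv_mem hb) h)⟩
      · exact Or.inl ⟨hprod b y hb hy, hb⟩⟩
    rw [← Subgroup.card_mul_index A, hidx, hA, Nat.card_zpowers, hmo, mul_comm]
  have hy2 := hsq y
  rw [hA] at hy2
  obtain ⟨l, hl⟩ := hy2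
  have hl2 : (2 : ℤ) ^ m ∣ l * (χ y - 1) := by
    have : x ^ (χ y * l) = x ^ l := by
      have e : x ^ l = y ^ 2 := hl
      rw [zpow_mul, ← hχ y, conj_zpow, e, pow_two]; group
    have := hxeq _ _ this
    rwa [show χ y * l - l = l * (χ y - 1) by ring] at this
  have hyodd : ¬ (2:ℤ) ∣ χ y := fun h => unit_odd_gen (by omega) hmo (hχ y) h
  have hdy := hord2 y hy (hsq y)
  have hlred : (2 : ℤ) ^ (m - 1) ∣ l := by
    obtain ⟨c, hc⟩ := hdy
    obtain ⟨m', rfl⟩ : ∃ m', m = m' + 2 := ⟨m - 2, by omega⟩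
    simp only [show m' + 2 - 1 = m' + 1 from rfl] at hc ⊢
    have h1 : (2 : ℤ) ^ (m' + 2) ∣ (2 * (2 ^ m' * c - 1)) * l := by
      have e : (2 * (2 ^ m' * c - 1)) * l = l * (χ y - 1) := by
        rw [pow_succ] at hc
        linear_combination (-l) * hc
      rw [e]; exact hl2
    rw [pow_succ' 2 (m' + 1), mul_assoc] at h1
    have h2 := (mul_dvd_mul_iff_left (by norm_num : (2 : ℤ) ≠ 0)).mp h1
    refine IsCoprime.dvd_of_dvd_mul_left ?_ h2
    refine IsCoprime.pow_left ?_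
    rw [Int.prime_two.coprime_iff_not_dvd]
    intro hd
    rcases Nat.eq_zero_or_pos m' with h0 | h0
    · subst h0
      have hc2 : χ y - 1 = 2 * (c - 1) := by
        simp at hc
        linarith
      apply hy
      rw [hmem_iff, hc2]
      simp at hd
      exact mul_dvd_mul_left 2 hd
    · have h3 : (2 : ℤ) ∣ 2 ^ m' * c := (dvd_pow_self 2 (by omega)).mul_right c
      have h4 := h3.sub hd
      simp at h4
  by_cases hinv : (2 : ℤ) ^ m ∣ χ y + 1
  · by_cases hl0 : x ^ l = 1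
    · -- dihedral
      refine Or.inr (Or.inl ?_)
      have hyy : y * y = 1 := by rw [← pow_two, ← hl]; exact hl0
      have hconj : y * x * y⁻¹ = x⁻¹ := by
        rw [hχ y, ← zpow_neg_one]
        have h2 : x ^ (χ y - (-1)) = 1 := by
          rw [← orderOf_dvd_iff_zpow_eq_one, hmo]; exact_mod_cast (by simpa using hinv)
        rw [zpow_sub] at h2
        exact mul_inv_eq_one.mp h2
      have hm3 : 3 ≤ m := by
        by_contra h
        have : m = 2 := by omega
        subst this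
        obtain ⟨E, hEn, hEa, hEc⟩ := dihedral_eight hmo hcardP hyy hconj (hA ▸ hy)
        exact hEc (hn E hEn hEa)
      refine ⟨2 ^ m, le_trans (by norm_num : 8 ≤ 2 ^ 3) (Nat.pow_le_pow_right (by norm_num) hm3), ?_⟩
      have hyinv : y⁻¹ = y := inv_eq_of_mul_eq_one_left hyy
      have hy1 : y ≠ 1 := fun h => hy (h ▸ A.one_mem)
      have ho1 : orderOf y = 2 := orderOf_eq_prime (by rw [pow_two, hyy]) hy1
      have hyx : y * x * (y * x) = 1 := by
        calc y * x * (y * x) = (y * x * y⁻¹) * x := by rw [hyinv]; group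
          _ = 1 := by rw [hconj]; group
      have ho2 : orderOf (y * x) = 2 := by
        refine orderOf_eq_prime (by rw [pow_two, hyx]) fun h => hy ?_
        rw [eq_inv_of_mul_eq_one_left h]; exact A.inv_mem x0.2
      obtain ⟨e⟩ := CfsgLib.Involutions.closure_pair_mulEquiv_dihedral (x := y) (y := y * x) ho1 ho2
      have hgen : Subgroup.closure ({y, y * x} : Set P) = ⊤ := by
        rw [eq_top_iff]
        intro g _
        have hxm : x ∈ Subgroup.closure ({y, y * x} : Set P) := by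
          have : x = y⁻¹ * (y * x) := by group
          rw [this]
          exact mul_mem (inv_mem (Subgroup.subset_closure (by simp))) (Subgroup.subset_closure (by simp))
        have hAle : A ≤ Subgroup.closure ({y, y * x} : Set P) := hA.le.trans (Subgroup.zpowers_le.mpr hxm)
        rcases hcover g with hg | ⟨a, ha, rfl⟩
        · exact hAle hg
        · exact mul_mem (hAle ha) (Subgroup.subset_closure (by simp))
      have ho : orderOf (y * (y * x)) = 2 ^ m := by rw [← mul_assoc, hyy, one_mul, hmo]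
      exact ⟨(Subgroup.topEquiv.symm.trans (MulEquiv.subgroupCongr hgen.symm)).trans (ho ▸ e)⟩
    · -- quaternion: no non-cyclic abelian subgroup
      exfalso
      obtain ⟨B, hBa, hBc⟩ := hm
      have hconj : y * x * y⁻¹ = x⁻¹ := by
        rw [hχ y, ← zpow_neg_one]
        have h2 : x ^ (χ y - (-1)) = 1 := by
          rw [← orderOf_dvd_iff_zpow_eq_one, hmo]; exact_mod_cast (by simpa using hinv)
        rw [zpow_sub] at h2
        exact mul_inv_eq_one.mp h2
      exact hBc (quaternion_abelian_cyclic hmo hconj hl.symm hl0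
        (fun g => (hcover g).imp (fun h => hA ▸ h) (fun ⟨a, ha, e⟩ => ⟨a, hA ▸ ha, e⟩)) B hBa)
  · -- semidihedral
    refine Or.inr (Or.inr ?_)
    obtain ⟨c, hc⟩ := hdy
    have hcodd : ¬ (2 : ℤ) ∣ c := by
      rintro ⟨d, rfl⟩
      apply hinv
      refine ⟨d, ?_⟩
      rw [hc, show m = (m - 1) + 1 by omega, pow_succ]
      simp only [Nat.add_sub_cancel]; ring
    have hm3 : 3 ≤ m := by
      by_contra h
      have : m = 2 := by omega
      subst this
      apply hy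
      rw [hmem_iff]
      obtain ⟨d, hd⟩ := Int.odd_iff.mpr (Int.two_dvd_ne_zero.mp hcodd)
      exact ⟨d, by simp at hc; rw [hd] at hc; norm_num; linarith⟩
    have hr : y * x * y⁻¹ = x ^ ((2 : ℤ) ^ (m - 1) - 1) := by
      rw [hχ y]
      obtain ⟨d, hd⟩ := Int.odd_iff.mpr (Int.two_dvd_ne_zero.mp hcodd)
      have e : χ y = ((2 : ℤ) ^ (m - 1) - 1) + d * (2 : ℤ) ^ m := by
        rw [hd] at hc
        rw [show (2:ℤ) ^ m = 2 ^ (m - 1) * 2 by rw [← pow_succ]; congr 1; omega]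
        linarith
      rw [e, zpow_add, mul_comm d, zpow_mul,
        show x ^ ((2 : ℤ) ^ m) = 1 from orderOf_dvd_iff_zpow_eq_one.mp (by rw [hmo]; exact_mod_cast dvd_rfl),
        one_zpow, mul_one]
    refine ⟨m, hm3, by rw [hcardP, pow_succ, mul_comm], ?_⟩
    have hnat : ((2 ^ (m - 1) - 1 : ℕ) : ℤ) = (2 : ℤ) ^ (m - 1) - 1 := by
      rw [Nat.cast_sub Nat.one_le_two_pow]; simp
    have key : ∀ y' : P, y' ∉ A → y' * x * y'⁻¹ = x ^ ((2 : ℤ) ^ (m - 1) - 1) → y' * y' = 1 →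
        ∃ a b : P, orderOf a = 2 ^ m ∧ orderOf b = 2 ∧ b * a * b⁻¹ = a ^ (2 ^ (m - 1) - 1) := by
      intro y' hy' hr' hy2'
      refine ⟨x, y', hmo, orderOf_eq_prime (by rw [pow_two, hy2']) (fun h => hy' (h ▸ A.one_mem)), ?_⟩
      rw [hr', ← zpow_natCast, hnat]
    by_cases hl0 : x ^ l = 1
    · exact key y hy hr (by rw [← pow_two, ← hl]; exact hl0)
    · refine key (y * x) (fun h => hy ?_) ?_ ?_
      · have h9 := A.mul_mem h (A.inv_mem x0.2)
        rwa [← hxdef, mul_inv_cancel_right] at h9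
      · rw [← hr]; group
      · obtain ⟨d, hd⟩ := hlred
        have hdodd : ¬ (2 : ℤ) ∣ d := by
          rintro ⟨e', rfl⟩
          apply hl0
          rw [← orderOf_dvd_iff_zpow_eq_one, hmo]
          refine ⟨e', ?_⟩
          rw [hd]
          push_cast
          rw [show (2:ℤ) ^ m = 2 ^ (m - 1) * 2 by rw [← pow_succ]; congr 1; omega]
          ring
        obtain ⟨f, hf⟩ := Int.odd_iff.mpr (Int.two_dvd_ne_zero.mp hdodd)
        have e1 : y * x * (y * x) = x ^ ((2 : ℤ) ^ (m - 1) - 1 + l + 1) := by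
          calc y * x * (y * x) = (y * x * y⁻¹) * (y ^ 2) * x := by group
            _ = x ^ ((2 : ℤ) ^ (m - 1) - 1) * x ^ l * x := by rw [hr]; rw [← hl]
            _ = x ^ ((2 : ℤ) ^ (m - 1) - 1 + l + 1) := by rw [zpow_add, zpow_add, zpow_one]
        rw [e1, ← orderOf_dvd_iff_zpow_eq_one, hmo]
        refine ⟨f + 1, ?_⟩
        rw [hd, hf]
        push_cast
        rw [show (2:ℤ) ^ m = 2 ^ (m - 1) * 2 by rw [← pow_succ]; congr 1; omega]
        ring


end Cfsg.Agent.S0519
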