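import Cfsg.Statements.S0780
import Cfsg.Agent.Lib.Unitary.Gen
import Cfsg.Agent.Lib.Unitary.Bridge

set_option autoImplicit false
open Cfsg

namespace Cfsg.Agent.S0780

/-- Generation of SU_n(q), n ≥ 3, (n, q) ≠ (3, 2), by unitary transvections: the subgroup generated by the elements whose matrix is x ↦ x + c h(x, v) v with v isotropic is all of SU_n(q). -/
theorem result {F : Type*} [Field F] [Fintype F] {q : ℕ} (hF : Fintype.card F = q ^ 2) (n : ℕ) (hn : 3 ≤ n) (h32 : ¬ (n = 3 ∧ q = 2)) : Subgroup.closure {A : ↥(Cfsg.SU n F q) | ∃ (v : Fin n → F) (c : F), Cfsg.hermForm n F q v v = 0 ∧ ((A : Matrix.SpecialLinearGroup (Fin n) F) : Matrix (Fin n) (Fin n) F) = Cfsg.unitaryTransvection n q v c} = ⊤ := by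
  obtain ⟨τ, hτ, hne, h2⟩ := CfsgLib.UnitaryEmbed.exists_conj hF
  have hB := CfsgLib.Unitary.hform_herm (n := n) hF hτ hne h2
  rw [eq_top_iff]
  intro A _
  have hq : 4 ≤ Module.finrank F (Fin n → F) ∨ ∃ l : F, τ l = l ∧ l ≠ 0 ∧ l ≠ 1 := by
    rw [Module.finrank_fin_fun]
    by_cases h4 : 4 ≤ n
    · exact Or.inl h4
    right
    -- the fixed field has at least three elements
    have hq1 := CfsgLib.UnitaryEmbed.q_gt_one hF
    have hq3 : 2 < q := by
      rcases Nat.lt_or_ge 2 q with h | h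
      · exact h
      · exact absurd ⟨by omega, by omega⟩ h32
    classical
    obtain ⟨g, hg⟩ := IsCyclic.exists_generator (α := Fˣ)
    have hord : orderOf g = q ^ 2 - 1 := by
      rw [orderOf_eq_card_of_forall_mem_zpowers hg, Nat.card_units, Nat.card_eq_fintype_card, hF]
    have hsq : q ^ 2 - 1 = (q + 1) * (q - 1) := by rw [← Nat.sq_sub_sq, one_pow]
    refine ⟨((g ^ (q + 1) : Fˣ) : F), ?_, Units.ne_zero _, fun h => ?_⟩
    · rw [hτ, ← Units.val_pow_eq_pow_val, ← pow_mul]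
      congr 1
      rw [pow_eq_pow_iff_modEq, hord]
      calc (q + 1) * q = (q + 1) * (q - 1) + (q + 1) := by
            rw [← mul_add_one, Nat.sub_add_cancel hq1.le]
        _ ≡ 0 + (q + 1) [MOD q ^ 2 - 1] := Nat.ModEq.add_right _ (Nat.modEq_zero_iff_dvd.mpr (by rw [hsq]))
        _ = q + 1 := zero_add _
    · have hd := orderOf_dvd_of_pow_eq_one (Units.val_eq_one.mp h)
      rw [hord, hsq] at hd
      have := Nat.le_of_dvd (by omega) hd
      nlinarith [Nat.sub_add_cancel hq1.le]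
  have hmem := CfsgLib.Unitary.gen hB (n := n) (Module.finrank_fin_fun F) hn
    (by rwa [Module.finrank_fin_fun] at hq) _ (CfsgLib.Unitary.suEquiv_isSIsom hτ A)
  suffices h : CfsgLib.Unitary.tGroup (CfsgLib.UnitaryEmbed.hermSesq n τ) ≤
      Subgroup.map (CfsgLib.Unitary.suEquiv n F q) (Subgroup.closure _) by
    obtain ⟨A', hA', e⟩ := h hmem
    exact CfsgLib.Unitary.suEquiv_injective e ▸ hA'
  rw [CfsgLib.Unitary.tGroup, Subgroup.closure_le]
  intro g hg
  obtain ⟨A', hA'⟩ := CfsgLib.Unitary.exists_suEquiv hτ (CfsgLib.Unitary.tSet_isSIsom hB hg)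
  obtain ⟨v, c, hv, -, hgv⟩ := hg
  refine ⟨A', Subgroup.subset_closure ⟨v, c, ?_, ?_⟩, hA'⟩
  · rw [← CfsgLib.UnitaryEmbed.hermSesq_apply τ hτ, hv]
  · apply Matrix.toLin'.injective
    refine LinearMap.ext fun x => ?_
    rw [Matrix.toLin'_apply, Matrix.toLin'_apply, CfsgLib.Unitary.unitaryTransvection_mulVec hτ, ← hgv x,
      ← hA', CfsgLib.Unitary.suEquiv_apply]

end Cfsg.Agent.S0780
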