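import Cfsg.Statements.S0181
import Cfsg.Agent.Lib.Characters.Scalar

set_option autoImplicit false
open Cfsg

namespace Cfsg.Agent.S0181

/-- Let H be a normal subgroup of a finite group G and ρ an irreducible complex representation whose kernel does not contain H. If g commutes with no non-identity element of H, then the character of ρ vanishes at g. -/
theorem result {G : Type*} [Group G] [Finite G] {V : Type*} [AddCommGroup V] [Module ℂ V] [FiniteDimensional ℂ V] (ρ : Representation ℂ G V) [ρ.IsIrreducible] (H : Subgroup G) [H.Normal] (hker : ∃ h ∈ H, ρ h ≠ LinearMap.id) (g : G) (hg : ∀ h ∈ H, h * g = g * h → h = 1) : ρ.character g = 0 := by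
  classical
  have : Fintype G := Fintype.ofFinite G
  have hH : (Nat.card H : ℂ) ≠ 0 := Nat.cast_ne_zero.2 Nat.card_pos.ne'
  let f : H → H := fun h => ⟨g⁻¹ * h * g * (h : G)⁻¹, H.mul_mem
    ((inferInstance : H.Normal).conj_mem' _ h.2 g) (H.inv_mem h.2)⟩
  have hf : Function.Injective f := by
    intro a b hab
    have h1 : g⁻¹ * (a : G) * g * (a : G)⁻¹ = g⁻¹ * b * g * (b : G)⁻¹ := congrArg Subtype.val hab
    have h2 : ((b : G)⁻¹ * a) * g = g * ((b : G)⁻¹ * a) := by
      calc ((b : G)⁻¹ * a) * g = (b : G)⁻¹ * g * (g⁻¹ * (a : G) * g * (a : G)⁻¹) * a := by group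
        _ = (b : G)⁻¹ * g * (g⁻¹ * b * g * (b : G)⁻¹) * a := by rw [h1]
        _ = g * ((b : G)⁻¹ * a) := by group
    have h3 := hg _ (H.mul_mem (H.inv_mem b.2) a.2) h2
    exact Subtype.ext (inv_mul_eq_one.1 h3).symm
  let P : Module.End ℂ V := ∑ h : H, ρ h
  have hP : ∀ h : H, ρ h * P = P := by
    intro h
    simp only [P, Finset.mul_sum, ← map_mul]
    exact Fintype.sum_equiv (Equiv.mulLeft h) _ _ fun x => rfl
  have hP0 : P = 0 := by
    let W : Submodule ℂ V := ⨅ h : H, LinearMap.ker (ρ h - 1)
    have hmem : ∀ v, v ∈ W ↔ ∀ h : H, ρ h v = v := by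
      simp [W, Submodule.mem_iInf, sub_eq_zero]
    have hW : W = ⊥ := by
      refine (CfsgLib.CharScalar.eq_bot_or_eq_top ρ W fun x v hv => ?_).resolve_right ?_
      · rw [hmem] at hv ⊢
        intro h
        have := hv ⟨x⁻¹ * h * x, (inferInstance : H.Normal).conj_mem' _ h.2 x⟩
        calc ρ h (ρ x v) = ρ x (ρ (x⁻¹ * h * x) v) := by
              rw [← Module.End.mul_apply, ← Module.End.mul_apply, ← map_mul, ← map_mul]
              congr 2
              group
          _ = ρ x v := by rw [this]
      · intro htop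
        obtain ⟨h, hh, hne⟩ := hker
        apply hne
        ext v
        exact (hmem v).1 (htop ▸ Submodule.mem_top) ⟨h, hh⟩
    ext v
    have : P v ∈ W := (hmem _).2 fun h => by rw [← Module.End.mul_apply, hP h]
    rw [hW, Submodule.mem_bot] at this
    simpa using this
  have hterm : ∀ h : H, LinearMap.trace ℂ V (ρ g * ρ (f h)) = ρ.character g := by
    intro h
    rw [← map_mul]
    have he : g * ((f h : H) : G) = (h : G) * g * (h : G)⁻¹ := by simp only [f]; group
    rw [he]
    exact Representation.char_conj ρ g (h : G)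
  have hsum : ∑ h : H, LinearMap.trace ℂ V (ρ g * ρ (f h)) = 0 := by
    rw [(Finite.injective_iff_bijective.1 hf).sum_comp (fun h : H => LinearMap.trace ℂ V (ρ g * ρ h)),
      ← map_sum, ← Finset.mul_sum]
    show LinearMap.trace ℂ V (ρ g * P) = 0
    rw [hP0, mul_zero, map_zero]
  rw [Finset.sum_congr rfl fun h _ => hterm h, Finset.sum_const, Finset.card_univ, nsmul_eq_mul,
    ← Nat.card_eq_fintype_card] at hsum
  exact (mul_eq_zero.1 hsum).resolve_left hH

end Cfsg.Agent.S0181
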