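import Cfsg.Statements.S5604
import Cfsg.Agent.Lib.Golay.SevenData

set_option autoImplicit false
open scoped Pointwise
open Cfsg
open scoped commutatorElement Pointwise

namespace Cfsg.Agent.S5604

open CfsgLib.Golay CfsgLib.Golay.Seven CfsgLib.Schur.GolaySearch

set_option maxRecDepth 20000

theorem mem_searchK {z σ : Equiv.Perm Cfsg.GolayPt} (hz : toList z = sevenL) {k : ℕ}
    (hk : k < 7) (hk0 : k ≠ 0) :
    (σ ∈ Cfsg.M24 ∧ σ * z * σ⁻¹ = z ^ k) ↔ toList σ ∈ searchK k := by
  constructor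
  · rintro ⟨hσ, h⟩
    refine mem_searchImg_start hσ h hz (by rw [toList_pow, hz]) sevenL_facts.2.2.2 fun s hs c hc => ?_
    have hcm : c ∈ s.1 := List.mem_of_head? hc
    have hs' := List.all_eq_true.mp stages_heads s hs
    simp only [Bool.or_eq_true, Bool.and_eq_true, beq_iff_eq, List.all_eq_true,
      List.contains_iff_mem] at hs'
    have hc24 : ∀ i ∈ sevenFix, i < 24 := by decide +kernel
    rcases hs' with e | ⟨e, hfix⟩
    · rw [e, List.mem_range]
      have hl := toList_length σ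
      by_cases hh : c < (toList σ).length
      · rw [List.getD_eq_getElem _ _ hh, toList_getElem]; exact Fin.isLt _
      · rw [List.getD_eq_default _ _ (by omega)]; norm_num
    · rw [e]
      have hcf := hfix c hcm
      set p := pt ⟨c, hc24 c hcf⟩ with hp
      have hidx : (idx p).val = c := by rw [hp, idx_pt]
      have hzc : z p = p := by
        have h' := List.all_eq_true.mp sevenFix_fixed c hcf
        rw [beq_iff_eq, ← hz, ← hidx, toList_getD] at h'
        exact idx_injective (Fin.ext h')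
      rw [← hidx, toList_getD]
      have hfixed : (z ^ k) (σ p) = σ p := by
        rw [← h]; simp [hzc]
      have h'' := List.all_eq_true.mp sevenFix_spec k (List.mem_range.mpr hk)
      simp only [Bool.or_eq_true, beq_iff_eq, hk0, false_or, List.all_eq_true, Bool.not_eq_true',
        List.contains_iff_mem, List.mem_range, beq_eq_false_iff_ne] at h''
      rcases h'' (idx (σ p)).val (idx (σ p)).isLt with h3 | h3
      · exfalso
        apply h3
        rw [← hz, ← toList_pow, toList_getD, hfixed]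
      · exact h3
  · intro hl
    have h := List.all_eq_true.mp norm_valid k (List.mem_range.mpr hk)
    rw [← searchK_found hk hk0] at h
    simp only [Bool.or_eq_true, beq_iff_eq, hk0, false_or, List.all_eq_true, Bool.and_eq_true] at h
    obtain ⟨hg, hc⟩ := h _ hl
    obtain ⟨τ, hτ, hτl⟩ := exists_perm hg
    obtain rfl := toList_injective hτl
    refine ⟨hτ, ?_⟩
    rw [← hz, ← toList_pow, ← toList_mul, ← toList_mul] at hc
    rw [toList_injective hc, mul_inv_cancel_right]

/-- The number of elements with image lists in a list. -/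
theorem natCard_of_list {P : Equiv.Perm Cfsg.GolayPt → Prop} {L : List (List ℕ)}
    (hnd : L.Nodup) (hgen : ∀ l ∈ L, genOK l = true) (hP : ∀ σ, P σ ↔ toList σ ∈ L) :
    Nat.card {σ // P σ} = L.length := by
  rw [← List.toFinset_card_of_nodup hnd, ← Fintype.card_coe, ← Nat.card_eq_fintype_card]
  refine Nat.card_congr (Equiv.ofBijective
    (fun σ => ⟨toList σ.1, List.mem_toFinset.mpr ((hP σ.1).mp σ.2)⟩) ⟨?_, ?_⟩)
  · intro a b h
    exact Subtype.ext (toList_injective (congrArg Subtype.val h))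
  · rintro ⟨l, hl⟩
    rw [List.mem_toFinset] at hl
    obtain ⟨τ, -, hτ⟩ := exists_perm (hgen l hl)
    exact ⟨⟨τ, (hP τ).mpr (hτ ▸ hl)⟩, Subtype.ext hτ⟩

theorem searchK_gen {k : ℕ} (hk : k < 7) (hk0 : k ≠ 0) : ∀ l ∈ searchK k, genOK l = true := by
  intro l hl
  have h := List.all_eq_true.mp norm_valid k (List.mem_range.mpr hk)
  rw [← searchK_found hk hk0] at h
  simp only [Bool.or_eq_true, beq_iff_eq, hk0, false_or, List.all_eq_true, Bool.and_eq_true] at h
  exact (h l hl).1

theorem mem_normList {l : List ℕ} : l ∈ normList ↔ ∃ k < 7, k ≠ 0 ∧ l ∈ searchK k := by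
  have h0 : found.getD 0 [] = [] := rfl
  constructor
  · intro h
    obtain ⟨L, hL, hl⟩ := List.mem_flatten.mp h
    obtain ⟨k, hk, rfl⟩ := List.getElem_of_mem hL
    have hk7 : k < 7 := hk
    rw [← List.getD_eq_getElem found [] hk] at hl
    have hk0 : k ≠ 0 := by
      rintro rfl
      rw [h0] at hl
      exact absurd hl List.not_mem_nil
    exact ⟨k, hk7, hk0, by rwa [searchK_found hk7 hk0]⟩
  · rintro ⟨k, hk, hk0, hl⟩
    rw [searchK_found hk hk0, List.getD_eq_getElem found [] (show k < found.length from hk)] at hl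
    exact List.mem_flatten.mpr ⟨_, List.getElem_mem _, hl⟩

/-- Every subgroup of order 7 of `M24` is generated by a conjugate of the fixed element. -/
theorem exists_conj_seven {z : Equiv.Perm Cfsg.GolayPt} (hz : toList z = sevenL) (hzm : z ∈ Cfsg.M24)
    (S : Subgroup ↥Cfsg.M24) (hS : Nat.card S = 7) :
    ∃ k : ↥Cfsg.M24, S = Subgroup.zpowers (k * ⟨z, hzm⟩ * k⁻¹) := by
  haveI : Fact (Nat.Prime 7) := ⟨by norm_num⟩
  have hord : orderOf z = 7 := by
    refine orderOf_eq_prime (toList_injective ?_) fun e => sevenL_facts.2.2.1 ?_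
    · rw [toList_pow, hz, toList_one]; exact sevenL_facts.2.1
    · rw [← hz, e, toList_one]
  have hZ : Nat.card (Subgroup.zpowers (⟨z, hzm⟩ : ↥Cfsg.M24)) = 7 := by
    rw [Nat.card_zpowers, ← Subgroup.orderOf_coe]; exact hord
  have hf : (Nat.card ↥Cfsg.M24).factorization 7 = 1 := by
    have h1 : 1 ≤ (Nat.card ↥Cfsg.M24).factorization 7 :=
      (Nat.Prime.pow_dvd_iff_le_factorization (by norm_num) Nat.card_pos.ne').mp (by
        rw [natCard_M24]; norm_num)
    have h2 : ¬ 2 ≤ (Nat.card ↥Cfsg.M24).factorization 7 := fun h => by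
      have := (Nat.Prime.pow_dvd_iff_le_factorization (p := 7) (k := 2) (by norm_num)
        Nat.card_pos.ne').mpr h
      rw [natCard_M24] at this
      norm_num at this
    omega
  let P : Sylow 7 ↥Cfsg.M24 := Sylow.ofCard S (by rw [hS, hf, pow_one])
  let Q : Sylow 7 ↥Cfsg.M24 := Sylow.ofCard (Subgroup.zpowers ⟨z, hzm⟩) (by rw [hZ, hf, pow_one])
  obtain ⟨k, hk⟩ := MulAction.exists_smul_eq ↥Cfsg.M24 Q P
  refine ⟨k, ?_⟩
  have h := congrArg (fun R : Sylow 7 ↥Cfsg.M24 => (R : Subgroup ↥Cfsg.M24)) hk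
  rw [Sylow.coe_subgroup_smul] at h
  change (Subgroup.zpowers (⟨z, hzm⟩ : ↥Cfsg.M24)).map (MulAut.conj k).toMonoidHom = S at h
  rw [MonoidHom.map_zpowers] at h
  exact h.symm

/-- Normalising a cyclic subgroup. -/
theorem mem_normalizer_zpowers {G : Type*} [Group G] [Finite G] {y n : G} :
    n ∈ Subgroup.normalizer (Subgroup.zpowers y : Set G) ↔ ∃ i < orderOf y, n * y * n⁻¹ = y ^ i := by
  constructor
  · intro h
    have h1 : n * y * n⁻¹ ∈ Subgroup.zpowers y :=
      ((Subgroup.mem_normalizer_iff.mp h) y).mp (Subgroup.mem_zpowers y)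
    classical
    rw [(isOfFinOrder_of_finite y).mem_zpowers_iff_mem_range_orderOf, Finset.mem_image] at h1
    obtain ⟨i, hi, he⟩ := h1
    exact ⟨i, Finset.mem_range.mp hi, he.symm⟩
  · rintro ⟨i, -, he⟩
    have hle : (Subgroup.zpowers y).map (MulAut.conj n).toMonoidHom ≤ Subgroup.zpowers y := by
      rw [MonoidHom.map_zpowers]
      refine Subgroup.zpowers_le.mpr ?_
      show n * y * n⁻¹ ∈ Subgroup.zpowers y
      rw [he]
      exact Subgroup.npow_mem_zpowers y i
    have heq := Subgroup.eq_of_le_of_card_ge hle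
      (Subgroup.card_map_of_injective (MulAut.conj n).injective).ge
    rw [Subgroup.mem_normalizer_iff]
    intro x
    conv_rhs => rw [← heq]
    exact (Subgroup.mem_map_iff_mem (MulAut.conj n).injective).symm

theorem main (S : Subgroup ↥Cfsg.M24) (hS : Nat.card S = 7) :
    Nat.card ↥(Subgroup.normalizer (S : Set ↥Cfsg.M24)) = 126 ∧
    Nat.card ↥(Subgroup.centralizer (S : Set ↥Cfsg.M24)) = 42 ∧
    (∃ x ∈ Subgroup.centralizer (S : Set ↥Cfsg.M24), ∃ y ∈ Subgroup.centralizer (S : Set ↥Cfsg.M24),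
      x * y ≠ y * x) ∧
    ∃ T ∈ Cfsg.trios, ∀ n ∈ Subgroup.normalizer (S : Set ↥Cfsg.M24),
      ((n : ↥Cfsg.M24) : Equiv.Perm Cfsg.GolayPt) • T = T := by
  obtain ⟨z, hzm, hz⟩ := exists_perm sevenL_facts.1
  obtain ⟨k, rfl⟩ := exists_conj_seven hz hzm S hS
  have ho : orderOf (k * ⟨z, hzm⟩ * k⁻¹ : ↥Cfsg.M24) = 7 := by rw [← hS, Nat.card_zpowers]
  have hne : (⟨z, hzm⟩ : ↥Cfsg.M24) ≠ 1 := fun e => by simp [e] at ho
  -- conjugation by `k⁻¹` reduces to the fixed element
  let φ : ↥Cfsg.M24 → Equiv.Perm Cfsg.GolayPt := fun n => ((k⁻¹ * n * k : ↥Cfsg.M24) : Equiv.Perm Cfsg.GolayPt)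
  have hconj : ∀ n : ↥Cfsg.M24, ∀ i : ℕ,
      n * (k * ⟨z, hzm⟩ * k⁻¹) * n⁻¹ = (k * ⟨z, hzm⟩ * k⁻¹) ^ i ↔ φ n * z * (φ n)⁻¹ = z ^ i := by
    intro n i
    rw [conj_pow]
    constructor
    · intro h
      have h' := congrArg (fun e : ↥Cfsg.M24 => ((k⁻¹ * e * k : ↥Cfsg.M24) : Equiv.Perm Cfsg.GolayPt)) h
      simpa [φ, mul_assoc] using h'
    · intro h
      apply Subtype.ext
      have h' := congrArg (fun e => (k : Equiv.Perm Cfsg.GolayPt) * e * (k : Equiv.Perm Cfsg.GolayPt)⁻¹) h
      simpa [φ, mul_assoc] using h'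
  have hN : ∀ n : ↥Cfsg.M24,
      n ∈ Subgroup.normalizer (Subgroup.zpowers (k * ⟨z, hzm⟩ * k⁻¹) : Set ↥Cfsg.M24) ↔
        toList (φ n) ∈ normList := by
    intro n
    rw [mem_normalizer_zpowers, ho, mem_normList]
    refine exists_congr fun i => and_congr_right fun hi => ?_
    rw [hconj]
    constructor
    · intro h
      have hi0 : i ≠ 0 := by
        rintro rfl
        rw [pow_zero, conj_eq_one_iff] at h
        exact hne (Subtype.ext h)
      exact ⟨hi0, (mem_searchK hz hi hi0).mp ⟨(k⁻¹ * n * k).2, h⟩⟩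
    · rintro ⟨hi0, h⟩
      exact ((mem_searchK hz hi hi0).mpr h).2
  have hC : ∀ n : ↥Cfsg.M24,
      n ∈ Subgroup.centralizer (Subgroup.zpowers (k * ⟨z, hzm⟩ * k⁻¹) : Set ↥Cfsg.M24) ↔
        toList (φ n) ∈ searchK 1 := by
    intro n
    rw [← mem_searchK hz (by norm_num) (by norm_num), ← hconj, pow_one, Subgroup.zpowers_eq_closure,
      Subgroup.centralizer_closure, Subgroup.mem_centralizer_singleton_iff, mul_inv_eq_iff_eq_mul,
      iff_and_self]
    exact fun _ => (k⁻¹ * n * k).2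
  let e : {n : ↥Cfsg.M24 // True} → Equiv.Perm Cfsg.GolayPt := fun n => φ n.1
  have hcount : ∀ (H : Subgroup ↥Cfsg.M24) (L : List (List ℕ)), L.Nodup →
      (∀ l ∈ L, genOK l = true) → (∀ n, n ∈ H ↔ toList (φ n) ∈ L) → Nat.card H = L.length := by
    intro H L hnd hgen hiff
    rw [← List.toFinset_card_of_nodup hnd, ← Fintype.card_coe, ← Nat.card_eq_fintype_card]
    refine Nat.card_congr (Equiv.ofBijective
      (fun n => ⟨toList (φ n.1), List.mem_toFinset.mpr ((hiff n.1).mp n.2)⟩) ⟨?_, ?_⟩)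
    · intro a b h
      have h' := toList_injective (congrArg Subtype.val h)
      exact Subtype.ext (by simpa [φ] using Subtype.ext_iff.mpr h')
    · rintro ⟨l, hl⟩
      rw [List.mem_toFinset] at hl
      obtain ⟨τ, hτ, hτl⟩ := exists_perm (hgen l hl)
      have hφ : φ (k * ⟨τ, hτ⟩ * k⁻¹) = τ := by simp [φ, mul_assoc]
      exact ⟨⟨_, (hiff _).mpr (by rw [hφ, hτl]; exact hl)⟩, Subtype.ext (by show toList _ = l; rw [hφ, hτl])⟩
  refine ⟨?_, ?_, ?_, ?_⟩
  · rw [hcount _ _ norm_counts.1 (fun l hl => ?_) hN, norm_counts.2.1]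
    obtain ⟨i, hi, hi0, h⟩ := mem_normList.mp hl
    exact searchK_gen hi hi0 l h
  · rw [hcount _ _ (by rw [searchK_found (by norm_num) (by norm_num)]; exact norm_counts.2.2.1)
      (searchK_gen (by norm_num) (by norm_num)) hC, searchK_found (by norm_num) (by norm_num)]
    exact norm_counts.2.2.2
  · obtain ⟨hA, hB, hAB⟩ := cent_facts
    rw [show found1 = found.getD 1 [] from rfl,
      ← searchK_found (k := 1) (by norm_num) (by norm_num)] at hA hB
    obtain ⟨α, hα, hαl⟩ := exists_perm (searchK_gen (by norm_num) (by norm_num) _ hA)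
    obtain ⟨β, hβ, hβl⟩ := exists_perm (searchK_gen (by norm_num) (by norm_num) _ hB)
    have hφ : ∀ τ (hτ : τ ∈ Cfsg.M24), φ (k * ⟨τ, hτ⟩ * k⁻¹) = τ := fun τ hτ => by simp [φ, mul_assoc]
    refine ⟨k * ⟨α, hα⟩ * k⁻¹, (hC _).mpr (by rw [hφ, hαl]; exact hA),
      k * ⟨β, hβ⟩ * k⁻¹, (hC _).mpr (by rw [hφ, hβl]; exact hB), fun h => hAB ?_⟩
    have h' := congrArg φ h
    simp only [φ, mul_assoc, Subgroup.coe_mul, InvMemClass.coe_inv, inv_mul_cancel_left,
      inv_mul_cancel, mul_one] at h'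
    rw [← hαl, ← hβl, ← toList_mul, ← toList_mul, h']
  · have hlt : sevenTrio < 3795 := by decide +kernel
    refine ⟨(k : Equiv.Perm Cfsg.GolayPt) • trioOf sevenTrio, smul_mem_trios k.2 (trioOf_mem hlt),
      fun n hn => ?_⟩
    have h := List.all_eq_true.mp norm_trio _ ((hN n).mp hn)
    simp only [Classes.trioFixed, Bool.and_eq_true, ← Classes.smul_mem_trioOf_iff] at h
    have hfix : φ n • trioOf sevenTrio = trioOf sevenTrio := by
      refine Finset.eq_of_subset_of_card_le ?_ (Finset.card_smul_finset _ _).ge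
      intro X hX
      obtain ⟨Y, hY, rfl⟩ := Finset.mem_smul_finset.mp hX
      obtain ⟨⟨h1, h2⟩, h3⟩ := h
      simp only [trioOf, Finset.mem_insert, Finset.mem_singleton] at hY
      rcases hY with rfl | rfl | rfl <;> assumption
    conv_rhs => rw [← hfix]
    rw [smul_smul, smul_smul]
    congr 1
    simp [φ, mul_assoc]

/-- For a subgroup S of order 7 of the group of the length-24 code (a Sylow 7-subgroup): the normaliser of S has order 126, the centraliser of S has order 42 and is non-abelian, and the whole normaliser leaves some trio invariant. (These are the orders of a Frobenius group of order 21 times a symmetric group of degree 3; the isomorphism type itself is not asserted here.) -/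
theorem result (S : Subgroup ↥Cfsg.M24) (hS : Nat.card S = 7) : Nat.card ↥(Subgroup.normalizer (S : Set ↥Cfsg.M24)) = 126 ∧ Nat.card ↥(Subgroup.centralizer (S : Set ↥Cfsg.M24)) = 42 ∧ (∃ x ∈ Subgroup.centralizer (S : Set ↥Cfsg.M24), ∃ y ∈ Subgroup.centralizer (S : Set ↥Cfsg.M24), x * y ≠ y * x) ∧ ∃ T ∈ Cfsg.trios, ∀ n ∈ Subgroup.normalizer (S : Set ↥Cfsg.M24), ((n : ↥Cfsg.M24) : Equiv.Perm Cfsg.GolayPt) • T = T := by
  exact main S hS

end Cfsg.Agent.S5604
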