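import Cfsg.Statements.S0824
import Cfsg.Agent.Lib.Orth.DeletedPerm
import Cfsg.Agent.Lib.Orth.NegOne

set_option autoImplicit false
set_option maxHeartbeats 1000000
set_option synthInstance.maxSize 4000
open Cfsg

namespace Cfsg.Agent.S0824

open Matrix QuadraticMap CfsgLib.Orth

/-- the index of a coordinate -/
def idx : (Fin 1 ⊕ Fin 1) ⊕ Fin 2 ≃ Fin 4 :=
  (finSumFinEquiv.sumCongr (Equiv.refl _)).trans finSumFinEquiv

/-- coordinates of even-weight vectors modulo constants -/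
def toCoord : Matrix ((Fin 1 ⊕ Fin 1) ⊕ Fin 2) (Fin 5) (ZMod 2) :=
  (!![0, 1, 0, 0, 0; 0, 1, 1, 1, 1; 0, 0, 1, 0, 1; 0, 0, 0, 1, 1] : Matrix (Fin 4) (Fin 5) (ZMod 2)).submatrix idx id

/-- representatives of the coordinate vectors -/
def ofCoord : Matrix (Fin 5) ((Fin 1 ⊕ Fin 1) ⊕ Fin 2) (ZMod 2) :=
  (!![0, 1, 0, 0; 1, 0, 0, 0; 1, 1, 0, 1; 1, 1, 1, 0; 1, 1, 1, 1] : Matrix (Fin 5) (Fin 4) (ZMod 2)).submatrix id idx

theorem toCoord_ofCoord : ∀ v, toCoord *ᵥ (ofCoord *ᵥ v) = v := by decide +kernel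

theorem sum_ofCoord : ∀ v, ∑ i, (ofCoord *ᵥ v) i = 0 := by decide +kernel

theorem toCoord_const : ∀ x : Fin 5 → ZMod 2, ∑ i, x i = 0 → toCoord *ᵥ x = 0 → ∀ i j, x i = x j := by
  decide +kernel

/-- the coordinates -/
def coords : PermCoords ((Fin 1 ⊕ Fin 1) ⊕ Fin 2) (ZMod 2) 5 :=
  ⟨toCoord.mulVecLin, ofCoord.mulVecLin, toCoord_ofCoord, sum_ofCoord, toCoord_const⟩

theorem bijective_key :
    (∀ a b : Fin 5, a ≠ b →
      (minusQ 1 (ZMod 2) 1 1) (coords.φ (Pi.single a 1 - Pi.single b 1)) = 1) ∧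
    (∀ a b : Fin 5, a ≠ b → ∀ v,
      coords.rep (Equiv.swap a b) v =
        v - polar (minusQ 1 (ZMod 2) 1 1) v (coords.φ (Pi.single a 1 - Pi.single b 1)) •
          coords.φ (Pi.single a 1 - Pi.single b 1)) ∧
    (∀ v, (minusQ 1 (ZMod 2) 1 1) v ≠ 0 → ∃ a b : Fin 5, a ≠ b ∧ v = coords.φ (Pi.single a 1 - Pi.single b 1)) := by
  simp only [polar, minusQ_coe]
  refine ⟨?_, ?_, ?_⟩
  · decide +kernel
  · decide +kernel
  · decide +kernel

/-- O⁻_4(2) ≅ S_5: the isometry group of the form x y + z_1² + z_1 z_2 + z_2² over the field with 2 elements is isomorphic to the symmetric group on 5 letters. -/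
theorem result {F : Type*} [Field F] [Fintype F] (hF : Fintype.card F = 2) : Nonempty (↥(Cfsg.isometryGroup F (Cfsg.quadFormMinus 1 F 1 1)) ≃* Equiv.Perm (Fin 5)) := by
  obtain ⟨hone, hswap, hrefl⟩ := bijective_key
  have hs : PermCoords.SwapRefl coords (minusQ 1 (ZMod 2) 1 1) := fun a b hab v => by
    rw [hswap a b hab v, hone a b hab, inv_one, one_mul]
  have hQ : (minusQ 1 (ZMod 2) 1 1).polarBilin.Nondegenerate := by
    have key : ∀ x, (∀ y, polar (minusQ 1 (ZMod 2) 1 1) x y = 0) → x = 0 := by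
      simp only [polar, minusQ_coe]
      decide +kernel
    exact ⟨key, fun y hy => key y fun x => by rw [polar_comm]; exact hy x⟩
  have hgen : reflClosure (minusQ 1 (ZMod 2) 1 1) = ⊤ :=
    (Subgroup.eq_top_iff' _).2 (mem_reflClosure hQ fun u v hu hv huv => by
      have key : ∀ u v : (Fin 1 ⊕ Fin 1) ⊕ Fin 2 → ZMod 2, Cfsg.quadFormMinus 1 (ZMod 2) 1 1 u = 0 →
          Cfsg.quadFormMinus 1 (ZMod 2) 1 1 v = 0 →
          polar (Cfsg.quadFormMinus 1 (ZMod 2) 1 1) u v = 0 → u = 0 ∨ v = 0 ∨ v = u := by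
        simp only [polar]
        decide +kernel
      rw [← minusQ_coe] at key
      rcases key u v hu hv huv with rfl | rfl | rfl
      · convert (reflClosure (minusQ 1 (ZMod 2) 1 1)).one_mem
        exact ext_app fun x => by simp [app_eich hu huv, hv]
      · rw [← zero_smul (ZMod 2) u, eich_smul_self hu]; exact Subgroup.one_mem _
      · nth_rw 2 [← one_smul (ZMod 2) v]
        rw [eich_smul_self hu]; exact Subgroup.one_mem _)
  have e0 := (MulEquiv.ofBijective _ (PermCoords.toO_bijective hs (by norm_num) hgen hrefl)).symm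
  let e : ZMod 2 ≃+* F := ZMod.ringEquivOfPrime F Nat.prime_two hF
  have hco : ⇑(minusQ 1 (ZMod 2) 1 1) = Cfsg.quadFormMinus 1 (ZMod 2) 1 1 := minusQ_coe ..
  exact ⟨(isometryGroupCongr e ⇑(minusQ 1 (ZMod 2) 1 1) (Cfsg.quadFormMinus 1 F 1 1) fun v => by
    rw [hco]; simp only [Cfsg.quadFormMinus, Function.comp_apply, map_add, map_mul, map_pow, map_one, map_sum]).symm.trans e0⟩

end Cfsg.Agent.S0824
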