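import Cfsg.Statements.S0303
import Cfsg.Agent.Lib.POmega.Wedge
import Cfsg.Agent.Lib.POmega.Descend
import Cfsg.Agent.Lib.ClassicalGroups.OrthCard
import Cfsg.Agent.Lib.ClassicalGroups.HermGroup
import Cfsg.Agent.Lib.ClassicalGroups.UnitaryGen
import Cfsg.Agent.Lib.UnitaryEmbed.Realify

set_option autoImplicit false
open Cfsg

namespace Cfsg.Agent.S0303

open Matrix

section
variable {F : Type*} [Field F] (a b : F) (v : (Fin 2 ⊕ Fin 2) ⊕ Fin 2 → F)

/-- First residue. -/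
def rZero : F := v (.inl (.inr 0)) - v (.inl (.inl 0)) - a * v (.inl (.inl 1)) + 0 * b

/-- Second residue. -/
def rOne : F := v (.inl (.inr 1)) - b * v (.inl (.inl 1)) + 0 * a

/-- First coordinate of the auxiliary element. -/
def bOne : F := (2 * b * rZero a b v - a * rOne a b v) / (4 * b - a ^ 2)

/-- Second coordinate of the auxiliary element. -/
def bTwo : F := (2 * rOne a b v - a * rZero a b v) / (4 * b - a ^ 2)

end



set_option maxHeartbeats 1600000 in
/-- PΩ^-_6(q) is isomorphic to PSU_4(q). -/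
theorem result {F K : Type*} [Field F] [Fintype F] [Field K] [Fintype K] {q : ℕ} (hF : Fintype.card F = q) (hK : Fintype.card K = q ^ 2) (a b : F) (hab : ∀ z₁ z₂ : F, z₁ ^ 2 + a * z₁ * z₂ + b * z₂ ^ 2 = 0 → z₁ = 0 ∧ z₂ = 0) : Nonempty (Cfsg.POmega F (Cfsg.quadFormMinus 2 F a b) ≃* Cfsg.PSU 4 K q) := by
  classical
  obtain ⟨ι, -⟩ := CfsgLib.UnitaryEmbed.exists_ringHom hK hF
  obtain ⟨τ, hτ⟩ := CfsgLib.UnitaryEmbed.exists_frob hF ι
  obtain ⟨θ, hθne, hθs, hθp⟩ := CfsgLib.UnitaryEmbed.exists_quadratic_root hK hF ι a b hab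
  obtain ⟨c, hc⟩ := CfsgLib.UnitaryEmbed.exists_norm_eq hK hF ι (-1)
  rw [pow_succ', map_neg, map_one, ← hτ c] at hc
  rw [← hτ θ] at hθs hθp
  have hθne' : τ θ ≠ θ := by rw [hτ]; exact hθne
  have hτι : ∀ x, τ (ι x) = ι x := fun x => by rw [hτ, CfsgLib.UnitaryEmbed.iota_pow hF]
  have hτ2 : ∀ x, τ (τ x) = x := fun x => by rw [hτ, hτ, CfsgLib.UnitaryEmbed.pow_q_q hK]
  have hc0 : c ≠ 0 := fun h => by simp [h] at hc
  have hτc0 : τ c ≠ 0 := (map_ne_zero τ).2 hc0
  have hQ := CfsgLib.POmega.minusQ_nondegenerate_any (m := 2) hab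
  let N := fun z₁ z₂ : F => ι z₁ + θ * ι z₂
  have hN2 : ∀ z, ∃ z₁ z₂, N z₁ z₂ = z := by
    intro z
    obtain ⟨z₂, hz₂⟩ := CfsgLib.UnitaryEmbed.mem_range_of_fixed hF ι ((τ z - z) / (τ θ - θ)) (by
      rw [← hτ, map_div₀, map_sub, map_sub, hτ2, hτ2]
      rw [← neg_sub (τ z), ← neg_sub (τ θ), neg_div_neg_eq])
    obtain ⟨z₁, hz₁⟩ := CfsgLib.UnitaryEmbed.mem_range_of_fixed hF ι (z - θ * ι z₂) (by
      have hb : τ θ - θ ≠ 0 := sub_ne_zero.2 hθne'
      rw [← hτ, map_sub, map_mul, hτι, hz₂]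
      field_simp
      ring)
    exact ⟨z₁, z₂, by simp only [N, hz₁]; ring⟩
  have hNinj : ∀ z₁ z₂ w₁ w₂, N z₁ z₂ = N w₁ w₂ → z₁ = w₁ ∧ z₂ = w₂ := by
    intro z₁ z₂ w₁ w₂ h
    have h' := congrArg τ h
    simp only [N, map_add, map_mul, hτι] at h h'
    have e : (τ θ - θ) * (ι z₂ - ι w₂) = 0 := by linear_combination h' - h
    have e2 := ι.injective (sub_eq_zero.1 ((mul_eq_zero.1 e).resolve_left (sub_ne_zero.2 hθne')))
    rw [e2] at h
    exact ⟨ι.injective (add_right_cancel h), e2⟩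
  set D := 4 * b - a ^ 2 with hD
  have hD0 : D ≠ 0 := fun h => by
    have h' : (θ - τ θ) * (θ - τ θ) = 0 := by
      have h4 : ι 4 = (4 : K) := map_ofNat ι 4
      have := congrArg ι h
      rw [hD, map_sub, map_mul, map_pow, h4, ← hθs, ← hθp, map_zero] at this
      linear_combination -this
    exact hθne' (sub_eq_zero.1 (mul_self_eq_zero.1 h')).symm
  have htr : ∀ z₁ z₂ : F, N z₁ z₂ * τ (N z₁ z₂) = ι (z₁ ^ 2 + a * z₁ * z₂ + b * z₂ ^ 2) := fun z₁ z₂ => by
    simp only [N, map_add, map_mul, map_pow, hτι, ← hθs, ← hθp]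
    ring
  have hb1 : ∀ v, 2 * bOne a b v + a * bTwo a b v = rZero a b v := fun v => by
    simp only [bOne, bTwo, ← hD]
    field_simp
    rw [hD]; ring
  have hb2 : ∀ v, a * bOne a b v + 2 * b * bTwo a b v = rOne a b v := fun v => by
    simp only [bOne, bTwo, ← hD]
    field_simp
    rw [hD]; ring
  let enc : ((Fin 2 ⊕ Fin 2) ⊕ Fin 2 → F) → Fin 6 → K := fun v =>
    ![N (bOne a b v) (bTwo a b v) + N (v (.inl (.inl 0))) (v (.inl (.inl 1))),
      c * N (bOne a b v) (bTwo a b v),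
      N (v (.inr 0)) (v (.inr 1)),
      τ (N (v (.inr 0)) (v (.inr 1))),
      -τ (c * N (bOne a b v) (bTwo a b v)),
      τ (N (bOne a b v) (bTwo a b v) + N (v (.inl (.inl 0))) (v (.inl (.inl 1))))]
  have hinj : Function.Injective enc := by
    intro u v h
    have e1 : N (bOne a b u) (bTwo a b u) = N (bOne a b v) (bTwo a b v) := mul_left_cancel₀ hc0 (congrFun h 1)
    have e0 : _ + _ = _ + _ := congrFun h 0
    rw [e1] at e0
    obtain ⟨x0, x1⟩ := hNinj _ _ _ _ (add_left_cancel e0)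
    obtain ⟨z0, z1⟩ := hNinj _ _ _ _ (congrFun h 2)
    obtain ⟨p, r⟩ := hNinj _ _ _ _ e1
    have r0 : rZero a b u = rZero a b v := by rw [← hb1, ← hb1, p, r]
    have r1 : rOne a b u = rOne a b v := by rw [← hb2, ← hb2, p, r]
    simp only [rZero, rOne, x0, x1] at r0 r1
    funext i
    rcases i with (i | i) | i <;> fin_cases i
    · exact x0
    · exact x1
    · simpa using r0
    · simpa using r1
    · exact z0
    · exact z1
  let T : Cfsg.SU 4 K q → (Fin 6 → K) → (Fin 6 → K) := fun g m => CfsgLib.POmega.wedge g.1.1 *ᵥ m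
  let J : (Fin 6 → K) → (Fin 6 → K) := fun p => CfsgLib.POmega.star fun i => τ (p i)
  have hencJ : ∀ v, J (enc v) = enc v := fun v => by
    funext i; fin_cases i <;> simp [J, CfsgLib.POmega.star, enc, hτ2]
  have hgram : ∀ g : Cfsg.SU 4 K q, g.1.1ᵀ * g.1.1.map τ = 1 := fun g => by
    ext i j
    have h := CfsgLib.ClassicalGroups.mem_SU_iff.1 g.2 (Pi.single i 1) (Pi.single j 1)
    simp only [Cfsg.hermForm, Matrix.mulVec_single_one, Matrix.col_apply, ← hτ] at h
    simpa [Matrix.mul_apply, Pi.single_apply, Matrix.one_apply, eq_comm] using h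
  have hTJ : ∀ g p, J (T g p) = T g (J p) := fun g p => by
    have e1 : (CfsgLib.POmega.wedge g.1.1)ᵀ * (CfsgLib.POmega.wedge g.1.1).map τ = 1 := by
      rw [← CfsgLib.POmega.wedge_transpose, ← CfsgLib.POmega.wedge_map, ← CfsgLib.POmega.wedge_mul, hgram,
        CfsgLib.POmega.wedge_one]
    have e2 := CfsgLib.POmega.star_wedge g.1.1 g.1.2 p
    have e3 : CfsgLib.POmega.star (T g p) = (CfsgLib.POmega.wedge g.1.1).map τ *ᵥ CfsgLib.POmega.star p := by
      have e4 := congrArg ((CfsgLib.POmega.wedge g.1.1).map τ *ᵥ ·) e2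
      rw [Matrix.mulVec_mulVec, mul_eq_one_comm.1 e1, Matrix.one_mulVec] at e4
      exact e4
    have hst : ∀ s : Fin 6 → K, CfsgLib.POmega.star (fun i => τ (s i)) = fun i => τ (CfsgLib.POmega.star s i) :=
      fun s => by funext i; fin_cases i <;> simp [CfsgLib.POmega.star]
    simp only [J, hst, e3]
    funext i
    simp [T, Matrix.mulVec, dotProduct, map_sum, hτ2]
  have hsurj : ∀ p, J p = p → ∃ v, enc v = p := fun p hp => by
    obtain ⟨b₁, b₂, hB⟩ := hN2 (p 1 / c)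
    obtain ⟨x₀, x₁, hX⟩ := hN2 (p 0 - p 1 / c)
    obtain ⟨z₀, z₁, hZ⟩ := hN2 (p 2)
    refine ⟨Sum.elim (Sum.elim ![x₀, x₁] ![2 * b₁ + a * b₂ + x₀ + a * x₁, a * b₁ + 2 * b * b₂ + b * x₁]) ![z₀, z₁], ?_⟩
    have q1 : bOne a b (Sum.elim (Sum.elim ![x₀, x₁] ![2 * b₁ + a * b₂ + x₀ + a * x₁, a * b₁ + 2 * b * b₂ + b * x₁]) ![z₀, z₁]) = b₁ := by
      simp [bOne, rZero, rOne, ← hD]
      rw [div_eq_iff hD0, hD]; ring
    have q2 : bTwo a b (Sum.elim (Sum.elim ![x₀, x₁] ![2 * b₁ + a * b₂ + x₀ + a * x₁, a * b₁ + 2 * b * b₂ + b * x₁]) ![z₀, z₁]) = b₂ := by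
      simp [bTwo, rZero, rOne, ← hD]
      rw [div_eq_iff hD0, hD]; ring
    have f3 := congrFun hp 3
    have f4 := congrFun hp 4
    have f5 := congrFun hp 5
    simp [J, CfsgLib.POmega.star] at f3 f4 f5
    funext i
    fin_cases i <;> simp [enc, q1, q2, hB, hX, hZ, mul_div_cancel₀ _ hc0, mul_div_cancel₀ _ hτc0, f3, f4, f5]
  obtain ⟨ρ, hρ⟩ := CfsgLib.POmega.exists_descend ι enc hinj
    (fun u v => by funext i; fin_cases i <;> simp [enc, N, bOne, bTwo, rZero, rOne] <;> ring)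
    (fun d v => by funext i; fin_cases i <;> simp [enc, N, bOne, bTwo, rZero, rOne, hτι] <;> ring)
    T (fun g m n => Matrix.mulVec_add _ _ _)
    (fun g d m => Matrix.mulVec_smul _ _ _)
    (fun g v => hsurj _ (by rw [hTJ, hencJ]))
  have h1 : ∀ x, ρ 1 x = x := fun x => hinj (by
    rw [hρ]; simp [T, CfsgLib.POmega.wedge_one])
  have hm : ∀ g h x, ρ (g * h) x = ρ g (ρ h x) := fun g h x => hinj (by
    rw [hρ, hρ, hρ]; simp [T, CfsgLib.POmega.wedge_mul, Matrix.mulVec_mulVec])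
  have henc : ∀ v, ι (CfsgLib.Orth.minusQ 2 F a b v) = CfsgLib.POmega.pf (enc v) := fun v => by
    have hQv : CfsgLib.Orth.minusQ 2 F a b v = rZero a b v * v (.inl (.inl 0)) + rOne a b v * v (.inl (.inl 1))
        + ((v (.inl (.inl 0))) ^ 2 + a * v (.inl (.inl 0)) * v (.inl (.inl 1)) + b * (v (.inl (.inl 1))) ^ 2)
        + ((v (.inr 0)) ^ 2 + a * v (.inr 0) * v (.inr 1) + b * (v (.inr 1)) ^ 2) := by
      simp [CfsgLib.Orth.minusQ_coe, Cfsg.quadFormMinus, Fin.sum_univ_two, rZero, rOne]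
      ring
    have hpf : CfsgLib.POmega.pf (enc v) =
        (N (bOne a b v) (bTwo a b v) + N (v (.inl (.inl 0))) (v (.inl (.inl 1)))) *
          τ (N (bOne a b v) (bTwo a b v) + N (v (.inl (.inl 0))) (v (.inl (.inl 1))))
        + c * τ c * (N (bOne a b v) (bTwo a b v) * τ (N (bOne a b v) (bTwo a b v)))
        + N (v (.inr 0)) (v (.inr 1)) * τ (N (v (.inr 0)) (v (.inr 1))) := by
      simp [CfsgLib.POmega.pf, enc, map_mul]
      ring
    have h2 : ι 2 = (2 : K) := map_ofNat ι 2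
    rw [hQv, hpf, hc, htr (v (.inr 0)), ← hb1, ← hb2]
    simp only [N, map_add, map_mul, map_pow, hτι, h2, ← hθs, ← hθp]
    ring
  have hq' : ∀ g x, CfsgLib.Orth.minusQ 2 F a b (ρ g x) = CfsgLib.Orth.minusQ 2 F a b x := fun g x => by
    refine ι.injective ?_
    rw [henc, henc, hρ, CfsgLib.POmega.pf_wedge, g.1.2, one_mul]
  let φ := CfsgLib.POmega.mkHom ρ h1 hm hq'
  have hscal : ∀ g ∈ φ.ker, ∃ μ : K, μ * μ = 1 ∧ g.1.1 = μ • 1 := fun g hg => by
    have hg' := (CfsgLib.POmega.mkHom_ker ρ h1 hm hq' g).1 hg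
    have hfix : ∀ p, J p = p → T g p = p := fun p hp => by
      obtain ⟨v, rfl⟩ := hsurj p hp
      rw [← hρ, hg']
    have hJadd : ∀ u w, J (u + w) = J u + J w := fun u w => by
      funext i; fin_cases i <;> simp [J, CfsgLib.POmega.star] <;> ring
    have hJsmul : ∀ (d : K) w, J (d • w) = τ d • J w := fun d w => by
      funext i; fin_cases i <;> simp [J, CfsgLib.POmega.star]
    have hJJ : ∀ w, J (J w) = w := fun w => by
      funext i; fin_cases i <;> simp [J, CfsgLib.POmega.star, hτ2]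
    have hall : ∀ P, T g P = P := fun P => by
      have e1 := hfix (P + J P) (by rw [hJadd, hJJ, add_comm])
      have e2 := hfix (θ • P + τ θ • J P) (by rw [hJadd, hJsmul, hJsmul, hJJ, hτ2, add_comm])
      simp only [T, Matrix.mulVec_add, Matrix.mulVec_smul] at e1 e2 ⊢
      funext i
      have i1 := congrFun e1 i
      have i2 := congrFun e2 i
      simp only [Pi.add_apply, Pi.smul_apply, smul_eq_mul] at i1 i2
      refine mul_left_cancel₀ (sub_ne_zero.2 hθne') ?_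
      linear_combination τ θ * i1 - i2
    exact CfsgLib.POmega.scalar_of_wedge g.1.1 (fun _ _ => hall _) (hall _)
  have hker : φ.ker ≤ Subgroup.center _ := fun g hg => by
    obtain ⟨μ, -, e⟩ := hscal g hg
    rw [Subgroup.mem_center_iff]
    intro B
    refine Subtype.ext (Subtype.ext ?_)
    simp [e]
  have hkcard : Nat.card φ.ker = Nat.gcd 2 (q - 1) := by
    rw [CfsgLib.POmega.card_scalar_sq φ.ker (fun g => g.1.1) (Subtype.val_injective.comp Subtype.val_injective)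
      hscal fun μ hμ => by
        have hτμ : τ μ = μ := by rcases mul_self_eq_one_iff.1 hμ with rfl | rfl <;> simp
        obtain ⟨g, hg⟩ := CfsgLib.ClassicalGroups.scalar_mem_SU (F := K) (q := q) (n := 4) (l := μ)
          (by linear_combination (μ * μ + 1) * hμ) (by rw [pow_succ, ← hτ, hτμ, hμ])
        have hg1 : g.1.1 = μ • 1 := by rw [hg, Matrix.smul_one_eq_diagonal]
        refine ⟨g, (CfsgLib.POmega.mkHom_ker ρ h1 hm hq' _).2 fun x => hinj ?_, hg1⟩
        rw [hρ]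
        simp only [T, hg1]
        rw [CfsgLib.POmega.wedge_scalar hμ, Matrix.one_mulVec], hK]
    by_cases hodd : Odd q
    · have := Nat.odd_iff.1 hodd
      have := Nat.odd_iff.1 (hodd.pow (n := 2))
      rw [Nat.gcd_eq_left (by omega), Nat.gcd_eq_left (by omega)]
    · have he := Nat.not_odd_iff_even.1 hodd
      have := Nat.even_iff.1 he
      have := Nat.even_iff.1 (he.pow_of_ne_zero (n := 2) two_ne_zero)
      have : 1 < q := hF ▸ Fintype.one_lt_card
      have : 1 ≤ q ^ 2 := Nat.one_le_pow _ _ (by omega)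
      rw [show Nat.gcd 2 (q ^ 2 - 1) = 1 from Nat.coprime_two_left.2 (Nat.odd_iff.2 (by omega)),
        show Nat.gcd 2 (q - 1) = 1 from Nat.coprime_two_left.2 (Nat.odd_iff.2 (by omega))]
  have hp : commutator (Cfsg.SU 4 K q) = ⊤ :=
    CfsgLib.ClassicalGroups.SU_perfect hK (by norm_num) (by omega)
  have hO : Nat.card (CfsgLib.Orth.O (CfsgLib.Orth.minusQ 2 F a b)) =
      2 * q ^ 6 * (q ^ 3 + 1) * ((q ^ 2 - 1) * (q ^ 4 - 1)) := by
    rw [CfsgLib.Orth.O, CfsgLib.Orth.minusQ_coe, CfsgLib.ClassicalGroups.card_isometry_minus hab, hF,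
      Finset.prod_range_succ, Finset.prod_range_succ, Finset.prod_range_zero, one_mul]
  have hcard : Nat.card (commutator (CfsgLib.Orth.O (CfsgLib.Orth.minusQ 2 F a b))) * Nat.card φ.ker =
      Nat.card (Cfsg.SU 4 K q) := by
    have := CfsgLib.POmega.card_omega_mul (Q := CfsgLib.Orth.minusQ 2 F a b)
    rw [CfsgLib.POmega.index_omega hQ (by simp), hO, hF] at this
    have hgu := CfsgLib.ClassicalGroups.card_GU hK 4
    rw [← CfsgLib.ClassicalGroups.card_SU_mul hK (by norm_num), Finset.prod_range_succ, Finset.prod_range_succ,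
      Finset.prod_range_succ, Finset.prod_range_succ, Finset.prod_range_zero, one_mul] at hgu
    simp [Nat.even_iff] at hgu
    rw [hkcard]
    refine Nat.eq_of_mul_eq_mul_left (show 0 < 2 * (q + 1) by omega) ?_
    rw [mul_assoc 2 _ (Nat.card (Cfsg.SU 4 K q)), ← Nat.card_eq_fintype_card] at *
    rw [hgu]
    linear_combination (q + 1) * this
  rw [← CfsgLib.Orth.minusQ_coe]
  exact CfsgLib.POmega.pomega_equiv φ (CfsgLib.POmega.range_le_omega_of_perfect φ hp) hker hcard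
    fun g hg => CfsgLib.POmega.central_of_perfect hp hg

end Cfsg.Agent.S0303
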