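import Cfsg.Statements.S5379
import Cfsg.Agent.Lib.SuzType.Classes
import Cfsg.Agent.Lib.MonsterType.CentralConj
import Cfsg.Agent.Lib.ThreeTrans.MinusSix

set_option autoImplicit false
open Cfsg

namespace Cfsg.Agent.S5379

theorem card_omega :
    Nat.card (Cfsg.Omega (ZMod 2) (Cfsg.quadFormMinus 2 (ZMod 2) 1 1)) = 25920 := by
  classical
  rw [← CfsgLib.Orth.minusQ_coe]
  have hQ := CfsgLib.POmega.minusQ_nondegenerate_any (m := 2) CfsgLib.ThreeTrans.MinusSix.aniso
  have hO : Nat.card (CfsgLib.Orth.O (CfsgLib.Orth.minusQ 2 (ZMod 2) 1 1)) = 51840 := by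
    have h := CfsgLib.ClassicalGroups.card_isometry_minus CfsgLib.ThreeTrans.MinusSix.aniso 2
    rw [← CfsgLib.Orth.minusQ_coe] at h
    rw [show Nat.card (CfsgLib.Orth.O (CfsgLib.Orth.minusQ 2 (ZMod 2) 1 1)) = _ from h, ZMod.card]
    decide
  have hi : (commutator (CfsgLib.Orth.O (CfsgLib.Orth.minusQ 2 (ZMod 2) 1 1))).index = 2 :=
    CfsgLib.Orth.index_commutator_char_two hQ
      (Cfsg.Agent.InvolForm57.minus_gen 2 CfsgLib.ThreeTrans.MinusSix.aniso) (by simp)
  have h := (commutator (CfsgLib.Orth.O (CfsgLib.Orth.minusQ 2 (ZMod 2) 1 1))).card_mul_index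
  rw [hi, hO] at h
  exact (show Nat.card (commutator (CfsgLib.Orth.O (CfsgLib.Orth.minusQ 2 (ZMod 2) 1 1))) = 25920 by omega)

/-- Let G be a finite group of Suzuki sporadic type: it has an involution z whose centralizer C has generalized Fitting subgroup Q extraspecial of order 2^7 with C/Q isomorphic to the commutator subgroup of the isometry group of the elliptic quadratic form in dimension 6 over the field with two elements, and some conjugate of z other than z lies in Q. Then G has exactly two conjugacy classes of involutions. -/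
theorem result {G : Type*} [Group G] [Finite G] (z : G) (hz : orderOf z = 2) (Q : Subgroup (Subgroup.centralizer ({z} : Set G))) [Q.Normal] (hF : Cfsg.generalizedFittingSubgroup (Subgroup.centralizer ({z} : Set G)) = Q) (hQ : Cfsg.IsExtraspecial 2 Q) (hcard : Nat.card Q = 2 ^ 7) (e : (Subgroup.centralizer ({z} : Set G)) ⧸ Q ≃* Cfsg.Omega (ZMod 2) (Cfsg.quadFormMinus 2 (ZMod 2) 1 1)) (hnwc : ∃ g : G, (∃ hq : g * z * g⁻¹ ∈ Subgroup.centralizer ({z} : Set G), (⟨g * z * g⁻¹, hq⟩ : Subgroup.centralizer ({z} : Set G)) ∈ Q) ∧ g * z * g⁻¹ ≠ z) : ∃ a b : G, orderOf a = 2 ∧ orderOf b = 2 ∧ ¬ IsConj a b ∧ ∀ x : G, orderOf x = 2 → IsConj x a ∨ IsConj x b := by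
  have hS : Cfsg.IsExtraspecialCentralizerSetting z Q 3 := ⟨hz, hF, hQ, hcard, hnwc⟩
  obtain ⟨hEx, hself, hnorm⟩ := CfsgLib.MonsterType.setting_extraAt hS
  refine CfsgLib.SuzType.Hyp.two_classes (z := z) (Q := CfsgLib.MonsterType.qm Q) ⟨hz, Subgroup.map_subtype_le _,
    fun c hc y hy => (Subgroup.mem_normalizer_iff.1 (hnorm (Subgroup.mem_centralizer_singleton_iff.2 hc)) y).1 hy,
    ?_, hEx, fun c _ hcy => ?_, ?_, ?_⟩
  · rw [CfsgLib.MonsterType.card_qm, hcard]; norm_num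
  · obtain ⟨a, -, rfl⟩ : c ∈ (Subgroup.center ↥(CfsgLib.MonsterType.qm Q)).map (CfsgLib.MonsterType.qm Q).subtype :=
      hself ▸ Subgroup.mem_centralizer_iff.2 hcy
    exact a.2
  · rw [Subgroup.card_eq_card_quotient_mul_card_subgroup Q, Nat.card_congr e.toEquiv, card_omega, hcard]; norm_num
  · obtain ⟨g, ⟨hq, hgQ⟩, hne⟩ := hnwc
    exact ⟨g, ⟨⟨_, hq⟩, hgQ, rfl⟩, hne⟩

end Cfsg.Agent.S5379
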