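import Cfsg.Statements.S5378
import Cfsg.Agent.Lib.CoOneType.Classes
import Cfsg.Agent.Lib.MonsterType.CentralConj

set_option autoImplicit false
open Cfsg

namespace Cfsg.Agent.S5378

theorem card_omega :
    Nat.card (Cfsg.Omega (ZMod 2) (Cfsg.quadFormPlus 4 (ZMod 2))) = 174182400 := by
  classical
  rw [← CfsgLib.Orth.plusQ_coe]
  have hQ := CfsgLib.Orth.plusQ_nondegenerate (F := ZMod 2) 4
  have hi : (commutator (CfsgLib.Orth.O (CfsgLib.Orth.plusQ 4 (ZMod 2)))).index = 2 :=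
    CfsgLib.Orth.index_commutator_char_two hQ
      (CfsgLib.Orth.reflClosure_eq_top hQ (Or.inr (by simp))) (by simp)
  have h := (commutator (CfsgLib.Orth.O (CfsgLib.Orth.plusQ 4 (ZMod 2)))).card_mul_index
  rw [hi, CfsgLib.CoOneType.card_O_plus] at h
  exact (show Nat.card (commutator (CfsgLib.Orth.O (CfsgLib.Orth.plusQ 4 (ZMod 2)))) = 174182400 by omega)

/-- Let G be a finite group of Conway type: it has an involution z whose centralizer C has generalized Fitting subgroup Q extraspecial of order 2^9 with C/Q isomorphic to the commutator subgroup of the isometry group of the hyperbolic quadratic form in dimension 8 over the field with two elements, and some conjugate of z other than z lies in Q. Then G has exactly three conjugacy classes of involutions. -/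
theorem result {G : Type*} [Group G] [Finite G] (z : G) (hz : orderOf z = 2) (Q : Subgroup (Subgroup.centralizer ({z} : Set G))) [Q.Normal] (hF : Cfsg.generalizedFittingSubgroup (Subgroup.centralizer ({z} : Set G)) = Q) (hQ : Cfsg.IsExtraspecial 2 Q) (hcard : Nat.card Q = 2 ^ 9) (e : (Subgroup.centralizer ({z} : Set G)) ⧸ Q ≃* Cfsg.Omega (ZMod 2) (Cfsg.quadFormPlus 4 (ZMod 2))) (hnwc : ∃ g : G, (∃ hq : g * z * g⁻¹ ∈ Subgroup.centralizer ({z} : Set G), (⟨g * z * g⁻¹, hq⟩ : Subgroup.centralizer ({z} : Set G)) ∈ Q) ∧ g * z * g⁻¹ ≠ z) : ∃ a b c : G, orderOf a = 2 ∧ orderOf b = 2 ∧ orderOf c = 2 ∧ ¬ IsConj a b ∧ ¬ IsConj a c ∧ ¬ IsConj b c ∧ ∀ x : G, orderOf x = 2 → IsConj x a ∨ IsConj x b ∨ IsConj x c := by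
  have hS : Cfsg.IsExtraspecialCentralizerSetting z Q 4 := ⟨hz, hF, hQ, hcard, hnwc⟩
  obtain ⟨hEx, hself, hnorm⟩ := CfsgLib.MonsterType.setting_extraAt hS
  refine CfsgLib.CoOneType.Hyp.three_classes (z := z) (Q := CfsgLib.MonsterType.qm Q) ⟨hz, Subgroup.map_subtype_le _,
    fun c hc y hy => (Subgroup.mem_normalizer_iff.1 (hnorm (Subgroup.mem_centralizer_singleton_iff.2 hc)) y).1 hy,
    ?_, hEx, fun c _ hcy => ?_, ?_, ?_⟩
  · rw [CfsgLib.MonsterType.card_qm, hcard]; norm_num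
  · obtain ⟨a, -, rfl⟩ : c ∈ (Subgroup.center ↥(CfsgLib.MonsterType.qm Q)).map (CfsgLib.MonsterType.qm Q).subtype :=
      hself ▸ Subgroup.mem_centralizer_iff.2 hcy
    exact a.2
  · rw [Subgroup.card_eq_card_quotient_mul_card_subgroup Q, Nat.card_congr e.toEquiv, card_omega, hcard]; norm_num
  · obtain ⟨g, ⟨hq, hgQ⟩, hne⟩ := hnwc
    exact ⟨g, ⟨⟨_, hq⟩, hgQ, rfl⟩, hne⟩

end Cfsg.Agent.S5378
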