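import Cfsg.Statements.S5395


set_option autoImplicit false
open Cfsg

namespace Cfsg.Agent.S5395

/-- For a finite extraspecial 2-group E, an automorphism of E that induces the identity on E modulo its centre is inner (so these automorphisms form exactly the inner automorphism group, an elementary abelian 2-group of order |E|/2). -/
theorem result {E : Type*} [Group E] [Finite E] (hE : Cfsg.IsExtraspecial 2 E) (φ : E ≃* E) (hφ : ∀ x : E, φ x * x⁻¹ ∈ Subgroup.center E) : ∃ g : E, ∀ x : E, φ x = g * x * g⁻¹ := by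
  classical
  obtain ⟨⟨-, -, hcomm⟩, hZ⟩ := hE
  have hZ2 : ∀ z ∈ Subgroup.center E, z * z = 1 := by
    intro z hz
    have h := pow_card_eq_one' (G := Subgroup.center E) (x := ⟨z, hz⟩)
    rw [hZ] at h
    simpa [pow_two] using congrArg Subtype.val h
  have hbr : ∀ a b : E, a * b * a⁻¹ * b⁻¹ ∈ Subgroup.center E := fun a b =>
    hcomm ▸ Subgroup.commutator_mem_commutator (Subgroup.mem_top a) (Subgroup.mem_top b)
  have hc : ∀ z ∈ Subgroup.center E, ∀ g : E, g * z = z * g := fun z hz g =>
    Subgroup.mem_center_iff.1 hz g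
  let e : Subgroup.center E ≃* Multiplicative (ZMod 2) :=
    haveI := Fact.mk Nat.prime_two
    mulEquivOfPrimeCardEq hZ (by simp)
  let f : E →* Multiplicative (ZMod 2) :=
    e.toMonoidHom.comp (MonoidHom.mk' (fun x => (⟨φ x * x⁻¹, hφ x⟩ : Subgroup.center E)) (by
      intro x y
      apply Subtype.ext
      show φ (x * y) * (x * y)⁻¹ = φ x * x⁻¹ * (φ y * y⁻¹)
      rw [mul_assoc (φ x), hc _ (hφ y) x⁻¹, map_mul, mul_inv_rev]
      simp only [mul_assoc]))
  let Ψ : E → (E →* Multiplicative (ZMod 2)) := fun g =>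
    e.toMonoidHom.comp (MonoidHom.mk' (fun x => (⟨g * x * g⁻¹ * x⁻¹, hbr g x⟩ : Subgroup.center E)) (by
      intro x y
      apply Subtype.ext
      show g * (x * y) * g⁻¹ * (x * y)⁻¹ = g * x * g⁻¹ * x⁻¹ * (g * y * g⁻¹ * y⁻¹)
      rw [mul_assoc (g * x * g⁻¹) x⁻¹, hc _ (hbr g y) x⁻¹]
      group))
  have hker : ∀ (h : E →* Multiplicative (ZMod 2)), Subgroup.center E ≤ h.ker := by
    intro h z hz
    rw [← hcomm] at hz
    exact Abelianization.commutator_subset_ker h hz
  let V := E ⧸ Subgroup.center E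
  have hcard : Nat.card (V →* Multiplicative (ZMod 2)) = Nat.card V := by
    let i1 : CommGroup V := { (inferInstance : Group V) with
      mul_comm := fun a b => QuotientGroup.induction_on a fun a => QuotientGroup.induction_on b fun b => by
        show ((a * b : E) : V) = ((b * a : E) : V)
        rw [QuotientGroup.eq]
        have := hbr b⁻¹ a⁻¹
        simpa [mul_assoc] using this }
    have hexp : ∀ v : Additive V, 2 • v = 0 := by
      intro v
      obtain ⟨a, ha⟩ := QuotientGroup.mk_surjective (s := Subgroup.center E) (Additive.toMul v)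
      apply Additive.toMul.injective
      show Additive.toMul v ^ 2 = 1
      rw [← ha, ← QuotientGroup.mk_pow, QuotientGroup.eq_one_iff, Subgroup.mem_center_iff]
      intro b
      have h1 := hZ2 _ (hbr a b)
      have h2 : a * a * b * (a * a)⁻¹ * b⁻¹ =
          a * (a * b * a⁻¹ * b⁻¹) * a⁻¹ * (a * b * a⁻¹ * b⁻¹) := by group
      rw [hc _ (hbr a b) a, mul_inv_cancel_right, h1, mul_inv_eq_one, mul_inv_eq_iff_eq_mul] at h2
      rw [pow_two]
      exact h2.symm
    let i2 : Module (ZMod 2) (Additive V) := AddCommGroup.zmodModule hexp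
    have : Nat.card (Module.Dual (ZMod 2) (Additive V)) = Nat.card (Additive V) := by
      rw [Module.natCard_eq_pow_finrank (K := ZMod 2), Module.natCard_eq_pow_finrank (K := ZMod 2) (V := Additive V),
        Subspace.dual_finrank_eq]
    refine Eq.trans ?_ (this.trans (Nat.card_congr Additive.toMul))
    exact Nat.card_congr ((MonoidHom.toAdditiveLeft).trans
      ⟨fun g => AddMonoidHom.toZModLinearMap 2 g, fun g => g.toAddMonoidHom,
        fun _ => rfl, fun _ => rfl⟩)
  have hΨ : ∀ g₁ g₂ : E, Ψ g₁ = Ψ g₂ → (g₁ : V) = g₂ := by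
    intro g₁ g₂ h
    rw [QuotientGroup.eq, Subgroup.mem_center_iff]
    intro x
    have h2 := congrArg Subtype.val (e.injective (DFunLike.congr_fun h x))
    change g₁ * x * g₁⁻¹ * x⁻¹ = g₂ * x * g₂⁻¹ * x⁻¹ at h2
    have h3 : g₁ * x * g₁⁻¹ = g₂ * x * g₂⁻¹ := mul_right_cancel h2
    calc x * (g₁⁻¹ * g₂) = g₁⁻¹ * (g₁ * x * g₁⁻¹) * g₂ := by group
      _ = g₁⁻¹ * g₂ * x := by rw [h3]; group
  let Φ : V → (V →* Multiplicative (ZMod 2)) := fun v =>
    QuotientGroup.lift _ (Ψ v.out) (hker _)
  have hinj : Function.Injective Φ := by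
    intro v w h
    have : Ψ v.out = Ψ w.out := by
      ext x
      exact congrArg Multiplicative.toAdd (DFunLike.congr_fun h (x : V))
    simpa using hΨ _ _ this
  haveI : Finite (V →* Multiplicative (ZMod 2)) := Finite.of_injective _ DFunLike.coe_injective
  obtain ⟨v, hv⟩ := (hinj.bijective_of_nat_card_le hcard.le).2 (QuotientGroup.lift _ f (hker f))
  refine ⟨v.out, fun x => ?_⟩
  have h4 := congrArg Subtype.val (e.injective (DFunLike.congr_fun hv (x : V)))
  change v.out * x * v.out⁻¹ * x⁻¹ = φ x * x⁻¹ at h4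
  exact (mul_right_cancel h4).symm

end Cfsg.Agent.S5395
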