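import Cfsg.Statements.S1293
import Cfsg.Agent.Lib.Components.Local
-- import your own Cfsg.Agent.* helpers here

set_option autoImplicit false
open Cfsg

namespace Cfsg.Agent.S1293

/-- Let G be finite with L_{p'}(G) = 1, and H = N_G(P) for a nontrivial p-subgroup P. Then L_{p'}(H) = 1 and O_{p'}(H) ≤ O_{p'}(G). -/
theorem result {G : Type*} [Group G] [Finite G] (p : ℕ) [Fact p.Prime] (hL : Cfsg.pLayer p G = ⊥) (P : Subgroup G) (hP : IsPGroup p ↥P) (hP1 : P ≠ ⊥) : Cfsg.pLayer p ↥(Subgroup.normalizer (P : Set G)) = ⊥ ∧ (Cfsg.pPrimeCore p ↥(Subgroup.normalizer (P : Set G))).map (Subgroup.normalizer (P : Set G)).subtype ≤ Cfsg.pPrimeCore p G := by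
  open Subgroup CfsgLib.Components in
  set O := Cfsg.pPrimeCore p G
  set N := normalizer (P : Set G)
  let π := QuotientGroup.mk' O
  have hOc : (Nat.card O).Coprime p := CfsgLib.PCore.pPrimeCore_coprime
  have hN : N.map π = normalizer ((P.map π : Subgroup (G ⧸ O)) : Set (G ⧸ O)) := map_normalizer_quotient hOc hP
  have hchar : centralizer (Cfsg.pCore p (G ⧸ O) : Set (G ⧸ O)) ≤ Cfsg.pCore p (G ⧸ O) :=
    centralizer_pCore_le_of_no_component CfsgLib.PCore.pPrimeCore_quotient_pPrimeCore
      (pLayer_eq_bot_iff.mp hL)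
  have hcharN := centralizer_pCore_normalizer_le hchar (hP.map π)
  let e := (MulEquiv.subgroupCongr hN)
  let f : N →* ↥(normalizer ((P.map π : Subgroup (G ⧸ O)) : Set (G ⧸ O))) :=
    e.toMonoidHom.comp (π.subgroupMap N)
  have hf : Function.Surjective f := e.surjective.comp (π.subgroupMap_surjective N)
  have hfbot : (Cfsg.pPrimeCore p N).map f = ⊥ :=
    le_bot_iff.mp ((CfsgLib.PCore.map_pPrimeCore_le f hf).trans
      (pPrimeCore_eq_bot_of_centralizer_le hcharN).le)
  have hle : (Cfsg.pPrimeCore p N).map N.subtype ≤ O := by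
    rintro _ ⟨x, hx, rfl⟩
    have h1 : f x ∈ (Cfsg.pPrimeCore p N).map f := mem_map_of_mem _ hx
    rw [hfbot, mem_bot] at h1
    exact (QuotientGroup.eq_one_iff _).mp (congrArg Subtype.val h1)
  refine ⟨pLayer_eq_bot_iff.mpr fun K hK => ?_, hle⟩
  have hker : f.ker = Cfsg.pPrimeCore p N := by
    refine le_antisymm ?_ fun x hx => ?_
    · refine CfsgLib.PCore.le_pPrimeCore inferInstance ?_
      have hle' : f.ker.map N.subtype ≤ O := by
        rintro _ ⟨x, hx, rfl⟩
        exact (QuotientGroup.eq_one_iff _).mp (congrArg Subtype.val hx)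
      have := card_dvd_of_le hle'
      rw [card_map_of_injective N.subtype_injective] at this
      exact hOc.coprime_dvd_left this
    · have h1 : f x ∈ (Cfsg.pPrimeCore p N).map f := mem_map_of_mem _ hx
      rwa [hfbot, mem_bot] at h1
  exact not_isComponent_of_centralizer_pCore_le hcharN _
    (isComponent_map_equiv ((QuotientGroup.quotientMulEquivOfEq hker).symm.trans
      (QuotientGroup.quotientKerEquivOfSurjective f hf)) hK)

end Cfsg.Agent.S1293
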