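import Cfsg.Statements.S0223
import Cfsg.Agent.Lib.Involutions.StronglyEmbedded
-- import your own Cfsg.Agent.* helpers here

set_option autoImplicit false
open Cfsg

namespace Cfsg.Agent.S0223

/-- Let H be a proper subgroup of even order of the finite group G. Then H is strongly embedded if and only if (i) C_G(t) ≤ H for every involution t of H and (ii) H controls fusion of its involutions: involutions of H conjugate in G are conjugate in H. -/
theorem result {G : Type*} [Group G] [Finite G] (H : Subgroup G) (hH : H ≠ ⊤) (heven : Even (Nat.card H)) : Cfsg.IsStronglyEmbedded H ↔ ((∀ t ∈ H, orderOf t = 2 → Subgroup.centralizer ({t} : Set G) ≤ H) ∧ (∀ t ∈ H, ∀ s ∈ H, orderOf t = 2 → orderOf s = 2 → IsConj t s → ∃ h ∈ H, h * t * h⁻¹ = s)) := CfsgLib.Involutions.isStronglyEmbedded_iff_fusion hH heven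

end Cfsg.Agent.S0223
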