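import Cfsg.Statements.S4736
import Cfsg.Agent.Lib.Blocks.SingleBlock
import Cfsg.Agent.Lib.Characters.ItoMichlerPSolvable

set_option autoImplicit false
open Cfsg

namespace Cfsg.Agent.S4736

open CfsgLib CfsgLib.Characters CfsgLib.ClassCount

universe u

variable {G : Type u} [Group G] [Finite G]

theorem inflation_mem {p : ℕ} {M : Ideal AlgInt} (hM : IsPModular p M) (K : Subgroup G) [K.Normal]
    (φ : IrrCharacter (G ⧸ K)) (hφ : φ ∈ principalBlock M (G ⧸ K)) (χ : IrrCharacter G)
    (hχ : ∀ g : G, (χ : G → ℂ) g = (φ : G ⧸ K → ℂ) (g : G ⧸ K)) : χ ∈ principalBlock M G := by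
  intro g
  have h := hφ (g : G ⧸ K)
  have hle : Subgroup.centralizer ({g} : Set G) ≤
      (Subgroup.centralizer ({(g : G ⧸ K)} : Set (G ⧸ K))).comap (QuotientGroup.mk' K) := by
    intro x hx
    rw [Subgroup.mem_centralizer_singleton_iff] at hx
    rw [Subgroup.mem_comap, Subgroup.mem_centralizer_singleton_iff, QuotientGroup.mk'_apply,
      ← QuotientGroup.mk_mul, ← QuotientGroup.mk_mul, hx]
  obtain ⟨t, ht⟩ := Subgroup.index_dvd_of_le hle
  rw [Subgroup.index_comap_of_surjective _ (QuotientGroup.mk'_surjective K)] at ht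
  have h2 := Blocks.MemLocalIdeal.mul_left hM
    (Blocks.memLocalRing_of_isIntegral hM (DefectZeroCriterion.isIntegral_natCast' t)) h
  convert h2 using 1
  simp only [centralChar, hχ, QuotientGroup.mk_one, ht]
  push_cast
  ring

theorem height_eq_zero_iff {p : ℕ} {M : Ideal AlgInt} (hM : IsPModular p M) (χ : IrrCharacter G) :
    blockHeight p (principalBlock M G) (χ : G → ℂ) = 0 ↔ ¬ p ∣ charDegree (χ : G → ℂ) := by
  classical
  haveI := Fintype.ofFinite G
  have h0 : sInf ((fun ψ : IrrCharacter G => (charDegree (ψ : G → ℂ)).factorization p) ''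
      principalBlock M G) = 0 :=
    Nat.sInf_eq_zero.mpr (Or.inl ⟨principalIrr G, Blocks.principalIrr_mem hM, by simp [charDegree]⟩)
  rw [blockHeight, h0, Nat.sub_zero, Nat.factorization_eq_zero_iff]
  exact ⟨fun h => (h.resolve_left fun h' => h' hM.1).resolve_right (degree_eq χ).2.2.ne',
    fun h => Or.inr (Or.inl h)⟩

/-- A character with `K` in its kernel comes from the quotient. -/
theorem exists_deflation (K : Subgroup G) [K.Normal] (χ : IrrCharacter G)
    (hker : ∀ k ∈ K, (χ : G → ℂ) k = (χ : G → ℂ) 1) : ∃ φ : IrrCharacter (G ⧸ K),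
      ∀ g : G, (χ : G → ℂ) g = (φ : G ⧸ K → ℂ) (g : G ⧸ K) := by
  obtain ⟨c, n, ρ, hρ, rfl⟩ := χ
  have h1 : K ≤ MonoidHom.ker ρ := fun k hk => by
    rw [MonoidHom.mem_ker]
    have h := hker k hk
    change ρ.character k = ρ.character 1 at h
    rw [Representation.char_one] at h
    exact (char_eq_degree_iff ρ k).mp h
  let σ : Representation ℂ (G ⧸ K) (Fin n → ℂ) := QuotientGroup.lift K ρ h1
  have hσ : σ.IsIrreducible := by
    rw [isIrreducible_iff] at hρ ⊢
    exact ⟨hρ.1, fun U hU => hρ.2 U fun g v hv => hU (g : G ⧸ K) v hv⟩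
  exact ⟨⟨σ.character, n, σ, hσ, rfl⟩, fun g => rfl⟩

theorem main (p : ℕ) [hp : Fact p.Prime] (M : Ideal AlgInt) (hM : IsPModular p M)
    (hsolv : IsPSolvable p G) (P : Sylow p G) :
    IsMulCommutative P ↔
      ∀ χ ∈ principalBlock M G, blockHeight p (principalBlock M G) (χ : G → ℂ) = 0 := by
  classical
  haveI := Fintype.ofFinite G
  set K := pPrimeCore p G with hK
  set PQ := P.mapSurjective (QuotientGroup.mk'_surjective K) with hPQ
  have hsQ : IsPSolvable p (G ⧸ K) := PCore.isPSolvable_quotient hsolv K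
  have hC : Subgroup.centralizer (pCore p (G ⧸ K) : Set (G ⧸ K)) ≤ pCore p (G ⧸ K) :=
    PCore.centralizer_pCore_le hsQ PCore.pPrimeCore_quotient_pPrimeCore
  constructor
  · intro hP χ hχ
    rw [height_eq_zero_iff hM χ]
    have hab : ∀ a ∈ (P : Subgroup G), ∀ b ∈ (P : Subgroup G), a * b = b * a := fun a ha b hb =>
      congrArg Subtype.val (isMulCommutative_iff.mp hP ⟨a, ha⟩ ⟨b, hb⟩)
    have habQ : ∀ a ∈ (PQ : Subgroup (G ⧸ K)), ∀ b ∈ (PQ : Subgroup (G ⧸ K)), a * b = b * a := by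
      rw [hPQ, Sylow.coe_mapSurjective]
      rintro _ ⟨a, ha, rfl⟩ _ ⟨b, hb, rfl⟩
      rw [← map_mul, ← map_mul, hab a ha b hb]
    have hPQeq : (PQ : Subgroup (G ⧸ K)) = pCore p (G ⧸ K) := by
      refine le_antisymm (fun a ha => hC ?_) (PCore.pCore_le_sylow PQ)
      rw [Subgroup.mem_centralizer_iff]
      exact fun b hb => habQ b (PCore.pCore_le_sylow PQ hb) a ha
    have hker : ∀ k ∈ K, (χ : G → ℂ) k = (χ : G → ℂ) 1 := fun k hk =>
      PrincipalSq.apply_eq_degree_of_coprime hM K PCore.not_dvd_card_pPrimeCore χ hχ ⟨k, hk⟩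
    obtain ⟨φ, hφ⟩ : ∃ φ : IrrCharacter (G ⧸ K),
        ∀ g : G, (χ : G → ℂ) g = (φ : G ⧸ K → ℂ) (g : G ⧸ K) := exists_deflation K χ hker
    haveI hn : (PQ : Subgroup (G ⧸ K)).Normal := by
      rw [hPQeq]
      exact inferInstance
    obtain ⟨d, hd1, hd2⟩ := CharIto.degree_dvd_index_of_abelian_normal φ.2
      (PQ : Subgroup (G ⧸ K)) hn habQ
    intro hdvd
    refine PQ.not_dvd_index (hdvd.trans ?_)
    have h1 : (χ : G → ℂ) 1 = (d : ℂ) := by rw [hφ 1, QuotientGroup.mk_one, hd1]
    rwa [Nat.cast_injective ((degree_eq χ).1.symm.trans h1)]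
  · intro hht
    have huniv := SingleBlock.principalBlock_eq_univ hM (pCore p (G ⧸ K)) PCore.pCore_isPGroup hC
    have hdeg : ∀ φ : IrrCharacter (G ⧸ K), ¬ p ∣ charDegree (φ : G ⧸ K → ℂ) := by
      intro φ
      let χ : IrrCharacter G := ⟨_, Clifford.isIrrCharacter_pullback φ.2 (QuotientGroup.mk' K)
        (QuotientGroup.mk'_surjective K)⟩
      have hmem : χ ∈ principalBlock M G :=
        inflation_mem hM K φ (huniv ▸ Set.mem_univ φ) χ fun g => rfl
      have h := (height_eq_zero_iff hM χ).mp (hht χ hmem)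
      simpa [charDegree, χ] using h
    haveI hn : (PQ : Subgroup (G ⧸ K)).Normal := ItoMichler.normal_sylow hsQ hdeg PQ
    have hab := ItoMichler.comm_of_normal_pgroup hdeg (PQ : Subgroup (G ⧸ K)) PQ.isPGroup'
    refine isMulCommutative_iff.mpr fun a b => Subtype.ext ?_
    show (a : G) * b = b * a
    have h := hab _ (by rw [hPQ, Sylow.coe_mapSurjective]; exact Subgroup.mem_map_of_mem _ a.2)
      _ (by rw [hPQ, Sylow.coe_mapSurjective]; exact Subgroup.mem_map_of_mem _ b.2)
    rw [← map_mul, ← map_mul, QuotientGroup.mk'_apply, QuotientGroup.mk'_apply,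
      QuotientGroup.eq] at h
    have hmem : ((a : G) * b)⁻¹ * (b * a) ∈ (P : Subgroup G) ⊓ K :=
      ⟨P.mul_mem (P.inv_mem (P.mul_mem a.2 b.2)) (P.mul_mem b.2 a.2), h⟩
    rw [PCore.inf_eq_bot_of_isPGroup_coprime P.isPGroup' PCore.pPrimeCore_coprime,
      Subgroup.mem_bot, inv_mul_eq_one] at hmem
    exact hmem

/-- Let p be a prime, M a maximal ideal of the algebraic integers containing p, and G a finite p-solvable group with Sylow p-subgroup P. Then P is abelian if and only if every irreducible character in the principal p-block of G has height zero. -/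
theorem result {G : Type*} [Group G] [Finite G] (p : ℕ) [Fact p.Prime] (M : Ideal Cfsg.AlgInt) (hM : Cfsg.IsPModular p M) (hsolv : Cfsg.IsPSolvable p G) (P : Sylow p G) : IsMulCommutative P ↔ ∀ χ ∈ Cfsg.principalBlock M G, Cfsg.blockHeight p (Cfsg.principalBlock M G) (χ : G → ℂ) = 0 := by
  exact main p M hM hsolv P

end Cfsg.Agent.S4736
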