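import Cfsg.Statements.S1057
import Cfsg.Agent.S1059
import Cfsg.Agent.S0283
import Cfsg.Agent.Lib.GTwoTwo.Checks
import Cfsg.Agent.Lib.Recognition.PSU33.Instance
import Cfsg.Agent.Lib.ChevField.Fixed
import Cfsg.Agent.Lib.Chev.Api
-- import your own Cfsg.Agent.* helpers here

set_option autoImplicit false
open Cfsg

namespace Cfsg.Agent.S1057

open scoped commutatorElement
open Cfsg.Lie Matrix CfsgLib.GTwoTwo CfsgLib.Recog.SU33 CfsgLib.Recognition.PSU33
  CfsgLib.Recognition.PSU33.Model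

theorem rootPerm_spec (r : Fin 12) (i : Fin 63) :
    Matrix.vecMul (CfsgLib.GTwoTwo.vec (rootPerm r i)) (chevG2.xMat (ZMod 2) (r : Fin 12) 1) = CfsgLib.GTwoTwo.vec i := by
  fin_cases r
  exacts [perm0_spec i, perm1_spec i, perm2_spec i, perm3_spec i, perm4_spec i, perm5_spec i,
    perm6_spec i, perm7_spec i, perm8_spec i, perm9_spec i, perm10_spec i, perm11_spec i]

theorem xMat_zero (r : Fin 12) : chevG2.xMat (ZMod 2) (r : Fin 12) 0 = 1 := by
  have h := CfsgLib.Chev.x_zero (D := chevG2) (F := ZMod 2) (by simp [CfsgLib.Chev.tabulated]) r.val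
  rwa [ChevalleyDatum.x, dif_pos (show r.val < chevG2.nroots from r.isLt)] at h

/-- `G₂(2)` on sixty-three vectors. -/
theorem exists_alpha : ∃ α : chevG2.group (ZMod 2) →* Equiv.Perm (Fin 63),
    ∀ r, rootPerm r ∈ α.range := by
  let M : Subgroup (GL chevG2.Idx (ZMod 2)) :=
    { carrier := {g | ∃ σ : Equiv.Perm (Fin 63), ∀ i, Matrix.vecMul (CfsgLib.GTwoTwo.vec (σ i)) (g : Matrix _ _ _) = CfsgLib.GTwoTwo.vec i}
      one_mem' := ⟨1, fun i => by simp⟩
      mul_mem' := by
        rintro g k ⟨σ, hσ⟩ ⟨τ, hτ⟩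
        exact ⟨σ * τ, fun i => by
          rw [Units.val_mul, ← Matrix.vecMul_vecMul, Equiv.Perm.mul_apply, hσ, hτ]⟩
      inv_mem' := by
        rintro g ⟨σ, hσ⟩
        refine ⟨σ⁻¹, fun i => ?_⟩
        conv_lhs => rw [← hσ (σ⁻¹ i)]
        simp only [Matrix.vecMul_vecMul, ← Units.val_mul, mul_inv_cancel, Units.val_one,
          Matrix.vecMul_one]
        simp }
  have hgen : ∀ (g : GL chevG2.Idx (ZMod 2)) (r : Fin 12) (t : ZMod 2),
      (g : Matrix _ _ (ZMod 2)) = chevG2.xMat (ZMod 2) (r : Fin 12) t → g ∈ M := by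
    intro g r t hg
    rcases ((by decide : ∀ u : ZMod 2, u = 0 ∨ u = 1) t) with rfl | rfl
    · exact ⟨1, fun i => by rw [hg, xMat_zero]; simp⟩
    · exact ⟨rootPerm r, fun i => by rw [hg]; exact rootPerm_spec r i⟩
  have hle : chevG2.group (ZMod 2) ≤ M :=
    (Subgroup.closure_le _).2 (fun g ⟨r, t, hg⟩ => hgen g r t hg)
  choose σ hσ using fun g : chevG2.group (ZMod 2) => hle g.2
  have huniq : ∀ (g : chevG2.group (ZMod 2)) (π : Equiv.Perm (Fin 63)),
      (∀ i, Matrix.vecMul (CfsgLib.GTwoTwo.vec (π i)) ((g : GL chevG2.Idx (ZMod 2)) : Matrix _ _ _) = CfsgLib.GTwoTwo.vec i) →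
        σ g = π := by
    intro g π hπ
    refine Equiv.ext fun i => vec_injective ?_
    exact Matrix.vecMul_injective_of_isUnit (Units.isUnit _) ((hσ g i).trans (hπ i).symm)
  refine ⟨MonoidHom.mk' σ fun g k => huniq _ _ fun i => by
    simp only [Subgroup.coe_mul, Units.val_mul, ← Matrix.vecMul_vecMul, Equiv.Perm.mul_apply, hσ], ?_⟩
  intro r
  have hu : IsUnit (chevG2.xMat (ZMod 2) (r : Fin 12) 1) := by
    have := CfsgLib.Chev.isUnit_x (D := chevG2) (by simp [CfsgLib.Chev.tabulated]) r.val (1 : ZMod 2)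
    rw [ChevalleyDatum.x, dif_pos (show r.val < chevG2.nroots from r.isLt)] at this
    exact this
  let g : chevG2.group (ZMod 2) := ⟨hu.unit, Subgroup.subset_closure ⟨r, 1, hu.unit_spec⟩⟩
  exact ⟨g, huniq g _ fun i => by
    rw [show ((g : GL chevG2.Idx (ZMod 2)) : Matrix _ _ _) = chevG2.xMat (ZMod 2) (r : Fin 12) 1 from
      hu.unit_spec]
    exact rootPerm_spec r i⟩

/-- The subgroup generated by the witnesses. -/
abbrev T : Subgroup Good := Subgroup.closure {u1M, u2M, tM, wM}

/-- The action of the witnesses on sixty-three lines. -/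
theorem exists_beta : ∃ β : T →* Equiv.Perm (Fin 63),
    β ⟨tM, Subgroup.subset_closure (by simp)⟩ = imgtM ∧
      ∀ x : T, β x ∈ Subgroup.closure {imgu1M, imgu2M, imgtM, imgwM} := by
  let I : Subgroup (Equiv.Perm (Fin 63)) := Subgroup.closure {imgu1M, imgu2M, imgtM, imgwM}
  have hunit : ∀ n : ℕ, zeta ^ n * zeta ^ (7 * n) = 1 := fun n => by
    rw [← pow_add, show n + 7 * n = 8 * n by ring, pow_mul, zeta_pow_eight, one_pow]
  have key : ∀ (M : Good) (i j k : Fin 63) (a b : ℕ),
      M.1.mulVec (line i) = zeta ^ a • line j → M.1.mulVec (line i) = zeta ^ b • line k → j = k := by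
    intro M i j k a b hj hk
    have h : line j = zeta ^ (7 * a + b) • line k := by
      calc line j = (zeta ^ a * zeta ^ (7 * a)) • line j := by rw [hunit, one_smul]
        _ = zeta ^ (7 * a) • (zeta ^ b • line k) := by rw [← hk, hj, smul_smul, mul_comm]
        _ = _ := by rw [smul_smul, ← pow_add]
    refine line_unique ⟨(7 * a + b) % 8, Nat.mod_lt _ (by norm_num)⟩ j k ?_
    rw [h]
    congr 1
    exact pow_eq_pow_mod _ zeta_pow_eight
  have main : ∀ g ∈ T, ∃ σ : Equiv.Perm (Fin 63), σ ∈ I ∧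
      ∀ i, ∃ n : ℕ, g.1.mulVec (line i) = zeta ^ n • line (σ i) := by
    intro g hg
    induction hg using Subgroup.closure_induction with
    | mem g hg =>
      rcases hg with rfl | rfl | rfl | hg
      · exact ⟨imgu1M, Subgroup.subset_closure (by simp), fun i => ⟨_, imgu1M_spec i⟩⟩
      · exact ⟨imgu2M, Subgroup.subset_closure (by simp), fun i => ⟨_, imgu2M_spec i⟩⟩
      · exact ⟨imgtM, Subgroup.subset_closure (by simp), fun i => ⟨_, imgtM_spec i⟩⟩
      · rw [Set.mem_singleton_iff] at hg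
        subst hg
        exact ⟨imgwM, Subgroup.subset_closure (by simp), fun i => ⟨_, imgwM_spec i⟩⟩
    | one => exact ⟨1, one_mem _, fun i => ⟨0, by
        rw [show (1 : Good).1 = 1 from rfl, Matrix.one_mulVec, pow_zero, one_smul]; rfl⟩⟩
    | mul g k _ _ h1 h2 =>
      obtain ⟨σ, hσI, hσ⟩ := h1
      obtain ⟨τ, hτI, hτ⟩ := h2
      refine ⟨σ * τ, mul_mem hσI hτI, fun i => ?_⟩
      obtain ⟨b, hb⟩ := hτ i
      obtain ⟨a, ha⟩ := hσ (τ i)
      refine ⟨b + a, ?_⟩
      rw [show (g * k).1 = g.1 * k.1 from rfl, ← Matrix.mulVec_mulVec, hb, Matrix.mulVec_smul, ha,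
        smul_smul, ← pow_add, Equiv.Perm.mul_apply]
    | inv g _ h1 =>
      obtain ⟨σ, hσI, hσ⟩ := h1
      refine ⟨σ⁻¹, inv_mem hσI, fun i => ?_⟩
      obtain ⟨a, ha⟩ := hσ (σ⁻¹ i)
      refine ⟨7 * a, ?_⟩
      have h' : g.1.mulVec (zeta ^ (7 * a) • line (σ⁻¹ i)) = line i := by
        rw [Matrix.mulVec_smul, ha, smul_smul, mul_comm, hunit, one_smul, Equiv.Perm.coe_inv,
          Equiv.apply_symm_apply]
      conv_lhs => rw [← h']
      rw [Matrix.mulVec_mulVec, show g⁻¹.1 * g.1 = (g⁻¹ * g).1 from rfl, inv_mul_cancel,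
        show (1 : Good).1 = 1 from rfl, Matrix.one_mulVec]
  choose σ hσI hσ using fun g : T => main g.1 g.2
  have huniq : ∀ (g : T) (π : Equiv.Perm (Fin 63)),
      (∀ i, ∃ n : ℕ, g.1.1.mulVec (line i) = zeta ^ n • line (π i)) → σ g = π := by
    intro g π hπ
    refine Equiv.ext fun i => ?_
    obtain ⟨a, ha⟩ := hσ g i
    obtain ⟨b, hb⟩ := hπ i
    exact key g.1 i _ _ a b ha hb
  refine ⟨MonoidHom.mk' σ fun g k => huniq _ _ fun i => ?_, ?_, hσI⟩
  · obtain ⟨b, hb⟩ := hσ k i
    obtain ⟨a, ha⟩ := hσ g (σ k i)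
    refine ⟨b + a, ?_⟩
    rw [show (g * k).1.1 = g.1.1 * k.1.1 from rfl, ← Matrix.mulVec_mulVec, hb, Matrix.mulVec_smul, ha,
      smul_smul, ← pow_add, Equiv.Perm.mul_apply]
  · exact huniq _ _ fun i => ⟨_, imgtM_spec i⟩

theorem imgtM_ne_one : imgtM ≠ 1 := by decide +kernel

theorem sign_perm2 : Equiv.Perm.sign perm2 = -1 := by
  simp [perm2, Equiv.Perm.sign_swap']

theorem zM_eq : u2M * u1M * u2M⁻¹ * u1M⁻¹ = zM := by decide +kernel

theorem seven : (u1M * wM) ^ 7 = 1 ∧ u1M * wM ≠ 1 := by decide +kernel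

/-- G₂(2)′ ≅ PSU₃(3). -/
theorem result {F K : Type*} [Field F] [Fintype F] [Field K] [Fintype K] (hF : Fintype.card F = 2) (hK : Fintype.card K = 9) :
    Nonempty (↥(commutator ↥(Cfsg.Lie.chevG2.group F)) ≃* Cfsg.PSU 3 K 3) := by
  classical
  obtain ⟨φ, hφ⟩ := exists_hom hK
  have hK3 : CharP K 3 := by
    have : Fact (Nat.Prime 3) := ⟨Nat.prime_three⟩
    exact charP_of_card_eq_prime_pow (f := 2) (by norm_num [hK])
  have hK' : Fintype.card K = 3 ^ 2 := by rw [hK]; norm_num
  have hPsimple : IsSimpleGroup (Cfsg.PSU 3 K 3) :=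
    Cfsg.Agent.S0283.result hK' 3 le_rfl (by norm_num)
  let e := psuEquivSU φ
  have hsimp : IsSimpleGroup (Cfsg.SU 3 K 3) := e.symm.isSimpleGroup
  have hfinSU : Finite (Cfsg.SU 3 K 3) := Nat.finite_of_card_ne_zero (by rw [card_SU33 hK]; norm_num)
  -- the witnesses generate `SU(3,3)`
  let j : T →* Cfsg.SU 3 K 3 := (toSU φ).comp T.subtype
  have hjinj : Function.Injective j := (toSU_injective φ hφ.1).comp T.subtype_injective
  have hTfin : Finite T := Finite.of_injective j hjinj
  have hu1 : u1M ∈ T := Subgroup.subset_closure (by simp)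
  have hu2 : u2M ∈ T := Subgroup.subset_closure (by simp)
  have htT : tM ∈ T := Subgroup.subset_closure (by simp)
  have hwT : wM ∈ T := Subgroup.subset_closure (by simp)
  have hz : zM ∈ T := zM_eq ▸ mul_mem (mul_mem (mul_mem hu2 hu1) (inv_mem hu2)) (inv_mem hu1)
  have h27 : 27 ∣ Nat.card T := by
    have hmem : ∀ h : H3, iota h ∈ T := fun h =>
      mul_mem (mul_mem (pow_mem hu1 _) (pow_mem hu2 _)) (pow_mem hz _)
    have := Subgroup.card_dvd_of_injective (iota.codRestrict T hmem)
      (fun a b h => (injective_iff_map_eq_one iota).2 iota_inj (congrArg Subtype.val h))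
    rwa [H3.card_eq] at this
  have h8 : 8 ∣ Nat.card T := by
    haveI : Fact (Nat.Prime 2) := ⟨Nat.prime_two⟩
    have : orderOf (⟨tM, htT⟩ : T) = 8 := by
      rw [Subgroup.orderOf_mk]; exact orderOf_eq_prime_pow (p := 2) (n := 2) t_order.2 t_order.1
    exact this ▸ orderOf_dvd_natCard _
  have h7 : 7 ∣ Nat.card T := by
    haveI : Fact (Nat.Prime 7) := ⟨by norm_num⟩
    have : orderOf (⟨u1M * wM, mul_mem hu1 hwT⟩ : T) = 7 := by
      rw [Subgroup.orderOf_mk]; exact orderOf_eq_prime seven.1 seven.2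
    exact this ▸ orderOf_dvd_natCard _
  have h1512 : 1512 ∣ Nat.card T := by
    have h := Nat.Coprime.mul_dvd_of_dvd_of_dvd (by norm_num : Nat.Coprime (27 * 8) 7)
      (Nat.Coprime.mul_dvd_of_dvd_of_dvd (by norm_num : Nat.Coprime 27 8) h27 h8) h7
    norm_num at h
    exact h
  have hjsurj : Function.Surjective j := by
    rw [← MonoidHom.range_eq_top]
    by_contra hne
    have hcard : Nat.card j.range = Nat.card T := Nat.card_congr (MonoidHom.ofInjective hjinj).toEquiv.symm
    have hidx := j.range.card_mul_index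
    rw [hcard, card_SU33 hK] at hidx
    obtain ⟨c, hc⟩ := h1512
    have hci : c * j.range.index = 4 := by
      rw [hc, mul_assoc] at hidx
      omega
    have hle : j.range.index ≤ 4 := Nat.le_of_dvd (by norm_num) ⟨c, by rw [mul_comm, hci]⟩
    rcases hsimp.eq_bot_or_eq_top_of_normal j.range.normalCore inferInstance with h | h
    · haveI := j.range.finiteIndex_of_finite_quotient
      have hd : Nat.card (Cfsg.SU 3 K 3) ∣ j.range.index.factorial := by
        rw [← Subgroup.index_bot, ← h, Subgroup.normalCore_eq_ker,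
          Subgroup.index_ker, Subgroup.index, ← Nat.card_perm]
        exact Subgroup.card_subgroup_dvd_card _
      have h2 := Nat.le_of_dvd (Nat.factorial_pos _) hd
      have h3 := Nat.factorial_le hle
      rw [card_SU33 hK] at h2
      simp [Nat.factorial] at h3
      omega
    · exact hne (top_le_iff.1 (h ▸ j.range.normalCore_le))
  let ej : T ≃* Cfsg.SU 3 K 3 := MulEquiv.ofBijective j ⟨hjinj, hjsurj⟩
  have hTsimple : IsSimpleGroup T := ej.isSimpleGroup
  have hcT : Nat.card T = 6048 := by rw [Nat.card_congr ej.toEquiv, card_SU33 hK]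
  obtain ⟨β, hβt, hβI⟩ := exists_beta
  have hβinj : Function.Injective β := by
    rw [← MonoidHom.ker_eq_bot_iff]
    rcases hTsimple.eq_bot_or_eq_top_of_normal β.ker inferInstance with h | h
    · exact h
    · exact absurd (hβt.symm.trans (MonoidHom.mem_ker.1 (h ▸ Subgroup.mem_top _))) imgtM_ne_one
  obtain ⟨α, hα⟩ := exists_alpha
  have hαβ : β.range ≤ α.range := by
    have hp : ∀ r, rootPerm r ∈ α.range := hα
    rintro _ ⟨x, rfl⟩
    refine (Subgroup.closure_le _).2 ?_ (hβI x)
    intro y hy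
    rcases hy with rfl | rfl | rfl | rfl
    · exact mul_mem (mul_mem (mul_mem (mul_mem (mul_mem (hp 0) (hp 1)) (hp 9)) (hp 4)) (hp 10)) (hp 0)
    · exact mul_mem (mul_mem (mul_mem (hp 1) (hp 10)) (hp 2)) (hp 3)
    · exact mul_mem (mul_mem (mul_mem (mul_mem (hp 0) (hp 7)) (hp 11)) (hp 1)) (hp 9)
    · exact mul_mem (mul_mem (mul_mem (mul_mem (hp 2) (hp 7)) (hp 8)) (hp 0)) (hp 3)
  have hcR : Nat.card β.range = 6048 := by
    rw [← hcT]; exact Nat.card_congr (MonoidHom.ofInjective hβinj).toEquiv.symm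
  have hperfect : commutator T = ⊤ := by
    refine (hTsimple.eq_bot_or_eq_top_of_normal (commutator T) inferInstance).resolve_left fun h => ?_
    haveI : Fact (Nat.Prime 2) := ⟨Nat.prime_two⟩
    have hc : ∀ a b : Good, a ∈ T → b ∈ T → a * b = b * a := fun a b ha hb => by
      have h' : ⁅(⟨a, ha⟩ : T), (⟨b, hb⟩ : T)⁆ = 1 := by
        rw [← Subgroup.mem_bot, ← h]
        exact Subgroup.commutator_mem_commutator (Subgroup.mem_top _) (Subgroup.mem_top _)
      exact congrArg Subtype.val (commutatorElement_eq_one_iff_mul_comm.1 h')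
    have : zM = 1 := by
      rw [← zM_eq, hc _ _ hu2 hu1]; group
    exact absurd this (by decide +kernel)
  have hRalt : β.range ≤ alternatingGroup (Fin 63) := by
    rintro _ ⟨x, rfl⟩
    rw [Equiv.Perm.mem_alternatingGroup]
    have hx : x ∈ commutator T := hperfect ▸ Subgroup.mem_top x
    exact Abelianization.commutator_subset_ker (Equiv.Perm.sign.comp β) hx
  have hGc : Nat.card (chevG2.group (ZMod 2)) = 12096 := by
    rw [Cfsg.Agent.S1059.result (F := ZMod 2) (ZMod.card 2)]
    norm_num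
  haveI : Finite (chevG2.group (ZMod 2)) := Nat.finite_of_card_ne_zero (by rw [hGc]; norm_num)
  let L : Subgroup (Equiv.Perm (Fin 63)) := α.range ⊓ alternatingGroup (Fin 63)
  have hRL : β.range ≤ L := le_inf hαβ hRalt
  have hLA : L < α.range := by
    refine lt_of_le_of_ne inf_le_left fun h => ?_
    have h2 : perm2 ∈ α.range := hα 2
    rw [← h] at h2
    have := Equiv.Perm.mem_alternatingGroup.1 h2.2
    rw [sign_perm2] at this
    exact absurd this (by decide)
  obtain ⟨a, ha⟩ := Subgroup.card_dvd_of_le hRL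
  obtain ⟨b, hb⟩ := Subgroup.card_dvd_of_le hLA.le
  obtain ⟨c, hc⟩ : Nat.card α.range ∣ 12096 := hGc ▸ Subgroup.card_range_dvd α
  have hb1 : b ≠ 1 := fun h => hLA.ne (Subgroup.eq_of_le_of_card_ge hLA.le (by rw [hb, h, mul_one]))
  have habc : a * b * c = 2 := by
    rw [hb, ha, hcR] at hc
    have : 6048 * (a * b * c) = 6048 * 2 := by rw [← mul_assoc, ← mul_assoc]; omega
    omega
  have hb0 : b ≠ 0 := by rintro rfl; simp at habc
  have hb2 : b = 2 := by
    have : b ∣ 2 := ⟨a * c, by rw [← habc]; ring⟩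
    have := Nat.le_of_dvd (by norm_num) this
    omega
  have hac : a * c = 1 := by subst hb2; nlinarith
  obtain ⟨rfl, rfl⟩ : a = 1 ∧ c = 1 := ⟨Nat.eq_one_of_mul_eq_one_right hac, Nat.eq_one_of_mul_eq_one_left hac⟩
  have hRLeq : β.range = L := Subgroup.eq_of_le_of_card_ge hRL (by rw [ha, mul_one])
  have hαinj : Function.Injective α := by
    rw [← MonoidHom.ker_eq_bot_iff]
    refine Subgroup.eq_bot_of_card_eq _ ?_
    have := α.ker.card_mul_index
    rw [Subgroup.index_ker, hGc] at this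
    rw [mul_one] at hc
    rw [← hc] at this
    omega
  have hmap : (commutator (chevG2.group (ZMod 2))).map α = β.range := by
    rw [commutator_def, Subgroup.map_commutator, ← MonoidHom.range_eq_map]
    refine le_antisymm ?_ ?_
    · rw [hRLeq]
      refine le_inf ?_ ?_
      · rw [Subgroup.commutator_le]
        intro g hg k hk
        exact mul_mem (mul_mem (mul_mem hg hk) (inv_mem hg)) (inv_mem hk)
      · rw [Subgroup.commutator_le]
        intro g _ k _
        rw [Equiv.Perm.mem_alternatingGroup, map_commutatorElement]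
        exact commutatorElement_eq_one_iff_mul_comm.2 (mul_comm _ _)
    · conv_lhs => rw [MonoidHom.range_eq_map, ← hperfect, commutator_def, Subgroup.map_commutator,
        ← MonoidHom.range_eq_map]
      exact Subgroup.commutator_mono hαβ hαβ
  let e2 : ↥(commutator (chevG2.group (ZMod 2))) ≃* Cfsg.PSU 3 K 3 :=
    (((Subgroup.equivMapOfInjective _ α hαinj).trans (MulEquiv.subgroupCongr hmap)).trans
      (MonoidHom.ofInjective hβinj).symm).trans (ej.trans e.symm)
  -- change of field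
  haveI : CharP F 2 := by
    have : Fact (Nat.Prime 2) := ⟨Nat.prime_two⟩
    exact charP_of_card_eq_prime hF
  let f : ZMod 2 →+* F := ZMod.castHom dvd_rfl F
  let ψ : chevG2.group (ZMod 2) →* chevG2.group F :=
    (Subgroup.inclusion (CfsgLib.ChevField.group_map_le f)).comp
      ((CfsgLib.ChevField.mapGL f).subgroupMap (chevG2.group (ZMod 2)))
  have hFc : Nat.card (chevG2.group F) = 12096 := by
    rw [Cfsg.Agent.S1059.result (F := F) hF]
    norm_num
  haveI : Finite (chevG2.group F) := Nat.finite_of_card_ne_zero (by rw [hFc]; norm_num)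
  have hψ : Function.Bijective ψ := by
    refine (Nat.bijective_iff_injective_and_card _).2 ⟨fun a b e => ?_, by rw [hGc, hFc]⟩
    exact Subtype.ext (CfsgLib.ChevField.mapGL_injective f (congrArg Subtype.val e))
  have hψc : (commutator (chevG2.group (ZMod 2))).map ψ = commutator (chevG2.group F) := by
    rw [commutator_def, Subgroup.map_commutator, Subgroup.map_top_of_surjective ψ hψ.2, commutator_def]
  exact ⟨((MulEquiv.subgroupCongr hψc.symm).trans
    (Subgroup.equivMapOfInjective _ ψ hψ.1).symm).trans e2⟩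

end Cfsg.Agent.S1057
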