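import Cfsg.Statements.S4782
import Cfsg.Agent.Lib.Characters.Burnside
import Cfsg.Agent.Lib.Characters.ItoMichlerPSolvable
import Cfsg.Agent.Lib.Chars17.IrrBasic

set_option autoImplicit false
open Cfsg

namespace Cfsg.Agent.S4782

open Cfsg Representation CfsgLib.Characters CfsgLib.Burnside

/-- In a non-abelian simple group two primes do not exhaust the prime divisors of the degrees. -/
theorem false_of_simple {S : Type*} [Group S] [Finite S] [IsSimpleGroup S]
    (hna : ¬ ∀ a b : S, a * b = b * a) {p q : ℕ} (hp : p.Prime) (hq : q.Prime)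
    (hdeg : ∀ χ : IrrCharacter S, ∀ r : ℕ, r.Prime → r ∣ charDegree (χ : S → ℂ) → r = p ∨ r = q) :
    False := by
  classical
  have : Fintype S := Fintype.ofFinite S
  have := Fact.mk hp
  have hcent : ∀ x : S, x ∈ Subgroup.center S → x = 1 := fun x hx =>
    by_contra fun hx1 => hna (isMulCommutative_of_mem_center hx1 hx)
  obtain ⟨g, hg, hgp⟩ : ∃ g : S, g ≠ 1 ∧ ¬ p ∣ (Subgroup.centralizer ({g} : Set S)).index := by
    by_cases hdvd : p ∣ Nat.card S
    · let P : Sylow p S := default
      have : Nontrivial P := by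
        rw [← Finite.one_lt_card_iff_nontrivial, P.card_eq_multiplicity]
        exact Nat.one_lt_pow (hp.factorization_pos_of_dvd Nat.card_pos.ne' hdvd).ne' hp.one_lt
      have := P.isPGroup'.center_nontrivial
      obtain ⟨z, hz⟩ := exists_ne (1 : Subgroup.center P)
      refine ⟨((z : P) : S), fun h => hz (Subtype.ext (Subtype.ext h)), fun hd => ?_⟩
      have hle : (P : Subgroup S) ≤ Subgroup.centralizer {((z : P) : S)} := fun x hx =>
        Subgroup.mem_centralizer_singleton_iff.mpr
          (congrArg Subtype.val (Subgroup.mem_center_iff.mp z.2 ⟨x, hx⟩))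
      exact P.not_dvd_index (hd.trans (Subgroup.index_dvd_of_le hle))
    · have : Nontrivial S := IsSimpleGroup.toNontrivial
      obtain ⟨g, hg⟩ := exists_ne (1 : S)
      exact ⟨g, hg, fun h => hdvd (h.trans (Subgroup.index_dvd_card _))⟩
  have hvan : ∀ χ : IrrCharacter S, χ ≠ principalIrr S → ∀ d : ℕ, (χ : S → ℂ) 1 = d →
      (∀ r : ℕ, r.Prime → r ∣ d → r = p ∨ r = q) → ¬ q ∣ d → (χ : S → ℂ) g = 0 := by
    intro χ hne d hd honly hqd
    obtain ⟨_, n, ρ, hρ, rfl⟩ := χ
    have := hρ
    have hd' : d = Module.finrank ℂ (Fin n → ℂ) := by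
      change ρ.character 1 = _ at hd
      rw [Representation.char_one] at hd; exact_mod_cast hd.symm
    have hcop : Nat.Coprime (Module.finrank ℂ (Fin n → ℂ)) (Nat.card {x : S // IsConj g x}) := by
      rw [card_isConj_eq_index, ← hd']
      refine Nat.coprime_of_dvd fun r hr hrd hri => ?_
      rcases honly r hr hrd with rfl | rfl
      · exact hgp hri
      · exact hqd hrd
    rcases eq_zero_or_norm_eq_of_coprime ρ g hcop with h | h
    · exact h
    exfalso
    obtain ⟨c, hc⟩ := (norm_char_eq_iff_scalar ρ g).mp h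
    rcases (MonoidHom.normal_ker (ρ : S →* _)).eq_bot_or_eq_top with hk' | hk'
    · refine hg (hcent g (Subgroup.mem_center_iff.mpr fun x => ?_))
      refine (MonoidHom.ker_eq_bot_iff _).mp hk' ?_
      rw [map_mul, map_mul, hc]
      ext v
      simp
    · refine hne (eq_one_of_irr_const (c := (n : ℂ)) fun x => ?_)
      change ρ.character x = n
      have : ρ x = 1 := MonoidHom.mem_ker.mp (hk' ▸ Subgroup.mem_top x)
      simp [Representation.character, this]
  have hcol : ∑ χ : IrrCharacter S, (χ : S → ℂ) 1 * (χ : S → ℂ) g = 0 := by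
    rw [sum_degree_mul_irr, if_neg hg]
  rw [← Finset.add_sum_erase _ _ (Finset.mem_univ (principalIrr S))] at hcol
  simp only [principalIrr_apply, mul_one] at hcol
  have hint : ∀ χ ∈ Finset.univ.erase (principalIrr S),
      IsIntegral ℤ ((χ : S → ℂ) 1 * (χ : S → ℂ) g / (q : ℂ)) := by
    intro χ hχ
    have hd : (χ : S → ℂ) 1 = (charDegree (χ : S → ℂ) : ℂ) :=
      (CfsgLib.Chars17.cast_irrDegree χ).symm
    by_cases hqd : q ∣ charDegree (χ : S → ℂ)
    · obtain ⟨e, he'⟩ := hqd
      rw [hd, he', Nat.cast_mul, mul_assoc, mul_div_cancel_left₀ _ (Nat.cast_ne_zero.mpr hq.ne_zero)]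
      have he : IsIntegral ℤ (e : ℂ) := by
        simpa using (isIntegral_algebraMap (R := ℤ) (A := ℂ) (x := (e : ℤ)))
      exact he.mul (isIntegral_of_isCharacter (irr_isCharacter χ) g)
    · rw [hvan χ (Finset.ne_of_mem_erase hχ) _ hd (fun r hr h => hdeg χ r hr h) hqd, mul_zero,
        zero_div]
      exact isIntegral_zero
  have h1 : IsIntegral ℤ ((1 : ℕ) / (q : ℕ) : ℂ) := by
    have := (IsIntegral.sum _ hint).neg
    rw [← Finset.sum_div, eq_neg_of_add_eq_zero_right hcol] at this
    simpa [neg_div] using this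
  exact hq.one_lt.ne' (Nat.dvd_one.mp (nat_dvd_of_isIntegral_div hq.ne_zero h1))

universe u

theorem isSolvable_of_two_primes {p q : ℕ} (hp : p.Prime) (hq : q.Prime) :
    ∀ (n : ℕ) {G : Type u} [Group G] [Finite G], Nat.card G = n →
      (∀ χ : IrrCharacter G, ∀ r : ℕ, r.Prime → r ∣ charDegree (χ : G → ℂ) → r = p ∨ r = q) →
      Group.IsSolvable G := by
  intro n
  induction n using Nat.strong_induction_on with
  | _ n ih =>
    intro G _ _ hn hdeg
    classical
    rcases subsingleton_or_nontrivial G with hG | hG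
    · infer_instance
    by_cases hN : ∃ N : Subgroup G, N.Normal ∧ N ≠ ⊥ ∧ N ≠ ⊤
    · obtain ⟨N, hNn, hN1, hN2⟩ := hN
      have hmul := N.card_mul_index
      have h1N : 1 < Nat.card N := N.one_lt_card_iff_ne_bot.mpr hN1
      have h1i : 1 < N.index := by
        rcases Nat.lt_or_ge 1 N.index with h | h
        · exact h
        · exfalso
          have hpos : 0 < N.index := Nat.pos_of_ne_zero Subgroup.index_ne_zero_of_finite
          exact hN2 (Subgroup.index_eq_one.mp (by omega))
      have hlt1 : Nat.card N < n := by rw [← hn]; nlinarith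
      have hlt2 : Nat.card (G ⧸ N) < n := by rw [← Subgroup.index_eq_card, ← hn]; nlinarith
      have := ih _ hlt1 (G := N) rfl (fun θ r hr hrd => by
        obtain ⟨χ, hχ⟩ := CfsgLib.ItoMichler.exists_degree_dvd N θ
        exact hdeg χ r hr (hrd.trans hχ))
      have := ih _ hlt2 (G := G ⧸ N) rfl (fun φ r hr hrd => by
        refine hdeg ⟨_, CfsgLib.Clifford.isIrrCharacter_pullback φ.2 (QuotientGroup.mk' N)
          (QuotientGroup.mk'_surjective N)⟩ r hr ?_
        simpa [charDegree] using hrd)
      exact Group.isSolvable_of_ker_le_range N.subtype (QuotientGroup.mk' N) (by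
        rw [QuotientGroup.ker_mk', Subgroup.range_subtype])
    push Not at hN
    have : IsSimpleGroup G := ⟨fun H hH => (em (H = ⊥)).imp id (fun h => hN H hH h)⟩
    by_cases hcomm : ∀ a b : G, a * b = b * a
    · exact Group.isSolvable_of_comm hcomm
    · exact (false_of_simple hcomm hp hq hdeg).elim

/-- If the finite group G is not solvable, then at least three distinct primes each divide some irreducible complex character degree of G. -/
theorem result {G : Type*} [Group G] [Finite G] (hG : ¬ Group.IsSolvable G) : ∃ p q r : ℕ, p ≠ q ∧ q ≠ r ∧ p ≠ r ∧ p ∈ Cfsg.degreePrimes G ∧ q ∈ Cfsg.degreePrimes G ∧ r ∈ Cfsg.degreePrimes G := by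
  classical
  have hex : ∀ a b : ℕ, a.Prime → b.Prime →
      ∃ r, r ∈ Cfsg.degreePrimes G ∧ r ≠ a ∧ r ≠ b := by
    intro a b ha hb
    by_contra hno
    push Not at hno
    refine hG (isSolvable_of_two_primes ha hb _ rfl fun χ r hr hrd => ?_)
    by_contra h
    push Not at h
    exact h.2 (hno r ⟨hr, _, ⟨χ, rfl⟩, hrd⟩ h.1)
  obtain ⟨p, hp, -, -⟩ := hex 2 2 Nat.prime_two Nat.prime_two
  obtain ⟨q, hq, hqp, -⟩ := hex p p hp.1 hp.1
  obtain ⟨r, hr, hrp, hrq⟩ := hex p q hp.1 hq.1
  exact ⟨p, q, r, hqp.symm, hrq.symm, hrp.symm, hp, hq, hr⟩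

end Cfsg.Agent.S4782
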