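import Cfsg.Statements.S1327
import Cfsg.Agent.Lib.Components.PLayerConj

set_option autoImplicit false
open Cfsg
open scoped commutatorElement Pointwise

namespace Cfsg.Agent.S1327

/-- A finite group X is p-constrained if and only if its p-layer L_{p'}(X) is trivial (equivalently X / O_{p'}(X) has trivial layer). -/
theorem result {X : Type*} [Group X] [Finite X] (p : ℕ) [Fact p.Prime] : Cfsg.IsPConstrained p X ↔ Cfsg.pLayer p X = ⊥ := by
  set O := Cfsg.pPrimeCore p X with hO
  set q := QuotientGroup.mk' O with hq
  set R := Cfsg.pPrimePCore p X with hR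
  haveI hRn : R.Normal := (Cfsg.pCore_normal p _).comap _
  set Op := Cfsg.pCore p (X ⧸ O) with hOp
  have hmapR : R.map q = Op := CfsgLib.Components39.map_pPrimePCore
  -- a Sylow subgroup of `O_{p',p}` maps onto `O_p` of the quotient
  have himg : ∀ P : Sylow p ↥R, ((P : Subgroup ↥R).map R.subtype).map q = Op := by
    intro P
    set P' := P.mapSurjective (q.subgroupMap_surjective R) with hP'
    have hpg : IsPGroup p ↥(R.map q) := hmapR ▸ CfsgLib.PCore.pCore_isPGroup
    have htop : (P' : Subgroup ↥(R.map q)) = ⊤ := (P'.is_maximal' (hpg.to_subgroup ⊤) le_top).symm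
    have h1 := congrArg (Subgroup.map (R.map q).subtype) htop
    rw [hP', Sylow.coe_mapSurjective, Subgroup.map_map, ← MonoidHom.range_eq_map,
      Subgroup.range_subtype] at h1
    rw [Subgroup.map_map, ← hmapR]
    exact h1
  rw [CfsgLib.Components.pLayer_eq_bot_iff]
  constructor
  · intro hcon Kb hKb
    obtain ⟨P⟩ := (inferInstance : Nonempty (Sylow p ↥R))
    set P' := (P : Subgroup ↥R).map R.subtype with hP'
    apply CfsgLib.Components.component_not_isSolvable hKb
    have hKc : Kb ≤ Subgroup.centralizer (Op : Set (X ⧸ O)) :=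
      CfsgLib.Components.le_centralizer_of_commutator_eq_bot
        (CfsgLib.Components39.commutator_component_pCore hKb)
    have hle : Kb ≤ Op := by
      intro kb hkb
      obtain ⟨k, rfl⟩ := QuotientGroup.mk'_surjective O kb
      have hk : k ∈ Subgroup.normalizer (P' : Set X) ⊔ R := by
        rw [hP', Sylow.normalizer_sup_eq_top]; trivial
      obtain ⟨n, hn, m, hm, rfl⟩ := Subgroup.mem_sup_of_normal_right.mp hk
      obtain ⟨s, hs, hsm⟩ : q m ∈ P'.map q := by
        rw [himg P, ← hmapR]; exact Subgroup.mem_map_of_mem q hm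
      have hns : n * s ∈ Subgroup.normalizer (P' : Set X) := mul_mem hn (Subgroup.le_normalizer hs)
      have hnC : n * s ∈ Subgroup.centralizer (P' : Set X) := by
        rw [Subgroup.mem_centralizer_iff]
        intro x hx
        have h1 : n * s * x * (n * s)⁻¹ * x⁻¹ ∈ P' ⊓ O := by
          refine Subgroup.mem_inf.mpr
            ⟨P'.mul_mem ((Subgroup.mem_normalizer_iff.mp hns x).mp hx) (P'.inv_mem hx), ?_⟩
          rw [← QuotientGroup.eq_one_iff]
          show q (n * s * x * (n * s)⁻¹ * x⁻¹) = 1
          have h2 : Commute (q (n * s)) (q x) := by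
            have h3 : q (n * s) ∈ Subgroup.centralizer (Op : Set (X ⧸ O)) := by
              refine hKc ?_
              rw [map_mul, hsm, ← map_mul]
              exact hkb
            exact (Subgroup.mem_centralizer_iff.mp h3 (q x)
              (himg P ▸ Subgroup.mem_map_of_mem q hx)).symm
          simp only [map_mul, map_inv]
          rw [show q n * q s = q (n * s) from (map_mul q n s).symm, h2.eq]
          group
        rw [CfsgLib.PCore.inf_eq_bot_of_isPGroup_coprime (P.isPGroup'.map R.subtype)
          CfsgLib.PCore.pPrimeCore_coprime, Subgroup.mem_bot] at h1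
        calc x * (n * s) = (n * s * x * (n * s)⁻¹ * x⁻¹) * (x * (n * s)) := by rw [h1, one_mul]
          _ = n * s * x := by group
      have h4 := hcon P hnC
      rw [map_mul, ← hsm, ← map_mul]
      exact hmapR ▸ Subgroup.mem_map_of_mem q h4
    haveI := (CfsgLib.PCore.pCore_isPGroup (p := p) (G := X ⧸ O)).isNilpotent
    haveI : Group.IsSolvable ↥Op := inferInstance
    exact Group.isSolvable_of_isSolvable_injective (Subgroup.inclusion_injective hle)
  · intro hnc P g hg
    have hlay : Cfsg.layer (X ⧸ O) = ⊥ := le_bot_iff.mp (sSup_le fun K hK => absurd hK (hnc K))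
    have hself := CfsgLib.Components.centralizer_generalizedFitting_le_fitting (G := X ⧸ O)
    rw [Cfsg.generalizedFittingSubgroup, hlay, bot_sup_eq] at hself
    have hF : Cfsg.fittingSubgroup (X ⧸ O) = Op := by
      refine le_antisymm ?_ (CfsgLib.Fitting.pCore_le_fitting Fact.out)
      rw [CfsgLib.Fitting.fitting_eq_iSup_pCore]
      refine iSup_le fun r => ?_
      have hr := Nat.prime_of_mem_primeFactors r.2
      by_cases hrp : (r : ℕ) = p
      · exact le_of_eq (by rw [hrp])
      · haveI := Fact.mk hr
        refine le_trans ?_ ((CfsgLib.PCore.pPrimeCore_quotient_pPrimeCore (p := p) (G := X)).le.trans bot_le)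
        refine CfsgLib.PCore.le_pPrimeCore (Cfsg.pCore_normal r _) ?_
        obtain ⟨n, hn⟩ := IsPGroup.iff_card.mp
          (CfsgLib.PCore.pCore_isPGroup (p := (r : ℕ)) (G := X ⧸ O))
        rw [hn]
        exact Nat.Coprime.pow_left n ((Nat.coprime_primes hr Fact.out).mpr hrp)
    rw [hF] at hself
    show q g ∈ Op
    refine hself ?_
    rw [Subgroup.mem_centralizer_iff]
    intro y hy
    rw [← himg P] at hy
    obtain ⟨x, hx, rfl⟩ := hy
    rw [← map_mul, ← map_mul, Subgroup.mem_centralizer_iff.mp hg x hx]

end Cfsg.Agent.S1327
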