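import Cfsg.Statements.S3335
import Cfsg.Agent.Lib.Recognition.Carmichael

set_option autoImplicit false
open Cfsg

namespace Cfsg.Agent.S3335

/-- The point `k` of `Fin (m + 2)`. -/
def q (m k : ℕ) : Fin (m + 2) := Fin.ofNat (m + 2) k

theorem q_val {m k : ℕ} (h : k < m + 2) : (q m k).val = k := by
  simp [q, Nat.mod_eq_of_lt h]

theorem q_ne {m k l : ℕ} (hk : k < m + 2) (hl : l < m + 2) (h : k ≠ l) : q m k ≠ q m l :=
  fun e => h (by rw [← q_val hk, ← q_val hl, e])

/-- The images of the generators. -/
def gen (m i : ℕ) : Equiv.Perm (Fin (m + 2)) :=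
  if i = 0 then Equiv.swap (q m 0) (q m 1) * Equiv.swap (q m 1) (q m 2)
  else Equiv.swap (q m 0) (q m 1) * Equiv.swap (q m (i + 1)) (q m (i + 2))

theorem sign_gen {m i : ℕ} (hi : i < m) : Equiv.Perm.sign (gen m i) = 1 := by
  unfold gen
  split
  · rw [map_mul, Equiv.Perm.sign_swap (q_ne (by omega) (by omega) (by omega)),
      Equiv.Perm.sign_swap (q_ne (by omega) (by omega) (by omega))]
    decide
  · rw [map_mul, Equiv.Perm.sign_swap (q_ne (by omega) (by omega) (by omega)),
      Equiv.Perm.sign_swap (q_ne (by omega) (by omega) (by omega))]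
    decide

theorem cube_swaps {α : Type*} [Fintype α] [DecidableEq α] {a b c : α} (ab : a ≠ b) (ac : a ≠ c)
    (bc : b ≠ c) : (Equiv.swap a b * Equiv.swap b c) ^ 3 = 1 := by
  have h := (Equiv.Perm.isThreeCycle_swap_mul_swap_same ab.symm bc ac).orderOf
  rw [Equiv.swap_comm b a] at h
  conv_lhs => rw [← h]
  exact pow_orderOf_eq_one _

theorem disjoint_comm {α : Type*} [DecidableEq α] {a b c d : α} (ac : a ≠ c) (ad : a ≠ d)
    (bc : b ≠ c) (bd : b ≠ d) :
    Equiv.swap a b * Equiv.swap c d = Equiv.swap c d * Equiv.swap a b :=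
  Equiv.ext fun z => by
    simp only [Equiv.Perm.mul_apply, Equiv.swap_apply_def]
    grind

theorem sq_two {α : Type*} [DecidableEq α] {a b c d : α} (ac : a ≠ c) (ad : a ≠ d)
    (bc : b ≠ c) (bd : b ≠ d) : (Equiv.swap a b * Equiv.swap c d) ^ 2 = 1 := by
  rw [(show Commute _ _ from disjoint_comm ac ad bc bd).mul_pow]
  simp [pow_two]

theorem rels_gen (m : ℕ) : CfsgLib.Carmichael.Rels (gen m) m := by
  refine ⟨fun h => ?_, fun i h1 hi => ?_, fun i hi => ?_, fun i j hij hj => ?_⟩
  · rw [gen, if_pos rfl]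
    exact cube_swaps (q_ne (by omega) (by omega) (by omega)) (q_ne (by omega) (by omega) (by omega))
      (q_ne (by omega) (by omega) (by omega))
  · rw [gen, if_neg (by omega)]
    exact sq_two (q_ne (by omega) (by omega) (by omega)) (q_ne (by omega) (by omega) (by omega))
      (q_ne (by omega) (by omega) (by omega)) (q_ne (by omega) (by omega) (by omega))
  · rcases Nat.eq_zero_or_pos i with rfl | h0
    · rw [gen, gen, if_pos rfl, if_neg (by omega),
        show ∀ (a b c : Equiv.Perm (Fin (m + 2))), a * b * (a * c) = a * b * a * c from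
          fun a b c => by group,
        show Equiv.swap (q m 0) (q m 1) * Equiv.swap (q m 1) (q m 2) * Equiv.swap (q m 0) (q m 1)
          = Equiv.swap (q m 0) (q m 2) by
            rw [Equiv.swap_comm (q m 0) (q m 1), Equiv.swap_comm (q m 1) (q m 2),
              Equiv.swap_mul_swap_mul_swap
              (q_ne (by omega) (by omega) (by omega)) (q_ne (by omega) (by omega) (by omega))]]
      exact cube_swaps (q_ne (by omega) (by omega) (by omega))
        (q_ne (by omega) (by omega) (by omega)) (q_ne (by omega) (by omega) (by omega))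
    · rw [gen, gen, if_neg (by omega), if_neg (by omega),
        disjoint_comm (a := q m 0) (b := q m 1) (c := q m (i + 1)) (d := q m (i + 2))
          (q_ne (by omega) (by omega) (by omega)) (q_ne (by omega) (by omega) (by omega))
          (q_ne (by omega) (by omega) (by omega)) (q_ne (by omega) (by omega) (by omega)),
        show ∀ (a b c : Equiv.Perm (Fin (m + 2))), b * a * (a * c) = b * (a * a) * c from
          fun a b c => by group,
        Equiv.swap_mul_self, mul_one]
      exact cube_swaps (q_ne (by omega) (by omega) (by omega))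
        (q_ne (by omega) (by omega) (by omega)) (q_ne (by omega) (by omega) (by omega))
  · rcases Nat.eq_zero_or_pos i with rfl | h0
    · rw [gen, gen, if_pos rfl, if_neg (by omega),
        show ∀ (a b c : Equiv.Perm (Fin (m + 2))), a * b * (a * c) = a * b * a * c from
          fun a b c => by group,
        show Equiv.swap (q m 0) (q m 1) * Equiv.swap (q m 1) (q m 2) * Equiv.swap (q m 0) (q m 1)
          = Equiv.swap (q m 0) (q m 2) by
            rw [Equiv.swap_comm (q m 0) (q m 1), Equiv.swap_comm (q m 1) (q m 2),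
              Equiv.swap_mul_swap_mul_swap
              (q_ne (by omega) (by omega) (by omega)) (q_ne (by omega) (by omega) (by omega))]]
      exact sq_two (q_ne (by omega) (by omega) (by omega)) (q_ne (by omega) (by omega) (by omega))
        (q_ne (by omega) (by omega) (by omega)) (q_ne (by omega) (by omega) (by omega))
    · rw [gen, gen, if_neg (by omega), if_neg (by omega),
        disjoint_comm (a := q m 0) (b := q m 1) (c := q m (i + 1)) (d := q m (i + 2))
          (q_ne (by omega) (by omega) (by omega)) (q_ne (by omega) (by omega) (by omega))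
          (q_ne (by omega) (by omega) (by omega)) (q_ne (by omega) (by omega) (by omega)),
        show ∀ (a b c : Equiv.Perm (Fin (m + 2))), b * a * (a * c) = b * (a * a) * c from
          fun a b c => by group,
        Equiv.swap_mul_self, mul_one]
      exact sq_two (q_ne (by omega) (by omega) (by omega)) (q_ne (by omega) (by omega) (by omega))
        (q_ne (by omega) (by omega) (by omega)) (q_ne (by omega) (by omega) (by omega))

theorem gen_generates (m : ℕ) :
    alternatingGroup (Fin (m + 2)) ≤ Subgroup.closure (gen m '' {i | i < m}) := by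
  set K := Subgroup.closure (gen m '' {i | i < m}) with hK
  set σ := Equiv.swap (q m 0) (q m 1) with hσ
  have hσσ : σ * σ = 1 := Equiv.swap_mul_self _ _
  have hmem : ∀ i < m, gen m i ∈ K := fun i hi => Subgroup.subset_closure ⟨i, hi, rfl⟩
  have hgenK : ∀ i < m, σ * gen m i * σ ∈ K := by
    intro i hi
    rcases Nat.eq_zero_or_pos i with rfl | h0
    · have : σ * gen m 0 * σ = (gen m 0)⁻¹ := by
        rw [gen, if_pos rfl, ← hσ, mul_inv_rev, Equiv.swap_inv, show σ⁻¹ = σ from Equiv.swap_inv _ _,
          ← mul_assoc, hσσ, one_mul]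
      rw [this]
      exact inv_mem (hmem 0 hi)
    · have hc : σ * Equiv.swap (q m (i + 1)) (q m (i + 2)) =
          Equiv.swap (q m (i + 1)) (q m (i + 2)) * σ :=
        disjoint_comm (q_ne (by omega) (by omega) (by omega)) (q_ne (by omega) (by omega) (by omega))
          (q_ne (by omega) (by omega) (by omega)) (q_ne (by omega) (by omega) (by omega))
      have : σ * gen m i * σ = gen m i := by
        rw [gen, if_neg (by omega), ← hσ, mul_assoc σ (σ * _), mul_assoc σ, ← hc]
        simp only [← mul_assoc]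
        rw [hσσ, one_mul]
      rw [this]
      exact hmem i hi
  have hconj : ∀ k ∈ K, σ * k * σ ∈ K := by
    intro k hk
    induction hk using Subgroup.closure_induction with
    | mem y hy => obtain ⟨i, hi, rfl⟩ := hy; exact hgenK i hi
    | one => rw [mul_one, hσσ]; exact one_mem _
    | mul a b _ _ ha hb =>
      rw [show σ * (a * b) * σ = σ * a * (σ * σ) * b * σ by rw [hσσ]; group]
      rw [show σ * a * (σ * σ) * b * σ = (σ * a * σ) * (σ * b * σ) by group]
      exact mul_mem ha hb
    | inv a _ ha =>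
      rw [show σ * a⁻¹ * σ = (σ⁻¹ * a * σ⁻¹)⁻¹ by group,
        show σ⁻¹ = σ from Equiv.swap_inv _ _]
      exact inv_mem ha
  -- the submonoid `K ∪ σ K`
  let M : Submonoid (Equiv.Perm (Fin (m + 2))) :=
    { carrier := {p | p ∈ K ∨ σ * p ∈ K}
      one_mem' := Or.inl (one_mem _)
      mul_mem' := by
        rintro a b (ha | ha) (hb | hb)
        · exact Or.inl (mul_mem ha hb)
        · refine Or.inr ?_
          rw [show σ * (a * b) = σ * a * (σ * σ) * b by rw [hσσ]; group,
            show σ * a * (σ * σ) * b = (σ * a * σ) * (σ * b) by group]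
          exact mul_mem (hconj a ha) hb
        · refine Or.inr ?_
          rw [← mul_assoc]
          exact mul_mem ha hb
        · refine Or.inl ?_
          have := mul_mem (hconj _ ha) hb
          rwa [← mul_assoc σ σ a, hσσ, one_mul, mul_assoc, ← mul_assoc σ σ b, hσσ,
            one_mul] at this }
  have htop : M = ⊤ := by
    rw [eq_top_iff, ← Equiv.Perm.mclosure_swap_castSucc_succ (m + 1), Submonoid.closure_le]
    rintro _ ⟨i, rfl⟩
    refine Or.inr ?_
    have h1 : i.castSucc = q m i.val := Fin.ext (by rw [q_val (by omega)]; rfl)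
    have h2 : i.succ = q m (i.val + 1) := Fin.ext (by rw [q_val (by omega)]; rfl)
    show σ * Equiv.swap i.castSucc i.succ ∈ K
    rw [h1, h2]
    obtain ⟨k, hk⟩ := i
    match k with
    | 0 => rw [← hσ, hσσ]; exact one_mem _
    | 1 =>
      have h0 := hmem 0 (by omega)
      rwa [gen, if_pos rfl, ← hσ] at h0
    | k + 2 =>
      have h0 := hmem (k + 1) (by omega)
      rwa [gen, if_neg (by omega), ← hσ] at h0
  have hKA : K ≤ alternatingGroup (Fin (m + 2)) := by
    rw [hK, Subgroup.closure_le]
    rintro _ ⟨i, hi, rfl⟩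
    exact Equiv.Perm.mem_alternatingGroup.2 (sign_gen hi)
  intro p hp
  rcases (show p ∈ M by rw [htop]; exact Submonoid.mem_top p) with h | h
  · exact h
  · have := Equiv.Perm.mem_alternatingGroup.1 (hKA h)
    rw [map_mul, Equiv.Perm.mem_alternatingGroup.1 hp, mul_one, hσ,
      Equiv.Perm.sign_swap (q_ne (by omega) (by omega) (by omega))] at this
    exact absurd this (by decide)

/-- A presentation of the alternating group of degree n ≥ 3 on generators x_1, …, x_{n−2} (indexed here by 0, …, n−3): the first generator cubes to 1, every other generator squares to 1, the product of two consecutive generators has order dividing 3, and the product of two generators at distance at least 2 has order dividing 2. The group so presented is isomorphic to the alternating group of degree n. -/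
theorem result (n : ℕ) (hn : 3 ≤ n) :
    Nonempty (PresentedGroup
      ({g : FreeGroup (Fin (n - 2)) | ∃ i : Fin (n - 2), i.val = 0 ∧ g = FreeGroup.of i ^ 3} ∪
       {g | ∃ i : Fin (n - 2), 1 ≤ i.val ∧ g = FreeGroup.of i ^ 2} ∪
       {g | ∃ i j : Fin (n - 2), j.val = i.val + 1 ∧ g = (FreeGroup.of i * FreeGroup.of j) ^ 3} ∪
       {g | ∃ i j : Fin (n - 2), i.val + 1 < j.val ∧ g = (FreeGroup.of i * FreeGroup.of j) ^ 2})
      ≃* alternatingGroup (Fin n)) := by
  obtain ⟨m, rfl⟩ : ∃ m, n = m + 2 := ⟨n - 2, by omega⟩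
  show Nonempty (PresentedGroup
      ({g : FreeGroup (Fin m) | ∃ i : Fin m, i.val = 0 ∧ g = FreeGroup.of i ^ 3} ∪
       {g | ∃ i : Fin m, 1 ≤ i.val ∧ g = FreeGroup.of i ^ 2} ∪
       {g | ∃ i j : Fin m, j.val = i.val + 1 ∧ g = (FreeGroup.of i * FreeGroup.of j) ^ 3} ∪
       {g | ∃ i j : Fin m, i.val + 1 < j.val ∧ g = (FreeGroup.of i * FreeGroup.of j) ^ 2})
      ≃* alternatingGroup (Fin (m + 2)))
  set rels : Set (FreeGroup (Fin m)) :=
      {g : FreeGroup (Fin m) | ∃ i : Fin m, i.val = 0 ∧ g = FreeGroup.of i ^ 3} ∪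
       {g | ∃ i : Fin m, 1 ≤ i.val ∧ g = FreeGroup.of i ^ 2} ∪
       {g | ∃ i j : Fin m, j.val = i.val + 1 ∧ g = (FreeGroup.of i * FreeGroup.of j) ^ 3} ∪
       {g | ∃ i j : Fin m, i.val + 1 < j.val ∧ g = (FreeGroup.of i * FreeGroup.of j) ^ 2} with hrels
  let x : ℕ → PresentedGroup rels := fun i => if h : i < m then PresentedGroup.of ⟨i, h⟩ else 1
  have hx : ∀ i (h : i < m), x i = PresentedGroup.of ⟨i, h⟩ := fun i h => dif_pos h
  have hone : ∀ r ∈ rels, PresentedGroup.mk rels r = 1 := fun r hr => PresentedGroup.one_of_mem hr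
  have hR : CfsgLib.Carmichael.Rels x m := by
    refine ⟨fun h => ?_, fun i h1 hi => ?_, fun i hi => ?_, fun i j hij hj => ?_⟩
    · rw [hx 0 h]; exact hone _ (Or.inl (Or.inl (Or.inl ⟨⟨0, h⟩, rfl, rfl⟩)))
    · rw [hx i hi]; exact hone _ (Or.inl (Or.inl (Or.inr ⟨⟨i, hi⟩, h1, rfl⟩)))
    · rw [hx i (by omega), hx (i + 1) hi]
      exact hone _ (Or.inl (Or.inr ⟨⟨i, by omega⟩, ⟨i + 1, hi⟩, rfl, rfl⟩))
    · rw [hx i (by omega), hx j hj]
      exact hone _ (Or.inr ⟨⟨i, by omega⟩, ⟨j, hj⟩, hij, rfl⟩)
  have hgen : Subgroup.closure (x '' {i | i < m}) = ⊤ := by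
    rw [← PresentedGroup.closure_range_of rels]
    congr 1
    ext g
    constructor
    · rintro ⟨i, hi, rfl⟩; exact ⟨⟨i, hi⟩, (hx i hi).symm⟩
    · rintro ⟨i, rfl⟩; exact ⟨i.val, i.2, hx i.val i.2⟩
  obtain ⟨hfin, hcard⟩ := CfsgLib.Carmichael.finite_card_le m _ x hR hgen
  let a : Fin m → alternatingGroup (Fin (m + 2)) := fun i =>
    ⟨gen m i, Equiv.Perm.mem_alternatingGroup.2 (sign_gen i.2)⟩
  have hg := rels_gen m
  have hlift : ∀ r ∈ rels, FreeGroup.lift a r = 1 := by
    rintro r (((⟨i, hi, rfl⟩ | ⟨i, hi, rfl⟩) | ⟨i, j, hij, rfl⟩) | ⟨i, j, hij, rfl⟩) <;>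
      simp only [map_pow, map_mul, FreeGroup.lift_apply_of] <;> apply Subtype.ext
    · show gen m i.val ^ 3 = 1
      rw [hi]; exact hg.cube (by omega)
    · exact hg.sq _ hi i.2
    · show (gen m i.val * gen m j.val) ^ 3 = 1
      rw [hij]; exact hg.adj _ (by omega)
    · exact hg.far _ _ hij j.2
  let f := PresentedGroup.toGroup hlift
  have hf : Function.Surjective f := by
    intro p
    have hle : Subgroup.closure (gen m '' {i | i < m}) ≤
        f.range.map (alternatingGroup (Fin (m + 2))).subtype := by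
      rw [Subgroup.closure_le]
      rintro _ ⟨i, hi, rfl⟩
      exact ⟨a ⟨i, hi⟩, ⟨PresentedGroup.of ⟨i, hi⟩, by simp [f]⟩, rfl⟩
    obtain ⟨z, ⟨w, rfl⟩, hz⟩ := hle (gen_generates m p.2)
    exact ⟨w, Subtype.ext hz⟩
  refine ⟨MulEquiv.ofBijective f ((Nat.bijective_iff_surjective_and_card _).2 ⟨hf,
    le_antisymm ?_ (Nat.card_le_card_of_surjective f hf)⟩)⟩
  have h2 := two_mul_nat_card_alternatingGroup (α := Fin (m + 2))
  rw [Nat.card_perm, Nat.card_fin] at h2
  omega

end Cfsg.Agent.S3335
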