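import Cfsg.Statements.S0892
import Cfsg.Agent.Lib.Schur.AlternatingBound

set_option autoImplicit false
open Cfsg

namespace Cfsg.Agent.S0892

/-- Let n ≥ 4 with n ≠ 6 and n ≠ 7, and let Γ be a finite group with a subgroup Z contained in both the centre and the commutator subgroup of Γ such that Γ / Z is isomorphic to the alternating group on n letters. Then Z has order at most 2. -/
theorem result (n : ℕ) (hn : 4 ≤ n) (h6 : n ≠ 6) (h7 : n ≠ 7) {Γ : Type*} [Group Γ] [Finite Γ] (Z : Subgroup Γ) [Z.Normal] (hZc : Z ≤ Subgroup.center Γ) (hZd : Z ≤ commutator Γ) (e : Γ ⧸ Z ≃* alternatingGroup (Fin n)) : Nat.card Z ≤ 2 := by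
  let π : Γ →* Equiv.Perm (Fin n) :=
    (alternatingGroup (Fin n)).subtype.comp (e.toMonoidHom.comp (QuotientGroup.mk' Z))
  have hk : π.ker = Z := by
    ext g
    simp [π, MonoidHom.mem_ker]
  have hr : π.range = alternatingGroup (Fin n) := by
    refine le_antisymm ?_ fun p hp => ?_
    · rintro _ ⟨g, rfl⟩
      exact (e (QuotientGroup.mk g)).2
    · obtain ⟨g, hg⟩ := QuotientGroup.mk'_surjective Z (e.symm ⟨p, hp⟩)
      exact ⟨g, by simp only [π, MonoidHom.comp_apply, MulEquiv.coe_toMonoidHom, hg,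
        MulEquiv.apply_symm_apply, Subgroup.coe_subtype]⟩
  have := CfsgLib.AltMult.card_ker_le_two hn h6 h7 π (hk ▸ hZc) (hk ▸ hZd) hr
  rwa [hk] at this

end Cfsg.Agent.S0892
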