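import Cfsg.Statements.S2602
import Cfsg.Agent.Lib.AutPSL.OutPSL

set_option autoImplicit false
open Cfsg CfsgLib.AutPSL

namespace Cfsg.Agent.S2602

/-- Structure of the outer automorphism group of PSL_2(q), q = p^f ≥ 4: it has a normal cyclic subgroup of order gcd(2, q − 1) (diagonal automorphisms) with cyclic quotient of order f (field automorphisms); there is no graph automorphism in dimension 2. -/
theorem result {F : Type*} [Field F] [Fintype F] {p f : ℕ} [Fact p.Prime] (hf : 1 ≤ f) (hF : Fintype.card F = p ^ f) (h4 : 4 ≤ p ^ f) : ∃ φ : Cfsg.Out (Matrix.ProjectiveSpecialLinearGroup (Fin 2) F) →* Multiplicative (ZMod f), Function.Surjective φ ∧ IsCyclic φ.ker ∧ Nat.card φ.ker = Nat.gcd 2 (p ^ f - 1) := by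
  obtain ⟨e⟩ := nonempty_ringAut_equiv hF
  haveI := conjAut_range_normal (F := F) (n := 2) le_rfl
  obtain ⟨φ, hφ, hker⟩ := exists_out_hom (conjAut : GL (Fin 2) F →* _).range inn_le_range
    (fieldAut : (F ≃+* F) →* _) (by
      rintro σ ⟨g, hg⟩
      exact (eq_one_of_conj_field le_rfl (g := g⁻¹) (σ := σ) (by rw [map_inv, hg, inv_mul_cancel])).2) (by
      intro β
      obtain ⟨g, σ, rfl | rfl⟩ := aut_psl_structure le_rfl β
      · exact ⟨conjAut g, ⟨g, rfl⟩, σ, rfl⟩
      · obtain ⟨w, hw⟩ := iotaAut_two (F := F)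
        refine ⟨conjAut (g * glField σ w), ⟨_, rfl⟩, σ, ?_⟩
        rw [map_mul, mul_assoc, ← hw, fieldAut_mul_conjAut, mul_assoc])
  obtain ⟨hcyc, hcard⟩ := diag_image (n := 2) (F := F) le_rfl
  refine ⟨e.toMonoidHom.comp φ, e.surjective.comp hφ, ?_⟩
  have hk : (e.toMonoidHom.comp φ).ker = φ.ker := by
    ext x
    simp [MonoidHom.mem_ker]
  rw [hk, hker, ← hF]
  exact ⟨hcyc, hcard⟩

end Cfsg.Agent.S2602
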