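import Cfsg.Statements.S3305
import Cfsg.Agent.Lib.InvChar.SylowInter

set_option autoImplicit false
open Cfsg

namespace Cfsg.Agent.S3305

theorem result {G : Type*} [Group G] [Finite G]
    (hC : ∀ S T : Sylow 2 G, S ≠ T → IsCyclic ↥((S : Subgroup G) ⊓ (T : Subgroup G))) (H : Subgroup G) [H.Normal] :
    ∀ S T : Sylow 2 (G ⧸ H), S ≠ T → IsCyclic ↥((S : Subgroup (G ⧸ H)) ⊓ (T : Subgroup (G ⧸ H))) := by
  intro S T hST
  obtain ⟨S₁, T₁, U, hne, hUle, key⟩ := CfsgLib.InvChar.exists_sylow_lift_inf H S T hST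
  have := hC S₁ T₁ hne
  have : IsCyclic ↥U :=
    isCyclic_of_injective (Subgroup.inclusion hUle) (Subgroup.inclusion_injective hUle)
  rw [← key]
  exact isCyclic_of_surjective ((QuotientGroup.mk' H).subgroupMap U)
    ((QuotientGroup.mk' H).subgroupMap_surjective U)

end Cfsg.Agent.S3305
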