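import Cfsg.Statements.S4593
import Cfsg.Agent.Lib.Involutions.BrauerSuzuki
import Cfsg.Agent.Lib.PCore.Basic

set_option autoImplicit false
open Cfsg

namespace Cfsg.Agent.S4593

universe u

open Subgroup

theorem isolated_of_fixed {H : Type u} [Group H] [Finite H] (T : Sylow 2 H)
    [IsMulCommutative (T : Subgroup H)] {z : H} (hzT : z ∈ (T : Subgroup H))
    (hfix : ∀ n ∈ normalizer ((T : Subgroup H) : Set H), n⁻¹ * z * n = z) (hz : orderOf z = 2) :
    IsIsolatedInvolution z := by
  refine ⟨hz, fun g hg => ?_⟩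
  have hp : IsPGroup 2 (closure ({z, g * z * g⁻¹} : Set H)) := by
    have h2 : orderOf (g * z * g⁻¹) = 2 := (CfsgLib.Involutions.orderOf_conj_eq g z).trans hz
    have hq : (z * (g * z * g⁻¹)) ^ 2 ^ 1 = 1 := by
      rw [pow_one, hg.mul_pow, ← hz, pow_orderOf_eq_one, one_mul, hz, ← h2, pow_orderOf_eq_one]
    obtain ⟨j, -, hj⟩ := (Nat.dvd_prime_pow Nat.prime_two).mp (orderOf_dvd_of_pow_eq_one hq)
    exact CfsgLib.Involutions.isPGroup_two_closure_pair hz h2 hj
  obtain ⟨c, hc⟩ := CfsgLib.Involutions.exists_conj_le_sylow hp T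
  have h1 : c * z * c⁻¹ ∈ (T : Subgroup H) := hc z (subset_closure (Set.mem_insert _ _))
  have h2 : c * (g * z * g⁻¹) * c⁻¹ ∈ (T : Subgroup H) :=
    hc _ (subset_closure (Set.mem_insert_of_mem _ rfl))
  have key : ∀ x : H, x * z * x⁻¹ ∈ (T : Subgroup H) → x * z * x⁻¹ = z := by
    intro x hx
    obtain ⟨n, hn, hn'⟩ := T.conj_eq_normalizer_conj_of_mem z x⁻¹ hzT (by rwa [inv_inv])
    rw [inv_inv] at hn'
    exact hn'.trans (hfix n hn)
  have e1 := key c h1
  have e2 := key (c * g) (by simpa [mul_assoc] using h2)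
  have e3 : c * (g * z * g⁻¹) * c⁻¹ = c * z * c⁻¹ := by
    rw [e1]; simpa [mul_assoc] using e2
  exact mul_left_cancel (mul_right_cancel e3)

theorem mem_of_coprime_pow {H : Type u} [Group H] {N : Subgroup H} {a : H} {m : ℕ}
    (hm : m.Coprime (orderOf a)) (h : a ^ m ∈ N) : a ∈ N := by
  obtain ⟨k, hk⟩ := exists_pow_eq_self_of_coprime hm
  exact hk ▸ pow_mem h k

/-- An element of an abelian Sylow 2-subgroup has an odd power times an element of a normal
subgroup `N` with abelian quotient that is fixed by the Sylow normalizer. -/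
theorem exists_fixed {H Q : Type u} [Group H] [Finite H] [Group Q] (T : Sylow 2 H)
    [IsMulCommutative (T : Subgroup H)] (q : H →* Q) {a : H} (ha : a ∈ (T : Subgroup H))
    (hcen : ∀ h : H, q (h * a * h⁻¹) = q a) :
    ∃ (b : H) (m : ℕ), b ∈ (T : Subgroup H) ∧ ¬ 2 ∣ m ∧ q b = q a ^ m ∧
      ∀ n ∈ normalizer ((T : Subgroup H) : Set H), n⁻¹ * b * n = b := by
  classical
  letI : CommGroup (T : Subgroup H) :=
    { (inferInstance : Group (T : Subgroup H)) with mul_comm := fun x y => mul_comm' x y }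
  set f := normalizerMonoidHom (T : Subgroup H)
  haveI : Finite f.range := Set.finite_range f |>.to_subtype
  letI := Fintype.ofFinite f.range
  set a' : (T : Subgroup H) := ⟨a, ha⟩
  set b : (T : Subgroup H) := ∏ A : f.range, (A : MulAut (T : Subgroup H)) a' with hb
  have hodd : ¬ 2 ∣ Nat.card f.range := by
    intro h
    rw [← index_ker] at h
    have hle : ((T : Subgroup H).subgroupOf (normalizer ((T : Subgroup H) : Set H))) ≤ f.ker := by
      rw [normalizerMonoidHom_ker]
      intro x hx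
      refine mem_subgroupOf.mpr (mem_centralizer_iff.mpr fun y hy => ?_)
      exact congrArg Subtype.val (mul_comm' (⟨y, hy⟩ : (T : Subgroup H)) ⟨x, hx⟩)
    exact T.not_dvd_index ((h.trans (index_dvd_of_le hle)).trans
      (relIndex_dvd_index_of_le le_normalizer))
  refine ⟨b, Fintype.card f.range, b.2, by rwa [← Nat.card_eq_fintype_card], ?_, ?_⟩
  · rw [hb]
    have hterm : ∀ A : f.range,
        (q.comp (T : Subgroup H).subtype) ((A : MulAut (T : Subgroup H)) a') = q a := by
      rintro ⟨_, n, rfl⟩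
      exact hcen (n : H)
    have : ∀ s : Finset f.range,
        (q.comp (T : Subgroup H).subtype) (∏ A ∈ s, (A : MulAut (T : Subgroup H)) a') = q a ^ s.card := by
      intro s
      induction s using Finset.induction with
      | empty => simp
      | insert x s hx ih =>
        rw [Finset.prod_insert hx, map_mul, ih, hterm, Finset.card_insert_of_notMem hx, pow_succ']
    exact this Finset.univ
  · intro n hn
    have hfixb : f ⟨n⁻¹, inv_mem hn⟩ b = b := by
      rw [hb, map_prod]
      exact Fintype.prod_equiv (Equiv.mulLeft ⟨f ⟨n⁻¹, inv_mem hn⟩, _, rfl⟩) _ _ fun A => rfl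
    have := congrArg Subtype.val hfixb
    rw [show ((f ⟨n⁻¹, inv_mem hn⟩ b : (T : Subgroup H)) : H) = n⁻¹ * b * (n⁻¹)⁻¹ from rfl,
      inv_inv] at this
    exact this

theorem conjRange_normal {G : Type u} [Group G] : (MulAut.conj : G →* MulAut G).range.Normal := by
  refine ⟨?_⟩
  rintro _ ⟨g, rfl⟩ β
  refine ⟨β g, ?_⟩
  ext x
  simp [map_mul]

theorem conj_injective {G : Type u} [Group G] (hZ : center G = ⊥) :
    Function.Injective (MulAut.conj : G →* MulAut G) := by
  rw [← MonoidHom.ker_eq_bot_iff, eq_bot_iff, ← hZ]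
  intro g hg
  rw [mem_center_iff]
  intro x
  have := congrArg (fun e : MulAut G => e x) (MonoidHom.mem_ker.mp hg)
  simp only [MulAut.conj_apply, MulAut.one_apply] at this
  conv_lhs => rw [← this]
  simp [mul_assoc]

/-- Let G be a finite group with trivial centre and no nontrivial normal subgroup of odd order, whose Sylow 2-subgroups are abelian, and let P be a Sylow 2-subgroup. Every automorphism of G of 2-power order that fixes P elementwise is inner. -/
theorem result {G : Type*} [Group G] [Finite G] (hZ : Subgroup.center G = ⊥) (hcore : Cfsg.pPrimeCore 2 G = ⊥) (P : Sylow 2 G) (hab : IsMulCommutative (P : Subgroup G))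
    (α : MulAut G) (h2 : ∃ j : ℕ, orderOf α = 2 ^ j) (hfix : ∀ x ∈ (P : Subgroup G), α x = x) :
    ∃ g : G, ∀ x : G, α x = g * x * g⁻¹ := by
  classical
  haveI := conjRange_normal (G := G)
  haveI : IsMulCommutative (P : Subgroup G) := hab
  set I := (MulAut.conj : G →* MulAut G).range with hI
  suffices hα : α ∈ I by
    obtain ⟨g, hg⟩ := hα
    exact ⟨g, fun x => by rw [← hg]; simp⟩
  set H : Subgroup (MulAut G) := I ⊔ Subgroup.zpowers α with hH
  haveI : Finite H := inferInstance
  set αH : H := ⟨α, Subgroup.mem_sup_right (Subgroup.mem_zpowers α)⟩ with hαH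
  let c : G →* H := (MulAut.conj : G →* MulAut G).codRestrict H
    fun g => Subgroup.mem_sup_left ⟨g, rfl⟩
  have hcinj : Function.Injective c := fun a b h => conj_injective hZ (congrArg Subtype.val h)
  have hyc : ∀ (y : H) (g : G), y * c g * y⁻¹ = c ((y : MulAut G) g) := by
    intro y g
    refine Subtype.ext ?_
    ext x
    simp [c, map_mul]
  -- the odd core of `H` is trivial
  have hcoreH : Cfsg.pPrimeCore 2 H = ⊥ := by
    rw [eq_bot_iff]
    intro y hy
    have hy1 : ∀ g : G, (y : MulAut G) g = g := by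
      intro g
      haveI : (Cfsg.pPrimeCore 2 H).Normal := pPrimeCore_normal 2 H
      have hmem : c ((y : MulAut G) g * g⁻¹) ∈ Cfsg.pPrimeCore 2 H := by
        rw [map_mul, map_inv, ← hyc, mul_assoc y (c g) y⁻¹, mul_assoc y (c g * y⁻¹)]
        exact mul_mem hy (‹(Cfsg.pPrimeCore 2 H).Normal›.conj_mem _ (inv_mem hy) (c g))
      have := CfsgLib.PCore.comap_pPrimeCore_le (p := 2) c hcinj hmem
      rw [hcore, Subgroup.mem_bot, mul_inv_eq_one] at this
      exact this
    refine Subgroup.mem_bot.mpr (Subtype.ext ?_)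
    ext x
    simpa using hy1 x
  -- an abelian Sylow subgroup containing `α`
  obtain ⟨j, hj⟩ := h2
  have hcomm : ∀ (a : (P : Subgroup G)) (b : Subgroup.zpowers αH),
      Commute (c.comp (P : Subgroup G).subtype a) ((Subgroup.zpowers αH).subtype b) := by
    intro a b
    obtain ⟨i, hi⟩ := Subgroup.mem_zpowers_iff.mp b.2
    rw [Subgroup.subtype_apply, ← hi]
    refine Commute.zpow_right ?_ i
    have := hyc αH a
    simp only [hαH] at this
    rw [hfix _ a.2] at this
    exact (mul_inv_eq_iff_eq_mul.mp this).symm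
  set φ := MonoidHom.noncommCoprod (c.comp (P : Subgroup G).subtype)
    (Subgroup.zpowers αH).subtype hcomm with hφ
  have hEp : IsPGroup 2 φ.range := by
    obtain ⟨i, hi⟩ := IsPGroup.iff_card.mp P.2
    have hc : Nat.card (↥(P : Subgroup G) × ↥(Subgroup.zpowers αH)) = 2 ^ (i + j) := by
      have : orderOf αH = orderOf α := (Subgroup.orderOf_coe αH).symm
      rw [Nat.card_prod, hi, Nat.card_zpowers, this, hj, pow_add]
    exact (IsPGroup.of_card hc).of_surjective φ.rangeRestrict φ.rangeRestrict_surjective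
  obtain ⟨T, hT⟩ := hEp.exists_le_sylow
  have hαT : αH ∈ (T : Subgroup H) :=
    hT ⟨(1, ⟨αH, Subgroup.mem_zpowers αH⟩), by simp [hφ]⟩
  have hPT : ∀ a ∈ (P : Subgroup G), c a ∈ (T : Subgroup H) := fun a ha =>
    hT ⟨(⟨a, ha⟩, 1), by simp [hφ]⟩
  have hcomap : (T : Subgroup H).comap c = P :=
    P.3 (CfsgLib.PCore.isPGroup_comap_of_injective T.2 c hcinj) fun a ha => hPT a ha
  have hTE : (T : Subgroup H) = φ.range := by
    refine le_antisymm (fun t ht => ?_) hT
    obtain ⟨y, ⟨g, rfl⟩, w, hw, hyw⟩ := Subgroup.mem_sup_of_normal_left.mp t.2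
    obtain ⟨i, rfl⟩ := Subgroup.mem_zpowers_iff.mp hw
    have ht' : t = c g * αH ^ i := Subtype.ext (by simp [c, hαH, ← hyw])
    have hg : g ∈ (P : Subgroup G) := by
      rw [← hcomap, Subgroup.mem_comap]
      have := mul_mem ht (inv_mem (zpow_mem hαT i))
      rwa [ht', mul_inv_cancel_right] at this
    exact ⟨(⟨g, hg⟩, ⟨αH ^ i, Subgroup.zpow_mem_zpowers αH i⟩), by simp [hφ, ht']⟩
  haveI : IsMulCommutative (T : Subgroup H) := by
    refine ⟨⟨fun s t => Subtype.ext ?_⟩⟩
    obtain ⟨u, hu⟩ := (hTE ▸ s.2 : (s : H) ∈ φ.range)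
    obtain ⟨v, hv⟩ := (hTE ▸ t.2 : (t : H) ∈ φ.range)
    simp only [Subgroup.coe_mul, ← hu, ← hv, ← map_mul]
    exact congrArg φ (Prod.ext (mul_comm' u.1 v.1) (mul_comm' u.2 v.2))
  set q : H →* MulAut G ⧸ I := (QuotientGroup.mk' I).comp H.subtype with hq
  have hcen : ∀ h : H, q (h * αH * h⁻¹) = q αH := by
    intro h
    obtain ⟨y, hy, w, hw, hyw⟩ := Subgroup.mem_sup_of_normal_left.mp h.2
    obtain ⟨i, rfl⟩ := Subgroup.mem_zpowers_iff.mp hw
    have : q h = q αH ^ i := by
      simp only [hq, MonoidHom.comp_apply, Subgroup.subtype_apply, hαH, ← hyw, map_mul, map_zpow]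
      rw [show (QuotientGroup.mk' I) y = 1 from (QuotientGroup.eq_one_iff y).mpr hy, one_mul]
    rw [map_mul, map_mul, map_inv, this, (Commute.zpow_self (q αH) i).eq, mul_inv_cancel_right]
  obtain ⟨b, m, hbT, hm, hqb, hfixb⟩ := exists_fixed T q hαT hcen
  have hb1 : b = 1 := by
    by_contra hne
    obtain ⟨k, hk⟩ := IsPGroup.iff_orderOf.mp T.2 ⟨b, hbT⟩
    rw [Subgroup.orderOf_mk] at hk
    rcases k with _ | k
    · exact hne (orderOf_eq_one_iff.mp (by simpa using hk))
    set z := b ^ 2 ^ k with hzdef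
    have hz2 : orderOf z = 2 := by
      rw [hzdef, orderOf_pow' _ (pow_ne_zero _ two_ne_zero), hk,
        Nat.gcd_eq_right (pow_dvd_pow 2 (Nat.le_succ k)), pow_succ,
        Nat.mul_div_cancel_left _ (pow_pos two_pos _)]
    have hziso : IsIsolatedInvolution z := by
      refine isolated_of_fixed T (pow_mem hbT _) (fun n hn => ?_) hz2
      conv_rhs => rw [hzdef, ← hfixb n hn]
      have := conj_pow (a := n⁻¹) (b := b) (i := 2 ^ k)
      rw [inv_inv] at this
      rw [this, hzdef]
    have hzs := CfsgLib.Involutions.zstar H z hziso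
    have hz1 : z = 1 := by
      refine Subtype.ext ?_
      ext g
      have h1 := hzs (c g)
      rw [hcoreH, Subgroup.mem_bot, mul_inv_eq_one, mul_inv_eq_iff_eq_mul] at h1
      have h3 := hyc z g
      rw [← h1, mul_inv_cancel_right] at h3
      simpa using (hcinj h3).symm
    rw [hz1, orderOf_one] at hz2
    omega
  have hpow : α ^ m ∈ I := by
    rw [← QuotientGroup.eq_one_iff]
    have : q αH ^ m = 1 := by rw [← hqb, hb1, map_one]
    simpa [hq, hαH] using this
  refine mem_of_coprime_pow ?_ hpow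
  rw [hj]
  exact (Nat.Coprime.pow_right j ((Nat.coprime_comm).mp ((Nat.Prime.coprime_iff_not_dvd
    Nat.prime_two).mpr hm)))

end Cfsg.Agent.S4593
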