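import Cfsg.Statements.S3864
import Cfsg.Agent.Lib.Transfer.Basic
import Cfsg.Agent.Lib.Transfer.NormalComplement

set_option autoImplicit false
open Cfsg DihedralGroup

namespace Cfsg.Agent.S3864

theorem rot_of_orderOf_two {k : ℕ} [NeZero (2 * k)] {a : ZMod (2 * k)}
    (h : orderOf (r a) = 2) : a = ((k : ℕ) : ZMod (2 * k)) := by
  have hne : a ≠ 0 := fun e => by
    rw [e, ← one_def, orderOf_one] at h; exact absurd h (by norm_num)
  have hsq : (r a) ^ 2 = 1 := by
    have := pow_orderOf_eq_one (r a)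
    rwa [h] at this
  rw [pow_two, r_mul_r, one_def, r.injEq] at hsq
  have h1 : ((a.val + a.val : ℕ) : ZMod (2 * k)) = 0 := by
    rw [Nat.cast_add, ZMod.natCast_zmod_val, hsq]
  rw [ZMod.natCast_eq_zero_iff] at h1
  obtain ⟨c, hc⟩ := h1
  have hlt := ZMod.val_lt a
  have hpos : 0 < a.val := Nat.pos_of_ne_zero fun e => hne ((ZMod.val_eq_zero a).1 e)
  have hc1 : c = 1 := by
    rcases c with _ | _ | c
    · rw [Nat.mul_zero] at hc; omega
    · rfl
    · nlinarith
  subst hc1
  rw [← ZMod.natCast_zmod_val a]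
  congr 1
  omega

theorem sr_isConj {m : ℕ} [NeZero m] (i : ZMod m) :
    IsConj (sr i) (sr (0 : ZMod m)) ∨ IsConj (sr i) (sr (1 : ZMod m)) := by
  have key : ∀ j : ℕ, r (j : ZMod m) * sr i * (r (j : ZMod m))⁻¹ =
      sr (i - ((2 * j : ℕ) : ZMod m)) := by
    intro j
    rw [r_mul_sr, inv_r, sr_mul_r]
    push_cast
    congr 1
    ring
  rcases Nat.even_or_odd' i.val with ⟨j, hj | hj⟩
  · refine Or.inl (isConj_iff.2 ⟨r (j : ZMod m), ?_⟩)
    rw [key, ← hj, ZMod.natCast_zmod_val, sub_self]
  · refine Or.inr (isConj_iff.2 ⟨r (j : ZMod m), ?_⟩)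
    rw [key]
    congr 1
    have h2 : ((2 * j + 1 : ℕ) : ZMod m) = i := by rw [← hj, ZMod.natCast_zmod_val]
    rw [← h2]
    push_cast
    ring

theorem sr_zero_not_conj_sr_one {k : ℕ} (c : DihedralGroup (2 * k)) :
    c * sr (0 : ZMod (2 * k)) * c⁻¹ ≠ sr (1 : ZMod (2 * k)) := by
  intro h
  let f : ZMod (2 * k) →+* ZMod 2 := ZMod.castHom (dvd_mul_right 2 k) (ZMod 2)
  rcases c with j | j
  · rw [r_mul_sr, inv_r, sr_mul_r, sr.injEq] at h
    have := congrArg f h
    simp only [map_add, map_sub, map_neg, map_zero, map_one] at this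
    revert this
    generalize f j = u
    revert u
    decide
  · rw [sr_mul_sr, inv_sr, r_mul_sr, sr.injEq] at h
    have := congrArg f h
    simp only [map_sub, map_zero, map_one] at this
    revert this
    generalize f j = u
    revert u
    decide

theorem exists_isConj_mem_sylow {G : Type*} [Group G] [Finite G] (P : Sylow 2 G) {g : G}
    (hg : orderOf g = 2) : ∃ y ∈ (P : Subgroup G), IsConj y g := by
  haveI : Fact (Nat.Prime 2) := ⟨Nat.prime_two⟩
  have hp : IsPGroup 2 (Subgroup.zpowers g) :=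
    IsPGroup.of_card (n := 1) (by rw [Nat.card_zpowers, hg, pow_one])
  obtain ⟨R, hR⟩ := hp.exists_le_sylow
  obtain ⟨a, ha⟩ := MulAction.exists_smul_eq G P R
  have hgR : g ∈ (R : Subgroup G) := hR (Subgroup.mem_zpowers g)
  rw [← ha, Sylow.coe_subgroup_smul] at hgR
  obtain ⟨v, hv, hvg⟩ := hgR
  refine ⟨v, hv, isConj_iff.2 ⟨a, ?_⟩⟩
  simpa [MulAut.smul_def] using hvg

theorem main {G : Type*} [Group G] [Finite G] (P : Sylow 2 G) (k : ℕ) (hk : Even k) (hk0 : k ≠ 0)
    (e : DihedralGroup (2 * k) ≃* ↥(P : Subgroup G)) :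
    (Nat.card {C : ConjClasses G // ∃ g : G, ConjClasses.mk g = C ∧ orderOf g = 2} = 1 ∧
        ∀ N : Subgroup G, N.Normal → N.index ≠ 2) ∨
      (Nat.card {C : ConjClasses G // ∃ g : G, ConjClasses.mk g = C ∧ orderOf g = 2} = 2 ∧
        (∃ N : Subgroup G, N.Normal ∧ N.index = 2) ∧ ∀ N : Subgroup G, N.Normal → N.index ≠ 4) ∨
      (Nat.card {C : ConjClasses G // ∃ g : G, ConjClasses.mk g = C ∧ orderOf g = 2} = 3 ∧
        Cfsg.HasNormalPComplement 2 G) := by
  classical
  haveI : Fact (Nat.Prime 2) := ⟨Nat.prime_two⟩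
  haveI : NeZero (2 * k) := ⟨by omega⟩
  let ι : DihedralGroup (2 * k) →* G := (P : Subgroup G).subtype.comp e.toMonoidHom
  have hinj : Function.Injective ι := Subtype.val_injective.comp e.injective
  have hmem : ∀ d, ι d ∈ (P : Subgroup G) := fun d => (e d).2
  have hsurj : ∀ x ∈ (P : Subgroup G), ∃ d, ι d = x := fun x hx => by
    obtain ⟨d, hd⟩ := e.surjective ⟨x, hx⟩
    exact ⟨d, congrArg Subtype.val hd⟩
  set z := ι (r ((k : ℕ) : ZMod (2 * k))) with hz
  set s := ι (sr (0 : ZMod (2 * k))) with hs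
  set t := ι (sr (1 : ZMod (2 * k))) with ht
  set R := ι (r (1 : ZMod (2 * k))) with hR
  have hRpow : ∀ a : ZMod (2 * k), ι (r a) = R ^ a.val := by
    intro a
    rw [hR, ← map_pow, r_one_pow, ZMod.natCast_zmod_val]
  have hzR : z = R ^ k := by rw [hz, hR, ← map_pow, r_one_pow]
  have hst : s * t = R := by rw [hs, ht, ← map_mul, sr_mul_sr, sub_zero]
  have hs2 : orderOf s = 2 := by rw [hs, orderOf_injective ι hinj, orderOf_sr]
  have ht2 : orderOf t = 2 := by rw [ht, orderOf_injective ι hinj, orderOf_sr]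
  have hz2 : orderOf z = 2 := by
    rw [orderOf_eq_prime_iff, hz]
    constructor
    · rw [← map_pow, pow_two, r_mul_r, ← Nat.cast_add, ← two_mul, ZMod.natCast_self, ← one_def,
        map_one]
    · intro h1
      rw [map_eq_one_iff ι hinj, one_def, r.injEq, ZMod.natCast_eq_zero_iff] at h1
      have := Nat.le_of_dvd (Nat.pos_of_ne_zero hk0) h1
      omega
  -- classes of involutions
  have hcases : ∀ d : DihedralGroup (2 * k), orderOf (ι d) = 2 →
      ι d = z ∨ IsConj (ι d) s ∨ IsConj (ι d) t := by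
    intro d hd
    rw [orderOf_injective ι hinj] at hd
    rcases d with a | i
    · left; rw [hz, rot_of_orderOf_two hd]
    · exact Or.inr ((sr_isConj i).imp ι.map_isConj ι.map_isConj)
  have hset : {C : ConjClasses G | ∃ g : G, ConjClasses.mk g = C ∧ orderOf g = 2} =
      {ConjClasses.mk z, ConjClasses.mk s, ConjClasses.mk t} := by
    ext C
    constructor
    · rintro ⟨g, rfl, hg⟩
      obtain ⟨y, hy, hyg⟩ := exists_isConj_mem_sylow P hg
      obtain ⟨d, rfl⟩ := hsurj y hy
      obtain ⟨a, ha⟩ := isConj_iff.1 hyg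
      have hd : orderOf (ι d) = 2 :=
        ((MulAut.conj a).orderOf_eq (ι d)).symm.trans ((congrArg orderOf ha).trans hg)
      simp only [Set.mem_insert_iff, Set.mem_singleton_iff, ConjClasses.mk_eq_mk_iff_isConj]
      rcases hcases d hd with h | h | h
      · exact Or.inl (hyg.symm.trans (h ▸ IsConj.refl _))
      · exact Or.inr (Or.inl (hyg.symm.trans h))
      · exact Or.inr (Or.inr (hyg.symm.trans h))
    · rintro (rfl | rfl | rfl)
      · exact ⟨z, rfl, hz2⟩
      · exact ⟨s, rfl, hs2⟩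
      · exact ⟨t, rfl, ht2⟩
  have hcard : Nat.card {C : ConjClasses G // ∃ g : G, ConjClasses.mk g = C ∧ orderOf g = 2} =
      ({ConjClasses.mk z, ConjClasses.mk s, ConjClasses.mk t} : Set (ConjClasses G)).ncard := by
    rw [← hset]; exact Nat.card_coe_set_eq _
  rw [hcard]
  -- generation of `P`
  have hgen : ∀ S : Subgroup G, s ∈ S → R ∈ S → (P : Subgroup G) ≤ S := by
    intro S hsS hRS x hx
    obtain ⟨d, rfl⟩ := hsurj x hx
    rcases d with a | i
    · rw [hRpow]; exact pow_mem hRS _
    · have : ι (sr i) = s * ι (r i) := by rw [hs, ← map_mul, sr_mul_r, zero_add]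
      rw [this, hRpow]
      exact mul_mem hsS (pow_mem hRS _)
  have hidx : ∀ N : Subgroup G, N.Normal → N.index ≠ 0 → ∀ c : ℕ, N.index = 2 ^ c →
      (P : Subgroup G) ⊔ N = ⊤ := by
    intro N _ _ c hc
    rw [← Subgroup.index_eq_one]
    have h1 : ((P : Subgroup G) ⊔ N).index ∣ (P : Subgroup G).index :=
      Subgroup.index_dvd_of_le le_sup_left
    have h2 : ((P : Subgroup G) ⊔ N).index ∣ 2 ^ c := hc ▸ Subgroup.index_dvd_of_le le_sup_right
    refine Nat.eq_one_of_dvd_coprimes (Nat.Coprime.pow_right c ?_) h1 h2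
    exact (Nat.prime_two.coprime_iff_not_dvd.2 P.not_dvd_index).symm
  -- a reflection not fused with `z` gives a subgroup of index two
  have hRcard : Nat.card (Subgroup.zpowers R) = 2 * k := by
    rw [Nat.card_zpowers, hR, orderOf_injective ι hinj, orderOf_r_one]
  have hRle : Subgroup.zpowers R ≤ (P : Subgroup G) := Subgroup.zpowers_le.2 (hmem _)
  have hrot : ∀ x ∈ Subgroup.zpowers R, orderOf x = 2 → x = z := by
    intro x hx hx2
    obtain ⟨j, rfl⟩ := (mem_powers_iff_mem_zpowers (x := R)).2 hx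
    simp only at hx2 ⊢
    rw [hR, ← map_pow, r_one_pow] at hx2 ⊢
    rw [orderOf_injective ι hinj] at hx2
    rw [rot_of_orderOf_two hx2, hz]
  have hindex2 : ∀ u : G, orderOf u = 2 → ¬ IsConj u z →
      ∃ N : Subgroup G, N.Normal ∧ N.index = 2 := by
    intro u hu hnc
    have hrel : (Subgroup.zpowers R).relIndex (P : Subgroup G) = 2 := by
      have h1 := ((Subgroup.zpowers R).subgroupOf (P : Subgroup G)).index_mul_card
      rw [Nat.card_congr (Subgroup.subgroupOfEquivOfLe hRle).toEquiv, hRcard,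
        ← Nat.card_congr e.toEquiv, DihedralGroup.nat_card] at h1
      exact Nat.eq_of_mul_eq_mul_right (by omega) h1
    obtain ⟨M, hM, hM2, -⟩ := CfsgLib.Transfer.thompson_transfer P (Subgroup.zpowers R) hrel u
      (hu ▸ pow_orderOf_eq_one u) fun g _ hg => hnc (by
        have h2 : orderOf (g * u * g⁻¹) = 2 := by
          rw [← hu]; exact (MulAut.conj g).orderOf_eq u
        rw [← hrot _ hg h2]
        exact isConj_iff.2 ⟨g, rfl⟩)
    exact ⟨M, hM, hM2⟩
  -- one of `s`, `t` fused with `z` and the other not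
  have htwo : ∀ a b : G, ({s, t} : Set G) = {a, b} → IsConj a z → ¬ IsConj b z →
      (({ConjClasses.mk z, ConjClasses.mk s, ConjClasses.mk t} : Set (ConjClasses G)).ncard = 2 ∧
        (∃ N : Subgroup G, N.Normal ∧ N.index = 2) ∧
          ∀ N : Subgroup G, N.Normal → N.index ≠ 4) := by
    intro a b hab ha hb
    have hb2 : orderOf b = 2 := by
      have : b ∈ ({s, t} : Set G) := by rw [hab]; simp
      rcases this with rfl | rfl
      exacts [hs2, ht2]
    refine ⟨?_, hindex2 b hb2 hb, fun N hN hN4 => ?_⟩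
    · have h1 : ({ConjClasses.mk z, ConjClasses.mk s, ConjClasses.mk t} : Set (ConjClasses G)) =
          {ConjClasses.mk z, ConjClasses.mk b} := by
        have h2 := congrArg (fun S : Set G => ConjClasses.mk '' S) hab
        simp only [Set.image_insert_eq, Set.image_singleton] at h2
        rw [h2, ConjClasses.mk_eq_mk_iff_isConj.2 ha]
        simp
      rw [h1, Set.ncard_pair]
      exact fun h => hb (ConjClasses.mk_eq_mk_iff_isConj.1 h).symm
    · haveI := hN
      set q := QuotientGroup.mk' N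
      have hc4 : Nat.card (G ⧸ N) = 2 ^ 2 := hN4
      have hcomm : ∀ x y : G ⧸ N, x * y = y * x :=
        IsPGroup.commutative_of_card_eq_prime_sq hc4
      have hqs : q s * q s = 1 := by
        rw [← map_mul, ← pow_two, ← hs2, pow_orderOf_eq_one, map_one]
      have hqt : q t * q t = 1 := by
        rw [← map_mul, ← pow_two, ← ht2, pow_orderOf_eq_one, map_one]
      have hqR : q R * q R = 1 := by
        rw [← hst, map_mul, mul_assoc, ← mul_assoc (q t), hcomm (q t) (q s), mul_assoc, hqt,
          mul_one, hqs]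
      have hqz : q z = 1 := by
        obtain ⟨j, hj⟩ := hk
        rw [hzR, hj, map_pow, pow_add, ← (Commute.refl (q R)).mul_pow, hqR, one_pow]
      have hqa : q a = 1 := by
        obtain ⟨c, hc⟩ := isConj_iff.1 ha
        rw [← hqz, ← hc, map_mul, map_mul, hcomm (q c), mul_assoc, map_inv, mul_inv_cancel,
          mul_one]
      have hmemb : ∀ x ∈ ({s, t} : Set G), q x ∈ Subgroup.zpowers (q b) := by
        rw [hab]
        rintro x (rfl | rfl)
        · rw [hqa]; exact one_mem _
        · exact Subgroup.mem_zpowers _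
      have hle : (P : Subgroup G) ≤ (Subgroup.zpowers (q b)).comap q := by
        refine hgen _ (hmemb s (by simp)) ?_
        rw [Subgroup.mem_comap, ← hst, map_mul]
        exact mul_mem (hmemb s (by simp)) (hmemb t (by simp))
      have htop : (Subgroup.zpowers (q b)) = ⊤ := by
        rw [eq_top_iff, ← MonoidHom.range_eq_top.2 (QuotientGroup.mk'_surjective N),
          MonoidHom.range_eq_map, ← hidx N hN (by omega) 2 hN4, Subgroup.map_sup,
          (Subgroup.map_eq_bot_iff N).2 (QuotientGroup.ker_mk' N).ge, sup_bot_eq]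
        exact Subgroup.map_le_iff_le_comap.2 hle
      have h4 : Nat.card (Subgroup.zpowers (q b)) = 4 := by
        rw [htop, Subgroup.card_top, hc4]; norm_num
      rw [Nat.card_zpowers] at h4
      have := Nat.le_of_dvd two_pos (hb2 ▸ orderOf_map_dvd q b)
      omega
  by_cases hsz : IsConj s z <;> by_cases htz : IsConj t z
  · left
    refine ⟨?_, fun N hN hN2 => ?_⟩
    · rw [ConjClasses.mk_eq_mk_iff_isConj.2 hsz, ConjClasses.mk_eq_mk_iff_isConj.2 htz]
      simp
    · obtain ⟨j, hj⟩ := hk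
      have hzN : z ∈ N := by
        rw [hzR, hj, pow_add]
        exact Subgroup.mul_self_mem_of_index_two hN2 _
      have hconjN : ∀ x : G, IsConj x z → x ∈ N := fun x hx => by
        obtain ⟨c, hc⟩ := isConj_iff.1 hx.symm
        exact hc ▸ hN.conj_mem z hzN c
      have hle := hgen N (hconjN s hsz) (hst ▸ mul_mem (hconjN s hsz) (hconjN t htz))
      have hd := Subgroup.index_dvd_of_le hle
      rw [hN2] at hd
      exact P.not_dvd_index hd
  · exact Or.inr (Or.inl (htwo s t rfl hsz htz))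
  · exact Or.inr (Or.inl (htwo t s (Set.pair_comm s t) htz hsz))
  -- no fusion of the central involution: a normal 2-complement
  right; right
  have hrefl : ∀ i : ZMod (2 * k), ¬ IsConj (ι (sr i)) z := fun i h =>
    (sr_isConj i).elim (fun h' => hsz ((ι.map_isConj h').symm.trans h))
      (fun h' => htz ((ι.map_isConj h').symm.trans h))
  have hrot' : ∀ x ∈ (P : Subgroup G), x ∉ Subgroup.zpowers R → ∃ i, ι (sr i) = x := by
    intro x hx hxR
    obtain ⟨d, rfl⟩ := hsurj x hx
    rcases d with a | i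
    · exact absurd (hRpow a ▸ pow_mem (Subgroup.mem_zpowers R) _) hxR
    · exact ⟨i, rfl⟩
  have hF : CfsgLib.Transfer.FrobeniusCond 2 G := by
    refine CfsgLib.Transfer.frobeniusCond_of_le_sylow P fun Q hQ g hg hco => ?_
    have hQc : ∀ h ∈ Subgroup.normalizer (Q : Set G), ∀ x ∈ Q,
        x ∈ Subgroup.zpowers R → h * x * h⁻¹ ∈ Subgroup.zpowers R := by
      intro h hh x hx hxR
      have hy : h * x * h⁻¹ ∈ Q := (Subgroup.mem_normalizer_iff.1 hh x).1 hx
      by_contra hyR
      obtain ⟨i, hi⟩ := hrot' _ (hQ hy) hyR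
      have h2 : orderOf x = 2 := by
        rw [← orderOf_sr i, ← orderOf_injective ι hinj (sr i), hi]
        exact ((MulAut.conj h).orderOf_eq x).symm
      exact hrefl i (by
        rw [hi, ← hrot x hxR h2]
        exact (isConj_iff.2 ⟨h, rfl⟩ : IsConj x (h * x * h⁻¹)).symm)
    set C := Q ⊓ Subgroup.zpowers R with hC
    have hgC : g ∈ Subgroup.normalizer (C : Set G) := by
      rw [Subgroup.mem_normalizer_iff]
      intro x
      constructor
      · rintro ⟨hx, hxR⟩
        exact ⟨(Subgroup.mem_normalizer_iff.1 hg x).1 hx, hQc g hg x hx hxR⟩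
      · rintro ⟨hx, hxR⟩
        have h2 := hQc g⁻¹ (Subgroup.inv_mem _ hg) _ hx hxR
        rw [show g⁻¹ * (g * x * g⁻¹) * g⁻¹⁻¹ = x by group] at h2
        exact ⟨(Subgroup.mem_normalizer_iff.1 hg x).2 hx, h2⟩
    have hCc : ∀ c ∈ C, g * c * g⁻¹ = c := by
      haveI : IsCyclic C :=
        isCyclic_of_injective (Subgroup.inclusion (inf_le_right : C ≤ Subgroup.zpowers R))
          (Subgroup.inclusion_injective _)
      obtain ⟨j, hj⟩ := (P.2.to_le (inf_le_left.trans hQ : C ≤ (P : Subgroup G))).exists_card_eq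
      have hpow : (Nat.card (MulAut C)).Coprime (orderOf g) := by
        rw [IsCyclic.card_mulAut, hj]
        rcases j with _ | j
        · simp
        · rw [Nat.totient_prime_pow_succ Nat.prime_two]
          simpa using Nat.Coprime.pow_left j hco.symm
      let g' : Subgroup.normalizer (C : Set G) := ⟨g, hgC⟩
      have h1 : C.normalizerMonoidHom g' = 1 := orderOf_eq_one_iff.1 <|
        Nat.eq_one_of_dvd_coprimes hpow (orderOf_dvd_natCard _)
          ((orderOf_map_dvd _ _).trans (by rw [← Subgroup.orderOf_coe]))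
      intro c hc
      have h2 : g' ∈ C.normalizerMonoidHom.ker := h1
      rw [Subgroup.normalizerMonoidHom_ker, Subgroup.mem_subgroupOf,
        Subgroup.mem_centralizer_iff] at h2
      change ∀ h ∈ (C : Set G), h * g = g * h at h2
      rw [← h2 c hc, mul_inv_cancel_right]
    rw [Subgroup.mem_centralizer_iff]
    intro x hx
    suffices h : g * x * g⁻¹ = x from (mul_inv_eq_iff_eq_mul.1 h).symm
    by_cases hxR : x ∈ Subgroup.zpowers R
    · exact hCc x ⟨hx, hxR⟩
    have hy : g * x * g⁻¹ ∈ Q := (Subgroup.mem_normalizer_iff.1 hg x).1 hx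
    have hyR : g * x * g⁻¹ ∉ Subgroup.zpowers R := fun h => by
      have h2 := hQc g⁻¹ (Subgroup.inv_mem _ hg) _ hy h
      rw [show g⁻¹ * (g * x * g⁻¹) * g⁻¹⁻¹ = x by group] at h2
      exact hxR h2
    obtain ⟨i, hi⟩ := hrot' x (hQ hx) hxR
    obtain ⟨i', hi'⟩ := hrot' _ (hQ hy) hyR
    set w := x⁻¹ * (g * x * g⁻¹) with hw
    have hwC : w ∈ C := by
      refine ⟨Subgroup.mul_mem Q (Subgroup.inv_mem Q hx) hy, ?_⟩
      rw [hw, ← hi', ← hi, ← map_inv, ← map_mul, inv_sr, sr_mul_sr, hRpow]
      exact pow_mem (Subgroup.mem_zpowers R) _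
    have hcw := hCc w hwC
    have hiter : ∀ j : ℕ, g ^ j * x * (g ^ j)⁻¹ = x * w ^ j := by
      intro j
      induction j with
      | zero => simp
      | succ j ih =>
        have hcw0 : Commute g w := mul_inv_eq_iff_eq_mul.1 hcw
        have hcw' : Commute g (w ^ j) := hcw0.pow_right j
        calc g ^ (j + 1) * x * (g ^ (j + 1))⁻¹ = g * (g ^ j * x * (g ^ j)⁻¹) * g⁻¹ := by
              rw [pow_succ']; group
          _ = g * x * g⁻¹ * (g * w ^ j * g⁻¹) := by rw [ih]; group
          _ = g * x * g⁻¹ * w ^ j := by rw [hcw'.eq, mul_inv_cancel_right]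
          _ = x * w ^ (j + 1) := by
              rw [show g * x * g⁻¹ = x * w by rw [hw, mul_inv_cancel_left], pow_succ', mul_assoc]
    have h1 : w ^ orderOf g = 1 := by
      have h2 := hiter (orderOf g)
      rw [pow_orderOf_eq_one] at h2
      simpa using h2.symm
    obtain ⟨j, hj⟩ := IsPGroup.iff_orderOf.1 P.2 ⟨w, hQ hwC.1⟩
    rw [Subgroup.orderOf_mk] at hj
    have hw1 : w = 1 := orderOf_eq_one_iff.1 (Nat.eq_one_of_dvd_coprimes (hco.pow_right j)
      (orderOf_dvd_of_pow_eq_one h1) (dvd_of_eq hj))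
    exact (inv_mul_eq_one.1 hw1).symm
  refine ⟨?_, CfsgLib.Transfer.hasNormalPComplement_of_frobeniusCond hF⟩
  have h12 : ¬ IsConj s t := by
    intro h
    obtain ⟨g, hg⟩ := isConj_iff.1 h
    obtain ⟨u, hu, hu'⟩ := hF.controls P s (hmem _) g (by rw [hg]; exact hmem _)
    obtain ⟨c, rfl⟩ := hsurj u hu
    rw [hg, hs, ht, ← map_inv, ← map_mul, ← map_mul] at hu'
    exact sr_zero_not_conj_sr_one c (hinj hu')
  rw [Set.ncard_insert_of_notMem, Set.ncard_pair]
  · exact fun h => h12 (ConjClasses.mk_eq_mk_iff_isConj.1 h)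
  · simp only [Set.mem_insert_iff, Set.mem_singleton_iff, ConjClasses.mk_eq_mk_iff_isConj]
    rintro (h | h)
    exacts [hsz h.symm, htz h.symm]

/-- Let G be a finite group whose Sylow 2-subgroups are dihedral of order 2 ^ n with n ≥ 3, and count the conjugacy classes of involutions of G. Then exactly one of the following holds: there is one class of involutions and no normal subgroup of index 2; there are two classes of involutions, a normal subgroup of index 2 and none of index 4; there are three classes of involutions and G has a normal 2-complement. -/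
theorem result {G : Type*} [Group G] [Finite G] (P : Sylow 2 G) (n : ℕ) (hn : 3 ≤ n) (hdih : Nonempty (↥(P : Subgroup G) ≃* DihedralGroup (2 ^ (n - 1)))) : (Nat.card {C : ConjClasses G // ∃ g : G, ConjClasses.mk g = C ∧ orderOf g = 2} = 1 ∧ ∀ N : Subgroup G, N.Normal → N.index ≠ 2) ∨ (Nat.card {C : ConjClasses G // ∃ g : G, ConjClasses.mk g = C ∧ orderOf g = 2} = 2 ∧ (∃ N : Subgroup G, N.Normal ∧ N.index = 2) ∧ ∀ N : Subgroup G, N.Normal → N.index ≠ 4) ∨ (Nat.card {C : ConjClasses G // ∃ g : G, ConjClasses.mk g = C ∧ orderOf g = 2} = 3 ∧ Cfsg.HasNormalPComplement 2 G) := by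
  obtain ⟨e⟩ := hdih
  obtain ⟨l, rfl⟩ : ∃ l, n = l + 3 := ⟨n - 3, by omega⟩
  have h : 2 ^ (l + 3 - 1) = 2 * 2 ^ (l + 1) := by
    rw [← pow_succ']; rfl
  rw [h] at e
  exact main P (2 ^ (l + 1)) (by simp [Nat.even_pow]) (by positivity) e.symm

end Cfsg.Agent.S3864
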