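import Cfsg.Statements.S2603
import Cfsg.Agent.Lib.AutPSU.Out

set_option autoImplicit false
open Cfsg CfsgLib.AutPSU

namespace Cfsg.Agent.S2603

/-- Structure of the outer automorphism group of PSU_n(q), n ≥ 3, (n, q) ≠ (3, 2), q = p^f, realised over the field with q² elements: it has a normal cyclic subgroup of order gcd(n, q + 1) (diagonal automorphisms) with cyclic quotient of order 2f (generated by the Frobenius field automorphism of the field with q² elements, whose f-th power is the graph automorphism). -/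
theorem result {K : Type*} [Field K] [Fintype K] {p f q n : ℕ} [Fact p.Prime] (hf : 1 ≤ f) (hq : q = p ^ f) (hK : Fintype.card K = q ^ 2) (hn : 3 ≤ n) (h32 : ¬ (n = 3 ∧ q = 2)) : ∃ φ : Cfsg.Out (Cfsg.PSU n K q) →* Multiplicative (ZMod (2 * f)), Function.Surjective φ ∧ IsCyclic φ.ker ∧ Nat.card φ.ker = Nat.gcd n (q + 1) := by
  obtain ⟨m, rfl⟩ : ∃ m, n = m + 2 := ⟨n - 2, by omega⟩
  have h2 := CfsgLib.ClassicalGroups.herm_two_le hK
  have hs : m = 1 → 3 ≤ q := fun h => by
    rcases Nat.lt_or_ge q 3 with h' | h'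
    · exact absurd ⟨by omega, by omega⟩ h32
    · exact h'
  obtain ⟨e⟩ := CfsgLib.AutPSL.nonempty_ringAut_equiv (F := K) (p := p) (f := 2 * f)
    (by rw [hK, hq, ← pow_mul, mul_comm])
  have hN : ((conjU : GUG (m + 2) K q →* MulAut (PSUG (m + 2) K q)).range).Normal :=
    inndiag_eq_range (n := m + 2) (F := K) (q := q) ▸ normal_inndiag hK (by omega) hs
  obtain ⟨φ, hφ, hker⟩ := CfsgLib.AutPSL.exists_out_hom
    (conjU : GUG (m + 2) K q →* MulAut (PSUG (m + 2) K q)).range inn_le_range
    ((fieldU : (K ≃+* K) →* MulAut (PSUG (m + 2) K q)).comp e.symm.toMonoidHom) (by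
      rintro x ⟨g, hg⟩
      exact e.symm.injective ((field_eq_one_of_conjU hK (by omega) hg).trans (map_one e.symm).symm)) (by
      intro β
      obtain ⟨g, σ, rfl⟩ := aut_psu_structure hK (by omega) hs β
      exact ⟨_, ⟨g, rfl⟩, e σ, by simp⟩)
  obtain ⟨hcyc, hcard⟩ := diag_image (m := m) hK (by omega)
  exact ⟨φ, hφ, hker ▸ hcyc, hker ▸ hcard⟩

end Cfsg.Agent.S2603
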