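import Cfsg.Statements.S1238
import Cfsg.Agent.Lib.RankTwoTypes.Fusion
import Cfsg.Agent.Lib.Fusion.Group

set_option autoImplicit false
open Cfsg

namespace Cfsg.Agent.S1238

/-- Let G be a finite group of 2-rank 2 (a Klein four-subgroup but no elementary abelian subgroup of order 8) which is fusion simple: G has no subgroup of index 2 and no isolated involution. Let S be a Sylow 2-subgroup. Then S is dihedral, quasi-dihedral, wreathed, isomorphic to Z_{2^n} × Z_{2^n} for some n ≥ 2, or isomorphic to a Sylow 2-subgroup of PSU(3) over the field with 16 elements. -/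
theorem result {G : Type*} [Group G] [Finite G] (h2 : Cfsg.PRankLE 2 2 G) (h1 : ¬ Cfsg.PRankLE 2 1 G) (hidx : ∀ H : Subgroup G, H.index ≠ 2) (hiso : ∀ z : G, ¬ Cfsg.IsIsolatedInvolution z) (S : Sylow 2 G) {F : Type*} [Field F] [Fintype F] (hF : Fintype.card F = 16) (P : Sylow 2 (Cfsg.PSU 3 F 4)) : (∃ m : ℕ, 2 ≤ m ∧ Nonempty ((S : Subgroup G) ≃* DihedralGroup m)) ∨ Cfsg.IsQuasiDihedral (S : Subgroup G) ∨ Cfsg.IsWreathed (S : Subgroup G) ∨ (∃ n : ℕ, 2 ≤ n ∧ Nonempty ((S : Subgroup G) ≃* Multiplicative (ZMod (2 ^ n) × ZMod (2 ^ n)))) ∨ Nonempty ((S : Subgroup G) ≃* (P : Subgroup (Cfsg.PSU 3 F 4))) := by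
  haveI : Fact (Nat.Prime 2) := ⟨Nat.prime_two⟩
  have hS : IsPGroup 2 (S : Subgroup G) := S.2
  have hmap : ∀ A : Subgroup (S : Subgroup G), Nat.card A = Nat.card (A.map (S : Subgroup G).subtype) := fun A =>
    Nat.card_congr (A.equivMapOfInjective _ (S : Subgroup G).subtype_injective).toEquiv
  have h2S : Cfsg.PRankLE 2 2 (S : Subgroup G) := fun A hA hA2 => by
    haveI := hA
    rw [hmap]
    exact h2 _ inferInstance (by rintro _ ⟨a, ha, rfl⟩; exact congrArg Subtype.val (hA2 a ha))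
  have h1S : ¬ Cfsg.PRankLE 2 1 (S : Subgroup G) := fun hle => h1 fun A hA hA2 => by
    haveI := hA
    have hAp : IsPGroup 2 A := fun a => ⟨1, Subtype.ext (by simpa using hA2 a a.2)⟩
    obtain ⟨T, hT⟩ := hAp.exists_le_sylow
    obtain ⟨g, hg⟩ := MulAction.exists_smul_eq G T S
    set B := A.map (MulAut.conj g).toMonoidHom with hB
    have hBS : B ≤ (S : Subgroup G) := by
      rw [← hg, Sylow.coe_subgroup_smul]
      rintro _ ⟨a, ha, rfl⟩
      exact Subgroup.smul_mem_pointwise_smul _ (MulAut.conj g) _ (hT ha)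
    have hc : Nat.card A = Nat.card (B.subgroupOf (S : Subgroup G)) := by
      rw [Nat.card_congr (Subgroup.subgroupOfEquivOfLe hBS).toEquiv, hB]
      exact Nat.card_congr (A.equivMapOfInjective _ (MulAut.conj g).injective).toEquiv
    rw [hc]
    refine hle _ ⟨⟨fun x y => ?_⟩⟩ fun x hx => Subtype.ext ?_
    · obtain ⟨a, ha, hae⟩ := x.2
      obtain ⟨b, hb, hbe⟩ := y.2
      refine Subtype.ext (Subtype.ext ?_)
      show ((x : (S : Subgroup G)) : G) * y = y * x
      rw [← (show _ = ((x : (S : Subgroup G)) : G) from hae), ← (show _ = ((y : (S : Subgroup G)) : G) from hbe),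
        ← map_mul, ← map_mul]
      exact congrArg _ (congrArg Subtype.val (hA.is_comm.comm ⟨a, ha⟩ ⟨b, hb⟩))
    · obtain ⟨a, ha, hae⟩ := hx
      show (x : G) ^ 2 = 1
      rw [← (show _ = (x : G) from hae), ← map_pow, hA2 a ha, map_one]
  refine CfsgLib.RankTwoTypes.types_of_saturated hS (CfsgLib.Fusion.group_saturated S) h2S h1S ?_ hF P
  intro z hz hzo
  have hn := hiso z
  unfold Cfsg.IsIsolatedInvolution at hn
  push Not at hn
  obtain ⟨g, hgc, hgne⟩ := hn hzo
  set w := g * z * g⁻¹ with hw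
  set K := Subgroup.centralizer ({z} : Set G) with hK
  have hwK : w ∈ K := Subgroup.mem_centralizer_singleton_iff.2 hgc.eq.symm
  have hSK : (S : Subgroup G) ≤ K := fun s hs => Subgroup.mem_centralizer_singleton_iff.2
    (CfsgLib.FusionCentralTwo.comm_of_zen hz hs).eq
  obtain ⟨c, hcK, hcS⟩ := CfsgLib.Fusion.exists_conj_into (p := 2) (X := Subgroup.zpowers w)
    (Subgroup.zpowers_le.2 hwK) (IsPGroup.of_card (n := 1) (by
      rw [Nat.card_zpowers, pow_one, hw, ← MulAut.conj_apply, MulEquiv.orderOf_eq, hzo])) hSK (by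
      refine le_antisymm (CfsgLib.Fusion.card_le_sylowCard hSK S.2) ?_
      rw [S.card_eq_multiplicity]
      exact Nat.pow_le_pow_right (by norm_num)
        ((Nat.factorization_le_iff_dvd Nat.card_pos.ne' Nat.card_pos.ne').mpr
          (Subgroup.card_subgroup_dvd_card _) 2))
  refine ⟨c * w * c⁻¹, fun e => hgne ?_, ?_⟩
  · calc w = c⁻¹ * (c * w * c⁻¹) * c := by group
      _ = z := by
        rw [e, mul_assoc, ← Subgroup.mem_centralizer_singleton_iff.1 hcK, inv_mul_cancel_left]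
  · have hmem : ∀ x ∈ Subgroup.zpowers z, (c * g) * x * (c * g)⁻¹ ∈ (S : Subgroup G) := by
      rintro _ ⟨i, rfl⟩
      have := hcS _ (Subgroup.zpow_mem _ (Subgroup.mem_zpowers w) i)
      rw [hw, conj_zpow] at this
      convert this using 1
      group
    exact ⟨Cfsg.conjHom _ (c * g),
      CfsgLib.Fusion.group_conjHom_mem (Subgroup.zpowers_le.2 hz.1) hmem,
      show (c * g) * z * (c * g)⁻¹ = c * w * c⁻¹ by rw [hw]; group⟩

end Cfsg.Agent.S1238
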