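import Cfsg.Statements.S2475
import Cfsg.Agent.Lib.SpecLin.SLTwoTrace
import Cfsg.Agent.Lib.SpecLin.OrderBasics
import Cfsg.Agent.Lib.SpecLin.FieldEmbed

namespace Cfsg.Agent.S2475

open Matrix CfsgLib.SpecLin CfsgLib.SpecLin.SLTwo

variable {F : Type*} [Field F] [Fintype F]

local notation "SL2" => Matrix.SpecialLinearGroup (Fin 2) F
local notation "PSL2" => Matrix.ProjectiveSpecialLinearGroup (Fin 2) F

/-- The centre is the kernel of the `d`th power map, `d = gcd(2, q-1)`. -/
theorem mem_center_iff_pow {Y : SL2} :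
    Y ∈ Subgroup.center SL2 ↔ Y ^ Nat.gcd 2 (Fintype.card F - 1) = 1 := by
  rcases eq_or_ne (2 : F) 0 with h2 | h2
  · have hc : CharP F 2 := CharTwo.of_one_ne_zero_of_two_eq_zero one_ne_zero h2
    have hd : Nat.gcd 2 (Fintype.card F - 1) = 1 := by
      have h : 2 ∣ Fintype.card F := (CharP.cast_eq_zero_iff F 2 _).1 (FiniteField.cast_card_eq_zero F)
      have := Fintype.one_lt_card (α := F)
      rw [← Nat.coprime_iff_gcd_eq_one, Nat.coprime_two_left, Nat.odd_iff]
      omega
    rw [hd, pow_one]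
    constructor
    · intro h
      rcases mem_center_iff'.1 h with h | h <;> apply Subtype.ext <;> rw [h] <;>
        simp [CharTwo.neg_eq]
    · rintro rfl; exact one_mem _
  · have hd : Nat.gcd 2 (Fintype.card F - 1) = 2 := by
      have := odd_card h2
      exact Nat.gcd_eq_left (by omega)
    rw [hd]
    constructor
    · intro h
      rcases mem_center_iff'.1 h with h | h <;> apply Subtype.ext <;>
        rw [Matrix.SpecialLinearGroup.coe_pow, h] <;> simp
    · intro h
      have h' : (Y : Matrix (Fin 2) (Fin 2) F) * Y = 1 := by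
        rw [← Matrix.SpecialLinearGroup.coe_mul, ← sq, h, Matrix.SpecialLinearGroup.coe_one]
      rw [sq_eq _ Y.prop, sub_eq_iff_eq_add] at h'
      set t := (Y : Matrix (Fin 2) (Fin 2) F).trace
      have ht : t ≠ 0 := by
        intro ht
        rw [ht, zero_smul] at h'
        have := congrFun (congrFun h' 0) 0
        simp [one_add_one_eq_two] at this
        exact h2 (by linear_combination -this)
      refine mem_center_of_scalar (s := t⁻¹ * 2) ?_
      rw [← smul_smul, two_smul, ← h', smul_smul, inv_mul_cancel₀ ht, one_smul]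

/-- Order in `PSL_2` of the image of an element. -/
theorem orderOf_mk {X : SL2} (hd : Nat.gcd 2 (Fintype.card F - 1) ∣ orderOf X) :
    orderOf (QuotientGroup.mk X : PSL2) = orderOf X / Nat.gcd 2 (Fintype.card F - 1) := by
  set d := Nat.gcd 2 (Fintype.card F - 1)
  have hd0 : 0 < d := Nat.gcd_pos_of_pos_left _ two_pos
  apply Nat.dvd_antisymm
  · apply orderOf_dvd_of_pow_eq_one
    rw [← QuotientGroup.mk_pow, QuotientGroup.eq_one_iff, mem_center_iff_pow, ← pow_mul,
      Nat.div_mul_cancel hd, pow_orderOf_eq_one]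
  · rw [Nat.div_dvd_iff_dvd_mul hd hd0, mul_comm]
    apply orderOf_dvd_of_pow_eq_one
    rw [pow_mul, ← mem_center_iff_pow, ← QuotientGroup.eq_one_iff, QuotientGroup.mk_pow,
      pow_orderOf_eq_one]

theorem exists_order_split : ∃ X : SL2, orderOf X = Fintype.card F - 1 := by
  obtain ⟨g, hg⟩ := IsCyclic.exists_generator (α := Fˣ)
  let f : Fˣ →* SL2 :=
    { toFun := fun a => ⟨!![(a : F), 0; 0, (a⁻¹ : Fˣ)], by simp [Matrix.det_fin_two]⟩
      map_one' := by
        apply Subtype.ext
        ext i j; fin_cases i <;> fin_cases j <;> simp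
      map_mul' := fun a b => by
        apply Subtype.ext
        change !![((a * b : Fˣ) : F), 0; 0, ((a * b)⁻¹ : Fˣ)] =
          !![(a : F), 0; 0, (a⁻¹ : Fˣ)] * !![(b : F), 0; 0, (b⁻¹ : Fˣ)]
        ext i j
        fin_cases i <;> fin_cases j <;> simp [Matrix.mul_apply, mul_comm] }
  have hf : Function.Injective f := fun a b h => by
    have := congrFun (congrFun (congrArg (fun M : SL2 => (M : Matrix (Fin 2) (Fin 2) F)) h) 0) 0
    exact Units.ext this
  refine ⟨f g, ?_⟩
  rw [orderOf_injective f hf, orderOf_eq_card_of_forall_mem_zpowers hg, Nat.card_units,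
    Nat.card_eq_fintype_card]

theorem exists_order_nonsplit : ∃ X : SL2, orderOf X = Fintype.card F + 1 := by
  obtain ⟨p, hp⟩ := CharP.exists F
  have hprime : Fact p.Prime := ⟨CharP.char_is_prime F p⟩
  let K := FiniteField.Extension F p 2
  have hfin : Finite K := Module.finite_of_finite F
  obtain ⟨f, hf, hdet⟩ := exists_unitsHom_of_extension F K (FiniteField.finrank_extension F p 2)
  obtain ⟨g, hg⟩ := IsCyclic.exists_generator (α := Kˣ)
  have hq := Fintype.one_lt_card (α := F)
  have hcard : orderOf g = Fintype.card F ^ 2 - 1 := by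
    rw [orderOf_eq_card_of_forall_mem_zpowers hg, Nat.card_units, FiniteField.natCard_extension,
      Nat.card_eq_fintype_card]
  have hd : (f (g ^ (Fintype.card F - 1))).det = 1 := by
    rw [hdet, Units.val_pow_eq_pow_val, map_pow]
    exact FiniteField.pow_card_sub_one_eq_one _ (Algebra.norm_ne_zero_iff.2 g.ne_zero)
  refine ⟨⟨_, hd⟩, ?_⟩
  rw [← orderOf_injective ((Units.coeHom (Matrix (Fin 2) (Fin 2) F)).comp Matrix.SpecialLinearGroup.toGL)
    (Units.val_injective.comp Matrix.SpecialLinearGroup.toGL_injective) ⟨_, hd⟩]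
  change orderOf (f (g ^ (Fintype.card F - 1))) = _
  rw [orderOf_injective f hf, orderOf_pow' g (by omega), hcard]
  obtain ⟨m, hm⟩ : ∃ m, Fintype.card F = m + 2 := ⟨Fintype.card F - 2, by omega⟩
  rw [hm, show (m + 2) ^ 2 - 1 = (m + 3) * (m + 1) from Nat.sub_eq_of_eq_add (by ring),
    show m + 2 - 1 = m + 1 from rfl, Nat.gcd_mul_left_left, Nat.mul_div_cancel _ (by omega)]

theorem result {F : Type*} [Field F] [Fintype F] (p : ℕ) [Fact p.Prime] [CharP F p] (h4 : 4 ≤ Fintype.card F) :
    Set.range (orderOf : Matrix.ProjectiveSpecialLinearGroup (Fin 2) F → ℕ) =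
      {m : ℕ | m ∣ p ∨ m ∣ (Fintype.card F - 1) / Nat.gcd 2 (Fintype.card F - 1) ∨ m ∣ (Fintype.card F + 1) / Nat.gcd 2 (Fintype.card F - 1)} := by
  classical
  have hd1 : Nat.gcd 2 (Fintype.card F - 1) ∣ Fintype.card F - 1 := Nat.gcd_dvd_right _ _
  have hd2 : Nat.gcd 2 (Fintype.card F - 1) ∣ Fintype.card F + 1 := by
    have h : Fintype.card F + 1 = (Fintype.card F - 1) + 2 := by omega
    rw [h]
    exact dvd_add (Nat.gcd_dvd_right _ _) (Nat.gcd_dvd_left _ _)
  apply Set.Subset.antisymm
  · rintro _ ⟨g, rfl⟩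
    obtain ⟨X, rfl⟩ := QuotientGroup.mk_surjective g
    have key : ∀ k, Nat.gcd 2 (Fintype.card F - 1) ∣ k → X ^ k = 1 →
        orderOf (QuotientGroup.mk X : Matrix.ProjectiveSpecialLinearGroup (Fin 2) F) ∣
          k / Nat.gcd 2 (Fintype.card F - 1) := fun k hk hX => by
      apply orderOf_dvd_of_pow_eq_one
      rw [← QuotientGroup.mk_pow, QuotientGroup.eq_one_iff, mem_center_iff_pow, ← pow_mul,
        Nat.div_mul_cancel hk, hX]
    by_cases ht : (X : Matrix (Fin 2) (Fin 2) F).trace ^ 2 = 4
    · left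
      apply orderOf_dvd_of_pow_eq_one
      rw [← QuotientGroup.mk_pow, QuotientGroup.eq_one_iff]
      exact pow_char_mem_center p ht
    · by_cases hr : ∃ r : F, r * r - (X : Matrix (Fin 2) (Fin 2) F).trace * r + 1 = 0
      · obtain ⟨r, hr⟩ := hr
        exact Or.inr (Or.inl (key _ hd1 (pow_card_sub_one_of_root ht hr)))
      · push Not at hr
        exact Or.inr (Or.inr (key _ hd2 (pow_card_add_one_of_no_root hr)))
  · rintro m hm
    have hne : ∀ g : Matrix.ProjectiveSpecialLinearGroup (Fin 2) F, orderOf g ≠ 0 := fun g =>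
      (orderOf_pos g).ne'
    rcases hm with hm | hm | hm
    · let X : Matrix.SpecialLinearGroup (Fin 2) F := ⟨!![1, 1; 0, 1], by simp [Matrix.det_fin_two]⟩
      have hX : orderOf (QuotientGroup.mk X : Matrix.ProjectiveSpecialLinearGroup (Fin 2) F) = p := by
        apply orderOf_eq_prime
        · rw [← QuotientGroup.mk_pow, QuotientGroup.eq_one_iff]
          exact pow_char_mem_center p (by simp [X, Matrix.trace_fin_two]; norm_num)
        · intro h
          rw [QuotientGroup.eq_one_iff, mem_center_iff'] at h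
          rcases h with h | h <;> simpa [X] using congrFun (congrFun h 0) 1
      exact exists_orderOf_eq_of_dvd (hne _) (hX ▸ hm)
    · obtain ⟨X, hX⟩ := exists_order_split (F := F)
      refine exists_orderOf_eq_of_dvd (hne (QuotientGroup.mk X)) ?_
      rw [orderOf_mk (hX ▸ hd1), hX]
      exact hm
    · obtain ⟨X, hX⟩ := exists_order_nonsplit (F := F)
      refine exists_orderOf_eq_of_dvd (hne (QuotientGroup.mk X)) ?_
      rw [orderOf_mk (hX ▸ hd2), hX]
      exact hm

end Cfsg.Agent.S2475
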