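import Cfsg.Statements.S4689
import Cfsg.Agent.Lib.NilBlk.Main

set_option autoImplicit false
open Cfsg

namespace Cfsg.Agent.S4689

/-- Fix a prime p and a maximal ideal M of the algebraic integers containing p, and a nilpotent p-block B of the finite group G. Then B has p-regular rank one (a single irreducible Brauer character), and some χ₀ ∈ B restricts to that Brauer character: every χ ∈ B agrees on the p-regular elements with a natural-number multiple of χ₀. -/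
theorem result {G : Type*} [Group G] [Fintype G] (p : ℕ) [Fact p.Prime] (M : Ideal Cfsg.AlgInt) (hM : Cfsg.IsPModular p M) (B : Set (Cfsg.IrrCharacter G)) (hnil : Cfsg.IsNilpotentBlock p M B) : Cfsg.blockRank p B = 1 ∧ ∃ χ₀ ∈ B, ∀ χ ∈ B, ∃ d : ℕ, ∀ x : G, Cfsg.pRegularPart p (χ : G → ℂ) x = (d : ℂ) * Cfsg.pRegularPart p (χ₀ : G → ℂ) x := by
  have := hM.2.1
  obtain ⟨D, hD⟩ := CfsgLib.BrauerPairs.exists_defectGroup hM hnil.1
  obtain ⟨e, he⟩ := CfsgLib.NilBlk.exists_maximalPair hM hnil.1 hD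
  obtain ⟨χ₀, hχ₀, Φ, hΦ⟩ :=
    CfsgLib.NilBlk.exists_equiv (CfsgLib.NilBlk.nilCtx_of_nilpotent hM hnil he)
  have hd : ∀ χ ∈ B, ∃ d : ℕ, ∀ x : G, Cfsg.pRegularPart p (χ : G → ℂ) x =
      (d : ℂ) * Cfsg.pRegularPart p (χ₀ : G → ℂ) x := fun χ hχ => by
    refine ⟨Cfsg.charDegree ((Φ.symm ⟨χ, hχ⟩ : Cfsg.IrrCharacter D) : D → ℂ), fun x => ?_⟩
    have h1 := (hΦ (Φ.symm ⟨χ, hχ⟩)).2 x
    rwa [Equiv.apply_symm_apply] at h1
  refine ⟨?_, χ₀, hχ₀, hd⟩
  have hspan : Submodule.span ℂ ((fun χ : Cfsg.IrrCharacter G =>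
      Cfsg.pRegularPart p (χ : G → ℂ)) '' B) = ℂ ∙ Cfsg.pRegularPart p (χ₀ : G → ℂ) := by
    refine le_antisymm (Submodule.span_le.2 ?_)
      (Submodule.span_mono (Set.singleton_subset_iff.2 ⟨χ₀, hχ₀, rfl⟩))
    rintro _ ⟨χ, hχ, rfl⟩
    obtain ⟨d, hd⟩ := hd χ hχ
    exact Submodule.mem_span_singleton.2 ⟨(d : ℂ), funext fun x => (hd x).symm⟩
  rw [Cfsg.blockRank, hspan]
  exact finrank_span_singleton (CfsgLib.RankOrth.pRegularPart_one_ne_zero hM.1 χ₀)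

end Cfsg.Agent.S4689
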