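import Cfsg.Statements.S0225
import Cfsg.Agent.Lib.Involutions.BrauerSuzuki
-- import your own Cfsg.Agent.* helpers here

set_option autoImplicit false
open Cfsg

namespace Cfsg.Agent.S0225

/-- If a finite group G has even order but contains no Klein four-subgroup (2-rank 1), then some involution z of G is central modulo a normal subgroup of odd order: there is a normal subgroup N of odd order containing every commutator z g z⁻¹ g⁻¹. -/
theorem result {G : Type*} [Group G] [Finite G] (heven : Even (Nat.card G)) (hrank : ∀ E : Subgroup G, ¬ IsKleinFour E) : ∃ z : G, orderOf z = 2 ∧ ∃ N : Subgroup G, N.Normal ∧ Odd (Nat.card N) ∧ ∀ g : G, z * g * z⁻¹ * g⁻¹ ∈ N := by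
  have huniq : ∀ s t : G, orderOf s = 2 → orderOf t = 2 → Commute s t → s = t := by
    intro s t hs ht h
    by_contra hne
    have hs2 := CfsgLib.Involutions.mul_self_eq_one hs
    have ht2 := CfsgLib.Involutions.mul_self_eq_one ht
    have hst : orderOf (s * t) = 2 := by
      refine CfsgLib.Involutions.orderOf_eq_two_iff_mul.mpr ⟨fun h1 => hne ?_, ?_⟩
      · exact (mul_eq_one_iff_eq_inv.mp h1).trans (CfsgLib.Involutions.inv_eq_self_of_involution ht)
      · calc s * t * (s * t) = s * (t * s) * t := by group
          _ = s * s * (t * t) := by rw [← h.eq]; group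
          _ = 1 := by rw [hs2, ht2, one_mul]
    have hall : ∀ x ∈ Subgroup.closure ({s, t} : Set G), Commute x s ∧ Commute x t ∧ x * x = 1 := by
      intro x hx
      induction hx using Subgroup.closure_induction with
      | mem x hx =>
        rcases hx with rfl | rfl
        · exact ⟨Commute.refl _, h, hs2⟩
        · exact ⟨h.symm, Commute.refl _, ht2⟩
      | one => exact ⟨Commute.one_left _, Commute.one_left _, one_mul _⟩
      | mul x y hxm hym hx hy =>
        refine ⟨hx.1.mul_left hy.1, hx.2.1.mul_left hy.2.1, ?_⟩
        have hxy : Commute x y := by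
          have hle : Subgroup.closure ({s, t} : Set G) ≤ Subgroup.centralizer ({x} : Set G) := by
            rw [Subgroup.closure_le]
            rintro w (rfl | rfl)
            · exact Subgroup.mem_centralizer_singleton_iff.mpr hx.1.symm.eq
            · exact Subgroup.mem_centralizer_singleton_iff.mpr hx.2.1.symm.eq
          exact (Subgroup.mem_centralizer_singleton_iff.mp (hle hym)).symm
        calc x * y * (x * y) = x * (y * x) * y := by group
          _ = x * x * (y * y) := by rw [← hxy.eq]; group
          _ = 1 := by rw [hx.2.2, hy.2.2, one_mul]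
      | inv x _ hx =>
        rw [inv_eq_of_mul_eq_one_right hx.2.2]
        exact hx
    have hcard : Nat.card (Subgroup.closure ({s, t} : Set G)) = 4 := by
      rw [CfsgLib.Involutions.card_closure_pair hs ht, hst]
    refine hrank (Subgroup.closure ({s, t} : Set G)) ⟨hcard, ?_⟩
    have : Nontrivial (Subgroup.closure ({s, t} : Set G)) :=
      Finite.one_lt_card_iff_nontrivial.mp (by rw [hcard]; norm_num)
    refine (Monoid.exponent_eq_prime_iff Nat.prime_two).mpr fun k hk => orderOf_eq_prime ?_ hk
    rw [pow_two]
    exact Subtype.ext (hall _ k.2).2.2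
  obtain ⟨z, hz⟩ := exists_prime_orderOf_dvd_card' (G := G) 2 heven.two_dvd
  refine ⟨z, hz, pPrimeCore 2 G, inferInstance, ?_, fun g => ?_⟩
  · rw [← Nat.not_even_iff_odd, even_iff_two_dvd]; exact CfsgLib.PCore.not_dvd_card_pPrimeCore
  · have h := inv_mem (CfsgLib.Involutions.inZStar_of_rank_one huniq hz g)
    simpa [CfsgLib.Involutions.inv_eq_self_of_involution hz, mul_assoc] using h

end Cfsg.Agent.S0225
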