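import Cfsg.Statements.S1644
import Cfsg.Agent.Lib.JankoUnique.Main
import Cfsg.Agent.Lib.Sporadic.J1Involution

set_option autoImplicit false
open Cfsg

namespace Cfsg.Agent.S1644

/-- The first Janko group recognised by an involution centraliser, at the level of isomorphism: a finite simple group with abelian Sylow 2-subgroups of order 8 and an involution whose centraliser is isomorphic to Z/2 × A₅ is isomorphic to the subgroup of GL(7, 11) generated by the two explicit Janko matrices. -/
theorem result {G : Type*} [Group G] [Finite G] [IsSimpleGroup G] (S : Sylow 2 G) (hS : IsMulCommutative (S : Subgroup G)) (h8 : Nat.card S = 8) (t : G) (ht : orderOf t = 2) (e : (Subgroup.centralizer ({t} : Set G)) ≃* Multiplicative (ZMod 2) × alternatingGroup (Fin 5)) : Cfsg.Spor.IsoJ1 G := by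
  haveI : Fintype G := Fintype.ofFinite G
  haveI : Fintype Cfsg.Spor.J1 := Fintype.ofFinite _
  haveI := CfsgLib.Sporadic.J1.isSimple_J1
  obtain ⟨u, hu, ⟨f⟩⟩ := CfsgLib.Sporadic.J1.exists_centralizer_equiv
  have hJ : Nat.card Cfsg.Spor.J1 % 16 = 8 := by rw [CfsgLib.Sporadic.J1.card_J1]
  have hmod : Nat.card G % 16 = 8 := by
    haveI : Fact (Nat.Prime 2) := ⟨Nat.prime_two⟩
    have hpos : Nat.card G ≠ 0 := Nat.card_pos.ne'
    have h := S.card_eq_multiplicity
    rw [h8] at h
    have h3 : (Nat.card G).factorization 2 = 3 :=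
      Nat.pow_right_injective le_rfl (h.symm.trans (by norm_num : (8 : ℕ) = 2 ^ 3))
    have h1 := (Nat.Prime.pow_dvd_iff_le_factorization Nat.prime_two hpos (k := 3)).2 h3.ge
    have h2 : ¬ 2 ^ 4 ∣ Nat.card G := fun hh => by
      have := (Nat.Prime.pow_dvd_iff_le_factorization Nat.prime_two hpos (k := 4)).1 hh
      omega
    rw [show (2 : ℕ) ^ 3 = 8 from rfl] at h1
    rw [show (2 : ℕ) ^ 4 = 16 from rfl] at h2
    omega
  exact CfsgLib.JankoUnique.equiv_of_isModelGroup
    (CfsgLib.JankoUnique.isModelGroup ht e (CfsgLib.JankoUnique.twoCentral_of_mod ht e hmod))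
    (CfsgLib.JankoUnique.isModelGroup hu f (CfsgLib.JankoUnique.twoCentral_of_mod hu f hJ))

end Cfsg.Agent.S1644
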