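import Cfsg.Statements.S3020
import Cfsg.Agent.Lib.Isolated.LocalCentral
import Cfsg.Agent.Lib.PCore.Basic

set_option autoImplicit false
open Cfsg

namespace Cfsg.Agent.S3020

/-- Let G be a finite group, p a prime and H an abelian p-subgroup of G that is extremely closed (for every g, the subgroup generated by H and g H g⁻¹ meets N_G(H) exactly in H). Then for every g ∈ G, the subgroup T generated by H and g H g⁻¹ is the product of H with O_{p'}(T), and H meets O_{p'}(T) trivially; that is, O_{p'}(T) is a normal p-complement of H in T. -/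
theorem result {G : Type*} [Group G] [Finite G] {p : ℕ} [Fact p.Prime] (H : Subgroup G) (hHp : IsPGroup p H) (hHab : IsMulCommutative H) (hcl : Cfsg.IsExtremelyClosed H) (g : G) (T : Subgroup G) (hT : T = H ⊔ H.map (MulAut.conj g).toMonoidHom) : H ⊔ (Cfsg.pPrimeCore p ↥T).map T.subtype = T ∧ H ⊓ (Cfsg.pPrimeCore p ↥T).map T.subtype = ⊥ := by
  subst hT
  set T := H ⊔ H.map (MulAut.conj g).toMonoidHom with hTdef
  have hHT : H ≤ T := le_sup_left
  set H' := H.subgroupOf T with hH'
  have hnorm : Subgroup.normalizer (H' : Set ↥T) = H' := by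
    refine le_antisymm (fun t ht => ?_) Subgroup.le_normalizer
    have h1 : (t : G) ∈ T ⊓ Subgroup.normalizer (H : Set G) := by
      refine ⟨t.2, Subgroup.mem_normalizer_iff.2 fun a => ⟨fun ha => ?_, fun ha => ?_⟩⟩
      · exact (Subgroup.mem_normalizer_iff.1 ht ⟨a, hHT ha⟩).1 ha
      · have hb : (t : G) * a * (t : G)⁻¹ ∈ T := hHT ha
        have haT : a ∈ T := by
          simpa [mul_assoc] using T.mul_mem (T.mul_mem (T.inv_mem t.2) hb) t.2
        exact (Subgroup.mem_normalizer_iff.1 ht ⟨a, haT⟩).2 ha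
    rw [hcl g] at h1
    exact h1
  have hp' : IsPGroup p ↥H' := hHp.comap_subtype
  obtain ⟨P, hP⟩ := hp'.exists_le_sylow
  have hPH : (P : Subgroup ↥T) = H' := by
    by_contra h
    exact (CfsgLib.Isolated.lt_inf_normalizer P.2 (lt_of_le_of_ne hP (Ne.symm h))).not_ge
      (inf_le_right.trans hnorm.le)
  have hNC : Subgroup.normalizer (P : Set ↥T) ≤ Subgroup.centralizer ((P : Subgroup ↥T) : Set ↥T) := by
    rw [← Sylow.coe_coe, hPH, hnorm]
    exact fun a ha => Subgroup.mem_centralizer_iff.2 fun b hb =>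
      Subtype.ext (congrArg (fun w : ↥H => (w : G)) (hHab.is_comm.comm ⟨(b : G), hb⟩ ⟨(a : G), ha⟩) : (b : G) * a = a * b)
  set N := (MonoidHom.transferSylow P hNC).ker with hN
  have hc : N.IsComplement' (H' : Subgroup ↥T) := hPH ▸ MonoidHom.ker_transferSylow_isComplement' P hNC
  have hNle : N ≤ Cfsg.pPrimeCore p ↥T := le_sSup
    ⟨MonoidHom.normal_ker _, ((Nat.Prime.coprime_iff_not_dvd Fact.out).2
      (MonoidHom.not_dvd_card_ker_transferSylow P hNC)).symm⟩
  have hcop : (Nat.card ↥(Cfsg.pPrimeCore p ↥T)).Coprime p :=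
    CfsgLib.PCore.pPrimeCore_coprime
  constructor
  · refine le_antisymm (sup_le hHT (Subgroup.map_subtype_le _)) fun t ht => ?_
    obtain ⟨⟨⟨n, hn⟩, ⟨h, hh⟩⟩, hnh, -⟩ := hc.existsUnique ⟨t, ht⟩
    have := congrArg Subtype.val hnh
    rw [show t = (n : G) * (h : G) from this.symm]
    exact Subgroup.mul_mem _ (Subgroup.mem_sup_right ⟨n, hNle hn, rfl⟩) (Subgroup.mem_sup_left hh)
  · refine (Subgroup.eq_bot_iff_forall _).2 fun a ha => ?_
    obtain ⟨n, hn⟩ := hHp.exists_card_eq
    have h1 : orderOf a ∣ p ^ n := hn ▸ Subgroup.orderOf_dvd_natCard H ha.1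
    have h2 : orderOf a ∣ Nat.card ↥(Cfsg.pPrimeCore p ↥T) := by
      refine (Subgroup.orderOf_dvd_natCard _ ha.2).trans (dvd_of_eq ?_)
      exact Subgroup.card_subtype _ _
    exact orderOf_eq_one_iff.1 (Nat.eq_one_of_dvd_coprimes (hcop.symm.pow_left n) h1 h2)

end Cfsg.Agent.S3020
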