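import Mathlib
import Cfsg.Statements.S3300
import Cfsg.Agent.Lib.OrbitTransfer.Width
-- import your own Cfsg.Agent.* helpers here

set_option autoImplicit false
open Cfsg

namespace Cfsg.Agent.S3300

/-- Let G be a finite group with no nontrivial 2-group quotient (O^2(G) = G), z an involution of G with H = C_G(z), and suppose E = O_2(H) is extraspecial with C_G(E) ≤ E and of order 2^(2n+1) with n ≥ 3. If H has a normal subgroup of index 2, then z is conjugate in G to an element of E other than z. -/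
theorem result {G : Type*} [Group G] [Finite G] (hres : Cfsg.pResidual 2 G = ⊤) (z : G) (hz : orderOf z = 2)
    (E : Subgroup G) (hE : E = (Cfsg.pCore 2 ↥(Subgroup.centralizer ({z} : Set G))).map (Subgroup.centralizer ({z} : Set G)).subtype)
    (hext : Cfsg.IsExtraspecial 2 ↥E) (hcent : Subgroup.centralizer (E : Set G) ≤ E) (n : ℕ) (hn : 3 ≤ n) (hcard : Nat.card ↥E = 2 ^ (2 * n + 1))
    (K : Subgroup G) (hKH : K ≤ Subgroup.centralizer ({z} : Set G))
    (hKn : ∀ h ∈ Subgroup.centralizer ({z} : Set G), K.map (MulAut.conj h).toMonoidHom = K)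
    (hKi : K.relIndex (Subgroup.centralizer ({z} : Set G)) = 2) :
    ∃ g : G, g * z * g⁻¹ ∈ E ∧ g * z * g⁻¹ ≠ z := by
  classical
  have hEH : E ≤ Subgroup.centralizer ({z} : Set G) := by
    rw [hE]; exact Subgroup.map_subtype_le _
  have hEn : ∀ x ∈ Subgroup.centralizer ({z} : Set G), ∀ e ∈ E, x * e * x⁻¹ ∈ E := by
    intro x hx e he
    rw [hE] at he ⊢
    obtain ⟨k, hk, rfl⟩ := Subgroup.mem_map.1 he
    refine Subgroup.mem_map.2 ⟨⟨x, hx⟩ * k * ⟨x, hx⟩⁻¹, ?_, rfl⟩
    exact (inferInstance : (Cfsg.pCore 2 ↥(Subgroup.centralizer ({z} : Set G))).Normal).conj_mem k hk _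
  have hzE : z ∈ E := hcent (by
    rw [Subgroup.mem_centralizer_iff]
    intro e he
    exact Subgroup.mem_centralizer_singleton_iff.1 (hEH he))
  set H := Subgroup.centralizer ({z} : Set G) with hH
  let K' : Subgroup ↥H := K.subgroupOf H
  have hi : K'.index = 2 := hKi
  have hmem := fun a b : ↥H => Subgroup.mul_mem_iff_of_index_two hi (a := a) (b := b)
  let φ : ↥H →* Multiplicative (ZMod 2) :=
    { toFun := fun a => if a ∈ K' then 1 else Multiplicative.ofAdd 1
      map_one' := by simp [one_mem]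
      map_mul' := fun a b => by
        by_cases ha : a ∈ K' <;> by_cases hb : b ∈ K' <;> simp [hmem a b, ha, hb] <;> decide }
  obtain ⟨x, hx⟩ : ∃ x : ↥H, x ∉ K' := by
    by_contra hcon
    push Not at hcon
    have : K' = ⊤ := eq_top_iff.2 fun a _ => hcon a
    rw [this, Subgroup.index_top] at hi
    omega
  refine CfsgLib.OrbitTransfer.exists_fused hres z hz E hEH hzE hEn hext hcent n hn hcard φ ⟨x, ?_⟩
  simp [φ, hx]

end Cfsg.Agent.S3300
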