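import Cfsg.Statements.S5212
import Cfsg.Agent.Lib.MetaTwoFusion.Fusion
-- import your own Cfsg.Agent.* helpers here

set_option autoImplicit false
open Cfsg

namespace Cfsg.Agent.S5212

/-- Let S be a finite metacyclic 2-group that is not homocyclic abelian (a direct product of cyclic groups of one common order), not dihedral, not semidihedral and not generalized quaternion. Then every saturated fusion system over S is the inner fusion system of S. -/
theorem result {Ω : Type*} [Group Ω] {S : Subgroup Ω} [Finite S] (hS : IsPGroup 2 S) (F : Cfsg.FusionSystem S) (hF : F.IsSaturated 2) (hm : Cfsg.IsMetacyclic ↥S) (hh : ¬ ∃ n k : ℕ, Nonempty (↥S ≃* Multiplicative (Fin k → ZMod (2 ^ n)))) (hd : ¬ ∃ m : ℕ, Nonempty (↥S ≃* DihedralGroup m)) (hq : ¬ ∃ m : ℕ, Nonempty (↥S ≃* QuaternionGroup m)) (hsd : ¬ Cfsg.IsQuasiDihedral ↥S) : ∀ P : Subgroup Ω, F.Hom P = (Cfsg.innerFusionSystem S).Hom P := by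
  have : Fact (Nat.Prime 2) := ⟨Nat.prime_two⟩
  have hA : F.autGroup S ≤ Inn S := by
    refine CfsgLib.MetaTwoFusion.autGroup_le_inn_of_not_small hS hF hm
      (fun h => hq ⟨2, h⟩) fun n ⟨e⟩ => hh ⟨n, 2, ⟨e.trans ?_⟩⟩
    exact (MulEquiv.prodMultiplicative _ _).symm.trans
      (AddEquiv.toMultiplicative (RingEquiv.piFinTwo fun _ => ZMod (2 ^ n)).toAddEquiv.symm)
  have hSc : F.StronglyClosed S := ⟨le_rfl, fun R _ φ hφ => CfsgLib.Fusion.apply_mem_S hφ⟩
  have hle : F ≤ Cfsg.innerFusionSystem S := by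
    refine CfsgLib.Fusion.alperin hS hF _ fun P hP => ?_
    obtain rfl : P = S := by
      rcases hP with h | h
      · exact h
      · exact le_antisymm h.1.1 (CfsgLib.MetaTwoFusion.le_of_centric_radical_metacyclic hS hSc hm
          (CfsgLib.MetaTwoFusion.not_isDSQ hd hq hsd) h.1 (CfsgLib.Fusion.radical_of_essential h hS))
    exact hA.trans (CfsgLib.Fusion.inn_le_autGroup le_rfl)
  intro P
  refine Set.Subset.antisymm (hle P) ?_
  rintro φ ⟨hPS, g, hg, h⟩
  exact CfsgLib.Fusion.mem_of_conj hPS hg h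


end Cfsg.Agent.S5212
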