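import Cfsg.Statements.S1279
import Cfsg.Agent.Lib.Components.Balance
-- import your own Cfsg.Agent.* helpers here

set_option autoImplicit false
open Cfsg

namespace Cfsg.Agent.S1279

/-- Let A be a noncyclic elementary abelian p-subgroup of the finite group G such that C_G(a) is solvable for every non-identity a ∈ A. Then a ↦ O_{p'}(C_G(a)) is a solvable A-signalizer functor on G. -/
theorem result {G : Type*} [Group G] [Finite G] (p : ℕ) [Fact p.Prime] (A : Subgroup G) (hA : Cfsg.IsElementaryAbelian p A) (hA2 : p ^ 2 ≤ Nat.card ↥A) (hsolv : ∀ a ∈ A, a ≠ 1 → Group.IsSolvable ↥(Subgroup.centralizer ({a} : Set G))) : Cfsg.IsSolvableSignalizerFunctor p A (fun a => Cfsg.centralizerPPrimeCore p a) := by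
  open Subgroup CfsgLib.Components in
  refine ⟨⟨fun a _ _ => Subgroup.map_subtype_le _, fun a _ _ => ?_, ?_, ?_⟩, fun a ha ha1 => ?_⟩
  · exact fun h => ((Fact.out : p.Prime).coprime_iff_not_dvd.mp
      (card_centralizerCore_coprime ({a} : Set G)).symm) h
  · intro a ha _ b hb x hx
    obtain ⟨w, hw, rfl⟩ := hx
    have hbC : b ∈ Subgroup.centralizer ({a} : Set G) :=
      mem_centralizer_singleton_iff.mpr (congrArg Subtype.val (hA.1.is_comm.comm ⟨b, hb⟩ ⟨a, ha⟩))
    exact ⟨⟨b, hbC⟩ * w * ⟨b, hbC⟩⁻¹,
      (inferInstance : (Cfsg.pPrimeCore p ↥(Subgroup.centralizer ({a} : Set G))).Normal).conj_mem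
        _ hw _, rfl⟩
  · intro a ha ha1 b hb hb1
    set C := Subgroup.centralizer ({b} : Set G)
    have hab : a * b = b * a := congrArg Subtype.val (hA.1.is_comm.comm ⟨a, ha⟩ ⟨b, hb⟩)
    have haC : a ∈ C := mem_centralizer_singleton_iff.mpr hab
    have hord : orderOf a = p := orderOf_eq_prime (hA.2 a ha) ha1
    have hord' : orderOf (⟨a, haC⟩ : C) = p := by rwa [← Subgroup.orderOf_coe]
    have key : (Cfsg.centralizerPPrimeCore p a).subgroupOf C ≤ Cfsg.pPrimeCore p C := by
      refine le_pPrimeCore_of_reduced (A := zpowers (⟨a, haC⟩ : C)) (isPGroup_zpowers hord')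
        (by rw [Ne, zpowers_eq_bot]; exact fun h => ha1 (congrArg Subtype.val h)) ?_ ?_ ?_
      · intro c hc hc1
        have hC : Subgroup.centralizer (zpowers (⟨a, haC⟩ : C) : Set C) =
            Subgroup.centralizer ({c} : Set C) := by
          have hord'' : orderOf c = p := by
            have hd := orderOf_dvd_natCard _ hc
            rw [Nat.card_zpowers, hord'] at hd
            exact ((Fact.out : p.Prime).eq_one_or_self_of_dvd _ hd).resolve_left
              (fun h => hc1 (orderOf_eq_one_iff.mp h))
          rw [centralizer_singleton_eq, Subgroup.eq_of_le_of_card_ge (zpowers_le.mpr hc)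
            (by rw [Nat.card_zpowers, Nat.card_zpowers, hord', hord''])]
        refine (centralizerPPrimeCore_subgroupOf_le C ⟨a, haC⟩).trans ?_
        rw [centralizerPPrimeCore_eq_zpowers, centralizerPPrimeCore_eq, centralizerCore, centralizerCore,
          hC]
      · intro c hc
        rw [← orderOf_dvd_iff_pow_eq_one]
        have hd := orderOf_dvd_natCard _ hc
        rwa [Nat.card_zpowers, hord'] at hd
      · intro L hL
        haveI := hsolv b hb hb1
        haveI : Group.IsSolvable (↥C ⧸ Cfsg.pPrimeCore p C) :=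
          Group.isSolvable_of_surjective (QuotientGroup.mk'_surjective _)
        exact absurd (inferInstance : Group.IsSolvable L) (component_not_isSolvable hL)
    rintro y ⟨hy, hyC⟩
    exact ⟨⟨y, hyC⟩, key (show (⟨y, hyC⟩ : C) ∈ (Cfsg.centralizerPPrimeCore p a).subgroupOf C from hy), rfl⟩
  · haveI := hsolv a ha ha1
    exact Group.isSolvable_of_isSolvable_injective
      (Subgroup.inclusion_injective (Subgroup.map_subtype_le _ :
        Cfsg.centralizerPPrimeCore p a ≤ Subgroup.centralizer ({a} : Set G)))

end Cfsg.Agent.S1279
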