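import Cfsg.Statements.S4738
import Cfsg.Agent.Lib.Blocks.DefectZeroAux

set_option autoImplicit false
open Cfsg

namespace Cfsg.Agent.S4738

/-- Let p be an odd prime and G a finite group of even order containing no element of order 2p. Then either G has an irreducible character of p-defect zero (its degree has the same p-part as the order of G), or every Sylow p-subgroup of G is abelian and all involutions of G are conjugate. -/
theorem result {G : Type*} [Group G] [Finite G] (p : ℕ) [Fact p.Prime] (hp2 : p ≠ 2) (hG : Even (Nat.card G)) (h2p : ∀ g : G, orderOf g ≠ 2 * p) : (∃ χ : Cfsg.IrrCharacter G, (Cfsg.charDegree (χ : G → ℂ)).factorization p = (Nat.card G).factorization p) ∨ ((∀ P : Sylow p G, IsMulCommutative ↥(P : Subgroup G)) ∧ ∀ s t : G, orderOf s = 2 → orderOf t = 2 → IsConj s t) := by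
  have : Fintype G := Fintype.ofFinite G
  by_cases hd : ∃ χ : Cfsg.IrrCharacter G,
      (Cfsg.charDegree (χ : G → ℂ)).factorization p = (Nat.card G).factorization p
  · exact Or.inl hd
  right
  have hno := CfsgLib.DefectZeroCriterion.no_defect_zero_iff (Fact.out) hd
  have hinvc := CfsgLib.DefectZeroCriterion.involution_centralizer hp2 h2p
  obtain ⟨s₀, hs₀⟩ := CfsgLib.DefectZeroCriterion.exists_involution (G := G) hG.two_dvd
  refine ⟨fun P => (CfsgLib.DefectZeroCriterion.involution_structure hno hinvc P hs₀).1,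
    fun s t hs ht => ?_⟩
  let P : Sylow p G := Classical.arbitrary _
  obtain ⟨hPc, s', hss', hs'⟩ := CfsgLib.DefectZeroCriterion.involution_structure hno hinvc P hs
  obtain ⟨-, t', htt', ht'⟩ := CfsgLib.DefectZeroCriterion.involution_structure hno hinvc P ht
  refine hss'.trans (IsConj.trans ?_ htt'.symm)
  have hso : orderOf s' = 2 := by rw [CfsgLib.Involutions.orderOf_eq_of_isConj hss', hs]
  have hto : orderOf t' = 2 := by rw [CfsgLib.Involutions.orderOf_eq_of_isConj htt', ht]
  rcases eq_or_ne (P : Subgroup G) ⊥ with hP | hP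
  · exfalso
    have hp : ¬ p ∣ Nat.card G := fun hdvd => by
      obtain ⟨x, hx⟩ := exists_prime_orderOf_dvd_card' p hdvd
      have := P.dvd_card_of_dvd_card hdvd
      rw [hP, Subgroup.card_bot] at this
      exact (Fact.out : p.Prime).ne_one (Nat.dvd_one.1 this)
    refine hd ⟨⟨fun _ => (1 : ℂ), CfsgLib.Characters.isIrrCharacter_one⟩, ?_⟩
    rw [Nat.factorization_eq_zero_of_not_dvd hp]
    simp [Cfsg.charDegree]
  have := (Subgroup.nontrivial_iff_ne_bot _).2 hP
  obtain ⟨⟨u, hu⟩, hu1⟩ := exists_ne (1 : (P : Subgroup G))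
  refine CfsgLib.Involutions.isConj_of_odd_order hso hto ?_
  have hmem : s' * t' ∈ Subgroup.centralizer ({u} : Set G) := by
    rw [Subgroup.mem_centralizer_iff]
    rintro x rfl
    have h1 := hs' x hu
    have h2 := ht' x hu
    have h3 : s' * t' * x * (s' * t')⁻¹ = x := by
      calc s' * t' * x * (s' * t')⁻¹ = s' * (t' * x * t'⁻¹) * s'⁻¹ := by group
        _ = (s' * x * s'⁻¹)⁻¹ := by rw [h2]; group
        _ = x := by rw [h1, inv_inv]
    exact (mul_inv_eq_iff_eq_mul.1 h3).symm
  rw [← Nat.not_even_iff_odd]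
  intro hev
  obtain ⟨t₂, ht₂m, ht₂⟩ : ∃ t₂ ∈ Subgroup.centralizer ({u} : Set G), orderOf t₂ = 2 :=
    ⟨(s' * t') ^ (orderOf (s' * t') / 2), Subgroup.pow_mem _ hmem _,
      CfsgLib.Involutions.orderOf_pow_half hev⟩
  refine hinvc t₂ ht₂ ?_
  have hcm : u ∈ Subgroup.centralizer ({t₂} : Set G) := by
    rw [Subgroup.mem_centralizer_iff]
    rintro x rfl
    exact (Subgroup.mem_centralizer_iff.1 ht₂m u rfl).symm
  obtain ⟨k, hk⟩ := CfsgLib.DefectZeroCriterion.exists_prime_pow_of_mem P.2 hu
  rcases k with _ | k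
  · rw [pow_zero, orderOf_eq_one_iff] at hk
    exact absurd (Subtype.ext hk) hu1
  · exact (dvd_pow_self p (Nat.succ_ne_zero k)).trans (hk ▸ Subgroup.orderOf_dvd_natCard _ hcm)

end Cfsg.Agent.S4738
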