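import Cfsg.Statements.S1691

set_option autoImplicit false
open Cfsg

namespace Cfsg.Agent.S1691

open Cfsg.Spor

abbrev rels : Set (FreeGroup Fi24.Gen) := coxRelators Fi24.edges ∪ {r | r ∈ Fi24.extra}

/-- parity of the word length -/
def parity : FreeGroup Fi24.Gen →* Multiplicative (ZMod 2) :=
  FreeGroup.lift fun _ => Multiplicative.ofAdd 1

theorem parity_rels : ∀ r ∈ rels, parity r = 1 := by
  rintro r (⟨x, -, y, -, rfl⟩ | hr)
  · simp only [parity, map_pow, map_mul, FreeGroup.lift_apply_of]
    have : (Multiplicative.ofAdd (1 : ZMod 2)) * Multiplicative.ofAdd 1 = 1 := by decide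
    rw [this, one_pow]
  · simp only [Set.mem_setOf_eq, Fi24.extra, List.mem_cons, List.not_mem_nil, or_false] at hr
    rcases hr with rfl | rfl <;>
      simp only [parity, map_pow, map_mul, map_inv, FreeGroup.lift_apply_of] <;> decide

def sgn : Spor.Fi24 →* Multiplicative (ZMod 2) := PresentedGroup.toGroup parity_rels

theorem sgn_of (x : Fi24.Gen) : sgn (PresentedGroup.of x) = Multiplicative.ofAdd 1 :=
  PresentedGroup.toGroup.of parity_rels

abbrev ab (x : Fi24.Gen) : Abelianization Spor.Fi24 := Abelianization.of (PresentedGroup.of x)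

theorem ab_rel (x y : Fi24.Gen) (hx : x ∈ coxNodes Fi24.edges) (hy : y ∈ coxNodes Fi24.edges) :
    (ab x * ab y) ^ coxLabel Fi24.edges x y = 1 := by
  have h : PresentedGroup.mk rels ((FreeGroup.of x * FreeGroup.of y) ^ coxLabel Fi24.edges x y) = 1 :=
    PresentedGroup.one_of_mem (Or.inl ⟨x, hx, y, hy, rfl⟩)
  have h' := congrArg Abelianization.of h
  simpa [ab, PresentedGroup.of, map_pow, map_mul] using h'

theorem ab_sq (x : Fi24.Gen) : ab x * ab x = 1 := by
  have := ab_rel x x (by cases x <;> decide) (by cases x <;> decide)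
  simpa [coxLabel] using this

theorem ab_eq {x y : Fi24.Gen} (hx : x ∈ coxNodes Fi24.edges) (hy : y ∈ coxNodes Fi24.edges)
    (hl : coxLabel Fi24.edges x y = 3) : ab x = ab y := by
  have h3 := ab_rel x y hx hy
  rw [hl] at h3
  have h2 : (ab x * ab y) ^ 2 = 1 := by
    rw [pow_two, mul_mul_mul_comm, ab_sq, ab_sq, mul_one]
  have h1 : ab x * ab y = 1 := by
    rw [pow_succ, h2, one_mul] at h3
    exact h3
  calc ab x = ab x * (ab y * ab y) := by rw [ab_sq, mul_one]
    _ = ab y := by rw [← mul_assoc, h1, one_mul]

theorem ab_all (x : Fi24.Gen) : ab x = ab Fi24.Gen.d := by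
  have lk : ab .l = ab .k := ab_eq (by decide) (by decide) (by decide)
  have ka : ab .k = ab .a := ab_eq (by decide) (by decide) (by decide)
  have ba : ab .a = ab .b := ab_eq (by decide) (by decide) (by decide)
  have bc : ab .b = ab .c := ab_eq (by decide) (by decide) (by decide)
  have cd : ab .c = ab .d := ab_eq (by decide) (by decide) (by decide)
  have ed : ab .e = ab .d := ab_eq (by decide) (by decide) (by decide)
  have hd : ab .h = ab .d := ab_eq (by decide) (by decide) (by decide)
  have fe : ab .f = ab .e := ab_eq (by decide) (by decide) (by decide)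
  have gf : ab .g = ab .f := ab_eq (by decide) (by decide) (by decide)
  have jg : ab .j = ab .g := ab_eq (by decide) (by decide) (by decide)
  have ih : ab .i = ab .h := ab_eq (by decide) (by decide) (by decide)
  cases x <;> simp only [lk, ka, ba, bc, cd, jg, gf, fe, ed, ih, hd]

noncomputable def back : Multiplicative (ZMod 2) →* Abelianization Spor.Fi24 where
  toFun z := ab Fi24.Gen.d ^ (Multiplicative.toAdd z).val
  map_one' := by simp
  map_mul' a b := by
    have h2 : ab Fi24.Gen.d ^ 2 = 1 := by rw [pow_two]; exact ab_sq _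
    rw [← pow_add]
    apply pow_eq_pow_of_modEq _ h2
    rw [toAdd_mul, ZMod.val_add]
    exact Nat.mod_modEq _ _

theorem factor : back.comp sgn = Abelianization.of := by
  apply PresentedGroup.ext
  intro x
  show back (sgn (PresentedGroup.of x)) = ab x
  rw [sgn_of, ab_all x]
  exact pow_one _

/-- The commutator subgroup of the presented group Fi₂₄ has index 2 (the presented group is Fi₂₄′:2 with Fi₂₄′ its derived subgroup). -/
theorem result : (commutator Cfsg.Spor.Fi24).index = 2 := by
  have hker : commutator Spor.Fi24 = sgn.ker := by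
    refine le_antisymm (Abelianization.commutator_subset_ker sgn) ?_
    intro g hg
    have : Abelianization.of g = 1 := by
      rw [← factor, MonoidHom.comp_apply, MonoidHom.mem_ker.1 hg, map_one]
    exact (QuotientGroup.eq_one_iff g).1 this
  have hsurj : Function.Surjective sgn := by
    intro z
    obtain ⟨z, rfl⟩ : ∃ t, z = Multiplicative.ofAdd t := ⟨Multiplicative.toAdd z, rfl⟩
    fin_cases z
    · exact ⟨1, map_one _⟩
    · exact ⟨_, sgn_of Fi24.Gen.d⟩
  rw [hker, Subgroup.index_ker, MonoidHom.range_eq_top.2 hsurj, Subgroup.card_top]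
  simp

end Cfsg.Agent.S1691
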