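import Cfsg.Statements.S5441
import Cfsg.Agent.Lib.FischerTwoFour.Local

set_option autoImplicit false
open Cfsg

namespace Cfsg.Agent.S5441

/-- Let G be a finite group of large Fischer type at the involution z: the generalized Fitting subgroup Q of H = C_G(z) is extraspecial of order 2^13, H has normal subgroups Q ≤ H₁ ≤ H₂ with H₁/Q of order 3, H₂/H₁ the projective special unitary group of dimension 4 over the field with nine elements and H₂ of index 2 in H, and some conjugate of z other than z lies in Q. Then the conjugates of z lying in Q and different from z form a single orbit under conjugation by H. -/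
theorem result {G : Type*} [Group G] [Finite G] (z : G) (Q : Subgroup (Subgroup.centralizer ({z} : Set G))) [Q.Normal] (hF : Cfsg.IsOfLargeFischerTypeAt z Q) (s t : G) (hsQ : ∃ hsc : s ∈ Subgroup.centralizer ({z} : Set G), (⟨s, hsc⟩ : Subgroup.centralizer ({z} : Set G)) ∈ Q) (htQ : ∃ htc : t ∈ Subgroup.centralizer ({z} : Set G), (⟨t, htc⟩ : Subgroup.centralizer ({z} : Set G)) ∈ Q) (hs : IsConj z s) (ht : IsConj z t) (hs1 : s ≠ z) (ht1 : t ≠ z) : ∃ h ∈ Subgroup.centralizer ({z} : Set G), h * s * h⁻¹ = t := by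
  have S := CfsgLib.FischerTwoFour.shape_of hF
  have hz : orderOf z = 2 := hF.1.1
  obtain ⟨hsc, hsQ⟩ := hsQ
  obtain ⟨htc, htQ⟩ := htQ
  obtain ⟨g, hg⟩ := isConj_iff.1 hs
  obtain ⟨g', hg'⟩ := isConj_iff.1 ht
  have key : ∀ {a : G} (hac : a ∈ Subgroup.centralizer ({z} : Set G))
      (haQ : (⟨a, hac⟩ : Subgroup.centralizer ({z} : Set G)) ∈ Q) {g : G}, g * z * g⁻¹ = a → a ≠ z →
      (⟨⟨a, hac⟩, haQ⟩ : Q) * ⟨⟨a, hac⟩, haQ⟩ = 1 ∧ (⟨⟨a, hac⟩, haQ⟩ : Q) ∉ Subgroup.center Q ∧
      Nat.card (CfsgLib.FischerTwoFour.stabImage (⟨⟨a, hac⟩, haQ⟩ : Q)) = 11520 := by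
    intro a hac haQ g hg ha
    have h := (CfsgLib.FischerTwoFour.local_structure S hz (g := g) ⟨⟨a, hac⟩, haQ⟩ hg ha _ rfl _ rfl).1
    have hzz : z * z = 1 := by rw [← sq, ← hz]; exact pow_orderOf_eq_one z
    refine ⟨Subtype.ext (Subtype.ext ?_), CfsgLib.FischerTwoFour.not_center S hz ?_ ha, h⟩
    · show a * a = 1
      rw [← hg]
      calc g * z * g⁻¹ * (g * z * g⁻¹) = g * (z * z) * g⁻¹ := by group
        _ = 1 := by rw [hzz]; group
    · intro e
      have e' : a = 1 := e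
      rw [e', mul_inv_eq_one, mul_eq_left] at hg
      rw [hg, orderOf_one] at hz
      omega
  obtain ⟨s2, sn, sc⟩ := key hsc hsQ hg hs1
  obtain ⟨t2, tn, tc⟩ := key htc htQ hg' ht1
  obtain ⟨c, hc⟩ := S.conj_of_card s2 sn t2 tn (sc.trans tc.symm)
  exact ⟨c, c.2, congrArg Subtype.val hc⟩

end Cfsg.Agent.S5441
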