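import Cfsg.Statements.S1631
import Cfsg.Agent.Lib.Unitary.Gen
import Cfsg.Agent.Lib.Unitary.Bridge

set_option autoImplicit false
set_option linter.unusedSectionVars false
open scoped MatrixGroups
open Cfsg

namespace Cfsg.Agent.S1631

open CfsgLib.Unitary

section Abstract

variable {F V : Type*} [Field F] [AddCommGroup V] [Module F V] [FiniteDimensional F V]
  {σ : F →+* F} {B : V →ₛₗ[σ] V →ₗ[F] F}
  (hB : HForm B) (h4 : ∀ x : F, x ≠ 0 → σ x * x = 1) (h2 : (2 : F) = 0)

theorem isTv_eq {g h : V ≃ₗ[F] V} {v : V} {c : F} (hg : IsTv B g v c) (hh : IsTv B h v c) : g = h :=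
  LinearEquiv.ext fun x => by rw [hg, hh]

include h2 in
theorem tv_sq {g : V ≃ₗ[F] V} {v : V} (hg : IsTv B g v 1) (hv : B v v = 0) : g * g = 1 :=
  LinearEquiv.ext fun x => by
    rw [LinearEquiv.mul_apply, hg, hg x, map_add, map_smul, hv, smul_zero, add_zero, one_mul,
      add_assoc, ← add_smul, ← two_mul, h2, zero_mul, zero_smul, add_zero]
    rfl

theorem tv_conj {g a : V ≃ₗ[F] V} {v : V} (hg : IsTv B g v 1)
    (ha : ∀ x y, B (a x) (a y) = B x y) : IsTv B (a * g * a⁻¹) (a v) 1 := fun y => by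
  have h : B v (a⁻¹ y) = B (a v) y := by
    conv_rhs => rw [show y = a (a⁻¹ y) from (a.apply_symm_apply y).symm, ha]
  rw [LinearEquiv.mul_apply, LinearEquiv.mul_apply, hg (a⁻¹ y), h, map_add, map_smul]
  congr 1
  exact a.apply_symm_apply y

include h4 in
theorem tv_smul {g : V ≃ₗ[F] V} {v : V} {l : F} (hl : l ≠ 0) (hg : IsTv B g v 1) :
    IsTv B g (l • v) 1 := fun x => by
  rw [hg, map_smulₛₗ, LinearMap.smul_apply, smul_eq_mul, smul_smul]
  congr 2
  linear_combination (-B v x) * h4 l hl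

include hB h4 h2 in
theorem tv_pair {g h : V ≃ₗ[F] V} {u v : V} (hg : IsTv B g u 1) (hh : IsTv B h v 1)
    (hu : B u u = 0) (hv : B v v = 0) : (g * h) ^ 2 = 1 ∨ (g * h) ^ 3 = 1 := by
  have hc : (1 : F) + σ 1 = 0 := by rw [map_one, one_add_one_eq_two, h2]
  have hgg := tv_sq h2 hg hu
  have hhh := tv_sq h2 hh hv
  have hgi : g⁻¹ = g := inv_eq_of_mul_eq_one_right hgg
  have hhi : h⁻¹ = h := inv_eq_of_mul_eq_one_right hhh
  have k1 := tv_conj hh (isTv_isom hB hg hu hc)
  have k2 := tv_conj hg (isTv_isom hB hh hv hc)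
  rw [hgi, hg v, one_mul] at k1
  rw [hhi, hh u, one_mul] at k2
  by_cases hs : B u v = 0
  · left
    rw [hs, zero_smul, add_zero] at k1
    rw [pow_two, ← mul_assoc, isTv_eq k1 hh, hhh]
  · right
    have hvu : σ (B u v) = B v u := hB.symm u v
    have h1 : g * h * g = h * g * h := by
      have hl : σ (B u v) ≠ 0 := (map_ne_zero σ).2 hs
      have k3 := tv_smul h4 hl k1
      rw [smul_add, smul_smul, h4 _ hs, one_smul, add_comm, hvu] at k3
      exact isTv_eq k3 k2
    calc (g * h) ^ 3 = (g * h * g) * (h * g * h) := by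
          simp only [pow_succ, pow_zero, one_mul, mul_assoc]
      _ = (g * h * g) * (g * h * g) := by rw [h1]
      _ = 1 := by
        rw [mul_assoc (g * h), ← mul_assoc g (g * h), ← mul_assoc g g, hgg, one_mul, ← mul_assoc,
          mul_assoc g h h, hhh, mul_one, hgg]

include hB in
theorem exists_dual {v : V} (hv : v ≠ 0) : ∃ x, B x v = 1 := by
  have : ∃ y, B v y ≠ 0 := by
    by_contra hc
    push Not at hc
    exact hv (hB.nondeg v hc)
  obtain ⟨y, hy⟩ := this
  have h0 : B y v ≠ 0 := fun h => hy (herm_zero hB h)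
  refine ⟨σ (B y v)⁻¹ • y, ?_⟩
  rw [map_smulₛₗ, LinearMap.smul_apply, smul_eq_mul, hB.invol, inv_mul_cancel₀ h0]

include hB h4 in
theorem skew_eq_one (hσ : ∀ x, σ x = x ^ 2) (h2 : (2 : F) = 0) {c : F} (hc0 : c ≠ 0)
    (hc : c + σ c = 0) : c = 1 := by
  rw [hσ] at hc
  have h : c * (c + 1) = 0 := by linear_combination hc
  linear_combination (mul_eq_zero.1 h).resolve_left hc0 - h2

include hB h4 in
theorem rank_one (hσ : ∀ x, σ x = x ^ 2) (h2 : (2 : F) = 0) {g : V ≃ₗ[F] V} (hg : IsSIsom B g) :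
    Module.finrank F (LinearMap.range ((g : V →ₗ[F] V) - 1)) = 1 ↔
      ∃ v, v ≠ 0 ∧ B v v = 0 ∧ IsTv B g v 1 := by
  constructor
  · intro h
    obtain ⟨v', hv0, hspan⟩ := finrank_eq_one_iff'.mp h
    set v : V := v'.1 with hvdef
    have hv : v ≠ 0 := fun h0 => hv0 (Subtype.ext h0)
    obtain ⟨x, hx⟩ := exists_dual hB hv
    set f : Module.Dual F V := (B x).comp ((g : V →ₗ[F] V) - 1) with hfdef
    have hf : ∀ y, g y = y + f y • v := fun y => by
      obtain ⟨c, hc⟩ := hspan ⟨_, LinearMap.mem_range_self ((g : V →ₗ[F] V) - 1) y⟩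
      have hc' : c • v = g y - y := congrArg Subtype.val hc
      have : f y = c := by
        show B x (g y - y) = c
        rw [← hc', map_smul, hx, smul_eq_mul, mul_one]
      rw [this, hc', add_sub_cancel]
    have hfv : f v = 0 := by
      have he : (g : V →ₗ[F] V) = LinearMap.transvection f v :=
        LinearMap.ext fun y => by rw [LinearMap.transvection.apply]; exact hf y
      have := hg.2
      rw [he, LinearMap.transvection.det, add_eq_left] at this
      exact this
    have hrel : ∀ a b, σ (f a) * B v b + f b * B a v + σ (f a) * f b * B v v = 0 := fun a b => by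
      have e := hg.1 a b
      rw [hf a, hf b] at e
      simp only [map_add, map_smulₛₗ, LinearMap.add_apply, LinearMap.smul_apply, smul_eq_mul,
        RingHom.id_apply] at e
      linear_combination e
    obtain ⟨a, ha⟩ : ∃ a, f a ≠ 0 := by
      by_contra hc
      push Not at hc
      obtain ⟨y, hy⟩ := LinearMap.mem_range.1 v'.2
      apply hv
      rw [hvdef, ← hy]
      show g y - y = 0
      rw [hf, hc, zero_smul, add_zero, sub_self]
    have hvv : B v v = 0 := by
      have := hrel a v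
      rw [hfv, zero_mul, add_zero, mul_zero, zero_mul, add_zero] at this
      exact (mul_eq_zero.1 this).resolve_left ((map_ne_zero σ).2 ha)
    have hform : ∀ y, f y = -σ (f x) * B v y := fun y => by
      have := hrel x y
      rw [hx, hvv] at this
      linear_combination this
    have hc1 : -σ (f x) = 1 := by
      have h1 : B v x = 1 := by rw [← hB.symm, hx, map_one]
      refine skew_eq_one hB h4 hσ h2 (fun h0 => ha (by rw [hform, h0, zero_mul])) ?_
      have := hform x
      rw [h1, mul_one] at this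
      rw [map_neg, hB.invol]
      linear_combination -this
    exact ⟨v, hv, hvv, fun y => by rw [hf, hform, hc1]⟩
  · rintro ⟨v, hv0, hv, hgv⟩
    have : LinearMap.range ((g : V →ₗ[F] V) - 1) = F ∙ v := by
      refine le_antisymm ?_ ?_
      · rintro _ ⟨y, rfl⟩
        show g y - y ∈ _
        rw [hgv, add_sub_cancel_left]
        exact Submodule.smul_mem _ _ (Submodule.mem_span_singleton_self v)
      · rw [Submodule.span_singleton_le_iff_mem]
        obtain ⟨x, hx⟩ := exists_dual hB hv0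
        refine ⟨x, ?_⟩
        show g x - x = v
        rw [hgv, ← hB.symm, hx, map_one, mul_one, one_smul, add_sub_cancel_left]
    rw [this, finrank_span_singleton hv0]

end Abstract

theorem main {F : Type} [Field F] [Fintype F] [DecidableEq F] (hF : Fintype.card F = 4) {n : ℕ}
    (hn : 4 ≤ n) : Cfsg.IsThreeTranspositionClass {g : ↥(Cfsg.SU n F 2) |
      (((g : Matrix.SpecialLinearGroup (Fin n) F) : Matrix (Fin n) (Fin n) F) - 1).rank = 1} := by
  have hK : Fintype.card F = 2 ^ 2 := by rw [hF]; norm_num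
  obtain ⟨τ, hτ, hne, hinv⟩ := CfsgLib.UnitaryEmbed.exists_conj hK
  have hB := hform_herm (n := n) hK hτ hne hinv
  have h4 : ∀ x : F, x ≠ 0 → τ x * x = 1 := fun x hx => by
    have := FiniteField.pow_card_sub_one_eq_one x hx
    rw [hF] at this
    rw [hτ, ← pow_succ]
    exact this
  have h2 : (2 : F) = 0 := by
    have := h4 (-1) (neg_ne_zero.2 one_ne_zero)
    rw [map_neg, map_one] at this
    have e : (-1 : F) ^ 3 = 1 := by
      have := FiniteField.pow_card_sub_one_eq_one (-1 : F) (neg_ne_zero.2 one_ne_zero)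
      rwa [hF] at this
    linear_combination -e
  set φ := suEquiv n F 2
  have hiso : ∀ A, IsSIsom (CfsgLib.UnitaryEmbed.hermSesq n τ) (φ A) := suEquiv_isSIsom hτ
  have key : ∀ A : ↥(Cfsg.SU n F 2),
      (((A : Matrix.SpecialLinearGroup (Fin n) F) : Matrix (Fin n) (Fin n) F) - 1).rank = 1 ↔
        ∃ v, v ≠ 0 ∧ CfsgLib.UnitaryEmbed.hermSesq n τ v v = 0 ∧
          IsTv (CfsgLib.UnitaryEmbed.hermSesq n τ) (φ A) v 1 := fun A => by
    rw [← rank_one hB h4 hτ h2 (hiso A), Matrix.rank,
      show (((A : Matrix.SpecialLinearGroup (Fin n) F) : Matrix (Fin n) (Fin n) F) - 1).mulVecLin =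
        ((φ A : (Fin n → F) →ₗ[F] (Fin n → F)) - 1) from LinearMap.ext fun x => by
          rw [Matrix.mulVecLin_apply, Matrix.sub_mulVec, Matrix.one_mulVec]
          show _ = φ A x - x
          rw [suEquiv_apply]]
  refine ⟨⟨fun d hd => ?_, fun d hd e he => ?_⟩, ?_, ?_⟩
  · obtain ⟨v, hv0, hv, hd'⟩ := (key d).1 hd
    refine orderOf_eq_prime (suEquiv_injective ?_) fun h => ?_
    · rw [pow_two, map_mul, tv_sq h2 hd' hv, map_one]
    · obtain ⟨x, hx⟩ := exists_dual hB hv0
      have := hd' x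
      rw [h, map_one, ← hB.symm, hx, map_one, mul_one, one_smul] at this
      exact hv0 (left_eq_add.1 this)
  · obtain ⟨u, hu0, hu, hd'⟩ := (key d).1 hd
    obtain ⟨v, hv0, hv, he'⟩ := (key e).1 he
    rcases tv_pair hB h4 h2 hd' he' hu hv with h | h
    · exact Or.inl (suEquiv_injective (by rw [map_pow, map_mul, h, map_one]))
    · exact Or.inr (suEquiv_injective (by rw [map_pow, map_mul, h, map_one]))
  · have h3 : 3 ≤ Module.finrank F (Fin n → F) := by rw [Module.finrank_fin_fun]; omega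
    obtain ⟨u, hu0, hu⟩ := exists_isotropic hB (by omega)
    have hc : (1 : F) + τ 1 = 0 := by rw [map_one, one_add_one_eq_two, h2]
    obtain ⟨t, ht, htv⟩ := tv_mem hB (v := u) (c := 1) hu hc
    obtain ⟨d, hd⟩ := exists_suEquiv hτ (tGroup_isSIsom hB ht)
    have hd' : IsTv (CfsgLib.UnitaryEmbed.hermSesq n τ) (φ d) u 1 := by
      rw [show φ d = t from hd]; exact htv
    refine ⟨d, (key d).2 ⟨u, hu0, hu, hd'⟩, Set.ext fun g => ?_⟩
    rw [Set.mem_ofPred_eq, key, conjugatesOf, Set.mem_ofPred_eq, isConj_iff]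
    constructor
    · rintro ⟨v, hv0, hv, hgv⟩
      obtain ⟨a, ha, hau⟩ := transitive_isotropic hB h3 hu0 hv0 hu hv
      obtain ⟨c, hcA⟩ := exists_suEquiv hτ (tGroup_isSIsom hB ha)
      refine ⟨c, suEquiv_injective ?_⟩
      rw [map_mul, map_mul, map_inv, hcA]
      have := tv_conj hd' (tGroup_isSIsom hB ha).1
      rw [hau] at this
      exact isTv_eq this hgv
    · rintro ⟨c, rfl⟩
      refine ⟨φ c u, fun h => hu0 ((φ c).map_eq_zero_iff.1 h), by rw [(hiso c).1, hu], ?_⟩
      rw [map_mul, map_mul, map_inv]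
      exact tv_conj hd' (hiso c).1
  · refine (Subgroup.eq_top_iff' _).2 fun A => ?_
    have hmem := gen hB (n := n) (by rw [Module.finrank_fin_fun]) (by omega) (Or.inl hn) _ (hiso A)
    suffices tGroup (CfsgLib.UnitaryEmbed.hermSesq n τ) ≤ Subgroup.map φ (Subgroup.closure
        {g : ↥(Cfsg.SU n F 2) |
          (((g : Matrix.SpecialLinearGroup (Fin n) F) : Matrix (Fin n) (Fin n) F) - 1).rank = 1}) by
      obtain ⟨A', hA', he⟩ := this hmem
      rwa [suEquiv_injective he] at hA'
    refine (Subgroup.closure_le _).2 fun t ht => ?_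
    have hs := tSet_isSIsom hB ht
    obtain ⟨v, c, hv, hc, htv⟩ := ht
    obtain ⟨A', rfl⟩ := exists_suEquiv hτ hs
    by_cases h0 : c = 0 ∨ v = 0
    · rw [show suEquiv n F 2 A' = 1 from LinearEquiv.ext fun x => by
        rw [htv]; rcases h0 with h0 | h0 <;> rw [h0] <;> simp]
      exact one_mem _
    · push Not at h0
      rw [skew_eq_one hB h4 hτ h2 h0.1 hc] at htv
      exact ⟨A', Subgroup.subset_closure ((key A').2 ⟨v, h0.2, hv, htv⟩), rfl⟩


/-- The unitary transvections of SU(n, 2), n ≥ 4, form a generating conjugacy class of 3-transpositions. -/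
theorem result (F : Type) [Field F] [Fintype F] [DecidableEq F] (hF : Fintype.card F = 4) (n : ℕ) (hn : 4 ≤ n) : Cfsg.IsThreeTranspositionClass {g : ↥(Cfsg.SU n F 2) | (((g : Matrix.SpecialLinearGroup (Fin n) F) : Matrix (Fin n) (Fin n) F) - 1).rank = 1} := by
  classical
  exact main hF hn

end Cfsg.Agent.S1631
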