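import Cfsg.Statements.S0817
import Cfsg.Agent.Helper57OutEight
import Cfsg.Agent.S2695

set_option autoImplicit false
open Cfsg

namespace Cfsg.Agent.S0817

/-- |Aut(PΩ⁺_2m(q))| for q = p^f, m ≥ 4: |PΩ⁺_2m(q)| times f, times 3 when m = 4, times 2 if p = 2, and times 8 or 4 if p is odd according as m(q−1)/2 is even or odd. -/
theorem result {F : Type*} [Field F] [Fintype F] (p f : ℕ) [Fact p.Prime] (hf : 1 ≤ f) (hF : Fintype.card F = p ^ f) (m : ℕ) (hm : 4 ≤ m) : Nat.card (MulAut (Cfsg.POmega F (Cfsg.quadFormPlus m F))) = (if m = 4 then 3 else 1) * (if p = 2 then 2 else (if Even (m * (p ^ f - 1) / 2) then 8 else 4)) * f * Nat.card (Cfsg.POmega F (Cfsg.quadFormPlus m F)) := by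
  classical
  have hn : 5 ≤ Fintype.card (Fin m ⊕ Fin m) := by simp; omega
  have hA := Cfsg.Agent.GammaO57.card_mulAut (F := F) (CfsgLib.Orth.plusQ_nondegenerate m) hn
    (Cfsg.Agent.OutPlus57.plusData (F := F) (m := m) (by omega))
  rw [← CfsgLib.Orth.plusQ_coe, hA]
  congr 1
  by_cases hp : p = 2
  · subst hp
    rw [if_pos rfl]
    by_cases h : m = 4
    · subst h
      obtain ⟨e⟩ := Cfsg.Agent.OutEight57.out_eight_two hF
      rw [if_pos rfl, Nat.card_congr e.toEquiv, Nat.card_prod, Nat.card_congr Multiplicative.toAdd, Nat.card_zmod,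
        Nat.card_eq_fintype_card (α := Equiv.Perm (Fin 3)), Fintype.card_perm, Fintype.card_fin]
      rfl
    · have hg := Cfsg.Agent.S2695.result (F := F) (m := m) (by omega)
      rw [← CfsgLib.Orth.plusQ_coe] at hg
      obtain ⟨Θ, hinj, hr⟩ := Cfsg.Agent.OutPlus57.range_two hF hm
      obtain ⟨e⟩ := Cfsg.Agent.OutEight57.out_equiv_of_range hg Θ hinj hr
      rw [if_neg h, Nat.card_congr e.toEquiv, Nat.card_congr Multiplicative.toAdd, Nat.card_prod, Nat.card_zmod,
        Nat.card_zmod, one_mul]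
  · rw [if_neg hp]
    have hpo : Odd p := Nat.Prime.odd_of_ne_two Fact.out hp
    have hq : p ^ f % 2 = 1 := Nat.odd_iff.1 hpo.pow
    have hiff : Even (m * (p ^ f - 1) / 2) ↔ ¬ (p ^ f % 4 = 3 ∧ Odd m) := by
      rw [Nat.mul_div_assoc m (by omega : 2 ∣ p ^ f - 1), Nat.even_mul, not_and_or, Nat.not_odd_iff_even,
        Nat.even_iff (n := (p ^ f - 1) / 2)]
      constructor
      · rintro (h1 | h1)
        · exact Or.inr h1
        · left; omega
      · rintro (h1 | h1)
        · right; omega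
        · exact Or.inl h1
    by_cases h : m = 4
    · subst h
      obtain ⟨e⟩ := Cfsg.Agent.OutEight57.out_eight_odd hF hp
      rw [if_pos rfl, if_pos (hiff.2 fun hh => absurd hh.2 (by decide)), Nat.card_congr e.toEquiv, Nat.card_prod,
        Nat.card_congr Multiplicative.toAdd, Nat.card_zmod, Nat.card_eq_fintype_card (α := Equiv.Perm (Fin 4)),
        Fintype.card_perm, Fintype.card_fin]
      rfl
    · have hg := Cfsg.Agent.S2695.result (F := F) (m := m) (by omega)
      rw [← CfsgLib.Orth.plusQ_coe] at hg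
      by_cases hc : p ^ f % 4 = 3 ∧ Odd m
      · obtain ⟨Θ, hinj, hr⟩ := Cfsg.Agent.OutPlus57.range_abelian hF hp hm hc
        obtain ⟨e⟩ := Cfsg.Agent.OutEight57.out_equiv_of_range hg Θ hinj hr
        rw [if_neg h, if_neg (fun he => hiff.1 he hc), Nat.card_congr e.toEquiv,
          Nat.card_congr Multiplicative.toAdd, Nat.card_prod, Nat.card_prod, Nat.card_zmod, Nat.card_zmod]
        ring
      · obtain ⟨Θ, hinj, hr⟩ := Cfsg.Agent.OutPlus57.range_dihedral hF hp hm hc
        obtain ⟨e⟩ := Cfsg.Agent.OutEight57.out_equiv_of_range hg Θ hinj hr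
        rw [if_neg h, if_pos (hiff.2 hc), Nat.card_congr e.toEquiv, Nat.card_prod, DihedralGroup.nat_card,
          Nat.card_congr Multiplicative.toAdd, Nat.card_zmod]

end Cfsg.Agent.S0817
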