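import Cfsg.Statements.S0818
import Cfsg.Agent.S2696
import Cfsg.Agent.Helper57OutMinusTwo
import Cfsg.Agent.Helper57OutMinusOdd

set_option autoImplicit false
open Cfsg

namespace Cfsg.Agent.S0818

/-- |Aut(PΩ⁻_2m(q))| for q = p^f, m ≥ 4 (form quadFormMinus (m−1) with anisotropic binary part): |PΩ⁻_2m(q)| times f, times 2 if p = 2, and times 4 or 8 if p is odd according as m(q−1)/2 is even or odd. -/
theorem result {F : Type*} [Field F] [Fintype F] (p f : ℕ) [Fact p.Prime] (hf : 1 ≤ f) (hF : Fintype.card F = p ^ f) (m : ℕ) (hm : 4 ≤ m) (a b : F) (hab : ∀ z₁ z₂ : F, z₁ ^ 2 + a * z₁ * z₂ + b * z₂ ^ 2 = 0 → z₁ = 0 ∧ z₂ = 0) : Nat.card (MulAut (Cfsg.POmega F (Cfsg.quadFormMinus (m - 1) F a b))) = (if p = 2 then 2 else (if Even (m * (p ^ f - 1) / 2) then 4 else 8)) * f * Nat.card (Cfsg.POmega F (Cfsg.quadFormMinus (m - 1) F a b)) := by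
  have hg := Cfsg.Agent.S2696.result (F := F) (m := m - 1) (by omega) a b hab
  by_cases hp : p = 2
  · subst hp
    have : CharP F 2 := charP_of_card_eq_prime_pow hF
    rw [if_pos rfl]
    exact (Cfsg.Agent.GammaO57.out_minus_two hab (by omega : 2 ≤ m - 1) hF hg).2.2
  · rw [if_neg hp]
    have h := (Cfsg.Agent.GammaO57.out_minus_odd hF hp (by omega : 2 ≤ m - 1) hab hg).2
    simp only [show m - 1 + 1 = m by omega] at h
    rw [h]
    have hpo : Odd p := Nat.Prime.odd_of_ne_two Fact.out hp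
    have hq : p ^ f % 2 = 1 := Nat.odd_iff.1 hpo.pow
    have hdiv : m * (p ^ f - 1) / 2 = m * ((p ^ f - 1) / 2) := Nat.mul_div_assoc m (by omega)
    have hiff : Even (m * (p ^ f - 1) / 2) ↔ ¬ (p ^ f % 4 = 3 ∧ Odd m) := by
      rw [hdiv, Nat.even_mul, not_and_or, Nat.not_odd_iff_even, Nat.even_iff (n := (p ^ f - 1) / 2)]
      constructor
      · rintro (h1 | h1)
        · exact Or.inr h1
        · left; omega
      · rintro (h1 | h1)
        · right; omega
        · exact Or.inl h1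
    by_cases hc : p ^ f % 4 = 3 ∧ Odd m
    · rw [if_pos hc, if_neg (fun he => hiff.1 he hc)]
    · rw [if_neg hc, if_pos (hiff.2 hc)]

end Cfsg.Agent.S0818
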