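import Cfsg.Statements.S0949
import Cfsg.Agent.Lib.Blocks.Homo949Main
import Cfsg.Agent.Lib.PCore.Basic

set_option autoImplicit false
set_option linter.style.haveILetI false
open Cfsg

namespace Cfsg.Agent.S0949

universe u

theorem pPrimeCore_two_eq_bot {G : Type u} [Group G] [Finite G]
    (hO : ∀ N : Subgroup G, N.Normal → Odd (Nat.card N) → N = ⊥) : pPrimeCore 2 G = ⊥ :=
  hO _ (pPrimeCore_normal 2 G)
    (Nat.Coprime.odd_of_left (Nat.coprime_comm.1 CfsgLib.PCore.pPrimeCore_coprime))

/-- With trivial odd core the homocyclic Sylow subgroup is normal. -/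
theorem normal_of_oddCore : ∀ (k : ℕ) (G : Type u) [Group G] [Finite G], Nat.card G = k →
    ∀ (P : Sylow 2 G) (m : ℕ), 2 ≤ m →
      ((P : Subgroup G) ≃* Multiplicative (ZMod (2 ^ m) × ZMod (2 ^ m))) →
      (∀ N : Subgroup G, N.Normal → Odd (Nat.card N) → N = ⊥) → (P : Subgroup G).Normal := by
  intro k
  induction k using Nat.strong_induction_on with
  | _ k ih =>
    intro G _ _ hk P m hm e hO
    haveI : Fact (Nat.Prime 2) := ⟨Nat.prime_two⟩
    by_cases hle : Subgroup.normalizer ((P : Subgroup G) : Set G) ≤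
        Subgroup.centralizer ((P : Subgroup G) : Set G)
    · have hc := MonoidHom.ker_transferSylow_isComplement' P hle
      have hbot : (MonoidHom.transferSylow P hle).ker = ⊥ := hO _ (MonoidHom.normal_ker _)
        (Nat.odd_iff.2 (Nat.two_dvd_ne_zero.1 (by rw [← hc.index_eq_card]; exact P.not_dvd_index)))
      rw [hbot] at hc
      rw [Subgroup.isComplement'_bot_left.1 hc]
      infer_instance
    · obtain ⟨n, hn, hnC⟩ := SetLike.not_le_iff_exists.1 hle
      letI := Fintype.ofFinite G
      obtain ⟨M, hM⟩ := CfsgLib.Blocks.exists_isPModular (p := 2)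
      obtain ⟨f, hf1, hf⟩ :=
        CfsgLib.Blocks.Homo949.Data.exists_linear ⟨P, m, hm, e, n, hn, hnC⟩ hM
      have hPK : (P : Subgroup G) ≤ f.ker := fun x hx => hf x hx
      have hlt : Nat.card f.ker < k := by
        rw [← hk]
        refine lt_of_le_of_ne (Subgroup.card_le_card_group _) fun h => hf1 ?_
        exact MonoidHom.ext fun x => MonoidHom.mem_ker.1
          (by rw [Subgroup.eq_top_of_card_eq _ h]; exact Subgroup.mem_top x)
      let P' : Sylow 2 f.ker := P.subtype hPK
      haveI hP' : (P' : Subgroup f.ker).Normal := ih _ hlt f.ker rfl P' m hm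
        ((Subgroup.subgroupOfEquivOfLe hPK).trans e) fun N hN hodd => by
          refine le_bot_iff.1 ((CfsgLib.PCore.le_pPrimeCore_of_not_dvd (p := 2) hN ?_).trans_eq
            (CfsgLib.PCore.pPrimeCore_eq_bot_of_normal f.ker (pPrimeCore_two_eq_bot hO)))
          rwa [Nat.two_dvd_ne_zero, ← Nat.odd_iff]
      haveI : (P' : Subgroup f.ker).Characteristic := Sylow.characteristic_of_normal P' hP'
      have hmap : (P' : Subgroup f.ker).map f.ker.subtype = (P : Subgroup G) :=
        Subgroup.map_subgroupOf_eq_of_le hPK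
      rw [← hmap]
      infer_instance


/-- Let the finite group G have a Sylow 2-subgroup P isomorphic to Z/2^m × Z/2^m with m ≥ 2, and suppose G has no nontrivial normal subgroup of odd order. Then P is normal in G, C_G(P) = P, and the index of P is 1 or 3. -/
theorem result {G : Type*} [Group G] [Finite G] (P : Sylow 2 G) (m : ℕ) (hm : 2 ≤ m) (e : (P : Subgroup G) ≃* Multiplicative (ZMod (2 ^ m) × ZMod (2 ^ m))) (hO : ∀ N : Subgroup G, N.Normal → Odd (Nat.card N) → N = ⊥) : (P : Subgroup G).Normal ∧ Subgroup.centralizer (P : Set G) = (P : Subgroup G) ∧ ((P : Subgroup G).index = 1 ∨ (P : Subgroup G).index = 3) := by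
  haveI : Fact (Nat.Prime 2) := ⟨Nat.prime_two⟩
  have hnorm := normal_of_oddCore (Nat.card G) G rfl P m hm e hO
  refine ⟨hnorm, ?_⟩
  set C := Subgroup.centralizer ((P : Subgroup G) : Set G) with hC
  haveI := hnorm
  haveI : C.Normal := inferInstance
  have hle : (P : Subgroup G) ≤ C := fun x hx => Subgroup.mem_centralizer_iff.2 fun y hy =>
    congrArg Subtype.val (e.injective (by rw [map_mul, map_mul, mul_comm]) :
      (⟨y, hy⟩ : (P : Subgroup G)) * ⟨x, hx⟩ = ⟨x, hx⟩ * ⟨y, hy⟩)
  let P' : Sylow 2 C := P.subtype hle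
  have hnc : Subgroup.normalizer ((P' : Subgroup C) : Set C) ≤
      Subgroup.centralizer ((P' : Subgroup C) : Set C) := fun c _ =>
    Subgroup.mem_centralizer_iff.2 fun a ha =>
      Subtype.ext (Subgroup.mem_centralizer_iff.1 c.2 (a : G) ha)
  have hcomp := MonoidHom.ker_transferSylow_isComplement' P' hnc
  have hbot : (MonoidHom.transferSylow P' hnc).ker = ⊥ := by
    refine le_bot_iff.1 ((CfsgLib.PCore.le_pPrimeCore_of_not_dvd (p := 2)
      (MonoidHom.normal_ker _) ?_).trans_eq
      (CfsgLib.PCore.pPrimeCore_eq_bot_of_normal C (pPrimeCore_two_eq_bot hO)))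
    rw [← hcomp.index_eq_card]
    exact P'.not_dvd_index
  rw [hbot] at hcomp
  have hCP : C ≤ (P : Subgroup G) := by
    intro c hc
    have h : (⟨c, hc⟩ : C) ∈ (P' : Subgroup C) := by
      rw [Subgroup.isComplement'_bot_left.1 hcomp]
      exact Subgroup.mem_top _
    exact h
  have hCeq : C = (P : Subgroup G) := le_antisymm hCP hle
  refine ⟨hCeq, ?_⟩
  have h := (CfsgLib.Blocks.homocyclic_automizer P m (by omega) e).1
  have htop : Subgroup.normalizer (P : Set G) = ⊤ :=
    (Subgroup.normalizer_eq_top_iff (H := (P : Subgroup G))).2 inferInstance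
  rw [htop, Subgroup.relIndex_top_right] at h
  rw [← hCeq]
  exact h

end Cfsg.Agent.S0949
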