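import Cfsg.Statements.S0031
import Mathlib.GroupTheory.FixedPointFree
import Cfsg.Agent.Lib.Coprime.Basic

set_option autoImplicit false
open Cfsg
open scoped Pointwise

namespace Cfsg.Agent.S0031

/-- A fixed-point-free automorphism of a finite group maps some Sylow p-subgroup to itself. -/
theorem result {G : Type*} [Group G] [Finite G] (φ : G ≃* G)
    (hφ : MonoidHom.FixedPointFree (φ : G →* G)) (p : ℕ) [Fact p.Prime] :
    ∃ P : Sylow p G, (P : Subgroup G).map (φ : G →* G) = P := by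
  obtain ⟨P₀⟩ : Nonempty (Sylow p G) := inferInstance
  -- the image of a Sylow subgroup is a conjugate of it
  have hcard : Nat.card ((P₀ : Subgroup G).map (φ : G →* G)) = p ^ (Nat.card G).factorization p := by
    rw [Subgroup.card_map_of_injective (f := (φ : G →* G)) φ.injective, P₀.card_eq_multiplicity]
  obtain ⟨g, hg⟩ := MulAction.exists_smul_eq G P₀ (Sylow.ofCard _ hcard)
  obtain ⟨w, hw⟩ := (MonoidHom.FixedPointFree.commutatorMap_surjective hφ) g⁻¹
  simp only [MonoidHom.commutatorMap_apply, MonoidHom.coe_coe, div_eq_mul_inv] at hw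
  refine ⟨w⁻¹ • P₀, ?_⟩
  have hwg : φ w⁻¹ * g = w⁻¹ := by
    have h1 : g = (w * (φ w)⁻¹)⁻¹ := by rw [hw, inv_inv]
    rw [h1, map_inv]; group
  have hQ : (P₀ : Subgroup G).map (φ : G →* G) = MulAut.conj g • (P₀ : Subgroup G) := by
    have h1 : ((g • P₀ : Sylow p G) : Subgroup G) = (P₀ : Subgroup G).map (φ : G →* G) := by
      rw [hg]; rfl
    rw [← h1, Sylow.coe_subgroup_smul]
  have hmap : ((MulAut.conj w⁻¹ • (P₀ : Subgroup G)) : Subgroup G).map (φ : G →* G) =
      MulAut.conj (φ w⁻¹) • (P₀ : Subgroup G).map (φ : G →* G) := by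
    ext x
    rw [CfsgLib.Coprime.mem_conj_smul]
    simp only [Subgroup.mem_map, CfsgLib.Coprime.mem_conj_smul, MonoidHom.coe_coe]
    constructor
    · rintro ⟨y, hy, rfl⟩
      exact ⟨_, hy, by simp⟩
    · rintro ⟨y, hy, he⟩
      refine ⟨w⁻¹ * y * w, by simpa [mul_assoc] using hy, ?_⟩
      rw [map_mul, map_mul, he, map_inv]
      group
  rw [Sylow.coe_subgroup_smul, hmap, hQ, ← mul_smul, ← map_mul, hwg]

end Cfsg.Agent.S0031
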