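import Cfsg.Statements.S2800
-- import your own Cfsg.Agent.* helpers here

import Cfsg.Agent.Lib.LocalEven.GlaubermanWeak
import Cfsg.Agent.Lib.Transfer.NormalComplement

set_option autoImplicit false
open Cfsg
open scoped commutatorElement

namespace Cfsg.Agent.S2800

/-- Let S be a Sylow p-subgroup of the finite group G and J(S) the subgroup generated by the abelian subgroups of S of largest order. Suppose p is odd, or the symmetric group of degree 4 is not involved in G. If both C_G(Z(S)) and N_G(J(S)) have normal p-complements, then G has a normal p-complement. -/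
theorem result {G : Type*} [Group G] [Finite G] {p : ℕ} [Fact p.Prime] (S : Sylow p G) (h : p ≠ 2 ∨ ¬ Cfsg.Involves (Equiv.Perm (Fin 4)) G) (hC : Cfsg.HasNormalPComplement p ↥(Subgroup.centralizer (((S : Subgroup G) ⊓ Subgroup.centralizer ((S : Subgroup G) : Set G) : Subgroup G) : Set G))) (hN : Cfsg.HasNormalPComplement p ↥(Subgroup.normalizer ((Cfsg.thompsonSubgroupAOf (S : Subgroup G)) : Set G))) : Cfsg.HasNormalPComplement p G := by
  set Z := (S : Subgroup G) ⊓ Subgroup.centralizer ((S : Subgroup G) : Set G) with hZ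
  rw [CfsgLib.PLocal.thompsonSubgroupAOf_eq] at hN
  set N := Subgroup.normalizer (CfsgLib.PLocal.thompson 0 (S : Subgroup G) : Set G) with hNdef
  have hSN : (S : Subgroup G) ≤ N := CfsgLib.PLocal.le_normalizer_thompson 0 _
  have hSZ : (S : Subgroup G) ≤ Subgroup.centralizer (Z : Set G) := fun s hs =>
    Subgroup.mem_centralizer_iff.2 fun z hz => (Subgroup.mem_centralizer_iff.1 hz.2 s hs).symm
  -- every element of `Z(S)` is weakly closed
  have hweak : ∀ z ∈ Z, ∀ g : G, g * z * g⁻¹ ∈ (S : Subgroup G) → g * z * g⁻¹ = z := by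
    intro z hz
    have hzc : ∀ s ∈ (S : Subgroup G), s * z = z * s := fun s hs =>
      Subgroup.mem_centralizer_iff.1 hz.2 s hs
    refine CfsgLib.LocalEven.GlaubermanWeak.weakly_closed_of_normalizer_thompson S hz.1 hzc
      (pow_one z) (Or.inr ⟨rfl, h⟩) fun n hn => ?_
    have hzJ := CfsgLib.LocalEven.GlaubermanWeak.mem_thompson_of_centralizes hz.1 hzc
    have hnz : n * z * n⁻¹ ∈ (S : Subgroup G) := CfsgLib.PLocal.thompson_le 0 _
      ((Subgroup.mem_set_normalizer_iff.1 hn z).1 hzJ)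
    obtain ⟨u, hu, hu'⟩ :=
      (CfsgLib.Transfer.frobeniusCond_of_hasNormalPComplement hN).controls
        (S.subtype hSN) ⟨z, hSN hz.1⟩ hz.1 ⟨n, hn⟩ hnz
    have e : (u : G) * z * (u : G)⁻¹ = n * z * n⁻¹ := congrArg Subtype.val hu'
    rw [hzc u hu, mul_inv_cancel_right] at e
    exact mul_inv_eq_iff_eq_mul.1 e.symm
  -- an element moving `Z(S)` into a p-group with it centralizes it
  have hcentZ : ∀ (Q : Subgroup G) (n : G), IsPGroup p Q → (∀ z ∈ Z, z ∈ Q ∧ n * z * n⁻¹ ∈ Q) →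
      n ∈ Subgroup.centralizer (Z : Set G) := by
    intro Q n hQ hn
    obtain ⟨Q', hQ'⟩ := hQ.exists_le_sylow
    obtain ⟨a, ha⟩ := MulAction.exists_smul_eq G Q' S
    have hin : ∀ y ∈ Q, a * y * a⁻¹ ∈ (S : Subgroup G) := by
      intro y hy
      rw [← ha, Sylow.coe_subgroup_smul]
      exact ⟨y, hQ' hy, rfl⟩
    refine Subgroup.mem_centralizer_iff.2 fun z hz => ?_
    have e1 := hweak z hz a (hin z (hn z hz).1)
    have e2 := hweak z hz (a * n) (by
      have := hin _ (hn z hz).2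
      simpa [mul_assoc] using this)
    have e3 : n * z * n⁻¹ = z := by
      calc n * z * n⁻¹ = a⁻¹ * (a * n * z * (a * n)⁻¹) * a := by group
        _ = a⁻¹ * (a * z * a⁻¹) * a := by rw [e2, e1]
        _ = z := by group
    exact (mul_inv_eq_iff_eq_mul.1 e3).symm
  refine CfsgLib.Transfer.hasNormalPComplement_of_frobeniusCond
    (CfsgLib.Transfer.frobeniusCond_of_controls S fun x hx g hy => ?_)
  -- reduce to a conjugation inside `C(Z(S))`
  set Y := Subgroup.centralizer ({g * x * g⁻¹} : Set G) with hY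
  have hZY : ∀ z ∈ Z, z ∈ Y ∧ g * z * g⁻¹ ∈ Y := by
    intro z hz
    constructor
    · exact Subgroup.mem_centralizer_singleton_iff.2 (Subgroup.mem_centralizer_iff.1 hz.2 _ hy).symm
    · refine Subgroup.mem_centralizer_singleton_iff.2 ?_
      have e := Subgroup.mem_centralizer_iff.1 hz.2 x hx
      calc g * z * g⁻¹ * (g * x * g⁻¹) = g * (z * x) * g⁻¹ := by group
        _ = g * (x * z) * g⁻¹ := by rw [e]
        _ = g * x * g⁻¹ * (g * z * g⁻¹) := by group
  set Z' := Z.map (MulAut.conj g).toMonoidHom with hZ'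
  have hZ'Y : Z' ≤ Y := by
    rintro _ ⟨z, hz, rfl⟩
    exact (hZY z hz).2
  have hZY' : Z ≤ Y := fun z hz => (hZY z hz).1
  have hZp : IsPGroup p Z := S.2.to_le inf_le_left
  obtain ⟨T₁, hT₁⟩ := (hZp.of_equiv (Subgroup.subgroupOfEquivOfLe hZY').symm).exists_le_sylow
  obtain ⟨T₂, hT₂⟩ :=
    ((hZp.map (MulAut.conj g).toMonoidHom).of_equiv (Subgroup.subgroupOfEquivOfLe hZ'Y).symm).exists_le_sylow
  obtain ⟨c, hc⟩ := MulAction.exists_smul_eq ↥Y T₂ T₁
  have hn : (c : G) * g ∈ Subgroup.centralizer (Z : Set G) := by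
    refine hcentZ ((T₁ : Subgroup ↥Y).map Y.subtype) _ (T₁.2.map _) fun z hz => ⟨?_, ?_⟩
    · exact ⟨⟨z, hZY' hz⟩, hT₁ hz, rfl⟩
    · refine ⟨c * ⟨g * z * g⁻¹, (hZY z hz).2⟩ * c⁻¹, ?_, ?_⟩
      · rw [← hc, Sylow.coe_subgroup_smul]
        exact ⟨⟨g * z * g⁻¹, (hZY z hz).2⟩, hT₂ (show g * z * g⁻¹ ∈ Z' from ⟨z, hz, rfl⟩), rfl⟩
      · show (c : G) * (g * z * g⁻¹) * (c : G)⁻¹ = _
        group
  have hcy : (c : G) * (g * x * g⁻¹) * (c : G)⁻¹ = g * x * g⁻¹ :=
    mul_inv_eq_iff_eq_mul.2 (Subgroup.mem_centralizer_singleton_iff.1 c.2)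
  have hxy : (c : G) * g * x * ((c : G) * g)⁻¹ = g * x * g⁻¹ := by
    rw [← hcy]; group
  obtain ⟨u, hu, hu'⟩ :=
    (CfsgLib.Transfer.frobeniusCond_of_hasNormalPComplement hC).controls
      (S.subtype hSZ) ⟨x, hSZ hx⟩ hx ⟨(c : G) * g, hn⟩
      (show (c : G) * g * x * ((c : G) * g)⁻¹ ∈ (S : Subgroup G) by rw [hxy]; exact hy)
  exact ⟨u, hu, (congrArg Subtype.val hu').trans hxy⟩

end Cfsg.Agent.S2800
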