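import Cfsg.Statements.S2759
import Cfsg.Agent.Lib.LocalEven.InvolvesFour
import Cfsg.Agent.Lib.LocalEven.SFour

set_option autoImplicit false
open Cfsg
open CfsgLib.LocalEven.Involved
open scoped commutatorElement

namespace Cfsg.Agent.S2759

/-- The forward direction. -/
theorem forward {G : Type*} [Group G] [Finite G] (h : Cfsg.Involves (Equiv.Perm (Fin 4)) G) :
    ∃ T : Subgroup G, IsPGroup 2 ↥T ∧ Cfsg.Involves (Equiv.Perm (Fin 3))
      (↥(Subgroup.normalizer (T : Set G)) ⧸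
        (Subgroup.centralizer (T : Set G)).subgroupOf (Subgroup.normalizer (T : Set G))) := by
  have : Fact (Nat.Prime 2) := ⟨Nat.prime_two⟩
  obtain ⟨K, f, hf⟩ := exists_hom_of_involves h
  set V := CfsgLib.LocalEven.SFour.toThree.ker with hV
  have hVp : IsPGroup 2 V :=
    IsPGroup.of_card (n := 2) (by rw [hV, CfsgLib.LocalEven.SFour.card_ker_toThree]; rfl)
  obtain ⟨P⟩ : Nonempty (Sylow 2 ↥(V.comap f)) := inferInstance
  have hMs : Function.Surjective (f.subgroupComap V) :=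
    f.subgroupComap_surjective_of_surjective V hf
  set P' := (P : Subgroup ↥(V.comap f)).map (V.comap f).subtype with hP'
  have hPV : P'.map f = V := by
    have h2 := (Sylow.mapSurjective hMs P).3 (Q := (⊤ : Subgroup ↥V))
      (hVp.of_equiv Subgroup.topEquiv.symm) le_top
    calc P'.map f = ((P : Subgroup ↥(V.comap f)).map (f.subgroupComap V)).map V.subtype := by
          rw [hP', Subgroup.map_map, Subgroup.map_map]; rfl
      _ = V := by
          have h3 : (P : Subgroup ↥(V.comap f)).map (f.subgroupComap V) = ⊤ := by simpa using h2.symm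
          rw [h3, ← MonoidHom.range_eq_map, Subgroup.range_subtype]
  have hfr : Subgroup.normalizer (P' : Set ↥K) ⊔ V.comap f = ⊤ := Sylow.normalizer_sup_eq_top P
  have hNtop : (Subgroup.normalizer (P' : Set ↥K)).map f = ⊤ := by
    rw [eq_top_iff, ← Subgroup.map_top_of_surjective f hf, ← hfr, Subgroup.map_sup,
      Subgroup.map_comap_eq_self_of_surjective hf]
    refine sup_le le_rfl ?_
    calc V = P'.map f := hPV.symm
      _ ≤ _ := Subgroup.map_mono Subgroup.le_normalizer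
  set T := P'.map K.subtype with hT
  refine ⟨T, (P.2.map _).map _, ?_⟩
  have hmem : ∀ n : ↥(Subgroup.normalizer (P' : Set ↥K)),
      ((n : ↥K) : G) ∈ Subgroup.normalizer (T : Set G) :=
    fun n => Subgroup.le_normalizer_map K.subtype ⟨n.1, n.2, rfl⟩
  let g : ↥(Subgroup.normalizer (P' : Set ↥K)) →* ↥(Subgroup.normalizer (T : Set G)) ⧸
      (Subgroup.centralizer (T : Set G)).subgroupOf (Subgroup.normalizer (T : Set G)) :=
    (QuotientGroup.mk' _).comp ((K.subtype.comp (Subgroup.normalizer (P' : Set ↥K)).subtype).codRestrict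
      (Subgroup.normalizer (T : Set G)) hmem)
  refine involves_of_factor g ((CfsgLib.LocalEven.SFour.toThree.comp f).comp
    (Subgroup.normalizer (P' : Set ↥K)).subtype) ?_ ?_
  · intro π
    obtain ⟨σ, rfl⟩ := CfsgLib.LocalEven.SFour.toThree_surjective π
    obtain ⟨n, hn, rfl⟩ : σ ∈ (Subgroup.normalizer (P' : Set ↥K)).map f := by
      rw [hNtop]; trivial
    exact ⟨⟨n, hn⟩, rfl⟩
  · intro n hn
    have hc : ((n : ↥K) : G) ∈ Subgroup.centralizer (T : Set G) := by
      have := (QuotientGroup.eq_one_iff _).1 (MonoidHom.mem_ker.1 hn)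
      exact Subgroup.mem_subgroupOf.1 this
    rw [MonoidHom.mem_ker]
    show CfsgLib.LocalEven.SFour.toThree (f n.1) = 1
    refine MonoidHom.mem_ker.1 (CfsgLib.LocalEven.SFour.centralizer_ker_le fun τ hτ => ?_)
    obtain ⟨u, hu, rfl⟩ : τ ∈ P'.map f := by rw [hPV]; exact hτ
    have h1 := Subgroup.mem_centralizer_iff.1 hc (u : G) ⟨u, hu, rfl⟩
    rw [← map_mul, ← map_mul]
    exact congrArg f (Subtype.ext h1)

/-- The backward direction. -/
theorem backward {G : Type*} [Group G] [Finite G] (T : Subgroup G) (hT : IsPGroup 2 ↥T)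
    (h : Cfsg.Involves (Equiv.Perm (Fin 3)) (↥(Subgroup.normalizer (T : Set G)) ⧸
        (Subgroup.centralizer (T : Set G)).subgroupOf (Subgroup.normalizer (T : Set G)))) :
    Cfsg.Involves (Equiv.Perm (Fin 4)) G := by
  have : Fact (Nat.Prime 2) := ⟨Nat.prime_two⟩
  have : Fact (Nat.Prime 3) := ⟨Nat.prime_three⟩
  set N := Subgroup.normalizer (T : Set G) with hN
  set C := (Subgroup.centralizer (T : Set G)).subgroupOf N with hC
  obtain ⟨e⟩ := CfsgLib.LocalEven.SFour.dihedralThree_mulEquiv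
  obtain ⟨x1, P1, ⟨k1, hk1⟩, hP1, hn1, hc1⟩ :=
    exists_acting_of_involves (p := 3) (by norm_num) (involves_of_equiv e.symm h)
  obtain ⟨a, c, ⟨ka, hka⟩, hc, hc1', hac⟩ := exists_inverted P1 hP1 k1 x1 hk1 hn1 hc1
  obtain ⟨l, hl⟩ := (IsPGroup.iff_orderOf.1 hP1) ⟨c, hc⟩
  rw [Subgroup.orderOf_mk] at hl
  obtain ⟨l', rfl⟩ : ∃ l', l = l' + 1 := by
    refine Nat.exists_eq_add_one.2 (Nat.pos_of_ne_zero ?_)
    rintro rfl
    rw [pow_zero, orderOf_eq_one_iff] at hl
    exact hc1' hl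
  set z := c ^ (3 ^ l') with hzdef
  have hz : orderOf z = 3 := by
    rw [hzdef, orderOf_pow' c (pow_ne_zero _ (by norm_num)), hl, pow_succ, Nat.gcd_mul_right_left,
      Nat.mul_div_cancel_left _ (pow_pos (by norm_num) _)]
  have haz : a * z * a⁻¹ = z⁻¹ := CfsgLib.Involutions.inverts_pow hac _
  set NA := Subgroup.normalizer ((Subgroup.zpowers z : Subgroup (↥N ⧸ C)) : Set (↥N ⧸ C)) with hNA
  have haN : a ∈ NA := by
    rw [hNA, Subgroup.mem_normalizer_iff]
    intro w
    constructor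
    · rintro ⟨i, rfl⟩
      exact ⟨-i, by show z ^ (-i) = a * z ^ i * a⁻¹; rw [← conj_zpow, haz, inv_zpow, zpow_neg]⟩
    · rintro ⟨i, hi⟩
      refine ⟨-i, ?_⟩
      have h1 : w = a⁻¹ * z ^ i * a := by
        have hi' : z ^ i = a * w * a⁻¹ := hi
        rw [hi']; group
      show z ^ (-i) = w
      have h2 : a * z ^ (-i) * a⁻¹ = z ^ i := by
        rw [← conj_zpow, haz, inv_zpow, zpow_neg, inv_inv]
      rw [h1, ← h2]; group
  set q0 : ↥N →* ↥N ⧸ C := QuotientGroup.mk' C with hq0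
  set π : ↥(NA.comap q0) →* ↥NA := q0.subgroupComap NA with hπdef
  have hπ : Function.Surjective π :=
    q0.subgroupComap_surjective_of_surjective NA (QuotientGroup.mk'_surjective C)
  have hN3 : IsPGroup 3 ↥((Subgroup.zpowers z).subgroupOf NA) := by
    refine IsPGroup.of_card (n := 1) ?_
    rw [Nat.card_congr (Subgroup.subgroupOfEquivOfLe Subgroup.le_normalizer).toEquiv,
      Nat.card_zpowers, hz, pow_one]
  have hN3n : ((Subgroup.zpowers z).subgroupOf NA).Normal := Subgroup.normal_subgroupOf_iff_le_normalizer Subgroup.le_normalizer |>.2 le_rfl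
  obtain ⟨x, P, ⟨j, hj⟩, hP, hxP, hxd, hPN⟩ :=
    exists_lift_normalizing π hπ ((Subgroup.zpowers z).subgroupOf NA) hN3 ⟨a, haN⟩ (k := ka)
      (by rw [Subgroup.orderOf_mk]; exact hka)
  obtain ⟨y, hyP, hyz⟩ : (⟨z, Subgroup.le_normalizer (Subgroup.mem_zpowers z)⟩ : ↥NA) ∈ P.map π := by
    rw [hPN, Subgroup.mem_subgroupOf]; exact Subgroup.mem_zpowers z
  have hπval : ∀ w, (π w : ↥N ⧸ C) = q0 w.1 := fun w => rfl
  have hxa : q0 x.1 = a := by rw [← hπval, hxd]
  have hyz' : q0 y.1 = z := by rw [← hπval, hyz]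
  set PL := P.map (NA.comap q0).subtype with hPL
  set T' := T.subgroupOf N with hT'
  have hT'n : T'.Normal := Subgroup.normal_subgroupOf_iff_le_normalizer Subgroup.le_normalizer |>.2 le_rfl
  have hT'p : IsPGroup 2 ↥T' := hT.of_equiv (Subgroup.subgroupOfEquivOfLe Subgroup.le_normalizer).symm
  set Φ := (frattini ↥T').map T'.subtype with hΦ
  have hΦn : Φ.Normal := inferInstance
  set q := QuotientGroup.mk' Φ with hq
  have hquot := isElementaryAbelian_quotient_frattini hT'p
  have hVe : IsElementaryAbelian 2 (T'.map q) := by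
    refine ⟨⟨⟨fun u v => ?_⟩⟩, fun u hu => ?_⟩
    · obtain ⟨s, hs, hsu⟩ := u.2
      obtain ⟨t, ht, htv⟩ := v.2
      apply Subtype.ext
      show u.1 * v.1 = v.1 * u.1
      rw [← hsu, ← htv, ← map_mul, ← map_mul, hq, QuotientGroup.mk'_apply, QuotientGroup.mk'_apply,
        QuotientGroup.eq]
      have h1 := (hquot.1).1.comm ((⟨s, hs⟩ : ↥T') : ↥T' ⧸ frattini ↥T') ((⟨t, ht⟩ : ↥T'))
      rw [← QuotientGroup.mk_mul, ← QuotientGroup.mk_mul, QuotientGroup.eq] at h1
      exact ⟨_, h1, rfl⟩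
    · obtain ⟨s, hs, rfl⟩ := hu
      rw [← map_pow, hq, QuotientGroup.mk'_apply, QuotientGroup.eq_one_iff]
      have h1 := hquot.2 ((⟨s, hs⟩ : ↥T') : ↥T' ⧸ frattini ↥T')
      rw [← QuotientGroup.mk_pow, QuotientGroup.eq_one_iff] at h1
      exact ⟨_, h1, rfl⟩
  have hVn : (T'.map q).Normal := hT'n.map q (QuotientGroup.mk'_surjective Φ)
  have hCcent : ∀ w : ↥N, q0 w = 1 → q w ∈ Subgroup.centralizer ((T'.map q : Subgroup (↥N ⧸ Φ)) : Set (↥N ⧸ Φ)) := by
    intro w hw
    rw [hq0, QuotientGroup.mk'_apply, QuotientGroup.eq_one_iff, Subgroup.mem_subgroupOf] at hw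
    rw [Subgroup.mem_centralizer_iff]
    rintro _ ⟨t, ht, rfl⟩
    rw [← map_mul, ← map_mul]
    exact congrArg q (Subtype.ext (Subgroup.mem_centralizer_iff.1 hw t.1 ht))
  refine involves_of_subgroup (involves_of_surjective q (QuotientGroup.mk'_surjective Φ)
    (involves_four_of_action (T'.map q) hVe (q x.1) (q y.1) (PL.map q) (k := ?_) ?_ ?_ ?_ ?_ ?_ ?_ ?_ ?_))
  · exact (Nat.log 2 (orderOf (q x.1)))
  · have h1 : orderOf (q x.1) ∣ 2 ^ j := by
      rw [← hj, ← Subgroup.orderOf_coe x]; exact orderOf_map_dvd q x.1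
    obtain ⟨i, -, hi⟩ := (Nat.dvd_prime_pow Nat.prime_two).1 h1
    rw [hi, Nat.log_pow (by norm_num)]
  · exact (hP.map _).map q
  · exact Subgroup.le_normalizer_map q ⟨x.1, Subgroup.le_normalizer_map _ ⟨x, hxP, rfl⟩, rfl⟩
  · exact ⟨y.1, ⟨y, hyP, rfl⟩, rfl⟩
  · intro hyc
    have h1 : Subgroup.zpowers y.1 ≤ Subgroup.centralizer (T' : Set ↥N) := by
      refine le_centralizer_of_le_centralizer_frattini (r := 2) (q := 3) (by norm_num) hT'p ?_ ?_ ?_
      · exact (hP.map (NA.comap q0).subtype).to_le (Subgroup.zpowers_le.2 ⟨y, hyP, rfl⟩)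
      · intro u hu t ht
        have hu' : q u ∈ Subgroup.centralizer ((T'.map q : Subgroup (↥N ⧸ Φ)) : Set (↥N ⧸ Φ)) := by
          obtain ⟨i, rfl⟩ := hu
          rw [map_zpow]
          exact Subgroup.zpow_mem _ hyc i
        have h2 := Subgroup.mem_centralizer_iff.1 hu' (q t) ⟨t, ht, rfl⟩
        have h3 : q ⁅u, t⁆ = 1 := by
          rw [map_commutatorElement, commutatorElement_eq_one_iff_mul_comm]
          exact h2.symm
        exact (QuotientGroup.eq_one_iff _).1 h3
      · rw [Subgroup.normalizer_eq_top_iff.2 hT'n]; exact le_top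
    have h4 : q0 y.1 = 1 := by
      refine (QuotientGroup.eq_one_iff _).2 (Subgroup.mem_subgroupOf.2 (Subgroup.mem_centralizer_iff.2 ?_))
      intro t ht
      exact congrArg Subtype.val (Subgroup.mem_centralizer_iff.1 (h1 (Subgroup.mem_zpowers _))
        ⟨t, Subgroup.le_normalizer ht⟩ ht)
    rw [hyz'] at h4
    rw [h4, orderOf_one] at hz
    exact absurd hz (by norm_num)
  · rw [← map_pow]
    refine hCcent _ ?_
    rw [map_pow, hyz', ← hz, pow_orderOf_eq_one]
  · rintro _ ⟨_, ⟨u, hu, rfl⟩, rfl⟩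
    have h1 : π u ∈ P.map π := ⟨u, hu, rfl⟩
    rw [hPN, Subgroup.mem_subgroupOf, hπval, ← mem_powers_iff_mem_zpowers] at h1
    obtain ⟨i, hi⟩ := h1
    refine ⟨2 * i, ?_⟩
    rw [← map_pow, ← map_mul]
    refine hCcent _ ?_
    rw [map_mul, map_pow, hyz']
    have hi' : z ^ i = q0 u.1 := hi
    show z ^ (2 * i) * q0 u.1 = 1
    rw [← hi', ← pow_add, show 2 * i + i = 3 * i by ring, pow_mul, ← hz, pow_orderOf_eq_one, one_pow]
  · rw [← map_inv, ← map_mul, ← map_mul, ← map_mul]
    refine hCcent _ ?_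
    rw [map_mul, map_mul, map_mul, map_inv, hxa, hyz', haz, inv_mul_cancel]

/-- For a finite group G, the symmetric group of degree 4 is involved in G if and only if there is a 2-subgroup T of G such that the symmetric group of degree 3 is involved in N(T)/C(T). -/
theorem result {G : Type*} [Group G] [Finite G] : Cfsg.Involves (Equiv.Perm (Fin 4)) G ↔ ∃ T : Subgroup G, IsPGroup 2 ↥T ∧ Cfsg.Involves (Equiv.Perm (Fin 3)) (↥(Subgroup.normalizer (T : Set G)) ⧸ (Subgroup.centralizer (T : Set G)).subgroupOf (Subgroup.normalizer (T : Set G))) :=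
  ⟨forward, fun ⟨T, hT, h⟩ => backward T hT h⟩

end Cfsg.Agent.S2759
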