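import Cfsg.Statements.S5148
import Cfsg.Agent.Lib.FusionNormal.Abelian
import Cfsg.Agent.Lib.FusionNormal.Inner
import Cfsg.Agent.Lib.Fusion.Factor

set_option autoImplicit false
open Cfsg

namespace Cfsg.Agent.S5148

/-- A quasisimple fusion system over a finite p-group S (saturated, equal to its p-residual subsystem, with simple — in particular nontrivial — factor system modulo its centre) has S nonabelian. -/
theorem result {Ω : Type*} [Group Ω] {S : Subgroup Ω} [Finite S] (p : ℕ) [Fact p.Prime] (hS : IsPGroup p S) (F : Cfsg.FusionSystem S) (hq : F.Quasisimple p) : ¬ IsMulCommutative S := by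
  intro hab'
  obtain ⟨hF, hhyp, hsimp⟩ := hq
  have hab : ∀ x ∈ S, ∀ y ∈ S, x * y = y * x := fun x hx y hy =>
    congrArg Subtype.val (hab'.is_comm.comm (⟨x, hx⟩ : S) ⟨y, hy⟩)
  have hcomm : ⁅S, S⁆ = ⊥ := by
    rw [eq_bot_iff, Subgroup.commutator_le]
    intro g hg h hh
    rw [Subgroup.mem_bot, commutatorElement_eq_one_iff_mul_comm]
    exact hab g hg h hh
  -- the centre is trivial
  have hfoc : F.focalSubgroup = S := by
    refine le_antisymm (CfsgLib.Fusion.StableBiset.focalSubgroup_le F) ?_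
    rw [CfsgLib.Fusion.focal_eq hS hF, hhyp]
    exact le_sup_left
  have hz : F.center = ⊥ := by
    have h := (CfsgLib.FusionNormal.center_mul_focal_of_abelian hS hF hab).1
    rwa [hfoc, inf_eq_left.mpr (CfsgLib.FusionExt.isCentral_center F).1] at h
  have hA : F.StronglyClosed F.center := hz.symm ▸ CfsgLib.Fusion.stronglyClosed_bot F
  haveI : ((F.center).subgroupOf S).Normal := ⟨fun n hn g => by
    rw [Subgroup.mem_subgroupOf, hz, Subgroup.mem_bot, OneMemClass.coe_eq_one] at hn ⊢
    rw [hn, mul_one, mul_inv_cancel]⟩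
  let θ := QuotientGroup.mk' ((F.center).subgroupOf S)
  have hk : ∀ s : S, θ s = 1 ↔ (s : Ω) ∈ F.center := fun s => by
    rw [QuotientGroup.mk'_apply, QuotientGroup.eq_one_iff, Subgroup.mem_subgroupOf]
  obtain ⟨E, hE⟩ : ∃ E : FusionSystem (⊤ : Subgroup (S ⧸ (F.center).subgroupOf S)),
      F.IsFactorSystem F.center θ E := by
    have h := CfsgLib.FusionFactor.factorSystem_isFactorSystem (θ := θ) hk hA
    have hr : θ.range = ⊤ := MonoidHom.range_eq_top.mpr (QuotientGroup.mk'_surjective _)
    revert h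
    generalize CfsgLib.FusionFactor.factorSystem F θ F.center hk hA = E₀
    revert E₀
    generalize hR : θ.range = R
    obtain rfl : R = ⊤ := hR.symm.trans hr
    exact fun E₀ h => ⟨E₀, h⟩
  obtain ⟨hEs, hne, hall⟩ := hsimp E hE
  haveI : Finite ↥(⊤ : Subgroup (S ⧸ (F.center).subgroupOf S)) := Subtype.finite
  have hQ : IsPGroup p (⊤ : Subgroup (S ⧸ (F.center).subgroupOf S)) := (hS.to_quotient _).to_subgroup ⊤
  have hQc : ∀ a b : S ⧸ (F.center).subgroupOf S, a * b = b * a := by
    intro a b
    induction a using QuotientGroup.induction_on with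
    | H a =>
      induction b using QuotientGroup.induction_on with
      | H b => rw [← QuotientGroup.mk_mul, ← QuotientGroup.mk_mul, hab'.is_comm.comm a b]
  have hN : E.IsNormal (⊤ : Subgroup (S ⧸ (F.center).subgroupOf S)) :=
    CfsgLib.FusionExtend.isNormal_of_abelian hQ hEs CfsgLib.FusionExtend.sc_self (by
      rw [eq_bot_iff, Subgroup.commutator_le]
      intro g _ h _
      rw [Subgroup.mem_bot, commutatorElement_eq_one_iff_mul_comm]
      exact hQc g h)
  have hinner := ((hall _ _ (CfsgLib.FusionNormal.inner_isNormalIn hQ hEs hN)).resolve_left hne).2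
  -- every map of `E` is an inclusion
  have hid : ∀ (P : Subgroup (S ⧸ (F.center).subgroupOf S)) φ, φ ∈ E.Hom P → ∀ x : P, φ x = x := by
    intro P φ hφ x
    obtain ⟨-, g, -, hg⟩ := (hinner P).ge hφ
    rw [hg, hQc g x, mul_inv_cancel_right]
  have htriv : ∀ (φ : S →* Ω), φ ∈ F.Hom S → ∀ x : S, φ x = x := by
    intro φ hφ x
    obtain ⟨φ', hφ', hP, hφS, hm, e⟩ := CfsgLib.FusionFactor.exists_map_induced hS hF hA hE hφ
    have h1 := (hid _ φ' hφ' _).symm.trans (e x)
    have h2 := (CfsgLib.FusionFactor.theta_eq_iff hk _ _).mp h1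
    rw [hz, Subgroup.mem_bot, inv_mul_eq_one] at h2
    exact h2.symm
  have hFN : F.IsNormal S := CfsgLib.FusionExtend.isNormal_of_abelian hS hF CfsgLib.FusionExtend.sc_self hcomm
  have hbot : F.hyperfocalSubgroup p = ⊥ := by
    rw [eq_bot_iff, FusionSystem.hyperfocalSubgroup, Subgroup.closure_le]
    rintro _ ⟨P, α, x, hP, -, rfl⟩
    obtain ⟨β, hβ, hβe⟩ := (CfsgLib.Fusion.isNormal_iff_maps_extend hS hF le_rfl).mp hFN P hP _
      ((CfsgLib.Fusion.mem_autGroup hP).mp α.2)
    have h1 := (hβe x).symm.trans (htriv _ ((CfsgLib.Fusion.mem_autGroup le_rfl).mp hβ) _)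
    refine Subgroup.mem_bot.mpr ?_
    rw [inv_mul_eq_one]
    exact h1.symm
  apply hne
  rw [eq_bot_iff]
  intro q _
  induction q using QuotientGroup.induction_on with
  | H s =>
    have : s = 1 := Subtype.ext ((Subgroup.mem_bot).mp ((hhyp.symm.trans hbot).le s.2))
    rw [this]
    exact Subgroup.one_mem _

end Cfsg.Agent.S5148
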