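import Cfsg.Statements.S5186
import Cfsg.Agent.Lib.Fusion.EssentialFlag

set_option autoImplicit false
universe u
open Cfsg

namespace Cfsg.Agent.S5186

/-- Let F be a saturated fusion system over a finite p-group S and H an essential subgroup of order p³. Then H is elementary abelian, or p is odd and H is extraspecial of exponent p, or p = 2 and H is the quaternion group of order 8. -/
theorem result {Ω : Type u} [Group Ω] {S : Subgroup Ω} [Finite S] (p : ℕ) [Fact p.Prime] (hS : IsPGroup p S)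
    (F : Cfsg.FusionSystem S) (hF : F.IsSaturated p) (H : Subgroup Ω) (hH : F.IsEssential p H) (hcard : Nat.card H = p ^ 3) :
    Cfsg.IsElementaryAbelian p H ∨ (Odd p ∧ Cfsg.IsExtraspecial p ↥H ∧ ∀ x ∈ H, x ^ p = 1) ∨
      (p = 2 ∧ Nonempty (↥H ≃* QuaternionGroup 2)) := by
  have : Finite H := CfsgLib.Fusion.finite_of_le hH.1.1
  have hflag : ∀ L₁ L₂ : Subgroup H, (∀ a : MulAut H, ∀ x ∈ L₁, a x ∈ L₁) → (∀ a : MulAut H, ∀ x ∈ L₂, a x ∈ L₂) →
      L₁ ≤ L₂ → Nat.card L₁ = p → Nat.card L₂ = p ^ 2 → False := by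
    intro L₁ L₂ h₁ h₂ h₁₂ c₁ c₂
    refine CfsgLib.FusionFlag.not_flag hS hH 3
      (fun i => if i = 0 then ⊥ else if i = 1 then L₁ else if i = 2 then L₂ else ⊤) rfl rfl ?_ ?_ ?_
    · intro i hi a x hx
      rcases (show i = 0 ∨ i = 1 ∨ i = 2 ∨ i = 3 by omega) with rfl | rfl | rfl | rfl
      · have hx' : x = 1 := Subgroup.mem_bot.mp hx
        show a x ∈ (⊥ : Subgroup H)
        rw [hx', map_one]; exact Subgroup.one_mem _
      · exact h₁ a x hx
      · exact h₂ a x hx
      · exact Subgroup.mem_top _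
    · intro i hi
      rcases (show i = 0 ∨ i = 1 ∨ i = 2 by omega) with rfl | rfl | rfl
      · exact bot_le
      · exact h₁₂
      · exact le_top
    · intro i hi
      rcases (show i = 0 ∨ i = 1 ∨ i = 2 by omega) with rfl | rfl | rfl
      · show Nat.card L₁ = p * Nat.card (⊥ : Subgroup H)
        rw [c₁, Subgroup.card_bot, mul_one]
      · show Nat.card L₂ = p * Nat.card L₁
        rw [c₂, c₁, pow_two]
      · show Nat.card (⊤ : Subgroup H) = p * Nat.card L₂
        rw [Subgroup.card_top, hcard, c₂]; ring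
  rcases CfsgLib.FusionFlag.classify_cube (K := H) hcard hflag with ⟨hc, he⟩ | ⟨hodd, hE, he⟩ | h
  · exact Or.inl ⟨hc, fun a ha => congrArg Subtype.val (he ⟨a, ha⟩)⟩
  · exact Or.inr (Or.inl ⟨hodd, hE, fun a ha => congrArg Subtype.val (he ⟨a, ha⟩)⟩)
  · exact Or.inr (Or.inr h)

end Cfsg.Agent.S5186
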