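import Cfsg.Statements.S5128
import Cfsg.Agent.Lib.Fusion.Extend

set_option autoImplicit false
open Cfsg

namespace Cfsg.Agent.S5128
open scoped Pointwise

/-- In a saturated fusion system over a finite p-group S, the product of two strongly closed subgroups is strongly closed. -/
theorem result {Ω : Type*} [Group Ω] {S : Subgroup Ω} [Finite S] (p : ℕ) [Fact p.Prime] (hS : IsPGroup p S) (F : Cfsg.FusionSystem S) (hF : F.IsSaturated p) (T₁ T₂ : Subgroup Ω) (h₁ : F.StronglyClosed T₁) (h₂ : F.StronglyClosed T₂) : F.StronglyClosed (T₁ ⊔ T₂) := by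
  refine ⟨sup_le h₁.1 h₂.1, fun R hR φ hφ x => ?_⟩
  obtain ⟨ψ, hψ, h⟩ := CfsgLib.FusionExtend.exists_congr_extension hS hF h₁ hφ
  have hx : (x : Ω) ∈ ((T₁ : Set Ω) * (T₂ : Set Ω)) := by
    rw [← Subgroup.coe_mul_of_right_le_normalizer_left T₁ T₂
      (h₂.1.trans (CfsgLib.FusionExtend.sc_normalizer h₁))]
    exact hR x.2
  obtain ⟨a, ha, b, hb, hab⟩ := hx
  have ha' : a ∈ R ⊔ T₁ := Subgroup.mem_sup_right ha
  have hb' : b ∈ R ⊔ T₁ := by
    have := (R ⊔ T₁).mul_mem ((R ⊔ T₁).inv_mem ha') (Subgroup.mem_sup_left x.2)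
    rwa [← hab, inv_mul_cancel_left] at this
  have e : ψ ⟨x, Subgroup.mem_sup_left x.2⟩ = ψ ⟨a, ha'⟩ * ψ ⟨b, hb'⟩ := by
    rw [← map_mul]
    exact congrArg ψ (Subtype.ext hab.symm)
  have e1 := CfsgLib.FusionExtend.sc_apply h₁ hψ ⟨a, ha'⟩ ha
  have e2 := CfsgLib.FusionExtend.sc_apply h₂ hψ ⟨b, hb'⟩ hb
  have e3 : ψ ⟨x, Subgroup.mem_sup_left x.2⟩ ∈ T₁ ⊔ T₂ :=
    e ▸ Subgroup.mul_mem _ (Subgroup.mem_sup_left e1) (Subgroup.mem_sup_right e2)
  have e4 := Subgroup.mul_mem _ e3 (Subgroup.inv_mem _ (Subgroup.mem_sup_left (T := T₂) (h x)))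
  simpa [mul_assoc] using e4

end Cfsg.Agent.S5128
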