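import Cfsg.Statements.S2761
import Cfsg.Agent.Lib.LocalEven.Qd

set_option autoImplicit false
open Cfsg
open CfsgLib.LocalEven

namespace Cfsg.Agent.S2761

/-- The group Qd(2), the natural semidirect product of an elementary abelian group of order 4 by SL₂(2) (realised as the affine subgroup of SL₃(2)), is isomorphic to the symmetric group of degree 4. -/
theorem result : Nonempty (↥(Cfsg.qd 2) ≃* Equiv.Perm (Fin 4)) := by
  haveI : Fact (Nat.Prime 2) := ⟨Nat.prime_two⟩
  show Nonempty (↥(Cfsg.qdOver (ZMod 2)) ≃* Equiv.Perm (Fin 4))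
  have hfin : Finite ↥(Cfsg.qdOver (ZMod 2)) := inferInstance
  have hsl : Nat.card (Matrix.SpecialLinearGroup (Fin 2) (ZMod 2)) = 6 := by
    rw [Nat.card_eq_fintype_card]; decide +kernel
  have hcard : Nat.card ↥(Cfsg.qdOver (ZMod 2)) = 24 := by
    rw [Nat.card_congr (Qd.equivProd (F := ZMod 2)), Nat.card_prod, hsl, Nat.card_eq_fintype_card]
    simp
  have hpc : Nat.card (Equiv.Perm (Fin 2 → ZMod 2)) = 24 := by
    rw [Nat.card_eq_fintype_card, Fintype.card_perm]
    simp [Nat.factorial]
  have hbij : Function.Bijective (Qd.affine (F := ZMod 2)) :=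
    (Nat.bijective_iff_injective_and_card _).2 ⟨Qd.affine_injective, hcard.trans hpc.symm⟩
  exact ⟨(MulEquiv.ofBijective _ hbij).trans
    ((Fintype.equivFinOfCardEq (by simp : Fintype.card (Fin 2 → ZMod 2) = 4)).permCongrHom)⟩

end Cfsg.Agent.S2761
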