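import Cfsg.Statements.S5203
import Cfsg.Agent.Lib.Fusion.PIndexExist
import Cfsg.Agent.Lib.Fusion.ModClosed
-- import your own Cfsg.Agent.* helpers here

set_option autoImplicit false
open Cfsg

namespace Cfsg.Agent.S5203

open CfsgLib.Fusion Cfsg.FusionSystem

universe u

section
variable {Ω : Type u} [Group Ω] {p : ℕ}

/-- The residual systems of a stable system are the system itself. -/
theorem index_self [Fact p.Prime] {H S : Subgroup Ω} [Finite S] (X : Cfsg.FusionSystem S) (D D' : Cfsg.FusionSystem H)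
    (hS : IsPGroup p S) (hH : H = S) (hX : X.IsPPrimeResidual p X) (hDs : D.IsSaturated p)
    (hDi : D.HasPPowerIndexIn X p) (hD' : D.IsPPrimeResidual p D') : ∀ P, D'.Hom P = X.Hom P := by
  subst hH
  have hXi : X.HasPPowerIndexIn X p :=
    ⟨fun P => subset_rfl, hyperfocal_le X p, fun P _ => Subgroup.map_subtype_le _⟩
  have e : D = X := le_antisymm' (le_of_pIndex hS le_rfl hDs hDi.1 hXi) (le_of_pIndex hS le_rfl hX.1 hXi.1 hDi)
  subst e
  exact fun P => Set.Subset.antisymm (hD'.2.1.1 P) (hX.2.2 D' hD'.1 hD'.2.1 P)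

/-- A stable system is the only residual limit of itself. -/
theorem limit_of_stable {V : Subgroup Ω} {B : Cfsg.FusionSystem V} {S' : Subgroup Ω}
    {Y : Cfsg.FusionSystem S'} (hB : B.IsResidualLimitOf Y p) :
    ∀ [Fact p.Prime] {S : Subgroup Ω} (X : Cfsg.FusionSystem S), Finite S → IsPGroup p S → X.hyperfocalSubgroup p = S →
      X.IsPPrimeResidual p X → S' = S → (∀ P, Y.Hom P = X.Hom P) → ∀ P, B.Hom P = X.Hom P := by
  induction hB with
  | stable Y p _ _ => intro _ S X _ _ _ _ _ h; exact h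
  | step Y p D D' hD hD' hB ih =>
    intro _ S X hfin hS hhyp hX hS' hYX
    subst hS'
    have hYX' : Y = X := ext_hom hYX
    subst hYX'
    exact ih Y hfin hS hhyp hX hhyp (index_self Y D D' hS hhyp hX hD.1 hD.2 hD')

/-- A system has only one residual limit. -/
theorem limit_unique {U : Subgroup Ω} {A : Cfsg.FusionSystem U} {S : Subgroup Ω}
    {X : Cfsg.FusionSystem S} (hA : A.IsResidualLimitOf X p) :
    ∀ [Fact p.Prime] {V : Subgroup Ω} (B : Cfsg.FusionSystem V) {S' : Subgroup Ω} (Y : Cfsg.FusionSystem S'),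
      B.IsResidualLimitOf Y p → Finite S → IsPGroup p S → X.IsSaturated p → S' = S →
      (∀ P, Y.Hom P = X.Hom P) → ∀ P, B.Hom P = A.Hom P := by
  induction hA with
  | stable X p hhyp hX =>
    intro _ V B S' Y hB hfin hS _ hS' hYX
    exact limit_of_stable hB X hfin hS hhyp hX hS' hYX
  | step X p D D' hD hD' hA ih =>
    intro _ V B S' Y hB hfin hS hXs hS' hYX
    subst hS'
    obtain rfl : Y = X := ext_hom hYX
    cases hB with
    | stable _ _ hhyp hX =>
      exact fun P => (limit_of_stable (IsResidualLimitOf.step _ p D D' hD hD' hA) _ hfin hS hhyp hX rfl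
        (fun _ => rfl) P).symm
    | step _ _ D₂ D₂' hD₂ hD₂' hB =>
      have e : D = D₂ := le_antisymm' (le_of_pIndex hS (hyperfocal_le _ p) hD.1 hD.2.1 hD₂.2) (le_of_pIndex hS (hyperfocal_le _ p) hD₂.1 hD₂.2.1 hD.2)
      subst e
      exact ih B D₂' hB (finite_of_le (hyperfocal_le _ p)) (hS.to_le (hyperfocal_le _ p)) hD'.1 rfl fun P =>
        Set.Subset.antisymm (hD₂'.2.2 D' hD'.1 hD'.2.1 P) (hD'.2.2 D₂' hD₂'.1 hD₂'.2.1 P)

/-- A normal subsystem of `p`-power index has the same hyperfocal subgroup. -/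
theorem hyperfocal_eq [Fact p.Prime] {S T : Subgroup Ω} [Finite S] {F : Cfsg.FusionSystem S}
    {E : Cfsg.FusionSystem T} (hS : IsPGroup p S) (hT : F.StronglyClosed T) (hidx : E.HasPPowerIndexIn F p) :
    E.hyperfocalSubgroup p = F.hyperfocalSubgroup p := by
  refine le_antisymm (hyperfocal_mono hidx.1) (hyperfocal_le_of_coprime F _ fun P β x hP hβ => ?_)
  have := finite_of_le hP
  have := finite_mulAut hP
  have hP0 : P ⊓ T ≤ P := inf_le_left
  set d : Ω := (x : Ω)⁻¹ * (((β : MulAut P) x : P) : Ω) with hd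
  have hdT : d ∈ T := hidx.2.1 (mem_hyperfocal hP (Subgroup.subset_closure
    (((Fact.out : p.Prime).coprime_iff_not_dvd.mpr hβ).symm)) x)
  have hβH := (mem_autGroup hP).mp β.2
  have hinv : ∀ y : P, (y : Ω) ∈ T → (((β : MulAut P) y : P) : Ω) ∈ T := fun y hy => by
    obtain ⟨φ, hφ, -, hφe⟩ := exists_restrict hβH hP0 rfl
    have h1 := hT.2 (P ⊓ T) inf_le_right φ hφ ⟨y, y.2, hy⟩
    rw [hφe] at h1
    exact h1
  set P₀ : Subgroup P := T.subgroupOf P with hP₀
  let b : MulAut P₀ := MulEquiv.ofBijective (((β : MulAut P).toMonoidHom.comp P₀.subtype).codRestrict P₀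
      fun y => hinv y y.2) (Finite.injective_iff_bijective.mp fun u v h =>
        Subtype.ext ((β : MulAut P).injective (congrArg Subtype.val h :)))
  have hb : ∀ (n : ℕ) (y : P₀), (((b ^ n) y : P₀) : P) = ((β : MulAut P) ^ n) y := by
    intro n
    induction n with
    | zero => intro y; rfl
    | succ n ih => intro y; rw [pow_succ', pow_succ', MulAut.mul_apply, MulAut.mul_apply, ← ih]; rfl
  let e : P₀ ≃* ↥(P ⊓ T) :=
    { toFun := fun y => ⟨((y : P) : Ω), (y : P).2, y.2⟩
      invFun := fun y => ⟨⟨y, y.2.1⟩, y.2.2⟩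
      left_inv := fun _ => rfl
      right_inv := fun _ => rfl
      map_mul' := fun _ _ => rfl }
  have hbm : MulAut.congr e b ∈ F.autGroup (P ⊓ T) := by
    refine (mem_autGroup (inf_le_right.trans hT.1)).mpr ?_
    obtain ⟨φ, hφ, -, hφe⟩ := exists_restrict hβH hP0 rfl
    rw [show (P ⊓ T).subtype.comp (MulAut.congr e b).toMonoidHom = φ from MonoidHom.ext fun y => by
      rw [hφe]; rfl]
    exact hφ
  have hord : (orderOf (⟨_, hbm⟩ : F.autGroup (P ⊓ T))).Coprime p := by
    rw [Subgroup.orderOf_mk, MulEquiv.orderOf_eq]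
    refine Nat.Coprime.coprime_dvd_left ?_ ((Fact.out : p.Prime).coprime_iff_not_dvd.mpr hβ).symm
    rw [← Subgroup.orderOf_coe]
    exact orderOf_dvd_of_pow_eq_one (MulEquiv.ext fun y => Subtype.ext (by
      rw [hb, pow_orderOf_eq_one]; rfl))
  have hbE : MulAut.congr e b ∈ E.autGroup (P ⊓ T) :=
    mem_autGroup_of_residual hidx inf_le_right (a := ⟨_, hbm⟩) (Subgroup.subset_closure hord)
  have hgen : ∀ y : P, (y : Ω) ∈ T → (y : Ω)⁻¹ * (((β : MulAut P) y : P) : Ω) ∈ E.hyperfocalSubgroup p := by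
    intro y hy
    exact Subgroup.subset_closure ⟨P ⊓ T, ⟨_, hbE⟩, ⟨y, y.2, hy⟩, inf_le_right.trans le_rfl,
      Subgroup.subset_closure (by
        show (orderOf (⟨_, hbE⟩ : E.autGroup (P ⊓ T))).Coprime p
        rw [Subgroup.orderOf_mk, ← Subgroup.orderOf_mk _ hbm]; exact hord), rfl⟩
  -- `x⁻¹ β x` modulo the commutators of `β` on `P ⊓ T`
  let K : Subgroup P := Subgroup.closure {z : P | ∃ y : P, (y : Ω) ∈ T ∧ z = y⁻¹ * (β : MulAut P) y}
  let dP : P := x⁻¹ * (β : MulAut P) x
  have hdP : (dP : Ω) ∈ T := hdT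
  have hKd : ∀ n : ℕ, ((dP ^ n)⁻¹ * (β : MulAut P) (dP ^ n)) ∈ K := fun n =>
    Subgroup.subset_closure ⟨dP ^ n, T.pow_mem hdP n, rfl⟩
  have hKb : ∀ k ∈ K, (β : MulAut P) k ∈ K := by
    intro k hk
    have hle : K.map (β : MulAut P).toMonoidHom ≤ K := by
      rw [show K = Subgroup.closure _ from rfl, MonoidHom.map_closure, Subgroup.closure_le]
      rintro _ ⟨_, ⟨y, hy, rfl⟩, rfl⟩
      exact Subgroup.subset_closure ⟨(β : MulAut P) y, hinv y hy, by simp⟩
    exact hle ⟨k, hk, rfl⟩
  have hKn : ∀ k ∈ K, dP⁻¹ * k * dP ∈ K := by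
    intro k hk
    have hle : K.map (MulAut.conj dP⁻¹).toMonoidHom ≤ K := by
      rw [show K = Subgroup.closure _ from rfl, MonoidHom.map_closure, Subgroup.closure_le]
      rintro _ ⟨_, ⟨y, hy, rfl⟩, rfl⟩
      have h1 : (y * dP)⁻¹ * (β : MulAut P) (y * dP) ∈ K :=
        Subgroup.subset_closure ⟨y * dP, T.mul_mem hy hdP, rfl⟩
      have h2 : dP⁻¹ * (β : MulAut P) dP ∈ K := Subgroup.subset_closure ⟨dP, hdP, rfl⟩
      have h3 : MulAut.conj dP⁻¹ (y⁻¹ * (β : MulAut P) y) =
          ((y * dP)⁻¹ * (β : MulAut P) (y * dP)) * (dP⁻¹ * (β : MulAut P) dP)⁻¹ := by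
        simp [MulAut.conj_apply, mul_assoc]
      show MulAut.conj dP⁻¹ _ ∈ K
      rw [h3]
      exact K.mul_mem h1 (K.inv_mem h2)
    have := hle ⟨k, hk, rfl⟩
    simpa [MulAut.conj_apply] using this
  have hpow : ∀ n : ℕ, ∃ k ∈ K, ((β : MulAut P) ^ n) x = x * dP ^ n * k := by
    intro n
    induction n with
    | zero => exact ⟨1, K.one_mem, by simp⟩
    | succ n ih =>
      obtain ⟨k, hk, hke⟩ := ih
      refine ⟨((dP ^ n)⁻¹ * (β : MulAut P) (dP ^ n)) * (β : MulAut P) k, K.mul_mem (hKd n) (hKb k hk), ?_⟩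
      rw [pow_succ', MulAut.mul_apply, hke, map_mul, map_mul, show (β : MulAut P) x = x * dP by
        simp [dP], pow_succ' dP n]
      simp [mul_assoc]
  obtain ⟨k, hk, hke⟩ := hpow (orderOf (β : MulAut P))
  rw [pow_orderOf_eq_one, MulAut.one_apply] at hke
  have hdn : dP ^ orderOf (β : MulAut P) ∈ K := by
    have h1 : dP ^ orderOf (β : MulAut P) = k⁻¹ := by
      apply mul_left_cancel (a := x); apply mul_right_cancel (b := k); rw [← hke]; simp [mul_assoc]
    rw [h1]; exact K.inv_mem hk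
  have hdK : dP ∈ K := by
    have hcop : (orderOf dP).Coprime (orderOf (β : MulAut P)) := by
      obtain ⟨m, hm⟩ := hS.to_le hP dP
      refine Nat.Coprime.coprime_dvd_left (orderOf_dvd_of_pow_eq_one hm) (Nat.Coprime.pow_left m ?_)
      rw [Subgroup.orderOf_coe]
      exact (Fact.out : p.Prime).coprime_iff_not_dvd.mpr hβ
    obtain ⟨m, hm⟩ := exists_pow_eq_self_of_coprime hcop.symm
    rw [← hm]; exact K.pow_mem hdn m
  have hmap : K.map P.subtype ≤ E.hyperfocalSubgroup p := by
    rw [show K = Subgroup.closure _ from rfl, MonoidHom.map_closure, Subgroup.closure_le]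
    rintro _ ⟨_, ⟨y, hy, rfl⟩, rfl⟩
    exact hgen y hy
  exact hmap ⟨dP, hdK, rfl⟩

end


/-- Let F be a saturated fusion system over a finite p-group S and E a normal subsystem of F over T that has p-power index in F. Then every residual limit of E has the same maps as every residual limit of F (the residual limit is reached by alternately passing to the p-residual and the p'-residual subsystem until nothing changes). -/
theorem result {Ω : Type*} [Group Ω] {S : Subgroup Ω} [Finite S] (p : ℕ) [Fact p.Prime] (hS : IsPGroup p S) (F : Cfsg.FusionSystem S) (hF : F.IsSaturated p) {T : Subgroup Ω} (E : Cfsg.FusionSystem T) (hE : E.IsNormalIn F p) (hidx : E.HasPPowerIndexIn F p) {U V : Subgroup Ω} (Finf : Cfsg.FusionSystem U) (hFinf : Finf.IsResidualLimitOf F p) (Einf : Cfsg.FusionSystem V) (hEinf : Einf.IsResidualLimitOf E p) : ∀ P : Subgroup Ω, Finf.Hom P = Einf.Hom P := by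
  have hT := hE.1.2.2.2.1
  have hEs := hE.1.1
  have hh := hyperfocal_eq hS hT hidx
  have := finite_of_le hT.1
  -- the residual limit of `E` is also one of `F`
  suffices h : Einf.IsResidualLimitOf F p ∨ ∀ P, Finf.Hom P = Einf.Hom P by
    rcases h with h | h
    · exact fun P => limit_unique h Finf F hFinf inferInstance hS hF rfl (fun _ => rfl) P
    · exact h
  cases hEinf with
  | stable _ _ hhyp hEres =>
    -- `E` is then the `p`-residual subsystem of `F`
    left
    have key : ∀ {H : Subgroup Ω} (X : Cfsg.FusionSystem H), H = F.hyperfocalSubgroup p → X.IsSaturated p →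
        X.HasPPowerIndexIn F p → X.IsPPrimeResidual p X → X.IsResidualLimitOf X p → X.IsResidualLimitOf F p := by
      intro H X hH hXs hXi hXr hXl
      subst hH
      exact IsResidualLimitOf.step F p X X ⟨hXs, hXi⟩ hXr hXl
    exact key E (hhyp.symm.trans hh) hEs hidx hEres (IsResidualLimitOf.stable E p hhyp hEres)
  | step _ _ D D' hD hD' hlim =>
    left
    have key : ∀ {H : Subgroup Ω} (D D' : Cfsg.FusionSystem H), H = F.hyperfocalSubgroup p → D.IsSaturated p →
        D.HasPPowerIndexIn F p → D.IsPPrimeResidual p D' → Einf.IsResidualLimitOf D' p →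
        Einf.IsResidualLimitOf F p := by
      intro H X X' hH hXs hXi hXr hXl
      subst hH
      exact IsResidualLimitOf.step F p X X' ⟨hXs, hXi⟩ hXr hXl
    refine key D D' hh hD.1 ⟨fun P => (hD.2.1 P).trans (hidx.1 P), hh.ge, fun P hP => ?_⟩ hD' hlim
    have hPT : P ≤ T := hP.trans (hyperfocal_le E p)
    rw [Subgroup.map_le_iff_le_comap, CfsgLib.Transfer.pResidual_le_iff]
    intro α hα
    have hm := mem_autGroup_of_residual hidx hPT (CfsgLib.Transfer.mem_pResidual hα)
    exact mem_autGroup_of_residual hD.2 hP (a := ⟨α, hm⟩)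
      (CfsgLib.Transfer.mem_pResidual (by rw [Subgroup.orderOf_mk, Subgroup.orderOf_coe]; exact hα))

end Cfsg.Agent.S5203
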