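import Cfsg.Statements.S2371
import Cfsg.Agent.Lib.CycTorus.Instance
import Cfsg.Agent.Lib.ChevField.Exceptional
import Cfsg.Agent.Lib.Coxeter.FiniteOrders

set_option autoImplicit false
open Cfsg CfsgLib.ChevStr CfsgLib.ChevField CfsgLib.CycTorus Polynomial

namespace Cfsg.Agent.S2371

theorem small : ∀ ℓ ∈ (3 : ℕ).primeFactors, ∀ b : ZMod (ℓ ^ 2),
    (cyclotomic 3 (ZMod (ℓ ^ 2))).eval b ≠ 0 := by
  intro ℓ hℓ b
  rw [show (3 : ℕ).primeFactors = {3} from Nat.Prime.primeFactors (by norm_num), Finset.mem_singleton] at hℓ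
  subst hℓ
  rw [cyclotomic_three]
  simp only [eval_add, eval_pow, eval_X, eval_one]
  revert b
  decide +kernel

theorem card_weyl : Nat.card reflDataG2.weyl = 12 :=
  (Nat.card_congr coxDataG2.equivWeyl.toEquiv).symm.trans CfsgLib.CoxeterFinite.g2_card

theorem card_group (K : Type*) [Field K] [Fintype K] :
    Nat.card ↥(Cfsg.Lie.chevG2.group K) =
      Fintype.card K ^ 6 * (([2, 6] : List ℕ).map fun i => Fintype.card K ^ i - 1).prod := by
  have h := (coreG2 K).card_group_mul rfl (N := 6) (ncard_isPosRoot (by decide +kernel)) poincareG2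
    (card_diagonalG2 K)
  rwa [one_mul] at h

theorem not_dvd_weyl {r : ℕ} (hr : r.Prime) (h : 3 ∣ r - 1) :
    ¬ r ∣ Nat.card reflDataG2.weyl := by
  rw [card_weyl, show (12 : ℕ) = 2 ^ 2 * 3 from by norm_num]
  intro hd
  have hpow : ∀ a k : ℕ, 0 < a → a ≤ 3 → r ∣ a ^ k → r ≤ 3 := fun a k ha hle hd =>
    (Nat.le_of_dvd ha (hr.dvd_of_dvd_pow hd)).trans hle
  have hle : r ≤ 3 := by
    rcases hr.dvd_mul.1 hd with hd | hd
    · exact hpow 2 _ (by norm_num) (by norm_num) hd
    · exact Nat.le_of_dvd (by norm_num) hd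
  interval_cases r <;> first | omega | exact absurd hr (by norm_num)

/-- The group G₂(q), q ≥ 3, contains a cyclic subgroup of order q² + q + 1 which is its own centralizer. -/
theorem result {F : Type*} [Field F] [Fintype F] (q : ℕ) (hF : Fintype.card F = q) (hq : 3 ≤ q) :
    ∃ H : Subgroup ↥(Cfsg.Lie.chevG2.group F), IsCyclic ↥H ∧ Nat.card ↥H = q ^ 2 + q + 1 ∧
      Subgroup.centralizer (H : Set ↥(Cfsg.Lie.chevG2.group F)) = H := by
  have hq2 : 2 ≤ q := hF ▸ Fintype.one_lt_card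
  have hev : (cyclotomic 3 ℤ).eval (q : ℤ) = ((q ^ 2 + q + 1 : ℕ) : ℤ) := by
    rw [cyclotomic_three]
    simp
  obtain ⟨H, hc, hcard, hcent⟩ := exists_self_centralizing (D := Cfsg.Lie.chevG2) (fun K _ => coreG2 K)
    invCartanG2 invCartanG2_spec (d := 3) (by norm_num)
    (by rw [show Cfsg.Lie.chevG2.rank = 2 by decide +kernel]; decide +kernel)
    (N₀ := 6) [2, 6] (by decide +kernel) (e := 6) (by decide) (by norm_num)
    (fun K _ _ => card_group K) (fun K _ r hr h => not_dvd_weyl hr h)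
    (fun K _ => by
      show ∀ i ∈ ([2, 6] : List ℕ), i ∣ Nat.card reflDataG2.weyl
      rw [card_weyl]; decide)
    small hF (by rw [← hF]; exact card_group F)
    (by
      rw [hev]
      exact_mod_cast (show 3 < q ^ 2 + q + 1 by nlinarith))
  exact ⟨H, hc, Int.ofNat.inj (hcard.trans hev), hcent⟩

end Cfsg.Agent.S2371
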