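import Cfsg.Statements.S1078
import Cfsg.Agent.Lib.ChevCover.Steinberg
import Cfsg.Agent.Lib.ChevStr.Mem

set_option autoImplicit false
open Cfsg

namespace Cfsg.Agent.S1078

/-- For G₂, F₄, E₈ the presented group has trivial centre (the universal and adjoint groups coincide). -/
theorem result {K : Type*} [Field K] (D : Cfsg.Lie.ChevalleyDatum) (hD : D ∈ [Cfsg.Lie.chevG2, Cfsg.Lie.chevF4, Cfsg.Lie.chevE8]) :
    Subgroup.center (D.SteinbergGroup K) = ⊥ := by
  have hD' : D ∈ [Cfsg.Lie.chevG2, Cfsg.Lie.chevB2, Cfsg.Lie.chevD4, Cfsg.Lie.chevF4,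
      Cfsg.Lie.chevE6, Cfsg.Lie.chevE7, Cfsg.Lie.chevE8] := by
    simp only [List.mem_cons, List.not_mem_nil, or_false] at hD ⊢
    rcases hD with h | h | h <;> simp [h]
  obtain C := CfsgLib.ChevStr.chevCore hD' K
  have hadj := CfsgLib.ChevCover.hasNeighbours hD'
  rw [← CfsgLib.ChevCover.ker_groupHom_eq_center C hadj]
  refine CfsgLib.ChevCover.ker_groupHom_eq_bot C hadj ?_
  simp only [List.mem_cons, List.not_mem_nil, or_false] at hD
  rcases hD with rfl | rfl | rfl
  · exact CfsgLib.ChevCover.torus_injective_of_smith C CfsgLib.ChevStr.smithG2 (by decide +kernel)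
  · exact CfsgLib.ChevCover.torus_injective_of_smith C CfsgLib.ChevStr.smithF4 (by decide +kernel)
  · exact CfsgLib.ChevCover.torus_injective_of_smith C CfsgLib.ChevStr.smithE8 (by decide +kernel)

end Cfsg.Agent.S1078
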