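import Cfsg.Statements.S1312
import Cfsg.Agent.Lib.Components.FStar
import Cfsg.Agent.Lib.Components.PComponent
import Cfsg.Agent.Lib.LocalEven.CharP

set_option autoImplicit false
open Cfsg
open scoped commutatorElement Pointwise

namespace Cfsg.Agent.S1312
section
open Subgroup

variable {G : Type*} [Group G] [Finite G]

/-- The image in `G` of `O_p` of a subgroup. -/
def coreIn (p : ℕ) (M : Subgroup G) : Subgroup G := (Cfsg.pCore p M).map M.subtype

theorem coreIn_le (p : ℕ) (M : Subgroup G) : coreIn p M ≤ M := map_subtype_le _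

theorem le_normalizer_map {M : Subgroup G} (K : Subgroup M) [hK : K.Normal] :
    M ≤ normalizer ((K.map M.subtype : Subgroup G) : Set G) := by
  refine le_normalizer_iff.mpr ?_
  rintro m hm _ ⟨k, hk, rfl⟩
  exact ⟨⟨m, hm⟩ * k * ⟨m, hm⟩⁻¹, hK.conj_mem k hk _, rfl⟩

theorem pgroup_le_fitting_le_pCore {H : Type*} [Group H] [Finite H] {q : ℕ} [Fact q.Prime]
    {A : Subgroup H} (hA : IsPGroup q A) (hle : A ≤ Cfsg.fittingSubgroup H) :
    A ≤ Cfsg.pCore q H := by
  have h1 : IsPGroup q (A.subgroupOf (Cfsg.fittingSubgroup H)) := hA.comap_subtype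
  obtain ⟨P, hP⟩ := h1.exists_le_sylow
  rw [← CfsgLib.Fitting.sylow_fitting_eq_pCore P]
  exact fun x hx => ⟨⟨x, hle hx⟩, hP hx, rfl⟩

theorem cross_commute {p q : ℕ} (hp : p.Prime) (hq : q.Prime) (hpq : p ≠ q) {M N : Subgroup G}
    (h1 : coreIn p M ≤ N) (h2 : coreIn q N ≤ M) : ⁅coreIn p M, coreIn q N⁆ = ⊥ := by
  haveI := Fact.mk hp
  haveI := Fact.mk hq
  have hP : IsPGroup p (coreIn p M) := CfsgLib.PCore.pCore_isPGroup.map _
  have hQ : IsPGroup q (coreIn q N) := CfsgLib.PCore.pCore_isPGroup.map _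
  rw [eq_bot_iff, ← disjoint_iff.mp (IsPGroup.disjoint_of_ne p q hpq _ _ hP hQ)]
  exact le_inf
    (le_normalizer_iff_commutator_le_left.mp (h2.trans (le_normalizer_map _)))
    (le_normalizer_iff_commutator_le_right.mp (h1.trans (le_normalizer_map _)))

/-- The coprime step: a `p`-element centralizes a suitable `q`-element. -/
theorem commute_step {H : Type*} [Group H] [Finite H] {p q : ℕ} (hp : p.Prime) (hq : q.Prime)
    (hpq : p ≠ q) {x c : H} {k j : ℕ} (hx : x ^ q ^ k = 1) (hc : c ^ p ^ j = 1)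
    (hxr : ∀ r : ℕ, r.Prime → r ≠ q → x ∈ centralizer (Cfsg.pCore r H : Set H))
    (hcq : c ∈ centralizer (Cfsg.pCore q H : Set H))
    (hF : c * x * c⁻¹ * x⁻¹ ∈ Cfsg.fittingSubgroup H) : c * x = x * c := by
  haveI := Fact.mk hq
  set y := c * x * c⁻¹ * x⁻¹ with hy
  haveI : (Cfsg.pCore q H).Normal := Cfsg.pCore_normal q H
  set π := QuotientGroup.mk' (Cfsg.pCore q H)
  have hFx : Cfsg.fittingSubgroup H ≤ (centralizer ({π x} : Set (H ⧸ Cfsg.pCore q H))).comap π := by
    rw [CfsgLib.Fitting.fitting_eq_iSup_pCore]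
    refine iSup_le fun r => ?_
    intro f hf
    rw [mem_comap, mem_centralizer_singleton_iff]
    by_cases hr : (r : ℕ) = q
    · have hf1 : π f = 1 := by
        have hf' : f ∈ π.ker := by rw [QuotientGroup.ker_mk']; exact hr ▸ hf
        exact hf'
      rw [hf1, one_mul, mul_one]
    · rw [← map_mul, ← map_mul,
        mem_centralizer_iff.mp (hxr r (Nat.prime_of_mem_primeFactors r.2) hr) f hf]
  have hyx : Commute (π y) (π x) := mem_centralizer_singleton_iff.mp (hFx hF)
  have hpow : (π y) ^ q ^ k = 1 := by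
    have h1 : (π y * π x) ^ q ^ k = 1 := by
      rw [← map_mul, ← map_pow, hy, inv_mul_cancel_right, conj_pow, hx, mul_one, mul_inv_cancel, map_one]
    rwa [hyx.mul_pow, ← map_pow π x, hx, map_one, mul_one] at h1
  have hyker : y ^ q ^ k ∈ Cfsg.pCore q H := by
    rw [← QuotientGroup.eq_one_iff, QuotientGroup.mk_pow]
    exact hpow
  have hyq : y ∈ Cfsg.pCore q H := by
    refine pgroup_le_fitting_le_pCore (A := zpowers y) ?_ (zpowers_le.mpr hF) (mem_zpowers y)
    obtain ⟨m, hm⟩ := (CfsgLib.PCore.pCore_isPGroup (p := q) (G := H)) ⟨_, hyker⟩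
    have hym : y ^ q ^ (k + m) = 1 := by
      have h2 := congrArg Subtype.val hm
      rw [pow_add, pow_mul]
      simpa using h2
    rintro ⟨z, hz⟩
    obtain ⟨i, rfl⟩ := mem_zpowers_iff.mp hz
    refine ⟨k + m, Subtype.ext ?_⟩
    simp only [SubmonoidClass.coe_pow, OneMemClass.coe_one]
    rw [← zpow_natCast, ← zpow_mul, mul_comm, zpow_mul, zpow_natCast, hym, one_zpow]
  have hcy : c * y = y * c := (mem_centralizer_iff.mp hcq y hyq).symm
  have hco : (orderOf c).Coprime q :=
    Nat.Coprime.coprime_dvd_left (orderOf_dvd_of_pow_eq_one hc)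
      (((Nat.coprime_primes hp hq).mpr hpq).pow_left j)
  have hy1 := CfsgLib.LocalEvenCharP.eq_one_of_conj_eq (CfsgLib.PCore.pCore_isPGroup (p := q)) hco
    hyq hcy (x := x) (by rw [hy, inv_mul_cancel_right])
  rw [hy, mul_inv_eq_one, mul_inv_eq_iff_eq_mul] at hy1
  exact hy1

/-- One half of the argument. -/
theorem core_le {M N : Subgroup G}
    (hn : ∀ X : Subgroup G, X ≠ ⊥ → X ≤ M → M ≤ normalizer (X : Set G) → normalizer (X : Set G) = M)
    (hMN : ∀ r : ℕ, r.Prime → coreIn r M ≤ N) (hNM : ∀ r : ℕ, r.Prime → coreIn r N ≤ M)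
    (hself : centralizer (Cfsg.fittingSubgroup N : Set N) ≤ Cfsg.fittingSubgroup N)
    {p q : ℕ} (hp : p.Prime) (hq : q.Prime) (hpq : p ≠ q) (hq1 : coreIn q M ≠ ⊥) :
    coreIn p M ≤ coreIn p N := by
  haveI := Fact.mk hp
  haveI hnorm : ∀ r : ℕ, (Cfsg.pCore r N).Normal := fun r => Cfsg.pCore_normal r _
  let C1 : Subgroup N := ⨅ r : {r : ℕ // r.Prime ∧ r ≠ p}, centralizer (Cfsg.pCore r N : Set N)
  haveI hC1 : C1.Normal := normal_iInf_normal fun r => inferInstance
  let C2 : Subgroup N := centralizer (Cfsg.pCore p N : Set N)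
  have hZ : C1 ⊓ C2 ≤ Cfsg.fittingSubgroup N := by
    refine le_trans (le_centralizer_iff.mp ?_) hself
    rw [CfsgLib.Fitting.fitting_eq_iSup_pCore]
    refine iSup_le fun r => le_centralizer_iff.mp ?_
    by_cases hr : (r : ℕ) = p
    · rw [hr]; exact inf_le_right
    · exact inf_le_left.trans (iInf_le (fun r : {r : ℕ // r.Prime ∧ r ≠ p} =>
        centralizer (Cfsg.pCore r N : Set N)) ⟨r, Nat.prime_of_mem_primeFactors r.2, hr⟩)
  have hP : ∀ r s : ℕ, r.Prime → s.Prime → r ≠ s →
      (coreIn r M).subgroupOf N ≤ centralizer (Cfsg.pCore s N : Set N) := by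
    intro r s hr hs hrs x hx
    rw [mem_centralizer_iff]
    intro y hy
    refine Subtype.ext ?_
    exact (CfsgLib.Components.commute_of_commutator_eq_bot (cross_commute hr hs hrs (hMN r hr) (hNM s hs))
      (mem_subgroupOf.mp hx) (mem_map_of_mem N.subtype hy)).symm
  set K := CfsgLib.Components.pElemClosure p C1 with hK
  have hPK : (coreIn p M).subgroupOf N ≤ K := by
    intro x hx
    have hx1 : x ∈ C1 := mem_iInf.mpr fun r => hP p r hp r.2.1 (Ne.symm r.2.2) hx
    obtain ⟨n, hn'⟩ := (CfsgLib.PCore.pCore_isPGroup (p := p) (G := M)).map M.subtype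
      ⟨_, mem_subgroupOf.mp hx⟩
    exact CfsgLib.Components.mem_pElemClosure hx1 (n := n)
      (Subtype.ext (by simpa using congrArg Subtype.val hn'))
  have hKM : K.map N.subtype ≤ M := by
    rw [map_le_iff_le_comap, hK, CfsgLib.Components.pElemClosure, closure_le]
    rintro c ⟨hc, j, hj⟩
    rw [SetLike.mem_coe, mem_comap, ← hn _ hq1 (coreIn_le q M) (le_normalizer_map _)]
    refine centralizer_le_normalizer _ ?_
    rw [mem_centralizer_iff]
    intro x hx
    have hxN : (⟨x, hMN q hq hx⟩ : N) ∈ (coreIn q M).subgroupOf N := hx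
    obtain ⟨k, hk⟩ := (CfsgLib.PCore.pCore_isPGroup (p := q) (G := M)).map M.subtype ⟨x, hx⟩
    haveI := Fact.mk hq
    have h := commute_step hp hq hpq (x := (⟨x, hMN q hq hx⟩ : N)) (k := k)
      (Subtype.ext (by simpa using congrArg Subtype.val hk)) hj
      (fun r hr hrq => hP q r hq hr (Ne.symm hrq) hxN)
      (mem_iInf.mp hc ⟨q, hq, Ne.symm hpq⟩)
      (hZ ((commutator_le_inf C1 C2) (commutator_mem_commutator hc (hP q p hq hp (Ne.symm hpq) hxN))))
    exact (congrArg Subtype.val h).symm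
  have hnK : ((coreIn p M).subgroupOf N).IsSubnormal := by
    refine IsSubnormal.step _ K hPK
      (CfsgLib.Components.pElemClosure_isSubnormal hC1.isSubnormal) ?_
    rw [normal_subgroupOf_iff_le_normalizer hPK, le_normalizer_iff]
    intro c hc y hy
    exact le_normalizer_iff.mp (le_normalizer_map (Cfsg.pCore p M)) (c : G)
      (hKM (mem_map_of_mem _ hc)) (y : G) (mem_subgroupOf.mp hy)
  have hle := CfsgLib.PCore.le_pCore_of_isSubnormal hnK
    (((CfsgLib.PCore.pCore_isPGroup (p := p) (G := M)).map M.subtype).comap_subtype)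
  intro x hx
  exact ⟨⟨x, hMN p hp hx⟩, hle hx, rfl⟩

theorem layer_le {M N : Subgroup G}
    (hN : (Cfsg.generalizedFittingSubgroup N).map N.subtype ≤ M)
    (hM : (Cfsg.generalizedFittingSubgroup M).map M.subtype ≤ N) :
    (Cfsg.layer N).map N.subtype ≤ (Cfsg.layer M).map M.subtype := by
  rw [map_le_iff_le_comap]
  refine sSup_le fun L hL => map_le_iff_le_comap.mp ?_
  set L' := L.map N.subtype with hL'
  have hLM : L' ≤ M := (map_mono ((CfsgLib.Components.component_le_layer hL).trans
    CfsgLib.Components.layer_le_generalizedFitting)).trans hN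
  have hLD : L' ≤ M ⊓ N := le_inf hLM (map_subtype_le L)
  -- `L'` is a component of `M ⊓ N`
  have hcomp : ∀ (A : Subgroup G) (K : Subgroup A), Cfsg.IsComponent K → M ⊓ N ≤ A →
      K.map A.subtype ≤ M ⊓ N → Cfsg.IsComponent ((K.map A.subtype).subgroupOf (M ⊓ N)) := by
    intro A K hK hA hle
    have hle' : K ≤ (M ⊓ N).subgroupOf A := fun x hx => hle (mem_map_of_mem _ hx)
    have h1 := CfsgLib.Components.isComponent_map_equiv (subgroupOfEquivOfLe hA)
      (CfsgLib.Components.isComponent_subgroupOf hK hle')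
    have h2 : (K.subgroupOf ((M ⊓ N).subgroupOf A)).map (subgroupOfEquivOfLe hA).toMonoidHom =
        (K.map A.subtype).subgroupOf (M ⊓ N) := by
      apply map_injective (subtype_injective (M ⊓ N))
      rw [map_map, map_subgroupOf_eq_of_le hle]
      conv_rhs => rw [← map_subgroupOf_eq_of_le hle', map_map]
      rfl
    rwa [h2] at h1
  have hLc := hcomp N L hL inf_le_right hLD
  by_cases hex : ∃ K : Subgroup M, Cfsg.IsComponent K ∧ K.map M.subtype = L'
  · obtain ⟨K, hK, he⟩ := hex
    exact he.ge.trans (map_mono (CfsgLib.Components.component_le_layer hK))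
  exfalso
  have hFD : (Cfsg.fittingSubgroup M).map M.subtype ≤ M ⊓ N := le_inf (map_subtype_le _)
    ((map_mono CfsgLib.Components.fitting_le_generalizedFitting).trans hM)
  have hc1 : (Cfsg.layer M).map M.subtype ≤ centralizer (L' : Set G) := by
    rw [map_le_iff_le_comap]
    refine sSup_le fun K hK => map_le_iff_le_comap.mp ?_
    have hKD : K.map M.subtype ≤ M ⊓ N := le_inf (map_subtype_le _)
      ((map_mono ((CfsgLib.Components.component_le_layer hK).trans
        CfsgLib.Components.layer_le_generalizedFitting)).trans hM)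
    refine CfsgLib.Components.le_centralizer_of_commutator_eq_bot ?_
    rw [← CfsgLib.Components.commutator_subgroupOf_eq_bot_iff hKD hLD]
    refine CfsgLib.Components.commutator_components_eq_bot (hcomp M K hK inf_le_left hKD) hLc
      fun h => hex ⟨K, hK, ?_⟩
    rw [← map_subgroupOf_eq_of_le hKD, h, map_subgroupOf_eq_of_le hLD]
  have hc2 : (Cfsg.fittingSubgroup M).map M.subtype ≤ centralizer (L' : Set G) := by
    refine CfsgLib.Components.le_centralizer_of_commutator_eq_bot ?_
    rw [commutator_comm, ← CfsgLib.Components.commutator_subgroupOf_eq_bot_iff hLD hFD]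
    haveI := CfsgLib.Fitting.fitting_normal (G := M)
    haveI := CfsgLib.Components.fitting_isSolvable (G := M)
    have hFs : Group.IsSolvable (((Cfsg.fittingSubgroup M).map M.subtype).subgroupOf (M ⊓ N)) :=
      Group.isSolvable_of_isSolvable_injective
        (f := ((subgroupOfEquivOfLe hFD).trans
          ((Cfsg.fittingSubgroup M).equivMapOfInjective _ (subtype_injective M)).symm).toMonoidHom)
        (MulEquiv.injective _)
    refine CfsgLib.Components.component_commutator_solvable hLc hFs ?_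
    rw [le_normalizer_iff]
    intro l hl y hy
    exact le_normalizer_iff.mp (le_normalizer_map (Cfsg.fittingSubgroup M)) (l : G)
      (hLM (mem_subgroupOf.mp hl)) (y : G) (mem_subgroupOf.mp hy)
  have hc3 : L'.subgroupOf M ≤ Cfsg.fittingSubgroup M := by
    refine le_trans ?_ CfsgLib.Components.centralizer_generalizedFitting_le_fitting
    refine le_centralizer_iff.mp (sup_le ?_ ?_)
    · intro e he
      rw [mem_centralizer_iff]
      exact fun l hl => Subtype.ext (mem_centralizer_iff.mp (hc1 (mem_map_of_mem _ he)) _ hl)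
    · intro e he
      rw [mem_centralizer_iff]
      exact fun l hl => Subtype.ext (mem_centralizer_iff.mp (hc2 (mem_map_of_mem _ he)) _ hl)
  haveI := CfsgLib.Components.fitting_isSolvable (G := M)
  refine CfsgLib.Components.component_not_isSolvable hL ?_
  exact Group.isSolvable_of_isSolvable_injective
    (f := (inclusion hc3).comp ((L.equivMapOfInjective _ (subtype_injective N)).trans
      (subgroupOfEquivOfLe hLM).symm).toMonoidHom)
    ((inclusion_injective hc3).comp (MulEquiv.injective _))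

end

/-- Let G be a non-abelian finite simple group and M ≠ N maximal subgroups of G with F*(M) ≤ N and F*(N) ≤ M. Then there is a prime p such that F*(M) and F*(N) are both p-groups. -/
theorem result {G : Type*} [Group G] [Finite G] [IsSimpleGroup G] (hna : ¬ IsMulCommutative G) (M N : Subgroup G) (hM : IsCoatom M) (hN : IsCoatom N) (hMN : M ≠ N) (h1 : (Cfsg.generalizedFittingSubgroup ↥M).map M.subtype ≤ N) (h2 : (Cfsg.generalizedFittingSubgroup ↥N).map N.subtype ≤ M) : ∃ p : ℕ, p.Prime ∧ IsPGroup p ↥(Cfsg.generalizedFittingSubgroup ↥M) ∧ IsPGroup p ↥(Cfsg.generalizedFittingSubgroup ↥N) := by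
  have hnbot : ∀ X : Subgroup G, IsCoatom X → X ≠ ⊥ := by
    rintro X hX rfl
    apply hna
    haveI : Nontrivial G := inferInstance
    obtain ⟨g, hg⟩ := exists_ne (1 : G)
    have htop : Subgroup.zpowers g = ⊤ :=
      hX.2 _ (bot_lt_iff_ne_bot.mpr (Subgroup.zpowers_ne_bot.mpr hg))
    refine ⟨⟨fun a b => ?_⟩⟩
    obtain ⟨i, rfl⟩ := Subgroup.mem_zpowers_iff.mp (htop ▸ Subgroup.mem_top a)
    obtain ⟨j, rfl⟩ := Subgroup.mem_zpowers_iff.mp (htop ▸ Subgroup.mem_top b)
    rw [← zpow_add, ← zpow_add, add_comm]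
  have hn : ∀ M : Subgroup G, IsCoatom M → ∀ X : Subgroup G, X ≠ ⊥ → X ≤ M →
      M ≤ Subgroup.normalizer (X : Set G) → Subgroup.normalizer (X : Set G) = M := by
    intro M hM X hX hXM hMX
    rcases hM.le_iff.mp hMX with h | h
    · haveI : X.Normal := Subgroup.normalizer_eq_top_iff.mp h
      rcases Subgroup.Normal.eq_bot_or_eq_top (H := X) inferInstance with h' | h'
      · exact absurd h' hX
      · exact absurd (top_le_iff.mp (h' ▸ hXM)) hM.1
    · exact h
  have hlay := le_antisymm (layer_le (M := N) (N := M) h1 h2) (layer_le h2 h1)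
  have hE : (Cfsg.layer ↥M).map M.subtype = ⊥ := by
    by_contra h
    apply hMN
    rw [← hn M hM _ h (Subgroup.map_subtype_le _) (le_normalizer_map _)]
    refine hn N hN _ h (hlay ▸ Subgroup.map_subtype_le _) ?_
    rw [hlay]
    exact le_normalizer_map _
  have hEM : Cfsg.layer ↥M = ⊥ :=
    (Subgroup.map_eq_bot_iff_of_injective _ (Subgroup.subtype_injective M)).mp hE
  have hEN : Cfsg.layer ↥N = ⊥ :=
    (Subgroup.map_eq_bot_iff_of_injective _ (Subgroup.subtype_injective N)).mp (hlay ▸ hE)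
  have hself : ∀ X : Subgroup G, Cfsg.layer ↥X = ⊥ →
      Subgroup.centralizer (Cfsg.fittingSubgroup ↥X : Set ↥X) ≤ Cfsg.fittingSubgroup ↥X := by
    intro X hX
    have h := CfsgLib.Components.centralizer_generalizedFitting_le_fitting (G := ↥X)
    rwa [Cfsg.generalizedFittingSubgroup, hX, bot_sup_eq] at h
  have hcore : ∀ X Y : Subgroup G, (Cfsg.generalizedFittingSubgroup ↥X).map X.subtype ≤ Y →
      ∀ r : ℕ, r.Prime → coreIn r X ≤ Y := fun X Y h r hr =>
    (Subgroup.map_mono ((CfsgLib.Fitting.pCore_le_fitting hr).trans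
      CfsgLib.Components.fitting_le_generalizedFitting)).trans h
  have hdisj : ∀ p q : ℕ, p.Prime → q.Prime → p ≠ q → coreIn q M ≠ ⊥ → coreIn q N ≠ ⊥ →
      coreIn p M = coreIn p N := fun p q hp hq hpq hqM hqN =>
    le_antisymm (core_le (hn M hM) (hcore M N h1) (hcore N M h2) (hself N hEN) hp hq hpq hqM)
      (core_le (hn N hN) (hcore N M h2) (hcore M N h1) (hself M hEM) hp hq hpq hqN)
  have hsame : ∀ p : ℕ, p.Prime → ∀ X Y : Subgroup G,
      (Cfsg.generalizedFittingSubgroup ↥X).map X.subtype ≤ Y →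
      (Cfsg.generalizedFittingSubgroup ↥Y).map Y.subtype ≤ X → Cfsg.layer ↥Y = ⊥ →
      coreIn p Y = ⊥ → coreIn p X = ⊥ := by
    intro p hp X Y hX hY hEY h0
    haveI := Fact.mk hp
    have hc : (coreIn p X).subgroupOf Y ≤ Cfsg.fittingSubgroup ↥Y := by
      refine le_trans ?_ (hself Y hEY)
      refine Subgroup.le_centralizer_iff.mp ?_
      rw [CfsgLib.Fitting.fitting_eq_iSup_pCore]
      refine iSup_le fun r => ?_
      intro y hy
      rw [Subgroup.mem_centralizer_iff]
      intro x hx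
      refine Subtype.ext ?_
      by_cases hr : (r : ℕ) = p
      · have hy1 : ((y : ↥Y) : G) ∈ coreIn p Y := Subgroup.mem_map_of_mem _ (hr ▸ hy)
        rw [h0, Subgroup.mem_bot] at hy1
        simp [hy1]
      · exact CfsgLib.Components.commute_of_commutator_eq_bot
          (cross_commute hp (Nat.prime_of_mem_primeFactors r.2) (Ne.symm hr) (hcore X Y hX p hp)
            (hcore Y X hY r (Nat.prime_of_mem_primeFactors r.2)))
          (Subgroup.mem_subgroupOf.mp hx) (Subgroup.mem_map_of_mem Y.subtype hy)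
    have h3 := pgroup_le_fitting_le_pCore
      (((CfsgLib.PCore.pCore_isPGroup (p := p) (G := ↥X)).map X.subtype).comap_subtype) hc
    rw [eq_bot_iff, ← h0]
    exact fun x hx => ⟨⟨x, hcore X Y hX p hp hx⟩, h3 hx, rfl⟩
  have hFne : Cfsg.fittingSubgroup ↥M ≠ ⊥ := by
    intro h
    haveI : Nontrivial ↥M := (Subgroup.nontrivial_iff_ne_bot M).mpr (hnbot M hM)
    have h' := hself M hEM
    rw [h, le_bot_iff] at h'
    have htop : Subgroup.centralizer ((⊥ : Subgroup ↥M) : Set ↥M) = ⊤ := by
      rw [eq_top_iff]; intro x _; rw [Subgroup.mem_centralizer_iff]; intro y hy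
      rw [Subgroup.mem_bot.mp hy, one_mul, mul_one]
    rw [htop] at h'
    exact top_ne_bot h'
  obtain ⟨p, hp, hpM⟩ : ∃ p : ℕ, p.Prime ∧ coreIn p M ≠ ⊥ := by
    by_contra h
    push Not at h
    refine hFne ?_
    rw [CfsgLib.Fitting.fitting_eq_iSup_pCore, eq_bot_iff]
    refine iSup_le fun r => ?_
    exact ((Subgroup.map_eq_bot_iff_of_injective _ (Subgroup.subtype_injective M)).mp
      (h r (Nat.prime_of_mem_primeFactors r.2))).le
  have hpN : coreIn p N ≠ ⊥ := fun h => hpM (hsame p hp M N h1 h2 hEN h)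
  have huniq : ∀ q : ℕ, q.Prime → q ≠ p → coreIn q M = ⊥ := by
    intro q hq hqp
    by_contra hqM
    have hqN : coreIn q N ≠ ⊥ := fun h => hqM (hsame q hq M N h1 h2 hEN h)
    apply hMN
    have heq := hdisj p q hp hq (Ne.symm hqp) hqM hqN
    rw [← hn M hM _ hpM (coreIn_le p M) (le_normalizer_map _)]
    refine hn N hN _ hpM (heq ▸ coreIn_le p N) ?_
    rw [heq]
    exact le_normalizer_map _
  haveI := Fact.mk hp
  have hpg : ∀ X : Subgroup G, Cfsg.layer ↥X = ⊥ → (∀ q : ℕ, q.Prime → q ≠ p → coreIn q X = ⊥) →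
      IsPGroup p ↥(Cfsg.generalizedFittingSubgroup ↥X) := by
    intro X hX h
    refine (CfsgLib.PCore.pCore_isPGroup (p := p)).to_le ?_
    rw [Cfsg.generalizedFittingSubgroup, hX, bot_sup_eq, CfsgLib.Fitting.fitting_eq_iSup_pCore]
    refine iSup_le fun r => ?_
    by_cases hr : (r : ℕ) = p
    · exact le_of_eq (by rw [hr])
    · exact ((Subgroup.map_eq_bot_iff_of_injective _ (Subgroup.subtype_injective X)).mp
        (h r (Nat.prime_of_mem_primeFactors r.2) hr)).le.trans bot_le
  exact ⟨p, hp, hpg M hEM huniq,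
    hpg N hEN fun q hq hqp => hsame q hq N M h2 h1 hEM (huniq q hq hqp)⟩

end Cfsg.Agent.S1312
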