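import Cfsg.Statements.S1453
import Cfsg.Agent.Lib.OddOrder.NarrowOperators

set_option autoImplicit false
open Cfsg

namespace Cfsg.Agent.S1453

/-- Let p be an odd prime and R a finite p-group with an elementary abelian subgroup of order p ^ 3 and an elementary abelian subgroup E of order p ^ 2 contained in no larger elementary abelian subgroup. Let Z₂ be the second centre of R, W the subgroup generated by the elements of Z₂ of order dividing p, and T = C_R(W). Then E is not contained in T; the elements of order dividing p of the centre of R generate a group of order p; W is elementary abelian of order p ^ 2; and T is characteristic in R of index p. -/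
theorem result {R : Type*} [Group R] [Finite R] (p : ℕ) [Fact p.Prime] (hp : p ≠ 2) (hR : IsPGroup p R) (hr : ¬ Cfsg.PRankLE p 2 R)
    (E : Subgroup R) (hE : Cfsg.IsElementaryAbelian p E) (hE2 : Nat.card E = p ^ 2)
    (hEmax : ∀ B : Subgroup R, Cfsg.IsElementaryAbelian p B → E ≤ B → B = E) :
    ¬ E ≤ Subgroup.centralizer ((Subgroup.closure {x : R | x ∈ Subgroup.upperCentralSeries R 2 ∧ x ^ p = 1} : Subgroup R) : Set R) ∧
      Nat.card ↥(Subgroup.closure {x : R | x ∈ Subgroup.center R ∧ x ^ p = 1}) = p ∧
      (Cfsg.IsElementaryAbelian p (Subgroup.closure {x : R | x ∈ Subgroup.upperCentralSeries R 2 ∧ x ^ p = 1}) ∧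
        Nat.card ↥(Subgroup.closure {x : R | x ∈ Subgroup.upperCentralSeries R 2 ∧ x ^ p = 1}) = p ^ 2) ∧
      (Subgroup.centralizer ((Subgroup.closure {x : R | x ∈ Subgroup.upperCentralSeries R 2 ∧ x ^ p = 1} : Subgroup R) : Set R)).Characteristic ∧
      (Subgroup.centralizer ((Subgroup.closure {x : R | x ∈ Subgroup.upperCentralSeries R 2 ∧ x ^ p = 1} : Subgroup R) : Set R)).index = p := by
  obtain ⟨z, e, hL⟩ := CfsgLib.OddOrder.Narrow.exists_layer hp hR hr hE hE2 hEmax
  have hW : Subgroup.closure {x : R | x ∈ Subgroup.upperCentralSeries R 2 ∧ x ^ p = 1} =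
      CfsgLib.OddOrder.CubeUnique.omegaTwo p ((Fact.out : p.Prime).odd_of_ne_two hp) R :=
    le_antisymm ((Subgroup.closure_le _).mpr fun x hx => hx) fun x hx => Subgroup.subset_closure hx
  rw [hW]
  refine ⟨hL.not_le, ?_, ⟨hL.elemAb, hL.card⟩, ?_, hL.index⟩
  · have h : Subgroup.closure {x : R | x ∈ Subgroup.center R ∧ x ^ p = 1} = Subgroup.zpowers z :=
      le_antisymm ((Subgroup.closure_le _).mpr fun x hx => hL.omega x (Subgroup.mem_center_iff.mp hx.1) hx.2)
        (Subgroup.zpowers_le.mpr (Subgroup.subset_closure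
          ⟨Subgroup.mem_center_iff.mpr hL.central, hL.order_z ▸ pow_orderOf_eq_one z⟩))
    rw [h, Nat.card_zpowers, hL.order_z]
  · have := CfsgLib.OddOrder.CubeUnique.omegaTwo_characteristic (R := R)
      ((Fact.out : p.Prime).odd_of_ne_two hp)
    infer_instance

end Cfsg.Agent.S1453
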