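import Cfsg.Statements.S2755
import Cfsg.Agent.Lib.GoldschmidtGroup.Families

set_option autoImplicit false
open Cfsg CfsgLib.GoldschmidtGroup

namespace Cfsg.Agent.S2755

theorem three_free_of_target {G : Type*} [Group G] [Finite G] (h : IsSuzukiOrPSL2OddPowerThree G) :
    ¬ Involves (Equiv.Perm (Fin 3)) G := by
  rcases h with ⟨F, _, _, m, -, hF, ⟨e⟩⟩ | ⟨F, _, _, n, hF, ⟨e⟩⟩
  · rw [involves_congr e]; exact suzuki_three_free hF
  · have : Fact (Nat.Prime 3) := ⟨Nat.prime_three⟩
    have : CharP F 3 := charP_of_card_eq_prime_pow hF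
    rw [involves_congr e]
    refine psl_not_involves_three ?_
    have := CfsgLib.ReeType.three_pow_mod n
    omega

/-- Every finite Goldschmidt group is S₄-free (the symmetric group of degree 4 is not involved in it); and for a finite Goldschmidt group G, the symmetric group of degree 3 is not involved in G exactly when G is a Suzuki group or PSL₂ over a field with 3^(2n+1) elements. -/
theorem result {G : Type*} [Group G] [Finite G] (hG : Cfsg.IsGoldschmidtGroup G) : ¬ Cfsg.Involves (Equiv.Perm (Fin 4)) G ∧ (¬ Cfsg.Involves (Equiv.Perm (Fin 3)) G ↔ Cfsg.IsSuzukiOrPSL2OddPowerThree G) := by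
  classical
  refine ⟨?_, ?_, three_free_of_target⟩
  · rcases hG with h | ⟨F, _, _, n, -, hF, ⟨e⟩⟩ | ⟨F, _, _, m, -, hF, ⟨e⟩⟩ | ⟨F, _, _, n, -, hF, ⟨e⟩⟩ |
      ⟨F, _, _, q, hF, -, hq, ⟨e⟩⟩ | ⟨⟨e⟩⟩
    · exact ree_four_free h
    · have : Fact (Nat.Prime 2) := ⟨Nat.prime_two⟩
      have : CharP F 2 := charP_of_card_eq_prime_pow hF
      rw [involves_congr e]; exact psl_even_four_free
    · rw [involves_congr e]; exact not_involves_four_of_three (suzuki_three_free hF)
    · have : Fact (Nat.Prime 2) := ⟨Nat.prime_two⟩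
      have hF' : Fintype.card F = (2 ^ n) ^ 2 := by rw [hF, ← pow_mul, mul_comm n, pow_mul]; norm_num
      have : CharP F 2 := charP_of_card_eq_prime_pow (p := 2) (f := n * 2) (by rw [hF', pow_mul])
      rw [involves_congr e]; exact psu_even_four_free hF'
    · rw [involves_congr e]; exact psl_odd_four_free (by rw [hF]; exact hq)
    · rw [involves_congr e]; exact janko_four_free
  · intro hfree
    rcases hG with h | ⟨F, _, _, n, -, hF, ⟨e⟩⟩ | h | ⟨F, _, _, n, -, hF, ⟨e⟩⟩ |
      ⟨F, _, _, q, hF, -, hq, ⟨e⟩⟩ | ⟨⟨e⟩⟩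
    · exact absurd (CfsgLib.ReeType.involves_three h) hfree
    · refine absurd ((involves_congr e).2 (psl_involves_three fun h3 => ?_)) hfree
      have : Fact (Nat.Prime 2) := ⟨Nat.prime_two⟩
      have : CharP F 2 := charP_of_card_eq_prime_pow hF
      have h3' : ((3 : ℕ) : F) = 0 := by exact_mod_cast h3
      rw [CharP.cast_eq_zero_iff F 2] at h3'
      norm_num at h3'
    · exact Or.inl h
    · have : Fact (Nat.Prime 2) := ⟨Nat.prime_two⟩
      have : CharP F 2 := charP_of_card_eq_prime_pow (p := 2) (f := 2 * n) (by rw [hF, pow_mul]; norm_num)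
      exact absurd ((involves_congr e).2 (psu_involves_three _)) hfree
    · by_cases h3 : (3 : F) = 0
      · have : Fact (Nat.Prime 3) := ⟨Nat.prime_three⟩
        have : CharP F 3 := CharP.charP_iff_prime_eq_zero Nat.prime_three |>.2 (by exact_mod_cast h3)
        obtain ⟨f, -, hf⟩ := FiniteField.card F 3
        refine Or.inr ⟨F, inferInstance, inferInstance, ((f : ℕ) - 1) / 2, ?_, ⟨e⟩⟩
        have hodd : Odd (f : ℕ) := by
          by_contra hne
          obtain ⟨k, hk⟩ := Nat.not_odd_iff_even.1 hne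
          have h1 : 3 ^ (f : ℕ) % 8 = 1 := by rw [hk, ← two_mul, pow_mul, Nat.pow_mod]; norm_num
          omega
        rw [hf]; congr 1
        obtain ⟨k, hk⟩ := hodd
        omega
      · exact absurd ((involves_congr e).2 (psl_involves_three h3)) hfree
    · exact absurd ((involves_congr e).2 janko_involves_three) hfree

end Cfsg.Agent.S2755
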