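import Cfsg.Statements.S2752
import Cfsg.Agent.Lib.LocalEven.OffenderSquareDual
import Cfsg.Agent.Lib.LocalEven.OffenderSquarePSLTwo
import Cfsg.Agent.Lib.LocalEven.OffenderSquareSuzuki
import Cfsg.Agent.Lib.InvChar.SmallSolvable
import Cfsg.Agent.S2126
-- import your own Cfsg.Agent.* helpers here

set_option autoImplicit false
universe u
open Cfsg

namespace Cfsg.Agent.S2752

/-- The simple groups allowed as composition factors. -/
theorem bigInverted_of_target {X : Type*} [Group X] [Finite X] [IsSimpleGroup X]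
    (hX : ¬ IsMulCommutative X) (h : Cfsg.IsSuzukiOrPSL2OddPowerThree X) :
    CfsgLib.LocalEven.OffenderSquare.BigInverted X := by
  rcases h with ⟨F, iF, iFF, m, hm, hF, ⟨e⟩⟩ | ⟨F, iF, iFF, n, hF, ⟨e⟩⟩
  · refine (CfsgLib.LocalEven.OffenderSquare.bigInverted_sz hm hF fun β hβ => ?_).of_equiv e.symm
    have hodd := Cfsg.Agent.S2126.result hm hF
    have h2 : (QuotientGroup.mk β : Cfsg.Out ↥(Cfsg.Lie.Sz F (2 ^ (m + 1)))) = 1 := by
      rw [← orderOf_eq_one_iff]
      refine Nat.eq_one_of_dvd_coprimes (a := 2) (b := 2 * m + 1) ?_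
        (orderOf_dvd_of_pow_eq_one (by rw [← QuotientGroup.mk_pow, hβ, QuotientGroup.mk_one]))
        (hodd ▸ orderOf_dvd_natCard _)
      rw [Nat.coprime_two_left]
      exact odd_two_mul_add_one m
    exact (QuotientGroup.eq_one_iff β).1 h2
  · refine (CfsgLib.LocalEven.OffenderSquare.bigInverted_psl ?_ hF).of_equiv e.symm
    by_contra hn
    have hn0 : n = 0 := by omega
    subst hn0
    classical
    obtain ⟨φ, hφ⟩ := CfsgLib.ClassicalGroups.exists_injective_line (K := F) (n := 4)
      (by rw [hF]; norm_num)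
    haveI : Group.IsSolvable (Equiv.Perm (Fin 4)) := CfsgLib.InvCharSmall.isSolvable_perm_four
    haveI : Group.IsSolvable X := Group.isSolvable_of_isSolvable_injective
      (f := φ.comp e.toMonoidHom) (hφ.comp e.injective)
    exact hX (IsSimpleGroup.comm_iff_isSolvable.mpr inferInstance |> fun h => ⟨⟨h⟩⟩)

/-- Let M be an elementary abelian 2-subgroup of a finite group L and G a subgroup of L acting faithfully on M by conjugation (G normalizes M and meets C(M) trivially). Assume O₂(G) = 1, the symmetric group of degree 3 is not involved in G, and every non-abelian composition factor of G is a Suzuki group Sz(2^(2n+1)) or a group PSL₂(3^(2n+1)). Then every elementary abelian 2-subgroup A of G satisfies |M / C_M(A)| ≥ |A|² and |[M, A]| ≥ |A|². -/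
theorem result {L : Type u} [Group L] [Finite L] (M G : Subgroup L) (hM : Cfsg.IsElementaryAbelian 2 M) (hGM : G ≤ Subgroup.normalizer (M : Set L)) (hf : G ⊓ Subgroup.centralizer (M : Set L) = ⊥) (ha : Cfsg.pCore 2 ↥G = ⊥) (hb : ¬ Cfsg.Involves (Equiv.Perm (Fin 3)) ↥G) (hc : Cfsg.IsCompositionKGroupWith Cfsg.IsSuzukiOrPSL2OddPowerThree ↥G) (A : Subgroup L) (hA : A ≤ G) (hAe : Cfsg.IsElementaryAbelian 2 A) : Nat.card A ^ 2 * Nat.card ↥(M ⊓ Subgroup.centralizer (A : Set L)) ≤ Nat.card M ∧ Nat.card A ^ 2 ≤ Nat.card ↥⁅M, A⁆ := by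
  have hgood : ∀ D : Subgroup G, Cfsg.IsComponent D → CfsgLib.LocalEven.OffenderSquare.Good D := by
    intro D hD
    haveI := hD.2.2
    have hne : ¬ IsMulCommutative (↥D ⧸ Subgroup.center ↥D) := by
      intro h
      haveI := hD.2.1
      haveI : Nontrivial (↥D ⧸ Subgroup.center ↥D) := inferInstance
      have hp := Group.IsPerfect.ofSurjective (QuotientGroup.mk'_surjective (Subgroup.center ↥D))
      have := hp.commutator_eq_top
      rw [commutator_def, Subgroup.commutator_eq_bot_iff_le_centralizer.2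
        (fun x _ => Subgroup.mem_centralizer_iff.2 fun y _ => h.is_comm.comm y x)] at this
      exact bot_ne_top this
    exact ⟨hD.2, CfsgLib.LocalEven.OffenderSquare.odd_card_center ha hD,
      bigInverted_of_target hne (hc D hD.1 (Subgroup.center ↥D) inferInstance hne)⟩
  refine ⟨?_, CfsgLib.LocalEven.OffenderSquare.card_sq_le_commutator hb ha hgood M hM hGM hf A hAe hA⟩
  have h := CfsgLib.LocalEven.OffenderSquare.card_sq_le_relIndex hb ha hgood M hM hGM hf A hAe hA
  calc Nat.card A ^ 2 * Nat.card ↥(M ⊓ Subgroup.centralizer (A : Set L))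
      ≤ (M ⊓ Subgroup.centralizer (A : Set L)).relIndex M *
          Nat.card ↥(M ⊓ Subgroup.centralizer (A : Set L)) := Nat.mul_le_mul_right _ h
    _ = Nat.card M := by
      rw [mul_comm, ← Subgroup.relIndex_bot_left, Subgroup.relIndex_mul_relIndex _ _ _ bot_le inf_le_left,
        Subgroup.relIndex_bot_left]

end Cfsg.Agent.S2752
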