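import Cfsg.Statements.S4065
import Cfsg.Agent.H79Basic

set_option autoImplicit false
open Cfsg

namespace Cfsg.Agent.S4065

theorem sl2_char_two_comm_trans {F : Type*} [Field F] [CharP F 2]
    (A B C : Matrix.SpecialLinearGroup (Fin 2) F) (hA : A ≠ 1) (hB : B * A = A * B) (hC : C * A = A * C) :
    B * C = C * B := by
  have eB := congrArg (fun M : Matrix.SpecialLinearGroup (Fin 2) F => (M : Matrix (Fin 2) (Fin 2) F)) hB
  have eC := congrArg (fun M : Matrix.SpecialLinearGroup (Fin 2) F => (M : Matrix (Fin 2) (Fin 2) F)) hC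
  simp only [Matrix.SpecialLinearGroup.coe_mul] at eB eC
  have b00 := congrFun (congrFun eB 0) 0
  have b01 := congrFun (congrFun eB 0) 1
  have b10 := congrFun (congrFun eB 1) 0
  have c00 := congrFun (congrFun eC 0) 0
  have c01 := congrFun (congrFun eC 0) 1
  have c10 := congrFun (congrFun eC 1) 0
  simp only [Matrix.mul_apply, Fin.sum_univ_two] at b00 b01 b10 c00 c01 c10
  set a := (A : Matrix (Fin 2) (Fin 2) F) 0 0 with ha
  set b := (A : Matrix (Fin 2) (Fin 2) F) 0 1 with hb
  set c := (A : Matrix (Fin 2) (Fin 2) F) 1 0 with hc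
  set d := (A : Matrix (Fin 2) (Fin 2) F) 1 1 with hd
  have hne : ¬ (a - d = 0 ∧ b = 0 ∧ c = 0) := by
    rintro ⟨h1, h2, h3⟩
    apply hA
    have hdet := A.det_coe
    rw [Matrix.det_fin_two, ← ha, ← hb, ← hc, ← hd, h2, sub_eq_zero.1 h1] at hdet
    have hd1 : (d - 1) ^ 2 = 0 := by
      have h2' : (2 : F) = 0 := CharTwo.two_eq_zero
      linear_combination hdet - (d - 1) * h2'
    have hd1' : d = 1 := sub_eq_zero.1 (pow_eq_zero_iff two_ne_zero |>.1 hd1)
    ext i j
    fin_cases i <;> fin_cases j <;>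
      simp [← ha, ← hb, ← hc, ← hd, h2, h3, sub_eq_zero.1 h1, hd1']
  set e := (B : Matrix (Fin 2) (Fin 2) F) 0 0 with he
  set f := (B : Matrix (Fin 2) (Fin 2) F) 0 1 with hf
  set g := (B : Matrix (Fin 2) (Fin 2) F) 1 0 with hg
  set h := (B : Matrix (Fin 2) (Fin 2) F) 1 1 with hh
  set e' := (C : Matrix (Fin 2) (Fin 2) F) 0 0 with he'
  set f' := (C : Matrix (Fin 2) (Fin 2) F) 0 1 with hf'
  set g' := (C : Matrix (Fin 2) (Fin 2) F) 1 0 with hg'
  set h' := (C : Matrix (Fin 2) (Fin 2) F) 1 1 with hh'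
  -- the three cross products vanish
  have R1 : f * c = b * g := by linear_combination b00
  have R2 : b * (e - h) = f * (a - d) := by linear_combination b01
  have R3 : c * (e - h) = g * (a - d) := by linear_combination -b10
  have S1 : f' * c = b * g' := by linear_combination c00
  have S2 : b * (e' - h') = f' * (a - d) := by linear_combination c01
  have S3 : c * (e' - h') = g' * (a - d) := by linear_combination -c10
  have cancel3 : ∀ x : F, (a - d) * x = 0 → b * x = 0 → c * x = 0 → x = 0 := by
    intro x h1 h2 h3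
    by_contra hx
    exact hne ⟨(mul_eq_zero.1 h1).resolve_right hx, (mul_eq_zero.1 h2).resolve_right hx,
      (mul_eq_zero.1 h3).resolve_right hx⟩
  have D1 : (a - d) * (f * g' - g * f') = 0 := by
    linear_combination -g' * R2 + f' * R3 - (e - h) * S1
  have X : f * g' - g * f' = 0 ∧ f * (e' - h') - f' * (e - h) = 0 ∧ g * (e' - h') - g' * (e - h) = 0 := by
    refine ⟨cancel3 _ D1 ?_ ?_, cancel3 _ ?_ ?_ ?_, cancel3 _ ?_ ?_ ?_⟩
    · linear_combination f' * R1 - f * S1
    · linear_combination g' * R1 - g * S1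
    · linear_combination -(e' - h') * R2 + (e - h) * S2
    · linear_combination f * S2 - f' * R2
    · linear_combination D1 + f * S3 - f' * R3
    · linear_combination -(e' - h') * R3 + (e - h) * S3
    · linear_combination g * S2 - g' * R2 - D1
    · linear_combination g * S3 - g' * R3
  obtain ⟨X1, X2, X3⟩ := X
  ext i j
  fin_cases i <;> fin_cases j <;>
    simp only [Matrix.SpecialLinearGroup.coe_mul, Matrix.mul_apply, Fin.sum_univ_two, Fin.zero_eta,
      Fin.mk_one, Fin.isValue, ← he, ← hf, ← hg, ← hh, ← he', ← hf', ← hg', ← hh']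
  · linear_combination X1
  · linear_combination -X2
  · linear_combination X3
  · linear_combination -X1


/-- Let F be a finite field with 2ⁿ elements, n ≥ 2. In PSL₂(F) the centralizer of every element meets each of its conjugates by elements outside its normalizer trivially. -/
theorem result (n : ℕ) (hn : 2 ≤ n)
    (x : Matrix.ProjectiveSpecialLinearGroup (Fin 2) (GaloisField 2 n)) :
    Cfsg.IsTISubset (Subgroup.centralizer ({x} : Set (Matrix.ProjectiveSpecialLinearGroup (Fin 2) (GaloisField 2 n))) :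
      Set (Matrix.ProjectiveSpecialLinearGroup (Fin 2) (GaloisField 2 n))) := by
  intro g hg z hz hgz
  by_contra hz1
  apply hg
  have hbot : Subgroup.center (Matrix.SpecialLinearGroup (Fin 2) (GaloisField 2 n)) = ⊥ := by
    rw [eq_bot_iff]
    intro A hA
    rw [Matrix.SpecialLinearGroup.mem_center_iff] at hA
    obtain ⟨r, hr, hrA⟩ := hA
    have hr1 : r = 1 := by
      have h2' : (2 : GaloisField 2 n) = 0 := CharTwo.two_eq_zero
      have h1 : (r - 1) ^ 2 = 0 := by
        rw [Fintype.card_fin] at hr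
        linear_combination hr - (r - 1) * h2'
      exact sub_eq_zero.1 (pow_eq_zero_iff two_ne_zero |>.1 h1)
    rw [Subgroup.mem_bot]
    apply Subtype.ext
    rw [← hrA, hr1]
    simp
  have trans' : ∀ a b c : Matrix.ProjectiveSpecialLinearGroup (Fin 2) (GaloisField 2 n),
      a ≠ 1 → b * a = a * b → c * a = a * c → b * c = c * b := by
    intro a b c
    obtain ⟨a, rfl⟩ := QuotientGroup.mk_surjective a
    obtain ⟨b, rfl⟩ := QuotientGroup.mk_surjective b
    obtain ⟨c, rfl⟩ := QuotientGroup.mk_surjective c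
    intro ha hb hc
    have hinj : ∀ u v : Matrix.SpecialLinearGroup (Fin 2) (GaloisField 2 n),
        (QuotientGroup.mk u : Matrix.ProjectiveSpecialLinearGroup (Fin 2) (GaloisField 2 n)) = QuotientGroup.mk v → u = v := by
      intro u v huv
      have := QuotientGroup.eq.1 huv
      rw [hbot, Subgroup.mem_bot] at this
      exact inv_mul_eq_one.1 this
    rw [← QuotientGroup.mk_mul, ← QuotientGroup.mk_mul] at hb hc ⊢
    rw [sl2_char_two_comm_trans a b c (fun h => ha (by rw [h]; rfl)) (hinj _ _ hb) (hinj _ _ hc)]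
  by_cases hx : x = 1
  · subst hx
    rw [Subgroup.mem_normalizer_iff]
    intro t
    simp [H79.mem_centralizer_singleton]
  rw [SetLike.mem_coe, H79.mem_centralizer_singleton] at hz hgz
  have hgz1 : g * z * g⁻¹ ≠ 1 := fun h => hz1 (by
    have := congrArg (fun t => g⁻¹ * t * g) h
    simpa [mul_assoc] using this)
  apply H79.mem_normalizer_of_conj_mem
  intro t ht
  rw [H79.mem_centralizer_singleton] at ht ⊢
  have h1 : t * z = z * t := trans' x t z hx ht hz
  have h2 : (g * t * g⁻¹) * (g * z * g⁻¹) = (g * z * g⁻¹) * (g * t * g⁻¹) := by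
    rw [show (g * t * g⁻¹) * (g * z * g⁻¹) = g * (t * z) * g⁻¹ by group, h1]
    group
  exact trans' (g * z * g⁻¹) (g * t * g⁻¹) x hgz1 h2 hgz.symm

end Cfsg.Agent.S4065
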