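import Cfsg.Statements.S4066
import Mathlib

set_option autoImplicit false
open Cfsg

namespace Cfsg.Agent.S4066

open Subgroup in
/-- A `p`-element commuting with all its conjugates lies in every Sylow `p`-subgroup. -/
lemma mem_sylow_of_commute_conj {G : Type*} [Group G] [Finite G] {p : ℕ} [Fact p.Prime] (u : G)
    (hu : ∃ k, u ^ p ^ k = 1) (hc : ∀ g : G, Commute u (g * u * g⁻¹)) (P : Sylow p G) :
    u ∈ (P : Subgroup G) := by
  set N := Subgroup.normalClosure ({u} : Set G) with hN
  have hcomm : ∀ a ∈ Group.conjugatesOfSet ({u} : Set G), ∀ b ∈ Group.conjugatesOfSet ({u} : Set G), a * b = b * a := by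
    intro a ha b hb
    simp only [Group.mem_conjugatesOfSet_iff, Set.mem_singleton_iff, exists_eq_left, isConj_iff] at ha hb
    obtain ⟨c, rfl⟩ := ha
    obtain ⟨d, rfl⟩ := hb
    have h := (hc (c⁻¹ * d)).map (MulAut.conj c).toMonoidHom
    simp [mul_assoc] at h
    simpa [mul_assoc] using h.eq
  obtain ⟨k, hk⟩ := hu
  have hNp : IsPGroup p N := by
    have : IsMulCommutative N := Subgroup.isMulCommutative_closure hcomm
    intro x
    refine ⟨k, ?_⟩
    obtain ⟨x, hx⟩ := x
    apply Subtype.ext
    simp only [SubmonoidClass.coe_pow, OneMemClass.coe_one]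
    induction hx using Subgroup.closure_induction with
    | mem y hy =>
      simp only [Group.mem_conjugatesOfSet_iff, Set.mem_singleton_iff, exists_eq_left, isConj_iff] at hy
      obtain ⟨c, rfl⟩ := hy
      rw [conj_pow, hk]
      simp
    | one => simp
    | mul y z hy hz ihy ihz =>
      have hyz : Commute y z := setLike_mul_comm (s := N) hy hz
      rw [hyz.mul_pow, ihy, ihz, one_mul]
    | inv y hy ih => rw [inv_pow, ih, inv_one]
  obtain ⟨Q, hQ⟩ := hNp.exists_le_sylow
  obtain ⟨g, rfl⟩ := MulAction.exists_smul_eq G Q P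
  have : u ∈ N := Subgroup.subset_normalClosure (Set.mem_singleton u)
  have hu' : g⁻¹ * u * g ∈ N := by
    simpa using Subgroup.normalClosure_normal.conj_mem u this g⁻¹
  change u ∈ (g • Q : Sylow p G).toSubgroup
  rw [Sylow.coe_subgroup_smul, Subgroup.mem_pointwise_smul_iff_inv_smul_mem]
  change ((MulAut.conj g)⁻¹ : MulAut G) • u ∈ (Q : Subgroup G)
  simpa [MulAut.smul_def] using hQ hu'

/-- In a group with trivially intersecting element centralizers, `x` in both centralizers forces normalizing. -/
lemma mem_normalizer_of_commute {G : Type*} [Group G]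
    (hTI : ∀ x : G, Cfsg.IsTISubset (Subgroup.centralizer ({x} : Set G) : Set G))
    {y x g : G} (hx : x ≠ 1) (h1 : Commute x y) (h2 : Commute (g * x * g⁻¹) y) :
    g ∈ Subgroup.normalizer (Subgroup.centralizer ({y} : Set G) : Set G) := by
  by_contra hg
  exact hx (hTI y g hg x (Subgroup.mem_centralizer_singleton_iff.2 h1.eq) (Subgroup.mem_centralizer_singleton_iff.2 h2.eq))

/-- Let G be a finite group in which the centralizer of every element meets each of its conjugates by elements outside its normalizer trivially. Then any two distinct Sylow p-subgroups of G, for any prime p, intersect trivially. -/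
theorem result {G : Type*} [Group G] [Finite G] (hTI : ∀ x : G, Cfsg.IsTISubset (Subgroup.centralizer ({x} : Set G) : Set G))
    {p : ℕ} [Fact p.Prime] (P Q : Sylow p G) (hPQ : P ≠ Q) : (P : Subgroup G) ⊓ (Q : Subgroup G) = ⊥ := by
  by_contra hne
  obtain ⟨y, hy, hy1⟩ := ((P : Subgroup G) ⊓ (Q : Subgroup G)).bot_or_exists_ne_one.resolve_left hne
  obtain ⟨hyP, hyQ⟩ := Subgroup.mem_inf.1 hy
  set M := Subgroup.normalizer (Subgroup.centralizer ({y} : Set G) : Set G) with hM
  have hzc : ∀ R : Sylow p G, y ∈ (R : Subgroup G) → ∃ x : G, x ≠ 1 ∧ x ∈ (R : Subgroup G) ∧ (∀ u ∈ (R : Subgroup G), Commute u x) ∧ (R : Subgroup G) ≤ M := by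
    intro R hyR
    haveI : Nontrivial (R : Subgroup G) := ⟨⟨⟨y, hyR⟩, 1, fun h => hy1 (congrArg Subtype.val h)⟩⟩
    haveI := R.isPGroup'.center_nontrivial
    obtain ⟨⟨x, hx⟩, hx1⟩ := exists_ne (1 : Subgroup.center (R : Subgroup G))
    have hc : ∀ u ∈ (R : Subgroup G), Commute u (x : G) := fun u hu =>
      congrArg Subtype.val (Subgroup.mem_center_iff.1 hx ⟨u, hu⟩)
    refine ⟨x, fun h => hx1 (by ext; simpa using h), x.2, hc, fun u hu => ?_⟩
    have h1 : Commute (x : G) y := (hc y hyR).symm
    refine mem_normalizer_of_commute hTI (fun h => hx1 (by ext; simpa using h)) h1 ?_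
    rwa [(hc u hu).eq, mul_inv_cancel_right]
  obtain ⟨x, hx1, hxP, hcx, hPM⟩ := hzc P hyP
  obtain ⟨x', -, -, -, hQM⟩ := hzc Q hyQ
  -- every element of `M` normalizes the centralizer of `x`
  have hMx : M ≤ Subgroup.normalizer (Subgroup.centralizer ({x} : Set G) : Set G) := by
    intro g hg
    have hyx : Commute y x := hcx y hyP
    refine mem_normalizer_of_commute hTI hy1 hyx ?_
    have hx' : g⁻¹ * x * g ∈ Subgroup.centralizer ({y} : Set G) := by
      have := (Subgroup.mem_normalizer_iff.1 (inv_mem hg) x).1 (Subgroup.mem_centralizer_singleton_iff.2 hyx.eq.symm)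
      simpa using this
    have h' : Commute (g⁻¹ * x * g) y := Subgroup.mem_centralizer_singleton_iff.1 hx'
    have := h'.symm.map (MulAut.conj g).toMonoidHom
    simpa [mul_assoc] using this
  -- so all `p`-elements of `M` centralize `x`
  have hall : ∀ R : Sylow p M, ∀ u : M, u ∈ (R : Subgroup M) → Commute (u : G) x := by
    intro R u hu
    obtain ⟨m, hm⟩ := MulAction.exists_smul_eq M (P.subtype hPM) R
    rw [← hm] at hu
    change u ∈ (m • P.subtype hPM : Sylow p M).toSubgroup at hu
    rw [Sylow.coe_subgroup_smul, Subgroup.mem_pointwise_smul_iff_inv_smul_mem] at hu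
    have hu' : (m : G)⁻¹ * u * m ∈ (P : Subgroup G) := by
      have hc' : ((MulAut.conj m)⁻¹ : MulAut M) • u ∈ (P : Subgroup G).subgroupOf M := hu
      rw [Subgroup.mem_subgroupOf] at hc'
      simpa [MulAut.smul_def] using hc'
    have h1 : (m : G)⁻¹ * u * m ∈ Subgroup.centralizer ({x} : Set G) :=
      Subgroup.mem_centralizer_singleton_iff.2 (hcx _ hu').eq
    have h2 := (Subgroup.mem_normalizer_iff.1 (hMx m.2) _).1 h1
    simp only [mul_assoc, mul_inv_cancel_left, mul_inv_cancel, mul_one] at h2
    exact (Subgroup.mem_centralizer_singleton_iff.1 h2)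
  have hsub : ∀ R R' : Sylow p M, (R : Subgroup M) ≤ R' := by
    intro R R' u hu
    obtain ⟨k, hk⟩ := R.isPGroup' ⟨u, hu⟩
    refine mem_sylow_of_commute_conj u ⟨k, by simpa using congrArg Subtype.val hk⟩ (fun g => ?_) R'
    have hg : Commute ((g * u * g⁻¹ : M) : G) x := by
      apply hall (g • R)
      change _ ∈ (g • R : Sylow p M).toSubgroup
      rw [Sylow.coe_subgroup_smul, Subgroup.mem_pointwise_smul_iff_inv_smul_mem]
      change ((MulAut.conj g)⁻¹ : MulAut M) • (g * u * g⁻¹) ∈ (R : Subgroup M)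
      simpa [MulAut.smul_def, mul_assoc] using hu
    have hN := mem_normalizer_of_commute hTI (y := (u : G)) (g := (g : G)⁻¹) hx1 (hall R u hu).symm (by
      have := hg.symm.map (MulAut.conj (g : G)⁻¹).toMonoidHom
      simpa [mul_assoc] using this)
    have hinv := inv_mem hN
    rw [inv_inv] at hinv
    have h3 := (Subgroup.mem_normalizer_iff.1 hinv (u : G)).1 (Subgroup.mem_centralizer_singleton_iff.2 rfl)
    exact Subtype.ext (Subgroup.mem_centralizer_singleton_iff.1 h3).symm
  have hPQ' : P.subtype hPM = Q.subtype hQM :=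
    Sylow.ext (le_antisymm (hsub _ _) (hsub _ _))
  apply hPQ
  exact Sylow.subtype_injective hPQ'

end Cfsg.Agent.S4066
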