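import Cfsg.Statements.S1249
-- import your own Cfsg.Agent.* helpers here

set_option autoImplicit false
open Cfsg

namespace Cfsg.Agent.S1249

/-- Let P and Q be Sylow p-subgroups of the finite group G both containing the subgroup A. If A is strongly closed in P, then A is strongly closed in Q. -/
theorem result {G : Type*} [Group G] [Finite G] {p : ℕ} [Fact p.Prime] (P Q : Sylow p G) (A : Subgroup G) (hAQ : A ≤ Q) (hA : Cfsg.IsStronglyClosed A (P : Subgroup G)) : Cfsg.IsStronglyClosed A (Q : Subgroup G) := by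
  obtain ⟨hAP, hclosed⟩ := hA
  refine ⟨hAQ, fun a ha h hh => ?_⟩
  obtain ⟨g, hg⟩ := MulAction.exists_smul_eq G Q P
  have toP : ∀ y ∈ (Q : Subgroup G), g * y * g⁻¹ ∈ (P : Subgroup G) := by
    intro y hy
    rw [← hg, Sylow.coe_subgroup_smul]
    exact Subgroup.smul_mem_pointwise_smul y (MulAut.conj g) _ hy
  have hgA : ∀ y ∈ A, g * y * g⁻¹ ∈ A := fun y hy => hclosed y hy g (toP y (hAQ hy))
  have hgA' : ∀ z ∈ A, g⁻¹ * z * g ∈ A := by
    intro z hz
    have hb : Function.Bijective (fun y : A => (⟨g * (y : G) * g⁻¹, hgA y y.2⟩ : A)) := by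
      refine Finite.injective_iff_bijective.1 ?_
      intro y y' he
      simp only [Subtype.mk.injEq] at he
      exact Subtype.ext (mul_left_cancel (mul_right_cancel he))
    obtain ⟨y, hy⟩ := hb.2 ⟨z, hz⟩
    simp only [Subtype.ext_iff] at hy
    rw [← hy]
    convert y.2 using 1
    group
  have h1 := hclosed a ha (g * h) (by simpa [mul_assoc] using toP _ hh)
  convert hgA' _ h1 using 1
  group

end Cfsg.Agent.S1249
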