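import Cfsg.Statements.S2791
import Cfsg.Agent.Lib.Fusion.Extend
import Cfsg.Agent.Lib.Fusion.Group

set_option autoImplicit false
open Cfsg
open scoped commutatorElement

namespace Cfsg.Agent.S2791

/-- Let S be a Sylow p-subgroup of the finite group G and A an abelian subgroup of S that is strongly closed in S with respect to G. Then A controls strong fusion in G: for some Sylow p-subgroup T containing A, whenever a subset of T is conjugated into T by an element of G, the same elementwise conjugation is induced by an element of N_G(A). -/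
theorem result {G : Type*} [Group G] [Finite G] {p : ℕ} [Fact p.Prime] (S : Sylow p G) (A : Subgroup G) (hA : IsMulCommutative ↥A) (hsc : Cfsg.IsStronglyClosed A (S : Subgroup G)) : Cfsg.ControlsStrongFusion p A := by
  set F := Cfsg.groupFusionSystem (S : Subgroup G) with hFdef
  have hF : F.IsSaturated p := CfsgLib.Fusion.group_saturated S
  have hsc' : F.StronglyClosed A := by
    refine ⟨hsc.1, ?_⟩
    rintro R hR φ ⟨-, hφS, g, hg⟩ x
    rw [hg x]
    exact hsc.2 x.1 (hR x.2) g (hg x ▸ hφS x)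
  have hab : ⁅A, A⁆ = ⊥ := by
    rw [Subgroup.commutator_eq_bot_iff_le_centralizer]
    intro a ha
    rw [Subgroup.mem_centralizer_iff]
    exact fun b hb => congrArg Subtype.val (hA.1.comm (⟨b, hb⟩ : ↥A) ⟨a, ha⟩)
  have hN : F.IsNormal A := CfsgLib.FusionExtend.isNormal_of_abelian S.2 hF hsc' hab
  refine ⟨S, hsc.1, fun B hB => ⟨hB, fun g hg => ?_⟩⟩
  have hP : Subgroup.closure B ≤ (S : Subgroup G) := (Subgroup.closure_le _).2 hB
  have hPg : ∀ x ∈ Subgroup.closure B, g * x * g⁻¹ ∈ (S : Subgroup G) := by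
    intro x hx
    have : Subgroup.closure B ≤ (S : Subgroup G).comap (MulAut.conj g).toMonoidHom :=
      (Subgroup.closure_le _).2 fun b hb => hg ⟨b, hb, rfl⟩
    exact this hx
  obtain ⟨ψ, ⟨-, -, h, hh⟩, hext, hmap⟩ := hN.2 _ _ (CfsgLib.Fusion.group_conjHom_mem hP hPg)
  refine ⟨h, ?_, fun b hb => ?_⟩
  · refine Subgroup.mem_normalizer_iff.2 ?_
    have hmem : ∀ a ∈ A, h * a * h⁻¹ ∈ A := by
      intro a ha
      have h1 : ψ ⟨a, Subgroup.mem_sup_right ha⟩ ∈ A :=
        hmap.le ⟨⟨a, Subgroup.mem_sup_right ha⟩, ha, rfl⟩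
      rwa [hh ⟨a, Subgroup.mem_sup_right ha⟩] at h1
    intro a
    refine ⟨hmem a, fun ha => ?_⟩
    obtain ⟨c, hc, hce⟩ := hmap.ge ha
    have h1 := hh c
    rw [hce] at h1
    have h2 : a = (c : G) := by simpa using h1
    rw [h2]; exact hc
  · have h1 := hext ⟨b, Subgroup.subset_closure hb⟩
    rw [hh] at h1
    exact h1.symm

end Cfsg.Agent.S2791
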