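import Cfsg.Statements.S1251
import Cfsg.Agent.Lib.TwoGroups.DisjointClosed

set_option autoImplicit false
open Cfsg

namespace Cfsg.Agent.S1251

/-- Let S be a Sylow 2-subgroup of the finite group G and A ≤ S strongly closed in S. If H is a subgroup normalized by A with no nontrivial normal subgroup of odd order and A ∩ H = 1, then A ≤ C_G(H). -/
theorem result {G : Type*} [Group G] [Finite G] (S : Sylow 2 G) (A : Subgroup G) (hA : Cfsg.IsStronglyClosed A (S : Subgroup G)) (H : Subgroup G) (hAH : A ≤ Subgroup.normalizer (H : Set G)) (hO : Cfsg.oddCore ↥H = ⊥) (hdisj : A ⊓ H = ⊥) : A ≤ Subgroup.centralizer (H : Set G) := by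
  classical
  have : Fact (Nat.Prime 2) := ⟨Nat.prime_two⟩
  have hA2 : IsPGroup 2 A := S.isPGroup'.to_le hA.1
  let K : Subgroup G := H ⊔ A
  let H' := H.subgroupOf K
  let A' := A.subgroupOf K
  have hAK : A ≤ K := le_sup_right
  have hH' : H'.Normal := Subgroup.normal_subgroupOf_of_le_normalizer
    (sup_le Subgroup.le_normalizer hAH)
  have hA'p : IsPGroup 2 A' := hA2.comap_subtype
  obtain ⟨P, hP⟩ := hA'p.exists_le_sylow
  have key := CfsgLib.TwoGroups.DisjointClosed.centralizes (Nat.card A') K H' A' P le_rfl hH'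
    (by rw [← Subgroup.subgroupOf_sup le_sup_left le_sup_right]; exact Subgroup.subgroupOf_self K)
    (by
      rw [Subgroup.eq_bot_iff_forall]
      rintro v ⟨hv1, hv2⟩
      have h1 : (v : G) ∈ A ⊓ H := ⟨hv2, hv1⟩
      rw [hdisj, Subgroup.mem_bot] at h1
      exact Subtype.ext h1)
    hP
    (by
      intro M hM hMn hModd
      let e := Subgroup.subgroupOfEquivOfLe (le_sup_left : H ≤ K)
      let M' : Subgroup H := (M.subgroupOf H').map e.toMonoidHom
      have hn : (M.subgroupOf H').Normal := hMn.subgroupOf _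
      have hn' : M'.Normal := hn.map _ e.surjective
      have hc : Nat.card M' = Nat.card M := by
        rw [Subgroup.card_map_of_injective e.injective,
          Nat.card_congr (Subgroup.subgroupOfEquivOfLe hM).toEquiv]
      have hle : M' ≤ Cfsg.oddCore H :=
        le_sSup ⟨hn', by rw [hc]; exact Nat.coprime_two_right.2 hModd⟩
      rw [hO, le_bot_iff, Subgroup.eq_bot_iff_card, hc, ← Subgroup.eq_bot_iff_card] at hle
      exact hle)
    (by
      intro x hx k hk
      obtain ⟨g, hg⟩ := CfsgLib.Involutions.exists_conj_le_sylow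
        (P.isPGroup'.map K.subtype) S
      have hgA : ∀ y ∈ A, g * y * g⁻¹ ∈ A := fun y hy =>
        hA.2 y hy g (hg y ⟨⟨y, hAK hy⟩, hP (show (⟨y, hAK hy⟩ : K) ∈ A' from hy), rfl⟩)
      have himg : A.map (MulAut.conj g).toMonoidHom = A := by
        refine Subgroup.eq_of_le_of_card_ge (by rintro _ ⟨y, hy, rfl⟩; exact hgA y hy) ?_
        rw [Subgroup.card_map_of_injective (MulAut.conj g).injective]
      have h1 := hg _ ⟨_, hk, rfl⟩
      have h2 : g * ((k : G) * (x : G) * (k : G)⁻¹) * g⁻¹ ∈ A := by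
        have h3 := hA.2 (x : G) hx (g * k)
        have e1 : g * (k : G) * (x : G) * (g * (k : G))⁻¹ = g * ((k : G) * (x : G) * (k : G)⁻¹) * g⁻¹ := by
          group
        rw [e1] at h3
        exact h3 h1
      rw [← himg] at h2
      obtain ⟨y, hy, hye⟩ := h2
      have : y = (k : G) * (x : G) * (k : G)⁻¹ := (MulAut.conj g).injective hye
      show (k : G) * (x : G) * (k : G)⁻¹ ∈ A
      exact this ▸ hy)
  intro a ha
  rw [Subgroup.mem_centralizer_iff]
  intro h hh
  exact (congrArg Subtype.val (key ⟨a, hAK ha⟩ ha ⟨h, Subgroup.mem_sup_left hh⟩ hh)).symm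

end Cfsg.Agent.S1251
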