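import Cfsg.Statements.S0815
import Cfsg.Agent.Lib.AutPSU.Card

set_option autoImplicit false
open Cfsg CfsgLib.AutPSU

namespace Cfsg.Agent.S0815

theorem result {F : Type*} [Field F] [Fintype F] (p f : ℕ) [Fact p.Prime] (hf : 1 ≤ f) {q : ℕ} (hq : q = p ^ f) (hF : Fintype.card F = q ^ 2) (n : ℕ) (hn : 3 ≤ n) (h32 : ¬ (n = 3 ∧ q = 2)) : Nat.card (MulAut (Cfsg.PSU n F q)) = Nat.gcd n (q + 1) * (2 * f) * Nat.card (Cfsg.PSU n F q) := by
  obtain ⟨m, rfl⟩ : ∃ m, n = m + 2 := ⟨n - 2, by omega⟩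
  have h2 := CfsgLib.ClassicalGroups.herm_two_le hF
  have hs : m = 1 → 3 ≤ q := fun h => by
    rcases Nat.lt_or_ge q 3 with h' | h'
    · exact absurd ⟨by omega, by omega⟩ h32
    · exact h'
  rw [card_mulAut hF (by omega) hs,
    CfsgLib.FieldGalois.card_ringAut (p := p) (f := 2 * f) (by rw [hF, hq, ← pow_mul, mul_comm])]
  exact mul_right_comm _ _ _

end Cfsg.Agent.S0815
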