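import Cfsg.Statements.S3794
import Cfsg.Agent.Lib.ModuleTrick.OrderFour
import Cfsg.Agent.Lib.ModuleTrick.Quotient

set_option autoImplicit false
open Cfsg

namespace Cfsg.Agent.S3794

open CfsgLib.ModuleTrick
open scoped IsMulCommutative

theorem derived_nilpotent (n : ℕ) : ∀ {G : Type*} [Group G] [Finite G], Nat.card G ≤ n →
    Group.IsSolvable G → ∀ σ : MulAut G, σ ^ 4 = 1 → (∀ g : G, σ g = g → g = 1) →
    Group.IsNilpotent (commutator G) := by
  induction n with
  | zero => intro G _ _ h; exact absurd h (not_le.mpr Nat.card_pos)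
  | succ n ih =>
    intro G _ _ hcard hG σ hσ hfpf
    haveI := hG
    rcases subsingleton_or_nontrivial G with hsub | hnt
    · infer_instance
    obtain ⟨V, p, hp, -, hVn, hV1, hVσ, hVc, hVe, hmin⟩ :=
      exists_minimal_invariant σ ⊤ inferInstance top_ne_bot (fun _ _ => Subgroup.mem_top _)
    haveI := Fact.mk hp
    haveI : IsMulCommutative V := isMulCommutative_iff.mpr fun a b => Subtype.ext (hVc a a.2 b b.2)
    have hlt : Nat.card (G ⧸ V) ≤ n := by
      have h1 : 1 < Nat.card V := Finite.one_lt_card_iff_nontrivial.mpr (V.nontrivial_iff_ne_bot.mpr hV1)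
      have h2 := Subgroup.card_eq_card_quotient_mul_card_subgroup V
      have h3 : 0 < Nat.card (G ⧸ V) := Nat.card_pos
      nlinarith
    have hq := ih hlt (by infer_instance) _ (quotientAut_pow_eq_one σ V hVσ hσ)
      (quotientAut_fixedPointFree σ V hVσ hfpf)
    let C := Subgroup.centralizer (V : Set G)
    have hCσ : ∀ x ∈ C, σ x ∈ C := by
      intro x hx
      rw [Subgroup.mem_centralizer_iff] at hx ⊢
      intro v hv
      obtain ⟨w, hw, rfl⟩ : v ∈ V.map σ.toMonoidHom := (map_eq_of_invariant hVσ).ge hv
      show σ w * σ x = σ x * σ w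
      rw [← map_mul, ← map_mul, hx w hw]
    let s : AddMonoid.End (Additive V) := MonoidHom.toAdditive
      { toFun := fun x : V => (⟨σ x, hVσ x x.2⟩ : V)
        map_one' := Subtype.ext (map_one σ)
        map_mul' := fun x y => Subtype.ext (map_mul σ _ _) }
    have hs_apply : ∀ a : Additive V, ((Additive.toMul (s a) : V) : G) = σ (Additive.toMul a : V) :=
      fun a => rfl
    have hs4 : s ^ 4 = 1 := by
      refine AddMonoidHom.ext fun a => Additive.toMul.injective (Subtype.ext ?_)
      show σ (σ (σ (σ ((Additive.toMul a : V) : G)))) = ((Additive.toMul a : V) : G)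
      exact DFunLike.congr_fun hσ _
    have hab : ∀ a b : G ⧸ C, a * b = b * a := by
      haveI : Nontrivial (Additive V) := V.nontrivial_iff_ne_bot.mpr hV1
      refine commute_of_order_four (A := Additive V) (p := p) ?_ (quotientAut σ C hCσ)
        (quotientAut_pow_eq_one σ C hCσ hσ) (quotientAut_fixedPointFree σ C hCσ hfpf)
        (conjEndQuot V) (conjEndQuot_injective V) s hs4 ?_ ?_ ?_
      · intro a
        refine Additive.toMul.injective (Subtype.ext ?_)
        rw [toMul_nsmul, Subgroup.coe_pow, hVe _ (Additive.toMul a).2]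
        rfl
      · intro a ha
        refine Additive.toMul.injective (Subtype.ext (hfpf _ ?_))
        rw [← hs_apply, ha]
      · intro q
        induction q using QuotientGroup.induction_on with
        | H g =>
          refine AddMonoidHom.ext fun a => Additive.toMul.injective (Subtype.ext ?_)
          show σ ((Additive.toMul (conjEnd V g a) : V) : G) =
            ((Additive.toMul (conjEnd V (σ g) (s a)) : V) : G)
          rw [conjEnd_apply, conjEnd_apply, hs_apply, map_mul, map_mul, map_inv]
      · intro B hBH hBs
        let W : Subgroup G := (AddSubgroup.toSubgroup' B).map V.subtype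
        have hW : ∀ x, x ∈ W ↔ ∃ hx : x ∈ V, Additive.ofMul (⟨x, hx⟩ : V) ∈ B := by
          intro x
          constructor
          · rintro ⟨y, hy, rfl⟩; exact ⟨y.2, hy⟩
          · rintro ⟨hx, hb⟩; exact ⟨⟨x, hx⟩, hb, rfl⟩
        have hWn : W.Normal := ⟨fun x hx g => by
          obtain ⟨hxV, hb⟩ := (hW x).mp hx
          refine (hW _).mpr ⟨hVn.conj_mem x hxV g, ?_⟩
          have h1 : conjEnd V g (Additive.ofMul ⟨x, hxV⟩) ∈ B := hBH (g : G ⧸ C) _ hb
          convert h1 using 1
          exact Additive.toMul.injective (Subtype.ext (conjEnd_apply V g (Additive.ofMul ⟨x, hxV⟩)).symm)⟩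
        have hWσ : ∀ x ∈ W, σ x ∈ W := fun x hx => by
          obtain ⟨hxV, hb⟩ := (hW x).mp hx
          exact (hW _).mpr ⟨hVσ x hxV, hBs _ hb⟩
        rcases hmin W hWn (fun x hx => ((hW x).mp hx).1) hWσ with e | e
        · left
          rw [eq_bot_iff]
          intro b hb
          have h1 : ((Additive.toMul b : V) : G) ∈ W := (hW _).mpr ⟨(Additive.toMul b).2, hb⟩
          rw [e, Subgroup.mem_bot] at h1
          rw [AddSubgroup.mem_bot]
          exact Additive.toMul.injective (Subtype.ext h1)
        · right
          rw [eq_top_iff]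
          intro b _
          exact ((hW _).mp (e.ge (Additive.toMul b).2)).2
    have hGC : commutator G ≤ C := by
      rw [← Subgroup.Normal.quotient_commutative_iff_commutator_le]
      exact isMulCommutative_iff.mpr hab
    let f : commutator G →* commutator (G ⧸ V) :=
      { toFun := fun x => ⟨QuotientGroup.mk' V x, by
          have hle : (commutator G).map (QuotientGroup.mk' V) ≤ commutator (G ⧸ V) := by
            rw [commutator_def, Subgroup.map_commutator, commutator_def]
            exact Subgroup.commutator_mono le_top le_top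
          exact hle ⟨x, x.2, rfl⟩⟩
        map_one' := Subtype.ext (map_one _)
        map_mul' := fun x y => Subtype.ext (map_mul _ _ _) }
    haveI := hq
    refine Subgroup.isNilpotent_of_ker_le_center f ?_
    intro x hx
    have hxV : (x : G) ∈ V := (QuotientGroup.eq_one_iff _).mp (congrArg Subtype.val hx)
    rw [Subgroup.mem_center_iff]
    intro y
    have hy : (y : G) ∈ Subgroup.centralizer (V : Set G) := hGC y.2
    exact Subtype.ext (hy x hxV).symm


/-- Let G be a finite solvable group with an automorphism σ satisfying σ⁴ = 1 and fixing only the identity. Then the derived subgroup G' is nilpotent. -/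
theorem result {G : Type*} [Group G] [Finite G] (hG : Group.IsSolvable G) (σ : MulAut G) (hσ : σ ^ 4 = 1) (hfpf : ∀ g : G, σ g = g → g = 1) : Group.IsNilpotent (commutator G) := by
  exact derived_nilpotent (Nat.card G) le_rfl hG σ hσ hfpf

end Cfsg.Agent.S3794
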