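import Cfsg.Statements.S4219


set_option autoImplicit false
open Cfsg

namespace Cfsg.Agent.S4219

/-- Let a finite group `G` act `t`-fold transitively on a finite set, let `H` be the stabilizer of `t` distinct points and `P` a Sylow `p`-subgroup of `H`. Then the normalizer of `P` in `G` is `t`-fold transitive on the fixed points of `P`: any `t` distinct fixed points of `P` can be carried to any other `t` distinct fixed points of `P` by an element normalizing `P`. -/
theorem result {G : Type*} [Group G] [Finite G] {α : Type*} [Fintype α] [MulAction G α] {t : ℕ} (hG : MulAction.IsMultiplyPretransitive G α t) (x : Fin t ↪ α) {p : ℕ} [Fact p.Prime] (P : Sylow p (MulAction.stabilizer G x)) (a b : Fin t ↪ α) (ha : ∀ i, a i ∈ MulAction.fixedPoints ((P : Subgroup (MulAction.stabilizer G x)).map (MulAction.stabilizer G x).subtype) α) (hb : ∀ i, b i ∈ MulAction.fixedPoints ((P : Subgroup (MulAction.stabilizer G x)).map (MulAction.stabilizer G x).subtype) α) : ∃ g ∈ Subgroup.normalizer ((((P : Subgroup (MulAction.stabilizer G x)).map (MulAction.stabilizer G x).subtype)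 : Subgroup G) : Set G), g • a = b := by
  classical
  haveI := hG
  set P' : Subgroup G := (P : Subgroup (MulAction.stabilizer G x)).map (MulAction.stabilizer G x).subtype with hP'
  have hfix : ∀ (c : Fin t ↪ α), (∀ i, c i ∈ MulAction.fixedPoints P' α) →
      P' ≤ MulAction.stabilizer G c := by
    intro c hc u hu
    rw [MulAction.mem_stabilizer_iff]
    exact Function.Embedding.ext fun i => hc i ⟨u, hu⟩
  obtain ⟨h, hh⟩ := MulAction.exists_smul_eq G a b
  obtain ⟨h', hh'⟩ := MulAction.exists_smul_eq G x b
  set K := MulAction.stabilizer G b with hK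
  have hcardK : Nat.card K = Nat.card (MulAction.stabilizer G x) := by
    rw [hK, ← hh', MulAction.stabilizer_smul_eq_stabilizer_map_conj]
    exact (Nat.card_congr ((MulAction.stabilizer G x).equivMapOfInjective _
      (MulAut.conj h').injective).toEquiv).symm
  have hcardP : Nat.card P' = p ^ (Nat.card (MulAction.stabilizer G x)).factorization p := by
    rw [hP', ← Nat.card_congr ((P : Subgroup (MulAction.stabilizer G x)).equivMapOfInjective _ (MulAction.stabilizer G x).subtype_injective).toEquiv,
      P.card_eq_multiplicity]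
  set R : Subgroup G := P'.map (MulAut.conj h).toMonoidHom with hR
  have hRK : R ≤ K := by
    rw [hR, hK, ← hh, MulAction.stabilizer_smul_eq_stabilizer_map_conj]
    exact Subgroup.map_mono (hfix a ha)
  have hcardR : Nat.card R = p ^ (Nat.card (MulAction.stabilizer G x)).factorization p := by
    rw [hR, ← Nat.card_congr (P'.equivMapOfInjective _ (MulAut.conj h).injective).toEquiv, hcardP]
  have hPK : P' ≤ K := hfix b hb
  let P1 : Sylow p K := Sylow.ofCard (P'.subgroupOf K)
    (by rw [Nat.card_congr (Subgroup.subgroupOfEquivOfLe hPK).toEquiv, hcardP, hcardK])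
  let P2 : Sylow p K := Sylow.ofCard (R.subgroupOf K)
    (by rw [Nat.card_congr (Subgroup.subgroupOfEquivOfLe hRK).toEquiv, hcardR, hcardK])
  obtain ⟨k, hk⟩ := MulAction.exists_smul_eq K P2 P1
  refine ⟨(k : G) * h, ?_, ?_⟩
  · rw [Subgroup.mem_normalizer_iff_map_conj_eq]
    have h1 : ((P2 : Subgroup K).map (MulAut.conj k).toMonoidHom) = (P1 : Subgroup K) := by
      rw [← hk, Sylow.coe_subgroup_smul]
      rfl
    have h2 := congrArg (Subgroup.map K.subtype) h1
    rw [Subgroup.map_map,
      show K.subtype.comp (MulAut.conj k).toMonoidHom =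
        ((MulAut.conj (k : G)).toMonoidHom).comp K.subtype from MonoidHom.ext fun z => rfl,
      ← Subgroup.map_map] at h2
    simp only [P1, P2, Sylow.coe_ofCard, Subgroup.map_subgroupOf_eq_of_le hPK,
      Subgroup.map_subgroupOf_eq_of_le hRK] at h2
    rw [hR, Subgroup.map_map] at h2
    refine Eq.trans ?_ h2
    congr 1
    ext z
    simp [MulAut.conj_apply, mul_assoc]
  · rw [mul_smul, hh]
    exact MulAction.mem_stabilizer_iff.1 k.2

end Cfsg.Agent.S4219
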