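import Cfsg.Statements.S0713
import Mathlib.GroupTheory.GroupAction.Jordan
import Mathlib.GroupTheory.Sylow
import Mathlib.GroupTheory.Perm.Cycle.Type
import Mathlib.Tactic

set_option autoImplicit false
open Cfsg
open scoped Pointwise

namespace Cfsg.Agent.S0713

/-- Jordan's Theorem: a primitive permutation group of degree `n ≥ 5` containing a `p`-cycle for a prime `p ≤ n - 3` contains the alternating group. -/
theorem result {α : Type*} [Fintype α] [DecidableEq α] (G : Subgroup (Equiv.Perm α)) (hG : MulAction.IsPreprimitive G α) {p : ℕ} (hp : p.Prime) (hn : 5 ≤ Fintype.card α) (hpn : p + 3 ≤ Fintype.card α) {g : Equiv.Perm α} (hgc : g.IsCycle) (hgp : g.support.card = p) (hg : g ∈ G) : alternatingGroup α ≤ G := by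
  classical
  set D : Finset α := g.support with hD
  set C : Set α := ((D : Set α))ᶜ with hC
  have hCcard : C.ncard = Fintype.card α - p := by
    rw [hC, Set.ncard_compl, Set.ncard_coe_finset, hgp, Nat.card_eq_fintype_card]
  have htr : MulAction.IsPretransitive (fixingSubgroup G C) (SubMulAction.ofFixingSubgroup G C) :=
    Equiv.Perm.isPretransitive_of_isCycle_mem hgc hg
  have hprim : MulAction.IsPreprimitive (fixingSubgroup G C) (SubMulAction.ofFixingSubgroup G C) := by
    apply MulAction.IsPreprimitive.of_prime_card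
    convert! hp
    rw [Nat.card_eq_fintype_card, Fintype.card_subtype, ← hgp]
    congr 1
    ext z
    simp [hC, hD, SubMulAction.mem_ofFixingSubgroup_iff]
  obtain ⟨N, hN⟩ : ∃ N, Fintype.card α - p = N + 1 := ⟨Fintype.card α - p - 1, by omega⟩
  have hmp := MulAction.IsPreprimitive.isMultiplyPreprimitive hG (n := N) (hCcard.trans hN)
    (by rw [Nat.card_eq_fintype_card]; have := hp.two_le; omega) hprim
  haveI := hmp.isMultiplyPretransitive
  have hkt : MulAction.IsMultiplyPretransitive G α (N + 1) :=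
    MulAction.isMultiplyPretransitive_of_le (G := G) (α := α) (n := N + 2) (Nat.le_succ _)
      (by rw [Nat.card_eq_fintype_card]; have := hp.two_le; omega)
  -- the fixer of the complement of the cycle
  let H : Subgroup G := fixingSubgroup G C
  set g0 : H := ⟨⟨g, hg⟩, (mem_fixingSubgroup_iff G).mpr fun z hz =>
    show g z = z from Equiv.Perm.notMem_support.mp hz⟩ with hg0
  have hordg : orderOf g = p := by rw [hgc.orderOf, hgp]
  have hord : orderOf g0 = p := by
    rw [← orderOf_injective H.subtype H.subtype_injective,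
      ← orderOf_injective G.subtype G.subtype_injective]
    exact hordg
  haveI : Fact p.Prime := ⟨hp⟩
  have hHdvd : Nat.card H ∣ p.factorial := by
    let f : H →* Equiv.Perm (SubMulAction.ofFixingSubgroup G C) := MulAction.toPermHom _ _
    have hf : Function.Injective f := by
      rw [injective_iff_map_eq_one]
      intro h hh
      apply Subtype.ext; apply Subtype.ext; apply Equiv.ext
      intro z
      by_cases hz : z ∈ C
      · exact (mem_fixingSubgroup_iff G).mp h.2 z hz
      · exact congrArg Subtype.val (Equiv.congr_fun hh (⟨z, hz⟩ : SubMulAction.ofFixingSubgroup G C))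
    have h1 := Subgroup.card_dvd_of_injective f hf
    rw [Nat.card_perm] at h1
    have hcD : Nat.card (SubMulAction.ofFixingSubgroup G C) = p := by
      rw [Nat.card_eq_fintype_card, Fintype.card_subtype, ← hgp]
      congr 1
      ext z
      simp [hC, hD, SubMulAction.mem_ofFixingSubgroup_iff]
    rwa [hcD] at h1
  have hnorm : ∀ a b : α, a ∈ C → b ∈ C →
      ∃ y ∈ G, (∀ z ∈ C, y z = Equiv.swap a b z) ∧ ∃ i : ℤ, y * g * y⁻¹ = g ^ i := by
    intro a b ha hb
    haveI := hkt
    have hswap : ∀ z ∈ C, Equiv.swap a b z ∈ C := by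
      intro z hz
      rcases eq_or_ne z a with rfl | h1
      · rwa [Equiv.swap_apply_left]
      rcases eq_or_ne z b with rfl | h2
      · rwa [Equiv.swap_apply_right]
      rwa [Equiv.swap_apply_of_ne_of_ne h1 h2]
    haveI : Fintype C := Fintype.ofFinite C
    have hcC : Fintype.card C = N + 1 := by
      rw [← Nat.card_eq_fintype_card, Nat.card_coe_set_eq, hCcard, hN]
    let e : Fin (N + 1) ≃ C := (Fintype.equivFinOfCardEq hcC).symm
    let u : Fin (N + 1) ↪ α := e.toEmbedding.trans ⟨Subtype.val, Subtype.val_injective⟩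
    let v : Fin (N + 1) ↪ α := u.trans (Equiv.swap a b).toEmbedding
    obtain ⟨x, hx⟩ := MulAction.exists_smul_eq G u v
    have hxC : ∀ z ∈ C, (x : Equiv.Perm α) z = Equiv.swap a b z := by
      intro z hz
      have := DFunLike.congr_fun hx (e.symm ⟨z, hz⟩)
      simp [u, v] at this
      exact this
    have hxpre : ∀ z ∈ C, ((x : Equiv.Perm α))⁻¹ z = Equiv.swap a b z := by
      intro z hz
      rw [Equiv.Perm.inv_eq_iff_eq, hxC _ (hswap z hz), Equiv.swap_apply_self]
    have hxg : ((x * ⟨g, hg⟩ * x⁻¹ : G)) ∈ H := by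
      refine (mem_fixingSubgroup_iff G).mpr fun z hz => ?_
      change (x : Equiv.Perm α) (g ((x : Equiv.Perm α)⁻¹ z)) = z
      rw [hxpre z hz, Equiv.Perm.notMem_support.mp (hswap z hz), hxC _ (hswap z hz),
        Equiv.swap_apply_self]
    set g1 : H := ⟨_, hxg⟩ with hg1
    have hord1 : orderOf g1 = p := by
      rw [← orderOf_injective H.subtype H.subtype_injective, ← hord,
        ← orderOf_injective H.subtype H.subtype_injective]
      exact (MulAut.conj x).orderOf_eq ⟨g, hg⟩
    have key : ∀ k : H, orderOf k = p → ∃ S : Sylow p H, Subgroup.zpowers k = (S : Subgroup H) := by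
      intro k hk
      have hP : IsPGroup p (Subgroup.zpowers k) :=
        IsPGroup.of_card (n := 1) (by rw [Nat.card_zpowers, hk, pow_one])
      obtain ⟨S, hS⟩ := hP.exists_le_sylow
      refine ⟨S, Subgroup.eq_of_le_of_card_ge hS ?_⟩
      rw [Nat.card_zpowers, hk]
      obtain ⟨m, hm⟩ := IsPGroup.iff_card.mp S.isPGroup'
      rw [hm]
      have hdiv : p ^ m ∣ p.factorial := hm ▸ (Subgroup.card_subgroup_dvd_card _).trans hHdvd
      rcases Nat.lt_or_ge m 2 with h | h
      · calc p ^ m ≤ p ^ 1 := Nat.pow_le_pow_right hp.pos (by omega)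
          _ = p := pow_one p
      exfalso
      have h2 : p * p ∣ p * (p - 1).factorial := by
        rw [Nat.mul_factorial_pred hp.ne_zero, ← pow_two]
        exact (pow_dvd_pow p h).trans hdiv
      have := hp.dvd_factorial.mp (Nat.dvd_of_mul_dvd_mul_left hp.pos h2)
      have := hp.pos
      omega
    obtain ⟨S0, hS0⟩ := key g0 hord
    obtain ⟨S1, hS1⟩ := key g1 hord1
    obtain ⟨h, hh⟩ := MulAction.exists_smul_eq H S1 S0
    have hmem : h * g1 * h⁻¹ ∈ Subgroup.zpowers g0 := by
      rw [hS0, ← hh, Sylow.coe_subgroup_smul]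
      exact ⟨g1, hS1 ▸ Subgroup.mem_zpowers g1, by simp [MulAut.smul_def]⟩
    obtain ⟨i, hi⟩ := Subgroup.mem_zpowers_iff.mp hmem
    refine ⟨((h : G) : Equiv.Perm α) * (x : Equiv.Perm α), mul_mem (h : G).2 x.2, fun z hz => ?_, i, ?_⟩
    · rw [Equiv.Perm.mul_apply, hxC z hz]
      exact (mem_fixingSubgroup_iff G).mp h.2 _ (hswap z hz)
    · have := congrArg (fun k : H => ((k : G) : Equiv.Perm α)) hi
      simp only [hg1, hg0, Subgroup.coe_mul, Subgroup.coe_inv, Subgroup.coe_zpow] at this
      rw [this, mul_inv_rev]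
      simp only [mul_assoc]
  -- three points fixed by the cycle
  obtain ⟨a, b, c, ha, hb, hc, hab, hac, hbc⟩ : ∃ a b c, a ∈ C ∧ b ∈ C ∧ c ∈ C ∧ a ≠ b ∧ a ≠ c ∧ b ≠ c := by
    have h3 : 2 < (Dᶜ).card := by rw [Finset.card_compl, hgp]; omega
    obtain ⟨a, ha, b, hb, c, hc, h1, h2, h3⟩ := Finset.two_lt_card.mp h3
    exact ⟨a, b, c, by simpa [hC] using ha, by simpa [hC] using hb, by simpa [hC] using hc, h1, h2, h3⟩
  obtain ⟨y, hyG, hy, i, hi⟩ := hnorm a b ha hb
  obtain ⟨y', hyG', hy', j, hj⟩ := hnorm b c hb hc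
  set t : Equiv.Perm α := y * y' * y⁻¹ * y'⁻¹ with ht
  have hcomm : t * g = g * t := by
    have e1 : y * y' * g * (y * y')⁻¹ = g ^ (i * j) := by
      calc y * y' * g * (y * y')⁻¹ = y * (y' * g * y'⁻¹) * y⁻¹ := by group
        _ = (y * g * y⁻¹) ^ j := by rw [hj, conj_zpow]
        _ = g ^ (i * j) := by rw [hi, ← zpow_mul]
    have e2 : y' * y * g * (y' * y)⁻¹ = g ^ (j * i) := by
      calc y' * y * g * (y' * y)⁻¹ = y' * (y * g * y⁻¹) * y'⁻¹ := by group
        _ = (y' * g * y'⁻¹) ^ i := by rw [hi, conj_zpow]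
        _ = g ^ (j * i) := by rw [hj, ← zpow_mul]
    have e3 : y * y' * g * (y * y')⁻¹ = y' * y * g * (y' * y)⁻¹ := by rw [e1, e2, mul_comm]
    have e4 : (y' * y)⁻¹ * (y * y') * g = g * ((y' * y)⁻¹ * (y * y')) := by
      calc (y' * y)⁻¹ * (y * y') * g
          = (y' * y)⁻¹ * (y * y' * g * (y * y')⁻¹) * (y * y') := by group
        _ = (y' * y)⁻¹ * (y' * y * g * (y' * y)⁻¹) * (y * y') := by rw [e3]
        _ = _ := by group
    -- move the conjugated form to `t`
    have e5 : t = (y' * y) * ((y' * y)⁻¹ * (y * y')) * (y' * y)⁻¹ := by rw [ht]; group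
    have hz : ∀ q : ℤ, (y' * y)⁻¹ * (y * y') * g ^ q = g ^ q * ((y' * y)⁻¹ * (y * y')) := fun q =>
      (Commute.zpow_right (show Commute ((y' * y)⁻¹ * (y * y')) g from e4) q).eq
    have hg' : ∃ q : ℤ, (y' * y)⁻¹ * g * (y' * y) = g ^ q := by
      have hmem : y' * y * g * (y' * y)⁻¹ ∈ Subgroup.zpowers g := e2 ▸ ⟨_, rfl⟩
      have hord : orderOf (y' * y * g * (y' * y)⁻¹) = orderOf g := (MulAut.conj (y' * y)).orderOf_eq g
      have heq : Subgroup.zpowers (y' * y * g * (y' * y)⁻¹) = Subgroup.zpowers g :=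
        Subgroup.eq_of_le_of_card_ge (Subgroup.zpowers_le.mpr hmem)
          (by rw [Nat.card_zpowers, Nat.card_zpowers, hord])
      obtain ⟨q, hq⟩ := Subgroup.mem_zpowers_iff.mp (heq.symm ▸ Subgroup.mem_zpowers g :
        g ∈ Subgroup.zpowers (y' * y * g * (y' * y)⁻¹))
      refine ⟨q, ?_⟩
      calc (y' * y)⁻¹ * g * (y' * y)
          = (y' * y)⁻¹ * ((y' * y) * g ^ q * (y' * y)⁻¹) * (y' * y) := by rw [← conj_zpow, hq]
        _ = g ^ q := by group
    obtain ⟨q, hq⟩ := hg'
    calc t * g = (y' * y) * (((y' * y)⁻¹ * (y * y')) * ((y' * y)⁻¹ * g * (y' * y))) * (y' * y)⁻¹ := by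
          rw [e5]; group
      _ = (y' * y) * (g ^ q * ((y' * y)⁻¹ * (y * y'))) * (y' * y)⁻¹ := by rw [hq, hz]
      _ = g * t := by rw [← hq, e5]; group
  -- on the support, `t` is a power of the cycle
  have hmaps : ∀ z, z ∈ D → t z ∈ D := by
    intro z hz
    rw [hD, Equiv.Perm.mem_support] at hz ⊢
    intro e
    apply hz
    have h1 : t (g z) = g (t z) := Equiv.congr_fun hcomm z
    exact t.injective (h1.trans e)
  obtain ⟨d, hd⟩ : D.Nonempty := Finset.card_pos.mp (by rw [hgp]; exact hp.pos)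
  obtain ⟨q, hq⟩ := hgc.sameCycle (Equiv.Perm.mem_support.mp hd) (Equiv.Perm.mem_support.mp (hmaps d hd))
  set w : Equiv.Perm α := t * (g ^ q)⁻¹ with hw
  have hwG : w ∈ G := mul_mem (mul_mem (mul_mem (mul_mem hyG hyG') (inv_mem hyG)) (inv_mem hyG'))
    (inv_mem (zpow_mem hg q))
  have hwD : ∀ z ∈ D, w z = z := by
    have hD' : ∀ z ∈ D, t z = (g ^ q) z := by
      intro z hz
      obtain ⟨r, rfl⟩ := hgc.sameCycle (Equiv.Perm.mem_support.mp hd) (Equiv.Perm.mem_support.mp hz)
      have hcr : t * g ^ r = g ^ r * t := (Commute.zpow_right (show Commute t g from hcomm) r).eq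
      calc t ((g ^ r) d) = (g ^ r) (t d) := Equiv.congr_fun hcr d
        _ = (g ^ r) ((g ^ q) d) := by rw [hq]
        _ = (g ^ q) ((g ^ r) d) := by
          rw [← Equiv.Perm.mul_apply, ← Equiv.Perm.mul_apply, ← zpow_add, ← zpow_add, add_comm]
    intro z hz
    have hz' : ((g ^ q)⁻¹) z ∈ D := by
      rw [← zpow_neg, hD]; exact Equiv.Perm.zpow_apply_mem_support.mpr hz
    rw [hw, Equiv.Perm.mul_apply, hD' _ hz']
    exact Equiv.apply_symm_apply _ _
  set τ : Equiv.Perm α := Equiv.swap a b * Equiv.swap b c * Equiv.swap a b * Equiv.swap b c with hτ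
  have hwC : ∀ z ∈ C, w z = τ z := by
    intro z hz
    have hfix : ((g ^ q)⁻¹) z = z := by
      rw [← zpow_neg]
      exact Equiv.Perm.zpow_apply_eq_self_of_apply_eq_self (Equiv.Perm.notMem_support.mp hz) _
    have hsC : ∀ u v, u ∈ C → v ∈ C → ∀ z ∈ C, Equiv.swap u v z ∈ C := by
      intro u v hu hv z hz
      rcases eq_or_ne z u with rfl | h1
      · rwa [Equiv.swap_apply_left]
      rcases eq_or_ne z v with rfl | h2
      · rwa [Equiv.swap_apply_right]
      rwa [Equiv.swap_apply_of_ne_of_ne h1 h2]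
    have hi1 : ∀ z ∈ C, y⁻¹ z = Equiv.swap a b z := fun z hz => by
      rw [Equiv.Perm.inv_eq_iff_eq, hy _ (hsC a b ha hb z hz), Equiv.swap_apply_self]
    have hi2 : ∀ z ∈ C, y'⁻¹ z = Equiv.swap b c z := fun z hz => by
      rw [Equiv.Perm.inv_eq_iff_eq, hy' _ (hsC b c hb hc z hz), Equiv.swap_apply_self]
    rw [hw, Equiv.Perm.mul_apply, hfix, ht, hτ]
    simp only [Equiv.Perm.mul_apply]
    have z1 := hsC b c hb hc z hz
    have z2 := hsC a b ha hb _ z1
    have z3 := hsC b c hb hc _ z2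
    rw [hi2 z hz, hi1 _ z1, hy' _ z2, hy _ z3]
  have hsupp : w.support = {a, b, c} := by
    ext z
    rw [Equiv.Perm.mem_support]
    by_cases hz : z ∈ D
    · have h0 : ∀ u ∈ C, z ≠ u := fun u hu e => hu (e ▸ hz)
      simp [hwD z hz, h0 a ha, h0 b hb, h0 c hc]
    · rw [hwC z (by simpa [hC] using hz), hτ]
      simp only [Equiv.Perm.mul_apply, Finset.mem_insert, Finset.mem_singleton]
      rcases eq_or_ne z a with rfl | h1
      · simp [Equiv.swap_apply_def, hab, hac, hbc, hab.symm, hac.symm, hbc.symm]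
      rcases eq_or_ne z b with rfl | h2
      · simp [Equiv.swap_apply_def, hab, hac, hbc, hab.symm, hac.symm, hbc.symm]
      rcases eq_or_ne z c with rfl | h3
      · simp [Equiv.swap_apply_def, hab, hac, hbc, hab.symm, hac.symm, hbc.symm]
      simp [Equiv.swap_apply_def, h1, h2, h3]
  exact Equiv.Perm.alternatingGroup_le_of_isPreprimitive_of_isThreeCycle_mem hG
    (card_support_eq_three_iff.mp (by rw [hsupp]; simp [hab, hac, hbc])) hwG

end Cfsg.Agent.S0713
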