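import Cfsg.Statements.S0046
import Cfsg.Agent.Lib.Solvable.NilpotentSubgroups

set_option autoImplicit false
open Cfsg

namespace Cfsg.Agent.S0046

/-- Schmidt's Theorem on minimal non-nilpotent groups: a finite group in which every maximal subgroup is nilpotent is solvable. -/
theorem result {G : Type*} [Group G] [Finite G]
    (h : ∀ M : Subgroup G, IsCoatom M → Group.IsNilpotent M) : Group.IsSolvable G := by
  rcases subsingleton_or_nontrivial G with hG | hG
  · infer_instance
  have hall : ∀ H : Subgroup G, H ≠ ⊤ → Group.IsNilpotent H := by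
    intro H hH
    obtain h1 | ⟨M, hM, hle⟩ := eq_top_or_exists_le_coatom H
    · exact absurd h1 hH
    · haveI := h M hM
      exact Subgroup.isNilpotent_of_ker_le_center (Subgroup.inclusion hle)
        (by rw [(Subgroup.inclusion hle).ker_eq_bot (Subgroup.inclusion_injective hle)]; exact bot_le)
  obtain ⟨K, hK, hidx⟩ := CfsgLib.NilpotentSubgroups.exists_normal_prime_index hall
  haveI := hK
  haveI : Group.IsNilpotent K := hall K (fun e => hidx.ne_one (by rw [e, Subgroup.index_top]))
  haveI := Fact.mk hidx
  haveI : IsCyclic (G ⧸ K) := isCyclic_of_prime_card (p := K.index) rfl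
  haveI : Group.IsSolvable (G ⧸ K) := by
    letI := IsCyclic.commGroup (α := G ⧸ K)
    infer_instance
  exact (Group.isSolvable_iff_subgroup_quotient K).2 ⟨inferInstance, inferInstance⟩

end Cfsg.Agent.S0046
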