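import Cfsg.Statements.S0213
import Cfsg.Agent.Lib.Involutions.Counting
-- import your own Cfsg.Agent.* helpers here

set_option autoImplicit false
open Cfsg

namespace Cfsg.Agent.S0213

/-- Thompson Order Formula, two-class case: if every involution of the finite group G is conjugate to exactly one of the non-conjugate involutions x₁, x₂, and nᵢ is the number of pairs (u, v) with u conjugate to x₁, v conjugate to x₂ and xᵢ in the cyclic group generated by uv, then |G| = |C(x₂)| n₁ + |C(x₁)| n₂. -/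
theorem result {G : Type*} [Group G] [Finite G] (x₁ x₂ : G) (h₁ : orderOf x₁ = 2) (h₂ : orderOf x₂ = 2) (hnc : ¬ IsConj x₁ x₂) (hall : ∀ t : G, orderOf t = 2 → IsConj x₁ t ∨ IsConj x₂ t) : Nat.card G = Nat.card (Subgroup.centralizer ({x₂} : Set G)) * Nat.card {p : G × G // IsConj x₁ p.1 ∧ IsConj x₂ p.2 ∧ x₁ ∈ Subgroup.zpowers (p.1 * p.2)} + Nat.card (Subgroup.centralizer ({x₁} : Set G)) * Nat.card {p : G × G // IsConj x₁ p.1 ∧ IsConj x₂ p.2 ∧ x₂ ∈ Subgroup.zpowers (p.1 * p.2)} := by
  classical
  cases nonempty_fintype G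
  let Q : G → G × G → Prop := fun z p => IsConj x₁ p.1 ∧ IsConj x₂ p.2 ∧ z ∈ Subgroup.zpowers (p.1 * p.2)
  let N : G → ℕ := fun z => Nat.card {p : G × G // Q z p}
  change Nat.card G = _ * N x₁ + _ * N x₂
  have hmapQ : ∀ (a z : G) (p : G × G), Q z p → Q (a * z * a⁻¹) (a * p.1 * a⁻¹, a * p.2 * a⁻¹) := by
    rintro a z p ⟨h1, h2, k, hk⟩
    change (p.1 * p.2) ^ k = z at hk
    refine ⟨h1.trans (isConj_iff.mpr ⟨a, rfl⟩), h2.trans (isConj_iff.mpr ⟨a, rfl⟩), k, ?_⟩
    change ((a * p.1 * a⁻¹) * (a * p.2 * a⁻¹)) ^ k = a * z * a⁻¹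
    rw [← hk, ← conj_zpow]
    congr 1
    group
  have hNconj : ∀ z z' : G, IsConj z z' → N z = N z' := by
    intro z z' h
    obtain ⟨a, rfl⟩ := isConj_iff.mp h
    refine Nat.card_congr ⟨fun p => ⟨_, hmapQ a z p.1 p.2⟩, fun p => ⟨(a⁻¹ * p.1.1 * a, a⁻¹ * p.1.2 * a), ?_⟩,
      fun p => by ext <;> simp [mul_assoc], fun p => by ext <;> simp [mul_assoc]⟩
    have := hmapQ a⁻¹ _ p.1 p.2
    simpa [mul_assoc] using this
  let K : G → Finset G := fun x => Finset.univ.filter fun g => IsConj x g
  let I : Finset G := Finset.univ.filter fun g => orderOf g = 2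
  have hI : I = K x₁ ∪ K x₂ := by
    ext g
    simp only [I, K, Finset.mem_filter, Finset.mem_univ, true_and, Finset.mem_union]
    exact ⟨hall g, fun h => h.elim
      (fun h => (CfsgLib.Involutions.orderOf_eq_of_isConj h).trans h₁)
      (fun h => (CfsgLib.Involutions.orderOf_eq_of_isConj h).trans h₂)⟩
  have hdisj : Disjoint (K x₁) (K x₂) := by
    rw [Finset.disjoint_left]
    intro g hg hg'
    simp only [K, Finset.mem_filter, Finset.mem_univ, true_and] at hg hg'
    exact hnc (hg.trans hg'.symm)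
  have hlag : ∀ x : G, (K x).card * Nat.card (Subgroup.centralizer ({x} : Set G)) = Nat.card G := by
    intro x
    rw [mul_comm, ← Subgroup.card_mul_index (Subgroup.centralizer ({x} : Set G))]
    congr 1
    rw [Subgroup.index,
      show (K x).card = Nat.card {g // IsConj x g} by
        rw [Nat.card_eq_fintype_card, Fintype.card_subtype]]
    symm
    refine Nat.card_congr (Equiv.ofBijective
      (Quotient.lift (fun g => (⟨g * x * g⁻¹, isConj_iff.mpr ⟨g, rfl⟩⟩ : {g // IsConj x g})) ?_) ⟨?_, ?_⟩)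
    · intro a b hab
      change (QuotientGroup.leftRel _) a b at hab
      rw [QuotientGroup.leftRel_apply, Subgroup.mem_centralizer_singleton_iff] at hab
      ext
      change a * x * a⁻¹ = b * x * b⁻¹
      calc a * x * a⁻¹ = a * (x * (a⁻¹ * b)) * b⁻¹ := by group
        _ = a * (a⁻¹ * b * x) * b⁻¹ := by rw [hab]
        _ = b * x * b⁻¹ := by group
    · intro a b h
      obtain ⟨a, rfl⟩ := QuotientGroup.mk_surjective a
      obtain ⟨b, rfl⟩ := QuotientGroup.mk_surjective b
      rw [QuotientGroup.eq, Subgroup.mem_centralizer_singleton_iff]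
      have h' : a * x * a⁻¹ = b * x * b⁻¹ := congrArg Subtype.val h
      calc a⁻¹ * b * x = a⁻¹ * (b * x * b⁻¹) * b := by group
        _ = x * (a⁻¹ * b) := by rw [← h']; group
    · rintro ⟨g, hg⟩
      obtain ⟨a, rfl⟩ := isConj_iff.mp hg
      exact ⟨(a : G ⧸ _), rfl⟩
  have hcount : (K x₁).card * (K x₂).card = ∑ z ∈ I, N z := by
    have e : ∑ z ∈ I, N z = ∑ z ∈ I, ((K x₁ ×ˢ K x₂).filter fun p => z ∈ Subgroup.zpowers (p.1 * p.2)).card := by
      refine Finset.sum_congr rfl fun z _ => ?_
      simp only [N, Q]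
      rw [Nat.card_eq_fintype_card, Fintype.card_subtype]
      congr 1
      ext p
      simp [K, and_assoc]
    rw [e, ← Finset.card_product, Finset.card_eq_sum_ones,
      Finset.sum_congr rfl (fun z _ => Finset.card_filter (fun p : G × G => z ∈ Subgroup.zpowers (p.1 * p.2)) _),
      Finset.sum_comm]
    refine Finset.sum_congr rfl fun p hp => ?_
    simp only [K, Finset.mem_product, Finset.mem_filter, Finset.mem_univ, true_and] at hp
    obtain ⟨hp1, hp2⟩ := hp
    have hu : orderOf p.1 = 2 := (CfsgLib.Involutions.orderOf_eq_of_isConj hp1).trans h₁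
    have hv : orderOf p.2 = 2 := (CfsgLib.Involutions.orderOf_eq_of_isConj hp2).trans h₂
    have heven : Even (orderOf (p.1 * p.2)) :=
      CfsgLib.Involutions.even_order_of_not_isConj hu hv fun h => hnc (hp1.trans (h.trans hp2.symm))
    have hz := CfsgLib.Involutions.orderOf_pow_half heven
    set z := (p.1 * p.2) ^ (orderOf (p.1 * p.2) / 2) with hzdef
    rw [Finset.sum_eq_single z]
    · rw [if_pos (Subgroup.npow_mem_zpowers _ _)]
    · intro w hw hne
      rw [if_neg]
      intro hmem
      apply hne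
      simp only [I, Finset.mem_filter] at hw
      obtain ⟨k, rfl⟩ := hmem
      have h2 : ((p.1 * p.2) ^ k) * ((p.1 * p.2) ^ k) = 1 := CfsgLib.Involutions.mul_self_eq_one hw.2
      rw [← zpow_add, ← orderOf_dvd_iff_zpow_eq_one] at h2
      obtain ⟨m, hm⟩ := heven
      obtain ⟨j, hj⟩ := h2
      rw [hm] at hj
      push_cast at hj
      have hk : k = (m : ℤ) * j := by linarith
      have hm2 : orderOf (p.1 * p.2) / 2 = m := by omega
      change (p.1 * p.2) ^ k = z
      rw [hzdef, hm2, hk, zpow_mul, zpow_natCast]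
      rcases Int.even_or_odd' j with ⟨i, rfl | rfl⟩
      · exfalso
        apply CfsgLib.Involutions.ne_one_of_involution hw.2
        change (p.1 * p.2) ^ k = 1
        rw [hk, zpow_mul, zpow_natCast, zpow_mul, zpow_two, ← pow_add, ← hm, pow_orderOf_eq_one, one_zpow]
      · rw [zpow_add, zpow_mul, zpow_two, ← pow_add, ← hm, pow_orderOf_eq_one, one_zpow, one_mul, zpow_one]
    · intro h
      exact absurd (show z ∈ I from Finset.mem_filter.mpr ⟨Finset.mem_univ z, hz⟩) h
  have hsum : ∀ x, ∑ z ∈ K x, N z = (K x).card * N x := fun x => by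
    rw [Finset.sum_congr rfl (fun z hz => (hNconj x z (Finset.mem_filter.mp hz).2).symm),
      Finset.sum_const, smul_eq_mul]
  rw [hI, Finset.sum_union hdisj, hsum, hsum] at hcount
  have l1 := hlag x₁
  have l2 := hlag x₂
  refine Nat.eq_of_mul_eq_mul_left (Nat.card_pos (α := G)) ?_
  calc Nat.card G * Nat.card G
      = (K x₁).card * (K x₂).card * (Nat.card (Subgroup.centralizer ({x₁} : Set G)) *
          Nat.card (Subgroup.centralizer ({x₂} : Set G))) := by
        nth_rewrite 1 [← l1]; rw [← l2]; ring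
    _ = Nat.card G * (Nat.card (Subgroup.centralizer ({x₂} : Set G)) * N x₁ +
          Nat.card (Subgroup.centralizer ({x₁} : Set G)) * N x₂) := by
        rw [hcount, add_mul, mul_add (Nat.card G)]
        congr 1
        · conv_rhs => rw [← l1]
          ring
        · conv_rhs => rw [← l2]
          ring

end Cfsg.Agent.S0213
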