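import Cfsg.Statements.S3277
import Cfsg.Agent.Lib.InvChar.ConjClosure
import Cfsg.Agent.Lib.InvChar.InvolutionCount

set_option autoImplicit false
open Cfsg CfsgLib.Involutions CfsgLib.InvChar

namespace Cfsg.Agent.S3277

variable {G : Type*} [Group G]

/-- The setting in which every involution has an elementary abelian centralizer of order 4. -/
def AllFour (G : Type*) [Group G] : Prop :=
  ∀ t : G, orderOf t = 2 → Nat.card ↥(Subgroup.centralizer ({t} : Set G)) = 4 ∧
    ∀ c : G, Commute c t → c ^ 2 = 1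

theorem arith (m a b i j : ℕ) (hm : m = 3 + 2 * ((a - 1) + (b - 1)))
    (ha : 3 ≤ a) (hb : 3 ≤ b) (hi : i * a = 2 * m) (hj : j * b = 2 * m) (hao : Odd a) (hbo : Odd b)
    (hlt : i * (a - 1) + j * (b - 1) + 1 + m ≤ 4 * m) : m = 15 := by
  obtain ⟨a', rfl⟩ : ∃ a', a = a' + 1 := ⟨a - 1, by omega⟩
  obtain ⟨b', rfl⟩ : ∃ b', b = b' + 1 := ⟨b - 1, by omega⟩
  simp only [Nat.add_sub_cancel] at *
  have hij : m + 1 ≤ i + j := by nlinarith
  have h2 : (a' - 1) * (b' - 1) < 4 := by
    by_contra hcon
    push Not at hcon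
    obtain ⟨a'', rfl⟩ : ∃ a'', a' = a'' + 1 := ⟨a' - 1, by omega⟩
    obtain ⟨b'', rfl⟩ : ∃ b'', b' = b'' + 1 := ⟨b' - 1, by omega⟩
    simp only [Nat.add_sub_cancel] at hcon
    nlinarith
  have ha1 : a' - 1 < 4 := lt_of_le_of_lt (Nat.le_mul_of_pos_right _ (by omega)) h2
  have hb1 : b' - 1 < 4 := lt_of_le_of_lt (Nat.le_mul_of_pos_left _ (by omega)) h2
  obtain ⟨k, hk⟩ := hao
  obtain ⟨l, hl⟩ := hbo
  have ha4 : a' ≤ 4 := by omega
  have hb4 : b' ≤ 4 := by omega
  interval_cases a' <;> interval_cases b' <;> omega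

theorem card_eq [Fintype G] (hall : AllFour G) {x : G} (hx : orderOf x = 2)
    (hconj : ∀ t : G, orderOf t = 2 → IsConj x t) :
    Nat.card G = 12 ∨ Nat.card G = 60 := by
  classical
  set m := (invs G).card with hm
  have hg : Nat.card G = 4 * m := by
    have hset : (invs G : Set G) = {y | IsConj x y} := by
      ext y
      simp only [Finset.mem_coe, mem_invs, Set.mem_setOf_eq]
      exact ⟨hconj y, fun h => (orderOf_eq_of_isConj h).trans hx⟩
    have h1 := ncard_conjugates x
    rw [← hset, Set.ncard_coe_finset] at h1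
    have h2 := Subgroup.card_mul_index (Subgroup.centralizer ({x} : Set G))
    rw [(hall x hx).1, ← h1] at h2
    exact h2.symm
  have hmpos : 0 < m := Finset.card_pos.2 ⟨x, mem_invs.2 hx⟩
  set R : Finset G := Finset.univ.filter (fun u => u ≠ 1 ∧ orderOf u ≠ 2 ∧ (invPairs u).Nonempty) with hR
  have hnocent : ∀ u ∈ R, ∀ z : G, orderOf z = 2 → ¬ Commute z u := by
    intro u hu z hz hc
    obtain ⟨h1, h2, -⟩ := (Finset.mem_filter.1 hu).2
    exact h2 (orderOf_eq_prime ((hall z hz).2 u hc.symm) h1)
  have hfix : ∀ u ∈ R, ∀ s : G, orderOf s = 2 → ∀ c ∈ Subgroup.centralizer ({u} : Set G),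
      Commute c s → c = 1 := by
    intro u hu s hs c hc hcs
    by_contra h
    exact hnocent u hu c (orderOf_eq_prime ((hall s hs).2 c hcs) h)
      (Subgroup.mem_centralizer_singleton_iff.1 hc)
  have hRr : ∀ u ∈ R, (invPairs u).card = Nat.card ↥(Subgroup.centralizer ({u} : Set G)) := by
    intro u hu
    obtain ⟨t, ht⟩ := (Finset.mem_filter.1 hu).2.2.2
    exact card_invPairs_eq ht (hfix u hu t (mem_invPairs.1 ht).1)
  have hinvr : ∀ u : G, orderOf u = 2 → (invPairs u).card = 2 := by
    intro u hu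
    have hcard : ((Subgroup.centralizer ({u} : Set G) : Set G).toFinset).card = 4 := by
      rw [Set.toFinset_card, ← Nat.card_eq_fintype_card]
      exact (hall u hu).1
    have hset : invPairs u = ((Subgroup.centralizer ({u} : Set G) : Set G).toFinset).filter
        (fun t => t ∉ ({1, u} : Finset G)) := by
      ext t
      simp only [mem_invPairs_of_involution hu, Finset.mem_filter, Set.mem_toFinset, SetLike.mem_coe,
        Finset.mem_insert, Finset.mem_singleton, not_or, Subgroup.mem_centralizer_singleton_iff]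
      constructor
      · rintro ⟨h1, h2, h3⟩
        exact ⟨h2.eq, ne_one_of_involution h1, h3⟩
      · rintro ⟨h1, h2, h3⟩
        exact ⟨orderOf_eq_prime ((hall u hu).2 t h1) h2, h1, h3⟩
    have hsub : ({1, u} : Finset G) ⊆ (Subgroup.centralizer ({u} : Set G) : Set G).toFinset := by
      intro t ht
      simp only [Finset.mem_insert, Finset.mem_singleton] at ht
      rcases ht with rfl | rfl <;> simp [Set.mem_toFinset, Subgroup.mem_centralizer_singleton_iff]
    rw [hset, ← Finset.sdiff_eq_filter, Finset.card_sdiff_of_subset hsub, hcard,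
      Finset.card_pair (ne_one_of_involution hu).symm]
  have hsplit : ∀ u : G, (invPairs u).card = (if u = 1 then m else 0) + (if orderOf u = 2 then 2 else 0) +
      (if u ∈ R then Nat.card ↥(Subgroup.centralizer ({u} : Set G)) else 0) := by
    intro u
    by_cases h1 : u = 1
    · subst h1
      simp [invPairs_one, hR, hm]
    by_cases h2 : orderOf u = 2
    · simp [h1, h2, hinvr u h2, hR]
    by_cases h3 : u ∈ R
    · simp [h1, h2, h3, hRr u h3]
    · have : ¬ (invPairs u).Nonempty := fun h => h3 (Finset.mem_filter.2 ⟨Finset.mem_univ _, h1, h2, h⟩)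
      simp [h1, h2, h3, Finset.not_nonempty_iff_eq_empty.1 this]
  have heq : m * m = 3 * m + ∑ u ∈ R, Nat.card ↥(Subgroup.centralizer ({u} : Set G)) := by
    rw [hm, ← sum_card_invPairs, Finset.sum_congr rfl fun u _ => hsplit u, Finset.sum_add_distrib,
      Finset.sum_add_distrib, Finset.sum_ite_eq' Finset.univ (1 : G) fun _ => m, ← Finset.sum_filter,
      ← Finset.sum_filter]
    simp only [Finset.mem_univ, if_true, Finset.sum_const, smul_eq_mul]
    rw [show (Finset.univ.filter fun a : G => orderOf a = 2).card = m from rfl,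
      show Finset.univ.filter (fun a => a ∈ R) = R from Finset.filter_univ_mem R]
    omega
  have hRconj : ∀ g u : G, u ∈ R → g * u * g⁻¹ ∈ R := by
    intro g u hu
    obtain ⟨h1, h2, t, ht⟩ := (Finset.mem_filter.1 hu).2
    refine Finset.mem_filter.2 ⟨Finset.mem_univ _, fun h => h1 (conj_eq_one_iff.1 h),
      by rwa [orderOf_conj_eq], g * t * g⁻¹, ?_⟩
    obtain ⟨a, b⟩ := mem_invPairs.1 ht
    refine mem_invPairs.2 ⟨by rwa [orderOf_conj_eq], ?_⟩
    rwa [conj_mul, orderOf_conj_eq]
  have h1R : (1 : G) ∉ R := fun h => (Finset.mem_filter.1 h).2.1 rfl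
  have hcl : ∀ u ∈ R, ∀ v ∈ Subgroup.centralizer ({u} : Set G), v ≠ 1 →
      v ∈ R ∧ Subgroup.centralizer ({v} : Set G) = Subgroup.centralizer ({u} : Set G) := by
    intro u hu v hv hv1
    obtain ⟨t, ht⟩ := (Finset.mem_filter.1 hu).2.2.2
    obtain ⟨hinv, hab, hodd⟩ := inverts_centralizer ht (hfix u hu t (mem_invPairs.1 ht).1)
    have hvR : v ∈ R := by
      refine Finset.mem_filter.2 ⟨Finset.mem_univ _, hv1, fun h2 => ?_, t, ?_⟩
      · exact hnocent u hu v h2 (Subgroup.mem_centralizer_singleton_iff.1 hv)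
      · refine mem_invPairs_iff_inverts.2 ⟨(mem_invPairs.1 ht).1, fun h => ?_, hinv v hv⟩
        have htv : v = t := (inv_eq_of_mul_eq_one_right h).symm.trans
          (inv_eq_self_of_involution (mem_invPairs.1 ht).1)
        rw [htv] at hv
        exact hnocent u hu t (mem_invPairs.1 ht).1 (Subgroup.mem_centralizer_singleton_iff.1 hv)
    refine ⟨hvR, ?_⟩
    obtain ⟨t', ht'⟩ := (Finset.mem_filter.1 hvR).2.2.2
    have habv := (inverts_centralizer ht' (hfix v hvR t' (mem_invPairs.1 ht').1)).2.1
    have huv : u ∈ Subgroup.centralizer ({v} : Set G) := Subgroup.mem_centralizer_singleton_iff.2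
      (Subgroup.mem_centralizer_singleton_iff.1 hv).symm
    refine le_antisymm (fun w hw => ?_) fun w hw => ?_
    · exact Subgroup.mem_centralizer_singleton_iff.2
        (congrArg Subtype.val (habv.is_comm.comm ⟨w, hw⟩ ⟨u, huv⟩))
    · exact Subgroup.mem_centralizer_singleton_iff.2
        (congrArg Subtype.val (hab.is_comm.comm ⟨w, hw⟩ ⟨v, hv⟩))
  obtain ⟨reps, hrep, -, hsum⟩ := exists_reps_sum R hRconj h1R hcl
  have hA : ∀ A ∈ reps, (Subgroup.normalizer (A : Set G)).index * Nat.card ↥A = 2 * m ∧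
      3 ≤ Nat.card ↥A ∧ Odd (Nat.card ↥A) := by
    intro A hA
    obtain ⟨u, hu, rfl⟩ := hrep A hA
    set A := Subgroup.centralizer ({u} : Set G) with hAdef
    obtain ⟨hu1, -, t, ht⟩ := (Finset.mem_filter.1 hu).2
    have ht2 := (mem_invPairs.1 ht).1
    obtain ⟨hinv, hab, hodd⟩ : (∀ c ∈ A, t * c * t⁻¹ = c⁻¹) ∧ IsMulCommutative ↥A ∧ Odd (Nat.card ↥A) :=
      inverts_centralizer ht (hfix u hu t ht2)
    have htA : t ∉ A := fun h => hnocent u hu t ht2 (Subgroup.mem_centralizer_singleton_iff.1 h)
    have huA : u ∈ A := Subgroup.mem_centralizer_singleton_iff.2 rfl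
    have h3 : 3 ≤ Nat.card ↥A := by
      have : 1 < Nat.card ↥A := (Subgroup.one_lt_card_iff_ne_bot A).2 fun h => by
        rw [h, Subgroup.mem_bot] at huA; exact hu1 huA
      obtain ⟨k, hk⟩ := hodd
      omega
    have htN : t ∈ Subgroup.normalizer (A : Set G) :=
      Subgroup.mem_normalizer_fintype fun c hc => by rw [hinv c hc]; exact inv_mem hc
    have hN : ((Subgroup.normalizer (A : Set G) : Set G).toFinset) =
        (A : Set G).toFinset ∪ (A : Set G).toFinset.image (fun c => t * c) := by
      ext n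
      simp only [Finset.mem_union, Set.mem_toFinset, SetLike.mem_coe, Finset.mem_image]
      constructor
      · intro hn
        -- move `n` into the centralizer of `t`
        have hc : t⁻¹ * (n * t * n⁻¹) ∈ A := by
          have hnu : n⁻¹ * u * n ∈ A :=
            (Subgroup.mem_normalizer_iff''.1 hn u).1 huA
          have h4 : (n * t * n⁻¹) * u * (n * t * n⁻¹)⁻¹ = u⁻¹ := by
            calc (n * t * n⁻¹) * u * (n * t * n⁻¹)⁻¹ = n * (t * (n⁻¹ * u * n) * t⁻¹) * n⁻¹ := by group
              _ = n * (n⁻¹ * u * n)⁻¹ * n⁻¹ := by rw [hinv _ hnu]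
              _ = u⁻¹ := by group
          rw [hAdef, Subgroup.mem_centralizer_singleton_iff]
          refine mul_inv_eq_iff_eq_mul.1 ?_
          calc t⁻¹ * (n * t * n⁻¹) * u * (t⁻¹ * (n * t * n⁻¹))⁻¹
              = t⁻¹ * ((n * t * n⁻¹) * u * (n * t * n⁻¹)⁻¹) * t := by group
            _ = t⁻¹ * (t * u * t⁻¹) * t := by rw [h4, hinv u huA]
            _ = u := by group
        obtain ⟨k, hk⟩ := hodd
        set c := t⁻¹ * (n * t * n⁻¹) with hcdef
        set d := (c ^ (k + 1))⁻¹ with hd
        have hdA : d ∈ A := inv_mem (pow_mem hc _)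
        have hdd : (d * d)⁻¹ = c := by
          have h5 : c ^ Nat.card ↥A = 1 :=
            congrArg Subtype.val (pow_card_eq_one' (G := ↥A) (x := ⟨c, hc⟩))
          rw [hk] at h5
          rw [hd, mul_inv_rev, inv_inv, ← pow_add, show k + 1 + (k + 1) = (2 * k + 1) + 1 by omega,
            pow_succ, h5, one_mul]
        have hdt : d * t * d⁻¹ = n * t * n⁻¹ := by
          have h6 : t * d * t⁻¹ = d⁻¹ := hinv d hdA
          have h7 : t⁻¹ * d * t = d⁻¹ := by
            have := inv_eq_self_of_involution ht2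
            rw [this] at h6 ⊢; exact h6
          calc d * t * d⁻¹ = t * (t⁻¹ * d * t) * d⁻¹ := by group
            _ = t * (d * d)⁻¹ := by rw [h7, mul_inv_rev]; group
            _ = n * t * n⁻¹ := by rw [hdd, hcdef]; group
        set s := d⁻¹ * n with hs
        have hst : Commute s t := by
          change s * t = t * s
          calc s * t = d⁻¹ * (n * t * n⁻¹) * n := by rw [hs]; group
            _ = d⁻¹ * (d * t * d⁻¹) * n := by rw [hdt]
            _ = t * s := by rw [hs]; group
        have hsN : s ∈ Subgroup.normalizer (A : Set G) := mul_mem (inv_mem (Subgroup.le_normalizer hdA)) hn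
        have hn' : n = d * s := by rw [hs, mul_inv_cancel_left]
        by_cases hs1 : s = 1
        · left; rw [hn', hs1, mul_one]; exact hdA
        have hs2 : orderOf s = 2 := orderOf_eq_prime ((hall t ht2).2 s hst) hs1
        have hsinv := inverts_of_fixedPointFree hs2
          (fun c hc => (Subgroup.mem_normalizer_iff.1 hsN c).1 hc) (hfix u hu s hs2)
        have hstA : t⁻¹ * s ∈ A := by
          rw [hAdef, Subgroup.mem_centralizer_singleton_iff]
          refine mul_inv_eq_iff_eq_mul.1 ?_
          calc t⁻¹ * s * u * (t⁻¹ * s)⁻¹ = t⁻¹ * (s * u * s⁻¹) * t := by group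
            _ = t⁻¹ * (t * u * t⁻¹) * t := by rw [hsinv u huA, hinv u huA]
            _ = u := by group
        have h8 : t⁻¹ * s = 1 := hfix u hu t ht2 _ hstA
          ((Commute.refl t).inv_left.mul_left hst)
        right
        have hts : s = t := (inv_mul_eq_one.1 h8).symm
        refine ⟨d⁻¹, inv_mem hdA, ?_⟩
        rw [hn', hts, ← hinv d hdA, inv_eq_self_of_involution ht2]
        rw [← mul_assoc, ← mul_assoc, mul_self_eq_one ht2, one_mul]
      · rintro (h | ⟨c, hc, rfl⟩)
        · exact Subgroup.le_normalizer h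
        · exact mul_mem htN (Subgroup.le_normalizer hc)
    have hdisj : Disjoint (A : Set G).toFinset ((A : Set G).toFinset.image (fun c => t * c)) := by
      rw [Finset.disjoint_left]
      intro n hn hn'
      obtain ⟨c, hc, rfl⟩ := Finset.mem_image.1 hn'
      simp only [Set.mem_toFinset, SetLike.mem_coe] at hn hc
      exact htA ((Subgroup.mul_mem_cancel_right A hc).1 hn)
    have hNcard : Nat.card ↥(Subgroup.normalizer (A : Set G)) = 2 * Nat.card ↥A := by
      have := congrArg Finset.card hN
      rw [Finset.card_union_of_disjoint hdisj, Finset.card_image_of_injective _ fun a b h => mul_left_cancel h,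
        Set.toFinset_card, Set.toFinset_card, ← Nat.card_eq_fintype_card, ← Nat.card_eq_fintype_card] at this
      rw [two_mul]; exact this
    have h9 := Subgroup.card_mul_index (Subgroup.normalizer (A : Set G))
    rw [hNcard, hg] at h9
    exact ⟨by linarith, h3, hodd⟩
  have hS : ∑ A ∈ reps, (Subgroup.normalizer (A : Set G)).index * ((Nat.card ↥A - 1) * Nat.card ↥A) =
      2 * m * ∑ A ∈ reps, (Nat.card ↥A - 1) := by
    rw [Finset.mul_sum]
    refine Finset.sum_congr rfl fun A hA' => ?_
    rw [mul_comm (Nat.card ↥A - 1), ← mul_assoc, (hA A hA').1]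
  have hm' : m = 3 + 2 * ∑ A ∈ reps, (Nat.card ↥A - 1) := by
    have h10 := hsum id
    simp only [id] at h10
    rw [h10, hS] at heq
    refine Nat.eq_of_mul_eq_mul_left hmpos ?_
    rw [heq]; ring
  have hcount : ∑ A ∈ reps, (Subgroup.normalizer (A : Set G)).index * (Nat.card ↥A - 1) + 1 + m ≤ 4 * m := by
    have h11 := hsum fun _ => 1
    simp only [Finset.sum_const, smul_eq_mul, mul_one] at h11
    rw [← h11, ← hg, Nat.card_eq_fintype_card, hm]
    have hd : Disjoint R (invs G) :=
      Finset.disjoint_left.2 fun u hu hu' => (Finset.mem_filter.1 hu).2.2.1 (mem_invs.1 hu')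
    have h12 : (1 : G) ∉ R ∪ invs G := by
      rw [Finset.mem_union, mem_invs, orderOf_one]
      rintro (h | h)
      · exact h1R h
      · omega
    have h13 := Finset.card_le_univ (insert (1 : G) (R ∪ invs G))
    rw [Finset.card_insert_of_notMem h12, Finset.card_union_of_disjoint hd] at h13
    omega
  have hbig : ∀ A ∈ reps, 4 * m ≤ 3 * ((Subgroup.normalizer (A : Set G)).index * (Nat.card ↥A - 1)) := by
    intro A hA'
    obtain ⟨h1, h2, -⟩ := hA A hA'
    rw [Nat.mul_sub_one]
    have : 3 * (Subgroup.normalizer (A : Set G)).index ≤ 2 * m := by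
      rw [← h1, mul_comm 3]; exact Nat.mul_le_mul_left _ h2
    omega
  have hlen : reps.card ≤ 2 := by
    by_contra h
    have h14 := Finset.sum_le_sum hbig
    simp only [Finset.sum_const, smul_eq_mul, ← Finset.mul_sum] at h14
    have h15 : 3 * (4 * m) ≤ reps.card * (4 * m) := Nat.mul_le_mul_right _ (by omega)
    omega
  rw [hg]
  obtain h | h | h : reps.card = 0 ∨ reps.card = 1 ∨ reps.card = 2 := by omega
  · left
    rw [Finset.card_eq_zero] at h
    rw [h, Finset.sum_empty] at hm'
    omega
  · obtain ⟨A, rfl⟩ := Finset.card_eq_one.1 h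
    rw [Finset.sum_singleton] at hm'
    obtain ⟨h1, h2, h3⟩ := hA A (Finset.mem_singleton_self A)
    exfalso
    obtain ⟨a, hadef⟩ : ∃ a, Nat.card ↥A = a := ⟨_, rfl⟩
    rw [hadef] at h1 h2 h3 hm'
    have hdvd : a ∣ 2 * m := Dvd.intro_left _ h1
    have hdm : a ∣ m := (Nat.coprime_two_right.2 h3).dvd_of_dvd_mul_left hdvd
    have : a ∣ 1 := by
      have h2a : a ∣ 2 * a := dvd_mul_left a 2
      have h16 : 2 * a - 1 + 2 = m := by omega
      have h17 : m = 2 * a + 1 := by omega
      rw [h17] at hdm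
      exact (Nat.dvd_add_right h2a).1 hdm
    have := Nat.le_of_dvd one_pos this
    omega
  · obtain ⟨A, B, hne, rfl⟩ := Finset.card_eq_two.1 h
    rw [Finset.sum_pair hne] at hm' hcount
    obtain ⟨h1, h2, h3⟩ := hA A (by simp)
    obtain ⟨k1, k2, k3⟩ := hA B (by simp)
    right
    rw [arith m _ _ _ _ hm' h2 k2 h1 k1 h3 k3 hcount]

theorem result {G : Type*} [Group G] [Finite G] (x : G) (hx : orderOf x = 2)
    (hC4 : Nat.card ↥(Subgroup.centralizer ({x} : Set G)) = 4) (hCe : ∀ c ∈ Subgroup.centralizer ({x} : Set G), c ^ 2 = 1)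
    (hnc : ¬ Cfsg.HasNormalPComplement 2 G)
    (hne : ∀ E : Subgroup G, E.Normal → Cfsg.IsElementaryAbelian 2 E → Nat.card ↥E ≠ 2 ∧ Nat.card ↥E ≠ 4) :
    Nonempty (G ≃* ↥(alternatingGroup (Fin 5))) := by
  classical
  have := Fintype.ofFinite G
  have : Fact (Nat.Prime 2) := ⟨Nat.prime_two⟩
  set V := Subgroup.centralizer ({x} : Set G) with hV
  have hV2 : IsPGroup 2 ↥V := IsPGroup.of_card (n := 2) (by rw [hC4]; norm_num)
  have hxV : x ∈ V := Subgroup.mem_centralizer_singleton_iff.2 rfl
  have hVab : ∀ a ∈ V, ∀ b ∈ V, Commute a b := by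
    intro a ha b hb
    have h := hCe _ (mul_mem ha hb)
    have ha' : a⁻¹ = a := inv_eq_of_mul_eq_one_right (by rw [← pow_two]; exact hCe a ha)
    have hb' : b⁻¹ = b := inv_eq_of_mul_eq_one_right (by rw [← pow_two]; exact hCe b hb)
    calc a * b = (a * b)⁻¹ := (inv_eq_of_mul_eq_one_right (by rw [← pow_two]; exact h)).symm
      _ = b * a := by rw [mul_inv_rev, ha', hb']
  have hVelts : ∀ a ∈ V, a ≠ 1 → a ≠ x → ∀ v ∈ V, v = 1 ∨ v = x ∨ v = a ∨ v = x * a := by
    intro a ha ha1 hax v hv
    have hsub : ({1, x, a, x * a} : Finset G) ⊆ (V : Set G).toFinset := by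
      intro w hw
      simp only [Finset.mem_insert, Finset.mem_singleton] at hw
      rw [Set.mem_toFinset, SetLike.mem_coe]
      rcases hw with rfl | rfl | rfl | rfl
      · exact one_mem V
      · exact hxV
      · exact ha
      · exact mul_mem hxV ha
    have hxa1 : x * a ≠ 1 := fun h =>
      hax ((inv_eq_of_mul_eq_one_right h).symm.trans (inv_eq_self_of_involution hx))
    have hcard : ({1, x, a, x * a} : Finset G).card = 4 := by
      rw [Finset.card_eq_four]
      exact ⟨1, x, a, x * a, (ne_one_of_involution hx).symm, ha1.symm, hxa1.symm, hax.symm,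
        fun h => ha1 (mul_eq_left.1 h.symm),
        fun h => ne_one_of_involution hx (mul_eq_right.1 h.symm), rfl⟩
    have heq := Finset.eq_of_subset_of_card_le hsub (by
      rw [hcard, Set.toFinset_card, ← Nat.card_eq_fintype_card]; exact hC4.le)
    have : v ∈ ({1, x, a, x * a} : Finset G) := by rw [heq, Set.mem_toFinset]; exact hv
    simpa [Finset.mem_insert, Finset.mem_singleton] using this
  obtain ⟨S, hVS⟩ := hV2.exists_le_sylow
  by_cases hSV : (S : Subgroup G) = V
  swap
  · -- `V` is not a Sylow subgroup: two classes, and a small normal subgroup appears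
    exfalso
    have hlt : V < (S : Subgroup G) := lt_of_le_of_ne hVS (Ne.symm hSV)
    have hcS : 4 < Nat.card ↥(S : Subgroup G) := by
      rcases (Subgroup.card_le_of_le hVS).lt_or_eq with h | h
      · rwa [hC4] at h
      · exact absurd (Subgroup.eq_of_le_of_card_ge hVS h.ge) (Ne.symm hSV)
    have hSnt : Nontrivial ↥(S : Subgroup G) :=
      Finite.one_lt_card_iff_nontrivial.1 (by omega)
    obtain ⟨z0, hz0⟩ := exists_prime_orderOf_dvd_card' (G := ↥(Subgroup.center ↥(S : Subgroup G))) 2
      (by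
        obtain ⟨n, hn⟩ := (S.isPGroup'.to_subgroup (Subgroup.center _)).exists_card_eq
        rcases n with _ | n
        · have h1 := Finite.one_lt_card_iff_nontrivial.2 S.isPGroup'.center_nontrivial
          rw [hn, pow_zero] at h1
          omega
        · rw [hn]; exact dvd_pow_self 2 (by omega))
    set z : G := ((z0 : ↥(S : Subgroup G)) : G) with hzdef
    have hzc : ∀ s ∈ (S : Subgroup G), Commute s z := fun s hs =>
      congrArg Subtype.val (Subgroup.mem_center_iff.1 z0.2 ⟨s, hs⟩)
    have hzord : orderOf z = 2 := by rw [hzdef, Subgroup.orderOf_coe, Subgroup.orderOf_coe, hz0]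
    have hzV : z ∈ V := Subgroup.mem_centralizer_singleton_iff.2 (hzc x (hVS hxV)).symm.eq
    have hzx : z ≠ x := by
      rintro rfl
      exact hSV (le_antisymm (fun s hs => Subgroup.mem_centralizer_singleton_iff.2 (hzc s hs).eq) hVS)
    have hz1 : z ≠ 1 := ne_one_of_involution hzord
    have hncxz : ¬ IsConj x z := by
      intro h
      obtain ⟨g, hg⟩ := isConj_iff.1 h
      have hle : (S : Subgroup G) ≤ V.map (MulAut.conj g).toMonoidHom := by
        intro s hs
        refine ⟨g⁻¹ * s * g, Subgroup.mem_centralizer_singleton_iff.2 ?_, by simp [mul_assoc]⟩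
        calc g⁻¹ * s * g * x = g⁻¹ * (s * (g * x * g⁻¹)) * g := by group
          _ = g⁻¹ * ((g * x * g⁻¹) * s) * g := by rw [hg, (hzc s hs).eq]
          _ = x * (g⁻¹ * s * g) := by group
      have := Subgroup.card_le_of_le hle
      rw [Subgroup.card_map_of_injective (MulAut.conj g).injective, hC4] at this
      omega
    have hnil : Group.IsNilpotent ↥(S : Subgroup G) := S.isPGroup'.isNilpotent
    set D := V.subgroupOf (S : Subgroup G)
    have hD : D < ⊤ := lt_top_iff_ne_top.2 fun h => hlt.not_ge (Subgroup.subgroupOf_eq_top.1 h)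
    obtain ⟨s, hsN, hsD⟩ := SetLike.exists_of_lt (Group.normalizerCondition_of_isNilpotent D hD)
    have hsx : (s : G) * x * (s : G)⁻¹ ∈ V :=
      (Subgroup.mem_normalizer_iff.1 hsN ⟨x, hVS hxV⟩).1 hxV
    have hxz : (s : G) * x * (s : G)⁻¹ = x * z := by
      rcases hVelts z hzV hz1 hzx _ hsx with h | h | h | h
      · exact absurd (conj_eq_one_iff.1 h) (ne_one_of_involution hx)
      · exact absurd (Subgroup.mem_centralizer_singleton_iff.2 (mul_inv_eq_iff_eq_mul.1 h)) hsD
      · exact absurd (isConj_iff.2 ⟨(s : G), h⟩ : IsConj x z) hncxz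
      · exact h
    have hstar : ∀ u : G, orderOf u = 2 → Commute u x → ∀ g : G, Commute (g * z * g⁻¹) u →
        Commute (g * z * g⁻¹) z := by
      intro u hu hux g hgu
      rcases hVelts z hzV hz1 hzx u (Subgroup.mem_centralizer_singleton_iff.2 hux) with rfl | rfl | rfl | rfl
      · simp at hu
      · exact hVab _ (Subgroup.mem_centralizer_singleton_iff.2 hgu) z hzV
      · exact hgu
      · -- conjugate back to the centralizer of `x`
        have key : ∀ w, Commute w (x * z) → (s : G)⁻¹ * w * s ∈ V := by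
          intro w hw
          rw [← hxz] at hw
          refine Subgroup.mem_centralizer_singleton_iff.2 ?_
          have := Commute.map hw (MulAut.conj (s : G)⁻¹).toMonoidHom
          simpa [MulAut.conj_apply, mul_assoc] using this.eq
        have h4 := Commute.map (hVab _ (key _ hgu) _
          (key z (((hzc x (hVS hxV)).symm).mul_right (Commute.refl z)))) (MulAut.conj (s : G)).toMonoidHom
        simpa [MulAut.conj_apply, mul_assoc] using h4
    have hc := conjugates_commute hx hzord hncxz hstar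
    have hel := elementaryAbelian_normalClosure hzord hc
    set E := Subgroup.normalClosure ({z} : Set G)
    have hEc : Nat.card ↥E ≤ 4 := by
      by_cases hxE : x ∈ E
      · refine le_trans (Subgroup.card_le_of_le ?_) hC4.le
        intro e he
        exact Subgroup.mem_centralizer_singleton_iff.2
          (congrArg Subtype.val (hel.1.is_comm.comm ⟨e, he⟩ ⟨x, hxE⟩))
      · refine (card_le_sq_of_fixed E hel hx (k := 2) ?_).trans (by norm_num)
        have hle : E ⊓ V ≤ V := inf_le_right
        have hdvd := Subgroup.card_dvd_of_le hle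
        rw [hC4] at hdvd
        have hne4 : Nat.card ↥(E ⊓ V) ≠ 4 := fun h => hxE
          ((Subgroup.eq_of_le_of_card_ge hle (by omega)).ge hxV).1
        have := Nat.le_of_dvd (by norm_num) hdvd
        have h3 : Nat.card ↥(E ⊓ V) ≠ 3 := fun h => by rw [h] at hdvd; norm_num at hdvd
        change Nat.card ↥(E ⊓ V) ≤ 2
        omega
    have hE2 : IsPGroup 2 ↥E := fun e => ⟨1, Subtype.ext (by simpa using hel.2 e e.2)⟩
    obtain ⟨n, hn⟩ := hE2.exists_card_eq
    have h1 : 1 < Nat.card ↥E := (Subgroup.one_lt_card_iff_ne_bot E).2 fun h =>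
      hz1 (Subgroup.mem_bot.1 (h ▸ Subgroup.subset_normalClosure (Set.mem_singleton z)))
    obtain ⟨h2, h4⟩ := hne E Subgroup.normalClosure_normal hel
    rcases n with _ | _ | _ | n
    · omega
    · exact h2 (by rw [hn]; norm_num)
    · exact h4 (by rw [hn]; norm_num)
    · have : 8 ≤ Nat.card ↥E := by
        rw [hn]
        calc (8 : ℕ) = 2 ^ 3 := by norm_num
          _ ≤ _ := Nat.pow_le_pow_right (by norm_num) (by omega)
      omega
  -- `V` is a Sylow subgroup
  have hNmem : ∀ n ∈ Subgroup.normalizer (V : Set G), ∀ v ∈ V, n * v * n⁻¹ ∈ V := fun n hn v hv =>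
    (Subgroup.mem_normalizer_iff.1 hn v).1 hv
  have hmax : ∀ n ∈ Subgroup.normalizer (V : Set G), n ^ 4 = 1 → n ∈ V := by
    intro n hn hn4
    have hp : IsPGroup 2 ↥(Subgroup.zpowers n) := by
      obtain ⟨i, -, hi⟩ := (Nat.dvd_prime_pow Nat.prime_two).1
        (show orderOf n ∣ 2 ^ 2 from orderOf_dvd_of_pow_eq_one (by norm_num [hn4]))
      exact IsPGroup.of_card (n := i) (by rw [Nat.card_zpowers, hi])
    have h2 : IsPGroup 2 ↥(V ⊔ Subgroup.zpowers n) :=
      hV2.to_sup_of_normal_left' hp (Subgroup.zpowers_le.2 hn)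
    have h3 := S.is_maximal' h2 (hSV.le.trans le_sup_left)
    rw [← hSV, ← h3]
    exact Subgroup.mem_sup_right (Subgroup.mem_zpowers n)
  obtain ⟨n, hnN, v0, hv0, hnv⟩ : ∃ n ∈ Subgroup.normalizer (V : Set G), ∃ v ∈ V, n * v * n⁻¹ ≠ v := by
    by_contra hcon
    push Not at hcon
    apply hnc
    have hP : Subgroup.normalizer ((S : Subgroup G) : Set G) ≤ Subgroup.centralizer ((S : Subgroup G) : Set G) := by
      rw [hSV]
      intro n hn v hv
      exact (mul_inv_eq_iff_eq_mul.1 (hcon n hn v hv)).symm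
    exact ⟨S, _, inferInstance, MonoidHom.ker_transferSylow_isComplement' S hP⟩
  have hnx : n * x * n⁻¹ ≠ x := by
    intro h
    apply hnv
    have hnV : n ∈ V := Subgroup.mem_centralizer_singleton_iff.2 (mul_inv_eq_iff_eq_mul.1 h)
    rw [(hVab n hnV v0 hv0).eq, mul_inv_cancel_right]
  set a := n * x * n⁻¹ with ha
  have haV : a ∈ V := hNmem n hnN x hxV
  have ha1 : a ≠ 1 := fun h => ne_one_of_involution hx (conj_eq_one_iff.1 h)
  have hna : n * a * n⁻¹ = x * a := by
    rcases hVelts a haV ha1 hnx _ (hNmem n hnN a haV) with h | h | h | h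
    · exact absurd (conj_eq_one_iff.1 h) ha1
    · exfalso
      have h2 : n ^ 2 ∈ V := by
        refine Subgroup.mem_centralizer_singleton_iff.2 (mul_inv_eq_iff_eq_mul.1 ?_)
        calc n ^ 2 * x * (n ^ 2)⁻¹ = n * (n * x * n⁻¹) * n⁻¹ := by rw [pow_two]; group
          _ = x := by rw [← ha, h]
      have h4 : n ∈ V := hmax n hnN (by
        rw [show (4 : ℕ) = 2 * 2 from rfl, pow_mul]; exact hCe _ h2)
      exact hnx (mul_inv_eq_iff_eq_mul.2 (hVab n h4 x hxV).eq)
    · exfalso
      exact hnx (mul_left_cancel (mul_right_cancel (h.trans ha))).symm.symm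
    · exact h
  have hconjV : ∀ v ∈ V, v ≠ 1 → IsConj x v := by
    intro v hv hv1
    rcases hVelts a haV ha1 hnx v hv with rfl | rfl | rfl | rfl
    · exact absurd rfl hv1
    · exact IsConj.refl _
    · exact isConj_iff.2 ⟨n, rfl⟩
    · exact (isConj_iff.2 ⟨n, rfl⟩ : IsConj x a).trans (isConj_iff.2 ⟨n, hna⟩)
  have hconj : ∀ t : G, orderOf t = 2 → IsConj x t := by
    intro t ht
    obtain ⟨P, hP⟩ := (IsPGroup.of_card (n := 1) (by rw [Nat.card_zpowers, ht, pow_one]) :
      IsPGroup 2 ↥(Subgroup.zpowers t)).exists_le_sylow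
    obtain ⟨g, hg⟩ := MulAction.exists_smul_eq G P S
    have h1 : g * t * g⁻¹ ∈ V := by
      rw [← hSV, ← hg]
      exact ⟨t, hP (Subgroup.mem_zpowers t), rfl⟩
    exact (hconjV _ h1 fun h => ne_one_of_involution ht (conj_eq_one_iff.1 h)).trans
      (isConj_iff.2 ⟨g, rfl⟩ : IsConj t _).symm
  have hall : AllFour G := by
    intro t ht
    obtain ⟨g, rfl⟩ := isConj_iff.1 (hconj t ht)
    have hmap : Subgroup.centralizer ({g * x * g⁻¹} : Set G) = V.map (MulAut.conj g).toMonoidHom := by
      ext c
      rw [Subgroup.mem_map_equiv, MulAut.conj_symm_apply, hV, Subgroup.mem_centralizer_singleton_iff,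
        Subgroup.mem_centralizer_singleton_iff]
      constructor
      · intro h
        calc g⁻¹ * c * g * x = g⁻¹ * (c * (g * x * g⁻¹)) * g := by group
          _ = g⁻¹ * (g * x * g⁻¹ * c) * g := by rw [h]
          _ = x * (g⁻¹ * c * g) := by group
      · intro h
        calc c * (g * x * g⁻¹) = g * (g⁻¹ * c * g * x) * g⁻¹ := by group
          _ = g * (x * (g⁻¹ * c * g)) * g⁻¹ := by rw [h]
          _ = g * x * g⁻¹ * c := by group
    refine ⟨by rw [hmap, Subgroup.card_map_of_injective (MulAut.conj g).injective]; exact hC4,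
      fun c hc => ?_⟩
    obtain ⟨v, hv, rfl⟩ : c ∈ V.map (MulAut.conj g).toMonoidHom :=
      hmap ▸ Subgroup.mem_centralizer_singleton_iff.2 hc.eq
    rw [← map_pow, hCe v hv, map_one]
  -- the normalizer of `V` has order 12
  have hcentV : Subgroup.centralizer (V : Set G) = V := by
    refine le_antisymm (fun c hc => Subgroup.mem_centralizer_singleton_iff.2 (hc x hxV).symm) ?_
    exact fun c hc v hv => hVab v hv c hc
  have hN4 : 4 ∣ Nat.card ↥(Subgroup.normalizer (V : Set G)) := by
    rw [← hC4]; exact Subgroup.card_dvd_of_le Subgroup.le_normalizer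
  have hNne : Nat.card ↥(Subgroup.normalizer (V : Set G)) ≠ 4 := fun h => by
    have h1 : V = Subgroup.normalizer (V : Set G) :=
      Subgroup.eq_of_le_of_card_ge Subgroup.le_normalizer (by omega)
    exact hnv (mul_inv_eq_iff_eq_mul.2 (hVab n (h1.ge hnN) v0 hv0).eq)
  rcases card_eq hall hx hconj with h12 | h60
  · exfalso
    have h1 := Subgroup.card_subgroup_dvd_card (Subgroup.normalizer (V : Set G))
    rw [h12] at h1
    have h3 := Nat.le_of_dvd (by norm_num) h1
    have h4 : Nat.card ↥(Subgroup.normalizer (V : Set G)) = 12 := by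
      obtain ⟨k, hk⟩ := hN4
      have hpos : 0 < Nat.card ↥(Subgroup.normalizer (V : Set G)) := Nat.card_pos
      have hk3 : k ≤ 3 := by omega
      rw [hk] at h1 hpos hNne ⊢
      interval_cases k <;> norm_num at *
    have htop : Subgroup.normalizer (V : Set G) = ⊤ := Subgroup.eq_top_of_card_eq _ (h4.trans h12.symm)
    exact (hne V (Subgroup.normalizer_eq_top_iff.1 htop)
      ⟨⟨⟨fun a b => Subtype.ext (hVab a a.2 b b.2)⟩⟩, hCe⟩).2 hC4
  -- order 60
  have hinvN : ∀ t, orderOf t = 2 → t ∈ Subgroup.normalizer (V : Set G) → t ∈ V := fun t ht htN =>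
    hmax t htN (by rw [show (4 : ℕ) = 2 * 2 from rfl, pow_mul, ← ht, pow_orderOf_eq_one, one_pow])
  let W : Finset G := {x, a, x * a}
  have hact : ∀ g ∈ Subgroup.normalizer (V : Set G), ∀ h ∈ Subgroup.normalizer (V : Set G),
      g * x * g⁻¹ = h * x * h⁻¹ → g⁻¹ * h ∈ V := by
    intro g _ h _ hgh
    refine Subgroup.mem_centralizer_singleton_iff.2 ?_
    calc g⁻¹ * h * x = g⁻¹ * (h * x * h⁻¹) * h := by group
      _ = g⁻¹ * (g * x * g⁻¹) * h := by rw [hgh]
      _ = x * (g⁻¹ * h) := by group
  have hN12 : Nat.card ↥(Subgroup.normalizer (V : Set G)) ≤ 12 := by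
    -- at most 3 cosets of `V`
    let f : ↥(Subgroup.normalizer (V : Set G)) ⧸ V.subgroupOf (Subgroup.normalizer (V : Set G)) → ↥W :=
      Quotient.lift (fun g => ⟨(g : G) * x * (g : G)⁻¹, by
          rcases hVelts a haV ha1 hnx _ (hNmem g g.2 x hxV) with h | h | h | h
          · exact absurd (conj_eq_one_iff.1 h) (ne_one_of_involution hx)
          all_goals simp [W, h]⟩)
        (fun g h hgh => by
          have hm : (g : G)⁻¹ * h ∈ V := (QuotientGroup.leftRel_apply.1 hgh :
            g⁻¹ * h ∈ V.subgroupOf (Subgroup.normalizer (V : Set G)))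
          apply Subtype.ext
          change (g : G) * x * (g : G)⁻¹ = h * x * (h : G)⁻¹
          have hm2 := Subgroup.mem_centralizer_singleton_iff.1 hm
          calc (g : G) * x * (g : G)⁻¹ = g * (x * ((g : G)⁻¹ * h)) * (h : G)⁻¹ := by group
            _ = g * ((g : G)⁻¹ * h * x) * (h : G)⁻¹ := by rw [hm2]
            _ = h * x * (h : G)⁻¹ := by group)
    have hf : Function.Injective f := by
      intro p q
      refine Quotient.inductionOn₂ p q fun g h hgh => ?_
      exact Quotient.sound (QuotientGroup.leftRel_apply.2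
        (hact g g.2 h h.2 (congrArg Subtype.val hgh)))
    have h1 := Nat.card_le_card_of_injective f hf
    rw [Nat.card_eq_finsetCard] at h1
    have hW : W.card ≤ 3 := Finset.card_le_three
    rw [Subgroup.card_eq_card_quotient_mul_card_subgroup (V.subgroupOf (Subgroup.normalizer (V : Set G))),
      Nat.card_congr (Subgroup.subgroupOfEquivOfLe (Subgroup.le_normalizer (H := V))).toEquiv, hC4]
    omega
  have h8 : Nat.card ↥(Subgroup.normalizer (V : Set G)) ≠ 8 := by
    intro h8
    have := Subgroup.card_subgroup_dvd_card (Subgroup.normalizer (V : Set G))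
    rw [h8, h60] at this
    norm_num at this
  have hN : Nat.card ↥(Subgroup.normalizer (V : Set G)) = 12 := by
    obtain ⟨k, hk⟩ := hN4
    have hpos : 0 < Nat.card ↥(Subgroup.normalizer (V : Set G)) := Nat.card_pos
    have hk3 : k ≤ 3 := by omega
    interval_cases k <;> omega
  have hidx : (Subgroup.normalizer (V : Set G)).index = 5 := by
    have := Subgroup.card_mul_index (Subgroup.normalizer (V : Set G))
    rw [hN, h60] at this
    omega
  set K := (Subgroup.normalizer (V : Set G)).normalCore with hK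
  have hKle : K ≤ Subgroup.normalizer (V : Set G) := Subgroup.normalCore_le _
  have hKn : K.Normal := inferInstance
  have hKbot : K = ⊥ := by
    have hKV : K ⊓ V = ⊥ := by
      rw [eq_bot_iff]
      intro t ⟨htK, htV⟩
      by_contra ht1
      have hallV : ∀ s : G, orderOf s = 2 → s ∈ V := by
        intro s hs
        refine hinvN s hs (hKle ?_)
        obtain ⟨g, rfl⟩ := isConj_iff.1 ((hconjV t htV ht1).symm.trans (hconj s hs))
        exact hKn.conj_mem t htK g
      have hVn : V.Normal := ⟨fun v hv g => by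
        by_cases hv1 : v = 1
        · simp [hv1, one_mem]
        · exact hallV _ ((orderOf_conj_eq g v).trans (orderOf_eq_prime (hCe v hv) hv1))⟩
      exact (hne V hVn ⟨⟨⟨fun a b => Subtype.ext (hVab a a.2 b b.2)⟩⟩, hCe⟩).2 hC4
    have hKc : ∀ k ∈ K, ∀ v ∈ V, k * v = v * k := by
      intro k hk v hv
      have h1 : k * v * k⁻¹ * v⁻¹ ∈ K ⊓ V := ⟨by
        rw [mul_assoc, mul_assoc, ← mul_assoc v]; exact K.mul_mem hk (hKn.conj_mem _ (K.inv_mem hk) v),
        V.mul_mem (hNmem k (hKle hk) v hv) (V.inv_mem hv)⟩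
      rw [hKV, Subgroup.mem_bot, mul_inv_eq_one] at h1
      exact mul_inv_eq_iff_eq_mul.1 h1
    rw [eq_bot_iff]
    intro k hk
    have : k ∈ K ⊓ V := ⟨hk, Subgroup.mem_centralizer_singleton_iff.2 (hKc k hk x hxV)⟩
    rwa [hKV] at this
  set φ := MulAction.toPermHom G (G ⧸ Subgroup.normalizer (V : Set G))
  have hφ : Function.Injective φ := by
    rw [← MonoidHom.ker_eq_bot_iff, ← Subgroup.normalCore_eq_ker]
    exact hKbot
  have hΩ : Nat.card (G ⧸ Subgroup.normalizer (V : Set G)) = 5 := hidx
  let e5 : G ⧸ Subgroup.normalizer (V : Set G) ≃ Fin 5 := Finite.equivFinOfCardEq hΩ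
  let ψ : G →* Equiv.Perm (Fin 5) := e5.permCongrHom.toMonoidHom.comp φ
  have hψ : Function.Injective ψ := e5.permCongrHom.injective.comp hφ
  have hr : ψ.range = alternatingGroup (Fin 5) := by
    apply Equiv.Perm.eq_alternatingGroup_of_index_eq_two
    have h1 := Subgroup.card_mul_index ψ.range
    rw [← Nat.card_congr (MonoidHom.ofInjective hψ).toEquiv, h60,
      show Nat.card (Equiv.Perm (Fin 5)) = 120 by rw [Nat.card_perm]; simp [Nat.factorial]] at h1
    omega
  exact ⟨(MonoidHom.ofInjective hψ).trans (MulEquiv.subgroupCongr hr)⟩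

end Cfsg.Agent.S3277
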