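import Cfsg.Statements.S1642
import Cfsg.Agent.Lib.Golay.LeechOrbit.Normal
import Cfsg.Agent.Lib.Golay.LeechOrbit.CertHS
import Cfsg.Agent.Lib.Golay.LeechOrbit.InvCert

set_option autoImplicit false
open Cfsg CfsgLib.Golay CfsgLib.Golay.LeechOrbit CfsgLib.MonsterType CfsgLib.Sporadic

set_option maxRecDepth 100000

theorem inv_cols : invCols = invImg.map packL := by decide +kernel

theorem inv_fix : fixB [invWord] (cs100.map fun c => toL (c.1 : GolayPt → ℤ)) = true := by decide +kernel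

theorem inv_free : allFrom 0 C100.n (fun i =>
    !decide (dotL (digits 24 (C100.key i)) invCols = 8 * packL (digits 24 (C100.key i)))) = true := by
  decide +kernel

theorem inv_spec : orderOf (wordW invWord) = 2 ∧ wordW invWord ∈ consStab cs100 ∧
    ∀ x ∈ consSet cs100, wordW invWord • x ≠ x := by
  refine ⟨inv_order, mem_consStab_of_fixB inv_fix _ (by simp), fun x hx e => ?_⟩
  · have hcols : invCols = colsW invWord := by
      rw [inv_cols, colsW]
      refine List.ext_getElem (by simp; decide +kernel) fun j hj hj' => ?_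
      simp only [List.getElem_map, List.getElem_ofFn]
      simp only [List.length_ofFn] at hj'
      rw [inv_img ⟨j, hj'⟩, List.getD_eq_getElem _ _ (by simpa using hj)]
    have h1 := pack_wordW invWord x
    rw [e, ← hcols] at h1
    obtain ⟨i, hi, hk⟩ := C100.has_sound (cover100 x hx)
    have h2 := of_allFrom_zero inv_free hi
    rw [hk, ← toL_vecK, vecK_keyOf hx.1] at h2
    simp only [Bool.not_eq_true', decide_eq_false_iff_not] at h2
    exact h2 (by rw [← h1, pack])


namespace Cfsg.Agent.S1642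

/-- Some involution of the Higman–Sims group acts without fixed points on its 100 points. -/
theorem result (v w : ↥Cfsg.leechLattice) (hv : Cfsg.sqNorm (v : Cfsg.GolayPt → ℤ) = 48) (hw : Cfsg.sqNorm (w : Cfsg.GolayPt → ℤ) = 48) (hvw : Cfsg.dotInt (v : Cfsg.GolayPt → ℤ) (w : Cfsg.GolayPt → ℤ) = -32) : ∃ g : ↥Cfsg.Co0, g • v = v ∧ g • w = w ∧ orderOf g = 2 ∧ ∀ x ∈ {x : ↥Cfsg.leechLattice | Cfsg.sqNorm (x : Cfsg.GolayPt → ℤ) = 32 ∧ Cfsg.dotInt (v : Cfsg.GolayPt → ℤ) (x : Cfsg.GolayPt → ℤ) = 24 ∧ Cfsg.dotInt (w : Cfsg.GolayPt → ℤ) (x : Cfsg.GolayPt → ℤ) = -24}, g • x ≠ x := by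
  obtain ⟨γ, h1, h2⟩ := exists_normal_pair hv hw hvw
  obtain ⟨ho, hfix, hfree⟩ := inv_spec
  obtain ⟨f1, f2⟩ := consStab2.mp hfix
  refine ⟨γ⁻¹ * wordW invWord * γ, ?_, ?_, ?_, fun x hx e => ?_⟩
  · rw [mul_smul, mul_smul, h1, f1, inv_smul_eq_iff, h1]
  · rw [mul_smul, mul_smul, h2, f2, inv_smul_eq_iff, h2]
  · have hcj : MulAut.conj γ⁻¹ (wordW invWord) = γ⁻¹ * wordW invWord * γ := by simp [MulAut.conj_apply]
    rw [← hcj, MulEquiv.orderOf_eq, ho]
  · refine hfree (γ • x) ?_ ?_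
    · have : x ∈ consSet [(v, 24), (w, -24)] := mem_cons2.mpr hx
      simpa [mapC, cs100, h1, h2] using (smul_mem_mapC_iff (γ := γ)).mpr this
    · rw [mul_smul, mul_smul, inv_smul_eq_iff] at e
      exact e

end Cfsg.Agent.S1642
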