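import Cfsg.Statements.S3784
import Mathlib


set_option autoImplicit false
open Cfsg

namespace Cfsg.Agent.S3784

theorem odd_geom (x : ℤ) (hx : Odd x) (n : ℕ) (hn : Odd n) : Odd (∑ i ∈ Finset.range n, x ^ i) := by
  rw [← Int.not_even_iff_odd, even_iff_two_dvd]
  intro h
  rw [show (2 : ℤ) = ((2 : ℕ) : ℤ) from rfl, ← ZMod.intCast_zmod_eq_zero_iff_dvd] at h
  have hx1 : ((x : ℤ) : ZMod 2) = 1 := by
    obtain ⟨k, rfl⟩ := hx
    push_cast
    rw [show (2 : ZMod 2) = 0 from rfl, zero_mul, zero_add]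
  push_cast at h
  simp only [hx1, one_pow, Finset.sum_const, Finset.card_range, nsmul_one] at h
  obtain ⟨k, rfl⟩ := hn
  push_cast at h
  rw [show (2 : ZMod 2) = 0 from rfl, zero_mul, zero_add] at h
  exact one_ne_zero h

theorem geom_eq_one (x : ℤ) (hx : Odd x) (n m : ℕ) (hn : Odd n) (h : (∑ i ∈ Finset.range n, x ^ i) * (x - 1) = 2 ^ m ∨ (∑ i ∈ Finset.range n, x ^ i) * (1 - x) = 2 ^ m) :
    (∑ i ∈ Finset.range n, x ^ i).natAbs = 1 := by
  set S := ∑ i ∈ Finset.range n, x ^ i with hS
  have hdvd : S.natAbs ∣ 2 ^ m := by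
    have h1 : S ∣ (2 : ℤ) ^ m := by rcases h with h | h <;> exact ⟨_, h.symm⟩
    have h2 := Int.natAbs_dvd_natAbs.mpr h1
    rwa [Int.natAbs_pow] at h2
  obtain ⟨i, -, hi⟩ := (Nat.dvd_prime_pow Nat.prime_two).mp hdvd
  have ho : Odd S.natAbs := Int.natAbs_odd.mpr (odd_geom x hx n hn)
  rw [hi] at ho ⊢
  rcases i with _ | i
  · rfl
  · exact absurd ho (Nat.not_odd_iff_even.mpr ((Nat.even_pow).mpr ⟨even_two, by omega⟩))

/-- Let p, q be primes and a, b positive integers with p^a = q^b + 1. Then either p = 2, b = 1, a is prime and q = 2^a − 1; or q = 2, a = 1, b is a power of 2 and p = 2^b + 1; or p^a = 9 and q^b = 8. -/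
theorem result (p q a b : ℕ) (hp : p.Prime) (hq : q.Prime) (ha : 1 ≤ a) (hb : 1 ≤ b) (h : p ^ a = q ^ b + 1) : (p = 2 ∧ b = 1 ∧ a.Prime ∧ q + 1 = 2 ^ a) ∨ (q = 2 ∧ a = 1 ∧ (∃ m : ℕ, b = 2 ^ m) ∧ p = 2 ^ b + 1) ∨ (p ^ a = 9 ∧ q ^ b = 8) := by
  rcases eq_or_ne q 2 with rfl | hq2
  · -- `p^a = 2^b + 1`
    have hpodd : Odd p := by
      refine hp.odd_of_ne_two fun e => ?_
      subst e
      have h1 : Even (2 ^ a) := (Nat.even_pow).mpr ⟨even_two, by omega⟩
      have h2 : Even (2 ^ b) := (Nat.even_pow).mpr ⟨even_two, by omega⟩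
      rw [h, Nat.even_add_one] at h1
      exact h1 h2
    rcases Nat.even_or_odd a with ⟨k, hk⟩ | hodd
    · -- `a` even
      refine Or.inr (Or.inr ?_)
      subst hk
      set u := p ^ k with hu
      have hk1 : p ≤ u := Nat.le_self_pow (by omega) p
      have hp2 := hp.two_le
      have e : (u + 1) * (u - 1) = 2 ^ b := by
        rw [← Nat.sq_sub_sq, one_pow, sq, hu, ← pow_add, h, Nat.add_sub_cancel]
      obtain ⟨i, -, hi⟩ := (Nat.dvd_prime_pow Nat.prime_two).mp ⟨_, e.symm⟩
      obtain ⟨j, -, hj⟩ := (Nat.dvd_prime_pow Nat.prime_two).mp (Dvd.intro_left _ e)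
      have hij : 2 ^ i = 2 ^ j + 2 := by omega
      have hu3 : u = 3 := by
        rcases j with _ | _ | j
        · exfalso
          rcases i with _ | i
          · simp at hij
          · rw [pow_succ] at hij; omega
        · omega
        · exfalso
          rcases i with _ | _ | i
          · simp at hij
          · simp at hij
          · rw [pow_succ, pow_succ, pow_succ, pow_succ] at hij; omega
      have hpa : p ^ (k + k) = 9 := by rw [pow_add, ← hu, hu3]; rfl
      exact ⟨hpa, by omega⟩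
    · -- `a` odd
      have ha1 : a = 1 := by
        by_contra hne
        have hgeo := geom_sum_mul (p : ℤ) a
        have hS : (∑ i ∈ Finset.range a, (p : ℤ) ^ i) * ((p : ℤ) - 1) = 2 ^ b := by
          rw [hgeo]
          have : ((p ^ a : ℕ) : ℤ) = ((2 ^ b + 1 : ℕ) : ℤ) := by rw [h]
          push_cast at this
          rw [this, add_sub_cancel_right]
        have h1 := geom_eq_one (p : ℤ) (by exact_mod_cast hpodd) a b hodd (Or.inl hS)
        have hS1 : (∑ i ∈ Finset.range a, p ^ i) = 1 := by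
          rw [← h1, show (∑ i ∈ Finset.range a, (p : ℤ) ^ i) = ((∑ i ∈ Finset.range a, p ^ i : ℕ) : ℤ) by push_cast; rfl,
            Int.natAbs_natCast]
        have h2 : ∑ i ∈ Finset.range 2, p ^ i ≤ ∑ i ∈ Finset.range a, p ^ i :=
          Finset.sum_le_sum_of_subset (Finset.range_subset_range.mpr (by omega))
        rw [hS1, Finset.sum_range_succ, Finset.sum_range_one, pow_zero, pow_one] at h2
        have := hp.two_le
        omega
      subst ha1
      rw [pow_one] at h
      refine Or.inr (Or.inl ⟨rfl, rfl, ?_, h⟩)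
      exact Nat.pow_of_pow_add_prime one_lt_two (by omega) (h ▸ hp)
  · -- `q` odd
    have hqodd : Odd q := hq.odd_of_ne_two hq2
    obtain rfl : p = 2 := by
      by_contra hp2
      have h1 : Odd (p ^ a) := (hp.odd_of_ne_two hp2).pow
      rw [h, Nat.odd_add_one] at h1
      exact h1 hqodd.pow
    refine Or.inl ?_
    have hb1 : b = 1 := by
      by_contra hne
      rcases Nat.even_or_odd b with ⟨k, rfl⟩ | hodd
      · have hq3 : 3 ≤ q := by have := hq.two_le; omega
        have h9 : 9 ≤ q ^ (k + k) := by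
          calc 9 ≤ q ^ 2 := (by nlinarith)
            _ ≤ q ^ (k + k) := Nat.pow_le_pow_right hq.pos (by omega)
        obtain ⟨j, rfl⟩ : ∃ j, a = j + 2 := ⟨a - 2, by
          rcases a with _ | _ | a <;> simp_all <;> omega⟩
        obtain ⟨t, ht⟩ : Odd (q ^ k) := hqodd.pow
        rw [pow_add q, ht, pow_add] at h
        have : (2 * t + 1) * (2 * t + 1) = 4 * (t * t + t) + 1 := by ring
        omega
      · have hgeo := geom_sum_mul_neg (-(q : ℤ)) b
        have hS : (∑ i ∈ Finset.range b, (-(q : ℤ)) ^ i) * (1 - -(q : ℤ)) = 2 ^ a := by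
          rw [hgeo, hodd.neg_pow, sub_neg_eq_add, add_comm]
          exact_mod_cast h.symm
        have h1 := geom_eq_one (-(q : ℤ)) (by simpa using hqodd) b a hodd (Or.inr hS)
        have h2 := congrArg Int.natAbs hS
        rw [Int.natAbs_mul, h1, one_mul, Int.natAbs_pow, sub_neg_eq_add,
          show ((1 : ℤ) + q).natAbs = 1 + q by omega, show Int.natAbs 2 = 2 from rfl, h] at h2
        have : q ^ 2 ≤ q ^ b := Nat.pow_le_pow_right hq.pos (by omega)
        have := hq.two_le
        nlinarith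
    subst hb1
    rw [pow_one] at h
    refine ⟨rfl, rfl, ?_, h.symm⟩
    have ha2 : a ≠ 1 := fun e => by subst e; have := hq.two_le; simp at h; omega
    exact Nat.prime_of_pow_sub_one_prime ha2 (show Nat.Prime (2 ^ a - 1) by rw [h, Nat.add_sub_cancel]; exact hq) |>.2

end Cfsg.Agent.S3784
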