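import Cfsg.Statements.S0032


set_option autoImplicit false
open Cfsg

namespace Cfsg.Agent.S0032

/-- If an automorphism of a finite group fixes only the identity and maps a normal subgroup N into itself, then the only cosets of N it fixes are those in N: a fixed coset xN forces x ∈ N. -/
theorem result {G : Type*} [Group G] [Finite G] (φ : G ≃* G)
    (hφ : MonoidHom.FixedPointFree (φ : G →* G)) (N : Subgroup G) [N.Normal] (hN : ∀ n ∈ N, φ n ∈ N)
    (x : G) (hx : (φ x)⁻¹ * x ∈ N) : x ∈ N := by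
  -- the map `u ↦ (φ u)⁻¹ * u` is injective on `N`, hence onto `N`
  let f : N → N := fun u => ⟨(φ (u : G))⁻¹ * u, N.mul_mem (N.inv_mem (hN _ u.2)) u.2⟩
  have hinj : Function.Injective f := by
    intro u v huv
    have h1 : (φ (u : G))⁻¹ * u = (φ (v : G))⁻¹ * v := congrArg Subtype.val huv
    have h2 : φ ((u : G) * (v : G)⁻¹) = (u : G) * (v : G)⁻¹ := by
      rw [map_mul, map_inv]
      calc φ (u : G) * (φ (v : G))⁻¹ = φ (u : G) * ((φ (v : G))⁻¹ * v) * (v : G)⁻¹ := by group
        _ = _ := by rw [← h1]; group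
    exact Subtype.ext (mul_inv_eq_one.1 (hφ _ h2))
  obtain ⟨u, hu⟩ := (Finite.injective_iff_surjective.1 hinj) ⟨_, hx⟩
  have h1 : (φ (u : G))⁻¹ * u = (φ x)⁻¹ * x := congrArg Subtype.val hu
  have h2 : φ (x * (u : G)⁻¹) = x * (u : G)⁻¹ := by
    rw [map_mul, map_inv]
    calc φ x * (φ (u : G))⁻¹ = φ x * ((φ (u : G))⁻¹ * u) * (u : G)⁻¹ := by group
      _ = _ := by rw [h1]; group
  rw [mul_inv_eq_one.1 (hφ _ h2)]
  exact u.2

end Cfsg.Agent.S0032
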