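import Cfsg.Statements.S3779
import Cfsg.Agent.S0032
import Cfsg.Agent.Lib.Frobenius.FPFThompson
import Cfsg.Agent.Lib.Struct76.LowerCentralLie
import Cfsg.Agent.Lib.Struct76.FpfLieRing

set_option autoImplicit false
open Cfsg

namespace Cfsg.Agent.S3779

open CfsgLib.LowerCentralLie76 CfsgLib.Kreknin76
open scoped commutatorElement

variable {G : Type*} [Group G] [Finite G]

theorem not_dvd_card {p : ℕ} [Fact p.Prime] (α : MulAut G) (hα : orderOf α = p)
    (hfpf : ∀ g : G, α g = g → g = 1) : ¬ p ∣ Nat.card G := by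
  intro hdvd
  have hA : IsPGroup p (Subgroup.zpowers α) :=
    IsPGroup.of_card (n := 1) (by rw [Nat.card_zpowers, hα, pow_one])
  obtain ⟨x, hx, hx1⟩ := hA.exists_fixed_point_of_prime_dvd_card_of_fixed_point G hdvd
    (a := (1 : G)) (fun a => by
      show (a : MulAut G) 1 = 1
      exact map_one _)
  exact hx1 (hfpf x (hx ⟨α, Subgroup.mem_zpowers α⟩)).symm

theorem pow_lclMap (α : MulAut G) (m : ℕ) {i : ℕ} {x : G} (hx : x ∈ lcs G i) :
    ((lclMap α.toMonoidHom).toIntLinearMap ^ m) (toL i x) = toL i ((α ^ m) x) := by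
  induction m with
  | zero => rfl
  | succ m ih =>
    rw [pow_succ', Module.End.mul_apply, ih, pow_succ', MulAut.mul_apply]
    exact lclMap_toL _ (map_mem_lcs (α ^ m : MulAut G).toMonoidHom hx)

theorem toL_mem_lcsAdd (n : ℕ) : ∀ x ∈ lcs G n, toL n x ∈ lcsAdd (LCL G) n := by
  induction n with
  | zero => exact fun x _ => AddSubgroup.mem_top _
  | succ n ih =>
    intro x hx
    have hsub : ∀ y, y ∈ Subgroup.closure {z | ∃ u ∈ lcs G n, ∃ v ∈ (⊤ : Subgroup G), ⁅u, v⁆ = z} →
        y ∈ lcs G (n + 1) ∧ toL (n + 1) y ∈ lcsAdd (LCL G) (n + 1) := by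
      intro y hy
      induction hy using Subgroup.closure_induction with
      | mem z hz =>
        obtain ⟨u, hu, v, hv, rfl⟩ := hz
        refine ⟨Subgroup.commutator_mem_commutator hu hv, AddSubgroup.subset_closure ?_⟩
        exact ⟨toL n u, ih u hu, toL 0 v, (lie_toL hu (Subgroup.mem_top v)).trans rfl⟩
      | one => exact ⟨one_mem _, by rw [toL_one]; exact zero_mem _⟩
      | mul u v _ _ hu hv => exact ⟨mul_mem hu.1 hv.1, by rw [toL_mul hu.1 hv.1]; exact add_mem hu.2 hv.2⟩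
      | inv u _ hu => exact ⟨inv_mem hu.1, by rw [toL_inv hu.1]; exact neg_mem hu.2⟩
    exact (hsub x ((Subgroup.mem_lowerCentralSeries_succ_iff (S := (⊤ : Subgroup G)) n x).1 hx)).2

theorem lcs_eq_bot {n : ℕ} (hG : Group.IsNilpotent G) (h : lcsAdd (LCL G) n = ⊥) :
    (⊤ : Subgroup G).lowerCentralSeries n = ⊥ := by
  have hle : lcs G n ≤ lcs G (n + 1) := fun x hx => mem_of_toL_eq_zero hx
    ((AddSubgroup.mem_bot).1 (h ▸ toL_mem_lcsAdd n x hx))
  have hall : ∀ m, lcs G n ≤ lcs G (n + m) := by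
    intro m
    induction m with
    | zero => exact le_rfl
    | succ m ih =>
      calc lcs G n ≤ lcs G (n + 1) := hle
        _ = ⁅lcs G n, ⊤⁆ := rfl
        _ ≤ ⁅lcs G (n + m), ⊤⁆ := Subgroup.commutator_mono ih le_rfl
  obtain ⟨c, hc⟩ := Subgroup.nilpotent_iff_lowerCentralSeries.1 hG
  exact le_bot_iff.1 (((hall c).trans (lcs_le (Nat.le_add_left c n))).trans hc.le)

/-- Let G be a finite group with an automorphism of prime order p fixing only the identity. Then G is nilpotent; if p = 2 then G is abelian, if p = 3 then G has class at most 2, and in general the class of G is at most ξ = 1 + (p−1) + (p−1)² + ⋯ + (p−1)^(n−1) with n = 2^(p−1) − 1 (the Higman–Kreknin–Kostrikin bound). -/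
theorem result {G : Type*} [Group G] [Finite G] {p : ℕ} (hp : p.Prime) (α : MulAut G) (hα : orderOf α = p) (hfpf : ∀ g : G, α g = g → g = 1) : (p = 2 → (⊤ : Subgroup G).lowerCentralSeries 1 = ⊥) ∧ (p = 3 → (⊤ : Subgroup G).lowerCentralSeries 2 = ⊥) ∧ (⊤ : Subgroup G).lowerCentralSeries (Finset.sum (Finset.range (2 ^ (p - 1) - 1)) (fun i => (p - 1) ^ i)) = ⊥ := by
  haveI : Fact p.Prime := ⟨hp⟩
  have hnil : Group.IsNilpotent G :=
    CfsgLib.Frobenius.Thompson.isNilpotent_of_orderOf α hfpf hp hα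
  have hcop : (Nat.card G).Coprime p :=
    (hp.coprime_iff_not_dvd.2 (not_dvd_card α hα hfpf)).symm
  set a : LCL G →ₗ[ℤ] LCL G := (lclMap α.toMonoidHom).toIntLinearMap with ha
  have hlie : ∀ x y : LCL G, a ⁅x, y⁆ = ⁅a x, a y⁆ := lclMap_lie α.toMonoidHom
  have hfix : ∀ x : LCL G, a x = x → x = 0 := fun x hx => lclMap_eq_self α.toMonoidHom
    (fun i y _ hy => Cfsg.Agent.S0032.result α hfpf (lcs G (i + 1))
      (fun n hn => map_mem_lcs α.toMonoidHom hn) y hy) hx
  have hpow : a ^ p = 1 := by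
    refine LinearMap.ext fun u => ?_
    induction u using gr_induction with
    | h0 => simp
    | hadd u v hu hv => rw [map_add, map_add, hu, hv]
    | hgen i x hx =>
      rw [ha, pow_lclMap α p hx, ← hα, pow_orderOf_eq_one]
      rfl
  have htor : ∀ x : LCL G, p • x = 0 → x = 0 := fun x hx => eq_zero_of_nsmul (n := p)
    (fun i y _ hy => by
      obtain ⟨m, hm⟩ := exists_pow_eq_self_of_coprime (x := y)
        ((hcop.symm).coprime_dvd_right (orderOf_dvd_natCard y))
      rw [← hm]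
      exact pow_mem hy m) hx
  obtain ⟨h2, h3, hgen⟩ := lcsAdd_eq_bot a hlie hfix hpow htor
  exact ⟨fun h => lcs_eq_bot hnil (h2 h), fun h => lcs_eq_bot hnil (h3 h), lcs_eq_bot hnil hgen⟩

end Cfsg.Agent.S3779
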