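import Cfsg.Statements.S3780
import Cfsg.Agent.Lib.PGroup.Frattini

set_option autoImplicit false
open Cfsg

namespace Cfsg.Agent.S3780

open Subgroup

theorem exists_gen {V : Type*} [CommGroup V] [Finite V] {p : ℕ} (hp : p.Prime) (hV : IsPGroup p V)
    (P : Subgroup V) (hP : ∀ K : Subgroup V, K ⊔ P = ⊤ → K = ⊤) {r : ℕ} (hr : P.index ≤ p ^ r) :
    ∃ S : Finset V, S.card ≤ r ∧ closure (S : Set V) = ⊤ := by
  classical
  haveI : Fact p.Prime := ⟨hp⟩
  suffices ∀ i, ∀ Q : Subgroup V, Q.index ≤ p ^ i → ∃ S : Finset V, S.card ≤ i ∧ closure (S : Set V) ⊔ Q = ⊤ by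
    obtain ⟨S, h1, h2⟩ := this r P hr
    exact ⟨S, h1, hP _ h2⟩
  intro i
  induction i with
  | zero =>
    intro Q hQ
    refine ⟨∅, le_rfl, ?_⟩
    have : Q.index = 1 := le_antisymm (by simpa using hQ) (Nat.one_le_iff_ne_zero.mpr Q.index_ne_zero_of_finite)
    rw [index_eq_one.mp this, sup_top_eq]
  | succ i ih =>
    intro Q hQ
    by_cases hQt : Q = ⊤
    · exact ⟨∅, Nat.zero_le _, by rw [hQt, sup_top_eq]⟩
    obtain ⟨x, hx⟩ : ∃ x, x ∉ Q := by
      by_contra h
      push Not at h
      exact hQt (eq_top_iff.mpr fun x _ => h x)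
    obtain ⟨a, ha⟩ := hV.index Q
    obtain ⟨b, hb⟩ := hV.index (Q ⊔ zpowers x)
    have hlt : Q < Q ⊔ zpowers x := lt_of_le_not_ge le_sup_left fun h => hx (h (mem_sup_right (mem_zpowers x)))
    have hidx : (Q ⊔ zpowers x).index < Q.index := index_strictAnti hlt
    rw [ha, hb, Nat.pow_lt_pow_iff_right hp.one_lt] at hidx
    have hai : a ≤ i + 1 := by rw [ha] at hQ; exact (Nat.pow_le_pow_iff_right hp.one_lt).mp hQ
    obtain ⟨S, hS1, hS2⟩ := ih (Q ⊔ zpowers x) (by rw [hb]; exact Nat.pow_le_pow_right hp.pos (by omega))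
    refine ⟨insert x S, (Finset.card_insert_le _ _).trans (Nat.succ_le_succ hS1), ?_⟩
    rw [← hS2, Finset.coe_insert, Set.insert_eq, Subgroup.closure_union, Subgroup.zpowers_eq_closure,
      sup_comm (Subgroup.closure {x}), sup_assoc, sup_comm (Subgroup.closure {x})]

theorem card_bound {W : Type*} [CommGroup W] [Finite W] {p : ℕ} (hp : p.Prime) (hW : ∀ w : W, w ^ p = 1)
    (a : MulAut W) (ha : a ^ p = 1) {b : ℕ} (hb : Nat.card {w : W // a w = w} ≤ b) : Nat.card W ≤ b ^ p := by
  let δ : Monoid.End W := MonoidHom.mk' (fun w => a w / w) (fun x y => by simp [mul_div_mul_comm])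
  let A : AddMonoid.End (Additive W) := (a.toMonoidHom : Monoid.End W).toAdditive
  let D : AddMonoid.End (Additive W) := MonoidHom.toAdditive δ
  have hker : ∀ w : W, δ w = 1 ↔ a w = w := fun w => (div_eq_one (a := a w) (b := w))
  have hDA : A = D + 1 := by
    ext w
    show Additive.ofMul (a (Additive.toMul w)) = Additive.ofMul (a (Additive.toMul w) / Additive.toMul w) + w
    rw [ofMul_div]
    simp
  have hAp : A ^ p = 1 := by
    have h1 : ∀ n, ∀ w : W, (A ^ n) (Additive.ofMul w) = Additive.ofMul ((a ^ n) w) := by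
      intro n
      induction n with
      | zero => intro w; simp
      | succ n ih =>
        intro w
        rw [pow_succ, pow_succ]
        exact ih (a w)
    ext w
    have := h1 p (Additive.toMul w)
    simpa [ha] using this
  have hp0 : (p : AddMonoid.End (Additive W)) = 0 := by
    ext w
    rw [AddMonoid.End.natCast_apply]
    exact congrArg Additive.ofMul (hW (Additive.toMul w))
  have hD : D ^ p = 0 := by
    obtain ⟨r, hr⟩ := (Commute.one_right D).exists_add_pow_prime_eq hp
    simp only [← hDA, hAp, one_pow, hp0, zero_mul, add_zero, mul_one] at hr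
    exact add_eq_right.mp hr.symm
  let Δ : ℕ → W →* W := fun n => Nat.rec (MonoidHom.id W) (fun _ f => f.comp δ) n
  have hΔ : ∀ n, ∀ w : W, Additive.ofMul (Δ n w) = (D ^ n) (Additive.ofMul w) := by
    intro n
    induction n with
    | zero => intro w; rfl
    | succ n ih => intro w; rw [pow_succ]; exact ih (δ w)
  have hcomm : ∀ n, ∀ w : W, δ (Δ n w) = Δ n (δ w) := by
    intro n
    induction n with
    | zero => intro w; rfl
    | succ n ih => intro w; exact ih (δ w)
  have hcard : ∀ n, Nat.card (Δ n).ker ≤ b ^ n := by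
    intro n
    induction n with
    | zero => rw [show (Δ 0).ker = ⊥ from (MonoidHom.ker_eq_bot_iff _).mpr fun x y h => h, card_bot, pow_zero]
    | succ n ih =>
      let f : (Δ (n + 1)).ker →* (Δ n).ker :=
        MonoidHom.mk' (fun w => ⟨δ w, w.2⟩) (fun x y => Subtype.ext (map_mul δ _ _))
      rw [Subgroup.card_eq_card_quotient_mul_card_subgroup f.ker,
        Nat.card_congr (QuotientGroup.quotientKerEquivRange f).toEquiv, pow_succ]
      refine Nat.mul_le_mul ((card_le_card_group _).trans ih) (le_trans ?_ hb)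
      refine Nat.card_le_card_of_injective (fun w => ⟨w.1.1, (hker _).mp (congrArg Subtype.val w.2)⟩) ?_
      intro x y h
      exact Subtype.ext (Subtype.ext (congrArg (fun z : {w : W // a w = w} => z.1) h))
  have htop : (Δ p).ker = ⊤ := eq_top_iff.mpr fun w _ => by
    rw [MonoidHom.mem_ker]
    have := hΔ p w
    rw [hD] at this
    exact Additive.ofMul.injective this
  have := hcard p
  rwa [htop, card_top] at this


/-- Let V be a finite abelian p-group and α an automorphism of V of order p whose fixed-point subgroup has order p^n. Then V can be generated by pn elements: some subset of V with at most pn elements generates V. -/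
theorem result {V : Type*} [CommGroup V] [Finite V] {p : ℕ} [Fact p.Prime] (hV : IsPGroup p V) (α : MulAut V) (hα : orderOf α = p) (n : ℕ) (hfix : Nat.card {v : V // α v = v} = p ^ n) : ∃ S : Finset V, S.card ≤ p * n ∧ Subgroup.closure (S : Set V) = ⊤ := by
  classical
  let W : Subgroup V := (powMonoidHom p).ker
  have hW : ∀ w : W, w ^ p = 1 := fun w => Subtype.ext w.2
  have hres : ∀ v, v ∈ W → α v ∈ W := fun v hv => by
    show (α v) ^ p = 1
    rw [← map_pow, show v ^ p = 1 from hv, map_one]
  let a : MulAut W :=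
    { toFun := fun w => ⟨α w, hres _ w.2⟩
      invFun := fun w => ⟨α⁻¹ w, by
        show (α⁻¹ (w : V)) ^ p = 1
        rw [← map_pow, show (w : V) ^ p = 1 from w.2, map_one]⟩
      left_inv := fun w => Subtype.ext (α.symm_apply_apply _)
      right_inv := fun w => Subtype.ext (α.apply_symm_apply _)
      map_mul' := fun x y => Subtype.ext (map_mul α _ _) }
  have hpow : ∀ k : ℕ, ∀ w : W, ((a ^ k) w : V) = (α ^ k) w := by
    intro k
    induction k with
    | zero => intro w; rfl
    | succ k ih => intro w; rw [pow_succ, pow_succ]; exact ih (a w)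
  have ha : a ^ p = 1 := MulEquiv.ext fun w => Subtype.ext (by
    rw [hpow, ← hα, pow_orderOf_eq_one]; rfl)
  have hb : Nat.card {w : W // a w = w} ≤ p ^ n := by
    rw [← hfix]
    exact Nat.card_le_card_of_injective (fun w => ⟨w.1.1, congrArg Subtype.val w.2⟩) (fun x y h =>
      Subtype.ext (Subtype.ext (congrArg (fun z : {v : V // α v = v} => z.1) h)))
  have h1 := card_bound Fact.out hW a ha hb
  have hidx : (powMonoidHom p : V →* V).range.index = Nat.card W := by
    have h2 := Subgroup.index_mul_card (powMonoidHom p : V →* V).range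
    have h3 := Subgroup.card_eq_card_quotient_mul_card_subgroup W
    rw [Nat.card_congr (QuotientGroup.quotientKerEquivRange (powMonoidHom p : V →* V)).toEquiv, ← h2, mul_comm] at h3
    exact Nat.eq_of_mul_eq_mul_left Nat.card_pos h3
  have hle : (powMonoidHom p : V →* V).range ≤ frattini V := by
    rintro _ ⟨v, rfl⟩
    exact CfsgLib.PGroup.pow_mem_frattini hV v
  refine exists_gen Fact.out hV (powMonoidHom p).range (fun K hK => ?_) ?_
  · exact frattini_nongenerating (top_le_iff.mp (hK ▸ sup_le_sup_left hle K))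
  · rw [hidx, mul_comm, pow_mul]
    exact h1

end Cfsg.Agent.S3780
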