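import Cfsg.Statements.S3781
import Cfsg.Agent.Lib.H82.ThreeSubgroup
import Cfsg.Prelude.Def_PLocal

set_option autoImplicit false
open Cfsg

namespace Cfsg.Agent.S3781

open Subgroup

variable {G : Type*} [Group G]

theorem iterCommutator_normal (K : Subgroup G) [hK : K.Normal] :
    ∀ m, (Cfsg.iterCommutator K (⊤ : Subgroup G) m).Normal
  | 0 => hK
  | m + 1 => haveI := iterCommutator_normal K m; inferInstanceAs (⁅Cfsg.iterCommutator K (⊤ : Subgroup G) m, (⊤ : Subgroup G)⁆).Normal

theorem iterCommutator_succ' (K : Subgroup G) :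
    ∀ m, Cfsg.iterCommutator ⁅K, (⊤ : Subgroup G)⁆ (⊤ : Subgroup G) m = Cfsg.iterCommutator K ⊤ (m + 1)
  | 0 => rfl
  | m + 1 => congrArg (fun S => ⁅S, (⊤ : Subgroup G)⁆) (iterCommutator_succ' K m)

theorem commutator_lcs_le_iter : ∀ (m : ℕ) (K : Subgroup G) [K.Normal],
    ⁅K, (⊤ : Subgroup G).lowerCentralSeries m⁆ ≤ Cfsg.iterCommutator K ⊤ (m + 1)
  | 0, K, _ => le_of_eq rfl
  | m + 1, K, _ => by
    haveI := iterCommutator_normal K (m + 2)
    haveI : (⁅K, (⊤ : Subgroup G)⁆).Normal := inferInstance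
    rw [Subgroup.lowerCentralSeries_succ, commutator_comm]
    refine CfsgLib.ThreeSub82.commutator_commutator_le_of_rotate (Cfsg.iterCommutator K ⊤ (m + 2)) ?_ ?_
    · rw [commutator_comm (⊤ : Subgroup G) K]
      exact (commutator_lcs_le_iter m ⁅K, (⊤ : Subgroup G)⁆).trans (iterCommutator_succ' K (m + 1)).le
    · exact commutator_mono (commutator_lcs_le_iter m K) le_rfl

theorem iter_sup_card [Finite G] {p : ℕ} [Fact p.Prime] (hG : IsPGroup p G) (K L : Subgroup G) [K.Normal] [L.Normal]
    (hLK : L ≤ K) : ∀ m, Cfsg.iterCommutator K ⊤ m ≤ L ∨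
      p ^ m * Nat.card ↥(Cfsg.iterCommutator K ⊤ m ⊔ L) ≤ Nat.card K := by
  intro m
  induction m with
  | zero => exact Or.inr (by rw [pow_zero, one_mul, show Cfsg.iterCommutator K ⊤ 0 = K from rfl, sup_eq_left.mpr hLK])
  | succ m ih =>
    rcases ih with h | h
    · left
      show ⁅Cfsg.iterCommutator K ⊤ m, (⊤ : Subgroup G)⁆ ≤ L
      exact (commutator_mono h le_rfl).trans (commutator_le_left L ⊤)
    haveI := iterCommutator_normal K m
    haveI := iterCommutator_normal K (m + 1)
    set T := Cfsg.iterCommutator K ⊤ m ⊔ L with hT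
    set T' := Cfsg.iterCommutator K ⊤ (m + 1) ⊔ L with hT'
    have hle : Cfsg.iterCommutator K ⊤ (m + 1) ≤ Cfsg.iterCommutator K ⊤ m :=
      commutator_le_left _ (⊤ : Subgroup G)
    have hTT : T' ≤ T := sup_le_sup_right hle L
    have hrel := relIndex_mul_relIndex (⊥ : Subgroup G) T' T bot_le hTT
    simp only [relIndex_bot_left] at hrel
    by_cases heq : T' = T
    · left
      have hmap : (Cfsg.iterCommutator K ⊤ m).map (QuotientGroup.mk' L) =
          ⁅(Cfsg.iterCommutator K ⊤ m).map (QuotientGroup.mk' L), (⊤ : Subgroup (G ⧸ L))⁆ := by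
        have h1 := congrArg (Subgroup.map (QuotientGroup.mk' L)) heq
        rw [hT, hT', Subgroup.map_sup, Subgroup.map_sup, QuotientGroup.map_mk'_self, sup_bot_eq, sup_bot_eq] at h1
        conv_lhs => rw [← h1]
        show (⁅Cfsg.iterCommutator K ⊤ m, (⊤ : Subgroup G)⁆).map _ = _
        rw [Subgroup.map_commutator, map_top_of_surjective _ (QuotientGroup.mk'_surjective L)]
      haveI := hG.isNilpotent
      haveI : Group.IsNilpotent (G ⧸ L) := inferInstance
      obtain ⟨j, hj⟩ := Subgroup.nilpotent_iff_lowerCentralSeries.1 (inferInstance : Group.IsNilpotent (G ⧸ L))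
      have hall : ∀ i, (Cfsg.iterCommutator K ⊤ m).map (QuotientGroup.mk' L) ≤
          (⊤ : Subgroup (G ⧸ L)).lowerCentralSeries i := by
        intro i
        induction i with
        | zero => simp
        | succ i ih =>
          rw [Subgroup.lowerCentralSeries_succ, hmap]
          exact commutator_mono ih le_rfl
      refine hle.trans ?_
      have := hall j
      rwa [hj, le_bot_iff, Subgroup.map_eq_bot_iff, QuotientGroup.ker_mk'] at this
    · right
      have hp : p ∣ T'.relIndex T := by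
        obtain ⟨j, hj⟩ := (hG.to_subgroup T).index (T'.subgroupOf T)
        rcases j with _ | j
        · rw [pow_zero] at hj
          exact absurd (le_antisymm hTT (subgroupOf_eq_top.mp (index_eq_one.mp hj))) heq
        · rw [show T'.relIndex T = p ^ (j + 1) from hj, pow_succ]
          exact dvd_mul_left _ _
      calc p ^ (m + 1) * Nat.card T' = p ^ m * (Nat.card T' * p) := by ring
        _ ≤ p ^ m * (Nat.card T' * T'.relIndex T) := Nat.mul_le_mul_left _
            (Nat.mul_le_mul_left _ (Nat.le_of_dvd (Nat.pos_of_ne_zero index_ne_zero_of_finite) hp))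
        _ = p ^ m * Nat.card T := by rw [hrel]
        _ ≤ Nat.card K := h


/-- Let G be a finite p-group and n ≥ 1, and write γ_1(G) = G, γ_{k+1}(G) = [γ_k(G), G], and likewise γ_k(N) for a subgroup N. Let N be a normal subgroup of G contained in γ_n(G). If i > 1 and γ_{i+1}(N) ≠ 1, then |γ_i(N) : γ_{i+1}(N)| ≥ p^n. -/
theorem result {G : Type*} [Group G] [Finite G] {p : ℕ} [Fact p.Prime] (hG : IsPGroup p G) (n : ℕ) (hn : 1 ≤ n) (N : Subgroup G) [N.Normal] (hN : N ≤ (⊤ : Subgroup G).lowerCentralSeries (n - 1)) (i : ℕ) (hi : 1 < i) (hne : N.lowerCentralSeries i ≠ ⊥) : p ^ n ≤ (N.lowerCentralSeries i).relIndex (N.lowerCentralSeries (i - 1)) := by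
  have hp : p.Prime := Fact.out
  obtain ⟨n, rfl⟩ : ∃ n', n = n' + 1 := ⟨n - 1, by omega⟩
  obtain ⟨i, rfl⟩ : ∃ i', i = i' + 1 := ⟨i - 1, by omega⟩
  rw [add_tsub_cancel_right] at hN
  rw [show i + 1 - 1 = i from add_tsub_cancel_right i 1]
  set K := N.lowerCentralSeries i with hK
  set L := N.lowerCentralSeries (i + 1) with hL
  have hLK : L ≤ K := Subgroup.lowerCentralSeries_antitone (S := N) (Nat.le_succ i)
  have hn' : K.Normal := Subgroup.lowerCentralSeries_normal N i
  have hL' : L.Normal := Subgroup.lowerCentralSeries_normal N (i + 1)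
  haveI := iterCommutator_normal K (n + 1)
  have hrel := Subgroup.relIndex_mul_relIndex (⊥ : Subgroup G) L K bot_le hLK
  simp only [Subgroup.relIndex_bot_left] at hrel
  by_contra hlt
  push Not at hlt
  have key : Cfsg.iterCommutator K ⊤ n ≤ L := by
    rcases iter_sup_card hG K L hLK n with h | h
    · exact h
    have hT : Nat.card ↥(Cfsg.iterCommutator K ⊤ n ⊔ L) ≤ Nat.card L := by
      obtain ⟨a, ha⟩ := (hG.to_subgroup K).index (L.subgroupOf K)
      have ha' : L.relIndex K = p ^ a := ha
      rw [ha'] at hlt hrel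
      have han : a ≤ n := Nat.lt_succ_iff.mp ((Nat.pow_lt_pow_iff_right hp.one_lt).mp hlt)
      rw [← hrel, mul_comm (Nat.card L)] at h
      refine Nat.le_of_mul_le_mul_left (h.trans ?_) (pow_pos hp.pos n)
      exact Nat.mul_le_mul_right _ (Nat.pow_le_pow_right hp.pos han)
    exact le_sup_left.trans (Subgroup.eq_of_le_of_card_ge le_sup_right hT).ge
  have h1 : L ≤ ⁅L, (⊤ : Subgroup G)⁆ := by
    conv_lhs => rw [hL, Subgroup.lowerCentralSeries_succ]
    refine (Subgroup.commutator_mono le_rfl hN).trans ((commutator_lcs_le_iter n K).trans ?_)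
    exact Subgroup.commutator_mono key le_rfl
  haveI := hG.isNilpotent
  obtain ⟨j, hj⟩ := Subgroup.nilpotent_iff_lowerCentralSeries.1 (inferInstance : Group.IsNilpotent G)
  refine hne (le_bot_iff.mp ?_)
  rw [← hj]
  clear hj
  induction j with
  | zero => simp
  | succ j ih =>
    rw [Subgroup.lowerCentralSeries_succ]
    exact h1.trans (Subgroup.commutator_mono ih le_rfl)

end Cfsg.Agent.S3781
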