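import Cfsg.Statements.S3776
import Cfsg.Agent.Lib.Structure.SuzukiSolvable

set_option autoImplicit false
open Cfsg

namespace Cfsg.Agent.S3776

open scoped commutatorElement
open CfsgLib.SuzukiTwo (invols)

/-- Let G be a finite non-abelian 2-group with more than one involution admitting a solvable group of automorphisms that permutes its involutions transitively. Then the derived subgroup, the Frattini subgroup and the centre of G coincide and consist exactly of the elements x with x² = 1. -/
theorem result {G : Type*} [Group G] [Finite G] (hG : IsPGroup 2 G) (hna : ¬ IsMulCommutative G) (htwo : ∃ x y : G, x ≠ y ∧ x ≠ 1 ∧ x ^ 2 = 1 ∧ y ≠ 1 ∧ y ^ 2 = 1) (hY : ∃ Y : Subgroup (MulAut G), Group.IsSolvable Y ∧ ∀ x y : G, x ≠ 1 → x ^ 2 = 1 → y ≠ 1 → y ^ 2 = 1 → ∃ a ∈ Y, a x = y) : commutator G = frattini G ∧ frattini G = Subgroup.center G ∧ ∀ x : G, x ∈ Subgroup.center G ↔ x ^ 2 = 1 := by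
  classical
  obtain ⟨Y, hsol, htr⟩ := hY
  haveI : Finite (MulAut G) := Finite.of_injective (fun e : MulAut G => (e : G → G)) DFunLike.coe_injective
  obtain ⟨a, b, hab⟩ : ∃ x y : G, x * y ≠ y * x := by
    by_contra hc
    push Not at hc
    exact hna ⟨⟨hc⟩⟩
  have h : CfsgLib.SuzukiSolvable.Hyp G Y :=
    { isTwo := hG
      two := by simpa only [pow_two] using htwo
      trans := fun x y hx hx' hy hy' => by
        obtain ⟨k, hk, hkx⟩ := htr x y hx (by rw [pow_two, hx']) hy (by rw [pow_two, hy'])
        exact ⟨⟨k, hk⟩, hkx⟩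
      sol := hsol }
  obtain ⟨hsq, hcen⟩ := CfsgLib.SuzukiSolvable.main h ⟨a, b, hab⟩
  have hcomm : commutator G ≤ invols G := by
    rw [commutator_def, Subgroup.commutator_le]
    intro y _ z _
    rw [CfsgLib.SuzukiSolvable.commutator_eq_sq_mul]
    exact mul_mem (mul_mem (hsq y) (hsq _)) (hsq z⁻¹)
  have hne : commutator G ≠ ⊥ := fun e1 => hab (by
    rw [← commutatorElement_eq_one_iff_mul_comm, ← Subgroup.mem_bot, ← e1]
    exact Subgroup.commutator_mem_commutator (Subgroup.mem_top a) (Subgroup.mem_top b))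
  have hinv : ∀ k : Y, ∀ x ∈ commutator G, k • x ∈ commutator G := fun k x hx => by
    have := Subgroup.mem_map_of_mem (MulDistribMulAction.toMonoidHom G k) hx
    rw [commutator_def, Subgroup.map_commutator] at this
    exact Subgroup.commutator_mono le_top le_top this
  have hc : commutator G = invols G := le_antisymm hcomm (h.invols_le hinv hne)
  haveI : Fact (Nat.Prime 2) := ⟨Nat.prime_two⟩
  have hf : frattini G = invols G := le_antisymm
    (CfsgLib.PGroup.frattini_le_of (p := 2) _ hcomm fun x => by rw [pow_two]; exact hsq x)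
    (hc ▸ CfsgLib.PGroup.commutator_le_frattini hG)
  have hz : Subgroup.center G = invols G := le_antisymm
    (fun z hz => h.mem_invols.2 (hcen z hz)) h.invols_le_center
  refine ⟨hc.trans hf.symm, hf.trans hz.symm, fun x => ?_⟩
  rw [hz, pow_two]
  exact h.mem_invols

end Cfsg.Agent.S3776
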