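import Cfsg.Statements.S4033
import Cfsg.Agent.H79TwoClassMain
import Cfsg.Agent.Lib.Characters.Decomp

set_option autoImplicit false
open Cfsg

namespace Cfsg.Agent.S4033

open H79.TwoClass in
/-- The case of a single prime with noncentral elements. -/
theorem one_prime {G : Type*} [Group G] [Finite G] {p q : ℕ} (hp : p.Prime) [hq : Fact q.Prime]
    (hqp : q ≠ p) (hother : ∀ r, r.Prime → r ≠ p → r ≠ q → ∀ y : G, (∃ k, y ^ r ^ k = 1) →
      y ∈ Subgroup.center G) :
    ∃ (P : Sylow p G) (Q : Sylow q G) (A : Subgroup G),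
        A ≤ Subgroup.center G ∧ Nat.card ↥((P : Subgroup G) ⊔ (Q : Subgroup G)) = Nat.card P * Nat.card Q ∧
        ((P : Subgroup G) ⊔ (Q : Subgroup G)).Normal ∧
        ((P : Subgroup G) ⊔ (Q : Subgroup G)) ⊓ A = ⊥ ∧ ((P : Subgroup G) ⊔ (Q : Subgroup G)) ⊔ A = ⊤ := by
  classical
  haveI := Fact.mk hp
  obtain ⟨P⟩ : Nonempty (Sylow p G) := inferInstance
  obtain ⟨Q⟩ : Nonempty (Sylow q G) := inferInstance
  let A : Subgroup G :=
    { carrier := {z | z ∈ Subgroup.center G ∧ (orderOf z).Coprime (p * q)}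
      one_mem' := ⟨one_mem _, by rw [orderOf_one]; exact Nat.coprime_one_left _⟩
      mul_mem' := fun {a b} ha hb => ⟨mul_mem ha.1 hb.1,
        Nat.Coprime.coprime_dvd_left (show Commute a b from Subgroup.mem_center_iff.1 hb.1 a).orderOf_mul_dvd_mul_orderOf
          (Nat.Coprime.mul_left ha.2 hb.2)⟩
      inv_mem' := fun {a} ha => ⟨inv_mem ha.1, by rw [orderOf_inv]; exact ha.2⟩ }
  have hAc : A ≤ Subgroup.center G := fun a ha => ha.1
  haveI hAn : A.Normal := ⟨fun a ha g => by
    rw [Subgroup.mem_center_iff.1 ha.1 g, mul_inv_cancel_right]; exact ha⟩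
  have hAcop : ∀ l : ℕ, l.Prime → l ∣ Nat.card A → l ≠ p ∧ l ≠ q := by
    intro l hl hlA
    haveI := Fact.mk hl
    obtain ⟨a, ha⟩ := exists_prime_orderOf_dvd_card' (G := A) l hlA
    rw [← Subgroup.orderOf_coe] at ha
    have h1 := a.2.2
    rw [ha, Nat.coprime_mul_iff_right] at h1
    exact ⟨(Nat.coprime_primes hl hp).1 h1.1, (Nat.coprime_primes hl hq.out).1 h1.2⟩
  have hAidx : ∀ l : ℕ, l.Prime → l ∣ A.index → l = p ∨ l = q := by
    intro l hl hlA
    by_contra hne
    push Not at hne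
    haveI := Fact.mk hl
    obtain ⟨R⟩ : Nonempty (Sylow l G) := inferInstance
    refine R.not_dvd_index (hlA.trans (Subgroup.index_dvd_of_le fun u hu => ?_))
    obtain ⟨k, hk⟩ := R.isPGroup' ⟨u, hu⟩
    have hk' : u ^ l ^ k = 1 := congrArg Subtype.val hk
    exact ⟨hother l hl hne.1 hne.2 u ⟨k, hk'⟩, Nat.Coprime.coprime_dvd_left (orderOf_dvd_of_pow_eq_one hk')
      (Nat.Coprime.mul_right (((Nat.coprime_primes hl hp).2 hne.1).pow_left k)
        (((Nat.coprime_primes hl hq.out).2 hne.2).pow_left k))⟩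
  have hcop : (Nat.card A).Coprime A.index := Nat.coprime_of_dvd fun l hl h1 h2 => by
    rcases hAidx l hl h2 with rfl | rfl
    exacts [(hAcop l hl h1).1 rfl, (hAcop l hl h1).2 rfl]
  obtain ⟨K, hK⟩ := Subgroup.exists_right_complement'_of_coprime hcop
  have hKA : ∀ g : G, ∃ a ∈ A, ∃ k ∈ K, a * k = g := fun g => by
    obtain ⟨⟨⟨a, ha⟩, ⟨k, hk⟩⟩, h⟩ := hK.2 g
    exact ⟨a, ha, k, hk, h⟩
  haveI hKn : K.Normal := ⟨fun k hk g => by
    obtain ⟨a, ha, k', hk', rfl⟩ := hKA g
    have hc := Subgroup.mem_center_iff.1 (hAc ha)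
    rw [show a * k' * k * (a * k')⁻¹ = a * (k' * k * k'⁻¹) * a⁻¹ by group, ← hc, mul_inv_cancel_right]
    exact mul_mem (mul_mem hk' hk) (inv_mem hk')⟩
  have hle : ∀ {l : ℕ} [Fact l.Prime], (l = p ∨ l = q) → ∀ S : Sylow l G, (S : Subgroup G) ≤ K := by
    intro l hl hlpq S u hu
    have h1 : orderOf (QuotientGroup.mk' K u) ∣ 1 := by
      obtain ⟨k, hk⟩ := S.isPGroup' ⟨u, hu⟩
      have hcard : Nat.card (G ⧸ K) = Nat.card A := by rw [← Subgroup.index_eq_card, hK.index_eq_card]
      have h2 : orderOf (QuotientGroup.mk' K u) ∣ Nat.gcd (l ^ k) (Nat.card A) :=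
        Nat.dvd_gcd ((orderOf_map_dvd _ u).trans (orderOf_dvd_of_pow_eq_one (congrArg Subtype.val hk :)))
          (hcard ▸ orderOf_dvd_natCard _)
      rwa [Nat.Coprime.gcd_eq_one (Nat.Coprime.pow_left k ((hl.out.coprime_iff_not_dvd).2 fun h => by
        rcases hlpq with rfl | rfl
        exacts [(hAcop l hl.out h).1 rfl, (hAcop l hl.out h).2 rfl]))] at h2
    rw [Nat.dvd_one, orderOf_eq_one_iff] at h1
    exact (QuotientGroup.eq_one_iff u).1 h1
  have hKidx : ∀ l : ℕ, l.Prime → l ∣ Nat.card K → l = p ∨ l = q := fun l hl h => by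
    rw [← hK.symm.index_eq_card] at h
    exact hAidx l hl h
  have hPQK : (P : Subgroup G) ⊔ Q ≤ K := sup_le (hle (Or.inl rfl) P) (hle (Or.inr rfl) Q)
  have hcopPQ : (Nat.card P).Coprime (Nat.card Q) :=
    IsPGroup.coprime_card_of_ne p q hqp.symm _ _ P.isPGroup' Q.isPGroup'
  have hKdvd : Nat.card K ∣ Nat.card P * Nat.card Q := by
    rw [Nat.dvd_iff_prime_pow_dvd_dvd]
    intro l j hl hlj
    rcases Nat.eq_zero_or_pos j with rfl | hj
    · rw [pow_zero]; exact one_dvd _
    haveI := Fact.mk hl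
    have h1 : l ^ j ∣ Nat.card G := hlj.trans K.card_subgroup_dvd_card
    have h2 : j ≤ (Nat.card G).factorization l := (hl.pow_dvd_iff_le_factorization Nat.card_pos.ne').1 h1
    rcases hKidx l hl ((dvd_pow_self l hj.ne').trans hlj) with rfl | rfl
    · exact (pow_dvd_pow l h2).trans (P.card_eq_multiplicity ▸ dvd_mul_right _ _)
    · exact (pow_dvd_pow l h2).trans (Q.card_eq_multiplicity ▸ dvd_mul_left _ _)
  have heq : (P : Subgroup G) ⊔ Q = K := by
    refine Subgroup.eq_of_le_of_card_ge hPQK (Nat.le_of_dvd Nat.card_pos (hKdvd.trans ?_))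
    exact hcopPQ.mul_dvd_of_dvd_of_dvd (Subgroup.card_dvd_of_le le_sup_left)
      (Subgroup.card_dvd_of_le le_sup_right)
  refine ⟨P, Q, A, hAc, ?_, heq.symm ▸ hKn, ?_, ?_⟩
  · refine Nat.dvd_antisymm (heq.symm ▸ hKdvd) ?_
    exact hcopPQ.mul_dvd_of_dvd_of_dvd (Subgroup.card_dvd_of_le le_sup_left)
      (Subgroup.card_dvd_of_le le_sup_right)
  · rw [heq, inf_comm]; exact hK.disjoint.eq_bot
  · rw [heq, sup_comm]; exact hK.sup_eq_top

/-- Let G be a finite group and p a prime, and suppose the conjugacy classes of p-regular elements of G (elements of order prime to p) have exactly two distinct sizes. Then either G has an abelian p-complement (an abelian subgroup of order prime to p and p-power index), or there are a prime q ≠ p, a Sylow p-subgroup P, a Sylow q-subgroup Q and a central subgroup A such that PQ is a normal subgroup of order #P·#Q and G is the internal direct product PQ × A. -/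
theorem result {G : Type*} [Group G] [Finite G] {p : ℕ} (hp : p.Prime)
    (h2 : Set.ncard (Set.range fun x : {x : G // (orderOf x).Coprime p} => (ConjClasses.mk (x : G)).carrier.ncard) = 2) :
    (∃ H : Subgroup G, IsMulCommutative H ∧ ¬ p ∣ Nat.card H ∧ ∃ k : ℕ, H.index = p ^ k) ∨
    (∃ (q : ℕ) (_ : Fact q.Prime) (P : Sylow p G) (Q : Sylow q G) (A : Subgroup G), q ≠ p ∧
        A ≤ Subgroup.center G ∧ Nat.card ↥((P : Subgroup G) ⊔ (Q : Subgroup G)) = Nat.card P * Nat.card Q ∧
        ((P : Subgroup G) ⊔ (Q : Subgroup G)).Normal ∧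
        ((P : Subgroup G) ⊔ (Q : Subgroup G)) ⊓ A = ⊥ ∧ ((P : Subgroup G) ⊔ (Q : Subgroup G)) ⊔ A = ⊤) := by
  classical
  haveI := Fact.mk hp
  set f : {x : G // (orderOf x).Coprime p} → ℕ := fun x => (ConjClasses.mk (x : G)).carrier.ncard
  have hidx : ∀ x, f x = (H79.TwoClass.C (x : G)).index := fun x => by
    rw [← CfsgLib.Characters.card_isConj_eq_index, ← Nat.card_congr (Equiv.subtypeEquivRight fun g => by
      rw [ConjClasses.mem_carrier_iff_mk_eq, ConjClasses.mk_eq_mk_iff_isConj]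
      exact isConj_comm : {g // g ∈ (ConjClasses.mk (x : G)).carrier} ≃ {g : G // IsConj (x : G) g})]
    exact (Nat.card_coe_set_eq _).symm
  have hne1 : ∀ x : {x : G // (orderOf x).Coprime p}, (x : G) ∉ Subgroup.center G → f x ≠ 1 := fun x hx h => by
    rw [hidx, Subgroup.index_eq_one] at h
    refine hx (Subgroup.mem_center_iff.2 fun g => ?_)
    exact Subgroup.mem_centralizer_singleton_iff.1 (show g ∈ H79.TwoClass.C (x : G) from h ▸ Subgroup.mem_top g)
  let e1 : {x : G // (orderOf x).Coprime p} := ⟨1, by rw [orderOf_one]; exact Nat.coprime_one_left _⟩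
  have h1r : (1 : ℕ) ∈ Set.range f := ⟨e1, by
    rw [hidx, Subgroup.index_eq_one, eq_top_iff]
    exact fun g _ => Subgroup.mem_centralizer_singleton_iff.2 (by simp [e1])⟩
  have hcard : ∀ x y : G, H79.TwoClass.Nc p x → H79.TwoClass.Nc p y →
      Nat.card (H79.TwoClass.C x) = Nat.card (H79.TwoClass.C y) := by
    intro x y hx hy
    by_contra hne
    have hne' : f ⟨x, hx.1⟩ ≠ f ⟨y, hy.1⟩ := by
      intro h
      rw [hidx, hidx] at h
      apply hne
      refine Nat.eq_of_mul_eq_mul_right (Nat.pos_of_ne_zero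
        (Subgroup.index_ne_zero_of_finite (H := H79.TwoClass.C x))) ?_
      rw [(H79.TwoClass.C x).card_mul_index, h, (H79.TwoClass.C y).card_mul_index]
    have hsub : ({1, f ⟨x, hx.1⟩, f ⟨y, hy.1⟩} : Set ℕ) ⊆ Set.range f := by
      intro a ha
      rcases ha with rfl | rfl | rfl
      exacts [h1r, ⟨_, rfl⟩, ⟨_, rfl⟩]
    have h3 := Set.ncard_le_ncard hsub (Set.finite_range f)
    rw [show Set.range f = Set.range fun x : {x : G // (orderOf x).Coprime p} =>
      (ConjClasses.mk (x : G)).carrier.ncard from rfl, h2,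
      Set.ncard_eq_three.2 ⟨_, _, _, (hne1 ⟨x, hx.1⟩ hx.2).symm, (hne1 ⟨y, hy.1⟩ hy.2).symm, hne', rfl⟩] at h3
    omega
  -- some noncentral regular element
  obtain ⟨q, hrel⟩ : ∃ q, H79.TwoClass.Rel p q G := by
    by_contra hno
    push Not at hno
    have hall : ∀ x : {x : G // (orderOf x).Coprime p}, (x : G) ∈ Subgroup.center G := fun x => by
      refine H79.FpfMod.le_of_primary (B := Subgroup.zpowers (x : G)) (fun z hz l k hl hlk => ?_)
        (Subgroup.mem_zpowers _)
      by_contra hzc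
      by_cases hlp : l = p
      · have h := (H79.TwoClass.PR.pow (p := p) x.2 hz)
        unfold H79.TwoClass.PR at h
        rw [hlk, hlp] at h
        rcases Nat.eq_zero_or_pos k with rfl | hk
        · rw [pow_zero, orderOf_eq_one_iff] at hlk
          exact hzc (hlk ▸ one_mem _)
        · rw [Nat.coprime_pow_left_iff hk, Nat.coprime_self] at h
          exact hp.ne_one h
      · exact hno l ⟨hl, hlp, z, hzc, k, hlk ▸ pow_orderOf_eq_one z⟩
    have : Set.range f = {1} := by
      refine Set.eq_singleton_iff_unique_mem.2 ⟨h1r, ?_⟩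
      rintro _ ⟨x, rfl⟩
      rw [hidx, Subgroup.index_eq_one, eq_top_iff]
      exact fun g _ => Subgroup.mem_centralizer_singleton_iff.2 (Subgroup.mem_center_iff.1 (hall x) g)
    rw [show (Set.range fun x : {x : G // (orderOf x).Coprime p} =>
      (ConjClasses.mk (x : G)).carrier.ncard) = {1} from this, Set.ncard_singleton] at h2
    omega
  by_cases htwo : ∃ r, r ≠ q ∧ H79.TwoClass.Rel p r G
  · left
    obtain ⟨r, hrq, hrel'⟩ := htwo
    have cf : H79.TwoClass.Cfg p G := H79.TwoClass.Cfg.of_hcard hp hcard fun l => by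
      by_cases h : q = l
      · exact ⟨r, h ▸ hrq, hrel'⟩
      · exact ⟨q, h, hrel⟩
    obtain ⟨x, hx, hall, hsyl⟩ := cf.exists_single
    exact H79.TwoClass.Single.exists_complement ⟨cf, hx, hall, hsyl⟩
  · right
    push Not at htwo
    haveI := Fact.mk hrel.1
    obtain ⟨P, Q, A, h⟩ := one_prime (q := q) hp hrel.2.1 (fun r hr hrp hrq y hy => by
      by_contra hyc
      exact htwo r hrq ⟨hr, hrp, y, hyc, hy⟩)
    exact ⟨q, inferInstance, P, Q, A, hrel.2.1, h⟩

end Cfsg.Agent.S4033
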