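import Cfsg.Statements.S4160
import Cfsg.Agent.Lib.Transfer.NormalComplement

set_option autoImplicit false
set_option linter.style.haveILetI false
open Cfsg

namespace Cfsg.Agent.S4160

open Subgroup

/-- If `N_G(P) ≠ C_G(P)`, the non-central elements centralised by a conjugate of `P` fill less than
half of the group, with room for two copies of the centre. -/
theorem card_centralized {G : Type*} [Group G] [Finite G] (P : Subgroup G)
    (hP : ¬ normalizer (P : Set G) ≤ centralizer (P : Set G)) :
    2 * ({x : G | (∃ g : G, g * x * g⁻¹ ∈ centralizer (P : Set G)) ∧ x ∉ center G}).ncard +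
      2 * Nat.card (center G) ≤ Nat.card G := by
  classical
  set C := centralizer (P : Set G) with hC
  set N := normalizer (P : Set G) with hN
  have hCN : C ≤ N := centralizer_le_normalizer _
  have hZC : (center G : Set G) ⊆ C := center_le_centralizer _
  set W := {x : G | (∃ g : G, g * x * g⁻¹ ∈ C) ∧ x ∉ center G} with hW
  let f : (G ⧸ N) × ((C : Set G) \ (center G : Set G) : Set G) → G :=
    fun u => u.1.out * u.2 * u.1.out⁻¹
  have hsub : W ⊆ Set.range f := by
    rintro x ⟨⟨g, hg⟩, hxZ⟩
    obtain ⟨⟨n, hn⟩, hn'⟩ := QuotientGroup.mk_out_eq_mul N g⁻¹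
    have hmem : n⁻¹ * (g * x * g⁻¹) * n ∈ C := by
      rw [hC, mem_centralizer_iff]
      intro y hy
      have h1 : n * y * n⁻¹ ∈ P := (mem_normalizer_iff.1 hn y).1 hy
      have h2 := mem_centralizer_iff.1 (hC ▸ hg) _ h1
      calc y * (n⁻¹ * (g * x * g⁻¹) * n)
          = n⁻¹ * (n * y * n⁻¹ * (g * x * g⁻¹)) * n := by group
        _ = n⁻¹ * (g * x * g⁻¹ * (n * y * n⁻¹)) * n := by rw [h2]
        _ = n⁻¹ * (g * x * g⁻¹) * n * y := by group
    refine ⟨(((g⁻¹ : G) : G ⧸ N), ⟨n⁻¹ * (g * x * g⁻¹) * n, hmem, fun hz => hxZ ?_⟩), ?_⟩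
    · have h3 := (inferInstance : (center G).Normal).conj_mem _ hz (g⁻¹ * n)
      convert h3 using 1
      group
    · show ((g⁻¹ : G) : G ⧸ N).out * _ * ((g⁻¹ : G) : G ⧸ N).out⁻¹ = x
      rw [hn']
      group
  have h1 : W.ncard ≤ N.index * ((Nat.card C) - Nat.card (center G)) := by
    refine (Set.ncard_le_ncard hsub).trans ?_
    rw [← Nat.card_coe_set_eq]
    refine (Finite.card_range_le f).trans ?_
    rw [Nat.card_prod, ← index_eq_card, Nat.card_coe_set_eq, Set.ncard_sdiff hZC]
    exact le_of_eq rfl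
  have h2 : 2 * Nat.card C ≤ Nat.card N := by
    have hm := (C.subgroupOf N).card_mul_index
    rw [Nat.card_congr (subgroupOfEquivOfLe hCN).toEquiv] at hm
    have : 2 ≤ (C.subgroupOf N).index := one_lt_index_of_ne_top fun ht => hP (subgroupOf_eq_top.1 ht)
    rw [← hm, mul_comm 2]
    exact Nat.mul_le_mul_left _ this
  have h3 : 0 < N.index := Nat.pos_of_ne_zero index_ne_zero_of_finite
  have h4 : Nat.card (center G) ≤ Nat.card C := Subgroup.card_le_of_le hZC
  calc 2 * W.ncard + 2 * Nat.card (center G)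
      ≤ 2 * (N.index * (Nat.card C - Nat.card (center G))) + 2 * (N.index * Nat.card (center G)) :=
        Nat.add_le_add (Nat.mul_le_mul_left 2 h1)
          (Nat.mul_le_mul_left 2 (Nat.le_mul_of_pos_left _ h3))
    _ = N.index * (2 * Nat.card C) := by
        rw [← mul_add, ← mul_add, Nat.sub_add_cancel h4]; ring
    _ ≤ N.index * Nat.card N := Nat.mul_le_mul_left _ h2
    _ = Nat.card G := index_mul_card N

/-- An element whose class size is prime to `p` is centralised by a conjugate of every Sylow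
`p`-subgroup. -/
theorem exists_conj_mem_centralizer {G : Type*} [Group G] [Finite G] {p : ℕ} [Fact p.Prime]
    (P : Sylow p G) {x : G} (hx : ¬ p ∣ (centralizer ({x} : Set G)).index) :
    ∃ g : G, g * x * g⁻¹ ∈ centralizer ((P : Subgroup G) : Set G) := by
  set C := centralizer ({x} : Set G) with hCdef
  obtain ⟨Q⟩ := (inferInstance : Nonempty (Sylow p C))
  have hcard : Nat.card ((Q : Subgroup C).map C.subtype) = p ^ (Nat.card G).factorization p := by
    rw [Subgroup.card_map_of_injective C.subtype_injective]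
    refine Q.card_eq_multiplicity.trans ?_
    congr 1
    rw [← C.card_mul_index, Nat.factorization_mul Nat.card_pos.ne' index_ne_zero_of_finite,
      Finsupp.add_apply, Nat.factorization_eq_zero_of_not_dvd hx, add_zero]
  obtain ⟨g, hg⟩ := MulAction.exists_smul_eq G (Sylow.ofCard _ hcard) P
  refine ⟨g, ?_⟩
  rw [mem_centralizer_iff]
  intro q hq
  rw [← hg] at hq
  obtain ⟨y, hy, rfl⟩ := hq
  obtain ⟨y', -, rfl⟩ := hy
  have hyx : (y' : G) * x = x * y' := mem_centralizer_singleton_iff.1 y'.2
  show g * (y' : G) * g⁻¹ * (g * x * g⁻¹) = g * x * g⁻¹ * (g * y' * g⁻¹)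
  calc g * (y' : G) * g⁻¹ * (g * x * g⁻¹) = g * ((y' : G) * x) * g⁻¹ := by group
    _ = g * (x * y') * g⁻¹ := by rw [hyx]
    _ = _ := by group


/-- Let G be a finite group and p ≠ q primes each dividing the size of some conjugacy class of G, such that no conjugacy class size is divisible by pq. Then G has a normal p-complement or a normal q-complement. -/
theorem result {G : Type*} [Group G] [Finite G] (p q : ℕ) (hp : p.Prime) (hq : q.Prime) (hpq : p ≠ q)
    (hp' : ∃ x : G, p ∣ (Subgroup.centralizer ({x} : Set G)).index) (hq' : ∃ x : G, q ∣ (Subgroup.centralizer ({x} : Set G)).index) (h : ∀ x : G, ¬ p * q ∣ (Subgroup.centralizer ({x} : Set G)).index) :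
    Cfsg.HasNormalPComplement p G ∨ Cfsg.HasNormalPComplement q G := by
  haveI := Fact.mk hp
  haveI := Fact.mk hq
  by_contra hcon
  push Not at hcon
  obtain ⟨P⟩ := (inferInstance : Nonempty (Sylow p G))
  obtain ⟨Q⟩ := (inferInstance : Nonempty (Sylow q G))
  have hP := card_centralized (P : Subgroup G) fun hle =>
    hcon.1 (CfsgLib.Transfer.hasNormalPComplement_of_normalizer_le P hle)
  have hQ := card_centralized (Q : Subgroup G) fun hle =>
    hcon.2 (CfsgLib.Transfer.hasNormalPComplement_of_normalizer_le Q hle)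
  have hsub : (Set.univ : Set G) ⊆
      {x : G | (∃ g : G, g * x * g⁻¹ ∈ Subgroup.centralizer ((P : Subgroup G) : Set G)) ∧
        x ∉ Subgroup.center G} ∪
      {x : G | (∃ g : G, g * x * g⁻¹ ∈ Subgroup.centralizer ((Q : Subgroup G) : Set G)) ∧
        x ∉ Subgroup.center G} ∪ (Subgroup.center G : Set G) := by
    intro x _
    by_cases hxZ : x ∈ Subgroup.center G
    · exact Or.inr hxZ
    by_cases hxp : p ∣ (Subgroup.centralizer ({x} : Set G)).index
    · refine Or.inl (Or.inr ⟨exists_conj_mem_centralizer Q fun hxq => h x ?_, hxZ⟩)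
      exact ((Nat.coprime_primes hp hq).2 hpq).mul_dvd_of_dvd_of_dvd hxp hxq
    · exact Or.inl (Or.inl ⟨exists_conj_mem_centralizer P hxp, hxZ⟩)
  have h1 := (Set.ncard_le_ncard hsub).trans
    ((Set.ncard_union_le _ _).trans (Nat.add_le_add_right (Set.ncard_union_le _ _) _))
  rw [Set.ncard_univ, ← Nat.card_coe_set_eq (Subgroup.center G : Set G), SetLike.coe_sort_coe] at h1
  have h0 : 0 < Nat.card (Subgroup.center G) := Nat.card_pos
  omega

end Cfsg.Agent.S4160
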