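import Cfsg.Statements.S4035
import Cfsg.Agent.H79Basic

set_option autoImplicit false
open Cfsg

namespace Cfsg.Agent.S4035

theorem eq_top_of_conjugates_cover {G : Type*} [Group G] [Finite G] (H : Subgroup G)
    (h : ∀ g : G, ∃ t : G, t⁻¹ * g * t ∈ H) : H = ⊤ := by
  classical
  rw [← Subgroup.index_eq_one]
  let _ := Fintype.ofFinite G
  let _ := Fintype.ofFinite (G ⧸ H)
  let _ := Fintype.ofFinite (Quotient (MulAction.orbitRel G (G ⧸ H)))
  have hB := MulAction.sum_card_fixedBy_eq_card_orbits_mul_card_group G (G ⧸ H)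
  have hsub : Subsingleton (Quotient (MulAction.orbitRel G (G ⧸ H))) := MulAction.pretransitive_iff_subsingleton_quotient G (G ⧸ H) |>.1 inferInstance
  have horb : Fintype.card (Quotient (MulAction.orbitRel G (G ⧸ H))) = 1 :=
    le_antisymm (Fintype.card_le_one_iff_subsingleton.2 hsub)
      (Fintype.card_pos_iff.2 ⟨Quotient.mk'' (QuotientGroup.mk (1 : G))⟩)
  rw [horb, one_mul] at hB
  have hge : ∀ g : G, 1 ≤ Fintype.card (MulAction.fixedBy (G ⧸ H) g) := by
    intro g
    obtain ⟨t, ht⟩ := h g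
    refine Fintype.card_pos_iff.2 ⟨⟨QuotientGroup.mk t, ?_⟩⟩
    rw [MulAction.mem_fixedBy]
    show (QuotientGroup.mk (g * t) : G ⧸ H) = QuotientGroup.mk t
    rw [QuotientGroup.eq]
    have := H.inv_mem ht
    simpa [mul_assoc] using this
  by_contra hne
  have h1 : 1 < Fintype.card (MulAction.fixedBy (G ⧸ H) (1 : G)) := by
    have hi : H.index = Fintype.card (G ⧸ H) := by rw [Subgroup.index, Nat.card_eq_fintype_card]
    have h0 : H.index ≠ 0 := Subgroup.index_ne_zero_of_finite
    have : Fintype.card (MulAction.fixedBy (G ⧸ H) (1 : G)) = Fintype.card (G ⧸ H) := by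
      simp
    omega
  have hlt : ∑ _g : G, 1 < ∑ g : G, Fintype.card (MulAction.fixedBy (G ⧸ H) g) :=
    Finset.sum_lt_sum (fun g _ => hge g) ⟨1, Finset.mem_univ 1, h1⟩
  rw [hB] at hlt
  simp at hlt


/-- Let G be a finite group and p a prime such that p divides the size of no conjugacy class of p-regular elements (elements of order prime to p). Then G is the internal direct product of a Sylow p-subgroup P and a normal subgroup H of order prime to p: P is normal, P ⊓ H = 1 and PH = G. -/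
theorem result {G : Type*} [Group G] [Finite G] {p : ℕ} [Fact p.Prime]
    (h : ∀ x : G, (orderOf x).Coprime p → ¬ p ∣ (ConjClasses.mk x).carrier.ncard) (P : Sylow p G) :
    (P : Subgroup G).Normal ∧ ∃ H : Subgroup G, H.Normal ∧ ¬ p ∣ Nat.card H ∧
      (P : Subgroup G) ⊓ H = ⊥ ∧ (P : Subgroup G) ⊔ H = ⊤ := by
  classical
  have hp := (Fact.out : p.Prime)
  set C := Subgroup.centralizer ((P : Subgroup G) : Set G) with hC
  have hCn : C ≤ Subgroup.normalizer ((P : Subgroup G) : Set G) := Subgroup.centralizer_le_normalizer _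
  set T := (P : Subgroup G) ⊔ C with hT
  have hTtop : T = ⊤ := by
    apply eq_top_of_conjugates_cover
    intro g
    -- split g
    obtain ⟨a, m, hm, ho⟩ : ∃ a m : ℕ, ¬ p ∣ m ∧ orderOf g = p ^ a * m :=
      Nat.exists_eq_pow_mul_and_not_dvd (orderOf_pos g).ne' p hp.ne_one
    have hm0 : m ≠ 0 := by
      rintro rfl
      exact hm (dvd_zero p)
    set u := g ^ m with hu
    set x := g ^ (p ^ a) with hx
    have hux : orderOf u = p ^ a := by
      rw [hu, orderOf_pow' g hm0, ho, Nat.gcd_eq_right (dvd_mul_left m _), Nat.mul_div_cancel _ (Nat.pos_of_ne_zero hm0)]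
    have hxo : orderOf x = m := by
      rw [hx, orderOf_pow' g (pow_ne_zero a hp.ne_zero), ho, Nat.gcd_eq_right (dvd_mul_right _ m), Nat.mul_div_cancel_left _ (pow_pos hp.pos a)]
    have hxp : (orderOf x).Coprime p := by
      rw [hxo]; exact ((hp.coprime_iff_not_dvd).2 hm).symm
    set D := Subgroup.centralizer ({x} : Set G) with hD
    have hidx : ¬ p ∣ D.index := by
      have := h x hxp
      rwa [← ConjAct.orbit_eq_carrier_conjClasses,
        ← MulAction.index_stabilizer (ConjAct G) (x : G), ConjAct.stabilizer_eq_centralizer] at this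
    have huD : u ∈ D := H79.mem_centralizer_singleton.2 (by rw [hu, hx, ← pow_add, ← pow_add, add_comm])
    have hUp : IsPGroup p (Subgroup.zpowers (⟨u, huD⟩ : D)) :=
      IsPGroup.of_card (n := a) (by rw [Nat.card_zpowers, Subgroup.orderOf_mk, hux])
    obtain ⟨R, hR⟩ := hUp.exists_le_sylow
    set R' := (R : Subgroup D).map D.subtype with hR'
    have hR'p : IsPGroup p R' := R.isPGroup'.map _
    have hR'idx : ¬ p ∣ R'.index := by
      rw [hR', Subgroup.index_map_subtype]
      intro hd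
      rcases hp.dvd_mul.1 hd with h' | h'
      · exact R.not_dvd_index h'
      · exact hidx h'
    obtain ⟨t, ht⟩ := MulAction.exists_smul_eq G P (hR'p.toSylow hR'idx)
    have hts : ∀ z, z ∈ R' → t⁻¹ * z * t ∈ (P : Subgroup G) := by
      intro z hz
      have hz' : z ∈ (↑(t • P) : Subgroup G) := by
        rw [ht]; exact hz
      have := (Subgroup.mem_pointwise_smul_iff_inv_smul_mem (a := MulAut.conj t) (S := (P : Subgroup G))).1 hz'
      simpa [MulAut.conj_inv_apply, MulAut.smul_def] using this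
    have hxC : t⁻¹ * x * t ∈ C := by
      rw [hC, Subgroup.mem_centralizer_iff]
      intro s hs
      have hs' : t * s * t⁻¹ ∈ (↑(hR'p.toSylow hR'idx) : Subgroup G) := by
        rw [← ht, Sylow.smul_def]
        exact ⟨s, hs, by simp⟩
      have hsD : t * s * t⁻¹ ∈ D := Subgroup.map_subtype_le _ (show t * s * t⁻¹ ∈ R' from hs')
      have h1 := H79.mem_centralizer_singleton.1 hsD
      calc s * (t⁻¹ * x * t) = t⁻¹ * ((t * s * t⁻¹) * x) * t := by group
        _ = t⁻¹ * (x * (t * s * t⁻¹)) * t := by rw [h1]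
        _ = t⁻¹ * x * t * s := by group
    have huP : t⁻¹ * u * t ∈ (P : Subgroup G) :=
      hts u ⟨⟨u, huD⟩, hR (Subgroup.mem_zpowers _), rfl⟩
    refine ⟨t, ?_⟩
    -- g is a product of powers of u and x
    have hcop : Nat.Coprime (p ^ a) m := Nat.Coprime.pow_left _ ((hp.coprime_iff_not_dvd).2 hm)
    have e1 : (1 : ℤ) = (p ^ a : ℕ) * Nat.gcdA (p ^ a) m + (m : ℤ) * Nat.gcdB (p ^ a) m := by
      rw [← Nat.gcd_eq_gcd_ab, hcop.gcd_eq_one, Nat.cast_one]
    have e2 : g = x ^ Nat.gcdA (p ^ a) m * u ^ Nat.gcdB (p ^ a) m := by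
      rw [hu, hx, ← zpow_natCast, ← zpow_natCast g m, ← zpow_mul, ← zpow_mul, ← zpow_add, ← e1, zpow_one]
    rw [e2]
    have e3 : t⁻¹ * (x ^ Nat.gcdA (p ^ a) m * u ^ Nat.gcdB (p ^ a) m) * t =
        (t⁻¹ * x * t) ^ Nat.gcdA (p ^ a) m * (t⁻¹ * u * t) ^ Nat.gcdB (p ^ a) m := by
      have cz : ∀ (z : G) (i : ℤ), (t⁻¹ * z * t) ^ i = t⁻¹ * z ^ i * t := fun z i => by
        simpa using conj_zpow (i := i) (a := t⁻¹) (b := z)
      rw [cz, cz]; group
    rw [e3]
    exact T.mul_mem (Subgroup.mem_sup_right (C.zpow_mem hxC _)) (Subgroup.mem_sup_left (Subgroup.zpow_mem _ huP _))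
  have hPn : (P : Subgroup G).Normal := by
    rw [← Subgroup.normalizer_eq_top_iff, eq_top_iff, ← hTtop, hT]
    exact sup_le Subgroup.le_normalizer hCn
  refine ⟨hPn, ?_⟩
  obtain ⟨H, hH⟩ := Subgroup.exists_right_complement'_of_coprime (N := (P : Subgroup G)) P.card_coprime_index
  have hcard : Nat.card H = (P : Subgroup G).index := hH.symm.index_eq_card.symm
  have hpH : ¬ p ∣ Nat.card H := hcard ▸ P.not_dvd_index
  have hCnormal : C.Normal := by rw [hC]; infer_instance
  have hHC : H ≤ C := by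
    intro k hk
    rw [← QuotientGroup.eq_one_iff (N := C), ← orderOf_eq_one_iff]
    have hkT : k ∈ (P : Subgroup G) ⊔ C := by
      rw [← hT, hTtop]; trivial
    obtain ⟨u, hu, c, hc, rfl⟩ := Subgroup.mem_sup_of_normal_right.1 hkT
    obtain ⟨e, he⟩ := IsPGroup.iff_orderOf.1 P.isPGroup' ⟨u, hu⟩
    rw [Subgroup.orderOf_mk] at he
    refine Nat.eq_one_of_dvd_coprimes (Nat.Coprime.pow_left e ((hp.coprime_iff_not_dvd).2 hpH)) ?_ ((orderOf_map_dvd (QuotientGroup.mk' C) _).trans (Subgroup.orderOf_dvd_natCard _ hk))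
    rw [QuotientGroup.mk_mul, (QuotientGroup.eq_one_iff c).2 hc, mul_one, ← he]
    exact orderOf_map_dvd (QuotientGroup.mk' C) u
  refine ⟨H, ⟨fun k hk g => ?_⟩, hpH, hH.disjoint.eq_bot, hH.sup_eq_top⟩
  have hg : g ∈ (P : Subgroup G) ⊔ H := hH.sup_eq_top ▸ Subgroup.mem_top g
  obtain ⟨u, hu, k', hk', rfl⟩ := Subgroup.mem_sup_of_normal_left.1 hg
  have hmem : k' * k * k'⁻¹ ∈ H := H.mul_mem (H.mul_mem hk' hk) (H.inv_mem hk')
  rw [show u * k' * k * (u * k')⁻¹ = u * (k' * k * k'⁻¹) * u⁻¹ by group,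
    Subgroup.mem_centralizer_iff.1 (hHC hmem) u hu, mul_inv_cancel_right]
  exact hmem

end Cfsg.Agent.S4035
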