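import Cfsg.Statements.S4134
import Cfsg.Agent.Lib.ClassSize.EqualPartition
import Cfsg.Agent.Lib.OddOrder41.NormalElementary

set_option autoImplicit false
set_option linter.style.haveILetI false


open Cfsg

namespace Cfsg.Agent.S4134

open Subgroup

theorem mem_of_coprime_pow_mem {G : Type*} [Group G] (K : Subgroup G) {c : G} {a b : ℕ}
    (hab : a.Coprime b) (ha : c ^ a ∈ K) (hb : c ^ b ∈ K) : c ∈ K := by
  have h := mul_mem (K.zpow_mem ha (Nat.gcdA a b)) (K.zpow_mem hb (Nat.gcdB a b))
  rw [← zpow_natCast, ← zpow_natCast, ← zpow_mul, ← zpow_mul, ← zpow_add, ← Nat.gcd_eq_gcd_ab,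
    hab.gcd_eq_one] at h
  simpa using h

theorem exists_primePow_pow_notMem {G : Type*} [Group G] [Finite G] (Z : Subgroup G) {g : G}
    (hg : g ∉ Z) : ∃ i q k : ℕ, q.Prime ∧ orderOf (g ^ i) = q ^ k ∧ g ^ i ∉ Z := by
  classical
  have hex : ∃ d, ∃ i, g ^ i ∉ Z ∧ orderOf (g ^ i) = d := ⟨orderOf g, 1, by simpa using hg, by simp⟩
  obtain ⟨i, hi, hd⟩ := Nat.find_spec hex
  have hmin : ∀ j, g ^ j ∉ Z → Nat.find hex ≤ orderOf (g ^ j) := fun j hj =>
    Nat.find_min' hex ⟨j, hj, rfl⟩
  set x := g ^ i with hx
  have hx1 : orderOf x ≠ 1 := fun h => hi (by rw [orderOf_eq_one_iff.1 h]; exact one_mem _)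
  obtain ⟨q, hq, hqd⟩ := Nat.exists_prime_and_dvd hx1
  obtain ⟨k, r, hr, hfac⟩ := Nat.exists_eq_pow_mul_and_not_dvd (orderOf_pos x).ne' q hq.ne_one
  refine ⟨i, q, k, hq, ?_, hi⟩
  by_contra hne
  have hr1 : r ≠ 1 := fun h => hne (by rw [hfac, h, mul_one])
  have hk : k ≠ 0 := fun h => by
    rw [h, pow_zero, one_mul] at hfac
    exact hr (hfac ▸ hqd)
  have hr0 : 0 < r := Nat.pos_of_ne_zero fun h => hr (h ▸ dvd_zero q)
  have hqk : 1 < q ^ k := Nat.one_lt_pow hk hq.one_lt
  have h1 : x ^ q ^ k ∈ Z := by
    by_contra hn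
    have h2 := hmin (i * q ^ k) (by rw [pow_mul, ← hx]; exact hn)
    rw [← hd, pow_mul, ← hx, orderOf_pow_of_dvd (x := x) (n := q ^ k) (by omega) (hfac ▸ dvd_mul_right _ _)] at h2
    exact absurd h2 (Nat.not_le.2 (Nat.div_lt_self (orderOf_pos x) hqk))
  have h2 : x ^ r ∈ Z := by
    by_contra hn
    have h2 := hmin (i * r) (by rw [pow_mul, ← hx]; exact hn)
    rw [← hd, pow_mul, ← hx, orderOf_pow_of_dvd (x := x) (n := r) hr0.ne' (hfac ▸ dvd_mul_left _ _)] at h2
    exact absurd h2 (Nat.not_le.2 (Nat.div_lt_self (orderOf_pos x) (by omega)))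
  exact hi (mem_of_coprime_pow_mem Z ((hq.coprime_iff_not_dvd.2 hr).pow_left k) h1 h2)


/-- Let G be a finite group whose conjugacy classes have exactly two sizes, 1 and n > 1. Then n is a power of a prime p and G is the direct product of a p-group and an abelian group of order prime to p: its Sylow p-subgroup P is normal with an abelian normal complement centralizing it; moreover P has an abelian normal subgroup A with P/A of exponent dividing p. -/
theorem result {G : Type*} [Group G] [Finite G] (n : ℕ) (hn : 1 < n)
    (h : ∀ x : G, (Subgroup.centralizer ({x} : Set G)).index = 1 ∨ (Subgroup.centralizer ({x} : Set G)).index = n) (hex : ∃ x : G, (Subgroup.centralizer ({x} : Set G)).index = n) :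
    ∃ (p : ℕ) (_ : Fact p.Prime) (a : ℕ), n = p ^ a ∧ ∀ P : Sylow p G, (P : Subgroup G).Normal ∧
      (∃ N : Subgroup G, N.Normal ∧ N.IsComplement' (P : Subgroup G) ∧ IsMulCommutative N ∧
        ∀ x ∈ N, ∀ y ∈ (P : Subgroup G), x * y = y * x) ∧
      ∃ A : Subgroup (P : Subgroup G), A.Normal ∧ IsMulCommutative A ∧ ∀ y : (P : Subgroup G), y ^ p ∈ A := by
  classical
  have hfin : ∀ x : G, x ∉ center G → (centralizer ({x} : Set G)).index = n := by
    intro x hx
    rcases h x with h1 | h1
    · refine absurd ?_ hx
      rw [index_eq_one, centralizer_eq_top_iff_subset, Set.singleton_subset_iff] at h1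
      exact h1
    · exact h1
  have hle : ∀ x y : G, x ∉ center G → y ∉ center G →
      centralizer ({x} : Set G) ≤ centralizer ({y} : Set G) →
      centralizer ({x} : Set G) = centralizer ({y} : Set G) := by
    intro x y hx hy hxy
    refine Subgroup.eq_of_le_of_card_ge hxy (le_of_eq ?_)
    have e1 := (centralizer ({x} : Set G)).card_mul_index
    have e2 := (centralizer ({y} : Set G)).card_mul_index
    rw [hfin x hx] at e1
    rw [hfin y hy, ← e1] at e2
    exact Nat.eq_of_mul_eq_mul_right (by omega) e2
  have hkey : ∀ x y : G, x ∉ center G → y ∈ centralizer ({x} : Set G) →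
      (orderOf x).Coprime (orderOf y) → centralizer ({x} : Set G) ≤ centralizer ({y} : Set G) := by
    intro x y hx hy hcop
    have hc : Commute x y := (mem_centralizer_singleton_iff.1 hy).symm
    have hxm : x ∈ zpowers (x * y) := by
      refine mem_of_coprime_pow_mem _ hcop ?_ ?_
      · rw [pow_orderOf_eq_one]; exact one_mem _
      · have := pow_mem (mem_zpowers (x * y)) (orderOf y)
        rwa [hc.mul_pow, pow_orderOf_eq_one, mul_one] at this
    obtain ⟨j, hj⟩ := hxm
    have hxy : x * y ∉ center G := fun hz => hx (by rw [← hj]; exact zpow_mem hz j)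
    have hle' : centralizer ({x * y} : Set G) ≤ centralizer ({x} : Set G) := by
      intro c hc'
      rw [mem_centralizer_singleton_iff] at hc' ⊢
      rw [← hj]
      exact ((show Commute c (x * y) from hc').zpow_right j).eq
    intro c hc'
    rw [← hle _ _ hxy hx hle', mem_centralizer_singleton_iff] at hc'
    have hcx : Commute c x := by
      rw [← hj]; exact (show Commute c (x * y) from hc').zpow_right j
    rw [mem_centralizer_singleton_iff]
    have := (hcx.inv_right.mul_right (show Commute c (x * y) from hc')).eq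
    rwa [inv_mul_cancel_left] at this
  have hsub : ∀ (g : G) (i : ℕ),
      centralizer ({g} : Set G) ≤ centralizer ({g ^ i} : Set G) := by
    intro g i c hc
    rw [mem_centralizer_singleton_iff] at hc ⊢
    exact ((show Commute c g from hc).pow_right i).eq
  obtain ⟨g₀, hg₀⟩ := hex
  have hg₀Z : g₀ ∉ center G := fun hz => by
    have : centralizer ({g₀} : Set G) = ⊤ := centralizer_eq_top_iff_subset.2
      (Set.singleton_subset_iff.2 hz)
    rw [this, index_top] at hg₀
    omega
  obtain ⟨i₀, p, k₀, hp, hk₀, hi₀⟩ := exists_primePow_pow_notMem (center G) hg₀Z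
  haveI := Fact.mk hp
  -- only one prime carries noncentral elements of prime power order
  have hone : ∀ (q k : ℕ) (y : G), q.Prime → orderOf y = q ^ k → y ∉ center G → q = p := by
    intro q k y hq hyo hyZ
    by_contra hqp
    have hab : ∀ g : G, g ∉ center G → ∀ a ∈ centralizer ({g} : Set G),
        ∀ b ∈ centralizer ({g} : Set G), a * b = b * a := by
      intro g hg
      obtain ⟨i, s, l, hs, hl, hi⟩ := exists_primePow_pow_notMem (center G) hg
      set x := g ^ i with hx
      rw [hle g x hg hi (hsub g i)]
      by_cases hex' : ∃ t, t.Prime ∧ t ≠ s ∧ ∃ (l' : ℕ) (z : G),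
          z ∈ centralizer ({x} : Set G) ∧ z ∉ center G ∧ orderOf z = t ^ l'
      · obtain ⟨t, ht, hts, l', z, hz, hzZ, hzo⟩ := hex'
        have hxz : (orderOf x).Coprime (orderOf z) := by
          rw [hl, hzo]
          exact Nat.Coprime.pow _ _ ((Nat.coprime_primes hs ht).2 hts.symm)
        have hC := hle x z hi hzZ (hkey x z hi hz hxz)
        intro a ha b hb
        obtain ⟨e, r, hr, hfac⟩ := Nat.exists_eq_pow_mul_and_not_dvd (orderOf_pos a).ne' s hs.ne_one
        have hrs : (s ^ e).Coprime r := (hs.coprime_iff_not_dvd.2 hr).pow_left e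
        have hr0 : r ≠ 0 := fun h0 => hr (h0 ▸ dvd_zero s)
        suffices a ∈ centralizer ({b} : Set G) from mem_centralizer_singleton_iff.1 this
        refine mem_of_coprime_pow_mem _ hrs ?_ ?_
        · have h1 : (orderOf x).Coprime (orderOf (a ^ s ^ e)) := by
            rw [orderOf_pow_of_dvd (pow_pos hs.pos e).ne' (hfac ▸ dvd_mul_right _ _), hl, hfac,
              Nat.mul_div_cancel_left _ (pow_pos hs.pos e)]
            exact (hs.coprime_iff_not_dvd.2 hr).pow_left l
          have := hkey x (a ^ s ^ e) hi (pow_mem ha _) h1 hb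
          exact mem_centralizer_singleton_iff.2 (mem_centralizer_singleton_iff.1 this).symm
        · have h1 : (orderOf z).Coprime (orderOf (a ^ r)) := by
            rw [orderOf_pow_of_dvd hr0 (hfac ▸ dvd_mul_left _ _), hzo, hfac,
              Nat.mul_div_cancel _ (Nat.pos_of_ne_zero hr0)]
            exact Nat.Coprime.pow _ _ ((Nat.coprime_primes ht hs).2 hts)
          rw [hC] at hb ha
          have := hkey z (a ^ r) hzZ (pow_mem ha _) h1 hb
          exact mem_centralizer_singleton_iff.2 (mem_centralizer_singleton_iff.1 this).symm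
      · exfalso
        haveI := Fact.mk hs
        push Not at hex'
        -- `C(x)` is an `s`-group modulo the centre
        have hs' : IsPGroup s ((centralizer ({x} : Set G)).map (QuotientGroup.mk' (center G))) := by
          rintro ⟨_, a, ha, rfl⟩
          obtain ⟨e, r, hr, hfac⟩ :=
            Nat.exists_eq_pow_mul_and_not_dvd (orderOf_pos a).ne' s hs.ne_one
          refine ⟨e, Subtype.ext ?_⟩
          change (a : G ⧸ center G) ^ s ^ e = 1
          rw [← QuotientGroup.mk_pow, QuotientGroup.eq_one_iff]
          by_contra hn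
          obtain ⟨j, t, l', ht, hl', hj⟩ := exists_primePow_pow_notMem (center G) hn
          have hts : t ≠ s := by
            rintro rfl
            rcases Nat.eq_zero_or_pos l' with rfl | hl0
            · rw [pow_zero, orderOf_eq_one_iff] at hl'
              exact hj (by rw [hl']; exact one_mem _)
            · apply hr
              have h1 : t ^ l' ∣ r := by
                rw [← hl']
                refine (orderOf_pow_dvd j).trans ?_
                rw [orderOf_pow_of_dvd (pow_pos hs.pos e).ne' (hfac ▸ dvd_mul_right _ _), hfac,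
                  Nat.mul_div_cancel_left _ (pow_pos hs.pos e)]
              exact (dvd_pow_self t hl0.ne').trans h1
          exact hex' t ht hts l' _ (pow_mem (pow_mem ha _) j) hj hl'
        obtain ⟨w, t, l', ht, hts, hwo, hwZ⟩ : ∃ (w : G) (t l' : ℕ), t.Prime ∧ t ≠ s ∧
            orderOf w = t ^ l' ∧ w ∉ center G := by
          by_cases hps : p = s
          · exact ⟨y, q, k, hq, by omega, hyo, hyZ⟩
          · exact ⟨_, p, k₀, hp, hps, hk₀, hi₀⟩
        have hker : ∀ u : G,
            (QuotientGroup.mk' (center G)).ker ≤ centralizer ({u} : Set G) := by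
          intro u
          rw [QuotientGroup.ker_mk']
          exact center_le_centralizer _
        have hcardeq : Nat.card ((centralizer ({w} : Set G)).map (QuotientGroup.mk' (center G))) =
            Nat.card ((centralizer ({x} : Set G)).map (QuotientGroup.mk' (center G))) := by
          have e1 := ((centralizer ({w} : Set G)).map (QuotientGroup.mk' (center G))).card_mul_index
          have e2 := ((centralizer ({x} : Set G)).map (QuotientGroup.mk' (center G))).card_mul_index
          rw [index_map_eq _ (QuotientGroup.mk'_surjective _) (hker w), hfin w hwZ] at e1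
          rw [index_map_eq _ (QuotientGroup.mk'_surjective _) (hker x), hfin x hi, ← e1] at e2
          exact (Nat.eq_of_mul_eq_mul_right (by omega) e2).symm
        obtain ⟨c, hc⟩ := IsPGroup.iff_card.1 hs'
        have hmem : (w : G ⧸ center G) ∈
            (centralizer ({w} : Set G)).map (QuotientGroup.mk' (center G)) :=
          ⟨w, mem_centralizer_singleton_iff.2 rfl, rfl⟩
        have h1 : orderOf (w : G ⧸ center G) ∣ s ^ c := by
          rw [← hc, ← hcardeq, ← Subgroup.orderOf_mk (w : G ⧸ center G) hmem]
          exact orderOf_dvd_natCard _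
        have h2 : orderOf (w : G ⧸ center G) ∣ t ^ l' :=
          hwo ▸ orderOf_map_dvd (QuotientGroup.mk' (center G)) w
        have h3 := Nat.eq_one_of_dvd_coprimes
          (Nat.Coprime.pow c l' ((Nat.coprime_primes hs ht).2 hts.symm)) h1 h2
        exact hwZ ((QuotientGroup.eq_one_iff w).1 (orderOf_eq_one_iff.1 h3))
    -- the partition of the central quotient
    let A : G ⧸ center G → Subgroup (G ⧸ center G) := fun u =>
      (centralizer ({u.out} : Set G)).map (QuotientGroup.mk' (center G))
    have hA : ∀ u : G, A (u : G ⧸ center G) =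
        (centralizer ({u} : Set G)).map (QuotientGroup.mk' (center G)) := by
      intro u
      obtain ⟨⟨z, hz⟩, hzz⟩ := QuotientGroup.mk_out_eq_mul (center G) u
      have : centralizer ({u * z} : Set G) = centralizer ({u} : Set G) := by
        ext c
        have hcz : Commute c z := Subgroup.mem_center_iff.1 hz c
        rw [mem_centralizer_singleton_iff, mem_centralizer_singleton_iff]
        constructor
        · intro h1
          have := ((show Commute c (u * z) from h1).mul_right hcz.inv_right).eq
          rwa [mul_inv_cancel_right] at this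
        · intro h1
          exact ((show Commute c u from h1).mul_right hcz).eq
      simp only [A, hzz, this]
    have hkerA : ∀ u : G, (QuotientGroup.mk' (center G)).ker ≤ centralizer ({u} : Set G) := by
      intro u
      rw [QuotientGroup.ker_mk']
      exact center_le_centralizer _
    obtain ⟨r, hr, hrgrp⟩ := CfsgLib.EqualPartition.isPGroup_of_equal_abelian_partition A
      (Nat.card (A (y : G ⧸ center G)))
      (by
        intro u
        induction u using QuotientGroup.induction_on with | _ u => ?_
        rw [hA]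
        exact ⟨u, mem_centralizer_singleton_iff.2 rfl, rfl⟩)
      (by
        intro u hu
        induction u using QuotientGroup.induction_on with | _ u => ?_
        rw [hA]
        rw [Ne, QuotientGroup.eq_one_iff] at hu
        rintro _ ⟨a, ha, rfl⟩ _ ⟨b, hb, rfl⟩
        rw [← map_mul, ← map_mul, hab u hu a ha b hb])
      (by
        intro u hu
        induction u using QuotientGroup.induction_on with | _ u => ?_
        rw [Ne, QuotientGroup.eq_one_iff] at hu
        have e1 := (A (u : G ⧸ center G)).card_mul_index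
        have e2 := (A (y : G ⧸ center G)).card_mul_index
        rw [hA, index_map_eq _ (QuotientGroup.mk'_surjective _) (hkerA u), hfin u hu] at e1
        rw [hA y, index_map_eq _ (QuotientGroup.mk'_surjective _) (hkerA y), hfin y hyZ, ← e1] at e2
        rw [hA, hA]
        exact (Nat.eq_of_mul_eq_mul_right (by omega) e2).symm)
      (by
        intro u hu v hv hv1
        induction u using QuotientGroup.induction_on with | _ u => ?_
        rw [hA] at hv ⊢
        obtain ⟨c, hc, rfl⟩ := hv
        rw [Ne, QuotientGroup.eq_one_iff] at hu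
        rw [Ne, QuotientGroup.mk'_apply, QuotientGroup.eq_one_iff] at hv1
        rw [QuotientGroup.mk'_apply, hA,
          hle u c hu hv1 (fun d hd => mem_centralizer_singleton_iff.2 (hab u hu d hd c hc))])
      (by
        intro g u v hv
        induction u using QuotientGroup.induction_on with | _ u => ?_
        induction g using QuotientGroup.induction_on with | _ g => ?_
        rw [hA] at hv
        obtain ⟨c, hc, rfl⟩ := hv
        rw [QuotientGroup.mk'_apply, ← QuotientGroup.mk_inv, ← QuotientGroup.mk_mul,
          ← QuotientGroup.mk_mul, ← QuotientGroup.mk_mul, ← QuotientGroup.mk_mul, hA]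
        refine ⟨g * c * g⁻¹, ?_, rfl⟩
        have hc' := mem_centralizer_singleton_iff.1 hc
        rw [SetLike.mem_coe, mem_centralizer_singleton_iff]
        calc g * c * g⁻¹ * (g * u * g⁻¹) = g * (c * u) * g⁻¹ := by group
          _ = g * (u * c) * g⁻¹ := by rw [hc']
          _ = g * u * g⁻¹ * (g * c * g⁻¹) := by group)
      (by
        rw [← (A (y : G ⧸ center G)).card_mul_index, hA y,
          index_map_eq _ (QuotientGroup.mk'_surjective _) (hkerA y), hfin y hyZ]
        exact lt_mul_of_one_lt_right Nat.card_pos hn)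
    haveI := Fact.mk hr
    have hcentral : ∀ (w : G) (t l : ℕ), t.Prime → t ≠ r → orderOf w = t ^ l → w ∈ center G := by
      intro w t l ht htr hwo
      obtain ⟨c, hc⟩ := IsPGroup.iff_orderOf.1 hrgrp (w : G ⧸ center G)
      have h2 : orderOf (w : G ⧸ center G) ∣ t ^ l :=
        hwo ▸ orderOf_map_dvd (QuotientGroup.mk' (center G)) w
      have h3 := Nat.eq_one_of_dvd_coprimes
        (Nat.Coprime.pow c l ((Nat.coprime_primes hr ht).2 htr.symm)) (dvd_of_eq hc) h2
      exact (QuotientGroup.eq_one_iff w).1 (orderOf_eq_one_iff.1 h3)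
    by_cases hpr : p = r
    · exact hyZ (hcentral y q k hq (by omega) hyo)
    · exact hi₀ (hcentral _ p k₀ hp hpr hk₀)
  -- elements of order prime to `p` are central
  have hp' : ∀ g : G, (orderOf g).Coprime p → g ∈ center G := by
    intro g hg
    by_contra hgZ
    obtain ⟨i, q, k, hq, hk, hi⟩ := exists_primePow_pow_notMem (center G) hgZ
    obtain rfl := hone q k _ hq hk hi
    rcases Nat.eq_zero_or_pos k with rfl | hk0
    · rw [pow_zero, orderOf_eq_one_iff] at hk
      exact hi (by rw [hk]; exact one_mem _)
    · exact hq.coprime_iff_not_dvd.1 hg.symm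
        ((dvd_pow_self q hk0.ne').trans (hk ▸ orderOf_pow_dvd i))
  have hdecomp : ∀ g : G, ∃ e r : ℕ, (p ^ e).Coprime r ∧
      (g ^ p ^ e ∈ center G ∧ (orderOf (g ^ p ^ e)).Coprime p) ∧ (g ^ r) ^ p ^ e = 1 := by
    intro g
    obtain ⟨e, r, hr, hfac⟩ := Nat.exists_eq_pow_mul_and_not_dvd (orderOf_pos g).ne' p hp.ne_one
    have hord : (orderOf (g ^ p ^ e)).Coprime p := by
      rw [orderOf_pow_of_dvd (pow_pos hp.pos e).ne' (hfac ▸ dvd_mul_right _ _), hfac,
        Nat.mul_div_cancel_left _ (pow_pos hp.pos e)]
      exact (hp.coprime_iff_not_dvd.2 hr).symm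
    refine ⟨e, r, (hp.coprime_iff_not_dvd.2 hr).pow_left e, ⟨hp' _ hord, hord⟩, ?_⟩
    rw [← pow_mul, mul_comm, ← hfac, pow_orderOf_eq_one]
  have hZp : IsPGroup p (G ⧸ center G) := by
    intro u
    induction u using QuotientGroup.induction_on with | _ u => ?_
    obtain ⟨e, r, -, hz, -⟩ := hdecomp u
    exact ⟨e, by rw [← QuotientGroup.mk_pow, QuotientGroup.eq_one_iff]; exact hz.1⟩
  obtain ⟨b, hb⟩ := IsPGroup.iff_card.1 hZp
  have hna : n ∣ p ^ b := by
    rw [← hb, ← hfin g₀ hg₀Z, ← index_eq_card]
    exact index_dvd_of_le (center_le_centralizer _)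
  obtain ⟨a, -, ha⟩ := (Nat.dvd_prime_pow hp).1 hna
  refine ⟨p, ⟨hp⟩, a, ha, fun P => ?_⟩
  have hPn : (P : Subgroup G).Normal := by
    have htop : (P : Subgroup G) ⊔ center G = ⊤ := by
      rw [← index_eq_one]
      have h1 : ((P : Subgroup G) ⊔ center G).index ∣ (P : Subgroup G).index :=
        index_dvd_of_le le_sup_left
      have h2 : ((P : Subgroup G) ⊔ center G).index ∣ p ^ b := by
        rw [← hb, ← index_eq_card]; exact index_dvd_of_le le_sup_right
      exact Nat.eq_one_of_dvd_coprimes
        ((hp.coprime_iff_not_dvd.2 P.not_dvd_index).symm.pow_right b) h1 h2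
    rw [← normalizer_eq_top_iff, eq_top_iff, ← htop, sup_le_iff]
    refine ⟨le_normalizer, fun z hz => ?_⟩
    rw [Subgroup.mem_normalizer_iff]
    intro x
    rw [← Subgroup.mem_center_iff.1 hz x, mul_inv_cancel_right]
  refine ⟨hPn, ?_, ?_⟩
  · let N : Subgroup G :=
      { carrier := {z | z ∈ center G ∧ (orderOf z).Coprime p}
        one_mem' := ⟨one_mem _, by simp⟩
        mul_mem' := by
          rintro u v ⟨hu, hu'⟩ ⟨hv, hv'⟩
          refine ⟨mul_mem hu hv, Nat.Coprime.coprime_dvd_left ?_ (hu'.mul_left hv')⟩
          exact (show Commute u v from Subgroup.mem_center_iff.1 hv u).orderOf_mul_dvd_mul_orderOf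
        inv_mem' := by
          rintro u ⟨hu, hu'⟩
          exact ⟨inv_mem hu, by rwa [orderOf_inv]⟩ }
    have hNZ : ∀ x ∈ N, ∀ w : G, x * w = w * x := fun x hx w =>
      (Subgroup.mem_center_iff.1 hx.1 w).symm
    refine ⟨N, ⟨fun x hx g => ?_⟩, ?_, ⟨⟨fun u v => Subtype.ext (hNZ u u.2 v)⟩⟩,
      fun x hx w _ => hNZ x hx w⟩
    · rw [← hNZ x hx g, mul_inv_cancel_right]; exact hx
    · refine isComplement'_of_disjoint_and_mul_eq_univ ?_ (Set.eq_univ_of_forall fun g => ?_)
      · rw [Subgroup.disjoint_def]
        intro x hxN hxP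
        obtain ⟨k, hk⟩ := IsPGroup.iff_orderOf.1 P.isPGroup' ⟨x, hxP⟩
        rw [Subgroup.orderOf_mk] at hk
        exact orderOf_eq_one_iff.1
          (Nat.eq_one_of_dvd_coprimes (hxN.2.pow_right k) dvd_rfl (dvd_of_eq hk))
      · obtain ⟨e, r, hcop, hz, hr1⟩ := hdecomp g
        have hgr : g ^ r ∈ (P : Subgroup G) := by
          have h1 : IsPGroup p (zpowers (g ^ r)) := by
            obtain ⟨e', -, he'⟩ := (Nat.dvd_prime_pow hp).1 (orderOf_dvd_of_pow_eq_one hr1)
            exact IsPGroup.of_card (n := e') (by rw [Nat.card_zpowers, he'])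
          have h2 := h1.to_sup_of_normal_right (K := (P : Subgroup G)) P.isPGroup'
          have h3 := P.is_maximal' h2 le_sup_right
          exact h3 ▸ (le_sup_left : zpowers (g ^ r) ≤ _) (mem_zpowers _)
        refine ⟨(g ^ p ^ e) ^ Nat.gcdA (p ^ e) r, zpow_mem (show g ^ p ^ e ∈ N from hz) _,
          (g ^ r) ^ Nat.gcdB (p ^ e) r, zpow_mem hgr _, ?_⟩
        dsimp only
        rw [← zpow_natCast g (p ^ e), ← zpow_natCast g r, ← zpow_mul, ← zpow_mul, ← zpow_add,
          ← Nat.gcd_eq_gcd_ab, hcop.gcd_eq_one]
        simp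
  · haveI : Group.IsNilpotent (P : Subgroup G) := P.isPGroup'.isNilpotent
    obtain ⟨A, -, hAn, hAc, hAs⟩ := CfsgLib.OddOrder41.exists_normal_abelian_self_centralizing
      (⊥ : Subgroup (P : Subgroup G)) inferInstance ⟨⟨fun u v => Subsingleton.elim _ _⟩⟩
    refine ⟨A, hAn, hAc, fun y => ?_⟩
    by_contra hyA
    have hypZ : ((y ^ p : (P : Subgroup G)) : G) ∉ center G := by
      intro hz
      apply hyA
      rw [← hAs, Subgroup.mem_centralizer_iff]
      intro w _
      exact Subtype.ext (Subgroup.mem_center_iff.1 hz w)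
    have hCy : centralizer ({(y : G)} : Set G) = centralizer ({(y : G) ^ p} : Set G) := by
      rw [Subgroup.coe_pow] at hypZ
      exact hle _ _ (fun hz => hypZ (pow_mem hz p)) hypZ (hsub _ p)
    have hall : ∀ k, ∀ w ∈ A, w ∈ Subgroup.upperCentralSeries (P : Subgroup G) k → y * w = w * y := by
      intro k
      induction k with
      | zero =>
        intro w _ hw
        rw [Subgroup.upperCentralSeries_zero, mem_bot] at hw
        subst hw
        simp
      | succ k ih =>
        intro w hwA hw
        by_contra hne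
        have hcA : w * y * w⁻¹ * y⁻¹ ∈ A := by
          have := mul_mem hwA (hAn.conj_mem w⁻¹ (inv_mem hwA) y)
          simpa [mul_assoc] using this
        set c := w * y * w⁻¹ * y⁻¹ with hc
        have hcy : y * c = c * y := ih c hcA (Subgroup.mem_upperCentralSeries_succ_iff.1 hw y)
        have hcw : Commute c w :=
          congrArg Subtype.val (mul_comm' (⟨c, hcA⟩ : A) ⟨w, hwA⟩)
        have hconj : y * w * y⁻¹ = c⁻¹ * w := by rw [hc]; group
        have hc1 : c ≠ 1 := fun h1 => by
          rw [h1, inv_one, one_mul, mul_inv_eq_iff_eq_mul] at hconj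
          exact hne hconj
        obtain ⟨l, hl⟩ := IsPGroup.iff_orderOf.1 P.isPGroup' c
        obtain ⟨l, rfl⟩ : ∃ l', l = l' + 1 := ⟨l - 1, by
          rcases Nat.eq_zero_or_pos l with rfl | hl0
          · exact absurd (orderOf_eq_one_iff.1 (by rw [hl, pow_zero])) hc1
          · omega⟩
        set d := c⁻¹ ^ p ^ l with hd
        set w' := w ^ p ^ l with hw'
        have hdp : d ^ p = 1 := by
          rw [hd, ← pow_mul, ← pow_succ, inv_pow, ← hl, pow_orderOf_eq_one, inv_one]
        have hd1 : d ≠ 1 := by
          rw [hd, inv_pow, Ne, inv_eq_one]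
          intro h1
          have := Nat.le_of_dvd (pow_pos hp.pos l) (hl ▸ orderOf_dvd_of_pow_eq_one h1)
          exact absurd this (Nat.not_le.2 (Nat.pow_lt_pow_right hp.one_lt (by omega)))
        have hconj' : y * w' * y⁻¹ = d * w' := by
          rw [hw', ← conj_pow, hconj, hd, hcw.inv_left.mul_pow]
        have hdy : y * d = d * y :=
          ((show Commute y c from hcy).inv_right.pow_right _).eq
        have hiter : ∀ i : ℕ, y ^ i * w' * (y ^ i)⁻¹ = d ^ i * w' := by
          intro i
          induction i with
          | zero => simp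
          | succ i ih' =>
            calc y ^ (i + 1) * w' * (y ^ (i + 1))⁻¹
                = y * (y ^ i * w' * (y ^ i)⁻¹) * y⁻¹ := by rw [pow_succ']; group
              _ = y * (d ^ i * w') * y⁻¹ := by rw [ih']
              _ = d ^ i * (y * w' * y⁻¹) := by
                rw [← mul_assoc, ((show Commute y d from hdy).pow_right i).eq]; group
              _ = d ^ (i + 1) * w' := by rw [hconj', pow_succ]; group
        have h1 : (w' : G) ∈ centralizer ({(y : G) ^ p} : Set G) := by
          rw [mem_centralizer_singleton_iff]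
          have h2 := hiter p
          rw [hdp, one_mul, mul_inv_eq_iff_eq_mul] at h2
          exact (congrArg Subtype.val h2).symm
        rw [← hCy, mem_centralizer_singleton_iff] at h1
        have h2 : y * w' * y⁻¹ = w' := mul_inv_eq_iff_eq_mul.2 (Subtype.ext h1.symm)
        rw [hconj'] at h2
        exact hd1 (mul_eq_right.1 h2)
    obtain ⟨k, hk⟩ := Group.IsNilpotent.nilpotent' (G := (P : Subgroup G))
    apply hyA
    have : y ∈ A := by
      rw [← hAs, Subgroup.mem_centralizer_iff]
      exact fun w hw => (hall k w hw (by rw [hk]; exact mem_top w)).symm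
    exact pow_mem this p

end Cfsg.Agent.S4134
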