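import Cfsg.Statements.S2911
import Cfsg.Agent.Lib.Transfer.Basic
import Cfsg.Agent.Lib.Transfer.NormalComplement

set_option autoImplicit false
set_option synthInstance.maxSize 1000
open Cfsg

namespace Cfsg.Agent.S2911
/-- `Z₂ × D₈`. -/
abbrev D := Multiplicative (ZMod 2) × DihedralGroup 4

def aD : D := (Multiplicative.ofAdd 1, 1)
def zD : D := (1, DihedralGroup.r 2)
/-- Non-central involutions. -/
abbrev NC (w : D) : Prop := w * w = 1 ∧ ∃ v : D, v * w ≠ w * v

/-- A representative non-central involution. -/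
def wD (c : ZMod 2) (i : ZMod 4) : D := (Multiplicative.ofAdd c, DihedralGroup.sr i)

theorem NC_wD : ∀ c i, NC (wD c i) := by decide
theorem comm_wD : ∀ c, ∀ i : ZMod 4, aD * wD c i = wD c i * aD := by decide
theorem cent_fact : ∀ w u v : D, NC w → u * w = w * u → v * w = w * v →
    u * v = v * u ∧ u * u = 1 := by decide
theorem cent_normal : ∀ w u v : D, NC w → u * w = w * u →
    (v * u * v⁻¹) * w = w * (v * u * v⁻¹) := by decide
theorem cent_card : ∀ w : D, NC w →
    (Finset.univ.filter fun u : D => u * w = w * u).card = 8 := by decide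
theorem comm_cases : ∀ u v : D, u * v * u⁻¹ * v⁻¹ = 1 ∨ u * v * u⁻¹ * v⁻¹ = zD := by decide
theorem comm_ne : ∃ u v : D, u * v * u⁻¹ * v⁻¹ = zD := by decide
theorem zD_ne : zD ≠ 1 := by decide
theorem central_cases : ∀ u : D, (∀ v, v * u = u * v) → u = 1 ∨ u = aD ∨ u = zD ∨ u = aD * zD := by
  decide
theorem central_facts : (∀ v, v * aD = aD * v) ∧ (∀ v, v * zD = zD * v) ∧
    (∀ v, v * (aD * zD) = (aD * zD) * v) ∧ aD * aD = 1 ∧ aD * zD * zD = aD ∧
    aD ≠ 1 ∧ aD ≠ zD ∧ aD ≠ aD * zD := by decide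
theorem two_E : ∀ w : D, NC w → (w * wD 0 0 = wD 0 0 * w ∧ ∀ u, (u * w = w * u ↔ u * wD 0 0 = wD 0 0 * u)) ∨
    (w * wD 0 1 = wD 0 1 * w ∧ ∀ u, (u * w = w * u ↔ u * wD 0 1 = wD 0 1 * u)) := by decide
theorem E_mem : ∀ i : ZMod 2, ∀ u : D,
    (u * wD 0 (i.val : ZMod 4) = wD 0 (i.val : ZMod 4) * u) →
    u = 1 ∨ u = aD ∨ u = zD ∨ u = aD * zD ∨
      ∃ c : ZMod 2, ∃ v : D, u = v * wD c (i.val : ZMod 4) * v⁻¹ := by decide
theorem orbit_five : ∀ i : ZMod 2, (Finset.univ.filter fun u : D => u = aD ∨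
      ∃ c : ZMod 2, ∃ v : D, u = v * wD c (i.val : ZMod 4) * v⁻¹).card = 5 := by decide

/-- The functional excluding the fused classes. -/
def phiFun (c₀ c₁ : ZMod 2) : D → Multiplicative (ZMod 2)
  | (c, DihedralGroup.r k) =>
    Multiplicative.ofAdd (Multiplicative.toAdd c + (c₀ + c₁) * (k.val : ZMod 2))
  | (c, DihedralGroup.sr k) =>
    Multiplicative.ofAdd (Multiplicative.toAdd c + (1 + c₀) + (c₀ + c₁) * (k.val : ZMod 2))

theorem phiFun_mul : ∀ c₀ c₁ x y, phiFun c₀ c₁ (x * y) = phiFun c₀ c₁ x * phiFun c₀ c₁ y := by decide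
theorem phi_aD : ∀ c₀ c₁, phiFun c₀ c₁ aD ≠ 1 := by decide
theorem phi_surj : ∀ c₀ c₁, ∀ y, ∃ x, phiFun c₀ c₁ x = y := by decide
theorem phi_w₀ : ∀ c₀ c₁, phiFun c₀ c₁ (wD c₀ 0) ≠ 1 ∧ phiFun c₀ c₁ (wD c₁ 1) ≠ 1 := by decide

section Fusion

variable {G : Type*} [Group G] [Finite G] (S : Sylow 2 G) (ψ : D →* G)
  (hψ : Function.Injective ψ) (hr : ψ.range = (S : Subgroup G))

include hψ hr

omit hψ [Finite G] in
theorem mem_S (u : D) : ψ u ∈ (S : Subgroup G) := hr ▸ ⟨u, rfl⟩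

omit hψ [Finite G] in
theorem conj_exists {g : G} (hg : g ∈ Subgroup.normalizer ((S : Subgroup G) : Set G)) (u : D) :
    ∃ v, g * ψ u * g⁻¹ = ψ v := by
  obtain ⟨v, hv⟩ := hr.ge ((Subgroup.mem_normalizer_iff.1 hg (ψ u)).1 (mem_S S ψ hr u))
  exact ⟨v, hv.symm⟩

theorem fix_z {g : G} (hg : g ∈ Subgroup.normalizer ((S : Subgroup G) : Set G)) :
    g * ψ zD * g⁻¹ = ψ zD := by
  obtain ⟨u, v, huv⟩ := comm_ne
  obtain ⟨u', hu'⟩ := conj_exists S ψ hr hg u
  obtain ⟨v', hv'⟩ := conj_exists S ψ hr hg v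
  have e : g * ψ zD * g⁻¹ = ψ (u' * v' * u'⁻¹ * v'⁻¹) := by
    rw [← huv]; simp only [map_mul, map_inv, ← hu', ← hv']; group
  rcases comm_cases u' v' with h | h
  · rw [h, map_one, conj_eq_one_iff, ← map_one ψ] at e
    exact absurd (hψ e) zD_ne
  · rw [e, h]

theorem mem_of_sq_mem {g : G} (hg : g ∈ Subgroup.normalizer ((S : Subgroup G) : Set G))
    (Z : Subgroup G) (hSZ : (S : Subgroup G) ≤ Z) (h2 : g ^ 2 ∈ Z) : g ∈ Z := by
  haveI : Fact (Nat.Prime 2) := ⟨Nat.prime_two⟩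
  obtain ⟨k, m, hm, hkm⟩ :=
    Nat.exists_eq_pow_mul_and_not_dvd (n := orderOf g) (orderOf_pos _).ne' 2 (by norm_num)
  have hgm : g ^ m ∈ (S : Subgroup G) :=
    CfsgLib.Transfer.isPGroup_mem_of_mem_normalizer S (pow_mem hg m) k
      (by rw [← pow_mul, mul_comm, ← hkm, pow_orderOf_eq_one])
  obtain ⟨j, hj⟩ : ∃ j, m = 2 * j + 1 := ⟨m / 2, by omega⟩
  have e : g = ((g ^ 2) ^ j)⁻¹ * g ^ m :=
    calc g = ((g ^ 2) ^ j)⁻¹ * ((g ^ 2) ^ j * g) := (inv_mul_cancel_left _ _).symm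
      _ = ((g ^ 2) ^ j)⁻¹ * g ^ m := by rw [← pow_mul, ← pow_succ, ← hj]
  rw [e]
  exact Z.mul_mem (Z.inv_mem (pow_mem h2 j)) (hSZ hgm)

theorem fix_a {g : G} (hg : g ∈ Subgroup.normalizer ((S : Subgroup G) : Set G)) :
    g * ψ aD * g⁻¹ = ψ aD := by
  obtain ⟨ha, hz, haz, ha2, hazz, ha1, haz1, haaz⟩ := central_facts
  have step : ∀ g ∈ Subgroup.normalizer ((S : Subgroup G) : Set G),
      g * ψ aD * g⁻¹ = ψ aD ∨ g * ψ aD * g⁻¹ = ψ (aD * zD) := by
    intro g hg
    obtain ⟨v, hv⟩ := conj_exists S ψ hr hg aD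
    have hvc : ∀ u, u * v = v * u := by
      intro u
      apply hψ
      obtain ⟨u', hu'⟩ := conj_exists S ψ hr (inv_mem hg) u
      have hu : ψ u = g * ψ u' * g⁻¹ := by rw [← hu']; group
      rw [map_mul, map_mul, hu, ← hv]
      calc g * ψ u' * g⁻¹ * (g * ψ aD * g⁻¹) = g * (ψ u' * ψ aD) * g⁻¹ := by group
        _ = g * (ψ aD * ψ u') * g⁻¹ := by rw [← map_mul, ha u', map_mul]
        _ = g * ψ aD * g⁻¹ * (g * ψ u' * g⁻¹) := by group
    rcases central_cases v hvc with rfl | rfl | rfl | rfl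
    · rw [map_one, conj_eq_one_iff, ← map_one ψ] at hv
      exact absurd (hψ hv) ha1
    · exact Or.inl hv
    · rw [← fix_z S ψ hψ hr hg] at hv
      exact absurd (hψ (mul_left_cancel (mul_right_cancel hv))) haz1
    · exact Or.inr hv
  have hSZ : (S : Subgroup G) ≤ Subgroup.centralizer ({ψ aD} : Set G) := by
    rw [← hr]
    rintro _ ⟨u, rfl⟩
    rw [Subgroup.mem_centralizer_singleton_iff, ← map_mul, ← map_mul, ha u]
  have h2 : g ^ 2 ∈ Subgroup.centralizer ({ψ aD} : Set G) := by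
    rw [Subgroup.mem_centralizer_singleton_iff, ← mul_inv_eq_iff_eq_mul]
    have e : g ^ 2 * ψ aD * (g ^ 2)⁻¹ = g * (g * ψ aD * g⁻¹) * g⁻¹ := by rw [sq]; group
    rw [e]
    rcases step g hg with h | h
    · rw [h, h]
    · rw [h, map_mul]
      have : g * (ψ aD * ψ zD) * g⁻¹ = (g * ψ aD * g⁻¹) * (g * ψ zD * g⁻¹) := by group
      rw [this, h, fix_z S ψ hψ hr hg, ← map_mul, hazz]
  exact mul_inv_eq_iff_eq_mul.2
    (Subgroup.mem_centralizer_singleton_iff.1 (mem_of_sq_mem S ψ hψ hr hg _ hSZ h2))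

omit hψ hr [Finite G] in
/-- The elementary subgroup of order 8 attached to `w`. -/
abbrev EG (ψ : D →* G) (w : D) : Subgroup G := (Subgroup.centralizer ({w} : Set D)).map ψ

omit hr [Finite G] in
theorem card_EG {w : D} (hw : NC w) : Nat.card (EG ψ w) = 8 := by
  classical
  rw [EG, Subgroup.card_map_of_injective hψ, ← cent_card w hw]
  exact Nat.subtype_card _ fun u => by simp [Subgroup.mem_centralizer_singleton_iff]

omit hψ [Finite G] in
theorem S_le_normalizer {w : D} (hw : NC w) :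
    (S : Subgroup G) ≤ Subgroup.normalizer (EG ψ w : Set G) := by
  rw [← hr]
  rintro _ ⟨v, rfl⟩
  have key : ∀ v : D, ∀ x ∈ EG ψ w, ψ v * x * (ψ v)⁻¹ ∈ EG ψ w := by
    rintro v _ ⟨u, hu, rfl⟩
    exact ⟨v * u * v⁻¹, Subgroup.mem_centralizer_singleton_iff.2
      (cent_normal w u v hw (Subgroup.mem_centralizer_singleton_iff.1 hu)), by simp⟩
  rw [Subgroup.mem_normalizer_iff]
  refine fun x => ⟨key v x, fun h => ?_⟩
  simpa [mul_assoc] using key v⁻¹ _ h

/-- A subgroup of `S` conjugate to some `EG w` is `EG (wD 0 0)` or `EG (wD 0 1)`. -/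
theorem eq_EG {w : D} (hw : NC w) {F : Subgroup G} (hF : F ≤ (S : Subgroup G))
    {h : G} (hF' : F = (EG ψ w).map (MulAut.conj h).toMonoidHom) :
    F = EG ψ (wD 0 0) ∨ F = EG ψ (wD 0 1) := by
  classical
  have hcard : Nat.card F = 8 := by
    rw [hF', Subgroup.card_map_of_injective (MulEquiv.injective _), card_EG ψ hψ hw]
  have hFc : ∀ x ∈ F, ∀ y ∈ F, x * y = y * x ∧ x * x = 1 := by
    rw [hF']
    rintro _ ⟨_, ⟨u, hu, rfl⟩, rfl⟩ _ ⟨_, ⟨v, hv, rfl⟩, rfl⟩
    have := cent_fact w u v hw (Subgroup.mem_centralizer_singleton_iff.1 hu)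
      (Subgroup.mem_centralizer_singleton_iff.1 hv)
    simp [← map_mul, this.1, this.2]
  obtain ⟨v, hvF, hv⟩ : ∃ v, ψ v ∈ F ∧ NC v := by
    by_contra hcon
    have hsub : F.comap ψ ≤ Subgroup.center D := by
      intro u hu
      rw [Subgroup.mem_center_iff]
      intro t
      by_contra ht
      refine hcon ⟨u, hu, ?_, t, ht⟩
      exact hψ (by rw [map_mul, map_one]; exact (hFc _ hu _ hu).2)
    have h1 := Subgroup.card_le_of_le hsub
    have h2 : Nat.card (F.comap ψ) = 8 := by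
      rw [← hcard, ← Subgroup.card_map_of_injective hψ,
        Subgroup.map_comap_eq_self (hF.trans hr.ge)]
    have h3 : Nat.card (Subgroup.center D) = 4 := by
      rw [Nat.card_eq_fintype_card, Fintype.card_subtype]
      simp only [Subgroup.mem_center_iff]
      decide
    omega
  have hle : F ≤ EG ψ v := by
    intro x hx
    obtain ⟨u, rfl⟩ := hr.ge (hF hx)
    exact ⟨u, Subgroup.mem_centralizer_singleton_iff.2
      (hψ (by rw [map_mul, map_mul]; exact (hFc _ hx _ hvF).1)), rfl⟩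
  have hFv : F = EG ψ v :=
    Subgroup.eq_of_le_of_card_ge hle (by rw [card_EG ψ hψ hv, hcard])
  rcases two_E v hv with ⟨-, h⟩ | ⟨-, h⟩
  · left
    rw [hFv]
    exact congrArg (Subgroup.map ψ) (Subgroup.ext fun u => by
      simp only [Subgroup.mem_centralizer_singleton_iff, h u])
  · right
    rw [hFv]
    exact congrArg (Subgroup.map ψ) (Subgroup.ext fun u => by
      simp only [Subgroup.mem_centralizer_singleton_iff, h u])

theorem N_fix_EG {g : G} (hg : g ∈ Subgroup.normalizer ((S : Subgroup G) : Set G)) (i : ZMod 4)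
    (hi : i = 0 ∨ i = 1) : g ∈ Subgroup.normalizer (EG ψ (wD 0 i) : Set G) := by
  refine mem_of_sq_mem S ψ hψ hr hg _ (S_le_normalizer S ψ hr (NC_wD _ _)) ?_
  rw [Subgroup.mem_normalizer_iff_map_conj_eq]
  set E := fun i => EG ψ (wD 0 i) with hE
  have hmap : ∀ g ∈ Subgroup.normalizer ((S : Subgroup G) : Set G), ∀ i,
      (E i).map (MulAut.conj g).toMonoidHom = E 0 ∨ (E i).map (MulAut.conj g).toMonoidHom = E 1 := by
    intro g hg i
    refine eq_EG S ψ hψ hr (NC_wD 0 i) ?_ rfl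
    rintro _ ⟨x, ⟨u, -, rfl⟩, rfl⟩
    exact (Subgroup.mem_normalizer_iff.1 hg _).1 (mem_S S ψ hr u)
  have hE01 : E 0 ≠ E 1 := by
    intro h
    obtain ⟨u, hu, e⟩ := h.le ⟨wD 0 0, Subgroup.mem_centralizer_singleton_iff.2 rfl, rfl⟩
    rw [show u = wD 0 0 from hψ e] at hu
    exact absurd (Subgroup.mem_centralizer_singleton_iff.1 hu) (by decide)
  have hinj : (E 0).map (MulAut.conj g).toMonoidHom ≠ (E 1).map (MulAut.conj g).toMonoidHom :=
    fun h => hE01 (Subgroup.map_injective (MulEquiv.injective (MulAut.conj g)) h)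
  have hsq : ∀ i, (E i).map (MulAut.conj (g ^ 2)).toMonoidHom =
      ((E i).map (MulAut.conj g).toMonoidHom).map (MulAut.conj g).toMonoidHom := by
    intro i
    refine Eq.trans ?_ (Subgroup.map_map (E i) _ _).symm
    exact congrArg (fun f => (E i).map f) (MonoidHom.ext fun x => by simp [sq, mul_assoc])
  show (E i).map (MulAut.conj (g ^ 2)).toMonoidHom = E i
  rw [hsq]
  rcases hmap g hg 0 with h0 | h0 <;> rcases hmap g hg 1 with h1 | h1 <;>
    first
      | exact absurd (h0.trans h1.symm) hinj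
      | (rcases hi with rfl | rfl <;> simp only [h0, h1])

/-- If a non-central involution of `EG (wD 0 i)` is conjugate to `a` then it is so inside the
normalizer of that subgroup. -/
theorem fuse_in_normalizer (i : ZMod 4) (hi : i = 0 ∨ i = 1) {u : D}
    (hu : u * wD 0 i = wD 0 i * u) {g : G} (hg : g * ψ u * g⁻¹ = ψ aD) :
    ∃ h ∈ Subgroup.normalizer (EG ψ (wD 0 i) : Set G), h * ψ u * h⁻¹ = ψ aD := by
  haveI : Fact (Nat.Prime 2) := ⟨Nat.prime_two⟩
  set E := EG ψ (wD 0 i) with hE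
  set C := Subgroup.centralizer ({ψ aD} : Set G) with hC
  have hSC : (S : Subgroup G) ≤ C := by
    rw [← hr]
    rintro _ ⟨v, rfl⟩
    rw [hC, Subgroup.mem_centralizer_singleton_iff, ← map_mul, ← map_mul, central_facts.1 v]
  have hEC : E.map (MulAut.conj g).toMonoidHom ≤ C := by
    rintro _ ⟨_, ⟨v, hv, rfl⟩, rfl⟩
    have h := (cent_fact (wD 0 i) v u (NC_wD 0 i)
      (Subgroup.mem_centralizer_singleton_iff.1 hv) hu).1
    rw [hC, Subgroup.mem_centralizer_singleton_iff, ← hg]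
    change g * ψ v * g⁻¹ * (g * ψ u * g⁻¹) = g * ψ u * g⁻¹ * (g * ψ v * g⁻¹)
    calc g * ψ v * g⁻¹ * (g * ψ u * g⁻¹) = g * ψ (v * u) * g⁻¹ := by rw [map_mul]; group
      _ = g * ψ u * g⁻¹ * (g * ψ v * g⁻¹) := by rw [h, map_mul]; group
  have hEp : IsPGroup 2 E := S.isPGroup'.to_le (hr ▸ Subgroup.map_le_range ψ _)
  obtain ⟨Q, hQ⟩ := ((hEp.map (MulAut.conj g).toMonoidHom).comap_of_injective C.subtype
    C.subtype_injective).exists_le_sylow
  obtain ⟨c, hc⟩ := MulAction.exists_smul_eq C Q (S.subtype hSC)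
  set h := (c : G) * g
  have hh : h * ψ u * h⁻¹ = ψ aD := by
    have := Subgroup.mem_centralizer_singleton_iff.1 c.2
    calc h * ψ u * h⁻¹ = (c : G) * (g * ψ u * g⁻¹) * (c : G)⁻¹ := by simp only [h]; group
      _ = ψ aD := by rw [hg, this, mul_inv_cancel_right]
  set F := E.map (MulAut.conj h).toMonoidHom with hFdef
  have hFS : F ≤ (S : Subgroup G) := by
    rintro _ ⟨x, hx, rfl⟩
    have hy : g * x * g⁻¹ ∈ C := hEC ⟨x, hx, rfl⟩
    have h3 : c * ⟨_, hy⟩ * c⁻¹ ∈ ((c • Q : Sylow 2 C) : Subgroup C) :=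
      ⟨⟨_, hy⟩, hQ ⟨x, hx, rfl⟩, rfl⟩
    rw [hc] at h3
    have h4 : (c : G) * (g * x * g⁻¹) * (c : G)⁻¹ ∈ (S : Subgroup G) := h3
    simpa [h, mul_assoc] using h4
  obtain ⟨j, hj, hFj⟩ : ∃ j : ZMod 4, (j = 0 ∨ j = 1) ∧ F = EG ψ (wD 0 j) := by
    rcases eq_EG S ψ hψ hr (NC_wD 0 i) hFS rfl with h' | h'
    · exact ⟨0, Or.inl rfl, h'⟩
    · exact ⟨1, Or.inr rfl, h'⟩
  have himg : ∀ (A : Subgroup G) (k : G), (fun y => k * y * k⁻¹) '' (A : Set G) =
      (A.map (MulAut.conj k).toMonoidHom : Set G) := fun A k => rfl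
  have hSn : ∀ k : ZMod 4, ∀ x ∈ S, (fun y => x * y * x⁻¹) '' (EG ψ (wD 0 k) : Set G) =
      (EG ψ (wD 0 k) : Set G) := fun k x hx => by
    rw [himg]
    exact congrArg SetLike.coe
      (Subgroup.mem_normalizer_iff_map_conj_eq.1 (S_le_normalizer S ψ hr (NC_wD 0 k) hx))
  obtain ⟨d, hd, hd'⟩ := CfsgLib.Transfer.exists_normalizer_of_image_eq S (E : Set G)
    (EG ψ (wD 0 j) : Set G) (hSn i) (hSn j) h (by rw [himg, ← hFdef, hFj])
  have hfix := N_fix_EG S ψ hψ hr hd' i hi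
  refine ⟨h, ?_, hh⟩
  have e1 : E.map (MulAut.conj (h * d)).toMonoidHom = E := Subgroup.mem_normalizer_iff_map_conj_eq.1 hfix
  have hdE : d ∈ Subgroup.normalizer (E : Set G) := by
    rw [Subgroup.mem_normalizer_iff_map_conj_eq]
    exact SetLike.coe_injective ((himg E d).symm.trans hd)
  have := mul_mem (Subgroup.mem_normalizer_iff_map_conj_eq.2 e1) (inv_mem hdE)
  rwa [mul_inv_cancel_right] at this

theorem not_both (i : ZMod 2) :
    ¬ ∀ c : ZMod 2, ∃ g : G, g * ψ (wD c (i.val : ZMod 4)) * g⁻¹ = ψ aD := by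
  classical
  intro hall
  have hi := (by decide : ∀ i : ZMod 2,
    ((i.val : ℕ) : ZMod 4) = 0 ∨ ((i.val : ℕ) : ZMod 4) = 1) i
  set k : ZMod 4 := (i.val : ZMod 4) with hk
  set E := EG ψ (wD 0 k) with hE
  haveI : Fact (Nat.Prime 5) := ⟨by norm_num⟩
  have hwk : ∀ c, wD c k * wD 0 k = wD 0 k * wD c k := by
    intro c
    exact (by decide : ∀ c i : ZMod 2, wD c (i.val : ZMod 4) * wD 0 (i.val : ZMod 4) =
      wD 0 (i.val : ZMod 4) * wD c (i.val : ZMod 4)) c i
  have haE : ψ aD ∈ E :=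
    ⟨aD, Subgroup.mem_centralizer_singleton_iff.2 (comm_wD 0 k), rfl⟩
  let R : Subgroup (MulAut E) := (Subgroup.normalizerMonoidHom E).range
  set O := MulAction.orbit R (⟨ψ aD, haE⟩ : E) with hO
  have horb : ∀ x : E, x ∈ O ↔ ∃ u : D, (u = aD ∨ ∃ c v, u = v * wD c k * v⁻¹) ∧ ψ u = x := by
    intro x
    constructor
    · rintro ⟨⟨_, n, rfl⟩, rfl⟩
      obtain ⟨u, hu, e⟩ := (Subgroup.mem_normalizer_iff.1 n.2 (ψ aD)).1 haE
      have hu' := Subgroup.mem_centralizer_singleton_iff.1 hu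
      refine ⟨u, ?_, e⟩
      have hburn : ∀ t : D, (∀ v, v * t = t * v) → ψ t = (n : G) * ψ aD * (n : G)⁻¹ → t = aD := by
        intro t ht ht'
        obtain ⟨d, hd, hd'⟩ := CfsgLib.Transfer.exists_normalizer_of_image_eq S {ψ aD} {ψ t}
          (fun x hx => by
            obtain ⟨v, rfl⟩ := hr.ge hx
            rw [Set.image_singleton, ← map_mul, central_facts.1 v, map_mul, mul_inv_cancel_right])
          (fun x hx => by
            obtain ⟨v, rfl⟩ := hr.ge hx
            rw [Set.image_singleton, ← map_mul, ht v, map_mul, mul_inv_cancel_right])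
          (n : G) (by rw [Set.image_singleton, ht'])
        rw [Set.image_singleton, Set.singleton_eq_singleton_iff] at hd
        apply hψ
        calc ψ t = (n : G) * (d * ψ aD * d⁻¹) * (n : G)⁻¹ := by rw [hd, ht']
          _ = ((n : G) * d) * ψ aD * ((n : G) * d)⁻¹ := by group
          _ = ψ aD := fix_a S ψ hψ hr hd'
      obtain ⟨hc1, hc2, hc3, -, -, ha1, haz1, haaz⟩ := central_facts
      rcases E_mem i u (by rw [← hk]; exact hu') with rfl | rfl | rfl | rfl | h
      · exact absurd (hburn 1 (by simp) e) ha1.symm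
      · exact Or.inl rfl
      · exact absurd (hburn zD hc2 e) haz1.symm
      · exact absurd (hburn _ hc3 e) haaz.symm
      · exact Or.inr h
    · rintro ⟨u, hu | ⟨c, v, hu⟩, hx⟩
      · subst hu
        rw [show x = ⟨ψ aD, haE⟩ from Subtype.ext hx.symm]
        exact MulAction.mem_orbit_self _
      · obtain ⟨g, hg⟩ := hall c
        obtain ⟨h, hhn, hh⟩ := fuse_in_normalizer S ψ hψ hr k hi (hwk c) hg
        have hn : ψ v * h⁻¹ ∈ Subgroup.normalizer (E : Set G) :=
          mul_mem (S_le_normalizer S ψ hr (NC_wD 0 k) (mem_S S ψ hr v)) (inv_mem hhn)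
        refine ⟨⟨_, ⟨⟨_, hn⟩, rfl⟩⟩, Subtype.ext ?_⟩
        change ψ v * h⁻¹ * ψ aD * (ψ v * h⁻¹)⁻¹ = (x : G)
        rw [← hx, hu, ← hh]
        simp [mul_assoc]
  have hcard : Nat.card O = 5 := by
    have hset : (Subtype.val '' O : Set G) =
        ψ '' ((Finset.univ.filter fun u : D => u = aD ∨ ∃ c v, u = v * wD c k * v⁻¹) : Finset D) := by
      ext x
      simp only [Set.mem_image, Finset.coe_filter, Finset.mem_univ, true_and, Set.mem_ofPred_eq]
      constructor
      · rintro ⟨y, hy, rfl⟩; exact (horb y).1 hy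
      · rintro ⟨u, hu, rfl⟩
        have huE : ψ u ∈ E := by
          refine ⟨u, Subgroup.mem_centralizer_singleton_iff.2 ?_, rfl⟩
          rcases hu with rfl | ⟨c, v, rfl⟩
          · exact comm_wD 0 k
          · exact cent_normal _ _ v (NC_wD 0 k) (hwk c)
        exact ⟨⟨_, huE⟩, (horb ⟨_, huE⟩).2 ⟨u, hu, rfl⟩, rfl⟩
    rw [← Nat.card_image_of_injective Subtype.val_injective, hset,
      Nat.card_image_of_injective hψ, Nat.card_coe_set_eq, Set.ncard_coe_finset, hk]
    exact orbit_five i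
  have h5 : 5 ∣ Nat.card R := by
    rw [← hcard, hO, Nat.card_congr (MulAction.orbitEquivQuotientStabilizer R _)]
    exact Subgroup.card_quotient_dvd_card _
  obtain ⟨α, hα⟩ := exists_prime_orderOf_dvd_card' 5 h5
  set A := Subgroup.zpowers α with hA
  have hAp : IsPGroup 5 A := IsPGroup.of_card (n := 1) (by rw [Nat.card_zpowers, hα, pow_one])
  have hmod := hAp.card_modEq_card_fixedPoints E
  let Fix : Subgroup E :=
    { carrier := MulAction.fixedPoints A E
      one_mem' := fun m => smul_one m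
      mul_mem' := fun {a b} ha hb m => by rw [smul_mul', ha m, hb m]
      inv_mem' := fun {a} ha m => by rw [smul_inv', ha m] }
  have hFix : Nat.card (MulAction.fixedPoints A E) ∣ 8 := by
    rw [← card_EG ψ hψ (NC_wD 0 k)]
    exact Subgroup.card_subgroup_dvd_card Fix
  rw [card_EG ψ hψ (NC_wD 0 k)] at hmod
  have h8 : Nat.card (MulAction.fixedPoints A E) = 8 := by
    have hle := Nat.le_of_dvd (by norm_num) hFix
    unfold Nat.ModEq at hmod
    interval_cases (Nat.card (MulAction.fixedPoints A E)) <;> omega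
  have htop : Fix = ⊤ := by
    apply Subgroup.eq_top_of_card_eq
    exact h8.trans (card_EG ψ hψ (NC_wD 0 k)).symm
  have hα1 : α = 1 := by
    apply Subtype.ext
    ext x
    exact congrArg Subtype.val ((htop.ge (Subgroup.mem_top x)) ⟨α, Subgroup.mem_zpowers α⟩)
  rw [hα1, orderOf_one] at hα
  norm_num at hα

theorem index_two : ∃ H : Subgroup G, H.index = 2 := by
  classical
  obtain ⟨c₀, hc₀⟩ : ∃ c₀ : ZMod 2, ∀ c, (∃ g : G, g * ψ (wD c 0) * g⁻¹ = ψ aD) → c = c₀ := by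
    by_cases h : ∃ g : G, g * ψ (wD 0 0) * g⁻¹ = ψ aD
    · refine ⟨0, fun c hc => ?_⟩
      by_contra hne
      refine not_both S ψ hψ hr 0 fun c' => ?_
      have : c' = 0 ∨ c' = c :=
        (by decide : ∀ c c' : ZMod 2, c ≠ 0 → c' = 0 ∨ c' = c) c c' hne
      rcases this with rfl | rfl
      · exact h
      · exact hc
    · refine ⟨1, fun c hc => ?_⟩
      have : c = 0 ∨ c = 1 := (by decide : ∀ c : ZMod 2, c = 0 ∨ c = 1) c
      rcases this with rfl | rfl
      · exact absurd hc h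
      · rfl
  obtain ⟨c₁, hc₁⟩ : ∃ c₁ : ZMod 2, ∀ c, (∃ g : G, g * ψ (wD c 1) * g⁻¹ = ψ aD) → c = c₁ := by
    by_cases h : ∃ g : G, g * ψ (wD 0 1) * g⁻¹ = ψ aD
    · refine ⟨0, fun c hc => ?_⟩
      by_contra hne
      refine not_both S ψ hψ hr 1 fun c' => ?_
      have : c' = 0 ∨ c' = c :=
        (by decide : ∀ c c' : ZMod 2, c ≠ 0 → c' = 0 ∨ c' = c) c c' hne
      rcases this with rfl | rfl
      · exact h
      · exact hc
    · refine ⟨1, fun c hc => ?_⟩
      have : c = 0 ∨ c = 1 := (by decide : ∀ c : ZMod 2, c = 0 ∨ c = 1) c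
      rcases this with rfl | rfl
      · exact absurd hc h
      · rfl
  set φ : D →* Multiplicative (ZMod 2) := MonoidHom.mk' (phiFun c₀ c₁) (phiFun_mul c₀ c₁)
  have hQ : (φ.ker.map ψ).relIndex (S : Subgroup G) = 2 := by
    rw [← hr, MonoidHom.range_eq_map, Subgroup.relIndex_map_map_of_injective _ _ hψ,
      Subgroup.relIndex_top_right, Subgroup.index_ker,
      MonoidHom.range_eq_top.2 (show Function.Surjective φ from phi_surj c₀ c₁), Subgroup.card_top,
      Nat.card_eq_fintype_card]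
    rfl
  obtain ⟨M, -, hM, -⟩ := CfsgLib.Transfer.thompson_transfer S (φ.ker.map ψ) hQ (ψ aD)
    (by rw [sq, ← map_mul, central_facts.2.2.2.1, map_one]) (by
      rintro g hg ⟨u, hu, he⟩
      have hu1 : φ u = 1 := hu
      change phiFun c₀ c₁ u = 1 at hu1
      have hga : g⁻¹ * ψ u * (g⁻¹)⁻¹ = ψ aD := by rw [he]; group
      obtain ⟨hc1, hc2, hc3, ha2, -, ha1, haz1, haaz⟩ := central_facts
      have hburn : (∀ v, v * u = u * v) → u = aD := by
        intro ht
        obtain ⟨d, hd, hd'⟩ := CfsgLib.Transfer.exists_normalizer_of_image_eq S {ψ aD} {ψ u}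
          (fun x hx => by
            obtain ⟨v, rfl⟩ := hr.ge hx
            rw [Set.image_singleton, ← map_mul, hc1 v, map_mul, mul_inv_cancel_right])
          (fun x hx => by
            obtain ⟨v, rfl⟩ := hr.ge hx
            rw [Set.image_singleton, ← map_mul, ht v, map_mul, mul_inv_cancel_right])
          g (by rw [Set.image_singleton, he])
        rw [Set.image_singleton, Set.singleton_eq_singleton_iff] at hd
        apply hψ
        calc ψ u = g * (d * ψ aD * d⁻¹) * g⁻¹ := by rw [hd, he]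
          _ = (g * d) * ψ aD * (g * d)⁻¹ := by group
          _ = ψ aD := fix_a S ψ hψ hr hd'
      by_cases hcen : ∀ v, v * u = u * v
      · rw [hburn hcen] at hu1
        exact phi_aD c₀ c₁ hu1
      push Not at hcen
      have hu2 : u * u = 1 := hψ (by
        rw [map_mul, he, map_one]
        calc g * ψ aD * g⁻¹ * (g * ψ aD * g⁻¹) = g * (ψ aD * ψ aD) * g⁻¹ := by group
          _ = 1 := by rw [← map_mul, ha2, map_one, mul_one, mul_inv_cancel])
      have key : ∀ u : D, NC u → ∃ c v, u = v * wD c 0 * v⁻¹ ∨ u = v * wD c 1 * v⁻¹ := by decide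
      obtain ⟨c, v, h⟩ := key u ⟨hu2, hcen⟩
      have hconj : ∀ k, u = v * wD c k * v⁻¹ → ∃ g' : G, g' * ψ (wD c k) * g'⁻¹ = ψ aD := by
        intro k hk
        refine ⟨g⁻¹ * ψ v, ?_⟩
        rw [← hga, hk]
        simp [mul_assoc]
      have hφc : ∀ x, phiFun c₀ c₁ (v * x * v⁻¹) = phiFun c₀ c₁ x := fun x => by
        change φ (v * x * v⁻¹) = φ x
        rw [map_mul, map_mul, map_inv, mul_right_comm, mul_inv_cancel, one_mul]
      rcases h with h | h
      · have := hc₀ c (hconj 0 h); subst this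
        rw [h, hφc] at hu1
        exact (phi_w₀ _ _).1 hu1
      · have := hc₁ c (hconj 1 h); subst this
        rw [h, hφc] at hu1
        exact (phi_w₀ _ _).2 hu1)
  exact ⟨M, hM⟩

end Fusion

/-- A finite group whose Sylow 2-subgroups are isomorphic to the direct product of a group of order 2 and a dihedral group of order 8 has a subgroup of index two. -/
theorem result {G : Type*} [Group G] [Finite G] (S : Sylow 2 G) (hS : Nonempty (↥(S : Subgroup G) ≃* Multiplicative (ZMod 2) × DihedralGroup 4)) : ∃ H : Subgroup G, H.index = 2 := by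
  obtain ⟨e⟩ := hS
  exact index_two S ((S : Subgroup G).subtype.comp e.symm.toMonoidHom)
    ((S : Subgroup G).subtype_injective.comp e.symm.injective)
    (by
      rw [MonoidHom.range_comp, MonoidHom.range_eq_top.2 e.symm.surjective,
        ← MonoidHom.range_eq_map, Subgroup.range_subtype])

end Cfsg.Agent.S2911
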