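import Cfsg.Statements.S0633
import Cfsg.Agent.Lib.HallHigman.Setup
import Cfsg.Agent.Lib.HallHigman.TheoremB

set_option autoImplicit false
open Cfsg

namespace Cfsg.Agent.S0633

open CfsgLib.PCore CfsgLib.HallHigman
open scoped TensorProduct

/-- Theorem B of Hall and Higman on the minimal polynomial of a p-element of order p^n in a p-solvable linear group on a nonzero vector space in characteristic p with no nontrivial normal p-subgroup: its degree is p^n, except when some p^n₀ - 1 (n₀ ≤ n) is a power of a prime q for which the Sylow q-subgroups are non-abelian, in which case the degree is at least p^(n-n₀)(p^n₀ - 1). -/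
theorem result {F : Type*} [Field F] {p : ℕ} [Fact p.Prime] [CharP F p] {V : Type*} [AddCommGroup V] [Module F V] [FiniteDimensional F V] [Nontrivial V] (H : Subgroup (V ≃ₗ[F] V)) [Finite H] (hsol : Cfsg.IsPSolvable p H) (hOp : Cfsg.pCore p H = ⊥) (x : V ≃ₗ[F] V) (hx : x ∈ H) (n : ℕ) (hn : orderOf x = p ^ n) (r : ℕ) (hr : minpoly F (x : Module.End F V) = (Polynomial.X - 1) ^ r) : r = p ^ n ∨ ∃ n₀ q m : ℕ, 1 ≤ n₀ ∧ n₀ ≤ n ∧ q.Prime ∧ 1 ≤ m ∧ p ^ n₀ - 1 = q ^ m ∧ (∀ Q : Sylow q H, ¬ IsMulCommutative Q) ∧ p ^ (n - n₀) * (p ^ n₀ - 1) ≤ r := by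
  classical
  set s : Module.End F V := (x : Module.End F V) with hs
  have hpow : ∀ k : ℕ, s ^ k = ((x ^ k : V ≃ₗ[F] V) : Module.End F V) := by
    intro k
    induction k with
    | zero => rfl
    | succ k ih => rw [pow_succ, pow_succ, ih]; rfl
  have : CharP (Module.End F V) p := by
    refine (CharP.charP_iff_prime_eq_zero (Fact.out : p.Prime)).mpr (LinearMap.ext fun v => ?_)
    rw [Module.End.natCast_apply, ← Nat.cast_smul_eq_nsmul F, CharP.cast_eq_zero, zero_smul]
    rfl
  have hint : IsIntegral F s := IsIntegral.of_finite F s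
  have hr0 : (s - 1) ^ r = 0 := by
    have h := minpoly.aeval F s
    rw [hr] at h
    simpa using h
  have hrle : r ≤ p ^ n := by
    have h1 : (Polynomial.aeval s) ((Polynomial.X - 1 : Polynomial F) ^ p ^ n) = 0 := by
      simp only [map_pow, map_sub, map_one, Polynomial.aeval_X]
      rw [sub_pow_char_pow_of_commute p n (Commute.one_right s), one_pow, hpow, ← hn, pow_orderOf_eq_one]
      exact sub_self _
    have h2 := minpoly.dvd F s h1
    rw [hr] at h2
    have h3 := Polynomial.natDegree_le_of_dvd h2 (pow_ne_zero _ (by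
      simpa using Polynomial.X_sub_C_ne_zero (1 : F)))
    rw [Polynomial.natDegree_pow, Polynomial.natDegree_pow, show (Polynomial.X - 1 : Polynomial F) =
      Polynomial.X - Polynomial.C 1 by rw [map_one], Polynomial.natDegree_X_sub_C, mul_one, mul_one] at h3
    exact h3
  rcases n with _ | m
  · left
    rcases Nat.lt_or_ge r 1 with h | h
    · exfalso
      rw [Nat.lt_one_iff.mp h, pow_zero] at hr0
      exact one_ne_zero hr0
    · rw [pow_zero] at hrle ⊢; omega
  set xH : H := ⟨x, hx⟩ with hxH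
  have hord : orderOf xH = p ^ (m + 1) := by rw [← hn, hxH, Subgroup.orderOf_mk]
  obtain ⟨q, hq, R, hqp, hR, hxR, hyR, S, hRS⟩ := exists_invariant_not_centralized hsol hOp xH
    (xH ^ p ^ m) ⟨m + 1, hord⟩ (Subgroup.pow_mem _ (Subgroup.mem_zpowers _) _) (fun h => by
      have h1 : p ^ (m + 1) ≤ p ^ m :=
        Nat.le_of_dvd (pow_pos (Fact.out : p.Prime).pos _) (hord ▸ orderOf_dvd_of_pow_eq_one h)
      exact absurd h1 (not_le.mpr (Nat.pow_lt_pow_right (Fact.out : p.Prime).one_lt (Nat.lt_succ_self m))))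
  let K := AlgebraicClosure F
  have : CharP K p := charP_of_injective_algebraMap (algebraMap F K).injective p
  let ρ : H →* Module.End K (K ⊗[F] V) :=
    { toFun := fun h => ((h : V ≃ₗ[F] V) : V →ₗ[F] V).baseChange K
      map_one' := by
        refine TensorProduct.AlgebraTensorModule.curry_injective ?_
        ext a
        rfl
      map_mul' := fun a b => by
        refine TensorProduct.AlgebraTensorModule.curry_injective ?_
        ext a
        rfl }
  have hρ : Function.Injective ρ := by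
    intro a b hab
    refine Subtype.ext (LinearEquiv.ext fun v => ?_)
    by_contra hne
    obtain ⟨ψ, hψ⟩ := exists_dual_eq_one (K := F) (sub_ne_zero.mpr hne)
    have h1 : ((1 : K) ⊗ₜ[F] ((a : V ≃ₗ[F] V) v)) = (1 : K) ⊗ₜ[F] ((b : V ≃ₗ[F] V) v) :=
      LinearMap.congr_fun hab ((1 : K) ⊗ₜ[F] v)
    have h0 : ((1 : K) ⊗ₜ[F] ((a : V ≃ₗ[F] V) v - (b : V ≃ₗ[F] V) v)) = 0 := by
      rw [TensorProduct.tmul_sub, h1, sub_self]
    have h2 := congrArg (fun t => TensorProduct.AlgebraTensorModule.rid F K K (LinearMap.baseChange K ψ t)) h0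
    simp only [LinearMap.baseChange_tmul, TensorProduct.AlgebraTensorModule.rid_tmul, map_zero] at h2
    rw [hψ, one_smul] at h2
    exact one_ne_zero h2
  have hdeg := degree_bound (K := K) (V := K ⊗[F] V) ρ xH m (by rw [← hord, pow_orderOf_eq_one]) hqp R hR hxR
    (by
      by_contra hcon
      push Not at hcon
      refine hyR fun g hg => hρ ?_
      rw [map_mul, map_mul]
      exact hcon g hg)
  have hlow : ∀ j, (ρ xH - 1) ^ j ≠ 0 → j < r := by
    intro j hj
    by_contra hle
    apply hj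
    have h1 : (s - 1) ^ j = 0 := pow_eq_zero_of_le (not_lt.mp hle) hr0
    have h2 : ∀ (i : ℕ) (v : V), ((ρ xH - 1) ^ i) ((1 : K) ⊗ₜ[F] v) = (1 : K) ⊗ₜ[F] (((s - 1) ^ i) v) := by
      intro i
      induction i with
      | zero => intro v; rfl
      | succ i ih =>
        intro v
        rw [pow_succ, pow_succ, Module.End.mul_apply, Module.End.mul_apply, LinearMap.sub_apply,
          Module.End.one_apply]
        show ((ρ xH - 1) ^ i) ((1 : K) ⊗ₜ[F] (s v) - (1 : K) ⊗ₜ[F] v) = _
        rw [← TensorProduct.tmul_sub, ih]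
        rfl
    refine TensorProduct.AlgebraTensorModule.curry_injective ?_
    ext v
    simp [h2, h1]
  rcases hdeg with h | ⟨n₀, d, h1, h2, h3, h4, h5, h6⟩
  · left
    have h0 := hlow (p ^ (m + 1) - 1) (h _ (Nat.sub_lt (pow_pos (Fact.out : p.Prime).pos _) one_pos))
    omega
  · right
    refine ⟨n₀, q, d, h1, h2, hq.out, h3, by omega, fun Q hQc => h5 ?_, ?_⟩
    · intro a ha b hb
      obtain ⟨g, hg⟩ := MulAction.exists_smul_eq H Q S
      have hT : (S : Subgroup H) = (Q : Subgroup H).map (MulAut.conj g).toMonoidHom := by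
        rw [← hg]; rfl
      obtain ⟨a', ha', rfl⟩ := hT.le (hRS ha)
      obtain ⟨b', hb', rfl⟩ := hT.le (hRS hb)
      rw [← map_mul, ← map_mul]
      exact congrArg _ (congrArg Subtype.val (isMulCommutative_iff.mp hQc ⟨a', ha'⟩ ⟨b', hb'⟩))
    · by_contra hlt
      rcases Nat.eq_zero_or_pos (p ^ (m + 1 - n₀) * (p ^ n₀ - 1)) with h0 | h0
      · omega
      · have := hlow _ (h6 (p ^ (m + 1 - n₀) * (p ^ n₀ - 1) - 1) (by omega))
        omega

end Cfsg.Agent.S0633
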