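import Cfsg.Statements.S0110
import Cfsg.Agent.Lib.PGroup.ExtraspecialIso

set_option autoImplicit false
open Cfsg

namespace Cfsg.Agent.S0110

open Subgroup
open scoped commutatorElement


/-- In a p-group G, an extraspecial subgroup E with [G, E] ≤ Z(E) satisfies G = E C_G(E). -/
theorem result {G : Type*} [Group G] [Finite G] {p : ℕ} [Fact p.Prime] (hG : IsPGroup p G) (E : Subgroup G) (hE : Cfsg.IsExtraspecial p E) (h : ⁅(⊤ : Subgroup G), E⁆ ≤ E ⊓ Subgroup.centralizer (E : Set G)) : E ⊔ Subgroup.centralizer (E : Set G) = ⊤ := by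
  refine top_le_iff.mp fun g _ => ?_
  have hcc := CfsgLib.PGroup.extraspecial_comm_mem_center hE
  have hzc : ∀ a ∈ E ⊓ centralizer (E : Set G), ∀ x ∈ E, x * a = a * x := fun a ha x hx =>
    mem_centralizer_iff.mp (mem_inf.mp ha).2 x hx
  have hg : ∀ x ∈ E, ⁅g, x⁆ ∈ E ⊓ centralizer (E : Set G) := fun x hx =>
    h (commutator_mem_commutator (mem_top g) hx)
  let ψ : E →* center E :=
    { toFun := fun x => ⟨⟨⁅g, (x : G)⁆, (mem_inf.mp (hg x x.2)).1⟩, mem_center_iff.mpr fun u =>
        Subtype.ext (hzc _ (hg x x.2) u u.2)⟩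
      map_one' := by
        apply Subtype.ext; apply Subtype.ext
        simp [commutatorElement_def]
      map_mul' := fun x y => by
        apply Subtype.ext; apply Subtype.ext
        have h1 := hzc _ (hg y y.2) x x.2
        calc ⁅g, (x : G) * y⁆ = ⁅g, (x : G)⁆ * ((x : G) * ⁅g, (y : G)⁆ * (x : G)⁻¹) := by
              simp [commutatorElement_def, mul_assoc]
          _ = ⁅g, (x : G)⁆ * ⁅g, (y : G)⁆ := by rw [h1, mul_inv_cancel_right] }
  obtain ⟨z, hz, hz1⟩ := CfsgLib.ExtraIso.exists_center_ne_one hE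
  have key : ∀ n, ∀ H : Subgroup E, CfsgLib.ExtraIso.Good H → Nat.card H = n →
      ∃ e ∈ H, ∀ x ∈ H, ⁅e, x⁆ = (ψ x : E) := by
    intro n
    induction n using Nat.strong_induction_on with
    | _ n ih =>
    intro H hH hn
    by_cases hp' : Nat.card H ≤ p
    · have hHZ : center E = H := eq_of_le_of_card_ge hH.1 (by rw [hE.2]; exact hp')
      refine ⟨1, H.one_mem, fun x hx => ?_⟩
      have hx' : x ∈ commutator E := by rw [hE.1.2.2, hHZ]; exact hx
      letI : CommGroup (center E) :=
        { (inferInstance : Group (center E)) with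
          mul_comm := fun a b => Subtype.ext (mem_center_iff.mp b.2 a) }
      have : ψ x = 1 := Abelianization.commutator_subset_ker ψ hx'
      rw [this, commutatorElement_one_left]
      rfl
    · obtain ⟨x, y, C, s⟩ := CfsgLib.ExtraIso.exists_split hE hH (not_le.mp hp') hz hz1
      have hlt : Nat.card C < n := by
        rw [← hn, s.card]
        exact lt_mul_of_one_lt_left Nat.card_pos
          (Nat.one_lt_pow two_ne_zero (Fact.out : p.Prime).one_lt)
      obtain ⟨eC, heC, heC'⟩ := ih _ hlt C s.good rfl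
      have hzx := CfsgLib.PGroup.extraspecial_zpowers_eq_center hE hz hz1
      obtain ⟨a, ha⟩ : ∃ a : ℤ, z ^ a = (ψ y : E) := mem_zpowers_iff.mp (hzx.ge (ψ y).2)
      obtain ⟨b, hb⟩ : ∃ b : ℤ, z ^ b = (ψ x : E) := mem_zpowers_iff.mp (hzx.ge (ψ x).2)
      let L : E → (E →* E) := fun w =>
        { toFun := fun u => ⁅u, w⁆
          map_one' := commutatorElement_one_left w
          map_mul' := fun u v =>
            CfsgLib.PGroup.commutatorElement_mul_left_of_central u v w (hcc v w) }
      have hyx : ⁅y, x⁆ = z⁻¹ := by rw [← s.comm, commutatorElement_inv]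
      refine ⟨x ^ a * y ^ (-b) * eC, H.mul_mem (H.mul_mem (H.zpow_mem s.mem_x a)
        (H.zpow_mem s.mem_y _)) (s.le heC), ?_⟩
      intro w hw
      let R : E →* E :=
        { toFun := fun v => ⁅x ^ a * y ^ (-b) * eC, v⁆
          map_one' := commutatorElement_one_right _
          map_mul' := fun u v =>
            CfsgLib.PGroup.commutatorElement_mul_right_of_central _ u v (hcc _ v) }
      suffices hsuff : H ≤ R.eqLocus ((center E).subtype.comp ψ) from hsuff hw
      rw [← s.sup]
      have hLx : ∀ u, L x u = ⁅u, x⁆ := fun u => rfl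
      have hLy : ∀ u, L y u = ⁅u, y⁆ := fun u => rfl
      refine sup_le (zpowers_le.mpr ?_) (sup_le (zpowers_le.mpr ?_) fun c hc => ?_)
      · show L x (x ^ a * y ^ (-b) * eC) = (ψ x : E)
        rw [map_mul, map_mul, map_zpow, map_zpow, hLx x, hLx y, hLx eC, hyx,
          commutatorElement_self, one_zpow, one_mul,
          commutatorElement_eq_one_iff_mul_comm.mpr (s.comm_x eC heC).symm, mul_one, ← hb]
        simp
      · show L y (x ^ a * y ^ (-b) * eC) = (ψ y : E)
        rw [map_mul, map_mul, map_zpow, map_zpow, hLy x, hLy y, hLy eC, s.comm,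
          commutatorElement_self, one_zpow, mul_one,
          commutatorElement_eq_one_iff_mul_comm.mpr (s.comm_y eC heC).symm, mul_one, ← ha]
      · show L c (x ^ a * y ^ (-b) * eC) = (ψ c : E)
        have h1 : L c x = 1 := commutatorElement_eq_one_iff_mul_comm.mpr (s.comm_x c hc)
        have h2 : L c y = 1 := commutatorElement_eq_one_iff_mul_comm.mpr (s.comm_y c hc)
        rw [map_mul, map_mul, map_zpow, map_zpow, h1, h2, one_zpow, one_zpow, one_mul, one_mul]
        exact heC' c hc
  obtain ⟨e, -, he⟩ := key _ ⊤ CfsgLib.ExtraIso.good_top rfl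
  have hc : (e : G)⁻¹ * g ∈ centralizer (E : Set G) := by
    rw [mem_centralizer_iff]
    intro x hx
    have h1 : ⁅(e : G), x⁆ = ⁅g, x⁆ := congrArg Subtype.val (he ⟨x, hx⟩ (mem_top _))
    have h2 : (e : G) * x * (e : G)⁻¹ = g * x * g⁻¹ :=
      mul_right_cancel (b := x⁻¹) (by simpa [commutatorElement_def] using h1)
    calc x * ((e : G)⁻¹ * g) = (e : G)⁻¹ * ((e : G) * x * (e : G)⁻¹) * g := by group
      _ = (e : G)⁻¹ * g * x := by rw [h2]; group
  simpa using mul_mem_sup e.2 hc

end Cfsg.Agent.S0110
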