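import Cfsg.Statements.S3761
import Cfsg.Agent.Lib.PGroup.CyclicIndexData
import Cfsg.Agent.Lib.TwoGroups.Semidihedral
import Cfsg.Agent.Lib.Coprime.Basic

set_option autoImplicit false
open Cfsg

namespace Cfsg.Agent.S3761

section Aux

variable {G : Type*} [Group G]

open Subgroup

theorem conj_pow_zpow {u g : G} {r : ℤ} (h : g * u * g⁻¹ = u ^ r) :
    ∀ k : ℕ, g ^ k * u * (g ^ k)⁻¹ = u ^ (r ^ k) := by
  intro k
  induction k with
  | zero => simp
  | succ k ih =>
    calc g ^ (k + 1) * u * (g ^ (k + 1))⁻¹ = g * (g ^ k * u * (g ^ k)⁻¹) * g⁻¹ := by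
          rw [pow_succ']; group
      _ = u ^ (r ^ (k + 1)) := by rw [ih, ← conj_zpow, h, ← zpow_mul, pow_succ']

theorem geom_unit {p : ℕ} (hp : p.Prime) {r : ℤ} (hr1 : (p : ℤ) ∣ r - 1)
    (hr4 : p = 2 → (4 : ℤ) ∣ r - 1) :
    ∃ c : ℤ, ¬ (p : ℤ) ∣ c ∧ ∑ i ∈ Finset.range p, r ^ i = (p : ℤ) * c := by
  obtain ⟨t, ht⟩ := hr1
  rcases hp.eq_two_or_odd' with rfl | hodd
  · obtain ⟨w, hw⟩ := hr4 rfl
    refine ⟨1 + 2 * w, ?_, ?_⟩
    · push_cast; omega
    · simp [Finset.sum_range_succ]; linarith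
  · have h2 := odd_sq_dvd_geom_sum₂_sub (p := p) (R := ℤ) 1 t hodd
    simp only [one_pow, mul_one, show (1 : ℤ) + p * t = r by linarith] at h2
    obtain ⟨w, hw⟩ := h2
    refine ⟨1 + p * w, ?_, by linarith⟩
    intro hd
    have h1 : (p : ℤ) ∣ 1 := by
      simpa using dvd_sub hd (Dvd.intro w rfl : (p : ℤ) ∣ p * w)
    have := Int.le_of_dvd one_pos h1
    have := hp.two_le
    omega

theorem mul_pow_geom {x y : G} {r : ℤ} (hr : y * x * y⁻¹ = x ^ r) (a : ℤ) :
    ∀ n : ℕ, (x ^ a * y) ^ n = x ^ (a * ∑ i ∈ Finset.range n, r ^ i) * y ^ n := by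
  intro n
  induction n with
  | zero => simp
  | succ n ih =>
    rw [pow_succ' (x ^ a * y), ih, geom_sum_succ]
    generalize (∑ i ∈ Finset.range n, r ^ i) = S
    calc x ^ a * y * (x ^ (a * S) * y ^ n)
        = x ^ a * (y * x * y⁻¹) ^ (a * S) * (y * y ^ n) := by rw [conj_zpow]; group
      _ = x ^ (a * (r * S + 1)) * y ^ (n + 1) := by
        rw [hr, ← zpow_mul, ← zpow_add, pow_succ']; ring_nf

/-- Only the exponents `r` with `r ≡ 1 mod p^(n-1)` give elements of `C(u^p)`. -/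
theorem commute_pow_iff {p m : ℕ} (hp : p.Prime) {u g : G} {r : ℤ}
    (hu : orderOf u = p ^ (m + 1)) (hg : g * u * g⁻¹ = u ^ r) :
    Commute g (u ^ p) ↔ ((p : ℤ) ^ m) ∣ r - 1 := by
  have h1 : g * u ^ p * g⁻¹ = u ^ ((p : ℤ) * r) := by
    rw [← conj_pow, hg, ← zpow_natCast, ← zpow_mul, mul_comm]
  rw [show Commute g (u ^ p) ↔ g * u ^ p * g⁻¹ = u ^ p from mul_inv_eq_iff_eq_mul.symm, h1,
    ← zpow_natCast u p, ← mul_inv_eq_one, ← zpow_neg, ← zpow_add, ← orderOf_dvd_iff_zpow_eq_one,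
    hu, show (p : ℤ) * r + -(p : ℤ) = (p : ℤ) * (r - 1) by ring, Nat.cast_pow, pow_succ',
    mul_dvd_mul_iff_left (by exact_mod_cast hp.ne_zero)]

/-- An element outside `C(u^p)` whose `p`-th power fixes `u`. -/
theorem inverting [Finite G] {p m : ℕ} (hp : p.Prime) {u h : G} {r : ℤ} (hu : orderOf u = p ^ (m + 2))
    (hr : h * u * h⁻¹ = u ^ r) (hh : Commute (h ^ p) u) (hn : ¬ (p : ℤ) ^ (m + 1) ∣ r - 1) :
    p = 2 ∧ 1 ≤ m ∧ (2 : ℤ) ^ (m + 1) ∣ r + 1 := by
  have h1 : (p : ℤ) ^ (m + 2) ∣ r ^ p - 1 := by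
    have h2 := conj_pow_zpow hr p
    rw [mul_inv_eq_iff_eq_mul.mpr hh.eq] at h2
    have := CfsgLib.CyclicIndex.dvd_sub_of_zpow_eq hu (i := r ^ p) (j := 1)
      (by rw [← h2, zpow_one])
    exact_mod_cast this
  rcases hp.eq_two_or_odd' with rfl | hodd
  · push_cast at h1 hn
    have h3 := (CfsgLib.CyclicIndex.pow_dvd_or h1).resolve_left hn
    refine ⟨rfl, ?_, h3⟩
    rcases Nat.eq_zero_or_pos m with rfl | hm
    · exfalso
      refine hn ?_
      norm_num at h3 ⊢
      omega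
    · exact hm
  · exfalso
    apply hn
    haveI := Fact.mk hp
    have hp1 : (p : ℤ) ∣ r - 1 := by
      have h2 : (p : ℤ) ∣ r ^ p - 1 := (dvd_pow_self _ (by omega)).trans h1
      rw [← ZMod.intCast_zmod_eq_zero_iff_dvd] at h2 ⊢
      push_cast at h2 ⊢
      rwa [ZMod.pow_card] at h2
    obtain ⟨c, hc, hsum⟩ := geom_unit hp hp1 (fun h => absurd (h ▸ hodd) (by decide))
    rw [← geom_sum_mul, hsum, pow_succ', mul_assoc,
      mul_dvd_mul_iff_left (by exact_mod_cast hp.ne_zero)] at h1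
    exact (Nat.prime_iff_prime_int.1 hp).pow_dvd_of_dvd_mul_left _ hc h1

/-- Index two and a cyclic self-centralizing subgroup. -/
theorem two_case [Finite G] {n : ℕ} (hn : 2 ≤ n) (U : Subgroup G) (u : G) (hu : U = zpowers u)
    (hU : Nat.card U = 2 ^ n) (hi : U.index = 2) (hna : ∃ x y : G, x * y ≠ y * x)
    (hM : 3 ≤ n → ∃ x : G, ¬ Commute x (u ^ 2)) :
    Nat.card G = 2 ^ (n + 1) ∧ ((∃ m : ℕ, Nonempty (G ≃* DihedralGroup m)) ∨
      (∃ m : ℕ, Nonempty (G ≃* QuaternionGroup m)) ∨ Cfsg.IsQuasiDihedral G) := by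
  have hG : Nat.card G = 2 ^ (n + 1) := by rw [← U.card_mul_index, hU, hi, pow_succ]
  refine ⟨hG, ?_⟩
  have hcyc : IsCyclic U := by subst hu; infer_instance
  obtain ⟨a, b, ha, hb, hcase⟩ :=
    CfsgLib.CyclicIndex.two_classification (n := n + 1) (by omega) hG U hcyc hi hna
  rw [show n + 1 - 1 = n by omega] at ha
  rw [show n + 1 - 2 = n - 1 by omega] at hcase
  have hb1 : b ≠ 1 := fun h => hb (h ▸ one_mem _)
  obtain ⟨l, rfl⟩ : ∃ l, n = l + 1 := ⟨n - 1, by omega⟩
  rw [show l + 1 - 1 = l by omega] at hcase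
  rcases hcase with ⟨h2, hinv⟩ | ⟨h2, hinv⟩ | ⟨h4, h2, hconj⟩ | ⟨h4, h2, hconj⟩
  · left
    refine ⟨2 ^ (l + 1), ?_⟩
    have hu' : a ^ 2 ^ (l + 1) = 1 := by rw [← ha]; exact pow_orderOf_eq_one a
    haveI : NeZero (2 ^ (l + 1)) := ⟨by positivity⟩
    let f := CfsgLib.TwoGroups.SD.dihedralHom (m := 2 ^ (l + 1)) a b hu' (by rw [← pow_two, h2]) hinv
    have hf : Function.Injective f :=
      CfsgLib.TwoGroups.SD.dihedralHom_injective a b hu' (by rw [← pow_two, h2]) hinv ha hb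
    refine ⟨(MulEquiv.ofBijective f ((Nat.bijective_iff_injective_and_card _).2 ⟨hf, ?_⟩)).symm⟩
    rw [DihedralGroup.nat_card, hG]
    ring
  · right; left
    refine ⟨2 ^ l, ?_⟩
    have hm2 : 2 * 2 ^ l = 2 ^ (l + 1) := (pow_succ' 2 l).symm
    have hu' : a ^ (2 * 2 ^ l) = 1 := by rw [hm2, ← ha]; exact pow_orderOf_eq_one a
    have hv : b * b = a ^ 2 ^ l := by rw [← pow_two, h2]
    haveI : NeZero (2 ^ l) := ⟨by positivity⟩
    let f := CfsgLib.TwoGroups.SD.quaternionHom (m := 2 ^ l) a b hu' hv hinv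
    have hf : Function.Injective f :=
      CfsgLib.TwoGroups.SD.quaternionHom_injective a b hu' hv hinv (by rw [hm2, ha]) hb
    refine ⟨(MulEquiv.ofBijective f ((Nat.bijective_iff_injective_and_card _).2 ⟨hf, ?_⟩)).symm⟩
    rw [Nat.card_eq_fintype_card, QuaternionGroup.card, hG]
    ring
  · exfalso
    obtain ⟨t, ht⟩ := hM (by omega)
    have hidx : (zpowers a).index = 2 := by
      have h := (zpowers a).card_mul_index
      rw [Nat.card_zpowers, ha, hG, pow_succ 2 (l + 1)] at h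
      exact Nat.eq_of_mul_eq_mul_left (by positivity) h
    have hdec : ∀ x : G, ∃ k : ℤ, x = a ^ k ∨ x = a ^ k * b := fun x => by
      by_cases hx : x ∈ zpowers a
      · obtain ⟨k, hk⟩ := mem_zpowers_iff.mp hx
        exact ⟨k, Or.inl hk.symm⟩
      · obtain ⟨k, hk⟩ := mem_zpowers_iff.mp
          ((mul_mem_iff_of_index_two hidx (a := x) (b := b⁻¹)).2
            (iff_of_false hx (by rwa [inv_mem_iff])))
        exact ⟨k, Or.inr (by rw [hk]; group)⟩
    have hba : Commute b (a ^ 2) := by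
      rw [Commute, SemiconjBy, ← mul_inv_eq_iff_eq_mul, ← conj_pow, hconj, ← pow_mul, add_mul,
        one_mul, ← pow_succ, pow_add, ← ha, pow_orderOf_eq_one, mul_one]
    have hu2 : u ^ 2 ∈ zpowers (a ^ 2) := by
      obtain ⟨k, rfl | rfl⟩ := hdec u
      · exact ⟨k, by group⟩
      · refine ⟨k * (1 + 2 ^ (l - 1)), ?_⟩
        have hl : (2 : ℕ) ^ l = 2 * 2 ^ (l - 1) := by
          rw [← pow_succ', show l - 1 + 1 = l by omega]
        have hb2 : (a ^ k * b) ^ 2 = a ^ k * (b * a * b⁻¹) ^ k * b ^ 2 := by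
          rw [conj_zpow, pow_two, pow_two]; group
        show (a ^ 2) ^ (k * (1 + 2 ^ (l - 1))) = _
        rw [hb2, h2, mul_one, hconj, hl, ← zpow_natCast a 2, ← zpow_natCast a, ← zpow_mul,
          ← zpow_mul, ← zpow_add]
        congr 1
        push_cast
        ring
    obtain ⟨i, hi2⟩ := mem_zpowers_iff.mp hu2
    apply ht
    rw [← hi2]
    obtain ⟨k, rfl | rfl⟩ := hdec t
    · exact (((Commute.refl a).zpow_left k).pow_right 2).zpow_right i
    · exact (((((Commute.refl a).zpow_left k).pow_right 2)).mul_left hba).zpow_right i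
  · right; right
    exact ⟨l + 1, by omega, hG, a, b, ha, orderOf_eq_prime h2 hb1,
      by rw [show l + 1 - 1 = l by omega]; exact hconj⟩

/-- The case of `C(U^p) ≠ U`. -/
theorem omega_case [Finite G] {p m : ℕ} [hp : Fact p.Prime] (U : Subgroup G) [hUN : U.Normal]
    (M : Subgroup G) (u : G) (hu : U = zpowers u) (ho : orderOf u = p ^ (m + 2))
    (hC : centralizer (U : Set G) = U) (hM : ∀ g, g ∈ M ↔ Commute g (u ^ p)) [hMN : M.Normal]
    (hne : M ≠ U) (h2 : p = 2 → 1 ≤ m) :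
    U.relIndex M = p ∧ Cfsg.IsElementaryAbelian p (Cfsg.omegaOne p M) ∧
      Nat.card ↥(Cfsg.omegaOne p M) = p ^ 2 ∧ (Cfsg.omegaOne p M).Characteristic := by
  have huU : u ∈ U := hu ▸ mem_zpowers u
  have hP0 : (p : ℤ) ≠ 0 := by exact_mod_cast hp.out.ne_zero
  set P : ℤ := (p : ℤ) ^ (m + 1) with hP
  have hcong : ∀ {i j : ℤ}, P * p ∣ i - j → u ^ i = u ^ j := fun h =>
    CfsgLib.CyclicIndex.zpow_eq_zpow ho (by
      push_cast; rw [hP, ← pow_succ] at h; exact h)
  have hdvd : ∀ {i j : ℤ}, u ^ i = u ^ j → P * p ∣ i - j := fun h => by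
    have := CfsgLib.CyclicIndex.dvd_sub_of_zpow_eq ho h
    push_cast at this; rwa [hP, ← pow_succ]
  have hCu : ∀ {x : G}, Commute x u → x ∈ U := fun {x} hx => by
    rw [← hC, mem_centralizer_iff]
    intro y hy
    rw [hu] at hy
    obtain ⟨i, rfl⟩ := mem_zpowers_iff.mp hy
    exact (hx.zpow_right i).eq.symm
  have hUu : ∀ {x : G}, x ∈ U → Commute x u := fun {x} hx => by
    rw [hu] at hx
    obtain ⟨i, rfl⟩ := mem_zpowers_iff.mp hx
    exact (Commute.refl u).zpow_left i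
  have hconjU : ∀ x : G, ∃ r : ℤ, x * u * x⁻¹ = u ^ r := fun x => by
    obtain ⟨r, hr⟩ := mem_zpowers_iff.mp (hu.le (hUN.conj_mem u huU x))
    exact ⟨r, hr.symm⟩
  have hMexp : ∀ {x : G}, x ∈ M → ∃ e : ℤ, x * u * x⁻¹ = u ^ (1 + P * e) := by
    intro x hx
    obtain ⟨r, hr⟩ := hconjU x
    obtain ⟨e, he⟩ := (commute_pow_iff hp.out (m := m + 1) ho hr).mp ((hM x).mp hx)
    exact ⟨e, by rw [hr]; congr 1; rw [hP]; linarith⟩
  have hexpM : ∀ {x : G} {e : ℤ}, x * u * x⁻¹ = u ^ (1 + P * e) → x ∈ M := fun {x e} h =>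
    (hM x).mpr ((commute_pow_iff hp.out (m := m + 1) ho h).mpr ⟨e, by rw [hP]; ring⟩)
  have hUM : U ≤ M := fun x hx => (hM x).mpr ((hUu hx).pow_right p)
  obtain ⟨g0, hg0M, hg0U⟩ := SetLike.exists_of_lt (lt_of_le_of_ne hUM (Ne.symm hne))
  obtain ⟨e, he⟩ := hMexp hg0M
  have he' : ¬ (p : ℤ) ∣ e := by
    rintro ⟨c, rfl⟩
    refine hg0U (hCu (mul_inv_eq_iff_eq_mul.mp ?_))
    rw [he, hcong (j := 1) ⟨c, by ring⟩, zpow_one]
  have hPp : (p : ℤ) ∣ P := dvd_pow_self _ (by omega)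
  have hmulexp : ∀ {x : G} {a : ℤ}, x * u * x⁻¹ = u ^ (1 + P * a) → ∀ k : ℕ,
      x ^ k * u * (x ^ k)⁻¹ = u ^ (1 + P * (k * a)) := by
    intro x a hx k
    induction k with
    | zero => simp
    | succ k ih =>
      calc x ^ (k + 1) * u * (x ^ (k + 1))⁻¹ = x * (x ^ k * u * (x ^ k)⁻¹) * x⁻¹ := by
            rw [pow_succ']; group
        _ = u ^ (1 + P * (((k + 1 : ℕ) : ℤ) * a)) := by
          rw [ih, ← conj_zpow, hx, ← zpow_mul]
          refine hcong ?_
          obtain ⟨c, hc⟩ := hPp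
          exact ⟨c * a * a * k, by push_cast; linear_combination (P * a * a * k) * hc⟩
  have hfour : p = 2 → (4 : ℤ) ∣ P := fun h => by
    rw [hP, h]
    simpa using pow_dvd_pow (2 : ℤ) (show 2 ≤ m + 1 by have := h2 h; omega)
  -- the `p`-th power of `g0`
  have hg0p : g0 ^ p ∈ U := hCu (mul_inv_eq_iff_eq_mul.mp (by
    rw [hmulexp he p, hcong (j := 1) ⟨e, by ring⟩, zpow_one]))
  obtain ⟨i, hi⟩ := mem_zpowers_iff.mp (hu.le hg0p)
  have hfix : g0 * u ^ i * g0⁻¹ = u ^ i := by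
    rw [hi]
    exact mul_inv_eq_iff_eq_mul.mpr ((Commute.refl g0).pow_right p).eq
  rw [← conj_zpow, he, ← zpow_mul] at hfix
  obtain ⟨j, rfl⟩ : (p : ℤ) ∣ i := by
    have h := hdvd hfix
    rw [show (1 + P * e) * i - i = P * (e * i) by ring,
      mul_dvd_mul_iff_left (pow_ne_zero _ hP0)] at h
    exact ((Nat.prime_iff_prime_int.1 hp.out).dvd_or_dvd h).resolve_left he'
  obtain ⟨α, hα⟩ := CfsgLib.SubgroupCount.exists_pow_eq_one_of_cyclic_index hp.out u g0 ho
    (1 + P * e) j he (by simpa using hPp.mul_right e)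
    (fun h => by simpa using (hfour h).mul_right e) hi.symm
  obtain ⟨g, hg⟩ : ∃ g, g = u ^ α * g0 := ⟨_, rfl⟩
  rw [← hg] at hα
  have hge : g * u * g⁻¹ = u ^ (1 + P * e) := by
    calc g * u * g⁻¹ = u ^ α * (g0 * u * g0⁻¹) * (u ^ α)⁻¹ := by rw [hg]; group
      _ = _ := by rw [he]; group
  have hgM : g ∈ M := hexpM hge
  have hgU : g ∉ U := fun h => hg0U (by
    have := U.mul_mem (U.inv_mem (U.zpow_mem huU α)) h
    rwa [hg, inv_mul_cancel_left] at this)
  have hog : orderOf g = p := orderOf_eq_prime hα (fun h => hgU (h ▸ one_mem U))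
  obtain ⟨z, hz⟩ : ∃ z, z = u ^ P := ⟨_, rfl⟩
  have hzU : z ∈ U := hz ▸ U.zpow_mem huU P
  have hoz : orderOf z = p := by
    refine orderOf_eq_prime ?_ ?_
    · rw [hz, ← zpow_natCast, ← zpow_mul, hcong (j := 0) (by simp), zpow_zero]
    · intro h
      rw [hz, ← zpow_zero u] at h
      obtain ⟨c, hc⟩ := hdvd h
      have : (p : ℤ) ∣ 1 := ⟨c, mul_left_cancel₀ (pow_ne_zero (m + 1) hP0)
        (by rw [← hP]; linear_combination hc)⟩
      have := Int.le_of_dvd one_pos this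
      have := hp.out.two_le
      omega
  have hgz : Commute g z := by
    have : (p : ℤ) ∣ P := hPp
    obtain ⟨c, hc⟩ := this
    rw [hz, hc, zpow_mul, zpow_natCast]
    exact ((hM g).mp hgM).zpow_right c
  -- decomposition of `M`
  haveI := hp
  have hdec : ∀ {x : G}, x ∈ M → ∃ (k : ℕ) (s : ℤ), x = u ^ s * g ^ k := by
    intro x hx
    obtain ⟨a, ha⟩ := hMexp hx
    obtain ⟨k, hk⟩ : ∃ k : ℕ, (p : ℤ) ∣ (k : ℤ) * e - a := by
      refine ⟨((a : ZMod p) * (e : ZMod p)⁻¹).val, ?_⟩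
      rw [← ZMod.intCast_zmod_eq_zero_iff_dvd]
      push_cast
      rw [ZMod.natCast_zmod_val, inv_mul_cancel_right₀, sub_self]
      rwa [Ne, ZMod.intCast_zmod_eq_zero_iff_dvd]
    have hxk : (g ^ k)⁻¹ * x ∈ U := by
      refine hCu (mul_inv_eq_iff_eq_mul.mp ?_)
      obtain ⟨c, hc⟩ := hk
      have h1 : x * u * x⁻¹ = g ^ k * u * (g ^ k)⁻¹ := by
        rw [ha, hmulexp hge k]
        exact hcong ⟨-c, by linear_combination (-P) * hc⟩
      calc (g ^ k)⁻¹ * x * u * ((g ^ k)⁻¹ * x)⁻¹ = (g ^ k)⁻¹ * (x * u * x⁻¹) * g ^ k := by group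
        _ = u := by rw [h1]; group
    have h3 : g ^ k * ((g ^ k)⁻¹ * x) * (g ^ k)⁻¹ ∈ U := hUN.conj_mem _ hxk _
    obtain ⟨s, hs⟩ := mem_zpowers_iff.mp (hu.le h3)
    exact ⟨k, s, by rw [hs]; group⟩
  have hroot : ∀ {x : G}, x ∈ M → x ^ p = 1 → x ∈ zpowers g ⊔ zpowers z := by
    intro x hx hxp
    obtain ⟨k, s, rfl⟩ := hdec hx
    obtain ⟨c, hc, hsum⟩ := geom_unit hp.out (r := 1 + P * (k * e))
      (by simpa using hPp.mul_right (k * e)) (fun h => by simpa using (hfour h).mul_right (k * e))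
    rw [mul_pow_geom (hmulexp hge k) s p, hsum, ← pow_mul, mul_comm k p, pow_mul, hα, one_pow,
      mul_one, ← zpow_zero u] at hxp
    have h := hdvd hxp
    rw [show s * ((p : ℤ) * c) - 0 = (s * c) * p by ring, mul_dvd_mul_iff_right hP0] at h
    obtain ⟨t, rfl⟩ := (Nat.prime_iff_prime_int.1 hp.out).pow_dvd_of_dvd_mul_right _ hc h
    refine mul_mem ?_ (pow_mem (mem_sup_left (mem_zpowers g)) k)
    rw [← hP, zpow_mul, ← hz]
    exact zpow_mem (mem_sup_right (mem_zpowers z)) t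
  have hW : Cfsg.omegaOne p M = zpowers g ⊔ zpowers z := by
    refine le_antisymm ((closure_le _).2 fun x hx => hroot hx.1 hx.2) (sup_le ?_ ?_)
    · exact zpowers_le.2 (subset_closure ⟨hgM, hα⟩)
    · exact zpowers_le.2 (subset_closure ⟨hUM hzU, by rw [← hoz]; exact pow_orderOf_eq_one z⟩)
  have hcomm : IsMulCommutative ↥(zpowers g ⊔ zpowers z) := by
    rw [zpowers_eq_closure, zpowers_eq_closure, ← Subgroup.closure_union]
    refine Subgroup.isMulCommutative_closure ?_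
    rintro a (rfl | rfl) b (rfl | rfl)
    · rfl
    · exact hgz.eq
    · exact hgz.eq.symm
    · rfl
  have hinf : zpowers z ⊓ zpowers g = ⊥ := by
    by_contra hne'
    have h1 : Nat.card ↥(zpowers z ⊓ zpowers g) = p := by
      have hd : Nat.card ↥(zpowers z ⊓ zpowers g) ∣ p := by
        conv_rhs => rw [← hog, ← Nat.card_zpowers]
        exact card_dvd_of_le inf_le_right
      exact ((Nat.dvd_prime hp.out).1 hd).resolve_left (fun h => hne' (eq_bot_of_card_eq _ h))
    have h2 : zpowers z ⊓ zpowers g = zpowers g :=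
      eq_of_le_of_card_ge inf_le_right (by rw [h1, Nat.card_zpowers, hog])
    exact hgU (zpowers_le.2 hzU (h2.ge (mem_zpowers g)).1)
  have hWcard : Nat.card ↥(zpowers g ⊔ zpowers z) = p ^ 2 := by
    rw [CfsgLib.Coprime.card_sup_of_disjoint ?_ hinf, Nat.card_zpowers, Nat.card_zpowers, hog, hoz,
      pow_two]
    refine le_trans ?_ (centralizer_le_normalizer _)
    rw [zpowers_le, mem_centralizer_iff]
    intro y hy
    obtain ⟨t, rfl⟩ := mem_zpowers_iff.mp hy
    exact (hgz.zpow_right t).eq.symm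
  have hWexp : ∀ x ∈ zpowers g ⊔ zpowers z, x ^ p = 1 := by
    intro x hx
    have hx' : x ∈ closure ({g, z} : Set G) := by
      rw [zpowers_eq_closure, zpowers_eq_closure, ← Subgroup.closure_union] at hx
      exact hx
    have hle : ∀ {y : G}, y ∈ closure ({g, z} : Set G) → y ∈ zpowers g ⊔ zpowers z := fun {y} hy => by
      rw [zpowers_eq_closure, zpowers_eq_closure, ← Subgroup.closure_union]
      exact hy
    clear hx
    induction hx' using Subgroup.closure_induction with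
    | mem y hy =>
      rcases hy with rfl | rfl
      · exact hα
      · rw [← hoz]; exact pow_orderOf_eq_one y
    | one => exact one_pow p
    | mul a b ha' hb' iha ihb =>
      rw [(show Commute a b from setLike_mul_comm (hle ha') (hle hb')).mul_pow, iha, ihb, one_mul]
    | inv a _ iha => rw [inv_pow, iha, inv_one]
  refine ⟨?_, hW ▸ ⟨hcomm, hWexp⟩, by rw [hW]; exact hWcard, ?_⟩
  · have hMeq : M = zpowers g ⊔ U := by
      refine le_antisymm (fun x hx => ?_) (sup_le (zpowers_le.2 hgM) hUM)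
      obtain ⟨k, s, rfl⟩ := hdec hx
      exact mul_mem (mem_sup_right (U.zpow_mem huU s)) (pow_mem (mem_sup_left (mem_zpowers g)) k)
    have hinfU : U ⊓ zpowers g = ⊥ := by
      by_contra hne'
      have hd : Nat.card ↥(U ⊓ zpowers g) ∣ p := by
        conv_rhs => rw [← hog, ← Nat.card_zpowers]
        exact card_dvd_of_le inf_le_right
      have h1 := ((Nat.dvd_prime hp.out).1 hd).resolve_left
        (fun h => hne' (eq_bot_of_card_eq _ h))
      exact hgU ((eq_of_le_of_card_ge (inf_le_right : U ⊓ zpowers g ≤ _)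
        (by rw [h1, Nat.card_zpowers, hog])).ge (mem_zpowers g)).1
    have hn : zpowers g ≤ normalizer (U : Set G) := by
      rw [normalizer_eq_top_iff.2 hUN]; exact le_top
    have hcard := CfsgLib.Coprime.card_sup_of_disjoint hn hinfU
    rw [← hMeq, Nat.card_zpowers, hog] at hcard
    have h := (U.subgroupOf M).card_mul_index
    rw [Nat.card_congr (subgroupOfEquivOfLe hUM).toEquiv, hcard, mul_comm p] at h
    exact Nat.eq_of_mul_eq_mul_left Nat.card_pos h
  · rw [characteristic_iff_map_eq]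
    intro φ
    have hWn : (Cfsg.omegaOne p M).Normal := by
      refine ⟨fun x hx t => ?_⟩
      induction hx using Subgroup.closure_induction with
      | mem y hy =>
        exact subset_closure ⟨hMN.conj_mem y hy.1 t, by rw [conj_pow, hy.2]; group⟩
      | one => simp
      | mul a b _ _ iha ihb =>
        rw [show t * (a * b) * t⁻¹ = t * a * t⁻¹ * (t * b * t⁻¹) by group]
        exact mul_mem iha ihb
      | inv a _ iha =>
        rw [show t * a⁻¹ * t⁻¹ = (t * a * t⁻¹)⁻¹ by group]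
        exact inv_mem iha
    set N := (Cfsg.omegaOne p M).map φ.toMonoidHom with hN
    have hNn : N.Normal := hWn.map _ φ.surjective
    have hNexp : ∀ x ∈ N, x ^ p = 1 := by
      rintro _ ⟨y, hy, rfl⟩
      rw [hW] at hy
      simp [← map_pow, hWexp y hy]
    have hNcard : Nat.card N = p ^ 2 := by
      rw [hN, card_map_of_injective φ.injective, hW, hWcard]
    have hNU : ∀ x ∈ N, x ∈ U → x ∈ zpowers z := by
      intro x hxN hxU
      obtain ⟨t, rfl⟩ := mem_zpowers_iff.mp (hu.le hxU)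
      have h := hNexp _ hxN
      rw [← zpow_natCast, ← zpow_mul, ← zpow_zero u] at h
      obtain ⟨c, rfl⟩ : P ∣ t := by
        have := hdvd h
        rw [sub_zero, mul_dvd_mul_iff_right hP0] at this
        exact this
      rw [zpow_mul, ← hz]
      exact zpow_mem (mem_zpowers z) c
    refine eq_of_le_of_card_ge (fun x hxN => ?_) (by
      show Nat.card ↥(Cfsg.omegaOne p M) ≤ Nat.card N
      rw [hNcard, hW, hWcard])
    have hx1 : x * u * x⁻¹ * u⁻¹ ∈ N := by
      rw [show x * u * x⁻¹ * u⁻¹ = x * (u * x⁻¹ * u⁻¹) by group]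
      exact mul_mem hxN (hNn.conj_mem _ (inv_mem hxN) u)
    obtain ⟨c, hc⟩ := mem_zpowers_iff.mp
      (hNU _ hx1 (mul_mem (hUN.conj_mem u huU x) (inv_mem huU)))
    refine subset_closure ⟨hexpM (e := c) ?_, hNexp x hxN⟩
    rw [← mul_inv_eq_iff_eq_mul.mp hc.symm |>.symm] 
    rw [hz, ← zpow_mul, ← zpow_add_one, add_comm]

end Aux

/-- Let G be a finite non-abelian p-group with a cyclic normal subgroup U of order p^n such that C_G(U) = U. Then either p = 2 and G is dihedral, generalized quaternion or semidihedral of order 2^(n+1); or, writing U₁ for the subgroup generated by the p-th powers of elements of U and M = C_G(U₁), the subgroup U has index p in M and the subgroup Ω₁(M) generated by the elements of M of order dividing p is elementary abelian of order p² and characteristic in G. -/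
theorem result {G : Type*} [Group G] [Finite G] {p : ℕ} [Fact p.Prime] (hG : IsPGroup p G) (hna : ¬ IsMulCommutative G) (U : Subgroup G) [U.Normal] (hU : IsCyclic U) (n : ℕ) (hUn : Nat.card U = p ^ n) (hC : Subgroup.centralizer (U : Set G) = U) : (p = 2 ∧ Nat.card G = 2 ^ (n + 1) ∧ ((∃ m : ℕ, Nonempty (G ≃* DihedralGroup m)) ∨ (∃ m : ℕ, Nonempty (G ≃* QuaternionGroup m)) ∨ Cfsg.IsQuasiDihedral G)) ∨ (U.relIndex (Subgroup.centralizer (Cfsg.powerClosure p 1 U : Set G)) = p ∧ Cfsg.IsElementaryAbelian p (Cfsg.omegaOne p (Subgroup.centralizer (Cfsg.powerClosure p 1 U : Set G))) ∧ Nat.card ↥(Cfsg.omegaOne p (Subgroup.centralizer (Cfsg.powerClosure p 1 U : Set G))) = p ^ 2 ∧ (Cfsg.omegaOne p (Subgroup.centralizer (Cfsg.powerClosure p 1 U : Set G))).Characteristic) := by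
  obtain ⟨u, rfl⟩ := (Subgroup.isCyclic_iff_exists_zpowers_eq_top U).1 hU
  have hp : p.Prime := Fact.out
  have huU : u ∈ Subgroup.zpowers u := Subgroup.mem_zpowers u
  have ho : orderOf u = p ^ n := by rw [← Nat.card_zpowers]; exact hUn
  have hnc : ∃ x y : G, x * y ≠ y * x := by
    by_contra h
    push Not at h
    exact hna ⟨⟨h⟩⟩
  have hne : Subgroup.zpowers u ≠ ⊤ := by
    intro h
    obtain ⟨x, y, hxy⟩ := hnc
    obtain ⟨i, rfl⟩ := Subgroup.mem_zpowers_iff.mp (h.symm ▸ Subgroup.mem_top x)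
    obtain ⟨j, rfl⟩ := Subgroup.mem_zpowers_iff.mp (h.symm ▸ Subgroup.mem_top y)
    exact hxy (((Commute.refl u).zpow_left i).zpow_right j).eq
  have hCu : ∀ {x : G}, Commute x u → x ∈ Subgroup.zpowers u := fun {x} hx => by
    rw [← hC, Subgroup.mem_centralizer_iff]
    intro y hy
    obtain ⟨i, rfl⟩ := Subgroup.mem_zpowers_iff.mp hy
    exact (hx.zpow_right i).eq.symm
  have hUu : ∀ {x : G}, x ∈ Subgroup.zpowers u → Commute x u := fun {x} hx => by
    obtain ⟨i, rfl⟩ := Subgroup.mem_zpowers_iff.mp hx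
    exact (Commute.refl u).zpow_left i
  have hconjU : ∀ x : G, ∃ r : ℤ, x * u * x⁻¹ = u ^ r := fun x => by
    obtain ⟨r, hr⟩ := Subgroup.mem_zpowers_iff.mp
      (‹(Subgroup.zpowers u).Normal›.conj_mem u huU x)
    exact ⟨r, hr.symm⟩
  obtain ⟨h, hhU, hhp⟩ : ∃ h, h ∉ Subgroup.zpowers u ∧ h ^ p ∈ Subgroup.zpowers u := by
    have hq : IsPGroup p (G ⧸ Subgroup.zpowers u) := hG.to_quotient _
    obtain ⟨k, hk⟩ := IsPGroup.iff_card.mp hq
    have hk0 : k ≠ 0 := by
      rintro rfl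
      rw [pow_zero, ← Subgroup.index_eq_card] at hk
      exact hne (Subgroup.index_eq_one.mp hk)
    obtain ⟨q, hq'⟩ := exists_prime_orderOf_dvd_card' p (hk ▸ dvd_pow_self p hk0)
    obtain ⟨h, rfl⟩ := QuotientGroup.mk_surjective q
    refine ⟨h, fun hh => ?_, ?_⟩
    · rw [(QuotientGroup.eq_one_iff h).mpr hh, orderOf_one] at hq'
      exact hp.one_lt.ne hq'
    · rw [← QuotientGroup.eq_one_iff, QuotientGroup.mk_pow, ← hq', pow_orderOf_eq_one]
  obtain ⟨m, rfl⟩ : ∃ m, n = m + 2 := by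
    refine ⟨n - 2, ?_⟩
    by_contra hlt
    obtain ⟨r, hr⟩ := hconjU h
    rcases (show n = 0 ∨ n = 1 by omega) with rfl | rfl
    · refine hhU (hCu ?_)
      rw [pow_zero, orderOf_eq_one_iff] at ho
      rw [ho]
      exact Commute.one_right h
    · refine hhU (hCu (mul_inv_eq_iff_eq_mul.mp ?_))
      have h2 := conj_pow_zpow hr p
      rw [mul_inv_eq_iff_eq_mul.mpr (hUu hhp).eq] at h2
      have h3 : (p : ℤ) ∣ r ^ p - 1 := by
        have := CfsgLib.CyclicIndex.dvd_sub_of_zpow_eq ho (i := r ^ p) (j := 1)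
          (by rw [← h2, zpow_one])
        simpa using this
      have h4 : ((p ^ 1 : ℕ) : ℤ) ∣ r - 1 := by
        rw [pow_one, ← ZMod.intCast_zmod_eq_zero_iff_dvd]
        rw [← ZMod.intCast_zmod_eq_zero_iff_dvd] at h3
        push_cast at h3 ⊢
        rwa [ZMod.pow_card] at h3
      rw [hr, CfsgLib.CyclicIndex.zpow_eq_zpow ho (j := 1) h4, zpow_one]
  set M := Subgroup.centralizer
    (Cfsg.powerClosure p 1 (Subgroup.zpowers u) : Set G) with hMdef
  have hM : ∀ g, g ∈ M ↔ Commute g (u ^ p) := by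
    intro g
    rw [hMdef, Cfsg.powerClosure, Subgroup.centralizer_closure, Subgroup.mem_centralizer_iff]
    refine ⟨fun hg => (hg (u ^ p) ⟨u, huU, by rw [pow_one]⟩).symm, fun hg y hy => ?_⟩
    obtain ⟨x, hx, rfl⟩ := hy
    obtain ⟨i, rfl⟩ := Subgroup.mem_zpowers_iff.mp hx
    rw [pow_one, ← zpow_natCast, ← zpow_mul, mul_comm, zpow_mul, zpow_natCast]
    exact ((hg.zpow_right i).eq).symm
  have hMN : M.Normal := by
    refine ⟨fun g hg t => (hM _).mpr ?_⟩
    obtain ⟨r, hr⟩ := hconjU t⁻¹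
    have h1 : Commute g ((u ^ p) ^ r) := ((hM g).mp hg).zpow_right r
    have h2 : t * (u ^ p) ^ r * t⁻¹ = u ^ p := by
      rw [← zpow_natCast u p, ← zpow_mul, mul_comm, zpow_mul, ← hr, inv_inv, zpow_natCast,
        show t⁻¹ * u * t = t⁻¹ * u * t⁻¹⁻¹ by rw [inv_inv], conj_pow, inv_inv]
      group
    rw [← h2]
    exact (Commute.conj_iff (h := t)).mpr h1
  by_cases hMU : M = Subgroup.zpowers u
  · left
    have key : ∀ {x : G} {r : ℤ}, x ∉ Subgroup.zpowers u → x ^ p ∈ Subgroup.zpowers u →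
        x * u * x⁻¹ = u ^ r → p = 2 ∧ 1 ≤ m ∧ (2 : ℤ) ^ (m + 1) ∣ r + 1 := by
      intro x r hx hxp hr
      refine inverting hp ho hr (hUu hxp) (fun hd => hx ?_)
      rw [← hMU, hM]
      exact (commute_pow_iff hp (m := m + 1) ho hr).mpr hd
    obtain ⟨r, hr⟩ := hconjU h
    obtain ⟨rfl, hm1, hr1⟩ := key hhU hhp hr
    have hsq : ∀ (j : ℕ) (g : G), g ^ 2 ^ j ∈ Subgroup.zpowers u → g ^ 2 ∈ Subgroup.zpowers u := by
      intro j
      induction j with
      | zero => intro g hg; rw [pow_zero, pow_one] at hg; exact pow_mem hg 2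
      | succ j ih =>
        intro g hg
        rw [pow_succ', pow_mul] at hg
        have h4 : (g ^ 2) ^ 2 ∈ Subgroup.zpowers u := ih _ hg
        by_contra hg2
        obtain ⟨s, hs⟩ := hconjU g
        obtain ⟨-, -, hd⟩ := key hg2 h4 (conj_pow_zpow hs 2)
        have h5 : (4 : ℤ) ∣ s ^ 2 + 1 := by
          refine dvd_trans ?_ hd
          simpa using pow_dvd_pow (2 : ℤ) (show 2 ≤ m + 1 by omega)
        obtain ⟨c, hc⟩ := h5
        rcases Int.even_or_odd s with ⟨w, hw⟩ | ⟨w, hw⟩ <;> subst hw <;> ring_nf at hc <;> omega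
    have hsq' : ∀ g : G, g ^ 2 ∈ Subgroup.zpowers u := fun g => by
      obtain ⟨k, hk⟩ := hG g
      exact hsq k g (by rw [hk]; exact one_mem _)
    have hi : (Subgroup.zpowers u).index = 2 := by
      rw [Subgroup.index_eq_two_iff]
      refine ⟨h, fun b => ?_⟩
      by_cases hb : b ∈ Subgroup.zpowers u
      · exact Or.inr ⟨hb, fun hbh => hhU ((Subgroup.mul_mem_cancel_left _ hb).mp hbh)⟩
      · refine Or.inl ⟨?_, hb⟩
        obtain ⟨r', hr'⟩ := hconjU b
        obtain ⟨-, -, hr1'⟩ := key hb (hsq' b) hr'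
        rw [← hMU, hM]
        refine (commute_pow_iff hp (m := m + 1) ho (r := r' * r) ?_).mpr ?_
        · calc b * h * u * (b * h)⁻¹ = b * (h * u * h⁻¹) * b⁻¹ := by group
            _ = _ := by rw [hr, ← conj_zpow, hr', ← zpow_mul]
        · push_cast
          rw [show r' * r - 1 = r' * (r + 1) - (r' + 1) by ring]
          exact dvd_sub (hr1.mul_left r') hr1'
    refine ⟨rfl, two_case (by omega) _ u rfl hUn hi hnc (fun _ => ?_)⟩
    by_contra hall
    push Not at hall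
    exact hne (by rw [← hMU, Subgroup.eq_top_iff']; exact fun x => (hM x).mpr (hall x))
  · by_cases h22 : p = 2 ∧ m = 0
    · left
      obtain ⟨rfl, rfl⟩ := h22
      have hodd : ∀ {x : G} {r : ℤ}, x * u * x⁻¹ = u ^ r → x ∉ Subgroup.zpowers u →
          (4 : ℤ) ∣ r + 1 := by
        intro x r hr hx
        obtain ⟨k, hk⟩ := hG x
        have h1 := conj_pow_zpow hr (2 ^ k)
        rw [hk, inv_one, one_mul, mul_one] at h1
        have h2 : ((2 ^ (0 + 2) : ℕ) : ℤ) ∣ r ^ (2 ^ k) - 1 :=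
          CfsgLib.CyclicIndex.dvd_sub_of_zpow_eq ho (j := 1) (by rw [← h1, zpow_one])
        norm_num at h2
        have hr2 : Odd r := by
          by_contra he
          rw [Int.not_odd_iff_even] at he
          have := (Int.even_pow' (n := 2 ^ k) (by positivity)).mpr he
          obtain ⟨c, hc⟩ := this
          omega
        have hn4 : ¬ (4 : ℤ) ∣ r - 1 := fun hd => hx (hCu (mul_inv_eq_iff_eq_mul.mp (by
          rw [hr, CfsgLib.CyclicIndex.zpow_eq_zpow ho (j := 1) (by norm_num; exact hd), zpow_one])))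
        obtain ⟨w, rfl⟩ := hr2
        omega
      have hi : (Subgroup.zpowers u).index = 2 := by
        rw [Subgroup.index_eq_two_iff]
        refine ⟨h, fun b => ?_⟩
        by_cases hb : b ∈ Subgroup.zpowers u
        · exact Or.inr ⟨hb, fun hbh => hhU ((Subgroup.mul_mem_cancel_left _ hb).mp hbh)⟩
        · refine Or.inl ⟨?_, hb⟩
          obtain ⟨r, hr⟩ := hconjU h
          obtain ⟨r', hr'⟩ := hconjU b
          refine hCu (mul_inv_eq_iff_eq_mul.mp ?_)
          calc b * h * u * (b * h)⁻¹ = b * (h * u * h⁻¹) * b⁻¹ := by group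
            _ = u ^ (r' * r) := by rw [hr, ← conj_zpow, hr', ← zpow_mul]
            _ = u := by
              rw [CfsgLib.CyclicIndex.zpow_eq_zpow ho (j := 1) ?_, zpow_one]
              norm_num
              rw [show r' * r - 1 = r' * (r + 1) - (r' + 1) by ring]
              exact dvd_sub ((hodd hr hhU).mul_left r') (hodd hr' hb)
      exact ⟨rfl, two_case (by omega) _ u rfl hUn hi hnc (fun h => by omega)⟩
    · right
      haveI := hMN
      exact omega_case (Subgroup.zpowers u) M u rfl ho hC hM hMU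
        (fun h2 => Nat.one_le_iff_ne_zero.mpr fun h0 => h22 ⟨h2, h0⟩)

end Cfsg.Agent.S3761
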