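import Cfsg.Statements.S3762
import Cfsg.Agent.S3761
import Cfsg.Agent.S0110
import Cfsg.Agent.Lib.Structure.SymplecticHall

set_option autoImplicit false
open Cfsg

namespace Cfsg.Agent.S3762

open Subgroup
open scoped commutatorElement
open CfsgLib.SymplecticHall

section Aux

variable {G : Type*} [Group G] {p : ℕ}

theorem pow_conj_mem (hp : p.Prime) (hG : IsPGroup p G) {c z g u : G} (hz : z ^ p = 1)
    (hz1 : z ≠ 1) (hzc : z ∈ zpowers c) (hu : u ∈ zpowers c) (hc : (zpowers c).Normal)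
    (hg : Commute g (c ^ p)) : ⁅g, u⁆ ∈ zpowers z := by
  refine torsion_mem hp hG (mul_mem (hc.conj_mem u hu g) (inv_mem hu)) ?_ hzc hz hz1
  obtain ⟨i, rfl⟩ := mem_zpowers_iff.mp hu
  have h1 : g * (c ^ i) ^ p * g⁻¹ = (c ^ i) ^ p := by
    rw [← zpow_natCast, ← zpow_mul, mul_comm, zpow_mul, zpow_natCast]
    exact mul_inv_eq_iff_eq_mul.mpr (hg.zpow_right i).eq
  have hcm : Commute (g * c ^ i * g⁻¹) (c ^ i)⁻¹ := by
    obtain ⟨j, hj⟩ := mem_zpowers_iff.mp (hc.conj_mem _ hu g)
    rw [← hj, ← zpow_neg]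
    exact ((Commute.refl c).zpow_left j).zpow_right _
  rw [commutatorElement_def, hcm.mul_pow, conj_pow, h1, inv_pow, mul_inv_cancel]

/-- The group `C(U^p)` inside a group containing the cyclic normal `⟨c⟩` with index `p`. -/
theorem span_of_relIndex [Finite G] (hp : p.Prime) (U M : Subgroup G) [U.Normal] (hUM : U ≤ M)
    (h : U.relIndex M = p) :
    ∃ g ∈ M, g ∉ U ∧ ∀ m ∈ M, m ^ p ∈ U ∧ ∃ i : ℕ, ∃ u ∈ U, m = u * g ^ i := by
  have hne : ¬ M ≤ U := fun hle => hp.ne_one (h ▸ relIndex_eq_one.mpr hle)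
  obtain ⟨g, hgM, hgU⟩ := SetLike.not_le_iff_exists.mp hne
  have hidx : (U.subgroupOf M).index = p := h
  refine ⟨g, hgM, hgU, fun m hm => ⟨?_, ?_⟩⟩
  · have := Subgroup.pow_index_mem (U.subgroupOf M) ⟨m, hm⟩
    rwa [hidx, mem_subgroupOf] at this
  · haveI := Fact.mk hp
    have hcard : Nat.card (↥M ⧸ U.subgroupOf M) = p := hidx
    have hg1 : ((⟨g, hgM⟩ : M) : ↥M ⧸ U.subgroupOf M) ≠ 1 := fun e =>
      hgU (mem_subgroupOf.mp ((QuotientGroup.eq_one_iff _).mp e))
    obtain ⟨i, hi⟩ := (mem_powers_iff_mem_zpowers (G := ↥M ⧸ U.subgroupOf M)).mpr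
      (mem_zpowers_of_prime_card hcard hg1
        (g' := ((⟨m, hm⟩ : M) : ↥M ⧸ U.subgroupOf M)))
    change ((⟨g, hgM⟩ : M) : ↥M ⧸ U.subgroupOf M) ^ i = _ at hi
    rw [← QuotientGroup.mk_pow, eq_comm, QuotientGroup.eq_iff_div_mem, mem_subgroupOf] at hi
    exact ⟨i, _, hi, by simp [div_eq_mul_inv]⟩

end Aux

/-- Let G be a finite p-group of symplectic type: every characteristic abelian subgroup of G is cyclic. Then G = E ∗ R is a central product of subgroups E and R (they commute elementwise and generate G) where E is extraspecial or trivial, and R is cyclic, or p = 2 and R is dihedral, semidihedral or generalized quaternion of order at least 16. -/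
theorem result {G : Type*} [Group G] [Finite G] {p : ℕ} [Fact p.Prime] (hG : IsPGroup p G) (hsymp : ∀ A : Subgroup G, A.Characteristic → IsMulCommutative A → IsCyclic A) : ∃ E R : Subgroup G, (∀ e ∈ E, ∀ r ∈ R, e * r = r * e) ∧ E ⊔ R = ⊤ ∧ (E = ⊥ ∨ Cfsg.IsExtraspecial p ↥E) ∧ (IsCyclic R ∨ (p = 2 ∧ 16 ≤ Nat.card R ∧ ((∃ m : ℕ, Nonempty (↥R ≃* DihedralGroup m)) ∨ (∃ m : ℕ, Nonempty (↥R ≃* QuaternionGroup m)) ∨ Cfsg.IsQuasiDihedral ↥R))) := by
  by_cases hcycG : IsCyclic G
  · exact ⟨⊥, ⊤, fun e he r _ => by rw [mem_bot.mp he, one_mul, mul_one], bot_sup_eq _, Or.inl rfl,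
      Or.inl ((MulEquiv.isCyclic Subgroup.topEquiv).mpr hcycG)⟩
  have hp : p.Prime := Fact.out
  have hpi := Nat.prime_iff_prime_int.mp hp
  obtain ⟨H, hH, hHc, hHcomm, hHpow⟩ := CfsgLib.PGroup.exists_critical hG
  have hZchar : (H ⊓ centralizer (H : Set G)).Characteristic := by
    rw [characteristic_iff_le_comap]
    intro φ a ha
    refine ⟨(characteristic_iff_le_comap.mp hH φ) ha.1, mem_centralizer_iff.mpr fun b hb => ?_⟩
    have hb' : φ.symm b ∈ H := (characteristic_iff_le_comap.mp hH φ.symm) hb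
    simpa using congrArg φ (mem_centralizer_iff.mp ha.2 _ hb')
  obtain ⟨c, hc⟩ := (Subgroup.isCyclic_iff_exists_zpowers_eq_top _).1 (hsymp _ hZchar
    ⟨⟨fun a b => Subtype.ext (mem_centralizer_iff.mp b.2.2 a a.2.1)⟩⟩)
  rw [← hc] at hHcomm hHpow hZchar
  haveI := hZchar
  have hcN : (zpowers c).Normal := inferInstance
  have hcH : c ∈ H := (hc.le (mem_zpowers c)).1
  have hcom : ∀ {x : G}, x ∈ H → Commute x c := fun {x} hx =>
    mem_centralizer_iff.mp (hc.le (mem_zpowers c)).2 x hx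
  have hc1 : c ≠ 1 := by
    intro h1
    have hH' : ∀ x ∈ H, ∀ g : G, Commute g x := fun x hx g => by
      have := hHcomm g x hx
      rw [h1, zpowers_one_eq_bot, mem_bot] at this
      exact commutatorElement_eq_one_iff_mul_comm.mp this
    have hbot : H = ⊥ := eq_bot_iff.mpr fun x hx => by
      rw [mem_bot, ← mem_bot (G := G), ← zpowers_one_eq_bot, ← h1, hc]
      exact ⟨hx, mem_centralizer_iff.mpr fun y _ => hH' x hx y⟩
    have htriv : ∀ x : G, x = 1 := fun x => by
      have := hHc (show x ∈ centralizer (H : Set G) from mem_centralizer_iff.mpr fun y hy => by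
        rw [SetLike.mem_coe, hbot, mem_bot] at hy
        rw [hy, one_mul, mul_one])
      rwa [hbot, mem_bot] at this
    haveI : Subsingleton G := ⟨fun a b => by rw [htriv a, htriv b]⟩
    exact hcycG inferInstance
  obtain ⟨k, hk⟩ := IsPGroup.iff_orderOf.mp hG c
  obtain ⟨l, rfl⟩ : ∃ l, k = l + 1 := ⟨k - 1, by
    have : k ≠ 0 := by
      rintro rfl
      exact hc1 (orderOf_eq_one_iff.mp (by simpa using hk))
    omega⟩
  obtain ⟨z, hzdef⟩ : ∃ z, z = c ^ p ^ l := ⟨_, rfl⟩
  have hzc : z ∈ zpowers c := hzdef ▸ pow_mem (mem_zpowers c) _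
  have hoz : orderOf z = p := by
    rw [hzdef, orderOf_pow_of_dvd (pow_ne_zero _ hp.ne_zero) (hk ▸ pow_dvd_pow p l.le_succ), hk,
      Nat.pow_div l.le_succ hp.pos, Nat.succ_sub (le_refl l), Nat.sub_self, pow_one]
  have hz1 : z ≠ 1 := fun h => hp.ne_one (by rw [← hoz, h, orderOf_one])
  have hzp : z ^ p = 1 := by rw [← hoz]; exact pow_orderOf_eq_one z
  have hzcent : z ∈ center G := by
    rw [mem_center_iff]
    intro g
    obtain ⟨j, hj⟩ := mem_zpowers_iff.mp (torsion_mem hp hG (hcN.conj_mem z hzc g)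
      (by rw [conj_pow, hzp, mul_one, mul_inv_cancel]) hzc hzp hz1)
    -- a `p`-group fixes the generator of a normal subgroup of order `p`
    have hj1 : g * z * g⁻¹ = z := by
      obtain ⟨m, hm⟩ := hG g
      have hiter : ∀ n : ℕ, g ^ n * z * (g ^ n)⁻¹ = z ^ (j ^ n) := by
        intro n
        induction n with
        | zero => simp
        | succ n ih =>
          calc g ^ (n + 1) * z * (g ^ (n + 1))⁻¹ = g * (g ^ n * z * (g ^ n)⁻¹) * g⁻¹ := by
                rw [pow_succ']; group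
            _ = z ^ (j ^ (n + 1)) := by rw [ih, ← conj_zpow, ← hj, ← zpow_mul, pow_succ']
      have h1 := hiter (p ^ m)
      rw [hm, inv_one, one_mul, mul_one] at h1
      have h2 : (p : ℤ) ∣ j ^ p ^ m - 1 := by
        have h := (orderOf_dvd_iff_zpow_eq_one (x := z) (i := j ^ p ^ m - 1)).mpr
          (by rw [zpow_sub, ← h1, zpow_one, mul_inv_cancel])
        rwa [hoz] at h
      have h3 : (p : ℤ) ∣ j - 1 := by
        rw [← ZMod.intCast_zmod_eq_zero_iff_dvd] at h2 ⊢
        push_cast at h2 ⊢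
        rwa [ZMod.pow_card_pow] at h2
      rw [← hj, ← mul_inv_eq_one]
      rw [← hoz, orderOf_dvd_iff_zpow_eq_one, zpow_sub, zpow_one] at h3
      exact h3
    exact mul_inv_eq_iff_eq_mul.mp hj1
  have hzcomm : ∀ x : G, Commute x z := fun x => mem_center_iff.mp hzcent x
  have hN : Narrow p H c z := by
    refine ⟨hzp, hzc, hzcent, hc.symm, fun x hx y hy => ?_, fun x hx => hHpow x hx⟩
    refine torsion_mem hp hG (hHcomm x y hy) ?_ hzc hzp hz1
    have hcenH : ∀ w ∈ zpowers c, ∀ h ∈ H, Commute h w := fun w hw h hh => by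
      obtain ⟨i, rfl⟩ := mem_zpowers_iff.mp hw
      exact (hcom hh).zpow_right i
    let φ := Subgroup.subtype H
    have hcen : ⁅(⟨x, hx⟩ : H), (⟨y, hy⟩ : H)⁆ ∈ center H := by
      rw [mem_center_iff]
      intro h
      exact Subtype.ext (hcenH _ (hHcomm x y hy) h h.2).eq
    have h1 := CfsgLib.PGroup.commutatorElement_pow_left_of_central hcen p
    have h2 : ⁅(⟨x, hx⟩ : H) ^ p, (⟨y, hy⟩ : H)⁆ = 1 := by
      rw [commutatorElement_eq_one_iff_mul_comm]
      exact Subtype.ext ((hcenH _ (hHpow x hx) y hy).symm).eq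
    rw [h2] at h1
    exact (congrArg Subtype.val h1).symm
  have hzH : z ∈ H := hN.zK
  have hadj : ∀ x ∈ H, ∃ w ∈ zpowers c, (x * w) ^ p ∈ zpowers z := by
    intro x hx
    rcases Nat.eq_zero_or_pos l with rfl | hl
    · refine ⟨1, one_mem _, ?_⟩
      rw [mul_one, hzdef, pow_zero, pow_one]
      exact hHpow x hx
    · have hzcp : z ∈ zpowers (c ^ p) := by
        rw [hzdef, show p ^ l = p * p ^ (l - 1) by rw [← pow_succ']; congr 1; omega, pow_mul]
        exact pow_mem (mem_zpowers _) _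
      obtain ⟨t, ht⟩ := mem_zpowers_iff.mp (hN.pow_mem_pow hp hG hH hzcp hc1 hsymp x hx)
      refine ⟨c ^ (-t), zpow_mem (mem_zpowers c) _, ?_⟩
      rw [((hcom hx).zpow_right _).mul_pow, ← ht, ← zpow_natCast (c ^ (-t)), ← zpow_mul,
        ← zpow_natCast c p, ← zpow_mul, ← zpow_add, show (p : ℤ) * t + -t * p = 0 by ring, zpow_zero]
      exact one_mem _
  obtain ⟨E0, hzE0, hE0H, hE0p, hE0c, hHE0⟩ := hN.exists_factor hp hadj
  have hnormed : ∀ (g : G), ∀ e ∈ E0, ⁅g, e⁆ ∈ zpowers z := by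
    intro g e he
    refine torsion_mem hp hG (hHcomm g e (hE0H he)) ?_ hzc hzp hz1
    obtain ⟨i, hi⟩ := mem_zpowers_iff.mp (hE0p e he)
    have hcm : Commute ⁅g, e⁆ e := by
      obtain ⟨j, hj⟩ := mem_zpowers_iff.mp (hHcomm g e (hE0H he))
      rw [← hj]
      exact ((hcom (hE0H he)).zpow_right j).symm
    have h1 : (⁅g, e⁆ * e) ^ p = g * e ^ p * g⁻¹ := by
      rw [show ⁅g, e⁆ * e = g * e * g⁻¹ by rw [commutatorElement_def]; group, conj_pow]
    have h2 : g * e ^ p * g⁻¹ = e ^ p := by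
      rw [← hi]
      exact mul_inv_eq_iff_eq_mul.mpr ((hzcomm g).zpow_right i).eq
    rw [hcm.mul_pow, h2] at h1
    exact mul_eq_right.mp h1
  -- the extraspecial (or trivial) factor
  obtain ⟨E, hEH, hHE, hEspec, hEp, hEcomm, hEC⟩ : ∃ E : Subgroup G, E ≤ H ∧ H ≤ E ⊔ zpowers c ∧
      (E = ⊥ ∨ Cfsg.IsExtraspecial p E) ∧ (∀ e ∈ E, e ^ p ∈ zpowers z) ∧
      (∀ e ∈ E, ∀ e' ∈ E, ⁅e, e'⁆ ∈ zpowers z) ∧ E ⊔ centralizer (E : Set G) = ⊤ := by
    by_cases hab : ∃ x ∈ E0, ∃ y ∈ E0, x * y ≠ y * x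
    · have hE : Cfsg.IsExtraspecial p E0 := by
        refine isExtraspecial_of hp hG E0 hoz hzE0 (fun e _ => hzcomm e)
          (fun x _ y hy => hnormed x y hy) hE0p (fun e he => hE0c ⟨he.1, ?_⟩) hab
        show e ∈ zpowers c
        rw [hc]
        refine ⟨hE0H he.1, mem_centralizer_iff.mpr fun y hy => ?_⟩
        have : E0 ⊔ zpowers c ≤ centralizer ({e} : Set G) := by
          refine sup_le (fun a ha => ?_) (zpowers_le.mpr ?_)
          · rw [mem_centralizer_iff]
            rintro _ rfl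
            exact (mem_centralizer_iff.mp he.2 a ha).symm
          · rw [mem_centralizer_iff]
            rintro _ rfl
            exact (hcom (hE0H he.1)).eq
        exact (mem_centralizer_iff.mp (this (hHE0 hy)) e rfl).symm
      refine ⟨E0, hE0H, hHE0, Or.inr hE, hE0p, fun x _ y hy => hnormed x y hy,
        Cfsg.Agent.S0110.result hG E0 hE ?_⟩
      rw [commutator_le]
      intro g _ e he
      refine ⟨zpowers_le.mpr hzE0 (hnormed g e he), zpowers_le.mpr ?_ (hnormed g e he)⟩
      rw [mem_centralizer_iff]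
      exact fun y _ => (hzcomm y).eq
    · push Not at hab
      refine ⟨⊥, bot_le, fun x hx => ?_, Or.inl rfl,
        fun e he => by rw [mem_bot.mp he, one_pow]; exact one_mem _,
        fun e he e' he' => by rw [mem_bot.mp he, commutatorElement_one_left]; exact one_mem _, ?_⟩
      · refine mem_sup_right ?_
        rw [hc]
        refine ⟨hx, mem_centralizer_iff.mpr fun y hy => ?_⟩
        have hc0 : ∀ u ∈ E0 ⊔ zpowers c, ∀ v ∈ E0 ⊔ zpowers c, u * v = v * u := by
          have h : E0 ⊔ zpowers c ≤ centralizer ((E0 ⊔ zpowers c : Subgroup G) : Set G) := by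
            refine sup_le ?_ (zpowers_le.mpr ?_)
            · rw [le_centralizer_iff]
              refine sup_le (fun a ha => mem_centralizer_iff.mpr fun b hb => hab b hb a ha)
                (zpowers_le.mpr (mem_centralizer_iff.mpr fun b hb => (hcom (hE0H hb)).eq))
            · rw [mem_centralizer_iff]
              intro b hb
              exact (hcom (sup_le hE0H (zpowers_le.mpr hcH) hb)).eq
          exact fun u hu v hv => (mem_centralizer_iff.mp (h hu) v hv).symm
        exact hc0 y (hHE0 hy) x (hHE0 hx)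
      · rw [bot_sup_eq, eq_top_iff']
        intro x
        rw [mem_centralizer_iff]
        intro y hy
        rw [SetLike.mem_coe, mem_bot] at hy
        rw [hy, one_mul, mul_one]
  set R := centralizer (E : Set G) with hR
  have hER : ∀ e ∈ E, ∀ r ∈ R, e * r = r * e := fun e he r hr => mem_centralizer_iff.mp hr e he
  have hcR : zpowers c ≤ R := zpowers_le.mpr
    (mem_centralizer_iff.mpr fun e he => (hcom (hEH he)).eq)
  have hself : ∀ x ∈ R, Commute x c → x ∈ zpowers c := by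
    intro x hx hxc
    rw [hc]
    have h1 : x ∈ centralizer (H : Set G) := by
      rw [mem_centralizer_iff]
      intro y hy
      have h : E ⊔ zpowers c ≤ centralizer ({x} : Set G) := by
        refine sup_le (fun a ha => ?_) (zpowers_le.mpr ?_) <;> rw [mem_centralizer_iff] <;>
          (intro w hw; rw [Set.mem_singleton_iff.mp hw])
        · exact (hER a ha x hx).symm
        · exact hxc.eq
      exact (mem_centralizer_iff.mp (h (hHE hy)) x rfl).symm
    exact ⟨hHc h1, h1⟩
  by_cases hRZ : R ≤ zpowers c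
  · refine ⟨E, R, hER, hEC, hEspec, Or.inl ?_⟩
    exact Subgroup.isCyclic_of_le hRZ
  set U := (zpowers c).subgroupOf R with hUdef
  have hUn : U.Normal := hcN.comap _
  have hUcyc : IsCyclic U := (MulEquiv.isCyclic (subgroupOfEquivOfLe hcR)).mpr inferInstance
  have hUcard : Nat.card U = p ^ (l + 1) := by
    rw [Nat.card_congr (subgroupOfEquivOfLe hcR).toEquiv, Nat.card_zpowers, hk]
  have hUC : centralizer (U : Set R) = U := by
    ext x
    rw [mem_centralizer_iff]
    refine ⟨fun h => mem_subgroupOf.mpr (hself x x.2 ?_), fun hx y hy => ?_⟩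
    · exact (congrArg Subtype.val (h ⟨c, hcR (mem_zpowers c)⟩ (mem_zpowers c))).symm
    · obtain ⟨i, hi⟩ := mem_zpowers_iff.mp (mem_subgroupOf.mp hx)
      obtain ⟨j, hj⟩ := mem_zpowers_iff.mp (mem_subgroupOf.mp hy)
      apply Subtype.ext
      show (y : G) * x = x * y
      rw [← hi, ← hj]
      exact (((Commute.refl c).zpow_left j).zpow_right i).eq
  have hl : 1 ≤ l := by
    by_contra h0
    have : l = 0 := by omega
    subst this
    refine hRZ fun x hx => hself x hx ?_
    rw [pow_zero, pow_one] at hzdef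
    rw [← hzdef]
    exact hzcomm x
  have hna : ¬ IsMulCommutative R := fun h => hRZ fun x hx => hself x hx
    (congrArg Subtype.val (h.is_comm.comm (⟨x, hx⟩ : R) ⟨c, hcR (mem_zpowers c)⟩))
  set M := centralizer (Cfsg.powerClosure p 1 U : Set R) with hMdef
  have hM : ∀ x : R, x ∈ M ↔ Commute (x : G) (c ^ p) := by
    intro x
    rw [hMdef, Cfsg.powerClosure, centralizer_closure, mem_centralizer_iff]
    refine ⟨fun hx => ?_, fun hx y hy => ?_⟩
    · exact (congrArg Subtype.val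
        (hx (⟨c, hcR (mem_zpowers c)⟩ ^ p) ⟨⟨c, hcR (mem_zpowers c)⟩, mem_zpowers c, by rw [pow_one]⟩)).symm
    · obtain ⟨u, hu, rfl⟩ := hy
      obtain ⟨i, hi⟩ := mem_zpowers_iff.mp (mem_subgroupOf.mp hu)
      apply Subtype.ext
      show ((u : G) ^ p ^ 1) * x = x * (u : G) ^ p ^ 1
      rw [pow_one, ← hi, ← zpow_natCast, ← zpow_mul, mul_comm, zpow_mul, zpow_natCast]
      exact ((hx.zpow_right i).symm).eq
  have hres := Cfsg.Agent.S3761.result (hG.to_subgroup R) hna U hUcyc (l + 1) hUcard hUC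
  by_cases hbig : (p = 2 ∧ Nat.card R = 2 ^ (l + 1 + 1) ∧ ((∃ m : ℕ, Nonempty (↥R ≃* DihedralGroup m)) ∨
      (∃ m : ℕ, Nonempty (↥R ≃* QuaternionGroup m)) ∨ Cfsg.IsQuasiDihedral ↥R)) ∧ 2 ≤ l
  · obtain ⟨⟨h2, hcard, htype⟩, hl2⟩ := hbig
    refine ⟨E, R, hER, hEC, hEspec, Or.inr ⟨h2, ?_, htype⟩⟩
    rw [hcard]
    calc 16 = 2 ^ 4 := by norm_num
      _ ≤ 2 ^ (l + 1 + 1) := Nat.pow_le_pow_right two_pos (by omega)
  have hrel : U.relIndex M = p := by
    rcases hres with ⟨h2, hcard, htype⟩ | ⟨hrel, -⟩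
    · have hl1 : l = 1 := by
        by_contra hne
        exact hbig ⟨⟨h2, hcard, htype⟩, by omega⟩
      subst hl1
      have hMtop : M = ⊤ := by
        rw [eq_top_iff']
        intro x
        rw [hM]
        have : c ^ p = z := by rw [hzdef, pow_one]
        rw [this]
        exact hzcomm _
      rw [hMtop, relIndex_top_right]
      have h := U.card_mul_index
      rw [hUcard, hcard, h2] at h
      rw [h2]
      norm_num at h ⊢
      omega
    · exact hrel
  have hUM : U ≤ M := fun x hx => (hM x).mpr (by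
    obtain ⟨i, hi⟩ := mem_zpowers_iff.mp (mem_subgroupOf.mp hx)
    rw [← hi]
    exact ((Commute.refl c).zpow_left i).pow_right p)
  obtain ⟨g, hgM, hgU, hspan⟩ := span_of_relIndex hp U M hUM hrel
  have hgc : Commute (g : G) (c ^ p) := (hM g).mp hgM
  have hgc' : ¬ Commute (g : G) c := fun h => hgU (mem_subgroupOf.mpr (hself g g.2 h))
  -- `D = C(Z^p)`
  set D := centralizer ({c ^ p} : Set G) with hDdef
  have hDmem : ∀ x, x ∈ D ↔ Commute x (c ^ p) := fun x => by
    rw [hDdef, mem_centralizer_singleton_iff]; rfl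
  have hcD : zpowers c ≤ D := zpowers_le.mpr ((hDmem c).mpr ((Commute.refl c).pow_right p))
  have hHD : H ≤ D := fun x hx => (hDmem x).mpr ((hcom hx).pow_right p)
  have hDchar : D.Characteristic := by
    rw [characteristic_iff_le_comap]
    intro φ x hx
    obtain ⟨j, hj⟩ := mem_zpowers_iff.mp
      ((characteristic_iff_le_comap.mp hZchar φ.symm) (mem_zpowers c))
    have hj' : c ^ j = φ.symm c := hj
    rw [mem_comap, hDmem]
    have h1 : Commute x ((c ^ p) ^ j) := ((hDmem x).mp hx).zpow_right j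
    rw [← zpow_natCast c p, ← zpow_mul, mul_comm, zpow_mul, zpow_natCast, hj'] at h1
    have h2 := h1.map φ.toMonoidHom
    simpa using h2
  have hprod : ∀ d ∈ D, ∃ e ∈ E, ∃ r : R, r ∈ M ∧ d = e * r := by
    intro d hd
    have hd' : d ∈ R ⊔ E := by rw [sup_comm, hEC]; exact mem_top d
    rw [← SetLike.mem_coe, coe_mul_of_left_le_normalizer_right R E] at hd'
    · obtain ⟨r, hr, e, he, rfl⟩ := Set.mem_mul.mp hd'
      refine ⟨e, he, ⟨r, hr⟩, (hM _).mpr ?_, (hER e he r hr).symm⟩
      have := D.mul_mem hd (D.inv_mem (hHD (hEH he)))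
      rw [mul_inv_cancel_right] at this
      exact (hDmem r).mp this
    · exact centralizer_le_normalizer _
  have hMcomm : ∀ a ∈ M, ∀ b ∈ M, ⁅(a : G), (b : G)⁆ ∈ zpowers z := by
    have hz' : ∀ {x w : G}, w ∈ zpowers z → x * w * x⁻¹ ∈ zpowers z := fun {x w} hw => by
      obtain ⟨i, rfl⟩ := mem_zpowers_iff.mp hw
      rw [((hzcomm x).zpow_right i).eq, mul_inv_cancel_right]
      exact zpow_mem (mem_zpowers z) i
    have hMu : ∀ a ∈ M, ∀ u ∈ zpowers c, ⁅(a : G), u⁆ ∈ zpowers z := fun a ha u hu =>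
      pow_conj_mem hp hG hzp hz1 hzc hu hcN ((hM a).mp ha)
    intro a ha b hb
    obtain ⟨-, i, u, hu, rfl⟩ := hspan b hb
    obtain ⟨-, j, v, hv, rfl⟩ := hspan a ha
    rw [Subgroup.coe_mul, Subgroup.coe_mul, SubmonoidClass.coe_pow, SubmonoidClass.coe_pow]
    have hu' := mem_subgroupOf.mp hu
    have hv' := mem_subgroupOf.mp hv
    have h1 : ⁅(v : G) * (g : G) ^ j, (u : G)⁆ ∈ zpowers z := by
      have := hMu (v * g ^ j) ha u hu'
      simpa using this
    have h2 : ⁅(g : G) ^ i, (v : G)⁆ ∈ zpowers z := by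
      have := hMu (g ^ i) (pow_mem hgM i) v hv'
      simpa using this
    have e : ⁅(v : G) * (g : G) ^ j, (u : G) * (g : G) ^ i⁆ = ⁅(v : G) * (g : G) ^ j, (u : G)⁆ *
        ((u : G) * ⁅(g : G) ^ i, (v : G)⁆⁻¹ * (u : G)⁻¹) := by
      have hcm : (g : G) ^ j * (g : G) ^ i = (g : G) ^ i * (g : G) ^ j :=
        ((Commute.refl _).pow_pow j i).eq
      have hcm' : (g : G) ^ j * (g : G) ^ i * ((g : G) ^ j)⁻¹ = (g : G) ^ i := by
        rw [hcm, mul_inv_cancel_right]
      simp only [commutatorElement_def]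
      calc _ = (v : G) * (g : G) ^ j * (u : G) * ((g : G) ^ j)⁻¹ *
            ((g : G) ^ j * (g : G) ^ i * ((g : G) ^ j)⁻¹) * (v : G)⁻¹ * ((g : G) ^ i)⁻¹ * (u : G)⁻¹ := by
              group
        _ = _ := by rw [hcm']; group
    rw [e]
    exact mul_mem h1 (hz' (inv_mem h2))
  have hMpow : ∀ a ∈ M, (a : G) ^ p ∈ zpowers (c ^ p) := by
    intro a ha
    have hap : (a : G) ^ p ∈ zpowers c := by simpa using mem_subgroupOf.mp (hspan a ha).1
    obtain ⟨i, hi⟩ := mem_zpowers_iff.mp hap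
    by_cases hpi : (p : ℤ) ∣ i
    · obtain ⟨j, rfl⟩ := hpi
      rw [← hi, zpow_mul, zpow_natCast]
      exact zpow_mem (mem_zpowers _) j
    · have hac : Commute (a : G) c := by
        have h1 : c ∈ centralizer ({(a : G)} : Set G) := by
          refine mem_of_zpow_mem_of_pow_mem hp hpi ?_ ?_
          · rw [hi, mem_centralizer_singleton_iff]; exact ((Commute.refl _).pow_left p).eq
          · rw [mem_centralizer_singleton_iff]; exact ((hM a).mp ha).symm.eq
        exact (mem_centralizer_singleton_iff.mp h1).symm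
      obtain ⟨j, hj⟩ := mem_zpowers_iff.mp (hself a a.2 hac)
      rw [← hj, ← zpow_natCast (c ^ j) p, ← zpow_mul, mul_comm, zpow_mul, zpow_natCast]
      exact zpow_mem (mem_zpowers _) j
  have hzcp : z ∈ zpowers (c ^ p) := by
    rw [hzdef, show p ^ l = p * p ^ (l - 1) by rw [← pow_succ']; congr 1; omega, pow_mul]
    exact pow_mem (mem_zpowers _) _
  have hND : Narrow p D (c ^ p) z := by
    refine ⟨hzp, hzcp, hzcent, le_antisymm ?_ ?_, ?_, ?_⟩
    · intro d hd
      have h1 : d ∈ zpowers c := by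
        rw [hc]
        have h2 : d ∈ centralizer (H : Set G) := centralizer_le hHD hd.2
        exact ⟨hHc h2, h2⟩
      obtain ⟨i, rfl⟩ := mem_zpowers_iff.mp h1
      by_cases hpi : (p : ℤ) ∣ i
      · obtain ⟨j, rfl⟩ := hpi
        rw [zpow_mul, zpow_natCast]
        exact zpow_mem (mem_zpowers _) j
      · refine absurd ?_ hgc'
        have h1 : c ∈ centralizer ({(g : G)} : Set G) := by
          refine mem_of_zpow_mem_of_pow_mem hp hpi ?_ ?_
          · rw [mem_centralizer_singleton_iff]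
            exact (mem_centralizer_iff.mp hd.2 _ ((hDmem _).mpr hgc)).symm
          · rw [mem_centralizer_singleton_iff]; exact hgc.symm.eq
        exact (mem_centralizer_singleton_iff.mp h1).symm
    · rw [zpowers_le]
      exact ⟨(hDmem _).mpr (Commute.refl _), mem_centralizer_iff.mpr fun y hy =>
        ((hDmem y).mp hy).eq⟩
    · intro d hd d' hd'
      obtain ⟨e, he, r, hr, rfl⟩ := hprod d hd
      obtain ⟨e', he', r', hr', rfl⟩ := hprod d' hd'
      have hmix : ⁅e * (r : G), e' * (r' : G)⁆ = ⁅e, e'⁆ * ⁅(r : G), (r' : G)⁆ := by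
        have k1 : (r : G) * e' = e' * r := (hER e' he' r r.2).symm
        have k2 : (r' : G) * e⁻¹ = e⁻¹ * r' := (hER _ (inv_mem he) r' r'.2).symm
        have k3 : ⁅(r : G), (r' : G)⁆ * (e⁻¹ * e'⁻¹) = (e⁻¹ * e'⁻¹) * ⁅(r : G), (r' : G)⁆ :=
          (hER _ (mul_mem (inv_mem he) (inv_mem he')) _
            (mul_mem (mul_mem (mul_mem r.2 r'.2) (inv_mem r.2)) (inv_mem r'.2))).symm
        calc ⁅e * (r : G), e' * (r' : G)⁆
            = e * ((r : G) * e') * r' * (r : G)⁻¹ * e⁻¹ * (r' : G)⁻¹ * e'⁻¹ := by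
              rw [commutatorElement_def]; group
          _ = e * e' * ((r : G) * r' * (r : G)⁻¹ * (r' : G)⁻¹) * ((r' : G) * e⁻¹) * (r' : G)⁻¹ * e'⁻¹ := by
              rw [k1]; group
          _ = e * e' * (⁅(r : G), (r' : G)⁆ * (e⁻¹ * e'⁻¹)) := by
              rw [k2, commutatorElement_def]; group
          _ = _ := by rw [k3, commutatorElement_def e e']; group
      rw [hmix]
      exact mul_mem (hEcomm e he e' he') (hMcomm r hr r' hr')
    · intro d hd
      obtain ⟨e, he, r, hr, rfl⟩ := hprod d hd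
      rw [(show Commute e (r : G) from hER e he r r.2).mul_pow]
      exact mul_mem (zpowers_le.mpr hzcp (hEp e he)) (hMpow r hr)
  rcases (show l = 1 ∨ 2 ≤ l by omega) with rfl | hl2
  · -- `G` itself is extraspecial
    have hcpz : c ^ p = z := by rw [hzdef, pow_one]
    have hDtop : D = ⊤ := by
      rw [eq_top_iff']; intro x; rw [hDmem, hcpz]; exact hzcomm x
    rw [hcpz, hDtop] at hND
    refine ⟨⊤, ⊥, fun e _ r hr => by rw [mem_bot.mp hr, one_mul, mul_one], sup_bot_eq _, Or.inr ?_,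
      Or.inl inferInstance⟩
    refine isExtraspecial_of hp hG ⊤ hoz (mem_top _) (fun e _ => hzcomm e) hND.comm hND.pow
      hND.cent.le ⟨g, mem_top _, c, mem_top _, hgc'⟩
  · exfalso
    have hcp1 : c ^ p ≠ 1 := by
      intro h
      have := orderOf_dvd_of_pow_eq_one h
      rw [hk] at this
      have := Nat.le_of_dvd hp.pos this
      have h2 : p ^ 2 ≤ p ^ (l + 1) := Nat.pow_le_pow_right hp.pos (by omega)
      have := hp.two_le
      nlinarith
    have hzcpp : z ∈ zpowers ((c ^ p) ^ p) := by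
      rw [hzdef, show p ^ l = p * p * p ^ (l - 2) by
        rw [mul_assoc, ← pow_succ', ← pow_succ']; congr 1; omega, pow_mul, pow_mul]
      exact pow_mem (mem_zpowers _) _
    exact notMem_zpowers_pow hp hG hcp1
      (hND.pow_mem_pow hp hG hDchar hzcpp hcp1 hsymp c (hcD (mem_zpowers c)))

end Cfsg.Agent.S3762
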