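import Cfsg.Statements.S5420
import Cfsg.Agent.Lib.LargeExtra.Basic

set_option autoImplicit false
open Cfsg

namespace Cfsg.Agent.S5420

/-- Let Q be an extraspecial 2-subgroup of the finite group G whose centralizer in G is its centre Z and which is normal in the centralizer of Z. If Z lies in the largest normal 2-subgroup of G, then Q is a large extraspecial 2-subgroup of G: it normalizes no non-trivial subgroup of G of odd order. -/
theorem result {G : Type*} [Group G] [Finite G] (Q : Subgroup G) (hL1 : Cfsg.IsExtraspecial 2 ↥Q) (hL2 : Subgroup.centralizer (Q : Set G) = ((Subgroup.center ↥Q).map Q.subtype)) (hL3 : Subgroup.centralizer (((Subgroup.center ↥Q).map Q.subtype) : Set G) ≤ Subgroup.normalizer (Q : Set G)) (hZ : ((Subgroup.center ↥Q).map Q.subtype) ≤ Cfsg.pCore 2 G) : Cfsg.IsLargeExtraspecial Q := by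
  refine ⟨hL1, hL2, hL3, fun K hK hQK => ?_⟩
  haveI : Fact (Nat.Prime 2) := ⟨Nat.prime_two⟩
  rw [Subgroup.eq_bot_iff_forall]
  intro k hk
  refine CfsgLib.LargeExtra.odd_trivial_of_centralizes_centre hL1 hL2 hL3 hK hQK hk fun z hz => ?_
  have hzQ : z ∈ Q := by obtain ⟨c, -, rfl⟩ := hz; exact c.2
  have h1 : z * k * z⁻¹ * k⁻¹ ∈ K :=
    mul_mem ((Subgroup.mem_normalizer_iff.mp (hQK hzQ) k).mp hk) (inv_mem hk)
  have h2 : z * k * z⁻¹ * k⁻¹ ∈ pCore 2 G := by
    have := (CfsgLib.LargeExtra.pCore_normal' 2 G).conj_mem z⁻¹ (inv_mem (hZ hz)) k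
    have h := mul_mem (hZ hz) this
    simpa [mul_assoc] using h
  have h3 := CfsgLib.LargeExtra.odd_inf_two hK (CfsgLib.LargeExtra.pCore_isPGroup' 2 G) h1 h2
  exact mul_inv_eq_iff_eq_mul.mp (mul_inv_eq_one.mp h3)

end Cfsg.Agent.S5420
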