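import Cfsg.Statements.S0292
import Cfsg.Agent.Lib.POmega.Forms
import Cfsg.Agent.Lib.ClassicalGroups.OrthCard

set_option autoImplicit false
open Cfsg

namespace Cfsg.Agent.S0292

/-- 2 |PΩ_{2m+1}(q)| = q^(m^2) prod_{i=1}^{m} (q^(2i) - 1), for q odd and m at least 3 (type B_m). -/
theorem result {F : Type*} [Field F] [Fintype F] {q : ℕ} (hF : Fintype.card F = q) (hodd : Odd q) (m : ℕ) (hm : 3 ≤ m) : 2 * Nat.card (Cfsg.POmega F (Cfsg.quadFormOdd m F)) = q ^ (m ^ 2) * ∏ i ∈ Finset.range m, (q ^ (2 * (i + 1)) - 1) := by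
  classical
  have h2 : (2 : F) ≠ 0 := CfsgLib.POmega.two_ne_zero_of_odd (hF.symm ▸ hodd)
  have hQ := CfsgLib.POmega.oddQ_nondegenerate (F := F) h2 m
  have hn : 7 ≤ Fintype.card (Unit ⊕ (Fin m ⊕ Fin m)) := by simp; omega
  obtain ⟨d, hd⟩ := FiniteField.exists_nonsquare (F := F) (fun hch => by
    have : CharP F 2 := ringChar.of_eq hch
    exact h2 CharTwo.two_eq_zero)
  have h := CfsgLib.POmega.card_O_eq hQ
  rw [CfsgLib.Orth.index_commutator hQ h2 hd (by omega), CfsgLib.POmega.center_eq_bot hQ hn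
    (Or.inr (CfsgLib.POmega.neg_one_notMem h2 (by simp [parity_simps]))), one_mul] at h
  simp only [CfsgLib.POmega.oddQ_coe] at h
  rw [CfsgLib.Orth.O, CfsgLib.POmega.oddQ_coe, CfsgLib.ClassicalGroups.card_isometry_odd h2 m, hF] at h
  linarith

end Cfsg.Agent.S0292
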