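import Cfsg.Statements.S0790
-- import your own Cfsg.Agent.* helpers here
import Cfsg.Agent.Lib.Orth.NegOne

set_option autoImplicit false
open Cfsg

namespace Cfsg.Agent.S0790

/-- −1 ∈ Ω⁺_2m(q) iff q^m ≡ 1 (mod 4), for q odd and m ≥ 1 (so that in the other case SO⁺_2m(q) = 2 × Ω⁺_2m(q)). -/
theorem result {F : Type*} [Field F] [Fintype F] {q : ℕ} (hF : Fintype.card F = q) (hodd : Odd q) (m : ℕ) (hm : 1 ≤ m) : (∃ g : ↥(Cfsg.isometryGroup F (Cfsg.quadFormPlus m F)), g ∈ Cfsg.Omega F (Cfsg.quadFormPlus m F) ∧ ((g : Matrix.GeneralLinearGroup (Fin m ⊕ Fin m) F) : Matrix (Fin m ⊕ Fin m) (Fin m ⊕ Fin m) F) = -1) ↔ q ^ m % 4 = 1 := by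
  classical
  have h2 : (2 : F) ≠ 0 := fun h => by
    have : CharP F 2 := CharTwo.of_one_ne_zero_of_two_eq_zero one_ne_zero h
    have := FiniteField.even_card_iff_char_two (F := F)
    rw [ringChar.eq F 2, hF, Nat.odd_iff.1 hodd] at this
    simp at this
  obtain ⟨d, hd⟩ := FiniteField.exists_nonsquare (F := F) fun hch => by
    have : CharP F 2 := ringChar.of_eq hch
    exact h2 CharTwo.two_eq_zero
  have hq2 : q % 2 = 1 := Nat.odd_iff.1 hodd
  have hsq : IsSquare (-1 : F) ↔ q % 4 ≠ 3 := hF ▸ FiniteField.isSquare_neg_one_iff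
  have hpow : q ^ m % 4 = if q % 4 = 1 then 1 else if Even m then 1 else 3 := by
    rw [Nat.pow_mod]
    split_ifs with h1 hev
    · rw [h1, one_pow]; rfl
    · obtain ⟨k, rfl⟩ := hev
      rw [show q % 4 = 3 by omega, ← two_mul, pow_mul, Nat.pow_mod]
      norm_num
    · obtain ⟨k, rfl⟩ := Nat.not_even_iff_odd.1 hev
      rw [show q % 4 = 3 by omega, pow_succ, pow_mul, Nat.mul_mod, Nat.pow_mod]
      norm_num
  rw [← CfsgLib.Orth.plusQ_coe]
  let v : Fin m ⊕ Fin m → (Fin m ⊕ Fin m → F) :=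
    Sum.elim (fun i => Pi.single (Sum.inl i) 1 + Pi.single (Sum.inr i) 1)
      (fun i => Pi.single (Sum.inl i) 1 - Pi.single (Sum.inr i) 1)
  have hQv : ∀ i, CfsgLib.Orth.plusQ m F (v i) = Sum.elim (fun _ => (1 : F)) (fun _ => -1) i := by
    rintro (i | i) <;>
      simp [v, CfsgLib.Orth.plusQ_coe, Cfsg.quadFormPlus, Pi.single_apply]
  have ho : ∀ i j, i ≠ j → QuadraticMap.polar ⇑(CfsgLib.Orth.plusQ m F) (v i) (v j) = 0 := by
    rintro (i | i) (j | j) hij <;>
      simp [v, CfsgLib.Orth.polar_plusQ, Pi.single_apply, Finset.sum_add_distrib] at hij ⊢ <;>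
      simp [hij, Ne.symm hij]
  rw [Cfsg.Omega, CfsgLib.Orth.neg_one_mem_iff (CfsgLib.Orth.plusQ_nondegenerate m) h2 hd v
    (fun i => by rw [hQv]; cases i <;> simp) ho rfl, hpow]
  simp only [hQv, Fintype.prod_sum_type, Sum.elim_inl, Sum.elim_inr, Finset.prod_const,
    Finset.card_univ, Fintype.card_fin, IsSquare.one, if_true, hsq]
  by_cases h1 : q % 4 = 1
  · rw [if_pos (show q % 4 ≠ 3 by omega), if_pos h1]
    rw [← mul_pow]
    simp
  · rw [if_neg (not_not.2 (show q % 4 = 3 by omega)), if_neg h1, ← mul_pow]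
    by_cases hev : Even m
    · rw [if_pos hev]
      obtain ⟨k, rfl⟩ := hev
      simp [← two_mul, pow_mul]
    · rw [if_neg hev]
      simp [Prod.ext_iff, (Nat.not_even_iff_odd.1 hev).neg_one_pow]

end Cfsg.Agent.S0790
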