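import Cfsg.Statements.S0293
import Cfsg.Agent.Lib.POmega.Forms
import Cfsg.Agent.Lib.ClassicalGroups.OrthCard
import Cfsg.Agent.S0790

set_option autoImplicit false
open Cfsg

namespace Cfsg.Agent.S0293

/-- gcd(4, q^m - 1) |PΩ^+_{2m}(q)| = q^(m(m-1)) (q^m - 1) prod_{i=1}^{m-1} (q^(2i) - 1), m at least 4 (type D_m). -/
theorem result {F : Type*} [Field F] [Fintype F] {q : ℕ} (hF : Fintype.card F = q) (m : ℕ) (hm : 4 ≤ m) : Nat.gcd 4 (q ^ m - 1) * Nat.card (Cfsg.POmega F (Cfsg.quadFormPlus m F)) = q ^ (m * (m - 1)) * (q ^ m - 1) * ∏ i ∈ Finset.range (m - 1), (q ^ (2 * (i + 1)) - 1) := by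
  classical
  have hQ := CfsgLib.Orth.plusQ_nondegenerate (F := F) m
  have hn : 7 ≤ Fintype.card (Fin m ⊕ Fin m) := by simp; omega
  have h := CfsgLib.POmega.card_O_eq hQ
  obtain ⟨k, rfl⟩ : ∃ k, m = k + 1 := ⟨m - 1, by omega⟩
  have hc : Nat.card (CfsgLib.Orth.O (CfsgLib.Orth.plusQ (k + 1) F)) =
      2 * q ^ ((k + 1) * k) * (q ^ (k + 1) - 1) * ∏ i ∈ Finset.range k, (q ^ (2 * (i + 1)) - 1) := by
    rw [CfsgLib.Orth.O, CfsgLib.Orth.plusQ_coe, CfsgLib.ClassicalGroups.card_isometry_plus, hF]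
  rw [hc] at h
  rw [← CfsgLib.Orth.plusQ_coe (k + 1)]
  have h1q : 1 ≤ q ^ (k + 1) := Nat.one_le_pow _ _ (hF ▸ Fintype.card_pos)
  rw [Nat.add_sub_cancel]
  by_cases hodd : Odd q
  · have h2 : (2 : F) ≠ 0 := CfsgLib.POmega.two_ne_zero_of_odd (hF.symm ▸ hodd)
    obtain ⟨d, hd⟩ := FiniteField.exists_nonsquare (F := F) (fun hch => by
      have : CharP F 2 := ringChar.of_eq hch
      exact h2 CharTwo.two_eq_zero)
    rw [CfsgLib.Orth.index_commutator hQ h2 hd (by omega)] at h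
    have hpow : Odd (q ^ (k + 1)) := hodd.pow
    rw [Nat.odd_iff] at hpow
    by_cases h4 : q ^ (k + 1) % 4 = 1
    · rw [CfsgLib.POmega.center_eq_two hQ hn h2 (by
        obtain ⟨g, hg, hm⟩ := (Cfsg.Agent.S0790.result hF hodd (k + 1) (by omega)).2 h4
        have e := CfsgLib.Orth.plusQ_coe (F := F) (k + 1)
        rw [CfsgLib.Orth.O, e]; exact ⟨g, hg, hm⟩)] at h
      have hg : Nat.gcd 4 (q ^ (k + 1) - 1) = 4 := Nat.gcd_eq_left (by omega)
      rw [hg]; linarith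
    · rw [CfsgLib.POmega.center_eq_bot hQ hn (Or.inr fun hex => h4
        ((Cfsg.Agent.S0790.result hF hodd (k + 1) (by omega)).1 (by
          have e := CfsgLib.Orth.plusQ_coe (F := F) (k + 1)
          rw [CfsgLib.Orth.O, e] at hex
          obtain ⟨g, hg, hm⟩ := hex
          exact ⟨g, hg, hm⟩))), one_mul] at h
      have hg : Nat.gcd 4 (q ^ (k + 1) - 1) = 2 := by
        rw [Nat.gcd_rec]
        have : (q ^ (k + 1) - 1) % 4 = 2 := by omega
        rw [this]; rfl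
      rw [hg]; linarith
  · have h2 : (2 : F) = 0 := CfsgLib.POmega.two_eq_zero_of_even (hF.symm ▸ hodd)
    have : CharP F 2 := CharTwo.of_one_ne_zero_of_two_eq_zero one_ne_zero h2
    rw [CfsgLib.Orth.index_commutator_char_two hQ
      (CfsgLib.Orth.reflClosure_eq_top hQ (Or.inr (by omega))) (by omega),
      CfsgLib.POmega.center_eq_bot hQ hn (Or.inl h2), one_mul] at h
    have hev : Even (q ^ (k + 1)) := (Nat.not_odd_iff_even.1 hodd).pow_of_ne_zero (by omega)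
    rw [Nat.even_iff] at hev
    have hg : Nat.gcd 4 (q ^ (k + 1) - 1) = 1 := by
      rw [show (4 : ℕ) = 2 ^ 2 by rfl]
      exact Nat.Coprime.pow_left 2 (Nat.prime_two.coprime_iff_not_dvd.2 (by omega))
    rw [hg]; linarith

end Cfsg.Agent.S0293
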