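import Cfsg.Statements.S0791
-- import your own Cfsg.Agent.* helpers here
import Cfsg.Agent.Lib.Orth.NegOne

set_option autoImplicit false
open Cfsg

namespace Cfsg.Agent.S0791

/-- −1 ∈ Ω⁻_2m(q) iff q^m ≡ −1 (mod 4), for q odd and m ≥ 1; for the minus-type form quadFormMinus (m−1) with anisotropic binary part. -/
theorem result {F : Type*} [Field F] [Fintype F] {q : ℕ} (hF : Fintype.card F = q) (hodd : Odd q) (m : ℕ) (hm : 1 ≤ m) (a b : F) (hab : ∀ z₁ z₂ : F, z₁ ^ 2 + a * z₁ * z₂ + b * z₂ ^ 2 = 0 → z₁ = 0 ∧ z₂ = 0) : (∃ g : ↥(Cfsg.isometryGroup F (Cfsg.quadFormMinus (m - 1) F a b)), g ∈ Cfsg.Omega F (Cfsg.quadFormMinus (m - 1) F a b) ∧ ((g : Matrix.GeneralLinearGroup ((Fin (m - 1) ⊕ Fin (m - 1)) ⊕ Fin 2) F) : Matrix ((Fin (m - 1) ⊕ Fin (m - 1)) ⊕ Fin 2) ((Fin (m - 1) ⊕ Fin (m - 1)) ⊕ Fin 2) F) = -1) ↔ q ^ m % 4 = 3 := by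
  classical
  have h2 : (2 : F) ≠ 0 := fun h => by
    have : CharP F 2 := CharTwo.of_one_ne_zero_of_two_eq_zero one_ne_zero h
    have := FiniteField.even_card_iff_char_two (F := F)
    rw [ringChar.eq F 2, hF, Nat.odd_iff.1 hodd] at this
    simp at this
  obtain ⟨d, hd⟩ := FiniteField.exists_nonsquare (F := F) fun hch => by
    have : CharP F 2 := ringChar.of_eq hch
    exact h2 CharTwo.two_eq_zero
  have hq2 : q % 2 = 1 := Nat.odd_iff.1 hodd
  have hsq : IsSquare (-1 : F) ↔ q % 4 ≠ 3 := hF ▸ FiniteField.isSquare_neg_one_iff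
  have hpow : q ^ m % 4 = if q % 4 = 1 then 1 else if Even m then 1 else 3 := by
    rw [Nat.pow_mod]
    split_ifs with h1 hev
    · rw [h1, one_pow]; rfl
    · obtain ⟨k, rfl⟩ := hev
      rw [show q % 4 = 3 by omega, ← two_mul, pow_mul, Nat.pow_mod]
      norm_num
    · obtain ⟨k, rfl⟩ := Nat.not_even_iff_odd.1 hev
      rw [show q % 4 = 3 by omega, pow_succ, pow_mul, Nat.mul_mod, Nat.pow_mod]
      norm_num
  obtain ⟨k, rfl⟩ : ∃ k, m = k + 1 := ⟨m - 1, by omega⟩
  suffices h : (∃ g : ↥(Cfsg.isometryGroup F (Cfsg.quadFormMinus k F a b)),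
      g ∈ Cfsg.Omega F (Cfsg.quadFormMinus k F a b) ∧
      ((g : Matrix.GeneralLinearGroup ((Fin k ⊕ Fin k) ⊕ Fin 2) F) :
        Matrix ((Fin k ⊕ Fin k) ⊕ Fin 2) ((Fin k ⊕ Fin k) ⊕ Fin 2) F) = -1) ↔ q ^ (k + 1) % 4 = 3 from h
  rw [← CfsgLib.Orth.minusQ_coe]
  let v : (Fin k ⊕ Fin k) ⊕ Fin 2 → ((Fin k ⊕ Fin k) ⊕ Fin 2 → F) :=
    Sum.elim (Sum.elim (fun i => Pi.single (.inl (.inl i)) 1 + Pi.single (.inl (.inr i)) 1)
      (fun i => Pi.single (.inl (.inl i)) 1 - Pi.single (.inl (.inr i)) 1))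
      ![Pi.single (.inr 0) 1, (-a / 2) • Pi.single (.inr 0) 1 + Pi.single (.inr 1) 1]
  have h4 : (4 : F) ≠ 0 := by rw [show (4 : F) = 2 * 2 by norm_num]; exact mul_ne_zero h2 h2
  have hQv : ∀ i, CfsgLib.Orth.minusQ k F a b (v i) =
      Sum.elim (Sum.elim (fun _ => (1 : F)) (fun _ => -1)) ![1, b - a ^ 2 / 4] i := by
    rintro ((i | i) | i) <;> try fin_cases i
    all_goals simp [v, CfsgLib.Orth.minusQ_coe, Cfsg.quadFormMinus, Pi.single_apply]
    all_goals field_simp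
    all_goals ring
  have ho : ∀ i j, i ≠ j → QuadraticMap.polar ⇑(CfsgLib.Orth.minusQ k F a b) (v i) (v j) = 0 := by
    rintro ((i | i) | i) ((j | j) | j) hij <;> try fin_cases i
    all_goals try fin_cases j
    all_goals rw [CfsgLib.Orth.polar_minusQ]
    all_goals simp [v, Pi.single_apply, Finset.sum_add_distrib] at hij ⊢
    all_goals try simp [hij, Ne.symm hij]
    all_goals first | (field_simp; ring) | ring
  have hdisc := CfsgLib.Orth.not_isSquare_neg_disc h2 hab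
  have he0 : b - a ^ 2 / 4 ≠ 0 := fun h => hdisc (by rw [h, neg_zero]; exact IsSquare.zero)
  rw [Cfsg.Omega, CfsgLib.Orth.neg_one_mem_iff (CfsgLib.Orth.minusQ_nondegenerate h2 hab) h2 hd v
    (fun i => by rcases i with (i | i) | i <;> rw [hQv] <;> try fin_cases i
                 all_goals simp [he0]) ho rfl, hpow]
  have hsqd : IsSquare (b - a ^ 2 / 4) ↔ q % 4 = 3 := by
    constructor
    · intro h
      by_contra h3
      exact hdisc (by rw [← neg_one_mul]; exact (hsq.2 h3).mul h)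
    · intro h
      by_contra hns
      apply hdisc
      have hch : ringChar F ≠ 2 := fun hch => by
        have : CharP F 2 := ringChar.of_eq hch
        exact h2 CharTwo.two_eq_zero
      rw [← quadraticChar_one_iff_isSquare (neg_ne_zero.2 he0), ← neg_one_mul, map_mul,
        quadraticChar_neg_one_iff_not_isSquare.2 hns,
        quadraticChar_neg_one_iff_not_isSquare.2 (fun h' => hsq.1 h' h)]
      norm_num
  simp only [hQv, Fintype.prod_sum_type, Sum.elim_inl, Sum.elim_inr, Finset.prod_const,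
    Finset.card_univ, Fintype.card_fin, IsSquare.one, if_true, hsq, Fin.prod_univ_two,
    Matrix.cons_val_zero, Matrix.cons_val_one, hsqd]
  by_cases h1 : q % 4 = 1
  · rw [if_pos (show q % 4 ≠ 3 by omega), if_neg (show ¬ q % 4 = 3 by omega), if_pos h1, ← mul_pow]
    simp [Prod.ext_iff]
  · have h3 : q % 4 = 3 := by omega
    rw [if_neg (not_not.2 h3), if_pos h3, if_neg h1, ← mul_pow]
    by_cases hev : Even k
    · rw [if_neg (by simp [Nat.even_add_one, hev])]
      simp [Prod.ext_iff, hev.neg_one_pow]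
    · rw [if_pos (by simp [Nat.even_add_one, hev])]
      simp [Prod.ext_iff, (Nat.not_even_iff_odd.1 hev).neg_one_pow]

end Cfsg.Agent.S0791
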