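import Cfsg.Statements.S3888
import Cfsg.Agent.Lib.Struct76.RankTwoNoCube
import Cfsg.Agent.Lib.Struct76.RankTwoHeisenberg

set_option autoImplicit false
open Cfsg

namespace Cfsg.Agent.S3888

/-- The classification of the p-groups of rank at most two for odd p. Let p be an odd prime and G a group of order p^n with no elementary abelian subgroup of order p³. Then one of the following holds: G is metacyclic; n ≥ 3 and G is generated by elements x, y, z with x^p = y^p = z^(p^(n−2)) = 1, z commuting with x and y, and x⁻¹yx = y z^(p^(n−3)); n ≥ 4 and G is generated by elements x, y, z with x^p = y^p = z^(p^(n−2)) = 1, yz = zy, x⁻¹yx = y z^(s p^(n−3)) and x⁻¹zx = yz, where s = 1 or s is a quadratic non-residue modulo p; or p = 3 and G has maximal class (nilpotency class n − 1). -/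
theorem result {G : Type*} [Group G] [Finite G] {p : ℕ} [Fact p.Prime] (hp : p ≠ 2) (n : ℕ) (hG : Nat.card G = p ^ n)
    (hrk : Cfsg.PRankLE p 2 G) :
    Cfsg.IsMetacyclic G ∨
    (3 ≤ n ∧ ∃ x y z : G, Subgroup.closure ({x, y, z} : Set G) = ⊤ ∧ x ^ p = 1 ∧ y ^ p = 1 ∧ z ^ p ^ (n - 2) = 1 ∧
        x * z = z * x ∧ y * z = z * y ∧ x⁻¹ * y * x = y * z ^ p ^ (n - 3)) ∨
    (4 ≤ n ∧ ∃ (s : ℕ) (x y z : G), (s = 1 ∨ ¬ IsSquare (s : ZMod p)) ∧ Subgroup.closure ({x, y, z} : Set G) = ⊤ ∧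
        x ^ p = 1 ∧ y ^ p = 1 ∧ z ^ p ^ (n - 2) = 1 ∧ y * z = z * y ∧ x⁻¹ * y * x = y * z ^ (s * p ^ (n - 3)) ∧
        x⁻¹ * z * x = y * z) ∨
    (p = 3 ∧ 2 ≤ n ∧ (⊤ : Subgroup G).lowerCentralSeries (n - 2) ≠ ⊥) := by
  classical
  have hGp : IsPGroup p G := IsPGroup.of_card hG
  haveI : Group.IsNilpotent G := hGp.isNilpotent
  have hmax : 2 ≤ n → Group.nilpotencyClass G = n - 1 →
      (⊤ : Subgroup G).lowerCentralSeries (n - 2) ≠ ⊥ := by
    intro h2 hc h
    have := lowerCentralSeries_eq_bot_iff_nilpotencyClass_le.1 h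
    omega
  by_cases hS : ∃ S : Subgroup G, (∀ x ∈ S, x ^ p = 1) ∧ p ^ 3 ≤ Nat.card S
  swap
  · push Not at hS
    rcases CfsgLib.Struct76.metacyclic_or_maxClass hp n hG hS with h | ⟨h3, h2, hc⟩
    · exact Or.inl h
    · exact Or.inr (Or.inr (Or.inr ⟨h3, h2, hmax h2 hc⟩))
  obtain ⟨S, hSexp, hSc⟩ := hS
  -- a subgroup of order `p ^ 3` and exponent `p`
  obtain ⟨j, hj⟩ := (hGp.to_subgroup S).exists_card_eq
  have hj3 : 3 ≤ j := (Nat.pow_le_pow_iff_right (Fact.out : p.Prime).one_lt).1 (hj ▸ hSc)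
  obtain ⟨E₀, hE₀, -⟩ := Sylow.exists_subgroup_card_pow_prime_le p (G := S) (n := 0) (m := 3)
    (hj ▸ pow_dvd_pow p hj3) ⊥ (by simp) (by omega)
  set E := E₀.map S.subtype with hEdef
  have hE : Nat.card E = p ^ 3 := by
    rw [hEdef, Subgroup.card_subtype, hE₀]
  have hexp : ∀ a ∈ E, a ^ p = 1 := fun a ha => hSexp a (Subgroup.map_subtype_le _ ha)
  have hna : ∃ a ∈ E, ∃ b ∈ E, a * b ≠ b * a := by
    by_contra! h
    have := hrk E ⟨⟨fun a b => Subtype.ext (h a a.2 b b.2)⟩⟩ hexp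
    rw [hE, Nat.pow_le_pow_iff_right (Fact.out : p.Prime).one_lt] at this
    omega
  set N := Subgroup.normalizer (E : Set G) with hN
  have hEN : E ≤ N := Subgroup.le_normalizer
  haveI hE'n : (E.subgroupOf N).Normal := Subgroup.normal_in_normalizer
  have hNp : IsPGroup p N := hGp.to_subgroup N
  have hrkN : Cfsg.PRankLE p 2 N := by
    intro A hA hAp
    rw [← Subgroup.card_subtype N A]
    haveI := hA
    refine hrk _ inferInstance ?_
    rintro _ ⟨a, ha, rfl⟩
    exact congrArg Subtype.val (hAp a ha)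
  have hE' : Nat.card (E.subgroupOf N) = p ^ 3 :=
    (Nat.card_congr (Subgroup.subgroupOfEquivOfLe hEN).toEquiv).trans hE
  have hexp' : ∀ a ∈ E.subgroupOf N, a ^ p = 1 := fun a ha => Subtype.ext (hexp a ha)
  have hna' : ∃ a ∈ E.subgroupOf N, ∃ b ∈ E.subgroupOf N, a * b ≠ b * a := by
    obtain ⟨a, ha, b, hb, hab⟩ := hna
    exact ⟨⟨a, hEN ha⟩, ha, ⟨b, hEN hb⟩, hb, fun h => hab (congrArg Subtype.val h)⟩
  obtain ⟨D⟩ := CfsgLib.Struct76.exists_heisData hNp (E.subgroupOf N) hE' hexp' hna'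
  have hn3 : 3 ≤ n := by
    have := Subgroup.card_le_card_group E
    rw [hE, hG] at this
    exact (Nat.pow_le_pow_iff_right (Fact.out : p.Prime).one_lt).1 this
  by_cases hy : ∃ y : N, y ^ p = 1 ∧ y ∉ E.subgroupOf N
  · obtain ⟨y, hy1, hy2⟩ := hy
    obtain ⟨h3, A, hAE, hEA, hAc, hAA⟩ := D.exists_selfCentralizing hp hNp hrkN hy1 hy2
    refine Or.inr (Or.inr (Or.inr ⟨h3, by omega, hmax (by omega) ?_⟩))
    set A₀ := A.map N.subtype with hA₀
    have hA₀c : Nat.card A₀ = p ^ 2 := by rw [hA₀, Subgroup.card_subtype, hAc]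
    have hA₀E : A₀ ≤ E := by
      rintro _ ⟨a, ha, rfl⟩
      exact hAE ha
    refine CfsgLib.MaxClass.class_of_selfCentralizing n G hG A₀ hA₀c ?_
    set C := Subgroup.centralizer (A₀ : Set G) with hC
    have hCN : ∀ g ∈ C, g ∈ N → g ∈ A₀ := by
      intro g hg hgN
      refine ⟨⟨g, hgN⟩, hAA.le (Subgroup.mem_centralizer_iff.2 fun a ha => Subtype.ext ?_), rfl⟩
      exact Subgroup.mem_centralizer_iff.1 hg a ⟨a, ha, rfl⟩
    have hAC : A₀ ≤ C := by
      rintro _ ⟨a, ha, rfl⟩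
      refine Subgroup.mem_centralizer_iff.2 ?_
      rintro _ ⟨b, hb, rfl⟩
      exact congrArg Subtype.val (Subgroup.mem_centralizer_iff.1 (hAA.ge ha) b hb)
    refine le_antisymm ?_ hAC
    intro g hg
    by_contra hgA
    -- `E` normalizes `C`
    have hnorm : E ≤ Subgroup.normalizer (C : Set G) := by
      intro e he
      have hconj : ∀ x ∈ E, ∀ b ∈ A₀, x * b * x⁻¹ ∈ A₀ := by
        rintro x hx _ ⟨b, hb, rfl⟩
        exact ⟨_, hEA ⟨x, hEN hx⟩ hx b hb, rfl⟩
      have hC' : ∀ x ∈ E, ∀ c ∈ C, x * c * x⁻¹ ∈ C := by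
        intro x hx c hc
        refine Subgroup.mem_centralizer_iff.2 fun b hb => ?_
        have h1 := Subgroup.mem_centralizer_iff.1 hc _ (hconj x⁻¹ (inv_mem hx) b hb)
        calc b * (x * c * x⁻¹) = x * (x⁻¹ * b * x⁻¹⁻¹ * c) * x⁻¹ := by group
          _ = x * c * x⁻¹ * b := by rw [h1]; group
      rw [Subgroup.mem_normalizer_iff]
      intro b
      refine ⟨hC' e he b, fun h => ?_⟩
      have := hC' e⁻¹ (inv_mem he) _ h
      simpa [mul_assoc] using this
    set H := C ⊔ E with hH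
    have hmem : ∀ h ∈ H, ∃ c ∈ C, ∃ e ∈ E, c * e = h := fun h hh => by
      have hh' : h ∈ ((C ⊔ E : Subgroup G) : Set G) := hh
      rwa [Subgroup.coe_mul_of_right_le_normalizer_left C E hnorm, Set.mem_mul] at hh'
    have hlt : E.subgroupOf H < ⊤ := by
      refine lt_top_iff_ne_top.2 fun h => hgA (hCN g hg (hEN ?_))
      have := (Subgroup.subgroupOf_eq_top.1 h) (Subgroup.mem_sup_left hg)
      exact this
    haveI : Group.IsNilpotent H := (hGp.to_subgroup H).isNilpotent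
    obtain ⟨⟨h, hhH⟩, hhN, hhE⟩ := SetLike.exists_of_lt
      (Group.normalizerCondition_of_isNilpotent _ hlt)
    apply hhE
    rw [Subgroup.mem_subgroupOf]
    have hhN' : h ∈ N := by
      rw [hN, Subgroup.mem_normalizer_iff]
      intro b
      rw [Subgroup.mem_normalizer_iff] at hhN
      constructor
      · intro hb
        exact (hhN ⟨b, Subgroup.mem_sup_right hb⟩).1 hb
      · intro hb
        have hbH : b ∈ H := by
          have := mul_mem (mul_mem (inv_mem hhH) (Subgroup.mem_sup_right hb : h * b * h⁻¹ ∈ H)) hhH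
          simpa [mul_assoc] using this
        exact (hhN ⟨b, hbH⟩).2 hb
    obtain ⟨c, hc, e, he, rfl⟩ := hmem h hhH
    have hcN : c ∈ N := by
      have := mul_mem hhN' (inv_mem (hEN he))
      rwa [mul_inv_cancel_right] at this
    exact mul_mem (hA₀E (hCN c hc hcN)) he
  push Not at hy
  have hNtop : N = ⊤ := by
    by_contra hne
    obtain ⟨g, hgN, hg⟩ := SetLike.exists_of_lt
      (Group.normalizerCondition_of_isNilpotent N (lt_top_iff_ne_top.2 hne))
    refine hg ?_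
    have hconj : ∀ b ∈ E, g * b * g⁻¹ ∈ E := by
      intro b hb
      have hmem : g * b * g⁻¹ ∈ N := (Subgroup.mem_normalizer_iff.1 hgN b).1 (hEN hb)
      exact hy ⟨_, hmem⟩ (Subtype.ext (by
        show (g * b * g⁻¹) ^ p = 1
        rw [conj_pow, hexp b hb, mul_one, mul_inv_cancel]))
    rw [hN, Subgroup.mem_normalizer_iff]
    intro b
    refine ⟨hconj b, fun hb => ?_⟩
    have hconj' : g⁻¹ * (g * b * g⁻¹) * g⁻¹⁻¹ ∈ E := by
      have hmem : g⁻¹ * (g * b * g⁻¹) * g⁻¹⁻¹ ∈ N :=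
        (Subgroup.mem_normalizer_iff.1 (inv_mem hgN) _).1 (hEN hb)
      exact hy ⟨_, hmem⟩ (Subtype.ext (by
        show (g⁻¹ * (g * b * g⁻¹) * g⁻¹⁻¹) ^ p = 1
        rw [conj_pow, hexp _ hb, mul_one, mul_inv_cancel]))
    simpa [mul_assoc] using hconj'
  haveI hEn : E.Normal := Subgroup.normalizer_eq_top_iff.1 hNtop
  obtain ⟨D'⟩ := CfsgLib.Struct76.exists_heisData hGp E hE hexp hna
  have hΩ : ∀ x : G, x ^ p = 1 → x ∈ E := fun x hx =>
    hy ⟨x, hNtop ▸ Subgroup.mem_top x⟩ (Subtype.ext hx)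
  rcases D'.presentations hp n hG hrk hΩ with h | h
  · exact Or.inr (Or.inl h)
  · exact Or.inr (Or.inr (Or.inl h))

end Cfsg.Agent.S3888
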