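import Cfsg.Statements.S0743
import Cfsg.Agent.Lib.PermSmall.Basic

set_option autoImplicit false
open Cfsg

namespace Cfsg.Agent.S0743

/-- Gleason's Lemma: let `p` be a prime and `1 ≤ k < n`; if every `k`-subset of the `n` points is exactly the fixed-point set of some `p`-subgroup of `G`, then `G` is `k`-transitive. -/
theorem result {α : Type*} [Fintype α] [DecidableEq α] (G : Subgroup (Equiv.Perm α)) {p k : ℕ} (hp : p.Prime) (hk : 1 ≤ k) (hkn : k < Fintype.card α) (h : ∀ s : Finset α, s.card = k → ∃ P : Subgroup G, IsPGroup p P ∧ MulAction.fixedPoints P α = (s : Set α)) : MulAction.IsMultiplyPretransitive G α k := by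
  classical
  refine CfsgLib.PermSmall.isMultiplyPretransitive_of_fixing_transitive hkn fun s hs x y hx hy => ?_
  have main : ∀ z, z ∉ s → ∀ S : Set α, S ⊆ (↑s : Set α)ᶜ → z ∉ S →
      (∀ g : fixingSubgroup G (s : Set α), g • z = z → ∀ w ∈ S, g • w ∈ S) → p ∣ S.ncard := by
    intro z hz S hS hzS hinv
    obtain ⟨P, hP, hfix⟩ := h (insert z s) (by rw [Finset.card_insert_of_notMem hz]; omega)
    have hmem : ∀ a ∈ insert z s, ∀ q : P, (q : G) • a = a := fun a ha q => by
      have : a ∈ MulAction.fixedPoints P α := by rw [hfix]; exact ha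
      exact this q
    let M : SubMulAction P α := ⟨S, fun q w hw =>
      hinv ⟨(q : G), (mem_fixingSubgroup_iff G).mpr fun a ha =>
        hmem a (Finset.mem_insert_of_mem ha) q⟩ (hmem z (Finset.mem_insert_self _ _) q) w hw⟩
    haveI := Fact.mk hp
    have hempty : IsEmpty (MulAction.fixedPoints P M) := by
      refine ⟨fun w => ?_⟩
      have : ((w : M) : α) ∈ MulAction.fixedPoints P α := fun q => congrArg Subtype.val (w.2 q)
      rw [hfix, Finset.mem_coe, Finset.mem_insert] at this
      rcases this with e | e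
      · exact hzS (e ▸ w.1.2)
      · exact hS w.1.2 e
    have hmod := hP.card_modEq_card_fixedPoints M
    rw [Nat.card_of_isEmpty (α := MulAction.fixedPoints P M)] at hmod
    exact (Nat.modEq_zero_iff_dvd.mp hmod : p ∣ Nat.card M)
  obtain ⟨g, hg⟩ := CfsgLib.PermSmall.exists_smul_eq_of_orbit_congr (G := fixingSubgroup G (s : Set α))
    hp.one_lt (↑s : Set α)ᶜ (fun g z hz hgz => hz (by
      have e : g • z = z := smul_left_cancel (g : G) ((mem_fixingSubgroup_iff G).mp g.2 _ hgz)
      rwa [e] at hgz)) main (x := x) (y := y) hx hy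
  exact ⟨g, fun a ha => (mem_fixingSubgroup_iff G).mp g.2 a ha, hg⟩

end Cfsg.Agent.S0743
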