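import Cfsg.Statements.S0744
import Cfsg.Agent.Lib.PermSmall.Basic

set_option autoImplicit false
open Cfsg

namespace Cfsg.Agent.S0744

/-- If for some `k > 1` the pointwise stabilisers of all `(k-1)`-subsets have the same order `> 1` and those of all `k`-subsets have the same order, then the group is `(k-1)`-transitive. -/
theorem result {α : Type*} [Fintype α] [DecidableEq α] (G : Subgroup (Equiv.Perm α)) {k : ℕ} (hk : 1 < k) (hkn : k ≤ Fintype.card α) (l m : ℕ) (hl : 1 < l) (hkm1 : ∀ s : Finset α, s.card = k - 1 → Nat.card (fixingSubgroup G (s : Set α)) = l) (hkm : ∀ s : Finset α, s.card = k → Nat.card (fixingSubgroup G (s : Set α)) = m) : MulAction.IsMultiplyPretransitive G α (k - 1) := by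
  classical
  refine CfsgLib.PermSmall.isMultiplyPretransitive_of_fixing_transitive (by omega)
    fun s hs x y hx hy => ?_
  have hins : ∀ (t : Finset α) (z : α), z ∉ t → (insert z t).card = t.card + 1 :=
    fun t z hz => Finset.card_insert_of_notMem hz
  have hfs : ∀ (t : Finset α) (g : G), g ∈ fixingSubgroup G (t : Set α) ↔ ∀ a ∈ t, g • a = a :=
    fun t g => mem_fixingSubgroup_iff G
  set H := fixingSubgroup G (s : Set α)
  have hst : ∀ z, z ∉ s → ∀ w, w ∉ insert z s →
      Nat.card (MulAction.stabilizer (fixingSubgroup G ((insert z s : Finset α) : Set α)) w) = m := by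
    intro z hz w hw
    rw [← hkm (insert w (insert z s)) (by rw [hins _ _ hw, hins _ _ hz]; omega)]
    refine Nat.card_congr
      { toFun := fun g => ⟨(g.1 : G), (hfs _ _).mpr fun a ha => ?_⟩
        invFun := fun g => ⟨⟨(g : G), (hfs _ _).mpr fun a ha =>
          (hfs _ _).mp g.2 a (Finset.mem_insert_of_mem ha)⟩,
          (hfs _ _).mp g.2 w (Finset.mem_insert_self _ _)⟩
        left_inv := fun g => rfl
        right_inv := fun g => rfl }
    rcases Finset.mem_insert.mp ha with rfl | ha
    · exact g.2
    · exact (hfs _ _).mp g.1.2 a ha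
  have hm : 0 < m := by
    obtain ⟨t, -, ht⟩ := Finset.exists_subset_card_eq (s := (Finset.univ : Finset α)) (by simpa using hkn)
    rw [← hkm t ht]; exact Nat.card_pos
  have hdvd : m ∣ l := by
    have hsx : s.card + 1 < k := by omega
    obtain ⟨w, hw⟩ : ∃ w, w ∉ insert x s := by
      by_contra hall
      simp only [not_exists, not_not] at hall
      have := Finset.card_le_card (fun a (_ : a ∈ Finset.univ) => hall a)
      rw [Finset.card_univ, hins _ _ hx] at this; omega
    rw [← hst x hx w hw, ← hkm1 (insert x s) (by rw [hins _ _ hx]; omega)]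
    exact Subgroup.card_subgroup_dvd_card _
  obtain ⟨r, hr⟩ := hdvd
  have hr1 : 1 < r := by
    rcases Nat.lt_or_ge 1 r with h | h
    · exact h
    exfalso
    interval_cases r
    · simp at hr; omega
    obtain ⟨t, -, ht⟩ := Finset.exists_subset_card_eq (s := (Finset.univ : Finset α))
      (n := k - 1) (by simp; omega)
    have hK := hkm1 t ht
    have hbot : fixingSubgroup G (t : Set α) = ⊥ := by
      rw [Subgroup.eq_bot_iff_forall]
      intro g hg
      apply Subtype.ext; apply Equiv.ext; intro w
      by_cases hw : w ∈ t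
      · exact (hfs _ _).mp hg w hw
      have hc2 := hkm (insert w t) (by rw [hins _ _ hw]; omega)
      have heq : fixingSubgroup G ((insert w t : Finset α) : Set α) = fixingSubgroup G (t : Set α) :=
        Subgroup.eq_of_le_of_card_ge (fixingSubgroup_antitone G α (by simp)) (by rw [hK, hc2]; omega)
      rw [← heq] at hg
      exact (hfs _ _).mp hg w (Finset.mem_insert_self _ _)
    rw [hbot, Subgroup.card_bot] at hK
    omega
  have hCinv : ∀ g : H, ∀ z ∈ ((↑s : Set α)ᶜ), g • z ∈ ((↑s : Set α)ᶜ) := by
    intro g z hz hgz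
    apply hz
    have e : g • z = z := smul_left_cancel (g : G) ((hfs _ _).mp g.2 _ hgz)
    rwa [e] at hgz
  obtain ⟨g, hg⟩ := CfsgLib.PermSmall.exists_smul_eq_of_orbit_congr (G := H)
    hr1 (↑s : Set α)ᶜ hCinv (by
      intro z hz S hS hzS hinv
      refine CfsgLib.PermSmall.dvd_ncard_of_stabilizer_card
        (G := fixingSubgroup G ((insert z s : Finset α) : Set α)) hm
        (by rw [hkm1 _ (by rw [hins _ _ hz]; omega), hr, mul_comm]) S ?_ ?_
      · intro q w hw
        exact hinv ⟨(q : G), (hfs _ _).mpr fun a ha => (hfs _ _).mp q.2 a (Finset.mem_insert_of_mem ha)⟩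
          ((hfs _ _).mp q.2 z (Finset.mem_insert_self _ _)) w hw
      · intro w hw
        refine hst z hz w ?_
        rw [Finset.mem_insert]
        rintro (rfl | e)
        · exact hzS hw
        · exact hS hw e) (x := x) (y := y) hx hy
  exact ⟨g, (hfs _ _).mp g.2, hg⟩

end Cfsg.Agent.S0744
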