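import Cfsg.Statements.S5560
import Cfsg.Agent.Lib.Involutions.BrauerSuzuki
import Cfsg.Agent.Lib.Involutions.Isolated
-- import your own Cfsg.Agent.* helpers here

set_option autoImplicit false
open Cfsg
open scoped Pointwise

namespace Cfsg.Agent.S5560

/-- A Z*-type result for an odd prime p. Let G be a finite group and d an involution of G such that the product of any two conjugates of d has order a power of p. Then the product of any two conjugates of d lies in the largest normal p-subgroup O_p(G); in other words the conjugacy class of d lies in the coset O_p(G)d, and d is central modulo O_p(G). -/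
theorem result {G : Type*} [Group G] [Finite G] {p : ℕ} (hp : p.Prime) (hp2 : p ≠ 2)
    (d : G) (hd : orderOf d = 2)
    (hprod : ∀ a ∈ conjugatesOf d, ∀ b ∈ conjugatesOf d, ∃ k : ℕ, orderOf (a * b) = p ^ k) :
    ∀ a ∈ conjugatesOf d, ∀ b ∈ conjugatesOf d, a * b ∈ Cfsg.pCore p G := by
  haveI : Fact p.Prime := ⟨hp⟩
  have hdd : d * d = 1 := CfsgLib.Involutions.mul_self_eq_one hd
  have hdi : d⁻¹ = d := CfsgLib.Involutions.inv_eq_self_of_involution hd
  have hodd : ∀ a ∈ conjugatesOf d, ∀ b ∈ conjugatesOf d, Odd (orderOf (a * b)) := by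
    intro a ha b hb
    obtain ⟨k, hk⟩ := hprod a ha b hb
    rw [hk]; exact (hp.odd_of_ne_two hp2).pow
  have hdmem : d ∈ conjugatesOf d := mem_conjugatesOf_self
  have hiso : Cfsg.IsIsolatedInvolution d := by
    refine ⟨hd, fun g hg => ?_⟩
    set e := g * d * g⁻¹ with he
    have h2 : (d * e) ^ 2 = 1 := by
      rw [hg.mul_pow, pow_two, pow_two, hdd, one_mul,
        CfsgLib.Involutions.mul_self_eq_one (show orderOf e = 2 by rw [he, CfsgLib.Involutions.orderOf_conj_eq]; exact hd)]
    have h1 := Nat.eq_one_of_dvd_coprimes (Nat.coprime_two_right.mpr (hodd d hdmem e (isConj_iff.mpr ⟨g, rfl⟩)))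
      dvd_rfl (orderOf_dvd_of_pow_eq_one h2)
    rw [orderOf_eq_one_iff, mul_eq_one_iff_inv_eq, hdi] at h1
    exact h1.symm
  set O := Cfsg.pPrimeCore 2 G with hO
  -- the subgroup generated by the products
  set s : Set G := {x | ∃ a ∈ conjugatesOf d, ∃ b ∈ conjugatesOf d, x = a * b} with hs
  set M := Subgroup.closure s with hM
  have hMn : M.Normal := by
    refine ⟨fun n hn g => ?_⟩
    have hle : M.map (MulAut.conj g).toMonoidHom ≤ M := by
      rw [hM, MonoidHom.map_closure, Subgroup.closure_le]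
      rintro _ ⟨_, ⟨a, ha, b, hb, rfl⟩, rfl⟩
      exact Subgroup.subset_closure ⟨g * a * g⁻¹, ha.trans (isConj_iff.mpr ⟨g, rfl⟩), g * b * g⁻¹,
        hb.trans (isConj_iff.mpr ⟨g, rfl⟩), by simp [mul_assoc]⟩
    exact hle ⟨n, hn, rfl⟩
  have hMO : M ≤ O := by
    rw [hM, Subgroup.closure_le]
    rintro x ⟨a, ha, b, hb, rfl⟩
    obtain ⟨g, rfl⟩ := isConj_iff.mp ha
    obtain ⟨h, rfl⟩ := isConj_iff.mp hb
    have h1 := O.mul_mem (CfsgLib.Involutions.zstar G d hiso g) (O.inv_mem (CfsgLib.Involutions.zstar G d hiso h))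
    rw [show g * d * g⁻¹ * (h * d * h⁻¹) = g * d * g⁻¹ * d⁻¹ * (h * d * h⁻¹ * d⁻¹)⁻¹ by
      simp [mul_assoc, hdi, ← mul_assoc d d, hdd]]
    exact h1
  have hModd : Odd (Nat.card M) :=
    Odd.of_dvd_nat (Nat.coprime_two_right.mp CfsgLib.PCore.pPrimeCore_coprime) (Subgroup.card_dvd_of_le hMO)
  set α : MulAut M := MulAut.conjNormal d with hα
  have hαval : ∀ x : M, (α x : G) = d * x * d := by
    intro x; rw [hα, MulAut.conjNormal_apply, hdi]
  have hα2 : ∀ x : M, α (α x) = x := fun x => Subtype.ext (by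
    rw [hαval, hαval]; simp only [mul_assoc, hdd, mul_one]; rw [← mul_assoc d d, hdd, one_mul])
  -- inverted elements have `p`-power order
  have hI : ∀ y : M, α y = y⁻¹ → ∃ k, orderOf y = p ^ k := by
    intro y hy
    obtain ⟨w, hw⟩ := ((Nat.Coprime.pow_left_bijective (G := M) (n := 2)
      (Nat.coprime_two_right.mpr hModd)).2 y)
    dsimp only at hw
    have hwd : α w = w⁻¹ := by
      refine (Nat.Coprime.pow_left_bijective (G := M) (n := 2) (Nat.coprime_two_right.mpr hModd)).1 ?_
      simp only [← map_pow, inv_pow] at hw ⊢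
      rw [hw, hy]
    have h1 : (y : G) = d * ((w : G)⁻¹ * d * w) := by
      have h2 : d * (w : G)⁻¹ * d = (w : G) := by
        rw [← Subgroup.coe_inv, ← hwd, hαval]
        simp only [mul_assoc, hdd, mul_one]; rw [← mul_assoc d d, hdd, one_mul]
      calc (y : G) = (w : G) * w := by rw [← hw, ← Subgroup.coe_mul, pow_two]
        _ = d * (w : G)⁻¹ * d * w := by rw [h2]
        _ = d * ((w : G)⁻¹ * d * w) := by group
    obtain ⟨k, hk⟩ := hprod d hdmem _ (isConj_iff.mpr ⟨(w : G)⁻¹, by rw [inv_inv]⟩ :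
      (w : G)⁻¹ * d * w ∈ conjugatesOf d)
    exact ⟨k, by rw [← Subgroup.orderOf_coe, h1, hk]⟩
  have hinv : ∀ y : M, α (α y * y⁻¹) = (α y * y⁻¹)⁻¹ := by
    intro y; rw [map_mul, map_inv, hα2, mul_inv_rev, inv_inv]
  -- every prime has an invariant Sylow subgroup
  have hsyl : ∀ (q : ℕ) [Fact q.Prime], ∃ Q : Sylow q M, ∀ x ∈ Q, α x ∈ Q := by
    intro q _
    have := Fintype.ofFinite (Sylow q M)
    set σ : Equiv.Perm (Sylow q M) := MulAction.toPerm α with hσ
    have hα1 : α * α = 1 := MulEquiv.ext fun x => hα2 x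
    have hσ2 : σ ^ 2 ^ 1 = 1 := by
      refine Equiv.ext fun Q => ?_
      rw [pow_one, pow_two, Equiv.Perm.mul_apply]
      show α • α • Q = Q
      rw [smul_smul, hα1, one_smul]
    have hnd : ¬ 2 ∣ Fintype.card (Sylow q M) := by
      intro h
      rw [← Nat.card_eq_fintype_card] at h
      have h' := h.trans ((Nat.card_congr (Sylow.equivQuotientNormalizer (default : Sylow q M))).dvd.trans
        (Subgroup.index_dvd_card _))
      exact (Nat.not_even_iff_odd.mpr hModd) (even_iff_two_dvd.mpr h')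
    obtain ⟨Q, hQ⟩ := Equiv.Perm.exists_fixed_point_of_prime hnd hσ2
    refine ⟨Q, fun x hx => ?_⟩
    have h1 : α • x ∈ α • (Q : Subgroup M) := Subgroup.smul_mem_pointwise_smul x α _ hx
    rw [← Sylow.pointwise_smul_def] at h1
    have hQ' : α • Q = Q := hQ
    rw [hQ'] at h1
    exact h1
  set C : Subgroup M := (Subgroup.centralizer ({d} : Set G)).subgroupOf M with hC
  have hCmem : ∀ y : M, y ∈ C ↔ α y = y := by
    intro y
    rw [hC, Subgroup.mem_subgroupOf, Subgroup.mem_centralizer_singleton_iff, Subtype.ext_iff, hαval]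
    constructor
    · intro h; rw [mul_assoc, h, ← mul_assoc, hdd, one_mul]
    · intro h
      calc (y : G) * d = d * (y : G) * d * d := by rw [h]
        _ = d * (y : G) := by rw [mul_assoc, hdd, mul_one]
  obtain ⟨P, hP⟩ := hsyl p
  -- the index of the centralizer of `d` is a power of `p`
  have hqC : ∀ q : ℕ, q.Prime → q ≠ p → ¬ q ∣ C.index := by
    intro q hq hqp hdvd
    haveI := Fact.mk hq
    obtain ⟨Q, hQ⟩ := hsyl q
    have hQC : (Q : Subgroup M) ≤ C := by
      intro y hy
      rw [hCmem]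
      obtain ⟨k, hk⟩ := hI _ (hinv y)
      obtain ⟨j, hj⟩ := (IsPGroup.iff_orderOf.mp Q.2) ⟨α y * y⁻¹, Q.1.mul_mem (hQ y hy) (Q.1.inv_mem hy)⟩
      rw [Subgroup.orderOf_mk] at hj
      have h1 := Nat.eq_one_of_dvd_coprimes ((Nat.coprime_primes hq hp).mpr hqp |>.pow j k) hj.dvd hk.dvd
      rwa [orderOf_eq_one_iff, mul_inv_eq_one] at h1
    exact Q.not_dvd_index (hdvd.trans (Subgroup.index_dvd_of_le hQC))
  have hidx : ∃ k, C.index = p ^ k :=
    ⟨_, Nat.eq_prime_pow_of_unique_prime_dvd Subgroup.index_ne_zero_of_finite fun {q} hq hd' => by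
      by_contra hne; exact hqC q hq hne hd'⟩
  -- so that `M` is the product of `P` and the centralizer
  have hPC : ∀ y : M, ∃ x ∈ P, x⁻¹ * y ∈ C := by
    obtain ⟨k, hk⟩ := hidx
    let f : (P : Subgroup M) ⧸ C.subgroupOf (P : Subgroup M) → M ⧸ C :=
      Quotient.map' Subtype.val fun a b hab => by
        rw [QuotientGroup.leftRel_apply] at hab ⊢
        exact hab
    have hf : Function.Injective f := by
      intro a b
      induction a using QuotientGroup.induction_on
      induction b using QuotientGroup.induction_on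
      intro hab
      exact QuotientGroup.eq.mpr (QuotientGroup.eq.mp hab : _ ∈ C)
    have hle : Nat.card (M ⧸ C) ≤ Nat.card ((P : Subgroup M) ⧸ C.subgroupOf (P : Subgroup M)) := by
      obtain ⟨a, ha⟩ := IsPGroup.iff_card.mp P.2
      set D := C.subgroupOf (P : Subgroup M) with hD
      obtain ⟨b, hb⟩ := IsPGroup.iff_card.mp (P.2.to_subgroup D)
      have h1 : Nat.card D * D.index = p ^ a := ha ▸ D.card_mul_index
      have h2 : Nat.card D ∣ Nat.card C := by
        refine Dvd.dvd.trans ?_ (Subgroup.card_dvd_of_le (inf_le_left : C ⊓ (P : Subgroup M) ≤ C))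
        exact (Nat.card_congr (Subgroup.subgroupOfEquivOfLe
          (inf_le_right : C ⊓ (P : Subgroup M) ≤ (P : Subgroup M))).toEquiv) ▸ (by rw [hD, Subgroup.inf_subgroupOf_right])
      have h3 : p ^ b * p ^ k ∣ Nat.card M := by
        rw [← C.card_mul_index, hk]; exact mul_dvd_mul_right (hb ▸ h2) _
      have h4 : p ^ b * p ^ k ∣ p ^ a := by
        rw [← pow_add, ← ha, P.card_eq_multiplicity]
        rw [← pow_add] at h3
        exact pow_dvd_pow p ((hp.pow_dvd_iff_le_factorization Nat.card_pos.ne').mp h3)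
      rw [← Subgroup.index_eq_card, ← Subgroup.index_eq_card, hk]
      refine Nat.le_of_mul_le_mul_left ?_ (pow_pos hp.pos b)
      rw [← hb, h1, hb]
      exact Nat.le_of_dvd (pow_pos hp.pos a) h4
    intro y
    obtain ⟨q, hq⟩ := (hf.bijective_of_nat_card_le hle).2 (QuotientGroup.mk y)
    induction q using QuotientGroup.induction_on with
    | H x => exact ⟨x, x.2, QuotientGroup.eq.mp hq⟩
  have hIP : ∀ y : M, α y = y⁻¹ → y ∈ P := by
    intro y hy
    obtain ⟨w, hw⟩ := ((Nat.Coprime.pow_left_bijective (G := M) (n := 2)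
      (Nat.coprime_two_right.mpr hModd)).2 y)
    dsimp only at hw
    have hwd : α w = w⁻¹ := by
      refine (Nat.Coprime.pow_left_bijective (G := M) (n := 2) (Nat.coprime_two_right.mpr hModd)).1 ?_
      simp only [← map_pow, inv_pow] at hw ⊢
      rw [hw, hy]
    obtain ⟨x, hx, hc⟩ := hPC w
    rw [hCmem, map_mul, map_inv, hwd] at hc
    have h1 : y = x * (α x)⁻¹ := by
      rw [← hw]
      calc w ^ 2 = x * (x⁻¹ * w) * w := by rw [mul_inv_cancel_left, pow_two]
        _ = x * ((α x)⁻¹ * w⁻¹) * w := by rw [hc]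
        _ = x * (α x)⁻¹ := by group
    rw [h1]
    exact P.1.mul_mem hx (P.1.inv_mem (hP x hx))
  have hMP : M ≤ (P : Subgroup M).map M.subtype := by
    conv_lhs => rw [hM]
    rw [Subgroup.closure_le]
    rintro x ⟨a, ha, b, hb, rfl⟩
    have key : ∀ u ∈ conjugatesOf d, u * d ∈ (P : Subgroup M).map M.subtype := by
      intro u hu
      have hum : u * d ∈ M := Subgroup.subset_closure ⟨u, hu, d, hdmem, rfl⟩
      refine ⟨⟨u * d, hum⟩, hIP _ (Subtype.ext ?_), rfl⟩
      have hui : u⁻¹ = u := CfsgLib.Involutions.inv_eq_self_of_involution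
        ((CfsgLib.Involutions.orderOf_eq_of_isConj hu).trans hd)
      rw [hαval, Subgroup.coe_inv]
      show d * (u * d) * d = (u * d)⁻¹
      rw [mul_inv_rev, hdi, hui, mul_assoc, mul_assoc, hdd, mul_one]
    have h1 := Subgroup.mul_mem _ (key a ha) (Subgroup.inv_mem _ (key b hb))
    rwa [mul_inv_rev, hdi, CfsgLib.Involutions.inv_eq_self_of_involution
      ((CfsgLib.Involutions.orderOf_eq_of_isConj hb).trans hd), mul_assoc, ← mul_assoc d d, hdd, one_mul] at h1
  have hMp : IsPGroup p M := (P.2.map M.subtype).to_le hMP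
  exact fun a ha b hb => CfsgLib.PCore.le_pCore hMn hMp (Subgroup.subset_closure ⟨a, ha, b, hb, rfl⟩)


end Cfsg.Agent.S5560
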