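import Mathlib
import Cfsg.Statements.S0447
import Cfsg.Agent.Lib.Sporadic.SpinEight
import Cfsg.Agent.Lib.Sporadic.DoubleCover

set_option autoImplicit false
open Cfsg

namespace Cfsg.Agent.S0447

open CfsgLib.Sporadic

section partOne

variable {n : ℕ}

/-- The involution `(0 1)(2 3)`. -/
private def dt (hn : 4 ≤ n) : Equiv.Perm (Fin n) :=
  Equiv.swap ⟨0, by omega⟩ ⟨1, by omega⟩ * Equiv.swap ⟨2, by omega⟩ ⟨3, by omega⟩

private lemma isConj_dt (hn : 4 ≤ n) (hn' : n ≤ 7) {x : alternatingGroup (Fin n)}
    (hx : orderOf x = 2) :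
    ∃ g : alternatingGroup (Fin n), (g : Equiv.Perm (Fin n)) * dt hn * (g : Equiv.Perm (Fin n))⁻¹ = x := by
  have hord : orderOf (x : Equiv.Perm (Fin n)) = 2 := by rw [Subgroup.orderOf_coe, hx]
  obtain ⟨k, hk⟩ := Equiv.Perm.cycleType_prime_order (σ := (x : Equiv.Perm (Fin n)))
    (by rw [hord]; exact Nat.prime_two)
  rw [hord] at hk
  have hsum := Equiv.Perm.sum_cycleType (x : Equiv.Perm (Fin n))
  have hle : (x : Equiv.Perm (Fin n)).support.card ≤ n := by
    simpa using (x : Equiv.Perm (Fin n)).support.card_le_univ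
  have hsgn : Equiv.Perm.sign (x : Equiv.Perm (Fin n)) = 1 := x.2
  rw [Equiv.Perm.sign_of_cycleType, hk] at hsgn
  rw [hk, Multiset.sum_replicate, smul_eq_mul] at hsum
  simp only [Multiset.sum_replicate, Multiset.card_replicate, smul_eq_mul] at hsgn
  have hk2 : k = 0 ∨ k = 1 ∨ k = 2 := by omega
  have hk1 : k = 1 := by
    rcases hk2 with rfl | rfl | rfl
    · exact absurd hsgn (by decide)
    · rfl
    · exact absurd hsgn (by decide)
  subst hk1
  have h01 : (⟨0, by omega⟩ : Fin n) ≠ ⟨1, by omega⟩ := by simp [Fin.ext_iff]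
  have h23 : (⟨2, by omega⟩ : Fin n) ≠ ⟨3, by omega⟩ := by simp [Fin.ext_iff]
  have hdisj : Equiv.Perm.Disjoint (Equiv.swap (⟨0, by omega⟩ : Fin n) ⟨1, by omega⟩)
      (Equiv.swap (⟨2, by omega⟩ : Fin n) ⟨3, by omega⟩) := by
    intro y
    simp only [Equiv.swap_apply_def, Fin.ext_iff]
    split_ifs <;> simp_all
  have hdt : (dt hn).cycleType = Multiset.replicate (1 + 1) 2 := by
    unfold dt
    rw [hdisj.cycleType_mul, Equiv.Perm.isSwap_iff_cycleType.mp ⟨_, _, h01, rfl⟩,
      Equiv.Perm.isSwap_iff_cycleType.mp ⟨_, _, h23, rfl⟩]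
    rfl
  obtain ⟨g, hg⟩ := isConj_iff.mp
    (Equiv.Perm.isConj_iff_cycleType_eq.mpr (hdt.trans hk.symm))
  rcases Int.units_eq_one_or (Equiv.Perm.sign g) with h | h
  · exact ⟨⟨g, h⟩, hg⟩
  · refine ⟨⟨g * Equiv.swap ⟨0, by omega⟩ ⟨1, by omega⟩, ?_⟩, ?_⟩
    · rw [Equiv.Perm.mem_alternatingGroup, Equiv.Perm.sign_mul, h, Equiv.Perm.sign_swap h01]
      rfl
    · rw [← hg]
      show g * _ * dt hn * (g * _)⁻¹ = _
      have hc : Equiv.swap (⟨0, by omega⟩ : Fin n) ⟨1, by omega⟩ * dt hn *
          (Equiv.swap (⟨0, by omega⟩ : Fin n) ⟨1, by omega⟩)⁻¹ = dt hn := by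
        unfold dt
        rw [Equiv.swap_inv, ← mul_assoc, Equiv.swap_mul_self, one_mul]
        exact hdisj.commute.eq.symm
      conv_rhs => rw [← hc]
      group

private lemma index_odd {K : Type*} [Group K] [Finite K] [DecidableEq K] {a b : K} {m N : ℕ}
    (hm : 0 < m) (hK : Nat.card K = N) (ha : a ^ m = 1) (hb : b * b = 1) (hba : b * a * (b * a) = 1)
    (hc : ((Finset.range m ×ˢ Finset.range 2).image fun p => a ^ p.1 * b ^ p.2).card = 2 * m)
    (hN : ∀ i, 2 * m * i = N → ¬ 2 ∣ i) :
    ¬ 2 ∣ (Subgroup.closure ({a, b} : Set K)).index ∧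
      ∀ i < m, ∀ j < 2, a ^ i * b ^ j = 1 → i = 0 ∧ j = 0 := by
  have hset : (Subgroup.closure ({a, b} : Set K) : Set K) =
      ↑((Finset.range m ×ˢ Finset.range 2).image fun p => a ^ p.1 * b ^ p.2) := by
    ext x
    simp only [SetLike.mem_coe, Finset.coe_image, Set.mem_image, Finset.mem_product,
      Finset.mem_range, Prod.exists]
    constructor
    · intro hx
      obtain ⟨i, hi, j, hj, rfl⟩ := DoubleCover.mem_closure_pair hm ha hb hba hx
      exact ⟨i, j, ⟨hi, hj⟩, rfl⟩
    · rintro ⟨i, j, -, rfl⟩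
      exact mul_mem (pow_mem (Subgroup.subset_closure (by simp)) i)
        (pow_mem (Subgroup.subset_closure (by simp)) j)
  have hcard : Nat.card (Subgroup.closure ({a, b} : Set K)) = 2 * m := by
    rw [← hc]
    exact (Nat.card_coe_set_eq _).trans (by rw [hset, Set.ncard_coe_finset])
  refine ⟨hN _ ?_, ?_⟩
  · rw [← hK, ← hcard, Subgroup.card_mul_index]
  · intro i hi j hj hij
    have hinj := Finset.card_image_iff.mp (hc.trans (by simp [mul_comm]))
    have h0 : ((i, j) : ℕ × ℕ) = (0, 0) :=
      hinj (by simp [hi, hj]) (by simp [hm]) (by simpa using hij)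
    exact Prod.ext_iff.mp h0

private lemma sylow_data : ∀ n, 4 ≤ n → n ≤ 7 → ∃ (a b : alternatingGroup (Fin n)) (m : ℕ),
    0 < m ∧ orderOf a = m ∧ orderOf b = 2 ∧ orderOf (b * a) = 2 ∧
      (m = 2 ∨ (m = 4 ∧ orderOf (a ^ 2) = 2)) ∧
      (∀ i < m, ∀ j < 2, a ^ i * b ^ j = 1 → i = 0 ∧ j = 0) ∧
      ¬ 2 ∣ (Subgroup.closure ({a, b} : Set (alternatingGroup (Fin n)))).index := by
  intro n h4 h7
  have card_alt : ∀ n : ℕ, 2 ≤ n → Nat.card (alternatingGroup (Fin n)) = n.factorial / 2 := by
    intro n hn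
    haveI : Nontrivial (Fin n) := Fin.nontrivial_iff_two_le.mpr hn
    rw [nat_card_alternatingGroup, Nat.card_fin]
  have two : ∀ {n : ℕ} {x : alternatingGroup (Fin n)}, x ^ 2 = 1 → x ≠ 1 → orderOf x = 2 :=
    fun h h' => orderOf_eq_prime h h'
  interval_cases n
  · let a : alternatingGroup (Fin 4) := ⟨Equiv.swap 0 1 * Equiv.swap 2 3, Equiv.Perm.mem_alternatingGroup.mpr (by decide +kernel)⟩
    let b : alternatingGroup (Fin 4) := ⟨Equiv.swap 0 2 * Equiv.swap 1 3, Equiv.Perm.mem_alternatingGroup.mpr (by decide +kernel)⟩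
    obtain ⟨h1, h2⟩ := index_odd (a := a) (b := b) (m := 2) two_pos (card_alt 4 (by norm_num))
      (by decide +kernel) (by decide +kernel) (by decide +kernel) (by decide +kernel)
      (fun i hi => by simp [Nat.factorial] at hi; omega)
    exact ⟨a, b, 2, two_pos, two (by decide +kernel) (by decide +kernel),
      two (by decide +kernel) (by decide +kernel), two (by decide +kernel) (by decide +kernel),
      Or.inl rfl, h2, h1⟩
  · let a : alternatingGroup (Fin 5) := ⟨Equiv.swap 0 1 * Equiv.swap 2 3, Equiv.Perm.mem_alternatingGroup.mpr (by decide +kernel)⟩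
    let b : alternatingGroup (Fin 5) := ⟨Equiv.swap 0 2 * Equiv.swap 1 3, Equiv.Perm.mem_alternatingGroup.mpr (by decide +kernel)⟩
    obtain ⟨h1, h2⟩ := index_odd (a := a) (b := b) (m := 2) two_pos (card_alt 5 (by norm_num))
      (by decide +kernel) (by decide +kernel) (by decide +kernel) (by decide +kernel)
      (fun i hi => by simp [Nat.factorial] at hi; omega)
    exact ⟨a, b, 2, two_pos, two (by decide +kernel) (by decide +kernel),
      two (by decide +kernel) (by decide +kernel), two (by decide +kernel) (by decide +kernel),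
      Or.inl rfl, h2, h1⟩
  · let a : alternatingGroup (Fin 6) :=
      ⟨Equiv.swap 0 3 * Equiv.swap 0 2 * Equiv.swap 0 1 * Equiv.swap 4 5, Equiv.Perm.mem_alternatingGroup.mpr (by decide +kernel)⟩
    let b : alternatingGroup (Fin 6) := ⟨Equiv.swap 0 2 * Equiv.swap 4 5, Equiv.Perm.mem_alternatingGroup.mpr (by decide +kernel)⟩
    obtain ⟨h1, h2⟩ := index_odd (a := a) (b := b) (m := 4) (by norm_num) (card_alt 6 (by norm_num))
      (by decide +kernel) (by decide +kernel) (by decide +kernel) (by decide +kernel)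
      (fun i hi => by simp [Nat.factorial] at hi; omega)
    exact ⟨a, b, 4, by norm_num,
      (orderOf_eq_prime_pow (p := 2) (n := 1) (by decide +kernel) (by decide +kernel) : _),
      two (by decide +kernel) (by decide +kernel), two (by decide +kernel) (by decide +kernel),
      Or.inr ⟨rfl, two (by decide +kernel) (by decide +kernel)⟩, h2, h1⟩
  · let a : alternatingGroup (Fin 7) :=
      ⟨Equiv.swap 0 3 * Equiv.swap 0 2 * Equiv.swap 0 1 * Equiv.swap 4 5, Equiv.Perm.mem_alternatingGroup.mpr (by decide +kernel)⟩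
    let b : alternatingGroup (Fin 7) := ⟨Equiv.swap 0 2 * Equiv.swap 4 5, Equiv.Perm.mem_alternatingGroup.mpr (by decide +kernel)⟩
    obtain ⟨h1, h2⟩ := index_odd (a := a) (b := b) (m := 4) (by norm_num) (card_alt 7 (by norm_num))
      (by decide +kernel) (by decide +kernel) (by decide +kernel) (by decide +kernel)
      (fun i hi => by simp [Nat.factorial] at hi; omega)
    exact ⟨a, b, 4, by norm_num,
      (orderOf_eq_prime_pow (p := 2) (n := 1) (by decide +kernel) (by decide +kernel) : _),
      two (by decide +kernel) (by decide +kernel), two (by decide +kernel) (by decide +kernel),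
      Or.inr ⟨rfl, two (by decide +kernel) (by decide +kernel)⟩, h2, h1⟩

private lemma partOne (n : ℕ) (H : Type) [Group H] [Finite H] (hn : n ≤ 7)
    (hH : Cfsg.IsNonsplitDoubleCover H (alternatingGroup (Fin n))) (x y : H)
    (hx : orderOf x = 2) (hy : orderOf y = 2) : x = y := by
  obtain ⟨hZ, ⟨e⟩, hns⟩ := hH
  rcases Nat.lt_or_ge n 4 with h4 | h4
  · -- the quotient is cyclic, so `H` is abelian and the centre is all of `H`
    exfalso
    haveI : IsCyclic (alternatingGroup (Fin n)) := by
      interval_cases n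
      · exact isCyclic_of_subsingleton
      · exact isCyclic_of_subsingleton
      · haveI : Subsingleton (alternatingGroup (Fin 2)) :=
          (Nat.card_eq_one_iff_unique.mp (by
            rw [nat_card_alternatingGroup, Nat.card_fin]; rfl)).1
        exact isCyclic_of_subsingleton
      · exact isCyclic_of_prime_card (p := 3) (by rw [nat_card_alternatingGroup, Nat.card_fin]; rfl)
    haveI : IsCyclic (H ⧸ Subgroup.center H) := isCyclic_of_surjective e.symm e.symm.surjective
    have hab : ∀ a b : H, a * b = b * a :=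
      commutative_of_cyclic_center_quotient (QuotientGroup.mk' (Subgroup.center H))
        (QuotientGroup.ker_mk' _).le
    have htop : Subgroup.center H = ⊤ := top_le_iff.mp fun a _ =>
      Subgroup.mem_center_iff.mpr fun b => hab b a
    exact hns ⊥ (htop ▸ Subgroup.isComplement'_top_bot)
  classical
  set f : H →* alternatingGroup (Fin n) :=
    e.toMonoidHom.comp (QuotientGroup.mk' (Subgroup.center H)) with hf
  have hsurj : Function.Surjective f := e.surjective.comp (QuotientGroup.mk'_surjective _)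
  have hker : f.ker = Subgroup.center H := by
    ext g; simp [hf, MonoidHom.mem_ker]
  rw [Nat.card_eq_two_iff' (1 : Subgroup.center H)] at hZ
  obtain ⟨⟨z, hzZ⟩, hz1, huniq⟩ := hZ
  have hz : z ≠ 1 := fun h => hz1 (Subtype.ext h)
  have hker' : ∀ g, f g = 1 ↔ g = 1 ∨ g = z := by
    intro g
    rw [← MonoidHom.mem_ker, hker]
    refine ⟨fun hg => ?_, ?_⟩
    · by_cases h : g = 1
      · exact Or.inl h
      · exact Or.inr (congrArg Subtype.val (huniq ⟨g, hg⟩ fun h' => h (congrArg Subtype.val h')))
    · rintro (rfl | rfl)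
      · exact one_mem _
      · exact hzZ
  have hz2 : z * z = 1 := by
    rcases (hker' (z * z)).mp (by rw [map_mul, (hker' z).mpr (Or.inr rfl), one_mul]) with h | h
    · exact h
    · exact absurd (mul_left_cancel (h.trans (mul_one z).symm)) hz
  -- every involution is central
  suffices key : ∀ w : H, orderOf w = 2 → w = z by rw [key x hx, key y hy]
  intro w hw
  have hww : w * w = 1 := by
    have := pow_orderOf_eq_one w; rwa [hw, pow_two] at this
  have hw1 : w ≠ 1 := fun h => by simp [h] at hw
  by_contra hwz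
  have hfw : orderOf (f w) = 2 := orderOf_eq_prime (by rw [pow_two, ← map_mul, hww, map_one])
    fun h => by rcases (hker' w).mp h with h | h <;> contradiction
  have hinv : ∀ g : H, orderOf (f g) = 2 → g * g = 1 := by
    intro g hg
    obtain ⟨u, hu⟩ := isConj_dt h4 hn hfw
    obtain ⟨v, hv⟩ := isConj_dt h4 hn hg
    obtain ⟨c, hc⟩ := hsurj (v * u⁻¹)
    have h1 : f (c * w * c⁻¹) = f g := by
      rw [map_mul, map_mul, map_inv, hc]
      apply Subtype.ext
      simp only [Subgroup.coe_mul, Subgroup.coe_inv]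
      rw [← hu, ← hv]; group
    have h2 : f (g⁻¹ * (c * w * c⁻¹)) = 1 := by rw [map_mul, h1, map_inv, inv_mul_cancel]
    have hzc : ∀ a : H, a * z = z * a := fun a => Subgroup.mem_center_iff.mp hzZ a
    have hcw : (c * w * c⁻¹) * (c * w * c⁻¹) = 1 := by
      calc (c * w * c⁻¹) * (c * w * c⁻¹) = c * (w * w) * c⁻¹ := by group
        _ = 1 := by rw [hww]; group
    rcases (hker' _).mp h2 with h | h
    · rwa [inv_mul_eq_one.mp h]
    · have h3 : g * z = c * w * c⁻¹ := by rw [← h]; group
      rw [← h3, mul_assoc, ← mul_assoc z, ← hzc g, mul_assoc g z z, hz2, mul_one] at hcw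
      exact hcw
  obtain ⟨a, b, m, hm, ha, hb, hba, hhalf, hinj, hodd⟩ := sylow_data n h4 hn
  obtain ⟨L, hL⟩ := DoubleCover.exists_complement hsurj hz hker' hinv hm ha hb hba hhalf hinj hodd
  exact hns L (hker ▸ hL)

end partOne

section partTwo

open SpinEight

private lemma center_eq : Subgroup.center cover = proj.ker := by
  ext g
  refine ⟨fun hg => ?_, fun hg => ?_⟩
  · have hc : proj g ∈ Subgroup.center (alternatingGroup (Fin 8)) :=
      Subgroup.mem_center_iff.mpr fun y => by
        obtain ⟨h, rfl⟩ := proj_surjective y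
        rw [← map_mul, ← map_mul, Subgroup.mem_center_iff.mp hg h]
    haveI : IsSimpleGroup (alternatingGroup (Fin 8)) :=
      alternatingGroup.isSimpleGroup (by simp)
    rcases IsSimpleGroup.eq_bot_or_eq_top_of_normal (Subgroup.center (alternatingGroup (Fin 8)))
      inferInstance with h | h
    · rw [h, Subgroup.mem_bot] at hc; exact hc
    · exfalso
      have h01 := swap_pair_mem (i := 0) (j := 1) (k := 2) (l := 3) (by decide) (by decide)
      have h12 := swap_pair_mem (i := 0) (j := 4) (k := 2) (l := 3) (by decide) (by decide)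
      have h' := Subgroup.mem_center_iff.mp
        (h ▸ Subgroup.mem_top (⟨_, h01⟩ : alternatingGroup (Fin 8))) ⟨_, h12⟩
      have h'' := congrArg (fun s : alternatingGroup (Fin 8) => (s : Equiv.Perm (Fin 8)) 0) h'
      simp [Equiv.swap_apply_def] at h''
  · rcases eq_of_proj_eq_one hg with rfl | rfl
    · exact one_mem _
    · refine Subgroup.mem_center_iff.mpr fun h => Subtype.ext (Prod.ext ?_ ?_)
      · exact Units.ext (by simp [negOne])
      · simp [negOne]

private lemma cover_nonsplit : Cfsg.IsNonsplitDoubleCover cover (alternatingGroup (Fin 8)) := by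
  refine ⟨?_, ⟨?_⟩, fun L hL => ?_⟩
  · rw [center_eq, Nat.card_eq_two_iff]
    refine ⟨1, ⟨negOne, proj_negOne⟩, fun h => negOne_ne_one (congrArg Subtype.val h).symm, ?_⟩
    ext ⟨g, hg⟩
    simp only [Set.mem_insert_iff, Set.mem_singleton_iff, Set.mem_univ, iff_true]
    rcases eq_of_proj_eq_one hg with rfl | rfl
    · exact Or.inl rfl
    · exact Or.inr rfl
  · exact (QuotientGroup.quotientMulEquivOfEq center_eq).trans
      (QuotientGroup.quotientKerEquivOfSurjective proj proj_surjective)
  · rw [center_eq] at hL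
    let u : cover := ⟨_, lift_mem (i := 0) (j := 1) (k := 2) (l := 3) (by decide) (by decide)
      (swap_pair_mem (by decide) (by decide))⟩
    obtain ⟨⟨⟨kz, hkz⟩, ⟨l, hl⟩⟩, hkl, -⟩ := hL.existsUnique u
    change kz * l = u at hkl
    have hlu : proj l = proj u := by
      rw [← hkl, map_mul, MonoidHom.mem_ker.mp hkz, one_mul]
    have hll : l * l = 1 := by
      apply (Subgroup.disjoint_def.mp hL.disjoint) _ (mul_mem hl hl)
      rw [MonoidHom.mem_ker, map_mul, hlu, ← map_mul]
      show (u * u : cover).1.2 = 1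
      apply Subtype.ext
      decide +kernel
    have huu : u * u = negOne := by
      apply Subtype.ext
      refine Prod.ext (Units.ext ?_) (Subtype.ext (by decide +kernel))
      show tr 0 1 * tr 2 3 * (tr 0 1 * tr 2 3) = _
      simp only [negOne, Units.val_neg, Units.val_one]
      decide +kernel
    apply negOne_ne_one
    rw [← huu, ← hkl]
    rcases eq_of_proj_eq_one hkz with rfl | rfl
    · rw [one_mul, hll]
    · have hc : Commute l negOne :=
        Subgroup.mem_center_iff.mp (center_eq ▸ (proj_negOne : negOne ∈ proj.ker)) l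
      have h2 : negOne * negOne = 1 := Subtype.ext (Prod.ext (Units.ext (by simp [negOne]))
        (by simp [negOne]))
      rw [mul_assoc, ← mul_assoc l, hc.eq, mul_assoc negOne l l, hll, mul_one, h2]

private lemma cover_two_involutions :
    ∃ x y : cover, x ≠ y ∧ orderOf x = 2 ∧ orderOf y = 2 := by
  let v : cover := ⟨_, lift_mem (i := 0) (j := 1) (k := 2) (l := 3) (by decide) (by decide)
      (swap_pair_mem (by decide) (by decide))⟩ *
    ⟨_, lift_mem (i := 4) (j := 5) (k := 6) (l := 7) (by decide) (by decide)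
      (swap_pair_mem (by decide) (by decide))⟩
  have hv : (proj v : Equiv.Perm (Fin 8)) 0 = 1 := by decide +kernel
  refine ⟨negOne, v, fun h => ?_, orderOf_eq_prime ?_ negOne_ne_one, orderOf_eq_prime ?_ ?_⟩
  · rw [← h, proj_negOne] at hv; simp at hv
  · exact Subtype.ext (Prod.ext (Units.ext (by simp [pow_two, negOne])) (by simp [negOne]))
  · rw [pow_two]
    refine Subtype.ext (Prod.ext (Units.ext ?_) (Subtype.ext (by decide +kernel)))
    show tr 0 1 * tr 2 3 * (tr 4 5 * tr 6 7) * (tr 0 1 * tr 2 3 * (tr 4 5 * tr 6 7)) = 1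
    decide +kernel
  · intro h
    rw [h, map_one] at hv; simp at hv

end partTwo

/-- Involutions in double covers of alternating groups: for n ≤ 7, a finite non-split double cover of the alternating group of degree n has exactly one element of order 2 (the central one); for degree 8 there is a non-split double cover with two distinct involutions. -/
theorem result : (∀ (n : ℕ) (H : Type) (_ : Group H) (_ : Finite H), n ≤ 7 → Cfsg.IsNonsplitDoubleCover H (alternatingGroup (Fin n)) → ∀ x y : H, orderOf x = 2 → orderOf y = 2 → x = y) ∧ ∃ (H : Type) (_ : Group H) (_ : Finite H), Cfsg.IsNonsplitDoubleCover H (alternatingGroup (Fin 8)) ∧ ∃ x y : H, x ≠ y ∧ orderOf x = 2 ∧ orderOf y = 2 := by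
  refine ⟨fun n H _ _ hn hH x y hx hy => partOne n H hn hH x y hx hy, ?_⟩
  exact ⟨SpinEight.cover, inferInstance, inferInstance, cover_nonsplit, cover_two_involutions⟩

end Cfsg.Agent.S0447
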