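import Cfsg.Statements.S2946
import Cfsg.Agent.Lib.LocalEven.JComp.Split

set_option autoImplicit false
open Cfsg

namespace Cfsg.Agent.S2946
open CfsgLib.PLocal
open scoped commutatorElement

section
variable {G : Type*} [Group G]

theorem sq_one {T : Subgroup G} {A : Subgroup G} (hA : IsMaxElemIn 2 T A) {a : G} (ha : a ∈ A) :
    a * a = 1 := CfsgLib.JComp.elemAb_sq hA.2.1 ha

/-- A 2-group normalizing `W` fixes a nontrivial element of it if it contains it. -/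
theorem exists_fixed [Finite G] {J W : Subgroup G} (hJ : IsPGroup 2 J) (hWJ : W ≤ J)
    (hn : J ≤ Subgroup.normalizer (W : Set G)) (hne : W ≠ ⊥) :
    ∃ w ∈ W, w ≠ 1 ∧ ∀ j ∈ J, j * w = w * j := by
  haveI : Fact (Nat.Prime 2) := ⟨Nat.prime_two⟩
  haveI : Group.IsNilpotent J := hJ.isNilpotent
  haveI : (W.subgroupOf J).Normal := (Subgroup.normal_subgroupOf_iff_le_normalizer hWJ).2 hn
  obtain ⟨z, hz⟩ := Subgroup.ne_bot_iff_exists_ne_one.1
    (CfsgLib.OddOrder.PuigSeries.inf_center_ne_bot (W.subgroupOf J) (by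
      rw [Ne, Subgroup.subgroupOf_eq_bot]
      exact fun h => hne (disjoint_self.1 (h.mono_right hWJ))))
  exact ⟨((z : J) : G), z.2.2, fun h => hz (Subtype.ext (Subtype.ext h)),
    fun j hj => congrArg Subtype.val (Subgroup.mem_center_iff.1 z.2.1 ⟨j, hj⟩)⟩

theorem conj_mem_centralizer {W : Subgroup G} {g : G} (hg : g ∈ Subgroup.normalizer (W : Set G))
    {x : G} (hx : x ∈ Subgroup.centralizer (W : Set G)) :
    g * x * g⁻¹ ∈ Subgroup.centralizer (W : Set G) := by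
  refine Subgroup.mem_centralizer_iff.2 fun w hw => ?_
  have h := Subgroup.mem_centralizer_iff.1 hx _ ((Subgroup.mem_normalizer_iff''.1 hg w).1 hw)
  calc w * (g * x * g⁻¹) = g * ((g⁻¹ * w * g) * x) * g⁻¹ := by group
    _ = g * (x * (g⁻¹ * w * g)) * g⁻¹ := by rw [h]
    _ = g * x * g⁻¹ * w := by group

/-- An automorphism of a four-group fixing two nontrivial elements is trivial. -/
theorem four_fix [Finite G] {W : Subgroup G} (h4 : Nat.card W = 4) {a w v : G}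
    (hw : w ∈ W) (hw1 : w ≠ 1) (hv : v ∈ W) (hv1 : v ≠ 1) (hvw : v ≠ w)
    (haw : a * w = w * a) (hav : a * v = v * a) : ∀ u ∈ W, a * u = u * a := by
  set C := W ⊓ Subgroup.centralizer ({a} : Set G)
  have hm : ∀ u ∈ W, a * u = u * a → u ∈ C := fun u hu h =>
    ⟨hu, Subgroup.mem_centralizer_iff.2 fun y hy => by rw [Set.mem_singleton_iff.1 hy]; exact h⟩
  have hC : Nat.card C = 4 := by
    have hd : Nat.card C ∣ 4 := h4 ▸ Subgroup.card_dvd_of_le inf_le_left
    have hs : ({1, w, v} : Set G) ⊆ C := by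
      rintro u (rfl | rfl | rfl)
      · exact C.one_mem
      · exact hm _ hw haw
      · exact hm _ hv hav
    have h3 := Set.ncard_le_ncard hs
    rw [Set.ncard_insert_of_notMem (by simp [hw1.symm, hv1.symm]), Set.ncard_pair hvw.symm,
      ← Nat.card_coe_set_eq] at h3
    have h3' : 3 ≤ Nat.card C := h3
    have h5 := Nat.le_of_dvd (by norm_num) hd
    interval_cases Nat.card C <;> omega
  intro u hu
  have : u ∈ C := (Subgroup.eq_of_le_of_card_ge (inf_le_left : C ≤ W) (by rw [hC, h4])).ge hu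
  exact Subgroup.mem_centralizer_iff.1 this.2 a rfl

end


/-- Let G be a finite group of characteristic 2 type in which every 2-local subgroup is solvable and the centralizer of Ω₁(Z(S)) lies in N_G(S) for every Sylow 2-subgroup S, and let T be a nontrivial 2-subgroup (below, J is the Thompson subgroup generated by the elementary abelian 2-subgroups of largest order), K a J(T)-component and Z₀ = Ω₁(Z(J(T))). Then Z₀ meets W_K = [Ω₁(Z(O₂(K))), K] in a subgroup of order 2, and Z₀ is the product of Z₀ ∩ Z(⟨K, J(T)⟩) and Z₀ ∩ W_K. -/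
theorem result {G : Type*} [Group G] [Finite G] (hL : Cfsg.IsCharacteristicTwoType G) (hN : ∀ N : Subgroup G, Cfsg.IsTwoLocal N → Group.IsSolvable ↥N)
    (hZ : ∀ S : Sylow 2 G, Subgroup.centralizer (Cfsg.omegaCenterOf (S : Subgroup G) : Set G) ≤ Subgroup.normalizer ((S : Subgroup G) : Set G)) (T : Subgroup G) (hT : IsPGroup 2 ↥T) (hT1 : T ≠ ⊥) (K : Subgroup G) (hK : Cfsg.IsJComponent T K)
    (Z₀ : Subgroup G) (hZ₀ : Z₀ = Cfsg.omegaCenterOf (Cfsg.thompsonSubgroupOf 2 T)) :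
    Nat.card ↥(Z₀ ⊓ Cfsg.wOf K) = 2 ∧
      (Z₀ ⊓ ((K ⊔ Cfsg.thompsonSubgroupOf 2 T) ⊓ Subgroup.centralizer ((K ⊔ Cfsg.thompsonSubgroupOf 2 T) : Set G))) ⊔ (Z₀ ⊓ Cfsg.wOf K) = Z₀ := by
  haveI : Fact (Nat.Prime 2) := ⟨Nat.prime_two⟩
  obtain ⟨hgen, hKJ, hidx, hcond, hW4, hW2⟩ := id hK
  obtain ⟨k, hd⟩ := CfsgLib.JComp.exists_fourData hgen hidx
  subst hZ₀
  set J := Cfsg.thompsonSubgroupOf 2 T with hJdef
  set W := Cfsg.wOf K with hWdef
  set Q := Cfsg.pCoreOf 2 K with hQdef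
  set X := K ⊔ J with hXdef
  have hJp : IsPGroup 2 J := hT.to_le (CfsgLib.JComp.jOf_le T)
  have hJK : J ≤ Subgroup.normalizer (K : Set G) := by
    conv_rhs => rw [← hKJ]
    exact CfsgLib.Coprime.le_normalizer_commutator_right K J
  have hXW : X ≤ Subgroup.normalizer (W : Set G) :=
    sup_le hd.norm (hJK.trans (CfsgLib.JComp.normalizer_le_normalizer_wOf K))
  have hWne : W ≠ ⊥ := fun e => by rw [e, Subgroup.card_bot] at hW4; norm_num at hW4
  have hWe : Cfsg.IsElementaryAbelian 2 W :=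
    elemAb_of_le (CfsgLib.JComp.omegaCenterOf_elemAb _) hd.le_omega
  have hWQ : W ≤ Q := hd.le_omega.trans (CfsgLib.JComp.omegaCenterOf_le _)
  have hQp : IsPGroup 2 Q := CfsgLib.LocalEvenCharP.isPGroup_pCoreOf 2 K
  have hWX : W ≤ X := (hWQ.trans (CfsgLib.LocalEvenCharP.pCoreOf_le 2 K)).trans le_sup_left
  -- a Sylow subgroup of `X`
  obtain ⟨T₀, hT₀, hJT₀⟩ :=
    CfsgLib.JComp.exists_sylowIn_ge (le_sup_right : J ≤ X) hJp
  have hJ₀ : Cfsg.thompsonSubgroupOf 2 T₀ = J := hcond T₀ hT₀ hJT₀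
  have ha : Cfsg.maxElemAbelianOrder T₀ = Cfsg.maxElemAbelianOrder T := by
    rw [← CfsgLib.JComp.maxElemAbelianOrder_jOf T₀, hJ₀, hJdef,
      CfsgLib.JComp.maxElemAbelianOrder_jOf]
  have hmax₀ : ∀ A, IsMaxElemIn 2 T A → IsMaxElemIn 2 T₀ A := by
    intro A hA
    obtain ⟨B, hB⟩ := exists_isMaxElemIn 2 T₀
    refine hB.of_card_le ((hA.le_thompson.trans (CfsgLib.JComp.jOf_eq T).ge).trans hJT₀) hA.2.1
      (le_of_eq ?_)
    rw [← CfsgLib.JComp.maxElemAbelianOrder_eq hB, ha, CfsgLib.JComp.maxElemAbelianOrder_eq hA]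
  have hWT₀ : W ≤ T₀ := CfsgLib.JComp.normal_le_sylowIn hT₀ hWX hXW (hQp.to_le hWQ)
  obtain ⟨A, hA, hAW⟩ : ∃ A, IsMaxElemIn 2 T A ∧ ¬ A ≤ Subgroup.centralizer (W : Set G) := by
    by_contra hcon
    push Not at hcon
    have h1 : J ≤ Subgroup.centralizer (W : Set G) := by
      rw [hJdef, CfsgLib.JComp.jOf_eq, thompson_le_iff]; exact hcon
    have h2 : K ≤ Subgroup.centralizer (W : Set G) := by
      conv_lhs => rw [← hKJ]
      refine Subgroup.commutator_le.2 fun g hg j hj => ?_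
      exact (Subgroup.centralizer (W : Set G)).mul_mem
        (conj_mem_centralizer (hd.norm hg) (h1 hj)) ((Subgroup.centralizer _).inv_mem (h1 hj))
    exact hd.not_core (hd.mem_core hWne hd.mem (h2 hd.mem))
  have hAJ : A ≤ J := hA.le_thompson.trans (CfsgLib.JComp.jOf_eq T).ge
  obtain ⟨a, haA, haW⟩ := SetLike.not_le_iff_exists.1 hAW
  have hAX : A ≤ X := hAJ.trans le_sup_right
  -- the fixed point of `a`
  have hAWp : IsPGroup 2 ↥(A ⊔ W) := hT₀.2.1.to_le (sup_le (hAJ.trans hJT₀) hWT₀)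
  obtain ⟨w₀, hw₀, hw₀1, hw₀c⟩ := exists_fixed hAWp le_sup_right
    (sup_le (hAX.trans hXW) Subgroup.le_normalizer) hWne
  have hfix : ∀ w ∈ W, a * w = w * a → w = 1 ∨ w = w₀ := by
    intro w hw h
    by_contra hne
    rw [not_or] at hne
    exact haW (Subgroup.mem_centralizer_iff.2 fun u hu =>
      (four_fix hW4 hw₀ hw₀1 hw hne.1 hne.2 (hw₀c a (le_sup_left (b := W) haA)) h u hu).symm)
  -- `A ⊓ C(W)` has index at most 2 in `A`
  set A₀ := A ⊓ Subgroup.centralizer (W : Set G) with hA₀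
  have hidx2 : Nat.card A ≤ 2 * Nat.card A₀ := by
    have key : ∀ b ∈ A, b ∈ A₀ ∨ a⁻¹ * b ∈ A₀ := by
      intro b hb
      by_cases hbW : b ∈ Subgroup.centralizer (W : Set G)
      · exact Or.inl ⟨hb, hbW⟩
      right
      obtain ⟨w, hw, hw1, hww⟩ : ∃ w ∈ W, w ≠ 1 ∧ w ≠ w₀ := by
        by_contra hcon
        push Not at hcon
        have hs : (W : Set G) ⊆ {1, w₀} := fun w hw => by
          by_cases h : w = 1
          · exact Or.inl h
          · exact Or.inr (hcon w hw h)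
        have := (Set.ncard_le_ncard hs).trans (Set.ncard_insert_le _ _)
        rw [← Nat.card_coe_set_eq, Set.ncard_singleton] at this
        have h4 : Nat.card (W : Set G) = 4 := hW4
        omega
      refine ⟨A.mul_mem (A.inv_mem haA) hb, Subgroup.mem_centralizer_iff.2 fun u hu => ?_⟩
      refine (four_fix hW4 hw₀ hw₀1 hw hw1 hww
        (hw₀c _ (le_sup_left (b := W) (A.mul_mem (A.inv_mem haA) hb))) ?_ u hu).symm
      have h3 : ∀ c ∈ A, c ∉ Subgroup.centralizer (W : Set G) → c * w * c⁻¹ = w * w₀ := by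
        intro c hc hcW
        have hcn : c * w * c⁻¹ ∈ W := (Subgroup.mem_normalizer_iff.1 (hXW (hAX hc)) w).1 hw
        have hne1 : c * w * c⁻¹ ≠ 1 := fun e => hw1 (conj_eq_one_iff.1 e)
        have hne0 : c * w * c⁻¹ ≠ w₀ := fun e => hww (by
          have h := hw₀c c (le_sup_left (b := W) hc)
          calc w = c⁻¹ * (c * w * c⁻¹) * c := by group
            _ = c⁻¹ * (c * w₀) := by rw [e, h]; group
            _ = w₀ := by group)
        have hnew : c * w * c⁻¹ ≠ w := fun e => hcW (Subgroup.mem_centralizer_iff.2 fun u hu =>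
          (four_fix hW4 hw₀ hw₀1 hw hw1 hww (hw₀c c (le_sup_left (b := W) hc))
            (mul_inv_eq_iff_eq_mul.1 e) u hu).symm)
        by_contra hne
        have hsub : ({1, w, w₀, w * w₀, c * w * c⁻¹} : Set G) ⊆ W := by
          rintro y (rfl | rfl | rfl | rfl | rfl)
          exacts [W.one_mem, hw, hw₀, W.mul_mem hw hw₀, hcn]
        have h5 := Set.ncard_le_ncard hsub
        have hww' : w * w₀ ≠ 1 := fun e => hww ((mul_eq_one_iff_eq_inv.1 e).trans
          (inv_eq_of_mul_eq_one_right (hW2 w₀ hw₀)))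
        rw [Set.ncard_insert_of_notMem (by
              simp [hw1.symm, hw₀1.symm, hww'.symm, hne1.symm]),
          Set.ncard_insert_of_notMem (by simp [hww, hw₀1, hnew.symm]),
          Set.ncard_insert_of_notMem (by simp [hw1, hne0.symm]),
          Set.ncard_pair (fun e => hne e.symm), ← Nat.card_coe_set_eq] at h5
        have h4 : Nat.card (W : Set G) = 4 := hW4
        omega
      have e1 := h3 a haA haW
      have e2 := h3 b hb hbW
      calc a⁻¹ * b * w = a⁻¹ * (b * w * b⁻¹) * b := by group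
        _ = a⁻¹ * (a * w * a⁻¹) * b := by rw [e1, e2]
        _ = w * (a⁻¹ * b) := by group
    have hs : (A : Set G) ⊆ (A₀ : Set G) ∪ (fun c => a * c) '' (A₀ : Set G) := fun b hb =>
      (key b hb).imp id fun h => ⟨_, h, mul_inv_cancel_left a b⟩
    have := (Set.ncard_le_ncard hs).trans ((Set.ncard_union_le _ _).trans
      (Nat.add_le_add_left Set.ncard_image_le _))
    rw [← Nat.card_coe_set_eq, ← Nat.card_coe_set_eq] at this
    have e1 : Nat.card (A : Set G) = Nat.card A := rfl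
    have e2 : Nat.card (A₀ : Set G) = Nat.card A₀ := rfl
    omega
  -- `A₀ W` is of maximal order
  have hA' : IsMaxElemIn 2 T₀ (A₀ ⊔ W) := by
    refine (hmax₀ A hA).of_card_le (sup_le ((inf_le_left.trans hAJ).trans hJT₀) hWT₀)
      (elemAb_sup (elemAb_of_le hA.2.1 inf_le_left) hWe inf_le_right) ?_
    refine hidx2.trans ?_
    obtain ⟨m, hm⟩ := Subgroup.card_dvd_of_le (le_sup_left : A₀ ≤ A₀ ⊔ W)
    have hne : Nat.card ↥(A₀ ⊔ W) ≠ Nat.card A₀ := fun e => haW (Subgroup.mem_centralizer_iff.2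
      fun u hu => elemAb_commute hA.2.1
        ((inf_le_left : A₀ ≤ A)
          ((Subgroup.eq_of_le_of_card_ge (le_sup_left : A₀ ≤ A₀ ⊔ W) e.le).ge
            (Subgroup.mem_sup_right hu))) haA)
    rcases m with _ | _ | m
    · simp [Nat.card_pos.ne'] at hm
    · simp [hm] at hne
    · rw [hm, mul_comm]; exact Nat.mul_le_mul_left _ (by omega)
  have hA'J : A₀ ⊔ W ≤ J := hA'.le_thompson.trans (by rw [← CfsgLib.JComp.jOf_eq, hJ₀])
  have hWJ : W ≤ J := le_sup_right.trans hA'J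
  obtain ⟨w₁, hw₁, hw₁1, hw₁c⟩ := exists_fixed hJp hWJ (le_sup_right.trans hXW) hWne
  have hw₁eq : w₁ = w₀ := (hfix w₁ hw₁ (hw₁c a (hAJ haA))).resolve_left hw₁1
  subst hw₁eq
  set Z₀ := Cfsg.omegaCenterOf J with hZ₀
  have hw₀Z : w₁ ∈ Z₀ :=
    CfsgLib.JComp.mem_omegaCenterOf (hWJ hw₀) (hW2 _ hw₀) hw₁c
  have hZW : Z₀ ⊓ W = Subgroup.zpowers w₁ := by
    refine le_antisymm (fun w hw => ?_) (Subgroup.zpowers_le.2 ⟨hw₀Z, hw₀⟩)
    rcases hfix w hw.2 (CfsgLib.JComp.omegaCenterOf_comm J hw.1 (hAJ haA)) with rfl | rfl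
    exacts [one_mem _, Subgroup.mem_zpowers _]
  refine ⟨?_, ?_⟩
  · rw [hZW, Nat.card_zpowers]
    exact orderOf_eq_prime (by rw [pow_two]; exact hW2 _ hw₀) hw₀1
  refine le_antisymm (sup_le inf_le_left inf_le_left) fun z hz => ?_
  -- the normal 2-subgroup `C_X(W)`
  set Q₀ := X ⊓ Subgroup.centralizer (W : Set G) with hQ₀
  have hXQ₀ : X ≤ Subgroup.normalizer (Q₀ : Set G) := by
    refine Subgroup.le_normalizer_iff.2 fun g hg x hx =>
      ⟨X.mul_mem (X.mul_mem hg hx.1) (X.inv_mem hg), ?_⟩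
    exact conj_mem_centralizer (hXW hg) hx.2
  have hQ₀p : IsPGroup 2 Q₀ := by
    intro g
    obtain ⟨u, v, huv, hu, ⟨m, hm⟩, hu', -⟩ := CfsgLib.JComp.exists_odd_two (g : G)
    have huQ : u ∈ Q₀ := Subgroup.zpowers_le.2 g.2 hu'
    have huK : u ∈ K := CfsgLib.JComp.odd_mem_of_sup hJp hJK huQ.1 hu
    have hu1 : u = 1 := CfsgLib.LocalEvenCharP.eq_one_of_coprime_of_mem hQp
      (hd.mem_core hWne huK huQ.2) hu.coprime_two_right
    exact ⟨m, Subtype.ext (by simpa [huv, hu1] using hm)⟩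
  have hQQ₀ : Q ≤ Q₀ := fun q hq =>
    ⟨Subgroup.mem_sup_left (CfsgLib.LocalEvenCharP.pCoreOf_le 2 K hq),
      Subgroup.mem_centralizer_iff.2 fun u hu => by
        have := hd.core_fix q hq u hu
        exact (mul_inv_eq_iff_eq_mul.1 this).symm⟩
  have hQ₀T : Q₀ ≤ T₀ := CfsgLib.JComp.normal_le_sylowIn hT₀ inf_le_left hXQ₀ hQ₀p
  have hA'Q : A₀ ⊔ W ≤ Q₀ := sup_le (le_inf (inf_le_left.trans hAX) inf_le_right)
    (le_inf hWX fun w hw => Subgroup.mem_centralizer_iff.2 fun u hu => elemAb_commute hWe hu hw)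
  have hA'₀ : IsMaxElemIn 2 Q₀ (A₀ ⊔ W) :=
    ⟨hA'Q, hA'.2.1, fun B hB hB' => hA'.2.2 B (hB.trans hQ₀T) hB'⟩
  set J₀ := Cfsg.thompsonSubgroupOf 2 Q₀ with hJ₀def
  have hJ₀J : J₀ ≤ J := hJ₀ ▸ CfsgLib.JComp.jOf_mono hQ₀T (by
    rw [CfsgLib.JComp.maxElemAbelianOrder_eq hA', CfsgLib.JComp.maxElemAbelianOrder_eq hA'₀])
  have hA'J₀ : A₀ ⊔ W ≤ J₀ := hA'₀.le_thompson.trans (CfsgLib.JComp.jOf_eq Q₀).ge
  set V := Cfsg.omegaCenterOf J₀ with hV
  have hVe : Cfsg.IsElementaryAbelian 2 V := CfsgLib.JComp.omegaCenterOf_elemAb _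
  have hXV : X ≤ Subgroup.normalizer (V : Set G) := hXQ₀.trans
    ((CfsgLib.JComp.normalizer_le_normalizer_jOf _).trans
      (CfsgLib.JComp.normalizer_le_normalizer_omegaCenterOf _))
  have hWV : W ≤ V := fun w hw => CfsgLib.JComp.mem_omegaCenterOf
    (hA'J₀ (Subgroup.mem_sup_right hw)) (hW2 w hw) fun y hy =>
      (Subgroup.mem_centralizer_iff.1 ((CfsgLib.JComp.jOf_le Q₀ hy).2) w hw).symm
  have hVA₀ : ∀ v ∈ V, ∀ c ∈ A₀, c * v = v * c := fun v hv c hc =>
    CfsgLib.JComp.omegaCenterOf_comm J₀ hv (hA'J₀ (Subgroup.mem_sup_left hc))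
  have hzJ : z ∈ J := CfsgLib.JComp.omegaCenterOf_le J hz
  have hzV : z ∈ V := by
    have hzQ : z ∈ Q₀ := ⟨Subgroup.mem_sup_right hzJ, Subgroup.mem_centralizer_iff.2 fun u hu =>
      CfsgLib.JComp.omegaCenterOf_comm J hz (hWJ hu)⟩
    refine CfsgLib.JComp.mem_omegaCenterOf ?_
      (CfsgLib.JComp.elemAb_sq (CfsgLib.JComp.omegaCenterOf_elemAb J) hz) fun y hy =>
        CfsgLib.JComp.omegaCenterOf_comm J hz (hJ₀J hy)
    refine hA'J₀ (hA'₀.mem_of_centralizes hzQ ?_ fun y hy =>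
      CfsgLib.JComp.omegaCenterOf_comm J hz (hA'J hy))
    rw [pow_two]; exact CfsgLib.JComp.elemAb_sq (CfsgLib.JComp.omegaCenterOf_elemAb J) hz
  -- fixed points of `a` and of `k a k⁻¹` on `V`
  set F := V ⊓ Subgroup.centralizer (A : Set G) with hF
  have hkX : k ∈ X := Subgroup.mem_sup_left hd.mem
  set F' := F.map (MulAut.conj k).toMonoidHom with hF'
  have hF'V : F' ≤ V := by
    rintro _ ⟨v, hv, rfl⟩
    exact (Subgroup.mem_normalizer_iff.1 (hXV hkX) v).1 hv.1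
  have hF'c : Nat.card F' = Nat.card F :=
    Subgroup.card_map_of_injective (MulAut.conj k).injective
  have hcardV : Nat.card V ≤ 2 * Nat.card F := by
    have hB : Nat.card ↥(A₀ ⊔ V) ≤ Nat.card A :=
      (hmax₀ A hA).2.2 _ (sup_le ((inf_le_left.trans hAJ).trans hJT₀)
        ((CfsgLib.JComp.omegaCenterOf_le J₀).trans (hJ₀J.trans hJT₀)))
        (elemAb_sup (elemAb_of_le hA.2.1 inf_le_left) hVe fun c hc =>
          Subgroup.mem_centralizer_iff.2 fun v hv => (hVA₀ v hv c hc).symm)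
    have h2 := CfsgLib.Coprime.card_sup_mul_card_inf (H := A₀) (N := V)
      ((inf_le_left.trans hAX).trans hXV)
    have h3 : Nat.card ↥(V ⊓ A₀) ≤ Nat.card F := Subgroup.card_le_of_le fun v hv =>
      ⟨hv.1, Subgroup.mem_centralizer_iff.2 fun c hc => elemAb_commute hA.2.1 hc hv.2.1⟩
    refine Nat.le_of_mul_le_mul_left ?_ (Nat.card_pos : 0 < Nat.card A₀)
    calc Nat.card A₀ * Nat.card V = Nat.card ↥(A₀ ⊔ V) * Nat.card ↥(V ⊓ A₀) := h2.symm
      _ ≤ Nat.card A * Nat.card F := Nat.mul_le_mul hB h3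
      _ ≤ 2 * Nat.card A₀ * Nat.card F := Nat.mul_le_mul_right _ hidx2
      _ = Nat.card A₀ * (2 * Nat.card F) := by ring
  set D := F ⊓ F' with hD
  have hDW : W ⊓ D = ⊥ := by
    refine (Subgroup.eq_bot_iff_forall _).2 fun u hu => ?_
    obtain ⟨hu, ⟨-, huA⟩, v, ⟨hvV, hvA⟩, hvu⟩ := hu
    have hvu' : k * v * k⁻¹ = u := hvu
    have hvW : v ∈ W := (Subgroup.mem_normalizer_iff.1 (hd.norm hd.mem) v).2 (hvu'.symm ▸ hu)
    rcases hfix u hu (Subgroup.mem_centralizer_iff.1 huA a haA) with h1 | h1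
    · exact h1
    rcases hfix v hvW (Subgroup.mem_centralizer_iff.1 hvA a haA) with h2 | h2
    · rw [← hvu, h2, map_one]
    · subst h1 h2
      exact hd.fpf _ hw₀ hvu
  have hWD : W ⊔ D = V := by
    refine Subgroup.eq_of_le_of_card_ge (sup_le hWV (inf_le_left.trans inf_le_left)) ?_
    have hcomm : ∀ H : Subgroup G, H ≤ V → V ≤ Subgroup.normalizer (H : Set G) := fun H hH v hv =>
      Subgroup.centralizer_le_normalizer _ (Subgroup.mem_centralizer_iff.2 fun x hx =>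
        elemAb_commute hVe (hH hx) hv)
    have h1 := CfsgLib.Coprime.card_sup_mul_card_inf (H := W) (N := D)
      (hWV.trans (hcomm D (inf_le_left.trans inf_le_left)))
    rw [inf_comm, hDW, Subgroup.card_bot, mul_one] at h1
    have h2 := CfsgLib.Coprime.card_sup_mul_card_inf (H := F) (N := F')
      (inf_le_left.trans (hcomm F' hF'V))
    rw [hF'c, inf_comm, ← hD] at h2
    have h3 : Nat.card ↥(F ⊔ F') ≤ Nat.card V := Subgroup.card_le_of_le (sup_le inf_le_left hF'V)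
    rw [h1, hW4]
    have h4 : Nat.card F * Nat.card F ≤ Nat.card V * Nat.card D := h2 ▸ Nat.mul_le_mul_right _ h3
    refine Nat.le_of_mul_le_mul_left ?_ (Nat.card_pos : 0 < Nat.card V)
    calc Nat.card V * Nat.card V ≤ (2 * Nat.card F) * (2 * Nat.card F) :=
          Nat.mul_le_mul hcardV hcardV
      _ = 4 * (Nat.card F * Nat.card F) := by ring
      _ ≤ 4 * (Nat.card V * Nat.card D) := Nat.mul_le_mul_left _ h4
      _ = Nat.card V * (4 * Nat.card D) := by ring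
  obtain ⟨u, hu, d, hdD, rfl⟩ : ∃ u ∈ W, ∃ d ∈ D, z = u * d := by
    have h : z ∈ ((W ⊔ D : Subgroup G) : Set G) := hWD.ge hzV
    rw [Subgroup.coe_mul_of_left_le_normalizer_right W D (fun w hw =>
      Subgroup.centralizer_le_normalizer _ (Subgroup.mem_centralizer_iff.2 fun x hx =>
        elemAb_commute hVe ((inf_le_left.trans inf_le_left : D ≤ V) hx) (hWV hw)))] at h
    obtain ⟨u, hu, d, hd', h⟩ := h
    exact ⟨u, hu, d, hd', h.symm⟩
  obtain ⟨⟨hdV, hdA⟩, d', ⟨-, hd'A⟩, hd'd⟩ := id hdD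
  have huZ : u ∈ Z₀ := by
    have h1 : a * u = u * a := by
      have h2 := CfsgLib.JComp.omegaCenterOf_comm J hz (hAJ haA)
      have h3 := Subgroup.mem_centralizer_iff.1 hdA a haA
      calc a * u = a * (u * d) * d⁻¹ := by group
        _ = (u * d) * (d⁻¹ * a) := by
          rw [h2, (Commute.inv_left (show Commute d a from h3.symm)).eq]; group
        _ = u * a := by group
    rcases hfix u hu h1 with rfl | rfl
    exacts [one_mem _, hw₀Z]
  have hdZ : d ∈ Z₀ := by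
    have h := Z₀.mul_mem (Z₀.inv_mem huZ) hz
    rwa [inv_mul_cancel_left] at h
  rw [elemAb_commute hVe (hWV hu) hdV]
  refine Subgroup.mul_mem_sup ⟨hdZ, Subgroup.mem_sup_right (CfsgLib.JComp.omegaCenterOf_le J hdZ),
    ?_⟩ ⟨huZ, hu⟩
  -- `X = C_X(d) Q₀`
  set C := X ⊓ Subgroup.centralizer ({d} : Set G) with hC
  have hmemC : ∀ x ∈ X, x * d = d * x → x ∈ C := fun x hx h =>
    ⟨hx, Subgroup.mem_centralizer_iff.2 fun y hy => by rw [Set.mem_singleton_iff.1 hy]; exact h.symm⟩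
  have hJC : J ≤ C := fun j hj => hmemC j (Subgroup.mem_sup_right hj)
    (CfsgLib.JComp.omegaCenterOf_comm J hdZ hj)
  have hkaC : k * a * k⁻¹ ∈ C := by
    refine hmemC _ (X.mul_mem (X.mul_mem hkX (hAX haA)) (X.inv_mem hkX)) ?_
    have h := Subgroup.mem_centralizer_iff.1 hd'A a haA
    rw [← hd'd]
    calc k * a * k⁻¹ * (MulAut.conj k).toMonoidHom d' = k * (a * d') * k⁻¹ := by simp [mul_assoc]
      _ = k * (d' * a) * k⁻¹ := by rw [h]
      _ = _ := by simp [mul_assoc]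
  set c := k * a * k⁻¹ * a⁻¹ with hc
  have hcK : c ∈ K := by
    rw [hc, mul_assoc, mul_assoc]
    refine K.mul_mem hd.mem ?_
    rw [← mul_assoc]
    exact (Subgroup.mem_normalizer_iff.1 (hJK (hAJ haA)) _).1 (K.inv_mem hd.mem)
  have hcQ : c ∉ Q := by
    intro hq
    have h1 := hd.core_fix c hq _ ((Subgroup.mem_normalizer_iff.1 (hd.norm hd.mem) w₁).1 hw₀)
    have h2 : c * (k * w₁ * k⁻¹) * c⁻¹ = k * (a * (k⁻¹ * a⁻¹ * (k * w₁ * k⁻¹) * a * k) * a⁻¹) * k⁻¹ := by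
      rw [hc]; group
    have hk1 : k * w₁ * k⁻¹ ∈ W := (Subgroup.mem_normalizer_iff.1 (hd.norm hd.mem) w₁).1 hw₀
    have hfx : a * (k * w₁ * k⁻¹) = k * w₁ * k⁻¹ * a := by
      rw [h2] at h1
      have hv : k⁻¹ * a⁻¹ * (k * w₁ * k⁻¹) * a * k = w₁ := by
        have h3 : a * (k⁻¹ * a⁻¹ * (k * w₁ * k⁻¹) * a * k) * a⁻¹ = w₁ :=
          mul_left_cancel (mul_right_cancel h1)
        have h4 : a⁻¹ * w₁ * a = w₁ := by
          rw [mul_assoc, ← hw₁c a (hAJ haA), inv_mul_cancel_left]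
        calc _ = a⁻¹ * (a * (k⁻¹ * a⁻¹ * (k * w₁ * k⁻¹) * a * k) * a⁻¹) * a := by group
          _ = w₁ := by rw [h3, h4]
      calc a * (k * w₁ * k⁻¹) = a * (k * (k⁻¹ * a⁻¹ * (k * w₁ * k⁻¹) * a * k) * k⁻¹) := by rw [hv]
        _ = k * w₁ * k⁻¹ * a := by group
    rcases hfix _ hk1 hfx with h | h
    · exact hw₀1 (conj_eq_one_iff.1 h)
    · exact hw₀1 (hd.fpf _ hw₀ h)
  have hkH : k ∈ C ⊔ Q₀ := by
    obtain ⟨i, hi, hiq⟩ := hd.split c hcK
    have hcH : c ∈ C ⊔ Q₀ :=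
      Subgroup.mem_sup_left (C.mul_mem hkaC (C.inv_mem (hJC (hAJ haA))))
    have hpow : k ^ i ∈ C ⊔ Q₀ := by
      have e : k ^ i = c * ((k ^ i)⁻¹ * c)⁻¹ := by group
      rw [e]
      exact mul_mem hcH (inv_mem (Subgroup.mem_sup_right (hQQ₀ hiq)))
    rcases (show i = 0 ∨ i = 1 ∨ i = 2 by omega) with rfl | rfl | rfl
    · simp at hiq; exact absurd hiq hcQ
    · simpa using hpow
    · have e : (k ^ 2) ^ 2 = k := by
        rw [← pow_mul]
        conv_rhs => rw [← pow_one k]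
        exact pow_eq_pow_iff_modEq.2 (by rw [hd.ord]; decide)
      rw [← e]; exact pow_mem hpow 2
  have hXH : X ≤ C ⊔ Q₀ := by
    refine sup_le (fun g hg => ?_) (hJC.trans le_sup_left)
    obtain ⟨i, -, hiq⟩ := hd.split g hg
    have e : g = k ^ i * ((k ^ i)⁻¹ * g) := by group
    rw [e]
    exact mul_mem (pow_mem hkH i) (Subgroup.mem_sup_right (hQQ₀ hiq))
  -- all conjugates of `d` are centralized by `J`
  have hconj : ∀ g ∈ X, ∀ j ∈ J, j * (g * d * g⁻¹) = g * d * g⁻¹ * j := by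
    intro g hg j hj
    have h : g ∈ ((Q₀ ⊔ C : Subgroup G) : Set G) := by rw [sup_comm]; exact hXH hg
    rw [Subgroup.coe_mul_of_right_le_normalizer_left Q₀ C (inf_le_left.trans hXQ₀)] at h
    obtain ⟨t, ht, x, hx, rfl⟩ := h
    have hxd : x * d * x⁻¹ = d :=
      mul_inv_eq_iff_eq_mul.2 (Subgroup.mem_centralizer_iff.1 hx.2 d rfl).symm
    have e : t * x * d * (t * x)⁻¹ = t * d * t⁻¹ :=
      calc t * x * d * (t * x)⁻¹ = t * (x * d * x⁻¹) * t⁻¹ := by group
        _ = _ := by rw [hxd]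
    show j * (t * x * d * (t * x)⁻¹) = t * x * d * (t * x)⁻¹ * j
    rw [e]
    have htJ : t ∈ Subgroup.normalizer (J : Set G) :=
      hJ₀ ▸ CfsgLib.JComp.normalizer_le_normalizer_jOf T₀ (Subgroup.le_normalizer (hQ₀T ht))
    exact CfsgLib.JComp.omegaCenterOf_comm J ((Subgroup.mem_normalizer_iff.1
      (CfsgLib.JComp.normalizer_le_normalizer_omegaCenterOf J htJ) d).1 hdZ) hj
  have hKd : K ≤ Subgroup.centralizer ({d} : Set G) := by
    conv_lhs => rw [← hKJ]
    refine Subgroup.commutator_le.2 fun g hg j hj => ?_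
    refine Subgroup.mem_centralizer_iff.2 fun y hy => ?_
    rw [Set.mem_singleton_iff.1 hy]
    have h1 := hconj g⁻¹ (X.inv_mem (Subgroup.mem_sup_left hg)) j hj
    rw [inv_inv] at h1
    have h2 := CfsgLib.JComp.omegaCenterOf_comm J hdZ (J.inv_mem hj)
    calc d * ⁅g, j⁆ = g * ((g⁻¹ * d * g) * j) * g⁻¹ * j⁻¹ := by
          rw [commutatorElement_def]; group
      _ = g * (j * (g⁻¹ * d * g)) * g⁻¹ * j⁻¹ := by rw [h1]
      _ = g * j * g⁻¹ * (d * j⁻¹) := by group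
      _ = g * j * g⁻¹ * (j⁻¹ * d) := by rw [h2]
      _ = ⁅g, j⁆ * d := by rw [commutatorElement_def]; group
  refine Subgroup.mem_centralizer_iff.2 fun x hx => ?_
  have hxC : x ∈ Subgroup.centralizer ({d} : Set G) := hx.elim (fun h => hKd h) fun h => (hJC h).2
  exact (Subgroup.mem_centralizer_iff.1 hxC d rfl).symm

end Cfsg.Agent.S2946
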