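import Cfsg.Statements.S2947
import Cfsg.Agent.Lib.LocalEven.CharP
import Cfsg.Agent.Lib.LocalEven.SylowControl
import Cfsg.Agent.Lib.PLocal.Thompson
import Cfsg.Agent.Lib.OddOrder.PuigSeries

set_option autoImplicit false
open Cfsg

namespace Cfsg.Agent.S2947

/-- Let G be a finite group of characteristic 2 type in which every 2-local subgroup is solvable and the centralizer of Ω₁(Z(S)) lies in N_G(S) for every Sylow 2-subgroup S; suppose O₂(G) = 1, fix a Sylow 2-subgroup S and a 2-local subgroup M containing N_G(J(S)) (J the Thompson subgroup generated by the elementary abelian 2-subgroups of largest order). Then M is strongly embedded in G (a proper subgroup of even order whose intersection with each conjugate by an element outside M has odd order) if and only if no nontrivial 2-subgroup of M lies in a 2-local subgroup of G not contained in M. -/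
theorem result {G : Type*} [Group G] [Finite G] (hL : Cfsg.IsCharacteristicTwoType G) (hN : ∀ N : Subgroup G, Cfsg.IsTwoLocal N → Group.IsSolvable ↥N)
    (hZ : ∀ S : Sylow 2 G, Subgroup.centralizer (Cfsg.omegaCenterOf (S : Subgroup G) : Set G) ≤ Subgroup.normalizer ((S : Subgroup G) : Set G)) (hO : Cfsg.pCore 2 G = ⊥) (S : Sylow 2 G) (M : Subgroup G) (hM : Cfsg.IsTwoLocal M)
    (hMJ : Subgroup.normalizer (Cfsg.thompsonSubgroupOf 2 (S : Subgroup G) : Set G) ≤ M) :
    Cfsg.IsStronglyEmbedded M ↔ Cfsg.straddlingTwoSubgroups M = ∅ := by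
  haveI : Fact (Nat.Prime 2) := ⟨Nat.prime_two⟩
  obtain ⟨U, hUp, hU1, hUM⟩ := hM
  have hSM : (S : Subgroup G) ≤ M := by
    refine le_trans ?_ hMJ
    rw [CfsgLib.PLocal.thompsonSubgroupOf_eq]
    exact CfsgLib.PLocal.le_normalizer_thompson 2 _
  constructor
  · intro hse
    rw [Set.eq_empty_iff_forall_notMem]
    rintro T ⟨hT, hT1, hTM, L, ⟨V, hVp, hV1, rfl⟩, hTL, hLM⟩
    have hloc : ∀ W : Subgroup G, IsPGroup 2 W → W ≠ ⊥ → W ≤ M →
        Subgroup.normalizer (W : Set G) ≤ M := by
      intro W hW hW1 hWM g hg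
      by_contra hgM
      have hodd := hse.2.2 g hgM
      refine hW1 ((Subgroup.eq_bot_iff_forall _).2 fun w hw => ?_)
      have hw' : w ∈ M ⊓ M.map (MulAut.conj g).toMonoidHom :=
        ⟨hWM hw, g⁻¹ * w * g, hWM ((Subgroup.mem_normalizer_iff''.1 hg w).1 hw), by simp [mul_assoc]⟩
      exact CfsgLib.LocalEvenCharP.eq_one_of_coprime_of_mem hW hw
        (Nat.Coprime.coprime_dvd_left (Subgroup.orderOf_dvd_natCard _ hw') hodd.coprime_two_right)
    -- some nontrivial element of `V` is fixed by `T`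
    have hVT : IsPGroup 2 ↥(T ⊔ V) := hT.to_sup_of_normal_right' hVp hTL
    haveI : Group.IsNilpotent ↥(T ⊔ V) := hVT.isNilpotent
    obtain ⟨v, hv, hv1, hvc⟩ : ∃ v ∈ V, v ≠ 1 ∧ ∀ t ∈ T, t * v = v * t := by
      haveI hn : (V.subgroupOf (T ⊔ V)).Normal :=
        (Subgroup.normal_subgroupOf_iff_le_normalizer le_sup_right).2
          (sup_le hTL Subgroup.le_normalizer)
      have hne : V.subgroupOf (T ⊔ V) ≠ ⊥ := by
        rw [Ne, Subgroup.subgroupOf_eq_bot]
        exact fun h => hV1 (disjoint_self.1 (h.mono_right le_sup_right))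
      obtain ⟨z, hz⟩ := Subgroup.ne_bot_iff_exists_ne_one.1
        (CfsgLib.OddOrder.PuigSeries.inf_center_ne_bot _ hne)
      exact ⟨((z : ↥(T ⊔ V)) : G), z.2.2, fun h => hz (Subtype.ext (Subtype.ext h)), fun t ht =>
        congrArg Subtype.val (Subgroup.mem_center_iff.1 z.2.1 ⟨t, le_sup_left (b := V) ht⟩)⟩
    have hvM : v ∈ M := hloc T hT hT1 hTM (Subgroup.centralizer_le_normalizer _
      (Subgroup.mem_centralizer_iff.2 hvc))
    have hVM : V ≤ M := by
      by_contra hcon
      obtain ⟨y, hy, hy', hyn⟩ := CfsgLib.LocalEvenCharP.exists_mem_normalizer_not_mem hVp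
        (inf_le_left : V ⊓ M ≤ V) (fun h => hcon (h ▸ inf_le_right))
      refine hy' ⟨hy, hloc _ (hVp.to_le inf_le_left) ?_ inf_le_right hyn⟩
      exact fun h => hv1 ((Subgroup.eq_bot_iff_forall _).1 h v ⟨hv, hvM⟩)
    exact hLM (hloc V hVp hV1 hVM)
  · intro hemp
    have hloc : ∀ W : Subgroup G, IsPGroup 2 W → W ≠ ⊥ → W ≤ M →
        Subgroup.normalizer (W : Set G) ≤ M := by
      intro W hW hW1 hWM
      by_contra hcon
      exact Set.eq_empty_iff_forall_notMem.1 hemp W
        ⟨hW, hW1, hWM, _, ⟨W, hW, hW1, rfl⟩, Subgroup.le_normalizer, hcon⟩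
    refine ⟨?_, ?_, ?_⟩
    · intro htop
      have hUn : U.Normal := Subgroup.normalizer_eq_top_iff.1 (hUM.symm.trans htop)
      exact hU1 (le_bot_iff.1 (hO ▸ CfsgLib.LocalEvenCharP.le_pCore hUn hUp))
    · have hUM' : U ≤ M := hUM ▸ Subgroup.le_normalizer
      rw [even_iff_two_dvd]
      obtain ⟨u', hu'⟩ := Subgroup.ne_bot_iff_exists_ne_one.1 hU1
      set u : G := (u' : G)
      have hu : u ∈ U := u'.2
      have hu1 : u ≠ 1 := fun h => hu' (Subtype.ext h)
      obtain ⟨k, hk⟩ := hUp ⟨u, hu⟩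
      have h2 : orderOf u ∣ 2 ^ k := orderOf_dvd_of_pow_eq_one (by simpa using congrArg Subtype.val hk)
      obtain ⟨j, -, hj⟩ := (Nat.dvd_prime_pow Nat.prime_two).1 h2
      have hj0 : j ≠ 0 := fun h => hu1 (orderOf_eq_one_iff.1 (by rw [hj, h, pow_zero]))
      exact dvd_trans (hj ▸ dvd_pow_self 2 hj0) (Subgroup.orderOf_dvd_natCard _ (hUM' hu))
    · intro g hg
      rw [← Nat.not_even_iff_odd, even_iff_two_dvd]
      intro hdvd
      set I := M ⊓ M.map (MulAut.conj g).toMonoidHom
      obtain ⟨t, ht⟩ := exists_prime_orderOf_dvd_card' 2 hdvd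
      -- a maximal 2-subgroup `T` of the intersection
      obtain ⟨P, hP⟩ := (IsPGroup.of_card (p := 2) (n := 1)
        (by rw [Nat.card_zpowers, ht, pow_one]) : IsPGroup 2 (Subgroup.zpowers t)).exists_le_sylow
      set T := (P : Subgroup I).map I.subtype with hT
      have hTp : IsPGroup 2 T := P.isPGroup'.map _
      have hTI : T ≤ I := Subgroup.map_subtype_le _
      have hT1 : T ≠ ⊥ := by
        intro h
        have h1 : ((t : I) : G) ∈ T := ⟨t, hP (Subgroup.mem_zpowers t), rfl⟩
        rw [h, Subgroup.mem_bot] at h1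
        have h2 : orderOf t = 1 := orderOf_eq_one_iff.2 (Subtype.ext h1)
        rw [ht] at h2
        norm_num at h2
      have hTM : T ≤ M := hTI.trans inf_le_left
      have hn1 := hloc T hTp hT1 hTM
      set T' := Cfsg.subgroupConjRight g T with hT'
      have hT'M : T' ≤ M := by
        intro x hx
        rw [hT', CfsgLib.SylowControl.mem_conjRight] at hx
        obtain ⟨m, hm, e⟩ := (hTI hx).2
        have e' : g * m * g⁻¹ = g * x * g⁻¹ := e
        rwa [← (mul_left_cancel (mul_right_cancel e') : m = x)]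
      have hn2 := hloc T' (hTp.map _) (CfsgLib.SylowControl.conjRight_ne_bot g hT1) hT'M
      obtain ⟨R, hR⟩ := hTp.exists_le_sylow
      obtain ⟨S₁, hS₁⟩ : ∃ S₁ : Sylow 2 G, T = (S₁ : Subgroup G) := by
        refine ⟨R, ?_⟩
        by_contra hne
        obtain ⟨y, hyR, hy, hyn⟩ :=
          CfsgLib.LocalEvenCharP.exists_mem_normalizer_not_mem R.isPGroup' hR hne
        have hRI : (R : Subgroup G) ⊓ Subgroup.normalizer (T : Set G) ≤ I := by
          intro r hr
          refine ⟨hn1 hr.2, g⁻¹ * r * g, hn2 ?_, by simp [mul_assoc]⟩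
          rw [hT', CfsgLib.SylowControl.normalizer_conjRight, CfsgLib.SylowControl.mem_conjRight]
          simpa [mul_assoc] using hr.2
        have hmax : ((R : Subgroup G) ⊓ Subgroup.normalizer (T : Set G)).subgroupOf I =
            (P : Subgroup I) := by
          refine P.is_maximal' ((R.isPGroup'.to_le inf_le_left).comap_of_injective I.subtype
            I.subtype_injective) ?_
          exact fun x hx => ⟨hR ⟨x, hx, rfl⟩, Subgroup.le_normalizer ⟨x, hx, rfl⟩⟩
        refine hy ⟨⟨y, hRI ⟨hyR, hyn⟩⟩, hmax.le ⟨hyR, hyn⟩, rfl⟩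
      have hS₁M : (S₁ : Subgroup G) ≤ M := hS₁ ▸ hTM
      have hS₂M : ((CfsgLib.SylowControl.conjSylow g S₁ : Sylow 2 G) : Subgroup G) ≤ M := by
        rw [CfsgLib.SylowControl.coe_conjSylow, ← hS₁]; exact hT'M
      obtain ⟨m, hm⟩ := CfsgLib.SylowControl.exists_conjRight_eq
        ((CfsgLib.SylowControl.conjSylow g S₁).subtype hS₂M) (S₁.subtype hS₁M)
      have hm' := congrArg (Subgroup.map M.subtype) hm
      rw [CfsgLib.SylowControl.map_conjRight_subtype, Sylow.coe_subtype, Sylow.coe_subtype,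
        Subgroup.map_subgroupOf_eq_of_le hS₁M, Subgroup.map_subgroupOf_eq_of_le hS₂M,
        CfsgLib.SylowControl.coe_conjSylow, ← CfsgLib.SylowControl.conjRight_mul, ← hS₁] at hm'
      have hgm : g * (m : G) ∈ Subgroup.normalizer (T : Set G) :=
        CfsgLib.SylowControl.mem_normalizer_iff_conjRight.2 hm'
      refine hg ?_
      have := M.mul_mem (hn1 hgm) (M.inv_mem m.2)
      simpa [mul_assoc] using this

end Cfsg.Agent.S2947
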