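import Cfsg.Statements.S2949
import Cfsg.Agent.Lib.LocalEven.JComp.Setting

set_option autoImplicit false
open Cfsg

namespace Cfsg.Agent.S2949

/-- Let G be a finite group of characteristic 2 type in which every 2-local subgroup is solvable and the centralizer of Ω₁(Z(S)) lies in N_G(S) for every Sylow 2-subgroup S; suppose O₂(G) = 1, fix a Sylow 2-subgroup S and a 2-local subgroup M containing N_G(J(S)) (J the Thompson subgroup generated by the elementary abelian 2-subgroups of largest order). For every T maximal (for the order of a largest elementary abelian subgroup, then the order of J(T), then the order of T) among the nontrivial 2-subgroups of M lying in a 2-local subgroup not inside M, there is a J(T)-component K not contained in M with J(T) the Thompson subgroup of every Sylow 2-subgroup of N_G(W_K) containing J(T), and O₂(⟨K, T⟩) ≠ 1. -/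
theorem result {G : Type*} [Group G] [Finite G] (hL : Cfsg.IsCharacteristicTwoType G) (hN : ∀ N : Subgroup G, Cfsg.IsTwoLocal N → Group.IsSolvable ↥N)
    (hZ : ∀ S : Sylow 2 G, Subgroup.centralizer (Cfsg.omegaCenterOf (S : Subgroup G) : Set G) ≤ Subgroup.normalizer ((S : Subgroup G) : Set G)) (hO : Cfsg.pCore 2 G = ⊥) (S : Sylow 2 G) (M : Subgroup G) (hM : Cfsg.IsTwoLocal M)
    (hMJ : Subgroup.normalizer (Cfsg.thompsonSubgroupOf 2 (S : Subgroup G) : Set G) ≤ M) (T : Subgroup G) (hT : T ∈ Cfsg.maxStraddlingTwoSubgroups M) :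
    (Cfsg.jComponentsOutside M T).Nonempty := by
  haveI : Fact (Nat.Prime 2) := ⟨Nat.prime_two⟩
  obtain ⟨⟨hTp, hT1, -, L, hL2, hTL, hLM⟩, hmax⟩ := id hT
  obtain ⟨T₂, hT₂, hTT₂⟩ := CfsgLib.JComp.exists_sylowIn_ge hTL hTp
  obtain ⟨hJ₂, hstr₂, hjo₂⟩ := CfsgLib.JComp.straddling_local hL hMJ hT hL2 hLM hT₂
    ((CfsgLib.JComp.jOf_le T).trans hTT₂)
  obtain ⟨-, h2⟩ := hmax T₂ hstr₂
  have ha : Cfsg.maxElemAbelianOrder T₂ = Cfsg.maxElemAbelianOrder T := by
    rw [← CfsgLib.JComp.maxElemAbelianOrder_jOf T₂, ← hJ₂,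
      CfsgLib.JComp.maxElemAbelianOrder_jOf]
  have heq : T = T₂ := Subgroup.eq_of_le_of_card_ge hTT₂ ((h2 ha).2 (by rw [← hJ₂]))
  subst heq
  have h := CfsgLib.JComp.Over.mk' hN hZ hjo₂
  have hNM := CfsgLib.JComp.normalizer_jOf_le_of_max hMJ hT
  obtain ⟨x, hx, hxM⟩ : ∃ x, CfsgLib.JComp.IsJLine T L x ∧ ¬ CfsgLib.JComp.kOf T L x ≤ M := by
    by_contra hcon
    push Not at hcon
    exact hLM (h.le_sup_components.trans
      (sup_le (iSup₂_le hcon) (inf_le_right.trans hNM)))
  set K := CfsgLib.JComp.kOf T L x with hK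
  have hKc := h.isJComponent_kOf hx
  have hKL : K ≤ L := (h.kprops hx).le_pre.trans (CfsgLib.JComp.pre_le L x)
  refine ⟨K, ⟨hKc, fun S' hJS hS' => ?_⟩, hxM, fun hbot => ?_⟩
  · exact ((CfsgLib.JComp.straddling_local hL hMJ hT (CfsgLib.JComp.isTwoLocal_normalizer_wOf hKc)
      (fun hle => hxM ((CfsgLib.JComp.component_le_normalizer_wOf K).trans hle)) hS' hJS).1).symm
  · have hQ : Cfsg.pCoreOf 2 L ≤ Cfsg.pCoreOf 2 (K ⊔ T) :=
      CfsgLib.LocalEvenCharP.le_pCoreOf (h.core_le.trans le_sup_right)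
        ((sup_le hKL h.syl.1).trans (CfsgLib.LocalEvenCharP.le_normalizer_pCoreOf 2 L))
        h.isPGroup_core
    rw [hbot, le_bot_iff] at hQ
    refine hT1 (le_bot_iff.1 fun g _ => ?_)
    have := h.cent
    rw [hQ] at this
    exact this (Subgroup.mem_centralizer_iff.2 fun y hy => by
      rw [SetLike.mem_coe, Subgroup.mem_bot] at hy
      rw [hy, one_mul, mul_one])

end Cfsg.Agent.S2949
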