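import Cfsg.Statements.S3058
import Cfsg.Agent.Lib.LocalEvenSix.StronglyP
import Cfsg.Agent.Lib.Coprime.HyperplaneGeneration

set_option autoImplicit false
open Cfsg

namespace Cfsg.Agent.S3058

/-- Let p be a prime and G a finite group whose Sylow p-subgroups are not chain-connected through nontrivial intersections (so G has a strongly p-embedded subgroup). If N and M are normal subgroups of G whose orders are both divisible by p, then the order of N ∩ M is divisible by p. Consequently, among the normal subgroups of G whose order is divisible by p there is a smallest one (the intersection of all of them). -/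
theorem result {G : Type*} [Group G] [Finite G]
    (p : ℕ) [Fact p.Prime] (hG : ¬ Cfsg.IsSylowChainConnected p G)
    (N M : Subgroup G) [N.Normal] [M.Normal] (hN : p ∣ Nat.card N) (hM : p ∣ Nat.card M) :
    p ∣ Nat.card ↥(N ⊓ M) := by
  by_contra hK
  have hp : p.Prime := Fact.out
  obtain ⟨H, hH, hpH, hse⟩ := CfsgLib.LocalEvenSix.exists_SEc_of_not_chainConnected hG
  obtain ⟨P, hP⟩ := hse.exists_sylow hpH
  have hsyl : ∀ X : Subgroup G, X.Normal → p ∣ Nat.card X → ∃ x : G, x ∈ (P : Subgroup G) ∧ x ∈ X ∧ orderOf x = p := by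
    intro X hXn hX
    obtain ⟨x, hxX, ho⟩ := CfsgLib.LocalEvenSix.exists_orderOf_eq_of_dvd hX
    obtain ⟨Q, hQ⟩ := (IsPGroup.of_card (n := 1) (G := Subgroup.zpowers x)
      (by rw [Nat.card_zpowers, ho, pow_one])).exists_le_sylow (p := p)
    obtain ⟨g, rfl⟩ := MulAction.exists_smul_eq G P Q
    have hgx := hQ (Subgroup.mem_zpowers x)
    rw [Sylow.coe_subgroup_smul, Subgroup.mem_pointwise_smul_iff_inv_smul_mem] at hgx
    refine ⟨_, hgx, ?_, ?_⟩
    · simpa [MulAut.smul_def] using hXn.conj_mem x hxX g⁻¹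
    · rw [← ho, ← map_inv, MulAut.smul_def]
      exact (MulAut.conj g⁻¹).orderOf_eq x
  obtain ⟨x, hxP, hxN, hxo⟩ := hsyl N inferInstance hN
  obtain ⟨y, hyP, hyM, hyo⟩ := hsyl M inferInstance hM
  have hPK : ∀ z ∈ (P : Subgroup G), z ∈ N ⊓ M → z = 1 := fun z hz hzK => by
    by_contra h1
    refine hK ?_
    have h2 : p ∣ orderOf z := by
      obtain ⟨k, hk⟩ := IsPGroup.iff_orderOf.mp P.isPGroup' ⟨z, hz⟩
      rw [Subgroup.orderOf_mk] at hk
      rcases k with _ | k
      · exact absurd (orderOf_eq_one_iff.mp (by simpa using hk)) h1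
      · exact hk ▸ dvd_pow_self p k.succ_ne_zero
    exact h2.trans (Subgroup.orderOf_dvd_natCard _ hzK)
  have hcomm : x * y = y * x := by
    have hc : x * y * x⁻¹ * y⁻¹ ∈ N ⊓ M :=
      Subgroup.mem_inf.mpr ⟨by
        rw [show x * y * x⁻¹ * y⁻¹ = x * (y * x⁻¹ * y⁻¹) by group]
        exact mul_mem hxN (‹N.Normal›.conj_mem _ (inv_mem hxN) y),
      mul_mem (‹M.Normal›.conj_mem y hyM x) (inv_mem hyM)⟩
    have h1 := hPK _ (mul_mem (mul_mem (mul_mem hxP hyP) (inv_mem hxP)) (inv_mem hyP)) hc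
    rwa [mul_inv_eq_one, mul_inv_eq_iff_eq_mul] at h1
  set E := Subgroup.closure ({x, y} : Set G) with hE
  have hEP : E ≤ (P : Subgroup G) := by
    rw [hE, Subgroup.closure_le]
    rintro z (rfl | rfl) <;> assumption
  haveI hEc : IsMulCommutative E := by
    refine Subgroup.isMulCommutative_closure ?_
    rintro a (rfl | rfl) b (rfl | rfl) <;> simp [hcomm]
  have hEel : Cfsg.IsElementaryAbelian p E := by
    refine ⟨hEc, fun a ha => ?_⟩
    let S : Subgroup E :=
      { carrier := {a | a ^ p = 1}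
        one_mem' := one_pow p
        mul_mem' := fun {a b} (ha : a ^ p = 1) (hb : b ^ p = 1) => by
          show (a * b) ^ p = 1
          rw [(show Commute a b from Subtype.ext (setLike_mul_comm a.2 b.2)).mul_pow, ha, hb, one_mul]
        inv_mem' := fun {a} (ha : a ^ p = 1) => by show a⁻¹ ^ p = 1; rw [inv_pow, ha, inv_one] }
    have hle : E ≤ S.map E.subtype := by
      refine (Subgroup.closure_le (S.map E.subtype)).mpr ?_
      rintro z (rfl | rfl)
      · exact ⟨⟨z, Subgroup.subset_closure (Or.inl rfl)⟩, Subtype.ext (hxo ▸ pow_orderOf_eq_one z), rfl⟩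
      · exact ⟨⟨z, Subgroup.subset_closure (Or.inr rfl)⟩, Subtype.ext (hyo ▸ pow_orderOf_eq_one z), rfl⟩
    obtain ⟨w, hw, rfl⟩ := hle ha
    exact congrArg Subtype.val (hw : w ^ p = 1)
  have hxE : x ∈ E := Subgroup.subset_closure (Or.inl rfl)
  have hyE : y ∈ E := Subgroup.subset_closure (Or.inr rfl)
  have hE1 : E ≠ ⊥ := fun h => by
    rw [h, Subgroup.mem_bot] at hxE
    rw [hxE, orderOf_one] at hxo
    exact hp.ne_one hxo.symm
  have hKH : N ⊓ M ≤ H := by
    have hgen := CfsgLib.Coprime39.eq_hyperCent hEel hE1 (X := N ⊓ M)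
      (((hp.coprime_iff_not_dvd).mpr hK).symm)
      (fun e _ => Subgroup.subset_normalizer_of_normal (Set.mem_univ e))
    refine hgen.ge.trans (iSup_le fun B => inf_le_right.trans ?_)
    have hBp : IsPGroup p B.1 := P.isPGroup'.to_le (B.2.1.trans hEP)
    have hB1 : B.1 ≠ ⊥ := fun h => by
      have hi := B.2.2
      rw [h, Subgroup.relIndex_bot_left] at hi
      have hz : Subgroup.zpowers x = E := Subgroup.eq_of_le_of_card_ge (Subgroup.zpowers_le.mpr hxE)
        (by rw [hi, Nat.card_zpowers, hxo])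
      have hyN : y ∈ N := (Subgroup.zpowers_le.mpr hxN) (hz.symm ▸ hyE)
      have := hPK y hyP ⟨hyN, hyM⟩
      rw [this, orderOf_one] at hyo
      exact hp.ne_one hyo.symm
    refine le_trans (fun c hc => ?_) (hse.normalizer_le ((B.2.1.trans hEP).trans hP)
      (CfsgLib.LocalEvenSix.dvd_card_of_ne_bot hBp hB1))
    refine Subgroup.mem_normalizer_iff.mpr fun b => ⟨fun hb => ?_, fun hb => ?_⟩
    · rw [← Subgroup.mem_centralizer_iff.mp hc b hb, mul_inv_cancel_right]; exact hb
    · have h1 := Subgroup.mem_centralizer_iff.mp hc _ hb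
      have h2 : c * b * c⁻¹ = b := by
        calc c * b * c⁻¹ = c⁻¹ * (c * b * c⁻¹ * c) := by rw [h1]; group
          _ = b := by group
      rwa [h2] at hb
  apply hH
  have hNH : N ≤ H := fun n hn => by
    have h1 : n * y * n⁻¹ * y⁻¹ ∈ N ⊓ M := Subgroup.mem_inf.mpr ⟨by
      rw [show n * y * n⁻¹ * y⁻¹ = n * (y * n⁻¹ * y⁻¹) by group]
      exact mul_mem hn (‹N.Normal›.conj_mem _ (inv_mem hn) y),
      mul_mem (‹M.Normal›.conj_mem y hyM n) (inv_mem hyM)⟩
    have h2 : n * y * n⁻¹ ∈ H := by simpa using mul_mem (hKH h1) (hP hyP)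
    exact inv_mem_iff.mp (hse.mem_of_conj (g := n⁻¹) (hP hyP) hyo (by simpa using h2))
  exact top_le_iff.mp ((hse.sup_normal_eq_top hpH N hN).ge.trans (sup_le le_rfl hNH))

end Cfsg.Agent.S3058
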