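import Cfsg.Statements.S4539
import Cfsg.Agent.Lib.Blk4.RankTwoBound
import Cfsg.Agent.Lib.BlockCover.DefectGroup

set_option autoImplicit false
set_option linter.style.haveILetI false
open Cfsg

namespace Cfsg.Agent.S4539

/-- Let B be a p-block of the finite group G (relative to a maximal ideal M of the algebraic integers containing p) of defect d with defect group D. Let z be an element of D commuting with every element of D, and let b be a block of the centralizer C of z with defect group D that induces B (a major subsection (z, b)). If b has p-regular rank at most two, then B contains at most p ^ d irreducible characters. -/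
theorem result {G : Type*} [Group G] [Finite G] (p : ℕ) [Fact p.Prime] (M : Ideal Cfsg.AlgInt) (hM : Cfsg.IsPModular p M) (B : Set (Cfsg.IrrCharacter G)) (hB : Cfsg.IsPBlock M B) (D : Subgroup G) (hD : Cfsg.IsDefectGroup p M B D) (z : G) (hzD : z ∈ D) (hzc : ∀ d ∈ D, d * z = z * d) (b : Set (Cfsg.IrrCharacter ↥(Subgroup.centralizer ({z} : Set G)))) (hb : Cfsg.IsInducedBlock M (Subgroup.centralizer ({z} : Set G)) b B) (hbD : Cfsg.IsDefectGroup p M b (D.subgroupOf (Subgroup.centralizer ({z} : Set G)))) (hl : Cfsg.blockRank p b ≤ 2) : Nat.card B ≤ p ^ Cfsg.blockDefect p B := by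
  classical
  haveI : Fintype G := Fintype.ofFinite G
  haveI : Fintype (ConjClasses G) := Fintype.ofFinite _
  haveI : Fintype (Subgroup.centralizer ({z} : Set G)) := Fintype.ofFinite _
  haveI : Fintype (ConjClasses (Subgroup.centralizer ({z} : Set G))) := Fintype.ofFinite _
  have hcD := CfsgLib.BlockCover.natCard_defect hM hB hD
  have hd : blockDefect p b = blockDefect p B := by
    have hle : D ≤ Subgroup.centralizer ({z} : Set G) := fun x hx =>
      Subgroup.mem_centralizer_singleton_iff.2 (hzc x hx)
    have h1 := CfsgLib.BlockCover.natCard_defect hM hb.1 hbD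
    rw [Nat.card_congr (Subgroup.subgroupOfEquivOfLe hle).toEquiv, hcD] at h1
    exact (Nat.pow_right_injective hM.1.two_le h1).symm
  obtain ⟨m, -, hm⟩ := (Nat.dvd_prime_pow hM.1).1
    (hcD ▸ (Subgroup.orderOf_dvd_natCard D hzD))
  exact CfsgLib.Blk4.RankTwo.card_le z b hM hm hb hd hl

end Cfsg.Agent.S4539
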