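import Cfsg.Statements.S2530
-- import your own Cfsg.Agent.* helpers here

set_option autoImplicit false
open Cfsg

namespace Cfsg.Agent.S2530

open CoxeterMatrix

abbrev W (n : ℕ) := (CoxeterMatrix.A n).Group

noncomputable abbrev csys (n : ℕ) : CoxeterSystem (CoxeterMatrix.A n) (W n) :=
  (CoxeterMatrix.A n).toCoxeterSystem

theorem A_apply {n : ℕ} (i j : Fin n) : (CoxeterMatrix.A n) i j =
    if i = j then 1 else (if (j : ℕ) + 1 = i ∨ (i : ℕ) + 1 = j then 3 else 2) := rfl

/-- The generators, indexed by `ℕ`. -/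
noncomputable def sig (n i : ℕ) : W n := if h : i < n then (csys n).simple ⟨i, h⟩ else 1

/-- The coset representatives. -/
noncomputable def crep (n : ℕ) : ℕ → ℕ → W n
  | 0, _ => 1
  | l + 1, k => sig n k * crep n l (k + 1)

theorem sig_sq (n i : ℕ) : sig n i * sig n i = 1 := by
  unfold sig; split_ifs
  · exact (csys n).simple_mul_simple_self _
  · exact one_mul 1

theorem sig_inv (n i : ℕ) : (sig n i)⁻¹ = sig n i := inv_eq_of_mul_eq_one_right (sig_sq n i)

theorem sig_comm (n : ℕ) {i j : ℕ} (h : i + 1 < j ∨ j + 1 < i) : Commute (sig n i) (sig n j) := by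
  unfold sig; split_ifs with hi hj
  · have h2 : (CoxeterMatrix.A n) ⟨i, hi⟩ ⟨j, hj⟩ = 2 := by
      rw [A_apply, if_neg (by simp [Fin.ext_iff]; omega), if_neg (by simp only; omega)]
    have := (csys n).simple_mul_simple_pow ⟨i, hi⟩ ⟨j, hj⟩
    rw [h2, pow_two] at this
    have h3 := inv_eq_of_mul_eq_one_right this
    rw [mul_inv_rev, CoxeterSystem.inv_simple, CoxeterSystem.inv_simple] at h3
    exact h3.symm
  · exact Commute.one_right _
  · exact Commute.one_left _
  · exact Commute.one_left _

theorem sig_braid (n : ℕ) {i : ℕ} (h : i + 1 < n) :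
    sig n (i + 1) * sig n i * sig n (i + 1) = sig n i * sig n (i + 1) * sig n i := by
  have hp : (sig n (i + 1) * sig n i) ^ 3 = 1 := by
    unfold sig
    rw [dif_pos h, dif_pos (by omega)]
    have h3 : (CoxeterMatrix.A n) ⟨i + 1, h⟩ ⟨i, by omega⟩ = 3 := by
      rw [A_apply, if_neg (by simp [Fin.ext_iff]), if_pos (by simp)]
    rw [← h3]
    exact (csys n).simple_mul_simple_pow _ _
  have h2 : sig n (i + 1) * sig n i * sig n (i + 1) * (sig n i * sig n (i + 1) * sig n i) = 1 := by
    rw [← hp]; simp only [pow_succ, pow_zero, one_mul, mul_assoc]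
  have := inv_eq_of_mul_eq_one_right h2
  rw [mul_inv_rev, mul_inv_rev, sig_inv, sig_inv, ← mul_assoc] at this
  exact this

theorem crep_comm (n : ℕ) : ∀ (l k i : ℕ), i + 1 < k → Commute (sig n i) (crep n l k)
  | 0, _, _, _ => Commute.one_right _
  | l + 1, k, _, h => (sig_comm n (Or.inl h)).mul_right (crep_comm n l (k + 1) _ (by omega))

theorem sig_crep (n : ℕ) : ∀ (l k i : ℕ), k < i → i < k + l → k + l ≤ n →
    sig n i * crep n l k = crep n l k * sig n (i - 1)
  | 0, k, i, h1, h2, _ => by omega
  | l + 1, k, i, h1, h2, h3 => by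
    show sig n i * (sig n k * crep n l (k + 1)) = sig n k * crep n l (k + 1) * sig n (i - 1)
    by_cases hi : k + 1 < i
    · rw [← mul_assoc, (sig_comm n (Or.inr hi)).eq, mul_assoc,
        sig_crep n l (k + 1) i hi (by omega) (by omega), mul_assoc]
    · obtain rfl : i = k + 1 := by omega
      obtain ⟨l, rfl⟩ : ∃ l', l = l' + 1 := ⟨l - 1, by omega⟩
      show sig n (k + 1) * (sig n k * (sig n (k + 1) * crep n l (k + 1 + 1))) =
        sig n k * (sig n (k + 1) * crep n l (k + 1 + 1)) * sig n (k + 1 - 1)
      rw [Nat.add_sub_cancel, ← mul_assoc, ← mul_assoc, sig_braid n (by omega), mul_assoc,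
        (crep_comm n l (k + 1 + 1) k (by omega)).eq]
      simp only [mul_assoc]

theorem inclusion_liftable (m : ℕ) :
    (CoxeterMatrix.A m).IsLiftable (fun i : Fin m => (csys (m + 1)).simple i.castSucc) := by
  intro i j
  have h : (CoxeterMatrix.A m) i j = (CoxeterMatrix.A (m + 1)) i.castSucc j.castSucc := by
    simp [A_apply, Fin.ext_iff]
  rw [h]
  exact (csys (m + 1)).simple_mul_simple_pow _ _

theorem finite_card_le : ∀ n : ℕ, Finite (W n) ∧ Nat.card (W n) ≤ Nat.factorial (n + 1)
  | 0 => by
    haveI : Subsingleton (W 0) := by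
      have h : ∀ w : W 0, w = 1 := fun w =>
        (csys 0).simple_induction_left (p := fun w => w = 1) w rfl (fun _ i => i.elim0)
      exact ⟨fun a b => (h a).trans (h b).symm⟩
    exact ⟨inferInstance, by simp⟩
  | m + 1 => by
    obtain ⟨hfin, hcard⟩ := finite_card_le m
    let inc : W m →* W (m + 1) := (csys m).lift ⟨_, inclusion_liftable m⟩
    have hinc : ∀ i : Fin m, inc ((csys m).simple i) = sig (m + 1) i.val := by
      intro i
      rw [CoxeterSystem.lift_apply_simple, sig, dif_pos (by omega)]
      rfl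
    let f : Fin (m + 2) × W m → W (m + 1) := fun p =>
      crep (m + 1) (m + 1 - p.1.val) p.1.val * inc p.2
    have hsurj : Function.Surjective f := by
      intro w
      refine (csys (m + 1)).simple_induction_left (p := fun w => ∃ p, f p = w) w ?_ ?_
      · exact ⟨(Fin.last _, 1), by simp [f, crep]⟩
      · rintro w i ⟨⟨⟨k, hk⟩, x⟩, rfl⟩
        have hi : (csys (m + 1)).simple i = sig (m + 1) i.val := by
          rw [sig, dif_pos i.2]
        rw [hi]
        rcases lt_trichotomy (i.val + 1) k with h | h | h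
        · refine ⟨(⟨k, hk⟩, (csys m).simple ⟨i.val, by omega⟩ * x), ?_⟩
          show crep _ _ k * inc _ = sig _ i.val * (crep _ _ k * inc x)
          rw [map_mul, hinc, ← mul_assoc, ← mul_assoc, (crep_comm _ _ k i.val h).eq]
        · refine ⟨(⟨i.val, by omega⟩, x), ?_⟩
          show crep _ (m + 1 - i.val) i.val * inc x = sig _ i.val * (crep _ (m + 1 - k) k * inc x)
          rw [show m + 1 - i.val = (m + 1 - k) + 1 by omega, ← h]
          exact mul_assoc _ _ _
        · rcases eq_or_lt_of_le (Nat.lt_succ_iff.1 h) with h' | h'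
          · refine ⟨(⟨k + 1, by omega⟩, x), ?_⟩
            show crep _ (m + 1 - (k + 1)) (k + 1) * inc x = sig _ i.val * (crep _ (m + 1 - k) k * inc x)
            rw [show m + 1 - k = (m + 1 - (k + 1)) + 1 by omega, ← h']
            show _ = sig _ k * (sig _ k * crep _ _ (k + 1) * inc x)
            rw [mul_assoc, ← mul_assoc, sig_sq, one_mul]
          · refine ⟨(⟨k, hk⟩, (csys m).simple ⟨i.val - 1, by omega⟩ * x), ?_⟩
            show crep _ _ k * inc _ = sig _ i.val * (crep _ _ k * inc x)
            rw [map_mul, hinc, ← mul_assoc, ← mul_assoc,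
              sig_crep (m + 1) (m + 1 - k) k i.val h' (by omega) (by omega)]
    haveI := hfin
    refine ⟨Finite.of_surjective f hsurj, (Nat.card_le_card_of_surjective f hsurj).trans ?_⟩
    rw [Nat.card_prod, Nat.card_eq_fintype_card (α := Fin (m + 2)), Fintype.card_fin,
      Nat.factorial_succ (m + 1)]
    exact Nat.mul_le_mul_left _ hcard

theorem swap_liftable (n : ℕ) :
    (CoxeterMatrix.A n).IsLiftable (fun i : Fin n => Equiv.swap i.castSucc i.succ) := by
  intro i j
  rw [A_apply]
  split_ifs with h1 h2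
  · subst h1; simp
  · apply orderOf_dvd_iff_pow_eq_one.1
    rw [Equiv.Perm.IsThreeCycle.orderOf]
    beta_reduce
    rcases h2 with h | h
    · have he : j.succ = i.castSucc := Fin.ext (by simpa using h)
      rw [← he, Equiv.swap_comm j.castSucc]
      exact Equiv.Perm.isThreeCycle_swap_mul_swap_same (by simp [Fin.ext_iff]; omega)
        (by simp [Fin.ext_iff]) (by simp [Fin.ext_iff]; omega)
    · have he : i.succ = j.castSucc := Fin.ext (by simpa using h)
      rw [Equiv.swap_comm i.castSucc, he]
      exact Equiv.Perm.isThreeCycle_swap_mul_swap_same (by simp [Fin.ext_iff]; omega)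
        (by simp [Fin.ext_iff]) (by simp [Fin.ext_iff]; omega)
  · have hd : Equiv.Perm.Disjoint (Equiv.swap i.castSucc i.succ) (Equiv.swap j.castSucc j.succ) := by
      intro x
      simp only [Fin.ext_iff, not_or] at h1 h2
      by_cases hx : x = i.castSucc ∨ x = i.succ
      · right
        apply Equiv.swap_apply_of_ne_of_ne <;> rcases hx with rfl | rfl <;>
          simp [Fin.ext_iff] <;> omega
      · left
        rw [not_or] at hx
        exact Equiv.swap_apply_of_ne_of_ne hx.1 hx.2
    rw [hd.commute.mul_pow, pow_two, pow_two, Equiv.swap_mul_self, Equiv.swap_mul_self, one_mul]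

/-- The Coxeter presentation of the symmetric group: for every n, the symmetric group on n+1 letters is the Coxeter group of type A_n with the adjacent transpositions (i, i+1) as simple reflections; that is, it is presented by generators r_1, …, r_n subject to r_i² = 1, (r_i r_j)² = 1 for |i − j| > 1 and (r_i r_{i+1})³ = 1, with r_i mapping to (i, i+1). -/
theorem result (n : ℕ) :
    ∃ cs : CoxeterSystem (CoxeterMatrix.A n) (Equiv.Perm (Fin (n + 1))), ∀ i : Fin n, cs.simple i = Equiv.swap i.castSucc i.succ := by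
  let φ : W n →* Equiv.Perm (Fin (n + 1)) := (csys n).lift ⟨_, swap_liftable n⟩
  have hφ : ∀ i, φ ((csys n).simple i) = Equiv.swap i.castSucc i.succ :=
    fun i => (csys n).lift_apply_simple (swap_liftable n) i
  have hsurj : Function.Surjective φ := by
    rw [← MonoidHom.mrange_eq_top, eq_top_iff, ← Equiv.Perm.mclosure_swap_castSucc_succ n,
      Submonoid.closure_le]
    rintro _ ⟨i, rfl⟩
    exact ⟨_, hφ i⟩
  obtain ⟨hfin, hcard⟩ := finite_card_le n
  haveI := hfin
  have hbij : Function.Bijective φ := by
    refine hsurj.bijective_of_nat_card_le ?_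
    rw [Nat.card_eq_fintype_card (α := Equiv.Perm (Fin (n + 1))), Fintype.card_perm, Fintype.card_fin]
    exact hcard
  exact ⟨(csys n).map (MulEquiv.ofBijective φ hbij), fun i => hφ i⟩

end Cfsg.Agent.S2530
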