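import Cfsg.Statements.S5515
import Cfsg.Agent.Helper57OutEight
import Cfsg.Agent.Lib.Components.FStar

set_option autoImplicit false
open Cfsg

namespace Cfsg.Agent.S5515

/-- A group with self-centralizing normal copy of `T` inside the automorphism group of `T`. -/
theorem exists_embedding {G T : Type*} [Group G] [Group T] (N : Subgroup G) [N.Normal] (e : ↥N ≃* T)
    (hcent : Subgroup.centralizer (N : Set G) ≤ N) (hT : Subgroup.center T = ⊥) {n : ℕ}
    (hn : Nat.card (G ⧸ N) = n) :
    ∃ ι : G →* MulAut T, Function.Injective ι ∧ Cfsg.Inn T ≤ ι.range ∧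
      Nat.card ↥(ι.range.map (QuotientGroup.mk' (Cfsg.Inn T))) = n := by
  let ι : G →* MulAut T :=
    { toFun := fun g => (e.symm.trans (MulAut.conjNormal g)).trans e
      map_one' := MulEquiv.ext fun t => by simp
      map_mul' := fun a b => MulEquiv.ext fun t => by simp [MulAut.mul_apply] }
  have hι : ∀ g t, ι g t = e (MulAut.conjNormal g (e.symm t)) := fun g t => rfl
  have hιN : ∀ k : ↥N, ι k = MulAut.conj (e k) := fun k => MulEquiv.ext fun t => by
    rw [hι, MulAut.conj_apply, show MulAut.conjNormal (k : G) (e.symm t) = k * e.symm t * k⁻¹ from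
      Subtype.ext (MulAut.conjNormal_apply (k : G) (e.symm t))]
    simp
  have hinj : Function.Injective ι := by
    refine (injective_iff_map_eq_one ι).2 fun g hg => ?_
    have hgN : g ∈ N := hcent (Subgroup.mem_centralizer_iff.2 fun k hk => by
      have h := DFunLike.congr_fun hg (e ⟨k, hk⟩)
      rw [hι, MulAut.one_apply, e.injective.eq_iff, MulEquiv.symm_apply_apply, Subtype.ext_iff,
        MulAut.conjNormal_apply] at h
      exact (mul_inv_eq_iff_eq_mul.1 h).symm)
    have h1 : e ⟨g, hgN⟩ ∈ Subgroup.center T := by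
      rw [Subgroup.mem_center_iff]
      intro t
      have h2 := DFunLike.congr_fun ((hιN ⟨g, hgN⟩).symm.trans hg) t
      rw [MulAut.conj_apply, MulAut.one_apply, mul_inv_eq_iff_eq_mul] at h2
      exact h2.symm
    rw [hT, Subgroup.mem_bot, e.map_eq_one_iff] at h1
    exact congrArg Subtype.val h1
  refine ⟨ι, hinj, ?_, ?_⟩
  · rintro _ ⟨t, rfl⟩
    exact ⟨(e.symm t : G), by rw [hιN]; simp⟩
  · rw [← MonoidHom.range_comp, ← hn]
    have hker : ((QuotientGroup.mk' (Cfsg.Inn T)).comp ι).ker = N := by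
      ext g
      rw [MonoidHom.mem_ker, MonoidHom.comp_apply, QuotientGroup.mk'_apply, QuotientGroup.eq_one_iff]
      constructor
      · rintro ⟨t, ht⟩
        have h' : ι (e.symm t : G) = ι g := by rw [hιN, ← ht]; simp
        exact hinj h' ▸ (e.symm t).2
      · intro hg
        exact ⟨e ⟨g, hg⟩, (hιN ⟨g, hg⟩).symm⟩
    exact Nat.card_congr ((QuotientGroup.quotientKerEquivRange _).symm.trans
      (QuotientGroup.quotientMulEquivOfEq hker)).toEquiv

/-- A subgroup of order six of `Sym(4)` fixes a point. -/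
theorem eq_stabilizer_of_card_six {S : Subgroup (Equiv.Perm (Fin 4))} (hS : Nat.card S = 6) :
    ∃ i : Fin 4, S = MulAction.stabilizer (Equiv.Perm (Fin 4)) i := by
  have : Fact (Nat.Prime 3) := ⟨Nat.prime_three⟩
  obtain ⟨c, hc⟩ := exists_prime_orderOf_dvd_card' (G := ↥S) 3 (by rw [hS]; norm_num)
  have hc' : orderOf (c : Equiv.Perm (Fin 4)) = 3 := by rw [Subgroup.orderOf_coe, hc]
  have key : ∀ x : Equiv.Perm (Fin 4), x * x * x = 1 → x ≠ 1 → ∃ i, x i = i ∧ ∀ j, x j = j → j = i := by
    decide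
  obtain ⟨i, hi, huniq⟩ := key (c : Equiv.Perm (Fin 4))
    (by rw [← pow_three', ← hc', pow_orderOf_eq_one])
    (fun h => by rw [h, orderOf_one] at hc'; omega)
  have hidx : (Subgroup.zpowers c).index = 2 := by
    have h := (Subgroup.zpowers c).card_mul_index
    rw [Nat.card_zpowers, hc, hS] at h
    omega
  have hnorm := Subgroup.normal_of_index_eq_two hidx
  have hle : S ≤ MulAction.stabilizer (Equiv.Perm (Fin 4)) i := by
    intro s hs
    rw [MulAction.mem_stabilizer_iff, Equiv.Perm.smul_def]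
    refine huniq _ ?_
    have h := hnorm.conj_mem c (Subgroup.mem_zpowers c) ⟨s, hs⟩⁻¹
    rw [inv_inv, Subgroup.mem_zpowers_iff] at h
    obtain ⟨k, hk⟩ := h
    have hk' : (c : Equiv.Perm (Fin 4)) ^ k = s⁻¹ * c * s := by simpa using congrArg Subtype.val hk
    have hfix : ((c : Equiv.Perm (Fin 4)) ^ k) i = i :=
      (MulAction.mem_stabilizer_iff (G := Equiv.Perm (Fin 4)) (a := i)).1
        (zpow_mem (show (c : Equiv.Perm (Fin 4)) ∈ MulAction.stabilizer (Equiv.Perm (Fin 4)) i from hi) k)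
    rw [hk', Equiv.Perm.mul_apply, Equiv.Perm.mul_apply] at hfix
    have := congrArg s hfix
    simpa using this
  refine ⟨i, Subgroup.eq_of_le_of_card_ge hle ?_⟩
  have horb : MulAction.orbit (Equiv.Perm (Fin 4)) i = Set.univ :=
    Set.eq_univ_of_forall fun j => ⟨Equiv.swap i j, Equiv.swap_apply_left i j⟩
  have h4 : Nat.card (MulAction.stabilizer (Equiv.Perm (Fin 4)) i) * 4 = 24 := by
    have h := (MulAction.stabilizer (Equiv.Perm (Fin 4)) i).card_mul_index
    rw [MulAction.index_stabilizer, horb, Set.ncard_univ, Nat.card_fin,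
      Nat.card_eq_fintype_card (α := Equiv.Perm (Fin 4)), Fintype.card_perm, Fintype.card_fin] at h
    exact h
  omega

/-- Subgroups of order six of a copy of `Sym(4)` are conjugate. -/
theorem conj_of_card_six {G : Type*} [Group G] (θ : G ≃* Equiv.Perm (Fin 4)) {S S' : Subgroup G}
    (hS : Nat.card S = 6) (hS' : Nat.card S' = 6) : ∃ w : G, S.map (MulAut.conj w).toMonoidHom = S' := by
  have hcard : ∀ U : Subgroup G, Nat.card (U.map θ.toMonoidHom) = Nat.card U := fun U =>
    (Nat.card_congr (U.equivMapOfInjective _ θ.injective).toEquiv).symm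
  obtain ⟨i, hi⟩ := eq_stabilizer_of_card_six ((hcard S).trans hS)
  obtain ⟨j, hj⟩ := eq_stabilizer_of_card_six ((hcard S').trans hS')
  refine ⟨θ.symm (Equiv.swap i j), Subgroup.map_injective (f := θ.toMonoidHom) θ.injective ?_⟩
  have hcomp : θ.toMonoidHom.comp (MulAut.conj (θ.symm (Equiv.swap i j))).toMonoidHom =
      (MulAut.conj (Equiv.swap i j)).toMonoidHom.comp θ.toMonoidHom := MonoidHom.ext fun x => by simp
  rw [Subgroup.map_map, hcomp, ← Subgroup.map_map, hi, hj,
    ← MulAction.stabilizer_smul_eq_stabilizer_map_conj]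
  congr 1
  exact Equiv.swap_apply_left i j

set_option maxHeartbeats 1600000 in
/-- Let G and G′ be finite groups whose generalized Fitting subgroups are isomorphic to PΩ⁺(8, 3) (the commutator subgroup of the isometry group of the hyperbolic quadratic form in dimension 8 over the field with three elements, modulo its centre) with quotients isomorphic to the symmetric group of degree 3. Then G and G′ are isomorphic. -/
theorem result {G G' : Type*} [Group G] [Finite G] [Group G'] [Finite G'] (hF : Nonempty (↥(Cfsg.generalizedFittingSubgroup G) ≃* Cfsg.POmega (ZMod 3) (Cfsg.quadFormPlus 4 (ZMod 3)))) (hF' : Nonempty (↥(Cfsg.generalizedFittingSubgroup G') ≃* Cfsg.POmega (ZMod 3) (Cfsg.quadFormPlus 4 (ZMod 3)))) [hn : (Cfsg.generalizedFittingSubgroup G).Normal] [hn' : (Cfsg.generalizedFittingSubgroup G').Normal] (hq : Nonempty (G ⧸ Cfsg.generalizedFittingSubgroup G ≃* Equiv.Perm (Fin 3))) (hq' : Nonempty (G' ⧸ Cfsg.generalizedFittingSubgroup G' ≃* Equiv.Perm (Fin 3))) : Nonempty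 (G ≃* G') := by
  rw [← CfsgLib.Orth.plusQ_coe] at hF hF'
  obtain ⟨e⟩ := hF
  obtain ⟨e'⟩ := hF'
  obtain ⟨q⟩ := hq
  obtain ⟨q'⟩ := hq'
  set T := Cfsg.POmega (ZMod 3) ⇑(CfsgLib.Orth.plusQ 4 (ZMod 3))
  have hF3 : Fintype.card (ZMod 3) = 3 ^ 1 := ZMod.card 3
  obtain ⟨θ₀⟩ := Cfsg.Agent.OutEight57.out_eight_odd (F := ZMod 3) (f := 1) hF3 (by norm_num)
  have hfst : Function.Bijective (MonoidHom.fst (Equiv.Perm (Fin 4)) (Multiplicative (ZMod 1))) :=
    ⟨fun a b h => Prod.ext h (Subsingleton.elim _ _), fun a => ⟨(a, 1), rfl⟩⟩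
  let θ : Cfsg.Out T ≃* Equiv.Perm (Fin 4) := θ₀.trans (MulEquiv.ofBijective _ hfst)
  have hT : Subgroup.center T = ⊥ := by
    rw [eq_bot_iff]
    intro z hz
    obtain ⟨s, rfl⟩ := QuotientGroup.mk_surjective z
    rw [Subgroup.mem_bot]
    have h1 : Cfsg.Agent.GammaO57.gAut (CfsgLib.Orth.plusQ 4 (ZMod 3))
        (Cfsg.Agent.GammaO57.omegaIn _ s) = 1 := by
      rw [Cfsg.Agent.GammaO57.gAut_omegaIn]
      refine MulEquiv.ext fun y => ?_
      rw [MulAut.conj_apply, MulAut.one_apply, mul_inv_eq_iff_eq_mul]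
      exact (Subgroup.mem_center_iff.1 hz y).symm
    obtain ⟨-, c, hc⟩ := Cfsg.Agent.GammaO57.gAut_eq_one (CfsgLib.Orth.plusQ_nondegenerate 4) (by simp)
      (Cfsg.Agent.OutPlus57.plusData (by norm_num)) h1
    rw [QuotientGroup.eq_one_iff, Subgroup.mem_center_iff]
    intro t
    refine Subtype.ext (Subtype.ext (Units.ext ?_))
    show (_ : Matrix _ _ (ZMod 3)) * _ = _ * _
    have hc' : (((s : ↥(CfsgLib.Orth.O (CfsgLib.Orth.plusQ 4 (ZMod 3)))) :
        Matrix.GeneralLinearGroup (Fin 4 ⊕ Fin 4) (ZMod 3))) = Matrix.GeneralLinearGroup.scalar _ c := hc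
    rw [hc']
    exact ((Matrix.scalar_commute (c : ZMod 3) (fun _ => Commute.all _ _) _).eq).symm
  have h6 : Nat.card (Equiv.Perm (Fin 3)) = 6 := by
    rw [Nat.card_eq_fintype_card, Fintype.card_perm, Fintype.card_fin]; rfl
  obtain ⟨ι, hι, hle, hc6⟩ := exists_embedding _ e CfsgLib.Components.centralizer_generalizedFitting_le hT
    ((Nat.card_congr q.toEquiv).trans h6)
  obtain ⟨ι', hι', hle', hc6'⟩ := exists_embedding _ e' CfsgLib.Components.centralizer_generalizedFitting_le hT
    ((Nat.card_congr q'.toEquiv).trans h6)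
  obtain ⟨w, hw⟩ := conj_of_card_six θ hc6 hc6'
  obtain ⟨β, rfl⟩ := QuotientGroup.mk'_surjective _ w
  set π := QuotientGroup.mk' (Cfsg.Inn T)
  have hmap : ι.range.map (MulAut.conj β).toMonoidHom = ι'.range := by
    have h1 : π.ker ≤ ι.range.map (MulAut.conj β).toMonoidHom := by
      intro x hx
      rw [QuotientGroup.ker_mk'] at hx
      refine ⟨β⁻¹ * x * β, hle ?_, by simp [mul_assoc]⟩
      have := (inferInstance : (Cfsg.Inn T).Normal).conj_mem x hx β⁻¹
      rwa [inv_inv] at this
    rw [← Subgroup.comap_map_eq_self h1, ← Subgroup.comap_map_eq_self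
      (show π.ker ≤ ι'.range by rw [QuotientGroup.ker_mk']; exact hle'), ← hw, Subgroup.map_map, Subgroup.map_map]
    exact congrArg _ (congrArg (fun φ => ι.range.map φ) (MonoidHom.ext fun x => by simp))
  exact ⟨((MonoidHom.ofInjective hι).trans
    ((ι.range.equivMapOfInjective _ (MulAut.conj β).injective).trans (MulEquiv.subgroupCongr hmap))).trans
      (MonoidHom.ofInjective hι').symm⟩

end Cfsg.Agent.S5515
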