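import Cfsg.Statements.S5516
import Cfsg.Agent.S5515
import Cfsg.Agent.Lib.EightThree57.Orbits

set_option autoImplicit false
open Cfsg

namespace Cfsg.Agent.S5516

open CfsgLib.EightThree57

/-- A group with self-centralizing normal copy of `T` inside the automorphism group of `T`. -/
theorem exists_embedding {G T : Type*} [Group G] [Group T] (N : Subgroup G) [N.Normal] (e : ↥N ≃* T)
    (hcent : Subgroup.centralizer (N : Set G) ≤ N) (hT : Subgroup.center T = ⊥) {n : ℕ}
    (hn : Nat.card (G ⧸ N) = n) :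
    ∃ ι : G →* MulAut T, Function.Injective ι ∧ Cfsg.Inn T ≤ ι.range ∧
      Nat.card ↥(ι.range.map (QuotientGroup.mk' (Cfsg.Inn T))) = n ∧
      ∀ g t, ι g t = e (MulAut.conjNormal g (e.symm t)) := by
  let ι : G →* MulAut T :=
    { toFun := fun g => (e.symm.trans (MulAut.conjNormal g)).trans e
      map_one' := MulEquiv.ext fun t => by simp
      map_mul' := fun a b => MulEquiv.ext fun t => by simp [MulAut.mul_apply] }
  have hι : ∀ g t, ι g t = e (MulAut.conjNormal g (e.symm t)) := fun g t => rfl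
  have hιN : ∀ k : ↥N, ι k = MulAut.conj (e k) := fun k => MulEquiv.ext fun t => by
    rw [hι, MulAut.conj_apply, show MulAut.conjNormal (k : G) (e.symm t) = k * e.symm t * k⁻¹ from
      Subtype.ext (MulAut.conjNormal_apply (k : G) (e.symm t))]
    simp
  have hinj : Function.Injective ι := by
    refine (injective_iff_map_eq_one ι).2 fun g hg => ?_
    have hgN : g ∈ N := hcent (Subgroup.mem_centralizer_iff.2 fun k hk => by
      have h := DFunLike.congr_fun hg (e ⟨k, hk⟩)
      rw [hι, MulAut.one_apply, e.injective.eq_iff, MulEquiv.symm_apply_apply, Subtype.ext_iff,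
        MulAut.conjNormal_apply] at h
      exact (mul_inv_eq_iff_eq_mul.1 h).symm)
    have h1 : e ⟨g, hgN⟩ ∈ Subgroup.center T := by
      rw [Subgroup.mem_center_iff]
      intro t
      have h2 := DFunLike.congr_fun ((hιN ⟨g, hgN⟩).symm.trans hg) t
      rw [MulAut.conj_apply, MulAut.one_apply, mul_inv_eq_iff_eq_mul] at h2
      exact h2.symm
    rw [hT, Subgroup.mem_bot, e.map_eq_one_iff] at h1
    exact congrArg Subtype.val h1
  refine ⟨ι, hinj, ?_, ?_, hι⟩
  · rintro _ ⟨t, rfl⟩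
    exact ⟨(e.symm t : G), by rw [hιN]; simp⟩
  · rw [← MonoidHom.range_comp, ← hn]
    have hker : ((QuotientGroup.mk' (Cfsg.Inn T)).comp ι).ker = N := by
      ext g
      rw [MonoidHom.mem_ker, MonoidHom.comp_apply, QuotientGroup.mk'_apply, QuotientGroup.eq_one_iff]
      constructor
      · rintro ⟨t, ht⟩
        have h' : ι (e.symm t : G) = ι g := by rw [hιN, ← ht]; simp
        exact hinj h' ▸ (e.symm t).2
      · intro hg
        exact ⟨e ⟨g, hg⟩, (hιN ⟨g, hg⟩).symm⟩
    exact Nat.card_congr ((QuotientGroup.quotientKerEquivRange _).symm.trans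
      (QuotientGroup.quotientMulEquivOfEq hker)).toEquiv

/-- the labels of the seven orbits -/
def lab : Fin 7 → Fin 13 := ![0, 1, 2, 7, 8, 11, 12]

theorem orb_lab : ∀ l, orb (lab l) = l := by decide

theorem exists_pow_map (i j : Fin 13) (h : orb i = orb j) :
    ∃ n : ℕ, (Ysub i).map (Cfsg.Agent.Triality57.triality K ^ n).toMonoidHom = Ysub j := by
  have e1 : ∀ n : ℕ, ∀ i, (Ysub i).map (Cfsg.Agent.Triality57.triality K ^ (n + 1)).toMonoidHom =
      ((Ysub i).map (Cfsg.Agent.Triality57.triality K ^ n).toMonoidHom).map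
        (Cfsg.Agent.Triality57.triality K).toMonoidHom := fun n i => by
    rw [Subgroup.map_map, pow_succ']
    rfl
  have e0 : ∀ i, (Ysub i).map (Cfsg.Agent.Triality57.triality K ^ 0).toMonoidHom = Ysub i := fun i =>
    Subgroup.map_id _
  rcases orb_step i j h with rfl | rfl | rfl
  · exact ⟨0, e0 i⟩
  · exact ⟨1, by rw [e1, e0, tau_map]⟩
  · exact ⟨2, by rw [e1, e1, e0, tau_map, tau_map]⟩


set_option maxHeartbeats 4000000 in
/-- PΩ⁺(8, 3) (the commutator subgroup of the isometry group of the hyperbolic quadratic form in dimension 8 over the field with three elements, modulo its centre) has exactly 13 conjugacy classes of subgroups of order 3; and a finite group G whose generalized Fitting subgroup L is isomorphic to PΩ⁺(8, 3) with G/L the symmetric group of degree 3 has exactly 7 orbits, under conjugation, on the subgroups of L of order 3. -/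
theorem result {G : Type*} [Group G] [Finite G] (L : Subgroup G) (hL : L = Cfsg.generalizedFittingSubgroup G) (hF : Nonempty (↥L ≃* Cfsg.POmega (ZMod 3) (Cfsg.quadFormPlus 4 (ZMod 3)))) [hn : L.Normal] (hq : Nonempty (G ⧸ L ≃* Equiv.Perm (Fin 3))) : (∃ Y : Fin 13 → Subgroup (Cfsg.POmega (ZMod 3) (Cfsg.quadFormPlus 4 (ZMod 3))), (∀ i, Nat.card (Y i) = 3) ∧ (∀ i j, (∃ g : Cfsg.POmega (ZMod 3) (Cfsg.quadFormPlus 4 (ZMod 3)), (Y i).map (MulAut.conj g).toMonoidHom = Y j) → i = j) ∧ (∀ X : Subgroup (Cfsg.POmega (ZMod 3) (Cfsg.quadFormPlus 4 (ZMod 3))), Nat.card X = 3 → ∃ i, ∃ g : Cfsg.POmega (ZMod 3) (Cfsg.quadFormPlus 4 (ZMod 3)), X.map (MulAut.conj g).toMonoidHom = Y i)) ∧ ∃ Y : Fin 7 → Subgroup G, (∀ i, Y i ≤ L ∧ Nat.card (Y i) = 3) ∧ (∀ i j, (∃ g : G, (Y i).map (MulAut.conj g).toMonoidHom = Y j) → i = j) ∧ ∀ X : Subgroup G, X ≤ L → Nat.card X = 3 → ∃ i, ∃ g : G, X.map (MulAut.conj g).toMonoidHom = Y i := by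
  rw [← CfsgLib.Orth.plusQ_coe] at hF ⊢
  obtain ⟨e⟩ := hF
  obtain ⟨q⟩ := hq
  refine ⟨⟨Ysub, card_Ysub, fun i j ⟨g, hg⟩ => eq_of_map hg, fun X hX => ?_⟩, ?_⟩
  · obtain ⟨i, g, hg⟩ := exists_class hX
    refine ⟨i, g⁻¹, ?_⟩
    rw [← hg, map_conj_conj, inv_mul_cancel]
    exact (congrArg (fun φ => (Ysub i).map φ) (MonoidHom.ext fun x => by simp)).trans (Subgroup.map_id _)
  have hF3 : Fintype.card (ZMod 3) = 3 ^ 1 := ZMod.card 3
  obtain ⟨θ₀⟩ := Cfsg.Agent.OutEight57.out_eight_odd (F := ZMod 3) (f := 1) hF3 (by norm_num)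
  have hfst : Function.Bijective (MonoidHom.fst (Equiv.Perm (Fin 4)) (Multiplicative (ZMod 1))) :=
    ⟨fun a b h => Prod.ext h (Subsingleton.elim _ _), fun a => ⟨(a, 1), rfl⟩⟩
  let θ : Cfsg.Out T8 ≃* Equiv.Perm (Fin 4) := θ₀.trans (MulEquiv.ofBijective _ hfst)
  have hT : Subgroup.center T8 = ⊥ := by
    rw [eq_bot_iff]
    intro z hz
    obtain ⟨s, rfl⟩ := QuotientGroup.mk_surjective z
    rw [Subgroup.mem_bot]
    have h1 : Cfsg.Agent.GammaO57.gAut (CfsgLib.Orth.plusQ 4 (ZMod 3))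
        (Cfsg.Agent.GammaO57.omegaIn _ s) = 1 := by
      rw [Cfsg.Agent.GammaO57.gAut_omegaIn]
      refine MulEquiv.ext fun y => ?_
      rw [MulAut.conj_apply, MulAut.one_apply, mul_inv_eq_iff_eq_mul]
      exact (Subgroup.mem_center_iff.1 hz y).symm
    obtain ⟨-, c, hc⟩ := Cfsg.Agent.GammaO57.gAut_eq_one (CfsgLib.Orth.plusQ_nondegenerate 4) (by simp)
      (Cfsg.Agent.OutPlus57.plusData (by norm_num)) h1
    rw [QuotientGroup.eq_one_iff, Subgroup.mem_center_iff]
    intro t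
    refine Subtype.ext (Subtype.ext (Units.ext ?_))
    show (_ : Matrix _ _ (ZMod 3)) * _ = _ * _
    have hc' : (((s : ↥(CfsgLib.Orth.O (CfsgLib.Orth.plusQ 4 (ZMod 3)))) :
        Matrix.GeneralLinearGroup (Fin 4 ⊕ Fin 4) (ZMod 3))) = Matrix.GeneralLinearGroup.scalar _ c := hc
    rw [hc']
    exact ((Matrix.scalar_commute (c : ZMod 3) (fun _ => Commute.all _ _) _).eq).symm
  have h6 : Nat.card (Equiv.Perm (Fin 3)) = 6 := by
    rw [Nat.card_eq_fintype_card, Fintype.card_perm, Fintype.card_fin]; rfl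
  obtain ⟨ι, -, hle, hc6, hι⟩ := exists_embedding L e
    (hL ▸ CfsgLib.Components.centralizer_generalizedFitting_le) hT ((Nat.card_congr q.toEquiv).trans h6)
  obtain ⟨w, hw⟩ := Cfsg.Agent.S5515.conj_of_card_six θ card_ext hc6
  obtain ⟨β, rfl⟩ := QuotientGroup.mk'_surjective _ w
  set π := QuotientGroup.mk' (Cfsg.Inn T8)
  have hInn : Cfsg.Inn T8 ≤ extGroup := le_sup_left
  have hmap : extGroup.map (MulAut.conj β).toMonoidHom = ι.range := by
    have h1 : π.ker ≤ extGroup.map (MulAut.conj β).toMonoidHom := by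
      intro x hx
      rw [QuotientGroup.ker_mk'] at hx
      refine ⟨β⁻¹ * x * β, hInn ?_, by simp [mul_assoc]⟩
      have := (inferInstance : (Cfsg.Inn T8).Normal).conj_mem x hx β⁻¹
      rwa [inv_inv] at this
    rw [← Subgroup.comap_map_eq_self h1, ← Subgroup.comap_map_eq_self
      (show π.ker ≤ ι.range by rw [QuotientGroup.ker_mk']; exact hle), ← hw, Subgroup.map_map, Subgroup.map_map]
    exact congrArg _ (congrArg (fun φ => extGroup.map φ) (MonoidHom.ext fun x => by simp))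
  let ψ : T8 →* G := L.subtype.comp (e.symm.toMonoidHom.comp β.toMonoidHom)
  have hψi : Function.Injective ψ := fun a b h => β.injective (e.symm.injective (Subtype.ext h))
  have hψL : ∀ X : Subgroup T8, X.map ψ ≤ L := by
    rintro X _ ⟨x, -, rfl⟩
    exact (e.symm (β x)).2
  have hcard : ∀ X : Subgroup T8, Nat.card (X.map ψ) = Nat.card X := fun X =>
    (Nat.card_congr (X.equivMapOfInjective _ hψi).toEquiv).symm
  have hint : ∀ g : G, ∀ m : MulAut T8, ι g = β * m * β⁻¹ →
      (MulAut.conj g).toMonoidHom.comp ψ = ψ.comp m.toMonoidHom := fun g m hgm => MonoidHom.ext fun t => by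
    show g * ↑(e.symm (β t)) * g⁻¹ = ↑(e.symm (β (m t)))
    have h := hι g (β t)
    rw [hgm] at h
    have h' : e (MulAut.conjNormal g (e.symm (β t))) = β (m t) := by
      rw [← h, MulAut.mul_apply, MulAut.mul_apply, MulAut.inv_apply, MulEquiv.symm_apply_apply]
    rw [← h', MulEquiv.symm_apply_apply, MulAut.conjNormal_apply]
  refine ⟨fun l => (Ysub (lab l)).map ψ, fun l => ⟨hψL _, (hcard _).trans (card_Ysub _)⟩, ?_, fun X hXL hX => ?_⟩
  · rintro l l' ⟨g, hg⟩
    obtain ⟨m, hm, hmg⟩ : ι g ∈ extGroup.map (MulAut.conj β).toMonoidHom := by rw [hmap]; exact ⟨g, rfl⟩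
    rw [Subgroup.map_map, hint g m hmg.symm, ← Subgroup.map_map] at hg
    have hg' := Subgroup.map_injective hψi hg
    have hmem : ∀ k, Ysub (lab k) ∈ Orb k := fun k => ⟨lab k, 1, orb_lab k,
      (congrArg (fun φ => (Ysub (lab k)).map φ) (MonoidHom.ext fun x => by simp)).trans (Subgroup.map_id _)⟩
    exact orb_unique (hg' ▸ extGroup_le hm l _ (hmem l)) (hmem l')
  · have hX0 : (X.comap ψ).map ψ = X := by
      refine Subgroup.map_comap_eq_self fun x hx => ?_
      exact ⟨β.symm (e ⟨x, hXL hx⟩), by simp [ψ]⟩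
    obtain ⟨i, t, ht⟩ := exists_class (X := X.comap ψ) (by rw [← hcard, hX0, hX])
    obtain ⟨n, hn⟩ := exists_pow_map i (lab (orb i)) (orb_lab _).symm
    set m := Cfsg.Agent.Triality57.triality K ^ n * MulAut.conj t⁻¹
    have hm : m ∈ extGroup := by
      refine mul_mem (pow_mem ?_ n) (hInn ⟨t⁻¹, rfl⟩)
      exact Subgroup.mem_sup_right (Subgroup.subset_closure (Set.mem_insert _ _))
    obtain ⟨g, hg⟩ : β * m * β⁻¹ ∈ ι.range := hmap ▸ Subgroup.mem_map_of_mem _ hm
    refine ⟨orb i, g, ?_⟩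
    rw [← hX0, Subgroup.map_map, hint g m hg, ← Subgroup.map_map]
    refine congrArg (Subgroup.map ψ) ?_
    rw [← hn, ← ht, Subgroup.map_map]
    exact congrArg (fun φ => (Ysub i).map φ) (MonoidHom.ext fun x => by simp [m, mul_assoc])

end Cfsg.Agent.S5516
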