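import Cfsg.Statements.S5463
import Cfsg.Agent.Lib.ThreeTrans.HexM22

set_option autoImplicit false
open Cfsg

namespace Cfsg.Agent.S5463

/-- Let G be a finite group with trivial centre generated by a conjugation-invariant set D of 3-transpositions on which it acts primitively, such that for some d in D the subgroup generated by the members of D other than d commuting with d has central largest normal 2- and 3-subgroups, and suppose G with D is of type M(22). A product j of two distinct commuting members of D determines the pair: any two 2-element sets of commuting members of D with product j coincide. A product j of three distinct pairwise commuting members of D arises from exactly two such 3-element sets. -/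
theorem result {G : Type*} [Group G] [Finite G] {D : Set G} (hD : Cfsg.IsThreeTranspositionGroup D) (hprim : Cfsg.IsPrimitiveUnderConj D) (d₀ : G) (hd₀ : d₀ ∈ D) (h3 : Cfsg.pCore 3 ↥(Subgroup.closure {y : G | y ∈ D ∧ y ≠ d₀ ∧ Commute d₀ y}) ≤ Subgroup.center ↥(Subgroup.closure {y : G | y ∈ D ∧ y ≠ d₀ ∧ Commute d₀ y})) (h2 : Cfsg.pCore 2 ↥(Subgroup.closure {y : G | y ∈ D ∧ y ≠ d₀ ∧ Commute d₀ y}) ≤ Subgroup.center ↥(Subgroup.closure {y : G | y ∈ D ∧ y ≠ d₀ ∧ Commute d₀ y})) (h22 : Cfsg.IsOfTypeM22 G D) : (∀ (j : G) (l l' : List G), (l.Nodup ∧ l.length = 2 ∧ (∀ a ∈ l, a ∈ D) ∧ (∀ a ∈ l, ∀ b ∈ l, Commute a b) ∧ l.prod = j) → (l'.Nodup ∧ l'.length = 2 ∧ (∀ a ∈ l', a ∈ D) ∧ (∀ a ∈ l', ∀ b ∈ l', Commute a b) ∧ l'.prod = j) → (∀ x : G, x ∈ l ↔ x ∈ l')) ∧ ∀ (j : G) (l₀ : List G), (l₀.Nodup ∧ l₀.length = 3 ∧ (∀ a ∈ l₀, a ∈ D) ∧ (∀ a ∈ l₀, ∀ b ∈ l₀, Commute a b) ∧ l₀.prod = j) → ∃ l₁ l₂ : List G, (l₁.Nodup ∧ l₁.length = 3 ∧ (∀ a ∈ l₁, a ∈ D)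 ∧ (∀ a ∈ l₁, ∀ b ∈ l₁, Commute a b) ∧ l₁.prod = j) ∧ (l₂.Nodup ∧ l₂.length = 3 ∧ (∀ a ∈ l₂, a ∈ D) ∧ (∀ a ∈ l₂, ∀ b ∈ l₂, Commute a b) ∧ l₂.prod = j) ∧ ¬ (∀ x : G, x ∈ l₁ ↔ x ∈ l₂) ∧ ∀ l : List G, (l.Nodup ∧ l.length = 3 ∧ (∀ a ∈ l, a ∈ D) ∧ (∀ a ∈ l, ∀ b ∈ l, Commute a b) ∧ l.prod = j) → ((∀ x : G, x ∈ l ↔ x ∈ l₁) ∨ (∀ x : G, x ∈ l ↔ x ∈ l₂)) := by
  obtain ⟨d, c₀, F, _, _, π, hc₀, hdc₀, hB, hF, hE, -⟩ := CfsgLib.ThreeTrans.base22 hD h22
  have hG := CfsgLib.ThreeTrans.good22 hD h22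
  have hcls := hG.rigid.class_eq
  have hNT := hG.rigid.twins
  have h4 := hG.rel 4 (by norm_num) (by norm_num)
  refine ⟨fun j l l' hl hl' => ?_, fun j l₀ hl₀ => ?_⟩
  · obtain ⟨hnd, hlen, hmem, hcomm, hprod⟩ := hl
    obtain ⟨hnd', hlen', hmem', hcomm', hprod'⟩ := hl'
    obtain ⟨a, b, rfl⟩ := List.length_eq_two.1 hlen
    obtain ⟨a', b', rfl⟩ := List.length_eq_two.1 hlen'
    simp only [List.nodup_cons, List.mem_cons, List.not_mem_nil, or_false] at hnd hnd'
    simp only [List.prod_cons, List.prod_nil, mul_one] at hprod hprod'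
    rcases CfsgLib.ThreeTrans.pair_unique hD.1 h4 (hmem a (by simp)) (hmem b (by simp)) (hmem' a' (by simp))
      (hmem' b' (by simp)) hnd.1 hnd'.1 (hcomm a (by simp) b (by simp)) (hcomm' a' (by simp) b' (by simp))
      (hprod.trans hprod'.symm) with ⟨rfl, rfl⟩ | ⟨rfl, rfl⟩
    · simp
    · intro x; simp [or_comm]
  · obtain ⟨hnd, hlen, hmem, hcomm, hprod⟩ := hl₀
    obtain ⟨a, b, c, rfl⟩ := List.length_eq_three.1 hlen
    have hnd' := hnd
    simp only [List.nodup_cons, List.mem_cons, List.not_mem_nil, or_false, not_or] at hnd'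
    obtain ⟨⟨nab, nac⟩, nbc, -⟩ := hnd'
    have ha := hmem a (by simp)
    have hb := hmem b (by simp)
    have hc := hmem c (by simp)
    have cab := hcomm a (by simp) b (by simp)
    have cac := hcomm a (by simp) c (by simp)
    have cbc := hcomm b (by simp) c (by simp)
    have hw : ∃ x ∈ D, ∃ y ∈ D, x ≠ y ∧ Commute x y := ⟨a, ha, b, hb, nab, cab⟩
    have hconn := (CfsgLib.ThreeTrans.classTwo_of_primitive hD hprim).connected_of_primitive hprim hw
    obtain ⟨e, f, g, hL, hsix⟩ := hB.six_exists hcls hNT hE hG.center hconn ha hb hc nab nac nbc cab cac cbc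
    have hmemD : ∀ x ∈ [e, f, g], x ∈ D := fun x hx =>
      (hL.mem x (List.mem_cons_of_mem _ (List.mem_cons_of_mem _ hx))).1
    have hcm : ∀ x ∈ [e, f, g], ∀ y ∈ [e, f, g], Commute x y := fun x hx y hy =>
      hL.comm x (List.mem_cons_of_mem _ (List.mem_cons_of_mem _ hx)) y
        (List.mem_cons_of_mem _ (List.mem_cons_of_mem _ hy))
    have hndL : [e, f, g].Nodup := (List.nodup_cons.1 (List.nodup_cons.1 hL.nodup).2).2
    have hprod3 : a * b * c = j := by simpa [mul_assoc] using hprod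
    have hinv : (a * b * c)⁻¹ = a * b * c := by
      rw [mul_inv_rev, mul_inv_rev, CfsgLib.ThreeTrans.inv_eq hD.1 ha, CfsgLib.ThreeTrans.inv_eq hD.1 hb,
        CfsgLib.ThreeTrans.inv_eq hD.1 hc, cab.symm.eq, ← (cac.mul_left cbc).eq]
    have hprodL : [e, f, g].prod = j := by
      rw [← hprod3, ← hinv]
      symm
      apply inv_eq_of_mul_eq_one_right
      simpa [mul_assoc] using hsix
    refine ⟨[a, b, c], [e, f, g], ⟨hnd, rfl, hmem, hcomm, hprod⟩, ⟨hndL, rfl, hmemD, hcm, hprodL⟩, ?_, ?_⟩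
    · intro h
      have h1 := (h b).1 (by simp)
      have h2 := hL.nodup
      simp only [List.nodup_cons, List.mem_cons, List.not_mem_nil, or_false, not_or] at h1 h2
      obtain ⟨⟨-, n1, n2, n3⟩, -⟩ := h2
      rcases h1 with h1 | h1 | h1
      exacts [n1 h1, n2 h1, n3 h1]
    · rintro l ⟨hndl, hlenl, hmeml, hcomml, hprodl⟩
      obtain ⟨a', b', c', rfl⟩ := List.length_eq_three.1 hlenl
      have hndl' := hndl
      simp only [List.nodup_cons, List.mem_cons, List.not_mem_nil, or_false, not_or] at hndl'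
      rcases CfsgLib.ThreeTrans.triple_cases hD.1 h4 ha hb hc (hmeml a' (by simp)) (hmeml b' (by simp))
        (hmeml c' (by simp)) nab nac nbc hndl'.1.1 hndl'.1.2 hndl'.2.1 cab cac cbc
        (hcomml a' (by simp) b' (by simp)) (hcomml a' (by simp) c' (by simp)) (hcomml b' (by simp) c' (by simp))
        (hprod3.trans (by simpa [mul_assoc] using hprodl.symm)) with h | ⟨hn6, hc6, hp6⟩
      · exact Or.inl h
      · refine Or.inr fun x => (hB.six_unique hcls hNT hE hL ha hn6 ?_ hc6 hp6).mem_iff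
        intro x hx
        simp only [List.mem_cons, List.not_mem_nil, or_false] at hx
        rcases hx with rfl | rfl | rfl | rfl | rfl | rfl
        exacts [ha, hb, hc, hmeml _ (by simp), hmeml _ (by simp), hmeml _ (by simp)]

end Cfsg.Agent.S5463
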