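import Cfsg.Statements.S1054
import Cfsg.Agent.Lib.ChevStr.Perfect
-- import your own Cfsg.Agent.* helpers here

set_option autoImplicit false
open Cfsg CfsgLib.ChevStr

namespace Cfsg.Agent.S1054

/-- The Chevalley groups of types D₄, F₄, E₆, E₇, E₈ are simple over every field. -/
theorem result {F : Type*} [Field F] (D : Cfsg.Lie.ChevalleyDatum)
    (hD : D ∈ [Cfsg.Lie.chevD4, Cfsg.Lie.chevF4, Cfsg.Lie.chevE6, Cfsg.Lie.chevE7, Cfsg.Lie.chevE8]) :
    IsSimpleGroup ↥(D.group F) ∧ ¬ IsMulCommutative ↥(D.group F) := by
  simp only [List.mem_cons, List.not_mem_nil, or_false] at hD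
  rcases hD with rfl | rfl | rfl | rfl | rfl
  · exact (coreD4 F).group_isSimple (by decide +kernel) diagramConnectedD4
      (perfect_of_check (coreD4 F) goodCheckD4)
  · exact (coreF4 F).group_isSimple (by decide +kernel) diagramConnectedF4
      (perfect_of_check (coreF4 F) goodCheckF4)
  · exact (coreE6 F).group_isSimple (by decide +kernel) diagramConnectedE6
      (perfect_of_check (coreE6 F) goodCheckE6)
  · exact (coreE7 F).group_isSimple (by decide +kernel) diagramConnectedE7
      (perfect_of_check (coreE7 F) goodCheckE7)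
  · exact (coreE8 F).group_isSimple (by decide +kernel) diagramConnectedE8
      (perfect_of_check (coreE8 F) goodCheckE8)

end Cfsg.Agent.S1054
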