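import Cfsg.Statements.S0498
import Cfsg.Agent.Lib.Small.SylowLine

set_option autoImplicit false
open Cfsg

namespace Cfsg.Agent.S0498

theorem psl_check11 : CfsgLib.Small.PSLCheck 11 5 [2, 3] (4 : ZMod 11) (2 : ZMod 11) := by
  decide +kernel

theorem psl_param11 : CfsgLib.Small.PSLParam 11 5 (4 : ZMod 11) (2 : ZMod 11) := by
  constructor <;> decide +kernel

theorem one_ne_four11 : (1 : ZMod 11) ≠ 4 := by decide

theorem normalizer_le_normalizer_centralizer {G : Type*} [Group G] (P : Subgroup G) :
    Subgroup.normalizer (P : Set G) ≤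
      Subgroup.normalizer ((Subgroup.centralizer (P : Set G) : Subgroup G) : Set G) := by
  have main : ∀ g ∈ Subgroup.normalizer (P : Set G), ∀ c ∈ Subgroup.centralizer (P : Set G),
      g * c * g⁻¹ ∈ Subgroup.centralizer (P : Set G) := by
    intro g hg c hc
    rw [Subgroup.mem_centralizer_iff]
    intro y hy
    have hy' : g⁻¹ * y * g ∈ P := Subgroup.mem_normalizer_iff''.mp hg y |>.mp hy
    have := Subgroup.mem_centralizer_iff.mp hc _ hy'
    calc y * (g * c * g⁻¹) = g * ((g⁻¹ * y * g) * c) * g⁻¹ := by group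
      _ = g * (c * (g⁻¹ * y * g)) * g⁻¹ := by rw [this]
      _ = g * c * g⁻¹ * y := by group
  intro g hg
  rw [Subgroup.mem_normalizer_iff]
  intro c
  refine ⟨main g hg c, fun hc => ?_⟩
  simpa [mul_assoc] using main g⁻¹ (inv_mem hg) _ hc

/-- In a simple group of order 660 no element acts with order four on a subgroup of order five. -/
theorem no_four_on_five {G : Type*} [Group G] [Finite G] [IsSimpleGroup G] (h : Nat.card G = 660)
    {t x : G} (hx : orderOf x = 5) {k : ℕ} (hk : k = 2 ∨ k = 3) (htx : t * x = x ^ k * t) : False := by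
  classical
  have : Fact (Nat.Prime 5) := ⟨by norm_num⟩
  have : Fact (Nat.Prime 3) := ⟨Nat.prime_three⟩
  have hG := CfsgLib.Small.nc_of_not_prime (G := G) (by rw [h]; norm_num)
  have hP : ∀ P : Sylow 5 G, Nat.card P = 5 := fun P => by
    simpa using CfsgLib.Small.card_sylow_of_card_eq (k := 1) (m := 132) (by rw [h]; norm_num) (by norm_num) P
  obtain ⟨P, hxP, -⟩ := CfsgLib.Small.exists_unique_sylow_mem hx hP
  have hx1 : x ≠ 1 := fun e => by rw [e, orderOf_one] at hx; norm_num at hx
  have hPx := CfsgLib.Small.eq_zpowers_of_mem (hP P) hxP hx1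
  obtain ⟨e, he1, he2, h5C, hNC, hmul⟩ := CfsgLib.Small.sylow_prime_order_data hG P (hP P)
  set N := Subgroup.normalizer ((P : Subgroup G) : Set G) with hNdef
  set C := Subgroup.centralizer ((P : Subgroup G) : Set G) with hCdef
  have hconj : t * x * t⁻¹ = x ^ k := by rw [htx, mul_inv_cancel_right]
  have hkk : ¬ (5 ∣ k * k - 1) := by rcases hk with rfl | rfl <;> norm_num
  have htN : t ∈ N := by
    have hle : (P : Subgroup G).map (MulAut.conj t).toMonoidHom ≤ P := by
      rintro _ ⟨y, hy, rfl⟩
      rw [SetLike.mem_coe, hPx] at hy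
      obtain ⟨n, rfl⟩ := hy
      simp only [map_zpow, MulEquiv.coe_toMonoidHom, MulAut.conj_apply, hconj]
      exact Subgroup.zpow_mem _ (Subgroup.pow_mem _ hxP k) n
    have heq := Subgroup.eq_of_le_of_card_ge hle (Subgroup.card_map_of_injective (MulAut.conj t).injective).ge
    rw [hNdef, Subgroup.mem_normalizer_iff]
    intro y
    constructor
    · intro hy; exact heq.le ⟨y, hy, rfl⟩
    · intro hy
      obtain ⟨y', hy', hyy⟩ := heq.ge hy
      have : y' = y := by simpa using hyy
      exact this ▸ hy'
  -- `t ^ 2` is outside the centraliser, so the automiser has order four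
  have hrel : C.relIndex N = e := by
    have := CfsgLib.Small.card_centralizer_mul_relIndex (P : Subgroup G)
    rw [← hNC] at this
    exact Nat.eq_of_mul_eq_mul_left Nat.card_pos this
  have he4 : e = 4 := by
    have hle := Nat.le_of_dvd (by norm_num) he2
    by_contra hne
    have he22 : e = 2 := by
      rcases (show e = 2 ∨ e = 3 by omega) with h0 | h0
      · exact h0
      · rw [h0] at he2; norm_num at he2
    have hidx : (C.subgroupOf N).index = 2 := by rw [← he22]; exact hrel
    have h2 : (⟨t, htN⟩ : N) * ⟨t, htN⟩ ∈ C.subgroupOf N :=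
      (Subgroup.mul_mem_iff_of_index_two hidx).mpr Iff.rfl
    rw [Subgroup.mem_subgroupOf] at h2
    have h3 : x * (t * t) = t * t * x := Subgroup.mem_centralizer_iff.mp h2 x hxP
    have h4 : t * t * x = x ^ (k * k) * (t * t) := by
      calc t * t * x = t * (t * x * t⁻¹) * t := by group
        _ = t * x ^ k * t := by rw [hconj]
        _ = (t * x ^ k * t⁻¹) * (t * t) := by group
        _ = x ^ (k * k) * (t * t) := by rw [← conj_pow, hconj, ← pow_mul]
    have h5 : x ^ (k * k) = x ^ 1 := by
      rw [pow_one]; exact mul_right_cancel (h4.symm.trans h3.symm)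
    rw [pow_eq_pow_iff_modEq, hx] at h5
    exact hkk ((Nat.modEq_iff_dvd' (by rcases hk with rfl | rfl <;> norm_num)).mp h5.symm)
  rw [he4, h] at hmul
  have hn5 := CfsgLib.Small.card_sylow_mem (p := 5) hG (k := 1) (m := 132) one_ne_zero
    (by rw [h]; norm_num) (by norm_num)
  rw [show ((Nat.divisors 132).filter fun n => n % 5 = 1 ∧ 1 < n) = {6, 11, 66} from by decide] at hn5
  simp only [Finset.mem_insert, Finset.mem_singleton] at hn5
  have h6 := CfsgLib.Small.two_mul_card_dvd_factorial_card_sylow (p := 5) hG (by rw [h]; norm_num)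
  have hn11 : Nat.card (Sylow 5 G) = 11 ∧ Nat.card C = 15 := by
    rcases hn5 with h0 | h0 | h0
    · rw [h0, h] at h6; exact absurd h6 (by decide)
    · rw [h0] at hmul; exact ⟨h0, by omega⟩
    · rw [h0] at hmul; obtain ⟨c, hc⟩ := h5C; omega
  obtain ⟨hn, hC15⟩ := hn11
  have hN60 : Nat.card N = 60 := by rw [← hNC, hC15, he4]
  -- the subgroup of order three of the centraliser is normalised by `N`
  obtain ⟨Q0⟩ := (inferInstance : Nonempty (Sylow 3 C))
  have hQ0 : Nat.card Q0 = 3 := by
    simpa using CfsgLib.Small.card_sylow_of_card_eq (G := C) (k := 1) (m := 5) (by rw [hC15]; norm_num)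
      (by norm_num) Q0
  have huniq : Subsingleton (Sylow 3 C) := by
    have hd : Nat.card (Sylow 3 C) ∣ 5 :=
      CfsgLib.Small.index_sylow_of_card_eq (G := C) (k := 1) (m := 5) (by rw [hC15]; norm_num)
        (by norm_num) Q0 ▸ Q0.card_dvd_index
    have hmd : Nat.card (Sylow 3 C) % 3 = 1 := card_sylow_modEq_one 3 C
    rcases (Nat.dvd_prime (by norm_num : Nat.Prime 5)).mp hd with h0 | h0
    · exact (Nat.card_eq_one_iff_unique.mp h0).1
    · rw [h0] at hmd; norm_num at hmd
  haveI hQn : (Q0 : Subgroup C).Normal := Sylow.normal_of_subsingleton Q0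
  haveI := Sylow.characteristic_of_subsingleton Q0
  set Q : Subgroup G := (Q0 : Subgroup C).map C.subtype with hQdef
  have hQ3 : Nat.card Q = 3 := by rw [hQdef, Subgroup.card_map_of_injective C.subtype_injective, hQ0]
  have hNQ : N ≤ Subgroup.normalizer (Q : Set G) := by
    intro g hg
    have hgC : g ∈ Subgroup.normalizer (C : Set G) := normalizer_le_normalizer_centralizer _ hg
    have hmap : ∀ g ∈ Subgroup.normalizer (C : Set G), ∀ y ∈ Q, g * y * g⁻¹ ∈ Q := by
      rintro g hgC _ ⟨y, hy, rfl⟩
      exact ⟨C.normalizerMonoidHom ⟨g, hgC⟩ y,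
        Subgroup.characteristic_iff_map_le.mp inferInstance (C.normalizerMonoidHom ⟨g, hgC⟩) ⟨y, hy, rfl⟩, rfl⟩
    rw [Subgroup.mem_normalizer_iff]
    intro y
    refine ⟨hmap g hgC y, fun hy => ?_⟩
    simpa [mul_assoc] using hmap g⁻¹ (inv_mem hgC) _ hy
  obtain ⟨R, hR⟩ := (IsPGroup.of_card (n := 1) (hQ3.trans (pow_one 3).symm)).exists_le_sylow
  have hR3 : Nat.card R = 3 := by
    simpa using CfsgLib.Small.card_sylow_of_card_eq (k := 1) (m := 220) (by rw [h]; norm_num) (by norm_num) R
  have hRQ : Q = (R : Subgroup G) := Subgroup.eq_of_le_of_card_ge hR (by rw [hQ3]; exact hR3.le)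
  rw [hRQ] at hNQ
  have h60 := Subgroup.card_dvd_of_le hNQ
  rw [hN60] at h60
  have hn3 := CfsgLib.Small.card_sylow_mem (p := 3) hG (k := 1) (m := 220) one_ne_zero
    (by rw [h]; norm_num) (by norm_num)
  rw [show ((Nat.divisors 220).filter fun n => n % 3 = 1 ∧ 1 < n) = {4, 10, 22, 55, 220} from by decide] at hn3
  simp only [Finset.mem_insert, Finset.mem_singleton] at hn3
  have hmul3 := CfsgLib.Small.card_normalizer_mul_card_sylow R
  have h7 := CfsgLib.Small.two_mul_card_dvd_factorial_card_sylow (p := 3) hG (by rw [h]; norm_num)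
  rw [h] at hmul3 h7
  rcases hn3 with h0 | h0 | h0 | h0 | h0
  · rw [h0] at h7; exact absurd h7 (by decide)
  · rw [h0] at h7; exact absurd h7 (by decide)
  all_goals
    rw [h0] at hmul3
    obtain ⟨c, hc⟩ := h60
    rw [hc] at hmul3
    omega

theorem psl_check13 : CfsgLib.Small.PSLCheck 13 6 [] (4 : ZMod 13) (2 : ZMod 13) := by
  decide +kernel

theorem psl_param13 : CfsgLib.Small.PSLParam 13 6 (4 : ZMod 13) (2 : ZMod 13) := by
  constructor <;> decide +kernel


/-- A simple group of order 660, respectively 1092, is isomorphic to the projective special linear group of dimension 2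
over the field with 11, respectively 13, elements. -/
theorem result {G : Type*} [Group G] [Finite G] [IsSimpleGroup G] (p : ℕ)
    (hp : p = 11 ∨ p = 13) (h : 2 * Nat.card G = p * (p ^ 2 - 1)) {F : Type*} [Field F] [Fintype F]
    (hF : Fintype.card F = p) : Nonempty (G ≃* Matrix.ProjectiveSpecialLinearGroup (Fin 2) F) := by
  rcases hp with rfl | rfl
  · have : Fact (Nat.Prime 11) := ⟨by norm_num⟩
    have hcard : Nat.card G = 11 * 5 * 12 := by omega
    have hG := CfsgLib.Small.nc_of_not_prime (G := G) (by rw [hcard]; norm_num)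
    have hm := CfsgLib.Small.card_sylow_mem (p := 11) hG (k := 1) (m := 60) one_ne_zero
      (by rw [hcard]; norm_num) (by norm_num)
    rw [show ((Nat.divisors 60).filter fun n => n % 11 = 1 ∧ 1 < n) = {12} from by decide,
      Finset.mem_singleton] at hm
    refine CfsgLib.Small.nonempty_mulEquiv_psl_field hF
      (CfsgLib.Small.nonempty_mulEquiv_psl (p := 11) (m := 5) (E := [2, 3]) (a0 := 4) (ν := 2)
        (by norm_num) psl_param11 psl_check11 (by rw [hcard]) hm ?_)
    intro k hk x t φ hφ hxn hxs htn ht0 hrel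
    have hx5 : orderOf x = 5 := by
      refine orderOf_eq_prime (hp := ⟨by norm_num⟩) (hφ ?_) ?_
      · rw [map_pow, map_one]
        apply Equiv.ext
        intro z
        cases z with
        | none => simp [pow_succ, hxn]
        | some y =>
          simp only [pow_succ, pow_zero, one_mul, Equiv.Perm.mul_apply, hxs, Equiv.Perm.one_apply,
            ← mul_assoc]
          rw [show (4 : ZMod 11) * 4 * 4 * 4 * 4 = 1 from rfl, one_mul]
      · intro e
        have h1 := hxs 1
        rw [e, map_one, Equiv.Perm.one_apply] at h1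
        exact one_ne_four11 ((Option.some.inj h1).trans (mul_one _))
    have hk' : k = 2 ∨ k = 3 := by simpa using hk
    refine no_four_on_five (by omega) hx5 hk' (t := t) ?_
    have hxpow : ∀ (n : ℕ), φ (x ^ n) none = none ∧ ∀ y, φ (x ^ n) (some y) = some (4 ^ n * y) := by
      intro n
      induction n with
      | zero => simp
      | succ n ih =>
        constructor
        · rw [pow_succ', map_mul, Equiv.Perm.mul_apply, ih.1, hxn]
        · intro y
          rw [pow_succ', map_mul, Equiv.Perm.mul_apply, ih.2, hxs, pow_succ', mul_assoc]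
    apply hφ
    rw [map_mul, map_mul]
    apply Equiv.ext
    intro z
    rw [Equiv.Perm.mul_apply, Equiv.Perm.mul_apply]
    cases z with
    | none => rw [hxn, htn, (hxpow k).2, mul_zero]
    | some y =>
      rw [hxs, hrel y]
      cases φ t (some y) with
      | none => simp [← map_pow, (hxpow k).1]
      | some w => simp [← map_pow, (hxpow k).2]
  · have : Fact (Nat.Prime 13) := ⟨by norm_num⟩
    have hcard : Nat.card G = 13 * 6 * 14 := by omega
    have hG := CfsgLib.Small.nc_of_not_prime (G := G) (by rw [hcard]; norm_num)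
    have hm := CfsgLib.Small.card_sylow_mem (p := 13) hG (k := 1) (m := 84) one_ne_zero
      (by rw [hcard]; norm_num) (by norm_num)
    rw [show ((Nat.divisors 84).filter fun n => n % 13 = 1 ∧ 1 < n) = {14} from by decide,
      Finset.mem_singleton] at hm
    exact CfsgLib.Small.nonempty_mulEquiv_psl_field hF
      (CfsgLib.Small.nonempty_mulEquiv_psl (p := 13) (m := 6) (E := []) (a0 := 4) (ν := 2)
        (by norm_num) psl_param13 psl_check13 (by rw [hcard]) hm (by simp))


end Cfsg.Agent.S0498
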