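import Cfsg.Statements.S2490
import Mathlib
import Cfsg.Agent.Lib.Order7920.Main

set_option autoImplicit false
open Cfsg

namespace Cfsg.Agent.S2490

/-- Let G be a finite group of order 7920 = 2⁴·3²·5·11 (the order of the smallest Mathieu group) and suppose its prime graph (vertices the prime divisors of the order, distinct p, q joined when there is an element of order pq) is disconnected: the prime divisors split into two non-empty parts with no element of order pq for p in one part and q in the other. Then G is simple. -/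
theorem result {G : Type*} [Group G] [Finite G] (hord : Nat.card G = 7920)
    (hdisc : (∃ A : Set ℕ, (∃ a ∈ A, a.Prime ∧ a ∣ Nat.card G) ∧ (∃ b ∉ A, b.Prime ∧ b ∣ Nat.card G) ∧
      ∀ a ∈ A, ∀ b ∉ A, a.Prime → b.Prime → a ∣ Nat.card G → b ∣ Nat.card G → ¬ ∃ g : G, orderOf g = a * b)) :
    IsSimpleGroup G := by
  obtain ⟨A, ⟨a, haA, hap, had⟩, ⟨b, hbA, hbp, hbd⟩, hA⟩ := hdisc
  rw [hord] at had hbd
  have htie : ∀ a b : ℕ, a.Prime → b.Prime → a ∣ 7920 → b ∣ 7920 →
      CfsgLib.Order7920.HasOrd G a b → (a ∈ A ↔ b ∈ A) := by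
    intro a b ha hb hda hdb hE
    constructor
    · intro h
      by_contra h'
      exact hA a h b h' ha hb (hord ▸ hda) (hord ▸ hdb) hE
    · intro h
      by_contra h'
      exact hA b h a h' hb ha (hord ▸ hdb) (hord ▸ hda) hE.symm
  have hprimes : ∀ r : ℕ, r.Prime → r ∣ 7920 → r = 2 ∨ r = 3 ∨ r = 5 ∨ r = 11 := by
    intro r hr hd
    have hd' : r ∣ 2 ^ 4 * 3 ^ 2 * 5 * 11 := by norm_num; exact hd
    rcases (Nat.Prime.dvd_mul hr).1 hd' with h | h
    · rcases (Nat.Prime.dvd_mul hr).1 h with h | h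
      · rcases (Nat.Prime.dvd_mul hr).1 h with h | h
        · exact Or.inl ((Nat.prime_dvd_prime_iff_eq hr Nat.prime_two).1 (hr.dvd_of_dvd_pow h))
        · exact Or.inr (Or.inl ((Nat.prime_dvd_prime_iff_eq hr Nat.prime_three).1 (hr.dvd_of_dvd_pow h)))
      · exact Or.inr (Or.inr (Or.inl ((Nat.prime_dvd_prime_iff_eq hr (by norm_num)).1 h)))
    · exact Or.inr (Or.inr (Or.inr ((Nat.prime_dvd_prime_iff_eq hr (by norm_num)).1 h)))
  have hne : ¬ ((2 ∈ A ↔ 11 ∈ A) ∧ (3 ∈ A ↔ 11 ∈ A) ∧ (5 ∈ A ↔ 11 ∈ A)) := by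
    rintro ⟨h2, h3, h5⟩
    have h11 : ∀ r : ℕ, r.Prime → r ∣ 7920 → (r ∈ A ↔ 11 ∈ A) := by
      intro r hr hd
      rcases hprimes r hr hd with rfl | rfl | rfl | rfl
      exacts [h2, h3, h5, Iff.rfl]
    exact hbA ((h11 b hbp hbd).2 ((h11 a hap had).1 haA))
  have : Nontrivial G := by
    rw [← Finite.one_lt_card_iff_nontrivial, hord]; norm_num
  refine ⟨fun H hH => ?_⟩
  by_contra h
  push Not at h
  exact CfsgLib.Order7920.no_normal A htie hne hord H h.1 h.2

end Cfsg.Agent.S2490
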