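import Mathlib
import Cfsg.Statements.S0428
import Cfsg.Agent.Lib.Steiner.GraphTwentyTwo

set_option autoImplicit false
open Cfsg CfsgLib.Steiner CfsgLib.Steiner.GraphTwentyTwo CfsgLib.Combin.SteinerCount

namespace Cfsg.Agent.S0428

/-- The point-block graph of an S(3, 6, 22) is strongly regular with parameters (100, 22, 0, 6). -/
theorem result {α : Type*} [Fintype α] (hα : Fintype.card α = 22) {B : Set (Finset α)} (hB : Cfsg.IsSteinerSystem 3 6 B) [Fintype B] [DecidableRel (Cfsg.pointBlockGraph B).Adj] : (Cfsg.pointBlockGraph B).IsSRGWith 100 22 0 6 := by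
  classical
  have hne : ∀ b ∈ B, b.card ≠ 0 := fun b hb => by rw [hB.1 b hb]; norm_num
  have hadj := pointBlock_adj (α := α) hne
  have hall : Fintype.card B = 77 := by
    have h := card_blocksThrough_three_six hα hB ∅ (by simp)
    simp only [Finset.card_empty, List.getD_cons_zero] at h
    have h' := card_filter_subtype (B := B) (fun _ => True)
    simp only [Finset.filter_true, Finset.card_univ, h] at h'
    exact h'
  have hblk : ∀ b : B, (b : Finset α).card = 6 := fun b => hB.1 _ b.2
  have hcomm : ∀ (x y : Option (α ⊕ B)), Fintype.card ((pointBlockGraph B).commonNeighbors x y) =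
      (if (pointBlockGraph B).Adj x none ∧ (pointBlockGraph B).Adj y none then 1 else 0) +
        ((Finset.univ.filter fun a => (pointBlockGraph B).Adj x (some (Sum.inl a)) ∧
            (pointBlockGraph B).Adj y (some (Sum.inl a))).card +
          (Finset.univ.filter fun c => (pointBlockGraph B).Adj x (some (Sum.inr c)) ∧
            (pointBlockGraph B).Adj y (some (Sum.inr c))).card) := by
    intro x y
    rw [← Set.toFinset_card, ← card_filter_option_sum (fun z =>
      (pointBlockGraph B).Adj x z ∧ (pointBlockGraph B).Adj y z)]
    congr 1
    ext z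
    simp [SimpleGraph.mem_commonNeighbors]
  have hthrough : ∀ S : Finset α, S.card ≤ 3 →
      (Finset.univ.filter fun c : B => S ⊆ (c : Finset α)).card = [77, 21, 5, 1].getD S.card 0 := by
    intro S hS
    rw [card_filter_subtype (B := B) (fun d => S ⊆ d), ← card_blocksThrough_three_six hα hB S hS]
    congr 1
    ext d; simp [mem_blocksThrough]
  have hdisj : ∀ (S : Finset α) (b : B),
      (Finset.univ.filter fun c : B => S ⊆ (c : Finset α) ∧ Disjoint (c : Finset α) b).card =
        (disj B S b).card := by
    intro S b
    rw [card_filter_subtype (B := B) (fun d => S ⊆ d ∧ Disjoint d (b : Finset α)), disj]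
    congr 1
    ext d; simp [mem_blocksThrough, and_assoc]
  have hdisj2 : ∀ b c : B,
      (Finset.univ.filter fun d : B => Disjoint (b : Finset α) d ∧ Disjoint (c : Finset α) d).card =
        ((disj B ∅ b).filter fun d => Disjoint d (c : Finset α)).card := by
    intro b c
    rw [card_filter_subtype (B := B) (fun d => Disjoint (b : Finset α) d ∧ Disjoint (c : Finset α) d),
      disj, Finset.filter_filter]
    congr 1
    ext d; simp [disjoint_comm]
  refine ⟨?_, fun x => ?_, fun x y hxy => ?_, fun x y hne' hxy => ?_⟩
  · rw [Fintype.card_option, Fintype.card_sum, hα, hall]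
  · rw [← SimpleGraph.card_neighborFinset_eq_degree, SimpleGraph.neighborFinset_eq_filter,
      card_filter_option_sum]
    rcases x with _ | (a | b)
    · simp [hadj, hα]
    · simp [hadj]
      have := hthrough {a} (by simp)
      simp at this
      omega
    · simp [hadj, hblk]
      have := hdisj ∅ b
      simp [card_disj_empty hα hB b.2, disjoint_comm] at this
      omega
  · rw [hcomm]
    rw [hadj] at hxy
    rcases x with _ | (a | b) <;> rcases y with _ | (a' | c) <;>
      simp only [hadj] at hxy ⊢ <;> simp only [true_and, and_true, false_and, and_false, if_false,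
        Finset.filter_false, Finset.card_empty, zero_add, add_zero] <;>
      (try exact hxy.elim) <;> (try rfl)
    · have : ∀ d : B, a ∈ (d : Finset α) → ¬ Disjoint (c : Finset α) d :=
        fun d hd h => Finset.disjoint_left.mp h hxy hd
      simp only [Finset.card_eq_zero, Finset.filter_eq_empty_iff]
      exact fun d _ h => this d h.1 h.2
    · have : ∀ d : B, a' ∈ (d : Finset α) → ¬ Disjoint (b : Finset α) d :=
        fun d hd h => Finset.disjoint_left.mp h hxy hd
      simp only [Finset.card_eq_zero, Finset.filter_eq_empty_iff]
      exact fun d _ h => this d h.2 h.1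
    · rw [hdisj2, common_disj_of_disjoint hα hB b.2 c.2 hxy, add_zero, Finset.card_eq_zero,
        Finset.filter_eq_empty_iff]
      exact fun a _ h => Finset.disjoint_left.mp hxy h.1 h.2
  · rw [hcomm]
    rw [hadj] at hxy
    rcases x with _ | (a | b) <;> rcases y with _ | (a' | c) <;>
      simp only [hadj] at hxy ⊢ <;> simp only [true_and, and_true, false_and, and_false, if_false,
        if_true, Finset.filter_false, Finset.card_empty, zero_add, add_zero, not_true_eq_false,
        not_false_eq_true] at hxy ⊢ <;> (try exact absurd rfl hne')
    · simp [Finset.filter_mem_eq_inter, hblk]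
    · have hna : a ≠ a' := fun h => hne' (by rw [h])
      have := hthrough {a, a'} (by simp [hna])
      simp [hna, Finset.insert_subset_iff] at this
      omega
    · have := hdisj {a} c
      simp [card_disj_point hα hB c.2 hxy, disjoint_comm] at this
      simpa using this
    · simp [Finset.filter_mem_eq_inter, hblk]
    · have := hdisj {a'} b
      simp [card_disj_point hα hB b.2 hxy, disjoint_comm] at this
      simpa [and_comm] using this
    · have hbc : b ≠ c := fun h => hne' (by rw [h])
      rw [hdisj2, common_disj_of_meet hα hB b.2 c.2 (fun h => hbc (Subtype.ext h)) hxy,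
        Finset.filter_and, Finset.filter_mem_eq_inter, Finset.filter_mem_eq_inter,
        Finset.univ_inter, Finset.univ_inter]
      rcases card_inter_cases hα hB b.2 c.2 (fun h => hbc (Subtype.ext h)) with h | h
      · exact absurd (Finset.disjoint_iff_inter_eq_empty.mpr (Finset.card_eq_zero.mp h)) hxy
      · rw [h]

end Cfsg.Agent.S0428
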