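import Cfsg.Statements.S1586
import Cfsg.Agent.Lib.Steiner.HigmanSims

set_option autoImplicit false
open Cfsg

namespace Cfsg.Agent.S1586

/-- The Higman–Sims graph built from an S(3, 6, 22) has exactly 88704000 automorphisms. -/
theorem result {α : Type*} [Fintype α] [DecidableEq α] (hα : Fintype.card α = 22) {B : Set (Finset α)} (hB : Cfsg.IsSteinerSystem 3 6 B) : Nat.card (Cfsg.pointBlockGraph B ≃g Cfsg.pointBlockGraph B) = 88704000 := by
  classical
  haveI := Fintype.ofFinite B
  open CfsgLib.Steiner.HigmanSims in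
  haveI hfin : Finite (pointBlockGraph B ≃g pointBlockGraph B) := Finite.of_injective _ (toPerm_injective _)
  open CfsgLib.Steiner.HigmanSims in
  haveI hpre : MulAction.IsPretransitive (pointBlockGraph B ≃g pointBlockGraph B) (Option (α ⊕ B)) :=
    MulAction.IsPretransitive.mk fun x y => by
      obtain ⟨f, hf⟩ := exists_map hα hB x
      obtain ⟨f', hf'⟩ := exists_map hα hB y
      exact ⟨f' * f⁻¹, by rw [RelIso.smul_def, RelIso.mul_apply, ← hf, RelIso.inv_apply_self, hf']⟩
  obtain ⟨φ, -⟩ := CfsgLib.Steiner.HigmanSims.exists_stabEquiv hα hB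
  obtain ⟨hS, -⟩ := CfsgLib.Steiner.Witt.aut_three_six hα hB
  rw [← Subgroup.card_mul_index
      (MulAction.stabilizer (pointBlockGraph B ≃g pointBlockGraph B) (none : Option (α ⊕ B))),
    MulAction.index_stabilizer_of_transitive, Nat.card_congr φ.toEquiv, hS,
    Nat.card_eq_fintype_card, CfsgLib.Steiner.HigmanSims.card_vertex hα hB]

end Cfsg.Agent.S1586
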