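import Mathlib
import Cfsg.Statements.S0427
import Cfsg.Agent.Lib.Steiner.GraphTwentyTwo

set_option autoImplicit false
open Cfsg CfsgLib.Steiner CfsgLib.Steiner.GraphTwentyTwo CfsgLib.Combin.SteinerCount

namespace Cfsg.Agent.S0427

/-- The block graph (adjacent = disjoint) of an S(3, 6, 22) is strongly regular with parameters (77, 16, 0, 4). -/
theorem result {α : Type*} [Fintype α] (hα : Fintype.card α = 22) {B : Set (Finset α)} (hB : Cfsg.IsSteinerSystem 3 6 B) [Fintype B] [DecidableRel (Cfsg.blockGraph B).Adj] : (Cfsg.blockGraph B).IsSRGWith 77 16 0 4 := by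
  classical
  have hne : ∀ b ∈ B, b.card ≠ 0 := fun b hb => by rw [hB.1 b hb]; norm_num
  have hadj := fun b c : B => blockGraph_adj hne (b := b) (c := c)
  refine ⟨?_, fun b => ?_, fun b c hbc => ?_, fun b c hne' hbc => ?_⟩
  · have h := card_blocksThrough_three_six hα hB ∅ (by simp)
    simp only [Finset.card_empty, List.getD_cons_zero] at h
    have h' := card_filter_subtype (B := B) (fun _ => True)
    simp only [Finset.filter_true, Finset.card_univ, h] at h'
    exact h'
  · rw [← SimpleGraph.card_neighborFinset_eq_degree, ← card_disj_empty hα hB b.2, disj,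
      ← card_filter_subtype]
    congr 1
    ext c
    simp [hadj, disjoint_comm]
  · rw [hadj] at hbc
    rw [← Set.toFinset_card, ← common_disj_of_disjoint hα hB b.2 c.2 hbc, disj,
      Finset.filter_filter, ← card_filter_subtype]
    congr 1
    ext d
    simp [SimpleGraph.mem_commonNeighbors, hadj, disjoint_comm]
  · have hbc' : ¬ Disjoint (b : Finset α) c := fun h => hbc ((hadj b c).mpr h)
    rw [← Set.toFinset_card, ← common_disj_of_meet hα hB b.2 c.2 (fun h => hne' (Subtype.ext h)) hbc',
      disj, Finset.filter_filter, ← card_filter_subtype]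
    congr 1
    ext d
    simp [SimpleGraph.mem_commonNeighbors, hadj, disjoint_comm]

end Cfsg.Agent.S0427
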