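import Cfsg.Statements.S1217
import Cfsg.Agent.Lib.TwoGroups.ClassicalSylow

set_option autoImplicit false
open scoped MatrixGroups
open Cfsg

namespace Cfsg.Agent.S1217

/-- Let F be a finite field with q elements, q odd, and P a Sylow 2-subgroup of GL(2,F). If q ≡ 3 (mod 4) then P is quasi-dihedral; if q ≡ 1 (mod 4) then P is wreathed. -/
theorem result {F : Type*} [Field F] [Fintype F] (P : Sylow 2 (GL (Fin 2) F)) : (Fintype.card F % 4 = 3 → Cfsg.IsQuasiDihedral (P : Subgroup (GL (Fin 2) F))) ∧ (Fintype.card F % 4 = 1 → Cfsg.IsWreathed (P : Subgroup (GL (Fin 2) F))) := by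
  classical
  set q := Fintype.card F with hq
  have h1q : 1 < q := Fintype.one_lt_card
  have hcard : Nat.card (GL (Fin 2) F) = q * ((q - 1) * ((q - 1) * (q + 1))) := by
    rw [Matrix.card_GL_field, Fin.prod_univ_two]
    simp only [Fin.val_zero, Fin.val_one, pow_zero, pow_one, ← hq]
    obtain ⟨k, hk⟩ : ∃ k, q = k + 1 := ⟨q - 1, by omega⟩
    rw [hk, Nat.add_sub_cancel]
    have e1 : (k + 1) ^ 2 - 1 = k * (k + 2) := by
      have : (k + 1) ^ 2 = k * (k + 2) + 1 := by ring
      omega
    have e2 : (k + 1) ^ 2 - (k + 1) = (k + 1) * k := by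
      have : (k + 1) ^ 2 = (k + 1) * k + (k + 1) := by ring
      omega
    rw [e1, e2]; ring
  have hodd : q % 4 = 3 ∨ q % 4 = 1 → Odd q := fun h => Nat.odd_iff.2 (by omega)
  constructor
  · intro h3
    obtain ⟨s, r, r', hs, hr, hr', e1, e2⟩ := CfsgLib.TwoGroups.ClassicalSylow.split_mod_four' h3
    obtain ⟨p, hp⟩ := CharP.exists F
    have : Fact p.Prime := ⟨CharP.char_is_prime F p⟩
    let K := FiniteField.Extension F p 2
    have hK : Nat.card K = q ^ 2 := by
      rw [FiniteField.natCard_extension F p 2, Nat.card_eq_fintype_card]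
    have hdim : Module.finrank F K = 2 := FiniteField.finrank_extension F p 2
    let b : Module.Basis (Fin 2) F K := Module.finBasisOfFinrankEq F K hdim
    let Φ : Module.End F K →* Matrix (Fin 2) (Fin 2) F :=
      (LinearMap.toMatrixAlgEquiv b).toRingEquiv.toMonoidHom
    have hΦ : Function.Injective Φ := (LinearMap.toMatrixAlgEquiv b).injective
    let mulHom : Kˣ →* GL (Fin 2) F :=
      (Units.map Φ).comp (Units.map (Algebra.lmul F K).toRingHom.toMonoidHom)
    have hmul : Function.Injective mulHom := by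
      intro u v huv
      have h := hΦ (congrArg Units.val huv)
      have h' := LinearMap.congr_fun h (1 : K)
      apply Units.ext
      simpa using h'
    have hqlt : 1 < Nat.card F := by rw [Nat.card_eq_fintype_card]; exact h1q
    let fr : (Module.End F K)ˣ :=
      ⟨(FiniteField.Extension.frob F p 2).toLinearMap,
        (FiniteField.Extension.frob F p 2).symm.toLinearMap,
        LinearMap.ext fun t => AlgEquiv.apply_symm_apply (FiniteField.Extension.frob F p 2) t,
        LinearMap.ext fun t => AlgEquiv.symm_apply_apply (FiniteField.Extension.frob F p 2) t⟩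
    have hfr : ∀ t : K, (fr : Module.End F K) t = t ^ q := fun t => by
      show FiniteField.Extension.frob F p 2 t = _
      rw [FiniteField.Extension.frob_apply, Nat.card_eq_fintype_card]
    obtain ⟨ζ, hζ⟩ := CfsgLib.TwoGroups.ClassicalSylow.exists_orderOf_eq (G := Kˣ) (d := 2 ^ (s + 1))
      (by
        rw [Nat.card_units, hK]
        refine ⟨r * r', ?_⟩
        have : q ^ 2 = 2 ^ (s + 1) * (r * r') + 1 := by
          obtain ⟨k, hk⟩ : ∃ k, q = k + 1 := ⟨q - 1, by omega⟩
          rw [hk] at e1 e2 ⊢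
          rw [Nat.add_sub_cancel] at e2
          have hkk : (k + 1) ^ 2 = k * (k + 1 + 1) + 1 := by ring
          rw [hkk, e1, e2, pow_succ]; ring
        omega)
    refine CfsgLib.TwoGroups.ClassicalSylow.quasiDihedral_of_elements P (n := s + 1)
      (r := q * (r' * (r' * r))) (by omega) ?_ ((hodd (Or.inl h3)).mul (hr'.mul (hr'.mul hr)))
      (x := mulHom ζ) (y := Units.map Φ fr) ?_ ?_ ?_
    · rw [hcard, e1, e2, pow_succ, pow_succ]; ring
    · rw [orderOf_injective mulHom hmul, hζ]
    · rw [orderOf_injective (Units.map Φ) (Units.map_injective hΦ)]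
      refine orderOf_eq_prime (Units.ext (LinearMap.ext fun t => ?_)) fun h => ?_
      · rw [pow_two, Units.val_mul, Module.End.mul_apply, hfr, hfr, ← pow_mul, ← pow_two]
        have := Fintype.ofFinite K
        rw [← hK, Nat.card_eq_fintype_card, FiniteField.pow_card, Units.val_one, Module.End.one_apply]
      · have hz1 : (ζ : K) ^ q = (ζ : K) := by rw [← hfr, h]; rfl
        have hz2 : ζ ^ (q - 1) = 1 := by
          apply Units.ext
          rw [Units.val_pow_eq_pow_val, Units.val_one]
          apply mul_left_cancel₀ (Units.ne_zero ζ)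
          rw [← pow_succ', Nat.sub_add_cancel (by omega), hz1, mul_one]
        have hd := orderOf_dvd_of_pow_eq_one hz2
        rw [hζ, e2, pow_succ'] at hd
        have h2r : 2 ^ s ∣ r' := (Nat.mul_dvd_mul_iff_left two_pos).1 hd
        exact hr'.not_two_dvd_nat ((dvd_pow_self 2 (by omega)).trans h2r)
    · rw [Nat.add_sub_cancel, mul_inv_eq_iff_eq_mul]
      have hpow : ζ ^ (2 ^ s - 1) = ζ ^ q := by
        rw [pow_eq_pow_iff_modEq, hζ, Nat.modEq_iff_dvd' (by
          have : 2 ^ s ≤ 2 ^ s * r := Nat.le_mul_of_pos_right _ hr.pos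
          omega)]
        obtain ⟨t, ht⟩ := hr
        refine ⟨t, ?_⟩
        rw [ht, mul_add, mul_one] at e1
        have : 2 ^ (s + 1) * t = 2 ^ s * (2 * t) := by rw [pow_succ]; ring
        have hpos : 1 ≤ 2 ^ s := Nat.one_le_two_pow
        generalize 2 ^ s * (2 * t) = A at *
        generalize 2 ^ (s + 1) * t = B at *
        generalize 2 ^ s = C at *
        omega
      rw [← map_pow, hpow]
      apply Units.ext
      rw [Units.val_mul, Units.val_mul]
      show Φ _ * Φ _ = Φ _ * Φ _
      rw [← map_mul, ← map_mul]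
      congr 1
      refine LinearMap.ext fun t => ?_
      rw [Module.End.mul_apply, Module.End.mul_apply, hfr, hfr]
      show ((ζ : K) * t) ^ q = ((ζ ^ q : Kˣ) : K) * t ^ q
      rw [mul_pow, Units.val_pow_eq_pow_val]
  · intro h1
    obtain ⟨n, r, r', hn, hr, hr', e1, e2⟩ := CfsgLib.TwoGroups.ClassicalSylow.split_mod_four h1 h1q
    obtain ⟨ζ, hζ⟩ := CfsgLib.TwoGroups.ClassicalSylow.exists_orderOf_eq (G := Fˣ) (d := 2 ^ n)
      (by rw [Nat.card_units, Nat.card_eq_fintype_card, ← hq, e1]; exact Dvd.intro _ rfl)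
    refine CfsgLib.TwoGroups.ClassicalSylow.wreathed_of_elements P (n := n)
      (r := q * (r * (r * r'))) hn ?_ ((hodd (Or.inr h1)).mul (hr.mul (hr.mul hr')))
      (x := CfsgLib.TwoGroups.ClassicalSylow.diagHom (ζ, 1))
      (y := CfsgLib.TwoGroups.ClassicalSylow.diagHom (1, ζ))
      (z := CfsgLib.TwoGroups.ClassicalSylow.swapGL) ?_ ?_
      (CfsgLib.TwoGroups.ClassicalSylow.diagHom_disjoint ζ ζ)
      CfsgLib.TwoGroups.ClassicalSylow.orderOf_swapGL
      (CfsgLib.TwoGroups.ClassicalSylow.swapGL_conj _ _)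
      (CfsgLib.TwoGroups.ClassicalSylow.swapGL_conj _ _)
    · rw [hcard, e1, e2, pow_succ, two_mul n, pow_add]; ring
    · rw [CfsgLib.TwoGroups.ClassicalSylow.orderOf_diagHom_left, hζ]
    · rw [← map_mul, ← map_mul, mul_comm]

end Cfsg.Agent.S1217
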