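import Cfsg.Statements.S1567
import Cfsg.Agent.Lib.Golay.Co0
-- import your own Cfsg.Agent.* helpers here

set_option autoImplicit false
open Cfsg

namespace Cfsg.Agent.S1567

/-- The rank-24 lattice is the additive subgroup generated by its 196560 minimal vectors. -/
theorem result : AddSubgroup.closure {x : Cfsg.GolayPt → ℤ | x ∈ Cfsg.leechLattice ∧ Cfsg.sqNorm x = 32} = Cfsg.leechLattice := by
  set M := AddSubgroup.closure {x : Cfsg.GolayPt → ℤ | x ∈ Cfsg.leechLattice ∧ Cfsg.sqNorm x = 32}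
  refine le_antisymm ((AddSubgroup.closure_le _).mpr fun x hx => hx.1) ?_
  have h32 : ∀ y : Cfsg.leechLattice, Cfsg.sqNorm (y : Cfsg.GolayPt → ℤ) = 32 →
      (y : Cfsg.GolayPt → ℤ) ∈ M := fun y hy => AddSubgroup.subset_closure ⟨y.2, hy⟩
  have hsum : ∀ (γ : Cfsg.Co0) (a b y : Cfsg.leechLattice), Cfsg.sqNorm (a : Cfsg.GolayPt → ℤ) = 32 →
      Cfsg.sqNorm (b : Cfsg.GolayPt → ℤ) = 32 → γ • y = a + b → (y : Cfsg.GolayPt → ℤ) ∈ M := by
    intro γ a b y ha hb h
    rw [eq_inv_smul_iff.mpr h, CfsgLib.MonsterType.smul_add', AddSubgroup.coe_add]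
    exact add_mem (h32 _ (by rw [CfsgLib.Golay.sqNorm_smul_lat]; exact ha)) (h32 _ (by rw [CfsgLib.Golay.sqNorm_smul_lat]; exact hb))
  have h48 : ∀ y : Cfsg.leechLattice, Cfsg.sqNorm (y : Cfsg.GolayPt → ℤ) = 48 →
      (y : Cfsg.GolayPt → ℤ) ∈ M := by
    intro y hy
    obtain ⟨γ, hγ⟩ := CfsgLib.Golay.exists_smul_eq_leechV hy
    refine hsum γ (-Cfsg.Spor.leechU) (Cfsg.Spor.leechV + Cfsg.Spor.leechU) y ?_ ?_ (by rw [hγ]; abel)
    · decide +kernel
    · decide +kernel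
  have h64 : ∀ y : Cfsg.leechLattice, Cfsg.sqNorm (y : Cfsg.GolayPt → ℤ) = 64 →
      (y : Cfsg.GolayPt → ℤ) ∈ M := by
    intro y hy
    obtain ⟨γ, hγ⟩ := CfsgLib.Golay.exists_smul_eq_latE hy
    refine hsum γ Cfsg.Spor.leechU Cfsg.Spor.leechU' y ?_ ?_ ?_
    · decide +kernel
    · decide +kernel
    · rw [hγ]
      refine Subtype.ext (funext fun p => ?_)
      revert p
      decide +kernel
  suffices ∀ n : ℕ, ∀ x ∈ Cfsg.leechLattice, Cfsg.sqNorm x ≤ n → x ∈ M from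
    fun x hx => this (Cfsg.sqNorm x).toNat x hx (Int.self_le_toNat _)
  intro n
  induction n using Nat.strong_induction_on with
  | _ n ih =>
    intro x hx hn
    by_cases h : Cfsg.sqNorm x ≤ 64
    · rcases eq_or_ne x 0 with rfl | h0
      · exact zero_mem _
      · have h1 := CfsgLib.Golay.thirtytwo_le_sqNorm hx h0
        obtain ⟨c, hc⟩ := CfsgLib.Golay.sixteen_dvd_sqNorm hx
        have hcases : Cfsg.sqNorm x = 32 ∨ Cfsg.sqNorm x = 48 ∨ Cfsg.sqNorm x = 64 := by omega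
        rcases hcases with e | e | e
        exacts [h32 ⟨x, hx⟩ e, h48 ⟨x, hx⟩ e, h64 ⟨x, hx⟩ e]
    · obtain ⟨y, hy, hy64, z, hz, hxy⟩ := CfsgLib.Golay.exists_short_congTwo hx
      have e1 : x - y = (2 : ℤ) • z := by rw [hxy]; module
      have hsq : 4 * Cfsg.sqNorm z ≤ 2 * Cfsg.sqNorm x + 2 * Cfsg.sqNorm y := by
        have h1 := CfsgLib.Golay.sqNorm_nonneg (x + y)
        rw [CfsgLib.Golay.sqNorm_add_eq] at h1
        have h2 := CfsgLib.Golay.sqNorm_sub_eq x y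
        rw [e1, CfsgLib.Golay.sqNorm_smul] at h2
        norm_num at h2
        omega
      have hnpos : 1 ≤ n := by omega
      have hzM : z ∈ M := ih (n - 1) (by omega) z hz (by omega)
      have hyM : y ∈ M := ih (n - 1) (by omega) y hy (by omega)
      rw [eq_add_of_sub_eq hxy]
      exact add_mem (nsmul_mem hzM 2) hyM

end Cfsg.Agent.S1567
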