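import Cfsg.Statements.S1516
import Cfsg.Agent.Lib.OddChar.Coherence
import Cfsg.Agent.Lib.Characters.Values

set_option autoImplicit false
open Cfsg

namespace Cfsg.Agent.S1516

/-- Let (S, τ, R) be a coherence system from L to G with degrees φ 1 = d φ and squared norms ⟨φ, φ⟩ = n φ for φ ∈ S. Let S₁ ⊆ S be a finite subset closed under complex conjugation such that (S₁, L minus 1, τ) is coherent, let χ ∈ S with χ ∉ S₁ and conj χ ∉ S₁, and let χ₁ ∈ S₁ with d χ₁ dividing d χ and 2 d χ d χ₁ < Σ_{φ ∈ S₁} (d φ)² / n φ. Then S₁ together with χ and conj χ is coherent. -/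
theorem result {L : Type*} [Group L] [Fintype L] {G : Type*} [Group G] [Fintype G] (S : Set (L → ℂ)) (τ : (L → ℂ) → (G → ℂ)) (R : (L → ℂ) → Finset (G → ℂ)) (hS : Cfsg.IsCoherenceSystem S τ R) (d n : (L → ℂ) → ℕ) (hd : ∀ φ ∈ S, φ 1 = (d φ : ℂ)) (hn : ∀ φ ∈ S, Cfsg.classInner φ φ = (n φ : ℂ)) (S₁ : Finset (L → ℂ)) (hS₁ : ↑S₁ ⊆ S) (hS₁c : ∀ φ ∈ S₁, Cfsg.conjFun φ ∈ S₁) (hcoh : Cfsg.IsCoherent (↑S₁ : Set (L → ℂ)) {1}ᶜ τ) (χ : L → ℂ) (hχ : χ ∈ S) (hχ₁ : χ ∉ S₁) (hχ₂ : Cfsg.conjFun χ ∉ S₁) (χ₁ : L → ℂ) (hχ₁S : χ₁ ∈ S₁) (hdvd : d χ₁ ∣ d χ) (hineq : (2 * d χ * d χ₁ : ℝ) < ∑ φ ∈ S₁, ((d φ : ℝ) ^ 2 / (n φ : ℝ))) : Cfsg.IsCoherent (↑S₁ ∪ {χ, Cfsg.conjFun χ} : Set (L → ℂ)) {1}ᶜ τ := by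
  classical
  have hχc := hS.conj_mem χ hχ
  have hχ₁ne : χ₁ ∈ S := hS₁ hχ₁S
  obtain ⟨-, τ₁, hτ₁, hext⟩ := hcoh
  have hd0 : ∀ φ ∈ S, d φ ≠ 0 := by
    intro φ hφ h0
    refine CfsgLib.OddChar.sys_ne_zero hS hφ (funext fun g => ?_)
    have := CfsgLib.Characters.norm_le_degree_of_isCharacter (hS.isCharacter φ hφ) g
    simp [hd φ hφ, h0] at this
    exact this
  have hne : ∀ φ ∈ S₁, φ ≠ χ ∧ φ ≠ Cfsg.conjFun χ := fun φ hφ =>
    ⟨fun e => hχ₁ (e ▸ hφ), fun e => hχ₂ (e ▸ hφ)⟩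
  have o1 : ∀ φ ∈ S₁, Cfsg.classInner φ χ = 0 ∧ Cfsg.classInner φ (Cfsg.conjFun χ) = 0 ∧
      Cfsg.classInner χ φ = 0 ∧ Cfsg.classInner (Cfsg.conjFun χ) φ = 0 := fun φ hφ =>
    ⟨hS.orthogonal φ (hS₁ hφ) χ hχ (hne φ hφ).1, hS.orthogonal φ (hS₁ hφ) _ hχc (hne φ hφ).2,
      hS.orthogonal χ hχ φ (hS₁ hφ) (hne φ hφ).1.symm,
      hS.orthogonal _ hχc φ (hS₁ hφ) (hne φ hφ).2.symm⟩
  have hz : ∀ φ ∈ S₁, φ ∈ Cfsg.zspan (↑S₁ : Set (L → ℂ)) := fun φ h =>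
    CfsgLib.OddChar.zspan_of_mem (Finset.mem_coe.mpr h)
  have hperp : ∀ φ ∈ S₁, ∀ α ∈ R χ, Cfsg.classInner (τ₁ φ) α = 0 := by
    intro φ hφ α hα
    rw [CfsgLib.OddChar.extension_mem_R hS hS₁ hS₁c hτ₁ hext hφ]
    exact CfsgLib.OddChar.classInner_orthProj_zero fun β hβ =>
      hS.disjoint χ hχ φ (hS₁ hφ) (o1 φ hφ).1 (o1 φ hφ).2.1 β hβ α hα
  obtain ⟨a, ha⟩ := hdvd
  set γ₀ := χ - (a : ℤ) • χ₁ with hγ₀
  have hγ₀S : γ₀ ∈ Cfsg.zspanOn S {1}ᶜ := CfsgLib.OddChar.zspanOn_compl_one.mpr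
    ⟨CfsgLib.OddChar.zspan_sub (CfsgLib.OddChar.zspan_of_mem hχ)
      (CfsgLib.OddChar.zspan_zsmul _ (CfsgLib.OddChar.zspan_of_mem hχ₁ne)), by
      simp [hγ₀, hd χ hχ, hd χ₁ hχ₁ne, ha, mul_comm]⟩
  set β := τ γ₀ with hβ
  have hββ : Cfsg.classInner β β = (n χ : ℂ) + (a : ℂ) ^ 2 * n χ₁ := by
    rw [hβ, hS.isometry.2.2.1 _ hγ₀S _ hγ₀S, hγ₀, CfsgLib.Characters.classInner_sub_left,
      CfsgLib.Characters.classInner_sub_right, CfsgLib.Characters.classInner_sub_right,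
      CfsgLib.OddChar.classInner_zsmul_left, CfsgLib.OddChar.classInner_zsmul_left,
      CfsgLib.OddChar.classInner_zsmul_right, CfsgLib.OddChar.classInner_zsmul_right,
      hn χ hχ, hn χ₁ hχ₁ne, (o1 χ₁ hχ₁S).1, (o1 χ₁ hχ₁S).2.2.1]
    push_cast; ring
  have hinner : Cfsg.classInner β (τ (χ - Cfsg.conjFun χ)) = ((n χ : ℤ) : ℂ) := by
    rw [hβ, hS.isometry.2.2.1 _ hγ₀S _ (CfsgLib.OddChar.sys_sub_conj_mem hS hχ), hγ₀,
      CfsgLib.Characters.classInner_sub_left, CfsgLib.Characters.classInner_sub_right,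
      CfsgLib.Characters.classInner_sub_right, CfsgLib.OddChar.classInner_zsmul_left,
      CfsgLib.OddChar.classInner_zsmul_left, hn χ hχ, (o1 χ₁ hχ₁S).1, (o1 χ₁ hχ₁S).2.1,
      hS.orthogonal χ hχ _ hχc (hS.conj_ne χ hχ).symm]
    push_cast; ring
  have hβgen := hS.isometry.2.2.2 _ hγ₀S
  obtain ⟨c, hc, hcsum, hle, hceq⟩ := CfsgLib.OddChar.rchi_coeff hS hχ hβgen hinner
  set P := CfsgLib.OddChar.orthProj (R χ) β with hP
  have hPperp : ∀ φ ∈ S₁, Cfsg.classInner P (τ₁ φ) = 0 := fun φ hφ =>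
    CfsgLib.OddChar.classInner_orthProj_zero fun α hα => by
      rw [CfsgLib.Characters.classInner_conj_symm, hperp φ hφ α hα, map_zero]
  set zz := Cfsg.classInner β (τ₁ χ₁) + (a : ℂ) * n χ₁ with hzz
  have he : ∀ φ ∈ S₁, (d χ₁ : ℂ) * Cfsg.classInner β (τ₁ φ) =
      (d φ : ℂ) * zz - (a : ℂ) * d χ₁ * n χ₁ * (if φ = χ₁ then 1 else 0) := by
    intro φ hφ
    have hm : (d χ₁ : ℤ) • φ - (d φ : ℤ) • χ₁ ∈ Cfsg.zspanOn (↑S₁ : Set (L → ℂ)) {1}ᶜ :=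
      CfsgLib.OddChar.zspanOn_compl_one.mpr ⟨CfsgLib.OddChar.zspan_sub
        (CfsgLib.OddChar.zspan_zsmul _ (hz φ hφ)) (CfsgLib.OddChar.zspan_zsmul _ (hz χ₁ hχ₁S)), by
        simp [hd φ (hS₁ hφ), hd χ₁ hχ₁ne, mul_comm]⟩
    have h := hS.isometry.2.2.1 _ hγ₀S _ (CfsgLib.OddChar.zspanOn_mono hS₁ _ hm)
    rw [← hext _ hm, CfsgLib.OddChar.isometry_sub hτ₁ (CfsgLib.OddChar.zspan_zsmul _ (hz φ hφ))
      (CfsgLib.OddChar.zspan_zsmul _ (hz χ₁ hχ₁S)) hm.1, hτ₁.2.1 _ (hz φ hφ),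
      hτ₁.2.1 _ (hz χ₁ hχ₁S), CfsgLib.Characters.classInner_sub_right,
      CfsgLib.OddChar.classInner_zsmul_right, CfsgLib.OddChar.classInner_zsmul_right, ← hβ, hγ₀,
      CfsgLib.Characters.classInner_sub_left, CfsgLib.Characters.classInner_sub_right,
      CfsgLib.Characters.classInner_sub_right, CfsgLib.OddChar.classInner_zsmul_left,
      CfsgLib.OddChar.classInner_zsmul_left, CfsgLib.OddChar.classInner_zsmul_right,
      CfsgLib.OddChar.classInner_zsmul_right, CfsgLib.OddChar.classInner_zsmul_right,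
      CfsgLib.OddChar.classInner_zsmul_right, (o1 φ hφ).2.2.1, (o1 χ₁ hχ₁S).2.2.1,
      hn χ₁ hχ₁ne] at h
    rw [hzz]
    by_cases e : φ = χ₁
    · subst e; rw [if_pos rfl]; push_cast at h ⊢; ring
    · rw [if_neg e]
      rw [hS.orthogonal χ₁ hχ₁ne φ (hS₁ hφ) (Ne.symm e)] at h
      push_cast at h ⊢
      linear_combination h
  obtain ⟨w, hw⟩ := CfsgLib.Characters.classInner_generalized_int hβgen
    (hτ₁.2.2.2 χ₁ (hz χ₁ hχ₁S))
  set z : ℤ := w + (a : ℤ) * n χ₁ with hzdef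
  have hzc : zz = (z : ℂ) := by rw [hzz, hw, hzdef]; push_cast; ring
  have hd₁ : (d χ₁ : ℂ) ≠ 0 := Nat.cast_ne_zero.mpr (hd0 χ₁ hχ₁ne)
  have hτn : ∀ φ ∈ S₁, Cfsg.classInner (τ₁ φ) (τ₁ φ) = n φ := fun φ hφ => by
    rw [hτ₁.2.2.1 φ (hz φ hφ) φ (hz φ hφ), hn φ (hS₁ hφ)]
  have hn0 : ∀ φ ∈ S, n φ ≠ 0 := fun φ hφ e =>
    CfsgLib.OddChar.sys_norm_ne_zero hS hφ (by rw [hn φ hφ, e, Nat.cast_zero])
  have hτo : ∀ φ ∈ S₁, ∀ ξ ∈ S₁, φ ≠ ξ → Cfsg.classInner (τ₁ φ) (τ₁ ξ) = 0 := fun φ hφ ξ hξ e => by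
    rw [hτ₁.2.2.1 φ (hz φ hφ) ξ (hz ξ hξ), hS.orthogonal φ (hS₁ hφ) ξ (hS₁ hξ) e]
  have hinj : Set.InjOn τ₁ (↑S₁ : Set (L → ℂ)) := by
    intro φ hφ ξ hξ e
    by_contra hne'
    have := hτo φ hφ ξ hξ hne'
    rw [e, hτn ξ hξ] at this
    exact hn0 ξ (hS₁ hξ) (by exact_mod_cast this)
  set E := S₁.image τ₁ with hE
  have hEo : ∀ x ∈ E, ∀ y ∈ E, x ≠ y → Cfsg.classInner x y = 0 := by
    intro x hx y hy hxy
    obtain ⟨φ, hφ, rfl⟩ := Finset.mem_image.mp hx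
    obtain ⟨ξ, hξ, rfl⟩ := Finset.mem_image.mp hy
    exact hτo φ hφ ξ hξ fun e => hxy (e ▸ rfl)
  have hEn : ∀ x ∈ E, Cfsg.classInner x x ≠ 0 := by
    intro x hx
    obtain ⟨φ, hφ, rfl⟩ := Finset.mem_image.mp hx
    rw [hτn φ hφ]; exact Nat.cast_ne_zero.mpr (hn0 φ (hS₁ hφ))
  set Y := β - P with hY
  have hYφ : ∀ φ ∈ S₁, Cfsg.classInner Y (τ₁ φ) =
      (((d φ : ℝ) * z / d χ₁ - a * n χ₁ * (if φ = χ₁ then 1 else 0) : ℝ) : ℂ) := by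
    intro φ hφ
    rw [hY, CfsgLib.Characters.classInner_sub_left, hPperp φ hφ, sub_zero]
    refine mul_left_cancel₀ hd₁ ?_
    rw [he φ hφ, hzc]
    split_ifs <;> (push_cast; field_simp)
  have hYY : Cfsg.classInner Y Y = ((n χ + (a : ℝ) ^ 2 * n χ₁ -
      ((∑ α ∈ R χ, c α ^ 2 : ℤ) : ℝ) : ℝ) : ℂ) := by
    rw [hY, hP, CfsgLib.OddChar.orthProj_pythagoras (CfsgLib.OddChar.R_orth hS hχ)
      (CfsgLib.OddChar.R_norm_ne hS hχ), CfsgLib.OddChar.sum_conj_int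
      (CfsgLib.OddChar.R_norm hS hχ) hc, hββ]
    push_cast; ring
  have hsumE : ∑ x ∈ E, Cfsg.classInner Y x * (starRingEnd ℂ) (Cfsg.classInner Y x) /
      Cfsg.classInner x x = (((∑ φ ∈ S₁, (d φ : ℝ) ^ 2 / n φ) * (z / d χ₁ : ℝ) ^ 2 -
        2 * a * z + (a : ℝ) ^ 2 * n χ₁ : ℝ) : ℂ) := by
    rw [hE, Finset.sum_image hinj]
    have e : ∀ φ ∈ S₁, Cfsg.classInner Y (τ₁ φ) * (starRingEnd ℂ) (Cfsg.classInner Y (τ₁ φ)) /
        Cfsg.classInner (τ₁ φ) (τ₁ φ) = (((d φ : ℝ) ^ 2 / n φ * (z / d χ₁ : ℝ) ^ 2 +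
          (if φ = χ₁ then -2 * a * z + (a : ℝ) ^ 2 * n χ₁ else 0) : ℝ) : ℂ) := by
      intro φ hφ
      have hnφ : (n φ : ℝ) ≠ 0 := Nat.cast_ne_zero.mpr (hn0 φ (hS₁ hφ))
      have hd1 : (d χ₁ : ℝ) ≠ 0 := Nat.cast_ne_zero.mpr (hd0 χ₁ hχ₁ne)
      rw [hYφ φ hφ, hτn φ hφ, Complex.conj_ofReal, ← Complex.ofReal_mul,
        ← Complex.ofReal_natCast, ← Complex.ofReal_div]
      congr 1
      split_ifs with e
      · subst e; field_simp; ring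
      · field_simp; ring
    rw [Finset.sum_congr rfl e, ← Complex.ofReal_sum]
    congr 1
    rw [Finset.sum_add_distrib, ← Finset.sum_mul, Finset.sum_ite_eq', if_pos hχ₁S]
    ring
  have hb := CfsgLib.OddChar.classInner_self_re_nonneg (Y - CfsgLib.OddChar.orthProj E Y)
  rw [CfsgLib.OddChar.orthProj_pythagoras hEo hEn, hYY, hsumE, ← Complex.ofReal_sub,
    Complex.ofReal_re] at hb
  have hC : (n χ : ℝ) ≤ ((∑ α ∈ R χ, c α ^ 2 : ℤ) : ℝ) := by exact_mod_cast hle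
  set Ssum := ∑ φ ∈ S₁, (d φ : ℝ) ^ 2 / n φ with hSsum
  have hd1p : (0 : ℝ) < d χ₁ := Nat.cast_pos.mpr (Nat.pos_of_ne_zero (hd0 χ₁ hχ₁ne))
  have hz0 : z = 0 := by
    by_contra hz0
    have haR : (d χ : ℝ) = d χ₁ * a := by exact_mod_cast ha
    have h1 : (1 : ℝ) ≤ |(z : ℝ)| := by exact_mod_cast Int.one_le_abs hz0
    have h2 : Ssum * (z / d χ₁ : ℝ) ^ 2 ≤ 2 * a * |(z : ℝ)| := by
      have h4 : (a : ℝ) * z ≤ a * |(z : ℝ)| := by
        gcongr; exact le_abs_self _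
      nlinarith [hb, hC, h4]
    have h3 : Ssum * (|(z : ℝ)| * |(z : ℝ)|) ≤ 2 * a * |(z : ℝ)| * (d χ₁ : ℝ) ^ 2 := by
      rw [abs_mul_abs_self, ← sq]
      rw [div_pow, mul_div_assoc', div_le_iff₀ (by positivity)] at h2
      exact h2
    rw [haR] at hineq
    have hS0 : 2 * (d χ₁ : ℝ) * a * d χ₁ < Ssum := by convert hineq using 1; ring
    have k1 := mul_lt_mul_of_pos_right hS0 (mul_pos (by linarith : (0:ℝ) < |(z : ℝ)|)
      (by linarith : (0:ℝ) < |(z : ℝ)|))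
    have k2 : 2 * (a : ℝ) * |(z : ℝ)| * (d χ₁ : ℝ) ^ 2 ≤
        2 * (a : ℝ) * |(z : ℝ)| * (d χ₁ : ℝ) ^ 2 * |(z : ℝ)| :=
      le_mul_of_one_le_right (by positivity) h1
    have k3 : 2 * (d χ₁ : ℝ) * a * d χ₁ * (|(z : ℝ)| * |(z : ℝ)|) =
        2 * (a : ℝ) * |(z : ℝ)| * (d χ₁ : ℝ) ^ 2 * |(z : ℝ)| := by ring
    linarith
  have hCeq : ∑ α ∈ R χ, c α ^ 2 ≤ (n χ : ℤ) := by
    rw [hz0] at hb
    norm_num at hb
    have : ((∑ α ∈ R χ, c α ^ 2 : ℤ) : ℝ) ≤ ((n χ : ℤ) : ℝ) := by push_cast at hb ⊢; linarith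
    exact_mod_cast this
  obtain ⟨hCn, h01⟩ := hceq hCeq
  have hPP : Cfsg.classInner P P = (n χ : ℂ) := by
    have h := CfsgLib.OddChar.orthProj_pythagoras (CfsgLib.OddChar.R_orth hS hχ)
      (CfsgLib.OddChar.R_norm_ne hS hχ) β
    have hpb : Cfsg.classInner P β = ((∑ α ∈ R χ, c α ^ 2 : ℤ) : ℂ) := by
      rw [← CfsgLib.OddChar.sum_conj_int (CfsgLib.OddChar.R_norm hS hχ) hc, hP,
        CfsgLib.OddChar.orthProj, CfsgLib.Characters.classInner_sum_left]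
      refine Finset.sum_congr rfl fun α _ => ?_
      rw [CfsgLib.Characters.classInner_smul_left, CfsgLib.Characters.classInner_conj_symm β α]
      ring
    have hbp : Cfsg.classInner β P = ((∑ α ∈ R χ, c α ^ 2 : ℤ) : ℂ) := by
      rw [CfsgLib.Characters.classInner_conj_symm, hpb, map_intCast]
    rw [CfsgLib.OddChar.sum_conj_int (CfsgLib.OddChar.R_norm hS hχ) hc, ← hP,
      CfsgLib.Characters.classInner_sub_left, CfsgLib.Characters.classInner_sub_right,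
      CfsgLib.Characters.classInner_sub_right, hpb, hbp, hCn] at h
    push_cast at h
    linear_combination h
  have hβeq : β = P - (a : ℤ) • τ₁ χ₁ := by
    have hYE : Y = CfsgLib.OddChar.orthProj E Y := by
      refine CfsgLib.OddChar.eq_orthProj hEo hEn ?_
      rw [hYY, hsumE, hCn, hz0]
      push_cast; ring
    have hW : CfsgLib.OddChar.orthProj E Y = -((a : ℤ) • τ₁ χ₁) := by
      rw [CfsgLib.OddChar.orthProj, hE, Finset.sum_image hinj, Finset.sum_eq_single χ₁]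
      · rw [hYφ χ₁ hχ₁S, hτn χ₁ hχ₁S, if_pos rfl, hz0, CfsgLib.OddChar.zsmul_eq_smul, ← neg_smul]
        congr 1
        have : (n χ₁ : ℂ) ≠ 0 := Nat.cast_ne_zero.mpr (hn0 χ₁ hχ₁ne)
        push_cast; field_simp; ring
      · intro φ hφ hne'
        rw [hYφ φ hφ, if_neg hne', hz0]
        simp
      · exact fun h => absurd hχ₁S h
    rw [hW, hY] at hYE
    rw [sub_eq_iff_eq_add] at hYE
    rw [hYE]; abel
  have hPgen : Cfsg.IsGeneralizedCharacter G P := by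
    have : P = β + (a : ℤ) • τ₁ χ₁ := by rw [hβeq]; abel
    rw [this]
    exact CfsgLib.Characters.isGeneralizedCharacter_add hβgen
      (CfsgLib.Characters.isGeneralizedCharacter_zsmul (hτ₁.2.2.2 χ₁ (hz χ₁ hχ₁S)) _)
  set sr := ∑ α ∈ R χ, α with hsr
  have hPR : Cfsg.classInner P sr = (n χ : ℂ) := by
    rw [hsr, CfsgLib.Characters.classInner_sum_right,
      Finset.sum_congr rfl (fun α hα => (CfsgLib.OddChar.classInner_orthProj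
        (CfsgLib.OddChar.R_orth hS hχ) (CfsgLib.OddChar.R_norm_ne hS hχ) β hα).trans (hc α hα))]
    rw [← Int.cast_sum, hcsum, Int.cast_natCast]
  have hRP : Cfsg.classInner sr P = (n χ : ℂ) := by
    rw [CfsgLib.Characters.classInner_conj_symm, hPR, map_natCast]
  have hRφ : ∀ φ ∈ S₁, Cfsg.classInner sr (τ₁ φ) = 0 := fun φ hφ => by
    rw [hsr, CfsgLib.Characters.classInner_sum_left]
    exact Finset.sum_eq_zero fun α hα => by
      rw [CfsgLib.Characters.classInner_conj_symm, hperp φ hφ α hα, map_zero]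
  have hRR : Cfsg.classInner sr sr = 2 * (n χ : ℂ) := by
    rw [hsr, ← hS.sum_eq χ hχ, hS.isometry.2.2.1 _ (CfsgLib.OddChar.sys_sub_conj_mem hS hχ) _
      (CfsgLib.OddChar.sys_sub_conj_mem hS hχ), CfsgLib.Characters.classInner_sub_left,
      CfsgLib.Characters.classInner_sub_right, CfsgLib.Characters.classInner_sub_right,
      CfsgLib.OddChar.sys_conj_norm, hn χ hχ,
      hS.orthogonal χ hχ _ hχc (hS.conj_ne χ hχ).symm,
      hS.orthogonal _ hχc χ hχ (hS.conj_ne χ hχ)]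
    ring
  set U := insert χ (insert (Cfsg.conjFun χ) S₁) with hU
  set v : (L → ℂ) → (G → ℂ) := fun φ =>
    if φ = χ then P else if φ = Cfsg.conjFun χ then P - sr else τ₁ φ with hv
  have vχ : v χ = P := by simp [hv]
  have vc : v (Cfsg.conjFun χ) = P - sr := by simp [hv, hS.conj_ne χ hχ]
  have vφ : ∀ φ ∈ S₁, v φ = τ₁ φ := fun φ hφ => by simp [hv, (hne φ hφ).1, (hne φ hφ).2]
  have hUS : ∀ φ ∈ U, φ ∈ S := by
    intro φ hφ
    simp only [hU, Finset.mem_insert] at hφ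
    rcases hφ with rfl | rfl | h
    exacts [hχ, hχc, hS₁ h]
  have hgoal : (↑S₁ ∪ {χ, Cfsg.conjFun χ} : Set (L → ℂ)) = ↑U := by
    ext φ
    simp only [hU, Finset.coe_insert, Set.mem_union, Set.mem_insert_iff, Set.mem_singleton_iff,
      Finset.mem_coe]
    tauto
  rw [hgoal]
  refine CfsgLib.OddChar.coherent_of_images U v
    (fun φ hφ ψ hψ h => hS.orthogonal φ (hUS φ hφ) ψ (hUS ψ hψ) h)
    (fun φ hφ => CfsgLib.OddChar.sys_norm_ne_zero hS (hUS φ hφ)) ?_ ?_ (fun φ => (d φ : ℤ))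
    (fun φ hφ => by rw [hd φ (hUS φ hφ), Int.cast_natCast]) χ₁
    (by simp [hU, hχ₁S]) (Int.natCast_ne_zero.mpr (hd0 χ₁ hχ₁ne))
    (CfsgLib.OddChar.isometry_mono hS.isometry (CfsgLib.OddChar.zspanOn_mono hUS _)) ?_
    ⟨χ - Cfsg.conjFun χ, ⟨CfsgLib.OddChar.zspan_sub (CfsgLib.OddChar.zspan_of_mem (by simp [hU]))
      (CfsgLib.OddChar.zspan_of_mem (by simp [hU])), (CfsgLib.OddChar.sys_sub_conj_mem hS hχ).2⟩,
      sub_ne_zero.mpr (hS.conj_ne χ hχ).symm⟩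
  · intro φ hφ
    simp only [hU, Finset.mem_insert] at hφ
    rcases hφ with rfl | rfl | h
    · rw [vχ]; exact hPgen
    · rw [vc, hsr]
      exact CfsgLib.Characters.isGeneralizedCharacter_sub hPgen
        (CfsgLib.Characters.isGeneralizedCharacter_sum _ (hS.virtual χ hχ))
    · rw [vφ φ h]; exact hτ₁.2.2.2 φ (hz φ h)
  · have hφP : ∀ φ ∈ S₁, Cfsg.classInner (τ₁ φ) P = 0 := fun φ hφ => by
      rw [CfsgLib.Characters.classInner_conj_symm, hPperp φ hφ, map_zero]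
    have hφR : ∀ φ ∈ S₁, Cfsg.classInner (τ₁ φ) sr = 0 := fun φ hφ => by
      rw [CfsgLib.Characters.classInner_conj_symm, hRφ φ hφ, map_zero]
    intro φ hφ ψ hψ
    simp only [hU, Finset.mem_insert] at hφ hψ
    rcases hφ with rfl | rfl | h <;> rcases hψ with rfl | rfl | k
    · rw [vχ, hPP, hn _ hχ]
    · rw [vχ, vc, CfsgLib.Characters.classInner_sub_right, hPP, hPR, sub_self,
        hS.orthogonal _ hχ _ hχc (hS.conj_ne _ hχ).symm]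
    · rw [vχ, vφ _ k, hPperp _ k, (o1 _ k).2.2.1]
    · rw [vχ, vc, CfsgLib.Characters.classInner_sub_left, hPP, hRP, sub_self,
        hS.orthogonal _ hχc _ hχ (hS.conj_ne _ hχ)]
    · rw [vc, CfsgLib.Characters.classInner_sub_left, CfsgLib.Characters.classInner_sub_right,
        CfsgLib.Characters.classInner_sub_right, hPP, hPR, hRP, hRR,
        CfsgLib.OddChar.sys_conj_norm, hn _ hχ]
      ring
    · rw [vc, vφ _ k, CfsgLib.Characters.classInner_sub_left, hPperp _ k, hRφ _ k, sub_self,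
        (o1 _ k).2.2.2]
    · rw [vφ _ h, vχ, hφP _ h, (o1 _ h).1]
    · rw [vφ _ h, vc, CfsgLib.Characters.classInner_sub_right, hφP _ h, hφR _ h, sub_self,
        (o1 _ h).2.1]
    · rw [vφ _ h, vφ _ k, hτ₁.2.2.1 _ (hz _ h) _ (hz _ k)]
  · have hkey : (d χ₁ : ℤ) • χ - (d χ : ℤ) • χ₁ = (d χ₁ : ℤ) • γ₀ := by
      rw [hγ₀, smul_sub, smul_smul]
      congr 1
      rw [ha]; push_cast; rfl
    intro φ hφ
    simp only [hU, Finset.mem_insert] at hφ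
    rcases hφ with rfl | rfl | h
    · rw [vχ, vφ χ₁ hχ₁S, hkey, hS.isometry.2.1 _ hγ₀S, ← hβ, hβeq, smul_sub, smul_smul, ha]
      push_cast; rfl
    · have hdd : d (Cfsg.conjFun χ) = d χ := by
        have := hd _ hχc
        rw [CfsgLib.OddChar.sys_conj_one hS hχ, hd χ hχ] at this
        exact_mod_cast this.symm
      have hsub := CfsgLib.OddChar.sys_sub_conj_mem hS hχ
      have e : (d χ₁ : ℤ) • Cfsg.conjFun χ - (d (Cfsg.conjFun χ) : ℤ) • χ₁ =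
          (d χ₁ : ℤ) • (γ₀ - (χ - Cfsg.conjFun χ)) := by
        rw [hdd, smul_sub, ← hkey, smul_sub]; abel
      rw [vc, vφ χ₁ hχ₁S, e, hS.isometry.2.1 _ (CfsgLib.OddChar.zspanOn_sub hγ₀S hsub),
        CfsgLib.OddChar.isometry_sub hS.isometry hγ₀S hsub
          (CfsgLib.OddChar.zspanOn_sub hγ₀S hsub), ← hβ, hβeq, hS.sum_eq χ hχ, ← hsr, hdd, ha]
      push_cast
      rw [mul_smul, ← smul_sub]
      congr 1
      abel
    · have hm : (d χ₁ : ℤ) • φ - (d φ : ℤ) • χ₁ ∈ Cfsg.zspanOn (↑S₁ : Set (L → ℂ)) {1}ᶜ :=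
        CfsgLib.OddChar.zspanOn_compl_one.mpr ⟨CfsgLib.OddChar.zspan_sub
          (CfsgLib.OddChar.zspan_zsmul _ (hz φ h)) (CfsgLib.OddChar.zspan_zsmul _ (hz χ₁ hχ₁S)), by
          simp [hd φ (hS₁ h), hd χ₁ hχ₁ne, mul_comm]⟩
      rw [vφ φ h, vφ χ₁ hχ₁S, ← hext _ hm,
        CfsgLib.OddChar.isometry_sub hτ₁ (CfsgLib.OddChar.zspan_zsmul _ (hz φ h))
          (CfsgLib.OddChar.zspan_zsmul _ (hz χ₁ hχ₁S)) hm.1,
        hτ₁.2.1 _ (hz φ h), hτ₁.2.1 _ (hz χ₁ hχ₁S)]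

end Cfsg.Agent.S1516
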