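import Cfsg.Statements.S1517
import Cfsg.Agent.Lib.OddChar.Coherence
import Cfsg.Agent.Lib.Characters.Values

set_option autoImplicit false
open Cfsg

namespace Cfsg.Agent.S1517

/-- Let (S, τ, R) be a coherence system from L to G such that φ 1 = ψ 1 for all φ, ψ ∈ S. Then (S, L minus 1, τ) is coherent. -/
theorem result {L : Type*} [Group L] [Fintype L] {G : Type*} [Group G] [Fintype G] (S : Set (L → ℂ)) (τ : (L → ℂ) → (G → ℂ)) (R : (L → ℂ) → Finset (G → ℂ)) (hS : Cfsg.IsCoherenceSystem S τ R) (hdeg : ∀ φ ∈ S, ∀ ψ ∈ S, φ 1 = ψ 1) : Cfsg.IsCoherent S {1}ᶜ τ := by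
  classical
  have hfin : S.Finite := CfsgLib.OddChar.orth_finite (fun χ h => CfsgLib.OddChar.sys_ne_zero hS h)
    hS.orthogonal
  obtain ⟨χ, hχ⟩ := hS.nonempty
  have hχc := hS.conj_mem χ hχ
  obtain ⟨D, hD⟩ := CfsgLib.Characters.exists_degree (hS.isCharacter χ hχ)
  have hD0 : D ≠ 0 := by
    intro h0
    refine CfsgLib.OddChar.sys_ne_zero hS hχ (funext fun g => ?_)
    have := CfsgLib.Characters.norm_le_degree_of_isCharacter (hS.isCharacter χ hχ) g
    simp [hD, h0] at this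
    exact this
  obtain ⟨n, hn, -⟩ := CfsgLib.OddChar.char_norm_nat (hS.isCharacter χ hχ)
  set sr := ∑ α ∈ R χ, α with hsr
  have hγ : ∀ φ ∈ S, ∀ ψ ∈ S, φ - ψ ∈ Cfsg.zspanOn S {1}ᶜ := fun φ hφ ψ hψ =>
    CfsgLib.OddChar.zspanOn_compl_one.mpr ⟨CfsgLib.OddChar.zspan_sub
      (CfsgLib.OddChar.zspan_of_mem hφ) (CfsgLib.OddChar.zspan_of_mem hψ), by
      rw [Pi.sub_apply, hdeg φ hφ ψ hψ, sub_self]⟩
  have hinner : ∀ φ ∈ S, ∀ φ' ∈ S, ∀ ψ ∈ S, ∀ ψ' ∈ S,
      Cfsg.classInner (τ (φ - φ')) (τ (ψ - ψ')) = Cfsg.classInner φ ψ - Cfsg.classInner φ ψ' -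
        Cfsg.classInner φ' ψ + Cfsg.classInner φ' ψ' := by
    intro φ h1 φ' h2 ψ h3 ψ' h4
    rw [hS.isometry.2.2.1 _ (hγ φ h1 φ' h2) _ (hγ ψ h3 ψ' h4),
      CfsgLib.Characters.classInner_sub_left, CfsgLib.Characters.classInner_sub_right,
      CfsgLib.Characters.classInner_sub_right]
    ring
  have horthc := hS.orthogonal χ hχ _ hχc (hS.conj_ne χ hχ).symm
  have horthc' := hS.orthogonal _ hχc χ hχ (hS.conj_ne χ hχ)
  have hnc : Cfsg.classInner (Cfsg.conjFun χ) (Cfsg.conjFun χ) = (n : ℂ) := by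
    rw [CfsgLib.OddChar.sys_conj_norm, hn]
  set O := {ψ : L → ℂ | ψ ∈ S ∧ ψ ≠ χ ∧ ψ ≠ Cfsg.conjFun χ} with hO
  have hOorth : ∀ ψ ∈ O, Cfsg.classInner χ ψ = 0 ∧ Cfsg.classInner ψ χ = 0 ∧
      Cfsg.classInner ψ (Cfsg.conjFun χ) = 0 ∧ Cfsg.classInner (Cfsg.conjFun χ) ψ = 0 :=
    fun ψ h => ⟨hS.orthogonal χ hχ ψ h.1 (Ne.symm h.2.1), hS.orthogonal ψ h.1 χ hχ h.2.1,
      hS.orthogonal ψ h.1 _ hχc h.2.2, hS.orthogonal _ hχc ψ h.1 (Ne.symm h.2.2)⟩
  have hperp : ∀ ψ ∈ O, ∀ α ∈ R ψ, ∀ β ∈ R χ, Cfsg.classInner α β = 0 := fun ψ h =>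
    hS.disjoint χ hχ ψ h.1 (hOorth ψ h).2.1 (hOorth ψ h).2.2.1
  set X₀ : (L → ℂ) → (G → ℂ) := fun ψ => CfsgLib.OddChar.orthProj (R χ) (τ (χ - ψ)) with hX₀
  have hbasic : ∀ ψ ∈ O, Cfsg.IsGeneralizedCharacter G (X₀ ψ) ∧
      Cfsg.classInner (X₀ ψ) (X₀ ψ) = n ∧ Cfsg.classInner (X₀ ψ) sr = n ∧
      Cfsg.classInner (τ (χ - ψ)) (X₀ ψ) = n ∧
      τ (χ - ψ) - X₀ ψ = CfsgLib.OddChar.orthProj (R ψ) (τ (χ - ψ) - X₀ ψ) := by
    intro ψ hψ
    obtain ⟨m, hm, -⟩ := CfsgLib.OddChar.char_norm_nat (hS.isCharacter ψ hψ.1)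
    obtain ⟨o1, o2, o3, o4⟩ := hOorth ψ hψ
    have hg := hS.isometry.2.2.2 _ (hγ χ hχ ψ hψ.1)
    obtain ⟨c, hc, hcs, hcl, hce⟩ := CfsgLib.OddChar.rchi_coeff hS hχ hg (n := (n : ℤ)) (by
      rw [hinner χ hχ ψ hψ.1 χ hχ _ hχc, hn, horthc, o2, o3, Int.cast_natCast]; ring)
    obtain ⟨c', hc', -, hcl', -⟩ := CfsgLib.OddChar.rchi_coeff hS hψ.1
      (CfsgLib.Characters.isGeneralizedCharacter_neg hg) (n := (m : ℤ)) (by
      rw [CfsgLib.Characters.classInner_neg_left,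
        hinner χ hχ ψ hψ.1 ψ hψ.1 _ (hS.conj_mem ψ hψ.1), hm, o1,
        hS.orthogonal χ hχ _ (hS.conj_mem ψ hψ.1) (fun e => hψ.2.2 (by
          rw [e, CfsgLib.OddChar.conjFun_conjFun])),
        hS.orthogonal ψ hψ.1 _ (hS.conj_mem ψ hψ.1) (hS.conj_ne ψ hψ.1).symm, Int.cast_natCast]
      ring)
    have oR := CfsgLib.OddChar.R_orth hS hχ
    have nR := CfsgLib.OddChar.R_norm_ne hS hχ
    have oR' := CfsgLib.OddChar.R_orth hS hψ.1
    have nR' := CfsgLib.OddChar.R_norm_ne hS hψ.1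
    have hYc : ∀ α ∈ R ψ, Cfsg.classInner (τ (χ - ψ) - X₀ ψ) α = ((-c' α : ℤ) : ℂ) := by
      intro α hα
      have h0 : Cfsg.classInner (X₀ ψ) α = 0 :=
        CfsgLib.OddChar.classInner_orthProj_zero fun β hβ => by
          rw [CfsgLib.Characters.classInner_conj_symm, hperp ψ hψ α hα β hβ, map_zero]
      have h1 := hc' α hα
      rw [CfsgLib.Characters.classInner_neg_left] at h1
      rw [CfsgLib.Characters.classInner_sub_left, h0, Int.cast_neg, ← h1]; ring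
    have hββ : Cfsg.classInner (τ (χ - ψ)) (τ (χ - ψ)) = (n : ℂ) + m := by
      rw [hinner χ hχ ψ hψ.1 χ hχ ψ hψ.1, hn, hm, o1, o2]; ring
    have hYY : Cfsg.classInner (τ (χ - ψ) - X₀ ψ) (τ (χ - ψ) - X₀ ψ) =
        (((n : ℤ) + m - ∑ α ∈ R χ, c α ^ 2 : ℤ) : ℂ) := by
      rw [hX₀, CfsgLib.OddChar.orthProj_pythagoras oR nR,
        CfsgLib.OddChar.sum_conj_int (CfsgLib.OddChar.R_norm hS hχ) hc, hββ]
      push_cast; ring
    have hsq : ∑ α ∈ R ψ, (-c' α) ^ 2 = ∑ α ∈ R ψ, c' α ^ 2 :=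
      Finset.sum_congr rfl fun α _ => neg_sq _
    have hb := CfsgLib.OddChar.classInner_self_re_nonneg
      ((τ (χ - ψ) - X₀ ψ) - CfsgLib.OddChar.orthProj (R ψ) (τ (χ - ψ) - X₀ ψ))
    rw [CfsgLib.OddChar.orthProj_pythagoras oR' nR',
      CfsgLib.OddChar.sum_conj_int (CfsgLib.OddChar.R_norm hS hψ.1) hYc, hYY, hsq, ← Int.cast_sub,
      Complex.intCast_re] at hb
    have hb' : 0 ≤ (n : ℤ) + m - ∑ α ∈ R χ, c α ^ 2 - ∑ α ∈ R ψ, c' α ^ 2 := by exact_mod_cast hb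
    obtain ⟨hcn, h01⟩ := hce (by linarith)
    refine ⟨?_, ?_, ?_, ?_, ?_⟩
    · refine CfsgLib.Characters.isGeneralizedCharacter_sum _ fun α hα => ?_
      rw [CfsgLib.OddChar.R_norm hS hχ α hα, hc α hα, div_one]
      exact CfsgLib.Characters.isGeneralizedCharacter_intCast_smul (hS.virtual χ hχ α hα) _
    · simp only [hX₀]
      conv_lhs => arg 1; simp only [CfsgLib.OddChar.orthProj]
      rw [CfsgLib.Characters.classInner_sum_left,
        show (n : ℂ) = ((∑ α ∈ R χ, c α ^ 2 : ℤ) : ℂ) by rw [hcn, Int.cast_natCast], Int.cast_sum]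
      refine Finset.sum_congr rfl fun α hα => ?_
      rw [CfsgLib.Characters.classInner_smul_left,
        CfsgLib.Characters.classInner_conj_symm (CfsgLib.OddChar.orthProj (R χ) (τ (χ - ψ))) α,
        CfsgLib.OddChar.classInner_orthProj oR nR _ hα, CfsgLib.OddChar.R_norm hS hχ α hα,
        hc α hα, map_intCast]
      push_cast; ring
    · simp only [hX₀]
      rw [hsr, CfsgLib.Characters.classInner_sum_right,
        Finset.sum_congr rfl (fun α hα => (CfsgLib.OddChar.classInner_orthProj oR nR _ hα).trans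
          (hc α hα)), ← Int.cast_sum, hcs, Int.cast_natCast]
    · simp only [hX₀, CfsgLib.OddChar.orthProj]
      rw [CfsgLib.Characters.classInner_sum_right,
        show (n : ℂ) = ((∑ α ∈ R χ, c α ^ 2 : ℤ) : ℂ) by rw [hcn, Int.cast_natCast], Int.cast_sum]
      refine Finset.sum_congr rfl fun α hα => ?_
      rw [CfsgLib.Characters.classInner_smul_right, CfsgLib.OddChar.R_norm hS hχ α hα, hc α hα,
        div_one, map_intCast]
      push_cast; ring
    · refine CfsgLib.OddChar.eq_orthProj oR' nR' ?_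
      rw [CfsgLib.OddChar.sum_conj_int (CfsgLib.OddChar.R_norm hS hψ.1) hYc, hYY, hsq]
      have : ∑ α ∈ R ψ, c' α ^ 2 = (m : ℤ) := le_antisymm (by linarith) hcl'
      rw [this, hcn]; congr 1; ring
  have hsame : ∀ ψ ∈ O, ∀ ξ ∈ O, X₀ ψ = X₀ ξ := by
    intro ψ hψ ξ hξ
    by_cases e1 : ξ = ψ
    · rw [e1]
    by_cases e2 : ξ = Cfsg.conjFun ψ
    · have hcoef : ∀ α ∈ R χ, Cfsg.classInner (τ (χ - ξ)) α = Cfsg.classInner (τ (χ - ψ)) α := by
        intro α hα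
        have h3 : τ (χ - ξ) = τ (χ - ψ) + ∑ β ∈ R ψ, β := by
          rw [← hS.sum_eq ψ hψ.1, e2,
            ← hS.isometry.1 _ (hγ χ hχ ψ hψ.1) _ (CfsgLib.OddChar.sys_sub_conj_mem hS hψ.1)]
          congr 1; abel
        rw [h3, CfsgLib.Characters.classInner_add_left, CfsgLib.Characters.classInner_sum_left,
          Finset.sum_eq_zero fun β hβ => hperp ψ hψ β hβ α hα, add_zero]
      simp only [hX₀, CfsgLib.OddChar.orthProj]
      exact Finset.sum_congr rfl fun α hα => by rw [hcoef α hα]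
    obtain ⟨-, h11, -, -, hYψ⟩ := hbasic ψ hψ
    obtain ⟨-, h22, -, -, hYξ⟩ := hbasic ξ hξ
    have hXY : ∀ a ∈ O, ∀ b ∈ O, Cfsg.classInner (X₀ a) (τ (χ - b) - X₀ b) = 0 := by
      intro a _ b hb
      rw [(hbasic b hb).2.2.2.2]
      refine CfsgLib.OddChar.classInner_orthProj_zero fun α hα => ?_
      rw [CfsgLib.Characters.classInner_conj_symm,
        CfsgLib.OddChar.classInner_orthProj_zero (fun β hβ => hperp b hb β hβ α hα), map_zero]
    have hYY : Cfsg.classInner (τ (χ - ψ) - X₀ ψ) (τ (χ - ξ) - X₀ ξ) = 0 := by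
      rw [hYψ]
      refine CfsgLib.OddChar.classInner_orthProj_zero fun α hα => ?_
      rw [hYξ, CfsgLib.Characters.classInner_conj_symm,
        CfsgLib.OddChar.classInner_orthProj_zero (fun β hβ =>
          hS.disjoint ψ hψ.1 ξ hξ.1 (hS.orthogonal ξ hξ.1 ψ hψ.1 e1)
            (hS.orthogonal ξ hξ.1 _ (hS.conj_mem ψ hψ.1) e2) β hβ α hα), map_zero]
    have h12 : Cfsg.classInner (X₀ ψ) (X₀ ξ) = n := by
      have h := hinner χ hχ ψ hψ.1 χ hχ ξ hξ.1
      rw [hn, (hOorth ξ hξ).1, (hOorth ψ hψ).2.1,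
        hS.orthogonal ψ hψ.1 ξ hξ.1 (Ne.symm e1)] at h
      have e : Cfsg.classInner (τ (χ - ψ)) (τ (χ - ξ)) =
          Cfsg.classInner (X₀ ψ) (X₀ ξ) + Cfsg.classInner (X₀ ψ) (τ (χ - ξ) - X₀ ξ) +
          Cfsg.classInner (τ (χ - ψ) - X₀ ψ) (X₀ ξ) +
          Cfsg.classInner (τ (χ - ψ) - X₀ ψ) (τ (χ - ξ) - X₀ ξ) := by
        simp only [CfsgLib.Characters.classInner_sub_left, CfsgLib.Characters.classInner_sub_right]
        ring
      have hYX : Cfsg.classInner (τ (χ - ψ) - X₀ ψ) (X₀ ξ) = 0 := by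
        rw [CfsgLib.Characters.classInner_conj_symm, hXY ξ hξ ψ hψ, map_zero]
      rw [e, hXY ψ hψ ξ hξ, hYX, hYY] at h
      linear_combination h
    refine sub_eq_zero.mp (CfsgLib.OddChar.eq_zero_of_classInner_self ?_)
    rw [CfsgLib.Characters.classInner_sub_left, CfsgLib.Characters.classInner_sub_right,
      CfsgLib.Characters.classInner_sub_right, h11, h22, h12,
      CfsgLib.Characters.classInner_conj_symm (X₀ ψ), h12, map_natCast]
    ring
  obtain ⟨X, hXg, hXX, hXR, hXβ⟩ : ∃ X : G → ℂ, Cfsg.IsGeneralizedCharacter G X ∧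
      Cfsg.classInner X X = n ∧ Cfsg.classInner X sr = n ∧
      ∀ ψ ∈ O, Cfsg.classInner (τ (χ - ψ)) X = n := by
    rcases O.eq_empty_or_nonempty with he | ⟨ψ₀, hψ₀⟩
    · have hcard : n ≤ (R χ).card := by
        have := CfsgLib.OddChar.sys_card_R hS hχ
        rw [hn] at this
        have h2 : (R χ).card = 2 * n := by exact_mod_cast this
        omega
      obtain ⟨s, hs, hsn⟩ := Finset.exists_subset_card_eq hcard
      have hin : ∀ α ∈ s, ∀ t : Finset (G → ℂ), t ⊆ R χ → α ∈ t →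
          Cfsg.classInner α (∑ β ∈ t, β) = 1 := by
        intro α hα t ht hαt
        rw [CfsgLib.Characters.classInner_sum_right, Finset.sum_eq_single α]
        · exact CfsgLib.OddChar.R_norm hS hχ α (hs hα)
        · intro β hβ hne
          exact CfsgLib.OddChar.R_orth hS hχ α (hs hα) β (ht hβ) hne.symm
        · exact fun h => absurd hαt h
      refine ⟨∑ α ∈ s, α, CfsgLib.Characters.isGeneralizedCharacter_sum _
        (fun α hα => hS.virtual χ hχ α (hs hα)), ?_, ?_, fun ψ hψ => absurd hψ (by simp [he])⟩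
      · rw [CfsgLib.Characters.classInner_sum_left,
          Finset.sum_congr rfl (fun α hα => hin α hα s hs hα), Finset.sum_const, hsn]
        simp
      · rw [hsr, CfsgLib.Characters.classInner_sum_left,
          Finset.sum_congr rfl (fun α hα => hin α hα (R χ) subset_rfl (hs hα)), Finset.sum_const,
          hsn]
        simp
    · obtain ⟨h1, h2, h3, -, -⟩ := hbasic ψ₀ hψ₀
      exact ⟨X₀ ψ₀, h1, h2, h3, fun ψ hψ => by
        rw [hsame ψ₀ hψ₀ ψ hψ]; exact (hbasic ψ hψ).2.2.2.1⟩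
  have hβX : ∀ ψ ∈ O, Cfsg.classInner X (τ (χ - ψ)) = n := fun ψ hψ => by
    rw [CfsgLib.Characters.classInner_conj_symm, hXβ ψ hψ, map_natCast]
  have hRX : Cfsg.classInner sr X = n := by
    rw [CfsgLib.Characters.classInner_conj_symm, hXR, map_natCast]
  have hRβ : ∀ ψ ∈ O, Cfsg.classInner sr (τ (χ - ψ)) = n ∧
      Cfsg.classInner (τ (χ - ψ)) sr = n := by
    intro ψ hψ
    obtain ⟨o1, o2, o3, o4⟩ := hOorth ψ hψ
    rw [hsr, ← hS.sum_eq χ hχ, hinner χ hχ _ hχc χ hχ ψ hψ.1, hinner χ hχ ψ hψ.1 χ hχ _ hχc, hn,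
      o1, o2, o3, o4, horthc, horthc']
    constructor <;> ring
  have hRR : Cfsg.classInner sr sr = 2 * (n : ℂ) := by
    rw [hsr, ← hS.sum_eq χ hχ, hinner χ hχ _ hχc χ hχ _ hχc, hn, horthc, horthc', hnc]; ring
  set v : (L → ℂ) → (G → ℂ) := fun φ =>
    if φ = χ then X else if φ = Cfsg.conjFun χ then X - sr else X - τ (χ - φ) with hv
  have vχ : v χ = X := by simp [hv]
  have vc : v (Cfsg.conjFun χ) = X - sr := by simp [hv, hS.conj_ne χ hχ]
  have vO : ∀ φ ∈ O, v φ = X - τ (χ - φ) := fun φ hφ => by simp [hv, hφ.2.1, hφ.2.2]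
  have hsplit : ∀ φ ∈ S, φ = χ ∨ φ = Cfsg.conjFun χ ∨ φ ∈ O := fun φ hφ => by
    by_cases e1 : φ = χ
    · exact Or.inl e1
    by_cases e2 : φ = Cfsg.conjFun χ
    · exact Or.inr (Or.inl e2)
    exact Or.inr (Or.inr ⟨hφ, e1, e2⟩)
  have hU : ∀ φ, φ ∈ hfin.toFinset → φ ∈ S := fun φ h => hfin.mem_toFinset.mp h
  rw [← hfin.coe_toFinset]
  refine CfsgLib.OddChar.coherent_of_images hfin.toFinset v
    (fun φ hφ ψ hψ h => hS.orthogonal φ (hU φ hφ) ψ (hU ψ hψ) h)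
    (fun φ hφ => CfsgLib.OddChar.sys_norm_ne_zero hS (hU φ hφ)) ?_ ?_ (fun _ => (D : ℤ))
    (fun φ hφ => by rw [hdeg φ (hU φ hφ) χ hχ, hD, Int.cast_natCast]) χ
    (hfin.mem_toFinset.mpr hχ) (Int.natCast_ne_zero.mpr hD0)
    (CfsgLib.OddChar.isometry_mono hS.isometry (by rw [hfin.coe_toFinset])) ?_
    ⟨χ - Cfsg.conjFun χ, by rw [hfin.coe_toFinset]; exact hγ χ hχ _ hχc,
      sub_ne_zero.mpr (hS.conj_ne χ hχ).symm⟩
  · intro φ hφ
    rcases hsplit φ (hU φ hφ) with rfl | rfl | h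
    · rw [vχ]; exact hXg
    · rw [vc, hsr]
      exact CfsgLib.Characters.isGeneralizedCharacter_sub hXg
        (CfsgLib.Characters.isGeneralizedCharacter_sum _ (hS.virtual χ hχ))
    · rw [vO φ h]
      exact CfsgLib.Characters.isGeneralizedCharacter_sub hXg
        (hS.isometry.2.2.2 _ (hγ χ hχ φ h.1))
  · intro φ hφ ψ hψ
    rcases hsplit φ (hU φ hφ) with rfl | rfl | h <;> rcases hsplit ψ (hU ψ hψ) with rfl | rfl | k
    · rw [vχ, hXX, hn]
    · rw [vχ, vc, CfsgLib.Characters.classInner_sub_right, hXX, hXR, sub_self, horthc]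
    · rw [vχ, vO _ k, CfsgLib.Characters.classInner_sub_right, hXX, hβX _ k, sub_self,
        (hOorth _ k).1]
    · rw [vχ, vc, CfsgLib.Characters.classInner_sub_left, hXX, hRX, sub_self, horthc']
    · rw [vc, CfsgLib.Characters.classInner_sub_left, CfsgLib.Characters.classInner_sub_right,
        CfsgLib.Characters.classInner_sub_right, hXX, hXR, hRX, hRR, hnc]
      ring
    · rw [vc, vO _ k, CfsgLib.Characters.classInner_sub_left,
        CfsgLib.Characters.classInner_sub_right, CfsgLib.Characters.classInner_sub_right, hXX,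
        hβX _ k, hRX, (hRβ _ k).1, (hOorth _ k).2.2.2]
      ring
    · rw [vO _ h, vχ, CfsgLib.Characters.classInner_sub_left, hXX, hXβ _ h, sub_self,
        (hOorth _ h).2.1]
    · rw [vO _ h, vc, CfsgLib.Characters.classInner_sub_left,
        CfsgLib.Characters.classInner_sub_right, CfsgLib.Characters.classInner_sub_right, hXX,
        hXR, hXβ _ h, (hRβ _ h).2, (hOorth _ h).2.2.1]
      ring
    · rw [vO _ h, vO _ k, CfsgLib.Characters.classInner_sub_left,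
        CfsgLib.Characters.classInner_sub_right, CfsgLib.Characters.classInner_sub_right, hXX,
        hβX _ k, hXβ _ h, hinner _ hχ _ h.1 _ hχ _ k.1, hn, (hOorth _ k).1, (hOorth _ h).2.1]
      ring
  · intro φ hφ
    have hφS := hU φ hφ
    rw [← smul_sub, ← smul_sub, hS.isometry.2.1 _ (hγ φ hφS χ hχ)]
    congr 1
    rcases hsplit φ hφS with rfl | rfl | h
    · rw [sub_self, sub_self, CfsgLib.OddChar.isometry_zero hS.isometry CfsgLib.OddChar.zspanOn_zero]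
    · rw [vc, vχ, hsr, ← hS.sum_eq χ hχ]
      have e : τ (Cfsg.conjFun χ - χ) + τ (χ - Cfsg.conjFun χ) = 0 := by
        rw [← hS.isometry.1 _ (hγ _ hχc χ hχ) _ (hγ χ hχ _ hχc), sub_add_sub_cancel, sub_self,
          CfsgLib.OddChar.isometry_zero hS.isometry CfsgLib.OddChar.zspanOn_zero]
      rw [eq_neg_of_add_eq_zero_left e]; abel
    · rw [vO _ h, vχ]
      have e : τ (φ - χ) + τ (χ - φ) = 0 := by
        rw [← hS.isometry.1 _ (hγ φ h.1 χ hχ) _ (hγ χ hχ φ h.1), sub_add_sub_cancel, sub_self,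
          CfsgLib.OddChar.isometry_zero hS.isometry CfsgLib.OddChar.zspanOn_zero]
      rw [eq_neg_of_add_eq_zero_left e]; abel

end Cfsg.Agent.S1517
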