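import Cfsg.Statements.S1531
import Cfsg.Agent.Lib.OddChar.Coherence
import Cfsg.Agent.Lib.OddChar.SignedPairs

set_option autoImplicit false
open Cfsg

namespace Cfsg.Agent.S1531

/-- Let N be a subgroup of the finite group G, S a set of irreducible characters of N, and α a linear isometry on the integer combinations of S vanishing at 1 with values virtual characters of G vanishing at 1. Let X, Y ⊆ S be disjoint, each with at least two members, and σ, τ linear isometries on ℤ[X], ℤ[Y] into virtual characters agreeing with α on the members vanishing at 1. Then ⟨σ χ, τ η⟩ = 0 for χ ∈ X, η ∈ Y; and if for some χ₀ ∈ X, η₀ ∈ Y with degrees c = χ₀ 1, e = η₀ 1 one has α (c • η₀ − e • χ₀) = c • τ η₀ − e • σ χ₀, then (X ∪ Y, N minus 1, α) is coherent. -/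
theorem result {G : Type*} [Group G] [Fintype G] (N : Subgroup G) [Fintype N] (S X Y : Set (N → ℂ)) (hirr : ∀ ξ ∈ S, Cfsg.IsIrrCharacter N ξ) (hXS : X ⊆ S) (hYS : Y ⊆ S) (hXY : Disjoint X Y) (hX2 : ∃ a ∈ X, ∃ b ∈ X, a ≠ b) (hY2 : ∃ a ∈ Y, ∃ b ∈ Y, a ≠ b) (α : (N → ℂ) → (G → ℂ)) (hα : Cfsg.IsLinearIsometryOn (Cfsg.zspanOn S {1}ᶜ) α) (hα1 : ∀ θ ∈ Cfsg.zspanOn S {1}ᶜ, α θ 1 = 0) (σ τ : (N → ℂ) → (G → ℂ)) (hσ : Cfsg.IsLinearIsometryOn (Cfsg.zspan X) σ) (hσα : ∀ θ ∈ Cfsg.zspanOn X {1}ᶜ, σ θ = α θ) (hτ : Cfsg.IsLinearIsometryOn (Cfsg.zspan Y) τ) (hτα : ∀ θ ∈ Cfsg.zspanOn Y {1}ᶜ, τ θ = α θ) : (∀ χ ∈ X, ∀ η ∈ Y, Cfsg.classInner (σ χ) (τ η) = 0) ∧ ((∃ χ₀ ∈ X, ∃ η₀ ∈ Y, α (χ₀ 1 • η₀ - η₀ 1 • χ₀) = χ₀ 1 • τ η₀ - η₀ 1 • σ χ₀) → Cfsg.IsCoherent (X ∪ Y) {1}ᶜ α) := by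
  classical
  have hdeg : ∀ ξ, ∃ k : ℕ, ξ ∈ S → 0 < k ∧ ξ 1 = (k : ℂ) := by
    intro ξ
    by_cases h : ξ ∈ S
    · obtain ⟨k, hk⟩ := CfsgLib.Characters.irr_exists_degree (hirr ξ h)
      exact ⟨k, fun _ => hk⟩
    · exact ⟨0, fun h' => absurd h' h⟩
  choose d hd using hdeg
  have hzm : ∀ (Z : Set (N → ℂ)), Z ⊆ S → ∀ a ∈ Z, ∀ b ∈ Z,
      (d b : ℤ) • a - (d a : ℤ) • b ∈ Cfsg.zspanOn Z {1}ᶜ := fun Z hZ a ha b hb =>
    CfsgLib.OddChar.zspanOn_compl_one.mpr ⟨CfsgLib.OddChar.zspan_sub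
      (CfsgLib.OddChar.zspan_zsmul _ (CfsgLib.OddChar.zspan_of_mem ha))
      (CfsgLib.OddChar.zspan_zsmul _ (CfsgLib.OddChar.zspan_of_mem hb)), by
      simp [(hd a (hZ ha)).2, (hd b (hZ hb)).2, mul_comm]⟩
  have hpair : ∀ (Z : Set (N → ℂ)) (ρ : (N → ℂ) → (G → ℂ)), Z ⊆ S →
      Cfsg.IsLinearIsometryOn (Cfsg.zspan Z) ρ → (∀ θ ∈ Cfsg.zspanOn Z {1}ᶜ, ρ θ = α θ) →
      ∀ a ∈ Z, ∀ b ∈ Z, α ((d b : ℤ) • a - (d a : ℤ) • b) = (d b : ℤ) • ρ a - (d a : ℤ) • ρ b := by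
    intro Z ρ hZ hρ hρα a ha b hb
    have hma := CfsgLib.OddChar.zspan_zsmul (d b : ℤ) (CfsgLib.OddChar.zspan_of_mem ha)
    have hmb := CfsgLib.OddChar.zspan_zsmul (d a : ℤ) (CfsgLib.OddChar.zspan_of_mem hb)
    rw [← hρα _ (hzm Z hZ a ha b hb),
      CfsgLib.OddChar.isometry_sub hρ hma hmb (hzm Z hZ a ha b hb).1,
      hρ.2.1 _ (CfsgLib.OddChar.zspan_of_mem ha), hρ.2.1 _ (CfsgLib.OddChar.zspan_of_mem hb)]
  have horth : ∀ a ∈ S, ∀ b ∈ S, a ≠ b → Cfsg.classInner a b = 0 := fun a ha b hb h =>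
    CfsgLib.Characters.classInner_irr_ne (hirr a ha) (hirr b hb) h
  have hsg : ∀ (Z : Set (N → ℂ)) (ρ : (N → ℂ) → (G → ℂ)), Z ⊆ S →
      Cfsg.IsLinearIsometryOn (Cfsg.zspan Z) ρ → ∀ a ∈ Z, CfsgLib.OddChar.IsSigned (ρ a) :=
    fun Z ρ hZ hρ a ha => CfsgLib.OddChar.isSigned_of_norm_one
      (hρ.2.2.2 a (CfsgLib.OddChar.zspan_of_mem ha)) (by
        rw [hρ.2.2.1 a (CfsgLib.OddChar.zspan_of_mem ha) a (CfsgLib.OddChar.zspan_of_mem ha),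
          CfsgLib.Characters.classInner_irr_self (hirr a (hZ ha))])
  have hcross : ∀ χ ∈ X, ∀ η ∈ Y, Cfsg.classInner (σ χ) (τ η) = 0 := by
    intro χ hχ η hη
    obtain ⟨χ', hχ', hne⟩ : ∃ χ' ∈ X, χ' ≠ χ := by
      obtain ⟨a, ha, b, hb, hab⟩ := hX2
      by_cases e : a = χ
      · exact ⟨b, hb, fun h => hab (e.trans h.symm)⟩
      · exact ⟨a, ha, e⟩
    obtain ⟨η', hη', hne'⟩ : ∃ η' ∈ Y, η' ≠ η := by
      obtain ⟨a, ha, b, hb, hab⟩ := hY2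
      by_cases e : a = η
      · exact ⟨b, hb, fun h => hab (e.trans h.symm)⟩
      · exact ⟨a, ha, e⟩
    have m1 := hzm X hXS χ hχ χ' hχ'
    have m2 := hzm Y hYS η hη η' hη'
    have hmix := hα.2.2.1 _ (CfsgLib.OddChar.zspanOn_mono hXS _ m1) _
      (CfsgLib.OddChar.zspanOn_mono hYS _ m2)
    have hd1 := hα1 _ (CfsgLib.OddChar.zspanOn_mono hXS _ m1)
    have hd2 := hα1 _ (CfsgLib.OddChar.zspanOn_mono hYS _ m2)
    rw [hpair X σ hXS hσ hσα χ hχ χ' hχ'] at hmix hd1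
    rw [hpair Y τ hYS hτ hτα η hη η' hη'] at hmix hd2
    have hz : ∀ a ∈ X, ∀ b ∈ Y, Cfsg.classInner a b = 0 := fun a ha b hb =>
      horth a (hXS ha) b (hYS hb) fun e => Set.disjoint_left.mp hXY ha (e ▸ hb)
    simp only [CfsgLib.OddChar.zsmul_eq_smul, Int.cast_natCast] at hmix hd1 hd2
    have hzero : Cfsg.classInner ((d χ' : ℂ) • χ - (d χ : ℂ) • χ')
        ((d η' : ℂ) • η - (d η : ℂ) • η') = 0 := by
      simp [CfsgLib.Characters.classInner_sub_left, CfsgLib.Characters.classInner_sub_right,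
        CfsgLib.Characters.classInner_smul_left, CfsgLib.Characters.classInner_smul_right,
        hz χ hχ η hη, hz χ hχ η' hη', hz χ' hχ' η hη, hz χ' hχ' η' hη']
    rw [hzero] at hmix
    simp only [Pi.sub_apply, Pi.smul_apply, smul_eq_mul] at hd1 hd2
    have horthσ : Cfsg.classInner (σ χ) (σ χ') = 0 := by
      rw [hσ.2.2.1 χ (CfsgLib.OddChar.zspan_of_mem hχ) χ' (CfsgLib.OddChar.zspan_of_mem hχ'),
        horth χ (hXS hχ) χ' (hXS hχ') hne.symm]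
    have horthτ : Cfsg.classInner (τ η) (τ η') = 0 := by
      rw [hτ.2.2.1 η (CfsgLib.OddChar.zspan_of_mem hη) η' (CfsgLib.OddChar.zspan_of_mem hη'),
        horth η (hYS hη) η' (hYS hη') hne'.symm]
    have hr : ∀ ξ ∈ S, (d ξ : ℝ) ≠ 0 := fun ξ h => Nat.cast_ne_zero.mpr (hd ξ h).1.ne'
    refine (CfsgLib.OddChar.weighted_pairs (hsg X σ hXS hσ χ hχ) (hsg X σ hXS hσ χ' hχ')
      (hsg Y τ hYS hτ η hη) (hsg Y τ hYS hτ η' hη') (u := (d χ' : ℝ)) (t := (d χ : ℝ))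
      (w := (d η' : ℝ)) (v := (d η : ℝ)) (hr χ' (hXS hχ')) (hr χ (hXS hχ)) (hr η' (hYS hη'))
      (hr η (hYS hη)) horthσ horthτ ?_ ?_ ?_).1
    · push_cast; exact hmix
    · push_cast; linear_combination hd1
    · push_cast; linear_combination hd2
  refine ⟨hcross, ?_⟩
  rintro ⟨χ₀, hχ₀, η₀, hη₀, heq⟩
  have hfin : (X ∪ Y).Finite := (Set.toFinite (Set.univ : Set (Cfsg.IrrCharacter N))).image
    (fun i : Cfsg.IrrCharacter N => (i : N → ℂ)) |>.subset fun ξ hξ =>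
      ⟨⟨ξ, hirr ξ (Set.union_subset hXS hYS hξ)⟩, trivial, rfl⟩
  have hsub : ∀ ξ ∈ hfin.toFinset, ξ ∈ S := fun ξ h =>
    Set.union_subset hXS hYS (hfin.mem_toFinset.mp h)
  set v : (N → ℂ) → (G → ℂ) := fun ξ => if ξ ∈ X then σ ξ else τ ξ with hv
  have vX : ∀ ξ ∈ X, v ξ = σ ξ := fun ξ h => by simp [hv, h]
  have vY : ∀ ξ ∈ Y, v ξ = τ ξ := fun ξ h => by simp [hv, Set.disjoint_right.mp hXY h]
  rw [← hfin.coe_toFinset]
  refine CfsgLib.OddChar.coherent_of_images hfin.toFinset v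
    (fun a ha b hb h => horth a (hsub a ha) b (hsub b hb) h)
    (fun a ha => by
      rw [CfsgLib.Characters.classInner_irr_self (hirr a (hsub a ha))]; exact one_ne_zero)
    ?_ ?_ (fun ξ => (d ξ : ℤ)) (fun a ha => by rw [(hd a (hsub a ha)).2, Int.cast_natCast]) χ₀
    (hfin.mem_toFinset.mpr (Or.inl hχ₀)) (Int.natCast_ne_zero.mpr (hd χ₀ (hXS hχ₀)).1.ne')
    (CfsgLib.OddChar.isometry_mono hα (CfsgLib.OddChar.zspanOn_mono hsub _)) ?_ ?_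
  · intro a ha
    rcases hfin.mem_toFinset.mp ha with h | h
    · rw [vX a h]; exact hσ.2.2.2 a (CfsgLib.OddChar.zspan_of_mem h)
    · rw [vY a h]; exact hτ.2.2.2 a (CfsgLib.OddChar.zspan_of_mem h)
  · intro a ha b hb
    rcases hfin.mem_toFinset.mp ha with h | h <;> rcases hfin.mem_toFinset.mp hb with k | k
    · rw [vX a h, vX b k, hσ.2.2.1 a (CfsgLib.OddChar.zspan_of_mem h) b
        (CfsgLib.OddChar.zspan_of_mem k)]
    · rw [vX a h, vY b k, hcross a h b k,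
        horth a (hXS h) b (hYS k) fun e => Set.disjoint_left.mp hXY h (e ▸ k)]
    · rw [vY a h, vX b k, CfsgLib.Characters.classInner_conj_symm, hcross b k a h, map_zero,
        horth a (hYS h) b (hXS k) fun e => Set.disjoint_left.mp hXY k (e ▸ h)]
    · rw [vY a h, vY b k, hτ.2.2.1 a (CfsgLib.OddChar.zspan_of_mem h) b
        (CfsgLib.OddChar.zspan_of_mem k)]
  · intro a ha
    rcases hfin.mem_toFinset.mp ha with h | h
    · rw [vX a h, vX χ₀ hχ₀]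
      exact hpair X σ hXS hσ hσα a h χ₀ hχ₀
    · rw [vY a h, vX χ₀ hχ₀]
      have he' : α ((d χ₀ : ℤ) • η₀ - (d η₀ : ℤ) • χ₀) =
          (d χ₀ : ℤ) • τ η₀ - (d η₀ : ℤ) • σ χ₀ := by
        rw [(hd χ₀ (hXS hχ₀)).2, (hd η₀ (hYS hη₀)).2] at heq
        simp only [CfsgLib.OddChar.zsmul_eq_smul, Int.cast_natCast]
        exact heq
      have hm := hzm S subset_rfl a (hYS h) χ₀ (hXS hχ₀)
      have hm0 := hzm S subset_rfl η₀ (hYS hη₀) χ₀ (hXS hχ₀)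
      have hmY := CfsgLib.OddChar.zspanOn_mono hYS _ (hzm Y hYS a h η₀ hη₀)
      have hkey : (d η₀ : ℤ) • ((d χ₀ : ℤ) • a - (d a : ℤ) • χ₀) =
          (d a : ℤ) • ((d χ₀ : ℤ) • η₀ - (d η₀ : ℤ) • χ₀) +
            (d χ₀ : ℤ) • ((d η₀ : ℤ) • a - (d a : ℤ) • η₀) := by module
      refine smul_right_injective (G → ℂ) (Int.natCast_ne_zero.mpr (hd η₀ (hYS hη₀)).1.ne') ?_
      dsimp only
      rw [← hα.2.1 _ hm, hkey, hα.1 _ (CfsgLib.OddChar.zspanOn_zsmul _ hm0) _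
        (CfsgLib.OddChar.zspanOn_zsmul _ hmY), hα.2.1 _ hm0, hα.2.1 _ hmY, he',
        hpair Y τ hYS hτ hτα a h η₀ hη₀]
      module
  · obtain ⟨a, ha, b, hb, hab⟩ := hX2
    refine ⟨_, CfsgLib.OddChar.zspanOn_mono (fun ξ hξ => hfin.mem_toFinset.mpr (Or.inl hξ)) _
      (hzm X hXS a ha b hb), fun e => ?_⟩
    have h := congrArg (Cfsg.classInner · a) e
    rw [CfsgLib.Characters.classInner_sub_left, CfsgLib.OddChar.classInner_zsmul_left,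
      CfsgLib.OddChar.classInner_zsmul_left, CfsgLib.Characters.classInner_irr_self (hirr a (hXS ha)),
      horth b (hXS hb) a (hXS ha) hab.symm, CfsgLib.Characters.classInner_zero_left] at h
    simp [(hd b (hXS hb)).1.ne'] at h

end Cfsg.Agent.S1531
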