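import Cfsg.Statements.S2278
import Cfsg.Agent.Lib.RegUnip.SLn
import Cfsg.Agent.Lib.RegUnip.SmallSL3

set_option autoImplicit false
open Cfsg

namespace Cfsg.Agent.S2278

open Matrix CfsgLib.RegUnip

theorem eq_top_of_mul_stable {F : Type*} [Field F] [Fintype F] (ω : Fˣ)
    (hω : ∀ x : Fˣ, x ∈ Subgroup.zpowers ω) (h2 : 2 < Fintype.card F) (h4 : Fintype.card F ≠ 4)
    (S : AddSubgroup F) (hS : ∀ x ∈ S, (ω : F) ^ 3 * x ∈ S) {a : F} (ha : a ∈ S) (ha0 : a ≠ 0) :
    ∀ x : F, x ∈ S := by
  classical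
  let R : Subring F :=
    { carrier := {x | ∀ y ∈ S, x * y ∈ S}
      mul_mem' := fun {x y} hx hy z hz => by rw [mul_assoc]; exact hx _ (hy z hz)
      one_mem' := fun z hz => by rwa [one_mul]
      add_mem' := fun {x y} hx hy z hz => by rw [add_mul]; exact S.add_mem (hx z hz) (hy z hz)
      zero_mem' := fun z _ => by rw [zero_mul]; exact S.zero_mem
      neg_mem' := fun {x} hx z hz => by rw [neg_mul]; exact S.neg_mem (hx z hz) }
  have hρ : (ω : F) ^ 3 ∈ R := hS
  suffices hR : ∀ x : F, x ∈ R by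
    intro x
    have := hR (x * a⁻¹) a ha
    rwa [inv_mul_cancel_right₀ ha0] at this
  by_contra hcon
  push Not at hcon
  obtain ⟨z, hz⟩ := hcon
  let T : Finset F := Finset.univ.filter (· ∈ R)
  have hsq : T.card * T.card ≤ Fintype.card F := by
    rw [← Finset.card_product, ← Finset.card_univ]
    refine Finset.card_le_card_of_injOn (fun xy => xy.1 + xy.2 * z) (fun _ _ => Finset.mem_univ _) ?_
    rintro ⟨x, y⟩ hxy ⟨x', y'⟩ hxy' e
    simp only [Finset.coe_product, Set.mem_prod, Finset.mem_coe, T, Finset.mem_filter,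
      Finset.mem_univ, true_and] at hxy hxy'
    change x + y * z = x' + y' * z at e
    have hy : y = y' := by
      by_contra hne
      apply hz
      have hd : y' - y ≠ 0 := sub_ne_zero.2 (Ne.symm hne)
      have hinv : (y' - y)⁻¹ ∈ R := by
        have hk : (y' - y)⁻¹ = (y' - y) ^ (Fintype.card F - 2) := by
          refine inv_eq_of_mul_eq_one_right ?_
          rw [← pow_succ', show Fintype.card F - 2 + 1 = Fintype.card F - 1 by omega,
            FiniteField.pow_card_sub_one_eq_one _ hd]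
        rw [hk]
        exact R.pow_mem (R.sub_mem hxy'.2 hxy.2) _
      have hz' : z = (x - x') * (y' - y)⁻¹ := by
        rw [eq_mul_inv_iff_mul_eq₀ hd]
        linear_combination -e
      rw [hz']
      exact R.mul_mem (R.sub_mem hxy.1 hxy'.1) hinv
    subst hy
    simpa using e
  have hord : orderOf (ω ^ 3) + 1 ≤ T.card := by
    have hsub : insert 0 ((Finset.range (orderOf (ω ^ 3))).image
        fun i => ((ω : F) ^ 3) ^ i) ⊆ T := by
      intro x hx
      simp only [Finset.mem_insert, Finset.mem_image, Finset.mem_range] at hx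
      simp only [T, Finset.mem_filter, Finset.mem_univ, true_and]
      rcases hx with rfl | ⟨i, -, rfl⟩
      · exact R.zero_mem
      · exact R.pow_mem hρ i
    refine le_trans ?_ (Finset.card_le_card hsub)
    rw [Finset.card_insert_of_notMem ?_, Finset.card_image_of_injOn ?_, Finset.card_range]
    · intro i hi j hj e
      have e' : (ω ^ 3) ^ i = (ω ^ 3) ^ j := Units.ext (by simpa using e)
      exact pow_injOn_Iio_orderOf (Finset.mem_range.1 hi) (Finset.mem_range.1 hj) e'
    · simp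
  have hfull : Fintype.card F - 1 ≤ 3 * orderOf (ω ^ 3) := by
    rw [← Fintype.card_units, ← Nat.card_eq_fintype_card, ← orderOf_eq_card_of_forall_mem_zpowers hω]
    refine Nat.le_of_dvd (by have := orderOf_pos (ω ^ 3); omega) (orderOf_dvd_of_pow_eq_one ?_)
    rw [pow_mul, pow_orderOf_eq_one]
  have hT2 : 2 ≤ T.card := by
    have := orderOf_pos (ω ^ 3); omega
  rcases Nat.lt_or_ge T.card 3 with h | h
  · have : T.card = 2 := by omega
    rw [this] at hsq hord
    omega
  · have := Nat.mul_le_mul_right T.card h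
    omega

theorem exists_good {F : Type*} [Field F] [Fintype F] (h2 : 2 < Fintype.card F)
    (h4 : Fintype.card F ≠ 4) :
    ∃ ω : Fˣ, (∀ x : Fˣ, x ∈ Subgroup.zpowers ω) ∧ (ω : F) ^ 3 ≠ 1 ∧
      2 * (ω : F) ^ 2 + 2 * (ω : F) - 1 ≠ 0 := by
  classical
  obtain ⟨ω, hω⟩ := IsCyclic.exists_generator (α := Fˣ)
  have hord : orderOf ω = Fintype.card F - 1 := by
    rw [← Fintype.card_units, ← Nat.card_eq_fintype_card, orderOf_eq_card_of_forall_mem_zpowers hω]
  have h3 : ∀ η : Fˣ, orderOf η = Fintype.card F - 1 → (η : F) ^ 3 ≠ 1 := by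
    intro η hη e
    have := Nat.le_of_dvd (by norm_num) (orderOf_dvd_of_pow_eq_one
      (show η ^ 3 = 1 from Units.ext (by simpa using e)))
    have hdvd := orderOf_dvd_of_pow_eq_one (show η ^ 3 = 1 from Units.ext (by simpa using e))
    rw [hη] at hdvd
    rcases (Nat.dvd_prime Nat.prime_three).1 hdvd with h | h <;> omega
  by_cases hg : 2 * (ω : F) ^ 2 + 2 * (ω : F) - 1 = 0
  · refine ⟨ω⁻¹, fun x => by rw [Subgroup.zpowers_inv]; exact hω x,
      h3 ω⁻¹ (by rw [orderOf_inv, hord]), fun e => ?_⟩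
    have hne : (ω : F) ≠ 0 := Units.ne_zero ω
    have hw3 := h3 ω hord
    have e2 : -(ω : F) ^ 2 + 2 * (ω : F) + 2 = 0 := by
      rw [Units.val_inv_eq_inv_val] at e
      field_simp at e
      linear_combination e
    have e3 : 3 * (2 * (ω : F) + 1) = 0 := by linear_combination hg + 2 * e2
    rcases mul_eq_zero.1 e3 with h30 | h21
    · apply hw3
      linear_combination ((ω : F) - 1) * (-e2) + (ω : F) ^ 2 * h30 - h30
    · have e4 : (3 : F) = 0 := by linear_combination -2 * hg + (2 * (ω : F) + 1) * h21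
      apply hw3
      linear_combination ((ω : F) - 1) * (-e2) + (ω : F) ^ 2 * e4 - e4
  · exact ⟨ω, hω, h3 ω hord, hg⟩

theorem transvec_neg {F : Type*} [Field F] {G : Subgroup (SpecialLinearGroup (Fin 3) F)}
    {a f : Fin 3 → F} (hf : f ⬝ᵥ a = 0) (h : HasTransvec G a f) : HasTransvec G a (-f) := by
  obtain ⟨t, ht, et⟩ := h
  refine ⟨t⁻¹, G.inv_mem ht, ?_⟩
  have key : ((1 : Matrix (Fin 3) (Fin 3) F) + vecMulVec a (-f)) * t = 1 := by
    rw [et, add_mul, one_mul, mul_add, mul_one, vecMulVec_mul_vecMulVec, neg_dotProduct, hf,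
      neg_zero, zero_smul, vecMulVec_zero, vecMulVec_neg, add_zero]
    abel
  calc ((t⁻¹ : SpecialLinearGroup (Fin 3) F) : Matrix (Fin 3) (Fin 3) F)
      = ((1 + vecMulVec a (-f)) * t) *
          ((t⁻¹ : SpecialLinearGroup (Fin 3) F) : Matrix (Fin 3) (Fin 3) F) := by
        rw [key, one_mul]
    _ = _ := by rw [mul_assoc, ← val_mul, mul_inv_cancel, val_one, mul_one]

theorem inv_val_eq {F : Type*} [Field F] (g : SpecialLinearGroup (Fin 3) F)
    (M : Matrix (Fin 3) (Fin 3) F) (h : (g : Matrix (Fin 3) (Fin 3) F) * M = 1) :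
    ((g⁻¹ : SpecialLinearGroup (Fin 3) F) : Matrix (Fin 3) (Fin 3) F) = M := by
  calc ((g⁻¹ : SpecialLinearGroup (Fin 3) F) : Matrix (Fin 3) (Fin 3) F)
      = ((g⁻¹ : SpecialLinearGroup (Fin 3) F) : Matrix (Fin 3) (Fin 3) F) *
          ((g : Matrix (Fin 3) (Fin 3) F) * M) := by rw [h, mul_one]
    _ = M := by rw [← mul_assoc, ← val_mul, inv_mul_cancel, val_one, one_mul]

/-- The group generated by `u` and `w * u` is everything. -/
theorem core {F : Type*} [Field F] [Fintype F] (h2 : 2 < Fintype.card F) (h4 : Fintype.card F ≠ 4)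
    (ω : Fˣ) (hω : ∀ x : Fˣ, x ∈ Subgroup.zpowers ω) (m τ : F) (hm : 1 - m ≠ 0) (hτ : τ ≠ 0)
    (hρ : (ω : F) ^ 3 ≠ 1)
    (u w : SpecialLinearGroup (Fin 3) F)
    (eu : (u : Matrix (Fin 3) (Fin 3) F) = !![1, 0, 0; 1, 1 + m, 1; 1 - m, -m ^ 2, 1 - m])
    (ew : (w : Matrix (Fin 3) (Fin 3) F) = !![(ω : F), τ, 0; 0, (ω : F), 0; 0, 0, ((ω : F) ^ 2)⁻¹])
    (G : Subgroup (SpecialLinearGroup (Fin 3) F)) (hu : u ∈ G) (hw : w ∈ G) : G = ⊤ := by
  have hω0 : (ω : F) ≠ 0 := Units.ne_zero ω
  have eui : ((u⁻¹ : SpecialLinearGroup (Fin 3) F) : Matrix (Fin 3) (Fin 3) F) =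
      !![1, 0, 0; 0, 1 - m, -1; -1, m ^ 2, 1 + m] := by
    apply inv_val_eq
    rw [eu]
    ext i j
    fin_cases i <;> fin_cases j <;> simp [Matrix.mul_apply, Fin.sum_univ_three] <;> ring
  have ewi : ((w⁻¹ : SpecialLinearGroup (Fin 3) F) : Matrix (Fin 3) (Fin 3) F) =
      !![(ω : F)⁻¹, -τ / (ω : F) ^ 2, 0; 0, (ω : F)⁻¹, 0; 0, 0, (ω : F) ^ 2] := by
    apply inv_val_eq
    rw [ew]
    ext i j
    fin_cases i <;> fin_cases j <;> simp [Matrix.mul_apply, Fin.sum_univ_three] <;> field_simp <;> ring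
  let e1 : Fin 3 → F := ![1, 0, 0]
  let c : F := -τ / (ω : F)
  have hc : c ≠ 0 := div_ne_zero (neg_ne_zero.2 hτ) hω0
  have hA : HasTransvec G e1 ![0, c, 0] := by
    refine ⟨w ^ (Fintype.card F - 1), G.pow_mem hw _, ?_⟩
    have hpow : ∀ k : ℕ, ((w ^ k : SpecialLinearGroup (Fin 3) F) : Matrix (Fin 3) (Fin 3) F) =
        !![(ω : F) ^ k, (k : F) * (ω : F) ^ k * (τ / (ω : F)), 0; 0, (ω : F) ^ k, 0;
          0, 0, (((ω : F) ^ 2)⁻¹) ^ k] := by
      intro k
      induction k with
      | zero => ext i j; fin_cases i <;> fin_cases j <;> simp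
      | succ k ih =>
        rw [pow_succ, val_mul, ih, ew]
        ext i j
        fin_cases i <;> fin_cases j <;> simp [Matrix.mul_apply, Fin.sum_univ_three, pow_succ] <;>
          field_simp <;> ring
    rw [hpow, FiniteField.pow_card_sub_one_eq_one _ hω0,
      FiniteField.pow_card_sub_one_eq_one _ (inv_ne_zero (pow_ne_zero 2 hω0)),
      Nat.cast_sub (by omega), FiniteField.cast_card_eq_zero, Nat.cast_one, zero_sub, mul_one]
    ext i j
    fin_cases i <;> fin_cases j <;> simp [e1, c, vecMulVec_apply, neg_div]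
  have hconj : ∀ {a f : Fin 3 → F}, HasTransvec G a f →
      HasTransvec G ((u : Matrix (Fin 3) (Fin 3) F) *ᵥ a)
        (f ᵥ* ((u⁻¹ : SpecialLinearGroup (Fin 3) F) : Matrix (Fin 3) (Fin 3) F)) :=
    fun h => h.conj hu
  have hb : (u : Matrix (Fin 3) (Fin 3) F) *ᵥ e1 = ![1, 1, 1 - m] := by
    rw [eu]; ext i; fin_cases i <;> simp [e1, mulVec, dotProduct, Fin.sum_univ_three]
  have hB : HasTransvec G ![1, 1, 1 - m] ![0, c * (1 - m), -c] := by
    have := hconj hA
    rw [hb, eui] at this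
    convert this using 1
    ext i; fin_cases i <;> simp [vecMul, dotProduct, Fin.sum_univ_three]
  have hC : HasTransvec G e1 ![0, c ^ 2 * (1 - m), -c ^ 2] := by
    have := HasTransvec.commutator (by simp [e1, dotProduct, Fin.sum_univ_three])
      (by simp [e1, dotProduct, Fin.sum_univ_three])
      (by simp [dotProduct, Fin.sum_univ_three]) hA hB
    convert this using 1
    ext i; fin_cases i <;> simp [dotProduct, Fin.sum_univ_three] <;> ring
  have hD : ∀ x y : F, HasTransvec G e1 ![0, x, y] → HasTransvec G e1 ![0, x, (ω : F) ^ 3 * y] := by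
    intro x y h
    have h1 := h.conj hw
    rw [show (w : Matrix (Fin 3) (Fin 3) F) *ᵥ e1 = (ω : F) • e1 by
      rw [ew]; ext i; fin_cases i <;> simp [e1, mulVec, dotProduct, Fin.sum_univ_three],
      HasTransvec.smul_left_iff, ewi] at h1
    convert h1 using 1
    ext i; fin_cases i <;> simp [vecMul, dotProduct, Fin.sum_univ_three] <;> field_simp <;> ring
  have hadd : ∀ x y x' y' : F, HasTransvec G e1 ![0, x, y] → HasTransvec G e1 ![0, x', y'] →
      HasTransvec G e1 ![0, x + x', y + y'] := by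
    intro x y x' y' h h'
    have := HasTransvec.add_right (by simp [e1, dotProduct, Fin.sum_univ_three]) h h'
    convert this using 1
    ext i; fin_cases i <;> simp
  have hneg : ∀ x y : F, HasTransvec G e1 ![0, x, y] → HasTransvec G e1 ![0, -x, -y] := by
    intro x y h
    have := transvec_neg (by simp [e1, dotProduct, Fin.sum_univ_three]) h
    convert this using 1
    ext i; fin_cases i <;> simp
  have hE : ∀ z : F, HasTransvec G e1 ![0, 0, z] := by
    let S : AddSubgroup F :=
      { carrier := {z | HasTransvec G e1 ![0, 0, z]}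
        zero_mem' := by
          change HasTransvec G e1 _
          convert HasTransvec.zero_right (G := G) e1 using 1
          ext i; fin_cases i <;> simp
        add_mem' := fun {x y} hx hy => by simpa using hadd 0 x 0 y hx hy
        neg_mem' := fun {x} hx => by simpa using hneg 0 x hx }
    have hmem : c ^ 2 * ((ω : F) ^ 3 - 1) ∈ S := by
      change HasTransvec G e1 _
      have := hadd _ _ _ _ hC (hneg _ _ (hD _ _ hC))
      convert this using 1
      ext i; fin_cases i <;> simp <;> ring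
    exact eq_top_of_mul_stable ω hω h2 h4 S (fun x hx => hD 0 x hx) hmem
      (mul_ne_zero (pow_ne_zero 2 hc) (sub_ne_zero.2 hρ))
  have hH : ∀ x z : F, HasTransvec G e1 ![0, x, z] := by
    intro x z
    have hF := hconj (hE (-x / c ^ 2))
    rw [hb, eui] at hF
    have hG : HasTransvec G e1 ![0, c, -c / (1 - m)] := by
      simpa using hadd c 0 0 (-c / (1 - m)) hA (hE _)
    have h1 := HasTransvec.commutator (by simp [dotProduct, Fin.sum_univ_three]; field_simp; ring)
      (by simp [vecMul, dotProduct, Fin.sum_univ_three]; ring)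
      (by simp [e1, dotProduct, Fin.sum_univ_three]) hF hG
    have h2' := HasTransvec.commutator (by simp [e1, dotProduct, vecMul, Fin.sum_univ_three])
      (by simp [e1, dotProduct, Fin.sum_univ_three])
      (by simp [e1, dotProduct, vecMul, Fin.sum_univ_three]; field_simp; ring) hA h1
    have key := hadd x (x * (-1 / (1 - m))) 0 (z - (x * (-1 / (1 - m)))) (by
      convert h2' using 1
      ext i; fin_cases i <;> simp [e1, dotProduct, vecMul, Fin.sum_univ_three] <;> field_simp)
      (hE _)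
    simpa using key
  refine eq_top_of_centre G e1 ?_ ?_
  · intro f hf
    have hf0 : f 0 = 0 := by simpa [e1, dotProduct, Fin.sum_univ_three] using hf
    convert hH (f 1) (f 2) using 1
    ext i; fin_cases i <;> simp [hf0]
  · intro W hW hinv
    have hbW : ![1, 1, 1 - m] ∈ W := hb ▸ hinv u hu e1 hW
    have hwb : ![(ω : F) + τ, (ω : F), ((ω : F) ^ 2)⁻¹ * (1 - m)] ∈ W := by
      have := hinv w hw _ hbW
      rw [ew] at this
      convert this using 1
      ext i; fin_cases i <;> simp [mulVec, dotProduct, Fin.sum_univ_three]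
    have hk : (1 - m) * (((ω : F) ^ 2)⁻¹ - (ω : F)) ≠ 0 := by
      refine mul_ne_zero hm (sub_ne_zero.2 fun e => hρ ?_)
      field_simp at e
      linear_combination -e
    have he3 : (![0, 0, 1] : Fin 3 → F) ∈ W := by
      have h := W.sub_mem (W.sub_mem hwb (W.smul_mem ((ω : F) + τ) hW))
        (W.smul_mem (ω : F) (W.sub_mem hbW hW))
      have h' := W.smul_mem ((1 - m) * (((ω : F) ^ 2)⁻¹ - (ω : F)))⁻¹ h
      convert h' using 1
      ext i
      fin_cases i
      · simp [e1]
      · simp [e1]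
      · simp [e1]; field_simp
    refine (Submodule.eq_top_iff').2 fun x => ?_
    have : x = (x 0) • e1 + (x 1) • (![1, 1, 1 - m] - e1 - (1 - m) • ![0, 0, 1]) +
        (x 2) • ![0, 0, 1] := by
      ext i; fin_cases i <;> simp [e1]
    rw [this]
    exact W.add_mem (W.add_mem (W.smul_mem _ hW)
      (W.smul_mem _ (W.sub_mem (W.sub_mem hbW hW) (W.smul_mem _ he3)))) (W.smul_mem _ he3)

theorem aux {F : Type*} [Field F] [Fintype F] (h2 : 2 < Fintype.card F)
    (h4 : Fintype.card F ≠ 4) :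
    ∃ u g : SpecialLinearGroup (Fin 3) F, IsNilpotent ((u : Matrix (Fin 3) (Fin 3) F) - 1) ∧
      ((u : Matrix (Fin 3) (Fin 3) F) - 1) ^ (3 - 1) ≠ 0 ∧
      Subgroup.closure ({u, g * u * g⁻¹} : Set (SpecialLinearGroup (Fin 3) F)) = ⊤ := by
  obtain ⟨ω, hω, h3, hgood⟩ := exists_good h2 h4
  let x : F := (ω : F)
  have hx : x ≠ 0 := Units.ne_zero ω
  have hx1 : x - 1 ≠ 0 := sub_ne_zero.2 fun e => h3 (by simp [x] at e; simp [e])
  have hd : x ^ 2 + x + 1 ≠ 0 := fun e => h3 (by linear_combination (x - 1) * e)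
  let m : F := -((x - 1) * (x + 2)) / (x ^ 2 + x + 1)
  let τ : F := -(x - 1) ^ 3 / x ^ 2
  have hm : 1 - m ≠ 0 := by
    intro e
    apply hgood
    simp only [m] at e
    rw [sub_eq_zero, eq_div_iff hd] at e
    linear_combination e
  let q2 : F := x - 1
  let q1 : F := x + τ - 1
  let q3 : F := (x ^ 2)⁻¹ * (1 - m)
  -- `v = w * u`, its cyclic chain and the conjugating matrix
  let u : SpecialLinearGroup (Fin 3) F :=
    ⟨!![1, 0, 0; 1, 1 + m, 1; 1 - m, -m ^ 2, 1 - m], by simp [det_fin_three]; ring⟩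
  let w : SpecialLinearGroup (Fin 3) F :=
    ⟨!![x, τ, 0; 0, x, 0; 0, 0, (x ^ 2)⁻¹], by simp [det_fin_three]; field_simp⟩
  let V : Matrix (Fin 3) (Fin 3) F := (w : Matrix (Fin 3) (Fin 3) F) * u
  let k : F := (x ^ 2)⁻¹
  let b0 : F := (x + τ) * (x + τ - 1) + τ * (1 + m) * x + τ * (k * (1 - m)) - (x + τ - 1)
  let b1 : F := x * (x + τ - 1) + x * (1 + m) * x + x * (k * (1 - m)) - x
  let b2 : F := k * (1 - m) * (x + τ - 1) - k * m ^ 2 * x + k * (1 - m) * (k * (1 - m)) - k * (1 - m)
  let H : Matrix (Fin 3) (Fin 3) F :=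
    !![1, m * (x + τ - 1) + (1 - m) * b0, (x + τ - 1) - b0;
       0, m * x + (1 - m) * b1, x - b1;
       0, m * (k * (1 - m)) + (1 - m) * b2, k * (1 - m) - b2]
  have hV : V = !![x + τ, τ * (1 + m), τ; x, x * (1 + m), x;
      k * (1 - m), k * (-m ^ 2), k * (1 - m)] := by
    simp only [V, u, w, k]
    ext i j
    fin_cases i <;> fin_cases j <;> simp [Matrix.mul_apply, Fin.sum_univ_three]
  have hd' : x * (x + 1) + 1 ≠ 0 := fun e => hd (by linear_combination e)
  have hdet : H.det = 1 := by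
    rw [det_fin_three]
    simp [H, b0, b1, b2, k, τ, m]
    field_simp
    ring
  have hVH : V * H = H * u := by
    rw [hV, show ((u : SpecialLinearGroup (Fin 3) F) : Matrix (Fin 3) (Fin 3) F) =
      !![1, 0, 0; 1, 1 + m, 1; 1 - m, -m ^ 2, 1 - m] from rfl]
    ext i j
    fin_cases i <;> fin_cases j <;>
      simp [H, b0, b1, b2, k, Matrix.mul_apply, Fin.sum_univ_three, τ, m] <;>
      field_simp <;> ring
  let g : SpecialLinearGroup (Fin 3) F := ⟨H, hdet⟩
  have hg : g * u * g⁻¹ = w * u := by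
    rw [mul_inv_eq_iff_eq_mul]
    exact Subtype.ext hVH.symm
  refine ⟨u, g, ?_, ?_, ?_⟩
  · refine ⟨3, ?_⟩
    simp only [u]
    rw [pow_succ, pow_two]
    ext i j
    fin_cases i <;> fin_cases j <;> simp [Matrix.mul_apply, Fin.sum_univ_three] <;> (try ring_nf) <;> simp
  · intro e
    have := congrFun (congrFun e 1) 0
    simp [u, pow_two, Matrix.mul_apply, Fin.sum_univ_three] at this
  · have hτ : τ ≠ 0 := div_ne_zero (neg_ne_zero.2 (pow_ne_zero 3 hx1)) (pow_ne_zero 2 hx)
    refine core h2 h4 ω hω m τ hm hτ h3 u w rfl rfl _ (Subgroup.subset_closure (by simp)) ?_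
    have h1 : w = g * u * g⁻¹ * u⁻¹ := by rw [hg]; group
    rw [h1]
    exact mul_mem (Subgroup.subset_closure (by simp)) (inv_mem (Subgroup.subset_closure (by simp)))


/-- Let F be a finite field. Then SL_3(F) is generated by two conjugate regular unipotent elements: there are u with u − 1 nilpotent and (u − 1)² ≠ 0, and g, such that u and g u g⁻¹ generate SL_3(F). -/
theorem result {F : Type*} [Field F] [Fintype F] :
    ∃ u g : Matrix.SpecialLinearGroup (Fin 3) F, IsNilpotent ((u : Matrix (Fin 3) (Fin 3) F) - 1) ∧ ((u : Matrix (Fin 3) (Fin 3) F) - 1) ^ (3 - 1) ≠ 0 ∧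
      Subgroup.closure ({u, g * u * g⁻¹} : Set (Matrix.SpecialLinearGroup (Fin 3) F)) = ⊤ := by
  rcases Nat.lt_or_ge 2 (Fintype.card F) with h2 | h2
  · rcases eq_or_ne (Fintype.card F) 4 with h4 | h4
    · exact CfsgLib.RegUnip.SmallSL3.four h4
    · exact aux h2 h4
  · have := Fintype.one_lt_card (α := F)
    exact CfsgLib.RegUnip.SmallSL3.two (by omega)

end Cfsg.Agent.S2278
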