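import Cfsg.Statements.S1472
import Cfsg.Agent.Lib.OddOrder.FinalField
import Cfsg.Agent.Lib.OddOrder.NormPair
import Cfsg.Agent.Lib.OddOrder.NormPairExists

set_option autoImplicit false
open Cfsg

namespace Cfsg.Agent.S1472

/-- Let p, q be primes with (p^q − 1)/(p − 1) coprime to p − 1, G a finite group, F a field with p ^ q elements, and P, U, Q subgroups of G with: f : G → F bijective from P onto F and additive on P; U normalizing P and acting through ψ : G → F, injective and multiplicative on U with ψ(u) ≠ 0 and f(uxu⁻¹) = ψ(u) f(x); #U · (p − 1) = p^q − 1; Q abelian of order coprime to p, normalized by every x ∈ P with f(x) in the prime field; and some y ∈ Q such that y x y⁻¹ normalizes U for every such x. Then p ≤ q. -/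
theorem result {G : Type*} [Group G] [Finite G] (p q : ℕ) [Fact p.Prime] [Fact q.Prime] (hA : Nat.Coprime ((p ^ q - 1) / (p - 1)) (p - 1))
    (F : Type*) [Field F] [Fintype F] (hF : Fintype.card F = p ^ q) (P U Q : Subgroup G) (f ψ : G → F)
    (hf : Set.BijOn f (P : Set G) Set.univ) (hfadd : ∀ x ∈ P, ∀ z ∈ P, f (x * z) = f x + f z)
    (hUP : U ≤ Subgroup.normalizer (P : Set G)) (hψ : ∀ u ∈ U, ψ u ≠ 0 ∧ ∀ x ∈ P, f (u * x * u⁻¹) = ψ u * f x)
    (hψmul : ∀ u ∈ U, ∀ v ∈ U, ψ (u * v) = ψ u * ψ v) (hψinj : Set.InjOn ψ (U : Set G)) (hUcard : Nat.card U * (p - 1) = p ^ q - 1)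
    (hQ : IsMulCommutative Q) (hQp : (Nat.card Q).Coprime p) (hP0Q : ∀ x ∈ P, f x ^ p = f x → x ∈ Subgroup.normalizer (Q : Set G))
    (y : G) (hy : y ∈ Q) (hP0U : ∀ x ∈ P, f x ^ p = f x → y * x * y⁻¹ ∈ Subgroup.normalizer (U : Set G)) :
    p ≤ q := by
  classical
  by_contra hlt
  push Not at hlt
  have hpp : p.Prime := Fact.out
  have hqq : q.Prime := Fact.out
  have hp2 : p ≠ 2 := by have := hqq.two_le; omega
  set n := (p ^ q - 1) / (p - 1) with hn
  have hq2 : q ≠ 2 := by
    rintro rfl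
    have h1 : (p ^ 2 - 1) / (p - 1) = p + 1 := by
      rw [show p ^ 2 - 1 = (p + 1) * (p - 1) by rw [← Nat.sq_sub_sq, one_pow],
        Nat.mul_div_cancel _ (by have := hpp.two_le; omega)]
    rw [hn, h1] at hA
    obtain ⟨r, hr⟩ := hpp.odd_of_ne_two hp2
    exact Nat.not_coprime_of_dvd_of_dvd one_lt_two ⟨r + 1, by omega⟩ ⟨r, by omega⟩ hA
  let _ : Fintype (GaloisField p q) := Fintype.ofFinite _
  have hK : Fintype.card (GaloisField p q) = p ^ q := by
    rw [← Nat.card_eq_fintype_card, GaloisField.card p q hqq.ne_zero]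
  let e : F ≃+* GaloisField p q := FiniteField.ringEquivOfCardEq (hF.trans hK.symm)
  let v : GaloisField p q → G := fun c => Function.invFunOn f (P : Set G) (e.symm c)
  have hv : ∀ c, v c ∈ P ∧ f (v c) = e.symm c := fun c =>
    Function.invFunOn_pos (hf.surjOn (Set.mem_univ (e.symm c)))
  have hvu : ∀ x ∈ P, ∀ c, f x = e.symm c → v c = x := fun x hx c h =>
    hf.injOn (hv c).1 hx ((hv c).2.trans h.symm)
  have hψ1 : ψ 1 = 1 := by
    have h := hψmul 1 (Subgroup.one_mem U) 1 (Subgroup.one_mem U)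
    rw [mul_one] at h
    exact mul_left_cancel₀ (hψ 1 (Subgroup.one_mem U)).1 (h.symm.trans (mul_one _).symm)
  have hψpow : ∀ u ∈ U, ∀ m : ℕ, ψ (u ^ m) = ψ u ^ m := by
    intro u hu m
    induction m with
    | zero => rw [pow_zero, pow_zero, hψ1]
    | succ m ih => rw [pow_succ, hψmul _ (pow_mem hu m) _ hu, ih, pow_succ]
  have hp1 : 0 < p - 1 := by have := hpp.two_le; omega
  have hcU : Nat.card U = n := by rw [hn, ← hUcard, Nat.mul_div_cancel _ hp1]
  have hnorm : ∀ x : GaloisField p q,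
      algebraMap (ZMod p) (GaloisField p q) (Algebra.norm (ZMod p) x) = x ^ n := fun x => by
    rw [FiniteField.algebraMap_norm_eq_pow_sum, CfsgLib.OddOrder.NormPairExists.finrank_eq hK,
      Nat.card_zmod, Nat.geomSum_eq hpp.two_le]
  have hψn : ∀ u ∈ U, e (ψ u) ^ n = 1 := fun u hu => by
    have h1 : u ^ n = 1 := by
      rw [← hcU]
      exact congrArg Subtype.val (pow_card_eq_one' (x := (⟨u, hu⟩ : U)))
    rw [← map_pow, ← hψpow u hu, h1, hψ1, map_one]
  have hinj : Set.InjOn (fun u => e (ψ u)) (U : Set G) := fun a ha b hb h =>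
    hψinj ha hb (e.injective h)
  have himg : (fun u => e (ψ u)) '' (U : Set G) = {x | Algebra.norm (ZMod p) x = 1} := by
    refine Set.eq_of_subset_of_ncard_le ?_ ?_ (Set.toFinite _)
    · rintro _ ⟨u, hu, rfl⟩
      refine (algebraMap (ZMod p) (GaloisField p q)).injective ?_
      rw [hnorm, map_one, hψn u hu]
    · rw [Set.ncard_image_of_injOn hinj, ← Nat.card_coe_set_eq (U : Set G)]
      have h1 := CfsgLib.OddOrder.NormPairExists.card_normOne hK hA
      have h2 : ({x | Algebra.norm (ZMod p) x = 1} : Set (GaloisField p q)) =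
          ↑(CfsgLib.OddOrder.NormPairExists.normOne p (GaloisField p q)) := by
        ext x
        simp [CfsgLib.OddOrder.NormPairExists.mem_normOne]
      rw [h2, Set.ncard_coe_finset]
      refine le_of_eq (Nat.eq_of_mul_eq_mul_right hp1 ?_)
      show _ = Nat.card U * (p - 1)
      omega
  have hmem : ∀ x : GaloisField p q, Algebra.norm (ZMod p) x = 1 → ∃ u ∈ U, e (ψ u) = x :=
    fun x hx => by
      have : x ∈ (fun u => e (ψ u)) '' (U : Set G) := by rw [himg]; exact hx
      exact this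
  have hN1 : ∀ u ∈ U, Algebra.norm (ZMod p) (e (ψ u)) = 1 := fun u hu => by
    refine (algebraMap (ZMod p) (GaloisField p q)).injective ?_
    rw [hnorm, map_one, hψn u hu]
  have hex := CfsgLib.OddOrder.NormPairExists.two_le hqq hq2 hp2 hK hA
  obtain ⟨a, ⟨ha1, ha2⟩, hane⟩ := Set.exists_ne_of_one_lt_ncard hex (1 : GaloisField p q)
  have hιfix : ∀ i : ZMod p, (e.symm (algebraMap (ZMod p) (GaloisField p q) i)) ^ p =
      e.symm (algebraMap (ZMod p) (GaloisField p q) i) := fun i => by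
    rw [← map_pow, ← map_pow, ZMod.pow_card]
  let C : CfsgLib.OddOrder.FinalField.Cfg p G (GaloisField p q) :=
    { U := U
      Q := Q
      v := v
      ψ := fun u => e (ψ u)
      y := y
      v_add := fun a b => hvu _ (P.mul_mem (hv a).1 (hv b).1) _ (by
        rw [hfadd _ (hv a).1 _ (hv b).1, (hv a).2, (hv b).2, map_add])
      v_inj := fun a b h => e.symm.injective (by rw [← (hv a).2, ← (hv b).2, h])
      conj := fun u hu c => (hvu _ ((Subgroup.mem_normalizer_iff.mp (hUP hu) _).mp (hv c).1) _ (by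
        rw [(hψ u hu).2 _ (hv c).1, (hv c).2, map_mul, RingEquiv.symm_apply_apply])).symm
      ψ_mul := fun u hu w hw => by rw [hψmul u hu w hw, map_mul]
      ψ_one := by rw [hψ1, map_one]
      ψ_inj := hinj
      dec := fun c hc => by
        have hN : Algebra.norm (ZMod p) c ≠ 0 := Algebra.norm_ne_zero_iff.2 hc
        obtain ⟨t, ht⟩ := (CfsgLib.OddOrder.NormPairExists.pow_injective hA).surjective (Units.mk0 _ hN)
        have ht' : (t : ZMod p) ^ n = Algebra.norm (ZMod p) c := by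
          simpa using congrArg Units.val ht
        have ht0 : algebraMap (ZMod p) (GaloisField p q) (t : ZMod p) ≠ 0 :=
          (map_ne_zero _).2 t.ne_zero
        obtain ⟨u, hu, hue⟩ := hmem ((algebraMap (ZMod p) (GaloisField p q) (t : ZMod p))⁻¹ * c) (by
          rw [map_mul, ← map_inv₀ (algebraMap (ZMod p) (GaloisField p q)),
            CfsgLib.OddOrder.NormPairExists.norm_eq_pow hK, ← hn, inv_pow, ht', inv_mul_cancel₀ hN])
        exact ⟨t, t.ne_zero, u, hu, by rw [hue, mul_inv_cancel_left₀ ht0]⟩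
      frob_fix := fun u hu h => by
        have h0 : e (ψ u) ≠ 0 := (map_ne_zero _).2 (hψ u hu).1
        have h1 : e (ψ u) ^ (p - 1) = 1 := mul_left_cancel₀ h0 (by
          rw [← pow_succ', Nat.sub_add_cancel hpp.one_le, h, mul_one])
        have h2 : e (ψ u) ^ Nat.gcd n (p - 1) = 1 := pow_gcd_eq_one.mpr ⟨hψn u hu, h1⟩
        rw [show Nat.gcd n (p - 1) = 1 from hA, pow_one] at h2
        exact hψinj hu (Subgroup.one_mem U) (e.injective (by rw [h2, hψ1, map_one]))
      nontriv := by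
        obtain ⟨u, hu, hue⟩ := hmem a ha1
        exact ⟨u, hu, fun h => hane (by rw [← hue, h, hψ1, map_one])⟩
      two_ne := hp2
      Q_comm := fun a ha b hb => congrArg Subtype.val (hQ.1.1 (⟨a, ha⟩ : Q) ⟨b, hb⟩)
      Q_pow := fun a ha h => orderOf_eq_one_iff.mp (Nat.eq_one_of_dvd_coprimes hQp
        (Subgroup.orderOf_dvd_natCard Q ha) (orderOf_dvd_of_pow_eq_one h))
      y_mem := hy
      sp_norm := fun i => hP0Q _ (hv _).1 (by rw [(hv _).2, hιfix])
      t_norm := fun i => hP0U _ (hv _).1 (by rw [(hv _).2, hιfix]) }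
  refine absurd (CfsgLib.OddOrder.NormPair.le_of_inv_closed p q ?_ ⟨ha1, ha2⟩ hane) (not_le.mpr hlt)
  rintro b ⟨hb1, hb2⟩
  obtain ⟨u, hu, hue⟩ := hmem b hb1
  obtain ⟨w, hw, hwe⟩ := hmem (2 - b) hb2
  obtain ⟨-, w', hw', hsum⟩ := C.pair_inv (u := u) ⟨hu, w, hw, by
    show e (ψ u) + e (ψ w) = 2
    rw [hue, hwe]; ring⟩
  have hbi : e (ψ u⁻¹) = b⁻¹ := by rw [← hue]; exact C.ψ_inv hu
  refine ⟨hbi ▸ hN1 _ (inv_mem hu), ?_⟩
  have hsum' : e (ψ u⁻¹) + e (ψ w') = 2 := hsum
  rw [show (2 : GaloisField p q) - b⁻¹ = e (ψ w') by rw [← hbi, ← hsum']; ring]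
  exact hN1 _ hw'

end Cfsg.Agent.S1472
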