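import Cfsg.Statements.S1510
import Mathlib

set_option autoImplicit false
open Cfsg

namespace Cfsg.Agent.S1510

/-- Let L be a finite group with a normal subgroup K and a nontrivial cyclic subgroup W₁ of order coprime to its index, K ⊓ W₁ = ⊥ and K ⊔ W₁ = ⊤; let W₂ ≠ ⊥ be a cyclic subgroup of K with K ⊓ C_L(x) = W₂ for every non-identity x ∈ W₁, and suppose W₁ ⊔ W₂ has odd order. Then (W₁, W₂) is a self-normalising cyclic pair in L. -/
theorem result {L : Type*} [Group L] [Fintype L] (K W₁ W₂ : Subgroup L) [hK : K.Normal] (hKW₁ : K ⊓ W₁ = ⊥) (hKW₁' : K ⊔ W₁ = ⊤) (hW₁ : W₁ ≠ ⊥) (hW₁c : IsCyclic W₁) (hHall : Nat.Coprime (Nat.card W₁) W₁.index) (hW₂ : W₂ ≠ ⊥) (hW₂c : IsCyclic W₂) (hW₂K : W₂ ≤ K) (hC : ∀ x ∈ W₁, x ≠ 1 → K ⊓ Subgroup.centralizer ({x} : Set L) = W₂) (hodd : Odd (Nat.card ↥(W₁ ⊔ W₂))) : Cfsg.IsSelfNormalizingCyclic W₁ W₂ := by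
  have hCx : ∀ a ∈ W₁, a ≠ 1 → ∀ b ∈ W₂, a * b = b * a := by
    intro a ha ha1 b hb
    have hb' : b ∈ K ⊓ Subgroup.centralizer ({a} : Set L) := (hC a ha ha1).ge hb
    exact (Subgroup.mem_centralizer_singleton_iff.mp hb'.2).symm
  have hcomm : ∀ a ∈ W₁, ∀ b ∈ W₂, a * b = b * a := by
    intro a ha b hb
    rcases eq_or_ne a 1 with rfl | h
    · simp
    · exact hCx a ha h b hb
  have hdisj : W₁ ⊓ W₂ = ⊥ := eq_bot_iff.mpr ((le_inf (inf_le_right.trans hW₂K) inf_le_left).trans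
    hKW₁.le)
  have hidx : W₁.index = Nat.card K :=
    (Subgroup.isComplement'_of_disjoint_and_mul_eq_univ (disjoint_iff.mpr hKW₁)
      (by rw [← Subgroup.normal_mul, hKW₁', Subgroup.coe_top])).index_eq_card
  have hcopK : Nat.Coprime (Nat.card W₁) (Nat.card K) := hidx ▸ hHall
  obtain ⟨⟨a, ha⟩, hag⟩ := hW₁c.exists_generator
  obtain ⟨⟨b, hb⟩, hbg⟩ := hW₂c.exists_generator
  have hcop : Nat.Coprime (orderOf a) (orderOf b) :=
    (hcopK.coprime_dvd_left (Subgroup.orderOf_dvd_natCard _ ha)).coprime_dvd_right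
      (Subgroup.orderOf_dvd_natCard _ (hW₂K hb))
  have hab : Commute a b := hcomm a ha b hb
  have hWle : W₁ ⊔ W₂ = Subgroup.zpowers (a * b) := by
    refine le_antisymm (sup_le ?_ ?_) ?_
    · intro w hw
      obtain ⟨i, hi⟩ := Subgroup.mem_zpowers_iff.mp (hag ⟨w, hw⟩)
      obtain ⟨n, hn⟩ := Nat.chineseRemainder hcop 1 0
      have e : (a * b) ^ n = a := by
        rw [hab.mul_pow, pow_eq_pow_iff_modEq.mpr hn.2, pow_zero, mul_one,
          pow_eq_pow_iff_modEq.mpr hn.1, pow_one]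
      have he : a ∈ Subgroup.zpowers (a * b) := by
        have := Subgroup.pow_mem _ (Subgroup.mem_zpowers (a * b)) n
        rwa [e] at this
      have hwi : a ^ i = w := congrArg Subtype.val hi
      rw [← hwi]
      exact Subgroup.zpow_mem _ he i
    · intro w hw
      obtain ⟨i, hi⟩ := Subgroup.mem_zpowers_iff.mp (hbg ⟨w, hw⟩)
      obtain ⟨n, hn⟩ := Nat.chineseRemainder hcop 0 1
      have e : (a * b) ^ n = b := by
        rw [hab.mul_pow, pow_eq_pow_iff_modEq.mpr hn.1, pow_zero, one_mul,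
          pow_eq_pow_iff_modEq.mpr hn.2, pow_one]
      have he : b ∈ Subgroup.zpowers (a * b) := by
        have := Subgroup.pow_mem _ (Subgroup.mem_zpowers (a * b)) n
        rwa [e] at this
      have hwi : b ^ i = w := congrArg Subtype.val hi
      rw [← hwi]
      exact Subgroup.zpow_mem _ he i
    · rw [Subgroup.zpowers_le]
      exact Subgroup.mul_mem_sup ha hb
  have hcyc : IsCyclic ↥(W₁ ⊔ W₂) := by rw [hWle]; infer_instance
  refine ⟨hW₁, hW₂, hdisj, hcomm, hcyc, fun X hX hne => ?_⟩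
  have hWcomm : ∀ w ∈ W₁ ⊔ W₂, ∀ v ∈ W₁ ⊔ W₂, w * v = v * w := fun w hw v hv => by
    let _ := hcyc.commGroup
    exact congrArg Subtype.val (mul_comm (⟨w, hw⟩ : ↥(W₁ ⊔ W₂)) ⟨v, hv⟩)
  refine le_antisymm ?_ ?_
  · intro g hg
    obtain ⟨k, hk, w, hw, rfl⟩ : ∃ k ∈ K, ∃ w ∈ W₁, k * w = g :=
      Subgroup.mem_sup_of_normal_left.mp (hKW₁'.ge (Subgroup.mem_top g))
    obtain ⟨x, hx⟩ := hne
    have hxW : x ∈ W₁ ⊔ W₂ := (hX hx).1
    have hy : k * w * x * (k * w)⁻¹ ∈ X := (Subgroup.mem_set_normalizer_iff.mp hg x).mp hx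
    have hyW : k * w * x * (k * w)⁻¹ ∈ W₁ ⊔ W₂ := (hX hy).1
    have e : k * w * x * (k * w)⁻¹ = k * x * k⁻¹ := by
      calc _ = k * (w * x) * w⁻¹ * k⁻¹ := by group
        _ = k * (x * w) * w⁻¹ * k⁻¹ := by rw [hWcomm w (Subgroup.mem_sup_left hw) x hxW]
        _ = _ := by group
    rw [e] at hyW
    have hdec : ∀ z ∈ W₁ ⊔ W₂, ∃ z₁ ∈ W₁, ∃ z₂ ∈ W₂, z₁ * z₂ = z := by
      intro z hz
      rw [← SetLike.mem_coe, Subgroup.coe_mul_of_left_le_normalizer_right] at hz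
      · exact hz
      · intro u hu
        rw [Subgroup.mem_normalizer_iff]
        intro v
        refine ⟨fun hv => by rwa [hcomm u hu v hv, mul_inv_cancel_right], fun hv => ?_⟩
        have h' := hcomm u⁻¹ (W₁.inv_mem hu) _ hv
        have : v = u * v * u⁻¹ := by
          calc v = u⁻¹ * (u * v * u⁻¹) * u := by group
            _ = u * v * u⁻¹ := by rw [h']; group
        rw [this]; exact hv
    obtain ⟨x₁, hx₁, x₂, hx₂, hxe⟩ := hdec x hxW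
    obtain ⟨y₁, hy₁, y₂, hy₂, hye⟩ := hdec _ hyW
    have hx₁1 : x₁ ≠ 1 := by
      rintro rfl
      rw [one_mul] at hxe
      exact (hX hx).2 (Or.inr (hxe ▸ hx₂))
    obtain ⟨n, hn₁, hn₂⟩ := Nat.chineseRemainder hcopK 1 0
    have hp : ∀ z₁ ∈ W₁, ∀ z₂ ∈ W₂, (z₁ * z₂) ^ n = z₁ := by
      intro z₁ h₁ z₂ h₂
      have d₁ : orderOf z₁ ∣ Nat.card W₁ := W₁.orderOf_dvd_natCard h₁
      have d₂ : orderOf z₂ ∣ Nat.card K := K.orderOf_dvd_natCard (hW₂K h₂)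
      have e₁ : z₁ ^ n = z₁ ^ 1 := pow_eq_pow_iff_modEq.mpr (Nat.ModEq.of_dvd d₁ hn₁)
      have e₂ : z₂ ^ n = z₂ ^ 0 := pow_eq_pow_iff_modEq.mpr (Nat.ModEq.of_dvd d₂ hn₂)
      have hc : Commute z₁ z₂ := hcomm z₁ h₁ z₂ h₂
      rw [hc.mul_pow, e₁, e₂, pow_one, pow_zero, mul_one]
    have h1 : k * x₁ * k⁻¹ = y₁ := by
      conv_rhs => rw [← hp y₁ hy₁ y₂ hy₂, hye, conj_pow, ← hxe, hp x₁ hx₁ x₂ hx₂]
    have h2 : k * x₁ * k⁻¹ * x₁⁻¹ ∈ K ⊓ W₁ := by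
      refine ⟨?_, by rw [h1]; exact W₁.mul_mem hy₁ (W₁.inv_mem hx₁)⟩
      have : k * x₁ * k⁻¹ * x₁⁻¹ = k * (x₁ * k⁻¹ * x₁⁻¹) := by group
      rw [this]
      exact K.mul_mem hk (hK.conj_mem _ (K.inv_mem hk) x₁)
    rw [hKW₁, Subgroup.mem_bot, mul_inv_eq_one, mul_inv_eq_iff_eq_mul] at h2
    have hkW : k ∈ W₂ :=
      (hC x₁ hx₁ hx₁1).le ⟨hk, Subgroup.mem_centralizer_singleton_iff.mpr h2⟩
    exact Subgroup.mul_mem _ (Subgroup.mem_sup_right hkW) (Subgroup.mem_sup_left hw)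
  · intro w hw
    rw [Subgroup.mem_set_normalizer_iff]
    intro z
    constructor
    · intro hz
      rwa [hWcomm w hw z (hX hz).1, mul_inv_cancel_right]
    · intro hz
      have hz' : w * z * w⁻¹ ∈ W₁ ⊔ W₂ := (hX hz).1
      have : z = w * z * w⁻¹ := by
        calc z = w⁻¹ * (w * z * w⁻¹) * w := by group
          _ = w * z * w⁻¹ := by rw [hWcomm _ (Subgroup.inv_mem _ hw) _ hz']; group
      rwa [this]

end Cfsg.Agent.S1510
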