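import Cfsg.Statements.S1524
import Cfsg.Agent.Lib.OddChar.FeitSibley

set_option autoImplicit false
open Cfsg
open scoped Pointwise

namespace Cfsg.Agent.S1524

/-- Let G be a finite group and H ≤ L subgroups with L of odd order, H ≠ ⊥ nilpotent and normal in L with a nontrivial complement W₁ in L (H ⊓ W₁ = ⊥, H ⊔ W₁ = L) acting on H without non-identity fixed points (L is a Frobenius group with kernel H), and suppose the underlying set of H is a TI-subset of G whose normaliser is L. Let S be the set of functions on L induced from the non-principal irreducible characters of H. Then (S, L minus 1, induction to G) is coherent. -/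
theorem result {G : Type*} [Group G] [Fintype G] (H L W₁ : Subgroup G) [Fintype L] (hodd : Odd (Nat.card L)) (hHL : H ≤ L) (hW₁L : W₁ ≤ L) (hH1 : H ≠ ⊥) (hW1 : W₁ ≠ ⊥) (hnil : Group.IsNilpotent H) (hHn : ∀ x ∈ L, ∀ h ∈ H, x * h * x⁻¹ ∈ H) (hinf : H ⊓ W₁ = ⊥) (hsup : H ⊔ W₁ = L) (hfpf : ∀ w ∈ W₁, w ≠ 1 → ∀ h ∈ H, w * h = h * w → h = 1) (hTI : Cfsg.IsTISubset (H : Set G)) (hN : Subgroup.normalizer (H : Set G) = L) : Cfsg.IsCoherent (Cfsg.inducedIrrAbove (H.subgroupOf L) ⊥) {1}ᶜ (fun α : L → ℂ => Cfsg.indFun L α) := by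
  subst hN
  haveI : Fintype ↥(H.subgroupOf (Subgroup.normalizer (H : Set G))) := Fintype.ofFinite _
  have hC : ∀ k ∈ H, k ≠ 1 → Subgroup.centralizer ({k} : Set G) ≤ H := by
    intro k hk hk1 x hx
    rw [Subgroup.mem_centralizer_singleton_iff] at hx
    have hxN : x ∈ Subgroup.normalizer (H : Set G) := by
      by_contra hxN
      refine hk1 (hTI x hxN k hk ?_)
      rw [hx, mul_inv_cancel_right]
      exact hk
    rw [← hsup] at hxN
    have hWN : W₁ ≤ Subgroup.normalizer (H : Set G) := hW₁L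
    have hx' : x ∈ ((H : Set G) * (W₁ : Set G)) := by
      rw [← Subgroup.coe_mul_of_right_le_normalizer_left H W₁ hWN]; exact hxN
    obtain ⟨a₀, ha₀, w, hw, rfl⟩ := Set.mem_mul.mp hx'
    by_cases hw1 : w = 1
    · subst hw1; simpa using ha₀
    exfalso
    let f : H → H := fun a => ⟨(a : G) * (w * (a : G)⁻¹ * w⁻¹),
      H.mul_mem a.2 (hHn w (hW₁L hw) _ (H.inv_mem a.2))⟩
    have hf : Function.Injective f := by
      intro a b e
      have e' : (a : G) * (w * (a : G)⁻¹ * w⁻¹) = (b : G) * (w * (b : G)⁻¹ * w⁻¹) := congrArg Subtype.val e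
      have h2 : w * ((b : G)⁻¹ * a) = ((b : G)⁻¹ * a) * w := by
        calc w * ((b : G)⁻¹ * a) = (b : G)⁻¹ * ((b : G) * (w * (b : G)⁻¹ * w⁻¹)) * w * a := by group
          _ = (b : G)⁻¹ * ((a : G) * (w * (a : G)⁻¹ * w⁻¹)) * w * a := by rw [e']
          _ = _ := by group
      exact (Subtype.ext (inv_mul_eq_one.mp (hfpf w hw hw1 _ (H.mul_mem (H.inv_mem b.2) a.2) h2))).symm
    obtain ⟨a, ha⟩ := (Finite.injective_iff_surjective.mp hf) ⟨a₀, ha₀⟩
    have ha' : (a : G) * (w * (a : G)⁻¹ * w⁻¹) = a₀ := congrArg Subtype.val ha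
    have hc : w * ((a : G)⁻¹ * k * a) = ((a : G)⁻¹ * k * a) * w := by
      have h1 : a₀ * w = (a : G) * w * (a : G)⁻¹ := by rw [← ha']; group
      rw [h1] at hx
      calc w * ((a : G)⁻¹ * k * a) = (a : G)⁻¹ * ((a : G) * w * (a : G)⁻¹ * k) * a := by group
        _ = (a : G)⁻¹ * (k * ((a : G) * w * (a : G)⁻¹)) * a := by rw [hx]
        _ = _ := by group
    have := hfpf w hw hw1 _ (H.mul_mem (H.mul_mem (H.inv_mem a.2) hk) a.2) hc
    exact hk1 (by
      calc k = (a : G) * ((a : G)⁻¹ * k * a) * (a : G)⁻¹ := by group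
        _ = 1 := by rw [this]; group)
  have hlt : H < Subgroup.normalizer (H : Set G) := lt_of_le_not_ge hHL fun hle => hW1 (by
    rw [← inf_eq_right.mpr (hW₁L.trans hle)]; exact hinf)
  have hset : Cfsg.inducedIrrAbove (H.subgroupOf (Subgroup.normalizer (H : Set G))) ⊥ =
      {χ : ↥(Subgroup.normalizer (H : Set G)) → ℂ |
        Cfsg.IsIrrCharacter ↥(Subgroup.normalizer (H : Set G)) χ ∧
          ∃ k : ↥(Subgroup.normalizer (H : Set G)), (k : G) ∈ H ∧ χ k ≠ χ 1} := by
    rw [← CfsgLib.OddChar.coe_indAboveFinset,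
      CfsgLib.OddChar.indAbove_bot_eq (CfsgLib.OddChar.kernel_of_le_normalizer hC)]
    rfl
  have hHo : Odd (Nat.card H) := hodd.of_dvd_nat (Subgroup.card_dvd_of_le hHL)
  rcases CfsgLib.OddChar.feit_sibley H hH1 hTI hlt hC with ⟨-, he, -⟩ | ⟨h2, -⟩ | h
  · exfalso
    have h3 : Odd (H.subgroupOf (Subgroup.normalizer (H : Set G))).index :=
      hodd.of_dvd_nat (Subgroup.index_dvd_card _)
    rw [he] at hHo
    exact Nat.not_even_iff_odd.mpr hHo (h3.add_one)
  · exfalso
    by_cases h0 : (Nat.card G).factorization 2 = 0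
    · exact hH1 (Subgroup.card_eq_one.mp (by rw [h2, h0, pow_zero]))
    · rw [h2] at hHo
      exact Nat.not_even_iff_odd.mpr hHo (even_two.pow_of_ne_zero h0)
  · rw [hset]; exact h

end Cfsg.Agent.S1524
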