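import Cfsg.Statements.S1508
import Cfsg.Agent.Lib.OddChar.CyclicUnique

set_option autoImplicit false
open Cfsg

namespace Cfsg.Agent.S1508

/-- Let W₁, W₂ ≤ G form a self-normalising cyclic subgroup W = W₁ ⊔ W₂ of odd order and χ an orthonormal family of irreducible characters of G up to sign, indexed by the linear characters ω of W, with χ_1 = 1, χ_ω = ω on W outside W₁ ∪ W₂, and the induction identity for (1 − φ)(1 − ψ). Let ω be a linear character of W and g an element of G whose order is coprime to the order of ω. Then χ ω g is an integer. -/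
theorem result {G : Type*} [Group G] [Fintype G] (W₁ W₂ : Subgroup G) (hW : Cfsg.IsSelfNormalizingCyclic W₁ W₂) (hodd : Odd (Nat.card ↥(W₁ ⊔ W₂))) (χ : (↥(W₁ ⊔ W₂) →* ℂˣ) → (G → ℂ)) (hχ : Cfsg.IsCyclicTIFamily W₁ W₂ χ) (ω : ↥(W₁ ⊔ W₂) →* ℂˣ) (g : G) (hg : Nat.Coprime (orderOf g) (orderOf ω)) : ∃ n : ℤ, χ ω g = n := by
  classical
  refine CfsgLib.OddChar.signed_int_value (CfsgLib.OddChar.family_signed hχ ω) g fun m hm => ?_
  set n := orderOf g
  set a := orderOf ω
  have hnN : n ∣ Nat.card G := orderOf_dvd_natCard g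
  have hωW : ω ^ Nat.card ↥(W₁ ⊔ W₂) = 1 := by
    refine MonoidHom.ext fun w => ?_
    rw [MonoidHom.pow_apply, ← map_pow, pow_card_eq_one', map_one, MonoidHom.one_apply]
  have haN : a ∣ Nat.card G :=
    (orderOf_dvd_of_pow_eq_one hωW).trans (Subgroup.card_subgroup_dvd_card _)
  obtain ⟨c, hc1, hc2⟩ := Nat.chineseRemainder hg m 1
  have hcn : c.Coprime (n * a) := by
    refine Nat.Coprime.mul_right ?_ ?_
    · rw [Nat.Coprime, hc1.gcd_eq]; exact hm.coprime_dvd_right hnN
    · rw [Nat.Coprime, hc2.gcd_eq, Nat.gcd_one_left]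
  have hdvd : n * a ∣ Nat.card G := hg.mul_dvd_of_dvd_of_dvd hnN haN
  haveI : NeZero (Nat.card G) := ⟨Nat.card_pos.ne'⟩
  obtain ⟨u, hu⟩ := ZMod.unitsMap_surjective hdvd (ZMod.unitOfCoprime c hcn)
  set m' := (u : ZMod (Nat.card G)).val with hm'
  have hm'c : m'.Coprime (Nat.card G) := ZMod.val_coe_unit_coprime u
  have hm'mod : m' ≡ c [MOD n * a] := by
    rw [← ZMod.natCast_eq_natCast_iff]
    have := congrArg Units.val hu
    rw [ZMod.unitsMap_val, ZMod.coe_unitOfCoprime] at this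
    rw [← this, hm', ← ZMod.natCast_val (u : ZMod (Nat.card G))]
  obtain ⟨σ, hσ⟩ := CfsgLib.CharGalois.exists_autComplex (Nat.card G) hm'c
  have hfix : (Units.map σ.toMonoidHom).comp ω = ω := by
    refine MonoidHom.ext fun w => Units.ext ?_
    have hpa : (ω w : ℂ) ^ a = 1 := by
      have h1 := DFunLike.congr_fun (pow_orderOf_eq_one ω) w
      rw [MonoidHom.pow_apply, MonoidHom.one_apply] at h1
      rw [← Units.val_pow_eq_pow_val, h1, Units.val_one]
    show σ (ω w : ℂ) = _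
    rw [hσ _ (by obtain ⟨d, hd⟩ := haN; rw [hd, pow_mul, hpa, one_pow])]
    have h1 : m' ≡ 1 [MOD a] := (hm'mod.of_dvd (dvd_mul_left _ _)).trans hc2
    rw [pow_eq_pow_mod m' hpa, h1, ← pow_eq_pow_mod 1 hpa, pow_one]
  have hmap := congrFun (CfsgLib.OddChar.family_map hW hodd hχ σ ω) g
  rw [hfix] at hmap
  obtain ⟨η, ε, hε, he⟩ := (CfsgLib.OddChar.family_signed hχ ω).exists_irr
  have hσε : σ ε = ε := by rcases hε with rfl | rfl <;> simp
  have hgm : g ^ m' = g ^ m :=
    pow_eq_pow_iff_modEq.mpr ((hm'mod.of_dvd (dvd_mul_right _ _)).trans hc1)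
  rw [he] at hmap ⊢
  simp only [Pi.smul_apply, smul_eq_mul, map_mul, hσε,
    CfsgLib.CharGalois.map_char_eq_pow (CfsgLib.Characters.irr_isCharacter η) σ hσ, hgm] at hmap ⊢
  exact hmap

end Cfsg.Agent.S1508
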