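import Cfsg.Statements.S1494
import Cfsg.Agent.Lib.Characters.Induction
import Cfsg.Agent.Lib.OddOrder.CharTools
import Cfsg.Agent.Lib.Characters.Decomp

set_option autoImplicit false
open Cfsg

namespace Cfsg.Agent.S1494

/-- Let χ be a generalized character of the finite group G, p a prime, x an element of order p and y an element commuting with x. Then χ(x * y) − χ(y) = (1 − ε) * ω for some algebraic integer ω, where ε = exp(2πi/p). -/
theorem result {G : Type*} [Group G] [Finite G] (χ : G → ℂ) (hχ : Cfsg.IsGeneralizedCharacter G χ) (p : ℕ) (hp : p.Prime) (x y : G) (hx : orderOf x = p) (hxy : x * y = y * x) : ∃ ω : ℂ, IsIntegral ℤ ω ∧ χ (x * y) - χ y = (1 - Complex.exp (2 * Real.pi * Complex.I / p)) * ω := by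
  classical
  haveI : NeZero p := ⟨hp.ne_zero⟩
  set ε : ℂ := Complex.exp (2 * Real.pi * Complex.I / p) with hε
  have hprim : IsPrimitiveRoot ε p := Complex.isPrimitiveRoot_exp p hp.ne_zero
  suffices key : ∀ φ : G → ℂ, IsCharacter G φ →
      ∃ ω : ℂ, IsIntegral ℤ ω ∧ φ (x * y) - φ y = (1 - ε) * ω by
    obtain ⟨χ₁, χ₂, h₁, h₂, rfl⟩ := hχ
    obtain ⟨w₁, i₁, e₁⟩ := key χ₁ h₁
    obtain ⟨w₂, i₂, e₂⟩ := key χ₂ h₂
    exact ⟨w₁ - w₂, i₁.sub i₂, by simp only [Pi.sub_apply]; linear_combination e₁ - e₂⟩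
  intro φ hφ
  set K := Subgroup.centralizer ({x} : Set G) with hK
  have hxK : x ∈ K := Subgroup.mem_centralizer_singleton_iff.mpr rfl
  have hyK : y ∈ K := Subgroup.mem_centralizer_singleton_iff.mpr hxy.symm
  obtain ⟨d, ρ, hρe⟩ := CfsgLib.CharGalois.isCharacter_comp hφ K.subtype
  obtain ⟨m, hm⟩ := CfsgLib.Characters.exists_irr_decomp ρ
  have hterm : ∀ ψ : IrrCharacter K, ∃ w : ℂ, IsIntegral ℤ w ∧
      (ψ : K → ℂ) (⟨x, hxK⟩ * ⟨y, hyK⟩) - (ψ : K → ℂ) ⟨y, hyK⟩ = (1 - ε) * w := by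
    rintro ⟨f, n, σ, hσ, rfl⟩
    haveI := hσ
    have hc : (⟨x, hxK⟩ : K) ∈ Subgroup.center K := Subgroup.mem_center_iff.mpr fun g =>
      Subtype.ext (Subgroup.mem_centralizer_singleton_iff.mp g.2)
    obtain ⟨c, hc⟩ := CfsgLib.CharScalar.center_scalar σ hc
    haveI := CfsgLib.CharScalar.nontrivial_of_irreducible σ
    have hcp : c ^ p = 1 := by
      have e : σ ((⟨x, hxK⟩ : K) ^ p) = c ^ p • 1 := by rw [map_pow, hc, smul_pow, one_pow]
      rw [show (⟨x, hxK⟩ : K) ^ p = 1 from Subtype.ext (hx ▸ pow_orderOf_eq_one x), map_one] at e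
      obtain ⟨v, hv⟩ := exists_ne (0 : Fin n → ℂ)
      have := congrArg (fun T : Module.End ℂ (Fin n → ℂ) => T v) e
      simp only [Module.End.one_apply, LinearMap.smul_apply] at this
      have h0 : (c ^ p - 1) • v = 0 := by rw [sub_smul, ← this, one_smul, sub_self]
      simpa [hv, sub_eq_zero] using h0
    obtain ⟨j, -, rfl⟩ := hprim.eq_pow_of_pow_eq_one hcp
    refine ⟨-(∑ i ∈ Finset.range j, ε ^ i) * σ.character ⟨y, hyK⟩, ?_, ?_⟩
    · exact ((IsIntegral.sum _ fun i _ => (IsPrimitiveRoot.isIntegral hprim hp.pos).pow i).neg).mul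
        (CfsgLib.CharScalar.isIntegral_character σ _)
    · have e : σ.character (⟨x, hxK⟩ * ⟨y, hyK⟩) = ε ^ j * σ.character ⟨y, hyK⟩ := by
        simp only [Representation.character, map_mul, hc, smul_mul_assoc, one_mul, map_smul, smul_eq_mul]
      show σ.character _ - σ.character _ = _
      rw [e]
      linear_combination σ.character (⟨y, hyK⟩ : K) * mul_neg_geom_sum ε j
  choose w hw hw' using hterm
  refine ⟨∑ ψ, (m ψ : ℂ) * w ψ, IsIntegral.sum _ fun ψ _ => (isIntegral_natCast (R := ℤ) (m ψ)).mul (hw ψ), ?_⟩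
  have e1 := congrFun (hρe.symm.trans hm) (⟨x, hxK⟩ * ⟨y, hyK⟩)
  have e2 := congrFun (hρe.symm.trans hm) ⟨y, hyK⟩
  simp only [Subgroup.coe_subtype, Subgroup.coe_mul, Finset.sum_apply, Pi.smul_apply, smul_eq_mul] at e1 e2
  rw [e1, e2, ← Finset.sum_sub_distrib, Finset.mul_sum]
  refine Finset.sum_congr rfl fun ψ _ => ?_
  linear_combination (m ψ : ℂ) * hw' ψ

end Cfsg.Agent.S1494
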