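import Cfsg.Statements.S1495
import Cfsg.Agent.Lib.Characters.Scalar
import Mathlib.RingTheory.RootsOfUnity.Lemmas
import Mathlib.RingTheory.RootsOfUnity.Complex

set_option autoImplicit false
open Cfsg

namespace Cfsg.Agent.S1495

/-- Let p be a prime, ε = exp(2πi/p), and n an integer such that n = (1 − ε) * ω for some algebraic integer ω. Then p divides n. -/
theorem result (p : ℕ) (hp : p.Prime) (n : ℤ) (ω : ℂ) (hω : IsIntegral ℤ ω) (h : (n : ℂ) = (1 - Complex.exp (2 * Real.pi * Complex.I / p)) * ω) : (p : ℤ) ∣ n := by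
  haveI : NeZero p := ⟨hp.ne_zero⟩
  set ε : ℂ := Complex.exp (2 * Real.pi * Complex.I / p) with hε
  have hprim : IsPrimitiveRoot ε p := Complex.isPrimitiveRoot_exp p hp.ne_zero
  obtain ⟨r, rfl⟩ : ∃ r, p = r + 1 := ⟨p - 1, by have := hp.pos; omega⟩
  have hstep : ∀ k ∈ Finset.range r, ∃ u : ℂ, IsIntegral ℤ u ∧ (1 - ε) = (1 - ε ^ (k + 1)) * u := by
    intro k hk
    rw [Finset.mem_range] at hk
    have hco : (k + 1).Coprime (r + 1) := Nat.Coprime.symm ((hp.coprime_iff_not_dvd).mpr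
      (Nat.not_dvd_of_pos_of_lt (by omega) (by omega)))
    obtain ⟨i, -, hi⟩ := (hprim.pow_of_coprime (k + 1) hco).eq_pow_of_pow_eq_one (ξ := ε) hprim.pow_eq_one
    refine ⟨∑ j ∈ Finset.range i, (ε ^ (k + 1)) ^ j, IsIntegral.sum _ fun j _ => ?_, ?_⟩
    · exact ((IsPrimitiveRoot.isIntegral hprim (by omega)).pow _).pow _
    · rw [mul_neg_geom_sum, hi]
  choose! u hu hu' using hstep
  have hprod : (n : ℂ) ^ r = ((r : ℂ) + 1) * ∏ k ∈ Finset.range r, (u k * ω) := by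
    calc (n : ℂ) ^ r = ∏ _k ∈ Finset.range r, (n : ℂ) := by rw [Finset.prod_const, Finset.card_range]
      _ = ∏ k ∈ Finset.range r, ((1 - ε ^ (k + 1)) * (u k * ω)) :=
        Finset.prod_congr rfl fun k hk => by rw [h, hu' k hk, mul_assoc]
      _ = _ := by rw [Finset.prod_mul_distrib, IsPrimitiveRoot.prod_one_sub_pow_eq_order hprim]
  have hint : IsIntegral ℤ (((n.natAbs ^ (2 * r) : ℕ) : ℂ) / ((r + 1 : ℕ) : ℂ)) := by
    have hW : IsIntegral ℤ ((∏ k ∈ Finset.range r, (u k * ω)) * (n : ℂ) ^ r) :=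
      (IsIntegral.prod _ fun k hk => (hu k hk).mul hω).mul ((isIntegral_intCast (R := ℤ) n).pow r)
    have e0 : ((n.natAbs : ℂ)) ^ 2 = (n : ℂ) ^ 2 := by
      rw [← Int.cast_natCast (R := ℂ), ← Int.cast_pow, ← Int.cast_pow, Int.natAbs_sq]
    have e : ((n.natAbs ^ (2 * r) : ℕ) : ℂ) / ((r + 1 : ℕ) : ℂ)
        = (∏ k ∈ Finset.range r, (u k * ω)) * (n : ℂ) ^ r := by
      rw [div_eq_iff (Nat.cast_ne_zero.mpr (Nat.succ_ne_zero r)), Nat.cast_pow, pow_mul, e0, ← pow_mul]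
      push_cast
      linear_combination (n : ℂ) ^ r * hprod
    rw [e]; exact hW
  have hdvd := CfsgLib.CharScalar.dvd_of_isIntegral_div (Nat.succ_ne_zero r) hint
  exact Int.natCast_dvd.mpr (hp.dvd_of_dvd_pow hdvd)

end Cfsg.Agent.S1495
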