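import Cfsg.Statements.S1526
import Cfsg.Agent.Lib.CNCount.Main
import Cfsg.Agent.Lib.OddChar.FeitSibley

set_option autoImplicit false
open Cfsg

namespace Cfsg.Agent.S1526

/-- Let G be a finite group of odd order and (L i, H i), i in a finite index type with at least two elements, pairs of subgroups with H i a nontrivial proper normal subgroup of L i such that every non-identity element of H i has its centraliser within L i contained in H i (L i is a Frobenius group with kernel H i), the orders of the H i pairwise coprime, and the underlying set of each H i a TI-subset of G with normaliser L i. If every non-identity element of G is conjugate to an element of some H i, we reach a contradiction. -/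
theorem result {G : Type*} [Group G] [Finite G] (hodd : Odd (Nat.card G)) {ι : Type*} [Fintype ι] (hι : 2 ≤ Fintype.card ι) (L H : ι → Subgroup G) (hHL : ∀ i, H i < L i) (hH1 : ∀ i, H i ≠ ⊥) (hHn : ∀ i, ∀ x ∈ L i, ∀ h ∈ H i, x * h * x⁻¹ ∈ H i) (hfrob : ∀ i, ∀ h ∈ H i, h ≠ 1 → L i ⊓ Subgroup.centralizer ({h} : Set G) ≤ H i) (hcop : ∀ i j, i ≠ j → Nat.Coprime (Nat.card (H i)) (Nat.card (H j))) (hTI : ∀ i, Cfsg.IsTISubset (H i : Set G) ∧ Subgroup.normalizer (H i : Set G) = L i) (hcover : ∀ g : G, g ≠ 1 → ∃ i, ∃ x : G, x * g * x⁻¹ ∈ H i) : False := by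
  haveI : Fintype G := Fintype.ofFinite G
  obtain ⟨i₀⟩ : Nonempty ι := Fintype.card_pos_iff.mp (by omega)
  obtain ⟨⟨a, _⟩, ha⟩ := Subgroup.ne_bot_iff_exists_ne_one.mp (hH1 i₀)
  haveI : Nontrivial G := ⟨a, 1, fun e => ha (Subtype.ext e)⟩
  refine CfsgLib.CNCount.covering_false hodd H (fun i => ?_) (fun i j hij k hk hk1 g hg => hk1 ?_) hcover
  · have hN := (hTI i).2
    have hcent : ∀ k ∈ H i, k ≠ 1 → Subgroup.centralizer ({k} : Set G) ≤ H i := by
      intro k hk hk1 x hx
      refine hfrob i k hk hk1 ⟨?_, hx⟩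
      rw [← hN]
      by_contra hxN
      refine hk1 ((hTI i).1 x hxN k hk ?_)
      rw [Subgroup.mem_centralizer_singleton_iff.mp hx, mul_inv_cancel_right]
      exact hk
    have hle : H i ≤ L i := (hHL i).le
    haveI : ((H i).subgroupOf (L i)).Normal :=
      ⟨fun n hn x => Subgroup.mem_subgroupOf.mpr (hHn i x x.2 n (Subgroup.mem_subgroupOf.mp hn))⟩
    have hne : (H i).subgroupOf (L i) ≠ ⊤ := fun e => (hHL i).not_ge (Subgroup.subgroupOf_eq_top.mp e)
    have hnil := CfsgLib.OddChar.kernel_isNilpotent
      (CfsgLib.OddChar.kernel_of_le_normalizer (N := L i) hcent) hne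
    exact
      { ti := fun g hg k hk hgk => (hTI i).1 g hg k hk hgk
        cent := hcent
        lt := by rw [hN]; exact hHL i
        nilp := by
          haveI := hnil
          exact Group.nilpotent_of_surjective (Subgroup.subgroupOfEquivOfLe hle).toMonoidHom
            (Subgroup.subgroupOfEquivOfLe hle).surjective
        ne_bot := hH1 i }
  · refine orderOf_eq_one_iff.mp (Nat.eq_one_of_dvd_coprimes (hcop i j hij)
      (Subgroup.orderOf_dvd_natCard _ hk) ?_)
    rw [← MulEquiv.orderOf_eq (MulAut.conj g) k, MulAut.conj_apply]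
    exact Subgroup.orderOf_dvd_natCard _ hg

end Cfsg.Agent.S1526
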