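import Cfsg.Statements.S4143
-- import your own Cfsg.Agent.* helpers here

set_option autoImplicit false
open Cfsg

namespace Cfsg.Agent.S4143

universe u

open Subgroup in
/-- Step from a self-centralizing nonabelian subgroup of order `p ^ 3` to one of order `p ^ 2` in
the central quotient, and from the latter to the former in the group itself. -/
theorem maxClass_aux {p : ℕ} [Fact p.Prime] : ∀ (n : ℕ) (Y : Type u) [Group Y] [Finite Y],
    Nat.card Y = p ^ n →
    (∀ A : Subgroup Y, Nat.card A = p ^ 2 → Subgroup.centralizer (A : Set Y) ≤ A →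
      Group.nilpotencyClass Y = n - 1) ∧
    (∀ B : Subgroup Y, Nat.card B = p ^ 3 → ¬ IsMulCommutative B →
      Subgroup.centralizer (B : Set Y) ≤ B → Group.nilpotencyClass Y = n - 1) := by
  intro n
  induction n using Nat.strong_induction_on with
  | _ n ih =>
  intro Y _ _ hY
  have hp : p.Prime := Fact.out
  have hYp : IsPGroup p Y := IsPGroup.of_card hY
  haveI : Group.IsNilpotent Y := hYp.isNilpotent
  have partB : ∀ B : Subgroup Y, Nat.card B = p ^ 3 → ¬ IsMulCommutative B →
      Subgroup.centralizer (B : Set Y) ≤ B → Group.nilpotencyClass Y = n - 1 := by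
    intro B hB hBna hC
    have hn3 : 3 ≤ n := by
      have h := B.card_subgroup_dvd_card
      rw [hB, hY, Nat.pow_dvd_pow_iff_le_right hp.one_lt] at h
      exact h
    haveI : Nontrivial Y := Finite.one_lt_card_iff_nontrivial.1
      (hY ▸ Nat.one_lt_pow (by omega) hp.one_lt)
    set Z := Subgroup.center Y with hZdef
    have hZB : Z ≤ B := (Subgroup.center_le_centralizer (B : Set Y)).trans hC
    obtain ⟨x1, x2, hx12⟩ : ∃ x1 x2 : B, x1 * x2 ≠ x2 * x1 := by
      by_contra hh
      push Not at hh
      exact hBna ⟨⟨hh⟩⟩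
    have hgen : ∀ C : Subgroup Y, (x1 : Y) ∈ C → (x2 : Y) ∈ C → B ≤ C := by
      intro C h1 h2
      have hD : (C.subgroupOf B) = ⊤ := by
        have hcard := (C.subgroupOf B).card_subgroup_dvd_card
        rw [hB] at hcard
        obtain ⟨j, hj3, hj⟩ := (Nat.dvd_prime_pow hp).1 hcard
        rcases Nat.lt_or_ge j 3 with hlt | hge
        · exfalso
          have hcomm : ∀ a b : C.subgroupOf B, a * b = b * a := by
            intro a b
            match j, hlt, hj with
            | 0, _, hj =>
              haveI : Subsingleton (C.subgroupOf B) := (Nat.card_eq_one_iff_unique.1 (by simpa using hj)).1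
              exact Subsingleton.elim _ _
            | 1, _, hj =>
              haveI : IsCyclic (C.subgroupOf B) := isCyclic_of_prime_card (by simpa using hj)
              letI := IsCyclic.commGroup (α := C.subgroupOf B)
              exact mul_comm a b
            | 2, _, hj =>
              exact IsPGroup.commutative_of_card_eq_prime_sq hj a b
          exact hx12 (congrArg Subtype.val (hcomm ⟨x1, h1⟩ ⟨x2, h2⟩))
        · exact Subgroup.eq_top_of_card_eq _ (by rw [hj, hB, show j = 3 by omega])
      exact Subgroup.subgroupOf_eq_top.1 hD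
    -- the centre has order `p`
    have hZcard : Nat.card Z = p := by
      obtain ⟨j, -, hj⟩ := (Nat.dvd_prime_pow hp).1 (hY ▸ Z.card_subgroup_dvd_card)
      haveI := hYp.center_nontrivial
      have hj0 : j ≠ 0 := by
        rintro rfl
        exact (Finite.one_lt_card_iff_nontrivial.2 ‹Nontrivial Z›).ne' (by simpa using hj)
      have hj2 : j < 2 := by
        by_contra hj2
        -- otherwise `Z` and one more element generate an abelian group containing both generators
        apply hx12
        have hlt : Z < B := lt_of_le_of_ne hZB fun h => hBna (h ▸ ⟨⟨fun a b => Subtype.ext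
          (Subgroup.mem_center_iff.1 b.2 a)⟩⟩)
        have hdvd := Subgroup.card_dvd_of_le hlt.le
        rw [hB, hj, Nat.pow_dvd_pow_iff_le_right hp.one_lt] at hdvd
        have hj3 : j ≠ 3 := by
          rintro rfl
          exact hlt.ne (Subgroup.eq_of_le_of_card_ge hlt.le (by rw [hB, hj]))
        by_cases h1 : (x1 : Y) ∈ Z
        · exact Subtype.ext (Subgroup.mem_center_iff.1 h1 x2).symm
        have hlt2 : Z < B ⊓ Subgroup.centralizer {(x1 : Y)} := by
          refine lt_of_le_of_ne (le_inf hZB (Subgroup.center_le_centralizer _)) fun h => h1 ?_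
          rw [h]
          exact ⟨x1.2, Subgroup.mem_centralizer_singleton_iff.2 rfl⟩
        have hBc : B ⊓ Subgroup.centralizer {(x1 : Y)} = B := by
          refine Subgroup.eq_of_le_of_card_ge inf_le_left ?_
          obtain ⟨i, -, hi⟩ := (Nat.dvd_prime_pow hp).1
            (hY ▸ (B ⊓ Subgroup.centralizer {(x1 : Y)}).card_subgroup_dvd_card)
          have hi2 : j < i := by
            by_contra hij
            exact hlt2.ne (Subgroup.eq_of_le_of_card_ge hlt2.le
              (by rw [hi, hj]; exact Nat.pow_le_pow_right hp.pos (by omega)))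
          rw [hB, hi]
          exact Nat.pow_le_pow_right hp.pos (by omega)
        have hx2 := (hBc.symm ▸ x2.2 : (x2 : Y) ∈ B ⊓ Subgroup.centralizer {(x1 : Y)})
        exact Subtype.ext (Subgroup.mem_centralizer_singleton_iff.1 hx2.2).symm
      rw [hj, show j = 1 by omega, pow_one]
    -- the image of `B` is self-centralizing of order `p ^ 2`
    set T := (Subgroup.centralizer ((B.map (QuotientGroup.mk' Z) : Subgroup (Y ⧸ Z)) : Set (Y ⧸ Z))).comap
      (QuotientGroup.mk' Z) with hT
    have hZT : Z ≤ T := by
      intro z hz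
      rw [hT, Subgroup.mem_comap, Subgroup.mem_centralizer_iff, QuotientGroup.mk'_apply,
        (QuotientGroup.eq_one_iff z).2 hz]
      simp
    have hmemT : ∀ y ∈ T, ∀ b ∈ B, y * b * y⁻¹ * b⁻¹ ∈ Z := by
      intro y hy b hb
      have h := Subgroup.mem_centralizer_iff.1 hy (b : Y ⧸ Z) ⟨b, hb, rfl⟩
      rw [← QuotientGroup.eq_one_iff]
      simp only [QuotientGroup.mk_mul, QuotientGroup.mk_inv]
      rw [QuotientGroup.mk'_apply] at h
      rw [← h]; group
    have hTcard : Nat.card T ≤ p ^ 3 := by
      let f : T ⧸ Z.subgroupOf T → Z × Z := Quotient.lift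
        (fun y : T => (⟨_, hmemT y y.2 x1 x1.2⟩, ⟨_, hmemT y y.2 x2 x2.2⟩)) (by
          intro a b hab
          obtain ⟨z, hz, hzb⟩ : ∃ z ∈ Z, (b : Y) = (a : Y) * z :=
            ⟨(a : Y)⁻¹ * b, (QuotientGroup.leftRel_apply.1 hab :), by group⟩
          have hzc := fun c : Y => Subgroup.mem_center_iff.1 hz c
          refine Prod.ext (Subtype.ext ?_) (Subtype.ext ?_) <;>
          · simp only [hzb, mul_inv_rev]
            simp only [← mul_assoc]
            rw [mul_assoc (a : Y) z, ← hzc]
            group)
      have hinj : Function.Injective f := by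
        intro a b
        refine Quotient.inductionOn₂' a b fun a b hab => ?_
        refine Quotient.sound' (QuotientGroup.leftRel_apply.2 ?_)
        have h1 : (a : Y) * x1 * (a : Y)⁻¹ = (b : Y) * x1 * (b : Y)⁻¹ :=
          mul_right_cancel (congrArg (fun z : Z × Z => (z.1 : Y)) hab)
        have h2 : (a : Y) * x2 * (a : Y)⁻¹ = (b : Y) * x2 * (b : Y)⁻¹ :=
          mul_right_cancel (congrArg (fun z : Z × Z => (z.2 : Y)) hab)
        have hmem : ∀ c : Y, (a : Y) * c * (a : Y)⁻¹ = (b : Y) * c * (b : Y)⁻¹ →
            c ∈ Subgroup.centralizer {(a : Y)⁻¹ * b} := by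
          intro c hc
          rw [Subgroup.mem_centralizer_singleton_iff]
          calc c * ((a : Y)⁻¹ * b) = (a : Y)⁻¹ * ((a : Y) * c * (a : Y)⁻¹) * b := by group
            _ = (a : Y)⁻¹ * b * c := by rw [hc]; group
        have hBle := hgen _ (hmem _ h1) (hmem _ h2)
        have hcB : (a : Y)⁻¹ * b ∈ Subgroup.centralizer (B : Set Y) := by
          rw [Subgroup.mem_centralizer_iff]
          exact fun c hc => Subgroup.mem_centralizer_singleton_iff.1 (hBle hc)
        change (a : Y)⁻¹ * b ∈ Z
        refine Subgroup.mem_center_iff.2 fun c => ?_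
        have hBa := hC hcB
        -- it lies in the centre of `B`, which is the centre of `Y`
        have hlt : Z ≤ B ⊓ Subgroup.centralizer (B : Set Y) :=
          le_inf hZB (Subgroup.center_le_centralizer _)
        have heq : Z = B ⊓ Subgroup.centralizer (B : Set Y) := by
          refine Subgroup.eq_of_le_of_card_ge hlt ?_
          rw [hZcard]
          by_contra hgt
          push Not at hgt
          obtain ⟨i, hi3, hi⟩ := (Nat.dvd_prime_pow hp).1
            (hB ▸ Subgroup.card_dvd_of_le (inf_le_left (a := B) (b := Subgroup.centralizer (B : Set Y))))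
          have hi2 : 2 ≤ i := by
            by_contra hi2
            have : p ^ i ≤ p ^ 1 := Nat.pow_le_pow_right hp.pos (by omega)
            rw [pow_one] at this
            omega
          -- so `B` is abelian
          apply hx12
          by_cases h1c : (x1 : Y) ∈ Subgroup.centralizer (B : Set Y)
          · exact Subtype.ext (Subgroup.mem_centralizer_iff.1 h1c x2 x2.2).symm
          have hlt2 : B ⊓ Subgroup.centralizer (B : Set Y) < B ⊓ Subgroup.centralizer {(x1 : Y)} := by
            refine lt_of_le_of_ne (inf_le_inf le_rfl (Subgroup.centralizer_le (by simp))) fun h => h1c ?_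
            have : (x1 : Y) ∈ B ⊓ Subgroup.centralizer (B : Set Y) :=
              h ▸ ⟨x1.2, Subgroup.mem_centralizer_singleton_iff.2 rfl⟩
            exact this.2
          obtain ⟨l, hl3, hl⟩ := (Nat.dvd_prime_pow hp).1
            (hB ▸ Subgroup.card_dvd_of_le (inf_le_left (a := B) (b := Subgroup.centralizer {(x1 : Y)})))
          have hli : i < l := by
            by_contra hil
            exact hlt2.ne (Subgroup.eq_of_le_of_card_ge hlt2.le
              (by rw [hi, hl]; exact Nat.pow_le_pow_right hp.pos (by omega)))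
          have hBc : B ⊓ Subgroup.centralizer {(x1 : Y)} = B :=
            Subgroup.eq_of_le_of_card_ge inf_le_left
              (by rw [hB, hl]; exact Nat.pow_le_pow_right hp.pos (by omega))
          have hx2 := (hBc.symm ▸ x2.2 : (x2 : Y) ∈ B ⊓ Subgroup.centralizer {(x1 : Y)})
          exact Subtype.ext (Subgroup.mem_centralizer_singleton_iff.1 hx2.2).symm
        exact Subgroup.mem_center_iff.1 (heq.ge ⟨hBa, hcB⟩) c
      have h := Nat.card_le_card_of_injective f hinj
      rw [Nat.card_prod, hZcard] at h
      rw [Subgroup.card_eq_card_quotient_mul_card_subgroup (Z.subgroupOf T),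
        Nat.card_congr (Subgroup.subgroupOfEquivOfLe hZT).toEquiv, hZcard]
      calc _ ≤ p * p * p := Nat.mul_le_mul_right _ h
        _ = p ^ 3 := by ring
    set Bbar := B.map (QuotientGroup.mk' Z) with hBbar
    have hBT : B ≤ T := by
      intro b hb
      rw [hT, Subgroup.mem_comap, Subgroup.mem_centralizer_iff]
      rintro _ ⟨c, hc, rfl⟩
      rw [← map_mul, ← map_mul, QuotientGroup.mk'_apply, QuotientGroup.mk'_apply, QuotientGroup.eq]
      -- commutators of elements of `B` are central in `B`, hence central in `Y`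
      haveI : (Z.subgroupOf B).Normal := inferInstance
      have hq : Nat.card (B ⧸ Z.subgroupOf B) = p ^ 2 := by
        have := Subgroup.card_eq_card_quotient_mul_card_subgroup (Z.subgroupOf B)
        rw [Nat.card_congr (Subgroup.subgroupOfEquivOfLe hZB).toEquiv, hZcard, hB] at this
        exact Nat.eq_of_mul_eq_mul_right hp.pos (this.symm.trans (by ring))
      have h := IsPGroup.commutative_of_card_eq_prime_sq hq
        (((⟨c, hc⟩ : B) : B ⧸ Z.subgroupOf B)) ((⟨b, hb⟩ : B) : B ⧸ Z.subgroupOf B)
      rw [← QuotientGroup.mk_mul, ← QuotientGroup.mk_mul, QuotientGroup.eq,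
        Subgroup.mem_subgroupOf] at h
      simpa using h
    have hTB : T = B := (Subgroup.eq_of_le_of_card_ge hBT (hB ▸ hTcard)).symm
    have hCbar : Subgroup.centralizer (Bbar : Set (Y ⧸ Z)) ≤ Bbar := by
      intro q hq
      obtain ⟨y, rfl⟩ := QuotientGroup.mk'_surjective Z q
      exact ⟨y, hTB ▸ (hq : y ∈ T), rfl⟩
    have hBbarc : Nat.card Bbar = p ^ 2 := by
      rw [hBbar, ← Subgroup.relIndex_ker, QuotientGroup.ker_mk']
      have := (Z.subgroupOf B).index_mul_card
      rw [Nat.card_congr (Subgroup.subgroupOfEquivOfLe hZB).toEquiv, hZcard, hB] at this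
      exact Nat.eq_of_mul_eq_mul_right hp.pos (this.trans (by ring))
    have hq : Nat.card (Y ⧸ Z) = p ^ (n - 1) := by
      have := Subgroup.card_eq_card_quotient_mul_card_subgroup Z
      rw [hZcard, hY] at this
      refine Nat.eq_of_mul_eq_mul_right hp.pos (this.symm.trans ?_)
      rw [← pow_succ, show n - 1 + 1 = n by omega]
    have hind := (ih (n - 1) (by omega) (Y ⧸ Z) hq).1 Bbar hBbarc hCbar
    have hind' : Group.nilpotencyClass (Y ⧸ Subgroup.center Y) = n - 1 - 1 := hind
    rw [Group.nilpotencyClass_eq_quotient_center_plus_one, hind']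
    omega
  refine ⟨fun A hA hC => ?_, partB⟩
  have hn2 : 2 ≤ n := by
    have h := A.card_subgroup_dvd_card
    rw [hA, hY, Nat.pow_dvd_pow_iff_le_right hp.one_lt] at h
    exact h
  haveI : Nontrivial Y := Finite.one_lt_card_iff_nontrivial.1
    (hY ▸ Nat.one_lt_pow (by omega) hp.one_lt)
  have hAab : ∀ a b : A, a * b = b * a := IsPGroup.commutative_of_card_eq_prime_sq hA
  by_cases hAtop : A = ⊤
  · have hn : n = 2 := by
      subst hAtop
      rw [Subgroup.card_top, hY] at hA
      exact Nat.pow_right_injective hp.two_le hA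
    have hc : Subgroup.center Y = ⊤ := eq_top_iff.2 fun y _ => Subgroup.mem_center_iff.2 fun z =>
      congrArg Subtype.val (hAab ⟨z, hAtop ▸ Subgroup.mem_top z⟩ ⟨y, hAtop ▸ Subgroup.mem_top y⟩)
    rw [Group.nilpotencyClass_eq_quotient_center_plus_one, hn]
    haveI : Subsingleton (Y ⧸ Subgroup.center Y) :=
      (Nat.card_eq_one_iff_unique.1 (by rw [← Subgroup.index_eq_card, hc, Subgroup.index_top])).1
    simp [Group.nilpotencyClass_zero_iff_subsingleton.2 ‹_›]
  · -- the normalizer of `A` has order `p ^ 3`
    set N := Subgroup.normalizer (A : Set Y) with hN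
    have hlt : A < N := (Group.normalizerCondition_of_isNilpotent (G := Y)) A (lt_top_iff_ne_top.2 hAtop)
    obtain ⟨a0, ha0, ha0'⟩ : ∃ a0 ∈ A, ¬ N ≤ Subgroup.centralizer {a0} := by
      by_contra hh
      push Not at hh
      refine hlt.not_ge (le_trans (fun y hy => ?_) hC)
      rw [Subgroup.mem_centralizer_iff]
      exact fun a ha => (Subgroup.mem_centralizer_singleton_iff.1 (hh a ha hy)).symm
    set C := N ⊓ Subgroup.centralizer {a0} with hCdef
    have hCA : C = A := by
      refine le_antisymm ?_ (le_inf hlt.le fun a ha => Subgroup.mem_centralizer_singleton_iff.2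
        (congrArg Subtype.val (hAab ⟨a, ha⟩ ⟨a0, ha0⟩)))
      rintro y ⟨hyN, hya⟩
      by_contra hyA
      -- `y` centralizes `a0` and the nontrivial subgroup of `A` centralized by `N`
      set E := A ⊓ Subgroup.centralizer (N : Set Y) with hE
      have hEne : E ≠ ⊥ := by
        letI act : MulAction N A :=
          { smul := fun g a => ⟨(g : Y) * a * (g : Y)⁻¹,
              (Subgroup.mem_normalizer_iff.1 g.2 a).1 a.2⟩
            one_smul := fun a => Subtype.ext (show ((1 : N) : Y) * a * ((1 : N) : Y)⁻¹ = a by simp)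
            mul_smul := fun g h a => Subtype.ext (show ((g * h : N) : Y) * a * ((g * h : N) : Y)⁻¹ =
              (g : Y) * ((h : Y) * a * (h : Y)⁻¹) * (g : Y)⁻¹ by simp [mul_assoc]) }
        have h1 : (1 : A) ∈ MulAction.fixedPoints N A := fun g =>
          Subtype.ext (show (g : Y) * ((1 : A) : Y) * (g : Y)⁻¹ = 1 by simp)
        obtain ⟨e, he, he1⟩ := (hYp.to_subgroup N).exists_fixed_point_of_prime_dvd_card_of_fixed_point
          A (by rw [hA]; exact dvd_pow_self p two_ne_zero) h1
        intro hbot
        have hmem : (e : Y) ∈ E := by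
          refine ⟨e.2, Subgroup.mem_centralizer_iff.2 fun g hg => ?_⟩
          have h : g * (e : Y) * g⁻¹ = e := congrArg Subtype.val (he ⟨g, hg⟩)
          exact mul_inv_eq_iff_eq_mul.1 h
        rw [hbot, Subgroup.mem_bot] at hmem
        exact he1 (Subtype.ext hmem.symm)
      set D := A ⊓ Subgroup.centralizer {y} with hD
      have ha0D : a0 ∈ D := ⟨ha0, Subgroup.mem_centralizer_singleton_iff.2
        (Subgroup.mem_centralizer_singleton_iff.1 hya).symm⟩
      have hED : E < D := by
        refine lt_of_le_of_ne (fun e he => ⟨he.1, Subgroup.mem_centralizer_singleton_iff.2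
          (Subgroup.mem_centralizer_iff.1 he.2 y hyN).symm⟩) fun h => ha0' ?_
        intro g hg
        have ha0E : a0 ∈ E := h ▸ ha0D
        exact Subgroup.mem_centralizer_singleton_iff.2 (Subgroup.mem_centralizer_iff.1 ha0E.2 g hg)
      have hDA : D = A := by
        refine Subgroup.eq_of_le_of_card_ge inf_le_left ?_
        obtain ⟨d, -, hd⟩ := (Nat.dvd_prime_pow hp).1 (hY ▸ D.card_subgroup_dvd_card)
        obtain ⟨e, -, he⟩ := (Nat.dvd_prime_pow hp).1 (hY ▸ E.card_subgroup_dvd_card)
        have he0 : e ≠ 0 := by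
          rintro rfl
          exact hEne (Subgroup.card_eq_one.1 (by simpa using he))
        have hed : e < d := by
          by_contra hle
          exact hED.ne (Subgroup.eq_of_le_of_card_ge hED.le
            (by rw [hd, he]; exact Nat.pow_le_pow_right hp.pos (by omega)))
        rw [hA, hd]
        exact Nat.pow_le_pow_right hp.pos (by omega)
      exact hyA (hC (Subgroup.mem_centralizer_iff.2 fun a ha =>
        Subgroup.mem_centralizer_singleton_iff.1 ((hDA.ge ha).2)))
    -- the index of `A` in `N` is the number of conjugates of `a0`, all in `A`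
    let f : N ⧸ A.subgroupOf N → {a : A // a ≠ 1} := Quotient.lift
      (fun g : N => ⟨⟨(g : Y) * a0 * (g : Y)⁻¹, (Subgroup.mem_normalizer_iff.1 g.2 a0).1 ha0⟩,
        fun h => ha0' fun x hx => by
          have h' : (g : Y) * a0 * (g : Y)⁻¹ = 1 := congrArg Subtype.val h
          rw [conj_eq_one_iff] at h'
          subst h'
          simp [Subgroup.mem_centralizer_singleton_iff]⟩)
      (fun a b hab => Subtype.ext (Subtype.ext (by
        have h : (a : Y)⁻¹ * b ∈ A := (QuotientGroup.leftRel_apply.1 hab :)
        rw [← hCA] at h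
        have h2 := Subgroup.mem_centralizer_singleton_iff.1 h.2
        calc (a : Y) * a0 * (a : Y)⁻¹
            = (a : Y) * (a0 * ((a : Y)⁻¹ * b)) * (b : Y)⁻¹ := by group
          _ = (b : Y) * a0 * (b : Y)⁻¹ := by rw [← h2]; group)))
    have hinj : Function.Injective f := by
      intro a b
      refine Quotient.inductionOn₂' a b fun a b hab => ?_
      refine Quotient.sound' (QuotientGroup.leftRel_apply.2 ?_)
      change (a : Y)⁻¹ * b ∈ A
      rw [← hCA]
      refine ⟨N.mul_mem (N.inv_mem a.2) b.2, Subgroup.mem_centralizer_singleton_iff.2 ?_⟩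
      have h : (a : Y) * a0 * (a : Y)⁻¹ = (b : Y) * a0 * (b : Y)⁻¹ :=
        congrArg (fun z : {a : A // a ≠ 1} => ((z : A) : Y)) hab
      calc (a : Y)⁻¹ * b * a0 = (a : Y)⁻¹ * ((b : Y) * a0 * (b : Y)⁻¹) * b := by group
        _ = a0 * ((a : Y)⁻¹ * b) := by rw [← h]; group
    have hle := Nat.card_le_card_of_injective f hinj
    have hlt' : Nat.card {a : A // a ≠ 1} < Nat.card A :=
      Finite.card_subtype_lt (fun h : (1 : A) ≠ 1 => h rfl)
    have hmul := (A.subgroupOf N).index_mul_card
    rw [Nat.card_congr (Subgroup.subgroupOfEquivOfLe hlt.le).toEquiv, hA] at hmul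
    rw [← Subgroup.index_eq_card] at hle
    obtain ⟨j, -, hj⟩ := (Nat.dvd_prime_pow hp).1 (hY ▸ N.card_subgroup_dvd_card)
    have hj3 : 3 ≤ j := by
      by_contra hj3
      exact hlt.ne (Subgroup.eq_of_le_of_card_ge hlt.le
        (by rw [hA, hj]; exact Nat.pow_le_pow_right hp.pos (by omega)))
    have hj4 : j < 4 := by
      by_contra hj4
      have h4 : p ^ 4 ≤ p ^ j := Nat.pow_le_pow_right hp.pos (by omega)
      rw [← hj, ← hmul] at h4
      have h2 : (A.subgroupOf N).index < p ^ 2 := by omega
      have := Nat.mul_lt_mul_of_pos_right h2 (pow_pos hp.pos 2)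
      rw [← pow_add, show 2 + 2 = 4 from rfl] at this
      omega
    refine partB N (by rw [hj, show j = 3 by omega]) (fun hab => ?_)
      ((Subgroup.centralizer_le hlt.le).trans (hC.trans hlt.le))
    exact hlt.not_ge fun g hg => hC (Subgroup.mem_centralizer_iff.2 fun a ha =>
      congrArg Subtype.val (hab.is_comm.comm ⟨a, hlt.le ha⟩ ⟨g, hg⟩))

/-- Let X be a finite p-group of order p^n containing a non-abelian subgroup B of order p³ with C_X(B) ≤ B. Then X has nilpotency class n − 1 (maximal class). -/
theorem result {X : Type*} [Group X] [Finite X] {p : ℕ} [Fact p.Prime] (n : ℕ) (hX : Nat.card X = p ^ n)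
    (B : Subgroup X) (hB : Nat.card B = p ^ 3) (hBna : ¬ IsMulCommutative B) (hC : Subgroup.centralizer (B : Set X) ≤ B) :
    Group.nilpotencyClass X = n - 1 := by
  exact (maxClass_aux n X hX).2 B hB hBna hC

end Cfsg.Agent.S4143
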