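import Cfsg.Statements.S1924
import Mathlib
import Cfsg.Agent.Lib.Transfer.Basic
import Cfsg.Agent.Lib.Techniques.Basic

set_option autoImplicit false
open Cfsg

namespace Cfsg.Agent.S1924

open Subgroup CfsgLib.Transfer

/-- A permutation of order dividing `2 ^ k` whose square root of one is fixed point free is odd on
`2 ^ k` times an odd number of points. -/
theorem sign_eq_neg_one {α : Type*} [Fintype α] [DecidableEq α] (σ : Equiv.Perm α) (k m : ℕ)
    (hm : Odd m) (hcard : Fintype.card α = 2 ^ (k + 1) * m) (hord : σ ^ 2 ^ (k + 1) = 1)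
    (hfree : ∀ a, (σ ^ 2 ^ k) a ≠ a) : Equiv.Perm.sign σ = -1 := by
  have hsupp : σ.support = Finset.univ := by
    ext a
    simp only [Equiv.Perm.mem_support, Finset.mem_univ, iff_true]
    exact fun h => hfree a (Equiv.Perm.pow_apply_eq_self_of_apply_eq_self h _)
  have hall : ∀ l ∈ σ.cycleType, l = 2 ^ (k + 1) := by
    intro l hl
    have hdvd : l ∣ 2 ^ (k + 1) :=
      ((Finset.dvd_lcm (f := id) (Multiset.mem_toFinset.2 hl)).trans (by
        rw [← Equiv.Perm.lcm_cycleType]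
        exact Finset.lcm_dvd fun b hb => Multiset.dvd_lcm (Multiset.mem_toFinset.1 hb))).trans
      (orderOf_dvd_of_pow_eq_one hord)
    obtain ⟨j, hj, rfl⟩ := (Nat.dvd_prime_pow Nat.prime_two).1 hdvd
    by_contra hne
    have hjk : j ≤ k := by
      by_contra h
      exact hne (by rw [show j = k + 1 by omega])
    obtain ⟨c, τ, he, hd, hc, hcs⟩ := Equiv.Perm.mem_cycleType_iff.1 hl
    obtain ⟨a, ha⟩ : c.support.Nonempty := Finset.card_pos.1 (by rw [hcs]; positivity)
    refine hfree a ?_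
    obtain ⟨d, hd'⟩ := Nat.exists_eq_add_of_le hjk
    have h1 : c ^ 2 ^ k = 1 := by
      rw [← orderOf_dvd_iff_pow_eq_one, hc.orderOf, hcs]
      exact pow_dvd_pow 2 hjk
    rw [he, hd.commute.mul_pow, h1, one_mul]
    exact Equiv.Perm.pow_apply_eq_self_of_apply_eq_self
      ((hd a).resolve_left (Equiv.Perm.mem_support.1 ha)) _
  have hrep : σ.cycleType = Multiset.replicate (Multiset.card σ.cycleType) (2 ^ (k + 1)) :=
    Multiset.eq_replicate_card.2 hall
  have hsum := Equiv.Perm.sum_cycleType σ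
  rw [hsupp, Finset.card_univ, hcard, hrep, Multiset.sum_replicate, smul_eq_mul, mul_comm] at hsum
  have hcm : Multiset.card σ.cycleType = m := Nat.eq_of_mul_eq_mul_left (by positivity) hsum
  rw [Equiv.Perm.sign_of_cycleType, hrep, Multiset.sum_replicate, Multiset.card_replicate, hcm, smul_eq_mul]
  exact Odd.neg_one_pow (Even.add_odd ((Nat.even_pow.2 ⟨even_two, k.succ_ne_zero⟩).mul_left m) hm)

/-- A group equal to its `O^2` has no element acting in such a way on a coset space. -/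
theorem false_of_semiregular {K : Type*} [Group K] [Finite K] (hK : Cfsg.pResidual 2 K = ⊤) (M : Subgroup K)
    (g : K) (k m : ℕ) (hm : Odd m) (hidx : M.index = 2 ^ (k + 1) * m) (hord : g ^ 2 ^ (k + 1) = 1)
    (hfree : ∀ x : K, x⁻¹ * g ^ 2 ^ k * x ∉ M) : False := by
  classical
  letI : Fintype (K ⧸ M) := Fintype.ofFinite _
  let f : K →* ℤˣ := (Equiv.Perm.sign (α := K ⧸ M)).comp (MulAction.toPermHom K (K ⧸ M))
  have h2 : IsPGroup 2 ℤˣ := fun u => ⟨1, by simp [Int.units_sq]⟩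
  have h1 : f g = 1 := by
    have := pResidual_le_ker (p := 2) h2 f
    rw [hK] at this
    exact this (mem_top g)
  have h3 : f g = -1 := by
    refine sign_eq_neg_one _ k m hm (by rw [← hidx, ← Nat.card_eq_fintype_card]; rfl) ?_ ?_
    · rw [← map_pow, hord, map_one]
    · intro a
      induction a using QuotientGroup.induction_on with
      | H x =>
        rw [← map_pow]
        intro h
        have h' : ((g ^ 2 ^ k * x : K) : K ⧸ M) = (x : K ⧸ M) := h
        refine hfree x ?_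
        have h4 := QuotientGroup.eq.1 h'.symm
        rwa [← mul_assoc] at h4
  rw [h3] at h1
  exact absurd h1 (by decide)

/-- Subgroups of 2-power order and odd index in the same subgroup have the same order. -/
theorem card_eq_of_odd_relIndex {G : Type*} [Group G] [Finite G] {A B L : Subgroup G} (hA : A ≤ L) (hB : B ≤ L)
    (hA2 : IsPGroup 2 A) (hB2 : IsPGroup 2 B) (hAi : ¬ 2 ∣ A.relIndex L) (hBi : ¬ 2 ∣ B.relIndex L) :
    Nat.card A = Nat.card B := by
  have key : ∀ X : Subgroup G, X ≤ L → ∀ i : ℕ, Nat.card X = 2 ^ i → ¬ 2 ∣ X.relIndex L →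
      (Nat.card L).factorization 2 = i := by
    intro X hX i hi hXi
    rw [← relIndex_bot_left, ← relIndex_mul_relIndex ⊥ X L bot_le hX, relIndex_bot_left, hi,
      Nat.factorization_mul (by positivity) (by exact fun h => hXi (h ▸ dvd_zero 2))]
    simp [Nat.prime_two.factorization_self, Nat.factorization_eq_zero_of_not_dvd hXi]
  obtain ⟨i, hi⟩ := hA2.exists_card_eq
  obtain ⟨j, hj⟩ := hB2.exists_card_eq
  rw [hi, hj, ← key A hA i hi hAi, ← key B hB j hj hBi]
/-- A consequence of Thompson's transfer lemma. Let G be a finite group, L a subgroup with O²(L) = L, T a Sylow 2-subgroup of L and S a Sylow 2-subgroup of G containing T. Suppose D ≤ S is a dihedral subgroup of order at least 4 (the four-group counts) with D ∩ T = 1 and S = TD as a set of products (so |S| = |T|·|D|), and C ≤ D is cyclic of index 2 in D. If no involution of D outside C is G-conjugate to an involution of the subgroup generated by T and C, and the involution of C is not G-conjugate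 to any involution of T, then G has a normal subgroup K, containing every Sylow 2-subgroup of L as a Sylow 2-subgroup, with G = KD. -/
theorem result {G : Type*} [Group G] [Finite G] (L T S D C : Subgroup G) (hL : Cfsg.pResidual 2 ↥L = ⊤)
    (hTL : T ≤ L) (hT2 : IsPGroup 2 T) (hTsyl : ¬ 2 ∣ T.relIndex L)
    (hS2 : IsPGroup 2 S) (hSsyl : ¬ 2 ∣ S.index) (hTS : T ≤ S)
    (hDS : D ≤ S) (hDih : ∃ n : ℕ, 2 ≤ n ∧ Nonempty (↥D ≃* DihedralGroup n)) (hDT : D ⊓ T = ⊥) (hTD : T ⊔ D = S) (hTDc : Nat.card T * Nat.card D = Nat.card S)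
    (hCD : C ≤ D) (hC : IsCyclic ↥C) (hCi : C.relIndex D = 2)
    (h1 : ∀ x ∈ D, x ∉ C → orderOf x = 2 → ∀ g : G, g * x * g⁻¹ ∈ T ⊔ C → False)
    (h2 : ∀ c ∈ C, orderOf c = 2 → ∀ g : G, g * c * g⁻¹ ∈ T → False) :
    ∃ K : Subgroup G, K.Normal ∧ K ⊔ D = ⊤ ∧
      ∀ T' : Subgroup G, T' ≤ L → IsPGroup 2 T' → ¬ 2 ∣ T'.relIndex L → T' ≤ K ∧ ¬ 2 ∣ T'.relIndex K := by
  classical
  set K := Cfsg.pResidual 2 G with hKdef
  haveI hKn : K.Normal := pResidual_normal
  let P : Sylow 2 G := hS2.toSylow hSsyl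
  have hPS : (P : Subgroup G) = S := rfl
  have hKtop : Cfsg.pResidual 2 ↥K = ⊤ := by
    refine map_injective K.subtype_injective ?_
    rw [← MonoidHom.range_eq_map, range_subtype]
    refine le_antisymm (map_subtype_le _) (pResidual_le_iff.2 fun g hg => ?_)
    have hgK : g ∈ K := mem_pResidual hg
    exact ⟨⟨g, hgK⟩, mem_pResidual (by rwa [← orderOf_coe]), rfl⟩
  have hLK : L ≤ K := by
    have := map_pResidual_le (p := 2) L.subtype
    rwa [hL, ← MonoidHom.range_eq_map, range_subtype] at this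
  have hTK : T ≤ K := hTL.trans hLK
  -- every element of `S` is a product
  have hprod : ∀ s ∈ S, ∃ t ∈ T, ∃ d ∈ D, t * d = s := by
    let μ : ↥T × ↥D → ↥S := fun td => ⟨td.1 * td.2, mul_mem (hTS td.1.2) (hDS td.2.2)⟩
    have hinj : Function.Injective μ := by
      rintro ⟨⟨a, ha⟩, ⟨b, hb⟩⟩ ⟨⟨c, hc⟩, ⟨d, hd⟩⟩ h
      have h' : a * b = c * d := congrArg Subtype.val h
      have hm : c⁻¹ * a ∈ D ⊓ T := by
        refine mem_inf.2 ⟨?_, mul_mem (inv_mem hc) ha⟩
        rw [show c⁻¹ * a = d * b⁻¹ by rw [eq_mul_inv_iff_mul_eq, mul_assoc, h', inv_mul_cancel_left]]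
        exact mul_mem hd (inv_mem hb)
      rw [hDT, mem_bot, inv_mul_eq_one] at hm
      subst hm
      simp [mul_left_cancel h']
    have hsurj := (hinj.bijective_of_nat_card_le (by rw [Nat.card_prod, hTDc])).2
    intro s hs
    obtain ⟨⟨⟨a, ha⟩, ⟨b, hb⟩⟩, e⟩ := hsurj ⟨s, hs⟩
    exact ⟨a, ha, b, hb, congrArg Subtype.val e⟩
  have hinvol : ∀ x ∈ D, x ∉ C → orderOf x = 2 := by
    intro x hxD hxC
    obtain ⟨n, hn, ⟨e⟩⟩ := hDih
    haveI : NeZero n := ⟨by omega⟩
    obtain ⟨⟨c, hc⟩, hgen⟩ := hC.exists_generator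
    have hcardC : Nat.card C = n := by
      have h := relIndex_mul_relIndex ⊥ C D bot_le hCD
      rw [relIndex_bot_left, relIndex_bot_left, hCi, Nat.card_congr e.toEquiv, DihedralGroup.nat_card] at h
      omega
    have hoc : orderOf (e ⟨c, hCD hc⟩) = n := by
      rw [e.orderOf_eq, Subgroup.orderOf_mk, ← Subgroup.orderOf_mk c hc, orderOf_eq_card_of_forall_mem_zpowers hgen,
        hcardC]
    suffices h : orderOf (e ⟨x, hxD⟩) = 2 by rwa [e.orderOf_eq, Subgroup.orderOf_mk] at h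
    have hx1 : e ⟨x, hxD⟩ ≠ 1 := by
      simp only [ne_eq, EmbeddingLike.map_eq_one_iff, Subgroup.mk_eq_one]
      exact fun h => hxC (h ▸ one_mem C)
    rcases hce : e ⟨c, hCD hc⟩ with i | i
    · rcases hxe : e ⟨x, hxD⟩ with j | j
      · exfalso
        rw [hce, DihedralGroup.orderOf_r, Nat.div_eq_self] at hoc
        have hg : n.gcd i.val = 1 := hoc.resolve_left (by omega)
        let u := ZMod.unitOfCoprime i.val (Nat.coprime_comm.1 hg)
        have hu : (u : ZMod n) = i := by simp [u]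
        have hj : DihedralGroup.r i ^ (j * (u⁻¹ : (ZMod n)ˣ)).val = DihedralGroup.r j := by
          rw [DihedralGroup.r_pow, ZMod.natCast_zmod_val]
          congr 1
          rw [← hu, mul_comm j, ← mul_assoc, Units.mul_inv, one_mul]
        rw [← hce, ← hxe, ← map_pow, e.injective.eq_iff] at hj
        refine hxC ?_
        have := congrArg Subtype.val hj
        simp only [SubmonoidClass.mk_pow] at this
        exact this ▸ pow_mem hc _
      · exact DihedralGroup.orderOf_sr j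
    · rw [hce, DihedralGroup.orderOf_sr] at hoc
      subst hoc
      refine orderOf_eq_prime ?_ hx1
      have := Monoid.pow_exponent_eq_one (e ⟨x, hxD⟩)
      rwa [DihedralGroup.exponent, lcm_same, normalize_eq] at this
  -- no involution of `D` outside `C` lies in `O^2(G)`
  have hSK : ¬ 2 ∣ (S ⊓ K).relIndex K := hPS ▸ CfsgLib.Techniques.not_dvd_relIndex_inf_normal P K
  have hDK : D ⊓ K ≤ C := by
    rintro x hx
    obtain ⟨hxD, hxK⟩ := mem_inf.1 hx
    by_contra hxC
    have ho := hinvol x hxD hxC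
    have hxU : x ∉ T ⊔ C := fun h => h1 x hxD hxC ho 1 (by simpa using h)
    have hUS : T ⊔ C ≤ S := sup_le hTS (hCD.trans hDS)
    have hrel : (T ⊔ C).relIndex S = 2 := by
      have h3 : Nat.card T * Nat.card C ≤ Nat.card ↥(T ⊔ C) := by
        rw [← Nat.card_prod]
        refine Nat.card_le_card_of_injective
          (fun tc : ↥T × ↥C => (⟨tc.1 * tc.2, mul_mem (mem_sup_left tc.1.2) (mem_sup_right tc.2.2)⟩ : ↥(T ⊔ C))) ?_
        rintro ⟨⟨a, ha⟩, ⟨b, hb⟩⟩ ⟨⟨c, hc⟩, ⟨d, hd⟩⟩ h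
        have h' : a * b = c * d := congrArg Subtype.val h
        have hm : c⁻¹ * a ∈ D ⊓ T := by
          refine mem_inf.2 ⟨?_, mul_mem (inv_mem hc) ha⟩
          rw [show c⁻¹ * a = d * b⁻¹ by rw [eq_mul_inv_iff_mul_eq, mul_assoc, h', inv_mul_cancel_left]]
          exact hCD (mul_mem hd (inv_mem hb))
        rw [hDT, mem_bot, inv_mul_eq_one] at hm
        subst hm
        simp [mul_left_cancel h']
      have h4 : 2 * Nat.card C = Nat.card D := by
        rw [← hCi, ← relIndex_bot_left C, ← relIndex_bot_left D, mul_comm]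
        exact relIndex_mul_relIndex ⊥ C D bot_le hCD
      have h5 : Nat.card ↥(T ⊔ C) * (T ⊔ C).relIndex S = Nat.card S := by
        rw [← relIndex_bot_left (T ⊔ C), ← relIndex_bot_left S]
        exact relIndex_mul_relIndex ⊥ _ S bot_le hUS
      have h6 : (T ⊔ C).relIndex S ≠ 1 := fun h => hxU (relIndex_eq_one.1 h (hDS hxD))
      have h7 : (T ⊔ C).relIndex S ≤ 2 := by
        refine Nat.le_of_mul_le_mul_left ?_ (Nat.card_pos (α := ↥(T ⊔ C)))
        rw [h5, ← hTDc, ← h4, mul_left_comm, mul_comm _ 2]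
        exact Nat.mul_le_mul_left 2 h3
      have h8 : (T ⊔ C).relIndex S ≠ 0 := fun h => by
        rw [h, mul_zero] at h5
        exact (Nat.card_pos (α := S)).ne h5
      omega
    have hrelK : (T ⊔ C).relIndex (S ⊓ K) = 2 := by
      have h6 : (T ⊔ C).relIndex (S ⊓ K) ≠ 1 := fun h =>
        hxU (relIndex_eq_one.1 h (mem_inf.2 ⟨hDS hxD, hxK⟩))
      have h7 := relIndex_le_of_le_right (H := T ⊔ C) (inf_le_left : S ⊓ K ≤ S) (by rw [hrel]; norm_num)
      have h8 : (T ⊔ C).relIndex (S ⊓ K) ≠ 0 := index_ne_zero_of_finite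
      omega
    refine false_of_semiregular hKtop ((T ⊔ C).subgroupOf K) ⟨x, hxK⟩ 0 ((S ⊓ K).relIndex K)
      (Nat.odd_iff.2 (Nat.two_dvd_ne_zero.1 hSK)) ?_ (Subtype.ext ?_) fun y => ?_
    · change (T ⊔ C).relIndex K = _
      rw [← inf_relIndex_right, ← relIndex_mul_relIndex ((T ⊔ C) ⊓ K) (S ⊓ K) K
        (inf_le_inf_right K hUS) inf_le_right, ← inf_relIndex_right ((T ⊔ C) ⊓ K), inf_assoc,
        show K ⊓ (S ⊓ K) = S ⊓ K from inf_eq_right.2 inf_le_right, inf_relIndex_right, hrelK]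
      rfl
    · simpa [← ho] using pow_orderOf_eq_one x
    · intro h
      exact h1 x hxD hxC ho (y : G)⁻¹ (by simpa [mem_subgroupOf] using h)
  -- hence `D` meets `O^2(G)` trivially
  have hDK1 : D ⊓ K = ⊥ := by
    by_contra hne
    obtain ⟨i, hi⟩ := (hS2.to_le (inf_le_left.trans hDS : D ⊓ K ≤ S)).exists_card_eq
    rcases i with _ | i
    · exact hne (eq_bot_of_card_eq _ (by simpa using hi))
    have hcyc : IsCyclic ↥(D ⊓ K : Subgroup G) :=
      isCyclic_of_injective (Subgroup.inclusion hDK) (Subgroup.inclusion_injective hDK)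
    obtain ⟨⟨c, hc⟩, hgen⟩ := hcyc.exists_generator
    have hoc : orderOf c = 2 ^ (i + 1) := by
      rw [← hi, ← orderOf_eq_card_of_forall_mem_zpowers hgen, Subgroup.orderOf_mk]
    obtain ⟨hcD, hcK⟩ := mem_inf.1 hc
    have hcard : Nat.card ↥(S ⊓ K : Subgroup G) = Nat.card T * 2 ^ (i + 1) := by
      rw [← hi, ← Nat.card_prod]
      refine (Nat.card_eq_of_bijective (fun td : ↥T × ↥(D ⊓ K : Subgroup G) =>
        (⟨td.1 * td.2, mem_inf.2 ⟨mul_mem (hTS td.1.2) (hDS (mem_inf.1 td.2.2).1),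
          mul_mem (hTK td.1.2) (mem_inf.1 td.2.2).2⟩⟩ : ↥(S ⊓ K : Subgroup G))) ⟨?_, ?_⟩).symm
      · rintro ⟨⟨a, ha⟩, ⟨b, hb⟩⟩ ⟨⟨c', hc'⟩, ⟨d, hd⟩⟩ h
        have h' : a * b = c' * d := congrArg Subtype.val h
        have hm : c'⁻¹ * a ∈ D ⊓ T := by
          refine mem_inf.2 ⟨?_, mul_mem (inv_mem hc') ha⟩
          rw [show c'⁻¹ * a = d * b⁻¹ by rw [eq_mul_inv_iff_mul_eq, mul_assoc, h', inv_mul_cancel_left]]
          exact mul_mem (mem_inf.1 hd).1 (inv_mem (mem_inf.1 hb).1)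
        rw [hDT, mem_bot, inv_mul_eq_one] at hm
        subst hm
        simp [mul_left_cancel h']
      · rintro ⟨s, hs⟩
        obtain ⟨hsS, hsK⟩ := mem_inf.1 hs
        obtain ⟨t, ht, d, hd, e⟩ := hprod s hsS
        have hdK : d ∈ K := by
          rw [show d = t⁻¹ * s by rw [← e]; group]
          exact mul_mem (inv_mem (hTK ht)) hsK
        exact ⟨(⟨t, ht⟩, ⟨d, mem_inf.2 ⟨hd, hdK⟩⟩), Subtype.ext e⟩
    have hrelT : T.relIndex K = 2 ^ (i + 1) * (S ⊓ K).relIndex K := by
      have h := relIndex_mul_relIndex ⊥ T (S ⊓ K) bot_le (le_inf hTS hTK)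
      rw [relIndex_bot_left, relIndex_bot_left, hcard] at h
      rw [← relIndex_mul_relIndex T (S ⊓ K) K (le_inf hTS hTK) inf_le_right,
        Nat.eq_of_mul_eq_mul_left Nat.card_pos h]
    refine false_of_semiregular hKtop (T.subgroupOf K) ⟨c, hcK⟩ i ((S ⊓ K).relIndex K)
      (Nat.odd_iff.2 (Nat.two_dvd_ne_zero.1 hSK)) hrelT (Subtype.ext ?_) fun y => ?_
    · simpa [← hoc] using pow_orderOf_eq_one c
    · intro h
      refine h2 (c ^ 2 ^ i) (pow_mem (hDK hc) _) ?_ (y : G)⁻¹ (by simpa [mem_subgroupOf] using h)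
      rw [orderOf_pow_of_dvd (by positivity) (hoc ▸ pow_dvd_pow 2 i.le_succ), hoc, pow_succ,
        Nat.mul_div_cancel_left _ (by positivity)]
  have hSKT : S ⊓ K = T := by
    refine le_antisymm (fun s hs => ?_) (le_inf hTS hTK)
    obtain ⟨hsS, hsK⟩ := mem_inf.1 hs
    obtain ⟨t, ht, d, hd, e⟩ := hprod s hsS
    have hdK : d ∈ D ⊓ K := mem_inf.2 ⟨hd, by
      rw [show d = t⁻¹ * s by rw [← e]; group]
      exact mul_mem (inv_mem (hTK ht)) hsK⟩
    rw [hDK1, mem_bot] at hdK
    rw [← e, hdK, mul_one]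
    exact ht
  refine ⟨K, hKn, ?_, fun T' hT'L hT'2 hT'i => ⟨hT'L.trans hLK, fun hdvd => hSK ?_⟩⟩
  · have h := sylow_sup_pResidual P
    rw [hPS, ← hTD] at h
    refine top_le_iff.1 (h.ge.trans ?_)
    exact sup_le (sup_le (hTK.trans le_sup_left) le_sup_right) le_sup_left
  · rw [hSKT]
    have hc := card_eq_of_odd_relIndex hT'L hTL hT'2 hT2 hT'i hTsyl
    have e1 := relIndex_mul_relIndex ⊥ T' K bot_le (hT'L.trans hLK)
    have e2 := relIndex_mul_relIndex ⊥ T K bot_le hTK
    simp only [relIndex_bot_left, hc] at e1 e2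
    rwa [Nat.eq_of_mul_eq_mul_left Nat.card_pos (e2.trans e1.symm)]

end Cfsg.Agent.S1924
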