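import Cfsg.Statements.S3946
-- import your own Cfsg.Agent.* helpers here

import Cfsg.Agent.Lib.Structure.HughesThompson

set_option autoImplicit false
open Cfsg

namespace Cfsg.Agent.S3946

/-- Call an automorphism α of order n of a group G splitting when x · α(x) · α²(x) ⋯ α^(n−1)(x) = 1 for every x ∈ G. A finite group admitting a splitting automorphism of prime order is nilpotent (this contains the case of a fixed-point-free automorphism of prime order). -/
theorem result {G : Type*} [Group G] [Finite G] (α : MulAut G) (hp : (orderOf α).Prime)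
    (hsplit : ∀ x : G, (((List.range (orderOf α)).map (fun i : ℕ => (α ^ i) x)).prod = 1)) : Group.IsNilpotent G := by
  classical
  set p := orderOf α with hpdef
  have : Fact p.Prime := ⟨hp⟩
  let φ : Multiplicative (ZMod p) →* MulAut G :=
    AddMonoidHom.toMultiplicativeLeft (ZMod.lift p
      ⟨(zmultiplesHom (Additive (MulAut G))) (Additive.ofMul α), by
        simp [← ofMul_pow, hpdef, pow_orderOf_eq_one]⟩)
  have hφ : ∀ k : ℕ, φ (Multiplicative.ofAdd (k : ZMod p)) = α ^ k := by
    intro k
    show Additive.toMul (ZMod.lift p _ ((k : ℕ) : ZMod p)) = _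
    rw [show ((k : ℕ) : ZMod p) = (((k : ℤ)) : ZMod p) by push_cast; rfl, ZMod.lift_coe]
    simp [zmultiplesHom_apply, toMul_zsmul, zpow_natCast]
  let E := G ⋊[φ] Multiplicative (ZMod p)
  have hfin : Finite E := Finite.of_equiv _ SemidirectProduct.equivProd.symm
  set H : Subgroup E := (SemidirectProduct.rightHom (φ := φ)).ker with hH
  have hidx : H.index = p := by
    rw [hH, Subgroup.index_ker,
      MonoidHom.range_eq_top_of_surjective _ SemidirectProduct.rightHom_surjective, Subgroup.card_top,
      Nat.card_congr Multiplicative.toAdd, Nat.card_zmod]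
  -- powers of `x α`
  let c : Multiplicative (ZMod p) := Multiplicative.ofAdd 1
  have hc1 : φ c = α := by
    have h := hφ 1
    rwa [Nat.cast_one, pow_one] at h
  have hpow : ∀ (x : G) (n : ℕ), (⟨x, c⟩ : E) ^ n =
      ⟨((List.range n).map (fun i => (α ^ i) x)).prod, c ^ n⟩ := by
    intro x n
    induction n with
    | zero => rw [pow_zero]; apply SemidirectProduct.ext <;> simp
    | succ n ih =>
      rw [pow_succ, ih]
      apply SemidirectProduct.ext
      · rw [SemidirectProduct.mul_left, List.range_succ, List.map_append, List.prod_append]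
        simp only [List.map_cons, List.map_nil, List.prod_cons, List.prod_nil, mul_one]
        rw [map_pow, hc1]
      · rw [SemidirectProduct.mul_right, pow_succ]
  have hcp : c ^ p = 1 := by
    rw [← ofAdd_nsmul]
    simp
  have hout1 : ∀ g : E, g.right = c → g ^ p = 1 := by
    intro g hg
    have hgx : g = ⟨g.left, c⟩ := SemidirectProduct.ext rfl hg
    rw [hgx, hpow, hsplit g.left, hcp]
    rfl
  have hout : ∀ g : E, g ∉ H → g ^ p = 1 := by
    intro g hg
    set i : ZMod p := g.right.toAdd with hi
    have hi0 : i ≠ 0 := fun h => hg (MonoidHom.mem_ker.2 (Multiplicative.toAdd.injective h))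
    set k : ℕ := (i⁻¹ : ZMod p).val with hk
    have hk1 : ∀ j : ℕ, (g ^ (k + j * p)).right = c := by
      intro j
      have h1 : (g ^ (k + j * p)).right = g.right ^ (k + j * p) :=
        map_pow (SemidirectProduct.rightHom (φ := φ)) g _
      rw [h1]
      apply Multiplicative.toAdd.injective
      rw [toAdd_pow, nsmul_eq_mul, ← hi]
      push_cast
      rw [hk, ZMod.natCast_zmod_val, ZMod.natCast_self, mul_zero, add_zero, inv_mul_cancel₀ hi0]
      rfl
    have h0 := hout1 _ (hk1 0)
    have h1 := hout1 _ (hk1 1)
    rw [zero_mul, add_zero, ← pow_mul] at h0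
    rw [one_mul, ← pow_mul, add_mul, pow_add, h0, one_mul] at h1
    rw [← orderOf_dvd_iff_pow_eq_one] at h0 h1 ⊢
    have hcop : Nat.Coprime k p := by
      refine (hp.coprime_iff_not_dvd.2 fun h => ?_).symm
      have h2 : (k : ZMod p) = 0 := (ZMod.natCast_eq_zero_iff _ _).2 h
      rw [hk, ZMod.natCast_zmod_val] at h2
      exact inv_ne_zero hi0 h2
    have h2 := Nat.dvd_gcd h0 h1
    rwa [Nat.gcd_mul_right, Nat.Coprime.gcd_eq_one hcop, one_mul] at h2
  have hHn := CfsgLib.HughesThompson.isNilpotent_of_index_prime (Nat.card E) E le_rfl H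
    inferInstance hidx hout
  let f : G →* H := (SemidirectProduct.inl (φ := φ)).codRestrict H fun x => by
    simp [hH]
  exact CfsgLib.HughesThompson.isNilpotent_of_injective_hom f fun a b h =>
    SemidirectProduct.inl_injective (congrArg Subtype.val h)
end Cfsg.Agent.S3946
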