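import Cfsg.Statements.S4702
import Cfsg.Agent.S0727
import Cfsg.Agent.Lib.PermSmall.Kernel
import Cfsg.Agent.Lib.PermGroup.Basic
import Mathlib.LinearAlgebra.Matrix.GeneralLinearGroup.Defs

set_option autoImplicit false
open Cfsg

namespace Cfsg.Agent.S4702

/-- Let G be a triply transitive permutation group on a finite set of odd size m ≥ 3 in which only the identity fixes three or more points. Then m = 2^a + 1 for some a ≥ 1 and G is isomorphic to SL(2, 2^a). -/
theorem result {α : Type*} [Fintype α] [DecidableEq α] (hm : 3 ≤ Fintype.card α) (hodd : Odd (Fintype.card α)) (G : Subgroup (Equiv.Perm α)) (h3 : MulAction.IsMultiplyPretransitive G α 3) (hfix : ∀ g : G, 3 ≤ Nat.card (MulAction.fixedBy α g) → g = 1) : ∃ a : ℕ, 1 ≤ a ∧ Fintype.card α = 2 ^ a + 1 ∧ ∃ (F : Type) (_ : Field F) (_ : Fintype F), Fintype.card F = 2 ^ a ∧ Nonempty (G ≃* Matrix.SpecialLinearGroup (Fin 2) F) := by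
  classical
  have hthree : ∀ g : G, ∀ x y z : α, x ≠ y → y ≠ z → x ≠ z → g • x = x → g • y = y → g • z = z →
      g = 1 := by
    intro g x y z hxy hyz hxz hx hy hz
    refine hfix g ?_
    rw [Nat.card_coe_set_eq]
    have hsub : (({x, y, z} : Finset α) : Set α) ⊆ MulAction.fixedBy α g := by
      intro w hw
      simp only [Finset.coe_insert, Finset.coe_singleton, Set.mem_insert_iff,
        Set.mem_singleton_iff] at hw
      rcases hw with rfl | rfl | rfl <;> assumption
    have := Set.ncard_le_ncard hsub (Set.toFinite _)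
    rw [Set.ncard_coe_finset] at this
    simpa [hxy, hyz, hxz] using this
  have hsharp : ∀ x : Fin 3 ↪ α, MulAction.stabilizer G x = ⊥ := by
    intro x
    rw [Subgroup.eq_bot_iff_forall]
    intro g hg
    have h : ∀ i, g • x i = x i := fun i => DFunLike.congr_fun hg i
    exact hthree g (x 0) (x 1) (x 2) (fun e => by simpa using x.injective e)
      (fun e => by simpa using x.injective e) (fun e => by simpa using x.injective e) (h 0) (h 1) (h 2)
  obtain ⟨a, b, hab⟩ := Fintype.exists_pair_of_one_lt_card (α := α) (by omega)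
  obtain ⟨htr, hd, F, hFle, hFn, hFc, -, hreg⟩ :=
    CfsgLib.PermSmall.Kernel.sharplyThree (G := G) h3 hthree hm hab
  -- the kernel is elementary abelian, so the degree is a power of two plus one
  have hFcard : Nat.card F = Fintype.card α - 1 :=
    CfsgLib.PermSmall.Kernel.card_regular hab hFle hreg
  have hFne : F ≠ ⊥ := fun e => by rw [e, Subgroup.card_bot] at hFcard; omega
  have hconj : ∀ u ∈ F, ∀ v ∈ F, u ≠ 1 → v ≠ 1 → ∃ g ∈ Subgroup.normalizer (F : Set G),
      g * u * g⁻¹ = v := by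
    intro u hu v hv hu1 hv1
    obtain ⟨h1, h2⟩ := CfsgLib.PermSmall.Kernel.regular_ne hab hFle hreg hu hu1
    obtain ⟨h3', h4⟩ := CfsgLib.PermSmall.Kernel.regular_ne hab hFle hreg hv hv1
    obtain ⟨h, hh, he⟩ := htr _ _ h1 h2 h3' h4
    have hnorm : ∀ w ∈ F, h * w * h⁻¹ ∈ F := fun w hw =>
      hFn.conj_mem ⟨w, hFle hw⟩ hw ⟨h, hh.1⟩
    have hnorm' : ∀ w ∈ F, h⁻¹ * w * h⁻¹⁻¹ ∈ F := fun w hw =>
      hFn.conj_mem ⟨w, hFle hw⟩ hw ⟨h⁻¹, inv_mem hh.1⟩
    refine ⟨h, Subgroup.mem_normalizer_iff.mpr fun w => ⟨hnorm w, fun hw => ?_⟩, ?_⟩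
    · have := hnorm' _ hw
      rwa [show h⁻¹ * (h * w * h⁻¹) * h⁻¹⁻¹ = w by group] at this
    · refine CfsgLib.PermSmall.Kernel.regular_inj hab hFle hreg (hnorm u hu) hv ?_
      rw [mul_smul, mul_smul, inv_smul_eq_iff.mpr hh.2.symm, he]
  obtain ⟨-, p, hp, hpow⟩ := CfsgLib.PermGroup.elementary_abelian_of_conj F hconj hFne
  have := Fact.mk hp
  obtain ⟨j, hj⟩ := IsPGroup.iff_card.mp
    (show IsPGroup p F from fun u => ⟨1, by rw [pow_one]; exact Subtype.ext (by simpa using hpow u u.2)⟩)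
  rw [hFcard] at hj
  have h2 : 2 ∣ p ^ j := by rw [← hj]; obtain ⟨r, hr⟩ := hodd; exact ⟨r, by omega⟩
  obtain rfl : 2 = p := (Nat.prime_dvd_prime_iff_eq Nat.prime_two hp).mp (Nat.prime_two.dvd_of_dvd_pow h2)
  have hj1 : 1 ≤ j := by
    rcases Nat.eq_zero_or_pos j with h | h
    · rw [h, pow_zero] at hj; omega
    · exact h
  have hα : Fintype.card α = 2 ^ j + 1 := by omega
  obtain ⟨K, iF, iT, hK, ⟨e⟩⟩ := Cfsg.Agent.S0727.result hj1 hα G h3 hsharp
  refine ⟨j, hj1, hα, K, iF, iT, hK, ⟨e.trans ?_⟩⟩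
  -- `PGL = SL` in characteristic two
  have hchar : CharP K 2 := by
    refine (CharP.charP_iff_prime_eq_zero Nat.prime_two).mpr ?_
    have : ((Fintype.card K : ℕ) : K) = 0 := Nat.cast_card_eq_zero K
    rw [hK, Nat.cast_pow] at this
    exact eq_zero_of_pow_eq_zero this
  let φ : Matrix.SpecialLinearGroup (Fin 2) K →* Matrix.ProjGenLinGroup (Fin 2) K :=
    (QuotientGroup.mk' (Subgroup.center _)).comp Matrix.SpecialLinearGroup.toGL
  refine (MulEquiv.ofBijective φ ⟨?_, ?_⟩).symm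
  · rw [injective_iff_map_eq_one]
    intro s hs
    have hc : Matrix.SpecialLinearGroup.toGL s ∈ Subgroup.center (GL (Fin 2) K) :=
      (QuotientGroup.eq_one_iff _).mp hs
    rw [Matrix.GeneralLinearGroup.center_eq_range_scalar] at hc
    obtain ⟨c, hc⟩ := hc
    have hval : (s : Matrix (Fin 2) (Fin 2) K) = Matrix.scalar (Fin 2) (c : K) := by
      have := congrArg Units.val hc
      simpa using this.symm
    have hdet := s.2
    rw [hval] at hdet
    simp [Matrix.det_diagonal] at hdet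
    have hc1 : (c : K) = 1 := by
      rcases hdet with h | h
      · simp [h]
      · simp [h, CharTwo.neg_eq]
    apply Subtype.ext
    rw [hval, hc1]
    simp
  · intro x
    obtain ⟨g, rfl⟩ := QuotientGroup.mk'_surjective _ x
    obtain ⟨r, hr⟩ : ∃ r : K, r ^ 2 = (Matrix.GeneralLinearGroup.det g : K) :=
      (Finite.injective_iff_surjective.mp (frobenius_inj K 2)) _
    have hr0 : r ≠ 0 := fun e0 => by
      rw [e0, zero_pow two_ne_zero] at hr
      exact (Matrix.GeneralLinearGroup.det g).ne_zero hr.symm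
    have hdet : (r⁻¹ • (g : Matrix (Fin 2) (Fin 2) K)).det = 1 := by
      rw [Matrix.det_smul, Fintype.card_fin, ← Matrix.GeneralLinearGroup.val_det_apply, ← hr,
        inv_pow, inv_mul_cancel₀ (pow_ne_zero 2 hr0)]
    refine ⟨⟨_, hdet⟩, ?_⟩
    apply QuotientGroup.eq_iff_div_mem.mpr
    rw [Matrix.GeneralLinearGroup.center_eq_range_scalar]
    refine ⟨(Units.mk0 r hr0)⁻¹, ?_⟩
    rw [eq_div_iff_mul_eq']
    apply Units.ext
    change Matrix.scalar (Fin 2) (r⁻¹ : K) * (g : Matrix (Fin 2) (Fin 2) K) = r⁻¹ • (g : Matrix (Fin 2) (Fin 2) K)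
    rw [Matrix.scalar_apply, ← Matrix.smul_one_eq_diagonal, smul_mul_assoc, one_mul]

end Cfsg.Agent.S4702
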