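import Cfsg.Statements.S3745
import Cfsg.Agent.Lib.Coprime.Action
import Cfsg.Agent.Lib.Hall.Pi
import Cfsg.Agent.Lib.Solvable.Fitting
import Cfsg.Agent.Lib.Structure.Subnormal

set_option autoImplicit false
open Cfsg

namespace Cfsg.Agent.S3745

open Subgroup
open scoped Pointwise

universe u

variable {X : Type u} [Group X] [Finite X]

theorem isPiHall_subgroupOf {π : Set ℕ} {H G : Subgroup X} (h : Cfsg.IsPiHallOf π H G) :
    Cfsg.IsPiHall π (H.subgroupOf G) :=
  ⟨by rw [CfsgLib.Coprime.card_subgroupOf h.1]; exact h.2.1, h.2.2⟩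

theorem isPiHallOf_conj {π : Set ℕ} {H G : Subgroup X} (h : Cfsg.IsPiHallOf π H G) {g : X}
    (hg : g ∈ normalizer (G : Set X)) : Cfsg.IsPiHallOf π (H.map (MulAut.conj g).toMonoidHom) G := by
  have hG : G.map (MulAut.conj g).toMonoidHom = G := mem_normalizer_iff_map_conj_eq.mp hg
  refine ⟨hG ▸ map_mono h.1, ?_, ?_⟩
  · rw [CfsgLib.Structure.card_map_conj]; exact h.2.1
  · have := relIndex_map_map_of_injective H G (MulAut.conj g).injective (f := (MulAut.conj g).toMonoidHom)
    rw [hG] at this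
    rw [this]; exact h.2.2

theorem exists_invariant (A G : Subgroup X) (hAG : A ≤ normalizer (G : Set X))
    (hcop : (Nat.card A).Coprime (Nat.card G)) (hsolv : Group.IsSolvable G) (π : Set ℕ) :
    ∃ H : Subgroup X, Cfsg.IsPiHallOf π H G ∧ A ≤ normalizer (H : Set X) := by
  haveI := hsolv
  obtain ⟨H₀, hH₀⟩ := CfsgLib.Hall.exists_isPiHall (G := G) π
  set H := H₀.map G.subtype with hH
  have hHs : H.subgroupOf G = H₀ := comap_map_eq_self_of_injective G.subtype_injective H₀
  have hHG : Cfsg.IsPiHallOf π H G := by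
    refine ⟨map_subtype_le _, ?_, ?_⟩
    · rw [hH, Subgroup.card_subtype]; exact hH₀.1
    · show ∀ p : ℕ, p.Prime → p ∈ π → ¬ p ∣ (H.subgroupOf G).index
      rw [hHs]; exact hH₀.2
  have key : ∀ a ∈ A, ∃ k ∈ G, k⁻¹ * a ∈ normalizer (H : Set X) := by
    intro a ha
    have hK := isPiHallOf_conj hHG (hAG ha)
    obtain ⟨k, hk⟩ := CfsgLib.Hall.isPiHall_conj (isPiHall_subgroupOf hK) (isPiHall_subgroupOf hHG)
    refine ⟨(k : X)⁻¹, inv_mem k.2, ?_⟩
    rw [inv_inv]
    refine CfsgLib.Coprime.mem_normalizer_of_forall_conj fun y hy => ?_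
    have h2 : a * y * a⁻¹ ∈ H.map (MulAut.conj a).toMonoidHom := mem_map_of_mem _ hy
    have h3 := CfsgLib.Coprime.conj_smul_le.1 hk.le ⟨a * y * a⁻¹, hK.1 h2⟩ h2
    rw [mem_subgroupOf] at h3
    simpa [mul_assoc] using h3
  obtain ⟨x, hx, hS⟩ := CfsgLib.Coprime.exists_conj_mem_of_forall_mul A G hAG hcop (Or.inr hsolv)
    (normalizer (H : Set X)) key
  refine ⟨H.map (MulAut.conj x⁻¹).toMonoidHom, isPiHallOf_conj hHG (le_normalizer (inv_mem hx)), ?_⟩
  intro a ha
  have h1 : x⁻¹ * (x * a * x⁻¹) * x⁻¹⁻¹ ∈ (normalizer (H : Set X)).map (MulAut.conj x⁻¹).toMonoidHom :=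
    mem_map_of_mem _ (hS a ha)
  have h2 := le_normalizer_map _ h1
  simpa [mul_assoc] using h2

theorem invariant_conj (A G : Subgroup X) (hAG : A ≤ normalizer (G : Set X))
    (hcop : (Nat.card A).Coprime (Nat.card G)) (hsolv : Group.IsSolvable G) (π : Set ℕ)
    (H₁ H₂ : Subgroup X) (h₁ : Cfsg.IsPiHallOf π H₁ G) (hA₁ : A ≤ normalizer (H₁ : Set X))
    (h₂ : Cfsg.IsPiHallOf π H₂ G) (hA₂ : A ≤ normalizer (H₂ : Set X)) :
    ∃ c ∈ G ⊓ centralizer (A : Set X), H₂ = H₁.map (MulAut.conj c).toMonoidHom := by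
  haveI := hsolv
  obtain ⟨k, hk⟩ := CfsgLib.Hall.isPiHall_conj (isPiHall_subgroupOf h₁) (isPiHall_subgroupOf h₂)
  have hcard : Nat.card H₂ = Nat.card H₁ := by
    rw [← CfsgLib.Coprime.card_subgroupOf h₂.1, ← CfsgLib.Coprime.card_subgroupOf h₁.1, ← hk,
      CfsgLib.Coprime.card_conj_smul]
  have he : H₁.map (MulAut.conj (k : X)).toMonoidHom = H₂ := by
    refine eq_of_le_of_card_ge ?_ ?_
    · rintro _ ⟨y, hy, rfl⟩
      have h := CfsgLib.Coprime.conj_smul_le.1 hk.le ⟨y, h₁.1 hy⟩ hy
      simpa [mem_subgroupOf] using h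
    · rw [CfsgLib.Structure.card_map_conj, hcard]
  obtain ⟨c, hc, hS⟩ := CfsgLib.Coprime.exists_centralizing_mul_mem A G hAG hcop (Or.inr hsolv)
    (normalizer (H₁ : Set X)) hA₁ k.2 fun a ha => by
      have h2 : (k : X)⁻¹ * a * (k : X)⁻¹⁻¹ ∈ (normalizer (H₂ : Set X)).map (MulAut.conj (k : X)⁻¹).toMonoidHom :=
        mem_map_of_mem _ (hA₂ ha)
      have h3 := le_normalizer_map _ h2
      rw [← he, Subgroup.map_map] at h3
      have hid : (MulAut.conj (k : X)⁻¹).toMonoidHom.comp (MulAut.conj (k : X)).toMonoidHom = MonoidHom.id X := by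
        ext y; simp [mul_assoc]
      rw [hid, Subgroup.map_id] at h3
      simpa using h3
  refine ⟨c, hc, ?_⟩
  have hS' : H₁.map (MulAut.conj ((k : X)⁻¹ * c)).toMonoidHom = H₁ := mem_normalizer_iff_map_conj_eq.mp hS
  rw [← he]
  conv_lhs => rw [← hS', Subgroup.map_map]
  congr 1
  ext y
  simp [mul_assoc]

omit [Finite X] in
theorem invariant_dominating : ∀ (n : ℕ) {X : Type u} [Group X] [Finite X] (A G : Subgroup X),
    Nat.card G ≤ n → A ≤ normalizer (G : Set X) → (Nat.card A).Coprime (Nat.card G) → Group.IsSolvable G →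
    ∀ (π : Set ℕ) (U : Subgroup X), U ≤ G → A ≤ normalizer (U : Set X) →
      (∀ p : ℕ, p.Prime → p ∣ Nat.card U → p ∈ π) →
      ∃ H : Subgroup X, Cfsg.IsPiHallOf π H G ∧ A ≤ normalizer (H : Set X) ∧ U ≤ H := by
  intro n
  induction n with
  | zero => intro X _ _ A G hn; exact absurd hn (by have := Nat.card_pos (α := G); omega)
  | succ n ih =>
    intro X _ _ A G hn hAG hcop hsolv π U hUG hAU hU
    rcases eq_or_ne G ⊥ with rfl | hGne
    · obtain rfl : U = ⊥ := le_bot_iff.mp hUG
      refine ⟨⊥, ⟨le_rfl, hU, fun p hp _ => ?_⟩, hAU, le_rfl⟩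
      rw [relIndex_self]; exact hp.not_dvd_one
    haveI := hsolv
    haveI : Nontrivial G := G.nontrivial_iff_ne_bot.mpr hGne
    obtain ⟨p, hp, -, hpc⟩ := CfsgLib.Fitting.exists_pCore_ne_bot (G := G)
    haveI := Fact.mk hp
    haveI := CfsgLib.Fitting.pCore_characteristic (G := G) p
    set N := (Cfsg.pCore p G).map G.subtype with hN
    have hNG : N ≤ G := map_subtype_le _
    have hNp : IsPGroup p N := (CfsgLib.Fitting.pCore_isPGroup p).map _
    have hNne : N ≠ ⊥ := fun h => hpc ((map_eq_bot_iff_of_injective _ G.subtype_injective).mp h)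
    set M : Subgroup X := normalizer (N : Set X) with hM
    have hGM' : normalizer (G : Set X) ≤ M := CfsgLib.Structure.normalizer_le_normalizer_map_subtype G _
    have hGM : G ≤ M := le_normalizer.trans hGM'
    have hAM : A ≤ M := hAG.trans hGM'
    haveI : (N.subgroupOf M).Normal := (normal_subgroupOf_iff_le_normalizer le_normalizer).mpr le_rfl
    set f := QuotientGroup.mk' (N.subgroupOf M) with hf
    have hcardG : Nat.card ((G.subgroupOf M).map f) * Nat.card N = Nat.card G := by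
      have h := CfsgLib.Coprime.card_map_mul_inf_ker f (G.subgroupOf M)
      rw [hf, QuotientGroup.ker_mk', inf_eq_left.mpr (show N.subgroupOf M ≤ G.subgroupOf M from comap_mono hNG)] at h
      rwa [CfsgLib.Coprime.card_subgroupOf (hNG.trans hGM), CfsgLib.Coprime.card_subgroupOf hGM] at h
    have hGlt : Nat.card ((G.subgroupOf M).map f) ≤ n := by
      have h1 := N.one_lt_card_iff_ne_bot.mpr hNne
      have h2 : Nat.card ((G.subgroupOf M).map f) < Nat.card G :=
        hcardG ▸ lt_mul_of_one_lt_right Nat.card_pos h1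
      omega
    have hnorm : ∀ B : Subgroup X, A ≤ normalizer (B : Set X) →
        (A.subgroupOf M).map f ≤ normalizer (((B.subgroupOf M).map f : Subgroup _) : Set _) := fun B hB =>
      (map_mono ((comap_mono hB).trans (le_normalizer_comap M.subtype))).trans (le_normalizer_map _)
    haveI : Group.IsSolvable ((G.subgroupOf M).map f) := by
      haveI : Group.IsSolvable (G.subgroupOf M) :=
        Group.isSolvable_of_isSolvable_injective (f := (subgroupOfEquivOfLe hGM).toMonoidHom)
          (subgroupOfEquivOfLe hGM).injective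
      exact Group.isSolvable_of_surjective (MonoidHom.subgroupMap_surjective f _)
    obtain ⟨H', hH', hAH', hUH'⟩ := ih ((A.subgroupOf M).map f) ((G.subgroupOf M).map f) hGlt
      (hnorm G hAG)
      ((hcop.coprime_dvd_left ((card_map_dvd _ f).trans (CfsgLib.Coprime.card_subgroupOf hAM).dvd)).coprime_dvd_right
        ((card_map_dvd _ f).trans (CfsgLib.Coprime.card_subgroupOf hGM).dvd))
      inferInstance π ((U.subgroupOf M).map f) (map_mono (comap_mono hUG)) (hnorm U hAU)
      (fun q hq hd => hU q hq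
        (hd.trans ((card_map_dvd _ f).trans (CfsgLib.Coprime.card_subgroupOf (hUG.trans hGM)).dvd)))
    set L := (H'.comap f).map M.subtype with hL
    have hLM : L ≤ M := map_subtype_le _
    have hLs : L.subgroupOf M = H'.comap f := comap_map_eq_self_of_injective M.subtype_injective _
    have hLG : L ≤ G := by
      refine (map_mono (comap_mono hH'.1)).trans (le_of_eq ?_)
      rw [comap_map_eq, hf, QuotientGroup.ker_mk', sup_eq_left.mpr (show N.subgroupOf M ≤ G.subgroupOf M from comap_mono hNG), map_subgroupOf_eq_of_le hGM]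
    have hNL : N ≤ L := by
      intro x hx
      refine ⟨⟨x, le_normalizer hx⟩, ?_, rfl⟩
      show f ⟨x, le_normalizer hx⟩ ∈ H'
      have h1 : f ⟨x, le_normalizer hx⟩ = 1 :=
        (QuotientGroup.eq_one_iff (N := N.subgroupOf M) _).mpr hx
      rw [h1]
      exact one_mem H'
    have hUL : U ≤ L := fun x hx =>
      ⟨⟨x, hGM (hUG hx)⟩, hUH' (mem_map_of_mem f hx), rfl⟩
    have hAL : A ≤ normalizer (L : Set X) := by
      have h := map_mono (f := M.subtype) ((map_le_iff_le_comap.1 hAH').trans (le_normalizer_comap f))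
      rw [map_subgroupOf_eq_of_le hAM] at h
      exact h.trans (le_normalizer_map _)
    have hrel : L.relIndex G = H'.relIndex ((G.subgroupOf M).map f) := by
      rw [← relIndex_subgroupOf (H := L) hGM, hLs, relIndex_comap]
    have hLcard : Nat.card L = Nat.card H' * Nat.card N := by
      have h := CfsgLib.Coprime.card_map_mul_inf_ker f (H'.comap f)
      rw [map_comap_eq_self_of_surjective (QuotientGroup.mk'_surjective _), hf, QuotientGroup.ker_mk',
        inf_eq_left.mpr (by rw [← hLs]; exact comap_mono hNL), CfsgLib.Coprime.card_subgroupOf le_normalizer] at h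
      rw [hL, Subgroup.card_subtype, ← h]
    have hidx : ∀ q : ℕ, q.Prime → q ∈ π → ¬ q ∣ L.relIndex G := hrel ▸ hH'.2.2
    by_cases hpπ : p ∈ π
    · refine ⟨L, ⟨hLG, fun q hq hd => ?_, hidx⟩, hAL, hUL⟩
      rw [hLcard] at hd
      rcases hq.dvd_mul.mp hd with h | h
      · exact hH'.2.1 q hq h
      · obtain ⟨j, hj⟩ := IsPGroup.iff_card.mp hNp
        rw [hj] at h
        rwa [(Nat.prime_dvd_prime_iff_eq hq hp).mp (hq.dvd_of_dvd_pow h)]
    by_cases hlt : Nat.card L ≤ n
    · obtain ⟨H, hH, hAH, hUH⟩ := ih A L hlt hAL (hcop.coprime_dvd_right (card_dvd_of_le hLG))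
        (Group.isSolvable_of_isSolvable_injective (f := inclusion hLG) (inclusion_injective hLG)) π U hUL hAU hU
      refine ⟨H, ⟨hH.1.trans hLG, hH.2.1, fun q hq hqπ hd => ?_⟩, hAH, hUH⟩
      rw [← relIndex_mul_relIndex _ _ _ hH.1 hLG] at hd
      rcases hq.dvd_mul.mp hd with h | h
      · exact hH.2.2 q hq hqπ h
      · exact hidx q hq hqπ h
    have hLeq : L = G := eq_of_le_of_card_ge hLG (by omega)
    obtain ⟨H, hH, hAH⟩ := exists_invariant A G hAG hcop hsolv π
    have hNcop : (Nat.card H).Coprime (Nat.card N) := by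
      obtain ⟨j, hj⟩ := IsPGroup.iff_card.mp hNp
      rw [hj]
      exact Nat.Coprime.pow_right j ((hp.coprime_iff_not_dvd).mpr fun h => hpπ (hH.2.1 p hp h)).symm
    have hHn : H ≤ normalizer (N : Set X) := hH.1.trans hGM
    have hsup : H ⊔ N = G := by
      refine eq_of_le_of_card_ge (sup_le hH.1 hNG) ?_
      rw [CfsgLib.Coprime.card_sup_of_disjoint hHn (inf_eq_bot_of_coprime hNcop.symm), ← hLeq, hLcard]
      refine Nat.mul_le_mul_right _ (Nat.le_of_dvd Nat.card_pos ?_)
      refine (CfsgLib.Hall.coprime_of_pi hH'.2.1 hH.2.2).dvd_of_dvd_mul_right ?_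
      have h1 := relIndex_mul_relIndex (⊥ : Subgroup X) H G bot_le hH.1
      simp only [relIndex_bot_left] at h1
      rw [h1, ← hLeq, hLcard]
      exact dvd_mul_right _ _
    have hUcop : (Nat.card U).Coprime (Nat.card N) := by
      obtain ⟨j, hj⟩ := IsPGroup.iff_card.mp hNp
      rw [hj]
      exact Nat.Coprime.pow_right j ((hp.coprime_iff_not_dvd).mpr fun h => hpπ (hU p hp h)).symm
    obtain ⟨x, hx, hxU⟩ := CfsgLib.Coprime.exists_conj_le_of_coprime H N hHn hNcop U (hUG.trans hsup.ge) hUcop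
      (Or.inr (haveI := hNp.isNilpotent; inferInstance))
    set V := U ⊔ N with hV
    have hUn : U ≤ normalizer (N : Set X) := hUG.trans hGM
    have hW : MulAut.conj x • U = H ⊓ V := by
      refine le_antisymm (le_inf hxU (CfsgLib.Coprime.conj_smul_le.2 fun z hz => ?_)) ?_
      · exact mul_mem (mul_mem (mem_sup_right hx) (mem_sup_left hz)) (inv_mem (mem_sup_right hx))
      · rintro y ⟨hyH, hyV⟩
        obtain ⟨u, hu, b, hb, rfl⟩ := CfsgLib.Coprime.exists_mul_of_mem_sup hUn hyV
        have hw : x * u * x⁻¹ ∈ MulAut.conj x • U := CfsgLib.Coprime.conj_smul_le.1 le_rfl u hu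
        have hm : (x * u * x⁻¹)⁻¹ * (u * b) ∈ N := by
          have e : (x * u * x⁻¹)⁻¹ * (u * b) = x * (u⁻¹ * x⁻¹ * u⁻¹⁻¹) * b := by group
          rw [e]
          exact N.mul_mem (N.mul_mem hx (le_normalizer_iff.mp hUn u⁻¹ (inv_mem hu) _ (inv_mem hx))) hb
        have hone : (x * u * x⁻¹)⁻¹ * (u * b) = 1 := mem_bot.mp
          ((inf_eq_bot_of_coprime hNcop).le ⟨H.mul_mem (H.inv_mem (hxU hw)) hyH, hm⟩)
        rw [← inv_mul_eq_one.mp hone]
        exact hw
    have hAN : A ≤ normalizer (N : Set X) := hAM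
    have hAV : A ≤ normalizer (V : Set X) := CfsgLib.Structure.le_normalizer_sup_of_le hAU hAN
    have hAW : A ≤ normalizer ((MulAut.conj x • U : Subgroup X) : Set X) := by
      rw [hW]; exact (le_inf hAH hAV).trans inf_normalizer_le_normalizer_inf
    have hVG : V ≤ G := sup_le hUG hNG
    obtain ⟨c, hc, hS⟩ := CfsgLib.Coprime.exists_centralizing_mul_mem A V hAV
      (hcop.coprime_dvd_right (card_dvd_of_le hVG))
      (Or.inr (Group.isSolvable_of_isSolvable_injective (f := inclusion hVG) (inclusion_injective hVG)))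
      (normalizer (U : Set X)) hAU (mem_sup_right hx) fun a ha => by
        refine CfsgLib.Coprime.mem_normalizer_of_forall_conj fun y hy => ?_
        have hw : x * y * x⁻¹ ∈ MulAut.conj x • U := CfsgLib.Coprime.conj_smul_le.1 le_rfl y hy
        have hw2 := le_normalizer_iff.mp hAW a ha _ hw
        rw [CfsgLib.Coprime.mem_conj_smul] at hw2
        simpa [mul_assoc] using hw2
    refine ⟨H.map (MulAut.conj c⁻¹).toMonoidHom,
      isPiHallOf_conj hH (le_normalizer (inv_mem (hVG hc.1))), fun a ha => ?_, fun y hy => ?_⟩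
    · have hca : c⁻¹ * a * c⁻¹⁻¹ = a := by
        rw [mul_inv_eq_iff_eq_mul, mem_centralizer_iff.mp (inv_mem hc.2) a ha]
      have h1 : c⁻¹ * a * c⁻¹⁻¹ ∈ (normalizer (H : Set X)).map (MulAut.conj c⁻¹).toMonoidHom :=
        mem_map_of_mem _ (hAH ha)
      rw [hca] at h1
      exact le_normalizer_map _ h1
    · have hu : (x⁻¹ * c) * y * (x⁻¹ * c)⁻¹ ∈ U := (Subgroup.mem_normalizer_iff.mp hS y).mp hy
      have hw : x * ((x⁻¹ * c) * y * (x⁻¹ * c)⁻¹) * x⁻¹ ∈ H :=
        hxU (CfsgLib.Coprime.conj_smul_le.1 le_rfl _ hu)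
      refine ⟨_, hw, ?_⟩
      simp [mul_assoc]


/-- Coprime action on a solvable group and Hall subgroups. Let A and G be subgroups of a finite group with A normalizing G, the orders of A and G coprime, and G solvable, and let π be a set of primes. Then (a) G has an A-invariant Hall π-subgroup; (b) any two A-invariant Hall π-subgroups of G are conjugate by an element of C_G(A); (c) every A-invariant π-subgroup of G lies in an A-invariant Hall π-subgroup of G. -/
theorem result {X : Type*} [Group X] [Finite X] (A G : Subgroup X) (hAG : A ≤ Subgroup.normalizer (G : Set X)) (hcop : (Nat.card A).Coprime (Nat.card G)) (hsolv : Group.IsSolvable G) (π : Set ℕ) : (∃ H : Subgroup X, Cfsg.IsPiHallOf π H G ∧ A ≤ Subgroup.normalizer (H : Set X)) ∧ (∀ H₁ H₂ : Subgroup X, Cfsg.IsPiHallOf π H₁ G → A ≤ Subgroup.normalizer (H₁ : Set X) → Cfsg.IsPiHallOf π H₂ G → A ≤ Subgroup.normalizer (H₂ : Set X) → ∃ c ∈ G ⊓ Subgroup.centralizer (A : Set X), H₂ = H₁.map (MulAut.conj c).toMonoidHom)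 ∧ (∀ U : Subgroup X, U ≤ G → A ≤ Subgroup.normalizer (U : Set X) → (∀ p : ℕ, p.Prime → p ∣ Nat.card U → p ∈ π) → ∃ H : Subgroup X, Cfsg.IsPiHallOf π H G ∧ A ≤ Subgroup.normalizer (H : Set X) ∧ U ≤ H) := by
  exact ⟨exists_invariant A G hAG hcop hsolv π, invariant_conj A G hAG hcop hsolv π,
    fun U hUG hAU hU => invariant_dominating _ A G le_rfl hAG hcop hsolv π U hUG hAU hU⟩

end Cfsg.Agent.S3745
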