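import Cfsg.Statements.S0439

set_option autoImplicit false
open Cfsg

namespace Cfsg.Agent.S0439

/-- In the symmetric group of degree n ≥ 2, the set of transpositions is a conjugacy class of 3-transpositions which generates the group. -/
theorem result (n : ℕ) (hn : 2 ≤ n) : Cfsg.IsThreeTranspositionClass {σ : Equiv.Perm (Fin n) | σ.IsSwap} := by
  refine ⟨⟨fun σ hσ => hσ.orderOf, fun σ hσ τ hτ => ?_⟩, ?_, Equiv.Perm.closure_isSwap⟩
  · obtain ⟨a, b, hab, rfl⟩ := hσ
    obtain ⟨c, d, hcd, rfl⟩ := hτ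
    have key : ∀ {x y z : Fin n}, x ≠ y → x ≠ z →
        (Equiv.swap x y * Equiv.swap x z) ^ 2 = 1 ∨
          (Equiv.swap x y * Equiv.swap x z) ^ 3 = 1 := by
      intro x y z hxy hxz
      by_cases hyz : y = z
      · left; subst hyz; simp
      · right
        have := (Equiv.Perm.isThreeCycle_swap_mul_swap_same hxy hxz hyz).orderOf
        exact this ▸ pow_orderOf_eq_one _
    by_cases hac : a = c
    · subst hac; exact key hab hcd
    by_cases had : a = d
    · subst had; rw [Equiv.swap_comm c a]; exact key hab hcd.symm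
    by_cases hbc : b = c
    · subst hbc; rw [Equiv.swap_comm a b]; exact key hab.symm hcd
    by_cases hbd : b = d
    · subst hbd; rw [Equiv.swap_comm a b, Equiv.swap_comm c b]; exact key hab.symm hcd.symm
    left
    have hdisj : Equiv.Perm.Disjoint (Equiv.swap a b) (Equiv.swap c d) := by
      intro x
      by_cases hxa : x = a
      · right; subst hxa; exact Equiv.swap_apply_of_ne_of_ne hac had
      by_cases hxb : x = b
      · right; subst hxb; exact Equiv.swap_apply_of_ne_of_ne hbc hbd
      left; exact Equiv.swap_apply_of_ne_of_ne hxa hxb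
    rw [hdisj.commute.mul_pow, pow_two, pow_two, Equiv.swap_mul_self, Equiv.swap_mul_self, one_mul]
  · have h0 : (⟨0, by omega⟩ : Fin n) ≠ ⟨1, by omega⟩ := by simp [Fin.ext_iff]
    refine ⟨Equiv.swap ⟨0, by omega⟩ ⟨1, by omega⟩, ⟨_, _, h0, rfl⟩, ?_⟩
    ext σ
    show σ.IsSwap ↔ IsConj _ σ
    rw [Equiv.Perm.isConj_iff_cycleType_eq,
      Equiv.Perm.isSwap_iff_cycleType.mp ⟨_, _, h0, rfl⟩, Equiv.Perm.isSwap_iff_cycleType]
    exact eq_comm

end Cfsg.Agent.S0439
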