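import Cfsg.Statements.S4179
import Cfsg.Agent.Lib.SingerOver.Main

set_option autoImplicit false
open Cfsg

namespace Cfsg.Agent.S4179

open CfsgLib.SingerOver Module in
theorem top_trans {V : Type*} [AddCommGroup V] [Module (ZMod 2) V] (v w : V) (hv : v ≠ 0) (hw : w ≠ 0) :
    ∃ g : V ≃ₗ[ZMod 2] V, g v = w := by
  obtain ⟨f1, h1⟩ := exists_fun_one hv
  obtain ⟨f2, h2⟩ := exists_fun_one hw
  obtain ⟨f, hfv, hfw⟩ : ∃ f : Dual (ZMod 2) V, f v = 1 ∧ f w = 1 := by
    rcases f2_cases (f1 w) with a | a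
    · rcases f2_cases (f2 v) with b | b
      · exact ⟨f1 + f2, by simp [h1, b], by simp [h2, a]⟩
      · exact ⟨f2, b, h2⟩
    · exact ⟨f1, h1, a⟩
  let T : V →ₗ[ZMod 2] V := LinearMap.id + f.smulRight (v + w)
  have hT : ∀ u, T u = u + f u • (v + w) := fun u => by simp [T]
  have hinv : Function.Involutive T := fun u => by
    have h0 : f (v + w) = 0 := by rw [map_add, hfv, hfw]; decide
    rw [hT (T u), hT u, map_add, map_smul, h0, smul_zero, add_zero, add_assoc, add_self_f2, add_zero]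
  refine ⟨LinearEquiv.ofInvolutive T hinv, ?_⟩
  show T v = w
  rw [hT, hfv, one_smul, ← add_assoc, add_self_f2, zero_add]

/-- Let V be a vector space of dimension n over the field with two elements with 2^n − 1 prime, and H a group of invertible linear maps of V. Then H is transitive on the non-zero vectors of V if and only if H is cyclic of order 2^n − 1, or H has order n·(2^n − 1) and contains a normal cyclic subgroup of order 2^n − 1, or H is the whole general linear group of V. -/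
theorem result {V : Type*} [AddCommGroup V] [Module (ZMod 2) V] [Finite V] (n : ℕ) (hn : Module.finrank (ZMod 2) V = n)
    (hprime : (2 ^ n - 1).Prime) (H : Subgroup (V ≃ₗ[ZMod 2] V)) :
    (∀ v w : V, v ≠ 0 → w ≠ 0 → ∃ h ∈ H, h v = w) ↔
      ((IsCyclic ↥H ∧ Nat.card ↥H = 2 ^ n - 1) ∨
       (Nat.card ↥H = n * (2 ^ n - 1) ∧ ∃ C : Subgroup (V ≃ₗ[ZMod 2] V), C ≤ H ∧ (C.subgroupOf H).Normal ∧
          IsCyclic ↥C ∧ Nat.card ↥C = 2 ^ n - 1) ∨
       H = ⊤) := by
  classical
  haveI : Finite (V ≃ₗ[ZMod 2] V) := Finite.of_injective _ DFunLike.coe_injective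
  constructor
  · intro hH
    rcases CfsgLib.SingerOver.cyclic_or_top (H := H) (by rw [hn]; exact hprime) hH with ⟨C, hC, hCH, hHC⟩ | h
    · obtain ⟨k, hk, hcard⟩ := hC.card_normalizing hCH hHC
      rw [hn] at hk hcard
      have hCc : Nat.card C = 2 ^ n - 1 := by rw [hC.card, hn]
      rcases hk with rfl | rfl
      · rw [one_mul] at hcard
        have : C = H := Subgroup.eq_of_le_of_card_ge hCH (by rw [hcard, hCc])
        exact Or.inl ⟨this ▸ hC.isCyclic, hcard⟩
      · refine Or.inr (Or.inl ⟨hcard, C, hCH, ?_, hC.isCyclic, hCc⟩)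
        exact ⟨fun c hc g => (Subgroup.mem_normalizer_iff.1 (hHC g.2) c.1).1 hc⟩
    · exact Or.inr (Or.inr h)
  · rintro (⟨-, hcard⟩ | ⟨-, C, hCH, -, -, hcard⟩ | rfl) v w hv hw
    · have hC : CfsgLib.SingerOver.IsSingerC H := ⟨by rw [hn]; exact hprime, by rw [hcard, hn]⟩
      exact hC.trans hv hw
    · have hC : CfsgLib.SingerOver.IsSingerC C := ⟨by rw [hn]; exact hprime, by rw [hcard, hn]⟩
      obtain ⟨c, hc, hcv⟩ := hC.trans hv hw
      exact ⟨c, hCH hc, hcv⟩
    · obtain ⟨g, hg⟩ := top_trans v w hv hw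
      exact ⟨g, trivial, hg⟩

end Cfsg.Agent.S4179
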