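import Cfsg.Statements.S5061

set_option autoImplicit false
open Cfsg

namespace Cfsg.Agent.S5061

section
open Submodule

variable {k : Type*} [Field k] {M : Type*} [AddCommGroup M] [Module k M]

local notation "GLM" => LinearMap.GeneralLinearGroup k M

/-- The span of the `g - 1`, `g ∈ H`. -/
def augSpan (H : Subgroup GLM) : Submodule k (Module.End k M) :=
  span k ((fun g : GLM => (g : Module.End k M) - 1) '' (H : Set GLM))

theorem sub_one_mem_augSpan {H : Subgroup GLM} {g : GLM} (hg : g ∈ H) :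
    (g : Module.End k M) - 1 ∈ augSpan H := subset_span ⟨g, hg, rfl⟩

theorem augSpan_le {H : Subgroup GLM} {T : Submodule k (Module.End k M)}
    (h : ∀ g ∈ H, (g : Module.End k M) - 1 ∈ T) : augSpan H ≤ T :=
  span_le.mpr (by rintro _ ⟨g, hg, rfl⟩; exact h g hg)

theorem augSpan_mono {H K : Subgroup GLM} (h : H ≤ K) : augSpan H ≤ augSpan K :=
  augSpan_le fun _ hg => sub_one_mem_augSpan (h hg)

theorem augSpan_mul_self (H : Subgroup GLM) : augSpan H * augSpan H ≤ augSpan H := by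
  rw [augSpan, span_mul_span, span_le]
  rintro _ ⟨_, ⟨g, hg, rfl⟩, _, ⟨h, hh, rfl⟩, rfl⟩
  have e : ((g : Module.End k M) - 1) * ((h : Module.End k M) - 1) =
      (((g * h : GLM) : Module.End k M) - 1) - ((g : Module.End k M) - 1) - ((h : Module.End k M) - 1) := by
    rw [Units.val_mul]; noncomm_ring
  show ((g : Module.End k M) - 1) * ((h : Module.End k M) - 1) ∈ augSpan H
  rw [e]
  exact sub_mem (sub_mem (sub_one_mem_augSpan (mul_mem hg hh)) (sub_one_mem_augSpan hg))
    (sub_one_mem_augSpan hh)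

theorem augSpan_pow_succ_le (H : Subgroup GLM) (j : ℕ) : augSpan H ^ (j + 1) ≤ augSpan H := by
  induction j with
  | zero => rw [zero_add, pow_one]
  | succ j ih => rw [pow_succ]; exact (mul_le_mul' ih le_rfl).trans (augSpan_mul_self H)

theorem prod_mem_augSpan_pow (H : Subgroup GLM) : ∀ l : List GLM, (∀ g ∈ l, g ∈ H) →
    (l.map fun g : GLM => (g : Module.End k M) - 1).prod ∈ augSpan H ^ l.length
  | [], _ => by
    simp only [List.map_nil, List.prod_nil, List.length_nil, pow_zero]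
    exact Submodule.one_le.mp le_rfl
  | g :: l, hl => by
    rw [List.map_cons, List.prod_cons, List.length_cons, pow_succ']
    exact mul_mem_mul (sub_one_mem_augSpan (hl g (by simp)))
      (prod_mem_augSpan_pow H l fun x hx => hl x (by simp [hx]))

theorem augSpan_pow_le (H : Subgroup GLM) : ∀ n : ℕ, augSpan H ^ n ≤
    span k {x | ∃ l : List GLM, (∀ g ∈ l, g ∈ H) ∧ l.length = n ∧
      x = (l.map fun g : GLM => (g : Module.End k M) - 1).prod}
  | 0 => by
    rw [pow_zero, Submodule.one_eq_span]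
    exact span_mono (Set.singleton_subset_iff.mpr ⟨[], by simp, rfl, by simp⟩)
  | n + 1 => by
    rw [pow_succ']
    refine (mul_le_mul' le_rfl (augSpan_pow_le H n)).trans ?_
    rw [augSpan, span_mul_span]
    refine span_mono ?_
    rintro _ ⟨_, ⟨g, hg, rfl⟩, _, ⟨l, hl, hn, rfl⟩, rfl⟩
    exact ⟨g :: l, List.forall_mem_cons.mpr ⟨hg, hl⟩, by simp [hn], by simp⟩

theorem conj_one' (B : Subgroup GLM) : Cfsg.conjBy B 1 = B := by
  ext x
  simp [Subgroup.mem_map]

theorem prod_coe_eq (l : List GLM) :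
    (l.map fun g => (g : M →ₗ[k] M) - 1).prod =
      (l.map fun g : GLM => (g : Module.End k M) - 1).prod := by
  induction l <;> simp_all

theorem unipotent_iff (H : Subgroup GLM) : Cfsg.IsUnipotentOn H ↔ ∃ n, augSpan H ^ n = ⊥ := by
  constructor
  · rintro ⟨n, hn⟩
    refine ⟨n, le_bot_iff.mp ((augSpan_pow_le H n).trans (span_le.mpr ?_))⟩
    rintro x ⟨l, hl, hl', rfl⟩
    exact (Submodule.mem_bot k).mpr (prod_coe_eq l ▸ hn l hl hl')
  · rintro ⟨n, hn⟩
    refine ⟨n, fun l hl hl' => (Submodule.mem_bot k).mp ?_⟩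
    rw [← hn, ← hl', prod_coe_eq]
    exact prod_mem_augSpan_pow H l hl

/-- The units `g` with `g - 1` and `g⁻¹ - 1` in a multiplicatively closed subspace. -/
def algGroup (T : Submodule k (Module.End k M)) (hT : T * T ≤ T) : Subgroup GLM where
  carrier := {g | (g : Module.End k M) - 1 ∈ T ∧ ((g⁻¹ : GLM) : Module.End k M) - 1 ∈ T}
  one_mem' := by simp
  mul_mem' {g h} hg hh := by
    have key : ∀ a b : GLM, (a : Module.End k M) - 1 ∈ T → (b : Module.End k M) - 1 ∈ T →
        ((a * b : GLM) : Module.End k M) - 1 ∈ T := by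
      intro a b ha hb
      have e : ((a * b : GLM) : Module.End k M) - 1 = ((a : Module.End k M) - 1) * ((b : Module.End k M) - 1)
          + ((a : Module.End k M) - 1) + ((b : Module.End k M) - 1) := by
        rw [Units.val_mul]; noncomm_ring
      rw [e]
      exact add_mem (add_mem (hT (mul_mem_mul ha hb)) ha) hb
    exact ⟨key g h hg.1 hh.1, by rw [mul_inv_rev]; exact key _ _ hh.2 hg.2⟩
  inv_mem' {g} hg := ⟨hg.2, by rw [inv_inv]; exact hg.1⟩

theorem augSpan_le_of_le_algGroup {T : Submodule k (Module.End k M)} {hT : T * T ≤ T}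
    {H : Subgroup GLM} (h : H ≤ algGroup T hT) : augSpan H ≤ T :=
  augSpan_le fun _ hg => (h hg).1

theorem augSpan_pow_mono {H : Subgroup GLM} {T : Submodule k (Module.End k M)} (h : augSpan H ≤ T)
    {n : ℕ} (hn : T ^ n = ⊥) : Cfsg.IsUnipotentOn H :=
  (unipotent_iff H).mpr ⟨n, le_bot_iff.mp (hn ▸ pow_le_pow_left' h n)⟩

theorem mem_augSpan_conj {H : Subgroup GLM} {b g : GLM} (hb : b ∈ H)
    (hg : (g : Module.End k M) - 1 ∈ augSpan H) :
    ((b * g * b⁻¹ : GLM) : Module.End k M) - 1 ∈ augSpan H := by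
  have e : ((b * g * b⁻¹ : GLM) : Module.End k M) - 1 =
      (b : Module.End k M) * ((g : Module.End k M) - 1) * ((b⁻¹ : GLM) : Module.End k M) := by
    rw [mul_sub, sub_mul, mul_one, Units.mul_inv, ← Units.val_mul, ← Units.val_mul]
  rw [e]
  have m1 : ∀ x ∈ augSpan H, ∀ c ∈ H, (c : Module.End k M) * x ∈ augSpan H ∧
      x * (c : Module.End k M) ∈ augSpan H := fun x hx c hc => by
    refine ⟨?_, ?_⟩
    · have : (c : Module.End k M) * x = ((c : Module.End k M) - 1) * x + x := by noncomm_ring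
      rw [this]; exact add_mem (augSpan_mul_self H (mul_mem_mul (sub_one_mem_augSpan hc) hx)) hx
    · have : x * (c : Module.End k M) = x * ((c : Module.End k M) - 1) + x := by noncomm_ring
      rw [this]; exact add_mem (augSpan_mul_self H (mul_mem_mul hx (sub_one_mem_augSpan hc))) hx
  exact (m1 _ (m1 _ hg b hb).1 b⁻¹ (inv_mem hb)).2

/-- Unipotent extended by a unipotent group normalising it stays unipotent. -/
theorem unipotent_sup {K D : Subgroup GLM} (hK : Cfsg.IsUnipotentOn K) (hD : Cfsg.IsUnipotentOn D)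
    (hn : ∀ b ∈ D, ∀ h ∈ K, b * h * b⁻¹ ∈ K) : Cfsg.IsUnipotentOn (K ⊔ D) := by
  obtain ⟨n, hn0⟩ := (unipotent_iff K).mp hK
  obtain ⟨m, hm0⟩ := (unipotent_iff D).mp hD
  set a := augSpan K with ha
  set b := augSpan D with hb
  set U : Submodule k (Module.End k M) := 1 ⊔ b with hU
  have hbU : b ≤ U := le_sup_right
  have h1U : 1 ≤ U := le_sup_left
  have hba : b * a ≤ a * U := by
    rw [hb, ha, augSpan, augSpan, span_mul_span, span_le]
    rintro _ ⟨_, ⟨x, hx, rfl⟩, _, ⟨h, hh, rfl⟩, rfl⟩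
    have hc := hn x hx h hh
    have e : ((x : Module.End k M) - 1) * ((h : Module.End k M) - 1) =
        (((x * h * x⁻¹ : GLM) : Module.End k M) - 1) * ((x : Module.End k M) - 1) +
        ((((x * h * x⁻¹ : GLM) : Module.End k M) - 1) - ((h : Module.End k M) - 1)) * 1 := by
      have h2 : ((x * h * x⁻¹ : GLM) : Module.End k M) * (x : Module.End k M) =
          (x : Module.End k M) * (h : Module.End k M) := by
        rw [← Units.val_mul, inv_mul_cancel_right, Units.val_mul]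
      generalize ((x * h * x⁻¹ : GLM) : Module.End k M) = c at h2
      simp only [mul_sub, sub_mul, mul_one, one_mul, h2]
      abel
    show ((x : Module.End k M) - 1) * ((h : Module.End k M) - 1) ∈ augSpan K * U
    rw [e]
    exact add_mem (mul_mem_mul (sub_one_mem_augSpan hc) (hbU (sub_one_mem_augSpan hx)))
      (mul_mem_mul (sub_mem (sub_one_mem_augSpan hc) (sub_one_mem_augSpan hh))
        (h1U (Submodule.one_le.mp le_rfl)))
  have haU : a ≤ a * U := le_mul_of_one_le_right' h1U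
  have hUa : U * a ≤ a * U := by
    rw [hU, Submodule.sup_mul, one_mul]
    exact sup_le haU hba
  have hUU : U * U ≤ U := by
    rw [hU, Submodule.sup_mul, one_mul, Submodule.mul_sup, mul_one]
    exact sup_le le_rfl (sup_le le_sup_right ((augSpan_mul_self D).trans le_sup_right))
  have hUaU : U * (a * U) ≤ a * U := by
    rw [← mul_assoc]
    exact (mul_le_mul' hUa le_rfl).trans (by rw [mul_assoc]; exact mul_le_mul' le_rfl hUU)
  clear_value U
  have hpowU : ∀ j : ℕ, (a * U) ^ (j + 1) ≤ a ^ (j + 1) * U := by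
    intro j
    induction j with
    | zero => simp
    | succ j ih =>
      rw [pow_succ (a * U)]
      refine (mul_le_mul' ih le_rfl).trans ?_
      rw [mul_assoc, pow_succ a (j + 1), mul_assoc _ a]
      exact mul_le_mul' le_rfl hUaU
  set T := a * U ⊔ b with hT
  have haUaU : a * U * (a * U) ≤ a * U := by
    rw [mul_assoc]
    refine (mul_le_mul' le_rfl hUaU).trans ?_
    rw [← mul_assoc]
    exact mul_le_mul' (augSpan_mul_self K) le_rfl
  have haUb : a * U * b ≤ a * U := by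
    rw [mul_assoc]
    exact mul_le_mul' le_rfl ((mul_le_mul' le_rfl hbU).trans hUU)
  have hbaU : b * (a * U) ≤ a * U := (mul_le_mul' hbU le_rfl).trans hUaU
  have hTT : T * T ≤ T := by
    rw [hT, Submodule.sup_mul, Submodule.mul_sup, Submodule.mul_sup]
    exact sup_le (sup_le (haUaU.trans le_sup_left) (haUb.trans le_sup_left))
      (sup_le (hbaU.trans le_sup_left) ((augSpan_mul_self D).trans le_sup_right))
  have hTp : ∀ j : ℕ, T ^ (j + 1) ≤ a * U ⊔ b ^ (j + 1) := by
    intro j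
    induction j with
    | zero => simp [hT]
    | succ j ih =>
      rw [pow_succ T]
      refine (mul_le_mul' ih le_rfl).trans ?_
      rw [hT, Submodule.sup_mul, Submodule.mul_sup, Submodule.mul_sup, ← pow_succ b]
      refine sup_le (sup_le (haUaU.trans le_sup_left) (haUb.trans le_sup_left))
        (sup_le ((?_ : _ ≤ a * U).trans le_sup_left) le_sup_right)
      exact (mul_le_mul' ((augSpan_pow_succ_le D j).trans hbU) le_rfl).trans hUaU
  have hle : K ⊔ D ≤ algGroup T hTT := by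
    refine sup_le (fun g hg => ⟨?_, ?_⟩) (fun g hg => ⟨?_, ?_⟩)
    · exact le_sup_left (α := Submodule k (Module.End k M)) (haU (sub_one_mem_augSpan hg))
    · exact le_sup_left (α := Submodule k (Module.End k M)) (haU (sub_one_mem_augSpan (inv_mem hg)))
    · exact le_sup_right (α := Submodule k (Module.End k M)) (sub_one_mem_augSpan hg)
    · exact le_sup_right (α := Submodule k (Module.End k M)) (sub_one_mem_augSpan (inv_mem hg))
  have hn1 : a ^ (n + 1) = ⊥ := by rw [pow_succ, hn0, Submodule.bot_mul]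
  have hm1 : b ^ (m + 1) = ⊥ := by rw [pow_succ, hm0, Submodule.bot_mul]
  refine augSpan_pow_mono (augSpan_le_of_le_algGroup hle) (n := (m + 1) * (n + 1)) (le_bot_iff.mp ?_)
  rw [pow_mul]
  refine (pow_le_pow_left' ?_ (n + 1)).trans ((hpowU n).trans ?_)
  · have := hTp m
    rwa [hm1, sup_bot_eq] at this
  · rw [hn1, Submodule.bot_mul]

variable (W : Set (Subgroup (LinearMap.GeneralLinearGroup k M)))

/-- The group generated by a family. -/
def famGroup (Δ : Set (Subgroup GLM)) : Subgroup GLM := ⨆ A ∈ Δ, A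

/-- Saturation of a family inside `W`. -/
def sat (Δ : Set (Subgroup GLM)) : Set (Subgroup GLM) :=
  {A | A ∈ W ∧ ∀ g ∈ A, (g : Module.End k M) - 1 ∈ augSpan (famGroup Δ)}

/-- A saturated unipotent subfamily. -/
def Closed (Δ : Set (Subgroup GLM)) : Prop :=
  Δ ⊆ W ∧ Cfsg.IsUnipotentOn (famGroup Δ) ∧ sat W Δ = Δ

variable {W}

theorem famGroup_mono {Δ Δ' : Set (Subgroup GLM)} (h : Δ ⊆ Δ') : famGroup Δ ≤ famGroup Δ' :=
  iSup₂_le fun A hA => le_iSup₂_of_le A (h hA) le_rfl

theorem famGroup_sat_le (Δ : Set (Subgroup GLM)) :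
    augSpan (famGroup (sat W Δ)) ≤ augSpan (famGroup Δ) :=
  augSpan_le_of_le_algGroup (hT := augSpan_mul_self _)
    (iSup₂_le fun _A hA g hg => ⟨hA.2 g hg, hA.2 _ (inv_mem hg)⟩)

theorem subset_sat {Δ : Set (Subgroup GLM)} (h : Δ ⊆ W) : Δ ⊆ sat W Δ := fun A hA =>
  ⟨h hA, fun _g hg => sub_one_mem_augSpan (le_iSup₂_of_le (f := fun B _ => B) A hA le_rfl hg)⟩

theorem closed_sat {Δ : Set (Subgroup GLM)} (h : Δ ⊆ W) (hu : Cfsg.IsUnipotentOn (famGroup Δ)) :
    Closed W (sat W Δ) := by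
  obtain ⟨n, hn⟩ := (unipotent_iff _).mp hu
  refine ⟨fun A hA => hA.1, augSpan_pow_mono (famGroup_sat_le Δ) hn, ?_⟩
  refine le_antisymm (fun A hA => ⟨hA.1, fun g hg => famGroup_sat_le Δ (hA.2 g hg)⟩) ?_
  exact subset_sat fun A hA => hA.1

theorem closed_inter {Δ Δ' : Set (Subgroup GLM)} (h : Closed W Δ) (h' : Closed W Δ') :
    Closed W (Δ ∩ Δ') := by
  obtain ⟨n, hn⟩ := (unipotent_iff _).mp h.2.1
  refine ⟨fun A hA => h.1 hA.1,
    augSpan_pow_mono (augSpan_mono (famGroup_mono Set.inter_subset_left)) hn, ?_⟩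
  refine le_antisymm (fun A hA => ⟨?_, ?_⟩) (subset_sat fun A hA => h.1 hA.1)
  · rw [← h.2.2]
    exact ⟨hA.1, fun g hg => augSpan_mono (famGroup_mono Set.inter_subset_left) (hA.2 g hg)⟩
  · rw [← h'.2.2]
    exact ⟨hA.1, fun g hg => augSpan_mono (famGroup_mono Set.inter_subset_right) (hA.2 g hg)⟩

theorem closed_eq_of_span {Δ Δ' : Set (Subgroup GLM)} (h : Closed W Δ) (h' : Closed W Δ')
    (he : augSpan (famGroup Δ) = augSpan (famGroup Δ')) : Δ = Δ' := by
  rw [← h.2.2, ← h'.2.2, sat, sat, he]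

theorem closed_conj (hWC : ∀ A ∈ W, ∀ g ∈ famGroup W, Cfsg.conjBy A g ∈ W)
    {Δ : Set (Subgroup GLM)} (h : Closed W Δ) {g : GLM} (hg : g ∈ famGroup Δ)
    {A : Subgroup GLM} (hA : A ∈ Δ) : Cfsg.conjBy A g ∈ Δ := by
  rw [← h.2.2]
  refine ⟨hWC A (h.1 hA) g (famGroup_mono h.1 hg), ?_⟩
  rintro _ ⟨x, hx, rfl⟩
  exact mem_augSpan_conj hg (sub_one_mem_augSpan (le_iSup₂_of_le (f := fun B _ => B) A hA le_rfl hx))

variable (k M) in
theorem exists_maximal_closed [FiniteDimensional k M] {Δ : Set (Subgroup GLM)} (h : Δ ⊆ W)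
    (hu : Cfsg.IsUnipotentOn (famGroup Δ)) :
    ∃ Δ', Closed W Δ' ∧ Δ ⊆ Δ' ∧ ∀ Δ'', Closed W Δ'' → Δ' ⊆ Δ'' → Δ'' = Δ' := by
  classical
  let P : ℕ → Prop := fun d => ∃ Δ', Closed W Δ' ∧ Δ ⊆ Δ' ∧
    Module.finrank k ↥(augSpan (famGroup Δ')) = d
  have hP : P (Module.finrank k ↥(augSpan (famGroup (sat W Δ)))) :=
    ⟨_, closed_sat h hu, subset_sat h, rfl⟩
  obtain ⟨d, hd⟩ : ∃ d, P d ∧ ∀ d', P d' → d' ≤ d := by
    refine ⟨Nat.findGreatest P (Module.finrank k (Module.End k M)),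
      Nat.findGreatest_spec (Submodule.finrank_le _) hP, fun d' hd' => ?_⟩
    refine Nat.le_findGreatest ?_ hd'
    obtain ⟨Δ', -, -, rfl⟩ := hd'
    exact Submodule.finrank_le _
  obtain ⟨⟨Δ', hc, hsub, rfl⟩, hmax⟩ := hd
  refine ⟨Δ', hc, hsub, fun Δ'' hc'' hsub'' => ?_⟩
  refine (closed_eq_of_span hc hc'' ?_).symm
  exact Submodule.eq_of_le_of_finrank_le (augSpan_mono (famGroup_mono hsub''))
    (hmax _ ⟨Δ'', hc'', hsub.trans hsub'', rfl⟩)

theorem exists_stabilizing (hWC : ∀ A ∈ W, ∀ g ∈ famGroup W, Cfsg.conjBy A g ∈ W)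
    {I Δ : Set (Subgroup GLM)} (hI : Closed W I) (hΔ : Closed W Δ) (hsub : I ⊆ Δ) (hne : ¬ Δ ⊆ I) :
    ∃ A ∈ Δ, A ∉ I ∧ ∀ a ∈ A, ∀ B ∈ I, Cfsg.conjBy B a ∈ I := by
  classical
  set H := famGroup Δ with hH
  have conjconj : ∀ (B : Subgroup GLM) (x y : GLM),
      Cfsg.conjBy (Cfsg.conjBy B x) y = Cfsg.conjBy B (y * x) := fun B x y => by
    rw [Cfsg.conjBy, Cfsg.conjBy, Cfsg.conjBy, Subgroup.map_map]
    congr 1
  by_cases hall : ∀ g ∈ H, ∀ B ∈ I, Cfsg.conjBy B g ∈ I
  · obtain ⟨A, hA, hAI⟩ := Set.not_subset.mp hne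
    exact ⟨A, hA, hAI, fun a ha => hall a (le_iSup₂_of_le (f := fun B _ => B) A hA le_rfl ha)⟩
  push Not at hall
  obtain ⟨n, hn⟩ := (unipotent_iff _).mp hΔ.2.1
  let Stab : GLM → Prop := fun g => ∀ B ∈ I, Cfsg.conjBy B g ∈ I
  have hex : ∃ j, ∀ g ∈ H, (g : Module.End k M) - 1 ∈ augSpan H ^ (j + 1) → Stab g := by
    refine ⟨n, fun g _ hg B hB => ?_⟩
    rw [pow_succ, ← hH] at *
    rw [hn, Submodule.bot_mul, Submodule.mem_bot, sub_eq_zero] at hg
    have : g = 1 := Units.ext hg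
    rw [this, conj_one']
    exact hB
  obtain ⟨j, hj, hjmin⟩ : ∃ j, (∀ g ∈ H, (g : Module.End k M) - 1 ∈ augSpan H ^ (j + 1) → Stab g) ∧
      ∀ i < j, ¬ ∀ g ∈ H, (g : Module.End k M) - 1 ∈ augSpan H ^ (i + 1) → Stab g :=
    ⟨Nat.find hex, Nat.find_spec hex, fun i hi => Nat.find_min hex hi⟩
  cases j with
  | zero =>
    obtain ⟨g, hg, B, hB, hgB⟩ := hall
    exact absurd (hj g hg (by rw [zero_add, pow_one]; exact sub_one_mem_augSpan hg) B hB) hgB
  | succ i =>
    have := hjmin i (Nat.lt_succ_self i)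
    push Not at this
    obtain ⟨g, hg, hgi, hgS⟩ := this
    simp only [Stab, not_forall] at hgS
    obtain ⟨B, hB, hgB⟩ := hgS
    refine ⟨Cfsg.conjBy B g, closed_conj hWC hΔ hg (hsub hB), hgB, ?_⟩
    rintro _ ⟨x, hx, rfl⟩ B' hB'
    have hxI : x ∈ famGroup I := le_iSup₂_of_le (f := fun C _ => C) B hB le_rfl hx
    have hxH : x ∈ H := famGroup_mono hsub hxI
    show Cfsg.conjBy B' (g * x * g⁻¹) ∈ I
    have hcomm : g * x * g⁻¹ * x⁻¹ ∈ H :=
      mul_mem (mul_mem (mul_mem hg hxH) (inv_mem hg)) (inv_mem hxH)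
    have hdeep : ((g * x * g⁻¹ * x⁻¹ : GLM) : Module.End k M) - 1 ∈ augSpan H ^ (i + 1 + 1) := by
      have e : ((g * x * g⁻¹ * x⁻¹ : GLM) : Module.End k M) - 1 =
          (((g : Module.End k M) - 1) * ((x : Module.End k M) - 1) -
            ((x : Module.End k M) - 1) * ((g : Module.End k M) - 1)) *
            ((g⁻¹ * x⁻¹ : GLM) : Module.End k M) := by
        have h1 : ((g : Module.End k M) - 1) * ((x : Module.End k M) - 1) -
            ((x : Module.End k M) - 1) * ((g : Module.End k M) - 1) =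
            ((g * x : GLM) : Module.End k M) - ((x * g : GLM) : Module.End k M) := by
          rw [Units.val_mul, Units.val_mul]; noncomm_ring
        have u1 : g * x * (g⁻¹ * x⁻¹) = g * x * g⁻¹ * x⁻¹ := by group
        have u2 : x * g * (g⁻¹ * x⁻¹) = 1 := by group
        rw [h1, sub_mul, ← Units.val_mul, ← Units.val_mul, u1, u2, Units.val_one]
      have hmul : ∀ y ∈ augSpan H ^ (i + 1 + 1), ∀ c ∈ H,
          y * (c : Module.End k M) ∈ augSpan H ^ (i + 1 + 1) := fun y hy c hc => by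
        have : y * (c : Module.End k M) = y * ((c : Module.End k M) - 1) + y := by noncomm_ring
        rw [this]
        refine add_mem ?_ hy
        have h2 : augSpan H ^ (i + 1 + 1) * augSpan H ≤ augSpan H ^ (i + 1 + 1) := by
          rw [pow_succ, mul_assoc]; exact mul_le_mul' le_rfl (augSpan_mul_self H)
        exact h2 (mul_mem_mul hy (sub_one_mem_augSpan hc))
      rw [e]
      refine hmul _ (sub_mem ?_ ?_) _ (mul_mem (inv_mem hg) (inv_mem hxH))
      · rw [pow_succ]; exact mul_mem_mul hgi (sub_one_mem_augSpan hxH)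
      · rw [pow_succ']; exact mul_mem_mul (sub_one_mem_augSpan hxH) hgi
    have := hj _ hcomm hdeep _ (closed_conj hWC hI hxI hB')
    rwa [conjconj, show g * x * g⁻¹ * x⁻¹ * x = g * x * g⁻¹ by group] at this

end

/-- Let M be a finite-dimensional vector space over a field k, G ≤ GL(M), and 𝒲 a set of subgroups of G, invariant under conjugation by G, such that any two members of 𝒲 generate a subgroup acting unipotently on M (for some n all products of n endomorphisms g − 1 from it vanish). Then the subgroup generated by all members of 𝒲 acts unipotently on M and is normal in G. -/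
theorem result {k : Type*} [Field k] {M : Type*} [AddCommGroup M] [Module k M] [FiniteDimensional k M]
    {G : Subgroup (LinearMap.GeneralLinearGroup k M)} {W : Set (Subgroup (LinearMap.GeneralLinearGroup k M))} (hWG : ∀ A ∈ W, A ≤ G)
    (hWW : ∀ A ∈ W, ∀ B ∈ W, Cfsg.IsUnipotentOn (A ⊔ B)) (hWconj : ∀ A ∈ W, ∀ g ∈ G, Cfsg.conjBy A g ∈ W) :
    Cfsg.IsUnipotentOn (⨆ A ∈ W, A) ∧ ∀ g ∈ G, Cfsg.conjBy (⨆ A ∈ W, A) g = ⨆ A ∈ W, A := by
  have hGW : famGroup W ≤ G := iSup₂_le hWG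
  have hWC : ∀ A ∈ W, ∀ g ∈ famGroup W, Cfsg.conjBy A g ∈ W :=
    fun A hA g hg => hWconj A hA g (hGW hg)
  have conjconj : ∀ (B : Subgroup (LinearMap.GeneralLinearGroup k M))
      (x y : LinearMap.GeneralLinearGroup k M),
      Cfsg.conjBy (Cfsg.conjBy B x) y = Cfsg.conjBy B (y * x) := fun B x y => by
    rw [Cfsg.conjBy, Cfsg.conjBy, Cfsg.conjBy, Subgroup.map_map]
    congr 1
  let Max : Set (Subgroup (LinearMap.GeneralLinearGroup k M)) → Prop := fun Δ =>
    Closed W Δ ∧ ∀ Δ', Closed W Δ' → Δ ⊆ Δ' → Δ' = Δ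
  have huniq : ∀ Δ₁ Δ₂, Max Δ₁ → Max Δ₂ → Δ₁ = Δ₂ := by
    classical
    by_contra hnot
    push Not at hnot
    obtain ⟨Δ₁, Δ₂, h1, h2, hne⟩ := hnot
    let P : ℕ → Prop := fun d => ∃ D₁ D₂, Max D₁ ∧ Max D₂ ∧ D₁ ≠ D₂ ∧
      Module.finrank k ↥(augSpan (famGroup (D₁ ∩ D₂))) = d
    have hP : P _ := ⟨Δ₁, Δ₂, h1, h2, hne, rfl⟩
    obtain ⟨d, hd⟩ : ∃ d, P d ∧ ∀ d', P d' → d' ≤ d := by
      refine ⟨Nat.findGreatest P (Module.finrank k (Module.End k M)),
        Nat.findGreatest_spec (Submodule.finrank_le _) hP, fun d' hd' => ?_⟩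
      refine Nat.le_findGreatest ?_ hd'
      obtain ⟨D₁, D₂, -, -, -, rfl⟩ := hd'
      exact Submodule.finrank_le _
    clear h1 h2 hne hP
    obtain ⟨⟨D₁, D₂, m1, m2, hne, rfl⟩, hmax⟩ := hd
    set I := D₁ ∩ D₂ with hI
    have hIc : Closed W I := closed_inter m1.1 m2.1
    have n1 : ¬ D₁ ⊆ I := fun h => hne (m1.2 D₂ m2.1 fun A hA => (h hA).2).symm
    have n2 : ¬ D₂ ⊆ I := fun h => hne (m2.2 D₁ m1.1 fun A hA => (h hA).1)
    obtain ⟨A, hA, hAI, hAs⟩ := exists_stabilizing hWC hIc m1.1 Set.inter_subset_left n1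
    obtain ⟨C, hC, hCI, hCs⟩ := exists_stabilizing hWC hIc m2.1 Set.inter_subset_right n2
    have hAW := m1.1.1 hA
    have hCW := m2.1.1 hC
    have hstab : ∀ g ∈ A ⊔ C, ∀ B ∈ I, Cfsg.conjBy B g ∈ I := by
      intro g hg
      have hle : A ⊔ C ≤ Subgroup.closure ((A : Set (LinearMap.GeneralLinearGroup k M)) ∪ C) := by
        rw [Subgroup.closure_union, Subgroup.closure_eq, Subgroup.closure_eq]
      refine Subgroup.closure_induction'' (p := fun g _ => ∀ B ∈ I, Cfsg.conjBy B g ∈ I)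
        ?_ ?_ ?_ ?_ (hle hg)
      · rintro x (hx | hx)
        · exact hAs x hx
        · exact hCs x hx
      · rintro x (hx | hx)
        · exact hAs _ (inv_mem hx)
        · exact hCs _ (inv_mem hx)
      · intro B hB
        rw [conj_one']
        exact hB
      · intro x y _ _ ihx ihy B hB
        rw [← conjconj]
        exact ihx _ (ihy B hB)
    have hnorm : ∀ b ∈ A ⊔ C, ∀ h ∈ famGroup I, b * h * b⁻¹ ∈ famGroup I := by
      intro b hb
      have hle : famGroup I ≤ (famGroup I).comap (MulAut.conj b).toMonoidHom :=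
        iSup₂_le fun B hB x hx => by
          rw [Subgroup.mem_comap]
          exact le_iSup₂_of_le (f := fun E _ => E) _ (hstab b hb B hB) le_rfl ⟨x, hx, rfl⟩
      exact fun h hh => hle hh
    have hu := unipotent_sup hIc.2.1 (hWW A hAW C hCW) hnorm
    have hΓW : I ∪ {A, C} ⊆ W := by
      rintro B (hB | rfl | rfl)
      · exact hIc.1 hB
      · exact hAW
      · exact hCW
    have huΓ : Cfsg.IsUnipotentOn (famGroup (I ∪ {A, C})) := by
      obtain ⟨n, hn⟩ := (unipotent_iff _).mp hu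
      refine augSpan_pow_mono (augSpan_mono (iSup₂_le fun B hB => ?_)) hn
      rcases hB with hB | rfl | rfl
      · exact le_trans (le_iSup₂_of_le (f := fun E _ => E) B hB le_rfl) le_sup_left
      · exact le_sup_left.trans le_sup_right
      · exact le_sup_right.trans le_sup_right
    obtain ⟨D₃, hD3, hsub, hD3max⟩ := exists_maximal_closed k M hΓW huΓ
    have h31 : D₃ = D₁ := by
      by_contra hne3
      have hle : augSpan (famGroup I) ≤ augSpan (famGroup (D₁ ∩ D₃)) :=
        augSpan_mono (famGroup_mono fun B hB => ⟨hB.1, hsub (Or.inl hB)⟩)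
      have := Submodule.eq_of_le_of_finrank_le hle
        (hmax _ ⟨D₁, D₃, m1, ⟨hD3, hD3max⟩, fun h => hne3 h.symm, rfl⟩)
      refine hAI ?_
      rw [closed_eq_of_span hIc (closed_inter m1.1 hD3) this]
      exact ⟨hA, hsub (Or.inr (Or.inl rfl))⟩
    exact hCI ⟨h31 ▸ hsub (Or.inr (Or.inr rfl)), hC⟩
  have hempty : Cfsg.IsUnipotentOn (famGroup (∅ : Set (Subgroup (LinearMap.GeneralLinearGroup k M)))) := by
    refine ⟨1, fun l hl hlen => ?_⟩
    obtain ⟨g, rfl⟩ := List.length_eq_one_iff.mp hlen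
    have hg := hl g (by simp)
    simp [famGroup] at hg
    simp [hg]
  obtain ⟨Δ, hΔ, -, hΔmax⟩ := exists_maximal_closed k M (Set.empty_subset W) hempty
  have hall : W ⊆ Δ := by
    intro A hA
    have hA1 : Cfsg.IsUnipotentOn (famGroup {A}) := by
      have : famGroup ({A} : Set (Subgroup (LinearMap.GeneralLinearGroup k M))) = A ⊔ A := by
        simp [famGroup]
      rw [this]; exact hWW A hA A hA
    obtain ⟨Δ', h1, h2, h3⟩ := exists_maximal_closed k M (Set.singleton_subset_iff.mpr hA) hA1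
    rw [huniq Δ Δ' ⟨hΔ, hΔmax⟩ ⟨h1, h3⟩]
    exact h2 rfl
  refine ⟨?_, fun g hg => ?_⟩
  · obtain ⟨n, hn⟩ := (unipotent_iff _).mp hΔ.2.1
    exact augSpan_pow_mono (augSpan_mono (famGroup_mono hall)) hn
  · have key : ∀ x ∈ G, Cfsg.conjBy (⨆ A ∈ W, A) x ≤ ⨆ A ∈ W, A := fun x hx => by
      simp only [Cfsg.conjBy, Subgroup.map_iSup]
      exact iSup₂_le fun A hA => le_iSup₂_of_le (f := fun B _ => B) _ (hWconj A hA x hx) le_rfl
    refine le_antisymm (key g hg) ?_
    have := Subgroup.map_mono (f := (MulAut.conj g).toMonoidHom) (key g⁻¹ (inv_mem hg))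
    change Cfsg.conjBy (Cfsg.conjBy (⨆ A ∈ W, A) g⁻¹) g ≤ _ at this
    rw [conjconj, mul_inv_cancel, conj_one'] at this
    exact this

end Cfsg.Agent.S5061
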