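import Cfsg.Statements.S4434
import Cfsg.Agent.Lib.BlockCover.Quotient
-- import your own Cfsg.Agent.* helpers here

set_option autoImplicit false
open Cfsg

namespace Cfsg.Agent.S4434

/-- Let N be a normal p-subgroup of the finite group G and write Ḡ = G/N; fix a maximal ideal M of the algebraic integers containing p. Then every block B of G contains a block B̄ of Ḡ (the inflation of every member of B̄ lies in B) whose defect groups are exactly the images in Ḡ of the defect groups of B. -/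
theorem result {G : Type*} [Group G] [Finite G] (p : ℕ) [Fact p.Prime] (M : Ideal Cfsg.AlgInt) (hM : Cfsg.IsPModular p M) (N : Subgroup G) [N.Normal] (hN : IsPGroup p N) (B : Set (Cfsg.IrrCharacter G)) (hB : Cfsg.IsPBlock M B) : ∃ Bbar : Set (Cfsg.IrrCharacter (G ⧸ N)), Cfsg.IsPBlock M Bbar ∧ (∀ χ ∈ Bbar, ∀ ψ : Cfsg.IrrCharacter G, (ψ : G → ℂ) = (χ : G ⧸ N → ℂ) ∘ QuotientGroup.mk → ψ ∈ B) ∧ ∀ Dbar : Subgroup (G ⧸ N), Cfsg.IsDefectGroup p M Bbar Dbar ↔ ∃ P : Subgroup G, Cfsg.IsDefectGroup p M B P ∧ Dbar = P.map (QuotientGroup.mk' N) := by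
  classical
  letI := Fintype.ofFinite G
  letI : Fintype (G ⧸ N) := Fintype.ofFinite _
  haveI := hM.2.1
  obtain ⟨D, hD⟩ := CfsgLib.BrauerPairs.exists_defectGroup hM hB
  obtain ⟨g, hg, S, hS⟩ := id hD
  obtain ⟨ξ, hξ⟩ := CfsgLib.Blocks.IsPBlock.nonempty hM hB
  have hgN : g ∈ Subgroup.centralizer (N : Set G) := by
    by_contra h
    exact hg.2.2 ξ hξ (CfsgLib.BlockCover.centralChar_mem_ideal_of_not_centralizes hM N hN ξ h)
  have hreg : ¬ p ∣ orderOf g := fun h => hg.2.1 (by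
    rw [CfsgLib.Blocks.blockCoeff_eq_zero_of_singular hM hB h]
    exact CfsgLib.Blocks.memLocalIdeal_zero hM)
  obtain ⟨Bbar, hBbar, hsub, hne⟩ :=
    CfsgLib.BlockCover.exists_quotient_block N hM hN hB hreg hgN hg.2.1
  refine ⟨Bbar, hBbar, fun χ hχ ψ hψ => ?_, ?_⟩
  · have : ψ = CfsgLib.Chars17.infl N χ := Subtype.ext (by
      rw [hψ]; funext x; exact (CfsgLib.Chars17.infl_apply N χ x).symm)
    exact this ▸ hsub χ hχ
  set f := QuotientGroup.mk' N with hf
  have hmap : ∀ (u : G) (K : Subgroup G),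
      (K.map (MulAut.conj u).toMonoidHom).map f = (K.map f).map (MulAut.conj (f u)).toMonoidHom := by
    intro u K
    rw [Subgroup.map_map, Subgroup.map_map]
    congr 1
  have key : ∀ Dbar : Subgroup (G ⧸ N), IsDefectGroup p M Bbar Dbar →
      ∃ P : Subgroup G, IsDefectGroup p M B P ∧ Dbar = P.map f := by
    intro Dbar hDbar
    obtain ⟨P, hP, hle⟩ := CfsgLib.BlockCover.defect_le_map N hM hBbar hB hsub hDbar
    refine ⟨P, hP, Subgroup.eq_of_le_of_card_ge hle ?_⟩
    obtain ⟨u, rfl⟩ := CfsgLib.BlockCover.defectGroup_conjugate hM hB hD hP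
    rw [hmap, Subgroup.card_map_of_injective (MulAut.conj (f u)).injective]
    have hDC : D.map f ≤ Subgroup.centralizer ({(g : G ⧸ N)} : Set (G ⧸ N)) :=
      Subgroup.map_le_iff_le_comap.2 ((hS ▸ Subgroup.map_subtype_le _ : D ≤ _).trans
        (CfsgLib.BlockCover.centralizer_le_comap_quotient N g))
    obtain ⟨t, ht⟩ := CfsgLib.BlockCover.exists_conj_le_defect_of_coeff hM hBbar hDbar hne
      ((CfsgLib.BlockCover.isPGroup_defect hM hD).map f) hDC
    exact (Subgroup.card_map_of_injective (MulAut.conj t).injective).symm.trans_le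
      (Subgroup.card_le_of_le ht)
  intro Dbar
  refine ⟨key Dbar, ?_⟩
  rintro ⟨P, hP, rfl⟩
  obtain ⟨Dbar, hDbar⟩ := CfsgLib.BrauerPairs.exists_defectGroup hM hBbar
  obtain ⟨P₀, hP₀, rfl⟩ := key Dbar hDbar
  obtain ⟨u, rfl⟩ := CfsgLib.BlockCover.defectGroup_conjugate hM hB hP₀ hP
  rw [hmap]
  exact CfsgLib.BlockCover.isDefectGroup_conj hM hBbar hDbar _

end Cfsg.Agent.S4434
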