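import Cfsg.Statements.S0065
import Cfsg.Agent.Lib.Solvable.MinNormal
-- import your own Cfsg.Agent.* helpers here

set_option autoImplicit false
open Cfsg

namespace Cfsg.Agent.S0065

/-- A nontrivial normal subgroup of a nilpotent group intersects the centre nontrivially. -/
theorem result {G : Type*} [Group G] [Finite G] [Group.IsNilpotent G]
    (N : Subgroup G) [N.Normal] (hN : N ≠ ⊥) : N ⊓ Subgroup.center G ≠ ⊥ := by
  intro hbot
  have hN' : N.Normal := inferInstance
  obtain ⟨M, hM, hMN⟩ := CfsgLib.MinNormal.exists_isMinNormal_le hN' hN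
  have := hM.1
  have hcen : M ≤ Subgroup.center G := by
    rcases hM.2.2 ⁅M, (⊤ : Subgroup G)⁆ inferInstance (Subgroup.commutator_le_left _ _) with h | h
    · rw [Subgroup.commutator_eq_bot_iff_le_centralizer, Subgroup.coe_top,
        Subgroup.centralizer_univ] at h
      exact h
    · exfalso
      apply hM.2.1
      obtain ⟨n, hn⟩ := (Subgroup.nilpotent_iff_lowerCentralSeries (G := G)).1 inferInstance
      have key : ∀ k, M ≤ (⊤ : Subgroup G).lowerCentralSeries k := by
        intro k
        induction k with
        | zero => exact le_top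
        | succ k ih =>
          rw [Subgroup.lowerCentralSeries_succ]
          exact h.symm.le.trans (Subgroup.commutator_mono ih le_rfl)
      exact le_bot_iff.1 ((key n).trans hn.le)
  exact hM.2.1 (le_bot_iff.1 ((le_inf hMN hcen).trans hbot.le))

end Cfsg.Agent.S0065
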