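import Cfsg.Statements.S1132
import Cfsg.Agent.Lib.RankOneInvol.Twist

set_option autoImplicit false
open Cfsg

namespace Cfsg.Agent.S1132

/-- In the rank-one set-up (`G` finite and doubly transitive on `Ω`, `t` an involution moving `a`, `Q` normal in `G_a` with `G_a = Q D`, `Q ⊓ D = 1` for the two-point stabiliser `D = G_a ⊓ G_{t • a}`, `|Q|` even, `|D|` odd), with the action faithful and `G` containing two distinct commuting involutions: a Sylow 2-subgroup of `Q` is abelian or a Suzuki 2-group. -/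
theorem result {G Ω : Type*} [Group G] [Finite G] [MulAction G Ω] [FaithfulSMul G Ω] {a : Ω} {t : G} {Q : Subgroup G}
    (hS : Cfsg.IsRankOneSetup G Ω a t Q)
    (h2 : ∃ x y : G, x ≠ 1 ∧ y ≠ 1 ∧ x ≠ y ∧ x * x = 1 ∧ y * y = 1 ∧ x * y = y * x)
    (S : Sylow 2 ↥Q) : IsMulCommutative (S : Subgroup ↥Q) ∨ Cfsg.IsSuzukiTwoGroup ↥(S : Subgroup ↥Q) := by
  classical
  by_cases hab : IsMulCommutative (S : Subgroup ↥Q)
  · exact Or.inl hab
  right
  haveI := CfsgLib.RankOneInvol.isNilpotent_Q hS h2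
  haveI : Fact (Nat.Prime 2) := ⟨Nat.prime_two⟩
  haveI hSn : (S : Subgroup ↥Q).Normal := inferInstance
  haveI := (Sylow.unique_of_normal S hSn).instSubsingleton
  have hmemS : ∀ {x : ↥Q} {n : ℕ}, x ^ 2 ^ n = 1 → x ∈ (S : Subgroup ↥Q) := fun {x n} hx => by
    obtain ⟨j, -, hj⟩ := (Nat.dvd_prime_pow Nat.prime_two).1 (orderOf_dvd_of_pow_eq_one hx)
    have hz : IsPGroup 2 (Subgroup.zpowers x) := IsPGroup.of_card (by rw [Nat.card_zpowers, hj])
    obtain ⟨P, hP⟩ := hz.exists_le_sylow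
    rw [Subsingleton.elim S P]
    exact hP (Subgroup.mem_zpowers x)
  obtain ⟨s, s', hne, hs, hs'⟩ := CfsgLib.RankOneInvol.exists_two_invols hS h2
  obtain ⟨⟨k0, hk0D, hk0⟩, -, -⟩ := CfsgLib.RankOneInvol.invSet_structure hS h2
  have hQ : ∀ {c : G}, c ∈ Subgroup.zpowers k0 → ∀ {x : G}, x ∈ Q → c * x * c⁻¹ ∈ Q := fun {c} hc {x} hx =>
    CfsgLib.RankOneInvol.Q_conj hS (Subgroup.zpowers_le.2 hk0D hc).1 hx
  have hSc : ∀ {c : G} (hc : c ∈ Subgroup.zpowers k0) (x : (S : Subgroup ↥Q)),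
      (⟨c * ((x : ↥Q) : G) * c⁻¹, hQ hc (x : ↥Q).2⟩ : ↥Q) ∈ (S : Subgroup ↥Q) := fun {c} hc x => by
    obtain ⟨n, hn⟩ := S.isPGroup' x
    refine hmemS (n := n) (Subtype.ext ?_)
    rw [SubgroupClass.coe_pow, conj_pow]
    have h1 := congrArg (fun z : (S : Subgroup ↥Q) => ((z : ↥Q) : G)) hn
    simp only [SubgroupClass.coe_pow, OneMemClass.coe_one] at h1
    rw [h1, mul_one, mul_inv_cancel]
    rfl
  let ρ : Subgroup.zpowers k0 →* MulAut (S : Subgroup ↥Q) :=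
    { toFun := fun c =>
        { toFun := fun x => ⟨_, hSc c.2 x⟩
          invFun := fun x => ⟨_, hSc (inv_mem c.2) x⟩
          left_inv := fun x => Subtype.ext (Subtype.ext (by simp [mul_assoc]))
          right_inv := fun x => Subtype.ext (Subtype.ext (by simp [mul_assoc]))
          map_mul' := fun x y => Subtype.ext (Subtype.ext (by simp [mul_assoc])) }
      map_one' := MulEquiv.ext fun x => Subtype.ext (Subtype.ext (by simp))
      map_mul' := fun c d => MulEquiv.ext fun x => Subtype.ext (Subtype.ext (by simp [mul_assoc])) }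
  have hlift : ∀ {x : G} (hx : x ∈ Cfsg.involutionsIn (MulAction.stabilizer G a : Set G)),
      ∃ y : (S : Subgroup ↥Q), ((y : ↥Q) : G) = x := fun {x} hx => by
    have hxQ := (CfsgLib.RankOneInvol.invol_central hS h2 hx).1
    refine ⟨⟨⟨x, hxQ⟩, hmemS (n := 1) (Subtype.ext ?_)⟩, rfl⟩
    simpa [pow_two] using hx.2.2
  obtain ⟨y, hy⟩ := hlift hs
  obtain ⟨y', hy'⟩ := hlift hs'
  refine ⟨inferInstance, S.isPGroup', ?_, ⟨y, y', fun e => hne (by rw [← hy, ← hy', e]),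
    fun e => hs.2.1 (by rw [← hy, e]; rfl), Subtype.ext (Subtype.ext (by
      show ((y : ↥Q) : G) * ((y : ↥Q) : G) = 1
      rw [hy]; exact hs.2.2)),
    fun e => hs'.2.1 (by rw [← hy', e]; rfl), Subtype.ext (Subtype.ext (by
      show ((y' : ↥Q) : G) * ((y' : ↥Q) : G) = 1
      rw [hy']; exact hs'.2.2))⟩, ρ.range, ?_, ?_⟩
  · by_contra hc
    push Not at hc
    exact hab ⟨⟨hc⟩⟩
  · exact isCyclic_of_surjective ρ.rangeRestrict ρ.rangeRestrict_surjective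
  · intro x z hx1 hx2 hz1 hz2
    have hmem : ∀ {w : (S : Subgroup ↥Q)}, w ≠ 1 → w * w = 1 →
        ((w : ↥Q) : G) ∈ Cfsg.involutionsIn (MulAction.stabilizer G a : Set G) := fun {w} h1 h2 =>
      ⟨CfsgLib.RankOneInvol.Q_smul hS (w : ↥Q).2, fun e => h1 (Subtype.ext (Subtype.ext e)),
        congrArg (fun u : (S : Subgroup ↥Q) => ((u : ↥Q) : G)) h2⟩
    obtain ⟨e, he⟩ := CfsgLib.RankOneInvol.conj_invol_bijective hS (hmem hx1 hx2)
    obtain ⟨k, hk⟩ := e.surjective ⟨_, hmem hz1 hz2⟩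
    have hkz : (k : G)⁻¹ * ((x : ↥Q) : G) * k = ((z : ↥Q) : G) :=
      (he k).symm.trans (congrArg Subtype.val hk)
    refine ⟨⟨ρ ⟨(k : G)⁻¹, inv_mem ((hk0 _).1 k.2)⟩, _, rfl⟩, ?_, ?_⟩
    · refine Subtype.ext (Subtype.ext ?_)
      show (k : G)⁻¹ * ((x : ↥Q) : G) * ((k : G)⁻¹)⁻¹ = _
      rw [inv_inv, hkz]
    · rintro ⟨_, c, rfl⟩ hcx
      have h1 : (c : G) * ((x : ↥Q) : G) * (c : G)⁻¹ = ((z : ↥Q) : G) :=
        congrArg (fun u : (S : Subgroup ↥Q) => ((u : ↥Q) : G)) hcx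
      have h3 : (c : G)⁻¹ = k := CfsgLib.RankOneInvol.conj_invol_injective hS (hmem hx1 hx2)
        ((hk0 _).2 (inv_mem c.2)) k.2 (by rw [inv_inv, h1, hkz])
      refine Subtype.ext (congrArg ρ (Subtype.ext ?_))
      exact (inv_inv (c : G)).symm.trans (congrArg Inv.inv h3)

end Cfsg.Agent.S1132
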