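import Cfsg.Statements.S1237
import Cfsg.Agent.Lib.InvChar.HermNoSymThree
import Cfsg.Agent.Lib.OddOrder.PuigSeries
set_option autoImplicit false
open Cfsg

namespace Cfsg.Agent.S1237

open CfsgLib.InvCharThree CfsgLib.InvCharSixtyFour

universe u v

section Core

variable {T : Type u} [Group T] [Finite T]

theorem iterate_fixed (σ : MulAut T) {x : T} (h : σ x = x) : ∀ k : ℕ, (σ ^ k) x = x := by
  intro k
  induction k with
  | zero => rfl
  | succ k ih => rw [pow_succ, MulAut.mul_apply, h, ih]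

/-- An automorphism of odd order fixing `A` and a coset `xA`, `A` a 2-group, fixes `x`. -/
theorem fix_coset {σ : MulAut T} {m : ℕ} (hm : Odd m) (hσ : σ ^ m = 1) {x a : T}
    (hfix : σ a = a) (ha : ∃ e : ℕ, a ^ 2 ^ e = 1) (hx : σ x = x * a) : σ x = x := by
  have hit : ∀ k : ℕ, (σ ^ k) x = x * a ^ k := by
    intro k
    induction k with
    | zero => simp
    | succ k ih => rw [pow_succ', MulAut.mul_apply, ih, map_mul, map_pow, hx, hfix, mul_assoc, ← pow_succ']
  have h1 := hit m
  rw [hσ, MulAut.one_apply, left_eq_mul] at h1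
  obtain ⟨e, he⟩ := ha
  have h2 : orderOf a ∣ 1 := by
    have hc : Nat.Coprime m (2 ^ e) := (Nat.coprime_two_right.mpr hm).pow_right e
    exact hc ▸ Nat.dvd_gcd (orderOf_dvd_of_pow_eq_one h1) (orderOf_dvd_of_pow_eq_one he)
  rw [hx, orderOf_eq_one_iff.mp (Nat.dvd_one.mp h2), mul_one]

variable (T) in
/-- The hypotheses: `V` the central four-group of all involutions, `ρ` of 3-power order fixed-point-free on it. -/
structure Hyp (V : Subgroup T) (ρ : MulAut T) : Prop where
  isP : IsPGroup 2 T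
  card : Nat.card V = 4
  cen : V ≤ Subgroup.center T
  sq : ∀ v ∈ V, v ^ 2 = 1
  mem : ∀ x : T, x ^ 2 = 1 → x ∈ V
  fpf : ∀ v ∈ V, ρ v = v → v = 1
  ord : ∃ k : ℕ, ρ ^ 3 ^ k = 1

variable {V : Subgroup T} {ρ : MulAut T}

namespace Hyp

theorem pow_two_pow (h : Hyp T V ρ) (x : T) : ∃ e : ℕ, x ^ 2 ^ e = 1 := h.isP x

theorem fpf_all (h : Hyp T V ρ) {x : T} (hx : ρ x = x) : x = 1 := by
  haveI : Fact (Nat.Prime 2) := ⟨Nat.prime_two⟩
  obtain ⟨e, he⟩ := IsPGroup.iff_orderOf.mp h.isP x
  rcases Nat.eq_zero_or_pos e with rfl | he0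
  · exact orderOf_eq_one_iff.mp he
  exfalso
  obtain ⟨d, rfl⟩ : ∃ d, e = d + 1 := ⟨e - 1, by omega⟩
  set j := x ^ 2 ^ d with hj
  have hj2 : j ^ 2 = 1 := by rw [hj, ← pow_mul, ← pow_succ, ← he, pow_orderOf_eq_one]
  have hj1 := h.fpf j (h.mem j hj2) (by rw [hj, map_pow, hx])
  have hlt : 2 ^ d < orderOf x := by rw [he, pow_succ]; have := pow_pos (two_pos (α := ℕ)) d; omega
  exact pow_ne_one_of_lt_orderOf (pow_ne_zero _ two_ne_zero) hlt hj1

theorem mapV (h : Hyp T V ρ) {v : T} (hv : v ∈ V) : ρ v ∈ V :=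
  h.mem _ (by rw [← map_pow, h.sq v hv, map_one])

theorem four (h : Hyp T V ρ) {v w : T} (hv : v ∈ V) (hv1 : v ≠ 1) (hw : w ∈ V) :
    w = 1 ∨ w = v ∨ w = ρ v ∨ w = v * ρ v := by
  classical
  by_contra! hc
  have h1 : ρ v ≠ v := fun e => hv1 (h.fpf v hv e)
  have h2 : ρ v ≠ 1 := fun e => hv1 (ρ.injective (e.trans (map_one ρ).symm))
  have hvv : v⁻¹ = v := inv_eq_of_mul_eq_one_right (by rw [← pow_two]; exact h.sq v hv)
  have h3 : v * ρ v ≠ 1 := fun e => h1 ((inv_eq_of_mul_eq_one_right e).symm.trans hvv)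
  have hsub : ({1, v, ρ v, v * ρ v, w} : Finset T) ⊆ (Set.toFinite (V : Set T)).toFinset := by
    intro u hu
    simp only [Finset.mem_insert, Finset.mem_singleton] at hu
    rw [Set.Finite.mem_toFinset]
    rcases hu with rfl | rfl | rfl | rfl | rfl
    · exact V.one_mem
    · exact hv
    · exact h.mapV hv
    · exact V.mul_mem hv (h.mapV hv)
    · exact hw
  have h5 := Finset.card_le_card hsub
  rw [← Set.ncard_eq_toFinset_card, ← Nat.card_coe_set_eq] at h5
  change _ ≤ Nat.card V at h5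
  rw [h.card, Finset.card_insert_of_notMem, Finset.card_insert_of_notMem,
    Finset.card_insert_of_notMem, Finset.card_pair] at h5
  · omega
  · exact hc.2.2.2.symm
  · simp only [Finset.mem_insert, Finset.mem_singleton, not_or]
    refine ⟨fun e => hv1 ?_, hc.2.2.1.symm⟩
    exact right_eq_mul.mp e
  · simp only [Finset.mem_insert, Finset.mem_singleton, not_or]
    refine ⟨h1.symm, fun e => h2 ?_, hc.2.1.symm⟩
    exact left_eq_mul.mp e
  · simp only [Finset.mem_insert, Finset.mem_singleton, not_or]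
    exact ⟨hv1.symm, h2.symm, h3.symm, hc.1.symm⟩

theorem rho_two (h : Hyp T V ρ) {v : T} (hv : v ∈ V) : ρ (ρ v) = v * ρ v := by
  by_cases hv1 : v = 1
  · subst hv1; simp
  obtain ⟨k, hk⟩ := h.ord
  rcases h.four hv hv1 (h.mapV (h.mapV hv)) with e | e | e | e
  · exact absurd (ρ.injective (ρ.injective (e.trans (by simp)))) hv1
  · exfalso
    have hsq : (ρ ^ 2) v = v := by rw [pow_two, MulAut.mul_apply]; exact e
    obtain ⟨i, hi⟩ : Odd (3 ^ k) := (by decide : Odd 3).pow
    have h1 : (ρ ^ 3 ^ k) v = v := by rw [hk]; rfl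
    rw [hi, pow_succ', MulAut.mul_apply, pow_mul, iterate_fixed _ hsq i] at h1
    exact hv1 (h.fpf v hv h1)
  · exact absurd (h.fpf v hv (ρ.injective e)) hv1
  · exact e

theorem cubeV (h : Hyp T V ρ) {v : T} (hv : v ∈ V) : (ρ ^ 3) v = v := by
  simp only [pow_succ, pow_zero, one_mul, MulAut.mul_apply]
  rw [h.rho_two hv, map_mul, h.rho_two hv,
    Subgroup.mem_center_iff.mp (h.cen (V.mul_mem hv (h.mapV hv))) (ρ v),
    mul_assoc, ← pow_two (ρ v), h.sq _ (h.mapV hv), mul_one]

theorem cube_ord (h : Hyp T V ρ) : ∃ m : ℕ, Odd m ∧ (ρ ^ 3) ^ m = 1 := by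
  obtain ⟨k, hk⟩ := h.ord
  exact ⟨3 ^ k, (by decide : Odd 3).pow, by rw [← pow_mul, mul_comm, pow_mul, hk, one_pow]⟩

theorem cube_of_abelian (h : Hyp T V ρ) {A : Subgroup T} (hA : ∀ a ∈ A, ρ a ∈ A)
    (hc : ∀ a ∈ A, ∀ b ∈ A, a * b = b * a) : ∀ a ∈ A, (ρ ^ 3) a = a := by
  obtain ⟨m, hm, hm1⟩ := h.cube_ord
  suffices H : ∀ e : ℕ, ∀ a ∈ A, a ^ 2 ^ e = 1 → (ρ ^ 3) a = a by
    intro a ha
    obtain ⟨e, he⟩ := h.pow_two_pow a
    exact H e a ha he
  intro e
  induction e with
  | zero => intro a _ h1; rw [pow_zero, pow_one] at h1; rw [h1, map_one]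
  | succ e ih =>
    intro a ha h1
    have h2 := ih (a ^ 2) (A.pow_mem ha 2) (by rwa [← pow_mul, ← pow_succ'])
    set r := a⁻¹ * (ρ ^ 3) a with hr
    have hsA : (ρ ^ 3) a ∈ A := by
      simp only [pow_succ, pow_zero, one_mul, MulAut.mul_apply]; exact hA _ (hA _ (hA a ha))
    have hcom : Commute a⁻¹ ((ρ ^ 3) a) := hc _ (A.inv_mem ha) _ hsA
    have hr2 : r ^ 2 = 1 := by rw [hr, hcom.mul_pow, ← map_pow, h2, inv_pow, inv_mul_cancel]
    exact fix_coset hm hm1 (h.cubeV (h.mem r hr2)) (h.pow_two_pow r) (by rw [hr, mul_inv_cancel_left])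

theorem comm_of_cube (h : Hyp T V ρ) {x : T} (hx : (ρ ^ 3) x = x) :
    x * ρ x * ρ (ρ x) = 1 ∧ x * ρ x = ρ x * x := by
  let D : Subgroup T := MonoidHom.eqLocus (ρ ^ 3).toMonoidHom (MonoidHom.id T)
  have hmem : ∀ y, y ∈ D ↔ (ρ ^ 3) y = y := fun y => Iff.rfl
  have hD : ∀ y, y ∈ D → ρ y ∈ D := fun y hy => by
    rw [hmem] at hy ⊢
    rw [← MulAut.mul_apply, ← pow_succ, pow_succ', MulAut.mul_apply, hy]
  let f : D →* D := (ρ.toMonoidHom.comp D.subtype).codRestrict D (fun y => hD _ y.2)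
  have hf : Function.Injective f := fun a b e => Subtype.ext (ρ.injective (congrArg Subtype.val e))
  let e : MulAut D := MulEquiv.ofBijective f ⟨hf, Finite.surjective_of_injective hf⟩
  have hco : ∀ y : D, ((e y : D) : T) = ρ y := fun _ => rfl
  have h3 : ∀ y, e (e (e y)) = y := fun y => Subtype.ext (by
    rw [hco, hco, hco]; exact y.2)
  have hfp : ∀ y, e y = y → y = 1 := fun y hy => Subtype.ext (h.fpf_all (by rw [← hco, hy]))
  obtain ⟨h1, h2⟩ := fpf_three e h3 hfp ⟨x, hx⟩
  exact ⟨congrArg Subtype.val h1, congrArg Subtype.val h2⟩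

end Hyp

/-- A normal invariant abelian subgroup containing `V`. -/
structure Good (T : Type u) [Group T] (V : Subgroup T) (ρ : MulAut T) (A : Subgroup T) : Prop where
  nor : A.Normal
  inv : ∀ a ∈ A, ρ a ∈ A
  comm : ∀ a ∈ A, ∀ b ∈ A, a * b = b * a
  le : V ≤ A

namespace Hyp

theorem span (h : Hyp T V ρ) {A : Subgroup T} (hA : Good T V ρ A) {a : T} (ha : a ∈ A) (m : ℕ)
    (hord : orderOf a = 2 ^ (m + 1)) (hexp : ∀ b ∈ A, b ^ 2 ^ (m + 1) = 1) :
    (∀ i j : ℤ, a ^ i * ρ a ^ j = 1 → (2 : ℤ) ^ (m + 1) ∣ i ∧ (2 : ℤ) ^ (m + 1) ∣ j) ∧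
      ∀ b ∈ A, ∃ i j : ℤ, b = a ^ i * ρ a ^ j := by
  classical
  set b0 := ρ a with hb0
  have hb0A : b0 ∈ A := hA.inv a ha
  have hab : Commute a b0 := hA.comm a ha b0 hb0A
  have hordb : orderOf b0 = 2 ^ (m + 1) := by rw [hb0, MulEquiv.orderOf_eq, hord]
  set v := a ^ (2 : ℤ) ^ m with hv
  have hvV : v ∈ V := h.mem v (by
    rw [hv, ← zpow_natCast, ← zpow_mul, ← orderOf_dvd_iff_zpow_eq_one, hord]
    push_cast
    rw [pow_succ])
  have hv1 : v ≠ 1 := fun e => by
    rw [hv, ← orderOf_dvd_iff_zpow_eq_one, hord] at e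
    push_cast at e
    have := Int.le_of_dvd (pow_pos two_pos m) e
    rw [pow_succ] at this
    have : (0 : ℤ) < 2 ^ m := pow_pos two_pos m
    omega
  have hρv : ρ v = b0 ^ (2 : ℤ) ^ m := by rw [hv, map_zpow]
  have hone : ∀ i j : ℤ, (2 : ℤ) ^ m ∣ i → (2 : ℤ) ^ m ∣ j → a ^ i * b0 ^ j = 1 →
      (2 : ℤ) ^ (m + 1) ∣ i ∧ (2 : ℤ) ^ (m + 1) ∣ j := by
    rintro i j ⟨i', rfl⟩ ⟨j', rfl⟩ e
    rw [zpow_mul, zpow_mul, ← hv, ← hρv] at e
    have hz : ∀ w ∈ V, ∀ k : ℤ, (Even k → w ^ k = 1) ∧ (Odd k → w ^ k = w) := fun w hw k => by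
      have h2 : w ^ (2 : ℤ) = 1 := (zpow_ofNat w 2).trans (h.sq w hw)
      constructor
      · rintro ⟨l, rfl⟩; rw [← two_mul, zpow_mul, h2, one_zpow]
      · rintro ⟨l, rfl⟩; rw [zpow_add, zpow_mul, h2, one_zpow, one_mul, zpow_one]
    rw [pow_succ]
    rcases Int.even_or_odd i' with hi | hi <;> rcases Int.even_or_odd j' with hj | hj
    · exact ⟨mul_dvd_mul_left _ hi.two_dvd, mul_dvd_mul_left _ hj.two_dvd⟩
    · exfalso
      rw [(hz v hvV i').1 hi, (hz _ (h.mapV hvV) j').2 hj, one_mul] at e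
      exact hv1 (ρ.injective (e.trans (map_one ρ).symm))
    · exfalso
      rw [(hz v hvV i').2 hi, (hz _ (h.mapV hvV) j').1 hj, mul_one] at e
      exact hv1 e
    · exfalso
      rw [(hz v hvV i').2 hi, (hz _ (h.mapV hvV) j').2 hj] at e
      apply hv1
      refine h.fpf v hvV ?_
      rw [← inv_eq_of_mul_eq_one_right e]
      exact inv_eq_of_mul_eq_one_right (by rw [← pow_two]; exact h.sq v hvV)
  have hind : ∀ i j : ℤ, a ^ i * b0 ^ j = 1 → (2 : ℤ) ^ (m + 1) ∣ i ∧ (2 : ℤ) ^ (m + 1) ∣ j := by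
    intro i j e
    suffices ∀ k : ℕ, k ≤ m → (2 : ℤ) ^ k ∣ i ∧ (2 : ℤ) ^ k ∣ j from
      hone i j (this m le_rfl).1 (this m le_rfl).2 e
    intro k hk
    induction k with
    | zero => simp
    | succ k ih =>
      obtain ⟨⟨i', rfl⟩, ⟨j', rfl⟩⟩ := ih (by omega)
      obtain ⟨d, rfl⟩ : ∃ d, m = k + 1 + d := ⟨m - (k + 1), by omega⟩
      have e2 : a ^ ((2 : ℤ) ^ (k + 1 + d) * i') * b0 ^ ((2 : ℤ) ^ (k + 1 + d) * j') = 1 := by
        have := congrArg (· ^ ((2 : ℤ) ^ (1 + d))) e
        simp only [one_zpow, (Commute.zpow_zpow hab _ _).mul_zpow, ← zpow_mul] at this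
        convert this using 3 <;> ring
      obtain ⟨h1, h2⟩ := hone _ _ (dvd_mul_right _ _) (dvd_mul_right _ _) e2
      rw [pow_succ] at h1 h2
      have hne : (2 : ℤ) ^ (k + 1 + d) ≠ 0 := pow_ne_zero _ two_ne_zero
      exact ⟨by rw [pow_succ]; exact mul_dvd_mul_left _ (Int.dvd_of_mul_dvd_mul_left hne h1),
        by rw [pow_succ]; exact mul_dvd_mul_left _ (Int.dvd_of_mul_dvd_mul_left hne h2)⟩
  refine ⟨hind, ?_⟩
  let f : Fin (2 ^ (m + 1)) × Fin (2 ^ (m + 1)) → A := fun p =>
    ⟨a ^ (p.1.1 : ℤ) * b0 ^ (p.2.1 : ℤ), A.mul_mem (A.zpow_mem ha _) (A.zpow_mem hb0A _)⟩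
  have hf : Function.Injective f := by
    rintro ⟨i, j⟩ ⟨k, l⟩ e
    have e' : a ^ (i.1 : ℤ) * b0 ^ (j.1 : ℤ) = a ^ (k.1 : ℤ) * b0 ^ (l.1 : ℤ) := congrArg Subtype.val e
    have e2 : a ^ ((i.1 : ℤ) - k.1) * b0 ^ ((j.1 : ℤ) - l.1) = 1 := by
      rw [sub_eq_add_neg, sub_eq_add_neg, add_comm (i.1 : ℤ), zpow_add, zpow_add, mul_assoc,
        ← mul_assoc (a ^ (i.1 : ℤ)), e']
      group
    obtain ⟨h1, h2⟩ := hind _ _ e2
    have hfin : ∀ i k : Fin (2 ^ (m + 1)), (2 : ℤ) ^ (m + 1) ∣ (i.1 : ℤ) - k.1 → i = k := by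
      intro i k hd
      apply Fin.ext
      have h3 := Nat.modEq_iff_dvd.mpr (by push_cast; exact hd : ((2 ^ (m + 1) : ℕ) : ℤ) ∣ (i.1 : ℤ) - k.1)
      exact (h3.eq_of_lt_of_lt k.2 i.2).symm
    exact Prod.ext (hfin i k h1) (hfin j l h2)
  have hcard : ∀ k : ℕ, ∀ B : Subgroup T, B ≤ A → (∀ b ∈ B, b ^ 2 ^ k = 1) → Nat.card B ≤ 4 ^ k := by
    intro k
    induction k with
    | zero =>
      intro B _ hB
      rw [pow_zero]
      refine le_of_eq ((Subgroup.card_eq_one).mpr (eq_bot_iff.mpr fun b hb => ?_))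
      simpa using hB b hb
    | succ k ih =>
      intro B hBA hB
      have hcB : ∀ x y : B, Commute (x : T) y := fun x y => hA.comm _ (hBA x.2) _ (hBA y.2)
      let g : B →* T :=
        { toFun := fun x => (x : T) ^ 2
          map_one' := by simp
          map_mul' := fun x y => by rw [Subgroup.coe_mul, (hcB x y).mul_pow] }
      have hker : Nat.card g.ker ≤ 4 := by
        rw [← h.card]
        refine Nat.card_le_card_of_injective (fun x => ⟨((x : B) : T), h.mem _ x.2⟩) ?_
        intro x y e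
        exact Subtype.ext (Subtype.ext (congrArg (fun q : V => (q : T)) e))
      have hr : Nat.card g.range ≤ 4 ^ k := by
        refine ih g.range ?_ ?_
        · rintro _ ⟨x, rfl⟩; exact A.pow_mem (hBA x.2) 2
        · rintro _ ⟨x, rfl⟩
          show ((x : T) ^ 2) ^ 2 ^ k = 1
          rw [← pow_mul, ← pow_succ']; exact hB x x.2
      have h4 := g.ker.card_mul_index
      rw [Subgroup.index_ker] at h4
      rw [← h4, pow_succ']
      exact Nat.mul_le_mul hker hr
  have hbij : Function.Bijective f := by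
    cases nonempty_fintype A
    refine (Fintype.bijective_iff_injective_and_card f).mpr ⟨hf, le_antisymm ?_ ?_⟩
    · exact Fintype.card_le_of_injective f hf
    · rw [← Nat.card_eq_fintype_card, Fintype.card_prod, Fintype.card_fin]
      refine (hcard (m + 1) A le_rfl hexp).trans (le_of_eq ?_)
      rw [show (4 : ℕ) = 2 * 2 by rfl, mul_pow]
  intro b hb
  obtain ⟨⟨i, j⟩, hij⟩ := hbij.2 ⟨b, hb⟩
  exact ⟨i.1, j.1, (congrArg Subtype.val hij).symm⟩

theorem exists_max (h : Hyp T V ρ) {A : Subgroup T} (hA : Good T V ρ A) :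
    ∃ (a : T) (m : ℕ), a ∈ A ∧ orderOf a = 2 ^ (m + 1) ∧ ∀ b ∈ A, b ^ 2 ^ (m + 1) = 1 := by
  haveI : Fact (Nat.Prime 2) := ⟨Nat.prime_two⟩
  obtain ⟨a, ha, hmax⟩ := (A : Set T).toFinite.exists_maximalFor (fun b => orderOf b) _ ⟨1, A.one_mem⟩
  obtain ⟨e, he⟩ := IsPGroup.iff_orderOf.mp h.isP a
  rcases Nat.eq_zero_or_pos e with rfl | he0
  · exfalso
    have hbot : V = ⊥ := eq_bot_iff.mpr fun v hv => by
      obtain ⟨f, hf⟩ := IsPGroup.iff_orderOf.mp h.isP v
      rcases le_total (orderOf v) (orderOf a) with hle | hle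
      · rw [he, pow_zero] at hle
        have := orderOf_pos v
        exact Subgroup.mem_bot.mpr (orderOf_eq_one_iff.mp (by omega))
      · have := hmax (hA.le hv) hle
        simp only at this
        rw [he, pow_zero] at this
        have := orderOf_pos v
        exact Subgroup.mem_bot.mpr (orderOf_eq_one_iff.mp (by omega))
    have := h.card
    rw [hbot, Subgroup.card_bot] at this
    omega
  obtain ⟨m, rfl⟩ : ∃ m, e = m + 1 := ⟨e - 1, by omega⟩
  refine ⟨a, m, ha, he, fun b hb => orderOf_dvd_iff_pow_eq_one.mp ?_⟩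
  obtain ⟨f, hf⟩ := IsPGroup.iff_orderOf.mp h.isP b
  rw [hf, Nat.pow_dvd_pow_iff_le_right one_lt_two]
  rcases le_total (orderOf b) (orderOf a) with hle | hle
  · rw [he, hf] at hle; exact (Nat.pow_le_pow_iff_right one_lt_two).mp hle
  · have := hmax hb hle
    simp only at this
    rw [he, hf] at this; exact (Nat.pow_le_pow_iff_right one_lt_two).mp this

theorem exists_good (h : Hyp T V ρ) : ∃ A : Subgroup T, Good T V ρ A ∧
    ∀ B, Good T V ρ B → A ≤ B → B ≤ A := by
  have hV : Good T V ρ V := ⟨⟨fun v hv g => by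
      rw [Subgroup.mem_center_iff.mp (h.cen hv) g, mul_inv_cancel_right]; exact hv⟩,
    fun v hv => h.mapV hv, fun a ha b _ => (Subgroup.mem_center_iff.mp (h.cen ha) b).symm, le_rfl⟩
  obtain ⟨A, hA⟩ := ({B : Subgroup T | Good T V ρ B}).toFinite.exists_maximal ⟨V, hV⟩
  exact ⟨A, hA.prop, fun B hB hle => hA.le_of_ge hB hle⟩

/-- Four elements with prescribed square behaviour give an involution outside. -/
theorem centralizer_le (h : Hyp T V ρ) {A : Subgroup T} (hA : Good T V ρ A)
    (hmax : ∀ B, Good T V ρ B → A ≤ B → B ≤ A) : Subgroup.centralizer (A : Set T) ≤ A := by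
  classical
  haveI : Fact (Nat.Prime 2) := ⟨Nat.prime_two⟩
  haveI := hA.nor
  by_contra hnot
  set π := QuotientGroup.mk' A with hπ
  have hone : ∀ x : T, π x = 1 ↔ x ∈ A := fun x => QuotientGroup.eq_one_iff x
  -- elements of `C(A)` of order two, central modulo `A`
  have hcomm : ∀ x y : T, π y ∈ Subgroup.center (T ⧸ A) → x * y * x⁻¹ * y⁻¹ ∈ A := fun x y hy => by
    rw [← hone, map_mul, map_mul, map_mul, map_inv, map_inv, Subgroup.mem_center_iff.mp hy (π x)]
    group
  let W : Subgroup T :=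
    { carrier := {x | x ∈ Subgroup.centralizer (A : Set T) ∧ x ^ 2 ∈ A ∧ π x ∈ Subgroup.center (T ⧸ A)}
      one_mem' := ⟨Subgroup.one_mem _, by simp, by simp⟩
      mul_mem' := by
        rintro x y ⟨hx1, hx2, hx3⟩ ⟨hy1, hy2, hy3⟩
        refine ⟨Subgroup.mul_mem _ hx1 hy1, ?_, by rw [map_mul]; exact Subgroup.mul_mem _ hx3 hy3⟩
        rw [← hone, map_pow, map_mul, (show Commute (π x) (π y) from Subgroup.mem_center_iff.mp hy3 (π x)).mul_pow,
          ← map_pow, ← map_pow, (hone _).mpr hx2, (hone _).mpr hy2, one_mul]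
      inv_mem' := by
        rintro x ⟨hx1, hx2, hx3⟩
        exact ⟨Subgroup.inv_mem _ hx1, by rw [inv_pow]; exact A.inv_mem hx2,
          by rw [map_inv]; exact Subgroup.inv_mem _ hx3⟩ }
  have hAW : A ≤ W := fun a ha => ⟨Subgroup.mem_centralizer_iff.mpr fun b hb => hA.comm b hb a ha,
    A.pow_mem ha 2, by rw [(hone a).mpr ha]; exact Subgroup.one_mem _⟩
  obtain ⟨m3, hm3, hm31⟩ := h.cube_ord
  have hfixA : ∀ a ∈ A, (ρ ^ 3) a = a := h.cube_of_abelian hA.inv hA.comm
  obtain ⟨k, hk⟩ := h.ord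
  have hsurjA : ∀ a ∈ A, ∃ b ∈ A, ρ b = a := by
    intro a ha
    let f : A → A := fun b => ⟨ρ b, hA.inv _ b.2⟩
    obtain ⟨b, hb⟩ := Finite.surjective_of_injective
      (f := f) (fun b c e => Subtype.ext (ρ.injective (congrArg Subtype.val e))) ⟨a, ha⟩
    exact ⟨b, b.2, congrArg Subtype.val hb⟩
  have hWinv : ∀ x ∈ W, ρ x ∈ W := by
    rintro x ⟨hx1, hx2, hx3⟩
    refine ⟨Subgroup.mem_centralizer_iff.mpr fun a ha => ?_, by rw [← map_pow]; exact hA.inv _ hx2, ?_⟩
    · obtain ⟨b, hb, rfl⟩ := hsurjA a ha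
      rw [← map_mul, ← map_mul, Subgroup.mem_centralizer_iff.mp hx1 b hb]
    · rw [Subgroup.mem_center_iff]
      intro q
      obtain ⟨t, rfl⟩ := QuotientGroup.mk'_surjective A q
      obtain ⟨s, rfl⟩ := ρ.surjective t
      have := hA.inv _ (hcomm s x hx3)
      rw [← hone, map_mul, map_mul, map_mul, map_inv, map_inv, map_mul, map_mul, map_mul, map_inv, map_inv] at this
      exact mul_inv_eq_iff_eq_mul.mp (mul_inv_eq_one.mp this)
  obtain ⟨x0, hx0W, hx0A⟩ : ∃ x ∈ W, x ∉ A := by
    set N := (Subgroup.centralizer (A : Set T)).map π with hN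
    have hNne : N ≠ ⊥ := fun e => hnot fun x hx => (hone x).mp
      (Subgroup.mem_bot.mp (e ▸ Subgroup.mem_map_of_mem π hx : π x ∈ (⊥ : Subgroup (T ⧸ A))))
    have hNn : N.Normal := (inferInstance : (Subgroup.centralizer (A : Set T)).Normal).map π
      (QuotientGroup.mk'_surjective A)
    set Z := N ⊓ Subgroup.center (T ⧸ A) with hZ
    have hQ : IsPGroup 2 (T ⧸ A) := h.isP.to_quotient A
    have hZne : Z ≠ ⊥ := by
      haveI := hQ.isNilpotent
      haveI := hNn
      have := CfsgLib.OddOrder.PuigSeries.inf_center_ne_bot N hNne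
      rwa [inf_comm] at this
    haveI : Nontrivial Z := (Subgroup.nontrivial_iff_ne_bot Z).mpr hZne
    obtain ⟨j, hj, hcard⟩ := (hQ.to_subgroup Z).nontrivial_iff_card.mp inferInstance
    obtain ⟨⟨z, hzN, hzc⟩, hz⟩ := exists_prime_orderOf_dvd_card' (G := Z) 2 (by rw [hcard]; exact dvd_pow_self 2 hj.ne')
    obtain ⟨x, hx, rfl⟩ := hzN
    rw [← Subgroup.orderOf_coe] at hz
    refine ⟨x, ⟨hx, ?_, hzc⟩, fun hxA => ?_⟩
    · rw [← hone, map_pow, ← hz, pow_orderOf_eq_one]
    · have : orderOf (π x) = 1 := orderOf_eq_one_iff.mpr ((hone x).mpr hxA)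
      rw [hz] at this
      omega
  by_cases hj0 : ∃ x ∈ W, x ∉ A ∧ x⁻¹ * (ρ ^ 3) x ∈ A
  · obtain ⟨x, hxW, hxA, hxc⟩ := hj0
    have hfix : (ρ ^ 3) x = x :=
      fix_coset hm3 hm31 (hfixA _ hxc) (h.pow_two_pow _) (mul_inv_cancel_left x _).symm
    obtain ⟨e1, e2⟩ := h.comm_of_cube hfix
    set B := Subgroup.closure ((A : Set T) ∪ {x, ρ x}) with hB
    have hAB : A ≤ B := fun a ha => Subgroup.subset_closure (Or.inl ha)
    have hxB : x ∈ B := Subgroup.subset_closure (Or.inr (Or.inl rfl))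
    have hρxB : ρ x ∈ B := Subgroup.subset_closure (Or.inr (Or.inr rfl))
    have hBW : B ≤ W := by
      rw [hB, Subgroup.closure_le]
      rintro y (hy | hy | hy)
      · exact hAW hy
      · rw [hy]; exact hxW
      · rw [show y = ρ x from hy]; exact hWinv x hxW
    have hρρ : ρ (ρ x) = (x * ρ x)⁻¹ := eq_inv_of_mul_eq_one_right e1
    have hgood : Good T V ρ B := by
      refine ⟨⟨fun y hy t => ?_⟩, ?_, ?_, hA.le.trans hAB⟩
      · have := B.mul_mem (hAB (hcomm t y (hBW hy).2.2)) hy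
        simpa using this
      · intro y hy
        have : B ≤ B.comap ρ.toMonoidHom := by
          conv_lhs => rw [hB]
          rw [Subgroup.closure_le]
          rintro y (hy | hy | hy)
          · exact hAB (hA.inv y hy)
          · rw [hy]; exact hρxB
          · rw [show y = ρ x from hy]
            show ρ (ρ x) ∈ B
            rw [hρρ]; exact B.inv_mem (B.mul_mem hxB hρxB)
        exact this hy
      · have hgen : ∀ y ∈ (A : Set T) ∪ {x, ρ x}, ∀ z ∈ (A : Set T) ∪ {x, ρ x}, Commute y z := by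
          have hA' : ∀ y ∈ A, ∀ z ∈ W, Commute y z := fun y hy z hz =>
            Subgroup.mem_centralizer_iff.mp hz.1 y hy
          rintro y (hy | hy | hy) z (hz | hz | hz)
          · exact hA.comm y hy z hz
          · rw [hz]; exact hA' y hy x hxW
          · rw [show z = ρ x from hz]; exact hA' y hy _ (hWinv x hxW)
          · rw [hy]; exact (hA' z hz x hxW).symm
          · rw [hy, hz]
          · rw [hy, show z = ρ x from hz]; exact e2
          · rw [show y = ρ x from hy]; exact (hA' z hz _ (hWinv x hxW)).symm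
          · rw [show y = ρ x from hy, hz]; exact e2.symm
          · rw [show y = ρ x from hy, show z = ρ x from hz]
        intro a ha b hb
        have h2 : B ≤ Subgroup.centralizer (B : Set T) := by
          rw [hB, Subgroup.closure_le]
          intro y hy
          rw [SetLike.mem_coe, Subgroup.mem_centralizer_iff]
          intro z hz
          have : Subgroup.closure ((A : Set T) ∪ {x, ρ x}) ≤ Subgroup.centralizer ({y} : Set T) := by
            rw [Subgroup.closure_le]
            exact fun w hw => Subgroup.mem_centralizer_singleton_iff.mpr (hgen w hw y hy).eq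
          exact Subgroup.mem_centralizer_singleton_iff.mp (this hz)
        exact (Subgroup.mem_centralizer_iff.mp (h2 hb) a ha)
    exact hxA (hmax B hgood hAB hxB)
  push Not at hj0
  -- `ρ³` is fixed-point-free on `W/A`
  have hW3 : ∀ w ∈ W, ∃ u ∈ W, w⁻¹ * (u⁻¹ * (ρ ^ 3) u) ∈ A := by
    set M := W.map π
    have hmapπ : ∀ x ∈ W, ∀ y ∈ W, π x = π y → π ((ρ ^ 3) x) = π ((ρ ^ 3) y) := by
      intro x _ y _ e
      have h1 : x⁻¹ * y ∈ A := QuotientGroup.eq.mp e
      have h2 : (ρ ^ 3) (x⁻¹ * y) ∈ A := by rw [hfixA _ h1]; exact h1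
      rw [map_mul, map_inv] at h2
      exact QuotientGroup.eq.mpr h2
    have hρ3W : ∀ x ∈ W, (ρ ^ 3) x ∈ W := fun x hx => by
      simp only [pow_succ, pow_zero, one_mul, MulAut.mul_apply]; exact hWinv _ (hWinv _ (hWinv x hx))
    intro w hw
    choose r hr hre using fun q : M => q.2
    let f : M → M := fun q => ⟨π ((r q)⁻¹ * (ρ ^ 3) (r q)),
      _, W.mul_mem (W.inv_mem (hr q)) (hρ3W _ (hr q)), rfl⟩
    have hf : Function.Injective f := by
      intro q q' e
      have e' : π ((r q)⁻¹ * (ρ ^ 3) (r q)) = π ((r q')⁻¹ * (ρ ^ 3) (r q')) := congrArg Subtype.val e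
      set y := r q' * (r q)⁻¹ with hy
      have hyW : y ∈ W := W.mul_mem (hr q') (W.inv_mem (hr q))
      have hyA : y ∈ A := by
        by_contra hyA
        refine hj0 y hyW hyA ((hone _).mp ?_)
        have e3 : π ((ρ ^ 3) (r q')) = π (r q') * (π (r q))⁻¹ * π ((ρ ^ 3) (r q)) := by
          simp only [map_mul, map_inv] at e' ⊢
          rw [mul_assoc, e']
          group
        have hcq : π (r q) ∈ Subgroup.center (T ⧸ A) := (hr q).2.2
        rw [hy]
        simp only [map_inv, map_mul]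
        rw [e3]
        group
      apply Subtype.ext
      rw [← hre q, ← hre q']
      refine QuotientGroup.eq.mpr ?_
      have h5 := hA.nor.conj_mem _ hyA (r q)⁻¹
      rw [hy] at h5
      simpa [mul_assoc] using h5
    obtain ⟨q, hq⟩ := Finite.surjective_of_injective hf ⟨π w, w, hw, rfl⟩
    exact ⟨r q, hr q, QuotientGroup.eq.mp (congrArg Subtype.val hq).symm⟩
  have hcA : ∀ x ∈ W, ∀ a ∈ A, Commute a x := fun x hx a ha => Subgroup.mem_centralizer_iff.mp hx.1 a ha
  have hsq_comm : ∀ x ∈ W, ∀ y ∈ W, ∃ v ∈ V, y * x = v * (x * y) := by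
    intro x hx y hy
    refine ⟨y * x * y⁻¹ * x⁻¹, h.mem _ ?_, by group⟩
    set cc := y * x * y⁻¹ * x⁻¹ with hcc
    have hccA : cc ∈ A := hcomm y x hx.2.2
    have h1 : cc * x = y * x * y⁻¹ := by rw [hcc]; group
    have h2 : y * x ^ 2 * y⁻¹ = x ^ 2 := by rw [← (hcA y hy _ hx.2.1).eq, mul_inv_cancel_right]
    have h3 : cc ^ 2 * x ^ 2 = x ^ 2 := by
      rw [← (hcA x hx cc hccA).mul_pow, h1, conj_pow, h2]
    exact mul_eq_right.mp h3
  obtain ⟨a, m, ha, hord, hexp⟩ := h.exists_max hA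
  obtain ⟨-, hgen⟩ := h.span hA ha m hord hexp
  rcases Nat.eq_zero_or_pos m with rfl | hm
  · -- `A = V`, everything centralizes it
    have hAV : A ≤ V := fun b hb => h.mem b (by simpa using hexp b hb)
    have hWsq : ∀ x ∈ W, x ^ 2 ∈ V := fun x hx => hAV hx.2.1
    -- iterates
    have hit : ∀ (x : T), x ∈ W → ∀ i : ℕ, (ρ ^ i) x ∈ W := by
      intro x hx i
      induction i with
      | zero => exact hx
      | succ i ih => rw [pow_succ', MulAut.mul_apply]; exact hWinv _ ih
    -- orbit representatives modulo `A`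
    let orb : T → ℕ → T ⧸ A := fun x i => π ((ρ ^ i) x)
    have hstep : ∀ x y : T, π x = π y → π (ρ x) = π (ρ y) := fun x y e => by
      have h1 := hA.inv _ (QuotientGroup.eq.mp e)
      rw [map_mul, map_inv] at h1
      exact QuotientGroup.eq.mpr h1
    have hshift : ∀ x y : T, π x = π y → ∀ i : ℕ, orb x i = orb y i := by
      intro x y e i
      induction i with
      | zero => exact e
      | succ i ih => simp only [orb, pow_succ', MulAut.mul_apply]; exact hstep _ _ ih
    have hper : ∀ x i, orb x i = π x → ∀ j, orb x (i * j) = π x := by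
      intro x i e j
      induction j with
      | zero => rfl
      | succ j ih =>
        show π ((ρ ^ (i * (j + 1))) x) = π x
        rw [mul_add, mul_one, pow_add, MulAut.mul_apply]
        exact (hshift _ _ e (i * j)).trans ih
    have hfree : ∀ x ∈ W, x ∉ A → ∀ i, 0 < i → i < 9 → orb x i ≠ π x := by
      intro x hx hxA i hi0 hi9 e
      have h3 : orb x (3 ^ k) = π x := by show π ((ρ ^ 3 ^ k) x) = π x; rw [hk]; rfl
      have hg : orb x (Nat.gcd i (3 ^ k)) = π x := by
        obtain ⟨u, hu, hmod⟩ := Nat.exists_mul_mod_eq_gcd (n := i) (k := 3 ^ k) (by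
          refine lt_of_le_of_lt (Nat.gcd_le_left _ hi0) ?_
          by_contra hle
          push Not at hle
          have hk9 : k ≤ 1 := by
            by_contra hk2
            have := Nat.pow_le_pow_right (show 1 ≤ 3 by norm_num) (show 2 ≤ k by omega)
            omega
          refine hj0 x hx hxA ((hone _).mp ?_)
          have : (ρ ^ 3) x = x := by
            rcases Nat.le_one_iff_eq_zero_or_eq_one.mp hk9 with rfl | rfl
            · rw [pow_zero, pow_one] at hk; rw [hk, one_pow]; rfl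
            · rw [pow_one] at hk; rw [hk]; rfl
          rw [this, inv_mul_cancel, map_one])
        have h4 := hper x i e u
        show π ((ρ ^ Nat.gcd i (3 ^ k)) x) = π x
        rw [← Nat.mod_add_div (i * u) (3 ^ k), hmod] at h4
        simp only [orb, pow_add, MulAut.mul_apply, pow_mul, hk, one_pow, MulAut.one_apply] at h4
        exact h4
      obtain ⟨j, -, hj⟩ := (Nat.dvd_prime_pow Nat.prime_three).mp (Nat.gcd_dvd_right i (3 ^ k))
      have hjle : j ≤ 1 := by
        have h5 : 3 ^ j ≤ i := by rw [← hj]; exact Nat.gcd_le_left _ hi0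
        by_contra hj2
        have := Nat.pow_le_pow_right (show 1 ≤ 3 by norm_num) (show 2 ≤ j by omega)
        omega
      rw [hj] at hg
      have h6 : orb x 3 = π x := by
        rcases Nat.le_one_iff_eq_zero_or_eq_one.mp hjle with rfl | rfl
        · exact hper x 1 hg 3
        · exact hg
      refine hj0 x hx hxA ((hone _).mp ?_)
      rw [map_mul, map_inv]
      exact inv_mul_eq_one.mpr h6.symm
    set M := W.map π with hMdef
    have hMmem : ∀ x ∈ W, ∀ i, orb x i ∈ M := fun x hx i => ⟨_, hit x hx i, rfl⟩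
    have hne1 : ∀ x, x ∉ A → ∀ i, orb x i ≠ 1 := by
      intro x hxA i e
      apply hxA
      induction i with
      | zero => exact (hone x).mp e
      | succ i ih =>
        apply ih
        simp only [orb, pow_succ', MulAut.mul_apply] at e
        obtain ⟨b, hb, hbe⟩ := hsurjA _ ((hone _).mp e)
        show π ((ρ ^ i) x) = 1
        rw [← ρ.injective hbe]
        exact (hone b).mpr hb
    have hinj9 : ∀ x ∈ W, x ∉ A → ∀ i j : Fin 9, orb x i = orb x j → i = j := by
      intro x hx hxA i j e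
      by_contra hne
      wlog hlt : (i : ℕ) < j generalizing i j
      · exact this j i e.symm (Ne.symm hne) (lt_of_le_of_ne (not_lt.mp hlt) fun e' => hne (Fin.ext e'.symm))
      have h1 : π ((ρ ^ (i : ℕ)) x) = π ((ρ ^ ((j : ℕ) - i)) ((ρ ^ (i : ℕ)) x)) := by
        rw [← MulAut.mul_apply, ← pow_add, Nat.sub_add_cancel hlt.le]; exact e
      exact hfree _ (hit x hx i) (fun hm' => hne1 x hxA i ((hone _).mpr hm')) ((j : ℕ) - i)
        (by omega) (by omega) h1.symm
    have hM2 : IsPGroup 2 M := (h.isP.to_quotient A).to_subgroup M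
    obtain ⟨e, he⟩ := IsPGroup.iff_card.mp hM2
    have hMcard3 : Nat.card M % 3 = 1 := by
      haveI : Fact (Nat.Prime 3) := ⟨Nat.prime_three⟩
      let ρ' : (T ⧸ A) →* (T ⧸ A) := QuotientGroup.map A A ρ.toMonoidHom hA.inv
      have hρ' : ∀ x, ρ' (π x) = π (ρ x) := fun x => rfl
      let σ : Function.End M := fun q => ⟨ρ' q, by
        obtain ⟨x, hx, hxe⟩ := q.2
        exact ⟨ρ x, hWinv x hx, by rw [← hxe]; rfl⟩⟩
      have hσv : ∀ (i : ℕ) (q : M) (x : T), π x = q → ((σ ^ i) q : T ⧸ A) = π ((ρ ^ i) x) := by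
        intro i
        induction i with
        | zero => intro q x e; exact e.symm
        | succ i ih =>
          intro q x e
          show ((σ ^ (i + 1)) q : T ⧸ A) = _
          rw [pow_succ]
          show (((σ ^ i) (σ q) : M) : T ⧸ A) = _
          rw [ih (σ q) (ρ x) (by rw [← hρ', e]), pow_succ]
          rfl
      have hσ : σ ^ (3 ^ k) = 1 := by
        funext q
        obtain ⟨x, hx, hxe⟩ := q.2
        apply Subtype.ext
        rw [hσv _ q x hxe, hk]
        exact hxe
      cases nonempty_fintype M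
      have h' := Equiv.Perm.card_fixedPoints_modEq (p := 3) (n := k) hσ
      have h1 : Fintype.card (Function.fixedPoints σ) = 1 := by
        rw [Fintype.card_eq_one_iff]
        refine ⟨⟨1, Subtype.ext (map_one ρ')⟩, fun q => Subtype.ext (Subtype.ext ?_)⟩
        obtain ⟨x, hx, hxe⟩ := q.1.2
        show ((q.1 : M) : T ⧸ A) = 1
        by_contra hq1
        have hxA : x ∉ A := fun hxA => hq1 (by rw [← hxe]; exact (hone x).mpr hxA)
        refine hfree x hx hxA 1 one_pos (by norm_num) ?_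
        have h7 : ((σ q.1 : M) : T ⧸ A) = (q.1 : M) := congrArg Subtype.val q.2
        have h8 := hσv 1 q.1 x hxe
        rw [pow_one] at h8
        show π ((ρ ^ 1) x) = π x
        rw [← h8, h7, hxe]
      rw [h1] at h'
      rw [Nat.card_eq_fintype_card]
      exact h'
    have hbig : 2 ^ 6 ≤ Nat.card M := by
      by_contra hlt
      rw [he] at hMcard3 hlt
      have hge : 10 ≤ 2 ^ e := by
        rw [← he]
        let g : Option (Fin 9) → M := fun o => o.elim 1 fun i => ⟨orb x0 i, hMmem x0 hx0W i⟩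
        have hg : Function.Injective g := by
          rintro (_ | i) (_ | j) e'
          · rfl
          · exact absurd (congrArg Subtype.val e').symm (hne1 x0 hx0A j)
          · exact absurd (congrArg Subtype.val e') (hne1 x0 hx0A i)
          · exact congrArg some (hinj9 x0 hx0W hx0A i j (congrArg Subtype.val e'))
        simpa using Nat.card_le_card_of_injective g hg
      have he4 : e = 4 := by
        have h4 : 4 ≤ e := by
          by_contra h4
          have := Nat.pow_le_pow_right (show 1 ≤ 2 by norm_num) (show e ≤ 3 by omega)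
          omega
        have h5 : e < 6 := by
          by_contra h5
          exact hlt (Nat.pow_le_pow_right (by norm_num) (by omega))
        interval_cases e
        · rfl
        · norm_num at hMcard3
      subst he4
      -- the orbit of `x0` closes after nine steps
      have h9 : orb x0 9 = π x0 := by
        by_contra h9
        have h27 : ∀ i, 0 < i → i < 27 → orb x0 i ≠ π x0 := by
          intro i hi0 hi27 e'
          have hg : orb x0 (Nat.gcd i (3 ^ k)) = π x0 := by
            rcases lt_or_ge (Nat.gcd i (3 ^ k)) (3 ^ k) with hgl | hgl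
            · obtain ⟨u, hu, hmod⟩ := Nat.exists_mul_mod_eq_gcd (n := i) (k := 3 ^ k) hgl
              have h4 := hper x0 i e' u
              show π ((ρ ^ Nat.gcd i (3 ^ k)) x0) = π x0
              rw [← Nat.mod_add_div (i * u) (3 ^ k), hmod] at h4
              simp only [orb, pow_add, MulAut.mul_apply, pow_mul, hk, one_pow, MulAut.one_apply] at h4
              exact h4
            · show π ((ρ ^ Nat.gcd i (3 ^ k)) x0) = π x0
              rw [le_antisymm (Nat.le_of_dvd (pow_pos (by norm_num) k) (Nat.gcd_dvd_right _ _)) hgl, hk]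
              rfl
          obtain ⟨j, -, hj⟩ := (Nat.dvd_prime_pow Nat.prime_three).mp (Nat.gcd_dvd_right i (3 ^ k))
          have hjle : j ≤ 2 := by
            have h5 : 3 ^ j ≤ i := by rw [← hj]; exact Nat.gcd_le_left _ hi0
            by_contra hj2
            have := Nat.pow_le_pow_right (show 1 ≤ 3 by norm_num) (show 3 ≤ j by omega)
            omega
          rw [hj] at hg
          interval_cases j
          · exact h9 (hper x0 1 hg 9)
          · exact h9 (hper x0 3 hg 3)
          · exact h9 hg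
        let g : Fin 27 → M := fun i => ⟨orb x0 i, hMmem x0 hx0W i⟩
        have hg : Function.Injective g := by
          intro i j e'
          by_contra hne
          have e'' : orb x0 i = orb x0 j := congrArg Subtype.val e'
          wlog hltij : (i : ℕ) < j generalizing i j
          · exact this e'.symm (Ne.symm hne) e''.symm (lt_of_le_of_ne (not_lt.mp hltij) fun e' => hne (Fin.ext e'.symm))
          have h1 : π ((ρ ^ (j : ℕ)) x0) = π ((ρ ^ (i : ℕ)) ((ρ ^ ((j : ℕ) - i)) x0)) := by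
            rw [← MulAut.mul_apply, ← pow_add, Nat.add_sub_cancel' hltij.le]
          have h2 : orb x0 ((j : ℕ) - i) = π x0 := by
            have h3 : π ((ρ ^ (i : ℕ)) ((ρ ^ ((j : ℕ) - i)) x0)) = π ((ρ ^ (i : ℕ)) x0) := h1.symm.trans e''.symm
            have h4 : ∀ n : ℕ, ∀ y z : T, π ((ρ ^ n) y) = π ((ρ ^ n) z) → π y = π z := by
              intro n
              induction n with
              | zero => intro y z e4; exact e4
              | succ n ihn =>
                intro y z e4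
                rw [pow_succ', MulAut.mul_apply, MulAut.mul_apply] at e4
                apply ihn
                obtain ⟨b, hb, hbe⟩ := hsurjA _ (QuotientGroup.eq.mp e4)
                rw [← map_inv, ← map_mul] at hbe
                exact QuotientGroup.eq.mpr (ρ.injective hbe ▸ hb)
            exact h4 _ _ _ h3
          exact h27 _ (by omega) (by omega) h2
        have := Nat.card_le_card_of_injective g hg
        rw [Nat.card_fin, he] at this
        norm_num at this
      obtain ⟨q, hq1, hqO⟩ : ∃ q : M, (q : T ⧸ A) ≠ 1 ∧ ∀ i : Fin 9, (q : T ⧸ A) ≠ orb x0 i := by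
        by_contra! hcon
        let g : Option (Fin 9) → M := fun o => o.elim 1 fun i => ⟨orb x0 i, hMmem x0 hx0W i⟩
        have hg : Function.Surjective g := by
          intro q
          by_cases hq : (q : T ⧸ A) = 1
          · exact ⟨none, Subtype.ext hq.symm⟩
          · obtain ⟨i, hi⟩ := hcon q hq
            exact ⟨some i, Subtype.ext hi.symm⟩
        have := Nat.card_le_card_of_surjective g hg
        rw [he] at this
        simp at this
      obtain ⟨y, hyW, hye⟩ := q.2
      have hyA : y ∉ A := fun hyA => hq1 (by rw [← hye]; exact (hone y).mpr hyA)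
      let g : Option (Fin 9 ⊕ Fin 9) → M := fun o => o.elim 1 fun s =>
        s.elim (fun i : Fin 9 => ⟨orb x0 i, hMmem x0 hx0W i⟩) fun i : Fin 9 => ⟨orb y i, hMmem y hyW i⟩
      have hdisj : ∀ i j : Fin 9, orb x0 i ≠ orb y j := by
        intro i j e'
        -- apply `ρ ^ (9 * 3 ^ k - j)` to both sides
        set c := 9 * 3 ^ k - (j : ℕ) with hc
        have hcj : c + (j : ℕ) = 9 * 3 ^ k := by
          have : 1 ≤ 3 ^ k := Nat.one_le_pow _ _ (by norm_num)
          omega
        have h1 : π ((ρ ^ c) ((ρ ^ (i : ℕ)) x0)) = π ((ρ ^ c) ((ρ ^ (j : ℕ)) y)) := hshift _ _ e' c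
        rw [← MulAut.mul_apply, ← MulAut.mul_apply, ← pow_add, ← pow_add, hcj, pow_mul'] at h1
        simp only [hk, one_pow, MulAut.one_apply] at h1
        have h2 : orb x0 (c + i) = orb x0 ((c + i) % 9) := by
          conv_lhs => rw [← Nat.mod_add_div (c + i) 9]
          show π ((ρ ^ ((c + i) % 9 + 9 * ((c + i) / 9))) x0) = _
          rw [pow_add, MulAut.mul_apply]
          exact hshift _ _ (hper x0 9 h9 _) _
        refine hqO ⟨(c + i) % 9, Nat.mod_lt _ (by norm_num)⟩ ?_
        rw [← hye, ← h1]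
        exact h2
      have hg : Function.Injective g := by
        rintro (_ | i | i) (_ | j | j) e'
        · rfl
        · exact absurd (congrArg Subtype.val e').symm (hne1 x0 hx0A j)
        · exact absurd (congrArg Subtype.val e').symm (hne1 y hyA j)
        · exact absurd (congrArg Subtype.val e') (hne1 x0 hx0A i)
        · exact congrArg (fun l => some (Sum.inl l)) (hinj9 x0 hx0W hx0A i j (congrArg Subtype.val e'))
        · exact absurd (congrArg Subtype.val e') (hdisj i j)
        · exact absurd (congrArg Subtype.val e') (hne1 y hyA i)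
        · exact absurd (congrArg Subtype.val e').symm (hdisj j i)
        · exact congrArg (fun l => some (Sum.inr l)) (hinj9 y hyW hyA i j (congrArg Subtype.val e'))
      have := Nat.card_le_card_of_injective g hg
      rw [he] at this
      simp at this
    -- a big centralizer contradicts the absence of outside involutions
    have hWbig : 256 ≤ Nat.card W := by
      have e1 := (A.subgroupOf W).card_mul_index
      have e2 : (A.subgroupOf W).index = Nat.card M := by
        have e3 : A.subgroupOf W = (π.comp W.subtype).ker := by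
          ext w; exact (hone (w : T)).symm
        rw [e3, Subgroup.index_ker, MonoidHom.range_comp, Subgroup.range_subtype]
      rw [Nat.card_congr (Subgroup.subgroupOfEquivOfLe hAW).toEquiv, e2] at e1
      have : 4 ≤ Nat.card A := h.card ▸ Subgroup.card_le_of_le hA.le
      calc 256 = 4 * 2 ^ 6 := by norm_num
        _ ≤ Nat.card W := e1 ▸ Nat.mul_le_mul this hbig
    have hvc : ∀ v ∈ V, ∀ t, Commute v t := fun v hv t => (Subgroup.mem_center_iff.mp (h.cen hv) t).symm
    let C : Subgroup T := W ⊓ Subgroup.centralizer {x0}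
    have hxC : x0 ∈ C := ⟨hx0W, Subgroup.mem_centralizer_singleton_iff.mpr rfl⟩
    have hCbig : 64 ≤ Nat.card C := by
      let f : W → V := fun w => ⟨(w : T) * x0 * (w : T)⁻¹ * x0⁻¹,
        hAV (hcomm (w : T) x0 hx0W.2.2)⟩
      let fh : W →* V := MonoidHom.mk' f fun s t => Subtype.ext (by
        show (s : T) * t * x0 * ((s : T) * t)⁻¹ * x0⁻¹ =
          ((s : T) * x0 * (s : T)⁻¹ * x0⁻¹) * ((t : T) * x0 * (t : T)⁻¹ * x0⁻¹)
        calc _ = (s : T) * ((t : T) * x0 * (t : T)⁻¹ * x0⁻¹) * (s : T)⁻¹ * ((s : T) * x0 * (s : T)⁻¹ * x0⁻¹) := by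
              group
          _ = ((t : T) * x0 * (t : T)⁻¹ * x0⁻¹) * ((s : T) * x0 * (s : T)⁻¹ * x0⁻¹) := by
              rw [← (hvc _ (f t).2 (s : T)).eq, mul_inv_cancel_right]
          _ = _ := (hvc _ (f t).2 _).eq)
      have e1 := fh.ker.card_mul_index
      rw [Subgroup.index_ker] at e1
      have e2 : Nat.card fh.range ≤ 4 := h.card ▸ Nat.card_le_card_of_injective _ fh.range.subtype_injective
      have e3 : Nat.card fh.ker ≤ Nat.card C := by
        refine Nat.card_le_card_of_injective (fun w => ⟨((w : W) : T), (w : W).2,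
          Subgroup.mem_centralizer_singleton_iff.mpr ?_⟩) ?_
        · exact mul_inv_eq_iff_eq_mul.mp (mul_inv_eq_one.mp (congrArg Subtype.val (w.2 : fh (w : W) = 1)))
        · intro s t e; exact Subtype.ext (Subtype.ext (congrArg (fun z : C => (z : T)) e))
      have := Nat.mul_le_mul e3 e2
      omega
    let P : Subgroup T := Subgroup.zpowers (x0 ^ 2)
    have hq0 : x0 ^ 2 ∈ V := hWsq x0 hx0W
    have hPeq : ∀ v ∈ P, v = 1 ∨ v = x0 ^ 2 := by
      rintro _ ⟨i, rfl⟩
      have h2 : (x0 ^ 2) ^ (2 : ℤ) = 1 := (zpow_ofNat _ 2).trans (h.sq _ hq0)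
      rcases Int.even_or_odd i with ⟨l, rfl⟩ | ⟨l, rfl⟩
      · left; show (x0 ^ 2) ^ (l + l) = 1; rw [← two_mul, zpow_mul, h2, one_zpow]
      · right; show (x0 ^ 2) ^ (2 * l + 1) = _; rw [zpow_add, zpow_mul, h2, one_zpow, one_mul, zpow_one]
    -- squares of elements of `C` outside `⟨x0⟩ V` avoid `P`
    let D : Subgroup T := Subgroup.zpowers x0 ⊔ V
    have hout : ∀ g ∈ C, g ^ 2 ∈ P → g ∈ D := by
      intro g hg hgP
      rcases hPeq _ hgP with e | e
      · exact Subgroup.mem_sup_right (h.mem g e)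
      · have hcg : Commute g x0 := Subgroup.mem_centralizer_singleton_iff.mp hg.2
        have : g * x0⁻¹ ∈ V := h.mem _ (by rw [hcg.inv_right.mul_pow, e, inv_pow, mul_inv_cancel])
        have h2 := Subgroup.mul_mem _ (Subgroup.mem_sup_right this : g * x0⁻¹ ∈ D)
          (Subgroup.mem_sup_left (Subgroup.mem_zpowers x0))
        simpa using h2
    have hDcard : Nat.card D ≤ 8 := by
      have hDf : ∀ g ∈ D, g ∈ V ∨ g * x0⁻¹ ∈ V := by
        intro g hg
        haveI : V.Normal := ⟨fun v hv t => by rw [← (hvc v hv t).eq, mul_inv_cancel_right]; exact hv⟩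
        obtain ⟨s, ⟨i, rfl⟩, v, hv, rfl⟩ := Subgroup.mem_sup_of_normal_right.mp hg
        rcases Int.even_or_odd i with ⟨l, rfl⟩ | ⟨l, rfl⟩
        · left
          refine V.mul_mem ?_ hv
          show x0 ^ (l + l) ∈ V
          rw [← two_mul, zpow_mul, zpow_ofNat]; exact V.zpow_mem hq0 l
        · right
          show x0 ^ (2 * l + 1) * v * x0⁻¹ ∈ V
          rw [mul_assoc, (hvc v hv x0⁻¹).eq, ← mul_assoc, zpow_add, zpow_one, mul_inv_cancel_right, zpow_mul, zpow_ofNat]
          exact V.mul_mem (V.zpow_mem hq0 l) hv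
      let g : D → V ⊕ V := fun d =>
        if hd : (d : T) ∈ V then Sum.inl ⟨d, hd⟩ else Sum.inr ⟨(d : T) * x0⁻¹, (hDf d d.2).resolve_left hd⟩
      have hg : Function.Injective g := by
        intro s t e
        simp only [g] at e
        split_ifs at e with h1 h2 h2
        · simp only [Sum.inl.injEq, Subtype.mk.injEq] at e; exact Subtype.ext e
        · simp only [Sum.inr.injEq, Subtype.mk.injEq] at e; exact Subtype.ext (mul_right_cancel e)
      have := Nat.card_le_card_of_injective g hg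
      rw [Nat.card_sum, h.card] at this
      omega
    -- three elements independent modulo `D`
    obtain ⟨z1, hz1C, hz1⟩ : ∃ z ∈ C, z ∉ D := by
      by_contra! hcon
      have := Nat.card_le_card_of_injective (fun c : C => (⟨c, hcon c c.2⟩ : D))
        (fun s t e => Subtype.ext (congrArg (fun d : D => (d : T)) e))
      omega
    have pick : ∀ (E : Subgroup T), Nat.card E < 64 → ∃ z ∈ C, z ∉ E := by
      intro E hE
      by_contra! hcon
      have := Nat.card_le_card_of_injective (fun c : C => (⟨c, hcon c c.2⟩ : E))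
        (fun s t e => Subtype.ext (congrArg (fun d : E => (d : T)) e))
      omega
    have hdouble : ∀ (E : Subgroup T), V ≤ E → E ≤ W → ∀ z ∈ W,
        ∃ E' : Subgroup T, E ≤ E' ∧ z ∈ E' ∧ E' ≤ W ∧ Nat.card E' ≤ 2 * Nat.card E := by
      intro E hVE hEW z hz
      have hn : ∀ e ∈ E, z * e * z⁻¹ ∈ E := fun e he => by
        obtain ⟨v, hv, hvv⟩ := hsq_comm e (hEW he) z hz
        have : z * e * z⁻¹ = v * e := by rw [hvv]; group
        rw [this]; exact E.mul_mem (hVE hv) he
      have hn' : ∀ e ∈ E, z⁻¹ * e * z ∈ E := fun e he => by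
        have h1 := hn _ he
        have hz2 : z ^ 2 ∈ E := hVE (hWsq z hz)
        have h3 := E.mul_mem (E.mul_mem (E.inv_mem hz2) h1) hz2
        rw [pow_two] at h3
        simpa [mul_assoc] using h3
      let E' : Subgroup T :=
        { carrier := {g | g ∈ E ∨ g * z⁻¹ ∈ E}
          one_mem' := Or.inl E.one_mem
          mul_mem' := by
            rintro s t (hs | hs) (ht | ht)
            · exact Or.inl (E.mul_mem hs ht)
            · exact Or.inr (by rw [mul_assoc]; exact E.mul_mem hs ht)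
            · right
              have := E.mul_mem hs (hn t ht)
              simpa [mul_assoc] using this
            · left
              have := E.mul_mem (E.mul_mem hs (hn _ ht)) (hVE (hWsq z hz))
              simpa [mul_assoc, pow_two] using this
          inv_mem' := by
            rintro s (hs | hs)
            · exact Or.inl (E.inv_mem hs)
            · right
              have := E.mul_mem (hn' _ (E.inv_mem hs)) (E.inv_mem (hVE (hWsq z hz)))
              simpa [mul_assoc, pow_two] using this }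
      refine ⟨E', fun g hg => Or.inl hg, Or.inr (by simp), ?_, ?_⟩
      · rintro g (hg | hg)
        · exact hEW hg
        · have := W.mul_mem (hEW hg) hz; simpa using this
      · let g : E' → E ⊕ E := fun d =>
          if hd : (d : T) ∈ E then Sum.inl ⟨d, hd⟩ else Sum.inr ⟨(d : T) * z⁻¹, (d.2 : (d : T) ∈ E ∨ _).resolve_left hd⟩
        have hg : Function.Injective g := by
          intro s t e
          simp only [g] at e
          split_ifs at e with h1 h2 h2
          · simp only [Sum.inl.injEq, Subtype.mk.injEq] at e; exact Subtype.ext e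
          · simp only [Sum.inr.injEq, Subtype.mk.injEq] at e; exact Subtype.ext (mul_right_cancel e)
        have := Nat.card_le_card_of_injective g hg
        rw [Nat.card_sum] at this
        omega
    have hDW : D ≤ W := sup_le (Subgroup.zpowers_le.mpr hx0W) (hA.le.trans hAW)
    obtain ⟨E1, hDE1, hz1E1, hE1W, hE1c⟩ := hdouble D le_sup_right hDW z1 hz1C.1
    obtain ⟨z2, hz2C, hz2⟩ := pick E1 (by omega)
    obtain ⟨E2, hE12, hz2E2, hE2W, hE2c⟩ := hdouble E1 (le_sup_right.trans hDE1) hE1W z2 hz2C.1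
    obtain ⟨z3, hz3C, hz3⟩ := pick E2 (by omega)
    have hsq1 : z1 ^ 2 ∉ P := fun e => hz1 (hout z1 hz1C e)
    have hsq2 : z2 ^ 2 ∉ P := fun e => hz2 (hDE1 (hout z2 hz2C e))
    have hsq3 : z3 ^ 2 ∉ P := fun e => hz3 (hE12 (hDE1 (hout z3 hz3C e)))
    have hs12 : (z1 * z2) ^ 2 ∉ P := fun e => hz2 (by
      have := E1.mul_mem (E1.inv_mem hz1E1) (hDE1 (hout _ (C.mul_mem hz1C hz2C) e))
      simpa using this)
    have hs13 : (z1 * z3) ^ 2 ∉ P := fun e => hz3 (by
      have := E2.mul_mem (E2.inv_mem (hE12 hz1E1)) (hE12 (hDE1 (hout _ (C.mul_mem hz1C hz3C) e)))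
      simpa using this)
    have hs23 : (z2 * z3) ^ 2 ∉ P := fun e => hz3 (by
      have := E2.mul_mem (E2.inv_mem hz2E2) (hE12 (hDE1 (hout _ (C.mul_mem hz2C hz3C) e)))
      simpa using this)
    have hs123 : (z1 * z2 * z3) ^ 2 ∉ P := fun e => hz3 (by
      have := E2.mul_mem (E2.inv_mem (E2.mul_mem (hE12 hz1E1) hz2E2))
        (hE12 (hDE1 (hout _ (C.mul_mem (C.mul_mem hz1C hz2C) hz3C) e)))
      simpa [mul_assoc] using this)
    obtain ⟨c12, hc12, hr12⟩ := hsq_comm z1 hz1C.1 z2 hz2C.1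
    obtain ⟨c13, hc13, hr13⟩ := hsq_comm z1 hz1C.1 z3 hz3C.1
    obtain ⟨c23, hc23, hr23⟩ := hsq_comm z2 hz2C.1 z3 hz3C.1
    have hmulsq : ∀ p q c : T, c ∈ V → q * p = c * (p * q) → (p * q) ^ 2 = c * (p ^ 2 * q ^ 2) := by
      intro p q c hc hr
      calc (p * q) ^ 2 = p * (q * p) * q := by rw [pow_two]; group
        _ = (p * c) * (p * q * q) := by rw [hr]; group
        _ = _ := by rw [← (hvc c hc p).eq]; simp only [pow_two, mul_assoc]
    have hr123 : z3 * (z1 * z2) = (c13 * c23) * (z1 * z2 * z3) := by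
      calc z3 * (z1 * z2) = (c13 * (z1 * z3)) * z2 := by rw [← hr13]; group
        _ = c13 * z1 * (c23 * (z2 * z3)) := by rw [← hr23]; group
        _ = c13 * (z1 * c23) * (z2 * z3) := by group
        _ = _ := by rw [← (hvc c23 hc23 z1).eq]; group
    have e12 := hmulsq z1 z2 c12 hc12 hr12
    have e13 := hmulsq z1 z3 c13 hc13 hr13
    have e23 := hmulsq z2 z3 c23 hc23 hr23
    have e123 := hmulsq (z1 * z2) z3 _ (V.mul_mem hc13 hc23) hr123
    rw [e12] at e123
    -- the seven squares lie outside `P`, whose index in `V` is two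
    let PV : Subgroup V := P.subgroupOf V
    have hPV : PV.index = 2 := by
      have hx01 : x0 ^ 2 ≠ 1 := fun e => hx0A (hA.le (h.mem x0 e))
      have : Nat.card PV = 2 := by
        rw [Nat.card_congr (Subgroup.subgroupOfEquivOfLe (Subgroup.zpowers_le.mpr hq0)).toEquiv,
          Nat.card_zpowers]
        exact orderOf_eq_prime (h.sq _ hq0) hx01
      have h4 := PV.card_mul_index
      rw [this, h.card] at h4
      omega
    have key : ∀ {v w : T}, v ∈ V → w ∈ V → (v * w ∈ P ↔ (v ∈ P ↔ w ∈ P)) := by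
      intro v w hv hw
      exact Subgroup.mul_mem_iff_of_index_two hPV (a := (⟨v, hv⟩ : V)) (b := ⟨w, hw⟩)
    have hV1 := hWsq z1 hz1C.1
    have hV2 := hWsq z2 hz2C.1
    have hV3 := hWsq z3 hz3C.1
    rw [e12, key hc12 (V.mul_mem hV1 hV2), key hV1 hV2] at hs12
    rw [e13, key hc13 (V.mul_mem hV1 hV3), key hV1 hV3] at hs13
    rw [e23, key hc23 (V.mul_mem hV2 hV3), key hV2 hV3] at hs23
    rw [e123, key (V.mul_mem hc13 hc23) (V.mul_mem (V.mul_mem hc12 (V.mul_mem hV1 hV2)) hV3),
      key hc13 hc23, key (V.mul_mem hc12 (V.mul_mem hV1 hV2)) hV3, key hc12 (V.mul_mem hV1 hV2),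
      key hV1 hV2] at hs123
    tauto
  · -- squares are linear and fixed by `ρ³`
    obtain ⟨m', rfl⟩ : ∃ m', m = m' + 1 := ⟨m - 1, by omega⟩
    have hVsq : ∀ v ∈ V, ∃ c ∈ A, c ^ 2 = v := by
      intro v hv
      obtain ⟨i, j, rfl⟩ := hgen v (hA.le hv)
      have hc : Commute (a ^ i) (ρ a ^ j) :=
        Commute.zpow_zpow (hA.comm a ha _ (hA.inv a ha)) i j
      have h2 := h.sq _ hv
      rw [hc.mul_pow, ← zpow_natCast, ← zpow_natCast, ← zpow_mul, ← zpow_mul] at h2
      obtain ⟨⟨i', hi'⟩, ⟨j', hj'⟩⟩ := (h.span hA ha _ hord hexp).1 _ _ h2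
      obtain ⟨i2, hi2⟩ : (2 : ℤ) ∣ i := ⟨2 ^ m' * i', by push_cast at hi'; rw [pow_succ, pow_succ] at hi'; linarith⟩
      obtain ⟨j2, hj2⟩ : (2 : ℤ) ∣ j := ⟨2 ^ m' * j', by push_cast at hj'; rw [pow_succ, pow_succ] at hj'; linarith⟩
      refine ⟨a ^ i2 * ρ a ^ j2, A.mul_mem (A.zpow_mem ha _) (A.zpow_mem (hA.inv a ha) _), ?_⟩
      rw [(Commute.zpow_zpow (hA.comm a ha _ (hA.inv a ha)) i2 j2).mul_pow, hi2, hj2, ← zpow_natCast,
        ← zpow_natCast, ← zpow_mul, ← zpow_mul]
      push_cast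
      rw [mul_comm i2, mul_comm j2]
    obtain ⟨u, hu, hwu⟩ := hW3 x0 hx0W
    set d := x0⁻¹ * (u⁻¹ * (ρ ^ 3) u) with hd
    have hρ3u : (ρ ^ 3) u ∈ W := by
      simp only [pow_succ, pow_zero, one_mul, MulAut.mul_apply]; exact hWinv _ (hWinv _ (hWinv u hu))
    set b := (ρ ^ 3) u with hb
    obtain ⟨v, hv, hvv⟩ := hsq_comm u⁻¹ (W.inv_mem hu) b hρ3u
    obtain ⟨c, hcA', hcv⟩ := hVsq v hv
    have hsq : (u⁻¹ * b) ^ 2 = v := by
      have e : b ^ 2 = u ^ 2 := by rw [hb, ← map_pow, hfixA _ hu.2.1]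
      calc (u⁻¹ * b) ^ 2 = u⁻¹ * (b * u⁻¹) * b := by rw [pow_two]; group
        _ = (u⁻¹ * v) * (u⁻¹ * b * b) := by rw [hvv]; group
        _ = v * u⁻¹ * (u⁻¹ * b ^ 2) := by rw [← (show Commute v u⁻¹ from (Subgroup.mem_center_iff.mp (h.cen hv) _).symm).eq, pow_two]; group
        _ = v := by rw [e, pow_two]; group
    set y := u⁻¹ * b * c⁻¹ with hy
    have hy2 : y ^ 2 = 1 := by
      have hcc : Commute (u⁻¹ * b) c⁻¹ := (hcA _ (W.mul_mem (W.inv_mem hu) hρ3u) _ (A.inv_mem hcA')).symm
      rw [hy, hcc.mul_pow, hsq, inv_pow, hcv, mul_inv_cancel]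
    have hyA : y ∈ A := hA.le (h.mem y hy2)
    have h1 : u⁻¹ * b ∈ A := by have := A.mul_mem hyA hcA'; simpa [hy] using this
    apply hx0A
    have := A.mul_mem h1 (A.inv_mem hwu)
    simpa [hd, mul_assoc] using this

end Hyp

/-- The relations of a group of type `U₃(4)`. -/
structure Rel (T : Type u) [Group T] (x y a b z w : T) : Prop where
  sx : x * x = z
  sy : y * y = w
  sa : a * a = z
  sb : b * b = w
  cxy : x * y = y * x
  cab : a * b = b * a
  xa : x * a = w * (a * x)
  xb : x * b = z * (b * x)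
  ya : y * a = z * (a * y)
  yb : y * b = z * w * (b * y)
  zc : z ∈ Subgroup.center T
  wc : w ∈ Subgroup.center T
  zz : z * z = 1
  ww : w * w = 1
  gen : Subgroup.closure {x, y, a, b} = ⊤
  card : Nat.card T = 64

theorem rel_equiv {U : Type v} [Group U] [Finite U] {x y a b z w : T} {x' y' a' b' z' w' : U}
    (h : Rel T x y a b z w) (h' : Rel U x' y' a' b' z' w') : Nonempty (T ≃* U) := by
  classical
  let s : Set (T × U) := {(x, x'), (y, y'), (a, a'), (b, b')}
  let H := Subgroup.closure s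
  let W : Subgroup (T × U) := Subgroup.closure {(z, z'), (w, w')}
  have hWc : W ≤ Subgroup.center (T × U) := by
    rw [Subgroup.closure_le]
    rintro _ (rfl | rfl) <;> rw [SetLike.mem_coe, Subgroup.mem_center_iff] <;> intro g
    · exact Prod.ext (Subgroup.mem_center_iff.mp h.zc g.1) (Subgroup.mem_center_iff.mp h'.zc g.2)
    · exact Prod.ext (Subgroup.mem_center_iff.mp h.wc g.1) (Subgroup.mem_center_iff.mp h'.wc g.2)
  haveI : W.Normal := ⟨fun g hg t => by
    rw [Subgroup.mem_center_iff.mp (hWc hg) t, mul_inv_cancel_right]; exact hg⟩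
  have hz : (z, z') ∈ W := Subgroup.subset_closure (Or.inl rfl)
  have hw : (w, w') ∈ W := Subgroup.subset_closure (Or.inr rfl)
  -- the quotient is elementary abelian on four generators
  let π := QuotientGroup.mk' W
  have hone : ∀ g, g ∈ W → π g = 1 := fun g hg => (QuotientGroup.eq_one_iff g).mpr hg
  have key : ∀ p q r : T × U, r ∈ W → p * q = r * (q * p) → Commute (π p) (π q) := by
    intro p q r hr e
    show π p * π q = π q * π p
    rw [← map_mul, e, map_mul, hone r hr, one_mul, map_mul]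
  have hxy : Commute (π (x, x')) (π (y, y')) := key _ _ 1 W.one_mem (by
    rw [one_mul]; exact Prod.ext h.cxy h'.cxy)
  have hab : Commute (π (a, a')) (π (b, b')) := key _ _ 1 W.one_mem (by
    rw [one_mul]; exact Prod.ext h.cab h'.cab)
  have hxa : Commute (π (x, x')) (π (a, a')) := key _ _ _ hw (Prod.ext h.xa h'.xa)
  have hxb : Commute (π (x, x')) (π (b, b')) := key _ _ _ hz (Prod.ext h.xb h'.xb)
  have hya : Commute (π (y, y')) (π (a, a')) := key _ _ _ hz (Prod.ext h.ya h'.ya)
  have hyb : Commute (π (y, y')) (π (b, b')) := key _ _ _ (W.mul_mem hz hw) (Prod.ext h.yb h'.yb)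
  have h2x : π (x, x') * π (x, x') = 1 := by rw [← map_mul]; exact hone _ ((Prod.ext h.sx h'.sx : (x, x') * (x, x') = (z, z')) ▸ hz)
  have h2y : π (y, y') * π (y, y') = 1 := by rw [← map_mul]; exact hone _ ((Prod.ext h.sy h'.sy : (y, y') * (y, y') = (w, w')) ▸ hw)
  have h2a : π (a, a') * π (a, a') = 1 := by rw [← map_mul]; exact hone _ ((Prod.ext h.sa h'.sa : (a, a') * (a, a') = (z, z')) ▸ hz)
  have h2b : π (b, b') * π (b, b') = 1 := by rw [← map_mul]; exact hone _ ((Prod.ext h.sb h'.sb : (b, b') * (b, b') = (w, w')) ▸ hw)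
  -- `W` has order at most four
  have two : ∀ {G : Type (max u v)} [Group G] (P : Subgroup G) (g : G),
      (∀ p ∈ P, g * p = p * g) → g * g ∈ P →
      ∃ Q : Subgroup G, P ≤ Q ∧ g ∈ Q ∧ Nat.card Q ≤ 2 * Nat.card P ∧
        ∀ q ∈ Q, q ∈ P ∨ q * g⁻¹ ∈ P := by
    intro G _ P g hc hg
    let Q : Subgroup G :=
      { carrier := {q | q ∈ P ∨ q * g⁻¹ ∈ P}
        one_mem' := Or.inl P.one_mem
        mul_mem' := by
          rintro p q (hp | hp) (hq | hq)
          · exact Or.inl (P.mul_mem hp hq)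
          · exact Or.inr (by rw [mul_assoc]; exact P.mul_mem hp hq)
          · right
            have := P.mul_mem hp hq
            have e : p * g⁻¹ * q = p * q * g⁻¹ := by
              rw [mul_assoc p, mul_assoc p q]
              congr 1
              exact (show Commute g q from hc q hq).inv_left.eq
            rwa [e] at this
          · left
            have := P.mul_mem (P.mul_mem hp hq) hg
            have e : p * g⁻¹ * (q * g⁻¹) * (g * g) = p * q := by
              calc p * g⁻¹ * (q * g⁻¹) * (g * g) = p * g⁻¹ * ((q * g⁻¹) * g) * g := by group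
                _ = p * g⁻¹ * (g * (q * g⁻¹)) * g := by rw [hc _ hq]
                _ = _ := by group
            rwa [e] at this
        inv_mem' := by
          rintro p (hp | hp)
          · exact Or.inl (P.inv_mem hp)
          · right
            have := P.mul_mem (P.inv_mem hp) (P.inv_mem hg)
            have e : (p * g⁻¹)⁻¹ * (g * g)⁻¹ = p⁻¹ * g⁻¹ := by
              calc (p * g⁻¹)⁻¹ * (g * g)⁻¹ = g * (p⁻¹ * g⁻¹ * g⁻¹) := by group
                _ = g * (p⁻¹ * g⁻¹) * g⁻¹ := by group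
                _ = _ := by
                  have hm : p⁻¹ * g⁻¹ ∈ {t | g * t = t * g} := by
                    have h0 := hc _ (P.inv_mem hp)
                    have : g * p⁻¹ = p⁻¹ * g := by
                      calc g * p⁻¹ = g⁻¹ * (g * (p * g⁻¹)⁻¹) * 1 := by group
                        _ = g⁻¹ * ((p * g⁻¹)⁻¹ * g) * 1 := by rw [h0]
                        _ = _ := by group
                    show g * (p⁻¹ * g⁻¹) = p⁻¹ * g⁻¹ * g
                    rw [← mul_assoc, this]; group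
                  rw [hm, mul_inv_cancel_right]
            rwa [e] at this }
    refine ⟨Q, fun p hp => Or.inl hp, Or.inr (by simp), ?_, fun q hq => hq⟩
    rcases finite_or_infinite P with hfin | hinf
    · let f : Q → P ⊕ P := fun d =>
        if hd : (d : G) ∈ P then Sum.inl ⟨d, hd⟩
        else Sum.inr ⟨(d : G) * g⁻¹, (d.2 : (d : G) ∈ P ∨ _).resolve_left hd⟩
      have hf : Function.Injective f := by
        intro s t e
        simp only [f] at e
        split_ifs at e with h1 h2 h2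
        · simp only [Sum.inl.injEq, Subtype.mk.injEq] at e; exact Subtype.ext e
        · simp only [Sum.inr.injEq, Subtype.mk.injEq] at e; exact Subtype.ext (mul_right_cancel e)
      have := Nat.card_le_card_of_injective f hf
      rw [Nat.card_sum] at this
      omega
    · haveI : Infinite Q := Infinite.of_injective (fun p : P => (⟨p, Or.inl p.2⟩ : Q))
        (fun s t e => Subtype.ext (congrArg (fun d : Q => (d : G)) e))
      simp
  obtain ⟨W1, -, hzW1, hW1c, hW1f⟩ := two (⊥ : Subgroup (T × U)) (z, z')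
    (fun p hp => by rw [Subgroup.mem_bot.mp hp]; simp)
    (by rw [Subgroup.mem_bot]; exact Prod.ext h.zz h'.zz)
  obtain ⟨W2, hW12, hwW2, hW2c, -⟩ := two W1 (w, w')
    (fun p _ => (Subgroup.mem_center_iff.mp (hWc hw) p).symm)
    (by rw [show (w, w') * (w, w') = 1 from Prod.ext h.ww h'.ww]; exact W1.one_mem)
  have hW4 : Nat.card W ≤ 4 := by
    have hle : W ≤ W2 := by
      rw [Subgroup.closure_le]; rintro _ (rfl | rfl)
      · exact hW12 hzW1
      · exact hwW2
    have := Subgroup.card_le_of_le hle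
    rw [Subgroup.card_bot] at hW1c
    omega
  obtain ⟨Q1, -, hxQ, hQ1c, hQ1⟩ := two (⊥ : Subgroup ((T × U) ⧸ W)) (π (x, x'))
    (fun p hp => by rw [Subgroup.mem_bot.mp hp]; simp) (by rw [h2x]; exact Subgroup.one_mem _)
  have hcQ1 : ∀ g, Commute g (π (x, x')) → ∀ p ∈ Q1, g * p = p * g := by
    intro g hg p hp
    rcases hQ1 p hp with e | e
    · rw [Subgroup.mem_bot.mp e]; simp
    · rw [mul_inv_eq_one.mp (Subgroup.mem_bot.mp e)]; exact hg
  obtain ⟨Q2, hQ12, hyQ, hQ2c, hQ2⟩ := two Q1 (π (y, y')) (hcQ1 _ hxy.symm)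
    (by rw [h2y]; exact Subgroup.one_mem _)
  have hext : ∀ {g h : (T × U) ⧸ W} {P Q : Subgroup ((T × U) ⧸ W)},
      (∀ q ∈ Q, q ∈ P ∨ q * h⁻¹ ∈ P) → Commute g h → (∀ p ∈ P, g * p = p * g) →
      ∀ q ∈ Q, g * q = q * g := by
    intro g h P Q hQ hgh hP q hq
    rcases hQ q hq with e | e
    · exact hP q e
    · have h1 : Commute g (q * h⁻¹) := hP _ e
      have h2 := h1.mul_right hgh
      rw [inv_mul_cancel_right] at h2
      exact h2
  obtain ⟨Q3, hQ23, haQ, hQ3c, hQ3⟩ := two Q2 (π (a, a'))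
    (hext hQ2 hya.symm (hcQ1 _ hxa.symm)) (by rw [h2a]; exact Subgroup.one_mem _)
  obtain ⟨Q4, hQ34, hbQ, hQ4c, -⟩ := two Q3 (π (b, b'))
    (hext hQ3 hab.symm (hext hQ2 hyb.symm (hcQ1 _ hxb.symm))) (by rw [h2b]; exact Subgroup.one_mem _)
  have hHQ : H.map π ≤ Q4 := by
    rw [Subgroup.map_le_iff_le_comap, Subgroup.closure_le]
    rintro _ (rfl | rfl | rfl | rfl)
    · exact hQ34 (hQ23 (hQ12 hxQ))
    · exact hQ34 (hQ23 hyQ)
    · exact hQ34 haQ
    · exact hbQ
  have hHcard : Nat.card H ≤ 64 := by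
    have h1 := (π.comp H.subtype).ker.card_mul_index
    rw [Subgroup.index_ker, MonoidHom.range_comp, Subgroup.range_subtype] at h1
    have h2 : Nat.card (π.comp H.subtype).ker ≤ Nat.card W :=
      Nat.card_le_card_of_injective (fun g => ⟨((g : H) : T × U), (QuotientGroup.eq_one_iff _).mp g.2⟩)
        (fun s t e => Subtype.ext (Subtype.ext (congrArg (fun q : W => (q : T × U)) e)))
    have h3 := Subgroup.card_le_of_le hHQ
    rw [Subgroup.card_bot] at hQ1c
    have h4 : Nat.card (H.map π) ≤ 16 := by omega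
    rw [← h1]
    exact (Nat.mul_le_mul (h2.trans hW4) h4)
  let f : H →* T := (MonoidHom.fst T U).comp H.subtype
  let g : H →* U := (MonoidHom.snd T U).comp H.subtype
  have hf : f.range = ⊤ := by
    rw [MonoidHom.range_comp, Subgroup.range_subtype, eq_top_iff, ← h.gen, MonoidHom.map_closure]
    apply Subgroup.closure_mono
    intro q hq
    rcases hq with e | e | e | e
    · exact ⟨(x, x'), Or.inl rfl, e.symm⟩
    · exact ⟨(y, y'), Or.inr (Or.inl rfl), e.symm⟩
    · exact ⟨(a, a'), Or.inr (Or.inr (Or.inl rfl)), e.symm⟩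
    · exact ⟨(b, b'), Or.inr (Or.inr (Or.inr rfl)), e.symm⟩
  have hg : g.range = ⊤ := by
    rw [MonoidHom.range_comp, Subgroup.range_subtype, eq_top_iff, ← h'.gen, MonoidHom.map_closure]
    apply Subgroup.closure_mono
    intro q hq
    rcases hq with e | e | e | e
    · exact ⟨(x, x'), Or.inl rfl, e.symm⟩
    · exact ⟨(y, y'), Or.inr (Or.inl rfl), e.symm⟩
    · exact ⟨(a, a'), Or.inr (Or.inr (Or.inl rfl)), e.symm⟩
    · exact ⟨(b, b'), Or.inr (Or.inr (Or.inr rfl)), e.symm⟩
  have hfs := MonoidHom.range_eq_top.mp hf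
  have hgs := MonoidHom.range_eq_top.mp hg
  have e1 := Nat.card_le_card_of_surjective _ hfs
  have e2 := Nat.card_le_card_of_surjective _ hgs
  rw [h.card] at e1
  rw [h'.card] at e2
  have bf : Function.Bijective f := (Nat.bijective_iff_surjective_and_card f).mpr ⟨hfs, by rw [h.card]; omega⟩
  have bg : Function.Bijective g := (Nat.bijective_iff_surjective_and_card g).mpr ⟨hgs, by rw [h'.card]; omega⟩
  exact ⟨(MulEquiv.ofBijective f bf).symm.trans (MulEquiv.ofBijective g bg)⟩

theorem Hyp.classify (h : Hyp T V ρ) :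
    (∃ n : ℕ, 1 ≤ n ∧ Nonempty (T ≃* Multiplicative (ZMod (2 ^ n) × ZMod (2 ^ n)))) ∨
      ∃ x y a b z w : T, Rel T x y a b z w := by
  classical
  haveI : Fact (Nat.Prime 2) := ⟨Nat.prime_two⟩
  obtain ⟨A, hA, hmax⟩ := h.exists_good
  haveI := hA.nor
  have hCA := h.centralizer_le hA hmax
  obtain ⟨a0, m, ha0, hord, hexp⟩ := h.exists_max hA
  obtain ⟨hind, hgen⟩ := h.span hA ha0 m hord hexp
  have hc0 : Commute a0 (ρ a0) := hA.comm a0 ha0 _ (hA.inv a0 ha0)
  by_cases htop : A = ⊤
  · left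
    refine ⟨m + 1, by omega, ⟨MulEquiv.symm (MulEquiv.ofBijective
      (?_ : Multiplicative (ZMod (2 ^ (m + 1)) × ZMod (2 ^ (m + 1))) →* T) ?_)⟩⟩
    · refine MonoidHom.mk' (fun p => a0 ^ ((Multiplicative.toAdd p).1.cast : ℤ) * ρ a0 ^ ((Multiplicative.toAdd p).2.cast : ℤ)) ?_
      intro p q
      have hmod : ∀ (g : T), g ^ 2 ^ (m + 1) = 1 → ∀ r s : ZMod (2 ^ (m + 1)),
          g ^ ((r + s).cast : ℤ) = g ^ (r.cast : ℤ) * g ^ (s.cast : ℤ) := by
        intro g hg r s
        rw [← zpow_add, zpow_eq_zpow_iff_modEq]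
        refine Int.ModEq.of_dvd (Int.natCast_dvd_natCast.mpr (orderOf_dvd_of_pow_eq_one hg)) ?_
        rw [← ZMod.intCast_eq_intCast_iff]
        simp
      rw [toAdd_mul, Prod.fst_add, Prod.snd_add, hmod a0 (hexp _ ha0), hmod (ρ a0) (hexp _ (hA.inv _ ha0))]
      have hc := Commute.zpow_zpow hc0.symm ((Multiplicative.toAdd p).2.cast : ℤ) ((Multiplicative.toAdd q).1.cast : ℤ)
      calc _ = a0 ^ ((Multiplicative.toAdd p).1.cast : ℤ) *
              (a0 ^ ((Multiplicative.toAdd q).1.cast : ℤ) * ρ a0 ^ ((Multiplicative.toAdd p).2.cast : ℤ)) *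
              ρ a0 ^ ((Multiplicative.toAdd q).2.cast : ℤ) := by group
        _ = a0 ^ ((Multiplicative.toAdd p).1.cast : ℤ) *
              (ρ a0 ^ ((Multiplicative.toAdd p).2.cast : ℤ) * a0 ^ ((Multiplicative.toAdd q).1.cast : ℤ)) *
              ρ a0 ^ ((Multiplicative.toAdd q).2.cast : ℤ) := by rw [hc.eq]
        _ = _ := by group
    constructor
    · rw [injective_iff_map_eq_one]
      intro p hp
      obtain ⟨h1, h2⟩ := hind _ _ hp
      have hd : ((2 : ℤ) ^ (m + 1)) = ((2 ^ (m + 1) : ℕ) : ℤ) := by push_cast; rfl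
      rw [hd, ← ZMod.intCast_zmod_eq_zero_iff_dvd, ZMod.intCast_zmod_cast] at h1 h2
      exact Multiplicative.toAdd.injective (Prod.ext h1 h2)
    · intro t
      obtain ⟨i, j, rfl⟩ := hgen t (htop ▸ Subgroup.mem_top t)
      refine ⟨Multiplicative.ofAdd ((i : ZMod (2 ^ (m + 1))), (j : ZMod (2 ^ (m + 1)))), ?_⟩
      simp only [MonoidHom.mk'_apply, toAdd_ofAdd]
      have hmod : ∀ (g : T), g ^ 2 ^ (m + 1) = 1 → ∀ i : ℤ,
          g ^ (((i : ZMod (2 ^ (m + 1)))).cast : ℤ) = g ^ i := by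
        intro g hg i
        rw [zpow_eq_zpow_iff_modEq]
        refine Int.ModEq.of_dvd (Int.natCast_dvd_natCast.mpr (orderOf_dvd_of_pow_eq_one hg)) ?_
        rw [← ZMod.intCast_eq_intCast_iff]
        simp
      rw [hmod a0 (hexp _ ha0), hmod (ρ a0) (hexp _ (hA.inv _ ha0))]
  right
  -- `ρ` has order three
  have hsurjA : ∀ a ∈ A, ∃ b ∈ A, ρ b = a := by
    intro a ha
    let f : A → A := fun b => ⟨ρ b, hA.inv _ b.2⟩
    obtain ⟨b, hb⟩ := Finite.surjective_of_injective
      (f := f) (fun b c e => Subtype.ext (ρ.injective (congrArg Subtype.val e))) ⟨a, ha⟩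
    exact ⟨b, b.2, congrArg Subtype.val hb⟩
  obtain ⟨m3, hm3, hm31⟩ := h.cube_ord
  have hfixA : ∀ a ∈ A, (ρ ^ 3) a = a := h.cube_of_abelian hA.inv hA.comm
  have hconjA : ∀ t : T, ∀ a ∈ A, t * a * t⁻¹ ∈ A := fun t a ha => hA.nor.conj_mem a ha t
  have hcube : ∀ t : T, (ρ ^ 3) t = t := by
    intro t
    have hmem : t⁻¹ * (ρ ^ 3) t ∈ A := by
      refine hCA (Subgroup.mem_centralizer_iff.mpr fun a ha => ?_)
      have h1 : (ρ ^ 3) t * a * ((ρ ^ 3) t)⁻¹ = t * a * t⁻¹ := by
        rw [← hfixA _ (hconjA t a ha), map_mul, map_mul, map_inv, hfixA a ha]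
      calc a * (t⁻¹ * (ρ ^ 3) t) = t⁻¹ * (t * a * t⁻¹) * (ρ ^ 3) t := by group
        _ = t⁻¹ * ((ρ ^ 3) t * a * ((ρ ^ 3) t)⁻¹) * (ρ ^ 3) t := by rw [h1]
        _ = _ := by group
    exact fix_coset hm3 hm31 (hfixA _ hmem) (h.pow_two_pow _) (mul_inv_cancel_left t _).symm
  have h33 : ∀ t : T, ρ (ρ (ρ t)) = t := fun t => by
    have := hcube t
    simpa [pow_succ, MulAut.mul_apply] using this
  have hfp : ∀ t : T, ρ t = t → t = 1 := fun t => h.fpf_all
  -- commutator maps
  let dl : T → T → T := fun t a => t * a * t⁻¹ * a⁻¹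
  have hdlA : ∀ t a, a ∈ A → dl t a ∈ A := fun t a ha => A.mul_mem (hconjA t a ha) (A.inv_mem ha)
  have hρdl : ∀ t a, ρ (dl t a) = dl (ρ t) (ρ a) := fun t a => by simp [dl]
  have hswap : ∀ t a, a ∈ A → dl (ρ t) a = dl t (ρ a) := by
    intro s a ha
    obtain ⟨t, rfl⟩ : ∃ t, s = t⁻¹ := ⟨s⁻¹, (inv_inv s).symm⟩
    have e := (fpf_three ρ h33 hfp (t * a)).2
    rw [map_mul] at e
    have ct := (fpf_three ρ h33 hfp t).2
    have e1 : t * ρ t * (((ρ t)⁻¹ * a * ρ t) * ρ a) = t * ρ t * ((t⁻¹ * ρ a * t) * a) := by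
      calc t * ρ t * (((ρ t)⁻¹ * a * ρ t) * ρ a) = t * a * (ρ t * ρ a) := by group
        _ = ρ t * ρ a * (t * a) := e
        _ = (ρ t * t) * ((t⁻¹ * ρ a * t) * a) := by group
        _ = _ := by rw [ct]
    have e2 := mul_left_cancel e1
    show ρ t⁻¹ * a * (ρ t⁻¹)⁻¹ * a⁻¹ = t⁻¹ * ρ a * t⁻¹⁻¹ * (ρ a)⁻¹
    rw [map_inv, inv_inv, inv_inv]
    have hx : t⁻¹ * ρ a * t ∈ A := by
      have := hconjA t⁻¹ _ (hA.inv a ha); rwa [inv_inv] at this
    calc (ρ t)⁻¹ * a * ρ t * a⁻¹ = ((ρ t)⁻¹ * a * ρ t * ρ a) * ((ρ a)⁻¹ * a⁻¹) := by group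
      _ = ((t⁻¹ * ρ a * t) * a) * ((ρ a)⁻¹ * a⁻¹) := by rw [e2]
      _ = (t⁻¹ * ρ a * t) * (a * (ρ a)⁻¹) * a⁻¹ := by group
      _ = (t⁻¹ * ρ a * t) * ((ρ a)⁻¹ * a) * a⁻¹ := by rw [hA.comm a ha _ (A.inv_mem (hA.inv a ha))]
      _ = _ := by group
  have hmulA : ∀ t a b, a ∈ A → b ∈ A → dl t (a * b) = dl t a * dl t b := by
    intro t a b ha hb
    have h1 := hdlA t b hb
    calc dl t (a * b) = t * a * t⁻¹ * (dl t b * a⁻¹) := by simp only [dl]; group
      _ = t * a * t⁻¹ * (a⁻¹ * dl t b) := by rw [hA.comm _ h1 _ (A.inv_mem ha)]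
      _ = _ := by simp only [dl]; group
  have hinvA : ∀ t a, a ∈ A → dl t a⁻¹ = (dl t a)⁻¹ := by
    intro t a ha
    refine eq_inv_of_mul_eq_one_right ?_
    rw [← hmulA t a a⁻¹ ha (A.inv_mem ha), mul_inv_cancel]
    simp [dl]
  have hρρA : ∀ a ∈ A, ρ (ρ a) = (a * ρ a)⁻¹ := fun a _ =>
    eq_inv_of_mul_eq_one_right (fpf_three ρ h33 hfp a).1
  have hanti : ∀ t a, a ∈ A → dl t (ρ a) = ρ (ρ (dl t a)) := by
    intro t a ha
    have hw := hdlA t _ (hA.inv a ha)
    have hu := hdlA t a ha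
    set u := dl t a with hu'
    set w := dl t (ρ a) with hw'
    have e1 : w = ρ ((u * w)⁻¹) := by
      calc w = dl (ρ t) a := (hswap t a ha).symm
        _ = dl (ρ t) (ρ (ρ (ρ a))) := by rw [h33]
        _ = ρ (dl t (ρ (ρ a))) := (hρdl _ _).symm
        _ = ρ ((u * w)⁻¹) := by
            rw [hρρA a ha, hinvA t _ (A.mul_mem ha (hA.inv a ha)), hmulA t a _ ha (hA.inv a ha)]
    have e2 : w * ρ w = (ρ u)⁻¹ := by
      nth_rw 1 [e1]
      rw [mul_inv_rev, map_mul, map_inv, map_inv]
      rw [hA.comm _ (A.inv_mem (hA.inv w hw)) _ (A.inv_mem (hA.inv u hu)), inv_mul_cancel_right]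
    have e3 := hρρA w hw
    rw [e2, inv_inv] at e3
    exact (h33 w).symm.trans (congrArg ρ e3)
  have hnil : ∀ t s a, a ∈ A → dl t (dl s a) = 1 := by
    intro t s a ha
    have hρρ : ∀ b ∈ A, ρ (ρ b) ∈ A := fun b hb => hA.inv _ (hA.inv b hb)
    -- a product of two antilinear maps is linear, and again antilinear
    have hcomp : ∀ b, b ∈ A → dl t (dl s (ρ b)) = ρ (dl t (dl s b)) := by
      intro b hb
      have h1 := hdlA s b hb
      rw [hanti s b hb, hanti t _ (hA.inv _ h1), hanti t _ h1, h33]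
    have hprod : ∀ b, b ∈ A → dl (t * s) b = dl t (dl s b) * dl s b * dl t b := by
      intro b hb
      simp only [dl]; group
    have h1 := hdlA s a ha
    have e := hanti (t * s) a ha
    rw [hprod _ (hA.inv a ha), hprod a ha, map_mul, map_mul, map_mul, map_mul, hcomp a ha, ← hanti s a ha,
      ← hanti t a ha] at e
    have e2 : ρ (dl t (dl s a)) = ρ (ρ (dl t (dl s a))) := mul_right_cancel (mul_right_cancel e)
    exact hfp _ (ρ.injective e2.symm)
  -- an element outside `A`
  obtain ⟨x0, hx0, hx0A⟩ : ∃ x : T, x ^ 2 ∈ A ∧ x ∉ A := by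
    obtain ⟨t, ht⟩ : ∃ t, t ∉ A := by
      by_contra! hcon
      exact htop (eq_top_iff.mpr fun t _ => hcon t)
    have hex : ∀ e : ℕ, ∀ t : T, t ∉ A → t ^ 2 ^ e ∈ A → ∃ x : T, x ^ 2 ∈ A ∧ x ∉ A := by
      intro e
      induction e with
      | zero => intro t ht h1; rw [pow_zero, pow_one] at h1; exact absurd h1 ht
      | succ e ih =>
        intro t ht h1
        by_cases h2 : t ^ 2 ∈ A
        · exact ⟨t, h2, ht⟩
        · exact ih (t ^ 2) h2 (by rwa [← pow_mul, ← pow_succ'])
    obtain ⟨e, he⟩ := h.pow_two_pow t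
    exact hex e t ht (he ▸ A.one_mem)
  have hdne : ∀ t, t ∉ A → ∃ a ∈ A, dl t a ≠ 1 := by
    intro t ht
    by_contra! hcon
    refine ht (hCA (Subgroup.mem_centralizer_iff.mpr fun a ha => ?_))
    exact (mul_inv_eq_iff_eq_mul.mp (mul_inv_eq_one.mp (hcon a ha))).symm
  -- with a square in `A` the values are involutions
  have hconj2 : ∀ t a, a ∈ A → t * t * a * (t * t)⁻¹ * a⁻¹ = dl t a * dl t a := by
    intro t a ha
    have hmul : t * t * a * (t * t)⁻¹ * a⁻¹ = dl t (dl t a) * dl t a * dl t a := by simp only [dl]; group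
    rw [hmul, hnil t t a ha, one_mul]
  have hdlV : ∀ a, a ∈ A → dl x0 a ∈ V := by
    intro a ha
    apply h.mem
    rw [pow_two, ← hconj2 x0 a ha, ← pow_two, hA.comm _ hx0 a ha]
    group
  have hsqker : ∀ a, a ∈ A → dl x0 (a * a) = 1 := fun a ha => by
    rw [hmulA x0 a a ha ha, ← pow_two]; exact h.sq _ (hdlV a ha)
  -- the exponent of `A` is four
  obtain ⟨e0, he0, he0ne⟩ := hdne x0 hx0A
  have hm1 : m = 1 := by
    have hval : ∀ i j : ℤ, dl x0 (a0 ^ i * ρ a0 ^ j) =
        (if Even i then 1 else dl x0 a0) * (if Even j then 1 else dl x0 (ρ a0)) := by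
      intro i j
      rw [hmulA x0 _ _ (A.zpow_mem ha0 i) (A.zpow_mem (hA.inv _ ha0) j)]
      have hpar : ∀ g ∈ A, ∀ i : ℤ, dl x0 (g ^ i) = if Even i then 1 else dl x0 g := by
        intro g hg i
        rcases Int.even_or_odd i with hi | hi
        · obtain ⟨l, rfl⟩ := hi
          rw [if_pos ⟨l, rfl⟩, zpow_add]; exact hsqker _ (A.zpow_mem hg l)
        · rw [if_neg (Int.not_even_iff_odd.mpr hi)]
          obtain ⟨l, rfl⟩ := hi
          rw [zpow_add, zpow_one, hmulA x0 _ g (A.zpow_mem hg _) hg, two_mul, zpow_add,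
            hsqker _ (A.zpow_mem hg l), one_mul]
      rw [hpar a0 ha0, hpar _ (hA.inv _ ha0)]
    have hd0 : dl x0 a0 ≠ 1 := by
      intro e
      obtain ⟨i, j, rfl⟩ := hgen e0 he0
      apply he0ne
      rw [hval, hanti x0 a0 ha0, e]
      simp
    have hd1 : dl x0 (ρ a0) ≠ 1 := by
      rw [hanti x0 a0 ha0]
      intro e
      exact hd0 (ρ.injective (ρ.injective (e.trans (by simp))))
    have hd2 : dl x0 a0 * dl x0 (ρ a0) ≠ 1 := by
      rw [← hmulA x0 a0 _ ha0 (hA.inv a0 ha0)]
      have : a0 * ρ a0 = (ρ (ρ a0))⁻¹ := by rw [hρρA a0 ha0, inv_inv]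
      rw [this, hinvA x0 _ (hA.inv _ (hA.inv _ ha0)), inv_ne_one, hanti x0 _ (hA.inv _ ha0),
        hanti x0 a0 ha0, h33]
      exact fun e => hd0 (ρ.injective (e.trans (map_one ρ).symm))
    -- the fixed square is a square in `A`
    obtain ⟨i, j, hij⟩ := hgen _ hx0
    have hfix : dl x0 (a0 ^ i * ρ a0 ^ j) = 1 := by rw [← hij]; simp only [dl]; group
    rw [hval] at hfix
    obtain ⟨⟨i', rfl⟩, ⟨j', rfl⟩⟩ : Even i ∧ Even j := by
      rcases Int.even_or_odd i with hi | hi <;> rcases Int.even_or_odd j with hj | hj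
      · exact ⟨hi, hj⟩
      · simp [hi, Int.not_even_iff_odd.mpr hj] at hfix; exact absurd hfix hd1
      · simp [hj, Int.not_even_iff_odd.mpr hi] at hfix; exact absurd hfix hd0
      · simp [Int.not_even_iff_odd.mpr hi, Int.not_even_iff_odd.mpr hj] at hfix; exact absurd hfix hd2
    set c := a0 ^ i' * ρ a0 ^ j' with hc
    have hcA : c ∈ A := A.mul_mem (A.zpow_mem ha0 _) (A.zpow_mem (hA.inv _ ha0) _)
    have hcc : x0 * x0 = c * c := by
      rw [← pow_two, hij, hc, ← pow_two, (Commute.zpow_zpow hc0 i' j').mul_pow, pow_two, pow_two,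
        ← zpow_add, ← zpow_add]
    rcases Nat.lt_or_ge m 2 with hm2 | hm2
    · rcases Nat.eq_zero_or_pos m with rfl | hm0
      · exfalso
        have hcV : c * c = 1 := by rw [← pow_two]; simpa using hexp c hcA
        rw [hcV, ← pow_two] at hcc
        exact hx0A (hA.le (h.mem x0 hcc))
      · omega
    exfalso
    have hdl' := hdlV _ (A.inv_mem hcA)
    have hvV := hA.le hdl'
    obtain ⟨p, q, hpq⟩ := hgen _ hvV
    have h2 := h.sq _ hdl'
    rw [hpq, (Commute.zpow_zpow hc0 p q).mul_pow, ← zpow_natCast, ← zpow_natCast, ← zpow_mul,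
      ← zpow_mul] at h2
    obtain ⟨⟨p', hp'⟩, ⟨q', hq'⟩⟩ := hind _ _ h2
    obtain ⟨d, rfl⟩ : ∃ d, m = d + 2 := ⟨m - 2, by omega⟩
    -- a fourth root
    set e := a0 ^ (2 ^ d * p') * ρ a0 ^ (2 ^ d * q') with he
    have heA : e ∈ A := A.mul_mem (A.zpow_mem ha0 _) (A.zpow_mem (hA.inv _ ha0) _)
    have he4 : (e * e) * (e * e) = dl x0 c⁻¹ := by
      have : (e * e) * (e * e) = e ^ 4 := by simp only [pow_succ, pow_zero, one_mul, mul_assoc]
      rw [this, hpq, he, (Commute.zpow_zpow hc0 _ _).mul_pow, ← zpow_natCast, ← zpow_natCast, ← zpow_mul,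
        ← zpow_mul]
      push_cast at hp' hq'
      rw [pow_succ, pow_succ, pow_succ] at hp' hq'
      congr 2 <;> push_cast <;> linarith
    set f := e * e with hf
    have hfA : f ∈ A := A.mul_mem heA heA
    have hdf : dl x0 f = 1 := hsqker e heA
    set g := c⁻¹ * f with hgdef
    have hgA : g ∈ A := A.mul_mem (A.inv_mem hcA) hfA
    have hdg : dl x0 g = dl x0 c⁻¹ := by rw [hgdef, hmulA x0 _ _ (A.inv_mem hcA) hfA, hdf, mul_one]
    have hv2 := h.sq _ hdl'
    apply hx0A
    have hsq : (x0 * g) ^ 2 = 1 := by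
      have h0 : (x0 * g) ^ 2 = dl x0 g * g * (c * c) * g := by rw [← hcc, pow_two]; simp only [dl]; group
      rw [h0, hdg]
      have e5 : g * (c * c) * g = f * f := by
        rw [hgdef, hA.comm _ (A.mul_mem (A.inv_mem hcA) hfA) _ (A.mul_mem hcA hcA),
          hA.comm c⁻¹ (A.inv_mem hcA) f hfA]
        calc c * c * (f * c⁻¹) * (f * c⁻¹) = (c * c) * (f * c⁻¹ * f) * c⁻¹ := by group
          _ = (f * c⁻¹ * f) * (c * c) * c⁻¹ := by
              rw [hA.comm _ (A.mul_mem hcA hcA) _ (A.mul_mem (A.mul_mem hfA (A.inv_mem hcA)) hfA)]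
          _ = f * (c⁻¹ * f) * c := by group
          _ = f * (f * c⁻¹) * c := by rw [hA.comm c⁻¹ (A.inv_mem hcA) f hfA]
          _ = f * f := by group
      calc dl x0 c⁻¹ * g * (c * c) * g = dl x0 c⁻¹ * (g * (c * c) * g) := by group
        _ = _ := by rw [e5, he4, ← pow_two]; exact hv2
    have := A.mul_mem (hA.le (h.mem _ hsq)) (A.inv_mem hgA)
    simpa using this
  subst hm1
  have hsqV : ∀ a, a ∈ A → a * a ∈ V := fun a ha => h.mem _ (by
    have := hexp a ha
    rw [← pow_two, ← pow_mul]; simpa using this)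
  -- all values are involutions
  have hdlV' : ∀ t a, a ∈ A → dl t a ∈ V := by
    intro t a ha
    apply h.mem
    rw [pow_two, ← hmulA t a a ha ha]
    simp only [dl]
    rw [Subgroup.mem_center_iff.mp (h.cen (hsqV a ha)) t]
    group
  have ht2 : ∀ t : T, t * t ∈ A := by
    intro t
    refine hCA (Subgroup.mem_centralizer_iff.mpr fun a ha => ?_)
    have h1 := hconj2 t a ha
    rw [← pow_two (dl t a), h.sq _ (hdlV' t a ha)] at h1
    exact (mul_inv_eq_iff_eq_mul.mp (mul_inv_eq_one.mp h1)).symm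
  set u := x0 * x0 with hu
  have huA : u ∈ A := ht2 x0
  have hdu : dl x0 u = 1 := by simp only [dl, hu]; group
  have hdinj : ∀ c, c ∈ A → dl x0 c = 1 → c ∈ V := by
    intro c hc e
    by_contra hcV
    -- `c` and `ρ c` generate `A`, so `x0` would centralize `A`
    have hoc : orderOf c = 2 ^ (1 + 1) :=
      orderOf_eq_prime_pow (n := 1) (by rw [pow_one]; exact fun h2 => hcV (h.mem c h2)) (hexp c hc)
    obtain ⟨-, hgenc⟩ := h.span hA hc 1 hoc hexp
    obtain ⟨i, j, rfl⟩ := hgenc e0 he0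
    apply he0ne
    have hz : ∀ g ∈ A, dl x0 g = 1 → ∀ i : ℤ, dl x0 (g ^ i) = 1 := by
      intro g hg e i
      have hc' : Commute x0 g := mul_inv_eq_iff_eq_mul.mp (mul_inv_eq_one.mp e)
      show x0 * g ^ i * x0⁻¹ * (g ^ i)⁻¹ = 1
      rw [(hc'.zpow_right i).eq]; group
    rw [hmulA x0 _ _ (A.zpow_mem hc i) (A.zpow_mem (hA.inv c hc) j), hz c hc e,
      hz _ (hA.inv c hc) (by rw [hanti x0 c hc, e, map_one, map_one]), one_mul]
  have huV : u ∈ V := hdinj u huA hdu
  have hu1 : u ≠ 1 := fun e => hx0A (hA.le (h.mem x0 (by rw [pow_two]; exact e)))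
  obtain ⟨a, haA, hau⟩ : ∃ a ∈ A, a * a = u := by
    have hoa : a0 * a0 ≠ 1 := fun e => by
      have := orderOf_le_of_pow_eq_one (x := a0) two_pos (by rw [pow_two]; exact e)
      rw [hord] at this
      norm_num at this
    rcases h.four (hsqV a0 ha0) hoa huV with e | e | e | e
    · exact absurd e hu1
    · exact ⟨a0, ha0, e.symm⟩
    · exact ⟨ρ a0, hA.inv _ ha0, by rw [← map_mul, ← e]⟩
    · refine ⟨a0 * ρ a0, A.mul_mem ha0 (hA.inv _ ha0), ?_⟩
      rw [e, map_mul, (hc0.symm.mul_mul_mul_comm a0 (ρ a0))]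
  have haV : a ∉ V := fun hav => hu1 (by rw [← hau, ← pow_two]; exact h.sq a hav)
  have hoa : orderOf a = 2 ^ (1 + 1) :=
    orderOf_eq_prime_pow (n := 1) (by rw [pow_one]; exact fun h2 => haV (h.mem a h2)) (hexp a haA)
  obtain ⟨hinda, hgena⟩ := h.span hA haA 1 hoa hexp
  set l := dl x0 a with hl
  have hlV : l ∈ V := hdlV a haA
  have hl1 : l ≠ 1 := fun e => haV (hdinj a haA e)
  have hvc : ∀ v ∈ V, ∀ t, Commute v t := fun v hv t => (Subgroup.mem_center_iff.mp (h.cen hv) t).symm
  have hcVT : Nat.card T = 64 := by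
    have hAc : Nat.card A = 16 := by
      let f : Fin 4 × Fin 4 → A := fun p => ⟨a ^ (p.1.1 : ℤ) * ρ a ^ (p.2.1 : ℤ),
        A.mul_mem (A.zpow_mem haA _) (A.zpow_mem (hA.inv _ haA) _)⟩
      have hf : Function.Bijective f := by
        constructor
        · rintro ⟨i, j⟩ ⟨p, q⟩ e
          have e' : a ^ (i.1 : ℤ) * ρ a ^ (j.1 : ℤ) = a ^ (p.1 : ℤ) * ρ a ^ (q.1 : ℤ) := congrArg Subtype.val e
          have e2 : a ^ ((i.1 : ℤ) - p.1) * ρ a ^ ((j.1 : ℤ) - q.1) = 1 := by
            rw [sub_eq_add_neg, sub_eq_add_neg, add_comm (i.1 : ℤ), zpow_add, zpow_add, mul_assoc,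
              ← mul_assoc (a ^ (i.1 : ℤ)), e']
            group
          obtain ⟨h1, h2⟩ := hinda _ _ e2
          norm_num at h1 h2
          obtain rfl : i = p := Fin.ext (by omega)
          obtain rfl : j = q := Fin.ext (by omega)
          rfl
        · intro g
          obtain ⟨i, j, hij⟩ := hgena g g.2
          refine ⟨(⟨(i % 4).toNat, by omega⟩, ⟨(j % 4).toNat, by omega⟩), Subtype.ext ?_⟩
          show a ^ (((i % 4).toNat : ℕ) : ℤ) * ρ a ^ (((j % 4).toNat : ℕ) : ℤ) = g
          rw [hij, Int.toNat_of_nonneg (by omega), Int.toNat_of_nonneg (by omega)]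
          have hmod : ∀ g : T, g ^ 4 = 1 → ∀ i : ℤ, g ^ (i % 4) = g ^ i := fun g hg i => by
            conv_rhs => rw [← Int.emod_add_mul_ediv i 4, zpow_add, zpow_mul]
            rw [show g ^ (4 : ℤ) = 1 from (zpow_ofNat g 4).trans hg, one_zpow, mul_one]
          rw [hmod a (hexp a haA), hmod (ρ a) (hexp _ (hA.inv a haA))]
      rw [← Nat.card_eq_of_bijective f hf]; simp
    let F : T →* V := MonoidHom.mk' (fun t => ⟨dl t a, hdlV' t a haA⟩) (fun s t => Subtype.ext (by
      show dl (s * t) a = dl s a * dl t a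
      calc dl (s * t) a = s * dl t a * s⁻¹ * dl s a := by simp only [dl]; group
        _ = dl t a * dl s a := by rw [← (hvc _ (hdlV' t a haA) s).eq, mul_inv_cancel_right]
        _ = _ := (hvc _ (hdlV' t a haA) _).eq))
    have hker : F.ker = A := by
      refine le_antisymm (fun t ht => hCA (Subgroup.mem_centralizer_iff.mpr fun g hg => ?_)) (fun t ht => ?_)
      · have e : dl t a = 1 := congrArg Subtype.val ht
        obtain ⟨i, j, rfl⟩ := hgena g hg
        have hc : Commute t a := mul_inv_eq_iff_eq_mul.mp (mul_inv_eq_one.mp e)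
        have e' : dl t (ρ a) = 1 := by rw [hanti t a haA, e, map_one, map_one]
        have hc' : Commute t (ρ a) := mul_inv_eq_iff_eq_mul.mp (mul_inv_eq_one.mp e')
        exact ((hc.zpow_right i).mul_right (hc'.zpow_right j)).eq.symm
      · apply Subtype.ext
        show dl t a = 1
        simp only [dl]; rw [hA.comm t ht a haA]; group
    have hsurj : F.range = ⊤ := by
      rw [eq_top_iff]
      rintro ⟨v, hv⟩ -
      have hlr : (⟨l, hlV⟩ : V) ∈ F.range := ⟨x0, rfl⟩
      have hρl : (⟨ρ (ρ l), h.mapV (h.mapV hlV)⟩ : V) ∈ F.range := ⟨ρ x0, Subtype.ext (by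
        show dl (ρ x0) a = ρ (ρ l)
        rw [hswap x0 a haA, hanti x0 a haA])⟩
      rcases h.four hlV hl1 hv with e | e | e | e
      · rw [show (⟨v, hv⟩ : V) = 1 from Subtype.ext e]; exact F.range.one_mem
      · convert hlr
      · convert F.range.mul_mem hlr hρl
        rw [Subgroup.coe_mul]
        show v = l * ρ (ρ l)
        rw [h.rho_two hlV, ← mul_assoc, ← pow_two, h.sq l hlV, one_mul]; exact e
      · convert hρl; rw [h.rho_two hlV]; exact e
    have := F.ker.card_mul_index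
    rw [Subgroup.index_ker, hsurj, hker, hAc, Subgroup.card_top, h.card] at this
    omega
  -- choose the direction of the automorphism
  have hmain : ∀ y b z, b ∈ A → z ∈ V → y * y = z → b * b = z → Commute x0 y →
      (∀ g ∈ A, ∃ i j : ℤ, g = a ^ i * b ^ j) →
      dl x0 a = z → dl x0 b = u → dl y a = u → dl y b = u * z → y ∉ A → x0⁻¹ * y ∉ A →
      ∃ x y a b z w : T, Rel T x y a b z w := by
    intro y b z hb hz hy2 hb2 hxy hgA e1 e2 e3 e4 hyA hxyA
    refine ⟨x0, y, a, b, u, z, ⟨rfl, hy2, hau, hb2, hxy.eq, hA.comm a haA b hb, ?_, ?_, ?_, ?_,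
      h.cen huV, h.cen hz, by rw [← pow_two]; exact h.sq u huV, by rw [← pow_two]; exact h.sq z hz, ?_, hcVT⟩⟩
    · rw [← e1]; simp only [dl]; group
    · rw [← e2]; simp only [dl]; group
    · rw [← e3]; simp only [dl]; group
    · rw [← e4]; simp only [dl]; group
    · set K := Subgroup.closure ({x0, y, a, b} : Set T)
      have haK : a ∈ K := Subgroup.subset_closure (by simp)
      have hbK : b ∈ K := Subgroup.subset_closure (by simp)
      have hAK : A ≤ K := fun g hg => by
        obtain ⟨i, j, rfl⟩ := hgA g hg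
        exact K.mul_mem (K.zpow_mem haK i) (K.zpow_mem hbK j)
      have hxK : x0 ∈ K := Subgroup.subset_closure (by simp)
      have hyK : y ∈ K := Subgroup.subset_closure (by simp)
      have h3 : 3 ≤ A.relIndex K := by
        rw [Subgroup.relIndex, Subgroup.index]
        let f : Fin 3 → K ⧸ A.subgroupOf K := ![QuotientGroup.mk 1, QuotientGroup.mk ⟨x0, hxK⟩, QuotientGroup.mk ⟨y, hyK⟩]
        have hf : Function.Injective f := by
          intro i j e
          fin_cases i <;> fin_cases j <;> first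
            | rfl
            | (exfalso
               simp only [f, Matrix.cons_val_zero, Matrix.cons_val_one, Matrix.cons_val_two,
                 Matrix.head_cons, Matrix.tail_cons, Fin.zero_eta, Fin.mk_one, Fin.reduceFinMk] at e
               first
                 | (have h' := QuotientGroup.eq.mp e; simp [Subgroup.mem_subgroupOf] at h'
                    first | exact hx0A h' | exact hyA h' | exact hxyA h')
                 | (have h' := QuotientGroup.eq.mp e.symm; simp [Subgroup.mem_subgroupOf] at h'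
                    first | exact hx0A h' | exact hyA h' | exact hxyA h'))
        simpa using Nat.card_le_card_of_injective f hf
      have hA16 : 16 ≤ Nat.card A := by
        let f : Fin 4 × Fin 4 → A := fun p => ⟨a ^ (p.1.1 : ℤ) * ρ a ^ (p.2.1 : ℤ),
          A.mul_mem (A.zpow_mem haA _) (A.zpow_mem (hA.inv _ haA) _)⟩
        have hf : Function.Injective f := by
          rintro ⟨i, j⟩ ⟨p, q⟩ e
          have e' : a ^ (i.1 : ℤ) * ρ a ^ (j.1 : ℤ) = a ^ (p.1 : ℤ) * ρ a ^ (q.1 : ℤ) := congrArg Subtype.val e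
          have e2 : a ^ ((i.1 : ℤ) - p.1) * ρ a ^ ((j.1 : ℤ) - q.1) = 1 := by
            rw [sub_eq_add_neg, sub_eq_add_neg, add_comm (i.1 : ℤ), zpow_add, zpow_add, mul_assoc,
              ← mul_assoc (a ^ (i.1 : ℤ)), e']
            group
          obtain ⟨h1, h2⟩ := hinda _ _ e2
          norm_num at h1 h2
          obtain rfl : i = p := Fin.ext (by omega)
          obtain rfl : j = q := Fin.ext (by omega)
          rfl
        simpa using Nat.card_le_card_of_injective f hf
      have h4 := (A.subgroupOf K).card_mul_index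
      rw [Nat.card_congr (Subgroup.subgroupOfEquivOfLe hAK).toEquiv] at h4
      apply Subgroup.eq_top_of_le_card
      rw [hcVT]
      rw [Subgroup.relIndex] at h3
      have h5 : 48 ≤ Nat.card K := by rw [← h4]; exact Nat.mul_le_mul hA16 h3
      obtain ⟨e, he⟩ := IsPGroup.iff_card.mp (h.isP.to_subgroup K)
      rw [he] at h5 ⊢
      have : 6 ≤ e := by
        by_contra he6
        have := Nat.pow_le_pow_right (show 1 ≤ 2 by norm_num) (show e ≤ 5 by omega)
        omega
      calc 64 = 2 ^ 6 := by norm_num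
        _ ≤ _ := Nat.pow_le_pow_right (by norm_num) this
  have hρu := h.mapV huV
  obtain ⟨hfpf1, hfpf2⟩ := fpf_three ρ h33 hfp x0
  have hlne : l ≠ u := by
    intro e
    -- then `x0 (ρ a)` is an involution
    apply hx0A
    have hb : ρ a ∈ A := hA.inv a haA
    have e2 : (x0 * ρ a) ^ 2 = 1 := by
      have hd : dl x0 (ρ a) = u * ρ u := by rw [hanti x0 a haA, ← hl, e, h.rho_two huV]
      calc (x0 * ρ a) ^ 2 = dl x0 (ρ a) * ρ a * u * ρ a := by rw [pow_two]; simp only [dl, hu]; group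
        _ = dl x0 (ρ a) * (u * (ρ a * ρ a)) := by rw [mul_assoc _ (ρ a) u, ← (hvc u huV (ρ a)).eq]; group
        _ = _ := by rw [hd, ← map_mul, hau, ← pow_two]; exact h.sq _ (V.mul_mem huV hρu)
    have := A.mul_mem (hA.le (h.mem _ e2)) (A.inv_mem hb)
    simpa using this
  have hnotA : ρ x0 ∉ A ∧ ρ (ρ x0) ∉ A := by
    refine ⟨fun e => hx0A ?_, fun e => hx0A ?_⟩
    · have := hA.inv _ (hA.inv _ e); rwa [h33] at this
    · have := hA.inv _ e; rwa [h33] at this
  have hρa : ∀ g ∈ A, ρ (ρ g) ∈ A := fun g hg => hA.inv _ (hA.inv g hg)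
  rcases h.four huV hu1 hlV with e | e | e | e
  · exact absurd e hl1
  · exact absurd e hlne
  · -- `λ = ρ u`
    refine hmain (ρ x0) (ρ a) (ρ u) (hA.inv a haA) hρu (by rw [← map_mul]) (by rw [← map_mul, hau])
      hfpf2 hgena e ?_ ?_ ?_ hnotA.1 ?_
    · rw [hanti x0 a haA, ← hl, e, h33]
    · rw [hswap x0 a haA, hanti x0 a haA, ← hl, e, h33]
    · rw [← hρdl, ← hl, e, h.rho_two huV]
    · intro e'
      have h9 : x0⁻¹ * ρ x0 ∈ A := e'
      have : dl (ρ x0) a = dl x0 a := by
        obtain ⟨g, hg, hge⟩ : ∃ g ∈ A, ρ x0 = x0 * g := ⟨_, h9, (mul_inv_cancel_left x0 _).symm⟩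
        rw [hge]; simp only [dl]
        calc x0 * g * a * (x0 * g)⁻¹ * a⁻¹ = x0 * (g * a * g⁻¹) * x0⁻¹ * a⁻¹ := by group
          _ = _ := by rw [hA.comm g hg a haA]; group
      rw [hswap x0 a haA, hanti x0 a haA, ← hl, e, h33] at this
      exact hu1 (h.fpf u huV this.symm)
  · -- `λ = ρ² u`
    have e' : l = ρ (ρ u) := by rw [h.rho_two huV]; exact e
    have hgen2 : ∀ g ∈ A, ∃ i j : ℤ, g = a ^ i * ρ (ρ a) ^ j := by
      intro g hg
      obtain ⟨i, j, rfl⟩ := hgena g hg
      refine ⟨i - j, -j, ?_⟩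
      have hc : Commute a (ρ a) := hA.comm a haA _ (hA.inv a haA)
      rw [hρρA a haA, inv_zpow, ← zpow_neg, neg_neg, hc.mul_zpow, ← mul_assoc, ← zpow_add, sub_add_cancel]
    refine hmain (ρ (ρ x0)) (ρ (ρ a)) (ρ (ρ u)) (hρa a haA) (h.mapV hρu) (by rw [← map_mul, ← map_mul])
      (by rw [← map_mul, ← map_mul, hau]) ?_ hgen2 e' ?_ ?_ ?_ hnotA.2 ?_
    · show x0 * ρ (ρ x0) = ρ (ρ x0) * x0
      rw [eq_inv_of_mul_eq_one_right hfpf1, mul_inv_rev]
      have hc : Commute x0 (ρ x0) := hfpf2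
      exact ((hc.inv_right).mul_right (Commute.refl x0).inv_right).eq
    · rw [hanti x0 _ (hA.inv a haA), hanti x0 a haA, ← hl, e', h33, h33]
    · rw [hswap (ρ x0) a haA, hswap x0 _ (hA.inv a haA), hanti x0 _ (hA.inv a haA), hanti x0 a haA, ← hl,
        e', h33, h33]
    · rw [← hρdl, ← hρdl, ← hl, e', h33, h.rho_two huV, ← mul_assoc, ← pow_two, h.sq u huV, one_mul]
    · intro e''
      have : dl (ρ (ρ x0)) a = dl x0 a := by
        obtain ⟨g, hg, hge⟩ : ∃ g ∈ A, ρ (ρ x0) = x0 * g := ⟨_, e'', (mul_inv_cancel_left x0 _).symm⟩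
        rw [hge]; simp only [dl]
        calc x0 * g * a * (x0 * g)⁻¹ * a⁻¹ = x0 * (g * a * g⁻¹) * x0⁻¹ * a⁻¹ := by group
          _ = _ := by rw [hA.comm g hg a haA]; group
      rw [hswap (ρ x0) a haA, hswap x0 _ (hA.inv a haA), hanti x0 _ (hA.inv a haA), hanti x0 a haA, ← hl,
        e', h33, h33] at this
      have := congrArg ρ this
      rw [h33] at this
      exact hu1 (h.fpf u huV this)

theorem hyp_of_transitive (hT : IsPGroup 2 T) (h2 : Cfsg.PRankLE 2 2 T) (h1 : ¬ Cfsg.PRankLE 2 1 T)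
    (φ : MulAut T) (htrans : ∀ s t : T, orderOf s = 2 → orderOf t = 2 → ∃ k : ℕ, (φ ^ k) s = t) :
    ∃ (V : Subgroup T) (ρ : MulAut T), Hyp T V ρ := by
  classical
  haveI : Fact (Nat.Prime 2) := ⟨Nat.prime_two⟩
  unfold Cfsg.PRankLE at h1
  push Not at h1
  obtain ⟨B, hBc, hB2, hBcard⟩ := h1
  have hord : ∀ x : T, x ^ 2 = 1 → x ≠ 1 → orderOf x = 2 := fun x h hx => orderOf_eq_prime h hx
  obtain ⟨b, hbB, hb1⟩ : ∃ b ∈ B, b ≠ 1 := by
    by_contra! hcon
    rw [(eq_bot_iff.mpr (fun b hb => Subgroup.mem_bot.mpr (hcon b hb)) : B = ⊥)] at hBcard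
    simp at hBcard
  haveI : Nontrivial T := ⟨⟨b, 1, hb1⟩⟩
  haveI := hT.center_nontrivial
  obtain ⟨k0, hk0, hZc⟩ := (hT.to_subgroup (Subgroup.center T)).nontrivial_iff_card.mp inferInstance
  obtain ⟨⟨z, hzc⟩, hz⟩ := exists_prime_orderOf_dvd_card' (G := Subgroup.center T) 2
    (by rw [hZc]; exact dvd_pow_self 2 hk0.ne')
  rw [← Subgroup.orderOf_coe] at hz
  have hz2 : orderOf z = 2 := hz
  have hcenI : ∀ x : T, x ^ 2 = 1 → x ∈ Subgroup.center T := by
    intro x hx
    by_cases hx1 : x = 1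
    · rw [hx1]; exact Subgroup.one_mem _
    obtain ⟨k, hk⟩ := htrans z x hz2 (hord x hx hx1)
    rw [← hk]
    exact center_invariant (φ ^ k) z hzc
  let V : Subgroup T :=
    { carrier := {x | x ^ 2 = 1}
      one_mem' := one_pow 2
      mul_mem' := fun {x y} hx hy => by
        show (x * y) ^ 2 = 1
        rw [(show Commute x y from (Subgroup.mem_center_iff.mp (hcenI x hx) y).symm).mul_pow, hx, hy, one_mul]
      inv_mem' := fun {x} hx => by
        show x⁻¹ ^ 2 = 1
        rw [inv_pow, hx, inv_one] }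
  have hVcard : Nat.card V = 4 := by
    have hle : Nat.card V ≤ 4 := h2 V ⟨⟨fun x y => Subtype.ext (Subgroup.mem_center_iff.mp (hcenI _ y.2) x)⟩⟩ (fun x hx => hx)
    have hBV : B ≤ V := fun x hx => hB2 x hx
    have hlb := hBcard.trans_le (Subgroup.card_le_of_le hBV)
    obtain ⟨e, he⟩ := IsPGroup.iff_card.mp (hT.to_subgroup V)
    rw [he] at hle hlb ⊢
    rw [pow_one] at hlb
    have he2 : e = 2 := by
      rcases Nat.lt_or_ge e 2 with he | he
      · interval_cases e <;> norm_num at hlb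
      · rcases he.eq_or_lt with he | he
        · exact he.symm
        · have := Nat.pow_le_pow_right (show 1 ≤ 2 by norm_num) (show 3 ≤ e by omega)
          omega
    rw [he2]; norm_num
  have hφV : ∀ (σ : MulAut T) (v : T), v ∈ V → σ v ∈ V := fun σ v hv => by
    show σ v ^ 2 = 1
    rw [← map_pow, (hv : v ^ 2 = 1), map_one]
  have hfix : ∀ v ∈ V, φ v = v → v = 1 := by
    intro v hv hfv
    by_contra hv1
    have huniq : ∀ w ∈ V, w ≠ 1 → w = v := fun w hw hw1 => by
      obtain ⟨k, hk⟩ := htrans v w (hord v hv hv1) (hord w hw hw1)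
      rw [← hk, iterate_fixed φ hfv k]
    have : Nat.card V ≤ 2 := by
      let f : V → Fin 2 := fun w => if (w : T) = 1 then 0 else 1
      refine (Nat.card_le_card_of_injective f fun s t e => ?_).trans (by simp)
      simp only [f] at e
      split_ifs at e with h1 h2 h2
      · exact Subtype.ext (h1.trans h2.symm)
      · exact absurd e (by decide)
      · exact absurd e (by decide)
      · exact Subtype.ext ((huniq _ s.2 h1).trans (huniq _ t.2 h2).symm)
    omega
  -- `φ ^ 3` is trivial on `V`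
  have hcube : ∀ v ∈ V, (φ ^ 3) v = v := by
    intro v hv
    by_cases hv1 : v = 1
    · rw [hv1, map_one]
    have h1 : φ v ≠ v := fun e => hv1 (hfix v hv e)
    have hne1 : ∀ (k : ℕ), (φ ^ k) v ≠ 1 := fun k e => hv1 ((φ ^ k).injective (e.trans (map_one _).symm))
    have h2 : (φ ^ 2) v ≠ v := by
      intro e
      -- the orbit would have two elements only
      have horb : ∀ k, (φ ^ k) v = v ∨ (φ ^ k) v = φ v := by
        intro k
        induction k with
        | zero => exact Or.inl rfl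
        | succ k ih =>
          rw [pow_succ', MulAut.mul_apply]
          rcases ih with e' | e' <;> rw [e']
          · exact Or.inr rfl
          · rw [← MulAut.mul_apply, ← pow_two]; exact Or.inl e
      have : Nat.card V ≤ 3 := by
        let f : V → Fin 3 := fun w => if (w : T) = 1 then 0 else if (w : T) = v then 1 else 2
        refine (Nat.card_le_card_of_injective f fun s t e' => ?_).trans (by simp)
        have hw : ∀ w : V, (w : T) ≠ 1 → (w : T) ≠ v → (w : T) = φ v := by
          intro w hw1 hwv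
          obtain ⟨k, hk⟩ := htrans v w (hord v hv hv1) (hord w w.2 hw1)
          rcases horb k with e'' | e''
          · exact absurd (hk.symm.trans e'') hwv
          · exact hk.symm.trans e''
        simp only [f] at e'
        split_ifs at e' with a1 a2 a3 a4 a5 a6 a7 a8 <;>
          first
            | exact absurd e' (by decide)
            | exact Subtype.ext (by grind)
      omega
    have h3 : (φ ^ 2) v ≠ φ v := fun e => h1 (φ.injective (by rw [← MulAut.mul_apply, ← pow_two]; exact e))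
    by_contra h4
    have h5 : (φ ^ 3) v ≠ φ v := fun e => h2 (φ.injective (by rw [← MulAut.mul_apply, ← pow_succ']; exact e))
    have h6 : (φ ^ 3) v ≠ (φ ^ 2) v := fun e => h1 ((φ ^ 2).injective (by
      rw [← MulAut.mul_apply, ← pow_succ]; exact e))
    let f : Fin 5 → V := ![⟨1, V.one_mem⟩, ⟨v, hv⟩, ⟨φ v, hφV φ v hv⟩, ⟨(φ ^ 2) v, hφV _ v hv⟩, ⟨(φ ^ 3) v, hφV _ v hv⟩]
    have hf : Function.Injective f := by
      intro i j e
      have e' := congrArg Subtype.val e
      fin_cases i <;> fin_cases j <;> first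
        | rfl
        | (exfalso; simp [f] at e'
           first
             | exact hv1 e' | exact hv1 e'.symm | exact h1 e' | exact h1 e'.symm | exact h2 e' | exact h2 e'.symm
             | exact h3 e' | exact h3 e'.symm | exact h4 e' | exact h4 e'.symm | exact h5 e' | exact h5 e'.symm
             | exact h6 e' | exact h6 e'.symm | exact hne1 1 e' | exact hne1 1 e'.symm
             | exact hne1 2 e' | exact hne1 2 e'.symm | exact hne1 3 e' | exact hne1 3 e'.symm)
    have := Nat.card_le_card_of_injective f hf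
    rw [Nat.card_fin, hVcard] at this
    omega
  obtain ⟨k, m, hm, hkm⟩ := Nat.exists_eq_pow_mul_and_not_dvd (orderOf_pos φ).ne' 3 (by norm_num)
  refine ⟨V, φ ^ m, hT, hVcard, fun v hv => hcenI v hv, fun v hv => hv, fun x hx => hx, ?_, k, ?_⟩
  · intro v hv hfv
    have hper : ∀ i, ((φ ^ 3) ^ i) v = v := iterate_fixed _ (hcube v hv)
    rw [← Nat.mod_add_div m 3, pow_add, MulAut.mul_apply, pow_mul, hper] at hfv
    have hm3 : m % 3 = 1 ∨ m % 3 = 2 := by omega
    rcases hm3 with e | e <;> rw [e] at hfv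
    · rw [pow_one] at hfv; exact hfix v hv hfv
    · refine hfix v hv ?_
      have h3 := hcube v hv
      rw [pow_succ', MulAut.mul_apply, hfv] at h3
      exact h3
  · rw [← pow_mul, mul_comm, ← hkm, pow_orderOf_eq_one]

end Core

theorem sylow_rel {F : Type v} [Field F] [Fintype F] (hF : Fintype.card F = 16) (P : Sylow 2 (Cfsg.PSU 3 F 4)) :
    ∃ x y a b z w : (P : Subgroup (Cfsg.PSU 3 F 4)), Rel (P : Subgroup (Cfsg.PSU 3 F 4)) x y a b z w := by
  classical
  have hF' : Fintype.card F = 4 ^ 2 := by rw [hF]; norm_num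
  have he : Even (4 : ℕ) := ⟨2, rfl⟩
  let _ := hermGroup hF' he
  haveI : Finite (Herm F 4) := Nat.finite_of_card_ne_zero (by rw [natCard_herm hF' he]; norm_num)
  haveI : Fact (Nat.Prime 2) := ⟨Nat.prime_two⟩
  have hL := hermLike_herm hF' he
  obtain ⟨eP⟩ := herm_equiv_sylow_psu hF' he (n := 2) (by norm_num) P
  -- a generator of the multiplicative group
  obtain ⟨g, hg⟩ := IsCyclic.exists_generator (α := Fˣ)
  have hg15 : orderOf g = 15 := by
    rw [orderOf_eq_card_of_forall_mem_zpowers hg, Nat.card_eq_fintype_card, Fintype.card_units, hF]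
  have hl15 : (g : F) ^ 15 = 1 := by
    rw [← Units.val_pow_eq_pow_val, ← hg15, pow_orderOf_eq_one, Units.val_one]
  have hgne : (g : F) ≠ 0 := g.ne_zero
  let φ : MulAut (Herm F 4) := MulEquiv.ofBijective
    (MonoidHom.mk' (fun p : Herm F 4 => (⟨(g : F) * p.a, (g : F) ^ 5 * p.b, by
      have h := p.rel
      have : (g : F) ^ 20 = (g : F) ^ 5 := by
        rw [show 20 = 15 + 5 by norm_num, pow_add, hl15, one_mul]
      calc (g : F) ^ 5 * p.b + ((g : F) ^ 5 * p.b) ^ 4 = (g : F) ^ 5 * p.b + (g : F) ^ 20 * p.b ^ 4 := by ring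
        _ = (g : F) ^ 5 * (p.b + p.b ^ 4) := by rw [this]; ring
        _ = _ := by rw [h]; ring⟩ : Herm F 4))
      (fun p q => by
        refine Herm.ext ?_ ?_
        · show (g : F) * (p * q).a = _
          rw [herm_mul_a hF' he, herm_mul_a hF' he]
          show (g : F) * (p.a + q.a) = (g : F) * p.a + (g : F) * q.a
          ring
        · show (g : F) ^ 5 * (p * q).b = _
          rw [herm_mul_b hF' he, herm_mul_b hF' he]
          show (g : F) ^ 5 * (p.b + q.b + p.a ^ 4 * q.a) =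
            (g : F) ^ 5 * p.b + (g : F) ^ 5 * q.b + ((g : F) * p.a) ^ 4 * ((g : F) * q.a)
          ring))
    (by
      refine Finite.injective_iff_bijective.mp fun p q e => ?_
      have e1 : (g : F) * p.a = (g : F) * q.a := congrArg Herm.a e
      have e2 : (g : F) ^ 5 * p.b = (g : F) ^ 5 * q.b := congrArg Herm.b e
      exact Herm.ext (mul_left_cancel₀ hgne e1) (mul_left_cancel₀ (pow_ne_zero 5 hgne) e2))
  have hφb : ∀ (k : ℕ) (p : Herm F 4), ((φ ^ k) p).b = (g : F) ^ (5 * k) * p.b ∧ ((φ ^ k) p).a = (g : F) ^ k * p.a := by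
    intro k
    induction k with
    | zero => intro p; simp
    | succ k ih =>
      intro p
      rw [pow_succ', MulAut.mul_apply]
      show (g : F) ^ 5 * ((φ ^ k) p).b = _ ∧ (g : F) * ((φ ^ k) p).a = _
      rw [(ih p).1, (ih p).2]
      constructor <;> ring
  have hinv : ∀ p : Herm F 4, p * p = 1 → p.a = 0 := by
    intro p hp
    have h := congrArg Herm.b hp
    rw [herm_mul_b hF' he, herm_one_b hF' he] at h
    have h2 := two_eq_zero hF' he
    have : p.a ^ 5 = 0 := by linear_combination h - p.b * h2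
    exact eq_zero_of_pow_eq_zero this
  have hb3 : ∀ p : Herm F 4, orderOf p = 2 → p.a = 0 ∧ p.b ^ 3 = 1 := by
    intro p hp
    have hp2 : p * p = 1 := by
      have := pow_orderOf_eq_one p
      rwa [hp, pow_two] at this
    have hp1 : p ≠ 1 := fun e => by rw [e, orderOf_one] at hp; norm_num at hp
    have ha := hinv p hp2
    refine ⟨ha, ?_⟩
    have hb : p.b ≠ 0 := fun hb => hp1 (Herm.ext (ha.trans (herm_one_a hF' he).symm) (hb.trans (herm_one_b hF' he).symm))
    have hr := p.rel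
    rw [ha, zero_pow (by norm_num)] at hr
    have h2 := two_eq_zero hF' he
    have : p.b * (p.b ^ 3 - 1) = 0 := by linear_combination hr - p.b * h2
    exact sub_eq_zero.mp ((mul_eq_zero.mp this).resolve_left hb)
  have hω : IsPrimitiveRoot ((g : F) ^ 5) 3 := by
    have h1 : IsPrimitiveRoot (g : F) 15 := by
      rw [IsPrimitiveRoot.coe_units_iff]
      exact hg15 ▸ IsPrimitiveRoot.orderOf g
    exact h1.pow (by norm_num) (by norm_num)
  have htrans : ∀ s t : Herm F 4, orderOf s = 2 → orderOf t = 2 → ∃ k : ℕ, (φ ^ k) s = t := by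
    intro s t hs ht
    obtain ⟨hsa, hsb⟩ := hb3 s hs
    obtain ⟨hta, htb⟩ := hb3 t ht
    have hs0 : s.b ≠ 0 := fun e => by rw [e, zero_pow (by norm_num)] at hsb; exact zero_ne_one hsb
    haveI : NeZero (3 : ℕ) := ⟨by norm_num⟩
    obtain ⟨i, -, hi⟩ := hω.eq_pow_of_pow_eq_one (ξ := t.b / s.b) (by rw [div_pow, hsb, htb, div_one])
    refine ⟨i, Herm.ext ?_ ?_⟩
    · rw [(hφb i s).2, hsa, mul_zero, hta]
    · rw [(hφb i s).1, pow_mul, hi, div_mul_cancel₀ _ hs0]
  have hHcard : Nat.card (Herm F 4) = 64 := by rw [natCard_herm hF' he]; norm_num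
  have hp2 : IsPGroup 2 (Herm F 4) := IsPGroup.of_card (n := 6) (by rw [hHcard]; norm_num)
  have h2 : Cfsg.PRankLE 2 2 (Herm F 4) := by
    intro A _ hA
    have hle : A ≤ Subgroup.center (Herm F 4) := fun a ha => hL.sq_one a (by rw [← pow_two]; exact hA a ha)
    have := Subgroup.card_le_of_le hle
    rw [hL.card_center] at this
    simpa using this
  have h1 : ¬ Cfsg.PRankLE 2 1 (Herm F 4) := by
    intro h
    have := h (Subgroup.center _) inferInstance (fun z hz => by rw [pow_two]; exact hL.center_sq z hz)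
    rw [hL.card_center] at this
    norm_num at this
  obtain ⟨V, ρ, hyp⟩ := hyp_of_transitive hp2 h2 h1 φ htrans
  rcases hyp.classify with ⟨n, -, ⟨e⟩⟩ | ⟨x, y, a, b, z, w, h⟩
  · exfalso
    have hab : ∀ p q : Herm F 4, p * q = q * p := fun p q => e.injective (by rw [map_mul, map_mul, mul_comm])
    have htop : Subgroup.center (Herm F 4) = ⊤ := eq_top_iff.mpr fun p _ => Subgroup.mem_center_iff.mpr fun q => hab q p
    have := hL.card_center
    rw [htop, Subgroup.card_top, hHcard] at this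
    omega
  · refine ⟨eP x, eP y, eP a, eP b, eP z, eP w, ?_⟩
    have hc : ∀ p : Herm F 4, p ∈ Subgroup.center (Herm F 4) → eP p ∈ Subgroup.center _ := by
      intro p hp
      rw [Subgroup.mem_center_iff] at hp ⊢
      intro q
      obtain ⟨q, rfl⟩ := eP.surjective q
      rw [← map_mul, ← map_mul, hp]
    exact ⟨by rw [← map_mul, h.sx], by rw [← map_mul, h.sy], by rw [← map_mul, h.sa], by rw [← map_mul, h.sb],
      by rw [← map_mul, h.cxy, map_mul], by rw [← map_mul, h.cab, map_mul],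
      by rw [← map_mul, h.xa, map_mul, map_mul], by rw [← map_mul, h.xb, map_mul, map_mul],
      by rw [← map_mul, h.ya, map_mul, map_mul], by rw [← map_mul, h.yb, map_mul, map_mul, map_mul],
      hc z h.zc, hc w h.wc, by rw [← map_mul, h.zz, map_one], by rw [← map_mul, h.ww, map_one],
      by
        have := congrArg (Subgroup.map eP.toMonoidHom) h.gen
        rw [MonoidHom.map_closure, Subgroup.map_top_of_surjective _ eP.surjective] at this
        simpa [Set.image_insert_eq] using this,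
      by rw [← Nat.card_congr eP.toEquiv, h.card]⟩


/-- Let T be a finite 2-group of 2-rank exactly 2 (it has a Klein four-subgroup but no elementary abelian subgroup of order 8) admitting an automorphism φ such that any two involutions of T are carried to one another by a power of φ. Then T ≅ Z_{2^n} × Z_{2^n} for some n ≥ 1, or T is isomorphic to a Sylow 2-subgroup of PSU(3) over the field with 16 elements. -/
theorem result {T : Type*} [Group T] [Finite T] (hT : IsPGroup 2 T) (h2 : Cfsg.PRankLE 2 2 T) (h1 : ¬ Cfsg.PRankLE 2 1 T) (φ : MulAut T) (htrans : ∀ s t : T, orderOf s = 2 → orderOf t = 2 → ∃ k : ℕ, (φ ^ k) s = t) {F : Type*} [Field F] [Fintype F] (hF : Fintype.card F = 16) (P : Sylow 2 (Cfsg.PSU 3 F 4)) : (∃ n : ℕ, 1 ≤ n ∧ Nonempty (T ≃* Multiplicative (ZMod (2 ^ n) × ZMod (2 ^ n)))) ∨ Nonempty (T ≃* (P : Subgroup (Cfsg.PSU 3 F 4))) := by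
  obtain ⟨V, ρ, hyp⟩ := hyp_of_transitive hT h2 h1 φ htrans
  rcases hyp.classify with h | ⟨x, y, a, b, z, w, h⟩
  · exact Or.inl h
  · obtain ⟨x', y', a', b', z', w', h'⟩ := sylow_rel hF P
    exact Or.inr (rel_equiv h h')


end Cfsg.Agent.S1237
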