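import Cfsg.Statements.S5317
import Cfsg.Agent.S5340
import Cfsg.Agent.S3116
import Cfsg.Agent.Lib.Fusion.Group
import Cfsg.Agent.Lib.Fusion.Aut
import Cfsg.Agent.Lib.PSL2.Involution
import Cfsg.Agent.Lib.TwoGroups.DihedralSylowPSL

set_option autoImplicit false
open Cfsg

namespace Cfsg.Agent.S5317

/-- Let F be a finite field of odd order q with q² ≡ 1 mod 16 (so that a Sylow 2-subgroup of PSL(2,q), dihedral of order the 2-part of (q²−1)/2, has order at least 8). Then the 2-fusion system of PSL(2,F) on a Sylow 2-subgroup is simple: saturated, over a nontrivial 2-group, with no normal subsystem other than the trivial one and itself. -/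
theorem result {F : Type*} [Field F] [Fintype F] (hodd : Fintype.card F % 2 = 1) (h16 : 16 ∣ Fintype.card F ^ 2 - 1)
    (S : Sylow 2 (Matrix.ProjectiveSpecialLinearGroup (Fin 2) F)) :
    (Cfsg.groupFusionSystem (S : Subgroup (Matrix.ProjectiveSpecialLinearGroup (Fin 2) F))).IsSimple 2 := by
  classical
  have : Fact (Nat.Prime 2) := ⟨Nat.prime_two⟩
  have hoddF : Odd (Fintype.card F) := Nat.odd_iff.2 hodd
  have h2 : (2 : F) ≠ 0 := CfsgLib.ClassicalGroups.SL2.two_ne_zero_of_odd hoddF
  obtain ⟨n, hn, ⟨e⟩⟩ := CfsgLib.TwoGroups.DihedralSylowPSL.sylow_dihedral hoddF h16 S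
  have hn0 : NeZero n := ⟨by omega⟩
  refine Cfsg.Agent.S5340.result 2 S.isPGroup' _ (CfsgLib.Fusion.group_saturated S) ?_ ?_ ?_ ?_
  · intro hbot
    have h := Nat.card_congr e.toEquiv
    rw [DihedralGroup.nat_card, hbot, Subgroup.card_bot] at h
    omega
  · refine le_antisymm ((Subgroup.closure_le _).2 fun x hx => hx.1) fun x hx => ?_
    set C := Subgroup.closure {y | y ∈ (S : Subgroup (Matrix.ProjectiveSpecialLinearGroup (Fin 2) F)) ∧
      orderOf y = 2}
    have hsr : ∀ i, ((e.symm (DihedralGroup.sr i) : (S : Subgroup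
        (Matrix.ProjectiveSpecialLinearGroup (Fin 2) F))) :
          Matrix.ProjectiveSpecialLinearGroup (Fin 2) F) ∈ C := fun i =>
      Subgroup.subset_closure ⟨Subtype.prop _, by
        rw [Subgroup.orderOf_coe, MulEquiv.orderOf_eq, DihedralGroup.orderOf_sr]⟩
    have key : ∀ d, ((e.symm d : (S : Subgroup (Matrix.ProjectiveSpecialLinearGroup (Fin 2) F))) :
          Matrix.ProjectiveSpecialLinearGroup (Fin 2) F) ∈ C := by
      rintro (i | i)
      · rw [show DihedralGroup.r i = DihedralGroup.sr 0 * DihedralGroup.sr i by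
          rw [DihedralGroup.sr_mul_sr, sub_zero], map_mul, Subgroup.coe_mul]
        exact mul_mem (hsr 0) (hsr i)
      · exact hsr i
    have := key (e ⟨x, hx⟩)
    rwa [MulEquiv.symm_apply_apply] at this
  · intro A B hA hB hcA hcB
    rw [CfsgLib.Fusion.group_isConj_iff]
    refine ⟨hA, hB, ?_⟩
    obtain ⟨a, ha⟩ := exists_prime_orderOf_dvd_card' (G := A) 2 (by rw [hcA])
    obtain ⟨b, hb⟩ := exists_prime_orderOf_dvd_card' (G := B) 2 (by rw [hcB])
    have ha' : orderOf (a : Matrix.ProjectiveSpecialLinearGroup (Fin 2) F) = 2 := by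
      rw [Subgroup.orderOf_coe, ha]
    have hb' : orderOf (b : Matrix.ProjectiveSpecialLinearGroup (Fin 2) F) = 2 := by
      rw [Subgroup.orderOf_coe, hb]
    obtain ⟨g, hg⟩ := isConj_iff.1 (CfsgLib.PSL2.isConj_of_orderOf_two h2 ha' hb')
    refine ⟨g, ?_⟩
    have hA' : Subgroup.zpowers (a : Matrix.ProjectiveSpecialLinearGroup (Fin 2) F) = A :=
      Subgroup.eq_of_le_of_card_ge (Subgroup.zpowers_le.2 a.2) (by rw [Nat.card_zpowers, ha', hcA])
    have hB' : Subgroup.zpowers (b : Matrix.ProjectiveSpecialLinearGroup (Fin 2) F) = B :=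
      Subgroup.eq_of_le_of_card_ge (Subgroup.zpowers_le.2 b.2) (by rw [Nat.card_zpowers, hb', hcB])
    rw [← hA', ← hB', MonoidHom.map_zpowers, ← hg]
    rfl
  · rw [CfsgLib.Fusion.autGroup_group le_rfl]
    have hAut : IsPGroup 2 (MulAut (S : Subgroup (Matrix.ProjectiveSpecialLinearGroup (Fin 2) F))) :=
      Cfsg.Agent.S3116.result S.isPGroup' (Or.inl ⟨n, hn, ⟨e⟩⟩)
    ext α
    rw [CfsgLib.Fusion.mem_autInducedBy]
    constructor
    · rintro ⟨g, -, hg⟩
      -- replace `g` by its 2-part
      obtain ⟨a, b, hb, hab⟩ := Nat.exists_eq_two_pow_mul_odd (n := orderOf g) (orderOf_pos g).ne'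
      have hgN : g ∈ Subgroup.normalizer
          ((S : Subgroup (Matrix.ProjectiveSpecialLinearGroup (Fin 2) F)) : Set _) := by
        refine Subgroup.mem_normalizer_fintype fun v hv => ?_
        have := (α ⟨v, hv⟩).2
        rwa [hg] at this
      have hpS : g ^ b ∈ (S : Subgroup (Matrix.ProjectiveSpecialLinearGroup (Fin 2) F)) := by
        have hgb : (g ^ b) ^ (2 ^ a) = 1 := by
          rw [← pow_mul, mul_comm, ← hab, pow_orderOf_eq_one]
        obtain ⟨j, -, hj⟩ := (Nat.dvd_prime_pow Nat.prime_two).1 (orderOf_dvd_of_pow_eq_one hgb)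
        have hW : IsPGroup 2 (Subgroup.zpowers (g ^ b)) :=
          IsPGroup.of_card (n := j) (by rw [Nat.card_zpowers, hj])
        have hsup := hW.to_sup_of_normal_right' S.isPGroup' (Subgroup.zpowers_le.2 (pow_mem hgN b))
        have := S.is_maximal' hsup le_sup_right
        exact this ▸ Subgroup.mem_sup_left (Subgroup.mem_zpowers _)
      have hαpow : ∀ (k : ℕ) (x : (S : Subgroup (Matrix.ProjectiveSpecialLinearGroup (Fin 2) F))),
          (((α ^ k) x : (S : Subgroup (Matrix.ProjectiveSpecialLinearGroup (Fin 2) F))) :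
            Matrix.ProjectiveSpecialLinearGroup (Fin 2) F) = g ^ k * x * (g ^ k)⁻¹ := by
        intro k
        induction k with
        | zero => intro x; simp
        | succ k ih =>
          intro x
          rw [pow_succ', MulAut.mul_apply, hg, ih, pow_succ']
          group
      obtain ⟨c, hc⟩ := IsPGroup.iff_orderOf.1 hAut α
      obtain ⟨j, hj⟩ := exists_pow_eq_self_of_coprime (x := α) (n := b)
        (by rw [hc]; exact Nat.Coprime.pow_right c (Nat.coprime_two_right.2 hb))
      refine ⟨⟨g ^ b, hpS⟩ ^ j, ?_⟩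
      rw [map_pow]
      conv_rhs => rw [← hj]
      congr 1
      refine MulEquiv.ext fun x => Subtype.ext ?_
      rw [hαpow b x]
      rfl
    · rintro ⟨s, rfl⟩
      exact ⟨s, Subgroup.mem_top _, fun x => rfl⟩

end Cfsg.Agent.S5317
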