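import Cfsg.Statements.S5318
import Cfsg.Agent.S5339
import Cfsg.Agent.Lib.Fusion.Group
import Cfsg.Agent.Lib.Fusion.Aut
import Cfsg.Agent.Lib.TwoGroups.PSLThreeFusion

set_option autoImplicit false
open Cfsg

namespace Cfsg.Agent.S5318

/-- For a finite field F of odd order, the 2-fusion system of PSL(3,F) on a Sylow 2-subgroup (semidihedral or wreathed according as |F| ≡ 3 or 1 mod 4) is simple. -/
theorem result {F : Type*} [Field F] [Fintype F] (hodd : Fintype.card F % 2 = 1) (S : Sylow 2 (Matrix.ProjectiveSpecialLinearGroup (Fin 3) F)) :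
    (Cfsg.groupFusionSystem (S : Subgroup (Matrix.ProjectiveSpecialLinearGroup (Fin 3) F))).IsSimple 2 := by
  classical
  have : Fact (Nat.Prime 2) := ⟨Nat.prime_two⟩
  have hoddF : Odd (Fintype.card F) := Nat.odd_iff.2 hodd
  have h2 : (2 : F) ≠ 0 := by
    refine Ring.two_ne_zero fun h => ?_
    rw [FiniteField.even_card_iff_char_two] at h
    omega
  obtain ⟨P, hQW, ⟨a, ha, b, hb, hab⟩, hcrit⟩ := CfsgLib.TwoGroups.PSLThree.exists_model (F := F) hoddF
  obtain ⟨S₁, hS₁⟩ := CfsgLib.TwoGroups.PSLThree.sylow_theta h2 P ha hb hab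
  obtain ⟨g, hg⟩ := MulAction.exists_smul_eq (Matrix.ProjectiveSpecialLinearGroup (Fin 3) F) S₁ S
  let f : GL (Fin 2) F →* Matrix.ProjectiveSpecialLinearGroup (Fin 3) F :=
    (MulAut.conj g).toMonoidHom.comp CfsgLib.TwoGroups.PSLThree.theta
  have hSf : (S : Subgroup (Matrix.ProjectiveSpecialLinearGroup (Fin 3) F)) =
      (P : Subgroup (GL (Fin 2) F)).map f := by
    rw [← hg, ← Subgroup.map_map, ← hS₁]
    rfl
  have hfinj : ∀ A ∈ (P : Subgroup (GL (Fin 2) F)), ∀ B ∈ (P : Subgroup (GL (Fin 2) F)),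
      f A = f B → A = B := fun A hA B hB h =>
    CfsgLib.TwoGroups.PSLThree.theta_injOn P.isPGroup' hA hB ((MulAut.conj g).injective h)
  let φ : (P : Subgroup (GL (Fin 2) F)) →*
      (S : Subgroup (Matrix.ProjectiveSpecialLinearGroup (Fin 3) F)) :=
    (f.comp (P : Subgroup (GL (Fin 2) F)).subtype).codRestrict _ fun x => by
      rw [hSf]; exact ⟨x, x.2, rfl⟩
  have hφ : Function.Bijective φ := by
    refine ⟨fun A B h => Subtype.ext (hfinj A A.2 B B.2 (congrArg Subtype.val h :)), fun y => ?_⟩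
    obtain ⟨A, hA, hAy⟩ : (y : Matrix.ProjectiveSpecialLinearGroup (Fin 3) F) ∈
        (P : Subgroup (GL (Fin 2) F)).map f := hSf ▸ y.2
    exact ⟨⟨A, hA⟩, Subtype.ext hAy⟩
  have hAut : IsPGroup 2 (MulAut (S : Subgroup (Matrix.ProjectiveSpecialLinearGroup (Fin 3) F))) := by
    refine IsPGroup.of_equiv ?_ (MulAut.congr (MulEquiv.ofBijective φ hφ))
    rcases hQW with h | h
    · exact Cfsg.Agent.S3116.result P.isPGroup' (Or.inr h)
    · exact CfsgLib.TwoGroups.PSLThree.mulAut_wreathed h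
  refine Cfsg.Agent.S5339.result 2 S.isPGroup' _ (CfsgLib.Fusion.group_saturated S) ?_
    (CfsgLib.TwoGroups.PSLThree.autGroup_eq_inn S hAut) ?_
  · intro hbot
    have key : ∀ A ∈ (P : Subgroup (GL (Fin 2) F)), f A = 1 := fun A hA => by
      have h : f A ∈ (S : Subgroup (Matrix.ProjectiveSpecialLinearGroup (Fin 3) F)) :=
        hSf ▸ ⟨A, hA, rfl⟩
      rwa [hbot, Subgroup.mem_bot] at h
    exact hab (hfinj _ (mul_mem ha hb) _ (mul_mem hb ha)
      (by rw [key _ (mul_mem ha hb), key _ (mul_mem hb ha)]))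
  intro T hT
  by_cases hT0 : T = ⊥
  · exact Or.inl hT0
  refine Or.inr (le_antisymm hT.1 ?_)
  have fuse : ∀ x ∈ T, ∀ y ∈ (S : Subgroup (Matrix.ProjectiveSpecialLinearGroup (Fin 3) F)),
      IsConj x y → y ∈ T := by
    intro x hx y hy hxy
    obtain ⟨c, hc⟩ := isConj_iff.1 hxy
    have hR : Subgroup.zpowers x ≤ T := Subgroup.zpowers_le.2 hx
    have := hT.2 _ hR _ (CfsgLib.Fusion.group_conjHom_mem (hR.trans hT.1) (g := c) fun v hv => by
      obtain ⟨k, rfl⟩ := Subgroup.mem_zpowers_iff.1 hv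
      rw [← conj_zpow, hc]
      exact zpow_mem hy k) ⟨x, Subgroup.mem_zpowers x⟩
    rw [← hc]
    exact this
  obtain ⟨t, htT, ht⟩ : ∃ t ∈ T, orderOf t = 2 := by
    obtain ⟨j, hj⟩ := (S.isPGroup'.to_le hT.1).exists_card_eq
    have hj0 : j ≠ 0 := fun e => hT0 (Subgroup.card_eq_one.1 (by rw [hj, e, pow_zero]))
    obtain ⟨t, ht⟩ := exists_prime_orderOf_dvd_card' (G := T) 2 (hj ▸ dvd_pow_self 2 hj0)
    exact ⟨t, t.2, by rw [Subgroup.orderOf_coe, ht]⟩
  have hW : T.comap f ⊓ (P : Subgroup (GL (Fin 2) F)) = (P : Subgroup (GL (Fin 2) F)) := by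
    refine hcrit _ inf_le_right (fun u hu hu2 => ⟨?_, hu⟩) fun A hA B hB hAB => ⟨?_, hB⟩
    · have h' : f u ∈ (S : Subgroup (Matrix.ProjectiveSpecialLinearGroup (Fin 3) F)) := hSf ▸ ⟨u, hu, rfl⟩
      refine fuse t htT _ h' (CfsgLib.TwoGroups.PSLThree.isConj_involutions h2 ht ?_)
      refine orderOf_eq_prime ?_ fun h => ?_
      · rw [← map_pow, orderOf_dvd_iff_pow_eq_one.1 (dvd_of_eq hu2), map_one]
      · have : u = 1 := hfinj u hu 1 (one_mem _) (by rw [h, map_one])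
        rw [this, orderOf_one] at hu2
        omega
    · exact fuse _ hA.1 _ (hSf ▸ ⟨B, hB, rfl⟩) ((MulAut.conj g).toMonoidHom.map_isConj hAB)
  rw [hSf, ← hW]
  exact (Subgroup.map_mono inf_le_left).trans (Subgroup.map_comap_le f T)

end Cfsg.Agent.S5318
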