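import Cfsg.Statements.S2507
import Mathlib
import Cfsg.Agent.Lib.SpecLin.SLTwoClassExamples

set_option autoImplicit false
open Cfsg

namespace Cfsg.Agent.S2507

/-- Let F be a finite field with q = 2^f ≥ 4 elements. The conjugacy class sizes of PSL(2,F) are exactly 1, q(q − 1), q² − 1 and q(q + 1). -/
theorem result {F : Type*} [Field F] [Fintype F]
    (h2 : 2 ∣ Fintype.card F) (h4 : 4 ≤ Fintype.card F) :
    Set.range (fun g : (Matrix.ProjectiveSpecialLinearGroup (Fin 2) F) => (Subgroup.centralizer ({g} : Set (Matrix.ProjectiveSpecialLinearGroup (Fin 2) F))).index) =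
      {1, Fintype.card F * (Fintype.card F - 1), Fintype.card F ^ 2 - 1, Fintype.card F * (Fintype.card F + 1)} := by
  classical
  have h20 : (2 : F) = 0 := by
    by_contra h
    have := CfsgLib.SpecLin.SLTwo.odd_card h
    omega
  have hq : 1 < Fintype.card F := Fintype.one_lt_card
  have hzero : ∀ X : Matrix.SpecialLinearGroup (Fin 2) F, (∀ s : F, (X : Matrix (Fin 2) (Fin 2) F) ≠ s • 1) →
      (X : Matrix (Fin 2) (Fin 2) F).trace = 0 →
      (Subgroup.centralizer ({QuotientGroup.mk X} : Set (Matrix.ProjectiveSpecialLinearGroup (Fin 2) F))).index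
        = Fintype.card F ^ 2 - 1 := by
    intro X hX ht
    rw [CfsgLib.SpecLin.SLTwo.index_centralizer_eq_ncard,
      CfsgLib.SpecLin.SLTwo.ncard_class_psl (Or.inr h20),
      CfsgLib.SpecLin.SLTwo.class_sl hX (Or.inl h20), ht]
    have hroots : (CfsgLib.SpecLin.SLTwo.roots (0 : F)).card = 1 := by
      rw [Finset.card_eq_one]
      refine ⟨1, ?_⟩
      ext r
      simp only [CfsgLib.SpecLin.SLTwo.roots, Finset.mem_filter, Finset.mem_univ, true_and,
        Finset.mem_singleton]
      constructor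
      · intro h
        have h' : (r - 1) * (r - 1) = 0 := by linear_combination -h - r * h20
        exact sub_eq_zero.1 (mul_self_eq_zero.1 h')
      · rintro rfl
        linear_combination -h20
    have hN := CfsgLib.SpecLin.SLTwo.ncard_trace (0 : F)
    rw [hroots, mul_one] at hN
    have hset : {M : Matrix.SpecialLinearGroup (Fin 2) F | (M : Matrix (Fin 2) (Fin 2) F).trace = 0 ∧
        ∀ s : F, (M : Matrix (Fin 2) (Fin 2) F) ≠ s • 1} =
        {M : Matrix.SpecialLinearGroup (Fin 2) F | (M : Matrix (Fin 2) (Fin 2) F).trace = 0} \ {1} := by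
      ext M
      refine ⟨fun h => ⟨h.1, fun e => h.2 1 ?_⟩, fun h => ⟨h.1, fun s hs => h.2 ?_⟩⟩
      · rw [Set.mem_singleton_iff] at e
        rw [e]; simp
      · have hd := M.prop
        rw [hs, Matrix.det_smul, Matrix.det_one, mul_one, Fintype.card_fin] at hd
        have h' : (s - 1) * (s - 1) = 0 := by linear_combination hd + (1 - s) * h20
        rw [Set.mem_singleton_iff]
        apply Subtype.ext
        rw [hs, sub_eq_zero.1 (mul_self_eq_zero.1 h')]
        simp
    rw [hset, Set.ncard_sdiff_singleton_of_mem, sq]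
    · omega
    · show ((1 : Matrix.SpecialLinearGroup (Fin 2) F) : Matrix (Fin 2) (Fin 2) F).trace = 0
      simp
      exact h20
  have hss : ∀ X : Matrix.SpecialLinearGroup (Fin 2) F, (X : Matrix (Fin 2) (Fin 2) F).trace ≠ 0 →
      ((CfsgLib.SpecLin.SLTwo.roots (X : Matrix (Fin 2) (Fin 2) F).trace).card = 2 ∧
        (Subgroup.centralizer ({QuotientGroup.mk X} : Set (Matrix.ProjectiveSpecialLinearGroup (Fin 2) F))).index
          = Fintype.card F * (Fintype.card F + 1)) ∨
      ((CfsgLib.SpecLin.SLTwo.roots (X : Matrix (Fin 2) (Fin 2) F).trace).card = 0 ∧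
        (Subgroup.centralizer ({QuotientGroup.mk X} : Set (Matrix.ProjectiveSpecialLinearGroup (Fin 2) F))).index
          = Fintype.card F * (Fintype.card F - 1)) := by
    intro X ht
    rw [CfsgLib.SpecLin.SLTwo.index_centralizer_eq_ncard,
      CfsgLib.SpecLin.SLTwo.ncard_class_psl (Or.inr h20)]
    exact CfsgLib.SpecLin.SLTwo.ncard_class_semisimple (Or.inl ⟨h20, ht⟩)
  ext c
  simp only [Set.mem_range, Set.mem_insert_iff, Set.mem_singleton_iff]
  constructor
  · rintro ⟨g, rfl⟩
    obtain ⟨X, rfl⟩ := QuotientGroup.mk_surjective g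
    by_cases hX : ∀ s : F, (X : Matrix (Fin 2) (Fin 2) F) ≠ s • 1
    · by_cases ht : (X : Matrix (Fin 2) (Fin 2) F).trace = 0
      · exact Or.inr (Or.inr (Or.inl (hzero X hX ht)))
      · rcases hss X ht with h | h
        · exact Or.inr (Or.inr (Or.inr h.2))
        · exact Or.inr (Or.inl h.2)
    · push Not at hX
      obtain ⟨s, hs⟩ := hX
      left
      rw [CfsgLib.SpecLin.SLTwo.mk_eq_one_of_scalar hs]
      exact CfsgLib.SpecLin.SLTwo.index_centralizer_one _
  · rintro (rfl | rfl | rfl | rfl)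
    · exact ⟨1, CfsgLib.SpecLin.SLTwo.index_centralizer_one _⟩
    · obtain ⟨t, ht0, hr, -⟩ := CfsgLib.SpecLin.SLTwo.exists_nonsplit_trace (Or.inl ⟨h20, h4⟩)
      refine ⟨QuotientGroup.mk (CfsgLib.SpecLin.SLTwo.compSL t), ?_⟩
      rcases hss (CfsgLib.SpecLin.SLTwo.compSL t)
        (by rwa [CfsgLib.SpecLin.SLTwo.compSL_trace]) with h | h
      · rw [CfsgLib.SpecLin.SLTwo.compSL_trace] at h; omega
      · exact h.2
    · exact ⟨QuotientGroup.mk (CfsgLib.SpecLin.SLTwo.compSL 0), hzero _
        (CfsgLib.SpecLin.SLTwo.compSL_nonscalar 0) (CfsgLib.SpecLin.SLTwo.compSL_trace 0)⟩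
    · obtain ⟨t, ht0, hr, -⟩ := CfsgLib.SpecLin.SLTwo.exists_split_trace (Or.inl ⟨h20, h4⟩)
      refine ⟨QuotientGroup.mk (CfsgLib.SpecLin.SLTwo.compSL t), ?_⟩
      rcases hss (CfsgLib.SpecLin.SLTwo.compSL t)
        (by rwa [CfsgLib.SpecLin.SLTwo.compSL_trace]) with h | h
      · exact h.2
      · rw [CfsgLib.SpecLin.SLTwo.compSL_trace] at h; omega

end Cfsg.Agent.S2507
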