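import Cfsg.Statements.S2508
import Mathlib
import Cfsg.Agent.Lib.SpecLin.SLTwoClassExamples

set_option autoImplicit false
open Cfsg

namespace Cfsg.Agent.S2508

/-- Let F be a finite field with q elements, q odd and q ≥ 7. If q ≡ 1 (mod 4) the conjugacy class sizes of PSL(2,F) are exactly 1, (q² − 1)/2, q(q + 1)/2, q(q − 1) and q(q + 1); if q ≡ 3 (mod 4) they are exactly 1, (q² − 1)/2, q(q − 1)/2, q(q + 1) and q(q − 1). -/
theorem result {F : Type*} [Field F] [Fintype F]
    (hodd : ¬ 2 ∣ Fintype.card F) (h7 : 7 ≤ Fintype.card F) :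
    (Fintype.card F % 4 = 1 →
      Set.range (fun g : (Matrix.ProjectiveSpecialLinearGroup (Fin 2) F) => (Subgroup.centralizer ({g} : Set (Matrix.ProjectiveSpecialLinearGroup (Fin 2) F))).index) =
        {1, (Fintype.card F ^ 2 - 1) / 2, Fintype.card F * (Fintype.card F + 1) / 2,
          Fintype.card F * (Fintype.card F - 1), Fintype.card F * (Fintype.card F + 1)}) ∧
    (Fintype.card F % 4 = 3 →
      Set.range (fun g : (Matrix.ProjectiveSpecialLinearGroup (Fin 2) F) => (Subgroup.centralizer ({g} : Set (Matrix.ProjectiveSpecialLinearGroup (Fin 2) F))).index) =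
        {1, (Fintype.card F ^ 2 - 1) / 2, Fintype.card F * (Fintype.card F - 1) / 2,
          Fintype.card F * (Fintype.card F + 1), Fintype.card F * (Fintype.card F - 1)}) := by
  classical
  have hq : 1 < Fintype.card F := Fintype.one_lt_card
  have h20 : (2 : F) ≠ 0 := by
    intro h
    have hr : ringChar F = 2 := by
      have h' : ((2 : ℕ) : F) = 0 := by exact_mod_cast h
      have hd := ringChar.dvd h'
      have hne := CharP.ringChar_ne_one (R := F)
      have := Nat.le_of_dvd (by norm_num) hd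
      have hpos : ringChar F ≠ 0 := fun e => by rw [e] at hd; simp at hd
      omega
    have he := FiniteField.even_card_of_char_two hr
    omega
  have h40 : (4 : F) ≠ 0 := by rw [show (4 : F) = 2 * 2 by norm_num]; exact mul_ne_zero h20 h20
  have huni : ∀ X : Matrix.SpecialLinearGroup (Fin 2) F, (∀ s : F, (X : Matrix (Fin 2) (Fin 2) F) ≠ s • 1) →
      (X : Matrix (Fin 2) (Fin 2) F).trace ^ 2 = 4 →
      (Subgroup.centralizer ({QuotientGroup.mk X} : Set (Matrix.ProjectiveSpecialLinearGroup (Fin 2) F))).index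
        = (Fintype.card F ^ 2 - 1) / 2 := by
    intro X hX ht
    rw [CfsgLib.SpecLin.SLTwo.index_centralizer_eq_ncard,
      CfsgLib.SpecLin.SLTwo.ncard_class_psl (Or.inl (mul_ne_zero h20 fun e => h40 (by rw [← ht, e]; ring))),
      CfsgLib.SpecLin.SLTwo.ncard_class_unipotent hX h20 ht]
  have hss : ∀ X : Matrix.SpecialLinearGroup (Fin 2) F, (X : Matrix (Fin 2) (Fin 2) F).trace ≠ 0 →
      (X : Matrix (Fin 2) (Fin 2) F).trace ^ 2 ≠ 4 →
      ((CfsgLib.SpecLin.SLTwo.roots (X : Matrix (Fin 2) (Fin 2) F).trace).card = 2 ∧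
        (Subgroup.centralizer ({QuotientGroup.mk X} : Set (Matrix.ProjectiveSpecialLinearGroup (Fin 2) F))).index
          = Fintype.card F * (Fintype.card F + 1)) ∨
      ((CfsgLib.SpecLin.SLTwo.roots (X : Matrix (Fin 2) (Fin 2) F).trace).card = 0 ∧
        (Subgroup.centralizer ({QuotientGroup.mk X} : Set (Matrix.ProjectiveSpecialLinearGroup (Fin 2) F))).index
          = Fintype.card F * (Fintype.card F - 1)) := by
    intro X ht ht4
    rw [CfsgLib.SpecLin.SLTwo.index_centralizer_eq_ncard,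
      CfsgLib.SpecLin.SLTwo.ncard_class_psl (Or.inl (mul_ne_zero h20 ht))]
    exact CfsgLib.SpecLin.SLTwo.ncard_class_semisimple (Or.inr ⟨h20, ht4⟩)
  have hroot0 : (CfsgLib.SpecLin.SLTwo.roots (0 : F)).card ≠ 0 ↔ Fintype.card F % 4 ≠ 3 := by
    rw [← FiniteField.isSquare_neg_one_iff]
    constructor
    · intro h
      obtain ⟨r, hr⟩ := Finset.card_ne_zero.1 h
      simp only [CfsgLib.SpecLin.SLTwo.roots, Finset.mem_filter, Finset.mem_univ, true_and] at hr
      exact ⟨r, by linear_combination hr⟩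
    · rintro ⟨r, hr⟩
      exact CfsgLib.SpecLin.SLTwo.roots_of_root (r := r) (by linear_combination hr)
  have hzero : ∀ X : Matrix.SpecialLinearGroup (Fin 2) F, (X : Matrix (Fin 2) (Fin 2) F).trace = 0 →
      (Subgroup.centralizer ({QuotientGroup.mk X} : Set (Matrix.ProjectiveSpecialLinearGroup (Fin 2) F))).index
        = if Fintype.card F % 4 = 3 then Fintype.card F * (Fintype.card F - 1) / 2
          else Fintype.card F * (Fintype.card F + 1) / 2 := by
    intro X ht
    rw [CfsgLib.SpecLin.SLTwo.index_centralizer_eq_ncard]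
    have h2 := CfsgLib.SpecLin.SLTwo.two_mul_ncard_class_psl h20 ht
    have h := CfsgLib.SpecLin.SLTwo.ncard_class_semisimple (X := X)
      (Or.inr ⟨h20, by rw [ht]; simpa using h40.symm⟩)
    rw [ht] at h
    rcases h with ⟨e, h⟩ | ⟨e, h⟩
    · rw [if_neg (hroot0.1 (by omega))]
      omega
    · rw [if_pos (by by_contra h'; exact hroot0.2 h' e)]
      omega
  have key : ∀ c, (∃ g : Matrix.ProjectiveSpecialLinearGroup (Fin 2) F,
      (Subgroup.centralizer ({g} : Set (Matrix.ProjectiveSpecialLinearGroup (Fin 2) F))).index = c) ↔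
      c = 1 ∨ c = (Fintype.card F ^ 2 - 1) / 2 ∨ c = (if Fintype.card F % 4 = 3 then
        Fintype.card F * (Fintype.card F - 1) / 2 else Fintype.card F * (Fintype.card F + 1) / 2) ∨
      c = Fintype.card F * (Fintype.card F - 1) ∨ c = Fintype.card F * (Fintype.card F + 1) := by
    intro c
    constructor
    · rintro ⟨g, rfl⟩
      obtain ⟨X, rfl⟩ := QuotientGroup.mk_surjective g
      by_cases hX : ∀ s : F, (X : Matrix (Fin 2) (Fin 2) F) ≠ s • 1
      · by_cases ht4 : (X : Matrix (Fin 2) (Fin 2) F).trace ^ 2 = 4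
        · exact Or.inr (Or.inl (huni X hX ht4))
        by_cases ht : (X : Matrix (Fin 2) (Fin 2) F).trace = 0
        · exact Or.inr (Or.inr (Or.inl (hzero X ht)))
        · rcases hss X ht ht4 with h | h
          · exact Or.inr (Or.inr (Or.inr (Or.inr h.2)))
          · exact Or.inr (Or.inr (Or.inr (Or.inl h.2)))
      · push Not at hX
        obtain ⟨s, hs⟩ := hX
        left
        rw [CfsgLib.SpecLin.SLTwo.mk_eq_one_of_scalar hs]
        exact CfsgLib.SpecLin.SLTwo.index_centralizer_one _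
    · rintro (rfl | rfl | rfl | rfl | rfl)
      · exact ⟨1, CfsgLib.SpecLin.SLTwo.index_centralizer_one _⟩
      · exact ⟨QuotientGroup.mk (CfsgLib.SpecLin.SLTwo.compSL 2), huni _
          (CfsgLib.SpecLin.SLTwo.compSL_nonscalar 2)
          (by rw [CfsgLib.SpecLin.SLTwo.compSL_trace]; norm_num)⟩
      · exact ⟨QuotientGroup.mk (CfsgLib.SpecLin.SLTwo.compSL 0), hzero _
          (CfsgLib.SpecLin.SLTwo.compSL_trace 0)⟩
      · obtain ⟨t, ht0, hr, ht4⟩ := CfsgLib.SpecLin.SLTwo.exists_nonsplit_trace (Or.inr ⟨h20, h7⟩)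
        refine ⟨QuotientGroup.mk (CfsgLib.SpecLin.SLTwo.compSL t), ?_⟩
        rcases hss (CfsgLib.SpecLin.SLTwo.compSL t) (by rwa [CfsgLib.SpecLin.SLTwo.compSL_trace])
          (by rw [CfsgLib.SpecLin.SLTwo.compSL_trace]; exact ht4.resolve_left h20) with h | h
        · rw [CfsgLib.SpecLin.SLTwo.compSL_trace] at h; omega
        · exact h.2
      · obtain ⟨t, ht0, hr, ht4⟩ := CfsgLib.SpecLin.SLTwo.exists_split_trace (Or.inr ⟨h20, h7⟩)
        refine ⟨QuotientGroup.mk (CfsgLib.SpecLin.SLTwo.compSL t), ?_⟩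
        rcases hss (CfsgLib.SpecLin.SLTwo.compSL t) (by rwa [CfsgLib.SpecLin.SLTwo.compSL_trace])
          (by rw [CfsgLib.SpecLin.SLTwo.compSL_trace]; exact ht4.resolve_left h20) with h | h
        · exact h.2
        · rw [CfsgLib.SpecLin.SLTwo.compSL_trace] at h; omega
  constructor <;> intro hmod <;> ext c <;>
    simp only [Set.mem_range, Set.mem_insert_iff, Set.mem_singleton_iff, key, hmod]
  · simp
  · simp only [if_true]
    tauto

end Cfsg.Agent.S2508
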