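import Cfsg.Statements.S0117
import Cfsg.Agent.Lib.Frobenius.ZJComplement
import Cfsg.Agent.Lib.OddOrder.CenterJNormal

set_option autoImplicit false
open Cfsg

namespace Cfsg.Agent.S0117

universe u

open CfsgLib in
theorem isZFunctor_centerJ {p : ℕ} [Fact p.Prime] (hp2 : p ≠ 2) :
    Frobenius.ZJComp.IsZFunctor.{u} p (fun {G} [Group G] P => PLocal.centerJ p P) where
  ne_bot P hP h h0 := Frobenius.ZJComp.zj_ne_bot (Or.inr rfl) hP h
    (le_bot_iff.1 ((PLocal.omegaOne_le p _).trans h0.le))
  le P := PLocal.centerJ_le p P
  map f P hf := OddOrder.CenterJNormal.centerJ_map_of_injOn f P hf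
  normal := by
    intro G _ _ P M _ hOM hab hidx hq hc _
    have : (Cfsg.pCore p G).Normal := Cfsg.pCore_normal p G
    refine OddOrder.CenterJNormal.centerJ_normal hp2 hc (fun V _ hV => ?_) P
    exact Frobenius.ZJComp.isPStableOn_of_abelian_quotient hp2 _ M PCore.pCore_isPGroup hab hidx hq V
      (PCore.le_pCore inferInstance hV)

/-- The Glauberman–Thompson Theorem states that for odd p, a single p-local subgroup, the normalizer of the centre of the Thompson subgroup of a Sylow p-subgroup, decides whether G has a normal p-complement. -/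
theorem result {G : Type*} [Group G] [Finite G] {p : ℕ} [Fact p.Prime] (hp : p ≠ 2) (P : Sylow p G) : Cfsg.HasNormalPComplement p G ↔ Cfsg.HasNormalPComplement p (Subgroup.normalizer (Cfsg.centerThompsonOf p (P : Subgroup G) : Set G)) := by
  constructor
  · exact fun h => CfsgLib.Transfer.hasNormalPComplement_subgroup _ h
  · intro h
    rw [CfsgLib.PLocal.centerThompsonOf_eq] at h
    exact (isZFunctor_centerJ hp).hasNormalPComplement P h

end Cfsg.Agent.S0117
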