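import Cfsg.Statements.S4279
import Cfsg.Agent.Lib.Structure.GTwoInvolution

set_option autoImplicit false
open Cfsg

namespace Cfsg.Agent.S4279
open CfsgLib.GTwoInv Cfsg.Lie Matrix

/-- In the Chevalley group G of type G₂ over a finite field F of odd order q, the centralizer of an involution t has order q²(q² − 1)² and contains two elementwise commuting subgroups, each isomorphic to SL(2, F), which meet exactly in the subgroup generated by t and whose join has index 2 in the centralizer. -/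
theorem result {F : Type*} [Field F] [Fintype F] (hF : Odd (Fintype.card F)) (t : ↥(Cfsg.Lie.chevG2.group F)) (ht : orderOf t = 2) : Nat.card (Subgroup.centralizer ({t} : Set ↥(Cfsg.Lie.chevG2.group F))) = Fintype.card F ^ 2 * (Fintype.card F ^ 2 - 1) ^ 2 ∧ ∃ L₁ L₂ : Subgroup ↥(Cfsg.Lie.chevG2.group F), Nonempty (L₁ ≃* Matrix.SpecialLinearGroup (Fin 2) F) ∧ Nonempty (L₂ ≃* Matrix.SpecialLinearGroup (Fin 2) F) ∧ (∀ x ∈ L₁, ∀ y ∈ L₂, x * y = y * x) ∧ L₁ ⊓ L₂ = Subgroup.zpowers t ∧ L₁ ⊔ L₂ ≤ Subgroup.centralizer ({t} : Set ↥(Cfsg.Lie.chevG2.group F)) ∧ (L₁ ⊔ L₂).relIndex (Subgroup.centralizer ({t} : Set ↥(Cfsg.Lie.chevG2.group F))) = 2 := by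
  obtain ⟨k, hk⟩ := exists_conj_t0 hF t ht
  obtain ⟨e, he⟩ := exists_nonsquare hF
  obtain ⟨hcard, hidx, -⟩ := C_eq hF he
  set φ : ↥(chevG2.group F) ≃* ↥(chevG2.group F) := MulAut.conj k⁻¹ with hφ
  have hφT : φ (k * t * k⁻¹) = t := by rw [hφ, MulAut.conj_apply]; group
  set α' : SpecialLinearGroup (Fin 2) F →* ↥(chevG2.group F) :=
    phiA.codRestrict _ phiA_mem_group with hα'
  set β' : SpecialLinearGroup (Fin 2) F →* ↥(chevG2.group F) :=
    phiH.codRestrict _ phiH_mem_group with hβ'
  have hαneg : φ (α' (-1)) = t := by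
    rw [show α' (-1) = k * t * k⁻¹ from Subtype.ext (phiA_neg_one.trans hk.symm), hφT]
  have hβneg : φ (β' (-1)) = t := by
    rw [show β' (-1) = k * t * k⁻¹ from Subtype.ext (phiH_neg_one.trans hk.symm), hφT]
  have hC : Subgroup.centralizer ({t} : Set ↥(chevG2.group F)) =
      ((Csub F).subgroupOf (chevG2.group F)).map φ.toMonoidHom := by
    ext x
    rw [Subgroup.mem_map_equiv, Subgroup.mem_subgroupOf, mem_Csub,
      Subgroup.mem_centralizer_singleton_iff]
    have hx : φ.symm x = k * x * k⁻¹ := by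
      rw [MulEquiv.symm_apply_eq, hφ, MulAut.conj_apply]; group
    simp only [hx, SetLike.coe_mem, true_and, ← hk, ← Subgroup.coe_mul,
      Subtype.coe_inj]
    constructor <;> intro h
    · calc k * x * k⁻¹ * (k * t * k⁻¹) = k * (x * t) * k⁻¹ := by group
        _ = k * t * k⁻¹ * (k * x * k⁻¹) := by rw [h]; group
    · calc x * t = k⁻¹ * (k * x * k⁻¹ * (k * t * k⁻¹)) * k := by group
        _ = t * x := by rw [h]; group
  have hsup : (φ.toMonoidHom.comp α').range ⊔ (φ.toMonoidHom.comp β').range =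
      ((Lsub F).subgroupOf (chevG2.group F)).map φ.toMonoidHom := by
    rw [← MonoidHom.map_range, ← MonoidHom.map_range, ← Subgroup.map_sup]
    congr 1
    refine Subgroup.map_injective (chevG2.group F).subtype_injective ?_
    rw [Subgroup.map_sup, MonoidHom.map_range, MonoidHom.map_range, Subgroup.subgroupOf_map_subtype,
      inf_eq_left.mpr (L_le_C.trans inf_le_left)]
    exact (MonoidHom.noncommCoprod_range phiA phiH phi_comm).symm
  refine ⟨?_, (φ.toMonoidHom.comp α').range, (φ.toMonoidHom.comp β').range, ⟨(MonoidHom.ofInjective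
    fun x y h => phiA_injective (congrArg Subtype.val (φ.injective h))).symm⟩, ⟨(MonoidHom.ofInjective
    fun x y h => phiH_injective (congrArg Subtype.val (φ.injective h))).symm⟩, ?_, ?_, ?_, ?_⟩
  · rw [hC, ← Nat.card_congr (Subgroup.equivMapOfInjective _ φ.toMonoidHom φ.injective).toEquiv,
      Nat.card_congr (Subgroup.subgroupOfEquivOfLe (show Csub F ≤ chevG2.group F from inf_le_left)).toEquiv]
    exact hcard
  · rintro _ ⟨x, rfl⟩ _ ⟨y, rfl⟩
    simp only [MonoidHom.comp_apply, ← map_mul]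
    exact congrArg φ (Subtype.ext (phi_comm x y).eq)
  · refine le_antisymm ?_ ?_
    · rintro z ⟨⟨x, rfl⟩, y, hy⟩
      rcases central_of_mem_range (congrArg Subtype.val (φ.injective hy.symm)) with rfl | rfl
      · rw [map_one]; exact one_mem _
      · exact hαneg.symm ▸ Subgroup.mem_zpowers t
    · rw [Subgroup.zpowers_le]
      exact ⟨⟨-1, hαneg⟩, ⟨-1, hβneg⟩⟩
  · rw [hsup, hC]
    exact Subgroup.map_mono fun x hx => L_le_C hx
  · rw [hsup, hC, Subgroup.relIndex_map_map_of_injective _ _ φ.injective,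
      Subgroup.relIndex_subgroupOf (show Csub F ≤ chevG2.group F from inf_le_left)]
    exact hidx

end Cfsg.Agent.S4279
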