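import Cfsg.Statements.S1152
import Cfsg.Agent.Lib.SmallRee.Involution

set_option autoImplicit false
open Cfsg

namespace Cfsg.Agent.S1152

/-- In the small Ree group ²G₂(q), q = 3^(2m+1), realised as G¹ inside the Chevalley group G₂ over the field with q elements (θ the 3^m-th power map), with H¹ = G¹ ∩ H and U¹ = G¹ ∩ U the intersections with the ambient diagonal and positive unipotent subgroups: for an involution `a ∈ H¹`, the centraliser of `a` in `G¹` is isomorphic to `Z₂ × PSL₂(q)`; and the Sylow 2-subgroups of `G¹` are elementary abelian of order 8. -/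
theorem result {K : Type*} [Field K] [Fintype K] {m : ℕ} (hK : Fintype.card K = 3 ^ (2 * m + 1))
    (a : ↥(Cfsg.Lie.twistedG2 K (3 ^ m))) (haH : (a : GL Cfsg.Lie.chevG2.Idx K) ∈ Cfsg.Lie.chevG2.diagonalSubgroup K) (ha1 : a ≠ 1) (ha2 : a * a = 1) :
    Nonempty (↥(Subgroup.centralizer {a}) ≃* Multiplicative (ZMod 2) × Matrix.ProjectiveSpecialLinearGroup (Fin 2) K) ∧
      ∀ S : Sylow 2 ↥(Cfsg.Lie.twistedG2 K (3 ^ m)), Nat.card S = 8 ∧ ∀ x ∈ S, x * x = 1 := by
  classical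
  obtain ⟨_, hn⟩ := CfsgLib.Twisted.setupG2 K hK
  have : Fact (Nat.Prime 2) := ⟨Nat.prime_two⟩
  have ha : (a : GL Cfsg.Lie.chevG2.Idx K) = CfsgLib.SmallRee.invol K m :=
    CfsgLib.SmallRee.invol_unique hn (Subgroup.mem_inf.2 ⟨haH, a.2⟩) (congrArg Subtype.val ha2)
      (fun e => ha1 (Subtype.ext e))
  obtain ⟨⟨e⟩, hcard⟩ := CfsgLib.SmallRee.exists_centralizer_equiv hn a ha
  refine ⟨⟨e⟩, fun S => ?_⟩
  obtain ⟨hG, hC⟩ := CfsgLib.SmallRee.factorization_card hn
  set C : Subgroup ↥(Cfsg.Lie.twistedG2 K (3 ^ m)) := Subgroup.centralizer {a} with hCdef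
  let S₀ : Sylow 2 ↥C := default
  have hS₀ : Nat.card ↥(S₀ : Subgroup ↥C) = 8 := by
    rw [S₀.card_eq_multiplicity, hcard, hC]; norm_num
  set S' := (S₀ : Subgroup ↥C).map C.subtype with hS'
  have hS'card : Nat.card ↥S' = 2 ^ (Nat.card ↥(Cfsg.Lie.twistedG2 K (3 ^ m))).factorization 2 := by
    rw [hS', Subgroup.card_map_of_injective C.subtype_injective, hS₀, hG]; norm_num
  obtain ⟨g, hg⟩ := MulAction.exists_smul_eq ↥(Cfsg.Lie.twistedG2 K (3 ^ m)) S (Sylow.ofCard S' hS'card)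
  have hScard : Nat.card S = 8 := by
    show Nat.card ↥(S : Subgroup ↥(Cfsg.Lie.twistedG2 K (3 ^ m))) = 8
    rw [S.card_eq_multiplicity, hG]; norm_num
  refine ⟨hScard, fun x hx => ?_⟩
  -- exponent two inside the centraliser
  have hq4 := CfsgLib.SmallRee.card_odd K hn
  have h2sq : ∀ t : K, t ^ 2 ≠ 2 := by
    intro t ht
    have h3 : (3 : K) = 0 := CharP.cast_eq_zero K 3
    have h1 : IsSquare (-1 : K) := ⟨t, by linear_combination -h3 - ht⟩
    rw [FiniteField.isSquare_neg_one_iff] at h1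
    exact h1 hq4
  have hexp : ∀ y : ↥C, y ^ 8 = 1 → y * y = 1 := by
    intro y hy
    apply e.injective
    have hy' : e y ^ 8 = 1 := by rw [← map_pow, hy, map_one]
    rw [map_mul, map_one]
    generalize e y = w at hy' ⊢
    obtain ⟨z, p⟩ := w
    obtain ⟨g, rfl⟩ := QuotientGroup.mk_surjective p
    have h8 : g ^ 8 ∈ Subgroup.center (Matrix.SpecialLinearGroup (Fin 2) K) :=
      (QuotientGroup.eq_one_iff _).1 (congrArg Prod.snd hy')
    have hpm : ∀ w : Matrix.SpecialLinearGroup (Fin 2) K, w ∈ Subgroup.center _ ↔ w = 1 ∨ w = -1 := by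
      intro w
      rw [CfsgLib.SpecLin.SLTwo.mem_center_iff']
      constructor
      · rintro (h | h)
        · exact Or.inl (Subtype.ext h)
        · exact Or.inr (Subtype.ext (h.trans (by simp)))
      · rintro (rfl | rfl) <;> simp
    have h4 : (g ^ 2) ^ 2 = 1 ∨ (g ^ 2) ^ 2 = -1 :=
      CfsgLib.SmallRee.sq_scalar_of_pow_four h2sq (g ^ 2) (by rw [← pow_mul]; exact (hpm _).1 h8)
    have h2 : g ^ 2 = 1 ∨ g ^ 2 = -1 :=
      CfsgLib.SmallRee.sq_scalar_of_pow_four h2sq g (by rwa [← pow_mul] at h4)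
    refine Prod.ext ?_ ((QuotientGroup.eq_one_iff (g * g)).2 ((hpm _).2 (by rwa [pow_two] at h2)))
    show z * z = 1
    have : ∀ w : ZMod 2, w + w = 0 := fun w => CharTwo.add_self_eq_zero w
    exact Multiplicative.toAdd.injective (this (Multiplicative.toAdd z))
  have hxS : g * x * g⁻¹ ∈ S' := by
    have := Subgroup.smul_mem_pointwise_smul x (MulAut.conj g) (S : Subgroup ↥(Cfsg.Lie.twistedG2 K (3 ^ m))) hx
    rw [MulAut.smul_def, MulAut.conj_apply] at this
    rw [← Sylow.coe_subgroup_smul, hg] at this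
    exact this
  obtain ⟨y, hy, hyx⟩ := hxS
  have hy8 : y ^ 8 = 1 := by
    have h := pow_card_eq_one' (x := (⟨y, hy⟩ : ↥(S₀ : Subgroup ↥C)))
    rw [hS₀] at h
    exact congrArg Subtype.val h
  have h1 := congrArg C.subtype (hexp y hy8)
  rw [map_mul, map_one, hyx] at h1
  rw [show x * x = g⁻¹ * (g * x * g⁻¹ * (g * x * g⁻¹)) * g by group, h1, mul_one, inv_mul_cancel]

end Cfsg.Agent.S1152
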