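import Cfsg.Statements.S0992
import Cfsg.Agent.Lib.Small.Basic

set_option autoImplicit false
open Cfsg

namespace Cfsg.Agent.S0992

/-- Let G be a non-abelian finite simple group of even order not divisible by 8, and T a Sylow 2-subgroup. Then T is a Klein four-group and the centralizer of T has index 3 in the normalizer of T. -/
theorem result {G : Type*} [Group G] [Finite G] [IsSimpleGroup G] (hG : ¬ IsMulCommutative G) (h2 : Even (Nat.card G)) (h8 : ¬ 8 ∣ Nat.card G) (T : Sylow 2 G) : IsKleinFour ↥(T : Subgroup G) ∧ (Subgroup.centralizer ((T : Subgroup G) : Set G)).relIndex (Subgroup.normalizer ((T : Subgroup G) : Set G)) = 3 := by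
  classical
  have hdvd : 2 ∣ Nat.card G := h2.two_dvd
  obtain ⟨k, hk⟩ := IsPGroup.iff_card.mp T.2
  have hk3 : k < 3 := by
    by_contra hk3
    exact h8 ((pow_dvd_pow 2 (not_lt.mp hk3)).trans
      (hk ▸ Subgroup.card_subgroup_dvd_card (T : Subgroup G)))
  have hG1 : Nat.card G ≠ 1 := Finite.one_lt_card.ne'
  have hmin : (Nat.card G).minFac = 2 := (Nat.minFac_eq_two_iff _).mpr hdvd
  have hncyc : ¬ IsCyclic T := fun hc =>
    CfsgLib.Small.not_normalizer_le_centralizer hG hdvd T
      (IsCyclic.normalizer_le_centralizer hmin hc)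
  have hk2 : k = 2 := by
    interval_cases k
    · exact absurd hk (by
        rw [pow_zero]
        exact fun e => T.ne_bot_of_dvd_card hdvd (Subgroup.card_eq_one.mp e))
    · exact absurd (isCyclic_of_prime_card (p := 2) (by simpa using hk)) hncyc
    · rfl
  subst hk2
  have hT : Nat.card (T : Subgroup G) = 4 := by simpa using hk
  have hexp : Monoid.exponent (T : Subgroup G) = 2 := by
    have hne : Nontrivial (T : Subgroup G) := Finite.one_lt_card_iff_nontrivial.mp (by omega)
    refine Monoid.exponent_eq_prime_iff Nat.prime_two |>.mpr fun x hx => ?_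
    have hdiv : orderOf x ∣ 2 ^ 2 := by
      rw [show (2:ℕ) ^ 2 = 4 from rfl, ← hT]; exact orderOf_dvd_natCard x
    obtain ⟨i, hi, hx'⟩ := (Nat.dvd_prime_pow Nat.prime_two).mp hdiv
    interval_cases i
    · exact absurd (orderOf_eq_one_iff.mp (by simpa using hx')) hx
    · simpa using hx'
    · exact absurd (isCyclic_of_orderOf_eq_card x (by rw [hx', hT]; norm_num)) hncyc
  have hkl : IsKleinFour (T : Subgroup G) := ⟨hT, hexp⟩
  refine ⟨hkl, ?_⟩
  have hdiv := CfsgLib.Small.relIndex_centralizer_normalizer_dvd_card_mulAut (T : Subgroup G)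
  have hne1 : (Subgroup.centralizer ((T : Subgroup G) : Set G)).relIndex
      (Subgroup.normalizer ((T : Subgroup G) : Set G)) ≠ 1 := fun h =>
    CfsgLib.Small.not_normalizer_le_centralizer hG hdvd T (Subgroup.relIndex_eq_one.mp h)
  have hodd : ¬ 2 ∣ (Subgroup.centralizer ((T : Subgroup G) : Set G)).relIndex
      (Subgroup.normalizer ((T : Subgroup G) : Set G)) := by
    intro hd
    have hle : (T : Subgroup G) ≤ Subgroup.centralizer ((T : Subgroup G) : Set G) := by
      intro x hx
      rw [Subgroup.mem_centralizer_iff]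
      intro y hy
      have := IsKleinFour.isMulCommutative (G := (T : Subgroup G))
      exact congrArg Subtype.val
        (this.is_comm.comm (⟨y, hy⟩ : (T : Subgroup G)) ⟨x, hx⟩)
    refine T.not_dvd_index (hd.trans ?_)
    exact ((Dvd.intro (Subgroup.normalizer ((T : Subgroup G) : Set G)).index rfl).trans
      (dvd_of_eq (Subgroup.relIndex_mul_index
        (CfsgLib.Small.centralizer_le_normalizer' (T : Subgroup G))))).trans
      (Subgroup.index_dvd_of_le hle)
  have haut : Nat.card (MulAut (T : Subgroup G)) ∣ 6 := by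
    let f : MulAut (T : Subgroup G) →* Equiv.Perm {x : (T : Subgroup G) // x ≠ 1} :=
      { toFun := fun a => a.toEquiv.subtypeEquiv fun x =>
          not_congr (EmbeddingLike.map_eq_one_iff (f := a)).symm
        map_one' := rfl
        map_mul' := fun a b => rfl }
    have hf : Function.Injective f := by
      intro a b hab
      ext x
      by_cases hx : x = 1
      · subst hx; simp
      · exact congrArg (fun y => ((y.1 : (T : Subgroup G)) : G)) (DFunLike.congr_fun hab ⟨x, hx⟩)
    have h3 := Subgroup.card_dvd_of_injective f hf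
    have := Fintype.ofFinite (T : Subgroup G)
    have hc3 : Nat.card {x : (T : Subgroup G) // x ≠ 1} = 3 := by
      rw [Nat.card_eq_fintype_card]
      simp only [ne_eq, Fintype.card_subtype_compl, Fintype.card_subtype_eq]
      rw [← Nat.card_eq_fintype_card, hT]
    rwa [Nat.card_perm, hc3] at h3
  have h6 : (Subgroup.centralizer ((T : Subgroup G) : Set G)).relIndex
      (Subgroup.normalizer ((T : Subgroup G) : Set G)) ∈ Nat.divisors 6 :=
    Nat.mem_divisors.mpr ⟨hdiv.trans haut, by norm_num⟩
  rw [show Nat.divisors 6 = {1, 2, 3, 6} from by decide] at h6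
  simp only [Finset.mem_insert, Finset.mem_singleton] at h6
  rcases h6 with h | h | h | h
  · exact absurd h hne1
  · exact absurd (h.symm ▸ dvd_rfl) hodd
  · exact h
  · exact absurd (h.symm ▸ (by norm_num : (2:ℕ) ∣ 6)) hodd

end Cfsg.Agent.S0992
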