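import Cfsg.Statements.S1151
import Cfsg.Agent.Lib.SmallRee.Unipotent

set_option autoImplicit false
open Cfsg

namespace Cfsg.Agent.S1151

/-- In the small Ree group ²G₂(q), q = 3^(2m+1), realised as G¹ inside the Chevalley group G₂ over the field with q elements (θ the 3^m-th power map), with H¹ = G¹ ∩ H and U¹ = G¹ ∩ U the intersections with the ambient diagonal and positive unipotent subgroups: `H¹` has exactly `(q - 1)/2` elements of odd order, and each non-identity one centralises no non-identity element of `U¹`. -/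
theorem result {K : Type*} [Field K] [Fintype K] {m : ℕ} (hK : Fintype.card K = 3 ^ (2 * m + 1)) :
    2 * Nat.card {h : ↥(Cfsg.Lie.chevG2.diagonalSubgroup K ⊓ Cfsg.Lie.twistedG2 K (3 ^ m)) // Odd (orderOf h)} = 3 ^ (2 * m + 1) - 1 ∧
      ∀ h ∈ (Cfsg.Lie.chevG2.diagonalSubgroup K ⊓ Cfsg.Lie.twistedG2 K (3 ^ m)), h ≠ 1 → Odd (orderOf h) →
        (Cfsg.Lie.chevG2.posUnipotent K ⊓ Cfsg.Lie.twistedG2 K (3 ^ m)) ⊓ Subgroup.centralizer {h} = ⊥ := by
  classical
  obtain ⟨_, hn⟩ := CfsgLib.Twisted.setupG2 K hK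
  have hq4 := CfsgLib.SmallRee.card_odd K hn
  refine ⟨?_, fun h hh hne hodd => ?_⟩
  · let T := CfsgLib.SmallRee.tau K m
    have hinj : Function.Injective T := CfsgLib.SmallRee.tau_injective K m
    let f : {l : Kˣ // Odd (orderOf l)} →
        {h : ↥(Cfsg.Lie.chevG2.diagonalSubgroup K ⊓ Cfsg.Lie.twistedG2 K (3 ^ m)) // Odd (orderOf h)} :=
      fun l => ⟨⟨T l, CfsgLib.SmallRee.tau_mem_H1 K hn l⟩, by
        rw [← Subgroup.orderOf_coe]
        exact (orderOf_injective T hinj l.1).symm ▸ l.2⟩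
    have hf : Function.Bijective f := by
      refine ⟨fun a b e => Subtype.ext (hinj (congrArg (fun x => (x.1 : GL Cfsg.Lie.chevG2.Idx K)) e)),
        fun w => ?_⟩
      obtain ⟨l, e⟩ := CfsgLib.SmallRee.H1_le K hn w.1.2
      have h := w.2
      rw [← Subgroup.orderOf_coe, ← e, orderOf_injective _ hinj] at h
      exact ⟨⟨l, h⟩, Subtype.ext (Subtype.ext e)⟩
    rw [← Nat.card_eq_of_bijective f hf]
    have hcard : Nat.card Kˣ = Fintype.card K - 1 := by rw [Nat.card_eq_fintype_card, Fintype.card_units]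
    obtain ⟨k, hk⟩ : ∃ k, Fintype.card K = 4 * k + 3 := ⟨Fintype.card K / 4, by omega⟩
    have hk2 : Nat.card Kˣ = 2 * (2 * k + 1) := by omega
    have hiff : ∀ l : Kˣ, Odd (orderOf l) ↔ l ∈ (powMonoidHom (2 * k + 1) : Kˣ →* Kˣ).ker := by
      intro l
      rw [MonoidHom.mem_ker, powMonoidHom_apply, ← orderOf_dvd_iff_pow_eq_one]
      constructor
      · intro ho
        refine Nat.Coprime.dvd_of_dvd_mul_left (Nat.coprime_two_right.2 ho) ?_
        rw [← hk2]
        exact orderOf_dvd_natCard l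
      · exact fun hd => Odd.of_dvd_nat (odd_two_mul_add_one k) hd
    rw [Nat.card_congr (Equiv.subtypeEquivRight hiff), IsCyclic.card_powMonoidHom_ker, hk2,
      Nat.gcd_eq_right (dvd_mul_left _ 2), ← hK]
    omega
  · obtain ⟨l, rfl⟩ := CfsgLib.SmallRee.H1_le K hn hh
    rw [orderOf_injective _ (CfsgLib.SmallRee.tau_injective K m)] at hodd
    have hl : l ≠ 1 := fun e => hne (by rw [e, map_one])
    have hnine : ∀ x : Kˣ, (x ^ (3 * 3 ^ m)) ^ (3 * 3 ^ m) = x ^ 3 := by
      intro x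
      apply Units.ext
      rw [Units.val_pow_eq_pow_val, Units.val_pow_eq_pow_val, Units.val_pow_eq_pow_val, ← pow_mul,
        show 3 * 3 ^ m * (3 * 3 ^ m) = 3 * (3 ^ m * 3 ^ m) * 3 by ring, pow_mul,
        CfsgLib.SmallRee.pow_q K hn]
    have hu : ((l : K) ^ (3 * 3 ^ m + 1)) ≠ 1 := by
      intro e
      have e' : l ^ (3 * 3 ^ m) = l⁻¹ := by
        refine eq_inv_of_mul_eq_one_left ?_
        rw [← pow_succ]
        exact Units.ext (by simpa using e)
      have h3 := hnine l
      rw [e', inv_pow, e', inv_inv] at h3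
      have h2 : l ^ 2 = 1 := by
        have := congrArg (l⁻¹ * ·) h3
        simp only [inv_mul_cancel, pow_succ' l 2, inv_mul_cancel_left] at this
        exact this.symm
      exact hl (orderOf_eq_one_iff.1 (Nat.Coprime.eq_one_of_dvd
        (Nat.coprime_two_right.2 hodd) (orderOf_dvd_of_pow_eq_one h2)))
    have hv : ((l : K) ^ (3 * 3 ^ m + 2)) ≠ 1 := by
      intro e
      have e' : l ^ (3 * 3 ^ m) = (l ^ 2)⁻¹ := by
        refine eq_inv_of_mul_eq_one_left ?_
        rw [← pow_add]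
        exact Units.ext (by simpa using e)
      have h3 := hnine l
      rw [e', inv_pow, ← pow_mul, mul_comm, pow_mul, e', inv_pow, inv_inv, ← pow_mul] at h3
      refine hl ?_
      rw [pow_succ l 3] at h3
      exact mul_left_cancel (h3.trans (mul_one _).symm)
    refine (Subgroup.eq_bot_iff_forall _).2 fun x hx => ?_
    obtain ⟨hxU, hxc⟩ := Subgroup.mem_inf.1 hx
    obtain ⟨t, u, v, rfl⟩ := CfsgLib.SmallRee.exists_uni K hn hxU
    have e := CfsgLib.SmallRee.tau_conj_uni K hn l t u v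
    rw [← Subgroup.mem_centralizer_singleton_iff.1 hxc, mul_inv_cancel_right] at e
    obtain ⟨e1, e2, e3⟩ := CfsgLib.SmallRee.uni_inj K m e
    have hz : ∀ a x : K, x = a * x → a ≠ 1 → x = 0 := fun a x h ha => by
      by_contra hx
      exact ha (mul_right_cancel₀ hx (h.symm.trans (one_mul x).symm))
    exact (CfsgLib.SmallRee.uni_eq_one_iff K m).2 ⟨hz _ _ e1 (fun h => hl (Units.ext h)), hz _ _ e2 hu, hz _ _ e3 hv⟩

end Cfsg.Agent.S1151
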