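import Cfsg.Statements.S1154
import Cfsg.Agent.Lib.SmallRee.Unipotent

set_option autoImplicit false
open Cfsg

namespace Cfsg.Agent.S1154

/-- In the small Ree group ²G₂(q), q = 3^(2m+1) with m ≥ 1, realised as G¹ inside the Chevalley group G₂ over the field with q elements (θ the 3^m-th power map), with `U¹ = G¹ ∩ U` (U the positive unipotent subgroup of the ambient G₂): `U¹` has exactly `q² - 1` elements of order 3. -/
theorem result {K : Type*} [Field K] [Fintype K] {m : ℕ} (hm : 1 ≤ m) (hK : Fintype.card K = 3 ^ (2 * m + 1)) :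
    Nat.card {u : ↥(Cfsg.Lie.chevG2.posUnipotent K ⊓ Cfsg.Lie.twistedG2 K (3 ^ m)) // orderOf u = 3} = (3 ^ (2 * m + 1)) ^ 2 - 1 := by
  classical
  obtain ⟨_, hn⟩ := CfsgLib.Twisted.setupG2 K hK
  let S : Set (K × K × K) := {p | p.1 = 0 ∧ ¬(p.2.1 = 0 ∧ p.2.2 = 0)}
  let f : S → {u : ↥(Cfsg.Lie.chevG2.posUnipotent K ⊓ Cfsg.Lie.twistedG2 K (3 ^ m)) // orderOf u = 3} :=
    fun p => ⟨⟨CfsgLib.SmallRee.uni K m p.1.1 p.1.2.1 p.1.2.2, CfsgLib.SmallRee.uni_mem_U1 K m _ _ _⟩, by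
      rw [← Subgroup.orderOf_coe]
      exact (CfsgLib.SmallRee.orderOf_uni_eq_three K hn).2 p.2⟩
  have hf : Function.Bijective f := by
    refine ⟨fun p p' h => ?_, fun w => ?_⟩
    · obtain ⟨a, b, c⟩ := CfsgLib.SmallRee.uni_inj K m (congrArg (fun x => (x.1 : GL Cfsg.Lie.chevG2.Idx K)) h)
      exact Subtype.ext (Prod.ext a (Prod.ext b c))
    · obtain ⟨t, u, v, e⟩ := CfsgLib.SmallRee.exists_uni K hn w.1.2
      have h := w.2
      rw [← Subgroup.orderOf_coe, ← e, CfsgLib.SmallRee.orderOf_uni_eq_three K hn] at h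
      exact ⟨⟨(t, u, v), h⟩, Subtype.ext (Subtype.ext e)⟩
  rw [← Nat.card_eq_of_bijective f hf, ← hK]
  have hS : S = ({0} : Set K) ×ˢ (({0} : Set (K × K))ᶜ) := by
    ext ⟨t, u, v⟩
    simp [S]
  rw [Nat.card_coe_set_eq, hS, Set.ncard_prod, Set.ncard_singleton, one_mul, Set.ncard_compl,
    Set.ncard_singleton, Nat.card_prod, Nat.card_eq_fintype_card, sq]

end Cfsg.Agent.S1154
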