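import Cfsg.Statements.S1156
import Cfsg.Agent.Lib.SmallRee.Involution
import Cfsg.Agent.Lib.ClassicalGroups.SL2
import Cfsg.Agent.Lib.Twisted.SpanTables

set_option autoImplicit false
open Cfsg

namespace Cfsg.Agent.S1156

/-- In the small Ree group ²G₂(q), q = 3^(2m+1) with m ≥ 1, realised as G¹ inside the Chevalley group G₂ over the field with q elements (θ the 3^m-th power map): for every prime `p > 3` the Sylow `p`-subgroups of `G¹` are cyclic. -/
theorem result {K : Type*} [Field K] [Fintype K] {m : ℕ} (hm : 1 ≤ m) (hK : Fintype.card K = 3 ^ (2 * m + 1))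
    {p : ℕ} [Fact p.Prime] (hp : 3 < p) (P : Sylow p ↥(Cfsg.Lie.twistedG2 K (3 ^ m))) : IsCyclic (P : Subgroup ↥(Cfsg.Lie.twistedG2 K (3 ^ m))) := by
  classical
  obtain ⟨_, hn⟩ := CfsgLib.Twisted.setupG2 K hK
  have hp' : p.Prime := Fact.out
  have : Fact (Nat.Prime 3) := ⟨Nat.prime_three⟩
  set q := Fintype.card K with hq
  have hpq : ¬ p ∣ q := by
    rw [hK]
    intro h
    have := (Nat.prime_dvd_prime_iff_eq hp' Nat.prime_three).1 (hp'.dvd_of_dvd_pow h)
    omega
  by_cases hsq : p ∣ q ^ 2 - 1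
  · -- inside the centraliser of an involution
    set a : ↥(Cfsg.Lie.twistedG2 K (3 ^ m)) := ⟨CfsgLib.SmallRee.invol K m,
      (Subgroup.mem_inf.1 (CfsgLib.SmallRee.invol_mem_H1 hn)).2⟩
    obtain ⟨⟨e⟩, -⟩ := CfsgLib.SmallRee.exists_centralizer_equiv hn a rfl
    let f : Matrix.SpecialLinearGroup (Fin 2) K →* ↥(Cfsg.Lie.twistedG2 K (3 ^ m)) :=
      (Subgroup.centralizer {a}).subtype.comp (e.symm.toMonoidHom.comp
        ((MonoidHom.inr (Multiplicative (ZMod 2)) (Matrix.ProjectiveSpecialLinearGroup (Fin 2) K)).comp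
          (QuotientGroup.mk' _)))
    have hker : ∀ g, f g = 1 → g * g = 1 := by
      intro g hg
      have h1 : (QuotientGroup.mk' (Subgroup.center (Matrix.SpecialLinearGroup (Fin 2) K))) g = 1 := by
        have h2 : e.symm (1, QuotientGroup.mk' _ g) = 1 := Subtype.ext hg
        exact congrArg Prod.snd (e.symm.injective (h2.trans (map_one _).symm))
      rcases CfsgLib.SpecLin.SLTwo.mem_center_iff'.1 ((QuotientGroup.eq_one_iff g).1 h1) with h | h <;>
        exact Subtype.ext (show (g : Matrix (Fin 2) (Fin 2) K) * (g : Matrix (Fin 2) (Fin 2) K) = 1 by rw [h]; simp)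
    obtain ⟨R⟩ := (inferInstance : Nonempty (Sylow p (Matrix.SpecialLinearGroup (Fin 2) K)))
    have hcyc : IsCyclic (R : Subgroup (Matrix.SpecialLinearGroup (Fin 2) K)) :=
      CfsgLib.ClassicalGroups.SL2.isCyclic_sylow_odd 3 p (by omega) (by omega) R
    set f' := f.comp (R : Subgroup (Matrix.SpecialLinearGroup (Fin 2) K)).subtype
    have hinj : Function.Injective f' := by
      refine (injective_iff_map_eq_one f').2 fun g hg => ?_
      have h2 : g ^ 2 = 1 := by rw [pow_two]; exact Subtype.ext (hker g.1 hg)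
      obtain ⟨k, hk⟩ := R.isPGroup' g
      exact orderOf_eq_one_iff.1 (Nat.eq_one_of_dvd_coprimes
        (Nat.Coprime.pow_left k ((Nat.Prime.coprime_iff_not_dvd hp').2 (fun h => by
          have := (Nat.prime_dvd_prime_iff_eq hp' Nat.prime_two).1 h
          omega)))
        (orderOf_dvd_of_pow_eq_one hk) (orderOf_dvd_of_pow_eq_one h2))
    have hcard : Nat.card f'.range = p ^ (Nat.card ↥(Cfsg.Lie.twistedG2 K (3 ^ m))).factorization p := by
      rw [← Nat.card_congr (MonoidHom.ofInjective hinj).toEquiv, R.card_eq_multiplicity,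
        CfsgLib.SmallRee.card_G1 hn, CfsgLib.SpecLin.SLTwo.card_sl_two, ← hq]
      congr 1
      have hq1 : 1 < q := Fintype.one_lt_card
      obtain ⟨r, hr⟩ : ∃ r, q = r + 2 := ⟨q - 2, by omega⟩
      have h3 : q ^ 3 + 1 = (q + 1) * ((r + 2) * (r + 1) + 1) := by rw [hr]; ring
      have h2 : q ^ 2 - 1 = (q - 1) * (q + 1) := by
        rw [mul_comm (q - 1), ← Nat.sq_sub_sq q 1, one_pow]
      have hB : ¬ p ∣ (r + 2) * (r + 1) + 1 := by
        intro hB
        have hmul : p ∣ (q - 1) * (q + 1) := h2 ▸ hsq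
        have hz : ∀ n : ℕ, p ∣ n → ((n : ZMod p)) = 0 := fun n h => (ZMod.natCast_eq_zero_iff n p).2 h
        have e1 := hz _ hB
        push_cast at e1
        rcases hp'.dvd_mul.1 hmul with h | h <;> have e2 := hz _ h
        · rw [show q - 1 = r + 1 by omega] at e2
          push_cast at e2
          exact one_ne_zero (show (1 : ZMod p) = 0 by linear_combination e1 - ((r : ZMod p) + 2) * e2)
        · rw [show q + 1 = r + 3 by omega] at e2
          push_cast at e2
          have e3 : ((3 : ℕ) : ZMod p) = 0 := by push_cast; linear_combination e1 - (r : ZMod p) * e2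
          have h4 := Nat.le_of_dvd (by norm_num) ((ZMod.natCast_eq_zero_iff 3 p).1 e3)
          omega
      have hf0 : ∀ {n}, ¬ p ∣ n → n.factorization p = 0 := fun h => Nat.factorization_eq_zero_of_not_dvd h
      rw [h2, h3]
      simp only [Nat.factorization_mul, Nat.factorization_pow, Finsupp.add_apply, Finsupp.smul_apply, hf0 hpq, hf0 hB,
        show q ≠ 0 by omega, show q - 1 ≠ 0 by omega, show q + 1 ≠ 0 by omega, show (r + 2) * (r + 1) + 1 ≠ 0 by omega,
        Ne, mul_eq_zero, pow_eq_zero_iff, or_self, not_false_eq_true, OfNat.ofNat_ne_zero]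
      simp
    have hc : IsCyclic f'.range := isCyclic_of_surjective _ f'.rangeRestrict_surjective
    have hc' : IsCyclic ↥((Sylow.ofCard f'.range hcard : Sylow p _) : Subgroup ↥(Cfsg.Lie.twistedG2 K (3 ^ m))) := hc
    exact isCyclic_of_surjective _ (Sylow.equiv (Sylow.ofCard f'.range hcard) P).surjective
  · -- the seven-dimensional representation
    by_cases hpd : p ∣ Nat.card ↥(Cfsg.Lie.twistedG2 K (3 ^ m))
    swap
    · have h1 : Nat.card (P : Subgroup ↥(Cfsg.Lie.twistedG2 K (3 ^ m))) = 1 := by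
        rw [P.card_eq_multiplicity, Nat.factorization_eq_zero_of_not_dvd hpd, pow_zero]
      have := (Nat.card_eq_one_iff_unique.1 h1).1
      infer_instance
    haveI : CharP K CfsgLib.Twisted.subG2.p := (inferInstance : CharP K 3)
    let C := CfsgLib.ChevStr.coreG2 K
    have hgrp : ∀ g : ↥(Cfsg.Lie.twistedG2 K (3 ^ m)), (g : GL Cfsg.Lie.chevG2.Idx K) ∈ Cfsg.Lie.chevG2.group K :=
      fun g => (CfsgLib.Twisted.le_fixedG2 K hn g.2).1
    let ρ₀ : ↥(Cfsg.Lie.twistedG2 K (3 ^ m)) →* Matrix (CfsgLib.Twisted.SubData.IIdx CfsgLib.Twisted.subG2 Cfsg.Lie.chevG2)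
        (CfsgLib.Twisted.SubData.IIdx CfsgLib.Twisted.subG2 Cfsg.Lie.chevG2) K :=
      { toFun := fun g => CfsgLib.Twisted.SubData.resI K ((g : GL Cfsg.Lie.chevG2.Idx K) : Matrix _ _ K)
        map_one' := CfsgLib.Twisted.SubData.resI_one K
        map_mul' := fun g g' => CfsgLib.Twisted.SubData.resI_mul K
          (CfsgLib.Twisted.SubData.mem_group_triangular CfsgLib.Twisted.subG2_check K (hgrp g')) }
    let ρ := ρ₀.toHomUnits
    have hρ : Function.Injective ρ := by
      refine (injective_iff_map_eq_one ρ).2 fun g hg => Subtype.ext ?_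
      exact CfsgLib.Twisted.SubData.faithI C CfsgLib.Twisted.subG2_check CfsgLib.Twisted.spanI_G2 _ (hgrp g)
        (congrArg Units.val hg)
    have hι : Fintype.card (CfsgLib.Twisted.SubData.IIdx CfsgLib.Twisted.subG2 Cfsg.Lie.chevG2) = 7 := by decide
    have h31 : p ∣ q ^ 3 + 1 := by
      rw [CfsgLib.SmallRee.card_G1 hn, ← hq] at hpd
      rcases hp'.dvd_mul.1 hpd with h | h
      · rcases hp'.dvd_mul.1 h with h | h
        · exact absurd (hp'.dvd_of_dvd_pow h) hpq
        · exact absurd (h.trans ⟨q + 1, by rw [mul_comm (q - 1), ← Nat.sq_sub_sq q 1, one_pow]⟩) hsq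
      · exact h
    refine CfsgLib.SmallRee.isCyclic_of_primitive (p := p) (by omega) hpq (by rw [hι]; norm_num) ?_ P.isPGroup'
      (ρ.comp (P : Subgroup ↥(Cfsg.Lie.twistedG2 K (3 ^ m))).subtype) (hρ.comp Subtype.val_injective)
    rw [hι, ← hq]
    intro i hi1 hi7 hdvd
    have hq1 : 1 < q := Fintype.one_lt_card
    have hz : ∀ k, p ∣ q ^ k - 1 ↔ (q : ZMod p) ^ k = 1 := by
      intro k
      rw [← ZMod.natCast_eq_zero_iff, Nat.cast_sub (Nat.one_le_pow _ _ (by omega)), Nat.cast_pow,
        Nat.cast_one, sub_eq_zero]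
    have e3 : (q : ZMod p) ^ 3 = -1 := by
      have := (ZMod.natCast_eq_zero_iff _ p).2 h31
      push_cast at this
      linear_combination this
    have n2 : (q : ZMod p) ^ 2 ≠ 1 := fun h => hsq ((hz 2).2 h)
    rw [hz] at hdvd
    have hm1 : (-1 : ZMod p) ≠ 1 := by
      intro h
      have h2 : ((2 : ℕ) : ZMod p) = 0 := by push_cast; linear_combination -h
      have := Nat.le_of_dvd (by norm_num) ((ZMod.natCast_eq_zero_iff 2 p).1 h2)
      omega
    interval_cases i
    · exact absurd (by rw [pow_one] at hdvd; rw [hdvd, one_pow]) n2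
    · exact absurd hdvd n2
    · exact absurd (e3.symm.trans hdvd) hm1
    · exact absurd (show (q : ZMod p) ^ 2 = 1 by
        rw [pow_succ _ 3, e3] at hdvd
        linear_combination (-(q : ZMod p) + 1) * hdvd) n2
    · exact absurd (show (q : ZMod p) ^ 2 = 1 by
        rw [pow_add (q : ZMod p) 3 2, e3] at hdvd
        exfalso
        have h4 : (q : ZMod p) ^ 2 = -1 := by linear_combination -hdvd
        have h5 : (q : ZMod p) = 1 := by
          rw [pow_succ _ 2, h4] at e3
          linear_combination -e3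
        rw [h5, one_pow] at h4
        exact hm1 h4.symm) n2
    · rfl
    · exact absurd (show (q : ZMod p) ^ 2 = 1 by
        rw [pow_add (q : ZMod p) 6 1, show (q : ZMod p) ^ 6 = ((q : ZMod p) ^ 3) ^ 2 by ring, e3] at hdvd
        linear_combination ((q : ZMod p) + 1) * hdvd) n2

end Cfsg.Agent.S1156
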