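import Cfsg.Statements.S5045
import Cfsg.Agent.Lib.Involutions.BaerSuzuki

set_option autoImplicit false
open Cfsg

namespace Cfsg.Agent.S5045

section
open CfsgLib.Involutions
variable {G : Type*} [Group G] {D : Set G}

theorem root_mul_self (hD : Cfsg.IsRootInvolutionSet D) {a : G} (ha : a ∈ D) : a * a = 1 :=
  mul_self_eq_one (hD.orderOf_eq a ha)

theorem root_inv (hD : Cfsg.IsRootInvolutionSet D) {a : G} (ha : a ∈ D) : a⁻¹ = a :=
  inv_eq_self_of_involution (hD.orderOf_eq a ha)

theorem odd_four {x : G} (h : x ^ 4 = 1) (ho : Odd (orderOf x)) : x = 1 := by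
  obtain ⟨i, hi2, hi⟩ := (Nat.dvd_prime_pow Nat.prime_two).mp
    (orderOf_dvd_of_pow_eq_one (show x ^ (2 ^ 2) = 1 by simpa using h))
  interval_cases i <;> rw [hi] at ho
  · exact orderOf_eq_one_iff.mp (by simpa using hi)
  · exact absurd ho (by decide)
  · exact absurd ho (by decide)

theorem not_odd_pow_four (hD : Cfsg.IsRootInvolutionSet D) {a b : G} (ha : a ∈ D) (hb : b ∈ D)
    (h : ¬ Odd (orderOf (a * b))) : (a * b) ^ 4 = 1 := by
  rcases hD.pair a ha b hb with hc | ho | ⟨h4, -⟩
  · rw [(show Commute a b from hc).mul_pow, show (4 : ℕ) = 2 * 2 from rfl, pow_mul, pow_mul,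
      pow_two a, pow_two b, root_mul_self hD ha, root_mul_self hD hb, one_pow, one_mul]
  · exact absurd ho h
  · rw [← h4, pow_orderOf_eq_one]

theorem eq_of_mul_eq_one (hD : Cfsg.IsRootInvolutionSet D) {a b : G} (ha : a ∈ D)
    (h : a * b = 1) : b = a := by
  rw [← one_mul b, ← root_mul_self hD ha, mul_assoc, h, mul_one]

theorem oddAdj_symm (hD : Cfsg.IsRootInvolutionSet D) {a b : G} (h : Cfsg.OddAdj D a b) :
    Cfsg.OddAdj D b a := by
  refine ⟨h.2.1, h.1, h.2.2.1.symm, ?_⟩
  rw [← orderOf_inv, mul_inv_rev, root_inv hD h.1, root_inv hD h.2.1]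
  exact h.2.2.2

theorem reach_symm (hD : Cfsg.IsRootInvolutionSet D) {a b : G}
    (h : Relation.ReflTransGen (Cfsg.OddAdj D) a b) : Relation.ReflTransGen (Cfsg.OddAdj D) b a := by
  induction h with
  | refl => exact Relation.ReflTransGen.refl
  | tail _ h ih => exact ih.head (oddAdj_symm hD h)

theorem oddAdj_conj (hD : Cfsg.IsRootInvolutionSet D) {a b : G} (h : Cfsg.OddAdj D a b) (g : G) :
    Cfsg.OddAdj D (g * a * g⁻¹) (g * b * g⁻¹) := by
  refine ⟨hD.conj_mem a h.1 g, hD.conj_mem b h.2.1 g, fun e => h.2.2.1 ?_, ?_⟩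
  · simpa using e
  · rw [show g * a * g⁻¹ * (g * b * g⁻¹) = g * (a * b) * g⁻¹ by group, orderOf_conj_eq]
    exact h.2.2.2

/-- An involution commuting with `u` and `d`, whose product with `u` is in `D`, forces `(u d)^4 = 1`. -/
theorem common_commuting (hD : Cfsg.IsRootInvolutionSet D) {u e d : G} (hu : u ∈ D) (he : e ∈ D)
    (hd : d ∈ D) (hue : u * e = e * u) (heu : e * u ∈ D) (hed : e * d = d * e)
    (hne : u ≠ d) (hodd : Odd (orderOf (u * d))) : False := by
  have hc : Commute e (u * d) :=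
    (show Commute e u from hue.symm).mul_right (show Commute e d from hed)
  have key : (e * u * d) ^ 4 = 1 := by
    refine not_odd_pow_four hD heu hd fun ho => ?_
    rw [mul_assoc] at ho
    obtain ⟨m, hm⟩ := ho
    have hp := pow_orderOf_eq_one (e * (u * d))
    rw [hc.mul_pow, hm, pow_succ e, pow_mul e, pow_two, root_mul_self hD he, one_pow, one_mul] at hp
    have hee : e = ((u * d) ^ (2 * m + 1))⁻¹ := eq_inv_of_mul_eq_one_left hp
    have ho2 : Odd (orderOf e) := by rw [hee, orderOf_inv]; exact hodd.of_dvd_nat (orderOf_pow_dvd _)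
    rw [hD.orderOf_eq e he] at ho2
    exact absurd ho2 (by decide)
  rw [mul_assoc, hc.mul_pow, show (4 : ℕ) = 2 * 2 from rfl, pow_mul e, pow_two e,
    root_mul_self hD he, one_pow, one_mul] at key
  exact hne (eq_of_mul_eq_one hD hu (odd_four key hodd)).symm

/-- The key step: an odd partner of `a` is odd-joined to `e` or to `e * a`. -/
theorem odd_partner_splits (hD : Cfsg.IsRootInvolutionSet D) {a e d : G} (ha : a ∈ D) (he : e ∈ D)
    (hd : d ∈ D) (hae : a * e = e * a) (hf : e * a ∈ D) (hne : a ≠ d)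
    (hodd : Odd (orderOf (a * d))) (h1 : ¬ Odd (orderOf (e * d)))
    (h2 : ¬ Odd (orderOf (e * a * d))) : False := by
  have haa := root_mul_self hD ha
  have hee := root_mul_self hD he
  have hdd := root_mul_self hD hd
  have hc : (e * d) ^ 2 ∈ D := by
    rcases hD.pair e he d hd with h | h | h
    · exact (common_commuting hD ha he hd hae hf h hne hodd).elim
    · exact absurd h h1
    · exact h.2
  have hc2 : (e * a * d) ^ 2 ∈ D := by
    rcases hD.pair _ hf d hd with h | h | h
    · refine (common_commuting hD ha hf hd ?_ ?_ h hne hodd).elim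
      · rw [← mul_assoc, hae]
      · rw [mul_assoc, haa, mul_one]; exact he
    · exact absurd h h2
    · exact h.2
  set c := (e * d) ^ 2 with hcdef
  have hcc := root_mul_self hD hc
  have hci := root_inv hD hc
  have hcd : Commute c d := by
    have h3 : d * c * d⁻¹ = c⁻¹ := by
      rw [hcdef, pow_two, root_inv hD hd, mul_inv_rev, mul_inv_rev, root_inv hD he, root_inv hD hd]
      group
      simp [pow_two, hdd, mul_assoc]
    rw [hci] at h3
    exact (mul_inv_eq_iff_eq_mul.mp h3).symm
  have hce : Commute c e := by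
    have h3 : e * c * e⁻¹ = c⁻¹ := by
      rw [hcdef, pow_two, root_inv hD he, mul_inv_rev, mul_inv_rev, root_inv hD he, root_inv hD hd]
      simp [← mul_assoc, hee]
    rw [hci] at h3
    exact (mul_inv_eq_iff_eq_mul.mp h3).symm
  have hede : e * d * e = c * d := by
    rw [hcdef, pow_two, mul_assoc (e * d) (e * d) d, mul_assoc e d d, hdd, mul_one]
  set x := d * a with hx
  have hxodd : Odd (orderOf x) := by
    rw [hx, ← orderOf_inv, mul_inv_rev, root_inv hD ha, root_inv hD hd]; exact hodd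
  have hx1 : x ≠ 1 := fun h => hne (eq_of_mul_eq_one hD hd h)
  -- conjugating `(e a d)^2` by `a`
  have h3 : c * x ^ 2 ∈ D := by
    have hm := hD.conj_mem _ hc2 a
    have e1 : a * (e * a * d) ^ 2 * a⁻¹ = c * x ^ 2 := by
      rw [root_inv hD ha, pow_two, pow_two, hx]
      calc a * (e * a * d * (e * a * d)) * a = (a * (e * a)) * d * e * a * d * a := by group
        _ = e * d * e * a * d * a := by
            rw [← mul_assoc a e a, hae, mul_assoc e a a, haa, mul_one]
        _ = c * (d * a * (d * a)) := by rw [hede]; group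
    rwa [e1] at hm
  have hinv : c * x * c⁻¹ = x⁻¹ := by
    have h4 : c * x ^ 2 * c⁻¹ = (x ^ 2)⁻¹ := by
      rw [hci]
      exact eq_inv_of_mul_eq_one_left (by rw [mul_assoc]; exact root_mul_self hD h3)
    obtain ⟨m, hm⟩ := hxodd
    have hxp : (x ^ 2) ^ (m + 1) = x := by
      rw [← pow_mul, show 2 * (m + 1) = orderOf x + 1 by omega, pow_succ, pow_orderOf_eq_one, one_mul]
    calc c * x * c⁻¹ = c * (x ^ 2) ^ (m + 1) * c⁻¹ := by rw [hxp]
      _ = ((x ^ 2)⁻¹) ^ (m + 1) := by rw [← conj_pow, h4]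
      _ = x⁻¹ := by rw [inv_pow, hxp]
  have hca : (c * a) ^ 2 = x ^ 2 := by
    have hax : a = d * x := by rw [hx, ← mul_assoc, hdd, one_mul]
    calc (c * a) ^ 2 = c * a * c⁻¹ * a := by rw [pow_two, hci]; group
      _ = d * (c * x * c⁻¹) * a := by
          nth_rewrite 1 [hax]
          rw [← mul_assoc c d x, hcd.eq]
          group
      _ = x ^ 2 := by
          rw [hinv, hx, mul_inv_rev, root_inv hD ha, root_inv hD hd, pow_two]
          group
  have hx4 : ¬ x ^ 4 = 1 := fun h => hx1 (odd_four h hxodd)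
  have hcaodd : Odd (orderOf (c * a)) := by
    by_contra h
    have h4 := not_odd_pow_four hD hc ha h
    rw [show (4 : ℕ) = 2 * 2 from rfl, pow_mul, hca, ← pow_mul] at h4
    exact hx4 h4
  have hcne : c ≠ a := by
    intro h
    rw [h, haa, one_pow] at hca
    exact hx4 (by rw [show (4 : ℕ) = 2 * 2 from rfl, pow_mul, ← hca, one_pow])
  refine common_commuting hD hc he ha hce.eq ?_ hae.symm hcne hcaodd
  have e2 : e * c = d * e * d⁻¹ := by
    rw [hcdef, pow_two, root_inv hD hd]
    simp only [← mul_assoc]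
    rw [hee, one_mul]
  rw [e2]
  exact hD.conj_mem e he d

theorem partner_of_component {a a' : G} (h : a' ∈ Cfsg.elemComponentOf (Cfsg.OddAdj D) D a)
    (hne : a' ≠ a) : ∃ d, Cfsg.OddAdj D a d := by
  rcases h.2.cases_head with h | ⟨d, hd, -⟩
  · exact absurd h.symm hne
  · exact ⟨d, hd⟩

theorem product_partner_mem (hD : Cfsg.IsRootInvolutionSet D) {a e : G} (ha : a ∈ D)
    (hpa : ∃ d, Cfsg.OddAdj D a d) (he : e ∈ Cfsg.productPartners D a) :
    e ∈ Cfsg.elemComponentOf (Cfsg.OddAdj D) D a ∪ {w | Cfsg.IsIsolatedElem (Cfsg.OddAdj D) D w} := by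
  by_contra hnot
  simp only [Set.mem_union, not_or, Set.mem_setOf_eq] at hnot
  obtain ⟨hnc, hnw⟩ := hnot
  obtain ⟨⟨heD, hea, hne⟩, hfD⟩ := he
  have hnr : ¬ Relation.ReflTransGen (Cfsg.OddAdj D) a e := fun h => hnc ⟨heD, h⟩
  obtain ⟨g, hg⟩ : ∃ g, Cfsg.OddAdj D e g := by
    by_contra hno
    push Not at hno
    exact hnw ⟨heD, fun b => ⟨hno b, fun h => hno b (oddAdj_symm hD h)⟩⟩
  have step : ∀ {p q r : G}, Cfsg.OddAdj D p q → r ∈ D → Odd (orderOf (r * q)) →
      Relation.ReflTransGen (Cfsg.OddAdj D) p r := by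
    intro p q r hpq hr hrq
    by_cases h : r = q
    · rw [h]; exact Relation.ReflTransGen.single hpq
    · exact (Relation.ReflTransGen.single hpq).tail (oddAdj_symm hD ⟨hr, hpq.2.1, h, hrq⟩)
  by_cases hfa : Relation.ReflTransGen (Cfsg.OddAdj D) a (e * a)
  · refine odd_partner_splits hD heD ha hg.2.1 hea (by rw [← hea]; exact hfD) hg.2.2.1 hg.2.2.2
      (fun h => hnr (reach_symm hD (step hg ha h))) (fun h => hnr ?_)
    have h' : Odd (orderOf (e * a * g)) := by rw [hea]; exact h
    exact hfa.trans (reach_symm hD (step hg hfD h'))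
  · obtain ⟨d, hd⟩ := hpa
    exact odd_partner_splits hD ha heD hd.2.1 hea.symm hfD hd.2.2.1 hd.2.2.2
      (fun h => hnr (step hd heD h)) (fun h => hfa (step hd hfD h))

end

/-- Let G be a finite group generated by a set D of root involutions, and W the set of members of D whose product with every other member of D has even order or is trivial (the isolated vertices of the odd-order-product graph on D). Then W is conjugation-invariant and generates a normal 2-subgroup of G meeting D in exactly W; the commutator of two members of D lying in different connected components of that graph, each with more than one member, lies in the subgroup generated by W; and for a in such a component, every member of D commuting with a, different from a and with product with a in D, lies in that component or in W. -/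
theorem result {G : Type*} [Group G] [Finite G] {D : Set G} (hD : Cfsg.IsRootInvolutionSet D) :
    (∀ w ∈ {w | Cfsg.IsIsolatedElem (Cfsg.OddAdj D) D w}, ∀ g : G, g * w * g⁻¹ ∈ {w | Cfsg.IsIsolatedElem (Cfsg.OddAdj D) D w}) ∧
    (Subgroup.closure {w | Cfsg.IsIsolatedElem (Cfsg.OddAdj D) D w}).Normal ∧
    IsPGroup 2 ↥(Subgroup.closure {w | Cfsg.IsIsolatedElem (Cfsg.OddAdj D) D w}) ∧
    (Subgroup.closure {w | Cfsg.IsIsolatedElem (Cfsg.OddAdj D) D w} : Set G) ∩ D = {w | Cfsg.IsIsolatedElem (Cfsg.OddAdj D) D w} ∧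
    (∀ a ∈ D, ∀ b ∈ D, (∃ a' ∈ Cfsg.elemComponentOf (Cfsg.OddAdj D) D a, a' ≠ a) →
      (∃ b' ∈ Cfsg.elemComponentOf (Cfsg.OddAdj D) D b, b' ≠ b) →
      Cfsg.elemComponentOf (Cfsg.OddAdj D) D a ≠ Cfsg.elemComponentOf (Cfsg.OddAdj D) D b →
        a * b * a⁻¹ * b⁻¹ ∈ Subgroup.closure {w | Cfsg.IsIsolatedElem (Cfsg.OddAdj D) D w}) ∧
    (∀ a ∈ D, (∃ a' ∈ Cfsg.elemComponentOf (Cfsg.OddAdj D) D a, a' ≠ a) →
      Cfsg.productPartners D a ⊆ Cfsg.elemComponentOf (Cfsg.OddAdj D) D a ∪ {w | Cfsg.IsIsolatedElem (Cfsg.OddAdj D) D w}) := by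
  set W := {w | Cfsg.IsIsolatedElem (Cfsg.OddAdj D) D w} with hW
  have hWconj : ∀ w ∈ W, ∀ g : G, g * w * g⁻¹ ∈ W := by
    intro w hw g
    refine ⟨hD.conj_mem w hw.1 g, fun b => ?_⟩
    have key : ¬ Cfsg.OddAdj D (g * w * g⁻¹) b := fun h => by
      have h' := oddAdj_conj hD h g⁻¹
      rw [show g⁻¹ * (g * w * g⁻¹) * g⁻¹⁻¹ = w by group] at h'
      exact (hw.2 _).1 h'
    exact ⟨key, fun h => key (oddAdj_symm hD h)⟩
  haveI hn : (Subgroup.closure W).Normal := by
    refine ⟨fun x hx g => ?_⟩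
    have hle : Subgroup.closure W ≤ (Subgroup.closure W).comap (MulAut.conj g).toMonoidHom :=
      (Subgroup.closure_le _).mpr fun y hy => Subgroup.subset_closure (hWconj y hy g)
    exact hle hx
  haveI : Fact (Nat.Prime 2) := ⟨Nat.prime_two⟩
  have hp : IsPGroup 2 (Subgroup.closure W) := by
    refine CfsgLib.Involutions.isPGroup_closure_of_pairwise (fun g w hw => hWconj w hw g) ?_
    intro w hw v hv
    have h4 : (w * v) ^ (2 ^ 2) = 1 := by
      by_cases hwv : w = v
      · rw [← hwv, root_mul_self hD hw.1, one_pow]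
      · exact not_odd_pow_four hD hw.1 hv.1 fun h => (hw.2 v).1 ⟨hw.1, hv.1, hwv, h⟩
    obtain ⟨k, -, hk⟩ := (Nat.dvd_prime_pow Nat.prime_two).mp (orderOf_dvd_of_pow_eq_one h4)
    exact CfsgLib.Involutions.isPGroup_two_closure_pair (hD.orderOf_eq w hw.1) (hD.orderOf_eq v hv.1) hk
  refine ⟨hWconj, hn, hp, ?_, ?_, ?_⟩
  · refine le_antisymm ?_ fun w hw => ⟨Subgroup.subset_closure hw, hw.1⟩
    rintro d ⟨hdW, hdD⟩
    refine ⟨hdD, fun b => ?_⟩
    have key : ¬ Cfsg.OddAdj D d b := by
      intro h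
      obtain ⟨g, -, hg⟩ :=
        CfsgLib.Involutions.conj_of_odd_order (hD.orderOf_eq d hdD) (hD.orderOf_eq b h.2.1) h.2.2.2
      have hbW : b ∈ Subgroup.closure W := hg ▸ hn.conj_mem d hdW g
      obtain ⟨j, hj⟩ := hp ⟨d * b, mul_mem hdW hbW⟩
      have hdvd : orderOf (d * b) ∣ 2 ^ j :=
        orderOf_dvd_of_pow_eq_one (by simpa using congrArg Subtype.val hj)
      obtain ⟨i, -, hi⟩ := (Nat.dvd_prime_pow Nat.prime_two).mp hdvd
      have ho := h.2.2.2
      rcases Nat.eq_zero_or_pos i with rfl | hpos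
      · exact h.2.2.1 (eq_of_mul_eq_one hD hdD (orderOf_eq_one_iff.mp (by simpa using hi))).symm
      · rw [hi, Nat.odd_pow_iff hpos.ne'] at ho
        exact absurd ho (by decide)
    exact ⟨key, fun h => key (oddAdj_symm hD h)⟩
  · intro a ha b hb hA hB hne
    obtain ⟨a', ha', ha'ne⟩ := hA
    obtain ⟨b', hb', hb'ne⟩ := hB
    have hpa := partner_of_component ha' ha'ne
    have hpb := partner_of_component hb' hb'ne
    have hsq : a * b * a⁻¹ * b⁻¹ = (a * b) ^ 2 := by
      rw [root_inv hD ha, root_inv hD hb, pow_two, mul_assoc (a * b)]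
    rw [hsq]
    rcases hD.pair a ha b hb with h | h | ⟨h4, hcD⟩
    · rw [(show Commute a b from h).mul_pow, pow_two, pow_two, root_mul_self hD ha,
        root_mul_self hD hb, one_mul]
      exact one_mem _
    · exfalso
      by_cases hab : a = b
      · exact hne (by rw [hab])
      have hr : Relation.ReflTransGen (Cfsg.OddAdj D) a b := Relation.ReflTransGen.single ⟨ha, hb, hab, h⟩
      exact hne (Set.ext fun z => ⟨fun hz => ⟨hz.1, (reach_symm hD hr).trans hz.2⟩,
        fun hz => ⟨hz.1, hr.trans hz.2⟩⟩)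
    · set c := (a * b) ^ 2 with hc
      have hci := root_inv hD hcD
      have mk : ∀ u v : G, u ∈ D → v ∈ D → c = (u * v) ^ 2 → c ∈ Cfsg.productPartners D u := by
        intro u v hu hv hcuv
        have huu := root_mul_self hD hu
        have hvv := root_mul_self hD hv
        have e1 : u * c * u⁻¹ = c⁻¹ := by
          rw [hcuv, pow_two, root_inv hD hu, mul_inv_rev, mul_inv_rev, root_inv hD hu, root_inv hD hv]
          simp [← mul_assoc, huu]
        rw [hci] at e1
        have hcomm : c * u = u * c := (mul_inv_eq_iff_eq_mul.mp e1).symm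
        have hmul : u * c = v * u * v⁻¹ := by
          rw [hcuv, pow_two, root_inv hD hv]
          simp only [← mul_assoc]
          rw [huu, one_mul]
        refine ⟨⟨hcD, hcomm, fun he => ?_⟩, ?_⟩
        · have h1 : v * u * v⁻¹ = 1 := by rw [← hmul, he, huu]
          have h2 : u = 1 := by simpa using h1
          exact CfsgLib.Involutions.ne_one_of_involution (hD.orderOf_eq u hu) h2
        · rw [hcomm, hmul]; exact hD.conj_mem u hu v
      have hcb : c = (b * a) ^ 2 := by
        rw [← hci, hc, ← inv_pow, mul_inv_rev, root_inv hD ha, root_inv hD hb]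
      rcases product_partner_mem hD ha hpa (mk a b ha hb hc) with h1 | h1
      · rcases product_partner_mem hD hb hpb (mk b a hb ha hcb) with h2 | h2
        · exfalso
          have hr : Relation.ReflTransGen (Cfsg.OddAdj D) a b := h1.2.trans (reach_symm hD h2.2)
          exact hne (Set.ext fun z => ⟨fun hz => ⟨hz.1, (reach_symm hD hr).trans hz.2⟩,
            fun hz => ⟨hz.1, hr.trans hz.2⟩⟩)
        · exact Subgroup.subset_closure h2
      · exact Subgroup.subset_closure h1
  · intro a ha hA e he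
    obtain ⟨a', ha', ha'ne⟩ := hA
    exact product_partner_mem hD ha (partner_of_component ha' ha'ne) he

end Cfsg.Agent.S5045
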