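import Cfsg.Statements.S5048
import Cfsg.Agent.Lib.RootGroups.RootInvolutions
import Cfsg.Agent.Lib.Solvable.Fitting

set_option autoImplicit false
open Cfsg

namespace Cfsg.Agent.S5048

section
open CfsgLib.RootInvolutions CfsgLib.Involutions
open scoped commutatorElement

variable {G : Type*} [Group G] [Finite G] {D : Set G}

theorem exists_line (hD : Cfsg.IsRootInvolutionSet D) (hc : Cfsg.IsConnectedSet (Cfsg.OddAdj D) D)
    (hDD : (D ∩ Cfsg.commutingProducts D).Nonempty) {a : G} (ha : a ∈ D) :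
    ∃ e, e ∈ D ∧ e * a = a * e ∧ e * a ∈ D := by
  obtain ⟨z, hzD, a0, ha0, b0, hb0, hcomm, -, rfl⟩ := hDD
  obtain ⟨g, rfl⟩ := isConj_of_connected hD hc ha0 ha
  refine ⟨g * b0 * g⁻¹, hD.conj_mem b0 hb0 g, ?_, ?_⟩
  · calc g * b0 * g⁻¹ * (g * a0 * g⁻¹) = g * (b0 * a0) * g⁻¹ := by group
      _ = g * (a0 * b0) * g⁻¹ := by rw [hcomm]
      _ = g * a0 * g⁻¹ * (g * b0 * g⁻¹) := by group
  · rw [show g * b0 * g⁻¹ * (g * a0 * g⁻¹) = g * (b0 * a0) * g⁻¹ by group, ← hcomm]
    exact hD.conj_mem _ hzD g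

theorem normal_eq_top_of_odd (hD : Cfsg.IsRootInvolutionSet D)
    (hc : Cfsg.IsConnectedSet (Cfsg.OddAdj D) D) (hDD : (D ∩ Cfsg.commutingProducts D).Nonempty)
    {N : Subgroup G} [N.Normal] {a b : G} (ha : a ∈ D) (hb : b ∈ D) (hne : a ≠ b)
    (hodd : Odd (orderOf (a * b))) (hab : a * b ∈ N) : N = ⊤ := by
  obtain ⟨e, he, hea, hf⟩ := exists_line hD hc hDD ha
  let π := QuotientGroup.mk' N
  have hker : ∀ x, π x = 1 ↔ x ∈ N := fun x => QuotientGroup.eq_one_iff x
  have haa : π a * π a = 1 := by rw [← map_mul, root_mul_self hD ha, map_one]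
  have hπb : π b = π a := by
    have h0 : π a * π b = 1 := by rw [← map_mul]; exact (hker _).mpr hab
    rw [← one_mul (π b), ← haa, mul_assoc, h0, mul_one]
  have key : ∀ r s : G, r ∈ D → s ∈ D → r * b = r * b → π r * π b = π s → Odd (orderOf (r * b)) →
      s ∈ N := by
    intro r s hr hs _ hπ ho
    obtain ⟨m, hm⟩ := ho
    have hp : π (r * b) ^ (2 * m + 1) = 1 := by rw [← map_pow, ← hm, pow_orderOf_eq_one, map_one]
    rw [map_mul, hπ, pow_succ, pow_mul, pow_two, ← map_mul, root_mul_self hD hs, map_one, one_pow,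
      one_mul] at hp
    exact (hker s).mp hp
  have hmem : ∃ x ∈ D, x ∈ N := by
    by_contra hno
    push Not at hno
    refine odd_partner_splits hD ha he hb hea.symm hf hne hodd (fun ho => ?_) (fun ho => ?_)
    · exact hno _ hf (key e (e * a) he hf rfl (by rw [hπb, map_mul]) ho)
    · refine hno _ he (key (e * a) e hf he rfl ?_ ho)
      rw [hπb, map_mul, mul_assoc, haa, mul_one]
  obtain ⟨x, hxD, hxN⟩ := hmem
  rw [eq_top_iff, ← hD.generates, Subgroup.closure_le]
  intro y hy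
  obtain ⟨g, rfl⟩ := isConj_of_connected hD hc hxD hy
  exact ‹N.Normal›.conj_mem x hxN g

theorem normal_le_twoZCore (hD : Cfsg.IsRootInvolutionSet D)
    (hc : Cfsg.IsConnectedSet (Cfsg.OddAdj D) D) (hDD : (D ∩ Cfsg.commutingProducts D).Nonempty)
    {N : Subgroup G} (hN : N.Normal) (hne : N ≠ ⊤) : N ≤ Cfsg.twoZCore G := by
  haveI := hN
  haveI : Fact (Nat.Prime 2) := ⟨Nat.prime_two⟩
  haveI := CfsgLib.Fitting.pCore_normal (G := G) 2
  have main : ∀ d ∈ D, ∀ n ∈ N, n * d * n⁻¹ * d⁻¹ ∈ Cfsg.pCore 2 G := by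
    intro d hd
    set Δ : Set G := {x | ∃ n ∈ N, x = n * d * n⁻¹} with hΔ
    set H := N ⊔ Subgroup.zpowers d with hH
    have hΔH : ∀ x ∈ Δ, x ∈ H := by
      rintro x ⟨n, hn, rfl⟩
      exact mul_mem (mul_mem (Subgroup.mem_sup_left hn)
        (Subgroup.mem_sup_right (Subgroup.mem_zpowers d))) (inv_mem (Subgroup.mem_sup_left hn))
    have hinv : ∀ g ∈ H, ∀ x ∈ Δ, g * x * g⁻¹ ∈ Δ := by
      intro g hg x hx
      obtain ⟨n, hn, rfl⟩ := hx
      rw [hH, sup_comm] at hg
      obtain ⟨t, ht, m, hm, rfl⟩ := Subgroup.mem_sup_of_normal_right.mp hg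
      obtain ⟨i, rfl⟩ := Subgroup.mem_zpowers_iff.mp ht
      refine ⟨d ^ i * (m * n) * (d ^ i)⁻¹, hN.conj_mem _ (mul_mem hm hn) _, ?_⟩
      have h1 : (d ^ i)⁻¹ * d * d ^ i = d := by group
      have h2 : d ^ i * (m * n) * (d ^ i)⁻¹ * d * (d ^ i * (m * n) * (d ^ i)⁻¹)⁻¹ =
          d ^ i * (m * n) * ((d ^ i)⁻¹ * d * d ^ i) * (m * n)⁻¹ * (d ^ i)⁻¹ := by group
      rw [h2, h1]; group
    let Δ' : Set H := {x | (x : G) ∈ Δ}
    have hp' : IsPGroup 2 (Subgroup.closure Δ') := by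
      refine isPGroup_closure_of_pairwise (fun g x hx => hinv g g.2 x hx) fun a ha b hb => ?_
      have hD' : ∀ {x : G}, x ∈ Δ → x ∈ D := by
        rintro x ⟨n, -, rfl⟩; exact hD.conj_mem d hd n
      have hco : ∀ x : H, orderOf (x : G) = 2 → orderOf x = 2 := fun x hx => by
        rwa [Subgroup.orderOf_coe] at hx
      have h4 : ((a : G) * b) ^ (2 ^ 2) = 1 := by
        by_cases hab : (a : G) = b
        · rw [← hab, root_mul_self hD (hD' ha), one_pow]
        · refine not_odd_pow_four hD (hD' ha) (hD' hb) fun ho => ?_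
          refine hne (normal_eq_top_of_odd hD hc hDD (hD' ha) (hD' hb) hab ho ?_)
          obtain ⟨n, hn, hna⟩ := (show (a : G) ∈ Δ from ha)
          obtain ⟨m, hm, hmb⟩ := (show (b : G) ∈ Δ from hb)
          rw [hna, hmb, show n * d * n⁻¹ * (m * d * m⁻¹) = n * (d * (n⁻¹ * m) * d⁻¹) * (d * d) * m⁻¹
            by group, root_mul_self hD hd, mul_one]
          exact mul_mem (mul_mem hn (hN.conj_mem _ (mul_mem (inv_mem hn) hm) d)) (inv_mem hm)
      obtain ⟨k, -, hk⟩ := (Nat.dvd_prime_pow Nat.prime_two).mp (orderOf_dvd_of_pow_eq_one h4)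
      rw [← Subgroup.coe_mul, Subgroup.orderOf_coe] at hk
      exact isPGroup_two_closure_pair (hco a (hD.orderOf_eq _ (hD' ha)))
        (hco b (hD.orderOf_eq _ (hD' hb))) hk
    set P := Subgroup.closure Δ with hP
    have hPp : IsPGroup 2 P := by
      have e : (Subgroup.closure Δ').map H.subtype = P := by
        rw [MonoidHom.map_closure]
        refine congrArg Subgroup.closure (Set.ext fun x => ⟨?_, fun hx => ⟨⟨x, hΔH x hx⟩, hx, rfl⟩⟩)
        rintro ⟨x, hx, rfl⟩; exact hx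
      rw [← e]; exact hp'.map H.subtype
    have hsub : (P ⊓ N).IsSubnormal := by
      refine Subgroup.IsSubnormal.step _ _ inf_le_right hN.isSubnormal ?_
      refine ⟨fun x hx g => ?_⟩
      rw [Subgroup.mem_subgroupOf] at hx ⊢
      push_cast
      refine ⟨?_, hN.conj_mem _ hx.2 g⟩
      have hle : P ≤ P.comap (MulAut.conj (g : G)).toMonoidHom := (Subgroup.closure_le _).mpr
        fun y hy => Subgroup.subset_closure (hinv g (Subgroup.mem_sup_left g.2) y hy)
      exact hle hx.1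
    have hle := CfsgLib.Fitting.subnormal_pGroup_le_pCore hsub (hPp.to_le inf_le_left)
    intro n hn
    have hnP : n * d * n⁻¹ * d⁻¹ ∈ P :=
      mul_mem (Subgroup.subset_closure (⟨n, hn, rfl⟩ : n * d * n⁻¹ ∈ Δ))
        (inv_mem (Subgroup.subset_closure (⟨1, one_mem _, by group⟩ : d ∈ Δ)))
    refine hle ⟨hnP, ?_⟩
    show n * d * n⁻¹ * d⁻¹ ∈ N
    rw [show n * d * n⁻¹ * d⁻¹ = n * (d * n⁻¹ * d⁻¹) by group]
    exact mul_mem hn (hN.conj_mem _ (inv_mem hn) d)
  intro n hn
  rw [Cfsg.twoZCore, Subgroup.mem_comap, Subgroup.mem_center_iff]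
  intro g
  obtain ⟨g, rfl⟩ := QuotientGroup.mk'_surjective (Cfsg.pCore 2 G) g
  have hle : Subgroup.closure D ≤ (Subgroup.centralizer {QuotientGroup.mk' (Cfsg.pCore 2 G) n}).comap
      (QuotientGroup.mk' (Cfsg.pCore 2 G)) := by
    rw [Subgroup.closure_le]
    intro d hd
    rw [SetLike.mem_coe, Subgroup.mem_comap, Subgroup.mem_centralizer_singleton_iff]
    have h1 : QuotientGroup.mk' (Cfsg.pCore 2 G) (n * d * n⁻¹ * d⁻¹) = 1 :=
      (QuotientGroup.eq_one_iff _).mpr (main d hd n hn)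
    rw [map_mul, map_mul, map_mul, map_inv, map_inv, mul_inv_eq_one, mul_inv_eq_iff_eq_mul] at h1
    exact h1.symm
  exact Subgroup.mem_centralizer_singleton_iff.mp (hle (by rw [hD.generates]; exact Subgroup.mem_top g))

theorem twoZCore_ne_top (hD : Cfsg.IsRootInvolutionSet D) {a b : G} (h : Cfsg.OddAdj D a b) :
    Cfsg.twoZCore G ≠ ⊤ := by
  intro htop
  haveI := CfsgLib.Fitting.pCore_normal (G := G) 2
  obtain ⟨ha, hb, hne, hodd⟩ := h
  let π := QuotientGroup.mk' (Cfsg.pCore 2 G)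
  have hcomm : Commute (π a) (π b) := by
    have h1 : b ∈ Cfsg.twoZCore G := htop ▸ Subgroup.mem_top b
    rw [Cfsg.twoZCore, Subgroup.mem_comap, Subgroup.mem_center_iff] at h1
    exact h1 (π a)
  have h2 : (a * b) ^ 2 ∈ Cfsg.pCore 2 G := by
    rw [← QuotientGroup.eq_one_iff]
    show π ((a * b) ^ 2) = 1
    rw [map_pow, map_mul, hcomm.mul_pow, pow_two, pow_two, ← map_mul, ← map_mul,
      root_mul_self hD ha, root_mul_self hD hb, map_one, one_mul]
  obtain ⟨k, hk⟩ := CfsgLib.Fitting.pCore_isPGroup (G := G) 2 ⟨_, h2⟩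
  have hk' : (a * b) ^ (2 ^ (k + 1)) = 1 := by
    rw [pow_succ', pow_mul]; simpa using congrArg Subtype.val hk
  obtain ⟨i, -, hi⟩ := (Nat.dvd_prime_pow Nat.prime_two).mp (orderOf_dvd_of_pow_eq_one hk')
  rcases Nat.eq_zero_or_pos i with rfl | hpos
  · exact hne (eq_of_mul_eq_one hD ha (orderOf_eq_one_iff.mp (by simpa using hi))).symm
  · rw [hi, Nat.odd_pow_iff hpos.ne'] at hodd
    exact absurd hodd (by decide)

end

/-- Let G be a finite group generated by a set D of root involutions whose odd-order-product graph is connected, with some product of two different commuting members of D again in D. Then the largest solvable normal subgroup of G is the preimage of the centre of G/O₂(G), and the quotient of G by it is a simple group. -/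
theorem result {G : Type*} [Group G] [Finite G] {D : Set G} (hD : Cfsg.IsRootInvolutionSet D)
    (hc : Cfsg.IsConnectedSet (Cfsg.OddAdj D) D) (hDD : (D ∩ Cfsg.commutingProducts D).Nonempty) :
    Cfsg.solvableRadical G = Cfsg.twoZCore G ∧ IsSimpleGroup (G ⧸ Cfsg.twoZCore G) := by
  haveI : Fact (Nat.Prime 2) := ⟨Nat.prime_two⟩
  haveI := CfsgLib.Fitting.pCore_normal (G := G) 2
  obtain ⟨z, hzD, a0, ha0, b0, hb0, hcomm, hab1, hz⟩ := id hDD
  have hne0 : a0 ≠ b0 := fun h => hab1 (h ▸ CfsgLib.RootInvolutions.root_mul_self hD ha0)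
  obtain ⟨a1, hedge⟩ : ∃ x, Cfsg.OddAdj D a0 x := by
    rcases (hc a0 ha0 b0 hb0).cases_head with h | ⟨x, hx, -⟩
    · exact absurd h hne0
    · exact ⟨x, hx⟩
  have htop := twoZCore_ne_top hD hedge
  have hperf : commutator G = ⊤ := by
    obtain ⟨g, -, hg, -⟩ :=
      CfsgLib.RootInvolutions.exists_swap hD hedge.1 hedge.2.1 hedge.2.2.2
    refine normal_eq_top_of_odd hD hc hDD hedge.1 hedge.2.1 hedge.2.2.1 hedge.2.2.2 ?_
    rw [← hg]
    open scoped commutatorElement in
    have : ⁅a0, g⁆ = a0 * (g * a0 * g⁻¹) := by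
      rw [commutatorElement_def, CfsgLib.RootInvolutions.root_inv hD hedge.1]; group
    rw [← this, commutator_def]
    exact Subgroup.commutator_mem_commutator (Subgroup.mem_top _) (Subgroup.mem_top _)
  have hsol : Group.IsSolvable ↥(Cfsg.twoZCore G) := by
    let π := (QuotientGroup.mk' (Cfsg.pCore 2 G)).comp (Cfsg.twoZCore G).subtype
    have hle : Cfsg.pCore 2 G ≤ Cfsg.twoZCore G := fun x hx => by
      rw [Cfsg.twoZCore, Subgroup.mem_comap]
      have : QuotientGroup.mk' (Cfsg.pCore 2 G) x = 1 := (QuotientGroup.eq_one_iff x).mpr hx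
      rw [this]; exact one_mem _
    haveI : Group.IsNilpotent ↥(Cfsg.pCore 2 G) := (CfsgLib.Fitting.pCore_isPGroup (G := G) 2).isNilpotent
    let π' : ↥(Cfsg.twoZCore G) →* ↥(Subgroup.center (G ⧸ Cfsg.pCore 2 G)) :=
      π.codRestrict _ fun x => x.2
    haveI : Group.IsSolvable ↥(Subgroup.center (G ⧸ Cfsg.pCore 2 G)) :=
      Group.isSolvable_of_comm fun u v => Subtype.ext (Subgroup.mem_center_iff.mp v.2 u)
    refine Group.isSolvable_of_ker_le_range (Subgroup.inclusion hle) π' ?_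
    intro x hx
    have h1 : QuotientGroup.mk' (Cfsg.pCore 2 G) (x : G) = 1 := congrArg Subtype.val hx
    exact ⟨⟨x, (QuotientGroup.eq_one_iff _).mp h1⟩, rfl⟩
  refine ⟨le_antisymm ?_ (le_sSup ⟨inferInstance, hsol⟩), ?_⟩
  · refine sSup_le fun N hN => normal_le_twoZCore hD hc hDD hN.1 fun h => ?_
    have hne : Nontrivial G := ⟨a0, b0, hne0⟩
    haveI : Group.IsSolvable G := by
      have := hN.2
      rw [h] at this
      exact Group.isSolvable_of_surjective (f := (⊤ : Subgroup G).subtype) (fun x => ⟨⟨x, trivial⟩, rfl⟩)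
    exact (Group.IsSolvable.commutator_lt_top_of_nontrivial G).ne hperf
  · haveI : Nontrivial (G ⧸ Cfsg.twoZCore G) := QuotientGroup.nontrivial_iff.mpr htop
    refine ⟨fun M hM => ?_⟩
    set π := QuotientGroup.mk' (Cfsg.twoZCore G) with hπ
    have hmap : (M.comap π).map π = M :=
      Subgroup.map_comap_eq_self_of_surjective (QuotientGroup.mk'_surjective _) M
    by_cases hM1 : M.comap π = ⊤
    · refine Or.inr ?_
      rw [← hmap, hM1, Subgroup.map_top_of_surjective π (QuotientGroup.mk'_surjective _)]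
    · refine Or.inl ?_
      rw [← hmap, Subgroup.map_eq_bot_iff, hπ, QuotientGroup.ker_mk']
      exact normal_le_twoZCore hD hc hDD (hM.comap π) hM1

end Cfsg.Agent.S5048
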