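import Cfsg.Statements.S4529
import Cfsg.Agent.Lib.QuatDefect.Main
-- import your own Cfsg.Agent.* helpers here

set_option autoImplicit false
open Cfsg

namespace Cfsg.Agent.S4529

/-- Let B be a 2-block of the finite group G (relative to a maximal ideal M of the algebraic integers containing 2) whose defect group D is semidihedral (quasi-dihedral) of order 2 ^ n, n ≥ 4. Then the number of irreducible characters in B is 2 ^ (n - 2) + 3 or 2 ^ (n - 2) + 4, its 2-regular rank l is between 1 and 3, with l = 3 forcing 2 ^ (n - 2) + 4 characters and l = 1 forcing 2 ^ (n - 2) + 3; exactly four members have height zero, exactly 2 ^ (n - 2) - 1 have height one, and every other member has height n - 2. -/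
theorem result {G : Type*} [Group G] [Finite G] (M : Ideal Cfsg.AlgInt) (hM : Cfsg.IsPModular 2 M) (B : Set (Cfsg.IrrCharacter G)) (hB : Cfsg.IsPBlock M B) (D : Subgroup G) (hD : Cfsg.IsDefectGroup 2 M B D) (n : ℕ) (hn : 4 ≤ n) (hcard : Nat.card D = 2 ^ n) (hsd : Cfsg.IsQuasiDihedral D) : (Nat.card B = 2 ^ (n - 2) + 3 ∨ Nat.card B = 2 ^ (n - 2) + 4) ∧ 1 ≤ Cfsg.blockRank 2 B ∧ Cfsg.blockRank 2 B ≤ 3 ∧ (Cfsg.blockRank 2 B = 3 → Nat.card B = 2 ^ (n - 2) + 4) ∧ (Cfsg.blockRank 2 B = 1 → Nat.card B = 2 ^ (n - 2) + 3) ∧ Nat.card {χ : Cfsg.IrrCharacter G // χ ∈ B ∧ Cfsg.blockHeight 2 B (χ : G → ℂ) = 0} = 4 ∧ Nat.card {χ : Cfsg.IrrCharacter G // χ ∈ B ∧ Cfsg.blockHeight 2 B (χ : G → ℂ) = 1} = 2 ^ (n - 2) - 1 ∧ ∀ χ ∈ B, Cfsg.blockHeight 2 B (χ : G → ℂ) = 0 ∨ Cfsg.blockHeight 2 B (χ : G → ℂ) = 1 ∨ Cfsg.blockHeight 2 B (χ : G → ℂ) = n - 2 := by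
  have := hM.2.1
  haveI : Fact (Nat.Prime 2) := ⟨Nat.prime_two⟩
  letI : Fintype G := Fintype.ofFinite G
  obtain ⟨n', -, hcard', x, y, hx, hy, hrel⟩ := hsd
  obtain ⟨m, hm, rfl⟩ : ∃ m, 2 ≤ m ∧ n = m + 2 := ⟨n - 2, by omega, by omega⟩
  obtain rfl : n' = m + 1 := by
    rw [hcard] at hcard'
    have := Nat.pow_right_injective le_rfl hcard'
    omega
  simp only [Nat.add_sub_cancel] at hrel ⊢
  have hx' : orderOf x = 2 * 2 ^ m := by rw [hx, pow_succ']
  have h4 : 4 ≤ 2 ^ m := le_trans (by norm_num) (Nat.pow_le_pow_right two_pos hm)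
  have hy1 : y * y = 1 := by rw [← sq, ← hy, pow_orderOf_eq_one]
  have hrel' : y * x * y⁻¹ = x ^ ((2 : ℤ) ^ m - 1) := by
    rw [hrel, ← zpow_natCast, Nat.cast_sub (by omega)]
    push_cast
    rfl
  have hnot : y ∉ Subgroup.zpowers x := by
    intro h
    obtain ⟨i, hi⟩ := Subgroup.mem_zpowers_iff.1 h
    have hc : y * x * y⁻¹ = x := by
      rw [← hi, ((Commute.refl x).zpow_left i).eq, mul_inv_cancel_right]
    rw [hrel] at hc
    have h1 := pow_eq_pow_iff_modEq.1 (show x ^ (2 ^ m - 1) = x ^ 1 by rw [hc, pow_one])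
    rw [hx', Nat.ModEq, Nat.mod_eq_of_lt (by omega), Nat.mod_eq_of_lt (by omega)] at h1
    omega
  let S : CfsgLib.QuatDefect.QD D m :=
    { σ := x
      τ := y
      a := 2 ^ m - 1
      one_le := by omega
      a_eq := Or.inr ⟨hm, rfl⟩
      σ_mem := x.2
      τ_mem := y.2
      ord := by rw [Subgroup.orderOf_coe]; exact hx'
      rel := by simpa using congrArg Subtype.val hrel'
      τ_sq := Or.inl (by simpa using congrArg Subtype.val hy1)
      notMem := fun h => hnot (by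
        obtain ⟨i, hi⟩ := Subgroup.mem_zpowers_iff.1 h
        exact Subgroup.mem_zpowers_iff.2 ⟨i, Subtype.ext (by simpa using hi)⟩)
      card := by rw [hcard, pow_add]; ring }
  exact CfsgLib.QuatDefect.main_semidihedral hM hB hD S hm rfl
    (by simpa using congrArg Subtype.val hy1)

end Cfsg.Agent.S4529
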