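import Cfsg.Statements.S1141
import Cfsg.Agent.Lib.SuzukiTwo.HermTwo

set_option autoImplicit false
open Cfsg

namespace Cfsg.Agent.S1141

/-- Let `q = 2^n ≥ 4` and `|F| = q²`. A Sylow 2-subgroup `S` of `PSU₃(q)` has order `q³`, its centre has order `q`, and `S` is a Suzuki 2-group. -/
theorem result {F : Type*} [Field F] [Fintype F] {n : ℕ} (hn : 2 ≤ n)
    (hF : Fintype.card F = (2 ^ n) ^ 2) (S : Sylow 2 (Cfsg.PSU 3 F (2 ^ n))) :
    Nat.card S = (2 ^ n) ^ 3 ∧ Nat.card (Subgroup.center ↥(S : Subgroup (Cfsg.PSU 3 F (2 ^ n)))) = 2 ^ n ∧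
      Cfsg.IsSuzukiTwoGroup ↥(S : Subgroup (Cfsg.PSU 3 F (2 ^ n))) := by
  have hq : 2 ≤ 2 ^ n := le_trans (by norm_num) (Nat.pow_le_pow_right (show 0 < 2 by norm_num) hn)
  have he : Even (2 ^ n) := even_two.pow_of_ne_zero (by omega)
  let _ := CfsgLib.InvCharThree.hermGroup hF he
  obtain ⟨e⟩ := CfsgLib.InvCharThree.herm_equiv_sylow_psu hF he rfl S
  refine ⟨?_, ?_, CfsgLib.SuzukiTwo.isSuzukiTwoGroup_of_equiv e
    (CfsgLib.SuzukiTwo.herm_isSuzukiTwoGroup hF he rfl hn)⟩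
  · rw [← Nat.card_congr e.toEquiv, CfsgLib.InvCharThree.natCard_herm hF he]
  · rw [← Nat.card_congr (Subgroup.centerCongr e).toEquiv]
    exact CfsgLib.SuzukiTwo.herm_card_center hF he hq

end Cfsg.Agent.S1141
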