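import Cfsg.Statements.S2100
import Cfsg.Agent.Lib.ChevMult.General
import Cfsg.Agent.Lib.ChevStr.Mem
import Cfsg.Agent.S1078

set_option autoImplicit false
open Cfsg

namespace Cfsg.Agent.S2100

/-- Schur multipliers of the Chevalley groups of type G₂: over a field with q ≥ 5 elements the Schur multiplier of G₂(q) is trivial (here the Schur multiplier is described through stem extensions, as in the definitions); the cases q = 3 and q = 4 are exceptional and q = 2 gives a non-simple group. -/
theorem result {F : Type*} [Field F] [Fintype F] (hF : 5 ≤ Fintype.card F) : Cfsg.HasCyclicSchurMultiplier ↥(Cfsg.Lie.chevG2.group F) 1 := by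
  have hD : Cfsg.Lie.chevG2 ∈ [Cfsg.Lie.chevG2, Cfsg.Lie.chevB2, Cfsg.Lie.chevD4, Cfsg.Lie.chevF4,
      Cfsg.Lie.chevE6, Cfsg.Lie.chevE7, Cfsg.Lie.chevE8] := List.mem_cons_self ..
  have hadj := CfsgLib.ChevCover.hasNeighbours hD
  obtain ⟨C, hη⟩ := CfsgLib.ChevStr.exists_core_etaNeg hD F
  obtain ⟨e, -⟩ := CfsgLib.ChevCover.exists_cover_equiv C hη hadj
  have hperf : commutator (Cfsg.Lie.chevG2.SteinbergCover F) = ⊤ := by
    refine CfsgLib.SteinbergPerfect.perfect_of_cert _ (fun _ => ?_) CfsgLib.SteinbergPerfect.check_G2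
    classical
    by_contra hcon
    push Not at hcon
    have h2 : Fintype.card F ≤ 2 := by
      refine (Finset.card_le_card (t := {0, 1}) fun x _ => ?_).trans Finset.card_le_two
      by_cases hx : x = 0
      · simp [hx]
      · simp [hcon x hx]
    omega
  have hbot := Cfsg.Agent.S1078.result (K := F) Cfsg.Lie.chevG2 (List.mem_cons_self ..)
  have : Unique (Subgroup.center (Cfsg.Lie.chevG2.SteinbergGroup F)) := by
    rw [hbot]; infer_instance
  have : Subsingleton (Multiplicative (ZMod 1)) := inferInstanceAs (Subsingleton (ZMod 1))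
  have : Unique (Multiplicative (ZMod 1)) := uniqueOfSubsingleton 1
  refine CfsgLib.ChevMult.hasSchurMultiplier_group C hadj
    (CfsgLib.ChevMult.perfect_of_equiv e hperf)
    (CfsgLib.ChevMult.liftsExt_of_large C hadj ?_ CfsgLib.ChevCover.sepCheckG2
      CfsgLib.ChevCover.selfCheckG2 hperf e) MulEquiv.ofUnique
  rw [Nat.card_eq_fintype_card]
  omega

end Cfsg.Agent.S2100
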