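import Cfsg.Statements.S2916
import Cfsg.Agent.Lib.GL23.PSL33.Simple
import Cfsg.Agent.Lib.GL23.PSL33.Iso
import Cfsg.Agent.Lib.Sporadic.M11Unique

set_option autoImplicit false
open Cfsg

namespace Cfsg.Agent.S2916

/-- Let G be a finite group with O²(G) = G (no proper normal subgroup of 2-power index), and let t be an involution of G whose centralizer C_G(t) is isomorphic to GL₂(3). Then G is isomorphic to PSL₃(3) or to the Mathieu group M₁₁. -/
theorem result {G : Type*} [Group G] [Finite G] (hO : Cfsg.pResidual 2 G = ⊤) (t : G) (ht : orderOf t = 2) (hC : Nonempty (↥(Subgroup.centralizer ({t} : Set G)) ≃* GL (Fin 2) (ZMod 3))) : (∃ (F : Type) (_ : Field F) (_ : Fintype F), Fintype.card F = 3 ∧ Nonempty (G ≃* Matrix.ProjectiveSpecialLinearGroup (Fin 3) F)) ∨ Cfsg.Spor.IsoM11 G := by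
  obtain ⟨e⟩ := hC
  letI : Fintype G := Fintype.ofFinite G
  haveI := CfsgLib.GL23.PSL33.isSimpleGroup hO ht e
  rcases CfsgLib.GL23.order_eq ht e with h | h
  · left
    refine ⟨ZMod 3, ZMod.instField 3, inferInstance, ZMod.card 3, ?_⟩
    exact CfsgLib.GL23.PSL33.Ctx.nonempty_equiv
      { φ := CfsgLib.GL23.PSL33.emb e
        inj := CfsgLib.GL23.PSL33.emb_injective e
        range := fun x hx => CfsgLib.GL23.PSL33.exists_emb e
          (by rwa [CfsgLib.GL23.PSL33.emb_mH e ht] at hx)
        fused := fun x h2 h1 => by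
          rw [CfsgLib.GL23.PSL33.emb_mH e ht]
          exact CfsgLib.GL23.PSL33.exists_conj_eq hO ht e h2 h1
        card := h }
  · exact Or.inr (CfsgLib.Sporadic.M11.nonempty_equiv_sporM11 h)

end Cfsg.Agent.S2916
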