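import Cfsg.Statements.S3189
import Cfsg.Agent.Lib.InvChar.EightColumns
import Cfsg.Agent.Lib.InvChar.EightSylowMultiplier

set_option autoImplicit false
open Cfsg

namespace Cfsg.Agent.S3189

/-- Let G be a non-abelian finite simple group whose Sylow 2-subgroup S is elementary abelian of order 8, and suppose the centralizer of every involution of G is solvable. Then the normalizer of S modulo the centralizer of S has order 7. -/
theorem result {G : Type*} [Group G] [Finite G]
    [IsSimpleGroup G] (hG : ¬ IsMulCommutative G) (S : Sylow 2 G)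
    (hS : Cfsg.IsElementaryAbelian 2 (S : Subgroup G)) (hS8 : Nat.card ↥(S : Subgroup G) = 8)
    (hC : ∀ t : G, orderOf t = 2 → Group.IsSolvable ↥(Subgroup.centralizer ({t} : Set G))) :
    (Subgroup.centralizer ((S : Subgroup G) : Set G)).relIndex (Subgroup.normalizer ((S : Subgroup G) : Set G)) = 7 := by
  classical
  have : Fintype G := Fintype.ofFinite G
  have : Fact (Nat.Prime 2) := ⟨Nat.prime_two⟩
  set N := Subgroup.normalizer ((S : Subgroup G) : Set G) with hNdef
  have hexp : ∀ s ∈ (S : Subgroup G), s * s = 1 := fun s hs => by rw [← pow_two]; exact hS.2 s hs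
  have := hS.1
  let φ := Subgroup.normalizerMonoidHom (S : Subgroup G)
  have hcard : (Subgroup.centralizer ((S : Subgroup G) : Set G)).relIndex N =
      Nat.card φ.range := by
    rw [Subgroup.relIndex, ← Subgroup.index_ker, Subgroup.normalizerMonoidHom_ker]
  rw [hcard]
  set A := φ.range with hA
  have hodd : Odd (Nat.card A) := by
    rw [← hcard, Nat.odd_iff]
    have hle : (S : Subgroup G) ≤ Subgroup.centralizer ((S : Subgroup G) : Set G) := fun x hx =>
      Subgroup.mem_centralizer_iff.2 fun y hy =>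
        congrArg Subtype.val (this.is_comm.comm ⟨y, hy⟩ ⟨x, hx⟩)
    have h1 : (Subgroup.centralizer ((S : Subgroup G) : Set G)).relIndex N ∣
        (S : Subgroup G).index :=
      (Subgroup.relIndex_dvd_index_of_le (Subgroup.centralizer_le_normalizer _)).trans
        (Subgroup.index_dvd_of_le hle)
    exact Nat.two_dvd_ne_zero.1 fun h => S.not_dvd_index (h.trans h1)
  obtain ⟨n, hn, hn7, hfree⟩ := CfsgLib.InvChar.EightSylow.exists_seven hG S hS8 hexp
  have : Nontrivial ↥(S : Subgroup G) := Finite.one_lt_card_iff_nontrivial.1 (by omega)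
  obtain ⟨t, ht⟩ := exists_ne (1 : ↥(S : Subgroup G))
  -- the orbit of `t`
  set a : A := ⟨φ ⟨n, hn⟩, ⟨_, rfl⟩⟩ with ha
  have ha7 : a ^ 7 = 1 := by
    refine Subtype.ext (MulEquiv.ext fun s => Subtype.ext ?_)
    show ((φ ⟨n, hn⟩ ^ 7) s : G) = s
    rw [← map_pow]
    exact hn7 s s.2
  have hpow : ∀ k : ℕ, k < 7 → (a ^ k : A).1 t = t → k = 0 := by
    intro k hk h
    by_contra hk0
    have hco : Nat.Coprime k 7 := Nat.Coprime.symm ((Nat.Prime.coprime_iff_not_dvd (by norm_num)).2
      fun hd => by have := Nat.le_of_dvd (Nat.pos_of_ne_zero hk0) hd; omega)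
    obtain ⟨m, hm⟩ := exists_pow_eq_self_of_coprime (x := a)
      (Nat.Coprime.coprime_dvd_right (orderOf_dvd_of_pow_eq_one ha7) hco)
    have h1 : ∀ j : ℕ, ((a ^ k) ^ j : A).1 t = t := by
      intro j
      induction j with
      | zero => rfl
      | succ j ih => rw [pow_succ, Subgroup.coe_mul, MulAut.mul_apply, h, ih]
    have h2 := h1 m
    rw [hm] at h2
    exact ht (Subtype.ext (hfree _ t.2 (congrArg Subtype.val h2)))
  have hX7 : Nat.card {s : ↥(S : Subgroup G) // s ≠ 1} = 7 := by
    have h := Set.ncard_add_ncard_compl ({1} : Set ↥(S : Subgroup G))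
    rw [Set.ncard_singleton, hS8] at h
    have h2 : Nat.card {s : ↥(S : Subgroup G) // s ≠ 1} =
        ({1} : Set ↥(S : Subgroup G))ᶜ.ncard := Nat.card_coe_set_eq ({1} : Set ↥(S : Subgroup G))ᶜ
    omega
  let f : Fin 7 → {s : ↥(S : Subgroup G) // s ≠ 1} := fun k =>
    ⟨(a ^ (k : ℕ) : A).1 t, fun h => ht ((MulEquiv.map_eq_one_iff _).1 h)⟩
  have hfi : Function.Injective f := by
    intro i j hij
    wlog hle : (i : ℕ) ≤ (j : ℕ) generalizing i j
    · exact (this hij.symm (le_of_not_ge hle)).symm
    have h := congrArg Subtype.val hij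
    simp only [f] at h
    rw [show (a ^ (j : ℕ)) = a ^ (i : ℕ) * a ^ ((j : ℕ) - i) by rw [← pow_add]; congr 1; omega,
      Subgroup.coe_mul, MulAut.mul_apply] at h
    have := hpow _ (by omega) ((MulEquiv.injective _ h).symm)
    exact Fin.ext (by omega)
  have hfs : Function.Surjective f := ((Nat.bijective_iff_injective_and_card f).2
    ⟨hfi, by rw [hX7, Nat.card_fin]⟩).2
  -- orbit and stabilizer
  have horb : MulAction.orbit A t = {s : ↥(S : Subgroup G) | s ≠ 1} := by
    ext s
    constructor
    · rintro ⟨b, rfl⟩ h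
      exact ht ((MulEquiv.map_eq_one_iff _).1 h)
    · intro hs
      obtain ⟨k, hk⟩ := hfs ⟨s, hs⟩
      exact ⟨a ^ (k : ℕ), congrArg Subtype.val hk⟩
  have horb7 : Nat.card (MulAction.orbit A t) = 7 := by rw [horb]; exact hX7
  have hAcard : Nat.card A = 7 * Nat.card (MulAction.stabilizer A t) := by
    rw [← horb7, ← Nat.card_prod]
    exact Nat.card_congr (MulAction.orbitProdStabilizerEquivGroup A t).symm
  have hstab : Nat.card (MulAction.stabilizer A t) ∣ 3 := by
    refine CfsgLib.InvChar.EightLocal.card_dvd_three hS8 (fun s => Subtype.ext (hexp s s.2))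
      (hodd.of_dvd_nat (Subgroup.card_subgroup_dvd_card _))
      (A.subtype.comp (MulAction.stabilizer A t).subtype)
      (fun x y h => Subtype.ext (Subtype.ext h)) ht fun b => b.2
  rcases (Nat.dvd_prime Nat.prime_three).1 hstab with h | h
  · rw [hAcard, h]
  exfalso
  obtain ⟨b, hb⟩ : ∃ b : MulAction.stabilizer A t, b ≠ 1 := by
    have : Nontrivial (MulAction.stabilizer A t) :=
      Finite.one_lt_card_iff_nontrivial.1 (by omega)
    exact exists_ne 1
  obtain ⟨g, hg⟩ := (b : A).2
  have hgt : (g : G) * (t : G) * (g : G)⁻¹ = t := by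
    have h1 : φ g t = t := by rw [hg]; exact b.2
    exact congrArg Subtype.val h1
  have ho : orderOf (t : G) = 2 :=
    orderOf_eq_prime (by rw [pow_two]; exact hexp t t.2) fun h => ht (Subtype.ext h)
  have := hC t ho
  refine CfsgLib.InvChar.EightColumns.no_order_three S hS8 hexp t.2 ho ?_ (g := (g : G))
    (Subgroup.mem_centralizer_singleton_iff.2 (mul_inv_eq_iff_eq_mul.1 hgt)) g.2 ?_
  · intro s hs hs1
    obtain ⟨k, hk⟩ := hfs ⟨⟨s, hs⟩, fun h => hs1 (congrArg Subtype.val h)⟩
    refine isConj_iff.2 ⟨n ^ (k : ℕ), ?_⟩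
    have h1 := congrArg Subtype.val hk
    simp only [f, ha, SubmonoidClass.coe_pow, ← map_pow] at h1
    exact congrArg Subtype.val h1
  · intro hgc
    refine hb (Subtype.ext (Subtype.ext ?_))
    rw [← hg]
    refine MulEquiv.ext fun s => Subtype.ext ?_
    show (g : G) * (s : G) * (g : G)⁻¹ = s
    rw [← Subgroup.mem_centralizer_iff.1 hgc s s.2, mul_inv_cancel_right]

end Cfsg.Agent.S3189
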