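import Cfsg.Statements.S0620
import Cfsg.Agent.Lib.PLocal.FFOperators

set_option autoImplicit false
open Cfsg

namespace Cfsg.Agent.S0620

/-- Under coprime action of an elementary abelian q-group X on a p-separable group K with trivial p'-core, K is generated by the normalizer of J(S), the centralizer of Ω₁(Z(S)) and the fixed points of X. -/
theorem result {G : Type*} [Group G] [Finite G] {p : ℕ} [Fact p.Prime] {q : ℕ} [Fact q.Prime] (K X : Subgroup G) (hXK : X ≤ Subgroup.normalizer (K : Set G)) (hX : Cfsg.IsElementaryAbelian q X) (hq : ¬ q ∣ Nat.card K) (hsep : Cfsg.IsPSolvable p ↥K) (hO : Cfsg.pPrimeCore p ↥K = ⊥) (S : Sylow p ↥K) : (Subgroup.normalizer (Cfsg.thompsonSubgroupOf p (S : Subgroup ↥K) : Set ↥K) ⊔ Subgroup.centralizer (Cfsg.omegaOne p ((S : Subgroup ↥K) ⊓ Subgroup.centralizer ((S : Subgroup ↥K) : Set ↥K)) : Set ↥K) ⊔ (Subgroup.centralizer (X : Set G)).subgroupOf K) = ⊤ := by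
  set Z := Subgroup.centralizer (Cfsg.omegaOne p ((S : Subgroup ↥K) ⊓
    Subgroup.centralizer ((S : Subgroup ↥K) : Set ↥K)) : Set ↥K)
  set N := Subgroup.normalizer (Cfsg.thompsonSubgroupOf p (S : Subgroup ↥K) : Set ↥K)
  set T := N ⊔ Z ⊔ (Subgroup.centralizer (X : Set G)).subgroupOf K with hT
  by_cases hnf : Cfsg.IsThompsonFactorizable p K
  · refine eq_top_iff.2 fun g _ => ?_
    obtain ⟨x, hx, c, hc, n, hn, rfl⟩ := hnf S g
    rw [hO, Subgroup.mem_bot] at hx
    subst hx
    rw [one_mul]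
    exact T.mul_mem (Subgroup.mem_sup_left (Subgroup.mem_sup_right hc))
      (Subgroup.mem_sup_left (Subgroup.mem_sup_left hn))
  obtain ⟨ι, hfin, -, F, W, hS, hS', hops, hψ⟩ :=
    CfsgLib.PLocal.exists_operators K X hXK hX hq hsep hO hnf
  set V := CfsgLib.SylowFixed.sylowCenterClosure p K
  set C := Subgroup.centralizer (V : Set K)
  set M := Cfsg.thompsonSubgroup p K ⊔ C
  haveI hMn : M.Normal := by
    haveI : (Cfsg.thompsonSubgroup p K).Normal := by
      rw [CfsgLib.PLocal.thompsonSubgroup_eq, ← Subgroup.normalizer_eq_top_iff, eq_top_iff]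
      exact CfsgLib.PLocal.le_normalizer_thompson p ⊤
    infer_instance
  have hCT : C ≤ T := le_trans (Subgroup.centralizer_le
    (le_iSup (fun S : Sylow p K => Cfsg.omegaOne p ((S : Subgroup K) ⊓
      Subgroup.centralizer ((S : Subgroup K) : Set K))) S)) (le_sup_right.trans le_sup_left)
  have hST : (S : Subgroup K) ≤ T := by
    refine le_trans ?_ (le_sup_left.trans le_sup_left : N ≤ T)
    show _ ≤ Subgroup.normalizer _
    rw [CfsgLib.PLocal.thompsonSubgroupOf_eq]
    exact Subgroup.le_normalizer.trans (CfsgLib.PLocal.normalizer_le_normalizer_thompson p _)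
  have hXT : M.map K.subtype ⊓ Subgroup.centralizer (X : Set G) ≤ T.map K.subtype := by
    rintro _ ⟨⟨m, -, rfl⟩, hm⟩
    exact ⟨m, Subgroup.mem_sup_right hm, rfl⟩
  have hFT : ∀ i, F i ≤ T := by
    intro i
    obtain ⟨ψ, hsur, hker⟩ := hψ i
    rw [← Subgroup.map_le_map_iff_of_injective K.subtype_injective]
    refine CfsgLib.PLocal.factor_le hS' hops
      (U := ((((S : Subgroup K) ⊓ F i).map K.subtype : Subgroup G) : Set G))
      (Subgroup.map_mono inf_le_right) (Subgroup.map_mono (inf_le_left.trans hST))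
      (Subgroup.map_mono hCT) hXT (CfsgLib.PLocal.le_closure_conj (p := p) ?_ ψ hsur hker)
    rw [Subgroup.relIndex_map_map_of_injective _ _ K.subtype_injective]
    exact CfsgLib.PLocal.not_dvd_relIndex_inf_subnormal S (hS.F_le i) (hS.le_normalizer_F i)
  refine eq_top_iff.2 ?_
  rw [← CfsgLib.Techniques.sup_normalizer_inf_eq_top S M]
  refine sup_le (hS.M_le.trans (iSup_le hFT)) (le_trans ?_ (le_sup_left.trans le_sup_left : N ≤ T))
  show _ ≤ Subgroup.normalizer _
  rw [CfsgLib.PLocal.thompsonSubgroupOf_eq, ← CfsgLib.PLocal.thompson_eq_of_le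
    (inf_le_left : (S : Subgroup K) ⊓ M ≤ (S : Subgroup K))
    (le_inf (CfsgLib.PLocal.thompson_le _ _)
      ((CfsgLib.PLocal.thompson_sylow_le S).trans le_sup_left))]
  exact CfsgLib.PLocal.normalizer_le_normalizer_thompson p _

end Cfsg.Agent.S0620
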