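import Cfsg.Statements.S0984
import Cfsg.Agent.Lib.Small.Order2520Gen

set_option autoImplicit false
open Cfsg

namespace Cfsg.Agent.S0984

/-- A simple group of order 2520 is isomorphic to the alternating group of degree 7. -/
theorem result {G : Type*} [Group G] [Finite G] [IsSimpleGroup G] (h : Nat.card G = 2520) : Nonempty (G ≃* alternatingGroup (Fin 7)) := by
  have : Fact (Nat.Prime 3) := ⟨Nat.prime_three⟩
  obtain ⟨H, hH⟩ := (CfsgLib.Small.Order2520.index_seven_or_data h).elim id fun D => D.exists_index_seven'
  exact CfsgLib.Small.nonempty_mulEquiv_alternating (CfsgLib.Small.Order2520.nc h)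
    (by rw [h]; decide) hH

end Cfsg.Agent.S0984
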