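import Cfsg.Statements.S4812
import Cfsg.Agent.Lib.Chars17.SLTwoEven

set_option autoImplicit false
open Cfsg

namespace Cfsg.Agent.S4812

/-- Let F be a finite field of characteristic 2 with q ≥ 4 elements and let S be isomorphic to PSL(2,F) or to SL(2,F). Then the vertices of the character degree graph of S are the primes dividing q(q²−1), and two distinct primes are adjacent exactly when both divide q + 1 or both divide q − 1; so the graph has the three connected components {2}, the primes dividing q + 1 and the primes dividing q − 1, each complete. -/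
theorem result (F : Type*) [Field F] [Fintype F] [CharP F 2] (q : ℕ) (hq : Fintype.card F = q) (h4 : 4 ≤ q) {S : Type*} [Group S] [Finite S] (hS : Nonempty (S ≃* Matrix.ProjectiveSpecialLinearGroup (Fin 2) F) ∨ Nonempty (S ≃* Matrix.SpecialLinearGroup (Fin 2) F)) : Cfsg.degreePrimes S = {r : ℕ | r.Prime ∧ r ∣ q * (q ^ 2 - 1)} ∧ ∀ r s : ℕ, (Cfsg.degreeGraph S).Adj r s ↔ (r ≠ s ∧ r.Prime ∧ s.Prime ∧ ((r ∣ q + 1 ∧ s ∣ q + 1) ∨ (r ∣ q - 1 ∧ s ∣ q - 1))) := by
  classical
  subst hq
  set q := Fintype.card F with hq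
  have hdeg : Cfsg.charDegrees S = {1, q - 1, q, q + 1} := by
    rcases hS with ⟨⟨e⟩⟩ | ⟨⟨e⟩⟩
    · have hc : Subgroup.center (Matrix.SpecialLinearGroup (Fin 2) F) = ⊥ := by
        apply Subgroup.eq_bot_of_card_eq
        rw [Cfsg.Agent.Classical.card_center_sl 2 (by norm_num)]
        obtain ⟨j, -, hj⟩ := FiniteField.card F 2
        rw [hj]
        have h1 : (2 : ℕ) ^ (j : ℕ) = 2 * 2 ^ ((j : ℕ) - 1) := by
          rw [← pow_succ', Nat.sub_add_cancel j.pos]
        have h2 : 0 < 2 ^ ((j : ℕ) - 1) := pow_pos two_pos _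
        refine Nat.coprime_iff_gcd_eq_one.1 ((Nat.Prime.coprime_iff_not_dvd Nat.prime_two).2 ?_)
        omega
      have hb : Function.Bijective
          (QuotientGroup.mk' (Subgroup.center (Matrix.SpecialLinearGroup (Fin 2) F))) :=
        ⟨by rw [← MonoidHom.ker_eq_bot_iff, QuotientGroup.ker_mk', hc],
          QuotientGroup.mk'_surjective _⟩
      rw [CfsgLib.Chars17.SLTwoEven.charDegrees_congr
        (e.trans (MulEquiv.ofBijective _ hb).symm)]
      exact CfsgLib.Chars17.SLTwoEven.degrees h4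
    · rw [CfsgLib.Chars17.SLTwoEven.charDegrees_congr e]
      exact CfsgLib.Chars17.SLTwoEven.degrees h4
  obtain ⟨j, -, hj⟩ := FiniteField.card F 2
  rw [← hq] at hj
  have hsq : q ^ 2 - 1 = (q - 1) * (q + 1) := by
    rw [mul_comm]
    simpa using Nat.sq_sub_sq q 1
  have h2q : ∀ r : ℕ, r.Prime → r ∣ q → r = 2 := fun r hr h =>
    (Nat.prime_dvd_prime_iff_eq hr Nat.prime_two).1 (hr.dvd_of_dvd_pow (hj ▸ h))
  constructor
  · ext r
    simp only [Cfsg.degreePrimes, hdeg, Set.mem_ofPred_eq, Set.mem_insert_iff,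
      Set.mem_singleton_iff, exists_eq_or_imp, exists_eq_left]
    constructor
    · rintro ⟨hr, h | h | h | h⟩
      · exact absurd (Nat.dvd_one.1 h) hr.ne_one
      · exact ⟨hr, hsq ▸ dvd_mul_of_dvd_right (dvd_mul_of_dvd_left h _) _⟩
      · exact ⟨hr, dvd_mul_of_dvd_left h _⟩
      · exact ⟨hr, hsq ▸ dvd_mul_of_dvd_right (dvd_mul_of_dvd_right h _) _⟩
    · rintro ⟨hr, h⟩
      refine ⟨hr, ?_⟩
      rw [hsq] at h
      rcases (Nat.Prime.dvd_mul hr).1 h with h | h
      · exact Or.inr (Or.inr (Or.inl h))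
      · rcases (Nat.Prime.dvd_mul hr).1 h with h | h
        · exact Or.inr (Or.inl h)
        · exact Or.inr (Or.inr (Or.inr h))
  · intro r s
    simp only [Cfsg.degreeGraph, hdeg, Set.mem_insert_iff, Set.mem_singleton_iff,
      exists_eq_or_imp, exists_eq_left]
    constructor
    · rintro ⟨hne, hr, hs, h | h | h | h⟩
      · exact absurd (Nat.dvd_one.1 ((dvd_mul_right r s).trans h)) hr.ne_one
      · exact ⟨hne, hr, hs, Or.inr ⟨(dvd_mul_right r s).trans h, (dvd_mul_left s r).trans h⟩⟩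
      · exact absurd ((h2q r hr ((dvd_mul_right r s).trans h)).trans
          (h2q s hs ((dvd_mul_left s r).trans h)).symm) hne
      · exact ⟨hne, hr, hs, Or.inl ⟨(dvd_mul_right r s).trans h, (dvd_mul_left s r).trans h⟩⟩
    · rintro ⟨hne, hr, hs, ⟨h1, h2⟩ | ⟨h1, h2⟩⟩
      · exact ⟨hne, hr, hs, Or.inr (Or.inr (Or.inr
          (((Nat.coprime_primes hr hs).2 hne).mul_dvd_of_dvd_of_dvd h1 h2)))⟩
      · exact ⟨hne, hr, hs, Or.inr (Or.inl
          (((Nat.coprime_primes hr hs).2 hne).mul_dvd_of_dvd_of_dvd h1 h2))⟩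

end Cfsg.Agent.S4812
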