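import Cfsg.Statements.S0730
import Cfsg.Agent.Lib.PermSmall.NoReal
import Cfsg.Agent.Lib.PermSmall.Recognition

set_option autoImplicit false
open Cfsg

namespace Cfsg.Agent.S0730

/-- A sharply triply transitive group of degree `p^f + 1`, `p` an odd prime and `f` odd, is isomorphic to the projective general linear group of degree 2 over the field with `p^f` elements (for even `f` there is a second, twisted, group). -/
theorem result {α : Type*} [Fintype α] [DecidableEq α] {p f : ℕ} (hp : p.Prime) (hp2 : p ≠ 2) (hfo : Odd f) (hα : Fintype.card α = p ^ f + 1) (G : Subgroup (Equiv.Perm α)) (h3 : MulAction.IsMultiplyPretransitive G α 3) (hsharp : ∀ x : Fin 3 ↪ α, MulAction.stabilizer G x = ⊥) : ∃ (F : Type) (_ : Field F) (_ : Fintype F), Fintype.card F = p ^ f ∧ Nonempty (G ≃* Matrix.ProjGenLinGroup (Fin 2) F) := by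
  classical
  have hf0 : f ≠ 0 := fun e => Nat.not_odd_iff_even.mpr ⟨0, by omega⟩ hfo
  have h3p : 3 ≤ p ^ f :=
    le_trans (lt_of_le_of_ne hp.two_le (Ne.symm hp2)) (Nat.le_self_pow hf0 p)
  have heven : Even (Fintype.card α) := by
    rw [hα]
    exact Odd.add_one ((hp.odd_of_ne_two hp2).pow)
  obtain ⟨a, b, hab⟩ := Fintype.exists_pair_of_one_lt_card (α := α) (by omega)
  obtain ⟨c, hca, hcb⟩ : ∃ c, c ≠ a ∧ c ≠ b := by
    by_contra hall
    simp only [not_exists, not_and, not_not] at hall
    have : (Finset.univ : Finset α) ⊆ {a, b} := fun x _ => by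
      by_cases hx : x = a
      · simp [hx]
      · simp [hall x hx]
    have := Finset.card_le_card this
    rw [Finset.card_univ, Finset.card_pair hab] at this
    omega
  obtain ⟨S⟩ := CfsgLib.PermSmall.SharpThree.exists_setup (G := G) h3
    (CfsgLib.PermSmall.Kernel.three_of_stabilizer_embedding hsharp) heven (by omega) hab
  obtain ⟨s, hsa, hsb, hsc⟩ := S.swap c hca hcb
  set H := CfsgLib.PermSmall.Zassenhaus.pairStab G a b with hH
  have hs1 : s ≠ 1 := fun e => hab (by rw [← hsa, e, one_smul])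
  have hss := S.sq_eq_one hca hcb hsa hsb hsc
  let σ : H →* H :=
    { toFun := fun h => ⟨s * h * s⁻¹, S.conj_mem hsa hsb h.2⟩
      map_one' := Subtype.ext (by simp)
      map_mul' := fun h k => Subtype.ext (by simp) }
  have hσ : Function.Involutive σ := fun h => Subtype.ext (by
    show s * (s * (h : G) * s⁻¹) * s⁻¹ = h
    rw [show s * (s * (h : G) * s⁻¹) * s⁻¹ = (s * s) * h * (s * s)⁻¹ by group, hss]
    simp)
  have hzc : S.z • c ≠ c := fun e => (S.z_fix e).elim hca hcb
  have hfix : ∀ h : H, σ h = h → h = 1 ∨ h = ⟨S.z, S.z_mem⟩ := by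
    intro h hh
    have e : s * (h : G) = h * s := mul_inv_eq_iff_eq_mul.mp (congrArg Subtype.val hh)
    have h1 : s • (h : G) • c = (h : G) • c := by rw [← mul_smul, e, mul_smul, hsc]
    have h2 : s • S.z • c = S.z • c := by rw [← mul_smul, S.commute_z hsa hsb, mul_smul, hsc]
    by_cases e1 : (h : G) • c = c
    · left
      exact Subtype.ext (S.three _ a b c hab (Ne.symm hcb) (Ne.symm hca) h.2.1 h.2.2 e1)
    by_cases e2 : (h : G) • c = S.z • c
    · right
      refine Subtype.ext (inv_mul_eq_one.mp (S.three (S.z⁻¹ * h) a b c hab (Ne.symm hcb) (Ne.symm hca)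
        (mul_mem (inv_mem S.z_mem) h.2).1 (mul_mem (inv_mem S.z_mem) h.2).2 ?_)).symm
      rw [mul_smul, e2, inv_smul_smul]
    exact absurd (S.three s c (S.z • c) ((h : G) • c) (Ne.symm hzc) (Ne.symm e2) (Ne.symm e1)
      hsc h2 h1) hs1
  haveI hHc : IsMulCommutative H := by
    refine CfsgLib.PermSmall.NoReal.isMulCommutative_of_no_real σ hσ ⟨S.z, S.z_mem⟩
      (fun e => S.z_ne (congrArg Subtype.val e)) (Subtype.ext S.z_sq) hfix ?_ ?_
    · intro w hw
      by_cases h1 : w = 1
      · exact Or.inl h1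
      · exact Or.inr (Subtype.ext (S.z_unique w w.2 (congrArg Subtype.val hw)
          fun e => h1 (Subtype.ext e)))
    · intro x y hxy
      exact Subtype.ext (CfsgLib.PermSmall.NoReal.no_real S hp hp2 hfo hα x.2 y.2
        (congrArg Subtype.val hxy))
  have hinv : ∀ h ∈ H, s * (h * h) * s⁻¹ = (h * h)⁻¹ := by
    intro h hh
    set k : H := ⟨h, hh⟩ with hk
    have hfixk : σ (k * σ k) = k * σ k := by
      rw [map_mul, hσ k]
      exact hHc.is_comm.comm _ _
    have hsq : (k * σ k) * (k * σ k) = 1 := by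
      rcases hfix _ hfixk with e | e <;> rw [e]
      · exact one_mul 1
      · exact Subtype.ext S.z_sq
    have e : σ (k * k) = (k * k)⁻¹ := by
      refine eq_inv_of_mul_eq_one_right ?_
      rw [map_mul, (show Commute k (σ k) from hHc.is_comm.comm _ _).mul_mul_mul_comm]
      exact hsq
    exact congrArg Subtype.val e
  obtain ⟨K, fK, fiK, hcard, hiso⟩ := CfsgLib.PermSmall.Recognition.pgl_of_inverted_squares hab
    (Ne.symm hca) (Ne.symm hcb)
    (fun g => S.three g a b c hab (Ne.symm hcb) (Ne.symm hca)) S.F S.F_le S.F_normal S.F_comm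
    S.regular hHc
    (CfsgLib.PermSmall.Kernel.irreducible_of_transitive hab S.F_le
      (fun g hg u hu => S.norm hg hu) S.regular S.trans) S.card s hsa hsb hsc hinv
  exact ⟨K, fK, fiK, by omega, hiso⟩

end Cfsg.Agent.S0730
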