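import Cfsg.Statements.S0732
import Cfsg.Agent.Lib.PermSmall.AffineField
import Cfsg.Agent.S0730

set_option autoImplicit false
open Cfsg

namespace Cfsg.Agent.S0732

/-- A transitive permutation group on `p + 1` points (`p` prime) of order `(p+1) p d` with `d < p` is isomorphic to `PGL(2,p)` with `d = p - 1`, or to `PSL(2,p)` with `2d = p - 1`, or else `p + 1 = 2^q` for a prime `q`, `d = 1` or `d = q`, and the group is permutation-isomorphic to a group of semi-affine maps `x ↦ a φ(x) + b` of the field with `2^q` elements. -/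
theorem result {α : Type*} [Fintype α] [DecidableEq α] {p d : ℕ} (hp : p.Prime) (hα : Fintype.card α = p + 1) (G : Subgroup (Equiv.Perm α)) [MulAction.IsPretransitive G α] (hG : Nat.card G = (p + 1) * p * d) (hd : d < p) : (d = p - 1 ∧ Nonempty (G ≃* Matrix.ProjGenLinGroup (Fin 2) (ZMod p))) ∨ (2 * d = p - 1 ∧ Nonempty (G ≃* Matrix.ProjectiveSpecialLinearGroup (Fin 2) (ZMod p))) ∨ (∃ q : ℕ, q.Prime ∧ p + 1 = 2 ^ q ∧ (d = 1 ∨ d = q) ∧ ∃ e : α ≃ GaloisField 2 q, ∀ g : G, (e.symm.trans (((g : Equiv.Perm α)).trans e)) ∈ Cfsg.semiaffineGroup (GaloisField 2 q)) := by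
  classical
  haveI := Fact.mk hp
  obtain ⟨a, b, ⟨S⟩⟩ := CfsgLib.PermSmall.PrimeDegree.exists_setup (G := G) hp hα hG hd
  have hd0 : 0 < d := by
    rcases Nat.eq_zero_or_pos d with rfl | h
    · rw [mul_zero] at hG; exact absurd hG Nat.card_pos.ne'
    · exact h
  by_cases hp2 : p = 2
  · subst hp2
    obtain rfl : d = 1 := by omega
    exact Or.inl ⟨rfl, CfsgLib.PermSmall.PrimeDegree.pgl_two hα hG⟩
  have hsemi : ∀ (q : ℕ) (e : α ≃ GaloisField 2 q), (∀ g : G, e.symm.trans ((MulAction.toPerm g).trans e)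
      ∈ Cfsg.semiaffineGroup (GaloisField 2 q)) →
      ∀ g : G, (e.symm.trans (((g : Equiv.Perm α)).trans e)) ∈ Cfsg.semiaffineGroup (GaloisField 2 q) := by
    intro q e h g
    have : MulAction.toPerm g = (g : Equiv.Perm α) := Equiv.ext fun x => rfl
    rw [← this]
    exact h g
  by_cases hR : ∃ R : Subgroup G, R.Normal ∧ MulAction.IsPretransitive R α ∧
      ∀ x : α, MulAction.stabilizer R x = ⊥
  · obtain ⟨R, hRn, hRt, hRreg⟩ := hR
    haveI := hRn
    haveI := hRt
    obtain ⟨q, hq, hpq, hdq, e, he⟩ :=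
      CfsgLib.PermSmall.AffineField.affine_case S hp hp2 hα R hRreg
    exact Or.inr (Or.inr ⟨q, hq, hpq, hdq, e, hsemi q e he⟩)
  have hd1 : 1 < d := by
    by_contra hcon
    obtain rfl : d = 1 := by omega
    apply hR
    obtain ⟨K, hKn, -, -, hKt, hKreg, -⟩ := CfsgLib.PermGroup.sharpTwo_kernel (G := G) (α := α) S.two
      (fun g x y hxy hx hy => by
        obtain ⟨m, hma, hmb⟩ := MulAction.is_two_pretransitive_iff.mp S.two hxy S.ne
        have hmem : m * g * m⁻¹ ∈ CfsgLib.PermSmall.Zassenhaus.pairStab G a b :=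
          CfsgLib.PermSmall.Zassenhaus.mem_pairStab.mpr
            ⟨by rw [mul_smul, mul_smul, inv_smul_eq_iff.mpr hma.symm, hx, hma],
             by rw [mul_smul, mul_smul, inv_smul_eq_iff.mpr hmb.symm, hy, hmb]⟩
        rw [Subgroup.card_eq_one.mp S.card_pair, Subgroup.mem_bot] at hmem
        exact conj_eq_one_iff.mp hmem)
      (by rw [Nat.card_eq_fintype_card]; have := hp.two_le; omega)
    exact ⟨K, hKn, hKt, hKreg⟩
  haveI hnt : Nontrivial (CfsgLib.PermSmall.Zassenhaus.pairStab G a b) :=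
    Finite.one_lt_card_iff_nontrivial.mp (S.card_pair.symm ▸ hd1)
  have hZ : Cfsg.IsZassenhausGroup G α := by
    refine ⟨inferInstance, S.two, S.three, ?_, fun N hNn hNt => ?_⟩
    · obtain ⟨g, hg⟩ := exists_ne (1 : CfsgLib.PermSmall.Zassenhaus.pairStab G a b)
      exact ⟨g, fun e => hg (Subtype.ext e), a, b, S.ne, g.2.1, g.2.2⟩
    · by_contra hall
      simp only [not_exists, ne_eq, not_not] at hall
      exact hR ⟨N, hNn, hNt, hall⟩
  have hFn : (S.F.subgroupOf (MulAction.stabilizer G a)).Normal :=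
    ⟨fun u hu g => S.F_norm g g.2 _ hu⟩
  have hFc : IsMulCommutative S.F := by
    haveI : IsCyclic S.F := isCyclic_of_prime_card S.F_card
    exact IsCyclic.commutative
  have key := CfsgLib.PermSmall.OddRecognition.card_and_recognition hZ S.ne S.F S.F_le hFn hFc S.regular
  rw [S.card_pair, hα, show p + 1 - 2 = p - 1 by omega] at key
  rcases key with hdp | ⟨hdp, K, iF, iT, -, hK, ⟨ψ⟩⟩
  · left
    obtain ⟨h3, hsharp⟩ := CfsgLib.PermSmall.PrimeDegree.sharply_of_card S hα hp hp2 hdp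
    obtain ⟨K, iF, iT, hK, ⟨ψ⟩⟩ := Cfsg.Agent.S0730.result (f := 1) hp hp2 odd_one
      (by rw [pow_one]; exact hα) G h3 hsharp
    rw [pow_one] at hK
    let ρ : ZMod p ≃+* K := ZMod.ringEquivOfPrime K hp hK
    refine ⟨hdp, ⟨ψ.trans (MonoidHom.toMulEquiv (Matrix.ProjGenLinGroup.map ρ.symm.toRingHom)
      (Matrix.ProjGenLinGroup.map ρ.toRingHom) ?_ ?_)⟩⟩
    · rw [← Matrix.ProjGenLinGroup.map_comp, show ρ.toRingHom.comp ρ.symm.toRingHom = RingHom.id K from
        RingHom.ext ρ.apply_symm_apply, Matrix.ProjGenLinGroup.map_id]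
    · rw [← Matrix.ProjGenLinGroup.map_comp, show ρ.symm.toRingHom.comp ρ.toRingHom = RingHom.id (ZMod p) from
        RingHom.ext ρ.symm_apply_apply, Matrix.ProjGenLinGroup.map_id]
  · right; left
    have hK' : Fintype.card K = p := by omega
    exact ⟨hdp, ⟨ψ.trans (CfsgLib.ClassicalGroups.pslFieldCongr (ZMod.ringEquivOfPrime K hp hK').symm)⟩⟩

end Cfsg.Agent.S0732
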