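import Cfsg.Statements.S4481
import Cfsg.Agent.Lib.Blocks12.DihedralBlock

set_option autoImplicit false
open Cfsg

namespace Cfsg.Agent.S4481

/-- The principal 2-block of a group with dihedral Sylow 2-subgroups. Let G be a finite group whose Sylow 2-subgroup P is dihedral of order 2^n ≥ 8, let σ be an element of P of order 2^(n−1), ζ a primitive 2^(n−1)-th root of unity, and M a maximal ideal of the algebraic integers containing 2. Then the principal 2-block consists of exactly 3 + 2^(n−2) irreducible characters, which can be labelled 1, χ₁, χ₂, χ₃ and χ^(j) for 1 ≤ j ≤ 2^(n−2) − 1 (all distinct), with signs δ₁, δ₂, δ₃ such that for 0 < λ < 2^(n−1): χ₁(σ^λ) = δ₁, χ₂(σ^λ) = δ₂(−1)^(λ+1), χ₃(σ^λ) = δ₃(−1)^(λ+1) and χ^(j)(σ^λ) = δ₁(ζ^(jλ) + ζ^(−jλ)); and for every element ρ of odd order and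 every j: 1 + δ₁χ₁(ρ) = −δ₂χ₂(ρ) − δ₃χ₃(ρ) = δ₁χ^(j)(ρ). -/
theorem result {G : Type*} [Group G] [Finite G] (M : Ideal Cfsg.AlgInt) (hM : Cfsg.IsPModular 2 M) (n : ℕ) (hn : 3 ≤ n) (P : Sylow 2 G) (hP : Nonempty ((P : Subgroup G) ≃* DihedralGroup (2 ^ (n - 1)))) (σ : G) (hσ : σ ∈ (P : Subgroup G)) (hσo : orderOf σ = 2 ^ (n - 1)) (ζ : ℂ) (hζ : IsPrimitiveRoot ζ (2 ^ (n - 1))) : Nat.card (Cfsg.principalBlock M G) = 3 + 2 ^ (n - 2) ∧ ∃ (χ₁ χ₂ χ₃ : Cfsg.IrrCharacter G) (χ' : Fin (2 ^ (n - 2) - 1) → Cfsg.IrrCharacter G) (δ₁ δ₂ δ₃ : ℤ), (δ₁ = 1 ∨ δ₁ = -1) ∧ (δ₂ = 1 ∨ δ₂ = -1) ∧ (δ₃ = 1 ∨ δ₃ = -1) ∧ Function.Injective χ' ∧ (χ₁ : G → ℂ) ≠ (fun _ => 1) ∧ (χ₂ : G → ℂ) ≠ (fun _ => 1) ∧ (χ₃ : G → ℂ) ≠ (fun _ => 1) ∧ χ₁ ≠ χ₂ ∧ χ₁ ≠ χ₃ ∧ χ₂ ≠ χ₃ ∧ (∀ j, χ' j ≠ χ₁ ∧ χ' j ≠ χ₂ ∧ χ' j ≠ χ₃ ∧ (χ' j : G → ℂ)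 ≠ (fun _ => 1)) ∧ Cfsg.principalBlock M G = {χ : Cfsg.IrrCharacter G | (χ : G → ℂ) = (fun _ => 1) ∨ χ = χ₁ ∨ χ = χ₂ ∨ χ = χ₃ ∨ ∃ j, χ = χ' j} ∧ (∀ l : ℕ, 0 < l → l < 2 ^ (n - 1) → (χ₁ : G → ℂ) (σ ^ l) = δ₁ ∧ (χ₂ : G → ℂ) (σ ^ l) = δ₂ * (-1) ^ (l + 1) ∧ (χ₃ : G → ℂ) (σ ^ l) = δ₃ * (-1) ^ (l + 1) ∧ ∀ j : Fin (2 ^ (n - 2) - 1), (χ' j : G → ℂ) (σ ^ l) = δ₁ * (ζ ^ (((j : ℕ) + 1) * l) + (ζ ^ (((j : ℕ) + 1) * l))⁻¹)) ∧ ∀ ρ : G, Odd (orderOf ρ) → ∀ j : Fin (2 ^ (n - 2) - 1), 1 + δ₁ * (χ₁ : G → ℂ) ρ = -δ₂ * (χ₂ : G → ℂ) ρ - δ₃ * (χ₃ : G → ℂ) ρ ∧ 1 + δ₁ * (χ₁ : G → ℂ) ρ = δ₁ * (χ' j : G → ℂ) ρ := by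
  classical
  letI := Fintype.ofFinite G
  obtain ⟨c, a, b, L, δ₁, δ₂, δ₃, D⟩ := CfsgLib.DihedralBlock.exists_labels hM hn
    (CfsgLib.DihedralSigma.sigmaFacts P n hn hP hσ hσo) hζ
  have hne : ∀ {χ : Cfsg.IrrCharacter G}, χ ≠ CfsgLib.Characters.principalIrr G →
      (χ : G → ℂ) ≠ (fun _ => 1) := fun h e => h (Subtype.ext e)
  refine ⟨D.card, c, a, b, fun j => L ((j : ℕ) + 1), δ₁, δ₂, δ₃, D.sign₁, D.sign₂, D.sign₃,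
    fun i j e => ?_, hne D.ne_c, hne D.ne_a, hne D.ne_b, D.ne_ca, D.ne_cb, D.ne_ab, fun j => ?_,
    ?_, fun l h0 hl => ⟨D.val_c l h0 hl, D.val_a l h0 hl, D.val_b l h0 hl,
      fun j => D.val_L _ (by omega) (by omega) l h0 hl⟩,
    fun ρ hρ j => ⟨D.reg_ab ρ hρ, D.reg_L _ (by omega) (by omega) ρ hρ⟩⟩
  · exact Fin.ext (Nat.succ_injective (D.inj _ _ (by omega) (by omega) (by omega) (by omega) e))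
  · obtain ⟨h1, h2, h3, h4⟩ := D.ne_L ((j : ℕ) + 1) (by omega) (by omega)
    exact ⟨h2, h3, h4, hne h1⟩
  · ext χ
    rw [D.mem, Set.mem_ofPred_eq]
    constructor
    · rintro (e | e | e | e | ⟨k, h1, h2, rfl⟩)
      · exact Or.inl (by rw [e]; rfl)
      · exact Or.inr (Or.inl e)
      · exact Or.inr (Or.inr (Or.inl e))
      · exact Or.inr (Or.inr (Or.inr (Or.inl e)))
      · exact Or.inr (Or.inr (Or.inr (Or.inr ⟨⟨k - 1, by omega⟩, by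
          show L k = L (k - 1 + 1)
          rw [Nat.sub_add_cancel h1]⟩)))
    · rintro (e | e | e | e | ⟨j, rfl⟩)
      · exact Or.inl (Subtype.ext e)
      · exact Or.inr (Or.inl e)
      · exact Or.inr (Or.inr (Or.inl e))
      · exact Or.inr (Or.inr (Or.inr (Or.inl e)))
      · exact Or.inr (Or.inr (Or.inr (Or.inr ⟨(j : ℕ) + 1, by omega, by omega, rfl⟩)))

end Cfsg.Agent.S4481
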