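import Cfsg.Statements.S0544
import Cfsg.Agent.Lib.Solvable.Fitting
-- import your own Cfsg.Agent.* helpers here

set_option autoImplicit false
open Cfsg

namespace Cfsg.Agent.S0544

/-- In a finite solvable group the intersection of the normalizers of the members of a Hall complement system is a nilpotent subgroup. -/
theorem result {G : Type*} [Group G] [Finite G] [Group.IsSolvable G] (K : Nat.Primes → Subgroup G) (hK : Cfsg.IsComplementSystem K) : Group.IsNilpotent (Cfsg.systemNormalizer K) := by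
  set N := Cfsg.systemNormalizer K with hN
  have hle : ∀ p : Nat.Primes, ∀ x : G, x ∈ N → ∀ q : ℕ, q.Prime → q ≠ (p : ℕ) →
      (∃ j, orderOf x = q ^ j) → x ∈ K p := by
    rintro p x hx q hq hqp ⟨j, hj⟩
    have hxn : x ∈ Subgroup.normalizer (K p : Set G) := iInf_le (fun p : Nat.Primes =>
      Subgroup.normalizer (K p : Set G)) p hx
    set W := Subgroup.normalizer (K p : Set G) with hW
    have hkw : ((K p).subgroupOf W).Normal := Subgroup.normal_in_normalizer
    have h1 : orderOf (QuotientGroup.mk' ((K p).subgroupOf W) ⟨x, hxn⟩) ∣ q ^ j := by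
      rw [← hj]
      refine (orderOf_map_dvd _ _).trans ?_
      rw [← Subgroup.orderOf_coe]
    have h2 : orderOf (QuotientGroup.mk' ((K p).subgroupOf W) ⟨x, hxn⟩) ∣
        (p : ℕ) ^ (Nat.card G).factorization (p : ℕ) := by
      rw [← hK p, ← Subgroup.relIndex_mul_index (Subgroup.le_normalizer (H := K p))]
      exact (orderOf_dvd_natCard _).trans (Dvd.intro _ rfl)
    have h3 := Nat.eq_one_of_dvd_coprimes (Nat.coprime_pow_primes _ _ hq p.2 hqp) h1 h2
    rw [orderOf_eq_one_iff] at h3
    exact (QuotientGroup.eq_one_iff (⟨x, hxn⟩ : W)).1 h3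
  refine ((Group.isNilpotent_of_finite_tfae (G := N)).out 0 3).2 ?_
  intro q hq P
  let Q : Subgroup G := ⨅ p : {p : Nat.Primes // (p : ℕ) ≠ q}, K p.1
  have hQp : IsPGroup q Q := by
    obtain ⟨n, hn⟩ : ∃ n, Nat.card Q = q ^ n := by
      refine ⟨_, Nat.eq_prime_pow_of_unique_prime_dvd Nat.card_pos.ne' fun {r} hr hrd => ?_⟩
      by_contra hne
      have hQK : Q ≤ K ⟨r, hr⟩ :=
        iInf_le (fun p : {p : Nat.Primes // (p : ℕ) ≠ q} => K p.1) ⟨⟨r, hr⟩, hne⟩
      have h1 : r * r ^ (Nat.card G).factorization r ∣ Nat.card G := by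
        have h2 := (K ⟨r, hr⟩).card_mul_index
        rw [hK ⟨r, hr⟩] at h2
        exact (Nat.mul_dvd_mul_right (hrd.trans (Subgroup.card_dvd_of_le hQK)) _).trans h2.dvd
      rw [← pow_succ'] at h1
      exact Nat.pow_succ_factorization_not_dvd Nat.card_pos.ne' hr h1
    exact IsPGroup.of_card hn
  have hNQ : N ≤ Subgroup.normalizer (Q : Set G) := by
    intro x hx
    rw [Subgroup.mem_normalizer_iff]
    intro y
    simp only [Q, Subgroup.mem_iInf]
    exact forall_congr' fun p => Subgroup.mem_normalizer_iff.1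
      (iInf_le (fun p : Nat.Primes => Subgroup.normalizer (K p : Set G)) p.1 hx) y
  have hn : (Q.subgroupOf N).Normal :=
    ⟨fun y hy x => (Subgroup.mem_normalizer_iff.1 (hNQ x.2) y).1 hy⟩
  have hPQ : (P : Subgroup N) = Q.subgroupOf N := by
    refine (P.is_maximal' hQp.comap_subtype fun x hx => ?_).symm
    obtain ⟨j, hj⟩ := IsPGroup.iff_orderOf.1 P.isPGroup' ⟨x, hx⟩
    rw [← Subgroup.orderOf_coe, ← Subgroup.orderOf_coe] at hj
    refine Subgroup.mem_iInf.2 fun p => ?_
    exact hle p.1 _ x.2 q hq.out (Ne.symm p.2) ⟨j, hj⟩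
  rw [hPQ]
  exact hn

end Cfsg.Agent.S0544
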