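import Cfsg.Statements.S0558
import Cfsg.Agent.Lib.Transfer.Hall
import Cfsg.Agent.Lib.Solvable.NilpotentSubgroups

set_option autoImplicit false
open Cfsg

namespace Cfsg.Agent.S0558
open Subgroup in
open scoped Pointwise in
theorem normal_complement {G : Type*} [Group G] [Finite G] (H : Subgroup G)
    (hnot : ∀ p : ℕ, p.Prime → ∀ P : Sylow p G, (P : Subgroup G) ≠ H)
    (hnorm : ∀ p : ℕ, p.Prime → p ∣ Nat.card H → ∀ P : Sylow p H,
      normalizer (((P : Subgroup H).map H.subtype : Subgroup G) : Set G) = H) :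
    ∃ N : Subgroup G, N.Normal ∧ N.IsComplement' H := by
  -- Sylow subgroups of `H` are Sylow in `G` and normal in `H`
  have hsyl : ∀ p : ℕ, p.Prime → p ∣ Nat.card H → ∀ P : Sylow p H,
      ¬ p ∣ ((P : Subgroup H).map H.subtype).index := by
    intro p hp hpd P hd
    haveI := Fact.mk hp
    set P' := (P : Subgroup H).map H.subtype with hP'
    obtain ⟨R, hR⟩ := (P.isPGroup'.map H.subtype).exists_le_sylow
    rcases eq_or_lt_of_le hR with e | hlt
    · exact R.not_dvd_index (e ▸ hd)
    have hc : Group.IsNilpotent (R : Subgroup G) := R.isPGroup'.isNilpotent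
    have h1 : (P'.subgroupOf R) < normalizer ((P'.subgroupOf R : Subgroup R) : Set R) :=
      normalizerCondition_of_isNilpotent (G := (R : Subgroup G)) _
        (lt_top_iff_ne_top.2 fun e => hlt.not_ge (subgroupOf_eq_top.1 e))
    obtain ⟨x, hx, hxn⟩ := SetLike.exists_of_lt h1
    have hx' : (x : G) ∈ normalizer (P' : Set G) := by
      have := le_normalizer_map (R : Subgroup G).subtype ⟨x, hx, rfl⟩
      rwa [subgroupOf_map_subtype, inf_of_le_left hR] at this
    rw [hnorm p hp hpd P] at hx'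
    have hxP : (⟨(x : G), hx'⟩ : H) ∈ (P : Subgroup H) := by
      have hsub : IsPGroup p ((R : Subgroup G).subgroupOf H) := R.isPGroup'.comap_subtype
      have hle : (P : Subgroup H) ≤ (R : Subgroup G).subgroupOf H := fun y hy => hR ⟨y, hy, rfl⟩
      rw [← P.is_maximal' hsub hle]
      exact x.2
    exact hxn ⟨_, hxP, rfl⟩
  have hnormal : ∀ p : ℕ, p.Prime → p ∣ Nat.card H → ∀ P : Sylow p H,
      (P : Subgroup H).Normal := by
    intro p hp hpd P
    refine ⟨fun y hy h => ?_⟩
    have h1 : (h : G) ∈ normalizer (((P : Subgroup H).map H.subtype : Subgroup G) : Set G) := by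
      rw [hnorm p hp hpd P]; exact h.2
    obtain ⟨z, hz, e⟩ := (mem_normalizer_iff.1 h1 y).1 ⟨y, hy, rfl⟩
    have : z = h * y * h⁻¹ := Subtype.ext e
    exact this ▸ hz
  haveI hHnil : Group.IsNilpotent H := by
    refine ((Group.isNilpotent_of_finite_tfae (G := H)).out 0 3).2 fun p hp P => ?_
    haveI : Fact p.Prime := hp
    by_cases hpd : p ∣ Nat.card H
    · exact hnormal p hp.out hpd P
    · have : (P : Subgroup H) = ⊥ := by
        rw [← card_eq_one, P.card_eq_multiplicity, Nat.factorization_eq_zero_of_not_dvd hpd,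
          pow_zero]
      rw [this]; infer_instance
  have hHall : (Nat.card H).Coprime H.index := by
    refine Nat.coprime_of_dvd fun p hp hpd hpi => ?_
    haveI := Fact.mk hp
    refine hsyl p hp hpd default (hpi.trans (index_dvd_of_le ?_))
    exact map_subtype_le _
  refine CfsgLib.Transfer.exists_normal_complement_of_forall H hHall fun p hp hpd => ?_
  haveI := Fact.mk hp
  obtain ⟨P⟩ : Nonempty (Sylow p H) := inferInstance
  -- a second prime
  obtain ⟨q, hq, hqd, hqp⟩ : ∃ q, q.Prime ∧ q ∣ Nat.card H ∧ q ≠ p := by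
    by_contra hno
    push Not at hno
    have hpow := Nat.eq_prime_pow_of_unique_prime_dvd Nat.card_pos.ne'
      (fun {d} hd hdd => hno d hd hdd) (n := Nat.card H) (p := p)
    have hHp : IsPGroup p H := IsPGroup.of_card hpow
    have hi : ¬ p ∣ H.index := (hp.coprime_iff_not_dvd).1 (hHall.coprime_dvd_left hpd)
    exact hnot p hp (hHp.toSylow hi) rfl
  haveI := Fact.mk hq
  obtain ⟨Q⟩ : Nonempty (Sylow q H) := inferInstance
  set Q' := (Q : Subgroup H).map H.subtype with hQ'
  refine CfsgLib.Transfer.hasNormalPComplement_of_frobeniusCond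
    (CfsgLib.Transfer.frobeniusCond_of_controls
      ((P.isPGroup'.map H.subtype).toSylow (hsyl p hp hpd P)) ?_)
  intro x hxP g hy
  obtain ⟨x, hx, rfl⟩ := hxP
  obtain ⟨y, hy, e⟩ := hy
  replace e : (y : G) = g * x * g⁻¹ := e
  -- `Q'` centralizes `x` and `y`
  have hQc : ∀ z ∈ (P : Subgroup H), Q' ≤ centralizer ({(z : G)} : Set G) := by
    rintro z hz _ ⟨w, hw, rfl⟩
    refine mem_centralizer_iff.2 fun t ht => ?_
    rw [Set.mem_singleton_iff] at ht
    subst ht
    obtain ⟨i, hi⟩ := IsPGroup.iff_orderOf.1 P.isPGroup' ⟨z, hz⟩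
    obtain ⟨j, hj⟩ := IsPGroup.iff_orderOf.1 Q.isPGroup' ⟨w, hw⟩
    rw [orderOf_mk] at hi hj
    refine congrArg Subtype.val (CfsgLib.NilpotentSubgroups.commute_of_orderOf_coprime
      (x := z) (y := w) ?_).eq
    rw [hi, hj]
    exact ((Nat.coprime_primes hp hq).2 (Ne.symm hqp)).pow _ _
  set C := centralizer ({(y : G)} : Set G) with hC
  let QG : Sylow q G := (Q.isPGroup'.map H.subtype).toSylow (hsyl q hq hqd Q)
  have h1 : (QG : Subgroup G) ≤ C := hQc y hy
  have h2 : ((g • QG : Sylow q G) : Subgroup G) ≤ C := by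
    rintro _ ⟨w, hw, rfl⟩
    refine mem_centralizer_iff.2 fun t ht => ?_
    rw [Set.mem_singleton_iff] at ht
    subst ht
    have h3 : (x : G) * w = w * x := mem_centralizer_iff.1 (hQc x hx hw) _ rfl
    show (y : G) * (g * w * g⁻¹) = g * w * g⁻¹ * y
    rw [e]
    calc g * x * g⁻¹ * (g * w * g⁻¹) = g * ((x : G) * w) * g⁻¹ := by group
      _ = _ := by rw [h3]; group
  obtain ⟨c, hc⟩ := MulAction.exists_smul_eq C ((g • QG).subtype h2) (QG.subtype h1)
  rw [Sylow.smul_subtype] at hc
  have hc' : ((c : G) * g) • QG = QG := by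
    rw [mul_smul]
    exact Sylow.subtype_injective hc
  have hh : (c : G) * g ∈ H := by
    rw [← hnorm q hq hqd Q]
    exact Sylow.smul_eq_iff_mem_normalizer.1 hc'
  have hconj : ((c : G) * g) * x * ((c : G) * g)⁻¹ = y := by
    have hcy : (y : G) * c = c * y := mem_centralizer_iff.1 c.2 _ rfl
    calc ((c : G) * g) * x * ((c : G) * g)⁻¹ = c * (g * x * g⁻¹) * (c : G)⁻¹ := by group
      _ = c * y * (c : G)⁻¹ := by rw [e]
      _ = y := by rw [← hcy, mul_inv_cancel_right]
  have h4 : (⟨_, hh⟩ : H) ∈ (P : Subgroup H) ⊔ centralizer ((P : Subgroup H) : Set H) := by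
    rw [CfsgLib.Transfer.sylow_sup_centralizer_eq_top_of_isNilpotent P]; trivial
  haveI := hnormal p hp hpd P
  obtain ⟨u, hu, d, hd, e'⟩ := mem_sup_of_normal_left.1 h4
  refine ⟨u, ⟨u, hu, rfl⟩, ?_⟩
  have hdx : (x : G) * d = d * x := congrArg Subtype.val (mem_centralizer_iff.1 hd x hx)
  have e3 : (c : G) * g = (u : G) * d := (congrArg Subtype.val e').symm
  show (u : G) * x * (u : G)⁻¹ = g * x * g⁻¹
  rw [← e, ← hconj, e3]
  calc (u : G) * x * (u : G)⁻¹ = u * (x * d) * (d : G)⁻¹ * (u : G)⁻¹ := by group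
    _ = u * d * x * ((u : G) * d)⁻¹ := by rw [hdx]; group


/-- Let H be a subgroup of a finite group G that is not a Sylow subgroup of G for any prime, and suppose that for every prime p dividing the order of H and every Sylow p-subgroup P of H the normalizer of P in G is exactly H. Then some normal subgroup of G is a complement to H. -/
theorem result {G : Type*} [Group G] [Finite G] (H : Subgroup G) (hnot : ∀ p : ℕ, p.Prime → ∀ P : Sylow p G, (P : Subgroup G) ≠ H) (hnorm : ∀ p : ℕ, p.Prime → p ∣ Nat.card H → ∀ P : Sylow p H, Subgroup.normalizer (((P : Subgroup H).map H.subtype : Subgroup G) : Set G) = H) : ∃ N : Subgroup G, N.Normal ∧ Subgroup.IsComplement' N H := by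
  exact normal_complement H hnot hnorm

end Cfsg.Agent.S0558
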