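import Cfsg.Statements.S0561
import Cfsg.Agent.Lib.Hall.Pi
import Cfsg.Agent.Lib.Solvable.Factorization

set_option autoImplicit false
open Pointwise
open Cfsg

namespace Cfsg.Agent.S0561
open Subgroup in
open scoped Pointwise in
theorem hall_permute {G : Type*} [Group G] [Finite G] [Group.IsSolvable G] (H K A B : Subgroup G)
    (hHK : ∀ g : G, ∃ h ∈ H, ∃ k ∈ K, g = h * k) (hA : A ≤ H) (hAn : (A.subgroupOf H).Normal)
    (hB : B ≤ K) (hBn : (B.subgroupOf K).Normal) (hAh : (Nat.card A).Coprime A.index)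
    (hBh : (Nat.card B).Coprime B.index) (x y : G) :
    ∃ S : Subgroup G, (S : Set G) =
      ((MulAut.conj x • A : Subgroup G) : Set G) * ((MulAut.conj y • B : Subgroup G) : Set G) := by
  let π : Set ℕ := {p | p ∣ Nat.card A ∨ p ∣ Nat.card B}
  have mem_conj : ∀ {g z : G} {X : Subgroup G}, z ∈ MulAut.conj g • X ↔ g⁻¹ * z * g ∈ X :=
    CfsgLib.Factorization.mem_conj_smul
  obtain ⟨W₀, hW₀, hAW⟩ := CfsgLib.Hall.exists_isPiHall_ge (G := G) (π := π) (U := A)
    (fun p _ hd => Or.inl hd)
  obtain ⟨W₁, hW₁, hBW⟩ := CfsgLib.Hall.exists_isPiHall_ge (G := G) (π := π) (U := B)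
    (fun p _ hd => Or.inr hd)
  obtain ⟨g, hg⟩ := CfsgLib.Hall.isPiHall_conj hW₀ hW₁
  -- reduce both conjugations to one
  obtain ⟨h₁, hh₁, k₁, hk₁, e₁⟩ := hHK (x⁻¹ * y)
  obtain ⟨k, hk, h, hh, rfl⟩ := CfsgLib.Factorization.swap hHK g
  have hnormA : ∀ h ∈ H, MulAut.conj h • A = A := by
    intro h hh
    ext z
    rw [mem_conj]
    constructor
    · intro hz
      have := hAn.conj_mem ⟨_, hA hz⟩ hz ⟨h, hh⟩
      rw [mem_subgroupOf] at this
      simpa [mul_assoc] using this
    · intro hz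
      have := hAn.conj_mem' ⟨_, hA hz⟩ hz ⟨h, hh⟩
      rw [mem_subgroupOf] at this
      simpa [mul_assoc] using this
  have hnormB : ∀ k ∈ K, MulAut.conj k • B = B := by
    intro k hk
    ext z
    rw [mem_conj]
    constructor
    · intro hz
      have := hBn.conj_mem ⟨_, hB hz⟩ hz ⟨k, hk⟩
      rw [mem_subgroupOf] at this
      simpa [mul_assoc] using this
    · intro hz
      have := hBn.conj_mem' ⟨_, hB hz⟩ hz ⟨k, hk⟩
      rw [mem_subgroupOf] at this
      simpa [mul_assoc] using this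
  set W : Subgroup G := MulAut.conj h • W₀ with hW
  have hAW' : A ≤ W := by
    rw [← hnormA h hh]
    exact pointwise_smul_le_pointwise_smul_iff.2 hAW
  have hBW' : B ≤ W := by
    have : W = MulAut.conj k⁻¹ • W₁ := by
      rw [← hg, map_mul, mul_smul, map_inv, inv_smul_smul]
    rw [this, ← hnormB k⁻¹ (inv_mem hk)]
    exact pointwise_smul_le_pointwise_smul_iff.2 hBW
  have hWπ : ∀ p : ℕ, p.Prime → p ∣ Nat.card W → p ∣ Nat.card A ∨ p ∣ Nat.card B := by
    intro p hp hd
    refine hW₀.1 p hp ?_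
    rwa [Nat.card_congr (equivSMul (MulAut.conj h) W₀).toEquiv]
  -- the map `A/(A ∩ B) → W/B` is bijective
  have hcard : B.relIndex W ∣ B.relIndex A := by
    have h1 : Nat.card (A ⊓ B : Subgroup G) * B.relIndex A = Nat.card A := by
      rw [relIndex, show Nat.card (A ⊓ B : Subgroup G) = Nat.card (B.subgroupOf A) by
        rw [← card_map_of_injective A.subtype_injective, subgroupOf_map_subtype, inf_comm]]
      exact (B.subgroupOf A).card_mul_index
    have h2 : Nat.card B * B.relIndex W = Nat.card W := by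
      rw [relIndex, ← Nat.card_congr (subgroupOfEquivOfLe hBW').toEquiv]
      exact (B.subgroupOf W).card_mul_index
    have hco : (B.relIndex W).Coprime (Nat.card B) := by
      refine hBh.symm.coprime_dvd_left ?_
      exact Dvd.intro _ (relIndex_mul_index hBW')
    have h3 : B.relIndex W ∣ Nat.card A := by
      refine ((?_ : (B.relIndex W).Coprime A.index)).dvd_of_dvd_mul_right ?_
      · refine Nat.coprime_of_dvd fun p hp hd hi => ?_
        rcases hWπ p hp (hd.trans ⟨_, (mul_comm _ _).trans h2 |>.symm⟩) with h4 | h4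
        · exact hp.one_lt.ne' (Nat.eq_one_of_dvd_coprimes hAh h4 hi)
        · exact hp.one_lt.ne' (Nat.eq_one_of_dvd_coprimes hco hd h4)
      · rw [A.card_mul_index]
        exact (Dvd.intro_left _ h2).trans (card_subgroup_dvd_card W)
    rw [← h1] at h3
    exact (hco.coprime_dvd_right (card_dvd_of_le inf_le_right)).dvd_of_dvd_mul_left h3
  let f : A ⧸ B.subgroupOf A → W ⧸ B.subgroupOf W :=
    Quotient.lift (fun a : A => QuotientGroup.mk (inclusion hAW' a)) (fun a b hab =>
      QuotientGroup.eq.2 (show (inclusion hAW' a)⁻¹ * inclusion hAW' b ∈ B.subgroupOf W from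
        (QuotientGroup.leftRel_apply.1 hab : a⁻¹ * b ∈ B.subgroupOf A)))
  have hf : Function.Injective f := by
    intro a b
    induction a using Quotient.inductionOn with | h a => ?_
    induction b using Quotient.inductionOn with | h b => ?_
    intro hab
    exact Quotient.sound (QuotientGroup.leftRel_apply.2 (QuotientGroup.eq.1 hab :))
  have hbij : Function.Bijective f := hf.bijective_of_nat_card_le
    (Nat.le_of_dvd Nat.card_pos hcard)
  have hWeq : (W : Set G) = (A : Set G) * B := by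
    refine Set.Subset.antisymm (fun r hr => ?_) ?_
    · obtain ⟨a, ha⟩ := hbij.2 (QuotientGroup.mk ⟨r, hr⟩)
      induction a using Quotient.inductionOn with | h a => ?_
      have ha' : (QuotientGroup.mk (inclusion hAW' a) : W ⧸ B.subgroupOf W) =
          QuotientGroup.mk ⟨r, hr⟩ := ha
      exact ⟨a, a.2, (a : G)⁻¹ * r, (show (inclusion hAW' a)⁻¹ * (⟨r, hr⟩ : W) ∈ B.subgroupOf W
        from QuotientGroup.eq.1 ha'), by simp⟩
    · rintro _ ⟨a, ha, b, hb, rfl⟩
      exact mul_mem (hAW' ha) (hBW' hb)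
  -- conjugate
  have ha : MulAut.conj x • A = MulAut.conj (x * h₁) • A := by
    rw [map_mul, mul_smul, hnormA h₁ hh₁]
  have hb : MulAut.conj y • B = MulAut.conj (x * h₁) • B := by
    have : y = x * h₁ * k₁ := by rw [mul_assoc, ← e₁, mul_inv_cancel_left]
    rw [this, map_mul, mul_smul, hnormB k₁ hk₁]
  refine ⟨MulAut.conj (x * h₁) • W, ?_⟩
  rw [ha, hb]
  simp only [coe_pointwise_smul, hWeq]
  ext z
  simp only [Set.mem_mul, Set.mem_smul_set]
  constructor
  · rintro ⟨_, ⟨a, ha, b, hb, rfl⟩, rfl⟩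
    exact ⟨_, ⟨a, ha, rfl⟩, _, ⟨b, hb, rfl⟩, (smul_mul' _ a b).symm⟩
  · rintro ⟨_, ⟨a, ha, rfl⟩, _, ⟨b, hb, rfl⟩, rfl⟩
    exact ⟨a * b, ⟨a, ha, b, hb, rfl⟩, smul_mul' _ a b⟩


/-- Let the finite solvable group G be the product HK of subgroups, and let A be normal in H and B normal in K, where A and B are Hall subgroups of G (order coprime to index). Then for all x, y the product set of xAx⁻¹ and yBy⁻¹ is a subgroup of G. -/
theorem result {G : Type*} [Group G] [Finite G] [Group.IsSolvable G] (H K A B : Subgroup G) (hHK : ∀ g : G, ∃ h ∈ H, ∃ k ∈ K, g = h * k) (hA : A ≤ H) (hAn : (A.subgroupOf H).Normal) (hB : B ≤ K) (hBn : (B.subgroupOf K).Normal) (hAh : (Nat.card A).Coprime A.index) (hBh : (Nat.card B).Coprime B.index) (x y : G) : ∃ S : Subgroup G, (S : Set G) = ((MulAut.conj x • A : Subgroup G) : Set G) * ((MulAut.conj y • B : Subgroup G) : Set G) := by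
  exact hall_permute H K A B hHK hA hAn hB hBn hAh hBh x y

end Cfsg.Agent.S0561
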