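import Cfsg.Statements.S0562
import Cfsg.Agent.Lib.Solvable.Factorization

set_option autoImplicit false
open Cfsg

namespace Cfsg.Agent.S0562

/-- Let the finite group G be the product HK of subgroups, A normal in H, B normal in K, and L the normalizer of the subgroup generated by A and B. Then every element of L is a product of an element of L ∩ H and an element of L ∩ K. -/
theorem result {G : Type*} [Group G] [Finite G] (H K A B : Subgroup G) (hHK : ∀ g : G, ∃ h ∈ H, ∃ k ∈ K, g = h * k) (hA : A ≤ H) (hAn : (A.subgroupOf H).Normal) (hB : B ≤ K) (hBn : (B.subgroupOf K).Normal) : ∀ g ∈ Subgroup.normalizer ((A ⊔ B : Subgroup G) : Set G), ∃ h ∈ Subgroup.normalizer ((A ⊔ B : Subgroup G) : Set G) ⊓ H, ∃ k ∈ Subgroup.normalizer ((A ⊔ B : Subgroup G) : Set G) ⊓ K, g = h * k := by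
  intro g hg
  obtain ⟨h, hh, k, hk, rfl⟩ := hHK g
  have hinvA : ∀ a ∈ A, h⁻¹ * a * h ∈ A := fun a ha => by
    have := hAn.conj_mem' ⟨a, hA ha⟩ ha ⟨h, hh⟩
    exact this
  have hinvB : ∀ b ∈ B, k⁻¹ * b * k ∈ B := fun b hb => by
    have := hBn.conj_mem' ⟨b, hB hb⟩ hb ⟨k, hk⟩
    exact this
  have hmap : (A ⊔ B).map (MulAut.conj h).toMonoidHom ≤ A ⊔ B := by
    rw [Subgroup.map_sup]
    refine sup_le ?_ ?_
    · rintro _ ⟨a, ha, rfl⟩
      refine Subgroup.mem_sup_left ?_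
      exact hAn.conj_mem ⟨a, hA ha⟩ ha ⟨h, hh⟩
    · rintro _ ⟨b, hb, rfl⟩
      have := (Subgroup.mem_normalizer_iff.1 hg (k⁻¹ * b * k)).1
        (Subgroup.mem_sup_right (hinvB b hb))
      simpa [mul_assoc] using this
  have heq : (A ⊔ B).map (MulAut.conj h).toMonoidHom = A ⊔ B :=
    Subgroup.eq_of_le_of_card_ge hmap (Subgroup.card_map_of_injective
      (MulAut.conj h).injective).ge
  have hL : h ∈ Subgroup.normalizer ((A ⊔ B : Subgroup G) : Set G) := by
    refine Subgroup.mem_normalizer_iff.2 fun x => ⟨fun hx => hmap ⟨x, hx, rfl⟩, fun hx => ?_⟩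
    obtain ⟨y, hy, hyx⟩ := heq.ge hx
    have : y = x := (MulAut.conj h).injective hyx
    rwa [← this]
  refine ⟨h, ⟨hL, hh⟩, k, ⟨?_, hk⟩, rfl⟩
  have := Subgroup.mul_mem _ (Subgroup.inv_mem _ hL) hg
  simpa using this

end Cfsg.Agent.S0562
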