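import Cfsg.Statements.S0566
import Cfsg.Agent.Lib.Solvable.Factorization
import Cfsg.Agent.Lib.Frobenius.Basic

set_option autoImplicit false
open Pointwise
open Cfsg

namespace Cfsg.Agent.S0566
open Subgroup in
open scoped Pointwise in
theorem kegel {G : Type*} [Group G] [Finite G] : ∀ (m : ℕ) (A : Subgroup G),
    Nat.card G - Nat.card A = m → A ≠ ⊥ → ∀ B : Subgroup G, B ≠ ⊥ →
    (∀ x : G, ∃ S : Subgroup G, S ≠ ⊤ ∧
      (S : Set G) = (A : Set G) * ((MulAut.conj x • B : Subgroup G) : Set G)) →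
    ∃ N : Subgroup G, N.Normal ∧ N ≠ ⊤ ∧ (A ≤ N ∨ B ≤ N) := by
  intro m
  induction m using Nat.strong_induction_on with
  | _ m ih =>
  intro A hm hA B hB h
  subst hm
  have hAle : ∀ (x : G) (S : Subgroup G),
      (S : Set G) = (A : Set G) * ((MulAut.conj x • B : Subgroup G) : Set G) →
      A ≤ S ∧ MulAut.conj x • B ≤ S := fun x S hS =>
    ⟨fun a ha => by
      rw [← SetLike.mem_coe, hS]
      exact ⟨a, ha, 1, Subgroup.one_mem _, mul_one a⟩, fun b hb => by
      rw [← SetLike.mem_coe, hS]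
      exact ⟨1, Subgroup.one_mem _, b, hb, one_mul b⟩⟩
  by_cases hnorm : ∀ x : G, MulAut.conj x • B ≤ normalizer (A : Set G)
  · by_cases hAn : normalizer (A : Set G) = ⊤
    · refine ⟨A, normalizer_eq_top_iff.1 hAn, fun e => ?_, Or.inl le_rfl⟩
      obtain ⟨S, hS, hSe⟩ := h 1
      exact hS (top_le_iff.1 (e ▸ (hAle 1 S hSe).1))
    · refine ⟨Subgroup.normalClosure (B : Set G), inferInstance, fun e => hAn ?_,
        Or.inr Subgroup.le_normalClosure⟩
      refine top_le_iff.1 (e ▸ (closure_le _).2 ?_)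
      intro z hz
      obtain ⟨b, hb, hbz⟩ := Group.mem_conjugatesOfSet_iff.1 hz
      obtain ⟨c, rfl⟩ := isConj_iff.1 hbz
      exact hnorm c (CfsgLib.Frobenius.mem_conj_smul_iff.2 (by simpa [mul_assoc] using hb))
  push Not at hnorm
  obtain ⟨x, hx⟩ := hnorm
  obtain ⟨y, hy, hyA⟩ := SetLike.not_le_iff_exists.1 hx
  set A' := A ⊔ MulAut.conj y • A with hA'
  have hlt : A < A' := by
    refine lt_of_le_of_ne le_sup_left fun e => hyA ?_
    have hle : MulAut.conj y • A ≤ A := le_sup_right.trans e.ge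
    have heq : MulAut.conj y • A = A := eq_of_le_of_card_ge hle
      (Nat.card_congr (equivSMul (MulAut.conj y) A).toEquiv).le
    refine mem_normalizer_iff.2 fun z => ⟨fun hz => ?_, fun hz => ?_⟩
    · rw [← heq, CfsgLib.Frobenius.mem_conj_smul_iff]; simpa [mul_assoc] using hz
    · rw [← heq, CfsgLib.Frobenius.mem_conj_smul_iff] at hz; simpa [mul_assoc] using hz
  have hcard : Nat.card A < Nat.card A' := by
    refine lt_of_le_of_ne (card_le_of_le hlt.le) fun e => hlt.ne ?_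
    exact eq_of_le_of_card_ge hlt.le e.ge
  obtain ⟨S₀, hS₀, hS₀e⟩ := h x
  have hA'S₀ : A' ≤ S₀ := by
    refine sup_le (hAle x S₀ hS₀e).1 fun z hz => ?_
    rw [CfsgLib.Frobenius.mem_conj_smul_iff] at hz
    have := S₀.mul_mem (S₀.mul_mem ((hAle x S₀ hS₀e).2 hy) ((hAle x S₀ hS₀e).1 hz))
      (S₀.inv_mem ((hAle x S₀ hS₀e).2 hy))
    simpa [mul_assoc] using this
  have h' : ∀ z : G, ∃ S : Subgroup G, S ≠ ⊤ ∧
      (S : Set G) = (A' : Set G) * ((MulAut.conj z • B : Subgroup G) : Set G) := by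
    intro z
    set X : Subgroup G := MulAut.conj z • B
    -- `X` permutes with `A` and with its conjugate by `y`
    have key : ∀ (w : G) (V : Subgroup G), (∃ S : Subgroup G, (S : Set G) = (A : Set G) * V) →
        ∀ a ∈ A, ∀ v ∈ V, ∃ v' ∈ V, ∃ a' ∈ A, v * a = a' * v' := by
      rintro - V ⟨S, hS⟩ a ha v hv
      have h1 : v * a ∈ (S : Set G) := by
        refine S.mul_mem ?_ ?_
        · rw [← SetLike.mem_coe, hS]; exact ⟨1, Subgroup.one_mem _, v, hv, one_mul v⟩
        · rw [← SetLike.mem_coe, hS]; exact ⟨a, ha, 1, Subgroup.one_mem _, mul_one a⟩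
      rw [hS] at h1
      obtain ⟨a', ha', v', hv', e⟩ := h1
      exact ⟨v', hv', a', ha', e.symm⟩
    have hswap : ∀ a ∈ A', ∀ v ∈ X, ∃ v' ∈ X, ∃ a' ∈ A', v * a = a' * v' := by
      intro a ha
      rw [hA', sup_eq_closure] at ha
      induction ha using closure_induction with
      | mem c hc =>
        intro v hv
        rcases hc with hc | hc
        · obtain ⟨S, -, hS⟩ := h z
          obtain ⟨v', hv', a', ha', e⟩ := key z X ⟨S, hS⟩ c hc v hv
          exact ⟨v', hv', a', mem_sup_left ha', e⟩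
        · obtain ⟨S, -, hS⟩ := h (y⁻¹ * z)
          rw [SetLike.mem_coe, CfsgLib.Frobenius.mem_conj_smul_iff] at hc
          obtain ⟨v', hv', a', ha', e⟩ := key z _ ⟨S, hS⟩ _ hc (y⁻¹ * v * y) (by
            rw [CfsgLib.Frobenius.mem_conj_smul_iff] at hv ⊢
            simpa [mul_assoc] using hv)
          refine ⟨y * v' * y⁻¹, ?_, y * a' * y⁻¹, mem_sup_right
            (CfsgLib.Frobenius.mem_conj_smul_iff.2 (by simpa [mul_assoc] using ha')), ?_⟩
          · rw [CfsgLib.Frobenius.mem_conj_smul_iff] at hv' ⊢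
            simpa [mul_assoc] using hv'
          · calc v * c = y * ((y⁻¹ * v * y) * (y⁻¹ * c * y)) * y⁻¹ := by group
              _ = _ := by rw [e]; group
      | one => intro v hv; exact ⟨v, hv, 1, one_mem _, by simp⟩
      | mul c d _ _ hc hd =>
        intro v hv
        obtain ⟨v₁, hv₁, a₁, ha₁, e₁⟩ := hc v hv
        obtain ⟨v₂, hv₂, a₂, ha₂, e₂⟩ := hd v₁ hv₁
        exact ⟨v₂, hv₂, a₁ * a₂, mul_mem ha₁ ha₂, by
          rw [← mul_assoc, e₁, mul_assoc, e₂, mul_assoc]⟩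
      | inv c _ hc =>
        have hpow : ∀ n : ℕ, ∀ v ∈ X, ∃ v' ∈ X, ∃ a' ∈ A', v * c ^ n = a' * v' := by
          intro n
          induction n with
          | zero => intro v hv; exact ⟨v, hv, 1, one_mem _, by simp⟩
          | succ n ihn =>
            intro v hv
            obtain ⟨v₁, hv₁, a₁, ha₁, e₁⟩ := ihn v hv
            obtain ⟨v₂, hv₂, a₂, ha₂, e₂⟩ := hc v₁ hv₁
            exact ⟨v₂, hv₂, a₁ * a₂, mul_mem ha₁ ha₂, by
              rw [pow_succ, ← mul_assoc, e₁, mul_assoc, e₂, mul_assoc]⟩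
        have hci : c⁻¹ = c ^ (orderOf c - 1) := by
          rw [inv_eq_iff_mul_eq_one, ← pow_succ', Nat.sub_add_cancel (orderOf_pos c),
            pow_orderOf_eq_one]
        rw [hci]
        exact hpow _
    let S : Subgroup G :=
      { carrier := (A' : Set G) * (X : Set G)
        one_mem' := ⟨1, one_mem _, 1, one_mem _, one_mul 1⟩
        mul_mem' := by
          rintro _ _ ⟨a, ha, v, hv, rfl⟩ ⟨a₁, ha₁, v₁, hv₁, rfl⟩
          obtain ⟨v', hv', a', ha', e⟩ := hswap a₁ ha₁ v hv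
          refine ⟨a * a', mul_mem ha ha', v' * v₁, mul_mem hv' hv₁, ?_⟩
          show a * a' * (v' * v₁) = a * v * (a₁ * v₁)
          rw [← mul_assoc (a * v), mul_assoc a v, e]; group
        inv_mem' := by
          rintro _ ⟨a, ha, v, hv, rfl⟩
          obtain ⟨v', hv', a', ha', e⟩ := hswap a⁻¹ (inv_mem ha) v⁻¹ (inv_mem hv)
          exact ⟨a', ha', v', hv', by rw [mul_inv_rev, e]⟩ }
    refine ⟨S, fun hS => hS₀ (top_le_iff.1 fun g _ => ?_), rfl⟩
    have hfac : ∀ g : G, ∃ a ∈ A', ∃ v ∈ X, g = a * v := by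
      intro g
      have hg : g ∈ S := hS ▸ mem_top g
      obtain ⟨a, ha, v, hv, e⟩ := hg
      exact ⟨a, ha, v, hv, e.symm⟩
    obtain ⟨w, hw1, hw2⟩ := CfsgLib.Factorization.exists_conj hfac 1 (x * z⁻¹)
    obtain ⟨a, ha, v, hv, e⟩ := CfsgLib.Factorization.conj_factorization hfac w g
    rw [← hw1, map_one, one_smul] at ha
    rw [← hw2, smul_smul, ← map_mul, inv_mul_cancel_right] at hv
    rw [e]
    exact S₀.mul_mem (hA'S₀ ha) ((hAle x S₀ hS₀e).2 hv)
  obtain ⟨N, hN, hNt, hle⟩ := ih _ (by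
    have := card_le_card_group A'
    omega) A' rfl (fun e => hA (le_bot_iff.1 (e ▸ le_sup_left))) B hB h'
  exact ⟨N, hN, hNt, hle.imp (le_trans le_sup_left) id⟩


/-- Let A and B be nontrivial subgroups of a finite group G such that for every x the product set of A and xBx⁻¹ is a proper subgroup of G. Then there is a proper normal subgroup of G containing A or containing B. -/
theorem result {G : Type*} [Group G] [Finite G] (A B : Subgroup G) (hA : A ≠ ⊥) (hB : B ≠ ⊥) (h : ∀ x : G, ∃ S : Subgroup G, S ≠ ⊤ ∧ (S : Set G) = (A : Set G) * ((MulAut.conj x • B : Subgroup G) : Set G)) : ∃ N : Subgroup G, N.Normal ∧ N ≠ ⊤ ∧ (A ≤ N ∨ B ≤ N) := by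
  exact kegel _ A rfl hA B hB h

end Cfsg.Agent.S0566
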