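import Cfsg.Statements.S3754
import Cfsg.Agent.Lib.PLocal.OffenderBound
import Cfsg.Agent.Lib.PGroup.Frattini
import Cfsg.Agent.Lib.Structure.Subnormal

set_option autoImplicit false
open Cfsg

namespace Cfsg.Agent.S3754

open Subgroup
open scoped commutatorElement

open scoped Pointwise

theorem mem_of_coprime_of_mem_sup {G : Type*} [Group G] [Finite G] {p : ℕ} [Fact p.Prime] {D A : Subgroup G}
    (hA : IsPGroup p A) (hn : A ≤ normalizer (D : Set G)) {u : G} (hu : u ∈ D ⊔ A)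
    (ho : (orderOf u).Coprime p) : u ∈ D := by
  haveI : (D.subgroupOf (D ⊔ A)).Normal :=
    (normal_subgroupOf_iff_le_normalizer le_sup_left).2 (sup_le le_normalizer hn)
  obtain ⟨i, hi⟩ := IsPGroup.iff_card.1 hA
  have hidx : (D.subgroupOf (D ⊔ A)).index ∣ p ^ i := by
    have h1 := CfsgLib.Structure.card_sup_dvd_mul hn
    rw [← (D.subgroupOf (D ⊔ A)).card_mul_index,
      Nat.card_congr (subgroupOfEquivOfLe (le_sup_left : D ≤ D ⊔ A)).toEquiv] at h1
    rw [← hi]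
    exact Nat.dvd_of_mul_dvd_mul_left Nat.card_pos h1
  obtain ⟨j, hj⟩ := hidx
  have h2 : u ^ p ^ i ∈ D := by
    have := pow_index_mem (D.subgroupOf (D ⊔ A)) ⟨u, hu⟩
    rw [hj, pow_mul]
    exact pow_mem this j
  obtain ⟨k, hk⟩ := exists_pow_eq_self_of_coprime ((ho.pow_right i).symm)
  exact hk ▸ pow_mem h2 k

theorem exists_hyperplane {G : Type*} [Group G] [Finite G] {p : ℕ} [Fact p.Prime]
    (hsep : Cfsg.IsPSolvable p G) (h0 : Cfsg.pCore p G = ⊥) {A : Subgroup G}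
    (hA : Cfsg.IsElementaryAbelian p A) (hA1 : A ≠ ⊥) :
    ∃ B, B ≤ A ∧ B.relIndex A = p ∧
      ¬ Cfsg.pPrimeCore p G ⊓ centralizer (B : Set G) ≤ centralizer (A : Set G) := by
  by_contra! hcon
  apply hA1
  have hle : A ≤ centralizer (Cfsg.pPrimeCore p G : Set G) := by
    refine le_centralizer_iff.1 ?_
    rw [← CfsgLib.Coprime39.eq_hyperCent hA hA1 CfsgLib.PCore.pPrimeCore_coprime
      (by rw [normalizer_eq_top]; exact le_top)]
    exact iSup_le fun B => hcon B B.2.1 B.2.2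
  exact CfsgLib.PCore.eq_bot_of_isPGroup_coprime (CfsgLib.PLocal.elemAb_isPGroup hA)
    (CfsgLib.PCore.pPrimeCore_coprime.coprime_dvd_left
      (card_dvd_of_le (hle.trans (CfsgLib.DualHallHigman.centralizer_pPrimeCore_le hsep h0))))

/-- Let M be a finite p-soluble group and A a p-subgroup of M with Φ(A) ≤ O_p(M) but A ≰ O_p(M). Then there is x ∈ O_{p,p'}(M) such that L = ⟨A, xAx⁻¹⟩ satisfies: x ∈ O^p(L) and O^p(L) ≤ O_{p,p'}(M); [O^p(L), A] = O^p(L); A ∩ O_p(L) has index p in A; and [A ∩ O_p(L), L] ≤ O_p(M). Here O^p(L) is the subgroup generated by the p'-elements of L and O_{p,p'}(M) the preimage of O_{p'}(M/O_p(M)). -/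
theorem result {M : Type*} [Group M] [Finite M] {p : ℕ} [Fact p.Prime] (hM : Cfsg.IsPSolvable p M) (A : Subgroup M) (hA : IsPGroup p A) (hΦ : (frattini ↥A).map A.subtype ≤ Cfsg.pCore p M) (hnot : ¬ A ≤ Cfsg.pCore p M) : ∃ x ∈ (Cfsg.pPrimeCore p (M ⧸ Cfsg.pCore p M)).comap (QuotientGroup.mk' (Cfsg.pCore p M)), x ∈ (Cfsg.pResidual p ↥(A ⊔ A.map (MulAut.conj x).toMonoidHom)).map (A ⊔ A.map (MulAut.conj x).toMonoidHom).subtype ∧ (Cfsg.pResidual p ↥(A ⊔ A.map (MulAut.conj x).toMonoidHom)).map (A ⊔ A.map (MulAut.conj x).toMonoidHom).subtype ≤ (Cfsg.pPrimeCore p (M ⧸ Cfsg.pCore p M)).comap (QuotientGroup.mk' (Cfsg.pCore p M)) ∧ ⁅(Cfsg.pResidual p ↥(A ⊔ A.map (MulAut.conj x).toMonoidHom)).map (A ⊔ A.map (MulAut.conj x).toMonoidHom).subtype, A⁆ = (Cfsg.pResidual p ↥(A ⊔ A.map (MulAut.conj x).toMonoidHom)).map (A ⊔ A.map (MulAut.conj x).toMonoidHom).subtype ∧ (A ⊓ (Cfsg.pCore p ↥(A ⊔ A.map (MulAut.conj x).toMonoidHom)).map (A ⊔ A.map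 (MulAut.conj x).toMonoidHom).subtype).relIndex A = p ∧ ⁅A ⊓ (Cfsg.pCore p ↥(A ⊔ A.map (MulAut.conj x).toMonoidHom)).map (A ⊔ A.map (MulAut.conj x).toMonoidHom).subtype, A ⊔ A.map (MulAut.conj x).toMonoidHom⁆ ≤ Cfsg.pCore p M := by
  classical
  have hp : p.Prime := Fact.out
  set P0 := Cfsg.pCore p M with hP0
  set q := QuotientGroup.mk' P0 with hq
  have hqs : Function.Surjective q := QuotientGroup.mk'_surjective P0
  set Qb := Cfsg.pPrimeCore p (M ⧸ P0) with hQb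
  set Ab := A.map q with hAb
  have hAbe : Cfsg.IsElementaryAbelian p Ab := by
    refine ⟨CfsgLib.PLocal.isMulCommutative_of_forall ?_, ?_⟩
    · rintro _ ⟨a, ha, rfl⟩ _ ⟨b, hb, rfl⟩
      rw [← commutatorElement_eq_one_iff_mul_comm, ← map_commutatorElement]
      exact (QuotientGroup.eq_one_iff _).2 (hΦ ⟨⁅(⟨a, ha⟩ : A), ⟨b, hb⟩⁆,
        CfsgLib.PGroup.commutator_le_frattini hA (commutator_mem_commutator (mem_top _) (mem_top _)), rfl⟩)
    · rintro _ ⟨a, ha, rfl⟩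
      rw [← map_pow]
      exact (QuotientGroup.eq_one_iff _).2 (hΦ ⟨(⟨a, ha⟩ : A) ^ p,
        CfsgLib.PGroup.pow_mem_frattini hA _, rfl⟩)
  have hAb1 : Ab ≠ ⊥ := fun h => hnot fun a ha =>
    (QuotientGroup.eq_one_iff a).1 (mem_bot.1 (h ▸ mem_map_of_mem q ha))
  obtain ⟨Bb, hBA, hBi, hBne⟩ := exists_hyperplane (CfsgLib.PCore.isPSolvable_quotient hM P0)
    CfsgLib.PCore.pCore_quotient_pCore hAbe hAb1
  -- admissible elements
  let good : M → Prop := fun x => q x ∈ Qb ⊓ centralizer (Bb : Set (M ⧸ P0)) ∧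
    Ab.map (MulAut.conj (q x)).toMonoidHom ≠ Ab
  have hex : ∃ x, good x := by
    obtain ⟨c, hc, hcA⟩ := SetLike.not_le_iff_exists.1 hBne
    obtain ⟨x, rfl⟩ := hqs c
    refine ⟨x, hc, fun hn => hcA (mem_centralizer_iff.2 fun a ha => ?_)⟩
    obtain ⟨hxQ, -⟩ := mem_inf.1 hc
    have hmem : ⁅q x, a⁆ ∈ Ab ⊓ Qb := by
      refine mem_inf.2 ⟨mul_mem (hn ▸ mem_map_of_mem (MulAut.conj (q x)).toMonoidHom ha) (inv_mem ha), ?_⟩
      have h1 : a * (q x)⁻¹ * a⁻¹ ∈ Qb :=
        (inferInstance : Qb.Normal).conj_mem _ (inv_mem hxQ) a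
      simpa [commutatorElement_def, mul_assoc] using mul_mem hxQ h1
    rw [CfsgLib.PCore.inf_eq_bot_of_isPGroup_coprime (CfsgLib.PLocal.elemAb_isPGroup hAbe)
      CfsgLib.PCore.pPrimeCore_coprime, mem_bot, commutatorElement_eq_one_iff_mul_comm] at hmem
    exact hmem.symm
  let L : M → Subgroup M := fun x => A ⊔ A.map (MulAut.conj x).toMonoidHom
  obtain ⟨x₀, hx₀, hmin⟩ := Set.exists_min_image {x | good x} (fun x => Nat.card (L x))
    (Set.toFinite _) hex
  obtain ⟨hx₀c, hx₀n⟩ := hx₀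
  obtain ⟨hx₀Q, hx₀B⟩ := mem_inf.1 hx₀c
  set Lb := (L x₀).map q with hLb
  have hmapL : Lb = Ab ⊔ Ab.map (MulAut.conj (q x₀)).toMonoidHom := by
    rw [hLb, Subgroup.map_sup, hAb, map_map, map_map]
    rfl
  have hAbB : Ab ≤ centralizer (Bb : Set (M ⧸ P0)) := fun a ha =>
    mem_centralizer_iff.2 fun b hb => CfsgLib.PLocal.elemAb_commute hAbe (hBA hb) ha
  have hLbB : Lb ≤ centralizer (Bb : Set (M ⧸ P0)) := by
    rw [hmapL]
    refine sup_le hAbB ?_
    rintro _ ⟨a, ha, rfl⟩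
    exact mul_mem (mul_mem hx₀B (hAbB ha)) (inv_mem hx₀B)
  have hLbQA : Lb ≤ Qb ⊔ Ab := by
    rw [hmapL]
    refine sup_le le_sup_right ?_
    rintro _ ⟨a, ha, rfl⟩
    exact mul_mem (mul_mem (mem_sup_left hx₀Q) (mem_sup_right ha)) (inv_mem (mem_sup_left hx₀Q))
  have hAbL : Ab ≤ Lb := hmapL ▸ le_sup_left
  have hA'L : Ab.map (MulAut.conj (q x₀)).toMonoidHom ≤ Lb := hmapL ▸ le_sup_right
  -- the two images are conjugate inside the odd part
  obtain ⟨k, hkL, hkQ, hk⟩ : ∃ k, k ∈ Lb ∧ k ∈ Qb ∧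
      Ab.map (MulAut.conj k).toMonoidHom = Ab.map (MulAut.conj (q x₀)).toMonoidHom := by
    have hnd : ∀ T : Subgroup (M ⧸ P0), T ≤ Lb → Nat.card T = Nat.card Ab → IsPGroup p T →
        ∃ P : Sylow p Lb, (P : Subgroup Lb) = T.subgroupOf Lb := by
      intro T hT hc hTp
      have h1 := CfsgLib.Structure.card_sup_dvd_mul (N := Qb) (M := Ab)
        (by rw [normalizer_eq_top]; exact le_top)
      have h2 : Nat.card T * T.relIndex Lb ∣ Nat.card Qb * Nat.card T := by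
        rw [← relIndex_bot_left T, relIndex_mul_relIndex _ _ _ bot_le hT, relIndex_bot_left,
          relIndex_bot_left, hc]
        exact (card_dvd_of_le hLbQA).trans h1
      have h3 : T.relIndex Lb ∣ Nat.card Qb :=
        Nat.dvd_of_mul_dvd_mul_left Nat.card_pos (mul_comm (Nat.card Qb) _ ▸ h2)
      have hnp : ¬ p ∣ (T.subgroupOf Lb).index := fun h =>
        CfsgLib.PCore.not_dvd_card_pPrimeCore (h.trans h3)
      exact ⟨(hTp.comap_subtype (K := Lb)).toSylow hnp, rfl⟩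
    obtain ⟨P, hP⟩ := hnd Ab hAbL rfl (CfsgLib.PLocal.elemAb_isPGroup hAbe)
    obtain ⟨P', hP'⟩ := hnd _ hA'L
      (card_map_of_injective (MulAut.conj (q x₀)).injective)
      ((CfsgLib.PLocal.elemAb_isPGroup hAbe).map _)
    obtain ⟨g, hg⟩ := MulAction.exists_smul_eq Lb P P'
    have hgg : Ab.map (MulAut.conj (g : M ⧸ P0)).toMonoidHom
        = Ab.map (MulAut.conj (q x₀)).toMonoidHom := by
      have := congrArg (fun T : Sylow p Lb => (T : Subgroup Lb).map Lb.subtype) hg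
      simp only [Sylow.coe_subgroup_smul, hP, hP', map_subgroupOf_eq_of_le hA'L] at this
      rw [← this]
      conv_lhs => rw [← map_subgroupOf_eq_of_le hAbL]
      rw [map_map, show MulAut.conj g • Ab.subgroupOf Lb
        = (Ab.subgroupOf Lb).map (MulAut.conj g).toMonoidHom from rfl, map_map]
      rfl
    obtain ⟨z, hz, a, ha, hza⟩ := mem_sup_of_normal_left.1 (hLbQA g.2)
    refine ⟨z, ?_, hz, ?_⟩
    · have : z = g * a⁻¹ := by rw [← hza]; group
      exact this ▸ mul_mem g.2 (inv_mem (hAbL ha))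
    · have hA_a : Ab.map (MulAut.conj a).toMonoidHom = Ab :=
        mem_normalizer_iff_map_conj_eq.1 (le_normalizer ha)
      rw [← hgg, ← hza, map_mul]
      conv_lhs => rw [← hA_a, map_map]
      rfl
  -- lift to an element of order prime to `p`
  obtain ⟨l, hl, rfl⟩ := hkL
  obtain ⟨i, m, hmp, hom⟩ := Nat.exists_eq_pow_mul_and_not_dvd (orderOf_pos l).ne' p hp.ne_one
  have hcop : (p ^ i).Coprime m := (hp.coprime_iff_not_dvd.2 hmp).pow_left i
  obtain ⟨n, hn0, hn1⟩ := Nat.chineseRemainder hcop 0 1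
  set x := l ^ n with hx
  have hxo : (orderOf x).Coprime p := by
    refine Nat.Coprime.coprime_dvd_left (orderOf_dvd_of_pow_eq_one (n := m) ?_)
      (hp.coprime_iff_not_dvd.2 hmp).symm
    rw [hx, ← pow_mul, ← orderOf_dvd_iff_pow_eq_one, hom]
    exact mul_dvd_mul_right (Nat.modEq_zero_iff_dvd.1 hn0) m
  have hqx : q x = q l := by
    have h1 : orderOf (q l) ∣ m := by
      have h2 := hom ▸ orderOf_map_dvd q l
      exact (((CfsgLib.PCore.pPrimeCore_coprime (p := p)).coprime_dvd_left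
        (orderOf_dvd_natCard Qb hkQ)).pow_right i).dvd_of_dvd_mul_left h2
    rw [hx, map_pow, ← pow_one (q l), ← pow_mul, one_mul, pow_eq_pow_iff_modEq]
    exact hn1.of_dvd h1
  have hxL₀ : x ∈ L x₀ := pow_mem hl n
  have hxg : good x := by
    refine ⟨?_, ?_⟩
    · rw [hqx]; exact mem_inf.2 ⟨hkQ, hLbB (mem_map_of_mem q hl)⟩
    · rw [hqx, hk]; exact hx₀n
  have hLle : L x ≤ L x₀ := sup_le le_sup_left (by
    rintro _ ⟨a, ha, rfl⟩
    exact mul_mem (mul_mem hxL₀ (mem_sup_left ha)) (inv_mem hxL₀))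
  have hLeq : L x = L x₀ := Subgroup.eq_of_le_of_card_ge hLle (hmin x hxg)
  set L' := A ⊔ A.map (MulAut.conj x).toMonoidHom with hL'
  replace hLeq : L' = L x₀ := hLeq
  have hxL : x ∈ L' := hLeq ▸ hxL₀
  have hL'b : L'.map q = Lb := by rw [hLeq]
  have hUeq : (Cfsg.pResidual p ↥L').map L'.subtype
      = closure {g : M | g ∈ L' ∧ (orderOf g).Coprime p} := by
    rw [Cfsg.pResidual, MonoidHom.map_closure]
    congr 1
    ext g
    constructor
    · rintro ⟨y, hy, rfl⟩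
      exact ⟨y.2, by simpa [orderOf_coe] using hy⟩
    · rintro ⟨hg, ho⟩
      refine ⟨⟨g, hg⟩, ?_, rfl⟩
      show Nat.Coprime (orderOf (⟨g, hg⟩ : L')) p
      rwa [orderOf_mk]
  set U := (Cfsg.pResidual p ↥L').map L'.subtype with hU
  have hxU : x ∈ U := hUeq ▸ subset_closure ⟨hxL, hxo⟩
  refine ⟨x, ?_, hxU, ?_, ?_, ?_⟩
  · exact (mem_inf.1 hxg.1).1
  · show U ≤ Qb.comap q
    rw [hUeq, closure_le]
    rintro g ⟨hg, ho⟩
    exact mem_of_coprime_of_mem_sup (p := p) (CfsgLib.PLocal.elemAb_isPGroup hAbe)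
      (by rw [normalizer_eq_top]; exact le_top) (hLbQA (hL'b ▸ mem_map_of_mem q hg))
      (ho.coprime_dvd_left (orderOf_map_dvd q g))
  · show ⁅U, A⁆ = U
    have hUn : L' ≤ normalizer (U : Set M) := by
      intro g hg
      rw [mem_normalizer_iff_map_conj_eq]
      refine Subgroup.eq_of_le_of_card_ge ?_ (card_map_of_injective (MulAut.conj g).injective).ge
      rw [hUeq, MonoidHom.map_closure]
      refine closure_mono ?_
      rintro _ ⟨y, ⟨hy, hyo⟩, rfl⟩
      refine ⟨mul_mem (mul_mem hg hy) (inv_mem hg), ?_⟩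
      show Nat.Coprime (orderOf ((MulAut.conj g).toMonoidHom y)) p
      exact (orderOf_injective (MulAut.conj g).toMonoidHom (MulAut.conj g).injective y).symm ▸ hyo
    refine le_antisymm (le_normalizer_iff_commutator_le_left.1
      ((le_sup_left : A ≤ L').trans hUn)) ?_
    have hL'D : L' ≤ ⁅U, A⁆ ⊔ A := by
      refine sup_le le_sup_right ?_
      rintro _ ⟨a, ha, rfl⟩
      have : x * a * x⁻¹ = ⁅x, a⁆ * a := by rw [commutatorElement_def]; group
      show x * a * x⁻¹ ∈ _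
      exact this ▸ mul_mem (mem_sup_left (commutator_mem_commutator hxU ha)) (mem_sup_right ha)
    rw [hUeq, closure_le]
    rintro g ⟨hg, ho⟩
    rw [← hUeq]
    exact mem_of_coprime_of_mem_sup hA (normalizer_commutator_ge_right _ _) (hL'D hg) ho
  · set K := A ⊓ (Cfsg.pCore p ↥L').map L'.subtype with hK
    set B := A ⊓ Bb.comap q with hB
    have hBrel : B.relIndex A = p := by
      rw [hB, inf_comm, inf_relIndex_right, relIndex_comap]
      exact hBi
    have hR : (Bb.comap q).subgroupOf L' ≤ Cfsg.pCore p ↥L' := by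
      refine CfsgLib.PCore.le_pCore ⟨fun b hb g => ?_⟩
        ((CfsgLib.PCore.isPGroup_comap_mk' CfsgLib.PCore.pCore_isPGroup
          ((CfsgLib.PLocal.elemAb_isPGroup hAbe).to_le hBA)).comap_subtype)
      show q ((g : M) * b * (g : M)⁻¹) ∈ Bb
      have hb' : q (b : M) ∈ Bb := hb
      rw [map_mul, map_mul, map_inv, ← mem_centralizer_iff.1
        (hLbB (hL'b ▸ mem_map_of_mem q g.2)) _ hb', mul_inv_cancel_right]
      exact hb'
    have hBK : B ≤ K := le_inf inf_le_left fun b hb =>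
      ⟨⟨b, le_sup_left (a := A) (mem_inf.1 hb).1⟩, hR (show q b ∈ Bb from (mem_inf.1 hb).2), rfl⟩
    have hne : K.relIndex A ≠ 1 := by
      intro h1
      have hAK : A ≤ (Cfsg.pCore p ↥L').map L'.subtype :=
        (relIndex_eq_one.1 h1).trans inf_le_right
      have hall : L' ≤ (Cfsg.pCore p ↥L').map L'.subtype := by
        refine sup_le hAK ?_
        rintro _ ⟨a, ha, rfl⟩
        obtain ⟨a', ha', rfl⟩ := hAK ha
        exact ⟨⟨x, hxL⟩ * a' * ⟨x, hxL⟩⁻¹,
          (inferInstance : (Cfsg.pCore p ↥L').Normal).conj_mem _ ha' _, rfl⟩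
      obtain ⟨y, hy, hyx⟩ := hall hxL
      obtain ⟨j, hj⟩ := IsPGroup.iff_orderOf.1 CfsgLib.PCore.pCore_isPGroup (⟨y, hy⟩ : Cfsg.pCore p ↥L')
      have hox : orderOf x = p ^ j := by
        rw [← hj, orderOf_mk, ← hyx, ← orderOf_coe y]
        rfl
      have hx1 : x = 1 := orderOf_eq_one_iff.1
        (Nat.eq_one_of_dvd_coprimes (hxo.pow_right j) dvd_rfl (hox ▸ dvd_rfl))
      apply hxg.2
      rw [hx1, map_one, map_one]
      exact map_id Ab
    have hmul := relIndex_mul_relIndex _ _ _ hBK (inf_le_left : K ≤ A)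
    rw [hBrel] at hmul
    have hKp : K.relIndex A = p :=
      (hp.eq_one_or_self_of_dvd _ ⟨_, by rw [mul_comm]; exact hmul.symm⟩).resolve_left hne
    refine ⟨hKp, ?_⟩
    have hKB : K ≤ B := relIndex_eq_one.1
      (Nat.eq_of_mul_eq_mul_right hp.pos (by rw [one_mul]; rwa [hKp] at hmul))
    rw [commutator_le]
    intro b hb g hg
    refine (QuotientGroup.eq_one_iff _).1 ?_
    show q ⁅b, g⁆ = 1
    rw [map_commutatorElement, commutatorElement_eq_one_iff_mul_comm]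
    exact mem_centralizer_iff.1 (hLbB (hL'b ▸ mem_map_of_mem q hg)) _ (mem_inf.1 (hKB hb)).2

end Cfsg.Agent.S3754
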