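import Cfsg.Statements.S4623
import Mathlib.GroupTheory.Sylow
import Mathlib.GroupTheory.Abelianization.Defs
import Mathlib.GroupTheory.SpecificGroups.Alternating
import Mathlib.GroupTheory.Perm.ViaEmbedding
import Mathlib.Data.ZMod.Basic
import Mathlib.Algebra.Group.Subgroup.Pointwise
import Mathlib.NumberTheory.Padics.PadicVal.Basic
import Mathlib.Data.Nat.Choose.Factorization

set_option autoImplicit false
open Cfsg

namespace Cfsg.Agent.S4623

/-- The abelianisation has exponent dividing `p`. -/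
def ElemAb (p : ℕ) (H : Type*) [Group H] : Prop := ∀ x : H, x ^ p ∈ commutator H

theorem ElemAb.of_equiv {p : ℕ} {H K : Type*} [Group H] [Group K] (e : H ≃* K) (h : ElemAb p H) :
    ElemAb p K := by
  intro x
  have h1 : e ((e.symm x) ^ p) ∈ commutator K := by
    have hmap : (commutator H).map e.toMonoidHom ≤ commutator K := by
      rw [commutator_def, commutator_def, Subgroup.map_commutator]
      exact Subgroup.commutator_mono le_top le_top
    exact hmap ⟨_, h _, rfl⟩
  rwa [map_pow, e.apply_symm_apply] at h1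

/-- Generators of order dividing `p`. -/
theorem elemAb_closure {p : ℕ} {G : Type*} [Group G] (S : Set G) (h : ∀ s ∈ S, s ^ p = 1) :
    ElemAb p (Subgroup.closure S) := by
  intro x
  rw [← Abelianization.ker_of, MonoidHom.mem_ker, map_pow]
  have hx : x ∈ Subgroup.closure ((Subgroup.closure S).subtype ⁻¹' S) := by
    rw [show (Subgroup.closure S).subtype ⁻¹' S = Subtype.val ⁻¹' S from rfl,
      Subgroup.closure_closure_coe_preimage]
    exact Subgroup.mem_top _
  induction hx using Subgroup.closure_induction with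
  | mem y hy =>
    rw [← map_pow, show y ^ p = 1 from Subtype.ext (by rw [Subgroup.coe_pow, Subgroup.coe_one]; exact h _ hy), map_one]
  | one => simp
  | mul a b _ _ ha hb => rw [map_mul, mul_pow, ha, hb, one_mul]
  | inv a _ ha => rw [map_inv, inv_pow, ha, inv_one]

/-- The even part of a group generated by elements of order `p` whose odd ones commute. -/
theorem exists_gens_ker {p : ℕ} [hp : Fact p.Prime] {G : Type*} [Group G] (χ : G →* ℤˣ)
    (S : Set G) (hS : ∀ s ∈ S, s ^ p = 1)
    (hc : ∀ s ∈ S, ∀ t ∈ S, χ s ≠ 1 → χ t ≠ 1 → Commute s t) :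
    ∃ U : Set G, (∀ u ∈ U, u ^ p = 1) ∧ Subgroup.closure U = Subgroup.closure S ⊓ χ.ker := by
  by_cases hodd : ∀ s ∈ S, χ s = 1
  · exact ⟨S, hS, (inf_eq_left.2 ((Subgroup.closure_le χ.ker).2 fun s hs => hodd s hs)).symm⟩
  push Not at hodd
  obtain ⟨t₀, ht₀, ht₀χ⟩ := hodd
  have hχ : ∀ {g : G}, χ g ≠ 1 → χ g = -1 := fun h => (Int.units_eq_one_or _).resolve_left h
  have hp2 : p = 2 := by
    by_contra h
    have h1 := congrArg χ (hS t₀ ht₀)
    rw [map_pow, map_one, hχ ht₀χ, (hp.out.odd_of_ne_two h).neg_one_pow] at h1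
    exact absurd h1 (by decide)
  subst hp2
  have ht2 : t₀ * t₀ = 1 := by rw [← sq]; exact hS t₀ ht₀
  have ht0i : t₀⁻¹ = t₀ := inv_eq_of_mul_eq_one_left ht2
  set U : Set G := {u | u ∈ S ∧ χ u = 1} ∪ {u | ∃ s ∈ S, χ s = 1 ∧ u = t₀ * s * t₀⁻¹} ∪
    {u | ∃ t ∈ S, χ t ≠ 1 ∧ u = t * t₀} with hU
  refine ⟨U, ?_, ?_⟩
  · rintro u ((⟨hu, -⟩ | ⟨s, hs, -, rfl⟩) | ⟨t, ht, htχ, rfl⟩)
    · exact hS u hu
    · rw [conj_pow, hS s hs, mul_one, mul_inv_cancel]
    · rw [(hc t ht t₀ ht₀ htχ ht₀χ).mul_pow, hS t ht, hS t₀ ht₀, one_mul]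
  · set V := Subgroup.closure U
    have hconj : ∀ v ∈ V, t₀ * v * t₀⁻¹ ∈ V := by
      intro v hv
      induction hv using Subgroup.closure_induction with
      | mem u hu =>
        rcases hu with (⟨hu, huχ⟩ | ⟨s, hs, hsχ, rfl⟩) | ⟨t, ht, htχ, rfl⟩
        · exact Subgroup.subset_closure (Or.inl (Or.inr ⟨u, hu, huχ, rfl⟩))
        · refine Subgroup.subset_closure (Or.inl (Or.inl ⟨?_, ?_⟩))
          · rw [ht0i, show t₀ * (t₀ * s * t₀) * t₀ = (t₀ * t₀) * s * (t₀ * t₀) by
              simp only [mul_assoc], ht2, one_mul, mul_one]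
            exact hs
          · simp [hsχ]
        · rw [← mul_assoc, mul_inv_cancel_right, (hc t₀ ht₀ t ht ht₀χ htχ).eq]
          exact Subgroup.subset_closure (Or.inr ⟨t, ht, htχ, rfl⟩)
      | one => simp
      | mul a b _ _ ha hb => rw [← conj_mul]; exact V.mul_mem ha hb
      | inv a _ ha => rw [← conj_inv]; exact V.inv_mem ha
    have hVle : V ≤ Subgroup.closure S ⊓ χ.ker := by
      rw [Subgroup.closure_le]
      rintro u ((⟨hu, huχ⟩ | ⟨s, hs, hsχ, rfl⟩) | ⟨t, ht, htχ, rfl⟩)
      · exact ⟨Subgroup.subset_closure hu, huχ⟩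
      · exact ⟨Subgroup.mul_mem _ (Subgroup.mul_mem _ (Subgroup.subset_closure ht₀)
          (Subgroup.subset_closure hs)) (Subgroup.inv_mem _ (Subgroup.subset_closure ht₀)),
          by simp [hsχ]⟩
      · exact ⟨Subgroup.mul_mem _ (Subgroup.subset_closure ht) (Subgroup.subset_closure ht₀),
          by simp [hχ htχ, hχ ht₀χ]⟩
    refine le_antisymm hVle ?_
    have hstep : ∀ s ∈ S, ∀ x, (x ∈ V ∨ x * t₀ ∈ V) → (s * x ∈ V ∨ s * x * t₀ ∈ V) := by
      intro s hs x hx
      by_cases hsχ : χ s = 1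
      · have hsV : s ∈ V := Subgroup.subset_closure (Or.inl (Or.inl ⟨hs, hsχ⟩))
        refine hx.imp (fun h => V.mul_mem hsV h) (fun h => ?_)
        rw [mul_assoc]
        exact V.mul_mem hsV h
      · have hstV : s * t₀ ∈ V := Subgroup.subset_closure (Or.inr ⟨s, hs, hsχ, rfl⟩)
        rcases hx with h | h
        · right
          rw [show s * x * t₀ = (s * t₀) * (t₀ * x * t₀⁻¹) by
            rw [ht0i, show (s * t₀) * (t₀ * x * t₀) = s * (t₀ * t₀) * x * t₀ by
              simp only [mul_assoc], ht2, mul_one]]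
          exact V.mul_mem hstV (hconj x h)
        · left
          rw [show s * x = (s * t₀) * (t₀ * (x * t₀) * t₀⁻¹) by
            rw [← mul_assoc, ← mul_assoc, ← mul_assoc, mul_inv_cancel_right, mul_assoc s, ht2,
              mul_one]]
          exact V.mul_mem hstV (hconj _ h)
    rintro g ⟨hg, hgχ⟩
    have hor : g ∈ V ∨ g * t₀ ∈ V := by
      clear hgχ
      induction hg using Subgroup.closure_induction_left with
      | one => exact Or.inl V.one_mem
      | mul_left s hs y _ hy => exact hstep s hs y hy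
      | inv_mul_cancel s hs y _ hy =>
        rw [inv_eq_of_mul_eq_one_left (by rw [← sq]; exact hS s hs : s * s = 1)]
        exact hstep s hs y hy
    refine hor.resolve_right fun h => ht₀χ ?_
    have h1 : χ (g * t₀) = 1 := (hVle h).2
    rwa [map_mul, show χ g = 1 from hgχ, one_mul] at h1

section Wreath

variable {p : ℕ} [hp : Fact p.Prime] {m : ℕ}

/-- Shifts of the columns. -/
def shift (v : Fin m → ZMod p) : Equiv.Perm (ZMod p × Fin m) where
  toFun a := (a.1 + v a.2, a.2)
  invFun a := (a.1 - v a.2, a.2)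
  left_inv a := by simp
  right_inv a := by simp

/-- Permutations of the columns. -/
def lift (σ : Equiv.Perm (Fin m)) : Equiv.Perm (ZMod p × Fin m) :=
  Equiv.prodCongrRight fun _ => σ

omit hp in
theorem lift_apply (σ : Equiv.Perm (Fin m)) (a : ZMod p × Fin m) :
    lift σ a = (a.1, σ a.2) := rfl

omit hp in
theorem shift_mul (v w : Fin m → ZMod p) : shift v * shift w = shift (v + w) := by
  ext a <;> simp [shift, add_comm (v _), add_assoc]

omit hp in
theorem shift_zero : shift (0 : Fin m → ZMod p) = 1 := by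
  ext a <;> simp [shift]

omit hp in
theorem lift_mul (σ τ : Equiv.Perm (Fin m)) : (lift σ : Equiv.Perm (ZMod p × Fin m)) * lift τ = lift (σ * τ) := rfl

omit hp in
theorem lift_shift (σ : Equiv.Perm (Fin m)) (w : Fin m → ZMod p) :
    lift σ * shift w = shift (fun i => w (σ⁻¹ i)) * lift σ := by
  ext a <;> simp [shift, lift_apply]

omit hp in
theorem shift_lift_mul (v w : Fin m → ZMod p) (σ τ : Equiv.Perm (Fin m)) :
    (shift v * lift σ) * (shift w * lift τ) = shift (v + fun i => w (σ⁻¹ i)) * lift (σ * τ) := by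
  rw [← shift_mul, ← lift_mul, mul_assoc, ← mul_assoc (lift σ), lift_shift]
  simp only [mul_assoc]

omit hp in
theorem shift_lift_injective : Function.Injective fun a : (Fin m → ZMod p) × Equiv.Perm (Fin m) =>
    shift a.1 * lift a.2 := by
  rintro ⟨v, σ⟩ ⟨w, τ⟩ h
  have h1 : ∀ i, (0 + v (σ i), σ i) = ((0 : ZMod p) + w (τ i), τ i) := fun i => by
    simpa [shift, lift_apply] using DFunLike.congr_fun h (0, i)
  have hσ : σ = τ := Equiv.ext fun i => (Prod.ext_iff.1 (h1 i)).2
  subst hσ
  refine Prod.ext (funext fun i => ?_) rfl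
  simpa using (Prod.ext_iff.1 (h1 (σ.symm i))).1

theorem wreath (S : Set (Equiv.Perm (Fin m))) (hS : ∀ s ∈ S, s ^ p = 1) :
    ∃ S' : Set (Equiv.Perm (ZMod p × Fin m)), (∀ s ∈ S', s ^ p = 1) ∧
      (∀ s ∈ S', ∀ t ∈ S', Equiv.Perm.sign s ≠ 1 → Equiv.Perm.sign t ≠ 1 → Commute s t) ∧
      Nat.card (Subgroup.closure S') = p ^ m * Nat.card (Subgroup.closure S) := by
  classical
  set P := Subgroup.closure S
  let b : Fin m → Equiv.Perm (ZMod p × Fin m) := fun i => shift (Pi.single i 1)
  refine ⟨Set.range b ∪ lift '' S, ?_, ?_, ?_⟩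
  · rintro s (⟨i, rfl⟩ | ⟨σ, hσ, rfl⟩)
    · have : ∀ (v : Fin m → ZMod p) (k : ℕ), shift v ^ k = shift (k • v) := fun v k => by
        induction k with
        | zero => simp [shift_zero]
        | succ k ih => rw [pow_succ, ih, shift_mul, succ_nsmul]
      rw [this, ← shift_zero]
      congr 1
      funext j
      simp
    · have : ∀ k : ℕ, (lift σ : Equiv.Perm (ZMod p × Fin m)) ^ k = lift (σ ^ k) := fun k => by
        induction k with
        | zero => ext a <;> simp [lift_apply]
        | succ k ih => rw [pow_succ, ih, lift_mul, pow_succ]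
      rw [this, hS σ hσ]
      ext a <;> simp [lift_apply]
  · have key : ∀ s ∈ Set.range b ∪ lift '' S, Equiv.Perm.sign s ≠ 1 → s ∈ Set.range b := by
      rintro s (hs | ⟨σ, hσ, rfl⟩) hne
      · exact hs
      · refine absurd ?_ hne
        rw [lift, Equiv.Perm.sign_prodCongrRight, Finset.prod_const, Finset.card_univ, ZMod.card,
          ← map_pow, hS σ hσ, map_one]
    intro s hs t ht hs' ht'
    obtain ⟨i, rfl⟩ := key s hs hs'
    obtain ⟨j, rfl⟩ := key t ht ht'
    show shift _ * shift _ = shift _ * shift _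
    rw [shift_mul, shift_mul, add_comm]
  · let F : (Fin m → ZMod p) × P → Equiv.Perm (ZMod p × Fin m) := fun a =>
      shift a.1 * lift (a.2 : Equiv.Perm (Fin m))
    let W : Subgroup (Equiv.Perm (ZMod p × Fin m)) :=
      { carrier := Set.range F
        one_mem' := ⟨(0, 1), by ext a <;> simp [F, shift, lift_apply]⟩
        mul_mem' := by
          rintro _ _ ⟨⟨v, σ⟩, rfl⟩ ⟨⟨w, τ⟩, rfl⟩
          exact ⟨(v + fun i => w ((σ : Equiv.Perm (Fin m))⁻¹ i), σ * τ), (shift_lift_mul v w _ _).symm⟩
        inv_mem' := by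
          rintro _ ⟨⟨v, σ⟩, rfl⟩
          refine ⟨(fun i => -v ((σ : Equiv.Perm (Fin m)) i), σ⁻¹), eq_inv_of_mul_eq_one_left ?_⟩
          simp only [F]
          rw [shift_lift_mul, Subgroup.coe_inv, inv_mul_cancel]
          ext a <;> simp [shift, lift_apply] }
    have hW : Subgroup.closure (Set.range b ∪ lift '' S) = W := by
      refine le_antisymm ((Subgroup.closure_le _).2 ?_) ?_
      · rintro s (⟨i, rfl⟩ | ⟨σ, hσ, rfl⟩)
        · exact ⟨(Pi.single i 1, 1), by ext a <;> simp [F, b, shift, lift_apply]⟩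
        · exact ⟨(0, ⟨σ, Subgroup.subset_closure hσ⟩), by ext a <;> simp [F, shift, lift_apply]⟩
      · set D := Subgroup.closure (Set.range b ∪ lift '' S)
        rintro _ ⟨⟨v, σ⟩, rfl⟩
        refine D.mul_mem ?_ ?_
        · let A : AddSubmonoid (Fin m → ZMod p) :=
            { carrier := {w | shift w ∈ D}
              zero_mem' := by show shift 0 ∈ D; rw [shift_zero]; exact D.one_mem
              add_mem' := fun {x y} hx hy => by
                show shift (x + y) ∈ D; rw [← shift_mul]; exact D.mul_mem hx hy }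
          show v ∈ A
          rw [← Finset.univ_sum_single v]
          refine A.sum_mem fun i _ => ?_
          have h1 : Pi.single i (v i) = (v i).val • (Pi.single i (1 : ZMod p) : Fin m → ZMod p) := by
            funext j
            by_cases hj : j = i
            · subst hj; simp [ZMod.natCast_zmod_val]
            · simp [hj]
          rw [h1]
          exact A.nsmul_mem (Subgroup.subset_closure (Or.inl ⟨i, rfl⟩)) _
        · show lift _ ∈ D
          let L : Equiv.Perm (Fin m) →* Equiv.Perm (ZMod p × Fin m) :=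
            MonoidHom.mk' lift fun σ τ => (lift_mul σ τ).symm
          have hle : P ≤ D.comap L := (Subgroup.closure_le _).2 fun x hx =>
            Subgroup.subset_closure (Or.inr ⟨x, hx, rfl⟩)
          exact hle σ.2
    rw [hW]
    have hinj : Function.Injective F := fun a c h =>
      Prod.ext (Prod.ext_iff.1 (shift_lift_injective (a₁ := (a.1, (a.2 : Equiv.Perm (Fin m))))
        (a₂ := (c.1, (c.2 : Equiv.Perm (Fin m)))) h)).1
        (Subtype.ext (Prod.ext_iff.1 (shift_lift_injective (a₁ := (a.1, (a.2 : Equiv.Perm (Fin m))))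
        (a₂ := (c.1, (c.2 : Equiv.Perm (Fin m)))) h)).2)
    show Nat.card (Set.range F) = _
    rw [Nat.card_range_of_injective hinj, Nat.card_prod, Nat.card_fun, Nat.card_zmod, Nat.card_fin]

end Wreath

/-- A Sylow subgroup of the symmetric group with good generators. -/
theorem exists_gens (p : ℕ) [hp : Fact p.Prime] : ∀ n : ℕ, ∃ S : Set (Equiv.Perm (Fin n)),
    (∀ s ∈ S, s ^ p = 1) ∧
    (∀ s ∈ S, ∀ t ∈ S, Equiv.Perm.sign s ≠ 1 → Equiv.Perm.sign t ≠ 1 → Commute s t) ∧
    Nat.card (Subgroup.closure S) = p ^ (Nat.factorial n).factorization p := by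
  intro n
  induction n using Nat.strong_induction_on with
  | _ n ih =>
    rcases Nat.eq_zero_or_pos n with hn | hn
    · subst hn
      exact ⟨∅, by simp, by simp, by simp⟩
    obtain ⟨S, hS, -, hcard⟩ := ih (n / p) (Nat.div_lt_self hn hp.out.one_lt)
    obtain ⟨S', hS', hc', hcard'⟩ := wreath (p := p) S hS
    have hle : Fintype.card (ZMod p × Fin (n / p)) ≤ Fintype.card (Fin n) := by
      simp only [Fintype.card_prod, ZMod.card, Fintype.card_fin]
      exact Nat.mul_div_le n p
    obtain ⟨e⟩ := Function.Embedding.nonempty_of_card_le hle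
    set φ := Equiv.Perm.viaEmbeddingHom e with hφ
    have hsign : ∀ σ, Equiv.Perm.sign (φ σ) = Equiv.Perm.sign σ := fun σ => by
      classical
      rw [hφ, Equiv.Perm.viaEmbeddingHom_apply, Equiv.Perm.viaEmbedding]
      convert Equiv.Perm.sign_extendDomain σ (Equiv.ofInjective e.1 e.2)
    refine ⟨φ '' S', ?_, ?_, ?_⟩
    · rintro _ ⟨σ, hσ, rfl⟩
      rw [← map_pow, hS' σ hσ, map_one]
    · rintro _ ⟨σ, hσ, rfl⟩ _ ⟨τ, hτ, rfl⟩ h1 h2
      rw [hsign] at h1 h2
      exact (hc' σ hσ τ hτ h1 h2).map φ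
    · rw [← MonoidHom.map_closure, Subgroup.card_map_of_injective
        (Equiv.Perm.viaEmbeddingHom_injective e), hcard', hcard, ← pow_add]
      congr 1
      rw [Nat.factorization_def _ hp.out, Nat.factorization_def _ hp.out,
        ← padicValNat_mul_div_factorial n, padicValNat_factorial_mul, add_comm]


/-- For every prime p and every n, a Sylow p-subgroup P of the symmetric group on n letters has P/P' elementary abelian (the p-th power of every element of P lies in the derived subgroup of P), and the same holds for a Sylow p-subgroup of the alternating group on n letters. -/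
theorem result (p : ℕ) [Fact p.Prime] (n : ℕ) (P : Sylow p (Equiv.Perm (Fin n))) (Q : Sylow p (alternatingGroup (Fin n))) :
    (∀ x : (P : Subgroup (Equiv.Perm (Fin n))), x ^ p ∈ commutator (P : Subgroup (Equiv.Perm (Fin n)))) ∧
    (∀ x : (Q : Subgroup (alternatingGroup (Fin n))), x ^ p ∈ commutator (Q : Subgroup (alternatingGroup (Fin n)))) := by
  classical
  obtain ⟨S, hS, hc, hcard⟩ := exists_gens p n
  have hG : Nat.card (Equiv.Perm (Fin n)) = n.factorial := by
    rw [Nat.card_perm, Nat.card_fin]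
  let D : Sylow p (Equiv.Perm (Fin n)) := Sylow.ofCard (Subgroup.closure S) (by rw [hG]; exact hcard)
  have hD : (D : Subgroup (Equiv.Perm (Fin n))) = Subgroup.closure S := rfl
  refine ⟨ElemAb.of_equiv (D.equiv P) (by rw [hD]; exact elemAb_closure S hS), ?_⟩
  obtain ⟨U, hU, hUcl⟩ := exists_gens_ker Equiv.Perm.sign S hS hc
  set A := alternatingGroup (Fin n)
  have hAn : A.Normal := MonoidHom.normal_ker _
  have hi : ¬ p ∣ ((D : Subgroup (Equiv.Perm (Fin n))).subgroupOf A).index := by
    intro h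
    set H : Subgroup (Equiv.Perm (Fin n)) := (D : Subgroup (Equiv.Perm (Fin n))) with hH
    have h' : p ∣ (H ⊓ A).relIndex A := by
      rw [Subgroup.inf_relIndex_right]; exact h
    have h1 := Subgroup.relIndex_mul_index (inf_le_right : H ⊓ A ≤ A)
    have h2 := Subgroup.relIndex_mul_index (inf_le_left : H ⊓ A ≤ H)
    rw [Subgroup.inf_relIndex_left] at h2
    obtain ⟨k, hk⟩ := Subgroup.relIndex_dvd_index_of_normal (H := A) (K := H)
    rw [← h2, hk, mul_left_comm] at h1
    have h3 : H.index = (H ⊓ A).relIndex A * k :=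
      (Nat.eq_of_mul_eq_mul_left (Nat.pos_of_ne_zero Subgroup.FiniteIndex.index_ne_zero) h1).symm
    exact D.not_dvd_index (h3 ▸ h'.mul_right k)
  let D0 : Sylow p A := (D.2.comap_subtype (K := A)).toSylow hi
  have hmap : ((D0 : Subgroup A)).map A.subtype = Subgroup.closure U := by
    rw [hUcl, show (D0 : Subgroup A) = (D : Subgroup (Equiv.Perm (Fin n))).subgroupOf A from rfl,
      Subgroup.subgroupOf_map_subtype, hD]
    rfl
  refine ElemAb.of_equiv ?_ (elemAb_closure U hU)
  exact ((Subgroup.equivMapOfInjective _ _ A.subtype_injective).trans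
    (MulEquiv.subgroupCongr hmap)).symm.trans (D0.equiv _)

end Cfsg.Agent.S4623
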