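import Cfsg.Statements.S3909
import Mathlib

set_option autoImplicit false
open Cfsg

namespace Cfsg.Agent.S3909

/-- Let G be a finite group in which any two abelian subgroups of the same order are conjugate. Let M be a normal subgroup of G. If M contains an element of the same order as a ∈ G, then a ∈ M; and if M is elementary abelian of order p^t with p prime and t ≥ 2, then M is the unique Sylow p-subgroup of G. -/
theorem result {G : Type*} [Group G] [Finite G] (hB : ∀ A B : Subgroup G, IsMulCommutative ↥A → IsMulCommutative ↥B → Nat.card ↥A = Nat.card ↥B → ∃ g : G, B = A.map (MulAut.conj g).toMonoidHom) (M : Subgroup G) [M.Normal] :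
    (∀ a : G, (∃ m ∈ M, orderOf m = orderOf a) → a ∈ M) ∧
    ∀ (p t : ℕ) [Fact p.Prime], 2 ≤ t → Nat.card ↥M = p ^ t → Cfsg.IsElementaryAbelian p M → ∀ P : Sylow p G, (P : Subgroup G) = M := by
  have hmem : ∀ a : G, (∃ m ∈ M, orderOf m = orderOf a) → a ∈ M := by
    rintro a ⟨m, hm, hord⟩
    obtain ⟨g, hg⟩ := hB (Subgroup.zpowers m) (Subgroup.zpowers a) inferInstance inferInstance
      (by rw [Nat.card_zpowers, Nat.card_zpowers, hord])
    have ha : a ∈ Subgroup.zpowers a := Subgroup.mem_zpowers a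
    rw [hg] at ha
    obtain ⟨z, hz, rfl⟩ := ha
    exact (inferInstance : M.Normal).conj_mem z ((Subgroup.zpowers_le.mpr hm) hz) g
  refine ⟨hmem, ?_⟩
  intro p t hpf ht hcard hel P
  have hMp : IsPGroup p M := IsPGroup.of_card hcard
  have hMP : M ≤ (P : Subgroup G) := hMp.le_sylow_of_normal P
  have hexp : ∀ x ∈ (P : Subgroup G), x ^ p = 1 := by
    intro x hx
    obtain ⟨j, hj⟩ := IsPGroup.iff_orderOf.mp P.2 ⟨x, hx⟩
    rw [Subgroup.orderOf_mk] at hj
    by_contra hne
    have hj2 : 2 ≤ j := by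
      by_contra h
      apply hne
      exact orderOf_dvd_iff_pow_eq_one.mp (hj ▸ (pow_dvd_pow p (by omega : j ≤ 1)).trans (by rw [pow_one]))
    set y := x ^ p ^ (j - 2) with hy
    have hyo : orderOf y = p ^ 2 := by
      rw [hy, orderOf_pow_of_dvd (pow_ne_zero _ hpf.out.ne_zero) (hj ▸ pow_dvd_pow p (by omega)), hj,
        Nat.pow_div (by omega) hpf.out.pos]
      congr 1
      omega
    obtain ⟨K, hK⟩ := Sylow.exists_subgroup_card_pow_prime p
      (show p ^ 2 ∣ Nat.card M by rw [hcard]; exact pow_dvd_pow p ht)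
    have hKab : IsMulCommutative ↥(K.map M.subtype) := by
      have := hel.1
      exact K.map_isMulCommutative _
    obtain ⟨g, hg⟩ := hB (K.map M.subtype) (Subgroup.zpowers y) hKab inferInstance
      (by rw [Subgroup.card_map_of_injective M.subtype_injective, hK, Nat.card_zpowers, hyo])
    have hym : y ∈ Subgroup.zpowers y := Subgroup.mem_zpowers y
    rw [hg] at hym
    obtain ⟨z, ⟨w, hw, rfl⟩, hzy⟩ := hym
    have hwp : y ^ p = 1 := by
      rw [← hzy, ← map_pow]
      simp [hel.2 (w : G) w.2]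
    have := Nat.le_of_dvd hpf.out.pos (hyo ▸ orderOf_dvd_of_pow_eq_one hwp)
    have h2 := hpf.out.two_le
    nlinarith
  refine le_antisymm (fun x hx => ?_) hMP
  by_cases hx1 : x = 1
  · rw [hx1]; exact M.one_mem
  have hxo : orderOf x = p := orderOf_eq_prime (hexp x hx) hx1
  obtain ⟨m, hm, hm1⟩ : ∃ m ∈ M, m ≠ 1 := by
    by_contra h
    push Not at h
    have : M = ⊥ := (Subgroup.eq_bot_iff_forall _).mpr h
    rw [this, Subgroup.card_bot] at hcard
    have h2 := Nat.le_self_pow (show t ≠ 0 by omega) p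
    have h3 := hpf.out.two_le
    omega
  exact hmem x ⟨m, hm, by rw [orderOf_eq_prime (hel.2 m hm) hm1, hxo]⟩

end Cfsg.Agent.S3909
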