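import Cfsg.Statements.S4034
import Cfsg.Agent.H79Basic
import Cfsg.Agent.Lib.Characters.Burnside
import Cfsg.Agent.Lib.Hall.Solvable
import Cfsg.Agent.Lib.Solvable.Fitting

set_option autoImplicit false
open Cfsg

namespace Cfsg.Agent.S4034

open Pointwise

universe u

theorem ncard_carrier_eq_index {G : Type*} [Group G] (x : G) :
    (ConjClasses.mk x).carrier.ncard = (Subgroup.centralizer ({x} : Set G)).index := by
  rw [← ConjAct.orbit_eq_carrier_conjClasses, ← MulAction.index_stabilizer (ConjAct G) (x : G),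
    ConjAct.stabilizer_eq_centralizer]
  rfl

theorem relIndex_dvd_index_of_normal_right {G : Type*} [Group G] [Finite G] (C N : Subgroup G) [N.Normal] :
    C.relIndex N ∣ C.index := by
  have h := CfsgLib.Coprime.card_sup_mul_card_inf (H := C) (N := N)
    (by rw [Subgroup.normalizer_eq_top_iff.2 inferInstance]; exact le_top)
  have h2 : Nat.card (C ⊔ N : Subgroup G) = Nat.card C * C.relIndex N := by
    apply Nat.eq_of_mul_eq_mul_right (Nat.card_pos (α := (C ⊓ N : Subgroup G)))
    rw [inf_comm] at h
    rw [h, mul_assoc, ← Subgroup.inf_relIndex_right]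
    congr 1
    rw [mul_comm, ← Subgroup.relIndex_bot_left (C ⊓ N), Subgroup.relIndex_mul_relIndex ⊥ (C ⊓ N) N bot_le inf_le_right,
      Subgroup.relIndex_bot_left]
  have h3 := Subgroup.card_subgroup_dvd_card (C ⊔ N)
  rw [h2, ← C.card_mul_index] at h3
  exact (Nat.mul_dvd_mul_iff_left Nat.card_pos).1 h3

theorem isSolvable_of_pRegular_index (p : ℕ) (hp : p.Prime) :
    ∀ (n : ℕ) (G : Type u) [Group G] [Finite G], Nat.card G = n →
      (∀ x : G, (orderOf x).Coprime p → ∃ k, (Subgroup.centralizer ({x} : Set G)).index = p ^ k) →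
      Group.IsSolvable G := by
  intro n
  induction n using Nat.strong_induction_on with
  | _ n ih =>
    intro G _ _ hn hG
    classical
    have : Fact p.Prime := ⟨hp⟩
    rcases subsingleton_or_nontrivial G with h | h
    · infer_instance
    by_cases hsimple : IsSimpleGroup G
    · by_cases hx : ∃ x : G, x ≠ 1 ∧ (orderOf x).Coprime p
      · obtain ⟨x, hx1, hx2⟩ := hx
        obtain ⟨k, hk⟩ := hG x hx2
        have hpr := CfsgLib.Burnside.prime_card_of_prime_power_class hp hx1 hk
        have := Fact.mk hpr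
        have := isCyclic_of_prime_card (α := G) rfl
        exact Group.isSolvable_of_comm (fun a b => (IsCyclic.commGroup (α := G)).mul_comm a b)
      · have hP : IsPGroup p G := by
          intro g
          obtain ⟨a, m, hm, ho⟩ := Nat.exists_eq_pow_mul_and_not_dvd (orderOf_pos g).ne' p hp.ne_one
          refine ⟨a, ?_⟩
          by_contra hne
          refine hx ⟨g ^ (p ^ a), hne, ?_⟩
          rw [orderOf_pow' g (pow_ne_zero a hp.ne_zero), ho, Nat.gcd_eq_right (dvd_mul_right _ m),
            Nat.mul_div_cancel_left _ (pow_pos hp.pos a)]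
          exact ((hp.coprime_iff_not_dvd).2 hm).symm
        have := hP.isNilpotent
        infer_instance
    · obtain ⟨N, hNn, hNb, hNt⟩ : ∃ N : Subgroup G, N.Normal ∧ N ≠ ⊥ ∧ N ≠ ⊤ := by
        by_contra hcon
        exact hsimple ⟨fun N hN => by
          by_contra hne
          rw [not_or] at hne
          exact hcon ⟨N, hN, hne.1, hne.2⟩⟩
      have hN : Group.IsSolvable N := by
        refine ih (Nat.card N) (hn ▸ lt_of_le_of_ne (Subgroup.card_le_card_group N)
          (fun h => hNt ((Subgroup.card_eq_iff_eq_top N).1 h))) N rfl (fun x hx => ?_)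
        obtain ⟨k, hk⟩ := hG (x : G) (by rwa [Subgroup.orderOf_coe])
        set C := Subgroup.centralizer ({(x : G)} : Set G) with hC
        have hsub : C.subgroupOf N = Subgroup.centralizer ({x} : Set N) := by
          ext y
          rw [Subgroup.mem_subgroupOf, hC, H79.mem_centralizer_singleton, H79.mem_centralizer_singleton]
          exact ⟨fun h => Subtype.ext h, fun h => congrArg Subtype.val h⟩
        rw [← hsub]
        have hdvd : C.relIndex N ∣ p ^ k := hk ▸ relIndex_dvd_index_of_normal_right C N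
        obtain ⟨j, -, hj⟩ := (Nat.dvd_prime_pow hp).1 hdvd
        exact ⟨j, hj⟩
      have hQ : Group.IsSolvable (G ⧸ N) := by
        refine ih (Nat.card (G ⧸ N)) ?_ (G ⧸ N) rfl (fun y hy => ?_)
        · rw [← hn, Subgroup.card_eq_card_quotient_mul_card_subgroup N]
          exact lt_mul_of_one_lt_right Nat.card_pos (Subgroup.one_lt_card_iff_ne_bot N |>.2 hNb)
        · obtain ⟨g, rfl⟩ := QuotientGroup.mk_surjective y
          obtain ⟨a, m, hm, ho⟩ := Nat.exists_eq_pow_mul_and_not_dvd (orderOf_pos g).ne' p hp.ne_one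
          have hx : (orderOf (g ^ p ^ a)).Coprime p := by
            rw [orderOf_pow' g (pow_ne_zero a hp.ne_zero), ho, Nat.gcd_eq_right (dvd_mul_right _ m),
              Nat.mul_div_cancel_left _ (pow_pos hp.pos a)]
            exact ((hp.coprime_iff_not_dvd).2 hm).symm
          obtain ⟨k, hk⟩ := hG _ hx
          have hz : (g : G ⧸ N) ∈ Subgroup.zpowers ((g : G ⧸ N) ^ p ^ a) := by
            obtain ⟨j, hj⟩ := exists_pow_eq_self_of_coprime (x := (g : G ⧸ N)) (n := p ^ a)
              ((hy.pow_right a).symm)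
            exact Subgroup.mem_zpowers_iff.2 ⟨(j : ℤ), by rw [zpow_natCast]; exact hj⟩
          have hle : (Subgroup.centralizer ({g ^ p ^ a} : Set G)).map (QuotientGroup.mk' N) ≤
              Subgroup.centralizer ({(g : G ⧸ N)} : Set (G ⧸ N)) := by
            rintro _ ⟨c, hc, rfl⟩
            rw [SetLike.mem_coe, H79.mem_centralizer_singleton] at hc
            rw [H79.mem_centralizer_singleton]
            obtain ⟨j, hj⟩ := Subgroup.mem_zpowers_iff.1 hz
            have hcomm : Commute (QuotientGroup.mk' N c) (QuotientGroup.mk' N (g ^ p ^ a)) :=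
              (show Commute c (g ^ p ^ a) from hc).map _
            rw [← hj]
            exact (hcomm.zpow_right j).eq
          have hdvd : (Subgroup.centralizer ({(g : G ⧸ N)} : Set (G ⧸ N))).index ∣ p ^ k :=
            (Subgroup.index_dvd_of_le hle).trans
              (hk ▸ Subgroup.index_map_dvd _ (QuotientGroup.mk'_surjective N))
          obtain ⟨j, -, hj⟩ := (Nat.dvd_prime_pow hp).1 hdvd
          exact ⟨j, hj⟩
      exact Group.isSolvable_of_ker_le_range N.subtype (QuotientGroup.mk' N) (by simp)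

theorem abelian_hall_of_pRegular_index (p : ℕ) (hp : p.Prime) :
    ∀ (n : ℕ) (G : Type u) [Group G] [Finite G], Nat.card G = n →
      (∀ x : G, (orderOf x).Coprime p → ∃ k, (Subgroup.centralizer ({x} : Set G)).index = p ^ k) →
      ∀ (a m : ℕ) (_ : ¬ p ∣ m), Nat.card G = m * p ^ a →
        ∀ H : Subgroup G, Nat.card H = m → IsMulCommutative H := by
  intro n
  induction n using Nat.strong_induction_on with
  | _ n ih =>
    intro G _ _ hn hG a m hm hcard H hH
    classical
    have : Fact p.Prime := ⟨hp⟩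
    have hsolv : Group.IsSolvable G := isSolvable_of_pRegular_index p hp n G hn hG
    have hcop : m.Coprime (p ^ a) := Nat.Coprime.pow_right _ ((hp.coprime_iff_not_dvd).2 hm).symm
    set O := Cfsg.pCore p G with hO
    have hOn : O.Normal := CfsgLib.Fitting.pCore_normal p
    by_cases hO1 : O = ⊥
    · set F := Cfsg.fittingSubgroup G with hF
      have hFn : F.Normal := CfsgLib.Fitting.fitting_normal
      have hFp : ¬ p ∣ Nat.card F := by
        intro hd
        obtain ⟨P⟩ : Nonempty (Sylow p F) := inferInstance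
        have hPne := P.ne_bot_of_dvd_card hd
        apply hPne
        have h1 := CfsgLib.Fitting.sylow_fitting_eq_pCore (G := G) (p := p) P
        rw [← hO, hO1, Subgroup.map_eq_bot_iff_of_injective _ (Subgroup.subtype_injective _)] at h1
        exact h1
      have hFm : (Nat.card F).Coprime (p ^ a) := Nat.Coprime.pow_right _ ((hp.coprime_iff_not_dvd).2 hFp).symm
      have hFH : ∀ K : Subgroup G, Nat.card K = m → F ≤ K := by
        intro K hK
        obtain ⟨B, hB, hdom⟩ := CfsgLib.Hall.exists_hall_dominating hcard hcop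
        obtain ⟨g, hg⟩ := hdom F hFm
        obtain ⟨g', hg'⟩ := CfsgLib.Hall.conj_of_card hcard hcop hB hK
        intro f hf
        rw [← hg', CfsgLib.Coprime.mem_conj_smul]
        apply hg
        rw [CfsgLib.Coprime.mem_conj_smul]
        exact hFn.conj_mem' _ (hFn.conj_mem' f hf g') g
      have hhall : ∀ x ∈ H, ∃ K : Subgroup G, Nat.card K = m ∧ K ≤ Subgroup.centralizer ({x} : Set G) := by
        intro x hx
        obtain ⟨k, hk⟩ := hG x (Nat.Coprime.coprime_dvd_left (Subgroup.orderOf_dvd_natCard H hx)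
          (hH ▸ ((hp.coprime_iff_not_dvd).2 hm).symm))
        set C := Subgroup.centralizer ({x} : Set G) with hC
        have h1 : Nat.card C * p ^ k = m * p ^ a := by rw [← hk, C.card_mul_index, hcard]
        have hka : k ≤ a := by
          by_contra hlt
          apply hm
          have h2 : p ^ (a + 1) ∣ m * p ^ a :=
            h1 ▸ dvd_mul_of_dvd_right (pow_dvd_pow p (by omega)) _
          rw [pow_succ, mul_comm m] at h2
          exact (Nat.mul_dvd_mul_iff_left (pow_pos hp.pos a)).1 h2
        have hCcard : Nat.card C = m * p ^ (a - k) := by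
          apply Nat.eq_of_mul_eq_mul_right (pow_pos hp.pos k)
          rw [h1, mul_assoc, ← pow_add, Nat.sub_add_cancel hka]
        obtain ⟨K, hK⟩ := CfsgLib.Hall.exists_subgroup_card hCcard
          (Nat.Coprime.pow_right _ ((hp.coprime_iff_not_dvd).2 hm).symm)
        refine ⟨K.map C.subtype, ?_, Subgroup.map_subtype_le K⟩
        rw [Subgroup.card_map_of_injective C.subtype_injective, hK]
      have hHF : H ≤ F := by
        intro x hx
        apply CfsgLib.Fitting.centralizer_fitting_le
        obtain ⟨K, hK, hKC⟩ := hhall x hx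
        rw [Subgroup.mem_centralizer_iff]
        intro f hf
        exact H79.mem_centralizer_singleton.1 (hKC (hFH K hK hf))
      refine ⟨⟨fun x y => Subtype.ext ?_⟩⟩
      obtain ⟨K, hK, hKC⟩ := hhall (y : G) y.2
      exact H79.mem_centralizer_singleton.1 (hKC (hFH K hK (hHF x.2)))
    · have hlt : Nat.card (G ⧸ O) < n := by
        rw [← hn, Subgroup.card_eq_card_quotient_mul_card_subgroup O]
        exact lt_mul_of_one_lt_right Nat.card_pos (Subgroup.one_lt_card_iff_ne_bot O |>.2 hO1)
      obtain ⟨b, hb⟩ := IsPGroup.iff_card.1 (CfsgLib.Fitting.pCore_isPGroup (G := G) p)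
      have hdisj : H ⊓ O = ⊥ :=
        CfsgLib.Coprime.inf_eq_bot_of_coprime_dvd (b := p ^ b) (a := m) (by rw [hH]) (by rw [hO, hb])
          (Nat.Coprime.pow_right _ ((hp.coprime_iff_not_dvd).2 hm).symm)
      have hq : ∀ x : G ⧸ O, (orderOf x).Coprime p →
          ∃ k, (Subgroup.centralizer ({x} : Set (G ⧸ O))).index = p ^ k := by
        intro y hy
        obtain ⟨g, rfl⟩ := QuotientGroup.mk_surjective y
        obtain ⟨e, d, hd, ho⟩ := Nat.exists_eq_pow_mul_and_not_dvd (orderOf_pos g).ne' p hp.ne_one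
        have hx : (orderOf (g ^ p ^ e)).Coprime p := by
          rw [orderOf_pow' g (pow_ne_zero e hp.ne_zero), ho, Nat.gcd_eq_right (dvd_mul_right _ d),
            Nat.mul_div_cancel_left _ (pow_pos hp.pos e)]
          exact ((hp.coprime_iff_not_dvd).2 hd).symm
        obtain ⟨k, hk⟩ := hG _ hx
        obtain ⟨j, hj⟩ := exists_pow_eq_self_of_coprime (x := (g : G ⧸ O)) (n := p ^ e)
          ((hy.pow_right e).symm)
        have hle : (Subgroup.centralizer ({g ^ p ^ e} : Set G)).map (QuotientGroup.mk' O) ≤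
            Subgroup.centralizer ({(g : G ⧸ O)} : Set (G ⧸ O)) := by
          rintro _ ⟨c, hc, rfl⟩
          rw [SetLike.mem_coe, H79.mem_centralizer_singleton] at hc
          rw [H79.mem_centralizer_singleton]
          have hcomm : Commute (QuotientGroup.mk' O c) (QuotientGroup.mk' O (g ^ p ^ e)) :=
            (show Commute c (g ^ p ^ e) from hc).map _
          rw [← hj]
          exact (hcomm.pow_right j).eq
        have hdvd : (Subgroup.centralizer ({(g : G ⧸ O)} : Set (G ⧸ O))).index ∣ p ^ k :=
          (Subgroup.index_dvd_of_le hle).trans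
            (hk ▸ Subgroup.index_map_dvd _ (QuotientGroup.mk'_surjective O))
        obtain ⟨i, -, hi⟩ := (Nat.dvd_prime_pow hp).1 hdvd
        exact ⟨i, hi⟩
      have hH' : Nat.card (H.map (QuotientGroup.mk' O)) = m := by
        rw [CfsgLib.Coprime.card_map_of_disjoint _ (by rw [QuotientGroup.ker_mk']; first | exact hdisj | (rw [inf_comm]; exact hdisj)), hH]
      have hcard' : Nat.card (G ⧸ O) = m * p ^ (a - b) := by
        have h1 := Subgroup.card_eq_card_quotient_mul_card_subgroup O
        have hba : b ≤ a := by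
          have h2 : p ^ b ∣ m * p ^ a := hcard ▸ (hb ▸ Subgroup.card_subgroup_dvd_card O)
          exact (Nat.pow_dvd_pow_iff_le_right hp.one_lt).1
            ((Nat.Coprime.pow_left _ ((hp.coprime_iff_not_dvd).2 hm)).dvd_of_dvd_mul_left h2)
        rw [hO, hb, ← hO, hcard] at h1
        apply Nat.eq_of_mul_eq_mul_right (pow_pos hp.pos b)
        rw [← h1, mul_assoc, ← pow_add, Nat.sub_add_cancel hba]
      have habel := ih _ hlt (G ⧸ O) rfl hq (a - b) m hm hcard' _ hH'
      refine ⟨⟨fun x y => Subtype.ext ?_⟩⟩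
      have h2 := congrArg Subtype.val (habel.is_comm.comm
        (⟨_, Subgroup.mem_map_of_mem _ x.2⟩ : H.map (QuotientGroup.mk' O)) ⟨_, Subgroup.mem_map_of_mem _ y.2⟩)
      simp only [Subgroup.coe_mul, QuotientGroup.mk'_apply, ← QuotientGroup.mk_mul] at h2
      have h3 : ((x : G) * y)⁻¹ * ((y : G) * x) ∈ H ⊓ O :=
        ⟨H.mul_mem (H.inv_mem (H.mul_mem x.2 y.2)) (H.mul_mem y.2 x.2), QuotientGroup.eq.1 h2⟩
      rw [hdisj, Subgroup.mem_bot, inv_mul_eq_one] at h3
      exact h3

theorem isSolvable_of_abelian_complement (p : ℕ) (hp : p.Prime) :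
    ∀ (n : ℕ) (G : Type u) [Group G] [Finite G], Nat.card G = n →
      ∀ H : Subgroup G, IsMulCommutative H → ¬ p ∣ Nat.card H → (∃ k, H.index = p ^ k) → Group.IsSolvable G := by
  intro n
  induction n using Nat.strong_induction_on with
  | _ n ih =>
    intro G _ _ hn H hab hpH hk
    obtain ⟨k, hk⟩ := hk
    classical
    have : Fact p.Prime := ⟨hp⟩
    rcases subsingleton_or_nontrivial G with h | h
    · infer_instance
    by_cases hsimple : IsSimpleGroup G
    · by_cases hH : H = ⊥
      · have hP : IsPGroup p G := IsPGroup.of_card (n := k) (by rw [← hk, hH, Subgroup.index_bot])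
        have := hP.isNilpotent
        infer_instance
      · obtain ⟨⟨x, hx⟩, hx1⟩ := Subgroup.ne_bot_iff_exists_ne_one.1 hH
        have hle : H ≤ Subgroup.centralizer ({x} : Set G) := fun y hy =>
          H79.mem_centralizer_singleton.2 (congrArg Subtype.val (hab.is_comm.comm ⟨y, hy⟩ ⟨x, hx⟩))
        obtain ⟨j, -, hj⟩ := (Nat.dvd_prime_pow hp).1 (hk ▸ Subgroup.index_dvd_of_le hle)
        have hpr := CfsgLib.Burnside.prime_card_of_prime_power_class hp (fun h => hx1 (Subtype.ext h)) hj
        have := Fact.mk hpr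
        have := isCyclic_of_prime_card (α := G) rfl
        exact Group.isSolvable_of_comm (fun a b => (IsCyclic.commGroup (α := G)).mul_comm a b)
    · obtain ⟨N, hNn, hNb, hNt⟩ : ∃ N : Subgroup G, N.Normal ∧ N ≠ ⊥ ∧ N ≠ ⊤ := by
        by_contra hcon
        exact hsimple ⟨fun N hN => by
          by_contra hne
          rw [not_or] at hne
          exact hcon ⟨N, hN, hne.1, hne.2⟩⟩
      have hN : Group.IsSolvable N := by
        refine ih (Nat.card N) (hn ▸ lt_of_le_of_ne (Subgroup.card_le_card_group N)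
          (fun h => hNt ((Subgroup.card_eq_iff_eq_top N).1 h))) N rfl (H.subgroupOf N) ⟨⟨fun a b => ?_⟩⟩ ?_ ?_
        · apply Subtype.ext
          apply Subtype.ext
          simp only [Subgroup.coe_mul]
          exact congrArg Subtype.val (hab.is_comm.comm (⟨((a : N) : G), a.2⟩ : H) ⟨((b : N) : G), b.2⟩)
        · intro hd
          apply hpH
          refine hd.trans (Subgroup.card_dvd_of_injective
            (⟨⟨fun a => ⟨_, a.2⟩, rfl⟩, fun a b => rfl⟩ : H.subgroupOf N →* H) ?_)
          exact fun a b hab => Subtype.ext (Subtype.ext (congrArg (fun t : H => (t : G)) hab))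
        · have hdvd : H.relIndex N ∣ p ^ k := hk ▸ relIndex_dvd_index_of_normal_right H N
          obtain ⟨j, -, hj⟩ := (Nat.dvd_prime_pow hp).1 hdvd
          exact ⟨j, hj⟩
      have hQ : Group.IsSolvable (G ⧸ N) := by
        refine ih (Nat.card (G ⧸ N)) ?_ (G ⧸ N) rfl (H.map (QuotientGroup.mk' N)) ?_ ?_ ?_
        · rw [← hn, Subgroup.card_eq_card_quotient_mul_card_subgroup N]
          exact lt_mul_of_one_lt_right Nat.card_pos (Subgroup.one_lt_card_iff_ne_bot N |>.2 hNb)
        · refine ⟨⟨?_⟩⟩
          rintro ⟨_, a, ha, rfl⟩ ⟨_, b, hb, rfl⟩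
          apply Subtype.ext
          simp only [Subgroup.coe_mul, ← map_mul]
          exact congrArg _ (congrArg Subtype.val (hab.is_comm.comm ⟨a, ha⟩ ⟨b, hb⟩))
        · exact fun hd => hpH (hd.trans (Subgroup.card_map_dvd H _))
        · obtain ⟨j, -, hj⟩ := (Nat.dvd_prime_pow hp).1
            (hk ▸ Subgroup.index_map_dvd H (QuotientGroup.mk'_surjective N))
          exact ⟨j, hj⟩
      exact Group.isSolvable_of_ker_le_range N.subtype (QuotientGroup.mk' N) (by simp)


/-- Let G be a finite group and p a prime. Every conjugacy class of p-regular elements of G (elements of order prime to p) has p-power size if and only if G has an abelian p-complement, i.e. an abelian subgroup of order prime to p and p-power index. -/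
theorem result {G : Type*} [Group G] [Finite G] {p : ℕ} (hp : p.Prime) :
    (∀ x : G, (orderOf x).Coprime p → ∃ k : ℕ, (ConjClasses.mk x).carrier.ncard = p ^ k) ↔
    (∃ H : Subgroup G, IsMulCommutative H ∧ ¬ p ∣ Nat.card H ∧ ∃ k : ℕ, H.index = p ^ k) := by
  classical
  have : Fact p.Prime := ⟨hp⟩
  constructor
  · intro h
    have hG : ∀ x : G, (orderOf x).Coprime p → ∃ k, (Subgroup.centralizer ({x} : Set G)).index = p ^ k :=
      fun x hx => by rw [← ncard_carrier_eq_index]; exact h x hx
    obtain ⟨a, m, hm, ho⟩ := Nat.exists_eq_pow_mul_and_not_dvd (Nat.card_pos (α := G)).ne' p hp.ne_one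
    have hsolv := isSolvable_of_pRegular_index p hp _ G rfl hG
    rw [mul_comm] at ho
    obtain ⟨H, hH⟩ := CfsgLib.Hall.exists_subgroup_card ho (Nat.Coprime.pow_right _ ((hp.coprime_iff_not_dvd).2 hm).symm)
    refine ⟨H, abelian_hall_of_pRegular_index p hp _ G rfl hG a m hm ho H hH, hH ▸ hm, a, ?_⟩
    apply Nat.eq_of_mul_eq_mul_left (Nat.card_pos (α := H))
    rw [H.card_mul_index, ho, hH]
  · rintro ⟨H, hab, hpH, k, hk⟩ x hx
    have hsolv := isSolvable_of_abelian_complement p hp _ G rfl H hab hpH ⟨k, hk⟩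
    obtain ⟨B, hB, hdom⟩ := CfsgLib.Hall.exists_hall_dominating H.card_mul_index.symm
      (by rw [hk]; exact Nat.Coprime.pow_right _ ((hp.coprime_iff_not_dvd).2 hpH).symm)
    obtain ⟨g, hg⟩ := hdom (Subgroup.zpowers x) (by rw [Nat.card_zpowers, hk]; exact hx.pow_right _)
    obtain ⟨g', hg'⟩ := CfsgLib.Hall.conj_of_card H.card_mul_index.symm
      (by rw [hk]; exact Nat.Coprime.pow_right _ ((hp.coprime_iff_not_dvd).2 hpH).symm) hB rfl
    have hxc : MulAut.conj (g' * g) • Subgroup.zpowers x ≤ H := by
      rw [map_mul, mul_smul, ← hg']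
      exact Subgroup.pointwise_smul_le_pointwise_smul_iff.2 hg
    have hle : MulAut.conj (g' * g)⁻¹ • H ≤ Subgroup.centralizer ({x} : Set G) := by
      rw [CfsgLib.Coprime.conj_smul_le]
      intro y hy
      have hx' := (CfsgLib.Coprime.conj_smul_le.1 hxc) x (Subgroup.mem_zpowers x)
      have hcomm := congrArg Subtype.val (hab.is_comm.comm ⟨y, hy⟩ ⟨_, hx'⟩)
      rw [H79.mem_centralizer_singleton]
      simp only [Subgroup.coe_mul] at hcomm
      calc (g' * g)⁻¹ * y * (g' * g)⁻¹⁻¹ * x
          = (g' * g)⁻¹ * (y * (g' * g * x * (g' * g)⁻¹)) * (g' * g) := by group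
        _ = (g' * g)⁻¹ * (g' * g * x * (g' * g)⁻¹ * y) * (g' * g) := by rw [hcomm]
        _ = x * ((g' * g)⁻¹ * y * (g' * g)⁻¹⁻¹) := by group
    have hidx : (MulAut.conj (g' * g)⁻¹ • H : Subgroup G).index = p ^ k := by
      rw [← hk]
      apply Nat.eq_of_mul_eq_mul_left (Nat.card_pos (α := H))
      rw [H.card_mul_index, ← CfsgLib.Coprime.card_conj_smul H (g' * g)⁻¹, Subgroup.card_mul_index]
    obtain ⟨j, -, hj⟩ := (Nat.dvd_prime_pow hp).1 (hidx ▸ Subgroup.index_dvd_of_le hle)
    exact ⟨j, by rw [ncard_carrier_eq_index]; exact hj⟩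

end Cfsg.Agent.S4034
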