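import Cfsg.Statements.S4127
import Cfsg.Agent.Lib.Structure80.Basic
import Cfsg.Agent.Lib.Transfer.NormalComplement
import Cfsg.Agent.Lib.Components.Local

set_option autoImplicit false
open Cfsg

namespace Cfsg.Agent.S4127

/-- A normal Sylow subgroup contains every `p`-subgroup. -/
lemma le_of_sylow_normal {H : Type*} [Group H] [Finite H] {p : ℕ} [Fact p.Prime] {Q : Subgroup H}
    (hQ : IsPGroup p Q) (P : Sylow p H) [(P : Subgroup H).Normal] : Q ≤ P := by
  obtain ⟨R, hR⟩ := hQ.exists_le_sylow
  obtain ⟨c, rfl⟩ := MulAction.exists_smul_eq H P R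
  rwa [Sylow.smul_eq_of_normal] at hR

/-- Jordan: a subgroup meeting every class is everything. -/
lemma eq_top_of_forall_conj {H : Type*} [Group H] [Finite H] (L : Subgroup H)
    (h : ∀ g : H, ∃ c : H, c⁻¹ * g * c ∈ L) : L = ⊤ := by
  classical
  letI := Fintype.ofFinite H
  letI := Fintype.ofFinite (H ⧸ L)
  have hone : ∀ g : H, 1 ≤ Fintype.card (MulAction.fixedBy (H ⧸ L) g) := by
    intro g
    obtain ⟨c, hc⟩ := h g
    refine Fintype.card_pos_iff.2 ⟨⟨(c : H ⧸ L), ?_⟩⟩
    rw [MulAction.mem_fixedBy, MulAction.Quotient.smul_coe, eq_comm, QuotientGroup.eq, smul_eq_mul]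
    simpa [mul_assoc] using hc
  haveI : Subsingleton (Quotient (MulAction.orbitRel H (H ⧸ L))) :=
    MulAction.pretransitive_iff_subsingleton_quotient H (H ⧸ L) |>.1 inferInstance
  haveI : Nonempty (Quotient (MulAction.orbitRel H (H ⧸ L))) := ⟨Quotient.mk _ ((1 : H) : H ⧸ L)⟩
  letI := Fintype.ofFinite (Quotient (MulAction.orbitRel H (H ⧸ L)))
  have hsum := MulAction.sum_card_fixedBy_eq_card_orbits_mul_card_group H (H ⧸ L)
  rw [← Nat.card_eq_fintype_card (α := Quotient _), Nat.card_of_subsingleton (Quotient.mk _ ((1 : H) : H ⧸ L)),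
    one_mul, Fintype.card_eq_sum_ones (α := H)] at hsum
  have hall := (Finset.sum_eq_sum_iff_of_le (fun g _ => hone g)).1 hsum.symm 1 (Finset.mem_univ 1)
  apply Subgroup.index_eq_one.1
  rw [Subgroup.index, Nat.card_eq_fintype_card, hall]
  refine (Fintype.card_congr (Equiv.subtypeUnivEquiv fun q => ?_)).symm
  simp [MulAction.mem_fixedBy]

/-- Let G be a finite group, p a prime and p^a the largest power of p dividing the size of any conjugacy class of G. If some element of p-power order has a conjugacy class of size exactly p^a, then G has a normal p-complement. -/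
theorem result {G : Type*} [Group G] [Finite G] (p : ℕ) [Fact p.Prime]
    (a : ℕ) (hmax : ∀ y : G, ¬ p ^ (a + 1) ∣ (Subgroup.centralizer ({y} : Set G)).index)
    (hx : ∃ x : G, (∃ k : ℕ, orderOf x = p ^ k) ∧ (Subgroup.centralizer ({x} : Set G)).index = p ^ a) :
    Cfsg.HasNormalPComplement p G := by
  obtain ⟨x, ⟨k, hxk⟩, hxidx⟩ := hx
  have hpp : p.Prime := Fact.out
  set C := Subgroup.centralizer ({x} : Set G) with hC
  have hmemC : ∀ g : G, g ∈ C ↔ g * x = x * g := fun g => Subgroup.mem_centralizer_singleton_iff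
  obtain ⟨P0⟩ := (inferInstance : Nonempty (Sylow p C))
  -- every `p'`-element of `C` centralizes a Sylow `p`-subgroup of `C`
  have hsylow : ∀ y : C, (orderOf y).Coprime p →
      ¬ p ∣ (Subgroup.centralizer ({y} : Set C)).index := by
    intro y hy hd
    apply hmax (x * (y : G))
    have hc : Commute x (y : G) := ((hmemC _).1 y.2).symm
    have hcop : (orderOf x).Coprime (orderOf (y : G)) := by
      rw [hxk, Subgroup.orderOf_coe]
      exact hy.symm.pow_left k
    have hcxy : Commute x (x * (y : G)) := (Commute.refl x).mul_right hc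
    have hle : Subgroup.centralizer ({x * (y : G)} : Set G) ≤
        (Subgroup.centralizer ({y} : Set C)).map C.subtype := by
      intro g hg
      rw [Subgroup.mem_centralizer_singleton_iff] at hg
      have hg1 : Commute g (x * (y : G)) := hg
      have hgx : Commute g x := by
        have hpow : (x * (y : G)) ^ orderOf (y : G) = x ^ orderOf (y : G) := by
          rw [hc.mul_pow, pow_orderOf_eq_one, mul_one]
        obtain ⟨u, hu⟩ : x ∈ Subgroup.zpowers (x ^ orderOf (y : G)) :=
          mem_zpowers_pow_iff.2 hcop.symm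
        rw [← hu]
        exact (hpow ▸ hg1.pow_right _).zpow_right u
      have hgy : Commute g (y : G) := by
        have : Commute g (x⁻¹ * (x * (y : G))) := hgx.inv_right.mul_right hg1
        simpa using this
      exact ⟨⟨g, (hmemC g).2 hgx.eq⟩, Subgroup.mem_centralizer_singleton_iff.2 (Subtype.ext hgy.eq), rfl⟩
    have hidx := Subgroup.index_dvd_of_le hle
    rw [Subgroup.index_map_of_injective _ C.subtype_injective, Subgroup.range_subtype, hxidx] at hidx
    refine dvd_trans ?_ hidx
    rw [pow_succ, mul_comm _ p]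
    exact mul_dvd_mul hd dvd_rfl
  -- hence the Sylow `p`-subgroup of `C` is centralized by all of them
  have hL : (P0 : Subgroup C) ⊔ Subgroup.centralizer ((P0 : Subgroup C) : Set C) = ⊤ := by
    apply eq_top_of_forall_conj
    intro g
    obtain ⟨e, r, hr, hn⟩ := Nat.exists_eq_pow_mul_and_not_dvd (orderOf_pos g).ne' p hpp.ne_one
    have hcop : Nat.Coprime (p ^ e) r := (hpp.coprime_iff_not_dvd.2 hr).pow_left e
    have hy : (orderOf (g ^ p ^ e)).Coprime p := by
      rw [orderOf_pow, hn, Nat.gcd_mul_right_left, Nat.mul_div_cancel_left _ (pow_pos hpp.pos e)]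
      exact (hpp.coprime_iff_not_dvd.2 hr).symm
    have hu : IsPGroup p (Subgroup.zpowers (g ^ r)) := by
      refine IsPGroup.of_card (n := e) ?_
      rw [Nat.card_zpowers, orderOf_pow, hn, Nat.gcd_mul_left_left,
        Nat.mul_div_cancel _ (Nat.pos_of_ne_zero fun h => hr (by simp [h]))]
    set Cy := Subgroup.centralizer ({g ^ p ^ e} : Set C) with hCy
    have huC : Subgroup.zpowers (g ^ r) ≤ Cy := by
      rw [Subgroup.zpowers_le, Subgroup.mem_centralizer_singleton_iff]
      exact (Commute.pow_pow_self g _ _).eq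
    obtain ⟨R, hR⟩ := (hu.comap_of_injective Cy.subtype Cy.subtype_injective).exists_le_sylow
    have hRcard : Nat.card ((R : Subgroup Cy).map Cy.subtype) = Nat.card (P0 : Subgroup C) := by
      rw [Subgroup.card_map_of_injective Cy.subtype_injective, R.card_eq_multiplicity, P0.card_eq_multiplicity]
      rw [← Cy.card_mul_index, Nat.factorization_mul Nat.card_pos.ne' Subgroup.index_ne_zero_of_finite,
        Finsupp.add_apply, Nat.factorization_eq_zero_of_not_dvd (hsylow _ hy), add_zero]
    obtain ⟨Q, hQ⟩ := (R.isPGroup'.map Cy.subtype).exists_le_sylow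
    have hRQ : (R : Subgroup Cy).map Cy.subtype = Q := Subgroup.eq_of_le_of_card_ge hQ
      (by rw [hRcard, Q.card_eq_multiplicity, P0.card_eq_multiplicity])
    obtain ⟨c, rfl⟩ := MulAction.exists_smul_eq C P0 Q
    refine ⟨c, ?_⟩
    obtain ⟨a, b, hab⟩ := Int.isCoprime_iff_gcd_eq_one.2 ((Int.gcd_natCast_natCast (p ^ e) r).trans hcop :
      Int.gcd ((p ^ e : ℕ) : ℤ) (r : ℤ) = 1)
    have hg : g = (g ^ p ^ e) ^ a * (g ^ r) ^ b := by
      rw [← zpow_natCast, ← zpow_natCast, ← zpow_mul, ← zpow_mul, ← zpow_add, mul_comm ((p ^ e : ℕ) : ℤ),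
        mul_comm (r : ℤ), hab, zpow_one]
    have hyc : c⁻¹ * (g ^ p ^ e) * c ∈ Subgroup.centralizer ((P0 : Subgroup C) : Set C) := by
      rw [Subgroup.mem_centralizer_iff]
      intro v hv
      have hv' : c * v * c⁻¹ ∈ (R : Subgroup Cy).map Cy.subtype := by
        rw [hRQ]
        have hv0 : v ∈ (P0 : Subgroup C) := hv
        exact CfsgLib.Structure80.mem_smul_sylow.2 (by simpa [mul_assoc] using hv0)
      have h1 : Commute (c * v * c⁻¹) (g ^ p ^ e) :=
        Subgroup.mem_centralizer_singleton_iff.1 (Subgroup.map_subtype_le _ hv')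
      simpa [mul_assoc] using (h1.map (MulAut.conj c⁻¹).toMonoidHom).eq
    have huc : c⁻¹ * (g ^ r) * c ∈ (P0 : Subgroup C) := by
      apply CfsgLib.Structure80.mem_smul_sylow.1
      rw [← hRQ]
      exact ⟨⟨g ^ r, huC (Subgroup.mem_zpowers _)⟩, hR (Subgroup.mem_zpowers _), rfl⟩
    have : c⁻¹ * g * c = (c⁻¹ * (g ^ p ^ e) * c) ^ a * (c⁻¹ * (g ^ r) * c) ^ b := by
      have h1 := congrArg (MulAut.conj c⁻¹) hg
      simpa [map_mul, map_zpow] using h1
    rw [this]
    exact mul_mem (Subgroup.mem_sup_right (zpow_mem hyc a)) (Subgroup.mem_sup_left (zpow_mem huc b))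
  haveI hP0n : (P0 : Subgroup C).Normal := by
    rw [← Subgroup.normalizer_eq_top_iff, eq_top_iff, ← hL]
    exact sup_le Subgroup.le_normalizer (Subgroup.centralizer_le_normalizer _)
  have hfixP0 : ∀ y : C, (orderOf y).Coprime p → y ∈ Subgroup.centralizer ((P0 : Subgroup C) : Set C) := by
    intro y hy
    have hmem : y ∈ (P0 : Subgroup C) ⊔ Subgroup.centralizer ((P0 : Subgroup C) : Set C) := hL ▸ Subgroup.mem_top _
    haveI hn : (Subgroup.centralizer ((P0 : Subgroup C) : Set C)).Normal := Subgroup.normal_centralizer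
    rw [← QuotientGroup.eq_one_iff, ← orderOf_eq_one_iff]
    obtain ⟨u, hu, v, hv, rfl⟩ := Subgroup.mem_sup_of_normal_left.1 hmem
    obtain ⟨i, hi⟩ := P0.isPGroup' ⟨u, hu⟩
    have hi' : u ^ p ^ i = 1 := by simpa using congrArg Subtype.val hi
    apply Nat.eq_one_of_dvd_coprimes (hy.pow_right i)
    · exact orderOf_map_dvd (QuotientGroup.mk' _) (u * v)
    · apply orderOf_dvd_of_pow_eq_one
      rw [QuotientGroup.mk_mul, (QuotientGroup.eq_one_iff v).2 hv, mul_one, ← QuotientGroup.mk_pow, hi']
      rfl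
  have hCcomp : Cfsg.HasNormalPComplement p C := by
    apply CfsgLib.Transfer.hasNormalPComplement_of_frobeniusCond
    intro Q hQ g _ hg
    exact Subgroup.centralizer_le (SetLike.coe_subset_coe.2 (le_of_sylow_normal hQ P0)) (hfixP0 g hg)
  -- `x` lies in `O_p(G)`
  obtain ⟨P, hP⟩ := (P0.isPGroup'.map C.subtype).exists_le_sylow
  have hPC : (P : Subgroup G) ⊓ C ≤ (P0 : Subgroup C).map C.subtype := by
    intro u hu
    have := P0.3 (P.isPGroup'.comap_of_injective C.subtype C.subtype_injective) (Subgroup.map_le_iff_le_comap.1 hP)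
    exact ⟨⟨u, hu.2⟩, this ▸ hu.1, rfl⟩
  have hcardP : Nat.card (P : Subgroup G) = Nat.card (P0 : Subgroup C) * p ^ a := by
    rw [P.card_eq_multiplicity, P0.card_eq_multiplicity, ← pow_add]
    congr 1
    rw [← C.card_mul_index, Nat.factorization_mul Nat.card_pos.ne' Subgroup.index_ne_zero_of_finite,
      Finsupp.add_apply, hxidx, Nat.factorization_pow_self hpp]
  have htrans : ∀ g : G, ∃ u ∈ (P : Subgroup G), u⁻¹ * g ∈ C := by
    intro g
    let f : ↥(P : Subgroup G) ⧸ C.subgroupOf (P : Subgroup G) → G ⧸ C := fun q => ((q.out : G) : G ⧸ C)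
    have hf : Function.Injective f := by
      intro q q' h
      rw [← q.out_eq', ← q'.out_eq', QuotientGroup.eq]
      simp only [f, QuotientGroup.eq] at h
      exact h
    have hcard : Nat.card (G ⧸ C) ≤ Nat.card (↥(P : Subgroup G) ⧸ C.subgroupOf (P : Subgroup G)) := by
      have h1 := (C.subgroupOf (P : Subgroup G)).card_mul_index
      have h2 : Nat.card (C.subgroupOf (P : Subgroup G)) ≤ Nat.card (P0 : Subgroup C) := by
        rw [← Subgroup.card_map_of_injective (K := C.subgroupOf (P : Subgroup G)) (P : Subgroup G).subtype_injective,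
          Subgroup.subgroupOf_map_subtype, ← Subgroup.card_map_of_injective (K := (P0 : Subgroup C)) C.subtype_injective,
          inf_comm]
        exact Nat.le_of_dvd Nat.card_pos (Subgroup.card_dvd_of_le hPC)
      change C.index ≤ (C.subgroupOf (P : Subgroup G)).index
      rw [hxidx]
      rw [hcardP] at h1
      by_contra hlt
      have h3 := Nat.mul_lt_mul_of_le_of_lt h2 (not_le.1 hlt) Nat.card_pos
      omega
    obtain ⟨q, hq⟩ := (hf.bijective_of_nat_card_le hcard).2 (g : G ⧸ C)
    exact ⟨q.out, q.out.2, QuotientGroup.eq.1 hq⟩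
  have hxP : x ∈ (P : Subgroup G) := by
    apply hP
    have hxC : x ∈ C := (hmemC x).2 rfl
    refine ⟨⟨x, hxC⟩, ?_, rfl⟩
    have : IsPGroup p (Subgroup.zpowers (⟨x, hxC⟩ : C)) :=
      IsPGroup.of_card (n := k) (by rw [Nat.card_zpowers, Subgroup.orderOf_mk, hxk])
    exact le_of_sylow_normal this P0 (Subgroup.mem_zpowers _)
  set T := Cfsg.pCore p G
  have hxT : x ∈ T := by
    have hle : Subgroup.normalClosure ({x} : Set G) ≤ (P : Subgroup G) := by
      rw [Subgroup.normalClosure, Subgroup.closure_le]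
      intro z hz
      simp only [Group.mem_conjugatesOfSet_iff, Set.mem_singleton_iff, exists_eq_left, isConj_iff] at hz
      obtain ⟨g, rfl⟩ := hz
      obtain ⟨u, hu, huC⟩ := htrans g
      have h1 := (hmemC _).1 huC
      have : g * x * g⁻¹ = u * x * u⁻¹ := by
        calc g * x * g⁻¹ = u * ((u⁻¹ * g) * x) * g⁻¹ := by group
          _ = u * (x * (u⁻¹ * g)) * g⁻¹ := by rw [h1]
          _ = u * x * u⁻¹ := by group
      rw [this]
      exact mul_mem (mul_mem hu hxP) (inv_mem hu)
    exact CfsgLib.Fitting.le_pCore Subgroup.normalClosure_normal (P.isPGroup'.to_le hle)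
      (Subgroup.subset_normalClosure (Set.mem_singleton x))
  haveI hTn : T.Normal := CfsgLib.Fitting.pCore_normal p
  have hTp : IsPGroup p T := CfsgLib.Fitting.pCore_isPGroup p
  set K := Subgroup.centralizer (T : Set G)
  haveI hKn : K.Normal := Subgroup.normal_centralizer
  have hKC : K ≤ C := fun g hg => (hmemC g).2 (Subgroup.mem_centralizer_iff.1 hg x hxT).symm
  have hres : Cfsg.pResidual p C ≤ K.subgroupOf C := by
    rw [CfsgLib.Transfer.pResidual_le_iff]
    intro y hy
    change (y : G) ∈ K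
    have hxp : IsPGroup p (Subgroup.zpowers x) := IsPGroup.of_card (n := k) (by rw [Nat.card_zpowers, hxk])
    refine CfsgLib.Components.mem_centralizer_of_AxB (P := Subgroup.zpowers x) hTp hxp ?_ ?_ ?_ ?_ ?_
    · rw [Subgroup.normalizer_eq_top]; exact le_top
    · rw [Subgroup.normalizer_eq_top]; exact Subgroup.mem_top _
    · rw [Subgroup.mem_centralizer_iff]
      intro z hz
      obtain ⟨i, rfl⟩ := hz
      exact ((Commute.symm ((hmemC _).1 y.2)).zpow_left i).eq
    · rwa [Subgroup.orderOf_coe]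
    · intro r hr hrx
      have hrC : r ∈ C := (hmemC r).2 (Subgroup.mem_centralizer_iff.1 hrx x (Subgroup.mem_zpowers x)).symm
      have hr0 : (⟨r, hrC⟩ : C) ∈ (P0 : Subgroup C) :=
        le_of_sylow_normal (hTp.comap_of_injective C.subtype C.subtype_injective) P0 hr
      exact (congrArg Subtype.val (Subgroup.mem_centralizer_iff.1 (hfixP0 y hy) _ hr0)).symm
  refine CfsgLib.Transfer.hasNormalPComplement_of_le K ?_ ?_
  · apply CfsgLib.Transfer.pResidual_le_of_isPGroup_quotient
    obtain ⟨j, hj⟩ := CfsgLib.Transfer.pResidual_index_eq_pow (G := C) (p := p)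
    have h1 : K.index = K.relIndex C * C.index := (Subgroup.relIndex_mul_index hKC).symm
    have h2 : K.relIndex C ∣ p ^ j := hj ▸ Subgroup.index_dvd_of_le hres
    have h3 : K.index ∣ p ^ (j + a) := by
      rw [h1, hxidx, pow_add]
      exact mul_dvd_mul h2 dvd_rfl
    obtain ⟨i, -, hi⟩ := (Nat.dvd_prime_pow hpp).1 h3
    exact IsPGroup.of_card (n := i) hi
  · exact CfsgLib.Transfer.hasNormalPComplement_of_injective (Subgroup.inclusion hKC)
      (Subgroup.inclusion_injective hKC) hCcomp

end Cfsg.Agent.S4127
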