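import Cfsg.Statements.S4135
import Cfsg.Agent.Lib.Structure81.TwoClassNormal

set_option autoImplicit false
open Cfsg

namespace Cfsg.Agent.S4135

/-- Let G be a finite group, r a prime and R a Sylow r-subgroup of G that is not central, N a normal subgroup of G containing R, and m a natural number such that every element of N has a conjugacy class in G of size 1 or m. Then N is nilpotent. -/
theorem result {G : Type*} [Group G] [Finite G] (r : ℕ) [Fact r.Prime]
    (R : Sylow r G) (hR : ¬ (R : Subgroup G) ≤ Subgroup.center G) (N : Subgroup G) [N.Normal] (hRN : (R : Subgroup G) ≤ N)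
    (m : ℕ) (h : ∀ x ∈ N, (Subgroup.centralizer ({x} : Set G)).index = 1 ∨ (Subgroup.centralizer ({x} : Set G)).index = m) : Group.IsNilpotent N := by
  refine CfsgLib.Structure81.CoprimeClass.TwoNormal.isNilpotent (r := r) (m := m)
    ⟨inferInstance, Fact.out, h, fun S => ?_, fun S hS => hR fun x hx => ?_⟩
  · obtain ⟨g, rfl⟩ := MulAction.exists_smul_eq G R S
    intro x hx
    rw [Sylow.coe_subgroup_smul, Subgroup.mem_pointwise_smul_iff_inv_smul_mem] at hx
    have := (inferInstance : N.Normal).conj_mem _ (hRN hx) g
    simpa [MulAut.smul_def, mul_assoc] using this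
  · obtain ⟨g, rfl⟩ := MulAction.exists_smul_eq G R S
    have h1 : g * x * g⁻¹ ∈ Subgroup.center G := hS (by
      rw [Sylow.coe_subgroup_smul]
      refine Subgroup.mem_pointwise_smul_iff_inv_smul_mem.2 ?_
      simpa [MulAut.smul_def, mul_assoc] using hx)
    have := (inferInstance : (Subgroup.center G).Normal).conj_mem _ h1 g⁻¹
    simpa [mul_assoc] using this

end Cfsg.Agent.S4135
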