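import Cfsg.Statements.S4365
-- import your own Cfsg.Agent.* helpers here

set_option autoImplicit false
open Cfsg
open scoped Pointwise
set_option linter.style.haveILetI false

namespace Cfsg.Agent.S4365

open Classical in
/-- The counting step: every element of the abelian normal subgroup `A` has central `p`-th power. -/
theorem pow_p_mem_center {P : Type*} [Group P] [Finite P] {p : ℕ} [Fact p.Prime] {a : ℕ} {x : P}
    {A : Subgroup P} [A.Normal] (hA : A = Subgroup.centralizer ({x} : Set P))
    (hAab : ∀ u ∈ A, ∀ v ∈ A, u * v = v * u)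
    (hAeq : ∀ u ∈ A, u ∉ Subgroup.center P → Subgroup.centralizer ({u} : Set P) = A)
    (hpA : ∀ g : P, g ^ p ∈ A) (hcommA : ∀ g h : P, (g * h)⁻¹ * (h * g) ∈ A)
    (hgpZ : ∀ g : P, g ∉ A → g ^ p ∈ Subgroup.center P) (ha : 1 ≤ a)
    (hindex : ∀ u : P, u ∉ Subgroup.center P →
      (Subgroup.centralizer ({u} : Set P)).index = p ^ a)
    (hxne : x ∉ Subgroup.center P) (hP : IsPGroup p P) : x ^ p ∈ Subgroup.center P := by
  have hxA : x ∈ A := hA ▸ Subgroup.mem_centralizer_singleton_iff.2 rfl
  have hAi : A.index = p ^ a := hA ▸ hindex x hxne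
  have hp := (Fact.out : p.Prime)
  have hZA : Subgroup.center P ≤ A := hA ▸ Subgroup.center_le_centralizer _
  rcases Nat.lt_or_ge a 2 with ha1 | ha2
  · -- `A` has index `p`
    obtain rfl : a = 1 := by omega
    rw [pow_one] at hAi hindex
    obtain ⟨g, hg⟩ : ∃ g, g ∉ A := by
      by_contra h
      push Not at h
      rw [(Subgroup.eq_top_iff' A).2 h, Subgroup.index_top] at hAi
      exact hp.ne_one hAi.symm
    have hgne : g ∉ Subgroup.center P := fun h => hg (hZA h)
    have hC := hindex g hgne
    set C := Subgroup.centralizer ({g} : Set P) with hCdef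
    have hinf : C ⊓ A ≤ Subgroup.center P := by
      rintro u ⟨huC, huA⟩
      by_contra hu
      apply hg
      rw [← hAeq u huA hu, Subgroup.mem_centralizer_singleton_iff]
      exact (Subgroup.mem_centralizer_singleton_iff.1 huC).symm
    have hrel : C.relIndex A ∣ p := by
      obtain ⟨k, hk⟩ : ∃ k, C.relIndex A = k := ⟨_, rfl⟩
      have hCn : C.index = p := hC
      have hle := Subgroup.index_inf_le (H := C) (K := A)
      have h1 : (C ⊓ A).index = C.relIndex A * A.index := by
        rw [← Subgroup.inf_relIndex_right, Subgroup.relIndex_mul_index inf_le_right]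
      rw [h1, hCn, hAi] at hle
      have h2 : C.relIndex A ≤ p := Nat.le_of_mul_le_mul_right hle hp.pos
      obtain ⟨j, hj⟩ := (hP.to_subgroup A).index (C.subgroupOf A)
      rw [Subgroup.relIndex, hj] at h2 ⊢
      calc p ^ j ∣ p ^ 1 := pow_dvd_pow p ((Nat.pow_le_pow_iff_right hp.one_lt).1 (by simpa using h2))
        _ = p := pow_one p
    haveI : IsMulCommutative A := ⟨⟨fun u v => Subtype.ext (hAab u u.2 v v.2)⟩⟩
    haveI : (C.subgroupOf A).Normal := inferInstance
    have h3 : (⟨x, hxA⟩ : A) ^ (C.subgroupOf A).index ∈ C.subgroupOf A :=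
      Subgroup.pow_index_mem _ _
    obtain ⟨j, hj⟩ := hrel
    refine hinf ⟨?_, A.pow_mem hxA p⟩
    have h4 : (x ^ C.relIndex A) ^ j ∈ C := C.pow_mem h3 j
    rwa [← pow_mul, ← hj] at h4
  · -- two independent elements outside `A`
    obtain ⟨h, hh⟩ : ∃ h, h ∉ A := by
      by_contra h
      push Not at h
      rw [(Subgroup.eq_top_iff' A).2 h, Subgroup.index_top] at hAi
      have := Nat.one_lt_pow (show a ≠ 0 by omega) hp.one_lt
      omega
    obtain ⟨g, hg⟩ : ∃ g : P, (g : P ⧸ A) ∉ Subgroup.zpowers (h : P ⧸ A) := by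
      by_contra hall
      push Not at hall
      have htop : Subgroup.zpowers (h : P ⧸ A) = ⊤ := by
        rw [Subgroup.eq_top_iff']
        intro q
        obtain ⟨g, rfl⟩ := QuotientGroup.mk_surjective q
        exact hall g
      have h1 := Nat.card_zpowers (h : P ⧸ A)
      rw [htop, Subgroup.card_top, ← Subgroup.index_eq_card, hAi] at h1
      have h2 : orderOf (h : P ⧸ A) ∣ p := by
        apply orderOf_dvd_of_pow_eq_one
        rw [← QuotientGroup.mk_pow, QuotientGroup.eq_one_iff]
        exact hpA h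
      have h3 := Nat.le_of_dvd hp.pos h2
      have h4 := Nat.pow_le_pow_right hp.pos ha2
      have h5 : p < p ^ 2 := by nlinarith [hp.one_lt]
      omega
    have hout : ∀ j : ℕ, g * h ^ j ∉ A := by
      intro j hj
      apply hg
      rw [← QuotientGroup.eq_one_iff, QuotientGroup.mk_mul, mul_eq_one_iff_eq_inv,
        QuotientGroup.mk_pow] at hj
      rw [hj]
      exact inv_mem (Subgroup.npow_mem_zpowers _ j)
    -- conjugation of `x` depends only on the coset modulo `A`
    haveI : IsMulCommutative A := ⟨⟨fun u v => Subtype.ext (hAab u u.2 v v.2)⟩⟩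
    letI : CommGroup A := { (inferInstance : Group A) with mul_comm := fun u v => Subtype.ext (hAab u u.2 v v.2) }
    let c : P → A := fun u => ⟨u * x * u⁻¹, ‹A.Normal›.conj_mem x hxA u⟩
    have hcA : ∀ u v : P, u⁻¹ * v ∈ A → c u = c v := by
      intro u v huv
      apply Subtype.ext
      change u * x * u⁻¹ = v * x * v⁻¹
      calc u * x * u⁻¹ = u * (x * (u⁻¹ * v)) * v⁻¹ := by group
        _ = u * ((u⁻¹ * v) * x) * v⁻¹ := by rw [hAab x hxA _ huv]
        _ = v * x * v⁻¹ := by group
    have hmod : ∀ u v : P, (u : P ⧸ A) = v → c u = c v := fun u v e => hcA u v (QuotientGroup.eq.1 e)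
    -- norms lie in the centre
    have hnorm : ∀ u : P, u ∉ A →
        ((∏ i ∈ Finset.range p, c (u ^ i) : A) : P) ∈ Subgroup.center P := by
      intro u hu
      have key : ∀ n : ℕ, (x * u) ^ n = ((∏ i ∈ Finset.range n, c (u ^ i) : A) : P) * u ^ n := by
        intro n
        induction n with
        | zero => simp
        | succ n ih =>
          rw [pow_succ, ih, Finset.prod_range_succ, Subgroup.coe_mul, pow_succ]
          change _ = _ * (u ^ n * x * (u ^ n)⁻¹) * (u ^ n * u)
          group
      have hxu : x * u ∉ A := fun hm => hu (by simpa using A.mul_mem (A.inv_mem hxA) hm)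
      have h1 := hgpZ _ hxu
      rw [key p] at h1
      exact ((Subgroup.center P).mul_mem_cancel_right (hgpZ u hu)).1 h1
    set G' : ZMod p → ZMod p → A := fun i j => c (g ^ i.val * h ^ j.val) with hG'
    have hq : ∀ (u : P) (n : ℕ), (u : P ⧸ A) ^ n = (u : P ⧸ A) ^ ((n : ZMod p).val) := by
      intro u n
      rw [ZMod.val_natCast]
      apply pow_eq_pow_mod
      rw [← QuotientGroup.mk_pow, QuotientGroup.eq_one_iff]
      exact hpA u
    have hrange : ∀ f : ZMod p → A, ∏ i ∈ Finset.range p, f (i : ZMod p) = ∏ i, f i := by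
      intro f
      refine Finset.prod_bij (fun i _ => (i : ZMod p)) (fun _ _ => Finset.mem_univ _) ?_ ?_ (fun _ _ => rfl)
      · intro i hi j hj e
        rw [Finset.mem_range] at hi hj
        have := congrArg ZMod.val e
        rwa [ZMod.val_natCast, ZMod.val_natCast, Nat.mod_eq_of_lt hi, Nat.mod_eq_of_lt hj] at this
      · intro z _
        exact ⟨z.val, Finset.mem_range.2 z.val_lt, ZMod.natCast_zmod_val z⟩
    have hline : ∀ m : ZMod p,
        ∏ i ∈ Finset.range p, c ((g * h ^ m.val) ^ i) = ∏ i : ZMod p, G' i (i * m) := by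
      intro m
      rw [← hrange]
      refine Finset.prod_congr rfl fun i _ => hmod _ _ ?_
      have hc : Commute (g : P ⧸ A) (h : P ⧸ A) := by
        rw [Commute, SemiconjBy, ← QuotientGroup.mk_mul, ← QuotientGroup.mk_mul, QuotientGroup.eq]
        exact hcommA g h
      rw [QuotientGroup.mk_pow, QuotientGroup.mk_mul, QuotientGroup.mk_pow, QuotientGroup.mk_mul,
        QuotientGroup.mk_pow, QuotientGroup.mk_pow, (hc.pow_right _).mul_pow, ← pow_mul, ← hq g i,
        hq h (m.val * i)]
      congr 2
      rw [Nat.cast_mul, ZMod.natCast_zmod_val, mul_comm]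
    have hh0 : ∏ i ∈ Finset.range p, c (h ^ i) = ∏ j : ZMod p, G' 0 j := by
      rw [← hrange]
      refine Finset.prod_congr rfl fun i _ => hmod _ _ ?_
      rw [ZMod.val_zero, pow_zero, one_mul, QuotientGroup.mk_pow, QuotientGroup.mk_pow, ← hq]
    have hident : (∏ m : ZMod p, ∏ i : ZMod p, G' i (i * m)) * ∏ j : ZMod p, G' 0 j =
        G' 0 0 ^ p * ∏ i : ZMod p, ∏ j : ZMod p, G' i j := by
      have e1 : ∏ _m : ZMod p, G' 0 (0 * _m) = G' 0 0 ^ p := by
        simp [Finset.prod_const, ZMod.card]
      have e2 : ∀ i ∈ Finset.univ.erase (0 : ZMod p), ∏ m : ZMod p, G' i (i * m) = ∏ j, G' i j := by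
        intro i hi
        exact Fintype.prod_equiv (Equiv.mulLeft₀ i (Finset.mem_erase.1 hi).1) _ _ (fun m => rfl)
      have e3 : ∏ m : ZMod p, ∏ i : ZMod p, G' i (i * m) =
          (∏ i ∈ Finset.univ.erase (0 : ZMod p), ∏ m : ZMod p, G' i (i * m)) * ∏ m : ZMod p, G' 0 (0 * m) := by
        rw [Finset.prod_comm]
        exact (Finset.prod_erase_mul _ (fun i : ZMod p => ∏ m : ZMod p, G' i (i * m))
          (Finset.mem_univ (0 : ZMod p))).symm
      have e4 : ∏ i : ZMod p, ∏ j : ZMod p, G' i j =
          (∏ i ∈ Finset.univ.erase (0 : ZMod p), ∏ j : ZMod p, G' i j) * ∏ j : ZMod p, G' 0 j :=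
        (Finset.prod_erase_mul _ (fun i : ZMod p => ∏ j : ZMod p, G' i j)
          (Finset.mem_univ (0 : ZMod p))).symm
      rw [e3, e4, Finset.prod_congr rfl e2, e1]
      ac_rfl
    let Zc : Subgroup A := (Subgroup.center P).subgroupOf A
    have hconjZ : ∀ i : ZMod p, ∏ j : ZMod p, G' i j ∈ Zc := by
      intro i
      have hN := hnorm h hh
      let φ : A →* A := (MulAut.conjNormal (g ^ i.val) : MulAut A).toMonoidHom
      have h1 : ∏ j : ZMod p, G' i j = φ (∏ j ∈ Finset.range p, c (h ^ j)) := by
        rw [hh0, map_prod]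
        refine Finset.prod_congr rfl fun j _ => Subtype.ext ?_
        change g ^ i.val * h ^ j.val * x * (g ^ i.val * h ^ j.val)⁻¹ =
          g ^ i.val * (g ^ (0 : ZMod p).val * h ^ j.val * x * (g ^ (0 : ZMod p).val * h ^ j.val)⁻¹) * (g ^ i.val)⁻¹
        rw [ZMod.val_zero, pow_zero]
        group
      rw [h1]
      exact Subgroup.mem_subgroupOf.2
        (Subgroup.Normal.conj_mem (inferInstance : (Subgroup.center P).Normal) _ hN (g ^ i.val))
    have hfinal : G' 0 0 ^ p ∈ Zc := by
      have h1 : (∏ m : ZMod p, ∏ i : ZMod p, G' i (i * m)) * ∏ j : ZMod p, G' 0 j ∈ Zc := by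
        refine mul_mem (prod_mem fun m _ => ?_) ?_
        · rw [← hline]; exact Subgroup.mem_subgroupOf.2 (hnorm _ (hout _))
        · rw [← hh0]; exact Subgroup.mem_subgroupOf.2 (hnorm _ hh)
      rw [hident] at h1
      exact (Zc.mul_mem_cancel_right (prod_mem fun i _ => hconjZ i)).1 h1
    rw [Subgroup.mem_subgroupOf, Subgroup.coe_pow] at hfinal
    simpa [hG', c] using hfinal


/-- Let P be a finite p-group whose conjugacy class sizes are exactly 1 and pᵃ for some a ≥ 1. Then every element of P has its p-th power in the center of P (P/Z(P) has exponent p). -/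
theorem result {P : Type*} [Group P] [Finite P] (p : ℕ) [Fact p.Prime]
    (hP : IsPGroup p P) (a : ℕ) (ha : 1 ≤ a)
    (hcs : {k : ℕ | ∃ x : P, (Subgroup.centralizer ({x} : Set P)).index = k} = {1, p ^ a}) (x : P) :
    x ^ p ∈ Subgroup.center P := by
  classical
  have hindex : ∀ u : P, u ∉ Subgroup.center P →
      (Subgroup.centralizer ({u} : Set P)).index = p ^ a := by
    intro u hu
    have h1 : (Subgroup.centralizer ({u} : Set P)).index ∈ ({1, p ^ a} : Set ℕ) := hcs ▸ ⟨u, rfl⟩
    rcases h1 with h | h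
    · exfalso
      rw [Subgroup.index_eq_one] at h
      refine hu (Subgroup.mem_center_iff.2 fun g => ?_)
      exact Subgroup.mem_centralizer_singleton_iff.1 (h ▸ Subgroup.mem_top g)
    · exact h
  by_contra hx
  -- centralizers of non-central elements are incomparable
  have hceq : ∀ u v : P, u ∉ Subgroup.center P → v ∉ Subgroup.center P →
      Subgroup.centralizer ({u} : Set P) ≤ Subgroup.centralizer ({v} : Set P) →
      Subgroup.centralizer ({u} : Set P) = Subgroup.centralizer ({v} : Set P) := by
    intro u v hu hv hle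
    refine Subgroup.eq_of_le_of_card_ge hle (le_of_eq ?_)
    refine Nat.eq_of_mul_eq_mul_right (pow_pos (Fact.out : p.Prime).pos a) ?_
    conv_lhs => rw [← hindex v hv]
    rw [← hindex u hu, Subgroup.card_mul_index, Subgroup.card_mul_index]
  have hpow_le : ∀ (u : P) (n : ℕ),
      Subgroup.centralizer ({u} : Set P) ≤ Subgroup.centralizer ({u ^ n} : Set P) := by
    intro u n v hv
    rw [Subgroup.mem_centralizer_singleton_iff] at hv ⊢
    exact (Commute.pow_right hv n).eq
  have hxne : x ∉ Subgroup.center P := fun h => hx (Subgroup.pow_mem _ h p)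
  set A := Subgroup.centralizer ({x} : Set P) with hA
  have hAx : Subgroup.centralizer ({x ^ p} : Set P) = A := (hceq x (x ^ p) hxne hx (hpow_le x p)).symm
  -- `A` is abelian
  have hAab : ∀ u ∈ A, ∀ v ∈ A, u * v = v * u := by
    by_contra hcon
    push Not at hcon
    obtain ⟨y, ⟨hyA, hynot⟩, hmin⟩ := Set.exists_min_image
      {y : P | y ∈ A ∧ ¬ ∀ v ∈ A, y * v = v * y} orderOf (Set.toFinite _) (by
        obtain ⟨u, hu, v, hv, huv⟩ := hcon
        exact ⟨u, hu, fun h => huv (h v hv)⟩)
    apply hynot
    intro v hv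
    have hxy : Commute x y := (Subgroup.mem_centralizer_singleton_iff.1 hyA).symm
    by_cases hyp : y ^ p ∈ Subgroup.center P
    · have hxyp : (x * y) ^ p ∉ Subgroup.center P := fun h => by
        rw [hxy.mul_pow] at h
        exact hx ((Subgroup.mul_mem_cancel_right _ hyp).1 h)
      have hxyne : x * y ∉ Subgroup.center P := fun h => hxyp (Subgroup.pow_mem _ h p)
      have hle : Subgroup.centralizer ({x * y} : Set P) ≤ A := by
        intro w hw
        have h1 := hpow_le (x * y) p hw
        rw [← hAx, Subgroup.mem_centralizer_singleton_iff]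
        rw [Subgroup.mem_centralizer_singleton_iff, hxy.mul_pow] at h1
        have h2 : w * y ^ p = y ^ p * w := Subgroup.mem_center_iff.1 hyp w
        have h3 : w * x ^ p * y ^ p = x ^ p * w * y ^ p := by rw [mul_assoc, h1, mul_assoc, mul_assoc, h2]
        exact mul_right_cancel h3
      have h4 := hceq (x * y) x hxyne hxne hle
      have h5 : v * (x * y) = x * y * v :=
        Subgroup.mem_centralizer_singleton_iff.1 (h4.symm ▸ hv)
      have h6 : v * x = x * v := Subgroup.mem_centralizer_singleton_iff.1 hv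
      have h7 : x * (v * y) = x * (y * v) := by rw [← mul_assoc, ← h6, mul_assoc, h5, mul_assoc]
      exact (mul_left_cancel h7).symm
    · have hyne : y ∉ Subgroup.center P := fun h => hyp (Subgroup.pow_mem _ h p)
      have hCy := hceq y (y ^ p) hyne hyp (hpow_le y p)
      by_cases hgood : ∀ v ∈ A, y ^ p * v = v * y ^ p
      · have hv2 : v ∈ Subgroup.centralizer ({y} : Set P) := by
          rw [hCy, Subgroup.mem_centralizer_singleton_iff]
          exact (hgood v hv).symm
        exact (Subgroup.mem_centralizer_singleton_iff.1 hv2).symm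
      · exfalso
        have hle := hmin (y ^ p) ⟨A.pow_mem hyA p, hgood⟩
        obtain ⟨k, hk⟩ := IsPGroup.iff_orderOf.1 hP y
        have hk0 : k ≠ 0 := by
          intro h0
          rw [h0, pow_zero, orderOf_eq_one_iff] at hk
          exact hyne (hk ▸ one_mem _)
        have hd : p ∣ orderOf y := hk ▸ dvd_pow_self p hk0
        rw [orderOf_pow_of_dvd (Fact.out : p.Prime).ne_zero hd] at hle
        exact absurd (Nat.div_lt_self (orderOf_pos y) (Fact.out : p.Prime).one_lt) (not_lt.2 hle)
  have hAeq : ∀ u ∈ A, u ∉ Subgroup.center P → Subgroup.centralizer ({u} : Set P) = A := by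
    intro u hu hu'
    refine (hceq x u hxne hu' fun v hv => ?_).symm
    rw [Subgroup.mem_centralizer_singleton_iff]
    exact hAab v hv u hu
  -- an element of the second centre
  haveI : Nontrivial (P ⧸ Subgroup.center P) :=
    QuotientGroup.nontrivial_iff.2 fun h => hxne (h ▸ Subgroup.mem_top x)
  have hq : IsPGroup p (P ⧸ Subgroup.center P) := hP.to_quotient _
  haveI := hq.center_nontrivial
  obtain ⟨k, hk0, hk⟩ := (hq.to_subgroup (Subgroup.center (P ⧸ Subgroup.center P))).nontrivial_iff_card.1
    inferInstance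
  obtain ⟨⟨ybar, hybar⟩, hyo⟩ := exists_prime_orderOf_dvd_card'
    (G := Subgroup.center (P ⧸ Subgroup.center P)) p (hk ▸ dvd_pow_self p (by omega))
  obtain ⟨y, rfl⟩ := QuotientGroup.mk_surjective ybar
  rw [Subgroup.orderOf_mk] at hyo
  have hyp : y ^ p ∈ Subgroup.center P := by
    rw [← QuotientGroup.eq_one_iff, QuotientGroup.mk_pow, ← hyo, pow_orderOf_eq_one]
  have hyne : y ∉ Subgroup.center P := fun h => by
    rw [(QuotientGroup.eq_one_iff y).2 h, orderOf_one] at hyo
    exact (Fact.out : p.Prime).ne_one hyo.symm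
  have hcomm : ∀ g : P, ∃ c ∈ Subgroup.center P, g * y = y * g * c := by
    intro g
    refine ⟨(y * g)⁻¹ * (g * y), ?_, by group⟩
    rw [← QuotientGroup.eq_one_iff, QuotientGroup.mk_mul, QuotientGroup.mk_inv, inv_mul_eq_one,
      QuotientGroup.mk_mul, QuotientGroup.mk_mul, Subgroup.mem_center_iff.1 hybar (g : P ⧸ Subgroup.center P)]
  have hgp : ∀ g : P, g ^ p * y = y * g ^ p := by
    intro g
    obtain ⟨c, hc, hgy⟩ := hcomm g
    have hcc : ∀ w : P, w * c = c * w := fun w => Subgroup.mem_center_iff.1 hc w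
    have hiter : ∀ n : ℕ, g ^ n * y = y * g ^ n * c ^ n := by
      intro n
      induction n with
      | zero => simp
      | succ n ih =>
        rw [pow_succ', mul_assoc, ih, ← mul_assoc, ← mul_assoc, hgy, pow_succ' c n]
        have h1 : c * g ^ n = g ^ n * c := (hcc _).symm
        rw [mul_assoc (y * g) c (g ^ n), h1]
        group
    have hiter' : ∀ n : ℕ, g * y ^ n = y ^ n * g * c ^ n := by
      intro n
      induction n with
      | zero => simp
      | succ n ih =>
        calc g * y ^ (n + 1) = g * y ^ n * y := by rw [pow_succ, mul_assoc]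
          _ = y ^ n * g * c ^ n * y := by rw [ih]
          _ = y ^ n * (g * y) * c ^ n := by
            rw [mul_assoc (y ^ n * g), (Commute.pow_left (hcc y).symm n).eq]; group
          _ = y ^ n * (y * g * c) * c ^ n := by rw [hgy]
          _ = y ^ (n + 1) * g * c ^ (n + 1) := by rw [pow_succ' c n, pow_succ y n]; group
    have hcp : c ^ p = 1 := by
      have h1 := hiter' p
      rw [Subgroup.mem_center_iff.1 hyp g] at h1
      exact left_eq_mul.1 h1
    rw [hiter p, hcp, mul_one]
  have hyA : y ∈ A := by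
    rw [← hAx, Subgroup.mem_centralizer_singleton_iff]
    exact (hgp x).symm
  have hAy : ∀ g : P, g ∈ A ↔ g * y = y * g := fun g => by
    rw [← hAeq y hyA hyne, Subgroup.mem_centralizer_singleton_iff]
  have hpA : ∀ g : P, g ^ p ∈ A := fun g => (hAy _).2 (hgp g)
  have hcommA : ∀ g h : P, (g * h)⁻¹ * (h * g) ∈ A := by
    intro g h
    rw [hAy]
    obtain ⟨c, hc, hgy⟩ := hcomm g
    obtain ⟨d, hd, hhy⟩ := hcomm h
    have hcc : ∀ w : P, w * c = c * w := fun w => Subgroup.mem_center_iff.1 hc w
    have hdc : ∀ w : P, w * d = d * w := fun w => Subgroup.mem_center_iff.1 hd w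
    have e1 : h * g * y = y * (h * g) * (c * d) := by
      calc h * g * y = h * (g * y) := mul_assoc _ _ _
        _ = (h * y) * g * c := by rw [hgy]; group
        _ = y * h * d * g * c := by rw [hhy]
        _ = y * h * g * (c * d) := by
          rw [mul_assoc (y * h) d g, ← hdc g, show c * d = d * c from (hcc d).symm]; group
        _ = y * (h * g) * (c * d) := by group
    have e2 : g * h * y = y * (g * h) * (c * d) := by
      calc g * h * y = g * (h * y) := mul_assoc _ _ _
        _ = (g * y) * h * d := by rw [hhy]; group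
        _ = y * g * c * h * d := by rw [hgy]
        _ = y * g * h * (c * d) := by rw [mul_assoc (y * g) c h, ← hcc h]; group
        _ = y * (g * h) * (c * d) := by group
    have hcd : ∀ w : P, w * (c * d) = c * d * w := fun w => by
      rw [← mul_assoc, hcc, mul_assoc, hdc, ← mul_assoc]
    have f1 : h * g * y * (h * g)⁻¹ = y * (c * d) := by
      rw [e1, mul_assoc y (h * g), hcd]; group
    have f2 : g * h * y * (g * h)⁻¹ = y * (c * d) := by
      rw [e2, mul_assoc y (g * h), hcd]; group
    calc (g * h)⁻¹ * (h * g) * y = (g * h)⁻¹ * (h * g * y * (h * g)⁻¹) * (h * g) := by group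
      _ = (g * h)⁻¹ * (g * h * y * (g * h)⁻¹) * (h * g) := by rw [f1, f2]
      _ = y * ((g * h)⁻¹ * (h * g)) := by group
  have hAn : A.Normal := by
    refine ⟨fun u hu g => ?_⟩
    rw [hAy]
    obtain ⟨c, hc, hgy⟩ := hcomm g
    have hcc : ∀ w : P, w * c = c * w := fun w => Subgroup.mem_center_iff.1 hc w
    have hu' := (hAy u).1 hu
    have h5 : g⁻¹ * y = y * g⁻¹ * c⁻¹ := by
      have : y = g⁻¹ * y * g * c := by
        have := congrArg (fun w => g⁻¹ * w) hgy
        simp only [← mul_assoc, inv_mul_cancel, one_mul] at this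
        exact this
      calc g⁻¹ * y = (g⁻¹ * y * g * c) * (c⁻¹ * g⁻¹) := by group
        _ = y * (c⁻¹ * g⁻¹) := by rw [← this]
        _ = y * g⁻¹ * c⁻¹ := by
          rw [mul_assoc, show c⁻¹ * g⁻¹ = g⁻¹ * c⁻¹ from (Commute.inv_right (hcc g⁻¹)).eq.symm]
    calc g * u * g⁻¹ * y = g * (u * (g⁻¹ * y)) := by group
      _ = g * (u * y) * g⁻¹ * c⁻¹ := by rw [h5]; group
      _ = g * y * u * g⁻¹ * c⁻¹ := by rw [hu']; group
      _ = y * g * (c * (u * g⁻¹)) * c⁻¹ := by rw [hgy]; group
      _ = y * (g * u * g⁻¹) := by rw [← hcc (u * g⁻¹)]; group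
  haveI := hAn
  have hgpZ : ∀ g : P, g ∉ A → g ^ p ∈ Subgroup.center P := by
    intro g hg
    by_contra h
    apply hg
    rw [← hAeq _ (hpA g) h, Subgroup.mem_centralizer_singleton_iff]
    exact (Commute.self_pow g p).eq
  exact hx (pow_p_mem_center hA hAab hAeq hpA hcommA hgpZ ha hindex hxne hP)

end Cfsg.Agent.S4365
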