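import Cfsg.Statements.S1124
import Cfsg.Agent.Lib.RankOneInvol.Basic

set_option autoImplicit false
open scoped Pointwise
open Cfsg

namespace Cfsg.Agent.S1124

/-- Let `t` be an element of order 2 of a finite group normalising a subgroup `X` of odd order, `Y = C_X(t)` and `Z` the set of elements of `X` inverted by `t`. Then `(y, z) ↦ y z` is a bijection `Y × Z → X`, so `|X| = |Y| |Z|`, and the subgroup generated by `Z` is normal in `X`. -/
theorem result {M : Type*} [Group M] [Finite M]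
    (t : M) (ht : orderOf t = 2) (X : Subgroup M) (hodd : Odd (Nat.card X))
    (hnorm : ∀ x ∈ X, t * x * t⁻¹ ∈ X) :
    (∀ x ∈ X, ∃! p : M × M, p.1 ∈ X ⊓ Subgroup.centralizer {t} ∧ p.2 ∈ Cfsg.invertedBy X t ∧ x = p.1 * p.2) ∧
      Nat.card X = Nat.card ↥(X ⊓ Subgroup.centralizer {t}) * Nat.card (Cfsg.invertedBy X t) ∧
      ∀ x ∈ X, MulAut.conj x • Subgroup.closure (Cfsg.invertedBy X t) = Subgroup.closure (Cfsg.invertedBy X t) := by
  have ht2 : t * t = 1 := by rw [← pow_two, ← ht, pow_orderOf_eq_one]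
  have ti : t⁻¹ = t := inv_eq_of_mul_eq_one_right ht2
  rw [ti] at hnorm
  have hcent : ∀ y, y ∈ Subgroup.centralizer ({t} : Set M) ↔ t * y * t = y := by
    intro y
    rw [Subgroup.mem_centralizer_iff]
    constructor
    · intro h
      rw [h t rfl, mul_assoc, ht2, mul_one]
    · intro h m hm
      rw [Set.mem_singleton_iff] at hm
      subst hm
      calc m * y = m * y * m * m := by rw [mul_assoc (m * y), ht2, mul_one]
        _ = y * m := by rw [h]
  have hinv : ∀ z, z ∈ Cfsg.invertedBy X t ↔ z ∈ X ∧ t * z * t = z⁻¹ := by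
    intro z
    show z ∈ X ∧ t * z * t⁻¹ = z⁻¹ ↔ _
    rw [ti]
  refine ⟨fun x hx => ?_, ?_, ?_⟩
  · obtain ⟨y, z, hy, hyt, hz, hzt, rfl⟩ := CfsgLib.RankOneInvol.exists_fixed_mul_inverted hodd ht2 hnorm hx
    refine ⟨(y, z), ⟨⟨hy, (hcent y).2 hyt⟩, (hinv z).2 ⟨hz, hzt⟩, rfl⟩, ?_⟩
    rintro ⟨y', z'⟩ ⟨⟨-, hy'⟩, hz', e⟩
    obtain ⟨hz'X, hz't⟩ := (hinv z').1 hz'
    obtain ⟨rfl, rfl⟩ := CfsgLib.RankOneInvol.fixed_mul_inverted_unique hodd ht2 hyt hz hzt
      ((hcent y').1 hy') hz'X hz't e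
    rfl
  · rw [← Nat.card_prod]
    symm
    refine Nat.card_eq_of_bijective (fun p => (⟨(p.1 : M) * (p.2 : M),
      X.mul_mem p.1.2.1 ((hinv _).1 p.2.2).1⟩ : X)) ⟨?_, ?_⟩
    · rintro ⟨⟨y, hy⟩, ⟨z, hz⟩⟩ ⟨⟨y', hy'⟩, ⟨z', hz'⟩⟩ e
      obtain ⟨hzX, hzt⟩ := (hinv z).1 hz
      obtain ⟨hz'X, hz't⟩ := (hinv z').1 hz'
      obtain ⟨rfl, rfl⟩ := CfsgLib.RankOneInvol.fixed_mul_inverted_unique hodd ht2 ((hcent y).1 hy.2) hzX hzt
        ((hcent y').1 hy'.2) hz'X hz't (Subtype.ext_iff.1 e)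
      rfl
    · rintro ⟨x, hx⟩
      obtain ⟨y, z, hy, hyt, hz, hzt, rfl⟩ := CfsgLib.RankOneInvol.exists_fixed_mul_inverted hodd ht2 hnorm hx
      exact ⟨(⟨y, hy, (hcent y).2 hyt⟩, ⟨z, (hinv z).2 ⟨hz, hzt⟩⟩), rfl⟩
  · intro x hx
    have key : ∀ y ∈ X, ∀ m ∈ Subgroup.closure (Cfsg.invertedBy X t),
        y * m * y⁻¹ ∈ Subgroup.closure (Cfsg.invertedBy X t) := by
      intro w hw m hm
      obtain ⟨y, z, hy, hyt, hz, hzt, rfl⟩ := CfsgLib.RankOneInvol.exists_fixed_mul_inverted hodd ht2 hnorm hw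
      have hzC : z ∈ Subgroup.closure (Cfsg.invertedBy X t) :=
        Subgroup.subset_closure ((hinv z).2 ⟨hz, hzt⟩)
      have hym : z * m * z⁻¹ ∈ Subgroup.closure (Cfsg.invertedBy X t) :=
        mul_mem (mul_mem hzC hm) (inv_mem hzC)
      rw [show y * z * m * (y * z)⁻¹ = y * (z * m * z⁻¹) * y⁻¹ by group]
      generalize z * m * z⁻¹ = n at hym
      induction hym using Subgroup.closure_induction with
      | mem n hn =>
        obtain ⟨hnX, hnt⟩ := (hinv n).1 hn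
        refine Subgroup.subset_closure ((hinv _).2 ⟨mul_mem (mul_mem hy hnX) (inv_mem hy), ?_⟩)
        have hyt' : t * y⁻¹ * t = y⁻¹ := by
          have := congrArg (·⁻¹) hyt
          simpa [mul_inv_rev, ti, mul_assoc] using this
        calc t * (y * n * y⁻¹) * t = t * y * (t * t) * n * (t * t) * y⁻¹ * t := by rw [ht2]; group
          _ = (t * y * t) * (t * n * t) * (t * y⁻¹ * t) := by group
          _ = (y * n * y⁻¹)⁻¹ := by rw [hyt, hnt, hyt']; group
      | one => rw [mul_one, mul_inv_cancel]; exact one_mem _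
      | mul p r _ _ hp hr =>
        have := mul_mem hp hr
        rwa [show y * p * y⁻¹ * (y * r * y⁻¹) = y * (p * r) * y⁻¹ by group] at this
      | inv p _ hp =>
        have := inv_mem hp
        rwa [show (y * p * y⁻¹)⁻¹ = y * p⁻¹ * y⁻¹ by group] at this
    ext m
    rw [Subgroup.mem_pointwise_smul_iff_inv_smul_mem]
    simp only [MulAut.smul_def, MulAut.conj_inv_apply]
    constructor
    · intro h
      have := key x hx _ h
      rwa [show x * (x⁻¹ * m * x) * x⁻¹ = m by group] at this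
    · intro h
      have := key x⁻¹ (X.inv_mem hx) m h
      rwa [inv_inv] at this

end Cfsg.Agent.S1124
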