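import Cfsg.Statements.S1135
import Cfsg.Agent.Lib.RankOneInvol.Twist

set_option autoImplicit false
open Cfsg

namespace Cfsg.Agent.S1135

/-- In the rank-one set-up (`G` finite and doubly transitive on `Ω`, `t` an involution moving `a`, `Q` normal in `G_a` with `G_a = Q D`, `Q ⊓ D = 1` for the two-point stabiliser `D = G_a ⊓ G_{t • a}`, `|Q|` even, `|D|` odd), with the action faithful and `G` containing two distinct commuting involutions: if `x = u v` with `u, v` involutions and `x² ≠ 1`, then `x` is conjugate to `u' t` for some involution `u'` of `G_a`, and `|C_G(x)|` is odd. -/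
theorem result {G Ω : Type*} [Group G] [Finite G] [MulAction G Ω] [FaithfulSMul G Ω] {a : Ω} {t : G} {Q : Subgroup G}
    (hS : Cfsg.IsRankOneSetup G Ω a t Q)
    (h2 : ∃ x y : G, x ≠ 1 ∧ y ≠ 1 ∧ x ≠ y ∧ x * x = 1 ∧ y * y = 1 ∧ x * y = y * x)
    (u v : G) (hu1 : u ≠ 1) (hu2 : u * u = 1) (hv1 : v ≠ 1) (hv2 : v * v = 1) (hx : (u * v) * (u * v) ≠ 1) :
    (∃ g : G, ∃ u' ∈ Cfsg.involutionsIn (MulAction.stabilizer G a : Set G), g * (u * v) * g⁻¹ = u' * t) ∧
      Odd (Nat.card ↥(Subgroup.centralizer {u * v})) := by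
  obtain ⟨c1, hc1⟩ := CfsgLib.RankOneInvol.exists_fixed hS hu2
  have hui : u⁻¹ = u := inv_eq_of_mul_eq_one_right hu2
  have hvi : v⁻¹ = v := inv_eq_of_mul_eq_one_right hv2
  have hfixne : ∀ c : Ω, u • c = c → v • c ≠ c := fun c hcu hcv => by
    obtain ⟨g, hg⟩ := CfsgLib.RankOneInvol.exists_smul hS c
    have hu' : g⁻¹ * u * g ∈ Cfsg.involutionsIn (MulAction.stabilizer G a : Set G) :=
      ⟨show (g⁻¹ * u * g) • a = a by rw [mul_smul, mul_smul, hg, hcu, ← hg, inv_smul_smul],
        CfsgLib.RankOneInvol.conj_ne_one' hu1 g, by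
        calc g⁻¹ * u * g * (g⁻¹ * u * g) = g⁻¹ * (u * u) * g := by group
          _ = 1 := by rw [hu2]; group⟩
    have hv' : g⁻¹ * v * g ∈ Cfsg.involutionsIn (MulAction.stabilizer G a : Set G) :=
      ⟨show (g⁻¹ * v * g) • a = a by rw [mul_smul, mul_smul, hg, hcv, ← hg, inv_smul_smul],
        CfsgLib.RankOneInvol.conj_ne_one' hv1 g, by
        calc g⁻¹ * v * g * (g⁻¹ * v * g) = g⁻¹ * (v * v) * g := by group
          _ = 1 := by rw [hv2]; group⟩
    have hc := (CfsgLib.RankOneInvol.invol_central hS h2 hu').2 _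
      (CfsgLib.RankOneInvol.invol_central hS h2 hv').1
    have huv : u * v = v * u := by
      calc u * v = g * ((g⁻¹ * u * g) * (g⁻¹ * v * g)) * g⁻¹ := by group
        _ = g * ((g⁻¹ * v * g) * (g⁻¹ * u * g)) * g⁻¹ := by rw [hc]
        _ = v * u := by group
    apply hx
    calc u * v * (u * v) = u * (v * u) * v := by group
      _ = u * (u * v) * v := by rw [← huv]
      _ = (u * u) * (v * v) := by group
      _ = 1 := by rw [hu2, hv2, mul_one]
  refine ⟨?_, ?_⟩
  · have hne : v • c1 ≠ c1 := hfixne c1 hc1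
    obtain ⟨g, hga, hgb⟩ := CfsgLib.RankOneInvol.two_trans hS (Ne.symm hne)
      (Ne.symm (CfsgLib.RankOneInvol.ta_ne hS))
    have hsw : CfsgLib.RankOneInvol.IsSwap G a t (g * v * g⁻¹) := by
      refine ⟨CfsgLib.RankOneInvol.conj_ne_one hv1 g, ?_, ?_⟩
      · calc g * v * g⁻¹ * (g * v * g⁻¹) = g * (v * v) * g⁻¹ := by group
          _ = 1 := by rw [hv2]; group
      · rw [mul_smul, mul_smul, ← hga, inv_smul_smul, hgb, hga]
    obtain ⟨k, hk, hkv⟩ := CfsgLib.RankOneInvol.swap_eq_conj_t hS hsw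
    have hka : k • a = a := ((CfsgLib.RankOneInvol.mem_invSet hS).1 hk).1.1
    refine ⟨k * g, k * g * u * (k * g)⁻¹, ⟨?_, CfsgLib.RankOneInvol.conj_ne_one hu1 _, ?_⟩, ?_⟩
    · show (k * g * u * (k * g)⁻¹) • a = a
      have h1 : (k * g)⁻¹ • a = c1 := by rw [inv_smul_eq_iff, mul_smul, hga, hka]
      rw [mul_smul, mul_smul, h1, hc1, mul_smul, hga, hka]
    · calc k * g * u * (k * g)⁻¹ * (k * g * u * (k * g)⁻¹) = k * g * (u * u) * (k * g)⁻¹ := by group
        _ = 1 := by rw [hu2]; group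
    · calc k * g * (u * v) * (k * g)⁻¹ = k * g * u * (k * g)⁻¹ * (k * (g * v * g⁻¹) * k⁻¹) := by group
        _ = _ := by rw [hkv]; group
  · rw [← Nat.not_even_iff_odd]
    intro heven
    haveI : Fact (Nat.Prime 2) := ⟨Nat.prime_two⟩
    obtain ⟨z, hz⟩ := exists_prime_orderOf_dvd_card' (G := ↥(Subgroup.centralizer {u * v})) 2 heven.two_dvd
    have hzx : (z : G) * (u * v) = u * v * z := Subgroup.mem_centralizer_singleton_iff.1 z.2
    have hz2 : (z : G) * z = 1 := by
      have h' := pow_orderOf_eq_one z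
      rw [hz, pow_two] at h'
      exact congrArg Subtype.val h'
    have hz1 : (z : G) ≠ 1 := fun e => by
      rw [← Subgroup.orderOf_coe, e, orderOf_one] at hz
      exact absurd hz (by norm_num)
    obtain ⟨c, hc⟩ := CfsgLib.RankOneInvol.exists_fixed hS hz2
    have hxc : (u * v) • c = c := CfsgLib.RankOneInvol.commute_fixed hS hz1 hz2 hzx.symm hc
    have huc : u • c ≠ c := fun e => hfixne c e (by
      have h1 : u • (u * v) • c = u • c := by rw [hxc]
      rwa [smul_smul, ← mul_assoc, hu2, one_mul, e] at h1)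
    have hvc : v • c = u • c := by
      have h1 : u • (u * v) • c = u • c := by rw [hxc]
      rwa [smul_smul, ← mul_assoc, hu2, one_mul] at h1
    have hxd : (u * v) • u • c = u • c := by
      rw [mul_smul, ← hvc, smul_smul v v, hv2, one_smul, hvc]
    have hxe : (u * v) • (z : G) • u • c = (z : G) • u • c := by
      rw [smul_smul, ← hzx, mul_smul, hxd]
    have hed : (z : G) • u • c ≠ u • c := fun e =>
      huc (CfsgLib.RankOneInvol.invol_eq_of_fixed hS hz1 hz2 e hc)
    have hec : (z : G) • u • c ≠ c := fun e => huc (by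
      have := congrArg (fun w => (z : G) • w) e
      rw [smul_smul, hz2, one_smul, hc] at this
      exact this)
    obtain ⟨g, hga, hgb⟩ := CfsgLib.RankOneInvol.two_trans hS (Ne.symm huc)
      (Ne.symm (CfsgLib.RankOneInvol.ta_ne hS))
    have hsw : CfsgLib.RankOneInvol.IsSwap G a t (g * u * g⁻¹) := by
      refine ⟨CfsgLib.RankOneInvol.conj_ne_one hu1 g, ?_, ?_⟩
      · calc g * u * g⁻¹ * (g * u * g⁻¹) = g * (u * u) * g⁻¹ := by group
          _ = 1 := by rw [hu2]; group
      · rw [mul_smul, mul_smul, ← hga, inv_smul_smul, hgb, hga]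
    obtain ⟨k, hk, hkv⟩ := CfsgLib.RankOneInvol.swap_eq_conj_t hS hsw
    have hkD := ((CfsgLib.RankOneInvol.mem_invSet hS).1 hk).1
    have hh1 : (k * g) • c = a := by rw [mul_smul, hga, hkD.1]
    have hh2 : (k * g) • u • c = t • a := by rw [mul_smul, hgb, hkD.2]
    have ht : k * g * u * (k * g)⁻¹ = t := by
      calc k * g * u * (k * g)⁻¹ = k * (g * u * g⁻¹) * k⁻¹ := by group
        _ = t := by rw [hkv]; group
    have hfix : ∀ d : Ω, (u * v) • d = d → (k * g * (u * v) * (k * g)⁻¹) • (k * g) • d = (k * g) • d :=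
      fun d hd => by rw [mul_smul, inv_smul_smul, mul_smul, hd]
    have hX : k * g * (u * v) * (k * g)⁻¹ ∈ CfsgLib.RankOneInvol.invSet G a t := by
      refine (CfsgLib.RankOneInvol.mem_invSet hS).2 ⟨CfsgLib.RankOneInvol.mem_twoPt.2 ⟨?_, ?_⟩, ?_⟩
      · have := hfix c hxc
        rwa [hh1] at this
      · have := hfix _ hxd
        rwa [hh2] at this
      · calc t * (k * g * (u * v) * (k * g)⁻¹) * t
            = k * g * ((u * u) * v * u) * (k * g)⁻¹ := by rw [← ht]; group
          _ = k * g * (v⁻¹ * u⁻¹) * (k * g)⁻¹ := by rw [hu2, hui, hvi, one_mul]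
          _ = _ := by group
    have hX1 : k * g * (u * v) * (k * g)⁻¹ ≠ 1 :=
      CfsgLib.RankOneInvol.conj_ne_one (fun e => hx (by rw [e, mul_one])) _
    rcases CfsgLib.RankOneInvol.invSet_fixes_two hS hX hX1 (hfix _ hxe) with h | h
    · exact hec (smul_left_cancel _ (h.trans hh1.symm))
    · exact hed (smul_left_cancel _ (h.trans hh2.symm))

end Cfsg.Agent.S1135
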