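import Cfsg.Statements.S1147
import Cfsg.Agent.Lib.Zass29.SuzukiClassify
import Cfsg.Agent.S1139

set_option autoImplicit false
open Cfsg

namespace Cfsg.Agent.S1147

/-- Let a finite simple Zassenhaus group `G` on `Ω` have a normal subgroup `U` of `G_a`, regular on `Ω` minus `a`, which is a non-abelian 2-group. Then `|Ω| = 2^(2n) + 1` with `n` odd, `n > 1`, a two-point stabiliser `G_a ⊓ G_b` is cyclic of order `2^n - 1`, and `U` is isomorphic to the type-A group over a field with `2^n` elements for some field automorphism `φ`. -/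
theorem result {G Ω : Type*} [Group G] [Finite G] [MulAction G Ω] [Finite Ω]
    (hZ : Cfsg.IsZassenhausGroup G Ω) [IsSimpleGroup G] {a b : Ω} (hab : a ≠ b)
    (U : Subgroup G) (hUle : U ≤ MulAction.stabilizer G a)
    (hUn : ∀ h ∈ MulAction.stabilizer G a, ∀ u ∈ U, h * u * h⁻¹ ∈ U)
    (hreg : ∀ c d : Ω, c ≠ a → d ≠ a → ∃! u : U, (u : G) • c = d)
    (hU2 : IsPGroup 2 U) (hUna : ∃ u ∈ U, ∃ v ∈ U, u * v ≠ v * u) :
    ∃ n : ℕ, Odd n ∧ 1 < n ∧ Nat.card Ω = 2 ^ (2 * n) + 1 ∧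
      IsCyclic ↥(MulAction.stabilizer G a ⊓ MulAction.stabilizer G b) ∧
      Nat.card ↥(MulAction.stabilizer G a ⊓ MulAction.stabilizer G b) = 2 ^ n - 1 ∧
      ∃ (F : Type) (_ : Field F) (_ : Fintype F) (φ : F ≃+* F), Fintype.card F = 2 ^ n ∧
        Nonempty (U ≃* Cfsg.suzukiTypeA F (φ : F →+* F)) := by
  haveI := Fintype.ofFinite Ω
  haveI := Fintype.ofFinite G
  haveI := hZ.1
  have hfix : ∀ u ∈ U, u ≠ 1 → ∀ c : Ω, u • c = c → c = a := by
    intro u hu hu1 c hc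
    by_contra hcx
    obtain ⟨w, -, huniq⟩ := hreg c c hcx hcx
    exact hu1 (congrArg Subtype.val ((huniq ⟨u, hu⟩ hc).trans (huniq 1 (one_smul _ _)).symm))
  have hcard : Nat.card U + 1 = Fintype.card Ω := by
    rw [CfsgLib.PermSmall.Kernel.card_regular hab hUle hreg]
    have := Fintype.card_pos_iff.mpr ⟨a⟩
    omega
  obtain ⟨u, hu, v, hv, huv⟩ := hUna
  have hna : ∃ u v : U, u * v ≠ v * u :=
    ⟨⟨u, hu⟩, ⟨v, hv⟩, fun e => huv (congrArg Subtype.val e)⟩
  have hodd : Odd (Nat.card (CfsgLib.PermSmall.Zassenhaus.pairStab G a b)) := by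
    rcases Nat.even_or_odd (Nat.card (CfsgLib.PermSmall.Zassenhaus.pairStab G a b)) with he | ho
    · obtain ⟨K, hK, hmem⟩ := CfsgLib.PermSmall.Zassenhaus.exists_kernel hZ hab he
      have hle : U ≤ K := fun u hu => by
        rw [hmem]
        by_cases hu1 : u = 1
        · exact Or.inl hu1
        · exact Or.inr fun y => ⟨hfix u hu hu1 y, fun e => e ▸ hUle hu⟩
      exact absurd (congrArg (fun z : K => (z : G)) (hK.is_comm.comm ⟨u, hle hu⟩ ⟨v, hle hv⟩)) huv
    · exact ho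
  obtain ⟨T, S⟩ := CfsgLib.Zass29.exists_szSetting hZ hab hodd U hUle hcard hfix hU2 hna
  obtain ⟨n, hno, hn1, hqn, hsq⟩ := S.exists_odd_exponent hZ
  have hTU : T.F = U := by
    ext g
    rw [CfsgLib.Zass29.FeitThm.mem_iff_fixOnly hZ hab T.F_le S.card_omega.symm
      (fun u hu hu1 y => T.fix_only hu hu1) g,
      CfsgLib.Zass29.FeitThm.mem_iff_fixOnly hZ hab hUle hcard hfix g]
  obtain ⟨F, iF, iT, φ, hFc, -, -, ⟨eiso⟩⟩ :=
    Cfsg.Agent.S1139.result S.suzuki (by rw [S.card_center, hsq])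
  refine ⟨n, hno, hn1, ?_, CfsgLib.Zass29.isCyclic_pairStab hZ hab hodd,
    (by show Nat.card T.H = _; omega), F, iF, iT, φ, by rw [hFc, S.card_center, hqn],
    ⟨(MulEquiv.subgroupCongr hTU).symm.trans eiso⟩⟩
  rw [Nat.card_eq_fintype_card, S.card_omega, hsq, hqn, ← pow_mul, mul_comm]

end Cfsg.Agent.S1147
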