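import Cfsg.Statements.S2764
import Cfsg.Agent.Lib.PushingUp.Main
import Cfsg.Agent.Lib.PushingUp.Chief

set_option autoImplicit false
open Cfsg

namespace Cfsg.Agent.S2764

/-- Pushing up for a rank-one quotient: let G be a finite group and p a prime with C_G(O_p(G)) ≤ O_p(G), suppose G/K ≅ PSL₂(p^n) for some normal subgroup K and some n ≥ 1, that a Sylow p-subgroup S of G lies in exactly one maximal subgroup of G, and that no nontrivial characteristic subgroup of S is normal in G. Then G/O_p(G) ≅ SL₂(p^n), and every noncentral chief factor U/W of G inside O_p(G) is a natural SL₂-module over the field with p^n elements for the action of G/W. -/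
theorem result {G : Type*} [Group G] [Finite G] {p : ℕ} [Fact p.Prime] (S : Sylow p G) (hE₁ : Subgroup.centralizer (Cfsg.pCore p G : Set G) ≤ Cfsg.pCore p G) (hE₂ : ∃! M : Subgroup G, IsCoatom M ∧ (S : Subgroup G) ≤ M) (K : Subgroup G) [K.Normal] (F : Type) [Field F] [Fintype F] (n : ℕ) (hn : 1 ≤ n) (hF : Fintype.card F = p ^ n) (hE₃ : Nonempty (G ⧸ K ≃* Matrix.ProjectiveSpecialLinearGroup (Fin 2) F)) (hd : ∀ T : Subgroup ↥(S : Subgroup G), T ≠ ⊥ → T.Characteristic → ¬ (T.map (S : Subgroup G).subtype).Normal) : Nonempty (G ⧸ Cfsg.pCore p G ≃* Matrix.SpecialLinearGroup (Fin 2) F) ∧ ∀ (U W : Subgroup G) [W.Normal], U ≤ Cfsg.pCore p G → Cfsg.IsChiefFactor U W → ¬ ⁅U, (⊤ : Subgroup G)⁆ ≤ W → Cfsg.IsNaturalSL2Module F (U.map (QuotientGroup.mk' W)) (⊤ : Subgroup (G ⧸ W)) := by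
  have hE := CfsgLib.PushingUp.situation_mk S hE₁ hE₂ K inferInstance F n hF hE₃
  obtain ⟨e⟩ := hE₃
  obtain ⟨pr'⟩ := CfsgLib.PushingUp.exists_proj S rfl K n hn hF e
  have hHD := CfsgLib.PushingUp.hd_of_characteristic hd
  suffices h : ∃ ρ : G →* Matrix.SpecialLinearGroup (Fin 2) F, Function.Surjective ρ ∧ ρ.ker = pCore p G ∧
      ∀ (U W : Subgroup G) [W.Normal], U ≤ pCore p G → IsChiefFactor U W → ¬ ⁅U, (⊤ : Subgroup G)⁆ ≤ W →
        IsNaturalSL2Module F (U.map (QuotientGroup.mk' W)) (⊤ : Subgroup (G ⧸ W)) by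
    obtain ⟨ρ, hρ, hker, h⟩ := h
    exact ⟨⟨(QuotientGroup.quotientMulEquivOfEq hker.symm).trans (QuotientGroup.quotientKerEquivOfSurjective ρ hρ)⟩, h⟩
  rcases CfsgLib.PushingUp.pushing_up hE hHD pr' with h | h
  · obtain ⟨-, -, -, -, ρ, V, N, L, hρ, hker, hVN, hN, hT, -⟩ := h
    refine ⟨ρ, hρ, hker, fun U W _ hUT hc hnc => ?_⟩
    have h0 : ¬ U ⊓ pCore p G ≤ W := by rw [inf_eq_left.2 hUT]; exact hc.1.not_ge
    have h1 := CfsgLib.PushingUp.hyper_step inferInstance hT hc hnc h0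
    by_cases h2 : U ⊓ N ≤ W
    · exact CfsgLib.PushingUp.nat_step hρ hker hUT hVN hc h1 h2
    · exact absurd (inf_le_right.trans bot_le) (CfsgLib.PushingUp.hyper_step hVN.2.2.1 hN hc hnc h2)
  · obtain ⟨-, -, -, -, ρ, U', V, N, hρ, hker, hVN, hUV, hN, hT, -⟩ := h
    refine ⟨ρ, hρ, hker, fun U W _ hUT hc hnc => ?_⟩
    have h0 : ¬ U ⊓ pCore p G ≤ W := by rw [inf_eq_left.2 hUT]; exact hc.1.not_ge
    have h1 := CfsgLib.PushingUp.hyper_step inferInstance hT hc hnc h0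
    by_cases h2 : U ⊓ V ≤ W
    · exact CfsgLib.PushingUp.nat_step hρ hker hUT hUV hc h1 h2
    by_cases h3 : U ⊓ N ≤ W
    · exact CfsgLib.PushingUp.nat_step hρ hker hUT hVN hc h2 h3
    · exact absurd (inf_le_right.trans bot_le) (CfsgLib.PushingUp.hyper_step hVN.2.2.1 hN hc hnc h3)

end Cfsg.Agent.S2764
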