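import Cfsg.Statements.S4637
import Cfsg.Agent.Lib.KleinDefect.Main
import Cfsg.Agent.Lib.BrauerPairs.Normalizer
import Cfsg.Agent.S4633

set_option autoImplicit false
set_option linter.style.haveILetI false
open Cfsg

open CfsgLib CfsgLib.BrauerPairs MonoidAlgebra

namespace Cfsg.Agent.S4637

/-- Let B be a block of the finite group G relative to a maximal ideal M of the algebraic integers containing 2, with a Klein four defect group P. Let c be a block of C_G(P) inducing B, T the stabilizer of c in N_G(P) and e the index of C_G(P) in T (the inertial index). Then e is 1 or 3, B contains exactly four irreducible characters, and the 2-regular rank of B (its number of irreducible Brauer characters) equals e. -/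
theorem result {G : Type*} [Group G] [Finite G] (M : Ideal Cfsg.AlgInt) (hM : Cfsg.IsPModular 2 M) (B : Set (Cfsg.IrrCharacter G)) (hB : Cfsg.IsPBlock M B) (P : Subgroup G) (hPD : Cfsg.IsDefectGroup 2 M B P) (hV : IsKleinFour P) (c : Set (Cfsg.IrrCharacter (Subgroup.centralizer (P : Set G)))) (hc : Cfsg.IsInducedBlock M (Subgroup.centralizer (P : Set G)) c B) (T : Subgroup G) (hT : ∀ g : G, g ∈ T ↔ (g ∈ Subgroup.normalizer (P : Set G) ∧ Cfsg.StabilizesBlock (Subgroup.centralizer (P : Set G)) c g)) (e : ℕ) (he : (Subgroup.centralizer (P : Set G)).relIndex T = e) : (e = 1 ∨ e = 3) ∧ Nat.card B = 4 ∧ Cfsg.blockRank 2 B = e := by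
  classical
  have : Fintype G := Fintype.ofFinite G
  let _ : ∀ K : Subgroup G, Fintype K := fun K => Fintype.ofFinite K
  haveI : M.IsMaximal := hM.2.1
  haveI : Fact (Nat.Prime 2) := ⟨Nat.prime_two⟩
  have := charP_res hM
  obtain ⟨h4, hsq, hord, hPp, hab⟩ := KleinDefect.klein_props hV
  have hD0 := (isDefectGroup_iff hM hB P).1 hPD
  have hPC : P ≤ cz P := fun x hx => mem_cz.2 fun y hy => hab y hy x hx
  obtain ⟨hcB, -, hO⟩ :=
    (isBrauerPairOf_iff hM B P c).1 (isBrauerPairOf_of_isInducedBlock hM hPp hc)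
  have hb := isBlockIdem_eA hM hcB
  have hST : BrSetup 2 P (eA hM (cz P) c) T := setup_of_stab hM hPp hcB hT
  have hmemT : ∀ g : G, g ∈ T ↔ g ∈ Subgroup.normalizer (P : Set G) ∧
      conjA g (eA hM (cz P) c) = eA hM (cz P) c := fun g => (hT g).trans
    (and_congr_right fun hg => stabilizesBlock_iff_conjA hM (normalizer_le_normalizer_cz P hg) hcB)
  have hDS : IsDefect 2 P (eA hM (cz P) c) T P :=
    isDefect_local hM hB hST hO.cover hD0 hST.le (by rw [brMap_eq_self hb.supp]; exact hb.ne_zero)
  have hodd : ¬ 2 ∣ e := he ▸ Cfsg.Agent.S4633.not_dvd_relIndex_of_trace hST hPC hDS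
  have h6 : e ∣ 6 := he ▸ KleinDefect.relIndex_dvd_six hV hST.le_norm
  have he13 : e = 1 ∨ e = 3 := by
    have : e ≤ 6 := Nat.le_of_dvd (by norm_num) h6
    interval_cases e <;> first | omega | norm_num at h6 hodd ⊢
  -- defects and local ranks
  have hdB : blockDefect 2 B = 2 := Nat.pow_right_injective le_rfl
    (show 2 ^ blockDefect 2 B = 2 ^ 2 by
      rw [← BlockCover.natCard_defect hM hB hPD, h4])
  have hloc : ∀ x ∈ P, x ≠ 1 →
      ∀ f : Set (IrrCharacter (Subgroup.centralizer ({x} : Set G))), IsPBlock M f →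
      IsDefectGroup 2 M f (P.subgroupOf (Subgroup.centralizer ({x} : Set G))) →
        blockDefect 2 f = 2 ∧ blockRank 2 f = 1 := by
    intro x hx hx1 f hf hfD
    have hPK : P ≤ Subgroup.centralizer ({x} : Set G) := fun a ha =>
      Subgroup.mem_centralizer_singleton_iff.2 (hab a ha x hx)
    have hd : blockDefect 2 f = 2 := Nat.pow_right_injective le_rfl
      (show 2 ^ blockDefect 2 f = 2 ^ 2 by
        rw [← BlockCover.natCard_defect hM hf hfD,
          Nat.card_congr (Subgroup.subgroupOfEquivOfLe hPK).toEquiv, h4])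
    refine ⟨hd, le_antisymm ?_ (CyclicDefectBound.one_le_blockRank hM hf)⟩
    refine KleinDefect.blockRank_le_one_of_central hM (z := ⟨x, hPK hx⟩) ?_ ?_ hf hd.le
    · exact Subgroup.mem_center_iff.2 fun a => Subtype.ext
        (Subgroup.mem_centralizer_singleton_iff.1 a.2)
    · rw [← Subgroup.orderOf_coe]; exact hord x hx hx1
  -- four characters
  haveI : Nontrivial P := Finite.one_lt_card_iff_nontrivial.1 (by omega)
  obtain ⟨⟨v, hv⟩, hv1⟩ := exists_ne (1 : P)
  have hv1' : v ≠ 1 := fun h => hv1 (Subtype.ext h)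
  obtain ⟨f, hf, -, -, hfI, -, hfD, -⟩ := CyclicDefectBound.exists_local_block
    (Q := Subgroup.zpowers v) (K := Subgroup.centralizer ({v} : Set G)) hM hB hPD hPC hb hO.cover
    (Subgroup.zpowers_le.2 hv) (CyclicDefectBound.centralizer_singleton_eq v)
  have hk : Nat.card B = 4 := KleinDefect.card_eq_four hM hdB (hord v hv hv1') rfl hfI
    (hloc v hv hv1' f hf hfD).1 (hloc v hv hv1' f hf hfD).2
  refine ⟨he13, hk, ?_⟩
  -- the count
  have hsub := KleinDefect.card_sub_rank hM hB hPD hPC hb hO.cover hmemT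
    (fun x hx hx1 f hf hfD => (hloc x hx hx1 f hf hfD).2)
  rcases he13 with rfl | rfl
  · have hTC : T ≤ cz P := Subgroup.relIndex_eq_one.1 he
    have hfix : ∀ t ∈ T, ∀ r ∈ P, t * r * t⁻¹ = r := fun t ht r hr => by
      rw [← mem_cz.1 (hTC ht) r hr, mul_inv_cancel_right]
    have h := hsub (Finset.univ.filter fun x : G => x ∈ P ∧ x ≠ 1)
      (fun r hr => by simpa using hr)
      (fun x hx hx1 => ⟨1, T.one_mem, x, by simp [hx, hx1], by simp⟩)
      (fun r hr r' _ t ht hrr => by
        rw [← hrr, hfix t ht r (by simpa using hr : r ∈ P ∧ r ≠ 1).1])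
    rw [← Fintype.card_subtype, ← Nat.card_eq_fintype_card, KleinDefect.card_nontrivial hV, hk] at h
    omega
  · have h := hsub {v} (fun r hr => by rw [Finset.mem_singleton.1 hr]; exact ⟨hv, hv1'⟩)
      (fun x hx hx1 => by
        obtain ⟨t, ht, htx⟩ := KleinDefect.transitive_of_three hV hST.le_norm he hv hv1' hx hx1
        exact ⟨t, ht, v, Finset.mem_singleton_self v, htx⟩)
      (fun r hr r' hr' _ _ _ => (Finset.mem_singleton.1 hr).trans (Finset.mem_singleton.1 hr').symm)
    rw [Finset.card_singleton, hk] at h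
    omega
end Cfsg.Agent.S4637
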