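import Cfsg.Statements.S4648
import Cfsg.Agent.Lib.TwoChars.RankOne
import Cfsg.Agent.Lib.KleinDefect.Pairs
import Cfsg.Agent.Lib.BrauerPairs.Nilpotent
import Cfsg.Agent.Lib.BrauerPairs.Normalizer
import Cfsg.Agent.Lib.BlockCover.Defect
import Cfsg.Agent.S4633
import Cfsg.Agent.S4637
-- import your own Cfsg.Agent.* helpers here

set_option autoImplicit false
set_option linter.style.haveILetI false
open Cfsg

open CfsgLib CfsgLib.BrauerPairs MonoidAlgebra

namespace Cfsg.Agent.S4648

/-- An action whose squares are trivial and whose index is odd is trivial. -/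
theorem le_cz_of_sq {G : Type*} [Group G] [Finite G] {D T : Subgroup G}
    (hT : T ≤ Subgroup.normalizer (D : Set G)) (hodd : ¬ 2 ∣ (cz D).relIndex T)
    (hsq : ∀ t ∈ T, t * t ∈ cz D) : T ≤ cz D := by
  intro t ht
  have : ((cz D).subgroupOf T).Normal := ⟨fun z hz g => by
    rw [Subgroup.mem_subgroupOf] at hz ⊢
    exact (Subgroup.mem_normalizer_iff.1 (normalizer_le_normalizer_cz D (hT g.2)) _).1 hz⟩
  have hpow := Subgroup.pow_index_mem ((cz D).subgroupOf T) (⟨t, ht⟩ : T)
  obtain ⟨m, hm⟩ : Odd ((cz D).subgroupOf T).index :=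
    Nat.odd_iff.2 (Nat.two_dvd_ne_zero.1 hodd)
  rw [hm, pow_succ, pow_mul, pow_two, Subgroup.mem_subgroupOf] at hpow
  simp only [Subgroup.coe_mul, SubmonoidClass.coe_pow] at hpow
  exact ((cz D).mul_mem_cancel_left ((cz D).pow_mem (hsq t ht) m)).1 hpow

/-- The nilpotency criterion for a defect group of order at most four. -/
theorem stab_le_cz {G : Type*} [Group G] [Fintype G] {p : ℕ} [Fact p.Prime] {M : Ideal AlgInt}
    [M.IsMaximal]
    (hM : IsPModular p M) {B : Set (IrrCharacter G)} (hB : IsPBlock M B) {D : Subgroup G}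
    (hD : IsDefectGroup p M B D) (hl : blockRank p B = 1) (hDk : Nat.card D = Nat.card B)
    (hpd : p = 2 ∧ Nat.card D = 2 ∨ p = 2 ∧ Nat.card D = 4 ∨ p = 3 ∧ Nat.card D = 3)
    (hPc : D ≤ cz D) {c : Set (IrrCharacter (cz D))} (hind : IsInducedBlock M (cz D) c B) :
    pairStab D (eA hM (cz D) c) ≤ cz D := by
  classical
  let _ : ∀ K : Subgroup G, Fintype K := fun K => Fintype.ofFinite K
  have := charP_res hM
  have hD0 := (isDefectGroup_iff hM hB D).1 hD
  obtain ⟨hcB, -, hO⟩ :=
    (isBrauerPairOf_iff hM B D c).1 (isBrauerPairOf_of_isInducedBlock hM hD0.pgroup hind)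
  have hb := isBlockIdem_eA hM hcB
  have hST : BrSetup p D (eA hM (cz D) c) (pairStab D (eA hM (cz D) c)) :=
    setup_of_stab hM hD0.pgroup hcB fun g => mem_pairStab.trans (and_congr_right fun hg =>
      (stabilizesBlock_iff_conjA hM (normalizer_le_normalizer_cz D hg) hcB).symm)
  have hDS : IsDefect p D (eA hM (cz D) c) (pairStab D (eA hM (cz D) c)) D :=
    isDefect_local hM hB hST hO.cover hD0 hST.le (by rw [brMap_eq_self hb.supp]; exact hb.ne_zero)
  have hcop : ¬ p ∣ (cz D).relIndex (pairStab D (eA hM (cz D) c)) :=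
    Cfsg.Agent.S4633.not_dvd_relIndex_of_trace hST hPc hDS
  have hconj : ∀ t ∈ pairStab D (eA hM (cz D) c), ∀ x ∈ D, t * x * t⁻¹ ∈ D := fun t ht x hx =>
    (Subgroup.mem_normalizer_iff.1 (mem_pairStab.1 ht).1 x).1 hx
  by_cases hcyc : IsCyclic D
  · obtain ⟨⟨x, hx⟩, hgen⟩ := IsCyclic.exists_generator (α := D)
    have hz : Subgroup.zpowers x = D := by
      refine le_antisymm (Subgroup.zpowers_le.2 hx) fun a ha => ?_
      obtain ⟨i, hi⟩ := Subgroup.mem_zpowers_iff.1 (hgen ⟨a, ha⟩)
      exact Subgroup.mem_zpowers_iff.2 ⟨i, by simpa using congrArg Subtype.val hi⟩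
    have hord : orderOf x = Nat.card D := by rw [← Nat.card_zpowers, hz]
    have hfix : ∀ t, t * x * t⁻¹ = x → t ∈ cz D := fun t h => mem_cz.2 fun q hq => by
      rw [← hz] at hq
      obtain ⟨i, rfl⟩ := Subgroup.mem_zpowers_iff.1 hq
      have hc : Commute x t := (mul_inv_eq_iff_eq_mul.1 h).symm
      exact hc.zpow_left i
    have hcases : ∀ t ∈ pairStab D (eA hM (cz D) c), t * x * t⁻¹ = x ∨ t * x * t⁻¹ = x⁻¹ := by
      intro t ht
      have hmem := hconj t ht x hx
      rw [← hz, (isOfFinOrder_of_finite x).mem_zpowers_iff_mem_range_orderOf, Finset.mem_image] at hmem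
      obtain ⟨i, hi, hit⟩ := hmem
      rw [Finset.mem_range, hord] at hi
      have ho : orderOf (x ^ i) = orderOf x := by rw [hit]; exact (MulAut.conj t).orderOf_eq x
      have hinv : ∀ j, orderOf x = j + 1 → x ^ j = x⁻¹ := fun j hj =>
        eq_inv_of_mul_eq_one_left (by rw [← pow_succ, ← hj, pow_orderOf_eq_one])
      rcases hpd with ⟨-, h⟩ | ⟨-, h⟩ | ⟨-, h⟩ <;> rw [h] at hi hord <;> interval_cases i
      all_goals
        first
          | (left; rw [← hit, pow_one])
          | (right; rw [← hit]; exact hinv _ hord)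
          | (rw [pow_zero, orderOf_one, hord] at ho; omega)
          | (rw [orderOf_pow, hord] at ho; norm_num at ho)
    rcases hpd with ⟨hp2, h⟩ | ⟨hp2, h⟩ | ⟨hp3, h⟩
    · intro t ht
      rcases hcases t ht with h' | h'
      · exact hfix t h'
      · refine hfix t (h'.trans (inv_eq_of_mul_eq_one_left ?_))
        rw [← pow_two, ← h, ← hord, pow_orderOf_eq_one]
    · subst hp2
      refine le_cz_of_sq (fun t ht => (mem_pairStab.1 ht).1) hcop fun t ht => ?_
      rcases hcases t ht with h' | h'
      · exact mul_mem (hfix t h') (hfix t h')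
      · refine hfix _ ?_
        rw [mul_inv_rev, show t * t * x * (t⁻¹ * t⁻¹) = t * (t * x * t⁻¹) * t⁻¹ by group, h',
          ← conj_inv, h', inv_inv]
    · intro t ht
      by_contra htc
      have ht2 : t * x * t⁻¹ = x⁻¹ := (hcases t ht).resolve_left fun h' => htc (hfix t h')
      have hx1 : x ≠ 1 := fun h1 => by rw [h1, orderOf_one] at hord; omega
      have hsub := KleinDefect.card_sub_rank hM hB hD hPc hb hO.cover
        (T := pairStab D (eA hM (cz D) c)) (fun g => mem_pairStab) (fun y hy hy1 f hf hfD => ?_) {x}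
        (fun r hr => by rw [Finset.mem_singleton.1 hr]; exact ⟨hx, hx1⟩)
        (fun v hv hv1 => by
          rw [← hz, (isOfFinOrder_of_finite x).mem_zpowers_iff_mem_range_orderOf, Finset.mem_image]
            at hv
          obtain ⟨i, hi, rfl⟩ := hv
          rw [Finset.mem_range, hord, h] at hi
          interval_cases i
          · exact absurd (pow_zero x) hv1
          · exact ⟨1, one_mem _, x, Finset.mem_singleton_self x, by simp⟩
          · refine ⟨t, ht, x, Finset.mem_singleton_self x, ht2.trans (inv_eq_of_mul_eq_one_left ?_)⟩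
            rw [← pow_succ, show 2 + 1 = orderOf x by omega, pow_orderOf_eq_one])
        (fun r hr r' hr' _ _ _ => (Finset.mem_singleton.1 hr).trans (Finset.mem_singleton.1 hr').symm)
      · rw [Finset.card_singleton, hl, ← hDk, h] at hsub
        omega
      · have hyD : Subgroup.zpowers y = D := Subgroup.eq_of_le_of_card_ge (Subgroup.zpowers_le.2 hy) (by
          have h3 : Nat.card (Subgroup.zpowers y) ∣ Nat.card D :=
            Subgroup.card_dvd_of_le (Subgroup.zpowers_le.2 hy)
          rw [h] at h3 ⊢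
          rcases (Nat.dvd_prime Nat.prime_three).1 h3 with h4 | h4
          · exact absurd (orderOf_eq_one_iff.1 (by rw [← Nat.card_zpowers, h4])) hy1
          · exact h4.ge)
        refine (CyclicDefectBound.exists_base hM (hD0.pgroup.comap_subtype
          (K := Subgroup.centralizer ({y} : Set G))) ?_ hf hfD).1
        intro z hz'
        refine Subgroup.mem_center_iff.2 fun a => Subtype.ext ?_
        have ha : (a : G) ∈ cz D := by
          rw [← hyD, ← CyclicDefectBound.centralizer_singleton_eq]; exact a.2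
        exact (mem_cz.1 ha (z : G) (Subgroup.mem_subgroupOf.1 hz')).symm
  · -- the Klein four case
    obtain ⟨rfl, h4⟩ : p = 2 ∧ Nat.card D = 4 := by
      rcases hpd with ⟨hp2, h⟩ | h' | ⟨hp3, h⟩
      · exact absurd (isCyclic_of_prime_card h) hcyc
      · exact h'
      · exact absurd (isCyclic_of_prime_card h) hcyc
    have hsq : ∀ y : D, y ^ 2 = 1 := fun y => by
      have hdvd : orderOf y ∣ 2 ^ 2 := by
        rw [show 2 ^ 2 = Nat.card D by rw [h4]; norm_num]; exact orderOf_dvd_natCard y
      obtain ⟨j, hj, hjy⟩ := (Nat.dvd_prime_pow Nat.prime_two).1 hdvd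
      interval_cases j
      · exact orderOf_dvd_iff_pow_eq_one.1 (hjy ▸ one_dvd 2)
      · exact orderOf_dvd_iff_pow_eq_one.1 (hjy ▸ dvd_rfl)
      · exact absurd (isCyclic_of_orderOf_eq_card y (by rw [hjy, h4]; norm_num)) hcyc
    have hexp : Monoid.exponent D = 2 := by
      rcases (Nat.dvd_prime Nat.prime_two).1 (Monoid.exponent_dvd_of_forall_pow_eq_one hsq) with h1 | h1
      · have : Subsingleton D := Monoid.exp_eq_one_iff.1 h1
        have := Nat.card_of_subsingleton (1 : D)
        omega
      · exact h1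
    obtain ⟨-, -, he⟩ := Cfsg.Agent.S4637.result M hM B hB D hD ⟨h4, hexp⟩ c hind
      (pairStab D (eA hM (cz D) c)) (fun g => mem_pairStab.trans (and_congr_right fun hg =>
        (stabilizesBlock_iff_conjA hM (normalizer_le_normalizer_cz D hg) hcB).symm)) _ rfl
    exact Subgroup.relIndex_eq_one.1 (he.symm.trans hl)

/-- Let B be a block of the finite group G relative to a maximal ideal M of the algebraic integers containing the prime p, with a nontrivial defect group D. If B has p-regular rank 1 and at most four irreducible characters, then B is nilpotent, D has exactly as many elements as B has irreducible characters, and p is 2 or 3. -/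
theorem result {G : Type*} [Group G] [Finite G] (p : ℕ) [Fact p.Prime] (M : Ideal Cfsg.AlgInt) (hM : Cfsg.IsPModular p M) (B : Set (Cfsg.IrrCharacter G)) (hB : Cfsg.IsPBlock M B) (D : Subgroup G) (hD : Cfsg.IsDefectGroup p M B D) (hD1 : D ≠ ⊥) (hl : Cfsg.blockRank p B = 1) (hk : Nat.card B ≤ 4) : Cfsg.IsNilpotentBlock p M B ∧ Nat.card D = Nat.card B ∧ (p = 2 ∨ p = 3) := by
  classical
  have : Fintype G := Fintype.ofFinite G
  let _ : ∀ K : Subgroup G, Fintype K := fun K => Fintype.ofFinite K
  haveI : M.IsMaximal := hM.2.1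
  have := charP_res hM
  have hcard := BlockCover.natCard_defect hM hB hD
  have hd : 1 ≤ blockDefect p B := by
    by_contra h
    refine hD1 (Subgroup.eq_bot_of_card_eq D ?_)
    rw [hcard, show blockDefect p B = 0 by omega, pow_zero]
  have hpk : p ^ blockDefect p B = Nat.card B := TwoChars.pow_defect_eq_card hM hB hl hk hd
  have hDk : Nat.card D = Nat.card B := hcard.trans hpk
  have hp2 : 2 ≤ p := (Fact.out : p.Prime).two_le
  have hp : p ≠ 4 := fun h => by
    have := (Fact.out : p.Prime)
    rw [h] at this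
    norm_num at this
  have hple : p ≤ 4 := (Nat.le_self_pow (by omega) p).trans (hpk.le.trans hk)
  have hd2 : blockDefect p B ≤ 2 := by
    by_contra h
    have := (Nat.pow_le_pow_left hp2 _).trans (hpk.le.trans hk)
    have := (Nat.pow_le_pow_right (show 0 < 2 by norm_num) (show 3 ≤ blockDefect p B by omega)).trans
      this
    omega
  have hpd : p = 2 ∧ Nat.card D = 2 ∨ p = 2 ∧ Nat.card D = 4 ∨ p = 3 ∧ Nat.card D = 3 := by
    rw [hcard]
    generalize blockDefect p B = d at *
    interval_cases p <;> interval_cases d <;> norm_num at hpk ⊢ <;> omega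
  have hp23 : p = 2 ∨ p = 3 := by omega
  have hab : ∀ x ∈ D, ∀ y ∈ D, x * y = y * x := by
    intro x hx y hy
    refine congrArg Subtype.val (?_ : (⟨x, hx⟩ : D) * ⟨y, hy⟩ = ⟨y, hy⟩ * ⟨x, hx⟩)
    rcases hpd with ⟨rfl, h⟩ | ⟨rfl, h⟩ | ⟨rfl, h⟩
    · have := isCyclic_of_prime_card h
      exact (IsCyclic.commutative (α := D)).is_comm.comm _ _
    · exact IsPGroup.commutative_of_card_eq_prime_sq (p := 2) (by rw [h]; norm_num) _ _
    · have := isCyclic_of_prime_card h
      exact (IsCyclic.commutative (α := D)).is_comm.comm _ _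
  have hPc : D ≤ cz D := fun x hx => mem_cz.2 fun y hy => hab y hy x hx
  have hD0 := (isDefectGroup_iff hM hB D).1 hD
  have hEb := isBlockIdem_eG hM hB
  have hfix : eG hM B ∈ fixAlg (ResK M) D := fixAlg_anti le_top hEb.fixed
  obtain ⟨e, he, hcov⟩ := exists_block_le (hasBlocks hM) (brMap_mem_suppAlg D (eG hM B))
    (brMap_mem_fixAlg (cz_le_normalizer D) (fixAlg_anti le_top hEb.fixed))
    (by rw [← brMap_mul hD0.pgroup hfix hfix, hEb.idem]) hD0.br_ne
  obtain ⟨c, hc, rfl⟩ := exists_eA_eq hM he
  have hind : IsInducedBlock M (cz D) c B :=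
    CyclicDefectBound.induced_of_cover hM hD0.pgroup hPc rfl hB hc hcov
  have hmax : IsMaximalBrauerPair p M B D c :=
    (isMaximalBrauerPair_iff hM B D c).2 ⟨isBrauerPairOf_of_isInducedBlock hM hD0.pgroup hind, hD0⟩
  refine ⟨(nilpotent_iff_of_abelian hM hmax hab).2 fun x hxN hxs => ?_, hDk, hp23⟩
  exact stab_le_cz hM hB hD hl hDk hpd hPc hind (mem_pairStab.2
    ⟨hxN, (stabilizesBlock_iff_conjA hM (normalizer_le_normalizer_cz D hxN) hc).1 hxs⟩)

end Cfsg.Agent.S4648
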