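import Cfsg.Statements.S5469
import Cfsg.Agent.Lib.ThreeTrans.Tower.Bases
import Cfsg.Agent.Lib.ThreeTrans.Tower.RestHex
import Cfsg.Agent.Lib.ThreeTrans.Tower.UnitaryPerp
import Cfsg.Agent.Lib.ThreeTrans.TypeTop.Perfect
import Cfsg.Agent.Lib.AutPSU.Card
import Cfsg.Agent.Lib.AutPSL.FieldGalois
-- import your own Cfsg.Agent.* helpers here

set_option autoImplicit false
open Cfsg

namespace Cfsg.Agent.S5469
open CfsgLib.ThreeTrans CfsgLib.ThreeTrans.Tower CfsgLib.ThreeTrans.TypeTop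

variable {G : Type*} [Group G]

theorem cj_comp (a b x : G) : a * b * x * (a * b)⁻¹ = a * (b * x * b⁻¹) * a⁻¹ := by group

theorem cj_fix {g x : G} (h : Commute g x) : g * x * g⁻¹ = x := by rw [h.eq, mul_inv_cancel_right]

theorem cj_inv_of {g x y : G} (h : g * x * g⁻¹ = y) : g⁻¹ * y * g⁻¹⁻¹ = x := by rw [← h]; group

theorem cj_inj {g x y : G} (h : g * x * g⁻¹ = g * y * g⁻¹) : x = y := mul_left_cancel (mul_right_cancel h)


/-- Let G be a finite group with trivial centre generated by a conjugation-invariant set D of 3-transpositions on which it acts primitively, such that for some d in D the subgroup generated by the members of D other than d commuting with d has central largest normal 2- and 3-subgroups, and suppose G with D is of type M(22). Let d₁, d₂ be distinct commuting members of D, j = d₁ d₂, K the joint centralizer of d₁ and d₂, C the centralizer of j and V the subgroup generated by d₁ and d₂. Then K has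 index 2 in C, V is the centre of K, and C has a normal subgroup E containing V with E/V elementary abelian of order 2^8 and C/E isomorphic to the full automorphism group of the projective special unitary group of dimension 4 over the field with four elements. -/
theorem result {G : Type*} [Group G] [Finite G] {D : Set G} (hD : Cfsg.IsThreeTranspositionGroup D) (hprim : Cfsg.IsPrimitiveUnderConj D) (d₀ : G) (hd₀ : d₀ ∈ D) (h3 : Cfsg.pCore 3 ↥(Subgroup.closure {y : G | y ∈ D ∧ y ≠ d₀ ∧ Commute d₀ y}) ≤ Subgroup.center ↥(Subgroup.closure {y : G | y ∈ D ∧ y ≠ d₀ ∧ Commute d₀ y})) (h2 : Cfsg.pCore 2 ↥(Subgroup.closure {y : G | y ∈ D ∧ y ≠ d₀ ∧ Commute d₀ y}) ≤ Subgroup.center ↥(Subgroup.closure {y : G | y ∈ D ∧ y ≠ d₀ ∧ Commute d₀ y})) (h22 : Cfsg.IsOfTypeM22 G D) (d₁ d₂ : G) (h₁ : d₁ ∈ D) (h₂ : d₂ ∈ D) (hne : d₁ ≠ d₂) (hc : Commute d₁ d₂) (K C V : Subgroup G) (hK : K = Subgroup.centralizer ({d₁, d₂} : Set G)) (hC : C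 = Subgroup.centralizer ({d₁ * d₂} : Set G)) (hV : V = Subgroup.closure ({d₁, d₂} : Set G)) : K ≤ C ∧ (K.subgroupOf C).index = 2 ∧ (Subgroup.center ↥K).map K.subtype = V ∧ ∃ E : Subgroup G, V ≤ E ∧ E ≤ C ∧ (∀ c ∈ C, ∀ x ∈ E, c * x * c⁻¹ ∈ E) ∧ Nat.card E = 2 ^ 10 ∧ (∀ x ∈ E, ∀ y ∈ E, x * y * x⁻¹ * y⁻¹ ∈ V ∧ x ^ 2 ∈ V) ∧ ∃ (_ : (E.subgroupOf C).Normal) (F : Type) (_ : Field F) (_ : Fintype F), Fintype.card F = 4 ∧ Nonempty (↥C ⧸ E.subgroupOf C ≃* MulAut (Cfsg.PSU 4 F 2)) := by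
  classical
  have hs : Cfsg.IsThreeTranspositionSet D := hD.1
  obtain ⟨hsimp, hmain⟩ := main22 hD hprim h22
  obtain ⟨F, _, _, D22⟩ := exists_data22 hD hprim h22
  have hF := D22.four
  obtain ⟨Ecls, S, T⟩ := D22.stage
  have L := D22.loc
  have hCd : ∀ a ∈ D, ∀ g : G, Commute g a → g ∈ Hd D a := fun a ha g hg => by
    obtain ⟨u, hu⟩ := Model.Kc_decomp hs ha (L.stab a ha g hg)
    rcases hu with rfl | rfl
    exacts [u.2, mul_mem (hmain a ha).1 u.2]
  have hd₂ : d₂ ∈ Dd D d₁ := ⟨h₂, Ne.symm hne, hc⟩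
  have hd₁ : d₁ ∈ Dd D d₂ := Dd_symm h₁ hd₂
  obtain ⟨π, M⟩ := S.base d₁ h₁
  set e := phi π d₂ with he
  have heE : e ∈ Ecls := M.mem hd₂
  have hed : π ⟨d₂, Subgroup.subset_closure hd₂⟩ = e := (phi_of_mem π hd₂).symm
  set P := Dd D d₁ ∩ Dd D d₂ with hP
  have hK' : ∀ g, g ∈ K ↔ Commute g d₁ ∧ Commute g d₂ := fun g => by
    rw [hK, Subgroup.mem_centralizer_iff]
    exact ⟨fun h => ⟨(h d₁ (by simp)).symm, (h d₂ (by simp)).symm⟩, fun h x hx => by
      rcases hx with rfl | rfl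
      exacts [h.1.eq.symm, h.2.eq.symm]⟩
  have hCmem : ∀ g, g ∈ C ↔ Commute g (d₁ * d₂) := fun g => by
    rw [hC, Subgroup.mem_centralizer_singleton_iff]; rfl
  have hKC : K ≤ C := fun g hg => (hCmem g).2 (((hK' g).1 hg).1.mul_right ((hK' g).1 hg).2)
  have hd₁K : d₁ ∈ K := (hK' _).2 ⟨Commute.refl _, hc⟩
  have hd₂K : d₂ ∈ K := (hK' _).2 ⟨hc.symm, Commute.refl _⟩
  have hV1 : d₁ ∈ V := hV ▸ Subgroup.subset_closure (by simp)
  have hV2 : d₂ ∈ V := hV ▸ Subgroup.subset_closure (by simp)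
  have hVK : V ≤ K := by rw [hV, Subgroup.closure_le]; rintro x (rfl | rfl); exacts [hd₁K, hd₂K]
  have hVcomm : ∀ v ∈ V, ∀ g : G, Commute g d₁ → Commute g d₂ → Commute g v := by
    intro v hv g g1 g2
    rw [hV] at hv
    induction hv using Subgroup.closure_induction with
    | mem z hz => rcases hz with rfl | rfl; exacts [g1, g2]
    | one => exact Commute.one_right _
    | mul p q _ _ hp hq => exact hp.mul_right hq
    | inv p _ hp => exact hp.inv_right
  -- the map to the centraliser in the unitary group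
  have hKH : K ≤ Hd D d₁ := fun g hg => hCd d₁ h₁ g ((hK' g).1 hg).1
  let ι : K →* Hd D d₁ := Subgroup.inclusion hKH
  let π₁ : K →* Subgroup.centralizer ({e} : Set (Cfsg.PSU 6 F 2)) :=
    (π.comp ι).codRestrict _ fun x => by
      rw [Subgroup.mem_centralizer_singleton_iff, ← hed]
      exact (Commute.map (show Commute (ι x) ⟨d₂, Subgroup.subset_closure hd₂⟩ from
        Subtype.ext ((hK' x).1 x.2).2.eq) π).eq
  have hπ₁ : Function.Surjective π₁ := fun t => by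
    obtain ⟨x, hx⟩ := M.base.surj t.1
    have hte : Commute t.1 e := Subgroup.mem_centralizer_singleton_iff.1 t.2
    have hfix : (x : G) * d₂ * (x : G)⁻¹ = d₂ := M.inj (M.conj_mem x hd₂) hd₂ (by
      rw [M.phi_conj x hd₂, hx]; exact cj_fix hte)
    exact ⟨⟨x, (hK' _).2 ⟨commute_of_mem_Hd x.2, mul_inv_eq_iff_eq_mul.1 hfix⟩⟩, Subtype.ext hx⟩
  have hπd₁ : π ⟨d₁, hKH hd₁K⟩ = 1 := by
    have : π ⟨d₁, hKH hd₁K⟩ ∈ Subgroup.center (Cfsg.PSU 6 F 2) := Subgroup.mem_center_iff.2 fun t => by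
      obtain ⟨y, rfl⟩ := M.base.surj t
      exact (Commute.map (show Commute y ⟨d₁, hKH hd₁K⟩ from Subtype.ext (commute_of_mem_Hd y.2)) π).eq
    rwa [psu_six_center hF, Subgroup.mem_bot] at this
  have hker₁ : ∀ x : K, (π₁ x : Cfsg.PSU 6 F 2) = 1 → (x : G) = 1 ∨ (x : G) = d₁ := fun x hx =>
    S.kernel h₁ ((hK' x).1 x.2).1 ((M.base.map_eq_one_iff' _).1 hx)
  have hπd₂ : (π₁ ⟨d₂, hd₂K⟩ : Cfsg.PSU 6 F 2) = e := hed
  have hee : e * e = 1 := mul_self T.set heE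
  have hVmem : ∀ x : K, ((π₁ x : Cfsg.PSU 6 F 2) = 1 ∨ (π₁ x : Cfsg.PSU 6 F 2) = e) → (x : G) ∈ V := by
    rintro x (hx | hx)
    · rcases hker₁ x hx with h | h <;> rw [h]
      exacts [one_mem _, hV1]
    · have h := hker₁ (x * ⟨d₂, hd₂K⟩) (by rw [map_mul, Subgroup.coe_mul, hx, hπd₂, hee])
      have e1 : (x : G) = (x : G) * d₂ * d₂ := by rw [mul_assoc, mul_self hs h₂, mul_one]
      rw [e1]
      rcases h with h | h <;> rw [Subgroup.coe_mul] at h <;> rw [h]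
      exacts [(one_mul d₂).symm ▸ hV2, mul_mem hV1 hV2]
  -- the quotient
  obtain ⟨θ, hθ, -, hθe, hsq, hfib, hcen⟩ := T.exists_perp_quot hF heE
  let θ' : K →* Cfsg.PSU 4 F 2 := θ.comp π₁
  have hθ' : Function.Surjective θ' := hθ.comp hπ₁
  have hcardK : Nat.card K = 26542080 := by
    have h := π₁.ker.card_mul_index
    rw [Subgroup.index_ker, MonoidHom.range_eq_top.2 hπ₁, Subgroup.card_top, T.card_centralizer_tv hF heE] at h
    have h2 : Nat.card π₁.ker = 2 := by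
      have hset : (π₁.ker : Set K) = {1, ⟨d₁, hd₁K⟩} := by
        ext x
        constructor
        · intro hx
          rcases hker₁ x (congrArg Subtype.val hx) with h' | h'
          exacts [Or.inl (Subtype.ext h'), Or.inr (Subtype.ext h')]
        · rintro (rfl | rfl)
          exacts [one_mem _, Subtype.ext hπd₁]
      rw [show Nat.card π₁.ker = (π₁.ker : Set K).ncard from rfl, hset, Set.ncard_pair]
      intro h'
      exact (CfsgLib.ThreeTrans.ne_one hs h₁) (congrArg Subtype.val h').symm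
    rw [h2] at h
    omega
  have h4 := CfsgLib.ThreeTrans.USix.card_psu_four hF
  have hcardker : Nat.card θ'.ker = 2 ^ 10 := by
    have h := θ'.ker.card_mul_index
    rw [Subgroup.index_ker, MonoidHom.range_eq_top.2 hθ', Subgroup.card_top, hcardK, h4] at h
    rw [show (2 : ℕ) ^ 10 = 1024 by norm_num]
    omega
  haveI hsimple4 : IsSimpleGroup (Cfsg.PSU 4 F 2) :=
    CfsgLib.ClassicalGroups.psu_isSimpleGroup hF (by norm_num) (by norm_num)
  have hz4 : Subgroup.center (Cfsg.PSU 4 F 2) = ⊥ := by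
    refine (Subgroup.Normal.eq_bot_or_eq_top inferInstance).resolve_right fun h => ?_
    letI : CommGroup (Cfsg.PSU 4 F 2) := Group.commGroupOfCenterEqTop h
    have := IsSimpleGroup.prime_card (α := Cfsg.PSU 4 F 2)
    rw [h4] at this
    norm_num at this
  -- elements of the centraliser of the product
  obtain ⟨sw, hsw₁, hsw₂⟩ : ∃ g : G, g * d₁ * g⁻¹ = d₂ ∧ g * d₂ * g⁻¹ = d₁ := by
    obtain ⟨g, hg⟩ := hprim.1 d₁ h₁ d₂ h₂
    have hgd := conj_mem_Dd_conj D22.closed g hd₂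
    rw [hg] at hgd
    obtain ⟨h, hh, hhe⟩ := L.perp d₂ h₂ (g * d₂ * g⁻¹) hgd d₁ hd₁
    exact ⟨h * g, by rw [cj_comp, hg, cj_fix hh], by rw [cj_comp, hhe]⟩
  have hswC : sw ∈ C := (hCmem sw).2 (mul_inv_eq_iff_eq_mul.1 (by
    rw [show sw * (d₁ * d₂) * sw⁻¹ = sw * d₁ * sw⁻¹ * (sw * d₂ * sw⁻¹) by group, hsw₁, hsw₂, hc.eq]))
  have hcases : ∀ g ∈ C, g ∈ K ∨ (g * d₁ * g⁻¹ = d₂ ∧ g * d₂ * g⁻¹ = d₁) := by
    intro g hg
    have e1 : g * d₁ * g⁻¹ * (g * d₂ * g⁻¹) = d₁ * d₂ := by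
      rw [show g * d₁ * g⁻¹ * (g * d₂ * g⁻¹) = g * (d₁ * d₂) * g⁻¹ by group]
      exact cj_fix ((hCmem g).1 hg)
    rcases pair_unique hs D22.rel h₁ h₂ hne hc (hD.2.1 g d₁ h₁)
      (hD.2.1 g d₂ h₂) ((commute_conj_iff g d₁ d₂).2 hc) e1 with ⟨u, v⟩ | h
    · exact Or.inl ((hK' g).2 ⟨mul_inv_eq_iff_eq_mul.1 u, mul_inv_eq_iff_eq_mul.1 v⟩)
    · exact Or.inr h
  have hswK : sw ∉ K := fun h => hne (hsw₁ ▸ (cj_fix ((hK' sw).1 h).1).symm)
  have hindex : (K.subgroupOf C).index = 2 := by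
    rw [Subgroup.index_eq_two_iff_exists_notMem_and]
    refine ⟨⟨sw, hswC⟩, hswK, fun ⟨g, hg⟩ => ?_⟩
    show g * sw ∈ K ∨ g ∈ K
    rcases hcases g hg with h | ⟨u, v⟩
    · exact Or.inr h
    · exact Or.inl ((hK' _).2 ⟨mul_inv_eq_iff_eq_mul.1 (by rw [cj_comp, hsw₁, v]),
        mul_inv_eq_iff_eq_mul.1 (by rw [cj_comp, hsw₂, u])⟩)
  have hnK : ∀ c ∈ C, ∀ k ∈ K, c * k * c⁻¹ ∈ K := by
    intro c hcC k hk
    obtain ⟨k1, k2⟩ := (hK' k).1 hk
    have c1 := (commute_conj_iff c k d₁).2 k1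
    have c2 := (commute_conj_iff c k d₂).2 k2
    rcases hcases c hcC with h | ⟨u, v⟩
    · exact mul_mem (mul_mem h hk) (inv_mem h)
    · rw [u] at c1; rw [v] at c2; exact (hK' _).2 ⟨c2, c1⟩
  let κ : C → K →* K := fun c => ((MulAut.conj (c : G)).toMonoidHom.comp K.subtype).codRestrict K
    fun k => hnK c c.2 k k.2
  have hκ : ∀ (c : C) (k : K), (κ c k : G) = c * k * (c : G)⁻¹ := fun _ _ => rfl
  have hκmul : ∀ (c c' : C) (k : K), κ (c * c') k = κ c (κ c' k) := fun c c' k => Subtype.ext (by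
    rw [hκ, hκ, hκ, Subgroup.coe_mul, cj_comp])
  have hκone : ∀ k : K, κ 1 k = k := fun k => Subtype.ext (by rw [hκ]; simp)
  have hκsurj : ∀ c : C, Function.Surjective (θ'.comp (κ c)) := fun c p => by
    obtain ⟨k, rfl⟩ := hθ' p
    exact ⟨κ c⁻¹ k, congrArg θ' (by rw [← hκmul, mul_inv_cancel, hκone])⟩
  have hkerle : ∀ c : C, θ'.ker ≤ (θ'.comp (κ c)).ker := by
    intro c
    have hn : (θ'.ker.map (θ'.comp (κ c))).Normal := Subgroup.Normal.map inferInstance _ (hκsurj c)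
    rcases hn.eq_bot_or_eq_top with h | h
    · exact (Subgroup.map_eq_bot_iff _).1 h
    · have h' := Subgroup.card_map_dvd (H := θ'.ker) (θ'.comp (κ c))
      rw [h, Subgroup.card_top, h4, hcardker] at h'
      norm_num at h'
  let α : C → Cfsg.PSU 4 F 2 →* Cfsg.PSU 4 F 2 := fun c =>
    θ'.liftOfSurjective hθ' ⟨θ'.comp (κ c), hkerle c⟩
  have hα : ∀ (c : C) (k : K), α c (θ' k) = θ' (κ c k) := fun c k =>
    MonoidHom.liftOfRightInverse_comp_apply _ _ _ _ k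
  have hαinv : ∀ (c : C) p, α c (α c⁻¹ p) = p := fun c p => by
    obtain ⟨k, rfl⟩ := hθ' p
    rw [hα, hα, ← hκmul, mul_inv_cancel, hκone]
  let A : C → MulAut (Cfsg.PSU 4 F 2) := fun c =>
    MonoidHom.toMulEquiv (α c) (α c⁻¹)
      (MonoidHom.ext fun p => by
        rw [MonoidHom.comp_apply, MonoidHom.id_apply]
        conv_lhs => arg 2; arg 1; rw [← inv_inv c]
        exact hαinv c⁻¹ p)
      (MonoidHom.ext fun p => hαinv c p)
  let Φ : C →* MulAut (Cfsg.PSU 4 F 2) := MonoidHom.mk' A fun c c' => MulEquiv.ext fun p => by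
    obtain ⟨k, rfl⟩ := hθ' p
    show α (c * c') (θ' k) = α c (α c' (θ' k))
    rw [hα, hα, hα, hκmul]
  have hΦ : ∀ c, Φ c = 1 ↔ ∀ k : K, θ' (κ c k) = θ' k := fun c => by
    constructor
    · intro h k
      rw [← hα]
      exact DFunLike.congr_fun h (θ' k)
    · intro h
      refine MulEquiv.ext fun p => ?_
      obtain ⟨k, rfl⟩ := hθ' p
      exact (hα c k).trans (h k)
  -- membership in the kernel
  set E := θ'.ker.map K.subtype with hE
  have hEK : E ≤ K := Subgroup.map_subtype_le _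
  have hEmem : ∀ x : K, (x : G) ∈ E ↔ θ' x = 1 := fun x =>
    Subgroup.mem_map_iff_mem Subtype.val_injective
  have hEn : ∀ c ∈ C, ∀ x ∈ E, c * x * c⁻¹ ∈ E := by
    intro c hcC x hx
    obtain ⟨k, hk, rfl⟩ := hx
    exact ⟨κ ⟨c, hcC⟩ k, hkerle ⟨c, hcC⟩ hk, rfl⟩
  have hVE : V ≤ E := by
    rw [hV, Subgroup.closure_le]
    rintro x (rfl | rfl)
    · refine (hEmem ⟨_, hd₁K⟩).2 ?_
      show θ (π₁ _) = 1
      rw [show π₁ ⟨_, hd₁K⟩ = 1 from Subtype.ext hπd₁, map_one]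
    · refine (hEmem ⟨_, hd₂K⟩).2 ?_
      show θ (π₁ _) = 1
      rw [show π₁ ⟨_, hd₂K⟩ = ⟨e, Subgroup.mem_centralizer_singleton_iff.2 rfl⟩ from Subtype.ext hπd₂, hθe]
  have hker : Φ.ker = E.subgroupOf C := by
    ext c
    rw [MonoidHom.mem_ker, Subgroup.mem_subgroupOf, hΦ]
    constructor
    · intro hc1
      have inK : ∀ hcK : (c : G) ∈ K, (c : G) ∈ E := fun hcK => by
        refine (hEmem ⟨c, hcK⟩).2 ?_
        have : θ' ⟨c, hcK⟩ ∈ Subgroup.center (Cfsg.PSU 4 F 2) := Subgroup.mem_center_iff.2 fun p => by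
          obtain ⟨k, rfl⟩ := hθ' p
          have h := hc1 k
          rw [show κ c k = ⟨c, hcK⟩ * k * ⟨c, hcK⟩⁻¹ from rfl, map_mul, map_mul, map_inv, mul_inv_eq_iff_eq_mul] at h
          exact h.symm
        rwa [hz4, Subgroup.mem_bot] at this
      rcases hcases c c.2 with h | ⟨hu, hv⟩
      · exact inK h
      exfalso
      -- the members commuting with both
      obtain ⟨y, hy₁, hy₂⟩ : P.Nonempty := by
        refine Set.nonempty_of_ncard_ne_zero ?_
        rw [S.lam h₁ hd₂]; norm_num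
      have hyP : y ∈ P := ⟨hy₁, hy₂⟩
      have hPK : ∀ z ∈ P, z ∈ K := fun z hz => (hK' z).2 ⟨hz.1.2.2.symm, hz.2.2.2.symm⟩
      have hye : phi π y ∈ Dd Ecls e := (M.mem_Dd hd₂ hy₁).2 hy₂
      obtain ⟨t, r₁, r₂, r₃, ht1, ht2, n12, n23, n13, hR, c12, c23, c31⟩ := T.exists_cycle hF heE hye
      obtain ⟨τ, hτ⟩ := hπ₁ ⟨t, Subgroup.mem_centralizer_singleton_iff.2 ht1.eq⟩
      have hτπ : π (ι τ) = t := congrArg Subtype.val hτ
      obtain ⟨z₁, hz₁R, hz₁, rfl⟩ := restHex_bwd M hd₂ hy₁ (hR ▸ Set.mem_insert _ _ : r₁ ∈ _)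
      obtain ⟨z₂, hz₂R, hz₂, rfl⟩ := restHex_bwd M hd₂ hy₁
        (hR ▸ Set.mem_insert_of_mem _ (Set.mem_insert _ _) : r₂ ∈ _)
      obtain ⟨z₃, hz₃R, hz₃, rfl⟩ := restHex_bwd M hd₂ hy₁
        (hR ▸ Set.mem_insert_of_mem _ (Set.mem_insert_of_mem _ rfl) : r₃ ∈ _)
      set R := restHex D d₁ d₂ y with hRdef
      have hR3 : ∀ z ∈ R, z = z₁ ∨ z = z₂ ∨ z = z₃ := by
        intro z hz
        obtain ⟨hzd, hzl⟩ := restHex_fwd M hd₂ hy₁ hz
        rw [hR] at hzl
        rcases hzl with h | h | h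
        exacts [Or.inl (M.inj hzd hz₁ h), Or.inr (Or.inl (M.inj hzd hz₂ h)), Or.inr (Or.inr (M.inj hzd hz₃ h))]
      have hRK : ∀ z ∈ R, z ∈ K := fun z hz => (hK' z).2
        ⟨hz.2.2.2.2 d₁ h₁ (Commute.refl _) hc hy₁.2.2, hz.2.2.2.2 d₂ h₂ hc.symm (Commute.refl _) hy₂.2.2⟩
      have hτz : ∀ {u v : G}, u ∈ Dd D d₁ → v ∈ Dd D d₁ → t * phi π u * t⁻¹ = phi π v →
          (τ : G) * u * (τ : G)⁻¹ = v := fun {u v} hu hv h =>
        M.inj (M.conj_mem (ι τ) hu) hv ((M.phi_conj (ι τ) hu).trans (hτπ ▸ h))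
      have t12 := hτz hz₁ hz₂ c12
      have t23 := hτz hz₂ hz₃ c23
      have t31 := hτz hz₃ hz₁ c31
      have ty := hτz hy₁ hy₁ (cj_fix ht2)
      have n12' : z₁ ≠ z₂ := fun e => n12 (e ▸ rfl)
      have n23' : z₂ ≠ z₃ := fun e => n23 (e ▸ rfl)
      have n13' : z₁ ≠ z₃ := fun e => n13 (e ▸ rfl)
      -- a fixed member gives a contradiction
      have fixed : ∀ c : C, (∀ k, θ' (κ c k) = θ' k) → (c : G) * d₁ * (c : G)⁻¹ = d₂ →
          (c : G) * d₂ * (c : G)⁻¹ = d₁ → (c : G) * y * (c : G)⁻¹ = y → False := by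
        intro c hc1 hu hv hcy
        obtain ⟨π', M'⟩ := S.base y hy₁.1
        have hy1 : d₁ ∈ Dd D y := Dd_symm h₁ hy₁
        have hy2 : d₂ ∈ Dd D y := Dd_symm h₂ hy₂
        let γ : Hd D y := ⟨c, hCd y hy₁.1 _ (mul_inv_eq_iff_eq_mul.1 hcy)⟩
        obtain ⟨hinv, x, hx, hxm⟩ := T.swap_line hF (M'.mem hy1) ((M'.mem_Dd hy1 hy2).2 hd₂) (g := π' γ)
          (by rw [← M'.phi_conj γ hy1]; exact congrArg _ hu) (by rw [← M'.phi_conj γ hy2]; exact congrArg _ hv)
        have hrot : restHex D y d₁ d₂ = R := (restHex_rot d₁ d₂ y).symm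
        have hperm : ∀ z ∈ R, (c : G) * z * (c : G)⁻¹ ∈ R ∧ (c : G) * ((c : G) * z * (c : G)⁻¹) * (c : G)⁻¹ = z := by
          intro z hz
          rw [← hrot] at hz ⊢
          obtain ⟨hzd, hzl⟩ := restHex_fwd M' hy1 hy2 hz
          obtain ⟨h1, h2⟩ := hinv _ hzl
          rw [← M'.phi_conj γ hzd] at h1 h2
          rw [← M'.phi_conj γ (M'.conj_mem γ hzd)] at h2
          obtain ⟨z', hz', hzd', e'⟩ := restHex_bwd M' hy1 hy2 h1
          exact ⟨M'.inj hzd' (M'.conj_mem γ hzd) e' ▸ hz', M'.inj (M'.conj_mem γ (M'.conj_mem γ hzd)) hzd h2⟩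
        obtain ⟨zm, hzm, hzmd, hmove⟩ : ∃ z ∈ R, True ∧ (c : G) * z * (c : G)⁻¹ ≠ z := by
          obtain ⟨z, hz, hzd, rfl⟩ := restHex_bwd M' hy1 hy2 hx
          exact ⟨z, hrot ▸ hz, trivial, fun e => hxm ((M'.phi_conj γ hzd).symm.trans (congrArg _ e))⟩
        set ρ := κ c τ * τ⁻¹ with hρ
        have hρ2 : (ρ : G) * (ρ : G) ∈ V := hVmem (ρ * ρ) (by
          rw [map_mul, Subgroup.coe_mul]
          exact (hsq (π₁ ρ) (π₁ ρ) (by show θ' ρ = 1; rw [hρ, map_mul, map_inv, hc1, mul_inv_cancel])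
            (by show θ' ρ = 1; rw [hρ, map_mul, map_inv, hc1, mul_inv_cancel])).1)
        have main : ∀ p q r : G, r ∈ R → p ∈ R → q ∈ R → r ≠ p → r ≠ q → p ≠ q →
            (∀ z ∈ R, z = p ∨ z = q ∨ z = r) → (τ : G) * p * (τ : G)⁻¹ = q → (τ : G) * q * (τ : G)⁻¹ = r →
            (τ : G) * r * (τ : G)⁻¹ = p → (c : G) * p * (c : G)⁻¹ = q → False := by
          intro p q r hr hp hq nrp nrq npq hall tpq tqr trp cpq
          have cqp : (c : G) * q * (c : G)⁻¹ = p := cpq ▸ (hperm p hp).2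
          have crr : (c : G) * r * (c : G)⁻¹ = r := by
            rcases hall _ (hperm r hr).1 with h | h | h
            · exact absurd (cj_inj (h.trans cqp.symm)) nrq
            · exact absurd (cj_inj (h.trans cpq.symm)) nrp
            · exact h
          have hρv : ∀ u v w x' : G, (τ : G) * v * (τ : G)⁻¹ = u → (c : G) * w * (c : G)⁻¹ = v →
              (τ : G) * w * (τ : G)⁻¹ = x' → (ρ : G) * u * (ρ : G)⁻¹ = (c : G) * x' * (c : G)⁻¹ := by
            intro u v w x' h1 h2 h3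
            rw [← h1, ← h2, ← h3, hρ, Subgroup.coe_mul, Subgroup.coe_inv, hκ]
            group
          have s1 : (ρ : G) * q * (ρ : G)⁻¹ = r := (hρv q p q r tpq cqp tqr).trans crr
          have s2 : (ρ : G) * r * (ρ : G)⁻¹ = p := (hρv r q p q tqr cpq tpq).trans cqp
          have hq' := hRK q hq
          have h := cj_fix (hVcomm _ hρ2 q ((hK' q).1 hq').1 ((hK' q).1 hq').2).symm
          rw [cj_comp, s1, s2] at h
          exact npq h
        have hmv := (hperm zm hzm).1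
        have hback := (hperm zm hzm).2
        rcases hR3 zm hzm with rfl | rfl | rfl <;> rcases hR3 _ hmv with h | h | h <;>
          first
          | exact hmove h
          | exact main _ _ _ hz₃R hz₁R hz₂R n13'.symm n23'.symm n12' hR3 t12 t23 t31 h
          | exact main _ _ _ hz₃R hz₁R hz₂R n13'.symm n23'.symm n12' hR3 t12 t23 t31 (h ▸ hback)
          | exact main _ _ _ hz₁R hz₂R hz₃R n12' n13' n23' (fun z hz => by rcases hR3 z hz with h' | h' | h' <;> tauto)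
              t23 t31 t12 h
          | exact main _ _ _ hz₁R hz₂R hz₃R n12' n13' n23' (fun z hz => by rcases hR3 z hz with h' | h' | h' <;> tauto)
              t23 t31 t12 (h ▸ hback)
          | exact main _ _ _ hz₂R hz₃R hz₁R n23' n12'.symm n13'.symm
              (fun z hz => by rcases hR3 z hz with h' | h' | h' <;> tauto) t31 t12 t23 h
          | exact main _ _ _ hz₂R hz₃R hz₁R n23' n12'.symm n13'.symm
              (fun z hz => by rcases hR3 z hz with h' | h' | h' <;> tauto) t31 t12 t23 (h ▸ hback)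
      -- images of `y`
      have himg : ∀ k : K, θ' k = θ' ⟨y, hPK y hyP⟩ → (k : G) ∈ P → (k : G) ≠ y → (k : G) ∈ R := by
        intro k hk hkP hky
        refine ⟨hkP.1.1, hkP.1.2.1, hkP.2.2.1, hky, fun w hw w1 w2 wy => ?_⟩
        by_cases e1 : w = d₁
        · exact e1 ▸ hkP.1.2.2.symm
        have hwd : w ∈ Dd D d₁ := ⟨hw, e1, w1.symm⟩
        have hpk : (π₁ k : Cfsg.PSU 6 F 2) = phi π (k : G) := (phi_of_mem π (x := ι k) hkP.1).symm
        have hpy : (π₁ ⟨y, hPK y hyP⟩ : Cfsg.PSU 6 F 2) = phi π y :=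
          (phi_of_mem π (x := ι ⟨y, hPK y hyP⟩) hy₁).symm
        have h := hfib (π₁ ⟨y, hPK y hyP⟩) (π₁ k) (hpy ▸ hye) (hpk ▸ (M.mem_Dd hd₂ hkP.1).2 hkP.2) hk.symm
          (phi π w) (M.mem hwd) ((M.comm hwd hd₂).2 w2) (hpy ▸ (M.comm hwd hy₁).2 wy)
        rw [hpk] at h
        exact ((M.comm hwd hkP.1).1 h).symm
      have hcP : ∀ g ∈ C, ∀ z ∈ P, g * z * g⁻¹ ∈ P := by
        intro g hg z hz
        have m1 := conj_mem_Dd_conj D22.closed g hz.1
        have m2 := conj_mem_Dd_conj D22.closed g hz.2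
        rcases hcases g hg with h | ⟨u, v⟩
        · rw [cj_fix ((hK' g).1 h).1] at m1; rw [cj_fix ((hK' g).1 h).2] at m2; exact ⟨m1, m2⟩
        · rw [u] at m1; rw [v] at m2; exact ⟨m2, m1⟩
      by_cases hyy : (c : G) * y * (c : G)⁻¹ = y
      · exact fixed c hc1 hu hv hyy
      have hy'R : (c : G) * y * (c : G)⁻¹ ∈ R :=
        himg (κ c ⟨y, hPK y hyP⟩) (hc1 _) (hcP _ c.2 y hyP) hyy
      set ρ := κ c τ * τ⁻¹ with hρ
      have hρ1 : θ' ρ = 1 := by rw [hρ, map_mul, map_inv, hc1, mul_inv_cancel]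
      have hρy : (ρ : G) * y * (ρ : G)⁻¹ ≠ y := by
        intro hfix
        have e1 : (τ : G) * ((c : G)⁻¹ * y * (c : G)) * (τ : G)⁻¹ = (c : G)⁻¹ * y * (c : G) := by
          have : (ρ : G) * y * (ρ : G)⁻¹ = (c : G) * ((τ : G) * ((c : G)⁻¹ * y * (c : G)) * (τ : G)⁻¹) * (c : G)⁻¹ := by
            conv_lhs => rw [← ty]
            rw [hρ, Subgroup.coe_mul, Subgroup.coe_inv, hκ]
            group
          rw [hfix] at this
          calc _ = (c : G)⁻¹ * ((c : G) * ((τ : G) * ((c : G)⁻¹ * y * (c : G)) * (τ : G)⁻¹) * (c : G)⁻¹) * c := by group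
            _ = _ := by rw [← this]
        have hne' : (c : G)⁻¹ * y * (c : G) ≠ y := fun e => hyy (by
          calc (c : G) * y * (c : G)⁻¹ = (c : G) * ((c : G)⁻¹ * y * (c : G)) * (c : G)⁻¹ := by rw [e]
            _ = y := by group)
        have hP' : (c : G)⁻¹ * y * (c : G) ∈ P := by simpa using hcP _ (inv_mem c.2) y hyP
        have hc1' : θ' (κ c⁻¹ ⟨y, hPK y hyP⟩) = θ' ⟨y, hPK y hyP⟩ := by
          have h := hc1 (κ c⁻¹ ⟨y, hPK y hyP⟩)
          rwa [← hκmul, mul_inv_cancel, hκone, eq_comm] at h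
        have hval : (κ c⁻¹ ⟨y, hPK y hyP⟩ : G) = (c : G)⁻¹ * y * (c : G) := by rw [hκ]; simp
        rcases hR3 _ (hval ▸ himg _ hc1' (hval ▸ hP') (hval ▸ hne')) with h | h | h <;> rw [h] at e1
        exacts [n12' (e1.symm.trans t12), n23' (e1.symm.trans t23), n13' (t31.symm.trans e1)]
      have hρR : (ρ : G) * y * (ρ : G)⁻¹ ∈ R :=
        himg (ρ * ⟨y, hPK y hyP⟩ * ρ⁻¹) (by rw [map_mul, map_mul, map_inv, hρ1, one_mul, inv_one, mul_one])
          (hcP _ (hKC ρ.2) y hyP) hρy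
      obtain ⟨ε, hε1, hεy⟩ : ∃ ε : K, θ' ε = 1 ∧ (ε : G) * y * (ε : G)⁻¹ = (c : G) * y * (c : G)⁻¹ := by
        let ρ' := τ * ρ * τ⁻¹
        let ρ'' := τ * ρ' * τ⁻¹
        have one' : θ' ρ' = 1 := by rw [map_mul, map_mul, hρ1, mul_one, map_inv, mul_inv_cancel]
        have one'' : θ' ρ'' = 1 := by rw [map_mul, map_mul, one', mul_one, map_inv, mul_inv_cancel]
        have step : ∀ (σ : K) (u : G), (σ : G) * y * (σ : G)⁻¹ = u →
            ((τ * σ * τ⁻¹ : K) : G) * y * ((τ * σ * τ⁻¹ : K) : G)⁻¹ = (τ : G) * u * (τ : G)⁻¹ := by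
          intro σ u h
          rw [Subgroup.coe_mul, Subgroup.coe_mul, Subgroup.coe_inv, cj_comp, cj_inv_of ty, cj_comp, h]
        have v' := step ρ _ rfl
        have v'' := step ρ' _ v'
        rcases hR3 _ hρR with h | h | h <;> rw [h] at v' v'' <;>
          simp only [t12, t23, t31] at v' v'' <;> rcases hR3 _ hy'R with k | k | k <;> rw [k] <;>
          first
          | exact ⟨ρ, hρ1, h⟩
          | exact ⟨ρ', one', v'⟩
          | exact ⟨ρ'', one'', v''⟩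
      have fixd : ∀ z, Commute (ε : G) z → (ε : G)⁻¹ * z * (ε : G)⁻¹⁻¹ = z := fun z h => cj_fix h.inv_left
      refine fixed (⟨(ε : G)⁻¹, hKC (inv_mem ε.2)⟩ * c) (fun k => ?_) ?_ ?_ ?_
      · rw [hκmul, show κ (⟨(ε : G)⁻¹, hKC (inv_mem ε.2)⟩ : C) (κ c k) = ε⁻¹ * κ c k * ε⁻¹⁻¹ from rfl, map_mul,
          map_mul, hc1]
        simp only [map_inv, hε1, inv_one, one_mul, mul_one]
      · rw [Subgroup.coe_mul, cj_comp, hu]; exact fixd _ ((hK' _).1 ε.2).2
      · rw [Subgroup.coe_mul, cj_comp, hv]; exact fixd _ ((hK' _).1 ε.2).1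
      · rw [Subgroup.coe_mul, cj_comp]; exact cj_inv_of hεy
    · intro hcE k
      obtain ⟨x, hx, hxc⟩ := hcE
      rw [show κ c k = x * k * x⁻¹ from Subtype.ext (by rw [hκ, ← hxc]; rfl), map_mul, map_mul, map_inv,
        MonoidHom.mem_ker.1 hx]
      simp
  haveI hEnorm : (E.subgroupOf C).Normal := hker ▸ MonoidHom.normal_ker Φ
  have hcardE : Nat.card E = 2 ^ 10 := by
    rw [hE, Subgroup.card_map_of_injective Subtype.val_injective, hcardker]
  have hΦsurj : Function.Surjective Φ := by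
    have hcC : Nat.card C = 2 * Nat.card K := by
      rw [← (K.subgroupOf C).card_mul_index, hindex,
        Nat.card_congr (Subgroup.subgroupOfEquivOfLe hKC).toEquiv, mul_comm]
    have h := Φ.ker.card_mul_index
    rw [Subgroup.index_ker, hker, Nat.card_congr (Subgroup.subgroupOfEquivOfLe (hEK.trans hKC)).toEquiv,
      hcardE, hcC, hcardK] at h
    have hA : Nat.card (MulAut (Cfsg.PSU 4 F 2)) = 51840 := by
      haveI : Fact (Nat.Prime 2) := ⟨Nat.prime_two⟩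
      have h2' := CfsgLib.FieldGalois.card_ringAut (F := F) (p := 2) (f := 2) hF
      have h' := CfsgLib.AutPSU.card_mulAut (F := F) (q := 2) (m := 2) hF (by norm_num) (by norm_num)
      change Nat.card (MulAut (Cfsg.PSU 4 F 2)) = _ at h'
      rw [h', show Nat.card (CfsgLib.AutPSU.PSUG (2 + 2) F 2) = 25920 from h4, h2']
      norm_num
    haveI : Finite (MulAut (Cfsg.PSU 4 F 2)) := Nat.finite_of_card_ne_zero (by rw [hA]; norm_num)
    rw [← MonoidHom.range_eq_top]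
    refine Subgroup.eq_top_of_card_eq _ ?_
    rw [hA]
    rw [show (2 : ℕ) ^ 10 = 1024 by norm_num] at h
    omega
  refine ⟨hKC, hindex, ?_, E, hVE, hEK.trans hKC, hEn, hcardE, ?_, hEnorm, F, inferInstance, inferInstance,
    by rw [hF]; norm_num, ⟨(QuotientGroup.quotientMulEquivOfEq hker.symm).trans
      (QuotientGroup.quotientKerEquivOfSurjective Φ hΦsurj)⟩⟩
  · ext x
    constructor
    · rintro ⟨y, hy, rfl⟩
      exact hVmem y (hcen (π₁ y) fun w => by
        obtain ⟨k, rfl⟩ := hπ₁ w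
        exact (Commute.map (show Commute y k from (Subgroup.mem_center_iff.1 hy k).symm) π₁))
    · intro hx
      exact ⟨⟨x, hVK hx⟩, Subgroup.mem_center_iff.2 fun k =>
        Subtype.ext (hVcomm x hx k ((hK' k).1 k.2).1 ((hK' k).1 k.2).2).eq, rfl⟩
  · intro x hx y hy
    obtain ⟨a, ha, rfl⟩ := hx
    obtain ⟨b, hb, rfl⟩ := hy
    obtain ⟨s1, s2⟩ := hsq (π₁ a) (π₁ b) ha hb
    refine ⟨hVmem (a * b * a⁻¹ * b⁻¹) ?_, ?_⟩
    · simpa only [map_mul, map_inv, Subgroup.coe_mul, Subgroup.coe_inv] using s2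
    · rw [sq]
      exact hVmem (a * a) (by simpa only [map_mul, Subgroup.coe_mul] using s1)

end Cfsg.Agent.S5469
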