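import Cfsg.Statements.S5464
import Cfsg.Agent.Lib.ThreeTrans.FischerTypes

set_option autoImplicit false
open Cfsg

namespace Cfsg.Agent.S5464

/-- Let G be a finite group with trivial centre generated by a conjugation-invariant set D of 3-transpositions on which it acts primitively, such that for some d in D the subgroup generated by the members of D other than d commuting with d has central largest normal 2- and 3-subgroups, and suppose G with D is of type M(23) or of type M(24). Then for m ≤ 3, a product of m distinct pairwise commuting members of D determines the set of factors: any two m-element sets of pairwise commuting members of D with the same product coincide. -/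
theorem result {G : Type*} [Group G] [Finite G] {D : Set G} (hD : Cfsg.IsThreeTranspositionGroup D) (hprim : Cfsg.IsPrimitiveUnderConj D) (d₀ : G) (hd₀ : d₀ ∈ D) (h3 : Cfsg.pCore 3 ↥(Subgroup.closure {y : G | y ∈ D ∧ y ≠ d₀ ∧ Commute d₀ y}) ≤ Subgroup.center ↥(Subgroup.closure {y : G | y ∈ D ∧ y ≠ d₀ ∧ Commute d₀ y})) (h2 : Cfsg.pCore 2 ↥(Subgroup.closure {y : G | y ∈ D ∧ y ≠ d₀ ∧ Commute d₀ y}) ≤ Subgroup.center ↥(Subgroup.closure {y : G | y ∈ D ∧ y ≠ d₀ ∧ Commute d₀ y})) (h : Cfsg.IsOfTypeM23 G D ∨ Cfsg.IsOfTypeM24 G D) (m : ℕ) (hm : m ≤ 3) (j : G) (l l' : List G) (hl : (l.Nodup ∧ l.length = m ∧ (∀ a ∈ l, a ∈ D) ∧ (∀ a ∈ l, ∀ b ∈ l, Commute a b) ∧ l.prod = j)) (hl' : (l'.Nodup ∧ l'.length = m ∧ (∀ a ∈ l', a ∈ D) ∧ (∀ a ∈ l', ∀ b ∈ l', Commute a b) ∧ l'.prod = j)) : (∀ x : G, x ∈ l ↔ x ∈ l') := by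
  have hrel : ∀ j ≤ 6, 2 ≤ j → CfsgLib.ThreeTrans.NoRel D j := by
    rcases h with h | h
    · exact (CfsgLib.ThreeTrans.good23 hD h).rel
    · refine CfsgLib.ThreeTrans.rel24 hD h hprim.1 (CfsgLib.ThreeTrans.noTwins_of_primitive hD hprim ?_)
      obtain ⟨-, d, hd, c, -, -, ⟨-, e, ⟨x, hx, -⟩, -⟩, -⟩ := h
      exact ⟨d, hd, (x : G), hx.1, Ne.symm hx.2.1, hx.2.2⟩
  have h4 := hrel 4 (by norm_num) (by norm_num)
  obtain ⟨hnd, hlen, hmem, hcomm, hprod⟩ := hl
  obtain ⟨hnd', hlen', hmem', hcomm', hprod'⟩ := hl'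
  interval_cases m
  · rw [List.length_eq_zero_iff] at hlen hlen'
    simp [hlen, hlen']
  · obtain ⟨a, rfl⟩ := List.length_eq_one_iff.1 hlen
    obtain ⟨b, rfl⟩ := List.length_eq_one_iff.1 hlen'
    simp_all
  · obtain ⟨a, b, rfl⟩ := List.length_eq_two.1 hlen
    obtain ⟨a', b', rfl⟩ := List.length_eq_two.1 hlen'
    simp only [List.nodup_cons, List.mem_cons, List.not_mem_nil, or_false, not_or] at hnd hnd'
    simp only [List.prod_cons, List.prod_nil, mul_one] at hprod hprod'
    rcases CfsgLib.ThreeTrans.pair_unique hD.1 h4 (hmem a (by simp)) (hmem b (by simp)) (hmem' a' (by simp))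
      (hmem' b' (by simp)) hnd.1 hnd'.1 (hcomm a (by simp) b (by simp)) (hcomm' a' (by simp) b' (by simp))
      (hprod.trans hprod'.symm) with ⟨rfl, rfl⟩ | ⟨rfl, rfl⟩
    · simp
    · intro x; simp [or_comm]
  · obtain ⟨a, b, c, rfl⟩ := List.length_eq_three.1 hlen
    obtain ⟨a', b', c', rfl⟩ := List.length_eq_three.1 hlen'
    simp only [List.nodup_cons, List.mem_cons, List.not_mem_nil, or_false, not_or] at hnd hnd'
    simp only [List.prod_cons, List.prod_nil, mul_one, ← mul_assoc] at hprod hprod'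
    rcases CfsgLib.ThreeTrans.triple_cases hD.1 h4 (hmem a (by simp)) (hmem b (by simp)) (hmem c (by simp))
      (hmem' a' (by simp)) (hmem' b' (by simp)) (hmem' c' (by simp)) hnd.1.1 hnd.1.2 hnd.2.1 hnd'.1.1 hnd'.1.2 hnd'.2.1
      (hcomm a (by simp) b (by simp)) (hcomm a (by simp) c (by simp)) (hcomm b (by simp) c (by simp))
      (hcomm' a' (by simp) b' (by simp)) (hcomm' a' (by simp) c' (by simp)) (hcomm' b' (by simp) c' (by simp))
      (hprod.trans hprod'.symm) with h' | ⟨hn, hc6, hp⟩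
    · exact fun x => (h' x).symm
    · refine absurd hp (hrel 6 le_rfl (by norm_num) _ hn rfl ?_ hc6)
      intro x hx
      simp only [List.mem_cons, List.not_mem_nil, or_false] at hx
      rcases hx with rfl | rfl | rfl | rfl | rfl | rfl
      exacts [hmem _ (by simp), hmem _ (by simp), hmem _ (by simp), hmem' _ (by simp), hmem' _ (by simp),
        hmem' _ (by simp)]

end Cfsg.Agent.S5464
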