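import Cfsg.Statements.S0054
import Mathlib
-- import your own Cfsg.Agent.* helpers here

set_option autoImplicit false
open Cfsg

namespace Cfsg.Agent.S0054

/-- A regular normal subgroup of a finite 2-transitive group is elementary abelian: it is commutative and all its elements have order dividing one prime. -/
theorem result {G : Type*} [Group G] [Finite G]
    {X : Type*} [Nonempty X] [MulAction G X] (h2 : MulAction.IsMultiplyPretransitive G X 2)
    (N : Subgroup G) [N.Normal] (htrans : MulAction.IsPretransitive N X) (hreg : ∀ x : X, MulAction.stabilizer N x = ⊥) :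
    IsMulCommutative N ∧ ∃ p : ℕ, p.Prime ∧ ∀ n ∈ N, n ^ p = 1 := by
  classical
  obtain ⟨x⟩ := (inferInstance : Nonempty X)
  have hcomm_of : ∀ a b : N, a ≠ 1 → b ≠ 1 → ∃ g : G, g * a * g⁻¹ = b := by
    intro a b ha hb
    have ne : ∀ c : N, c ≠ 1 → (c : G) • x ≠ x := fun c hc e => by
      have : c ∈ MulAction.stabilizer N x := e
      rw [hreg x, Subgroup.mem_bot] at this
      exact hc this
    obtain ⟨g, hg1, hg2⟩ := MulAction.is_two_pretransitive_iff.1 h2 (ne a ha).symm (ne b hb).symm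
    refine ⟨g, ?_⟩
    have hmem : g * a * g⁻¹ ∈ N := Subgroup.Normal.conj_mem inferInstance _ a.2 g
    have hx : (g * a * g⁻¹) • x = (b : G) • x := by
      conv_lhs => rw [← hg1]
      rw [smul_smul, inv_mul_cancel_right, mul_smul]
      exact hg2
    have : (⟨b, b.2⟩ : N)⁻¹ * ⟨g * a * g⁻¹, hmem⟩ ∈ MulAction.stabilizer N x := by
      show ((b : G)⁻¹ * (g * a * g⁻¹)) • x = x
      rw [mul_smul, hx, inv_smul_smul]
    rw [hreg x, Subgroup.mem_bot] at this
    exact congrArg Subtype.val (inv_mul_eq_one.1 this).symm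
  by_cases hN : ∀ a : N, a = 1
  · refine ⟨⟨⟨fun a b => by rw [hN a, hN b]⟩⟩, 2, Nat.prime_two, fun n hn => ?_⟩
    have := congrArg Subtype.val (hN ⟨n, hn⟩)
    simp only [Subgroup.coe_one] at this
    rw [this, one_pow]
  push Not at hN
  obtain ⟨a₀, ha₀⟩ := hN
  have : Nontrivial N := ⟨⟨a₀, 1, ha₀⟩⟩
  obtain ⟨p, hp, hpN⟩ := Nat.exists_prime_and_dvd (Finite.one_lt_card (α := N)).ne'
  have : Fact p.Prime := ⟨hp⟩
  obtain ⟨a, ha⟩ := exists_prime_orderOf_dvd_card' p hpN
  have hane : a ≠ 1 := fun e => hp.one_lt.ne' (by rw [← ha, e, orderOf_one])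
  have hexp : ∀ n : N, n ^ p = 1 := by
    intro n
    by_cases hn : n = 1
    · rw [hn, one_pow]
    obtain ⟨g, hg⟩ := hcomm_of a n hane hn
    apply Subtype.ext
    have hap : (a : G) ^ p = 1 := by
      have := congrArg Subtype.val (pow_orderOf_eq_one a)
      rwa [ha, SubgroupClass.coe_pow] at this
    rw [SubgroupClass.coe_pow, ← hg, conj_pow, hap, mul_one, mul_inv_cancel, Subgroup.coe_one]
  have hpg : IsPGroup p N := fun n => ⟨1, by rw [pow_one]; exact hexp n⟩
  have hcne : Subgroup.center N ≠ ⊥ := ne_of_gt hpg.bot_lt_center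
  obtain ⟨z, hz, hzne⟩ := (Subgroup.center N).ne_bot_iff_exists_ne_one.1 hcne |>.elim
    fun z hz => (⟨z.1, z.2, fun e => hz (Subtype.ext e)⟩ : ∃ z : N, z ∈ Subgroup.center N ∧ z ≠ 1)
  refine ⟨⟨⟨fun c d => ?_⟩⟩, p, hp, fun n hn => by
    have := congrArg Subtype.val (hexp ⟨n, hn⟩)
    simpa using this⟩
  by_cases hc : c = 1
  · rw [hc, one_mul, mul_one]
  obtain ⟨g, hg⟩ := hcomm_of z c hzne hc
  have hmem : g⁻¹ * d * g ∈ N := by
    have := Subgroup.Normal.conj_mem (inferInstanceAs N.Normal) _ d.2 g⁻¹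
    simpa using this
  have key := congrArg Subtype.val (Subgroup.mem_center_iff.1 hz ⟨_, hmem⟩)
  apply Subtype.ext
  simp only [Subgroup.coe_mul] at key ⊢
  have h1 : (d : G) = g * (g⁻¹ * d * g) * g⁻¹ := by group
  rw [← hg, h1]
  simp only [conj_mul]
  rw [key]

end Cfsg.Agent.S0054
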