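import Cfsg.Statements.S0814
import Cfsg.Agent.Lib.AutPSp.Card

set_option autoImplicit false
open Cfsg CfsgLib.AutPSp

namespace Cfsg.Agent.S0814

theorem result {F : Type*} [Field F] [Fintype F] (p f : ℕ) [Fact p.Prime] (hf : 1 ≤ f) (hF : Fintype.card F = p ^ f) (m : ℕ) (hm : 2 ≤ m) (h22 : m = 2 → 3 ≤ p ^ f) : Nat.card (MulAut (Cfsg.PSp m F)) = (if m = 2 ∧ p = 2 then 2 else 1) * Nat.gcd 2 (p ^ f - 1) * f * Nat.card (Cfsg.PSp m F) := by
  have hp := (Fact.out : p.Prime)
  have : CharP F p := charP_of_card_eq_prime_pow hF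
  have hsp : Nat.card (SpG m F) = Nat.gcd 2 (p ^ f - 1) * Nat.card (Cfsg.PSp m F) := by
    rw [CfsgLib.Sp.card_psp hF (by omega), CfsgLib.Sp.card_symplecticGroup hF]
  have hσ := CfsgLib.FieldGalois.card_ringAut (p := p) (f := f) hF
  by_cases h : m = 2 ∧ p = 2
  · obtain ⟨rfl, rfl⟩ := h
    have hq : 4 ≤ Fintype.card F := by
      have h3 := h22 rfl
      rw [hF]
      rcases Nat.lt_or_ge f 2 with h | h
      · rw [show f = 1 by omega] at h3; simp at h3
      · calc 4 = 2 ^ 2 := rfl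
          _ ≤ 2 ^ f := Nat.pow_le_pow_right (by omega) h
    rw [card_mulAut_four hq, hsp, hσ, if_pos ⟨rfl, rfl⟩]
    ring
  · have hcase : (2 : F) ≠ 0 ∨ 3 ≤ m := by
      rcases Nat.lt_or_ge m 3 with hm3 | hm3
      · left
        intro h2
        apply h
        refine ⟨by omega, ?_⟩
        have : p ∣ 2 := (CharP.cast_eq_zero_iff F p 2).mp (by exact_mod_cast h2)
        exact (Nat.prime_dvd_prime_iff_eq hp Nat.prime_two).mp this
      · exact Or.inr hm3
    rw [card_mulAut_generic (by omega) hcase, hsp, hσ, if_neg h]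
    ring

end Cfsg.Agent.S0814
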