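import Cfsg.Statements.S0132
import Cfsg.Agent.Lib.Transfer.NormalComplement
import Cfsg.Agent.Lib.Solvable.NilpotentSubgroups

set_option autoImplicit false
open Cfsg

namespace Cfsg.Agent.S0132

/-- A minimal non-p-nilpotent finite group is a minimal non-nilpotent group with a normal Sylow p-subgroup. -/
theorem result {G : Type*} [Group G] [Finite G] {p : ℕ} [Fact p.Prime] (h1 : ¬ Cfsg.HasNormalPComplement p G) (h2 : ∀ H : Subgroup G, H ≠ ⊤ → Cfsg.HasNormalPComplement p H) : (∀ H : Subgroup G, H ≠ ⊤ → Group.IsNilpotent H) ∧ ¬ Group.IsNilpotent G ∧ ∀ P : Sylow p G, (P : Subgroup G).Normal := by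
  classical
  have hnf : ¬ CfsgLib.Transfer.FrobeniusCond p G := fun h =>
    h1 (CfsgLib.Transfer.hasNormalPComplement_of_frobeniusCond h)
  unfold CfsgLib.Transfer.FrobeniusCond at hnf
  push Not at hnf
  obtain ⟨Q, hQ, g, hg, hgo, hgc⟩ := hnf
  -- no proper subgroup contains `Q` and `g`
  have hfull : ∀ L : Subgroup G, Q ≤ L → g ∈ L → L = ⊤ := by
    intro L hQL hgL
    by_contra hL
    have h := CfsgLib.Transfer.frobeniusCond_of_hasNormalPComplement (h2 L hL) (Q.subgroupOf L)
      hQ.comap_subtype ⟨g, hgL⟩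
      (by rw [Subgroup.mem_normalizer_iff]; exact fun x => Subgroup.mem_normalizer_iff.1 hg x)
      (by rwa [Subgroup.orderOf_mk])
    refine hgc ?_
    rw [Subgroup.mem_centralizer_iff] at h ⊢
    exact fun x hx => congrArg Subtype.val (h ⟨x, hQL hx⟩ hx)
  have hQn : Q.Normal := Subgroup.normalizer_eq_top_iff.1 (hfull _ Subgroup.le_normalizer hg)
  set q := QuotientGroup.mk' Q with hqdef
  have hgen : Subgroup.zpowers (q g) = ⊤ := by
    have h := hfull ((Subgroup.zpowers (q g)).comap q) (fun x hx => by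
      rw [Subgroup.mem_comap, show q x = 1 from (QuotientGroup.eq_one_iff x).2 hx]
      exact one_mem _) (Subgroup.mem_zpowers _)
    rw [← Subgroup.map_comap_eq_self_of_surjective (QuotientGroup.mk'_surjective Q)
      (Subgroup.zpowers (q g)), h, Subgroup.map_top_of_surjective _ (QuotientGroup.mk'_surjective Q)]
  have hidx : ¬ p ∣ Q.index := by
    intro hd
    have h3 : Q.index ∣ orderOf g := by
      rw [Subgroup.index, ← Subgroup.card_top (G := G ⧸ Q), ← hgen, Nat.card_zpowers]
      exact orderOf_map_dvd q g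
    exact (Fact.out : p.Prime).not_dvd_one (hgo ▸ Nat.dvd_gcd (hd.trans h3) dvd_rfl)
  refine ⟨fun H hH => ?_, fun hnil => ?_, fun P => ?_⟩
  · obtain ⟨P, N, hN, hNP⟩ := h2 H hH
    have hQHn : (Q.subgroupOf H).Normal := hQn.subgroupOf H
    have e1 : IsPGroup p (H ⧸ N) :=
      P.isPGroup'.of_equiv hNP.symm.QuotientMulEquiv.symm
    have hnil1 : Group.IsNilpotent (H ⧸ N) := e1.isNilpotent
    have hcomm : ∀ x y : G ⧸ Q, x * y = y * x := by
      intro x y
      obtain ⟨i, rfl⟩ := Subgroup.mem_zpowers_iff.1 (hgen ▸ Subgroup.mem_top x)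
      obtain ⟨j, rfl⟩ := Subgroup.mem_zpowers_iff.1 (hgen ▸ Subgroup.mem_top y)
      rw [← zpow_add, ← zpow_add, add_comm]
    have hnil2 : Group.IsNilpotent (G ⧸ Q) := by
      let _ : CommGroup (G ⧸ Q) := { (inferInstance : Group (G ⧸ Q)) with mul_comm := hcomm }
      exact CommGroup.isNilpotent
    let f : H →* (H ⧸ N) × (G ⧸ Q) := (QuotientGroup.mk' N).prod (q.comp H.subtype)
    have hf : Function.Injective f := by
      rw [injective_iff_map_eq_one]
      intro x hx
      have hxN : x ∈ N := (QuotientGroup.eq_one_iff x).1 (congrArg Prod.fst hx)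
      have hxQ : (x : G) ∈ Q := (QuotientGroup.eq_one_iff (x : G)).1 (congrArg Prod.snd hx)
      obtain ⟨k, hk⟩ := hQ ⟨x, hxQ⟩
      have hk' : x ^ p ^ k = 1 := Subtype.ext (by
        push_cast
        exact congrArg Subtype.val hk)
      have hco : (Nat.card N).Coprime p := by
        rw [← hNP.index_eq_card]
        exact ((Fact.out : p.Prime).coprime_iff_not_dvd.2 P.not_dvd_index).symm
      exact orderOf_eq_one_iff.1 (Nat.eq_one_of_dvd_coprimes (hco.pow_right k)
        (Subgroup.orderOf_mk x hxN ▸ orderOf_dvd_natCard (⟨x, hxN⟩ : N))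
        (orderOf_dvd_of_pow_eq_one hk'))
    exact Group.nilpotent_of_mulEquiv (MonoidHom.ofInjective hf).symm
  · refine hgc ?_
    rw [Subgroup.mem_centralizer_iff]
    intro x hx
    obtain ⟨k, hk⟩ := hQ ⟨x, hx⟩
    refine (CfsgLib.NilpotentSubgroups.commute_of_orderOf_coprime (hN := hnil) ?_).eq
    exact (hgo.pow_right k).symm.coprime_dvd_left
      (orderOf_dvd_of_pow_eq_one (by simpa using congrArg Subtype.val hk))
  · obtain ⟨R, hR⟩ := hQ.exists_le_sylow
    have hRQ : (R : Subgroup G) = Q := by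
      refine le_antisymm ?_ hR
      have hdvd : Q.relIndex (R : Subgroup G) ∣ Q.index := Subgroup.relIndex_dvd_index_of_normal Q _
      obtain ⟨k, hk⟩ := IsPGroup.iff_card.1 R.isPGroup'
      obtain ⟨j, -, hj⟩ := (Nat.dvd_prime_pow (Fact.out : p.Prime)).1
        ((Subgroup.index_dvd_card (Q.subgroupOf (R : Subgroup G))).trans hk.dvd)
      rcases Nat.eq_zero_or_pos j with rfl | hj0
      · exact Subgroup.relIndex_eq_one.1 (hj.trans (pow_zero p))
      · refine absurd ?_ hidx
        exact (dvd_pow_self p hj0.ne').trans (hj.symm.dvd.trans hdvd)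
    obtain ⟨c, hc⟩ := MulAction.exists_smul_eq G R P
    rw [← hc, Sylow.coe_subgroup_smul, hRQ]
    exact hQn.map _ (MulAut.conj c).surjective

end Cfsg.Agent.S0132
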