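import Cfsg.Statements.S2954
import Cfsg.Agent.Lib.LocalEven.JComp.PairStructure

set_option autoImplicit false
open Cfsg

namespace Cfsg.Agent.S2954
open CfsgLib.JComp in
theorem pairs {G : Type*} [Group G] [Finite G] {T K K' L L' : Subgroup G} (h : Above T K L)
    (h' : Above T K' L') (hne : L' ≠ L) (hT : T ≤ L) (hT' : T ≤ L') :
    (Nonempty (↥L ≃* Equiv.Perm (Fin 4)) ∧ Nonempty (↥L' ≃* Equiv.Perm (Fin 4))) ∨
      (Nonempty (↥L ≃* Equiv.Perm (Fin 4) × Multiplicative (ZMod 2)) ∧
        Nonempty (↥L' ≃* Equiv.Perm (Fin 4) × Multiplicative (ZMod 2))) := by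
  rw [h.eq_join h' hne hT hT', h'.eq_join h hne.symm hT' hT]
  exact CfsgLib.ActiveAmalgam.iso_of (h.good h' hne hT) (h'.good h hne.symm hT') (h.join_core h' hne)


/-- Let G be a finite group of characteristic 2 type in which every 2-local subgroup is solvable and the centralizer of Ω₁(Z(S)) lies in N_G(S) for every Sylow 2-subgroup S; suppose O₂(G) = 1, fix a Sylow 2-subgroup S and a 2-local subgroup M containing N_G(J(S)) (J the Thompson subgroup generated by the elementary abelian 2-subgroups of largest order). If T is maximal (for the order of a largest elementary abelian subgroup, then the order of J(T), then the order of T) among the nontrivial 2-subgroups of M lying in a 2-local subgroup not inside M, then there are two distinct maximal 2-local subgroups P₁, P₂ of G, each having T as a Sylow 2-subgroup, that are both isomorphic to the symmetric group on four letters or both isomorphic to its direct product with a group of order 2. -/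
theorem result {G : Type*} [Group G] [Finite G] (hL : Cfsg.IsCharacteristicTwoType G) (hN : ∀ N : Subgroup G, Cfsg.IsTwoLocal N → Group.IsSolvable ↥N)
    (hZ : ∀ S : Sylow 2 G, Subgroup.centralizer (Cfsg.omegaCenterOf (S : Subgroup G) : Set G) ≤ Subgroup.normalizer ((S : Subgroup G) : Set G)) (hO : Cfsg.pCore 2 G = ⊥) (S : Sylow 2 G) (M : Subgroup G) (hM : Cfsg.IsTwoLocal M)
    (hMJ : Subgroup.normalizer (Cfsg.thompsonSubgroupOf 2 (S : Subgroup G) : Set G) ≤ M) (T : Subgroup G) (hT : T ∈ Cfsg.maxStraddlingTwoSubgroups M) :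
    ∃ P₁ P₂ : Subgroup G, P₁ ≠ P₂ ∧ Cfsg.IsMaximalTwoLocal P₁ ∧ Cfsg.IsMaximalTwoLocal P₂ ∧
      Cfsg.IsSylowTwoIn T P₁ ∧ Cfsg.IsSylowTwoIn T P₂ ∧
      ((Nonempty (↥P₁ ≃* Equiv.Perm (Fin 4)) ∧ Nonempty (↥P₂ ≃* Equiv.Perm (Fin 4))) ∨
        (Nonempty (↥P₁ ≃* Equiv.Perm (Fin 4) × Multiplicative (ZMod 2)) ∧
          Nonempty (↥P₂ ≃* Equiv.Perm (Fin 4) × Multiplicative (ZMod 2)))) := by
  obtain ⟨K, K', L, L', h, h', hne, hT₁, hT₂⟩ :=
    CfsgLib.JComp.Frame.exists_pair ⟨⟨hL, hN, hZ⟩, hT, S, hMJ⟩ hM hO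
  exact ⟨L, L', hne.symm, h.max, h'.max, (h.over_T hT₁).syl, (h'.over_T hT₂).syl,
    pairs h h' hne hT₁ hT₂⟩

end Cfsg.Agent.S2954
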