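import Cfsg.Statements.S0007
-- import your own Cfsg.Agent.* helpers here

set_option autoImplicit false
open Cfsg

namespace Cfsg.Agent.S0007

/-- Subgroups of coprime index: the intersection has index equal to the product of the indices, and every element is a product of an element of the first subgroup and an element of the second. -/
theorem result {G : Type*} [Group G] [Finite G] (H K : Subgroup G)
    (h : H.index.Coprime K.index) :
    (H ⊓ K).index = H.index * K.index ∧ ∀ g : G, ∃ x ∈ H, ∃ y ∈ K, g = x * y := by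
  have h1 : (H ⊓ K).index ≤ H.index * K.index := Subgroup.index_inf_le
  have h2 : H.index * K.index ∣ (H ⊓ K).index :=
    h.mul_dvd_of_dvd_of_dvd (Subgroup.index_dvd_of_le inf_le_left) (Subgroup.index_dvd_of_le inf_le_right)
  have heq : (H ⊓ K).index = H.index * K.index :=
    le_antisymm h1 (Nat.le_of_dvd (Nat.pos_of_ne_zero Subgroup.index_ne_zero_of_finite) h2)
  refine ⟨heq, fun g => ?_⟩
  have hrel : H.relIndex K = H.index := by
    have h3 := Subgroup.relIndex_mul_index (inf_le_right : H ⊓ K ≤ K)
    rw [Subgroup.inf_relIndex_right, heq] at h3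
    exact Nat.eq_of_mul_eq_mul_right (Nat.pos_of_ne_zero Subgroup.index_ne_zero_of_finite) h3
  let f : (K ⧸ H.subgroupOf K) → G ⧸ H :=
    Quotient.map' (fun x : K => (x : G)) (fun a b hab => by
      rw [QuotientGroup.leftRel_apply] at hab ⊢
      simpa [Subgroup.mem_subgroupOf] using hab)
  have hinj : Function.Injective f := by
    intro a b
    refine Quotient.inductionOn₂' a b (fun a b hab => ?_)
    simp only [f, Quotient.map'_mk''] at hab
    rw [Quotient.eq'', QuotientGroup.leftRel_apply] at hab
    rw [Quotient.eq'', QuotientGroup.leftRel_apply, Subgroup.mem_subgroupOf]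
    simpa using hab
  have hsurj : Function.Surjective f :=
    ((Nat.bijective_iff_injective_and_card f).2 ⟨hinj, hrel⟩).2
  obtain ⟨q, hq⟩ := hsurj (QuotientGroup.mk g⁻¹)
  revert hq
  refine Quotient.inductionOn' q (fun k hk => ?_)
  have hk' : (k : G)⁻¹ * g⁻¹ ∈ H := QuotientGroup.eq.1 hk
  exact ⟨((k : G)⁻¹ * g⁻¹)⁻¹, H.inv_mem hk', (k : G)⁻¹, K.inv_mem k.2, by simp [mul_assoc]⟩

end Cfsg.Agent.S0007
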