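import Cfsg.Statements.S0014
import Cfsg.Agent.Lib.PGroup.Frattini

set_option autoImplicit false
open Cfsg

namespace Cfsg.Agent.S0014

/-- Burnside's basis Theorem: in a finite p-group whose Frattini quotient has order p ^ n, every generating set contains n elements that already generate, and no set with fewer than n elements generates. -/
theorem result {G : Type*} [Group G] [Finite G] (p n : ℕ) [Fact p.Prime]
    (hG : IsPGroup p G) (hn : (frattini G).index = p ^ n) :
    (∀ S : Finset G, Subgroup.closure (S : Set G) = ⊤ → ∃ T : Finset G, T ⊆ S ∧ T.card = n ∧ Subgroup.closure (T : Set G) = ⊤) ∧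
    (∀ T : Finset G, Subgroup.closure (T : Set G) = ⊤ → n ≤ T.card) := by
  classical
  have hc := CfsgLib.PGroup.commutator_le_frattini hG
  have hp := CfsgLib.PGroup.pow_mem_frattini hG
  let Φ := frattini G
  let M : Finset G → Subgroup G := fun U => Subgroup.closure (U : Set G) ⊔ Φ
  have hMn : ∀ U, (M U).Normal := fun U => by
    refine ⟨fun x hx g => ?_⟩
    have h1 : g * x * g⁻¹ * x⁻¹ ∈ M U := (le_sup_right : Φ ≤ M U)
      (hc (Subgroup.commutator_mem_commutator (Subgroup.mem_top g) (Subgroup.mem_top x)))
    have h2 := (M U).mul_mem h1 hx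
    rwa [inv_mul_cancel_right] at h2
  have hins : ∀ (U : Finset G) (t : G), M (insert t U) = Subgroup.zpowers t ⊔ M U := by
    intro U t
    simp only [M, Finset.coe_insert, ← Set.union_singleton, Subgroup.closure_union,
      ← Subgroup.zpowers_eq_closure]
    rw [sup_comm (Subgroup.closure _) (Subgroup.zpowers t), sup_assoc]
  have hstep : ∀ (U : Finset G) (t : G),
      (t ∈ M U → (M (insert t U)).index = (M U).index) ∧
      (t ∉ M U → (M U).index = p * (M (insert t U)).index) := by
    intro U t
    haveI := hMn U
    constructor
    · intro ht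
      rw [hins, sup_eq_right.2 (Subgroup.zpowers_le.2 ht)]
    · intro ht
      have h1 := Subgroup.relIndex_mul_index (H := M U) (K := M (insert t U))
        (by rw [hins]; exact le_sup_right)
      have h2 : (M U).relIndex (M (insert t U)) = p := by
        rw [hins, Subgroup.relIndex_sup_right, ← QuotientGroup.ker_mk' (M U),
          Subgroup.relIndex_ker, MonoidHom.map_zpowers, Nat.card_zpowers]
        refine orderOf_eq_prime ?_ ?_
        · rw [← map_pow, QuotientGroup.mk'_apply, QuotientGroup.eq_one_iff]
          exact (le_sup_right : Φ ≤ M U) (hp t)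
        · rwa [ne_eq, QuotientGroup.mk'_apply, QuotientGroup.eq_one_iff]
      rw [← h1, h2]
  have hupper : ∀ U : Finset G, p ^ n ∣ p ^ U.card * (M U).index := by
    intro U
    induction U using Finset.induction_on with
    | empty => simp [M, Φ, hn]
    | @insert t U ht ih =>
      rw [Finset.card_insert_of_notMem ht, pow_succ]
      by_cases h : t ∈ M U
      · rw [(hstep U t).1 h]; exact ih.trans (mul_dvd_mul (dvd_mul_right _ _) dvd_rfl)
      · rw [mul_assoc, ← (hstep U t).2 h]; exact ih
  have htop : ∀ T : Finset G, Subgroup.closure (T : Set G) = ⊤ → (M T).index = 1 := by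
    intro T hT; simp [M, hT]
  refine ⟨fun S hS => ?_, fun T hT => ?_⟩
  · -- grow an independent subset of `S`
    let P : Finset G → Prop := fun U => U ⊆ S ∧ p ^ U.card * (M U).index = p ^ n
    obtain ⟨T, hTm, hmax⟩ : ∃ T ∈ S.powerset.filter P, ∀ U ∈ S.powerset.filter P,
        U.card ≤ T.card :=
      Finset.exists_max_image _ _ ⟨∅, by simp [P, M, Φ, hn]⟩
    simp only [Finset.mem_filter, Finset.mem_powerset, P] at hTm hmax
    have hTS : Subgroup.closure (S : Set G) ≤ M T := by
      rw [Subgroup.closure_le]
      intro t ht
      by_contra hnot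
      have hnotT : t ∉ T := fun h => hnot
        ((le_sup_left : Subgroup.closure (T : Set G) ≤ M T) (Subgroup.subset_closure h))
      have hsub : insert t T ⊆ S := Finset.insert_subset (by simpa using ht) hTm.1
      have := hmax (insert t T) ⟨hsub, hsub, by
        rw [Finset.card_insert_of_notMem hnotT, pow_succ, mul_assoc, ← (hstep T t).2 hnot]
        exact hTm.2.2⟩
      rw [Finset.card_insert_of_notMem hnotT] at this
      omega
    rw [hS, top_le_iff] at hTS
    have hclos : Subgroup.closure (T : Set G) = ⊤ := frattini_nongenerating hTS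
    refine ⟨T, hTm.1, ?_, hclos⟩
    have h := hTm.2.2
    rw [htop T hclos, mul_one] at h
    exact Nat.pow_right_injective (Fact.out : p.Prime).two_le h
  · have h := hupper T
    rw [htop T hT, mul_one] at h
    exact Nat.pow_dvd_pow_iff_le_right (Fact.out : p.Prime).one_lt |>.1 h

end Cfsg.Agent.S0014
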