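import Cfsg.Statements.S0015
import Cfsg.Agent.Lib.OddOrder.PuigSeries

set_option autoImplicit false
open Cfsg

namespace Cfsg.Agent.S0015

/-- In a finite nilpotent group, an abelian normal subgroup that is maximal among abelian normal subgroups equals its own centralizer. -/
theorem result {G : Type*} [Group G] [Finite G] [Group.IsNilpotent G]
    (N : Subgroup G) [N.Normal] [IsMulCommutative N]
    (hmax : ∀ M : Subgroup G, M.Normal → IsMulCommutative M → N ≤ M → M = N) :
    Subgroup.centralizer (N : Set G) = N := by
  refine le_antisymm ?_ (Subgroup.le_centralizer_iff_isMulCommutative.2 inferInstance)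
  by_contra hle
  let f := QuotientGroup.mk' N
  have hfs : Function.Surjective f := QuotientGroup.mk'_surjective N
  let C := (Subgroup.centralizer (N : Set G)).map f
  haveI : C.Normal := Subgroup.Normal.map inferInstance _ hfs
  have hC : C ≠ ⊥ := by
    simp only [C, ne_eq, Subgroup.map_eq_bot_iff, f, QuotientGroup.ker_mk']
    exact hle
  obtain ⟨z, ⟨hzc, hzC⟩, hz⟩ := (Subgroup.bot_or_exists_ne_one _).resolve_left
    (CfsgLib.OddOrder.PuigSeries.inf_center_ne_bot C hC)
  obtain ⟨x, hx, rfl⟩ := hzC
  let B := (Subgroup.zpowers (f x)).comap f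
  have hBeq : B = Subgroup.closure (insert x (N : Set G)) := by
    simp only [B, ← MonoidHom.map_zpowers, Subgroup.comap_map_eq, f, QuotientGroup.ker_mk']
    rw [Set.insert_eq, Subgroup.closure_union, Subgroup.closure_eq, ← Subgroup.zpowers_eq_closure]
  have hBn : B.Normal := by
    haveI : (Subgroup.zpowers (f x)).Normal := by
      refine ⟨fun y hy g => ?_⟩
      obtain ⟨k, rfl⟩ := Subgroup.mem_zpowers_iff.1 hy
      have h := Subgroup.mem_center_iff.1 (Subgroup.zpow_mem _ hzc k) g
      rw [h, mul_inv_cancel_right]
      exact Subgroup.zpow_mem _ (Subgroup.mem_zpowers _) k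
    exact Subgroup.Normal.comap inferInstance f
  have hBc : IsMulCommutative B := by
    rw [hBeq]
    refine Subgroup.isMulCommutative_closure ?_
    rintro a ha b hb
    rcases ha with rfl | ha <;> rcases hb with rfl | hb
    · rfl
    · exact (Subgroup.mem_centralizer_iff.1 hx b hb).symm
    · exact Subgroup.mem_centralizer_iff.1 hx a ha
    · exact congrArg Subtype.val
        ((IsMulCommutative.is_comm (M := N)).comm ⟨a, ha⟩ ⟨b, hb⟩)
  have hNB : N ≤ B := by
    have h := Subgroup.ker_le_comap f (Subgroup.zpowers (f x))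
    rwa [QuotientGroup.ker_mk'] at h
  have hxB : x ∈ B := Subgroup.mem_zpowers (f x)
  rw [hmax B hBn hBc hNB] at hxB
  exact hz ((QuotientGroup.eq_one_iff x).2 hxB)

end Cfsg.Agent.S0015
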