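import Cfsg.Statements.S0018
import Cfsg.Agent.Lib.PCore.PSolvable

set_option autoImplicit false
open Cfsg

namespace Cfsg.Agent.S0018

/-- A finite solvable group whose Sylow p-subgroups are abelian has p-length one: a Sylow p-subgroup together with the largest normal subgroup of order prime to p generates a normal subgroup. -/
theorem result {G : Type*} [Group G] [Finite G] [Group.IsSolvable G]
    (p : ℕ) [Fact p.Prime] (P : Sylow p G) (hP : IsMulCommutative P) :
    ((P : Subgroup G) ⊔ Cfsg.pPrimeCore p G).Normal := by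
  let N := Cfsg.pPrimeCore p G
  haveI : N.Normal := Cfsg.pPrimeCore_normal p G
  let q := QuotientGroup.mk' N
  have hqs : Function.Surjective q := QuotientGroup.mk'_surjective N
  let Q := P.mapSurjective hqs
  have hQc : IsMulCommutative (Q : Subgroup (G ⧸ N)) := by
    refine ⟨⟨fun a b => Subtype.ext ?_⟩⟩
    obtain ⟨x, hx, hxe⟩ : ∃ x ∈ (P : Subgroup G), q x = (a : G ⧸ N) :=
      Subgroup.mem_map.1 (Sylow.coe_mapSurjective hqs P ▸ a.2)
    obtain ⟨y, hy, hye⟩ : ∃ y ∈ (P : Subgroup G), q y = (b : G ⧸ N) :=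
      Subgroup.mem_map.1 (Sylow.coe_mapSurjective hqs P ▸ b.2)
    show (a : G ⧸ N) * b = b * a
    rw [← hxe, ← hye, ← map_mul, ← map_mul]
    exact congrArg q (congrArg Subtype.val ((IsMulCommutative.is_comm (M := P)).comm ⟨x, hx⟩ ⟨y, hy⟩))
  have hle : (Q : Subgroup (G ⧸ N)) ≤ Cfsg.pCore p (G ⧸ N) := by
    refine le_trans ?_ (CfsgLib.PCore.centralizer_pCore_le (CfsgLib.PCore.isPSolvable_of_isSolvable)
      CfsgLib.PCore.pPrimeCore_quotient_pPrimeCore)
    intro a ha
    rw [Subgroup.mem_centralizer_iff]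
    intro b hb
    exact congrArg Subtype.val ((IsMulCommutative.is_comm (M := (Q : Subgroup (G ⧸ N)))).comm
      ⟨b, CfsgLib.PCore.pCore_le_sylow Q hb⟩ ⟨a, ha⟩)
  haveI : (Q : Subgroup (G ⧸ N)).Normal := by
    rw [le_antisymm hle (CfsgLib.PCore.pCore_le_sylow Q)]
    exact Cfsg.pCore_normal p _
  have h1 : ((Q : Subgroup (G ⧸ N)).comap q).Normal := inferInstance
  rwa [Sylow.coe_mapSurjective, Subgroup.comap_map_eq, QuotientGroup.ker_mk'] at h1

end Cfsg.Agent.S0018
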