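import Cfsg.Statements.S0030
import Cfsg.Agent.Lib.Coprime.Commutator

set_option autoImplicit false
open Cfsg

namespace Cfsg.Agent.S0030

/-- Under coprime action fixed points of a product of two invariant subgroups factor: if K = X Y with X and Y normalised by A then every A-fixed element of K is a product of an A-fixed element of X and an A-fixed element of Y. -/
theorem result {G : Type*} [Group G] [Finite G] (A K : Subgroup G) (hAK : A ≤ Subgroup.normalizer (K : Set G))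
    (hcop : (Nat.card A).Coprime (Nat.card K)) (hsolv : Group.IsSolvable A ∨ Group.IsSolvable K)
    (X Y : Subgroup G) (hX : X ≤ K) (hY : Y ≤ K) (hXA : A ≤ Subgroup.normalizer (X : Set G)) (hYA : A ≤ Subgroup.normalizer (Y : Set G))
    (hXY : ∀ k ∈ K, ∃ x ∈ X, ∃ y ∈ Y, k = x * y) (k : G) (hk : k ∈ K ⊓ Subgroup.centralizer (A : Set G)) :
    ∃ x ∈ X ⊓ Subgroup.centralizer (A : Set G), ∃ y ∈ Y ⊓ Subgroup.centralizer (A : Set G), k = x * y := by
  obtain ⟨hkK, hkC⟩ := hk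
  obtain ⟨x, hx, y, hy, rfl⟩ := hXY k hkK
  have hXYA : A ≤ Subgroup.normalizer ((X ⊓ Y : Subgroup G) : Set G) :=
    Subgroup.le_normalizer_iff.2 fun a ha z hz =>
      ⟨CfsgLib.Coprime.mem_normalizer_conj (hXA ha) hz.1,
        CfsgLib.Coprime.mem_normalizer_conj (hYA ha) hz.2⟩
  obtain ⟨c, ⟨hcX, hcC⟩, hcN⟩ := CfsgLib.Coprime.exists_centralizing_rep A X hXA
    (hcop.coprime_dvd_right (Subgroup.card_dvd_of_le hX))
    (hsolv.imp id fun h => @Group.isSolvable_of_isSolvable_injective _ _ _ _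
      (Subgroup.inclusion hX) (Subgroup.inclusion_injective _) h)
    (X ⊓ Y) inf_le_left hXYA hx fun a ha => by
      refine ⟨X.mul_mem (X.inv_mem hx) (CfsgLib.Coprime.mem_normalizer_conj (hXA ha) hx), ?_⟩
      have h1 := CfsgLib.Coprime.conj_eq_of_mem_centralizer hkC ha
      have h2 : x⁻¹ * (a * x * a⁻¹) = y * (a * y⁻¹ * a⁻¹) := by
        calc x⁻¹ * (a * x * a⁻¹) = x⁻¹ * (a * (x * y) * a⁻¹) * (a * y⁻¹ * a⁻¹) := by group
          _ = _ := by rw [h1]; group
      show x⁻¹ * (a * x * a⁻¹) ∈ Y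
      rw [h2]
      exact Y.mul_mem hy (CfsgLib.Coprime.mem_normalizer_conj (hYA ha) (Y.inv_mem hy))
  have hcy : c⁻¹ * (x * y) = (x⁻¹ * c)⁻¹ * y := by group
  refine ⟨c, ⟨hcX, hcC⟩, c⁻¹ * (x * y), ⟨?_, ?_⟩, by group⟩
  · show c⁻¹ * (x * y) ∈ Y
    rw [hcy]
    exact Y.mul_mem (Y.inv_mem hcN.2) hy
  · exact Subgroup.mul_mem _ (Subgroup.inv_mem _ hcC) hkC

end Cfsg.Agent.S0030
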