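import Cfsg.Statements.S0036
import Cfsg.Agent.Lib.Frobenius.Basic

set_option autoImplicit false
open Cfsg

namespace Cfsg.Agent.S0036

/-- When a Frobenius complement contains an involution, an elementary argument shows the Frobenius kernel is closed under multiplication (hence a subgroup). -/
theorem result {G : Type*} [Group G] [Finite G] (H : Subgroup G) (hH : Cfsg.IsFrobeniusComplement H)
    (t : G) (ht : t ∈ H) (ht1 : t ≠ 1) (ht2 : t * t = 1) :
    ∀ x ∈ Cfsg.frobeniusKernel H, ∀ y ∈ Cfsg.frobeniusKernel H, x * y ∈ Cfsg.frobeniusKernel H := by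
  classical
  have htt : t⁻¹ = t := inv_eq_of_mul_eq_one_right ht2
  let T : G ⧸ H → G := fun q => q.out * t * q.out⁻¹
  have hTinv : ∀ q, (T q)⁻¹ = T q := fun q => by simp [T, htt, mul_assoc]
  have hTne : ∀ q, T q ≠ 1 := fun q h => ht1 (by simpa [T] using conj_eq_one_iff.1 h)
  have hTsq : ∀ q, T q * T q = 1 := fun q => by
    rw [mul_eq_one_iff_eq_inv, hTinv]
  -- an element of a conjugate of `H` determines the coset
  have hmem : ∀ (q : G ⧸ H) (u : G), u⁻¹ * T q * u ∈ H → q = QuotientGroup.mk u := by
    intro q u hu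
    rw [← QuotientGroup.out_eq' q]
    exact CfsgLib.Frobenius.coset_unique hH (hTne q)
      (by simpa [T, mul_assoc] using ht) hu
  have hTinj : Function.Injective T := by
    intro q q' h
    rw [← QuotientGroup.out_eq' q']
    exact hmem q q'.out (by rw [h]; simpa [T, mul_assoc] using ht)
  -- a product of two of them lies in the kernel
  have hK : ∀ q q', T q * T q' ∈ Cfsg.frobeniusKernel H := by
    intro q q'
    by_contra hnot
    simp only [Cfsg.frobeniusKernel, Set.mem_setOf_eq, not_or, not_forall, not_not] at hnot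
    obtain ⟨hne, u, hu⟩ := hnot
    rw [CfsgLib.Frobenius.mem_conj_smul_iff] at hu
    apply hne
    -- both factors invert the product, so both lie in the same conjugate of `H`
    have hy1 : u⁻¹ * (T q * T q') * u ≠ 1 := by
      intro h
      apply hne
      have h2 : T q * T q' = u * (u⁻¹ * (T q * T q') * u) * u⁻¹ := by group
      rw [h2, h]; group
    have hflip : (u⁻¹ * T q * u) * (u⁻¹ * (T q * T q') * u) * (u⁻¹ * T q * u)⁻¹ =
        (u⁻¹ * (T q * T q') * u)⁻¹ := by
      simp only [mul_inv_rev, hTinv, inv_inv, mul_assoc, mul_inv_cancel_left]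
      rw [← mul_assoc (T q) (T q), hTsq, one_mul]
    have h1 : (u⁻¹ * T q * u)⁻¹ ∈ H := by
      refine CfsgLib.Frobenius.mem_of_conj_mem hH hu hy1 ?_
      simp only [inv_inv]
      rw [hflip]
      exact H.inv_mem hu
    have h1' : u⁻¹ * T q * u ∈ H := by simpa using H.inv_mem h1
    have h2' : u⁻¹ * T q' * u ∈ H := by
      have h3 := H.mul_mem (H.inv_mem h1') hu
      have e : (u⁻¹ * T q * u)⁻¹ * (u⁻¹ * (T q * T q') * u) = u⁻¹ * T q' * u := by group
      rwa [e] at h3
    rw [hmem q u h1', hmem q' u h2', hTsq]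
  -- hence the kernel is the set of products with one fixed factor
  let q₀ : G ⧸ H := QuotientGroup.mk 1
  have hfin : (Cfsg.frobeniusKernel H).Finite := Set.toFinite _
  have hrange : ∀ f : G ⧸ H → G, Function.Injective f → (∀ q, f q ∈ Cfsg.frobeniusKernel H) →
      Set.range f = Cfsg.frobeniusKernel H := by
    intro f hf hmemf
    refine Set.eq_of_subset_of_ncard_le (Set.range_subset_iff.2 hmemf) (le_of_eq ?_) hfin
    rw [CfsgLib.Frobenius.ncard_frobeniusKernel hH, Set.ncard_range_of_injective hf]
    rfl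
  intro x hx y hy
  rw [← hrange (fun q => T q * T q₀) (fun a b h => hTinj (mul_right_cancel h))
    (fun q => hK q q₀)] at hx
  rw [← hrange (fun q => T q₀ * T q) (fun a b h => hTinj (mul_left_cancel h))
    (fun q => hK q₀ q)] at hy
  obtain ⟨a, rfl⟩ := hx
  obtain ⟨b, rfl⟩ := hy
  have e : T a * T q₀ * (T q₀ * T b) = T a * T b := by
    rw [mul_assoc, ← mul_assoc (T q₀), hTsq, one_mul]
  show T a * T q₀ * (T q₀ * T b) ∈ _
  rw [e]
  exact hK a b

end Cfsg.Agent.S0036
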