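import Cfsg.Statements.S0040
import Cfsg.Agent.Lib.Frobenius.Action
import Cfsg.Agent.Lib.Frobenius.Basic
import Cfsg.Agent.S0016

set_option autoImplicit false
open Cfsg

namespace Cfsg.Agent.S0040

/-- Sylow subgroups of Frobenius complements: if H complements a nontrivial normal subgroup K and every nonidentity element of H has trivial centraliser in K, then each Sylow subgroup of H is cyclic or isomorphic to a generalized quaternion group. -/
theorem result {G : Type*} [Group G] [Finite G] (K H : Subgroup G) [K.Normal]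
    (hc : Subgroup.IsComplement' K H) (hK : K ≠ ⊥) (hfpf : ∀ h ∈ H, h ≠ 1 → K ⊓ Subgroup.centralizer {h} = ⊥)
    (p : ℕ) [Fact p.Prime] (P : Sylow p H) :
    IsCyclic P ∨ ∃ n : ℕ, Nonempty (P ≃* QuaternionGroup (2 ^ n)) := by
  by_cases hH : H = ⊥
  · subst hH
    exact Or.inl inferInstance
  have hFC : Cfsg.IsFrobeniusComplement H :=
    CfsgLib.Frobenius.isFrobeniusComplement_of_normal_complement hc hK hH fun h hh hh1 k hk e => by
      have : k ∈ K ⊓ Subgroup.centralizer {h} :=
        ⟨hk, Subgroup.mem_centralizer_iff.2 (by rintro _ rfl; exact e)⟩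
      rw [hfpf h hh hh1] at this
      exact Subgroup.mem_bot.1 this
  by_cases hP : (P : Subgroup H) = ⊥
  · haveI : Subsingleton P := by
      have e : (P : Subgroup H) = ⊥ := hP
      exact ⟨fun a b => Subtype.ext ((Subgroup.mem_bot.1 (e ▸ a.2)).trans
        (Subgroup.mem_bot.1 (e ▸ b.2)).symm)⟩
    exact Or.inl inferInstance
  haveI : Nontrivial (P : Subgroup H) := (Subgroup.nontrivial_iff_ne_bot _).2 hP
  have hcomm : ∀ a b : (P : Subgroup H), a * b = b * a → IsCyclic (Subgroup.closure {a, b}) := by
    intro a b hab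
    let f : (P : Subgroup H) →* G := H.subtype.comp (P : Subgroup H).subtype
    have hf : Function.Injective f := H.subtype_injective.comp (Subgroup.subtype_injective _)
    haveI : IsMulCommutative ((Subgroup.closure {a, b}).map f) := by
      haveI := Subgroup.isMulCommutative_closure (k := {a, b}) (by
        rintro x (rfl | rfl) y (rfl | rfl) <;> first | rfl | exact hab | exact hab.symm)
      exact Subgroup.map_isMulCommutative _ f
    haveI : IsCyclic ((Subgroup.closure {a, b}).map f) :=
      CfsgLib.Frobenius.isCyclic_le_complement_of_commutative hFC hc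
        (by rintro _ ⟨x, -, rfl⟩; exact (x : H).2)
    exact isCyclic_of_injective ((Subgroup.closure {a, b}).equivMapOfInjective f hf).toMonoidHom
      ((Subgroup.closure {a, b}).equivMapOfInjective f hf).injective
  suffices huniq : ∀ A B : Subgroup (P : Subgroup H), Nat.card A = p → Nat.card B = p → A = B by
    rcases Cfsg.Agent.S0016.result p P.isPGroup' huniq with h | ⟨-, h⟩
    · exact Or.inl h
    · exact Or.inr h
  intro A B hA hB
  -- a central subgroup of order `p`, with which each element of order `p` generates a cyclic group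
  haveI : Nontrivial (Subgroup.center (P : Subgroup H)) := P.isPGroup'.center_nontrivial
  have hdvd : p ∣ Nat.card (Subgroup.center (P : Subgroup H)) := by
    obtain ⟨n, hn⟩ := (P.isPGroup'.to_subgroup (Subgroup.center (P : Subgroup H))).exists_card_eq
    rw [hn]
    refine dvd_pow_self p fun hn0 => ?_
    rw [hn0, pow_zero] at hn
    exact absurd hn (Finite.one_lt_card (α := Subgroup.center (P : Subgroup H))).ne'
  obtain ⟨⟨z, hzc⟩, hz⟩ := exists_prime_orderOf_dvd_card' p hdvd
  rw [Subgroup.orderOf_mk] at hz
  suffices h : ∀ C : Subgroup (P : Subgroup H), Nat.card C = p → C = Subgroup.zpowers z by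
    rw [h A hA, h B hB]
  intro C hC
  obtain ⟨⟨x, hxC⟩, hx⟩ := exists_prime_orderOf_dvd_card' p hC.symm.dvd
  rw [Subgroup.orderOf_mk] at hx
  haveI := hcomm x z (Subgroup.mem_center_iff.1 hzc x)
  let W := Subgroup.closure ({x, z} : Set (P : Subgroup H))
  have hxW : x ∈ W := Subgroup.subset_closure (by simp)
  have hzW : z ∈ W := Subgroup.subset_closure (by simp)
  have hxz : x ∈ Subgroup.zpowers z := by
    classical
    haveI : Fintype W := Fintype.ofFinite _
    let T := Finset.univ.filter fun y : W => y ^ p = 1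
    let Z := Finset.univ.filter fun y : W => y ∈ Subgroup.zpowers (⟨z, hzW⟩ : W)
    have hzp : orderOf (⟨z, hzW⟩ : W) = p := by rw [Subgroup.orderOf_mk, hz]
    have hsub : Z ⊆ T := by
      intro y hy
      simp only [Z, T, Finset.mem_filter, Finset.mem_univ, true_and] at hy ⊢
      obtain ⟨i, rfl⟩ := hy
      show ((⟨z, hzW⟩ : W) ^ i) ^ p = 1
      rw [← zpow_natCast, ← zpow_mul, mul_comm, zpow_mul, zpow_natCast,
        orderOf_dvd_iff_pow_eq_one.1 hzp.dvd, one_zpow]
    have hcard : T.card ≤ Z.card := by
      refine (IsCyclic.card_pow_eq_one_le (Fact.out : p.Prime).pos).trans (le_of_eq ?_)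
      calc p = orderOf (⟨z, hzW⟩ : W) := hzp.symm
        _ = Fintype.card (Subgroup.zpowers (⟨z, hzW⟩ : W)) := (Fintype.card_zpowers).symm
        _ = Z.card := Fintype.card_subtype _
    have hxT : (⟨x, hxW⟩ : W) ∈ T := by
      simp only [T, Finset.mem_filter, Finset.mem_univ, true_and]
      exact Subtype.ext (orderOf_dvd_iff_pow_eq_one.1 hx.dvd)
    rw [← Finset.eq_of_subset_of_card_le hsub hcard] at hxT
    simp only [Z, Finset.mem_filter, Finset.mem_univ, true_and] at hxT
    obtain ⟨i, hi⟩ := hxT
    exact ⟨i, congrArg Subtype.val hi⟩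
  have e1 : Subgroup.zpowers x = C := Subgroup.eq_of_le_of_card_ge (Subgroup.zpowers_le.2 hxC)
    (by rw [hC, Nat.card_zpowers, hx])
  have e2 : Subgroup.zpowers x = Subgroup.zpowers z :=
    Subgroup.eq_of_le_of_card_ge (Subgroup.zpowers_le.2 hxz)
      (by rw [Nat.card_zpowers, Nat.card_zpowers, hx, hz])
  exact e1.symm.trans e2

end Cfsg.Agent.S0040
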