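import Cfsg.Statements.S0041
import Cfsg.Agent.Lib.Frobenius.Action

set_option autoImplicit false
open Cfsg

namespace Cfsg.Agent.S0041

/-- A group acting on a nontrivial abelian group so that no nonidentity element has a nonidentity fixed point is cyclic, provided it is abelian or its order is a product of two (possibly equal) primes. -/
theorem result {G : Type*} [Group G] [Finite G] (A V : Subgroup G) [IsMulCommutative V]
    (hV : V ≠ ⊥) (hAV : A ≤ Subgroup.normalizer (V : Set G)) (hfpf : ∀ a ∈ A, a ≠ 1 → V ⊓ Subgroup.centralizer {a} = ⊥)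
    (hA : IsMulCommutative A ∨ ∃ p q : ℕ, p.Prime ∧ q.Prime ∧ Nat.card A = p * q) : IsCyclic A := by
  haveI : Nontrivial V := (Subgroup.nontrivial_iff_ne_bot V).2 hV
  letI act : MulDistribMulAction A V :=
    { smul := fun a v => ⟨(a : G) * v * (a : G)⁻¹, (Subgroup.le_normalizer_iff.1 hAV) a a.2 v v.2⟩
      one_smul := fun v => Subtype.ext (show ((1 : A) : G) * v * ((1 : A) : G)⁻¹ = v by simp)
      mul_smul := fun a b v => Subtype.ext (show ((a * b : A) : G) * v * ((a * b : A) : G)⁻¹ =
        (a : G) * ((b : G) * v * (b : G)⁻¹) * (a : G)⁻¹ by simp [mul_assoc])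
      smul_one := fun a => Subtype.ext (show (a : G) * ((1 : V) : G) * (a : G)⁻¹ = 1 by simp)
      smul_mul := fun a u v => Subtype.ext (show (a : G) * ((u * v : V) : G) * (a : G)⁻¹ =
        ((a : G) * u * (a : G)⁻¹) * ((a : G) * v * (a : G)⁻¹) by simp [mul_assoc]) }
  have hF : CfsgLib.Frobenius.IsFPF A V := by
    intro a ha v hv
    have h1 : (a : G) * v * (a : G)⁻¹ = v := congrArg Subtype.val hv
    have h2 : (v : G) ∈ V ⊓ Subgroup.centralizer {(a : G)} :=
      ⟨v.2, Subgroup.mem_centralizer_iff.2 (by rintro _ rfl; exact mul_inv_eq_iff_eq_mul.1 h1)⟩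
    rw [hfpf a a.2 (fun e => ha (Subtype.ext e)), Subgroup.mem_bot] at h2
    exact Subtype.ext h2
  rcases hA with hA | ⟨p, q, hp, hq, hcard⟩
  · exact hF.isCyclic_of_commutative
  · exact hF.isCyclic_of_card_eq_mul hp hq hcard

end Cfsg.Agent.S0041
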