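import Cfsg.Statements.S0047
import Mathlib
-- import your own Cfsg.Agent.* helpers here

set_option autoImplicit false
open Cfsg

namespace Cfsg.Agent.S0047

/-- A finite group which is the product AB of two abelian subgroups A and B is solvable. -/
theorem result {G : Type*} [Group G] [Finite G] (A B : Subgroup G)
    [IsMulCommutative A] [IsMulCommutative B] (hAB : ∀ g : G, ∃ a ∈ A, ∃ b ∈ B, g = a * b) :
    Group.IsSolvable G := by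
  have hBA : ∀ g : G, ∃ b ∈ B, ∃ a ∈ A, g = b * a := fun g => by
    obtain ⟨a, ha, b, hb, h⟩ := hAB g⁻¹
    exact ⟨b⁻¹, inv_mem hb, a⁻¹, inv_mem ha, by rw [← inv_inv g, h, mul_inv_rev]⟩
  have cA : ∀ x ∈ A, ∀ y ∈ A, x * y = y * x := fun x hx y hy =>
    congrArg Subtype.val (mul_comm' (⟨x, hx⟩ : A) ⟨y, hy⟩)
  have cB : ∀ x ∈ B, ∀ y ∈ B, x * y = y * x := fun x hx y hy =>
    congrArg Subtype.val (mul_comm' (⟨x, hx⟩ : B) ⟨y, hy⟩)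
  have hA1 : ∀ a₁ ∈ A, ∀ b : G, ∀ b₂ : G, ∀ a₂ ∈ A, a₁ * b * a₁⁻¹ = b₂ * a₂ → ∀ a ∈ A,
      a₁ * (a * b * a⁻¹ * b⁻¹) * a₁⁻¹ = a * b₂ * a⁻¹ * b₂⁻¹ := by
    intro a₁ ha₁ b b₂ a₂ ha₂ h a ha
    have e : a₁ * (a * b * a⁻¹ * b⁻¹) * a₁⁻¹
        = (a₁ * a * a₁⁻¹) * (a₁ * b * a₁⁻¹) * (a₁ * a * a₁⁻¹)⁻¹ * (a₁ * b * a₁⁻¹)⁻¹ := by group
    rw [e, h, cA a₁ ha₁ a ha, mul_inv_cancel_right]
    have e2 : a * (b₂ * a₂) * a⁻¹ * (b₂ * a₂)⁻¹ = a * b₂ * (a₂ * a⁻¹) * a₂⁻¹ * b₂⁻¹ := by group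
    rw [e2, cA a₂ ha₂ a⁻¹ (inv_mem ha)]
    group
  have hB1 : ∀ b₁ ∈ B, ∀ a : G, ∀ a₃ : G, ∀ b₃ ∈ B, b₁ * a * b₁⁻¹ = a₃ * b₃ → ∀ b ∈ B,
      b₁ * (a * b * a⁻¹ * b⁻¹) * b₁⁻¹ = a₃ * b * a₃⁻¹ * b⁻¹ := by
    intro b₁ hb₁ a a₃ b₃ hb₃ h b hb
    have e : b₁ * (a * b * a⁻¹ * b⁻¹) * b₁⁻¹
        = (b₁ * a * b₁⁻¹) * (b₁ * b * b₁⁻¹) * (b₁ * a * b₁⁻¹)⁻¹ * (b₁ * b * b₁⁻¹)⁻¹ := by group
    rw [e, h, cB b₁ hb₁ b hb, mul_inv_cancel_right]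
    have e2 : a₃ * b₃ * b * (a₃ * b₃)⁻¹ * b⁻¹ = a₃ * (b₃ * b) * b₃⁻¹ * a₃⁻¹ * b⁻¹ := by group
    rw [e2, cB b₃ hb₃ b hb]
    group
  let C : Set G := {c | ∃ a ∈ A, ∃ b ∈ B, c = a * b * a⁻¹ * b⁻¹}
  have hcomm : ∀ a ∈ A, ∀ b ∈ B, ∀ a₁ ∈ A, ∀ b₁ ∈ B,
      a₁ * (b₁ * (a * b * a⁻¹ * b⁻¹) * b₁⁻¹) * a₁⁻¹
        = b₁ * (a₁ * (a * b * a⁻¹ * b⁻¹) * a₁⁻¹) * b₁⁻¹ := by
    intro a ha b hb a₁ ha₁ b₁ hb₁
    obtain ⟨b₂, hb₂, a₂, ha₂, h2⟩ := hBA (a₁ * b * a₁⁻¹)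
    obtain ⟨a₃, ha₃, b₃, hb₃, h3⟩ := hAB (b₁ * a * b₁⁻¹)
    rw [hB1 b₁ hb₁ a a₃ b₃ hb₃ h3 b hb, hA1 a₁ ha₁ b b₂ a₂ ha₂ h2 a₃ ha₃,
      hA1 a₁ ha₁ b b₂ a₂ ha₂ h2 a ha, hB1 b₁ hb₁ a a₃ b₃ hb₃ h3 b₂ hb₂]
  have hCab : ∀ c ∈ C, ∀ d ∈ C, c * d = d * c := by
    rintro c ⟨a, ha, b, hb, rfl⟩ d ⟨a₁, ha₁, b₁, hb₁, rfl⟩
    have h := hcomm a ha b hb a₁⁻¹ (inv_mem ha₁) b₁⁻¹ (inv_mem hb₁)
    generalize a * b * a⁻¹ * b⁻¹ = c at h ⊢
    simp only [inv_inv] at h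
    have h2 := congrArg (fun t => a₁ * b₁ * t * (a₁⁻¹ * b₁⁻¹)) h
    simp only [mul_assoc, mul_inv_cancel_left] at h2 ⊢
    simpa [mul_assoc] using h2.symm
  have hKn : (Subgroup.closure C).Normal := by
    rw [← Subgroup.normalizer_eq_top_iff, eq_top_iff]
    intro g _
    obtain ⟨x, hx, y, hy, rfl⟩ := hAB g
    refine mul_mem ?_ ?_
    · have key : ∀ z ∈ A, ∀ t ∈ Subgroup.closure C, z * t * z⁻¹ ∈ Subgroup.closure C := by
        intro z hz t ht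
        induction ht using Subgroup.closure_induction with
        | mem t ht =>
          obtain ⟨a, ha, b, hb, rfl⟩ := ht
          obtain ⟨b₂, hb₂, a₂, ha₂, h2⟩ := hBA (z * b * z⁻¹)
          rw [hA1 z hz b b₂ a₂ ha₂ h2 a ha]
          exact Subgroup.subset_closure ⟨a, ha, b₂, hb₂, rfl⟩
        | one => simp
        | mul u v _ _ hu hv => exact (show z * (u * v) * z⁻¹ = (z * u * z⁻¹) * (z * v * z⁻¹) by group) ▸ mul_mem hu hv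
        | inv u _ hu => exact (show z * u⁻¹ * z⁻¹ = (z * u * z⁻¹)⁻¹ by group) ▸ inv_mem hu
      rw [Subgroup.mem_normalizer_iff]
      refine fun t => ⟨key x hx t, fun h => ?_⟩
      have := key x⁻¹ (inv_mem hx) _ h
      simpa [mul_assoc] using this
    · have key : ∀ z ∈ B, ∀ t ∈ Subgroup.closure C, z * t * z⁻¹ ∈ Subgroup.closure C := by
        intro z hz t ht
        induction ht using Subgroup.closure_induction with
        | mem t ht =>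
          obtain ⟨a, ha, b, hb, rfl⟩ := ht
          obtain ⟨a₃, ha₃, b₃, hb₃, h3⟩ := hAB (z * a * z⁻¹)
          rw [hB1 z hz a a₃ b₃ hb₃ h3 b hb]
          exact Subgroup.subset_closure ⟨a₃, ha₃, b, hb, rfl⟩
        | one => simp
        | mul u v _ _ hu hv => exact (show z * (u * v) * z⁻¹ = (z * u * z⁻¹) * (z * v * z⁻¹) by group) ▸ mul_mem hu hv
        | inv u _ hu => exact (show z * u⁻¹ * z⁻¹ = (z * u * z⁻¹)⁻¹ by group) ▸ inv_mem hu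
      rw [Subgroup.mem_normalizer_iff]
      refine fun t => ⟨key y hy t, fun h => ?_⟩
      have := key y⁻¹ (inv_mem hy) _ h
      simpa [mul_assoc] using this
  rw [Group.isSolvable_iff_subgroup_quotient (Subgroup.closure C)]
  constructor
  · apply Group.isSolvable_of_comm
    intro u v
    apply Subtype.ext
    exact Subgroup.isMulCommutative_closure (k := C) hCab |>.is_comm.comm u v |> congrArg Subtype.val
  · apply Group.isSolvable_of_comm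
    intro u v
    obtain ⟨g, rfl⟩ := QuotientGroup.mk'_surjective _ u
    obtain ⟨k, rfl⟩ := QuotientGroup.mk'_surjective _ v
    obtain ⟨a, ha, b, hb, rfl⟩ := hAB g
    obtain ⟨a', ha', b', hb', rfl⟩ := hAB k
    set π := QuotientGroup.mk' (Subgroup.closure C)
    have hab : ∀ x ∈ A, ∀ y ∈ B, π x * π y = π y * π x := by
      intro x hx y hy
      have h1 : π (x * y * x⁻¹ * y⁻¹) = 1 :=
        (QuotientGroup.eq_one_iff _).2 (Subgroup.subset_closure ⟨x, hx, y, hy, rfl⟩)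
      simp only [map_mul, map_inv] at h1
      exact commutatorElement_eq_one_iff_mul_comm.1 h1
    have haa : Commute (π a) (π a') := Commute.map (cA a ha a' ha') π
    have hbb : Commute (π b) (π b') := Commute.map (cB b hb b' hb') π
    have h1 : Commute (π a) (π b') := hab a ha b' hb'
    have h2 : Commute (π a') (π b) := hab a' ha' b hb
    rw [map_mul, map_mul]
    exact ((haa.mul_right h1).mul_left (h2.symm.mul_right hbb))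

end Cfsg.Agent.S0047
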