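import Cfsg.Statements.S0050
import Cfsg.Agent.Lib.Hall.Solvable
-- import your own Cfsg.Agent.* helpers here

set_option autoImplicit false
open Cfsg

namespace Cfsg.Agent.S0050

/-- Frattini argument for Hall subgroups: if L is a solvable normal subgroup and H a subgroup of L of order coprime to its index in L, then L together with the normaliser of H generates the whole group. -/
theorem result {G : Type*} [Group G] [Finite G] (L : Subgroup G) [L.Normal] (hL : Group.IsSolvable L)
    (H : Subgroup G) (hHL : H ≤ L) (hHall : (Nat.card H).Coprime (H.relIndex L)) :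
    L ⊔ Subgroup.normalizer (H : Set G) = ⊤ := by
  rw [eq_top_iff]
  intro g _
  have := hL
  set H' : Subgroup G := H.map (MulAut.conj g).toMonoidHom with hH'
  have hHL' : H' ≤ L := by
    rintro x ⟨y, hy, rfl⟩
    exact Subgroup.Normal.conj_mem inferInstance y (hHL hy) g
  have hcH : Nat.card H' = Nat.card H :=
    (Nat.card_congr (H.equivMapOfInjective _ (MulAut.conj g).injective).toEquiv).symm
  have h1 : Nat.card (H.subgroupOf L) = Nat.card H :=
    Nat.card_congr (Subgroup.subgroupOfEquivOfLe hHL).toEquiv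
  have h2 : Nat.card (H'.subgroupOf L) = Nat.card H :=
    (Nat.card_congr (Subgroup.subgroupOfEquivOfLe hHL').toEquiv).trans hcH
  have hL2 : Nat.card L = Nat.card H * H.relIndex L := by
    rw [← (H.subgroupOf L).card_mul_index, h1]
    rfl
  obtain ⟨l, hl⟩ := CfsgLib.Hall.conj_of_card hL2 hHall h2 h1
  have hlg : (l : G) * g ∈ Subgroup.normalizer (H : Set G) := by
    rw [Subgroup.mem_normalizer_iff_map_conj_eq]
    refine Subgroup.eq_of_le_of_card_ge ?_ ?_
    · rintro x ⟨y, hy, rfl⟩
      have hgy : g * y * g⁻¹ ∈ H' := ⟨y, hy, rfl⟩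
      have h3 : MulAut.conj l ⟨g * y * g⁻¹, hHL' hgy⟩ ∈ H.subgroupOf L := by
        rw [← hl]
        exact ⟨⟨g * y * g⁻¹, hHL' hgy⟩, hgy, rfl⟩
      have h4 : (l : G) * (g * y * g⁻¹) * (l : G)⁻¹ ∈ H := h3
      have h5 : MulAut.conj ((l : G) * g) y = (l : G) * (g * y * g⁻¹) * (l : G)⁻¹ := by
        simp [mul_assoc]
      show MulAut.conj ((l : G) * g) y ∈ H
      rw [h5]; exact h4
    · exact (Nat.card_congr (H.equivMapOfInjective _ (MulAut.conj ((l : G) * g)).injective).toEquiv).le
  have : g = (l : G)⁻¹ * ((l : G) * g) := by group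
  rw [this]
  exact Subgroup.mul_mem_sup (inv_mem l.2) hlg

end Cfsg.Agent.S0050
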