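import Cfsg.Statements.S0052
import Cfsg.Agent.Lib.Solvable.Gaschutz
-- import your own Cfsg.Agent.* helpers here

set_option autoImplicit false
open Pointwise
open Cfsg

namespace Cfsg.Agent.S0052

/-- Gaschütz's Theorem, conjugacy: for an abelian normal subgroup K ≤ U with the order of K coprime to the index of U, two complements of K in G having the same intersection with U are conjugate. -/
theorem result {G : Type*} [Group G] [Finite G] (K U : Subgroup G) [K.Normal] [IsMulCommutative K]
    (hKU : K ≤ U) (hcop : (Nat.card K).Coprime U.index)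
    (H₀ H₁ : Subgroup G) (h₀ : Subgroup.IsComplement' K H₀) (h₁ : Subgroup.IsComplement' K H₁) (hU : H₀ ⊓ U = H₁ ⊓ U) :
    ∃ g : G, MulAut.conj g • H₀ = H₁ := by
  have hD : CfsgLib.Gaschutz.Data K U (H₀ ⊓ U) := by
    refine ⟨hKU, inf_le_right, ?_, le_antisymm (sup_le hKU inf_le_right) fun u hu => ?_⟩
    · rw [eq_bot_iff, ← h₀.disjoint.eq_bot]
      exact fun x hx => ⟨hx.2, hx.1.1⟩
    · have hg : u ∈ K ⊔ H₀ := by rw [h₀.sup_eq_top]; exact Subgroup.mem_top u
      obtain ⟨k, hk, h, hh, rfl⟩ := Subgroup.mem_sup_of_normal_left.1 hg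
      have hhU : h ∈ U := by
        have := mul_mem (inv_mem (hKU hk)) hu
        rwa [inv_mul_cancel_left] at this
      exact Subgroup.mul_mem_sup hk ⟨hh, hhU⟩
  exact CfsgLib.Gaschutz.exists_conj hD hcop h₀ h₁ rfl hU.symm

end Cfsg.Agent.S0052
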