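import Cfsg.Statements.S0056
import Cfsg.Agent.Lib.Coprime.Commutator
-- import your own Cfsg.Agent.* helpers here

set_option autoImplicit false
open Cfsg

namespace Cfsg.Agent.S0056

/-- A coprime action on an abelian group that fixes all elements of prime order is trivial. -/
theorem result {G : Type*} [Group G] [Finite G] (A V : Subgroup G) [IsMulCommutative V]
    (hAV : A ≤ Subgroup.normalizer (V : Set G)) (hcop : (Nat.card A).Coprime (Nat.card V))
    (hΩ : ∀ v ∈ V, (orderOf v).Prime → ∀ a ∈ A, a * v = v * a) : A ≤ Subgroup.centralizer (V : Set G) := by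
  have h1 := CfsgLib.Coprime.commutator_inf_centralizer_eq_bot A V hAV hcop
  have hle : ⁅V, A⁆ ≤ V := CfsgLib.Coprime.commutator_le_of_normalizes hAV
  rw [Subgroup.le_centralizer_iff, ← Subgroup.commutator_eq_bot_iff_le_centralizer]
  by_contra hne
  have hc1 : Nat.card (⁅V, A⁆ : Subgroup G) ≠ 1 := fun h => hne (Subgroup.card_eq_one.1 h)
  obtain ⟨p, hp, hpd⟩ := Nat.exists_prime_and_dvd hc1
  have : Fact p.Prime := ⟨hp⟩
  obtain ⟨w, hw⟩ := exists_prime_orderOf_dvd_card' p hpd
  rw [← Subgroup.orderOf_coe] at hw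
  have hwC : (w : G) ∈ ⁅V, A⁆ ⊓ Subgroup.centralizer (A : Set G) :=
    ⟨w.2, fun a ha => hΩ w (hle w.2) (hw.symm ▸ hp) a ha⟩
  rw [h1, Subgroup.mem_bot] at hwC
  rw [hwC, orderOf_one] at hw
  exact hp.one_lt.ne hw

end Cfsg.Agent.S0056
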