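import Cfsg.Statements.S0059
import Cfsg.Agent.Lib.Coprime.Action
-- import your own Cfsg.Agent.* helpers here

set_option autoImplicit false
open Cfsg

namespace Cfsg.Agent.S0059

/-- Let a finite group act on a set on which a normal subgroup K of coprime order and index is transitive, with K or the quotient solvable. Then any complement H of K has a fixed point, and any two H-fixed points are interchanged by an element of K centralising H. -/
theorem result {G : Type*} [Group G] [Finite G] {X : Type*} [Nonempty X] [MulAction G X]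
    (K H : Subgroup G) [K.Normal] (hc : Subgroup.IsComplement' K H) (hcop : (Nat.card K).Coprime K.index)
    (hsolv : Group.IsSolvable K ∨ Group.IsSolvable (G ⧸ K)) (htrans : MulAction.IsPretransitive K X) :
    (∃ x : X, ∀ h ∈ H, h • x = x) ∧
    ∀ x y : X, (∀ h ∈ H, h • x = x) → (∀ h ∈ H, h • y = y) → ∃ k ∈ K ⊓ Subgroup.centralizer (H : Set G), k • x = y := by
  obtain ⟨ω⟩ := (inferInstance : Nonempty X)
  have hcard : Nat.card H = K.index := (hc.symm.index_eq_card).symm
  have hAK : H ≤ Subgroup.normalizer (K : Set G) := by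
    rw [Subgroup.normalizer_eq_top]; exact le_top
  have hcop' : (Nat.card H).Coprime (Nat.card K) := hcard ▸ hcop.symm
  have hsolv' : Group.IsSolvable H ∨ Group.IsSolvable K := by
    rcases hsolv with h | h
    · exact Or.inr h
    · refine Or.inl (Group.isSolvable_of_isSolvable_injective
        (f := (QuotientGroup.mk' K).comp H.subtype) ?_)
      rw [← MonoidHom.ker_eq_bot_iff, eq_bot_iff]
      intro x hx
      have hxK : (x : G) ∈ K := (QuotientGroup.eq_one_iff _).1 hx
      have h2 := hc.disjoint
      rw [disjoint_iff] at h2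
      exact Subtype.ext (Subgroup.mem_bot.1 (h2 ▸ (⟨hxK, x.2⟩ : (x : G) ∈ K ⊓ H)))
  have htr : ∀ x y : X, ∃ k ∈ K, k • x = y := fun x y =>
    let ⟨k, hk⟩ := htrans.exists_smul_eq x y
    ⟨k, k.2, hk⟩
  constructor
  · obtain ⟨k, -, hk⟩ := CfsgLib.Coprime.exists_fixed_point H K hAK hcop' hsolv' ω
      fun a _ => htr ω (a • ω)
    exact ⟨k • ω, hk⟩
  · intro x y hx hy
    obtain ⟨k, hk, rfl⟩ := htr x y
    exact CfsgLib.Coprime.exists_centralizing_smul_eq H K hAK hcop' hsolv' x hx hk hy

end Cfsg.Agent.S0059
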