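import Cfsg.Statements.S0060
import Cfsg.Agent.Lib.Solvable.Fitting
-- import your own Cfsg.Agent.* helpers here

set_option autoImplicit false
open Pointwise
open Cfsg

namespace Cfsg.Agent.S0060

/-- Brodkey's Theorem: in a finite group with abelian Sylow p-subgroups and no nontrivial normal p-subgroup, some conjugate of a Sylow p-subgroup meets it trivially. -/
theorem result {G : Type*} [Group G] [Finite G] (p : ℕ) [Fact p.Prime]
    (S : Sylow p G) (hS : IsMulCommutative S) (hOp : Cfsg.pCore p G = ⊥) :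
    ∃ g : G, (S : Subgroup G) ⊓ MulAut.conj g • (S : Subgroup G) = ⊥ := by
  classical
  open scoped Pointwise in
  obtain ⟨⟨P, Q⟩, -, hmin⟩ := (Set.univ : Set (Sylow p G × Sylow p G)).toFinite.exists_minimalFor
    (fun q => (q.1 : Subgroup G) ⊓ (q.2 : Subgroup G)) _ ⟨(S, S), Set.mem_univ _⟩
  set D : Subgroup G := (P : Subgroup G) ⊓ (Q : Subgroup G) with hD
  have hcommP : ∀ R : Sylow p G, ∀ x ∈ (R : Subgroup G), ∀ y ∈ (R : Subgroup G), x * y = y * x := by
    intro R x hx y hy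
    obtain ⟨g, rfl⟩ := MulAction.exists_smul_eq G S R
    obtain ⟨x', hx', rfl⟩ := hx
    obtain ⟨y', hy', rfl⟩ := hy
    simp only [MulDistribMulAction.toMonoidEnd_apply, MulDistribMulAction.toMonoidHom_apply]
    rw [← smul_mul', ← smul_mul']
    exact congrArg _ (congrArg Subtype.val (mul_comm' (⟨x', hx'⟩ : (S : Subgroup G)) ⟨y', hy'⟩))
  have hnorm : ∀ R : Sylow p G, D ≤ (R : Subgroup G) →
      (R : Subgroup G) ≤ Subgroup.normalizer (D : Set G) := by
    intro R hDR r hr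
    rw [Subgroup.mem_normalizer_iff]
    intro y
    constructor
    · intro hy
      rwa [hcommP R r hr y (hDR hy), mul_inv_cancel_right]
    · intro hy
      have h1 := hcommP R r⁻¹ (inv_mem hr) _ (hDR hy)
      have h2 : r⁻¹ * (r * y * r⁻¹) * r = r * y * r⁻¹ := by rw [h1, inv_mul_cancel_right]
      have h3 : r⁻¹ * (r * y * r⁻¹) * r = y := by group
      rwa [← h3, h2]
  have hPN := hnorm P inf_le_left
  have hQN := hnorm Q inf_le_right
  have hall : ∀ R : Sylow p G, D ≤ (R : Subgroup G) := by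
    intro R
    set N := Subgroup.normalizer (D : Set G) with hN
    have hpg : IsPGroup p ((R : Subgroup G).subgroupOf N) := R.isPGroup'.comap_subtype
    obtain ⟨T, hT⟩ := hpg.exists_le_sylow
    obtain ⟨n, hn⟩ := MulAction.exists_smul_eq N (Q.subtype hQN) T
    have hle : (R : Subgroup G) ⊓ N ≤ (((n : G) • Q : Sylow p G) : Subgroup G) := by
      intro x hx
      have hxT : (⟨x, hx.2⟩ : N) ∈ (T : Subgroup N) := hT hx.1
      rw [← hn] at hxT
      obtain ⟨y, hy, hyx⟩ := hxT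
      exact ⟨y, hy, congrArg Subtype.val hyx⟩
    have hPn : (((n : G) • P : Sylow p G) : Subgroup G) ≤ N := by
      rintro x ⟨y, hy, rfl⟩
      exact mul_mem (mul_mem n.2 (hPN hy)) (inv_mem n.2)
    have hD' : ∀ x : G, x ∈ (((n : G) • P : Sylow p G) : Subgroup G) →
        x ∈ (((n : G) • Q : Sylow p G) : Subgroup G) → x ∈ D := by
      rintro x ⟨y, hy, rfl⟩ ⟨z, hz, hzy⟩
      have hyz : z = y := (MulAut.conj (n : G)).injective hzy
      exact (Subgroup.mem_normalizer_iff.1 n.2 y).1 ⟨hy, hyz ▸ hz⟩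
    have hsub : (R : Subgroup G) ⊓ (((n : G) • P : Sylow p G) : Subgroup G) ≤ D :=
      fun x hx => hD' x hx.2 (hle ⟨hx.1, hPn hx.2⟩)
    exact (hmin (j := (R, (n : G) • P)) (Set.mem_univ _) hsub).trans inf_le_left
  have hbot : D = ⊥ := by
    let N₀ : Subgroup G := ⨅ R : Sylow p G, (R : Subgroup G)
    have hn : N₀.Normal := by
      refine ⟨fun x hx g => Subgroup.mem_iInf.2 fun R => ?_⟩
      obtain ⟨y, hy, hyx⟩ := (Subgroup.mem_iInf.1 hx (g⁻¹ • R) :)
      rw [← hyx]
      have : g * (MulAut.conj g⁻¹ y) * g⁻¹ = y := by simp [mul_assoc]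
      exact this.symm ▸ hy
    have hp : IsPGroup p N₀ := S.isPGroup'.to_le (iInf_le _ S)
    exact le_bot_iff.1 ((le_iInf hall).trans ((CfsgLib.Fitting.le_pCore hn hp).trans hOp.le))
  obtain ⟨a, ha⟩ := MulAction.exists_smul_eq G S P
  obtain ⟨b, hb⟩ := MulAction.exists_smul_eq G S Q
  refine ⟨a⁻¹ * b, le_bot_iff.1 ?_⟩
  rintro x ⟨hx, y, hy, hyx⟩
  have h1 : MulAut.conj a x ∈ (P : Subgroup G) := by rw [← ha]; exact ⟨x, hx, rfl⟩
  have h2 : MulAut.conj a x ∈ (Q : Subgroup G) := by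
    rw [← hb]
    refine ⟨y, hy, ?_⟩
    rw [← hyx]
    simp [mul_assoc]
  have h3 : MulAut.conj a x ∈ D := ⟨h1, h2⟩
  rw [hbot, Subgroup.mem_bot] at h3
  exact Subgroup.mem_bot.2 ((MulAut.conj a).injective (h3.trans (map_one _).symm))

end Cfsg.Agent.S0060
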