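import Cfsg.Statements.S0063
import Cfsg.Agent.Lib.Solvable.Fitting
-- import your own Cfsg.Agent.* helpers here

set_option autoImplicit false
open Cfsg

namespace Cfsg.Agent.S0063

/-- A finite group of prime-power order p ^ m with m > 1 is nilpotent of class at most m - 1. -/
theorem result {G : Type*} [Group G] [Finite G] (p m : ℕ) [Fact p.Prime]
    (hG : Nat.card G = p ^ m) (hm : 1 < m) : Group.nilpotencyClass G ≤ m - 1 := by
  induction m using Nat.strong_induction_on generalizing G with
  | _ m ih =>
    have hpg : IsPGroup p G := IsPGroup.of_card hG
    have : Group.IsNilpotent G := hpg.isNilpotent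
    by_cases hab : ∀ a b : G, a * b = b * a
    · let _ : CommGroup G := { (inferInstance : Group G) with mul_comm := hab }
      have := CommGroup.nilpotencyClass_le_one (G := G)
      omega
    · have : Nontrivial G := by
        by_contra h
        rw [not_nontrivial_iff_subsingleton] at h
        exact hab fun a b => Subsingleton.elim _ _
      obtain ⟨j, hj⟩ := IsPGroup.iff_card.1 (hpg.to_quotient (Subgroup.center G))
      have hjm : j < m := by
        have h1 : Nat.card (G ⧸ Subgroup.center G) < Nat.card G := by
          rw [Subgroup.card_eq_card_quotient_mul_card_subgroup (Subgroup.center G)]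
          exact lt_mul_of_one_lt_right Nat.card_pos
            ((Subgroup.one_lt_card_iff_ne_bot _).2 (ne_of_gt hpg.bot_lt_center))
        rw [hj, hG] at h1
        exact (Nat.pow_lt_pow_iff_right (Fact.out : p.Prime).one_lt).1 h1
      have hj2 : 1 < j := by
        by_contra hle
        apply hab
        have hcyc : IsCyclic (G ⧸ Subgroup.center G) := by
          rcases Nat.le_one_iff_eq_zero_or_eq_one.1 (not_lt.1 hle) with rfl | rfl
          · rw [pow_zero] at hj
            have := (Nat.card_eq_one_iff_unique.1 hj).1
            infer_instance
          · exact isCyclic_of_prime_card (p := p) (by rw [hj, pow_one])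
        have := isMulCommutative_of_isCyclic_quotient_center_self (G := G)
        exact fun a b => mul_comm' a b
      rw [Group.nilpotencyClass_eq_quotient_center_plus_one]
      have hz := ih j hjm hj hj2
      omega

end Cfsg.Agent.S0063
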