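import Cfsg.Statements.S0064
import Cfsg.Agent.Lib.Structure.IndexPowers
-- import your own Cfsg.Agent.* helpers here

set_option autoImplicit false
open Cfsg

namespace Cfsg.Agent.S0064

/-- A finite group is nilpotent exactly when each of its subgroups is subnormal. -/
theorem result {G : Type*} [Group G] [Finite G] :
    Group.IsNilpotent G ↔ ∀ H : Subgroup G, H.IsSubnormal := by
  refine ⟨fun h H => CfsgLib.IndexPowers.isSubnormal_of_normalizerCondition
    Group.normalizerCondition_of_isNilpotent H, fun h => ?_⟩
  refine ((Group.isNilpotent_of_finite_tfae (G := G)).out 0 2).2 ?_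
  intro M hM
  rcases (Subgroup.IsSubnormal.iff_eq_top_or_exists).1 (h M) with rfl | ⟨K, hK, -, hn⟩
  · exact inferInstance
  · rw [hM.2 K hK] at hn
    exact Subgroup.normalizer_eq_top_iff.1 (top_le_iff.1
      ((Subgroup.normal_subgroupOf_iff_le_normalizer le_top).1 hn))

end Cfsg.Agent.S0064
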