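import Cfsg.Statements.S0068
import Mathlib
-- import your own Cfsg.Agent.* helpers here

set_option autoImplicit false
open Cfsg

namespace Cfsg.Agent.S0068

/-- Frobenius complements of even order: if H complements a nontrivial normal subgroup K, each nonidentity element of H has trivial centraliser in K, and H has even order, then H contains a unique involution s, K is abelian, and s inverts every element of K. -/
theorem result {G : Type*} [Group G] [Finite G] (K H : Subgroup G) [K.Normal]
    (hc : Subgroup.IsComplement' K H) (hK : K ≠ ⊥) (hfpf : ∀ h ∈ H, h ≠ 1 → K ⊓ Subgroup.centralizer {h} = ⊥)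
    (heven : 2 ∣ Nat.card H) :
    (∃ s ∈ H, orderOf s = 2 ∧ (∀ t ∈ H, orderOf t = 2 → t = s) ∧ ∀ k ∈ K, s * k * s⁻¹ = k⁻¹) ∧ IsMulCommutative K := by
  have key : ∀ t ∈ H, orderOf t = 2 → ∀ k ∈ K, t * k * t⁻¹ = k⁻¹ := by
    intro t ht hto k hk
    have htt : t * t = 1 := by
      have := pow_orderOf_eq_one t
      rwa [hto, pow_two] at this
    have ht1 : t ≠ 1 := by
      intro e
      rw [e, orderOf_one] at hto
      omega
    have hti : t⁻¹ = t := inv_eq_of_mul_eq_one_right htt
    let φ : K → K := fun x => ⟨(x : G)⁻¹ * (t * x * t⁻¹),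
      mul_mem (inv_mem x.2) (Subgroup.Normal.conj_mem inferInstance _ x.2 t)⟩
    have hinj : Function.Injective φ := by
      intro x y e
      have e' : (x : G)⁻¹ * (t * x * t⁻¹) = (y : G)⁻¹ * (t * y * t⁻¹) := congrArg Subtype.val e
      have hmem : (y : G) * (x : G)⁻¹ ∈ K ⊓ Subgroup.centralizer {t} := by
        refine ⟨(mul_mem y.2 (inv_mem x.2) : (y : G) * (x : G)⁻¹ ∈ K), Subgroup.mem_centralizer_singleton_iff.2 ?_⟩
        have := congrArg (fun u => (y : G) * u * (t * x⁻¹)) e'
        simpa [mul_assoc] using this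
      rw [hfpf t ht ht1, Subgroup.mem_bot, mul_inv_eq_one] at hmem
      exact Subtype.ext hmem.symm
    obtain ⟨x, hx⟩ := (Finite.injective_iff_surjective.1 hinj) ⟨k, hk⟩
    have hx' : (x : G)⁻¹ * (t * x * t⁻¹) = k := congrArg Subtype.val hx
    rw [← hx', hti]
    simp only [mul_inv_rev, inv_inv, mul_assoc, hti, htt, mul_one]
  obtain ⟨⟨s, hs⟩, hso⟩ := exists_prime_orderOf_dvd_card' (G := H) 2 heven
  rw [← Subgroup.orderOf_coe] at hso
  refine ⟨⟨s, hs, hso, fun t ht hto => ?_, key s hs hso⟩, ⟨⟨fun a b => ?_⟩⟩⟩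
  · by_contra hne
    have hss : s⁻¹ = s := by
      have := pow_orderOf_eq_one s
      rw [hso, pow_two] at this
      exact inv_eq_of_mul_eq_one_right this
    have hts : t * s ≠ 1 := fun e => hne (by rw [mul_eq_one_iff_eq_inv, hss] at e; exact e)
    apply hK
    rw [← le_bot_iff, ← hfpf (t * s) (mul_mem ht hs) hts]
    refine fun k hk => ⟨hk, Subgroup.mem_centralizer_singleton_iff.2 ?_⟩
    have h1 := key s hs hso k hk
    have h2 := key t ht hto k⁻¹ (inv_mem hk)
    rw [inv_inv] at h2
    have h3 : t * s * k * (t * s)⁻¹ = k := by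
      conv_rhs => rw [← h2, ← h1]
      group
    exact ((mul_inv_eq_iff_eq_mul).1 h3).symm
  · apply Subtype.ext
    have h := key s hs hso ((a : G) * b) (mul_mem a.2 b.2)
    rw [← conj_mul, key s hs hso a a.2, key s hs hso b b.2, mul_inv_rev] at h
    have := congrArg (fun u => u⁻¹) h
    simp only [mul_inv_rev, inv_inv] at this
    simp only [Subgroup.coe_mul]
    exact this.symm

end Cfsg.Agent.S0068
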