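import Cfsg.Statements.S0072
import Cfsg.Agent.Lib.Transfer.NormalComplement

set_option autoImplicit false
open Cfsg

namespace Cfsg.Agent.S0072

open Subgroup
open scoped commutatorElement


/-- A finite group has a normal p-complement if and only if every p-local subgroup (normalizer of a nontrivial p-subgroup) has one. -/
theorem result {G : Type*} [Group G] [Finite G] (p : ℕ) [Fact p.Prime] : Cfsg.HasNormalPComplement p G ↔ ∀ Q : Subgroup G, IsPGroup p Q → Q ≠ ⊥ → Cfsg.HasNormalPComplement p (Subgroup.normalizer (Q : Set G)) := by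
  refine ⟨fun h Q _ _ => CfsgLib.Transfer.hasNormalPComplement_subgroup _ h, fun h => ?_⟩
  refine CfsgLib.Transfer.hasNormalPComplement_of_frobeniusCond fun Q hQ g hg hc => ?_
  by_cases hb : Q = ⊥
  · subst hb
    rw [mem_centralizer_iff]
    intro q hq
    simp only [SetLike.mem_coe, mem_bot] at hq
    simp [hq]
  have h1 := CfsgLib.Transfer.frobeniusCond_of_hasNormalPComplement (h Q hQ hb)
  have h2 := h1 (Q.subgroupOf _) (hQ.comap_subtype) ⟨g, hg⟩ (by
      rw [mem_set_normalizer_iff]
      intro n
      simpa [mem_subgroupOf] using mem_set_normalizer_iff.mp hg (n : G))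
    (by rwa [Subgroup.orderOf_mk])
  rw [mem_centralizer_iff] at h2 ⊢
  intro q hq
  exact congrArg Subtype.val (h2 ⟨q, le_normalizer hq⟩ (mem_subgroupOf.mpr hq))

end Cfsg.Agent.S0072
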