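import Cfsg.Statements.S0073
import Cfsg.Agent.Lib.Transfer.Hall

set_option autoImplicit false
open Cfsg

namespace Cfsg.Agent.S0073

open Subgroup
open scoped commutatorElement


/-- For a finite non-abelian simple group, either the cube of the least prime divisor of the order divides the order, or 12 does. -/
theorem result {G : Type*} [Group G] [Finite G] [IsSimpleGroup G] (hG : ∃ x y : G, x * y ≠ y * x) : (Nat.card G).minFac ^ 3 ∣ Nat.card G ∨ 12 ∣ Nat.card G := by
  obtain ⟨x, y, hxy⟩ := hG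
  have hcomm : ¬ ∀ a b : G, a * b = b * a := fun h => hxy (h x y)
  have h1 : Nat.card G ≠ 1 := fun h => hxy (by
    haveI := (Nat.card_eq_one_iff_unique.mp h).1
    exact Subsingleton.elim _ _)
  obtain ⟨p, hp⟩ : ∃ p, p = (Nat.card G).minFac := ⟨_, rfl⟩
  haveI hpf : Fact p.Prime := ⟨hp ▸ Nat.minFac_prime h1⟩
  have hpd : p ∣ Nat.card G := hp ▸ Nat.minFac_dvd _
  rw [← hp]
  let P : Sylow p G := default
  obtain ⟨k, hk⟩ := P.2.exists_card_eq
  by_cases h3 : 3 ≤ k
  · exact Or.inl ((pow_dvd_pow p h3).trans (hk ▸ card_subgroup_dvd_card _))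
  right
  have hnc : ¬ Cfsg.HasNormalPComplement p G := by
    intro h
    rcases CfsgLib.Transfer.simple_of_hasNormalPComplement h with h2 | h2
    · exact h2 hpd
    · haveI := h2.isNilpotent
      exact hcomm (IsSimpleGroup.comm_iff_isSolvable.mpr inferInstance)
  have hk0 : k ≠ 0 := by
    rintro rfl
    have h2 := P.dvd_card_of_dvd_card hpd
    rw [hk, pow_zero] at h2
    exact hpf.out.ne_one (Nat.dvd_one.mp h2)
  have hPc : IsMulCommutative (P : Subgroup G) := by
    obtain rfl | rfl : k = 1 ∨ k = 2 := by omega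
    · haveI := isCyclic_of_prime_card (hk.trans (pow_one p))
      exact IsCyclic.isMulCommutative
    · exact IsPGroup.isMulCommutative_of_card_eq_prime_sq hk
  obtain h | ⟨q, hq, hqp, hqG, j, hj, hmod⟩ := CfsgLib.Transfer.abelian_sylow_burnside P hPc
  · exact absurd h hnc
  have hpq : p < q := lt_of_le_of_ne (hp ▸ Nat.minFac_le_of_dvd hq.two_le hqG) (Ne.symm hqp)
  rw [hk] at hj hmod
  have hjk : j < k := (Nat.pow_lt_pow_iff_right hpf.out.one_lt).mp hj
  have hdvd : q ∣ p ^ (k - j) - 1 := by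
    have h2 := (Nat.modEq_iff_dvd' hj.le).mp hmod.symm
    have e : p ^ k - p ^ j = p ^ j * (p ^ (k - j) - 1) := by
      rw [Nat.mul_sub, mul_one, ← pow_add, Nat.add_sub_cancel' hjk.le]
    rw [e] at h2
    exact (hq.dvd_mul.mp h2).resolve_left fun h4 =>
      hqp ((Nat.prime_dvd_prime_iff_eq hq hpf.out).mp (hq.dvd_of_dvd_pow h4))
  have hp2 := hpf.out.two_le
  have hne : ¬ q ∣ p - 1 := fun h4 => by
    have := Nat.le_of_dvd (by omega) h4
    omega
  obtain ⟨hk2, hj0⟩ : k = 2 ∧ j = 0 := by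
    by_contra hcon
    exact hne (by rwa [show k - j = 1 by omega, pow_one] at hdvd)
  subst hk2 hj0
  have hq1 : q ∣ (p - 1) * (p + 1) := by
    have e : (p - 1) * (p + 1) = p ^ 2 - 1 := by
      rw [mul_comm]; simpa [sq] using (Nat.sq_sub_sq p 1).symm
    simpa [e] using hdvd
  have hq2 : q = p + 1 :=
    le_antisymm (Nat.le_of_dvd (by omega) ((hq.dvd_mul.mp hq1).resolve_left hne)) hpq
  have hpeq : p = 2 := by
    rcases hq.eq_two_or_odd' with e | e
    · omega
    · rcases hpf.out.eq_two_or_odd' with e' | e'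
      · exact e'
      · obtain ⟨a, ha⟩ := e
        obtain ⟨b, hb⟩ := e'
        omega
  subst hpeq
  have h4 : 4 ∣ Nat.card G := by
    simpa [hk] using card_subgroup_dvd_card (P : Subgroup G)
  have h3' : 3 ∣ Nat.card G := by rwa [hq2] at hqG
  exact Nat.Coprime.mul_dvd_of_dvd_of_dvd (show Nat.Coprime 4 3 by norm_num) h4 h3'

end Cfsg.Agent.S0073
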