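import Cfsg.Statements.S0075
import Cfsg.Agent.Lib.Transfer.NormalComplement

set_option autoImplicit false
open Cfsg

namespace Cfsg.Agent.S0075

open Subgroup
open scoped commutatorElement


/-- For an abelian Sylow p-subgroup T, its intersection with the subgroup generated by the elements of order prime to p is the commutator of T with its normalizer. -/
theorem result {G : Type*} [Group G] [Finite G] {p : ℕ} [Fact p.Prime] (T : Sylow p G) (hT : IsMulCommutative T) : (T : Subgroup G) ⊓ Cfsg.pResidual p G = ⁅(T : Subgroup G), Subgroup.normalizer (T : Set G)⁆ := by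
  refine le_antisymm ?_ (le_inf ?_ ?_)
  · refine (CfsgLib.Transfer.inf_pResidual_le_focal T).trans
      (CfsgLib.Transfer.focalSubgroup_le_of_controls fun x hx g hy => ?_)
    obtain ⟨n, hn, e⟩ := T.conj_eq_normalizer_conj_of_mem x g⁻¹ hx (by rw [inv_inv]; exact hy)
    exact ⟨n⁻¹, inv_mem hn, by simpa using e.symm⟩
  · rw [commutator_le]
    intro x hx n hn
    have h1 : n * x⁻¹ * n⁻¹ ∈ (T : Subgroup G) :=
      (mem_set_normalizer_iff.mp hn x⁻¹).mp (inv_mem hx)
    simpa [commutatorElement_def, mul_assoc] using mul_mem hx h1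
  · haveI := CfsgLib.Transfer.pResidual_normal (G := G) (p := p)
    rw [commutator_le]
    intro x hx n hn
    rw [← QuotientGroup.eq_one_iff]
    have hall : ∀ y : G, ∃ t ∈ (T : Subgroup G),
        (t : G ⧸ Cfsg.pResidual p G) = (y : G ⧸ Cfsg.pResidual p G) := by
      intro y
      have h1 : y ∈ (T : Subgroup G) ⊔ Cfsg.pResidual p G := by
        rw [CfsgLib.Transfer.sylow_sup_pResidual]; trivial
      rw [← SetLike.mem_coe, mul_normal] at h1
      obtain ⟨t, ht, k, hk, e⟩ := h1
      exact ⟨t, ht, QuotientGroup.eq.mpr (by simpa [← e] using hk)⟩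
    obtain ⟨t, ht, e⟩ := hall n
    have hcomm : x * t = t * x := congrArg Subtype.val (hT.is_comm.comm ⟨x, hx⟩ ⟨t, ht⟩)
    have : ((⁅x, n⁆ : G) : G ⧸ Cfsg.pResidual p G) = ((⁅x, t⁆ : G) : G ⧸ Cfsg.pResidual p G) := by
      simp [commutatorElement_def, e]
    rw [this, commutatorElement_eq_one_iff_mul_comm.mpr hcomm]
    rfl

end Cfsg.Agent.S0075
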