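import Cfsg.Statements.S0078
import Cfsg.Agent.Lib.Transfer.Tate

set_option autoImplicit false
open Cfsg

namespace Cfsg.Agent.S0078

open Subgroup
open scoped commutatorElement


/-- In a p-normal group, a Sylow p-subgroup P meets O^p(G) exactly where it meets O^p(V), for any subgroup V containing the normalizer of the centre of P. -/
theorem result {G : Type*} [Group G] [Finite G] {p : ℕ} [Fact p.Prime] (P : Sylow p G) (hn : ∀ Q : Sylow p G, (P : Subgroup G) ⊓ Subgroup.centralizer (P : Set G) ≤ (Q : Subgroup G) → (Q : Subgroup G) ⊓ Subgroup.centralizer (Q : Set G) = (P : Subgroup G) ⊓ Subgroup.centralizer (P : Set G)) (V : Subgroup G) (hV : Subgroup.normalizer (((P : Subgroup G) ⊓ Subgroup.centralizer (P : Set G) : Subgroup G) : Set G) ≤ V) : (P : Subgroup G) ⊓ Cfsg.pResidual p G = (P : Subgroup G) ⊓ (Cfsg.pResidual p V).map V.subtype := by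
  obtain ⟨Z, hZ⟩ : ∃ Z : Subgroup G, Z = (P : Subgroup G) ⊓ centralizer ((P : Subgroup G) : Set G) := ⟨_, rfl⟩
  replace hn : ∀ Q : Sylow p G, Z ≤ (Q : Subgroup G) →
      (Q : Subgroup G) ⊓ centralizer ((Q : Subgroup G) : Set G) = Z := by rw [hZ]; exact hn
  replace hV : normalizer (Z : Set G) ≤ V := by rw [hZ]; exact hV
  have hW : Cfsg.IsWeaklyClosed Z P := by
    refine ⟨hZ ▸ inf_le_left, fun g hg => ?_⟩
    have hgP : Z ≤ ((g⁻¹ • P : Sylow p G) : Subgroup G) := fun z hz =>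
      ⟨g * z * g⁻¹, hg ⟨z, hz, by simp⟩, by simp [mul_assoc]⟩
    have he := hn _ hgP
    refine eq_of_le_of_card_ge ?_ (card_map_of_injective (MulAut.conj g).injective).ge
    rintro _ ⟨z, hz, rfl⟩
    have hz' : z ∈ ((g⁻¹ • P : Sylow p G) : Subgroup G) ⊓
        centralizer (((g⁻¹ • P : Sylow p G) : Subgroup G) : Set G) := he.symm ▸ hz
    rw [hZ]
    refine ⟨hg ⟨z, hz, rfl⟩, mem_centralizer_iff.mpr fun x hx => ?_⟩
    have h2 := mem_centralizer_iff.mp hz'.2 (g⁻¹ * x * g) ⟨x, hx, by simp⟩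
    simp only [MulEquiv.toMonoidHom_eq_coe, MonoidHom.coe_coe, MulAut.conj_apply]
    calc x * (g * z * g⁻¹) = g * (g⁻¹ * x * g * z) * g⁻¹ := by group
      _ = g * z * g⁻¹ * x := by rw [h2]; group
  refine CfsgLib.Transfer.inf_pResidual_eq P V ((CfsgLib.Transfer.IsWeaklyClosed.normal hW).trans hV) ?_
  rw [CfsgLib.Transfer.commutator_inf_eq_of_controls P (CfsgLib.Transfer.IsWeaklyClosed.normal hW)
    fun x hx g hy => CfsgLib.Transfer.weaklyClosed_controls P Z (hZ ▸ inf_le_right) hW x hx g hy]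
  exact inf_le_left.trans (commutator_mono hV hV)

end Cfsg.Agent.S0078
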