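import Cfsg.Statements.S0079
import Cfsg.Agent.Lib.Transfer.Hall

set_option autoImplicit false
open Cfsg

namespace Cfsg.Agent.S0079

open Subgroup
open scoped commutatorElement


/-- A nilpotent Hall subgroup has a normal complement exactly when elements of it that are conjugate in the whole group are already conjugate inside it. -/
theorem result {G : Type*} [Group G] [Finite G] (H : Subgroup G) (hH : Group.IsNilpotent H) (hHall : Nat.Coprime (Nat.card H) H.index) : (∃ N : Subgroup G, N.Normal ∧ N.IsComplement' H) ↔ ∀ x ∈ H, ∀ y ∈ H, (∃ g : G, g * x * g⁻¹ = y) → ∃ h ∈ H, h * x * h⁻¹ = y := by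
  constructor
  · rintro ⟨N, hN, hc⟩ x hx y hy ⟨g, rfl⟩
    have hg : g ∈ N ⊔ H := by rw [hc.sup_eq_top]; trivial
    rw [← SetLike.mem_coe, normal_mul] at hg
    obtain ⟨n, hn, h, hh, rfl⟩ := hg
    have hz : h * x * h⁻¹ ∈ H := mul_mem (mul_mem hh hx) (inv_mem hh)
    refine ⟨h, hh, ?_⟩
    have hNH : n * (h * x * h⁻¹) * n⁻¹ * (h * x * h⁻¹)⁻¹ ∈ N ⊓ H := by
      refine mem_inf.mpr ⟨?_, H.mul_mem (by simpa [mul_assoc] using hy) (H.inv_mem hz)⟩
      have hn' : n ∈ N := hn
      have := mul_mem hn' (hN.conj_mem n⁻¹ (inv_mem hn') (h * x * h⁻¹))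
      simpa [mul_assoc] using this
    rw [disjoint_iff.mp hc.disjoint, mem_bot, mul_inv_eq_one] at hNH
    calc h * x * h⁻¹ = n * (h * x * h⁻¹) * n⁻¹ := hNH.symm
      _ = n * h * x * (n * h)⁻¹ := by group
  · intro hfus
    refine CfsgLib.Transfer.exists_normal_complement_of_forall H hHall fun p hp hpd => ?_
    haveI := Fact.mk hp
    haveI := hH
    let Q : Sylow p H := default
    have hQi : ¬ p ∣ ((Q : Subgroup H).map H.subtype).index := by
      rw [index_map_subtype]
      exact Nat.Prime.not_dvd_mul hp Q.not_dvd_index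
        fun hd => hp.ne_one (Nat.eq_one_of_dvd_coprimes hHall hpd hd)
    refine CfsgLib.Transfer.hasNormalPComplement_of_frobeniusCond
      (CfsgLib.Transfer.frobeniusCond_of_controls ((Q.2.map H.subtype).toSylow hQi) ?_)
    rintro _ ⟨x, hx, rfl⟩ g ⟨y, hy, e⟩
    obtain ⟨h, hh, e'⟩ := hfus x x.2 y y.2 ⟨g, e.symm⟩
    have h1 : (⟨h, hh⟩ : H) ∈ (Q : Subgroup H) ⊔ centralizer ((Q : Subgroup H) : Set H) := by
      rw [CfsgLib.Transfer.sylow_sup_centralizer_eq_top_of_isNilpotent Q]; trivial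
    haveI : (Q : Subgroup H).Normal := by
      have hn := (Group.isNilpotent_of_finite_tfae (G := H)).out 0 3
      exact hn.mp hH p inferInstance Q
    rw [← SetLike.mem_coe, normal_mul] at h1
    obtain ⟨u, hu, c, hc, e''⟩ := h1
    refine ⟨u, ⟨u, hu, rfl⟩, ?_⟩
    have hcx : (x : G) * c = c * x := congrArg Subtype.val (mem_centralizer_iff.mp hc x hx)
    have e3 : h = (u : G) * c := (congrArg Subtype.val e'').symm
    change (u : G) * x * (u : G)⁻¹ = g * x * g⁻¹
    have e4 : (y : G) = g * x * g⁻¹ := e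
    rw [← e4, ← e', e3]
    calc (u : G) * x * (u : G)⁻¹ = u * (x * c) * (c : G)⁻¹ * (u : G)⁻¹ := by group
      _ = u * c * x * ((u : G) * c)⁻¹ := by rw [hcx]; group

end Cfsg.Agent.S0079
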