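import Cfsg.Statements.S0082
import Cfsg.Agent.Lib.Transfer.Tate
import Cfsg.Agent.Lib.PGroup.Frattini

set_option autoImplicit false
open Cfsg

namespace Cfsg.Agent.S0082

open Subgroup
open scoped commutatorElement


/-- With a cyclic Sylow p-subgroup, either there is a normal p-complement or the elements of order prime to p generate the whole group. -/
theorem result {G : Type*} [Group G] [Finite G] {p : ℕ} [Fact p.Prime] (P : Sylow p G) (hP : IsCyclic P) : Cfsg.HasNormalPComplement p G ∨ Cfsg.pResidual p G = ⊤ := by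
  by_cases h : Cfsg.pResidual p G = ⊤
  · exact Or.inr h
  left
  refine CfsgLib.Transfer.hasNormalPComplement_of_inf_le_frattini P ?_
  obtain ⟨L, hL⟩ : ∃ L : Subgroup (P : Subgroup G), L = (Cfsg.pResidual p G).subgroupOf (P : Subgroup G) :=
    ⟨_, rfl⟩
  have hL1 : L ≠ ⊤ := by
    intro e
    rw [hL, subgroupOf_eq_top] at e
    exact h (CfsgLib.Transfer.eq_top_of_pResidual_le le_rfl
      fun hd => P.not_dvd_index (hd.trans (index_dvd_of_le e)))
  have hLF : L ≤ frattini (P : Subgroup G) := by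
    obtain ⟨g, hg⟩ := hP.exists_generator
    intro x hx
    obtain ⟨i, rfl⟩ := mem_zpowers_iff.mp (hg x)
    have hdvd : (p : ℤ) ∣ i := by
      by_contra hnd
      apply hL1
      refine top_le_iff.mp fun y _ => ?_
      obtain ⟨k, hk⟩ := P.2 g
      obtain ⟨a, b, hab⟩ : IsCoprime i ((p : ℤ) ^ k) :=
        (((Nat.prime_iff_prime_int.mp Fact.out).coprime_iff_not_dvd).mpr hnd).symm.pow_right
      have hg' : g = (g ^ i) ^ a := by
        have h2 : g ^ (a * i + b * (p : ℤ) ^ k) = g := by rw [hab, zpow_one]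
        rw [zpow_add, mul_comm b, zpow_mul g ((p : ℤ) ^ k), ← Nat.cast_pow, zpow_natCast, hk,
          one_zpow, mul_one, mul_comm a, zpow_mul] at h2
        exact h2.symm
      obtain ⟨m, rfl⟩ := mem_zpowers_iff.mp (hg y)
      rw [hg']
      exact zpow_mem (zpow_mem hx a) m
    obtain ⟨c, rfl⟩ := hdvd
    rw [zpow_mul, zpow_natCast]
    exact zpow_mem (CfsgLib.PGroup.pow_mem_frattini P.2 g) c
  rintro x ⟨hxP, hxK⟩
  exact ⟨⟨x, hxP⟩, hLF (hL ▸ mem_subgroupOf.mpr hxK), rfl⟩

end Cfsg.Agent.S0082
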