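import Cfsg.Statements.S0083
import Cfsg.Agent.Lib.Transfer.NormalComplement

set_option autoImplicit false
open Cfsg

namespace Cfsg.Agent.S0083

open Subgroup
open scoped commutatorElement


/-- For an abelian Sylow p-subgroup P, a normal p-complement exists exactly when the normalizer of P is an internal direct product of P with some subgroup. -/
theorem result {G : Type*} [Group G] [Finite G] {p : ℕ} [Fact p.Prime] (P : Sylow p G) (hP : IsMulCommutative P) : Cfsg.HasNormalPComplement p G ↔ ∃ Q : Subgroup G, Q ≤ Subgroup.centralizer (P : Set G) ∧ Q ⊓ (P : Subgroup G) = ⊥ ∧ Q ⊔ (P : Subgroup G) = Subgroup.normalizer (P : Set G) := by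
  constructor
  · intro h
    haveI := CfsgLib.Transfer.pResidual_normal (G := G) (p := p)
    obtain ⟨N, hN⟩ : ∃ N : Subgroup G, N = normalizer ((P : Subgroup G) : Set G) := ⟨_, rfl⟩
    refine ⟨Cfsg.pResidual p G ⊓ N, ?_, ?_, ?_⟩
    · rintro x ⟨hx, hxN⟩
      exact CfsgLib.Transfer.frobeniusCond_of_hasNormalPComplement h _ P.2 x (hN ▸ hxN)
        (CfsgLib.Transfer.coprime_orderOf_of_not_dvd
          (CfsgLib.Transfer.hasNormalPComplement_iff.mp h) hx)
    · rw [inf_right_comm, inf_comm (Cfsg.pResidual p G),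
        (CfsgLib.Transfer.hasNormalPComplement_iff_inf_eq_bot P).mp h, bot_inf_eq]
    · refine le_antisymm (sup_le (hN ▸ inf_le_right) le_normalizer) fun x hx => ?_
      have h1 : x ∈ Cfsg.pResidual p G ⊔ (P : Subgroup G) := by
        rw [sup_comm, CfsgLib.Transfer.sylow_sup_pResidual]; trivial
      rw [← SetLike.mem_coe, normal_mul] at h1
      obtain ⟨m, hm, a, ha, rfl⟩ := h1
      refine mul_mem_sup ⟨hm, hN ▸ ?_⟩ ha
      have h2 := mul_mem hx (inv_mem (le_normalizer (H := (P : Subgroup G)) ha))
      simpa using h2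
  · rintro ⟨Q, hQ, -, hsup⟩
    refine CfsgLib.Transfer.hasNormalPComplement_of_normalizer_le P ?_
    exact le_of_eq_of_le hsup.symm (sup_le hQ (le_centralizer _))

end Cfsg.Agent.S0083
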