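import Cfsg.Statements.S0084
import Cfsg.Agent.Lib.Transfer.Hall

set_option autoImplicit false
open Cfsg

namespace Cfsg.Agent.S0084

open Subgroup
open scoped commutatorElement


/-- A group whose Sylow 2-subgroups are Klein four-groups and whose order is prime to 3 has a normal 2-complement. -/
theorem result {G : Type*} [Group G] [Finite G] (T : Sylow 2 G) (hT : IsKleinFour T) (h3 : ¬ 3 ∣ Nat.card G) : Cfsg.HasNormalPComplement 2 G := by
  obtain h | ⟨q, hq, hqp, hqG, j, hj, hmod⟩ :=
    CfsgLib.Transfer.abelian_sylow_burnside T hT.isMulCommutative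
  · exact h
  exfalso
  rw [hT.card_four] at hj hmod
  have hj2 : j < 2 := (Nat.pow_lt_pow_iff_right (le_refl 2)).mp (by simpa using hj)
  have h2 := (Nat.modEq_iff_dvd' hj.le).mp hmod.symm
  interval_cases j
  · norm_num at h2
    exact h3 ((Nat.prime_dvd_prime_iff_eq hq Nat.prime_three).mp h2 ▸ hqG)
  · norm_num at h2
    exact hqp ((Nat.prime_dvd_prime_iff_eq hq Nat.prime_two).mp h2)

end Cfsg.Agent.S0084
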