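import Cfsg.Statements.S0085
import Cfsg.Agent.Lib.Transfer.Hall

set_option autoImplicit false
open Cfsg

namespace Cfsg.Agent.S0085

open Subgroup
open scoped commutatorElement


/-- A group whose Sylow 2-subgroups are elementary abelian of order 8 and whose order is prime to 3 and to 7 has a normal 2-complement. -/
theorem result {G : Type*} [Group G] [Finite G] (T : Sylow 2 G) (h8 : Nat.card T = 8) (he : ∀ x : T, x * x = 1) (h3 : ¬ 3 ∣ Nat.card G) (h7 : ¬ 7 ∣ Nat.card G) : Cfsg.HasNormalPComplement 2 G := by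
  have hTc : IsMulCommutative (T : Subgroup G) := ⟨⟨fun a b => by
    have ha : a⁻¹ = a := inv_eq_of_mul_eq_one_right (he a)
    have hb : b⁻¹ = b := inv_eq_of_mul_eq_one_right (he b)
    have hab : (a * b)⁻¹ = a * b := inv_eq_of_mul_eq_one_right (he _)
    calc a * b = (a * b)⁻¹ := hab.symm
      _ = b * a := by rw [mul_inv_rev, ha, hb]⟩⟩
  obtain h | ⟨q, hq, hqp, hqG, j, hj, hmod⟩ := CfsgLib.Transfer.abelian_sylow_burnside T hTc
  · exact h
  exfalso
  rw [h8] at hj hmod
  have hj3 : j < 3 := (Nat.pow_lt_pow_iff_right (le_refl 2)).mp (by simpa using hj)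
  have h2 := (Nat.modEq_iff_dvd' hj.le).mp hmod.symm
  interval_cases j
  · norm_num at h2
    exact h7 ((Nat.prime_dvd_prime_iff_eq hq (by norm_num)).mp h2 ▸ hqG)
  · norm_num at h2
    rcases hq.dvd_mul.mp (show q ∣ 2 * 3 by simpa using h2) with h4 | h4
    · exact hqp ((Nat.prime_dvd_prime_iff_eq hq Nat.prime_two).mp h4)
    · exact h3 ((Nat.prime_dvd_prime_iff_eq hq Nat.prime_three).mp h4 ▸ hqG)
  · norm_num at h2
    exact hqp ((Nat.prime_dvd_prime_iff_eq hq Nat.prime_two).mp
      (hq.dvd_of_dvd_pow (show q ∣ 2 ^ 2 by simpa using h2)))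

end Cfsg.Agent.S0085
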