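import Cfsg.Statements.S0087
import Cfsg.Agent.Lib.Transfer.Hall

set_option autoImplicit false
open Cfsg

namespace Cfsg.Agent.S0087

open Subgroup
open scoped commutatorElement


/-- A Hall subgroup that is central in its normalizer has a normal complement. -/
theorem result {G : Type*} [Group G] [Finite G] (H : Subgroup G) (hHall : Nat.Coprime (Nat.card H) H.index) (h : Subgroup.normalizer (H : Set G) ≤ Subgroup.centralizer (H : Set G)) : ∃ N : Subgroup G, N.Normal ∧ N.IsComplement' H := by
  haveI hHc : IsMulCommutative H := ⟨⟨fun a b =>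
    Subtype.ext (mem_centralizer_iff.mp (h (le_normalizer b.2)) a a.2)⟩⟩
  refine CfsgLib.Transfer.exists_normal_complement_of_forall H hHall fun p hp hpd => ?_
  haveI := Fact.mk hp
  let Q : Sylow p H := default
  have hQi : ¬ p ∣ ((Q : Subgroup H).map H.subtype).index := by
    rw [index_map_subtype]
    exact Nat.Prime.not_dvd_mul hp Q.not_dvd_index
      fun hd => hp.ne_one (Nat.eq_one_of_dvd_coprimes hHall hpd hd)
  let P : Sylow p G := (Q.2.map H.subtype).toSylow hQi
  have hPH : (P : Subgroup G) ≤ H := map_subtype_le _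
  refine CfsgLib.Transfer.hasNormalPComplement_of_normalizer_le P fun g hg => ?_
  obtain ⟨C, hC⟩ : ∃ C : Subgroup G, C = centralizer ((P : Subgroup G) : Set G) := ⟨_, rfl⟩
  have hHC : H ≤ C := hC ▸ (le_centralizer H).trans (centralizer_le hPH)
  have hgH : ∀ x ∈ H, g * x * g⁻¹ ∈ C := by
    intro x hx
    rw [hC, mem_centralizer_iff]
    intro y hy
    have h1 : g⁻¹ * y * g ∈ (P : Subgroup G) :=
      (mem_set_normalizer_iff.mp hg _).mpr (by simpa [mul_assoc] using hy)
    have h2 : x * (g⁻¹ * y * g) = g⁻¹ * y * g * x :=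
      congrArg Subtype.val (hHc.is_comm.comm ⟨x, hx⟩ ⟨_, hPH h1⟩)
    calc y * (g * x * g⁻¹) = g * (g⁻¹ * y * g * x) * g⁻¹ := by group
      _ = g * x * g⁻¹ * y := by rw [← h2]; group
  obtain ⟨H', hH'⟩ : ∃ H' : Subgroup G, H' = H.map (MulAut.conj g).toMonoidHom := ⟨_, rfl⟩
  have hH'C : H' ≤ C := by
    rw [hH']
    rintro _ ⟨x, hx, rfl⟩
    exact hgH x hx
  have hcard : Nat.card H' = Nat.card H := by
    rw [hH']; exact card_map_of_injective (MulAut.conj g).injective
  have hH'c : IsMulCommutative H' := by rw [hH']; infer_instance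
  have e1 : Nat.card (H'.subgroupOf C) = Nat.card H' := Nat.card_congr (subgroupOfEquivOfLe hH'C).toEquiv
  have e2 : Nat.card (H.subgroupOf C) = Nat.card H := Nat.card_congr (subgroupOfEquivOfLe hHC).toEquiv
  have hHall' : Nat.Coprime (Nat.card (H'.subgroupOf C)) (H'.subgroupOf C).index := by
    rw [e1, hcard]
    refine Nat.Coprime.coprime_dvd_right (relIndex_dvd_index_of_le hH'C : (H'.subgroupOf C).index ∣ _) ?_
    have e : H'.index = H.index :=
      Nat.eq_of_mul_eq_mul_left (Nat.card_pos (α := H'))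
        (by rw [card_mul_index, hcard, card_mul_index])
    rwa [e]
  obtain ⟨c, hc⟩ := CfsgLib.Transfer.abelian_hall_conj (H'.subgroupOf C) (H.subgroupOf C)
    inferInstance inferInstance (by rw [e1, e2, hcard]) hHall'
  have hmap : H.map (MulAut.conj ((c : G) * g)).toMonoidHom = H := by
    refine eq_of_le_of_card_ge ?_ (card_map_of_injective (MulAut.conj _).injective).ge
    rintro _ ⟨x, hx, rfl⟩
    have h3 : c * ⟨g * x * g⁻¹, hgH x hx⟩ * c⁻¹ ∈ H.subgroupOf C :=
      hc ▸ ⟨⟨g * x * g⁻¹, hgH x hx⟩, mem_subgroupOf.mpr (hH' ▸ ⟨x, hx, rfl⟩), rfl⟩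
    simpa [mem_subgroupOf, mul_assoc] using h3
  have hcg : (c : G) * g ∈ normalizer (H : Set G) := by
    rw [mem_set_normalizer_iff]
    intro z
    constructor
    · exact fun hz => hmap.le ⟨z, hz, by simp [mul_assoc]⟩
    · intro hz
      obtain ⟨w, hw, e⟩ := hmap.ge hz
      have : w = z := by simpa [mul_assoc] using e
      exact this ▸ hw
  have h4 : (c : G) * g ∈ C := hC.ge (centralizer_le hPH (h hcg))
  exact hC.le (by simpa using mul_mem (inv_mem c.2) h4)

end Cfsg.Agent.S0087
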