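import Cfsg.Statements.S0089
import Cfsg.Agent.Lib.Transfer.Central

set_option autoImplicit false
open Cfsg

namespace Cfsg.Agent.S0089

open Subgroup
open scoped commutatorElement


/-- When all Sylow subgroups are abelian, the derived subgroup meets the centre trivially. -/
theorem result {G : Type*} [Group G] [Finite G] (h : ∀ p : ℕ, p.Prime → ∀ P : Sylow p G, IsMulCommutative P) : commutator G ⊓ Subgroup.center G = ⊥ := by
  rw [eq_bot_iff]
  rintro x ⟨hx1, hx2⟩
  rw [mem_bot]
  by_contra hne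
  obtain ⟨p, hp, hpd⟩ := Nat.exists_prime_and_dvd (mt orderOf_eq_one_iff.mp hne)
  haveI := Fact.mk hp
  obtain ⟨y, hy⟩ : ∃ y, y = x ^ (orderOf x / p) := ⟨_, rfl⟩
  have hoy : orderOf y = p := by rw [hy]; exact orderOf_pow_orderOf_div (orderOf_pos x).ne' hpd
  have hyp : IsPGroup p (zpowers y) := IsPGroup.of_card (n := 1) (by rw [Nat.card_zpowers, hoy, pow_one])
  obtain ⟨P, hP⟩ := hyp.exists_le_sylow
  have := CfsgLib.Transfer.eq_one_of_central_commutator (P : Subgroup G) (h p hp P)
    P.card_coprime_index (hP (mem_zpowers y)) (hy ▸ pow_mem hx1 _) (hy ▸ pow_mem hx2 _)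
  rw [this, orderOf_one] at hoy
  exact hp.ne_one hoy.symm

end Cfsg.Agent.S0089
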