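import Cfsg.Statements.S0091
import Cfsg.Agent.Lib.Transfer.NormalComplement

set_option autoImplicit false
open Cfsg

namespace Cfsg.Agent.S0091

open Subgroup
open scoped commutatorElement


/-- If a nontrivial Sylow p-subgroup controls its own fusion then it is not contained in the derived subgroup. -/
theorem result {G : Type*} [Group G] [Finite G] {p : ℕ} [Fact p.Prime] (P : Sylow p G) (hp : p ∣ Nat.card G) (h : ∀ x ∈ P, ∀ y ∈ P, (∃ g : G, g * x * g⁻¹ = y) → ∃ z ∈ P, z * x * z⁻¹ = y) : ¬ (P : Subgroup G) ≤ commutator G := by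
  intro hle
  have hne : (P : Subgroup G) ≠ ⊥ := by
    intro hb
    have h1 := P.dvd_card_of_dvd_card hp
    rw [hb, card_bot] at h1
    exact (Fact.out : p.Prime).ne_one (Nat.dvd_one.mp h1)
  refine (CfsgLib.Transfer.focal_lt_of_controls P hne fun x hx g hy => h x hx _ hy ⟨g, rfl⟩).not_ge ?_
  rw [← commutator_inf_eq_focalSubgroup P]
  exact le_inf hle le_rfl

end Cfsg.Agent.S0091
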