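import Cfsg.Statements.S0092
import Cfsg.Agent.S0075
import Cfsg.Agent.Lib.Transfer.NormalComplement
import Cfsg.Agent.Lib.Coprime.SchurZassenhaus
import Cfsg.Agent.Lib.Coprime.Commutator

set_option autoImplicit false
open Cfsg

namespace Cfsg.Agent.S0092

open Subgroup
open scoped commutatorElement


/-- If the Sylow p-subgroups of O^p(G) are abelian then G splits over O^p(G). -/
theorem result {G : Type*} [Group G] [Finite G] {p : ℕ} [Fact p.Prime] (h : ∀ Q : Sylow p (Cfsg.pResidual p G), IsMulCommutative Q) : ∃ K : Subgroup G, K.IsComplement' (Cfsg.pResidual p G) := by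
  obtain ⟨K, hK⟩ : ∃ K : Subgroup G, K = Cfsg.pResidual p G := ⟨_, rfl⟩
  rw [← hK]
  haveI hKn : K.Normal := hK ▸ CfsgLib.Transfer.pResidual_normal
  have habel : ∀ Q : Sylow p K, IsMulCommutative Q := by subst hK; exact h
  let T₀ : Sylow p K := default
  haveI hT₀ : IsMulCommutative (T₀ : Subgroup K) := habel T₀
  have hKK : Cfsg.pResidual p K = ⊤ := by
    refine top_le_iff.mp fun x _ => ?_
    have hx : (x : G) ∈ Cfsg.pResidual p G := hK ▸ x.2
    have hle : Cfsg.pResidual p G ≤ (Cfsg.pResidual p K).map K.subtype :=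
      CfsgLib.Transfer.pResidual_le_iff.mpr fun y hy =>
        ⟨⟨y, hK ▸ CfsgLib.Transfer.mem_pResidual hy⟩,
          CfsgLib.Transfer.mem_pResidual (by rwa [Subgroup.orderOf_mk]), rfl⟩
    obtain ⟨z, hz, e⟩ := hle hx
    exact (Subtype.ext e : z = x) ▸ hz
  have hT₀eq : (T₀ : Subgroup K) = ⁅(T₀ : Subgroup K), normalizer ((T₀ : Subgroup K) : Set K)⁆ := by
    have h1 := Cfsg.Agent.S0075.result T₀ hT₀
    rw [hKK, inf_top_eq] at h1
    exact h1
  obtain ⟨T, hT⟩ : ∃ T : Subgroup G, T = (T₀ : Subgroup K).map K.subtype := ⟨_, rfl⟩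
  haveI hTc : IsMulCommutative T := by rw [hT]; infer_instance
  have hTK : T ≤ K := hT ▸ map_subtype_le _
  obtain ⟨M, hM⟩ : ∃ M : Subgroup G, M = normalizer (T : Set G) ⊓ K := ⟨_, rfl⟩
  have hTM : T ≤ M := hM ▸ le_inf le_normalizer hTK
  haveI hTMn : (T.subgroupOf M).Normal := by
    refine ⟨fun a ha m => ?_⟩
    have hm : (m : G) ∈ normalizer (T : Set G) := (hM.le m.2).1
    rw [mem_subgroupOf] at ha ⊢
    exact (mem_set_normalizer_iff.mp hm _).mp ha
  have hTsub : Nat.card (T.subgroupOf M) = Nat.card (T₀ : Subgroup K) := by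
    rw [Nat.card_congr (subgroupOfEquivOfLe hTM).toEquiv, hT, card_map_of_injective K.subtype_injective]
  have hidx : ¬ p ∣ (T.subgroupOf M).index := by
    have h1 : (T.subgroupOf M).index ∣ T.relIndex K :=
      dvd_of_mul_right_eq _ (relIndex_mul_relIndex T M K hTM (hM ▸ inf_le_right))
    have h2 : T.relIndex K = (T₀ : Subgroup K).index := by
      rw [relIndex, subgroupOf, hT, comap_map_eq_self_of_injective K.subtype_injective]
    exact fun hd => T₀.not_dvd_index (h2 ▸ hd.trans h1)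
  have hcop : (Nat.card (T.subgroupOf M)).Coprime (T.subgroupOf M).index := by
    obtain ⟨k, hk⟩ := T₀.2.exists_card_eq
    rw [hTsub, hk]
    exact Nat.Coprime.pow_left _ ((Nat.Prime.coprime_iff_not_dvd Fact.out).mpr hidx)
  obtain ⟨Q₀, hQ₀⟩ := exists_right_complement'_of_coprime hcop
  have hQ₀card : Nat.card Q₀ = (T.subgroupOf M).index :=
    CfsgLib.Coprime.card_eq_index_of_isComplement' hQ₀
  obtain ⟨Q, hQ⟩ : ∃ Q : Subgroup G, Q = Q₀.map M.subtype := ⟨_, rfl⟩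
  have hQM : Q ≤ M := hQ ▸ map_subtype_le _
  have hQT : Q ≤ normalizer (T : Set G) := hQM.trans (hM ▸ inf_le_left)
  have hdec : ∀ m ∈ M, ∃ t ∈ T, ∃ q ∈ Q, m = t * q := by
    intro m hm
    have h1 : (⟨m, hm⟩ : M) ∈ T.subgroupOf M ⊔ Q₀ := by rw [hQ₀.sup_eq_top]; trivial
    rw [← SetLike.mem_coe, normal_mul] at h1
    obtain ⟨t, ht, q, hq, e⟩ := h1
    exact ⟨t, mem_subgroupOf.mp ht, q, hQ ▸ mem_map_of_mem _ hq, (congrArg Subtype.val e).symm⟩
  have hTTQ : T ≤ ⁅T, Q⁆ := by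
    have h1 : T ≤ ⁅T, M⁆ := by
      intro x hx
      rw [hT] at hx
      obtain ⟨x₀, hx₀, rfl⟩ := hx
      rw [SetLike.mem_coe, hT₀eq] at hx₀
      have := mem_map_of_mem K.subtype hx₀
      rw [map_commutator, ← hT] at this
      refine commutator_mono le_rfl ?_ this
      rintro _ ⟨n, hn, rfl⟩
      rw [hM]
      refine mem_inf.mpr ⟨?_, n.2⟩
      rw [mem_set_normalizer_iff]
      intro z
      rw [hT]
      constructor
      · rintro ⟨w, hw, rfl⟩
        exact ⟨n * w * n⁻¹, (mem_set_normalizer_iff.mp hn w).mp hw, by simp⟩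
      · rintro ⟨w, hw, e⟩
        refine ⟨n⁻¹ * w * n, (mem_set_normalizer_iff.mp hn _).mpr (by simpa [mul_assoc] using hw), ?_⟩
        simp only [coe_subtype] at e
        simp [e, mul_assoc]
    refine h1.trans (commutator_le.mpr fun t ht m hm => ?_)
    obtain ⟨t', ht', q, hq, rfl⟩ := hdec m hm
    have h2 : q * t⁻¹ * q⁻¹ ∈ T := (mem_set_normalizer_iff.mp (hQT hq) _).mp (inv_mem ht)
    have hc : ∀ a ∈ T, ∀ b ∈ T, a * b = b * a := fun a ha b hb =>
      congrArg Subtype.val (hTc.is_comm.comm ⟨a, ha⟩ ⟨b, hb⟩)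
    have e : ⁅t, t' * q⁆ = ⁅t, q⁆ := by
      have h3 : ⁅t, q⁆ ∈ T := by
        simpa [commutatorElement_def, mul_assoc] using mul_mem ht h2
      calc ⁅t, t' * q⁆ = t * t' * (t⁻¹ * ⁅t, q⁆ * t'⁻¹) := by simp [commutatorElement_def, mul_assoc]
        _ = t' * ⁅t, q⁆ * t'⁻¹ := by rw [hc t ht t' ht']; group
        _ = ⁅t, q⁆ := by rw [hc t' ht' _ h3]; group
    rw [e]
    exact commutator_mem_commutator ht hq
  have hTQcop : (Nat.card Q).Coprime (Nat.card T) := by
    rw [hQ, card_map_of_injective M.subtype_injective, hQ₀card,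
      ← Nat.card_congr (subgroupOfEquivOfLe hTM).toEquiv]
    exact hcop.symm
  have hfix := CfsgLib.Coprime.commutator_inf_centralizer_eq_bot Q T hQT hTQcop
  obtain ⟨X, hX⟩ : ∃ X : Subgroup G, X = normalizer (T : Set G) ⊓ normalizer (Q : Set G) := ⟨_, rfl⟩
  have hXT : ∀ x ∈ X, x ∈ T → x = 1 := by
    intro x hx hxT
    rw [← mem_bot, ← hfix]
    refine mem_inf.mpr ⟨hTTQ hxT, mem_centralizer_iff.mpr fun q hq => ?_⟩
    have h1 : x * q * x⁻¹ * q⁻¹ ∈ T ⊓ Q := by
      refine mem_inf.mpr ⟨?_, Q.mul_mem ((mem_set_normalizer_iff.mp (hX.le hx).2 q).mp hq) (Q.inv_mem hq)⟩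
      have := T.mul_mem hxT ((mem_set_normalizer_iff.mp (hQT hq) _).mp (T.inv_mem hxT))
      simpa [mul_assoc] using this
    rw [inf_eq_bot_of_coprime hTQcop.symm, mem_bot, mul_inv_eq_one, mul_inv_eq_iff_eq_mul] at h1
    exact h1.symm
  have hGX : ∀ g : G, ∃ k ∈ K, ∃ x ∈ X, g = k * x := by
    intro g
    have hg : g ∈ normalizer (T : Set G) ⊔ K := by
      rw [hT, Sylow.normalizer_sup_eq_top]; trivial
    rw [← SetLike.mem_coe, mul_normal] at hg
    obtain ⟨n, hn, k, hk, rfl⟩ := hg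
    have hnM : ∀ m ∈ M, n * m * n⁻¹ ∈ M := by
      intro m hm
      rw [hM] at hm ⊢
      have hn' : n ∈ normalizer (T : Set G) := hn
      exact mem_inf.mpr ⟨mul_mem (mul_mem hn' hm.1) (inv_mem hn'), hKn.conj_mem m hm.2 n⟩
    obtain ⟨Q₁, hQ₁⟩ : ∃ Q₁ : Subgroup M,
        Q₁ = (Q.map (MulAut.conj n).toMonoidHom).subgroupOf M := ⟨_, rfl⟩
    have hQ₁le : Q.map (MulAut.conj n).toMonoidHom ≤ M := by
      rintro _ ⟨q, hq, rfl⟩
      exact hnM q (hQM hq)
    have hQ₁card : Nat.card Q₁ = (T.subgroupOf M).index := by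
      rw [hQ₁, Nat.card_congr (subgroupOfEquivOfLe hQ₁le).toEquiv,
        card_map_of_injective (MulAut.conj n).injective, hQ, card_map_of_injective M.subtype_injective,
        hQ₀card]
    obtain ⟨a, ha, e⟩ := CfsgLib.Coprime.conj_complement_abelian (T.subgroupOf M) hcop Q₀ Q₁
      hQ₀card hQ₁card
    have hx : (a : G)⁻¹ * n ∈ X := by
      rw [hX]
      refine mem_inf.mpr ⟨mul_mem (inv_mem (le_normalizer (mem_subgroupOf.mp ha))) hn, ?_⟩
      refine CfsgLib.Transfer.mem_normalizer_of_map_conj_eq (eq_of_le_of_card_ge ?_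
        (card_map_of_injective (MulAut.conj _).injective).ge)
      rintro _ ⟨q, hq, rfl⟩
      have h1 : (⟨n * q * n⁻¹, hnM q (hQM hq)⟩ : M) ∈ Q₁ := hQ₁ ▸ mem_subgroupOf.mpr ⟨q, hq, rfl⟩
      rw [← e] at h1
      obtain ⟨q', hq', e'⟩ := h1
      rw [hQ]
      refine ⟨q', hq', ?_⟩
      have e'' : (a : G) * q' * (a : G)⁻¹ = n * q * n⁻¹ := congrArg Subtype.val e'
      simp only [MulEquiv.toMonoidHom_eq_coe, MonoidHom.coe_coe, MulAut.conj_apply, coe_subtype]
      calc (q' : G) = (a : G)⁻¹ * ((a : G) * q' * (a : G)⁻¹) * a := by group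
        _ = _ := by rw [e'']; group
    refine ⟨(n * k * n⁻¹) * (a : G), K.mul_mem (hKn.conj_mem k hk n) (hTK (mem_subgroupOf.mp ha)),
      _, hx, ?_⟩
    group
  let P₁ : Sylow p X := default
  refine ⟨(P₁ : Subgroup X).map X.subtype, isComplement'_of_disjoint_and_mul_eq_univ ?_ ?_⟩
  · refine disjoint_iff.mpr ((eq_bot_iff_forall _).mpr ?_)
    rintro _ ⟨⟨x, hx, rfl⟩, hxK⟩
    obtain ⟨k, hk⟩ := P₁.2 ⟨x, hx⟩
    have hxM : (x : G) ∈ M := hM ▸ ⟨(hX.le x.2).1, hxK⟩
    refine hXT _ x.2 ?_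
    have hk' : (x : X) ^ p ^ k = 1 := by simpa using congrArg Subtype.val hk
    have h1 : ((⟨_, hxM⟩ : M) : M ⧸ T.subgroupOf M) ^ p ^ k = 1 := by
      rw [← QuotientGroup.mk_pow]
      exact (QuotientGroup.eq_one_iff _).mpr (by
        rw [show (⟨_, hxM⟩ : M) ^ p ^ k = 1 from Subtype.ext (by simpa using congrArg Subtype.val hk')]
        exact one_mem _)
    have h2 : ((⟨_, hxM⟩ : M) : M ⧸ T.subgroupOf M) = 1 :=
      orderOf_eq_one_iff.mp (Nat.eq_one_of_dvd_coprimes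
        (((Nat.Prime.coprime_iff_not_dvd Fact.out).mpr hidx).pow_left k)
        (orderOf_dvd_of_pow_eq_one h1)
        ((_root_.orderOf_dvd_natCard _).trans (dvd_of_eq (index_eq_card _).symm)))
    have h3 : (⟨_, hxM⟩ : M) ∈ T.subgroupOf M := (QuotientGroup.eq_one_iff _).mp h2
    exact mem_subgroupOf.mp h3
  · refine Set.eq_univ_of_forall fun g => ?_
    rw [← mul_normal]
    obtain ⟨k, hk, x, hx, rfl⟩ := hGX g
    refine mul_mem (mem_sup_right hk) ?_
    haveI := CfsgLib.Transfer.pResidual_normal (G := X) (p := p)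
    have h1 : (⟨x, hx⟩ : X) ∈ (P₁ : Subgroup X) ⊔ Cfsg.pResidual p X := by
      rw [CfsgLib.Transfer.sylow_sup_pResidual]; trivial
    have h2 := mem_map_of_mem X.subtype h1
    rw [Subgroup.map_sup] at h2
    exact sup_le_sup_left ((CfsgLib.Transfer.map_pResidual_le X.subtype).trans hK.ge) _ h2

end Cfsg.Agent.S0092
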