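import Cfsg.Statements.S0093
import Cfsg.Agent.Lib.PGroup.Critical
import Cfsg.Agent.Lib.PGroup.Frattini

set_option autoImplicit false
open Cfsg

namespace Cfsg.Agent.S0093

open Subgroup
open scoped commutatorElement


/-- Every finite p-group has a critical subgroup: a characteristic subgroup H whose Frattini subgroup and whose commutator with the whole group lie in the centre of H, and whose centralizer is contained in H. -/
theorem result {P : Type*} [Group P] [Finite P] {p : ℕ} [Fact p.Prime] (hP : IsPGroup p P) : ∃ H : Subgroup P, H.Characteristic ∧ (frattini H).map H.subtype ≤ Subgroup.centralizer (H : Set P) ∧ ⁅H, (⊤ : Subgroup P)⁆ ≤ H ⊓ Subgroup.centralizer (H : Set P) ∧ Subgroup.centralizer (H : Set P) ≤ H := by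
  obtain ⟨H, hc, hcent, hcomm, hpow⟩ := CfsgLib.PGroup.exists_critical hP
  refine ⟨H, hc, ?_, ?_, hcent⟩
  · rw [map_le_iff_le_comap]
    refine CfsgLib.PGroup.frattini_le_of (p := p) _ ?_ fun x => (hpow x x.2).2
    rw [commutator_def, commutator_le]
    exact fun a _ b _ => (hcomm a b b.2).2
  · rw [commutator_comm, commutator_le]
    exact fun g _ x hx => hcomm g x hx

end Cfsg.Agent.S0093
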