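import Cfsg.Statements.S0094
import Cfsg.Agent.Lib.PGroup.Frattini
import Cfsg.Agent.Lib.PGroup.Class2

set_option autoImplicit false
open Cfsg

namespace Cfsg.Agent.S0094

open Subgroup
open scoped commutatorElement


/-- In a special p-group every central element has order dividing p. -/
theorem result {P : Type*} [Group P] [Finite P] {p : ℕ} [Fact p.Prime] (h : Cfsg.IsSpecial p P) (z : P) (hz : z ∈ Subgroup.center P) : z ^ p = 1 := by
  obtain ⟨hP, hF, hD⟩ := h
  have hcen : ∀ a b : P, ⁅a, b⁆ ∈ Subgroup.center P := fun a b =>
    hD ▸ commutator_mem_commutator (mem_top a) (mem_top b)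
  rw [← hD, commutator_eq_closure] at hz
  induction hz using closure_induction with
  | mem x hx =>
    obtain ⟨a, b, rfl⟩ := hx
    exact CfsgLib.PGroup.commutatorElement_pow_eq_one_of_pow_central (hcen a b)
      (hF ▸ CfsgLib.PGroup.pow_mem_frattini hP a)
  | one => exact one_pow p
  | mul a b ha _ iha ihb =>
    have : Commute a b := by
      have : a ∈ Subgroup.center P := by rw [← hD, commutator_eq_closure]; exact ha
      exact (mem_center_iff.mp this b).symm
    rw [this.mul_pow, iha, ihb, one_mul]
  | inv a _ iha => rw [inv_pow, iha, inv_one]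

end Cfsg.Agent.S0094
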