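import Cfsg.Statements.S0097
import Cfsg.Agent.Lib.PGroup.Extraspecial

set_option autoImplicit false
open Cfsg

namespace Cfsg.Agent.S0097

open Subgroup
open scoped commutatorElement


/-- For odd p and E extraspecial, the subgroup generated by the elements of order dividing p has exponent dividing p and index at most p. -/
theorem result {E : Type*} [Group E] [Finite E] {p : ℕ} [Fact p.Prime] (hp : p ≠ 2) (h : Cfsg.IsExtraspecial p E) : (Subgroup.closure {x : E | x ^ p = 1}).index ≤ p ∧ ∀ g ∈ Subgroup.closure {x : E | x ^ p = 1}, g ^ p = 1 := by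
  have hodd := (Fact.out : p.Prime).odd_of_ne_two hp
  have hcl := CfsgLib.PGroup.extraspecial_comm_mem_center h
  refine ⟨?_, fun g hg =>
    CfsgLib.PGroup.pow_eq_one_of_mem_closure_class_two hodd hcl _ (fun x hx => hx) hg⟩
  let φ : E →* Subgroup.center E :=
    { toFun := fun x => ⟨x ^ p, CfsgLib.PGroup.extraspecial_pow_mem_center h x⟩
      map_one' := Subtype.ext (one_pow p)
      map_mul' := fun x y => Subtype.ext
        (CfsgLib.PGroup.mul_pow_odd_of_central hodd (hcl y x)
          (CfsgLib.PGroup.extraspecial_comm_pow_eq_one h y x)) }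
  have hk : φ.ker ≤ Subgroup.closure {x : E | x ^ p = 1} := fun x hx =>
    Subgroup.subset_closure (congrArg Subtype.val (MonoidHom.mem_ker.mp hx))
  refine (Nat.le_of_dvd (Nat.pos_of_ne_zero φ.ker.index_ne_zero_of_finite)
    (index_dvd_of_le hk)).trans ?_
  rw [index_ker]
  exact (card_le_card_group _).trans h.2.le

end Cfsg.Agent.S0097
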