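import Cfsg.Statements.S0100
import Cfsg.Agent.Lib.PGroup.NormalSquare
import Cfsg.Agent.Lib.OddOrder41.NormalElementary
import Cfsg.Agent.Lib.Coprime.Basic

set_option autoImplicit false
open Cfsg

namespace Cfsg.Agent.S0100

open Subgroup
open scoped commutatorElement


/-- For odd p, a p-group without normal elementary abelian subgroups of order p^3 has p-rank at most 2. -/
theorem result {P : Type*} [Group P] [Finite P] {p : ℕ} [Fact p.Prime] (hp : p ≠ 2) (hP : IsPGroup p P) (h : ∀ A : Subgroup P, A.Normal → IsMulCommutative A → (∀ a ∈ A, a ^ p = 1) → Nat.card A ≠ p ^ 3) (E : Subgroup P) (hE : IsMulCommutative E) (hEe : ∀ e ∈ E, e ^ p = 1) : Nat.card E ≤ p ^ 2 := by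
  by_contra hlt
  push Not at hlt
  have hrk : ¬ Cfsg.PRankLE p 2 P := fun hr => absurd (hr E hE hEe) (not_le.mpr hlt)
  obtain ⟨U, hUn, hU, hUc⟩ := CfsgLib.PGroup39.exists_normal_elementary_square hP hrk
  haveI := hUn
  haveI := hP.isNilpotent
  haveI := hE
  have hp1 := (Fact.out : p.Prime).one_lt
  obtain ⟨x, hxC, hxp, hxU⟩ : ∃ x ∈ centralizer (U : Set P), x ^ p = 1 ∧ x ∉ U := by
    by_contra hcon
    push Not at hcon
    have hle : E ⊓ centralizer (U : Set P) ≤ U := fun a ha => hcon a ha.2 (hEe a ha.1)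
    have hrel : (centralizer (U : Set P)).relIndex E ≤ p := by
      haveI : (centralizer (U : Set P)).Normal := inferInstance
      exact (Nat.le_of_dvd (Nat.pos_of_ne_zero index_ne_zero_of_finite)
        (relIndex_dvd_index_of_normal _ E)).trans (Nat.le_of_dvd (Fact.out : p.Prime).pos
          (CfsgLib.OddOrder41.index_centralizer_dvd_of_card_sq hP U hU hUc))
    have hcard : Nat.card E ≤ Nat.card (E ⊓ centralizer (U : Set P) : Subgroup P) * p := by
      have h := relIndex_mul_relIndex ⊥ (E ⊓ centralizer (U : Set P)) E bot_le inf_le_left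
      rw [relIndex_bot_left, relIndex_bot_left] at h
      rw [← h, inf_comm E, inf_relIndex_right]
      exact Nat.mul_le_mul_left _ hrel
    obtain ⟨a, ha⟩ := (hP.to_subgroup (E ⊓ centralizer (U : Set P))).exists_card_eq
    obtain ⟨b, hb⟩ := (hP.to_subgroup E).exists_card_eq
    rw [hb] at hlt hcard
    rw [ha, ← pow_succ] at hcard
    have hb3 := (Nat.pow_lt_pow_iff_right hp1).mp hlt
    have hab := (Nat.pow_le_pow_iff_right hp1).mp hcard
    have hUE : E ⊓ centralizer (U : Set P) = U :=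
      eq_of_le_of_card_ge hle (by rw [hUc, ha]; exact Nat.pow_le_pow_right (by omega) (by omega))
    have hEU : E ≤ U := fun e he => hle ⟨he, mem_centralizer_iff.mpr fun u hu =>
      congrArg Subtype.val (hE.is_comm.comm ⟨u, (hUE.ge hu).1⟩ ⟨e, he⟩)⟩
    have := card_le_of_le hEU
    rw [hUc, hb] at this
    exact absurd this (not_le.mpr hlt)
  obtain ⟨F, hFn, hF, hUF⟩ :=
    CfsgLib.OddOrder41.exists_normal_elementary_gt hp hP U hU x hxC hxp hxU
  haveI := hFn
  obtain ⟨y, hyF, hyU, hyc⟩ := CfsgLib.OddOrder41.exists_central_step F U (not_le_of_gt hUF)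
  obtain ⟨A, hA⟩ : ∃ A : Subgroup P, A = zpowers y ⊔ U := ⟨_, rfl⟩
  have hAF : A ≤ F := hA ▸ sup_le (zpowers_le.mpr hyF) hUF.le
  haveI := hF.1
  refine h A ⟨fun a ha g => ?_⟩
    ⟨⟨fun a b => Subtype.ext (congrArg (fun z : F => (z : P)) (hF.1.is_comm.comm ⟨a, hAF a.2⟩ ⟨b, hAF b.2⟩))⟩⟩
    (fun a ha => hF.2 a (hAF ha)) ?_
  · rw [hA] at ha ⊢
    have hle : (zpowers y ⊔ U).map (MulAut.conj g).toMonoidHom ≤ zpowers y ⊔ U := by
      rw [Subgroup.map_sup, MonoidHom.map_zpowers]
      refine sup_le (zpowers_le.mpr ?_) ?_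
      · have e : g * y * g⁻¹ = ⁅y, g⁆⁻¹ * y := by rw [commutatorElement_def]; group
        show g * y * g⁻¹ ∈ _
        rw [e]
        exact mul_mem (inv_mem (mem_sup_right (hyc g))) (mem_sup_left (mem_zpowers y))
      · rintro _ ⟨u, hu, rfl⟩
        exact mem_sup_right (hUn.conj_mem u hu g)
    exact hle ⟨a, ha, rfl⟩
  · have hy : orderOf y = p := orderOf_eq_prime (hF.2 y hyF) fun e => hyU (e ▸ U.one_mem)
    have hdis : zpowers y ⊓ U = ⊥ := by
      have hd := card_dvd_of_le (inf_le_left : zpowers y ⊓ U ≤ zpowers y)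
      rw [Nat.card_zpowers, hy] at hd
      rcases (Nat.dvd_prime Fact.out).mp hd with h1 | h1
      · exact eq_bot_of_card_eq _ h1
      · exact absurd ((eq_of_le_of_card_ge (inf_le_left : zpowers y ⊓ U ≤ zpowers y)
          (by rw [h1, Nat.card_zpowers, hy])).ge (mem_zpowers y)).2 hyU
    have hmul : Nat.card (zpowers y ⊔ U : Subgroup P) = Nat.card (zpowers y) * Nat.card U :=
      CfsgLib.Coprime.card_sup_of_disjoint Subgroup.le_normalizer_of_normal (by rwa [inf_comm])
    rw [hA, hmul, Nat.card_zpowers, hy, hUc]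
    ring

end Cfsg.Agent.S0100
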