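import Cfsg.Statements.S0101
import Cfsg.Agent.Lib.Transfer.Central
import Cfsg.Agent.Lib.PGroup.Frattini

set_option autoImplicit false
open Cfsg

namespace Cfsg.Agent.S0101

open Subgroup
open scoped commutatorElement


/-- In a perfect central extension, the kernel meets each Sylow p-subgroup P inside the Frattini subgroup of P. -/
theorem result {H : Type*} {G : Type*} [Group H] [Group G] [Finite H] (σ : H →* G) (hσ : Function.Surjective σ) (hc : σ.ker ≤ Subgroup.center H) (hH : commutator H = ⊤) {p : ℕ} [Fact p.Prime] (P : Sylow p H) : σ.ker ⊓ (P : Subgroup H) ≤ (frattini P).map (P : Subgroup H).subtype := by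
  rintro x ⟨hxk, hxP⟩
  refine ⟨⟨x, hxP⟩, ?_, rfl⟩
  rw [SetLike.mem_coe]
  simp only [frattini, Order.radical, mem_iInf]
  intro M hM
  haveI := CfsgLib.PGroup.normal_of_isCoatom P.2 hM
  have hMc : Nat.card ((P : Subgroup H) ⧸ M) = p := by
    rw [← index_eq_card, CfsgLib.PGroup.index_of_isCoatom P.2 hM]
  haveI := isCyclic_of_prime_card hMc
  letI : CommGroup ((P : Subgroup H) ⧸ M) := IsCyclic.commGroup
  have h1 := CfsgLib.Transfer.apply_pow_index_eq_one (QuotientGroup.mk' M) (hc hxk) hxP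
    (hH ▸ mem_top x)
  have h2 : orderOf (QuotientGroup.mk' M ⟨x, hxP⟩) ∣ p := (_root_.orderOf_dvd_natCard _).trans (dvd_of_eq hMc)
  rw [← orderOf_dvd_iff_pow_eq_one] at h1
  exact (QuotientGroup.eq_one_iff _).mp (orderOf_eq_one_iff.mp (Nat.eq_one_of_dvd_coprimes
    ((Nat.Prime.coprime_iff_not_dvd Fact.out).mpr P.not_dvd_index) h2 h1))

end Cfsg.Agent.S0101
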