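import Cfsg.Statements.S0102
import Cfsg.Agent.Lib.Transfer.Central

set_option autoImplicit false
open Cfsg

namespace Cfsg.Agent.S0102

open Subgroup
open scoped commutatorElement


/-- A finite perfect group with cyclic Sylow p-subgroups has no perfect central extension whose kernel has order divisible by p. -/
theorem result {G : Type*} {H : Type*} [Group G] [Group H] [Finite G] [Finite H] (hG : commutator G = ⊤) {p : ℕ} [Fact p.Prime] (hcyc : ∀ P : Sylow p G, IsCyclic P) (σ : H →* G) (hσ : Function.Surjective σ) (hz : σ.ker ≤ Subgroup.center H) (hH : commutator H = ⊤) : ¬ p ∣ Nat.card σ.ker := by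
  intro hd
  obtain ⟨x, hx⟩ := exists_prime_orderOf_dvd_card' p hd
  have hxp : IsPGroup p (zpowers (x : H)) :=
    IsPGroup.of_card (n := 1) (by rw [Nat.card_zpowers, Subgroup.orderOf_coe, hx, pow_one])
  obtain ⟨P, hP⟩ := hxp.exists_le_sylow
  obtain ⟨R, hR⟩ := (P.2.map σ).exists_le_sylow
  haveI := hcyc R
  haveI : IsCyclic ((P : Subgroup H).map σ) :=
    isCyclic_of_surjective (subgroupOfEquivOfLe hR) (subgroupOfEquivOfLe hR).surjective
  let f : (P : Subgroup H) →* (P : Subgroup H).map σ := σ.subgroupMap (P : Subgroup H)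
  have hker : f.ker ≤ center (P : Subgroup H) := fun y hy => by
    rw [mem_center_iff]
    intro z
    exact Subtype.ext (mem_center_iff.mp (hz (congrArg Subtype.val (MonoidHom.mem_ker.mp hy))) _)
  have hPc : IsMulCommutative (P : Subgroup H) := ⟨⟨fun a b => commutative_of_cyclic_center_quotient f hker a b⟩⟩
  have := CfsgLib.Transfer.eq_one_of_central_commutator (P : Subgroup H) hPc P.card_coprime_index
    (hP (mem_zpowers _)) (hH ▸ mem_top _) (hz x.2)
  have : x = 1 := Subtype.ext this
  rw [this, orderOf_one] at hx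
  exact (Fact.out : p.Prime).ne_one hx.symm

end Cfsg.Agent.S0102
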