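import Cfsg.Statements.S0103


set_option autoImplicit false
open Cfsg

namespace Cfsg.Agent.S0103

open Subgroup
open scoped commutatorElement


/-- If a Sylow p-subgroup P intersects every distinct conjugate trivially, then its normalizer controls fusion in P. -/
theorem result {G : Type*} [Group G] [Finite G] {p : ℕ} [Fact p.Prime] (P : Sylow p G) (hTI : ∀ g : G, (P : Subgroup G).map (MulAut.conj g).toMonoidHom ≠ (P : Subgroup G) → (P : Subgroup G) ⊓ (P : Subgroup G).map (MulAut.conj g).toMonoidHom = ⊥) (x y : G) (hx : x ∈ P) (hy : y ∈ P) (hc : ∃ g : G, g * x * g⁻¹ = y) : ∃ n ∈ Subgroup.normalizer (P : Set G), n * x * n⁻¹ = y := by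
  obtain ⟨g, rfl⟩ := hc
  by_cases hx1 : x = 1
  · exact ⟨1, one_mem _, by simp [hx1]⟩
  refine ⟨g, ?_, rfl⟩
  by_cases hg : (P : Subgroup G).map (MulAut.conj g).toMonoidHom = (P : Subgroup G)
  · rw [mem_set_normalizer_iff]
    intro z
    constructor
    · exact fun hz => hg.le ⟨z, hz, by simp⟩
    · intro hz
      obtain ⟨w, hw, e⟩ := hg.ge hz
      have : w = z := by simpa using e
      exact this ▸ hw
  · have h1 : g * x * g⁻¹ ∈ (P : Subgroup G) ⊓ (P : Subgroup G).map (MulAut.conj g).toMonoidHom :=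
      ⟨hy, x, hx, by simp⟩
    rw [hTI g hg, mem_bot] at h1
    exact absurd (by simpa using h1) hx1

end Cfsg.Agent.S0103
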