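import Cfsg.Statements.S0104
import Cfsg.Agent.Lib.Transfer.Basic

set_option autoImplicit false
open Cfsg

namespace Cfsg.Agent.S0104

open Subgroup
open scoped commutatorElement


/-- A subgroup Z of a Sylow p-subgroup P that is normalized by N_G(P) is weakly closed in P exactly when it is normal in every Sylow p-subgroup containing it. -/
theorem result {G : Type*} [Group G] [Finite G] {p : ℕ} [Fact p.Prime] (P : Sylow p G) (Z : Subgroup G) (hZP : Z ≤ (P : Subgroup G)) (hZN : Subgroup.normalizer (P : Set G) ≤ Subgroup.normalizer (Z : Set G)) : Cfsg.IsWeaklyClosed Z P ↔ ∀ R : Sylow p G, Z ≤ (R : Subgroup G) → (R : Subgroup G) ≤ Subgroup.normalizer (Z : Set G) := by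
  constructor
  · intro hW R hR
    obtain ⟨h, rfl⟩ := MulAction.exists_smul_eq G P R
    have h1 : Z.map (MulAut.conj h⁻¹).toMonoidHom = Z := by
      refine hW.2 _ ?_
      rintro _ ⟨z, hz, rfl⟩
      obtain ⟨y, hy, e⟩ := hR hz
      have e' : z = h * y * h⁻¹ := e.symm
      simpa [e', mul_assoc] using (show y ∈ (P : Subgroup G) from hy)
    have hh : h ∈ normalizer (Z : Set G) := by
      simpa using inv_mem (CfsgLib.Transfer.mem_normalizer_of_map_conj_eq h1)
    rintro _ ⟨y, hy, rfl⟩
    simpa using mul_mem (mul_mem hh ((le_normalizer.trans hZN) (show y ∈ (P : Subgroup G) from hy)))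
      (inv_mem hh)
  · intro h
    refine ⟨hZP, fun g hg => ?_⟩
    have hgP : Z ≤ (g⁻¹ • P : Sylow p G) := fun z hz =>
      ⟨g * z * g⁻¹, hg ⟨z, hz, by simp⟩, by simp [mul_assoc]⟩
    obtain ⟨c, hc, hn⟩ := CfsgLib.Transfer.exists_mul_mem_normalizer P (normalizer (Z : Set G)) g
      (h P hZP) (fun x hx => h _ hgP ⟨x, hx, by simp⟩)
    have hgN : g ∈ normalizer (Z : Set G) := by
      simpa using mul_mem (hZN hn) (inv_mem hc)
    ext z
    rw [mem_map_equiv]
    have := mem_set_normalizer_iff.mp hgN ((MulAut.conj g).symm z)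
    simpa [mul_assoc] using this

end Cfsg.Agent.S0104
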