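import Cfsg.Statements.S0105
import Cfsg.Agent.Lib.Transfer.Central

set_option autoImplicit false
open Cfsg

namespace Cfsg.Agent.S0105

open Subgroup
open scoped commutatorElement


/-- With an abelian Sylow p-subgroup P, some quotient of G is isomorphic to the part of P central in N_G(P). -/
theorem result {G : Type*} [Group G] [Finite G] {p : ℕ} [Fact p.Prime] (P : Sylow p G) (hP : IsMulCommutative P) : ∃ (N : Subgroup G) (hN : N.Normal), Nonempty (G ⧸ N ≃* ((P : Subgroup G) ⊓ Subgroup.centralizer (Subgroup.normalizer (P : Set G) : Set G) : Subgroup G)) := by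
  haveI := hP
  obtain ⟨N₀, hN₀⟩ : ∃ N₀ : Subgroup G, N₀ = normalizer ((P : Subgroup G) : Set G) := ⟨_, rfl⟩
  have hPN : (P : Subgroup G) ≤ N₀ := hN₀ ▸ le_normalizer
  let A : Subgroup N₀ := ((P : Subgroup G)).subgroupOf N₀
  haveI hAn : A.Normal := by
    refine ⟨fun a ha c => ?_⟩
    rw [mem_subgroupOf] at ha ⊢
    exact (mem_set_normalizer_iff.mp (hN₀.le c.2) _).mp ha
  have hAc : IsMulCommutative A := inferInstance
  have hAH : Nat.Coprime (Nat.card A) A.index := (P.subtype hPN).card_coprime_index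
  obtain ⟨hA1, -, hA3⟩ := CfsgLib.Transfer.abelian_normal_hall A hAc hAH
  obtain ⟨W, hW⟩ : ∃ W : Subgroup G,
      W = (P : Subgroup G) ⊓ centralizer (N₀ : Set G) := ⟨_, rfl⟩
  have hWP : W ≤ (P : Subgroup G) := hW ▸ inf_le_left
  let ψ : W →* (P : Subgroup G) ⧸ (P : Subgroup G).focalSubgroupOf :=
    (QuotientGroup.mk' _).comp (inclusion hWP)
  have hfocN : (P : Subgroup G).focalSubgroup ≤ ⁅(P : Subgroup G), N₀⁆ := by
    refine CfsgLib.Transfer.focalSubgroup_le_of_controls fun x hx g hy => ?_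
    obtain ⟨n, hn, e⟩ := P.conj_eq_normalizer_conj_of_mem x g⁻¹ hx (by rw [inv_inv]; exact hy)
    exact ⟨n⁻¹, hN₀ ▸ inv_mem hn, by simpa using e.symm⟩
  have hinj : Function.Injective ψ := by
    rw [injective_iff_map_eq_one]
    intro w hw
    have hwf' : inclusion hWP w ∈ (P : Subgroup G).focalSubgroupOf :=
      (QuotientGroup.eq_one_iff _).mp hw
    have hwf : (w : G) ∈ (P : Subgroup G).focalSubgroup := mem_subgroupOf.mp hwf'
    have h1 : (w : G) ∈ (commutator N₀).map N₀.subtype := by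
      rw [map_subtype_commutator]; exact commutator_mono hPN le_rfl (hfocN hwf)
    obtain ⟨v, hv, e⟩ := h1
    have hwW := mem_inf.mp (hW.le w.2)
    have hvc : v ∈ center N₀ := by
      rw [mem_center_iff]
      intro u
      apply Subtype.ext
      rw [coe_mul, coe_mul, show (v : G) = w from e]
      exact mem_centralizer_iff.mp hwW.2 u u.2
    have := CfsgLib.Transfer.eq_one_of_central_commutator A hAc hAH
      (show v ∈ A from mem_subgroupOf.mpr ((show (v : G) = w from e) ▸ hwW.1)) hv hvc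
    apply Subtype.ext
    rw [← show (v : G) = w from e, this]
    rfl
  have hsurj : Function.Surjective ψ := by
    intro y
    obtain ⟨a, rfl⟩ := QuotientGroup.mk'_surjective _ y
    have h1 : (⟨(a : G), hPN a.2⟩ : N₀) ∈ (commutator N₀ ⊓ A) ⊔ (center N₀ ⊓ A) := by
      rw [hA3]; exact mem_subgroupOf.mpr a.2
    rw [← hA1, ← SetLike.mem_coe, normal_mul] at h1
    obtain ⟨f, hf, w, hw, e⟩ := h1
    have hwW : (w : G) ∈ W := by
      rw [hW]
      refine mem_inf.mpr ⟨mem_subgroupOf.mp (mem_inf.mp hw).2, mem_centralizer_iff.mpr fun u hu => ?_⟩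
      exact congrArg Subtype.val (mem_center_iff.mp (mem_inf.mp hw).1 ⟨u, hu⟩)
    have hle : ⁅A, (⊤ : Subgroup N₀)⁆ ≤ ((P : Subgroup G).focalSubgroup).comap N₀.subtype := by
      rw [commutator_le]
      intro x hx n _
      have hx' : (x : G) ∈ (P : Subgroup G) := mem_subgroupOf.mp hx
      refine subset_closure ⟨?_, (x : G), hx', (n : G), rfl⟩
      have h2 := (mem_set_normalizer_iff.mp (hN₀.le n.2) _).mp (inv_mem hx')
      have h3 := mul_mem hx' h2
      show (x : G) * n * (x : G)⁻¹ * (n : G)⁻¹ ∈ _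
      simpa [mul_assoc] using h3
    refine ⟨⟨w, hwW⟩, QuotientGroup.eq.mpr (mem_subgroupOf.mpr ?_)⟩
    have e' : (a : G) = (f : G) * w := (congrArg Subtype.val e).symm
    have hf' : (f : G) ∈ (P : Subgroup G).focalSubgroup := hle hf
    have hfP := (P : Subgroup G).focalSubgroup_le hf'
    have hcomm : (f : G) * w = w * f := congrArg Subtype.val
      (hP.is_comm.comm ⟨(f : G), hfP⟩ ⟨(w : G), hWP hwW⟩)
    change (w : G)⁻¹ * (a : G) ∈ _
    rwa [e', hcomm, inv_mul_cancel_left]
  refine ⟨(P : Subgroup G).transferFocal.ker, inferInstance, ⟨?_⟩⟩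
  exact ((transferFocal.quotientKerMulEquivQuotientFocalSubroupOf P).trans
    (MulEquiv.ofBijective ψ ⟨hinj, hsurj⟩).symm).trans
      (MulEquiv.subgroupCongr (by rw [hW, hN₀]; rfl))

end Cfsg.Agent.S0105
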