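import Cfsg.Statements.S0107
import Cfsg.Agent.Lib.Transfer.NormalComplement

set_option autoImplicit false
open Cfsg

namespace Cfsg.Agent.S0107

open Subgroup
open scoped commutatorElement


/-- A finite group with no nontrivial 2-group quotient and dihedral Sylow 2-subgroups of order at least 8 has a single class of involutions. -/
theorem result {G : Type*} [Group G] [Finite G] (T : Sylow 2 G) (n : ℕ) (hn : 2 ≤ n) (hT : Nonempty ((T : Subgroup G) ≃* DihedralGroup (2 ^ n))) (hO : Cfsg.pResidual 2 G = ⊤) (x y : G) (hx : orderOf x = 2) (hy : orderOf y = 2) : ∃ g : G, g * x * g⁻¹ = y := by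
  obtain ⟨e⟩ := hT
  let Q₀ : Subgroup (T : Subgroup G) := zpowers (e.symm (DihedralGroup.r 1))
  have hQ₀ : Nat.card Q₀ = 2 ^ n := by
    rw [Nat.card_zpowers, show orderOf (e.symm (DihedralGroup.r 1)) = orderOf (DihedralGroup.r 1) from
      orderOf_injective e.symm.toMonoidHom e.symm.injective _, DihedralGroup.orderOf_r_one]
  have hTc : Nat.card (T : Subgroup G) = 2 * 2 ^ n := by
    rw [Nat.card_congr e.toEquiv, DihedralGroup.nat_card]
  let Q : Subgroup G := Q₀.map (T : Subgroup G).subtype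
  have hQi : Q.relIndex (T : Subgroup G) = 2 := by
    rw [relIndex, subgroupOf, comap_map_eq_self_of_injective (T : Subgroup G).subtype_injective]
    have := card_mul_index Q₀
    rw [hQ₀, hTc, mul_comm 2] at this
    exact Nat.eq_of_mul_eq_mul_left (pow_pos two_pos n) this
  have hnoM : ∀ M : Subgroup G, M.Normal → M.index = 2 → False := by
    intro M hM hi
    have h2 : IsPGroup 2 (G ⧸ M) := IsPGroup.of_card (n := 1) (by rw [← index_eq_card, hi, pow_one])
    have := CfsgLib.Transfer.pResidual_le_of_isPGroup_quotient M h2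
    rw [hO, top_le_iff] at this
    rw [this, index_top] at hi
    omega
  obtain ⟨c, hc⟩ : ∃ c, c = e.symm (DihedralGroup.r 1) := ⟨_, rfl⟩
  have hco : orderOf c = 2 ^ n := by rw [hc, ← Nat.card_zpowers]; exact hQ₀
  have huniq : ∀ a b : G, orderOf a = 2 → orderOf b = 2 → a ∈ Q → b ∈ Q → a = b := by
    have key : ∀ a : G, orderOf a = 2 → a ∈ Q → a = ((c ^ 2 ^ (n - 1) : (T : Subgroup G)) : G) := by
      intro a ha haQ
      obtain ⟨a', ha', rfl⟩ := haQ
      rw [orderOf_injective (T : Subgroup G).subtype (T : Subgroup G).subtype_injective] at ha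
      obtain ⟨i, hi⟩ := mem_zpowers_iff.mp (show a' ∈ zpowers c from hc ▸ ha')
      have h2 : a' ^ 2 = 1 := orderOf_dvd_iff_pow_eq_one.mp ha.dvd
      rw [← hi, ← zpow_natCast, ← zpow_mul, ← orderOf_dvd_iff_zpow_eq_one, hco] at h2
      have e2 : (2 : ℤ) ^ n = 2 ^ (n - 1) * 2 := by rw [← pow_succ, Nat.sub_add_cancel (by omega)]
      push_cast at h2
      rw [e2] at h2
      obtain ⟨m, rfl⟩ := (Int.mul_dvd_mul_iff_right (by norm_num)).mp h2
      have e3 : ((2 : ℤ) ^ (n - 1)) = ((2 ^ (n - 1) : ℕ) : ℤ) := by push_cast; rfl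
      rw [zpow_mul, e3, zpow_natCast] at hi
      obtain ⟨w, hw⟩ : ∃ w, w = c ^ 2 ^ (n - 1) := ⟨_, rfl⟩
      have hw2 : w ^ (2 : ℤ) = 1 := by
        rw [hw, zpow_ofNat, ← pow_mul, ← pow_succ, Nat.sub_add_cancel (by omega), ← hco,
          pow_orderOf_eq_one]
      rw [← hw] at hi ⊢
      rcases Int.even_or_odd m with ⟨k, rfl⟩ | ⟨k, rfl⟩
      · rw [← two_mul, zpow_mul, hw2, one_zpow] at hi
        simp [← hi] at ha
      · rw [zpow_add_one, zpow_mul, hw2, one_zpow, one_mul] at hi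
        rw [hi]
        rfl
    exact fun a b ha hb haQ hbQ => (key a ha haQ).trans (key b hb hbQ).symm
  have hconj : ∀ a : G, orderOf a = 2 → ∃ g : G, g * a * g⁻¹ ∈ Q := by
    intro a ha
    have hap : IsPGroup 2 (zpowers a) := IsPGroup.of_card (n := 1) (by rw [Nat.card_zpowers, ha, pow_one])
    obtain ⟨R, hR⟩ := hap.exists_le_sylow
    obtain ⟨c, rfl⟩ := MulAction.exists_smul_eq G T R
    obtain ⟨u, huT, e'⟩ := hR (mem_zpowers a)
    have ha' : a = c * u * c⁻¹ := e'.symm
    by_cases huQ : u ∈ Q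
    · exact ⟨c⁻¹, by simpa [ha', mul_assoc] using huQ⟩
    have hu2 : u ^ 2 = 1 := by
      have h1 := pow_orderOf_eq_one a
      rw [ha, ha', conj_pow] at h1
      simpa using h1
    by_contra hcon
    push Not at hcon
    have hcl : ∀ g : G, g * u * g⁻¹ ∈ (T : Subgroup G) → g * u * g⁻¹ ∉ Q := fun g _ hg =>
      hcon (g * c⁻¹) (by simpa [ha', mul_assoc] using hg)
    obtain ⟨M, hM, hi, -⟩ := CfsgLib.Transfer.thompson_transfer T Q hQi u hu2 hcl
    exact hnoM M hM hi
  obtain ⟨a, ha⟩ := hconj x hx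
  obtain ⟨b, hb⟩ := hconj y hy
  have horder : ∀ g z : G, orderOf (g * z * g⁻¹) = orderOf z := fun g z =>
    orderOf_injective (MulAut.conj g).toMonoidHom (MulAut.conj g).injective z
  have := huniq _ _ ((horder a x).trans hx) ((horder b y).trans hy) ha hb
  refine ⟨b⁻¹ * a, ?_⟩
  calc b⁻¹ * a * x * (b⁻¹ * a)⁻¹ = b⁻¹ * (a * x * a⁻¹) * b := by group
    _ = y := by rw [this]; group

end Cfsg.Agent.S0107
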