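import Cfsg.Statements.S0114
import Cfsg.Agent.Lib.PGroup.MaximalClass

set_option autoImplicit false
open Cfsg

namespace Cfsg.Agent.S0114

open Subgroup
open scoped commutatorElement


/-- The central quotient of a 2-group of maximal class is dihedral. -/
theorem result {X : Type*} [Group X] [Finite X] (n : ℕ) (hn : 3 ≤ n) (hX : Nat.card X = 2 ^ n) (hc : Group.nilpotencyClass X = n - 1) : Nonempty (X ⧸ Subgroup.center X ≃* DihedralGroup (2 ^ (n - 2))) := by
  haveI := Fact.mk Nat.prime_two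
  obtain ⟨a, t, htop, -, ha, hZa, ht, hta⟩ := CfsgLib.MaxClass.exists_generators hn hX hc
  obtain ⟨hZ, hq, -⟩ := CfsgLib.MaxClass.center_of_class hX hn hc
  obtain ⟨m, hm⟩ : ∃ m, m = 2 ^ (n - 2) := ⟨_, rfl⟩
  rw [← hm]
  haveI : NeZero m := ⟨by rw [hm]; positivity⟩
  let f := QuotientGroup.mk' (center X)
  have hm2 : 2 ^ (n - 1) = m * 2 := by rw [hm, ← pow_succ]; congr 1; omega
  have ham : f a ^ m = 1 := by
    obtain ⟨z, hz1, hz⟩ : ∃ z ∈ center X, z ≠ 1 := by
      haveI : Nontrivial (center X) := Finite.one_lt_card_iff_nontrivial.mp (by rw [hZ]; norm_num)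
      obtain ⟨z, hz⟩ := exists_ne (1 : center X)
      exact ⟨z, z.2, fun e => hz (Subtype.ext e)⟩
    obtain ⟨i, rfl⟩ := mem_zpowers_iff.mp (hZa hz1)
    have hz2 : (a ^ i) ^ 2 = 1 := by
      have h := pow_card_eq_one' (G := center X) (x := ⟨a ^ i, hz1⟩)
      rw [hZ] at h
      exact congrArg Subtype.val h
    rw [← zpow_natCast, ← zpow_mul, ← orderOf_dvd_iff_zpow_eq_one, ha, hm2] at hz2
    push_cast at hz2
    obtain ⟨d, rfl⟩ := (Int.mul_dvd_mul_iff_right (by norm_num)).mp hz2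
    rw [← map_pow]
    refine (QuotientGroup.eq_one_iff _).mpr ?_
    obtain ⟨u, hu⟩ : ∃ u, u = a ^ m := ⟨_, rfl⟩
    rw [← hu]
    have hu2 : u ^ (2 : ℤ) = 1 := by
      rw [hu, zpow_ofNat, ← pow_mul, ← hm2, ← ha, pow_orderOf_eq_one]
    rw [zpow_mul, zpow_natCast, ← hu] at hz hz1
    rcases Int.even_or_odd d with ⟨k, rfl⟩ | ⟨k, rfl⟩
    · rw [← two_mul, zpow_mul, hu2, one_zpow] at hz
      exact absurd rfl hz
    · rwa [zpow_add_one, zpow_mul, hu2, one_zpow, one_mul] at hz1
  obtain ⟨A, hA⟩ : ∃ A, A = f a := ⟨_, rfl⟩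
  obtain ⟨T, hT⟩ : ∃ T, T = f t := ⟨_, rfl⟩
  rw [← hA] at ham
  have hT2 : T * T = 1 := by
    rw [hT, ← map_mul, ← sq]
    exact (QuotientGroup.eq_one_iff _).mpr ht
  have hTA : T * A * T = A⁻¹ := by
    have h : f (t * a * t⁻¹ * a) = 1 := (QuotientGroup.eq_one_iff _).mpr hta
    rw [map_mul, map_mul, map_mul, map_inv, ← hA, ← hT] at h
    rw [show T⁻¹ = T from inv_eq_of_mul_eq_one_right hT2] at h
    exact eq_inv_of_mul_eq_one_left h
  have hpm : ∀ u v : ℕ, u % m = v % m → A ^ u = A ^ v := by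
    intro u v h
    rw [← Nat.mod_add_div u m, ← Nat.mod_add_div v m, pow_add, pow_add, pow_mul A m, pow_mul A m,
      ham, one_pow, one_pow, h]
  have hadd : ∀ i j : ZMod m, A ^ (i + j).val = A ^ i.val * A ^ j.val := fun i j => by
    rw [← pow_add]; apply hpm; rw [ZMod.val_add, Nat.mod_mod]
  have hflip : ∀ i : ZMod m, T * A ^ i.val * T = A ^ (-i).val := by
    intro i
    have h1 : A ^ (-i).val = (A ^ i.val)⁻¹ := by
      refine eq_inv_of_mul_eq_one_left ?_
      rw [← hadd, neg_add_cancel, ZMod.val_zero, pow_zero]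
    have h2 : T * A ^ i.val * T = (T * A * T⁻¹) ^ i.val := by
      rw [conj_pow, show T⁻¹ = T from inv_eq_of_mul_eq_one_right hT2]
    rw [h1, h2, show T⁻¹ = T from inv_eq_of_mul_eq_one_right hT2, hTA, inv_pow]
  have hTswap : ∀ i : ZMod m, A ^ i.val * T = T * A ^ (-i).val := fun i => by
    rw [← hflip i, ← mul_assoc, ← mul_assoc, hT2, one_mul]
  let φ : DihedralGroup m →* X ⧸ center X :=
    { toFun := fun g => match g with
        | DihedralGroup.r i => A ^ i.val
        | DihedralGroup.sr i => T * A ^ i.val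
      map_one' := by
        show A ^ (0 : ZMod m).val = 1
        rw [ZMod.val_zero, pow_zero]
      map_mul' := by
        rintro (i | i) (j | j)
        · rw [DihedralGroup.r_mul_r]; exact hadd i j
        · rw [DihedralGroup.r_mul_sr]
          show T * A ^ (j - i).val = A ^ i.val * (T * A ^ j.val)
          rw [← mul_assoc, hTswap, mul_assoc, ← hadd]; congr 3; abel
        · rw [DihedralGroup.sr_mul_r]
          show T * A ^ (i + j).val = T * A ^ i.val * A ^ j.val
          rw [mul_assoc, ← hadd]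
        · rw [DihedralGroup.sr_mul_sr]
          show A ^ (j - i).val = T * A ^ i.val * (T * A ^ j.val)
          rw [← mul_assoc, hflip, ← hadd]; congr 2; abel }
  have hsurj : Function.Surjective φ := by
    rw [← MonoidHom.range_eq_top]
    have hgen : zpowers A ⊔ zpowers T = ⊤ := by
      rw [hA, hT, ← MonoidHom.map_zpowers, ← MonoidHom.map_zpowers, ← Subgroup.map_sup, htop,
        map_top_of_surjective _ (QuotientGroup.mk'_surjective _)]
    rw [eq_top_iff, ← hgen]
    refine sup_le (zpowers_le.mpr ⟨DihedralGroup.r 1, ?_⟩) (zpowers_le.mpr ⟨DihedralGroup.sr 0, ?_⟩)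
    · show A ^ (1 : ZMod m).val = A
      have h1 : (1 : ZMod m).val = 1 % m := ZMod.val_one_eq_one_mod m
      rw [h1]
      exact (hpm _ 1 (Nat.mod_mod _ _)).trans (pow_one A)
    · show T * A ^ (0 : ZMod m).val = T
      rw [ZMod.val_zero, pow_zero, mul_one]
  refine ⟨(MulEquiv.ofBijective φ ((Nat.bijective_iff_surjective_and_card _).mpr ⟨hsurj, ?_⟩)).symm⟩
  rw [DihedralGroup.nat_card, hq, hm2, mul_comm]

end Cfsg.Agent.S0114
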