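import Cfsg.Statements.S0115
import Cfsg.Agent.Lib.PGroup.MaximalClass

set_option autoImplicit false
open Cfsg

namespace Cfsg.Agent.S0115

open Subgroup
open scoped commutatorElement


/-- A 2-group of order 2^n, n ≥ 3, is of maximal class exactly when its commutator quotient is a Klein four-group. -/
theorem result {X : Type*} [Group X] [Finite X] (n : ℕ) (hn : 3 ≤ n) (hX : Nat.card X = 2 ^ n) : Group.nilpotencyClass X = n - 1 ↔ IsKleinFour (X ⧸ commutator X) := by
  haveI := Fact.mk Nat.prime_two
  have hXp := IsPGroup.of_card hX
  haveI := hXp.isNilpotent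
  constructor
  · intro hc
    obtain ⟨a, t, htop, -, -, hZa, ht, hta⟩ := CfsgLib.MaxClass.exists_generators hn hX hc
    obtain ⟨hZ, -, -⟩ := CfsgLib.MaxClass.center_of_class hX hn hc
    have hnc := CfsgLib.MaxClass.not_isMulCommutative_of_class hX hn hc
    have hD : commutator X ≠ ⊥ := fun h => hnc ((_root_.commutator_eq_bot_iff X).mp h)
    have hZD : center X ≤ commutator X := by
      have h1 : (⊤ : Subgroup X).lowerCentralSeries (n - 2) ≤ center X := by
        intro x hx
        rw [mem_center_iff]
        intro y
        have h2 : ⁅x, y⁆ ∈ (⊤ : Subgroup X).lowerCentralSeries (n - 2 + 1) := by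
          rw [Subgroup.lowerCentralSeries_succ]; exact commutator_mem_commutator hx (mem_top y)
        rw [show n - 2 + 1 = Group.nilpotencyClass X by omega,
          Subgroup.lowerCentralSeries_nilpotencyClass, mem_bot] at h2
        exact (commutatorElement_eq_one_iff_mul_comm.mp h2).symm
      have h2 : (⊤ : Subgroup X).lowerCentralSeries (n - 2) ≠ ⊥ := by
        intro h
        have := Subgroup.lowerCentralSeries_eq_bot_iff_nilpotencyClass_le.mp h
        omega
      have h3 : Nat.card ((⊤ : Subgroup X).lowerCentralSeries (n - 2)) = 2 :=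
        ((Nat.dvd_prime Nat.prime_two).mp ((card_dvd_of_le h1).trans (dvd_of_eq hZ))).resolve_left
          fun h => h2 (eq_bot_of_card_eq _ h)
      rw [← eq_of_le_of_card_ge h1 (by rw [h3, hZ]), ← Subgroup.top_lowerCentralSeries_one]
      exact Subgroup.lowerCentralSeries_antitone _ (by omega)
    obtain ⟨f, hf⟩ : ∃ f, f = QuotientGroup.mk' (commutator X) := ⟨_, rfl⟩
    have hcomm : ∀ u v : X ⧸ commutator X, u * v = v * u := fun u v => mul_comm (G := Abelianization X) u v
    have h1 : ∀ z ∈ center X, f z = 1 := fun z hz => hf ▸ (QuotientGroup.eq_one_iff z).mpr (hZD hz)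
    have hA2 : f a * f a = 1 := by
      have := h1 _ hta
      rw [map_mul, map_mul, map_mul, map_inv, hcomm (f t) (f a), mul_inv_cancel_right] at this
      exact this
    have hT2 : f t * f t = 1 := by rw [← map_mul, ← sq]; exact h1 _ ht
    have hall : ∀ x : X ⧸ commutator X, x * x = 1 := by
      intro x
      obtain ⟨y, rfl⟩ := QuotientGroup.mk'_surjective _ x
      let s : Subgroup X := { carrier := {y | f y * f y = 1}
                              one_mem' := by simp
                              mul_mem' := fun {u v} (hu : f u * f u = 1) (hv : f v * f v = 1) => by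
                                show f (u * v) * f (u * v) = 1
                                rw [map_mul, show f u * f v * (f u * f v) = (f u * f u) * (f v * f v) by
                                  rw [mul_assoc, ← mul_assoc (f v), hcomm (f v) (f u)]; simp [mul_assoc],
                                  hu, hv, one_mul]
                              inv_mem' := fun {u} (hu : f u * f u = 1) => by
                                show f u⁻¹ * f u⁻¹ = 1
                                rw [map_inv, ← mul_inv_rev, hu, inv_one] }
      have : y ∈ s := (sup_le (zpowers_le.mpr hA2) (zpowers_le.mpr hT2) : _ ≤ s) (htop ▸ mem_top y)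
      exact hf ▸ this
    have hnotcyc : ¬ IsCyclic (X ⧸ commutator X) := by
      intro hcy
      obtain ⟨g, hg⟩ := hcy.exists_generator
      obtain ⟨x, rfl⟩ := QuotientGroup.mk'_surjective _ g
      have hsup : zpowers x ⊔ commutator X = ⊤ := by
        refine top_le_iff.mp fun y _ => ?_
        obtain ⟨i, hi⟩ := mem_zpowers_iff.mp (hg (QuotientGroup.mk' _ y))
        rw [← map_zpow] at hi
        have := mul_mem_sup (T := commutator X) (zpow_mem (mem_zpowers x) i) (QuotientGroup.eq.mp hi)
        rwa [mul_inv_cancel_left] at this
      have := frattini_nongenerating (K := zpowers x)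
        (top_le_iff.mp (hsup.ge.trans (sup_le_sup_left (CfsgLib.PGroup.commutator_le_frattini hXp) _)))
      haveI : IsCyclic X := ⟨⟨x, fun y => mem_zpowers_iff.mp (this.ge (mem_top y))⟩⟩
      exact hnc IsCyclic.isMulCommutative
    have hexp : Monoid.exponent (X ⧸ commutator X) ∣ 2 :=
      Monoid.exponent_dvd_of_forall_pow_eq_one fun x => by rw [sq]; exact hall x
    have hne1 : Monoid.exponent (X ⧸ commutator X) ≠ 1 := fun h => hnotcyc (by
      haveI := Monoid.exp_eq_one_iff.mp h
      exact isCyclic_of_subsingleton)
    refine { card_four := ?_, exponent_two := ((Nat.dvd_prime Nat.prime_two).mp hexp).resolve_left hne1 }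
    have hA : Nat.card (zpowers (f a)) ≤ 2 := by
      rw [Nat.card_zpowers]
      exact Nat.le_of_dvd two_pos (orderOf_dvd_of_pow_eq_one (by rw [sq]; exact hA2))
    haveI hzn : (zpowers (f a)).Normal :=
      ⟨fun y hy x => by rw [hcomm x y, mul_inv_cancel_right]; exact hy⟩
    have hge : Nat.card (X ⧸ commutator X) ≤ 4 := by
      have htop' : zpowers (f a) ⊔ zpowers (f t) = ⊤ := by
        rw [← MonoidHom.map_zpowers, ← MonoidHom.map_zpowers, ← Subgroup.map_sup, htop, hf,
          map_top_of_surjective _ (QuotientGroup.mk'_surjective _)]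
      have h2 : Nat.card (zpowers (f t)) ≤ 2 := by
        rw [Nat.card_zpowers]
        exact Nat.le_of_dvd two_pos (orderOf_dvd_of_pow_eq_one (by rw [sq]; exact hT2))
      have h3 : Function.Surjective
          (fun x : zpowers (f a) × zpowers (f t) => (x.1 : X ⧸ commutator X) * x.2) := by
        intro y
        have hy : y ∈ zpowers (f a) ⊔ zpowers (f t) := htop' ▸ mem_top y
        rw [← SetLike.mem_coe, normal_mul] at hy
        obtain ⟨u, hu, v, hv, e⟩ := hy
        exact ⟨(⟨u, hu⟩, ⟨v, hv⟩), e⟩
      have := Nat.card_le_card_of_surjective _ h3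
      rw [Nat.card_prod] at this
      exact this.trans (Nat.mul_le_mul hA h2)
    obtain ⟨j, hj⟩ := (hXp.to_quotient (commutator X)).exists_card_eq
    rcases (show j = 0 ∨ j = 1 ∨ 2 ≤ j by omega) with rfl | rfl | h
    · haveI := (Nat.card_eq_one_iff_unique.mp (hj.trans (pow_zero 2))).1
      exact absurd isCyclic_of_subsingleton hnotcyc
    · exact absurd (isCyclic_of_prime_card (hj.trans (pow_one 2))) hnotcyc
    · have := Nat.pow_le_pow_right two_pos h
      omega
  · intro h
    exact CfsgLib.MaxClass.class_of_abelianization n X hn hX h.card_four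

end Cfsg.Agent.S0115
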