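import Cfsg.Statements.S0118
import Cfsg.Agent.Lib.PLocal5.SL2Free
import Cfsg.Agent.Lib.Techniques.Control
import Cfsg.Agent.Lib.Frobenius.ZJComplement
import Cfsg.Agent.Lib.OddOrder.CenterJNormal

set_option autoImplicit false
open Cfsg

namespace Cfsg.Agent.S0118

universe u

open CfsgLib

/-- `Z(J(Q))` as a functor. -/
def zJ (p : ℕ) (Q : Type u) [Group Q] : Subgroup Q := PLocal.centerJ p ⊤

theorem inducedFunctor_zJ (p : ℕ) {G : Type u} [Group G] (P : Subgroup G) :
    Cfsg.inducedFunctor (G := G) (zJ p) P = PLocal.centerJ p P := by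
  show (PLocal.centerJ p (⊤ : Subgroup P)).map P.subtype = _
  rw [← PLocal.centerJ_map P.subtype_injective, PLocal.map_subtype_top]

theorem isCharPFunctor_zJ {p : ℕ} [Fact p.Prime] : Cfsg.IsCharPFunctor.{u} p (zJ p) := by
  refine ⟨fun Q _ _ hQ hnt h0 => ?_, fun Q R _ _ _ _ φ => ?_⟩
  · exact Frobenius.ZJComp.zj_ne_bot (Or.inr rfl) (hQ.to_subgroup ⊤) top_ne_bot
      (le_bot_iff.1 ((PLocal.omegaOne_le p _).trans (le_of_eq h0)))
  · show (PLocal.centerJ p ⊤).map _ = PLocal.centerJ p ⊤
    rw [← PLocal.centerJ_map φ.injective, Subgroup.map_top_of_surjective _ φ.surjective]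

/-- Glauberman's ZJ-Theorem, in the case of groups with no section isomorphic to SL(2,p), p odd: conjugation of subsets of a Sylow p-subgroup P inside P is always induced from the normalizer of Z(J(P)). -/
theorem result {G : Type*} [Group G] [Finite G] {p : ℕ} [Fact p.Prime] (hp : p ≠ 2) (hfree : ¬ ∃ (H K : Subgroup G) (hK : (K.subgroupOf H).Normal), Nonempty ((H ⧸ K.subgroupOf H) ≃* Matrix.SpecialLinearGroup (Fin 2) (ZMod p))) (P : Sylow p G) (A : Set G) (hA : A ⊆ (P : Set G)) (g : G) (hAg : (fun a => g⁻¹ * a * g) '' A ⊆ (P : Set G)) : ∃ n ∈ Subgroup.normalizer (Cfsg.centerThompsonOf p (P : Subgroup G) : Set G), ∀ a ∈ A, n⁻¹ * a * n = g⁻¹ * a * g := by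
  have hfree' : ∀ (M : Subgroup G) (f : M →* Matrix.SpecialLinearGroup (Fin 2) (ZMod p)),
      ¬ Function.Surjective f := fun M f hf => by
    have e : ((f.ker).map M.subtype).subgroupOf M = f.ker :=
      Subgroup.comap_map_eq_self_of_injective M.subtype_injective _
    have hn : (((f.ker).map M.subtype).subgroupOf M).Normal := by rw [e]; infer_instance
    exact hfree ⟨M, (f.ker).map M.subtype, hn,
      ⟨(QuotientGroup.quotientMulEquivOfEq e).trans (QuotientGroup.quotientKerEquivOfSurjective f hf)⟩⟩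
  have h𝓦 : ∀ W ∈ ({zJ p} : Set (∀ (Q : Type _) [Group Q], Subgroup Q)), Cfsg.IsCharPFunctor p W :=
    fun W hW => by obtain rfl := hW; exact isCharPFunctor_zJ
  have hctl := Techniques.Fusion.fusCtrl_of_constrained (G := G) h𝓦 (fun X _ _ hX hc => ?_) G
    Techniques.Fusion.IsSectionOf.refl
  swap
  · intro S D h _ hD hh
    have hn := OddOrder.CenterJNormal.centerJ_normal hp hc (fun V _ hV => by
      by_contra hns
      obtain ⟨M, f, hf⟩ := SL2Free.exists_sl2_of_not_isPStableOn hp V hV hns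
      obtain ⟨K, R, hn, ⟨e⟩⟩ := hX.exists_quotient
      set s := e.toMonoidHom.comp (QuotientGroup.mk' (R.subgroupOf K))
      have hs : Function.Surjective s := e.surjective.comp (QuotientGroup.mk'_surjective _)
      set M' := (M.comap s).map K.subtype
      have e' := (M.comap s).equivMapOfInjective K.subtype K.subtype_injective
      refine hfree' M' ((f.comp (s.subgroupComap M)).comp e'.symm.toMonoidHom)
        ((hf.comp ?_).comp e'.symm.surjective)
      rintro ⟨z, hz⟩
      obtain ⟨g, rfl⟩ := hs z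
      exact ⟨⟨g, hz⟩, rfl⟩) S
    refine Techniques.Fusion.chain_step (Ms := Techniques.Fusion.stepGroups {zJ p} (S : Subgroup X)) (M := Subgroup.normalizer ((Cfsg.inducedFunctor (G := X) (zJ p) (S : Subgroup X) : Subgroup X) : Set X)) ⟨zJ p, rfl, rfl⟩ ?_ hh
    rw [inducedFunctor_zJ, Subgroup.normalizer_eq_top (PLocal.centerJ p (S : Subgroup X))]
    exact Subgroup.mem_top _
  have hD : Subgroup.closure A ≤ (P : Subgroup G) := (Subgroup.closure_le _).2 hA
  have hgD : (Subgroup.closure A).map (MulAut.conj g⁻¹).toMonoidHom ≤ (P : Subgroup G) := by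
    rw [MonoidHom.map_closure, Subgroup.closure_le]
    rintro _ ⟨a, ha, rfl⟩
    exact hAg ⟨a, ha, by simp⟩
  have hc := hctl P _ g⁻¹ (Subgroup.mem_top _) hD hgD
  rw [Techniques.Fusion.stepGroups, Set.image_singleton] at hc
  obtain ⟨x, hx, hx'⟩ := hc.exists_mem
  refine ⟨x⁻¹, ?_, fun a ha => ?_⟩
  · rw [PLocal.centerThompsonOf_eq, ← inducedFunctor_zJ]
    exact inv_mem hx
  · have := hx' a (Subgroup.subset_closure ha)
    rw [inv_inv] at this ⊢
    exact this

end Cfsg.Agent.S0118
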