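import Cfsg.Statements.S0119
import Cfsg.Agent.Lib.PGroup.Frattini
import Cfsg.Agent.Lib.PGroup.Class2

set_option autoImplicit false
open Cfsg
open scoped commutatorElement

namespace Cfsg.Agent.S0119

/-- If a p'-group A of automorphisms of a p-group G satisfies G = [G, A] and acts trivially on every characteristic abelian subgroup, then G is special with centre equal to the fixed points of A. -/
theorem result {G : Type*} [Group G] [Finite G] {p : ℕ} [Fact p.Prime] (hG : IsPGroup p G) (A : Subgroup (MulAut G)) (hA : Nat.Coprime (Nat.card A) p) (hGA : Subgroup.closure {x : G | ∃ g : G, ∃ a ∈ A, x = g⁻¹ * a g} = ⊤) (hchar : ∀ H : Subgroup G, H.Characteristic → IsMulCommutative H → ∀ a ∈ A, ∀ h ∈ H, a h = h) : Cfsg.IsSpecial p G ∧ (∀ g : G, (g ∈ Subgroup.center G ↔ ∀ a ∈ A, a g = g)) := by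
  classical
  have hp : p.Prime := Fact.out
  -- characteristic abelian subgroups are central
  have hcen : ∀ H : Subgroup G, H.Characteristic → IsMulCommutative H → H ≤ Subgroup.center G := by
    intro H hH hHc x hx
    rw [Subgroup.mem_center_iff]
    have hle : Subgroup.closure {y : G | ∃ g : G, ∃ a ∈ A, y = g⁻¹ * a g} ≤
        Subgroup.centralizer ({x} : Set G) := by
      rw [Subgroup.closure_le]
      rintro y ⟨g, a, ha, rfl⟩
      rw [SetLike.mem_coe, Subgroup.mem_centralizer_singleton_iff]
      have hn : H.Normal := inferInstance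
      have h4 : a (g * x * g⁻¹) = g * x * g⁻¹ := hchar H hH hHc a ha _ (hn.conj_mem x hx g)
      rw [map_mul, map_mul, map_inv, hchar H hH hHc a ha x hx] at h4
      have h5 : g⁻¹ * (a g * x * (a g)⁻¹) * g = x := by rw [h4]; group
      symm
      calc x * (g⁻¹ * a g) = g⁻¹ * (a g * x * (a g)⁻¹) * g * (g⁻¹ * a g) := by rw [h5]
        _ = g⁻¹ * a g * x := by group
    intro g
    exact Subgroup.mem_centralizer_singleton_iff.1 (hle (hGA ▸ Subgroup.mem_top g))
  have : Group.IsNilpotent G := hG.isNilpotent
  -- class at most two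
  have hd : commutator G ≤ Subgroup.center G := by
    have hL : commutator G ⊓ Subgroup.upperCentralSeries G 2 ≤ Subgroup.center G := by
      refine hcen _ inferInstance ?_
      rw [← Subgroup.le_centralizer_iff_isMulCommutative,
        ← Subgroup.commutator_eq_bot_iff_le_centralizer]
      have h1 : ⁅Subgroup.upperCentralSeries G 2, (⊤ : Subgroup G)⁆ ≤ Subgroup.center G := by
        rw [Subgroup.commutator_le]
        intro x hx y _
        rw [← Subgroup.upperCentralSeries_one]
        exact Subgroup.mem_upperCentralSeries_succ_iff.1 hx y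
      have h2 : ⁅⁅Subgroup.upperCentralSeries G 2, (⊤ : Subgroup G)⁆, (⊤ : Subgroup G)⁆ = ⊥ := by
        rw [← le_bot_iff]
        refine (Subgroup.commutator_mono h1 le_rfl).trans (le_bot_iff.2 ?_)
        rw [Subgroup.commutator_eq_bot_iff_le_centralizer, Subgroup.coe_top,
          Subgroup.centralizer_univ]
      have h3 : ⁅commutator G, Subgroup.upperCentralSeries G 2⁆ = ⊥ := by
        rw [commutator_def]
        refine Subgroup.commutator_commutator_eq_bot_of_rotate ?_ h2
        rw [Subgroup.commutator_comm ⊤ (Subgroup.upperCentralSeries G 2)]; exact h2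
      exact le_bot_iff.1 (h3 ▸ Subgroup.commutator_mono inf_le_left inf_le_right)
    have key : ∀ i, commutator G ⊓ Subgroup.upperCentralSeries G i ≤ Subgroup.center G := by
      intro i
      induction i with
      | zero => simp
      | succ i ih =>
        intro x hx
        refine hL ⟨hx.1, Subgroup.mem_upperCentralSeries_succ_iff.2 fun y => ?_⟩
        rw [Subgroup.upperCentralSeries_one]
        exact ih ⟨Subgroup.commutator_mem_commutator (Subgroup.mem_top x) (Subgroup.mem_top y),
          Subgroup.mem_upperCentralSeries_succ_iff.1 hx.2 y⟩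
    obtain ⟨n, hn⟩ := Group.IsNilpotent.nilpotent G
    simpa [hn] using key n
  -- fixed points lie in the derived subgroup
  have : Fintype A := Fintype.ofFinite A
  have hfix : ∀ z : G, (∀ a ∈ A, a z = z) → z ∈ commutator G := by
    let φ := Abelianization.of (G := G)
    let N : G →* Abelianization G := ∏ a : A, φ.comp (a : MulAut G).toMonoidHom
    have hN : ∀ x, N x = ∏ a : A, φ ((a : MulAut G) x) := fun x => by simp [N]
    have hN1 : ∀ g, ∀ b : A, N ((b : MulAut G) g) = N g := fun g b => by
      rw [hN, hN]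
      exact Fintype.prod_equiv (Equiv.mulRight b) _ _ (fun a => by simp)
    have hzero : Subgroup.closure {y : G | ∃ g : G, ∃ a ∈ A, y = g⁻¹ * a g} ≤ N.ker := by
      rw [Subgroup.closure_le]
      rintro y ⟨g, a, ha, rfl⟩
      rw [SetLike.mem_coe, MonoidHom.mem_ker, map_mul, hN1 g ⟨a, ha⟩, map_inv, inv_mul_cancel]
    intro z hz
    have h1 : N z = 1 := MonoidHom.mem_ker.1 (hzero (hGA ▸ Subgroup.mem_top z))
    have h2 : (∏ a : A, φ ((a : MulAut G) z)) = φ z ^ Nat.card A := by
      rw [Finset.prod_congr rfl (fun (a : A) _ => by rw [hz a a.2]), Finset.prod_const,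
        Nat.card_eq_fintype_card, Finset.card_univ]
    rw [hN, h2] at h1
    obtain ⟨k, hk⟩ := IsPGroup.iff_orderOf.1 hG z
    have h3 : φ z ^ p ^ k = 1 := by rw [← map_pow, ← hk, pow_orderOf_eq_one, map_one]
    have h4 := pow_gcd_eq_one.2 ⟨h1, h3⟩
    rw [(Nat.Coprime.pow_right k hA).gcd_eq_one, pow_one] at h4
    rw [← Abelianization.ker_of]
    exact h4
  have hZfix : ∀ z ∈ Subgroup.center G, ∀ a ∈ A, a z = z := fun z hz a ha =>
    hchar _ inferInstance inferInstance a ha z hz
  have hZd : Subgroup.center G = commutator G :=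
    le_antisymm (fun z hz => hfix z (hZfix z hz)) hd
  -- exponent of the central quotient
  have hpow : ∀ x : G, x ^ p ∈ Subgroup.center G := by
    have hex : ∃ e, ∀ x : G, x ^ p ^ e ∈ Subgroup.center G := by
      obtain ⟨n, hn⟩ := IsPGroup.iff_card.1 hG
      exact ⟨n, fun x => by rw [← hn, pow_card_eq_one']; exact Subgroup.one_mem _⟩
    obtain ⟨e, he, hmin⟩ : ∃ e, (∀ x : G, x ^ p ^ e ∈ Subgroup.center G) ∧
        ∀ f < e, ¬ ∀ x : G, x ^ p ^ f ∈ Subgroup.center G :=
      ⟨Nat.find hex, Nat.find_spec hex, fun f => Nat.find_min hex⟩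
    rcases le_or_gt e 1 with h | h
    · intro x
      obtain ⟨c, hc⟩ := pow_dvd_pow p h
      rw [pow_one] at hc
      rw [hc, pow_mul]; exact Subgroup.pow_mem _ (he x) _
    · exfalso
      set a := p ^ (e - 1) with ha
      refine hmin (e - 1) (by omega) ?_
      set S : Set G := Set.range fun x : G => x ^ a with hS
      have hcomm : ∀ x y : G, Commute (x ^ a) (y ^ a) := by
        intro x y
        have hxy : ∀ s t : G, ⁅s, t⁆ ∈ Subgroup.center G := fun s t =>
          hd (Subgroup.commutator_mem_commutator (Subgroup.mem_top s) (Subgroup.mem_top t))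
        rw [← commutatorElement_eq_one_iff_commute,
          CfsgLib.PGroup.commutatorElement_pow_left_of_central (hxy _ _),
          CfsgLib.PGroup.commutatorElement_pow_right_of_central (hxy _ _), ← pow_mul,
          ← CfsgLib.PGroup.commutatorElement_pow_left_of_central (hxy _ _),
          commutatorElement_eq_one_iff_mul_comm]
        have : x ^ (a * a) ∈ Subgroup.center G := by
          obtain ⟨c, hc⟩ := pow_dvd_pow p (show e ≤ (e - 1) + (e - 1) by omega)
          rw [ha, ← pow_add, hc, pow_mul]; exact Subgroup.pow_mem _ (he x) _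
        exact (Subgroup.mem_center_iff.1 this y).symm
      have hle := hcen (Subgroup.closure S) ?_ ?_
      · exact fun x => hle (Subgroup.subset_closure ⟨x, rfl⟩)
      · rw [Subgroup.characteristic_iff_map_le]
        intro φ
        rw [MonoidHom.map_closure]
        refine Subgroup.closure_mono ?_
        rintro _ ⟨_, ⟨x, rfl⟩, rfl⟩
        exact ⟨φ x, by simp⟩
      · exact Subgroup.isMulCommutative_closure (by rintro _ ⟨x, rfl⟩ _ ⟨y, rfl⟩; exact hcomm x y)
  refine ⟨⟨hG, ?_, hZd.symm⟩, fun g => ⟨hZfix g, fun h => hd (hfix g h)⟩⟩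
  exact le_antisymm (CfsgLib.PGroup.frattini_le_of _ hd hpow)
    (hZd ▸ CfsgLib.PGroup.commutator_le_frattini hG)

end Cfsg.Agent.S0119
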