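import Cfsg.Statements.S0120
import Cfsg.Agent.Lib.OddOrder41.FixOmega
import Mathlib.GroupTheory.SemidirectProduct

set_option autoImplicit false
open Cfsg

namespace Cfsg.Agent.S0120

/-- For odd p, a p'-automorphism of a p-group acting trivially on the elements of order dividing p is trivial. -/
theorem result {G : Type*} [Group G] [Finite G] {p : ℕ} [Fact p.Prime] (hp : p ≠ 2) (hG : IsPGroup p G) (a : MulAut G) (ha : Nat.Coprime (orderOf a) p) (h : ∀ x : G, x ^ p = 1 → a x = x) : a = 1 := by
  have : Finite (MulAut G) := Finite.of_injective _ DFunLike.coe_injective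
  let S := SemidirectProduct G (MulAut G) (MonoidHom.id (MulAut G))
  have : Finite S := Finite.of_equiv _ SemidirectProduct.equivProd.symm
  have hkey : ∀ g : G, (SemidirectProduct.inr a : S) * SemidirectProduct.inl g *
      (SemidirectProduct.inr a)⁻¹ = SemidirectProduct.inl (a g) := fun g => by
    rw [← map_inv]; exact (SemidirectProduct.inl_aut (φ := MonoidHom.id (MulAut G)) a g).symm
  have hfix := CfsgLib.OddOrder41.fixes_of_fixes_exponent_p hp (SemidirectProduct.inr a : S)
    (by rw [orderOf_injective _ SemidirectProduct.inr_injective]; exact ha)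
    _ (SemidirectProduct.inl : G →* S).range rfl
    (hG.of_surjective _ (MonoidHom.rangeRestrict_surjective _))
    (fun x hx => by
      obtain ⟨g, rfl⟩ := hx
      exact ⟨a g, (hkey g).symm⟩)
    (fun x hx hxp => by
      obtain ⟨g, rfl⟩ := hx
      rw [← map_pow] at hxp
      have hg : g ^ p = 1 := SemidirectProduct.inl_injective (hxp.trans (map_one _).symm)
      rw [← mul_inv_eq_iff_eq_mul, hkey g, h g hg])
  ext g
  have h1 := hfix _ ⟨g, rfl⟩
  have h2 : SemidirectProduct.inl (a g) = (SemidirectProduct.inl g : S) := by
    rw [← hkey g, h1, mul_inv_cancel_right]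
  simpa using SemidirectProduct.inl_injective h2

end Cfsg.Agent.S0120
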