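import Cfsg.Statements.S0121


set_option autoImplicit false
open Cfsg

namespace Cfsg.Agent.S0121

/-- A p'-automorphism of a p-group acting trivially on a critical subgroup is trivial. -/
theorem result {G : Type*} [Group G] [Finite G] {p : ℕ} [Fact p.Prime] (hG : IsPGroup p G) (H : Subgroup G) (hH : H.Characteristic) (h1 : (frattini H).map H.subtype ≤ Subgroup.centralizer (H : Set G)) (h2 : ⁅H, (⊤ : Subgroup G)⁆ ≤ H ⊓ Subgroup.centralizer (H : Set G)) (h3 : Subgroup.centralizer (H : Set G) ≤ H) (a : MulAut G) (ha : Nat.Coprime (orderOf a) p) (h : ∀ x ∈ H, a x = x) : a = 1 := by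
  have key : ∀ g : G, a g = g * (g⁻¹ * a g) ∧ g⁻¹ * a g ∈ H := by
    intro g
    refine ⟨by group, h3 ?_⟩
    rw [Subgroup.mem_centralizer_iff]
    intro x hx
    have hn : H.Normal := inferInstance
    have h4 : a (g * x * g⁻¹) = g * x * g⁻¹ := h _ (hn.conj_mem x hx g)
    rw [map_mul, map_mul, map_inv, h x hx] at h4
    have h5 : g⁻¹ * (a g * x * (a g)⁻¹) * g = x := by rw [h4]; group
    calc x * (g⁻¹ * a g) = g⁻¹ * (a g * x * (a g)⁻¹) * g * (g⁻¹ * a g) := by rw [h5]
      _ = g⁻¹ * a g * x := by group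
  have hpow : ∀ (g : G) (n : ℕ), (a ^ n) g = g * (g⁻¹ * a g) ^ n := by
    intro g n
    induction n with
    | zero => simp
    | succ n ih =>
      rw [pow_succ', MulAut.mul_apply, ih, map_mul, map_pow, h _ (key g).2, pow_succ',
        ← mul_assoc g, ← (key g).1]
  ext g
  have h1 := hpow g (orderOf a)
  rw [pow_orderOf_eq_one, MulAut.one_apply, left_eq_mul] at h1
  have h2 : orderOf (g⁻¹ * a g) = 1 := by
    obtain ⟨k, hk⟩ := (IsPGroup.iff_orderOf.1 hG) (g⁻¹ * a g)
    have h6 := Nat.dvd_gcd (orderOf_dvd_of_pow_eq_one h1) (dvd_refl (orderOf (g⁻¹ * a g)))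
    rw [hk] at h6 ⊢
    have h7 : (orderOf a).gcd (p ^ k) = 1 := Nat.Coprime.pow_right k ha
    rw [h7] at h6
    exact Nat.eq_one_of_dvd_one h6
  rw [orderOf_eq_one_iff, inv_mul_eq_one] at h2
  simpa using h2.symm

end Cfsg.Agent.S0121
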