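import Cfsg.Statements.S0125
import Cfsg.Agent.Lib.PCore.PSolvable
import Cfsg.Agent.Lib.Coprime.Basic

set_option autoImplicit false
open Cfsg

namespace Cfsg.Agent.S0125

/-- The centralizer of a self-centralizing normal subgroup A of a Sylow p-subgroup is the direct product of A with a normal p'-subgroup. -/
theorem result {G : Type*} [Group G] [Finite G] {p : ℕ} [Fact p.Prime] (R : Sylow p G) (A : Subgroup G) (hAR : A ≤ (R : Subgroup G)) (hAn : (R : Subgroup G) ≤ Subgroup.normalizer (A : Set G)) (hC : (R : Subgroup G) ⊓ Subgroup.centralizer (A : Set G) = A) : ∃ H : Subgroup G, H ≤ Subgroup.centralizer (A : Set G) ∧ Nat.Coprime (Nat.card H) p ∧ Subgroup.centralizer (A : Set G) ≤ Subgroup.normalizer (H : Set G) ∧ H ⊓ A = ⊥ ∧ H ⊔ A = Subgroup.centralizer (A : Set G) := by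
  classical
  have hp : p.Prime := Fact.out
  set C : Subgroup G := Subgroup.centralizer (A : Set G) with hCdef
  have hAC : A ≤ C := hC ▸ inf_le_right
  set Z : Subgroup C := A.subgroupOf C with hZ
  have hZc : Z ≤ Subgroup.center C := by
    intro z hz
    rw [Subgroup.mem_center_iff]
    intro g
    exact Subtype.ext ((Subgroup.mem_centralizer_iff.1 g.2) z (Subgroup.mem_subgroupOf.1 hz)).symm
  have hRC : (R : Subgroup G) ≤ Subgroup.normalizer (C : Set G) := by
    refine hAn.trans fun g hg => ?_
    rw [Subgroup.mem_normalizer_iff]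
    intro x
    simp only [hCdef, Subgroup.mem_centralizer_iff]
    constructor
    · intro hx a ha
      have h2 := hx (g⁻¹ * a * g) (by
        have := (Subgroup.mem_normalizer_iff.1 hg (g⁻¹ * a * g)).2
        exact this (by simpa [mul_assoc] using ha))
      calc a * (g * x * g⁻¹) = g * ((g⁻¹ * a * g) * x) * g⁻¹ := by group
        _ = g * x * g⁻¹ * a := by rw [h2]; group
    · intro hx a ha
      have h2 := hx (g * a * g⁻¹) ((Subgroup.mem_normalizer_iff.1 hg a).1 ha)
      calc a * x = g⁻¹ * ((g * a * g⁻¹) * (g * x * g⁻¹)) * g := by group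
        _ = x * a := by rw [h2]; group
  have hidx : ¬ p ∣ Z.index := by
    have e1 := CfsgLib.Coprime.card_sup_mul_card_inf hRC
    have e2 : Nat.card ↥((R : Subgroup G) ⊓ C) * ((R : Subgroup G) ⊓ C).relIndex C = Nat.card C := by
      rw [← Subgroup.relIndex_bot_left, Subgroup.relIndex_mul_relIndex _ _ _ bot_le inf_le_right,
        Subgroup.relIndex_bot_left]
    have e3 : Nat.card ↥((R : Subgroup G) ⊔ C) = Nat.card (R : Subgroup G) *
        ((R : Subgroup G) ⊓ C).relIndex C :=
      Nat.eq_of_mul_eq_mul_right Nat.card_pos (Eq.trans (by rw [inf_comm]) (e1.trans (by rw [← e2]; ring)))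
    have e4 : ((R : Subgroup G) ⊓ C).relIndex C ∣ (R : Subgroup G).index :=
      (Nat.mul_dvd_mul_iff_left (Nat.card_pos (α := (R : Subgroup G)))).1 (by
        rw [← e3, Subgroup.card_mul_index]; exact Subgroup.card_subgroup_dvd_card _)
    change ¬ p ∣ A.relIndex C
    rw [← hC]
    exact fun h => R.not_dvd_index (h.trans e4)
  have htop := CfsgLib.PCore.sup_pPrimeCore_eq_top_of_central Z hZc
    ((R.isPGroup'.to_le hAR).comap_of_injective _ C.subtype_injective)
    (CfsgLib.PCore.coprime_of_not_dvd_card hidx)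
  refine ⟨(Cfsg.pPrimeCore p C).map C.subtype, Subgroup.map_subtype_le _,
    Nat.Coprime.coprime_dvd_left (Subgroup.card_map_dvd _ _) CfsgLib.PCore.pPrimeCore_coprime,
    ?_, ?_, ?_⟩
  · have hn : ((Cfsg.pPrimeCore p C).map C.subtype).subgroupOf C = Cfsg.pPrimeCore p C :=
      Subgroup.comap_map_eq_self_of_injective C.subtype_injective _
    rw [← Subgroup.normal_subgroupOf_iff_le_normalizer (Subgroup.map_subtype_le _), hn]
    infer_instance
  · rw [inf_comm]
    exact CfsgLib.PCore.inf_eq_bot_of_isPGroup_coprime (p := p) (R.isPGroup'.to_le hAR)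
      (Nat.Coprime.coprime_dvd_left (Subgroup.card_map_dvd _ _) CfsgLib.PCore.pPrimeCore_coprime)
  · rw [← Subgroup.map_subgroupOf_eq_of_le hAC, ← Subgroup.map_sup, sup_comm, htop,
      ← MonoidHom.range_eq_map, Subgroup.range_subtype]

end Cfsg.Agent.S0125
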