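import Cfsg.Statements.S0126
import Cfsg.Agent.Lib.PGroup.NormalSquare
import Cfsg.Agent.Lib.SubgroupCount.Basic

set_option autoImplicit false
open Cfsg

namespace Cfsg.Agent.S0126

/-- For odd p, every non-cyclic p-group contains a normal elementary abelian subgroup of order p^2. -/
theorem result {R : Type*} [Group R] [Finite R] {p : ℕ} [Fact p.Prime] (hp : p ≠ 2) (hR : IsPGroup p R) (hnc : ¬ IsCyclic R) : ∃ A : Subgroup R, A.Normal ∧ Cfsg.IsElementaryAbelian p A ∧ Nat.card A = p ^ 2 := by
  classical
  have hpp : p.Prime := Fact.out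
  have hex : ∃ B : Subgroup R, IsMulCommutative B ∧ ¬ IsCyclic B := by
    by_contra! hcon
    refine hnc ?_
    obtain ⟨n, hn⟩ := IsPGroup.iff_card.1 hR
    refine CfsgLib.SubgroupCount.isCyclic_of_unique hpp n hn ?_ (fun h => absurd h hp)
    -- every element of order `p` lies with a central one in a cyclic group
    intro a b ha hb
    have : Nontrivial R := ⟨⟨a, 1, fun h => by rw [h, orderOf_one] at ha; exact hpp.one_lt.ne ha⟩⟩
    have := hR.center_nontrivial
    have hdvd : p ∣ Nat.card (Subgroup.center R) := by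
      obtain ⟨k, hk⟩ := (hR.to_subgroup (Subgroup.center R)).exists_card_eq
      rw [hk]
      refine dvd_pow_self p fun h0 => ?_
      have := Finite.one_lt_card (α := Subgroup.center R)
      rw [hk, h0] at this
      simp at this
    obtain ⟨⟨z, hzc⟩, hz⟩ := exists_prime_orderOf_dvd_card' p hdvd
    rw [← Subgroup.orderOf_coe] at hz
    have hz' : orderOf z = p := hz
    have key : ∀ c : R, orderOf c = p → Subgroup.zpowers c = Subgroup.zpowers z := by
      intro c hc
      set B := Subgroup.zpowers z ⊔ Subgroup.zpowers c with hB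
      have hBab : IsMulCommutative B := by
        have hle : B = Subgroup.closure {z, c} := by
          rw [hB, Subgroup.zpowers_eq_closure, Subgroup.zpowers_eq_closure, ← Subgroup.closure_union]
          rfl
        rw [hle]
        refine Subgroup.isMulCommutative_closure ?_
        rintro x (rfl | rfl) y (rfl | rfl)
        · rfl
        · exact (Subgroup.mem_center_iff.1 hzc y).symm
        · exact Subgroup.mem_center_iff.1 hzc x
        · rfl
      have := hcon B hBab
      have hft : Fintype B := Fintype.ofFinite B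
      set c' : B := ⟨c, Subgroup.mem_sup_right (Subgroup.mem_zpowers c)⟩
      set z' : B := ⟨z, Subgroup.mem_sup_left (Subgroup.mem_zpowers z)⟩
      set S : Finset B := Finset.univ.filter fun x => x ^ p = 1 with hS
      set T : Finset B := (Subgroup.zpowers z' : Set B).toFinset with hT
      have hsub : T ⊆ S := by
        intro x hx
        rw [hT, Set.mem_toFinset] at hx
        obtain ⟨i, rfl⟩ := Subgroup.mem_zpowers_iff.1 hx
        rw [hS, Finset.mem_filter]
        refine ⟨Finset.mem_univ _, ?_⟩
        rw [← zpow_natCast, ← zpow_mul, mul_comm, zpow_mul, zpow_natCast,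
          show z' ^ p = 1 from Subtype.ext (by simpa [z', hz'] using pow_orderOf_eq_one z), one_zpow]
      have hcard : S.card ≤ T.card := by
        refine (IsCyclic.card_pow_eq_one_le (α := B) hpp.pos).trans (le_of_eq ?_)
        rw [hT, Set.toFinset_card, ← Nat.card_eq_fintype_card]
        show p = Nat.card (Subgroup.zpowers z')
        rw [Nat.card_zpowers, Subgroup.orderOf_mk, hz']
      have hcS : c' ∈ S := by
        rw [hS, Finset.mem_filter]
        exact ⟨Finset.mem_univ _, Subtype.ext (by simpa [c', hc] using pow_orderOf_eq_one c)⟩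
      rw [← Finset.eq_of_subset_of_card_le hsub hcard, hT, Set.mem_toFinset] at hcS
      have hle : Subgroup.zpowers c ≤ Subgroup.zpowers z := by
        rw [Subgroup.zpowers_le]
        obtain ⟨i, hi⟩ := Subgroup.mem_zpowers_iff.1 hcS
        exact ⟨i, by simpa [c', z'] using congrArg Subtype.val hi⟩
      exact Subgroup.eq_of_le_of_card_ge hle (by rw [Nat.card_zpowers, Nat.card_zpowers, hc, hz'])
    rw [key a ha, ← key b hb]
    exact Subgroup.mem_zpowers b
  obtain ⟨A, hAn, hAab, hAnc⟩ : ∃ A : Subgroup R, A.Normal ∧ IsMulCommutative A ∧ ¬ IsCyclic A := by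
    by_contra! hn
    exact hp (Cfsg.Agent.S0519.result p hR hn hex).1
  let _ : CommGroup A := { (inferInstance : Group A) with mul_comm := hAab.is_comm.comm }
  let W : Subgroup R :=
    { carrier := {x | x ∈ A ∧ x ^ p = 1}
      one_mem' := ⟨one_mem _, one_pow p⟩
      mul_mem' := fun {a b} ha hb => ⟨mul_mem ha.1 hb.1, by
        rw [(show Commute a b from setLike_mul_comm ha.1 hb.1).mul_pow, ha.2, hb.2, one_mul]⟩
      inv_mem' := fun {a} ha => ⟨inv_mem ha.1, by rw [inv_pow, ha.2, inv_one]⟩ }
  have hWn : W.Normal :=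
    ⟨fun x hx g => ⟨hAn.conj_mem x hx.1 g, by rw [conj_pow, hx.2, mul_one, mul_inv_cancel]⟩⟩
  have hW : Cfsg.IsElementaryAbelian p W :=
    ⟨⟨⟨fun a b => Subtype.ext (setLike_mul_comm a.2.1 b.2.1)⟩⟩, fun x hx => hx.2⟩
  obtain ⟨j, hj⟩ := CfsgLib.OddOrder.elemAb_card hW
  have hj2 : 2 ≤ j := by
    by_contra hlt
    refine hAnc (CfsgLib.PGroup39.isCyclic_of_omega_le (hR.to_subgroup A) (le_trans (le_of_eq ?_)
      (show Nat.card W ≤ p by
        rw [hj]
        exact (Nat.pow_le_pow_right hpp.pos (by omega : j ≤ 1)).trans (pow_one p).le)))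
    exact Nat.card_congr
      { toFun := fun a => ⟨a.1.1, a.1.2, by simpa using congrArg Subtype.val (a.2 : a.1 ^ p = 1)⟩
        invFun := fun w => ⟨⟨w.1, w.2.1⟩, Subtype.ext (by simpa using w.2.2)⟩
        left_inv := fun a => rfl
        right_inv := fun w => rfl }
  clear_value W
  revert hW hWn hj
  induction j, hj2 using Nat.le_induction generalizing W with
  | base => exact fun h1 h2 h3 => ⟨W, h1, h2, h3⟩
  | succ j hj ih =>
    intro hWn hW hcard
    have hWne : W ≠ ⊥ := fun h => by
      rw [h, Subgroup.card_bot] at hcard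
      exact absurd hcard (ne_of_lt (Nat.one_lt_pow (by omega) hpp.one_lt))
    obtain ⟨B, hBn, hBW, hBi, -⟩ := CfsgLib.PGroupBasic.exists_normal_relIndex_eq hR W hWne
    refine ih B hBn (CfsgLib.OddOrder.elemAb_mono hW hBW) ?_
    have h := Subgroup.relIndex_mul_relIndex ⊥ B W bot_le hBW
    rw [Subgroup.relIndex_bot_left, Subgroup.relIndex_bot_left, hBi, hcard, pow_succ] at h
    exact Nat.eq_of_mul_eq_mul_right hpp.pos h

end Cfsg.Agent.S0126
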