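import Cfsg.Statements.S0127
import Cfsg.Agent.Lib.PLocal5.SmallRank
import Cfsg.Agent.Lib.PGroup.Class2

set_option autoImplicit false
open Cfsg
open scoped commutatorElement

namespace Cfsg.Agent.S0127

/-- For odd p, in a non-cyclic p-group with a cyclic subgroup of index p, the elements of order dividing p generate an elementary abelian subgroup of order p^2. -/
theorem result {R : Type*} [Group R] [Finite R] {p : ℕ} [Fact p.Prime] (hp : p ≠ 2) (hR : IsPGroup p R) (hnc : ¬ IsCyclic R) (C : Subgroup R) (hC : IsCyclic C) (hCi : C.index = p) : Cfsg.IsElementaryAbelian p (Subgroup.closure {x : R | x ^ p = 1}) ∧ Nat.card (Subgroup.closure {x : R | x ^ p = 1}) = p ^ 2 := by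
  classical
  have hp' : p.Prime := Fact.out
  have hodd : Odd p := hp'.odd_of_ne_two hp
  obtain ⟨⟨g, hgC⟩, hg⟩ := hC.exists_generator
  have hgC' : ∀ c ∈ C, c ∈ Subgroup.zpowers g := fun c hc => by
    obtain ⟨i, hi⟩ := Subgroup.mem_zpowers_iff.1 (hg ⟨c, hc⟩)
    exact Subgroup.mem_zpowers_iff.2 ⟨i, congrArg Subtype.val hi⟩
  obtain ⟨m, hm⟩ := IsPGroup.iff_card.1 hR
  have hm1 : 1 ≤ m := by
    by_contra h
    have : Nat.card R = 1 := by rw [hm, show m = 0 by omega, pow_zero]
    have := (Nat.card_eq_one_iff_unique.1 this).1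
    exact hnc inferInstance
  have hCn : C.Normal := by
    refine Subgroup.normal_of_index_eq_minFac_card ?_
    rw [hCi, hm, Nat.pow_minFac (by omega), hp'.minFac_eq]
  have hcardC : Nat.card C * p = p ^ m := by rw [← hm, ← hCi, Subgroup.card_mul_index]
  -- an element outside `C`
  obtain ⟨x, hx⟩ : ∃ x, x ∉ C := by
    by_contra h
    push Not at h
    have hC' : C = ⊤ := (Subgroup.eq_top_iff' C).2 h
    rw [hC', Subgroup.index_top] at hCi
    exact hp'.one_lt.ne hCi
  have hgen : Subgroup.zpowers g ⊔ Subgroup.zpowers x = ⊤ := by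
    have hle : C ≤ Subgroup.zpowers g := hgC'
    have h1 : C < Subgroup.zpowers g ⊔ Subgroup.zpowers x :=
      lt_of_le_of_ne (hle.trans le_sup_left) fun he =>
        hx (he ▸ Subgroup.mem_sup_right (Subgroup.mem_zpowers x))
    have h2 := Subgroup.relIndex_mul_index h1.le
    rw [hCi] at h2
    rcases (Nat.dvd_prime hp').1 (Dvd.intro_left _ h2) with h3 | h3
    · exact Subgroup.index_eq_one.1 h3
    · rw [h3] at h2
      have : C.relIndex (Subgroup.zpowers g ⊔ Subgroup.zpowers x) = 1 :=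
        Nat.eq_of_mul_eq_mul_right hp'.pos (h2.trans (one_mul p).symm)
      exact absurd (Subgroup.relIndex_eq_one.1 this) (not_le_of_gt h1)
  -- the commutator `u` of the generators
  set u := ⁅x, g⁆ with hu
  have huC : u ∈ C := Subgroup.mul_mem _ (hCn.conj_mem g hgC x) (Subgroup.inv_mem _ hgC)
  have hup : u ^ p = 1 := by
    obtain ⟨r, hr⟩ := Subgroup.mem_zpowers_iff.1 (hgC' _ (hCn.conj_mem g hgC x))
    have hpow : ∀ i : ℕ, x ^ i * g * (x ^ i)⁻¹ = g ^ (r ^ i) := by
      intro i
      induction i with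
      | zero => simp
      | succ i ih =>
        calc x ^ (i + 1) * g * (x ^ (i + 1))⁻¹ = x ^ i * (x * g * x⁻¹) * (x ^ i)⁻¹ := by
              rw [pow_succ]; group
          _ = (x ^ i * g * (x ^ i)⁻¹) ^ r := by rw [← hr, conj_zpow]
          _ = g ^ (r ^ (i + 1)) := by rw [ih, ← zpow_mul, pow_succ]
    have hxp : x ^ p ∈ C := by
      have h := Subgroup.pow_index_mem C x
      rwa [hCi] at h
    have hcomm : x ^ p * g = g * x ^ p := by
      obtain ⟨i, hi⟩ := Subgroup.mem_zpowers_iff.1 (hgC' _ hxp)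
      rw [← hi]; exact ((Commute.refl g).zpow_left i).eq
    have h1 : g ^ (r ^ p - 1) = 1 := by
      rw [zpow_sub, ← hpow p, hcomm, mul_inv_cancel_right, zpow_one, mul_inv_cancel]
    have ho : (orderOf g : ℤ) ∣ r ^ p - 1 := orderOf_dvd_iff_zpow_eq_one.2 h1
    obtain ⟨k, hk⟩ := IsPGroup.iff_orderOf.1 hR g
    have hueq : u = g ^ (r - 1) := by
      rw [hu, commutatorElement_def, ← hr, zpow_sub, zpow_one]
    rw [hueq, ← zpow_natCast, ← zpow_mul, ← orderOf_dvd_iff_zpow_eq_one, hk]
    rcases Nat.eq_zero_or_pos k with rfl | hk0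
    · simp
    rw [hk, Nat.cast_pow] at ho
    have hr1 : (p : ℤ) ∣ r - 1 := by
      have h2 : (p : ℤ) ∣ r ^ p - 1 := (dvd_pow_self _ hk0.ne').trans ho
      rw [← ZMod.intCast_zmod_eq_zero_iff_dvd] at h2 ⊢
      push_cast at h2 ⊢
      rwa [ZMod.pow_card] at h2
    obtain ⟨b, hb⟩ := hr1
    have hsum := odd_sq_dvd_geom_sum₂_sub (p := p) (1 : ℤ) b hodd
    simp only [one_pow, mul_one] at hsum
    obtain ⟨c, hc⟩ := hsum
    have hrp : r ^ p - 1 = (r - 1) * (p : ℤ) * (1 + p * c) := by
      have h3 := geom_sum_mul (1 + (p : ℤ) * b) p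
      rw [show r = 1 + p * b by linarith, ← h3, sub_eq_iff_eq_add.1 hc]
      ring
    rw [hrp] at ho
    have hcop : IsCoprime ((p : ℤ) ^ k) (1 + p * c) :=
      IsCoprime.pow_left ⟨-c, 1, by ring⟩
    push_cast
    exact hcop.dvd_of_dvd_mul_right ho
  have huc : u ∈ Subgroup.center R := by
    by_cases hu1 : u = 1
    · rw [hu1]; exact one_mem _
    have ho : orderOf u = p := orderOf_eq_prime hup hu1
    have hle : Subgroup.zpowers u ≤ C := Subgroup.zpowers_le.2 huC
    have hn : (Subgroup.zpowers u).Normal := by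
      refine ⟨fun y hy a => ?_⟩
      obtain ⟨i, rfl⟩ := Subgroup.mem_zpowers_iff.1 hy
      rw [← conj_zpow]
      refine Subgroup.zpow_mem _ ?_ i
      obtain ⟨j, hj⟩ := Subgroup.mem_zpowers_iff.1 (hgC' _ (hCn.conj_mem g hgC a))
      obtain ⟨k, hk⟩ := Subgroup.mem_zpowers_iff.1 (hgC' u huC)
      rw [← hk, ← conj_zpow, ← hj, zpow_comm]
      exact Subgroup.zpow_mem _ (Subgroup.mem_zpowers _) j
    obtain ⟨z, hz, hzc, hzo⟩ := CfsgLib.PGroupBasic.exists_central_orderOf_eq hR (Subgroup.zpowers u)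
      (fun h => hu1 (Subgroup.zpowers_eq_bot.1 h))
    have heq : Subgroup.zpowers z = Subgroup.zpowers u :=
      Subgroup.eq_of_le_of_card_ge (Subgroup.zpowers_le.2 hz) (by rw [Nat.card_zpowers, Nat.card_zpowers, ho, hzo])
    exact (Subgroup.zpowers_le.2 hzc) (heq ▸ Subgroup.mem_zpowers u)
  have hN : (Subgroup.zpowers u).Normal := ⟨fun y hy a => by
    obtain ⟨i, rfl⟩ := Subgroup.mem_zpowers_iff.1 hy
    rw [Subgroup.mem_center_iff.1 (Subgroup.zpow_mem _ huc i) a, mul_inv_cancel_right]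
    exact hy⟩
  have hcomm : ∀ a b : R, ⁅a, b⁆ ∈ Subgroup.zpowers u := by
    set f := QuotientGroup.mk' (Subgroup.zpowers u) with hf
    have hfxg : Commute (f x) (f g) := by
      rw [← commutatorElement_eq_one_iff_commute, ← map_commutatorElement]
      exact (QuotientGroup.eq_one_iff _).2 (Subgroup.mem_zpowers u)
    have hQ : IsMulCommutative ↥(Subgroup.closure ({f g, f x} : Set (R ⧸ Subgroup.zpowers u))) := by
      refine Subgroup.isMulCommutative_closure ?_
      rintro a (rfl | rfl) b (rfl | rfl)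
      · rfl
      · exact hfxg.symm
      · exact hfxg
      · rfl
    have htop : ∀ a, f a ∈ Subgroup.closure ({f g, f x} : Set (R ⧸ Subgroup.zpowers u)) := by
      intro a
      have : Subgroup.zpowers g ⊔ Subgroup.zpowers x ≤
          (Subgroup.closure ({f g, f x} : Set (R ⧸ Subgroup.zpowers u))).comap f :=
        sup_le (Subgroup.zpowers_le.2 (Subgroup.subset_closure (by simp)))
          (Subgroup.zpowers_le.2 (Subgroup.subset_closure (by simp)))
      exact this (hgen ▸ Subgroup.mem_top a)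
    intro a b
    rw [← QuotientGroup.eq_one_iff, ← QuotientGroup.mk'_apply, ← hf, map_commutatorElement,
      commutatorElement_eq_one_iff_mul_comm]
    exact congrArg Subtype.val (mul_comm' (⟨_, htop a⟩ : Subgroup.closure _) ⟨_, htop b⟩)
  have hcen : ∀ a b : R, ⁅a, b⁆ ∈ Subgroup.center R := fun a b =>
    (Subgroup.zpowers_le.2 huc) (hcomm a b)
  have hcp : ∀ a b : R, ⁅a, b⁆ ^ p = 1 := fun a b => by
    obtain ⟨i, hi⟩ := Subgroup.mem_zpowers_iff.1 (hcomm a b)
    rw [← hi, ← zpow_natCast, ← zpow_mul, mul_comm, zpow_mul, zpow_natCast, hup, one_zpow]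
  -- the power map
  let f : R →* R :=
    { toFun := fun a => a ^ p
      map_one' := one_pow p
      map_mul' := fun a b => CfsgLib.PGroup.mul_pow_odd_of_central hodd (hcen b a) (hcp b a) }
  have hker : Subgroup.closure {x : R | x ^ p = 1} = f.ker :=
    le_antisymm ((Subgroup.closure_le _).2 fun a ha => ha) fun a ha => Subgroup.subset_closure ha
  rw [hker]
  have hrange : f.range ≤ C := by
    rintro _ ⟨a, rfl⟩
    have h := Subgroup.pow_index_mem C a
    rwa [hCi] at h
  have hne : f.range ≠ C := by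
    intro he
    obtain ⟨a, ha⟩ : g ∈ f.range := he ▸ hgC
    have hga : g = a ^ p := ha.symm
    have hCa : C < Subgroup.zpowers a ⊔ C := by
      refine lt_of_le_of_ne le_sup_right fun he' => ?_
      have haC : a ∈ C := he' ▸ Subgroup.mem_sup_left (Subgroup.mem_zpowers a)
      obtain ⟨i, hi⟩ := Subgroup.mem_zpowers_iff.1 (hgC' a haC)
      have hdvd : orderOf g ∣ orderOf a := by rw [hga]; exact orderOf_pow_dvd p
      obtain ⟨k, hk⟩ := IsPGroup.iff_orderOf.1 hR a
      rcases Nat.eq_zero_or_pos k with rfl | hk0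
      · rw [pow_zero, orderOf_eq_one_iff] at hk
        have hg1 : g = 1 := by rw [hga, hk, one_pow]
        have : C = ⊥ := (Subgroup.eq_bot_iff_forall C).2 fun c hc => by
          obtain ⟨j, rfl⟩ := Subgroup.mem_zpowers_iff.1 (hgC' c hc)
          rw [hg1, one_zpow]
        rw [this, Subgroup.index_bot] at hCi
        exact hnc (isCyclic_of_prime_card hCi)
      · have h1 : orderOf a ∣ orderOf g := by
          refine orderOf_dvd_iff_pow_eq_one.2 ?_
          rw [← hi, ← zpow_natCast, ← zpow_mul, mul_comm, zpow_mul, zpow_natCast, pow_orderOf_eq_one,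
            one_zpow]
        rw [hga, orderOf_pow, hk, Nat.gcd_eq_right (dvd_pow_self p hk0.ne')] at h1
        have := Nat.le_of_dvd (Nat.div_pos (Nat.le_of_dvd (pow_pos hp'.pos k) (dvd_pow_self p hk0.ne')) hp'.pos) h1
        exact absurd this (not_le.2 (Nat.div_lt_self (pow_pos hp'.pos k) hp'.one_lt))
    refine hnc ⟨⟨a, fun b => ?_⟩⟩
    have hle : C ≤ Subgroup.zpowers a := fun c hc => by
      obtain ⟨j, rfl⟩ := Subgroup.mem_zpowers_iff.1 (hgC' c hc)
      exact Subgroup.zpow_mem _ (hga ▸ Subgroup.pow_mem _ (Subgroup.mem_zpowers a) p) j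
    rw [sup_eq_left.2 hle] at hCa
    have h2 := Subgroup.relIndex_mul_index hCa.le
    rw [hCi] at h2
    rcases (Nat.dvd_prime hp').1 (Dvd.intro_left _ h2) with h3 | h3
    · exact Subgroup.mem_zpowers_iff.1 ((Subgroup.index_eq_one.1 h3).symm ▸ Subgroup.mem_top b)
    · rw [h3] at h2
      have : C.relIndex (Subgroup.zpowers a) = 1 :=
        Nat.eq_of_mul_eq_mul_right hp'.pos (h2.trans (one_mul p).symm)
      exact absurd (Subgroup.relIndex_eq_one.1 this) (not_le_of_gt hCa)
  have hcardker : Nat.card f.ker = p ^ 2 := by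
    obtain ⟨i, hi⟩ := IsPGroup.iff_card.1 (hR.to_subgroup f.ker)
    obtain ⟨j, hj⟩ := IsPGroup.iff_card.1 (hR.to_subgroup f.range)
    have hij : i + j = m := by
      have := Subgroup.card_mul_index f.ker
      rw [Subgroup.index_ker, hi, hj, hm, ← pow_add] at this
      exact Nat.pow_right_injective hp'.two_le this
    have hlt : Nat.card f.range < Nat.card C :=
      lt_of_le_of_ne (Subgroup.card_le_of_le hrange) fun he =>
        hne (Subgroup.eq_of_le_of_card_ge hrange he.ge)
    obtain ⟨l, hl⟩ := IsPGroup.iff_card.1 (hR.to_subgroup C)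
    rw [hl, ← pow_succ] at hcardC
    have hlm := Nat.pow_right_injective hp'.two_le hcardC
    rw [hj, hl] at hlt
    have hjl := (Nat.pow_lt_pow_iff_right hp'.one_lt).1 hlt
    have hsmall : Nat.card f.ker ≤ p ^ 2 := by
      have h1 := Subgroup.relIndex_mul_relIndex (⊥ : Subgroup R) (f.ker ⊓ C) f.ker bot_le inf_le_left
      rw [Subgroup.relIndex_bot_left, Subgroup.relIndex_bot_left, Subgroup.inf_relIndex_left] at h1
      rw [← h1, sq]
      refine Nat.mul_le_mul ?_ (Nat.le_of_dvd hp'.pos (hCi ▸ Subgroup.relIndex_dvd_index_of_normal C f.ker))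
      have hD : IsCyclic ↥(f.ker ⊓ C) :=
        isCyclic_of_injective (Subgroup.inclusion (inf_le_right : f.ker ⊓ C ≤ C))
          (Subgroup.inclusion_injective _)
      rw [← IsCyclic.exponent_eq_card]
      exact Nat.le_of_dvd hp'.pos (Monoid.exponent_dvd_of_forall_pow_eq_one fun a =>
        Subtype.ext a.2.1)
    rw [hi] at hsmall ⊢
    have := (Nat.pow_le_pow_iff_right hp'.one_lt).1 hsmall
    congr 1
    omega
  exact ⟨⟨IsPGroup.isMulCommutative_of_card_eq_prime_sq hcardker, fun a ha => ha⟩, hcardker⟩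

end Cfsg.Agent.S0127
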