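import Cfsg.Statements.S0130
import Cfsg.Agent.Lib.PGroup.Class2
import Cfsg.Agent.Lib.PLocal5.PGroupBasic

set_option autoImplicit false
open Cfsg
open scoped commutatorElement

namespace Cfsg.Agent.S0130

/-- If A is maximal among the normal abelian subgroups of exponent dividing p^n of a p-group (p^n ≠ 2), then A contains every element of order dividing p^n in its centralizer. -/
theorem result {G : Type*} [Group G] [Finite G] {p : ℕ} [Fact p.Prime] (hG : IsPGroup p G) (n : ℕ) (hn : p ^ n ≠ 2) (A : Subgroup G) [A.Normal] (hA : IsMulCommutative A) (hAe : ∀ a ∈ A, a ^ p ^ n = 1) (hmax : ∀ B : Subgroup G, B.Normal → IsMulCommutative B → (∀ b ∈ B, b ^ p ^ n = 1) → A ≤ B → B = A) (x : G) (hx : x ∈ Subgroup.centralizer (A : Set G)) (hxn : x ^ p ^ n = 1) : x ∈ A := by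
  classical
  have hp : p.Prime := Fact.out
  by_cases hn0 : n = 0
  · subst hn0; rw [pow_zero, pow_one] at hxn; rw [hxn]; exact A.one_mem
  have hdiv : p ∣ (p ^ n).choose 2 := hp.dvd_choose_pow (by norm_num) (Ne.symm hn)
  let Z : ℕ → Subgroup G := fun i =>
    (Subgroup.upperCentralSeries (G ⧸ A) i).comap (QuotientGroup.mk' A)
  have hZ0 : ∀ y, y ∈ Z 0 → y ∈ A := fun y hy => by
    simpa [Z, Subgroup.upperCentralSeries_zero] using hy
  have hZs : ∀ (i : ℕ) (y g : G), y ∈ Z (i + 1) → ⁅g, y⁆ ∈ Z i := fun i y g hy => by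
    rw [← commutatorElement_inv]
    refine Subgroup.inv_mem _ ?_
    simp only [Z, Subgroup.mem_comap, map_commutatorElement]
    exact Subgroup.mem_upperCentralSeries_succ_iff.1 hy _
  have hCn : (Subgroup.centralizer (A : Set G)).Normal := inferInstance
  have hcomC : ∀ g : G, ∀ y ∈ Subgroup.centralizer (A : Set G),
      ⁅g, y⁆ ∈ Subgroup.centralizer (A : Set G) := fun g y hy => by
    rw [commutatorElement_def]
    exact Subgroup.mul_mem _ (hCn.conj_mem y hy g) (Subgroup.inv_mem _ hy)
  have key : ∀ i, ∀ y ∈ Subgroup.centralizer (A : Set G), y ∈ Z i → y ^ p ^ n = 1 → y ∈ A := by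
    intro i
    induction i with
    | zero => exact fun y _ hy _ => hZ0 y hy
    | succ i ih =>
      intro y
      induction hk : orderOf y using Nat.strong_induction_on generalizing y with
      | _ k ihy =>
      intro hyC hyZ hyn
      by_cases hy1 : y = 1
      · rw [hy1]; exact A.one_mem
      have hypA : y ^ p ∈ A := by
        refine ihy _ ?_ (y ^ p) rfl (Subgroup.pow_mem _ hyC _) (Subgroup.pow_mem _ hyZ _)
          (by rw [← pow_mul, mul_comm, pow_mul, hyn, one_pow])
        obtain ⟨m, hm⟩ := IsPGroup.iff_orderOf.1 hG y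
        rcases Nat.eq_zero_or_pos m with rfl | hm0
        · rw [pow_zero, orderOf_eq_one_iff] at hm; exact absurd hm hy1
        rw [← hk, orderOf_pow, hm, Nat.gcd_eq_right (dvd_pow_self p hm0.ne')]
        exact Nat.div_lt_self (pow_pos hp.pos m) hp.one_lt
      have hL : ∀ g : G, ⁅g, y⁆ ∈ Z i → ⁅⁅g, y⁆, y⁆ ∈ A → ⁅g, y⁆ ∈ A := by
        intro g hdZ he
        refine ih _ (hcomC g y hyC) hdZ ?_
        let d : Subgroup.centralizer (A : Set G) := ⟨⁅g, y⁆, hcomC g y hyC⟩
        let x' : Subgroup.centralizer (A : Set G) := ⟨y, hyC⟩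
        let y' : Subgroup.centralizer (A : Set G) := ⟨g * y * g⁻¹, hCn.conj_mem y hyC g⟩
        have hd : d = y' * x'⁻¹ := Subtype.ext (commutatorElement_def g y)
        have hAc : ∀ z : Subgroup.centralizer (A : Set G), (z : G) ∈ A → z ∈ Subgroup.center _ :=
          fun z hz => Subgroup.mem_center_iff.2 fun w => Subtype.ext
            ((Subgroup.mem_centralizer_iff.1 w.2) z hz).symm
        have hec : ⁅d, x'⁆ ∈ Subgroup.center _ := hAc _ he
        have hep : ⁅d, x'⁆ ^ p = 1 := by
          rw [← CfsgLib.PGroup.commutatorElement_pow_right_of_central hec,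
            commutatorElement_eq_one_iff_mul_comm]
          exact Subgroup.mem_center_iff.1 (hAc (x' ^ p) hypA) d
        have hcomm : ⁅x'⁻¹, y'⁆ = ⁅d, x'⁆ := by
          have h1 : ⁅x'⁻¹, y'⁆ = x'⁻¹ * ⁅d, x'⁆ * x' := by
            rw [show y' = d * x' by rw [hd, inv_mul_cancel_right], commutatorElement_def,
              commutatorElement_def]
            group
          rw [h1, mul_assoc, ← Subgroup.mem_center_iff.1 hec x', inv_mul_cancel_left]
        have h2 := CfsgLib.PGroup.mul_pow_of_central (x := y') (y := x'⁻¹) (hcomm ▸ hec) (p ^ n)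
        obtain ⟨c, hc⟩ := hdiv
        have hx1 : x' ^ p ^ n = 1 := Subtype.ext hyn
        have hy'1 : y' ^ p ^ n = 1 := Subtype.ext (by
          push_cast; simp only [y']; rw [conj_pow, hyn, mul_one, mul_inv_cancel])
        rw [hcomm, ← hd, hy'1, inv_pow, hx1, inv_one, hc, pow_mul, hep, one_pow, mul_one,
          mul_one] at h2
        exact congrArg Subtype.val h2
      have hQ : ∀ j, ∀ c ∈ Subgroup.centralizer (A : Set G), c ∈ Z j → ⁅c, y⁆ ∈ A := by
        intro j
        induction j with
        | zero =>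
          intro c _ hc
          rw [commutatorElement_eq_one_iff_mul_comm.2 (Subgroup.mem_centralizer_iff.1 hyC c (hZ0 c hc))]
          exact A.one_mem
        | succ j ihj =>
          intro c hcC hcZ
          refine hL c (hZs i y c hyZ) (ihj _ (hcomC c y hyC) ?_)
          rw [← commutatorElement_inv]
          exact Subgroup.inv_mem _ (hZs j c y hcZ)
      have hall : ∀ g, g * y * g⁻¹ * y⁻¹ ∈ A := fun g => by
        rw [← commutatorElement_def]
        exact hL g (hZs i y g hyZ) (hQ i _ (hcomC g y hyC) (hZs i y g hyZ))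
      set B := A ⊔ Subgroup.zpowers y with hB
      have hBn : B.Normal := CfsgLib.PGroupBasic.normal_sup_zpowers hall
      have hBeq : B = Subgroup.closure ((A : Set G) ∪ {y}) := by
        rw [Subgroup.closure_union, Subgroup.closure_eq, ← Subgroup.zpowers_eq_closure]
      have hBab : IsMulCommutative B := by
        rw [hBeq]
        refine Subgroup.isMulCommutative_closure ?_
        rintro a (ha | rfl) b (hb | rfl)
        · exact congrArg Subtype.val (mul_comm' (⟨a, ha⟩ : A) ⟨b, hb⟩)
        · exact Subgroup.mem_centralizer_iff.1 hyC a ha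
        · exact (Subgroup.mem_centralizer_iff.1 hyC b hb).symm
        · rfl
      have hBe : ∀ b ∈ B, b ^ p ^ n = 1 := by
        intro b hb
        obtain ⟨a, ha, c, hc, rfl⟩ := Subgroup.mem_sup_of_normal_left.1 hb
        obtain ⟨m, rfl⟩ := Subgroup.mem_zpowers_iff.1 hc
        have hcm : Commute a (y ^ m) :=
          (Commute.zpow_right (Subgroup.mem_centralizer_iff.1 hyC a ha) m)
        rw [hcm.mul_pow, hAe a ha, one_mul, ← zpow_natCast, ← zpow_mul, mul_comm, zpow_mul,
          zpow_natCast, hyn, one_zpow]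
      exact (hmax B hBn hBab hBe le_sup_left).le (Subgroup.mem_sup_right (Subgroup.mem_zpowers y))
  obtain ⟨m, hm⟩ := (hG.to_quotient A).isNilpotent.nilpotent
  exact key m x hx (by simp [Z, hm]) hxn

end Cfsg.Agent.S0130
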