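import Cfsg.Statements.S0131
import Cfsg.Agent.Lib.PCore.PSolvable

set_option autoImplicit false
open Cfsg
open scoped commutatorElement

namespace Cfsg.Agent.S0131

/-- P/P' has a normal complement in G exactly when the focal subgroup G' ∩ P is as small as possible, namely P'. -/
theorem result {G : Type*} [Group G] [Finite G] {p : ℕ} [Fact p.Prime] (P : Sylow p G) : (∃ N : Subgroup G, N.Normal ∧ N ⊓ (P : Subgroup G) = ⁅(P : Subgroup G), (P : Subgroup G)⁆ ∧ N ⊔ (P : Subgroup G) = ⊤) ↔ commutator G ⊓ (P : Subgroup G) = ⁅(P : Subgroup G), (P : Subgroup G)⁆ := by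
  constructor
  · rintro ⟨N, hN, hinf, hsup⟩
    refine le_antisymm (le_trans (le_inf (inf_le_left.trans ?_) inf_le_right) hinf.le)
      (le_inf ?_ (Subgroup.commutator_le.2 fun a ha b hb => ?_))
    · have := hN
      have hPN : ⁅(P : Subgroup G), (P : Subgroup G)⁆ ≤ N := hinf ▸ inf_le_left
      have hcomm : IsMulCommutative (G ⧸ N) := by
        have hle : (P : Subgroup G).map (QuotientGroup.mk' N) = ⊤ := by
          rw [← Subgroup.map_top_of_surjective _ (QuotientGroup.mk'_surjective N), ← hsup,
            Subgroup.map_sup, QuotientGroup.map_mk'_self, bot_sup_eq]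
        refine ⟨⟨fun a b => ?_⟩⟩
        obtain ⟨x, hx, rfl⟩ := (hle ▸ Subgroup.mem_top a : a ∈ _)
        obtain ⟨y, hy, rfl⟩ := (hle ▸ Subgroup.mem_top b : b ∈ _)
        rw [← commutatorElement_eq_one_iff_mul_comm, ← map_commutatorElement,
          QuotientGroup.mk'_apply, QuotientGroup.eq_one_iff]
        exact hPN (Subgroup.commutator_mem_commutator hx hy)
      rw [commutator_def, Subgroup.commutator_le]
      intro a _ b _
      rw [← QuotientGroup.eq_one_iff, ← QuotientGroup.mk'_apply, map_commutatorElement,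
        commutatorElement_eq_one_iff_mul_comm]
      exact mul_comm' _ _
    · rw [commutator_def]; exact Subgroup.commutator_mono le_top le_top
    · exact mul_mem (mul_mem (mul_mem ha hb) (inv_mem ha)) (inv_mem hb)
  · intro h
    set f := Abelianization.of (G := G) with hf
    refine ⟨(Cfsg.pPrimeCore p (Abelianization G)).comap f, inferInstance, ?_, ?_⟩
    · rw [← h]
      refine le_antisymm (le_inf (fun x hx => ?_) inf_le_right) (le_inf (fun x hx => ?_) inf_le_right)
      · have h1 : f x ∈ (P : Subgroup G).map f ⊓ Cfsg.pPrimeCore p (Abelianization G) :=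
          ⟨⟨x, hx.2, rfl⟩, hx.1⟩
        rw [CfsgLib.PCore.inf_eq_bot_of_isPGroup_coprime (P.isPGroup'.map f)
          CfsgLib.PCore.pPrimeCore_coprime, Subgroup.mem_bot] at h1
        rw [← Abelianization.ker_of]; exact h1
      · rw [Subgroup.mem_comap, show f x = 1 by
          rw [← MonoidHom.mem_ker, hf, Abelianization.ker_of]; exact hx.1]
        exact one_mem _
    · have hsur : Function.Surjective f := QuotientGroup.mk_surjective
      have htop : (⊤ : Subgroup (Abelianization G)) ≤
          (P : Subgroup G).map f ⊔ Cfsg.pPrimeCore p (Abelianization G) := by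
        refine (CfsgLib.PCore.le_pCore_sup_pPrimeCore_of_abelian (p := p) ⊤).trans ?_
        exact sup_le_sup_right (CfsgLib.PCore.pCore_le_sylow (P.mapSurjective hsur)) _
      rw [eq_top_iff]
      intro x _
      obtain ⟨a, ha, b, hb, hab⟩ := Subgroup.mem_sup.1 (htop (Subgroup.mem_top (f x)))
      obtain ⟨y, hy, rfl⟩ := ha
      have h2 : y⁻¹ * x ∈ (Cfsg.pPrimeCore p (Abelianization G)).comap f := by
        rw [Subgroup.mem_comap, map_mul, map_inv, ← hab, inv_mul_cancel_left]; exact hb
      have h3 := Subgroup.mul_mem_sup hy h2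
      rwa [mul_inv_cancel_left, sup_comm] at h3

end Cfsg.Agent.S0131
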