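import Cfsg.Statements.S0165
import Cfsg.Agent.S0914
import Cfsg.Agent.Lib.Blk4.Modular

set_option autoImplicit false
open Cfsg

namespace Cfsg.Agent.S0165

/-- If p ^ n is the exact power of the prime p dividing the order of a finite group and p ^ n divides the degree of an irreducible complex representation, then its character vanishes at every element of order divisible by p. -/
theorem result {G : Type*} [Group G] [Finite G] {V : Type*} [AddCommGroup V] [Module ℂ V] [FiniteDimensional ℂ V] (ρ : Representation ℂ G V) [ρ.IsIrreducible] (p n : ℕ) (hp : p.Prime) (hn : p ^ n ∣ Nat.card G) (hn' : ¬ p ^ (n + 1) ∣ Nat.card G) (hdeg : p ^ n ∣ Module.finrank ℂ V) (x : G) (hx : p ∣ orderOf x) : ρ.character x = 0 := by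
  classical
  haveI := Fact.mk hp
  letI := Fintype.ofFinite G
  haveI := CfsgLib.Characters.nontrivial_of_irreducible ρ
  obtain ⟨M, hM⟩ := CfsgLib.Blk4.Modular.exists_isPModular p hp
  let χ : Cfsg.IrrCharacter G :=
    ⟨ρ.character, CfsgLib.Characters.isIrrCharacter_character ρ inferInstance⟩
  have hd : Cfsg.charDegree (χ : G → ℂ) = Module.finrank ℂ V := by
    rw [Cfsg.charDegree, show (χ : G → ℂ) 1 = (Module.finrank ℂ V : ℂ) from ρ.char_one,
      Complex.natCast_re, Nat.floor_natCast]
  have hcof : ¬ p ∣ Nat.card G / Cfsg.charDegree (χ : G → ℂ) := by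
    rw [hd]
    intro h
    refine hn' ?_
    have := mul_dvd_mul hdeg h
    rwa [Nat.mul_div_cancel' (CfsgLib.Characters.degree_dvd_card ρ), ← pow_succ] at this
  have hB : Cfsg.IsPBlock M ({χ} : Set (Cfsg.IrrCharacter G)) :=
    ⟨χ, ((Cfsg.Agent.S0914.result p M hM χ).mp hcof).symm⟩
  have h1 := CfsgLib.Blocks.blockCoeff_eq_zero_of_singular hM hB hx
  rw [Cfsg.blockCoeff, finsum_mem_singleton] at h1
  have hd0 : (Module.finrank ℂ V : ℂ) ≠ 0 := Nat.cast_ne_zero.mpr Module.finrank_pos.ne'
  simpa [χ, hd0, Module.finrank_pos.ne', Nat.card_pos.ne'] using h1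

end Cfsg.Agent.S0165
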