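import Cfsg.Statements.S0170
import Cfsg.Agent.Lib.Characters.Exceptional
import Cfsg.Agent.Lib.Characters.TI

set_option autoImplicit false
open Cfsg

namespace Cfsg.Agent.S0170

/-- Exceptional characters. Let S be a subset of a finite group contained in its normalizer N and meeting its conjugates by elements outside N only in the identity. Given n ≥ 2 distinct irreducible characters of N of equal degree that vanish on N away from S, there exist a sign ε and n distinct irreducible characters θ_i of G such that inducing χ_i − χ_j to G gives ε (θ_i − θ_j) for all i, j. -/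
theorem result {G : Type*} [Group G] [Fintype G] (S : Set G) (hSN : S ⊆ Subgroup.normalizer S) (hTI : ∀ g : G, g ∉ Subgroup.normalizer S → ∀ s ∈ S, g * s * g⁻¹ ∈ S → s = 1) (n : ℕ) (hn : 2 ≤ n) (χ : Fin n → (Subgroup.normalizer S → ℂ)) (hirr : ∀ i, Cfsg.IsIrrCharacter (Subgroup.normalizer S) (χ i)) (hinj : Function.Injective χ) (hvan : ∀ i, ∀ x : Subgroup.normalizer S, (x : G) ∉ S → χ i x = 0) (hdeg : ∀ i j, χ i 1 = χ j 1) : ∃ ε : ℂ, (ε = 1 ∨ ε = -1) ∧ ∃ θ : Fin n → (G → ℂ), (∀ i, Cfsg.IsIrrCharacter G (θ i)) ∧ Function.Injective θ ∧ ∀ i j, Cfsg.indFun (Subgroup.normalizer S) (χ i) - Cfsg.indFun (Subgroup.normalizer S) (χ j) = ε • (θ i - θ j) := by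
  classical
  have : Fintype (Subgroup.normalizer S) := Fintype.ofFinite _
  let i₀ : Fin n := ⟨0, by omega⟩
  let d : Fin n → (Subgroup.normalizer S → ℂ) := fun i => χ i - χ i₀
  let τ : Fin n → (G → ℂ) := fun i => Cfsg.indFun (Subgroup.normalizer S) (d i)
  have hclass : ∀ i, Cfsg.IsClassFunction (Subgroup.normalizer S) (d i) := fun i =>
    CfsgLib.Characters.isClassFunction_sub
      (CfsgLib.Characters.irr_isClassFunction ⟨_, hirr i⟩)
      (CfsgLib.Characters.irr_isClassFunction ⟨_, hirr i₀⟩)
  have hd1 : ∀ i, d i 1 = 0 := fun i => sub_eq_zero.mpr (hdeg i i₀)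
  have hdS : ∀ i, ∀ x : Subgroup.normalizer S, (x : G) ∉ S → d i x = 0 := fun i x hx => by
    simp [d, hvan i x hx, hvan i₀ x hx]
  have hiso : ∀ i j, Cfsg.classInner (τ i) (τ j) = Cfsg.classInner (d i) (d j) := fun i j =>
    CfsgLib.CharTI.classInner_indFun_of_ti hTI (hclass j) (hdS i) (hdS j) (hd1 i)
  have h11 : ∀ i, Cfsg.classInner (χ i) (χ i) = 1 := fun i =>
    CfsgLib.Characters.classInner_irr_self (hirr i)
  have h10 : ∀ i j, i ≠ j → Cfsg.classInner (χ i) (χ j) = 0 := fun i j h =>
    CfsgLib.Characters.classInner_irr_ne (hirr i) (hirr j) (hinj.ne h)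
  obtain ⟨ε, hε, μ, hμ, hμ2⟩ := CfsgLib.CharExceptional.exceptional_family i₀ τ
    (by
      funext g
      simp [τ, d, Cfsg.indFun, Cfsg.extendByZero, Function.extend_def])
    (fun i => by
      simp only [τ, d, CfsgLib.Induction.indFun_sub]
      exact CfsgLib.Characters.isGeneralizedCharacter_sub
        (CfsgLib.Characters.isGeneralizedCharacter_of_isCharacter
          (CfsgLib.Induction.isCharacter_indFun _ (CfsgLib.Characters.isCharacter_of_irr (hirr i))))
        (CfsgLib.Characters.isGeneralizedCharacter_of_isCharacter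
          (CfsgLib.Induction.isCharacter_indFun _ (CfsgLib.Characters.isCharacter_of_irr (hirr i₀)))))
    (fun i => by simp only [τ]; rw [CfsgLib.Induction.indFun_one_apply, hd1, mul_zero])
    (fun i hi => by
      rw [hiso]
      simp only [d, CfsgLib.Characters.classInner_sub_left, CfsgLib.Characters.classInner_sub_right,
        h11, h10 i i₀ hi, h10 i₀ i hi.symm]
      norm_num)
    (fun i j hi hj hij => by
      rw [hiso]
      simp only [d, CfsgLib.Characters.classInner_sub_left, CfsgLib.Characters.classInner_sub_right,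
        h11, h10 i i₀ hi, h10 i₀ j hj.symm, h10 i j hij]
      norm_num)
  refine ⟨ε, hε, fun i => (μ i : G → ℂ), fun i => (μ i).2, Subtype.val_injective.comp hμ,
    fun i j => ?_⟩
  have hi := hμ2 i
  have hj := hμ2 j
  simp only [τ, d, CfsgLib.Induction.indFun_sub] at hi hj
  rw [← sub_sub_sub_cancel_right _ _ (Cfsg.indFun (Subgroup.normalizer S) (χ i₀)), hi, hj,
    ← smul_sub, sub_sub_sub_cancel_right]

end Cfsg.Agent.S0170
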