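import Cfsg.Statements.S0173
import Cfsg.Agent.Lib.Characters.BrauerPerm

set_option autoImplicit false
open Cfsg

namespace Cfsg.Agent.S0173

/-- Brauer's permutation lemma for a single automorphism: the number of conjugacy classes mapped to themselves equals the number of irreducible complex characters χ with χ ∘ α = χ. -/
theorem result {G : Type*} [Group G] [Finite G] (α : G ≃* G) : Nat.card {C : ConjClasses G // ConjClasses.map α.toMonoidHom C = C} = Nat.card {χ : Cfsg.IrrCharacter G // (χ : G → ℂ) ∘ α = (χ : G → ℂ)} := by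
  have h := CfsgLib.BrauerPerm.card_fixed_eq (CfsgLib.BrauerPerm.twistIrr α) α α.bijective
    (fun χ k => by simp)
  rw [Nat.card_congr (Equiv.subtypeEquivRight (p := fun χ : Cfsg.IrrCharacter G =>
    (χ : G → ℂ) ∘ α = (χ : G → ℂ)) (q := fun χ => CfsgLib.BrauerPerm.twistIrr α χ = χ) ?_), h]
  · refine Nat.card_congr (Equiv.subtypeEquivRight fun C => ?_)
    obtain ⟨x, rfl⟩ := ConjClasses.mk_surjective C
    refine ⟨fun hC k hk => ?_, fun hC => hC x rfl⟩
    rw [← hC, ← hk]
    rfl
  · intro χ
    rw [Subtype.ext_iff, funext_iff, funext_iff]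
    constructor
    · intro hh k
      simpa using (hh (α.symm k)).symm
    · intro hh k
      simpa using (hh (α k)).symm

end Cfsg.Agent.S0173
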