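import Cfsg.Statements.S0178
import Cfsg.Agent.Lib.Characters.Scalar

set_option autoImplicit false
open Cfsg

namespace Cfsg.Agent.S0178

/-- The degree of an irreducible complex representation of a finite group is at most the index of any abelian subgroup. -/
theorem result {G : Type*} [Group G] [Finite G] {V : Type*} [AddCommGroup V] [Module ℂ V] [FiniteDimensional ℂ V] (ρ : Representation ℂ G V) [ρ.IsIrreducible] (A : Subgroup G) (hA : ∀ a ∈ A, ∀ b ∈ A, a * b = b * a) : Module.finrank ℂ V ≤ A.index := by
  classical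
  have := CfsgLib.CharScalar.nontrivial_of_irreducible ρ
  have : IsMulCommutative A := ⟨⟨fun a b => Subtype.ext (hA a a.2 b b.2)⟩⟩
  let σ : Representation ℂ A V := ρ.comp A.subtype
  -- an irreducible subrepresentation of the restriction
  have hex : ∃ W : Submodule ℂ V, W ≠ ⊥ ∧ (∀ (a : A), ∀ v ∈ W, σ a v ∈ W) ∧
      ∀ W' : Submodule ℂ V, W' < W → (∀ (a : A), ∀ v ∈ W', σ a v ∈ W') → W' = ⊥ := by
    obtain ⟨W, hW, hmin⟩ := (wellFounded_lt (α := Submodule ℂ V)).has_min
      {W | W ≠ ⊥ ∧ ∀ (a : A), ∀ v ∈ W, σ a v ∈ W} ⟨⊤, top_ne_bot, fun _ _ _ => trivial⟩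
    refine ⟨W, hW.1, hW.2, fun W' hlt hinv => ?_⟩
    by_contra h
    exact hmin W' ⟨h, hinv⟩ hlt
  obtain ⟨W, hW0, hWinv, hWmin⟩ := hex
  let τ : Representation ℂ A W :=
    (⟨W, fun a _ hv => hWinv a _ hv⟩ : Subrepresentation σ).toRepresentation
  have hWn : Nontrivial W := Submodule.nontrivial_iff_ne_bot.2 hW0
  have : τ.IsIrreducible := by
    refine { exists_pair_ne := ?_, eq_bot_or_eq_top := ?_ }
    · exact ⟨⊥, ⊤, fun h => bot_ne_top (α := Submodule ℂ W)
        (congrArg Subrepresentation.toSubmodule h)⟩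
    · intro U
      rcases eq_or_ne (U.toSubmodule.map W.subtype) W with h | h
      · right
        apply Subrepresentation.toSubmodule_injective
        apply Submodule.map_injective_of_injective (f := W.subtype) W.injective_subtype
        rw [h]
        exact (Submodule.map_subtype_top W).symm
      · left
        apply Subrepresentation.toSubmodule_injective
        apply Submodule.map_injective_of_injective (f := W.subtype) W.injective_subtype
        rw [hWmin _ (lt_of_le_of_ne (Submodule.map_subtype_le W _) h) ?_]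
        · exact (Submodule.map_bot _).symm
        · rintro a v ⟨u, hu, rfl⟩
          exact ⟨τ a u, U.apply_mem_toSubmodule a hu, rfl⟩
  have h1 : Module.finrank ℂ W = 1 :=
    Representation.IsIrreducible.finrank_eq_one_of_isMulCommutative τ
  obtain ⟨⟨v, hv⟩, hv0, hgen⟩ := finrank_eq_one_iff'.1 h1
  have hv0' : v ≠ 0 := fun h => hv0 (Subtype.ext h)
  have hline : ∀ a ∈ A, ∃ c : ℂ, ρ a v = c • v := by
    intro a ha
    obtain ⟨c, hc⟩ := hgen ⟨σ ⟨a, ha⟩ v, hWinv _ _ hv⟩
    exact ⟨c, (congrArg Subtype.val hc).symm⟩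
  have : Fintype (G ⧸ A) := Fintype.ofFinite _
  let S : Submodule ℂ V := Submodule.span ℂ (Set.range fun q : G ⧸ A => ρ q.out v)
  have hmemS : ∀ x : G, ρ x v ∈ S := by
    intro x
    obtain ⟨a, ha⟩ := QuotientGroup.mk_out_eq_mul A x
    have hx : x = (QuotientGroup.mk x : G ⧸ A).out * (a : G)⁻¹ := by rw [ha]; simp
    obtain ⟨c, hc⟩ := hline _ (A.inv_mem a.2)
    rw [hx, map_mul, Module.End.mul_apply, hc, map_smul]
    exact S.smul_mem _ (Submodule.subset_span ⟨_, rfl⟩)
  have hStop : S = ⊤ := by
    refine (CfsgLib.CharScalar.eq_bot_or_eq_top ρ S fun g w hw => ?_).resolve_left ?_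
    · induction hw using Submodule.span_induction with
      | mem x hx =>
        obtain ⟨q, rfl⟩ := hx
        rw [← Module.End.mul_apply, ← map_mul]
        exact hmemS _
      | zero => simp
      | add x y _ _ hx hy => rw [map_add]; exact S.add_mem hx hy
      | smul c x _ hx => rw [map_smul]; exact S.smul_mem c hx
    · intro h
      have := hmemS 1
      rw [map_one, Module.End.one_apply, h, Submodule.mem_bot] at this
      exact hv0' this
  calc Module.finrank ℂ V = Module.finrank ℂ S := by rw [hStop, finrank_top]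
    _ ≤ Fintype.card (G ⧸ A) := finrank_range_le_card _
    _ = A.index := by rw [Subgroup.index_eq_card, Nat.card_eq_fintype_card]

end Cfsg.Agent.S0178
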