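import Cfsg.Statements.S0180
import Cfsg.Agent.Lib.Characters.Galois

set_option autoImplicit false
open Cfsg

namespace Cfsg.Agent.S0180

/-- Every irreducible complex character of a finite group takes only rational values if and only if g is conjugate to g ^ m for every element g and every m coprime to the group order. -/
theorem result {G : Type*} [Group G] [Finite G] : (∀ χ : Cfsg.IrrCharacter G, ∀ g : G, ∃ q : ℚ, (χ : G → ℂ) g = (q : ℂ)) ↔ ∀ m : ℕ, m.Coprime (Nat.card G) → ∀ g : G, IsConj g (g ^ m) := by
  classical
  have : NeZero (Nat.card G) := ⟨Nat.card_pos.ne'⟩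
  constructor
  · intro hrat m hm g
    rw [CfsgLib.Characters.isConj_iff_irr]
    intro χ
    obtain ⟨σ, hσ⟩ := CfsgLib.CharGalois.exists_autComplex (Nat.card G) hm
    rw [← CfsgLib.CharGalois.map_char_eq_pow (CfsgLib.Characters.irr_isCharacter χ) σ hσ g]
    obtain ⟨q, hq⟩ := hrat χ g
    rw [hq, map_ratCast]
  · intro h χ g
    exact CfsgLib.CharGalois.exists_rat_char (CfsgLib.Characters.irr_isCharacter χ) g fun m hm =>
      (CfsgLib.Characters.classFunction_eq_of_isConj (CfsgLib.Characters.irr_isClassFunction χ)
        (h m hm g)).symm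

end Cfsg.Agent.S0180
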