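import Cfsg.Statements.S0184
import Cfsg.Agent.Lib.Characters.Values
import Cfsg.Agent.Lib.Characters.Scalar
import Mathlib.GroupTheory.Sylow
import Mathlib.GroupTheory.SpecificGroups.Cyclic
import Mathlib.RingTheory.IntegralDomain

set_option autoImplicit false
open Cfsg

namespace Cfsg.Agent.S0184

/-- A finite p-group admits a faithful irreducible complex representation if and only if its centre is cyclic. -/
theorem result {G : Type*} [Group G] [Finite G] (p : ℕ) [Fact p.Prime] (hG : IsPGroup p G) : (∃ (n : ℕ) (ρ : Representation ℂ G (Fin n → ℂ)), ρ.IsIrreducible ∧ Function.Injective ρ) ↔ IsCyclic (Subgroup.center G) := by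
  classical
  have : Fintype G := Fintype.ofFinite G
  constructor
  · rintro ⟨n, ρ, hρ, hinj⟩
    haveI := hρ
    have := CfsgLib.Characters.nontrivial_of_irreducible ρ
    have hscal : ∀ z : Subgroup.center G, ∃ c : ℂ, ρ z = c • (1 : Module.End ℂ (Fin n → ℂ)) :=
      fun z => CfsgLib.CharScalar.center_scalar ρ z.2
    choose c hc using hscal
    have hinjc : Function.Injective (algebraMap ℂ (Module.End ℂ (Fin n → ℂ))) :=
      (algebraMap ℂ (Module.End ℂ (Fin n → ℂ))).injective
    have hc' : ∀ z : Subgroup.center G, ρ z = algebraMap ℂ (Module.End ℂ (Fin n → ℂ)) (c z) :=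
      fun z => by rw [hc, Algebra.algebraMap_eq_smul_one]
    let f : Subgroup.center G →* ℂ :=
      { toFun := c
        map_one' := hinjc (by rw [← hc', map_one]; exact map_one ρ)
        map_mul' := fun a b => hinjc (by rw [← hc', map_mul, ← hc', ← hc']; exact map_mul ρ _ _) }
    exact isCyclic_of_injective_ringHom f fun a b hab =>
      Subtype.ext (hinj (by rw [hc' a, hc' b]; exact congrArg _ hab))
  · intro hcyc
    by_cases htriv : Nontrivial G
    swap
    · rw [not_nontrivial_iff_subsingleton] at htriv
      obtain ⟨n, ρ, hρ, -⟩ := CfsgLib.Characters.isIrrCharacter_one (G := G)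
      exact ⟨n, ρ, hρ, fun x y _ => Subsingleton.elim x y⟩
    have hZnt : Nontrivial (Subgroup.center G) := hG.center_nontrivial
    obtain ⟨k, hk⟩ := (hG.to_subgroup (Subgroup.center G)).exists_card_eq
    have hk0 : k ≠ 0 := by
      rintro rfl
      exact absurd hk (by simpa using (Finite.one_lt_card (α := Subgroup.center G)).ne')
    obtain ⟨z, hz⟩ := exists_prime_orderOf_dvd_card' p (hk ▸ dvd_pow_self p hk0)
    have hz1 : (z : G) ≠ 1 := fun h => (Fact.out : p.Prime).ne_one (by
      rw [← hz, show z = 1 from Subtype.ext h, orderOf_one])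
    obtain ⟨χ, hχ⟩ : ∃ χ : Cfsg.IrrCharacter G, (χ : G → ℂ) z ≠ (χ : G → ℂ) 1 := by
      by_contra h
      push Not at h
      exact hz1 (isConj_one_left.1 ((CfsgLib.Characters.isConj_iff_irr _ _).2 h))
    obtain ⟨_, n, ρ, hρ, rfl⟩ := χ
    haveI := hρ
    refine ⟨n, ρ, hρ, ?_⟩
    let K : Subgroup G := MonoidHom.ker ρ.toHomUnits
    have hmemK : ∀ g, g ∈ K ↔ ρ g = 1 := fun g => by
      rw [MonoidHom.mem_ker, Units.ext_iff]
      rfl
    have hzK : (z : G) ∉ K := fun h => hχ (by
      show LinearMap.trace ℂ _ (ρ (z : G)) = LinearMap.trace ℂ _ (ρ 1)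
      rw [(hmemK _).1 h, map_one ρ])
    have hbot : K = ⊥ := by
      by_contra hne
      have : Nontrivial K := (Subgroup.nontrivial_iff_ne_bot K).2 hne
      have hKn : K.Normal := inferInstance
      -- a nontrivial normal subgroup meets the centre
      letI : MulAction G K :=
        { smul := fun g x => ⟨g * x * g⁻¹, hKn.conj_mem x x.2 g⟩
          one_smul := fun x => Subtype.ext (by simp [HSMul.hSMul])
          mul_smul := fun a b x => Subtype.ext (by simp [HSMul.hSMul, mul_assoc]) }
      obtain ⟨j, hj⟩ := (hG.to_subgroup K).exists_card_eq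
      have hj0 : j ≠ 0 := by
        rintro rfl
        exact absurd hj (by simpa using (Finite.one_lt_card (α := K)).ne')
      obtain ⟨w, hw, hw1⟩ := hG.exists_fixed_point_of_prime_dvd_card_of_fixed_point K
        (hj ▸ dvd_pow_self p hj0) (a := (1 : K))
        (fun g => Subtype.ext (show g * 1 * g⁻¹ = 1 by simp))
      have hwZ : (w : G) ∈ Subgroup.center G := Subgroup.mem_center_iff.2 fun g => by
        have := congrArg Subtype.val (hw g)
        exact (mul_inv_eq_iff_eq_mul.1 (show g * (w : G) * g⁻¹ = w from this))
      -- in the cyclic centre every nontrivial subgroup contains `z`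
      let W : Subgroup (Subgroup.center G) := K.subgroupOf (Subgroup.center G)
      have hWne : W ≠ ⊥ := fun h => hw1 (Subtype.ext (by
        have : (⟨w, hwZ⟩ : Subgroup.center G) ∈ W := w.2
        rw [h, Subgroup.mem_bot] at this
        exact (congrArg Subtype.val this).symm))
      obtain ⟨i, hi⟩ := (hG.to_subgroup (Subgroup.center G)).to_subgroup W |>.exists_card_eq
      have hi0 : i ≠ 0 := by
        rintro rfl
        exact hWne (Subgroup.card_eq_one.1 (by simpa using hi))
      obtain ⟨y, hy⟩ := exists_prime_orderOf_dvd_card' p (hi ▸ dvd_pow_self p hi0)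
      have hy' : orderOf (y : Subgroup.center G) = p := by rw [Subgroup.orderOf_coe, hy]
      have hzy : Subgroup.zpowers z = Subgroup.zpowers (y : Subgroup.center G) := by
        have h1 : Subgroup.zpowers z ≤ Subgroup.zpowers (y : Subgroup.center G) := by
          rw [Subgroup.zpowers_le]
          have hsub : ∀ x : Subgroup.center G, x ^ p = 1 → x ∈ Subgroup.zpowers (y : Subgroup.center G) := by
            intro x hx
            have hle : (Finset.univ.filter fun a : Subgroup.center G => a ^ p = 1).card ≤ p :=
              IsCyclic.card_pow_eq_one_le (Fact.out : p.Prime).pos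
            have hsubset : (Finset.univ.filter fun a : Subgroup.center G =>
                a ∈ Subgroup.zpowers (y : Subgroup.center G)) ⊆
                Finset.univ.filter fun a : Subgroup.center G => a ^ p = 1 := by
              intro a ha
              rw [Finset.mem_filter] at ha ⊢
              refine ⟨Finset.mem_univ _, ?_⟩
              obtain ⟨m, rfl⟩ := Subgroup.mem_zpowers_iff.1 ha.2
              rw [← zpow_natCast, ← zpow_mul, mul_comm, zpow_mul, zpow_natCast, ← hy',
                pow_orderOf_eq_one, one_zpow]
            have heq := Finset.eq_of_subset_of_card_le hsubset (by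
              rw [← Fintype.card_subtype (fun a => a ∈ Subgroup.zpowers (y : Subgroup.center G)),
                ← Nat.card_eq_fintype_card, Nat.card_zpowers, hy']
              exact hle)
            have hx' : x ∈ Finset.univ.filter fun a : Subgroup.center G => a ^ p = 1 :=
              Finset.mem_filter.2 ⟨Finset.mem_univ _, hx⟩
            rw [← heq] at hx'
            exact (Finset.mem_filter.1 hx').2
          exact hsub z (by rw [← hz, pow_orderOf_eq_one])
        exact Subgroup.eq_of_le_of_card_ge h1 (by rw [Nat.card_zpowers, Nat.card_zpowers, hz, hy'])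
      have : z ∈ W := Subgroup.zpowers_le.2 y.2 (hzy ▸ Subgroup.mem_zpowers z)
      exact hzK this
    intro x y hxy
    have : x⁻¹ * y ∈ K := (hmemK _).2 (by rw [map_mul, ← hxy, ← map_mul, inv_mul_cancel, map_one])
    rw [hbot, Subgroup.mem_bot, inv_mul_eq_one] at this
    exact this

end Cfsg.Agent.S0184
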