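import Cfsg.Statements.S0185
import Cfsg.Agent.Lib.Characters.Values
import Mathlib.GroupTheory.Commutator.Basic

set_option autoImplicit false
open Cfsg

namespace Cfsg.Agent.S0185

/-- If a finite group has a faithful complex representation of degree less than the smallest prime dividing its order, the group is abelian. -/
theorem result {G : Type*} [Group G] [Finite G] {V : Type*} [AddCommGroup V] [Module ℂ V] [FiniteDimensional ℂ V] (ρ : Representation ℂ G V) (hfaithful : Function.Injective ρ) (hdeg : ∀ p : ℕ, p.Prime → p ∣ Nat.card G → Module.finrank ℂ V < p) (a b : G) : a * b = b * a := by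
  classical
  have key : ρ (a * b * a⁻¹ * b⁻¹) = 1 := by
    refine CfsgLib.Characters.rep_induction (G := G) (P := fun W _ _ _ σ =>
      (∀ p : ℕ, p.Prime → p ∣ Nat.card G → Module.finrank ℂ W < p) →
        σ (a * b * a⁻¹ * b⁻¹) = 1) ?_ ?_ ?_ V ρ hdeg
    · intro W _ _ _ σ hW _
      exact Subsingleton.elim _ _
    · intro W _ _ _ σ hσ hd
      haveI := hσ
      have h1 : Module.finrank ℂ W = 1 := by
        by_contra hne
        obtain ⟨q, hq, hqd⟩ := Nat.exists_prime_and_dvd hne
        have hpos : 0 < Module.finrank ℂ W := by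
          have := CfsgLib.Characters.nontrivial_of_irreducible σ
          exact Module.finrank_pos
        have := hd q hq (hqd.trans (CfsgLib.Characters.degree_dvd_card σ))
        exact absurd (Nat.le_of_dvd hpos hqd) (not_le.2 this)
      have hcomm : ∀ x y : G, σ x * σ y = σ y * σ x := by
        intro x y
        obtain ⟨w, hw0, hw⟩ := finrank_eq_one_iff'.1 h1
        refine LinearMap.ext fun v => ?_
        obtain ⟨c, hc⟩ := hw v
        obtain ⟨cx, hcx⟩ := hw (σ x w)
        obtain ⟨cy, hcy⟩ := hw (σ y w)
        simp only [← hc, Module.End.mul_apply, map_smul, ← hcy, ← hcx]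
        rw [smul_comm cy cx]
      rw [map_mul, map_mul, map_mul, hcomm a b, mul_assoc (σ b), ← map_mul σ a, mul_inv_cancel,
        map_one, mul_one, ← map_mul, mul_inv_cancel, map_one]
    · intro W _ _ _ σ U U' hc h1 h2 hd
      have e1 := h1 fun p hp hpd => lt_of_le_of_lt (Submodule.finrank_le _) (hd p hp hpd)
      have e2 := h2 fun p hp hpd => lt_of_le_of_lt (Submodule.finrank_le _) (hd p hp hpd)
      refine LinearMap.ext fun v => ?_
      obtain ⟨⟨x, y⟩, rfl⟩ := (Submodule.prodEquivOfIsCompl _ _ hc).surjective v
      have f1 := congrArg Subtype.val (LinearMap.congr_fun e1 x)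
      have f2 := congrArg Subtype.val (LinearMap.congr_fun e2 y)
      simp only [Submodule.coe_prodEquivOfIsCompl', map_add, Module.End.one_apply] at f1 f2 ⊢
      rw [show σ (a * b * a⁻¹ * b⁻¹) x.1 = x.1 from f1, show σ (a * b * a⁻¹ * b⁻¹) y.1 = y.1 from f2]
  rw [← map_one ρ] at key
  exact commutatorElement_eq_one_iff_mul_comm.1 (hfaithful key)

end Cfsg.Agent.S0185
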