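import Cfsg.Statements.S0186
import Cfsg.Agent.Lib.Characters.Burnside
import Cfsg.Agent.Lib.Characters.Values
import Cfsg.Agent.S0185
import Mathlib.GroupTheory.SpecificGroups.Cyclic
import Mathlib.Tactic.IntervalCases

set_option autoImplicit false
open Cfsg

namespace Cfsg.Agent.S0186

/-- Let G be a finite simple group of order n and p a prime dividing n. If G has more than n / p^2 conjugacy classes, then every Sylow p-subgroup of G is abelian. -/
theorem result {G : Type*} [Group G] [Finite G] [IsSimpleGroup G] (p : ℕ) [Fact p.Prime] (hp : p ∣ Nat.card G) (hmany : Nat.card G < p ^ 2 * Nat.card (ConjClasses G)) (P : Sylow p G) (a b : G) (ha : a ∈ P) (hb : b ∈ P) : a * b = b * a := by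
  classical
  have : Fintype G := Fintype.ofFinite G
  have hP := (Fact.out : p.Prime)
  by_cases hab : ∀ a b : G, a * b = b * a
  · exact hab a b
  have hcenter : Subgroup.center G = ⊥ :=
    ((inferInstance : (Subgroup.center G).Normal).eq_bot_or_eq_top).resolve_right fun h =>
      hab fun a b => (Subgroup.mem_center_iff.1 (h ▸ Subgroup.mem_top b) a)
  have hfaith : ∀ {m : ℕ} (ρ : Representation ℂ G (Fin m → ℂ)), ρ.IsIrreducible →
      ρ.character ≠ (fun _ => 1) → Function.Injective ρ := by
    intro m ρ hρ hne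
    haveI := hρ
    have hker : (MonoidHom.ker ρ.toHomUnits) = ⊥ := by
      refine ((inferInstance : (MonoidHom.ker ρ.toHomUnits).Normal).eq_bot_or_eq_top).resolve_right
        fun htop => hne ?_
      have hall : ∀ g, ρ g = 1 := fun g => by
        have : g ∈ MonoidHom.ker ρ.toHomUnits := htop ▸ Subgroup.mem_top g
        rw [MonoidHom.mem_ker, Units.ext_iff] at this
        exact this
      have h1 := CfsgLib.Characters.classInner_irr_self
        (⟨m, ρ, hρ, rfl⟩ : Cfsg.IsIrrCharacter G ρ.character)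
      have hc : ρ.character = fun _ => (m : ℂ) := funext fun g => by
        rw [Representation.character, hall g, LinearMap.trace_one, Module.finrank_fin_fun]
      have hm : m = 1 := by
        rw [hc] at h1
        simp [Cfsg.classInner, ← Nat.card_eq_fintype_card, Nat.cast_ne_zero.2 (Nat.card_pos (α := G)).ne'] at h1
        have : m * m = 1 := by exact_mod_cast h1
        exact Nat.eq_one_of_mul_eq_one_right this
      rw [hc, hm, Nat.cast_one]
    intro x y hxy
    have : x⁻¹ * y ∈ MonoidHom.ker ρ.toHomUnits := by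
      rw [MonoidHom.mem_ker, Units.ext_iff]
      show ρ (x⁻¹ * y) = 1
      rw [map_mul, ← hxy, ← map_mul, inv_mul_cancel, map_one]
    rw [hker, Subgroup.mem_bot, inv_mul_eq_one] at this
    exact this
  by_contra hne
  -- the Sylow subgroup has order at least `p ^ 3`
  have hP3 : p ^ 3 ≤ Nat.card P := by
    obtain ⟨e, he⟩ := P.isPGroup'.exists_card_eq
    rw [he]
    refine Nat.pow_le_pow_right hP.pos ?_
    by_contra hlt
    have hcomm : ∀ u v : P, u * v = v * u := by
      interval_cases e
      · intro u v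
        have : Subsingleton P := (Nat.card_eq_one_iff_unique.1 (by simpa using he)).1
        exact Subsingleton.elim _ _
      · intro u v
        have : IsCyclic P := isCyclic_of_prime_card (p := p) (by simpa using he)
        exact @mul_comm P (IsCyclic.commGroup).toCommMagma u v
      · intro u v
        exact (IsPGroup.isMulCommutative_of_card_eq_prime_sq he).is_comm.comm u v
    exact hne (congrArg Subtype.val (hcomm ⟨a, ha⟩ ⟨b, hb⟩))
  -- degrees
  have hdeg : ∀ χ : Cfsg.IrrCharacter G, ∃ d : ℕ, (χ : G → ℂ) 1 = d :=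
    fun χ => CfsgLib.Characters.exists_degree (CfsgLib.Characters.irr_isCharacter χ)
  choose d hd using hdeg
  have hdp : ∀ χ : Cfsg.IrrCharacter G, χ ≠ CfsgLib.Characters.principalIrr G → p ≤ d χ := by
    intro χ hχ
    by_contra hlt
    obtain ⟨m, ρ, hρ, hch⟩ := χ.2
    have hinj := hfaith ρ hρ (fun h => hχ (Subtype.ext (hch ▸ h)))
    have hm : m = d χ := by
      have := hd χ
      rw [← hch, Representation.char_one, Module.finrank_fin_fun] at this
      exact_mod_cast this
    refine hne (congrArg Subtype.val (Cfsg.Agent.S0185.result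
      (ρ.comp (P : Subgroup G).subtype) (hinj.comp Subtype.val_injective) ?_ ⟨a, ha⟩ ⟨b, hb⟩))
    intro q hq hqd
    obtain ⟨e, he⟩ := P.isPGroup'.exists_card_eq
    rw [he] at hqd
    have : q = p := (Nat.prime_dvd_prime_iff_eq hq hP).1 (hq.dvd_of_dvd_pow hqd)
    rw [Module.finrank_fin_fun, hm, this]
    omega
  -- a central element of `P`
  have hPnt : Nontrivial P := by
    refine Finite.one_lt_card_iff_nontrivial.1 (lt_of_lt_of_le ?_ hP3)
    exact Nat.one_lt_pow three_ne_zero hP.one_lt
  have hZ : Nontrivial (Subgroup.center P) := P.isPGroup'.center_nontrivial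
  obtain ⟨z, hz⟩ := exists_ne (1 : Subgroup.center P)
  let x : G := ((z : P) : G)
  have hx1 : x ≠ 1 := fun h => hz (Subtype.ext (Subtype.ext h))
  have hPC : (P : Subgroup G) ≤ Subgroup.centralizer ({x} : Set G) := fun y hy =>
    Subgroup.mem_centralizer_singleton_iff.2
      (congrArg Subtype.val (Subgroup.mem_center_iff.1 z.2 ⟨y, hy⟩))
  have hcl : ¬ p ∣ Nat.card {y : G // IsConj x y} := by
    rw [CfsgLib.Characters.card_isConj_eq_index]
    exact fun h => P.not_dvd_index (h.trans (Subgroup.index_dvd_of_le hPC))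
  have hvan : ∀ χ : Cfsg.IrrCharacter G, χ ≠ CfsgLib.Characters.principalIrr G → d χ = p →
      (χ : G → ℂ) x = 0 := by
    intro χ hχ hdχ
    obtain ⟨m, ρ, hρ, hch⟩ := χ.2
    haveI := hρ
    have hm : Module.finrank ℂ (Fin m → ℂ) = p := by
      have := hd χ
      rw [← hch, Representation.char_one, hdχ] at this
      exact_mod_cast this
    rw [← hch]
    refine (CfsgLib.Burnside.eq_zero_or_norm_eq_of_coprime ρ x
      (hm.symm ▸ hP.coprime_iff_not_dvd.2 hcl)).resolve_right fun hnorm => hx1 ?_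
    obtain ⟨c, hc⟩ := (CfsgLib.Characters.norm_char_eq_iff_scalar ρ x).1 hnorm
    rw [← Subgroup.mem_bot, ← hcenter, Subgroup.mem_center_iff]
    intro g
    refine hfaith ρ hρ (fun h => hχ (Subtype.ext (hch ▸ h))) ?_
    rw [map_mul, map_mul, hc]
    refine LinearMap.ext fun v => ?_
    simp
  -- counting
  let one := CfsgLib.Characters.principalIrr G
  let w : Cfsg.IrrCharacter G → ℤ := fun χ => if p < d χ then (d χ : ℤ) ^ 2 else 0
  have hw : (p : ℤ) ^ 3 - 1 ≤ ∑ χ ∈ Finset.univ.erase one, w χ := by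
    have horth := CfsgLib.Characters.column_orth x x
    rw [if_pos (IsConj.refl x)] at horth
    have hreal : ∑ χ : Cfsg.IrrCharacter G, ‖(χ : G → ℂ) x‖ ^ 2 =
        (Nat.card (Subgroup.centralizer ({x} : Set G)) : ℝ) := by
      apply Complex.ofReal_injective
      rw [Complex.ofReal_sum, Complex.ofReal_natCast, ← horth]
      refine Finset.sum_congr rfl fun χ _ => ?_
      rw [Complex.ofReal_pow, ← Complex.mul_conj']
    rw [← Finset.add_sum_erase _ _ (Finset.mem_univ one)] at hreal
    have hbound : ∑ χ ∈ Finset.univ.erase one, ‖(χ : G → ℂ) x‖ ^ 2 ≤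
        ∑ χ ∈ Finset.univ.erase one, ((w χ : ℤ) : ℝ) := by
      refine Finset.sum_le_sum fun χ hχ => ?_
      have hχ1 := (Finset.mem_erase.1 hχ).1
      rcases (hdp χ hχ1).lt_or_eq with h | h
      · simp only [w, if_pos h]
        push_cast
        refine pow_le_pow_left₀ (norm_nonneg _) ?_ 2
        have := CfsgLib.Characters.norm_le_degree_of_isCharacter
          (CfsgLib.Characters.irr_isCharacter χ) x
        rwa [hd χ, Complex.norm_natCast] at this
      · rw [hvan χ hχ1 h.symm]
        simp [w, ← h]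
    have hle : (p : ℝ) ^ 3 ≤ (Nat.card (Subgroup.centralizer ({x} : Set G)) : ℝ) := by
      exact_mod_cast hP3.trans (Nat.le_of_dvd Nat.card_pos (Subgroup.card_dvd_of_le hPC))
    have h1 : ‖((one : Cfsg.IrrCharacter G) : G → ℂ) x‖ ^ 2 = 1 := by simp [one]
    rw [h1] at hreal
    have hfin : ((((p : ℤ) ^ 3 - 1 : ℤ)) : ℝ) ≤
        (((∑ χ ∈ Finset.univ.erase one, w χ : ℤ)) : ℝ) := by
      push_cast
      linarith
    exact Int.cast_le.1 hfin
  have hexc : (∑ χ ∈ Finset.univ.erase one, w χ) * (2 * p + 1) ≤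
      (∑ χ ∈ Finset.univ.erase one, ((d χ : ℤ) ^ 2 - (p : ℤ) ^ 2)) * ((p : ℤ) + 1) ^ 2 := by
    rw [Finset.sum_mul, Finset.sum_mul]
    refine Finset.sum_le_sum fun χ hχ => ?_
    have hpd : (p : ℤ) ≤ d χ := by exact_mod_cast hdp χ (Finset.mem_erase.1 hχ).1
    simp only [w]
    split_ifs with h
    · have h' : (p : ℤ) + 1 ≤ d χ := by exact_mod_cast h
      have h2 : ((p : ℤ) + 1) ^ 2 ≤ (d χ : ℤ) ^ 2 := pow_le_pow_left₀ (by positivity) h' 2
      nlinarith
    · rw [zero_mul]
      refine mul_nonneg (sub_nonneg.2 (pow_le_pow_left₀ (by positivity) hpd 2)) (sq_nonneg _)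
  have hn : (Nat.card G : ℤ) = 1 + ∑ χ ∈ Finset.univ.erase one, (d χ : ℤ) ^ 2 := by
    have h := CfsgLib.Characters.sum_sq_degrees (G := G)
    simp only [hd] at h
    have h' : ∑ χ : Cfsg.IrrCharacter G, (d χ : ℤ) ^ 2 = (Nat.card G : ℤ) := by exact_mod_cast h
    rw [← h', ← Finset.add_sum_erase _ _ (Finset.mem_univ one)]
    have : d one = 1 := by
      have := hd one
      simp [one] at this
      exact (Nat.cast_eq_one (R := ℂ)).1 this.symm
    rw [this]
    norm_num
  have hk : (Nat.card (ConjClasses G) : ℤ) = ((Finset.univ.erase one).card : ℤ) + 1 := by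
    rw [← CfsgLib.Characters.card_irr_eq_card_conjClasses, Nat.card_eq_fintype_card,
      Finset.card_erase_of_mem (Finset.mem_univ one), Finset.card_univ]
    have : 0 < Fintype.card (Cfsg.IrrCharacter G) := Fintype.card_pos_iff.2 ⟨one⟩
    omega
  have hlt : (Nat.card G : ℤ) < (p : ℤ) ^ 2 * (Nat.card (ConjClasses G) : ℤ) := by exact_mod_cast hmany
  rw [hk, hn] at hlt
  rw [Finset.sum_sub_distrib, Finset.sum_const, nsmul_eq_mul] at hexc
  have h2p : (2 : ℤ) ≤ p := by exact_mod_cast hP.two_le
  have hkey : ((p : ℤ) ^ 3 - 1) * (2 * p + 1) ≤ ((p : ℤ) ^ 2 - 2) * ((p : ℤ) + 1) ^ 2 := by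
    calc ((p : ℤ) ^ 3 - 1) * (2 * p + 1)
        ≤ (∑ χ ∈ Finset.univ.erase one, w χ) * (2 * p + 1) :=
          mul_le_mul_of_nonneg_right hw (by positivity)
      _ ≤ _ := hexc
      _ ≤ ((p : ℤ) ^ 2 - 2) * ((p : ℤ) + 1) ^ 2 :=
          mul_le_mul_of_nonneg_right (by linarith) (sq_nonneg _)
  nlinarith [mul_le_mul_of_nonneg_left h2p (pow_nonneg (le_trans zero_le_two h2p) 3)]

end Cfsg.Agent.S0186
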