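import Cfsg.Statements.S0187
import Cfsg.Agent.Lib.Characters.Decomp
import Mathlib.GroupTheory.Commutator.Basic

set_option autoImplicit false
open Cfsg

namespace Cfsg.Agent.S0187

/-- A finite group is commutative if and only if every irreducible complex character has degree 1. -/
theorem result {G : Type*} [Group G] [Finite G] : (∀ a b : G, a * b = b * a) ↔ ∀ χ : Cfsg.IrrCharacter G, (χ : G → ℂ) 1 = 1 := by
  classical
  constructor
  · intro hab χ
    have : IsMulCommutative G := ⟨⟨hab⟩⟩
    obtain ⟨_, n, ρ, hρ, rfl⟩ := χ
    haveI := hρ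
    show ρ.character 1 = 1
    rw [Representation.char_one,
      Representation.IsIrreducible.finrank_eq_one_of_isMulCommutative ρ, Nat.cast_one]
  · intro h a b
    have key : IsConj (a * b * a⁻¹ * b⁻¹) 1 := by
      rw [CfsgLib.Characters.isConj_iff_irr]
      rintro ⟨_, n, ρ, hρ, rfl⟩
      show ρ.character (a * b * a⁻¹ * b⁻¹) = ρ.character 1
      have h1 := h ⟨ρ.character, n, ρ, hρ, rfl⟩
      simp only [Representation.char_one, Module.finrank_fin_fun, Nat.cast_eq_one] at h1
      subst h1
      have hscal : ∀ T : Module.End ℂ (Fin 1 → ℂ), ∃ c : ℂ, T = c • 1 := by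
        intro T
        refine ⟨T (fun _ => 1) 0, LinearMap.ext fun v => ?_⟩
        have hv : v = v 0 • (fun _ => (1 : ℂ)) := by funext i; simp [Subsingleton.elim i 0]
        conv_lhs => rw [hv, map_smul]
        funext i
        simp [Subsingleton.elim i 0, mul_comm]
      have hcomm : ∀ x y : G, ρ x * ρ y = ρ y * ρ x := by
        intro x y
        obtain ⟨c, hc⟩ := hscal (ρ x)
        rw [hc, smul_mul_assoc, mul_smul_comm, one_mul, mul_one]
      unfold Representation.character
      congr 1
      rw [map_mul, map_mul, map_mul, hcomm a b, mul_assoc (ρ b), ← map_mul ρ a, mul_inv_cancel,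
        map_one, mul_one, ← map_mul, mul_inv_cancel, map_one]
    exact commutatorElement_eq_one_iff_mul_comm.1 (isConj_one_left.1 key)

end Cfsg.Agent.S0187
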