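import Cfsg.Statements.S0188
import Cfsg.Agent.Lib.Characters.Clifford

set_option autoImplicit false
open Cfsg
open scoped ComplexConjugate

namespace Cfsg.Agent.S0188

/-- The irreducible complex characters of G × H are precisely the functions (g, h) ↦ φ g * ψ h with φ, ψ irreducible characters of G and H. -/
theorem result {G : Type*} [Group G] [Finite G] {H : Type*} [Group H] [Finite H] (θ : G × H → ℂ) : Cfsg.IsIrrCharacter (G × H) θ ↔ ∃ (φ : G → ℂ) (ψ : H → ℂ), Cfsg.IsIrrCharacter G φ ∧ Cfsg.IsIrrCharacter H ψ ∧ θ = fun x => φ x.1 * ψ x.2 := by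
  classical
  have : Fintype G := Fintype.ofFinite G
  have : Fintype H := Fintype.ofFinite H
  have hprodchar : ∀ (φ : G → ℂ) (ψ : H → ℂ), Cfsg.IsIrrCharacter G φ → Cfsg.IsIrrCharacter H ψ →
      Cfsg.IsIrrCharacter (G × H) (fun x => φ x.1 * ψ x.2) := by
    intro φ ψ hφ hψ
    have h1 := CfsgLib.Clifford.isCharacter_pullback (CfsgLib.Characters.isCharacter_of_irr hφ)
      (MonoidHom.fst G H)
    have h2 := CfsgLib.Clifford.isCharacter_pullback (CfsgLib.Characters.isCharacter_of_irr hψ)
      (MonoidHom.snd G H)
    refine CfsgLib.Clifford.isIrr_of_norm_one (CfsgLib.Characters.isCharacter_mul h1 h2) ?_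
    have e1 := CfsgLib.Characters.classInner_irr_self hφ
    have e2 := CfsgLib.Characters.classInner_irr_self hψ
    suffices h : Cfsg.classInner (fun x : G × H => φ x.1 * ψ x.2) (fun x => φ x.1 * ψ x.2) =
        Cfsg.classInner φ φ * Cfsg.classInner ψ ψ by
      rw [e1, e2, one_mul] at h
      exact h
    simp only [Cfsg.classInner, Nat.card_prod, Fintype.sum_prod_type, Nat.cast_mul, mul_inv]
    rw [mul_mul_mul_comm, Finset.sum_mul_sum]
    congr 1
    refine Finset.sum_congr rfl fun x _ => Finset.sum_congr rfl fun y _ => ?_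
    simp
    ring
  constructor
  · intro hθ
    by_contra hc
    push Not at hc
    have hθcl := CfsgLib.Characters.isClassFunction_of_isCharacter
      (CfsgLib.Characters.isCharacter_of_irr hθ)
    have hcl : ∀ (g a : G) (h b : H), θ (a * g * a⁻¹, b * h * b⁻¹) = θ (g, h) :=
      fun g a h b => hθcl (g, h) (a, b)
    have hzero : ∀ g h, θ (g, h) = 0 := by
      intro g h
      have hθg : ∀ φ : Cfsg.IrrCharacter G,
          (fun h : H => ∑ g : G, θ (g, h) * conj ((φ : G → ℂ) g)) = 0 := by
        intro φ
        refine CfsgLib.Characters.eq_zero_of_forall_classInner_eq_zero ?_ fun ψ => ?_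
        · intro h b
          refine Finset.sum_congr rfl fun g _ => ?_
          have := hcl g 1 h b
          simp only [one_mul, inv_one, mul_one] at this
          rw [this]
        · have h0 := CfsgLib.Characters.classInner_irr_ne hθ
            (hprodchar φ ψ φ.2 ψ.2) (hc φ ψ φ.2 ψ.2)
          rw [Cfsg.classInner, mul_eq_zero] at h0 ⊢
          refine Or.inr ?_
          have h0' := h0.resolve_left (inv_ne_zero (Nat.cast_ne_zero.2 Nat.card_pos.ne'))
          rw [Fintype.sum_prod_type, Finset.sum_comm] at h0'
          rw [← h0']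
          refine Finset.sum_congr rfl fun h _ => ?_
          rw [Finset.sum_mul]
          exact Finset.sum_congr rfl fun g _ => by simp [mul_assoc]
      have h2 : (fun g : G => θ (g, h)) = 0 := by
        refine CfsgLib.Characters.eq_zero_of_forall_classInner_eq_zero ?_ fun φ => ?_
        · intro g a
          simpa using hcl g a h 1
        · simp only [Cfsg.classInner]
          rw [congrFun (hθg φ) h, Pi.zero_apply, mul_zero]
      exact congrFun h2 g
    exact CfsgLib.Characters.irr_one_ne_zero ⟨θ, hθ⟩ (hzero 1 1)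
  · rintro ⟨φ, ψ, hφ, hψ, rfl⟩
    exact hprodchar φ ψ hφ hψ

end Cfsg.Agent.S0188
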