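import Cfsg.Statements.S0190


set_option autoImplicit false
open Cfsg

namespace Cfsg.Agent.S0190

/-- For a transitive action of a finite group on X, the permutation character g ↦ (number of fixed points of g) is the function induced from the principal character of the stabilizer of any point. -/
theorem result {G : Type*} [Group G] [Fintype G] (X : Type*) [MulAction G X] [Finite X] [MulAction.IsPretransitive G X] (x : X) : (fun g : G => (Nat.card (MulAction.fixedBy X g) : ℂ)) = Cfsg.indFun (MulAction.stabilizer G x) (fun _ => 1) := by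
  classical
  funext g
  have : Fintype X := Fintype.ofFinite X
  set H := MulAction.stabilizer G x with hH
  have hcard : (Nat.card H : ℂ) ≠ 0 := Nat.cast_ne_zero.2 Nat.card_pos.ne'
  have key : ∀ a : G, Cfsg.extendByZero H (fun _ => (1 : ℂ)) (a⁻¹ * g * a) =
      if g • (a • x) = a • x then 1 else 0 := by
    intro a
    have hiff : a⁻¹ * g * a ∈ H ↔ g • (a • x) = a • x := by
      rw [hH, MulAction.mem_stabilizer_iff, mul_smul, mul_smul, inv_smul_eq_iff]
    by_cases h : a⁻¹ * g * a ∈ H
    · rw [if_pos (hiff.1 h)]
      exact (Subtype.val_injective.extend_apply _ _ (⟨_, h⟩ : H))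
    · rw [if_neg (fun h' => h (hiff.2 h'))]
      exact Function.extend_apply' _ _ _ (by rintro ⟨b, hb⟩; exact h (hb ▸ b.2))
  have hfib : ∀ y : X, (Finset.univ.filter fun a : G => a • x = y).card = Nat.card H := by
    intro y
    obtain ⟨b, hb⟩ := MulAction.exists_smul_eq G x y
    let e : {a : G // a • x = y} ≃ H :=
      { toFun := fun a => ⟨b⁻¹ * a, by
          rw [hH, MulAction.mem_stabilizer_iff, mul_smul, a.2, inv_smul_eq_iff, hb]⟩
        invFun := fun h => ⟨b * h, by rw [mul_smul, (MulAction.mem_stabilizer_iff.1 h.2), hb]⟩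
        left_inv := fun a => by simp
        right_inv := fun h => by simp }
    rw [← Nat.card_congr e, Nat.card_eq_fintype_card, ← Fintype.card_subtype]
  show (Nat.card (MulAction.fixedBy X g) : ℂ) =
    (Nat.card H : ℂ)⁻¹ * ∑ a : G, Cfsg.extendByZero H (fun _ => (1 : ℂ)) (a⁻¹ * g * a)
  rw [Finset.sum_congr rfl fun a _ => key a,
    ← Finset.sum_fiberwise (Finset.univ : Finset G) (fun a => a • x),
    Finset.sum_congr rfl (fun y (_ : y ∈ (Finset.univ : Finset X)) =>
      show (∑ a ∈ Finset.univ.filter (fun a : G => a • x = y),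
          if g • (a • x) = a • x then (1 : ℂ) else 0) =
        if g • y = y then (Nat.card H : ℂ) else 0 by
      rw [Finset.sum_congr rfl (fun a ha => by rw [(Finset.mem_filter.1 ha).2]), Finset.sum_const,
        hfib]
      split_ifs <;> simp)]
  rw [← Finset.sum_filter, Finset.sum_const, nsmul_eq_mul, mul_comm ((Finset.card _ : ℕ) : ℂ),
    ← mul_assoc, inv_mul_cancel₀ hcard, one_mul, Nat.card_eq_fintype_card, ← Fintype.card_subtype]
  rfl

end Cfsg.Agent.S0190
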