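import Cfsg.Statements.S0191
import Cfsg.Agent.Lib.Characters.Galois
import Cfsg.Agent.Lib.Characters.Scalar
import Mathlib.Analysis.SpecialFunctions.Log.Basic

set_option autoImplicit false
open Cfsg

namespace Cfsg.Agent.S0191

/-- An irreducible complex representation of a finite group of degree greater than 1 has a character that vanishes somewhere. -/
theorem result {G : Type*} [Group G] [Finite G] {V : Type*} [AddCommGroup V] [Module ℂ V] [FiniteDimensional ℂ V] (ρ : Representation ℂ G V) [ρ.IsIrreducible] (hdeg : 1 < Module.finrank ℂ V) : ∃ g : G, ρ.character g = 0 := by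
  classical
  by_contra hne
  push Not at hne
  have : Fintype G := Fintype.ofFinite G
  set n := Nat.card G with hn
  have : NeZero n := ⟨Nat.card_pos.ne'⟩
  have : Fintype (ZMod n) := ZMod.fintype n
  let χ : G → ℂ := ρ.character
  have hχi : Cfsg.IsIrrCharacter G χ := CfsgLib.Characters.isIrrCharacter_character ρ inferInstance
  have hχ := CfsgLib.Characters.isCharacter_of_irr hχi
  have hun : ∀ u : (ZMod n)ˣ, ((u : ZMod n).val).Coprime n := fun u => ZMod.val_coe_unit_coprime u
  let f : (ZMod n)ˣ → G → ℂ := fun u g =>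
    χ (g ^ (u : ZMod n).val) * starRingEnd ℂ (χ (g ^ (u : ZMod n).val))
  let ψ : G → ℂ := ∏ u : (ZMod n)ˣ, f u
  have hψ : Cfsg.IsCharacter G ψ := by
    refine Finset.prod_induction (fun u => f u) (Cfsg.IsCharacter G)
      (fun a b ha hb => CfsgLib.Characters.isCharacter_mul ha hb)
      CfsgLib.Characters.isCharacter_one ?_
    intro u _
    have h1 := CfsgLib.Characters.isCharacter_of_irr
      (CfsgLib.CharGalois.isIrrCharacter_pow hχi (hun u))
    exact CfsgLib.Characters.isCharacter_mul h1 (CfsgLib.Characters.isCharacter_conj h1)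
  have hint : ∀ g, IsIntegral ℤ (ψ g) := by
    intro g
    obtain ⟨m, σ, hσ⟩ := hψ
    rw [← hσ]
    exact CfsgLib.CharScalar.isIntegral_character σ g
  have hpow : ∀ (g : G) (a : ℕ) (x : ZMod n), x.val % n = a % n → g ^ a = g ^ x.val := by
    intro g a x h
    rw [← pow_mod_natCard g a, ← pow_mod_natCard g x.val, ← hn, h]
  have hinv : ∀ m : ℕ, m.Coprime n → ∀ g, ψ (g ^ m) = ψ g := by
    intro m hm g
    simp only [ψ, Finset.prod_apply]
    refine Fintype.prod_equiv (Equiv.mulLeft (ZMod.unitOfCoprime m hm)) _ _ fun u => ?_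
    simp only [f, ← pow_mul, Equiv.coe_mulLeft]
    rw [hpow g (m * (u : ZMod n).val) ((ZMod.unitOfCoprime m hm * u : (ZMod n)ˣ) : ZMod n) (by
      simp [ZMod.val_mul, ZMod.val_natCast, Nat.mul_mod])]
  -- real version
  let x : (ZMod n)ˣ → G → ℝ := fun u g => Complex.normSq (χ (g ^ (u : ZMod n).val))
  have hfx : ∀ u g, f u g = (x u g : ℂ) := fun u g => Complex.mul_conj _
  have hpos : ∀ u g, 0 < x u g := fun u g => Complex.normSq_pos.2 (hne _)
  have hprod : ∀ g, 1 ≤ ∏ u, x u g := by
    intro g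
    obtain ⟨q, hq⟩ := CfsgLib.CharGalois.exists_rat_char hψ g fun m hm => hinv m hm g
    have hq' : IsIntegral ℤ q := by
      refine (isIntegral_algebraMap_iff (algebraMap ℚ ℂ).injective).1 ?_
      simpa [hq] using hint g
    obtain ⟨z, hz⟩ := IsIntegrallyClosed.isIntegral_iff.1 hq'
    rw [eq_intCast] at hz
    have heq : ((∏ u, x u g : ℝ) : ℂ) = ((z : ℝ) : ℂ) := by
      rw [Complex.ofReal_prod, Complex.ofReal_intCast]
      calc ∏ u, (x u g : ℂ) = ψ g := by simp [ψ, Finset.prod_apply, hfx]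
        _ = (z : ℂ) := by rw [hq, ← hz, Rat.cast_intCast]
    have heq' : (∏ u, x u g : ℝ) = (z : ℝ) := Complex.ofReal_injective heq
    have hzpos : (0 : ℤ) < z := by
      exact_mod_cast (heq' ▸ Finset.prod_pos fun u _ => hpos u g : (0 : ℝ) < (z : ℝ))
    rw [heq']
    exact_mod_cast hzpos
  have hsum : ∀ g, (Fintype.card (ZMod n)ˣ : ℝ) ≤ ∑ u, x u g := by
    intro g
    have h1 := Real.log_nonneg (hprod g)
    rw [Real.log_prod (fun u _ => (hpos u g).ne')] at h1
    have h2 := Finset.sum_le_sum fun u (_ : u ∈ (Finset.univ : Finset (ZMod n)ˣ)) =>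
      Real.log_le_sub_one_of_pos (hpos u g)
    rw [Finset.sum_sub_distrib, Finset.sum_const, Finset.card_univ, nsmul_one] at h2
    linarith
  have horth : ∀ u : (ZMod n)ˣ, ∑ g : G, x u g = (n : ℝ) := by
    intro u
    have h1 := CfsgLib.Characters.classInner_irr_self
      (CfsgLib.CharGalois.isIrrCharacter_pow hχi (hun u))
    rw [Cfsg.classInner, ← hn, inv_mul_eq_iff_eq_mul₀ (Nat.cast_ne_zero.2 (NeZero.ne n)),
      mul_one] at h1
    apply Complex.ofReal_injective
    rw [Complex.ofReal_sum, Complex.ofReal_natCast, ← h1]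
    exact Finset.sum_congr rfl fun g _ => (hfx u g).symm
  have hone : (Fintype.card (ZMod n)ˣ : ℝ) < ∑ u, x u 1 := by
    have hx1 : ∀ u : (ZMod n)ˣ, (1 : ℝ) < x u 1 := by
      intro u
      have h1 : (1 : ℝ) < (Module.finrank ℂ V : ℝ) := by exact_mod_cast hdeg
      have hx : x u 1 = (Module.finrank ℂ V : ℝ) * (Module.finrank ℂ V : ℝ) := by
        simp [x, χ, Complex.normSq_natCast]
      rw [hx]
      nlinarith
    calc (Fintype.card (ZMod n)ˣ : ℝ) = ∑ _u : (ZMod n)ˣ, (1 : ℝ) := by simp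
      _ < ∑ u, x u 1 := Finset.sum_lt_sum_of_nonempty Finset.univ_nonempty fun u _ => hx1 u
  have hlt : ∑ _g : G, (Fintype.card (ZMod n)ˣ : ℝ) < ∑ g, ∑ u, x u g :=
    Finset.sum_lt_sum (fun g _ => hsum g) ⟨1, Finset.mem_univ _, hone⟩
  rw [Finset.sum_comm, Finset.sum_congr rfl (fun u _ => horth u)] at hlt
  simp [← Nat.card_eq_fintype_card, hn, mul_comm] at hlt

end Cfsg.Agent.S0191
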