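import Cfsg.Statements.S0192
import Cfsg.Agent.Lib.Characters.Scalar

set_option autoImplicit false
open Cfsg

namespace Cfsg.Agent.S0192

/-- Brauer's generation criterion. Let G be a finite simple group, H₁ and H₂ subgroups, and χ a non-principal irreducible character. If the multiplicity of the principal character in χ restricted to H₁ ⊓ H₂ is less than the sum of the corresponding multiplicities for H₁ and H₂, then H₁ and H₂ do not generate G. -/
theorem result {G : Type*} [Group G] [Fintype G] [IsSimpleGroup G] (H₁ H₂ : Subgroup G) [Fintype H₁] [Fintype H₂] [Fintype ↥(H₁ ⊓ H₂)] (χ : G → ℂ) (hχ : Cfsg.IsIrrCharacter G χ) (hχ1 : χ ≠ fun _ => 1) (hlt : (Cfsg.classInner (fun x : ↥(H₁ ⊓ H₂) => χ x) (fun _ => 1)).re < (Cfsg.classInner (fun x : H₁ => χ x) (fun _ => 1)).re + (Cfsg.classInner (fun x : H₂ => χ x) (fun _ => 1)).re) : H₁ ⊔ H₂ ≠ ⊤ := by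
  classical
  obtain ⟨n, ρ, hirr, rfl⟩ := hχ
  intro htop
  have key : ∀ (K : Subgroup G) [Fintype K],
      (Cfsg.classInner (fun x : K => ρ.character x) (fun _ => 1)).re =
        (Module.finrank ℂ (Representation.invariants (ρ.comp K.subtype)) : ℝ) := by
    intro K _
    have : Invertible (Nat.card K : ℂ) :=
      invertibleOfNonzero (Nat.cast_ne_zero.2 Nat.card_pos.ne')
    have h := Representation.card_inv_mul_sum_char_eq_finrank
      (ρ.comp K.subtype : Representation ℂ K (Fin n → ℂ))
    have h' : Cfsg.classInner (fun x : K => ρ.character x) (fun _ => 1) =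
        (Nat.card K : ℂ)⁻¹ * ∑ g : K, Representation.character (ρ.comp K.subtype) g := by
      simp [Cfsg.classInner, Representation.character]
    rw [h', h]
    simp
  rw [key, key, key] at hlt
  let F : Subgroup G → Submodule ℂ (Fin n → ℂ) := fun K => Representation.invariants (ρ.comp K.subtype)
  have hmemF : ∀ (K : Subgroup G) v, v ∈ F K ↔ ∀ g ∈ K, ρ g v = v := fun K v =>
    ⟨fun h g hg => h ⟨g, hg⟩, fun h g => h g g.2⟩
  have hmono : ∀ {K L : Subgroup G}, K ≤ L → F L ≤ F K := fun hKL v hv =>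
    (hmemF _ v).2 fun g hg => (hmemF _ v).1 hv g (hKL hg)
  have hne : F H₁ ⊓ F H₂ ≠ ⊥ := by
    intro h
    have h1 := Submodule.finrank_sup_add_finrank_inf_eq (F H₁) (F H₂)
    rw [h, finrank_bot, add_zero] at h1
    have h2 := Submodule.finrank_mono (sup_le (hmono (inf_le_left : H₁ ⊓ H₂ ≤ H₁))
      (hmono (inf_le_right : H₁ ⊓ H₂ ≤ H₂)))
    have hlt' : Module.finrank ℂ (F (H₁ ⊓ H₂)) <
        Module.finrank ℂ (F H₁) + Module.finrank ℂ (F H₂) := by exact_mod_cast hlt
    omega
  obtain ⟨v, hv, hv0⟩ := Submodule.exists_mem_ne_zero_of_ne_bot hne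
  have hfix : ∀ g : G, ρ g v = v := by
    intro g
    have hg : g ∈ H₁ ⊔ H₂ := htop ▸ Subgroup.mem_top g
    have : H₁ ⊔ H₂ ≤
        { carrier := {g | ρ g v = v}
          one_mem' := by simp
          mul_mem' := fun {a b} (ha : ρ a v = v) (hb : ρ b v = v) =>
            show ρ (a * b) v = v by rw [map_mul, Module.End.mul_apply, hb, ha]
          inv_mem' := fun {a} (ha : ρ a v = v) => show ρ a⁻¹ v = v by
            conv_lhs => rw [← ha]
            rw [← Module.End.mul_apply, ← map_mul, inv_mul_cancel, map_one, Module.End.one_apply]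
          : Subgroup G } :=
      sup_le (fun x hx => (hmemF _ v).1 hv.1 x hx) (fun x hx => (hmemF _ v).1 hv.2 x hx)
    exact this hg
  apply hχ1
  have hspan : Submodule.span ℂ {v} = (⊤ : Submodule ℂ (Fin n → ℂ)) := by
    refine (CfsgLib.CharScalar.eq_bot_or_eq_top ρ _ fun g w hw => ?_).resolve_left ?_
    · obtain ⟨c, rfl⟩ := Submodule.mem_span_singleton.1 hw
      rw [map_smul, hfix]
      exact Submodule.smul_mem _ _ (Submodule.mem_span_singleton_self v)
    · simpa using hv0
  funext g
  have hg : ρ g = 1 := by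
    refine LinearMap.ext fun w => ?_
    obtain ⟨c, rfl⟩ := Submodule.mem_span_singleton.1
      (show w ∈ Submodule.span ℂ {v} by rw [hspan]; exact Submodule.mem_top)
    simp [hfix g]
  have hrank : Module.finrank ℂ (Fin n → ℂ) = 1 := by
    rw [← finrank_top ℂ (Fin n → ℂ), ← hspan, finrank_span_singleton hv0]
  show LinearMap.trace ℂ _ (ρ g) = 1
  rw [hg, LinearMap.trace_one, hrank, Nat.cast_one]

end Cfsg.Agent.S0192
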