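import Cfsg.Statements.S0193
import Cfsg.Agent.Lib.Characters.Clifford

set_option autoImplicit false
open Cfsg

namespace Cfsg.Agent.S0193

/-- Let H be a normal subgroup of a finite group G and θ an irreducible character of H. Then |H| times the inner product of the induced function of θ with itself equals the number of g in G with θ(g h g⁻¹) = θ(h) for all h in H; in particular the induced character is irreducible when only elements of H stabilise θ. -/
theorem result {G : Type*} [Group G] [Fintype G] (H : Subgroup G) [hN : H.Normal] (θ : H → ℂ) (hθ : Cfsg.IsIrrCharacter H θ) : (Nat.card H : ℂ) * Cfsg.classInner (Cfsg.indFun H θ) (Cfsg.indFun H θ) = (Nat.card {g : G // ∀ h : H, θ ⟨g * h * g⁻¹, hN.conj_mem h h.2 g⟩ = θ h} : ℂ) := by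
  classical
  have : Fintype H := Fintype.ofFinite H
  have hθcl := CfsgLib.Characters.isClassFunction_of_isCharacter
    (CfsgLib.Characters.isCharacter_of_irr hθ)
  rw [CfsgLib.Clifford.classInner_indFun_indFun hN hθcl, ← mul_assoc,
    mul_inv_cancel₀ (Nat.cast_ne_zero.2 Nat.card_pos.ne'), one_mul]
  rw [Finset.sum_congr rfl fun g _ => show Cfsg.classInner θ (CfsgLib.Clifford.conjChar hN θ g) =
      if (∀ h : H, θ ⟨g * h * g⁻¹, hN.conj_mem h h.2 g⟩ = θ h) then 1 else 0 by
    split_ifs with h
    · rw [show CfsgLib.Clifford.conjChar hN θ g = θ from funext h]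
      exact CfsgLib.Characters.classInner_irr_self hθ
    · exact CfsgLib.Characters.classInner_irr_ne hθ
        (CfsgLib.Clifford.isIrrCharacter_conjChar hN hθ g) (fun he => h fun x => (congrFun he x).symm)]
  rw [← Finset.sum_filter, Finset.sum_const, nsmul_one, Nat.card_eq_fintype_card, Fintype.card_subtype]

end Cfsg.Agent.S0193
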