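import Cfsg.Statements.S0194
import Cfsg.Agent.Lib.Characters.Clifford
import Cfsg.Agent.Lib.Characters.Scalar

set_option autoImplicit false
open scoped ComplexConjugate
open Cfsg

namespace Cfsg.Agent.S0194

/-- Let G have odd order, H be a normal subgroup and θ a non-principal irreducible character of H. Then the function induced from θ is orthogonal to its complex conjugate. -/
theorem result {G : Type*} [Group G] [Fintype G] (hodd : Odd (Nat.card G)) (H : Subgroup G) [H.Normal] (θ : H → ℂ) (hθ : Cfsg.IsIrrCharacter H θ) (hθ1 : θ ≠ fun _ => 1) : Cfsg.classInner (fun g => conj (Cfsg.indFun H θ g)) (Cfsg.indFun H θ) = 0 := by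
  classical
  have hN : H.Normal := inferInstance
  have : Fintype H := Fintype.ofFinite H
  have hθc := CfsgLib.Characters.isCharacter_of_irr hθ
  let θc : H → ℂ := fun h => conj (θ h)
  have hθc1 : Cfsg.IsCharacter H θc := CfsgLib.Characters.isCharacter_conj hθc
  have hθci : Cfsg.IsIrrCharacter H θc := by
    refine CfsgLib.Clifford.isIrr_of_norm_one hθc1 ?_
    have h := congrArg conj (CfsgLib.Characters.classInner_irr_self hθ)
    rw [map_one] at h
    rw [← h]
    simp [Cfsg.classInner, θc, map_sum, map_mul, mul_comm]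
  have hoddH : Odd (Nat.card H) := Odd.of_dvd_nat hodd (Subgroup.card_subgroup_dvd_card H)
  -- `θ` is not real
  have hreal : θc ≠ θ := by
    intro hre
    obtain ⟨n, ρ, hρ, hch⟩ := hθ
    haveI := hρ
    have hn : Odd n := by
      have := CfsgLib.CharScalar.finrank_dvd_card ρ
      rw [Module.finrank_fin_fun] at this
      exact Odd.of_dvd_nat hoddH this
    have hsum : ∑ h : H, θ h = 0 := by
      have h0 := CfsgLib.Characters.classInner_irr_ne
        (χ := θ) (ψ := fun _ => (1 : ℂ)) ⟨n, ρ, hρ, hch⟩ CfsgLib.Characters.isIrrCharacter_one hθ1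
      simpa [Cfsg.classInner] using h0
    let o := Fintype.equivFin H
    have hinv : ∀ h : H, θ h⁻¹ = θ h := fun h => by
      rw [CfsgLib.Characters.char_apply_inv hθc]
      exact congrFun hre h
    have hne : ∀ h : H, h ≠ 1 → h⁻¹ ≠ h := by
      intro h h1 he
      have h2 : orderOf h ∣ 2 := orderOf_dvd_of_pow_eq_one (by
        rw [pow_two]; exact inv_eq_iff_mul_eq_one.1 he)
      have h3 := orderOf_dvd_natCard h
      have : orderOf h ∣ 1 := by
        have := Nat.dvd_gcd h2 h3
        rwa [(Nat.coprime_two_left.2 hoddH).gcd_eq_one] at this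
      exact h1 (orderOf_eq_one_iff.1 (Nat.dvd_one.1 this))
    let A := Finset.univ.filter fun h : H => o h < o h⁻¹
    let B := Finset.univ.filter fun h : H => o h⁻¹ < o h
    have hsplit : (Finset.univ : Finset H) = insert 1 (A ∪ B) := by
      ext h
      simp only [A, B, Finset.mem_univ, Finset.mem_insert, Finset.mem_union, Finset.mem_filter,
        true_and, true_iff]
      by_cases h1 : h = 1
      · exact Or.inl h1
      · exact Or.inr (lt_or_gt_of_ne fun e => hne h h1 (o.injective e).symm)
    have hdisj : Disjoint A B := Finset.disjoint_filter.2 fun h _ h1 h2 => lt_asymm h1 h2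
    have h1AB : (1 : H) ∉ A ∪ B := by simp [A, B]
    have hAB : ∑ h ∈ B, θ h = ∑ h ∈ A, θ h :=
      Finset.sum_nbij' (fun h => h⁻¹) (fun h => h⁻¹) (fun h hh => by simpa [A, B] using hh)
        (fun h hh => by simpa [A, B] using hh) (fun h _ => inv_inv h) (fun h _ => inv_inv h)
        (fun h _ => (hinv h).symm)
    rw [hsplit, Finset.sum_insert h1AB, Finset.sum_union hdisj, hAB] at hsum
    have hint : IsIntegral ℤ (-∑ h ∈ A, θ h) := IsIntegral.neg (IsIntegral.sum _ fun h _ => by
      rw [← hch]; exact CfsgLib.CharScalar.isIntegral_character ρ h)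
    have hval : -∑ h ∈ A, θ h = (n : ℂ) / 2 := by
      rw [← hch, Representation.char_one, Module.finrank_fin_fun] at hsum
      rw [← hch]
      linear_combination (-(1 / 2 : ℂ)) * hsum
    rw [hval] at hint
    have h2n : 2 ∣ n := CfsgLib.CharScalar.dvd_of_isIntegral_div two_ne_zero (by exact_mod_cast hint)
    exact (Nat.not_even_iff_odd.2 hn) (even_iff_two_dvd.2 h2n)
  rw [show (fun g => conj (Cfsg.indFun H θ g)) = Cfsg.indFun H θc from
      funext fun g => (CfsgLib.Induction.indFun_conj_apply H θ g).symm,
    CfsgLib.Clifford.classInner_indFun_indFun hN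
      (CfsgLib.Characters.isClassFunction_of_isCharacter hθc1)]
  refine mul_eq_zero_of_right _ (Finset.sum_eq_zero fun g _ => ?_)
  refine CfsgLib.Characters.classInner_irr_ne hθci
    (CfsgLib.Clifford.isIrrCharacter_conjChar hN hθ g) fun he => ?_
  -- `g ^ 2` stabilises `θ`, hence so does `g`
  have h2 : CfsgLib.Clifford.conjChar hN θ (g * g) = θ := by
    rw [← CfsgLib.Clifford.conjChar_mul, ← he]
    funext x
    show conj (CfsgLib.Clifford.conjChar hN θ g x) = θ x
    rw [← he]
    exact Complex.conj_conj (θ x)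
  have hg : g ∈ CfsgLib.Clifford.inertia hN θ := by
    obtain ⟨k, hk⟩ := (Odd.of_dvd_nat hodd (orderOf_dvd_natCard g))
    have hpow : g = (g * g) ^ (k + 1) := by
      rw [← pow_two, ← pow_mul, show 2 * (k + 1) = orderOf g + 1 by omega, pow_succ,
        pow_orderOf_eq_one, one_mul]
    rw [hpow]
    exact pow_mem h2 _
  exact hreal (he.trans hg)

end Cfsg.Agent.S0194
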