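import Cfsg.Statements.S0196
import Mathlib.Algebra.BigOperators.Ring.Finset


set_option autoImplicit false
open Cfsg

namespace Cfsg.Agent.S0196

/-- Let A be a subgroup of a finite group G that equals the centralizer of each of its non-identity elements, and let N be its normalizer. Then the index of A in N divides |A| − 1 (N/A permutes the non-identity elements of A in orbits of full length). -/
theorem result {G : Type*} [Group G] [Finite G] (A : Subgroup G) (hA : ∀ x ∈ A, x ≠ 1 → Subgroup.centralizer ({x} : Set G) = A) : (A.subgroupOf (Subgroup.normalizer (A : Set G))).index ∣ Nat.card A - 1 := by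
  classical
  set N := Subgroup.normalizer (A : Set G) with hN
  let _ : MulAction N {a : A // a ≠ 1} :=
    { smul := fun n a => ⟨⟨(n : G) * (a.1 : G) * (n : G)⁻¹,
          (Subgroup.mem_normalizer_iff.1 n.2 _).1 a.1.2⟩, fun h => a.2 (Subtype.ext (by
            have h' : (n : G) * (a.1 : G) * (n : G)⁻¹ = 1 := congrArg Subtype.val h
            simpa using h'))⟩
      one_smul := fun a => Subtype.ext (Subtype.ext (by simp [HSMul.hSMul]))
      mul_smul := fun m n a => Subtype.ext (Subtype.ext (by simp [HSMul.hSMul, mul_assoc])) }
  have : Fintype {a : A // a ≠ 1} := Fintype.ofFinite _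
  have hstab : ∀ a : {a : A // a ≠ 1}, MulAction.stabilizer N a = A.subgroupOf N := by
    intro a
    ext n
    rw [MulAction.mem_stabilizer_iff, Subgroup.mem_subgroupOf]
    have hc := hA (a.1 : G) a.1.2 (fun h => a.2 (Subtype.ext h))
    constructor
    · intro h
      have h' : (n : G) * (a.1 : G) * (n : G)⁻¹ = (a.1 : G) :=
        congrArg (fun z : {a : A // a ≠ 1} => (z.1 : G)) h
      rw [← hc, Subgroup.mem_centralizer_singleton_iff]
      exact mul_inv_eq_iff_eq_mul.1 h'
    · intro h
      rw [← hc, Subgroup.mem_centralizer_singleton_iff] at h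
      exact Subtype.ext (Subtype.ext (mul_inv_eq_iff_eq_mul.2 h))
  have hcard : Nat.card {a : A // a ≠ 1} = Nat.card A - 1 := by
    have : Fintype A := Fintype.ofFinite _
    rw [Nat.card_eq_fintype_card, Fintype.card_subtype_compl, Fintype.card_subtype_eq,
      Nat.card_eq_fintype_card]
  rw [← hcard]
  have e := MulAction.selfEquivSigmaOrbits N {a : A // a ≠ 1}
  rw [Nat.card_congr e]
  have : Finite (MulAction.orbitRel.Quotient N {a : A // a ≠ 1}) := inferInstance
  have : Fintype (MulAction.orbitRel.Quotient N {a : A // a ≠ 1}) := Fintype.ofFinite _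
  rw [Nat.card_sigma]
  refine Finset.dvd_sum fun q _ => ?_
  rw [← hstab q.out, ← MulAction.index_stabilizer_of_transitive (G := N)
    (⟨q.out, MulAction.mem_orbit_self _⟩ : MulAction.orbit N q.out)]
  apply dvd_of_eq
  congr 1
  ext n
  rw [MulAction.mem_stabilizer_iff, MulAction.mem_stabilizer_iff]
  constructor <;> intro h
  · first
      | exact Subtype.ext h
      | exact congrArg Subtype.val h
  · first
      | exact Subtype.ext h
      | exact congrArg Subtype.val h

end Cfsg.Agent.S0196
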