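import Cfsg.Statements.S0200
import Cfsg.Agent.Lib.Involutions.BaerSuzuki
-- import your own Cfsg.Agent.* helpers here

set_option autoImplicit false
open Cfsg

namespace Cfsg.Agent.S0200

/-- An involution lying in no normal 2-subgroup of a finite group inverts a nontrivial element of odd order (a consequence of the Baer–Suzuki Theorem). -/
theorem result {G : Type*} [Group G] [Finite G] (t : G) (ht : orderOf t = 2) (hO : ∀ N : Subgroup G, N.Normal → IsPGroup 2 N → t ∉ N) : ∃ h : G, h ≠ 1 ∧ Odd (orderOf h) ∧ t * h * t⁻¹ = h⁻¹ := by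
  by_contra hcon
  push_neg at hcon
  have key : ∀ g : G, IsPGroup 2 (Subgroup.closure ({t, g * t * g⁻¹} : Set G)) := by
    intro g
    have hs : orderOf (g * t * g⁻¹) = 2 := (CfsgLib.Involutions.orderOf_conj_eq g t).trans ht
    obtain ⟨k, m, hm, hkm⟩ :=
      Nat.exists_eq_two_pow_mul_odd (orderOf_pos (t * (g * t * g⁻¹))).ne'
    apply CfsgLib.Involutions.isPGroup_two_closure_pair ht hs (k := k)
    have hm1 : m = 1 := by
      by_contra hne
      have hord : orderOf ((t * (g * t * g⁻¹)) ^ (2 ^ k)) = m := by
        rw [orderOf_pow' _ (by simp), hkm, Nat.gcd_eq_right (dvd_mul_right _ _),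
          Nat.mul_div_cancel_left _ (by positivity)]
      refine hcon _ ?_ (by rw [hord]; exact hm)
        (CfsgLib.Involutions.inverts_pow (CfsgLib.Involutions.left_inverts_prod ht hs) _)
      intro h1
      rw [h1, orderOf_one] at hord
      exact hne hord.symm
    rw [hkm, hm1, mul_one]
  obtain ⟨N, hN, hNp, htN⟩ := CfsgLib.Involutions.exists_normal_isPGroup_of_mem key
  exact hO N hN hNp htN

end Cfsg.Agent.S0200
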