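import Cfsg.Statements.S0211
import Cfsg.Agent.Lib.Involutions.Basic
-- import your own Cfsg.Agent.* helpers here

set_option autoImplicit false
open Cfsg

namespace Cfsg.Agent.S0211

/-- Let x, y be involutions with xy of even order n and z = (xy)^(n/2). Then xz is conjugate to x by an element of the subgroup generated by x, y if and only if 4 divides n. -/
theorem result {G : Type*} [Group G] [Finite G] (x y : G) (hx : orderOf x = 2) (hy : orderOf y = 2) (heven : Even (orderOf (x * y))) : (∃ d ∈ Subgroup.closure ({x, y} : Set G), d * x * d⁻¹ = x * (x * y) ^ (orderOf (x * y) / 2)) ↔ 4 ∣ orderOf (x * y) := by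
  open CfsgLib.Involutions in
  have key : x * (x * y) ^ (orderOf (x * y) / 2) = (x * y) ^ (orderOf (x * y) / 2) * x :=
    ((central_involution hx hy heven).2.1).eq.symm
  rw [key]
  constructor
  · rintro ⟨d, hd, h⟩
    obtain ⟨k, hk⟩ := CfsgLib.Involutions.conj_mem_closure_pair_eq hx hy hd
    rw [hk, ← zpow_natCast, mul_left_inj, zpow_eq_zpow_iff_modEq, Int.modEq_iff_dvd] at h
    obtain ⟨m, hm⟩ := heven
    have h' : (2 : ℤ) ∣ ((orderOf (x * y) / 2 : ℕ) : ℤ) - 2 * k :=
      (Int.natCast_dvd_natCast.mpr (show 2 ∣ orderOf (x * y) from ⟨m, by omega⟩)).trans h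
    omega
  · intro h4
    obtain ⟨m, hm⟩ := h4
    refine ⟨(x * y) ^ (m : ℤ),
      (CfsgLib.Involutions.mem_closure_pair_iff hx hy).mpr ⟨m, Or.inl rfl⟩, ?_⟩
    have := CfsgLib.Involutions.conj_by_zpow hx hy (m : ℤ) 0
    rw [zpow_zero, one_mul] at this
    have h2 : orderOf (x * y) / 2 = 2 * m := by omega
    rw [this, ← zpow_natCast, h2]
    simp

end Cfsg.Agent.S0211
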