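import Cfsg.Statements.S0212
import Cfsg.Agent.Lib.Involutions.Counting
-- import your own Cfsg.Agent.* helpers here

set_option autoImplicit false
open Cfsg

namespace Cfsg.Agent.S0212

/-- The Brauer–Fowler bound: if G is a finite simple group and t an involution of G whose centralizer has order n, then |G| ≤ (2n^2)!. -/
theorem result {G : Type*} [Group G] [Finite G] [IsSimpleGroup G] (t : G) (ht : orderOf t = 2) : Nat.card G ≤ Nat.factorial (2 * (Nat.card (Subgroup.centralizer ({t} : Set G))) ^ 2) := by
  classical
  have hc : 0 < Nat.card (Subgroup.centralizer ({t} : Set G)) := Nat.card_pos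
  by_cases htc : t ∈ Subgroup.center G
  · have : Subgroup.centralizer ({t} : Set G) = ⊤ := by
      rw [Subgroup.centralizer_eq_top_iff_subset, Set.singleton_subset_iff]; exact htc
    rw [this, Subgroup.card_top]
    refine le_trans ?_ (Nat.self_le_factorial _)
    nlinarith [Nat.card_pos (α := G)]
  · have hZ : Subgroup.center G = ⊥ :=
      ((IsSimpleGroup.eq_bot_or_eq_top_of_normal (Subgroup.center G) inferInstance).resolve_right
        fun h => htc (h ▸ Subgroup.mem_top t))
    set c := Nat.card (Subgroup.centralizer ({t} : Set G))
    set g := Nat.card G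
    set n := CfsgLib.Involutions.numInvolutions G with hn
    have hgn : g ≤ n * c := CfsgLib.Involutions.card_le_involutions_mul_centralizer ht
    have hne : Subgroup.centralizer ({t} : Set G) ≠ ⊤ := fun h => htc
      (Set.singleton_subset_iff.mp (Subgroup.centralizer_eq_top_iff_subset.mp h))
    have hcg : 2 * c ≤ g := by
      have := Subgroup.one_lt_index_of_ne_top hne
      rw [show g = c * (Subgroup.centralizer ({t} : Set G)).index from
        (Subgroup.card_mul_index _).symm]
      nlinarith
    cases nonempty_fintype G
    -- some non-identity element has a large centralizer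
    have hex : ∃ x : G, x ≠ 1 ∧
        n ^ 2 ≤ n + g * Nat.card (Subgroup.centralizer ({x} : Set G)) := by
      have hne : (Finset.univ.erase (1 : G)).Nonempty :=
        ⟨t, Finset.mem_erase.mpr ⟨CfsgLib.Involutions.ne_one_of_involution ht, Finset.mem_univ t⟩⟩
      obtain ⟨x, hx, hmax⟩ := Finset.exists_max_image _
        (fun x : G => Nat.card (Subgroup.centralizer ({x} : Set G))) hne
      refine ⟨x, (Finset.mem_erase.mp hx).1, ?_⟩
      rw [hn, ← CfsgLib.Involutions.sum_numPairs, ← Finset.add_sum_erase _ _ (Finset.mem_univ (1 : G)),
        CfsgLib.Involutions.numPairs_one]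
      refine Nat.add_le_add_left ?_ _
      refine (Finset.sum_le_card_nsmul _ _ _ fun y hy =>
        (CfsgLib.Involutions.numPairs_le_centralizer y).trans (hmax y hy)).trans ?_
      rw [smul_eq_mul]
      refine Nat.mul_le_mul_right _ ?_
      rw [show g = Fintype.card G from Nat.card_eq_fintype_card]
      exact Finset.card_le_univ _
    obtain ⟨x, hx, hxb⟩ := hex
    set D := Subgroup.centralizer ({x} : Set G)
    have hD : D ≠ ⊤ := fun h => hx (by
      have := Set.singleton_subset_iff.mp (Subgroup.centralizer_eq_top_iff_subset.mp h)
      rw [hZ] at this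
      exact Subgroup.mem_bot.mp this)
    have hidx : D.index ≤ 2 * c ^ 2 := by
      have hlag : Nat.card D * D.index = g := Subgroup.card_mul_index D
      have hn2 : 2 ≤ n := by
        by_contra h
        have : n * c ≤ 1 * c := Nat.mul_le_mul_right c (by omega)
        omega
      have h1 : n ^ 2 ≤ 2 * (g * Nat.card D) := by nlinarith
      have h2 : g ^ 2 ≤ n ^ 2 * c ^ 2 := by rw [← mul_pow]; gcongr
      have h3 : g * g ≤ g * (Nat.card D * (2 * c ^ 2)) := by nlinarith
      have h4 := Nat.le_of_mul_le_mul_left h3 Nat.card_pos
      have h5 : Nat.card D * D.index ≤ Nat.card D * (2 * c ^ 2) := by rw [hlag]; exact h4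
      exact Nat.le_of_mul_le_mul_left h5 Nat.card_pos
    have hinj : Function.Injective (MulAction.toPermHom G (G ⧸ D)) := by
      rw [← MonoidHom.ker_eq_bot_iff, ← Subgroup.normalCore_eq_ker]
      exact (IsSimpleGroup.eq_bot_or_eq_top_of_normal D.normalCore inferInstance).resolve_right
        fun h => hD (top_le_iff.mp (h ▸ D.normalCore_le))
    refine (Nat.card_le_card_of_injective _ hinj).trans ?_
    rw [Nat.card_perm]
    exact Nat.factorial_le hidx

end Cfsg.Agent.S0212
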