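import Cfsg.Statements.S0214
import Cfsg.Agent.Lib.Involutions.StronglyEmbedded
-- import your own Cfsg.Agent.* helpers here

set_option autoImplicit false
open Cfsg

namespace Cfsg.Agent.S0214

/-- Let H be a proper subgroup of the finite group G and P a nontrivial Sylow 2-subgroup of H. Then H is strongly embedded in G if and only if N_G(X) ≤ H for every nontrivial subgroup X of P. -/
theorem result {G : Type*} [Group G] [Finite G] (H : Subgroup G) (hH : H ≠ ⊤) (P : Sylow 2 ↥H) (hP : (P : Subgroup ↥H) ≠ ⊥) : Cfsg.IsStronglyEmbedded H ↔ (∀ X : Subgroup ↥H, X ≤ (P : Subgroup ↥H) → X ≠ ⊥ → Subgroup.normalizer ((X.map H.subtype : Subgroup G) : Set G) ≤ H) := by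
  have heven : Even (Nat.card H) := by
    obtain ⟨k, hk⟩ := IsPGroup.iff_card.mp P.isPGroup'
    have hk0 : k ≠ 0 := fun h => hP (by rw [← Subgroup.card_eq_one, hk, h, pow_zero])
    have h2 : 2 ∣ Nat.card (P : Subgroup H) := hk ▸ dvd_pow_self 2 hk0
    exact even_iff_two_dvd.mpr (h2.trans (Subgroup.card_subgroup_dvd_card _))
  constructor
  · intro hse X hXP hX
    refine CfsgLib.Involutions.se_normalizer_le hse (Subgroup.map_subtype_le X) ?_
    rw [Subgroup.card_subtype]
    obtain ⟨k, hk⟩ := IsPGroup.iff_card.mp (P.isPGroup'.to_le hXP)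
    have hk0 : k ≠ 0 := fun h => hX (by rw [← Subgroup.card_eq_one, hk, h, pow_zero])
    exact even_iff_two_dvd.mpr (hk ▸ dvd_pow_self 2 hk0)
  · intro hN
    refine CfsgLib.Involutions.isStronglyEmbedded_of_normalizers hH heven fun Y hYH hY hY0 g hg => ?_
    obtain ⟨Q, hQ⟩ := (hY.comap_subtype (K := H)).exists_le_sylow
    obtain ⟨k, hk⟩ := MulAction.exists_smul_eq H Q P
    have hXP : (Y.subgroupOf H).map (MulAut.conj k).toMonoidHom ≤ (P : Subgroup H) := by
      rw [← hk]
      exact Subgroup.map_mono hQ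
    have hX0 : (Y.subgroupOf H).map (MulAut.conj k).toMonoidHom ≠ ⊥ := by
      rw [Ne, Subgroup.map_eq_bot_iff_of_injective _ (MulAut.conj k).injective,
        Subgroup.subgroupOf_eq_bot, disjoint_of_le_iff_left_eq_bot hYH]
      exact hY0
    have hmem : (k : G) * g * (k : G)⁻¹ ∈ H := by
      apply hN _ hXP hX0
      have heq : ((Y.subgroupOf H).map (MulAut.conj k).toMonoidHom).map H.subtype
          = Y.map (MulAut.conj (k : G)).toMonoidHom := by
        rw [Subgroup.map_map]
        have : H.subtype.comp (MulAut.conj k).toMonoidHom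
            = (MulAut.conj (k : G)).toMonoidHom.comp H.subtype := by ext; simp
        rw [this, ← Subgroup.map_map, Subgroup.subgroupOf_map_subtype, inf_eq_left.mpr hYH]
      rw [heq]
      exact Subgroup.le_normalizer_map _ ⟨g, hg, rfl⟩
    have := H.mul_mem (H.mul_mem (H.inv_mem k.2) hmem) k.2
    simpa [mul_assoc] using this

end Cfsg.Agent.S0214
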