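import Cfsg.Statements.S0216
import Cfsg.Agent.Lib.Involutions.Fusion
-- import your own Cfsg.Agent.* helpers here

set_option autoImplicit false
open Cfsg

namespace Cfsg.Agent.S0216

/-- For an involution u in a Sylow 2-subgroup P of a finite group G, the following are equivalent: no G-conjugate of u other than u lies in P; every commutator of u with an element of G has odd order. -/
theorem result {G : Type*} [Group G] [Finite G] (P : Sylow 2 G) (u : G) (hu : orderOf u = 2) (huP : u ∈ P) : (∀ g : G, g * u * g⁻¹ ∈ P → g * u * g⁻¹ = u) ↔ (∀ g : G, Odd (orderOf (u * g * u⁻¹ * g⁻¹))) := by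
  have key : ∀ g : G, u * g * u⁻¹ * g⁻¹ = u * (g * u * g⁻¹) := fun g => by
    rw [CfsgLib.Involutions.inv_eq_self_of_involution hu]; group
  constructor
  · intro h g
    rw [key]
    exact CfsgLib.Involutions.Isolated.odd_orderOf_mul
      (CfsgLib.Involutions.isIsolated_of_sylow P hu h) (IsConj.refl u) (isConj_iff.mpr ⟨g, rfl⟩)
  · intro h g hg
    have hodd := h g
    rw [key] at hodd
    obtain ⟨k, hk⟩ := IsPGroup.iff_orderOf.mp P.isPGroup'
      ⟨u * (g * u * g⁻¹), (P : Subgroup G).mul_mem huP hg⟩
    rw [Subgroup.orderOf_mk] at hk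
    rw [hk] at hodd
    have hk0 : k = 0 := by
      by_contra hne
      exact (Nat.not_even_iff_odd.mpr hodd) ((Nat.even_pow' hne).mpr even_two)
    rw [hk0, pow_zero, orderOf_eq_one_iff] at hk
    exact (inv_eq_of_mul_eq_one_right hk).symm.trans (CfsgLib.Involutions.inv_eq_self_of_involution hu)

end Cfsg.Agent.S0216
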