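import Cfsg.Statements.S0221
import Cfsg.Agent.Lib.Involutions.Fusion
import Cfsg.Agent.Lib.Transfer.Basic
-- import your own Cfsg.Agent.* helpers here

set_option autoImplicit false
open Cfsg

namespace Cfsg.Agent.S0221

open scoped Classical in
private theorem dvd_card_of_stabilizer_index {K X : Type*} [Group K] [MulAction K X] [Finite X] {d : ℕ}
    (h : ∀ x : X, d ∣ (MulAction.stabilizer K x).index) : d ∣ Nat.card X := by
  haveI : Fintype (MulAction.orbitRel.Quotient K X) := Fintype.ofFinite _
  rw [Nat.card_congr (MulAction.selfEquivSigmaOrbits' K X), Nat.card_sigma]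
  refine Finset.dvd_sum fun ω _ => ?_
  rw [MulAction.orbitRel.Quotient.orbit_eq_orbit_out ω Quotient.out_eq',
    Nat.card_congr (MulAction.orbitEquivQuotientStabilizer K ω.out)]
  exact h _

private theorem four_dvd_sols {P : Type*} [Group P] [Finite P] (E : Subgroup P) (hE : Nat.card E = 8)
    (hexp : ∀ e ∈ E, e * e = 1) : 4 ∣ Nat.card {x : P // x * x = 1} := by
  classical
  have hcomm : ∀ e ∈ E, ∀ f ∈ E, e * f = f * e := by
    intro e he f hf
    have hinv : ∀ a ∈ E, a⁻¹ = a := fun a ha => inv_eq_of_mul_eq_one_right (hexp a ha)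
    rw [← hinv (e * f) (E.mul_mem he hf), mul_inv_rev, hinv e he, hinv f hf]
  let F : {x : P // x * x = 1} → Subgroup P := fun x => E ⊓ Subgroup.centralizer ({x.1} : Set P)
  haveI : Fintype (Subgroup P) := Fintype.ofFinite _
  rw [← Nat.card_congr (Equiv.sigmaFiberEquiv F), Nat.card_sigma]
  refine Finset.dvd_sum fun Q _ => ?_
  by_cases hne : Nonempty {x : {x : P // x * x = 1} // F x = Q}
  swap
  · rw [not_nonempty_iff] at hne
    simp
  obtain ⟨⟨x₀, hx₀⟩⟩ := hne
  have hQE : Q ≤ E := hx₀ ▸ inf_le_left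
  by_cases h4 : 4 ∣ Nat.card Q
  · -- `Q` acts freely by multiplication
    have hQc : ∀ q ∈ Q, ∀ x : {x : {x : P // x * x = 1} // F x = Q}, q * x.1.1 = x.1.1 * q := by
      intro q hq x
      have h1 : q ∈ F x.1 := by rw [x.2]; exact hq
      exact Subgroup.mem_centralizer_singleton_iff.mp h1.2
    let act : Q → {x : {x : P // x * x = 1} // F x = Q} → {x : {x : P // x * x = 1} // F x = Q} :=
      fun q x => ⟨⟨q.1 * x.1.1, by
        rw [(show Commute x.1.1 q.1 from (hQc q.1 q.2 x).symm).mul_mul_mul_comm, hexp q.1 (hQE q.2),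
          x.1.2, one_mul]⟩, by
        refine Eq.trans ?_ x.2
        ext a
        simp only [F, Subgroup.mem_inf, Subgroup.mem_centralizer_singleton_iff]
        refine and_congr_right fun ha => ?_
        rw [← mul_assoc, hcomm a ha q.1 (hQE q.2), mul_assoc, mul_assoc, mul_left_cancel_iff]⟩
    letI : MulAction Q {x : {x : P // x * x = 1} // F x = Q} :=
      { smul := act
        one_smul := fun x => Subtype.ext (Subtype.ext (one_mul _))
        mul_smul := fun a b x => Subtype.ext (Subtype.ext (mul_assoc _ _ _)) }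
    refine dvd_card_of_stabilizer_index (K := Q) fun x => ?_
    have hbot : MulAction.stabilizer Q x = ⊥ := by
      rw [eq_bot_iff]
      intro q hq
      have h1 : q.1 * x.1.1 = x.1.1 := congrArg (fun y => y.1.1) (MulAction.mem_stabilizer_iff.mp hq)
      exact Subgroup.mem_bot.mpr (Subtype.ext (mul_eq_right.mp h1))
    rw [hbot, Subgroup.index_bot]
    exact h4
  · -- `E` acts by conjugation with stabiliser `Q` of order at most 2
    let act : E → {x : {x : P // x * x = 1} // F x = Q} → {x : {x : P // x * x = 1} // F x = Q} :=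
      fun e x => ⟨⟨e.1 * x.1.1 * e.1⁻¹, by
        calc e.1 * x.1.1 * e.1⁻¹ * (e.1 * x.1.1 * e.1⁻¹) = e.1 * (x.1.1 * x.1.1) * e.1⁻¹ := by group
          _ = 1 := by rw [x.1.2]; group⟩, by
        refine Eq.trans ?_ x.2
        ext a
        simp only [F, Subgroup.mem_inf, Subgroup.mem_centralizer_singleton_iff]
        refine and_congr_right fun ha => ?_
        have hae := hcomm a ha e.1 e.2
        have hae' : e.1⁻¹ * a = a * e.1⁻¹ := ((show Commute a e.1 from hae).inv_right).symm.eq
        constructor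
        · intro h
          calc a * x.1.1 = e.1⁻¹ * (e.1 * a) * x.1.1 * e.1⁻¹ * e.1 := by group
            _ = e.1⁻¹ * (a * (e.1 * x.1.1 * e.1⁻¹)) * e.1 := by rw [← hae]; group
            _ = x.1.1 * (e.1⁻¹ * a) * e.1 := by rw [h]; group
            _ = x.1.1 * a := by rw [hae']; group
        · intro h
          calc a * (e.1 * x.1.1 * e.1⁻¹) = (a * e.1) * x.1.1 * e.1⁻¹ := by group
            _ = e.1 * (a * x.1.1) * e.1⁻¹ := by rw [hae]; group
            _ = e.1 * x.1.1 * (a * e.1⁻¹) := by rw [h]; group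
            _ = e.1 * x.1.1 * e.1⁻¹ * a := by rw [← hae']; group⟩
    letI : MulAction E {x : {x : P // x * x = 1} // F x = Q} :=
      { smul := act
        one_smul := fun x => by
          refine Subtype.ext (Subtype.ext ?_)
          change (1 : P) * x.1.1 * (1 : P)⁻¹ = x.1.1
          simp
        mul_smul := fun a b x => by
          refine Subtype.ext (Subtype.ext ?_)
          change (a.1 * b.1) * x.1.1 * (a.1 * b.1)⁻¹ = a.1 * (b.1 * x.1.1 * b.1⁻¹) * a.1⁻¹
          group }
    refine dvd_card_of_stabilizer_index (K := E) fun x => ?_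
    have hst : MulAction.stabilizer E x = Q.subgroupOf E := by
      ext e
      rw [MulAction.mem_stabilizer_iff, Subgroup.mem_subgroupOf]
      constructor
      · intro h
        have h1 : e.1 * x.1.1 * e.1⁻¹ = x.1.1 := congrArg (fun y => y.1.1) h
        rw [← x.2]
        exact ⟨e.2, Subgroup.mem_centralizer_singleton_iff.mpr (mul_inv_eq_iff_eq_mul.mp h1)⟩
      · intro h
        rw [← x.2] at h
        exact Subtype.ext (Subtype.ext (mul_inv_eq_iff_eq_mul.mpr (Subgroup.mem_centralizer_singleton_iff.mp h.2)))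
    rw [hst]
    change 4 ∣ Q.relIndex E
    have hmul : Nat.card Q * Q.relIndex E = 8 := by
      rw [← hE]
      have h1 := (Q.subgroupOf E).card_mul_index
      rwa [Nat.card_congr (Subgroup.subgroupOfEquivOfLe hQE).toEquiv] at h1
    have hdvd : Nat.card Q ∣ 2 ^ 3 := by rw [show (2 : ℕ) ^ 3 = 8 by norm_num, ← hmul]; exact dvd_mul_right _ _
    obtain ⟨k, hk, hkq⟩ := (Nat.dvd_prime_pow Nat.prime_two).mp hdvd
    rw [hkq] at h4 hmul
    interval_cases k <;> simp_all <;> omega

private theorem exists_four {G : Type*} [Group G] [Finite G] (P : Sylow 2 G) {E : Subgroup G}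
    (hEP : E ≤ (P : Subgroup G)) (hE : Nat.card E = 8) (hexp : ∀ e ∈ E, e ^ 2 = 1) :
    ∃ z ∈ (P : Subgroup G), orderOf z = 2 ∧ (∀ p ∈ (P : Subgroup G), z * p = p * z) ∧
      ∃ w ∈ (P : Subgroup G), orderOf w = 2 ∧ w ≠ z ∧
        ((P : Subgroup G) ⊓ Subgroup.centralizer ({w} : Set G)).relIndex (P : Subgroup G) ≤ 2 := by
  classical
  have hPp : IsPGroup 2 (P : Subgroup G) := P.isPGroup'
  haveI : Nontrivial (P : Subgroup G) := by
    apply Finite.one_lt_card_iff_nontrivial.mp
    have := Subgroup.card_dvd_of_le hEP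
    rw [hE] at this
    have := Nat.le_of_dvd Nat.card_pos this
    omega
  haveI := hPp.center_nontrivial
  obtain ⟨k, hk⟩ := IsPGroup.iff_card.mp (hPp.to_subgroup (Subgroup.center (P : Subgroup G)))
  have hk0 : k ≠ 0 := by
    rintro rfl
    have := Finite.one_lt_card_iff_nontrivial.mpr (inferInstance : Nontrivial (Subgroup.center (P : Subgroup G)))
    rw [hk] at this
    simp at this
  obtain ⟨z, hz⟩ := exists_prime_orderOf_dvd_card' (G := Subgroup.center (P : Subgroup G)) 2
    (hk ▸ dvd_pow_self 2 hk0)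
  obtain ⟨⟨z, hzP⟩, hzc⟩ := z
  rw [Subgroup.orderOf_mk, Subgroup.orderOf_mk] at hz
  refine ⟨z, hzP, hz, fun p hp => (congrArg Subtype.val (Subgroup.mem_center_iff.mp hzc ⟨p, hp⟩)).symm, ?_⟩
  by_contra hno
  push_neg at hno
  -- count the solutions of `x * x = 1` in `P` modulo 4
  let S := {x : (P : Subgroup G) // x * x = 1}
  let T := {s : S // s.1.1 ≠ 1 ∧ s.1.1 ≠ z}
  have h4 : 4 ∣ Nat.card S := four_dvd_sols (E.subgroupOf (P : Subgroup G))
    ((Nat.card_congr (Subgroup.subgroupOfEquivOfLe hEP).toEquiv).trans hE)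
    (fun e he => Subtype.ext (by have := hexp _ he; rwa [pow_two] at this))
  have hz1 : z ≠ 1 := CfsgLib.Involutions.ne_one_of_involution hz
  have hzcomm : ∀ p : (P : Subgroup G), p.1 * z = z * p.1 := fun p =>
    congrArg Subtype.val (Subgroup.mem_center_iff.mp hzc p)
  let act : ↥(P : Subgroup G) → T → T := fun p s => ⟨⟨p * s.1.1 * p⁻¹, by
      calc p * s.1.1 * p⁻¹ * (p * s.1.1 * p⁻¹) = p * (s.1.1 * s.1.1) * p⁻¹ := by group
        _ = 1 := by rw [s.1.2]; group⟩, by
      refine ⟨?_, ?_⟩
      · intro h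
        exact s.2.1 (conj_eq_one_iff.mp h)
      · intro h
        apply s.2.2
        change p.1 * s.1.1.1 * p.1⁻¹ = z at h
        calc s.1.1.1 = p.1⁻¹ * (p.1 * s.1.1.1 * p.1⁻¹) * p.1 := by group
          _ = z := by rw [h, mul_assoc, ← hzcomm p]; group⟩
  letI : MulAction (P : Subgroup G) T :=
    { smul := act
      one_smul := fun s => by
        refine Subtype.ext (Subtype.ext ?_)
        change (1 : (P : Subgroup G)) * s.1.1 * 1⁻¹ = s.1.1
        simp
      mul_smul := fun a b s => by
        refine Subtype.ext (Subtype.ext ?_)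
        change (a * b) * s.1.1 * (a * b)⁻¹ = a * (b * s.1.1 * b⁻¹) * a⁻¹
        group }
  have hT : 4 ∣ Nat.card T := by
    refine dvd_card_of_stabilizer_index (K := (P : Subgroup G)) fun s => ?_
    have hw : orderOf s.1.1.1 = 2 :=
      CfsgLib.Involutions.orderOf_eq_two_iff_mul.mpr ⟨s.2.1, congrArg Subtype.val s.1.2⟩
    have hst : (MulAction.stabilizer (P : Subgroup G) s).index =
        ((P : Subgroup G) ⊓ Subgroup.centralizer ({s.1.1.1} : Set G)).relIndex (P : Subgroup G) := by
      rw [Subgroup.inf_relIndex_left, Subgroup.relIndex]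
      congr 1
      ext p
      rw [MulAction.mem_stabilizer_iff, Subgroup.mem_subgroupOf, Subgroup.mem_centralizer_singleton_iff,
        ← mul_inv_eq_iff_eq_mul]
      exact ⟨fun h => congrArg (fun y : T => y.1.1.1) h,
        fun h => Subtype.ext (Subtype.ext (Subtype.ext h))⟩
    obtain ⟨j, hj⟩ := hPp.index (MulAction.stabilizer (P : Subgroup G) s)
    have h3 := hno _ s.1.1.2 hw s.2.2
    rw [← hst, hj] at h3
    rw [hj]
    rcases j with _ | _ | j
    · simp at h3
    · simp at h3
    · rw [pow_succ, pow_succ, mul_assoc]; exact dvd_mul_left 4 _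
  have hsplit : Nat.card S = Nat.card T + 2 := by
    cases nonempty_fintype G
    have hone : (⟨1, one_mul 1⟩ : S) ≠ ⟨⟨z, hzP⟩, Subtype.ext (CfsgLib.Involutions.mul_self_eq_one hz)⟩ :=
      fun h => hz1 (congrArg (fun y : S => y.1.1) h).symm
    have hpair := Set.ncard_pair hone
    have hTset : Nat.card T = ({s : S | s.1.1 ≠ 1 ∧ s.1.1 ≠ z}).ncard := rfl
    have huniv : ({s : S | s.1.1 ≠ 1 ∧ s.1.1 ≠ z}) ∪ {⟨1, one_mul 1⟩,
        ⟨⟨z, hzP⟩, Subtype.ext (CfsgLib.Involutions.mul_self_eq_one hz)⟩} = Set.univ := by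
      refine Set.eq_univ_of_forall fun s => ?_
      by_cases h1 : s.1.1 = 1
      · exact Or.inr (Or.inl (Subtype.ext (Subtype.ext h1)))
      · by_cases h2 : s.1.1 = z
        · exact Or.inr (Or.inr (Subtype.ext (Subtype.ext h2)))
        · exact Or.inl ⟨h1, h2⟩
    have hu := congrArg Set.ncard huniv
    rw [Set.ncard_union_eq ?_ (Set.toFinite _) (Set.toFinite _), Set.ncard_univ, hpair, ← hTset] at hu
    · exact hu.symm
    · rw [Set.disjoint_left]
      rintro s hs (rfl | rfl)
      · exact hs.1 rfl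
      · exact hs.2 rfl
  omega

private theorem exists_eight {G : Type*} [Group G] [Finite G] (P : Sylow 2 G) {E₀ : Subgroup G}
    (hEP : E₀ ≤ (P : Subgroup G)) (hE₀ : Nat.card E₀ = 8) (hexp₀ : ∀ e ∈ E₀, e ^ 2 = 1)
    {z : G} (hzP : z ∈ (P : Subgroup G)) (hz : orderOf z = 2)
    (hzc : ∀ p ∈ (P : Subgroup G), z * p = p * z)
    {w : G} (hwP : w ∈ (P : Subgroup G)) (hw : orderOf w = 2) (hwz : w ≠ z)
    (hidx : ((P : Subgroup G) ⊓ Subgroup.centralizer ({w} : Set G)).relIndex (P : Subgroup G) ≤ 2)
    {y : G} (hy : y ∈ (P : Subgroup G) ⊓ Subgroup.centralizer ({w} : Set G)) (hy2 : orderOf y = 2) :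
    ∃ E : Subgroup G, E ≤ Subgroup.centralizer ({y} : Set G) ∧ Nat.card E = 8 ∧ ∀ e ∈ E, e ^ 2 = 1 := by
  classical
  set U := Subgroup.closure ({z, w} : Set G) with hU
  have hzw : Commute z w := hzc w hwP
  have hU4 : Nat.card U = 4 := by
    rw [CfsgLib.Involutions.card_closure_pair hz hw]
    have h2 : orderOf (z * w) = 2 := by
      rw [CfsgLib.Involutions.orderOf_eq_two_iff_mul]
      refine ⟨fun h => hwz ?_, ?_⟩
      · exact ((CfsgLib.Involutions.inv_eq_self_of_involution hz).symm.trans
          (inv_eq_of_mul_eq_one_right h)).symm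
      · rw [hzw.symm.mul_mul_mul_comm, CfsgLib.Involutions.mul_self_eq_one hz,
          CfsgLib.Involutions.mul_self_eq_one hw, one_mul]
    rw [h2]
  -- `D` is the centralizer of `w` in `E₀`
  set D := E₀ ⊓ Subgroup.centralizer ({w} : Set G) with hD
  have hDcard : 4 ≤ Nat.card D := by
    have h1 : D.relIndex E₀ ≤ 2 := by
      rw [hD, Subgroup.inf_relIndex_left]
      rw [Subgroup.inf_relIndex_left] at hidx
      exact (Subgroup.relIndex_le_of_le_right hEP Subgroup.index_ne_zero_of_finite).trans hidx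
    have h2 := Subgroup.card_mul_index (D.subgroupOf E₀)
    rw [Nat.card_congr (Subgroup.subgroupOfEquivOfLe (inf_le_left : D ≤ E₀)).toEquiv, hE₀] at h2
    change Nat.card D * D.relIndex E₀ = 8 at h2
    nlinarith
  -- for `d` centralizing `z`, `w`, `y`: the subgroup `U ⊔ ⟨d⟩` is elementary abelian
  have build : ∀ d : G, d * d = 1 → Commute d z → Commute d w → Commute d y → Commute y z → Commute y w →
      d ∉ U → ∃ E : Subgroup G, E ≤ Subgroup.centralizer ({y} : Set G) ∧ Nat.card E = 8 ∧ ∀ e ∈ E, e ^ 2 = 1 := by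
    intro d hd hdz hdw hdy hyz hyw hdU
    set W := Subgroup.closure ({z, w, d} : Set G) with hW
    have hgen : ∀ a ∈ ({z, w, d} : Set G), a * a = 1 ∧ Commute a z ∧ Commute a w ∧ Commute a d ∧ Commute a y := by
      rintro a (rfl | rfl | rfl)
      · exact ⟨CfsgLib.Involutions.mul_self_eq_one hz, Commute.refl a, hzw, hdz.symm, hyz.symm⟩
      · exact ⟨CfsgLib.Involutions.mul_self_eq_one hw, hzw.symm, Commute.refl a, hdw.symm, hyw.symm⟩
      · exact ⟨hd, hdz, hdw, Commute.refl a, hdy⟩
    have hWy : W ≤ Subgroup.centralizer ({y} : Set G) := by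
      rw [hW, Subgroup.closure_le]
      exact fun a ha => Subgroup.mem_centralizer_singleton_iff.mpr (hgen a ha).2.2.2.2.eq
    have hWcomm : ∀ a ∈ ({z, w, d} : Set G), ∀ e ∈ W, Commute a e := by
      intro a ha e he
      induction he using Subgroup.closure_induction with
      | mem b hb =>
        rcases hb with rfl | rfl | rfl
        · exact (hgen a ha).2.1
        · exact (hgen a ha).2.2.1
        · exact (hgen a ha).2.2.2.1
      | one => exact Commute.one_right a
      | mul b c _ _ hb hc => exact hb.mul_right hc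
      | inv b _ hb => exact hb.inv_right
    have hWexp : ∀ e ∈ W, e ^ 2 = 1 := by
      intro e he
      induction he using Subgroup.closure_induction with
      | mem b hb => rw [pow_two]; exact (hgen b hb).1
      | one => exact one_pow 2
      | mul b c hb hc ihb ihc =>
        have hbc : Commute b c := by
          clear ihb
          induction hb using Subgroup.closure_induction with
          | mem a ha => exact hWcomm a ha c hc
          | one => exact Commute.one_left c
          | mul a a' _ _ h h' => exact h.mul_left h'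
          | inv a _ h => exact h.inv_left
        rw [hbc.mul_pow, ihb, ihc, one_mul]
      | inv b _ ihb => rw [inv_pow, ihb, inv_one]
    have hUW : U ≤ W := Subgroup.closure_mono (by intro a ha; rcases ha with rfl | rfl <;> simp)
    have hdW : d ∈ W := Subgroup.subset_closure (by simp)
    obtain ⟨k, hk⟩ : ∃ k, Nat.card W = 2 ^ k := by
      refine IsPGroup.iff_card.mp (show IsPGroup 2 W from fun e => ⟨1, Subtype.ext ?_⟩)
      rw [pow_one]
      exact hWexp e.1 e.2
    have h4W : 4 ∣ Nat.card W := hU4 ▸ Subgroup.card_dvd_of_le hUW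
    have hne : Nat.card W ≠ 4 := fun h =>
      hdU ((Subgroup.eq_of_le_of_card_ge hUW (by rw [h, hU4])).symm ▸ hdW)
    have hk3 : 3 ≤ k := by
      by_contra h
      interval_cases k <;> simp_all <;> omega
    obtain ⟨W', hW'⟩ := Sylow.exists_subgroup_card_pow_prime (G := W) 2 (n := 3) (hk ▸ pow_dvd_pow 2 hk3)
    refine ⟨W'.map W.subtype, (Subgroup.map_subtype_le W').trans hWy,
      by rw [Subgroup.card_subtype, hW']; norm_num, fun e he => hWexp e (Subgroup.map_subtype_le W' he)⟩
  have hyP := hy.1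
  have hyw : Commute y w := Subgroup.mem_centralizer_singleton_iff.mp hy.2
  have hyz : Commute y z := (hzc y hyP).symm
  by_cases hyU : y ∈ U
  swap
  · exact build y (CfsgLib.Involutions.mul_self_eq_one hy2) hyz hyw (Commute.refl y) hyz hyw hyU
  by_cases hDU : D ≤ U
  · have hDeq : D = U := Subgroup.eq_of_le_of_card_ge hDU (by rw [hU4]; exact hDcard)
    have hyE : y ∈ E₀ := (hDeq.symm ▸ hyU : y ∈ D).1
    refine ⟨E₀, fun e he => ?_, hE₀, hexp₀⟩
    rw [Subgroup.mem_centralizer_singleton_iff]
    have hinv : ∀ a ∈ E₀, a⁻¹ = a := fun a ha => inv_eq_of_mul_eq_one_right (by rw [← pow_two]; exact hexp₀ a ha)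
    rw [← hinv (e * y) (E₀.mul_mem he hyE), mul_inv_rev, hinv e he, hinv y hyE]
  · obtain ⟨d, hd, hdU⟩ := SetLike.not_le_iff_exists.mp hDU
    have hdw : Commute d w := Subgroup.mem_centralizer_singleton_iff.mp hd.2
    have hdz : Commute d z := (hzc d (hEP hd.1)).symm
    refine build d (by rw [← pow_two]; exact hexp₀ d hd.1) hdz hdw ?_ hyz hyw hdU
    exact Subgroup.mem_centralizer_singleton_iff.mp
      ((Subgroup.closure_le (K := Subgroup.centralizer ({d} : Set G))).mpr (by
        rintro a (rfl | rfl)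
        · exact Subgroup.mem_centralizer_singleton_iff.mpr hdz.symm.eq
        · exact Subgroup.mem_centralizer_singleton_iff.mpr hdw.symm.eq) hyU) |>.symm

/-- Let G be a finite group with no subgroup of index 2 whose 2-rank is at least 3 (it contains an elementary abelian subgroup of order 8). Then the centralizer of every involution of G also contains an elementary abelian subgroup of order 8. -/
theorem result {G : Type*} [Group G] [Finite G] (hno : ∀ H : Subgroup G, H.index ≠ 2) (hrank : ∃ E : Subgroup G, Nat.card E = 8 ∧ ∀ e ∈ E, e ^ 2 = 1) (x : G) (hx : orderOf x = 2) : ∃ E : Subgroup G, E ≤ Subgroup.centralizer ({x} : Set G) ∧ Nat.card E = 8 ∧ ∀ e ∈ E, e ^ 2 = 1 := by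
  obtain ⟨E₀, hE₀, hexp₀⟩ := hrank
  have hE₀p : IsPGroup 2 E₀ := IsPGroup.of_card (n := 3) (by rw [hE₀]; norm_num)
  obtain ⟨P, hP⟩ := hE₀p.exists_le_sylow
  obtain ⟨g, hg⟩ := CfsgLib.Involutions.exists_conj_le_sylow (CfsgLib.Involutions.isPGroup_two_zpowers hx) P
  have hx' := hg x (Subgroup.mem_zpowers x)
  -- a four group `⟨z, w⟩` of `P` with centralizer of index at most 2
  obtain ⟨z, hzP, hz, hzc, w, hwP, hw, hwz, hidx⟩ := exists_four P hP hE₀ hexp₀
  set M := (P : Subgroup G) ⊓ Subgroup.centralizer ({w} : Set G) with hM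
  obtain ⟨c, hc⟩ : ∃ c : G, c * x * c⁻¹ ∈ M := by
    by_cases hmem : g * x * g⁻¹ ∈ M
    · exact ⟨g, hmem⟩
    · have h2 : M.relIndex (P : Subgroup G) = 2 := by
        refine le_antisymm hidx ?_
        by_contra hlt
        rcases Nat.le_one_iff_eq_zero_or_eq_one.mp (Nat.lt_succ_iff.mp (not_le.mp hlt)) with h | h
        · exact Subgroup.index_ne_zero_of_finite h
        · exact hmem (Subgroup.relIndex_eq_one.mp h hx')
      by_contra hno'
      push_neg at hno'
      obtain ⟨N, -, hN2, -⟩ := CfsgLib.Transfer.thompson_transfer P M h2 (g * x * g⁻¹)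
        (by rw [pow_two, CfsgLib.Involutions.mul_self_eq_one ((CfsgLib.Involutions.orderOf_conj_eq g x).trans hx)])
        (fun k _ hk => hno' (k * g) (by simpa [mul_assoc] using hk))
      exact hno N hN2
  obtain ⟨E, hEle, hE8, hEexp⟩ := exists_eight P hP hE₀ hexp₀ hzP hz hzc hwP hw hwz hidx hc
    ((CfsgLib.Involutions.orderOf_conj_eq c x).trans hx)
  refine ⟨E.map (MulAut.conj c⁻¹).toMonoidHom, ?_, ?_, ?_⟩
  · rintro _ ⟨e, he, rfl⟩
    have h1 := Subgroup.mem_centralizer_singleton_iff.mp (hEle he)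
    rw [Subgroup.mem_centralizer_singleton_iff]
    simp only [MulEquiv.coe_toMonoidHom, MulAut.conj_apply, inv_inv]
    calc c⁻¹ * e * c * x = c⁻¹ * (e * (c * x * c⁻¹)) * c := by group
      _ = x * (c⁻¹ * e * c) := by rw [h1]; group
  · rw [Subgroup.card_map_of_injective (MulAut.conj c⁻¹).injective]; exact hE8
  · rintro _ ⟨e, he, rfl⟩
    rw [← map_pow, hEexp e he, map_one]

end Cfsg.Agent.S0221
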