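import Cfsg.Statements.S0224
import Cfsg.Agent.Lib.Involutions.StronglyEmbedded
-- import your own Cfsg.Agent.* helpers here

set_option autoImplicit false
open Cfsg

namespace Cfsg.Agent.S0224

/-- Let H be a proper subgroup of even order of the finite group G. Then H is strongly embedded if and only if each involution of H fixes exactly one point (namely the coset H) in the action of G on the cosets of H. -/
theorem result {G : Type*} [Group G] [Finite G] (H : Subgroup G) (hH : H ≠ ⊤) (heven : Even (Nat.card H)) : Cfsg.IsStronglyEmbedded H ↔ ∀ t ∈ H, orderOf t = 2 → Nat.card {c : G ⧸ H // t • c = c} = 1 := by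
  rw [CfsgLib.Involutions.isStronglyEmbedded_iff]
  constructor
  · intro h t htH ht
    rw [CfsgLib.Involutions.card_fixed_coset_eq_one_iff htH]
    intro g hg
    by_contra hgH
    exact h.2.2 g hgH t htH ht hg
  · intro h
    refine ⟨hH, heven, fun g hg t htH ht htg => hg ?_⟩
    exact (CfsgLib.Involutions.card_fixed_coset_eq_one_iff htH).mp (h t htH ht) g htg

end Cfsg.Agent.S0224
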