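import Cfsg.Statements.S0228
import Cfsg.Agent.Lib.Small.Basic
import Cfsg.Agent.Lib.Involutions.Basic
-- import your own Cfsg.Agent.* helpers here

set_option autoImplicit false
open Cfsg

namespace Cfsg.Agent.S0228

/-- A group of order 12 in which no involution is central is isomorphic to the alternating group on four letters. -/
theorem result {G : Type*} [Group G] [Finite G] (hG : Nat.card G = 12) (hz : ∀ z : G, orderOf z = 2 → z ∉ Subgroup.center G) : Nonempty (G ≃* alternatingGroup (Fin 4)) := by
  classical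
  haveI : Fact (Nat.Prime 3) := ⟨by norm_num⟩
  obtain ⟨Q⟩ : Nonempty (Sylow 3 G) := inferInstance
  have hQ : Nat.card (Q : Subgroup G) = 3 :=
    CfsgLib.Small.card_sylow_of_card_eq (p := 3) (k := 1) (m := 4) (by rw [hG]; norm_num) (by decide) Q
  have hidx : (Q : Subgroup G).index = 4 := by
    have := (Q : Subgroup G).card_mul_index
    rw [hQ, hG] at this
    omega
  have hn4 : Nat.card (Sylow 3 G) ∈ ({1, 4} : Finset ℕ) := by
    have h2 := card_sylow_modEq_one 3 G
    have hdvd : Nat.card (Sylow 3 G) ∣ 4 := hidx ▸ Q.card_dvd_index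
    have := Nat.le_of_dvd (by norm_num) hdvd
    unfold Nat.ModEq at h2
    interval_cases Nat.card (Sylow 3 G) <;> simp_all
  have hne1 : Nat.card (Sylow 3 G) ≠ 1 := by
    intro h1
    have hsub : Subsingleton (Sylow 3 G) := (Nat.card_eq_one_iff_unique.mp h1).1
    have hnorm : (Q : Subgroup G).Normal := Q.normal_of_subsingleton
    obtain ⟨S⟩ : Nonempty (Sylow 2 G) := inferInstance
    have hS : Nat.card (S : Subgroup G) = 4 :=
      CfsgLib.Small.card_sylow_of_card_eq (p := 2) (k := 2) (m := 3) (by rw [hG]; norm_num) (by decide) S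
    have hScomm : IsMulCommutative (S : Subgroup G) :=
      IsPGroup.isMulCommutative_of_card_eq_prime_sq (p := 2) (by rw [hS]; norm_num)
    obtain ⟨a, ha, ha1⟩ := (Q : Subgroup G).bot_or_exists_ne_one.resolve_left (by
      intro h; rw [h, Subgroup.card_bot] at hQ; omega)
    have hgen : ∀ q ∈ (Q : Subgroup G), q ∈ Subgroup.zpowers a := by
      intro q hq
      have : Subgroup.zpowers a = (Q : Subgroup G) := by
        refine Subgroup.eq_of_le_of_card_ge (Subgroup.zpowers_le.mpr ha) ?_
        rw [hQ, Nat.card_zpowers]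
        have hd := Subgroup.orderOf_dvd_natCard _ ha
        rw [hQ] at hd
        rcases (Nat.dvd_prime (by norm_num)).mp hd with h | h
        · exact absurd (orderOf_eq_one_iff.mp h) ha1
        · omega
      rw [this]; exact hq
    have himg : ∀ s : G, s * a * s⁻¹ = a ∨ s * a * s⁻¹ = a⁻¹ := by
      intro s
      obtain ⟨k, hk⟩ := hgen _ (hnorm.conj_mem a ha s)
      change a ^ k = s * a * s⁻¹ at hk
      have h3 : a ^ 3 = 1 := by
        have := pow_card_eq_one' (G := (Q : Subgroup G)) (x := ⟨a, ha⟩)
        rw [hQ] at this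
        simpa using congrArg Subtype.val this
      rw [← hk, ← Int.emod_add_mul_ediv k 3, zpow_add, zpow_mul, zpow_ofNat, h3, one_zpow, mul_one]
      have hlo := Int.emod_nonneg k (show (3 : ℤ) ≠ 0 by norm_num)
      have hhi := Int.emod_lt_of_pos k (show (0 : ℤ) < 3 by norm_num)
      have hc : k % 3 = 0 ∨ k % 3 = 1 ∨ k % 3 = 2 := by omega
      rcases hc with h | h | h <;> rw [h]
      · exfalso
        rw [← Int.emod_add_mul_ediv k 3, zpow_add, zpow_mul, h, zpow_zero, zpow_ofNat, h3, one_zpow,
          one_mul] at hk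
        exact ha1 (conj_eq_one_iff.mp hk.symm)
      · exact Or.inl (zpow_one a)
      · refine Or.inr (eq_inv_of_mul_eq_one_left ?_)
        rw [zpow_two, mul_assoc, ← pow_two, ← pow_succ']
        exact h3
    -- an involution of `S` centralizing `a`
    have hex : ∃ z ∈ (S : Subgroup G), orderOf z = 2 ∧ z * a * z⁻¹ = a := by
      have hnt : Nontrivial {s : (S : Subgroup G) // s ≠ 1} := by
        have := Fintype.ofFinite G
        apply Finite.one_lt_card_iff_nontrivial.mp
        rw [Nat.card_eq_fintype_card, Fintype.card_subtype_compl, Fintype.card_subtype_eq,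
          ← Nat.card_eq_fintype_card, hS]
        norm_num
      obtain ⟨⟨⟨s, hs⟩, hs1⟩, ⟨⟨t, ht⟩, ht1⟩, hst⟩ := exists_pair_ne {s : (S : Subgroup G) // s ≠ 1}
      obtain ⟨c, hcS, hc1, hca⟩ : ∃ c ∈ (S : Subgroup G), c ≠ 1 ∧ c * a * c⁻¹ = a := by
        rcases himg s with h | h
        · exact ⟨s, hs, fun h' => hs1 (Subtype.ext h'), h⟩
        rcases himg t with h' | h'
        · exact ⟨t, ht, fun h'' => ht1 (Subtype.ext h''), h'⟩
        refine ⟨s⁻¹ * t, (S : Subgroup G).mul_mem ((S : Subgroup G).inv_mem hs) ht,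
          fun h'' => hst (Subtype.ext (Subtype.ext (inv_mul_eq_one.mp h''))), ?_⟩
        calc s⁻¹ * t * a * (s⁻¹ * t)⁻¹ = s⁻¹ * (t * a * t⁻¹) * s := by group
          _ = s⁻¹ * (s * a * s⁻¹) * s := by rw [h, h']
          _ = a := by group
      have hd : orderOf c ∣ 2 ^ 2 := by
        rw [show (2 : ℕ) ^ 2 = 4 by norm_num, ← hS]; exact Subgroup.orderOf_dvd_natCard _ hcS
      obtain ⟨j, hj, hord⟩ := (Nat.dvd_prime_pow Nat.prime_two).mp hd
      rcases j with _ | _ | j
      · simp [orderOf_eq_one_iff] at hord; exact absurd hord hc1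
      · exact ⟨c, hcS, hord, hca⟩
      · refine ⟨c * c, (S : Subgroup G).mul_mem hcS hcS, ?_, ?_⟩
        · rw [← pow_two, orderOf_pow' _ two_ne_zero, hord,
            show j = 0 by omega]
          rfl
        · calc c * c * a * (c * c)⁻¹ = c * (c * a * c⁻¹) * c⁻¹ := by group
            _ = a := by rw [hca, hca]
    obtain ⟨z, hzS, hz2, hza⟩ := hex
    apply hz z hz2
    rw [← Subgroup.centralizer_univ]
    have hle : (Q : Subgroup G) ⊔ (S : Subgroup G) ≤ Subgroup.centralizer ({z} : Set G) := by
      refine sup_le (fun q hq => ?_) (fun s hs => ?_)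
      · obtain ⟨k, rfl⟩ := hgen q hq
        rw [Subgroup.mem_centralizer_singleton_iff]
        exact ((show Commute z a from mul_inv_eq_iff_eq_mul.mp hza).zpow_right k).symm.eq
      · rw [Subgroup.mem_centralizer_singleton_iff]
        exact congrArg Subtype.val (hScomm.is_comm.comm (⟨s, hs⟩ : (S : Subgroup G)) ⟨z, hzS⟩)
    have htop : Subgroup.centralizer ({z} : Set G) = ⊤ := by
      apply Subgroup.eq_top_of_card_eq
      rw [hG]
      have h3 := Subgroup.card_dvd_of_le (le_sup_left.trans hle)
      have h4 := Subgroup.card_dvd_of_le (le_sup_right.trans hle)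
      rw [hQ] at h3
      rw [hS] at h4
      have h12 : 12 ∣ Nat.card (Subgroup.centralizer ({z} : Set G)) :=
        Nat.Coprime.mul_dvd_of_dvd_of_dvd (by norm_num : Nat.Coprime 3 4) h3 h4
      exact Nat.dvd_antisymm (hG ▸ Subgroup.card_subgroup_dvd_card _) h12
    intro g _
    have := htop ▸ Subgroup.mem_top g
    exact Subgroup.mem_centralizer_singleton_iff.mp this
  have hn : Nat.card (Sylow 3 G) = 4 := by simp_all
  have hnorm : ∀ R : Sylow 3 G, Subgroup.normalizer ((R : Subgroup G) : Set G) = (R : Subgroup G) := by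
    intro R
    refine (Subgroup.eq_of_le_of_card_ge Subgroup.le_normalizer ?_).symm
    have h1 := CfsgLib.Small.card_normalizer_mul_card_sylow R
    have h3 : Nat.card (R : Subgroup G) = 3 :=
      CfsgLib.Small.card_sylow_of_card_eq (p := 3) (k := 1) (m := 4) (by rw [hG]; norm_num) (by decide) R
    rw [hn, hG] at h1
    omega
  have hinj : Function.Injective (MulAction.toPermHom G (Sylow 3 G)) := by
    rw [injective_iff_map_eq_one]
    intro g hg
    by_contra hg1
    have hmem : ∀ R : Sylow 3 G, g ∈ (R : Subgroup G) := fun R => by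
      rw [← hnorm R]
      exact Sylow.smul_eq_iff_mem_normalizer.mp (DFunLike.congr_fun hg R)
    have hnt : Nontrivial (Sylow 3 G) := Finite.one_lt_card_iff_nontrivial.mp (by omega)
    obtain ⟨R, R', hRR⟩ := exists_pair_ne (Sylow 3 G)
    apply hRR
    have key : ∀ R : Sylow 3 G, Subgroup.zpowers g = (R : Subgroup G) := fun R => by
      refine Subgroup.eq_of_le_of_card_ge (Subgroup.zpowers_le.mpr (hmem R)) ?_
      have h3 : Nat.card (R : Subgroup G) = 3 :=
        CfsgLib.Small.card_sylow_of_card_eq (p := 3) (k := 1) (m := 4) (by rw [hG]; norm_num) (by decide) R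
      rw [h3, Nat.card_zpowers]
      have hd := Subgroup.orderOf_dvd_natCard _ (hmem R)
      rw [h3] at hd
      rcases (Nat.dvd_prime (by norm_num)).mp hd with h | h
      · exact absurd (orderOf_eq_one_iff.mp h) hg1
      · omega
    exact Sylow.ext ((key R).symm.trans (key R'))
  have := Fintype.ofFinite (Sylow 3 G)
  let e : Sylow 3 G ≃ Fin 4 := Fintype.equivFinOfCardEq (by rw [← Nat.card_eq_fintype_card, hn])
  let φ : G →* Equiv.Perm (Fin 4) := e.permCongrHom.toMonoidHom.comp (MulAction.toPermHom G (Sylow 3 G))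
  have hφ : Function.Injective φ := e.permCongrHom.injective.comp hinj
  have hrange : φ.range = alternatingGroup (Fin 4) := by
    apply Equiv.Perm.eq_alternatingGroup_of_index_eq_two
    have h := φ.range.card_mul_index
    rw [← Nat.card_congr (MonoidHom.ofInjective hφ).toEquiv, hG, Nat.card_perm, Nat.card_fin] at h
    simp [Nat.factorial] at h
    omega
  exact ⟨(MonoidHom.ofInjective hφ).trans (MulEquiv.subgroupCongr hrange)⟩

end Cfsg.Agent.S0228
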