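import Cfsg.Statements.S0230
import Cfsg.Agent.Lib.Involutions.Counting
-- import your own Cfsg.Agent.* helpers here

set_option autoImplicit false
open Cfsg

namespace Cfsg.Agent.S0230

/-- Let G be a finite group with two non-conjugate involutions, and let t be an involution whose centralizer has maximal order among centralizers of involutions. Then |G| < |C_G(t)|^3. -/
theorem result {G : Type*} [Group G] [Finite G] (s t : G) (hs : orderOf s = 2) (ht : orderOf t = 2) (hnc : ¬ IsConj s t) (hmax : ∀ u : G, orderOf u = 2 → Nat.card (Subgroup.centralizer ({u} : Set G)) ≤ Nat.card (Subgroup.centralizer ({t} : Set G))) : Nat.card G < Nat.card (Subgroup.centralizer ({t} : Set G)) ^ 3 := by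
  classical
  set c := Nat.card (Subgroup.centralizer ({t} : Set G)) with hc
  let I := {z : Subgroup.centralizer ({t} : Set G) // orderOf z = 2}
  let K := {g : G // IsConj s g}
  have hex : ∀ g : K, ∃ z : I, Commute (z.1 : G) g.1 := by
    rintro ⟨g, hg⟩
    obtain ⟨z, hz, hzg, hzt⟩ := CfsgLib.Involutions.exists_common_involution
      ((CfsgLib.Involutions.orderOf_eq_of_isConj hg).trans hs) ht fun h => hnc (hg.trans h)
    exact ⟨⟨⟨z, Subgroup.mem_centralizer_singleton_iff.mpr hzt.eq⟩,
      by rw [Subgroup.orderOf_mk]; exact hz⟩, hzg⟩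
  choose f hf using hex
  have hI : Nat.card I + 1 ≤ c := by
    refine Nat.succ_le_of_lt (Finite.card_subtype_lt (x := 1) ?_)
    simp
  have hK : Nat.card K ≤ Nat.card I * c := by
    let F : K → Σ z : I, Subgroup.centralizer ({(z.1 : G)} : Set G) := fun g =>
      ⟨f g, ⟨g.1, Subgroup.mem_centralizer_singleton_iff.mpr (hf g).symm.eq⟩⟩
    have hF : Function.Injective F := fun a b h => by
      have := congrArg (fun q : Σ z : I, Subgroup.centralizer ({(z.1 : G)} : Set G) => (q.2 : G)) h
      exact Subtype.ext this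
    cases nonempty_fintype I
    refine (Nat.card_le_card_of_injective F hF).trans ?_
    rw [Nat.card_sigma]
    refine (Finset.sum_le_card_nsmul _ _ c fun z _ => hmax _ ?_).trans ?_
    · rw [Subgroup.orderOf_coe]; exact z.2
    · rw [smul_eq_mul, Finset.card_univ, Nat.card_eq_fintype_card]
  have hG : Nat.card G ≤ Nat.card K * c := by
    rw [← Subgroup.card_mul_index (Subgroup.centralizer ({s} : Set G)), mul_comm (Nat.card K)]
    refine Nat.mul_le_mul (hmax s hs) ?_
    rw [Subgroup.index]
    refine le_of_eq (Nat.card_congr (Equiv.ofBijective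
      (Quotient.lift (fun g => (⟨g * s * g⁻¹, isConj_iff.mpr ⟨g, rfl⟩⟩ : K)) ?_) ⟨?_, ?_⟩))
    · intro a b hab
      change (QuotientGroup.leftRel _) a b at hab
      rw [QuotientGroup.leftRel_apply, Subgroup.mem_centralizer_singleton_iff] at hab
      ext
      change a * s * a⁻¹ = b * s * b⁻¹
      calc a * s * a⁻¹ = a * (s * (a⁻¹ * b)) * b⁻¹ := by group
        _ = a * (a⁻¹ * b * s) * b⁻¹ := by rw [hab]
        _ = b * s * b⁻¹ := by group
    · intro a b h
      obtain ⟨a, rfl⟩ := QuotientGroup.mk_surjective a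
      obtain ⟨b, rfl⟩ := QuotientGroup.mk_surjective b
      rw [QuotientGroup.eq, Subgroup.mem_centralizer_singleton_iff]
      have h' : a * s * a⁻¹ = b * s * b⁻¹ := congrArg Subtype.val h
      calc a⁻¹ * b * s = a⁻¹ * (b * s * b⁻¹) * b := by group
        _ = s * (a⁻¹ * b) := by rw [← h']; group
    · rintro ⟨g, hg⟩
      obtain ⟨a, rfl⟩ := isConj_iff.mp hg
      exact ⟨(a : G ⧸ _), rfl⟩
  have hcpos : 0 < c := Nat.card_pos
  calc Nat.card G ≤ Nat.card K * c := hG
    _ ≤ Nat.card I * c * c := Nat.mul_le_mul_right c hK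
    _ < c * c * c := by
      refine Nat.mul_lt_mul_of_lt_of_le (Nat.mul_lt_mul_of_lt_of_le (by omega) le_rfl hcpos) le_rfl hcpos
    _ = c ^ 3 := by ring

end Cfsg.Agent.S0230
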