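import Cfsg.Statements.S0231
import Cfsg.Agent.Lib.Involutions.Basic
-- import your own Cfsg.Agent.* helpers here

set_option autoImplicit false
open scoped Pointwise
open Cfsg

namespace Cfsg.Agent.S0231

/-- Let T be a Sylow 2-subgroup of the finite group G which is not normal and which intersects every other Sylow 2-subgroup trivially. Then G has a single conjugacy class of involutions. -/
theorem result {G : Type*} [Group G] [Finite G] (T : Sylow 2 G) (hnn : ¬ (T : Subgroup G).Normal) (hTI : ∀ g : G, MulAut.conj g • (T : Subgroup G) ≠ T → MulAut.conj g • (T : Subgroup G) ⊓ T = ⊥) (s t : G) (hs : orderOf s = 2) (ht : orderOf t = 2) : IsConj s t := by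
  classical
  have hTI' : ∀ R R' : Sylow 2 G, R ≠ R' → (R : Subgroup G) ⊓ (R' : Subgroup G) = ⊥ := by
    intro R R' hne
    obtain ⟨a, rfl⟩ := MulAction.exists_smul_eq G T R
    obtain ⟨b, rfl⟩ := MulAction.exists_smul_eq G T R'
    have h := hTI (a⁻¹ * b) fun hEq => hne ?_
    · rw [Sylow.coe_subgroup_smul, Sylow.coe_subgroup_smul,
        show MulAut.conj b • (T : Subgroup G) = MulAut.conj a • MulAut.conj (a⁻¹ * b) • (T : Subgroup G) by
          rw [← mul_smul, ← map_mul, mul_inv_cancel_left],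
        ← Subgroup.smul_inf, inf_comm, h, Subgroup.smul_bot]
    · have : (a⁻¹ * b) • T = T := Sylow.ext (by rw [Sylow.coe_subgroup_smul]; exact hEq)
      rw [mul_smul, inv_smul_eq_iff] at this
      exact this.symm
  have huniq : ∀ {x : G}, orderOf x = 2 → ∀ R R' : Sylow 2 G, x ∈ R → x ∈ R' → R = R' := by
    intro x hx R R' hR hR'
    by_contra hne
    have h : x ∈ (R : Subgroup G) ⊓ (R' : Subgroup G) := ⟨hR, hR'⟩
    rw [hTI' R R' hne] at h
    exact CfsgLib.Involutions.ne_one_of_involution hx (Subgroup.mem_bot.mp h)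
  have key : ∀ {x y : G}, orderOf x = 2 → orderOf y = 2 → ∀ R R' : Sylow 2 G,
      x ∈ R → y ∈ R' → R ≠ R' → IsConj x y := by
    intro x y hx hy R R' hR hR' hne
    by_contra hnc
    obtain ⟨z, hz, hzx, hzy⟩ := CfsgLib.Involutions.exists_common_involution hx hy hnc
    have two : ∀ {w : G}, orderOf w = 2 → Commute z w → z ≠ w →
        ∃ Q : Sylow 2 G, z ∈ Q ∧ w ∈ Q := by
      intro w hw hzw hne'
      have hord : orderOf (z * w) = 2 ^ 1 := by
        rw [pow_one, CfsgLib.Involutions.orderOf_eq_two_iff_mul]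
        refine ⟨fun h => hne' ((CfsgLib.Involutions.inv_eq_self_of_involution hz).symm.trans
          (inv_eq_of_mul_eq_one_right h)), ?_⟩
        rw [hzw.symm.mul_mul_mul_comm, CfsgLib.Involutions.mul_self_eq_one hz,
          CfsgLib.Involutions.mul_self_eq_one hw, one_mul]
      obtain ⟨Q, hQ⟩ := (CfsgLib.Involutions.isPGroup_two_closure_pair hz hw hord).exists_le_sylow
      exact ⟨Q, hQ (Subgroup.subset_closure (by simp)), hQ (Subgroup.subset_closure (by simp))⟩
    by_cases h1 : z = x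
    · subst h1
      obtain ⟨Q, hzQ, hyQ⟩ := two hy hzy fun h => hne (huniq hx R R' hR (h ▸ hR'))
      exact hne ((huniq hx R Q hR hzQ).trans (huniq hy Q R' hyQ hR'))
    by_cases h2 : z = y
    · subst h2
      obtain ⟨Q, hzQ, hxQ⟩ := two hx hzx h1
      exact hne ((huniq hx R Q hR hxQ).trans (huniq hy Q R' hzQ hR'))
    obtain ⟨Q, hzQ, hxQ⟩ := two hx hzx h1
    obtain ⟨Q', hzQ', hyQ'⟩ := two hy hzy h2
    exact hne ((huniq hx R Q hR hxQ).trans ((huniq hz Q Q' hzQ hzQ').trans (huniq hy Q' R' hyQ' hR')))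
  obtain ⟨R, hR⟩ := (IsPGroup.of_card (n := 1) (G := Subgroup.zpowers s)
    (by rw [Nat.card_zpowers, hs, pow_one]) : IsPGroup 2 (Subgroup.zpowers s)).exists_le_sylow
  obtain ⟨R', hR'⟩ := (IsPGroup.of_card (n := 1) (G := Subgroup.zpowers t)
    (by rw [Nat.card_zpowers, ht, pow_one]) : IsPGroup 2 (Subgroup.zpowers t)).exists_le_sylow
  have hsR : s ∈ R := hR (Subgroup.mem_zpowers s)
  have htR : t ∈ R' := hR' (Subgroup.mem_zpowers t)
  by_cases hne : R = R'
  swap
  · exact key hs ht R R' hsR htR hne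
  subst hne
  obtain ⟨g, hg⟩ : ∃ g : G, g • R ≠ R := by
    by_contra hall
    push_neg at hall
    obtain ⟨a, ha⟩ := MulAction.exists_smul_eq G R T
    rw [hall a] at ha
    subst ha
    apply hnn
    rw [← Subgroup.normalizer_eq_top_iff, eq_top_iff]
    exact fun g _ => Sylow.smul_eq_iff_mem_normalizer.mp (hall g)
  have hw : orderOf (g * s * g⁻¹) = 2 := (CfsgLib.Involutions.orderOf_conj_eq g s).trans hs
  have hwR : g * s * g⁻¹ ∈ g • R := by
    rw [← SetLike.mem_coe, Sylow.coe_smul]
    exact ⟨s, hsR, by simp⟩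
  exact (key hs hw R (g • R) hsR hwR (Ne.symm hg)).trans (key ht hw R (g • R) htR hwR (Ne.symm hg)).symm

end Cfsg.Agent.S0231
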