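import Cfsg.Statements.S0232
import Cfsg.Agent.Lib.Involutions.Counting
import Cfsg.Agent.Lib.Involutions.Transfer
-- import your own Cfsg.Agent.* helpers here

set_option autoImplicit false
open Cfsg

namespace Cfsg.Agent.S0232

/-- A finite group G of even order greater than 2 has a proper subgroup H with |G| < |H|^3. -/
theorem result {G : Type*} [Group G] [Finite G] (heven : Even (Nat.card G)) (hgt : 2 < Nat.card G) : ∃ H : Subgroup G, H ≠ ⊤ ∧ Nat.card G < (Nat.card H) ^ 3 := by
  classical
  obtain ⟨N, hN⟩ : ∃ N, Nat.card G = N := ⟨_, rfl⟩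
  induction N using Nat.strong_induction_on generalizing G with
  | _ N ih =>
  by_cases hidx : ∃ H : Subgroup G, H.index = 2
  · obtain ⟨H, hH⟩ := hidx
    refine ⟨H, fun h => by simp [h] at hH, ?_⟩
    have := H.card_mul_index
    rw [hH] at this
    have h2 : 2 ≤ Nat.card H := by omega
    nlinarith [Nat.mul_le_mul h2 h2]
  push_neg at hidx
  by_cases hcen : ∃ z : G, orderOf z = 2 ∧ z ∈ Subgroup.center G
  · obtain ⟨z, hz, hzc⟩ := hcen
    have : (Subgroup.zpowers z).Normal :=
      ⟨fun a ha g => by
        rwa [Subgroup.mem_center_iff.mp (Subgroup.zpowers_le.mpr hzc ha) g, mul_inv_cancel_right]⟩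
    set Z := Subgroup.zpowers z with hZ
    have hZ2 : Nat.card Z = 2 := by rw [hZ, Nat.card_zpowers, hz]
    have hq : 2 * Nat.card (G ⧸ Z) = Nat.card G := by
      rw [← hZ2, Subgroup.card_eq_card_quotient_mul_card_subgroup Z, mul_comm]
    by_cases hq4 : Nat.card G = 4
    · refine ⟨Z, fun h => ?_, by rw [hZ2, hq4]; norm_num⟩
      rw [h, Subgroup.card_top] at hZ2
      omega
    by_cases hqeven : Even (Nat.card (G ⧸ Z))
    · obtain ⟨b, hb⟩ := hqeven
      obtain ⟨H, hH, hcard⟩ := ih (Nat.card (G ⧸ Z)) (by omega) (G := G ⧸ Z) ⟨b, hb⟩ (by omega) rfl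
      refine ⟨H.comap (QuotientGroup.mk' Z), fun h => hH ?_, ?_⟩
      · rw [← Subgroup.map_comap_eq_self_of_surjective (QuotientGroup.mk'_surjective Z) H, h,
          Subgroup.map_top_of_surjective _ (QuotientGroup.mk'_surjective Z)]
      · have h1 := (H.comap (QuotientGroup.mk' Z)).card_mul_index
        rw [Subgroup.index_comap_of_surjective H (QuotientGroup.mk'_surjective Z), ← hq,
          ← H.card_mul_index] at h1
        have h2 : Nat.card (H.comap (QuotientGroup.mk' Z)) = 2 * Nat.card H := by
          rw [← mul_assoc] at h1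
          exact Nat.eq_of_mul_eq_mul_right (Nat.pos_of_ne_zero H.index_ne_zero_of_finite) h1
        rw [h2, mul_pow]
        omega
    · obtain ⟨H, hH⟩ := CfsgLib.Involutions.exists_index_two_of_card_eq_two_mul_odd
        (Nat.not_even_iff_odd.mp hqeven) hq.symm
      exact absurd hH (hidx H)
  push_neg at hcen
  obtain ⟨H, hH, hmax⟩ := Set.exists_max_image {H : Subgroup G | H ≠ ⊤} (fun H => Nat.card H)
    (Set.toFinite _) ⟨⊥, fun h => by
      have := congrArg (fun K : Subgroup G => Nat.card K) h
      simp at this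
      omega⟩
  refine ⟨H, hH, ?_⟩
  by_contra hle
  push_neg at hle
  set h := Nat.card H
  have hinv : ∀ t : G, orderOf t = 2 → Nat.card (Subgroup.centralizer ({t} : Set G)) ≤ h :=
    fun t ht => hmax _ fun hc => hcen t ht
      (Set.singleton_subset_iff.mp (Subgroup.centralizer_eq_top_iff_subset.mp hc))
  have hreal : ∀ x : G, x ≠ 1 → orderOf x ≠ 2 → IsConj x x⁻¹ →
      2 * Nat.card (Subgroup.centralizer ({x} : Set G)) ≤ h := by
    intro x hx hx2 hr
    obtain ⟨K, hK⟩ := CfsgLib.Involutions.exists_double_centralizer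
      (CfsgLib.Involutions.pow_two_ne_one_of_not_involution hx hx2) hr
    rw [← hK]
    refine hmax K fun hKt => hidx (Subgroup.centralizer ({x} : Set G)) ?_
    rw [hKt, Subgroup.card_top, ← (Subgroup.centralizer ({x} : Set G)).card_mul_index, mul_comm] at hK
    exact Nat.eq_of_mul_eq_mul_right Nat.card_pos hK
  obtain ⟨t, ht⟩ := CfsgLib.Involutions.exists_involution_of_even G heven
  have hcount := CfsgLib.Involutions.brauer_fowler_count h hinv hreal
  have hgn : Nat.card G ≤ CfsgLib.Involutions.numInvolutions G * h :=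
    (CfsgLib.Involutions.card_le_involutions_mul_centralizer ht).trans
      (Nat.mul_le_mul_left _ (hinv t ht))
  have hh : 0 < h := Nat.card_pos
  set n := CfsgLib.Involutions.numInvolutions G
  have hn2 : h * h ≤ n := by
    refine Nat.le_of_mul_le_mul_right ?_ hh
    calc h * h * h = h ^ 3 := by ring
      _ ≤ Nat.card G := hle
      _ ≤ n * h := hgn
  have hnh : n * (2 * n + 2) < n * (h * h + h) + 1 := by nlinarith
  have := Nat.le_of_mul_le_mul_left (Nat.lt_succ_iff.mp hnh) (by nlinarith)
  nlinarith

end Cfsg.Agent.S0232
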