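import Cfsg.Statements.S0233
import Cfsg.Agent.Lib.Involutions.Counting
-- import your own Cfsg.Agent.* helpers here

set_option autoImplicit false
open Cfsg

namespace Cfsg.Agent.S0233

/-- Let G be a finite group of even order with exactly n involutions whose centre has odd order, and put a = |G|/n. Then G has a proper subgroup H with |G : H| = 2 or |G : H| < a(a+1)/2; over ℕ the latter reads 2·|G:H|·n² < |G|·(|G| + n). -/
theorem result {G : Type*} [Group G] [Finite G] (heven : Even (Nat.card G)) (hZ : Odd (Nat.card (Subgroup.center G))) : ∃ H : Subgroup G, H ≠ ⊤ ∧ (H.index = 2 ∨ 2 * H.index * (Nat.card {t : G // orderOf t = 2}) ^ 2 < Nat.card G * (Nat.card G + Nat.card {t : G // orderOf t = 2})) := by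
  classical
  change ∃ H : Subgroup G, H ≠ ⊤ ∧ (H.index = 2 ∨
    2 * H.index * (CfsgLib.Involutions.numInvolutions G) ^ 2 <
      Nat.card G * (Nat.card G + CfsgLib.Involutions.numInvolutions G))
  by_contra hcon
  push_neg at hcon
  have hnc : ∀ t : G, orderOf t = 2 → Subgroup.centralizer ({t} : Set G) ≠ ⊤ := by
    intro t ht h
    have htc : t ∈ Subgroup.center G :=
      Set.singleton_subset_iff.mp (Subgroup.centralizer_eq_top_iff_subset.mp h)
    have := Subgroup.orderOf_dvd_natCard _ htc
    rw [ht] at this
    exact (Nat.not_even_iff_odd.mpr hZ) (even_iff_two_dvd.mpr this)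
  obtain ⟨t, ht⟩ := CfsgLib.Involutions.exists_involution_of_even G heven
  obtain ⟨H, hH, hmax⟩ := Set.exists_max_image {H : Subgroup G | H ≠ ⊤} (fun H => Nat.card H)
    (Set.toFinite _) ⟨_, hnc t ht⟩
  set h := Nat.card H with hh
  have hreal : ∀ x : G, x ≠ 1 → orderOf x ≠ 2 → IsConj x x⁻¹ →
      2 * Nat.card (Subgroup.centralizer ({x} : Set G)) ≤ h := by
    intro x hx hx2 hr
    have hx' := CfsgLib.Involutions.pow_two_ne_one_of_not_involution hx hx2
    obtain ⟨K, hK⟩ := CfsgLib.Involutions.exists_double_centralizer hx' hr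
    rw [← hK]
    refine hmax K fun hKt =>
      (hcon (Subgroup.centralizer ({x} : Set G)) (CfsgLib.Involutions.centralizer_ne_top_of_real hx' hr)).1 ?_
    rw [hKt, Subgroup.card_top, ← (Subgroup.centralizer ({x} : Set G)).card_mul_index, mul_comm] at hK
    exact Nat.eq_of_mul_eq_mul_right Nat.card_pos hK
  have hcount := CfsgLib.Involutions.brauer_fowler_count h (fun s hs => hmax _ (hnc s hs)) hreal
  have hb := (hcon H hH).2
  set n := CfsgLib.Involutions.numInvolutions G
  have hn : 0 < n := Nat.pos_of_ne_zero fun h0 => by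
    have := CfsgLib.Involutions.odd_numInvolutions heven
    change Odd n at this
    rw [h0] at this
    exact absurd this (by decide)
  have h2 := H.card_mul_index
  rw [← hh] at h2
  have h3 : h * (Nat.card G + n) ≤ 2 * n ^ 2 := by
    refine Nat.le_of_mul_le_mul_right ?_ (Nat.pos_of_ne_zero H.index_ne_zero_of_finite)
    nlinarith
  nlinarith

end Cfsg.Agent.S0233
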