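import Cfsg.Statements.S0234
import Cfsg.Agent.Lib.Small.Basic
import Cfsg.Agent.Lib.Involutions.Counting
import Cfsg.Agent.Lib.Involutions.Transfer
import Cfsg.Agent.S0233
-- import your own Cfsg.Agent.* helpers here

set_option autoImplicit false
open Cfsg

namespace Cfsg.Agent.S0234

/-- In a finite simple group G of even order greater than 2, the number n of involutions satisfies 3n < |G|. -/
theorem result {G : Type*} [Group G] [Finite G] [IsSimpleGroup G] (heven : Even (Nat.card G)) (hgt : 2 < Nat.card G) : 3 * Nat.card {t : G // orderOf t = 2} < Nat.card G := by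
  classical
  change 3 * CfsgLib.Involutions.numInvolutions G < Nat.card G
  by_contra hcon
  push_neg at hcon
  have hnp : ¬ (Nat.card G).Prime := fun h => by
    rcases h.eq_one_or_self_of_dvd 2 heven.two_dvd with h2 | h2 <;> omega
  have hnc := CfsgLib.Small.nc_of_not_prime hnp
  have hno : ∀ H : Subgroup G, H.index ≠ 2 := by
    intro H hH
    have hN := Subgroup.normal_of_index_eq_two hH
    rcases IsSimpleGroup.eq_bot_or_eq_top_of_normal H hN with rfl | rfl
    · rw [Subgroup.index_bot] at hH; omega
    · simp at hH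
  have hodd : Odd (Nat.card (Subgroup.center G)) := by
    rw [CfsgLib.Small.center_eq_bot_of_nc hnc, Subgroup.card_bot]; exact odd_one
  obtain ⟨H, hH, hH2 | hlt⟩ := Cfsg.Agent.S0233.result (G := G) heven hodd
  · exact hno H hH2
  change 2 * H.index * CfsgLib.Involutions.numInvolutions G ^ 2 <
    Nat.card G * (Nat.card G + CfsgLib.Involutions.numInvolutions G) at hlt
  set n := CfsgLib.Involutions.numInvolutions G with hn
  set g := Nat.card G with hg
  have hidx : H.index ≤ 5 := by
    by_contra h
    have h1 : g * (g + n) ≤ 3 * n * (4 * n) := Nat.mul_le_mul hcon (by omega)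
    have h2 : 2 * 6 * n ^ 2 ≤ 2 * H.index * n ^ 2 := by gcongr; omega
    nlinarith
  have hdvd := CfsgLib.Small.two_mul_card_dvd_factorial_index hnc hH
  rw [← hg] at hdvd
  have h60 : g ∣ 60 :=
    (Nat.mul_dvd_mul_iff_left (by norm_num : 0 < 2)).mp (hdvd.trans (Nat.factorial_dvd_factorial hidx))
  have key : ∀ (p k m : ℕ), p.Prime → g = p ^ k * m → ¬ p ∣ m → k ≠ 0 →
      ∃ N, N ∣ m ∧ N % p = 1 ∧ 1 < N ∧ 2 * g ∣ N.factorial ∧ N = Nat.card (Sylow p G) := by
    intro p k m hp hc hm hk
    have := Fact.mk hp
    have hmem := CfsgLib.Small.card_sylow_mem (p := p) hnc hk hc hm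
    simp only [Finset.mem_filter, Nat.mem_divisors] at hmem
    exact ⟨_, hmem.1.1, hmem.2.1, hmem.2.2,
      CfsgLib.Small.two_mul_card_dvd_factorial_card_sylow hnc (dvd_trans (dvd_pow_self p hk) ((dvd_mul_right _ m).trans hc.symm.dvd)),
      rfl⟩
  have two_odd : ∀ m, Odd m → g ≠ 2 * m := fun m hm h => by
    obtain ⟨K, hK⟩ := CfsgLib.Involutions.exists_index_two_of_card_eq_two_mul_odd hm h
    exact hno K hK
  have hle := Nat.le_of_dvd (by norm_num) h60
  have hev := heven.two_dvd
  have hcases : g = 4 ∨ g = 6 ∨ g = 10 ∨ g = 12 ∨ g = 20 ∨ g = 30 ∨ g = 60 := by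
    interval_cases g <;> omega
  rcases hcases with h | h | h | h | h | h | h
  · obtain ⟨N, h1, -, h3, -, -⟩ := key 2 2 1 (by norm_num) (by omega) (by decide) (by decide)
    have := Nat.le_of_dvd (by norm_num) h1
    omega
  · exact two_odd 3 (by decide) (by omega)
  · exact two_odd 5 (by decide) (by omega)
  · obtain ⟨N, h1, h2, h3, h4, -⟩ := key 2 2 3 (by norm_num) (by omega) (by decide) (by decide)
    have := Nat.le_of_dvd (by norm_num) h1
    rw [h] at h4
    interval_cases N <;> norm_num [Nat.factorial] at h4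
  · obtain ⟨N, h1, h2, h3, h4, -⟩ := key 5 1 4 (by norm_num) (by omega) (by decide) (by decide)
    have := Nat.le_of_dvd (by norm_num) h1
    omega
  · exact two_odd 15 (by decide) (by omega)
  · have := Fact.mk (show Nat.Prime 5 by norm_num)
    have := Fact.mk (show Nat.Prime 3 by norm_num)
    obtain ⟨N5, a1, a2, a3, -, e5⟩ := key 5 1 12 (by norm_num) (by omega) (by decide) (by decide)
    obtain ⟨N3, b1, b2, b3, b4, e3⟩ := key 3 1 20 (by norm_num) (by omega) (by decide) (by decide)
    have h5 : 6 ≤ N5 := by
      have := Nat.le_of_dvd (by norm_num) a1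
      interval_cases N5 <;> omega
    have h3 : 10 ≤ N3 := by
      have := Nat.le_of_dvd (by norm_num) b1
      rw [h] at b4
      interval_cases N3 <;> first | omega | norm_num [Nat.factorial] at b4
    have c5 := CfsgLib.Small.card_orderOf_eq_prime (G := G) (p := 5) fun P =>
      (CfsgLib.Small.card_sylow_of_card_eq (p := 5) (k := 1) (m := 12)
        (by rw [← hg, h]; norm_num) (by decide) P).trans (pow_one 5)
    have c3 := CfsgLib.Small.card_orderOf_eq_prime (G := G) (p := 3) fun P =>
      (CfsgLib.Small.card_sylow_of_card_eq (p := 3) (k := 1) (m := 20)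
        (by rw [← hg, h]; norm_num) (by decide) P).trans (pow_one 3)
    have hsum := CfsgLib.Small.sum_card_orderOf_le (G := G) {1, 2, 3, 5}
    rw [Finset.sum_insert (by decide), Finset.sum_insert (by decide), Finset.sum_insert (by decide),
      Finset.sum_singleton, CfsgLib.Small.card_orderOf_eq_one, c3, c5] at hsum
    have : Nat.card {t : G // orderOf t = 2} = n := rfl
    omega

end Cfsg.Agent.S0234
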