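import Cfsg.Statements.S0236
import Cfsg.Agent.Lib.Involutions.Counting
-- import your own Cfsg.Agent.* helpers here

set_option autoImplicit false
open Cfsg

namespace Cfsg.Agent.S0236

/-- If x is an involution, the number of ordered pairs (u, v) of involutions with uv = x, plus one, equals the number of involutions in the centralizer of x. -/
theorem result {G : Type*} [Group G] [Finite G] (x : G) (hx : orderOf x = 2) : Nat.card {p : G × G // orderOf p.1 = 2 ∧ orderOf p.2 = 2 ∧ p.1 * p.2 = x} + 1 = Nat.card {t : G // orderOf t = 2 ∧ Commute t x} := by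
  classical
  change CfsgLib.Involutions.numPairs x + 1 = _
  rw [CfsgLib.Involutions.numPairs_eq_card_inverting]
  have h1 : {t : G | orderOf t = 2 ∧ Commute t x} =
      insert x {u : G | orderOf u = 2 ∧ u * x * u⁻¹ = x⁻¹ ∧ u ≠ x} := by
    ext u
    simp only [Set.mem_ofPred_eq, Set.mem_insert_iff, CfsgLib.Involutions.inv_eq_self_of_involution hx,
      mul_inv_eq_iff_eq_mul]
    constructor
    · rintro ⟨h, hc⟩
      by_cases he : u = x
      · exact Or.inl he
      · exact Or.inr ⟨h, hc.eq, he⟩
    · rintro (rfl | ⟨h, hc, -⟩)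
      · exact ⟨hx, Commute.refl _⟩
      · exact ⟨h, hc⟩
  have h2 := congrArg Set.ncard h1
  rw [Set.ncard_insert_of_notMem (fun h => h.2.2 rfl) (Set.toFinite _)] at h2
  exact h2.symm

end Cfsg.Agent.S0236
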