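import Cfsg.Statements.S0240
import Cfsg.Agent.Lib.Involutions.Counting
-- import your own Cfsg.Agent.* helpers here

set_option autoImplicit false
open Cfsg

namespace Cfsg.Agent.S0240

/-- Let G be a finite group with n involutions and H a subgroup with |H|·(n+1) > |G|. Then some nontrivial h ∈ H is strongly real in G: an involution t of G satisfies t h t⁻¹ = h⁻¹. -/
theorem result {G : Type*} [Group G] [Finite G] (H : Subgroup G) (hH : Nat.card G < Nat.card H * (Nat.card {t : G // orderOf t = 2} + 1)) : ∃ h : G, h ∈ H ∧ h ≠ 1 ∧ ∃ t : G, orderOf t = 2 ∧ t * h * t⁻¹ = h⁻¹ := by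
  classical
  by_contra hcon
  push_neg at hcon
  let f : Option {t : G // orderOf t = 2} → G ⧸ H
    | none => ((1 : G) : G ⧸ H)
    | some t => (t.1 : G ⧸ H)
  have hsome : ∀ t : {t : G // orderOf t = 2}, (t.1 : G ⧸ H) ≠ ((1 : G) : G ⧸ H) := by
    intro t h
    rw [QuotientGroup.eq, mul_one, CfsgLib.Involutions.inv_eq_self_of_involution t.2] at h
    exact hcon t.1 h (CfsgLib.Involutions.ne_one_of_involution t.2) t.1 t.2
      (by simp [CfsgLib.Involutions.inv_eq_self_of_involution t.2,
        CfsgLib.Involutions.mul_self_eq_one t.2])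
  have hinj : Function.Injective f := by
    rintro (_ | a) (_ | b) h
    · rfl
    · exact absurd h.symm (hsome b)
    · exact absurd h (hsome a)
    · congr 1
      ext1
      by_contra hne
      change (a.1 : G ⧸ H) = (b.1 : G ⧸ H) at h
      rw [QuotientGroup.eq, CfsgLib.Involutions.inv_eq_self_of_involution a.2] at h
      refine hcon _ h ?_ a.1 a.2 (CfsgLib.Involutions.left_inverts_prod a.2 b.2)
      intro h1
      apply hne
      rw [← CfsgLib.Involutions.inv_eq_self_of_involution a.2]
      exact inv_eq_of_mul_eq_one_right h1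
  have hle := Nat.card_le_card_of_injective f hinj
  rw [Finite.card_option] at hle
  have hlag := H.card_mul_index
  rw [Subgroup.index] at hlag
  nlinarith

end Cfsg.Agent.S0240
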