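-- Proof of statement S0241.
import Mathlib
import Cfsg.Statements.S0241


set_option autoImplicit false
open Cfsg

namespace Cfsg.Agent.S0241

/-- If x ≠ 1 is conjugate to x⁻¹ in a finite group G and |C_G(x)| is odd, then some involution t satisfies t x t⁻¹ = x⁻¹. -/
theorem result {G : Type*} [Group G] [Finite G] (x : G) (hx : x ≠ 1) (hreal : IsConj x x⁻¹) (hodd : Odd (Nat.card (Subgroup.centralizer ({x} : Set G)))) : ∃ t : G, orderOf t = 2 ∧ t * x * t⁻¹ = x⁻¹ := by
  obtain ⟨g, hg⟩ := isConj_iff.mp hreal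
  obtain ⟨k, hk⟩ := hodd
  have hcen : ∀ y : G, y * x * y⁻¹ = x → y ^ 2 = 1 → y = 1 := by
    intro y hy hy2
    have hmem : y ∈ Subgroup.centralizer ({x} : Set G) :=
      Subgroup.mem_centralizer_singleton_iff.mpr (mul_inv_eq_iff_eq_mul.mp hy)
    have h1 : y ^ (2 * k + 1) = 1 := by
      rw [← hk]
      have := pow_card_eq_one' (G := Subgroup.centralizer ({x} : Set G)) (x := ⟨y, hmem⟩)
      exact congrArg Subtype.val this
    rwa [pow_succ, pow_mul, hy2, one_pow, one_mul] at h1
  have hxne : x⁻¹ ≠ x := by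
    intro h
    apply hx
    refine hcen x (mul_inv_cancel_right x x) ?_
    rw [pow_two]
    nth_rw 1 [← h]
    exact inv_mul_cancel x
  have hpow : ∀ n : ℕ, (g ^ (2 * n)) * x * (g ^ (2 * n))⁻¹ = x ∧
      (g ^ (2 * n + 1)) * x * (g ^ (2 * n + 1))⁻¹ = x⁻¹ := by
    intro n
    induction n with
    | zero => exact ⟨by simp, by simpa using hg⟩
    | succ n ih =>
      have a1 : (g ^ (2 * (n + 1))) * x * (g ^ (2 * (n + 1)))⁻¹ = x := by
        calc _ = g * ((g ^ (2 * n + 1)) * x * (g ^ (2 * n + 1))⁻¹) * g⁻¹ := by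
              rw [show 2 * (n + 1) = (2 * n + 1) + 1 by ring, pow_succ' g (2 * n + 1)]; group
          _ = _ := by rw [ih.2, ← conj_inv, hg, inv_inv]
      refine ⟨a1, ?_⟩
      calc _ = g * ((g ^ (2 * (n + 1))) * x * (g ^ (2 * (n + 1)))⁻¹) * g⁻¹ := by
            rw [pow_succ' g (2 * (n + 1))]; group
        _ = _ := by rw [a1, hg]
  obtain ⟨a, m, hm, ho⟩ := Nat.exists_eq_two_pow_mul_odd (orderOf_pos g).ne'
  obtain ⟨j, rfl⟩ := hm
  cases a with
  | zero =>
    exfalso
    have := (hpow j).2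
    rw [← show orderOf g = 2 * j + 1 by simpa using ho, pow_orderOf_eq_one] at this
    exact hxne (by simpa using this.symm)
  | succ a =>
    have hkey : (g ^ (2 * j + 1)) ^ (2 ^ (a + 1)) = 1 := by
      rw [← pow_mul, mul_comm, ← ho, pow_orderOf_eq_one]
    refine ⟨g ^ (2 * j + 1), ?_, (hpow j).2⟩
    cases a with
    | zero =>
      refine orderOf_eq_prime (by simpa using hkey) fun h => hxne ?_
      simpa [h] using (hpow j).2.symm
    | succ a =>
      exfalso
      have he : ∀ i, ((g ^ (2 * j + 1)) ^ (2 * i)) * x * ((g ^ (2 * j + 1)) ^ (2 * i))⁻¹ = x := by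
        intro i
        rw [← pow_mul, show (2 * j + 1) * (2 * i) = 2 * ((2 * j + 1) * i) by ring]
        exact (hpow _).1
      have h1 := hcen ((g ^ (2 * j + 1)) ^ (2 ^ (a + 1)))
        (by rw [pow_succ' 2 a]; exact he _)
        (by rw [← pow_mul, ← pow_succ]; exact hkey)
      have h2 : g ^ ((2 * j + 1) * 2 ^ (a + 1)) = 1 := by rw [pow_mul]; exact h1
      have h3 := orderOf_dvd_of_pow_eq_one h2
      rw [ho] at h3
      have h4 := Nat.le_of_dvd (by positivity) h3
      have : 0 < 2 ^ (a + 1) * (2 * j + 1) := by positivity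
      rw [pow_succ 2 (a + 1)] at h4
      nlinarith

end Cfsg.Agent.S0241
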