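import Cfsg.Statements.S0244
import Cfsg.Agent.Classical.SLBasic

set_option autoImplicit false
open Cfsg

namespace Cfsg.Agent.S0244

/-- Sp_2 = SL_2: a matrix on Fin 1 ⊕ Fin 1 lies in Mathlib's symplectic group iff its determinant is 1. -/
theorem result {R : Type*} [CommRing R] (A : Matrix (Fin 1 ⊕ Fin 1) (Fin 1 ⊕ Fin 1) R) : A ∈ Matrix.symplecticGroup (Fin 1) R ↔ A.det = 1 := by
  have key : A * Matrix.J (Fin 1) R * A.transpose = A.det • Matrix.J (Fin 1) R := by
    have hd : A.det = A (Sum.inl 0) (Sum.inl 0) * A (Sum.inr 0) (Sum.inr 0) - A (Sum.inl 0) (Sum.inr 0) * A (Sum.inr 0) (Sum.inl 0) := by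
      rw [← Matrix.det_reindex_self (finSumFinEquiv : Fin 1 ⊕ Fin 1 ≃ Fin 2), Matrix.det_fin_two]
      rfl
    ext i j
    rcases i with i | i <;> rcases j with j | j <;>
      simp [Matrix.J, Matrix.mul_apply, Fin.fin_one_eq_zero, hd] <;> ring
  rw [SymplecticGroup.mem_iff, key]
  refine ⟨fun h => ?_, fun h => by rw [h, one_smul]⟩
  have := congrArg (fun M : Matrix (Fin 1 ⊕ Fin 1) (Fin 1 ⊕ Fin 1) R => M (Sum.inr 0) (Sum.inl 0)) h
  simpa [Matrix.J] using this

end Cfsg.Agent.S0244
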