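import Cfsg.Statements.S0268
import Cfsg.Agent.Lib.ClassicalGroups.SLTwoSylow

set_option autoImplicit false
open Cfsg

namespace Cfsg.Agent.S0268

/-- For q odd, -1 is the unique involution of SL_2(q). -/
theorem result {F : Type*} [Field F] [Fintype F] (hF : Odd (Fintype.card F)) (g : Matrix.SpecialLinearGroup (Fin 2) F) (h1 : g ≠ 1) (h2 : g * g = 1) : (g : Matrix (Fin 2) (Fin 2) F) = -1 := by
  have h2 : (2 : F) ≠ 0 := by
    intro h
    have := FiniteField.even_card_of_char_two (F := F) (CharP.ringChar_of_prime_eq_zero Nat.prime_two h)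
    rw [Nat.odd_iff] at hF
    omega
  have hi : g⁻¹ = g := inv_eq_of_mul_eq_one_right (by assumption)
  have he := congrArg (fun x : Matrix.SpecialLinearGroup (Fin 2) F => (x : Matrix (Fin 2) (Fin 2) F)) hi
  simp only [Matrix.SpecialLinearGroup.coe_inv, Matrix.adjugate_fin_two] at he
  have h01 := congrFun (congrFun he 0) 1
  have h10 := congrFun (congrFun he 1) 0
  have h00 := congrFun (congrFun he 0) 0
  simp at h01 h10 h00
  have e01 : g.1 0 1 = 0 := mul_left_cancel₀ h2 (by linear_combination -h01)
  have e10 : g.1 1 0 = 0 := mul_left_cancel₀ h2 (by linear_combination -h10)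
  have hd := g.2
  rw [Matrix.det_fin_two, e01, h00] at hd
  rcases sq_eq_one_iff.1 (show g.1 0 0 ^ 2 = 1 by linear_combination hd) with ha | ha
  · exfalso
    apply h1
    ext i j
    fin_cases i <;> fin_cases j <;> simp [e01, e10, ha, h00]
  · ext i j
    fin_cases i <;> fin_cases j <;> simp [e01, e10, ha, h00]

end Cfsg.Agent.S0268
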