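import Cfsg.Statements.S0282
import Cfsg.Agent.Lib.ClassicalGroups.HermGroup
import Cfsg.Agent.Lib.Characters.Burnside

set_option autoImplicit false
open Cfsg

namespace Cfsg.Agent.S0282

/-- PSU_3(2) is a solvable group of order 72. -/
theorem result {F : Type*} [Field F] [Fintype F] (hF : Fintype.card F = 4) : Nat.card (Cfsg.PSU 3 F 2) = 72 ∧ Group.IsSolvable (Cfsg.PSU 3 F 2) := by
  have hq : Fintype.card F = 2 ^ 2 := hF
  have h := CfsgLib.ClassicalGroups.card_SU_mul hq (n := 3) (by norm_num)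
  rw [CfsgLib.ClassicalGroups.card_SU_eq_center_mul_PSU 3, CfsgLib.ClassicalGroups.card_center_SU hq (by norm_num),
    CfsgLib.ClassicalGroups.card_GU hq 3, Finset.prod_range_succ, Finset.prod_range_succ, Finset.prod_range_one] at h
  norm_num [show ¬Even 1 from by decide, show Even 2 from ⟨1, rfl⟩] at h
  have hc : Nat.card (Cfsg.PSU 3 F 2) = 72 := by omega
  exact ⟨hc, CfsgLib.Burnside.isSolvable_of_card_eq Nat.prime_two Nat.prime_three 3 2 hc⟩

end Cfsg.Agent.S0282
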