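import Cfsg.Statements.S0298
import Cfsg.Agent.Lib.POmega.Bridge
import Cfsg.Agent.Lib.ClassicalGroups.OrthCard
import Cfsg.Agent.Lib.RegUnip.SLn

set_option autoImplicit false
open Cfsg

namespace Cfsg.Agent.S0298

/-- The adjoint action on `[[x₀, x], [-y, -x₀]]`. -/
def adMap {F : Type*} [Field F] (M : Matrix (Fin 2) (Fin 2) F) :
    (Unit ⊕ (Fin 1 ⊕ Fin 1) → F) →ₗ[F] (Unit ⊕ (Fin 1 ⊕ Fin 1) → F) where
  toFun v := Sum.elim
    (fun _ => (M 0 0 * M 1 1 + M 0 1 * M 1 0) * v (.inl ()) - M 0 0 * M 1 0 * v (.inr (.inl 0))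
      + M 0 1 * M 1 1 * v (.inr (.inr 0)))
    (Sum.elim
      (fun _ => -(2 * M 0 0 * M 0 1) * v (.inl ()) + M 0 0 ^ 2 * v (.inr (.inl 0))
        - M 0 1 ^ 2 * v (.inr (.inr 0)))
      (fun _ => 2 * M 1 0 * M 1 1 * v (.inl ()) - M 1 0 ^ 2 * v (.inr (.inl 0))
        + M 1 1 ^ 2 * v (.inr (.inr 0))))
  map_add' u v := by funext i; rcases i with i | i | i <;> simp <;> ring
  map_smul' c v := by funext i; rcases i with i | i | i <;> simp <;> ring

/-- PΩ_3(q) is isomorphic to PSL_2(q) for q odd. -/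
theorem result {F : Type*} [Field F] [Fintype F] (hodd : Odd (Fintype.card F)) : Nonempty (Cfsg.POmega F (Cfsg.quadFormOdd 1 F) ≃* Matrix.ProjectiveSpecialLinearGroup (Fin 2) F) := by
  classical
  have h2 : (2 : F) ≠ 0 := CfsgLib.POmega.two_ne_zero_of_odd hodd
  set q := Fintype.card F with hq
  have hQ := CfsgLib.POmega.oddQ_nondegenerate (F := F) h2 1
  obtain ⟨d, hd⟩ := FiniteField.exists_nonsquare (F := F) (fun hch => by
    have : CharP F 2 := ringChar.of_eq hch
    exact h2 CharTwo.two_eq_zero)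
  let ρ : Matrix.SpecialLinearGroup (Fin 2) F →
      (Unit ⊕ (Fin 1 ⊕ Fin 1) → F) →ₗ[F] (Unit ⊕ (Fin 1 ⊕ Fin 1) → F) := fun g => adMap g.1
  have h1 : ∀ x, ρ 1 x = x := fun x => by
    funext i
    rcases i with i | i | i
    · simp [ρ, adMap]
    · obtain rfl := Subsingleton.elim i 0; simp [ρ, adMap]
    · obtain rfl := Subsingleton.elim i 0; simp [ρ, adMap]
  have hm : ∀ g h x, ρ (g * h) x = ρ g (ρ h x) := fun g h x => by
    funext i
    rcases i with i | i | i <;>
      simp [ρ, adMap, Matrix.mul_apply, Fin.sum_univ_two] <;> ring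
  have hq' : ∀ g x, CfsgLib.POmega.oddQ 1 F (ρ g x) = CfsgLib.POmega.oddQ 1 F x := fun g x => by
    have hd : g.1 0 0 * g.1 1 1 - g.1 0 1 * g.1 1 0 = 1 := by rw [← Matrix.det_fin_two]; exact g.2
    simp [CfsgLib.POmega.oddQ_coe, Cfsg.quadFormOdd, ρ, adMap]
    linear_combination (x (.inl ()) ^ 2 + x (.inr (.inl 0)) * x (.inr (.inr 0))) *
      (g.1 0 0 * g.1 1 1 - g.1 0 1 * g.1 1 0 + 1) * hd
  let φ := CfsgLib.POmega.mkHom ρ h1 hm hq'
  have hker : φ.ker = Subgroup.center _ := by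
    ext g
    rw [CfsgLib.POmega.mkHom_ker, CfsgLib.POmega.sl_two_center_iff]
    have hd : g.1 0 0 * g.1 1 1 - g.1 0 1 * g.1 1 0 = 1 := by rw [← Matrix.det_fin_two]; exact g.2
    constructor
    · intro h
      have ex := h (Pi.single (.inr (.inl 0)) 1)
      have ey := h (Pi.single (.inr (.inr 0)) 1)
      have x1 := congrFun ex (.inr (.inr 0))
      have x2 := congrFun ex (.inr (.inl 0))
      have y1 := congrFun ey (.inr (.inl 0))
      simp [ρ, adMap] at x1 x2 y1
      refine ⟨y1, x1, ?_⟩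
      rcases x2 with h0 | h0
      · linear_combination h0 - hd + g.1 1 1 * h0 - g.1 1 0 * y1
      · linear_combination h0 + hd - g.1 1 1 * h0 + g.1 1 0 * y1
    · rintro ⟨h01, h10, hpt⟩ x
      rw [h01, h10, ← hpt] at hd
      funext i
      rcases i with i | i | i
      · simp [ρ, adMap, h01, h10, ← hpt]; linear_combination x (.inl ()) * hd
      · obtain rfl := Subsingleton.elim i 0
        simp [ρ, adMap, h01, h10, ← hpt]; linear_combination x (.inr (.inl 0)) * hd
      · obtain rfl := Subsingleton.elim i 0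
        simp [ρ, adMap, h01, h10, ← hpt]; linear_combination x (.inr (.inr 0)) * hd
  have hidx := CfsgLib.Orth.index_commutator hQ h2 hd (by simp : 2 ≤ Fintype.card (Unit ⊕ (Fin 1 ⊕ Fin 1)))
  have hO : Nat.card (CfsgLib.Orth.O (CfsgLib.POmega.oddQ 1 F)) = 2 * q * (q ^ 2 - 1) := by
    rw [CfsgLib.Orth.O, CfsgLib.POmega.oddQ_coe, CfsgLib.ClassicalGroups.card_isometry_odd h2 1, ← hq]
    simp
  have hle : φ.range ≤ commutator (CfsgLib.Orth.O (CfsgLib.POmega.oddQ 1 F)) := by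
    rw [MonoidHom.range_eq_map, Subgroup.map_le_iff_le_comap]
    refine le_of_eq (CfsgLib.RegUnip.eq_top_of_transvection_mem _ fun i j hij c => ?_).symm
    refine CfsgLib.POmega.mem_omega_of_pow _ (N := q) ?_ ?_
    · rw [← map_pow, hq, CfsgLib.POmega.transvection_pow_card, map_one]
    · rw [hidx, show (4 : ℕ) = 2 ^ 2 by rfl]
      exact (Nat.coprime_two_right.2 hodd).pow_right 2
  have hcard : Nat.card (commutator (CfsgLib.Orth.O (CfsgLib.POmega.oddQ 1 F))) * Nat.card φ.ker =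
      Nat.card (Matrix.SpecialLinearGroup (Fin 2) F) := by
    rw [hker, CfsgLib.POmega.card_center_sl_two, CfsgLib.POmega.card_sl_two, ← hq]
    have hgcd : Nat.gcd 2 (q - 1) = 2 := Nat.gcd_eq_left (by have := Nat.odd_iff.1 hodd; omega)
    have := CfsgLib.POmega.card_omega_mul (Q := CfsgLib.POmega.oddQ 1 F)
    rw [hidx, hO] at this
    rw [hgcd]; linarith
  rw [← CfsgLib.POmega.oddQ_coe]
  exact CfsgLib.POmega.pomega_equiv φ hle hker.le hcard CfsgLib.POmega.sl_two_centerless_quotient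

end Cfsg.Agent.S0298
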