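import Cfsg.Statements.S0299
import Cfsg.Agent.Lib.POmega.Bridge
import Cfsg.Agent.Lib.ClassicalGroups.OrthCard
import Cfsg.Agent.Lib.RegUnip.SLn
import Cfsg.Agent.Lib.Laws.Embed

set_option autoImplicit false
open Cfsg

namespace Cfsg.Agent.S0299

/-- `X ↦ M X Nᵀ` on `[[x₀, x₁], [-y₁, y₀]]`. -/
def biMap {F : Type*} [Field F] (M N : Matrix (Fin 2) (Fin 2) F) :
    (Fin 2 ⊕ Fin 2 → F) →ₗ[F] (Fin 2 ⊕ Fin 2 → F) where
  toFun v := Sum.elim
    ![(M 0 0 * v (.inl 0) - M 0 1 * v (.inr 1)) * N 0 0 + (M 0 0 * v (.inl 1) + M 0 1 * v (.inr 0)) * N 0 1,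
      (M 0 0 * v (.inl 0) - M 0 1 * v (.inr 1)) * N 1 0 + (M 0 0 * v (.inl 1) + M 0 1 * v (.inr 0)) * N 1 1]
    ![(M 1 0 * v (.inl 0) - M 1 1 * v (.inr 1)) * N 1 0 + (M 1 0 * v (.inl 1) + M 1 1 * v (.inr 0)) * N 1 1,
      -((M 1 0 * v (.inl 0) - M 1 1 * v (.inr 1)) * N 0 0 + (M 1 0 * v (.inl 1) + M 1 1 * v (.inr 0)) * N 0 1)]
  map_add' u v := by funext i; rcases i with i | i <;> fin_cases i <;> simp <;> ring
  map_smul' c v := by funext i; rcases i with i | i <;> fin_cases i <;> simp <;> ring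

/-- PΩ^+_4(q) is isomorphic to PSL_2(q) x PSL_2(q) for q at least 3. -/
theorem result {F : Type*} [Field F] [Fintype F] (hF : 3 ≤ Fintype.card F) : Nonempty (Cfsg.POmega F (Cfsg.quadFormPlus 2 F) ≃* Matrix.ProjectiveSpecialLinearGroup (Fin 2) F × Matrix.ProjectiveSpecialLinearGroup (Fin 2) F) := by
  classical
  set q := Fintype.card F with hq
  have hQ := CfsgLib.Orth.plusQ_nondegenerate (F := F) 2
  let ρ : Matrix.SpecialLinearGroup (Fin 2) F × Matrix.SpecialLinearGroup (Fin 2) F →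
      (Fin 2 ⊕ Fin 2 → F) →ₗ[F] (Fin 2 ⊕ Fin 2 → F) := fun g => biMap g.1.1 g.2.1
  have h1 : ∀ x, ρ 1 x = x := fun x => by
    funext i
    rcases i with i | i <;> fin_cases i <;> simp [ρ, biMap]
  have hm : ∀ g h x, ρ (g * h) x = ρ g (ρ h x) := fun g h x => by
    funext i
    rcases i with i | i <;> fin_cases i <;>
      simp [ρ, biMap, Matrix.mul_apply, Fin.sum_univ_two] <;> ring
  have hq' : ∀ g x, CfsgLib.Orth.plusQ 2 F (ρ g x) = CfsgLib.Orth.plusQ 2 F x := fun g x => by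
    have hd : g.1.1 0 0 * g.1.1 1 1 - g.1.1 0 1 * g.1.1 1 0 = 1 := by
      rw [← Matrix.det_fin_two]; exact g.1.2
    have hd' : g.2.1 0 0 * g.2.1 1 1 - g.2.1 0 1 * g.2.1 1 0 = 1 := by
      rw [← Matrix.det_fin_two]; exact g.2.2
    simp [CfsgLib.Orth.plusQ_coe, Cfsg.quadFormPlus, ρ, biMap, Fin.sum_univ_two]
    linear_combination (x (.inl 0) * x (.inr 0) + x (.inl 1) * x (.inr 1)) *
        (g.2.1 0 0 * g.2.1 1 1 - g.2.1 0 1 * g.2.1 1 0) * hd +
      (x (.inl 0) * x (.inr 0) + x (.inl 1) * x (.inr 1)) * hd'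
  let φ := CfsgLib.POmega.mkHom ρ h1 hm hq'
  have hkiff : ∀ g, g ∈ φ.ker ↔ g.1 ∈ Subgroup.center _ ∧ g.1 = g.2 := by
    rintro ⟨g, h⟩
    have hdg : g.1 0 0 * g.1 1 1 - g.1 0 1 * g.1 1 0 = 1 := by rw [← Matrix.det_fin_two]; exact g.2
    rw [CfsgLib.POmega.mkHom_ker]
    constructor
    · intro H
      have e0 := H (Pi.single (.inl 0) 1)
      have e1 := H (Pi.single (.inr 0) 1)
      have e2 := H (Pi.single (.inl 1) 1)
      have a1 := congrFun e0 (.inl 0)
      have a2 := congrFun e0 (.inl 1)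
      have a3 := congrFun e0 (.inr 1)
      have b1 := congrFun e1 (.inr 0)
      have b2 := congrFun e1 (.inl 1)
      have b3 := congrFun e1 (.inr 1)
      have c1 := congrFun e2 (.inl 1)
      simp [ρ, biMap] at a1 a2 a3 b1 b2 b3 c1
      have hg00 : g.1 0 0 ≠ 0 := fun h0 => by rw [h0, zero_mul] at a1; exact zero_ne_one a1
      have hh00 : h.1 0 0 ≠ 0 := fun h0 => by rw [h0, mul_zero] at a1; exact zero_ne_one a1
      have hg11 : g.1 1 1 ≠ 0 := fun h0 => by rw [h0, zero_mul] at b1; exact zero_ne_one b1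
      have hh11 : h.1 1 1 ≠ 0 := fun h0 => by rw [h0, mul_zero] at b1; exact zero_ne_one b1
      have g10 : g.1 1 0 = 0 := a3.resolve_right hh00
      have h10 : h.1 1 0 = 0 := a2.resolve_left hg00
      have g01 : g.1 0 1 = 0 := b2.resolve_right hh11
      have h01 : h.1 0 1 = 0 := b3.resolve_left hg11
      have hh : h.1 1 1 = h.1 0 0 := mul_left_cancel₀ hg00 (c1.trans a1.symm)
      have hg : g.1 0 0 = g.1 1 1 := mul_right_cancel₀ hh11 (c1.trans b1.symm)
      refine ⟨(CfsgLib.POmega.sl_two_center_iff g).2 ⟨g01, g10, hg⟩, ?_⟩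
      have e : g.1 0 0 = h.1 0 0 := by
        rw [g10, ← hg] at hdg
        exact mul_left_cancel₀ hg00 (by linear_combination hdg - a1)
      ext i j
      fin_cases i <;> fin_cases j <;> simp [g01, g10, h01, h10, ← hg, hh, e]
    · rintro ⟨hc, he⟩ x
      obtain rfl : g = h := he
      obtain ⟨h01, h10, hpt⟩ := (CfsgLib.POmega.sl_two_center_iff g).1 hc
      rw [h01, h10, ← hpt] at hdg
      funext i
      rcases i with i | i <;> fin_cases i <;> simp [ρ, biMap, h01, h10, ← hpt]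
      · linear_combination x (.inl 0) * hdg
      · linear_combination x (.inl 1) * hdg
      · linear_combination x (.inr 0) * hdg
      · linear_combination x (.inr 1) * hdg
  have hcprod : ∀ g : Matrix.SpecialLinearGroup (Fin 2) F × Matrix.SpecialLinearGroup (Fin 2) F,
      g ∈ Subgroup.center _ ↔ g.1 ∈ Subgroup.center _ ∧ g.2 ∈ Subgroup.center _ := fun g => by
    simp only [Subgroup.mem_center_iff, Prod.forall, Prod.ext_iff, Prod.fst_mul, Prod.snd_mul]
    exact ⟨fun h => ⟨fun a => (h a 1).1, fun b => (h 1 b).2⟩, fun h a b => ⟨h.1 a, h.2 b⟩⟩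
  have hker : φ.ker ≤ Subgroup.center _ := fun g hg => by
    obtain ⟨h, e⟩ := (hkiff g).1 hg
    exact (hcprod g).2 ⟨h, e ▸ h⟩
  have hkcard : Nat.card φ.ker = Nat.gcd 2 (q - 1) := by
    rw [hq, ← CfsgLib.POmega.card_center_sl_two]
    exact Nat.card_congr
      { toFun := fun g => ⟨g.1.1, ((hkiff g.1).1 g.2).1⟩
        invFun := fun z => ⟨(z.1, z.1), (hkiff _).2 ⟨z.2, rfl⟩⟩
        left_inv := fun g => Subtype.ext (Prod.ext rfl ((hkiff g.1).1 g.2).2)
        right_inv := fun z => rfl }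
  have hO : Nat.card (CfsgLib.Orth.O (CfsgLib.Orth.plusQ 2 F)) = 2 * q ^ 2 * (q ^ 2 - 1) * (q ^ 2 - 1) := by
    rw [CfsgLib.Orth.O, CfsgLib.Orth.plusQ_coe, CfsgLib.ClassicalGroups.card_isometry_plus, ← hq]
    simp
  let φ₁ := φ.comp (MonoidHom.inl _ _)
  let φ₂ := φ.comp (MonoidHom.inr _ _)
  have key : φ₁.range ≤ commutator (CfsgLib.Orth.O (CfsgLib.Orth.plusQ 2 F)) ∧
      φ₂.range ≤ commutator (CfsgLib.Orth.O (CfsgLib.Orth.plusQ 2 F)) ∧
      (commutator (CfsgLib.Orth.O (CfsgLib.Orth.plusQ 2 F))).index = 2 * Nat.gcd 2 (q - 1) := by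
    by_cases hodd : Odd q
    · have h2 : (2 : F) ≠ 0 := CfsgLib.POmega.two_ne_zero_of_odd hodd
      obtain ⟨d, hd⟩ := FiniteField.exists_nonsquare (F := F) (fun hch => by
        have : CharP F 2 := ringChar.of_eq hch
        exact h2 CharTwo.two_eq_zero)
      have hidx := CfsgLib.Orth.index_commutator hQ h2 hd (by simp)
      have hgcd : Nat.gcd 2 (q - 1) = 2 := Nat.gcd_eq_left (by have := Nat.odd_iff.1 hodd; omega)
      have hgen : ∀ ψ : Matrix.SpecialLinearGroup (Fin 2) F →* CfsgLib.Orth.O (CfsgLib.Orth.plusQ 2 F),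
          ψ.range ≤ commutator (CfsgLib.Orth.O (CfsgLib.Orth.plusQ 2 F)) := fun ψ => by
        rw [MonoidHom.range_eq_map, Subgroup.map_le_iff_le_comap]
        refine le_of_eq (CfsgLib.RegUnip.eq_top_of_transvection_mem _ fun i j hij c => ?_).symm
        refine CfsgLib.POmega.mem_omega_of_pow _ (N := q) ?_ ?_
        · rw [← map_pow, hq, CfsgLib.POmega.transvection_pow_card, map_one]
        · rw [hidx, show (4 : ℕ) = 2 ^ 2 by rfl]
          exact (Nat.coprime_two_right.2 hodd).pow_right 2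
      exact ⟨hgen _, hgen _, by rw [hidx, hgcd]⟩
    · have h2 : (2 : F) = 0 := CfsgLib.POmega.two_eq_zero_of_even hodd
      have : CharP F 2 := CharTwo.of_one_ne_zero_of_two_eq_zero one_ne_zero h2
      have hcond : ∃ p : F, p ≠ 0 ∧ p ≠ 1 := by
        obtain ⟨p, hp⟩ := Finset.exists_mem_notMem_of_card_lt_card (s := ({0, 1} : Finset F))
          (t := Finset.univ) (lt_of_le_of_lt Finset.card_le_two (by rw [Finset.card_univ]; omega))
        simp only [Finset.mem_insert, Finset.mem_singleton, not_or] at hp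
        exact ⟨p, hp.2.1, hp.2.2⟩
      have hidx := CfsgLib.Orth.index_commutator_char_two hQ
        (CfsgLib.Orth.reflClosure_eq_top hQ (Or.inl hcond)) (by simp)
      have hev := Nat.not_odd_iff.1 hodd
      have hp := CfsgLib.Laws.sl_two_perfect (F := F) (by omega)
      have hgcd : Nat.gcd 2 (q - 1) = 1 := by
        rw [← Nat.coprime_iff_gcd_eq_one, Nat.coprime_two_left, Nat.odd_iff]; omega
      exact ⟨CfsgLib.POmega.range_le_omega_of_perfect _ hp, CfsgLib.POmega.range_le_omega_of_perfect _ hp,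
        by rw [hidx, hgcd]⟩
  obtain ⟨k₁, k₂, hidx⟩ := key
  have hle : φ.range ≤ commutator (CfsgLib.Orth.O (CfsgLib.Orth.plusQ 2 F)) := by
    rintro _ ⟨⟨g, h⟩, rfl⟩
    rw [show (g, h) = (g, 1) * (1, h) by simp, map_mul]
    exact mul_mem (k₁ ⟨g, rfl⟩) (k₂ ⟨h, rfl⟩)
  have hcard : Nat.card (commutator (CfsgLib.Orth.O (CfsgLib.Orth.plusQ 2 F))) * Nat.card φ.ker =
      Nat.card (Matrix.SpecialLinearGroup (Fin 2) F × Matrix.SpecialLinearGroup (Fin 2) F) := by
    have := CfsgLib.POmega.card_omega_mul (Q := CfsgLib.Orth.plusQ 2 F)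
    rw [hidx, hO] at this
    rw [Nat.card_prod, CfsgLib.POmega.card_sl_two, ← hq, hkcard]
    refine Nat.eq_of_mul_eq_mul_left (show 0 < 2 by norm_num) ?_
    linarith
  obtain ⟨e⟩ := CfsgLib.POmega.pomega_equiv φ hle hker hcard fun g hg => (hcprod g).2
    ⟨CfsgLib.POmega.sl_two_centerless_quotient g.1 fun x => ((hcprod _).1 (hg (x, 1))).1,
      CfsgLib.POmega.sl_two_centerless_quotient g.2 fun x => ((hcprod _).1 (hg (1, x))).2⟩
  rw [← CfsgLib.Orth.plusQ_coe]
  let π := MonoidHom.prodMap (QuotientGroup.mk' (Subgroup.center (Matrix.SpecialLinearGroup (Fin 2) F)))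
    (QuotientGroup.mk' (Subgroup.center (Matrix.SpecialLinearGroup (Fin 2) F)))
  have hπ : π.ker = Subgroup.center _ := by
    ext g
    rw [MonoidHom.mem_ker, hcprod]
    simp [π, Prod.ext_iff, QuotientGroup.eq_one_iff]
  exact ⟨e.trans ((QuotientGroup.quotientMulEquivOfEq hπ.symm).trans
    (QuotientGroup.quotientKerEquivOfSurjective π
      (Function.Surjective.prodMap (QuotientGroup.mk'_surjective _) (QuotientGroup.mk'_surjective _))))⟩

end Cfsg.Agent.S0299
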