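import Cfsg.Statements.S0301
import Cfsg.Agent.Lib.POmega.Wedge
import Cfsg.Agent.Lib.ClassicalGroups.OrthCard
import Cfsg.Agent.Lib.Sp.Simple
import Cfsg.Agent.Lib.Sp.Card

set_option autoImplicit false
open Cfsg

namespace Cfsg.Agent.S0301

open Matrix

/-- Matrices on `Fin 2 ⊕ Fin 2` as matrices on `Fin 4`. -/
def toFour {F : Type*} [Field F] : Matrix (Fin 2 ⊕ Fin 2) (Fin 2 ⊕ Fin 2) F ≃ₐ[F] Matrix (Fin 4) (Fin 4) F :=
  Matrix.reindexAlgEquiv F F finSumFinEquiv

/-- The bivectors with vanishing contraction. -/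
def emb (F : Type*) [Field F] : (Unit ⊕ (Fin 2 ⊕ Fin 2) → F) →ₗ[F] (Fin 6 → F) where
  toFun v := ![v (.inr (.inl 0)), v (.inl ()), v (.inr (.inl 1)), v (.inr (.inr 1)), -v (.inl ()),
    v (.inr (.inr 0))]
  map_add' u v := by funext i; fin_cases i <;> simp <;> ring
  map_smul' c v := by funext i; fin_cases i <;> simp

/-- Left inverse of `emb`. -/
def proj (F : Type*) [Field F] : (Fin 6 → F) →ₗ[F] (Unit ⊕ (Fin 2 ⊕ Fin 2) → F) where
  toFun p := Sum.elim (fun _ => p 1) (Sum.elim ![p 0, p 2] ![p 5, p 3])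
  map_add' u v := by funext i; rcases i with i | i | i <;> [skip; fin_cases i; fin_cases i] <;> simp
  map_smul' c v := by funext i; rcases i with i | i | i <;> [skip; fin_cases i; fin_cases i] <;> simp

/-- PΩ_5(q) is isomorphic to PSp_4(q) for q odd. -/
theorem result {F : Type*} [Field F] [Fintype F] (hodd : Odd (Fintype.card F)) : Nonempty (Cfsg.POmega F (Cfsg.quadFormOdd 2 F) ≃* Cfsg.PSp 2 F) := by
  classical
  have h2 : (2 : F) ≠ 0 := CfsgLib.POmega.two_ne_zero_of_odd hodd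
  set q := Fintype.card F with hq
  have hQ := CfsgLib.POmega.oddQ_nondegenerate (F := F) h2 2
  let T : Matrix.symplecticGroup (Fin 2) F → Matrix (Fin 4) (Fin 4) F := fun A => toFour A.1
  have hTinj : Function.Injective T := fun A A' h => Subtype.ext ((toFour (F := F)).injective h)
  have hdet : ∀ A, (T A).det = 1 := fun A => by
    have h := SymplecticGroup.det_eq_one A.2
    simpa [T, toFour] using h
  have s0 : (finSumFinEquiv (m := 2) (n := 2)).symm 0 = Sum.inl 0 := rfl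
  have s1 : (finSumFinEquiv (m := 2) (n := 2)).symm 1 = Sum.inl 1 := rfl
  have s2 : (finSumFinEquiv (m := 2) (n := 2)).symm 2 = Sum.inr 0 := rfl
  have s3 : (finSumFinEquiv (m := 2) (n := 2)).symm 3 = Sum.inr 1 := rfl
  have hrow : ∀ A i j, ∀ (_ : True), T A 0 i * T A 2 j - T A 0 j * T A 2 i + (T A 1 i * T A 3 j - T A 1 j * T A 3 i) =
      -Cfsg.sympForm 2 F (Pi.single ((finSumFinEquiv (m := 2) (n := 2)).symm i) 1)
        (Pi.single ((finSumFinEquiv (m := 2) (n := 2)).symm j) 1) := fun A i j _ => by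
    rw [← CfsgLib.Sp.sympForm_mulVec A, CfsgLib.Sp.sympForm_eq_sum, Fin.sum_univ_two]
    simp [T, toFour, s0, s1, s2, s3]
    ring
  have hc : ∀ A p, (CfsgLib.POmega.wedge (T A) *ᵥ p) 1 + (CfsgLib.POmega.wedge (T A) *ᵥ p) 4 = p 1 + p 4 :=
    fun A p => by
    have r0 := hrow A 0 1 trivial
    have r1 := hrow A 0 2 trivial
    have r2 := hrow A 0 3 trivial
    have r3 := hrow A 1 2 trivial
    have r4 := hrow A 1 3 trivial
    have r5 := hrow A 2 3 trivial
    rw [CfsgLib.Sp.sympForm_eq_sum, Fin.sum_univ_two] at r0 r1 r2 r3 r4 r5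
    simp [s0, s1, s2, s3] at r0 r1 r2 r3 r4 r5
    simp only [CfsgLib.POmega.wedge_mulVec, Fin.sum_univ_six]
    simp [CfsgLib.POmega.pr₁, CfsgLib.POmega.pr₂]
    linear_combination p 0 * r0 + p 1 * r1 + p 2 * r2 + p 3 * r3 + p 4 * r4 + p 5 * r5
  let ρ : Matrix.symplecticGroup (Fin 2) F →
      (Unit ⊕ (Fin 2 ⊕ Fin 2) → F) →ₗ[F] (Unit ⊕ (Fin 2 ⊕ Fin 2) → F) := fun A =>
    (proj F).comp ((Matrix.mulVecLin (CfsgLib.POmega.wedge (T A))).comp (emb F))
  have hproj : ∀ v, proj F (emb F v) = v := fun v => by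
    funext i
    rcases i with i | i | i
    · simp [proj, emb]
    · fin_cases i <;> simp [proj, emb]
    · fin_cases i <;> simp [proj, emb]
  have hρ : ∀ A v, emb F (ρ A v) = CfsgLib.POmega.wedge (T A) *ᵥ emb F v := fun A v => by
    have h := hc A (emb F v)
    have h0 : emb F v 1 + emb F v 4 = 0 := by simp [emb]
    rw [h0] at h
    funext i
    fin_cases i <;> simp [ρ, proj, emb] at h ⊢
    linear_combination -h
  have hinj : ∀ u v, emb F u = emb F v → u = v := fun u v h => by rw [← hproj u, h, hproj]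
  have hT1 : T 1 = 1 := by
    ext i j; simp [T, toFour, Matrix.one_apply]
  have hTm : ∀ A B, T (A * B) = T A * T B := fun A B => by
    simp [T, toFour]
  have h1 : ∀ x, ρ 1 x = x := fun x => hinj _ _ (by
    rw [hρ, hT1, CfsgLib.POmega.wedge_one, Matrix.one_mulVec])
  have hm : ∀ g h x, ρ (g * h) x = ρ g (ρ h x) := fun g h x => hinj _ _ (by
    rw [hρ, hρ, hρ, hTm, CfsgLib.POmega.wedge_mul, Matrix.mulVec_mulVec])
  have hpf : ∀ v, CfsgLib.POmega.oddQ 2 F v = CfsgLib.POmega.pf (emb F v) := fun v => by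
    simp [CfsgLib.POmega.oddQ_coe, Cfsg.quadFormOdd, CfsgLib.POmega.pf, emb, Fin.sum_univ_two]
    ring
  have hq' : ∀ g x, CfsgLib.POmega.oddQ 2 F (ρ g x) = CfsgLib.POmega.oddQ 2 F x := fun g x => by
    rw [hpf, hpf, hρ, CfsgLib.POmega.pf_wedge, hdet, one_mul]
  let φ := CfsgLib.POmega.mkHom ρ h1 hm hq'
  have hscal : ∀ g ∈ φ.ker, ∃ μ : F, μ * μ = 1 ∧ T g = μ • 1 := fun g hg => by
    have hg' := (CfsgLib.POmega.mkHom_ker ρ h1 hm hq' g).1 hg
    have hfix : ∀ p : Fin 6 → F, p 1 + p 4 = 0 → CfsgLib.POmega.wedge (T g) *ᵥ p = p := fun p hp => by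
      have e : emb F (proj F p) = p := by
        funext i
        fin_cases i <;> simp [proj, emb]
        linear_combination -hp
      rw [← e, ← hρ, hg']
    refine CfsgLib.POmega.scalar_of_wedge (T g) (fun c hc => hfix _ ?_) (hfix _ (by simp))
    rcases hc with rfl | rfl | rfl | rfl <;> simp
  have hone : ∀ μ : F, toFour (μ • (1 : Matrix (Fin 2 ⊕ Fin 2) (Fin 2 ⊕ Fin 2) F)) = μ • 1 := fun μ => by
    simp [toFour]
  have hker : φ.ker ≤ Subgroup.center _ := fun g hg => by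
    obtain ⟨μ, -, e⟩ := hscal g hg
    have hg1 : g.1 = μ • 1 := (toFour (F := F)).injective (e.trans (hone μ).symm)
    rw [Subgroup.mem_center_iff]
    intro B
    refine Subtype.ext ?_
    simp [hg1]
  have hkcard : Nat.card φ.ker = Nat.gcd 2 (q - 1) :=
    CfsgLib.POmega.card_scalar_sq φ.ker T hTinj hscal fun μ hμ => by
      refine ⟨⟨μ • 1, CfsgLib.Sp.mem_symplecticGroup_iff.2 fun u v => ?_⟩,
        (CfsgLib.POmega.mkHom_ker ρ h1 hm hq' _).2 fun x => hinj _ _ ?_, hone μ⟩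
      · rw [Matrix.smul_mulVec, Matrix.one_mulVec, Matrix.smul_mulVec, Matrix.one_mulVec,
          ← CfsgLib.Sp.sympBilin_apply, map_smul, map_smul, LinearMap.smul_apply, CfsgLib.Sp.sympBilin_apply,
          smul_smul, hμ, one_smul]
      · rw [hρ, show T _ = μ • 1 from hone μ, CfsgLib.POmega.wedge_scalar hμ, Matrix.one_mulVec]
  have hq3 : 3 ≤ q := by have := Nat.odd_iff.1 hodd; have := Fintype.one_lt_card (α := F); omega
  have hp : commutator (Matrix.symplecticGroup (Fin 2) F) = ⊤ :=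
    CfsgLib.Sp.commutator_eq_top_of_card hq.symm (by omega)
  have hO : Nat.card (CfsgLib.Orth.O (CfsgLib.POmega.oddQ 2 F)) = 2 * q ^ 4 * ((q ^ 2 - 1) * (q ^ 4 - 1)) := by
    rw [CfsgLib.Orth.O, CfsgLib.POmega.oddQ_coe, CfsgLib.ClassicalGroups.card_isometry_odd h2 2, ← hq,
      Finset.prod_range_succ, Finset.prod_range_succ, Finset.prod_range_zero, one_mul]
    norm_num
  have hcard : Nat.card (commutator (CfsgLib.Orth.O (CfsgLib.POmega.oddQ 2 F))) * Nat.card φ.ker =
      Nat.card (Matrix.symplecticGroup (Fin 2) F) := by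
    have := CfsgLib.POmega.card_omega_mul (Q := CfsgLib.POmega.oddQ 2 F)
    rw [CfsgLib.POmega.index_omega hQ (by simp), hO, ← hq] at this
    rw [CfsgLib.Sp.card_symplecticGroup hq.symm, hkcard, Finset.prod_range_succ, Finset.prod_range_succ,
      Finset.prod_range_zero, one_mul]
    generalize Nat.card (commutator (CfsgLib.Orth.O (CfsgLib.POmega.oddQ 2 F))) = C at this ⊢
    generalize Nat.gcd 2 (q - 1) = d at this ⊢
    norm_num at this ⊢
    refine Nat.eq_of_mul_eq_mul_left (show 0 < 2 by norm_num) ?_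
    linarith
  rw [← CfsgLib.POmega.oddQ_coe]
  exact CfsgLib.POmega.pomega_equiv φ (CfsgLib.POmega.range_le_omega_of_perfect φ hp) hker hcard
    fun g hg => CfsgLib.POmega.central_of_perfect hp hg

end Cfsg.Agent.S0301
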