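import Cfsg.Statements.S0302
import Cfsg.Agent.Lib.POmega.Wedge
import Cfsg.Agent.Lib.ClassicalGroups.OrthCard
import Cfsg.Agent.Classical.SLGen

set_option autoImplicit false
open Cfsg

namespace Cfsg.Agent.S0302

open Matrix

/-- Plücker coordinates. -/
def coords (F : Type*) [Field F] : (Fin 3 ⊕ Fin 3 → F) ≃ₗ[F] (Fin 6 → F) where
  toFun v := ![v (.inl 0), -v (.inl 1), v (.inl 2), v (.inr 2), v (.inr 1), v (.inr 0)]
  invFun p := Sum.elim ![p 0, -p 1, p 2] ![p 5, p 4, p 3]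
  left_inv v := by funext i; rcases i with i | i <;> fin_cases i <;> simp
  right_inv p := by funext i; fin_cases i <;> simp
  map_add' u v := by funext i; fin_cases i <;> simp <;> ring
  map_smul' c v := by funext i; fin_cases i <;> simp

/-- PΩ^+_6(q) is isomorphic to PSL_4(q). -/
theorem result {F : Type*} [Field F] [Fintype F] : Nonempty (Cfsg.POmega F (Cfsg.quadFormPlus 3 F) ≃* Matrix.ProjectiveSpecialLinearGroup (Fin 4) F) := by
  classical
  set q := Fintype.card F with hq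
  have hQ := CfsgLib.Orth.plusQ_nondegenerate (F := F) 3
  let ρ : Matrix.SpecialLinearGroup (Fin 4) F → (Fin 3 ⊕ Fin 3 → F) →ₗ[F] (Fin 3 ⊕ Fin 3 → F) := fun g =>
    (coords F).symm.toLinearMap.comp ((Matrix.mulVecLin (CfsgLib.POmega.wedge g.1)).comp (coords F).toLinearMap)
  have hρ : ∀ g v, coords F (ρ g v) = CfsgLib.POmega.wedge g.1 *ᵥ coords F v := fun g v =>
    (coords F).apply_symm_apply _
  have h1 : ∀ x, ρ 1 x = x := fun x => (coords F).injective (by
    rw [hρ, Matrix.SpecialLinearGroup.coe_one, CfsgLib.POmega.wedge_one, Matrix.one_mulVec])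
  have hm : ∀ g h x, ρ (g * h) x = ρ g (ρ h x) := fun g h x => (coords F).injective (by
    rw [hρ, hρ, hρ, Matrix.SpecialLinearGroup.coe_mul, CfsgLib.POmega.wedge_mul, Matrix.mulVec_mulVec])
  have hpf : ∀ v, CfsgLib.Orth.plusQ 3 F v = CfsgLib.POmega.pf (coords F v) := fun v => by
    simp [CfsgLib.Orth.plusQ_coe, Cfsg.quadFormPlus, CfsgLib.POmega.pf, coords, Fin.sum_univ_three]
  have hq' : ∀ g x, CfsgLib.Orth.plusQ 3 F (ρ g x) = CfsgLib.Orth.plusQ 3 F x := fun g x => by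
    rw [hpf, hpf, hρ, CfsgLib.POmega.pf_wedge, g.2, one_mul]
  let φ := CfsgLib.POmega.mkHom ρ h1 hm hq'
  have hscal : ∀ g ∈ φ.ker, ∃ μ : F, μ * μ = 1 ∧ g.1 = μ • 1 := fun g hg => by
    have hg' := (CfsgLib.POmega.mkHom_ker ρ h1 hm hq' g).1 hg
    have hfix : ∀ p, CfsgLib.POmega.wedge g.1 *ᵥ p = p := fun p => by
      rw [← (coords F).apply_symm_apply p, ← hρ, hg']
    exact CfsgLib.POmega.scalar_of_wedge g.1 (fun _ _ => hfix _) (hfix _)
  have hker : φ.ker ≤ Subgroup.center _ := fun g hg => by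
    obtain ⟨μ, hμ, e⟩ := hscal g hg
    refine Matrix.SpecialLinearGroup.mem_center_iff.2 ⟨μ, ?_, ?_⟩
    · rw [Fintype.card_fin]; linear_combination (μ * μ + 1) * hμ
    · rw [e, Matrix.smul_one_eq_diagonal]; rfl
  have hkcard : Nat.card φ.ker = Nat.gcd 2 (q - 1) :=
    CfsgLib.POmega.card_scalar_sq φ.ker (fun g => g.1) Subtype.val_injective hscal fun μ hμ => by
      refine ⟨⟨μ • 1, ?_⟩, (CfsgLib.POmega.mkHom_ker ρ h1 hm hq' _).2 fun x => (coords F).injective ?_, rfl⟩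
      · rw [Matrix.det_smul, Fintype.card_fin, Matrix.det_one]; linear_combination (μ * μ + 1) * hμ
      · refine (hρ _ _).trans ?_
        show CfsgLib.POmega.wedge (μ • 1) *ᵥ _ = _
        rw [CfsgLib.POmega.wedge_scalar hμ, Matrix.one_mulVec]
  have hp : commutator (Matrix.SpecialLinearGroup (Fin 4) F) = ⊤ :=
    Cfsg.Agent.Classical.sl_commutator_eq_top (by simp)
  have hO : Nat.card (CfsgLib.Orth.O (CfsgLib.Orth.plusQ 3 F)) =
      2 * q ^ 6 * (q ^ 3 - 1) * ((q ^ 2 - 1) * (q ^ 4 - 1)) := by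
    rw [CfsgLib.Orth.O, CfsgLib.Orth.plusQ_coe, CfsgLib.ClassicalGroups.card_isometry_plus, ← hq,
      Finset.prod_range_succ, Finset.prod_range_succ, Finset.prod_range_zero, one_mul]
  have hcard : Nat.card (commutator (CfsgLib.Orth.O (CfsgLib.Orth.plusQ 3 F))) * Nat.card φ.ker =
      Nat.card (Matrix.SpecialLinearGroup (Fin 4) F) := by
    have := CfsgLib.POmega.card_omega_mul (Q := CfsgLib.Orth.plusQ 3 F)
    rw [CfsgLib.POmega.index_omega hQ (by simp), hO, ← hq] at this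
    have hsl := Cfsg.Agent.Classical.card_sl_mul (F := F) 4 (by norm_num)
    rw [← hq, Fin.prod_univ_four] at hsl
    simp only [Fin.val_zero, Fin.val_one, Fin.val_two, pow_zero, pow_one] at hsl
    rw [show ((3 : Fin 4) : ℕ) = 3 from rfl] at hsl
    have hq1 : 1 < q := hq ▸ Fintype.one_lt_card
    rw [hkcard]
    refine Nat.eq_of_mul_eq_mul_left (show 0 < q - 1 by omega) ?_
    rw [hsl, show q ^ 4 - q = q * (q ^ 3 - 1) by rw [Nat.mul_sub, mul_one, ← pow_succ'],
      show q ^ 4 - q ^ 2 = q ^ 2 * (q ^ 2 - 1) by rw [Nat.mul_sub, mul_one, ← pow_add],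
      show q ^ 4 - q ^ 3 = q ^ 3 * (q - 1) by rw [Nat.mul_sub, mul_one, ← pow_succ]]
    refine Nat.eq_of_mul_eq_mul_left (show 0 < 2 by norm_num) ?_
    generalize Nat.card (commutator (CfsgLib.Orth.O (CfsgLib.Orth.plusQ 3 F))) = C at this ⊢
    generalize Nat.gcd 2 (q - 1) = d at this ⊢
    generalize q - 1 = a
    generalize q ^ 2 - 1 = b at this ⊢
    generalize q ^ 3 - 1 = c at this ⊢
    generalize q ^ 4 - 1 = e at this ⊢
    calc 2 * (a * (C * d)) = a * (C * (2 * d)) := by ring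
      _ = _ := by rw [this]; ring
  rw [← CfsgLib.Orth.plusQ_coe]
  exact CfsgLib.POmega.pomega_equiv φ (CfsgLib.POmega.range_le_omega_of_perfect φ hp) hker hcard
    fun g hg => CfsgLib.POmega.central_of_perfect hp hg

end Cfsg.Agent.S0302
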