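import Cfsg.Statements.S0304
import Cfsg.Agent.Lib.Sp.Group

set_option autoImplicit false
open Cfsg

namespace Cfsg.Agent.S0304

open Matrix

variable {F : Type*} [Field F] [Fintype F] [CharP F 2] {m : ℕ}

/-- The lower block. -/
def low (M : Matrix (Unit ⊕ (Fin m ⊕ Fin m)) (Unit ⊕ (Fin m ⊕ Fin m)) F) : Matrix (Fin m ⊕ Fin m) (Fin m ⊕ Fin m) F :=
  M.toBlocks₂₂

/-- The form on the last `2m` coordinates. -/
def qv (w : Fin m ⊕ Fin m → F) : F := ∑ i, w (.inl i) * w (.inr i)

theorem quad_eq (v : Unit ⊕ (Fin m ⊕ Fin m) → F) :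
    Cfsg.quadFormOdd m F v = v (.inl ()) ^ 2 + qv (v ∘ Sum.inr) := rfl

theorem qv_add (u w : Fin m ⊕ Fin m → F) : qv (u + w) = qv u + qv w + Cfsg.sympForm m F u w := by
  rw [CfsgLib.Sp.sympForm_eq_sum, qv, qv, qv, ← Finset.sum_add_distrib, ← Finset.sum_add_distrib]
  refine Finset.sum_congr rfl fun i _ => ?_
  simp only [Pi.add_apply, CharTwo.sub_eq_add]
  ring

theorem qv_smul (c : F) (w : Fin m ⊕ Fin m → F) : qv (c • w) = c ^ 2 * qv w := by
  rw [qv, qv, Finset.mul_sum]
  exact Finset.sum_congr rfl fun i _ => by simp only [Pi.smul_apply, smul_eq_mul]; ring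

theorem quad_add (u v : Unit ⊕ (Fin m ⊕ Fin m) → F) :
    Cfsg.quadFormOdd m F (u + v) = Cfsg.quadFormOdd m F u + Cfsg.quadFormOdd m F v
      + Cfsg.sympForm m F (u ∘ Sum.inr) (v ∘ Sum.inr) := by
  rw [quad_eq, quad_eq, quad_eq, show (u + v) ∘ Sum.inr = u ∘ Sum.inr + v ∘ Sum.inr from rfl, qv_add,
    Pi.add_apply, CharTwo.add_sq]
  ring

/-- The radical vector. -/
def e0 (m : ℕ) (F : Type*) [Field F] : Unit ⊕ (Fin m ⊕ Fin m) → F := Pi.single (.inl ()) 1

theorem iso_apply (g : Cfsg.isometryGroup F (Cfsg.quadFormOdd m F)) (v : Unit ⊕ (Fin m ⊕ Fin m) → F) :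
    Cfsg.quadFormOdd m F (g.1.1 *ᵥ v) = Cfsg.quadFormOdd m F v := g.2 v v

theorem fix_e0 (g : Cfsg.isometryGroup F (Cfsg.quadFormOdd m F)) : g.1.1 *ᵥ e0 m F = e0 m F := by
  have hinr : (e0 m F) ∘ Sum.inr = 0 := by funext i; simp [e0]
  have hrad : ∀ w, Cfsg.sympForm m F ((g.1.1 *ᵥ e0 m F) ∘ Sum.inr) ((g.1.1 *ᵥ w) ∘ Sum.inr) = 0 := fun w => by
    have h := iso_apply g (e0 m F + w)
    rw [mulVec_add, quad_add, quad_add, iso_apply, iso_apply, hinr] at h
    have h0 : Cfsg.sympForm m F 0 (w ∘ Sum.inr) = 0 := zero_dotProduct _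
    rw [h0] at h
    linear_combination h
  have hz : (g.1.1 *ᵥ e0 m F) ∘ Sum.inr = 0 := by
    refine CfsgLib.Sp.sympBilin_separatingLeft _ fun y => ?_
    rw [CfsgLib.Sp.sympBilin_apply]
    have := hrad (g⁻¹.1.1 *ᵥ Sum.elim 0 y)
    rwa [mulVec_mulVec, ← Units.val_mul, ← Subgroup.coe_mul, mul_inv_cancel, Subgroup.coe_one, Units.val_one,
      one_mulVec] at this
  funext i
  rcases i with i | i
  · have h := iso_apply g (e0 m F)
    rw [quad_eq, quad_eq, hz, hinr] at h
    have : (g.1.1 *ᵥ e0 m F) (.inl ()) ^ 2 = 1 ^ 2 := by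
      rw [one_pow]
      simpa [qv, e0] using h
    simpa [e0] using CharTwo.sq_injective this
  · simpa [e0] using congrFun hz i

theorem col_zero (g : Cfsg.isometryGroup F (Cfsg.quadFormOdd m F)) (i : Fin m ⊕ Fin m) :
    g.1.1 (.inr i) (.inl ()) = 0 := by
  simpa [e0] using congrFun (fix_e0 g) (.inr i)

theorem low_mulVec (g : Cfsg.isometryGroup F (Cfsg.quadFormOdd m F)) (v : Unit ⊕ (Fin m ⊕ Fin m) → F) :
    (g.1.1 *ᵥ v) ∘ Sum.inr = low g.1.1 *ᵥ (v ∘ Sum.inr) := by
  funext i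
  simp [mulVec, dotProduct, low, col_zero g i, toBlocks₂₂]

theorem low_mem (g : Cfsg.isometryGroup F (Cfsg.quadFormOdd m F)) :
    low g.1.1 ∈ Matrix.symplecticGroup (Fin m) F := by
  rw [CfsgLib.Sp.mem_symplecticGroup_iff]
  intro u w
  have h := iso_apply g (Sum.elim (0 : Unit → F) u + Sum.elim (0 : Unit → F) w)
  rw [mulVec_add, quad_add, quad_add, iso_apply, iso_apply, low_mulVec, low_mulVec] at h
  simpa using h

/-- The projection to the symplectic group. -/
def proj (m : ℕ) (F : Type*) [Field F] [Fintype F] [CharP F 2] :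
    Cfsg.isometryGroup F (Cfsg.quadFormOdd m F) →* Matrix.symplecticGroup (Fin m) F where
  toFun g := ⟨low g.1.1, low_mem g⟩
  map_one' := by
    apply Subtype.ext; ext i j
    simp [low, toBlocks₂₂, Matrix.one_apply]
  map_mul' g h := by
    apply Subtype.ext; ext i j
    simp [low, toBlocks₂₂, Matrix.mul_apply, col_zero g i]

theorem proj_bijective : Function.Bijective (proj m F) := by
  constructor
  · intro g h hgh
    have hl : low g.1.1 = low h.1.1 := congrArg Subtype.val hgh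
    refine Subtype.ext (Units.ext (Matrix.ext_of_mulVec_single fun j => ?_))
    funext i
    rcases i with i | i
    · have h1 := iso_apply g (Pi.single j 1)
      have h2 := iso_apply h (Pi.single j 1)
      rw [quad_eq, low_mulVec, hl] at h1
      rw [quad_eq, low_mulVec, ← h1] at h2
      exact CharTwo.sq_injective (by linear_combination -h2)
    · have := congrFun (low_mulVec g (Pi.single j 1)) i
      rw [hl, ← low_mulVec h] at this
      exact this
  · intro A
    have hsurj : Function.Surjective (fun x : F => x ^ 2) :=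
      Finite.injective_iff_surjective.mp CharTwo.sq_injective
    choose r hr using fun j => hsurj (qv (A.1 *ᵥ Pi.single j 1) + qv (Pi.single j (1 : F)))
    let M : Matrix (Unit ⊕ (Fin m ⊕ Fin m)) (Unit ⊕ (Fin m ⊕ Fin m)) F :=
      fromBlocks 1 (Matrix.of fun _ j => r j) 0 A.1
    let D : (Fin m ⊕ Fin m → F) → F := fun w => (r ⬝ᵥ w) ^ 2 + qv (A.1 *ᵥ w) + qv w
    have hDadd : ∀ u w, D (u + w) = D u + D w := fun u w => by
      simp only [D, dotProduct_add, mulVec_add, qv_add, CharTwo.add_sq, CfsgLib.Sp.sympForm_mulVec]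
      linear_combination (CharTwo.add_self_eq_zero (Cfsg.sympForm m F u w))
    have hDsmul : ∀ c w, D (c • w) = c ^ 2 * D w := fun c w => by
      simp only [D, dotProduct_smul, mulVec_smul, qv_smul, smul_eq_mul]; ring
    have hD : ∀ w, D w = 0 := by
      intro w
      let Dh : (Fin m ⊕ Fin m → F) →+ F := AddMonoidHom.mk' D hDadd
      rw [← Finset.univ_sum_single w]
      show Dh (∑ i, Pi.single i (w i)) = 0
      rw [map_sum]
      refine Finset.sum_eq_zero fun i _ => ?_
      show D (Pi.single i (w i)) = 0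
      rw [show (Pi.single i (w i) : Fin m ⊕ Fin m → F) = w i • Pi.single i 1 by
        rw [← Pi.single_smul, smul_eq_mul, mul_one], hDsmul]
      have : D (Pi.single i 1) = 0 := by
        have hd : r ⬝ᵥ Pi.single i 1 = r i := by simp
        simp only [D, hd, hr i]
        linear_combination (CharTwo.add_self_eq_zero (qv (A.1 *ᵥ Pi.single i 1)))
          + (CharTwo.add_self_eq_zero (qv (Pi.single i (1 : F))))
      rw [this, mul_zero]
    have hM : ∀ v, Cfsg.quadFormOdd m F (M *ᵥ v) = Cfsg.quadFormOdd m F v := fun v => by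
      rw [quad_eq, quad_eq]
      have h1 : (M *ᵥ v) (.inl ()) = v (.inl ()) + r ⬝ᵥ (v ∘ Sum.inr) := by
        simp [M, fromBlocks_mulVec, dotProduct, mulVec]
      have h2 : (M *ᵥ v) ∘ Sum.inr = A.1 *ᵥ (v ∘ Sum.inr) := by
        funext i; simp [M, fromBlocks_mulVec]
      rw [h1, h2, CharTwo.add_sq]
      have h3 : (r ⬝ᵥ (v ∘ Sum.inr)) ^ 2 + qv (A.1 *ᵥ (v ∘ Sum.inr)) + qv (v ∘ Sum.inr) = 0 := hD _
      linear_combination h3 - (CharTwo.add_self_eq_zero (qv (v ∘ Sum.inr)))
    have hdet : M.det ≠ 0 := by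
      simp [M, det_fromBlocks_zero₂₁, SymplecticGroup.det_eq_one A.2]
    exact ⟨⟨Matrix.GeneralLinearGroup.mkOfDetNeZero M hdet, fun u _ => hM u⟩, Subtype.ext (by
      show low M = A.1
      simp [low, M])⟩

/-- The isomorphism. -/
noncomputable def oddEquiv (m : ℕ) {F : Type*} [Field F] [Fintype F] [CharP F 2] :
    Cfsg.isometryGroup F (Cfsg.quadFormOdd m F) ≃* Matrix.symplecticGroup (Fin m) F :=
  MulEquiv.ofBijective (proj m F) proj_bijective


/-- In characteristic 2, O_{2m+1}(q) is isomorphic to Sp_{2m}(q). -/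
theorem result {F : Type*} [Field F] [Fintype F] [CharP F 2] (m : ℕ) : Nonempty (Cfsg.isometryGroup F (Cfsg.quadFormOdd m F) ≃* Matrix.symplecticGroup (Fin m) F) := by
  exact ⟨oddEquiv m⟩

end Cfsg.Agent.S0304
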