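import Cfsg.Statements.S0307

set_option autoImplicit false
open Cfsg

namespace Cfsg.Agent.S0307

/-- PSL_n(q) is normal in PGL_n(q) with cyclic quotient of order gcd(n, q-1): the image of the natural map PSL_n → PGL_n is the kernel of a surjective homomorphism onto the cyclic group of that order. -/
theorem result {F : Type*} [Field F] [Fintype F] {q : ℕ} (hF : Fintype.card F = q) (n : ℕ) (hn : 1 ≤ n) : ∃ g : Matrix.ProjGenLinGroup (Fin n) F →* Multiplicative (ZMod (Nat.gcd n (q - 1))), Function.Surjective g ∧ g.ker = (Matrix.ProjectiveSpecialLinearGroup.toPGL : Matrix.ProjectiveSpecialLinearGroup (Fin n) F →* Matrix.ProjGenLinGroup (Fin n) F).range := by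
  classical
  let P : Subgroup Fˣ := (powMonoidHom n : Fˣ →* Fˣ).range
  have hc : Nat.card (Fˣ ⧸ P) = Nat.gcd n (q - 1) := by
    have h1 := Subgroup.card_eq_card_quotient_mul_card_subgroup P
    rw [IsCyclic.card_powMonoidHom_range, Nat.card_units, Nat.card_eq_fintype_card, hF] at h1
    have hq : 1 < q := hF ▸ Fintype.one_lt_card
    have hg : 0 < Nat.gcd (q - 1) n := Nat.gcd_pos_of_pos_right _ hn
    obtain ⟨t, ht⟩ := Nat.gcd_dvd_left (q - 1) n
    set g := Nat.gcd (q - 1) n with hgdef
    rw [Nat.gcd_comm n (q - 1), ← hgdef]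
    rw [ht, Nat.mul_div_cancel_left _ hg] at h1
    have ht0 : 0 < t := by
      rcases Nat.eq_zero_or_pos t with h | h
      · rw [h, mul_zero] at ht; omega
      · exact h
    exact (Nat.eq_of_mul_eq_mul_right ht0 h1.symm)
  have : IsCyclic (Fˣ ⧸ P) := isCyclic_of_surjective _ (QuotientGroup.mk'_surjective P)
  let e : Fˣ ⧸ P ≃* Multiplicative (ZMod (Nat.gcd n (q - 1))) :=
    (zmodCyclicMulEquiv (G := Fˣ ⧸ P) inferInstance).symm.trans (hc ▸ MulEquiv.refl _)
  let f : Matrix.GeneralLinearGroup (Fin n) F →* Fˣ ⧸ P := (QuotientGroup.mk' P).comp Matrix.GeneralLinearGroup.det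
  have hfker : Subgroup.center (Matrix.GeneralLinearGroup (Fin n) F) ≤ f.ker := by
    intro z hz
    rw [Matrix.GeneralLinearGroup.center_eq_range_scalar] at hz
    obtain ⟨u, rfl⟩ := hz
    simp only [f, MonoidHom.mem_ker, MonoidHom.comp_apply, QuotientGroup.mk'_apply, QuotientGroup.eq_one_iff]
    exact ⟨u, Units.ext (by simp)⟩
  let f' : Matrix.ProjGenLinGroup (Fin n) F →* Fˣ ⧸ P := QuotientGroup.lift _ f hfker
  refine ⟨e.toMonoidHom.comp f', e.surjective.comp ?_, ?_⟩
  · intro y
    obtain ⟨u, rfl⟩ := QuotientGroup.mk'_surjective P y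
    have i0 : Fin n := ⟨0, hn⟩
    let M : Matrix.GeneralLinearGroup (Fin n) F := Matrix.GeneralLinearGroup.mkOfDetNeZero
      (Matrix.diagonal fun j => if j = i0 then (u : F) else 1) (by
        rw [Matrix.det_diagonal, Finset.prod_ite_eq' Finset.univ i0 (fun _ => (u : F))]; simp)
    refine ⟨Matrix.ProjGenLinGroup.mk M, congrArg (QuotientGroup.mk' P) (Units.ext ?_)⟩
    show Matrix.det (Matrix.diagonal _) = (u : F)
    rw [Matrix.det_diagonal, Finset.prod_ite_eq' Finset.univ i0 (fun _ => (u : F))]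
    simp
  · rw [show (e.toMonoidHom.comp f').ker = f'.ker by ext x; simp]
    apply le_antisymm
    · intro x hx
      induction x using Matrix.ProjGenLinGroup.induction_on with | mk g =>
      obtain ⟨r, hr⟩ := (QuotientGroup.eq_one_iff _).mp hx
      have hr' : (r : F) ^ n = g.1.det := by simpa using congrArg Units.val hr
      let S : Matrix.SpecialLinearGroup (Fin n) F := ⟨((r⁻¹ : Fˣ) : F) • g.1, by
        rw [Matrix.det_smul, Fintype.card_fin, ← hr', ← mul_pow, Units.inv_mul, one_pow]⟩
      refine ⟨QuotientGroup.mk S, ?_⟩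
      rw [Matrix.ProjectiveSpecialLinearGroup.toPGL_mk, Matrix.ProjGenLinGroup.mk_eq_mk_iff]
      refine ⟨r, Units.ext ?_⟩
      ext i j
      simp [S, Matrix.GeneralLinearGroup.coe_scalar]
      show (r : F)⁻¹ * g.1 i j * r = g.1 i j
      field_simp
    · rintro _ ⟨s, rfl⟩
      induction s using QuotientGroup.induction_on with | _ S =>
      rw [Matrix.ProjectiveSpecialLinearGroup.toPGL_mk]
      show (QuotientGroup.mk' P) _ = 1
      rw [show Matrix.GeneralLinearGroup.det (Matrix.SpecialLinearGroup.toGL S) = 1 from Units.ext S.2, map_one]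

end Cfsg.Agent.S0307
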