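import Cfsg.Statements.S0326
import Cfsg.Agent.Lib.SuzukiOvoid.Action

set_option autoImplicit false
open Cfsg
open scoped MatrixGroups Matrix Pointwise

namespace Cfsg.Agent.S0326

/-- The Suzuki–Tits ovoid over a finite field with `q` elements has `q² + 1` points. -/
theorem result {F : Type*} [Field F] [Fintype F] (m : ℕ) :
    Nat.card (Cfsg.suzukiOvoid F m) = Fintype.card F ^ 2 + 1 := by
  have h : Nat.card (Option (F × F)) = Nat.card (Cfsg.suzukiOvoid F m) := by
    refine Nat.card_eq_of_bijective (fun o => match o with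
      | none => (⟨_, CfsgLib.SuzukiOvoid.mem_ovoid_infinity⟩ : Cfsg.suzukiOvoid F m)
      | some p => ⟨_, CfsgLib.SuzukiOvoid.mem_ovoid_pt p.1 p.2⟩) ⟨?_, ?_⟩
    · rintro (_ | ⟨x, y⟩) (_ | ⟨x', y'⟩) h
      · rfl
      · exact absurd (congrArg Subtype.val h).symm (CfsgLib.SuzukiOvoid.mk_pt_ne_infinity _ _ _)
      · exact absurd (congrArg Subtype.val h) (CfsgLib.SuzukiOvoid.mk_pt_ne_infinity _ _ _)
      · obtain ⟨rfl, rfl⟩ := CfsgLib.SuzukiOvoid.mk_pt_inj (congrArg Subtype.val h)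
        rfl
    · rintro ⟨p, hp⟩
      rcases CfsgLib.SuzukiOvoid.mem_ovoid_cases hp with rfl | ⟨x, y, rfl⟩
      · exact ⟨none, rfl⟩
      · exact ⟨some (x, y), rfl⟩
  rw [← h, Finite.card_option, Nat.card_prod, Nat.card_eq_fintype_card, sq]

end Cfsg.Agent.S0326
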