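import Cfsg.Statements.S0327
import Cfsg.Agent.Lib.SuzukiOvoid.Action

set_option autoImplicit false
open Cfsg
open scoped MatrixGroups Matrix Pointwise

namespace Cfsg.Agent.S0327

/-- The Suzuki group (`m ≥ 1`) is a Zassenhaus group on the `q² + 1` points of the Suzuki–Tits ovoid. -/
theorem result {F : Type*} [Field F] [Fintype F] {m : ℕ} (hm : 1 ≤ m)
    (hF : Fintype.card F = 2 ^ (2 * m + 1)) :
    Cfsg.IsZassenhausGroup (Cfsg.Sz F m) (Cfsg.suzukiOvoid F m) := by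
  obtain ⟨_, ⟨P⟩⟩ := CfsgLib.SuzukiGroup.exists_params hF
  haveI := CfsgLib.SuzukiGroup.isSimple P (hF ▸ (CfsgLib.SuzukiOvoid.two_pow_bounds (m := m) hm).2.2)
  haveI hs : IsSimpleGroup ↥(Cfsg.Sz F m) := (CfsgLib.SuzukiOvoid.ovoidEquiv hm hF P).symm.isSimpleGroup
  have h2 : MulAction.IsMultiplyPretransitive ↥(Cfsg.Sz F m) ↥(Cfsg.suzukiOvoid F m) 2 := by
    rw [MulAction.is_two_pretransitive_iff]
    intro a b c d hab hcd
    obtain ⟨g, g1, g2⟩ := CfsgLib.SuzukiOvoid.exists_smul_pair hm hF P a.2 b.2 (fun h => hab (Subtype.ext h))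
    obtain ⟨k, k1, k2⟩ := CfsgLib.SuzukiOvoid.exists_smul_pair hm hF P c.2 d.2 (fun h => hcd (Subtype.ext h))
    refine ⟨k * g⁻¹, Subtype.ext ?_, Subtype.ext ?_⟩
    · show ((k : Matrix.SpecialLinearGroup (Fin 4) F) * (g : Matrix.SpecialLinearGroup (Fin 4) F)⁻¹) • (a : Projectivization F (Fin 4 → F)) = c
      rw [mul_smul, ← g1, inv_smul_smul, k1]
    · show ((k : Matrix.SpecialLinearGroup (Fin 4) F) * (g : Matrix.SpecialLinearGroup (Fin 4) F)⁻¹) • (b : Projectivization F (Fin 4 → F)) = d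
      rw [mul_smul, ← g2, inv_smul_smul, k2]
  have h3 : ∀ g : ↥(Cfsg.Sz F m), ∀ a b c : ↥(Cfsg.suzukiOvoid F m), a ≠ b → b ≠ c → a ≠ c →
      g • a = a → g • b = b → g • c = c → g = 1 := fun g a b c hab hbc hac ga gb gc =>
    CfsgLib.SuzukiOvoid.eq_one_of_three_fixed hm hF g a.2 b.2 c.2 (fun h => hab (Subtype.ext h))
      (fun h => hac (Subtype.ext h)) (fun h => hbc (Subtype.ext h))
      (congrArg Subtype.val ga) (congrArg Subtype.val gb) (congrArg Subtype.val gc)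
  let a₀ : ↥(Cfsg.suzukiOvoid F m) := ⟨_, CfsgLib.SuzukiOvoid.mem_ovoid_infinity⟩
  let b₀ : ↥(Cfsg.suzukiOvoid F m) := ⟨_, CfsgLib.SuzukiOvoid.mem_ovoid_zero⟩
  have hab : a₀ ≠ b₀ := fun h => CfsgLib.SuzukiOvoid.infinity_ne_zero (congrArg Subtype.val h)
  have h4 : ∃ g : ↥(Cfsg.Sz F m), g ≠ 1 ∧ ∃ a b : ↥(Cfsg.suzukiOvoid F m), a ≠ b ∧ g • a = a ∧ g • b = b := by
    haveI : Nontrivial Fˣ := Finite.one_lt_card_iff_nontrivial.1 (by
      rw [Nat.card_units, Nat.card_eq_fintype_card, hF]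
      have := (CfsgLib.SuzukiOvoid.two_pow_bounds (m := m) hm).2.2
      omega)
    obtain ⟨x, hx⟩ := exists_ne (1 : Fˣ)
    obtain ⟨hi, hz⟩ := (CfsgLib.SuzukiOvoid.mem_torus_iff_fix hm hF P _).1
      (CfsgLib.SuzukiGroup.dEl_mem_torus P x)
    refine ⟨CfsgLib.SuzukiOvoid.ovoidEquiv hm hF P (CfsgLib.SuzukiGroup.dEl P x), ?_, a₀, b₀, hab,
      Subtype.ext hi, Subtype.ext hz⟩
    rw [ne_eq, EmbeddingLike.map_eq_one_iff, CfsgLib.SuzukiGroup.dEl_eq_one]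
    exact hx
  refine ⟨⟨fun {g k} hgk => ?_⟩, h2, h3, h4, fun N hN hNt => ?_⟩
  · have hone : ∀ a : ↥(Cfsg.suzukiOvoid F m), (k⁻¹ * g) • a = a := fun a => by
      rw [mul_smul, hgk a, inv_smul_smul]
    let c₀ : ↥(Cfsg.suzukiOvoid F m) := ⟨_, CfsgLib.SuzukiOvoid.mem_ovoid_pt (1 : F) 0⟩
    refine (inv_mul_eq_one.1 (h3 _ a₀ b₀ c₀ hab ?_ ?_ (hone _) (hone _) (hone _))).symm
    · intro h
      have h' : Cfsg.suzukiPointZero F = _ := congrArg Subtype.val h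
      rw [CfsgLib.SuzukiOvoid.suzukiPointZero_eq (m := m)] at h'
      exact zero_ne_one (CfsgLib.SuzukiOvoid.mk_pt_inj h').1
    · exact fun h => CfsgLib.SuzukiOvoid.mk_pt_ne_infinity _ _ _ (congrArg Subtype.val h).symm
  · rcases hN.eq_bot_or_eq_top with rfl | rfl
    · obtain ⟨⟨n, hn⟩, hn'⟩ := hNt.exists_smul_eq a₀ b₀
      rw [Subgroup.mem_bot] at hn
      subst hn
      exact absurd ((one_smul ↥(Cfsg.Sz F m) a₀).symm.trans hn') hab
    · obtain ⟨g, hg, a, b, -, ga, -⟩ := h4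
      refine ⟨a, fun hbot => hg ?_⟩
      have hmem : (⟨g, Subgroup.mem_top g⟩ : (⊤ : Subgroup ↥(Cfsg.Sz F m))) ∈
          MulAction.stabilizer (⊤ : Subgroup ↥(Cfsg.Sz F m)) a := ga
      rw [hbot, Subgroup.mem_bot] at hmem
      exact congrArg Subtype.val hmem

end Cfsg.Agent.S0327
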