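import Cfsg.Statements.S0328
import Cfsg.Agent.Lib.SuzukiOvoid.Action

set_option autoImplicit false
open Cfsg
open scoped MatrixGroups Matrix Pointwise

namespace Cfsg.Agent.S0328

/-- The stabiliser in the Suzuki group of the two ovoid points spanned by `(1,0,0,0)` and `(0,0,0,1)` is
isomorphic to the multiplicative group of the field (cyclic of order `q - 1`). -/
theorem result {F : Type*} [Field F] [Fintype F] {m : ℕ} (hm : 1 ≤ m)
    (hF : Fintype.card F = 2 ^ (2 * m + 1)) :
    Nonempty (↥(MulAction.stabilizer (Cfsg.Sz F m) (Cfsg.suzukiPointInfinity F) ⊓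
        MulAction.stabilizer (Cfsg.Sz F m) (Cfsg.suzukiPointZero F)) ≃* Fˣ) := by
  obtain ⟨_, ⟨P⟩⟩ := CfsgLib.SuzukiGroup.exists_params hF
  set ψ := CfsgLib.SuzukiOvoid.ovoidEquiv hm hF P with hψ
  have h : (CfsgLib.SuzukiGroup.torus P).map ψ.toMonoidHom =
      MulAction.stabilizer (Cfsg.Sz F m) (Cfsg.suzukiPointInfinity F) ⊓
        MulAction.stabilizer (Cfsg.Sz F m) (Cfsg.suzukiPointZero F) := by
    ext g
    obtain ⟨k, rfl⟩ := ψ.surjective g
    rw [Subgroup.mem_map_equiv, MulEquiv.symm_apply_apply, Subgroup.mem_inf,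
      MulAction.mem_stabilizer_iff, MulAction.mem_stabilizer_iff]
    exact CfsgLib.SuzukiOvoid.mem_torus_iff_fix hm hF P k
  exact ⟨((MulEquiv.subgroupCongr h).symm.trans (ψ.subgroupMap _).symm).trans
    (CfsgLib.SuzukiGroup.torusEquiv P).symm⟩

end Cfsg.Agent.S0328
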