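import Cfsg.Statements.S0329
import Cfsg.Agent.Lib.SuzukiOvoid.Action

set_option autoImplicit false
open Cfsg
open scoped MatrixGroups Matrix Pointwise

namespace Cfsg.Agent.S0329

/-- The stabiliser in the Suzuki group of the ovoid point spanned by `(1,0,0,0)` has order `q² (q - 1)`. -/
theorem result {F : Type*} [Field F] [Fintype F] {m : ℕ} (hm : 1 ≤ m)
    (hF : Fintype.card F = 2 ^ (2 * m + 1)) :
    Nat.card (MulAction.stabilizer (Cfsg.Sz F m) (Cfsg.suzukiPointInfinity F)) =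
      (2 ^ (2 * m + 1)) ^ 2 * (2 ^ (2 * m + 1) - 1) := by
  obtain ⟨_, ⟨P⟩⟩ := CfsgLib.SuzukiGroup.exists_params hF
  set ψ := CfsgLib.SuzukiOvoid.ovoidEquiv hm hF P with hψ
  have h : (CfsgLib.SuzukiGroup.borel (F := F) (e := 2 ^ (m + 1))).map ψ.toMonoidHom =
      MulAction.stabilizer (Cfsg.Sz F m) (Cfsg.suzukiPointInfinity F) := by
    ext g
    obtain ⟨k, rfl⟩ := ψ.surjective g
    rw [Subgroup.mem_map_equiv, MulEquiv.symm_apply_apply, MulAction.mem_stabilizer_iff]
    exact (CfsgLib.SuzukiOvoid.smul_infinity_eq_iff hm hF P k).symm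
  rw [← h, Subgroup.card_map_of_injective (f := ψ.toMonoidHom) ψ.injective, CfsgLib.SuzukiGroup.card_borel P, hF]

end Cfsg.Agent.S0329
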