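import Cfsg.Statements.S0330
import Cfsg.Agent.Lib.SuzukiOvoid.Action

set_option autoImplicit false
open Cfsg
open scoped MatrixGroups Matrix commutatorElement

namespace Cfsg.Agent.S0330

open CfsgLib.SuzukiGroup in
lemma core {F : Type*} [Field F] [Fintype F] [CharP F 2] {e : ℕ} (P : Params F e) (hq : 2 < Fintype.card F) :
    Monoid.exponent ↥(unip P) = 4 ∧ Subgroup.center ↥(unip P) = commutator ↥(unip P) ∧
      Nat.card (Subgroup.center ↥(unip P)) = Fintype.card F := by
  have hmemc : ∀ a b : F, (⟨uEl P a b, a, b, rfl⟩ : ↥(unip P)) ∈ Subgroup.center ↥(unip P) ↔ a = 0 := by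
    intro a b
    rw [Subgroup.mem_center_iff]
    constructor
    · intro h
      have hc : ∀ c : F, c * P.θ a = a * P.θ c := fun c =>
        (uEl_comm_iff P c 0 a b).1 (congrArg Subtype.val (h ⟨uEl P c 0, c, 0, rfl⟩))
      have h1 := hc 1
      rw [one_mul, map_one, mul_one] at h1
      rcases theta_fix P h1 with h0 | h0
      · exact h0
      exfalso
      subst h0
      haveI : Nontrivial Fˣ := Finite.one_lt_card_iff_nontrivial.1 (by
        rw [Nat.card_units, Nat.card_eq_fintype_card]; omega)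
      obtain ⟨x, hx⟩ := exists_ne (1 : Fˣ)
      have h2 := hc x
      rw [map_one, mul_one, one_mul] at h2
      rcases theta_fix P h2.symm with h | h
      · exact x.ne_zero h
      · exact hx (Units.ext h)
    · rintro rfl ⟨_, c, d, rfl⟩
      exact Subtype.ext ((uEl_comm_iff P c d 0 b).2 (by simp))
  have hcard : Nat.card (Subgroup.center ↥(unip P)) = Fintype.card F := by
    rw [← Nat.card_eq_fintype_card]
    refine (Nat.card_eq_of_bijective
      (fun b : F => (⟨⟨uEl P 0 b, 0, b, rfl⟩, (hmemc 0 b).2 rfl⟩ : Subgroup.center ↥(unip P))) ⟨?_, ?_⟩).symm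
    · intro b b' h
      exact (uEl_inj P (congrArg Subtype.val (congrArg Subtype.val h))).2
    · rintro ⟨⟨_, a, b, rfl⟩, hu⟩
      obtain rfl := (hmemc a b).1 hu
      exact ⟨b, rfl⟩
  refine ⟨?_, le_antisymm ?_ ?_, hcard⟩
  · refine Nat.dvd_antisymm (Monoid.exponent_dvd_of_forall_pow_eq_one fun u => ?_) ?_
    · obtain ⟨_, a, b, rfl⟩ := u
      refine Subtype.ext ?_
      show uEl P a b ^ (2 * 2) = 1
      rw [pow_mul, uEl_sq, uEl_sq, zero_mul, uEl_zero]
    · have h := Monoid.order_dvd_exponent (⟨uEl P 1 0, 1, 0, rfl⟩ : ↥(unip P))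
      rwa [← Subgroup.orderOf_coe, orderOf_uEl P 0 one_ne_zero] at h
  · rintro ⟨_, a, z, rfl⟩ hu
    obtain rfl := (hmemc a z).1 hu
    rcases eq_or_ne z 0 with rfl | hz
    · convert one_mem (commutator ↥(unip P))
      exact Subtype.ext (uEl_zero P)
    haveI : Nontrivial Fˣ := Finite.one_lt_card_iff_nontrivial.1 (by
      rw [Nat.card_units, Nat.card_eq_fintype_card]; omega)
    obtain ⟨t, ht⟩ := exists_ne (1 : Fˣ)
    have hT : (t : F) + P.θ (t : F) ≠ 0 := fun h => by
      rcases theta_fix P (CharTwo.add_eq_zero.1 h).symm with h' | h'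
      · exact t.ne_zero h'
      · exact ht (Units.ext h')
    have hinj : Function.Injective (fun x : Fˣ => x * Units.map P.θ.toMonoidHom x) := by
      intro x y h
      have h' : ((x / y : Fˣ) : F) * P.θ ((x / y : Fˣ) : F) = 1 := by
        have h0 : (x : F) * P.θ x = y * P.θ y := congrArg Units.val h
        rw [Units.val_div_eq_div_val, map_div₀, div_mul_div_comm, h0, div_self (by simp)]
      have hs : ((x / y : Fˣ) : F) = 1 := by
        have h2 := congrArg P.θ h'
        rw [map_mul, P.sq, map_one] at h2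
        set w := ((x / y : Fˣ) : F)
        have : w * w * P.θ w = w * P.θ w := by rw [h']; linear_combination h2
        rw [mul_assoc] at this
        exact mul_right_cancel₀ (by rw [h']; exact one_ne_zero) (this.trans (one_mul _).symm)
      exact div_eq_one.1 (Units.ext hs)
    obtain ⟨l, hl⟩ := (Finite.injective_iff_bijective.1 hinj).2
      (Units.mk0 (z / ((t : F) + P.θ (t : F))) (div_ne_zero hz hT))
    have hl' : (l : F) * P.θ l = z / ((t : F) + P.θ (t : F)) := congrArg Units.val hl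
    have hcm := Subgroup.commutator_mem_commutator
      (Subgroup.mem_top (⟨uEl P (l : F) 0, _, _, rfl⟩ : ↥(unip P)))
      (Subgroup.mem_top (⟨uEl P ((l : F) * t) 0, _, _, rfl⟩ : ↥(unip P)))
    rw [← commutator_def] at hcm
    convert hcm using 1
    refine Subtype.ext ?_
    simp only [commutatorElement_def, Subgroup.coe_mul, Subgroup.coe_inv, uEl_inv, uEl_mul]
    congr 1
    · linear_combination (-(l : F) * t - l) * (CharTwo.two_eq_zero (R := F))
    · have hzz : z = (l : F) * P.θ l * ((t : F) + P.θ (t : F)) := by rw [hl', div_mul_cancel₀ z hT]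
      simp only [map_mul, map_add, hzz]
      linear_combination (norm := ring_nf) (0 : F) * (CharTwo.two_eq_zero (R := F))
      grind
  · rw [commutator_def, Subgroup.commutator_le]
    rintro ⟨_, a, b, rfl⟩ - ⟨_, c, d, rfl⟩ -
    have e0 : (⟨uEl P (a + c + a + c)
        ((b + d + a * P.θ c + (b + a * P.θ a) + (a + c) * P.θ a) + (d + c * P.θ c) + (a + c + a) * P.θ c),
        _, _, rfl⟩ : ↥(unip P)) =
        ⁅(⟨uEl P a b, a, b, rfl⟩ : ↥(unip P)), (⟨uEl P c d, c, d, rfl⟩ : ↥(unip P))⁆ :=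
      Subtype.ext (by simp only [commutatorElement_def, Subgroup.coe_mul, Subgroup.coe_inv, uEl_inv, uEl_mul])
    rw [← e0, hmemc]
    grind


/-- A Sylow 2-subgroup `P` of the Suzuki group (field with `q = 2^(2m+1)` elements, `m ≥ 1`) has order `q²` and
exponent `4`; its centre coincides with its commutator subgroup and has order `q`. -/
theorem result {F : Type*} [Field F] [Fintype F] {m : ℕ} (hm : 1 ≤ m)
    (hF : Fintype.card F = 2 ^ (2 * m + 1)) (P : Sylow 2 (Cfsg.Sz F m)) :
    Nat.card P = (2 ^ (2 * m + 1)) ^ 2 ∧ Monoid.exponent P = 4 ∧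
      Subgroup.center P = commutator P ∧ Nat.card (Subgroup.center P) = 2 ^ (2 * m + 1) := by
  obtain ⟨_, ⟨Q⟩⟩ := CfsgLib.SuzukiGroup.exists_params hF
  obtain ⟨c, hc⟩ := CfsgLib.SuzukiOvoid.exists_conj_map_unip hm hF Q P
  obtain ⟨h1, h2, h3⟩ := core Q (hF ▸ (CfsgLib.SuzukiOvoid.two_pow_bounds (m := m) hm).2.2)
  let ψ : ↥(Cfsg.Lie.Sz F (2 ^ (m + 1))) ≃* ↥(Cfsg.Sz F m) :=
    (CfsgLib.SuzukiOvoid.ovoidEquiv hm hF Q).trans (MulAut.conj c)
  let e : ↥(CfsgLib.SuzukiGroup.unip Q) ≃* ↥(P : Subgroup ↥(Cfsg.Sz F m)) :=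
    (ψ.subgroupMap _).trans (MulEquiv.subgroupCongr hc.symm)
  have hcen : (Subgroup.center ↥(CfsgLib.SuzukiGroup.unip Q)).map e.toMonoidHom =
      Subgroup.center ↥(P : Subgroup ↥(Cfsg.Sz F m)) := by
    ext x
    rw [Subgroup.mem_map_equiv, Subgroup.mem_center_iff, Subgroup.mem_center_iff]
    constructor
    · intro h y
      simpa using congrArg e (h (e.symm y))
    · intro h y
      have := congrArg e.symm (h (e y))
      simpa using this
  have hcom : (commutator ↥(CfsgLib.SuzukiGroup.unip Q)).map e.toMonoidHom =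
      commutator ↥(P : Subgroup ↥(Cfsg.Sz F m)) := by
    rw [commutator_def, Subgroup.map_commutator, Subgroup.map_top_of_surjective _ e.surjective]
    rfl
  refine ⟨?_, ?_, ?_, ?_⟩
  · rw [show Nat.card P = Nat.card ↥(CfsgLib.SuzukiGroup.unip Q) from (Nat.card_congr e.toEquiv).symm,
      CfsgLib.SuzukiGroup.card_unip, hF]
  · exact (Monoid.exponent_eq_of_mulEquiv e).symm.trans h1
  · show Subgroup.center ↥(P : Subgroup ↥(Cfsg.Sz F m)) = commutator ↥(P : Subgroup ↥(Cfsg.Sz F m))
    rw [← hcen, ← hcom, h2]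
  · show Nat.card (Subgroup.center ↥(P : Subgroup ↥(Cfsg.Sz F m))) = _
    rw [← hcen, Subgroup.card_map_of_injective (f := e.toMonoidHom) e.injective, h3, hF]

end Cfsg.Agent.S0330
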