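import Cfsg.Statements.S0331
import Cfsg.Agent.Lib.SuzukiOvoid.Tori

set_option autoImplicit false
open Cfsg
open scoped MatrixGroups Matrix

namespace Cfsg.Agent.S0331

/-- For every odd prime `p` the Sylow `p`-subgroups of the Suzuki group are cyclic. -/
theorem result {F : Type*} [Field F] [Fintype F] {m : ℕ} (hm : 1 ≤ m)
    (hF : Fintype.card F = 2 ^ (2 * m + 1)) {p : ℕ} [Fact p.Prime] (hp : p ≠ 2)
    (P : Sylow p (Cfsg.Sz F m)) : IsCyclic P := by
  rcases subsingleton_or_nontrivial ↥(P : Subgroup ↥(Cfsg.Sz F m)) with h | h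
  · exact inferInstanceAs (IsCyclic ↥(P : Subgroup ↥(Cfsg.Sz F m)))
  haveI := P.2.center_nontrivial
  obtain ⟨⟨z, hzc⟩, hz⟩ := exists_ne (1 : ↥(Subgroup.center ↥(P : Subgroup ↥(Cfsg.Sz F m))))
  have hz1 : (z : ↥(Cfsg.Sz F m)) ≠ 1 := fun e => hz (Subtype.ext (Subtype.ext e))
  rcases CfsgLib.SuzukiOvoid.element_cases hm hF hz1 with h4 | ⟨hc, -⟩
  · exfalso
    obtain ⟨k, hk⟩ := P.2 z
    rw [← orderOf_dvd_iff_pow_eq_one, ← Subgroup.orderOf_coe] at hk
    refine hz1 (orderOf_eq_one_iff.1 (Nat.eq_one_of_dvd_coprimes ?_ hk h4))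
    rw [show 4 = 2 ^ 2 from rfl]
    exact Nat.Coprime.pow _ _ ((Nat.coprime_primes Fact.out Nat.prime_two).2 hp)
  · rw [Subgroup.mem_center_iff] at hzc
    have hle : (P : Subgroup ↥(Cfsg.Sz F m)) ≤ Subgroup.centralizer {(z : ↥(Cfsg.Sz F m))} := fun x hx =>
      Subgroup.mem_centralizer_singleton_iff.2 (congrArg Subtype.val (hzc ⟨x, hx⟩))
    haveI := hc
    exact isCyclic_of_injective (Subgroup.inclusion hle) (Subgroup.inclusion_injective hle)

end Cfsg.Agent.S0331
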