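import Cfsg.Statements.S0332
import Cfsg.Agent.Lib.SuzukiOvoid.Tori

set_option autoImplicit false
open Cfsg
open scoped MatrixGroups Matrix

namespace Cfsg.Agent.S0332

/-- The Suzuki group is a CN-group: every non-identity element has nilpotent centraliser. -/
theorem result {F : Type*} [Field F] [Fintype F] {m : ℕ} (hm : 1 ≤ m)
    (hF : Fintype.card F = 2 ^ (2 * m + 1)) : Cfsg.IsCNGroup (Cfsg.Sz F m) := by
  intro g hg
  haveI : Fact (Nat.Prime 2) := ⟨Nat.prime_two⟩
  rcases CfsgLib.SuzukiOvoid.element_cases hm hF hg with h4 | ⟨hc, -⟩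
  · obtain ⟨j, -, hj⟩ := (Nat.dvd_prime_pow Nat.prime_two).1 (show orderOf g ∣ 2 ^ 2 from h4)
    obtain ⟨S, hS⟩ := (IsPGroup.of_card (p := 2) (G := ↥(Subgroup.zpowers g)) (n := j)
      (by rw [Nat.card_zpowers, hj])).exists_le_sylow
    exact (S.2.to_le (CfsgLib.SuzukiOvoid.centralizer_le_sylow hm hF hg S
      (hS (Subgroup.mem_zpowers g))).1).isNilpotent
  · haveI := hc
    letI := IsCyclic.commGroup (α := ↥(Subgroup.centralizer {g}))
    exact CommGroup.isNilpotent

end Cfsg.Agent.S0332
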