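import Cfsg.Statements.S0333
import Cfsg.Agent.Lib.SuzukiOvoid.Tori

set_option autoImplicit false
open Cfsg
open scoped MatrixGroups Matrix

namespace Cfsg.Agent.S0333

/-- With `q = 2^(2m+1)` and `r = 2^m`, the Suzuki group has cyclic subgroups of orders `q + 2r + 1` and
`q - 2r + 1`; each is the centraliser of each of its non-identity elements and has index `4` in its normaliser. -/
theorem result {F : Type*} [Field F] [Fintype F] {m : ℕ} (hm : 1 ≤ m)
    (hF : Fintype.card F = 2 ^ (2 * m + 1)) :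
    ∀ k ∈ ({2 ^ (2 * m + 1) + 2 ^ (m + 1) + 1, 2 ^ (2 * m + 1) - 2 ^ (m + 1) + 1} : Set ℕ),
      ∃ U : Subgroup (Cfsg.Sz F m), IsCyclic U ∧ Nat.card U = k ∧
        (∀ u ∈ U, u ≠ 1 → Subgroup.centralizer {u} = U) ∧ Nat.card (Subgroup.normalizer (U : Set (Cfsg.Sz F m))) = 4 * k := by
  obtain ⟨_, ⟨P⟩⟩ := CfsgLib.SuzukiGroup.exists_params hF
  obtain ⟨a, b, ha, hb, hca, hcb⟩ := CfsgLib.SuzukiGroup.exists_torus_pair P hF hm
  have key : ∀ g : ↥(Cfsg.Lie.Sz F (2 ^ (m + 1))), CfsgLib.SuzukiGroup.FPF g →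
      ∃ U : Subgroup (Cfsg.Sz F m), IsCyclic U ∧ Nat.card U = Nat.card ↥(Subgroup.centralizer {g}) ∧
        (∀ u ∈ U, u ≠ 1 → Subgroup.centralizer {u} = U) ∧
        Nat.card (Subgroup.normalizer (U : Set (Cfsg.Sz F m))) = 4 * Nat.card ↥(Subgroup.centralizer {g}) := by
    intro g hg
    set ψ := CfsgLib.SuzukiOvoid.ovoidEquiv hm hF P
    refine ⟨(Subgroup.centralizer {g}).map ψ.toMonoidHom, ?_, ?_, ?_, ?_⟩
    · haveI := CfsgLib.SuzukiGroup.fpf_isCyclic P hF hm hg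
      exact isCyclic_of_surjective (ψ.subgroupMap _).toMonoidHom (MulEquiv.surjective _)
    · rw [Subgroup.card_map_of_injective (f := ψ.toMonoidHom) ψ.injective]
    · rintro _ ⟨u, hu, rfl⟩ hu1
      rw [show ψ.toMonoidHom u = ψ u from rfl, ← CfsgLib.SuzukiOvoid.centralizer_map_equiv,
        CfsgLib.SuzukiGroup.fpf_centralizer_eq P hF hm hg hu
          (fun h => hu1 (by rw [h, map_one]))]
    · rw [← Subgroup.map_equiv_normalizer_eq, Subgroup.card_map_of_injective (f := ψ.toMonoidHom) ψ.injective,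
        CfsgLib.SuzukiGroup.fpf_card_normalizer P hF hm hg]
  intro k hk
  rcases hk with rfl | rfl
  · obtain ⟨U, h1, h2, h3, h4⟩ := key a ha
    exact ⟨U, h1, h2.trans hca, h3, h4.trans (by rw [hca]; rfl)⟩
  · obtain ⟨U, h1, h2, h3, h4⟩ := key b hb
    exact ⟨U, h1, h2.trans hcb, h3, h4.trans (by rw [hcb]; rfl)⟩

end Cfsg.Agent.S0333
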