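import Cfsg.Statements.S0335
import Cfsg.Agent.Lib.SuzukiOvoid.Action

set_option autoImplicit false
open Cfsg
open scoped MatrixGroups Matrix Pointwise

namespace Cfsg.Agent.S0335

/-- The Suzuki–Tits point set is an ovoid: any three distinct points of it are projectively independent
(no line of projective 3-space meets it in more than two points). -/
theorem result {F : Type*} [Field F] [Fintype F] {m : ℕ} (hm : 1 ≤ m)
    (hF : Fintype.card F = 2 ^ (2 * m + 1)) (p : Fin 3 ↪ Cfsg.suzukiOvoid F m) :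
    Projectivization.Independent (fun i => (p i : Projectivization F (Fin 4 → F))) := by
  obtain ⟨_, ⟨P⟩⟩ := CfsgLib.SuzukiGroup.exists_params hF
  have hne : ∀ i j, i ≠ j → (p i : Projectivization F (Fin 4 → F)) ≠ p j :=
    fun i j hij h => hij (p.injective (Subtype.ext h))
  obtain ⟨c, h0, h1⟩ := CfsgLib.SuzukiOvoid.exists_smul_pair hm hF P (p 0).2 (p 1).2 (hne 0 1 (by decide))
  set r := (c : Matrix.SpecialLinearGroup (Fin 4) F)⁻¹ • (p 2 : Projectivization F (Fin 4 → F)) with hr
  have hr' : r ∈ Cfsg.suzukiOvoid F m := by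
    have h := Set.smul_mem_smul_set (a := (c : Matrix.SpecialLinearGroup (Fin 4) F)⁻¹) (p 2).2
    rwa [show (c : Matrix.SpecialLinearGroup (Fin 4) F)⁻¹ • Cfsg.suzukiOvoid F m =
      Cfsg.suzukiOvoid F m from (c⁻¹).2] at h
  rcases CfsgLib.SuzukiOvoid.mem_ovoid_cases hr' with h | ⟨x, y, h⟩
  · exact absurd (h0.symm.trans (inv_smul_eq_iff.1 h).symm) (hne 0 2 (by decide))
  have hxy : ¬ (y = 0 ∧ x = 0) := by
    rintro ⟨rfl, rfl⟩
    rw [← CfsgLib.SuzukiOvoid.suzukiPointZero_eq] at h
    exact hne 1 2 (by decide) (h1.symm.trans (inv_smul_eq_iff.1 h).symm)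
  let v : Fin 3 → Fin 4 → F := ![![1, 0, 0, 0], ![0, 0, 0, 1], CfsgLib.SuzukiOvoid.pt (2 ^ (m + 1)) x y]
  have hv : LinearIndependent F v := by
    rw [Fintype.linearIndependent_iff]
    intro w hw i
    have e0 := congrFun hw 0
    have e1 := congrFun hw 1
    have e2 := congrFun hw 2
    have e3 := congrFun hw 3
    simp [v, Fin.sum_univ_three, CfsgLib.SuzukiOvoid.pt] at e0 e1 e2 e3
    have hw2 : w 2 = 0 := by tauto
    fin_cases i <;> simp_all
  rw [Projectivization.independent_iff]
  set M : Matrix (Fin 4) (Fin 4) F := ((c : Matrix.SpecialLinearGroup (Fin 4) F) : Matrix (Fin 4) (Fin 4) F)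
  have hM : Function.Injective (Matrix.mulVecLin M) := by
    intro a b hab
    have : M.det ≠ 0 := by rw [(c : Matrix.SpecialLinearGroup (Fin 4) F).2]; exact one_ne_zero
    exact sub_eq_zero.1 (Matrix.eq_zero_of_mulVec_eq_zero this
      (by rw [Matrix.mulVec_sub]; exact sub_eq_zero.2 hab))
  have hMv := hv.map' (Matrix.mulVecLin M) (LinearMap.ker_eq_bot.2 hM)
  have key : ∀ i : Fin 3, ∃ a : Fˣ, ((p i : Projectivization F (Fin 4 → F))).rep = a • (M *ᵥ v i) := by
    intro i
    have hi : (p i : Projectivization F (Fin 4 → F)) = (c : Matrix.SpecialLinearGroup (Fin 4) F) •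
        Projectivization.mk F (v i) (hv.ne_zero i) := by
      fin_cases i
      · exact h0.symm
      · exact h1.symm
      · exact (inv_smul_eq_iff.1 h)
    rw [Projectivization.smul_mk] at hi
    have h2 := (Projectivization.mk_rep (p i : Projectivization F (Fin 4 → F))).trans hi
    obtain ⟨a, ha⟩ := (Projectivization.mk_eq_mk_iff F _ _ _ _).1 h2
    exact ⟨a, ha.symm⟩
  choose a ha using key
  have : (fun i => ((p i : Projectivization F (Fin 4 → F))).rep) = a • (fun i => M *ᵥ v i) := funext ha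
  rw [Function.comp_def, this]
  exact hMv.units_smul a

end Cfsg.Agent.S0335
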