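import Cfsg.Statements.S0343
import Cfsg.Agent.Lib.ReeOrder.Main
import Cfsg.Agent.Lib.JankoThompson.Even
import Cfsg.Agent.Lib.ReeOrder.Small.Reduce

set_option autoImplicit false
open Cfsg

namespace Cfsg.Agent.S0343

open CfsgLib.ReeOrder CfsgLib.ReeType

/-- If a finite simple group has abelian Sylow `2`-subgroups and an involution whose centraliser is isomorphic to
`Z₂ × PSL₂(F)` with `|F| = q ≥ 3`, then either `q = 3^(2m+1)` with `m ≥ 1` and the group has the small-Ree order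
`q³(q³+1)(q-1)`, or `q = 4` or `q = 5` and the group is simple of the order of the smallest Janko group. -/
theorem result {G : Type*} [Group G] [Finite G]
    [IsSimpleGroup G] (hab : ∀ P : Sylow 2 G, ∀ a b : P, a * b = b * a)
    {F : Type*} [Field F] [Fintype F] (hq : 3 ≤ Fintype.card F) (t : G) (ht : orderOf t = 2)
    (hC : Nonempty (Subgroup.centralizer ({t} : Set G) ≃* Multiplicative (ZMod 2) × Matrix.ProjectiveSpecialLinearGroup (Fin 2) F)) :
    (∃ m : ℕ, 1 ≤ m ∧ Fintype.card F = 3 ^ (2 * m + 1) ∧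
        Nat.card G = (3 ^ (2 * m + 1)) ^ 3 * ((3 ^ (2 * m + 1)) ^ 3 + 1) * (3 ^ (2 * m + 1) - 1)) ∨
      ((Fintype.card F = 4 ∨ Fintype.card F = 5) ∧ Cfsg.IsJ1 G) := by
  by_cases h45 : Fintype.card F = 4 ∨ Fintype.card F = 5
  · exact Or.inr ⟨h45, CfsgLib.JankoThompson.four_five hab h45 t ht hC⟩
  left
  have h4 : Fintype.card F ≠ 4 := fun h => h45 (Or.inl h)
  have h5 : Fintype.card F ≠ 5 := fun h => h45 (Or.inr h)
  by_cases h3 : Fintype.card F = 3
  · exact (CfsgLib.JankoThompson.three hab h3 t ht hC).elim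
  by_cases h2 : Fintype.card F % 2 = 0
  · obtain ⟨p, n, hp, hn⟩ : ∃ p n : ℕ, p.Prime ∧ Fintype.card F = p ^ n := by
      obtain ⟨p, hp⟩ := CharP.exists F
      obtain ⟨n, hpp, hn⟩ := FiniteField.card F p
      exact ⟨p, n, hpp, hn⟩
    have hp2 : p = 2 := by
      have : 2 ∣ p ^ n := hn ▸ Nat.dvd_of_mod_eq_zero h2
      exact ((Nat.prime_dvd_prime_iff_eq Nat.prime_two hp).1 (Nat.prime_two.dvd_of_dvd_pow this)).symm
    subst hp2
    refine (CfsgLib.JankoThompson.even hab (n := n) ?_ hn t ht hC).elim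
    rcases n with _ | _ | _ | n
    · simp at hn; omega
    · simp at hn; omega
    · simp at hn; omega
    · omega
  by_cases h17 : Fintype.card F % 8 = 1 ∨ Fintype.card F % 8 = 7
  · exact (CfsgLib.ReeOrder.Small.q_mod_one_seven hab h17 t hC).elim
  obtain ⟨F', _, _, _, hcard, ⟨E⟩⟩ := CfsgLib.ReeOrder.Small.exists_centData (by omega) t ht hC
  haveI := Fintype.ofFinite G
  have K : Conf t F' := ⟨E, inferInstance, hab, by rw [hcard]; omega, by rw [hcard]; omega⟩
  obtain ⟨m, hm, hm', hG⟩ := K.order_eq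
  exact ⟨m, hm, hcard ▸ hm', hG⟩

end Cfsg.Agent.S0343
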