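import Cfsg.Statements.S0353
import Cfsg.Agent.Lib.Steiner.WittUnique
import Cfsg.Agent.Lib.Golay.Code
-- import your own Cfsg.Agent.* helpers here

set_option autoImplicit false
open Cfsg

namespace Cfsg.Agent.S0353

/-- In an S(5, 8, 24), the symmetric difference of two blocks meeting in four points is a block. -/
theorem result {α : Type*} [Fintype α] [DecidableEq α] (hα : Fintype.card α = 24) {B : Set (Finset α)} (hB : Cfsg.IsSteinerSystem 5 8 B) {b c : Finset α} (hb : b ∈ B) (hc : c ∈ B) (h4 : (b ∩ c).card = 4) : symmDiff b c ∈ B := by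
  obtain ⟨e, he⟩ := CfsgLib.Steiner.Witt.iso_octads hα hB
  have hb' : b.image e ∈ Cfsg.octads := he ▸ ⟨b, hb, rfl⟩
  have hc' : c.image e ∈ Cfsg.octads := he ▸ ⟨c, hc, rfl⟩
  have himg : (symmDiff b c).image e ∈ Cfsg.octads := by
    rw [Finset.image_symmDiff _ _ e.injective]
    refine ⟨CfsgLib.Golay.symmDiff_mem_supports hb'.1 hc'.1, ?_⟩
    have h := CfsgLib.Golay.card_symmDiff_add (b.image e) (c.image e)
    rw [← Finset.image_inter _ _ e.injective, Finset.card_image_of_injective _ e.injective, h4,
      hb'.2, hc'.2] at h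
    omega
  rw [← he] at himg
  obtain ⟨x, hx, hxe⟩ := himg
  rwa [← Finset.image_injective e.injective hxe]

end Cfsg.Agent.S0353
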