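import Cfsg.Statements.S0354
import Cfsg.Agent.Lib.Steiner.Inter
-- import your own Cfsg.Agent.* helpers here

set_option autoImplicit false
open Cfsg

namespace Cfsg.Agent.S0354

/-- In an S(5, 8, 24), each block is disjoint from exactly 30 blocks. -/
theorem result {α : Type*} [Fintype α] [DecidableEq α] (hα : Fintype.card α = 24) {B : Set (Finset α)} (hB : Cfsg.IsSteinerSystem 5 8 B) {b : Finset α} (hb : b ∈ B) : {c : Finset α | c ∈ B ∧ Disjoint b c}.ncard = 30 := by
  have key : ∀ i, i ≤ 5 → ∑ j ∈ Finset.range 5, CfsgLib.Steiner.meetCount B b j * j.choose i =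
      Nat.choose 8 i * ([759, 253, 77, 21, 5, 1].getD i 0 - 1) := fun i hi =>
    CfsgLib.Steiner.sum_meetCount hB hb fun I hI => by
      rw [CfsgLib.Combin.SteinerCount.card_blocksThrough_five_eight hα hB I (hI ▸ hi), hI]
  have h0 := key 0 (by norm_num)
  have h1 := key 1 (by norm_num)
  have h2 := key 2 (by norm_num)
  have h3 := key 3 (by norm_num)
  have h4 := key 4 (by norm_num)
  simp [Finset.sum_range_succ, Nat.choose] at h0 h1 h2 h3 h4
  have he : {c : Finset α | c ∈ B ∧ Disjoint b c} =
      ↑(((CfsgLib.Combin.SteinerCount.blocksThrough B ∅).erase b).filter fun c => (b ∩ c).card = 0) := by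
    ext c
    simp only [Set.mem_ofPred_eq, Finset.coe_filter, Finset.mem_erase, CfsgLib.Combin.SteinerCount.mem_blocksThrough,
      Finset.empty_subset, and_true, Finset.card_eq_zero, ← Finset.disjoint_iff_inter_eq_empty]
    constructor
    · rintro ⟨h1, h2⟩
      refine ⟨⟨?_, h1⟩, h2⟩
      rintro rfl
      have h8 := hB.1 c hb
      rw [disjoint_self.mp h2] at h8
      simp at h8
    · rintro ⟨⟨-, h1⟩, h2⟩
      exact ⟨h1, h2⟩
  rw [he, Set.ncard_coe_finset]
  change CfsgLib.Steiner.meetCount B b 0 = 30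
  omega

end Cfsg.Agent.S0354
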