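import Cfsg.Statements.S0357
import Cfsg.Agent.Lib.Steiner.Inter
-- import your own Cfsg.Agent.* helpers here

set_option autoImplicit false
open Cfsg

namespace Cfsg.Agent.S0357

/-- In a Steiner system S(5, 6, 12), the complement of every block is again a block. -/
theorem result {α : Type*} [Fintype α] [DecidableEq α] (hα : Fintype.card α = 12) {B : Set (Finset α)} (hB : Cfsg.IsSteinerSystem 5 6 B) {b : Finset α} (hb : b ∈ B) : bᶜ ∈ B := by
  have key : ∀ i, i ≤ 4 → ∑ j ∈ Finset.range 5, CfsgLib.Steiner.meetCount B b j * j.choose i =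
      Nat.choose 6 i * ([132, 66, 30, 12, 4].getD i 0 - 1) := by
    intro i hi
    refine CfsgLib.Steiner.sum_meetCount hB hb fun I hI => ?_
    have h := CfsgLib.Combin.SteinerCount.card_blocksThrough_mul hB I (by omega)
    rw [hα, hI] at h
    generalize (CfsgLib.Combin.SteinerCount.blocksThrough B I).card = n at h ⊢
    interval_cases i <;> norm_num [Nat.choose] at h ⊢ <;> omega
  have h0 := key 0 (by norm_num)
  have h1 := key 1 (by norm_num)
  have h2 := key 2 (by norm_num)
  have h3 := key 3 (by norm_num)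
  have h4 := key 4 (by norm_num)
  simp [Finset.sum_range_succ, Nat.choose] at h0 h1 h2 h3 h4
  have hpos : 0 < CfsgLib.Steiner.meetCount B b 0 := by omega
  obtain ⟨c, hc⟩ := Finset.card_pos.mp hpos
  simp only [Finset.mem_filter, Finset.mem_erase, CfsgLib.Combin.SteinerCount.mem_blocksThrough, Finset.card_eq_zero] at hc
  have hd : c ⊆ bᶜ := fun x hx => Finset.mem_compl.mpr fun hxb =>
    Finset.notMem_empty x (hc.2 ▸ Finset.mem_inter.mpr ⟨hxb, hx⟩)
  have hcb : c = bᶜ := Finset.eq_of_subset_of_card_le hd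
    (by rw [Finset.card_compl, hα, hB.1 b hb, hB.1 c hc.1.2.1])
  exact hcb ▸ hc.1.2.1

end Cfsg.Agent.S0357
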