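import Cfsg.Statements.S0375
import Cfsg.Agent.Lib.Steiner.WittUnique
import Cfsg.Agent.Lib.Golay.M24
import Cfsg.Agent.Lib.Combin.AbstractGolay
-- import your own Cfsg.Agent.* helpers here

set_option autoImplicit false
open Cfsg

namespace Cfsg.Agent.S0375

/-- A doubly even self-dual binary code of length 24 with no words of weight 4 is equivalent to the length-24 code built from the squares modulo 23. -/
theorem result (C : Submodule (ZMod 2) (Fin 24 → ZMod 2)) (hdim : Module.finrank (ZMod 2) C = 12) (horth : ∀ v ∈ C, ∀ w ∈ C, ∑ i, v i * w i = 0) (h4 : ∀ w ∈ C, 4 ∣ hammingNorm w) (hno4 : ∀ w ∈ C, hammingNorm w ≠ 4) : ∃ e : Fin 24 ≃ Cfsg.GolayPt, ∀ w : Cfsg.GolayPt → ZMod 2, w ∈ Cfsg.golayCode ↔ (fun i => w (e i)) ∈ C := by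
  have hC : CfsgLib.Combin.AbstractGolay.IsGolay C :=
    ⟨Fintype.card_fin 24, hdim, horth, fun w hw hw0 => by
      have h1 := h4 w hw
      have h2 := hno4 w hw
      have h3 : hammingNorm w ≠ 0 := by simpa using hw0
      omega⟩
  obtain ⟨e, he⟩ := CfsgLib.Steiner.Witt.iso_octads (Fintype.card_fin 24)
    (CfsgLib.Combin.AbstractGolay.octads_steiner hC)
  refine ⟨e, fun w => ?_⟩
  let φ : (Cfsg.GolayPt → ZMod 2) ≃ₗ[ZMod 2] (Fin 24 → ZMod 2) := LinearEquiv.funCongrLeft (ZMod 2) (ZMod 2) e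
  have hφ : ∀ v : Cfsg.GolayPt → ZMod 2, φ v = fun i => v (e i) := fun _ => rfl
  have hgen : ∀ g ∈ CfsgLib.Golay.gens, φ (CfsgLib.Golay.dec g) ∈ C := by
    intro g hg
    have h1 : g < 2 ^ 24 ∧ CfsgLib.Golay.popc g = 8 := by revert g; decide +kernel
    have h2 : CfsgLib.Golay.decS g ∈ Cfsg.octads := by
      rw [CfsgLib.Golay.mem_octads, CfsgLib.Golay.encS_decS h1.1]
      exact ⟨CfsgLib.Golay.isCode_gens g hg, h1.2⟩
    rw [← he] at h2
    obtain ⟨b, ⟨⟨u, hu, rfl⟩, -⟩, hb⟩ := h2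
    suffices h : φ (CfsgLib.Golay.dec g) = u by rw [h]; exact hu
    apply CfsgLib.Combin.AbstractGolay.support₂_injective
    ext i
    have h3 := Finset.ext_iff.mp hb (e i)
    simp only [Finset.mem_image, EmbeddingLike.apply_eq_iff_eq, exists_eq_right] at h3
    rw [h3, ← CfsgLib.Golay.support₂_dec]
    simp [Cfsg.support₂, hφ]
  have hle : Cfsg.golayCode.map φ.toLinearMap ≤ C := by
    rintro _ ⟨v, hv, rfl⟩
    have hk := CfsgLib.Golay.isCode_iff.mp (CfsgLib.Golay.mem_golayCode.mp hv)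
    rw [← CfsgLib.Golay.dec_enc v, ← hk]
    refine CfsgLib.Golay.spanWord_induction (P := fun n => φ (CfsgLib.Golay.dec n) ∈ C) CfsgLib.Golay.gens ?_ ?_ hgen _
    · rw [CfsgLib.Golay.dec_zero, map_zero]; exact C.zero_mem
    · intro a b ha hb
      rw [CfsgLib.Golay.dec_xor, map_add]; exact C.add_mem ha hb
  have heq : Cfsg.golayCode.map φ.toLinearMap = C := by
    refine Submodule.eq_of_le_of_finrank_eq hle ?_
    rw [LinearEquiv.finrank_map_eq, CfsgLib.Golay.finrank_golayCode, hdim]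
  have hw : (fun i => w (e i)) ∈ C ↔ w ∈ Cfsg.golayCode := by
    rw [← hφ w]
    conv_lhs => rw [← heq]
    exact ⟨fun ⟨v, hv, hvw⟩ => φ.injective hvw ▸ hv, fun h => ⟨w, h, rfl⟩⟩
  exact hw.symm

end Cfsg.Agent.S0375
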