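import Cfsg.Statements.S0377
import Cfsg.Agent.Lib.Golay.Mathieu
-- import your own Cfsg.Agent.* helpers here

set_option autoImplicit false
open Cfsg

namespace Cfsg.Agent.S0377

/-- A point stabiliser in the group of the length-24 code is simple. -/
theorem result (p : Cfsg.GolayPt) : IsSimpleGroup (MulAction.stabilizer Cfsg.M24 p) := by
  obtain ⟨e⟩ := CfsgLib.Golay.sporM23_equiv_fixPts p
  have := CfsgLib.Golay.isSimpleGroup_sporM23
  exact (((CfsgLib.Golay.subtypeEquiv (MulAction.stabilizer Cfsg.M24 p)).trans
    (MulEquiv.subgroupCongr (CfsgLib.Golay.map_subtype_stabilizer_one p))).trans e.symm).isSimpleGroup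

end Cfsg.Agent.S0377
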