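import Cfsg.Statements.S0384
import Cfsg.Agent.Lib.Golay.Dodecad
-- import your own Cfsg.Agent.* helpers here

set_option autoImplicit false
open scoped Pointwise
open Cfsg

namespace Cfsg.Agent.S0384

/-- A dodecad stabiliser is sharply 5-transitive on the dodecad. -/
theorem result (d : Finset Cfsg.GolayPt) (hd : d ∈ Cfsg.dodecads) (x y : Fin 5 ↪ Cfsg.GolayPt) (hx : ∀ i, x i ∈ d) (hy : ∀ i, y i ∈ d) : ∃! g : MulAction.stabilizer Cfsg.M24 d, ∀ i, ((g : Cfsg.M24) : Equiv.Perm Cfsg.GolayPt) (x i) = y i := by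
  obtain ⟨g, ⟨hg1, hg2, hg3⟩, hu⟩ := CfsgLib.Golay.existsUnique_dodecad hd
    (List.nodup_ofFn.mpr x.injective) (List.nodup_ofFn.mpr y.injective) (by simp) (by simp)
    (List.forall_mem_ofFn_iff.mpr hx) (List.forall_mem_ofFn_iff.mpr hy)
  refine ⟨⟨⟨g, hg1⟩, hg2⟩, fun i => ?_, fun k hk => ?_⟩
  · rw [List.map_ofFn, List.ofFn_inj] at hg3
    exact congrFun hg3 i
  · refine Subtype.ext (Subtype.ext (hu _ ⟨k.1.2, k.2, ?_⟩))
    rw [List.map_ofFn, List.ofFn_inj]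
    exact funext hk

end Cfsg.Agent.S0384
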