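import Cfsg.Statements.S0437
import Cfsg.Agent.Lib.Sporadic.ThreeTransBasic

set_option autoImplicit false
open Cfsg CfsgLib.Sporadic.ThreeTrans

namespace Cfsg.Agent.S0437

/-- For three distinct, pairwise commuting members a, b, c of a set of 3-transpositions E, a member e of E centralises a * b * c if and only if it centralises each of a, b and c. -/
theorem result {G : Type*} [Group G] {E : Set G} (hE : Cfsg.IsThreeTranspositionSet E) {a b c e : G} (ha : a ∈ E) (hb : b ∈ E) (hc : c ∈ E) (he : e ∈ E) (hab : a ≠ b) (hac : a ≠ c) (hbc : b ≠ c) (h₁ : Commute a b) (h₂ : Commute a c) (h₃ : Commute b c) : Commute e (a * b * c) ↔ (Commute e a ∧ Commute e b ∧ Commute e c) := by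
  constructor
  swap
  · rintro ⟨ea, eb, ec⟩; exact (ea.mul_right eb).mul_right ec
  intro h
  have haa := mul_self hE ha
  have hbb := mul_self hE hb
  have hcc := mul_self hE hc
  have hee := mul_self hE he
  -- reduce to the case that e commutes with none of a, b, c
  have strip : ∀ {x y z : G}, x ∈ E → y ∈ E → z ∈ E → x ≠ y → Commute x y → Commute e z →
      Commute e (x * y * z) → Commute e x ∧ Commute e y := by
    intro x y z hx hy hz hxy hxy' hez hh
    refine commute_mul_two_left hE hx hy he hxy hxy' ?_
    have := hh.mul_right hez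
    rwa [mul_assoc, mul_self hE hz, mul_one] at this
  by_cases ec : Commute e c
  · exact ⟨(strip ha hb hc hab h₁ ec h).1, (strip ha hb hc hab h₁ ec h).2, ec⟩
  exfalso
  by_cases eb : Commute e b
  · have hh : Commute e (a * c * b) := by
      rwa [mul_assoc, ← h₃.eq, ← mul_assoc]
    exact ec (strip ha hc hb hac h₂ eb hh).2
  by_cases ea : Commute e a
  · have hh : Commute e (b * c * a) := by
      have : b * c * a = a * b * c := by
        rw [mul_assoc, ← h₂.eq, ← mul_assoc, ← h₁.eq]
      rwa [this]
    exact ec (strip hb hc ha hbc h₃ ea hh).2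
  -- all three braid with e
  have key : (a * e * a) * (b * e * b) * (c * e * c) = a * b * c := by
    rw [← braid hE he ha ea, ← braid hE he hb eb, ← braid hE he hc ec]
    have := conj_eq_self hE he h
    calc e * a * e * (e * b * e) * (e * c * e) = e * a * (e * e) * b * (e * e) * c * e := by group
      _ = e * (a * b * c) * e := by simp [hee, mul_assoc]
      _ = a * b * c := this
  -- e * (a*b) * e * (b*c) * e = b
  have key2 : e * (a * b) * e * (b * c) * e = b := by
    have h3 : a * ((a * e * a) * (b * e * b) * (c * e * c)) * c = a * (a * b * c) * c := by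
      rw [key]
    simpa [mul_assoc, hcc, ← mul_assoc a a, haa] using h3
  have conj_ab : e * (a * b) * e = (a * e * a) * (b * e * b) := by
    rw [← braid hE he ha ea, ← braid hE he hb eb]
    simp [mul_assoc, ← mul_assoc e e, hee]
  -- a e a b e = b e c
  have key3 : a * e * a * b * e = b * e * c := by
    rw [conj_ab] at key2
    have : ((a * e * a) * (b * e * b) * (b * c) * e) * (e * c) = b * (e * c) := by rw [key2]
    simpa [mul_assoc, hcc, ← mul_assoc b b, hbb, ← mul_assoc e e, hee] using this
  -- so e (ab) e is both b e c b and a b e c, whence a = e b e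
  have key4 : a * (b * e * c * b) = b * e * c := by
    have h4 : e * (a * b) * e = b * e * c * b := by
      rw [conj_ab, ← key3]; simp [mul_assoc]
    rw [← h4]
    conv_rhs => rw [← key3]
    simp [mul_assoc]
  have key5 : a = b * e * b := by
    have h5 : a * (e * c * b) = e * c := by
      have : b * (a * (b * e * c * b)) = b * (b * e * c) := by rw [key4]
      simpa [mul_assoc, ← mul_assoc b a, ← h₁.eq, ← mul_assoc b b, hbb] using this
    have h6 : a = e * (c * b * c) * e := by
      rw [eq_mul_inv_of_mul_eq h5]
      simp [mul_inv_rev, inv_eq hE hb, inv_eq hE hc, inv_eq hE he, mul_assoc]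
    rw [h6, ← h₃.eq, mul_assoc b c c, hcc, mul_one, braid hE he hb eb]
  -- hence a = e, as a commutes with b
  apply ea
  have h7 : e = a := by
    calc e = b * a * b := by rw [key5]; simp [mul_assoc, hbb, ← mul_assoc b b]
      _ = a := by rw [← h₁.eq, mul_assoc, hbb, mul_one]
  rw [h7]

end Cfsg.Agent.S0437
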