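import Mathlib
import Cfsg.Statements.S0440
import Cfsg.Agent.Lib.Sp.Group

set_option autoImplicit false
open Cfsg

open Matrix CfsgLib.Sp

namespace Cfsg.Agent.S0440

variable {n : ℕ}

local notation "V" => (Fin n ⊕ Fin n → ZMod 2)

abbrev Dset (n : ℕ) : Set (symplecticGroup (Fin n) (ZMod 2)) :=
  {g | ((g : Matrix (Fin n ⊕ Fin n) (Fin n ⊕ Fin n) (ZMod 2)) - 1).rank = 1}

theorem ext_mulVec {M N : Matrix (Fin n ⊕ Fin n) (Fin n ⊕ Fin n) (ZMod 2)} (h : ∀ x : V, M *ᵥ x = N *ᵥ x) :
    M = N :=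
  Matrix.toLin'.injective (LinearMap.ext fun x => by simpa [Matrix.toLin'_apply] using h x)

theorem zmod_two_cases (c : ZMod 2) : c = 0 ∨ c = 1 := by revert c; decide

theorem tmat_ne_one {v : V} (hv : v ≠ 0) : tmat v (1 : ZMod 2) ≠ 1 := by
  intro h
  obtain ⟨u, hu⟩ := exists_pair_one hv
  have h1 := congrArg (fun A : symplecticGroup (Fin n) (ZMod 2) => (A : Matrix (Fin n ⊕ Fin n) (Fin n ⊕ Fin n) (ZMod 2)) *ᵥ u) h
  simp only [tmat, sympTransvection_mulVec, OneMemClass.coe_one, one_mulVec, one_mul,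
    add_eq_left] at h1
  rcases smul_eq_zero.mp h1 with h2 | h2
  · rw [sympForm_flip, hu] at h2
    exact absurd h2 (by decide)
  · exact hv h2

theorem mem_D_iff (g : symplecticGroup (Fin n) (ZMod 2)) :
    g ∈ (Dset n) ↔ ∃ v : V, v ≠ 0 ∧ g = tmat v 1 := by
  show ((g : Matrix (Fin n ⊕ Fin n) (Fin n ⊕ Fin n) (ZMod 2)) - 1).rank = 1 ↔ _
  constructor
  · intro h
    obtain ⟨v, hv, hspan⟩ := finrank_eq_one_iff'.mp h
    have hv' : (v : V) ≠ 0 := fun h' => hv (Subtype.ext h')
    choose f hf using fun x : V => hspan ⟨((g : Matrix (Fin n ⊕ Fin n) (Fin n ⊕ Fin n) (ZMod 2)) - 1).mulVecLin x, LinearMap.mem_range_self _ x⟩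
    have hg : ∀ x : V, (g : Matrix (Fin n ⊕ Fin n) (Fin n ⊕ Fin n) (ZMod 2)) *ᵥ x = x + f x • (v : V) := by
      intro x
      have := congrArg Subtype.val (hf x)
      simp only [SetLike.val_smul, mulVecLin_apply, sub_mulVec, one_mulVec] at this
      rw [this]; abel
    obtain ⟨u, hu⟩ := exists_pair_one hv'
    have hform : ∀ x, f x = f u * sympForm n (ZMod 2) x (v : V) := by
      intro x
      have h1 := sympForm_mulVec g x u
      simp only [hg] at h1
      simp only [← sympBilin_apply, map_add, map_smul, LinearMap.add_apply, LinearMap.smul_apply,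
        smul_eq_mul] at h1
      simp only [sympBilin_apply, sympForm_self, mul_zero, add_zero, hu, mul_one] at h1
      simp only [CharTwo.add_eq_zero, add_assoc, add_eq_left] at h1
      exact h1
    refine ⟨v, hv', ?_⟩
    rcases zmod_two_cases (f u) with hc | hc
    · exfalso
      have h0 : ((g : Matrix (Fin n ⊕ Fin n) (Fin n ⊕ Fin n) (ZMod 2)) - 1) = 0 := ext_mulVec fun x => by
        simp [sub_mulVec, hg, hform x, hc]
      rw [h0, Matrix.rank_zero] at h
      exact one_ne_zero h.symm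
    · apply Subtype.ext
      refine ext_mulVec fun x => ?_
      rw [hg, hform, hc, one_mul]
      simp [tmat, sympTransvection_mulVec]
  · rintro ⟨v, hv, rfl⟩
    have hne : ((tmat v (1 : ZMod 2) : symplecticGroup (Fin n) (ZMod 2)) : Matrix (Fin n ⊕ Fin n) (Fin n ⊕ Fin n) (ZMod 2)) - 1 ≠ 0 :=
      fun h => tmat_ne_one hv (Subtype.ext (sub_eq_zero.mp h))
    refine le_antisymm ?_ (Nat.one_le_iff_ne_zero.mpr fun h => hne ?_)
    · simp only [tmat, Cfsg.sympTransvection, add_sub_cancel_left, one_smul]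
      exact rank_vecMulVec_le _ _
    · have h' := LinearMap.range_eq_bot.mp (Submodule.finrank_eq_zero.mp h)
      exact ext_mulVec fun x => by simpa [sub_mulVec] using congrArg (fun l => l x) h'

theorem conj_cases (v w : V) :
    tmat v (1 : ZMod 2) * tmat w 1 * (tmat v 1)⁻¹ = tmat (w + sympForm n (ZMod 2) w v • v) 1 := by
  rw [conj_tmat]
  simp [tmat, sympTransvection_mulVec]

theorem three_set : Cfsg.IsThreeTranspositionSet (Dset n) := by
  have hinv : ∀ v : V, (tmat v (1 : ZMod 2))⁻¹ = tmat v 1 := fun v => by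
    rw [tmat_inv]; rfl
  have hsq : ∀ v : V, tmat v (1 : ZMod 2) * tmat v 1 = 1 := fun v => mul_eq_one_iff_inv_eq.mpr (hinv v)
  constructor
  · intro d hd
    obtain ⟨v, hv, rfl⟩ := (mem_D_iff d).mp hd
    exact orderOf_eq_prime (by rw [pow_two, hsq]) (tmat_ne_one hv)
  · intro d hd e he
    obtain ⟨v, -, rfl⟩ := (mem_D_iff d).mp hd
    obtain ⟨w, -, rfl⟩ := (mem_D_iff e).mp he
    have hvw := conj_cases v w
    have hwv := conj_cases w v
    rw [hinv] at hvw hwv
    rcases zmod_two_cases (sympForm n (ZMod 2) w v) with h | h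
    · left
      rw [h, zero_smul, add_zero] at hvw
      rw [pow_two, ← mul_assoc, hvw, hsq]
    · right
      rw [sympForm_flip, CharTwo.neg_eq, h, one_smul, add_comm] at hwv
      rw [h, one_smul] at hvw
      rw [← hwv] at hvw
      calc (tmat v (1 : ZMod 2) * tmat w 1) ^ 3
          = (tmat v 1 * tmat w 1 * tmat v 1) * (tmat w 1 * tmat v 1 * tmat w 1) := by
            simp only [pow_succ, pow_zero, one_mul, mul_assoc]
        _ = 1 := by
            rw [← hvw]
            calc tmat v (1 : ZMod 2) * tmat w 1 * tmat v 1 * (tmat v 1 * tmat w 1 * tmat v 1)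
                = tmat v 1 * (tmat w 1 * (tmat v 1 * tmat v 1) * tmat w 1) * tmat v 1 := by group
              _ = 1 := by rw [hsq, mul_one, hsq, mul_one, hsq]

/-- In the symplectic group in dimension 2n ≥ 2 over the field with two elements, the elements g for which g - 1 has rank one (the symplectic transvections) form a conjugacy class of 3-transpositions generating the group. -/
theorem result (n : ℕ) (hn : 1 ≤ n) : Cfsg.IsThreeTranspositionClass {g : Matrix.symplecticGroup (Fin n) (ZMod 2) | ((g : Matrix (Fin n ⊕ Fin n) (Fin n ⊕ Fin n) (ZMod 2)) - 1).rank = 1} := by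
  haveI : Nonempty (Fin n ⊕ Fin n) := ⟨Sum.inl ⟨0, hn⟩⟩
  obtain ⟨v0, hv0⟩ := exists_ne (0 : Fin n ⊕ Fin n → ZMod 2)
  refine ⟨three_set, ⟨tmat v0 1, (mem_D_iff _).mpr ⟨v0, hv0, rfl⟩, ?_⟩, ?_⟩
  · ext g
    rw [mem_D_iff, conjugatesOf, Set.mem_ofPred_eq, isConj_iff]
    constructor
    · rintro ⟨v, hv, rfl⟩
      obtain ⟨A, hA⟩ := transitive_ne_zero_matrix v0 v hv0 hv
      exact ⟨A, by rw [conj_tmat, hA]⟩
    · rintro ⟨A, rfl⟩
      refine ⟨A.1 *ᵥ v0, fun h => hv0 ?_, conj_tmat A v0 1⟩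
      have h' := congrArg (fun x => ((A⁻¹ : symplecticGroup (Fin n) (ZMod 2)) : Matrix (Fin n ⊕ Fin n) (Fin n ⊕ Fin n) (ZMod 2)) *ᵥ x) h
      simp only [mulVec_mulVec, ← Submonoid.coe_mul, inv_mul_cancel, Submonoid.coe_one, one_mulVec,
        mulVec_zero] at h'
      exact h'
  · refine le_of_tmat_mem fun v c => ?_
    rcases zmod_two_cases c with rfl | rfl
    · rw [tmat_zero]; exact Subgroup.one_mem _
    · by_cases hv : v = 0
      · subst hv
        have : tmat (0 : Fin n ⊕ Fin n → ZMod 2) (1 : ZMod 2) = 1 := Subtype.ext (ext_mulVec fun x => by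
          simp [tmat, sympTransvection_mulVec])
        rw [this]; exact Subgroup.one_mem _
      · exact Subgroup.subset_closure ((mem_D_iff _).mpr ⟨v, hv, rfl⟩)

end Cfsg.Agent.S0440
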