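import Mathlib
import Cfsg.Statements.S0442

set_option autoImplicit false
open Cfsg

namespace Cfsg.Agent.S0442

/-- A standard trick for producing elements of an involution centraliser: for an involution a and an element g, let b be the conjugate g⁻¹ * a * g. If a * b has odd order 2m + 1 then g * (a * b) ^ m commutes with a; if a * b has even order 2m then (a * b) ^ m and (a * (g * a * g⁻¹)) ^ m commute with a. -/
theorem result {G : Type*} [Group G] (a g : G) (ha : orderOf a = 2) : (∀ m : ℕ, orderOf (a * (g⁻¹ * a * g)) = 2 * m + 1 → Commute (g * (a * (g⁻¹ * a * g)) ^ m) a) ∧ (∀ m : ℕ, orderOf (a * (g⁻¹ * a * g)) = 2 * m → Commute ((a * (g⁻¹ * a * g)) ^ m) a ∧ Commute ((a * (g * a * g⁻¹)) ^ m) a) := by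
  have haa : a * a = 1 := by
    have h := pow_orderOf_eq_one a; rwa [ha, pow_two] at h
  have hai : a⁻¹ = a := inv_eq_of_mul_eq_one_right haa
  set b := g⁻¹ * a * g with hb
  have hbb : b * b = 1 := by rw [hb]; simp [mul_assoc, ← mul_assoc a a, haa]
  have hbi : b⁻¹ = b := inv_eq_of_mul_eq_one_right hbb
  have hconj : a * (a * b) * a⁻¹ = (a * b)⁻¹ := by
    rw [hai, mul_inv_rev, hai, hbi]; simp [← mul_assoc, haa]
  have hpow : ∀ m : ℕ, a * (a * b) ^ m = ((a * b) ^ m)⁻¹ * a := fun m => by
    have := conj_pow (a := a) (b := a * b) (i := m)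
    rw [hconj, inv_pow] at this
    rw [this]; simp [mul_assoc]
  constructor
  · intro m hm
    have h1 : (a * b) ^ (2 * m + 1) = 1 := hm ▸ pow_orderOf_eq_one (a * b)
    rw [pow_succ, two_mul, pow_add] at h1
    -- (ab)^m * a = b * (ab)^m
    have h2 : (a * b) ^ m * a = b * (a * b) ^ m := by
      have h3 : (a * b) ^ m * (a * b) = ((a * b) ^ m)⁻¹ := by
        rw [eq_inv_iff_mul_eq_one, mul_assoc, ← pow_succ' (a * b) m, pow_succ, ← mul_assoc]
        exact h1
      calc (a * b) ^ m * a = ((a * b) ^ (m + 1))⁻¹ * a := by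
            rw [pow_succ, h3, inv_inv]
        _ = a * (a * b) ^ (m + 1) := (hpow (m + 1)).symm
        _ = b * (a * b) ^ m := by rw [pow_succ', ← mul_assoc, ← mul_assoc, haa, one_mul]
    show g * (a * b) ^ m * a = a * (g * (a * b) ^ m)
    calc g * (a * b) ^ m * a = g * ((a * b) ^ m * a) := by group
      _ = g * (b * (a * b) ^ m) := by rw [h2]
      _ = a * (g * (a * b) ^ m) := by rw [hb]; group
  · intro m hm
    have h1 : (a * b) ^ (2 * m) = 1 := hm ▸ pow_orderOf_eq_one (a * b)
    rw [two_mul, pow_add] at h1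
    refine ⟨?_, ?_⟩
    · have := hpow m
      rw [← eq_inv_iff_mul_eq_one.mpr h1] at this
      exact this.symm
    · set c := g * a * g⁻¹ with hc
      have hcc : c * c = 1 := by rw [hc]; simp [mul_assoc, ← mul_assoc a a, haa]
      have hci : c⁻¹ = c := inv_eq_of_mul_eq_one_right hcc
      have hrel : a * c = g * (a * b)⁻¹ * g⁻¹ := by
        rw [hb, hc, mul_inv_rev, mul_inv_rev, mul_inv_rev, inv_inv, hai]; group
      have h4 : ((a * c) ^ m)⁻¹ = (a * c) ^ m := by
        rw [hrel, conj_pow, inv_pow, mul_inv_rev, mul_inv_rev, inv_inv, inv_inv,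
          ← eq_inv_iff_mul_eq_one.mpr h1, mul_assoc]
      have h5 : a * (a * c) * a⁻¹ = (a * c)⁻¹ := by
        rw [hai, mul_inv_rev, hai, hci]; simp [← mul_assoc, haa]
      have h6 := conj_pow (a := a) (b := a * c) (i := m)
      rw [h5, inv_pow, h4] at h6
      exact ((mul_inv_eq_iff_eq_mul.mp h6.symm)).symm

end Cfsg.Agent.S0442
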