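import Cfsg.Statements.S0444
import Cfsg.Agent.Lib.Sporadic.ThreeTransBasic

set_option autoImplicit false
open Cfsg CfsgLib.Sporadic.ThreeTrans

namespace Cfsg.Agent.S0444

/-- Two members of a set of 3-transpositions which do not commute generate a subgroup isomorphic to the symmetric group on three letters. -/
theorem result {G : Type*} [Group G] {E : Set G} (hE : Cfsg.IsThreeTranspositionSet E) {d e : G} (hd : d ∈ E) (he : e ∈ E) (h : ¬ Commute d e) : Nonempty (Subgroup.closure ({d, e} : Set G) ≃* Equiv.Perm (Fin 3)) := by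
  classical
  have hdd := mul_self hE hd
  have hee := mul_self hE he
  have hde : d ≠ e := fun hh => h (hh ▸ Commute.refl d)
  have hne : d * e ≠ 1 := fun hh => hde ((eq_inv_of_mul_eq_one_left hh).trans (inv_eq hE he))
  have h3 : (d * e) ^ 3 = 1 := by
    rcases hE.2 d hd e he with h2 | h3
    · exfalso; apply h
      rw [pow_two] at h2
      have := eq_inv_of_mul_eq_one_left h2
      rw [mul_inv_rev, inv_eq hE hd, inv_eq hE he] at this
      exact this
    · exact h3
  obtain ⟨φ, hφ⟩ := exists_sym3_hom d e hdd hee h3
  obtain ⟨hinj, hrange⟩ := hφ hne (fun hd1 => by have := hE.1 d hd; simp [hd1] at this)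
    (fun he1 => by have := hE.1 e he; simp [he1] at this) hde
  exact ⟨((MonoidHom.ofInjective hinj).trans (MulEquiv.subgroupCongr hrange)).symm⟩

end Cfsg.Agent.S0444
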