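import Mathlib
import Cfsg.Statements.S0445

set_option autoImplicit false
open Cfsg

namespace Cfsg.Agent.S0445

/-- The free parameters of a matrix commuting with the transvection. -/
private def toMat (p : Fin 7 → ZMod 2) (M : Matrix (Fin 3) (Fin 3) (ZMod 2)) :
    Matrix (Fin 5) (Fin 5) (ZMod 2) :=
  !![1, p 0, p 1, p 2, p 3;
     0, 1, 0, 0, 0;
     0, p 4, M 0 0, M 0 1, M 0 2;
     0, p 5, M 1 0, M 1 1, M 1 2;
     0, p 6, M 2 0, M 2 1, M 2 2]

private lemma det_of_shape (A : Matrix (Fin 5) (Fin 5) (ZMod 2))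
    (hc : ∀ i : Fin 4, A i.succ 0 = 0) (hr : ∀ j : Fin 3, A 1 j.succ.succ = 0) :
    A.det = A 0 0 * (A 1 1 * (A.submatrix (fun i : Fin 3 => i.succ.succ)
      (fun j : Fin 3 => j.succ.succ)).det) := by
  rw [Matrix.det_succ_column_zero, Fin.sum_univ_succ]
  simp only [hc, mul_zero, zero_mul, Finset.sum_const_zero, add_zero, Fin.val_zero, pow_zero,
    one_mul]
  rw [Matrix.det_succ_row_zero, Fin.sum_univ_succ]
  have hr' : ∀ j : Fin 3, A (Fin.succ (0 : Fin 4)) j.succ.succ = 0 := hr
  simp only [Matrix.submatrix_apply, Fin.succAbove_zero, hr', mul_zero, zero_mul,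
    Finset.sum_const_zero, add_zero, Fin.val_zero, pow_zero, one_mul, Matrix.submatrix_submatrix]
  rfl

private lemma det_toMat (p : Fin 7 → ZMod 2) (M : Matrix (Fin 3) (Fin 3) (ZMod 2)) :
    (toMat p M).det = M.det := by
  rw [det_of_shape _ (fun i => by fin_cases i <;> rfl) (fun j => by fin_cases j <;> rfl)]
  have : (toMat p M).submatrix (fun i : Fin 3 => i.succ.succ) (fun j : Fin 3 => j.succ.succ) = M := by
    ext i j; fin_cases i <;> fin_cases j <;> rfl
  rw [this]
  simp [toMat]

/-- Commuting with the transvection, entrywise. -/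
private lemma commutes_iff (A : Matrix (Fin 5) (Fin 5) (ZMod 2)) :
    A * Matrix.transvection 0 1 1 = Matrix.transvection 0 1 1 * A ↔
      ((∀ i : Fin 4, A i.succ 0 = 0) ∧ (∀ j : Fin 3, A 1 j.succ.succ = 0) ∧ A 0 0 = A 1 1) := by
  rw [← Matrix.ext_iff]
  simp [Fin.forall_fin_succ, Matrix.transvection, Matrix.mul_add, Matrix.add_mul,
    Matrix.single_apply, Matrix.mul_apply, Fin.sum_univ_succ]
  rw [add_comm (A 0 1), add_left_inj]
  tauto

private lemma card_sl3 :
    Fintype.card {M : Matrix (Fin 3) (Fin 3) (ZMod 2) // M.det = 1} = 168 := by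
  rw [Fintype.card_subtype]
  have : ∀ M : Matrix (Fin 3) (Fin 3) (ZMod 2), M.det = 1 ↔
      M 0 0 * M 1 1 * M 2 2 - M 0 0 * M 1 2 * M 2 1 - M 0 1 * M 1 0 * M 2 2 +
        M 0 1 * M 1 2 * M 2 0 + M 0 2 * M 1 0 * M 2 1 - M 0 2 * M 1 1 * M 2 0 = 1 :=
    fun M => by rw [Matrix.det_fin_three]
  simp only [this]
  decide +kernel

private def paramEquiv :
    {A : Matrix (Fin 5) (Fin 5) (ZMod 2) //
      A.det = 1 ∧ A * Matrix.transvection 0 1 1 = Matrix.transvection 0 1 1 * A} ≃
    (Fin 7 → ZMod 2) × {M : Matrix (Fin 3) (Fin 3) (ZMod 2) // M.det = 1} where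
  toFun A := (![A.1 0 1, A.1 0 2, A.1 0 3, A.1 0 4, A.1 2 1, A.1 3 1, A.1 4 1],
    ⟨A.1.submatrix (fun i : Fin 3 => i.succ.succ) (fun j : Fin 3 => j.succ.succ), by
      obtain ⟨A, hd, hA⟩ := A
      obtain ⟨hc, hr, he⟩ := (commutes_iff A).mp hA
      rw [det_of_shape A hc hr] at hd
      revert hd
      generalize A 0 0 = a
      generalize A 1 1 = b
      generalize Matrix.det (A.submatrix (fun i : Fin 3 => i.succ.succ)
        (fun j : Fin 3 => j.succ.succ)) = d
      revert a b d
      decide⟩)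
  invFun q := ⟨toMat q.1 q.2.1, (det_toMat _ _).trans q.2.2,
    (commutes_iff _).mpr ⟨fun i => by fin_cases i <;> rfl, fun j => by fin_cases j <;> rfl, rfl⟩⟩
  left_inv := by
    rintro ⟨A, hd, hA⟩
    obtain ⟨hc, hr, he⟩ := (commutes_iff A).mp hA
    rw [det_of_shape A hc hr] at hd
    have h11 : A 1 1 = 1 := by
      revert hd
      generalize A 0 0 = a
      generalize A 1 1 = b
      generalize Matrix.det (A.submatrix (fun i : Fin 3 => i.succ.succ)
        (fun j : Fin 3 => j.succ.succ)) = d
      revert a b d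
      decide
    have h00 : A 0 0 = 1 := he.trans h11
    apply Subtype.ext
    ext i j
    fin_cases i <;> fin_cases j <;>
      first
        | rfl
        | exact h00.symm
        | exact h11.symm
        | exact (hc 0).symm
        | exact (hc 1).symm
        | exact (hc 2).symm
        | exact (hc 3).symm
        | exact (hr 0).symm
        | exact (hr 1).symm
        | exact (hr 2).symm
  right_inv := by
    rintro ⟨p, M, hM⟩
    refine Prod.ext ?_ (Subtype.ext ?_)
    · funext i; fin_cases i <;> rfl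
    · ext i j; fin_cases i <;> fin_cases j <;> rfl

/-- In the special linear group of dimension 5 over the field with two elements, the centraliser of a transvection has order 21504 = 2 ^ 7 · 168 (it is an extension of an extraspecial group of order 2 ^ 7 by the simple group of order 168). -/
theorem result (s : Matrix.SpecialLinearGroup (Fin 5) (ZMod 2)) (hs : (s : Matrix (Fin 5) (Fin 5) (ZMod 2)) = Matrix.transvection 0 1 1) : Nat.card (Subgroup.centralizer ({s} : Set (Matrix.SpecialLinearGroup (Fin 5) (ZMod 2)))) = 21504 := by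
  let e : Subgroup.centralizer ({s} : Set (Matrix.SpecialLinearGroup (Fin 5) (ZMod 2))) ≃
      {A : Matrix (Fin 5) (Fin 5) (ZMod 2) //
        A.det = 1 ∧ A * Matrix.transvection 0 1 1 = Matrix.transvection 0 1 1 * A} :=
    { toFun := fun g => ⟨g.1.1, g.1.2, by
        have h := congrArg (fun x : Matrix.SpecialLinearGroup (Fin 5) (ZMod 2) =>
          (x : Matrix (Fin 5) (Fin 5) (ZMod 2))) (Subgroup.mem_centralizer_singleton_iff.mp g.2)
        simp only [Matrix.SpecialLinearGroup.coe_mul, hs] at h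
        exact h⟩
      invFun := fun A => ⟨⟨A.1, A.2.1⟩, Subgroup.mem_centralizer_singleton_iff.mpr
        (Matrix.SpecialLinearGroup.ext _ _ fun i j => by
          change (A.1 * (s : Matrix (Fin 5) (Fin 5) (ZMod 2))) i j =
            ((s : Matrix (Fin 5) (Fin 5) (ZMod 2)) * A.1) i j
          rw [hs]
          exact congrFun (congrFun A.2.2 i) j)⟩
      left_inv := fun g => rfl
      right_inv := fun A => rfl }
  rw [Nat.card_congr (e.trans paramEquiv), Nat.card_prod, Nat.card_eq_fintype_card,
    Nat.card_eq_fintype_card, Fintype.card_fun, card_sl3]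
  rfl

end Cfsg.Agent.S0445
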