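import Cfsg.Statements.S0458
import Cfsg.Agent.Lib.Sporadic.J3
import Cfsg.Agent.Lib.Sporadic.PermModel

set_option autoImplicit false
open Cfsg

namespace Cfsg.Agent.S0458

theorem exists_root : ∃ ω : GaloisField 2 2, ω ^ 2 + ω + 1 = 0 := by
  classical
  have := Fintype.ofFinite (GaloisField 2 2)
  have hc : Fintype.card (GaloisField 2 2) = 4 := by
    rw [Fintype.card_eq_nat_card, GaloisField.card 2 2 two_ne_zero]; norm_num
  obtain ⟨a, -, ha⟩ := Finset.exists_mem_notMem_of_card_lt_card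
    (s := ({0, 1} : Finset (GaloisField 2 2))) (t := Finset.univ)
    (by rw [Finset.card_univ, hc]; exact lt_of_le_of_lt (Finset.card_insert_le _ _) (by simp))
  simp only [Finset.mem_insert, Finset.mem_singleton, not_or] at ha
  have h3 : a ^ 3 = 1 := by
    have := FiniteField.pow_card_sub_one_eq_one a ha.1
    rwa [hc] at this
  refine ⟨a, (mul_eq_zero.1 (show (a - 1) * (a ^ 2 + a + 1) = 0 by
    linear_combination h3)).resolve_left (sub_ne_zero.2 ha.2)⟩

/-- Janko's third group exists as a transitive permutation group of degree 6156 with point stabiliser of order 8160: a simple group of order 50232960. -/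
theorem result : ∃ H : Subgroup (Equiv.Perm (Fin 6156)), Cfsg.IsJ3 H ∧ MulAction.IsPretransitive H (Fin 6156) ∧ Nat.card (MulAction.stabilizer H (0 : Fin 6156)) = 8160 := by
  obtain ⟨ω, hω⟩ : ∃ ω : GaloisField 2 2, ω ^ 2 + ω + 1 = 0 := exists_root
  have h : CfsgLib.Sporadic.J3.FieldFour (GaloisField 2 2) ω :=
    ⟨by rw [GaloisField.card 2 2 two_ne_zero]; norm_num, hω⟩
  have := h.isSimple_J3
  obtain ⟨K, hK, hc⟩ := h.exists_index
  obtain ⟨H, ⟨eH⟩, htr, ⟨eK⟩⟩ := CfsgLib.Sporadic.exists_perm_model K hK (by norm_num)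
  exact ⟨H, ⟨eH.symm.isSimpleGroup, by rw [← Nat.card_congr eH.toEquiv, h.card_J3]⟩, htr,
    by rw [← Nat.card_congr eK.toEquiv, hc]⟩

end Cfsg.Agent.S0458
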