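import Cfsg.Statements.S0459
import Cfsg.Agent.Lib.Sporadic.Ru.Simplicity
import Cfsg.Agent.Lib.Sporadic.PermModel

set_option autoImplicit false
open Cfsg CfsgLib.Sporadic.Ru

namespace Cfsg.Agent.S0459

/-- The Rudvalis group exists as a transitive permutation group of degree 4060: simple of order 145926144000, with point stabiliser of order 35942400 containing a simple subgroup of order 17971200 (the order of the Tits group). -/
theorem result : ∃ H : Subgroup (Equiv.Perm (Fin 4060)), Cfsg.IsRu H ∧ MulAction.IsPretransitive H (Fin 4060) ∧ Nat.card (MulAction.stabilizer H (0 : Fin 4060)) = 35942400 ∧ ∃ T : Subgroup (MulAction.stabilizer H (0 : Fin 4060)), Cfsg.IsTits T := by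
  have hsimple := isSimple_g0
  let K : Subgroup (grp g0Gens) := (grp g1Gens).subgroupOf _
  have eK : K ≃* grp g1Gens := Subgroup.subgroupOfEquivOfLe grp_g1_le
  have hK : Nat.card K = 35942400 := (Nat.card_congr eK.toEquiv).trans card_grp_g1
  have hidx : K.index = 4060 := by
    have h := K.card_mul_index
    rw [hK, card_grp_g0] at h
    omega
  obtain ⟨H, ⟨e⟩, htr, ⟨eS⟩⟩ :=
    CfsgLib.Sporadic.exists_perm_model K (n := 4060) hidx (by norm_num)
  let f : grp t0Gens →* MulAction.stabilizer H (0 : Fin 4060) :=
    eS.toMonoidHom.comp (eK.symm.toMonoidHom.comp (Subgroup.inclusion grp_t0_le))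
  have hf : Function.Injective f :=
    eS.injective.comp (eK.symm.injective.comp (Subgroup.inclusion_injective _))
  refine ⟨H, ⟨e.symm.isSimpleGroup_congr.2 hsimple, ?_⟩, htr, ?_, f.range,
    (MonoidHom.ofInjective hf).symm.isSimpleGroup_congr.2 isSimple_t0, ?_⟩
  · rw [← Nat.card_congr e.toEquiv, card_grp_g0]
  · rw [← Nat.card_congr eS.toEquiv, hK]
  · rw [← Nat.card_congr (MonoidHom.ofInjective hf).toEquiv, card_grp_t0]

end Cfsg.Agent.S0459
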