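import Cfsg.Statements.S0461
import Cfsg.Agent.Lib.J4DCE.Linear

set_option autoImplicit false
open Cfsg

namespace Cfsg.Agent.S0461

/-- Janko's fourth group exists as a group of 112 × 112 matrices over the field with two elements: GL(112, 2) has a simple subgroup of order 86775571046077562880. -/
theorem result : ∃ H : Subgroup (GL (Fin 112) (ZMod 2)), Cfsg.IsJ4 H := by
  let e := MonoidHom.ofInjective CfsgLib.J4DCE.J.glHom_injective
  refine ⟨CfsgLib.J4DCE.J.glHom.range, ?_, ?_⟩
  · have := CfsgLib.J4DCE.J.isSimple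
    have : Nontrivial CfsgLib.J4DCE.J.glHom.range := e.toEquiv.symm.nontrivial
    exact IsSimpleGroup.isSimpleGroup_of_surjective e.toMonoidHom e.surjective
  · rw [← Nat.card_congr e.toEquiv]
    exact CfsgLib.J4DCE.J.J4_card_eq.1

end Cfsg.Agent.S0461
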