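import Cfsg.Statements.S0462
import Cfsg.Agent.Lib.Sporadic.He
import Cfsg.Agent.Lib.Sporadic.PermModel

set_option autoImplicit false
open Cfsg

namespace Cfsg.Agent.S0462

theorem exists_root : ∃ ω : GaloisField 2 2, ω ^ 2 + ω + 1 = 0 := by
  classical
  have := Fintype.ofFinite (GaloisField 2 2)
  have hc : Fintype.card (GaloisField 2 2) = 4 := by
    rw [Fintype.card_eq_nat_card, GaloisField.card 2 2 two_ne_zero]; norm_num
  obtain ⟨a, -, ha⟩ := Finset.exists_mem_notMem_of_card_lt_card
    (s := ({0, 1} : Finset (GaloisField 2 2))) (t := Finset.univ)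
    (by rw [Finset.card_univ, hc]; exact lt_of_le_of_lt (Finset.card_insert_le _ _) (by simp))
  simp only [Finset.mem_insert, Finset.mem_singleton, not_or] at ha
  have h3 : a ^ 3 = 1 := by
    have := FiniteField.pow_card_sub_one_eq_one a ha.1
    rwa [hc] at this
  exact ⟨a, (mul_eq_zero.1 (show (a - 1) * (a ^ 2 + a + 1) = 0 by
    linear_combination h3)).resolve_left (sub_ne_zero.2 ha.2)⟩

/-- The Held group exists as a transitive permutation group of degree 2058: simple of order 4030387200, with point stabiliser containing, with index 2, a copy of the 4-dimensional symplectic group over the field with four elements. -/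
theorem result : ∃ H : Subgroup (Equiv.Perm (Fin 2058)), Cfsg.IsHe H ∧ MulAction.IsPretransitive H (Fin 2058) ∧ ∃ (F : Type) (_ : Field F) (_ : Fintype F), Fintype.card F = 4 ∧ ∃ N : Subgroup (MulAction.stabilizer H (0 : Fin 2058)), N.index = 2 ∧ Nonempty (N ≃* Matrix.symplecticGroup (Fin 2) F) := by
  classical
  obtain ⟨ω, hω⟩ := exists_root
  have hcard : Nat.card (GaloisField 2 2) = 4 := by
    rw [GaloisField.card 2 2 two_ne_zero]; norm_num
  have h : CfsgLib.Sporadic.J3.FieldFour (GaloisField 2 2) ω := ⟨hcard, hω⟩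
  have := CfsgLib.Sporadic.He.isSimple_heGroup h
  let G := CfsgLib.Sporadic.He.heGroup
  let K : Subgroup G := CfsgLib.Sporadic.He.kGroup.subgroupOf G
  have hKcard : Nat.card K = 1958400 := by
    rw [Nat.card_congr (Subgroup.subgroupOfEquivOfLe CfsgLib.Sporadic.He.kGroup_le).toEquiv,
      CfsgLib.Sporadic.He.card_kGroup h]
  have hK : K.index = 2058 := by
    have e := K.card_mul_index
    rw [hKcard, CfsgLib.Sporadic.He.card_heGroup h] at e
    exact Nat.eq_of_mul_eq_mul_left (by norm_num : 0 < 1958400) (e.trans (by norm_num))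
  obtain ⟨H, ⟨eH⟩, htr, ⟨eK⟩⟩ := CfsgLib.Sporadic.exists_perm_model K hK (by norm_num)
  let S : Subgroup K := (CfsgLib.Sporadic.He.hGroup.subgroupOf G).subgroupOf K
  have hle : CfsgLib.Sporadic.He.hGroup.subgroupOf G ≤ K := fun x hx =>
    CfsgLib.Sporadic.He.hGroup_le hx
  let eS : S ≃* Matrix.symplecticGroup (Fin 2) (GaloisField 2 2) :=
    ((Subgroup.subgroupOfEquivOfLe hle).trans (Subgroup.subgroupOfEquivOfLe
      (CfsgLib.Sporadic.He.hGroup_le.trans CfsgLib.Sporadic.He.kGroup_le))).trans
      (CfsgLib.Sporadic.He.spIso h)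
  have hS : S.index = 2 := by
    have e := S.card_mul_index
    rw [Nat.card_congr eS.toEquiv, CfsgLib.Sporadic.He.card_sp h, hKcard] at e
    exact Nat.eq_of_mul_eq_mul_left (by norm_num : 0 < 979200) (e.trans (by norm_num))
  have := Fintype.ofFinite (GaloisField 2 2)
  refine ⟨H, ⟨eH.symm.isSimpleGroup, ?_⟩, htr, GaloisField 2 2, inferInstance, inferInstance,
    by rw [Fintype.card_eq_nat_card, hcard], S.map eK.toMonoidHom, ?_, ?_⟩
  · rw [← Nat.card_congr eH.toEquiv, CfsgLib.Sporadic.He.card_heGroup h]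
  · exact (S.index_map_equiv eK).trans hS
  · exact ⟨(S.equivMapOfInjective eK.toMonoidHom eK.injective).symm.trans eS⟩

end Cfsg.Agent.S0462
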