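import Cfsg.Statements.S1701
import Cfsg.Agent.Lib.Presented.HNxyz.SimpleOfIndex
import Cfsg.Agent.Lib.Presented.HNOut.Suborbits
import Cfsg.Agent.Lib.Presented.HNIndex.Exact

set_option autoImplicit false
open Cfsg

namespace Cfsg.Agent.S1701

/-- The presented Harada–Norton group is simple of the expected order (that is, it is a simple group of the order of the Harada–Norton group). -/
theorem result : Cfsg.IsHN Cfsg.Spor.HN := by
  exact ⟨CfsgLib.Presented.HNOut.simple_of_index CfsgLib.Presented.HNIndex.index_eq,
    CfsgLib.Presented.HNxyz.card_HN CfsgLib.Presented.HNIndex.index_eq⟩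

end Cfsg.Agent.S1701
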