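import Cfsg.Statements.S0471
import Cfsg.Agent.Lib.Presented.Fi22Unitary.Cover
import Cfsg.Agent.Lib.Presented.Fi22Trans
import Cfsg.Agent.Lib.Presented.DoubleCoverEquiv

set_option autoImplicit false
open Cfsg

namespace Cfsg.Agent.S0471

/-- The Fischer group of order 64561751654400 exists as a 3-transposition group: a simple group of that order generated by a conjugacy class of 3510 3-transpositions, the centraliser of each being a non-split double cover of PSU(6, 2). -/
theorem result : ∃ (G : Type) (_ : Group G) (_ : Finite G), Cfsg.IsFi22 G ∧ ∃ D : Set G, Cfsg.IsThreeTranspositionClass D ∧ Nat.card D = 3510 ∧ ∀ d ∈ D, ∃ (F : Type) (_ : Field F) (_ : Fintype F), Fintype.card F = 4 ∧ Cfsg.IsNonsplitDoubleCover (Subgroup.centralizer ({d} : Set G)) (Cfsg.PSU 6 F 2) := by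
  obtain ⟨hclass, hcard, hcent⟩ := CfsgLib.Presented.Fi22Trans.transpositions
  have hfin : Finite Cfsg.Spor.Fi22 :=
    Nat.finite_of_card_ne_zero (by rw [CfsgLib.Presented.Fi22Order.card_eq]; norm_num)
  let _ : Fintype (GaloisField 2 2) := Fintype.ofFinite _
  have hF : Fintype.card (GaloisField 2 2) = 2 ^ 2 := by
    rw [← Nat.card_eq_fintype_card, GaloisField.card 2 2 (by norm_num)]
  refine ⟨Cfsg.Spor.Fi22, inferInstance, hfin,
    ⟨CfsgLib.Presented.Fi22Simple.simple, CfsgLib.Presented.Fi22Order.card_eq⟩, _, hclass,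
    hcard.trans (by decide +kernel), fun d hd => ?_⟩
  obtain ⟨e⟩ := hcent d hd
  exact ⟨GaloisField 2 2, inferInstance, inferInstance, by rw [hF]; norm_num,
    CfsgLib.Presented.isNonsplitDoubleCover_of_equiv e (CfsgLib.Presented.Fi22Unitary.doubleCover hF)⟩

end Cfsg.Agent.S0471
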