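import Cfsg.Statements.S0473
import Cfsg.Agent.Lib.ThreeTrans.Inst.FiTwentyFour
import Cfsg.Agent.Lib.Presented.Fi24Simple
import Cfsg.Agent.Lib.Presented.Fi24He.Top
-- import your own Cfsg.Agent.* helpers here

set_option autoImplicit false
set_option maxRecDepth 8000
open Cfsg

namespace Cfsg.Agent.S0473

open CfsgLib.ThreeTrans.Inst CfsgLib.Presented

/-- The base member's centralizer contains the image of the presented Fi23. -/
theorem range_le : FiTwentyFour.theta.range ≤ Subgroup.centralizer ({FiTwentyFour.P.a} : Set Cfsg.Spor.Fi24) := by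
  rintro _ ⟨x, rfl⟩
  rw [Subgroup.mem_centralizer_singleton_iff]
  exact (FiTwentyFour.commute_a (FiTwentyFour.theta_mem_H x).1).eq

/-- An isomorphic image of the presented Fi23 has the predicate. -/
theorem isFi23_of_equiv {K : Type*} [Group K] (e : K ≃* Cfsg.Spor.Fi23) : Cfsg.IsFi23 K := by
  have := Fi23Simple.simple
  have : Nontrivial K := e.toEquiv.nontrivial
  exact ⟨IsSimpleGroup.isSimpleGroup_of_surjective e.symm.toMonoidHom e.symm.surjective,
    (Nat.card_congr e.toEquiv).trans Fi23Order.card_eq⟩

/-- The base member's centralizer has index the number of points. -/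
theorem index_centralizer :
    (Subgroup.centralizer ({FiTwentyFour.P.a} : Set Cfsg.Spor.Fi24)).index = 306936 := by
  let f : Cfsg.Spor.Fi24 ⧸ Subgroup.centralizer ({FiTwentyFour.P.a} : Set Cfsg.Spor.Fi24) → _ :=
    Quotient.lift (fun g => FiTwentyFour.P.φ g FiTwentyFour.P.o) fun g h hgh => by
      have := (FiTwentyFour.P.centralizer_eq _).1 (QuotientGroup.leftRel_apply.1 hgh)
      have h2 := congrArg (FiTwentyFour.P.φ g) this
      rw [← Equiv.Perm.mul_apply, ← map_mul, mul_inv_cancel_left] at h2
      exact h2.symm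
  have hf : Function.Bijective f := by
    constructor
    · intro x y hxy
      induction x using QuotientGroup.induction_on with | _ g => ?_
      induction y using QuotientGroup.induction_on with | _ h => ?_
      refine QuotientGroup.eq.2 ((FiTwentyFour.P.centralizer_eq _).2 ?_)
      rw [map_mul, map_inv, Equiv.Perm.mul_apply, Equiv.Perm.inv_eq_iff_eq]
      exact hxy.symm
    · intro j
      obtain ⟨g, hg⟩ := FiTwentyFour.P.trans j
      exact ⟨QuotientGroup.mk g, hg⟩
  rw [Subgroup.index_eq_card, Nat.card_eq_of_bijective f hf, Nat.card_eq_fintype_card, Fintype.card_fin]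
  decide +kernel

/-- The largest Fischer 3-transposition group: a group of order 2 · 1255205709190661721292800 generated by a conjugacy class of 306936 3-transpositions, in which a transposition centraliser has order 2 · 4089470473293004800 and contains a simple subgroup of order 4089470473293004800; its subgroup of index 2 is simple and contains simple subgroups of orders 4089470473293004800 and 4030387200. -/
theorem result : ∃ (G : Type) (_ : Group G) (_ : Finite G), Nat.card G = 2 * 1255205709190661721292800 ∧ ∃ D : Set G, Cfsg.IsThreeTranspositionClass D ∧ Nat.card D = 306936 ∧ (∀ d ∈ D, Nat.card (Subgroup.centralizer ({d} : Set G)) = 2 * 4089470473293004800 ∧ ∃ K : Subgroup G, K ≤ Subgroup.centralizer ({d} : Set G) ∧ Cfsg.IsFi23 K) ∧ ∃ H : Subgroup G, H.index = 2 ∧ Cfsg.IsFi24' H ∧ (∃ K : Subgroup H, Cfsg.IsFi23 K) ∧ (∃ K : Subgroup H, Cfsg.IsHe K) := by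
  have hfin := FiTwentyFour.finite_fi24
  refine ⟨Cfsg.Spor.Fi24, inferInstance, hfin, ?_, FiTwentyFour.D, FiTwentyFour.isClass, ?_, ?_, ?_⟩
  · rw [Fi24Order.card_eq]
  · rw [Nat.card_coe_set_eq, FiTwentyFour.P.ncard_D]
    decide +kernel
  · intro d hd
    obtain ⟨g, rfl⟩ := FiTwentyFour.P.mem_D.1 hd
    have hmap : Subgroup.centralizer ({g * FiTwentyFour.P.a * g⁻¹} : Set Cfsg.Spor.Fi24) =
        (Subgroup.centralizer ({FiTwentyFour.P.a} : Set Cfsg.Spor.Fi24)).map (MulAut.conj g).toMonoidHom := by
      ext x
      rw [Subgroup.mem_map_equiv, Subgroup.mem_centralizer_singleton_iff, Subgroup.mem_centralizer_singleton_iff,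
        MulAut.conj_symm_apply]
      constructor <;> intro h
      · calc g⁻¹ * x * g * FiTwentyFour.P.a = g⁻¹ * (x * (g * FiTwentyFour.P.a * g⁻¹)) * g := by group
          _ = FiTwentyFour.P.a * (g⁻¹ * x * g) := by rw [h]; group
      · calc x * (g * FiTwentyFour.P.a * g⁻¹) = g * (g⁻¹ * x * g * FiTwentyFour.P.a) * g⁻¹ := by group
          _ = g * FiTwentyFour.P.a * g⁻¹ * x := by rw [h]; group
    refine ⟨?_, FiTwentyFour.theta.range.map (MulAut.conj g).toMonoidHom, ?_, ?_⟩
    · rw [hmap, Subgroup.card_map_of_injective (MulAut.conj g).injective]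
      have h := (Subgroup.centralizer ({FiTwentyFour.P.a} : Set Cfsg.Spor.Fi24)).card_mul_index
      rw [index_centralizer, Fi24Order.card_eq] at h
      exact Nat.eq_of_mul_eq_mul_right (show 0 < 306936 by norm_num) (h.trans (by norm_num))
    · rw [hmap]
      exact Subgroup.map_mono range_le
    · exact isFi23_of_equiv ((Subgroup.equivMapOfInjective _ _ (MulAut.conj g).injective).symm.trans
        (MonoidHom.ofInjective FiTwentyFour.theta_injective).symm)
  · have hi : (commutator Cfsg.Spor.Fi24).index = 2 := Cfsg.Agent.S1691.result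
    refine ⟨commutator Cfsg.Spor.Fi24, hi, Fi24Simple.isFi24', ?_, Fi24He.exists_isHe hi⟩
    have hle : FiTwentyFour.theta.range ≤ commutator Cfsg.Spor.Fi24 := by
      have := Fi23Simple.simple
      have hperf : commutator Cfsg.Spor.Fi23 = ⊤ := by
        refine (Subgroup.Normal.eq_bot_or_eq_top (inferInstance : (commutator Cfsg.Spor.Fi23).Normal)).resolve_left ?_
        intro hb
        have hz := (commutator_eq_bot_iff_center_eq_top _).1 hb
        rw [FiTwentyFour.center_fi23] at hz
        exact bot_ne_top hz
      rw [MonoidHom.range_eq_map, ← hperf, commutator_def, Subgroup.map_commutator]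
      exact Subgroup.commutator_mono le_top le_top
    exact ⟨_, isFi23_of_equiv ((Subgroup.subgroupOfEquivOfLe hle).trans
      (MonoidHom.ofInjective FiTwentyFour.theta_injective).symm)⟩

end Cfsg.Agent.S0473
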