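import Cfsg.Statements.S0478
import Cfsg.Agent.Lib.Sporadic.J3Unitary

set_option autoImplicit false
open Cfsg

namespace Cfsg.Agent.S0478

/-- The nine points in some order. -/
noncomputable def ptEquiv : Cfsg.Spor.F9 ≃ Fin 9 :=
  Fintype.equivFinOfCardEq (by simp [Cfsg.Spor.F9])

theorem exists_root : ∃ ω : GaloisField 2 2, ω ^ 2 + ω + 1 = 0 := by
  classical
  have := Fintype.ofFinite (GaloisField 2 2)
  have hc : Fintype.card (GaloisField 2 2) = 4 := by
    rw [Fintype.card_eq_nat_card, GaloisField.card 2 2 two_ne_zero]; norm_num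
  obtain ⟨a, -, ha⟩ := Finset.exists_mem_notMem_of_card_lt_card
    (s := ({0, 1} : Finset (GaloisField 2 2))) (t := Finset.univ)
    (by rw [Finset.card_univ, hc]; exact lt_of_le_of_lt (Finset.card_insert_le _ _) (by simp))
  simp only [Finset.mem_insert, Finset.mem_singleton, not_or] at ha
  have h3 : a ^ 3 = 1 := by
    have := FiniteField.pow_card_sub_one_eq_one a ha.1
    rwa [hc] at this
  exact ⟨a, (mul_eq_zero.1 (show (a - 1) * (a ^ 2 + a + 1) = 0 by
    linear_combination h3)).resolve_left (sub_ne_zero.2 ha.2)⟩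

/-- A triple cover of Janko's third group inside a unitary group: for a field F with four elements, the special unitary group of dimension 9 (with respect to the form with q = 2) has a subgroup whose centre has order 3 and whose quotient by its centre is simple of order 50232960. -/
theorem result : ∃ (F : Type) (_ : Field F) (_ : Fintype F), Fintype.card F = 4 ∧ ∃ H : Subgroup (Cfsg.SU 9 F 2), Nat.card (Subgroup.center H) = 3 ∧ Cfsg.IsJ3 (H ⧸ Subgroup.center H) := by
  classical
  obtain ⟨ω, hω⟩ := exists_root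
  have hc : Nat.card (GaloisField 2 2) = 4 := by
    rw [GaloisField.card 2 2 two_ne_zero]; norm_num
  have h : CfsgLib.Sporadic.J3.FieldFour (GaloisField 2 2) ω := ⟨hc, hω⟩
  have := Fintype.ofFinite (GaloisField 2 2)
  let F := GaloisField 2 2
  let G := Cfsg.Spor.threeJ3 F ω
  let sl : G →* Matrix.SpecialLinearGroup (Fin 9) F :=
    { toFun := fun g => ⟨(g.1 : Matrix Cfsg.Spor.F9 Cfsg.Spor.F9 F).submatrix ptEquiv.symm
        ptEquiv.symm, by rw [Matrix.det_submatrix_equiv_self, h.det_eq_one g.2]⟩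
      map_one' := Subtype.ext (Matrix.submatrix_one_equiv ptEquiv.symm)
      map_mul' := fun a b => Subtype.ext
        (Matrix.submatrix_mul_equiv (a.1 : Matrix Cfsg.Spor.F9 Cfsg.Spor.F9 F)
          (b.1 : Matrix Cfsg.Spor.F9 Cfsg.Spor.F9 F) ptEquiv.symm ptEquiv.symm ptEquiv.symm).symm }
  have hSU : ∀ g, sl g ∈ Cfsg.SU 9 F 2 := by
    intro g u v
    have hmv : ∀ (x : Fin 9 → F) (i : Fin 9), (Cfsg.slToMat 9 F (sl g)).mulVec x i =
        (g.1 : Matrix Cfsg.Spor.F9 Cfsg.Spor.F9 F).mulVec (x ∘ ptEquiv) (ptEquiv.symm i) := by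
      intro x i
      change ((g.1 : Matrix Cfsg.Spor.F9 Cfsg.Spor.F9 F).submatrix ptEquiv.symm
        ptEquiv.symm).mulVec x i = _
      rw [Matrix.submatrix_mulVec_equiv]
      rfl
    simp only [Cfsg.hermForm, hmv]
    rw [← ptEquiv.sum_comp, ← ptEquiv.sum_comp (fun i => u i * v i ^ 2)]
    simpa using h.preserves_form g.2 (u ∘ ptEquiv) (v ∘ ptEquiv)
  let φ : G →* Cfsg.SU 9 F 2 := sl.codRestrict _ hSU
  have hφ : Function.Injective φ := by
    intro a b e
    refine Subtype.ext (Units.ext ?_)
    ext r z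
    have e' := congrArg (fun x : Cfsg.SU 9 F 2 => (x.1 : Matrix (Fin 9) (Fin 9) F)
      (ptEquiv r) (ptEquiv z)) e
    change (a.1 : Matrix Cfsg.Spor.F9 Cfsg.Spor.F9 F) (ptEquiv.symm (ptEquiv r))
        (ptEquiv.symm (ptEquiv z)) =
      (b.1 : Matrix Cfsg.Spor.F9 Cfsg.Spor.F9 F) (ptEquiv.symm (ptEquiv r))
        (ptEquiv.symm (ptEquiv z)) at e'
    simpa using e'
  let E : G ≃* φ.range := MonoidHom.ofInjective hφ
  have hmap : (Subgroup.center G).map E.toMonoidHom = Subgroup.center φ.range := by
    ext x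
    constructor
    · rintro ⟨y, hy, rfl⟩
      rw [Subgroup.mem_center_iff]
      intro z
      have e := Subgroup.mem_center_iff.1 hy (E.symm z)
      simpa using congrArg E e
    · intro hx
      refine ⟨E.symm x, ?_, E.apply_symm_apply x⟩
      rw [SetLike.mem_coe, Subgroup.mem_center_iff]
      intro z
      exact E.injective (by simpa using Subgroup.mem_center_iff.1 hx (E z))
  refine ⟨F, inferInstance, inferInstance, by rw [Fintype.card_eq_nat_card, hc], φ.range, ?_, ?_⟩
  · rw [← hmap]
    refine Eq.trans ?_ h.card_center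
    exact (Nat.card_congr
      (Subgroup.equivMapOfInjective (Subgroup.center G) E.toMonoidHom E.injective).toEquiv).symm
  · have := h.isSimple_J3
    let e := QuotientGroup.congr (Subgroup.center G) (Subgroup.center φ.range) E hmap
    exact ⟨e.symm.isSimpleGroup, by rw [← Nat.card_congr e.toEquiv]; exact h.card_J3⟩

end Cfsg.Agent.S0478
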