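import Cfsg.Statements.S0481
-- import your own Cfsg.Agent.* helpers here

set_option autoImplicit false
open Cfsg

namespace Cfsg.Agent.S0481

/-- Large extraspecial subgroups: let z be an involution of a finite group G whose centraliser C contains a normal 2-subgroup Q with centre of order 2 and all squares central, such that every element of G centralising Q lies in Q. Then C contains a Sylow 2-subgroup of G, and any involution of G whose centraliser contains a Sylow 2-subgroup of G is conjugate to z. -/
theorem result {G : Type*} [Group G] [Finite G] (z : G) (hz : orderOf z = 2) (Q : Subgroup G) (hQC : Q ≤ Subgroup.centralizer ({z} : Set G)) (hQn : ∀ g ∈ Subgroup.centralizer ({z} : Set G), ∀ q ∈ Q, g * q * g⁻¹ ∈ Q) (hQ2 : IsPGroup 2 Q) (hZ : Nat.card (Subgroup.center Q) = 2) (hsq : ∀ x : Q, x ^ 2 ∈ Subgroup.center Q) (hlarge : Subgroup.centralizer (Q : Set G) ≤ Q) : (∃ P : Sylow 2 G, (P : Subgroup G) ≤ Subgroup.centralizer ({z} : Set G)) ∧ ∀ u : G, orderOf u = 2 → (∃ P : Sylow 2 G, (P : Subgroup G) ≤ Subgroup.centralizer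 ({u} : Set G)) → IsConj z u := by
  have hzQ : z ∈ Q := hlarge (by
    rw [Subgroup.mem_centralizer_iff]
    intro q hq
    exact (Subgroup.mem_centralizer_singleton_iff.1 (hQC hq)))
  have key : ∀ v : G, v ∈ Subgroup.centralizer (Q : Set G) → v = 1 ∨ v = z := by
    intro v hv
    have hvQ : v ∈ Q := hlarge hv
    have hc : ∀ w : G, ∀ hw : w ∈ Q, w ∈ Subgroup.centralizer (Q : Set G) →
        (⟨w, hw⟩ : Q) ∈ Subgroup.center Q := by
      intro w hw hw'
      rw [Subgroup.mem_center_iff]
      intro x
      exact Subtype.ext (Subgroup.mem_centralizer_iff.1 hw' x x.2)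
    have hz' : z ∈ Subgroup.centralizer (Q : Set G) := by
      rw [Subgroup.mem_centralizer_iff]
      exact fun q hq => Subgroup.mem_centralizer_singleton_iff.1 (hQC hq)
    let a : Subgroup.center Q := ⟨⟨v, hvQ⟩, hc v hvQ hv⟩
    let b : Subgroup.center Q := ⟨⟨z, hzQ⟩, hc z hzQ hz'⟩
    have hb : b ≠ 1 := by
      intro e
      have e' : z = 1 := congrArg (fun x : Subgroup.center Q => (x.1 : G)) e
      rw [e', orderOf_one] at hz
      norm_num at hz
    by_cases ha : a = 1
    · exact .inl (congrArg (fun x : Subgroup.center Q => (x.1 : G)) ha)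
    · right
      obtain ⟨y, -, hy⟩ := (Nat.card_eq_two_iff' (1 : Subgroup.center Q)).1 hZ
      exact congrArg (fun x : Subgroup.center Q => (x.1 : G)) ((hy a ha).trans (hy b hb).symm)
  have : Fact (Nat.Prime 2) := ⟨Nat.prime_two⟩
  obtain ⟨T, hT⟩ := hQ2.exists_le_sylow
  have hcent : ∀ v : G, (T : Subgroup G) ≤ Subgroup.centralizer ({v} : Set G) →
      v ∈ Subgroup.centralizer (Q : Set G) := by
    intro v hv
    rw [Subgroup.mem_centralizer_iff]
    exact fun q hq => Subgroup.mem_centralizer_singleton_iff.1 (hv (hT hq))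
  have hne : Nontrivial T := by
    have h1 : Nontrivial Q := by
      refine (Subgroup.nontrivial_iff_ne_bot _).2 fun e => ?_
      rw [e, Subgroup.mem_bot] at hzQ
      rw [hzQ, orderOf_one] at hz
      norm_num at hz
    exact (Subgroup.inclusion_injective hT).nontrivial
  obtain ⟨c, hc⟩ := (nontrivial_iff_exists_ne (1 : Subgroup.center T)).1
    (IsPGroup.center_nontrivial T.2)
  have hTC : (T : Subgroup G) ≤ Subgroup.centralizer ({z} : Set G) := by
    have hcT : (T : Subgroup G) ≤ Subgroup.centralizer ({(c.1 : G)} : Set G) := fun x hx =>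
      Subgroup.mem_centralizer_singleton_iff.2
        (congrArg Subtype.val (Subgroup.mem_center_iff.1 c.2 ⟨x, hx⟩))
    rcases key _ (hcent _ hcT) with e | e
    · exact absurd (Subtype.ext (Subtype.ext e)) hc
    · rwa [← e]
  refine ⟨⟨T, hTC⟩, fun u hu ⟨P, hP⟩ => ?_⟩
  obtain ⟨g, hg⟩ := MulAction.exists_smul_eq G P T
  have hv : (T : Subgroup G) ≤ Subgroup.centralizer ({g * u * g⁻¹} : Set G) := by
    intro x hx
    rw [← hg] at hx
    have hx' : x ∈ ((g • P : Sylow 2 G) : Set G) := hx
    rw [Sylow.coe_smul] at hx'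
    obtain ⟨y, hy, rfl⟩ := hx'
    have e := Subgroup.mem_centralizer_singleton_iff.1 (hP hy)
    rw [Subgroup.mem_centralizer_singleton_iff]
    simp only [MulAut.smul_def, MulAut.conj_apply]
    simp only [mul_assoc, inv_mul_cancel_left]
    rw [← mul_assoc y, e, mul_assoc]
  rcases key _ (hcent _ hv) with e | e
  · have : u = 1 := by simpa using e
    rw [this, orderOf_one] at hu
    norm_num at hu
  · exact (isConj_iff.2 ⟨g, e⟩).symm

end Cfsg.Agent.S0481
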