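import Cfsg.Statements.S0493
import Cfsg.Agent.Lib.OrderElim.Basic

set_option autoImplicit false
open Cfsg

namespace Cfsg.Agent.S0493

/-- Eliminating prime and multiplicity for each composite order. -/
def tbl : List (ℕ × ℕ × ℕ) := [(4, 2, 2), (6, 2, 1), (8, 2, 3), (9, 3, 2), (10, 2, 1), (12, 2, 2), (14, 2, 1), (15, 3, 1), (16, 2, 4), (18, 2, 1), (20, 5, 1), (21, 3, 1), (22, 2, 1), (24, 2, 3), (25, 5, 2), (26, 2, 1), (27, 3, 3), (28, 7, 1), (30, 2, 1), (32, 2, 5), (33, 3, 1), (34, 2, 1), (35, 5, 1), (36, 3, 2), (38, 2, 1), (39, 3, 1), (40, 2, 3), (42, 2, 1), (44, 11, 1), (45, 3, 2), (46, 2, 1), (48, 2, 4), (49, 7, 2), (50, 2, 1), (51, 3, 1), (52, 13, 1), (54, 2, 1), (55, 5, 1), (56, 7, 1), (57, 3, 1), (58, 2, 1), (62, 2, 1), (63, 7, 1), (64, 2, 6), (65, 5, 1), (66, 2, 1), (68, 17, 1), (69, 3, 1), (70, 2, 1), (72, 3, 2), (74, 2, 1), (75, 3, 1), (76, 19, 1), (77, 7, 1), (78, 2, 1), (80, 2, 4), (81, 3, 4), (82, 2, 1),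 (84, 7, 1), (85, 5, 1), (86, 2, 1), (87, 3, 1), (88, 11, 1), (90, 2, 1), (91, 7, 1), (92, 23, 1), (93, 3, 1), (94, 2, 1), (95, 5, 1), (96, 2, 5), (98, 2, 1), (99, 3, 2), (100, 5, 2)]

set_option maxRecDepth 10000 in
theorem tbl_ok : ∀ x ∈ tbl, x.2.1.Prime ∧ CfsgLib.OrderElim.Excl x.1 x.2.1 x.2.2 := by
  decide +kernel

set_option maxRecDepth 10000 in
theorem cover : ∀ n < 101, 1 < n → n = 60 ∨ n.Prime ∨ n ∈ tbl.map Prod.fst := by
  decide +kernel


/-- A finite simple group of order at most 100 that is not cyclic has order 60. -/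
theorem result {G : Type*} [Group G] [Finite G] [IsSimpleGroup G]
    (hG : ¬ IsCyclic G) (h : Nat.card G ≤ 100) : Nat.card G = 60 := by
  have hnc : ¬ IsMulCommutative G := fun hc => by
    apply hG
    haveI := hc
    let _ : CommGroup G := { ‹Group G› with mul_comm := hc.is_comm.comm }
    haveI := Fact.mk (IsSimpleGroup.prime_card (α := G))
    exact isCyclic_of_prime_card rfl
  rcases cover (Nat.card G) (by omega) CfsgLib.OrderElim.one_lt_card with h60 | hp | hmem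
  · exact h60
  · exact absurd hp (CfsgLib.OrderElim.card_not_prime hnc)
  · exfalso
    obtain ⟨⟨n, p, k⟩, hx, hxn⟩ := List.mem_map.mp hmem
    obtain ⟨hp, he⟩ := tbl_ok _ hx
    haveI := Fact.mk hp
    subst hxn
    exact CfsgLib.OrderElim.false_of_excl hnc p k he


end Cfsg.Agent.S0493
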