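import Cfsg.Statements.S0499
import Cfsg.Agent.Lib.Transfer.NormalComplement
import Cfsg.Agent.Lib.Small.Basic

set_option autoImplicit false
open Cfsg

namespace Cfsg.Agent.S0499

/-- The underlying permutation of an automorphism, as a homomorphism. -/
def permHom {H : Type*} [Group H] (Q : Subgroup H) : MulAut Q →* Equiv.Perm Q where
  toFun e := MulEquiv.toEquiv e
  map_one' := rfl
  map_mul' _ _ := rfl

theorem permHom_injective {H : Type*} [Group H] (Q : Subgroup H) :
    Function.Injective (permHom Q) := fun a b h => MulEquiv.ext fun x =>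
  Equiv.ext_iff.mp h x

/-- An automorphism of order dividing five of a group of order eight is trivial. -/
theorem fix_of_pow_five {Q : Type*} [Group Q] [Finite Q] (φ : MulAut Q) (h : φ ^ 5 = 1)
    (hQ : Nat.card Q = 8) : φ = 1 := by
  classical
  haveI : Fact (Nat.Prime 5) := ⟨by norm_num⟩
  have hp : IsPGroup 5 (Subgroup.zpowers φ) := by
    rintro ⟨_, k, rfl⟩
    refine ⟨1, Subtype.ext ?_⟩
    show (φ ^ k) ^ (5 ^ 1) = 1
    rw [pow_one, ← zpow_natCast (φ ^ k), ← zpow_mul, mul_comm, zpow_mul, zpow_natCast, h, one_zpow]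
  let F : Subgroup Q :=
    { carrier := {q | φ q = q}
      one_mem' := map_one φ
      mul_mem' := fun {a b} (ha : φ a = a) (hb : φ b = b) => show φ (a * b) = a * b by
        rw [map_mul, ha, hb]
      inv_mem' := fun {a} (ha : φ a = a) => show φ a⁻¹ = a⁻¹ by rw [map_inv, ha] }
  have hset : MulAction.fixedPoints (Subgroup.zpowers φ) Q = (F : Set Q) := by
    ext q
    constructor
    · intro hq
      exact hq ⟨φ, Subgroup.mem_zpowers φ⟩
    · intro hq
      have hle : Subgroup.zpowers φ ≤ MulAction.stabilizer (MulAut Q) q := Subgroup.zpowers_le.mpr hq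
      rintro ⟨x, hx⟩
      exact hle hx
  have hmod := hp.card_modEq_card_fixedPoints Q
  rw [hset] at hmod
  have hdvd : Nat.card F ∣ 8 := hQ ▸ Subgroup.card_subgroup_dvd_card F
  have hcases : Nat.card F ∈ Nat.divisors 8 := Nat.mem_divisors.mpr ⟨hdvd, by norm_num⟩
  have hF : Nat.card F = 8 := by
    have hm : Nat.card F % 5 = 3 := by
      rw [Nat.ModEq, hQ] at hmod
      exact hmod.symm
    rw [show Nat.divisors 8 = {1, 2, 4, 8} by decide] at hcases
    simp only [Finset.mem_insert, Finset.mem_singleton] at hcases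
    omega
  have htop : F = ⊤ := Subgroup.eq_top_of_card_eq F (by rw [hF, hQ])
  exact MulEquiv.ext fun q => (htop.ge (Subgroup.mem_top q) : q ∈ F)


/-- A non-abelian finite simple group of even order has order divisible by 12, 16 or 56. -/
theorem result {G : Type*} [Group G] [Finite G] [IsSimpleGroup G]
    (hG : ¬ IsMulCommutative G) (h2 : Even (Nat.card G)) :
    12 ∣ Nat.card G ∨ 16 ∣ Nat.card G ∨ 56 ∣ Nat.card G := by
  classical
  haveI : Fact (Nat.Prime 2) := ⟨Nat.prime_two⟩
  obtain ⟨S⟩ := (inferInstance : Nonempty (Sylow 2 G))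
  have h2' : 2 ∣ Nat.card G := even_iff_two_dvd.mp h2
  obtain ⟨k, hk⟩ := IsPGroup.iff_card.mp S.2
  have hS : Nat.card (S : Subgroup G) = 2 ^ k := hk
  have hdvd : 2 ^ k ∣ Nat.card G := hS ▸ Subgroup.card_subgroup_dvd_card _
  have hk1 : 1 ≤ k := by
    by_contra h
    have : k = 0 := by omega
    subst this
    have hidx : (S : Subgroup G).index = Nat.card G := by
      have := Subgroup.card_mul_index (S : Subgroup G)
      rwa [hS, pow_zero, one_mul] at this
    exact S.not_dvd_index (hidx ▸ h2')
  rcases Nat.lt_or_ge k 4 with h4 | h4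
  swap
  · exact Or.inr (Or.inl ((pow_dvd_pow 2 h4).trans hdvd))
  by_cases h3 : 3 ∣ Nat.card G
  · rcases Nat.lt_or_ge k 2 with hk2 | hk2
    · exfalso
      have hk' : k = 1 := by omega
      obtain ⟨e, he1, he2, -⟩ := CfsgLib.Small.sylow_prime_order_data hG S (by rw [hS, hk', pow_one])
      have := Nat.le_of_dvd (by norm_num) he2
      omega
    · refine Or.inl ?_
      have h := Nat.Coprime.mul_dvd_of_dvd_of_dvd (by norm_num : Nat.Coprime 4 3)
        ((pow_dvd_pow 2 hk2).trans hdvd) h3
      simpa using h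
  -- now 3 does not divide the order
  rcases Nat.lt_or_ge k 2 with hk2 | hk2
  · exfalso
    have hk' : k = 1 := by omega
    obtain ⟨e, he1, he2, -⟩ := CfsgLib.Small.sylow_prime_order_data hG S (by rw [hS, hk', pow_one])
    have := Nat.le_of_dvd (by norm_num) he2
    omega
  by_cases h7 : 7 ∣ Nat.card G ∧ k = 3
  · refine Or.inr (Or.inr ?_)
    have h := Nat.Coprime.mul_dvd_of_dvd_of_dvd (by norm_num : Nat.Coprime 8 7)
      (show 8 ∣ Nat.card G by rw [h7.2] at hdvd; simpa using hdvd) h7.1
    simpa using h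
  exfalso
  have hfc : CfsgLib.Transfer.FrobeniusCond 2 G := by
    refine CfsgLib.Transfer.frobeniusCond_of_le_sylow S fun Q hQ g hg hcop => ?_
    have hcard : Nat.card Q ∣ 2 ^ k := hS ▸ Subgroup.card_dvd_of_le hQ
    let φ := Q.normalizerMonoidHom ⟨g, hg⟩
    have h1 : orderOf φ ∣ orderOf g := by
      rw [← Subgroup.orderOf_mk g hg]
      exact orderOf_map_dvd Q.normalizerMonoidHom _
    have hc2 : Nat.Coprime (orderOf φ) 2 := Nat.Coprime.coprime_dvd_left h1 hcop
    have hc3 : Nat.Coprime (orderOf φ) 3 :=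
      ((Nat.prime_three.coprime_iff_not_dvd).mpr fun hd =>
        h3 ((hd.trans h1).trans (orderOf_dvd_natCard g))).symm
    have hperm : orderOf φ ∣ (Nat.card Q).factorial := by
      rw [← Nat.card_perm]
      have h := orderOf_injective (permHom Q) (permHom_injective Q) φ
      rw [← h]
      exact orderOf_dvd_natCard _
    have h3fix : φ = 1 := by
      rcases (Nat.dvd_prime_pow Nat.prime_two).mp hcard with ⟨j, hj, hjQ⟩
      rcases Nat.lt_or_ge j 3 with hj3 | hj3
      · rw [hjQ] at hperm
        have : (2 ^ j).factorial ∣ (4 : ℕ).factorial :=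
          Nat.factorial_dvd_factorial (by calc 2 ^ j ≤ 2 ^ 2 := Nat.pow_le_pow_right (by norm_num) (by omega)
                                            _ = 4 := rfl)
        have h24 : orderOf φ ∣ 2 ^ 3 * 3 := hperm.trans this
        rw [← orderOf_eq_one_iff]
        exact Nat.Coprime.eq_one_of_dvd (Nat.Coprime.mul_right (hc2.pow_right 3) hc3) h24
      · have hj' : j = 3 := by omega
        have hk3 : k = 3 := by omega
        have hc7 : Nat.Coprime (orderOf φ) 7 :=
          (((by norm_num : Nat.Prime 7).coprime_iff_not_dvd).mpr fun hd =>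
            h7 ⟨(hd.trans h1).trans (orderOf_dvd_natCard g), hk3⟩).symm
        rw [hjQ, hj'] at hperm
        have h40 : orderOf φ ∣ (2 ^ 7 * 3 ^ 2 * 7) * 5 := by
          have : ((2 : ℕ) ^ 3).factorial = (2 ^ 7 * 3 ^ 2 * 7) * 5 := by decide
          rwa [this] at hperm
        have h5 : orderOf φ ∣ 5 :=
          (Nat.Coprime.mul_right (Nat.Coprime.mul_right (hc2.pow_right 7) (hc3.pow_right 2)) hc7).dvd_of_dvd_mul_left
            h40
        exact fix_of_pow_five φ (orderOf_dvd_iff_pow_eq_one.mp h5) (by rw [hjQ, hj']; rfl)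
    rw [Subgroup.mem_centralizer_iff]
    intro q hq
    have h6 : g * q * g⁻¹ = q := congrArg (fun f : MulAut Q => ((f ⟨q, hq⟩ : Q) : G)) h3fix
    calc q * g = g * q * g⁻¹ * g := by rw [h6]
      _ = g * q := by group
  rcases CfsgLib.Transfer.simple_of_hasNormalPComplement
      (CfsgLib.Transfer.hasNormalPComplement_of_frobeniusCond hfc) with h | h
  · exact h h2'
  · have := h.center_nontrivial
    exact (Subgroup.nontrivial_iff_ne_bot _).mp this (CfsgLib.Small.center_eq_bot_of_nc hG)


end Cfsg.Agent.S0499
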