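import Cfsg.Statements.S0520
import Cfsg.Agent.S0502

set_option autoImplicit false
open Cfsg

namespace Cfsg.Agent.S0520

open Cfsg.Agent.S0502 (R four_isKlein)

/-- conjugate of a subgroup -/
abbrev cj {G : Type*} [Group G] (g : G) (K : Subgroup G) : Subgroup G :=
  K.map (MulAut.conj g).toMonoidHom

theorem cj_one {G : Type*} [Group G] (K : Subgroup G) : cj (1 : G) K = K := by
  ext x; simp [cj, Subgroup.mem_map]

theorem cj_cj {G : Type*} [Group G] (a b : G) (K : Subgroup G) : cj a (cj b K) = cj (a * b) K := by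
  rw [cj, cj, Subgroup.map_map]
  congr 1
  ext x
  simp [mul_assoc]

theorem sylow_smul {G : Type*} [Group G] (g : G) (P : Sylow 2 G) :
    ((g • P : Sylow 2 G) : Subgroup G) = cj g (P : Subgroup G) := rfl

theorem klein_of_equiv {A B : Type*} [Group A] [Group B] (e : A ≃* B) (h : IsKleinFour A) :
    IsKleinFour B :=
  ⟨(Nat.card_congr e.toEquiv).symm.trans h.card_four,
    (Monoid.exponent_eq_of_mulEquiv e).symm.trans h.exponent_two⟩

theorem cj_klein {G : Type*} [Group G] (g : G) (K : Subgroup G) (h : IsKleinFour K) :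
    IsKleinFour ↥(cj g K) :=
  klein_of_equiv (K.equivMapOfInjective _ (MulAut.conj g).injective) h

theorem klein_pgroup {G : Type*} [Group G] (K : Subgroup G) (h : IsKleinFour K) : IsPGroup 2 K :=
  IsPGroup.of_card (n := 2) h.card_four

theorem rank_of_four {G : Type*} [Group G] [Finite G] {U D : Subgroup G} (hU : IsKleinFour U) (hle : U ≤ D) :
    ¬ Cfsg.PRankLE 2 1 D := by
  intro h
  have e := Subgroup.subgroupOfEquivOfLe hle
  haveI hk := klein_of_equiv e.symm hU
  have := h (U.subgroupOf D) (IsKleinFour.isMulCommutative) (fun a ha => by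
    have := Monoid.pow_exponent_eq_one (⟨a, ha⟩ : U.subgroupOf D)
    rw [hk.exponent_two] at this
    exact congrArg Subtype.val this)
  rw [hk.card_four] at this
  omega

theorem exists_four {G : Type*} [Group G] [Finite G] {K : Subgroup G} (h : ¬ Cfsg.PRankLE 2 1 K) :
    ∃ U : Subgroup G, IsKleinFour U ∧ U ≤ K := by
  classical
  simp only [Cfsg.PRankLE, not_forall, not_le] at h
  obtain ⟨A, hA, hA2, hAc⟩ := h
  obtain ⟨a, haA, ha1⟩ : ∃ a ∈ A, a ≠ 1 := by
    by_contra hc
    push Not at hc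
    have : A = ⊥ := (Subgroup.eq_bot_iff_forall A).mpr hc
    rw [this, Subgroup.card_bot] at hAc
    omega
  obtain ⟨b, hbA, hb1, hba⟩ : ∃ b ∈ A, b ≠ 1 ∧ b ≠ a := by
    by_contra hc
    push Not at hc
    have : (A : Set ↥K) ⊆ {1, a} := fun x hx => by
      by_cases hx1 : x = 1
      · exact Or.inl hx1
      · exact Or.inr (hc x hx hx1)
    have h2 := Set.ncard_le_ncard this (Set.toFinite _)
    rw [← Nat.card_coe_set_eq, Set.ncard_pair (Ne.symm ha1)] at h2
    change Nat.card A ≤ 2 at h2
    omega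
  have k := four_isKlein (P := ↥K) (a := a) (b := b) (by rw [← pow_two]; exact hA2 a haA)
    (by rw [← pow_two]; exact hA2 b hbA) (congrArg Subtype.val (hA.is_comm.comm ⟨a, haA⟩ ⟨b, hbA⟩))
    ha1 hb1 (Ne.symm hba)
  exact ⟨_, klein_of_equiv ((Subgroup.closure ({a, b} : Set ↥K)).equivMapOfInjective K.subtype
    K.subtype_injective) k, Subgroup.map_subtype_le _⟩

theorem rank_of_top {G : Type*} [Group G] (h : Cfsg.PRankLE 2 1 (⊤ : Subgroup G)) :
    Cfsg.PRankLE 2 1 G := by
  intro A hA hA2
  have e : A.subgroupOf (⊤ : Subgroup G) ≃* A := Subgroup.subgroupOfEquivOfLe le_top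
  have := h (A.subgroupOf ⊤) ⟨⟨fun x y => e.injective (by
    rw [map_mul, map_mul]; exact hA.is_comm.comm _ _)⟩⟩ (fun a ha => Subtype.ext (hA2 a ha))
  rwa [Nat.card_congr e.toEquiv] at this

theorem chain_symm {G : Type*} [Group G] {A B : Subgroup G} (h : Relation.ReflTransGen R A B) :
    Relation.ReflTransGen R B A := by
  induction h with
  | refl => exact .refl
  | tail _ h2 ih => exact ih.head ⟨h2.2.1, h2.1, fun a ha b hb => (h2.2.2 b hb a ha).symm⟩

theorem cj_chain {G : Type*} [Group G] (g : G) {A B : Subgroup G} (h : Relation.ReflTransGen R A B) :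
    Relation.ReflTransGen R (cj g A) (cj g B) := by
  refine Relation.ReflTransGen.lift (fun K => cj g K) ?_ _ _ h
  rintro X Y ⟨hX, hY, hc⟩
  refine ⟨cj_klein g X hX, cj_klein g Y hY, ?_⟩
  rintro _ ⟨x, hx, rfl⟩ _ ⟨y, hy, rfl⟩
  rw [← map_mul, ← map_mul, hc x hx y hy]

theorem lift_chain {G : Type*} [Group G] (S : Subgroup G) (hS : Cfsg.IsFourConnected S)
    (U V : Subgroup G) (hU : IsKleinFour U) (hV : IsKleinFour V) (hUS : U ≤ S) (hVS : V ≤ S) :
    Relation.ReflTransGen R U V := by
  have h := hS (U.subgroupOf S) (V.subgroupOf S)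
    (klein_of_equiv (Subgroup.subgroupOfEquivOfLe hUS).symm hU)
    (klein_of_equiv (Subgroup.subgroupOfEquivOfLe hVS).symm hV)
  have h' := Relation.ReflTransGen.lift (fun K : Subgroup S => K.map S.subtype) (p := R) ?_ _ _ h
  · simpa [Function.onFun, Subgroup.map_subgroupOf_eq_of_le hUS, Subgroup.map_subgroupOf_eq_of_le hVS] using h'
  rintro X Y ⟨hX, hY, hc⟩
  refine ⟨klein_of_equiv (X.equivMapOfInjective _ S.subtype_injective) hX,
    klein_of_equiv (Y.equivMapOfInjective _ S.subtype_injective) hY, ?_⟩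
  rintro _ ⟨x, hx, rfl⟩ _ ⟨y, hy, rfl⟩
  exact congrArg Subtype.val (hc x hx y hy)

theorem lt_inf_normalizer {G : Type*} [Group G] [Finite G] {P D : Subgroup G} (hP : IsPGroup 2 P)
    (h : D < P) : D < Subgroup.normalizer (D : Set G) ⊓ P := by
  haveI : Fact (Nat.Prime 2) := ⟨Nat.prime_two⟩
  haveI : Group.IsNilpotent P := hP.isNilpotent
  have hlt : D.subgroupOf P < ⊤ := lt_top_iff_ne_top.mpr fun e =>
    not_le_of_gt h (Subgroup.subgroupOf_eq_top.mp e)
  obtain ⟨g, hg, hgD⟩ := SetLike.exists_of_lt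
    (Group.normalizerCondition_of_isNilpotent (G := P) _ hlt)
  refine lt_of_le_of_ne (le_inf Subgroup.le_normalizer h.le) fun e => hgD ?_
  rw [Subgroup.mem_subgroupOf, e]
  refine ⟨Subgroup.mem_normalizer_iff.mpr fun d => ⟨fun hd => ?_, fun hd => ?_⟩, g.2⟩
  · have := (Subgroup.mem_normalizer_iff.mp hg ⟨d, h.le hd⟩).mp hd
    exact this
  · have hdP : d ∈ P := by
      simpa [mul_assoc] using P.mul_mem (P.mul_mem (P.inv_mem g.2) (h.le hd)) g.2
    exact (Subgroup.mem_normalizer_iff.mp hg ⟨d, hdP⟩).mpr hd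

theorem card_lt_of_lt {G : Type*} [Group G] [Finite G] {A B : Subgroup G} (h : A < B) :
    Nat.card A < Nat.card B :=
  lt_of_not_ge fun hge => h.ne (Subgroup.eq_of_le_of_card_ge h.le hge)

theorem mem_core {G : Type*} [Group G] [Finite G] (S : Sylow 2 G) (M : Subgroup G)
    (hM : ∀ g : G, ∀ Q : Subgroup G, Q ≤ S → ¬ Cfsg.PRankLE 2 1 Q →
      g ∈ Subgroup.normalizer (Q : Set G) → g ∈ M) :
    ∀ h : G, ¬ Cfsg.PRankLE 2 1 ↥((S : Subgroup G) ⊓ cj h (S : Subgroup G)) → h ∈ M := by
  classical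
  haveI : Fact (Nat.Prime 2) := ⟨Nat.prime_two⟩
  suffices ∀ n h, Nat.card (S : Subgroup G) - Nat.card ↥((S : Subgroup G) ⊓ cj h (S : Subgroup G)) = n →
      ¬ Cfsg.PRankLE 2 1 ↥((S : Subgroup G) ⊓ cj h (S : Subgroup G)) → h ∈ M from fun h => this _ h rfl
  intro n
  induction n using Nat.strong_induction_on with
  | _ n ih =>
    intro h hn hr
    set D := (S : Subgroup G) ⊓ cj h (S : Subgroup G) with hD
    obtain ⟨U, hU, hUD⟩ := exists_four hr
    have hcard : Nat.card ↥(cj h (S : Subgroup G)) = Nat.card (S : Subgroup G) :=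
      Subgroup.card_map_of_injective (MulAut.conj h).injective
    rcases eq_or_lt_of_le (inf_le_left : D ≤ (S : Subgroup G)) with hDS | hDS
    · have e : cj h (S : Subgroup G) = S :=
        (Subgroup.eq_of_le_of_card_ge (hDS.symm.le.trans inf_le_right) hcard.le).symm
      refine hM h S le_rfl (rank_of_four hU (hUD.trans hDS.le)) (Subgroup.mem_normalizer_iff.mpr fun x => ?_)
      constructor
      · intro hx
        exact e.le ⟨x, hx, rfl⟩
      · intro hx
        obtain ⟨y, hy, hyx⟩ := e.ge hx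
        have e2 : y = x := by simpa using hyx
        exact e2 ▸ hy
    have hDh : D < cj h (S : Subgroup G) := by
      refine lt_of_le_of_ne inf_le_right fun e => absurd (hcard) ?_
      have := Subgroup.card_le_of_le hDS.le
      intro hc
      have e2 : Nat.card D = Nat.card ↥(cj h (S : Subgroup G)) := congrArg (fun K : Subgroup G => Nat.card K) e
      exact hDS.ne (Subgroup.eq_of_le_of_card_ge hDS.le (by rw [e2, hc]))
    have hA := lt_inf_normalizer S.2 hDS
    have hB := lt_inf_normalizer (S.2.map _) hDh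
    set N := Subgroup.normalizer (D : Set G) with hNdef
    have hApg : IsPGroup 2 ↥((N ⊓ (S : Subgroup G)).subgroupOf N) :=
      (S.2.to_le inf_le_right).comap_of_injective N.subtype N.subtype_injective
    have hBpg : IsPGroup 2 ↥((N ⊓ cj h (S : Subgroup G)).subgroupOf N) :=
      ((S.2.map _).to_le inf_le_right).comap_of_injective N.subtype N.subtype_injective
    obtain ⟨T, hT⟩ := hApg.exists_le_sylow
    obtain ⟨R', hR'⟩ := hBpg.exists_le_sylow
    obtain ⟨nn, hnn⟩ := MulAction.exists_smul_eq N T R'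
    obtain ⟨P, hP⟩ := (R'.2.map N.subtype).exists_le_sylow
    obtain ⟨k, hk⟩ := MulAction.exists_smul_eq G S P
    rw [← hk, sylow_smul] at hP
    have hnM : (nn : G) ∈ M := hM _ D hDS.le hr nn.2
    have more : ∀ g, ¬ Cfsg.PRankLE 2 1 ↥((S : Subgroup G) ⊓ cj g (S : Subgroup G)) →
        Nat.card D < Nat.card ↥((S : Subgroup G) ⊓ cj g (S : Subgroup G)) → g ∈ M := fun g hg hlt =>
      ih _ (by
        have := Subgroup.card_le_of_le hDS.le
        have h5 : Nat.card ↥((S : Subgroup G) ⊓ cj g (S : Subgroup G)) ≤ Nat.card (S : Subgroup G) :=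
          Subgroup.card_le_of_le inf_le_left
        omega) g rfl hg
    have hk1 : (nn : G)⁻¹ * k ∈ M := by
      have hle : N ⊓ (S : Subgroup G) ≤ (S : Subgroup G) ⊓ cj ((nn : G)⁻¹ * k) (S : Subgroup G) := by
        refine le_inf inf_le_right fun x hx => ?_
        have h1 : nn * (⟨x, hx.1⟩ : N) * nn⁻¹ ∈ (R' : Subgroup N) := by
          rw [← hnn]
          exact ⟨_, hT (Subgroup.mem_subgroupOf.mpr hx), rfl⟩
        obtain ⟨s, hs, hse⟩ := hP ⟨_, h1, rfl⟩
        refine ⟨s, hs, ?_⟩
        simp only [MulEquiv.coe_toMonoidHom, MulAut.conj_apply, Subgroup.coe_subtype, Subgroup.coe_mul,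
          Subgroup.coe_inv] at hse ⊢
        calc (nn : G)⁻¹ * k * s * ((nn : G)⁻¹ * k)⁻¹ = (nn : G)⁻¹ * (k * s * k⁻¹) * nn := by group
          _ = x := by rw [hse]; group
      exact more _ (rank_of_four hU ((hUD.trans hA.le).trans hle))
        (lt_of_lt_of_le (card_lt_of_lt hA) (Subgroup.card_le_of_le hle))
    have hkM : k ∈ M := by simpa [← mul_assoc] using M.mul_mem hnM hk1
    have hk2 : k⁻¹ * h ∈ M := by
      have hBk : N ⊓ cj h (S : Subgroup G) ≤ cj k (S : Subgroup G) := fun x hx =>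
        hP ⟨⟨x, hx.1⟩, hR' (Subgroup.mem_subgroupOf.mpr hx), rfl⟩
      have hle : cj k⁻¹ (N ⊓ cj h (S : Subgroup G)) ≤
          (S : Subgroup G) ⊓ cj (k⁻¹ * h) (S : Subgroup G) := by
        refine le_inf ?_ ?_
        · have := Subgroup.map_mono (f := (MulAut.conj k⁻¹).toMonoidHom) hBk
          change cj k⁻¹ _ ≤ cj k⁻¹ (cj k (S : Subgroup G)) at this
          rwa [cj_cj, inv_mul_cancel, cj_one] at this
        · rw [← cj_cj]; exact Subgroup.map_mono inf_le_right
      refine more _ (rank_of_four (cj_klein _ U hU) ((Subgroup.map_mono (hUD.trans hB.le)).trans hle)) ?_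
      refine lt_of_lt_of_le ?_ (Subgroup.card_le_of_le hle)
      rw [Subgroup.card_map_of_injective (MulAut.conj k⁻¹).injective]
      exact card_lt_of_lt hB
    simpa [← mul_assoc] using M.mul_mem hkM hk2


/-- Let G be a finite group of 2-rank at least 2 and S a Sylow 2-subgroup whose commuting graph of Klein four-subgroups is
connected. Then the commuting graph of Klein four-subgroups of G is disconnected if and only if the 2-generated core — the
subgroup generated by the normalizers N_G(Q) of the subgroups Q of S that contain a Klein four-group — is a proper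
subgroup of G. -/
theorem result {G : Type*} [Group G] [Finite G] (h2 : ¬ Cfsg.PRankLE 2 1 G)
    (S : Sylow 2 G) (hS : Cfsg.IsFourConnected (S : Subgroup G)) :
    ¬ Cfsg.IsFourConnected G ↔
      (⨆ Q : {Q : Subgroup G // Q ≤ (S : Subgroup G) ∧ ¬ Cfsg.PRankLE 2 1 Q},
          Subgroup.normalizer ((Q : Subgroup G) : Set G)) ≠ ⊤ := by
  classical
  set M : Subgroup G := ⨆ Q : {Q : Subgroup G // Q ≤ (S : Subgroup G) ∧ ¬ Cfsg.PRankLE 2 1 Q},
          Subgroup.normalizer ((Q : Subgroup G) : Set G) with hMdef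
  obtain ⟨U0, hU0, hU0S⟩ : ∃ U : Subgroup G, IsKleinFour U ∧ U ≤ (S : Subgroup G) := by
    obtain ⟨U, hU, -⟩ := exists_four (K := (⊤ : Subgroup G)) (fun h => h2 (rank_of_top h))
    obtain ⟨P, hP⟩ := (klein_pgroup U hU).exists_le_sylow
    obtain ⟨g, hg⟩ := MulAction.exists_smul_eq G P S
    refine ⟨cj g U, cj_klein g U hU, ?_⟩
    rw [← hg, sylow_smul]
    exact Subgroup.map_mono hP
  have inS : ∀ U V : Subgroup G, IsKleinFour U → IsKleinFour V → U ≤ S → V ≤ S →
      Relation.ReflTransGen R U V := fun U V hU hV hUS hVS => lift_chain (S : Subgroup G) hS U V hU hV hUS hVS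
  have coreMem : ∀ g : G, ∀ Q : Subgroup G, Q ≤ S → ¬ Cfsg.PRankLE 2 1 Q →
      g ∈ Subgroup.normalizer (Q : Set G) → g ∈ M := fun g Q h1 h3 hg =>
    (le_iSup (fun Q : {Q : Subgroup G // Q ≤ (S : Subgroup G) ∧ ¬ Cfsg.PRankLE 2 1 Q} =>
      Subgroup.normalizer ((Q : Subgroup G) : Set G)) ⟨Q, h1, h3⟩) hg
  constructor
  · intro hG hM
    apply hG
    have hK : ∀ g : G, g ∈ M → ∀ V, Relation.ReflTransGen R U0 V →
        Relation.ReflTransGen R U0 (cj g V) := by
      let K : Submonoid G :=
        { carrier := {g | ∀ V, Relation.ReflTransGen R U0 V → Relation.ReflTransGen R U0 (cj g V)}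
          one_mem' := fun V hV => by rwa [cj_one]
          mul_mem' := fun {a b} ha hb V hV => by rw [← cj_cj]; exact ha _ (hb _ hV) }
      intro g hg
      have : g ∈ K := by
        rw [hMdef] at hg
        refine Subgroup.iSup_induction _ (C := fun x => x ∈ K) hg ?_ K.one_mem
          fun x y hx hy => K.mul_mem hx hy
        intro Q x hx
        · intro V hV
          obtain ⟨U, hU, hUQ⟩ := exists_four Q.2.2
          have h1 : cj x U ≤ (Q : Subgroup G) := by
            rintro _ ⟨u, hu, rfl⟩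
            exact (Subgroup.mem_normalizer_iff.mp hx u).mp (hUQ hu)
          refine (inS U0 (cj x U) hU0 (cj_klein x U hU) hU0S (h1.trans Q.2.1)).trans ?_
          exact cj_chain x (((inS U0 U hU0 hU hU0S (hUQ.trans Q.2.1)) |> chain_symm).trans hV)
      exact this
    intro U V hU hV
    have main : ∀ W : Subgroup G, IsKleinFour W → Relation.ReflTransGen R U0 W := by
      intro W hW
      obtain ⟨P, hP⟩ := (klein_pgroup W hW).exists_le_sylow
      obtain ⟨g, hg⟩ := MulAction.exists_smul_eq G P S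
      have h1 : cj g W ≤ (S : Subgroup G) := by
        rw [← hg, sylow_smul]; exact Subgroup.map_mono hP
      have h3 := hK g⁻¹ (hM ▸ Subgroup.mem_top _) _ (inS U0 _ hU0 (cj_klein g W hW) hU0S h1)
      rwa [cj_cj, inv_mul_cancel, cj_one] at h3
    exact (chain_symm (main U hU)).trans (main V hV)
  · intro hM hG
    apply hM
    have sylowStep := mem_core S M coreMem
    have step : ∀ W : Subgroup G, Relation.ReflTransGen R U0 W →
        ∃ m ∈ M, W ≤ cj m (S : Subgroup G) := by
      intro W hW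
      induction hW with
      | refl => exact ⟨1, M.one_mem, by rwa [cj_one]⟩
      | @tail A B _ hAB ih =>
        obtain ⟨m, hm, hmA⟩ := ih
        have hp : IsPGroup 2 ↥(A ⊔ B) := IsPGroup.to_sup_of_normal_left' (klein_pgroup A hAB.1)
          (klein_pgroup B hAB.2.1) (fun b hb => Subgroup.mem_normalizer_iff.mpr fun a =>
            ⟨fun ha => by rw [← hAB.2.2 a ha b hb, mul_inv_cancel_right]; exact ha,
             fun ha => by
              have h := hAB.2.2 _ ha b hb
              have e : b * a * b⁻¹ = a := by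
                calc b * a * b⁻¹ = b⁻¹ * (b * (b * a * b⁻¹)) := by group
                  _ = b⁻¹ * ((b * a * b⁻¹) * b) := by rw [h]
                  _ = a := by group
              rwa [e] at ha⟩)
        obtain ⟨P, hP⟩ := hp.exists_le_sylow
        obtain ⟨g, hg⟩ := MulAction.exists_smul_eq G S P
        rw [← hg, sylow_smul] at hP
        refine ⟨g, ?_, le_trans le_sup_right hP⟩
        have h1 : cj m⁻¹ A ≤ (S : Subgroup G) ⊓ cj (m⁻¹ * g) (S : Subgroup G) := by
          refine le_inf ?_ ?_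
          · have := Subgroup.map_mono (f := (MulAut.conj m⁻¹).toMonoidHom) hmA
            change cj m⁻¹ A ≤ cj m⁻¹ (cj m (S : Subgroup G)) at this
            rwa [cj_cj, inv_mul_cancel, cj_one] at this
          · rw [← cj_cj]; exact Subgroup.map_mono (le_trans le_sup_left hP)
        have h3 := sylowStep (m⁻¹ * g) (rank_of_four (cj_klein m⁻¹ A hAB.1) h1)
        simpa [← mul_assoc] using M.mul_mem hm h3
    rw [eq_top_iff]
    intro g _
    obtain ⟨m, hm, hle⟩ := step (cj g U0) (hG U0 _ hU0 (cj_klein g U0 hU0))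
    have h1 : cj m⁻¹ (cj g U0) ≤ (S : Subgroup G) ⊓ cj (m⁻¹ * g) (S : Subgroup G) := by
      refine le_inf ?_ ?_
      · have := Subgroup.map_mono (f := (MulAut.conj m⁻¹).toMonoidHom) hle
        change cj m⁻¹ (cj g U0) ≤ cj m⁻¹ (cj m (S : Subgroup G)) at this
        rwa [cj_cj m⁻¹ m, inv_mul_cancel, cj_one] at this
      · rw [cj_cj]; exact Subgroup.map_mono hU0S
    have h3 := sylowStep (m⁻¹ * g) (rank_of_four (cj_klein _ _ (cj_klein _ _ hU0)) h1)
    simpa [← mul_assoc] using M.mul_mem hm h3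


end Cfsg.Agent.S0520
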