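import Cfsg.Statements.S0521
import Cfsg.Agent.Lib.PCore.Basic
import Cfsg.Agent.Lib.PCore.PSolvable
import Cfsg.Agent.Lib.PGroup.Frattini
import Cfsg.Agent.Lib.Coprime.Commutator
import Cfsg.Agent.Lib.Involutions.BaerSuzuki

set_option autoImplicit false
open Cfsg

namespace Cfsg.Agent.S0521

open scoped commutatorElement

universe v

/-- Two opposite unit transvections give a map sending `a` to `a⁻¹` in two steps. -/
theorem rot_sq {Y : Type*} [Group Y] {a b s t : Y} (hab : Commute a b)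
    (hsa : s * a * s⁻¹ = a) (hsb : s * b * s⁻¹ = b * a)
    (htb : t * b * t⁻¹ = b) (hta : t * a * t⁻¹ = a * b⁻¹) :
    (s * t * s) * ((s * t * s) * a * (s * t * s)⁻¹) * (s * t * s)⁻¹ = a⁻¹ := by
  have hbi : ∀ h : Y, h * b⁻¹ * h⁻¹ = (h * b * h⁻¹)⁻¹ := fun h => by group
  have e1 : (s * t * s) * a * (s * t * s)⁻¹ = b⁻¹ := by
    calc (s * t * s) * a * (s * t * s)⁻¹ = s * (t * (s * a * s⁻¹) * t⁻¹) * s⁻¹ := by group
      _ = s * (a * b⁻¹) * s⁻¹ := by rw [hsa, hta]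
      _ = (s * a * s⁻¹) * (s * b⁻¹ * s⁻¹) := by group
      _ = a * (b * a)⁻¹ := by rw [hbi, hsa, hsb]
      _ = b⁻¹ := by group
  have e2 : (s * t * s) * b * (s * t * s)⁻¹ = a := by
    calc (s * t * s) * b * (s * t * s)⁻¹ = s * (t * (s * b * s⁻¹) * t⁻¹) * s⁻¹ := by group
      _ = s * ((t * b * t⁻¹) * (t * a * t⁻¹)) * s⁻¹ := by rw [hsb]; group
      _ = s * a * s⁻¹ := by
          rw [htb, hta, show b * (a * b⁻¹) = a by rw [← mul_assoc, ← hab.eq, mul_inv_cancel_right]]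
      _ = a := hsa
  rw [e1, hbi, e2]

theorem fix_a {Y : Type*} [Group Y] {p : ℕ} [Fact p.Prime] {a x : Y} (hx : ∃ k, x ^ p ^ k = 1)
    (hap : a ^ p = 1) {m : ℕ} (h : x * a * x⁻¹ = a ^ m) : x * a * x⁻¹ = a := by
  obtain ⟨k, hk⟩ := hx
  have hit : ∀ j : ℕ, x ^ j * a * (x ^ j)⁻¹ = a ^ m ^ j := by
    intro j
    induction j with
    | zero => simp
    | succ j ih =>
      calc x ^ (j + 1) * a * (x ^ (j + 1))⁻¹ = x * (x ^ j * a * (x ^ j)⁻¹) * x⁻¹ := by
            rw [pow_succ']; group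
        _ = (x * a * x⁻¹) ^ (m ^ j) := by rw [ih, conj_pow]
        _ = a ^ m ^ (j + 1) := by rw [h, ← pow_mul, pow_succ']
  by_cases ha1 : a = 1
  · subst ha1; group
  have h1 := hit (p ^ k)
  rw [hk, inv_one, one_mul, mul_one] at h1
  conv_lhs at h1 => rw [← pow_one a]
  have hmod : ∀ {i j : ℕ}, a ^ i = a ^ j ↔ (i : ZMod p) = (j : ZMod p) := by
    intro i j
    rw [pow_eq_pow_iff_modEq, orderOf_eq_prime hap ha1, ZMod.natCast_eq_natCast_iff]
  rw [hmod, Nat.cast_pow, ZMod.pow_card_pow, Nat.cast_one] at h1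
  rw [h]
  conv_rhs => rw [← pow_one a]
  rw [hmod, Nat.cast_one, ← h1]

/-- Powers of a group element that moves `a` only along `b` and moves everything along `a` and `b`. -/
theorem pow_sq_commute {Y : Type*} [Group Y] {p : ℕ} {a b h : Y} (hab : Commute a b)
    (hap : a ^ p = 1) (hbp : b ^ p = 1) (hb : h * b * h⁻¹ = b)
    (ha : ∃ j : ℕ, h * a * h⁻¹ = a * b ^ j) {v : Y} {i j : ℕ}
    (hv : h ^ p * v * (h ^ p)⁻¹ = v * (a ^ i * b ^ j)) : h ^ (p * p) * v * (h ^ (p * p))⁻¹ = v := by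
  obtain ⟨c, hc⟩ := ha
  have hbn : ∀ n : ℕ, h ^ n * b * (h ^ n)⁻¹ = b := by
    intro n
    induction n with
    | zero => simp
    | succ n ih =>
      calc h ^ (n + 1) * b * (h ^ (n + 1))⁻¹ = h * (h ^ n * b * (h ^ n)⁻¹) * h⁻¹ := by
            rw [pow_succ']; group
        _ = b := by rw [ih, hb]
  have hpa : ∀ n : ℕ, h ^ n * a * (h ^ n)⁻¹ = a * b ^ (c * n) := by
    intro n
    induction n with
    | zero => simp
    | succ n ih =>
      calc h ^ (n + 1) * a * (h ^ (n + 1))⁻¹ = h * (h ^ n * a * (h ^ n)⁻¹) * h⁻¹ := by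
            rw [pow_succ']; group
        _ = (h * a * h⁻¹) * (h * b ^ (c * n) * h⁻¹) := by rw [ih]; group
        _ = a * b ^ (c * (n + 1)) := by rw [hc, ← conj_pow, hb, mul_assoc, ← pow_add]; ring_nf
  set g := h ^ p with hg
  have hga : g * a * g⁻¹ = a := by rw [hg, hpa, mul_comm c, pow_mul, hbp, one_pow, mul_one]
  have hgb : g * b * g⁻¹ = b := hbn p
  have hgw : g * (a ^ i * b ^ j) * g⁻¹ = a ^ i * b ^ j := by
    calc g * (a ^ i * b ^ j) * g⁻¹ = (g * a ^ i * g⁻¹) * (g * b ^ j * g⁻¹) := by group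
      _ = a ^ i * b ^ j := by rw [← conj_pow, ← conj_pow, hga, hgb]
  have hpv : ∀ n : ℕ, g ^ n * v * (g ^ n)⁻¹ = v * (a ^ i * b ^ j) ^ n := by
    intro n
    induction n with
    | zero => simp
    | succ n ih =>
      calc g ^ (n + 1) * v * (g ^ (n + 1))⁻¹ = g * (g ^ n * v * (g ^ n)⁻¹) * g⁻¹ := by
            rw [pow_succ']; group
        _ = (g * v * g⁻¹) * (g * (a ^ i * b ^ j) ^ n * g⁻¹) := by rw [ih]; group
        _ = v * (a ^ i * b ^ j) ^ (n + 1) := by
          rw [hv, ← conj_pow, hgw, mul_assoc, ← pow_succ']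
  rw [pow_mul, ← hg, hpv, (hab.pow_pow i j).mul_pow, ← pow_mul, ← pow_mul, mul_comm i, mul_comm j,
    pow_mul, pow_mul, hap, hbp, one_pow, one_pow, mul_one, mul_one]

theorem sylow_le_pCore {X : Type v} [Group X] [Finite X] [Group.IsSolvable X]
    (hX : Odd (Nat.card X)) (p : ℕ) [hp : Fact p.Prime] (S : Sylow p X)
    (hS : IsCyclic (commutator (S : Subgroup X))) (h0 : Cfsg.pPrimeCore p X = ⊥) :
    (S : Subgroup X) ≤ Cfsg.pCore p X := by
  classical
  set R := Cfsg.pCore p X with hR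
  have hRS : R ≤ (S : Subgroup X) := CfsgLib.PCore.pCore_le_sylow S
  have hRp : IsPGroup p R := CfsgLib.PCore.pCore_isPGroup
  have hRn : R.Normal := inferInstance
  have hCR : Subgroup.centralizer (R : Set X) ≤ R :=
    CfsgLib.PCore.centralizer_pCore_le CfsgLib.PCore.isPSolvable_of_isSolvable h0
  set Φ : Subgroup X := (frattini R).map R.subtype with hΦ
  have hΦn : Φ.Normal := inferInstance
  set f := QuotientGroup.mk' Φ with hf
  set V := R.map f with hV
  have hVn : V.Normal := hRn.map f (QuotientGroup.mk'_surjective Φ)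
  have hVc : ∀ u ∈ V, ∀ w ∈ V, Commute u w := by
    rintro _ ⟨r, hr, rfl⟩ _ ⟨r', hr', rfl⟩
    show f r * f r' = f r' * f r
    rw [← commutatorElement_eq_one_iff_mul_comm, ← map_commutatorElement]
    refine (QuotientGroup.eq_one_iff _).mpr ?_
    exact ⟨⁅(⟨r, hr⟩ : R), ⟨r', hr'⟩⁆, CfsgLib.PGroup.commutator_le_frattini hRp
      (Subgroup.commutator_mem_commutator (Subgroup.mem_top _) (Subgroup.mem_top _)), rfl⟩
  have hVp : ∀ u ∈ V, u ^ p = 1 := by
    rintro _ ⟨r, hr, rfl⟩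
    rw [← map_pow]
    exact (QuotientGroup.eq_one_iff _).mpr
      ⟨(⟨r, hr⟩ : R) ^ p, CfsgLib.PGroup.pow_mem_frattini hRp _, rfl⟩
  -- the kernel of the action on `V` lies in `R`
  have hker : ∀ x : X, (∀ u ∈ V, f x * u * (f x)⁻¹ = u) → x ∈ R := by
    set C := (Subgroup.centralizer (V : Set (X ⧸ Φ))).comap f with hC
    have hmem : ∀ x, x ∈ C ↔ ∀ u ∈ V, f x * u * (f x)⁻¹ = u := fun x => by
      rw [hC, Subgroup.mem_comap, Subgroup.mem_centralizer_iff]
      exact forall₂_congr fun u _ => by rw [mul_inv_eq_iff_eq_mul]; exact ⟨Eq.symm, Eq.symm⟩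
    intro x hx
    refine CfsgLib.PCore.le_pCore (N := C) ?_ ?_ ((hmem x).mpr hx)
    · exact (inferInstance : (Subgroup.centralizer (V : Set (X ⧸ Φ))).Normal).comap f
    · intro c
      obtain ⟨k, hk⟩ : ∃ k, Nat.card (Subgroup.zpowers (c : X)) = p ^ k := by
        refine ⟨_, Nat.eq_prime_pow_of_unique_prime_dvd Nat.card_pos.ne' fun {q} hq hqd => ?_⟩
        by_contra hqp
        have := Fact.mk hq
        obtain ⟨⟨z, hz⟩, hzo⟩ := exists_prime_orderOf_dvd_card' (G := Subgroup.zpowers (c : X)) q hqd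
        rw [Subgroup.orderOf_mk] at hzo
        have hzC : z ∈ C := (Subgroup.zpowers_le.mpr c.2) hz
        have hcz : Nat.card (Subgroup.zpowers z) = q := by rw [Nat.card_zpowers, hzo]
        have hle : Subgroup.zpowers z ≤ Subgroup.centralizer (R : Set X) := by
          refine CfsgLib.Coprime.le_centralizer_of_trivial_on_frattini _ R
            (by rw [Subgroup.normalizer_eq_top_iff.mpr hRn]; exact le_top) ?_ ?_
          · obtain ⟨m, hm⟩ := (hRp.to_subgroup (frattini R)).exists_card_eq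
            rw [hcz, hm]
            exact ((Nat.coprime_primes hq hp.out).mpr hqp).pow_right m
          · intro a ha r hr
            refine (QuotientGroup.eq_one_iff _).mp ?_
            show f (a * r * a⁻¹ * r⁻¹) = 1
            rw [map_mul, map_mul, map_mul, map_inv, map_inv,
              (hmem a).mp ((Subgroup.zpowers_le.mpr hzC) ha) _ ⟨r, hr, rfl⟩, mul_inv_cancel]
        obtain ⟨n, hn⟩ := hRp ⟨z, hCR (hle (Subgroup.mem_zpowers z))⟩
        have hd : q ∣ p ^ n := hzo ▸ orderOf_dvd_of_pow_eq_one (congrArg Subtype.val hn)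
        exact hqp ((Nat.prime_dvd_prime_iff_eq hq hp.out).mp (hq.dvd_of_dvd_pow hd))
      refine ⟨k, Subtype.ext ?_⟩
      rw [Subgroup.coe_pow, Subgroup.coe_one, ← hk, Nat.card_zpowers, pow_orderOf_eq_one]
  intro x hxS
  by_contra hxR
  have hpdvd : p ∣ Nat.card X := by
    have hx1 : (⟨x, hxS⟩ : (S : Subgroup X)) ≠ 1 := fun h =>
      hxR (by rw [show x = 1 from congrArg Subtype.val h]; exact one_mem _)
    obtain ⟨n, hn⟩ := S.isPGroup'.exists_card_eq
    refine (dvd_pow_self p (fun h => hx1 ?_)).trans (hn ▸ Subgroup.card_subgroup_dvd_card (S : Subgroup X))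
    have : Subsingleton (S : Subgroup X) := Finite.card_le_one_iff_subsingleton.mp (by rw [hn, h, pow_zero])
    exact Subsingleton.elim _ _
  have hp2 : p ≠ 2 := fun h => (Nat.not_even_iff_odd.mpr hX) (even_iff_two_dvd.mpr (h ▸ hpdvd))
  obtain ⟨g, hg⟩ : ∃ g : X, ¬ IsPGroup p (Subgroup.closure ({x, g * x * g⁻¹} : Set X)) := by
    by_contra hcon
    push Not at hcon
    obtain ⟨N, hN, hNp, hxN⟩ := CfsgLib.Involutions.exists_normal_isPGroup_of_mem hcon
    exact hxR (CfsgLib.PCore.le_pCore hN hNp hxN)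
  -- commutators with `x` lie in a group of order `p`
  have hcyc : ∃ a : X ⧸ Φ, a ∈ V ∧ ∀ u ∈ V, ∃ n : ℕ, f x * u * (f x)⁻¹ = u * a ^ n := by
    set M := ((commutator (S : Subgroup X)).map (S : Subgroup X).subtype).map f with hM
    have hMc : IsCyclic M := by
      rw [hM, Subgroup.map_map]
      exact isCyclic_of_surjective
        ((f.comp (S : Subgroup X).subtype).subgroupMap (commutator (S : Subgroup X)))
        (MonoidHom.subgroupMap_surjective _ _)
    have : IsCyclic ↥(V ⊓ M) :=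
      isCyclic_of_injective (Subgroup.inclusion (inf_le_right : V ⊓ M ≤ M)) (Subgroup.inclusion_injective _)
    obtain ⟨a, ha⟩ := IsCyclic.exists_generator (α := ↥(V ⊓ M))
    refine ⟨a, a.2.1, ?_⟩
    rintro _ ⟨r, hr, rfl⟩
    have hmem : f r⁻¹ * (f x * f r * (f x)⁻¹) ∈ V ⊓ M := by
      refine ⟨mul_mem ⟨r⁻¹, inv_mem hr, rfl⟩ (hVn.conj_mem _ ⟨r, hr, rfl⟩ _), ?_⟩
      refine ⟨r⁻¹ * (x * r * x⁻¹), ⟨⁅(⟨r, hRS hr⟩ : (S : Subgroup X))⁻¹, ⟨x, hxS⟩⁆,
        Subgroup.commutator_mem_commutator (Subgroup.mem_top _) (Subgroup.mem_top _), ?_⟩, by simp⟩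
      simp [commutatorElement_def, mul_assoc]
    obtain ⟨n, hn⟩ := Submonoid.mem_powers_iff _ _ |>.mp
      (mem_powers_iff_mem_zpowers.mpr (ha ⟨_, hmem⟩))
    refine ⟨n, ?_⟩
    have hn' := congrArg Subtype.val hn
    rw [Subgroup.coe_pow] at hn'
    calc f x * f r * (f x)⁻¹ = f r * (f r⁻¹ * (f x * f r * (f x)⁻¹)) := by rw [map_inv]; group
      _ = f r * (a : X ⧸ Φ) ^ n := congrArg (f r * ·) hn'.symm
  obtain ⟨a, haV, hxu⟩ := hcyc
  set g' := f g
  set X' := f x with hX'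
  set Y' := g' * X' * g'⁻¹ with hY'
  set b := g' * a * g'⁻¹ with hb
  have hbV : b ∈ V := hVn.conj_mem _ haV _
  have hyu : ∀ u ∈ V, ∃ n : ℕ, Y' * u * Y'⁻¹ = u * b ^ n := by
    intro u hu
    have hu' : g'⁻¹ * u * g' ∈ V := by simpa using hVn.conj_mem _ hu g'⁻¹
    obtain ⟨n, hn⟩ := hxu _ hu'
    refine ⟨n, ?_⟩
    calc Y' * u * Y'⁻¹ = g' * (X' * (g'⁻¹ * u * g') * X'⁻¹) * g'⁻¹ := by rw [hY']; group
      _ = u * (g' * a ^ n * g'⁻¹) := by rw [hn]; group
      _ = u * b ^ n := by rw [hb, conj_pow]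
  have hord : ∃ k, X' ^ p ^ k = 1 := by
    obtain ⟨k, hk⟩ := S.isPGroup' ⟨x, hxS⟩
    refine ⟨k, ?_⟩
    rw [hX', ← map_pow, show x ^ p ^ k = 1 from congrArg Subtype.val hk, map_one]
  have hord' : ∃ k, Y' ^ p ^ k = 1 := by
    obtain ⟨k, hk⟩ := hord
    exact ⟨k, by rw [hY', conj_pow, hk, mul_one, mul_inv_cancel]⟩
  have hxa : X' * a * X'⁻¹ = a := by
    obtain ⟨n, hn⟩ := hxu a haV
    exact fix_a hord (hVp a haV) (m := n + 1) (by rw [hn, pow_succ'])
  have hyb : Y' * b * Y'⁻¹ = b := by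
    obtain ⟨n, hn⟩ := hyu b hbV
    exact fix_a hord' (hVp b hbV) (m := n + 1) (by rw [hn, pow_succ'])
  obtain ⟨l, hl⟩ := hxu b hbV
  obtain ⟨r, hr⟩ := hyu a haV
  have hab : Commute a b := hVc a haV b hbV
  -- degenerate configurations generate `p`-groups
  have hdeg : ∀ {a b : X ⧸ Φ}, a ∈ V → b ∈ V → ∀ {x y : X},
      (∀ u ∈ V, ∃ n : ℕ, f x * u * (f x)⁻¹ = u * a ^ n) →
      (∀ u ∈ V, ∃ n : ℕ, f y * u * (f y)⁻¹ = u * b ^ n) →
      f x * a * (f x)⁻¹ = a → f x * b * (f x)⁻¹ = b → f y * b * (f y)⁻¹ = b →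
      IsPGroup p (Subgroup.closure ({x, y} : Set X)) := by
    intro a b haV hbV x y hx hy hxa hxb hyb
    have hab : Commute a b := hVc a haV b hbV
    let H : Submonoid X :=
      { carrier := {h | f h * b * (f h)⁻¹ = b ∧ (∃ j : ℕ, f h * a * (f h)⁻¹ = a * b ^ j) ∧
          ∀ u ∈ V, ∃ i j : ℕ, f h * u * (f h)⁻¹ = u * (a ^ i * b ^ j)}
        one_mem' := ⟨by simp, ⟨0, by simp⟩, fun u _ => ⟨0, 0, by simp⟩⟩
        mul_mem' := by
          rintro h k ⟨hb1, ⟨ja, hja⟩, hu1⟩ ⟨hb2, ⟨ka, hka⟩, hu2⟩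
          have econj : ∀ u, f (h * k) * u * (f (h * k))⁻¹ = f h * (f k * u * (f k)⁻¹) * (f h)⁻¹ :=
            fun u => by rw [map_mul]; group
          refine ⟨by rw [econj, hb2, hb1], ⟨ja + ka, ?_⟩, fun u hu => ?_⟩
          · rw [econj, hka, show f h * (a * b ^ ka) * (f h)⁻¹ = (f h * a * (f h)⁻¹) * (f h * b * (f h)⁻¹) ^ ka
              by rw [conj_pow]; group, hja, hb1, mul_assoc, ← pow_add]
          · obtain ⟨i2, j2, e2⟩ := hu2 u hu
            obtain ⟨i1, j1, e1⟩ := hu1 u hu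
            refine ⟨i1 + i2, j1 + (ja * i2 + j2), ?_⟩
            rw [econj, e2, show f h * (u * (a ^ i2 * b ^ j2)) * (f h)⁻¹ = (f h * u * (f h)⁻¹) *
              ((f h * a * (f h)⁻¹) ^ i2 * (f h * b * (f h)⁻¹) ^ j2) by rw [conj_pow, conj_pow]; group,
              e1, hja, hb1, (hab.pow_right ja).mul_pow, ← pow_mul, mul_assoc u,
              mul_assoc (a ^ i2) _ (b ^ j2), ← pow_add, (hab.pow_pow i2 j1).symm.mul_mul_mul_comm,
              ← pow_add, ← pow_add] }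
    have hxH : x ∈ H := ⟨hxb, ⟨0, by simpa using hxa⟩, fun u hu => by
      obtain ⟨n, hn⟩ := hx u hu; exact ⟨n, 0, by simpa using hn⟩⟩
    have hyH : y ∈ H := ⟨hyb, hy a haV, fun u hu => by
      obtain ⟨n, hn⟩ := hy u hu; exact ⟨0, n, by simpa using hn⟩⟩
    rintro ⟨h, hh⟩
    have hhH : h ∈ H := by
      have hh' : h ∈ (Subgroup.closure ({x, y} : Set X)).toSubmonoid := hh
      rw [Subgroup.closure_toSubmonoid_of_finite] at hh'
      exact Submonoid.closure_le.mpr (Set.insert_subset hxH (Set.singleton_subset_iff.mpr hyH)) hh'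
    have hpow : h ^ (p * p) ∈ R := by
      refine hker _ fun u hu => ?_
      rw [map_pow]
      obtain ⟨i, j, hij⟩ := (H.pow_mem hhH p).2.2 u hu
      rw [map_pow] at hij
      exact pow_sq_commute hab (hVp a haV) (hVp b hbV) hhH.1 hhH.2.1 hij
    obtain ⟨m, hm⟩ := hRp ⟨_, hpow⟩
    refine ⟨2 + m, Subtype.ext ?_⟩
    have hm' : (h ^ (p * p)) ^ p ^ m = 1 := congrArg Subtype.val hm
    rw [Subgroup.coe_pow, Subgroup.coe_one, pow_add, pow_two, pow_mul, hm']
  have hYeq : f (g * x * g⁻¹) = Y' := by simp [hY', g', X']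
  by_cases hl0 : p ∣ l
  · refine hg (hdeg haV hbV (x := x) (y := g * x * g⁻¹) hxu (by rwa [hYeq]) hxa ?_ (by rwa [hYeq]))
    obtain ⟨c, rfl⟩ := hl0
    show X' * b * X'⁻¹ = b
    rw [hl, pow_mul, hVp a haV, one_pow, mul_one]
  by_cases hr0 : p ∣ r
  · refine hg ?_
    rw [Set.pair_comm]
    refine hdeg hbV haV (x := g * x * g⁻¹) (y := x) (by rwa [hYeq]) hxu (by rwa [hYeq]) ?_ hxa
    obtain ⟨c, rfl⟩ := hr0
    rw [hYeq, hr, pow_mul, hVp b hbV, one_pow, mul_one]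
  -- otherwise some element of odd order inverts `a`
  have hmodeq : ∀ {z : X ⧸ Φ}, z ∈ V → ∀ {i j : ℕ}, (i : ZMod p) = (j : ZMod p) → z ^ i = z ^ j := by
    intro z hz i j h
    have h' : i ≡ j [MOD p] := (ZMod.natCast_eq_natCast_iff _ _ _).mp h
    rw [pow_eq_pow_iff_modEq]
    exact h'.of_dvd (orderOf_dvd_of_pow_eq_one (hVp z hz))
  have hit : ∀ {z w : X ⧸ Φ} {e : X ⧸ Φ} {n : ℕ}, e * z * e⁻¹ = z → e * w * e⁻¹ = w * z ^ n →
      ∀ i : ℕ, e ^ i * w * (e ^ i)⁻¹ = w * z ^ (n * i) ∧ e ^ i * z * (e ^ i)⁻¹ = z := by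
    intro z w e n hz hw i
    induction i with
    | zero => simp
    | succ i ih =>
      constructor
      · calc e ^ (i + 1) * w * (e ^ (i + 1))⁻¹ = e * (e ^ i * w * (e ^ i)⁻¹) * e⁻¹ := by
              rw [pow_succ']; group
          _ = (e * w * e⁻¹) * (e * z * e⁻¹) ^ (n * i) := by rw [ih.1, conj_pow]; group
          _ = w * z ^ (n * (i + 1)) := by rw [hw, hz, mul_assoc, ← pow_add]; ring_nf
      · calc e ^ (i + 1) * z * (e ^ (i + 1))⁻¹ = e * (e ^ i * z * (e ^ i)⁻¹) * e⁻¹ := by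
              rw [pow_succ']; group
          _ = z := by rw [ih.2, hz]
  have hl' : (l : ZMod p) ≠ 0 := fun h => hl0 ((ZMod.natCast_eq_zero_iff _ _).mp h)
  have hr' : (r : ZMod p) ≠ 0 := fun h => hr0 ((ZMod.natCast_eq_zero_iff _ _).mp h)
  obtain ⟨hs1, hs2⟩ := hit hxa hl ((l : ZMod p)⁻¹).val
  obtain ⟨ht1, ht2⟩ := hit hyb hr (-(r : ZMod p)⁻¹).val
  rw [hmodeq haV (j := 1) (by rw [Nat.cast_mul, ZMod.natCast_zmod_val, Nat.cast_one, mul_inv_cancel₀ hl']),
    pow_one] at hs1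
  rw [hmodeq hbV (j := p - 1) (by
      rw [Nat.cast_mul, ZMod.natCast_zmod_val, Nat.cast_sub hp.out.one_le, ZMod.natCast_self,
        Nat.cast_one, mul_neg, mul_inv_cancel₀ hr', zero_sub])] at ht1
  have hbinv : b ^ (p - 1) = b⁻¹ := by
    apply eq_inv_of_mul_eq_one_left
    rw [← pow_succ, Nat.sub_add_cancel hp.out.one_le, hVp b hbV]
  rw [hbinv] at ht1
  have hrot := rot_sq hab hs2 hs1 ht2 ht1
  set w := X' ^ ((l : ZMod p)⁻¹).val * Y' ^ (-(r : ZMod p)⁻¹).val * X' ^ ((l : ZMod p)⁻¹).val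
  have hwsq : ∀ k : ℕ, w ^ (2 * (2 * k + 1)) * a * (w ^ (2 * (2 * k + 1)))⁻¹ = a⁻¹ := by
    have hg2 : w ^ 2 * a * (w ^ 2)⁻¹ = a⁻¹ := by rw [pow_two, ← hrot]; group
    intro k
    induction k with
    | zero => simpa using hg2
    | succ k ih =>
      calc w ^ (2 * (2 * (k + 1) + 1)) * a * (w ^ (2 * (2 * (k + 1) + 1)))⁻¹
          = w ^ 2 * (w ^ 2 * (w ^ (2 * (2 * k + 1)) * a * (w ^ (2 * (2 * k + 1)))⁻¹) * (w ^ 2)⁻¹) * (w ^ 2)⁻¹ := by
            rw [show 2 * (2 * (k + 1) + 1) = 2 + 2 + 2 * (2 * k + 1) by ring, pow_add, pow_add]; group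
        _ = w ^ 2 * (w ^ 2 * a * (w ^ 2)⁻¹)⁻¹ * (w ^ 2)⁻¹ := by rw [ih]; group
        _ = w ^ 2 * a * (w ^ 2)⁻¹ := by rw [hg2, inv_inv]; exact hg2
        _ = a⁻¹ := hg2
  obtain ⟨k, hk⟩ : Odd (Nat.card (X ⧸ Φ)) := hX.of_dvd_nat (Subgroup.card_quotient_dvd_card Φ)
  have h1 := hwsq k
  rw [← hk, pow_mul', pow_card_eq_one', one_pow, one_mul, inv_one, mul_one] at h1
  have ha1 : a = 1 := by
    refine orderOf_eq_one_iff.mp (Nat.eq_one_of_dvd_coprimes
      ((Nat.coprime_primes hp.out Nat.prime_two).mpr hp2) (orderOf_dvd_of_pow_eq_one (hVp a haV))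
      (orderOf_dvd_of_pow_eq_one ?_))
    rw [pow_two]
    exact eq_inv_iff_mul_eq_one.mp h1
  refine hxR (hker x fun u hu => ?_)
  obtain ⟨n, hn⟩ := hxu u hu
  rw [hn, ha1, one_pow, mul_one]


/-- Let X be a finite solvable group of odd order, p a prime and S a Sylow p-subgroup of X whose commutator subgroup is
cyclic. Then the product of the largest normal subgroup of X of order prime to p with S is a normal subgroup of X. -/
theorem result {X : Type*} [Group X] [Finite X] [Group.IsSolvable X]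
    (hX : Odd (Nat.card X)) (p : ℕ) [Fact p.Prime] (S : Sylow p X) (hS : IsCyclic (commutator (S : Subgroup X))) :
    (Cfsg.pPrimeCore p X ⊔ (S : Subgroup X)).Normal := by
  have hp : p.Prime := Fact.out
  set K := Cfsg.pPrimeCore p X with hK
  set f := QuotientGroup.mk' K with hf
  have hsurj : Function.Surjective f := QuotientGroup.mk'_surjective K
  let T := S.mapSurjective hsurj
  have hT : (T : Subgroup (X ⧸ K)) = (S : Subgroup X).map f := rfl
  have hcyc : IsCyclic (commutator (T : Subgroup (X ⧸ K))) := by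
    have hmap : (commutator (S : Subgroup X)).map (f.subgroupMap (S : Subgroup X)) =
        commutator ((S : Subgroup X).map f) := by
      rw [commutator_def, Subgroup.map_commutator,
        Subgroup.map_top_of_surjective _ (MonoidHom.subgroupMap_surjective _ _), commutator_def]
    show IsCyclic (commutator ((S : Subgroup X).map f))
    rw [← hmap]
    exact isCyclic_of_surjective ((f.subgroupMap (S : Subgroup X)).subgroupMap _)
      (MonoidHom.subgroupMap_surjective _ _)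
  have hle := sylow_le_pCore (hX.of_dvd_nat (Subgroup.card_quotient_dvd_card K)) p T hcyc
    CfsgLib.PCore.pPrimeCore_quotient_pPrimeCore
  have heq : (S : Subgroup X).map f = Cfsg.pCore p (X ⧸ K) :=
    le_antisymm hle (CfsgLib.PCore.pCore_le_sylow T)
  have h2 : K ⊔ (S : Subgroup X) = ((S : Subgroup X).map f).comap f := by
    rw [Subgroup.comap_map_eq, hf, QuotientGroup.ker_mk', sup_comm]
  rw [h2, heq]
  exact (inferInstance : (Cfsg.pCore p (X ⧸ K)).Normal).comap f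


end Cfsg.Agent.S0521
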