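import Cfsg.Statements.S0522
import Cfsg.Agent.Lib.OddOrder.TransitivityLocal

set_option autoImplicit false
open Cfsg

namespace Cfsg.Agent.S0522

/-- Transitivity Theorem (odd-order setting). Let X be a finite group of odd order in which the normalizer of every
nontrivial p-subgroup is solvable, P a Sylow p-subgroup, and B an abelian subgroup of P, normalized by P, with
C_P(B) = B and containing an elementary abelian subgroup of order p^3. Then for every prime q ≠ p, any two q-subgroups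
that are maximal among the q-subgroups normalized by B are conjugate by an element of the centralizer of B. -/
theorem result {X : Type*} [Group X] [Finite X] (hX : Odd (Nat.card X)) (p : ℕ)
    [Fact p.Prime] (hloc : ∀ T : Subgroup X, IsPGroup p T → T ≠ ⊥ → Group.IsSolvable (Subgroup.normalizer (T : Set X)))
    (P : Sylow p X) (B : Subgroup X) (hBP : B ≤ (P : Subgroup X))
    (hBn : ∀ x ∈ (P : Subgroup X), ∀ b ∈ B, x * b * x⁻¹ ∈ B) (hBa : IsMulCommutative B)
    (hBc : (P : Subgroup X) ⊓ Subgroup.centralizer (B : Set X) = B)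
    (hB3 : ∃ E : Subgroup X, E ≤ B ∧ (∀ e ∈ E, e ^ p = 1) ∧ p ^ 3 ≤ Nat.card E)
    (q : ℕ) [Fact q.Prime] (hqp : q ≠ p) (Q₁ Q₂ : Subgroup X)
    (h₁ : IsPGroup q Q₁ ∧ B ≤ Subgroup.normalizer (Q₁ : Set X) ∧
      ∀ R : Subgroup X, IsPGroup q R → B ≤ Subgroup.normalizer (R : Set X) → Q₁ ≤ R → R = Q₁)
    (h₂ : IsPGroup q Q₂ ∧ B ≤ Subgroup.normalizer (Q₂ : Set X) ∧
      ∀ R : Subgroup X, IsPGroup q R → B ≤ Subgroup.normalizer (R : Set X) → Q₂ ≤ R → R = Q₂) :
    ∃ c ∈ Subgroup.centralizer (B : Set X), Q₂ = Q₁.map (MulAut.conj c).toMonoidHom := by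
  obtain ⟨E, hEB, hEe, hEc⟩ := hB3
  obtain ⟨k, hk⟩ : ∃ k, Nat.card E = p ^ k := (P.isPGroup'.to_le (hEB.trans hBP)).exists_card_eq
  have hk3 : 3 ≤ k := by
    rw [hk] at hEc
    exact (Nat.pow_le_pow_iff_right (Fact.out : p.Prime).one_lt).mp hEc
  obtain ⟨K, hK⟩ := Sylow.exists_subgroup_card_pow_prime p (show p ^ 3 ∣ Nat.card E from hk ▸ pow_dvd_pow p hk3)
  have hEab : IsMulCommutative (K.map E.subtype : Subgroup X) :=
    ⟨⟨fun a b => Subtype.ext (CfsgLib.OddOrder.mul_comm_of_mem hBa (hEB (Subgroup.map_subtype_le K a.2))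
      (hEB (Subgroup.map_subtype_le K b.2)))⟩⟩
  have hmax : ∀ Q : Subgroup X, (IsPGroup q Q ∧ B ≤ Subgroup.normalizer (Q : Set X) ∧
      ∀ R : Subgroup X, IsPGroup q R → B ≤ Subgroup.normalizer (R : Set X) → Q ≤ R → R = Q) →
      Q ∈ Cfsg.maxInvSubgroups ⊤ B {q} := fun Q hQ =>
    ⟨CfsgLib.OddOrder.Transitivity.mem_inv_iff.mpr ⟨hQ.1, hQ.2.1⟩, fun R hR hle =>
      hQ.2.2 R (CfsgLib.OddOrder.Transitivity.mem_inv_iff.mp hR).1
        (CfsgLib.OddOrder.Transitivity.mem_inv_iff.mp hR).2 hle⟩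
  exact CfsgLib.OddOrder.TransitivityLocal.conj_max hX hloc P hBa hBP
    (fun x hx => Subgroup.mem_normalizer_iff.mpr (fun b => ⟨hBn x hx b, fun h => by
      simpa [mul_assoc] using hBn x⁻¹ (inv_mem hx) _ h⟩))
    hBc ((Subgroup.map_subtype_le K).trans hEB) ⟨hEab, fun e he => hEe e (Subgroup.map_subtype_le K he)⟩
    (by rw [Subgroup.card_map_of_injective E.subtype_injective, hK]) hqp (hmax Q₁ h₁) (hmax Q₂ h₂)


end Cfsg.Agent.S0522
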