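import Cfsg.Statements.S0546
import Cfsg.Agent.Lib.Solvable.SystemNormalizer

set_option autoImplicit false
open Cfsg

namespace Cfsg.Agent.S0546

/-- The normal closure of a system normalizer of a finite solvable group is the whole group. -/
theorem result {G : Type*} [Group G] [Finite G] [Group.IsSolvable G] (K : Nat.Primes → Subgroup G) (hK : Cfsg.IsComplementSystem K) : Subgroup.normalClosure ((Cfsg.systemNormalizer K : Subgroup G) : Set G) = ⊤ := by
  set M := Subgroup.normalClosure ((Cfsg.systemNormalizer K : Subgroup G) : Set G) with hM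
  by_contra hne
  let f : G →* Abelianization (G ⧸ M) := Abelianization.of.comp (QuotientGroup.mk' M)
  have hf : Function.Surjective f :=
    (QuotientGroup.mk'_surjective _).comp (QuotientGroup.mk'_surjective M)
  have h1 := CfsgLib.SystemNormalizer.systemNormalizer_map hK hf
  have h2 : (Cfsg.systemNormalizer K).map f = ⊥ := by
    rw [Subgroup.map_eq_bot_iff]
    intro x hx
    rw [MonoidHom.mem_ker]
    show Abelianization.of (QuotientGroup.mk' M x) = 1
    have hxm : QuotientGroup.mk' M x = 1 :=
      (QuotientGroup.eq_one_iff x).2 (Subgroup.subset_normalClosure hx)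
    rw [hxm, map_one]
  have h3 : Cfsg.systemNormalizer (fun p => (K p).map f) = ⊤ := by
    refine eq_top_iff.2 fun y _ => ?_
    refine CfsgLib.SystemNormalizer.mem_iff.2 fun p => ?_
    have hconj : MulAut.conj y = 1 := MulEquiv.ext fun z => by
      rw [MulAut.conj_apply, mul_comm y z, mul_inv_cancel_right]
      rfl
    rw [hconj, one_smul]
  haveI : Nontrivial (G ⧸ M) := QuotientGroup.nontrivial_iff.2 hne
  have h4 : ∀ y : Abelianization (G ⧸ M), y = 1 := fun y => by
    have : y ∈ (⊤ : Subgroup (Abelianization (G ⧸ M))) := Subgroup.mem_top y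
    rwa [← h3, h1, h2, Subgroup.mem_bot] at this
  have h5 : commutator (G ⧸ M) = ⊤ := by
    refine eq_top_iff.2 fun y _ => ?_
    exact (QuotientGroup.eq_one_iff y).1 (h4 (Abelianization.of y))
  exact (Group.IsSolvable.commutator_lt_top_of_nontrivial (G ⧸ M)).ne h5

end Cfsg.Agent.S0546
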