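import Cfsg.Statements.S0547
import Cfsg.Agent.Lib.Solvable.CoreFreeMaximal

set_option autoImplicit false
open Cfsg

namespace Cfsg.Agent.S0547

/-- Let a finite solvable group G act faithfully and primitively on a set, and let M be a minimal normal subgroup of G. Then M is transitive with trivial point stabilizers, and the number of points equals the order of M, which is a prime power p ^ d with d ≥ 1. -/
theorem result {G : Type*} [Group G] [Finite G] [Group.IsSolvable G] {Ω : Type*} [Nonempty Ω] [MulAction G Ω] [FaithfulSMul G Ω] (hprim : MulAction.IsPreprimitive G Ω) (M : Subgroup G) [M.Normal] (hM : M ≠ ⊥) (hmin : ∀ K : Subgroup G, K.Normal → K ≤ M → K = ⊥ ∨ K = M) : MulAction.IsPretransitive M Ω ∧ (∀ ω : Ω, MulAction.stabilizer M ω = ⊥) ∧ ∃ p d : ℕ, p.Prime ∧ 0 < d ∧ Nat.card Ω = p ^ d ∧ Nat.card M = p ^ d := by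
  have hMm : CfsgLib.MinNormal.IsMinNormal M := ⟨inferInstance, hM, hmin⟩
  haveI := hMm.isMulCommutative
  obtain ⟨p, hp, -, -, d, hd, hcard⟩ := hMm.elementaryAbelian_of_solvable
  have hc : ∀ ω : Ω, Subgroup.IsComplement' M (MulAction.stabilizer G ω) := fun ω =>
    CfsgLib.CoreFreeMaximal.isComplement'_of_commutative
      (CfsgLib.CoreFreeMaximal.stabilizer_isCoatom hprim hM ω)
      (CfsgLib.CoreFreeMaximal.stabilizer_normalCore hprim ω) hM
  refine ⟨⟨fun x y => ?_⟩, fun ω => ?_, p, d, hp, hd, ?_, hcard⟩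
  · obtain ⟨g, rfl⟩ := MulAction.exists_smul_eq G x y
    obtain ⟨⟨m, h⟩, hg⟩ := ((hc x).existsUnique g).exists
    refine ⟨m, ?_⟩
    simp only at hg
    rw [← hg, mul_smul, MulAction.mem_stabilizer_iff.1 h.2]
    rfl
  · rw [eq_bot_iff]
    intro m hm
    exact Subtype.ext (Subgroup.disjoint_def.1 (hc ω).disjoint m.2 hm)
  · obtain ⟨ω⟩ := (inferInstance : Nonempty Ω)
    rw [← hcard, ← (hc ω).index_eq_card, MulAction.index_stabilizer_of_transitive]

end Cfsg.Agent.S0547
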