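import Cfsg.Statements.S0548
import Cfsg.Agent.Lib.Solvable.CoreFreeMaximal

set_option autoImplicit false
open Cfsg

namespace Cfsg.Agent.S0548

/-- Let a finite solvable group G act faithfully and primitively on a set, let M be a minimal normal subgroup and H the stabilizer of a point. Then H is a complement to M, no non-identity element of H centralizes M, and the only subgroups of M normalized by H are the trivial subgroup and M. -/
theorem result {G : Type*} [Group G] [Finite G] [Group.IsSolvable G] {Ω : Type*} [MulAction G Ω] [FaithfulSMul G Ω] (hprim : MulAction.IsPreprimitive G Ω) (M : Subgroup G) [M.Normal] (hM : M ≠ ⊥) (hmin : ∀ K : Subgroup G, K.Normal → K ≤ M → K = ⊥ ∨ K = M) (ω : Ω) : Subgroup.IsComplement' M (MulAction.stabilizer G ω) ∧ MulAction.stabilizer G ω ⊓ Subgroup.centralizer (M : Set G) = ⊥ ∧ ∀ K : Subgroup G, K ≤ M → MulAction.stabilizer G ω ≤ Subgroup.normalizer (K : Set G) → K = ⊥ ∨ K = M := by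
  have hMm : CfsgLib.MinNormal.IsMinNormal M := ⟨inferInstance, hM, hmin⟩
  haveI := hMm.isMulCommutative
  have hU := CfsgLib.CoreFreeMaximal.stabilizer_isCoatom hprim hM ω
  have hcore := CfsgLib.CoreFreeMaximal.stabilizer_normalCore hprim ω
  refine ⟨CfsgLib.CoreFreeMaximal.isComplement'_of_commutative hU hcore hM, ?_, ?_⟩
  · rw [inf_comm]; exact CfsgLib.CoreFreeMaximal.centralizer_inf_eq_bot hU hcore hM
  · intro K hK hnorm
    refine hmin K (CfsgLib.CoreFreeMaximal.normal_of_le_normalizer_sup ?_ hnorm
      (CfsgLib.CoreFreeMaximal.sup_eq_top_of_normal hU hcore hM)) hK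
    exact ((Subgroup.le_centralizer M).trans (Subgroup.centralizer_le (SetLike.coe_subset_coe.2 hK))).trans
      (Subgroup.centralizer_le_normalizer _)

end Cfsg.Agent.S0548
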