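import Cfsg.Statements.S0550
import Cfsg.Agent.Lib.Solvable.CoreFreeMaximal

set_option autoImplicit false
open Cfsg

namespace Cfsg.Agent.S0550

/-- Let U be a maximal subgroup with trivial normal core in a finite group G, and A ≠ B two minimal normal subgroups. Then A is the centralizer of B and B that of A, U complements each of them, A and B are non-abelian, and A, B and (A ⊔ B) ∩ U are pairwise isomorphic. -/
theorem result {G : Type*} [Group G] [Finite G] (U : Subgroup G) (hU : IsCoatom U) (hcore : U.normalCore = ⊥) (A B : Subgroup G) [A.Normal] [B.Normal] (hA : A ≠ ⊥) (hB : B ≠ ⊥) (hAmin : ∀ K : Subgroup G, K.Normal → K ≤ A → K = ⊥ ∨ K = A) (hBmin : ∀ K : Subgroup G, K.Normal → K ≤ B → K = ⊥ ∨ K = B) (hAB : A ≠ B) : Subgroup.centralizer (B : Set G) = A ∧ Subgroup.centralizer (A : Set G) = B ∧ Subgroup.IsComplement' A U ∧ Subgroup.IsComplement' B U ∧ ¬ IsMulCommutative A ∧ Nonempty (A ≃* B) ∧ Nonempty (A ≃* ↥((A ⊔ B) ⊓ U)) := by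
  have hinf : A ⊓ B = ⊥ := by
    rcases hAmin (A ⊓ B) inferInstance inf_le_left with h | h
    · exact h
    · rcases hBmin A inferInstance (inf_eq_left.1 h) with h' | h'
      · exact absurd h' hA
      · exact absurd h' hAB
  have hinf' : B ⊓ A = ⊥ := by rwa [inf_comm]
  have hAC := CfsgLib.CoreFreeMaximal.le_centralizer_of_inf_eq_bot hinf
  have hBC := CfsgLib.CoreFreeMaximal.le_centralizer_of_inf_eq_bot hinf'
  have hCB : Subgroup.centralizer (B : Set G) = A :=
    ((CfsgLib.CoreFreeMaximal.centralizer_minimal hU hcore hB (inferInstanceAs A.Normal) hAC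
      ).resolve_left hA).symm
  have hCA : Subgroup.centralizer (A : Set G) = B :=
    ((CfsgLib.CoreFreeMaximal.centralizer_minimal hU hcore hA (inferInstanceAs B.Normal) hBC
      ).resolve_left hB).symm
  have hAU : A ⊓ U = ⊥ := hCB ▸ CfsgLib.CoreFreeMaximal.centralizer_inf_eq_bot hU hcore hB
  have hBU : B ⊓ U = ⊥ := hCA ▸ CfsgLib.CoreFreeMaximal.centralizer_inf_eq_bot hU hcore hA
  have hsA := CfsgLib.CoreFreeMaximal.sup_eq_top_of_normal hU hcore hA
  have hsB := CfsgLib.CoreFreeMaximal.sup_eq_top_of_normal hU hcore hB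
  have hW : ∀ X : Subgroup G, X.Normal → X ⊔ U = ⊤ → X ≤ A ⊔ B →
      ((A ⊔ B) ⊓ U) ⊔ X = A ⊔ B := by
    intro X hX hs hle
    refine le_antisymm (sup_le inf_le_left hle) fun t ht => ?_
    have : t ∈ X ⊔ U := by rw [hs]; exact Subgroup.mem_top t
    obtain ⟨x, hx, u, hu, rfl⟩ := Subgroup.mem_sup_of_normal_left.1 this
    refine Subgroup.mul_mem _ (Subgroup.mem_sup_right hx) (Subgroup.mem_sup_left ⟨?_, hu⟩)
    simpa using Subgroup.mul_mem _ (Subgroup.inv_mem _ (hle hx)) ht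
  have hWA : ((A ⊔ B) ⊓ U) ⊓ A = ⊥ := by
    rw [eq_bot_iff, ← hAU]; exact le_inf inf_le_right (inf_le_left.trans inf_le_right)
  have hWB : ((A ⊔ B) ⊓ U) ⊓ B = ⊥ := by
    rw [eq_bot_iff, ← hBU]; exact le_inf inf_le_right (inf_le_left.trans inf_le_right)
  obtain ⟨eA⟩ := CfsgLib.CoreFreeMaximal.nonempty_mulEquiv_of_sup_eq hinf hWB
    (hW B inferInstance hsB le_sup_right).symm
  obtain ⟨eB⟩ := CfsgLib.CoreFreeMaximal.nonempty_mulEquiv_of_sup_eq hinf' hWA
    ((sup_comm B A).trans (hW A inferInstance hsA le_sup_left).symm)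
  refine ⟨hCB, hCA, ?_, ?_, ?_, ⟨eA.trans eB.symm⟩, ⟨eA⟩⟩
  · refine Subgroup.isComplement'_of_disjoint_and_mul_eq_univ (disjoint_iff.2 hAU) ?_
    rw [← Subgroup.normal_mul, hsA, Subgroup.coe_top]
  · refine Subgroup.isComplement'_of_disjoint_and_mul_eq_univ (disjoint_iff.2 hBU) ?_
    rw [← Subgroup.normal_mul, hsB, Subgroup.coe_top]
  · intro hab
    haveI := hab
    have h1 : A ≤ B := hCA ▸ Subgroup.le_centralizer A
    rw [inf_eq_left.2 h1] at hinf
    exact hA hinf

end Cfsg.Agent.S0550
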