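import Cfsg.Statements.S0552
import Cfsg.Agent.Lib.Solvable.Fitting

set_option autoImplicit false
open Cfsg

namespace Cfsg.Agent.S0552

/-- Let σ be an automorphism of a finite solvable group G fixing every element of the Fitting subgroup. If σ is not the identity then the order of σ and the order of G have a common prime factor. -/
theorem result {G : Type*} [Group G] [Finite G] [Group.IsSolvable G] (σ : G ≃* G) (hσ : ∀ x ∈ Cfsg.fittingSubgroup G, σ x = x) (hne : σ ≠ MulEquiv.refl G) : ¬ (orderOf σ).Coprime (Nat.card G) := by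
  intro hco
  refine hne (MulEquiv.ext fun g => ?_)
  set F := Cfsg.fittingSubgroup G
  haveI hFn : F.Normal := CfsgLib.Fitting.fitting_normal
  have hz : g⁻¹ * σ g ∈ F := by
    refine CfsgLib.Fitting.centralizer_fitting_le (Subgroup.mem_centralizer_iff.2 fun x hx => ?_)
    have h1 := hσ _ (hFn.conj_mem x hx g)
    rw [map_mul, map_mul, map_inv, hσ x hx] at h1
    calc x * (g⁻¹ * σ g) = g⁻¹ * (g * x * g⁻¹) * σ g := by group
      _ = g⁻¹ * (σ g * x * (σ g)⁻¹) * σ g := by rw [h1]
      _ = g⁻¹ * σ g * x := by group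
  set z := g⁻¹ * σ g with hzdef
  have hpow : ∀ n : ℕ, (σ ^ n) g = g * z ^ n := by
    intro n
    induction n with
    | zero => simp
    | succ n ih =>
      rw [pow_succ', MulAut.mul_apply, ih, map_mul, map_pow, hσ z hz,
        show σ g = g * z by rw [hzdef, mul_inv_cancel_left], pow_succ', mul_assoc]
  have h1 : z ^ orderOf σ = 1 := by
    have h := hpow (orderOf σ)
    rw [pow_orderOf_eq_one, MulAut.one_apply] at h
    exact mul_left_cancel (a := g) (h.symm.trans (mul_one g).symm)
  have hz1 : z = 1 := orderOf_eq_one_iff.1 (Nat.eq_one_of_dvd_coprimes hco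
    (orderOf_dvd_of_pow_eq_one h1) (orderOf_dvd_natCard z))
  show σ g = g
  rw [hzdef, inv_mul_eq_one] at hz1
  exact hz1.symm

end Cfsg.Agent.S0552
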