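import Cfsg.Statements.S0553
import Cfsg.Agent.Lib.Solvable.MinNormal

set_option autoImplicit false
open Cfsg

namespace Cfsg.Agent.S0553
open Subgroup in
theorem normal_sylow.{u} : ∀ (n : ℕ) {G : Type u} [Group G] [Finite G] [Group.IsSolvable G]
    [Nontrivial G], Nat.card G = n →
    (∀ M : Subgroup G, IsCoatom M → (Nat.card M).Coprime M.index) →
    ∃ p : ℕ, p.Prime ∧ p ∣ Nat.card G ∧ ∀ P : Sylow p G, (P : Subgroup G).Normal := by
  intro n
  induction n using Nat.strong_induction_on with
  | _ n ih =>
  intro G _ _ _ _ hn h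
  subst hn
  obtain ⟨N, hN⟩ := CfsgLib.MinNormal.exists_isMinNormal (G := G)
  haveI := hN.1
  obtain ⟨q, hq, -, hNq, k, hk, hcard⟩ := hN.elementaryAbelian_of_solvable
  haveI := Fact.mk hq
  have hqd : q ∣ Nat.card G :=
    ((dvd_pow_self q hk.ne').trans hcard.symm.dvd).trans (card_subgroup_dvd_card N)
  have hall : ∀ {p : ℕ} [Fact p.Prime] (P : Sylow p G), (P : Subgroup G).Normal →
      ∀ Q : Sylow p G, (Q : Subgroup G).Normal := by
    intro p _ P hP Q
    haveI := hP
    obtain ⟨g, hg⟩ := MulAction.exists_smul_eq G P Q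
    rw [← hg, Sylow.smul_eq_of_normal]
    exact hP
  by_cases hNt : N = ⊤
  · refine ⟨q, hq, hqd, fun P => ?_⟩
    have : (P : Subgroup G) = ⊤ := top_le_iff.1 (hNt ▸ hNq.le_sylow_of_normal P)
    rw [this]; infer_instance
  haveI : Nontrivial (G ⧸ N) := QuotientGroup.nontrivial_iff.2 hNt
  have hlt : Nat.card (G ⧸ N) < Nat.card G := by
    rw [card_eq_card_quotient_mul_card_subgroup N]
    exact lt_mul_of_one_lt_right Nat.card_pos ((one_lt_card_iff_ne_bot N).2 hN.2.1)
  have hsurj := QuotientGroup.mk'_surjective N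
  have hq' : ∀ M : Subgroup (G ⧸ N), IsCoatom M → (Nat.card M).Coprime M.index := by
    intro M hM
    have hker : N ≤ M.comap (QuotientGroup.mk' N) := fun x hx => by
      simp [(QuotientGroup.eq_one_iff x).2 hx]
    have hco : IsCoatom (M.comap (QuotientGroup.mk' N)) := by
      refine ⟨fun e => hM.1 ?_, fun K hK => ?_⟩
      · have := congrArg (Subgroup.map (QuotientGroup.mk' N)) e
        rwa [map_comap_eq_self_of_surjective hsurj, map_top_of_surjective _ hsurj] at this
      · have hKker : (QuotientGroup.mk' N).ker ≤ K := by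
          rw [QuotientGroup.ker_mk']; exact hker.trans hK.le
        have hlt' : M < K.map (QuotientGroup.mk' N) := by
          rw [← map_comap_eq_self_of_surjective hsurj M]
          exact lt_of_le_of_ne (map_mono hK.le) fun e => hK.ne (by
            have := congrArg (Subgroup.comap (QuotientGroup.mk' N)) e
            rwa [comap_map_eq_self hKker, comap_map_eq_self
              (by rw [QuotientGroup.ker_mk']; exact hker)] at this)
        have := congrArg (Subgroup.comap (QuotientGroup.mk' N)) (hM.2 _ hlt')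
        rwa [comap_map_eq_self hKker, comap_top] at this
    have h2 := h _ hco
    rw [index_comap_of_surjective _ hsurj] at h2
    refine h2.coprime_dvd_left ?_
    conv_lhs => rw [← map_comap_eq_self_of_surjective hsurj M]
    exact Subgroup.card_map_dvd (H := M.comap (QuotientGroup.mk' N)) (QuotientGroup.mk' N)
  obtain ⟨r, hr, hrd, hR⟩ := ih (Nat.card (G ⧸ N)) hlt (G := G ⧸ N) rfl hq'
  haveI := Fact.mk hr
  obtain ⟨P⟩ : Nonempty (Sylow r G) := inferInstance
  have hPN : ((P : Subgroup G) ⊔ N).Normal := by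
    have h1 := (hR (P.mapSurjective hsurj)).comap (QuotientGroup.mk' N)
    rw [Sylow.coe_mapSurjective, comap_map_eq, QuotientGroup.ker_mk'] at h1
    exact h1
  by_cases hrq : r = q
  · subst hrq
    refine ⟨r, hr, hqd, hall P ?_⟩
    rwa [sup_of_le_left (hNq.le_sylow_of_normal P)] at hPN
  by_cases hPt : normalizer ((P : Subgroup G) : Set G) = ⊤
  · exact ⟨r, hr, hrd.trans ⟨_, card_eq_card_quotient_mul_card_subgroup N⟩,
      hall P (normalizer_eq_top_iff.1 hPt)⟩
  obtain ⟨M, hM, hle⟩ := (eq_top_or_exists_le_coatom _).resolve_left hPt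
  haveI := hPN
  have hsup : normalizer ((P : Subgroup G) : Set G) ⊔ ((P : Subgroup G) ⊔ N) = ⊤ :=
    Sylow.normalizer_sup_eq_top' P le_sup_left
  have hNM : ¬ N ≤ M := by
    intro hNM
    refine hM.1 (top_le_iff.1 ?_)
    rw [← hsup]
    exact sup_le hle (sup_le (le_normalizer.trans hle) hNM)
  have hc := hN.isComplement'_of_isCoatom hN.isMulCommutative hM hNM
  have h2 := h M hM
  rw [hc.index_eq_card, hcard] at h2
  refine ⟨q, hq, hqd, fun Q => ?_⟩
  have hQ : N = (Q : Subgroup G) := by
    refine eq_of_le_of_card_ge (hNq.le_sylow_of_normal Q) ?_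
    rw [Q.card_eq_multiplicity, hcard, ← hc.card_mul_card, hcard,
      Nat.factorization_mul (pow_ne_zero _ hq.ne_zero) Nat.card_pos.ne', Finsupp.add_apply,
      hq.factorization_pow, Finsupp.single_eq_same, Nat.factorization_eq_zero_of_not_dvd
        ((hq.coprime_iff_not_dvd).1 (h2.symm.coprime_dvd_left (dvd_pow_self q hk.ne'))), add_zero]
  rw [← hQ]; exact hN.1


/-- Let G be a nontrivial finite solvable group in which every maximal subgroup has order coprime to its index. Then for some prime p dividing the order of G the Sylow p-subgroups of G are normal. -/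
theorem result {G : Type*} [Group G] [Finite G] [Group.IsSolvable G] [Nontrivial G] (h : ∀ M : Subgroup G, IsCoatom M → (Nat.card M).Coprime M.index) : ∃ p : ℕ, p.Prime ∧ p ∣ Nat.card G ∧ ∀ P : Sylow p G, (P : Subgroup G).Normal := by
  exact normal_sylow _ rfl h

end Cfsg.Agent.S0553
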