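import Cfsg.Statements.S0554
import Cfsg.Agent.Lib.Solvable.MinNormal

set_option autoImplicit false
open Cfsg

namespace Cfsg.Agent.S0554
/-- A factor `n` on the right can be pushed into any position. -/
theorem absorb {G : Type*} [Group G] (N : Subgroup G) [hN : N.Normal] :
    ∀ (t : ℕ) (s : Fin t → G) (i : Fin t) (n : G), n ∈ N →
      ∃ n' ∈ N, (List.ofFn (Function.update s i (s i * n'))).prod = (List.ofFn s).prod * n := by
  intro t
  induction t with
  | zero => intro s i; exact i.elim0
  | succ t ih =>
    intro s i n hn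
    rw [List.ofFn_succ (f := s), List.prod_cons]
    refine Fin.cases ?_ (fun j => ?_) i
    · set T := (List.ofFn fun j : Fin t => s j.succ).prod
      refine ⟨T * n * T⁻¹, hN.conj_mem n hn T, ?_⟩
      rw [List.ofFn_succ, List.prod_cons, Function.update_self]
      simp only [Function.update_of_ne (Fin.succ_ne_zero _)]
      show s 0 * (T * n * T⁻¹) * T = s 0 * T * n
      group
    · obtain ⟨n', hn', e⟩ := ih (fun j => s j.succ) j n hn
      refine ⟨n', hn', ?_⟩
      rw [List.ofFn_succ, List.prod_cons, Function.update_of_ne (Fin.succ_ne_zero j).symm,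
        mul_assoc, ← e]
      congr 3
      exact funext fun k => (congrFun (Function.update_comp_eq_of_injective s
        (Fin.succ_injective t) j (s j.succ * n')) k)

theorem sylow_product.{u} : ∀ (m : ℕ) {G : Type u} [Group G] [Finite G] [Group.IsSolvable G],
    Nat.card G = m → ∀ (t : ℕ) (p : Fin t → ℕ), (∀ i, (p i).Prime) → Function.Injective p →
    (∀ q : ℕ, q.Prime → q ∣ Nat.card G → ∃ i, p i = q) → ∀ S : (i : Fin t) → Sylow (p i) G,
    ∀ g : G, ∃ s : (i : Fin t) → G, (∀ i, s i ∈ (S i : Subgroup G)) ∧ g = (List.ofFn s).prod := by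
  intro m
  induction m using Nat.strong_induction_on with
  | _ m ih =>
  intro G _ _ _ hm t p hp hinj hall S g
  subst hm
  rcases subsingleton_or_nontrivial G with hs | hs
  · exact ⟨fun _ => 1, fun i => one_mem _, Subsingleton.elim _ _⟩
  obtain ⟨N, hNmin⟩ := CfsgLib.MinNormal.exists_isMinNormal (G := G)
  haveI := hNmin.1
  obtain ⟨q, hq, -, hNq, k, hk, hcard⟩ := hNmin.elementaryAbelian_of_solvable
  obtain ⟨i₀, hi₀⟩ := hall q hq ((hcard ▸ dvd_pow_self q hk.ne').trans
    (Subgroup.card_subgroup_dvd_card N))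
  subst hi₀
  haveI : ∀ i, Fact (p i).Prime := fun i => ⟨hp i⟩
  have hlt : Nat.card (G ⧸ N) < Nat.card G := by
    rw [Subgroup.card_eq_card_quotient_mul_card_subgroup N]
    exact lt_mul_of_one_lt_right Nat.card_pos
      ((Subgroup.one_lt_card_iff_ne_bot N).2 hNmin.2.1)
  obtain ⟨sb, hsb, he⟩ := ih _ hlt (G := G ⧸ N) rfl t p hp hinj
    (fun q hq hd => hall q hq (hd.trans ⟨Nat.card N,
      Subgroup.card_eq_card_quotient_mul_card_subgroup N⟩))
    (fun i => (S i).mapSurjective (QuotientGroup.mk'_surjective N)) (QuotientGroup.mk' N g)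
  choose s hs1 hs2 using hsb
  have hn : (List.ofFn s).prod⁻¹ * g ∈ N := by
    rw [← QuotientGroup.eq_one_iff, ← QuotientGroup.mk'_apply, map_mul, map_inv, he,
      map_list_prod, List.map_ofFn, inv_mul_eq_one]
    exact congrArg List.prod (congrArg List.ofFn (funext hs2))
  obtain ⟨n', hn', e⟩ := absorb N t s i₀ _ hn
  refine ⟨Function.update s i₀ (s i₀ * n'), fun i => ?_, ?_⟩
  · rcases eq_or_ne i i₀ with rfl | hne
    · rw [Function.update_self]
      exact mul_mem (hs1 i) (hNq.le_sylow_of_normal (S i) hn')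
    · rw [Function.update_of_ne hne]
      exact hs1 i
  · rw [e, mul_inv_cancel_left]


/-- Let G be a finite solvable group and let S assign to each of t distinct primes, including every prime divisor of the order of G, a Sylow subgroup of G. Then every element of G is a product s_0 s_1 ⋯ s_(t-1) with s_i in S i, the factors taken in the given order. -/
theorem result {G : Type*} [Group G] [Finite G] [Group.IsSolvable G] (t : ℕ) (p : Fin t → ℕ) (hp : ∀ i, (p i).Prime) (hinj : Function.Injective p) (hall : ∀ q : ℕ, q.Prime → q ∣ Nat.card G → ∃ i, p i = q) (S : (i : Fin t) → Sylow (p i) G) : ∀ g : G, ∃ s : (i : Fin t) → G, (∀ i, s i ∈ (S i : Subgroup G)) ∧ g = (List.ofFn s).prod := by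
  exact sylow_product _ rfl t p hp hinj hall S

end Cfsg.Agent.S0554
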