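import Cfsg.Statements.S0555

set_option autoImplicit false
open Cfsg

namespace Cfsg.Agent.S0555

/-- Let i ≥ 1. If in the derived series of a group the quotient of the i-th term by the (i+1)-st and the quotient of the (i+1)-st by the (i+2)-nd are both cyclic, then the (i+1)-st and (i+2)-nd terms coincide. -/
theorem result {G : Type*} [Group G] (i : ℕ) (hi : 1 ≤ i) (h₁ : IsCyclic (↥(derivedSeries G i) ⧸ (derivedSeries G (i + 1)).subgroupOf (derivedSeries G i))) (h₂ : IsCyclic (↥(derivedSeries G (i + 1)) ⧸ (derivedSeries G (i + 2)).subgroupOf (derivedSeries G (i + 1)))) : derivedSeries G (i + 1) = derivedSeries G (i + 2) := by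
  set K := derivedSeries G i with hK
  set L := derivedSeries G (i + 1) with hL
  set M := derivedSeries G (i + 2) with hM
  haveI : K.Normal := derivedSeries_normal G i
  haveI : L.Normal := derivedSeries_normal G (i + 1)
  haveI : M.Normal := derivedSeries_normal G (i + 2)
  have hLK : L ≤ K := derivedSeries_antitone G (Nat.le_succ i)
  have hML : M ≤ L := derivedSeries_antitone G (Nat.le_succ (i + 1))
  set f := QuotientGroup.mk' M with hf
  haveI : IsCyclic (L.map f) := by
    have hs : Function.Surjective (QuotientGroup.lift (M.subgroupOf L) (f.subgroupMap L)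
        (fun x hx => Subtype.ext ((QuotientGroup.eq_one_iff _).2 hx))) :=
      QuotientGroup.lift_surjective_of_surjective _ _ (MonoidHom.subgroupMap_surjective _ L) _
    exact isCyclic_of_surjective _ hs
  haveI : (L.map f).Normal := Subgroup.Normal.map inferInstance f (QuotientGroup.mk'_surjective M)
  -- the action on the cyclic group `L/M` factors through an abelian group
  have hcent : K.map f ≤ Subgroup.centralizer ((L.map f : Subgroup (G ⧸ M)) : Set (G ⧸ M)) := by
    let act : G ⧸ M →* MulAut (L.map f) := MulAut.conjNormal
    have habel : ∀ σ τ : MulAut (L.map f), σ * τ = τ * σ := fun σ τ =>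
      (IsCyclic.mulAutMulEquiv (L.map f)).injective
        (by rw [map_mul, map_mul, mul_comm])
    have hker : commutator G ≤ (act.comp f).ker := by
      rw [commutator_def, Subgroup.commutator_le]
      intro x _ y _
      rw [MonoidHom.mem_ker, map_commutatorElement]
      exact commutatorElement_eq_one_iff_commute.2 (habel _ _)
    have hKG : K ≤ commutator G := by
      rw [← derivedSeries_one]; exact derivedSeries_antitone G hi
    rintro _ ⟨k, hk, rfl⟩
    refine Subgroup.mem_centralizer_iff.2 fun l hl => ?_
    have h1 : act (f k) = 1 := hker (hKG hk)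
    have h2 := congrArg Subtype.val (DFunLike.congr_fun h1 ⟨l, hl⟩)
    simp [act, MulAut.conjNormal_apply] at h2
    exact (mul_inv_eq_iff_eq_mul.1 h2).symm
  -- hence `K/M` is abelian
  have hcomm : ∀ a b : K.map f, a * b = b * a := by
    let π : K.map f →* (G ⧸ M) ⧸ (L.map f) := (QuotientGroup.mk' (L.map f)).comp (K.map f).subtype
    have hs : Function.Surjective (QuotientGroup.lift (L.subgroupOf K) (π.rangeRestrict.comp (f.subgroupMap K))
        (fun x hx => Subtype.ext ((QuotientGroup.eq_one_iff _).2 ⟨x, hx, rfl⟩))) :=
      QuotientGroup.lift_surjective_of_surjective _ _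
        (show Function.Surjective (π.rangeRestrict ∘ f.subgroupMap K) from π.rangeRestrict_surjective.comp (MonoidHom.subgroupMap_surjective f K)) _
    haveI : IsCyclic π.range := isCyclic_of_surjective _ hs
    refine commutative_of_cyclic_center_quotient π.rangeRestrict fun x hx => ?_
    rw [MonoidHom.ker_rangeRestrict, MonoidHom.mem_ker] at hx
    have hx' : (x : G ⧸ M) ∈ L.map f := (QuotientGroup.eq_one_iff _).1 hx
    exact Subgroup.mem_center_iff.2 fun y =>
      Subtype.ext (Subgroup.mem_centralizer_iff.1 (hcent y.2) _ hx').symm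
  refine le_antisymm ?_ hML
  show derivedSeries G (i + 1) ≤ M
  rw [derivedSeries_succ, ← hK, Subgroup.commutator_le]
  intro x hx y hy
  rw [← QuotientGroup.eq_one_iff, ← QuotientGroup.mk'_apply, map_commutatorElement,
    commutatorElement_eq_one_iff_commute]
  exact congrArg Subtype.val (hcomm ⟨f x, x, hx, rfl⟩ ⟨f y, y, hy, rfl⟩)

end Cfsg.Agent.S0555
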