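import Cfsg.Statements.S0557
import Cfsg.Agent.Lib.Transfer.Basic

set_option autoImplicit false
open Cfsg

namespace Cfsg.Agent.S0557
/-- A normal subgroup of order prime to its index contains all elements of order dividing its
order. -/
theorem mem_of_orderOf_coprime {G : Type*} [Group G] [Finite G] {N : Subgroup G} [N.Normal]
    {x : G} (h : (orderOf x).Coprime N.index) : x ∈ N := by
  rw [← QuotientGroup.eq_one_iff, ← orderOf_eq_one_iff]
  refine Nat.eq_one_of_dvd_coprimes h (orderOf_map_dvd (QuotientGroup.mk' N) x) ?_
  exact orderOf_dvd_natCard (x : G ⧸ N)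

theorem focal_mono {G : Type*} [Group G] (K : Subgroup G) (A : Subgroup K) :
    (Subgroup.focalSubgroup A).map K.subtype ≤ Subgroup.focalSubgroup (A.map K.subtype) := by
  rw [Subgroup.focalSubgroup_def, MonoidHom.map_closure]
  refine Subgroup.closure_mono ?_
  rintro _ ⟨g, ⟨hg, x, hx, u, rfl⟩, rfl⟩
  exact ⟨⟨_, hg, rfl⟩, x, ⟨x, hx, rfl⟩, u, map_commutatorElement _ _ _⟩

theorem focal_monotone {G : Type*} [Group G] {A B : Subgroup G} (h : A ≤ B) :
    Subgroup.focalSubgroup A ≤ Subgroup.focalSubgroup B := by
  rw [Subgroup.focalSubgroup_def, Subgroup.focalSubgroup_def]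
  refine Subgroup.closure_mono ?_
  rintro _ ⟨hg, x, hx, u, rfl⟩
  exact ⟨h hg, x, h hx, u, rfl⟩

theorem iterate_focal_mono {G : Type*} [Group G] (K : Subgroup G) :
    ∀ (n : ℕ) (A : Subgroup K),
      ((fun X : Subgroup K => Subgroup.focalSubgroup X)^[n] A).map K.subtype ≤
        (fun X : Subgroup G => Subgroup.focalSubgroup X)^[n] (A.map K.subtype) := by
  intro n
  induction n with
  | zero => intro A; exact le_rfl
  | succ n ih =>
    intro A
    rw [Function.iterate_succ_apply', Function.iterate_succ_apply']
    exact (focal_mono K _).trans (focal_monotone (ih A))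

theorem hall_normal_complement.{u} (n : ℕ) : ∀ {G : Type u} [Group G] [Finite G] (H : Subgroup G),
    (Nat.card H).Coprime H.index →
    (fun K : Subgroup G => Subgroup.focalSubgroup K)^[n] H = ⊥ →
    ∃ N : Subgroup G, N.Normal ∧ Subgroup.IsComplement' N H := by
  induction n with
  | zero =>
    intro G _ _ H _ h
    simp only [Function.iterate_zero, id_eq] at h
    exact ⟨⊤, inferInstance, h ▸ Subgroup.isComplement'_top_bot⟩
  | succ n ih =>
    intro G _ _ H hHall h
    rw [Function.iterate_succ_apply] at h
    have hco : Nat.Coprime H.index (⁅H, H⁆.relIndex H) :=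
      hHall.symm.coprime_dvd_right (Subgroup.relIndex_dvd_card _ _)
    set K := H.transferFocal.ker with hK
    have hinf : K ⊓ H = H.focalSubgroup := CfsgLib.Transfer.ker_transferFocal_inf H hco
    have hsup : K ⊔ H = ⊤ := CfsgLib.Transfer.ker_transferFocal_sup H hco
    have hidx : (H.focalSubgroup.subgroupOf K).index = H.index := by
      show H.focalSubgroup.relIndex K = _
      rw [← hinf, Subgroup.inf_relIndex_left]
      have h1 : H.relIndex K * (K ⊓ H).relIndex H = H.relIndex K * K.relIndex H := by
        rw [inf_comm, Subgroup.inf_relIndex_left]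
      have h2 := Subgroup.relIndex_sup_right H K
      rw [sup_comm, hsup, Subgroup.relIndex_top_right] at h2
      have h3 : Nat.card K * K.index = Nat.card H * H.index :=
        K.card_mul_index.trans H.card_mul_index.symm
      have h4 : Nat.card (H.subgroupOf K) = Nat.card (K.subgroupOf H) := by
        rw [← Subgroup.card_map_of_injective K.subtype_injective,
          ← Subgroup.card_map_of_injective (f := H.subtype) H.subtype_injective,
          Subgroup.subgroupOf_map_subtype, Subgroup.subgroupOf_map_subtype, inf_comm]
      rw [← (H.subgroupOf K).card_mul_index, ← (K.subgroupOf H).card_mul_index, h4,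
        ← Subgroup.relIndex, ← Subgroup.relIndex, ← h2, mul_assoc, mul_assoc] at h3
      have h5 := Nat.eq_of_mul_eq_mul_left Nat.card_pos h3
      rw [mul_comm K.index] at h5
      exact Nat.eq_of_mul_eq_mul_right (Nat.pos_of_ne_zero Subgroup.index_ne_zero_of_finite) h5
    have hcard : Nat.card (H.focalSubgroup.subgroupOf K) ∣ Nat.card H := by
      rw [Nat.card_congr (Subgroup.subgroupOfEquivOfLe (hinf ▸ inf_le_left)).toEquiv]
      exact Subgroup.card_dvd_of_le H.focalSubgroup_le
    have hle : ((fun X : Subgroup K => Subgroup.focalSubgroup X)^[n]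
        (H.focalSubgroup.subgroupOf K)) = ⊥ := by
      rw [← Subgroup.map_eq_bot_iff_of_injective _ K.subtype_injective, eq_bot_iff, ← h]
      refine (iterate_focal_mono K n _).trans_eq ?_
      rw [Subgroup.subgroupOf_map_subtype, inf_of_le_left (hinf ▸ inf_le_left)]
    obtain ⟨N₀, hN₀, hc⟩ := ih (H.focalSubgroup.subgroupOf K)
      (by rw [hidx]; exact hHall.coprime_dvd_left hcard) hle
    set N : Subgroup G := N₀.map K.subtype with hN
    have hNcard : Nat.card N = H.index := by
      rw [Subgroup.card_map_of_injective K.subtype_injective, ← hc.index_eq_card, hidx]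
    have hmem : ∀ x : G, x ∈ N ↔ x ∈ K ∧ (orderOf x).Coprime (Nat.card H) := by
      intro x
      constructor
      · intro hx
        refine ⟨Subgroup.map_subtype_le _ hx, ?_⟩
        exact hHall.symm.coprime_dvd_left (hNcard ▸ Subgroup.orderOf_dvd_natCard N hx)
      · rintro ⟨hx, hco'⟩
        refine ⟨⟨x, hx⟩, ?_, rfl⟩
        haveI := hN₀
        refine mem_of_orderOf_coprime ?_
        rw [hc.symm.index_eq_card, Subgroup.orderOf_mk]
        exact hco'.coprime_dvd_right hcard
    refine ⟨N, ⟨fun x hx g => ?_⟩, ?_⟩
    · rw [hmem] at hx ⊢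
      refine ⟨Subgroup.Normal.conj_mem inferInstance x hx.1 g, ?_⟩
      have : orderOf (g * x * g⁻¹) = orderOf x := (MulAut.conj g).orderOf_eq x
      rw [this]; exact hx.2
    · refine Subgroup.isComplement'_of_coprime ?_ ?_
      · rw [hNcard, mul_comm, H.card_mul_index]
      · rw [hNcard]; exact hHall.symm


/-- Let H be a subgroup of a finite group G with order coprime to its index. If iterating the focal-subgroup construction starting from H reaches the trivial subgroup after finitely many steps, then H has a normal complement in G. -/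
theorem result {G : Type*} [Group G] [Finite G] (H : Subgroup G) (hHall : (Nat.card H).Coprime H.index) (n : ℕ) (hfoc : (fun K : Subgroup G => Subgroup.focalSubgroup K)^[n] H = ⊥) : ∃ N : Subgroup G, N.Normal ∧ Subgroup.IsComplement' N H := by
  exact hall_normal_complement n H hHall hfoc

end Cfsg.Agent.S0557
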