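import Cfsg.Statements.S0556
import Cfsg.Agent.S0557
import Cfsg.Agent.Lib.Frobenius.Action

set_option autoImplicit false
open Cfsg

namespace Cfsg.Agent.S0556
open Subgroup in
open scoped commutatorElement Pointwise in
/-- The core-free case: the group is metabelian. -/
theorem corefree_case {G : Type*} [Group G] [Finite G] (A : Subgroup G) (hA : IsCoatom A)
    [IsMulCommutative A] (hAb : A ≠ ⊥) (hcore : A.normalCore = ⊥) : derivedSeries G 2 = ⊥ := by
  have hcA : ∀ {x y : G}, x ∈ A → y ∈ A → x * y = y * x := fun {x y} hx hy =>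
    congrArg Subtype.val (mul_comm' (⟨x, hx⟩ : A) ⟨y, hy⟩)
  have hnn : ¬ A.Normal := fun h => hAb (le_bot_iff.1 (hcore ▸
    ((@normal_le_normalCore _ _ A A h).2 le_rfl)))
  have hF : Cfsg.IsFrobeniusComplement A := by
    refine ⟨hAb, hA.1, fun g hg => ?_⟩
    set X := A ⊓ MulAut.conj g • A with hX
    have hAX : A ≤ centralizer (X : Set G) := fun a ha =>
      mem_centralizer_iff.2 fun x hx => hcA hx.1 ha
    have htop : centralizer (X : Set G) = ⊤ := by
      refine hA.2 _ (lt_of_le_of_ne hAX fun e => hnn ?_)
      have hg2 : g ∈ normalizer (A : Set G) := by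
        have hle : MulAut.conj g • A ≤ A := by
          intro y hy
          rw [e]
          refine mem_centralizer_iff.2 fun x hx => ?_
          have h1 := CfsgLib.Frobenius.mem_conj_smul_iff.1 hy
          have h2 := CfsgLib.Frobenius.mem_conj_smul_iff.1 hx.2
          have h3 := hcA h2 h1
          calc x * y = g * ((g⁻¹ * x * g) * (g⁻¹ * y * g)) * g⁻¹ := by group
            _ = g * ((g⁻¹ * y * g) * (g⁻¹ * x * g)) * g⁻¹ := by rw [h3]
            _ = y * x := by group
        have heq : MulAut.conj g • A = A := eq_of_le_of_card_ge hle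
          (Nat.card_congr (equivSMul (MulAut.conj g) A).toEquiv).le
        refine mem_normalizer_iff.2 fun y => ⟨fun hy => ?_, fun hy => ?_⟩
        · rw [← heq, CfsgLib.Frobenius.mem_conj_smul_iff]; simpa [mul_assoc] using hy
        · rw [← heq, CfsgLib.Frobenius.mem_conj_smul_iff] at hy; simpa [mul_assoc] using hy
      exact normalizer_eq_top_iff.1 (hA.2 _ (lt_of_le_of_ne le_normalizer
        fun e' => hg (e'.symm ▸ hg2)))
    have hXn : X.Normal := ⟨fun x hx h => by
      have h1 : x * h = h * x := mem_centralizer_iff.1 (htop ▸ mem_top h) x hx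
      rwa [← h1, mul_inv_cancel_right]⟩
    exact le_bot_iff.1 (hcore ▸ ((@normal_le_normalCore _ _ A X hXn).2 inf_le_left))
  obtain ⟨K, hKn, hK⟩ := S0557.hall_normal_complement 1 A
    (CfsgLib.Frobenius.coprime_card_index hF) (by
      simp only [Function.iterate_one]
      rw [eq_bot_iff, focalSubgroup_def, closure_le]
      rintro _ ⟨hmem, x, hx, u, rfl⟩
      show ⁅x, u⁆ = 1
      have h1 : u * x⁻¹ * u⁻¹ ∈ A := by
        have := A.mul_mem (A.inv_mem hx) hmem
        simpa [commutatorElement_def, mul_assoc] using this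
      by_cases hu : u ∈ A
      · exact commutatorElement_eq_one_iff_mul_comm.2 (hcA hx hu)
      · have := CfsgLib.Frobenius.eq_one_of_mem_of_conj_mem hF (g := u⁻¹)
          (fun h => hu (by simpa using A.inv_mem h)) (A.inv_mem hx)
          (by simpa [mul_assoc] using h1)
        rw [inv_eq_one.1 this, commutatorElement_one_left])
  haveI := hKn
  have hKb : K ≠ ⊥ := by
    intro e
    exact hA.1 (isComplement'_bot_left.1 (e ▸ hK))
  obtain ⟨p, hp, hpK⟩ := Nat.exists_prime_and_dvd
    (fun h => hKb (Subgroup.card_eq_one.1 h) : Nat.card K ≠ 1)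
  haveI := Fact.mk hp
  obtain ⟨P, hP⟩ := CfsgLib.Frobenius.exists_sylow_normalized hF hK p
  set Q : Subgroup G := (P : Subgroup K).map K.subtype with hQdef
  have eqK : ∀ R : Subgroup G, R ≤ K → A ≤ normalizer (R : Set G) → R ≠ ⊥ → R.Normal → R = K := by
    intro R hR hAR hRb hRn
    have htop : R ⊔ A = ⊤ := by
      refine hA.2 _ (lt_of_le_of_ne le_sup_right fun e => hRb (le_bot_iff.1 ?_))
      rw [← disjoint_iff.1 hK.disjoint]
      exact le_inf hR (le_sup_left.trans e.ge)
    refine le_antisymm hR fun k hk => ?_
    haveI := hRn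
    have : k ∈ R ⊔ A := by rw [htop]; exact mem_top k
    obtain ⟨r, hr, a, ha, rfl⟩ := mem_sup_of_normal_left.1 this
    have ha1 : a = 1 := Subgroup.disjoint_def.1 hK.disjoint
      (by simpa using K.mul_mem (K.inv_mem (hR hr)) hk) ha
    simpa [ha1] using hr
  have hQb : Q ≠ ⊥ := fun e => P.ne_bot_of_dvd_card hpK
    ((map_eq_bot_iff_of_injective _ K.subtype_injective).1 e)
  have hQn : Q.Normal := normalizer_eq_top_iff.1 (hA.2 _ (lt_of_le_of_ne hP fun e => hQb
    (le_bot_iff.1 (by
      rw [← disjoint_iff.1 hK.disjoint]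
      exact le_inf (map_subtype_le _) (le_normalizer.trans e.ge)))))
  have hKp : IsPGroup p K := by
    rw [← eqK Q (map_subtype_le _) hP hQb hQn]
    exact P.isPGroup'.map _
  have hKab : ⁅K, K⁆ = ⊥ := by
    by_contra hne
    have h1 := eqK ⁅K, K⁆ (commutator_le_left _ _)
      (le_top.trans (normalizer_eq_top_iff.2 inferInstance).ge) hne inferInstance
    haveI := hKp.isNilpotent
    haveI : Nontrivial K := (nontrivial_iff_ne_bot K).2 hKb
    refine (Group.IsSolvable.commutator_lt_top_of_nontrivial K).ne
      (map_injective K.subtype_injective ?_)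
    rw [map_subtype_commutator, h1, ← MonoidHom.range_eq_map, range_subtype]
  have hle : commutator G ≤ K := by
    refine Normal.quotient_commutative_iff_commutator_le.1 ⟨⟨fun x y => ?_⟩⟩
    induction x using QuotientGroup.induction_on with | H x => ?_
    induction y using QuotientGroup.induction_on with | H y => ?_
    obtain ⟨⟨k, a⟩, rfl⟩ := (hK.existsUnique x).exists
    obtain ⟨⟨k', a'⟩, rfl⟩ := (hK.existsUnique y).exists
    have e1 : ∀ k : K, ((k : G) : G ⧸ K) = 1 := fun k => (QuotientGroup.eq_one_iff _).2 k.2
    simp only [QuotientGroup.mk_mul, e1, one_mul]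
    exact congrArg (QuotientGroup.mk' K) (hcA a.2 a'.2)
  rw [derivedSeries_succ, derivedSeries_one, eq_bot_iff, ← hKab]
  exact commutator_mono hle hle

open Subgroup in
theorem abelian_maximal {G : Type*} [Group G] [Finite G] (A : Subgroup G) (hA : IsCoatom A)
    [IsMulCommutative A] : derivedSeries G 3 = ⊥ := by
  by_cases hn : A.Normal
  · haveI := hn
    haveI : Nontrivial (G ⧸ A) := QuotientGroup.nontrivial_iff.2 hA.1
    obtain ⟨x, hx⟩ := exists_ne (1 : G ⧸ A)
    have hx' : (zpowers x).comap (QuotientGroup.mk' A) = ⊤ := by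
      refine hA.2 _ (lt_of_le_of_ne (fun a ha => ?_) fun e => ?_)
      · simp [(QuotientGroup.eq_one_iff a).2 ha]
      · obtain ⟨g, rfl⟩ := QuotientGroup.mk'_surjective A x
        have : g ∈ (zpowers (QuotientGroup.mk' A g)).comap (QuotientGroup.mk' A) := mem_zpowers _
        rw [← e] at this
        exact hx ((QuotientGroup.eq_one_iff g).2 this)
    have hle : commutator G ≤ A := by
      refine Normal.quotient_commutative_iff_commutator_le.1 ⟨⟨fun a b => ?_⟩⟩
      have h : ∀ a : G ⧸ A, a ∈ zpowers x := by
        intro a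
        obtain ⟨g, rfl⟩ := QuotientGroup.mk'_surjective A a
        exact (hx'.ge (mem_top g) :)
      obtain ⟨i, rfl⟩ := h a
      obtain ⟨j, rfl⟩ := h b
      exact (Commute.zpow_zpow_self x i j).eq
    have h2 : derivedSeries G 2 = ⊥ := by
      rw [derivedSeries_succ, derivedSeries_one, eq_bot_iff]
      refine (commutator_mono hle hle).trans_eq ?_
      rw [commutator_eq_bot_iff_le_centralizer]
      exact le_centralizer A
    exact le_bot_iff.1 (h2 ▸ derivedSeries_antitone G (by norm_num))
  set C := A.normalCore with hC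
  have hCA : C ≤ A := normalCore_le A
  haveI hCn : C.Normal := inferInstance
  have hcen : centralizer (C : Set G) = ⊤ := by
    refine hA.2 _ (lt_of_le_of_ne ((le_centralizer A).trans (centralizer_le hCA)) fun e => hn ?_)
    rw [e]; infer_instance
  set f := QuotientGroup.mk' C with hf
  have hker : f.ker ≤ A := by rw [hf, QuotientGroup.ker_mk']; exact hCA
  have hcm : (A.map f).comap f = A := comap_map_eq_self hker
  have hsurj := QuotientGroup.mk'_surjective C
  have hco : IsCoatom (A.map f) := by
    constructor
    · intro e; apply hA.1; rw [← hcm, e, comap_top]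
    · intro K hK
      have h1 : A < K.comap f := by
        rw [← hcm]; exact (comap_lt_comap_of_surjective hsurj).2 hK
      have h2 := congrArg (Subgroup.map f) (hA.2 _ h1)
      rwa [map_comap_eq_self_of_surjective hsurj, map_top_of_surjective _ hsurj] at h2
  have hcore : (A.map f).normalCore = ⊥ := by
    have hle : (A.map f).normalCore.comap f ≤ C := by
      refine normal_le_normalCore.2 ?_
      exact (comap_mono (normalCore_le _)).trans_eq hcm
    have := map_mono (f := f) hle
    rwa [map_comap_eq_self_of_surjective hsurj, hf, QuotientGroup.map_mk'_self, le_bot_iff] at this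
  have hne : A.map f ≠ ⊥ := by
    intro e
    rw [hf, Subgroup.map_eq_bot_iff, QuotientGroup.ker_mk'] at e
    exact hn (le_antisymm e hCA ▸ hCn)
  have h2 := corefree_case (A.map f) hco hne hcore
  rw [← map_derivedSeries_eq hsurj, Subgroup.map_eq_bot_iff, QuotientGroup.ker_mk'] at h2
  rw [derivedSeries_succ, eq_bot_iff]
  refine (commutator_mono h2 le_rfl).trans_eq ?_
  rw [commutator_eq_bot_iff_le_centralizer]
  refine fun c _ => mem_centralizer_iff.2 fun d hd => ?_
  exact (mem_centralizer_iff.1 (hcen ▸ mem_top d : d ∈ centralizer (C : Set G)) c (by assumption)).symm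


/-- If a finite group has a maximal subgroup that is abelian, then the third term of its derived series is trivial (so the group is solvable of derived length at most three). -/
theorem result {G : Type*} [Group G] [Finite G] (A : Subgroup G) (hA : IsCoatom A) [IsMulCommutative A] : derivedSeries G 3 = ⊥ := by
  exact abelian_maximal A hA

end Cfsg.Agent.S0556
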