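import Cfsg.Statements.S0563
import Cfsg.Agent.Lib.Solvable.KegelWielandt

set_option autoImplicit false
open Pointwise
open Cfsg

namespace Cfsg.Agent.S0563

/-- If a finite group G is the product AB of two nilpotent subgroups of coprime orders, then G is solvable, and for every Sylow p-subgroup P of A and Sylow q-subgroup Q of B the product set PQ is a subgroup. -/
theorem result {G : Type*} [Group G] [Finite G] (A B : Subgroup G) (hA : Group.IsNilpotent A) (hB : Group.IsNilpotent B) (hcop : (Nat.card A).Coprime (Nat.card B)) (hAB : ∀ g : G, ∃ a ∈ A, ∃ b ∈ B, g = a * b) : Group.IsSolvable G ∧ ∀ (p q : ℕ) [Fact p.Prime] [Fact q.Prime] (P : Sylow p A) (Q : Sylow q B), ∃ S : Subgroup G, (S : Set G) = (((P : Subgroup A).map A.subtype : Subgroup G) : Set G) * (((Q : Subgroup B).map B.subtype : Subgroup G) : Set G) := by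
  haveI hsolv : Group.IsSolvable G := CfsgLib.KegelWielandt.isSolvable _ rfl A B hA hB hAB
  refine ⟨hsolv, fun p q _ _ P Q => ?_⟩
  have hidx : A.index = Nat.card B ∧ B.index = Nat.card A := by
    have h : Nat.card A * Nat.card B = Nat.card G := by
      rw [CfsgLib.Factorization.card_mul_card hAB, Subgroup.inf_eq_bot_of_coprime hcop,
        Subgroup.card_bot, mul_one]
    exact ⟨Nat.eq_of_mul_eq_mul_left Nat.card_pos (A.card_mul_index.trans h.symm),
      Nat.eq_of_mul_eq_mul_left Nat.card_pos (B.card_mul_index.trans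
        (h.symm.trans (mul_comm _ _)))⟩
  have hn : ∀ (r : ℕ) [Fact r.Prime] (C : Subgroup G), Group.IsNilpotent C →
      (Nat.card C).Coprime C.index → ∀ S : Sylow r C,
      (((S : Subgroup C).map C.subtype).subgroupOf C).Normal ∧
        (Nat.card ((S : Subgroup C).map C.subtype)).Coprime
          ((S : Subgroup C).map C.subtype).index := by
    intro r hr C hC hcC S
    haveI := hC
    refine ⟨?_, ?_⟩
    · rw [Subgroup.subgroupOf, Subgroup.comap_map_eq_self_of_injective C.subtype_injective]
      infer_instance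
    · rw [Subgroup.card_map_of_injective C.subtype_injective, Subgroup.index_map_subtype]
      refine Nat.Coprime.mul_right ?_ (hcC.coprime_dvd_left (Subgroup.card_subgroup_dvd_card _))
      exact S.card_coprime_index
  obtain ⟨hPn, hPh⟩ := hn p A hA (hidx.1 ▸ hcop) P
  obtain ⟨hQn, hQh⟩ := hn q B hB (hidx.2 ▸ hcop.symm) Q
  obtain ⟨S, hS⟩ := Cfsg.Agent.S0561.hall_permute A B _ _ hAB (Subgroup.map_subtype_le _) hPn
    (Subgroup.map_subtype_le _) hQn hPh hQh 1 1
  exact ⟨S, by simpa using hS⟩

end Cfsg.Agent.S0563
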