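import Cfsg.Statements.S0565
import Cfsg.Agent.Lib.Solvable.KegelWielandt

set_option autoImplicit false
open Cfsg

namespace Cfsg.Agent.S0565

open Subgroup CfsgLib.NilPart in
/-- The Kegel-type normal subgroup of a product of nilpotent subgroups. -/
theorem main.{u} : ∀ (n : ℕ) {G : Type u} [Group G] [Finite G], Nat.card G = n →
    ∀ A B : Subgroup G, Group.IsNilpotent A → Group.IsNilpotent B →
    (∀ g : G, ∃ a ∈ A, ∃ b ∈ B, g = a * b) → (A ≠ ⊤ ∨ B ≠ ⊤) →
    ∃ N : Subgroup G, N.Normal ∧ N ≠ ⊤ ∧ (A ≤ N ∨ B ≤ N) := by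
  intro n
  induction n using Nat.strong_induction_on with
  | _ n ih =>
  intro G _ _ hn A B hA hB hAB hproper
  subst hn
  haveI := CfsgLib.KegelWielandt.isSolvable _ rfl A B hA hB hAB
  by_cases hnil : Group.IsNilpotent G
  · have hcoatom : ∀ C : Subgroup G, C ≠ ⊤ → ∃ N : Subgroup G, N.Normal ∧ N ≠ ⊤ ∧ C ≤ N := by
      intro C hC
      obtain ⟨M, hM, hCM⟩ := ((IsCoatomic.eq_top_or_exists_le_coatom C).resolve_left hC)
      exact ⟨M, Subgroup.NormalizerCondition.normal_of_coatom M
        (Group.normalizerCondition_of_isNilpotent (h := hnil)) hM, hM.1, hCM⟩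
    rcases hproper with h | h
    · obtain ⟨N, h1, h2, h3⟩ := hcoatom A h
      exact ⟨N, h1, h2, Or.inl h3⟩
    · obtain ⟨N, h1, h2, h3⟩ := hcoatom B h
      exact ⟨N, h1, h2, Or.inr h3⟩
  by_cases hcase : ∃ K : Subgroup G, K.Normal ∧ K ≠ ⊥ ∧ (A ⊔ K ≠ ⊤ ∨ B ⊔ K ≠ ⊤)
  · obtain ⟨K, hK, hKb, hne⟩ := hcase
    haveI := hK
    set f := QuotientGroup.mk' K
    have hf : Function.Surjective f := QuotientGroup.mk'_surjective K
    have himg : ∀ C : Subgroup G, C ⊔ K ≠ ⊤ → C.map f ≠ ⊤ := fun C hC e => hC (by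
      rw [← QuotientGroup.ker_mk' K, ← comap_map_eq, e, comap_top])
    obtain ⟨N, hN, hNt, hle⟩ := ih _
      (by
        rw [← index_eq_card, ← K.card_mul_index]
        exact lt_mul_of_one_lt_left (Nat.pos_of_ne_zero index_ne_zero_of_finite)
          (K.one_lt_card_iff_ne_bot.2 hKb)) rfl (A.map f) (B.map f)
      (CfsgLib.Fitting.isNilpotent_map hA _) (CfsgLib.Fitting.isNilpotent_map hB _)
      (CfsgLib.KegelWielandtCoprime.factor_image hf hAB) (hne.imp (himg A) (himg B))
    refine ⟨N.comap f, hN.comap f, fun e => hNt ?_,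
      hle.imp (fun h => map_le_iff_le_comap.1 h) (fun h => map_le_iff_le_comap.1 h)⟩
    rw [← map_comap_eq_self_of_surjective hf N, e, map_top_of_surjective f hf]
  exfalso
  push Not at hcase
  haveI hnt : Nontrivial G := by
    by_contra h
    haveI := not_nontrivial_iff_subsingleton.1 h
    exact hnil (Group.nilpotent_of_surjective (G := A) A.subtype
      fun g => ⟨1, Subsingleton.elim _ _⟩)
  have hA' : A ≠ ⊤ := fun e => hnil (by
    haveI := hA
    exact Group.nilpotent_of_mulEquiv ((MulEquiv.subgroupCongr e).trans topEquiv))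
  obtain ⟨N, hN⟩ := CfsgLib.MinNormal.exists_isMinNormal (G := G)
  haveI := hN.1
  obtain ⟨p, hp, hel, hNp, -⟩ := hN.elementaryAbelian_of_solvable
  haveI := Fact.mk hp
  haveI : IsMulCommutative N := hel.1
  obtain ⟨hAN, hBN⟩ := hcase N hN.1 hN.2.1
  have hdisj : ∀ C : Subgroup G, C ≠ ⊤ → C ⊔ N = ⊤ → C ⊓ N = ⊥ := by
    intro C hC hCN
    have hn' : (C ⊓ N).Normal := by
      rw [← normalizer_eq_top_iff, eq_top_iff, ← hCN]
      refine sup_le (fun c hc => mem_normalizer_of_conj fun x hx =>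
        Subgroup.mem_inf.2 ⟨mul_mem (mul_mem hc (Subgroup.mem_inf.1 hx).1) (inv_mem hc),
          hN.1.conj_mem _ hx.2 c⟩)
        (fun m hm => mem_normalizer_of_conj fun x hx => ?_)
      have hc : m * x = x * m :=
        congrArg Subtype.val (mul_comm' (⟨m, hm⟩ : N) ⟨x, hx.2⟩)
      rwa [hc, mul_inv_cancel_right]
    refine (hN.2.2 _ hn' inf_le_right).resolve_right fun e => hC ?_
    rwa [sup_eq_left.2 (e.ge.trans inf_le_left)] at hCN
  have hB' : B ≠ ⊤ := fun e => hnil (by
    haveI := hB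
    exact Group.nilpotent_of_mulEquiv ((MulEquiv.subgroupCongr e).trans topEquiv))
  have hcard : ∀ C : Subgroup G, C ≠ ⊤ → C ⊔ N = ⊤ → Nat.card C * Nat.card N = Nat.card G := by
    intro C hC hCN
    rw [CfsgLib.Factorization.card_mul_card (H := C) (K := N) fun g => by
      obtain ⟨c, hc, m, hm, e⟩ := mem_sup_of_normal_right.1 (hCN.ge (mem_top g))
      exact ⟨c, hc, m, hm, e.symm⟩, hdisj C hC hCN, card_bot, mul_one]
  have hAB' : Nat.card A = Nat.card B :=
    Nat.eq_of_mul_eq_mul_right Nat.card_pos ((hcard A hA' hAN).trans (hcard B hB' hBN).symm)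
  have hGp : ∀ q : ℕ, q.Prime → q ∣ Nat.card G → q = p := by
    intro q hq hqG
    by_contra hqp
    haveI := Fact.mk hq
    obtain ⟨k, hk⟩ := IsPGroup.iff_card.1 hNp
    have hqA : q ∣ Nat.card A := by
      rw [← hcard A hA' hAN, hk] at hqG
      exact (hq.dvd_mul.1 hqG).resolve_right fun h =>
        hqp ((Nat.prime_dvd_prime_iff_eq hq hp).1 (hq.dvd_of_dvd_pow h))
    obtain ⟨R, hR, hRe⟩ := CfsgLib.KegelWielandt.part_mul_part hA hB hAB q
    have hle : part q A ≤ R := fun x hx => by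
      rw [← SetLike.mem_coe, hRe]; exact ⟨x, hx, 1, one_mem _, mul_one x⟩
    have hle' : part q B ≤ R := fun x hx => by
      rw [← SetLike.mem_coe, hRe]; exact ⟨1, one_mem _, x, hx, one_mul x⟩
    obtain ⟨j, hj⟩ := IsPGroup.iff_card.1 hR
    have hv : (Nat.card A).factorization q = (Nat.card G).factorization q := by
      rw [← hcard A hA' hAN, hk, Nat.factorization_mul Nat.card_pos.ne' (pow_pos hp.pos k).ne',
        Finsupp.add_apply, hp.factorization_pow, Finsupp.single_eq_of_ne hqp, add_zero]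
    have hRA : R = part q A := by
      refine (eq_of_le_of_card_ge hle ?_).symm
      rw [card_part hA, hj, hv]
      refine Nat.pow_le_pow_right hq.pos ?_
      exact (hq.pow_dvd_iff_le_factorization Nat.card_pos.ne').1
        (hj ▸ card_subgroup_dvd_card R)
    have hBA : part q B = part q A :=
      eq_of_le_of_card_ge (hRA ▸ hle') (by rw [card_part hA, card_part hB, hAB'])
    haveI hnormal : (part q A).Normal := by
      rw [← normalizer_eq_top_iff, eq_top_iff]
      intro g _
      obtain ⟨a, ha, b, hb, rfl⟩ := hAB g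
      exact mul_mem (le_normalizer_part q A ha) (hBA ▸ le_normalizer_part q B hb)
    exact hA' (sup_eq_left.2 (part_le q A) ▸ (hcase _ hnormal (part_ne_bot hA q hqA)).1)
  refine hnil (IsPGroup.isNilpotent (p := p) ?_)
  exact IsPGroup.of_card (Nat.eq_prime_pow_of_unique_prime_dvd Nat.card_pos.ne' (fun {q} hq hd => hGp q hq hd))


/-- Let the finite group G be the product AB of nilpotent subgroups A and B, not both equal to G. Then there is a proper normal subgroup of G containing A or containing B. -/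
theorem result {G : Type*} [Group G] [Finite G] (A B : Subgroup G) (hA : Group.IsNilpotent A) (hB : Group.IsNilpotent B) (hAB : ∀ g : G, ∃ a ∈ A, ∃ b ∈ B, g = a * b) (hproper : A ≠ ⊤ ∨ B ≠ ⊤) : ∃ N : Subgroup G, N.Normal ∧ N ≠ ⊤ ∧ (A ≤ N ∨ B ≤ N) := by
  exact main _ rfl A B hA hB hAB hproper

end Cfsg.Agent.S0565
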