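import Cfsg.Statements.S0567

set_option autoImplicit false
open Cfsg

namespace Cfsg.Agent.S0567
open Subgroup in
open scoped commutatorElement in
theorem subnormal_iff {G : Type*} [Group G] (H : Subgroup G) :
    H.IsSubnormal ↔ ∃ m : ℕ, (fun K : Subgroup G => ⁅K, H⁆)^[m] ⊤ ≤ H := by
  set F := fun K : Subgroup G => ⁅K, H⁆ with hF
  constructor
  · intro hsn
    obtain ⟨n, f, hmono, hnorm, h0, hn⟩ := Subgroup.IsSubnormal.isSubnormal_iff.1 hsn
    refine ⟨n, ?_⟩
    suffices ∀ m ≤ n, F^[m] ⊤ ≤ f (n - m) from (this n le_rfl).trans (by rw [Nat.sub_self, h0])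
    intro m
    induction m with
    | zero => intro _; simp [hn]
    | succ m ih =>
      intro hm
      rw [Function.iterate_succ_apply']
      have h1 := ih (by omega)
      rw [show n - m = (n - (m + 1)) + 1 by omega] at h1
      refine (commutator_mono h1 (h0 ▸ hmono (Nat.zero_le _) : H ≤ f (n - (m + 1)))).trans ?_
      rw [commutator_le]
      intro x hx y hy
      have h2 := (normal_subgroupOf_iff_le_normalizer (hmono (Nat.le_succ _))).1
        (hnorm (n - (m + 1))) hx
      exact mul_mem ((mem_normalizer_iff.1 h2 y).1 hy) (inv_mem hy)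
  · rintro ⟨m, hm⟩
    -- `H` normalizes each term
    have key : ∀ (X : Subgroup G), H ≤ normalizer (X : Set G) →
        ⁅X, H⁆ ≤ X ∧ H ≤ normalizer ((⁅X, H⁆ : Subgroup G) : Set G) ∧
          X ≤ normalizer ((⁅X, H⁆ : Subgroup G) : Set G) := by
      intro X hX
      have h1 : ⁅X, H⁆ ≤ X := by
        rw [commutator_le]
        intro x hx h hh
        have h2 := (mem_normalizer_iff.1 (hX hh) x⁻¹).1 (inv_mem hx)
        simpa [commutatorElement_def, mul_assoc] using mul_mem hx h2
      have hsub : ∀ g : G, (∀ x ∈ X, ∀ h ∈ H, g * ⁅x, h⁆ * g⁻¹ ∈ ⁅X, H⁆) →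
          ∀ z ∈ ⁅X, H⁆, g * z * g⁻¹ ∈ ⁅X, H⁆ := by
        intro g hg z hz
        suffices hle : ⁅X, H⁆ ≤ (⁅X, H⁆).comap (MulAut.conj g).toMonoidHom from hle hz
        rw [commutator_le]
        exact hg
      have hH : ∀ g ∈ H, ∀ z ∈ ⁅X, H⁆, g * z * g⁻¹ ∈ ⁅X, H⁆ := fun g hg => hsub g fun x hx h hh => by
        have : g * ⁅x, h⁆ * g⁻¹ = ⁅g * x * g⁻¹, g * h * g⁻¹⁆ := by
          simp [commutatorElement_def, mul_assoc]
        rw [this]
        exact commutator_mem_commutator ((mem_normalizer_iff.1 (hX hg) x).1 hx)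
          (H.mul_mem (H.mul_mem hg hh) (H.inv_mem hg))
      have hXc : ∀ g ∈ X, ∀ z ∈ ⁅X, H⁆, g * z * g⁻¹ ∈ ⁅X, H⁆ := fun g hg => hsub g fun x hx h hh => by
        have : g * ⁅x, h⁆ * g⁻¹ = ⁅g * x, h⁆ * ⁅g, h⁆⁻¹ := by
          simp [commutatorElement_def, mul_assoc]
        rw [this]
        exact mul_mem (commutator_mem_commutator (mul_mem hg hx) hh)
          (inv_mem (commutator_mem_commutator hg hh))
      refine ⟨h1, fun g hg => ?_, fun g hg => ?_⟩
      · refine mem_normalizer_iff.2 fun z => ⟨hH g hg z, fun hz => ?_⟩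
        simpa [mul_assoc] using hH g⁻¹ (inv_mem hg) _ hz
      · refine mem_normalizer_iff.2 fun z => ⟨hXc g hg z, fun hz => ?_⟩
        simpa [mul_assoc] using hXc g⁻¹ (inv_mem hg) _ hz
    have hnorm : ∀ k, H ≤ normalizer ((F^[k] ⊤ : Subgroup G) : Set G) := by
      intro k
      induction k with
      | zero => exact le_of_le_of_eq le_top (normalizer_eq_top_iff.2 (inferInstanceAs (⊤ : Subgroup G).Normal)).symm
      | succ k ih => rw [Function.iterate_succ_apply']; exact (key _ ih).2.1
    have hsn : ∀ k, (F^[k] ⊤ ⊔ H).IsSubnormal := by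
      intro k
      induction k with
      | zero => simp
      | succ k ih =>
        rw [Function.iterate_succ_apply']
        obtain ⟨h1, h2, h3⟩ := key _ (hnorm k)
        set X := F^[k] ⊤ with hXdef
        refine IsSubnormal.step _ _ (sup_le_sup_right h1 H) ih ?_
        rw [normal_subgroupOf_iff_le_normalizer (sup_le_sup_right h1 H)]
        refine sup_le (fun x hx => ?_) (le_sup_right.trans le_normalizer)
        have key2 : ∀ x ∈ X, ∀ z ∈ ⁅X, H⁆ ⊔ H, x * z * x⁻¹ ∈ ⁅X, H⁆ ⊔ H := by
          intro x hx z hz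
          suffices hle : ⁅X, H⁆ ⊔ H ≤ (⁅X, H⁆ ⊔ H).comap (MulAut.conj x).toMonoidHom from hle hz
          refine sup_le (fun z hz => mem_sup_left ((mem_normalizer_iff.1 (h3 hx) z).1 hz))
            fun h hh => ?_
          show x * h * x⁻¹ ∈ ⁅X, H⁆ ⊔ H
          have : x * h * x⁻¹ = ⁅x, h⁆ * h := by simp [commutatorElement_def]
          rw [this]
          exact mul_mem (mem_sup_left (commutator_mem_commutator hx hh)) (mem_sup_right hh)
        refine mem_normalizer_iff.2 fun z => ⟨key2 x hx z, fun hz => ?_⟩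
        simpa [mul_assoc] using key2 x⁻¹ (inv_mem hx) _ hz
    have := hsn m
    rwa [sup_of_le_right hm] at this


/-- A subgroup H of a group G is subnormal exactly when, for some m, the subgroup obtained from G by taking the commutator with H m times in succession is contained in H. -/
theorem result {G : Type*} [Group G] (H : Subgroup G) : H.IsSubnormal ↔ ∃ m : ℕ, (fun K : Subgroup G => ⁅K, H⁆)^[m] ⊤ ≤ H := by
  exact subnormal_iff H

end Cfsg.Agent.S0567
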