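import Cfsg.Statements.S0568
import Cfsg.Agent.Lib.Solvable.SystemNormalizer
import Cfsg.Agent.Lib.Solvable.MinNormal

set_option autoImplicit false
open Cfsg

namespace Cfsg.Agent.S0568

open scoped commutatorElement
open Subgroup in
/-- A system normalizer avoids a non-central minimal normal subgroup. -/
theorem avoid.{u} {G : Type u} [Group G] [Finite G] [Group.IsSolvable G]
    {K : Nat.Primes → Subgroup G} (hK : Cfsg.IsComplementSystem K) {N : Subgroup G}
    (hN : CfsgLib.MinNormal.IsMinNormal N) (hnc : ¬ N ≤ center G) :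
    N ⊓ Cfsg.systemNormalizer K = ⊥ := by
  haveI := hN.1
  obtain ⟨p, hp, hel, hNp, -⟩ := hN.elementaryAbelian_of_solvable
  haveI := Fact.mk hp
  set C := centralizer (N : Set G) with hCdef
  have hCne : C ≠ ⊤ := fun h => hnc fun n hn => mem_center_iff.2 fun g =>
    (mem_centralizer_iff.1 (h ▸ mem_top g : g ∈ C) n hn).symm
  haveI : Nontrivial (G ⧸ C) := QuotientGroup.nontrivial_iff.2 hCne
  obtain ⟨Lb, hLb⟩ := CfsgLib.MinNormal.exists_isMinNormal (G := G ⧸ C)
  obtain ⟨q, hq, -, hLq, -⟩ := hLb.elementaryAbelian_of_solvable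
  haveI := Fact.mk hq
  haveI := hLb.1
  have hsurj := QuotientGroup.mk'_surjective C
  set L := Lb.comap (QuotientGroup.mk' C) with hL
  have hmap : L.map (QuotientGroup.mk' C) = Lb := map_comap_eq_self_of_surjective hsurj Lb
  have hnot : ¬ L ≤ C := fun h => hLb.2.1 (by
    rw [← hmap, Subgroup.map_eq_bot_iff, QuotientGroup.ker_mk']; exact h)
  haveI hLn : L.Normal := hLb.1.comap _
  have hfix : N ⊓ centralizer (L : Set G) = ⊥ := by
    refine (hN.2.2 _ inferInstance inf_le_left).resolve_right fun h => hnot fun l hl => ?_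
    refine mem_centralizer_iff.2 fun n hn => ?_
    exact (mem_centralizer_iff.1 ((h.ge hn : n ∈ N ⊓ centralizer (L : Set G)).2) l hl).symm
  have hqp : q ≠ p := by
    rintro rfl
    obtain ⟨P, -⟩ : ∃ P : Sylow q L, True := ⟨Classical.arbitrary _, trivial⟩
    let P' : Subgroup G := (P : Subgroup L).map L.subtype
    have hP' : IsPGroup q P' := P.isPGroup'.map _
    have hsup : L ≤ C ⊔ P' := by
      intro l hl
      set φ := (QuotientGroup.mk' C).comp L.subtype with hφ
      have hr : φ.range = Lb := by rw [hφ, MonoidHom.range_comp, range_subtype, hmap]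
      have h1 : (P : Subgroup L).map φ = Lb := by
        let P'' := P.mapSurjective (f := φ.rangeRestrict) φ.rangeRestrict_surjective
        have h2 : (P'' : Subgroup φ.range) = ⊤ := P''.is_maximal' (by
          rw [hr]; exact (hLq.to_le le_rfl).of_equiv topEquiv.symm) le_top ▸ rfl
        rw [Sylow.coe_mapSurjective] at h2
        rw [← hr, ← range_subtype φ.range, MonoidHom.range_eq_map, ← h2, map_map]
        rfl
      obtain ⟨y, hy, e⟩ := (h1.ge hl : QuotientGroup.mk' C l ∈ (P : Subgroup L).map φ)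
      have h3 : (y : G)⁻¹ * l ∈ C := QuotientGroup.eq.1 e
      have := mul_mem (mem_sup_right (S := C) (mem_map_of_mem L.subtype hy : (y : G) ∈ P'))
        (mem_sup_left (T := P') h3)
      simpa using this
    letI : MulAction P' N :=
      MulAction.compHom N ((MulAut.conjNormal (H := N)).comp P'.subtype)
    obtain ⟨k, hk⟩ := IsPGroup.iff_card.1 hNp
    have hk0 : k ≠ 0 := by
      rintro rfl
      exact hN.2.1 (eq_bot_of_card_eq _ (by rw [hk, pow_zero]))
    obtain ⟨z, hz, hz1⟩ := hP'.exists_fixed_point_of_prime_dvd_card_of_fixed_point N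
      (hk ▸ dvd_pow_self q hk0) (a := (1 : N))
      (fun g => map_one ((MulAut.conjNormal (H := N)) (g : G)))
    refine hz1 (Subtype.ext ?_).symm
    have hzL : (z : G) ∈ N ⊓ centralizer (L : Set G) := by
      refine ⟨z.2, ?_⟩
      refine centralizer_le (show (L : Set G) ⊆ ((C ⊔ P' : Subgroup G) : Set G) from hsup) ?_
      refine le_centralizer_iff.1 (sup_le ?_ fun g hg => ?_) (mem_zpowers (z : G))
      · exact fun c hc => mem_centralizer_iff.2 fun w hw =>
          mem_centralizer_iff.1 hc w (zpowers_le.2 z.2 hw)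
      · refine mem_centralizer_iff.2 fun w hw => ?_
        have h1 : g * z * g⁻¹ = z := congrArg Subtype.val (hz ⟨g, hg⟩)
        obtain ⟨j, rfl⟩ := hw
        exact ((show Commute g (z : G) from mul_inv_eq_iff_eq_mul.1 h1).zpow_right j).eq.symm
    rw [hfix, mem_bot] at hzL
    exact hzL
  refine eq_bot_iff.2 fun d hd => ?_
  rw [← hfix]
  refine ⟨hd.1, ?_⟩
  let π : Nat.Primes := ⟨p, hp⟩
  have hle : L ≤ C ⊔ K π := by
    obtain ⟨j, -, hj⟩ := (Nat.dvd_prime_pow hp).1
      (hK π ▸ index_map_dvd (K π) hsurj : ((K π).map (QuotientGroup.mk' C)).index ∣ p ^ _)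
    obtain ⟨i, hi⟩ := IsPGroup.iff_card.1 hLq
    have h1 : ((K π).map (QuotientGroup.mk' C)).relIndex Lb ∣ q ^ i := hi ▸ index_dvd_card _
    have h2 : ((K π).map (QuotientGroup.mk' C)).relIndex Lb ∣ p ^ j :=
      hj ▸ CfsgLib.SystemNormalizer.relIndex_dvd Lb _
    have h3 := Nat.eq_one_of_dvd_coprimes (Nat.coprime_pow_primes _ _ hq hp hqp) h1 h2
    rw [relIndex_eq_one] at h3
    refine (comap_mono h3).trans ?_
    rw [comap_map_eq, QuotientGroup.ker_mk', sup_comm]
  refine centralizer_le (show (L : Set G) ⊆ ((C ⊔ K π : Subgroup G) : Set G) from hle) ?_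
  refine le_centralizer_iff.1 (sup_le ?_ fun k hk => ?_) (mem_zpowers d)
  · exact fun c hc => mem_centralizer_iff.2 fun w hw =>
      mem_centralizer_iff.1 hc w (zpowers_le.2 (show d ∈ N from hd.1) hw)
  · have hdk : d * k * d⁻¹ ∈ K π :=
      (mem_normalizer_iff.1 (iInf_le (fun p : Nat.Primes => normalizer (K p : Set G)) π hd.2) k).1 hk
    have h1 : d * k * d⁻¹ * k⁻¹ ∈ N ⊓ K π := by
      refine Subgroup.mem_inf.2 ⟨?_, mul_mem hdk (inv_mem hk)⟩
      rw [show d * k * d⁻¹ * k⁻¹ = d * (k * d⁻¹ * k⁻¹) by group]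
      exact mul_mem (show d ∈ N from hd.1) (hN.1.conj_mem _ (inv_mem (show d ∈ N from hd.1)) k)
    have h2 : N ⊓ K π = ⊥ := by
      obtain ⟨i, hi⟩ := IsPGroup.iff_card.1 hNp
      refine inf_eq_bot_of_coprime (hi ▸ ?_)
      exact Nat.Coprime.pow_left _
        (hp.coprime_iff_not_dvd.2 (CfsgLib.SystemNormalizer.not_dvd_card hK π))
    rw [h2, mem_bot] at h1
    have hcomm : Commute k d := (mul_inv_eq_iff_eq_mul.1 (mul_inv_eq_one.1 h1)).symm
    refine mem_centralizer_iff.2 fun w hw => ?_
    obtain ⟨j, rfl⟩ := hw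
    exact (hcomm.zpow_right j).eq.symm


/-- Let D be the system normalizer of a Hall complement system of a finite solvable group G, and let A < B be normal subgroups with no normal subgroup of G strictly between them (a chief factor). If G centralizes B modulo A then B ≤ A ⊔ D (D covers the factor); otherwise B ∩ D ≤ A (D avoids it). -/
theorem result {G : Type*} [Group G] [Finite G] [Group.IsSolvable G] (K : Nat.Primes → Subgroup G) (hK : Cfsg.IsComplementSystem K) (A B : Subgroup G) [A.Normal] [B.Normal] (hAB : A < B) (hchief : ∀ N : Subgroup G, N.Normal → A ≤ N → N ≤ B → N = A ∨ N = B) : (⁅B, (⊤ : Subgroup G)⁆ ≤ A → B ≤ A ⊔ Cfsg.systemNormalizer K) ∧ (¬ ⁅B, (⊤ : Subgroup G)⁆ ≤ A → B ⊓ Cfsg.systemNormalizer K ≤ A) := by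
  have hsurj := QuotientGroup.mk'_surjective A
  have himg := CfsgLib.SystemNormalizer.systemNormalizer_map hK hsurj
  refine ⟨fun hc => ?_, fun hc => ?_⟩
  · intro b hb
    have hbD : QuotientGroup.mk' A b ∈
        Cfsg.systemNormalizer (fun p => (K p).map (QuotientGroup.mk' A)) := by
      refine CfsgLib.SystemNormalizer.mem_iff.2 fun p => ?_
      have hconj : MulAut.conj (QuotientGroup.mk' A b) = 1 := by
        refine MulEquiv.ext fun z => ?_
        obtain ⟨g, rfl⟩ := hsurj z
        have h1 : QuotientGroup.mk' A ⁅b, g⁆ = 1 :=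
          (QuotientGroup.eq_one_iff _).2 (hc (Subgroup.commutator_mem_commutator hb (Subgroup.mem_top g)))
        rw [map_commutatorElement, commutatorElement_eq_one_iff_mul_comm] at h1
        rw [MulAut.conj_apply, h1, mul_inv_cancel_right]
        rfl
      rw [hconj, one_smul]
    rw [himg] at hbD
    obtain ⟨d, hd, e⟩ := hbD
    have h1 : d⁻¹ * b ∈ A := by
      rw [← QuotientGroup.eq_one_iff]
      show QuotientGroup.mk' A (d⁻¹ * b) = 1
      rw [map_mul, map_inv, e, inv_mul_cancel]
    have := mul_mem (Subgroup.mem_sup_right (S := A) hd) (Subgroup.mem_sup_left (T := Cfsg.systemNormalizer K) h1)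
    rwa [mul_inv_cancel_left] at this
  · intro x hx
    set f := QuotientGroup.mk' A
    have hmin : CfsgLib.MinNormal.IsMinNormal (B.map f) := by
      refine ⟨(inferInstance : B.Normal).map f hsurj, ?_, fun M hM hle => ?_⟩
      · rw [Ne, Subgroup.map_eq_bot_iff, QuotientGroup.ker_mk']
        exact hAB.not_ge
      · have hA : A ≤ M.comap f := by
          intro a ha
          rw [Subgroup.mem_comap, show f a = 1 from (QuotientGroup.eq_one_iff a).2 ha]
          exact one_mem _
        have hB' : M.comap f ≤ B := by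
          refine (Subgroup.comap_mono hle).trans ?_
          rw [Subgroup.comap_map_eq_self (by rw [QuotientGroup.ker_mk']; exact hAB.le)]
        rcases hchief (M.comap f) (hM.comap f) hA hB' with e | e
        · left
          rw [← Subgroup.map_comap_eq_self_of_surjective hsurj M, e, Subgroup.map_eq_bot_iff,
            QuotientGroup.ker_mk']
        · right
          rw [← Subgroup.map_comap_eq_self_of_surjective hsurj M, e]
    have hnc : ¬ B.map f ≤ Subgroup.center (G ⧸ A) := by
      refine fun h => hc (Subgroup.commutator_le.2 fun b hb g _ => ?_)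
      rw [← QuotientGroup.eq_one_iff]
      show f ⁅b, g⁆ = 1
      rw [map_commutatorElement, commutatorElement_eq_one_iff_mul_comm]
      exact (Subgroup.mem_center_iff.1 (h (Subgroup.mem_map_of_mem f hb)) (f g)).symm
    have h1 := avoid (CfsgLib.SystemNormalizer.isComplementSystem_map hK hsurj) hmin hnc
    have h2 : f x ∈ (⊥ : Subgroup (G ⧸ A)) := by
      rw [← h1, himg]
      exact ⟨Subgroup.mem_map_of_mem f hx.1, Subgroup.mem_map_of_mem f hx.2⟩
    exact (QuotientGroup.eq_one_iff x).1 (Subgroup.mem_bot.1 h2)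

end Cfsg.Agent.S0568
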