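import Cfsg.Statements.S0569
import Cfsg.Agent.Lib.Solvable.CarterSystem

set_option autoImplicit false
open Cfsg

namespace Cfsg.Agent.S0569
open Pointwise

/-- In a finite solvable group: each nilpotent self-normalizing subgroup contains the system normalizer of some Hall complement system, and the system normalizer of any Hall complement system lies in some nilpotent self-normalizing subgroup. -/
theorem result {G : Type*} [Group G] [Finite G] [Group.IsSolvable G] : (∀ C : Subgroup G, Cfsg.IsCarterSubgroup C → ∃ K : Nat.Primes → Subgroup G, Cfsg.IsComplementSystem K ∧ Cfsg.systemNormalizer K ≤ C) ∧ ∀ K : Nat.Primes → Subgroup G, Cfsg.IsComplementSystem K → ∃ C : Subgroup G, Cfsg.IsCarterSubgroup C ∧ Cfsg.systemNormalizer K ≤ C := by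
  refine ⟨fun C hC => ?_, fun K' hK' => ?_⟩
  · obtain ⟨K, hK, hle⟩ := CfsgLib.CarterSystem.exists_system hC.1
    exact ⟨K, hK, CfsgLib.CarterSystem.systemNormalizer_le _ rfl C hC K hK hle⟩
  · obtain ⟨⟨C, hC⟩, -⟩ := CfsgLib.Carter.exists_and_conj (G := G)
    obtain ⟨K, hK, hle⟩ := CfsgLib.CarterSystem.exists_system hC.1
    obtain ⟨g, hg⟩ := CfsgLib.ComplementSystem.conj hK hK'
    refine ⟨MulAut.conj g • C, CfsgLib.Carter.isCarter_smul hC g, ?_⟩
    rw [show K' = fun p => MulAut.conj g • K p from funext fun p => (hg p).symm,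
      CfsgLib.CarterSystem.systemNormalizer_smul]
    exact Subgroup.pointwise_smul_le_pointwise_smul_iff.2
      (CfsgLib.CarterSystem.systemNormalizer_le _ rfl C hC K hK hle)

end Cfsg.Agent.S0569
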