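import Cfsg.Statements.S0570
import Cfsg.Agent.Lib.Solvable.CarterSystem

set_option autoImplicit false
open Cfsg

namespace Cfsg.Agent.S0570
open Pointwise

/-- Let G be a finite group with a nilpotent normal subgroup F such that G modulo F is nilpotent (nilpotent length at most two). Then a subgroup of G is a Carter subgroup if and only if it is the system normalizer of some Hall complement system. -/
theorem result {G : Type*} [Group G] [Finite G] (F : Subgroup G) [F.Normal] (hF : Group.IsNilpotent F) (hGF : Group.IsNilpotent (G ⧸ F)) (C : Subgroup G) : Cfsg.IsCarterSubgroup C ↔ ∃ K : Nat.Primes → Subgroup G, Cfsg.IsComplementSystem K ∧ C = Cfsg.systemNormalizer K := by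
  haveI := hF
  haveI := hGF
  haveI : Group.IsSolvable G :=
    Group.isSolvable_of_ker_le_range F.subtype (QuotientGroup.mk' F)
      (by rw [QuotientGroup.ker_mk', Subgroup.range_subtype])
  have key : ∀ C : Subgroup G, Cfsg.IsCarterSubgroup C → ∃ K : Nat.Primes → Subgroup G,
      Cfsg.IsComplementSystem K ∧ C = Cfsg.systemNormalizer K := by
    intro C hC
    obtain ⟨K, hK, hle⟩ := CfsgLib.CarterSystem.exists_system hC.1
    exact ⟨K, hK, le_antisymm (CfsgLib.CarterSystem.carter_le hF hGF hC hK hle)
      (CfsgLib.CarterSystem.systemNormalizer_le _ rfl C hC K hK hle)⟩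
  refine ⟨key C, ?_⟩
  rintro ⟨K', hK', rfl⟩
  obtain ⟨⟨C, hC⟩, -⟩ := CfsgLib.Carter.exists_and_conj (G := G)
  obtain ⟨K, hK, rfl⟩ := key C hC
  obtain ⟨g, hg⟩ := CfsgLib.ComplementSystem.conj hK hK'
  rw [show K' = fun p => MulAut.conj g • K p from funext fun p => (hg p).symm,
    CfsgLib.CarterSystem.systemNormalizer_smul]
  exact CfsgLib.Carter.isCarter_smul hC g

end Cfsg.Agent.S0570
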