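import Cfsg.Statements.S0573
import Cfsg.Agent.Lib.Solvable.Factorization
import Cfsg.Agent.Lib.Solvable.MinNormal

set_option autoImplicit false
open Cfsg

namespace Cfsg.Agent.S0573
open Subgroup in
/-- If `A` centralizes a normal subgroup `N`, then some normal subgroup lies in `A` or in `B`. -/
theorem of_le_centralizer {G : Type*} [Group G] (A B : Subgroup G) [IsMulCommutative A]
    [IsMulCommutative B] (hAB : ∀ g : G, ∃ a ∈ A, ∃ b ∈ B, g = a * b) {N : Subgroup G}
    (hNn : N.Normal) (hN : N ≠ ⊥) (h : A ≤ centralizer (N : Set G)) :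
    ∃ M : Subgroup G, M.Normal ∧ M ≠ ⊥ ∧ (M ≤ A ∨ M ≤ B) := by
  have hcA : ∀ {x y : G}, x ∈ A → y ∈ A → x * y = y * x := fun {x y} hx hy =>
    congrArg Subtype.val (mul_comm' (⟨x, hx⟩ : A) ⟨y, hy⟩)
  have hcB : ∀ {x y : G}, x ∈ B → y ∈ B → x * y = y * x := fun {x y} hx hy =>
    congrArg Subtype.val (mul_comm' (⟨x, hx⟩ : B) ⟨y, hy⟩)
  by_cases hNA : N ≤ A
  · exact ⟨N, hNn, hN, Or.inl hNA⟩
  obtain ⟨n, hn, hnA⟩ := SetLike.not_le_iff_exists.1 hNA
  obtain ⟨a, ha, b, hb, e⟩ := hAB n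
  have hb1 : b ≠ 1 := fun hb1 => hnA (by rw [e, hb1, mul_one]; exact ha)
  have hbe : b = a⁻¹ * n := by rw [e, inv_mul_cancel_left]
  have hz : b ∈ center G := by
    rw [mem_center_iff]
    intro g
    obtain ⟨a', ha', b', hb', rfl⟩ := hAB g
    have h1 : Commute a' b := by
      rw [hbe]
      exact Commute.mul_right (hcA ha' (inv_mem ha))
        (mem_centralizer_iff.1 (h ha') n hn).symm
    exact (h1.mul_left (hcB hb' hb)).eq
  refine ⟨zpowers b, ?_, by simpa using hb1, Or.inr (zpowers_le.2 hb)⟩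
  exact ⟨fun x hx g => by
    have hxc : x ∈ center G := (zpowers_le.2 hz) hx
    rwa [mem_center_iff.1 hxc g, mul_inv_cancel_right]⟩

open Subgroup in
open scoped commutatorElement in
theorem exists_normal_le {G : Type*} [Group G] [Finite G] [Nontrivial G] (A B : Subgroup G)
    [IsMulCommutative A] [IsMulCommutative B]
    (hAB : ∀ g : G, ∃ a ∈ A, ∃ b ∈ B, g = a * b) :
    ∃ M : Subgroup G, M.Normal ∧ M ≠ ⊥ ∧ (M ≤ A ∨ M ≤ B) := by
  by_cases hG' : commutator G = ⊥
  · have hcomm : ∀ x y : G, x * y = y * x := fun x y => commutatorElement_eq_one_iff_mul_comm.1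
      (mem_bot.1 (hG' ▸ commutator_mem_commutator (mem_top x) (mem_top y)))
    have hn : ∀ X : Subgroup G, X.Normal := fun X =>
      ⟨fun x hx g => by rwa [hcomm g x, mul_inv_cancel_right]⟩
    by_cases hA : A = ⊥
    · refine ⟨B, hn B, fun hB => ?_, Or.inr le_rfl⟩
      obtain ⟨g, hg⟩ := exists_ne (1 : G)
      obtain ⟨a, ha, b, hb, rfl⟩ := hAB g
      rw [hA, mem_bot] at ha
      rw [hB, mem_bot] at hb
      exact hg (by simp [ha, hb])
    · exact ⟨A, hn A, hA, Or.inl le_rfl⟩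
  obtain ⟨N, hNmin, hNG⟩ := CfsgLib.MinNormal.exists_isMinNormal_le
    (K := commutator G) inferInstance hG'
  haveI hNn := hNmin.1
  have hab : ∀ {x y : G}, x ∈ commutator G → y ∈ commutator G → x * y = y * x := by
    intro x y hx hy
    have h2 := CfsgLib.Factorization.ito A B hAB
    rw [derivedSeries_succ, derivedSeries_one] at h2
    exact commutatorElement_eq_one_iff_mul_comm.1
      (mem_bot.1 (h2 ▸ commutator_mem_commutator hx hy))
  haveI : IsMulCommutative N := ⟨⟨fun x y => Subtype.ext (hab (hNG x.2) (hNG y.2))⟩⟩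
  obtain ⟨p, hp, hel, hpN, k, hk, hcardN⟩ := hNmin.exists_prime_elementaryAbelian inferInstance
  haveI := Fact.mk hp
  -- the fixed subgroup of any element in `N` is normal
  have hinv : ∀ x : G, x ∉ centralizer (N : Set G) →
      N ⊓ centralizer ({x} : Set G) = ⊥ := by
    intro x hx
    have hnorm : (N ⊓ centralizer ({x} : Set G)).Normal := by
      refine ⟨fun n hn g => ⟨hNn.conj_mem n hn.1 g, mem_centralizer_iff.2 ?_⟩⟩
      intro z hz; rw [Set.mem_singleton_iff] at hz; subst z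
      have h1 : x * n = n * x := mem_centralizer_iff.1 hn.2 x rfl
      have h2 : ⁅g⁻¹, x⁆ * n = n * ⁅g⁻¹, x⁆ :=
        hab (commutator_mem_commutator (mem_top _) (mem_top _)) (hNG hn.1)
      calc x * (g * n * g⁻¹) = g * (⁅g⁻¹, x⁆ * (x * n)) * g⁻¹ := by
            simp [commutatorElement_def, mul_assoc]
        _ = g * ((⁅g⁻¹, x⁆ * n) * x) * g⁻¹ := by rw [h1, ← mul_assoc ⁅g⁻¹, x⁆]
        _ = g * n * g⁻¹ * x := by rw [h2]; simp [commutatorElement_def, mul_assoc]
    rcases hNmin.2.2 _ hnorm inf_le_left with h | h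
    · exact h
    · exfalso
      refine hx (mem_centralizer_iff.2 fun n hn => ?_)
      exact (mem_centralizer_iff.1 ((inf_eq_left.1 h) hn) x rfl).symm
  -- `p`-elements centralize `N`
  have hpel : ∀ (X : Subgroup G), IsPGroup p X → X ≤ centralizer (N : Set G) := by
    intro X hX x hx
    by_contra hxN
    have hZ : IsPGroup p (zpowers x) := hX.to_le (zpowers_le.2 hx)
    letI : MulAction (zpowers x) N :=
      MulAction.compHom N ((MulAut.conjNormal (H := N)).comp (zpowers x).subtype)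
    have hmod := hZ.card_modEq_card_fixedPoints N
    have hone : Nat.card (MulAction.fixedPoints (zpowers x) N) = 1 := by
      rw [Nat.card_eq_one_iff_unique]
      refine ⟨⟨fun u v => ?_⟩, ⟨⟨1, fun y => map_one (MulAut.conjNormal (H := N) (y : G))⟩⟩⟩
      suffices h : ∀ u : MulAction.fixedPoints (zpowers x) N, ((u : N) : G) = 1 from
        Subtype.ext (Subtype.ext ((h u).trans (h v).symm))
      intro u
      rw [← mem_bot, ← hinv x hxN]
      refine ⟨(u : N).2, mem_centralizer_iff.2 ?_⟩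
      intro z hz; rw [Set.mem_singleton_iff] at hz; subst z
      exact mul_inv_eq_iff_eq_mul.1 (congrArg Subtype.val (u.2 ⟨x, mem_zpowers x⟩))
    rw [hone, hcardN] at hmod
    have hdvd : p ∣ 1 := Nat.modEq_zero_iff_dvd.1
      (hmod.symm.trans (Nat.modEq_zero_iff_dvd.2 (dvd_pow_self p hk.ne')))
    exact hp.one_lt.ne' (Nat.dvd_one.1 hdvd)
  have hswap := CfsgLib.Factorization.swap hAB
  by_cases hAN : A ≤ centralizer (N : Set G)
  · exact of_le_centralizer A B hAB hNn hNmin.2.1 hAN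
  by_cases hBN : B ≤ centralizer (N : Set G)
  · obtain ⟨M, h1, h2, h3⟩ := of_le_centralizer B A hswap hNn hNmin.2.1 hBN
    exact ⟨M, h1, h2, h3.symm⟩
  obtain ⟨a, ha, haN⟩ := SetLike.not_le_iff_exists.1 hAN
  obtain ⟨b, hb, hbN⟩ := SetLike.not_le_iff_exists.1 hBN
  have hNA : N ⊓ A = ⊥ := le_bot_iff.1 ((hinv a haN) ▸ le_inf inf_le_left (inf_le_right.trans
    ((le_centralizer A).trans (centralizer_le (by simpa using ha)))))
  have hNB : N ⊓ B = ⊥ := le_bot_iff.1 ((hinv b hbN) ▸ le_inf inf_le_left (inf_le_right.trans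
    ((le_centralizer B).trans (centralizer_le (by simpa using hb)))))
  set A₀ := A ⊓ (N ⊔ B) with hA₀
  set B₀ := B ⊓ (N ⊔ A) with hB₀
  set Y := N ⊔ A₀ with hY
  have hsub : ∀ X Z : Subgroup G, Z ⊓ (N ⊔ X) ≤ N ⊔ (X ⊓ (N ⊔ Z)) := by
    intro X Z z hz
    obtain ⟨n, hn, x, hx, e⟩ := mem_sup_of_normal_left.1 hz.2
    have hxm : x ∈ N ⊔ Z := by
      have : x = n⁻¹ * z := by rw [← e, inv_mul_cancel_left]
      rw [this]
      exact mul_mem_sup (inv_mem hn) hz.1
    rw [← e]
    exact mul_mem_sup hn ⟨hx, hxm⟩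
  have hY' : Y = N ⊔ B₀ :=
    le_antisymm (sup_le le_sup_left (hsub B A)) (sup_le le_sup_left (hsub A B))
  -- `Y` is normal and central modulo `N`
  set f := QuotientGroup.mk' N
  have hfA : ∀ x ∈ A, ∀ y ∈ Y, Commute (f x) (f y) := by
    intro x hx y hy
    obtain ⟨n, hn, a', ha', rfl⟩ := mem_sup_of_normal_left.1 hy
    rw [map_mul, show f n = 1 from (QuotientGroup.eq_one_iff n).2 hn, one_mul]
    exact (show Commute x a' from congrArg Subtype.val (mul_comm' (⟨x, hx⟩ : A) ⟨a', ha'.1⟩)).map f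
  have hfB : ∀ x ∈ B, ∀ y ∈ Y, Commute (f x) (f y) := by
    intro x hx y hy
    rw [hY'] at hy
    obtain ⟨n, hn, b', hb', rfl⟩ := mem_sup_of_normal_left.1 hy
    rw [map_mul, show f n = 1 from (QuotientGroup.eq_one_iff n).2 hn, one_mul]
    exact (show Commute x b' from congrArg Subtype.val (mul_comm' (⟨x, hx⟩ : B) ⟨b', hb'.1⟩)).map f
  have hYc : ∀ g : G, ∀ y ∈ Y, g * y * g⁻¹ * y⁻¹ ∈ N := by
    intro g y hy
    obtain ⟨x, hx, z, hz, rfl⟩ := hAB g
    have hc : Commute (f (x * z)) (f y) := by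
      rw [map_mul]
      exact (hfA x hx y hy).mul_left (hfB z hz y hy)
    rw [← QuotientGroup.eq_one_iff, ← QuotientGroup.mk'_apply]
    rw [map_mul, map_mul, map_mul, hc.eq, map_inv, map_inv, mul_inv_cancel_right, mul_inv_cancel]
  haveI hYn : Y.Normal := ⟨fun y hy g => by
    have := mul_mem (Subgroup.mem_sup_left (hYc g y hy) : g * y * g⁻¹ * y⁻¹ ∈ Y) hy
    simpa using this⟩
  set C := centralizer (Y : Set G) with hC
  -- `p`-elements of `A` and of `B` centralize `Y`
  have hpA : ∀ X : Subgroup G, IsPGroup p X → X ≤ A → X ≤ C := by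
    intro X hX hXA x hx
    refine (le_centralizer_iff.1 ?_) hx
    refine sup_le (le_centralizer_iff.1 (hpel X hX)) ?_
    exact inf_le_left.trans ((le_centralizer A).trans (centralizer_le hXA))
  have hpB : ∀ X : Subgroup G, IsPGroup p X → X ≤ B → X ≤ C := by
    intro X hX hXB x hx
    refine (le_centralizer_iff.1 ?_) hx
    rw [hY']
    refine sup_le (le_centralizer_iff.1 (hpel X hX)) ?_
    exact inf_le_left.trans ((le_centralizer B).trans (centralizer_le hXB))
  obtain ⟨P, Q, R, hR⟩ := CfsgLib.Factorization.exists_sylow_product (p := p) hAB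
  have hRC : (R : Subgroup G) ≤ C := by
    intro r hr
    have hr' : r ∈ ((R : Subgroup G) : Set G) := hr
    rw [hR] at hr'
    obtain ⟨u, hu, v, hv, rfl⟩ := hr'
    exact mul_mem (hpA _ (P.isPGroup'.map _) (map_subtype_le _) hu)
      (hpB _ (Q.isPGroup'.map _) (map_subtype_le _) hv)
  have hidx : ¬ p ∣ C.index := fun hd => R.not_dvd_index (hd.trans (index_dvd_of_le hRC))
  -- so the commutator subgroup centralizes `Y`
  have hcom : ∀ c ∈ commutator G, c ∈ C := by
    intro c hc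
    have hpow : ∀ y ∈ Y, ∀ j : ℕ, c ^ j * y * (c ^ j)⁻¹ = (c * y * c⁻¹ * y⁻¹) ^ j * y := by
      intro y hy j
      have hm : c * (c * y * c⁻¹ * y⁻¹) * c⁻¹ = c * y * c⁻¹ * y⁻¹ := by
        rw [hab hc (hNG (hYc c y hy)), mul_inv_cancel_right]
      induction j with
      | zero => simp
      | succ j ih =>
        calc c ^ (j + 1) * y * (c ^ (j + 1))⁻¹ = c * (c ^ j * y * (c ^ j)⁻¹) * c⁻¹ := by
              rw [pow_succ']; group
          _ = (MulAut.conj c) (c ^ j * y * (c ^ j)⁻¹) := rfl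
          _ = (MulAut.conj c) (c * y * c⁻¹ * y⁻¹) ^ j * (MulAut.conj c) y := by
              rw [ih, map_mul, map_pow]
          _ = (c * y * c⁻¹ * y⁻¹) ^ j * (c * y * c⁻¹) := by
              simp only [MulAut.conj_apply]; rw [hm]
          _ = (c * y * c⁻¹ * y⁻¹) ^ (j + 1) * y := by
              rw [pow_succ]; group
    have hcp : c ^ p ∈ C := by
      refine mem_centralizer_iff.2 fun y hy => ?_
      have h1 := hpow y hy p
      rw [hel.2 _ (hYc c y hy), one_mul] at h1
      exact (mul_inv_eq_iff_eq_mul.1 h1).symm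
    rw [← QuotientGroup.eq_one_iff, ← orderOf_eq_one_iff]
    have h1 : orderOf (c : G ⧸ C) ∣ p := by
      refine orderOf_dvd_of_pow_eq_one ?_
      rw [← QuotientGroup.mk_pow, QuotientGroup.eq_one_iff]
      exact hcp
    exact Nat.eq_one_of_dvd_coprimes ((hp.coprime_iff_not_dvd).2 hidx) h1
      (orderOf_dvd_natCard _)
  -- `A₀` is the centralizer of `a` in `Y`, hence normal
  have hA₀eq : Y ⊓ centralizer ({a} : Set G) = A₀ := by
    refine le_antisymm ?_ (le_inf le_sup_right (inf_le_left.trans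
      ((le_centralizer A).trans (centralizer_le (by simpa using ha)))))
    rintro y ⟨hy, hya⟩
    obtain ⟨n, hn, a', ha', rfl⟩ := mem_sup_of_normal_left.1 hy
    have hca : a' ∈ centralizer ({a} : Set G) :=
      ((le_centralizer A).trans (centralizer_le (by simpa using ha))) ha'.1
    have hna : n ∈ N ⊓ centralizer ({a} : Set G) :=
      ⟨hn, by simpa using Subgroup.mul_mem _ hya (Subgroup.inv_mem _ hca)⟩
    rw [hinv a haN, mem_bot] at hna
    simpa [hna] using ha'
  refine ⟨A₀, ⟨fun y hy g => ?_⟩, ?_, Or.inl inf_le_left⟩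
  · rw [← hA₀eq] at hy ⊢
    refine ⟨hYn.conj_mem y hy.1 g, mem_centralizer_iff.2 ?_⟩
    intro z hz; rw [Set.mem_singleton_iff] at hz; subst z
    have h1 : a * y = y * a := mem_centralizer_iff.1 hy.2 a rfl
    have h2 : ⁅g⁻¹, a⁆ * y = y * ⁅g⁻¹, a⁆ :=
      (mem_centralizer_iff.1 (hcom _ (commutator_mem_commutator (mem_top _) (mem_top _))) y
        hy.1).symm
    calc a * (g * y * g⁻¹) = g * (⁅g⁻¹, a⁆ * (a * y)) * g⁻¹ := by
          simp [commutatorElement_def, mul_assoc]
      _ = g * ((⁅g⁻¹, a⁆ * y) * a) * g⁻¹ := by rw [h1, ← mul_assoc ⁅g⁻¹, a⁆]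
      _ = g * y * g⁻¹ * a := by rw [h2]; simp [commutatorElement_def, mul_assoc]
  · intro hbot
    obtain ⟨n, hn, hn1⟩ := (Subgroup.ne_bot_iff_exists_ne_one.1 hNmin.2.1) |> fun ⟨⟨n, hn⟩, h⟩ =>
      (⟨n, hn, fun e => h (Subtype.ext e)⟩ : ∃ n ∈ N, n ≠ 1)
    obtain ⟨b', hb', a', ha', e⟩ := hswap n
    have ha0 : a' ∈ A₀ := by
      refine ⟨ha', ?_⟩
      have : a' = b'⁻¹ * n := by rw [e, inv_mul_cancel_left]
      rw [this]
      exact mul_mem (mem_sup_right (inv_mem hb')) (mem_sup_left hn)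
    rw [hbot, mem_bot] at ha0
    have : n ∈ N ⊓ B := ⟨hn, by rw [e, ha0, mul_one]; exact hb'⟩
    rw [hNB, mem_bot] at this
    exact hn1 this


/-- If a nontrivial finite group G is the product AB of abelian subgroups A and B, then some nontrivial normal subgroup of G is contained in A or in B. -/
theorem result {G : Type*} [Group G] [Finite G] [Nontrivial G] (A B : Subgroup G) [IsMulCommutative A] [IsMulCommutative B] (hAB : ∀ g : G, ∃ a ∈ A, ∃ b ∈ B, g = a * b) : ∃ N : Subgroup G, N.Normal ∧ N ≠ ⊥ ∧ (N ≤ A ∨ N ≤ B) := by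
  exact exists_normal_le A B hAB

end Cfsg.Agent.S0573
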