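import Cfsg.Statements.S0571
import Cfsg.Agent.S0573
import Cfsg.Agent.Lib.Solvable.Supersolvable

set_option autoImplicit false
open Cfsg

namespace Cfsg.Agent.S0571
open Subgroup in
theorem cyclic_product.{u} : ∀ (n : ℕ) {G : Type u} [Group G] [Finite G], Nat.card G = n →
    ∀ A B : Subgroup G, IsCyclic A → IsCyclic B →
      (∀ g : G, ∃ a ∈ A, ∃ b ∈ B, g = a * b) → Cfsg.IsSupersolvable G := by
  intro n
  induction n using Nat.strong_induction_on with
  | _ n ih =>
  intro G _ _ hn A B hA hB hAB
  subst hn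
  haveI := hA
  haveI := hB
  rcases subsingleton_or_nontrivial G with hs | hs
  · exact CfsgLib.Supersolvable.of_subsingleton
  haveI : IsMulCommutative A := ⟨⟨fun a b => hA.commGroup.mul_comm a b⟩⟩
  haveI : IsMulCommutative B := ⟨⟨fun a b => hB.commGroup.mul_comm a b⟩⟩
  obtain ⟨N, hN, hNb, hle⟩ := S0573.exists_normal_le A B hAB
  haveI := hN
  haveI : IsCyclic N := hle.elim (fun h => isCyclic_of_le h) (fun h => isCyclic_of_le h)
  refine CfsgLib.Supersolvable.of_cyclic_normal_quotient N
    (ih _ (CfsgLib.Supersolvable.card_quotient_lt hNb) rfl (A.map (QuotientGroup.mk' N))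
      (B.map (QuotientGroup.mk' N))
      (isCyclic_of_surjective _ (MonoidHom.subgroupMap_surjective _ A))
      (isCyclic_of_surjective _ (MonoidHom.subgroupMap_surjective _ B)) fun q => ?_)
  obtain ⟨g, rfl⟩ := QuotientGroup.mk'_surjective N q
  obtain ⟨a, ha, b, hb, rfl⟩ := hAB g
  exact ⟨_, mem_map_of_mem _ ha, _, mem_map_of_mem _ hb, map_mul _ _ _⟩


/-- If a finite group G is the product AB of two cyclic subgroups (every element is a product ab), then G is supersolvable. -/
theorem result {G : Type*} [Group G] [Finite G] (A B : Subgroup G) [IsCyclic A] [IsCyclic B] (hAB : ∀ g : G, ∃ a ∈ A, ∃ b ∈ B, g = a * b) : Cfsg.IsSupersolvable G := by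
  exact cyclic_product _ rfl A B inferInstance inferInstance hAB

end Cfsg.Agent.S0571
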