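import Cfsg.Statements.S0574
import Cfsg.Agent.Lib.Solvable.KegelWielandt

set_option autoImplicit false
open Cfsg

namespace Cfsg.Agent.S0574

open Subgroup
open scoped commutatorElement

/-- A product of an abelian subgroup and a subgroup of class two has a normal metabelian subgroup
meeting the commutator subgroup of the second factor. -/
theorem exists_metabelian.{u} {G : Type u} [Group G] [Finite G] [Group.IsSolvable G]
    (A B : Subgroup G) [IsMulCommutative A] (hB : commutator B ≤ center B)
    (hAB : ∀ g : G, ∃ a ∈ A, ∃ b ∈ B, g = a * b) (hne : commutator B ≠ ⊥) :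
    ∃ M : Subgroup G, M.Normal ∧ derivedSeries M 2 = ⊥ ∧
      (commutator B).map B.subtype ⊓ M ≠ ⊥ := by
  set C := (commutator B).map B.subtype with hC
  have hCB : C ≤ B := map_subtype_le _
  have hcent : ∀ z ∈ C, ∀ b ∈ B, b * z = z * b := by
    rintro _ ⟨z, hz, rfl⟩ b hb
    exact congrArg Subtype.val (mem_center_iff.1 (hB hz) ⟨b, hb⟩)
  obtain ⟨L, hL⟩ := ({H : Subgroup G | A ≤ H ∧ C ⊓ H ≠ ⊥}).toFinite.exists_minimal
    ⟨⊤, le_top, by rwa [inf_top_eq, Ne, map_eq_bot_iff_of_injective _ B.subtype_injective]⟩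
  obtain ⟨hAL, hCL⟩ := hL.prop
  have hfac := CfsgLib.KegelWielandt.factorised_sup hAB hAL
  have hmin : ∀ H : Subgroup G, A ≤ H → H ≤ L → ∀ z ∈ C, z ∈ H → z ≠ 1 → L ≤ H :=
    fun H h1 h2 z hz hzH hz1 => hL.le_of_le
      ⟨h1, fun e => hz1 (mem_bot.1 (e.le (mem_inf.2 ⟨hz, hzH⟩)))⟩ h2
  -- the second factor of `L` is abelian
  have habel : ∀ x ∈ L ⊓ B, ∀ y ∈ L ⊓ B, x * y = y * x := by
    intro x hx y hy
    by_contra hne'
    set w := ⁅(⟨x, hx.1⟩ : L), (⟨y, hy.1⟩ : L)⁆ with hw
    have hw1 : (w : G) ≠ 1 := fun e => hne' (commutatorElement_eq_one_iff_mul_comm.1 e)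
    have hwC : (w : G) ∈ C :=
      ⟨⁅⟨x, hx.2⟩, ⟨y, hy.2⟩⁆, commutator_mem_commutator (mem_top _) (mem_top _), rfl⟩
    set V := commutator L with hV
    set E := ⁅V, V⁆ with hE
    set AL := A.subgroupOf L
    -- `A` and `E` together avoid `w`
    have hAE : ∀ H : Subgroup L, AL ≤ H → w ∈ H → H = ⊤ := by
      intro H h1 h2
      refine eq_top_iff.2 fun l _ => ?_
      obtain ⟨l', hl', e⟩ := hmin (H.map L.subtype)
        (fun a ha => ⟨⟨a, hAL ha⟩, h1 ha, rfl⟩) (map_subtype_le H) w hwC
        (mem_map_of_mem _ h2) hw1 l.2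
      exact L.subtype_injective e ▸ hl'
    haveI hVn : V.Normal := inferInstance
    haveI hEn : E.Normal := inferInstance
    set q := QuotientGroup.mk' E
    have hqs : Function.Surjective q := QuotientGroup.mk'_surjective E
    set Vb := V.map q
    haveI hVbn : Vb.Normal := hVn.map q hqs
    set B₁ := ((B.subgroupOf L).map q)
    have hVab : ∀ u ∈ Vb, ∀ v ∈ Vb, u * v = v * u := by
      rintro _ ⟨u, hu, rfl⟩ _ ⟨v, hv, rfl⟩
      rw [← commutatorElement_eq_one_iff_mul_comm, ← map_commutatorElement]
      exact (QuotientGroup.eq_one_iff _).2 (commutator_mem_commutator hu hv)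
    haveI hBVn : (B₁ ⊔ Vb).Normal := by
      refine ⟨fun z hz g => ?_⟩
      have h1 : g * z * g⁻¹ * z⁻¹ ∈ Vb := by
        obtain ⟨g', rfl⟩ := hqs g
        obtain ⟨z', rfl⟩ := hqs z
        exact ⟨⁅g', z'⁆, commutator_mem_commutator (mem_top _) (mem_top _),
          by rw [map_commutatorElement, commutatorElement_def]⟩
      simpa using mul_mem (mem_sup_right (S := B₁) h1) hz
    set P := Vb ⊓ centralizer ((B₁ ⊔ Vb : Subgroup _) : Set _)
    haveI hPn : P.Normal := inferInstance
    have hwP : q w ∈ P := by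
      refine mem_inf.2 ⟨mem_map_of_mem q (commutator_mem_commutator (mem_top _) (mem_top _)),
        le_centralizer_iff.1 (sup_le ?_ ?_) (mem_zpowers (q w))⟩
      · rintro _ ⟨b, hb, rfl⟩
        refine mem_centralizer_iff.2 fun z hz => ?_
        obtain ⟨j, rfl⟩ := hz
        have hc : Commute b w := Subtype.ext (hcent w hwC b hb)
        exact ((hc.map q).zpow_right j).eq.symm
      · intro v hv
        refine mem_centralizer_iff.2 fun z hz => ?_
        obtain ⟨j, rfl⟩ := hz
        exact hVab _ (zpow_mem (mem_map_of_mem q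
          (commutator_mem_commutator (mem_top _) (mem_top _))) j) v hv
    have htop : AL.map q ⊔ P = ⊤ := by
      have h1 : (AL.map q ⊔ P).comap q = ⊤ :=
        hAE _ (map_le_iff_le_comap.1 le_sup_left) (mem_comap.2 (mem_sup_right hwP))
      rw [← map_comap_eq_self_of_surjective hqs (AL.map q ⊔ P), h1, map_top_of_surjective q hqs]
    have hsplit : ∀ z, z ∈ B₁ → ∃ a ∈ AL.map q, ∃ p ∈ P, z = a * p := fun z _ => by
      obtain ⟨a, ha, p, hp, e⟩ := mem_sup_of_normal_right.1 (htop.ge (mem_top z))
      exact ⟨a, ha, p, hp, e.symm⟩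
    have hxy : Commute (q ⟨x, hx.1⟩) (q ⟨y, hy.1⟩) := by
      have hx₁ : q ⟨x, hx.1⟩ ∈ B₁ := mem_map_of_mem q (show (⟨x, hx.1⟩ : L) ∈ B.subgroupOf L from hx.2)
      have hy₁ : q ⟨y, hy.1⟩ ∈ B₁ := mem_map_of_mem q (show (⟨y, hy.1⟩ : L) ∈ B.subgroupOf L from hy.2)
      obtain ⟨a, ⟨a', ha', rfl⟩, p, hp, e⟩ := hsplit _ hx₁
      obtain ⟨c, ⟨c', hc', rfl⟩, r, hr, e'⟩ := hsplit _ hy₁
      have hP : ∀ {z}, z ∈ B₁ ⊔ Vb → ∀ {u}, u ∈ P → Commute z u := fun {z} hz {u} hu =>
        mem_centralizer_iff.1 (mem_inf.1 hu).2 z hz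
      have hac : Commute (q a') (q c') := by
        refine Commute.map ?_ q
        exact Subtype.ext (congrArg (fun t : A => (t : G))
          (mul_comm' (⟨a', ha'⟩ : A) ⟨c', hc'⟩))
      have hpc : Commute p (q c') := by
        have h1 : q c' = q ⟨y, hy.1⟩ * r⁻¹ := by rw [e', mul_inv_cancel_right]
        rw [h1]
        exact ((hP (mem_sup_left hy₁) hp).symm).mul_right
          (hP (mem_sup_right (mem_inf.1 hp).1) (inv_mem hr))
      have har : Commute (q a') r := by
        have h1 : q a' = q ⟨x, hx.1⟩ * p⁻¹ := by rw [e, mul_inv_cancel_right]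
        rw [h1]
        exact (hP (mem_sup_left hx₁) hr).mul_left (hP (mem_sup_right (inv_mem (mem_inf.1 hp).1)) hr)
      have hpr : Commute p r := hP (mem_sup_right (mem_inf.1 hp).1) hr
      rw [e, e']
      exact (hac.mul_right har).mul_left (hpc.mul_right hpr)
    have hwE : w ∈ E := by
      rw [← QuotientGroup.eq_one_iff]
      show q w = 1
      rw [hw, map_commutatorElement, commutatorElement_eq_one_iff_mul_comm]
      exact hxy.eq
    have htopE : AL ⊔ E = ⊤ := hAE _ le_sup_left (mem_sup_right hwE)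
    have hle : V ≤ E := by
      rw [hV, _root_.commutator_def, commutator_le]
      intro g _ k _
      rw [← QuotientGroup.eq_one_iff]
      show q ⁅g, k⁆ = 1
      rw [map_commutatorElement, commutatorElement_eq_one_iff_mul_comm]
      obtain ⟨a, ha, m, hm, rfl⟩ := mem_sup_of_normal_right.1 (htopE.ge (mem_top g))
      obtain ⟨c, hc, l, hl, rfl⟩ := mem_sup_of_normal_right.1 (htopE.ge (mem_top k))
      rw [map_mul, map_mul, show q m = 1 from (QuotientGroup.eq_one_iff m).2 hm,
        show q l = 1 from (QuotientGroup.eq_one_iff l).2 hl, mul_one, mul_one]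
      exact ((Commute.map (show Commute a c from Subtype.ext (congrArg (fun t : A => (t : G))
        (mul_comm' (⟨a, ha⟩ : A) ⟨c, hc⟩))) q)).eq
    have hVbot : V = ⊥ := by
      by_contra hVne
      haveI : Nontrivial V := (nontrivial_iff_ne_bot V).2 hVne
      refine (Group.IsSolvable.commutator_lt_top_of_nontrivial V).ne ?_
      refine map_injective V.subtype_injective ?_
      rw [_root_.commutator_def, map_commutator, ← MonoidHom.range_eq_map, range_subtype]
      exact le_antisymm (commutator_le_left V V) hle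
    have hwV : w ∈ V := commutator_mem_commutator (mem_top _) (mem_top _)
    rw [hVbot, mem_bot] at hwV
    exact hw1 (congrArg Subtype.val hwV)
  haveI : IsMulCommutative (B.subgroupOf L) :=
    ⟨⟨fun u v => Subtype.ext (Subtype.ext
      (habel _ (mem_inf.2 ⟨(u : L).2, u.2⟩) _ (mem_inf.2 ⟨(v : L).2, v.2⟩)))⟩⟩
  haveI : IsMulCommutative (A.subgroupOf L) :=
    ⟨⟨fun u v => Subtype.ext (Subtype.ext
      (congrArg (fun t : A => (t : G)) (mul_comm' (⟨((u : L) : G), u.2⟩ : A) ⟨((v : L) : G), v.2⟩)))⟩⟩
  have hito := CfsgLib.Factorization.ito (A.subgroupOf L) (B.subgroupOf L) hfac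
  obtain ⟨z, hzm, hz1⟩ := ((bot_or_exists_ne_one (C ⊓ L)).resolve_left hCL)
  obtain ⟨hzC, hzL⟩ := mem_inf.1 hzm
  set M := normalClosure ({z} : Set G)
  have hML : M ≤ L := by
    refine (closure_le _).2 fun t ht => ?_
    obtain ⟨v, hv, hvt⟩ := Group.mem_conjugatesOfSet_iff.1 ht
    rw [Set.mem_singleton_iff] at hv
    rw [hv] at hvt
    obtain ⟨g, rfl⟩ := isConj_iff.1 hvt
    obtain ⟨a, ha, b, hb, rfl⟩ := hAB g
    have : a * b * z * (a * b)⁻¹ = a * z * a⁻¹ := by
      rw [mul_assoc a b z, hcent z hzC b hb]; group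
    rw [this]
    exact mul_mem (mul_mem (hAL ha) hzL) (inv_mem (hAL ha))
  refine ⟨M, inferInstance, ?_, fun e => hz1 (mem_bot.1
    (e.le (mem_inf.2 ⟨hzC, subset_normalClosure rfl⟩)))⟩
  refine map_injective (f := inclusion hML) (inclusion_injective hML) ?_
  rw [Subgroup.map_bot, eq_bot_iff, ← hito]
  exact map_derivedSeries_le_derivedSeries _ 2

theorem derivedSeries_add_le'.{u} {G : Type u} [Group G] (m : ℕ) (M : Subgroup G)
    (h : derivedSeries G m ≤ M) :
    ∀ j, derivedSeries G (m + j) ≤ (derivedSeries M j).map M.subtype := by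
  intro j
  induction j with
  | zero => rwa [derivedSeries_zero, ← MonoidHom.range_eq_map, range_subtype, Nat.add_zero]
  | succ j ih =>
    rw [← Nat.add_assoc, derivedSeries_succ, derivedSeries_succ, map_commutator]
    exact commutator_mono ih ih

theorem main.{u} : ∀ (n : ℕ) {G : Type u} [Group G] [Finite G], Nat.card G = n →
    ∀ (A B : Subgroup G) [IsMulCommutative A], commutator B ≤ center B →
    (∀ g : G, ∃ a ∈ A, ∃ b ∈ B, g = a * b) →
    derivedSeries G (2 * (1 + (Nat.card (commutator B)).primeFactorsList.length)) = ⊥ := by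
  intro n
  induction n using Nat.strong_induction_on with
  | _ n ih =>
  intro G _ _ hn A B _ hB hAB
  subst hn
  by_cases hne : commutator B = ⊥
  · haveI : IsMulCommutative B := ⟨⟨fun u v => by
      rw [← commutatorElement_eq_one_iff_mul_comm, ← mem_bot, ← hne]
      exact commutator_mem_commutator (mem_top _) (mem_top _)⟩⟩
    rw [hne, card_bot]
    simpa using CfsgLib.Factorization.ito A B hAB
  haveI hnilA : Group.IsNilpotent A := by
    letI : CommGroup A :=
      { (inferInstance : Group A) with mul_comm := fun a b => mul_comm' a b }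
    exact CommGroup.isNilpotent
  haveI hnilB : Group.IsNilpotent B :=
    Subgroup.isNilpotent_of_ker_le_center (Abelianization.of (G := B))
      (by rwa [Abelianization.ker_of]) |> fun h => h
  haveI := CfsgLib.KegelWielandt.isSolvable _ rfl A B hnilA hnilB hAB
  obtain ⟨M, hM, hM2, hMC⟩ := exists_metabelian A B hB hAB hne
  haveI := hM
  have hMb : M ≠ ⊥ := fun e => hMC (by rw [e, inf_bot_eq])
  set f := QuotientGroup.mk' M
  haveI : IsMulCommutative (A.map f) := Subgroup.map_isMulCommutative A f
  set φ := f.subgroupMap B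
  have hφ : Function.Surjective φ := f.subgroupMap_surjective B
  have hmapC : (commutator B).map φ = commutator (B.map f) := by
    rw [_root_.commutator_def, map_commutator, map_top_of_surjective φ hφ,
      ← _root_.commutator_def]
  have hB' : commutator (B.map f) ≤ center (B.map f) := by
    rw [← hmapC]
    rintro _ ⟨b, hb, rfl⟩
    refine mem_center_iff.2 fun y => ?_
    obtain ⟨y', rfl⟩ := hφ y
    rw [← map_mul, ← map_mul, mem_center_iff.1 (hB hb) y']
  have h1 := ih _ (by
      rw [← index_eq_card, ← M.card_mul_index]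
      exact lt_mul_of_one_lt_left (Nat.pos_of_ne_zero index_ne_zero_of_finite)
        (M.one_lt_card_iff_ne_bot.2 hMb)) rfl (A.map f) (B.map f) hB'
    (CfsgLib.KegelWielandtCoprime.factor_image (QuotientGroup.mk'_surjective M) hAB)
  rw [← hmapC] at h1
  set k := Nat.card ((commutator B).map φ) with hk
  have hker : (φ.comp (commutator B).subtype).ker ≠ ⊥ := by
    obtain ⟨z, ⟨⟨y, hy, rfl⟩, hzM⟩, hz1⟩ :=
      ((bot_or_exists_ne_one ((commutator B).map B.subtype ⊓ M)).resolve_left hMC)
    refine fun e => hz1 ?_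
    have : (⟨y, hy⟩ : commutator B) ∈ (φ.comp (commutator B).subtype).ker :=
      Subtype.ext ((QuotientGroup.eq_one_iff _).2 hzM)
    rw [e, mem_bot] at this
    exact congrArg (fun t : commutator B => ((t : B) : G)) this
  have hcard : Nat.card (φ.comp (commutator B).subtype).ker * k = Nat.card (commutator B) := by
    rw [hk]
    rw [← (φ.comp (commutator B).subtype).ker.card_mul_index, index_ker, MonoidHom.range_comp,
      range_subtype]
  have hlt : k.primeFactorsList.length + 1 ≤ (Nat.card (commutator B)).primeFactorsList.length := by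
    rw [← hcard, (Nat.perm_primeFactorsList_mul Nat.card_pos.ne' Nat.card_pos.ne').length_eq,
      List.length_append]
    have : 1 ≤ (Nat.card (φ.comp (commutator B).subtype).ker).primeFactorsList.length := by
      rw [Nat.one_le_iff_ne_zero, Ne, List.length_eq_zero_iff, Nat.primeFactorsList_eq_nil]
      push Not
      exact ⟨Nat.card_pos.ne', fun e => hker (eq_bot_of_card_eq _ e)⟩
    rw [hk] at *
    omega
  obtain ⟨d, hd⟩ := Nat.exists_eq_add_of_le
    (show 2 + 2 * (1 + k.primeFactorsList.length) ≤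
      2 * (1 + (Nat.card (commutator B)).primeFactorsList.length) by omega)
  rw [hd, eq_bot_iff]
  refine (derivedSeries_antitone G (Nat.le_add_right _ d)).trans ?_
  have hle : derivedSeries G (2 * (1 + k.primeFactorsList.length)) ≤ M := by
    have := map_derivedSeries_le_derivedSeries f (2 * (1 + k.primeFactorsList.length))
    rw [h1, le_bot_iff, Subgroup.map_eq_bot_iff, QuotientGroup.ker_mk'] at this
    exact this
  rw [Nat.add_comm]
  refine (derivedSeries_add_le' _ M hle 2).trans ?_
  rw [hM2, Subgroup.map_bot]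


/-- Let the finite group G be the product AB of an abelian subgroup A and a subgroup B of nilpotency class at most two, and let Ω be the number of prime factors, with multiplicity, of the order of the commutator subgroup of B. Then the term of index 2(1 + Ω) of the derived series of G is trivial. -/
theorem result {G : Type*} [Group G] [Finite G] (A B : Subgroup G) [IsMulCommutative A] (hB : commutator ↥B ≤ Subgroup.center ↥B) (hAB : ∀ g : G, ∃ a ∈ A, ∃ b ∈ B, g = a * b) : derivedSeries G (2 * (1 + (Nat.card ↥(commutator ↥B)).primeFactorsList.length)) = ⊥ := by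
  exact main _ rfl A B hB hAB

end Cfsg.Agent.S0574
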