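import Cfsg.Statements.S0576
import Cfsg.Agent.Lib.Solvable.Frattini

set_option autoImplicit false
open Cfsg

namespace Cfsg.Agent.S0576
open Subgroup in
theorem inn_le_frattini {G : Type*} [Group G] [Finite G] (H : Subgroup G) [H.Normal]
    (hH : H ≤ frattini G) : (MulAut.conj : H →* MulAut H).range ≤ frattini (MulAut H) := by
  set θ : G →* MulAut H := MulAut.conjNormal with hθ
  set I := (MulAut.conj : H →* MulAut H).range with hI
  have hIθ : I = H.map θ := by
    ext φ
    constructor
    · rintro ⟨h, rfl⟩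
      exact ⟨h, h.2, by ext x; simp [θ]⟩
    · rintro ⟨g, hg, rfl⟩
      exact ⟨⟨g, hg⟩, by ext x; simp [θ]⟩
  have hIn : I.Normal := by
    refine ⟨?_⟩
    rintro _ ⟨h, rfl⟩ φ
    exact ⟨φ h, by ext x; simp⟩
  refine le_iInf₂ fun M hM => ?_
  by_contra hle
  haveI := hIn
  have htop : I ⊔ M = ⊤ :=
    hM.2 _ (lt_of_le_of_ne le_sup_right fun e => hle (le_sup_left.trans_eq e.symm))
  have hsurj : Function.Surjective θ.rangeRestrict := θ.rangeRestrict_surjective
  have h1 : M.subgroupOf θ.range = ⊤ := by
    refine frattini_nongenerating (eq_top_iff.2 fun t _ => ?_)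
    have ht : (t : MulAut H) ∈ I ⊔ M := by rw [htop]; exact mem_top _
    obtain ⟨i, hi, m, hm, him⟩ := mem_sup_of_normal_left.1 ht
    rw [hIθ] at hi
    obtain ⟨h, hh, rfl⟩ := hi
    have h2 : θ.rangeRestrict h ∈ frattini θ.range :=
      frattini_le_comap_frattini_of_surjective hsurj (hH hh)
    have h3 : (θ.rangeRestrict h)⁻¹ * t ∈ M.subgroupOf θ.range := by
      have he : (θ h)⁻¹ * (t : MulAut H) = m := by rw [← him, inv_mul_cancel_left]
      show (((θ.rangeRestrict h)⁻¹ * t : θ.range) : MulAut H) ∈ M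
      rw [Subgroup.coe_mul, Subgroup.coe_inv, MonoidHom.coe_rangeRestrict, he]
      exact hm
    have h4 := mul_mem (mem_sup_right h2) (mem_sup_left h3)
    rwa [mul_inv_cancel_left] at h4
  apply hle
  rintro φ hφ
  rw [hIθ] at hφ
  obtain ⟨h, hh, rfl⟩ := hφ
  have h2 : θ.rangeRestrict h ∈ M.subgroupOf θ.range := h1 ▸ mem_top _
  exact h2


/-- Let H be a normal subgroup of a finite group G with H contained in the Frattini subgroup of G. Then the group of inner automorphisms of H is contained in the Frattini subgroup of the automorphism group of H. -/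
theorem result {G : Type*} [Group G] [Finite G] (H : Subgroup G) [H.Normal] (hH : H ≤ frattini G) : (MulAut.conj : ↥H →* MulAut ↥H).range ≤ frattini (MulAut ↥H) := by
  exact inn_le_frattini H hH

end Cfsg.Agent.S0576
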