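import Cfsg.Statements.S0577
import Cfsg.Agent.Lib.Solvable.MinimalNonNilpotent
import Cfsg.Agent.Lib.Solvable.Frattini

set_option autoImplicit false
open Cfsg

namespace Cfsg.Agent.S0577
open Subgroup in
theorem quotient_minimal_non_abelian {G : Type*} [Group G] [Finite G]
    (hG : Cfsg.IsMinimalNonNilpotent G) (q : ℕ) [hqf : Fact q.Prime] (hq : q ∣ Nat.card G)
    (Q : Sylow q G) (hQ : (Q : Subgroup G).Normal) (D : Subgroup G) [D.Normal]
    (hD : D = (commutator ↥(Q : Subgroup G)).map (Q : Subgroup G).subtype) :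
    ¬ IsMulCommutative (G ⧸ D) ∧ ∀ K : Subgroup (G ⧸ D), K ≠ ⊤ → IsMulCommutative K := by
  obtain ⟨p, r, hp, hr, hpr, P, R, hPc, hRn, hsup, x, hx, hPR⟩ :=
    CfsgLib.MinimalNonNilpotent.structure_exists hG
  haveI := Fact.mk hp
  haveI := Fact.mk hr
  haveI := hRn
  haveI := hQ
  -- `q = r`
  have hqr : q = r := by
    have hdvd : Nat.card G ∣ Nat.card (R : Subgroup G) * Nat.card (P : Subgroup G) := by
      rw [← (R : Subgroup G).card_mul_index]
      refine Nat.mul_dvd_mul_left _ ?_
      rw [← relIndex_top_right, ← hsup, relIndex_sup_right]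
      exact relIndex_dvd_card _ _
    rcases (Nat.Prime.dvd_mul hqf.out).1 (hq.trans hdvd) with h | h
    · obtain ⟨i, hi⟩ := IsPGroup.iff_card.1 R.isPGroup'
      exact (Nat.prime_dvd_prime_iff_eq hqf.out hr).1 (hqf.out.dvd_of_dvd_pow (hi ▸ h))
    · exfalso
      obtain ⟨i, hi⟩ := IsPGroup.iff_card.1 P.isPGroup'
      have hqp : q = p := (Nat.prime_dvd_prime_iff_eq hqf.out hp).1 (hqf.out.dvd_of_dvd_pow (hi ▸ h))
      subst hqp
      have hPn : (P : Subgroup G).Normal := by
        obtain ⟨g, hg⟩ := MulAction.exists_smul_eq G Q P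
        rw [← hg, Sylow.smul_eq_of_normal]
        exact hQ
      haveI := hPn
      suffices h2 : (P : Subgroup G) ≤ centralizer ((R : Subgroup G) : Set G) from hPR h2
      rw [← commutator_eq_bot_iff_le_centralizer, eq_bot_iff]
      refine (commutator_le_inf _ _).trans_eq ?_
      exact inf_eq_bot_of_coprime (IsPGroup.coprime_card_of_ne q r hpr _ _ P.isPGroup' R.isPGroup')
  subst hqr
  set f := QuotientGroup.mk' D with hf
  have hsurj := QuotientGroup.mk'_surjective D
  -- `D` lies in the Frattini subgroup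
  have hDΦ : D ≤ frattini G := by
    haveI := Q.isPGroup'.isNilpotent
    rw [hD]
    refine (map_mono ?_).trans (CfsgLib.Frattini.map_frattini_le_of_normal inferInstance)
    refine le_iInf₂ fun M hM => ?_
    haveI : M.Normal := NormalizerCondition.normal_of_coatom M
      (normalizerCondition_of_isNilpotent (G := (Q : Subgroup G))) hM
    obtain ⟨y, hy⟩ := SetLike.exists_not_mem_of_ne_top M hM.1
    have hgen : M ⊔ zpowers y = ⊤ :=
      hM.2 _ (lt_of_le_of_ne le_sup_left fun e => hy (e ▸ mem_sup_right (mem_zpowers y)))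
    refine Normal.quotient_commutative_iff_commutator_le.1 ⟨⟨fun a b => ?_⟩⟩
    have hall : ∀ a : (Q : Subgroup G) ⧸ M, a ∈ zpowers (y : (Q : Subgroup G) ⧸ M) := by
      intro a
      induction a using QuotientGroup.induction_on with | H z => ?_
      have hz : z ∈ M ⊔ zpowers y := by rw [hgen]; exact mem_top z
      obtain ⟨m, hm, w, ⟨i, rfl⟩, rfl⟩ := mem_sup_of_normal_left.1 hz
      refine ⟨i, ?_⟩
      simp [(QuotientGroup.eq_one_iff m).2 hm]
    obtain ⟨i, rfl⟩ := hall a
    obtain ⟨j, rfl⟩ := hall b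
    exact (Commute.zpow_zpow_self _ i j).eq
  constructor
  · intro hcomm
    letI : CommGroup (G ⧸ D) :=
      { (inferInstance : Group (G ⧸ D)) with mul_comm := fun a b => mul_comm' a b }
    haveI : Group.IsNilpotent (G ⧸ D) := CommGroup.isNilpotent
    haveI : Group.IsNilpotent ((⊤ : Subgroup G).map f) :=
      Group.isNilpotent_congr ((MulEquiv.subgroupCongr (map_top_of_surjective _ hsurj)).trans
        Subgroup.topEquiv) |>.2 inferInstance
    have h1 := CfsgLib.Frattini.isNilpotent_of_map_isNilpotent f hsurj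
      (by rwa [hf, QuotientGroup.ker_mk']) (N := (⊤ : Subgroup G)) inferInstance inferInstance
    exact hG.1 (Group.isNilpotent_top.1 h1)
  intro K hK
  haveI hKnil : Group.IsNilpotent K := by
    haveI := hG.2 (K.comap f) fun e => hK (by
      have e' := congrArg (Subgroup.map f) e
      rwa [map_comap_eq_self_of_surjective hsurj, map_top_of_surjective _ hsurj] at e')
    exact Group.nilpotent_of_surjective (f.subgroupComap K)
      (MonoidHom.subgroupComap_surjective_of_surjective _ _ hsurj)
  set Qb := (R : Subgroup G).map f with hQb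
  haveI hQbn : Qb.Normal := hRn.map f hsurj
  have hQeq : (Q : Subgroup G) = R := by
    obtain ⟨g, hg⟩ := MulAction.exists_smul_eq G Q R
    rw [← hg, Sylow.smul_eq_of_normal]
  -- `Qb` is abelian
  have hQbc : ∀ a ∈ Qb, ∀ b ∈ Qb, a * b = b * a := by
    rintro _ ⟨a, ha, rfl⟩ _ ⟨b, hb, rfl⟩
    rw [← commutatorElement_eq_one_iff_mul_comm, ← map_commutatorElement]
    refine (QuotientGroup.eq_one_iff _).2 ?_
    rw [hD, map_subtype_commutator]
    exact commutator_mem_commutator (hQeq ▸ ha) (hQeq ▸ hb)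
  let π : K →* (G ⧸ D) ⧸ Qb := (QuotientGroup.mk' Qb).comp K.subtype
  haveI : IsCyclic π.range := by
    have hle : π.range ≤ zpowers (QuotientGroup.mk' Qb (f x)) := by
      rintro _ ⟨k, rfl⟩
      obtain ⟨g, hg⟩ := hsurj (k : G ⧸ D)
      have hgm : g ∈ (R : Subgroup G) ⊔ P := by rw [sup_comm, hsup]; exact mem_top g
      obtain ⟨a, ha, b, hb, rfl⟩ := mem_sup_of_normal_left.1 hgm
      rw [hx] at hb
      obtain ⟨i, rfl⟩ := hb
      refine ⟨i, ?_⟩
      show QuotientGroup.mk' Qb (f x) ^ i = QuotientGroup.mk' Qb (k : G ⧸ D)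
      rw [← hg, map_mul, map_mul, map_zpow, map_zpow,
        show QuotientGroup.mk' Qb (f a) = 1 from (QuotientGroup.eq_one_iff _).2 ⟨a, ha, rfl⟩,
        one_mul]
    exact isCyclic_of_le hle
  refine ⟨⟨commutative_of_cyclic_center_quotient π.rangeRestrict fun k hk => ?_⟩⟩
  rw [MonoidHom.ker_rangeRestrict, MonoidHom.mem_ker] at hk
  have hkQ : (k : G ⧸ D) ∈ Qb := (QuotientGroup.eq_one_iff _).1 hk
  set C := centralizer ({k} : Set K) with hC
  have hCtop : C = ⊤ := by
    rw [← index_eq_one]
    refine Nat.eq_one_iff_not_exists_prime_dvd.2 fun s hs hsd => ?_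
    haveI := Fact.mk hs
    obtain ⟨S⟩ : Nonempty (Sylow s K) := inferInstance
    refine S.not_dvd_index (hsd.trans (index_dvd_of_le fun y hy => mem_centralizer_iff.2 ?_))
    intro z hz
    rw [Set.mem_singleton_iff] at hz
    rw [hz]
    obtain ⟨i, hi⟩ := IsPGroup.iff_orderOf.1 S.isPGroup' ⟨y, hy⟩
    rw [orderOf_mk] at hi
    obtain ⟨j, hj⟩ := IsPGroup.iff_orderOf.1 (R.isPGroup'.map f) ⟨_, hkQ⟩
    rw [orderOf_mk] at hj
    by_cases hsq : s = q
    · subst hsq
      refine Subtype.ext (hQbc _ hkQ _ ?_)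
      -- a `q`-element lies in `Qb`
      rw [← QuotientGroup.eq_one_iff, ← orderOf_eq_one_iff]
      refine Nat.eq_one_of_dvd_coprimes (a := s ^ i) (b := Nat.card (P : Subgroup G)) ?_ ?_ ?_
      · obtain ⟨l, hl⟩ := IsPGroup.iff_card.1 P.isPGroup'
        rw [hl]
        exact Nat.coprime_pow_primes _ _ hs hp (Ne.symm hpr)
      · rw [← hi, ← orderOf_injective K.subtype K.subtype_injective]
        exact orderOf_map_dvd (QuotientGroup.mk' Qb) _
      · refine (_root_.orderOf_dvd_natCard _).trans ?_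
        rw [← Subgroup.index, hQb]
        refine (index_map_dvd _ hsurj).trans ?_
        rw [← relIndex_top_right, ← hsup, relIndex_sup_right]
        exact relIndex_dvd_card _ _
    · refine (CfsgLib.NilpotentSubgroups.commute_of_orderOf_coprime ?_).eq
      rw [← orderOf_injective K.subtype K.subtype_injective k]
      show (orderOf (k : G ⧸ D)).Coprime (orderOf y)
      rw [hi, hj]
      exact Nat.coprime_pow_primes _ _ hqf.out hs (Ne.symm hsq)
  rw [mem_center_iff]
  intro y
  exact (mem_centralizer_iff.1 (hCtop.ge (mem_top y) : y ∈ C) k rfl).symm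


/-- Let G be a finite minimal non-nilpotent group and Q a normal Sylow q-subgroup of G, and let D be the commutator subgroup of Q regarded in G (a normal subgroup). Then G modulo D is non-abelian and all its proper subgroups are abelian. -/
theorem result {G : Type*} [Group G] [Finite G] (hG : Cfsg.IsMinimalNonNilpotent G) (q : ℕ) [Fact q.Prime] (hq : q ∣ Nat.card G) (Q : Sylow q G) (hQ : (Q : Subgroup G).Normal) (D : Subgroup G) [D.Normal] (hD : D = (commutator ↥(Q : Subgroup G)).map (Q : Subgroup G).subtype) : ¬ IsMulCommutative (G ⧸ D) ∧ ∀ K : Subgroup (G ⧸ D), K ≠ ⊤ → IsMulCommutative K := by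
  exact quotient_minimal_non_abelian hG q hq Q hQ D hD

end Cfsg.Agent.S0577
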