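import Cfsg.Statements.S0578
import Mathlib.GroupTheory.Nilpotent
import Mathlib.GroupTheory.Transfer

set_option autoImplicit false
open Cfsg

namespace Cfsg.Agent.S0578
open Subgroup in
theorem comm_of_norm_eq_cent.{u} : ∀ (n : ℕ) {G : Type u} [Group G] [Finite G], Nat.card G = n →
    (∀ A : Subgroup G, IsMulCommutative A → normalizer (A : Set G) = centralizer (A : Set G)) →
    IsMulCommutative G := by
  intro n
  induction n using Nat.strong_induction_on with
  | _ n ih =>
  intro G _ _ hn h
  subst hn
  -- proper subgroups are commutative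
  have hprop : ∀ H : Subgroup G, H ≠ ⊤ → IsMulCommutative H := by
    intro H hH
    refine ih _ (lt_of_le_of_ne (card_le_card_group H) fun e => hH (eq_top_of_card_eq H e)) rfl ?_
    intro A hA
    haveI := hA
    refine le_antisymm (fun x hx => ?_) (centralizer_le_normalizer _)
    have hAmap : IsMulCommutative (A.map H.subtype) := inferInstance
    have hmem : (x : G) ∈ normalizer ((A.map H.subtype : Subgroup G) : Set G) :=
      le_normalizer_map H.subtype ⟨x, hx, rfl⟩
    rw [h _ hAmap] at hmem
    refine mem_centralizer_iff.2 fun a ha => Subtype.ext ?_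
    exact mem_centralizer_iff.1 hmem _ ⟨a, ha, rfl⟩
  -- a proper normal commutative subgroup is central
  have hcen : ∀ K : Subgroup G, K.Normal → K ≠ ⊤ → K ≤ center G := by
    intro K hK hKt k hk
    have h1 := h K (hprop K hKt)
    rw [normalizer_eq_top_iff.2 hK] at h1
    rw [mem_center_iff]
    intro g
    exact (mem_centralizer_iff.1 (h1 ▸ mem_top g : g ∈ centralizer (K : Set G)) k hk).symm
  rcases subsingleton_or_nontrivial G with hs | hs
  · exact ⟨⟨fun a b => Subsingleton.elim _ _⟩⟩
  obtain ⟨p, hp, hpd⟩ := Nat.exists_prime_and_dvd (Finite.one_lt_card (α := G)).ne'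
  haveI := Fact.mk hp
  obtain ⟨P⟩ : Nonempty (Sylow p G) := inferInstance
  by_cases hPt : (P : Subgroup G) = ⊤
  · -- `G` is a `p`-group
    have hG : IsPGroup p G := fun x => by
      obtain ⟨k, hk⟩ := P.isPGroup' ⟨x, hPt ▸ mem_top x⟩
      exact ⟨k, congrArg Subtype.val hk⟩
    haveI : Group.IsNilpotent G := IsPGroup.isNilpotent hG
    by_contra hnc
    obtain ⟨M, hM⟩ := ({M : Subgroup G | M ≠ ⊤}).toFinite.exists_maximal ⟨⊥, bot_ne_top⟩
    have hco : IsCoatom M := by
      refine ⟨hM.prop, fun K hK => by_contra fun h => ?_⟩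
      exact (hM.le_of_ge h hK.le).not_gt hK
    have hMn : M.Normal := NormalizerCondition.normal_of_coatom M
      (normalizerCondition_of_isNilpotent (G := G)) hco
    have hMZ := hcen M hMn hco.1
    obtain ⟨g, hg⟩ := SetLike.exists_not_mem_of_ne_top M hco.1
    haveI := hprop M hco.1
    have htop : M ⊔ zpowers g = ⊤ :=
      hco.2 _ (lt_of_le_of_ne le_sup_left fun e => hg (e ▸ mem_sup_right (mem_zpowers g)))
    refine hnc ⟨⟨fun a b => ?_⟩⟩
    haveI := hMn
    have ha : a ∈ M ⊔ zpowers g := by rw [htop]; exact mem_top a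
    have hb : b ∈ M ⊔ zpowers g := by rw [htop]; exact mem_top b
    obtain ⟨x, hx, _, ⟨i, rfl⟩, rfl⟩ := mem_sup_of_normal_left.1 ha
    obtain ⟨y, hy, _, ⟨j, rfl⟩, rfl⟩ := mem_sup_of_normal_left.1 hb
    have cx : ∀ z, Commute x z := fun z => (mem_center_iff.1 (hMZ hx) z).symm
    have cy : ∀ z, Commute y z := fun z => (mem_center_iff.1 (hMZ hy) z).symm
    exact ((cx _).mul_left ((cy _).symm.mul_right (Commute.zpow_zpow_self g i j))).eq
  · haveI := hprop P hPt
    have hN : normalizer ((P : Subgroup G) : Set G) ≤ centralizer ((P : Subgroup G) : Set G) :=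
      (h P (hprop P hPt)).le
    have hc := MonoidHom.ker_transferSylow_isComplement' P hN
    set K := (MonoidHom.transferSylow P hN).ker
    have hKt : K ≠ ⊤ := by
      intro e
      exact P.ne_bot_of_dvd_card hpd (isComplement'_top_left.1 (e ▸ hc))
    have hKZ := hcen K inferInstance hKt
    refine ⟨⟨fun a b => ?_⟩⟩
    obtain ⟨⟨x, y⟩, rfl⟩ := (hc.existsUnique a).exists
    obtain ⟨⟨x', y'⟩, rfl⟩ := (hc.existsUnique b).exists
    have cx : ∀ z, Commute (x : G) z := fun z => (mem_center_iff.1 (hKZ x.2) z).symm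
    have cy : ∀ z, Commute (x' : G) z := fun z => (mem_center_iff.1 (hKZ x'.2) z).symm
    exact ((cx _).mul_left ((cy _).symm.mul_right
      (show Commute (y : G) y' from congrArg Subtype.val (mul_comm' y y')))).eq


/-- If in a finite group the normalizer of each abelian subgroup coincides with its centralizer, then the group is abelian. -/
theorem result {G : Type*} [Group G] [Finite G] (h : ∀ A : Subgroup G, IsMulCommutative A → Subgroup.normalizer (A : Set G) = Subgroup.centralizer (A : Set G)) : IsMulCommutative G := by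
  exact comm_of_norm_eq_cent _ rfl h

end Cfsg.Agent.S0578
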