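import Cfsg.Statements.S0580
import Cfsg.Agent.Lib.Solvable.MinNormal

set_option autoImplicit false
open Cfsg

namespace Cfsg.Agent.S0580
open Subgroup in
theorem solvable_of_prime_index.{u} : ∀ (n : ℕ) {G : Type u} [Group G] [Finite G], Nat.card G = n →
    (∀ M : Subgroup G, IsCoatom M → M.index.Prime) → Group.IsSolvable G := by
  intro n
  induction n using Nat.strong_induction_on with
  | _ n ih =>
  intro G _ _ hn h
  subst hn
  rcases subsingleton_or_nontrivial G with hs | hs
  · infer_instance
  have hne : (Nat.card G).primeFactors.Nonempty :=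
    Nat.nonempty_primeFactors.2 Finite.one_lt_card
  set p := (Nat.card G).primeFactors.max' hne with hp
  have hpm := (Nat.card G).primeFactors.max'_mem hne
  rw [← hp, Nat.mem_primeFactors] at hpm
  haveI := Fact.mk hpm.1
  obtain ⟨P⟩ : Nonempty (Sylow p G) := inferInstance
  have hPn : (P : Subgroup G).Normal := by
    by_contra hnn
    have hPt : normalizer ((P : Subgroup G) : Set G) ≠ ⊤ := fun e =>
      hnn (normalizer_eq_top_iff.1 e)
    obtain ⟨M, hM, hle⟩ := (eq_top_or_exists_le_coatom _).resolve_left hPt
    have hPM : (P : Subgroup G) ≤ M := le_normalizer.trans hle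
    have h1 : Nat.card (Sylow p G) ≡ 1 [MOD p] := card_sylow_modEq_one p G
    have h2 : Nat.card (Sylow p M) ≡ 1 [MOD p] := card_sylow_modEq_one p M
    have hle' : normalizer (P : Set G) ≤ M := hle
    rw [P.card_eq_index_normalizer, ← relIndex_mul_index hle'] at h1
    have e : (normalizer (P : Set G)).relIndex M = Nat.card (Sylow p M) := by
      rw [(P.subtype hPM).card_eq_index_normalizer, relIndex]
      congr 1
      ext m
      simp only [mem_subgroupOf, mem_normalizer_iff, SetLike.mem_coe, Sylow.coe_subtype]
      constructor
      · intro hm z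
        exact hm z
      · intro hm z
        constructor
        · intro hz
          exact (hm ⟨z, hPM hz⟩).1 hz
        · intro hz
          have hzM : z ∈ M := by
            have := M.mul_mem (M.mul_mem (M.inv_mem m.2) (hPM hz)) m.2
            simpa [mul_assoc] using this
          exact (hm ⟨z, hzM⟩).2 hz
    rw [e] at h1
    have h3 : M.index ≡ 1 [MOD p] := by
      have := (h2.mul_right M.index).symm.trans h1
      rwa [one_mul] at this
    have hq := h M hM
    have hqd : M.index ∣ Nat.card G := M.index_dvd_card
    have hqle : M.index ≤ p := (Nat.card G).primeFactors.le_max' _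
      (Nat.mem_primeFactors.2 ⟨hq, hqd, Nat.card_pos.ne'⟩)
    rcases hqle.lt_or_eq with hlt | heq
    · have := Nat.ModEq.eq_of_lt_of_lt h3 hlt hpm.1.one_lt
      exact hq.one_lt.ne' this
    · rw [heq] at h3
      have := h3.symm.trans (Nat.modEq_zero_iff_dvd.2 dvd_rfl)
      exact hpm.1.one_lt.ne' (Nat.dvd_one.1 (Nat.modEq_zero_iff_dvd.1 this))
  haveI := hPn
  rw [Group.isSolvable_iff_subgroup_quotient (P : Subgroup G)]
  haveI := P.isPGroup'.isNilpotent
  refine ⟨inferInstance, ih _ ?_ rfl ?_⟩
  · rw [card_eq_card_quotient_mul_card_subgroup (P : Subgroup G)]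
    exact lt_mul_of_one_lt_right Nat.card_pos
      ((one_lt_card_iff_ne_bot _).2 (P.ne_bot_of_dvd_card hpm.2.1))
  intro M hM
  have hsurj := QuotientGroup.mk'_surjective (P : Subgroup G)
  have hker : ∀ K : Subgroup (G ⧸ (P : Subgroup G)),
      (QuotientGroup.mk' (P : Subgroup G)).ker ≤ K.comap (QuotientGroup.mk' _) := fun K =>
    ker_le_comap _ K
  have hco : IsCoatom (M.comap (QuotientGroup.mk' (P : Subgroup G))) := by
    refine ⟨fun e => hM.1 ?_, fun K hK => ?_⟩
    · have := congrArg (Subgroup.map (QuotientGroup.mk' (P : Subgroup G))) e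
      rwa [map_comap_eq_self_of_surjective hsurj, map_top_of_surjective _ hsurj] at this
    · have hKker := (hker M).trans hK.le
      have hlt' : M < K.map (QuotientGroup.mk' (P : Subgroup G)) := by
        rw [← map_comap_eq_self_of_surjective hsurj M]
        exact lt_of_le_of_ne (map_mono hK.le) fun e => hK.ne (by
          have := congrArg (Subgroup.comap (QuotientGroup.mk' (P : Subgroup G))) e
          rwa [comap_map_eq_self hKker, comap_map_eq_self (hker M)] at this)
      have := congrArg (Subgroup.comap (QuotientGroup.mk' (P : Subgroup G))) (hM.2 _ hlt')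
      rwa [comap_map_eq_self hKker, comap_top] at this
  have := h _ hco
  rwa [index_comap_of_surjective _ hsurj] at this


/-- If every maximal subgroup of a finite group has prime index, then the group is solvable. -/
theorem result {G : Type*} [Group G] [Finite G] (h : ∀ M : Subgroup G, IsCoatom M → M.index.Prime) : Group.IsSolvable G := by
  exact solvable_of_prime_index _ rfl h

end Cfsg.Agent.S0580
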