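import Cfsg.Statements.S0579
import Cfsg.Agent.S0580
import Cfsg.Agent.Lib.Solvable.Supersolvable
import Cfsg.Agent.Lib.Solvable.CoreFreeMaximal

set_option autoImplicit false
open Cfsg

namespace Cfsg.Agent.S0579
open Subgroup in
/-- A nontrivial normal subgroup of a supersolvable group contains a normal subgroup of prime
order. -/
theorem exists_prime_normal_le {G : Type*} [Group G] [Finite G] (h : Cfsg.IsSupersolvable G)
    {N : Subgroup G} (hN : N.Normal) (hne : N ≠ ⊥) :
    ∃ (p : ℕ) (M : Subgroup G), p.Prime ∧ M.Normal ∧ M ≤ N ∧ Nat.card M = p := by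
  obtain ⟨n, H, h0, hl, hn, hs⟩ := h
  by_contra hcon
  have : ∀ i, H i ⊓ N = ⊥ := by
    intro i
    refine Fin.induction (by rw [h0, bot_inf_eq]) (fun i ih => ?_) i
    by_contra hne'
    obtain ⟨g, hg⟩ := hs i
    haveI := hn i.castSucc
    haveI := hn i.succ
    haveI := hN
    let f : (H i.succ ⊓ N : Subgroup G) →* G ⧸ H i.castSucc :=
      (QuotientGroup.mk' (H i.castSucc)).comp (H i.succ ⊓ N : Subgroup G).subtype
    have hinj : Function.Injective f := by
      rw [injective_iff_map_eq_one]
      intro z hz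
      have hz' : (z : G) ∈ H i.castSucc ⊓ N := ⟨(QuotientGroup.eq_one_iff _).1 hz, z.2.2⟩
      rw [ih, mem_bot] at hz'
      exact Subtype.ext hz'
    have hle : f.range ≤ zpowers (QuotientGroup.mk' (H i.castSucc) g) := by
      rintro _ ⟨z, rfl⟩
      have hz : (z : G) ∈ H i.castSucc ⊔ zpowers g := hg ▸ z.2.1
      obtain ⟨a, ha, b, ⟨j, rfl⟩, e⟩ := mem_sup_of_normal_left.1 hz
      refine ⟨j, ?_⟩
      show QuotientGroup.mk' (H i.castSucc) g ^ j = QuotientGroup.mk' (H i.castSucc) (z : G)
      rw [← e, map_mul, show QuotientGroup.mk' (H i.castSucc) a = 1 from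
        (QuotientGroup.eq_one_iff a).2 ha, one_mul, map_zpow]
    haveI : IsCyclic f.range := isCyclic_of_le hle
    have hc : IsCyclic (H i.succ ⊓ N : Subgroup G) :=
      isCyclic_of_surjective (MonoidHom.ofInjective hinj).symm.toMonoidHom
        (MonoidHom.ofInjective hinj).symm.surjective
    obtain ⟨p, M, hp, hM, hle', hc'⟩ :=
      CfsgLib.Supersolvable.exists_normal_prime_le (inferInstance) hc hne'
    exact hcon ⟨p, M, hp, hM, hle'.trans inf_le_right, hc'⟩
  have := this (Fin.last n)
  rw [hl, top_inf_eq] at this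
  exact hne this

open Subgroup in
/-- The `(p-1)`-th powers act nilpotently on a normal `p`-subgroup of a supersolvable group. -/
theorem sup_zpowers_nilpotent.{u} (p : ℕ) [Fact p.Prime] (n : ℕ) : ∀ {G : Type u} [Group G]
    [Finite G], Nat.card G = n → Cfsg.IsSupersolvable G → ∀ (T : Subgroup G), T.Normal →
    IsPGroup p T → commutator G ≤ T → ∀ x : G,
    Group.IsNilpotent (T ⊔ zpowers (x ^ (p - 1)) : Subgroup G) := by
  induction n using Nat.strong_induction_on with
  | _ n ih =>
  intro G _ _ hn hss T hT hTp hcomm x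
  subst hn
  by_cases hTb : T = ⊥
  · subst hTb
    rw [bot_sup_eq]
    haveI : IsMulCommutative (zpowers (x ^ (p - 1))) := inferInstance
    letI : CommGroup (zpowers (x ^ (p - 1))) :=
      { (inferInstance : Group (zpowers (x ^ (p - 1)))) with mul_comm := fun a b => mul_comm' a b }
    exact CommGroup.isNilpotent
  obtain ⟨r, M, hr, hM, hMT, hMc⟩ := exists_prime_normal_le hss hT hTb
  haveI := hM
  haveI := hT
  have hrp : r = p := by
    obtain ⟨j, hj⟩ := IsPGroup.iff_card.1 hTp
    exact (Nat.prime_dvd_prime_iff_eq hr Fact.out).1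
      (hr.dvd_of_dvd_pow (hj ▸ hMc ▸ card_dvd_of_le hMT))
  subst hrp
  haveI : IsCyclic M := isCyclic_of_prime_card hMc
  set Y := T ⊔ zpowers (x ^ (r - 1)) with hY
  set f := QuotientGroup.mk' M with hf
  haveI hnil : Group.IsNilpotent (Y.map f) := by
    have h1 := ih _ (CfsgLib.Supersolvable.card_quotient_lt
      (CfsgLib.Supersolvable.ne_bot_of_card_prime hr hMc)) (G := G ⧸ M) rfl
      (CfsgLib.Supersolvable.quotient hss M) (T.map f) (hT.map f (QuotientGroup.mk'_surjective M))
      (hTp.map f) (by
        rw [commutator_def, ← map_top_of_surjective f (QuotientGroup.mk'_surjective M),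
          ← Subgroup.map_commutator, ← commutator_def]
        exact map_mono hcomm) (f x)
    rw [hY, Subgroup.map_sup, MonoidHom.map_zpowers, map_pow]
    exact h1
  -- `M` is central in `Y`
  let act : G →* MulAut M := MulAut.conjNormal
  have hAut : Nat.card (MulAut M) = r - 1 := by
    rw [IsCyclic.card_mulAut, hMc, Nat.totient_prime hr]
  have hYker : Y ≤ act.ker := by
    refine sup_le (fun t ht => ?_) (zpowers_le.2 ?_)
    · obtain ⟨j, hj⟩ := IsPGroup.iff_orderOf.1 hTp ⟨t, ht⟩
      rw [orderOf_mk] at hj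
      rw [MonoidHom.mem_ker, ← orderOf_eq_one_iff]
      refine Nat.eq_one_of_dvd_coprimes ?_ (hj ▸ orderOf_map_dvd act t)
        (hAut ▸ _root_.orderOf_dvd_natCard _)
      refine Nat.Coprime.pow_left _ ((hr.coprime_iff_not_dvd).2 ?_)
      exact Nat.not_dvd_of_pos_of_lt (Nat.sub_pos_of_lt hr.one_lt) (Nat.sub_lt hr.pos Nat.one_pos)
    · rw [MonoidHom.mem_ker, map_pow, ← hAut, pow_card_eq_one']
  refine Subgroup.isNilpotent_of_ker_le_center (f.subgroupMap Y) (fun z hz => ?_)
  rw [mem_center_iff]
  intro y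
  have hzM : (z : G) ∈ M := (QuotientGroup.eq_one_iff _).1 (congrArg Subtype.val hz)
  have h1 : act (y : G) = 1 := hYker y.2
  have h2 := congrArg Subtype.val (DFunLike.congr_fun h1 ⟨(z : G), hzM⟩)
  simp [act, MulAut.conjNormal_apply] at h2
  exact Subtype.ext (mul_inv_eq_iff_eq_mul.1 h2)

open Polynomial in
/-- An automorphism of exponent `p - 1` of an elementary abelian `p`-group has an eigenvector. -/
theorem exists_eigen {V : Type*} [CommGroup V] [Nontrivial V] {p : ℕ} [hp : Fact p.Prime]
    (hV : ∀ v : V, v ^ p = 1) (T : MulAut V) (hT : T ^ (p - 1) = 1) :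
    ∃ (c : ℕ) (v : V), v ≠ 1 ∧ T v = v ^ c := by
  let t : AddMonoid.End (Additive V) := MonoidHom.toAdditive (T : V →* V)
  have hp0 : ((p : ℕ) : AddMonoid.End (Additive V)) = 0 := by
    refine AddMonoidHom.ext fun v => ?_
    show (p • v : Additive V) = 0
    exact hV (Additive.toMul v)
  haveI : Nontrivial (AddMonoid.End (Additive V)) := by
    obtain ⟨v, hv⟩ := exists_ne (0 : Additive V)
    exact ⟨⟨1, 0, fun e => hv (DFunLike.congr_fun e v)⟩⟩
  haveI : CharP (AddMonoid.End (Additive V)) p := (CharP.charP_iff_prime_eq_zero hp.out).2 hp0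
  letI : Algebra (ZMod p) (AddMonoid.End (Additive V)) :=
    ZMod.algebra (AddMonoid.End (Additive V)) p
  have hpow : ∀ n : ℕ, ∀ v, (t ^ n) v = Additive.ofMul ((T ^ n) (Additive.toMul v)) := by
    intro n
    induction n with
    | zero => intro v; rfl
    | succ n ih =>
      intro v
      rw [pow_succ', pow_succ']
      show t ((t ^ n) v) = _
      rw [ih]
      rfl
  have htp : t ^ p = t := by
    refine AddMonoidHom.ext fun v => (hpow p v).trans ?_
    have : T ^ p = T := by
      calc T ^ p = T ^ (p - 1) * T := by rw [← pow_succ, Nat.sub_add_cancel hp.out.pos]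
        _ = T := by rw [hT, one_mul]
    rw [this]
    rfl
  by_contra hno
  push Not at hno
  have hinj : ∀ a : ZMod p,
      Function.Injective (aeval t (X - C a) : AddMonoid.End (Additive V)) := by
    intro a
    rw [map_sub, aeval_X, aeval_C]
    refine (injective_iff_map_eq_zero _).2 fun v hv => ?_
    by_contra hv0
    refine hno a.val (Additive.toMul v) (fun e => hv0 e) ?_
    have h2 : (algebraMap (ZMod p) (AddMonoid.End (Additive V)) a) =
        ((a.val : ℕ) : AddMonoid.End (Additive V)) := by
      conv_lhs => rw [← ZMod.natCast_zmod_val a]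
      rw [map_natCast]
    have h3 : t v - (a.val • v : Additive V) = 0 := by
      rw [h2] at hv
      exact hv
    exact (sub_eq_zero (G := Additive V)).1 h3
  have hprod : ∀ s : Finset (ZMod p),
      Function.Injective (aeval t (∏ a ∈ s, (X - C a)) : AddMonoid.End (Additive V)) := by
    intro s
    induction s using Finset.induction with
    | empty => simp only [Finset.prod_empty, map_one]; exact Function.injective_id
    | insert a s has ih =>
      rw [Finset.prod_insert has, map_mul]
      exact (hinj a).comp ih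
  have hz : ∏ a : ZMod p, (X - C a) = (X ^ p - X : (ZMod p)[X]) := by
    have h1 := FiniteField.roots_X_pow_card_sub_X (ZMod p)
    rw [ZMod.card] at h1
    have hmon : (X ^ p - X : (ZMod p)[X]).Monic :=
      monic_X_pow_sub (by rw [degree_X]; exact_mod_cast hp.out.one_lt)
    have h2 := prod_multiset_X_sub_C_of_monic_of_roots_card_eq hmon (by
      rw [h1, ← Finset.card_def, Finset.card_univ, ZMod.card,
        FiniteField.X_pow_card_sub_X_natDegree_eq _ hp.out.one_lt])
    rw [h1] at h2
    exact h2
  obtain ⟨v, hv⟩ := exists_ne (0 : Additive V)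
  refine hv (hprod Finset.univ ?_)
  rw [hz, map_sub, map_pow, aeval_X, htp, sub_self]
  exact ((0 : AddMonoid.End (Additive V)).map_zero).symm

open Subgroup commutatorElement in
theorem huppert.{u} : ∀ (n : ℕ) {G : Type u} [Group G] [Finite G], Nat.card G = n →
    (∀ M : Subgroup G, IsCoatom M → M.index.Prime) → Cfsg.IsSupersolvable G := by
  intro n
  induction n using Nat.strong_induction_on with
  | _ n ih =>
  intro G _ _ hn h
  subst hn
  rcases subsingleton_or_nontrivial G with hs | hs
  · exact CfsgLib.Supersolvable.of_subsingleton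
  haveI := S0580.solvable_of_prime_index _ rfl h
  have hq : ∀ N : Subgroup G, N.Normal → N ≠ ⊥ → ∀ [N.Normal], Cfsg.IsSupersolvable (G ⧸ N) := by
    intro N _ hNb _
    refine ih _ (CfsgLib.Supersolvable.card_quotient_lt hNb) rfl fun M hM => ?_
    have hsurj := QuotientGroup.mk'_surjective N
    have hker := ker_le_comap (QuotientGroup.mk' N) M
    have hco : IsCoatom (M.comap (QuotientGroup.mk' N)) := by
      refine ⟨fun e => hM.1 ?_, fun K hK => ?_⟩
      · have := congrArg (Subgroup.map (QuotientGroup.mk' N)) e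
        rwa [map_comap_eq_self_of_surjective hsurj, map_top_of_surjective _ hsurj] at this
      · have hKker := hker.trans hK.le
        have hlt' : M < K.map (QuotientGroup.mk' N) := by
          rw [← map_comap_eq_self_of_surjective hsurj M]
          exact lt_of_le_of_ne (map_mono hK.le) fun e => hK.ne (by
            have := congrArg (Subgroup.comap (QuotientGroup.mk' N)) e
            rwa [comap_map_eq_self hKker, comap_map_eq_self hker] at this)
        have := congrArg (Subgroup.comap (QuotientGroup.mk' N)) (hM.2 _ hlt')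
        rwa [comap_map_eq_self hKker, comap_top] at this
    have := h _ hco
    rwa [index_comap_of_surjective _ hsurj] at this
  by_cases hgood : ∃ (p : ℕ) (M : Subgroup G), p.Prime ∧ M.Normal ∧ Nat.card M = p
  · obtain ⟨p, M, hp, hM, hc⟩ := hgood
    haveI := hM
    haveI : Fact p.Prime := ⟨hp⟩
    haveI : IsCyclic M := isCyclic_of_prime_card hc
    exact CfsgLib.Supersolvable.of_cyclic_normal_quotient M
      (hq M hM (CfsgLib.Supersolvable.ne_bot_of_card_prime hp hc))
  exfalso
  obtain ⟨N, hN⟩ := CfsgLib.MinNormal.exists_isMinNormal (G := G)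
  haveI := hN.1
  obtain ⟨p, hp, hel, hNp, k, hk, hcard⟩ := hN.elementaryAbelian_of_solvable
  haveI := Fact.mk hp
  haveI hNab : IsMulCommutative N := hel.1
  -- `N` is the only minimal normal subgroup
  have huniq : ∀ K : Subgroup G, K.Normal → K ≠ ⊥ → N ≤ K := by
    intro K hK hKb
    haveI := hK
    rcases hN.inf_eq_bot_or_le hK with hd | hd
    swap
    · exact hd
    exfalso
    set f := QuotientGroup.mk' K
    have hne : N.map f ≠ ⊥ := by
      rw [Ne, Subgroup.map_eq_bot_iff, QuotientGroup.ker_mk']
      intro hle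
      exact hN.2.1 (le_bot_iff.1 (hd ▸ le_inf le_rfl hle))
    obtain ⟨r, Mb, hr, hMb, hMle, hMc⟩ := exists_prime_normal_le (hq K hK hKb)
      (hN.1.map f (QuotientGroup.mk'_surjective K)) hne
    have hMN : (N ⊓ Mb.comap f).map f = Mb := by
      refine le_antisymm (map_le_iff_le_comap.2 inf_le_right) fun z hz => ?_
      obtain ⟨y, hy, rfl⟩ := hMle hz
      exact ⟨y, ⟨hy, hz⟩, rfl⟩
    haveI := hMb
    rcases hN.2.2 (N ⊓ Mb.comap f) inferInstance inf_le_left with e | e
    · rw [e, Subgroup.map_bot] at hMN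
      exact CfsgLib.Supersolvable.ne_bot_of_card_prime hr hMc hMN.symm
    · rw [e] at hMN
      refine hgood ⟨r, N, hr, hN.1, ?_⟩
      rw [← hMc, ← hMN]
      refine (Nat.card_congr (MonoidHom.ofInjective (f := f.comp N.subtype) ?_).toEquiv).trans ?_
      · rw [injective_iff_map_eq_one]
        intro z hz
        have : (z : G) ∈ N ⊓ K := ⟨z.2, (QuotientGroup.eq_one_iff _).1 hz⟩
        rw [hd, mem_bot] at this
        exact Subtype.ext this
      · rw [MonoidHom.range_comp, range_subtype]
  -- `N` lies in the Frattini subgroup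
  have hNΦ : N ≤ frattini G := by
    refine le_iInf₂ fun M hM => by_contra fun hle => hgood ⟨p, N, hp, hN.1, ?_⟩
    have hc := hN.isComplement'_of_isCoatom hN.isMulCommutative hM hle
    have h1 := h M hM
    rw [hc.index_eq_card, hcard] at h1
    rw [hcard, (Nat.Prime.pow_eq_iff (a := p) (k := k) h1).1 rfl |>.2, pow_one]
  have hsurj := QuotientGroup.mk'_surjective N
  have hder : Group.IsNilpotent (commutator G) := by
    refine CfsgLib.Frattini.isNilpotent_of_map_isNilpotent (QuotientGroup.mk' N) hsurj
      (by rwa [QuotientGroup.ker_mk']) inferInstance ?_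
    rw [_root_.commutator_def, Subgroup.map_commutator, map_top_of_surjective _ hsurj,
      ← _root_.commutator_def]
    exact CfsgLib.Supersolvable.commutator_isNilpotent (hq N hN.1 hN.2.1)
  set F := Cfsg.fittingSubgroup G with hFdef
  haveI hFn : F.Normal := CfsgLib.Fitting.fitting_normal
  have hFp : IsPGroup p F := by
    refine (CfsgLib.Fitting.pCore_isPGroup p).to_le ?_
    rw [hFdef, CfsgLib.Fitting.fitting_eq_iSup_pCore]
    refine iSup_le fun r => ?_
    by_cases hrp : (r : ℕ) = p
    · rw [hrp]
    haveI : Fact (r : ℕ).Prime := ⟨Nat.prime_of_mem_primeFactors r.2⟩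
    by_cases hb : Cfsg.pCore (r : ℕ) G = ⊥
    · exact hb ▸ bot_le
    exfalso
    obtain ⟨j, hj⟩ := IsPGroup.iff_card.1 (CfsgLib.Fitting.pCore_isPGroup (G := G) (r : ℕ))
    have hd := (dvd_pow_self p hk.ne').trans (hcard.symm.dvd.trans
      (card_dvd_of_le (huniq _ (CfsgLib.Fitting.pCore_normal _) hb)))
    rw [hj] at hd
    have hrprime : (r : ℕ).Prime := Nat.prime_of_mem_primeFactors r.2
    exact hrp ((Nat.prime_dvd_prime_iff_eq hp hrprime).1 (hp.dvd_of_dvd_pow hd)).symm
  have hcommF : commutator G ≤ F := CfsgLib.Fitting.le_fitting inferInstance hder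
  have hFN : F ≤ centralizer (N : Set G) := CfsgLib.CoreFreeMaximal.fitting_le_centralizer hN.2.2
  have hpow : ∀ x : G, x ^ (p - 1) ∈ centralizer (N : Set G) := by
    intro x
    set Y := F ⊔ zpowers (x ^ (p - 1)) with hY
    haveI hYn : Y.Normal := ⟨fun y hy g => by
      have h1 : g * y * g⁻¹ * y⁻¹ ∈ Y := mem_sup_left (hcommF
        (commutator_mem_commutator (mem_top g) (mem_top y)))
      simpa using mul_mem h1 hy⟩
    have hYnil : Group.IsNilpotent Y := by
      refine CfsgLib.Frattini.isNilpotent_of_map_isNilpotent (QuotientGroup.mk' N) hsurj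
        (by rwa [QuotientGroup.ker_mk']) hYn ?_
      rw [hY, Subgroup.map_sup, MonoidHom.map_zpowers, map_pow]
      refine sup_zpowers_nilpotent p _ rfl (hq N hN.1 hN.2.1) _ (hFn.map _ hsurj) (hFp.map _) ?_ _
      rw [_root_.commutator_def, ← map_top_of_surjective _ hsurj, ← Subgroup.map_commutator,
        ← _root_.commutator_def]
      exact map_mono hcommF
    exact hFN (CfsgLib.Fitting.le_fitting hYn hYnil (mem_sup_right (mem_zpowers _)))
  -- so every element acts as a power map on `N`
  letI : CommGroup N := { (inferInstance : Group N) with mul_comm := fun a b => mul_comm' a b }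
  haveI : Nontrivial N := (nontrivial_iff_ne_bot N).2 hN.2.1
  have hscal : ∀ x : G, ∃ c : ℕ, ∀ v ∈ N, x * v * x⁻¹ = v ^ c := by
    intro x
    obtain ⟨c, v, hv1, hv⟩ := exists_eigen (V := N) (fun v => Subtype.ext (hel.2 v v.2))
      (MulAut.conjNormal (H := N) x) (by
        rw [← map_pow]
        ext v
        have := mem_centralizer_iff.1 (hpow x) v v.2
        show x ^ (p - 1) * (v : G) * (x ^ (p - 1))⁻¹ = v
        rw [← this, mul_inv_cancel_right])
    let W : Subgroup G :=
      { carrier := {w | w ∈ N ∧ x * w * x⁻¹ = w ^ c}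
        one_mem' := ⟨one_mem _, by simp⟩
        mul_mem' := by
          rintro a b ⟨ha, ha'⟩ ⟨hb, hb'⟩
          refine ⟨mul_mem ha hb, ?_⟩
          have hab : Commute a b := congrArg Subtype.val (mul_comm' (⟨a, ha⟩ : N) ⟨b, hb⟩)
          rw [hab.mul_pow, ← ha', ← hb']; group
        inv_mem' := by
          rintro a ⟨ha, ha'⟩
          refine ⟨inv_mem ha, ?_⟩
          rw [inv_pow, ← ha']; group }
    have hWn : W.Normal := by
      refine ⟨fun w hw g => ⟨hN.1.conj_mem w hw.1 g, ?_⟩⟩
      have hcg : ⁅g⁻¹, x⁆ ∈ centralizer (N : Set G) :=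
        hFN (hcommF (commutator_mem_commutator (mem_top _) (mem_top _)))
      have h1 : x * w * x⁻¹ * ⁅g⁻¹, x⁆ = ⁅g⁻¹, x⁆ * (x * w * x⁻¹) :=
        mem_centralizer_iff.1 hcg _ (hN.1.conj_mem w hw.1 x)
      rw [conj_pow, ← hw.2]
      calc x * (g * w * g⁻¹) * x⁻¹
          = g * (⁅g⁻¹, x⁆ * (x * w * x⁻¹) * (⁅g⁻¹, x⁆)⁻¹) * g⁻¹ := by
            simp [commutatorElement_def, mul_assoc]
        _ = g * (x * w * x⁻¹) * g⁻¹ := by rw [← h1, mul_inv_cancel_right]
    rcases hN.2.2 W hWn (fun w hw => hw.1) with e | e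
    · exfalso
      have hvW : (v : G) ∈ W := ⟨v.2, by
        have h' := congrArg Subtype.val hv
        simp only [MulAut.conjNormal_apply, SubgroupClass.coe_pow] at h'
        exact h'⟩
      rw [e, mem_bot] at hvW
      exact hv1 (Subtype.ext hvW)
    · exact ⟨c, fun w hw => (e.ge hw : w ∈ W).2⟩
  -- hence a subgroup of order `p` of `N` is normal
  obtain ⟨v, hv⟩ := exists_prime_orderOf_dvd_card' (G := N) p (hcard ▸ dvd_pow_self p hk.ne')
  refine hgood ⟨p, zpowers (v : G), hp, ?_, by rw [Nat.card_zpowers, orderOf_coe, hv]⟩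
  refine ⟨fun z hz g => ?_⟩
  obtain ⟨c, hc⟩ := hscal g
  rw [hc z (zpowers_le.2 v.2 hz)]
  exact pow_mem hz c


/-- Huppert's supersolvability criterion: if every maximal subgroup of a finite group has prime index, then the group is supersolvable. -/
theorem result {G : Type*} [Group G] [Finite G] (h : ∀ M : Subgroup G, IsCoatom M → M.index.Prime) : Cfsg.IsSupersolvable G := by
  exact huppert _ rfl h

end Cfsg.Agent.S0579
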