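import Cfsg.Statements.S0582
import Cfsg.Agent.Lib.Solvable.Supersolvable
import Cfsg.Agent.Lib.Coprime.Basic

set_option autoImplicit false
open Pointwise
open Cfsg

namespace Cfsg.Agent.S0582

open Pointwise
open Subgroup

/-- The Sylow subgroup for the largest prime divisor of a supersolvable group is normal. -/
theorem sylow_normal_max.{u} : ∀ (n : ℕ) {G : Type u} [Group G] [Finite G], Nat.card G = n →
    Cfsg.IsSupersolvable G → ∀ (p : ℕ) [Fact p.Prime],
    (∀ q : ℕ, q.Prime → q ∣ Nat.card G → q ≤ p) → ∀ P : Sylow p G, (P : Subgroup G).Normal := by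
  intro n
  induction n using Nat.strong_induction_on with
  | _ n ih =>
  intro G _ _ hn h p hp hmax P
  subst hn
  by_cases hdvd : p ∣ Nat.card G
  swap
  · rw [eq_bot_of_card_eq (P : Subgroup G) (by
      rw [P.card_eq_multiplicity, Nat.factorization_eq_zero_of_not_dvd hdvd, pow_zero])]
    infer_instance
  obtain ⟨M, hM, hMc⟩ := CfsgLib.Supersolvable.exists_normal_max_prime h hp.out hdvd hmax
  haveI := hM
  have hMP : M ≤ P := by
    have hMp : IsPGroup p M := IsPGroup.of_card (n := 1) (by rw [hMc, pow_one])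
    rw [← P.is_maximal' (IsPGroup.to_sup_of_normal_right P.isPGroup' hMp) le_sup_left]
    exact le_sup_right
  have hsurj := QuotientGroup.mk'_surjective M
  have hn := ih _ (CfsgLib.Supersolvable.card_quotient_lt
    (CfsgLib.Supersolvable.ne_bot_of_card_prime hp.out hMc)) rfl
    (CfsgLib.Supersolvable.quotient h M) p
    (fun q hq hd => hmax q hq (hd.trans (card_quotient_dvd_card M))) (P.mapSurjective hsurj)
  have he : ((P.mapSurjective hsurj : Sylow p (G ⧸ M)) : Subgroup (G ⧸ M)).comap
      (QuotientGroup.mk' M) = P := by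
    rw [Sylow.coe_mapSurjective, comap_map_eq_self (by rwa [QuotientGroup.ker_mk'])]
  rw [← he]
  exact hn.comap _

theorem main.{u} : ∀ (n : ℕ) {G : Type u} [Group G] [Finite G] (H K : Subgroup G),
    Nat.card H = n → Cfsg.IsSupersolvable H → Cfsg.IsSupersolvable K →
    Nat.card H = Nat.card K → (Nat.card H).Coprime H.index →
    ∃ x : G, MulAut.conj x • H = K := by
  intro n
  induction n using Nat.strong_induction_on with
  | _ n ih =>
  intro G _ _ H K hn hH hK hcard hHall
  subst hn
  by_cases h1 : Nat.card H = 1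
  · refine ⟨1, ?_⟩
    rw [map_one, one_smul, eq_bot_of_card_eq H h1, eq_bot_of_card_eq K (hcard ▸ h1)]
  obtain ⟨p, hp, hpd, hmax⟩ :=
    CfsgLib.Supersolvable.exists_max_prime (lt_of_le_of_ne Nat.card_pos (Ne.symm h1))
  haveI := Fact.mk hp
  -- the Sylow subgroups of `H` and `K` are normal Sylow subgroups of `G`
  have key : ∀ L : Subgroup G, Cfsg.IsSupersolvable L → Nat.card L = Nat.card H →
      ∃ P : Sylow p G, (P : Subgroup G) ≤ L ∧ L ≤ normalizer ((P : Subgroup G) : Set G) := by
    intro L hL hLc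
    obtain ⟨R⟩ := (inferInstance : Nonempty (Sylow p L))
    have hRn := sylow_normal_max _ rfl hL p (fun q hq hd => hmax q hq (hLc ▸ hd)) R
    have hfac : (Nat.card L).factorization p = (Nat.card G).factorization p := by
      rw [hLc, ← H.card_mul_index, Nat.factorization_mul Nat.card_pos.ne' index_ne_zero_of_finite,
        Finsupp.add_apply, Nat.factorization_eq_zero_of_not_dvd (n := H.index)
          fun hd => hp.not_dvd_one (hHall ▸ Nat.dvd_gcd hpd hd), add_zero]
    refine ⟨Sylow.ofCard ((R : Subgroup L).map L.subtype) ?_, ?_, ?_⟩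
    · rw [card_map_of_injective L.subtype_injective, R.card_eq_multiplicity, hfac]
    · exact map_subtype_le _
    · intro l hl
      have h2 : (⟨l, hl⟩ : L) ∈ normalizer ((R : Subgroup L) : Set L) := by
        rw [normalizer_eq_top_iff.2 hRn]; exact mem_top _
      exact le_normalizer_map L.subtype (mem_map_of_mem L.subtype h2)
  obtain ⟨P, hPH, hHN⟩ := key H hH rfl
  obtain ⟨Q, hQK, hKN⟩ := key K hK hcard.symm
  obtain ⟨x, hx⟩ := MulAction.exists_smul_eq G P Q
  set H' := MulAut.conj x • H with hH'def
  have hxP : MulAut.conj x • (P : Subgroup G) = (Q : Subgroup G) := by rw [← hx]; rfl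
  have hQH : (Q : Subgroup G) ≤ H' := by
    rw [← hxP]; exact pointwise_smul_le_pointwise_smul_iff.2 hPH
  have hH'N : H' ≤ normalizer ((Q : Subgroup G) : Set G) := by
    rw [← hxP]
    refine le_trans (pointwise_smul_le_pointwise_smul_iff.2 hHN) ?_
    exact le_normalizer_map (MulAut.conj x).toMonoidHom
  have hH'c : Nat.card H' = Nat.card H := CfsgLib.Coprime.card_conj_smul H x
  set M := normalizer ((Q : Subgroup G) : Set G) with hMdef
  set Q' := (Q : Subgroup G).subgroupOf M with hQ'
  haveI : Q'.Normal := normal_in_normalizer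
  set f := QuotientGroup.mk' Q'
  have hker : ∀ L : Subgroup G, (Q : Subgroup G) ≤ L → f.ker ≤ L.subgroupOf M := by
    intro L hL
    rw [QuotientGroup.ker_mk']
    exact fun z hz => hL hz
  have hsub : ∀ L : Subgroup G, L ≤ M → (Q : Subgroup G) ≤ L →
      Nat.card ((L.subgroupOf M).map f) * Nat.card Q = Nat.card L := by
    intro L hLM hQL
    set φ := f.comp (L.subgroupOf M).subtype with hφ
    have h2 : Nat.card φ.ker = Nat.card Q := by
      have hk : φ.ker = Q'.subgroupOf (L.subgroupOf M) := by
        rw [hφ, ← MonoidHom.comap_ker, QuotientGroup.ker_mk']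
        rfl
      rw [hk, Nat.card_congr (subgroupOfEquivOfLe
          (show Q' ≤ L.subgroupOf M from fun z hz => hQL hz)).toEquiv,
        Nat.card_congr (subgroupOfEquivOfLe (le_normalizer (H := (Q : Subgroup G)))).toEquiv]
    have h3 : φ.range = (L.subgroupOf M).map f := by
      rw [hφ, MonoidHom.range_comp, range_subtype]
    rw [← h3, ← index_ker, mul_comm, ← h2, card_mul_index,
      Nat.card_congr (subgroupOfEquivOfLe hLM).toEquiv]
  have hH'ss : Cfsg.IsSupersolvable H' :=
    CfsgLib.Supersolvable.of_mulEquiv hH (Subgroup.equivSMul (MulAut.conj x) H)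
  have hss : ∀ L : Subgroup G, L ≤ M → Cfsg.IsSupersolvable L →
      Cfsg.IsSupersolvable ((L.subgroupOf M).map f) := fun L hLM hL =>
    CfsgLib.Supersolvable.of_surjective
      (CfsgLib.Supersolvable.of_mulEquiv hL (subgroupOfEquivOfLe hLM).symm)
      (f.subgroupMap (L.subgroupOf M)) (f.subgroupMap_surjective _)
  have eH := hsub H' hH'N hQH
  have eK := hsub K hKN hQK
  rw [hH'c] at eH
  rw [← hcard] at eK
  have hQ1 : 1 < Nat.card Q := by
    rw [Q.card_eq_multiplicity]
    exact Nat.one_lt_pow
      (hp.factorization_pos_of_dvd Nat.card_pos.ne' (hpd.trans (card_subgroup_dvd_card H))).ne'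
      hp.one_lt
  obtain ⟨g, hg⟩ := ih (Nat.card ((H'.subgroupOf M).map f))
    (by rw [← eH]; exact lt_mul_of_one_lt_right Nat.card_pos hQ1)
    ((H'.subgroupOf M).map f) ((K.subgroupOf M).map f) rfl (hss H' hH'N hH'ss) (hss K hKN hK)
    (Nat.eq_of_mul_eq_mul_right (Nat.zero_lt_of_lt hQ1) (eH.trans eK.symm))
    (by
      refine Nat.Coprime.coprime_dvd_left (Dvd.intro _ eH) ?_
      refine Nat.Coprime.coprime_dvd_right ?_ hHall
      rw [index_map_eq (H'.subgroupOf M) (QuotientGroup.mk'_surjective Q') (hker H' hQH)]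
      refine (relIndex_dvd_index_of_le hH'N).trans ?_
      rw [hH'def]
      exact (index_map_equiv H (MulAut.conj x)).dvd)
  obtain ⟨y, rfl⟩ := QuotientGroup.mk'_surjective Q' g
  refine ⟨y * x, ?_⟩
  rw [map_mul, mul_smul, ← hH'def]
  refine CfsgLib.Coprime.conj_smul_eq_of_le (CfsgLib.Coprime.conj_smul_le.2 fun z hz => ?_)
    (by rw [hH'c, hcard])
  have h2 : f (y * ⟨z, hH'N hz⟩ * y⁻¹) ∈ (K.subgroupOf M).map f := by
    rw [← hg, CfsgLib.Coprime.mem_conj_smul]
    exact ⟨⟨z, hH'N hz⟩, hz, by simp [f, mul_assoc]⟩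
  rw [← mem_comap, comap_map_eq_self (hker K hQK)] at h2
  exact h2


/-- Let H and K be supersolvable subgroups of a finite group G of the same order, that order being coprime to their index. Then H and K are conjugate in G. -/
theorem result {G : Type*} [Group G] [Finite G] (H K : Subgroup G) (hH : Cfsg.IsSupersolvable H) (hK : Cfsg.IsSupersolvable K) (hcard : Nat.card H = Nat.card K) (hHall : (Nat.card H).Coprime H.index) : ∃ x : G, MulAut.conj x • H = K := by
  exact main _ H K rfl hH hK hcard hHall

end Cfsg.Agent.S0582
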