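import Cfsg.Statements.S0584
import Cfsg.Agent.Lib.Solvable.Frattini

set_option autoImplicit false
open Cfsg

namespace Cfsg.Agent.S0584

/-- Let B ≤ A be normal subgroups of a finite group G with B contained in the Frattini subgroup of G. If A modulo B is nilpotent then A is nilpotent. -/
theorem result {G : Type*} [Group G] [Finite G] (A B : Subgroup G) [A.Normal] [B.Normal] (hBA : B ≤ A) (hB : B ≤ frattini G) (h : Group.IsNilpotent (↥A ⧸ B.subgroupOf A)) : Group.IsNilpotent A := by
  refine CfsgLib.Frattini.isNilpotent_of_map_isNilpotent (QuotientGroup.mk' B)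
    (QuotientGroup.mk'_surjective B) (by rwa [QuotientGroup.ker_mk']) inferInstance ?_
  let f : A →* A.map (QuotientGroup.mk' B) := (QuotientGroup.mk' B).subgroupMap A
  have hf : B.subgroupOf A ≤ f.ker := by
    intro x hx
    rw [MonoidHom.mem_ker]
    exact Subtype.ext ((QuotientGroup.eq_one_iff _).2 hx)
  exact Group.nilpotent_of_surjective (h := h) (QuotientGroup.lift (B.subgroupOf A) f hf)
    (QuotientGroup.lift_surjective_of_surjective _ f
      (MonoidHom.subgroupMap_surjective _ A) hf)

end Cfsg.Agent.S0584
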