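import Cfsg.Statements.S0586
import Cfsg.Agent.Lib.Solvable.CoreFreeMaximal

set_option autoImplicit false
open Cfsg

namespace Cfsg.Agent.S0586

/-- If the Frattini subgroup of a finite group G is trivial, then the Fitting subgroup of G equals the join of all abelian minimal normal subgroups of G. -/
theorem result {G : Type*} [Group G] [Finite G] (hΦ : frattini G = ⊥) : Cfsg.fittingSubgroup G = sSup {N : Subgroup G | N.Normal ∧ N ≠ ⊥ ∧ IsMulCommutative N ∧ ∀ K : Subgroup G, K.Normal → K ≤ N → K = ⊥ ∨ K = N} := by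
  set S := {N : Subgroup G | N.Normal ∧ N ≠ ⊥ ∧ IsMulCommutative N ∧
    ∀ K : Subgroup G, K.Normal → K ≤ N → K = ⊥ ∨ K = N} with hS
  set F := Cfsg.fittingSubgroup G with hFdef
  haveI : F.Normal := CfsgLib.Fitting.fitting_normal
  have hAF : sSup S ≤ F := sSup_le fun N hN => by
    haveI := hN.2.2.1
    letI : CommGroup N := { (inferInstance : Group N) with mul_comm := fun a b => mul_comm' a b }
    exact CfsgLib.Fitting.le_fitting hN.1 CommGroup.isNilpotent
  haveI : (sSup S).Normal := Subgroup.sSup_normal _ fun N hN => hN.1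
  haveI hFab : IsMulCommutative F := by
    haveI : Group.IsNilpotent F := CfsgLib.Fitting.fitting_isNilpotent
    have hle : commutator F ≤ frattini F := by
      refine le_iInf₂ fun M hM => ?_
      haveI : M.Normal := Subgroup.NormalizerCondition.normal_of_coatom M
        (normalizerCondition_of_isNilpotent (G := F)) hM
      have hsimple : IsSimpleGroup (F ⧸ M) := by
        haveI : Nontrivial (F ⧸ M) := QuotientGroup.nontrivial_iff.2 hM.1
        refine ⟨fun K hK => ?_⟩
        have hMK : M ≤ K.comap (QuotientGroup.mk' M) := by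
          intro x hx; simp [(QuotientGroup.eq_one_iff x).2 hx]
        have hK' : (K.comap (QuotientGroup.mk' M)).map (QuotientGroup.mk' M) = K :=
          Subgroup.map_comap_eq_self_of_surjective (QuotientGroup.mk'_surjective M) K
        rcases hMK.lt_or_eq with h | h
        · right
          rw [← hK', hM.2 _ h, Subgroup.map_top_of_surjective _ (QuotientGroup.mk'_surjective M)]
        · left
          rw [← hK', ← h, QuotientGroup.map_mk'_self]
      haveI := hsimple
      haveI : Group.IsNilpotent (F ⧸ M) := inferInstance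
      have hc : Subgroup.center (F ⧸ M) = ⊤ :=
        (hsimple.eq_bot_or_eq_top_of_normal _ inferInstance).resolve_left
          (Group.IsNilpotent.center_ne_bot _)
      refine Subgroup.Normal.quotient_commutative_iff_commutator_le.1 ?_
      exact ⟨⟨fun a b => Subgroup.mem_center_iff.1 (show b ∈ Subgroup.center (F ⧸ M) by rw [hc]; exact Subgroup.mem_top b) a⟩⟩
    have hb : (commutator F).map F.subtype ≤ ⊥ := by
      rw [← hΦ]
      exact (Subgroup.map_mono hle).trans
        (CfsgLib.Frattini.map_frattini_le_of_normal inferInstance)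
    rw [le_bot_iff, Subgroup.map_eq_bot_iff_of_injective _ F.subtype_injective,
      commutator_def, Subgroup.commutator_eq_bot_iff_le_centralizer] at hb
    exact ⟨⟨fun a b => (hb (Subgroup.mem_top b)) a (Subgroup.mem_top a)⟩⟩
  haveI : IsMulCommutative (sSup S : Subgroup G) := ⟨⟨fun a b => Subtype.ext
    (congrArg (fun t : F => (t : G)) (mul_comm' (⟨a, hAF a.2⟩ : F) ⟨b, hAF b.2⟩) :)⟩⟩
  obtain ⟨H, hH⟩ := CfsgLib.Frattini.exists_complement_of_inf_frattini (sSup S)
    (by rw [hΦ, inf_bot_eq])
  have hsplit : (F ⊓ H).Normal := by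
    refine CfsgLib.CoreFreeMaximal.normal_of_le_normalizer_sup ?_
      CfsgLib.CoreFreeMaximal.le_normalizer_inf hH.sup_eq_top
    exact hAF.trans (((Subgroup.le_centralizer F).trans (Subgroup.centralizer_le (SetLike.coe_subset_coe.2 inf_le_left))).trans
      (Subgroup.centralizer_le_normalizer _))
  have hbot : F ⊓ H = ⊥ := by
    by_contra hne
    obtain ⟨N, hN, hle⟩ := CfsgLib.MinNormal.exists_isMinNormal_le hsplit hne
    have hNS : N ≤ sSup S := le_sSup ⟨hN.1, hN.2.1, ⟨⟨fun a b => Subtype.ext
      (congrArg (fun t : F => (t : G)) (mul_comm' (⟨a, (hle a.2).1⟩ : F) ⟨b, (hle b.2).1⟩) :)⟩⟩,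
      hN.2.2⟩
    exact hN.2.1 (le_bot_iff.1 ((le_inf hNS (hle.trans inf_le_right)).trans_eq
      (disjoint_iff.1 hH.disjoint)))
  refine le_antisymm (fun x hx => ?_) hAF
  obtain ⟨⟨a, h⟩, hah⟩ := (hH.existsUnique x).exists
  simp only at hah
  have : (h : G) ∈ F ⊓ H := by
    refine ⟨?_, h.2⟩
    have := F.mul_mem (F.inv_mem (hAF a.2)) hx
    rw [← hah] at this
    simpa using this
  rw [hbot, Subgroup.mem_bot] at this
  rw [← hah, this, mul_one]
  exact a.2

end Cfsg.Agent.S0586
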