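import Cfsg.Statements.S0587
import Cfsg.Agent.Lib.Solvable.CoreFreeMaximal
import Cfsg.Agent.Lib.Structure.Subnormal

set_option autoImplicit false
open Cfsg

namespace Cfsg.Agent.S0587

/-- Let G be a finite group whose largest normal p-subgroup L is nontrivial, and M a maximal subgroup of G with trivial normal core. Then L is elementary abelian, M is a complement to L, L is a minimal normal subgroup of G, the centralizer of L is L, and for every prime q such that the largest normal q-subgroup of M is nontrivial, the order of L is congruent to 1 modulo q and q ≠ p. -/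
theorem result {G : Type*} [Group G] [Finite G] (p : ℕ) [Fact p.Prime] (hL : Cfsg.pCore p G ≠ ⊥) (M : Subgroup G) (hM : IsCoatom M) (hcore : M.normalCore = ⊥) : Cfsg.IsElementaryAbelian p (Cfsg.pCore p G) ∧ Subgroup.IsComplement' (Cfsg.pCore p G) M ∧ (∀ K : Subgroup G, K.Normal → K ≤ Cfsg.pCore p G → K = ⊥ ∨ K = Cfsg.pCore p G) ∧ Subgroup.centralizer ((Cfsg.pCore p G : Subgroup G) : Set G) = Cfsg.pCore p G ∧ ∀ (q : ℕ) [Fact q.Prime], Cfsg.pCore q ↥M ≠ ⊥ → Nat.card (Cfsg.pCore p G) % q = 1 % q ∧ q ≠ p := by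
  obtain ⟨hmin, hab⟩ := CfsgLib.CoreFreeMaximal.pCore_structure hL hM hcore
  haveI := hmin.1
  haveI := hab
  obtain ⟨r, hr, hel, hrg, k, hk, hcard⟩ := hmin.exists_prime_elementaryAbelian hab
  have hLp := CfsgLib.Fitting.pCore_isPGroup (G := G) p
  have hrp : r = p := by
    obtain ⟨j, hj⟩ := IsPGroup.iff_card.1 hLp
    rw [hcard] at hj
    have : r ∣ p ^ j := hj ▸ dvd_pow_self r hk.ne'
    exact (Nat.prime_dvd_prime_iff_eq hr Fact.out).1 (hr.dvd_of_dvd_pow this)
  subst hrp
  have hC := CfsgLib.CoreFreeMaximal.isComplement'_of_commutative hM hcore hL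
  have hCL := CfsgLib.CoreFreeMaximal.centralizer_eq_self hM hcore hL
  have hsup := CfsgLib.CoreFreeMaximal.sup_eq_top_of_normal hM hcore hL
  refine ⟨hel, hC, hmin.2.2, hCL, ?_⟩
  intro q _ hq
  set L := Cfsg.pCore r G with hLdef
  haveI := CfsgLib.Fitting.pCore_normal (G := M) q
  set Q : Subgroup G := (Cfsg.pCore q M).map M.subtype with hQdef
  have hQq : IsPGroup q Q := (CfsgLib.Fitting.pCore_isPGroup q).map _
  have hQM : Q ≤ M := Subgroup.map_subtype_le _
  have hMQ : M ≤ Subgroup.normalizer (Q : Set G) := by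
    intro m hm
    rw [Subgroup.mem_normalizer_iff]
    intro x
    constructor
    · rintro ⟨y, hy, rfl⟩
      exact ⟨⟨m, hm⟩ * y * (⟨m, hm⟩ : M)⁻¹, Subgroup.Normal.conj_mem inferInstance y hy _, rfl⟩
    · rintro ⟨y, hy, hyx⟩
      refine ⟨(⟨m, hm⟩ : M)⁻¹ * y * ⟨m, hm⟩, Subgroup.Normal.conj_mem' inferInstance y hy _, ?_⟩
      simp only [Subgroup.coe_subtype] at hyx
      simp [hyx, mul_assoc]
  have hQne : Q ≠ ⊥ := fun e => hq ((Subgroup.map_eq_bot_iff_of_injective _
    M.subtype_injective).1 e)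
  have hqr : q ≠ r := by
    rintro rfl
    have hn : (L ⊔ Q).Normal := by
      refine CfsgLib.CoreFreeMaximal.normal_of_le_normalizer_sup
        (le_sup_left.trans Subgroup.le_normalizer) ?_ hsup
      exact CfsgLib.Structure.le_normalizer_sup_of_le (by simp [Subgroup.normalizer_eq_top]) hMQ
    have hp2 : IsPGroup q (L ⊔ Q : Subgroup G) := hLp.to_sup_of_normal_left hQq
    have h1 : Q ≤ L := le_sup_right.trans (CfsgLib.Fitting.le_pCore hn hp2)
    exact hQne (le_bot_iff.1 ((le_inf h1 hQM).trans_eq (disjoint_iff.1 hC.disjoint)))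
  refine ⟨?_, hqr⟩
  -- `Q` acts on `L` by conjugation with trivial fixed-point subgroup
  have hfix : L ⊓ Subgroup.centralizer (Q : Set G) = ⊥ := by
    have hn : (L ⊓ Subgroup.centralizer (Q : Set G)).Normal := by
      refine CfsgLib.CoreFreeMaximal.normal_of_le_normalizer_sup ?_ ?_ hsup
      · exact ((Subgroup.le_centralizer L).trans (Subgroup.centralizer_le (SetLike.coe_subset_coe.2 inf_le_left))).trans
          (Subgroup.centralizer_le_normalizer _)
      · intro m hm
        have hmQ := Subgroup.mem_normalizer_iff.1 (hMQ hm)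
        have key : ∀ m : G, (∀ y, y ∈ Q ↔ m * y * m⁻¹ ∈ Q) → ∀ x,
            x ∈ Subgroup.centralizer (Q : Set G) →
            m * x * m⁻¹ ∈ Subgroup.centralizer (Q : Set G) := by
          intro m hmQ x hx
          rw [Subgroup.mem_centralizer_iff] at hx ⊢
          intro y hy
          have h1 : m⁻¹ * y * m ∈ Q := (hmQ _).2 (by simpa [mul_assoc] using hy)
          have h2 := hx _ h1
          calc y * (m * x * m⁻¹) = m * ((m⁻¹ * y * m) * x) * m⁻¹ := by group
            _ = m * (x * (m⁻¹ * y * m)) * m⁻¹ := by rw [h2]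
            _ = m * x * m⁻¹ * y := by group
        refine Subgroup.mem_normalizer_iff.2 fun x => ⟨fun hx => ?_, fun hx => ?_⟩
        · exact ⟨Subgroup.Normal.conj_mem inferInstance x hx.1 m, key m hmQ x hx.2⟩
        · have h1 := Subgroup.Normal.conj_mem' (inferInstanceAs L.Normal) _ hx.1 m
          have h2 := key m⁻¹ (Subgroup.mem_normalizer_iff.1 (inv_mem (hMQ hm))) _ hx.2
          simp [mul_assoc] at h1 h2
          exact ⟨h1, h2⟩
    rcases hmin.2.2 _ hn inf_le_left with h | h
    · exact h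
    · exfalso
      refine hQne (le_bot_iff.1 ?_)
      rw [← CfsgLib.CoreFreeMaximal.centralizer_inf_eq_bot hM hcore hL]
      exact le_inf (Subgroup.le_centralizer_iff.1 (inf_eq_left.1 h)) hQM
  letI : MulAction Q L := MulAction.compHom L ((MulAut.conjNormal (H := L)).comp Q.subtype)
  have hmod := hQq.card_modEq_card_fixedPoints L
  have hone : Nat.card (MulAction.fixedPoints Q L) = 1 := by
    rw [Nat.card_eq_one_iff_unique]
    refine ⟨⟨fun a b => ?_⟩, ⟨⟨1, fun y => map_one (MulAut.conjNormal (H := L) (y : G))⟩⟩⟩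
    suffices h : ∀ a : MulAction.fixedPoints Q L, ((a : L) : G) = 1 from
      Subtype.ext (Subtype.ext ((h a).trans (h b).symm))
    intro a
    rw [← Subgroup.mem_bot, ← hfix]
    refine ⟨(a : L).2, Subgroup.mem_centralizer_iff.2 fun y hy => ?_⟩
    have h1 := congrArg Subtype.val (a.2 ⟨y, hy⟩)
    exact mul_inv_eq_iff_eq_mul.1 h1
  rw [hone] at hmod
  exact hmod

end Cfsg.Agent.S0587
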