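import Cfsg.Statements.S0592
import Cfsg.Agent.Lib.PLocal5.SL2Apps

set_option autoImplicit false
open Cfsg

namespace Cfsg.Agent.S0592

/-- Two quadratically acting generators of a linear group that is not a p-group, with the p'-part of the order of their product dividing q - 1, give a homomorphism onto a subgroup of SL(2, q) that is not a p-group. -/
theorem result {K : Type*} [Field K] [Fintype K] {p : ℕ} [Fact p.Prime] [CharP K p] {W : Type*} [AddCommGroup W] [Module K W] [FiniteDimensional K W] [Finite W] [Nontrivial W] (H : Subgroup (W ≃ₗ[K] W)) (a b : W ≃ₗ[K] W) (hH : H = Subgroup.closure {a, b}) (ha : ∀ w : W, a (a w - w) = a w - w) (hb : ∀ w : W, b (b w - w) = b w - w) (hnp : ¬ IsPGroup p H) (hk : ∃ e k : ℕ, orderOf (a * b) = p ^ e * k ∧ k ∣ Fintype.card K - 1) : ∃ φ : H →* Matrix.SpecialLinearGroup (Fin 2) K, ¬ IsPGroup p φ.range := by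
  have : Finite (W ≃ₗ[K] W) := Finite.of_injective _ DFunLike.coe_injective
  let ρ : H →* Module.End K W :=
    { toFun := fun h => ((h : W ≃ₗ[K] W) : W →ₗ[K] W)
      map_one' := rfl
      map_mul' := fun _ _ => rfl }
  have hρ : Function.Injective ρ := fun x y e =>
    Subtype.ext (LinearEquiv.toLinearMap_injective e)
  set a' : H := ⟨a, hH ▸ Subgroup.subset_closure (Set.mem_insert _ _)⟩
  set b' : H := ⟨b, hH ▸ Subgroup.subset_closure (Set.mem_insert_of_mem _ rfl)⟩
  have hgen : Subgroup.closure ({a', b'} : Set H) = ⊤ := by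
    refine Subgroup.map_injective H.subtype_injective ?_
    rw [MonoidHom.map_closure, ← MonoidHom.range_eq_map, Subgroup.range_subtype, Set.image_pair]
    exact hH.symm
  have hqa : (ρ a' - 1) * (ρ a' - 1) = 0 := LinearMap.ext fun w => by
    show a (a w - w) - (a w - w) = 0
    rw [ha, sub_self]
  have hqb : (ρ b' - 1) * (ρ b' - 1) = 0 := LinearMap.ext fun w => by
    show b (b w - w) - (b w - w) = 0
    rw [hb, sub_self]
  set e := CfsgLib.QuadPair.extendEnd K W
  set F := AlgebraicClosure K
  set σ : H →* _ := e.toMonoidHom.comp ρ with hσ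
  have hq : ∀ c : H, (ρ c - 1) * (ρ c - 1) = 0 → (σ c - 1) * (σ c - 1) = 0 := by
    intro c hc
    have := congrArg e hc
    rwa [map_mul, map_sub, map_one, map_zero] at this
  have hT : ¬ IsNilpotent ((σ a' - 1) * (σ b' - 1)) := by
    intro hT
    refine hnp ((CfsgLib.QuadPair.isPGroup_of_forall_isNilpotent ρ hρ ⊤ fun h _ => ?_).of_equiv
      Subgroup.topEquiv)
    rw [← IsNilpotent.map_iff (CfsgLib.QuadPair.extendEnd_injective K W), map_sub, map_one]
    exact CfsgLib.QuadPair.isNilpotent_sub_one_all σ hgen (hq a' hqa) (hq b' hqb) hT h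
  obtain ⟨μ, hμ, v, hv, hTv⟩ := CfsgLib.OddOrder.QuadraticPair.exists_ne_zero_eigen hT
  obtain ⟨φ, ι, hφa, hφb, -, -⟩ :=
    CfsgLib.QuadPair.exists_hom_of_eigen σ hgen (hq a' hqa) (hq b' hqb) hμ hv hTv
  -- an eigenvalue of the product
  have : CharP F p := inferInstanceAs (CharP (AlgebraicClosure K) p)
  obtain ⟨l, hl⟩ := IsAlgClosed.exists_root
    (Polynomial.X ^ 2 - Polynomial.C (2 + μ) * Polynomial.X + Polynomial.C 1) (by
      have : (Polynomial.X ^ 2 - Polynomial.C (2 + μ) * Polynomial.X + Polynomial.C 1).degree = 2 := by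
        compute_degree!
      rw [this]; exact two_ne_zero)
  simp [Polynomial.IsRoot.def] at hl
  set x := φ (a' * b') with hx
  have hxm : x.1 = !![1 + μ, μ; 1, 1] := by
    rw [hx, map_mul, hφa, hφb]
    ext i j; fin_cases i <;> fin_cases j <;>
      simp [Matrix.mul_apply, Fin.sum_univ_two, Matrix.SpecialLinearGroup.coe_mul]
  obtain ⟨n, k, hnk, hkq⟩ := hk
  have hord : (a' * b') ^ orderOf (a * b) = 1 := by
    refine Subtype.ext ?_
    exact pow_orderOf_eq_one (a * b)
  have hev : ∀ m : ℕ, (x.1 ^ m).mulVec ![l - 1, 1] = l ^ m • ![l - 1, 1] := by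
    intro m
    induction m with
    | zero => simp
    | succ m ih =>
      rw [pow_succ, ← Matrix.mulVec_mulVec]
      have : x.1.mulVec ![l - 1, 1] = l • ![l - 1, 1] := by
        rw [hxm]
        funext i; fin_cases i <;>
          simp [Matrix.mulVec, dotProduct, Fin.sum_univ_two]
        linear_combination -hl
      rw [this, Matrix.mulVec_smul, ih, smul_smul, pow_succ']
  have hln : l ^ orderOf (a * b) = 1 := by
    have h1 : x.1 ^ orderOf (a * b) = 1 := by
      rw [← Matrix.SpecialLinearGroup.coe_pow, hx, ← map_pow, hord, map_one,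
        Matrix.SpecialLinearGroup.coe_one]
    have := congrFun (hev (orderOf (a * b))) 1
    rw [h1, Matrix.one_mulVec] at this
    simpa using this.symm
  have hlk : l ^ k = 1 := by
    have : (l ^ k - 1) ^ (p ^ n) = 0 := by
      rw [sub_pow_char_pow, one_pow, ← pow_mul, mul_comm, ← hnk, hln, sub_self]
    exact sub_eq_zero.1 (eq_zero_of_pow_eq_zero this)
  have hlq : l ^ Fintype.card K = l := by
    obtain ⟨c, hc⟩ := hkq
    calc l ^ Fintype.card K = l ^ (Fintype.card K - 1) * l := by
          rw [← pow_succ, Nat.sub_add_cancel Fintype.card_pos]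
      _ = l := by rw [hc, pow_mul, hlk, one_pow, one_mul]
  obtain ⟨l₀, hl₀⟩ : ∃ l₀ : K, algebraMap K F l₀ = l := by
    classical
    by_contra! hne
    set P : Polynomial F := Polynomial.X ^ Fintype.card K - Polynomial.X with hP
    have hq1 : 1 < Fintype.card K := Fintype.one_lt_card
    have hdeg : P.natDegree = Fintype.card K := FiniteField.X_pow_card_sub_X_natDegree_eq F hq1
    have hP0 : P ≠ 0 := FiniteField.X_pow_card_sub_X_ne_zero F hq1
    have hsub : insert l (Finset.univ.image (algebraMap K F)) ⊆ P.roots.toFinset := by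
      intro y hy
      rw [Multiset.mem_toFinset, Polynomial.mem_roots hP0]
      rcases Finset.mem_insert.1 hy with rfl | hy
      · simp [hP, hlq]
      · obtain ⟨z, -, rfl⟩ := Finset.mem_image.1 hy
        simp [hP, ← map_pow, FiniteField.pow_card]
    have h1 := Finset.card_le_card hsub
    have hni : l ∉ Finset.univ.image (algebraMap K F) := fun h => by
      obtain ⟨z, -, hz⟩ := Finset.mem_image.1 h
      exact hne z hz
    rw [Finset.card_insert_of_notMem hni,
      Finset.card_image_of_injective _ (algebraMap K F).injective, Finset.card_univ] at h1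
    have h2 := (Multiset.toFinset_card_le P.roots).trans (P.card_roots')
    omega
  have hl0 : l ≠ 0 := fun h => by rw [h] at hl; simp at hl
  set μ₀ : K := l₀ + l₀⁻¹ - 2 with hμ₀def
  have hμeq : algebraMap K F μ₀ = μ := by
    rw [hμ₀def, map_sub, map_add, map_inv₀, hl₀, map_ofNat]
    refine mul_left_cancel₀ hl0 ?_
    rw [mul_sub, mul_add, mul_inv_cancel₀ hl0]
    linear_combination hl
  have hμ₀ : μ₀ ≠ 0 := fun h => hμ (by rw [← hμeq, h, map_zero])
  set T := (ρ a' - 1) * (ρ b' - 1) with hTdef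
  obtain ⟨v₀, hv₀, hTv₀⟩ : ∃ v₀ : W, v₀ ≠ 0 ∧ T v₀ = μ₀ • v₀ := by
    by_contra! hne
    have hinj : Function.Injective (T - algebraMap K (Module.End K W) μ₀) := by
      rw [injective_iff_map_eq_zero]
      intro z hz
      by_contra hz0
      rw [LinearMap.sub_apply, Module.algebraMap_end_apply, sub_eq_zero] at hz
      exact hne z hz0 hz
    have hu : IsUnit (T - algebraMap K (Module.End K W) μ₀) :=
      (Module.End.isUnit_iff _).2 ⟨hinj, LinearMap.injective_iff_surjective.1 hinj⟩
    have hu' := hu.map e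
    rw [map_sub, CfsgLib.QuadPair.extendEnd_algebraMap, hμeq] at hu'
    have hinj' := ((Module.End.isUnit_iff _).1 hu').1
    refine hv (hinj' ?_)
    rw [map_zero, LinearMap.sub_apply, Module.algebraMap_end_apply, sub_eq_zero]
    rw [← hTv]
    congr 1
    simp [hTdef, hσ]
  obtain ⟨ψ, -, hψa, hψb, -, -⟩ :=
    CfsgLib.QuadPair.exists_hom_of_eigen ρ hgen hqa hqb hμ₀ hv₀ hTv₀
  exact ⟨ψ, CfsgLib.SL2Apps.not_isPGroup_of_up_low hμ₀ ψ.range ⟨a', hψa⟩ ⟨b', hψb⟩⟩

end Cfsg.Agent.S0592
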