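import Cfsg.Statements.S0593
import Cfsg.Agent.Lib.PLocal5.QuadPair
import Cfsg.Agent.Lib.PLocal5.SL2Generated

set_option autoImplicit false
open Cfsg
open scoped Pointwise commutatorElement

namespace Cfsg.Agent.S0593

/-- For odd p, a faithful group on an elementary abelian p-group generated by two quadratically acting elements is a p-group or has non-abelian Sylow 2-subgroups. -/
theorem result {G : Type*} [Group G] [Finite G] {p : ℕ} [Fact p.Prime] (hp : p ≠ 2) (V H : Subgroup G) (hV : Cfsg.IsElementaryAbelian p V) (hHV : H ≤ Subgroup.normalizer (V : Set G)) (hf : H ⊓ Subgroup.centralizer (V : Set G) = ⊥) (a b : G) (hab : H = Subgroup.closure {a, b}) (ha : ⁅⁅V, Subgroup.zpowers a⁆, Subgroup.zpowers a⁆ = ⊥) (hb : ⁅⁅V, Subgroup.zpowers b⁆, Subgroup.zpowers b⁆ = ⊥) (hnp : ¬ IsPGroup p H) (T : Sylow 2 H) : ¬ IsMulCommutative T := by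
  have hnt : ¬ IsPGroup p (⊤ : Subgroup H) := fun h => hnp (h.of_equiv Subgroup.topEquiv)
  set a' : H := ⟨a, hab ▸ Subgroup.subset_closure (Set.mem_insert _ _)⟩
  set b' : H := ⟨b, hab ▸ Subgroup.subset_closure (Set.mem_insert_of_mem _ rfl)⟩
  obtain ⟨μ, φ, hμ, hφa, hφb, -⟩ := CfsgLib.QuadPair.exists_hom_closure V H hV hHV hf hab ha hb
    (a' := a') (b' := b') rfl rfl ⊤ hnt
  have hgen : Subgroup.closure ({a', b'} : Set H) = ⊤ := by
    refine Subgroup.map_injective H.subtype_injective ?_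
    rw [MonoidHom.map_closure, ← MonoidHom.range_eq_map, Subgroup.range_subtype, Set.image_pair]
    exact hab.symm
  have hX : φ.range = Subgroup.closure {CfsgLib.SL2Unipotent.up μ, CfsgLib.SL2Unipotent.low 1} := by
    rw [MonoidHom.range_eq_map, ← hgen, MonoidHom.map_closure, Set.image_pair, hφa, hφb]
  intro hT
  have : Finite φ.range := Finite.of_surjective _ φ.rangeRestrict_surjective
  have : Fact (Nat.Prime 2) := ⟨Nat.prime_two⟩
  have hs := φ.rangeRestrict_surjective
  refine CfsgLib.SL2Unipotent.sylow_two_not_commutative (p := p) hp hμ φ.range hX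
    (T.mapSurjective hs) ⟨⟨fun x y => ?_⟩⟩
  obtain ⟨x, u, hu, rfl⟩ := x
  obtain ⟨y, v, hv, rfl⟩ := y
  refine Subtype.ext ?_
  show φ.rangeRestrict u * φ.rangeRestrict v = φ.rangeRestrict v * φ.rangeRestrict u
  rw [← map_mul, ← map_mul]
  exact congrArg _ (congrArg Subtype.val (hT.is_comm.comm (⟨u, hu⟩ : T) ⟨v, hv⟩))

end Cfsg.Agent.S0593
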