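import Cfsg.Statements.S0594
import Cfsg.Agent.Lib.PLocal5.SL2Apps
import Cfsg.Agent.Lib.PCore.Basic

set_option autoImplicit false
open Cfsg
open scoped Pointwise commutatorElement

namespace Cfsg.Agent.S0594

/-- For odd p, two quadratic generators of a faithful group that is not a p-group, one of which acts nontrivially on a normal subgroup of order prime to p, force p = 3 and a section isomorphic to SL(2,3). -/
theorem result {G : Type*} [Group G] [Finite G] {p : ℕ} [Fact p.Prime] (hp : p ≠ 2) (V H : Subgroup G) (hV : Cfsg.IsElementaryAbelian p V) (hHV : H ≤ Subgroup.normalizer (V : Set G)) (hf : H ⊓ Subgroup.centralizer (V : Set G) = ⊥) (a b : G) (hab : H = Subgroup.closure {a, b}) (ha : ⁅⁅V, Subgroup.zpowers a⁆, Subgroup.zpowers a⁆ = ⊥) (hb : ⁅⁅V, Subgroup.zpowers b⁆, Subgroup.zpowers b⁆ = ⊥) (hnp : ¬ IsPGroup p H) (Q : Subgroup G) (hQH : Q ≤ H) (hQn : H ≤ Subgroup.normalizer (Q : Set G)) (hQ : (Nat.card Q).Coprime p) (hQa :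 ⁅Q, Subgroup.zpowers a⁆ ≠ ⊥) : p = 3 ∧ ∃ (K L : Subgroup G) (hL : (L.subgroupOf K).Normal), K ≤ H ∧ Nonempty ((K ⧸ L.subgroupOf K) ≃* Matrix.SpecialLinearGroup (Fin 2) (ZMod 3)) := by
  set a' : H := ⟨a, hab ▸ Subgroup.subset_closure (Set.mem_insert _ _)⟩
  set b' : H := ⟨b, hab ▸ Subgroup.subset_closure (Set.mem_insert_of_mem _ rfl)⟩
  set Qh : Subgroup H := Q.subgroupOf H with hQh
  have : Qh.Normal := Subgroup.normal_subgroupOf_of_le_normalizer hQn
  set D : Subgroup H := ⁅Qh, Subgroup.zpowers a'⁆ with hD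
  have hDQ : D ≤ Qh := Subgroup.commutator_le_left _ _
  have hmap : D.map H.subtype = ⁅Q, Subgroup.zpowers a⁆ := by
    rw [hD, Subgroup.map_commutator, Subgroup.map_subgroupOf_eq_of_le hQH, MonoidHom.map_zpowers]
    rfl
  have hQhc : Nat.card Qh = Nat.card Q :=
    Nat.card_congr (Subgroup.subgroupOfEquivOfLe hQH).toEquiv
  have hDnp : ¬ IsPGroup p D := by
    intro h
    refine hQa ?_
    rw [← hmap, CfsgLib.PCore.eq_bot_of_isPGroup_coprime h
      ((hQhc ▸ hQ).coprime_dvd_left (Subgroup.card_dvd_of_le hDQ)), Subgroup.map_bot]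
  obtain ⟨μ, φ, hμ, hφa, -, d, hd, hd1⟩ := CfsgLib.QuadPair.exists_hom_closure V H hV hHV hf hab
    ha hb (a' := a') (b' := b') rfl rfl D hDnp
  have hfin : Finite (Qh.map φ) :=
    Finite.of_surjective _ (φ.subgroupMap_surjective Qh)
  have hcop : (Nat.card (Qh.map φ)).Coprime p :=
    (hQhc ▸ hQ).coprime_dvd_left (Subgroup.card_map_dvd _ _)
  have hnorm : φ a' ∈ Subgroup.normalizer ((Qh.map φ : Subgroup _) : Set _) :=
    Subgroup.le_normalizer_map φ ⟨a', by rw [Subgroup.normalizer_eq_top]; trivial, rfl⟩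
  rw [hφa] at hnorm
  have hnc : ∃ q ∈ Qh.map φ, ¬ Commute (CfsgLib.SL2Unipotent.up μ) q := by
    by_contra! hc
    refine hd1 ((Subgroup.map_eq_bot_iff D).1 ?_ hd)
    rw [hD, Subgroup.map_commutator, MonoidHom.map_zpowers,
      Subgroup.commutator_eq_bot_iff_le_centralizer]
    intro q hq
    rw [Subgroup.mem_centralizer_iff]
    intro b hb
    obtain ⟨k, rfl⟩ := Subgroup.mem_zpowers_iff.1 hb
    rw [hφa]
    exact ((hc q hq).zpow_left k).eq
  obtain ⟨h3, ψ, hψ, hr⟩ := CfsgLib.SL2Unipotent.exists_sl2_three hp hμ _ hcop hnorm hnc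
  refine ⟨h3, CfsgLib.SL2Apps.exists_section H φ ψ hψ (hr.trans (sup_le ?_ ?_))⟩
  · exact Subgroup.map_le_range _ _
  · rw [Subgroup.zpowers_le]; exact ⟨a', hφa⟩

end Cfsg.Agent.S0594
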