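import Cfsg.Statements.S0595
import Cfsg.Agent.S0593
import Cfsg.Agent.Lib.Involutions.BaerSuzuki
import Cfsg.Agent.Lib.PCore.Basic

set_option autoImplicit false
open Cfsg
open scoped Pointwise commutatorElement

namespace Cfsg.Agent.S0595

/-- For odd p, a faithful action on an elementary abelian p-group that is not p-stable forces non-abelian Sylow 2-subgroups. -/
theorem result {G : Type*} [Group G] [Finite G] {p : ℕ} [Fact p.Prime] (hp : p ≠ 2) (V H : Subgroup G) (hV : Cfsg.IsElementaryAbelian p V) (hHV : H ≤ Subgroup.normalizer (V : Set G)) (hf : H ⊓ Subgroup.centralizer (V : Set G) = ⊥) (a : G) (haH : a ∈ H) (hq : ⁅⁅V, Subgroup.zpowers a⁆, Subgroup.zpowers a⁆ = ⊥) (hna : a ∉ (Cfsg.pCore p H).map H.subtype) (T : Sylow 2 H) : ¬ IsMulCommutative T := by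
  set x : H := ⟨a, haH⟩ with hx
  obtain ⟨g, hg⟩ : ∃ g : H, ¬ IsPGroup p (Subgroup.closure ({x, g * x * g⁻¹} : Set H)) := by
    by_contra! h
    obtain ⟨N, hN, hNp, hxN⟩ := CfsgLib.Involutions.exists_normal_isPGroup_of_mem h
    exact hna ⟨x, CfsgLib.PCore.le_pCore hN hNp hxN, rfl⟩
  set b : G := (g : G) * a * (g : G)⁻¹ with hbdef
  set H₀ : Subgroup G := Subgroup.closure {a, b} with hH₀
  have hbH : b ∈ H := H.mul_mem (H.mul_mem g.2 haH) (H.inv_mem g.2)
  have hle : H₀ ≤ H := by
    rw [hH₀, Subgroup.closure_le]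
    rintro z (rfl | rfl)
    exacts [haH, hbH]
  have hf₀ : H₀ ⊓ Subgroup.centralizer (V : Set G) = ⊥ :=
    le_bot_iff.1 ((inf_le_inf_right _ hle).trans hf.le)
  have hmapcl : (Subgroup.closure ({x, g * x * g⁻¹} : Set H)).map H.subtype = H₀ := by
    rw [MonoidHom.map_closure, Set.image_pair]; rfl
  have hnp₀ : ¬ IsPGroup p H₀ := fun h => hg (IsPGroup.of_injective
    (h.of_equiv (MulEquiv.subgroupCongr hmapcl.symm))
    ((Subgroup.closure ({x, g * x * g⁻¹} : Set H)).equivMapOfInjective H.subtype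
      H.subtype_injective).toMonoidHom
    ((Subgroup.closure ({x, g * x * g⁻¹} : Set H)).equivMapOfInjective H.subtype
      H.subtype_injective).injective)
  have hqb : ⁅⁅V, Subgroup.zpowers b⁆, Subgroup.zpowers b⁆ = ⊥ := by
    have hgV : V.map (MulAut.conj (g : G)).toMonoidHom = V := by
      ext z
      rw [Subgroup.mem_map_equiv, MulAut.conj_symm_apply]
      have := Subgroup.mem_normalizer_iff.1 ((Subgroup.normalizer _).inv_mem (hHV g.2)) z
      rw [inv_inv] at this
      exact this.symm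
    have := congrArg (Subgroup.map (MulAut.conj (g : G)).toMonoidHom) hq
    rw [Subgroup.map_commutator, Subgroup.map_commutator, Subgroup.map_bot, hgV,
      MonoidHom.map_zpowers] at this
    exact this
  set T₀ : Subgroup H₀ := ⊤ with hT₀
  have : Fact (Nat.Prime 2) := ⟨Nat.prime_two⟩
  obtain ⟨P⟩ : Nonempty (Sylow 2 H₀) := inferInstance
  intro hT
  refine Cfsg.Agent.S0593.result hp V H₀ hV (hle.trans hHV) hf₀ a b hH₀ hq hqb hnp₀ P ?_
  obtain ⟨Q, hQ⟩ := (P.isPGroup'.map (Subgroup.inclusion hle)).exists_le_sylow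
  obtain ⟨c, hc⟩ := MulAction.exists_smul_eq H T Q
  refine ⟨⟨fun u v => ?_⟩⟩
  have hm : ∀ w : P, c⁻¹ * Subgroup.inclusion hle w * c ∈ (T : Subgroup H) := fun w => by
    have h1 := hQ ⟨w, w.2, rfl⟩
    rw [← hc, Sylow.coe_subgroup_smul, Subgroup.mem_pointwise_smul_iff_inv_smul_mem] at h1
    simpa [MulAut.smul_def] using h1
  have h2 := congrArg Subtype.val (hT.is_comm.comm (⟨_, hm u⟩ : T) ⟨_, hm v⟩)
  refine Subtype.ext (Subgroup.inclusion_injective hle ?_)
  push_cast
  rw [map_mul, map_mul]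
  calc Subgroup.inclusion hle u * Subgroup.inclusion hle v
      = c * ((c⁻¹ * Subgroup.inclusion hle u * c) * (c⁻¹ * Subgroup.inclusion hle v * c)) * c⁻¹ := by
        group
    _ = c * ((c⁻¹ * Subgroup.inclusion hle v * c) * (c⁻¹ * Subgroup.inclusion hle u * c)) * c⁻¹ := by
        rw [show (c⁻¹ * Subgroup.inclusion hle u * c) * (c⁻¹ * Subgroup.inclusion hle v * c) =
          (c⁻¹ * Subgroup.inclusion hle v * c) * (c⁻¹ * Subgroup.inclusion hle u * c) from h2]
    _ = Subgroup.inclusion hle v * Subgroup.inclusion hle u := by group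

end Cfsg.Agent.S0595
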