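import Cfsg.Statements.S0596
import Cfsg.Agent.Lib.PLocal5.SL2Apps
import Cfsg.Agent.Lib.Involutions.BaerSuzuki

set_option autoImplicit false
open Cfsg
open scoped Pointwise commutatorElement

namespace Cfsg.Agent.S0596

/-- For odd p, a p-separable group with a faithful action on an elementary abelian p-group that is not p-stable has p = 3 and involves SL(2,3). -/
theorem result {G : Type*} [Group G] [Finite G] {p : ℕ} [Fact p.Prime] (hp : p ≠ 2) (V H : Subgroup G) (hV : Cfsg.IsElementaryAbelian p V) (hHV : H ≤ Subgroup.normalizer (V : Set G)) (hf : H ⊓ Subgroup.centralizer (V : Set G) = ⊥) (hsep : Cfsg.IsPSolvable p H) (a : G) (haH : a ∈ H) (hq : ⁅⁅V, Subgroup.zpowers a⁆, Subgroup.zpowers a⁆ = ⊥) (hna : a ∉ (Cfsg.pCore p H).map H.subtype) : p = 3 ∧ ∃ (K L : Subgroup G) (hL : (L.subgroupOf K).Normal), K ≤ H ∧ Nonempty ((K ⧸ L.subgroupOf K) ≃* Matrix.SpecialLinearGroup (Fin 2) (ZMod 3)) := by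
  set x : H := ⟨a, haH⟩ with hx
  obtain ⟨g, hg⟩ : ∃ g : H, ¬ IsPGroup p (Subgroup.closure ({x, g * x * g⁻¹} : Set H)) := by
    by_contra! h
    obtain ⟨N, hN, hNp, hxN⟩ := CfsgLib.Involutions.exists_normal_isPGroup_of_mem h
    exact hna ⟨x, CfsgLib.PCore.le_pCore hN hNp hxN, rfl⟩
  set b : G := (g : G) * a * (g : G)⁻¹ with hbdef
  set H₀ : Subgroup G := Subgroup.closure {a, b} with hH₀
  have hbH : b ∈ H := H.mul_mem (H.mul_mem g.2 haH) (H.inv_mem g.2)
  have hle : H₀ ≤ H := by
    rw [hH₀, Subgroup.closure_le]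
    rintro z (rfl | rfl)
    exacts [haH, hbH]
  have hf₀ : H₀ ⊓ Subgroup.centralizer (V : Set G) = ⊥ :=
    le_bot_iff.1 ((inf_le_inf_right _ hle).trans hf.le)
  have hmapcl : (Subgroup.closure ({x, g * x * g⁻¹} : Set H)).map H.subtype = H₀ := by
    rw [MonoidHom.map_closure, Set.image_pair]; rfl
  have hnp₀ : ¬ IsPGroup p H₀ := fun h => hg (IsPGroup.of_injective
    (h.of_equiv (MulEquiv.subgroupCongr hmapcl.symm))
    ((Subgroup.closure ({x, g * x * g⁻¹} : Set H)).equivMapOfInjective H.subtype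
      H.subtype_injective).toMonoidHom
    ((Subgroup.closure ({x, g * x * g⁻¹} : Set H)).equivMapOfInjective H.subtype
      H.subtype_injective).injective)
  have hqb : ⁅⁅V, Subgroup.zpowers b⁆, Subgroup.zpowers b⁆ = ⊥ := by
    have hgV : V.map (MulAut.conj (g : G)).toMonoidHom = V := by
      ext z
      rw [Subgroup.mem_map_equiv, MulAut.conj_symm_apply]
      have := Subgroup.mem_normalizer_iff.1 ((Subgroup.normalizer _).inv_mem (hHV g.2)) z
      rw [inv_inv] at this
      exact this.symm
    have := congrArg (Subgroup.map (MulAut.conj (g : G)).toMonoidHom) hq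
    rw [Subgroup.map_commutator, Subgroup.map_commutator, Subgroup.map_bot, hgV,
      MonoidHom.map_zpowers] at this
    exact this
  set a' : H₀ := ⟨a, Subgroup.subset_closure (Set.mem_insert _ _)⟩
  set b' : H₀ := ⟨b, Subgroup.subset_closure (Set.mem_insert_of_mem _ rfl)⟩
  obtain ⟨μ, φ, hμ, hφa, hφb, -⟩ := CfsgLib.QuadPair.exists_hom_closure V H₀ hV (hle.trans hHV)
    hf₀ hH₀ hq hqb (a' := a') (b' := b') rfl rfl ⊤ (fun h => hnp₀ (h.of_equiv Subgroup.topEquiv))
  set X := φ.range with hX
  have : Finite X := Finite.of_surjective _ φ.rangeRestrict_surjective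
  have hsX : Cfsg.IsPSolvable p X :=
    CfsgLib.PCore.isPSolvable_of_surjective φ.rangeRestrict φ.rangeRestrict_surjective
      (CfsgLib.PCore.isPSolvable_of_injective (Subgroup.inclusion hle)
        (Subgroup.inclusion_injective hle) hsep)
  set α : X := φ.rangeRestrict a' with hα
  set β : X := φ.rangeRestrict b' with hβ
  have hαv : (α : Matrix.SpecialLinearGroup (Fin 2) (AlgebraicClosure (ZMod p))) =
      CfsgLib.SL2Unipotent.up μ := hφa
  have hβv : (β : Matrix.SpecialLinearGroup (Fin 2) (AlgebraicClosure (ZMod p))) =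
      CfsgLib.SL2Unipotent.low 1 := hφb
  -- a normal subgroup of `X` has no element of order `p` commuting with its conjugates
  have hcore : ∀ y : X, y ^ p = 1 → Commute y (α * y * α⁻¹) → Commute y (β * y * β⁻¹) → y = 1 := by
    intro y hy h1 h2
    refine Subtype.ext (CfsgLib.SL2Apps.eq_one_of_commute_conj (p := p) hp hμ
      (congrArg Subtype.val hy) ?_ ?_)
    · rw [← hαv]; exact h1.map X.subtype
    · rw [← hβv]; exact h2.map X.subtype
  have hpc : Cfsg.pCore p X = ⊥ := by
    by_contra hne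
    have := (Subgroup.nontrivial_iff_ne_bot _).2 hne
    have := (CfsgLib.PCore.pCore_isPGroup (p := p) (G := X)).center_nontrivial
    have hZp : IsPGroup p (Subgroup.center (Cfsg.pCore p X)) :=
      CfsgLib.PCore.pCore_isPGroup.to_subgroup _
    obtain ⟨n, hn⟩ := IsPGroup.iff_card.1 hZp
    have hdvd : p ∣ Nat.card (Subgroup.center (Cfsg.pCore p X)) := by
      rw [hn]
      refine dvd_pow_self p fun h0 => ?_
      have := Finite.one_lt_card (α := Subgroup.center (Cfsg.pCore p X))
      rw [hn, h0] at this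
      simp at this
    obtain ⟨z, hz⟩ := exists_prime_orderOf_dvd_card' p hdvd
    have hzc : ∀ w : Cfsg.pCore p X, Commute ((z : Cfsg.pCore p X) : X) w := fun w =>
      (congrArg Subtype.val (Subgroup.mem_center_iff.1 z.2 w)).symm
    have hn' : (Cfsg.pCore p X).Normal := inferInstance
    have := hcore ((z : Cfsg.pCore p X) : X) (by
        have := pow_orderOf_eq_one z
        rw [hz] at this
        exact congrArg Subtype.val (congrArg Subtype.val this))
      (hzc ⟨_, hn'.conj_mem _ z.1.2 α⟩) (hzc ⟨_, hn'.conj_mem _ z.1.2 β⟩)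
    rw [show z = 1 from Subtype.ext (Subtype.ext this), orderOf_one] at hz
    exact (Fact.out : p.Prime).one_lt.ne hz
  have hnc : ∃ q ∈ Cfsg.pPrimeCore p X, ¬ Commute α q := by
    by_contra! hc
    -- every element of the core is then central in `SL₂`
    have hM : ∀ q ∈ Cfsg.pPrimeCore p X, ∀ y : X, Commute q y := by
      intro q hq y
      by_cases h1 : (q : Matrix.SpecialLinearGroup (Fin 2) (AlgebraicClosure (ZMod p))) = 1
      · rw [show q = 1 from Subtype.ext h1]; exact Commute.one_left y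
      by_cases h2 : (q : Matrix.SpecialLinearGroup (Fin 2) (AlgebraicClosure (ZMod p))) = -1
      · refine Subtype.ext ?_
        show (q : Matrix.SpecialLinearGroup (Fin 2) (AlgebraicClosure (ZMod p))) * _ = _ * _
        rw [h2]; exact (Commute.neg_one_left _).eq
      exfalso
      have hqn : (q : Matrix.SpecialLinearGroup (Fin 2) (AlgebraicClosure (ZMod p))) ^
          Nat.card (Cfsg.pPrimeCore p X) = 1 :=
        congrArg Subtype.val (congrArg Subtype.val
          (pow_card_eq_one' (x := (⟨q, hq⟩ : Cfsg.pPrimeCore p X))))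
      have h4 := CfsgLib.SL2Unipotent.tr_sq_ne_four_of_coprime (p := p) hp hqn
        CfsgLib.PCore.pPrimeCore_coprime h1 h2
      refine CfsgLib.SL2Unipotent.up_ne_one hμ (CfsgLib.SL2Unipotent.eq_one_of_commute (p := p) hp
        (CfsgLib.SL2Unipotent.nonScalar_of_ne h1 h2) h4 (CfsgLib.SL2Unipotent.up_pow_char μ) ?_)
      rw [← hαv]; exact ((hc q hq).symm).map X.subtype
    set M := Cfsg.pPrimeCore p X with hMdef
    have : Nontrivial (X ⧸ M) := by
      rw [QuotientGroup.nontrivial_iff]
      intro htop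
      refine CfsgLib.SL2Apps.not_isPGroup_of_up_low (p := p) hμ
        (⊥ : Subgroup _) ?_ ?_ IsPGroup.of_bot <;> rw [Subgroup.mem_bot]
      · rw [← hαv]
        exact congrArg Subtype.val (hcore α (Subtype.ext (by push_cast; rw [hαv]; exact CfsgLib.SL2Unipotent.up_pow_char μ))
          (hM α (htop ▸ Subgroup.mem_top α) _) (hM α (htop ▸ Subgroup.mem_top α) _))
      · rw [← hβv]
        exact congrArg Subtype.val (hcore β (Subtype.ext (by push_cast; rw [hβv]; exact CfsgLib.SL2Unipotent.low_pow_char 1))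
          (hM β (htop ▸ Subgroup.mem_top β) _) (hM β (htop ▸ Subgroup.mem_top β) _))
    have hbar := CfsgLib.PCore.pCore_ne_bot (CfsgLib.PCore.isPSolvable_quotient hsX M)
      CfsgLib.PCore.pPrimeCore_quotient_pPrimeCore
    have := (Subgroup.nontrivial_iff_ne_bot _).2 hbar
    obtain ⟨n, hn⟩ := IsPGroup.iff_card.1 (CfsgLib.PCore.pCore_isPGroup (p := p) (G := X ⧸ M))
    have hdvd : p ∣ Nat.card (Cfsg.pPrimePCore p X) := by
      refine dvd_trans ?_ (Subgroup.card_map_dvd _ (QuotientGroup.mk' M))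
      rw [CfsgLib.PCore.map_pPrimePCore, hn]
      refine dvd_pow_self p fun h0 => ?_
      have := Finite.one_lt_card (α := Cfsg.pCore p (X ⧸ M))
      rw [hn, h0] at this
      simp at this
    obtain ⟨⟨y, hy⟩, hyo⟩ := exists_prime_orderOf_dvd_card' p hdvd
    -- `y` lies in the normal `p`-core of the preimage
    set W := Cfsg.pPrimePCore p X with hW
    have hMW : M ≤ W := CfsgLib.PCore.pPrimeCore_le_pPrimePCore
    obtain ⟨P⟩ : Nonempty (Sylow p W) := inferInstance
    have hPn : (P : Subgroup W).Normal := by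
      have hsup : ((P : Subgroup W) ⊔ M.subgroupOf W) = ⊤ := by
        refine Subgroup.eq_top_of_card_eq _ ?_
        refine Nat.dvd_antisymm (Subgroup.card_subgroup_dvd_card _) ?_
        obtain ⟨k, hk⟩ := IsPGroup.iff_card.1 (CfsgLib.PCore.pCore_isPGroup (p := p) (G := X ⧸ M))
        have hcard : Nat.card W = Nat.card M * p ^ k := by
          rw [← hk, hW, Cfsg.pPrimePCore]
          exact CfsgLib.PCore.card_comap_mk' M _
        have h1 : Nat.card M ∣ Nat.card ↥((P : Subgroup W) ⊔ M.subgroupOf W) := by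
          rw [← Nat.card_congr (Subgroup.subgroupOfEquivOfLe hMW).toEquiv]
          exact Subgroup.card_dvd_of_le le_sup_right
        have h2 : p ^ k ∣ Nat.card ↥((P : Subgroup W) ⊔ M.subgroupOf W) :=
          (P.pow_dvd_card_of_pow_dvd_card ⟨Nat.card M, by rw [hcard, mul_comm]⟩).trans
            (Subgroup.card_dvd_of_le le_sup_left)
        rw [hcard]
        exact Nat.Coprime.mul_dvd_of_dvd_of_dvd
          (CfsgLib.PCore.pPrimeCore_coprime.pow_right k) h1 h2
      rw [← Subgroup.normalizer_eq_top_iff, ← top_le_iff, ← hsup, sup_le_iff]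
      refine ⟨Subgroup.le_normalizer, fun m hm => Subgroup.mem_normalizer_iff.2 fun w => ?_⟩
      have hcm : Commute m w := Subtype.ext (hM m hm w).eq
      rw [hcm.eq, mul_inv_cancel_right]
    have hWn : W.Normal := inferInstance
    have hchar := P.characteristic_of_normal hPn
    have hPX : ((P : Subgroup W).map W.subtype).Normal := inferInstance
    have hle' := CfsgLib.PCore.le_pCore hPX (P.isPGroup'.map _)
    rw [hpc, le_bot_iff, Subgroup.map_eq_bot_iff_of_injective _ W.subtype_injective] at hle'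
    have hnd := P.not_dvd_index
    rw [hle', Subgroup.index_bot] at hnd
    exact hnd hdvd
  obtain ⟨q, hq, hqc⟩ := hnc
  have hfin : Finite ((Cfsg.pPrimeCore p X).map X.subtype) :=
    Finite.of_surjective _ (X.subtype.subgroupMap_surjective _)
  have hcop : (Nat.card ((Cfsg.pPrimeCore p X).map X.subtype)).Coprime p := by
    rw [Subgroup.card_subtype]; exact CfsgLib.PCore.pPrimeCore_coprime
  have hnorm : CfsgLib.SL2Unipotent.up μ ∈
      Subgroup.normalizer (((Cfsg.pPrimeCore p X).map X.subtype : Subgroup _) : Set _) := by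
    refine hαv ▸ Subgroup.le_normalizer_map X.subtype ⟨α, ?_, rfl⟩
    rw [Subgroup.normalizer_eq_top]; trivial
  obtain ⟨h3, ψ, hψ, hr⟩ := CfsgLib.SL2Unipotent.exists_sl2_three hp hμ _ hcop hnorm
    ⟨_, ⟨q, hq, rfl⟩, fun h => hqc (Subtype.ext (by
      show (α : Matrix.SpecialLinearGroup (Fin 2) (AlgebraicClosure (ZMod p))) * _ = _ * _
      rw [hαv]; exact h.eq))⟩
  obtain ⟨K, L, hL, hK, hiso⟩ := CfsgLib.SL2Apps.exists_section H₀ φ ψ hψ
    (hr.trans (sup_le (Subgroup.map_subtype_le _) (Subgroup.zpowers_le.2 ⟨a', hφa⟩)))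
  exact ⟨h3, K, L, hL, hK.trans hle, hiso⟩

end Cfsg.Agent.S0596
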