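import Cfsg.Statements.S0597
import Cfsg.Agent.Lib.PLocal5.Quadratic
import Cfsg.Agent.Lib.Structure.MinimalNormal

set_option autoImplicit false
open Cfsg
open scoped commutatorElement

namespace Cfsg.Agent.S0597

/-- If two subnormal subgroups of a faithful group on an elementary abelian p-group satisfy [V, E₁, E₂] = 1, then their commutator lies in the largest normal p-subgroup. -/
theorem result {G : Type*} [Group G] [Finite G] {p : ℕ} [Fact p.Prime] (V H : Subgroup G) (hV : Cfsg.IsElementaryAbelian p V) (hHV : H ≤ Subgroup.normalizer (V : Set G)) (hf : H ⊓ Subgroup.centralizer (V : Set G) = ⊥) (E₁ E₂ : Subgroup G) (h₁ : E₁ ≤ H) (h₂ : E₂ ≤ H) (hs₁ : (E₁.subgroupOf H).IsSubnormal) (hs₂ : (E₂.subgroupOf H).IsSubnormal) (hc : ⁅⁅V, E₁⁆, E₂⁆ = ⊥) : ⁅E₁, E₂⁆ ≤ (Cfsg.pCore p H).map H.subtype := by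
  classical
  set U := ⁅V, E₁⁆ with hU
  set E := E₁ ⊔ E₂ with hE
  have hEH : E ≤ H := sup_le h₁ h₂
  have hE2U : E₂ ≤ Subgroup.centralizer (U : Set G) := fun a ha =>
    CfsgLib.Quadratic.mem_centralizer_of_commutator_eq_bot hc ha
  have hEU : E ≤ Subgroup.normalizer (U : Set G) := by
    refine sup_le ?_ (hE2U.trans (Subgroup.centralizer_le_normalizer _))
    intro e he
    have key : ∀ f ∈ E₁, U.map (MulAut.conj f).toMonoidHom ≤ U := by
      intro f hf'
      rw [hU, Subgroup.map_commutator]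
      refine Subgroup.commutator_mono ?_ ?_
      · rintro _ ⟨v, hv, rfl⟩
        exact (Subgroup.mem_normalizer_iff.1 (hHV (h₁ hf')) v).1 hv
      · rintro _ ⟨v, hv, rfl⟩
        exact E₁.mul_mem (E₁.mul_mem hf' hv) (E₁.inv_mem hf')
    rw [Subgroup.mem_normalizer_iff]
    intro u
    refine ⟨fun hu => key e he ⟨u, hu, rfl⟩, fun hu => ?_⟩
    have h := key e⁻¹ (E₁.inv_mem he) ⟨_, hu, rfl⟩
    simpa [mul_assoc] using h
  let K₁ : Subgroup G :=
    { carrier := {g | g ∈ E ∧ ∀ v ∈ V, ⁅v, g⁆ ∈ U}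
      one_mem' := ⟨E.one_mem, fun v _ => by rw [commutatorElement_one_right]; exact U.one_mem⟩
      mul_mem' := by
        rintro g h ⟨hg, hg'⟩ ⟨hh, hh'⟩
        refine ⟨E.mul_mem hg hh, fun v hv => ?_⟩
        rw [show ⁅v, g * h⁆ = ⁅v, g⁆ * (g * ⁅v, h⁆ * g⁻¹) by simp [commutatorElement_def, mul_assoc]]
        exact U.mul_mem (hg' v hv) ((Subgroup.mem_normalizer_iff.1 (hEU hg) _).1 (hh' v hv))
      inv_mem' := by
        rintro g ⟨hg, hg'⟩
        refine ⟨E.inv_mem hg, fun v hv => ?_⟩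
        rw [show ⁅v, g⁻¹⁆ = g⁻¹ * ⁅v, g⁆⁻¹ * g⁻¹⁻¹ by simp [commutatorElement_def, mul_assoc]]
        exact (Subgroup.mem_normalizer_iff.1 (hEU (E.inv_mem hg)) _).1 (U.inv_mem (hg' v hv)) }
  have hK₁n : E ≤ Subgroup.normalizer (K₁ : Set G) := by
    have key : ∀ e ∈ E, ∀ g ∈ K₁, e * g * e⁻¹ ∈ K₁ := by
      rintro e he g ⟨hg, hg'⟩
      refine ⟨E.mul_mem (E.mul_mem he hg) (E.inv_mem he), fun v hv => ?_⟩
      have hw : e⁻¹ * v * e ∈ V := by
        rw [Subgroup.mem_normalizer_iff.1 (hHV (hEH he))]; simpa [mul_assoc] using hv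
      rw [show ⁅v, e * g * e⁻¹⁆ = e * ⁅e⁻¹ * v * e, g⁆ * e⁻¹ by simp [commutatorElement_def, mul_assoc]]
      exact (Subgroup.mem_normalizer_iff.1 (hEU he) _).1 (hg' _ hw)
    intro e he
    rw [Subgroup.mem_normalizer_iff]
    refine fun g => ⟨key e he g, fun h => ?_⟩
    simpa [mul_assoc] using key e⁻¹ (E.inv_mem he) _ h
  set K₂ := E ⊓ Subgroup.centralizer (U : Set G) with hK₂
  have hK₂n : ∀ e ∈ E, ∀ g ∈ K₂, e * g * e⁻¹ ∈ K₂ := fun e he g hg =>
    ⟨E.mul_mem (E.mul_mem he hg.1) (E.inv_mem he),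
      CfsgLib.Quadratic.conj_mem_centralizer (hEU he) hg.2⟩
  have hE1K : E₁ ≤ K₁ := fun e he =>
    ⟨(le_sup_left : E₁ ≤ E) he, fun v hv => Subgroup.commutator_mem_commutator hv he⟩
  set D := K₁ ⊓ K₂ with hD
  have hDle : ⁅E₁, E₂⁆ ≤ D := by
    rw [Subgroup.commutator_le]
    intro a ha b hb
    have haE : a ∈ E := Subgroup.mem_sup_left ha
    have hbE : b ∈ E := Subgroup.mem_sup_right hb
    refine ⟨?_, ?_⟩
    · rw [commutatorElement_def, mul_assoc, mul_assoc]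
      refine K₁.mul_mem (hE1K ha) ?_
      rw [← mul_assoc]
      exact (Subgroup.mem_normalizer_iff.1 (hK₁n hbE) _).1 (K₁.inv_mem (hE1K ha))
    · rw [commutatorElement_def]
      exact K₂.mul_mem (hK₂n a haE b ⟨hbE, hE2U hb⟩) (K₂.inv_mem ⟨hbE, hE2U hb⟩)
  have hDE : D ≤ E := fun x hx => hx.2.1
  have hDn : (D.subgroupOf E).Normal := ⟨fun x hx e =>
    ⟨(Subgroup.mem_normalizer_iff.1 (hK₁n e.2) _).1 hx.1, hK₂n e e.2 _ hx.2⟩⟩
  have hDsn : (D.subgroupOf H).IsSubnormal := by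
    refine Subgroup.IsSubnormal.trans (K := E.subgroupOf H) (Subgroup.comap_mono hDE) ?_ ?_
    · have : ((D.subgroupOf H).subgroupOf (E.subgroupOf H)) =
          (D.subgroupOf E).comap (Subgroup.subgroupOfEquivOfLe hEH).toMonoidHom := rfl
      rw [this]
      exact (hDn.comap _).isSubnormal
    · rw [hE, Subgroup.subgroupOf_sup h₁ h₂]
      exact CfsgLib.Structure.isSubnormal_sup hs₁ hs₂
  have hDp : IsPGroup p D := by
    refine CfsgLib.Quadratic.isPGroup_of_stabilizes (U := U) hV ((hDE.trans hEH).trans hHV) ?_ ?_ ?_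
    · exact Subgroup.commutator_le.2 fun v hv d hd => hd.1.2 v hv
    · rw [Subgroup.commutator_comm, Subgroup.commutator_eq_bot_iff_le_centralizer]
      exact fun d hd => hd.2.2
    · rw [eq_bot_iff, ← hf]
      exact inf_le_inf_right _ (hDE.trans hEH)
  refine hDle.trans fun x hx => ⟨⟨x, hEH (hDE hx)⟩, ?_, rfl⟩
  exact CfsgLib.PCore.le_pCore_of_isSubnormal hDsn (hDp.comap_of_injective _ H.subtype_injective) hx

end Cfsg.Agent.S0597
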