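import Cfsg.Statements.S0602
import Cfsg.Agent.Lib.PLocal.Thompson

set_option autoImplicit false
open Cfsg

namespace Cfsg.Agent.S0602

/-- The Thompson subgroup is characteristic, and nontrivial as soon as p divides the group order. -/
theorem result {G : Type*} [Group G] [Finite G] {p : ℕ} [Fact p.Prime] : (Cfsg.thompsonSubgroup p G).Characteristic ∧ (p ∣ Nat.card G → Cfsg.thompsonSubgroup p G ≠ ⊥) := by
  refine ⟨Subgroup.characteristic_iff_map_eq.2 fun e => ?_, fun hd => ?_⟩
  · rw [CfsgLib.PLocal.thompsonSubgroup_eq, ← CfsgLib.PLocal.thompson_map e.injective,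
      Subgroup.map_top_of_surjective _ e.surjective]
  · obtain ⟨x, hx⟩ := exists_prime_orderOf_dvd_card' p hd
    obtain ⟨A, hA⟩ := CfsgLib.PLocal.exists_isMaxElemIn p (⊤ : Subgroup G)
    have h1 : Cfsg.IsElementaryAbelian p (Subgroup.zpowers x) := by
      rw [Subgroup.zpowers_eq_closure]
      refine CfsgLib.PLocal.elemAb_closure (by simp) fun a ha => ?_
      rw [Set.mem_singleton_iff] at ha
      rw [ha, ← hx, pow_orderOf_eq_one]
    have h2 := hA.2.2 _ le_top h1
    rw [Nat.card_zpowers, hx] at h2
    intro he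
    have hle := hA.le_thompson
    rw [← CfsgLib.PLocal.thompsonSubgroup_eq, he, le_bot_iff] at hle
    rw [hle, Subgroup.card_bot] at h2
    exact absurd h2 (not_le.2 (Fact.out : p.Prime).one_lt)

end Cfsg.Agent.S0602
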