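import Cfsg.Statements.S0604
import Cfsg.Agent.Lib.PLocal.Thompson

set_option autoImplicit false
open Cfsg

namespace Cfsg.Agent.S0604

/-- The Thompson subgroup of G is the join of the Thompson subgroups of its Sylow p-subgroups. -/
theorem result {G : Type*} [Group G] [Finite G] {p : ℕ} [Fact p.Prime] : Cfsg.thompsonSubgroup p G = ⨆ S : Sylow p G, Cfsg.thompsonSubgroupOf p (S : Subgroup G) := by
  classical
  simp only [CfsgLib.PLocal.thompsonSubgroupOf_eq, CfsgLib.PLocal.thompsonSubgroup_eq]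
  refine le_antisymm (CfsgLib.PLocal.thompson_le_iff.2 fun A hA => ?_) (iSup_le fun S => ?_)
  · obtain ⟨S, hS⟩ := (CfsgLib.PLocal.elemAb_isPGroup hA.elem).exists_le_sylow
    refine le_trans ?_ (le_iSup (fun S : Sylow p G => CfsgLib.PLocal.thompson p (S : Subgroup G)) S)
    exact CfsgLib.PLocal.IsMaxElemIn.le_thompson ⟨hS, hA.elem, fun B _ hB => hA.2.2 B le_top hB⟩
  · refine CfsgLib.PLocal.thompson_le_iff.2 fun A hA => ?_
    obtain ⟨A₀, hA₀⟩ := CfsgLib.PLocal.exists_isMaxElemIn p (⊤ : Subgroup G)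
    obtain ⟨T, hT⟩ := (CfsgLib.PLocal.elemAb_isPGroup hA₀.elem).exists_le_sylow
    obtain ⟨g, hg⟩ := MulAction.exists_smul_eq G T S
    have hle : A₀.map (MulAut.conj g).toMonoidHom ≤ (S : Subgroup G) := by
      rw [← hg]
      exact Subgroup.map_mono hT
    have h := hA.2.2 _ hle (CfsgLib.PLocal.elemAb_map _ hA₀.elem)
    rw [Subgroup.card_map_of_injective (MulAut.conj g).injective] at h
    exact (hA₀.of_card_le le_top hA.elem h).le_thompson

end Cfsg.Agent.S0604
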