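import Cfsg.Statements.S0608
import Cfsg.Agent.Lib.PLocal5.SylowFixed
import Cfsg.Agent.Lib.Techniques.Basic
import Cfsg.Agent.S0603
import Cfsg.Agent.S0604

set_option autoImplicit false
open Cfsg

namespace Cfsg.Agent.S0608

/-- With trivial p'-core, Thompson factorizability is equivalent to J(G) centralizing the subgroup generated by all Ω₁(Z(S)), S Sylow. -/
theorem result {G : Type*} [Group G] [Finite G] {p : ℕ} [Fact p.Prime] (hO : Cfsg.pPrimeCore p G = ⊥) : Cfsg.IsThompsonFactorizable p G ↔ Cfsg.thompsonSubgroup p G ≤ Subgroup.centralizer ((⨆ S : Sylow p G, Cfsg.omegaOne p (((S : Subgroup G)) ⊓ Subgroup.centralizer ((S : Subgroup G) : Set G)) : Subgroup G) : Set G) := by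
  have hJ : Cfsg.thompsonSubgroup p G = ⨆ S : Sylow p G, Cfsg.thompsonSubgroupOf p (S : Subgroup G) :=
    Cfsg.Agent.S0604.result
  set W := CfsgLib.SylowFixed.sylowCenterClosure p G with hW
  have hWeq : (⨆ S : Sylow p G, Cfsg.omegaOne p (((S : Subgroup G)) ⊓ Subgroup.centralizer ((S : Subgroup G) : Set G)) : Subgroup G) = W := rfl
  rw [hWeq]
  constructor
  · intro hTF
    rw [hJ]
    refine iSup_le fun T d hd => CfsgLib.SylowFixed.centralizes_iSup fun S => ?_
    obtain ⟨g, rfl⟩ := MulAction.exists_smul_eq G S T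
    obtain ⟨x, hx, c, hc, n, hn, rfl⟩ := hTF S g
    rw [hO, Subgroup.mem_bot] at hx
    subst hx
    rw [one_mul] at hd
    have hd' : d ∈ (Cfsg.thompsonSubgroupOf p (S : Subgroup G)).map (MulAut.conj c).toMonoidHom := by
      have e : Cfsg.thompsonSubgroupOf p (((c * n) • S : Sylow p G) : Subgroup G) =
          (Cfsg.thompsonSubgroupOf p (S : Subgroup G)).map (MulAut.conj (c * n) : G →* G) := by
        rw [CfsgLib.PLocal.thompsonSubgroupOf_eq, CfsgLib.PLocal.thompsonSubgroupOf_eq,
          ← CfsgLib.PLocal.thompson_conj, Sylow.coe_subgroup_smul]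
        rfl
      rw [e] at hd
      obtain ⟨j, hj, rfl⟩ := hd
      refine ⟨n * j * n⁻¹, (Subgroup.mem_normalizer_iff.1 hn j).1 hj, ?_⟩
      simp [mul_assoc]
    obtain ⟨j, hj, rfl⟩ := hd'
    have hjS : j ∈ (S : Subgroup G) := by
      rw [CfsgLib.PLocal.thompsonSubgroupOf_eq] at hj
      exact CfsgLib.PLocal.thompson_le p _ hj
    rw [Subgroup.mem_centralizer_iff]
    intro w hw
    have h1 : Commute j w := Subgroup.mem_centralizer_iff.1
      ((CfsgLib.SylowFixed.omega_le_centralizer S hw).2) j hjS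
    have h2 : Commute c w := (Subgroup.mem_centralizer_iff.1 hc w hw).symm
    exact (((h2.mul_left h1).mul_left h2.inv_left)).symm.eq
  · intro hle S g
    set D := Subgroup.centralizer (W : Set G) with hD
    have hfr : D ⊔ Subgroup.normalizer (((S : Subgroup G) ⊓ D : Subgroup G) : Set G) = ⊤ :=
      CfsgLib.Techniques.sup_normalizer_inf_eq_top S D
    have hg : g ∈ D ⊔ Subgroup.normalizer (((S : Subgroup G) ⊓ D : Subgroup G) : Set G) :=
      hfr ▸ Subgroup.mem_top g
    rw [← SetLike.mem_coe, Subgroup.normal_mul] at hg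
    obtain ⟨c, hc, n, hn, rfl⟩ := hg
    refine ⟨1, one_mem _, c, Subgroup.centralizer_le (le_iSup (fun S : Sylow p G => Cfsg.omegaOne p
      ((S : Subgroup G) ⊓ Subgroup.centralizer ((S : Subgroup G) : Set G))) S) hc, n, ?_,
      by rw [one_mul]⟩
    have hJS : CfsgLib.PLocal.thompson p (S : Subgroup G) ≤ (S : Subgroup G) ⊓ D := by
      refine le_inf (CfsgLib.PLocal.thompson_le p _) (le_trans ?_ hle)
      rw [hJ, ← CfsgLib.PLocal.thompsonSubgroupOf_eq]
      exact le_iSup (fun S : Sylow p G => Cfsg.thompsonSubgroupOf p (S : Subgroup G)) S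
    rw [CfsgLib.PLocal.thompsonSubgroupOf_eq, ← CfsgLib.PLocal.thompson_eq_of_le inf_le_left hJS]
    exact CfsgLib.PLocal.normalizer_le_normalizer_thompson p _ hn

end Cfsg.Agent.S0608
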