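import Cfsg.Statements.S0609
import Cfsg.Agent.Lib.PLocal.Constraint
import Cfsg.Agent.Lib.PLocal.PStableQuot
import Cfsg.Agent.Lib.PLocal.Thompson
import Cfsg.Agent.Lib.OddOrder.CenterJNormal

set_option autoImplicit false
open Cfsg

namespace Cfsg.Agent.S0609

theorem omega_center_map {G H : Type*} [Group G] [Group H] {p : ℕ} (f : G →* H) (P : Subgroup G)
    (hf : Function.Injective (f.comp P.subtype)) :
    Cfsg.omegaOne p (P.map f ⊓ Subgroup.centralizer ((P.map f : Subgroup H) : Set H)) =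
      (Cfsg.omegaOne p (P ⊓ Subgroup.centralizer (P : Set G))).map f := by
  unfold Cfsg.omegaOne
  rw [MonoidHom.map_closure]
  congr 1
  have hinj : ∀ a ∈ P, ∀ b ∈ P, f a = f b → a = b := fun a ha b hb e =>
    congrArg Subtype.val (hf (a₁ := ⟨a, ha⟩) (a₂ := ⟨b, hb⟩) e)
  ext y
  constructor
  · rintro ⟨⟨⟨x, hx, rfl⟩, hy⟩, hyp⟩
    refine ⟨x, ⟨⟨hx, Subgroup.mem_centralizer_iff.2 fun z hz => ?_⟩, ?_⟩, rfl⟩
    · exact hinj _ (P.mul_mem hz hx) _ (P.mul_mem hx hz)
        (by simpa using Subgroup.mem_centralizer_iff.1 hy (f z) ⟨z, hz, rfl⟩)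
    · exact hinj _ (P.pow_mem hx p) 1 P.one_mem (by rw [map_pow, hyp, map_one])
  · rintro ⟨x, ⟨⟨hx, hc⟩, hxp⟩, rfl⟩
    refine ⟨⟨⟨x, hx, rfl⟩, Subgroup.mem_centralizer_iff.2 ?_⟩, by rw [← map_pow, hxp, map_one]⟩
    rintro _ ⟨z, hz, rfl⟩
    rw [← map_mul, ← map_mul, Subgroup.mem_centralizer_iff.1 hc z hz]

/-- Thompson factorizability passes to and from the quotient by the largest normal subgroup of order prime to p. -/
theorem result {G : Type*} [Group G] [Finite G] {p : ℕ} [Fact p.Prime] : Cfsg.IsThompsonFactorizable p G ↔ Cfsg.IsThompsonFactorizable p (G ⧸ Cfsg.pPrimeCore p G) := by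
  set N := Cfsg.pPrimeCore p G with hNdef
  set q := QuotientGroup.mk' N with hq
  have hqs : Function.Surjective q := QuotientGroup.mk'_surjective N
  have hN : (Nat.card N).Coprime p := CfsgLib.PCore.pPrimeCore_coprime
  have hN' : Cfsg.pPrimeCore p (G ⧸ N) = ⊥ := CfsgLib.PCore.pPrimeCore_quotient_pPrimeCore
  have key : ∀ S : Sylow p G,
      Cfsg.omegaOne p (((S.mapSurjective hqs : Sylow p _) : Subgroup (G ⧸ N)) ⊓
          Subgroup.centralizer (((S.mapSurjective hqs : Sylow p _) : Subgroup (G ⧸ N)) : Set (G ⧸ N))) =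
        (Cfsg.omegaOne p ((S : Subgroup G) ⊓ Subgroup.centralizer ((S : Subgroup G) : Set G))).map q ∧
      Cfsg.thompsonSubgroupOf p ((S.mapSurjective hqs : Sylow p _) : Subgroup (G ⧸ N)) =
        (Cfsg.thompsonSubgroupOf p (S : Subgroup G)).map q := by
    intro S
    have hinj : Function.Injective (q.comp (S : Subgroup G).subtype) := by
      rw [injective_iff_map_eq_one]
      intro x hx
      exact Subtype.ext (CfsgLib.PLocal.eq_one_of_mem_pGroup_of_mem_coprime S.isPGroup' hN x.2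
        ((QuotientGroup.eq_one_iff (x : G)).mp hx))
    rw [Sylow.coe_mapSurjective]
    refine ⟨omega_center_map q _ hinj, ?_⟩
    rw [CfsgLib.PLocal.thompsonSubgroupOf_eq, CfsgLib.PLocal.thompsonSubgroupOf_eq]
    have h1 := CfsgLib.PLocal.thompson_map (e := p) (S : Subgroup G).subtype_injective ⊤
    have h2 := CfsgLib.PLocal.thompson_map (e := p) hinj ⊤
    rw [CfsgLib.PLocal.map_subtype_top] at h1
    rw [← Subgroup.map_map, CfsgLib.PLocal.map_subtype_top, ← Subgroup.map_map, ← h1] at h2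
    exact h2
  constructor
  · intro h T y
    obtain ⟨S, rfl⟩ := Sylow.mapSurjective_surjective hqs p T
    obtain ⟨g, rfl⟩ := hqs y
    obtain ⟨x, hx, c, hc, n, hn, rfl⟩ := h S g
    refine ⟨1, one_mem _, q c, ?_, q n, ?_, ?_⟩
    · rw [(key S).1, Subgroup.mem_centralizer_iff]
      rintro _ ⟨w, hw, rfl⟩
      rw [← map_mul, ← map_mul, Subgroup.mem_centralizer_iff.1 hc w hw]
    · rw [(key S).2]
      exact Subgroup.le_normalizer_map q ⟨n, hn, rfl⟩
    · rw [one_mul, map_mul, map_mul, show q x = 1 from (QuotientGroup.eq_one_iff x).2 hx, one_mul]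
  · intro h S g
    obtain ⟨x, hx, c, hc, n, hn, he⟩ := h (S.mapSurjective hqs) (q g)
    rw [hN', Subgroup.mem_bot] at hx
    subst hx
    rw [one_mul] at he
    rw [(key S).1] at hc
    rw [(key S).2] at hn
    obtain ⟨c₀, rfl⟩ := hqs c
    obtain ⟨n₀, rfl⟩ := hqs n
    obtain ⟨m, hm, hmc⟩ := CfsgLib.PLocal.exists_mul_mem_centralizer hN
      (S.isPGroup'.to_le ((CfsgLib.PLocal.omegaOne_le p _).trans inf_le_left)) hc
    obtain ⟨m', hm', hmn⟩ := CfsgLib.PLocal.exists_mul_mem_normalizer hN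
      (P := Cfsg.thompsonSubgroupOf p (S : Subgroup G))
      (S.isPGroup'.to_le (by rw [CfsgLib.PLocal.thompsonSubgroupOf_eq]; exact CfsgLib.PLocal.thompson_le p _))
      (x := n₀) (fun y hy => by
        rw [map_mul, map_mul, map_inv]
        exact (Subgroup.mem_normalizer_iff.1 hn _).1 ⟨y, hy, rfl⟩)
    refine ⟨g * (m' * n₀)⁻¹ * (m * c₀)⁻¹, ?_, m * c₀, hmc, m' * n₀, hmn, by group⟩
    rw [← hNdef, ← QuotientGroup.eq_one_iff]
    show q (g * (m' * n₀)⁻¹ * (m * c₀)⁻¹) = 1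
    rw [map_mul, map_mul, map_inv, map_inv, map_mul, map_mul,
      show q m = 1 from (QuotientGroup.eq_one_iff m).2 hm,
      show q m' = 1 from (QuotientGroup.eq_one_iff m').2 hm', he]
    group

end Cfsg.Agent.S0609
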