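import Cfsg.Statements.S0618
import Cfsg.Agent.Lib.PLocal.FFOperators

set_option autoImplicit false
open Cfsg

namespace Cfsg.Agent.S0618

/-- A p-separable group with trivial p'-core in which the Thompson factorization fails has p = 2 or 3, and J(G) induces on the normal closure of Ω₁(Z(S)) a group containing a normal SL(2, p). -/
theorem result {G : Type*} [Group G] [Finite G] {p : ℕ} [Fact p.Prime] (hsep : Cfsg.IsPSolvable p G) (hO : Cfsg.pPrimeCore p G = ⊥) (hnf : ¬ Cfsg.IsThompsonFactorizable p G) : (p = 2 ∨ p = 3) ∧ ∃ E : Subgroup G, Subgroup.centralizer ((⨆ S : Sylow p G, Cfsg.omegaOne p ((S : Subgroup G) ⊓ Subgroup.centralizer ((S : Subgroup G) : Set G))) : Set G) ≤ E ∧ E ≤ Cfsg.thompsonSubgroup p G ⊔ Subgroup.centralizer ((⨆ S : Sylow p G, Cfsg.omegaOne p ((S : Subgroup G) ⊓ Subgroup.centralizer ((S : Subgroup G) : Set G))) : Set G) ∧ Cfsg.thompsonSubgroup p G ⊔ Subgroup.centralizer ((⨆ S : Sylow p G, Cfsg.omegaOne p ((S : Subgroup G) ⊓ Subgroup.centralizer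 ((S : Subgroup G) : Set G))) : Set G) ≤ Subgroup.normalizer (E : Set G) ∧ ∃ hn : ((Subgroup.centralizer ((⨆ S : Sylow p G, Cfsg.omegaOne p ((S : Subgroup G) ⊓ Subgroup.centralizer ((S : Subgroup G) : Set G))) : Set G)).subgroupOf E).Normal, Nonempty ((↥E ⧸ (Subgroup.centralizer ((⨆ S : Sylow p G, Cfsg.omegaOne p ((S : Subgroup G) ⊓ Subgroup.centralizer ((S : Subgroup G) : Set G))) : Set G)).subgroupOf E) ≃* Matrix.SpecialLinearGroup (Fin 2) (ZMod p)) := by
  have heq : Subgroup.centralizer (⨆ S : Sylow p G, (Cfsg.omegaOne p ((S : Subgroup G) ⊓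
      Subgroup.centralizer ((S : Subgroup G) : Set G)) : Set G)) =
      Subgroup.centralizer (CfsgLib.SylowFixed.sylowCenterClosure p G : Set G) := by
    rw [CfsgLib.SylowFixed.sylowCenterClosure, Subgroup.iSup_eq_closure,
      Subgroup.centralizer_closure, Set.iSup_eq_iUnion]
  obtain ⟨ι, hfin, hne, F, W, hS, hψ⟩ := CfsgLib.PLocal.exists_ff_system hsep hO hnf
  obtain ⟨i⟩ := hne
  obtain ⟨ψ, hsur, hker⟩ := hψ i
  refine ⟨hS.prime, F i, heq.le.trans (hS.C_le i), (hS.F_le i).trans (sup_le_sup_left heq.ge _),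
    (sup_le_sup_left heq.le _).trans (hS.le_normalizer_F i), ?_⟩
  have hk : ((Subgroup.centralizer (⨆ S : Sylow p G, (Cfsg.omegaOne p ((S : Subgroup G) ⊓
      Subgroup.centralizer ((S : Subgroup G) : Set G)) : Set G))).subgroupOf (F i)) = ψ.ker := by
    rw [heq, hker]
  haveI hn := Subgroup.Normal.map (f := MonoidHom.id (F i)) ψ.normal_ker Function.surjective_id
  rw [Subgroup.map_id, ← hk] at hn
  exact ⟨hn, ⟨(QuotientGroup.quotientMulEquivOfEq hk).trans
    (QuotientGroup.quotientKerEquivOfSurjective ψ hsur)⟩⟩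

end Cfsg.Agent.S0618
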