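import Cfsg.Statements.S0621
import Cfsg.Agent.Lib.PLocal.FFOperators

set_option autoImplicit false
open Cfsg

namespace Cfsg.Agent.S0621

/-- Let K be p-separable with O_p'(K) = 1, normalized by an elementary abelian q-group X for a prime q not dividing the order of K. If the Thompson factorization fails in K, then p is 2 or 3 and the fixed points of X contain a plane W of order p² and a subgroup inducing SL(2, p) on it. -/
theorem result {G : Type*} [Group G] [Finite G] {p : ℕ} [Fact p.Prime] {q : ℕ} [Fact q.Prime] (K X : Subgroup G) (hXK : X ≤ Subgroup.normalizer (K : Set G)) (hX : Cfsg.IsElementaryAbelian q X) (hq : ¬ q ∣ Nat.card K) (hsep : Cfsg.IsPSolvable p ↥K) (hO : Cfsg.pPrimeCore p ↥K = ⊥) (hnf : ¬ Cfsg.IsThompsonFactorizable p ↥K) : (p = 2 ∨ p = 3) ∧ ∃ W D : Subgroup G, W ≤ K ⊓ Subgroup.centralizer (X : Set G) ∧ D ≤ K ⊓ Subgroup.centralizer (X : Set G) ∧ Cfsg.IsElementaryAbelian p W ∧ Nat.card W = p ^ 2 ∧ D ≤ Subgroup.normalizer (W : Set G)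 ∧ ∃ hn : ((Subgroup.centralizer (W : Set G)).subgroupOf D).Normal, Nonempty ((↥D ⧸ (Subgroup.centralizer (W : Set G)).subgroupOf D) ≃* Matrix.SpecialLinearGroup (Fin 2) (ZMod p)) := by
  obtain ⟨ι, hfin, ⟨i⟩, F, W, hS, hS', hops, hψ⟩ :=
    CfsgLib.PLocal.exists_operators K X hXK hX hq hsep hO hnf
  obtain ⟨ψ, hsur, hker⟩ := hψ i
  obtain ⟨P, D, hP, hD, hcard, hDP, hiso⟩ :=
    CfsgLib.PLocal.exists_fixed_plane hS' hops i ψ hsur hker
  refine ⟨hS.prime, P, D,
    le_inf ((hP.trans inf_le_left).trans (Subgroup.map_subtype_le _)) (hP.trans inf_le_right),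
    le_inf ((hD.trans inf_le_left).trans (Subgroup.map_subtype_le _)) (hD.trans inf_le_right),
    CfsgLib.PLocal.elemAb_of_le hS'.elemAb (hP.trans inf_le_left), hcard, hDP, hiso⟩

end Cfsg.Agent.S0621
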