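import Cfsg.Statements.S0634
import Cfsg.Agent.Lib.PCore.PSolvable

set_option autoImplicit false
open Cfsg

namespace Cfsg.Agent.S0634

/-- In a p-soluble group each p-factor of the upper p-series contains its own centralizer in the corresponding quotient. -/
theorem result {G : Type*} [Group G] [Finite G] {p : ℕ} [Fact p.Prime] (hsol : Cfsg.IsPSolvable p G) (k : ℕ) : Subgroup.centralizer ((((Cfsg.upperPSeries p G (2 * k + 2)).1.map (QuotientGroup.mk' (Cfsg.upperPSeries p G (2 * k + 1)).1)) : Subgroup (G ⧸ (Cfsg.upperPSeries p G (2 * k + 1)).1)) : Set (G ⧸ (Cfsg.upperPSeries p G (2 * k + 1)).1)) ≤ (Cfsg.upperPSeries p G (2 * k + 2)).1.map (QuotientGroup.mk' (Cfsg.upperPSeries p G (2 * k + 1)).1) := by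
  have he : Even (2 * k) := even_two_mul k
  have ho : ¬ Even (2 * k + 1) := by simp [Nat.even_add_one, he]
  have hM : (Cfsg.pPrimeCore p (G ⧸ (Cfsg.upperPSeries p G (2 * k + 1)).1)).comap
      (QuotientGroup.mk' _) ≤ (Cfsg.upperPSeries p G (2 * k + 1)).1 := by
    refine CfsgLib.PCore.le_upperPSeries_succ (fun _ => ?_) (fun h => absurd he h)
    have hle : (Cfsg.upperPSeries p G (2 * k + 1)).1 ≤
        (Cfsg.pPrimeCore p (G ⧸ (Cfsg.upperPSeries p G (2 * k + 1)).1)).comap
          (QuotientGroup.mk' _) := by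
      intro x hx
      rw [Subgroup.mem_comap, QuotientGroup.mk'_apply, (QuotientGroup.eq_one_iff x).2 hx]
      exact one_mem _
    rw [← Subgroup.relIndex_mul_relIndex _ _ _ (CfsgLib.PCore.upperPSeries_le_succ (2 * k)) hle]
    refine Nat.Coprime.mul_left ?_ ?_
    · rw [← CfsgLib.PCore.card_map_mk', CfsgLib.PCore.upperPSeries_succ_of_even he,
        Subgroup.map_comap_eq_self_of_surjective (QuotientGroup.mk'_surjective _)]
      exact CfsgLib.PCore.pPrimeCore_coprime
    · rw [← CfsgLib.PCore.card_map_mk',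
        Subgroup.map_comap_eq_self_of_surjective (QuotientGroup.mk'_surjective _)]
      exact CfsgLib.PCore.pPrimeCore_coprime
  have hbot : Cfsg.pPrimeCore p (G ⧸ (Cfsg.upperPSeries p G (2 * k + 1)).1) = ⊥ := by
    rw [eq_bot_iff]
    intro y hy
    obtain ⟨x, rfl⟩ := QuotientGroup.mk'_surjective _ y
    exact (QuotientGroup.eq_one_iff x).2 (hM hy)
  rw [show 2 * k + 2 = 2 * k + 1 + 1 from rfl, CfsgLib.PCore.upperPSeries_succ_of_odd ho,
    Subgroup.map_comap_eq_self_of_surjective (QuotientGroup.mk'_surjective _)]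
  exact CfsgLib.PCore.centralizer_pCore_le (CfsgLib.PCore.isPSolvable_quotient hsol _) hbot

end Cfsg.Agent.S0634
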