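import Cfsg.Statements.S0635
import Cfsg.Agent.Lib.HallHigman.Exponent

set_option autoImplicit false
open Cfsg

namespace Cfsg.Agent.S0635

open CfsgLib.PCore CfsgLib.HallHigman

universe u

theorem pLengthLE_of_class {p : ℕ} [Fact p.Prime] (c : ℕ) : ∀ (G : Type u) [Group G] [Finite G],
    IsPSolvable p G →
    (∀ S : Sylow p G, Subgroup.upperCentralSeries ↥(S : Subgroup G) c = ⊤) → PLengthLE p c G := by
  induction c with
  | zero =>
    intro G _ _ hG hS
    refine pLengthLE_of_exponent 0 G hG ?_ fun P x hx => ?_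
    · rintro ⟨q, n₀, d, _, h1, h2, -⟩; omega
    · have h1 : (⟨x, hx⟩ : ↥(P : Subgroup G)) ∈ Subgroup.upperCentralSeries ↥(P : Subgroup G) 0 := by
        rw [hS P]; trivial
      rw [Subgroup.upperCentralSeries_zero, Subgroup.mem_bot] at h1
      rw [pow_zero, pow_one]
      exact congrArg Subtype.val h1
  | succ c ih =>
    intro G _ _ hG hS
    refine pLengthLE_of_coprime_kernel (pPrimeCore p G) pPrimeCore_coprime ?_
    have hπ := QuotientGroup.mk'_surjective (pPrimeCore p G)
    have hH : IsPSolvable p (G ⧸ pPrimeCore p G) := isPSolvable_quotient hG _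
    set V := pCore p (G ⧸ pPrimeCore p G) with hV
    have : V.Normal := CfsgLib.Fitting.pCore_normal p
    refine pLengthLE_succ_of_pGroup_kernel V pCore_isPGroup (ih _ (isPSolvable_quotient hH V) fun T => ?_)
    obtain ⟨P, hP⟩ := exists_sylow_eq_map ((QuotientGroup.mk' V).comp (QuotientGroup.mk' (pPrimeCore p G)))
      ((QuotientGroup.mk'_surjective V).comp hπ) T
    set H := G ⧸ pPrimeCore p G
    set π := QuotientGroup.mk' (pPrimeCore p G)
    set φ : ↥(P : Subgroup G) →* ↥(T : Subgroup (H ⧸ V)) :=
      ((QuotientGroup.mk' V).comp π).comp (P : Subgroup G).subtype |>.codRestrict (T : Subgroup (H ⧸ V))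
        (fun a => hP.ge ⟨a, a.2, rfl⟩) with hφ
    have hφs : Function.Surjective φ := by
      rintro ⟨y, hy⟩
      obtain ⟨a, ha, rfl⟩ := hP.le hy
      exact ⟨⟨a, ha⟩, rfl⟩
    have hcentre : Subgroup.center ↥(P : Subgroup G) ≤ φ.ker := by
      intro z hz
      rw [MonoidHom.mem_ker]
      apply Subtype.ext
      show QuotientGroup.mk' V (π z) = 1
      refine (QuotientGroup.eq_one_iff _).mpr ?_
      refine centralizer_pCore_le hH pPrimeCore_quotient_eq_bot ?_
      intro v hv
      have hVP : V ≤ (P : Subgroup G).map π := by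
        obtain ⟨P', hP'⟩ : ∃ P' : Sylow p H, (P' : Subgroup H) = (P : Subgroup G).map π :=
          ⟨P.mapSurjective hπ, Sylow.coe_mapSurjective hπ P⟩
        exact hP' ▸ (pCore_isPGroup (p := p) (G := H)).le_sylow_of_normal P'
      obtain ⟨a, ha, rfl⟩ := hVP hv
      rw [← map_mul, ← map_mul]
      exact congrArg π (congrArg Subtype.val (Subgroup.mem_center_iff.mp hz ⟨a, ha⟩))
    have key : ∀ n, (Subgroup.upperCentralSeries ↥(P : Subgroup G) (n + 1)).map φ ≤
        Subgroup.upperCentralSeries ↥(T : Subgroup (H ⧸ V)) n := by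
      intro n
      induction n with
      | zero =>
        rw [Subgroup.upperCentralSeries_zero, Subgroup.upperCentralSeries_one, le_bot_iff, Subgroup.map_eq_bot_iff]
        exact hcentre
      | succ n ihn =>
        rintro _ ⟨a, ha, rfl⟩
        rw [SetLike.mem_coe, Subgroup.mem_upperCentralSeries_succ_iff] at ha
        rw [Subgroup.mem_upperCentralSeries_succ_iff]
        intro b
        obtain ⟨b, rfl⟩ := hφs b
        exact ihn ⟨_, ha b, by simp⟩
    have h1 := key c
    rw [hS P, Subgroup.map_top_of_surjective φ hφs] at h1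
    exact top_le_iff.mp h1

/-- The p-length of a p-soluble group is at most the nilpotency class of its Sylow p-subgroups. -/
theorem result {G : Type*} [Group G] [Finite G] {p : ℕ} [Fact p.Prime] (hsol : Cfsg.IsPSolvable p G) (S : Sylow p G) : Cfsg.PLengthLE p (Group.nilpotencyClass ↥(S : Subgroup G)) G := by
  refine pLengthLE_of_class _ G hsol fun T => ?_
  obtain ⟨g, hg⟩ := MulAction.exists_smul_eq G S T
  let e : ↥(S : Subgroup G) ≃* ↥(T : Subgroup G) :=
    (Subgroup.equivSMul (MulAut.conj g) (S : Subgroup G)).trans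
      (MulEquiv.subgroupCongr (congrArg Sylow.toSubgroup hg))
  have : Group.IsNilpotent ↥(S : Subgroup G) := S.2.isNilpotent
  have h1 := Subgroup.upperCentralSeries_nilpotencyClass (G := ↥(S : Subgroup G))
  have h2 := upperCentralSeries.map (f := e.toMonoidHom) e.surjective (Group.nilpotencyClass ↥(S : Subgroup G))
  rw [h1, Subgroup.map_top_of_surjective e.toMonoidHom e.surjective] at h2
  exact top_le_iff.mp h2

end Cfsg.Agent.S0635
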