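import Cfsg.Statements.S0638
import Cfsg.Agent.Lib.OddOrder41.MetacyclicAction
import Cfsg.Agent.Lib.ConstStab.Basic
import Cfsg.Agent.Lib.PLocal.Thompson

set_option autoImplicit false
open Cfsg

namespace Cfsg.Agent.S0638

open Subgroup
open scoped commutatorElement


/-- For odd p, in a non-cyclic metacyclic p-group the elements of order dividing p generate an elementary abelian subgroup of order p². -/
theorem result {R : Type*} [Group R] [Finite R] {p : ℕ} [Fact p.Prime] (hp : p ≠ 2) (hR : IsPGroup p R) (hm : Cfsg.IsMetacyclic R) (hnc : ¬ IsCyclic R) : Cfsg.IsElementaryAbelian p (Cfsg.omegaOne p (⊤ : Subgroup R)) ∧ Nat.card ↥(Cfsg.omegaOne p (⊤ : Subgroup R)) = p ^ 2 := by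
  obtain ⟨E, hEe, hEc, hall⟩ := CfsgLib.OddOrder41.metacyclic_omega hp hR hm
  have hle : Cfsg.omegaOne p (⊤ : Subgroup R) ≤ E :=
    (closure_le E).2 fun x hx => hall x hx.2
  refine ⟨CfsgLib.PLocal.elemAb_of_le hEe hle, ?_⟩
  obtain ⟨k, hk⟩ := (hR.to_subgroup (Cfsg.omegaOne p (⊤ : Subgroup R))).exists_card_eq
  rw [hk]
  have hpp := (Fact.out : p.Prime)
  have hk2 : k ≤ 2 := (Nat.pow_le_pow_iff_right hpp.one_lt).1 (hk ▸ (card_le_of_le hle).trans hEc)
  rcases Nat.lt_or_ge k 2 with hlt | hge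
  · exfalso
    apply hnc
    refine CfsgLib.ConstStab.isCyclic_of_unique_prime_subgroup hp hR ?_
    intro x y hx hxp hyp
    have hxo : orderOf x = p := orderOf_eq_prime hxp hx
    have h : zpowers x = Cfsg.omegaOne p (⊤ : Subgroup R) := by
      refine eq_of_le_of_card_ge (zpowers_le.2 (subset_closure ⟨mem_top x, hxp⟩)) ?_
      rw [Nat.card_zpowers, hxo, hk]
      calc p ^ k ≤ p ^ 1 := Nat.pow_le_pow_right hpp.pos (by omega)
        _ = p := pow_one p
    rw [h]
    exact subset_closure ⟨mem_top y, hyp⟩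
  · rw [show k = 2 by omega]

end Cfsg.Agent.S0638
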