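import Cfsg.Statements.S0639
import Cfsg.Agent.Lib.PGroup.HuppertMetacyclic

set_option autoImplicit false
open Cfsg

namespace Cfsg.Agent.S0639

open Subgroup
open scoped commutatorElement


/-- Huppert's criterion: for p greater than 3, a p-group whose elements of order dividing p generate a subgroup of order at most p² is metacyclic. -/
theorem result {R : Type*} [Group R] [Finite R] {p : ℕ} [Fact p.Prime] (hp : 3 < p) (hR : IsPGroup p R) (hO : Nat.card ↥(Cfsg.omegaOne p (⊤ : Subgroup R)) ≤ p ^ 2) : Cfsg.IsMetacyclic R := by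
  have hne : CfsgLib.OddOrder41.NoExpCube p R := fun S hS => by
    have hle : S ≤ Cfsg.omegaOne p (⊤ : Subgroup R) :=
      fun x hx => subset_closure ⟨mem_top x, hS x hx⟩
    calc Nat.card S ≤ p ^ 2 := (card_le_of_le hle).trans hO
      _ < p ^ 3 := Nat.pow_lt_pow_right (Fact.out : p.Prime).one_lt (by norm_num)
  exact CfsgLib.PGroup.Huppert.isMetacyclic_of_powClosure_index (by omega) _ R rfl hR
    (CfsgLib.OddOrder41.index_powClosure_le hp _ R rfl hR hne)

end Cfsg.Agent.S0639
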