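import Cfsg.Statements.S0637
import Cfsg.Agent.S0638
import Cfsg.Agent.S0639
import Cfsg.Agent.Lib.OddOrder41.Metacyclic
import Cfsg.Agent.Lib.PLocal.Thompson

set_option autoImplicit false
open Cfsg

namespace Cfsg.Agent.S0637

/-- For p greater than 3, the bound p² on the order of the subgroup generated by the elements of order dividing p passes from a p-group to all its quotients. -/
theorem result {R : Type*} [Group R] [Finite R] {p : ℕ} [Fact p.Prime] (hp : 3 < p) (hR : IsPGroup p R) (hO : Nat.card ↥(Cfsg.omegaOne p (⊤ : Subgroup R)) ≤ p ^ 2) (T : Subgroup R) [T.Normal] : Nat.card ↥(Cfsg.omegaOne p (⊤ : Subgroup (R ⧸ T))) ≤ p ^ 2 := by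
  have hm : Cfsg.IsMetacyclic (R ⧸ T) := CfsgLib.OddOrder41.isMetacyclic_of_surjective
    (QuotientGroup.mk' T) (QuotientGroup.mk'_surjective T) (Cfsg.Agent.S0639.result hp hR hO)
  have hRT : IsPGroup p (R ⧸ T) := hR.to_quotient T
  by_cases hc : IsCyclic (R ⧸ T)
  · haveI := hc
    haveI : IsMulCommutative (⊤ : Subgroup (R ⧸ T)) :=
      CfsgLib.PLocal.isMulCommutative_of_forall fun a _ b _ => IsCyclic.commGroup.mul_comm a b
    have he := CfsgLib.PLocal.omegaOne_elemAb p (⊤ : Subgroup (R ⧸ T))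
    haveI := Fintype.ofFinite (R ⧸ T)
    classical
    have h1 : Nat.card ↥(Cfsg.omegaOne p (⊤ : Subgroup (R ⧸ T))) ≤
        (Finset.univ.filter fun a : R ⧸ T => a ^ p = 1).card := by
      rw [Nat.card_eq_fintype_card, Fintype.card_subtype]
      exact Finset.card_le_card fun a ha =>
        Finset.mem_filter.2 ⟨Finset.mem_univ _, he.2 a (Finset.mem_filter.1 ha).2⟩
    have h2 := IsCyclic.card_pow_eq_one_le (α := R ⧸ T) (n := p) (Fact.out : p.Prime).pos
    exact (h1.trans h2).trans (Nat.le_self_pow two_ne_zero p)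
  · exact le_of_eq (Cfsg.Agent.S0638.result (by omega) hRT hm hc).2

end Cfsg.Agent.S0637
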