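import Cfsg.Statements.S0640
import Cfsg.Agent.Lib.H82.AutFrattini
import Cfsg.Agent.Lib.PGroup.Critical
import Cfsg.Agent.Lib.PLocal5.SmallRank
import Cfsg.Agent.Lib.OddOrder41.FixOmega

set_option autoImplicit false
open Cfsg

namespace Cfsg.Agent.S0640

open Subgroup
open scoped commutatorElement

theorem char_apply_mem {R : Type*} [Group R] (H : Subgroup R) [hH : H.Characteristic] (φ : MulAut R)
    {x : R} (hx : x ∈ H) : φ x ∈ H :=
  (Subgroup.characteristic_iff_le_comap.mp hH φ) hx

/-- Restriction of automorphisms to a characteristic subgroup. -/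
noncomputable def resAut {R : Type*} [Group R] (H : Subgroup R) [H.Characteristic] :
    MulAut R →* MulAut H where
  toFun φ :=
    { toFun := fun x => ⟨φ x, char_apply_mem H φ x.2⟩
      invFun := fun x => ⟨φ.symm x, char_apply_mem H φ.symm x.2⟩
      left_inv := fun x => Subtype.ext (φ.symm_apply_apply x)
      right_inv := fun x => Subtype.ext (φ.apply_symm_apply x)
      map_mul' := fun x y => Subtype.ext (map_mul φ (x : R) y) }
  map_one' := rfl
  map_mul' _ _ := rfl

/-- For odd p, a prime q ≠ p dividing the order of the automorphism group of a p-group of rank at most 2 divides p² - 1 and is less than p. -/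
theorem result {R : Type*} [Group R] [Finite R] {p : ℕ} [Fact p.Prime] (hp : p ≠ 2) (hR : IsPGroup p R) (hrk : Cfsg.PRankLE p 2 R) (q : ℕ) (hq : q.Prime) (hqp : q ≠ p) (hdvd : q ∣ Nat.card (MulAut R)) : q ∣ p ^ 2 - 1 ∧ q < p := by
  haveI := Fact.mk hq
  have hpp := (Fact.out : p.Prime)
  haveI : Finite (MulAut R) := Finite.of_injective _ DFunLike.coe_injective
  obtain ⟨α, hα⟩ := exists_prime_orderOf_dvd_card' q hdvd
  obtain ⟨H, hHc, hHC, hHcomm, hHp⟩ := CfsgLib.PGroup.exists_critical hR
  haveI := hHc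
  have hcop : q.Coprime p := (Nat.coprime_primes hq hpp).2 hqp
  have hαq : α ^ q = 1 := hα ▸ pow_orderOf_eq_one α
  have kill : ∀ z : R, z ^ q = 1 → z = 1 := by
    intro z hz
    obtain ⟨k, hk⟩ := hR z
    have := pow_gcd_eq_one.2 (show z ^ q = 1 ∧ z ^ p ^ k = 1 from ⟨hz, hk⟩)
    rwa [Nat.Coprime.gcd_eq_one (Nat.Coprime.pow_right k hcop), pow_one] at this
  -- `α` does not fix `H`
  have hnfix : ∃ h ∈ H, α h ≠ h := by
    by_contra! hfix
    have hα1 : α = 1 := by
      refine MulEquiv.ext fun x => ?_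
      have hmem : x⁻¹ * α x ∈ centralizer (H : Set R) := by
        refine mem_centralizer_iff.2 fun h hh => ?_
        have h1 : x * h * x⁻¹ ∈ H := (inferInstance : H.Normal).conj_mem h hh x
        have h2 := hfix _ h1
        rw [map_mul, map_mul, map_inv, hfix h hh, mul_inv_eq_iff_eq_mul] at h2
        calc h * (x⁻¹ * α x) = x⁻¹ * (x * h * x⁻¹ * α x) := by group
          _ = x⁻¹ * (α x * h) := by rw [h2]
          _ = x⁻¹ * α x * h := by group
      have hz := hfix _ (hHC hmem)
      have hiter : ∀ k : ℕ, (α ^ k) x = x * (x⁻¹ * α x) ^ k := by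
        intro k
        induction k with
        | zero => simp
        | succ k ih =>
          rw [pow_succ', MulAut.mul_apply, ih, map_mul, map_pow, hz, pow_succ', ← mul_assoc x,
            mul_inv_cancel_left]
      have h3 := hiter q
      rw [hαq, MulAut.one_apply] at h3
      have h4 := kill _ (left_eq_mul.1 h3)
      exact (inv_mul_eq_one.1 h4).symm
    rw [hα1, orderOf_one] at hα
    exact hq.ne_one hα.symm
  -- the subgroup of elements of exponent `p`
  have hmul : ∀ x ∈ H, ∀ y ∈ H, x ^ p = 1 → y ^ p = 1 → (x * y) ^ p = 1 := by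
    intro x hx y hy hxp hyp
    set c := ⁅x⁻¹, y⁻¹⁆⁻¹ with hc
    have hcZ : c ∈ H ⊓ centralizer (H : Set R) := inv_mem (hHcomm x⁻¹ y⁻¹ (inv_mem hy))
    have hcx : c * x = x * c := (mem_centralizer_iff.1 hcZ.2 x hx).symm
    have hcy : c * y = y * c := (mem_centralizer_iff.1 hcZ.2 y hy).symm
    have hyx : y * x = x * y * c := by rw [hc, commutatorElement_def]; group
    obtain ⟨e1, e2⟩ := CfsgLib.OddOrder41.pow_mul_eq_of_central_step hyx hcx hcy p
    have hcp : c ^ p = 1 := by
      rw [hyp, one_mul, mul_one] at e1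
      exact left_eq_mul.1 e1
    obtain ⟨t, ht⟩ := hpp.dvd_choose_self two_ne_zero (lt_of_le_of_ne hpp.two_le (Ne.symm hp))
    rw [e2, hxp, hyp, ht, pow_mul, hcp, one_pow, mul_one, mul_one]
  let K : Subgroup R :=
    { carrier := {x | x ∈ H ∧ x ^ p = 1}
      one_mem' := ⟨one_mem H, one_pow p⟩
      mul_mem' := fun {x y} hx hy => ⟨mul_mem hx.1 hy.1, hmul x hx.1 y hy.1 hx.2 hy.2⟩
      inv_mem' := fun {x} hx => ⟨inv_mem hx.1, by rw [inv_pow, hx.2, inv_one]⟩ }
  haveI hKc : K.Characteristic := Subgroup.characteristic_iff_le_comap.2 fun φ x hx =>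
    ⟨char_apply_mem H φ hx.1, by
      show (φ x) ^ p = 1
      rw [← map_pow, hx.2, map_one]⟩
  -- `α` does not fix `K`
  have hβ : resAut K α ≠ 1 := by
    intro h
    obtain ⟨h₀, hh₀, hne⟩ := hnfix
    apply hne
    let A : Subgroup (MulAut R) := zpowers α
    let S := SemidirectProduct R A A.subtype
    haveI : Finite A := inferInstance
    haveI : Finite S := Finite.of_equiv _ SemidirectProduct.equivProd.symm
    let a : S := SemidirectProduct.inr ⟨α, mem_zpowers α⟩
    have hconj : ∀ x : R, a * SemidirectProduct.inl x * a⁻¹ = SemidirectProduct.inl (α x) :=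
      fun x => by
        rw [← map_inv, ← SemidirectProduct.inl_aut]
        rfl
    have ho : (orderOf a).Coprime p := by
      rw [orderOf_injective _ SemidirectProduct.inr_injective, Subgroup.orderOf_mk, hα]
      exact hcop
    have hfix := CfsgLib.OddOrder41.fixes_of_fixes_exponent_p hp a ho _
      (H.map (SemidirectProduct.inl : R →* S)) rfl ((hR.to_subgroup H).map _) ?_ ?_
      (SemidirectProduct.inl h₀) (mem_map_of_mem _ hh₀)
    · rw [← mul_inv_eq_iff_eq_mul, hconj] at hfix
      exact SemidirectProduct.inl_injective hfix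
    · rintro _ ⟨x, hx, rfl⟩
      exact ⟨α x, char_apply_mem H α hx, (hconj x).symm⟩
    · rintro _ ⟨x, hx, rfl⟩ hxp
      have hxp' : x ^ p = 1 := SemidirectProduct.inl_injective (φ := A.subtype) (by
        rw [map_pow, map_one]; exact hxp)
      rw [← mul_inv_eq_iff_eq_mul, hconj]
      have := congrArg (fun f : MulAut K => ((f ⟨x, hx, hxp'⟩ : K) : R)) h
      exact congrArg _ this
  have hord : orderOf (resAut K α) = q :=
    orderOf_eq_prime (by rw [← map_pow, hαq, map_one]) hβ
  haveI : Finite (MulAut K) := Finite.of_injective _ DFunLike.coe_injective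
  have hqd : q ∣ Nat.card (MulAut K) := hord ▸ orderOf_dvd_natCard _
  -- small order
  have hexp : ∀ x : K, x ^ p = 1 := fun x => Subtype.ext (by simpa using x.2.2)
  have hrkK : ∀ E : Subgroup K, Cfsg.IsElementaryAbelian p E → Nat.card E ≤ p ^ 2 := by
    intro E hE
    rw [← Subgroup.card_map_of_injective K.subtype_injective]
    haveI := hE.1
    refine hrk (E.map K.subtype) inferInstance ?_
    rintro _ ⟨x, hx, rfl⟩
    rw [← map_pow, hE.2 x hx, map_one]
  have hKcard := CfsgLib.SmallRank.card_le_of_exponent_rank_two hexp hrkK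
  have hKp : IsPGroup p K := hR.to_subgroup K
  obtain ⟨n, hn⟩ := hKp.exists_card_eq
  obtain ⟨r, hr⟩ : ∃ r, (frattini K).index = p ^ r := by
    obtain ⟨r, -, hr⟩ := (Nat.dvd_prime_pow hpp).1 (hn ▸ (frattini K).index_dvd_card)
    exact ⟨r, hr⟩
  have hn3 : n ≤ 3 := (Nat.pow_le_pow_iff_right hpp.one_lt).1 (hn ▸ hKcard)
  have hr2 : r ≤ 2 := by
    by_contra hr3
    have h1 := (frattini K).card_mul_index
    rw [hr, hn] at h1
    obtain ⟨f, hf⟩ := (hKp.to_subgroup (frattini K)).exists_card_eq
    rw [hf, ← pow_add] at h1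
    have h2 := Nat.pow_right_injective hpp.two_le h1
    have hfb : frattini K = ⊥ := eq_bot_of_card_eq _ (by rw [hf, show f = 0 by omega, pow_zero])
    have hcomm : Cfsg.IsElementaryAbelian p (⊤ : Subgroup K) := by
      refine ⟨⟨⟨fun x y => Subtype.ext ?_⟩⟩, fun x _ => hexp x⟩
      have h3 : ⁅(x : K), (y : K)⁆ ∈ frattini K :=
        CfsgLib.PGroup.commutator_le_frattini hKp (commutator_mem_commutator (mem_top _) (mem_top _))
      rw [hfb, mem_bot, commutatorElement_eq_one_iff_mul_comm] at h3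
      exact h3
    have h4 := hrkK ⊤ hcomm
    rw [card_top, hn, Nat.pow_le_pow_iff_right hpp.one_lt] at h4
    omega
  have hd := hqd.trans (CfsgLib.AutFrattini82.card_aut_dvd hn hr)
  have hndp : ∀ k, ¬ q ∣ p ^ k := fun k h =>
    hqp ((Nat.prime_dvd_prime_iff_eq hq hpp).1 (hq.dvd_of_dvd_pow h))
  have hd' := (hq.dvd_mul.1 hd).resolve_left (hndp _)
  have hsub : p - 1 ∣ p ^ 2 - 1 := by simpa using Nat.sub_one_dvd_pow_sub_one p 2
  have hq1 : q ∣ p ^ 2 - 1 := by
    interval_cases r
    · simp at hd'; exact absurd hd' hq.ne_one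
    · simp [Finset.prod_range_succ] at hd'
      exact hd'.trans hsub
    · simp [Finset.prod_range_succ] at hd'
      rcases hq.dvd_mul.1 hd' with h | h
      · exact h
      · have e : p ^ 2 - p = p * (p - 1) := by rw [pow_two, Nat.mul_sub, mul_one]
        rw [e] at h
        rcases hq.dvd_mul.1 h with h | h
        · exact absurd ((Nat.prime_dvd_prime_iff_eq hq hpp).1 h) hqp
        · exact h.trans hsub
  refine ⟨hq1, ?_⟩
  have e : p ^ 2 - 1 = (p + 1) * (p - 1) := by simpa using Nat.sq_sub_sq p 1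
  rw [e] at hq1
  have h2 := hpp.two_le
  rcases hq.dvd_mul.1 hq1 with h | h
  · rcases Nat.lt_or_ge q p with hlt | hge
    · exact hlt
    exfalso
    have hle := Nat.le_of_dvd (by omega) h
    have hq' : q = p + 1 := by omega
    obtain ⟨k, hk⟩ := hpp.odd_of_ne_two hp
    have : Even q := ⟨k + 1, by omega⟩
    have := (Nat.Prime.even_iff hq).1 this
    omega
  · exact lt_of_le_of_lt (Nat.le_of_dvd (by omega) h) (by omega)

end Cfsg.Agent.S0640
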