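import Cfsg.Statements.S0642
import Cfsg.Agent.Lib.H82.Regular

set_option autoImplicit false
open Cfsg

namespace Cfsg.Agent.S0642

open Subgroup
open scoped commutatorElement


/-- Among finite 2-groups the regular ones are exactly the abelian ones. -/
theorem result {G : Type*} [Group G] [Finite G] (hG : IsPGroup 2 G) : Cfsg.IsRegularPGroup 2 G ↔ ∀ a b : G, a * b = b * a := by
  constructor
  · intro hR a b
    set H := Subgroup.closure ({a, b} : Set G) with hH
    haveI : Fact (Nat.Prime 2) := ⟨Nat.prime_two⟩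
    obtain ⟨hHp, hHR⟩ := CfsgLib.Regular82.isRegular_subgroup hR H
    let a' : H := ⟨a, Subgroup.subset_closure (Or.inl rfl)⟩
    let b' : H := ⟨b, Subgroup.subset_closure (Or.inr rfl)⟩
    have hgen : Subgroup.closure ({a', b'} : Set H) = ⊤ := by
      apply Subgroup.map_injective H.subtype_injective
      rw [MonoidHom.map_closure, Set.image_pair, ← MonoidHom.range_eq_map, Subgroup.range_subtype]
      rfl
    obtain ⟨c, hc, hpow⟩ := hHR a' b' 1
    rw [pow_one, pow_two, pow_two, pow_two] at hpow
    rw [hgen] at hc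
    set D := ⁅(⊤ : Subgroup H), (⊤ : Subgroup H)⁆ with hD
    set M := Cfsg.powerClosure 2 1 D with hM
    haveI : M.Normal := ⟨fun x hx g => by
      have h1 := Subgroup.mem_map_of_mem (MulAut.conj g).toMonoidHom hx
      rw [hM, CfsgLib.Regular82.map_powerClosure] at h1
      have h2 : D.map (MulAut.conj g).toMonoidHom ≤ D := by
        rintro _ ⟨y, hy, rfl⟩
        exact (inferInstance : D.Normal).conj_mem y hy g
      exact Subgroup.closure_mono (by rintro z ⟨y, hy, rfl⟩; exact ⟨y, h2 hy, rfl⟩) h1⟩
    have hab : ⁅a', b'⁆ ∈ M := by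
      have e : ⁅a', b'⁆ = a' * b' * (a'⁻¹ * b'⁻¹) := by rw [commutatorElement_def]; group
      have e2 : b' * a' = a' * b' * (b' * c * b'⁻¹) := by
        calc b' * a' = a'⁻¹ * (a' * b' * (a' * b')) * b'⁻¹ := by group
          _ = a'⁻¹ * (a' * a' * (b' * b') * c) * b'⁻¹ := by rw [hpow]
          _ = _ := by group
      have e3 : ⁅a', b'⁆ = (a' * b') * (b' * c * b'⁻¹)⁻¹ * (a' * b')⁻¹ := by
        calc ⁅a', b'⁆ = a' * b' * (b' * a')⁻¹ := by rw [commutatorElement_def]; group
          _ = _ := by rw [e2]; group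
      rw [e3]
      exact (inferInstance : M.Normal).conj_mem _
        (M.inv_mem ((inferInstance : M.Normal).conj_mem _ hc b')) _
    have hDM : D ≤ M := by
      have := CfsgLib.Regular82.commutator_le_of_pair hab
      rwa [hgen] at this
    have hDp : IsPGroup 2 D := hHp.to_subgroup D
    have hfr : M ≤ (frattini D).map D.subtype := by
      rw [hM, Cfsg.powerClosure, Subgroup.closure_le]
      rintro _ ⟨y, hy, rfl⟩
      exact ⟨⟨y, hy⟩ ^ 2 ^ 1, by rw [pow_one]; exact CfsgLib.PGroup.pow_mem_frattini hDp _, rfl⟩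
    have hD0 : D = ⊥ := by
      by_contra hne
      haveI : Nontrivial D := (Subgroup.nontrivial_iff_ne_bot D).2 hne
      apply CfsgLib.PGroup.frattini_ne_top (P := D)
      apply Subgroup.map_injective D.subtype_injective
      rw [← MonoidHom.range_eq_map, Subgroup.range_subtype]
      exact le_antisymm (Subgroup.map_subtype_le _) (hDM.trans hfr)
    have h : ⁅a', b'⁆ ∈ D := Subgroup.commutator_mem_commutator (Subgroup.mem_top _) (Subgroup.mem_top _)
    rw [hD0, Subgroup.mem_bot, commutatorElement_eq_one_iff_mul_comm] at h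
    exact congrArg Subtype.val h
  · intro hab
    exact ⟨hG, fun a b n => ⟨1, Subgroup.one_mem _, by rw [mul_one]; exact (Commute.mul_pow (hab a b) _)⟩⟩

end Cfsg.Agent.S0642
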