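import Cfsg.Statements.S0647

set_option autoImplicit false
open Cfsg

namespace Cfsg.Agent.S0647

/-- For a nonempty family of maximal abelian subgroups of a finite group, the intersection of the family is the centre of the subgroup it generates, which is also the full centralizer of that subgroup. -/
theorem result {S : Type*} [Group S] [Finite S] (𝒜 : Set (Subgroup S)) (hne : 𝒜.Nonempty) (hab : ∀ A ∈ 𝒜, IsMulCommutative A) (hmax : ∀ A ∈ 𝒜, ∀ B : Subgroup S, IsMulCommutative B → A ≤ B → B = A) : sInf 𝒜 = sSup 𝒜 ⊓ Subgroup.centralizer ((sSup 𝒜 : Subgroup S) : Set S) ∧ sInf 𝒜 = Subgroup.centralizer ((sSup 𝒜 : Subgroup S) : Set S) := by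
  have key : ∀ x, x ∈ Subgroup.centralizer ((sSup 𝒜 : Subgroup S) : Set S) ↔ x ∈ sInf 𝒜 := by
    intro x
    rw [Subgroup.mem_sInf]
    constructor
    · intro hx A hA
      have hc : ∀ a ∈ A, a * x = x * a := fun a ha =>
        Subgroup.mem_centralizer_iff.mp hx a (le_sSup hA ha)
      haveI := hab A hA
      have hK : IsMulCommutative (Subgroup.closure ((A : Set S) ∪ {x})) := by
        refine Subgroup.isMulCommutative_closure ?_
        rintro a (ha | rfl) b (hb | rfl)
        · exact setLike_mul_comm ha hb
        · exact hc a ha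
        · exact (hc b hb).symm
        · rfl
      have h := hmax A hA _ hK (fun a ha => Subgroup.subset_closure (Or.inl ha))
      rw [← h]
      exact Subgroup.subset_closure (Or.inr rfl)
    · intro hx
      rw [Subgroup.mem_centralizer_iff]
      intro a ha
      have hle : sSup 𝒜 ≤ Subgroup.centralizer ({x} : Set S) := sSup_le fun A hA a ha => by
        rw [Subgroup.mem_centralizer_iff]
        rintro y rfl
        haveI := hab A hA
        exact setLike_mul_comm (hx A hA) ha
      exact (Subgroup.mem_centralizer_iff.mp (hle ha) x rfl).symm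
  obtain ⟨A₀, hA₀⟩ := hne
  have h2 : sInf 𝒜 = Subgroup.centralizer ((sSup 𝒜 : Subgroup S) : Set S) :=
    SetLike.ext fun x => (key x).symm
  exact ⟨le_antisymm (le_inf ((sInf_le hA₀).trans (le_sSup hA₀)) h2.le)
    (inf_le_right.trans h2.ge), h2⟩

end Cfsg.Agent.S0647
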