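import Cfsg.Statements.S0650
import Cfsg.Agent.Lib.PLocal.Replacement

set_option autoImplicit false
open Cfsg

namespace Cfsg.Agent.S0650

/-- The Glauberman replacement Theorem: from an abelian A ⊇ [B, B] not normalized by the normal subgroup B and a suitable b ∈ B one gets the abelian subgroup A* = (A ∩ b⁻¹Ab)[A, b] of the same order, containing [B, B], meeting B strictly more than A does but not containing B, mutually normalizing with A, with strictly larger normalizer containing b, and (p odd) of no larger exponent. -/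
theorem result {S : Type*} [Group S] [Finite S] {p : ℕ} [Fact p.Prime] (hS : IsPGroup p S) (B : Subgroup S) [B.Normal] (hB2 : p = 2 → IsMulCommutative B) (A : Subgroup S) (hA : IsMulCommutative A) (hBA : ⁅B, B⁆ ≤ A) (hnot : ¬ B ≤ Subgroup.normalizer (A : Set S)) (b : S) (hb : b ∈ B) (hbN : b ∈ Subgroup.normalizer ((Subgroup.normalizer (A : Set S)) : Set S)) (hbA : b ∉ Subgroup.normalizer (A : Set S)) : Nat.card ↥((A ⊓ A.map (MulAut.conj (b⁻¹)).toMonoidHom) ⊔ Subgroup.closure {g : S | ∃ a ∈ A, g = a * b⁻¹ * a⁻¹ * b}) = Nat.card A ∧ IsMulCommutative ↥((A ⊓ A.map (MulAut.conj (b⁻¹)).toMonoidHom) ⊔ Subgroup.closure {g : S | ∃ a ∈ A, g = a * b⁻¹ * a⁻¹ * b}) ∧ ⁅B, B⁆ ≤ ((A ⊓ A.map (MulAut.conj (b⁻¹)).toMonoidHom) ⊔ Subgroup.closure {g : S | ∃ a ∈ A, g = a * b⁻¹ * a⁻¹ * b}) ∧ A ⊓ B < ((A ⊓ A.map (MulAut.conj (b⁻¹)).toMonoidHom) ⊔ Subgroup.closure {g : S | ∃ a ∈ A, g = a * b⁻¹ * a⁻¹ *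 b}) ⊓ B ∧ ((A ⊓ A.map (MulAut.conj (b⁻¹)).toMonoidHom) ⊔ Subgroup.closure {g : S | ∃ a ∈ A, g = a * b⁻¹ * a⁻¹ * b}) ⊓ B < B ∧ A ≤ Subgroup.normalizer (((A ⊓ A.map (MulAut.conj (b⁻¹)).toMonoidHom) ⊔ Subgroup.closure {g : S | ∃ a ∈ A, g = a * b⁻¹ * a⁻¹ * b} : Subgroup S) : Set S) ∧ ((A ⊓ A.map (MulAut.conj (b⁻¹)).toMonoidHom) ⊔ Subgroup.closure {g : S | ∃ a ∈ A, g = a * b⁻¹ * a⁻¹ * b}) ≤ Subgroup.normalizer (A : Set S) ∧ b ∈ Subgroup.normalizer (((A ⊓ A.map (MulAut.conj (b⁻¹)).toMonoidHom) ⊔ Subgroup.closure {g : S | ∃ a ∈ A, g = a * b⁻¹ * a⁻¹ * b} : Subgroup S) : Set S) ∧ Subgroup.normalizer (A : Set S) < Subgroup.normalizer (((A ⊓ A.map (MulAut.conj (b⁻¹)).toMonoidHom) ⊔ Subgroup.closure {g : S | ∃ a ∈ A, g = a * b⁻¹ * a⁻¹ * b} : Subgroup S) : Set S) ∧ (p ≠ 2 → Monoid.exponent ↥((A ⊓ A.map (MulAut.conj (b⁻¹)).toMonoidHom) ⊔ Subgroup.closure {g : S | ∃ a ∈ A, g = a * b⁻¹ * a⁻¹ *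 b}) ∣ Monoid.exponent A) := by
  haveI := hA
  have hNB : Subgroup.normalizer (A : Set S) ≤ Subgroup.normalizer (B : Set S) := by
    rw [Subgroup.normalizer_eq_top B]; exact le_top
  obtain ⟨h1, h2, h3, h4, h5, h6, h7, -, h9, h10⟩ :=
    CfsgLib.PLocal.glauberman_replacement_core (N := Subgroup.normalizer (A : Set S)) hBA hNB hb
      Subgroup.le_normalizer le_rfl hbN hbA
      (CfsgLib.PLocal.eq_one_of_sq_eq_one (hS.to_subgroup B) hB2)
  have hR : ((A ⊓ A.map (MulAut.conj (b⁻¹)).toMonoidHom) ⊔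
      Subgroup.closure {g : S | ∃ a ∈ A, g = a * b⁻¹ * a⁻¹ * b}) =
        CfsgLib.PLocal.replacement A b := by
    unfold CfsgLib.PLocal.replacement
    rw [CfsgLib.PLocal.shift_eq_closure_mul_conj_inv]
    rfl
  rw [hR]
  refine ⟨h1, h2, h3, h4, h5, Subgroup.le_normalizer.trans h6, h7, h9,
    lt_of_le_of_ne h6 fun h => hbA (h ▸ h9), ?_⟩
  intro hp
  have he : ∀ a ∈ A, a ^ Monoid.exponent A = 1 := fun a ha =>
    congrArg Subtype.val (Monoid.pow_exponent_eq_one (⟨a, ha⟩ : A))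
  have hodd : Odd (Monoid.exponent A) := by
    obtain ⟨k, hk⟩ := isPGroup_iff_exponent_eq_pow.mp (hS.to_subgroup A)
    rw [hk]
    exact ((Fact.out : p.Prime).odd_of_ne_two hp).pow
  rw [Monoid.exponent_dvd_iff_forall_pow_eq_one]
  intro g
  exact Subtype.ext (h10 _ he (Or.inl hodd) g g.2)

end Cfsg.Agent.S0650
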