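import Cfsg.Statements.S0657
import Cfsg.Agent.Lib.PLocal.SectionStable

set_option autoImplicit false
open Cfsg

namespace Cfsg.Agent.S0657

/-- For odd p, a group that fails to be p-stable modulo its largest normal subgroup of order prime to p, and whose upper p-series does not stop there, has a section isomorphic to SL(2, p). -/
theorem result {G : Type*} [Group G] [Finite G] {p : ℕ} [Fact p.Prime] (hp : p ≠ 2) (hO : Cfsg.pPrimeCore p G < Cfsg.pPrimePCore p G) (hns : ¬ Cfsg.IsPStable p (G ⧸ Cfsg.pPrimeCore p G)) : ∃ (K L : Subgroup G) (hL : (L.subgroupOf K).Normal), K ≤ ⊤ ∧ Nonempty ((K ⧸ L.subgroupOf K) ≃* Matrix.SpecialLinearGroup (Fin 2) (ZMod p)) := by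
  have hO' : Cfsg.pPrimeCore p (G ⧸ Cfsg.pPrimeCore p G) = ⊥ :=
    CfsgLib.PCore.pPrimeCore_quotient_pPrimeCore
  have hne : Cfsg.pCore p (G ⧸ Cfsg.pPrimeCore p G) ≠ ⊥ := by
    intro h
    rw [← CfsgLib.PCore.map_pPrimePCore,
      Subgroup.map_eq_bot_iff, QuotientGroup.ker_mk'] at h
    exact hO.not_ge h
  obtain ⟨P, _, hP, hP'⟩ := CfsgLib.PLocal.exists_not_isPStableOn_of_not_isPStable hp hne hO' hns
  obtain ⟨M, f, hf⟩ := CfsgLib.PLocal.exists_sl2_of_not_isPStableOn_pGroup hp P hP hP'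
  obtain ⟨M', f', hf'⟩ := CfsgLib.PLocal.exists_surjective_of_surjective
    (QuotientGroup.mk' (Cfsg.pPrimeCore p G)) (QuotientGroup.mk'_surjective _) hf
  exact CfsgLib.PLocal.exists_section_top_of_surjective hf'

end Cfsg.Agent.S0657
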