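import Cfsg.Statements.S0658
import Cfsg.Agent.Lib.PLocal.PStableQuot
import Cfsg.Agent.Lib.InvChar.Conj

set_option autoImplicit false
open Cfsg

namespace Cfsg.Agent.S0658

open CfsgLib.PLocal

theorem normalizer_le_of_charP {G : Type*} [Group G] [Finite G] {p : ℕ} [Fact p.Prime] (hp : p ≠ 2)
    (Q : Subgroup G)
    (h0 : Cfsg.pPrimeCore p ↥(Subgroup.normalizer (Q : Set G)) = ⊥)
    (hc : Cfsg.IsPConstrained p ↥(Subgroup.normalizer (Q : Set G)))
    (hs : Cfsg.IsPStable p ↥(Subgroup.normalizer (Q : Set G)))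
    (T : Sylow p ↥(Subgroup.normalizer (Q : Set G))) :
    Subgroup.normalizer (Q : Set G) ≤ Subgroup.normalizer
      (zj 0 ((T : Subgroup ↥(Subgroup.normalizer (Q : Set G))).map
        (Subgroup.normalizer (Q : Set G)).subtype) : Set G) := by
  have h := sup_normalizer_zj_of_constrained_stable (e := 0) hp (Or.inl rfl) hc hs T
  rw [h0, bot_sup_eq] at h
  rw [zj_map (Subgroup.subtype_injective _)]
  intro m hm
  exact Subgroup.le_normalizer_map (Subgroup.normalizer (Q : Set G)).subtype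
    ⟨⟨m, hm⟩, h ▸ Subgroup.mem_top _, rfl⟩

/-- In a group of characteristic p type all of whose p-locals are p-stable (p odd), the normalizer of Z(J(P)) contains the normalizer of every nontrivial subgroup of the Sylow p-subgroup P. -/
theorem result {G : Type*} [Group G] [Finite G] {p : ℕ} [Fact p.Prime] (hp : p ≠ 2) (hloc : ∀ Q : Subgroup G, IsPGroup p Q → Q ≠ ⊥ → Cfsg.pPrimeCore p ↥(Subgroup.normalizer (Q : Set G)) = ⊥ ∧ Cfsg.IsPConstrained p ↥(Subgroup.normalizer (Q : Set G)) ∧ Cfsg.IsPStable p ↥(Subgroup.normalizer (Q : Set G))) (P : Sylow p G) (Q : Subgroup G) (hQP : Q ≤ (P : Subgroup G)) (hQ1 : Q ≠ ⊥) : Subgroup.normalizer (Q : Set G) ≤ Subgroup.normalizer (Cfsg.centerThompsonAOf ((P : Subgroup G)) : Set G) := by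
  rw [centerThompsonAOf_eq, ← zj_zero]
  set N₀ := Subgroup.normalizer (zj 0 (P : Subgroup G) : Set G) with hN₀
  suffices key : ∀ d, ∀ Q : Subgroup G, Q ≤ (P : Subgroup G) → Q ≠ ⊥ →
      Nat.card (P : Subgroup G) - Nat.card ↥((P : Subgroup G) ⊓ Subgroup.normalizer (Q : Set G)) = d →
      Subgroup.normalizer (Q : Set G) ≤ N₀ from key _ Q hQP hQ1 rfl
  intro d
  induction d using Nat.strong_induction_on with
  | _ d ih =>
  intro Q hQP hQ1 hd
  subst hd
  have hQp : IsPGroup p Q := P.isPGroup'.to_le hQP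
  obtain ⟨h0, hc, hs⟩ := hloc Q hQp hQ1
  set M := Subgroup.normalizer (Q : Set G) with hM
  set R := (P : Subgroup G) ⊓ M with hR
  have hRp : IsPGroup p R := P.isPGroup'.to_le inf_le_left
  obtain ⟨T, hRT⟩ := (hRp.comap_subtype (K := M)).exists_le_sylow
  set T' := (T : Subgroup M).map M.subtype with hT'
  have hT'p : IsPGroup p T' := T.isPGroup'.map _
  have hRT' : R ≤ T' := fun x hx => ⟨⟨x, hx.2⟩, hRT hx, rfl⟩
  have hMZ : M ≤ Subgroup.normalizer (zj 0 T' : Set G) := normalizer_le_of_charP hp Q h0 hc hs T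
  have hQR : Q ≤ R := le_inf hQP Subgroup.le_normalizer
  have hR1 : R ≠ ⊥ := fun h => hQ1 (le_bot_iff.mp (h ▸ hQR))
  -- the subgroups with larger normalizer in `P`
  have big : ∀ Q' : Subgroup G, Q' ≤ (P : Subgroup G) → Q' ≠ ⊥ →
      Nat.card R < Nat.card ↥((P : Subgroup G) ⊓ Subgroup.normalizer (Q' : Set G)) →
      Subgroup.normalizer (Q' : Set G) ≤ N₀ := by
    intro Q' h1 h2 h3
    refine ih _ ?_ Q' h1 h2 rfl
    have := Nat.le_of_dvd Nat.card_pos
      (Subgroup.card_dvd_of_le (inf_le_left : (P : Subgroup G) ⊓ Subgroup.normalizer (Q' : Set G) ≤ P))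
    omega
  have hRlt : R ≠ (P : Subgroup G) → Subgroup.normalizer (R : Set G) ≤ N₀ := fun h => by
    refine big R inf_le_left hR1 (lt_of_not_ge fun hge => ?_)
    have hlt := CfsgLib.InvChar.lt_normalizer_inf_of_lt P.isPGroup' (lt_of_le_of_ne inf_le_left h)
    exact hlt.ne (Subgroup.eq_of_le_of_card_ge hlt.le hge)
  rcases eq_or_lt_of_le hRT' with heq | hlt
  · rw [← heq] at hMZ
    by_cases hRP : R = (P : Subgroup G)
    · rwa [hRP] at hMZ
    refine hMZ.trans (big _ ((zj_le 0 R).trans inf_le_left) ?_ (lt_of_not_ge fun hge => ?_))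
    · rw [zj_zero]; exact centerJ_zero_ne_bot hRp hR1
    · have hlt := CfsgLib.InvChar.lt_normalizer_inf_of_lt P.isPGroup'
        (lt_of_le_of_ne inf_le_left hRP)
      have hle : (P : Subgroup G) ⊓ Subgroup.normalizer (R : Set G) ≤
          (P : Subgroup G) ⊓ Subgroup.normalizer (zj 0 R : Set G) :=
        inf_le_inf_left _ (normalizer_le_normalizer_zj 0 R)
      exact (hlt.trans_le hle).ne (Subgroup.eq_of_le_of_card_ge (hlt.trans_le hle).le hge)
  · have hRP : R ≠ (P : Subgroup G) := fun h => hlt.ne (by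
      rw [h]; exact (P.is_maximal' hT'p (h ▸ hRT')).symm)
    set U := T' ⊓ Subgroup.normalizer (R : Set G) with hU
    have hRU : R < U := CfsgLib.InvChar.lt_normalizer_inf_of_lt hT'p hlt
    have hUN : U ≤ N₀ := inf_le_right.trans (hRlt hRP)
    have hPN : (P : Subgroup G) ≤ N₀ := le_normalizer_zj 0 _
    obtain ⟨h, hhN, hh⟩ := CfsgLib.Techniques.exists_conj_le_sylow_of hUN (hT'p.to_le inf_le_left)
      hPN P.isPGroup' (CfsgLib.Techniques.not_dvd_relIndex_sylow P hPN)
    set Q' := Q.map (MulAut.conj h).toMonoidHom with hQ'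
    have hconjN : ∀ m ∈ M, h * m * h⁻¹ ∈ Subgroup.normalizer (Q' : Set G) := fun m hm =>
      Subgroup.le_normalizer_map _ ⟨m, hm, rfl⟩
    have hUM : U ≤ M := inf_le_left.trans (Subgroup.map_subtype_le _)
    have hQ'P : Q' ≤ (P : Subgroup G) := (Subgroup.map_mono (hQR.trans hRU.le)).trans hh
    have hsmall : Subgroup.normalizer (Q' : Set G) ≤ N₀ := by
      refine big Q' hQ'P ?_ ?_
      · rwa [Ne, Subgroup.map_eq_bot_iff_of_injective _ (MulAut.conj h).injective]
      · have h1 : Nat.card R < Nat.card (U.map (MulAut.conj h).toMonoidHom) := by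
          rw [CfsgLib.Techniques.card_map_conj]
          exact lt_of_not_ge fun hge => hRU.ne (Subgroup.eq_of_le_of_card_ge hRU.le hge)
        refine h1.trans_le (Subgroup.card_le_of_le (le_inf hh ?_))
        rintro _ ⟨u, hu, rfl⟩
        exact hconjN u (hUM hu)
    intro m hm
    have h2 := mul_mem (mul_mem (inv_mem hhN) (hsmall (hconjN m hm))) hhN
    simpa [mul_assoc] using h2

end Cfsg.Agent.S0658
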