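import Cfsg.Statements.S0660
import Cfsg.Agent.Lib.Coprime.Action

set_option autoImplicit false
open Cfsg

namespace Cfsg.Agent.S0660

open Subgroup
open scoped commutatorElement


/-- Under a coprime action on an abelian group, an invariant subgroup that is complemented admits an invariant complement. -/
theorem result {G : Type*} [Group G] [Finite G] (V A U : Subgroup G) (hVab : IsMulCommutative V) (hAV : A ≤ Subgroup.normalizer (V : Set G)) (hcop : (Nat.card A).Coprime (Nat.card V)) (hUV : U ≤ V) (hAU : A ≤ Subgroup.normalizer (U : Set G)) (W : Subgroup G) (hWV : W ≤ V) (hUW : U ⊓ W = ⊥) (hUWV : U ⊔ W = V) : ∃ W' : Subgroup G, W' ≤ V ∧ A ≤ Subgroup.normalizer (W' : Set G) ∧ U ⊓ W' = ⊥ ∧ U ⊔ W' = V := by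
  classical
  letI : CommGroup V := { (inferInstance : Group V) with
    mul_comm := fun a b => hVab.is_comm.comm a b }
  letI := Fintype.ofFinite A
  let φ : A →* MulAut V := V.normalizerMonoidHom.comp (Subgroup.inclusion hAV)
  have hφ : ∀ (a : A) (v : V), ((φ a v : V) : G) = a * v * (a : G)⁻¹ := fun _ _ => rfl
  have hφU : ∀ (a : A) (v : V), (v : G) ∈ U → ((φ a v : V) : G) ∈ U := fun a v hv => by
    rw [hφ]; exact CfsgLib.Coprime.mem_normalizer_conj (hAU a.2) hv
  -- the projection on `U` along `W`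
  have hex : ∀ v : V, ∃ u : V, (u : G) ∈ U ∧ (u : G)⁻¹ * v ∈ W := by
    intro v
    have hv : (v : G) ∈ U ⊔ W := by rw [hUWV]; exact v.2
    have hUW' : U ≤ Subgroup.normalizer (W : Set G) := fun u hu =>
      CfsgLib.Coprime.mem_normalizer_of_forall_conj fun x hx => by
        have e : (⟨u, hUV hu⟩ : V) * ⟨x, hWV hx⟩ = ⟨x, hWV hx⟩ * ⟨u, hUV hu⟩ := mul_comm _ _
        rw [show u * x = x * u from congrArg Subtype.val e, mul_inv_cancel_right]
        exact hx
    obtain ⟨u, hu, w, hw, e⟩ := CfsgLib.Coprime.exists_mul_of_mem_sup hUW' hv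
    exact ⟨⟨u, hUV hu⟩, hu, by rw [e]; simpa using hw⟩
  choose π hπU hπW using hex
  have huniq : ∀ (v u : V), (u : G) ∈ U → (u : G)⁻¹ * v ∈ W → π v = u := by
    intro v u hu hw
    have h1 : (u : G)⁻¹ * π v ∈ U ⊓ W := by
      refine ⟨U.mul_mem (U.inv_mem hu) (hπU v), ?_⟩
      have := W.mul_mem hw (W.inv_mem (hπW v))
      simpa [mul_assoc] using this
    rw [hUW, Subgroup.mem_bot, inv_mul_eq_one] at h1
    exact Subtype.ext h1.symm
  let π' : V →* V := MonoidHom.mk' π fun x y => huniq _ _ (U.mul_mem (hπU x) (hπU y)) (by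
    have e : ((π x * π y)⁻¹ * (x * y) : V) = ((π x)⁻¹ * x) * ((π y)⁻¹ * y) := by
      rw [mul_inv, mul_mul_mul_comm]
    have := W.mul_mem (hπW x) (hπW y)
    rw [show ((π x * π y : V) : G)⁻¹ * ((x * y : V) : G) = (((π x * π y)⁻¹ * (x * y) : V) : G) from rfl, e]
    exact this)
  let Φ : V →* V := ∏ a : A, (φ a).toMonoidHom.comp (π'.comp (φ a⁻¹).toMonoidHom)
  have hΦ : ∀ v, Φ v = ∏ a : A, φ a (π (φ a⁻¹ v)) := fun v => MonoidHom.finsetProd_apply _ _ _
  have hΦU : ∀ v, ((Φ v : V) : G) ∈ U := by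
    intro v
    rw [hΦ]
    exact Subgroup.mem_subgroupOf.1
      (Subgroup.prod_mem (U.subgroupOf V) fun a _ => Subgroup.mem_subgroupOf.2 (hφU a _ (hπU _)))
  have hΦu : ∀ u : V, (u : G) ∈ U → Φ u = u ^ Nat.card A := by
    intro u hu
    rw [hΦ, Finset.prod_congr rfl (fun a _ => ?_), Finset.prod_const, Finset.card_univ,
      ← Nat.card_eq_fintype_card]
    rw [huniq _ _ (hφU a⁻¹ u hu) (by simp), ← MulAut.mul_apply, ← map_mul, mul_inv_cancel, map_one,
      MulAut.one_apply]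
  have hΦeq : ∀ (b : A) (v : V), Φ (φ b v) = φ b (Φ v) := by
    intro b v
    rw [hΦ, hΦ, map_prod]
    refine (Fintype.prod_equiv (Equiv.mulLeft b) _ _ fun a => ?_).symm
    rw [Equiv.coe_mulLeft, ← MulAut.mul_apply, ← map_mul, mul_inv_rev, ← MulAut.mul_apply,
      ← map_mul, inv_mul_cancel_right]
  refine ⟨Φ.ker.map V.subtype, Subgroup.map_subtype_le _, ?_, ?_, ?_⟩
  · intro b hb
    refine CfsgLib.Coprime.mem_normalizer_of_forall_conj ?_
    rintro _ ⟨v, hv, rfl⟩
    refine ⟨φ ⟨b, hb⟩ v, ?_, rfl⟩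
    rw [SetLike.mem_coe, MonoidHom.mem_ker, hΦeq, MonoidHom.mem_ker.1 hv, map_one]
  · rw [eq_bot_iff]
    rintro _ ⟨hu, v, hv, rfl⟩
    have h := hΦu v hu
    rw [MonoidHom.mem_ker.1 hv] at h
    have h2 : (powCoprime hcop.symm) v = (powCoprime hcop.symm) 1 := by
      rw [powCoprime_apply, powCoprime_apply, one_pow, ← h]
    rw [(powCoprime hcop.symm).injective h2]
    exact Subgroup.mem_bot.2 rfl
  · refine le_antisymm (sup_le hUV (Subgroup.map_subtype_le _)) fun v hv => ?_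
    obtain ⟨u, hu⟩ := (powCoprime (G := U) (n := Nat.card A)
      (hcop.symm.coprime_dvd_left (Subgroup.card_dvd_of_le hUV))).surjective ⟨_, hΦU ⟨v, hv⟩⟩
    have hu' : (⟨u, hUV u.2⟩ : V) ^ Nat.card A = Φ ⟨v, hv⟩ :=
      Subtype.ext (by simpa [powCoprime_apply] using congrArg Subtype.val hu)
    have hk : (⟨u, hUV u.2⟩⁻¹ * ⟨v, hv⟩ : V) ∈ Φ.ker := by
      rw [MonoidHom.mem_ker, map_mul, map_inv, hΦu _ u.2, hu', inv_mul_cancel]
    have := Subgroup.mul_mem_sup u.2 (Subgroup.mem_map_of_mem V.subtype hk)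
    simpa using this

end Cfsg.Agent.S0660
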