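import Cfsg.Statements.S0663
import Cfsg.Agent.Lib.Coprime.Commutator

set_option autoImplicit false
open Cfsg

namespace Cfsg.Agent.S0663

open Subgroup
open scoped commutatorElement

theorem iter_facts {L : Type*} [Group L] [Finite L] {p : ℕ} [Fact p.Prime] (N P : Subgroup L)
    (hN : IsPGroup p N) (hP : IsPGroup p P) (hPN : P ≤ normalizer (N : Set L)) (n : ℕ)
    (hn : Nat.card N = p ^ n) :
    ∀ i, Cfsg.iterCommutator N P i ≤ N ∧ P ≤ normalizer (Cfsg.iterCommutator N P i : Set L) ∧
      ∃ e, Nat.card (Cfsg.iterCommutator N P i) = p ^ e ∧ e ≤ n - i ∧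
        (e = 0 ↔ Cfsg.iterCommutator N P i = ⊥) := by
  have hp := (Fact.out : p.Prime)
  have key : ∀ U : Subgroup L, IsPGroup p U → ∀ e, Nat.card U = p ^ e → (e = 0 ↔ U = ⊥) := by
    intro U _ e he
    constructor
    · rintro rfl; exact eq_bot_of_card_eq U (by simpa using he)
    · rintro rfl; rw [card_bot] at he; exact (Nat.pow_eq_one.1 he.symm).resolve_left hp.ne_one
  intro i
  induction i with
  | zero => exact ⟨le_rfl, hPN, n, hn, le_rfl, key N hN n hn⟩
  | succ i ih =>
    obtain ⟨hle, hnorm, e, he, hei, hbot⟩ := ih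
    have hle' : Cfsg.iterCommutator N P (i + 1) ≤ N :=
      (CfsgLib.Coprime.commutator_le_of_normalizes hnorm).trans hle
    obtain ⟨e', he'⟩ := (hN.to_le hle').exists_card_eq
    refine ⟨hle', CfsgLib.Coprime.le_normalizer_commutator_right _ _, e', he', ?_,
      key _ (hN.to_le hle') e' he'⟩
    by_cases hb : Cfsg.iterCommutator N P i = ⊥
    · have : Cfsg.iterCommutator N P (i + 1) = ⊥ := le_bot_iff.1
        ((CfsgLib.Coprime.commutator_le_of_normalizes hnorm).trans hb.le)
      rw [((key _ (hN.to_le hle') e' he').2 this)]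
      exact Nat.zero_le _
    · have hlt := CfsgLib.Coprime.commutator_lt_of_isPGroup (hN.to_le hle) hP hnorm hb
      have hc : Nat.card (Cfsg.iterCommutator N P (i + 1)) < Nat.card (Cfsg.iterCommutator N P i) :=
        lt_of_not_ge fun h => hlt.ne (eq_of_le_of_card_ge hlt.le h)
      rw [he', he] at hc
      have := (Nat.pow_lt_pow_iff_right hp.one_lt).1 hc
      omega

theorem chain_of_uniserial {L : Type*} [Group L] [Finite L] {p : ℕ} [Fact p.Prime] (N G : Subgroup L)
    (hN : IsPGroup p N) (hG : IsPGroup p G) (hGN : G ≤ normalizer (N : Set L)) (n : ℕ)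
    (hn : Nat.card N = p ^ n)
    (hu : ∀ H : Subgroup L, H ≤ N → G ≤ normalizer (H : Set L) → H ≠ ⊥ → (⁅H, G⁆).relIndex H = p) :
    Cfsg.iterCommutator N G (n - 1) ≠ ⊥ ∨ n = 0 := by
  have hp := (Fact.out : p.Prime)
  have hf := iter_facts N G hN hG hGN n hn
  have : ∀ i, i ≤ n → Nat.card (Cfsg.iterCommutator N G i) = p ^ (n - i) := by
    intro i
    induction i with
    | zero => intro _; exact hn
    | succ i ih =>
      intro hi
      obtain ⟨hle, hnorm, -⟩ := hf i
      have hne : Cfsg.iterCommutator N G i ≠ ⊥ := fun h => by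
        have := ih (by omega)
        rw [h, card_bot] at this
        have := (Nat.pow_eq_one.1 this.symm).resolve_left hp.ne_one
        omega
      have h1 := relIndex_mul_relIndex (⊥ : Subgroup L) (⁅Cfsg.iterCommutator N G i, G⁆)
        (Cfsg.iterCommutator N G i) bot_le (CfsgLib.Coprime.commutator_le_of_normalizes hnorm)
      rw [relIndex_bot_left, relIndex_bot_left, hu _ hle hnorm hne, ih (by omega),
        show n - i = n - (i + 1) + 1 by omega, pow_succ] at h1
      exact Nat.eq_of_mul_eq_mul_right hp.pos h1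
  rcases Nat.eq_zero_or_pos n with h | h
  · exact Or.inr h
  · refine Or.inl fun hb => ?_
    have h2 := this (n - 1) (by omega)
    rw [hb, card_bot, show n - (n - 1) = 1 by omega, pow_one] at h2
    exact hp.ne_one h2.symm

theorem structure_of_chain {L : Type*} [Group L] [Finite L] {p : ℕ} [Fact p.Prime] (N G : Subgroup L)
    (hN : IsPGroup p N) (hG : IsPGroup p G) (hGN : G ≤ normalizer (N : Set L)) (n : ℕ)
    (hn : Nat.card N = p ^ n) (hch : Cfsg.iterCommutator N G (n - 1) ≠ ⊥ ∨ n = 0) :
    ∀ H : Subgroup L, H ≤ N → G ≤ normalizer (H : Set L) →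
      ((∃ i ≤ n, H = Cfsg.iterCommutator N G i) ∧ N ≤ normalizer (H : Set L)) ∧
      (H ≠ ⊥ → (⁅H, G⁆).relIndex H = p) := by
  have hp := (Fact.out : p.Prime)
  set P := G ⊔ N with hP
  have hPp : IsPGroup p P := IsPGroup.to_sup_of_normal_right' hG hN hGN
  have hPN : P ≤ normalizer (N : Set L) := sup_le hGN le_normalizer
  have hf := iter_facts N G hN hG hGN n hn
  have hfP := iter_facts N P hN hPp hPN n hn
  set c := Cfsg.iterCommutator N G with hc
  set K := Cfsg.iterCommutator N P with hK
  have hcK : ∀ i, c i ≤ K i := by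
    intro i
    induction i with
    | zero => exact le_rfl
    | succ i ih => exact commutator_mono ih le_sup_left
  -- exact orders
  choose hcle hcnorm e he hei hbot using hf
  have hbotn : c n = ⊥ := (hbot n).1 (by have := hei n; omega)
  have hsucc : ∀ i, e (i + 1) = 0 ∨ e (i + 1) < e i := by
    intro i
    by_cases hb : c i = ⊥
    · exact Or.inl ((hbot (i + 1)).2 (le_bot_iff.1
        ((CfsgLib.Coprime.commutator_le_of_normalizes (hcnorm i)).trans hb.le)))
    · right
      have hlt := CfsgLib.Coprime.commutator_lt_of_isPGroup (hN.to_le (hcle i)) hG (hcnorm i) hb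
      have hc' : Nat.card (c (i + 1)) < Nat.card (c i) :=
        lt_of_not_ge fun h => hlt.ne (eq_of_le_of_card_ge hlt.le h)
      rw [he, he] at hc'
      exact (Nat.pow_lt_pow_iff_right hp.one_lt).1 hc'
  have heq : ∀ i, i ≤ n → e i = n - i := by
    intro i hi
    refine le_antisymm (hei i) ?_
    rcases hch with h | h
    swap
    · omega
    have hlast : 1 ≤ e (n - 1) := Nat.one_le_iff_ne_zero.2 fun h0 => h ((hbot _).1 h0)
    have down : ∀ k, k ≤ n - 1 → 1 + k ≤ e (n - 1 - k) := by
      intro k
      induction k with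
      | zero => intro _; simpa using hlast
      | succ k ihk =>
        intro hk
        have h1 := hsucc (n - 1 - (k + 1))
        rw [show n - 1 - (k + 1) + 1 = n - 1 - k by omega] at h1
        have := ihk (by omega)
        omega
    rcases Nat.eq_or_lt_of_le hi with rfl | hi'
    · omega
    · have := down (n - 1 - i) (by omega)
      rw [show n - 1 - (n - 1 - i) = i by omega] at this
      omega
  have hKeq : ∀ i, i ≤ n → c i = K i := by
    intro i hi
    refine eq_of_le_of_card_ge (hcK i) ?_
    obtain ⟨-, -, e', he', hei', -⟩ := hfP i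
    rw [he' , he, heq i hi]
    exact Nat.pow_le_pow_right hp.pos hei'
  have hnormN : ∀ i, i ≤ n → N ≤ normalizer (c i : Set L) := fun i hi => by
    rw [hKeq i hi]; exact le_sup_right.trans (hfP i).2.1
  intro H hHN hHG
  have hmain : ∃ i ≤ n, H = c i := by
    by_cases hH : H = ⊥
    · exact ⟨n, le_rfl, by rw [hH, hbotn]⟩
    classical
    have hex : ∃ i, ¬ H ≤ c i := ⟨n, fun h => hH (le_bot_iff.1 (hbotn ▸ h))⟩
    obtain ⟨i, hfind⟩ : ∃ i, Nat.find hex = i + 1 :=
      ⟨Nat.find hex - 1, by
        have : Nat.find hex ≠ 0 := fun h0 => by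
          have := Nat.find_spec hex
          rw [h0] at this
          exact this hHN
        omega⟩
    have hnle : ¬ H ≤ c (i + 1) := hfind ▸ Nat.find_spec hex
    have hle : H ≤ c i := not_not.1 (Nat.find_min hex (by omega))
    have hin : i + 1 ≤ n := hfind ▸ Nat.find_min' hex (fun h => hH (le_bot_iff.1 (hbotn ▸ h)))
    have hsup : H ⊔ c (i + 1) = c i := by
      have h1 : H ⊔ c (i + 1) ≤ c i :=
        sup_le hle (CfsgLib.Coprime.commutator_le_of_normalizes (hcnorm i))
      refine eq_of_le_of_card_ge h1 ?_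
      obtain ⟨f, hff⟩ := (hN.to_le (h1.trans (hcle i))).exists_card_eq
      rw [he, heq i (by omega), hff]
      refine Nat.pow_le_pow_right hp.pos ?_
      have hlt : c (i + 1) < H ⊔ c (i + 1) :=
        lt_of_le_of_ne le_sup_right fun h => hnle (h ▸ le_sup_left)
      have hc' : Nat.card (c (i + 1)) < Nat.card ↥(H ⊔ c (i + 1)) :=
        lt_of_not_ge fun h => hlt.ne (eq_of_le_of_card_ge hlt.le h)
      rw [he, heq _ hin, hff] at hc'
      have := (Nat.pow_lt_pow_iff_right hp.one_lt).1 hc'
      omega
    have hall : ∀ k, i + 1 + k ≤ n → c i ≤ H ⊔ c (i + 1 + k) := by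
      intro k
      induction k with
      | zero => intro _; exact hsup.ge
      | succ k ihk =>
        intro hk
        have ih' := ihk (by omega)
        refine ih'.trans (sup_le le_sup_left ?_)
        have hj : c (i + 1 + k) = ⁅c (i + k), G⁆ := by rw [show i + 1 + k = i + k + 1 by omega]; rfl
        conv_lhs => rw [hj]
        rw [commutator_le]
        intro z hz g hg
        have hanti : c (i + k) ≤ c i := by
          clear hj hz ih' ihk hk
          induction k with
          | zero => exact le_rfl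
          | succ k ihk => exact (CfsgLib.Coprime.commutator_le_of_normalizes (hcnorm _)).trans ihk
        obtain ⟨x, hx, y, hy, rfl⟩ := CfsgLib.Coprime.exists_mul_of_mem_sup (H := H) (N := c (i + 1 + k))
          (hHN.trans (hnormN _ (by omega))) (ih' (hanti hz))
        have e1 : ⁅x * y, g⁆ = x * ⁅y, g⁆ * x⁻¹ * ⁅x, g⁆ := by simp [commutatorElement_def, mul_assoc]
        rw [e1]
        have hy' : ⁅y, g⁆ ∈ c (i + 1 + (k + 1)) := by
          rw [show i + 1 + (k + 1) = i + 1 + k + 1 by omega]
          exact commutator_mem_commutator hy hg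
        exact mul_mem (mul_mem (mul_mem (mem_sup_left hx) (mem_sup_right hy')) (inv_mem (mem_sup_left hx)))
          (mem_sup_left (CfsgLib.Coprime.commutator_le_of_normalizes hHG (commutator_mem_commutator hx hg)))
    have := hall (n - (i + 1)) (by omega)
    rw [show i + 1 + (n - (i + 1)) = n by omega, hbotn, sup_bot_eq] at this
    exact ⟨i, by omega, le_antisymm hle this⟩
  refine ⟨⟨hmain, ?_⟩, fun hH => ?_⟩
  · obtain ⟨i, hi, rfl⟩ := hmain
    exact hnormN i hi
  · obtain ⟨i, hi, rfl⟩ := hmain
    have hin : i < n := lt_of_le_of_ne hi fun h => hH (h ▸ hbotn)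
    have h1 := relIndex_mul_relIndex (⊥ : Subgroup L) (c (i + 1)) (c i) bot_le
      (CfsgLib.Coprime.commutator_le_of_normalizes (hcnorm i))
    rw [relIndex_bot_left, relIndex_bot_left, he, he, heq i hi, heq (i + 1) hin,
      show n - i = n - (i + 1) + 1 by omega, pow_succ] at h1
    exact Nat.eq_of_mul_eq_mul_left (pow_pos hp.pos _) h1

/-- A p-group acts uniserially on a p-group N of order p^n exactly when the iterated commutator chain from N has length n; in that case the chain terms are all the invariant subgroups of N and they are normal in N. -/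
theorem result {L : Type*} [Group L] [Finite L] {p : ℕ} [Fact p.Prime] (N G : Subgroup L) (hN : IsPGroup p N) (hG : IsPGroup p G) (hGN : G ≤ Subgroup.normalizer (N : Set L)) (n : ℕ) (hn : Nat.card N = p ^ n) : ((∀ H : Subgroup L, H ≤ N → G ≤ Subgroup.normalizer (H : Set L) → H ≠ ⊥ → (⁅H, G⁆).relIndex H = p) ↔ Cfsg.iterCommutator N G (n - 1) ≠ ⊥ ∨ n = 0) ∧ ((∀ H : Subgroup L, H ≤ N → G ≤ Subgroup.normalizer (H : Set L) → H ≠ ⊥ → (⁅H, G⁆).relIndex H = p) → ∀ H : Subgroup L, H ≤ N → G ≤ Subgroup.normalizer (H : Set L) → (∃ i ≤ n, H = Cfsg.iterCommutator N G i) ∧ N ≤ Subgroup.normalizer (H : Set L)) := by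
  refine ⟨⟨chain_of_uniserial N G hN hG hGN n hn, fun h H hH hGH =>
    (structure_of_chain N G hN hG hGN n hn h H hH hGH).2⟩, fun hu H hH hGH => ?_⟩
  exact (structure_of_chain N G hN hG hGN n hn (chain_of_uniserial N G hN hG hGN n hn hu) H hH hGH).1

end Cfsg.Agent.S0663
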