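import Cfsg.Statements.S0666
import Cfsg.Agent.Lib.Frobenius.Basic
import Cfsg.Agent.Lib.Frobenius.Theorem
import Cfsg.Agent.Lib.Coprime.Action

set_option autoImplicit false
open Cfsg

namespace Cfsg.Agent.S0666

open Subgroup
open scoped commutatorElement

open scoped Pointwise

theorem prod_fixed {A V : Type*} [Group A] [CommGroup V] (φ : A →* MulAut V) (U : Subgroup A)
    [Fintype U] (v : V) {b : A} (hb : b ∈ U) : φ b (∏ u : U, φ u v) = ∏ u : U, φ u v := by
  rw [map_prod]
  refine Fintype.prod_equiv (Equiv.mulLeft (⟨b, hb⟩ : U)) _ _ fun u => ?_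
  simp
theorem pow_eq_self {A V : Type*} [Group A] [Finite A] [Nontrivial A] [CommGroup V]
    (φ : A →* MulAut V) {ι : Type*} [Fintype ι] (U : ι → Subgroup A)
    (hfix : ∀ i, ∀ w : V, (∀ b ∈ U i, φ b w = w) → w = 1)
    (htop : ∀ w : V, (∀ b : A, φ b w = w) → w = 1)
    (hpart : ∀ a : A, a ≠ 1 → ∃! i, a ∈ U i) (v : V) :
    v ^ Fintype.card ι = v := by
  classical
  haveI := Fintype.ofFinite A
  have hcover : (Finset.univ : Finset A).erase 1 =
      Finset.univ.biUnion (fun i => (Finset.univ.filter (· ∈ U i)).erase 1) := by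
    ext a
    by_cases ha : a = 1
    · simp [ha]
    · obtain ⟨i, hi, -⟩ := hpart a ha
      simp [ha]; exact ⟨i, hi⟩
  have hdisj : Set.PairwiseDisjoint (Finset.univ : Finset ι)
      (fun i => (Finset.univ.filter (· ∈ U i)).erase 1) := by
    intro i _ j _ hij
    show Disjoint _ _
    rw [Finset.disjoint_left]
    intro a hai haj
    simp only [Finset.mem_erase, Finset.mem_filter] at hai haj
    exact hij ((hpart a hai.1).unique hai.2.2 haj.2.2)
  have hpiece : ∀ i, ∏ a ∈ (Finset.univ.filter (· ∈ U i)).erase 1, φ a v = v⁻¹ := by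
    intro i
    have h1 : (1 : A) ∈ Finset.univ.filter (· ∈ U i) := by simp
    have h2 : ∏ a ∈ Finset.univ.filter (· ∈ U i), φ a v = 1 := by
      rw [← hfix i _ fun b hb => prod_fixed φ (U i) v hb]
      exact Finset.prod_subtype _ (by simp) _
    rw [← Finset.mul_prod_erase _ _ h1, map_one, MulAut.one_apply] at h2
    exact eq_inv_of_mul_eq_one_right h2
  have hall : ∏ a ∈ (Finset.univ : Finset A).erase 1, φ a v = v⁻¹ := by
    have h2 : ∏ a : A, φ a v = 1 := htop _ fun b => by
      rw [map_prod]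
      exact Fintype.prod_equiv (Equiv.mulLeft b) _ _ fun u => by simp
    rw [← Finset.mul_prod_erase _ _ (Finset.mem_univ (1 : A)), map_one, MulAut.one_apply] at h2
    exact eq_inv_of_mul_eq_one_right h2
  rw [hcover, Finset.prod_biUnion hdisj, Finset.prod_congr rfl (fun i _ => hpiece i),
    Finset.prod_const, Finset.card_univ, inv_pow, inv_inj] at hall
  exact hall

/-- A Frobenius group acting on a nontrivial abelian group of order prime to that of its kernel, with the kernel acting without nontrivial fixed points, has a complement with a nontrivial fixed point. -/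
theorem result {G : Type*} [Group G] [Finite G] (V F : Subgroup G) (hVab : IsMulCommutative V) (hV1 : V ≠ ⊥) (hFV : F ≤ Subgroup.normalizer (V : Set G)) (H : Subgroup ↥F) (hH : Cfsg.IsFrobeniusComplement H) (hcop : (Nat.card V).Coprime (Nat.card (Cfsg.frobeniusKernel H))) (hCK : V ⊓ Subgroup.centralizer (Subtype.val '' Cfsg.frobeniusKernel H : Set G) = ⊥) : V ⊓ Subgroup.centralizer ((H.map F.subtype : Subgroup G) : Set G) ≠ ⊥ := by
  classical
  intro hC
  letI : CommGroup V := { (inferInstance : Group V) with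
    mul_comm := fun a b => hVab.is_comm.comm a b }
  obtain ⟨N, hN, -, hNH⟩ := CfsgLib.Frobenius.exists_normal_kernel hH
  let φ : F →* MulAut V := V.normalizerMonoidHom.comp (Subgroup.inclusion hFV)
  have hφ : ∀ (a : F) (v : V), ((φ a v : V) : G) = a * v * (a : G)⁻¹ := fun _ _ => rfl
  have hfixH : ∀ w : V, (∀ b ∈ H, φ b w = w) → w = 1 := by
    intro w hw
    have h1 : (w : G) ∈ V ⊓ centralizer ((H.map F.subtype : Subgroup G) : Set G) := by
      refine ⟨w.2, mem_centralizer_iff.2 ?_⟩
      rintro _ ⟨b, hb, rfl⟩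
      have := congrArg Subtype.val (hw b hb)
      rw [hφ, mul_inv_eq_iff_eq_mul] at this
      exact this
    rw [hC, mem_bot] at h1
    exact Subtype.ext h1
  have hfixK : ∀ w : V, (∀ b ∈ N, φ b w = w) → w = 1 := by
    intro w hw
    have h1 : (w : G) ∈ V ⊓ centralizer (Subtype.val '' Cfsg.frobeniusKernel H : Set G) := by
      refine ⟨w.2, mem_centralizer_iff.2 ?_⟩
      rintro _ ⟨b, hb, rfl⟩
      have := congrArg Subtype.val (hw b (show b ∈ (N : Set F) by rw [hN]; exact hb))
      rw [hφ, mul_inv_eq_iff_eq_mul] at this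
      exact this
    rw [hCK, mem_bot] at h1
    exact Subtype.ext h1
  haveI : Nontrivial F := by
    obtain ⟨x, hx⟩ := (ne_bot_iff_exists_ne_one.1 hH.1)
    exact ⟨⟨(x : F), 1, fun h => hx (Subtype.ext h)⟩⟩
  let U : Option (F ⧸ H) → Subgroup F := fun i => i.elim N fun q => H.map (MulAut.conj q.out).toMonoidHom
  have hmemU : ∀ (q : F ⧸ H) (a : F), a ∈ U (some q) ↔ q.out⁻¹ * a * q.out ∈ H := by
    intro q a
    constructor
    · rintro ⟨b, hb, rfl⟩
      show q.out⁻¹ * (q.out * b * q.out⁻¹) * q.out ∈ H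
      rw [show q.out⁻¹ * (q.out * b * q.out⁻¹) * q.out = b by group]
      exact hb
    · intro h
      exact ⟨_, h, by show q.out * (q.out⁻¹ * a * q.out) * q.out⁻¹ = a; group⟩
  letI := Fintype.ofFinite (F ⧸ H)
  have hpow := fun v : V => pow_eq_self φ U ?_ ?_ ?_ v
  · have hcard : Fintype.card (Option (F ⧸ H)) = Nat.card (Cfsg.frobeniusKernel H) + 1 := by
      rw [Fintype.card_option, ← Nat.card_eq_fintype_card, CfsgLib.Frobenius.ncard_frobeniusKernel hH |>.symm.trans
        (Nat.card_coe_set_eq _).symm |>.symm]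
      rfl
    apply hV1
    rw [eq_bot_iff]
    intro x hx
    have h := hpow ⟨x, hx⟩
    rw [hcard, pow_succ, mul_eq_right] at h
    have h2 : (powCoprime hcop) (⟨x, hx⟩ : V) = (powCoprime hcop) 1 := by
      rw [powCoprime_apply, powCoprime_apply, one_pow, h]
    exact mem_bot.2 (congrArg Subtype.val ((powCoprime hcop).injective h2))
  · rintro (_ | q) w hw
    · exact hfixK w hw
    · have h1 : φ q.out⁻¹ w = 1 := by
        refine hfixH _ fun b hb => ?_
        have := hw (q.out * b * q.out⁻¹) ⟨b, hb, rfl⟩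
        rw [map_mul, map_mul, MulAut.mul_apply, MulAut.mul_apply] at this
        have h3 := congrArg (φ q.out⁻¹) this
        rwa [← MulAut.mul_apply, ← map_mul, inv_mul_cancel, map_one, MulAut.one_apply] at h3
      exact (MulEquiv.map_eq_one_iff _).1 h1
  · exact fun w hw => hfixK w fun b _ => hw b
  · intro a ha
    by_cases hK : a ∈ Cfsg.frobeniusKernel H
    · refine ⟨none, show a ∈ (N : Set F) by rw [hN]; exact hK, ?_⟩
      rintro (_ | q) hq
      · rfl
      · exfalso
        rcases hK with h | h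
        · exact ha h
        · exact h q.out (CfsgLib.Frobenius.mem_conj_smul_iff.2 ((hmemU q a).1 hq))
    · obtain ⟨g, hg⟩ : ∃ g : F, a ∈ MulAut.conj g • H := by
        by_contra h
        push Not at h
        exact hK (Or.inr h)
      have hg' : (QuotientGroup.mk g : F ⧸ H).out⁻¹ * a * (QuotientGroup.mk g : F ⧸ H).out ∈ H := by
        obtain ⟨h, hh⟩ := QuotientGroup.mk_out_eq_mul H g
        rw [hh, show (g * (h : F))⁻¹ * a * (g * h) = (h : F)⁻¹ * (g⁻¹ * a * g) * h by group]
        exact H.mul_mem (H.mul_mem (H.inv_mem h.2) (CfsgLib.Frobenius.mem_conj_smul_iff.1 hg)) h.2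
      refine ⟨some (QuotientGroup.mk g), (hmemU _ _).2 hg', ?_⟩
      rintro (_ | q) hq
      · exact absurd (show a ∈ Cfsg.frobeniusKernel H by rw [← hN]; exact hq) hK
      · have := CfsgLib.Frobenius.coset_unique hH ha ((hmemU q a).1 hq) hg'
        rw [QuotientGroup.out_eq', QuotientGroup.out_eq'] at this
        rw [this]

end Cfsg.Agent.S0666
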