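import Cfsg.Statements.S0668
import Cfsg.Agent.Lib.PermGroup.PermModule

set_option autoImplicit false
open Cfsg

namespace Cfsg.Agent.S0668

/-- The equivariant linear maps between the permutation modules of two finite `G`-sets form a space whose dimension is the number of `G`-orbits on the product of the two sets. -/
theorem result {G : Type*} [Group G] {K : Type*} [Field K] {Ω₁ Ω₂ : Type*} [Fintype Ω₁] [Fintype Ω₂] [MulAction G Ω₁] [MulAction G Ω₂] : Module.finrank K ((Cfsg.permRep K G Ω₁).linHom (Cfsg.permRep K G Ω₂)).invariants = Nat.card (MulAction.orbitRel.Quotient G (Ω₁ × Ω₂)) := by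
  classical
  open CfsgLib.PermGroup in
  · let Q := MulAction.orbitRel.Quotient G (Ω₁ × Ω₂)
    let π : Ω₁ × Ω₂ → Q := Quotient.mk''
    let ker : (Q → K) → Ω₂ → Ω₁ → K := fun F y x => F (π (x, y))
    have hker : ∀ (F : Q → K) (g : G) y x, ker F (g • y) (g • x) = ker F y x := fun F g y x =>
      congrArg F (Quotient.sound' ⟨g, rfl⟩)
    have hmem : ∀ φ : (Ω₁ → K) →ₗ[K] (Ω₂ → K),
        φ ∈ ((Cfsg.permRep K G Ω₁).linHom (Cfsg.permRep K G Ω₂)).invariants ↔
          ∀ g v, φ (Cfsg.permRep K G Ω₁ g v) = Cfsg.permRep K G Ω₂ g (φ v) := by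
      intro φ
      rw [Representation.mem_invariants]
      constructor
      · intro h g v
        have h1 := LinearMap.congr_fun (h g) (Cfsg.permRep K G Ω₁ g v)
        rw [Representation.linHom_apply, LinearMap.comp_apply, LinearMap.comp_apply] at h1
        rw [← h1, ← Module.End.mul_apply (f := Cfsg.permRep K G Ω₁ g⁻¹), ← map_mul, inv_mul_cancel,
          map_one, Module.End.one_apply]
      · intro h g
        refine LinearMap.ext fun v => ?_
        rw [Representation.linHom_apply, LinearMap.comp_apply, LinearMap.comp_apply, ← h,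
          ← Module.End.mul_apply, ← map_mul, mul_inv_cancel, map_one, Module.End.one_apply]
    let e : (Q → K) ≃ₗ[K] ((Cfsg.permRep K G Ω₁).linHom (Cfsg.permRep K G Ω₂)).invariants :=
      { toFun := fun F => ⟨kernelMap (ker F), (hmem _).mpr (kernelMap_equivariant _ (hker F))⟩
        map_add' := fun F F' => Subtype.ext (LinearMap.ext fun v => funext fun s => by
          show kernelMap (ker (F + F')) v s = kernelMap (ker F) v s + kernelMap (ker F') v s
          simp only [kernelMap_apply, ker, Pi.add_apply, add_mul, Finset.sum_add_distrib])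
        map_smul' := fun c F => Subtype.ext (LinearMap.ext fun v => funext fun s => by
          show kernelMap (ker (c • F)) v s = c • kernelMap (ker F) v s
          simp only [kernelMap_apply, ker, Pi.smul_apply, smul_eq_mul, Finset.mul_sum, mul_assoc])
        invFun := fun φ q => Quotient.liftOn' q
          (fun z => (φ : (Ω₁ → K) →ₗ[K] (Ω₂ → K)) (Pi.single z.1 1) z.2) (by
            rintro ⟨x, y⟩ ⟨x', y'⟩ ⟨g, hg⟩
            obtain ⟨rfl, rfl⟩ : g • x' = x ∧ g • y' = y :=
              ⟨congrArg Prod.fst hg, congrArg Prod.snd hg⟩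
            show (φ : (Ω₁ → K) →ₗ[K] (Ω₂ → K)) (Pi.single (g • x') 1) (g • y') = _
            rw [← permRep_single, (hmem _).mp φ.2, permRep_apply, inv_smul_smul])
        left_inv := fun F => funext fun q => by
          induction q using Quotient.inductionOn' with
          | h z =>
            show kernelMap (ker F) (Pi.single z.1 1) z.2 = _
            rw [kernelMap_single]
        right_inv := fun φ => Subtype.ext ((Pi.basisFun K Ω₁).ext fun x => funext fun s => by
          rw [Pi.basisFun_apply]
          show kernelMap _ (Pi.single x 1) s = _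
          rw [kernelMap_single]
          rfl) }
    have : Fintype Q := Fintype.ofFinite Q
    rw [← e.finrank_eq, Module.finrank_fintype_fun_eq_card, Nat.card_eq_fintype_card]

end Cfsg.Agent.S0668
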