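import Cfsg.Statements.S0681
import Cfsg.Agent.Lib.PermGroup.NearField

set_option autoImplicit false
open Cfsg

namespace Cfsg.Agent.S0681

/-- The affine maps `x ↦ x * a + b`, `a ≠ 0`, of a near-field form a sharply doubly transitive permutation group. -/
theorem result {F : Type*} [Cfsg.NearField F] : ∃ H : Subgroup (Equiv.Perm F), (∀ σ : Equiv.Perm F, σ ∈ H ↔ ∃ a b : F, a ≠ 0 ∧ ∀ x : F, σ x = x * a + b) ∧ MulAction.IsMultiplyPretransitive H F 2 ∧ ∀ x : Fin 2 ↪ F, MulAction.stabilizer H x = ⊥ := by
  open CfsgLib.PermGroup.NF in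
  · let H : Subgroup (Equiv.Perm F) :=
      { carrier := {σ | ∃ a b : F, a ≠ 0 ∧ ∀ x : F, σ x = x * a + b}
        one_mem' := ⟨1, 0, (NearField.zero_ne_one).symm, fun x => by simp⟩
        mul_mem' := by
          rintro σ τ ⟨a, b, ha, hσ⟩ ⟨c, d, hc, hτ⟩
          refine ⟨c * a, d * a + b, ne_zero_mul hc ha, fun x => ?_⟩
          rw [Equiv.Perm.mul_apply, hσ, hτ, NearField.right_distrib, mul_assoc, add_assoc]
        inv_mem' := by
          rintro σ ⟨a, b, ha, hσ⟩
          obtain ⟨c, hac, hca⟩ := NearField.exists_inv a ha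
          refine ⟨c, (-b) * c, fun h => ?_, fun x => ?_⟩
          · rw [h, NearField.mul_zero] at hac; exact NearField.zero_ne_one hac
          · apply σ.injective
            rw [Equiv.Perm.inv_def, Equiv.apply_symm_apply, hσ, ← NearField.right_distrib,
              mul_assoc, hca, mul_one, neg_add_cancel_right] }
    refine ⟨H, fun σ => Iff.rfl, ?_, ?_⟩
    · rw [MulAction.is_two_pretransitive_iff]
      intro x₁ x₂ y₁ y₂ hx hy
      have hd : x₁ - x₂ ≠ 0 := sub_ne_zero.mpr hx
      obtain ⟨c, hc1, hc2⟩ := NearField.exists_inv _ hd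
      set a := c * (y₁ - y₂) with hadef
      have hcne : c ≠ 0 := fun h => by
        rw [h, NearField.mul_zero] at hc1; exact NearField.zero_ne_one hc1
      have ha : a ≠ 0 := ne_zero_mul hcne (sub_ne_zero.mpr hy)
      obtain ⟨a', haa', ha'a⟩ := NearField.exists_inv a ha
      have e : (x₁ - x₂) * a = y₁ - y₂ := by rw [hadef, ← mul_assoc, hc1, one_mul]
      let b := -(x₂ * a) + y₂
      let σ : Equiv.Perm F :=
        { toFun := fun x => x * a + b
          invFun := fun x => (x - b) * a'
          left_inv := fun x => by simp only []; rw [add_sub_cancel_right, mul_assoc, haa', mul_one]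
          right_inv := fun x => by simp only []; rw [mul_assoc, ha'a, mul_one, sub_add_cancel] }
      refine ⟨⟨σ, a, b, ha, fun _ => rfl⟩, ?_, ?_⟩
      · show x₁ * a + b = y₁
        rw [← add_assoc, ← sub_eq_add_neg, ← sub_mul', e, sub_add_cancel]
      · show x₂ * a + b = y₂
        rw [← add_assoc, add_neg_cancel, zero_add]
    · intro x
      rw [eq_bot_iff]
      rintro ⟨σ, a, b, ha, hσ⟩ hg
      rw [Subgroup.mem_bot]
      have h : ∀ i, x i * a + b = x i := fun i => by
        rw [← hσ]; exact congrArg (fun e : Fin 2 ↪ F => e i) hg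
      have hne : x 0 - x 1 ≠ 0 := sub_ne_zero.mpr (x.injective.ne (by decide))
      have h01 : (x 0 - x 1) * a = x 0 - x 1 := by
        rw [sub_mul', ← add_sub_add_right_eq_sub (x 0 * a) (x 1 * a) b, h, h]
      obtain ⟨c, -, hc⟩ := NearField.exists_inv _ hne
      have ha1 : a = 1 := by rw [← one_mul a, ← hc, mul_assoc, h01]
      subst ha1
      have hb : b = 0 := by simpa using h 0
      refine Subtype.ext (Equiv.ext fun y => ?_)
      show σ y = y
      rw [hσ, hb, mul_one, add_zero]

end Cfsg.Agent.S0681
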