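import Cfsg.Statements.S0682
import Cfsg.Agent.Lib.PermGroup.NearField
import Mathlib.GroupTheory.Perm.Cycle.Type

set_option autoImplicit false
open Cfsg

namespace Cfsg.Agent.S0682

/-- A finite near-field has prime-power order; its additive group is commutative of prime exponent. -/
theorem result {F : Type*} [Cfsg.NearField F] [Finite F] : ∃ p j : ℕ, p.Prime ∧ 1 ≤ j ∧ Nat.card F = p ^ j ∧ (∀ x y : F, x + y = y + x) ∧ ∀ x : F, p • x = 0 := by
  have : Nontrivial F := ⟨0, 1, NearField.zero_ne_one⟩
  obtain ⟨p, hp, hpd⟩ := Nat.exists_prime_and_dvd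
    (show Nat.card (Multiplicative F) ≠ 1 from Finite.one_lt_card.ne')
  have : Fact p.Prime := ⟨hp⟩
  obtain ⟨b, hb⟩ := exists_prime_orderOf_dvd_card' p hpd
  set b' : F := Multiplicative.toAdd b with hb'
  have hb0 : b' ≠ 0 := by
    intro h
    have : b = 1 := Multiplicative.toAdd.injective (by rw [← hb', h]; rfl)
    rw [this, orderOf_one] at hb; exact hp.one_lt.ne hb
  have hsc : ∀ x : F, x ≠ 0 → ∃ c, b' * c = x := fun x _ => by
    obtain ⟨c, hc, -⟩ := NearField.exists_inv b' hb0
    exact ⟨c * x, by rw [← mul_assoc, hc, one_mul]⟩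
  have hmul : ∀ (n : ℕ) (x c : F), (n • x) * c = n • (x * c) := by
    intro n x c
    induction n with
    | zero => rw [zero_nsmul, zero_nsmul, CfsgLib.PermGroup.NF.zero_mul']
    | succ n ih => rw [succ_nsmul, succ_nsmul, NearField.right_distrib, ih]
  have hpb : p • b' = 0 := by
    have h := pow_orderOf_eq_one b
    rw [hb] at h
    exact congrArg Multiplicative.toAdd h
  have hpx : ∀ x : F, p • x = 0 := by
    intro x
    by_cases hx : x = 0
    · rw [hx, nsmul_zero]
    · obtain ⟨c, rfl⟩ := hsc x hx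
      rw [← hmul, hpb, CfsgLib.PermGroup.NF.zero_mul']
  have hP : IsPGroup p (Multiplicative F) := fun x => ⟨1, by
    rw [pow_one]; exact Multiplicative.toAdd.injective (hpx x.toAdd)⟩
  obtain ⟨j, hj⟩ := IsPGroup.iff_card.mp hP
  have hj1 : 1 ≤ j := by
    rcases Nat.eq_zero_or_pos j with rfl | h
    · exact absurd (hj.trans (pow_zero p)) Finite.one_lt_card.ne'
    · exact h
  refine ⟨p, j, hp, hj1, hj, ?_, hpx⟩
  have : Nontrivial (Multiplicative F) := ‹Nontrivial F›
  have := hP.center_nontrivial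
  obtain ⟨⟨z, hz⟩, hz1⟩ := exists_ne (1 : Subgroup.center (Multiplicative F))
  intro x y
  set z' : F := Multiplicative.toAdd z with hz'
  have hz0 : z' ≠ 0 := fun h => hz1 (Subtype.ext (Multiplicative.toAdd.injective (by
    show z' = _; rw [h]; rfl)))
  have hzc : ∀ w : F, z' + w = w + z' := fun w =>
    (congrArg Multiplicative.toAdd (Subgroup.mem_center_iff.mp hz (Multiplicative.ofAdd w))).symm
  by_cases hx : x = 0
  · rw [hx, zero_add, add_zero]
  obtain ⟨c, hc, hc'⟩ := NearField.exists_inv z' hz0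
  set u := c * x with hu
  have hzu : z' * u = x := by rw [hu, ← mul_assoc, hc, one_mul]
  obtain ⟨v, hv, hv'⟩ := NearField.exists_inv u (fun h => hx (by rw [← hzu, h, NearField.mul_zero]))
  have hy : (y * v) * u = y := by rw [mul_assoc, hv', mul_one]
  rw [← hzu, ← hy, ← NearField.right_distrib, hzc, NearField.right_distrib]

end Cfsg.Agent.S0682
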