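import Cfsg.Statements.S0683
import Cfsg.Agent.Lib.PermGroup.NearField

set_option autoImplicit false
open Cfsg

namespace Cfsg.Agent.S0683

/-- A finite sharply doubly transitive permutation group is the affine group of a near-field: the permuted set carries a near-field structure for which the group consists exactly of the maps `x ↦ x * a + b` with `a ≠ 0`. -/
theorem result {α : Type*} [Fintype α] [DecidableEq α] (H : Subgroup (Equiv.Perm α)) [MulAction.IsMultiplyPretransitive H α 2] (hsharp : ∀ x : Fin 2 ↪ α, MulAction.stabilizer H x = ⊥) (h2 : 2 ≤ Fintype.card α) : ∃ _ : Cfsg.NearField α, ∀ σ : Equiv.Perm α, σ ∈ H ↔ ∃ a b : α, a ≠ 0 ∧ ∀ x : α, σ x = x * a + b := by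
  open MulAction CfsgLib.PermGroup in
  · classical
    have hcard : 2 ≤ Nat.card α := by rwa [Nat.card_eq_fintype_card]
    have hs2 := sharpTwo_of_stabilizer_embedding hsharp
    have h2t : IsMultiplyPretransitive H α 2 := inferInstance
    obtain ⟨K, hKn, hKc, -, hKt, hKs, -⟩ := sharpTwo_kernel h2t hs2 hcard
    have : Nontrivial α := Fintype.one_lt_card_iff_nontrivial.mp h2
    obtain ⟨o, e, hoe⟩ := exists_pair_ne α
    let τe : K ≃ α := Equiv.ofBijective (fun k : K => k • o)
      ⟨fun _ _ h => semiregular_inj hKs h, fun y => exists_smul_eq K o y⟩
    have τo : ∀ k : K, τe k = k • o := fun _ => rfl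
    have hex : ∀ c : α, ∃ h : H, c ≠ o → h • o = o ∧ h • e = c := by
      intro c
      by_cases hc : c = o
      · exact ⟨1, fun h => absurd hc h⟩
      · obtain ⟨g, hg⟩ := is_two_pretransitive_iff.mp h2t hoe (Ne.symm hc)
        exact ⟨g, fun _ => hg⟩
    choose η hη using hex
    have uniq : ∀ g g' : H, g • o = o → g' • o = o → g • e = g' • e → g = g' := by
      intro g g' h1 h2 h3
      exact (inv_mul_eq_one.mp (hs2 (g'⁻¹ * g) o e hoe
        (by rw [mul_smul, h1, inv_smul_eq_iff, h2]) (by rw [mul_smul, h3, inv_smul_smul]))).symm
    let mulf : α → α → α := fun x c => if c = o then o else η c • x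
    have hmne : ∀ x c : α, x ≠ o → c ≠ o → η c • x ≠ o := by
      intro x c hx hc h
      exact hx (smul_left_cancel (η c) (h.trans (hη c hc).1.symm))
    let addG : AddGroup α := (τe.symm.trans Additive.ofMul).addGroup
    have hadd : ∀ k l : K, addG.add (τe k) (τe l) = τe (k * l) := by
      intro k l
      show τe (τe.symm (τe k) * τe.symm (τe l)) = _
      rw [Equiv.symm_apply_apply, Equiv.symm_apply_apply]
    have hzero : addG.zero = o := by
      show τe 1 = o
      rw [τo, one_smul]
    have hconj : ∀ (g : H) (k : K), g • o = o → g • τe k = τe ⟨g * k * g⁻¹, hKn.conj_mem k k.2 g⟩ := by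
      intro g k hg
      rw [τo, τo]
      exact smul_smul_of_fix hg
    have hhom : ∀ (g : H), g • o = o → ∀ x y : α, g • addG.add x y = addG.add (g • x) (g • y) := by
      intro g hg x y
      obtain ⟨k, rfl⟩ := τe.surjective x
      obtain ⟨l, rfl⟩ := τe.surjective y
      rw [hadd, hconj g _ hg, hconj g _ hg, hconj g _ hg, hadd]
      congr 1
      apply Subtype.ext
      simp
    let NF : Cfsg.NearField α :=
      { addG with
        mul := mulf
        one := e
        mul_assoc := by
          intro x c d
          show mulf (mulf x c) d = mulf x (mulf c d)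
          simp only [mulf]
          by_cases hd : d = o
          · simp [hd]
          by_cases hc : c = o
          · simp [hd, hc, (hη d hd).1]
          rw [if_neg hd, if_neg hd, if_neg hc, if_neg (hmne c d hc hd), ← mul_smul]
          congr 1
          refine uniq _ _ ?_ (hη _ (hmne c d hc hd)).1 ?_
          · rw [mul_smul, (hη c hc).1, (hη d hd).1]
          · rw [mul_smul, (hη c hc).2, (hη _ (hmne c d hc hd)).2]
        one_mul := by
          intro c
          show mulf e c = c
          simp only [mulf]
          split_ifs with hc
          · exact hc.symm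
          · exact (hη c hc).2
        mul_one := by
          intro x
          show mulf x e = x
          simp only [mulf]
          rw [if_neg (Ne.symm hoe)]
          rw [uniq (η e) 1 (hη e (Ne.symm hoe)).1 (one_smul _ _)
            (by rw [(hη e (Ne.symm hoe)).2, one_smul]), one_smul]
        right_distrib := by
          intro x y c
          show mulf (addG.add x y) c = addG.add (mulf x c) (mulf y c)
          simp only [mulf]
          split_ifs with hc
          · rw [← hzero]; exact (addG.zero_add _).symm
          · exact hhom _ (hη c hc).1 x y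
        mul_zero := by
          intro x
          show mulf x addG.zero = addG.zero
          simp only [mulf]
          rw [hzero, if_pos rfl]
        zero_ne_one := by
          show addG.zero ≠ e
          rw [hzero]; exact hoe
        exists_inv := by
          intro a ha
          have ha' : a ≠ o := fun h => ha (h.trans hzero.symm)
          refine ⟨(η a)⁻¹ • e, ?_⟩
          set b := (η a)⁻¹ • e with hb
          have hbo : b ≠ o := by
            intro h
            rw [hb, inv_smul_eq_iff, (hη a ha').1] at h
            exact hoe h.symm
          have hinv : η b = (η a)⁻¹ := uniq _ _ (hη b hbo).1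
            (by rw [inv_smul_eq_iff, (hη a ha').1]) (hη b hbo).2
          constructor
          · show mulf a b = e
            simp only [mulf]
            rw [if_neg hbo, hinv, inv_smul_eq_iff, (hη a ha').2]
          · show mulf b a = e
            simp only [mulf]
            rw [if_neg ha', hb, smul_inv_smul] }
    refine ⟨NF, fun σ => ⟨fun hσ => ?_, ?_⟩⟩
    · set g : H := ⟨σ, hσ⟩ with hg
      obtain ⟨k, hk⟩ := exists_smul_eq K o (g • o)
      set h : H := (k : H)⁻¹ * g with hh
      have hho : h • o = o := by
        rw [hh, mul_smul, ← hk]
        exact inv_smul_smul (k : H) o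
      have hne : h • e ≠ o := fun h' => hoe (smul_left_cancel h (h'.trans hho.symm)).symm
      refine ⟨h • e, τe k, fun h' => hne (h'.trans hzero), fun x => ?_⟩
      show σ x = addG.add (mulf x (h • e)) (τe k)
      simp only [mulf]
      rw [if_neg hne, uniq (η (h • e)) h (hη _ hne).1 hho (hη _ hne).2]
      obtain ⟨l, hl⟩ := τe.surjective (h • x)
      rw [← hl, hadd, hKc.is_comm.comm l k, τo, mul_smul, ← τo, hl]
      show σ x = (k : H) • h • x
      rw [← mul_smul, hh, mul_inv_cancel_left]
      rfl
    · rintro ⟨a, b, ha, hσ⟩
      have ha' : a ≠ o := fun h => ha (h.trans hzero.symm)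
      obtain ⟨k, rfl⟩ := τe.surjective b
      have : σ = (((k : H) * η a : H) : Equiv.Perm α) := by
        refine Equiv.ext fun x => ?_
        show σ x = (k : H) • η a • x
        rw [hσ x]
        show addG.add (mulf x a) (τe k) = _
        simp only [mulf]
        rw [if_neg ha']
        obtain ⟨l, hl⟩ := τe.surjective (η a • x)
        rw [← hl, hadd, hKc.is_comm.comm l k, τo, mul_smul]
        rfl
      rw [this]
      exact SetLike.coe_mem _

end Cfsg.Agent.S0683
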