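import Cfsg.Statements.S0687
import Cfsg.Agent.Lib.RegLinear.Final

set_option autoImplicit false
open Cfsg

namespace Cfsg.Agent.S0687

/-- In a linear group over the prime field that is regular on non-zero vectors and has no irreducible cyclic normal subgroup, a normal subgroup `N` minimal among the non-abelian normal subgroups centralising a maximal normal abelian subgroup `A` is irreducible on `V`, and its centraliser is `A`. -/
theorem result {p : ℕ} [Fact p.Prime] {V : Type*} [AddCommGroup V] [Module (ZMod p) V] [Finite V] (H : Subgroup (V ≃ₗ[ZMod p] V)) (hreg : ∀ v w : V, v ≠ 0 → w ≠ 0 → ∃! h : H, (h : V ≃ₗ[ZMod p] V) v = w) (hI : ∀ A : Subgroup H, A.Normal → IsCyclic A → ∃ W : Submodule (ZMod p) V, W ≠ ⊥ ∧ W ≠ ⊤ ∧ ∀ a ∈ A, ∀ v ∈ W, ((a : H) : V ≃ₗ[ZMod p] V) v ∈ W) (A : Subgroup H) (hAn : A.Normal) (hAc : IsMulCommutative A) (hAmax : ∀ B : Subgroup H, B.Normal → IsMulCommutative B → A ≤ B → B = A) (N : Subgroup H) (hNn : N.Normal)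 (hNle : N ≤ Subgroup.centralizer (A : Set H)) (hNna : ¬ IsMulCommutative N) (hNmin : ∀ M : Subgroup H, M.Normal → M ≤ N → ¬ IsMulCommutative M → M = N) : (∀ W : Submodule (ZMod p) V, (∀ n ∈ N, ∀ v ∈ W, ((n : H) : V ≃ₗ[ZMod p] V) v ∈ W) → W = ⊥ ∨ W = ⊤) ∧ Subgroup.centralizer (N : Set H) = A := by
  have := CfsgLib.RegLinear.NoIrrCyclic.nontrivial (H := H) hI
  have hcases := CfsgLib.RegLinear.minimal_cases hreg hAn hAc hAmax hNn hNle hNna hNmin
  have hC : Subgroup.centralizer (A : Set H) = ⊤ ∧ Nat.card V = p ^ 2 := by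
    rcases hcases with h | h
    · exact ⟨(CfsgLib.RegLinear.q8_case hreg hAn hAc hAmax hNn hNle h).1,
        (CfsgLib.RegLinear.q8_case hreg hAn hAc hAmax hNn hNle h).2.1⟩
    · exact ⟨(CfsgLib.RegLinear.sl25_case hreg hAn hAc hAmax hNn hNle h).1,
        (CfsgLib.RegLinear.sl25_case hreg hAn hAc hAmax hNn hNle h).2.1⟩
  have hdim : Module.finrank (ZMod p) V = 2 := by
    have h := hC.2
    rw [Module.natCard_eq_pow_finrank (K := ZMod p), Nat.card_zmod] at h
    exact Nat.pow_right_injective (Fact.out : p.Prime).two_le h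
  refine ⟨fun W hW => ?_, ?_⟩
  · by_contra hcon
    simp only [not_or] at hcon
    have hlt := Submodule.finrank_lt hcon.2
    have hpos : 0 < Module.finrank (ZMod p) W :=
      Nat.pos_of_ne_zero fun h => hcon.1 (Submodule.finrank_eq_zero.mp h)
    obtain ⟨v, hv, hspan⟩ := finrank_eq_one_iff'.mp
      (show Module.finrank (ZMod p) W = 1 by omega)
    have hv' : (v : V) ≠ 0 := fun h => hv (Subtype.ext h)
    apply hNna
    refine ⟨⟨fun a b => Subtype.ext ?_⟩⟩
    obtain ⟨c, hc⟩ := hspan ⟨_, hW a.1 a.2 v v.2⟩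
    obtain ⟨d, hd⟩ := hspan ⟨_, hW b.1 b.2 v v.2⟩
    have hc' : ((a : H) : V ≃ₗ[ZMod p] V) v = c • (v : V) := (congrArg Subtype.val hc).symm
    have hd' : ((b : H) : V ≃ₗ[ZMod p] V) v = d • (v : V) := (congrArg Subtype.val hd).symm
    refine (hreg v _ hv' ?_).unique rfl ?_
    · exact fun h => hv' ((((a * b : N) : H) : V ≃ₗ[ZMod p] V).map_eq_zero_iff.mp h)
    · show ((b : H) : V ≃ₗ[ZMod p] V) (((a : H) : V ≃ₗ[ZMod p] V) v) =
        ((a : H) : V ≃ₗ[ZMod p] V) (((b : H) : V ≃ₗ[ZMod p] V) v)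
      rw [hc', hd', map_smul, map_smul, hc', hd', smul_comm]
  · have h := CfsgLib.RegLinear.inf_centralizer_eq hreg hAn hAc hAmax hNn hNle
      (CfsgLib.RegLinear.hasPair_of_cases hcases)
    rwa [hC.1, top_inf_eq] at h

end Cfsg.Agent.S0687
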