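import Cfsg.Statements.S0688
import Cfsg.Agent.Lib.RegLinear.Final

set_option autoImplicit false
open Cfsg

namespace Cfsg.Agent.S0688

/-- Degrees of the soluble exceptional sharply doubly transitive groups: if a solvable linear group over the prime field is regular on the non-zero vectors of `V` and has no irreducible cyclic normal subgroup, then `V` has 25, 49, 121 or 529 elements. -/
theorem result {p : ℕ} [Fact p.Prime] {V : Type*} [AddCommGroup V] [Module (ZMod p) V] [Finite V] (H : Subgroup (V ≃ₗ[ZMod p] V)) (hreg : ∀ v w : V, v ≠ 0 → w ≠ 0 → ∃! h : H, (h : V ≃ₗ[ZMod p] V) v = w) (hI : ∀ A : Subgroup H, A.Normal → IsCyclic A → ∃ W : Submodule (ZMod p) V, W ≠ ⊥ ∧ W ≠ ⊤ ∧ ∀ a ∈ A, ∀ v ∈ W, ((a : H) : V ≃ₗ[ZMod p] V) v ∈ W) (hsolv : Group.IsSolvable H) : Nat.card V = 25 ∨ Nat.card V = 49 ∨ Nat.card V = 121 ∨ Nat.card V = 529 := by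
  have := CfsgLib.RegLinear.NoIrrCyclic.nontrivial (H := H) hI
  obtain ⟨A, hAn, hAc, hmax⟩ := CfsgLib.RegLinear.exists_max_abelian H
  obtain ⟨N, hNn, hNle, hNna, hNmin⟩ :=
    CfsgLib.RegLinear.exists_minimal_normal (D := Subgroup.centralizer (A : Set H)) inferInstance
      (CfsgLib.RegLinear.centralizer_not_comm hreg hI hAn hAc hmax).2
  rcases CfsgLib.RegLinear.minimal_cases hreg hAn hAc hmax hNn hNle hNna hNmin with hN | ⟨⟨e⟩⟩
  swap
  · exfalso
    have hperf : ¬ Group.IsSolvable (Matrix.SpecialLinearGroup (Fin 2) (ZMod 5)) :=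
      CfsgLib.RegLinear.not_isSolvable_sl25
    apply hperf
    have : Group.IsSolvable N := inferInstance
    exact Group.isSolvable_of_surjective (f := e.toMonoidHom) e.surjective
  obtain ⟨-, hV, hp, -⟩ := CfsgLib.RegLinear.q8_case hreg hAn hAc hmax hNn hNle hN
  rw [hV]
  rcases hp with hp3 | rfl | rfl | rfl | rfl
  · exact absurd hI (CfsgLib.RegLinear.not_noIrrCyclic_nine hreg hp3 (by rw [hV, hp3]; norm_num) hN)
  all_goals norm_num

end Cfsg.Agent.S0688
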