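import Cfsg.Statements.S0691
import Cfsg.Agent.Lib.RegLinear.WordList

set_option autoImplicit false
open Cfsg

namespace Cfsg.Agent.S0691

/-- An exceptional sharply doubly transitive group of degree 5^2: the listed matrices generate a subgroup of GL(2,5) of order 24 acting regularly on the non-zero vectors. -/
theorem result (A : Matrix.GeneralLinearGroup (Fin 2) (ZMod 5)) (B : Matrix.GeneralLinearGroup (Fin 2) (ZMod 5)) (C : Matrix.GeneralLinearGroup (Fin 2) (ZMod 5)) (hA : (A : Matrix (Fin 2) (Fin 2) (ZMod 5)) = !![2, 0; 0, -2]) (hB : (B : Matrix (Fin 2) (Fin 2) (ZMod 5)) = !![0, -1; 1, 0]) (hC : (C : Matrix (Fin 2) (Fin 2) (ZMod 5)) = !![1, 2; 1, -2]) : Nat.card (Subgroup.closure ({A, B, C} : Set (Matrix.GeneralLinearGroup (Fin 2) (ZMod 5)))) = 24 ∧ ∀ v w : Fin 2 → ZMod 5, v ≠ 0 → w ≠ 0 → ∃! h : Subgroup.closure ({A, B, C} : Set (Matrix.GeneralLinearGroup (Fin 2) (ZMod 5))), Matrix.mulVec ((h : Matrix.GeneralLinearGroup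 (Fin 2) (ZMod 5)) : Matrix (Fin 2) (Fin 2) (ZMod 5)) v = w := by
  have hrange : ({A, B, C} : Set (Matrix.GeneralLinearGroup (Fin 2) (ZMod 5))) = Set.range ![A, B, C] := by
    ext x
    simp [eq_comm]
    tauto
  rw [hrange]
  let ws : List (List (Fin 3)) := [[], [0], [1], [2], [0, 0], [0, 1], [0, 2], [1, 0], [1, 2], [2, 0], [2, 2], [0, 0, 0], [0, 0, 1], [0, 0, 2], [0, 1, 2], [0, 2, 2], [1, 2, 0], [1, 2, 2], [2, 0, 1], [2, 0, 2], [0, 0, 2, 2], [0, 1, 2, 2], [1, 2, 0, 2], [2, 0, 1, 2]]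
  refine CfsgLib.RegLinear.card_and_regular_of_words ![A, B, C]
    ![!![2, 0; 0, -2], !![0, -1; 1, 0], !![1, 2; 1, -2]] (fun i => ?_) ws ?_ ?_ ?_ ?_
  · fin_cases i <;> simp [hA, hB, hC]
  all_goals decide +kernel

end Cfsg.Agent.S0691
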