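import Cfsg.Statements.S0692
import Cfsg.Agent.Lib.PrimRecog.MatrixRegular

set_option autoImplicit false
open Cfsg

namespace Cfsg.Agent.S0692

/-- generators -/
def genList : List CfsgLib.PrimRecog.MatrixRegular.Q := [(0, 10, 1, 0), (2, 4, 1, 8)]

/-- the list of matrices -/
def matList : List CfsgLib.PrimRecog.MatrixRegular.Q := [
    (0, 10, 1, 0), (2, 4, 1, 8), (10, 0, 0, 10), (4, 9, 8, 10), (10, 3, 2, 4), (8, 7, 10, 2), (0, 1, 10, 0), (9, 7, 10, 3),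
    (3, 1, 4, 9), (7, 3, 2, 1), (6, 0, 4, 2), (1, 9, 8, 7), (7, 2, 3, 1), (1, 8, 9, 7), (3, 4, 1, 9), (0, 5, 2, 7),
    (9, 10, 7, 3), (7, 9, 6, 0), (6, 8, 5, 5), (1, 2, 10, 10), (8, 10, 7, 2), (4, 8, 9, 10), (5, 0, 7, 9), (10, 2, 3, 4),
    (9, 4, 0, 5), (8, 5, 5, 6), (2, 10, 10, 1), (5, 7, 0, 9), (6, 6, 6, 8), (1, 1, 1, 2), (9, 0, 4, 5), (0, 6, 9, 4),
    (2, 1, 4, 8), (4, 2, 5, 0), (5, 3, 6, 6), (10, 9, 1, 1), (7, 6, 9, 0), (6, 5, 8, 5), (1, 10, 2, 10), (0, 2, 5, 7),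
    (10, 6, 5, 2), (3, 0, 10, 4), (6, 10, 9, 6), (2, 7, 0, 6), (3, 6, 6, 5), (9, 1, 1, 10), (6, 4, 0, 2), (5, 5, 5, 3),
    (10, 10, 10, 9), (2, 0, 7, 6), (6, 1, 2, 6), (0, 8, 4, 1), (10, 5, 6, 2), (6, 9, 10, 6), (1, 7, 3, 0), (2, 5, 6, 10),
    (4, 0, 1, 3), (4, 5, 2, 0), (5, 6, 3, 6), (10, 1, 9, 1), (0, 9, 6, 4), (1, 5, 6, 9), (8, 0, 1, 7), (5, 1, 2, 5),
    (9, 5, 6, 1), (7, 10, 0, 8), (5, 9, 10, 5), (0, 7, 3, 10), (8, 9, 9, 2), (3, 3, 3, 7), (10, 8, 4, 0), (5, 10, 9, 5),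
    (0, 3, 7, 10), (1, 6, 5, 9), (5, 2, 1, 5), (10, 4, 8, 0), (9, 6, 5, 1), (7, 0, 10, 8), (9, 3, 2, 2), (3, 8, 7, 8),
    (8, 1, 0, 7), (2, 9, 8, 9), (8, 4, 3, 3), (7, 1, 5, 4), (3, 5, 9, 8), (2, 6, 5, 10), (4, 1, 0, 3), (6, 2, 1, 6),
    (0, 4, 8, 1), (3, 2, 2, 9), (8, 8, 8, 4), (1, 3, 7, 0), (9, 9, 9, 3), (4, 3, 3, 8), (1, 4, 4, 6), (5, 8, 8, 2),
    (3, 10, 0, 4), (6, 7, 7, 1), (2, 3, 3, 5), (2, 8, 9, 9), (8, 3, 4, 3), (9, 2, 3, 2), (3, 7, 8, 8), (4, 10, 6, 7),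
    (8, 6, 2, 3), (7, 5, 1, 4), (3, 9, 5, 8), (6, 3, 3, 9), (7, 7, 7, 4), (5, 4, 4, 10), (2, 2, 2, 8), (7, 8, 8, 3),
    (10, 7, 7, 5), (9, 8, 8, 6), (7, 4, 4, 4), (4, 6, 10, 7), (8, 2, 6, 3), (4, 7, 7, 7), (4, 4, 4, 7), (1, 0, 0, 1)]

/-- the scalars -/
def scaList : List ℕ := [
    1]

/-- indices of each non-zero vector -/
def idxList : List (ℕ × ℕ) := [
    (0, 0), (0, 15), (0, 67), (0, 51), (0, 39), (0, 60), (0, 72), (0, 88), (0, 31), (0, 6), (0, 119), (0, 29),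
    (0, 38), (0, 54), (0, 94), (0, 73), (0, 61), (0, 91), (0, 11), (0, 13), (0, 19), (0, 43), (0, 1), (0, 110),
    (0, 98), (0, 32), (0, 85), (0, 55), (0, 49), (0, 81), (0, 99), (0, 26), (0, 96), (0, 14), (0, 89), (0, 69),
    (0, 8), (0, 106), (0, 44), (0, 79), (0, 102), (0, 84), (0, 41), (0, 86), (0, 56), (0, 57), (0, 93), (0, 118),
    (0, 33), (0, 103), (0, 117), (0, 3), (0, 21), (0, 115), (0, 27), (0, 74), (0, 63), (0, 58), (0, 109), (0, 47),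
    (0, 34), (0, 22), (0, 95), (0, 71), (0, 66), (0, 46), (0, 87), (0, 50), (0, 107), (0, 10), (0, 18), (0, 28),
    (0, 97), (0, 37), (0, 42), (0, 53), (0, 65), (0, 105), (0, 9), (0, 12), (0, 114), (0, 83), (0, 17), (0, 108),
    (0, 111), (0, 36), (0, 77), (0, 80), (0, 62), (0, 104), (0, 82), (0, 100), (0, 25), (0, 116), (0, 20), (0, 90),
    (0, 68), (0, 5), (0, 24), (0, 45), (0, 78), (0, 101), (0, 30), (0, 76), (0, 64), (0, 16), (0, 113), (0, 92),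
    (0, 7), (0, 2), (0, 35), (0, 4), (0, 23), (0, 70), (0, 40), (0, 52), (0, 112), (0, 75), (0, 59), (0, 48)]


/-- An exceptional sharply doubly transitive group of degree 11^2: the listed matrices generate a subgroup of GL(2,11) of order 120 acting regularly on the non-zero vectors. -/
theorem result (A : Matrix.GeneralLinearGroup (Fin 2) (ZMod 11)) (B : Matrix.GeneralLinearGroup (Fin 2) (ZMod 11)) (hA : (A : Matrix (Fin 2) (Fin 2) (ZMod 11)) = !![0, -1; 1, 0]) (hB : (B : Matrix (Fin 2) (Fin 2) (ZMod 11)) = !![2, 4; 1, -3]) : Nat.card (Subgroup.closure ({A, B} : Set (Matrix.GeneralLinearGroup (Fin 2) (ZMod 11)))) = 120 ∧ ∀ v w : Fin 2 → ZMod 11, v ≠ 0 → w ≠ 0 → ∃! h : Subgroup.closure ({A, B} : Set (Matrix.GeneralLinearGroup (Fin 2) (ZMod 11))), Matrix.mulVec ((h : Matrix.GeneralLinearGroup (Fin 2) (ZMod 11)) : Matrix (Fin 2) (Fin 2) (ZMod 11)) v = w := by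
  have : Fact (Nat.Prime 11) := ⟨by norm_num⟩
  have hA' : (A : Matrix (Fin 2) (Fin 2) (ZMod 11)) = CfsgLib.PrimRecog.MatrixRegular.toMat 11 (0, 10, 1, 0) := by
    rw [hA]; ext i j; fin_cases i <;> fin_cases j <;> decide
  have hB' : (B : Matrix (Fin 2) (Fin 2) (ZMod 11)) = CfsgLib.PrimRecog.MatrixRegular.toMat 11 (2, 4, 1, 8) := by
    rw [hB]; ext i j; fin_cases i <;> fin_cases j <;> decide
  refine CfsgLib.PrimRecog.MatrixRegular.regular_of_check 11 genList 1 matList scaList idxList _ ?_ ?_ (Or.inl rfl)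
    (by decide +kernel) (by decide +kernel) (by decide +kernel) (by decide +kernel) (by decide +kernel)
    (by decide +kernel) (by decide +kernel) (by decide +kernel) (by decide +kernel)
  · intro u hu
    simp only [Set.mem_insert_iff, Set.mem_singleton_iff] at hu
    rcases hu with rfl | rfl
    exacts [Or.inl ⟨_, by simp [genList], hA'⟩, Or.inl ⟨_, by simp [genList], hB'⟩]
  · intro g hg
    simp only [genList, List.mem_cons, List.not_mem_nil, or_false] at hg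
    rcases hg with rfl | rfl
    exacts [⟨A, by simp, hA'⟩, ⟨B, by simp, hB'⟩]

end Cfsg.Agent.S0692
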