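import Cfsg.Statements.S0693
import Cfsg.Agent.Lib.PrimRecog.MatrixRegular

set_option autoImplicit false
open Cfsg

namespace Cfsg.Agent.S0693

/-- generators -/
def genList : List CfsgLib.PrimRecog.MatrixRegular.Q := [(0, 58, 1, 0), (9, 15, 49, 49)]

/-- the list of matrices -/
def matList : List CfsgLib.PrimRecog.MatrixRegular.Q := [
    (0, 58, 1, 0), (9, 15, 49, 49), (58, 0, 0, 58), (15, 50, 49, 10), (10, 10, 9, 15), (49, 44, 10, 9), (0, 1, 58, 0), (50, 44, 10, 10),
    (10, 49, 15, 50), (44, 10, 9, 49), (48, 20, 46, 45), (49, 50, 49, 44), (44, 9, 10, 49), (49, 49, 50, 44), (10, 15, 49, 50), (20, 11, 45, 13),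
    (50, 10, 44, 10), (13, 14, 48, 20), (1, 29, 4, 58), (55, 48, 23, 4), (49, 10, 44, 9), (15, 49, 50, 10), (11, 39, 13, 14), (10, 9, 10, 15),
    (14, 46, 20, 11), (29, 58, 58, 55), (48, 4, 4, 36), (11, 13, 39, 14), (55, 1, 1, 29), (36, 55, 55, 48), (14, 20, 46, 11), (39, 48, 14, 46),
    (9, 49, 15, 49), (46, 45, 11, 39), (58, 30, 55, 1), (4, 11, 36, 55), (13, 48, 14, 20), (1, 4, 29, 58), (55, 23, 48, 4), (20, 45, 11, 13),
    (35, 32, 31, 25), (38, 31, 30, 54), (28, 35, 34, 32), (45, 13, 39, 48), (30, 1, 1, 4), (11, 55, 55, 23), (48, 46, 20, 45), (4, 58, 58, 30),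
    (23, 4, 4, 11), (45, 39, 13, 48), (32, 24, 25, 28), (31, 21, 54, 29), (35, 31, 32, 25), (28, 34, 35, 32), (29, 5, 38, 31), (25, 27, 28, 35),
    (54, 28, 29, 38), (46, 11, 45, 39), (58, 55, 30, 1), (4, 36, 11, 55), (39, 14, 48, 46), (24, 27, 28, 34), (21, 28, 29, 5), (31, 24, 25, 27),
    (34, 31, 32, 24), (5, 30, 31, 21), (27, 34, 35, 31), (28, 5, 38, 30), (10, 19, 19, 48), (5, 38, 38, 53), (30, 21, 54, 28), (27, 35, 34, 31),
    (28, 38, 5, 30), (24, 28, 27, 34), (31, 25, 24, 27), (30, 54, 21, 28), (34, 32, 31, 24), (5, 31, 30, 21), (19, 49, 48, 40), (38, 54, 53, 21),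
    (21, 29, 28, 5), (40, 11, 10, 19), (21, 6, 5, 38), (25, 16, 42, 34), (18, 19, 45, 41), (25, 28, 27, 35), (54, 29, 28, 38), (32, 25, 24, 28),
    (31, 54, 21, 29), (49, 40, 40, 11), (54, 21, 21, 6), (29, 38, 5, 31), (11, 19, 19, 49), (6, 38, 38, 54), (16, 34, 34, 17), (19, 41, 41, 14),
    (38, 30, 31, 54), (17, 25, 25, 16), (14, 18, 18, 19), (40, 10, 11, 19), (21, 5, 6, 38), (19, 48, 49, 40), (38, 53, 54, 21), (34, 43, 17, 25),
    (41, 40, 14, 18), (25, 42, 16, 34), (18, 45, 19, 41), (40, 18, 18, 45), (56, 52, 52, 3), (42, 34, 34, 43), (48, 40, 40, 10), (53, 21, 21, 5),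
    (43, 25, 25, 42), (45, 41, 41, 40), (52, 3, 3, 7), (34, 17, 43, 25), (41, 14, 40, 18), (7, 56, 56, 52), (3, 7, 7, 56), (1, 0, 0, 1)]

/-- the scalars -/
def scaList : List ℕ := [
    4, 16, 5, 20, 21, 25, 41, 46, 7, 28, 53, 35, 22, 29, 57, 51,
    27, 49, 19, 17, 9, 36, 26, 45, 3, 12, 48, 15, 1]

/-- indices of each non-zero vector -/
def idxList : List (ℕ × ℕ) := [
    (28, 0), (14, 6), (24, 0), (0, 0), (2, 0), (10, 6), (8, 0), (15, 6), (20, 0), (17, 6), (26, 6), (25, 0),
    (7, 6), (23, 6), (27, 0), (1, 0), (19, 0), (6, 6), (18, 0), (3, 0), (4, 0), (12, 0), (21, 6), (11, 6),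
    (5, 0), (22, 0), (16, 0), (9, 0), (13, 0), (13, 6), (9, 6), (16, 6), (22, 6), (5, 6), (11, 0), (21, 0),
    (12, 6), (4, 6), (3, 6), (18, 6), (6, 0), (19, 6), (1, 6), (27, 6), (23, 0), (7, 0), (25, 6), (26, 0),
    (17, 0), (20, 6), (15, 0), (8, 6), (10, 0), (2, 6), (0, 6), (24, 6), (14, 0), (28, 6), (28, 119), (10, 11),
    (14, 25), (22, 105), (28, 18), (1, 26), (25, 77), (23, 62), (19, 117), (27, 35), (11, 71), (16, 40), (7, 1), (6, 29),
    (18, 67), (9, 101), (18, 53), (24, 15), (25, 65), (0, 3), (22, 55), (23, 80), (3, 118), (0, 21), (21, 116), (1, 46),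
    (17, 111), (9, 95), (1, 10), (28, 37), (22, 83), (10, 20), (21, 104), (24, 39), (23, 100), (4, 113), (18, 72), (4, 49),
    (16, 52), (26, 94), (20, 33), (7, 32), (14, 54), (25, 69), (27, 47), (11, 66), (9, 78), (27, 59), (23, 82), (14, 91),
    (1, 110), (20, 57), (4, 43), (22, 85), (10, 13), (10, 89), (18, 42), (8, 97), (10, 5), (14, 2), (8, 103), (25, 23),
    (25, 8), (0, 44), (7, 84), (8, 115), (10, 60), (14, 34), (9, 79), (16, 45), (19, 98), (11, 56), (4, 51), (9, 41),
    (19, 30), (5, 114), (2, 73), (13, 19), (12, 112), (26, 50), (6, 17), (2, 61), (22, 16), (22, 7), (0, 75), (21, 48),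
    (11, 90), (4, 88), (13, 28), (24, 81), (26, 87), (4, 74), (24, 99), (10, 31), (13, 38), (11, 86), (9, 102), (15, 12),
    (0, 70), (8, 76), (16, 92), (9, 96), (6, 36), (18, 108), (19, 24), (15, 9), (8, 64), (7, 106), (25, 4), (16, 27),
    (25, 68), (3, 93), (4, 63), (24, 107), (23, 109), (16, 22), (25, 14), (14, 58), (24, 119), (18, 55), (16, 33), (6, 11),
    (19, 80), (3, 32), (10, 25), (28, 118), (10, 54), (18, 105), (25, 21), (21, 69), (24, 18), (17, 116), (23, 47), (26, 26),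
    (26, 46), (7, 66), (21, 77), (13, 111), (5, 78), (19, 62), (5, 95), (23, 59), (15, 117), (26, 10), (19, 82), (23, 35),
    (24, 37), (10, 91), (7, 71), (18, 83), (26, 110), (12, 40), (6, 20), (16, 57), (3, 1), (17, 104), (0, 43), (2, 29),
    (20, 39), (18, 85), (14, 67), (19, 100), (6, 13), (5, 101), (0, 113), (6, 89), (14, 53), (14, 72), (14, 42), (20, 15),
    (0, 49), (4, 97), (21, 65), (12, 52), (6, 5), (25, 3), (22, 94), (0, 119), (10, 101), (23, 83), (12, 66), (11, 11),
    (19, 53), (11, 20), (10, 78), (15, 25), (25, 15), (22, 104), (28, 59), (23, 105), (26, 65), (25, 39), (24, 82), (0, 18),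
    (1, 3), (24, 100), (15, 91), (2, 26), (23, 55), (5, 113), (2, 110), (26, 77), (24, 80), (19, 72), (21, 57), (24, 62),
    (4, 118), (5, 49), (5, 43), (20, 117), (1, 21), (17, 52), (23, 85), (28, 35), (22, 116), (27, 94), (11, 13), (12, 71),
    (2, 46), (21, 33), (11, 89), (17, 40), (18, 111), (8, 32), (19, 42), (8, 1), (10, 95), (15, 54), (9, 97), (7, 29),
    (2, 10), (26, 69), (11, 5), (19, 67), (0, 37), (28, 47), (2, 119), (10, 1), (24, 116), (21, 72), (26, 82), (13, 11),
    (9, 29), (4, 46), (7, 49), (17, 91), (17, 25), (21, 67), (20, 111), (19, 52), (4, 110), (25, 105), (12, 101), (12, 95),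
    (0, 94), (23, 57), (2, 18), (21, 53), (4, 10), (23, 33), (7, 43), (4, 26), (27, 15), (2, 37), (10, 32), (25, 85),
    (28, 77), (28, 65), (25, 83), (17, 54), (13, 13), (26, 62), (3, 3), (13, 20), (28, 69), (13, 89), (22, 117), (25, 55),
    (24, 104), (1, 47), (21, 42), (1, 35), (26, 80), (27, 39), (14, 66), (11, 97), (14, 71), (6, 118), (26, 100), (12, 78),
    (13, 5), (19, 40), (3, 21), (7, 113), (1, 59), (10, 2), (22, 50), (4, 76), (4, 103), (2, 17), (12, 92), (21, 23),
    (27, 61), (5, 96), (21, 8), (18, 16), (2, 36), (25, 44), (18, 7), (14, 108), (3, 84), (25, 75), (15, 24), (4, 115),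
    (17, 48), (11, 9), (6, 60), (7, 90), (4, 64), (10, 34), (0, 88), (3, 106), (5, 79), (9, 28), (21, 4), (12, 45),
    (20, 81), (12, 27), (15, 98), (22, 87), (21, 68), (7, 56), (0, 74), (28, 93), (0, 51), (20, 99), (0, 63), (5, 41),
    (6, 31), (20, 107), (15, 30), (9, 38), (19, 109), (1, 114), (7, 86), (12, 22), (27, 73), (5, 102), (21, 14), (9, 19),
    (11, 12), (10, 58), (8, 112), (25, 70), (8, 119), (4, 15), (3, 100), (0, 57), (7, 35), (26, 111), (5, 69), (19, 11),
    (5, 65), (13, 113), (13, 43), (20, 71), (18, 95), (7, 47), (23, 25), (9, 3), (27, 72), (2, 85), (25, 40), (10, 10),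
    (20, 66), (2, 105), (2, 55), (13, 49), (19, 13), (16, 1), (8, 37), (18, 78), (8, 18), (3, 80), (25, 52), (19, 89),
    (15, 29), (2, 83), (7, 59), (10, 26), (12, 118), (6, 94), (27, 42), (27, 67), (19, 20), (3, 82), (5, 77), (9, 21),
    (0, 33), (17, 97), (18, 101), (1, 104), (23, 91), (3, 62), (1, 116), (16, 32), (19, 5), (27, 53), (4, 39), (10, 110),
    (28, 117), (10, 46), (23, 54), (15, 2), (20, 30), (25, 81), (20, 24), (9, 103), (6, 114), (27, 87), (16, 9), (26, 23),
    (3, 73), (5, 74), (9, 64), (26, 8), (14, 19), (25, 99), (8, 106), (1, 44), (13, 112), (11, 31), (26, 4), (8, 84),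
    (27, 50), (14, 38), (17, 27), (9, 115), (7, 17), (12, 86), (26, 68), (11, 60), (3, 61), (10, 102), (4, 93), (15, 34),
    (23, 16), (16, 12), (5, 63), (10, 79), (23, 7), (1, 70), (25, 107), (17, 45), (1, 75), (9, 76), (24, 109), (20, 98),
    (22, 48), (17, 92), (17, 22), (12, 56), (12, 90), (10, 96), (26, 14), (5, 51), (5, 88), (7, 36), (15, 58), (10, 41),
    (14, 28), (19, 108), (20, 119), (1, 78), (16, 39), (14, 55), (15, 62), (14, 85), (12, 33), (1, 95), (10, 67), (2, 11),
    (19, 59), (15, 100), (15, 80), (11, 117), (2, 13), (28, 32), (22, 10), (1, 101), (6, 25), (15, 82), (25, 113), (24, 118),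
    (19, 35), (2, 89), (6, 54), (20, 37), (10, 53), (14, 105), (6, 91), (10, 72), (21, 21), (3, 71), (10, 42), (17, 69),
    (14, 83), (16, 15), (20, 18), (22, 110), (25, 49), (13, 116), (8, 40), (0, 97), (19, 47), (2, 20), (17, 65), (22, 26),
    (12, 57), (8, 52), (22, 46), (28, 1), (2, 5), (3, 66), (13, 104), (21, 3), (17, 77), (25, 43), (18, 94), (9, 111),
    (27, 29), (17, 2), (14, 56), (25, 7), (14, 86), (10, 106), (11, 103), (7, 51), (3, 75), (12, 102), (28, 4), (28, 23),
    (12, 41), (24, 48), (18, 12), (19, 27), (28, 8), (22, 30), (14, 90), (3, 70), (28, 68), (3, 44), (8, 114), (7, 88),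
    (11, 76), (6, 93), (10, 84), (5, 73), (16, 28), (19, 92), (7, 63), (11, 115), (16, 19), (27, 81), (12, 96), (27, 107),
    (13, 60), (15, 112), (0, 87), (9, 36), (26, 109), (17, 34), (0, 50), (7, 74), (21, 108), (19, 22), (12, 79), (9, 17),
    (27, 99), (22, 24), (28, 14), (19, 45), (5, 61), (13, 31), (18, 9), (17, 58), (22, 98), (25, 16), (16, 38), (11, 64),
    (26, 2), (23, 90), (7, 107), (14, 61), (8, 4), (14, 73), (1, 108), (23, 56), (12, 70), (22, 60), (22, 31), (8, 23),
    (25, 28), (28, 22), (5, 7), (8, 68), (24, 112), (27, 9), (21, 41), (28, 92), (21, 79), (23, 86), (12, 44), (9, 87),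
    (26, 58), (4, 48), (16, 63), (18, 17), (19, 106), (17, 114), (18, 36), (2, 98), (27, 12), (20, 115), (7, 99), (20, 103),
    (16, 88), (6, 109), (5, 16), (28, 27), (25, 19), (2, 24), (16, 51), (20, 76), (26, 34), (25, 38), (8, 8), (7, 81),
    (8, 14), (12, 75), (15, 93), (9, 50), (20, 64), (2, 30), (21, 96), (28, 45), (21, 102), (19, 84), (16, 74), (25, 119),
    (27, 26), (8, 71), (6, 101), (19, 55), (27, 46), (19, 83), (1, 113), (17, 33), (8, 66), (27, 110), (7, 89), (7, 11),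
    (22, 77), (13, 40), (15, 53), (20, 80), (14, 111), (7, 20), (15, 72), (4, 32), (6, 78), (17, 57), (15, 42), (11, 25),
    (20, 62), (4, 1), (21, 15), (0, 118), (6, 95), (18, 104), (1, 49), (11, 54), (24, 59), (1, 43), (5, 97), (19, 105),
    (16, 117), (3, 29), (22, 65), (26, 21), (27, 10), (21, 39), (13, 52), (22, 69), (20, 82), (19, 85), (7, 5), (25, 18),
    (24, 35), (15, 67), (26, 3), (18, 116), (25, 37), (20, 100), (23, 94), (24, 47), (11, 91), (7, 13), (7, 2), (9, 92),
    (15, 16), (0, 84), (8, 9), (26, 88), (9, 45), (18, 68), (17, 99), (12, 30), (9, 22), (8, 12), (19, 50), (18, 23),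
    (28, 36), (22, 75), (3, 60), (0, 106), (17, 81), (4, 56), (26, 63), (6, 38), (24, 73), (7, 58), (1, 76), (24, 61),
    (22, 44), (12, 24), (4, 90), (2, 79), (9, 27), (26, 74), (2, 41), (16, 109), (2, 102), (5, 112), (1, 103), (2, 96),
    (15, 7), (1, 115), (1, 64), (6, 28), (12, 98), (25, 93), (3, 31), (27, 114), (18, 14), (22, 70), (28, 17), (18, 8),
    (11, 108), (14, 48), (7, 34), (18, 4), (19, 87), (26, 51), (17, 107), (4, 86), (6, 19), (23, 2), (11, 73), (19, 31),
    (5, 68), (18, 79), (1, 48), (15, 36), (17, 103), (22, 19), (22, 38), (12, 93), (25, 45), (20, 90), (27, 108), (5, 23),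
    (21, 112), (20, 86), (13, 63), (28, 98), (13, 88), (28, 24), (5, 8), (6, 50), (18, 102), (4, 107), (20, 56), (22, 28),
    (24, 9), (9, 44), (15, 17), (24, 12), (3, 109), (13, 51), (4, 81), (17, 64), (16, 84), (11, 61), (9, 70), (25, 22),
    (18, 41), (6, 87), (16, 106), (17, 115), (2, 16), (17, 76), (5, 14), (28, 30), (13, 74), (5, 4), (19, 60), (2, 7),
    (25, 92), (23, 58), (14, 114), (4, 99), (25, 27), (23, 34), (9, 75), (18, 96), (27, 119), (27, 18), (18, 117), (6, 1),
    (17, 53), (21, 55), (20, 116), (0, 10), (20, 104), (17, 72), (19, 33), (26, 47), (22, 82), (3, 43), (17, 42), (9, 11),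
    (0, 26), (26, 35), (5, 29), (23, 15), (22, 80), (0, 46), (27, 37), (23, 39), (3, 49), (6, 32), (10, 66), (13, 91),
    (21, 85), (7, 97), (13, 25), (24, 77), (10, 71), (17, 67), (24, 65), (2, 118), (16, 111), (21, 83), (22, 100), (15, 52),
    (13, 54), (8, 78), (0, 110), (9, 13), (9, 5), (21, 105), (22, 62), (15, 40), (8, 101), (28, 3), (28, 21), (8, 95),
    (9, 20), (3, 113), (25, 94), (24, 69), (26, 59), (19, 57), (9, 89), (1, 119), (25, 82), (6, 49), (19, 111), (11, 101),
    (1, 18), (6, 43), (9, 32), (24, 83), (2, 3), (21, 117), (20, 42), (13, 66), (25, 100), (2, 21), (9, 1), (12, 11),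
    (16, 91), (18, 52), (11, 95), (20, 53), (3, 26), (24, 85), (16, 54), (12, 20), (24, 55), (0, 35), (10, 97), (11, 78),
    (6, 113), (23, 116), (8, 29), (16, 25), (3, 110), (28, 94), (3, 10), (26, 15), (27, 77), (12, 13), (27, 69), (23, 104),
    (25, 80), (13, 71), (12, 5), (0, 59), (20, 72), (3, 46), (20, 67), (24, 105), (22, 57), (22, 33), (1, 37), (27, 65),
    (25, 62), (12, 89), (0, 47), (26, 39), (5, 118), (18, 40), (19, 119), (14, 62), (9, 67), (14, 80), (21, 10), (24, 113),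
    (5, 54), (5, 91), (9, 42), (19, 18), (7, 40), (16, 65), (21, 46), (12, 104), (17, 94), (0, 78), (13, 85), (1, 11),
    (10, 117), (0, 101), (23, 118), (19, 37), (9, 72), (16, 69), (21, 110), (28, 97), (21, 26), (27, 1), (20, 3), (8, 111),
    (15, 39), (11, 33), (18, 59), (1, 13), (5, 25), (18, 35), (9, 53), (20, 21), (13, 83), (24, 49), (18, 47), (11, 57),
    (1, 5), (16, 77), (26, 29), (13, 55), (0, 95), (14, 100), (27, 32), (14, 82), (1, 89), (13, 105), (2, 71), (15, 15),
    (12, 116), (1, 20), (7, 52), (2, 66), (24, 43), (6, 2), (7, 9), (16, 99), (18, 50), (2, 60), (25, 63), (0, 76),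
    (3, 90), (1, 41), (0, 103), (0, 64), (2, 31), (27, 17), (6, 34), (16, 107), (8, 92), (25, 88), (11, 30), (17, 23),
    (28, 106), (5, 38), (23, 61), (1, 79), (15, 109), (1, 96), (5, 28), (26, 114), (17, 8), (17, 4), (3, 86), (14, 16),
    (8, 45), (8, 22), (27, 36), (16, 81), (23, 73), (21, 44), (8, 27), (1, 102), (14, 7), (11, 98), (17, 14), (10, 108),
    (18, 87), (5, 19), (28, 84), (17, 68), (7, 12), (21, 75), (3, 56), (6, 58), (11, 24), (25, 74), (4, 112), (0, 115),
    (24, 93), (21, 70), (13, 48), (25, 51), (18, 119), (20, 10), (8, 42), (20, 46), (12, 85), (22, 118), (20, 110), (19, 3),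
    (17, 59), (8, 53), (17, 47), (25, 29), (26, 32), (1, 71), (6, 52), (13, 62), (23, 113), (18, 18), (11, 104), (0, 11),
    (18, 37), (27, 97), (7, 111), (0, 13), (19, 21), (10, 57), (12, 55), (13, 82), (14, 15), (1, 66), (8, 67), (4, 54),
    (6, 40), (16, 94), (9, 117), (8, 72), (20, 26), (14, 39), (4, 25), (12, 83), (0, 5), (28, 95), (0, 89), (11, 116),
    (23, 43), (13, 80), (4, 91), (15, 65), (28, 78), (28, 101), (15, 69), (26, 1), (10, 33), (17, 35), (23, 49), (15, 77),
    (13, 100), (12, 105), (0, 20), (3, 119), (26, 105), (0, 77), (2, 35), (11, 1), (13, 101), (0, 65), (27, 80), (25, 116),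
    (13, 95), (26, 83), (28, 39), (22, 72), (1, 94), (18, 54), (15, 66), (27, 82), (24, 57), (14, 13), (12, 97), (14, 11),
    (3, 18), (27, 62), (15, 71), (10, 29), (22, 53), (4, 3), (7, 118), (5, 46), (5, 10), (14, 20), (27, 100), (8, 49),
    (24, 33), (0, 69), (13, 78), (18, 91), (8, 43), (14, 89), (14, 5), (18, 25), (5, 26), (23, 117), (20, 40), (22, 67),
    (28, 15), (26, 55), (4, 21), (21, 111), (3, 37), (25, 104), (8, 113), (20, 52), (11, 32), (2, 47), (2, 59), (5, 110),
    (26, 85), (22, 42), (4, 119), (16, 66), (15, 20), (0, 15), (27, 105), (28, 82), (28, 100), (27, 55), (1, 77), (25, 57),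
    (9, 49), (5, 21), (3, 35), (15, 13), (25, 33), (22, 111), (12, 1), (13, 97), (1, 69), (4, 37), (14, 101), (15, 11),
    (14, 78), (26, 104), (1, 65), (4, 18), (19, 91), (9, 113), (28, 80), (28, 62), (9, 43), (21, 52), (26, 116), (16, 71),
    (15, 89), (12, 32), (14, 95), (11, 29), (15, 5), (3, 47), (27, 83), (23, 53), (19, 25), (3, 59), (0, 39), (5, 3),
    (6, 26), (6, 110), (23, 72), (8, 118), (24, 117), (27, 85), (2, 94), (6, 46), (21, 40), (23, 42), (19, 54), (6, 10),
    (23, 67), (12, 119), (4, 57), (9, 69), (17, 113), (22, 95), (13, 3), (0, 40), (6, 105), (23, 13), (22, 78), (0, 52),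
    (6, 83), (16, 118), (2, 67), (9, 77), (21, 97), (27, 91), (20, 32), (8, 39), (14, 46), (8, 15), (11, 35), (23, 11),
    (17, 43), (11, 47), (2, 72), (14, 10), (6, 55), (20, 1), (12, 18), (23, 89), (11, 59), (10, 94), (23, 20), (13, 21),
    (22, 101), (7, 62), (23, 5), (14, 110), (27, 54), (7, 100), (1, 111), (9, 65), (24, 71), (27, 25), (6, 85), (24, 66),
    (17, 49), (12, 37), (7, 80), (19, 29), (14, 26), (2, 42), (7, 82), (4, 33), (5, 104), (5, 116), (2, 53), (3, 117),
    (21, 2), (18, 86), (11, 51), (3, 4), (28, 48), (3, 8), (7, 70), (12, 114), (10, 93), (20, 28), (15, 115), (16, 96),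
    (19, 112), (1, 109), (11, 74), (16, 79), (26, 24), (9, 61), (21, 58), (20, 38), (18, 56), (14, 106), (7, 75), (3, 23),
    (22, 12), (26, 30), (3, 68), (11, 88), (14, 84), (23, 92), (20, 19), (2, 107), (4, 87), (21, 34), (25, 108), (13, 17),
    (3, 14), (17, 31), (26, 98), (15, 64), (0, 7), (15, 103), (16, 102), (16, 41), (23, 27), (18, 90), (7, 44), (15, 76),
    (9, 73), (11, 63), (2, 81), (17, 60), (13, 36), (4, 50), (23, 22), (2, 99), (23, 45), (22, 9), (0, 16), (11, 2),
    (4, 84), (13, 45), (16, 30), (23, 50), (26, 75), (21, 81), (10, 38), (5, 76), (16, 24), (13, 27), (20, 109), (5, 103),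
    (5, 115), (16, 98), (2, 114), (3, 17), (18, 48), (23, 87), (8, 86), (13, 92), (12, 9), (22, 68), (13, 22), (22, 23),
    (7, 60), (8, 56), (28, 73), (28, 61), (8, 90), (1, 74), (6, 102), (6, 96), (5, 64), (0, 93), (22, 14), (22, 8),
    (11, 34), (1, 51), (10, 19), (19, 16), (1, 88), (21, 99), (12, 12), (3, 36), (4, 106), (1, 63), (11, 58), (26, 44),
    (6, 79), (6, 41), (9, 112), (19, 7), (10, 28), (7, 31), (26, 70), (15, 108), (22, 4), (21, 107), (5, 119), (23, 111),
    (10, 43), (6, 3), (17, 66), (13, 1), (22, 52), (7, 26), (16, 20), (14, 97), (27, 116), (7, 110), (1, 15), (2, 69),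
    (17, 71), (24, 72), (28, 105), (5, 37), (16, 89), (9, 118), (0, 82), (15, 101), (13, 32), (25, 117), (0, 100), (16, 11),
    (15, 95), (28, 85), (28, 55), (15, 78), (12, 29), (3, 94), (2, 77), (27, 104), (16, 5), (7, 46), (26, 57), (2, 65),
    (4, 47), (22, 40), (10, 49), (5, 18), (28, 83), (24, 42), (6, 21), (20, 91), (24, 53), (20, 54), (4, 35), (10, 113),
    (20, 25), (7, 10), (16, 13), (0, 80), (4, 59), (24, 67), (26, 33), (0, 62), (1, 39), (22, 119), (24, 46), (24, 110),
    (12, 53), (1, 32), (17, 62), (15, 104), (2, 97), (23, 21), (17, 82), (12, 67), (20, 94), (24, 26), (16, 83), (4, 89),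
    (17, 80), (3, 78), (1, 1), (27, 49), (16, 105), (24, 10), (16, 85), (23, 3), (21, 47), (5, 71), (27, 113), (4, 11),
    (11, 111), (14, 57), (18, 15), (8, 54), (13, 117), (18, 39), (4, 5), (15, 116), (8, 91), (3, 101), (14, 33), (19, 77),
    (4, 20), (12, 42), (26, 118), (21, 59), (0, 29), (10, 52), (22, 18), (22, 37), (4, 13), (16, 55), (5, 66), (10, 40),
    (12, 72), (8, 25), (3, 95), (27, 43), (19, 65), (19, 69), (21, 35), (17, 100), (16, 119), (21, 113), (4, 40), (26, 78),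
    (20, 118), (25, 97), (12, 39), (15, 35), (15, 47), (10, 55), (27, 89), (27, 20), (11, 62), (2, 54), (13, 65), (10, 85),
    (16, 37), (18, 26), (8, 33), (6, 53), (8, 57), (26, 95), (10, 105), (4, 52), (6, 67), (2, 91), (18, 46), (27, 11),
    (6, 72), (24, 1), (15, 59), (17, 21), (27, 5), (11, 100), (28, 71), (28, 66), (11, 80), (6, 42), (9, 104), (7, 117),
    (13, 69), (17, 3), (27, 13), (10, 83), (13, 77), (24, 32), (12, 15), (21, 43), (18, 10), (16, 18), (14, 94), (26, 101),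
    (18, 110), (5, 111), (2, 25), (21, 49), (23, 29), (11, 82), (9, 116), (9, 119), (10, 3), (26, 52), (18, 97), (5, 15),
    (28, 72), (20, 89), (19, 101), (4, 100), (3, 85), (16, 29), (2, 104), (1, 57), (26, 40), (3, 83), (24, 91), (8, 35),
    (11, 10), (8, 59), (4, 62), (27, 111), (21, 66), (11, 26), (2, 116), (6, 69), (3, 105), (13, 118), (17, 32), (20, 11),
    (3, 55), (7, 94), (20, 5), (6, 65), (14, 49), (28, 42), (28, 53), (14, 113), (20, 13), (28, 67), (5, 39), (14, 43),
    (17, 1), (20, 20), (11, 110), (21, 71), (9, 37), (4, 82), (0, 117), (19, 95), (19, 78), (6, 77), (11, 46), (8, 47),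
    (9, 18), (10, 21), (24, 54), (24, 25), (4, 80), (1, 33), (13, 119), (22, 97), (24, 89), (7, 85), (5, 57), (28, 91),
    (12, 59), (25, 66), (10, 69), (21, 32), (11, 94), (18, 49), (18, 113), (9, 39), (24, 20), (13, 37), (23, 95), (15, 46),
    (14, 21), (8, 80), (14, 3), (9, 15), (23, 101), (20, 29), (1, 40), (12, 35), (8, 62), (15, 26), (7, 105), (24, 11),
    (24, 5), (3, 42), (24, 13), (18, 43), (15, 110), (8, 82), (23, 78), (12, 47), (28, 54), (5, 33), (1, 52), (3, 72),
    (8, 100), (6, 104), (7, 83), (15, 10), (2, 111), (6, 116), (17, 118), (7, 55), (10, 65), (3, 53), (3, 67), (21, 1),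
    (25, 71), (4, 117), (10, 77), (13, 18), (28, 25), (13, 2), (28, 44), (13, 34), (10, 56), (4, 114), (25, 50), (21, 7),
    (3, 88), (3, 74), (10, 86), (7, 76), (17, 108), (6, 106), (2, 93), (15, 22), (7, 103), (6, 84), (8, 79), (3, 51),
    (1, 73), (5, 17), (28, 75), (12, 28), (23, 99), (8, 102), (15, 92), (18, 24), (24, 4), (3, 63), (24, 14), (24, 23),
    (7, 115), (15, 45), (8, 41), (12, 19), (1, 61), (20, 48), (23, 81), (9, 31), (14, 12), (8, 96), (14, 9), (15, 27),
    (23, 107), (13, 58), (24, 8), (9, 60), (18, 98), (18, 30), (11, 112), (21, 16), (10, 90), (25, 87), (12, 38), (28, 70),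
    (5, 36), (7, 64), (24, 68), (22, 109), (9, 2), (1, 17), (4, 96), (24, 44), (24, 75), (10, 9), (9, 34), (8, 28),
    (11, 27), (6, 56), (19, 99), (19, 107), (0, 114), (4, 102), (9, 58), (21, 50), (11, 92), (20, 8), (17, 7), (14, 24),
    (5, 60), (28, 88), (20, 4), (14, 98), (28, 74), (28, 63), (14, 30), (6, 86), (20, 14), (7, 112), (3, 76), (20, 23),
    (17, 16), (13, 108), (3, 115), (6, 90), (2, 106), (11, 45), (21, 87), (27, 93), (4, 41), (8, 38), (11, 22), (8, 19),
    (24, 70), (3, 103), (26, 61), (1, 36), (2, 84), (16, 48), (3, 64), (4, 79), (19, 81), (20, 68), (28, 51), (5, 31),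
    (18, 109), (26, 73), (10, 12), (16, 2), (9, 106), (11, 102), (23, 48), (21, 30), (2, 44), (5, 93), (18, 92), (26, 81),
    (14, 112), (16, 34), (18, 22), (21, 24), (12, 31), (24, 16), (13, 56), (10, 103), (27, 4), (17, 12), (13, 90), (7, 114),
    (9, 84), (6, 63), (11, 96), (28, 87), (28, 50), (11, 79), (27, 14), (17, 9), (15, 38), (24, 7), (6, 51), (27, 23),
    (18, 27), (2, 70), (6, 88), (4, 73), (10, 115), (26, 107), (8, 36), (6, 74), (8, 17), (18, 45), (16, 58), (10, 64),
    (13, 86), (2, 75), (11, 41), (27, 8), (27, 68), (10, 76), (15, 28), (15, 19), (12, 60), (25, 109), (20, 108), (26, 99),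
    (4, 61), (21, 98), (22, 2), (17, 79), (21, 19), (19, 90), (19, 86), (27, 24), (3, 107), (8, 44), (12, 51), (10, 61),
    (5, 87), (16, 76), (4, 4), (22, 58), (22, 34), (10, 73), (0, 48), (21, 38), (26, 108), (12, 63), (4, 8), (19, 56),
    (14, 17), (3, 81), (8, 70), (15, 106), (4, 14), (18, 60), (13, 114), (8, 75), (18, 31), (14, 36), (11, 93), (4, 23),
    (27, 98), (5, 50), (21, 28), (23, 12), (16, 64), (24, 22), (16, 115), (27, 30), (1, 7), (3, 99), (17, 96), (4, 68),
    (16, 103), (24, 45), (20, 112), (12, 88), (17, 102), (23, 9), (2, 109), (15, 84), (17, 41), (1, 16), (12, 74), (24, 92),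
    (24, 27), (5, 2), (1, 60), (0, 41), (26, 17), (24, 88), (4, 38), (0, 96), (16, 4), (7, 22), (20, 44), (10, 98),
    (4, 19), (20, 75), (24, 74), (20, 70), (6, 9), (24, 63), (28, 103), (5, 34), (10, 30), (22, 61), (4, 28), (2, 86),
    (26, 36), (7, 27), (16, 14), (27, 84), (2, 56), (3, 112), (12, 48), (15, 99), (28, 76), (28, 64), (15, 107), (16, 23),
    (0, 79), (25, 114), (13, 16), (15, 81), (0, 102), (9, 108), (16, 68), (5, 58), (28, 115), (24, 51), (17, 50), (2, 90),
    (1, 31), (7, 92), (27, 106), (14, 109), (16, 8), (7, 45), (22, 73), (13, 7), (17, 87), (6, 12), (10, 24), (23, 93),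
    (11, 119), (21, 95), (22, 13), (15, 118), (26, 91), (7, 15), (10, 47), (19, 1), (9, 94), (6, 62), (6, 100), (26, 25),
    (11, 37), (1, 42), (4, 116), (3, 57), (12, 3), (21, 78), (1, 67), (19, 32), (10, 35), (1, 72), (11, 18), (22, 20),
    (22, 5), (0, 111), (5, 85), (6, 80), (6, 82), (1, 53), (8, 69), (28, 40), (28, 52), (8, 77), (7, 39), (22, 11),
    (13, 10), (22, 89), (12, 21), (13, 110), (8, 65), (23, 66), (18, 29), (3, 33), (2, 117), (16, 113), (5, 105), (5, 83),
    (20, 97), (13, 46), (16, 43), (5, 55), (10, 59), (21, 101), (26, 54), (23, 71), (16, 49), (13, 26), (4, 104), (21, 119),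
    (0, 32), (22, 21), (23, 26), (2, 78), (23, 10), (4, 71), (13, 57), (17, 39), (2, 101), (11, 42), (9, 52), (15, 55),
    (7, 25), (18, 69), (23, 46), (16, 62), (16, 82), (15, 83), (0, 1), (15, 85), (26, 113), (17, 15), (3, 5), (13, 33),
    (25, 118), (21, 18), (4, 66), (2, 95), (20, 35), (23, 110), (14, 104), (11, 67), (3, 89), (26, 49), (22, 3), (3, 11),
    (7, 54), (14, 116), (18, 77), (20, 59), (21, 37), (9, 40), (26, 43), (16, 100), (11, 53), (1, 97), (19, 94), (16, 80),
    (15, 105), (20, 47), (10, 111), (12, 117), (7, 91), (3, 20), (28, 29), (3, 13), (11, 72), (18, 65), (12, 2), (3, 114),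
    (2, 74), (5, 106), (5, 84), (4, 17), (7, 102), (2, 63), (14, 45), (19, 48), (7, 96), (12, 58), (17, 30), (24, 87),
    (6, 64), (27, 44), (24, 50), (9, 86), (1, 93), (7, 79), (27, 75), (14, 92), (23, 14), (7, 41), (22, 81), (13, 9),
    (23, 8), (10, 112), (11, 38), (23, 68), (12, 34), (20, 7), (6, 76), (14, 22), (2, 51), (11, 28), (17, 24), (23, 23),
    (11, 19), (8, 31), (14, 27), (8, 60), (20, 16), (27, 70), (21, 109), (9, 56), (2, 88), (16, 108), (6, 103), (0, 73),
    (22, 99), (23, 4), (6, 115), (0, 61), (13, 12), (22, 107), (17, 98), (9, 90), (4, 36), (4, 2), (23, 88), (6, 22),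
    (19, 75), (23, 63), (21, 61), (6, 27), (2, 112), (27, 64), (24, 114), (8, 108), (23, 51), (6, 92), (6, 45), (5, 12),
    (0, 60), (3, 38), (19, 44), (23, 74), (27, 103), (3, 28), (15, 14), (11, 48), (14, 107), (12, 16), (15, 68), (16, 50),
    (26, 106), (21, 73), (9, 24), (28, 41), (28, 96), (9, 98), (19, 70), (4, 34), (1, 86), (26, 84), (14, 99), (15, 23),
    (14, 81), (4, 58), (1, 90), (13, 109), (12, 7), (22, 93), (25, 17), (15, 4), (3, 19), (5, 9), (9, 30), (25, 36),
    (1, 56), (27, 76), (28, 79), (28, 102), (27, 115), (0, 31), (15, 8), (16, 87), (3, 2), (22, 63), (26, 64), (5, 92),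
    (2, 38), (2, 28), (11, 16), (20, 73), (8, 98), (25, 84), (3, 58), (21, 93), (4, 9), (26, 76), (28, 31), (22, 88),
    (20, 61), (23, 114), (5, 45), (18, 44), (14, 14), (14, 68), (8, 24), (18, 70), (13, 99), (0, 90), (24, 17), (8, 30),
    (27, 79), (14, 8), (5, 22), (5, 27), (7, 108), (4, 12), (22, 74), (10, 48), (15, 50), (27, 41), (3, 34), (14, 23),
    (12, 109), (14, 4), (24, 36), (27, 102), (15, 87), (18, 75), (1, 112), (22, 51), (28, 60), (26, 103), (13, 107), (25, 106),
    (27, 96), (0, 86), (13, 81), (11, 7), (2, 19), (0, 56), (26, 115), (18, 2), (0, 8), (12, 115), (13, 79), (15, 56),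
    (23, 30), (17, 19), (10, 17), (26, 7), (15, 90), (28, 81), (28, 99), (15, 86), (4, 70), (13, 96), (23, 24), (11, 106),
    (0, 68), (28, 107), (0, 14), (12, 103), (4, 44), (14, 60), (20, 45), (8, 51), (9, 114), (16, 112), (6, 61), (4, 75),
    (8, 88), (1, 87), (14, 31), (13, 102), (12, 76), (10, 36), (19, 9), (0, 4), (7, 93), (27, 109), (18, 58), (0, 23),
    (11, 84), (18, 34), (23, 98), (13, 41), (6, 73), (1, 50), (26, 16), (25, 48), (17, 28), (8, 74), (17, 38), (19, 12),
    (20, 92), (22, 108), (12, 64), (20, 27), (8, 63), (20, 22), (6, 119), (25, 72), (13, 29), (21, 91), (24, 111), (0, 105),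
    (4, 94), (25, 53), (11, 43), (6, 37), (3, 77), (21, 54), (7, 3), (17, 89), (28, 104), (5, 35), (18, 66), (10, 118),
    (17, 5), (11, 113), (14, 1), (1, 82), (8, 46), (21, 25), (23, 52), (16, 101), (27, 57), (8, 10), (8, 26), (14, 32),
    (3, 65), (17, 13), (17, 20), (26, 117), (5, 47), (1, 80), (15, 97), (1, 100), (23, 40), (5, 59), (28, 116), (17, 11),
    (11, 49), (25, 67), (8, 110), (16, 95), (6, 18), (27, 33), (2, 15), (0, 85), (0, 83), (1, 62), (3, 69), (0, 55),
    (25, 42), (2, 39), (18, 71), (16, 78), (7, 21), (19, 2), (24, 24), (2, 87), (7, 73), (1, 8), (12, 106), (15, 31),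
    (2, 50), (13, 115), (1, 68), (14, 102), (27, 16), (14, 79), (0, 107), (13, 76), (26, 48), (16, 56), (1, 14), (11, 36),
    (18, 28), (24, 30), (13, 103), (20, 9), (9, 74), (18, 19), (5, 44), (1, 4), (18, 38), (11, 17), (15, 60), (8, 93),
    (20, 12), (27, 7), (21, 45), (28, 109), (21, 92), (16, 90), (9, 51), (19, 58), (23, 108), (0, 81), (10, 114), (1, 23),
    (13, 64), (0, 99), (17, 112), (12, 84), (21, 27), (16, 86), (7, 61), (19, 34), (9, 63), (5, 70), (5, 75), (24, 98),
    (21, 22), (14, 96), (9, 88), (14, 41), (1, 2), (18, 61), (5, 108), (26, 60), (0, 28), (12, 68), (25, 41), (27, 86),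
    (1, 58), (22, 17), (22, 36), (24, 115), (20, 88), (3, 27), (20, 51), (0, 38), (12, 14), (13, 50), (25, 96), (23, 84),
    (27, 90), (12, 4), (27, 56), (26, 31), (3, 22), (28, 112), (3, 92), (16, 44), (8, 48), (23, 106), (6, 98), (11, 99),
    (10, 109), (0, 19), (24, 76), (12, 8), (16, 75), (24, 64), (3, 45), (20, 74), (11, 107), (18, 73), (16, 70), (12, 23),
    (9, 7), (2, 9), (25, 79), (13, 87), (20, 63), (21, 114), (2, 12), (24, 103), (9, 16), (6, 24), (1, 34), (11, 81),
    (19, 93), (6, 30), (25, 102), (27, 2), (9, 68), (19, 36), (26, 38), (24, 90), (25, 112), (3, 98), (9, 8), (8, 107),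
    (28, 9), (28, 12), (8, 81), (15, 61), (22, 41), (21, 115), (9, 14), (9, 4), (0, 92), (8, 99), (13, 75), (15, 73),
    (22, 79), (21, 103), (16, 93), (2, 108), (24, 86), (17, 88), (10, 50), (24, 56), (13, 44), (7, 109), (21, 64), (13, 70),
    (10, 87), (6, 16), (3, 30), (23, 60), (27, 58), (0, 27), (22, 96), (23, 31), (5, 48), (26, 19), (0, 45), (9, 23),
    (17, 63), (3, 24), (22, 102), (26, 28), (19, 17), (17, 51), (20, 84), (0, 22), (20, 106), (21, 76), (17, 74), (6, 7),
    (18, 114), (27, 34), (23, 119), (18, 80), (9, 54), (23, 18), (25, 46), (4, 78), (14, 117), (23, 37), (25, 110), (2, 1),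
    (19, 39), (5, 13), (13, 53), (28, 49), (5, 5), (17, 55), (2, 32), (17, 105), (16, 116), (6, 66), (18, 62), (25, 10),
    (9, 91), (11, 40), (16, 104), (17, 85), (4, 101), (13, 72), (3, 97), (24, 3), (15, 33), (9, 25), (24, 21), (22, 47),
    (20, 77), (4, 95), (18, 82), (6, 71), (5, 20), (28, 43), (13, 67), (28, 113), (13, 42), (20, 65), (21, 94), (5, 11),
    (27, 118), (20, 69), (25, 26), (12, 111), (22, 59), (22, 35), (17, 83), (15, 57), (1, 29), (18, 100), (5, 89), (19, 15),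
    (11, 52), (7, 119), (6, 35), (4, 65), (17, 95), (26, 72), (19, 66), (18, 13), (7, 18), (14, 29), (11, 118), (18, 20),
    (28, 33), (22, 91), (18, 5), (27, 117), (3, 15), (25, 111), (12, 113), (6, 47), (1, 85), (1, 105), (15, 1), (2, 80),
    (1, 83), (5, 94), (2, 82), (16, 97), (2, 62), (26, 53), (9, 46), (2, 100), (4, 69), (12, 43), (22, 25), (24, 40),
    (1, 55), (7, 37), (24, 52), (6, 59), (26, 42), (4, 77), (17, 101), (0, 116), (3, 39), (22, 54), (28, 57), (18, 11),
    (19, 71), (8, 3), (9, 10), (12, 49), (17, 78), (18, 89), (9, 26), (26, 67), (8, 21), (0, 104), (15, 32), (9, 110),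
    (25, 2), (7, 4), (11, 70), (24, 28), (23, 112), (20, 79), (25, 58), (18, 106), (26, 12), (15, 88), (24, 19), (25, 34),
    (7, 14), (19, 64), (20, 102), (22, 90), (13, 73), (21, 60), (27, 22), (26, 9), (22, 86), (3, 48), (16, 114), (19, 115),
    (5, 109), (1, 24), (24, 38), (11, 75), (1, 30), (18, 84), (6, 107), (0, 108), (21, 31), (4, 7), (20, 41), (11, 44),
    (15, 63), (17, 36), (6, 99), (4, 16), (15, 51), (7, 8), (14, 93), (20, 96), (15, 74), (13, 61), (22, 56), (7, 23),
    (7, 68), (27, 92), (8, 87), (17, 17), (1, 98), (19, 103), (27, 27), (19, 76), (6, 81), (8, 50), (27, 45), (26, 119),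
    (16, 53), (19, 104), (21, 82), (28, 26), (21, 80), (2, 49), (20, 85), (9, 71), (15, 111), (12, 54), (8, 5), (7, 101),
    (8, 20), (25, 59), (26, 18), (20, 55), (16, 72), (2, 43), (25, 35), (28, 46), (5, 32), (6, 97), (16, 67), (20, 83),
    (7, 78), (20, 105), (27, 3), (2, 113), (18, 57), (17, 117), (19, 116), (18, 33), (16, 42), (4, 29), (26, 37), (9, 66),
    (12, 25), (23, 65), (21, 100), (28, 110), (21, 62), (27, 21), (24, 94), (8, 89), (5, 1), (28, 10), (25, 47), (8, 11),
    (22, 15), (22, 39), (12, 91), (23, 77), (1, 118), (14, 52), (8, 13), (14, 40), (7, 95), (23, 69), (17, 119), (11, 85),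
    (16, 59), (25, 32), (22, 113), (17, 37), (18, 21), (13, 15), (5, 40), (19, 26), (28, 5), (22, 43), (27, 78), (9, 33),
    (12, 100), (19, 10), (21, 118), (7, 53), (0, 71), (17, 18), (26, 97), (9, 57), (0, 66), (15, 94), (13, 39), (27, 95),
    (12, 80), (27, 101), (16, 35), (11, 105), (7, 42), (19, 110), (16, 47), (5, 52), (10, 104), (6, 111), (11, 55), (7, 67),
    (8, 117), (3, 25), (28, 89), (3, 91), (14, 69), (22, 49), (28, 20), (19, 46), (18, 3), (24, 29), (12, 62), (28, 11),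
    (28, 13), (12, 82), (3, 54), (7, 72), (11, 83), (10, 116), (14, 65), (25, 1), (14, 77), (20, 2), (27, 48), (9, 93),
    (18, 112), (25, 24), (17, 56), (21, 12), (13, 84), (3, 87), (2, 14), (28, 7), (22, 27), (8, 73), (12, 36), (22, 45),
    (17, 86), (2, 8), (19, 28), (0, 109), (8, 61), (13, 106), (25, 30), (22, 92), (20, 34), (16, 31), (14, 103), (17, 90),
    (10, 63), (3, 50), (21, 9), (10, 51), (6, 70), (14, 115), (10, 74), (20, 58), (6, 75), (2, 68), (19, 19), (24, 108),
    (25, 98), (15, 102), (6, 44), (1, 81), (22, 22), (28, 16), (2, 4), (11, 114), (15, 96), (15, 79), (19, 38), (2, 23),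
    (10, 88), (1, 107), (12, 17), (14, 64), (15, 41), (14, 76), (16, 60), (1, 99), (15, 119), (19, 118), (14, 47), (10, 62),
    (15, 37), (7, 57), (5, 67), (5, 72), (26, 5), (10, 80), (12, 69), (12, 77), (17, 10), (17, 110), (22, 29), (20, 113),
    (24, 97), (9, 55), (1, 54), (17, 26), (25, 95), (1, 91), (23, 1), (10, 100), (5, 42), (16, 3), (23, 32), (15, 18),
    (4, 111), (10, 82), (3, 40), (11, 39), (26, 89), (12, 65), (7, 33), (9, 105), (17, 46), (14, 59), (27, 71), (8, 104),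
    (26, 13), (11, 15), (13, 94), (1, 25), (8, 116), (25, 78), (14, 35), (26, 20), (9, 85), (5, 53), (3, 52), (26, 11),
    (16, 21), (27, 66), (6, 117), (9, 83), (20, 43), (25, 101), (20, 49), (8, 2), (23, 75), (10, 27), (28, 114), (10, 92),
    (4, 60), (27, 74), (19, 14), (16, 16), (1, 106), (3, 41), (23, 70), (1, 84), (18, 81), (17, 109), (0, 17), (9, 9),
    (5, 56), (3, 102), (19, 8), (27, 88), (27, 63), (6, 112), (12, 108), (10, 45), (7, 38), (2, 103), (15, 48), (19, 68),
    (25, 73), (3, 96), (8, 34), (18, 99), (8, 58), (16, 7), (19, 4), (13, 30), (2, 76), (2, 115), (20, 87), (10, 22),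
    (25, 61), (2, 64), (27, 51), (9, 12), (23, 44), (7, 28), (18, 107), (20, 50), (13, 24), (13, 98), (5, 86), (19, 23),
    (5, 90), (26, 93), (7, 19), (0, 36), (3, 79), (4, 31), (10, 119), (25, 91), (8, 94), (10, 37), (11, 3), (9, 35),
    (21, 5), (5, 82), (27, 52), (12, 10), (7, 65), (1, 117), (19, 97), (9, 59), (15, 49), (20, 95), (6, 15), (5, 62),
    (0, 42), (20, 78), (0, 72), (28, 111), (0, 53), (7, 77), (21, 89), (22, 66), (15, 113), (12, 46), (20, 101), (12, 26),
    (21, 13), (9, 47), (5, 100), (3, 116), (0, 67), (10, 18), (4, 85), (7, 69), (6, 39), (11, 21), (17, 29), (4, 105),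
    (15, 43), (25, 54), (3, 104), (14, 118), (18, 1), (25, 25), (2, 57), (18, 32), (21, 20), (5, 80), (27, 40), (21, 11),
    (12, 110), (2, 33), (4, 83), (4, 55), (22, 71), (2, 2), (1, 38), (7, 98), (3, 9), (19, 61), (13, 14), (12, 99),
    (26, 79), (6, 108), (14, 50), (11, 109), (14, 87), (27, 60), (26, 96), (1, 19), (21, 63), (1, 28), (24, 84), (25, 76),
    (22, 114), (13, 68), (28, 90), (13, 8), (3, 12), (26, 41), (13, 4), (17, 75), (25, 103), (28, 86), (28, 56), (25, 64),
    (10, 16), (2, 58), (27, 31), (4, 45), (7, 24), (23, 17), (4, 22), (21, 74), (2, 34), (23, 36), (0, 112), (12, 107),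
    (12, 81), (25, 115), (4, 92), (19, 73), (20, 93), (21, 88), (17, 44), (17, 70), (7, 30), (4, 27), (9, 48), (13, 23),
    (26, 102), (21, 51), (24, 106), (10, 7), (0, 2), (28, 28), (0, 58), (19, 88), (11, 14), (26, 90), (2, 22), (7, 48),
    (9, 109), (15, 75), (10, 107), (8, 7), (19, 63), (8, 16), (18, 93), (17, 61), (11, 68), (21, 17), (2, 27), (12, 50),
    (11, 4), (27, 112), (22, 106), (28, 19), (23, 64), (17, 73), (1, 9), (20, 114), (5, 24), (5, 30), (4, 108), (24, 41),
    (21, 36), (19, 51), (24, 96), (26, 56), (2, 92), (5, 98), (23, 76), (2, 45), (15, 70), (24, 79), (1, 12), (0, 34),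
    (24, 102), (25, 60), (26, 86), (23, 115), (28, 38), (22, 84), (25, 31), (15, 44), (10, 99), (11, 8), (19, 74), (11, 23),
    (12, 87), (23, 103), (10, 81), (24, 2), (22, 112), (25, 12), (6, 14), (12, 73), (21, 86), (4, 109), (0, 30), (20, 31),
    (14, 63), (14, 51), (14, 74), (6, 68), (0, 98), (5, 81), (6, 4), (19, 79), (14, 88), (18, 64), (20, 60), (2, 48),
    (0, 24), (17, 84), (3, 7), (16, 36), (6, 8), (12, 61), (26, 92), (18, 103), (7, 50), (10, 70), (24, 58), (23, 19),
    (19, 102), (26, 22), (15, 114), (23, 38), (5, 107), (19, 41), (5, 99), (13, 93), (21, 56), (7, 87), (26, 27), (26, 45),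
    (23, 28), (17, 106), (24, 34), (21, 90), (25, 9), (18, 115), (10, 75), (28, 108), (10, 44), (3, 16), (19, 96), (6, 23),
    (16, 17), (18, 76), (14, 119), (14, 37), (25, 5), (16, 10), (23, 97), (24, 95), (4, 42), (3, 111), (25, 89), (16, 46),
    (25, 13), (7, 116), (8, 85), (15, 21), (19, 43), (18, 118), (6, 57), (9, 80), (16, 110), (8, 55), (0, 91), (15, 3),
    (9, 82), (11, 65), (13, 59), (10, 15), (24, 78), (4, 53), (26, 66), (24, 101), (13, 47), (4, 67), (11, 69), (21, 29),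
    (0, 54), (22, 1), (22, 32), (2, 40), (6, 33), (26, 71), (12, 94), (13, 35), (2, 52), (5, 117), (19, 49), (9, 62),
    (4, 72), (11, 77), (19, 113), (16, 26), (9, 100), (14, 18), (10, 39), (8, 105), (7, 104), (0, 25), (25, 20), (25, 11),
    (8, 83), (28, 2), (10, 14), (8, 109), (18, 63), (10, 68), (10, 4), (22, 64), (4, 24), (20, 36), (1, 92), (14, 70),
    (23, 102), (27, 38), (9, 99), (11, 87), (27, 28), (25, 90), (14, 75), (7, 16), (20, 17), (26, 112), (16, 73), (4, 30),
    (18, 51), (4, 98), (23, 79), (24, 60), (21, 84), (10, 8), (22, 103), (28, 58), (1, 22), (9, 107), (17, 93), (1, 27),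
    (21, 106), (0, 9), (3, 108), (23, 96), (22, 76), (0, 12), (25, 86), (24, 31), (18, 74), (9, 81), (18, 88), (6, 48),
    (7, 7), (16, 61), (11, 50), (27, 19), (19, 114), (23, 41), (25, 56), (1, 45), (28, 34), (22, 115), (14, 44), (10, 23)]


/-- An exceptional sharply doubly transitive group of degree 59^2: the listed matrices generate a subgroup of GL(2,59) of order 3480 acting regularly on the non-zero vectors. -/
theorem result (A : Matrix.GeneralLinearGroup (Fin 2) (ZMod 59)) (B : Matrix.GeneralLinearGroup (Fin 2) (ZMod 59)) (C : Matrix.GeneralLinearGroup (Fin 2) (ZMod 59)) (hA : (A : Matrix (Fin 2) (Fin 2) (ZMod 59)) = !![0, -1; 1, 0]) (hB : (B : Matrix (Fin 2) (Fin 2) (ZMod 59)) = !![9, 15; -10, -10]) (hC : (C : Matrix (Fin 2) (Fin 2) (ZMod 59)) = !![4, 0; 0, 4]) : Nat.card (Subgroup.closure ({A, B, C} : Set (Matrix.GeneralLinearGroup (Fin 2) (ZMod 59)))) = 3480 ∧ ∀ v w : Fin 2 → ZMod 59, v ≠ 0 → w ≠ 0 → ∃! h : Subgroup.closure ({A, B, C} : Set (Matrix.GeneralLinearGroup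 (Fin 2) (ZMod 59))), Matrix.mulVec ((h : Matrix.GeneralLinearGroup (Fin 2) (ZMod 59)) : Matrix (Fin 2) (Fin 2) (ZMod 59)) v = w := by
  have : Fact (Nat.Prime 59) := ⟨by norm_num⟩
  have hA' : (A : Matrix (Fin 2) (Fin 2) (ZMod 59)) = CfsgLib.PrimRecog.MatrixRegular.toMat 59 (0, 58, 1, 0) := by
    rw [hA]; ext i j; fin_cases i <;> fin_cases j <;> decide
  have hB' : (B : Matrix (Fin 2) (Fin 2) (ZMod 59)) = CfsgLib.PrimRecog.MatrixRegular.toMat 59 (9, 15, 49, 49) := by
    rw [hB]; ext i j; fin_cases i <;> fin_cases j <;> decide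
  have hC' : (C : Matrix (Fin 2) (Fin 2) (ZMod 59)) = ((4 : ℕ) : ZMod 59) • 1 := by
    rw [hC]; ext i j; fin_cases i <;> fin_cases j <;> simp
  refine CfsgLib.PrimRecog.MatrixRegular.regular_of_check 59 genList 4 matList scaList idxList _ ?_ ?_ (Or.inr ⟨C, by simp, hC'⟩)
    (by decide +kernel) (by decide +kernel) (by decide +kernel) (by decide +kernel) (by decide +kernel)
    (by decide +kernel) (by decide +kernel) (by decide +kernel) (by decide +kernel)
  · intro u hu
    simp only [Set.mem_insert_iff, Set.mem_singleton_iff] at hu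
    rcases hu with rfl | rfl | rfl
    exacts [Or.inl ⟨_, by simp [genList], hA'⟩, Or.inl ⟨_, by simp [genList], hB'⟩, Or.inr hC']
  · intro g hg
    simp only [genList, List.mem_cons, List.not_mem_nil, or_false] at hg
    rcases hg with rfl | rfl
    exacts [⟨A, by simp, hA'⟩, ⟨B, by simp, hB'⟩]

end Cfsg.Agent.S0693
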