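import Cfsg.Statements.S0694
import Mathlib

set_option autoImplicit false
open Cfsg

namespace Cfsg.Agent.S0694

/-- The Dickson pair condition: for a prime power `q` and `n > 1`, (every prime factor of `n` divides `q - 1`, and `4 ∣ n → 4 ∣ q - 1`) holds exactly when `q ^ n ≡ 1` modulo `n * (q - 1)` but `q ^ i` is not, for `0 < i < n`. -/
theorem result (q n : ℕ) (hq : IsPrimePow q) (hn : 1 < n) : ((∀ r : ℕ, r.Prime → r ∣ n → r ∣ q - 1) ∧ (4 ∣ n → 4 ∣ q - 1)) ↔ (q ^ n ≡ 1 [MOD n * (q - 1)] ∧ ∀ i : ℕ, 0 < i → i < n → ¬ q ^ i ≡ 1 [MOD n * (q - 1)]) := by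
  have hq2 : 2 ≤ q := hq.two_le
  have hq1 : q - 1 ≠ 0 := by omega
  have hM : n * (q - 1) ≠ 0 := Nat.mul_ne_zero (by omega) hq1
  have hmod : ∀ i : ℕ, q ^ i ≡ 1 [MOD n * (q - 1)] ↔ n * (q - 1) ∣ q ^ i - 1 := fun i =>
    ⟨fun h => (Nat.modEq_iff_dvd' (Nat.one_le_pow _ _ (by omega))).mp h.symm,
      fun h => ((Nat.modEq_iff_dvd' (Nat.one_le_pow _ _ (by omega))).mpr h).symm⟩
  have hgeom : ∀ i : ℕ, (∑ m ∈ Finset.range i, q ^ m) * (q - 1) + 1 = q ^ i := fun i => by
    have := geom_sum_mul_add (q - 1) i
    rwa [show q - 1 + 1 = q by omega] at this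
  constructor
  · rintro ⟨hr, h4⟩
    -- divisibility by `n * (q - 1)` is divisibility of the exponent by `n`
    have key : ∀ i : ℕ, 0 < i → (n * (q - 1) ∣ q ^ i - 1 ↔ n ∣ i) := by
      intro i hi
      have hne : q ^ i - 1 ≠ 0 := by
        have : 1 < q ^ i := Nat.one_lt_pow (by omega) (by omega)
        omega
      rw [← Nat.factorization_le_iff_dvd hM hne, ← Nat.factorization_le_iff_dvd (by omega) (by omega : i ≠ 0),
        Finsupp.le_def, Finsupp.le_def]
      refine forall_congr' fun r => ?_
      rw [Nat.factorization_mul (by omega) hq1, Finsupp.add_apply]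
      by_cases hrn : r.Prime ∧ r ∣ n
      · obtain ⟨hrp, hrd⟩ := hrn
        have := Fact.mk hrp
        have hrq : r ∣ q - 1 := hr r hrp hrd
        have hnq : ¬ r ∣ q := fun h => hrp.one_lt.ne' (Nat.dvd_one.mp (by
          have := Nat.dvd_sub h hrq
          rwa [show q - (q - 1) = 1 by omega] at this))
        simp only [Nat.factorization_def _ hrp]
        rcases hrp.eq_two_or_odd' with rfl | hodd
        · by_cases h4n : 4 ∣ q - 1
          · rcases Nat.even_or_odd i with hev | hio
            · have h := padicValNat.pow_two_sub_pow (x := q) (y := 1) (by omega) hrq hnq (by omega) hev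
              rw [one_pow] at h
              have h2 : padicValNat 2 (q + 1) = 1 := by
                obtain ⟨c, hc⟩ := h4n
                rw [show q + 1 = 2 * (2 * c + 1) by omega, padicValNat.mul (by norm_num) (by omega),
                  padicValNat.self (by norm_num), padicValNat.eq_zero_of_not_dvd (by omega : ¬ 2 ∣ 2 * c + 1)]
              omega
            · have h2 : padicValNat 2 i = 0 := padicValNat.eq_zero_of_not_dvd (by
                rw [← even_iff_two_dvd]; exact Nat.not_even_iff_odd.mpr hio)
              have h3 : padicValNat 2 (q ^ i - 1) = padicValNat 2 (q - 1) := by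
                obtain ⟨j, rfl⟩ := hio
                have hS : q ^ (2 * j + 1) - 1 = (q - 1) * ∑ m ∈ Finset.range (2 * j + 1), q ^ m := by
                  conv_lhs => rw [← hgeom (2 * j + 1), Nat.add_sub_cancel, mul_comm]
                rw [hS, padicValNat.mul hq1 (by
                  intro e
                  rw [e, mul_zero] at hS
                  exact hne hS)]
                have : ¬ 2 ∣ ∑ m ∈ Finset.range (2 * j + 1), q ^ m := by
                  rw [Nat.dvd_iff_mod_eq_zero, Finset.sum_nat_mod, Finset.sum_congr rfl (fun m _ =>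
                    show q ^ m % 2 = 1 by rw [Nat.pow_mod, show q % 2 = 1 by omega, one_pow, Nat.one_mod]),
                    Finset.sum_const, Finset.card_range, smul_eq_mul, mul_one]
                  omega
                rw [padicValNat.eq_zero_of_not_dvd this, add_zero]
              omega
          · have hn1 : padicValNat 2 n = 1 := by
              have h1 : 1 ≤ padicValNat 2 n := one_le_padicValNat_of_dvd (by omega) hrd
              have h2 : ¬ 2 ≤ padicValNat 2 n := fun h =>
                h4n (h4 ((padicValNat_dvd_iff_le (p := 2) (n := 2) (by omega : n ≠ 0)).mpr h))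
              omega
            have hq3 : padicValNat 2 (q - 1) = 1 := by
              obtain ⟨c, hc⟩ := hrq
              rw [hc, padicValNat.mul (by norm_num) (by omega), padicValNat.self (by norm_num),
                padicValNat.eq_zero_of_not_dvd (by omega : ¬ 2 ∣ c)]
            rcases Nat.even_or_odd i with hev | hio
            · have h := padicValNat.pow_two_sub_pow (x := q) (y := 1) (by omega) hrq hnq (by omega) hev
              rw [one_pow] at h
              have h1 : 1 ≤ padicValNat 2 i := one_le_padicValNat_of_dvd (by omega) (even_iff_two_dvd.mp hev)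
              have h2 : 2 ≤ padicValNat 2 (q + 1) :=
                (padicValNat_dvd_iff_le (p := 2) (n := 2) (by omega : q + 1 ≠ 0)).mp (by omega)
              omega
            · have h2 : padicValNat 2 i = 0 := padicValNat.eq_zero_of_not_dvd (by
                rw [← even_iff_two_dvd]; exact Nat.not_even_iff_odd.mpr hio)
              have h3 : ¬ 2 ≤ padicValNat 2 (q ^ i - 1) := by
                intro h
                have h5 := (padicValNat_dvd_iff_le (p := 2) (n := 2) hne).mpr h
                obtain ⟨j, rfl⟩ := hio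
                have h6 : q ^ (2 * j + 1) % 4 = 3 := by
                  rw [pow_succ, pow_mul, Nat.mul_mod, Nat.pow_mod, Nat.pow_mod q 2, show q % 4 = 3 by omega]
                  norm_num
                omega
              omega
        · have h := padicValNat.pow_sub_pow (p := r) (x := q) (y := 1) hodd (by omega) hrq hnq
            (by omega : i ≠ 0)
          rw [one_pow] at h
          omega
      · have hn0 : n.factorization r = 0 := by
          rcases not_and_or.mp hrn with h | h
          · exact Nat.factorization_eq_zero_of_not_prime n h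
          · exact Nat.factorization_eq_zero_of_not_dvd h
        rw [hn0, zero_add]
        simp only [Nat.zero_le, iff_true]
        refine (Nat.factorization_le_iff_dvd hq1 hne).mpr ?_ r
        simpa using Nat.sub_dvd_pow_sub_pow q 1 i
    refine ⟨(hmod n).mpr ((key n (by omega)).mpr dvd_rfl), fun i hi hin h => ?_⟩
    have := Nat.le_of_dvd hi ((key i hi).mp ((hmod i).mp h))
    omega
  · rintro ⟨hn1, hlt⟩
    have hcop : Nat.Coprime q (n * (q - 1)) := by
      refine Nat.Coprime.coprime_dvd_left (dvd_pow_self q (by omega : n ≠ 0)) ?_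
      have := hn1.gcd_eq
      rwa [Nat.gcd_one_left] at this
    let S : Fin n → Fin n := fun i => ⟨(∑ m ∈ Finset.range i, q ^ m) % n, Nat.mod_lt _ (by omega)⟩
    have hSmod : ∀ i k : ℕ, (∑ m ∈ Finset.range i, q ^ m) ≡ k [MOD n] → q ^ i ≡ k * (q - 1) + 1 [MOD n * (q - 1)] := by
      intro i k h
      rw [← hgeom i]
      exact (h.mul_right' (q - 1)).add_right 1
    have hinj : ∀ i j : Fin n, (i : ℕ) ≤ j → S i = S j → i = j := by
      intro i j hij h
      have h1 : (∑ m ∈ Finset.range j, q ^ m) ≡ (∑ m ∈ Finset.range i, q ^ m) [MOD n] :=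
        (congrArg Fin.val h).symm
      have h2 := hSmod _ _ h1
      rw [hgeom i] at h2
      by_contra hne
      have hlt' : (i : ℕ) < j := lt_of_le_of_ne hij (fun e => hne (Fin.ext e))
      refine hlt (j - i) (by omega) (by omega) (Nat.ModEq.cancel_left_of_coprime (c := q ^ (i : ℕ)) ?_ ?_)
      · exact (hcop.symm.pow_right _)
      · rw [mul_one, ← pow_add, Nat.add_sub_cancel' hij]
        exact h2
    have hS : Function.Surjective S := Finite.injective_iff_surjective.mp fun i j h => by
      rcases le_total (i : ℕ) j with hle | hle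
      · exact hinj i j hle h
      · exact (hinj j i hle h.symm).symm
    have hall : ∀ k : ℕ, ∃ i : ℕ, q ^ i ≡ k * (q - 1) + 1 [MOD n * (q - 1)] := by
      intro k
      obtain ⟨i, hi⟩ := hS ⟨k % n, Nat.mod_lt _ (by omega)⟩
      exact ⟨i, hSmod _ _ (congrArg Fin.val hi)⟩
    refine ⟨fun r hr hrn => ?_, fun h4 => ?_⟩
    · by_contra hrq
      have := Fact.mk hr
      have h0 : ((q - 1 : ℕ) : ZMod r) ≠ 0 := fun e => hrq ((ZMod.natCast_eq_zero_iff _ _).mp e)
      obtain ⟨i, hi⟩ := hall (ZMod.val (-(1 : ZMod r) / ((q - 1 : ℕ) : ZMod r)))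
      have hi' := hi.of_mul_right (q - 1)
      have h1 := (ZMod.natCast_eq_natCast_iff _ _ _).mpr (hi'.of_dvd hrn)
      rw [Nat.cast_pow, Nat.cast_add, Nat.cast_mul, ZMod.natCast_val, ZMod.cast_id, Nat.cast_one,
        div_mul_cancel₀ _ h0, neg_add_cancel] at h1
      have h2 : (q : ZMod r) = 0 := pow_eq_zero_iff'.mp h1 |>.1
      exact hr.one_lt.ne' (Nat.eq_one_of_dvd_coprimes hcop ((ZMod.natCast_eq_zero_iff _ _).mp h2)
        (hrn.mul_right _))
    · by_contra hq4
      have h2n : 2 ∣ n * (q - 1) := (dvd_trans (by norm_num) h4).mul_right _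
      have hqodd : q % 2 = 1 := by
        by_contra h
        have h2q : 2 ∣ q := by omega
        have := Nat.eq_one_of_dvd_coprimes hcop h2q h2n
        omega
      obtain ⟨i, hi⟩ := hall 2
      have h8 : 8 ∣ n * (q - 1) := by
        obtain ⟨a, rfl⟩ := h4
        obtain ⟨b, hb⟩ : 2 ∣ q - 1 := by omega
        exact ⟨a * b, by rw [hb]; ring⟩
      have hi8 : q ^ i % 8 = (2 * (q - 1) + 1) % 8 := hi.of_dvd h8
      rcases Nat.even_or_odd' i with ⟨j, rfl | rfl⟩
      · rw [pow_mul, Nat.pow_mod] at hi8
        have h1 : q ^ 2 % 8 = 1 := by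
          rw [Nat.pow_mod]
          rcases (by omega : q % 8 = 3 ∨ q % 8 = 7) with e | e <;> rw [e]
        rw [h1, one_pow] at hi8
        omega
      · rw [pow_succ, pow_mul, Nat.mul_mod, Nat.pow_mod] at hi8
        have h1 : q ^ 2 % 8 = 1 := by
          rw [Nat.pow_mod]
          rcases (by omega : q % 8 = 3 ∨ q % 8 = 7) with e | e <;> rw [e]
        rw [h1, one_pow] at hi8
        omega

end Cfsg.Agent.S0694
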