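import Cfsg.Statements.S0695
import Cfsg.Agent.Lib.PermGroup.Basic

set_option autoImplicit false
open Cfsg

namespace Cfsg.Agent.S0695

/-- A regular normal subgroup of a doubly primitive group of finite degree at least 2 is an elementary abelian 2-group (and the degree is a power of 2), unless the degree is 3. -/
theorem result {G : Type*} [Group G] {X : Type*} [Fintype X] [MulAction G X] (hX : 2 ≤ Fintype.card X) (h2 : MulAction.IsMultiplyPreprimitive G X 2) (N : Subgroup G) [N.Normal] (htrans : MulAction.IsPretransitive N X) (hreg : ∀ x : X, MulAction.stabilizer N x = ⊥) : Fintype.card X = 3 ∨ (IsMulCommutative N ∧ (∀ n ∈ N, n ^ 2 = 1) ∧ ∃ m : ℕ, Fintype.card X = 2 ^ m) := by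
  have : MulAction.IsPretransitive G X :=
    ⟨fun x y => let ⟨n, hn⟩ := MulAction.exists_smul_eq N x y; ⟨n, hn⟩⟩
  have : Nonempty X := Fintype.card_pos_iff.mp (by omega)
  rw [← Nat.card_eq_fintype_card]
  rcases CfsgLib.PermGroup.two_primitive_regular h2 N hreg with h | h
  · exact Or.inl h
  right
  have inv2 : ∀ a ∈ N, a⁻¹ = a := fun a ha =>
    inv_eq_of_mul_eq_one_right (by rw [← sq]; exact h a ha)
  refine ⟨⟨⟨fun a b => Subtype.ext ?_⟩⟩, h, ?_⟩
  · rw [Subgroup.coe_mul, Subgroup.coe_mul, ← inv2 _ (N.mul_mem a.2 b.2), mul_inv_rev,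
      inv2 _ a.2, inv2 _ b.2]
  · obtain ⟨x⟩ := ‹Nonempty X›
    have hc := CfsgLib.PermGroup.card_eq_of_regular hreg x
    have : Finite N := Nat.finite_of_card_ne_zero
      (by rw [hc, Nat.card_eq_fintype_card]; omega)
    have hN : IsPGroup 2 N := fun n => ⟨1, by rw [pow_one]; exact Subtype.ext (by simpa using h n n.2)⟩
    obtain ⟨m, hm⟩ := IsPGroup.iff_card.mp hN
    exact ⟨m, by rw [← hc, hm]⟩

end Cfsg.Agent.S0695
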