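import Cfsg.Statements.S0699
import Cfsg.Agent.Lib.PrimRecog.JordanNormal

set_option autoImplicit false
open Cfsg

namespace Cfsg.Agent.S0699

/-- Wagner's Theorem: a non-trivial normal subgroup of a triply transitive permutation group of odd degree at least 5 is triply transitive. -/
theorem result {α : Type*} [Fintype α] [DecidableEq α] (G : Subgroup (Equiv.Perm α)) (hodd : Odd (Fintype.card α)) (h5 : 5 ≤ Fintype.card α) (hG : MulAction.IsMultiplyPretransitive G α 3) (N : Subgroup G) [N.Normal] (hN : N ≠ ⊥) : MulAction.IsMultiplyPretransitive N α 3 := by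
  have hc : Nat.card α = Fintype.card α := Nat.card_eq_fintype_card
  have h2 : MulAction.IsMultiplyPretransitive N α 2 := by
    rcases CfsgLib.PrimRecog.NormalMultiply.jordan G (k := 3) (by norm_num) (by omega) hG N hN with
      h | ⟨-, hreg, htr, he⟩
    · exact h
    · exfalso
      have hne : Nonempty α := Fintype.card_pos_iff.mp (by omega)
      obtain ⟨x⟩ := hne
      have := htr
      have hNc := CfsgLib.PermGroup.card_eq_of_regular hreg x
      have hp : IsPGroup 2 N := fun n => ⟨1, by rw [pow_one]; exact Subtype.ext (he n n.2)⟩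
      obtain ⟨m, hm⟩ := IsPGroup.iff_card.mp hp
      rw [hNc, hc] at hm
      rw [hm] at hodd h5
      rcases Nat.eq_zero_or_pos m with rfl | hmpos
      · norm_num at h5
      · exact Nat.not_even_iff_odd.mpr hodd ((Nat.even_pow).mpr ⟨even_two, by omega⟩)
  refine ⟨fun x y => ?_⟩
  have hne : ∀ (u : Fin 3 ↪ α) {i j : Fin 3}, i ≠ j → u i ≠ u j := fun u _ _ h e => h (u.injective e)
  obtain ⟨n₁, h10, h11⟩ := MulAction.is_two_pretransitive_iff.mp h2 (hne x (by decide : (0 : Fin 3) ≠ 1))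
    (hne y (by decide : (0 : Fin 3) ≠ 1))
  have e0 : n₁ • x 2 ≠ y 0 := fun e => hne x (by decide : (2 : Fin 3) ≠ 0) (smul_left_cancel n₁ (e.trans h10.symm))
  have e1 : n₁ • x 2 ≠ y 1 := fun e => hne x (by decide : (2 : Fin 3) ≠ 1) (smul_left_cancel n₁ (e.trans h11.symm))
  obtain ⟨n₂, hn₂, g0, g1, g2⟩ := CfsgLib.PrimRecog.NormalMultiply.wagner (G := G) (X := α) (hc ▸ hodd) hG N h2
    (hne y (by decide : (0 : Fin 3) ≠ 1)) e0 e1 (hne y (by decide : (2 : Fin 3) ≠ 0))
    (hne y (by decide : (2 : Fin 3) ≠ 1))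
  refine ⟨⟨n₂, hn₂⟩ * n₁, Function.Embedding.ext fun i => ?_⟩
  show (⟨n₂, hn₂⟩ * n₁ : N) • x i = y i
  fin_cases i
  · show (⟨n₂, hn₂⟩ * n₁ : N) • x 0 = y 0
    rw [mul_smul, h10]; exact g0
  · show (⟨n₂, hn₂⟩ * n₁ : N) • x 1 = y 1
    rw [mul_smul, h11]; exact g1
  · show (⟨n₂, hn₂⟩ * n₁ : N) • x 2 = y 2
    rw [mul_smul]; exact g2

end Cfsg.Agent.S0699
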