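import Cfsg.Statements.S0700
import Cfsg.Agent.Lib.PrimRecog.BurnsideMinimal

set_option autoImplicit false
open Cfsg

namespace Cfsg.Agent.S0700

/-- Burnside's Theorem on doubly transitive groups: a minimal normal subgroup of a finite doubly transitive permutation group is elementary abelian and regular, or simple and primitive. -/
theorem result {α : Type*} [Fintype α] [DecidableEq α] (G : Subgroup (Equiv.Perm α)) (hG : MulAction.IsMultiplyPretransitive G α 2) (N : Subgroup G) [N.Normal] (hN : N ≠ ⊥) (hmin : ∀ M : Subgroup G, M.Normal → M ≤ N → M = ⊥ ∨ M = N) : (IsMulCommutative N ∧ (∃ p : ℕ, p.Prime ∧ ∀ n ∈ N, n ^ p = 1) ∧ ∀ a : α, MulAction.stabilizer N a = ⊥) ∨ (IsSimpleGroup N ∧ MulAction.IsPreprimitive N α) := by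
  by_cases h : ∀ a : α, MulAction.stabilizer N a = ⊥
  · rcases isEmpty_or_nonempty α with hα | hα
    · exact absurd (Subsingleton.elim N ⊥) hN
    · obtain ⟨h1, h2⟩ := CfsgLib.PermGroup.regular_normal_elementary hG N hN h
      exact Or.inl ⟨h1, h2, h⟩
  · push Not at h
    exact Or.inr ⟨CfsgLib.PrimRecog.BurnsideMinimal.simple_of_minimal hG N hN hmin h,
      CfsgLib.PrimRecog.BurnsideMinimal.primitive_of_minimal hG N hN hmin h⟩

end Cfsg.Agent.S0700
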