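import Cfsg.Statements.S0702
import Cfsg.Agent.Lib.PermGroup.Centralizer

set_option autoImplicit false
open Cfsg

namespace Cfsg.Agent.S0702

/-- For a transitive permutation group `G` on a finite set, the centraliser of `G` in the symmetric group is isomorphic to `N_G(G_ω)/G_ω`, and its orbit of `ω` is the set of fixed points of `G_ω`. -/
theorem result {α : Type*} [Finite α] (G : Subgroup (Equiv.Perm α)) [MulAction.IsPretransitive G α] (a : α) : Nonempty (Subgroup.centralizer (G : Set (Equiv.Perm α)) ≃* Subgroup.normalizer ((MulAction.stabilizer G a : Subgroup G) : Set G) ⧸ (MulAction.stabilizer G a).subgroupOf (Subgroup.normalizer ((MulAction.stabilizer G a : Subgroup G) : Set G))) ∧ MulAction.orbit (Subgroup.centralizer (G : Set (Equiv.Perm α))) a = MulAction.fixedPoints (MulAction.stabilizer G a) α := by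
  open MulAction CfsgLib.PermGroup in
  · set C := Subgroup.centralizer (G : Set (Equiv.Perm α)) with hC
    set H := stabilizer G a with hH
    set N := Subgroup.normalizer ((H : Subgroup G) : Set G) with hN
    have hex : ∀ n : N, ∃ c : C, (c : Equiv.Perm α) a = ((n : G)⁻¹) • a := by
      intro n
      have hst : stabilizer G a = stabilizer G (((n : G)⁻¹) • a) := by
        ext h
        rw [mem_stabilizer_iff (a := ((n : G)⁻¹) • a), ← hH, Subgroup.mem_normalizer_iff.mp n.2 h,
          hH, mem_stabilizer_iff, mul_smul, mul_smul, eq_inv_smul_iff]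
      obtain ⟨c, hc, hca⟩ := exists_centralizer_apply hst
      exact ⟨⟨c, hc⟩, hca⟩
    choose φ hφ using hex
    have inj : ∀ c d : C, (c : Equiv.Perm α) a = (d : Equiv.Perm α) a → c = d := fun c d h =>
      Subtype.ext (centralizer_eq_of_apply_eq c.2 d.2 h)
    let f : N →* C := MonoidHom.mk' φ fun n m => inj _ _ (by
      rw [hφ, Subgroup.coe_mul, Subgroup.coe_mul, mul_inv_rev, Equiv.Perm.mul_apply, hφ,
        centralizer_apply (φ n).2, hφ, mul_smul])
    have hker : f.ker = H.subgroupOf N := by
      ext n
      rw [MonoidHom.mem_ker, Subgroup.mem_subgroupOf, hH, mem_stabilizer_iff]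
      constructor
      · intro h
        have h1 := hφ n
        rw [show φ n = 1 from h, OneMemClass.coe_one, Equiv.Perm.one_apply] at h1
        rw [smul_eq_iff_eq_inv_smul, ← h1]
      · intro h
        refine inj _ _ ?_
        show (φ n : Equiv.Perm α) a = _
        rw [hφ, OneMemClass.coe_one, Equiv.Perm.one_apply, inv_smul_eq_iff, h]
    have hsurj : Function.Surjective f := by
      intro c
      obtain ⟨g, hg⟩ := exists_smul_eq G ((c : Equiv.Perm α) a) a
      have hgN : g ∈ N := by
        rw [hN, Subgroup.mem_normalizer_iff]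
        intro h
        have hga : g⁻¹ • a = (c : Equiv.Perm α) a := by rw [inv_smul_eq_iff, hg]
        rw [hH, ← stabilizer_apply_centralizer c.2 a]
        rw [stabilizer_apply_centralizer c.2 a, mem_stabilizer_iff (g := g * h * g⁻¹), mul_smul,
          mul_smul, smul_eq_iff_eq_inv_smul, hga, ← mem_stabilizer_iff,
          stabilizer_apply_centralizer c.2 a]
      refine ⟨⟨g, hgN⟩, inj _ _ ?_⟩
      show (φ _ : Equiv.Perm α) a = _
      rw [hφ]
      exact (smul_eq_iff_eq_inv_smul g |>.mp hg).symm
    refine ⟨⟨((QuotientGroup.quotientMulEquivOfEq hker.symm).trans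
      (QuotientGroup.quotientKerEquivOfSurjective f hsurj)).symm⟩, ?_⟩
    ext b
    rw [mem_fixedPoints, mem_orbit_iff]
    constructor
    · rintro ⟨⟨c, hc⟩, rfl⟩ ⟨h, hh⟩
      show h • c a = c a
      rw [← centralizer_apply hc, mem_stabilizer_iff.mp hh]
    · intro hb
      have hle : stabilizer G a ≤ stabilizer G b := fun h hh => hb ⟨h, hh⟩
      have heq : stabilizer G a = stabilizer G b := by
        have hi : (stabilizer G a).index = (stabilizer G b).index := by
          rw [index_stabilizer_of_transitive, index_stabilizer_of_transitive]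
        have hca : (stabilizer G a).index ≠ 0 := Subgroup.index_ne_zero_of_finite
        refine Subgroup.eq_of_le_of_card_ge hle ?_
        have h1 := (stabilizer G a).card_mul_index
        have h2 := (stabilizer G b).card_mul_index
        rw [← hi, ← h1] at h2
        exact (Nat.eq_of_mul_eq_mul_right (Nat.pos_of_ne_zero hca) h2).le
      obtain ⟨c, hc, hcab⟩ := exists_centralizer_apply heq
      exact ⟨⟨c, hc⟩, hcab⟩

end Cfsg.Agent.S0702
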