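import Cfsg.Statements.S0703
import Cfsg.Agent.Lib.PermGroup.Centralizer

set_option autoImplicit false
open Cfsg

namespace Cfsg.Agent.S0703

/-- An abelian transitive minimal normal subgroup `M` of a permutation group on a finite set is self-centralising in the symmetric group, regular, elementary abelian, and is the unique minimal normal subgroup. -/
theorem result {α : Type*} [Finite α] (G : Subgroup (Equiv.Perm α)) (M : Subgroup G) [M.Normal] (hM : M ≠ ⊥) (hmin : ∀ L : Subgroup G, L.Normal → L ≤ M → L = ⊥ ∨ L = M) (hab : IsMulCommutative M) (htrans : MulAction.IsPretransitive M α) : Subgroup.centralizer ((M.map G.subtype : Subgroup (Equiv.Perm α)) : Set (Equiv.Perm α)) = M.map G.subtype ∧ (∀ a : α, MulAction.stabilizer M a = ⊥) ∧ (∃ p : ℕ, p.Prime ∧ ∀ m ∈ M, m ^ p = 1) ∧ ∀ L : Subgroup G, L.Normal → L ≠ ⊥ → (∀ L' : Subgroup G, L'.Normal → L' ≤ L → L' = ⊥ ∨ L' = L) → L = M := by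
  open CfsgLib.PermGroup in
  · have : Finite (Equiv.Perm α) := inferInstance
    have : Nonempty α := by
      by_contra h
      have : IsEmpty α := not_nonempty_iff.mp h
      exact hM (Subsingleton.elim _ _)
    have := isPretransitive_map M
    obtain ⟨hC, hs⟩ := centralizer_eq_of_commute
      (M := M.map G.subtype) (N := M.map G.subtype) (α := α) (by
        rintro _ ⟨x, hx, rfl⟩
        rw [Subgroup.mem_centralizer_iff]
        rintro _ ⟨y, hy, rfl⟩
        exact congrArg (fun z : M => ((z : G) : Equiv.Perm α))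
          (hab.is_comm.comm ⟨y, hy⟩ ⟨x, hx⟩))
    refine ⟨hC, fun a => stabilizer_eq_bot_of_map M a (hs a), ?_, ?_⟩
    · obtain ⟨m, hm, hm1⟩ := M.bot_or_exists_ne_one.resolve_left hM
      obtain ⟨p, hp, hpd⟩ := Nat.exists_prime_and_dvd (mt orderOf_eq_one_iff.mp hm1)
      refine ⟨p, hp, ?_⟩
      let K : Subgroup G :=
        { carrier := {x | x ∈ M ∧ x ^ p = 1}
          one_mem' := ⟨M.one_mem, one_pow p⟩
          mul_mem' := fun {x y} hx hy => ⟨M.mul_mem hx.1 hy.1, by
            have hc : Commute x y := congrArg Subtype.val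
              (hab.is_comm.comm ⟨x, hx.1⟩ ⟨y, hy.1⟩)
            rw [hc.mul_pow, hx.2, hy.2, mul_one]⟩
          inv_mem' := fun {x} hx => ⟨M.inv_mem hx.1, by rw [inv_pow, hx.2, inv_one]⟩ }
      have hK : K.Normal := ⟨fun x hx g => ⟨Subgroup.Normal.conj_mem ‹_› x hx.1 g, by
        rw [conj_pow, hx.2, mul_one, mul_inv_cancel]⟩⟩
      rcases hmin K hK (fun x hx => hx.1) with h | h
      · exfalso
        have h1 : m ^ (orderOf m / p) ∈ K := ⟨M.pow_mem hm _, by
          rw [← pow_mul, Nat.div_mul_cancel hpd, pow_orderOf_eq_one]⟩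
        rw [h, Subgroup.mem_bot] at h1
        have h2 := orderOf_pow_orderOf_div (orderOf_pos m).ne' hpd
        rw [h1, orderOf_one] at h2
        exact hp.one_lt.ne h2
      · intro x hx
        rw [← h] at hx
        exact hx.2
    · intro L hLn hL hLmin
      by_contra hne
      have hd := disjoint_of_minimal M L hmin hLmin hne
      have hle := map_le_centralizer M L hd
      rw [hC] at hle
      rcases hmin L hLn (le_of_map_le_map hle) with h | h
      · exact hL h
      · exact hne h

end Cfsg.Agent.S0703
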