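import Cfsg.Statements.S0704
import Cfsg.Agent.Lib.PermGroup.Centralizer

set_option autoImplicit false
open Cfsg

namespace Cfsg.Agent.S0704

/-- Two distinct transitive minimal normal subgroups `M`, `N` of a permutation group are regular, non-abelian, isomorphic, each other's centraliser in the symmetric group, and the only minimal normal subgroups. -/
theorem result {α : Type*} (G : Subgroup (Equiv.Perm α)) (M N : Subgroup G) [M.Normal] [N.Normal] (hM : M ≠ ⊥) (hN : N ≠ ⊥) (hMmin : ∀ L : Subgroup G, L.Normal → L ≤ M → L = ⊥ ∨ L = M) (hNmin : ∀ L : Subgroup G, L.Normal → L ≤ N → L = ⊥ ∨ L = N) (hMN : M ≠ N) (hMt : MulAction.IsPretransitive M α) (hNt : MulAction.IsPretransitive N α) : (∀ a : α, MulAction.stabilizer M a = ⊥) ∧ (∀ a : α, MulAction.stabilizer N a = ⊥) ∧ ¬ IsMulCommutative M ∧ Nonempty (M ≃* N) ∧ Subgroup.centralizer ((M.map G.subtype : Subgroup (Equiv.Perm α)) : Set (Equiv.Perm α)) = N.map G.subtype ∧ Subgroup.centralizer ((N.map G.subtype : Subgroup (Equiv.Perm α)) : Set (Equiv.Perm α)) = M.map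 G.subtype ∧ ∀ L : Subgroup G, L.Normal → L ≠ ⊥ → (∀ L' : Subgroup G, L'.Normal → L' ≤ L → L' = ⊥ ∨ L' = L) → L = M ∨ L = N := by
  open MulAction CfsgLib.PermGroup in
  · have : Nonempty α := by
      by_contra h
      have : IsEmpty α := not_nonempty_iff.mp h
      exact hM (Subsingleton.elim _ _)
    have hd := disjoint_of_minimal M N hMmin hNmin (Ne.symm hMN)
    have := isPretransitive_map M
    have := isPretransitive_map N
    obtain ⟨hCM, hsM⟩ := centralizer_eq_of_commute (map_le_centralizer M N hd)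
    obtain ⟨hCN, hsN⟩ := centralizer_eq_of_commute (map_le_centralizer N M hd.symm)
    have hsM' := fun a => stabilizer_eq_bot_of_map M a (hsM a)
    have hsN' := fun a => stabilizer_eq_bot_of_map N a (hsN a)
    refine ⟨hsM', hsN', ?_, ?_, hCM, hCN, ?_⟩
    · intro hab
      have hle : M.map G.subtype ≤ N.map G.subtype := by
        rw [← hCM]
        rintro _ ⟨x, hx, rfl⟩
        rw [Subgroup.mem_centralizer_iff]
        rintro _ ⟨y, hy, rfl⟩
        exact congrArg (fun z : M => ((z : G) : Equiv.Perm α))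
          (hab.is_comm.comm ⟨y, hy⟩ ⟨x, hx⟩)
      rcases hNmin M ‹_› (le_of_map_le_map hle) with h | h
      · exact hM h
      · exact hMN h
    · obtain ⟨a⟩ := ‹Nonempty α›
      let eM : M ≃ α := Equiv.ofBijective (fun m : M => m⁻¹ • a)
        ⟨fun x y h => inv_injective (semiregular_inj hsM' h), fun y => by
          obtain ⟨m, hm⟩ := exists_smul_eq M a y
          exact ⟨m⁻¹, by simpa using hm⟩⟩
      let eN : N ≃ α := Equiv.ofBijective (fun n : N => n • a)
        ⟨fun x y h => semiregular_inj hsN' h, fun y => exists_smul_eq N a y⟩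
      refine ⟨{ toEquiv := eM.trans eN.symm, map_mul' := fun x y => ?_ }⟩
      apply eN.injective
      simp only [Equiv.trans_apply, Equiv.apply_symm_apply, Equiv.toFun_as_coe]
      have hx : eN.symm (eM x) • a = x⁻¹ • a := eN.apply_symm_apply (eM x)
      have hy : eN.symm (eM y) • a = y⁻¹ • a := eN.apply_symm_apply (eM y)
      show (x * y)⁻¹ • a = (eN.symm (eM x) * eN.symm (eM y)) • a
      rw [mul_smul, hy, mul_inv_rev, mul_smul, ← hx]
      have hc := Subgroup.commute_of_normal_of_disjoint M N ‹_› ‹_› hd (y⁻¹ : M).1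
        (eN.symm (eM x)).1 (y⁻¹ : M).2 (eN.symm (eM x)).2
      show (y⁻¹ : M).1 • (eN.symm (eM x)).1 • a = (eN.symm (eM x)).1 • (y⁻¹ : M).1 • a
      rw [← mul_smul, ← mul_smul, hc.eq]
    · intro L hLn hL hLmin
      by_contra hne
      simp only [not_or] at hne
      have hd' := disjoint_of_minimal M L hMmin hLmin hne.1
      have hle := map_le_centralizer M L hd'
      rw [hCM] at hle
      rcases hNmin L hLn (le_of_map_le_map hle) with h | h
      · exact hL h
      · exact hne.2 h

end Cfsg.Agent.S0704
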