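import Cfsg.Statements.S0705
import Mathlib

set_option autoImplicit false
open scoped Pointwise
open Cfsg
open scoped Pointwise

namespace Cfsg.Agent.S0705

/-- A generously `k`-transitive permutation group (every `(k+1)`-subset has its full symmetric group induced by the setwise stabiliser) of degree greater than `k` is `k`-transitive, and for a `k`-subset the setwise and pointwise stabilisers have the same orbits outside it. -/
theorem result {α : Type*} [Fintype α] [DecidableEq α] (G : Subgroup (Equiv.Perm α)) {k : ℕ} (hk : k < Fintype.card α) (hgen : ∀ s : Finset α, s.card = k + 1 → ∀ σ : Equiv.Perm ↥s, ∃ g ∈ G, ∀ x : ↥s, g (x : α) = σ x) : MulAction.IsMultiplyPretransitive G α k ∧ ∀ s : Finset α, s.card = k → ∀ a b : α, a ∉ s → b ∉ s → (∃ g ∈ G, g • s = s ∧ g a = b) → ∃ g ∈ G, (∀ x ∈ s, g x = x) ∧ g a = b := by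
  classical
  suffices hmain : ∀ s₀ : Finset α, s₀.card = k →
      (∀ x : Fin k ↪ α, (∀ i, x i ∈ s₀) → ∀ y : Fin k ↪ α, ∃ g : G, ∀ i, g • x i = y i) ∧
      ∀ a b : α, a ∉ s₀ → b ∉ s₀ → (∃ g ∈ G, g • s₀ = s₀ ∧ g a = b) → ∃ g ∈ G, (∀ x ∈ s₀, g x = x) ∧ g a = b by
    refine ⟨⟨fun x y => ?_⟩, fun s hs => (hmain s hs).2⟩
    obtain ⟨g, hg⟩ := (hmain (Finset.univ.map x) (by rw [Finset.card_map, Finset.card_univ, Fintype.card_fin])).1 x
      (fun i => Finset.mem_map_of_mem x (Finset.mem_univ i)) y
    exact ⟨g, Function.Embedding.ext hg⟩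
  intro s₀ hΓ
  -- any permutation of a `k + 1`-set is induced
  have hext : ∀ s : Finset α, s.card = k + 1 → ∀ τ : Equiv.Perm α, (∀ x, x ∈ s → τ x ∈ s) →
      ∃ g : G, ∀ x ∈ s, g • x = τ x := by
    intro s hs τ hτ
    have hb : Function.Bijective fun x : ↥s => (⟨τ x, hτ x x.2⟩ : ↥s) :=
      Finite.injective_iff_bijective.mp fun x y h => Subtype.ext (τ.injective (congrArg Subtype.val h))
    obtain ⟨g, hg, hgx⟩ := hgen s hs (Equiv.ofBijective _ hb)
    exact ⟨⟨g, hg⟩, fun x hx => hgx ⟨x, hx⟩⟩
  -- all `k`-sets are equivalent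
  have htr : ∀ d : ℕ, ∀ D : Finset α, D.card = k → (D \ s₀).card = d → ∃ g : G, ∀ x ∈ s₀, g • x ∈ D := by
    intro d
    induction d with
    | zero =>
      intro D hD hd
      rw [Finset.card_eq_zero, Finset.sdiff_eq_empty_iff_subset] at hd
      refine ⟨1, fun x hx => ?_⟩
      rw [one_smul, Finset.eq_of_subset_of_card_le hd (by omega)]
      exact hx
    | succ d ih =>
      intro D hD hd
      obtain ⟨y, hy⟩ := Finset.card_pos.mp (show 0 < (D \ s₀).card by omega)
      obtain ⟨hyD, hys₀⟩ := Finset.mem_sdiff.mp hy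
      obtain ⟨z, hzs₀, hzD⟩ : ∃ z ∈ s₀, z ∉ D := by
        by_contra h
        push Not at h
        exact hys₀ (by rw [Finset.eq_of_subset_of_card_le (s := s₀) (t := D) h (by omega)]; exact hyD)
      obtain ⟨g, hg⟩ := hext (insert z D) (by rw [Finset.card_insert_of_notMem hzD, hD]) (Equiv.swap y z) (by
        intro x hx
        by_cases h1 : x = y
        · subst h1; rw [Equiv.swap_apply_left]; exact Finset.mem_insert_self _ _
        · by_cases h2 : x = z
          · subst h2; rw [Equiv.swap_apply_right]; exact Finset.mem_insert_of_mem hyD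
          · rw [Equiv.swap_apply_of_ne_of_ne h1 h2]; exact hx)
      let D' := insert z (D.erase y)
      have hD' : D'.card = k := by
        rw [Finset.card_insert_of_notMem fun h => hzD (Finset.mem_of_mem_erase h),
          Finset.card_erase_of_mem hyD, hD]
        have := Finset.card_pos.mpr ⟨y, hyD⟩
        omega
      have hd' : (D' \ s₀).card = d := by
        rw [show D' \ s₀ = (D \ s₀).erase y by
          ext x
          simp only [D', Finset.mem_sdiff, Finset.mem_insert, Finset.mem_erase]
          constructor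
          · rintro ⟨rfl | h, hx⟩
            · exact absurd hzs₀ hx
            · exact ⟨h.1, h.2, hx⟩
          · rintro ⟨h1, h2, h3⟩; exact ⟨Or.inr ⟨h1, h2⟩, h3⟩,
          Finset.card_erase_of_mem hy]
        omega
      obtain ⟨h, hh⟩ := ih D' hD' hd'
      refine ⟨g * h, fun x hx => ?_⟩
      rw [mul_smul]
      have hw := hh x hx
      rcases Finset.mem_insert.mp hw with h' | h'
      · rw [h', hg z (Finset.mem_insert_self _ _), Equiv.swap_apply_right]; exact hyD
      · obtain ⟨h1, h2⟩ := Finset.mem_erase.mp h'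
        rw [hg _ (Finset.mem_insert_of_mem h2),
          Equiv.swap_apply_of_ne_of_ne h1 (fun e' => hzD (by rw [e'] at h2; exact h2))]
        exact h2
  constructor
  · intro x hx y
    obtain ⟨g, hg⟩ := htr _ (Finset.univ.map y)
      (by rw [Finset.card_map, Finset.card_univ, Fintype.card_fin]) rfl
    obtain ⟨z, hz⟩ : ∃ z, z ∉ Finset.univ.map y := by
      by_contra h
      push Not at h
      have := Finset.card_le_card (s := Finset.univ) (t := Finset.univ.map y) fun w _ => h w
      rw [Finset.card_map, Finset.card_univ, Finset.card_univ, Fintype.card_fin] at this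
      omega
    -- the permutation of the image of `y` still needed
    have hmem : ∀ i, ∃ j, y j = g • x i := fun i => by simpa using hg (x i) (hx i)
    choose π hπ using hmem
    have hinj : Function.Injective π := fun i i' h =>
      x.injective (smul_left_cancel g ((hπ i).symm.trans ((congrArg y h).trans (hπ i'))))
    let πe : Equiv.Perm (Fin k) := Equiv.ofBijective π (Finite.injective_iff_bijective.mp hinj)
    obtain ⟨h, hh⟩ := hext (insert z (Finset.univ.map y))
      (by rw [Finset.card_insert_of_notMem hz, Finset.card_map, Finset.card_univ, Fintype.card_fin])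
      (Equiv.Perm.extendDomain πe.symm (Equiv.ofInjective y y.injective)) (by
        intro w hw
        rcases Finset.mem_insert.mp hw with rfl | hw'
        · rw [Equiv.Perm.extendDomain_apply_not_subtype _ _ (by
            rintro ⟨i, hi⟩; exact hz (Finset.mem_map.mpr ⟨i, Finset.mem_univ i, hi⟩))]
          exact hw
        · obtain ⟨i, -, rfl⟩ := Finset.mem_map.mp hw'
          rw [show y i = ((Equiv.ofInjective y y.injective i : Set.range y) : α) from rfl,
            Equiv.Perm.extendDomain_apply_image]
          exact Finset.mem_insert_of_mem (Finset.mem_map_of_mem y (Finset.mem_univ _)))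
    refine ⟨h * g, fun i => ?_⟩
    rw [mul_smul, ← hπ i, hh _ (Finset.mem_insert_of_mem (Finset.mem_map_of_mem y (Finset.mem_univ _))),
      show y (π i) = ((Equiv.ofInjective y y.injective (π i) : Set.range y) : α) from rfl,
      Equiv.Perm.extendDomain_apply_image, show πe.symm (π i) = i from πe.symm_apply_apply i]
    rfl
  · rintro a b ha - ⟨g, hgG, hgs, rfl⟩
    have hmem : ∀ x ∈ s₀, g x ∈ s₀ := fun x hx => by
      have := Finset.smul_mem_smul_finset (a := g) hx
      rwa [hgs] at this
    let τ : Equiv.Perm ↥(insert a s₀) := Equiv.ofBijective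
      (fun w => if h : (w : α) ∈ s₀ then ⟨g (w : α), Finset.mem_insert_of_mem (hmem _ h)⟩ else w)
      (Finite.injective_iff_bijective.mp (by
        intro u v huv
        by_cases hu : (u : α) ∈ s₀ <;> by_cases hv : (v : α) ∈ s₀ <;> simp only [hu, hv, dite_true, dite_false] at huv
        · exact Subtype.ext (g.injective (congrArg Subtype.val huv))
        · exact absurd (congrArg Subtype.val huv ▸ hmem _ hu) hv
        · exact absurd ((congrArg Subtype.val huv).symm ▸ hmem _ hv) hu
        · exact huv))
    obtain ⟨h, hh, hhx⟩ := hgen _ (by rw [Finset.card_insert_of_notMem ha, hΓ]) τ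
    have h1 : h a = a := by
      rw [hhx ⟨a, Finset.mem_insert_self _ _⟩]
      simp [τ, ha]
    have h2 : ∀ y ∈ s₀, h y = g y := fun y hy => by
      rw [hhx ⟨y, Finset.mem_insert_of_mem hy⟩]
      simp [τ, hy]
    refine ⟨g * h⁻¹, G.mul_mem hgG (G.inv_mem hh), fun x hx => ?_, ?_⟩
    · obtain ⟨w, hw, rfl⟩ : ∃ w ∈ s₀, g w = x :=
        Finset.surj_on_of_inj_on_of_card_le (s := s₀) (t := s₀) (fun w _ => g w) (fun w hw => hmem w hw)
          (fun u v _ _ e => g.injective e) le_rfl x hx |>.imp fun w ⟨hw, e⟩ => ⟨hw, e.symm⟩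
      rw [Equiv.Perm.mul_apply, show h⁻¹ (g w) = w by rw [← h2 w hw]; exact h.symm_apply_apply w]
    · rw [Equiv.Perm.mul_apply, show h⁻¹ a = a by conv_lhs => rw [← h1]; exact h.symm_apply_apply a]

end Cfsg.Agent.S0705
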