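import Cfsg.Statements.S0706
import Mathlib

set_option autoImplicit false
open Cfsg

namespace Cfsg.Agent.S0706

/-- In a generously `k`-transitive permutation group, for a prime `p ≤ k` and a `k`-set `Γ`, there are no `p` points outside `Γ` lying in distinct orbits of the pointwise stabiliser of `Γ` all of length prime to `p` (at most `p - 1` such orbits). -/
theorem result {α : Type*} [Fintype α] [DecidableEq α] (G : Subgroup (Equiv.Perm α)) {k : ℕ} (hk : k < Fintype.card α) (hgen : ∀ s : Finset α, s.card = k + 1 → ∀ σ : Equiv.Perm ↥s, ∃ g ∈ G, ∀ x : ↥s, g (x : α) = σ x) {p : ℕ} (hp : p.Prime) (hpk : p ≤ k) (Γ : Finset α) (hΓ : Γ.card = k) (f : Fin p → α) (hf : ∀ i, f i ∉ Γ) (hdist : ∀ i j, i ≠ j → f j ∉ MulAction.orbit (fixingSubgroup G (Γ : Set α)) (f i)) : ∃ i, p ∣ Nat.card (MulAction.orbit (fixingSubgroup G (Γ : Set α)) (f i)) := by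
  classical
  by_contra hno
  push Not at hno
  have := Fact.mk hp
  -- any permutation of a `k + 1`-set is induced
  have hext : ∀ s : Finset α, s.card = k + 1 → ∀ τ : Equiv.Perm α, (∀ x, x ∈ s → τ x ∈ s) →
      ∃ g : G, ∀ x ∈ s, g • x = τ x := by
    intro s hs τ hτ
    have hb : Function.Bijective fun x : ↥s => (⟨τ x, hτ x x.2⟩ : ↥s) :=
      Finite.injective_iff_bijective.mp fun x y h => Subtype.ext (τ.injective (congrArg Subtype.val h))
    obtain ⟨g, hg, hgx⟩ := hgen s hs (Equiv.ofBijective _ hb)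
    exact ⟨⟨g, hg⟩, fun x hx => hgx ⟨x, hx⟩⟩
  -- all `k`-sets are equivalent
  have htr : ∀ d : ℕ, ∀ D : Finset α, D.card = k → (D \ Γ).card = d → ∃ g : G, ∀ x ∈ Γ, g • x ∈ D := by
    intro d
    induction d with
    | zero =>
      intro D hD hd
      rw [Finset.card_eq_zero, Finset.sdiff_eq_empty_iff_subset] at hd
      refine ⟨1, fun x hx => ?_⟩
      rw [one_smul, Finset.eq_of_subset_of_card_le hd (by omega)]
      exact hx
    | succ d ih =>
      intro D hD hd
      obtain ⟨y, hy⟩ := Finset.card_pos.mp (show 0 < (D \ Γ).card by omega)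
      obtain ⟨hyD, hyΓ⟩ := Finset.mem_sdiff.mp hy
      obtain ⟨z, hzΓ, hzD⟩ : ∃ z ∈ Γ, z ∉ D := by
        by_contra h
        push Not at h
        exact hyΓ (by rw [Finset.eq_of_subset_of_card_le (s := Γ) (t := D) h (by omega)]; exact hyD)
      obtain ⟨g, hg⟩ := hext (insert z D) (by rw [Finset.card_insert_of_notMem hzD, hD]) (Equiv.swap y z) (by
        intro x hx
        by_cases h1 : x = y
        · subst h1; rw [Equiv.swap_apply_left]; exact Finset.mem_insert_self _ _
        · by_cases h2 : x = z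
          · subst h2; rw [Equiv.swap_apply_right]; exact Finset.mem_insert_of_mem hyD
          · rw [Equiv.swap_apply_of_ne_of_ne h1 h2]; exact hx)
      let D' := insert z (D.erase y)
      have hD' : D'.card = k := by
        rw [Finset.card_insert_of_notMem fun h => hzD (Finset.mem_of_mem_erase h),
          Finset.card_erase_of_mem hyD, hD]
        have := Finset.card_pos.mpr ⟨y, hyD⟩
        omega
      have hd' : (D' \ Γ).card = d := by
        rw [show D' \ Γ = (D \ Γ).erase y by
          ext x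
          simp only [D', Finset.mem_sdiff, Finset.mem_insert, Finset.mem_erase]
          constructor
          · rintro ⟨rfl | h, hx⟩
            · exact absurd hzΓ hx
            · exact ⟨h.1, h.2, hx⟩
          · rintro ⟨h1, h2, h3⟩; exact ⟨Or.inr ⟨h1, h2⟩, h3⟩,
          Finset.card_erase_of_mem hy]
        omega
      obtain ⟨h, hh⟩ := ih D' hD' hd'
      refine ⟨g * h, fun x hx => ?_⟩
      rw [mul_smul]
      have hw := hh x hx
      rcases Finset.mem_insert.mp hw with h' | h'
      · rw [h', hg z (Finset.mem_insert_self _ _), Equiv.swap_apply_right]; exact hyD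
      · obtain ⟨h1, h2⟩ := Finset.mem_erase.mp h'
        rw [hg _ (Finset.mem_insert_of_mem h2),
          Equiv.swap_apply_of_ne_of_ne h1 (fun e' => hzD (by rw [e'] at h2; exact h2))]
        exact h2
  obtain ⟨C, hCΓ, hC⟩ := Finset.exists_subset_card_eq (hpk.trans hΓ.ge)
  let L : Subgroup G :=
    { carrier := {g | (∀ x ∈ Γ \ C, g • x = x) ∧ ∀ x ∈ C, g • x ∈ C}
      one_mem' := ⟨fun x _ => one_smul _ x, fun x hx => by rw [one_smul]; exact hx⟩
      mul_mem' := fun {g h} hg hh => ⟨fun x hx => by rw [mul_smul, hh.1 x hx, hg.1 x hx],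
        fun x hx => by rw [mul_smul]; exact hg.2 _ (hh.2 x hx)⟩
      inv_mem' := fun {g} hg => ⟨fun x hx => by rw [inv_smul_eq_iff, hg.1 x hx], fun x hx => by
        obtain ⟨y, hy, hyx⟩ : ∃ y ∈ C, g • y = x :=
          Finset.surj_on_of_inj_on_of_card_le (s := C) (t := C) (fun y _ => g • y) (fun y hy => hg.2 y hy)
            (fun a b _ _ h => smul_left_cancel g h) le_rfl x hx |>.imp fun y ⟨hy, h⟩ => ⟨hy, h.symm⟩
        rw [← hyx, inv_smul_smul]
        exact hy⟩ }
  set K := fixingSubgroup G (Γ : Set α) with hKdef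
  have hKL : K ≤ L := fun g hg => by
    rw [mem_fixingSubgroup_iff] at hg
    exact ⟨fun x hx => hg x (Finset.mem_sdiff.mp hx).1, fun x hx => by rw [hg x (hCΓ hx)]; exact hx⟩
  -- `L` fixes every orbit of `K` outside `Γ`
  have horb : ∀ g ∈ L, ∀ x : α, x ∉ Γ → g • x ∈ MulAction.orbit K x := by
    intro g hg x hx
    have hmem : ∀ y ∈ Γ, g • y ∈ Γ := by
      intro y hy
      by_cases hyC : y ∈ C
      · exact hCΓ (hg.2 y hyC)
      · rw [hg.1 y (Finset.mem_sdiff.mpr ⟨hy, hyC⟩)]; exact hy
    let τ : Equiv.Perm ↥(insert x Γ) := Equiv.ofBijective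
      (fun w => if h : (w : α) ∈ Γ then ⟨g • (w : α), Finset.mem_insert_of_mem (hmem _ h)⟩ else w)
      (Finite.injective_iff_bijective.mp (by
        intro u v huv
        by_cases hu : (u : α) ∈ Γ <;> by_cases hv : (v : α) ∈ Γ <;> simp only [hu, hv, dite_true, dite_false] at huv
        · exact Subtype.ext (smul_left_cancel g (congrArg Subtype.val huv))
        · exact absurd (congrArg Subtype.val huv ▸ hmem _ hu) hv
        · exact absurd ((congrArg Subtype.val huv).symm ▸ hmem _ hv) hu
        · exact huv))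
    obtain ⟨h, hh, hhx⟩ := hgen _ (by rw [Finset.card_insert_of_notMem hx, hΓ]) τ
    have h1 : h x = x := by
      rw [hhx ⟨x, Finset.mem_insert_self _ _⟩]
      simp [τ, hx]
    have h2 : ∀ y ∈ Γ, h y = g • y := fun y hy => by
      rw [hhx ⟨y, Finset.mem_insert_of_mem hy⟩]
      simp [τ, hy]
    have hk' : g * (⟨h, hh⟩ : G)⁻¹ ∈ K := by
      rw [hKdef, mem_fixingSubgroup_iff]
      intro y hy
      obtain ⟨w, hw, rfl⟩ : ∃ w ∈ Γ, g • w = y :=
        Finset.surj_on_of_inj_on_of_card_le (s := Γ) (t := Γ) (fun w _ => g • w) (fun w hw => hmem w hw)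
          (fun a b _ _ h => smul_left_cancel g h) le_rfl y hy |>.imp fun w ⟨hw, e⟩ => ⟨hw, e.symm⟩
      have h3 : (⟨h, hh⟩ : G) • w = g • w := h2 w hw
      rw [mul_smul]
      exact congrArg (g • ·) (by rw [inv_smul_eq_iff]; exact h3.symm)
    refine ⟨⟨_, hk'⟩, ?_⟩
    show (g * (⟨h, hh⟩ : G)⁻¹) • x = g • x
    rw [mul_smul]
    exact congrArg (g • ·) (by rw [inv_smul_eq_iff]; exact h1.symm)
  -- a `p`-cycle on `C` gives an element of order `p` modulo `K`
  obtain ⟨Q⟩ : Nonempty (Sylow p L) := inferInstance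
  let Q' : Subgroup G := (Q : Subgroup L).map L.subtype
  have hQp : IsPGroup p Q' := Q.isPGroup'.map L.subtype
  have hfix : ∀ i, ∃ y ∈ MulAction.orbit K (f i), ∀ q ∈ Q', q • y = y := by
    intro i
    let S : SubMulAction Q' α :=
      { carrier := MulAction.orbit K (f i)
        smul_mem' := by
          rintro ⟨q, hq⟩ y hy
          obtain ⟨q', -, rfl⟩ := hq
          have hy' : y ∉ Γ := by
            obtain ⟨c, rfl⟩ := hy
            intro hmem
            have hcK := c⁻¹.2
            rw [mem_fixingSubgroup_iff] at hcK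
            have e := hcK _ hmem
            exact hf i (by rw [← inv_smul_smul c (f i)]; show (c⁻¹ : K) • (c • f i) ∈ Γ; exact e.symm ▸ hmem)
          have := horb _ q'.2 y hy'
          rw [MulAction.orbit_eq_iff.mpr hy] at this
          exact this }
    have hcard : ¬ p ∣ Nat.card S := hno i
    obtain ⟨⟨y, hy⟩, hyfix⟩ := hQp.nonempty_fixed_point_of_prime_not_dvd_card S hcard
    exact ⟨y, hy, fun q hq => congrArg Subtype.val (hyfix ⟨q, hq⟩)⟩
  choose b hb hbfix using hfix
  have hbΓ : ∀ i, b i ∉ Γ := by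
    intro i hmem
    obtain ⟨c, hc⟩ := hb i
    have hcK := c⁻¹.2
    rw [mem_fixingSubgroup_iff] at hcK
    have e : (c⁻¹ : K) • b i = b i := hcK _ hmem
    rw [← hc, inv_smul_smul] at e
    exact hf i (by rw [e, hc]; exact hmem)
  have hbinj : Function.Injective b := by
    intro i j hij
    by_contra hne
    refine hdist i j hne ?_
    rw [← MulAction.orbit_eq_iff.mpr (hb i), hij, MulAction.orbit_eq_iff.mpr (hb j)]
    exact MulAction.mem_orbit_self _
  let D := (Γ \ C) ∪ Finset.univ.image b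
  have hD : D.card = k := by
    rw [Finset.card_union_of_disjoint, Finset.card_sdiff_of_subset hCΓ, Finset.card_image_of_injective _ hbinj,
      Finset.card_univ, Fintype.card_fin]
    · omega
    · rw [Finset.disjoint_left]
      intro x hx hx'
      obtain ⟨i, -, rfl⟩ := Finset.mem_image.mp hx'
      exact hbΓ i (Finset.mem_sdiff.mp hx).1
  obtain ⟨g, hg⟩ := htr _ D hD rfl
  have hQK : Q'.map (MulAut.conj g⁻¹).toMonoidHom ≤ K := by
    rintro _ ⟨q, hq, rfl⟩
    rw [hKdef, mem_fixingSubgroup_iff]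
    intro x hx
    show (g⁻¹ * q * g⁻¹⁻¹) • x = x
    rw [inv_inv, mul_smul, mul_smul, inv_smul_eq_iff]
    rcases Finset.mem_union.mp (hg x hx) with h | h
    · obtain ⟨q', -, rfl⟩ := hq
      exact q'.2.1 _ h
    · obtain ⟨i, -, hi⟩ := Finset.mem_image.mp h
      rw [← hi]
      exact hbfix i q hq
  have hcardQ : Nat.card (Q : Subgroup L) ∣ Nat.card K := by
    have h := Subgroup.card_dvd_of_le hQK
    rw [Subgroup.card_map_of_injective (MulAut.conj g⁻¹).injective,
      Subgroup.card_map_of_injective L.subtype_injective] at h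
    exact h
  have hidx : p ∣ (K.subgroupOf L).index := by
    obtain ⟨x, hx⟩ : ∃ x, x ∉ Γ := by
      by_contra h
      push Not at h
      have := Finset.card_le_card (s := Finset.univ) (t := Γ) fun x _ => h x
      rw [Finset.card_univ] at this
      omega
    obtain ⟨c, hc⟩ : ∃ c : Equiv.Perm α, c ^ p = 1 ∧ (∀ y ∈ C, c y ∈ C) ∧ (∀ y, y ∉ C → c y = y) ∧ ∀ y ∈ C, c y ≠ y := by
      refine ⟨C.toList.formPerm, ?_, fun y hy => ?_, fun y hy => ?_, fun y hy => ?_⟩
      · rw [← hC, ← Finset.length_toList]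
        exact List.formPerm_pow_length_eq_one_of_nodup _ (Finset.nodup_toList _)
      · rw [← Finset.mem_toList] at hy ⊢
        exact List.formPerm_apply_mem_of_mem hy
      · exact List.formPerm_apply_of_notMem (by rwa [Finset.mem_toList])
      · rw [List.formPerm_apply_mem_ne_self_iff _ (Finset.nodup_toList _) y (Finset.mem_toList.mpr hy),
          Finset.length_toList, hC]
        exact hp.two_le
    obtain ⟨g₀, hg₀⟩ := hext (insert x Γ) (by rw [Finset.card_insert_of_notMem hx, hΓ]) c (by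
      intro y hy
      by_cases hyC : y ∈ C
      · exact Finset.mem_insert_of_mem (hCΓ (hc.2.1 y hyC))
      · rw [hc.2.2.1 y hyC]; exact hy)
    have hg₀L : g₀ ∈ L := ⟨fun y hy => by
        rw [hg₀ y (Finset.mem_insert_of_mem (Finset.mem_sdiff.mp hy).1), hc.2.2.1 y (Finset.mem_sdiff.mp hy).2],
      fun y hy => by rw [hg₀ y (Finset.mem_insert_of_mem (hCΓ hy))]; exact hc.2.1 y hy⟩
    have hKn : (K.subgroupOf L).Normal := ⟨fun a ha l => by
      rw [Subgroup.mem_subgroupOf, hKdef, mem_fixingSubgroup_iff] at ha ⊢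
      intro y hy
      have hmem : (l⁻¹ : L).1 • y ∈ (Γ : Set α) := by
        by_cases hyC : y ∈ C
        · exact hCΓ ((l⁻¹ : L).2.2 y hyC)
        · rw [(l⁻¹ : L).2.1 y (Finset.mem_sdiff.mpr ⟨hy, hyC⟩)]; exact hy
      show ((l : G) * (a : G) * ((l⁻¹ : L) : G)) • y = y
      rw [mul_smul, mul_smul, ha _ hmem, ← mul_smul, Subgroup.coe_inv, mul_inv_cancel, one_smul]⟩
    have hpow : ∀ (n : ℕ), ∀ y ∈ C, g₀ ^ n • y = (c ^ n) y ∧ (c ^ n) y ∈ C := by
      intro n
      induction n with
      | zero => intro y hy; simp [hy]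
      | succ n ih =>
        intro y hy
        obtain ⟨e1, e2⟩ := ih y hy
        rw [pow_succ', mul_smul, e1, hg₀ _ (Finset.mem_insert_of_mem (hCΓ e2)), pow_succ', Equiv.Perm.mul_apply]
        exact ⟨rfl, hc.2.1 _ e2⟩
    have h1 : orderOf (QuotientGroup.mk' (K.subgroupOf L) ⟨g₀, hg₀L⟩) = p := by
      refine orderOf_eq_prime ?_ ?_
      · rw [← map_pow, QuotientGroup.mk'_apply, QuotientGroup.eq_one_iff, Subgroup.mem_subgroupOf, hKdef,
          mem_fixingSubgroup_iff]
        intro y hy
        show (g₀ ^ p) • y = y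
        by_cases hyC : y ∈ C
        · rw [(hpow p y hyC).1, hc.1, Equiv.Perm.one_apply]
        · exact (L.pow_mem hg₀L p).1 y (Finset.mem_sdiff.mpr ⟨hy, hyC⟩)
      · rw [QuotientGroup.mk'_apply, Ne, QuotientGroup.eq_one_iff, Subgroup.mem_subgroupOf, hKdef,
          mem_fixingSubgroup_iff]
        intro h
        obtain ⟨y, hy⟩ := Finset.card_pos.mp (hC ▸ hp.pos)
        refine hc.2.2.2 y hy ?_
        rw [← hg₀ y (Finset.mem_insert_of_mem (hCΓ hy))]
        exact h y (hCΓ hy)
    rw [Subgroup.index_eq_card, ← h1]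
    exact orderOf_dvd_natCard _
  have hmul : p * Nat.card K ∣ Nat.card L := by
    rw [← Subgroup.index_mul_card (K.subgroupOf L), Nat.card_congr (Subgroup.subgroupOfEquivOfLe hKL).toEquiv]
    exact Nat.mul_dvd_mul_right hidx _
  refine Q.not_dvd_index ?_
  have h1 : p * Nat.card (Q : Subgroup L) ∣ (Q : Subgroup L).index * Nat.card (Q : Subgroup L) := by
    rw [Subgroup.index_mul_card]
    exact (Nat.mul_dvd_mul_left p hcardQ).trans hmul
  exact Nat.dvd_of_mul_dvd_mul_right Nat.card_pos h1

end Cfsg.Agent.S0706
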