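import Cfsg.Statements.S0707
import Mathlib.GroupTheory.OrderOfElement
import Mathlib.GroupTheory.Coset.Card
import Mathlib.Tactic

set_option autoImplicit false
open Cfsg

namespace Cfsg.Agent.S0707

/-- In a primitive permutation group, distinct points have distinct stabilisers unless the group is regular of prime degree. -/
theorem result {α : Type*} (G : Subgroup (Equiv.Perm α)) [MulAction.IsPreprimitive G α] (h : ¬ (Nat.card α).Prime ∨ ∃ a : α, MulAction.stabilizer G a ≠ ⊥) {a b : α} (hab : a ≠ b) : MulAction.stabilizer G a ≠ MulAction.stabilizer G b := by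
  intro heq
  have : Nontrivial α := ⟨a, b, hab⟩
  have hco := MulAction.IsPreprimitive.isCoatom_stabilizer_of_isPreprimitive G a
  set H := MulAction.stabilizer G a with hH
  have hn : H ≤ Subgroup.normalizer (H : Set G) := Subgroup.le_normalizer
  obtain ⟨g, hg⟩ := MulAction.exists_smul_eq G a b
  have hgN : g ∈ Subgroup.normalizer (H : Set G) := by
    rw [Subgroup.mem_normalizer_iff]
    intro h
    conv_rhs => rw [heq, MulAction.mem_stabilizer_iff, ← hg, mul_smul, mul_smul, inv_smul_smul,
      smul_left_cancel_iff]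
    rw [hH, MulAction.mem_stabilizer_iff]
  have hgH : g ∉ H := fun h => hab (by rw [← hg]; exact (MulAction.mem_stabilizer_iff.mp h).symm)
  have htop : Subgroup.normalizer (H : Set G) = ⊤ := by
    refine hco.2 _ (lt_of_le_of_ne hn ?_)
    intro hh
    exact hgH (by rw [hh]; exact hgN)
  have hnor : H.Normal := Subgroup.normalizer_eq_top_iff.mp htop
  have hbot : H = ⊥ := by
    rw [eq_bot_iff]
    intro x hx
    rw [Subgroup.mem_bot]
    refine eq_of_smul_eq_smul (α := α) fun y => ?_
    obtain ⟨u, rfl⟩ := MulAction.exists_smul_eq G a y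
    have : u⁻¹ * x * u ∈ H := by simpa using hnor.conj_mem x hx u⁻¹
    rw [hH, MulAction.mem_stabilizer_iff, mul_smul, mul_smul, inv_smul_eq_iff] at this
    rw [one_smul, this]
  rcases h with h | ⟨c, hc⟩
  · apply h
    rw [hbot] at hco
    have hcard : Nat.card α = Nat.card G := by
      rw [← MulAction.index_stabilizer_of_transitive G a, ← hH, hbot, Subgroup.index_bot]
    have hz : Subgroup.zpowers g = ⊤ := by
      refine hco.2 _ (bot_lt_iff_ne_bot.mpr ?_)
      rw [ne_eq, Subgroup.zpowers_eq_bot]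
      rintro rfl; exact hgH H.one_mem
    rw [hcard]
    have hord : orderOf g = Nat.card G := by
      rw [← Nat.card_zpowers, hz, Nat.card_congr Subgroup.topEquiv.toEquiv]
    have hfin : orderOf g ≠ 0 := by
      intro h0
      have h2 : Subgroup.zpowers (g ^ 2) = ⊤ := by
        refine hco.2 _ (bot_lt_iff_ne_bot.mpr ?_)
        rw [ne_eq, Subgroup.zpowers_eq_bot]
        exact fun h2 => (orderOf_eq_zero_iff'.mp h0) 2 (by norm_num) h2
      obtain ⟨k, hk⟩ := Subgroup.mem_zpowers_iff.mp (h2.symm ▸ Subgroup.mem_top g)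
      have hinj := injective_zpow_iff_not_isOfFinOrder.mpr (orderOf_eq_zero_iff.mp h0)
      have := hinj (show g ^ ((2 : ℤ) * k) = g ^ (1 : ℤ) by
        rw [zpow_mul, zpow_one]; exact_mod_cast hk)
      omega
    rw [← hord]
    have h1 : orderOf g ≠ 1 := by
      rw [ne_eq, orderOf_eq_one_iff]; rintro rfl; exact hgH H.one_mem
    obtain ⟨p, hp, hpd⟩ := Nat.exists_prime_and_dvd h1
    by_contra hnp
    have hlt : p < orderOf g := lt_of_le_of_ne (Nat.le_of_dvd (Nat.pos_of_ne_zero hfin) hpd)
      (fun he => hnp (he ▸ hp))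
    have hgp : g ^ p ≠ 1 := pow_ne_one_of_lt_orderOf hp.ne_zero hlt
    have h2 : Subgroup.zpowers (g ^ p) = ⊤ := by
      refine hco.2 _ (bot_lt_iff_ne_bot.mpr ?_)
      rwa [ne_eq, Subgroup.zpowers_eq_bot]
    have := Nat.card_zpowers (g ^ p)
    rw [h2, Nat.card_congr Subgroup.topEquiv.toEquiv, ← hord,
      orderOf_pow_of_dvd hp.ne_zero hpd] at this
    exact absurd this (Nat.div_lt_self (Nat.pos_of_ne_zero hfin) hp.one_lt).ne'
  · apply hc
    rw [eq_bot_iff]
    intro x hx
    obtain ⟨u, rfl⟩ := MulAction.exists_smul_eq G a c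
    have : u⁻¹ * x * u ∈ H := by
      rw [hH, MulAction.mem_stabilizer_iff, mul_smul, mul_smul, inv_smul_eq_iff]
      exact hx
    rw [hbot, Subgroup.mem_bot] at this
    rw [Subgroup.mem_bot]
    calc x = u * (u⁻¹ * x * u) * u⁻¹ := by group
      _ = 1 := by rw [this]; group

end Cfsg.Agent.S0707
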