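import Cfsg.Statements.S0708
import Cfsg.Agent.Lib.Sporadic.SharpTrans

set_option autoImplicit false
open Cfsg

namespace Cfsg.Agent.S0708

variable {G : Type*} [Group G] {Ω : Type*} [MulAction G Ω]

lemma map4 (h4 : MulAction.IsMultiplyPretransitive G Ω 4) {a b c d a' b' c' d' : Ω}
    (h1 : a ≠ b) (h2 : a ≠ c) (h3 : a ≠ d) (h5 : b ≠ c) (h6 : b ≠ d) (h7 : c ≠ d)
    (k1 : a' ≠ b') (k2 : a' ≠ c') (k3 : a' ≠ d') (k4 : b' ≠ c') (k5 : b' ≠ d') (k6 : c' ≠ d') :
    ∃ g : G, g • a = a' ∧ g • b = b' ∧ g • c = c' ∧ g • d = d' := by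
  have hinj : ∀ {a b c d : Ω}, a ≠ b → a ≠ c → a ≠ d → b ≠ c → b ≠ d → c ≠ d →
      Function.Injective ![a, b, c, d] := by
    intro a b c d _ _ _ _ _ _ i j hij
    fin_cases i <;> fin_cases j <;> simp_all
  obtain ⟨g, hg⟩ := h4.exists_smul_eq ⟨_, hinj h1 h2 h3 h5 h6 h7⟩ ⟨_, hinj k1 k2 k3 k4 k5 k6⟩
  exact ⟨g, DFunLike.congr_fun hg 0, DFunLike.congr_fun hg 1, DFunLike.congr_fun hg 2, DFunLike.congr_fun hg 3⟩

lemma eq4 (hsharp : ∀ x : Fin 4 ↪ Ω, MulAction.stabilizer G x = ⊥) {g g' : G} {a b c d : Ω}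
    (h1 : a ≠ b) (h2 : a ≠ c) (h3 : a ≠ d) (h5 : b ≠ c) (h6 : b ≠ d) (h7 : c ≠ d)
    (ha : g • a = g' • a) (hb : g • b = g' • b) (hc : g • c = g' • c) (hd : g • d = g' • d) : g = g' := by
  have hinj : Function.Injective ![a, b, c, d] := by
    intro i j hij
    fin_cases i <;> fin_cases j <;> simp_all
  have : g'⁻¹ * g ∈ MulAction.stabilizer G (⟨_, hinj⟩ : Fin 4 ↪ Ω) := by
    rw [MulAction.mem_stabilizer_iff]
    refine DFunLike.ext _ _ fun i => ?_
    show (g'⁻¹ * g) • ![a, b, c, d] i = ![a, b, c, d] i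
    rw [mul_smul, inv_smul_eq_iff]
    fin_cases i <;> assumption
  rw [hsharp, Subgroup.mem_bot, inv_mul_eq_one] at this
  exact this.symm

theorem finite_of_sharp (h4 : MulAction.IsMultiplyPretransitive G Ω 4)
    (hsharp : ∀ x : Fin 4 ↪ Ω, MulAction.stabilizer G x = ⊥) (hne : Nonempty (Fin 4 ↪ Ω)) :
    Finite Ω := by
  classical
  by_contra hinf
  rw [not_finite_iff_infinite] at hinf
  obtain ⟨x⟩ := hne
  have d : ∀ i j : Fin 4, i ≠ j → x i ≠ x j := fun i j e h => e (x.injective h)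
  have d01 := d 0 1 (by decide); have d02 := d 0 2 (by decide); have d03 := d 0 3 (by decide)
  have d12 := d 1 2 (by decide); have d13 := d 1 3 (by decide); have d23 := d 2 3 (by decide)
  obtain ⟨s, s0, s1, s2, s3⟩ := map4 h4 d01 d02 d03 d12 d13 d23 d01 d03 d02 d13 d12 d23.symm
  have hss : ∀ z : Ω, s • s • z = z := by
    have : s * s = 1 := eq4 hsharp d01 d02 d03 d12 d13 d23 (by rw [mul_smul, s0, s0, one_smul])
      (by rw [mul_smul, s1, s1, one_smul]) (by rw [mul_smul, s2, s3, one_smul])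
      (by rw [mul_smul, s3, s2, one_smul])
    intro z; rw [← mul_smul, this, one_smul]
  set F := {z : Ω | s • z = z}
  have hF : F.Finite := by
    by_contra hF
    obtain ⟨T, hT, hcard⟩ := Set.Infinite.exists_subset_card_eq hF 4
    obtain ⟨a, b, c, e, e1, e2, e3, e4, e5, e6, rfl⟩ := Finset.card_eq_four.mp hcard
    have ha : s • a = a := hT (by simp)
    have hb : s • b = b := hT (by simp)
    have hc : s • c = c := hT (by simp)
    have he : s • e = e := hT (by simp)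
    have : s = 1 := eq4 hsharp e1 e2 e3 e4 e5 e6 (by rw [one_smul, ha]) (by rw [one_smul, hb])
      (by rw [one_smul, hc]) (by rw [one_smul, he])
    rw [this, one_smul] at s2
    exact d23 s2
  set T := (F ∪ {x 2, x 3})ᶜ
  have hT : T.Infinite := (hF.union (Set.toFinite _)).infinite_compl
  have hTm : ∀ y ∈ T, s • y ≠ y ∧ x 2 ≠ y ∧ x 3 ≠ y ∧ x 2 ≠ s • y ∧ x 3 ≠ s • y := by
    intro y hy
    simp only [T, F, Set.mem_compl_iff, Set.mem_union, Set.mem_ofPred_eq, Set.mem_insert_iff,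
      Set.mem_singleton_iff, not_or] at hy
    refine ⟨hy.1, Ne.symm hy.2.1, Ne.symm hy.2.2, fun e => hy.2.2 ?_, fun e => hy.2.1 ?_⟩
    · rw [← hss y, ← e, s2]
    · rw [← hss y, ← e, s3]
  obtain ⟨y0, hy0⟩ := hT.nonempty
  obtain ⟨m1, m2, m3, m4, m5⟩ := hTm y0 hy0
  have hex : ∀ y : T, ∃ g : G, g • x 2 = x 2 ∧ g • x 3 = x 3 ∧ g • y0 = y.1 ∧
      ∀ z : Ω, g • s • z = s • g • z := by
    rintro ⟨y, hy⟩
    obtain ⟨n1, n2, n3, n4, n5⟩ := hTm y hy
    obtain ⟨g, g1, g2, g3, g4⟩ := map4 h4 d23 m2 m4 m3 m5 m1.symm d23 n2 n4 n3 n5 n1.symm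
    have : g * s = s * g := eq4 hsharp d23 m2 m4 m3 m5 m1.symm
      (by rw [mul_smul, mul_smul, s2, g2, g1, s2]) (by rw [mul_smul, mul_smul, s3, g1, g2, s3])
      (by rw [mul_smul, mul_smul, g4, g3]) (by rw [mul_smul, mul_smul, hss, g3, g4, hss])
    exact ⟨g, g1, g2, g3, fun z => by rw [← mul_smul, this, mul_smul]⟩
  choose g g1 g2 g3 g4 using hex
  have := hF.to_subtype
  have := hT.to_subtype
  let r : T → F → F := fun y z => ⟨g y • z.1, by
    show s • g y • z.1 = g y • z.1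
    rw [← g4, show s • z.1 = z.1 from z.2]⟩
  obtain ⟨y, y', hyy, he⟩ := Finite.exists_ne_map_eq_of_infinite r
  have h : g y = g y' := eq4 hsharp d01 d02 d03 d12 d13 d23
    (congrArg Subtype.val (congrFun he ⟨x 0, s0⟩)) (congrArg Subtype.val (congrFun he ⟨x 1, s1⟩))
    (by rw [g1, g1]) (by rw [g2, g2])
  exact hyy (Subtype.ext (by rw [← g3 y, ← g3 y', h]))


/-- Tits' argument: a sharply 4-transitive group (no finiteness assumed) has finite degree at most 11, and at most 6 when the degree is even. -/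
theorem result {G : Type*} [Group G] {Ω : Type*} [MulAction G Ω] (h4 : MulAction.IsMultiplyPretransitive G Ω 4) (hsharp : ∀ x : Fin 4 ↪ Ω, MulAction.stabilizer G x = ⊥) (hne : Nonempty (Fin 4 ↪ Ω)) : Finite Ω ∧ Nat.card Ω ≤ 11 ∧ (Even (Nat.card Ω) → Nat.card Ω ≤ 6) := by
  classical
  have hfin := finite_of_sharp h4 hsharp hne
  have := Fintype.ofFinite Ω
  set H := (MulAction.toPermHom G Ω).range
  have hS : CfsgLib.Sporadic.SharpTrans.Sharp H 4 := by
    refine ⟨⟨fun a b => ?_⟩, fun a => ?_⟩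
    · obtain ⟨g, hg⟩ := h4.exists_smul_eq a b
      exact ⟨⟨_, g, rfl⟩, DFunLike.ext _ _ fun i => DFunLike.congr_fun hg i⟩
    · rw [Subgroup.eq_bot_iff_forall]
      rintro ⟨_, g, rfl⟩ hg
      have : g ∈ MulAction.stabilizer G a :=
        MulAction.mem_stabilizer_iff.mpr (DFunLike.ext _ _ fun i => DFunLike.congr_fun hg i)
      rw [hsharp, Subgroup.mem_bot] at this
      subst this
      exact Subtype.ext (map_one (MulAction.toPermHom G Ω))
  have h4le : 4 ≤ Fintype.card Ω := by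
    obtain ⟨x⟩ := hne
    simpa using Fintype.card_le_of_embedding x
  have h := CfsgLib.Sporadic.SharpTrans.degree_four hS h4le
  rw [Nat.card_eq_fintype_card]
  refine ⟨hfin, by omega, fun he => ?_⟩
  obtain ⟨r, hr⟩ := he
  omega

end Cfsg.Agent.S0708
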