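import Cfsg.Statements.S0709

set_option autoImplicit false
open Cfsg

namespace Cfsg.Agent.S0709

variable {α : Type*}

/-- The points outside `q (k+1), …, q t`. -/
def Avail (t : ℕ) (q : ℕ → α) (k : ℕ) (x : α) : Prop := ∀ i, k < i → i ≤ t → x ≠ q i

/-- The tower of subgroups: `A 1` is given, `A (k+1)` is generated by `A k` and `s k`. -/
def tower (A1 : Subgroup (Equiv.Perm α)) (s : ℕ → Equiv.Perm α) : ℕ → Subgroup (Equiv.Perm α)
  | 0 => A1
  | 1 => A1
  | (k + 2) => Subgroup.closure ((tower A1 s (k + 1) : Set (Equiv.Perm α)) ∪ {s (k + 1)})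

lemma tower_succ (A1 : Subgroup (Equiv.Perm α)) (s : ℕ → Equiv.Perm α) {k : ℕ} (hk : 1 ≤ k) :
    tower A1 s (k + 1) = Subgroup.closure ((tower A1 s k : Set (Equiv.Perm α)) ∪ {s k}) := by
  obtain ⟨k, rfl⟩ := Nat.exists_eq_succ_of_ne_zero (by omega : k ≠ 0)
  rfl

lemma tower_le_succ (A1 : Subgroup (Equiv.Perm α)) (s : ℕ → Equiv.Perm α) (k : ℕ) :
    tower A1 s k ≤ tower A1 s (k + 1) := by
  rcases k with _ | k
  · exact le_rfl
  · exact fun x hx => Subgroup.subset_closure (Or.inl hx)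

lemma tower_mono (A1 : Subgroup (Equiv.Perm α)) (s : ℕ → Equiv.Perm α) : Monotone (tower A1 s) :=
  monotone_nat_of_le_succ (tower_le_succ A1 s)

lemma mem_tower (A1 : Subgroup (Equiv.Perm α)) (s : ℕ → Equiv.Perm α) {j k : ℕ} (hj : 1 ≤ j)
    (hjk : j < k) : s j ∈ tower A1 s k :=
  tower_mono A1 s hjk (tower_succ A1 s hj ▸ Subgroup.subset_closure (Or.inr rfl))


/-- Witt's Lemma for constructing transitive extensions. Points `q 1, …, q t` (`t ≥ 2`) of a finite set are given; `G` fixes `q i` for `i ≥ 3` and is doubly transitive on the remaining points; `s 1 ∈ G` swaps `q 1, q 2`; for `2 ≤ i ≤ t-1`, `s i` swaps `q i, q (i+1)` and fixes the other `q j`; with `H` the stabiliser of `q 1, q 2` in `G`: `s i ^ 2 ∈ H`, `(s i * s (i+1)) ^ 3 ∈ H`, `(s i * s j) ^ 2 ∈ H` for `j ≥ i + 2`, and `s i` (`i ≥ 2`) normalises the stabiliser of `q 2` in `G`. Then `G` and the `s i` generate a `t`-transitive group whose pointwise stabiliser of the `q`'s is `H`. -/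
theorem result {α : Type*} [Fintype α] [DecidableEq α] (t : ℕ) (ht : 2 ≤ t) (q : ℕ → α) (hq : ∀ i j : ℕ, 1 ≤ i → i ≤ t → 1 ≤ j → j ≤ t → q i = q j → i = j) (G : Subgroup (Equiv.Perm α)) (hfix : ∀ g ∈ G, ∀ i : ℕ, 3 ≤ i → i ≤ t → g (q i) = q i) (h2 : ∀ a b c d : α, (∀ i, 3 ≤ i → i ≤ t → a ≠ q i ∧ b ≠ q i ∧ c ≠ q i ∧ d ≠ q i) → a ≠ b → c ≠ d → ∃ g ∈ G, g a = c ∧ g b = d) (s : ℕ → Equiv.Perm α) (hs1 : s 1 ∈ G) (hs1q : s 1 (q 1) = q 2 ∧ s 1 (q 2) = q 1) (hsq : ∀ i : ℕ, 2 ≤ i → i + 1 ≤ t → s i (q i) = q (i + 1) ∧ s i (q (i + 1)) = q i ∧ ∀ j : ℕ, 1 ≤ j → j ≤ t → j ≠ i → j ≠ i + 1 → s i (q j) = q j) (H : Subgroup (Equiv.Perm α)) (hH : H = G ⊓ MulAction.stabilizer (Equiv.Perm α) (q 1) ⊓ MulAction.stabilizer (Equiv.Perm α) (q 2)) (hsq2 : ∀ i : ℕ, 1 ≤ i → i + 1 ≤ t → s i ^ 2 ∈ H) (hbraid : ∀ i : ℕ, 1 ≤ i → i + 2 ≤ t → (s i * s (i + 1)) ^ 3 ∈ H) (hcomm : ∀ i j : ℕ, 1 ≤ i → i + 2 ≤ j → j + 1 ≤ t → (s i * s j) ^ 2 ∈ H ∧ (s j * s i) ^ 2 ∈ H) (hnorm : ∀ i : ℕ, 2 ≤ i → i + 1 ≤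 t → ∀ g ∈ G ⊓ MulAction.stabilizer (Equiv.Perm α) (q 2), s i * g * (s i)⁻¹ ∈ G ⊓ MulAction.stabilizer (Equiv.Perm α) (q 2)) : MulAction.IsMultiplyPretransitive ↥(Subgroup.closure ((G : Set (Equiv.Perm α)) ∪ {x | ∃ i : ℕ, 2 ≤ i ∧ i + 1 ≤ t ∧ x = s i})) α t ∧ Subgroup.closure ((G : Set (Equiv.Perm α)) ∪ {x | ∃ i : ℕ, 2 ≤ i ∧ i + 1 ≤ t ∧ x = s i}) ⊓ fixingSubgroup (Equiv.Perm α) {x | ∃ i : ℕ, 1 ≤ i ∧ i ≤ t ∧ x = q i} = H := by
  classical
  set A := tower (G ⊓ MulAction.stabilizer (Equiv.Perm α) (q 2)) s with hA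
  have hA1 : ∀ g, g ∈ A 1 ↔ g ∈ G ∧ g (q 2) = q 2 := fun g => Iff.rfl
  have hHA : ∀ k, ∀ x ∈ H, x ∈ A k := by
    intro k x hx
    rw [hH] at hx
    have h1 : x ∈ A 1 := ⟨hx.1.1, hx.2⟩
    rcases Nat.eq_zero_or_pos k with rfl | hk
    · exact h1
    · exact tower_mono _ _ hk h1
  have hqne : ∀ i j, 1 ≤ i → i ≤ t → 1 ≤ j → j ≤ t → i ≠ j → q i ≠ q j :=
    fun i j a b c d e h => e (hq i j a b c d h)
  have hswap : ∀ i, 1 ≤ i → i + 1 ≤ t → s i (q i) = q (i + 1) ∧ s i (q (i + 1)) = q i := by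
    intro i hi hit
    rcases Nat.lt_or_ge i 2 with h | h
    · obtain rfl : i = 1 := by omega
      exact hs1q
    · exact ⟨(hsq i h hit).1, (hsq i h hit).2.1⟩
  have hsfix : ∀ i j, 1 ≤ i → i + 1 ≤ t → i + 1 < j → j ≤ t → s i (q j) = q j := by
    intro i j hi hit hij hjt
    rcases Nat.lt_or_ge i 2 with h | h
    · obtain rfl : i = 1 := by omega
      exact hfix _ hs1 j (by omega) hjt
    · exact (hsq i h hit).2.2 j (by omega) hjt (by omega) (by omega)
  have hG2 : ∀ g ∈ G, g ∈ A 1 ∨ ∃ a ∈ A 1, ∃ b ∈ A 1, g = a * s 1 * b := by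
    intro g hg
    by_cases h : g (q 2) = q 2
    · exact Or.inl ((hA1 g).mpr ⟨hg, h⟩)
    have hav : ∀ i, 3 ≤ i → i ≤ t → g (q 2) ≠ q i := fun i hi hit e =>
      hqne 2 i (by omega) ht (by omega) hit (by omega) (g.injective (e.trans (hfix g hg i hi hit).symm))
    obtain ⟨a, ha, haq1, haq2⟩ := h2 (q 1) (q 2) (g (q 2)) (q 2) (fun i hi hit =>
      ⟨hqne 1 i le_rfl (by omega) (by omega) hit (by omega), hqne 2 i (by omega) ht (by omega) hit (by omega),
        hav i hi hit, hqne 2 i (by omega) ht (by omega) hit (by omega)⟩)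
      (hqne 1 2 le_rfl (by omega) (by omega) ht (by omega)) h
    refine Or.inr ⟨a, (hA1 a).mpr ⟨ha, haq2⟩, (a * s 1)⁻¹ * g,
      (hA1 _).mpr ⟨mul_mem (inv_mem (mul_mem ha hs1)) hg, ?_⟩, by group⟩
    have e : (a * s 1) (q 2) = g (q 2) := by rw [Equiv.Perm.mul_apply, hs1q.2, haq1]
    rw [Equiv.Perm.mul_apply, ← e, Equiv.Perm.coe_inv, Equiv.symm_apply_apply]
  -- `s k` normalizes `A (k - 1)`
  have hconj : ∀ k, 2 ≤ k → k + 1 ≤ t → ∀ m, 1 ≤ m → m + 1 ≤ k → ∀ a ∈ A m, s k * a * (s k)⁻¹ ∈ A m := by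
    intro k hk hkt m
    induction m with
    | zero => omega
    | succ m ih =>
      intro _ hmk a ha
      rcases Nat.eq_zero_or_pos m with rfl | hm
      · exact hnorm k hk hkt a ha
      rw [hA, tower_succ _ _ hm] at ha
      induction ha using Subgroup.closure_induction with
      | mem x hx =>
        rcases hx with hx | rfl
        · exact tower_le_succ _ _ m (ih hm (by omega) x hx)
        · have e1 := hHA (m + 1) _ (hcomm m k hm (by omega) hkt).2
          have e2 := hHA (m + 1) _ (hsq2 k (by omega) hkt)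
          have e3 : s m ∈ A (m + 1) := mem_tower _ _ hm (by omega)
          have e : s k * s m * (s k)⁻¹ = (s k * s m) ^ 2 * (s m)⁻¹ * (s k ^ 2)⁻¹ := by
            rw [pow_two, pow_two]; group
          rw [e]
          exact mul_mem (mul_mem e1 (inv_mem e3)) (inv_mem e2)
      | one => simp
      | mul x y _ _ hx hy =>
        have e : s k * (x * y) * (s k)⁻¹ = (s k * x * (s k)⁻¹) * (s k * y * (s k)⁻¹) := by group
        rw [e]; exact mul_mem hx hy
      | inv x _ hx =>
        have e : s k * x⁻¹ * (s k)⁻¹ = (s k * x * (s k)⁻¹)⁻¹ := by group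
        rw [e]; exact inv_mem hx
  -- two double cosets
  have hdec : ∀ k, 1 ≤ k → k + 1 ≤ t → ∀ x ∈ A (k + 1),
      x ∈ A k ∨ ∃ a ∈ A k, ∃ b ∈ A k, x = a * s k * b := by
    intro k
    induction k with
    | zero => omega
    | succ k ih =>
      intro _ hkt x hx
      have hs2 := hHA (k + 1) _ (hsq2 (k + 1) (by omega) hkt)
      have key : ∀ a ∈ A (k + 1), s (k + 1) * a * s (k + 1) ∈ A (k + 1) ∨
          ∃ u ∈ A (k + 1), ∃ v ∈ A (k + 1), s (k + 1) * a * s (k + 1) = u * s (k + 1) * v := by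
        intro a ha
        rcases Nat.eq_zero_or_pos k with rfl | hk
        · exact hG2 _ (mul_mem (mul_mem hs1 ((hA1 a).mp ha).1) hs1)
        have hn : ∀ b ∈ A k, s (k + 1) * b * (s (k + 1))⁻¹ ∈ A (k + 1) :=
          fun b hb => tower_le_succ _ _ k (hconj (k + 1) (by omega) hkt k hk le_rfl b hb)
        have hn' : ∀ b ∈ A k, (s (k + 1))⁻¹ * b * s (k + 1) ∈ A (k + 1) := fun b hb => by
          have e : (s (k + 1))⁻¹ * b * s (k + 1) =
              (s (k + 1) ^ 2)⁻¹ * (s (k + 1) * b * (s (k + 1))⁻¹) * s (k + 1) ^ 2 := by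
            rw [pow_two]; group
          rw [e]; exact mul_mem (mul_mem (inv_mem hs2) (hn b hb)) hs2
        rcases ih hk (by omega) a ha with h | ⟨u, hu, v, hv, rfl⟩
        · left
          have e : s (k + 1) * a * s (k + 1) = (s (k + 1) * a * (s (k + 1))⁻¹) * s (k + 1) ^ 2 := by
            rw [pow_two]; group
          rw [e]; exact mul_mem (hn a h) hs2
        · right
          have hsk : s k ∈ A (k + 1) := mem_tower _ _ hk (by omega)
          have hh := hHA (k + 1) _ (hbraid k hk (by omega))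
          refine ⟨(s (k + 1) * u * (s (k + 1))⁻¹) * ((s k)⁻¹ * (s k * s (k + 1)) ^ 3 * (s (k + 1) ^ 2)⁻¹),
            mul_mem (hn u hu) (mul_mem (mul_mem (inv_mem hsk) hh) (inv_mem hs2)),
            (s k)⁻¹ * ((s (k + 1))⁻¹ * v * s (k + 1)), mul_mem (inv_mem hsk) (hn' v hv), ?_⟩
          rw [pow_two, pow_succ, pow_two]; group
      rw [hA, tower_succ _ _ (by omega)] at hx
      refine Subgroup.closure_induction_right
        (p := fun y _ => y ∈ A (k + 1) ∨ ∃ a ∈ A (k + 1), ∃ b ∈ A (k + 1), y = a * s (k + 1) * b)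
        (Or.inl (one_mem _)) ?_ ?_ hx
      · rintro y - z hz hy
        rcases hz with hz | rfl
        · rcases hy with hy | ⟨a, ha, b, hb, rfl⟩
          · exact Or.inl (mul_mem hy hz)
          · exact Or.inr ⟨a, ha, b * z, mul_mem hb hz, by group⟩
        · rcases hy with hy | ⟨a, ha, b, hb, rfl⟩
          · exact Or.inr ⟨y, hy, 1, one_mem _, by group⟩
          · rcases key b hb with h | ⟨u, hu, v, hv, e⟩
            · left
              rw [show a * s (k + 1) * b * s (k + 1) = a * (s (k + 1) * b * s (k + 1)) by group]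
              exact mul_mem ha h
            · exact Or.inr ⟨a * u, mul_mem ha hu, v, hv, by
                rw [show a * s (k + 1) * b * s (k + 1) = a * (s (k + 1) * b * s (k + 1)) by group, e]; group⟩
      · rintro y - z hz hy
        rcases hz with hz | rfl
        · rcases hy with hy | ⟨a, ha, b, hb, rfl⟩
          · exact Or.inl (mul_mem hy (inv_mem hz))
          · exact Or.inr ⟨a, ha, b * z⁻¹, mul_mem hb (inv_mem hz), by group⟩
        · rcases hy with hy | ⟨a, ha, b, hb, rfl⟩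
          · exact Or.inr ⟨y, hy, (s (k + 1) ^ 2)⁻¹, inv_mem hs2, by rw [pow_two]; group⟩
          · rcases key b hb with h | ⟨u, hu, v, hv, e⟩
            · left
              rw [show a * s (k + 1) * b * (s (k + 1))⁻¹ = a * (s (k + 1) * b * s (k + 1)) * (s (k + 1) ^ 2)⁻¹ by
                rw [pow_two]; group]
              exact mul_mem (mul_mem ha h) (inv_mem hs2)
            · exact Or.inr ⟨a * u, mul_mem ha hu, v * (s (k + 1) ^ 2)⁻¹, mul_mem hv (inv_mem hs2), by
                rw [show a * s (k + 1) * b * (s (k + 1))⁻¹ = a * (s (k + 1) * b * s (k + 1)) * (s (k + 1) ^ 2)⁻¹ by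
                  rw [pow_two]; group, e]
                group⟩
  have hAfix : ∀ k, 1 ≤ k → ∀ i, k < i → i ≤ t → ∀ a ∈ A k, a (q i) = q i := by
    intro k
    induction k with
    | zero => omega
    | succ k ih =>
      intro _ i hi hit a ha
      rcases Nat.eq_zero_or_pos k with rfl | hk
      · rcases Nat.lt_or_ge i 3 with h | h
        · obtain rfl : i = 2 := by omega
          exact ((hA1 a).mp ha).2
        · exact hfix a ((hA1 a).mp ha).1 i h hit
      rcases hdec k hk (by omega) a ha with h | ⟨u, hu, v, hv, rfl⟩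
      · exact ih hk i (by omega) hit a h
      · rw [Equiv.Perm.mul_apply, Equiv.Perm.mul_apply, ih hk i (by omega) hit v hv,
          hsfix k i hk (by omega) hi hit, ih hk i (by omega) hit u hu]
  have htrans : ∀ k, 1 ≤ k → k ≤ t → ∀ x, Avail t q k x → ∃ a ∈ A k, a x = q k := by
    intro k
    induction k with
    | zero => omega
    | succ k ih =>
      intro _ hkt x hx
      rcases Nat.eq_zero_or_pos k with rfl | hk
      · obtain ⟨a, ha, h1, h2'⟩ := h2 x (q 2) (q 1) (q 2) (fun i hi hit =>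
          ⟨hx i (by omega) hit, hqne 2 i (by omega) ht (by omega) hit (by omega),
            hqne 1 i le_rfl (by omega) (by omega) hit (by omega), hqne 2 i (by omega) ht (by omega) hit (by omega)⟩)
          (hx 2 (by omega) ht) (hqne 1 2 le_rfl (by omega) (by omega) ht (by omega))
        exact ⟨a, (hA1 a).mpr ⟨ha, h2'⟩, h1⟩
      by_cases h : x = q (k + 1)
      · exact ⟨1, one_mem _, h⟩
      obtain ⟨a, ha, e⟩ := ih hk (by omega) x (fun i hi hit => by
        rcases Nat.lt_or_ge (k + 1) i with h' | h'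
        · exact hx i h' hit
        · obtain rfl : i = k + 1 := by omega
          exact h)
      exact ⟨s k * a, mul_mem (mem_tower _ _ hk (by omega)) (tower_le_succ _ _ k ha), by
        rw [Equiv.Perm.mul_apply, e, (hswap k hk hkt).1]⟩
  have htuple : ∀ k, 1 ≤ k → k ≤ t → ∀ f : ℕ → α,
      (∀ i, 1 ≤ i → i ≤ k → Avail t q k (f i)) →
      (∀ i j, 1 ≤ i → i ≤ k → 1 ≤ j → j ≤ k → f i = f j → i = j) →
      ∃ a ∈ A k, ∀ i, 1 ≤ i → i ≤ k → a (f i) = q i := by
    intro k
    induction k with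
    | zero => omega
    | succ k ih =>
      intro _ hkt f hf hfi
      obtain ⟨a, ha, e⟩ := htrans (k + 1) (by omega) hkt _ (hf (k + 1) (by omega) le_rfl)
      rcases Nat.eq_zero_or_pos k with rfl | hk
      · exact ⟨a, ha, fun i h1 h2 => by obtain rfl : i = 1 := (by omega); exact e⟩
      obtain ⟨b, hb, hb'⟩ := ih hk (by omega) (fun i => a (f i))
        (fun i hi hik j hj hjt hc => by
          rcases Nat.lt_or_ge (k + 1) j with h | h
          · exact hf i hi (by omega) j h hjt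
              (a.injective (hc.trans (hAfix (k + 1) (by omega) j h hjt a ha).symm))
          · obtain rfl : j = k + 1 := by omega
            have := hfi i (k + 1) hi (by omega) (by omega) le_rfl (a.injective (hc.trans e.symm))
            omega)
        (fun i j hi hik hj hjk hc => hfi i j hi (by omega) hj (by omega) (a.injective hc))
      refine ⟨b * a, mul_mem (tower_le_succ _ _ k hb) ha, fun i hi hik => ?_⟩
      rcases Nat.lt_or_ge i (k + 1) with h | h
      · exact hb' i hi (by omega)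
      · obtain rfl : i = k + 1 := by omega
        rw [Equiv.Perm.mul_apply, e, hAfix k hk (k + 1) (by omega) hkt b hb]
  set Γ := Subgroup.closure ((G : Set (Equiv.Perm α)) ∪ {x | ∃ i : ℕ, 2 ≤ i ∧ i + 1 ≤ t ∧ x = s i}) with hΓ
  have hGΓ : G ≤ Γ := fun g hg => Subgroup.subset_closure (Or.inl hg)
  have hGA : G ≤ A t := fun g hg => by
    rcases hG2 g hg with h | ⟨a, ha, b, hb, rfl⟩
    · exact tower_mono _ _ (by omega : 1 ≤ t) h
    · exact mul_mem (mul_mem (tower_mono _ _ (by omega : 1 ≤ t) ha) (mem_tower _ _ le_rfl (by omega)))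
        (tower_mono _ _ (by omega : 1 ≤ t) hb)
  have hΓA : Γ = A t := by
    apply le_antisymm
    · rw [hΓ, Subgroup.closure_le]
      rintro x (hx | ⟨i, hi, hit, rfl⟩)
      · exact hGA hx
      · exact mem_tower _ _ (by omega) (by omega)
    · have h : ∀ k, k ≤ t → A k ≤ Γ := by
        intro k
        induction k with
        | zero => exact fun _ x hx => hGΓ hx.1
        | succ k ih =>
          intro hkt
          rcases Nat.eq_zero_or_pos k with rfl | hk
          · exact fun x hx => hGΓ hx.1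
          rw [hA, tower_succ _ _ hk, Subgroup.closure_le]
          rintro x (hx | rfl)
          · exact ih (by omega) hx
          · rcases Nat.lt_or_ge k 2 with h | h
            · obtain rfl : k = 1 := by omega
              exact hGΓ hs1
            · exact Subgroup.subset_closure (Or.inr ⟨k, h, hkt, rfl⟩)
      exact h t le_rfl
  refine ⟨⟨fun x y => ?_⟩, ?_⟩
  · have hto : ∀ z : Fin t ↪ α, ∃ g : Γ, ∀ i : Fin t, g • z i = q ((i : ℕ) + 1) := by
      intro z
      obtain ⟨a, ha, e⟩ := htuple t (by omega) le_rfl (fun i => if h : i - 1 < t then z ⟨i - 1, h⟩ else q i)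
        (fun i _ _ j hj hjt => by omega)
        (fun i j hi hit hj hjt h => by
          simp only [show i - 1 < t by omega, show j - 1 < t by omega, dite_true] at h
          have := congrArg Fin.val (z.injective h)
          simp only at this; omega)
      refine ⟨⟨a, hΓA ▸ ha⟩, fun i => ?_⟩
      have := e ((i : ℕ) + 1) (by omega) (by omega)
      simpa [i.isLt] using this
    obtain ⟨g, hg⟩ := hto x
    obtain ⟨g', hg'⟩ := hto y
    refine ⟨g'⁻¹ * g, Function.Embedding.ext fun i => ?_⟩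
    show (g'⁻¹ * g) • x i = y i
    rw [mul_smul, hg, inv_smul_eq_iff, hg']
  · apply le_antisymm
    · rintro x ⟨hx, hxf⟩
      have hfx : ∀ i, 1 ≤ i → i ≤ t → x (q i) = q i :=
        fun i hi hit => (mem_fixingSubgroup_iff _).mp hxf _ ⟨i, hi, hit, rfl⟩
      have hdown : ∀ j, j + 1 ≤ t → x ∈ A (t - j) := by
        intro j
        induction j with
        | zero => exact fun _ => hΓA ▸ hx
        | succ j ih =>
          intro hj
          have h := ih (by omega)
          obtain ⟨k, hk⟩ : ∃ k, k = t - (j + 1) := ⟨_, rfl⟩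
          rw [show t - j = k + 1 by omega] at h
          rw [← hk]
          rcases hdec k (by omega) (by omega) x h with h' | ⟨a, ha, b, hb, rfl⟩
          · exact h'
          exfalso
          have e := hfx (k + 1) (by omega) (by omega)
          rw [Equiv.Perm.mul_apply, Equiv.Perm.mul_apply, hAfix k (by omega) (k + 1) (by omega) (by omega) b hb,
            (hswap k (by omega) (by omega)).2] at e
          exact hqne k (k + 1) (by omega) (by omega) (by omega) (by omega) (by omega)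
            (a.injective (e.trans (hAfix k (by omega) (k + 1) (by omega) (by omega) a ha).symm))
      have h1 := hdown (t - 1) (by omega)
      rw [show t - (t - 1) = 1 by omega] at h1
      rw [hH]
      exact ⟨⟨h1.1, hfx 1 le_rfl (by omega)⟩, h1.2⟩
    · intro x hx
      have hx' := hH ▸ hx
      refine ⟨hGΓ hx'.1.1, (mem_fixingSubgroup_iff _).mpr ?_⟩
      rintro _ ⟨i, hi, hit, rfl⟩
      rcases Nat.lt_or_ge i 3 with h | h
      · rcases (by omega : i = 1 ∨ i = 2) with rfl | rfl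
        · exact hx'.1.2
        · exact hx'.2
      · exact hfix x hx'.1.1 i h hit

end Cfsg.Agent.S0709
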