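import Cfsg.Statements.S0710
import Mathlib.Tactic

set_option autoImplicit false
open Cfsg

namespace Cfsg.Agent.S0710

/-- No transitive permutation group on 13 points has order `13 * 12 * 11 * 10 * 9 * 8`. -/
theorem result {α : Type*} [Fintype α] [DecidableEq α] (hα : Fintype.card α = 13) (G : Subgroup (Equiv.Perm α)) [MulAction.IsPretransitive G α] : Nat.card G ≠ 13 * 12 * 11 * 10 * 9 * 8 := by
  intro hcard
  classical
  haveI : Fact (Nat.Prime 13) := ⟨by decide⟩
  obtain ⟨P⟩ : Nonempty (Sylow 13 G) := inferInstance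
  have hP : Nat.card (P : Subgroup G) = 13 := by
    have h1 := P.card_eq_multiplicity
    have hf : (13 * 12 * 11 * 10 * 9 * 8).factorization 13 = 1 := by
      rw [show 13 * 12 * 11 * 10 * 9 * 8 = 13 * 95040 by norm_num,
        Nat.factorization_mul (by norm_num) (by norm_num), Finsupp.add_apply,
        Nat.Prime.factorization_self (show Nat.Prime 13 by decide),
        Nat.factorization_eq_zero_of_not_dvd (show ¬ 13 ∣ 95040 by norm_num)]
    rw [hcard, hf] at h1
    simpa using h1
  obtain ⟨q, hq, hq1⟩ : ∃ q ∈ (P : Subgroup G), q ≠ 1 := by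
    refine (Subgroup.ne_bot_iff_exists_ne_one.mp ?_).elim fun q hq => ⟨q.1, q.2, fun e => hq (Subtype.ext e)⟩
    intro hbot; rw [hbot, Subgroup.card_bot] at hP; omega
  obtain ⟨a, ha⟩ : ∃ a : α, q • a ≠ a := by
    by_contra hall
    simp only [not_exists, not_not] at hall
    exact hq1 (Subtype.ext (Equiv.ext hall))
  have horb : MulAction.orbit (P : Subgroup G) a = Set.univ := by
    have hdvd : Nat.card (MulAction.orbit (P : Subgroup G) a) ∣ 13 := by
      have := (Subgroup.index_dvd_card (MulAction.stabilizer (P : Subgroup G) a))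
      rwa [MulAction.index_stabilizer, ← Nat.card_coe_set_eq, hP] at this
    rcases (Nat.dvd_prime (by norm_num)).mp hdvd with h1 | h1
    · exfalso
      rw [Nat.card_coe_set_eq, Set.ncard_eq_one] at h1
      obtain ⟨b, hb⟩ := h1
      have e1 : q • a ∈ ({b} : Set α) := hb ▸ ⟨⟨q, hq⟩, rfl⟩
      have e2 : a ∈ ({b} : Set α) := hb ▸ MulAction.mem_orbit_self a
      simp only [Set.mem_singleton_iff] at e1 e2
      exact ha (e1.trans e2.symm)
    · apply Set.eq_of_subset_of_ncard_le (Set.subset_univ _)
      rw [Nat.card_coe_set_eq] at h1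
      rw [Set.ncard_univ, Nat.card_eq_fintype_card, hα]
      exact h1.ge
  let N := Subgroup.normalizer ((P : Subgroup G) : Set G)
  have hPN : (P : Subgroup G) ≤ N := Subgroup.le_normalizer
  haveI : MulAction.IsPretransitive N α := by
    refine ⟨fun x y => ?_⟩
    obtain ⟨⟨g, hg⟩, hgx⟩ := horb.symm.subset (Set.mem_univ x)
    obtain ⟨⟨k, hk⟩, hky⟩ := horb.symm.subset (Set.mem_univ y)
    refine ⟨⟨k * g⁻¹, mul_mem (hPN hk) (inv_mem (hPN hg))⟩, ?_⟩
    change (k * g⁻¹) • x = y
    rw [← hgx, ← hky]
    change (k * g⁻¹) • g • a = k • a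
    rw [mul_smul, inv_smul_smul]
  let S := MulAction.stabilizer N a
  have hN : Nat.card N = 13 * Nat.card S := by
    rw [← Subgroup.index_mul_card S, MulAction.index_stabilizer_of_transitive,
      Nat.card_eq_fintype_card (α := α), hα]
  have hcyc : IsCyclic (P : Subgroup G) := isCyclic_of_prime_card hP
  let f : S →* MulAut (P : Subgroup G) :=
    { toFun := fun n =>
        { toFun := fun p => ⟨(n.1 : G) * p * (n.1 : G)⁻¹,
            (Subgroup.mem_normalizer_iff.mp n.1.2 _).mp p.2⟩
          invFun := fun p => ⟨(n.1 : G)⁻¹ * p * (n.1 : G),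
            (Subgroup.mem_normalizer_iff''.mp n.1.2 _).mp p.2⟩
          left_inv := fun p => Subtype.ext (by simp; group)
          right_inv := fun p => Subtype.ext (by simp; group)
          map_mul' := fun p p' => Subtype.ext (by simp) }
      map_one' := by ext p; simp
      map_mul' := fun n n' => by ext p; simp [mul_assoc] }
  have hf : Function.Injective f := by
    rw [injective_iff_map_eq_one]
    intro n hn
    have hcomm : ∀ p ∈ (P : Subgroup G), (n.1 : G) * p = p * (n.1 : G) := fun p hp => by
      have := congrArg Subtype.val (DFunLike.congr_fun hn ⟨p, hp⟩)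
      exact (mul_inv_eq_iff_eq_mul).mp this
    apply Subtype.ext; apply Subtype.ext; apply Subtype.ext; apply Equiv.ext
    intro x
    obtain ⟨⟨g, hg⟩, hgx⟩ := horb.symm.subset (Set.mem_univ x)
    have hna : (n.1 : G) • a = a := n.2
    change (n.1 : G) • x = x
    rw [← hgx]
    change (n.1 : G) • g • a = g • a
    rw [← mul_smul, hcomm g hg, mul_smul, hna]
  have hS : Nat.card S ∣ 12 := by
    have := Subgroup.card_dvd_of_injective f hf
    rwa [IsCyclic.card_mulAut, hP, Nat.totient_prime (by norm_num)] at this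
  have hmod := card_sylow_modEq_one 13 G
  rw [P.card_eq_index_normalizer] at hmod
  have hidx : Subgroup.index N * (13 * Nat.card S) = 13 * 12 * 11 * 10 * 9 * 8 := by
    rw [← hN, Subgroup.index_mul_card, hcard]
  have hle : Nat.card S ≤ 12 := Nat.le_of_dvd (by norm_num) hS
  have hidx' : Subgroup.index N * Nat.card S = 95040 := by linarith
  unfold Nat.ModEq at hmod
  change Subgroup.index N % 13 = 1 % 13 at hmod
  have : Nat.card S % 13 = 10 := by
    rw [← Nat.div_add_mod (Subgroup.index N) 13, hmod, add_mul, mul_assoc] at hidx'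
    simp only [show (1 % 13 : ℕ) = 1 from rfl, one_mul] at hidx'
    omega
  have h10 : Nat.card S = 10 := by omega
  rw [h10] at hS
  norm_num at hS

end Cfsg.Agent.S0710
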