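import Cfsg.Statements.S0711
import Mathlib.GroupTheory.GroupAction.Jordan

set_option autoImplicit false
open Cfsg

namespace Cfsg.Agent.S0711

open Equiv Equiv.Perm

variable {α : Type*} [Fintype α] [DecidableEq α]

/-- The support of `g⁻¹ * (f * g * f⁻¹)`, away from the points where the two factors agree. -/
lemma support_comm_le (g f : Perm α) (T : Finset α) (hT : T ⊆ g.support) (hfT : ∀ x ∈ T, f x = x)
    (A : Finset α) (hA : A ⊆ T) (hAg : ∀ x ∈ A, g x ∈ T) (E : Finset α) (hE : E ⊆ g.support)
    (hEf : ∀ x ∈ E, f⁻¹ x ∈ g.support) :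
    (g⁻¹ * (f * g * f⁻¹)).support.card + (T ∪ E).card + A.card ≤ 2 * g.support.card := by
  set g' := f * g * f⁻¹ with hg'
  have hsupp : g'.support = g.support.map f.toEmbedding := Perm.support_conj
  have hTE : T ∪ E ⊆ g.support ∩ g'.support := by
    intro x hx
    rw [hsupp, Finset.mem_inter, Finset.mem_map_equiv]
    rcases Finset.mem_union.mp hx with h | h
    · refine ⟨hT h, ?_⟩
      rw [(Equiv.symm_apply_eq _).mpr (hfT x h).symm]
      exact hT h
    · exact ⟨hE h, hEf x h⟩
  have hsub : (g⁻¹ * g').support ⊆ (g.support ∪ g'.support) \ A := by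
    intro x hx
    rw [Finset.mem_sdiff]
    refine ⟨?_, fun hxA => ?_⟩
    · have := Perm.support_mul_le g⁻¹ g' hx
      rwa [Perm.support_inv] at this
    · rw [Perm.mem_support] at hx
      apply hx
      have h1 : f⁻¹ x = x := (Equiv.symm_apply_eq _).mpr (hfT x (hA hxA)).symm
      rw [Perm.mul_apply, hg', Perm.mul_apply, Perm.mul_apply, h1, hfT _ (hAg x hxA), Perm.coe_inv,
        Equiv.symm_apply_apply]
  have hAu : A ⊆ g.support ∪ g'.support :=
    fun x hx => Finset.mem_union_left _ (hT (hA hx))
  have h1 := Finset.card_le_card hsub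
  rw [Finset.card_sdiff_of_subset hAu] at h1
  have h2 := Finset.card_union_add_card_inter g.support g'.support
  have h3 := Finset.card_le_card hTE
  have h4 := Finset.card_le_card hAu
  have h5 : g'.support.card = g.support.card := by rw [hsupp, Finset.card_map]
  omega

/-- A set of prescribed size inside the support with at most one point sent outside of it. -/
lemma exists_le_one_exit (g : Perm α) (S : Finset α) (hS : S ⊆ g.support)
    (hS1 : ∀ x ∈ S, ∀ y ∈ S, g x ∉ S → g y ∉ S → x = y) :
    ∀ j, S.card ≤ j → j ≤ g.support.card →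
      ∃ T ⊆ g.support, T.card = j ∧ ∀ x ∈ T, ∀ y ∈ T, g x ∉ T → g y ∉ T → x = y := by
  intro j hj
  induction j, hj using Nat.le_induction with
  | base => exact fun _ => ⟨S, hS, rfl, hS1⟩
  | succ j _ ih =>
    intro hjm
    obtain ⟨T, hT, hTc, hT1⟩ := ih (by omega)
    by_cases hex : ∃ x ∈ T, g x ∉ T
    · obtain ⟨x, hx, hgx⟩ := hex
      refine ⟨insert (g x) T, Finset.insert_subset (Perm.apply_mem_support.mpr (hT hx)) hT,
        by rw [Finset.card_insert_of_notMem hgx, hTc], fun y hy z hz ey ez => ?_⟩
      simp only [Finset.mem_insert, not_or] at hy hz ey ez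
      have : ∀ w, (w = g x ∨ w ∈ T) → ¬g w = g x ∧ g w ∉ T → w = g x := by
        intro w hw ew
        rcases hw with h | h
        · exact h
        · exact absurd (congrArg g (hT1 w h x hx ew.2 hgx)) ew.1
      rw [this y hy ey, this z hz ez]
    · push Not at hex
      obtain ⟨a, ha, haT⟩ := Finset.exists_mem_notMem_of_card_lt_card (s := T) (t := g.support) (by omega)
      refine ⟨insert a T, Finset.insert_subset ha hT, by rw [Finset.card_insert_of_notMem haT, hTc],
        fun y hy z hz ey ez => ?_⟩
      simp only [Finset.mem_insert, not_or] at hy hz ey ez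
      have : ∀ w, (w = a ∨ w ∈ T) → g w ∉ T → w = a := fun w hw ew =>
        hw.resolve_right fun h => ew (hex w h)
      rw [this y hy ey.2, this z hz ez.2]

lemma exists_map_of_card_le (G : Subgroup (Perm α)) {k : ℕ} (hkn : k ≤ Fintype.card α)
    (hG : MulAction.IsMultiplyPretransitive G α k) (S : Finset α) (hS : S.card ≤ k)
    (h : α → α) (hh : Set.InjOn h S) : ∃ f ∈ G, ∀ x ∈ S, f x = h x := by
  have := MulAction.isMultiplyPretransitive_of_le (G := G) (α := α) hS (by
    rw [Nat.card_eq_fintype_card]; exact hkn) (n := k)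
  obtain ⟨f, hf⟩ := this.exists_smul_eq
    (S.equivFin.symm.toEmbedding.trans (Function.Embedding.subtype _))
    ⟨fun i => h (S.equivFin.symm i).1, fun i j e =>
      S.equivFin.symm.injective (Subtype.ext (hh (S.equivFin.symm i).2 (S.equivFin.symm j).2 e))⟩
  refine ⟨f.1, f.2, fun x hx => ?_⟩
  have : f.1 (S.equivFin.symm (S.equivFin ⟨x, hx⟩)).1 = h (S.equivFin.symm (S.equivFin ⟨x, hx⟩)).1 :=
    DFunLike.congr_fun hf (S.equivFin ⟨x, hx⟩)
  rwa [Equiv.symm_apply_apply] at this

/-- An element of support `4 ≤ m < 2k - 2` gives a smaller non-trivial one. -/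
lemma exists_smaller (G : Subgroup (Perm α)) {k : ℕ} (hkn : k < Fintype.card α)
    (hG : MulAction.IsMultiplyPretransitive G α k) (g : Perm α) (hg : g ∈ G)
    (h4 : 4 ≤ g.support.card) (hlt : g.support.card < 2 * k - 2) :
    ∃ h ∈ G, h ≠ 1 ∧ h.support.card < g.support.card := by
  classical
  set m := g.support.card with hm
  have hmem : ∀ f ∈ G, g⁻¹ * (f * g * f⁻¹) ∈ G := fun f hf =>
    mul_mem (inv_mem hg) (mul_mem (mul_mem hf hg) (inv_mem hf))
  have hone : ∀ f : Perm α, ∀ x : α, (f * g * f⁻¹) x ≠ g x → g⁻¹ * (f * g * f⁻¹) ≠ 1 := by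
    intro f x hx h
    rw [inv_mul_eq_one] at h
    exact hx (by rw [← h])
  -- the case of one exit from a set of size `j`
  have hexit : ∀ (T : Finset α) (s δ : α), T ⊆ g.support → T.card + 1 ≤ k → s ∈ T → g s ∉ T →
      (∀ y ∈ T, g y ∉ T → y = s) → δ ∉ T → δ ≠ g s →
      ∀ E : Finset α, E ⊆ g.support → E ⊆ {δ} →
      2 * m < m + (T ∪ E).card + (T.card - 1) →
      ∃ h ∈ G, h ≠ 1 ∧ h.support.card < m := by
    intro T s δ hT hTk hs hgs huniq hδT hδ E hE hEδ hnum
    obtain ⟨f, hf, hfv⟩ := exists_map_of_card_le G hkn.le hG (insert (g s) T)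
      (by rw [Finset.card_insert_of_notMem hgs]; exact hTk) (fun x => if x = g s then δ else x) (by
        intro x hx y hy e
        simp only [Finset.coe_insert, Set.mem_insert_iff, Finset.mem_coe] at hx hy
        dsimp only at e
        split_ifs at e with h1 h2 h2
        · exact h1.trans h2.symm
        · exact absurd (e ▸ hy.resolve_left h2) hδT
        · exact absurd (e ▸ hx.resolve_left h1) hδT
        · exact e)
    have hfT : ∀ x ∈ T, f x = x := fun x hx => by
      rw [hfv x (Finset.mem_insert_of_mem hx), if_neg (fun h : x = g s => hgs (h ▸ hx))]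
    have hfg : f (g s) = δ := by rw [hfv _ (Finset.mem_insert_self _ _), if_pos rfl]
    have hA : ∀ x ∈ T.erase s, g x ∈ T := fun x hx => by
      by_contra hc
      exact (Finset.mem_erase.mp hx).1 (huniq x (Finset.mem_erase.mp hx).2 hc)
    have h1 := support_comm_le g f T hT hfT (T.erase s) (Finset.erase_subset _ _) hA E hE
      (fun x hx => by
        rw [Finset.mem_singleton.mp (hEδ hx), ← hfg, Perm.coe_inv, Equiv.symm_apply_apply]
        exact Perm.apply_mem_support.mpr (hT hs))
    rw [Finset.card_erase_of_mem hs] at h1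
    refine ⟨_, hmem f hf, hone f s ?_, by omega⟩
    rw [Perm.mul_apply, Perm.mul_apply, show f⁻¹ s = s from (Equiv.symm_apply_eq _).mpr (hfT s hs).symm, hfg]
    exact hδ
  rcases Nat.lt_or_ge k m with hkm | hmk
  · -- `k < m`
    have key : ∀ T : Finset α, T ⊆ g.support → T.card = k - 1 →
        (∀ x ∈ T, ∀ y ∈ T, g x ∉ T → g y ∉ T → x = y) → (∃ x ∈ T, g x ∉ T) →
        ∃ h ∈ G, h ≠ 1 ∧ h.support.card < m := by
      rintro T hT hTc hT1 ⟨s, hs, hgs⟩
      have hc : 2 ≤ (g.support \ T).card := by rw [Finset.card_sdiff_of_subset hT]; omega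
      obtain ⟨δ, hδ, hδne⟩ : ∃ δ ∈ g.support \ T, δ ≠ g s :=
        Finset.exists_mem_ne (by omega) (g s)
      obtain ⟨hδs, hδT⟩ := Finset.mem_sdiff.mp hδ
      refine hexit T s δ hT (by omega) hs hgs (fun y hy ey => hT1 y hy s hs ey hgs) hδT hδne {δ}
        (Finset.singleton_subset_iff.mpr hδs) le_rfl ?_
      rw [Finset.card_union_of_disjoint (Finset.disjoint_singleton_right.mpr hδT), Finset.card_singleton]
      omega
    obtain ⟨T, hT, hTc, hT1⟩ := exists_le_one_exit g ∅ (Finset.empty_subset _) (by simp) (k - 1)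
      (Nat.zero_le _) (by omega)
    by_cases hex : ∃ x ∈ T, g x ∉ T
    · exact key T hT hTc hT1 hex
    push Not at hex
    obtain ⟨t, ht⟩ : T.Nonempty := Finset.card_pos.mp (by omega)
    have hstab : ∀ x, g x ∈ T → x ∈ T := by
      intro x hx
      have himg : T.image g = T := Finset.eq_of_subset_of_card_le
        (Finset.image_subset_iff.mpr hex) (by rw [Finset.card_image_of_injective _ g.injective])
      rw [← himg] at hx
      obtain ⟨y, hy, e⟩ := Finset.mem_image.mp hx
      exact g.injective e ▸ hy
    rcases Nat.lt_or_ge (m + 3) (2 * k) with hsmall | hbig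
    · -- the set of size `k - 1` is invariant
      obtain ⟨u, hu, huT⟩ := Finset.exists_mem_notMem_of_card_lt_card (s := T) (t := g.support) (by omega)
      obtain ⟨s, hs, hst⟩ : ∃ s ∈ T, g s = t := by
        obtain ⟨s, rfl⟩ := g.surjective t
        exact ⟨s, hstab s ht, rfl⟩
      have hgt : g t ≠ t := Perm.mem_support.mp (hT ht)
      have hsne : s ≠ t := fun e => hgt (e ▸ hst)
      obtain ⟨f, hf, hfv⟩ := exists_map_of_card_le G hkn.le hG (insert u T)
        (by rw [Finset.card_insert_of_notMem huT]; omega) (Equiv.swap t u) (Equiv.injective _).injOn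
      have hfT : ∀ x ∈ T.erase t, f x = x := fun x hx => by
        rw [hfv x (Finset.mem_insert_of_mem (Finset.mem_erase.mp hx).2),
          Equiv.swap_apply_of_ne_of_ne (Finset.mem_erase.mp hx).1
            (fun h : x = u => huT (h ▸ (Finset.mem_erase.mp hx).2))]
      have hft : f t = u := by rw [hfv t (Finset.mem_insert_of_mem ht), Equiv.swap_apply_left]
      have hfu : f u = t := by rw [hfv u (Finset.mem_insert_self _ _), Equiv.swap_apply_right]
      have hsT : s ∈ T.erase t := Finset.mem_erase.mpr ⟨hsne, hs⟩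
      have h1 := support_comm_le g f (T.erase t) ((Finset.erase_subset _ _).trans hT) hfT
        ((T.erase t).erase s) (Finset.erase_subset _ _) (fun x hx => by
          simp only [Finset.mem_erase] at hx ⊢
          exact ⟨fun e => hx.1 (g.injective (e.trans hst.symm)), hex x hx.2.2⟩)
        {t, u} (Finset.insert_subset (hT ht) (Finset.singleton_subset_iff.mpr hu)) (fun x hx => by
          rw [Perm.coe_inv]
          rcases Finset.mem_insert.mp hx with rfl | hx
          · rw [← hfu, Equiv.symm_apply_apply]; exact hu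
          · rw [Finset.mem_singleton.mp hx, ← hft, Equiv.symm_apply_apply]; exact hT ht)
      rw [Finset.card_erase_of_mem hsT, Finset.card_erase_of_mem ht] at h1
      have hcu : (T.erase t ∪ {t, u}).card = k := by
        have : T.erase t ∪ {t, u} = insert u T := by
          ext x
          simp only [Finset.mem_union, Finset.mem_erase, Finset.mem_insert, Finset.mem_singleton]
          constructor
          · rintro (⟨-, h⟩ | rfl | rfl)
            · exact Or.inr h
            · exact Or.inr ht
            · exact Or.inl rfl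
          · rintro (rfl | h)
            · exact Or.inr (Or.inr rfl)
            · by_cases hxt : x = t
              · exact Or.inr (Or.inl hxt)
              · exact Or.inl ⟨hxt, h⟩
        rw [this, Finset.card_insert_of_notMem huT]; omega
      refine ⟨_, hmem f hf, hone f s ?_, by omega⟩
      rw [Perm.mul_apply, Perm.mul_apply, show f⁻¹ s = s from (Equiv.symm_apply_eq _).mpr (hfT s hsT).symm,
        hst, hft]
      exact fun e => huT (e ▸ ht)
    · -- move one point across to the invariant complement
      have hc : (g.support \ T).card + 1 = k - 1 := by rw [Finset.card_sdiff_of_subset hT]; omega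
      have htn : t ∉ g.support \ T := fun h => (Finset.mem_sdiff.mp h).2 ht
      have hout : ∀ x ∈ g.support \ T, g x ∈ g.support \ T := fun x hx =>
        Finset.mem_sdiff.mpr ⟨Perm.apply_mem_support.mpr (Finset.mem_sdiff.mp hx).1,
          fun h => (Finset.mem_sdiff.mp hx).2 (hstab x h)⟩
      refine key (insert t (g.support \ T)) (Finset.insert_subset (hT ht) Finset.sdiff_subset)
        (by rw [Finset.card_insert_of_notMem htn]; exact hc) ?_ ⟨t, Finset.mem_insert_self _ _, ?_⟩
      · intro x hx y hy ex ey
        have h : ∀ w ∈ insert t (g.support \ T), g w ∉ insert t (g.support \ T) → w = t := fun w hw ew =>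
          (Finset.mem_insert.mp hw).resolve_right fun h => ew (Finset.mem_insert_of_mem (hout w h))
        rw [h x hx ex, h y hy ey]
      · rw [Finset.mem_insert, not_or]
        exact ⟨Perm.mem_support.mp (hT ht), fun h => (Finset.mem_sdiff.mp h).2 (hex t ht)⟩
  · -- `m ≤ k`
    obtain ⟨a, ha⟩ : g.support.Nonempty := Finset.card_pos.mp (by omega)
    obtain ⟨δ, -, hδ⟩ := Finset.exists_mem_notMem_of_card_lt_card (s := g.support) (t := Finset.univ)
      (by rw [Finset.card_univ]; omega)
    obtain ⟨s, rfl⟩ := g.surjective a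
    have hs : s ∈ g.support := Perm.apply_mem_support.mp ha
    have hsne : s ≠ g s := Ne.symm (Perm.mem_support.mp hs)
    refine hexit (g.support.erase (g s)) s δ (Finset.erase_subset _ _)
      (by rw [Finset.card_erase_of_mem ha]; omega) (Finset.mem_erase.mpr ⟨hsne, hs⟩)
      (fun h => (Finset.mem_erase.mp h).1 rfl) (fun y hy ey => ?_)
      (fun h => hδ (Finset.mem_of_mem_erase h)) (fun e => hδ (e ▸ ha)) ∅ (Finset.empty_subset _)
      (Finset.empty_subset _) ?_
    · by_contra hne
      exact ey (Finset.mem_erase.mpr ⟨fun e => hne (g.injective e),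
        Perm.apply_mem_support.mpr (Finset.mem_of_mem_erase hy)⟩)
    · rw [Finset.union_empty, Finset.card_erase_of_mem ha]; omega


/-- A `k`-transitive permutation group (`k ≥ 3`) with a non-identity element of support smaller than `2k - 2` contains a non-identity element of support at most 3, and therefore contains the alternating group. -/
theorem result {α : Type*} [Fintype α] [DecidableEq α] (G : Subgroup (Equiv.Perm α)) {k : ℕ} (hk : 3 ≤ k) (hkn : k ≤ Fintype.card α) (hG : MulAction.IsMultiplyPretransitive G α k) (g : Equiv.Perm α) (hg : g ∈ G) (hg1 : g ≠ 1) (hsupp : g.support.card < 2 * k - 2) : (∃ h : Equiv.Perm α, h ∈ G ∧ h ≠ 1 ∧ h.support.card ≤ 3) ∧ alternatingGroup α ≤ G := by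
  classical
  have h2 : MulAction.IsMultiplyPretransitive G α 2 :=
    MulAction.isMultiplyPretransitive_of_le (show 2 ≤ k by omega) (by rw [Nat.card_eq_fintype_card]; exact hkn)
  have hprim : MulAction.IsPreprimitive G α := MulAction.isPreprimitive_of_is_two_pretransitive h2
  have hfinish : ∀ h ∈ G, h ≠ 1 → h.support.card ≤ 3 → alternatingGroup α ≤ G := by
    intro h hh h1 h3
    have h2' : 2 ≤ h.support.card := by
      by_contra hc
      exact h1 (Equiv.Perm.card_support_le_one.mp (by omega))
    rcases (by omega : h.support.card = 2 ∨ h.support.card = 3) with e | e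
    · rw [Equiv.Perm.subgroup_eq_top_of_isPreprimitive_of_isSwap_mem hprim h
        (Equiv.Perm.card_support_eq_two.mp e) hh]
      exact le_top
    · exact Equiv.Perm.alternatingGroup_le_of_isPreprimitive_of_isThreeCycle_mem hprim
        (card_support_eq_three_iff.1 e) hh
  suffices ∃ h : Equiv.Perm α, h ∈ G ∧ h ≠ 1 ∧ h.support.card ≤ 3 by
    obtain ⟨h, hh, h1, h3⟩ := this
    exact ⟨⟨h, hh, h1, h3⟩, hfinish h hh h1 h3⟩
  rcases Nat.lt_or_ge k (Fintype.card α) with hlt | hge
  · suffices ∀ m, ∀ g ∈ G, g ≠ 1 → g.support.card = m → m < 2 * k - 2 →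
        ∃ h : Equiv.Perm α, h ∈ G ∧ h ≠ 1 ∧ h.support.card ≤ 3 from this _ g hg hg1 rfl hsupp
    intro m
    induction m using Nat.strong_induction_on with
    | _ m ih =>
      intro g hg hg1 hm hlt'
      by_cases h3 : g.support.card ≤ 3
      · exact ⟨g, hg, hg1, h3⟩
      obtain ⟨h, hh, h1, hs⟩ := exists_smaller G hlt hG g hg (by omega) (by omega)
      exact ih _ (hm ▸ hs) h hh h1 rfl (by omega)
  · -- `k = n`: the group is the symmetric group
    obtain ⟨a, b, hab⟩ := Fintype.exists_pair_of_one_lt_card (α := α) (by omega)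
    obtain ⟨f, hf, hfv⟩ := exists_map_of_card_le G hkn hG Finset.univ
      (by rw [Finset.card_univ]; omega) (Equiv.swap a b) (Equiv.injective _).injOn
    rw [show f = Equiv.swap a b from Equiv.ext fun x => hfv x (Finset.mem_univ _)] at hf
    exact ⟨_, hf, fun e => hab (by
      have := congrArg (fun p : Equiv.Perm α => p a) e
      simpa using this.symm), by rw [Equiv.Perm.support_swap hab, Finset.card_pair hab]; omega⟩

end Cfsg.Agent.S0711
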