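import Cfsg.Statements.S0712
import Cfsg.Agent.Lib.PermSmall.Basic
import Mathlib.GroupTheory.GroupAction.Jordan

set_option autoImplicit false
open Cfsg

namespace Cfsg.Agent.S0712

/-- Jordan: a primitive group in which the pointwise stabiliser of a set `s` is doubly transitive on the complement of `s` (which has at least 2 points) is `(|s| + 2)`-transitive. -/
theorem result {α : Type*} [Fintype α] [DecidableEq α] (G : Subgroup (Equiv.Perm α)) (hG : MulAction.IsPreprimitive G α) (s : Set α) {m : ℕ} (hsm : s.ncard = m) (hm : m + 2 ≤ Fintype.card α) (h2 : MulAction.IsMultiplyPretransitive (fixingSubgroup G s) (SubMulAction.ofFixingSubgroup G s) 2) : MulAction.IsMultiplyPretransitive G α (m + 2) := by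
  classical
  have hN : Nat.card α = Fintype.card α := Nat.card_eq_fintype_card
  rcases Nat.eq_zero_or_pos m with hm0 | hm0
  · subst hm0
    have hs : s = ∅ := (Set.ncard_eq_zero s.toFinite).mp hsm
    subst hs
    rw [MulAction.is_two_pretransitive_iff] at h2 ⊢
    intro a b c d hab hcd
    have hmem : ∀ z : α, z ∈ SubMulAction.ofFixingSubgroup G (∅ : Set α) := fun z => by
      simp [SubMulAction.mem_ofFixingSubgroup_iff]
    obtain ⟨g, hg1, hg2⟩ := h2 (a := ⟨a, hmem a⟩) (b := ⟨b, hmem b⟩) (c := ⟨c, hmem c⟩)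
      (d := ⟨d, hmem d⟩) (fun e => hab (congrArg Subtype.val e)) (fun e => hcd (congrArg Subtype.val e))
    exact ⟨(g : G), congrArg Subtype.val hg1, congrArg Subtype.val hg2⟩
  rcases eq_or_lt_of_le hm with h | h
  · -- only two points outside `s`
    obtain ⟨g, hg, hswap⟩ : ∃ g ∈ G, Equiv.Perm.IsSwap g := by
      have hc : (sᶜ).ncard = 2 := by
        have := Set.ncard_add_ncard_compl s
        omega
      obtain ⟨a, b, hab, hs⟩ := Set.ncard_eq_two.mp hc
      have hmem : ∀ z : α, z ∈ ({a, b} : Set α) → z ∈ SubMulAction.ofFixingSubgroup G s :=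
        fun z hz => by rw [← hs] at hz; exact hz
      rw [MulAction.is_two_pretransitive_iff] at h2
      obtain ⟨g, hg1, hg2⟩ := h2 (a := ⟨a, hmem a (by simp)⟩) (b := ⟨b, hmem b (by simp)⟩)
        (c := ⟨b, hmem b (by simp)⟩) (d := ⟨a, hmem a (by simp)⟩)
        (fun e => hab (congrArg Subtype.val e)) (fun e => hab (congrArg Subtype.val e).symm)
      refine ⟨((g : G) : Equiv.Perm α), (g : G).2, a, b, hab, Equiv.ext fun z => ?_⟩
      by_cases hza : z = a
      · subst hza; rw [Equiv.swap_apply_left]; exact congrArg Subtype.val hg1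
      by_cases hzb : z = b
      · subst hzb; rw [Equiv.swap_apply_right]; exact congrArg Subtype.val hg2
      rw [Equiv.swap_apply_of_ne_of_ne hza hzb]
      refine (mem_fixingSubgroup_iff G).mp g.2 z ?_
      by_contra hzs
      have : z ∈ sᶜ := hzs
      rw [hs] at this
      rcases this with e | e
      · exact hza e
      · exact hzb e
    have htop := Equiv.Perm.subgroup_eq_top_of_isPreprimitive_of_isSwap_mem hG g hswap hg
    subst htop
    rw [MulAction.isMultiplyPretransitive_iff]
    intro u v
    have := Equiv.Perm.isMultiplyPretransitive α (m + 2)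
    obtain ⟨σ, hσ⟩ := MulAction.exists_smul_eq (Equiv.Perm α) u v
    exact ⟨⟨σ, trivial⟩, hσ⟩
  obtain ⟨n, rfl⟩ : ∃ n, m = n + 1 := ⟨m - 1, by omega⟩
  haveI := h2
  have hp : MulAction.IsPreprimitive (fixingSubgroup G s) (SubMulAction.ofFixingSubgroup G s) :=
    MulAction.isPreprimitive_of_is_two_pretransitive h2
  have hmp := MulAction.IsPreprimitive.isMultiplyPreprimitive hG hsm (by omega) hp
  have htr : MulAction.IsMultiplyPretransitive G α (n + 2) := hmp.isMultiplyPretransitive
  refine CfsgLib.PermSmall.isMultiplyPretransitive_of_fixing_transitive (by omega) ?_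
  intro t ht x y hx hy
  -- the fixer of a set of n + 2 points is transitive outside it
  obtain ⟨c, hc⟩ : ∃ c, c ∉ s := by
    by_contra hall
    simp only [not_exists, not_not] at hall
    rw [Set.eq_univ_of_forall hall, Set.ncard_univ] at hsm
    omega
  have hcs : (s.toFinset.card) = n + 1 := by rw [← Set.ncard_eq_toFinset_card', hsm]
  let u : Fin (n + 2) ↪ α :=
    ((t.equivFin.trans (finCongr (by omega))).symm.toEmbedding).trans ⟨Subtype.val, Subtype.val_injective⟩
  let w : Fin (n + 2) ↪ α :=
    (((insert c s.toFinset).equivFin.trans (finCongr (by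
      rw [Finset.card_insert_of_notMem (by simpa using hc), hcs]))).symm.toEmbedding).trans
      ⟨Subtype.val, Subtype.val_injective⟩
  obtain ⟨g, hg⟩ := MulAction.exists_smul_eq G u w
  have hgt : ∀ z ∈ t, g • z ∈ insert c s.toFinset := by
    intro z hz
    obtain ⟨i, hi⟩ : ∃ i, u i = z := ⟨(t.equivFin.trans (finCongr (by omega))) ⟨z, hz⟩, by simp [u]⟩
    have : g • u i = w i := DFunLike.congr_fun hg i
    rw [← hi, this]
    exact Subtype.coe_prop _
  have himg : t.image (g • ·) = insert c s.toFinset := by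
    refine Finset.eq_of_subset_of_card_le (fun z hz => ?_) ?_
    · obtain ⟨z', hz', rfl⟩ := Finset.mem_image.mp hz
      exact hgt z' hz'
    · rw [Finset.card_image_of_injective _ (MulAction.injective g),
        Finset.card_insert_of_notMem (by simpa using hc), hcs]
      omega
  have hout : ∀ z, z ∉ t → g • z ≠ c ∧ g • z ∉ s := by
    intro z hz
    have : g • z ∉ t.image (g • ·) := fun hm' => by
      obtain ⟨z', hz', e⟩ := Finset.mem_image.mp hm'
      exact hz ((MulAction.injective g e) ▸ hz')
    rw [himg] at this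
    simpa [not_or] using this
  rw [MulAction.is_two_pretransitive_iff] at h2
  have hsub : ∀ z, z ∉ s → z ∈ SubMulAction.ofFixingSubgroup G s := fun z hz => hz
  obtain ⟨h, h1, h1'⟩ := h2 (a := ⟨g • x, hsub _ (hout x hx).2⟩) (b := ⟨c, hsub _ hc⟩)
    (c := ⟨g • y, hsub _ (hout y hy).2⟩) (d := ⟨c, hsub _ hc⟩)
    (fun e => (hout x hx).1 (congrArg Subtype.val e)) (fun e => (hout y hy).1 (congrArg Subtype.val e))
  refine ⟨g⁻¹ * (h : G) * g, fun z hz => ?_, ?_⟩
  · rw [mul_smul, mul_smul, inv_smul_eq_iff]
    rcases Finset.mem_insert.mp (hgt z hz) with e | e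
    · rw [e]; exact congrArg Subtype.val h1'
    · exact (mem_fixingSubgroup_iff G).mp h.2 _ (Set.mem_toFinset.mp e)
  · rw [mul_smul, mul_smul, inv_smul_eq_iff]
    exact congrArg Subtype.val h1

end Cfsg.Agent.S0712
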