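import Cfsg.Statements.S0714
import Mathlib.GroupTheory.GroupAction.MultipleTransitivity
import Mathlib.Tactic

set_option autoImplicit false
open Cfsg

namespace Cfsg.Agent.S0714

/-- Over any field, the permutation module of the alternating group of degree at least 5 has exactly four invariant subspaces: zero, the constant functions, the functions with coordinate sum zero, and everything. -/
theorem result {α : Type*} [Fintype α] [DecidableEq α] (hα : 5 ≤ Fintype.card α) {K : Type*} [Field K] (W : Subrepresentation (Cfsg.permRep K (alternatingGroup α) α)) : W.toSubmodule = ⊥ ∨ W = Cfsg.permConstants K (alternatingGroup α) α ∨ W = Cfsg.permSumZero K (alternatingGroup α) α ∨ W.toSubmodule = ⊤ := by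
  classical
  set S := W.toSubmodule with hS
  have act : ∀ (σ : Equiv.Perm α) (hσ : σ ∈ alternatingGroup α) (f : α → K), f ∈ S →
      (fun x => f (σ⁻¹ x) - f x) ∈ S := by
    intro σ hσ f hf
    have h1 := W.apply_mem_toSubmodule ⟨σ, hσ⟩ hf
    exact S.sub_mem h1 hf
  by_cases hconst : ∀ f ∈ S, ∀ a b, f a = f b
  · by_cases hbot : S = ⊥
    · exact Or.inl hbot
    right; left
    apply Subrepresentation.toSubmodule_injective
    have hle : S ≤ Submodule.span K {fun _ : α => (1 : K)} := by
      intro f hf
      rcases isEmpty_or_nonempty α with h | ⟨⟨a⟩⟩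
      · rw [Subsingleton.elim f 0]; exact zero_mem _
      exact Submodule.mem_span_singleton.mpr ⟨f a, funext fun x => by simp [hconst f hf a x]⟩
    refine le_antisymm hle ?_
    obtain ⟨f, hf, hf0⟩ := Submodule.exists_mem_ne_zero_of_ne_bot hbot
    obtain ⟨t, ht⟩ := Submodule.mem_span_singleton.mp (hle hf)
    have ht0 : t ≠ 0 := fun e => hf0 (by rw [← ht, e, zero_smul])
    rw [show (Cfsg.permConstants K (alternatingGroup α) α).toSubmodule
      = Submodule.span K {fun _ : α => (1 : K)} from rfl, Submodule.span_singleton_le_iff_mem]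
    have := S.smul_mem t⁻¹ hf
    rwa [← ht, inv_smul_smul₀ ht0] at this
  simp only [not_forall] at hconst
  obtain ⟨f, hf, a, b, hfab⟩ := hconst
  have hab : a ≠ b := fun e => hfab (by rw [e])
  have pick : ∀ T : Finset α, T.card ≤ 4 → ∃ z, z ∉ T := fun T hT => by
    by_contra hall
    simp only [not_exists, not_not] at hall
    have := Finset.card_le_card (fun z (_ : z ∈ Finset.univ) => hall z)
    rw [Finset.card_univ] at this
    omega
  obtain ⟨c, hc⟩ := pick {a, b} (le_trans Finset.card_le_two (by norm_num))
  obtain ⟨d, hd⟩ := pick {a, b, c} (le_trans Finset.card_le_three (by norm_num))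
  obtain ⟨e, he⟩ := pick {a, b, c, d} Finset.card_le_four
  simp only [Finset.mem_insert, Finset.mem_singleton, not_or] at hc hd he
  have h3 : ∀ x y z : α, x ≠ y → y ≠ z → Equiv.swap x y * Equiv.swap y z ∈ alternatingGroup α := by
    intro x y z h1 h2
    simp [Equiv.Perm.mem_alternatingGroup, Equiv.Perm.sign_swap h1, Equiv.Perm.sign_swap h2]
  have h22 : ∀ x y z w : α, x ≠ y → z ≠ w → Equiv.swap x y * Equiv.swap z w ∈ alternatingGroup α := by
    intro x y z w h1 h2
    simp [Equiv.Perm.mem_alternatingGroup, Equiv.Perm.sign_swap h1, Equiv.Perm.sign_swap h2]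
  -- a vector supported on three points
  set u : α → K := fun x => f ((Equiv.swap a b * Equiv.swap b c)⁻¹ x) - f x with hu
  have huS : u ∈ S := act _ (h3 a b c hab (Ne.symm hc.2)) f hf
  have hout : ∀ x, x ≠ a → x ≠ b → x ≠ c → u x = 0 := by
    intro x h1 h2 h3'
    simp [hu, Equiv.swap_apply_of_ne_of_ne h1 h2, Equiv.swap_apply_of_ne_of_ne h2 h3']
  have hub : u b = f a - f b := by
    simp [hu, Equiv.swap_apply_of_ne_of_ne hab (Ne.symm hc.1)]
  -- some difference of two basis vectors lies in the subspace
  obtain ⟨x0, y0, hxy, hxyS⟩ : ∃ x y : α, x ≠ y ∧ Pi.single x 1 - Pi.single y (1 : K) ∈ S := by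
    have swapcase : ∀ x y : α, x ≠ y → x ≠ d → x ≠ e → y ≠ d → y ≠ e →
        u x ≠ u y → ∃ x y : α, x ≠ y ∧ Pi.single x 1 - Pi.single y (1 : K) ∈ S := by
      intro x y h1 h2 h2' h3' h4 hne
      refine ⟨x, y, h1, ?_⟩
      have hm := act _ (h22 x y d e h1 (Ne.symm he.2.2.2)) u huS
      have : (fun z => u ((Equiv.swap x y * Equiv.swap d e)⁻¹ z) - u z)
          = (u y - u x) • (Pi.single x 1 - Pi.single y (1 : K) : α → K) := by
        funext z
        have hud : u d = 0 := hout d hd.1 hd.2.1 hd.2.2
        have hue : u e = 0 := hout e he.1 he.2.1 he.2.2.1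
        by_cases z1 : z = x
        · subst z1
          simp [Equiv.swap_apply_of_ne_of_ne h3' h4, h1]
        by_cases z2 : z = y
        · subst z2
          simp [Equiv.swap_apply_of_ne_of_ne h2 h2', Ne.symm h1]
        by_cases z3 : z = d
        · subst z3
          simp [z1, z2, Equiv.swap_apply_of_ne_of_ne z1 z2, hud, hue]
        by_cases z4 : z = e
        · subst z4
          simp [z1, z2, Equiv.swap_apply_of_ne_of_ne z1 z2, hud, hue]
        simp [z1, z2, z3, z4, Equiv.swap_apply_of_ne_of_ne]
      rw [this] at hm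
      have := S.smul_mem (u y - u x)⁻¹ hm
      rwa [inv_smul_smul₀ (sub_ne_zero.mpr (Ne.symm hne))] at this
    by_cases e1 : u a = u b
    · by_cases e2 : u b = u c
      · -- all three values agree
        set t := u b with ht
        have ht0 : t ≠ 0 := hub ▸ sub_ne_zero.mpr hfab
        have hm := act _ (h3 c d e (Ne.symm hd.2.2) (Ne.symm he.2.2.2)) u huS
        refine ⟨d, c, hd.2.2, ?_⟩
        have : (fun z => u ((Equiv.swap c d * Equiv.swap d e)⁻¹ z) - u z)
            = t • (Pi.single d 1 - Pi.single c (1 : K) : α → K) := by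
          funext z
          have hud : u d = 0 := hout d hd.1 hd.2.1 hd.2.2
          have hue : u e = 0 := hout e he.1 he.2.1 he.2.2.1
          by_cases z1 : z = c
          · subst z1
            simp [hue, e2, Ne.symm hd.2.2]
          by_cases z2 : z = d
          · subst z2
            simp [hud, e2, hd.2.2, Equiv.swap_apply_of_ne_of_ne (Ne.symm hd.2.2) (Ne.symm he.2.2.1)]
          by_cases z3 : z = e
          · subst z3
            simp [z1, z2, hud, hue, Equiv.swap_apply_of_ne_of_ne z1 z2]
          simp [z1, z2, z3, Equiv.swap_apply_of_ne_of_ne]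
        rw [this] at hm
        have := S.smul_mem t⁻¹ hm
        rwa [inv_smul_smul₀ ht0] at this
      · exact swapcase b c (Ne.symm hc.2) (Ne.symm hd.2.1) (Ne.symm he.2.1) (Ne.symm hd.2.2)
          (Ne.symm he.2.2.1) e2
    · exact swapcase a b hab (Ne.symm hd.1) (Ne.symm he.1) (Ne.symm hd.2.1) (Ne.symm he.2.1) e1
  -- hence all of them
  have hall : ∀ x y : α, Pi.single x 1 - Pi.single y (1 : K) ∈ S := by
    intro x y
    rcases eq_or_ne x y with rfl | hne
    · rw [sub_self]; exact zero_mem _
    haveI := alternatingGroup.isMultiplyPretransitive α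
    have h2t : MulAction.IsMultiplyPretransitive (alternatingGroup α) α 2 :=
      MulAction.isMultiplyPretransitive_of_le (n := Nat.card α - 2)
        (by rw [Nat.card_eq_fintype_card]; omega) (Nat.sub_le _ _)
    obtain ⟨g, hg1, hg2⟩ := MulAction.is_two_pretransitive_iff.mp h2t hxy hne
    have hm := W.apply_mem_toSubmodule g hxyS
    have : (Pi.single x 1 - Pi.single y (1 : K) : α → K)
        = fun z => (Pi.single x0 1 - Pi.single y0 (1 : K) : α → K) (g⁻¹ • z) := by
      funext z
      simp [Pi.single_apply, inv_smul_eq_iff, hg1, hg2]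
    rw [this]
    exact hm
  have hsum : ∀ h : α → K, ∑ x, h x = 0 → h ∈ S := by
    intro h hh
    have : h = ∑ x, h x • (Pi.single x 1 - Pi.single a (1 : K) : α → K) := by
      funext z
      simp [Finset.sum_apply, Pi.single_apply, Finset.sum_sub_distrib, mul_sub, ← Finset.sum_mul, hh]
    rw [this]
    exact sum_mem fun x _ => S.smul_mem _ (hall x a)
  by_cases hz : ∀ h ∈ S, ∑ x, h x = 0
  · right; right; left
    apply Subrepresentation.toSubmodule_injective
    exact le_antisymm (fun h hh => hz h hh) (fun h hh => hsum h hh)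
  · right; right; right
    simp only [not_forall] at hz
    obtain ⟨h, hh, hh0⟩ := hz
    rw [eq_top_iff]
    intro k _
    have e1 : k - ((∑ x, k x) / (∑ x, h x)) • h ∈ S := by
      apply hsum
      simp [Finset.sum_sub_distrib, ← Finset.mul_sum, div_mul_cancel₀ _ hh0]
    have := S.add_mem e1 (S.smul_mem ((∑ x, k x) / (∑ x, h x)) hh)
    rwa [sub_add_cancel] at this

end Cfsg.Agent.S0714
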