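import Cfsg.Statements.S0719
import Cfsg.Agent.Lib.PermSmall.Wielandt

set_option autoImplicit false
open Cfsg

namespace Cfsg.Agent.S0719

/-- Groups of Wielandt type: if a primitive group of degree `2m` has rank 3 and permutation character `1 + χ₁ + χ₂` with irreducible `χ₁, χ₂` of degrees `m - 1` and `m`, then `m = 2a² + 2a + 1` for some positive integer `a` and the two non-trivial subdegrees are `a(2a+1)` and `(a+1)(2a+1)`. -/
theorem result {G : Type*} [Group G] [Fintype G] {Ω : Type*} [Fintype Ω] [MulAction G Ω] (hprim : MulAction.IsPreprimitive G Ω) {m : ℕ} (hm : Fintype.card Ω = 2 * m) (a₀ : Ω) (hrank : Nat.card (MulAction.orbitRel.Quotient (MulAction.stabilizer G a₀) Ω) = 3) (χ₁ χ₂ : G → ℂ) (h₁ : Cfsg.IsIrrCharacter G χ₁) (h₂ : Cfsg.IsIrrCharacter G χ₂) (hπ : (fun g : G => (Nat.card (MulAction.fixedBy Ω g) : ℂ)) = fun g => 1 + χ₁ g + χ₂ g) (hd₁ : χ₁ 1 = (m : ℂ) - 1) (hd₂ : χ₂ 1 = m) : ∃ a : ℕ, 0 < a ∧ m = 2 * a ^ 2 +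 2 * a + 1 ∧ ∀ b : Ω, b ≠ a₀ → Nat.card (MulAction.orbit (MulAction.stabilizer G a₀) b) = a * (2 * a + 1) ∨ Nat.card (MulAction.orbit (MulAction.stabilizer G a₀) b) = (a + 1) * (2 * a + 1) := by
  classical
  haveI := hprim
  haveI : MulAction.IsPretransitive G Ω := MulAction.IsPreprimitive.toIsPretransitive
  have hm2 : 2 ≤ m := by
    obtain ⟨n, hn, hn1⟩ := CfsgLib.Characters.irr_exists_degree h₁
    rw [hd₁] at hn1
    have : (m : ℂ) = ((n + 1 : ℕ) : ℂ) := by push_cast; linear_combination hn1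
    have := Nat.cast_injective this
    omega
  have hmf := CfsgLib.PermSmall.PermCentraliser.multFree_of_rank_le_five (G := G) a₀ (by omega)
  rw [← CfsgLib.PermSmall.PermCentraliser.character_eq] at hmf
  have hsp := CfsgLib.PermSmall.Wielandt.selfPaired (G := G) a₀ hrank ⟨m, by omega⟩
  have h4 : 4 ≤ Fintype.card Ω := by omega
  have key : ∀ b : Ω, b ≠ a₀ → ∃ a : ℕ, 0 < a ∧ m = 2 * a ^ 2 + 2 * a + 1 ∧
      (Nat.card (MulAction.orbit (MulAction.stabilizer G a₀) b) = a * (2 * a + 1) ∨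
        Nat.card (MulAction.orbit (MulAction.stabilizer G a₀) b) = (a + 1) * (2 * a + 1)) := by
    intro b hb
    obtain ⟨c, hc, hcb, hall⟩ := CfsgLib.PermSmall.Wielandt.exists_other a₀ hrank hb
    obtain ⟨t, ht⟩ := CfsgLib.PermSmall.Wielandt.main a₀ b c m hm hm2 hc hcb hb hall hsp hmf χ₁ χ₂
      h₁ h₂ (fun g => congrFun hπ g) hd₁ hd₂
    have hsum := CfsgLib.PermSmall.Wielandt.card_split hb hc hcb hall
    rw [hm] at hsum
    exact CfsgLib.PermSmall.Wielandt.arith hm2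
      (CfsgLib.PermSmall.Wielandt.two_le_subdegree a₀ hrank h4 hb)
      (CfsgLib.PermSmall.Wielandt.two_le_subdegree a₀ hrank h4 hc) hsum ht
  obtain ⟨b₀, hb₀⟩ : ∃ b : Ω, b ≠ a₀ := Fintype.exists_ne_of_one_lt_card (by omega) a₀
  obtain ⟨a, ha, hma, -⟩ := key b₀ hb₀
  refine ⟨a, ha, hma, fun b hb => ?_⟩
  obtain ⟨a', ha', hma', h⟩ := key b hb
  obtain rfl : a = a' := by
    rcases lt_trichotomy a a' with hlt | heq | hlt
    · exfalso; have := Nat.mul_le_mul hlt hlt; nlinarith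
    · exact heq
    · exfalso; have := Nat.mul_le_mul hlt hlt; nlinarith
  exact h

end Cfsg.Agent.S0719
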