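import Cfsg.Statements.S0721
import Cfsg.Agent.Lib.Maximal.CharSimple

set_option autoImplicit false
open Cfsg

namespace Cfsg.Agent.S0721

/-- A minimal normal subgroup of a finite group is isomorphic to a direct power `T ^ m` of a simple group `T` (possibly of prime order). -/
theorem result {H : Type*} [Group H] [Finite H] (N : Subgroup H) [N.Normal] (hN : N ≠ ⊥) (hmin : ∀ M : Subgroup H, M.Normal → M ≤ N → M = ⊥ ∨ M = N) : ∃ (T : Type) (_ : Group T) (m : ℕ), IsSimpleGroup T ∧ 0 < m ∧ Nonempty (N ≃* (Fin m → T)) := by
  classical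
  haveI : Nontrivial N := (Subgroup.nontrivial_iff_ne_bot N).mpr hN
  obtain ⟨T, n, hT, hn, ⟨e⟩⟩ := CfsgLib.Maximal.exists_pi_equiv_of_charSimple (G := N) (fun K hK => by
    haveI := hK
    rcases hmin (K.map N.subtype) inferInstance (Subgroup.map_subtype_le K) with h | h
    · left
      exact (Subgroup.map_eq_bot_iff_of_injective _ N.subtype_injective).mp h
    · right
      refine Subgroup.map_injective N.subtype_injective (h.trans ?_)
      rw [← MonoidHom.range_eq_map, Subgroup.range_subtype])
  obtain ⟨k, ⟨f⟩⟩ := Finite.exists_equiv_fin T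
  -- the Cayley representation moves the simple factor to the lowest universe
  let c : T →* Equiv.Perm (Fin k) := f.permCongrHom.toMonoidHom.comp (MulAction.toPermHom T T)
  have hc : Function.Injective c := f.permCongrHom.injective.comp MulAction.toPerm_injective
  let f' : T ≃* c.range := MonoidHom.ofInjective hc
  exact ⟨c.range, inferInstance, n, (f'.isSimpleGroup_congr).mp hT, hn,
    ⟨e.trans (MulEquiv.piCongrRight fun _ => f')⟩⟩

end Cfsg.Agent.S0721
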