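import Cfsg.Statements.S0724
import Mathlib.GroupTheory.GroupAction.Quotient
import Mathlib.Algebra.Group.Action.Pi
import Mathlib.Algebra.Polynomial.Eval.Degree
import Mathlib.Algebra.Polynomial.Eval.SMul
import Mathlib.Tactic

set_option autoImplicit false
open Cfsg

namespace Cfsg.Agent.S0724

/-- Blichfeldt's Theorem: if a finite set `L` of natural numbers contains the number of fixed points of every non-identity element of a permutation group `G` of degree `n`, then the order of `G` divides `∏ (n - l)` over `l ∈ L`. -/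
theorem result {α : Type*} [Fintype α] [DecidableEq α] (G : Subgroup (Equiv.Perm α)) (L : Finset ℕ) (hL : ∀ g ∈ G, g ≠ 1 → Nat.card (MulAction.fixedBy α g) ∈ L) : Nat.card G ∣ ∏ l ∈ L, (Fintype.card α - l) := by
  classical
  by_cases hbig : ∃ l ∈ L, Fintype.card α ≤ l
  · obtain ⟨l, hl, hle⟩ := hbig
    rw [Finset.prod_eq_zero hl (by omega)]
    exact dvd_zero _
  simp only [not_exists, not_and, not_le] at hbig
  haveI : Fintype G := Fintype.ofFinite G
  -- sums of powers of the fixed point numbers are divisible by the order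
  have hpow : ∀ j : ℕ, (Nat.card G : ℤ) ∣ ∑ g : G, ((Nat.card (MulAction.fixedBy α g) : ℤ)) ^ j := by
    intro j
    have hfix : ∀ g : G, Nat.card (MulAction.fixedBy (Fin j → α) g)
        = (Nat.card (MulAction.fixedBy α g)) ^ j := fun g => by
      rw [show (Nat.card (MulAction.fixedBy α g)) ^ j = Nat.card (Fin j → MulAction.fixedBy α g) by
        simp [Nat.card_fun]]
      exact Nat.card_congr
        { toFun := fun f i => ⟨f.1 i, congrFun f.2 i⟩
          invFun := fun f => ⟨fun i => (f i).1, funext fun i => (f i).2⟩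
          left_inv := fun f => rfl
          right_inv := fun f => rfl }
    haveI : Fintype (Quotient (MulAction.orbitRel G (Fin j → α))) := Fintype.ofFinite _
    haveI : ∀ g : G, Fintype (MulAction.fixedBy (Fin j → α) g) := fun g => Fintype.ofFinite _
    have hb := MulAction.sum_card_fixedBy_eq_card_orbits_mul_card_group G (Fin j → α)
    refine ⟨(Fintype.card (Quotient (MulAction.orbitRel G (Fin j → α))) : ℤ), ?_⟩
    rw [mul_comm, Nat.card_eq_fintype_card (α := G)]
    calc ∑ g : G, ((Nat.card (MulAction.fixedBy α g) : ℤ)) ^ j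
        = ((∑ g : G, Fintype.card (MulAction.fixedBy (Fin j → α) g) : ℕ) : ℤ) := by
          push_cast
          exact Finset.sum_congr rfl fun g _ => by
            rw [← Nat.card_eq_fintype_card (α := MulAction.fixedBy (Fin j → α) g), hfix]; push_cast; rfl
      _ = _ := by rw [hb]; push_cast; rfl
  -- hence so are sums of polynomial values
  let P : Polynomial ℤ := ∏ l ∈ L, (Polynomial.X - Polynomial.C (l : ℤ))
  have hPdvd : (Nat.card G : ℤ) ∣ ∑ g : G, P.eval ((Nat.card (MulAction.fixedBy α g) : ℤ)) := by
    simp only [Polynomial.eval_eq_sum_range]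
    rw [Finset.sum_comm]
    refine Finset.dvd_sum fun j _ => ?_
    rw [← Finset.mul_sum]
    exact dvd_mul_of_dvd_right (hpow j) _
  have h1 : ∑ g : G, P.eval ((Nat.card (MulAction.fixedBy α g) : ℤ))
      = ∏ l ∈ L, ((Fintype.card α : ℤ) - l) := by
    rw [Finset.sum_eq_single (1 : G)]
    · simp [P, Polynomial.eval_prod]
    · intro g _ hg
      simp only [P, Polynomial.eval_prod]
      refine Finset.prod_eq_zero (hL (g : Equiv.Perm α) g.2 fun e => hg (Subtype.ext e)) ?_
      simp only [Polynomial.eval_sub, Polynomial.eval_X, Polynomial.eval_C, sub_eq_zero]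
      rfl
    · simp
  rw [h1] at hPdvd
  have h2 : ((∏ l ∈ L, (Fintype.card α - l) : ℕ) : ℤ) = ∏ l ∈ L, ((Fintype.card α : ℤ) - l) := by
    push_cast
    exact Finset.prod_congr rfl fun l hl => by rw [Nat.cast_sub (hbig l hl).le]
  rw [← h2] at hPdvd
  exact_mod_cast hPdvd

end Cfsg.Agent.S0724
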