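import Cfsg.Statements.S0726
-- import your own Cfsg.Agent.* helpers here

set_option autoImplicit false
open Cfsg

namespace Cfsg.Agent.S0726

/-- The left and right regular permutation representations of a group are each other's centralisers in the symmetric group: the centraliser of the left regular image is the right regular image, and a transitive subgroup centralising the left regular image is the whole right regular image. -/
theorem result {G : Type*} [Group G] : Subgroup.centralizer ((MulAction.toPermHom G G).range : Set (Equiv.Perm G)) = (MulAction.toPermHom Gᵐᵒᵖ G).range ∧ ∀ H : Subgroup (Equiv.Perm G), H ≤ Subgroup.centralizer ((MulAction.toPermHom G G).range : Set (Equiv.Perm G)) → MulAction.IsPretransitive H G → H = (MulAction.toPermHom Gᵐᵒᵖ G).range := by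
  classical
  have key : ∀ σ ∈ Subgroup.centralizer ((MulAction.toPermHom G G).range : Set (Equiv.Perm G)),
      ∀ x : G, σ x = x * σ 1 := by
    intro σ hσ x
    have := Subgroup.mem_centralizer_iff.mp hσ _ ⟨x, rfl⟩
    have h1 := congrArg (fun e : Equiv.Perm G => e 1) this
    simpa [MulAction.toPermHom] using h1.symm
  have main : Subgroup.centralizer ((MulAction.toPermHom G G).range : Set (Equiv.Perm G))
      = (MulAction.toPermHom Gᵐᵒᵖ G).range := by
    apply le_antisymm
    · intro σ hσ
      exact ⟨MulOpposite.op (σ 1), Equiv.ext fun x => by simp [MulAction.toPermHom, key σ hσ x]⟩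
    · rintro _ ⟨g, rfl⟩
      rw [Subgroup.mem_centralizer_iff]
      rintro _ ⟨h, rfl⟩
      ext x
      simp [MulAction.toPermHom, mul_assoc]
  refine ⟨main, fun H hH htrans => le_antisymm (main ▸ hH) ?_⟩
  rintro _ ⟨g, rfl⟩
  obtain ⟨⟨σ, hσ⟩, hs⟩ := htrans.exists_smul_eq (1 : G) g.unop
  have : σ = MulAction.toPermHom Gᵐᵒᵖ G g := Equiv.ext fun x => by
    rw [key σ (hH hσ) x]
    simp [MulAction.toPermHom]
    exact hs
  exact this ▸ hσ

end Cfsg.Agent.S0726
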