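import Cfsg.Statements.S0728
import Cfsg.Agent.Lib.PermSmall.SharpThree

set_option autoImplicit false
open Cfsg

namespace Cfsg.Agent.S0728

/-- In a sharply triply transitive group of even degree at least 6 (degree `q + 1`, `q` odd), a two-point stabiliser has at most one subgroup of order 3. -/
theorem result {α : Type*} [Fintype α] [DecidableEq α] (heven : Even (Fintype.card α)) (h6 : 6 ≤ Fintype.card α) (G : Subgroup (Equiv.Perm α)) (h3 : MulAction.IsMultiplyPretransitive G α 3) (hsharp : ∀ x : Fin 3 ↪ α, MulAction.stabilizer G x = ⊥) {a b : α} (hab : a ≠ b) (A B : Subgroup G) (hA : A ≤ MulAction.stabilizer G a ⊓ MulAction.stabilizer G b) (hB : B ≤ MulAction.stabilizer G a ⊓ MulAction.stabilizer G b) (hA3 : Nat.card A = 3) (hB3 : Nat.card B = 3) : A = B := by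
  classical
  obtain ⟨S⟩ := CfsgLib.PermSmall.SharpThree.exists_setup (G := G) h3
    (CfsgLib.PermSmall.Kernel.three_of_stabilizer_embedding hsharp) heven (by omega) hab
  obtain ⟨c, hca, hcb⟩ : ∃ c, c ≠ a ∧ c ≠ b := by
    by_contra hall
    simp only [not_exists, not_and, not_not] at hall
    have : (Finset.univ : Finset α) ⊆ {a, b} := fun x _ => by
      by_cases hx : x = a
      · simp [hx]
      · simp [hall x hx]
    have := Finset.card_le_card this
    rw [Finset.card_univ, Finset.card_pair hab] at this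
    omega
  obtain ⟨s, hsa, hsb, hsc⟩ := S.swap c hca hcb
  set H := CfsgLib.PermSmall.Zassenhaus.pairStab G a b with hH
  -- elements of order three commute
  have hcomm : ∀ x ∈ H, ∀ y ∈ H, x ^ 3 = 1 → y ^ 3 = 1 → x ≠ 1 → y ≠ 1 → x * y = y * x := by
    intro x hx y hy hx3 hy3 hx1 hy1
    have hsx := S.inverts_of_pow_three hca hcb hsa hsb hsc hx hx3 hx1
    have hsy := S.inverts_of_pow_three hca hcb hsa hsb hsc hy hy3 hy1
    have hd1 : (x : G) • c ≠ a := fun e => hca (smul_left_cancel x (e.trans hx.1.symm))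
    have hd2 : (x : G) • c ≠ b := fun e => hcb (smul_left_cancel x (e.trans hx.2.symm))
    have hxi : x⁻¹ ∈ H := inv_mem hx
    have hsy' := S.inverts_of_pow_three hd1 hd2 (s := x * s * x⁻¹)
      (by rw [mul_smul, mul_smul, hxi.1, hsa, hx.2])
      (by rw [mul_smul, mul_smul, hxi.2, hsb, hx.1])
      (by rw [mul_smul, mul_smul, inv_smul_smul, hsc]) hy hy3 hy1
    -- `x * x` centralises `y`
    have hxx : x * s * x⁻¹ = x * x * s := by
      calc x * s * x⁻¹ = x * (s * x⁻¹ * s⁻¹) * s := by group
        _ = x * (s * x * s⁻¹)⁻¹ * s := by group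
        _ = x * x * s := by rw [hsx, inv_inv]
    rw [hxx] at hsy'
    have h2 : (x * x) * y⁻¹ * (x * x)⁻¹ = y⁻¹ := by
      calc (x * x) * y⁻¹ * (x * x)⁻¹ = x * x * (s * y * s⁻¹) * (x * x)⁻¹ := by rw [hsy]
        _ = (x * x * s) * y * (x * x * s)⁻¹ := by group
        _ = y⁻¹ := hsy'
    have h3' : Commute (x * x) y :=
      (show Commute (x * x) y⁻¹ from mul_inv_eq_iff_eq_mul.mp h2).inv_right |> fun h => by simpa using h
    have hxsq : x = (x * x) * (x * x) := by
      calc x = x * x ^ 3 := by rw [hx3, mul_one]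
        _ = (x * x) * (x * x) := by rw [pow_succ, pow_two]; group
    rw [hxsq]
    exact (h3'.mul_left h3').eq
  haveI := Fact.mk Nat.prime_three
  obtain ⟨x, hx⟩ := exists_prime_orderOf_dvd_card' (G := A) 3 (dvd_of_eq hA3.symm)
  obtain ⟨y, hy⟩ := exists_prime_orderOf_dvd_card' (G := B) 3 (dvd_of_eq hB3.symm)
  have hAx : A = Subgroup.zpowers (x : G) := (Subgroup.eq_of_le_of_card_ge
    (Subgroup.zpowers_le.mpr x.2) (by rw [Nat.card_zpowers, Subgroup.orderOf_coe, hx, hA3])).symm
  have hBy : B = Subgroup.zpowers (y : G) := (Subgroup.eq_of_le_of_card_ge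
    (Subgroup.zpowers_le.mpr y.2) (by rw [Nat.card_zpowers, Subgroup.orderOf_coe, hy, hB3])).symm
  have hxH : (x : G) ∈ H := hA x.2
  have hyH : (y : G) ∈ H := hB y.2
  have hx3 : (x : G) ^ 3 = 1 := by rw [← hx, ← Subgroup.orderOf_coe, pow_orderOf_eq_one]
  have hy3 : (y : G) ^ 3 = 1 := by rw [← hy, ← Subgroup.orderOf_coe, pow_orderOf_eq_one]
  have hx1 : (x : G) ≠ 1 := fun e => by
    rw [Subtype.ext (a1 := x) (a2 := 1) e, orderOf_one] at hx; omega
  have hy1 : (y : G) ≠ 1 := fun e => by
    rw [Subtype.ext (a1 := y) (a2 := 1) e, orderOf_one] at hy; omega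
  have hxy := hcomm _ hxH _ hyH hx3 hy3 hx1 hy1
  by_contra hne
  have hnot : ∀ i : ℕ, (x : G) ^ i ≠ y := by
    intro i hi
    apply hne
    rw [hAx, hBy]
    symm
    refine Subgroup.eq_of_le_of_card_ge (Subgroup.zpowers_le.mpr (hi ▸ Subgroup.npow_mem_zpowers _ i)) ?_
    rw [Nat.card_zpowers, Nat.card_zpowers, Subgroup.orderOf_coe, Subgroup.orderOf_coe, hx, hy]
  set p : G := (x : G) * y with hp
  set r : G := (x : G) * (y * y) with hr
  have hp3 : p ^ 3 = 1 := by rw [hp, (show Commute (x : G) y from hxy).mul_pow, hx3, hy3, mul_one]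
  have hr3 : r ^ 3 = 1 := by
    rw [hr, (show Commute (x : G) (y * y) from (show Commute (x : G) y from hxy).mul_right hxy).mul_pow,
      hx3, (show Commute (y : G) y from rfl).mul_pow, hy3, mul_one, mul_one]
  have hp1 : p ≠ 1 := fun e => hnot 2 (by
    rw [pow_two]
    calc (x : G) * x = x * x * (x * y) := by rw [← hp, e, mul_one]
      _ = (x : G) ^ 3 * y := by rw [pow_succ, pow_two]; group
      _ = y := by rw [hx3, one_mul])
  have hr1 : r ≠ 1 := fun e => hnot 1 (by
    rw [pow_one]
    calc (x : G) = x * (y : G) ^ 3 := by rw [hy3, mul_one]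
      _ = r * y := by rw [hr, pow_succ, pow_two]; group
      _ = y := by rw [e, one_mul])
  letI : CommGroup S.F := { (inferInstance : Group S.F) with mul_comm := S.F_comm.is_comm.comm }
  let act : G → S.F → S.F := fun g u =>
    if hg : g ∈ H then ⟨g * u * g⁻¹, S.norm hg u.2⟩ else u
  have hsum : ∀ g ∈ H, g ^ 3 = 1 → g ≠ 1 → ∀ u : S.F, u * act g u * act (g * g) u = 1 := by
    intro g hg hg3 hg1 u
    set w := u * act g u * act (g * g) u with hw
    have hfix : g * (w : G) * g⁻¹ = w := by
      have hg3' : g * g * g = 1 := by rw [← hg3, pow_succ, pow_two]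
      have e : (⟨g * (w : G) * g⁻¹, S.norm hg w.2⟩ : S.F) = act g u * act (g * g) u * u := by
        apply Subtype.ext
        simp only [hw, act, dif_pos hg, dif_pos (mul_mem hg hg), Subgroup.coe_mul]
        calc _ = (g * u * g⁻¹) * (g * g * u * (g * g)⁻¹) * ((g * g * g) * u * (g * g * g)⁻¹) := by group
          _ = _ := by rw [hg3']; simp
      have e2 : act g u * act (g * g) u * u = w := by rw [hw, mul_comm _ u, ← mul_assoc]
      exact congrArg Subtype.val (e.trans e2)
    by_contra hw1
    have hw1' : (w : G) ≠ 1 := fun e => hw1 (Subtype.ext e)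
    obtain ⟨h1, h2⟩ := CfsgLib.PermSmall.Kernel.regular_ne S.ne S.F_le S.regular w.2 hw1'
    refine hg1 (S.three g a b ((w : G) • b) S.ne (Ne.symm h2) (Ne.symm h1) hg.1 hg.2 ?_)
    rw [S.smul_point hg, hfix]
  have hactmul : ∀ g ∈ H, ∀ k ∈ H, ∀ u, act g (act k u) = act (g * k) u := by
    intro g hg k hk u
    apply Subtype.ext
    simp only [act, dif_pos hg, dif_pos hk, dif_pos (mul_mem hg hk)]
    group
  have hpH : p ∈ H := mul_mem hxH hyH
  have hrH : r ∈ H := mul_mem hxH (mul_mem hyH hyH)
  have hcube : ∀ u : S.F, u ^ 3 = 1 := by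
    intro u
    have e1 := hsum _ hxH hx3 hx1 u
    have e2 := hsum _ hyH hy3 hy1 u
    have e3 := hsum _ hpH hp3 hp1 u
    have e4 := hsum _ hrH hr3 hr1 u
    have e5 := hsum _ hxH hx3 hx1 (act y u)
    have e6 := hsum _ hxH hx3 hx1 (act ((y : G) * y) u)
    have hyy := mul_mem hyH hyH
    have hxx := mul_mem hxH hxH
    rw [hactmul _ hxH _ hyH, hactmul _ hxx _ hyH] at e5
    rw [hactmul _ hxH _ hyy, hactmul _ hxx _ hyy] at e6
    rw [show (x : G) * y = p from rfl] at e5
    rw [show (x : G) * ((y : G) * y) = r from rfl] at e6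
    rw [show p * p = (x : G) * x * (y * y) by
      rw [hp]
      calc (x : G) * y * (x * y) = x * ((y : G) * x) * y := by group
        _ = x * (x * y) * y := by rw [← hxy]
        _ = _ := by group] at e3
    rw [show r * r = (x : G) * x * y by
      rw [hr, (show Commute (x : G) (y * y) from (show Commute (x : G) y from hxy).mul_right hxy).symm.mul_mul_mul_comm]
      have hy4 : (y : G) * y * (y * y) = y := by
        calc (y : G) * y * (y * y) = y * (y : G) ^ 3 := by rw [pow_succ, pow_two]; group
          _ = y := by rw [hy3, mul_one]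
      rw [hy4]] at e4
    apply Additive.ofMul.injective
    have f1 := congrArg Additive.ofMul e1
    have f2 := congrArg Additive.ofMul e2
    have f3 := congrArg Additive.ofMul e3
    have f4 := congrArg Additive.ofMul e4
    have f5 := congrArg Additive.ofMul e5
    have f6 := congrArg Additive.ofMul e6
    simp only [ofMul_mul, ofMul_one, ofMul_pow] at f1 f2 f3 f4 f5 f6 ⊢
    have key : (3 : ℕ) • Additive.ofMul u
        = (Additive.ofMul u + Additive.ofMul (act x u) + Additive.ofMul (act (x * x) u))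
        + (Additive.ofMul u + Additive.ofMul (act y u) + Additive.ofMul (act (y * y) u))
        + (Additive.ofMul u + Additive.ofMul (act p u) + Additive.ofMul (act (x * x * (y * y)) u))
        + (Additive.ofMul u + Additive.ofMul (act r u) + Additive.ofMul (act (x * x * y) u))
        - (Additive.ofMul u + Additive.ofMul (act x u) + Additive.ofMul (act (x * x) u))
        - (Additive.ofMul (act y u) + Additive.ofMul (act p u) + Additive.ofMul (act (x * x * y) u))
        - (Additive.ofMul (act (y * y) u) + Additive.ofMul (act r u) + Additive.ofMul (act (x * x * (y * y)) u)) := by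
      abel
    rw [key, f1, f2, f3, f4, f5, f6]
    simp
  -- the degree is one more than a power of three, but three divides two less than the degree
  obtain ⟨j, hj⟩ := IsPGroup.iff_card.mp
    (show IsPGroup 3 S.F from fun u => ⟨1, by rw [pow_one]; exact hcube u⟩)
  rw [CfsgLib.PermSmall.Kernel.card_regular hab S.F_le S.regular] at hj
  have h3d : 3 ∣ Fintype.card α - 2 := by
    rw [← S.card, ← hA3]
    exact Subgroup.card_dvd_of_le hA
  rcases Nat.eq_zero_or_pos j with hj0 | hj0
  · rw [hj0, pow_zero] at hj; omega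
  have : 3 ∣ 3 ^ j := dvd_pow_self 3 (by omega)
  omega

end Cfsg.Agent.S0728
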