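import Cfsg.Statements.S0729
import Cfsg.Agent.Lib.PermSmall.SharpIndexTwo
-- import your own Cfsg.Agent.* helpers here

set_option autoImplicit false
open Cfsg

namespace Cfsg.Agent.S0729

/-- In a sharply triply transitive group of even degree at least 6, the two-point stabiliser `H = G_{a,b}` has a normal subgroup of index 2 that is normalised by the element `s` interchanging `a, b` and fixing a third point `c`. -/
theorem result {α : Type*} [Fintype α] [DecidableEq α] (heven : Even (Fintype.card α)) (h6 : 6 ≤ Fintype.card α) (G : Subgroup (Equiv.Perm α)) (h3 : MulAction.IsMultiplyPretransitive G α 3) (hsharp : ∀ x : Fin 3 ↪ α, MulAction.stabilizer G x = ⊥) {a b c : α} (hab : a ≠ b) (hac : a ≠ c) (hbc : b ≠ c) (s : G) (hsa : s • a = b) (hsb : s • b = a) (hsc : s • c = c) : ∃ N : Subgroup G, N ≤ MulAction.stabilizer G a ⊓ MulAction.stabilizer G b ∧ (N.subgroupOf (MulAction.stabilizer G a ⊓ MulAction.stabilizer G b)).Normal ∧ N.relIndex (MulAction.stabilizer G a ⊓ MulAction.stabilizer G b) = 2 ∧ ∀ n ∈ N, s * n *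 s⁻¹ ∈ N := by
  refine CfsgLib.PermSmall.SharpIndexTwo.main heven h6 h3 ?_ hab hac hbc s hsa hsb
  intro g x y z hxy hyz hxz hgx hgy hgz
  let e : Fin 3 ↪ α := ⟨![x, y, z], by
    intro i j h
    fin_cases i <;> fin_cases j <;>
      simp [hxy, hyz, hxz, hxy.symm, hyz.symm, hxz.symm] at h ⊢⟩
  have hmem : g ∈ MulAction.stabilizer G e := by
    refine Function.Embedding.ext fun i => ?_
    fin_cases i
    · exact hgx
    · exact hgy
    · exact hgz
  rw [hsharp e] at hmem
  exact Subgroup.mem_bot.1 hmem

end Cfsg.Agent.S0729
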