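import Cfsg.Statements.S0733
import Mathlib.Algebra.Module.ZMod
import Mathlib.Algebra.Group.Pointwise.Set.Card
import Mathlib.Tactic

set_option autoImplicit false
open Cfsg
open scoped Pointwise

namespace Cfsg.Agent.S0733

/-- A permutation group of affine type — generated by the translations of a finite vector space `V` over `ZMod p` together with a group `G₀` of linear automorphisms — is primitive on `V` if and only if `G₀` is irreducible on `V`. -/
theorem result {p : ℕ} [Fact p.Prime] {V : Type*} [AddCommGroup V] [Module (ZMod p) V] [Finite V] [Nontrivial V] (G₀ : Subgroup (V ≃ₗ[ZMod p] V)) (G : Subgroup (Equiv.Perm V)) (hG : ∀ σ : Equiv.Perm V, σ ∈ G ↔ ∃ g ∈ G₀, ∃ b : V, ∀ x : V, σ x = (g : V ≃ₗ[ZMod p] V) x + b) : MulAction.IsPreprimitive G V ↔ ∀ W : Submodule (ZMod p) V, (∀ g ∈ G₀, ∀ v ∈ W, (g : V ≃ₗ[ZMod p] V) v ∈ W) → W = ⊥ ∨ W = ⊤ := by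
  classical
  have hT : ∀ b : V, Equiv.addRight b ∈ G := fun b =>
    (hG _).mpr ⟨1, one_mem _, b, fun x => rfl⟩
  have hL : ∀ g ∈ G₀, (g : V ≃ₗ[ZMod p] V).toEquiv ∈ G := fun g hg =>
    (hG _).mpr ⟨g, hg, 0, fun x => (add_zero _).symm⟩
  haveI : MulAction.IsPretransitive G V := ⟨fun x y => ⟨⟨_, hT (y - x)⟩, by
    change x + (y - x) = y; abel⟩⟩
  constructor
  · intro hprim W hW
    have hblock : MulAction.IsBlock G (W : Set V) := by
      rw [MulAction.isBlock_iff_smul_eq_of_nonempty]
      rintro ⟨σ, hσ⟩ ⟨z, ⟨x, hx, hxz⟩, hz⟩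
      obtain ⟨g, hg, b, hgb⟩ := (hG σ).mp hσ
      have hbW : b ∈ W := by
        have e : σ x = z := hxz
        rw [hgb] at e
        have := W.sub_mem hz (hW g hg x hx)
        rwa [← e, add_sub_cancel_left] at this
      refine Set.eq_of_subset_of_ncard_le ?_ (le_of_eq ?_) (Set.toFinite _)
      · rintro _ ⟨y, hy, rfl⟩
        change σ y ∈ W
        rw [hgb]
        exact W.add_mem (hW g hg y hy) hbW
      · exact (Set.ncard_smul_set (⟨σ, hσ⟩ : G) (W : Set V)).symm
    rcases hprim.isTrivialBlock_of_isBlock hblock with h | h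
    · left
      rw [Submodule.eq_bot_iff]
      exact fun x hx => h hx W.zero_mem
    · right
      exact Submodule.eq_top_iff'.mpr fun x => (h.symm ▸ Set.mem_univ x : x ∈ (W : Set V))
  · intro hirr
    refine MulAction.IsPreprimitive.of_isTrivialBlock_base (0 : V) fun {B} h0 hB => ?_
    have hadd : ∀ x ∈ B, ∀ b ∈ B, x + b ∈ B := fun x hx b hb => by
      have he : (⟨_, hT b⟩ : G) • B = B :=
        MulAction.IsBlock.smul_eq_of_nonempty hB ⟨b, ⟨0, h0, zero_add b⟩, hb⟩
      exact he ▸ ⟨x, hx, rfl⟩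
    have hneg : ∀ x ∈ B, -x ∈ B := fun x hx => by
      have hk : ∀ k : ℕ, k • x ∈ B := fun k => by
        induction k with
        | zero => simpa using h0
        | succ k ih => rw [succ_nsmul]; exact hadd _ ih _ hx
      have := hk (addOrderOf x - 1)
      have hpos : 0 < addOrderOf x := addOrderOf_pos x
      convert this using 1
      rw [neg_eq_iff_add_eq_zero, add_comm, ← succ_nsmul, Nat.sub_add_cancel hpos,
        addOrderOf_nsmul_eq_zero]
    let A : AddSubgroup V :=
      { carrier := B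
        add_mem' := fun {x y} hx hy => hadd x hx y hy
        zero_mem' := h0
        neg_mem' := fun {x} hx => hneg x hx }
    have hinv : ∀ g ∈ G₀, ∀ v ∈ B, (g : V ≃ₗ[ZMod p] V) v ∈ B := fun g hg v hv => by
      have he : (⟨_, hL g hg⟩ : G) • B = B :=
        MulAction.IsBlock.smul_eq_of_nonempty hB ⟨0, ⟨0, h0, map_zero g⟩, h0⟩
      exact he ▸ ⟨v, hv, rfl⟩
    rcases hirr (AddSubgroup.toZModSubmodule p A) hinv with h | h
    · left
      intro x hx y hy
      have e : ∀ z ∈ B, z = 0 := fun z hz => by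
        have : z ∈ AddSubgroup.toZModSubmodule p A := hz
        rwa [h, Submodule.mem_bot] at this
      rw [e x hx, e y hy]
    · right
      refine Set.eq_univ_of_forall fun z => ?_
      have : z ∈ AddSubgroup.toZModSubmodule p A := by rw [h]; trivial
      exact this

end Cfsg.Agent.S0733
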