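import Cfsg.Statements.S0734
-- import your own Cfsg.Agent.* helpers here

set_option autoImplicit false
open Cfsg
open scoped Pointwise

namespace Cfsg.Agent.S0734

/-- Higman's criterion for primitivity: a transitive action on a finite set is primitive if and only if every non-trivial orbital graph (edges = images of a fixed pair of distinct points) is connected. -/
theorem result {G : Type*} [Group G] {Ω : Type*} [Finite Ω] [MulAction G Ω] [MulAction.IsPretransitive G Ω] [Nontrivial Ω] : MulAction.IsPreprimitive G Ω ↔ ∀ a b : Ω, a ≠ b → (SimpleGraph.fromRel fun x y : Ω => ∃ g : G, g • a = x ∧ g • b = y).Connected := by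
  classical
  have hstep : ∀ (a b : Ω) (g : G) (x y : Ω),
      (SimpleGraph.fromRel fun x y : Ω => ∃ h : G, h • a = x ∧ h • b = y).Adj x y →
      (SimpleGraph.fromRel fun x y : Ω => ∃ h : G, h • a = x ∧ h • b = y).Adj (g • x) (g • y) := by
    intro a b g x y hxy
    simp only [SimpleGraph.fromRel_adj, ne_eq] at hxy ⊢
    refine ⟨fun e => hxy.1 (smul_left_cancel g e), ?_⟩
    rcases hxy.2 with ⟨h, h1, h2⟩ | ⟨h, h1, h2⟩
    · exact Or.inl ⟨g * h, by rw [mul_smul, h1], by rw [mul_smul, h2]⟩
    · exact Or.inr ⟨g * h, by rw [mul_smul, h1], by rw [mul_smul, h2]⟩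
  constructor
  · intro hprim a b hab
    set Γ := SimpleGraph.fromRel fun x y : Ω => ∃ g : G, g • a = x ∧ g • b = y with hΓ
    have hmap : ∀ (g : G) (x y : Ω), Γ.Reachable x y → Γ.Reachable (g • x) (g • y) := by
      intro g x y hxy
      rw [SimpleGraph.reachable_iff_reflTransGen] at hxy ⊢
      exact hxy.lift _ fun _ _ h => hstep a b g _ _ h
    set B : Set Ω := {x | Γ.Reachable a x} with hB
    have hblock : MulAction.IsBlock G B := by
      rw [MulAction.isBlock_iff_smul_eq_of_nonempty]
      intro g hne
      obtain ⟨z, hz1, hz2⟩ := hne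
      obtain ⟨x, hx, rfl⟩ := hz1
      have hga : Γ.Reachable a (g • a) := hz2.trans (hmap g a x hx).symm
      ext y
      rw [Set.mem_smul_set_iff_inv_smul_mem]
      constructor
      · intro hy
        have := hmap g _ _ hy
        rw [smul_inv_smul] at this
        exact hga.trans this
      · intro hy
        have := hmap g⁻¹ _ _ (hga.symm.trans hy)
        rwa [inv_smul_smul] at this
    have hb : b ∈ B := SimpleGraph.Adj.reachable (by
      rw [hΓ, SimpleGraph.fromRel_adj]
      exact ⟨hab, Or.inl ⟨1, one_smul _ _, one_smul _ _⟩⟩)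
    rcases hprim.isTrivialBlock_of_isBlock hblock with h | h
    · exact absurd (h (SimpleGraph.Reachable.refl a : a ∈ B) hb) hab
    · rw [SimpleGraph.connected_iff_exists_forall_reachable]
      exact ⟨a, fun x => (h.symm ▸ Set.mem_univ x : x ∈ B)⟩
  · intro hconn
    refine ⟨fun {B} hB => ?_⟩
    rcases Set.subsingleton_or_nontrivial B with h | h
    · exact Or.inl h
    obtain ⟨a, ha, b, hb, hab⟩ := h
    right
    refine Set.eq_univ_of_forall fun x => ?_
    have hr := (hconn a b hab).preconnected a x
    rw [SimpleGraph.reachable_iff_reflTransGen] at hr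
    induction hr with
    | refl => exact ha
    | tail _ hadj ih =>
      rw [SimpleGraph.fromRel_adj] at hadj
      rcases hadj.2 with ⟨g, h1, h2⟩ | ⟨g, h1, h2⟩
      · have hg : g • B = B := MulAction.IsBlock.smul_eq_of_nonempty hB ⟨_, ⟨a, ha, h1⟩, ih⟩
        exact hg ▸ ⟨b, hb, h2⟩
      · have hg : g • B = B := MulAction.IsBlock.smul_eq_of_nonempty hB ⟨_, ⟨b, hb, h2⟩, ih⟩
        exact hg ▸ ⟨a, ha, h1⟩

end Cfsg.Agent.S0734
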