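import Cfsg.Statements.S0736
import Mathlib.Data.Nat.Choose.Lucas
import Mathlib.Data.Nat.Factorization.Basic
import Mathlib.Combinatorics.Enumerative.DoubleCounting
import Mathlib.Algebra.Group.Pointwise.Finset.Scalar
import Mathlib.Tactic

set_option autoImplicit false
open Cfsg
open scoped Pointwise

namespace Cfsg.Agent.S0736

/-- A `k`-homogeneous permutation group of degree `n`, `k ≥ 2`, with `k + q - 1 ≤ n` for every prime power `q` dividing `k`, is `(k-1)`-homogeneous. -/
theorem result {α : Type*} [Fintype α] [DecidableEq α] (G : Subgroup (Equiv.Perm α)) {k : ℕ} (hk : 2 ≤ k) (hG : MulAction.IsPretransitive G (Set.powersetCard α k)) (hq : ∀ q : ℕ, IsPrimePow q → q ∣ k → k + q - 1 ≤ Fintype.card α) : MulAction.IsPretransitive G (Set.powersetCard α (k - 1)) := by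
  classical
  -- `k` plus each prime power divisor minus one is at most `n`
  have hkn : k ≤ Fintype.card α := by
    have hk1 : k ≠ 1 := by omega
    have := hq k.minFac (Nat.minFac_prime hk1).isPrimePow (Nat.minFac_dvd k)
    have h2 := (Nat.minFac_prime hk1).two_le
    omega
  refine ⟨fun T0 T1 => ?_⟩
  set O : Finset (Finset α) := (Finset.univ : Finset G).image (fun g => g • (T0 : Finset α)) with hO
  have hOinv : ∀ (g : G) (T : Finset α), T ∈ O → g • T ∈ O := by
    intro g T hT
    obtain ⟨g', -, rfl⟩ := Finset.mem_image.mp hT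
    exact Finset.mem_image.mpr ⟨g * g', Finset.mem_univ _, mul_smul g g' _⟩
  have hOcard : ∀ T ∈ O, T.card = k - 1 := by
    intro T hT
    obtain ⟨g', -, rfl⟩ := Finset.mem_image.mp hT
    rw [Finset.card_smul_finset]
    exact T0.2
  let N : Finset α → ℕ := fun M => (O.filter (· ⊆ M)).card
  obtain ⟨K0, hK0⟩ : ∃ K0 : Finset α, (T0 : Finset α) ⊆ K0 ∧ K0.card = k := by
    obtain ⟨K0, h1, -, h2⟩ := Finset.exists_subsuperset_card_eq (Finset.subset_univ (T0 : Finset α))
      (n := k) (by rw [T0.2]; omega) (by rw [Finset.card_univ]; exact hkn)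
    exact ⟨K0, h1, h2⟩
  set c := N K0 with hc
  have hle : ∀ (g : G) (K : Finset α), N K ≤ N (g • K) := by
    intro g K
    refine Finset.card_le_card_of_injOn (fun T => g • T) ?_ (fun T _ T' _ e => smul_left_cancel g e)
    intro T hT
    simp only [Finset.mem_coe, Finset.mem_filter] at hT ⊢
    exact ⟨hOinv g T hT.1, Finset.smul_finset_subset_smul_finset hT.2⟩
  have hconst : ∀ K : Finset α, K.card = k → N K = c := by
    intro K hK
    obtain ⟨g, hg⟩ := hG.exists_smul_eq ⟨K0, hK0.2⟩ ⟨K, hK⟩
    have hg' : g • K0 = K := congrArg Subtype.val hg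
    have h1 := hle g K0
    have h2 := hle g⁻¹ K
    rw [hg'] at h1
    rw [← hg', inv_smul_smul, hg'] at h2
    omega
  -- double counting inside an arbitrary set
  have hcount : ∀ (q : ℕ) (M : Finset α), 1 ≤ q → M.card = k + q - 1 →
      N M * q = (k + q - 1).choose k * c := by
    intro q M hq1 hM
    have h := Finset.sum_card_bipartiteAbove_eq_sum_card_bipartiteBelow
      (fun (T K : Finset α) => T ⊆ K) (s := O.filter (· ⊆ M)) (t := M.powersetCard k)
    have hL : ∀ T ∈ O.filter (· ⊆ M),
        ((M.powersetCard k).bipartiteAbove (fun (T K : Finset α) => T ⊆ K) T).card = q := by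
      intro T hT
      rw [Finset.mem_filter] at hT
      have hTc := hOcard T hT.1
      have : (M \ T).card = q := by rw [Finset.card_sdiff_of_subset hT.2, hM, hTc]; omega
      rw [← this]
      symm
      refine Finset.card_bij (fun a _ => insert a T) ?_ ?_ ?_
      · intro a ha
        rw [Finset.mem_sdiff] at ha
        simp only [Finset.mem_bipartiteAbove, Finset.mem_powersetCard]
        refine ⟨⟨Finset.insert_subset ha.1 hT.2, ?_⟩, Finset.subset_insert _ _⟩
        rw [Finset.card_insert_of_notMem ha.2, hTc]; omega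
      · intro a ha b hb e
        rw [Finset.mem_sdiff] at ha hb
        have : a ∈ insert b T := e ▸ Finset.mem_insert_self a T
        rcases Finset.mem_insert.mp this with h | h
        · exact h
        · exact absurd h ha.2
      · intro K hK
        simp only [Finset.mem_bipartiteAbove, Finset.mem_powersetCard] at hK
        obtain ⟨a, ha⟩ := Finset.card_eq_one.mp
          (show (K \ T).card = 1 by rw [Finset.card_sdiff_of_subset hK.2, hK.1.2, hTc]; omega)
        have haK : a ∈ K \ T := ha ▸ Finset.mem_singleton_self a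
        rw [Finset.mem_sdiff] at haK
        refine ⟨a, Finset.mem_sdiff.mpr ⟨hK.1.1 haK.1, haK.2⟩, ?_⟩
        ext z
        simp only [Finset.mem_insert]
        constructor
        · rintro (rfl | hz)
          · exact haK.1
          · exact hK.2 hz
        · intro hz
          by_cases hzT : z ∈ T
          · exact Or.inr hzT
          · left
            have : z ∈ K \ T := Finset.mem_sdiff.mpr ⟨hz, hzT⟩
            rw [ha] at this
            exact Finset.mem_singleton.mp this
    have hR : ∀ K ∈ M.powersetCard k,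
        ((O.filter (· ⊆ M)).bipartiteBelow (fun (T K : Finset α) => T ⊆ K) K).card = c := by
      intro K hK
      rw [Finset.mem_powersetCard] at hK
      rw [← hconst K hK.2]
      congr 1
      ext T
      simp only [Finset.mem_bipartiteBelow, Finset.mem_filter]
      exact ⟨fun h => ⟨h.1.1, h.2⟩, fun h => ⟨⟨h.1, h.2.trans hK.1⟩, h.2⟩⟩
    rw [Finset.sum_congr rfl hL, Finset.sum_congr rfl hR, Finset.sum_const, Finset.sum_const,
      Finset.card_powersetCard, hM] at h
    simpa using h
  have hdvd : k ∣ c := by
    have hk0 : k ≠ 0 := by omega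
    rcases Nat.eq_zero_or_pos c with hc0 | hc0
    · rw [hc0]; exact dvd_zero _
    rw [← Nat.factorization_le_iff_dvd hk0 (by omega)]
    intro p
    rcases Nat.eq_zero_or_pos (k.factorization p) with h0 | h0
    · rw [h0]; exact Nat.zero_le _
    have hp : p.Prime := Nat.prime_of_mem_primeFactors
      (Nat.support_factorization k ▸ Finsupp.mem_support_iff.mpr (by omega))
    set a := k.factorization p with ha
    have hqk : p ^ a ∣ k := Nat.ordProj_dvd k p
    have hb : k + p ^ a - 1 ≤ Fintype.card α :=
      hq (p ^ a) (hp.isPrimePow.pow (by omega)) hqk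
    have hqpos : 1 ≤ p ^ a := Nat.one_le_pow _ _ hp.pos
    obtain ⟨M, -, hM⟩ := Finset.exists_subset_card_eq (s := (Finset.univ : Finset α))
      (n := k + p ^ a - 1) (by rw [Finset.card_univ]; exact hb)
    have h1 := hcount (p ^ a) M hqpos hM
    have h2 : (k + p ^ a - 1).choose k * k = (k + p ^ a - 1).choose (k - 1) * p ^ a := by
      have := Nat.choose_succ_right_eq (k + p ^ a - 1) (k - 1)
      rw [show k - 1 + 1 = k by omega, show k + p ^ a - 1 - (k - 1) = p ^ a by omega] at this
      exact this
    have h3 : ¬ p ∣ (k + p ^ a - 1).choose (k - 1) := by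
      haveI := Fact.mk hp
      rw [Nat.choose_symm_of_eq_add (show k + p ^ a - 1 = (k - 1) + p ^ a by omega)]
      obtain ⟨u, hu⟩ := hqk
      have hpu : ¬ p ∣ u := by
        have := Nat.not_dvd_ordCompl hp hk0
        rw [← ha] at this
        rwa [hu, Nat.mul_div_cancel_left _ (by omega)] at this
      have hu1 : 1 ≤ u := by
        rcases Nat.eq_zero_or_pos u with h | h
        · subst h; omega
        · exact h
      have hmd : (k + p ^ a - 1) % p ^ a = p ^ a - 1 ∧ (k + p ^ a - 1) / p ^ a = u := by
        have e : k + p ^ a - 1 = (p ^ a - 1) + p ^ a * u := by omega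
        rw [e, Nat.add_mul_mod_self_left, Nat.add_mul_div_left _ _ (by omega),
          Nat.mod_eq_of_lt (by omega), Nat.div_eq_of_lt (by omega)]
        exact ⟨rfl, zero_add u⟩
      -- Lucas
      have hluc : (k + p ^ a - 1).choose (p ^ a) ≡ u [MOD p] := by
        have := Choose.choose_modEq_choose_mul_prod_range_choose (p := p) (n := k + p ^ a - 1)
          (k := p ^ a) a
        rw [hmd.2, Nat.div_self (by omega), Nat.choose_one_right] at this
        have hone : ∀ i ∈ Finset.range a, (((k + p ^ a - 1) / p ^ i % p).choose (p ^ a / p ^ i % p)) = 1 := by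
          intro i hi
          rw [Finset.mem_range] at hi
          have : p ^ a / p ^ i % p = 0 := by
            rw [Nat.pow_div hi.le hp.pos]
            exact Nat.mod_eq_zero_of_dvd (dvd_pow_self p (by omega))
          rw [this, Nat.choose_zero_right]
        rw [Finset.prod_eq_one hone, Nat.cast_one, mul_one] at this
        exact_mod_cast Int.natCast_modEq_iff.mp (by exact_mod_cast this)
      intro hd
      exact hpu (Nat.modEq_zero_iff_dvd.mp (hluc.symm.trans (Nat.modEq_zero_iff_dvd.mpr hd)))
    have h4 : N M * k = (k + p ^ a - 1).choose (k - 1) * c := by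
      have : N M * k * p ^ a = (k + p ^ a - 1).choose (k - 1) * c * p ^ a := by
        calc N M * k * p ^ a = (N M * p ^ a) * k := by ring
          _ = ((k + p ^ a - 1).choose k * k) * c := by rw [h1]; ring
          _ = _ := by rw [h2]; ring
      exact Nat.eq_of_mul_eq_mul_right (by omega) this
    have h5 : p ^ a ∣ (k + p ^ a - 1).choose (k - 1) * c :=
      h4 ▸ dvd_mul_of_dvd_right hqk _
    have h6 : p ^ a ∣ c :=
      (Nat.Coprime.pow_left a ((Nat.Prime.coprime_iff_not_dvd hp).mpr h3)).dvd_of_dvd_mul_left h5
    exact (hp.pow_dvd_iff_le_factorization (by omega)).mp h6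
  have hcpos : 0 < c := Finset.card_pos.mpr ⟨T0, Finset.mem_filter.mpr
    ⟨Finset.mem_image.mpr ⟨1, Finset.mem_univ _, one_smul _ _⟩, hK0.1⟩⟩
  obtain ⟨K, hK1, -, hK2⟩ := Finset.exists_subsuperset_card_eq (Finset.subset_univ (T1 : Finset α))
    (n := k) (by rw [T1.2]; omega) (by rw [Finset.card_univ]; exact hkn)
  have hcK : k ≤ (O.filter (· ⊆ K)).card := by
    change k ≤ N K
    rw [hconst K hK2]
    exact Nat.le_of_dvd hcpos hdvd
  have heq : O.filter (· ⊆ K) = K.powersetCard (k - 1) := by
    refine Finset.eq_of_subset_of_card_le ?_ ?_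
    · intro T hT
      rw [Finset.mem_filter] at hT
      exact Finset.mem_powersetCard.mpr ⟨hT.2, hOcard T hT.1⟩
    · rw [Finset.card_powersetCard, hK2, Nat.choose_symm (by omega) |>.symm,
        show k - (k - 1) = 1 by omega, Nat.choose_one_right]
      exact hcK
  have hmem : (T1 : Finset α) ∈ O := by
    have : (T1 : Finset α) ∈ O.filter (· ⊆ K) := heq ▸ Finset.mem_powersetCard.mpr ⟨hK1, T1.2⟩
    exact (Finset.mem_filter.mp this).1
  obtain ⟨g, -, hg⟩ := Finset.mem_image.mp hmem
  exact ⟨g, Subtype.ext hg⟩

end Cfsg.Agent.S0736
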