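import Cfsg.Statements.S0740
import Cfsg.Agent.Lib.PermSmall.Zassenhaus

set_option autoImplicit false
open Cfsg

namespace Cfsg.Agent.S0740

/-- In a finite Zassenhaus group any two points `a ≠ b` are swapped by an involution; every such involution has exactly one fixed point when the degree is odd and 0 or 2 fixed points when the degree is even; and if the two-point stabiliser has even order, some such involution has exactly 2 fixed points. -/
theorem result {G Ω : Type*} [Group G] [Finite G] [MulAction G Ω] [Fintype Ω] (hZ : Cfsg.IsZassenhausGroup G Ω) {a b : Ω} (hab : a ≠ b) : (∃ s : G, orderOf s = 2 ∧ s • a = b ∧ s • b = a) ∧ (∀ s : G, orderOf s = 2 → s • a = b → s • b = a → (Odd (Fintype.card Ω) → Nat.card (MulAction.fixedBy Ω s) = 1) ∧ (Even (Fintype.card Ω) → Nat.card (MulAction.fixedBy Ω s) = 0 ∨ Nat.card (MulAction.fixedBy Ω s) = 2)) ∧ (Even (Fintype.card Ω) → Even (Nat.card ↥(MulAction.stabilizer G a ⊓ MulAction.stabilizer G b)) → ∃ s : G, orderOf s = 2 ∧ s • a = b ∧ s • b = a ∧ Nat.card (MulAction.fixedBy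 Ω s) = 2) := by
  refine ⟨CfsgLib.PermSmall.Zassenhaus.exists_swapping hZ hab, fun s hs _ _ => ?_, fun _ he =>
    CfsgLib.PermSmall.Zassenhaus.exists_swapping_of_even hZ hab he⟩
  have h2 := CfsgLib.PermSmall.Zassenhaus.fixedBy_le_two (Ω := Ω) hZ
    (CfsgLib.PermSmall.Zassenhaus.ne_one_of_orderOf hs)
  have hmod := CfsgLib.PermSmall.Zassenhaus.fixedBy_modEq (Ω := Ω)
    (CfsgLib.PermSmall.Zassenhaus.sq_eq_one_of_orderOf hs)
  unfold Nat.ModEq at hmod
  constructor
  · intro ho
    rw [Nat.odd_iff] at ho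
    omega
  · intro he
    rw [Nat.even_iff] at he
    omega

end Cfsg.Agent.S0740
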