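import Cfsg.Statements.S0745
import Cfsg.Agent.Lib.LivWag.SmallDegree
import Cfsg.Agent.Lib.LivWag.HighDegree

set_option autoImplicit false
open Cfsg

namespace Cfsg.Agent.S0745

/-- Let `G` have degree `n` and `3 ≤ k ≤ n`; suppose `G` is `(k-2)`-transitive but not `(k-1)`-transitive, and is `(k-1)`-homogeneous and `k`-homogeneous. Then `k = n` and `G` is the alternating group, or `n = 5, k = 4, |G| = 20`, or `n = 6, k = 5, |G| = 120`, or `n = 9, k = 5, |G| ∈ {504, 1512}`. -/
theorem result {α : Type*} [Fintype α] [DecidableEq α] (G : Subgroup (Equiv.Perm α)) {k : ℕ} (hk : 3 ≤ k) (hkn : k ≤ Fintype.card α) (ht : MulAction.IsMultiplyPretransitive G α (k - 2)) (hnt : ¬ MulAction.IsMultiplyPretransitive G α (k - 1)) (hh1 : MulAction.IsPretransitive G (Set.powersetCard α (k - 1))) (hh : MulAction.IsPretransitive G (Set.powersetCard α k)) : (k = Fintype.card α ∧ G = alternatingGroup α) ∨ (Fintype.card α = 5 ∧ k = 4 ∧ Nat.card G = 20) ∨ (Fintype.card α = 6 ∧ k = 5 ∧ Nat.card G =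 120) ∨ (Fintype.card α = 9 ∧ k = 5 ∧ (Nat.card G = 504 ∨ Nat.card G = 1512)) := by
  classical
  rcases hkn.eq_or_lt with hkn' | hkn'
  · left
    refine ⟨hkn', ?_⟩
    have hA : alternatingGroup α ≤ G := by
      refine IsMultiplyPretransitive.alternatingGroup_le α G ?_
      rw [Nat.card_eq_fintype_card, ← hkn']
      exact ht
    refine (le_antisymm hA fun g hg => ?_).symm
    by_contra hgA
    rw [Equiv.Perm.mem_alternatingGroup] at hgA
    have hg1 := (Int.units_eq_one_or _).resolve_left hgA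
    apply hnt
    have htop : G = ⊤ := by
      rw [eq_top_iff]
      intro π _
      rcases Int.units_eq_one_or (Equiv.Perm.sign π) with h | h
      · exact hA (Equiv.Perm.mem_alternatingGroup.mpr h)
      · have : π * g ∈ G := hA (Equiv.Perm.mem_alternatingGroup.mpr (by rw [map_mul, h, hg1]; rfl))
        simpa using G.mul_mem this (G.inv_mem hg)
    subst htop
    refine ⟨fun x y => ?_⟩
    obtain ⟨π, hπ⟩ := (Equiv.Perm.isMultiplyPretransitive α (k - 1)).exists_smul_eq x y
    exact ⟨⟨π, Subgroup.mem_top π⟩, hπ⟩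
  · have hk2 : k - 1 - 1 = k - 2 := by omega
    have hh' : MulAction.IsPretransitive G (Set.powersetCard α (k - 1 + 1)) := by
      rwa [show k - 1 + 1 = k by omega]
    rcases Nat.lt_or_ge (k - 1) 5 with h5 | h5
    · rcases CfsgLib.LivWag.small_cases (G := G) (j := k - 1) (by omega) (by omega) (by omega)
        (hk2 ▸ ht) hnt hh1 hh' with ⟨h1, h2, h3⟩ | ⟨h1, h2, h3⟩ | ⟨h1, h2, h3⟩
      · exact Or.inr (Or.inl ⟨h1, by omega, h3⟩)
      · exact Or.inr (Or.inr (Or.inl ⟨h1, by omega, h3⟩))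
      · exact Or.inr (Or.inr (Or.inr ⟨h1, by omega, h3⟩))
    · exact absurd (CfsgLib.LivWag.isMultiplyPretransitive_of_homogeneous (G := G) h5 (by omega)
        (hk2 ▸ ht) hh1) hnt

end Cfsg.Agent.S0745
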