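import Cfsg.Statements.S0746
import Cfsg.Agent.S0745
import Cfsg.Agent.S0736

set_option autoImplicit false
open Cfsg

namespace Cfsg.Agent.S0746

/-- The Livingstone–Wagner Theorem, first form: a `k`-homogeneous group of degree `n` with `4 ≤ 2k ≤ n` is `(k-1)`-transitive. -/
theorem result {α : Type*} [Fintype α] [DecidableEq α] (G : Subgroup (Equiv.Perm α)) {k : ℕ} (hk : 2 ≤ k) (hkn : 2 * k ≤ Fintype.card α) (hh : MulAction.IsPretransitive G (Set.powersetCard α k)) : MulAction.IsMultiplyPretransitive G α (k - 1) := by
  classical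
  induction k using Nat.strong_induction_on with
  | _ k ih =>
    have hdown : MulAction.IsPretransitive G (Set.powersetCard α (k - 1)) := by
      refine Cfsg.Agent.S0736.result G hk hh fun q _ hqk => ?_
      have := Nat.le_of_dvd (by omega) hqk
      omega
    rcases Nat.lt_or_ge k 3 with h3 | h3
    · obtain rfl : k = 2 := by omega
      rw [MulAction.is_one_pretransitive_iff]
      refine ⟨fun a b => ?_⟩
      obtain ⟨g, hg⟩ := hdown.exists_smul_eq ⟨{a}, Finset.card_singleton a⟩ ⟨{b}, Finset.card_singleton b⟩
      have h2 : Finset.image (fun x => g • x) {a} = ({b} : Finset α) := congrArg Subtype.val hg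
      rw [Finset.image_singleton, Finset.singleton_inj] at h2
      exact ⟨g, h2⟩
    · by_contra hnt
      have hprev : MulAction.IsMultiplyPretransitive G α (k - 2) := by
        have := ih (k - 1) (by omega) (by omega) (by omega) hdown
        rwa [show k - 1 - 1 = k - 2 by omega] at this
      rcases Cfsg.Agent.S0745.result G h3 (by omega) hprev hnt hdown hh with
        ⟨h, -⟩ | ⟨h, h', -⟩ | ⟨h, h', -⟩ | ⟨h, h', -⟩ <;> omega

end Cfsg.Agent.S0746
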