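import Cfsg.Statements.S0754
import Cfsg.Agent.Lib.ClassicalGroups.HermBasic

set_option autoImplicit false
open Cfsg

namespace Cfsg.Agent.S0754

/-- In a field F with q^2 elements, every non-zero μ with μ^q = μ (that is, μ in the subfield of order q) has exactly q + 1 solutions λ of λ^(q+1) = μ. -/
theorem result {F : Type*} [Field F] [Fintype F] {q : ℕ} (hF : Fintype.card F = q ^ 2) (μ : F) (hμ : μ ≠ 0) (hμq : μ ^ q = μ) : Nat.card {x : F // x ^ (q + 1) = μ} = q + 1 := by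
  obtain ⟨x, hx0, hx⟩ := CfsgLib.ClassicalGroups.exists_norm_eq hF hμq hμ
  refine Eq.trans ?_ (CfsgLib.ClassicalGroups.card_norm_one_units hF)
  refine (Nat.card_congr (Equiv.ofBijective
    (fun u : (powMonoidHom (q + 1) : Fˣ →* Fˣ).ker => (⟨x * (u.1 : F), ?_⟩ : {y : F // y ^ (q + 1) = μ}))
    ⟨?_, ?_⟩)).symm
  · have hu : (u.1 : F) ^ (q + 1) = 1 := congrArg Units.val u.2
    rw [mul_pow, hx, hu, mul_one]
  · intro a b h
    exact Subtype.ext (Units.ext (mul_left_cancel₀ hx0 (congrArg Subtype.val h)))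
  · rintro ⟨y, hy⟩
    have hy0 : y ≠ 0 := by rintro rfl; rw [zero_pow (by omega)] at hy; exact hμ hy.symm
    refine ⟨⟨Units.mk0 (y / x) (div_ne_zero hy0 hx0), Units.ext ?_⟩, Subtype.ext ?_⟩
    · simp [div_pow, hy, hx, hμ]
    · exact mul_div_cancel₀ y hx0

end Cfsg.Agent.S0754
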