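import Cfsg.Statements.S0755
import Cfsg.Agent.Lib.UnitaryEmbed.HermSpace

set_option autoImplicit false
open Cfsg

namespace Cfsg.Agent.S0755

/-- Classification of Hermitian forms over finite fields: if σ is a non-identity involutive automorphism of the finite field F and B is a non-degenerate conjugate-symmetric σ-sesquilinear form on the finite-dimensional space V, then V has a B-orthonormal basis. -/
theorem result {F V : Type*} [Field F] [Finite F] [AddCommGroup V] [Module F V] [FiniteDimensional F V] (σ : F →+* F) (hσ : σ ≠ RingHom.id F) (hσ2 : ∀ a : F, σ (σ a) = a) (B : V →ₛₗ[σ] V →ₗ[F] F) (hS : B.IsSymm) (hB : B.Nondegenerate) : ∃ b : Module.Basis (Fin (Module.finrank F V)) F V, ∀ i j, B (b i) (b j) = if i = j then 1 else 0 := by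
  classical
  have := Fintype.ofFinite F
  obtain ⟨p, n, hp⟩ : ∃ p : ℕ, ∃ _ : Fact p.Prime, CharP F p := by
    obtain ⟨p, hp⟩ := CharP.exists F
    exact ⟨p, ⟨CharP.char_is_prime F p⟩, hp⟩
  let _ := ZMod.algebra F p
  let σ' : F ≃ₐ[ZMod p] F := AlgEquiv.ofRingEquiv (f := RingEquiv.ofBijective σ
    ⟨σ.injective, fun a => ⟨σ a, hσ2 a⟩⟩) (fun x => by
      show σ (algebraMap (ZMod p) F x) = algebraMap (ZMod p) F x
      exact RingHom.congr_fun (Subsingleton.elim (σ.comp (algebraMap (ZMod p) F)) (algebraMap (ZMod p) F)) x)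
  obtain ⟨i, hi⟩ := (FiniteField.bijective_frobeniusAlgEquivOfAlgebraic_pow (ZMod p) F).2 σ'
  have hσi : ∀ x, σ x = x ^ p ^ (i : ℕ) := fun x => by
    have h := congrArg (fun g : F ≃ₐ[ZMod p] F => g x) hi
    simp only [AlgEquiv.coe_pow, FiniteField.coe_frobeniusAlgEquivOfAlgebraic_iterate, ZMod.card] at h
    exact h.symm
  have hd : 2 * (i : ℕ) = Module.finrank (ZMod p) F := by
    have h2 : FiniteField.frobeniusAlgEquivOfAlgebraic (ZMod p) F ^ (2 * (i : ℕ)) = 1 := by
      rw [mul_comm, pow_mul]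
      refine AlgEquiv.ext fun x => ?_
      show (FiniteField.frobeniusAlgEquivOfAlgebraic (ZMod p) F ^ (i : ℕ)) ^ 2 • x = x
      simp only at hi
      rw [hi, pow_two]
      exact hσ2 x
    have hdvd := orderOf_dvd_of_pow_eq_one h2
    rw [FiniteField.orderOf_frobeniusAlgEquivOfAlgebraic] at hdvd
    obtain ⟨c, hc⟩ := hdvd
    have hi0 : (i : ℕ) ≠ 0 := fun h => hσ (RingHom.ext fun x => by simp [hσi, h])
    have := i.2
    match c, hc with
    | 0, hc => omega
    | 1, hc => omega
    | c + 2, hc => nlinarith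
  have hK : Fintype.card F = (p ^ (i : ℕ)) ^ 2 := by
    rw [← pow_mul, mul_comm, hd, Module.card_eq_pow_finrank (K := ZMod p) (V := F), ZMod.card]
  obtain ⟨b, hb⟩ := CfsgLib.UnitaryEmbed.exists_orthonormal_herm hK σ hσi hσ hσ2 _ B hS.eq hB.1 rfl
  have hli : LinearIndependent F b := by
    rw [Fintype.linearIndependent_iff]
    intro g hg j
    have := congrArg (B (b j)) hg
    simpa [hb, eq_comm (a := j)] using this
  refine ⟨basisOfLinearIndependentOfCardEqFinrank' b hli (Fintype.card_fin _), fun j k => ?_⟩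
  rw [coe_basisOfLinearIndependentOfCardEqFinrank', hb]

end Cfsg.Agent.S0755
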