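import Cfsg.Statements.S0756
import Cfsg.Agent.Lib.QuadFin.Gram

set_option autoImplicit false
open Cfsg

namespace Cfsg.Agent.S0756

/-- Classification of symmetric bilinear forms over finite fields of odd characteristic: if B is non-degenerate symmetric on V of dimension n + 1 and α is a fixed non-square of F, there is an orthogonal basis b_0, ..., b_n with B(b_i, b_i) = 1 for i < n and B(b_n, b_n) ∈ {1, α}. -/
theorem result {F V : Type*} [Field F] [Finite F] [AddCommGroup V] [Module F V] [FiniteDimensional F V] (h2 : (2 : F) ≠ 0) (B : LinearMap.BilinForm F V) (hS : B.IsSymm) (hB : B.Nondegenerate) {n : ℕ} (hn : Module.finrank F V = n + 1) (α : F) (hα : ¬ IsSquare α) : ∃ b : Module.Basis (Fin (n + 1)) F V, (∀ i j, i ≠ j → B (b i) (b j) = 0) ∧ (∀ i, i ≠ Fin.last n → B (b i) (b i) = 1) ∧ (B (b (Fin.last n)) (b (Fin.last n)) = 1 ∨ B (b (Fin.last n)) (b (Fin.last n)) = α) := by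
  classical
  have := Fintype.ofFinite F
  have : Invertible (2 : F) := invertibleOfNonzero h2
  obtain ⟨v₀, hv₀⟩ := LinearMap.BilinForm.exists_orthogonal_basis (LinearMap.BilinForm.isSymm_iff.mp hS)
  let v := v₀.reindex (finCongr hn)
  have hv : ∀ i j, i ≠ j → B (v i) (v j) = 0 := fun i j hij => by
    simp only [v, Module.Basis.reindex_apply]
    exact hv₀ fun h => hij ((finCongr hn).symm.injective h)
  let w : Fin (n + 1) → F := fun i => B (v i) (v i)
  have hw : ∀ i, w i ≠ 0 := fun i h => v.ne_zero i (hB.1 _ fun y => by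
    have : B (v i) = 0 := v.ext fun j => by
      by_cases hij : i = j
      · subst hij; exact h
      · exact hv i j hij
    rw [this]; rfl)
  obtain ⟨g, hg⟩ := CfsgLib.QuadFin.diag_equiv_std h2 n w hw
  let φ : (Fin (n + 1) → F) ≃ₗ[F] V := g.trans v.equivFun.symm
  have hφ : ∀ x, B (φ x) (φ x) = CfsgLib.QuadFin.stdForm n (∏ i, w i) x := fun x => by
    rw [← hg x]
    simp only [φ, LinearEquiv.trans_apply, Module.Basis.equivFun_symm_apply, map_sum, map_smul,
      LinearMap.sum_apply, LinearMap.smul_apply, smul_eq_mul]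
    refine Finset.sum_congr rfl fun i _ => ?_
    rw [Finset.sum_eq_single i (fun j _ hji => by rw [hv j i hji]; ring) (by simp)]
    simp only [w]; ring
  have hpol : ∀ x y, 2 * B (φ x) (φ y) = CfsgLib.QuadFin.stdForm n (∏ i, w i) (x + y)
      - CfsgLib.QuadFin.stdForm n (∏ i, w i) x - CfsgLib.QuadFin.stdForm n (∏ i, w i) y := fun x y => by
    rw [← hφ, ← hφ, ← hφ, map_add]
    simp only [map_add, LinearMap.add_apply, hS.eq (φ y) (φ x)]
    ring
  obtain ⟨s, hs0, hs⟩ : ∃ s : F, s ≠ 0 ∧ (s * s * (∏ i, w i) = 1 ∨ s * s * (∏ i, w i) = α) := by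
    have hd : (∏ i, w i) ≠ 0 := Finset.prod_ne_zero_iff.mpr fun i _ => hw i
    by_cases hsq : IsSquare (∏ i, w i)
    · obtain ⟨t, ht⟩ := hsq
      have ht0 : t ≠ 0 := by rintro rfl; simp [hd] at ht
      exact ⟨t⁻¹, inv_ne_zero ht0, .inl (by rw [ht]; field_simp)⟩
    · have hα0 : α ≠ 0 := fun h => hα (by simp [h])
      have h1 : IsSquare (α * ∏ i, w i) := by
        rw [← quadraticChar_one_iff_isSquare (mul_ne_zero hα0 hd), map_mul,
          quadraticChar_neg_one_iff_not_isSquare.mpr hα, quadraticChar_neg_one_iff_not_isSquare.mpr hsq]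
        norm_num
      obtain ⟨t, ht⟩ := h1
      have ht0 : t ≠ 0 := by rintro rfl; simp [hd, hα0] at ht
      refine ⟨α / t, div_ne_zero hα0 ht0, .inr ?_⟩
      field_simp
      linear_combination ht
  let rv : Fin (n + 1) ≃ Fin (n + 1) := Fin.revPerm
  let sc : Fin (n + 1) → Fˣ := fun i => if i = 0 then Units.mk0 s hs0 else 1
  let b := (((Pi.basisFun F (Fin (n + 1))).unitsSMul sc).map φ).reindex rv
  have hb : ∀ i, b i = φ (Pi.single (Fin.rev i) ((sc (Fin.rev i) : Fˣ) : F)) := fun i => by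
    simp [b, rv, Module.Basis.unitsSMul_apply, Units.smul_def, ← Pi.single_smul]
  have hrev : ∀ i : Fin (n + 1), Fin.rev i = 0 ↔ i = Fin.last n := fun i => by
    rw [← Fin.rev_last, Fin.rev_inj]
  refine ⟨b, fun i j hij => ?_, fun i hi => ?_, ?_⟩
  · rw [hb, hb]
    refine (mul_eq_zero.mp ?_).resolve_left h2
    rw [hpol]
    have hij' : Fin.rev i ≠ Fin.rev j := fun h => hij (Fin.rev_inj.mp h)
    simp only [CfsgLib.QuadFin.stdForm, Pi.add_apply]
    have hz : ∀ k, (Pi.single (Fin.rev i) ((sc (Fin.rev i) : Fˣ) : F) : Fin (n + 1) → F) k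
        * (Pi.single (Fin.rev j) ((sc (Fin.rev j) : Fˣ) : F) : Fin (n + 1) → F) k = 0 := fun k => by
      rw [Pi.single_apply, Pi.single_apply]
      split_ifs with h1 h2 <;> simp
      exact (hij' (h1.symm.trans h2)).elim
    simp only [add_sq, Finset.sum_add_distrib, mul_assoc (2 : F), hz]
    simp
    ring
  · have h0 : Fin.rev i ≠ 0 := fun h => hi ((hrev i).mp h)
    obtain ⟨k, hk⟩ := Fin.exists_succ_eq.mpr h0
    rw [hb, hφ, ← hk]
    simp [CfsgLib.QuadFin.stdForm, sc, Pi.single_apply, Fin.succ_ne_zero, eq_comm (a := (0 : Fin (n + 1)))]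
  · rw [hb, hφ, (hrev _).mpr rfl]
    simp only [CfsgLib.QuadFin.stdForm, Pi.single_eq_same, sc, if_true, Units.val_mk0,
      Pi.single_eq_of_ne (Fin.succ_ne_zero _), ne_eq, OfNat.ofNat_ne_zero, not_false_eq_true, zero_pow,
      Finset.sum_const_zero, add_zero]
    rcases hs with h | h
    · left; linear_combination h
    · right; linear_combination h

end Cfsg.Agent.S0756
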