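import Cfsg.Statements.S0757
import Cfsg.Agent.Lib.QuadFin.Gram

set_option autoImplicit false
open Cfsg

namespace Cfsg.Agent.S0757

/-- The two diagonal forms Σ x_i^2 and Σ_(i<n) x_i^2 + α x_n^2 on F^(n+1), with α a non-square and 2 ≠ 0 in F, are inequivalent quadratic forms (so over a finite field of odd order there are exactly two classes of non-singular symmetric bilinear forms in each dimension). -/
theorem result {F : Type*} [Field F] (h2 : (2 : F) ≠ 0) (n : ℕ) (α : F) (hα : ¬ IsSquare α) : ¬ (QuadraticMap.weightedSumSquares F (fun _ : Fin (n + 1) => (1 : F))).Equivalent (QuadraticMap.weightedSumSquares F (fun i : Fin (n + 1) => if i = Fin.last n then α else (1 : F))) := by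
  rintro ⟨g⟩
  have hα0 : α ≠ 0 := fun h => hα (by simp [h])
  have hfun : ∀ w : Fin (n + 1) → F, ⇑(QuadraticMap.weightedSumSquares F w) = fun v => ∑ i, w i * v i ^ 2 := fun w => by
    funext v
    rw [QuadraticMap.weightedSumSquares_apply]
    exact Finset.sum_congr rfl fun i _ => by simp [sq]
  have h := CfsgLib.QuadFin.gram_det_comp
    (QuadraticMap.weightedSumSquares F (fun i : Fin (n + 1) => if i = Fin.last n then α else (1 : F)))
    g.toLinearEquiv
  have h' : (fun v => (QuadraticMap.weightedSumSquares F (fun i : Fin (n + 1) => if i = Fin.last n then α else (1 : F)))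
      (g.toLinearEquiv v)) = ⇑(QuadraticMap.weightedSumSquares F (fun _ : Fin (n + 1) => (1 : F))) :=
    funext fun v => g.map_app v
  rw [h', hfun, hfun, CfsgLib.QuadFin.gram_diag, CfsgLib.QuadFin.gram_diag, Matrix.det_diagonal,
    Matrix.det_diagonal, Finset.prod_mul_distrib, Finset.prod_mul_distrib, Finset.prod_ite_eq' Finset.univ (Fin.last n)] at h
  simp only [Finset.prod_const_one, mul_one, Finset.mem_univ, if_true] at h
  have hp : (∏ _x : Fin (n + 1), (2 : F)) ≠ 0 := Finset.prod_ne_zero_iff.mpr fun _ _ => h2
  set D := LinearMap.det g.toLinearEquiv.toLinearMap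
  have hD : D ^ 2 * α = 1 := mul_left_cancel₀ hp (by linear_combination -h)
  have hD0 : D ≠ 0 := fun h0 => by simp [h0] at hD
  exact hα ⟨D⁻¹, by field_simp; linear_combination hD⟩

end Cfsg.Agent.S0757
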