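import Cfsg.Statements.S0759

set_option autoImplicit false
open Cfsg

namespace Cfsg.Agent.S0759

/-- An isotropic half-dimensional subspace forces `-1` to be a square when `m` is odd. -/
theorem square_of_isotropic {F : Type*} [Field F] (h2 : (2 : F) ≠ 0) (m : ℕ) (hm : Odd m)
    (W : Submodule F (Fin (2 * m) → F)) (hWm : Module.finrank F W = m)
    (hW : ∀ w ∈ W, ∑ i, w i ^ 2 = 0) : IsSquare (-1 : F) := by
  classical
  obtain ⟨U, hU⟩ := W.exists_isCompl
  have hUm : Module.finrank F U = m := by
    have := Submodule.finrank_add_eq_of_isCompl hU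
    rw [hWm, Module.finrank_fin_fun] at this
    omega
  let b := (((Module.finBasisOfFinrankEq F W hWm).prod (Module.finBasisOfFinrankEq F U hUm)).map
    (Submodule.prodEquivOfIsCompl W U hU))
  let A : Matrix (Fin m ⊕ Fin m) (Fin (2 * m)) F := Matrix.of fun i => b i
  let e : Fin m ⊕ Fin m ≃ Fin (2 * m) := finSumFinEquiv.trans (finCongr (two_mul m).symm)
  let A' : Matrix (Fin m ⊕ Fin m) (Fin m ⊕ Fin m) F := A.submatrix id e
  have hG : ∀ i j, (A' * A'.transpose) i j = ∑ k, b i k * b j k := fun i j => by
    rw [Matrix.mul_apply, ← e.sum_comp]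
    rfl
  have hdet : A'.det ≠ 0 := by
    intro h0
    obtain ⟨v, hv0, hv⟩ := Matrix.exists_vecMul_eq_zero_iff.mpr h0
    apply hv0
    have hb := Fintype.linearIndependent_iff.mp b.linearIndependent v (by
      funext k
      have := congrFun hv (e.symm k)
      simpa [Matrix.vecMul, dotProduct, A', A] using this)
    funext i; exact hb i
  set G := A' * A'.transpose with hGdef
  have h11 : G.toBlocks₁₁ = 0 := by
    ext i j
    have hbi : ∀ i : Fin m, (b (Sum.inl i) : Fin (2 * m) → F) ∈ W := fun i => by simp [b]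
    have h1 := hW _ (hbi i)
    have h2' := hW _ (hbi j)
    have h3 := hW _ (add_mem (hbi i) (hbi j))
    simp only [Pi.add_apply, add_sq, Finset.sum_add_distrib, h1, h2', zero_add, add_zero, mul_assoc,
      ← Finset.mul_sum] at h3
    show G (Sum.inl i) (Sum.inl j) = 0
    rw [hG]
    exact (mul_eq_zero.mp h3).resolve_left h2
  have h21 : G.toBlocks₂₁ = G.toBlocks₁₂.transpose := by
    ext i j
    show G (Sum.inr i) (Sum.inl j) = G (Sum.inl j) (Sum.inr i)
    rw [hG, hG]
    exact Finset.sum_congr rfl fun k _ => mul_comm _ _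
  have hJ : (Matrix.J (Fin m) F).det = 1 := SymplecticGroup.det_eq_one (SymplecticGroup.J_mem _ _)
  have key : G.det = (-1) ^ m * G.toBlocks₁₂.det * G.toBlocks₁₂.det := by
    calc G.det = (G * Matrix.J (Fin m) F).det := by rw [Matrix.det_mul G, hJ, mul_one]
      _ = (Matrix.fromBlocks G.toBlocks₁₂ 0 G.toBlocks₂₂ (-G.toBlocks₁₂.transpose)).det := by
          conv_lhs => rw [← Matrix.fromBlocks_toBlocks G, h11, h21, Matrix.J, Matrix.fromBlocks_multiply]
          simp
      _ = _ := by
          rw [Matrix.det_fromBlocks_zero₁₂, Matrix.det_neg, Matrix.det_transpose, Fintype.card_fin]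
          ring
  rw [hGdef, Matrix.det_mul, Matrix.det_transpose, hm.neg_one_pow, ← hGdef] at key
  have hC : G.toBlocks₁₂.det ≠ 0 := fun h0 => hdet (by simpa [h0] using key)
  exact ⟨A'.det / G.toBlocks₁₂.det, by field_simp; linear_combination -key⟩

/-- Construction of a half-dimensional isotropic subspace. -/
theorem exists_isotropic {F : Type*} [Field F] [Fintype F] (h2 : (2 : F) ≠ 0) (m : ℕ)
    (h : Fintype.card F % 4 = 3 → Even m) :
    ∃ W : Submodule F (Fin (2 * m) → F), Module.finrank F W = m ∧ ∀ w ∈ W, ∑ i, w i ^ 2 = 0 := by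
  classical
  obtain ⟨M, hM⟩ : ∃ M : Matrix (Fin m) (Fin m) F, M * M.transpose = -1 := by
    by_cases hq : Fintype.card F % 4 = 3
    · obtain ⟨k, hk⟩ := h hq
      obtain ⟨a, c, hac⟩ : ∃ a c : F, a ^ 2 + c ^ 2 = -1 := by
        obtain ⟨a, c, hac⟩ := FiniteField.exists_root_sum_quadratic
          (f := (Polynomial.X ^ 2 : Polynomial F)) (g := Polynomial.X ^ 2 + Polynomial.C 1)
          (Polynomial.degree_X_pow 2) (Polynomial.degree_X_pow_add_C (by norm_num) _) (by omega)
        refine ⟨a, c, ?_⟩
        simp at hac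
        linear_combination hac
      let P : Matrix (Fin k ⊕ Fin k) (Fin k ⊕ Fin k) F :=
        Matrix.fromBlocks (a • 1) (c • 1) (-c • 1) (a • 1)
      let e : Fin k ⊕ Fin k ≃ Fin m := finSumFinEquiv.trans (finCongr hk.symm)
      refine ⟨P.submatrix e.symm e.symm, ?_⟩
      have hP : P * P.transpose = -1 := by
        simp only [P, Matrix.fromBlocks_transpose, Matrix.transpose_smul, Matrix.transpose_one,
          Matrix.fromBlocks_multiply, Matrix.smul_mul, Matrix.mul_smul, Matrix.one_mul, smul_smul,
          ← add_smul]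
        rw [show a * a + c * c = -1 by linear_combination hac,
          show a * -c + c * a = 0 by ring, show -c * a + a * c = 0 by ring,
          show -c * -c + a * a = -1 by linear_combination hac]
        rw [← Matrix.fromBlocks_one (l := Fin k) (m := Fin k), Matrix.fromBlocks_neg]
        simp
      rw [Matrix.transpose_submatrix, Matrix.submatrix_mul_equiv, hP, Matrix.submatrix_neg]
      simp
    · have hc : ringChar F ≠ 2 := fun hh => h2 (by
        have : CharP F 2 := ringChar.of_eq hh
        exact CharP.ofNat_eq_zero F 2)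
      obtain ⟨r, hr⟩ := FiniteField.isSquare_neg_one_iff.mpr hq
      exact ⟨r • 1, by simp [smul_smul, ← hr]⟩
  let e : Fin m ⊕ Fin m ≃ Fin (2 * m) := finSumFinEquiv.trans (finCongr (two_mul m).symm)
  let L : (Fin m → F) →ₗ[F] (Fin (2 * m) → F) :=
    { toFun := fun x k => Sum.elim x (Matrix.vecMul x M) (e.symm k)
      map_add' := fun x y => by
        funext k; rcases he : e.symm k with i | i <;> simp [he, Matrix.add_vecMul]
      map_smul' := fun a x => by
        funext k; rcases he : e.symm k with i | i <;> simp [he, Matrix.smul_vecMul] }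
  have hL : Function.Injective L := fun x y hxy => funext fun i => by
    have := congrFun hxy (e (Sum.inl i))
    simpa [L] using this
  refine ⟨LinearMap.range L, by rw [LinearMap.finrank_range_of_inj hL, Module.finrank_fin_fun], ?_⟩
  rintro _ ⟨x, rfl⟩
  rw [← e.sum_comp, Fintype.sum_sum_type]
  have hdot : dotProduct (Matrix.vecMul x M) (Matrix.vecMul x M) = -dotProduct x x := by
    nth_rw 2 [← Matrix.mulVec_transpose]
    rw [Matrix.dotProduct_mulVec, Matrix.vecMul_vecMul, hM]
    rw [Matrix.vecMul_neg, Matrix.vecMul_one, neg_dotProduct]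
  simp [dotProduct, ← sq] at hdot
  simp [L, hdot]

/-- Type of the orthonormal form: over a finite field of odd order q and for m ≥ 1, the quadratic form Σ_(i<2m) x_i² on F^(2m) admits an m-dimensional subspace on which it vanishes identically if and only if it is not the case that q ≡ 3 (mod 4) and m is odd. -/
theorem result {F : Type*} [Field F] [Fintype F] (h2 : (2 : F) ≠ 0) (m : ℕ) (hm : 1 ≤ m) : (∃ W : Submodule F (Fin (2 * m) → F), Module.finrank F W = m ∧ ∀ w ∈ W, ∑ i, w i ^ 2 = 0) ↔ ¬ (Fintype.card F % 4 = 3 ∧ Odd m) := by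
  classical
  have hc : ringChar F ≠ 2 := fun h => h2 (by
    have : CharP F 2 := ringChar.of_eq h
    exact CharP.ofNat_eq_zero F 2)
  have hneg : IsSquare (-1 : F) ↔ Fintype.card F % 4 ≠ 3 := FiniteField.isSquare_neg_one_iff
  constructor
  · rintro ⟨W, hWm, hW⟩ ⟨hq3, hodd⟩
    exact hneg.mp (square_of_isotropic h2 m hodd W hWm hW) hq3
  · intro h
    rw [not_and, Nat.not_odd_iff_even] at h
    exact exists_isotropic h2 m h

end Cfsg.Agent.S0759
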