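import Cfsg.Statements.S0761
import Cfsg.Agent.Lib.Forms.Witt

set_option autoImplicit false
open Cfsg

namespace Cfsg.Agent.S0761

/-- Hyperbolic partners: let B be a non-degenerate bilinear form on a finite-dimensional space, either alternating, or symmetric with 2 ≠ 0. If Z is a subspace on which B vanishes, x ∉ Z is isotropic and orthogonal to Z, then there is an isotropic y with B x y = 1 which is orthogonal to Z. -/
theorem result {F V : Type*} [Field F] [AddCommGroup V] [Module F V] [FiniteDimensional F V] (B : LinearMap.BilinForm F V) (hB : B.Nondegenerate) (hform : B.IsAlt ∨ (B.IsSymm ∧ (2 : F) ≠ 0)) (x : V) (Z : Submodule F V) (hxZ : x ∉ Z) (hx : B x x = 0) (hxz : ∀ z ∈ Z, B x z = 0) (hZ : ∀ z ∈ Z, ∀ z' ∈ Z, B z z' = 0) : ∃ y : V, B y y = 0 ∧ B x y = 1 ∧ ∀ z ∈ Z, B z y = 0 := by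
  have hspan : x ∉ Submodule.span F (Set.range fun i => ((Module.finBasis F Z i : Z) : V)) := by
    intro h
    refine hxZ (Submodule.span_le.mpr ?_ h)
    rintro _ ⟨i, rfl⟩; exact (Module.finBasis F Z i).2
  obtain ⟨p, hp, hp1⟩ := CfsgLib.Forms.exists_orth_pair_one (σ := RingHom.id F) Function.surjective_id B hB.1
    _ x hspan
  have hpZ : ∀ z ∈ Z, B z p = 0 := fun z hz => by
    have h : (B.flip p).comp Z.subtype = 0 := (Module.finBasis F Z).ext fun i => hp i
    exact LinearMap.congr_fun h ⟨z, hz⟩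
  rcases hform with hA | ⟨hS, h2⟩
  · exact ⟨p, hA.self_eq_zero p, hp1, hpZ⟩
  · refine ⟨p + (-(B p p) / 2) • x, ?_, by simp [hp1, hx], fun z hz => by simp [hpZ z hz, hS.eq z x, hxz z hz]⟩
    simp only [map_add, map_smul, LinearMap.add_apply, LinearMap.smul_apply, smul_eq_mul, hx, hS.eq p x, hp1]
    field_simp
    ring

end Cfsg.Agent.S0761
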