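import Cfsg.Statements.S0762

set_option autoImplicit false
open Cfsg

namespace Cfsg.Agent.S0762

/-- In characteristic two over a finite field, a quadratic form on a space of dimension at least 3 vanishes on some non-zero vector. -/
theorem result {F V : Type*} [Field F] [Finite F] [CharP F 2] [AddCommGroup V] [Module F V] [FiniteDimensional F V] (Q : QuadraticForm F V) (h3 : 3 ≤ Module.finrank F V) : ∃ v : V, v ≠ 0 ∧ Q v = 0 := by
  have hne : 0 < Module.finrank F V := by omega
  have : Nontrivial V := Module.nontrivial_of_finrank_pos hne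
  obtain ⟨x, hx⟩ := exists_ne (0 : V)
  by_cases hQx : Q x = 0
  · exact ⟨x, hx, hQx⟩
  let L := QuadraticMap.polarBilin Q x
  have hrank := LinearMap.finrank_range_add_finrank_ker L
  have hr1 : Module.finrank F (LinearMap.range L) ≤ 1 := by
    simpa using Submodule.finrank_le (LinearMap.range L)
  obtain ⟨y, hy, hyx⟩ : ∃ y ∈ LinearMap.ker L, y ∉ Submodule.span F {x} := by
    by_contra h
    push Not at h
    have := Submodule.finrank_mono (show LinearMap.ker L ≤ Submodule.span F {x} from h)
    rw [finrank_span_singleton hx] at this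
    omega
  obtain ⟨a, ha⟩ := FiniteField.isSquare_of_char_two (ringChar.eq F 2) (-(Q y) / Q x)
  refine ⟨a • x + y, fun h => hyx (Submodule.mem_span_singleton.mpr ⟨-a, ?_⟩), ?_⟩
  · rw [neg_smul]; exact (eq_neg_of_add_eq_zero_right h).symm
  · have hp : QuadraticMap.polar Q x y = 0 := hy
    have hadd : Q (a • x + y) = Q (a • x) + Q y + QuadraticMap.polar Q (a • x) y := by
      simp only [QuadraticMap.polar]; ring
    rw [hadd, QuadraticMap.map_smul, QuadraticMap.polar_smul_left, hp, ← ha, smul_eq_mul, smul_zero,
      div_mul_cancel₀ _ hQx]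
    ring

end Cfsg.Agent.S0762
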