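import Cfsg.Statements.S0763

set_option autoImplicit false
open Cfsg

namespace Cfsg.Agent.S0763

/-- Binary quadratic forms in characteristic two over a finite field: if Q is a quadratic form on a 2-dimensional space whose polar form is non-degenerate, then either there are vectors v, w with Q v = Q w = 0 and polar value 1 (Q is xy in these coordinates), or there are v, w and μ with Q v = 1, Q w = μ, polar value 1 and x² + x + μ without roots in F (Q is x² + xy + μy²). -/
theorem result {F V : Type*} [Field F] [Finite F] [CharP F 2] [AddCommGroup V] [Module F V] (Q : QuadraticForm F V) (h2 : Module.finrank F V = 2) (hQ : (QuadraticMap.polarBilin Q).Nondegenerate) : (∃ v w : V, LinearIndependent F ![v, w] ∧ Q v = 0 ∧ Q w = 0 ∧ QuadraticMap.polar Q v w = 1) ∨ (∃ (v w : V) (μ : F), LinearIndependent F ![v, w] ∧ (∀ x : F, x ^ 2 + x + μ ≠ 0) ∧ Q v = 1 ∧ Q w = μ ∧ QuadraticMap.polar Q v w = 1) := by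
  classical
  have := Fintype.ofFinite F
  have : FiniteDimensional F V := Module.finite_of_finrank_eq_succ h2
  have h20 : (2 : F) = 0 := CharP.ofNat_eq_zero F 2
  have hself : ∀ x, QuadraticMap.polar Q x x = 0 := fun x => by
    rw [QuadraticMap.polar_self, two_smul, ← two_mul, h20, zero_mul]
  have hadd : ∀ x y, Q (x + y) = Q x + Q y + QuadraticMap.polar Q x y := fun x y => by
    simp only [QuadraticMap.polar]; ring
  have partner : ∀ x, x ≠ 0 → ∃ w, QuadraticMap.polar Q x w = 1 := fun x hx => by
    by_contra h
    push Not at h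
    refine hx (hQ.1 x fun y => ?_)
    by_contra hy
    exact h ((QuadraticMap.polar Q x y)⁻¹ • y) (by rw [QuadraticMap.polar_smul_right]; simp at hy ⊢; simp [hy])
  have indep : ∀ v w, QuadraticMap.polar Q v w = 1 → LinearIndependent F ![v, w] := fun v w h => by
    rw [linearIndependent_fin2]
    refine ⟨fun hw => ?_, fun a ha => ?_⟩
    · simp at hw
      rw [hw, QuadraticMap.polar_zero_right] at h
      exact zero_ne_one h
    · simp at ha
      rw [← ha, QuadraticMap.polar_smul_left, hself, smul_zero] at h
      exact zero_ne_one h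
  by_cases hex : ∃ v, v ≠ 0 ∧ Q v = 0
  · obtain ⟨v, hv, hQv⟩ := hex
    obtain ⟨w, hw⟩ := partner v hv
    have hp : QuadraticMap.polar Q v (Q w • v + w) = 1 := by
      rw [QuadraticMap.polar_add_right, QuadraticMap.polar_smul_right, hself, hw]; simp
    refine .inl ⟨v, Q w • v + w, indep v _ hp, hQv, ?_, hp⟩
    rw [hadd, QuadraticMap.map_smul, hQv, QuadraticMap.polar_smul_left, hw, smul_zero, smul_eq_mul]
    linear_combination (Q w) * h20
  · push Not at hex
    have hne : 0 < Module.finrank F V := by omega
    have : Nontrivial V := Module.nontrivial_of_finrank_pos hne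
    obtain ⟨x, hx⟩ := exists_ne (0 : V)
    obtain ⟨a, ha⟩ := FiniteField.isSquare_of_char_two (ringChar.eq F 2) (Q x)⁻¹
    have ha0 : a ≠ 0 := by rintro rfl; simp [hex x hx] at ha
    have hQv : Q (a • x) = 1 := by
      rw [QuadraticMap.map_smul, ← ha, smul_eq_mul, inv_mul_cancel₀ (hex x hx)]
    obtain ⟨w, hw⟩ := partner (a • x) (smul_ne_zero ha0 hx)
    refine .inr ⟨a • x, w, Q w, indep _ _ hw, fun t ht => ?_, hQv, rfl, hw⟩
    have hne' : t • (a • x) + w ≠ 0 := fun h0 => by
      have := linearIndependent_fin2.mp (indep (a • x) w hw)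
      have h1 := (LinearIndependent.pair_iff.mp (indep (a • x) w hw)) t 1 (by rw [one_smul]; exact h0)
      exact one_ne_zero h1.2
    refine hex _ hne' ?_
    rw [hadd, QuadraticMap.map_smul, hQv, QuadraticMap.polar_smul_left, hw, smul_eq_mul, smul_eq_mul]
    linear_combination ht

end Cfsg.Agent.S0763
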