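import Cfsg.Statements.S0769
import Cfsg.Agent.Lib.GLStab.Basic

set_option autoImplicit false
open Cfsg

namespace Cfsg.Agent.S0769

/-- Order of the Borel subgroup of GL_n(q): the invertible lower-triangular n × n matrices over a field with q elements number q^(n(n-1)/2) (q-1)^n (unitriangular part times the diagonal torus). -/
theorem result {F : Type*} [Field F] [Fintype F] {q : ℕ} (hF : Fintype.card F = q) (n : ℕ) : Nat.card {g : Matrix.GeneralLinearGroup (Fin n) F // ∀ i j : Fin n, i < j → (g : Matrix (Fin n) (Fin n) F) i j = 0} = q ^ (n * (n - 1) / 2) * (q - 1) ^ n := by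
  classical
  refine Eq.trans ?_ (CfsgLib.GLStab.card_triangular hF n)
  refine Nat.card_congr (Equiv.ofBijective (fun g => ⟨g.1.1.transpose, fun i j h => g.2 j i h, fun i => ?_⟩) ⟨?_, ?_⟩)
  · have h : Matrix.det g.1.1 = ∏ i, g.1.1 i i :=
      Matrix.det_of_isLowerTriangular g.1.1 (fun i j hij => g.2 i j hij)
    have hne := ((Matrix.isUnit_iff_isUnit_det _).mp g.1.isUnit).ne_zero
    rw [h, Finset.prod_ne_zero_iff] at hne
    exact hne i (Finset.mem_univ i)
  · intro a b h
    exact Subtype.ext (Units.ext (Matrix.transpose_injective (congrArg Subtype.val h)))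
  · intro M
    have hd : M.1.transpose.det ≠ 0 := by
      rw [Matrix.det_transpose, Matrix.det_of_isUpperTriangular (fun i j hij => M.2.1 i j hij), Finset.prod_ne_zero_iff]
      exact fun i _ => M.2.2 i
    exact ⟨⟨Matrix.GeneralLinearGroup.mkOfDetNeZero _ hd, fun i j h => M.2.1 j i h⟩,
      Subtype.ext (Matrix.transpose_transpose _)⟩

end Cfsg.Agent.S0769
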