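import Cfsg.Statements.S0770
import Cfsg.Agent.Lib.GLStab.Basic

set_option autoImplicit false
open Cfsg

namespace Cfsg.Agent.S0770

/-- For a field with at least 3 elements, an invertible matrix normalises the subgroup of invertible diagonal matrices of GL_n if and only if it is monomial (exactly one non-zero entry in each row). -/
theorem result {F : Type*} [Field F] (hF : ∃ a : F, a ≠ 0 ∧ a ≠ 1) (n : ℕ) (g : Matrix.GeneralLinearGroup (Fin n) F) : g ∈ Subgroup.normalizer ((Units.map (Matrix.diagonalRingHom (Fin n) F).toMonoidHom).range : Subgroup (Matrix.GeneralLinearGroup (Fin n) F)) ↔ ∀ i : Fin n, ∃! j : Fin n, (g : Matrix (Fin n) (Fin n) F) i j ≠ 0 := by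
  classical
  set D : Subgroup (Matrix.GeneralLinearGroup (Fin n) F) :=
    ((Units.map (Matrix.diagonalRingHom (Fin n) F).toMonoidHom).range : Subgroup (Matrix.GeneralLinearGroup (Fin n) F))
    with hD
  have hmemD : ∀ x : Matrix.GeneralLinearGroup (Fin n) F, x ∈ D ↔ ∀ i j, i ≠ j → x.1 i j = 0 := by
    intro x
    constructor
    · rintro ⟨u, rfl⟩ i j hij
      exact Matrix.diagonal_apply_ne _ hij
    · intro h
      have hdiag : x.1 = Matrix.diagonal fun i => x.1 i i := by
        ext i j
        by_cases hij : i = j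
        · subst hij; simp
        · rw [Matrix.diagonal_apply_ne _ hij, h i j hij]
      have hd : ∀ i, x.1 i i ≠ 0 := by
        have hne := ((Matrix.isUnit_iff_isUnit_det _).mp x.isUnit).ne_zero
        rw [hdiag, Matrix.det_diagonal, Finset.prod_ne_zero_iff] at hne
        exact fun i => hne i (Finset.mem_univ i)
      refine ⟨⟨fun i => x.1 i i, fun i => (x.1 i i)⁻¹, funext fun i => mul_inv_cancel₀ (hd i),
        funext fun i => inv_mul_cancel₀ (hd i)⟩, Units.ext hdiag.symm⟩
  constructor
  · intro hg i
    obtain ⟨a, ha0, ha1⟩ := hF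
    have hne := ((Matrix.isUnit_iff_isUnit_det _).mp g.isUnit).ne_zero
    obtain ⟨j, hj⟩ : ∃ j, g.1 i j ≠ 0 := by
      by_contra h; push Not at h
      exact hne (Matrix.det_eq_zero_of_row_eq_zero i h)
    refine ⟨j, hj, fun j' hj' => ?_⟩
    by_contra hjj
    let u : (Fin n → F)ˣ := ⟨fun l => if l = j then a else 1, fun l => if l = j then a⁻¹ else 1,
      funext fun l => by by_cases h : l = j <;> simp [h, ha0],
      funext fun l => by by_cases h : l = j <;> simp [h, ha0]⟩
    let d : Matrix.GeneralLinearGroup (Fin n) F := Units.map (Matrix.diagonalRingHom (Fin n) F).toMonoidHom u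
    have he : g * d * g⁻¹ ∈ D := (Subgroup.mem_normalizer_iff.mp hg d).mp ⟨u, rfl⟩
    obtain ⟨v, hv⟩ := he
    have h2 : (Units.map (Matrix.diagonalRingHom (Fin n) F).toMonoidHom v) * g = g * d := by
      rw [hv, inv_mul_cancel_right]
    have h3 : Matrix.diagonal v.1 * g.1 = g.1 * Matrix.diagonal u.1 := congrArg Units.val h2
    have e1 := congrFun (congrFun h3 i) j
    have e2 := congrFun (congrFun h3 i) j'
    simp [Matrix.diagonal_mul, Matrix.mul_diagonal, u, hjj] at e1 e2
    have hz : (v.1 i - 1) * g.1 i j' = 0 := by linear_combination e2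
    rcases mul_eq_zero.mp hz with h0 | h0
    · rw [sub_eq_zero] at h0
      rw [h0, one_mul] at e1
      exact ha1 (mul_left_cancel₀ hj (by linear_combination -e1))
    · exact hj' h0
  · intro hmono
    choose τ hτ hτu using hmono
    have hτ0 : ∀ i j, j ≠ τ i → g.1 i j = 0 := fun i j hij => by
      by_contra h; exact hij (hτu i j h)
    rw [Subgroup.mem_normalizer_iff]
    have hconj : ∀ (h : Matrix.GeneralLinearGroup (Fin n) F), (∀ i j, i ≠ j → (g * h * g⁻¹).1 i j = 0) ↔
        ∀ i j, i ≠ j → h.1 i j = 0 := by
      have hsum : ∀ (M : Matrix (Fin n) (Fin n) F) i j, (g.1 * M) i j = g.1 i (τ i) * M (τ i) j := fun M i j => by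
        rw [Matrix.mul_apply, Finset.sum_eq_single (τ i) (fun l _ hl => by rw [hτ0 i l hl, zero_mul]) (by simp)]
      have hτinj : Function.Injective τ := by
        intro i i' hii
        by_contra hne
        have hginv : g.1 * g⁻¹.1 = 1 := by rw [← Units.val_mul, mul_inv_cancel, Units.val_one]
        have e1 := congrFun (congrFun hginv i) i
        have e2 := congrFun (congrFun hginv i') i
        rw [hsum, Matrix.one_apply_eq] at e1
        rw [hsum, Matrix.one_apply_ne (Ne.symm hne), ← hii] at e2
        rcases mul_eq_zero.mp e2 with e | e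
        · exact hτ i' (hii ▸ e)
        · rw [e, mul_zero] at e1; exact zero_ne_one e1
      have hτbij : Function.Bijective τ := Finite.injective_iff_bijective.mp hτinj
      intro h
      constructor
      · intro hd k l hkl
        have h1 : (g * h * g⁻¹).1 * g.1 = g.1 * h.1 := by
          rw [← Units.val_mul, ← Units.val_mul, inv_mul_cancel_right]
        obtain ⟨i, rfl⟩ := hτbij.2 k
        have e := congrFun (congrFun h1 i) l
        rw [hsum, Matrix.mul_apply, Finset.sum_eq_single i (fun r _ hr => by rw [hd i r (Ne.symm hr), zero_mul])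
          (by simp), hτ0 i l (Ne.symm hkl), mul_zero] at e
        exact (mul_eq_zero.mp e.symm).resolve_left (hτ i)
      · intro hd i j hij
        have h1 : g.1 * (h.1 * g⁻¹.1) = (g * h * g⁻¹).1 := by
          rw [Units.val_mul, Units.val_mul, Matrix.mul_assoc]
        have hgi : g⁻¹.1 (τ i) j = 0 := by
          have e := congrFun (congrFun (show g.1 * g⁻¹.1 = 1 by rw [← Units.val_mul, mul_inv_cancel, Units.val_one]) i) j
          rw [hsum, Matrix.one_apply_ne hij] at e
          exact (mul_eq_zero.mp e).resolve_left (hτ i)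
        rw [← h1, hsum, Matrix.mul_apply, Finset.sum_eq_single (τ i)
          (fun r _ hr => by rw [hd _ _ (Ne.symm hr), zero_mul]) (by simp), hgi, mul_zero, mul_zero]
    intro h
    rw [hmemD, hmemD]
    exact (hconj h).symm

end Cfsg.Agent.S0770
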