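import Cfsg.Statements.S0773
import Cfsg.Agent.Lib.GLStab.Basic

set_option autoImplicit false
open Cfsg

namespace Cfsg.Agent.S0773

/-- The stabilisers in GL_n(F), F finite, of the coordinate subspaces of dimensions k and n − k are isomorphic groups, but when 2k ≠ n (and 0 < k < n) no element of GL_n conjugates one onto the other. -/
theorem result {F : Type*} [Field F] [Finite F] (n k : ℕ) (hk0 : 0 < k) (hkn : k < n) (h2 : 2 * k ≠ n) : Nonempty (↥(Cfsg.stabilizing (Cfsg.glToMat (Fin n) F) {v : Fin n → F | ∀ i : Fin n, k ≤ (i : ℕ) → v i = 0}) ≃* ↥(Cfsg.stabilizing (Cfsg.glToMat (Fin n) F) {v : Fin n → F | ∀ i : Fin n, n - k ≤ (i : ℕ) → v i = 0})) ∧ ∀ g : Matrix.GeneralLinearGroup (Fin n) F, (Cfsg.stabilizing (Cfsg.glToMat (Fin n) F) {v : Fin n → F | ∀ i : Fin n, k ≤ (i : ℕ) → v i = 0}).map (MulAut.conj g).toMonoidHom ≠ Cfsg.stabilizing (Cfsg.glToMat (Fin n) F) {v : Fin n → F | ∀ i : Fin n, n - k ≤ (i : ℕ) → v i = 0} := by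
  refine ⟨⟨CfsgLib.GLStab.stabEquiv hkn.le⟩, fun g hg => ?_⟩
  have hinj : Function.Injective (Matrix.toLin' g.1) := Matrix.mulVec_injective_iff_isUnit.mpr g.isUnit
  have hrank : Module.finrank F ((CfsgLib.GLStab.coordW F n k).map (Matrix.toLin' g.1)) = k := by
    rw [← (Submodule.equivMapOfInjective _ hinj _).finrank_eq, CfsgLib.GLStab.finrank_coordW hkn.le]
  have key := CfsgLib.GLStab.invariant_eq (k := n - k)
    (U := (CfsgLib.GLStab.coordW F n k).map (Matrix.toLin' g.1))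
    (fun h hh u hu => by
      rw [CfsgLib.GLStab.stab, ← hg] at hh
      obtain ⟨p, hp, rfl⟩ := hh
      obtain ⟨w, hw, rfl⟩ := hu
      refine ⟨p.1.mulVec w, (hp w).mp hw, ?_⟩
      simp [Matrix.toLin'_apply, Matrix.mulVec_mulVec, Matrix.mul_assoc, MulAut.conj_apply])
    (fun h => by rw [h, finrank_bot] at hrank; omega)
    (fun h => by rw [h, finrank_top, Module.finrank_fin_fun] at hrank; omega)
  rw [key, CfsgLib.GLStab.finrank_coordW (n.sub_le k)] at hrank
  omega

end Cfsg.Agent.S0773
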