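import Cfsg.Statements.S0776
import Cfsg.Agent.Lib.Sp.Decomp

set_option autoImplicit false
open Cfsg

namespace Cfsg.Agent.S0776

/-- If W ≤ F^(2m) is a 2k-dimensional subspace on which the symplectic form is non-degenerate, then the stabiliser of W in Sp_2m(F) is isomorphic to Sp_2k(F) × Sp_(2m−2k)(F). -/
theorem result {F : Type*} [Field F] (m k : ℕ) (hk : k ≤ m) (W : Submodule F (Fin m ⊕ Fin m → F)) (hWk : Module.finrank F W = 2 * k) (hW : ∀ u ∈ W, (∀ v ∈ W, Cfsg.sympForm m F u v = 0) → u = 0) : Nonempty (↥(Cfsg.stabilizing (Cfsg.spToMat m F) (W : Set (Fin m ⊕ Fin m → F))) ≃* Matrix.symplecticGroup (Fin k) F × Matrix.symplecticGroup (Fin (m - k)) F) := by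
  have hA : (CfsgLib.Sp.sympBilin m F).IsAlt := CfsgLib.Sp.sympBilin_isAlt
  set B := CfsgLib.Sp.sympBilin m F
  have hnd : (B.restrict W).Nondegenerate := by
    refine ⟨fun x hx => Subtype.ext (hW x.1 x.2 fun v hv => ?_), fun x hx => Subtype.ext (hW x.1 x.2 fun v hv => ?_)⟩
    · rw [← CfsgLib.Sp.sympBilin_apply]; exact hx ⟨v, hv⟩
    · rw [← CfsgLib.Sp.sympBilin_apply, CfsgLib.Sp.alt_flip hA, show B v x.1 = 0 from hx ⟨v, hv⟩, neg_zero]
  have hc : IsCompl W (B.orthogonal W) :=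
    LinearMap.BilinForm.isCompl_orthogonal_of_restrict_nondegenerate hA.isRefl hnd
  have hUnd : LinearMap.SeparatingLeft (B.restrict (B.orthogonal W)) := by
    intro x hx
    refine Subtype.ext (CfsgLib.Sp.sympBilin_separatingLeft _ fun y => ?_)
    have hy : y ∈ W ⊔ B.orthogonal W := by rw [hc.sup_eq_top]; trivial
    obtain ⟨w, hw, u, hu, rfl⟩ := Submodule.mem_sup.mp hy
    have h1 : B x.1 u = 0 := hx ⟨u, hu⟩
    have h2 : B x.1 w = 0 := by rw [CfsgLib.Sp.alt_flip hA, show B w x.1 = 0 from x.2 w hw, neg_zero]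
    show B x.1 (w + u) = 0
    rw [map_add, h1, h2, add_zero]
  have hU : Module.finrank F (B.orthogonal W) = 2 * (m - k) := by
    rw [LinearMap.BilinForm.finrank_orthogonal CfsgLib.Sp.sympBilin_nondegenerate, hWk]
    simp; omega
  obtain ⟨e1, h1⟩ := CfsgLib.Sp.exists_std_equiv (B.restrict W) (fun x => hA.self_eq_zero _) hnd.1 hWk
  obtain ⟨e2, h2⟩ := CfsgLib.Sp.exists_std_equiv (B.restrict (B.orthogonal W)) (fun x => hA.self_eq_zero _) hUnd hU
  exact ⟨((CfsgLib.Sp.stabilizingEquiv W).trans (CfsgLib.Sp.isomStabEquiv B hA W hc)).trans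
    (MulEquiv.prodCongr
      ((CfsgLib.Sp.isomEquiv k F).trans
        (CfsgLib.Sp.isomCongr e1 fun u v => by rw [h1, CfsgLib.Sp.sympBilin_apply])).symm
      ((CfsgLib.Sp.isomEquiv (m - k) F).trans
        (CfsgLib.Sp.isomCongr e2 fun u v => by rw [h2, CfsgLib.Sp.sympBilin_apply])).symm)⟩

end Cfsg.Agent.S0776
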