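import Cfsg.Statements.S0778
import Cfsg.Agent.Lib.Sp.Group

set_option autoImplicit false
open Cfsg

namespace Cfsg.Agent.S0778

/-- The elements of Sp_2m(F) stabilising both W = ⟨e_1..e_m⟩ and U = ⟨f_1..f_m⟩ form a subgroup isomorphic to GL_m(F) (block-diagonal matrices diag(X, X^(−ᵀ)) up to the sign convention of J), for m ≥ 1 or m = 0 alike. -/
theorem result {F : Type*} [Field F] (m : ℕ) : Nonempty (↥(Cfsg.stabilizing (Cfsg.spToMat m F) {v : Fin m ⊕ Fin m → F | ∀ i : Fin m, v (Sum.inr i) = 0} ⊓ Cfsg.stabilizing (Cfsg.spToMat m F) {v : Fin m ⊕ Fin m → F | ∀ i : Fin m, v (Sum.inl i) = 0}) ≃* Matrix.GeneralLinearGroup (Fin m) F) := by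
  classical
  have hmem : ∀ X : Matrix.GeneralLinearGroup (Fin m) F,
      Matrix.fromBlocks X.1 0 0 (X⁻¹).1.transpose ∈ Matrix.symplecticGroup (Fin m) F := fun X => by
    refine SymplecticGroup.fromBlocks_mem_iff.mpr ⟨by simp, by simp, ?_⟩
    simp [← Matrix.transpose_mul]
  refine ⟨(MulEquiv.ofBijective (MonoidHom.mk' (fun X : Matrix.GeneralLinearGroup (Fin m) F =>
    (⟨⟨_, hmem X⟩, ⟨fun v => ?_, fun v => ?_⟩⟩ :
      ↥(Cfsg.stabilizing (Cfsg.spToMat m F) {v : Fin m ⊕ Fin m → F | ∀ i : Fin m, v (Sum.inr i) = 0} ⊓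
        Cfsg.stabilizing (Cfsg.spToMat m F) {v : Fin m ⊕ Fin m → F | ∀ i : Fin m, v (Sum.inl i) = 0})))
    (fun X Y => ?_)) ⟨?_, ?_⟩).symm⟩
  · have hinj : Function.Injective (Matrix.mulVec (X⁻¹).1.transpose) :=
      Matrix.mulVec_injective_iff_isUnit.mpr ((Matrix.isUnit_transpose _).mpr (X⁻¹).isUnit)
    constructor
    · intro hv i
      simp [Matrix.fromBlocks_mulVec, funext hv, show v ∘ Sum.inr = 0 from funext hv]
    · intro hv i
      have h : (X⁻¹).1.transpose.mulVec (v ∘ Sum.inr) = (X⁻¹).1.transpose.mulVec 0 := by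
        funext i
        simpa [Matrix.fromBlocks_mulVec] using hv i
      exact congrFun (hinj h) i
  · have hinj : Function.Injective (Matrix.mulVec X.1) := Matrix.mulVec_injective_iff_isUnit.mpr X.isUnit
    constructor
    · intro hv i
      simp [Matrix.fromBlocks_mulVec, show v ∘ Sum.inl = 0 from funext hv]
    · intro hv i
      have h : X.1.mulVec (v ∘ Sum.inl) = X.1.mulVec 0 := by
        funext i
        simpa [Matrix.fromBlocks_mulVec] using hv i
      exact congrFun (hinj h) i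
  · apply Subtype.ext
    apply Subtype.ext
    simp [Matrix.fromBlocks_multiply, Matrix.transpose_mul]
  · intro X Y h
    exact Units.ext (Matrix.fromBlocks_inj.mp (congrArg (fun A => A.1.1) h)).1
  · rintro ⟨A, hA1, hA2⟩
    have e1 : A.1.toBlocks₂₁ = 0 := by
      ext i j
      have := (hA1 (Pi.single (Sum.inl j) 1)).mp (fun k => by simp) i
      simpa [Matrix.toBlocks₂₁] using this
    have e2 : A.1.toBlocks₁₂ = 0 := by
      ext i j
      have := (hA2 (Pi.single (Sum.inr j) 1)).mp (fun k => by simp) i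
      simpa [Matrix.toBlocks₁₂] using this
    have hA := A.2
    rw [← Matrix.fromBlocks_toBlocks A.1, e1, e2, SymplecticGroup.fromBlocks_mem_iff] at hA
    have h3 : A.1.toBlocks₁₁.transpose * A.1.toBlocks₂₂ = 1 := by simpa using hA.2.2
    have h4 : A.1.toBlocks₂₂.transpose * A.1.toBlocks₁₁ = 1 := by
      simpa [Matrix.transpose_mul] using congrArg Matrix.transpose h3
    refine ⟨⟨A.1.toBlocks₁₁, A.1.toBlocks₂₂.transpose, mul_eq_one_comm.mp h4, h4⟩, ?_⟩
    apply Subtype.ext
    apply Subtype.ext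
    show Matrix.fromBlocks A.1.toBlocks₁₁ 0 0 A.1.toBlocks₂₂.transpose.transpose = A.1
    conv_rhs => rw [← Matrix.fromBlocks_toBlocks A.1, e1, e2]
    rw [Matrix.transpose_transpose]

end Cfsg.Agent.S0778
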