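import Cfsg.Statements.S0779
import Cfsg.Agent.Lib.ClassicalGroups.HermBasic

set_option autoImplicit false
open Cfsg

namespace Cfsg.Agent.S0779

/-- Unitary transvections: let |F| = q², h the standard Hermitian form Σ x_i y_i^q and v ≠ 0 with h(v, v) = 0. The linear map x ↦ x + c h(x, v) v is an isometry of h if and only if c = 0 or c^(q−1) = −1. -/
theorem result {F : Type*} [Field F] [Fintype F] {q : ℕ} (hF : Fintype.card F = q ^ 2) (n : ℕ) (v : Fin n → F) (hv : v ≠ 0) (hv0 : Cfsg.hermForm n F q v v = 0) (c : F) : (∀ x y : Fin n → F, Cfsg.hermForm n F q ((Cfsg.unitaryTransvection n q v c).mulVec x) ((Cfsg.unitaryTransvection n q v c).mulVec y) = Cfsg.hermForm n F q x y) ↔ (c = 0 ∨ c ^ (q - 1) = -1) := by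
  have hq := CfsgLib.ClassicalGroups.herm_two_le hF
  let h : (Fin n → F) → (Fin n → F) → F := Cfsg.hermForm n F q
  have happ : ∀ x, (Cfsg.unitaryTransvection n q v c).mulVec x = x + (c * h x v) • v := fun x => by
    rw [Cfsg.unitaryTransvection, Matrix.add_mulVec, Matrix.one_mulVec, Matrix.smul_mulVec,
      Matrix.vecMulVec_mulVec, op_smul_eq_smul, smul_smul, dotProduct_comm]
    rfl
  have addr : ∀ x y z, h x (y + z) = h x y + h x z := fun x y z => by
    have := CfsgLib.ClassicalGroups.hermForm_sub_right hF n x (y + z) z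
    rw [add_sub_cancel_right] at this
    simp only [h] at *
    linear_combination -this
  have key : ∀ x y, h (x + (c * h x v) • v) (y + (c * h y v) • v) - h x y
      = (c + c ^ q) * h x v * h y v ^ q := fun x y => by
    have hvy : h v y = h y v ^ q := CfsgLib.ClassicalGroups.hermForm_symm hF n y v
    simp only [h] at *
    simp only [addr, CfsgLib.ClassicalGroups.hermForm_add_left, CfsgLib.ClassicalGroups.hermForm_smul_left,
      CfsgLib.ClassicalGroups.hermForm_smul_right, hv0, hvy, mul_pow]
    ring
  have hiff : c + c ^ q = 0 ↔ (c = 0 ∨ c ^ (q - 1) = -1) := by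
    have : c ^ q = c ^ (q - 1) * c := by rw [← pow_succ]; congr 1; omega
    rw [this]
    constructor
    · intro hh
      have : c * (1 + c ^ (q - 1)) = 0 := by linear_combination hh
      rcases mul_eq_zero.mp this with h0 | h0
      · exact .inl h0
      · exact .inr (by linear_combination h0)
    · rintro (rfl | hh)
      · simp
      · rw [hh]; ring
  rw [← hiff]
  constructor
  · intro hiso
    obtain ⟨i, hi⟩ := Function.ne_iff.mp hv
    let x : Fin n → F := Pi.single i 1
    have hx : h x v ≠ 0 := by
      have hq0 : q ≠ 0 := by omega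
      simpa [h, x, Cfsg.hermForm, Pi.single_apply, hq0] using (show v i ≠ 0 from hi)
    have hk := key x x
    rw [← happ, show h ((Cfsg.unitaryTransvection n q v c).mulVec x) ((Cfsg.unitaryTransvection n q v c).mulVec x) = h x x
      from hiso x x, sub_self] at hk
    have : (c + c ^ q) * (h x v * h x v ^ q) = 0 := by linear_combination -hk
    exact (mul_eq_zero.mp this).resolve_right (mul_ne_zero hx (pow_ne_zero _ hx))
  · intro hc x y
    have hk := key x y
    rw [hc, zero_mul, zero_mul, sub_eq_zero, ← happ, ← happ] at hk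
    exact hk

end Cfsg.Agent.S0779
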