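import Cfsg.Statements.S0781
import Cfsg.Agent.Lib.Unitary.Bridge

set_option autoImplicit false
open Cfsg

namespace Cfsg.Agent.S0781

/-- In SU_n(q) with n ≥ 4, or n = 3 and q > 2, every element whose matrix is a unitary transvection x ↦ x + c h(x, v) v (v isotropic) is a commutator ⁅B, C⁆ of two elements of SU_n(q). -/
theorem result {F : Type*} [Field F] [Fintype F] {q : ℕ} (hF : Fintype.card F = q ^ 2) (n : ℕ) (hn : 4 ≤ n ∨ (n = 3 ∧ 3 ≤ q)) (A : ↥(Cfsg.SU n F q)) (v : Fin n → F) (c : F) (hv0 : Cfsg.hermForm n F q v v = 0) (hA : ((A : Matrix.SpecialLinearGroup (Fin n) F) : Matrix (Fin n) (Fin n) F) = Cfsg.unitaryTransvection n q v c) : A ∈ commutatorSet ↥(Cfsg.SU n F q) := by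
  obtain ⟨τ, hτ, hne, h2⟩ := CfsgLib.UnitaryEmbed.exists_conj hF
  have hB := CfsgLib.Unitary.hform_herm (n := n) hF hτ hne h2
  set B := CfsgLib.UnitaryEmbed.hermSesq n τ
  have hA' : ∀ x, CfsgLib.Unitary.suEquiv n F q A x = x + (c * B v x) • v := fun x => by
    rw [CfsgLib.Unitary.suEquiv_apply, hA, CfsgLib.Unitary.unitaryTransvection_mulVec hτ]
  have one_mem : ∀ x : ↥(Cfsg.SU n F q), x = 1 → x ∈ commutatorSet ↥(Cfsg.SU n F q) := fun x hx =>
    ⟨1, 1, by simp [hx, commutatorElement_def]⟩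
  by_cases htriv : c = 0 ∨ v = 0
  · refine one_mem A (CfsgLib.Unitary.suEquiv_injective (LinearEquiv.ext fun x => ?_))
    rw [hA', map_one]
    rcases htriv with h | h <;> simp [h]
  push Not at htriv
  obtain ⟨hc0, hv⟩ := htriv
  have hvv : B v v = 0 := by
    rw [CfsgLib.UnitaryEmbed.hermSesq_apply τ hτ, hv0]
  obtain ⟨w, hw, hvw⟩ := CfsgLib.Unitary.exists_partner hB hv hvv
  have hwv : B w v = 1 := by rw [← hB.symm, hvw, map_one]
  have hskew : c + τ c = 0 := by
    have e : B _ _ = B w w := (CfsgLib.Unitary.suEquiv_isSIsom hτ A).1 w w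
    rw [hA' w, hvw] at e
    simp only [map_add, map_smulₛₗ, LinearMap.add_apply, LinearMap.smul_apply, hw, hvv, hvw, hwv,
      smul_eq_mul, RingHom.id_apply, mul_one] at e
    linear_combination e
  obtain ⟨a, hva, -, haa⟩ := CfsgLib.Unitary.exists_aniso_perp_pair hB
    (by rw [Module.finrank_fin_fun]; omega) hvv hw hvw
  obtain ⟨μ, hμ⟩ := CfsgLib.Forms.exists_trace_eq hB.ne hB.invol (-1) (by simp)
  let d := c / B a a
  let l := d * μ
  have haas : τ (B a a) = B a a := hB.symm a a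
  have hl : τ l - l = d := by
    simp only [l, d, map_mul, map_div₀, haas, eq_neg_of_add_eq_zero_right hskew]
    field_simp
    linear_combination -hμ
  obtain ⟨b₁, hb₁⟩ := CfsgLib.Forms.exists_trace_eq hB.ne hB.invol (-B a a) (by rw [map_neg, haas])
  obtain ⟨b₂, hb₂⟩ := CfsgLib.Forms.exists_trace_eq hB.ne hB.invol (-B (l • a) (l • a))
    (by rw [map_neg, hB.symm])
  have hla : B v (l • a) = 0 := by simp [hva]
  obtain ⟨g, hg, hgi⟩ := CfsgLib.Unitary.exists_isQ hB v a b₁ hvv hva hb₁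
  obtain ⟨h, hh, hhi⟩ := CfsgLib.Unitary.exists_isQ hB v (l • a) b₂ hvv hla hb₂
  have hcomm : g * h = CfsgLib.Unitary.suEquiv n F q A * (h * g) := by
    have e1 := CfsgLib.Unitary.isQ_mul hB hvv hva hla hg hh
    have e2 := CfsgLib.Unitary.isQ_mul hB hvv hla hva hh hg
    have e3 := CfsgLib.Unitary.isQ_mul hB hvv (map_zero (B v)) (by simp [hva]) ((CfsgLib.Unitary.isTv_isQ).mpr hA') e2
    refine CfsgLib.Unitary.isQ_ext e1 ?_
    have h1 : (0 : Fin n → F) + (l • a + a) = a + l • a := by abel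
    have h2 : c + (b₂ + b₁ - B (l • a) a) - B 0 (l • a + a) = b₁ + b₂ - B a (l • a) := by
      have hd : d * B a a = c := div_mul_cancel₀ c haa
      simp only [map_zero, LinearMap.zero_apply, map_smulₛₗ, LinearMap.smul_apply, smul_eq_mul,
        RingHom.id_apply, sub_zero]
      linear_combination (-B a a) * hl - hd
    rwa [h1, h2] at e3
  obtain ⟨G, rfl⟩ := CfsgLib.Unitary.exists_suEquiv hτ hgi
  obtain ⟨H, rfl⟩ := CfsgLib.Unitary.exists_suEquiv hτ hhi
  rw [← map_mul, ← map_mul, ← map_mul] at hcomm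
  have e := CfsgLib.Unitary.suEquiv_injective hcomm
  exact ⟨G, H, by rw [commutatorElement_def, e]; group⟩

end Cfsg.Agent.S0781
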