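import Cfsg.Statements.S0782
import Cfsg.Agent.Lib.Unitary.Frames

set_option autoImplicit false
open Cfsg

namespace Cfsg.Agent.S0782

/-- Maximal parabolics of SU_n(q): if W is a k-dimensional subspace of F^n (n ≥ 1, |F| = q²) on which the Hermitian form vanishes, then (q + 1) times the order of its stabiliser in SU_n(q) equals q^(k(2n−3k)) · |GL_k(q²)| · |GU_(n−2k)(q)|, where |GU_m(q)| = q^(m(m−1)/2) Π_(i=1..m) (q^i − (−1)^i). -/
theorem result {F : Type*} [Field F] [Fintype F] {q : ℕ} (hF : Fintype.card F = q ^ 2) (n k : ℕ) (hn : 1 ≤ n) (hk : 2 * k ≤ n) (W : Submodule F (Fin n → F)) (hWk : Module.finrank F W = k) (hW : ∀ u ∈ W, ∀ v ∈ W, Cfsg.hermForm n F q u v = 0) : (q + 1) * Nat.card ↥((Cfsg.stabilizing (Cfsg.slToMat n F) (W : Set (Fin n → F))).subgroupOf (Cfsg.SU n F q)) = q ^ (k * (2 * n - 3 * k)) * (∏ i : Fin k, ((q ^ 2) ^ k - (q ^ 2) ^ (i : ℕ))) * (q ^ ((n - 2 * k) * ((n - 2 * k) - 1) / 2) * ∏ i ∈ Finset.range (n - 2 * k), (if Even i then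 q ^ (i + 1) + 1 else q ^ (i + 1) - 1)) := by
  obtain ⟨τ, hτ, hne, h2⟩ := CfsgLib.UnitaryEmbed.exists_conj hF
  have hB := CfsgLib.Unitary.hform_herm (n := n) hF hτ hne h2
  set B := CfsgLib.UnitaryEmbed.hermSesq n τ with hBdef
  have hW' : ∀ u ∈ W, ∀ v ∈ W, B u v = 0 := fun u hu v hv => by
    rw [hBdef, CfsgLib.UnitaryEmbed.hermSesq_apply τ hτ]; exact hW v hv u hu
  have hdim : Module.finrank F (Fin n → F) = 2 * k + (n - 2 * k) := by rw [Module.finrank_fin_fun]; omega
  have hcard := CfsgLib.Unitary.card_stabW hB hF hτ W hWk hW' hdim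
  rw [CfsgLib.Unitary.card_bases (B := B) hB hF W hWk, CfsgLib.ClassicalGroups.card_GU hF,
    show k * k + 2 * (n - 2 * k) * k = k * (2 * n - 3 * k) by
      obtain ⟨d, rfl⟩ : ∃ d, n = 2 * k + d := ⟨n - 2 * k, by omega⟩
      rw [Nat.add_sub_cancel_left, show 2 * (2 * k + d) - 3 * k = k + 2 * d by omega]
      ring] at hcard
  rw [mul_comm (q ^ (k * (2 * n - 3 * k))), ← hcard]
  let D : CfsgLib.Unitary.stabW B W →* Fˣ := LinearEquiv.det.comp (CfsgLib.Unitary.stabW B W).subtype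
  have hDval : ∀ g, ((D g : Fˣ) : F) = LinearMap.det ((g.1 : (Fin n → F) ≃ₗ[F] (Fin n → F)) : (Fin n → F) →ₗ[F] (Fin n → F)) :=
    fun g => LinearEquiv.coe_det _
  -- the image of the determinant is the norm-one group
  have hrange : D.range = (powMonoidHom (q + 1) : Fˣ →* Fˣ).ker := by
    refine le_antisymm ?_ ?_
    · rintro _ ⟨g, rfl⟩
      obtain ⟨G, hG⟩ := CfsgLib.ClassicalGroups.exists_GU_of_preserving hF
        (g.1 : (Fin n → F) →ₗ[F] (Fin n → F)) (fun u v => by
          rw [← CfsgLib.UnitaryEmbed.hermSesq_apply τ hτ, ← CfsgLib.UnitaryEmbed.hermSesq_apply τ hτ]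
          exact g.2.1 v u)
      have hdet := CfsgLib.UnitaryEmbed.gu_det_norm τ hτ G
      refine Units.ext ?_
      show ((D g : Fˣ) : F) ^ (q + 1) = 1
      rw [hDval, show (g.1 : (Fin n → F) →ₗ[F] (Fin n → F)) = Matrix.toLin' G.1.val from
        LinearMap.ext fun x => (hG x).symm, LinearMap.det_toLin']
      exact hdet
    · intro μ hμ
      have hμ' : τ (μ : F) * μ = 1 := by
        rw [hτ, ← pow_succ]; exact congrArg Units.val hμ
      suffices h : ∃ f : (Fin n → F) →ₗ[F] (Fin n → F), (∀ u v, B (f u) (f v) = B u v) ∧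
          (∀ v ∈ W, f v ∈ W) ∧ LinearMap.det f = μ by
        obtain ⟨f, hf1, hf2, hf3⟩ := h
        let g := CfsgLib.Forms.sesqIsoOfPreserves B hB.nondeg f hf1
        have hgW : ∀ v, v ∈ W ↔ g v ∈ W := fun v => by
          have heq : W.map g.toLinearMap = W :=
            Submodule.eq_of_le_of_finrank_eq (Submodule.map_le_iff_le_comap.mpr hf2)
              (LinearEquiv.finrank_map_eq _ _)
          refine ⟨hf2 v, fun hv => ?_⟩
          rw [← heq] at hv
          obtain ⟨w, hw, hwv⟩ := hv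
          rwa [← g.injective hwv]
        exact ⟨⟨g, ⟨hf1, hgW⟩⟩, Units.ext ((hDval _).trans hf3)⟩
      have : Nonempty (Fin n) := ⟨⟨0, hn⟩⟩
      have : Nontrivial (Fin n → F) := inferInstance
      exact CfsgLib.Unitary.exists_det_stab hB W hW' hμ'
  -- the special stabiliser is the kernel
  have hker : Nat.card D.ker = Nat.card ↥((Cfsg.stabilizing (Cfsg.slToMat n F)
      (W : Set (Fin n → F))).subgroupOf (Cfsg.SU n F q)) := by
    rw [CfsgLib.Unitary.card_su_stab hτ W]
    exact Nat.card_congr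
      { toFun := fun g => ⟨g.1.1, g.1.2, (hDval g.1).symm.trans (congrArg Units.val (MonoidHom.mem_ker.mp g.2))⟩
        invFun := fun g => ⟨⟨g.1, g.2.1⟩, MonoidHom.mem_ker.mpr (Units.ext ((hDval _).trans g.2.2))⟩
        left_inv := fun _ => rfl
        right_inv := fun _ => rfl }
  rw [← hker, ← D.ker.card_mul_index, Subgroup.index_ker, hrange,
    CfsgLib.ClassicalGroups.card_norm_one_units hF, mul_comm]

end Cfsg.Agent.S0782
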