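import Cfsg.Statements.S0783
-- import your own Cfsg.Agent.* helpers here
import Cfsg.Agent.Lib.ClassicalGroups.HermGroup

set_option autoImplicit false
open Cfsg

namespace Cfsg.Agent.S0783

open CfsgLib.ClassicalGroups Matrix in
/-- central elements of `GU_n` are scalar -/
theorem center_GU_scalar {F : Type*} [Field F] [Fintype F] {q : ℕ} (hF : Fintype.card F = q ^ 2)
    {n : ℕ} (z : Cfsg.GU n F q) (hz : z ∈ Subgroup.center (Cfsg.GU n F q)) (k l : Fin n) :
    (k ≠ l → z.1.val k l = 0) ∧ z.1.val k k = z.1.val l l := by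
  classical
  obtain ⟨a, ha, ha2⟩ := exists_norm_one_sq_ne hF
  have ha1 : a ≠ 1 := fun h => ha2 (by rw [h, mul_one])
  have ha0 : a ≠ 0 := fun h => by simp [h] at ha
  have hcomm : ∀ g : Cfsg.GU n F q, g.1.val * z.1.val = z.1.val * g.1.val := fun g => by
    have h := congrArg (fun x : Cfsg.GU n F q => x.1.val) (Subgroup.mem_center_iff.1 hz g)
    simpa using h
  rcases eq_or_ne k l with rfl | hkl
  · exact ⟨fun h => absurd rfl h, rfl⟩
  refine ⟨fun _ => ?_, ?_⟩
  · let d : Fin n → F := fun i => if i = k then a else 1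
    have hd : (diagonal d).det ≠ 0 := by
      rw [det_diagonal]
      exact Finset.prod_ne_zero_iff.2 fun i _ => by simp only [d]; split_ifs <;> simp [ha0]
    let g : GL (Fin n) F := GeneralLinearGroup.mkOfDetNeZero (diagonal d) hd
    have h := congrFun (congrFun (hcomm ⟨g, diagonal_mem_GU d (fun i => by
      simp only [d]; split_ifs <;> simp [ha]) g rfl⟩) k) l
    change (diagonal d * z.1.val) k l = (z.1.val * diagonal d) k l at h
    rw [diagonal_mul, mul_diagonal] at h
    simp only [d, if_pos rfl, if_neg hkl.symm] at h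
    by_contra hne
    exact ha1 (mul_right_cancel₀ hne (by rw [h, one_mul, mul_one]))
  · let σ : Equiv.Perm (Fin n) := Equiv.swap k l
    let P : Matrix (Fin n) (Fin n) F := Matrix.of fun i j => if σ i = j then 1 else 0
    have hPv : ∀ (x : Fin n → F) i, (P *ᵥ x) i = x (σ i) := fun x i => by
      simp [P, Matrix.mulVec, dotProduct]
    have hPP : P * P = 1 := by
      refine Matrix.ext_of_mulVec_single fun j => funext fun i => ?_
      rw [← Matrix.mulVec_mulVec, hPv, hPv, Matrix.one_mulVec]
      simp [σ]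
    let g : GL (Fin n) F := ⟨P, P, hPP, hPP⟩
    have hg : g ∈ Cfsg.GU n F q := by
      rw [mem_GU_iff]
      intro u v
      simp only [Cfsg.hermForm, g, hPv]
      exact Equiv.sum_comp σ (fun i => u i * v i ^ q)
    have h := congrFun (congrFun (hcomm ⟨g, hg⟩) k) l
    change (P * z.1.val) k l = (z.1.val * P) k l at h
    have hl : σ.symm l = k := by simp [σ]
    simp only [Matrix.mul_apply, P, Matrix.of_apply, ite_mul, one_mul, zero_mul, mul_ite, mul_one,
      mul_zero, Finset.sum_ite_eq, Finset.mem_univ, if_true] at h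
    rw [Finset.sum_eq_single k] at h
    · simpa [σ] using h.symm
    · intro j _ hj
      rw [if_neg]
      intro hj'
      exact hj (by rw [← hl, ← hj', Equiv.symm_apply_apply])
    · simp


/-- PGU_n(q)/PSU_n(q) is cyclic of order (n, q+1): for n ≥ 2 and |F| = q² there is a surjective homomorphism from GU_n(q) onto the cyclic group of order gcd(n, q + 1) whose kernel is generated by the determinant-one elements together with the centre. -/
theorem result {F : Type*} [Field F] [Fintype F] {q : ℕ} (hF : Fintype.card F = q ^ 2) (n : ℕ) (hn : 2 ≤ n) : ∃ φ : ↥(Cfsg.GU n F q) →* Multiplicative (ZMod (Nat.gcd n (q + 1))), Function.Surjective φ ∧ φ.ker = (Matrix.GeneralLinearGroup.det : Matrix.GeneralLinearGroup (Fin n) F →* Fˣ).ker.subgroupOf (Cfsg.GU n F q) ⊔ Subgroup.center ↥(Cfsg.GU n F q) := by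
  classical
  set K : Subgroup Fˣ := (powMonoidHom (q + 1) : Fˣ →* Fˣ).ker
  have hK : Nat.card K = q + 1 := CfsgLib.ClassicalGroups.card_norm_one_units hF
  let N : Subgroup K := (powMonoidHom n : K →* K).range
  have hN : Nat.card (K ⧸ N) = Nat.gcd n (q + 1) := by
    change N.index = _
    rw [IsCyclic.index_powMonoidHom_range, hK, Nat.gcd_comm]
  have hcZ : Nat.card (Multiplicative (ZMod (Nat.gcd n (q + 1)))) = Nat.gcd n (q + 1) := by
    rw [Nat.card_congr Multiplicative.toAdd, Nat.card_zmod]
  have : IsCyclic (K ⧸ N) := isCyclic_of_surjective _ (QuotientGroup.mk'_surjective N)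
  let e : (K ⧸ N) ≃* Multiplicative (ZMod (Nat.gcd n (q + 1))) :=
    mulEquivOfCyclicCardEq (hN.trans hcZ.symm)
  let δ : Cfsg.GU n F q →* K :=
    (Matrix.GeneralLinearGroup.det.comp (Cfsg.GU n F q).subtype).codRestrict K
      fun g => CfsgLib.ClassicalGroups.GU_det_pow hF g
  let φ : Cfsg.GU n F q →* Multiplicative (ZMod (Nat.gcd n (q + 1))) :=
    e.toMonoidHom.comp ((QuotientGroup.mk' N).comp δ)
  -- a diagonal element of prescribed determinant
  have hdiag : ∀ (c : K), ∃ g : Cfsg.GU n F q, δ g = c ∧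
      g.1.val = Matrix.diagonal (fun i => if i = ⟨0, by omega⟩ then ((c : Fˣ) : F) else 1) := by
    intro c
    have hc : ((c : Fˣ) : F) ^ (q + 1) = 1 := congrArg Units.val (show (c : Fˣ) ^ (q + 1) = 1 from c.2)
    let d : Fin n → F := fun i => if i = ⟨0, by omega⟩ then ((c : Fˣ) : F) else 1
    have hdet : (Matrix.diagonal d).det = ((c : Fˣ) : F) := by
      rw [Matrix.det_diagonal]; simp [d, Finset.prod_ite_eq']
    let g := Matrix.GeneralLinearGroup.mkOfDetNeZero (Matrix.diagonal d) (by rw [hdet]; exact (c : Fˣ).ne_zero)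
    exact ⟨⟨g, CfsgLib.ClassicalGroups.diagonal_mem_GU d
      (fun i => by simp only [d]; split_ifs <;> simp [hc]) g rfl⟩,
      Subtype.ext (Units.ext hdet), rfl⟩
  have hφ : ∀ g, g ∈ φ.ker ↔ δ g ∈ N := fun g => by
    simp [φ, MonoidHom.mem_ker, QuotientGroup.eq_one_iff]
  refine ⟨φ, ?_, le_antisymm ?_ ?_⟩
  · refine e.surjective.comp ((QuotientGroup.mk'_surjective N).comp fun c => ?_)
    obtain ⟨g, hg, -⟩ := hdiag c
    exact ⟨g, hg⟩
  · intro g hg
    obtain ⟨c, hc⟩ := (hφ g).1 hg
    have hc1 : ((c : Fˣ) : F) ^ (q + 1) = 1 := congrArg Units.val (show (c : Fˣ) ^ (q + 1) = 1 from c.2)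
    let zc : GL (Fin n) F := Matrix.GeneralLinearGroup.mkOfDetNeZero
      (Matrix.diagonal fun _ => ((c : Fˣ) : F)) (by simp [Matrix.det_diagonal])
    let z : Cfsg.GU n F q := ⟨zc, CfsgLib.ClassicalGroups.diagonal_mem_GU _ (fun _ => hc1) zc rfl⟩
    have hz : z ∈ Subgroup.center (Cfsg.GU n F q) := Subgroup.mem_center_iff.2 fun x =>
      Subtype.ext (Units.ext (Matrix.scalar_commute ((c : Fˣ) : F) (fun r => Commute.all _ _) x.1.val).eq.symm)
    have hgz : g * z⁻¹ ∈ (Matrix.GeneralLinearGroup.det : Matrix.GeneralLinearGroup (Fin n) F →* Fˣ).ker.subgroupOf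
        (Cfsg.GU n F q) := by
      rw [Subgroup.mem_subgroupOf, MonoidHom.mem_ker]
      have h1 : δ z = c ^ n := Subtype.ext (Units.ext (by
        show (Matrix.diagonal fun _ : Fin n => ((c : Fˣ) : F)).det = _
        simp [Matrix.det_diagonal]))
      have h2 : δ (g * z⁻¹) = 1 := by
        rw [map_mul, map_inv, h1, ← hc]; simp
      exact congrArg Subtype.val h2
    rw [show g = (g * z⁻¹) * z by group]
    exact mul_mem (Subgroup.mem_sup_left hgz) (Subgroup.mem_sup_right hz)
  · refine sup_le (fun g hg => (hφ g).2 ?_) (fun z hz => (hφ z).2 ?_)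
    · rw [show δ g = 1 from Subtype.ext (Subgroup.mem_subgroupOf.1 hg)]
      exact one_mem N
    · let k0 : Fin n := ⟨0, by omega⟩
      have hval : z.1.val = Matrix.diagonal fun _ => z.1.val k0 k0 := by
        ext i j
        rcases eq_or_ne i j with rfl | hij
        · rw [Matrix.diagonal_apply_eq, (center_GU_scalar hF z hz i k0).2]
        · rw [Matrix.diagonal_apply_ne _ hij, (center_GU_scalar hF z hz i j).1 hij]
      set l := z.1.val k0 k0
      have hl : l ^ (q + 1) = 1 := by
        have h := CfsgLib.ClassicalGroups.mem_GU_iff.1 z.2 (Pi.single k0 1) (Pi.single k0 1)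
        rw [hval] at h
        simp only [Cfsg.hermForm, Matrix.mulVec_diagonal, Pi.single_apply, mul_ite, mul_one,
          mul_zero] at h
        have hq : q ≠ 0 := by have := CfsgLib.ClassicalGroups.herm_two_le hF; omega
        simpa [ite_pow, zero_pow hq, pow_succ'] using h
      have hl0 : l ≠ 0 := fun h => by simp [h] at hl
      refine ⟨⟨Units.mk0 l hl0, Units.ext (by simpa using hl)⟩, Subtype.ext (Units.ext ?_)⟩
      show l ^ n = z.1.val.det
      rw [hval, Matrix.det_diagonal, Finset.prod_const, Finset.card_univ, Fintype.card_fin]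

end Cfsg.Agent.S0783
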