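import Cfsg.Statements.S0786
-- import your own Cfsg.Agent.* helpers here
import Cfsg.Agent.Lib.Orth.Omega

set_option autoImplicit false
open Cfsg

namespace Cfsg.Agent.S0786

/-- Generation by reflections: if F is finite, Q is a quadratic form on F^n with non-degenerate polar form, and (|F|, n) ≠ (2, 4), then the isometry group of Q is generated by the reflections r_v, Q(v) ≠ 0. -/
theorem result {F : Type*} [Field F] [Fintype F] {n : ℕ} (Q : QuadraticForm F (Fin n → F)) (hQ : (QuadraticMap.polarBilin Q).Nondegenerate) (h : Fintype.card F ≠ 2 ∨ n ≠ 4) : Subgroup.closure {g : ↥(Cfsg.isometryGroup F ⇑Q) | ∃ v : Fin n → F, Q v ≠ 0 ∧ ((g : Matrix.GeneralLinearGroup (Fin n) F) : Matrix (Fin n) (Fin n) F) = Cfsg.reflectionMatrix ⇑Q v} = ⊤ := by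
  classical
  have hcond : (∃ p : F, p ≠ 0 ∧ p ≠ 1) ∨ Fintype.card (Fin n) ≠ 4 := by
    rcases h with h | h
    · refine Or.inl ?_
      by_contra hc
      push Not at hc
      have h2 : (Finset.univ : Finset F) ⊆ {0, 1} := fun x _ => by
        rcases eq_or_ne x 0 with hx | hx
        · simp [hx]
        · simp [hc x hx]
      have := Finset.card_le_card h2
      have := Finset.card_le_two (a := (0 : F)) (b := 1)
      have := Fintype.one_lt_card (α := F)
      rw [Finset.card_univ] at *
      omega
    · exact Or.inr (by simpa using h)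
  refine top_le_iff.1 ?_
  rw [← CfsgLib.Orth.reflClosure_eq_top hQ hcond]
  refine (Subgroup.closure_le _).2 ?_
  rintro _ ⟨v, rfl⟩
  rcases eq_or_ne (Q v) 0 with hv | hv
  · rw [CfsgLib.Orth.refl_eq_one hv]; exact Subgroup.one_mem _
  · exact Subgroup.subset_closure ⟨v, hv, CfsgLib.Orth.coe_refl Q v⟩

end Cfsg.Agent.S0786
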