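import Cfsg.Statements.S0787
-- import your own Cfsg.Agent.* helpers here
import Cfsg.Agent.Lib.Orth.SO

set_option autoImplicit false
open Cfsg

namespace Cfsg.Agent.S0787

/-- Existence and uniqueness of Ω: if F is finite, n ≥ 2, Q is a quadratic form on F^n with non-degenerate polar form and (|F|, n) ≠ (2, 4), then the group of isometries of determinant one has a unique subgroup of index 2. -/
theorem result {F : Type*} [Field F] [Fintype F] {n : ℕ} (hn : 2 ≤ n) (Q : QuadraticForm F (Fin n → F)) (hQ : (QuadraticMap.polarBilin Q).Nondegenerate) (h : Fintype.card F ≠ 2 ∨ n ≠ 4) : ∃! H : Subgroup ↥(Cfsg.specialIsometryGroup F ⇑Q), H.index = 2 := by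
  classical
  by_cases h2 : (2 : F) = 0
  · have : CharP F 2 := CharTwo.of_one_ne_zero_of_two_eq_zero one_ne_zero h2
    have hcond : (∃ p : F, p ≠ 0 ∧ p ≠ 1) ∨ Fintype.card (Fin n) ≠ 4 := by
      rcases h with h | h
      · refine Or.inl ?_
        by_contra hc
        push Not at hc
        have h2 : (Finset.univ : Finset F) ⊆ {0, 1} := fun x _ => by
          rcases eq_or_ne x 0 with hx | hx
          · simp [hx]
          · simp [hc x hx]
        have := Finset.card_le_card h2
        have := Finset.card_le_two (a := (0 : F)) (b := 1)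
        have := Fintype.one_lt_card (α := F)
        rw [Finset.card_univ] at *
        omega
      · exact Or.inr (by simpa using h)
    have hgen := CfsgLib.Orth.reflClosure_eq_top hQ hcond
    have hSO : CfsgLib.Orth.SO Q = ⊤ := (Subgroup.eq_top_iff' _).2 fun g => by
      rw [CfsgLib.Orth.mem_SO]
      rcases CfsgLib.Orth.det_eq_one_or hQ g with h | h
      · exact h
      · rw [h]; exact Units.ext (CharTwo.neg_eq 1)
    have hsurj : Function.Surjective (CfsgLib.Orth.SO Q).subtype :=
      fun g => ⟨⟨g, hSO ▸ Subgroup.mem_top g⟩, rfl⟩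
    have hinj : Function.Injective (CfsgLib.Orth.SO Q).subtype := Subtype.val_injective
    have hidx := CfsgLib.Orth.index_commutator_char_two hQ hgen
      (by rw [Fintype.card_fin]; omega)
    refine ⟨(commutator ↥(CfsgLib.Orth.O Q)).subgroupOf (CfsgLib.Orth.SO Q), ?_, fun H hH => ?_⟩
    · exact (Subgroup.index_comap_of_surjective _ hsurj).trans hidx
    · have : H.Normal := Subgroup.normal_of_index_eq_two hH
      have hc : Nat.card (↥(CfsgLib.Orth.SO Q) ⧸ H) = 2 := hH
      have : Fact (Nat.Prime 2) := ⟨Nat.prime_two⟩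
      have : IsCyclic (↥(CfsgLib.Orth.SO Q) ⧸ H) := isCyclic_of_prime_card hc
      let := IsCyclic.commGroup (α := ↥(CfsgLib.Orth.SO Q) ⧸ H)
      have hle : commutator ↥(CfsgLib.Orth.SO Q) ≤ H :=
        (Abelianization.commutator_subset_ker (QuotientGroup.mk' H)).trans
          (le_of_eq (QuotientGroup.ker_mk' H))
      refine CfsgLib.Orth.eq_of_le_of_index_eq ?_
        ((Subgroup.index_comap_of_surjective _ hsurj).trans (hidx.trans hH.symm)) (by omega)
      rw [commutator_def, ← Subgroup.map_top_of_surjective _ hsurj, ← Subgroup.map_commutator,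
        ← commutator_def]
      rw [Subgroup.subgroupOf, Subgroup.comap_map_eq_self_of_injective hinj]
      exact hle
  · obtain ⟨d, hd⟩ := FiniteField.exists_nonsquare (F := F) fun hch => by
      have : CharP F 2 := ringChar.of_eq hch
      exact h2 CharTwo.two_eq_zero
    have hn' : 2 ≤ Fintype.card (Fin n) := by simpa using hn
    exact ⟨_, CfsgLib.Orth.index_chi_SO hQ h2 hn' hd, fun H hH =>
      CfsgLib.Orth.SO_index_two_unique hQ h2 hn' hd hH⟩

end Cfsg.Agent.S0787
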