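import Cfsg.Statements.S0789
-- import your own Cfsg.Agent.* helpers here
import Cfsg.Agent.Lib.Orth.CharTwo

set_option autoImplicit false
open Cfsg

namespace Cfsg.Agent.S0789

/-- Ω has index 2 in O for q even: if F is finite of characteristic two, n ≥ 2, Q is a quadratic form on F^n with non-degenerate polar form, and (|F|, n) ≠ (2, 4), then the commutator subgroup of the isometry group of Q has index 2 in it. -/
theorem result {F : Type*} [Field F] [Fintype F] [CharP F 2] {n : ℕ} (hn : 2 ≤ n) (Q : QuadraticForm F (Fin n → F)) (hQ : (QuadraticMap.polarBilin Q).Nondegenerate) (h : Fintype.card F ≠ 2 ∨ n ≠ 4) : (Cfsg.Omega F ⇑Q).index = 2 := by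
  classical
  have hcond : (∃ p : F, p ≠ 0 ∧ p ≠ 1) ∨ Fintype.card (Fin n) ≠ 4 := by
    rcases h with h | h
    · refine Or.inl ?_
      by_contra hc
      push Not at hc
      have h2 : (Finset.univ : Finset F) ⊆ {0, 1} := fun x _ => by
        rcases eq_or_ne x 0 with hx | hx
        · simp [hx]
        · simp [hc x hx]
      have := Finset.card_le_card h2
      have := Finset.card_le_two (a := (0 : F)) (b := 1)
      have := Fintype.one_lt_card (α := F)
      rw [Finset.card_univ] at *
      omega
    · exact Or.inr (by simpa using h)
  exact CfsgLib.Orth.index_commutator_char_two hQ (CfsgLib.Orth.reflClosure_eq_top hQ hcond)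
    (by rw [Fintype.card_fin]; omega)

end Cfsg.Agent.S0789
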