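import Cfsg.Statements.S0792
-- import your own Cfsg.Agent.* helpers here
import Cfsg.Agent.Lib.Orth.SO

set_option autoImplicit false
open Cfsg

namespace Cfsg.Agent.S0792

/-- For q odd and Q with non-degenerate polar form on F^n, the determinant-one isometries form the subgroup generated by all products r_u r_v of two reflections (Q(u), Q(v) ≠ 0). -/
theorem result {F : Type*} [Field F] [Fintype F] (h2 : (2 : F) ≠ 0) {n : ℕ} (Q : QuadraticForm F (Fin n → F)) (hQ : (QuadraticMap.polarBilin Q).Nondegenerate) : Cfsg.specialIsometryGroup F ⇑Q = Subgroup.closure {g : ↥(Cfsg.isometryGroup F ⇑Q) | ∃ u v : Fin n → F, Q u ≠ 0 ∧ Q v ≠ 0 ∧ ((g : Matrix.GeneralLinearGroup (Fin n) F) : Matrix (Fin n) (Fin n) F) = Cfsg.reflectionMatrix ⇑Q u * Cfsg.reflectionMatrix ⇑Q v} := by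
  classical
  set S := {g : ↥(Cfsg.isometryGroup F ⇑Q) | ∃ u v : Fin n → F, Q u ≠ 0 ∧ Q v ≠ 0 ∧
    ((g : Matrix.GeneralLinearGroup (Fin n) F) : Matrix (Fin n) (Fin n) F) =
      Cfsg.reflectionMatrix ⇑Q u * Cfsg.reflectionMatrix ⇑Q v}
  have hmem : ∀ u v : Fin n → F, Q u ≠ 0 → Q v ≠ 0 →
      CfsgLib.Orth.refl Q u * CfsgLib.Orth.refl Q v ∈ Subgroup.closure S := fun u v hu hv =>
    Subgroup.subset_closure ⟨u, v, hu, hv, by
      rw [Subgroup.coe_mul, Units.val_mul, CfsgLib.Orth.coe_refl, CfsgLib.Orth.coe_refl]⟩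
  refine le_antisymm (fun g hg => ?_) ?_
  · -- every isometry is in the subgroup or becomes so after one reflection
    have key : g ∈ Subgroup.closure S ∨ ∃ v, Q v ≠ 0 ∧ CfsgLib.Orth.refl Q v * g ∈ Subgroup.closure S := by
      clear hg
      induction g using CfsgLib.Orth.odd_induction hQ h2 with
      | h1 => exact Or.inl (Subgroup.one_mem _)
      | hmul u g hu ih =>
        rcases ih with h | ⟨v, hv, h⟩
        · refine Or.inr ⟨u, hu, ?_⟩
          rwa [← mul_assoc, CfsgLib.Orth.refl_mul_self, one_mul]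
        · refine Or.inl ?_
          have := mul_mem (hmem u v hu hv) h
          rwa [mul_assoc, ← mul_assoc (CfsgLib.Orth.refl Q v), CfsgLib.Orth.refl_mul_self, one_mul] at this
    rcases key with h | ⟨v, hv, h⟩
    · exact h
    · exfalso
      have hle : Subgroup.closure S ≤ CfsgLib.Orth.SO Q := by
        refine (Subgroup.closure_le _).2 ?_
        rintro x ⟨u, w, hu, hw, hx⟩
        rw [SetLike.mem_coe, CfsgLib.Orth.mem_SO]
        refine Units.ext ?_
        change Matrix.det ((x : Matrix.GeneralLinearGroup (Fin n) F) : Matrix (Fin n) (Fin n) F) = 1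
        rw [hx, Matrix.det_mul, ← CfsgLib.Orth.coe_refl, ← CfsgLib.Orth.coe_refl,
          CfsgLib.Orth.det_refl hu, CfsgLib.Orth.det_refl hw]
        ring
      have h1 := CfsgLib.Orth.mem_SO.1 (hle h)
      rw [map_mul, CfsgLib.Orth.mem_SO.1 hg, mul_one, CfsgLib.Orth.detHom_refl hv] at h1
      have : (-1 : F) = 1 := by simpa using congrArg Units.val h1
      exact h2 (by linear_combination -this)
  · refine (Subgroup.closure_le _).2 ?_
    rintro x ⟨u, w, hu, hw, hx⟩
    rw [SetLike.mem_coe, CfsgLib.Orth.mem_SO]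
    refine Units.ext ?_
    change Matrix.det ((x : Matrix.GeneralLinearGroup (Fin n) F) : Matrix (Fin n) (Fin n) F) = 1
    rw [hx, Matrix.det_mul, ← CfsgLib.Orth.coe_refl, ← CfsgLib.Orth.coe_refl,
      CfsgLib.Orth.det_refl hu, CfsgLib.Orth.det_refl hw]
    ring

end Cfsg.Agent.S0792
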