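import Cfsg.Statements.S0796
-- import your own Cfsg.Agent.* helpers here

set_option autoImplicit false
open Cfsg

namespace Cfsg.Agent.S0796

/-- If G is finite and acts faithfully and primitively on X, H is the stabiliser of a point, A is a normal subgroup of H whose normal closure in G is G, then for every non-trivial normal subgroup K of G the quotient G ⧸ K is isomorphic to A ⧸ B for some normal subgroup B of A. -/
theorem result {G X : Type*} [Group G] [Finite G] [MulAction G X] [FaithfulSMul G X] (hprim : MulAction.IsPreprimitive G X) (x : X) (A : Subgroup G) (hA : A ≤ MulAction.stabilizer G x) (hAn : (A.subgroupOf (MulAction.stabilizer G x)).Normal) (hgen : Subgroup.normalClosure (A : Set G) = ⊤) (K : Subgroup G) [K.Normal] (hK : K ≠ ⊥) : ∃ (B : Subgroup A) (_ : B.Normal), Nonempty (G ⧸ K ≃* A ⧸ B) := by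
  have := hprim.toIsPretransitive
  have : (MulAction.orbit G x) = Set.univ := MulAction.orbit_eq_univ G x
  -- a non-trivial normal subgroup is transitive
  have htrans : MulAction.IsPretransitive K X := by
    refine (MulAction.IsPreprimitive.isQuasiPreprimitive (M := G) (α := X)).isPretransitive_of_normal ?_
    intro h
    apply hK
    rw [Subgroup.eq_bot_iff_forall]
    intro k hk
    refine eq_of_smul_eq_smul (α := X) fun y => ?_
    rw [one_smul]
    have : y ∈ MulAction.fixedPoints K X := h ▸ Set.mem_univ y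
    exact this ⟨k, hk⟩
  -- hence every conjugate of `A` lies in `A ⊔ K`
  have htop : A ⊔ K = ⊤ := by
    rw [← top_le_iff, ← hgen, Subgroup.normalClosure, Subgroup.closure_le]
    intro y hy
    obtain ⟨a, ha, hc⟩ := Group.mem_conjugatesOfSet_iff.1 hy
    obtain ⟨g, rfl⟩ := isConj_iff.1 hc
    obtain ⟨⟨k, hk⟩, hkx⟩ := htrans.exists_smul_eq x (g • x)
    replace hkx : k • x = g • x := hkx
    have hh : k⁻¹ * g ∈ MulAction.stabilizer G x := by
      rw [MulAction.mem_stabilizer_iff, mul_smul, ← hkx, inv_smul_smul]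
    have ha' : (k⁻¹ * g) * a * (k⁻¹ * g)⁻¹ ∈ A :=
      hAn.conj_mem ⟨a, hA ha⟩ ha ⟨k⁻¹ * g, hh⟩
    have e : g * a * g⁻¹ = k * ((k⁻¹ * g) * a * (k⁻¹ * g)⁻¹) * k⁻¹ := by group
    rw [SetLike.mem_coe, e]
    exact mul_mem (mul_mem (Subgroup.mem_sup_right hk) (Subgroup.mem_sup_left ha'))
      (inv_mem (Subgroup.mem_sup_right hk))
  let f : A →* G ⧸ K := (QuotientGroup.mk' K).comp A.subtype
  have hf : Function.Surjective f := by
    intro z
    obtain ⟨g, rfl⟩ := QuotientGroup.mk'_surjective K z
    have hg : g ∈ A ⊔ K := htop ▸ Subgroup.mem_top g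
    obtain ⟨a, ha, k, hk, rfl⟩ := Subgroup.mem_sup_of_normal_right.1 hg
    refine ⟨⟨a, ha⟩, ?_⟩
    simp [f, hk]
  exact ⟨f.ker, inferInstance, ⟨(QuotientGroup.quotientKerEquivOfSurjective f hf).symm⟩⟩

end Cfsg.Agent.S0796
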