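import Cfsg.Statements.S0798
-- import your own Cfsg.Agent.* helpers here
import Cfsg.Agent.Lib.Orth.ClassRefl

set_option autoImplicit false
open Cfsg

namespace Cfsg.Agent.S0798

/-- For q odd, n ≥ 2 even, Q with non-degenerate polar form (n, |F|) ≠ (4, 3), and a fixed c ≠ 0: the subgroup of the isometry group generated by the reflections r_v with Q(v) ∈ c·(F^×)² has index 2. -/
theorem result {F : Type*} [Field F] [Fintype F] (h2 : (2 : F) ≠ 0) {n : ℕ} (hn : 2 ≤ n) (heven : Even n) (Q : QuadraticForm F (Fin n → F)) (hQ : (QuadraticMap.polarBilin Q).Nondegenerate) (h43 : ¬ (n = 4 ∧ Fintype.card F = 3)) (c : F) (hc : c ≠ 0) : (Subgroup.closure {g : ↥(Cfsg.isometryGroup F ⇑Q) | ∃ (v : Fin n → F) (t : F), t ≠ 0 ∧ Q v = c * t ^ 2 ∧ ((g : Matrix.GeneralLinearGroup (Fin n) F) : Matrix (Fin n) (Fin n) F) = Cfsg.reflectionMatrix ⇑Q v}).index = 2 := by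
  classical
  have hbig : 5 ≤ Fintype.card (Fin n) ∨ Fintype.card F ≠ 3 ∨ Fintype.card (Fin n) ≤ 2 := by
    rw [Fintype.card_fin]
    obtain ⟨k, rfl⟩ := heven
    by_cases h3 : Fintype.card F = 3
    · have h4 : k + k ≠ 4 := fun h4 => h43 ⟨h4, h3⟩
      omega
    · exact Or.inr (Or.inl h3)
  refine Eq.trans ?_ (CfsgLib.Orth.classRefl_index hQ h2 (by simpa using hn) hbig hc)
  congr 2
  ext g
  refine exists_congr fun v => exists_congr fun t => and_congr_right fun _ => and_congr_right fun _ => ?_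
  exact ⟨fun hg => Subtype.ext (Units.ext (hg.trans (CfsgLib.Orth.coe_refl Q v).symm)),
    fun hg => by rw [hg, CfsgLib.Orth.coe_refl]⟩

end Cfsg.Agent.S0798
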