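import Cfsg.Statements.S0800
import Cfsg.Agent.Lib.PSL2.Line

set_option autoImplicit false
open Cfsg

namespace Cfsg.Agent.S0800

/-- Tori of SL_2(q): if g ∈ SL_2(q) has order coprime to the characteristic p, then the order of g divides q − 1 or q + 1. -/
theorem result {F : Type*} [Field F] [Fintype F] {q : ℕ} (hF : Fintype.card F = q) (p : ℕ) [Fact p.Prime] [CharP F p] (g : Matrix.SpecialLinearGroup (Fin 2) F) (hg : Nat.Coprime (orderOf g) p) : orderOf g ∣ q - 1 ∨ orderOf g ∣ q + 1 := by
  subst hF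
  rcases CfsgLib.PSL2.sl_pow_trichotomy p g with h | h | h
  · left
    have h2 : (g ^ p) ^ 2 = 1 := by
      rcases CfsgLib.SpecLin.SLTwo.mem_center_iff'.1 h with e | e <;>
        refine Subtype.ext ?_ <;>
        rw [Matrix.SpecialLinearGroup.coe_pow, e, Matrix.SpecialLinearGroup.coe_one] <;> simp
    rw [← pow_mul] at h2
    have hd : orderOf g ∣ 2 := hg.dvd_of_dvd_mul_left (orderOf_dvd_of_pow_eq_one h2)
    rcases (Nat.dvd_prime Nat.prime_two).1 hd with h1 | h1
    · rw [h1]; exact one_dvd _
    · rw [h1] at hg ⊢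
      have hp2 : p ≠ 2 := fun e => by rw [e] at hg; norm_num at hg
      have hr : ringChar F ≠ 2 := by rw [ringChar.eq F p]; exact hp2
      have := FiniteField.odd_card_of_char_ne_two hr
      omega
  · exact Or.inl (orderOf_dvd_of_pow_eq_one h)
  · exact Or.inr (orderOf_dvd_of_pow_eq_one h)

end Cfsg.Agent.S0800
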