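import Cfsg.Statements.S0801
import Cfsg.Agent.Lib.PSL2.TwoTransvections
-- import your own Cfsg.Agent.* helpers here

set_option autoImplicit false
open Cfsg

namespace Cfsg.Agent.S0801

/-- Let F be a finite field of odd characteristic and λ ≠ 0 an element generating F as a field. Then the lower and upper unitriangular matrices with off-diagonal entries 1 and λ generate SL_2(F), unless |F| = 9 and λ² = −1, in which case they generate a subgroup of order 120. -/
theorem result {F : Type*} [Field F] [Fintype F] (h2 : (2 : F) ≠ 0) (lam : F) (hlam : lam ≠ 0) (hgen : Subfield.closure ({lam} : Set F) = ⊤) : (Subgroup.closure {g : Matrix.SpecialLinearGroup (Fin 2) F | (g : Matrix (Fin 2) (Fin 2) F) = !![1, 0; 1, 1] ∨ (g : Matrix (Fin 2) (Fin 2) F) = !![1, lam; 0, 1]} = ⊤ ∧ ¬ (Fintype.card F = 9 ∧ lam ^ 2 = -1)) ∨ (Fintype.card F = 9 ∧ lam ^ 2 = -1 ∧ Nat.card ↥(Subgroup.closure {g : Matrix.SpecialLinearGroup (Fin 2) F | (g : Matrix (Fin 2) (Fin 2) F) = !![1, 0; 1, 1] ∨ (g : Matrix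 (Fin 2) (Fin 2) F) = !![1, lam; 0, 1]}) = 120) := by
  classical
  let X : Matrix.SpecialLinearGroup (Fin 2) F := ⟨!![1, 0; 1, 1], by simp [Matrix.det_fin_two]⟩
  let Y : Matrix.SpecialLinearGroup (Fin 2) F := ⟨!![1, lam; 0, 1], by simp [Matrix.det_fin_two]⟩
  have hset : {g : Matrix.SpecialLinearGroup (Fin 2) F | (g : Matrix (Fin 2) (Fin 2) F) = !![1, 0; 1, 1] ∨
      (g : Matrix (Fin 2) (Fin 2) F) = !![1, lam; 0, 1]} = {X, Y} := by
    ext g
    constructor
    · rintro (h | h)
      · exact Or.inl (Subtype.ext h)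
      · exact Or.inr (Subtype.ext h)
    · rintro (rfl | rfl)
      · exact Or.inl rfl
      · exact Or.inr rfl
  rw [hset]
  have hXG : X ∈ Subgroup.closure ({X, Y} : Set (Matrix.SpecialLinearGroup (Fin 2) F)) :=
    Subgroup.subset_closure (Or.inl rfl)
  have hYG : Y ∈ Subgroup.closure ({X, Y} : Set (Matrix.SpecialLinearGroup (Fin 2) F)) :=
    Subgroup.subset_closure (Or.inr rfl)
  rcases CfsgLib.PSL2.trichotomy (X := X) (Y := Y) rfl rfl hXG hYG h2 hlam hgen with h | h
  · refine Or.inl ⟨h, ?_⟩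
    rintro ⟨hq, hl⟩
    have hc := CfsgLib.PSL2.card_map_le_sixty (X := X) (Y := Y) rfl rfl hXG hYG h2 hq hl rfl
    rw [h, Subgroup.map_top_of_surjective _ (QuotientGroup.mk'_surjective _), Subgroup.card_top] at hc
    have hodd : Odd (Fintype.card F) := by rw [hq]; decide
    have := CfsgLib.PSL2.lt_card_psl (F := F) hodd (b := 9) (by omega) 60 (by norm_num) (by norm_num)
    exact absurd hc (not_le.2 this)
  · exact Or.inr h

end Cfsg.Agent.S0801
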