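import Cfsg.Statements.S0802
import Cfsg.Agent.Lib.PSL2.KleinEven
-- import your own Cfsg.Agent.* helpers here

set_option autoImplicit false
open Cfsg

namespace Cfsg.Agent.S0802

/-- PSL_2(p^n) has a subgroup isomorphic to A_4 if and only if it is not the case that p = 2 and n is odd. -/
theorem result {F : Type*} [Field F] [Fintype F] (p n : ℕ) [Fact p.Prime] [CharP F p] (hF : Fintype.card F = p ^ n) : (∃ H : Subgroup (Matrix.ProjectiveSpecialLinearGroup (Fin 2) F), Nonempty (H ≃* alternatingGroup (Fin 4))) ↔ ¬ (p = 2 ∧ Odd n) := by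
  constructor
  · rintro ⟨H, ⟨e⟩⟩ ⟨rfl, hn⟩
    exact CfsgLib.PSL2.not_alt_four_of_odd hF hn
      (Matrix.ProjectiveSpecialLinearGroup.toPGL.comp (H.subtype.comp e.symm.toMonoidHom))
      (Matrix.ProjectiveSpecialLinearGroup.toPGL_injective.comp
        (H.subtype_injective.comp e.symm.injective))
  · intro h
    by_cases hp : p = 2
    · subst hp
      exact CfsgLib.PSL2.exists_alt_four_of_even hF (Nat.not_odd_iff_even.1 fun hn => h ⟨rfl, hn⟩)
    · refine CfsgLib.PSL2.exists_alt_four_psl ?_
      intro e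
      have := (CharP.cast_eq_zero_iff F p 2).1 (by exact_mod_cast e)
      exact hp ((Nat.prime_dvd_prime_iff_eq Fact.out Nat.prime_two).1 this)

end Cfsg.Agent.S0802
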