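import Cfsg.Statements.S0803
import Cfsg.Agent.Lib.PSL2.KleinEven
-- import your own Cfsg.Agent.* helpers here

set_option autoImplicit false
open Cfsg

namespace Cfsg.Agent.S0803

/-- PSL_2(q) has a subgroup isomorphic to S_4 iff q² ≡ 1 (mod 16). -/
theorem result {F : Type*} [Field F] [Fintype F] {q : ℕ} (hF : Fintype.card F = q) : (∃ H : Subgroup (Matrix.ProjectiveSpecialLinearGroup (Fin 2) F), Nonempty (H ≃* Equiv.Perm (Fin 4))) ↔ q ^ 2 % 16 = 1 := by
  subst hF
  have hmod : Fintype.card F ^ 2 % 16 = 1 ↔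
      (Fintype.card F % 8 = 1 ∨ Fintype.card F % 8 = 7) := by
    rw [Nat.pow_mod]
    have h1 : Fintype.card F % 16 % 8 = Fintype.card F % 8 := Nat.mod_mod_of_dvd _ (by norm_num)
    have h2 := Nat.mod_lt (Fintype.card F) (show 16 > 0 by norm_num)
    rw [← h1]
    generalize Fintype.card F % 16 = r at h2 ⊢
    interval_cases r <;> decide
  constructor
  · rintro ⟨H, ⟨e⟩⟩
    have hodd : Odd (Fintype.card F) := by
      rw [← Nat.not_even_iff_odd]
      intro he
      refine CfsgLib.PSL2.orderOf_ne_four_of_even he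
        ((H.subtype.comp e.symm.toMonoidHom) (finRotate 4)) ?_
      rw [orderOf_injective (H.subtype.comp e.symm.toMonoidHom)
          (H.subtype_injective.comp e.symm.injective) (finRotate 4),
        show finRotate 4 = finRotate (2 + 2) from rfl, Equiv.Perm.IsCycle.orderOf isCycle_finRotate,
        support_finRotate, Finset.card_univ, Fintype.card_fin]
    have hsq := CfsgLib.PSL2.isSquare_two_of_symm_four (CfsgLib.PSL2.two_ne_zero_of_odd hodd)
      (CfsgLib.PSL2.map_toPGL_le H)
      ((Subgroup.equivMapOfInjective H _ Matrix.ProjectiveSpecialLinearGroup.toPGL_injective).symm.trans e)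
    rw [FiniteField.isSquare_two_iff] at hsq
    rw [hmod]
    obtain ⟨k, hk⟩ := hodd
    omega
  · intro h
    rw [hmod] at h
    refine CfsgLib.PSL2.exists_symm_four_psl (CfsgLib.PSL2.two_ne_zero_of_odd ?_)
      (FiniteField.isSquare_two_iff.2 (by omega))
    rw [Nat.odd_iff]; omega

end Cfsg.Agent.S0803
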