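import Cfsg.Statements.S0804
import Cfsg.Agent.Lib.PSL2.Icosahedral
-- import your own Cfsg.Agent.* helpers here

set_option autoImplicit false
open Cfsg

namespace Cfsg.Agent.S0804

/-- PSL_2(q) has a subgroup isomorphic to A_5 iff 5 ∣ q(q² − 1). -/
theorem result {F : Type*} [Field F] [Fintype F] {q : ℕ} (hF : Fintype.card F = q) : (∃ H : Subgroup (Matrix.ProjectiveSpecialLinearGroup (Fin 2) F), Nonempty (H ≃* alternatingGroup (Fin 5))) ↔ 5 ∣ q * (q ^ 2 - 1) := by
  subst hF
  have hcard := CfsgLib.PSL2.card_psl (F := F)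
  have hdiv : 5 ∣ Fintype.card F * (Fintype.card F ^ 2 - 1) ↔
      5 ∣ Nat.card (Matrix.ProjectiveSpecialLinearGroup (Fin 2) F) := by
    have h : Fintype.card F * (Fintype.card F ^ 2 - 1) =
        (Fintype.card F + 1) * (Fintype.card F * (Fintype.card F - 1)) := by
      have e : Fintype.card F ^ 2 - 1 = (Fintype.card F + 1) * (Fintype.card F - 1) := by
        rw [← Nat.sq_sub_sq, one_pow]
      rw [e]; ring
    rw [h, ← hcard]
    constructor
    · intro h5
      rcases (Nat.Prime.dvd_mul Nat.prime_five).1 h5 with e | e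
      · exact absurd (Nat.le_of_dvd Nat.two_pos (e.trans (Nat.gcd_dvd_left _ _))) (by norm_num)
      · exact e
    · exact fun e => e.mul_left _
  rw [hdiv]
  constructor
  · rintro ⟨H, ⟨e⟩⟩
    have h : Nat.card H ∣ _ := H.card_subgroup_dvd_card
    rw [Nat.card_congr e.toEquiv, CfsgLib.PSL2.card_alt_five] at h
    exact Nat.dvd_trans (by norm_num) h
  · intro h
    obtain ⟨r, hr⟩ := CfsgLib.PSL2.exists_root_of_five h
    obtain ⟨f, hf⟩ := CfsgLib.PSL2.exists_alt_five_psl hr
    exact ⟨f.range, ⟨(MonoidHom.ofInjective hf).symm⟩⟩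

end Cfsg.Agent.S0804
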