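import Cfsg.Statements.S0805
import Cfsg.Agent.Lib.PSL2.Subfield
-- import your own Cfsg.Agent.* helpers here

set_option autoImplicit false
open Cfsg

namespace Cfsg.Agent.S0805

/-- Subfield subgroups: let F be a finite field of odd order q and K a finite field with |K|^m = q, m ≥ 1. Then PSL_2(F) has a subgroup isomorphic to PSL_2(K), and has a subgroup isomorphic to PGL_2(K) if and only if m is even. -/
theorem result {F K : Type*} [Field F] [Fintype F] [Field K] [Fintype K] {q : ℕ} (hF : Fintype.card F = q) (hodd : Odd q) (m : ℕ) (hm : 1 ≤ m) (hK : Fintype.card K ^ m = q) : (∃ H : Subgroup (Matrix.ProjectiveSpecialLinearGroup (Fin 2) F), Nonempty (H ≃* Matrix.ProjectiveSpecialLinearGroup (Fin 2) K)) ∧ ((∃ H : Subgroup (Matrix.ProjectiveSpecialLinearGroup (Fin 2) F), Nonempty (H ≃* Matrix.ProjGenLinGroup (Fin 2) K)) ↔ Even m) := by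
  subst hF
  obtain ⟨ι⟩ := CfsgLib.PSL2.exists_fieldHom hK
  refine ⟨?_, fun ⟨H, ⟨e⟩⟩ => ?_, fun he => ?_⟩
  · rcases Nat.even_or_odd m with hm' | hm'
    · obtain ⟨e⟩ := CfsgLib.PSL2.nonempty_pslSub_equiv_pgl ι hodd hK hm'
      exact ⟨((Matrix.ProjectiveSpecialLinearGroup.toPGL (n := Fin 2) (R := K)).range.map
          e.symm.toMonoidHom).map (CfsgLib.PSL2.pslSub ι).subtype,
        ⟨((Subgroup.equivMapOfInjective _ _ (Subgroup.subtype_injective _)).symm.trans
          (Subgroup.equivMapOfInjective _ _ e.symm.injective).symm).trans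
          (MonoidHom.ofInjective Matrix.ProjectiveSpecialLinearGroup.toPGL_injective).symm⟩⟩
    · exact ⟨_, CfsgLib.PSL2.nonempty_pslSub_equiv_psl ι hK (Or.inr hm')⟩
  · exact CfsgLib.PSL2.even_of_pgl_embedding ι hodd hK (H.subtype.comp e.symm.toMonoidHom)
      (H.subtype_injective.comp e.symm.injective)
  · exact ⟨_, CfsgLib.PSL2.nonempty_pslSub_equiv_pgl ι hodd hK he⟩

end Cfsg.Agent.S0805
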