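import Cfsg.Statements.S0806
import Cfsg.Agent.Lib.PSL2.MinIndex

set_option autoImplicit false
open Cfsg

namespace Cfsg.Agent.S0806

/-- Minimal index (Galois): if q ∉ {2, 3, 5, 7, 9, 11} then every proper subgroup of PSL_2(q) has index ≥ q + 1, and some subgroup has index exactly q + 1. -/
theorem result {F : Type*} [Field F] [Fintype F] {q : ℕ} (hF : Fintype.card F = q) (hq : q ∉ ({2, 3, 5, 7, 9, 11} : Finset ℕ)) : (∀ H : Subgroup (Matrix.ProjectiveSpecialLinearGroup (Fin 2) F), H ≠ ⊤ → q + 1 ≤ H.index) ∧ ∃ H : Subgroup (Matrix.ProjectiveSpecialLinearGroup (Fin 2) F), H.index = q + 1 := by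
  classical
  subst hF
  refine ⟨fun H hH => ?_, ⟨CfsgLib.PSL2.pslPointStab OnePoint.infty, CfsgLib.PSL2.index_pslPointStab _⟩⟩
  have h1 := CfsgLib.PSL2.card_proper_subgroup_le hq hH
  have h2 := CfsgLib.PSL2.card_psl (F := F)
  rw [← H.card_mul_index, ← mul_assoc] at h2
  have h3 : (Fintype.card F + 1) * (Fintype.card F * (Fintype.card F - 1)) ≤
      H.index * (Fintype.card F * (Fintype.card F - 1)) := by
    rw [← h2, mul_comm _ H.index]
    exact Nat.mul_le_mul_left _ h1
  exact Nat.le_of_mul_le_mul_right h3 (Nat.mul_pos (by have := Fintype.one_lt_card (α := F); omega)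
    (by have := Fintype.one_lt_card (α := F); omega))

end Cfsg.Agent.S0806
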