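import Cfsg.Statements.S0808
import Cfsg.Agent.Lib.PSL2.KleinPsl
-- import your own Cfsg.Agent.* helpers here

set_option autoImplicit false
open Cfsg

namespace Cfsg.Agent.S0808

/-- Conjugacy classes of four-groups in PSL_2(q), q odd: if q ≡ 3 or 5 (mod 8) all Klein four-subgroups are conjugate; if q ≡ 1 or 7 (mod 8) there are two Klein four-subgroups which are not conjugate, and every Klein four-subgroup is conjugate to one of them. -/
theorem result {F : Type*} [Field F] [Fintype F] {q : ℕ} (hF : Fintype.card F = q) (hodd : Odd q) : ((q % 8 = 3 ∨ q % 8 = 5) → ∀ V W : Subgroup (Matrix.ProjectiveSpecialLinearGroup (Fin 2) F), IsKleinFour V → IsKleinFour W → ∃ g : Matrix.ProjectiveSpecialLinearGroup (Fin 2) F, W = V.map (MulAut.conj g).toMonoidHom) ∧ ((q % 8 = 1 ∨ q % 8 = 7) → ∃ V₁ V₂ : Subgroup (Matrix.ProjectiveSpecialLinearGroup (Fin 2) F), IsKleinFour V₁ ∧ IsKleinFour V₂ ∧ (¬ ∃ g : Matrix.ProjectiveSpecialLinearGroup (Fin 2) F, V₂ = V₁.map (MulAut.conj g).toMonoidHom) ∧ ∀ W : Subgroup (Matrix.ProjectiveSpecialLinearGroup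 (Fin 2) F), IsKleinFour W → (∃ g : Matrix.ProjectiveSpecialLinearGroup (Fin 2) F, W = V₁.map (MulAut.conj g).toMonoidHom) ∨ (∃ g : Matrix.ProjectiveSpecialLinearGroup (Fin 2) F, W = V₂.map (MulAut.conj g).toMonoidHom)) := by
  subst hF
  open CfsgLib.PSL2 in
  exact by
    have h2 := two_ne_zero_of_odd hodd
    obtain ⟨I, J, h⟩ := exists_qpair h2
    have hV₀ := h.isKleinFour h2
    have hle := h.kleinV_le_pslImage h2
    have hW : ∀ W : Subgroup (Matrix.ProjectiveSpecialLinearGroup (Fin 2) F), IsKleinFour W →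
        ∃ k, W.map Matrix.ProjectiveSpecialLinearGroup.toPGL =
          (h.kleinV h2).map (MulAut.conj k).toMonoidHom := fun W hW =>
      klein_conj h2 h (map_toPGL_le W)
        (isKleinFour_map _ Matrix.ProjectiveSpecialLinearGroup.toPGL_injective hW)
    constructor
    · intro hq V W hV hW'
      obtain ⟨a, ha⟩ := hW V hV
      obtain ⟨b, hb⟩ := hW W hW'
      have hsq : ¬ IsSquare (2 : F) := by
        rw [FiniteField.isSquare_two_iff]; omega
      obtain ⟨t, ht, htn⟩ : ∃ t ∈ h.normV h2, t ∉ pslImage F :=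
        ⟨_, h.sElt_mem h2, fun hm => hsq ((h.sElt_mem_pslImage_iff h2).1 hm)⟩
      rw [exists_conj_iff]
      by_cases hba : b * a⁻¹ ∈ pslImage F
      · exact ⟨_, hba, by rw [ha, hb, conj_map_map, inv_mul_cancel_right]⟩
      · refine ⟨b * t * a⁻¹, ?_, ?_⟩
        · rw [show b * t * a⁻¹ = b * a⁻¹ * (a * t * a⁻¹) by group]
          exact mul_mem_pslImage_of_not_mem hba fun hm => htn (by
            have := pslImage_normal.conj_mem _ hm a⁻¹
            rwa [show a⁻¹ * (a * t * a⁻¹) * a⁻¹⁻¹ = t by group] at this)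
        · rw [ha, hb, conj_map_map, inv_mul_cancel_right, ← conj_map_map,
            (mem_normalizer_iff_map_eq _ t).1 ht]
    · intro hq
      have hsq : IsSquare (2 : F) := by
        rw [FiniteField.isSquare_two_iff]; omega
      obtain ⟨g, hg⟩ := exists_not_mem_pslImage hodd
      have hle2 := map_conj_le_pslImage hle g
      refine ⟨(h.kleinV h2).comap Matrix.ProjectiveSpecialLinearGroup.toPGL,
        ((h.kleinV h2).map (MulAut.conj g).toMonoidHom).comap Matrix.ProjectiveSpecialLinearGroup.toPGL,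
        isKleinFour_comap_toPGL hle hV₀,
        isKleinFour_comap_toPGL hle2 (isKleinFour_map _ (MulEquiv.injective _) hV₀), ?_, fun W hW' => ?_⟩
      · rw [exists_conj_iff, map_comap_toPGL hle, map_comap_toPGL hle2]
        rintro ⟨k, hk, e⟩
        refine hg ?_
        have hm : k⁻¹ * g ∈ h.normV h2 := by
          rw [QPair.normV, mem_normalizer_iff_map_eq, ← conj_map_map, e, conj_map_map, inv_mul_cancel]
          ext x; simp
        have := mul_mem hk (h.normV_le_pslImage h2 hsq hm)
        rwa [mul_inv_cancel_left] at this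
      · obtain ⟨k, hk⟩ := hW W hW'
        rw [exists_conj_iff, exists_conj_iff, map_comap_toPGL hle, map_comap_toPGL hle2]
        by_cases hkL : k ∈ pslImage F
        · exact Or.inl ⟨k, hkL, hk⟩
        · exact Or.inr ⟨k * g⁻¹, mul_mem_pslImage_of_not_mem hkL (fun hm => hg (inv_mem_iff.1 hm)),
            by rw [hk, conj_map_map, inv_mul_cancel_right]⟩

end Cfsg.Agent.S0808
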