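import Cfsg.Statements.S0810
import Cfsg.Agent.Lib.PSL2.MinimalSimple
-- import your own Cfsg.Agent.* helpers here

set_option autoImplicit false
open Cfsg

namespace Cfsg.Agent.S0810

/-- PSL_2(q) is minimal simple iff q is 2^r (r prime), 3^r (r an odd prime), a prime greater than 5 congruent to 2 or 3 mod 5, or 5. -/
theorem result {F : Type*} [Field F] [Fintype F] {q : ℕ} (hF : Fintype.card F = q) : Cfsg.IsMinimalSimple (Matrix.ProjectiveSpecialLinearGroup (Fin 2) F) ↔ ((∃ r : ℕ, r.Prime ∧ q = 2 ^ r) ∨ (∃ r : ℕ, r.Prime ∧ r ≠ 2 ∧ q = 3 ^ r) ∨ (q.Prime ∧ 5 < q ∧ (q % 5 = 2 ∨ q % 5 = 3)) ∨ q = 5) := by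
  classical
  obtain ⟨p, hp⟩ := CharP.exists F
  have : Fact p.Prime := ⟨CharP.char_is_prime F p⟩
  obtain ⟨n, hpp, hn⟩ := FiniteField.card F p
  subst hF
  constructor
  · rintro ⟨hs, hnc, hsol⟩
    rcases CfsgLib.PSL2.minimal_simple_cases p hn hnc hs hsol with
      ⟨hr, rfl⟩ | ⟨hr, hr2, rfl⟩ | ⟨h1, h5 | ⟨h5, hm⟩⟩
    · exact Or.inl ⟨_, hr, hn⟩
    · exact Or.inr (Or.inl ⟨_, hr, hr2, hn⟩)
    all_goals rw [h1, pow_one] at hn
    · exact Or.inr (Or.inr (Or.inr (hn.trans h5)))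
    · exact Or.inr (Or.inr (Or.inl (by rw [hn]; exact ⟨hpp, h5, hm⟩)))
  · intro h
    have key : ∀ {a m : ℕ}, a.Prime → m ≠ 0 → Fintype.card F = a ^ m → p = a ∧ (n : ℕ) = m := by
      intro a m ha hm hc
      rw [hn] at hc
      have hpa : p = a := (Nat.prime_dvd_prime_iff_eq hpp ha).1
        (hpp.dvd_of_dvd_pow (hc ▸ dvd_pow_self p n.ne_zero))
      subst hpa
      exact ⟨rfl, Nat.pow_right_injective hpp.two_le hc⟩
    have hcases : ((n : ℕ).Prime ∧ p = 2) ∨ ((n : ℕ).Prime ∧ (n : ℕ) ≠ 2 ∧ p = 3) ∨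
        ((n : ℕ) = 1 ∧ (p = 5 ∨ (5 < p ∧ (p % 5 = 2 ∨ p % 5 = 3)))) := by
      rcases h with ⟨r, hr, hc⟩ | ⟨r, hr, hr2, hc⟩ | ⟨hq, h5, hm⟩ | hc
      · obtain ⟨rfl, hnr⟩ := key Nat.prime_two hr.ne_zero hc
        exact Or.inl ⟨hnr ▸ hr, rfl⟩
      · obtain ⟨rfl, hnr⟩ := key Nat.prime_three hr.ne_zero hc
        exact Or.inr (Or.inl ⟨hnr ▸ hr, hnr ▸ hr2, rfl⟩)
      · obtain ⟨hpq, hn1⟩ := key hq one_ne_zero (pow_one _).symm
        subst hpq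
        exact Or.inr (Or.inr ⟨hn1, Or.inr ⟨h5, hm⟩⟩)
      · obtain ⟨rfl, hn1⟩ := key Nat.prime_five one_ne_zero (hc.trans (pow_one _).symm)
        exact Or.inr (Or.inr ⟨hn1, Or.inl rfl⟩)
    have h4 : 4 ≤ Fintype.card F := by
      rw [hn]
      rcases hcases with ⟨hr, rfl⟩ | ⟨hr, -, rfl⟩ | ⟨h1, hp'⟩
      · exact le_trans (by norm_num) (Nat.pow_le_pow_right Nat.two_pos hr.two_le)
      · exact le_trans (by norm_num) (Nat.pow_le_pow_right (by norm_num) hr.two_le)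
      · rw [h1, pow_one]; omega
    obtain ⟨-, hs, hnc⟩ := CfsgLib.PSL2.psl_not_solvable h4
    exact ⟨hs, hnc, CfsgLib.PSL2.minimal_simple_core p hn hcases⟩

end Cfsg.Agent.S0810
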