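import Cfsg.Statements.S2739
import Cfsg.Agent.KS59SL34

set_option autoImplicit false
open scoped Pointwise
open Cfsg

namespace Cfsg.Agent.S2739

open Matrix KS59

variable {F : Type*} [Field F] [Fintype F]

lemma conj_diag_of_pow_three (hF : Fintype.card F = 4) {w : F} (hw1 : w ≠ 1) (hw3 : w ^ 3 = 1)
    (A : SpecialLinearGroup (Fin 3) F) {c : F}
    (hA3 : (A : Matrix (Fin 3) (Fin 3) F) ^ 3 = c • 1)
    (hns : ∀ r : F, (A : Matrix (Fin 3) (Fin 3) F) ≠ r • 1) :
    ∃ g : SpecialLinearGroup (Fin 3) F,
      (A : Matrix (Fin 3) (Fin 3) F) * (g : Matrix (Fin 3) (Fin 3) F) =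
        (g : Matrix (Fin 3) (Fin 3) F) * Matrix.diagonal ![1, w, w ^ 2] := by
  classical
  set M : Matrix (Fin 3) (Fin 3) F := (A : Matrix (Fin 3) (Fin 3) F) with hM
  have hdet : M.det = 1 := A.2
  obtain ⟨t, s, hrel, hev⟩ := aeval_fin_three_relation M
  rw [hdet] at hrel
  rw [hA3] at hrel
  simp only [hdet] at hev
  have h2 := two_eq_zero_card_four hF
  -- `hrel : c • 1 + t • M ^ 2 + s • M - 1 = 0`
  have ht : t = 0 := by
    by_contra ht
    set al : F := -(s / t) with hal
    set be : F := -((c - 1) / t) with hbe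
    have hsq : M ^ 2 = al • M + be • 1 := by
      have h : t • M ^ 2 = t • (al • M + be • 1) := by
        rw [smul_add, smul_smul, smul_smul, hal, hbe, mul_neg, mul_neg, mul_div_cancel₀ _ ht,
          mul_div_cancel₀ _ ht]
        rw [one_smul] at hrel
        calc t • M ^ 2 = (c • (1 : Matrix (Fin 3) (Fin 3) F) + t • M ^ 2 + s • M - 1) + ((-s) • M + (-(c-1)) • (1 : Matrix (Fin 3) (Fin 3) F)) := by
              module
          _ = (-s) • M + (-(c-1)) • 1 := by rw [hrel, zero_add]
      exact smul_right_injective _ ht h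
    have h3 : c • (1 : Matrix (Fin 3) (Fin 3) F) = (al ^ 2 + be) • M + (al * be) • 1 := by
      calc c • (1 : Matrix (Fin 3) (Fin 3) F) = M * M ^ 2 := by rw [← hA3, ← pow_succ']
        _ = al • M ^ 2 + be • M := by rw [hsq, mul_add, mul_smul_comm, mul_smul_comm, mul_one, ← pow_two, hsq]
        _ = _ := by rw [hsq]; module
    have hab : al ^ 2 + be = 0 := by
      by_contra hne
      apply hns ((c - al * be) / (al ^ 2 + be))
      have h4 : (al ^ 2 + be) • M = (c - al * be) • (1 : Matrix (Fin 3) (Fin 3) F) := by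
        calc (al ^ 2 + be) • M = ((al ^ 2 + be) • M + (al * be) • 1) - (al * be) • (1 : Matrix (Fin 3) (Fin 3) F) := by module
          _ = (c - al * be) • (1 : Matrix (Fin 3) (Fin 3) F) := by rw [← h3]; module
      apply smul_right_injective _ hne
      simp only [smul_smul, mul_div_cancel₀ _ hne]
      exact h4
    rw [hab, zero_smul, zero_add] at h3
    have hc : c = al * be := by simpa using congrFun (congrFun h3 0) 0
    have hc0 : c ≠ 0 := by
      intro h0
      have := congrArg Matrix.det hA3
      simp [h0, hdet] at this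
    have hal0 : al ≠ 0 := by
      intro h0; apply hc0; rw [hc, h0, zero_mul]
    have hc1 : c = 1 := by
      linear_combination hc + al * hab - pow_three_eq_one_of_card_four hF hal0 + h2 * (-1 : F)
    have hbe0 : be = 0 := by rw [hbe, hc1]; simp
    apply hc0
    rw [hc, hbe0, mul_zero]
  have hs : s = 0 := by
    by_contra hs
    apply hns ((1 - c) / s)
    apply smul_right_injective _ hs
    simp only [smul_smul, mul_div_cancel₀ _ hs]
    rw [ht, zero_smul, add_zero, one_smul] at hrel
    calc s • M = (c • (1 : Matrix (Fin 3) (Fin 3) F) + s • M - 1) + (1 - c) • (1 : Matrix (Fin 3) (Fin 3) F) := by module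
      _ = (1 - c) • 1 := by rw [hrel, zero_add]
  set d : Fin 3 → F := ![1, w, w ^ 2] with hd
  have hroot : ∀ i, ∃ v : Fin 3 → F, v ≠ 0 ∧ M *ᵥ v = d i • v := by
    intro i
    have hdi : d i ^ 3 = 1 := by
      fin_cases i
      · simp [hd]
      · simpa [hd] using hw3
      · simp [hd]; linear_combination (w ^ 3 + 1) * hw3
    have h0 : (Matrix.scalar (Fin 3) (d i) - M).det = 0 := by
      rw [hev, ht, hs, hdi]; ring
    obtain ⟨v, hv, hv0⟩ := Matrix.exists_mulVec_eq_zero_iff.mpr h0
    refine ⟨v, hv, ?_⟩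
    rw [Matrix.sub_mulVec, sub_eq_zero] at hv0
    rw [← hv0]
    ext j
    simp [Matrix.scalar_apply, Matrix.mulVec_diagonal]
  choose v hv hMv using hroot
  have hinj : Function.Injective d := by
    have hw0 : w ≠ 0 := by intro h; simp [h] at hw3
    have h12 : w ^ 2 ≠ w := by
      intro h; apply hw1
      apply mul_left_cancel₀ hw0
      rw [mul_one, ← pow_two]; exact h
    have h10 : w ^ 2 ≠ 1 := by
      intro h; apply hw1
      rw [← hw3, pow_succ, h, one_mul]
    intro i j hij
    fin_cases i <;> fin_cases j <;> simp only [hd] at hij <;>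
      first
      | rfl
      | exact absurd hij hw1
      | exact absurd hij.symm hw1
      | exact absurd hij h10
      | exact absurd hij.symm h10
      | exact absurd hij h12
      | exact absurd hij.symm h12
  have hli : LinearIndependent F v := by
    apply Module.End.eigenvectors_linearIndependent' (Matrix.toLin' M) d hinj v
    intro i
    refine ⟨?_, hv i⟩
    rw [Module.End.mem_eigenspace_iff, Matrix.toLin'_apply, hMv]
  set P : Matrix (Fin 3) (Fin 3) F := Matrix.of fun i j => v j i with hP
  have hPdet : P.det ≠ 0 := by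
    have : IsUnit P := Matrix.linearIndependent_cols_iff_isUnit.mp hli
    exact ((Matrix.isUnit_iff_isUnit_det P).mp this).ne_zero
  have hMP : M * P = P * Matrix.diagonal d := by
    ext i j
    have := congrFun (hMv j) i
    rw [Matrix.mul_diagonal]
    simp only [Matrix.mul_apply, hP, Matrix.of_apply]
    simp only [Matrix.mulVec, dotProduct, Pi.smul_apply, smul_eq_mul] at this
    rw [this]; ring
  set e : Fin 3 → F := ![(P.det)⁻¹, 1, 1] with he
  refine ⟨⟨P * Matrix.diagonal e, ?_⟩, ?_⟩
  · rw [Matrix.det_mul, Matrix.det_diagonal, Fin.prod_univ_three]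
    simp [he, mul_inv_cancel₀ hPdet]
  · show M * (P * Matrix.diagonal e) = P * Matrix.diagonal e * Matrix.diagonal d
    rw [← mul_assoc, hMP, mul_assoc, mul_assoc, Matrix.diagonal_mul_diagonal,
      Matrix.diagonal_mul_diagonal]
    congr 1
    ext i j
    simp [mul_comm]

/-- In the projective special linear group PSL(3, 4) all subgroups of order 3 are conjugate. -/
theorem result (F : Type*) [Field F] [Fintype F] (hF : Fintype.card F = 4) (X Y : Subgroup (Matrix.ProjectiveSpecialLinearGroup (Fin 3) F)) (hX : Nat.card ↥X = 3) (hY : Nat.card ↥Y = 3) : ∃ g : Matrix.ProjectiveSpecialLinearGroup (Fin 3) F, MulAut.conj g • X = Y := by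
  classical
  have : Fact (Nat.Prime 3) := ⟨by norm_num⟩
  obtain ⟨w, hw1, hw3, -⟩ := exists_omega_card_four hF
  have hdD : (Matrix.diagonal ![1, w, w ^ 2] : Matrix (Fin 3) (Fin 3) F).det = 1 := by
    rw [Matrix.det_diagonal, Fin.prod_univ_three]
    simp; linear_combination hw3
  set D : SpecialLinearGroup (Fin 3) F := ⟨_, hdD⟩ with hD
  have key : ∀ Z : Subgroup (ProjectiveSpecialLinearGroup (Fin 3) F), Nat.card Z = 3 →
      ∃ g : ProjectiveSpecialLinearGroup (Fin 3) F,
        MulAut.conj g • Subgroup.zpowers (QuotientGroup.mk D) = Z := by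
    intro Z hZ
    have hne : Z ≠ ⊥ := by
      intro h; rw [h, Subgroup.card_bot] at hZ; omega
    obtain ⟨x, hx, hx1⟩ : ∃ x ∈ Z, x ≠ 1 := by
      by_contra h; push_neg at h
      exact hne ((Subgroup.eq_bot_iff_forall _).mpr h)
    have hZx : Subgroup.zpowers x = Z := by
      refine le_antisymm (Subgroup.zpowers_le.mpr hx) fun y hy => ?_
      have hy' := mem_zpowers_of_prime_card (g' := (⟨y, hy⟩ : Z)) hZ (g := ⟨x, hx⟩)
        (by simpa [Subtype.ext_iff] using hx1)
      obtain ⟨k, hk⟩ := hy'
      exact ⟨k, congrArg Subtype.val hk⟩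
    obtain ⟨A, rfl⟩ := QuotientGroup.mk_surjective x
    have hA3 : A ^ 3 ∈ Subgroup.center (SpecialLinearGroup (Fin 3) F) := by
      rw [← QuotientGroup.eq_one_iff, QuotientGroup.mk_pow]
      have := pow_card_eq_one' (x := (⟨_, hx⟩ : Z))
      rw [hZ] at this
      exact congrArg Subtype.val this
    obtain ⟨c, -, hc⟩ := Matrix.SpecialLinearGroup.mem_center_iff.mp hA3
    have hns : ∀ r : F, (A : Matrix (Fin 3) (Fin 3) F) ≠ r • 1 := by
      intro r hr
      apply hx1
      rw [QuotientGroup.eq_one_iff]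
      refine Matrix.SpecialLinearGroup.mem_center_iff.mpr ⟨r, ?_, ?_⟩
      · have := A.2
        rw [hr] at this
        simpa [Matrix.det_smul] using this
      · rw [hr]; ext i j; simp [Matrix.scalar_apply, Matrix.diagonal, Matrix.one_apply]
    obtain ⟨g, hg⟩ := conj_diag_of_pow_three hF hw1 hw3 A
      (c := c) (by
        have : ((A ^ 3 : SpecialLinearGroup (Fin 3) F) : Matrix (Fin 3) (Fin 3) F) = Matrix.scalar (Fin 3) c := hc.symm
        rw [Matrix.SpecialLinearGroup.coe_pow] at this
        rw [this]; ext i j; simp [Matrix.scalar_apply, Matrix.diagonal, Matrix.one_apply]) hns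
    have hAg : A * g = g * D := Subtype.ext hg
    refine ⟨QuotientGroup.mk g, ?_⟩
    rw [← hZx]
    rw [Subgroup.pointwise_smul_def]
    refine Eq.trans (MonoidHom.map_zpowers (G := ProjectiveSpecialLinearGroup (Fin 3) F)
      (MulAut.conj (QuotientGroup.mk g : ProjectiveSpecialLinearGroup (Fin 3) F)).toMonoidHom _) ?_
    congr 1
    simp only [MulEquiv.coe_toMonoidHom, MulAut.conj_apply]
    rw [← QuotientGroup.mk_mul, ← QuotientGroup.mk_inv, ← QuotientGroup.mk_mul, ← hAg,
      mul_inv_cancel_right]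
  obtain ⟨a, ha⟩ := key X hX
  obtain ⟨b, hb⟩ := key Y hY
  refine ⟨b * a⁻¹, ?_⟩
  rw [← ha, ← hb, map_mul, map_inv, mul_smul, inv_smul_smul]

end Cfsg.Agent.S2739
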