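import Cfsg.Statements.S0819
-- import your own Cfsg.Agent.* helpers here
import Cfsg.Agent.S2739

set_option autoImplicit false
open Cfsg

namespace Cfsg.Agent.S0819

open Cfsg.Agent.KS59 in
/-- in `SL_3(4)` an element of order dividing five commuting with a non-scalar element of projective order
three is trivial -/
theorem eq_one_of_commute {F : Type*} [Field F] [Fintype F] (hF : Fintype.card F = 4)
    {X Y : Matrix.SpecialLinearGroup (Fin 3) F} (hX : X ^ 5 = 1) (hXY : X * Y = Y * X)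
    (hY : Y ^ 3 ∈ Subgroup.center (Matrix.SpecialLinearGroup (Fin 3) F))
    (hYc : Y ∉ Subgroup.center (Matrix.SpecialLinearGroup (Fin 3) F)) : X = 1 := by
  classical
  obtain ⟨w, hw1, hw3, -⟩ := exists_omega_card_four hF
  obtain ⟨c, -, hc⟩ := Matrix.SpecialLinearGroup.mem_center_iff.mp hY
  have hns : ∀ r : F, (Y : Matrix (Fin 3) (Fin 3) F) ≠ r • 1 := fun r hr => by
    refine hYc (Matrix.SpecialLinearGroup.mem_center_iff.mpr ⟨r, ?_, ?_⟩)
    · have := Y.2
      rw [hr] at this
      simpa [Matrix.det_smul] using this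
    · rw [hr, Matrix.smul_one_eq_diagonal]; rfl
  obtain ⟨g, hg⟩ := Cfsg.Agent.S2739.conj_diag_of_pow_three hF hw1 hw3 Y (c := c) (by
    rw [← Matrix.SpecialLinearGroup.coe_pow, ← hc, Matrix.smul_one_eq_diagonal]; rfl) hns
  set d : Fin 3 → F := ![1, w, w ^ 2]
  set X' : Matrix.SpecialLinearGroup (Fin 3) F := g⁻¹ * X * g
  have hD : Matrix.diagonal d = ((g⁻¹ * Y * g : Matrix.SpecialLinearGroup (Fin 3) F) : Matrix (Fin 3) (Fin 3) F) := by
    rw [mul_assoc, Matrix.SpecialLinearGroup.coe_mul, Matrix.SpecialLinearGroup.coe_mul, hg,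
      ← Matrix.mul_assoc, ← Matrix.SpecialLinearGroup.coe_mul, inv_mul_cancel,
      Matrix.SpecialLinearGroup.coe_one, Matrix.one_mul]
  have hcomm : (X' : Matrix (Fin 3) (Fin 3) F) * Matrix.diagonal d = Matrix.diagonal d * X'.1 := by
    rw [hD, ← Matrix.SpecialLinearGroup.coe_mul, ← Matrix.SpecialLinearGroup.coe_mul]
    congr 1
    simp only [X']
    rw [show g⁻¹ * X * g * (g⁻¹ * Y * g) = g⁻¹ * (X * Y) * g by group,
      show g⁻¹ * Y * g * (g⁻¹ * X * g) = g⁻¹ * (Y * X) * g by group, hXY]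
  have hw0 : w ≠ 0 := by intro h; simp [h] at hw3
  have hw2 : w ^ 2 ≠ 1 := fun h => hw1 (by rw [← hw3, pow_succ, h, one_mul])
  have hw21 : w ^ 2 ≠ w := fun h => hw1 (mul_left_cancel₀ hw0 (by rw [mul_one, ← pow_two, h]))
  have hoff : ∀ i j, i ≠ j → X'.1 i j = 0 := fun i j hij => by
    have h := congrFun (congrFun hcomm i) j
    rw [Matrix.mul_diagonal, Matrix.diagonal_mul, mul_comm (d i)] at h
    have hd : d j ≠ d i := by
      fin_cases i <;> fin_cases j <;> simp [d, hw1, hw1.symm, hw2, hw2.symm, hw21, hw21.symm] at hij ⊢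
    by_contra hne
    exact hd (mul_left_cancel₀ hne h)
  have h5 : X' ^ 5 = 1 := by
    have : X' ^ 5 = g⁻¹ * X ^ 5 * g := by simpa [X'] using conj_pow (a := g⁻¹) (b := X) (i := 5)
    rw [this, hX]; group
  have hdiag : X'.1 = Matrix.diagonal fun i => X'.1 i i := by
    ext i j
    rcases eq_or_ne i j with rfl | hij
    · simp
    · rw [Matrix.diagonal_apply_ne _ hij, hoff i j hij]
  have hone : ∀ i, X'.1 i i = 1 := fun i => by
    have h := congrArg (fun A : Matrix.SpecialLinearGroup (Fin 3) F => A.1) h5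
    simp only [Matrix.SpecialLinearGroup.coe_pow, Matrix.SpecialLinearGroup.coe_one] at h
    rw [hdiag, Matrix.diagonal_pow] at h
    have h' := congrFun (congrFun h i) i
    rw [Matrix.diagonal_apply_eq, Matrix.one_apply_eq, Pi.pow_apply] at h'
    have h0 : X'.1 i i ≠ 0 := fun h0 => by simp [h0] at h'
    have h3 := pow_three_eq_one_of_card_four hF h0
    linear_combination (X'.1 i i ^ 3 + 1) * h3 - X'.1 i i * h'
  have hX' : X' = 1 := Subtype.ext (by rw [hdiag]; simp [funext hone])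
  have : X = g * X' * g⁻¹ := by simp only [X']; group
  rw [this, hX']; group


/-- No element of PSL_3(4) has order 15. -/
theorem result {F : Type*} [Field F] [Fintype F] (hF : Fintype.card F = 4) (g : Matrix.ProjectiveSpecialLinearGroup (Fin 3) F) : orderOf g ≠ 15 := by
  classical
  intro hord
  obtain ⟨A, rfl⟩ := QuotientGroup.mk_surjective g
  set x : Matrix.ProjectiveSpecialLinearGroup (Fin 3) F := QuotientGroup.mk A
  have hmem : ∀ (B : Matrix.SpecialLinearGroup (Fin 3) F) (k : ℕ), (B ^ k ∈ Subgroup.center _) ↔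
      (QuotientGroup.mk B : Matrix.ProjectiveSpecialLinearGroup (Fin 3) F) ^ k = 1 := fun B k => by
    rw [← QuotientGroup.eq_one_iff, QuotientGroup.mk_pow]
  have hdvd : ∀ k, A ^ k ∈ Subgroup.center _ ↔ 15 ∣ k := fun k => by
    rw [hmem, ← orderOf_dvd_iff_pow_eq_one, hord]
  -- the centre has exponent three
  have hz : A ^ 15 ∈ Subgroup.center _ := (hdvd 15).2 dvd_rfl
  have hA45 : A ^ 45 = 1 := by
    obtain ⟨c, hc3, hc⟩ := Matrix.SpecialLinearGroup.mem_center_iff.mp hz
    refine Subtype.ext ?_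
    rw [show (45 : ℕ) = 15 * 3 by norm_num, pow_mul, Matrix.SpecialLinearGroup.coe_pow, ← hc,
      ← map_pow, show c ^ 3 = 1 by simpa using hc3, map_one, Matrix.SpecialLinearGroup.coe_one]
  refine absurd ?_ (show ¬ A ^ 9 = 1 from fun h => absurd ((hdvd 9).1 (h ▸ one_mem _)) (by norm_num))
  refine eq_one_of_commute hF (X := A ^ 9) (Y := A ^ 5) ?_ ?_ ?_ ?_
  · rw [← pow_mul]; exact hA45
  · rw [← pow_add, ← pow_add]
  · rw [← pow_mul]; exact hz
  · exact fun h => absurd ((hdvd 5).1 h) (by norm_num)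

end Cfsg.Agent.S0819
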