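import Cfsg.Statements.S0839
-- import your own Cfsg.Agent.* helpers here

set_option autoImplicit false
open Cfsg

namespace Cfsg.Agent.S0839

open Matrix

/-- Every transvection t ∈ SL_(n+2)(F) (rank(t − 1) = 1, (t − 1)² = 0) is conjugate in SL_(n+2)(F) to 1 + v·e_0ᵀ for some column vector v with v_0 = 0 (the group A of matrices that are the identity except in the first column below the diagonal); the dimension is written n + 2 ≥ 2. -/
theorem result {F : Type*} [Field F] (n : ℕ) (t : Matrix.SpecialLinearGroup (Fin (n + 2)) F) (ht : Cfsg.IsTransvection (t : Matrix (Fin (n + 2)) (Fin (n + 2)) F)) : ∃ (g : Matrix.SpecialLinearGroup (Fin (n + 2)) F) (v : Fin (n + 2) → F), v 0 = 0 ∧ ((g⁻¹ * t * g : Matrix.SpecialLinearGroup (Fin (n + 2)) F) : Matrix (Fin (n + 2)) (Fin (n + 2)) F) = 1 + Matrix.vecMulVec v (Pi.single 0 1) := by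
  classical
  obtain ⟨hrank, hsq⟩ := ht
  set N := (t : Matrix (Fin (n + 2)) (Fin (n + 2)) F) - 1 with hN
  obtain ⟨u, w, hu, hw, hNuw⟩ : ∃ u w : Fin (n + 2) → F, u ≠ 0 ∧ w ≠ 0 ∧ N = Matrix.vecMulVec u w := by
    rw [Matrix.rank] at hrank
    obtain ⟨⟨u, hu⟩, hu0, hspan⟩ := finrank_eq_one_iff'.1 hrank
    choose w hw using fun j => hspan ⟨N *ᵥ Pi.single j 1, ⟨_, rfl⟩⟩
    have hw' : ∀ j, w j • u = N *ᵥ Pi.single j 1 := fun j => congrArg Subtype.val (hw j)
    have hNeq : N = Matrix.vecMulVec u w := by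
      ext i j
      have := congrFun (hw' j) i
      rw [Matrix.mulVec_single_one] at this
      simp [Matrix.vecMulVec_apply] at this ⊢
      rw [← this, mul_comm]
    refine ⟨u, w, fun h => hu0 (Subtype.ext h), fun h => ?_, hNeq⟩
    obtain ⟨a, ha⟩ := hu
    apply hu0
    refine Subtype.ext ?_
    change u = 0
    rw [← ha, hNeq, h]
    simp
  -- an element of `SL` whose row zero is a multiple of `w`
  obtain ⟨b, hb⟩ : ∃ b : Module.Basis (Fin (n + 2)) F (Fin (n + 2) → F), b 0 = w := by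
    have hli : LinearIndepOn F id ({w} : Set (Fin (n + 2) → F)) := LinearIndepOn.singleton (v := id) (i := w) hw
    let b0 := Module.Basis.extend hli
    have : Fintype _ := FiniteDimensional.fintypeBasisIndex b0
    have hc : Fintype.card (hli.extend (Set.subset_univ ({w} : Set (Fin (n + 2) → F)))) = n + 2 := by
      rw [← Module.finrank_eq_card_basis b0, Module.finrank_fintype_fun_eq_card, Fintype.card_fin]
    let e := Fintype.equivFinOfCardEq hc
    let x0 := e.symm 0
    have hwmem : w ∈ hli.extend (Set.subset_univ _) := hli.subset_extend _ rfl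
    let e' := (Equiv.swap (⟨w, hwmem⟩) x0).trans e
    refine ⟨b0.reindex e', ?_⟩
    rw [Module.Basis.reindex_apply, Module.Basis.extend_apply_self]
    simp [e', x0]
  let B : Matrix (Fin (n + 2)) (Fin (n + 2)) F := Matrix.of fun i j => b i j
  have hB : B.det ≠ 0 := by
    rw [← isUnit_iff_ne_zero, ← Matrix.isUnit_iff_isUnit_det,
      ← Matrix.linearIndependent_rows_iff_isUnit]
    exact b.linearIndependent
  let d : Fin (n + 2) → F := fun i => if i = 0 then B.det⁻¹ else 1
  let M := Matrix.diagonal d * B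
  have hMdet : M.det = 1 := by
    simp [M, Matrix.det_mul, Matrix.det_diagonal, d, Finset.prod_ite_eq', hB]
  let h : Matrix.SpecialLinearGroup (Fin (n + 2)) F := ⟨M, hMdet⟩
  have hrow : (Pi.single 0 1 : Fin (n + 2) → F) ᵥ* M = B.det⁻¹ • w := by
    ext j
    simp [M, d, Matrix.diagonal_mul, B, hb]
  refine ⟨h⁻¹, B.det • M *ᵥ u, ?_, ?_⟩
  · -- `w ⬝ u = 0` because `N² = 0`
    have hwu : w ⬝ᵥ u = 0 := by
      rw [hNuw, Matrix.vecMulVec_mul_vecMulVec] at hsq
      by_contra hne
      obtain ⟨i, hi⟩ := Function.ne_iff.1 hu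
      obtain ⟨j, hj⟩ := Function.ne_iff.1 hw
      have := congrFun (congrFun hsq i) j
      simp [Matrix.vecMulVec_apply, hne] at this
      simp_all
    have : (M *ᵥ u) 0 = B.det⁻¹ * (w ⬝ᵥ u) := by
      rw [← single_one_dotProduct (0 : Fin (n + 2)) (M *ᵥ u), Matrix.dotProduct_mulVec, hrow,
        smul_dotProduct, smul_eq_mul]
    simp [this, hwu]
  · rw [inv_inv, Matrix.SpecialLinearGroup.coe_mul, Matrix.SpecialLinearGroup.coe_mul]
    have hinv : M * (h⁻¹ : Matrix.SpecialLinearGroup (Fin (n + 2)) F).1 = 1 :=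
      congrArg Subtype.val (mul_inv_cancel h)
    have ht' : (t : Matrix (Fin (n + 2)) (Fin (n + 2)) F) = 1 + Matrix.vecMulVec u w := by
      rw [← hNuw, hN]; abel
    have hwM : w = B.det • ((Pi.single 0 1 : Fin (n + 2) → F) ᵥ* M) := by
      rw [hrow, smul_smul, mul_inv_cancel₀ hB, one_smul]
    change M * t.1 * _ = _
    rw [ht', Matrix.mul_add, Matrix.add_mul, Matrix.mul_one, hinv, Matrix.mul_vecMulVec,
      Matrix.vecMulVec_mul, hwM, Matrix.smul_vecMul, Matrix.vecMul_vecMul, hinv, Matrix.vecMul_one,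
      Matrix.vecMulVec_smul, Matrix.smul_vecMulVec]

end Cfsg.Agent.S0839
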