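import Cfsg.Statements.S0820
-- import your own Cfsg.Agent.* helpers here
import Cfsg.Agent.S0839

set_option autoImplicit false
open Cfsg

namespace Cfsg.Agent.S0820

open Matrix in
/-- an involution of `SL_3` in characteristic two is conjugate to `1 + E_10` -/
theorem conj_std {F : Type*} [Field F] (h2 : (2 : F) = 0) (g : Matrix.SpecialLinearGroup (Fin 3) F)
    (hg : g * g = 1) (hg1 : g ≠ 1) :
    ∃ k : Matrix.SpecialLinearGroup (Fin 3) F,
      k * g * k⁻¹ = Matrix.SpecialLinearGroup.transvection (show (1 : Fin 3) ≠ 0 by decide) 1 := by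
  classical
  set N : Matrix (Fin 3) (Fin 3) F := g.1 - 1 with hN
  have hgg : g.1 * g.1 = 1 := congrArg Subtype.val hg
  have hNN : N * N = 0 := by
    have : N * N = (g.1 * g.1 - 1) - (2 : F) • N := by
      simp only [hN, sub_mul, mul_sub, two_smul, mul_one, one_mul]; abel
    rw [this, hgg, h2, zero_smul, sub_self, sub_zero]
  have hN0 : N ≠ 0 := fun h => hg1 (Subtype.ext (sub_eq_zero.1 h))
  have hle : LinearMap.range N.mulVecLin ≤ LinearMap.ker N.mulVecLin := by
    rintro _ ⟨x, rfl⟩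
    rw [LinearMap.mem_ker, ← LinearMap.comp_apply, ← Matrix.mulVecLin_mul, hNN, Matrix.mulVecLin_zero,
      LinearMap.zero_apply]
  have hsum := LinearMap.finrank_range_add_finrank_ker N.mulVecLin
  rw [Module.finrank_fintype_fun_eq_card, Fintype.card_fin] at hsum
  have hmono := Submodule.finrank_mono hle
  have hpos : Module.finrank F (LinearMap.range N.mulVecLin) ≠ 0 := fun h => by
    rw [Submodule.finrank_eq_zero, LinearMap.range_eq_bot] at h
    exact hN0 (Matrix.ext_of_mulVec_single fun i => by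
      have := LinearMap.congr_fun h (Pi.single i 1)
      change N *ᵥ Pi.single i 1 = 0 at this
      rw [this, Matrix.zero_mulVec])
  have hr : N.rank = 1 := by rw [Matrix.rank]; omega
  obtain ⟨h, v, hv0, hv⟩ := Cfsg.Agent.S0839.result 1 g ⟨hr, hNN⟩
  -- move `v` to the first basis vector
  obtain ⟨B, hBdet, hB1, hB2⟩ : ∃ B : Matrix (Fin 3) (Fin 3) F, B.det = 1 ∧
      B *ᵥ v = Pi.single 1 1 ∧ (Pi.single 0 1 : Fin 3 → F) ᵥ* B = Pi.single 0 1 := by
    by_cases h1 : v 1 = 0
    · have h2v : v 2 ≠ 0 := fun h2v => by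
        have hv' : v = 0 := funext fun i => by fin_cases i <;> assumption
        apply hg1
        have : h⁻¹ * g * h = 1 := Subtype.ext (by rw [hv, hv']; simp)
        calc g = h * (h⁻¹ * g * h) * h⁻¹ := by group
          _ = 1 := by rw [this]; group
      refine ⟨!![1, 0, 0; 0, 0, (v 2)⁻¹; 0, -(v 2), 0], ?_, ?_, ?_⟩
      · simp [Matrix.det_fin_three, h2v]
      · funext i; fin_cases i <;> simp [Matrix.mulVec, dotProduct, Fin.sum_univ_three, hv0, h1, h2v]
      · funext i; fin_cases i <;> simp [Matrix.vecMul, dotProduct, Fin.sum_univ_three]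
    · refine ⟨!![1, 0, 0; 0, (v 1)⁻¹, 0; 0, -(v 2), v 1], ?_, ?_, ?_⟩
      · simp [Matrix.det_fin_three, h1]
      · funext i; fin_cases i <;> simp [Matrix.mulVec, dotProduct, Fin.sum_univ_three, hv0, h1] <;> ring
      · funext i; fin_cases i <;> simp [Matrix.vecMul, dotProduct, Fin.sum_univ_three]
  let b : Matrix.SpecialLinearGroup (Fin 3) F := ⟨B, hBdet⟩
  refine ⟨b * h⁻¹, ?_⟩
  rw [show b * h⁻¹ * g * (b * h⁻¹)⁻¹ = b * (h⁻¹ * g * h) * b⁻¹ by group, mul_inv_eq_iff_eq_mul]
  refine Subtype.ext ?_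
  show B * (h⁻¹ * g * h : Matrix.SpecialLinearGroup (Fin 3) F).1 =
    (Matrix.SpecialLinearGroup.transvection (show (1 : Fin 3) ≠ 0 by decide) (1 : F)).1 * B
  rw [hv, Matrix.SpecialLinearGroup.transvection_coe, Matrix.mul_add, Matrix.add_mul, Matrix.mul_one,
    Matrix.one_mul, Matrix.mul_vecMulVec]
  change B + vecMulVec (B *ᵥ v) (Pi.single 0 1) = B + Matrix.single 1 0 1 * B
  rw [hB1]
  congr 1
  rw [show Matrix.single (1 : Fin 3) (0 : Fin 3) (1 : F) =
      vecMulVec (Pi.single 1 1) (Pi.single 0 1) by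
    ext i j; simp [Matrix.vecMulVec_apply, Matrix.single_apply, Pi.single_apply]; grind,
    Matrix.vecMulVec_mul, hB2]


/-- Any two elements of order 2 of PSL_3(4) are conjugate. -/
theorem result {F : Type*} [Field F] [Fintype F] (hF : Fintype.card F = 4) (x y : Matrix.ProjectiveSpecialLinearGroup (Fin 3) F) (hx : orderOf x = 2) (hy : orderOf y = 2) : IsConj x y := by
  classical
  have h2 : (2 : F) = 0 := by
    have := FiniteField.even_card_iff_char_two (F := F)
    rw [hF] at this
    have hc : ringChar F = 2 := this.2 rfl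
    have : CharP F 2 := ringChar.of_eq hc
    exact CharTwo.two_eq_zero
  -- lift to involutions of `SL`
  have lift : ∀ z : Matrix.ProjectiveSpecialLinearGroup (Fin 3) F, orderOf z = 2 →
      ∃ A : Matrix.SpecialLinearGroup (Fin 3) F, A * A = 1 ∧ A ≠ 1 ∧ QuotientGroup.mk A = z := by
    intro z hz
    obtain ⟨A, rfl⟩ := QuotientGroup.mk_surjective z
    have hc : A * A ∈ Subgroup.center _ := by
      rw [← QuotientGroup.eq_one_iff, QuotientGroup.mk_mul, ← pow_two, ← hz, pow_orderOf_eq_one]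
    obtain ⟨c, hc3, hcA⟩ := Matrix.SpecialLinearGroup.mem_center_iff.mp hc
    have h3 : (A * A) ^ 3 = 1 := Subtype.ext (by
      rw [Matrix.SpecialLinearGroup.coe_pow, ← hcA, ← map_pow, show c ^ 3 = 1 by simpa using hc3,
        map_one, Matrix.SpecialLinearGroup.coe_one])
    have hcomm : Commute A (A * A) := (Commute.refl A).mul_right (Commute.refl A)
    refine ⟨A * (A * A), ?_, ?_, ?_⟩
    · calc A * (A * A) * (A * (A * A)) = (A * A) ^ 3 := by simp only [pow_succ, pow_zero, one_mul, mul_assoc]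
        _ = 1 := h3
    · intro h
      have : (QuotientGroup.mk (A * (A * A)) : Matrix.ProjectiveSpecialLinearGroup (Fin 3) F) = 1 := by
        rw [h]; rfl
      rw [QuotientGroup.mk_mul, (QuotientGroup.eq_one_iff _).2 hc, mul_one] at this
      rw [this, orderOf_one] at hz
      omega
    · rw [QuotientGroup.mk_mul, (QuotientGroup.eq_one_iff _).2 hc, mul_one]
  obtain ⟨A, hA, hA1, rfl⟩ := lift x hx
  obtain ⟨B, hB, hB1, rfl⟩ := lift y hy
  obtain ⟨k, hk⟩ := conj_std h2 A hA hA1
  obtain ⟨l, hl⟩ := conj_std h2 B hB hB1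
  refine isConj_iff.2 ⟨QuotientGroup.mk (l⁻¹ * k), ?_⟩
  rw [← QuotientGroup.mk_inv, ← QuotientGroup.mk_mul, ← QuotientGroup.mk_mul]
  congr 1
  have : B = l⁻¹ * (l * B * l⁻¹) * l := by group
  rw [this, hl, ← hk]; group

end Cfsg.Agent.S0820
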