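import Cfsg.Statements.S0821
import Cfsg.Agent.Lib.Sp.InvolutionClasses
import Cfsg.Agent.Lib.Orth.OddInvolutions

set_option autoImplicit false
open Cfsg

namespace Cfsg.Agent.S0821

/-- PSp_2m(q) ≇ PΩ_(2m+1)(q) for q odd and m ≥ 3 (they have the same order). -/
theorem result {F : Type*} [Field F] [Fintype F] (hodd : Odd (Fintype.card F)) (m : ℕ) (hm : 3 ≤ m) : IsEmpty (Cfsg.PSp m F ≃* Cfsg.POmega F (Cfsg.quadFormOdd m F)) := by
  constructor
  intro φ
  have h2 : (2 : F) ≠ 0 := Cfsg.Agent.Spinor57.two_ne_zero_of_odd rfl hodd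
  obtain ⟨y, hy, hinj⟩ := CfsgLib.OrthOddInv.exists_involutions h2 hm
  obtain ⟨i, j, hij, h⟩ := CfsgLib.SpInvClasses.exists_isConj h2 (κ := Fin m) (by simp; omega)
    (fun i => φ.symm (y i)) (fun i h => (hy i).1 (by simpa using congrArg φ h))
    (fun i => by rw [← map_mul, (hy i).2, map_one])
  refine hij (hinj i j ?_)
  simpa using φ.toMonoidHom.map_isConj h

end Cfsg.Agent.S0821
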