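import Cfsg.Statements.S0823
import Cfsg.Agent.Lib.Orth.DeletedPerm

set_option autoImplicit false
set_option maxHeartbeats 1000000
set_option synthInstance.maxSize 4000
open Cfsg

namespace Cfsg.Agent.S0823

open Matrix QuadraticMap CfsgLib.Orth

/-- the form `x₀² + x₁y₁` -/
noncomputable def formThree : QuadraticForm (ZMod 3) (Unit ⊕ (Fin 1 ⊕ Fin 1) → ZMod 3) :=
  QuadraticMap.linMulLin (LinearMap.proj (R := ZMod 3) (φ := fun _ => ZMod 3) (Sum.inl ()))
      (LinearMap.proj (Sum.inl ())) +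
    QuadraticMap.linMulLin (LinearMap.proj (R := ZMod 3) (φ := fun _ => ZMod 3) (Sum.inr (Sum.inl 0)))
      (LinearMap.proj (Sum.inr (Sum.inr 0)))

theorem formThree_coe : ⇑formThree = Cfsg.quadFormOdd 1 (ZMod 3) := by
  funext v
  simp [formThree, Cfsg.quadFormOdd, _root_.sq]

/-- the index of a coordinate -/
def idx : Unit ⊕ (Fin 1 ⊕ Fin 1) ≃ Fin 3 :=
  (finOneEquiv.symm.sumCongr finSumFinEquiv).trans finSumFinEquiv

/-- coordinates of sum-zero vectors -/
def toCoord : Matrix (Unit ⊕ (Fin 1 ⊕ Fin 1)) (Fin 4) (ZMod 3) :=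
  (!![0, 0, 2, 1; 0, 1, 0, 0; 0, 1, 1, 1] : Matrix (Fin 3) (Fin 4) (ZMod 3)).submatrix idx id

/-- representatives of the coordinate vectors -/
def ofCoord : Matrix (Fin 4) (Unit ⊕ (Fin 1 ⊕ Fin 1)) (ZMod 3) :=
  (!![0, 0, 2; 0, 1, 0; 1, 1, 2; 2, 1, 2] : Matrix (Fin 4) (Fin 3) (ZMod 3)).submatrix id idx

theorem toCoord_ofCoord : ∀ v, toCoord *ᵥ (ofCoord *ᵥ v) = v := by decide +kernel

theorem sum_ofCoord : ∀ v, ∑ i, (ofCoord *ᵥ v) i = 0 := by decide +kernel

theorem toCoord_const : ∀ x : Fin 4 → ZMod 3, ∑ i, x i = 0 → toCoord *ᵥ x = 0 → ∀ i j, x i = x j := by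
  decide +kernel

/-- the coordinates -/
def coords : PermCoords (Unit ⊕ (Fin 1 ⊕ Fin 1)) (ZMod 3) 4 :=
  ⟨toCoord.mulVecLin, ofCoord.mulVecLin, toCoord_ofCoord, sum_ofCoord, toCoord_const⟩

/-- the three double transpositions -/
def doubleSwap : Fin 3 → Equiv.Perm (Fin 4) :=
  ![Equiv.swap 0 1 * Equiv.swap 2 3, Equiv.swap 0 2 * Equiv.swap 1 3, Equiv.swap 0 3 * Equiv.swap 1 2]

theorem key :
    (∀ a b : Fin 4, a ≠ b → ∀ v,
      coords.rep (Equiv.swap a b) v =
        v - ((formThree (coords.φ (Pi.single a 1 - Pi.single b 1)))⁻¹ *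
          polar formThree v (coords.φ (Pi.single a 1 - Pi.single b 1))) •
          coords.φ (Pi.single a 1 - Pi.single b 1)) ∧
    (∀ w, formThree w ≠ 0 → (∃ a b : Fin 4, a ≠ b ∧ w = coords.φ (Pi.single a 1 - Pi.single b 1)) ∨
      ∃ k, ∀ v, v - ((formThree w)⁻¹ * polar formThree v w) • w = -coords.rep (doubleSwap k) v) ∧
    (∀ a b : Fin 4, a ≠ b → formThree (coords.φ (Pi.single a 1 - Pi.single b 1)) ≠ 0) ∧
    (∀ x, (∀ y, polar formThree x y = 0) → x = 0) := by
  simp only [polar, formThree_coe]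
  refine ⟨?_, ?_, ?_, ?_⟩
  · decide +kernel
  · decide +kernel
  · decide +kernel
  · decide +kernel

theorem swapRefl : PermCoords.SwapRefl coords formThree := key.1

/-- `SO₃(3) ≅ S₄` over `ZMod 3` -/
theorem special_equiv :
    Nonempty (Cfsg.specialIsometryGroup (ZMod 3) ⇑formThree ≃* Equiv.Perm (Fin 4)) := by
  obtain ⟨-, hrefl, hne, hnd⟩ := key
  have hQ : formThree.polarBilin.Nondegenerate := ⟨hnd, fun y hy => hnd y fun x => by rw [polar_comm]; exact hy x⟩
  let ρ := PermCoords.toO swapRefl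
  let s : Equiv.Perm (Fin 4) → ZMod 3 := fun σ => ((Equiv.Perm.sign σ : ℤ) : ZMod 3)
  have hs : ∀ σ τ, s (σ * τ) = s σ * s τ := fun σ τ => by simp [s]
  have hs2 : ∀ σ, s σ * s σ = 1 := fun σ => by
    rcases Int.units_eq_one_or (Equiv.Perm.sign σ) with h | h <;> simp [s, h]
  have hdet : ∀ σ, ((detHom formThree (ρ σ) : (ZMod 3)ˣ) : ZMod 3) = s σ := fun σ => by
    induction σ using Equiv.Perm.swap_induction_on with
    | one => simp [s]
    | swap_mul f x y hxy hf =>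
      rw [map_mul, map_mul, Units.val_mul, hf, hs, PermCoords.toO_swap swapRefl hxy,
        detHom_refl (hne x y hxy)]
      simp [s, hxy]
  have hall : ∀ g : O formThree, ∃ (σ : Equiv.Perm (Fin 4)) (t : ZMod 3),
      t * t = 1 ∧ ∀ v, app g v = t • app (ρ σ) v := by
    intro g
    have hmem : g ∈ reflClosure formThree := by
      rw [reflClosure_eq_top hQ (Or.inr (by decide))]; exact Subgroup.mem_top g
    induction hmem using Subgroup.closure_induction with
    | mem x hx =>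
      obtain ⟨w, rfl⟩ := hx
      rcases eq_or_ne (formThree w) 0 with h | h
      · exact ⟨1, 1, by simp, fun v => by rw [refl_eq_one h, map_one, one_smul]⟩
      rcases hrefl w h with ⟨a, b, hab, rfl⟩ | ⟨k, hk⟩
      · exact ⟨_, 1, by simp, fun v => by rw [one_smul, PermCoords.toO_swap swapRefl hab]⟩
      · refine ⟨doubleSwap k, -1, by simp, fun v => ?_⟩
        rw [app_refl, hk v, neg_one_smul, PermCoords.app_toO]
    | one => exact ⟨1, 1, by simp, fun v => by rw [map_one, one_smul]⟩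
    | mul x y _ _ hx hy =>
      obtain ⟨σ, t, ht, hx⟩ := hx
      obtain ⟨τ, u, hu, hy⟩ := hy
      refine ⟨σ * τ, t * u, by rw [mul_mul_mul_comm, ht, hu, one_mul], fun v => ?_⟩
      rw [app_mul, hy, map_smul, hx, map_mul, app_mul, smul_smul, mul_comm u t]
    | inv x _ hx =>
      obtain ⟨σ, t, ht, hx⟩ := hx
      refine ⟨σ⁻¹, t, ht, fun v => app_injective x ?_⟩
      rw [app_app_inv, map_smul, hx, map_inv, app_app_inv, smul_smul, ht, one_smul]
  have hscal : ∀ (g : O formThree) (σ : Equiv.Perm (Fin 4)) (t : ZMod 3), (∀ v, app g v = t • app (ρ σ) v) →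
      ((detHom formThree g : (ZMod 3)ˣ) : ZMod 3) = t ^ 3 * s σ := fun g σ t h => by
    have e : ((g.1 : Matrix.GeneralLinearGroup (Unit ⊕ (Fin 1 ⊕ Fin 1)) (ZMod 3)) :
        Matrix (Unit ⊕ (Fin 1 ⊕ Fin 1)) (Unit ⊕ (Fin 1 ⊕ Fin 1)) (ZMod 3)) = t • (ρ σ).1.1 :=
      Matrix.ext_of_mulVec_single fun i => by
        rw [Matrix.smul_mulVec]; exact h _
    rw [← hdet]
    show (g.1.1 : Matrix (Unit ⊕ (Fin 1 ⊕ Fin 1)) (Unit ⊕ (Fin 1 ⊕ Fin 1)) (ZMod 3)).det = _
    rw [e, Matrix.det_smul]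
    rfl
  have h3 : ∀ t : ZMod 3, t * t = 1 → t ^ 3 = t := fun t h => by
    rw [pow_succ, _root_.sq, h, one_mul]
  have hbij : ∀ g : Cfsg.specialIsometryGroup (ZMod 3) ⇑formThree,
      ∃ σ, ∀ v, app g.1 v = s σ • app (ρ σ) v := fun g => by
    obtain ⟨σ, t, ht, hg⟩ := hall g.1
    refine ⟨σ, fun v => ?_⟩
    have h := hscal g.1 σ t hg
    rw [show detHom formThree g.1 = 1 from g.2, Units.val_one, h3 t ht] at h
    rw [hg, show t = s σ from mul_right_cancel₀ (left_ne_zero_of_mul_eq_one (hs2 σ))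
      (h.symm.trans (hs2 σ).symm)]
  choose f hf using hbij
  have hinj : ∀ σ τ : Equiv.Perm (Fin 4), (∀ v, s σ • app (ρ σ) v = s τ • app (ρ τ) v) → σ = τ := by
    intro σ τ h
    have h0 : ∀ v, app (ρ (τ⁻¹ * σ)) v = (s σ * s τ) • v := fun v => by
      rw [map_mul, app_mul, map_inv]
      apply app_injective (ρ τ)
      rw [app_app_inv, map_smul, ← smul_right_inj (left_ne_zero_of_mul_eq_one (hs2 σ)), h v, smul_smul, ← mul_assoc, hs2, one_mul]
    have hinv : s τ⁻¹ = s τ := by simp [s, Equiv.Perm.sign_inv]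
    have hval : ∀ π : Equiv.Perm (Fin 4), s π = 1 ∨ s π = -1 := fun π => by
      rcases Int.units_eq_one_or (Equiv.Perm.sign π) with h | h <;> simp [s, h]
    -- the scalar is `±1`
    rcases hval (τ⁻¹ * σ) with h1 | h1
    · rw [hs, hinv, mul_comm] at h1
      have hone : ρ (τ⁻¹ * σ) = 1 := ext_app fun v => by rw [h0, h1, one_smul, app_one]
      exact inv_mul_eq_one.1 (PermCoords.toO_injective swapRefl (by norm_num) (Or.inr (by decide))
        (hone.trans (map_one ρ).symm)) |>.symm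
    · rw [hs, hinv, mul_comm] at h1
      exfalso
      have key2 : ∀ π : Equiv.Perm (Fin 4), ∃ v, coords.rep π v ≠ -v := by decide +kernel
      obtain ⟨v, hv⟩ := key2 (τ⁻¹ * σ)
      exact hv (by rw [← PermCoords.app_toO swapRefl]; exact (h0 v).trans (by rw [h1, neg_one_smul]))
  let F' : Cfsg.specialIsometryGroup (ZMod 3) ⇑formThree →* Equiv.Perm (Fin 4) :=
    MonoidHom.mk' f fun g g' => hinj _ _ fun v => by
      rw [← hf (g * g'), Subgroup.coe_mul, app_mul, hf g, hf g', map_smul, map_mul, app_mul, smul_smul, hs]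
  refine ⟨MulEquiv.ofBijective F' ⟨fun g g' h => Subtype.ext (ext_app fun v => ?_), fun σ => ?_⟩⟩
  · rw [hf g, hf g']; exact congrArg (fun π => s π • app (ρ π) v) h
  · let M : (Unit ⊕ (Fin 1 ⊕ Fin 1) → ZMod 3) →ₗ[ZMod 3] _ := s σ • app (ρ σ)
    let N : (Unit ⊕ (Fin 1 ⊕ Fin 1) → ZMod 3) →ₗ[ZMod 3] _ := s σ • app (ρ σ⁻¹)
    let g : O formThree := mkO M N
      (LinearMap.ext fun v => by simp [M, N, smul_smul, hs2, app_app_inv])
      (LinearMap.ext fun v => by simp [M, N, smul_smul, hs2, app_inv_app])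
      (fun v => by simp [M, QuadraticMap.map_smul, hs2])
    have hg : ∀ v, app g v = s σ • app (ρ σ) v := fun v => app_mkO _ _ _ _ _ v
    have hg1 : g ∈ Cfsg.specialIsometryGroup (ZMod 3) ⇑formThree := by
      show detHom formThree g = 1
      refine Units.ext ?_
      rw [hscal g σ (s σ) hg, h3 _ (hs2 σ), hs2, Units.val_one]
    exact ⟨⟨g, hg1⟩, hinj _ _ fun v => (hf ⟨g, hg1⟩ v).symm.trans (hg v)⟩

/-- SO_3(3) ≅ S_4: the determinant-one isometries of the form x_0² + x_1y_1 over the field with 3 elements form a group isomorphic to the symmetric group on 4 letters. -/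
theorem result {F : Type*} [Field F] [Fintype F] (hF : Fintype.card F = 3) : Nonempty (↥(Cfsg.specialIsometryGroup F (Cfsg.quadFormOdd 1 F)) ≃* Equiv.Perm (Fin 4)) := by
  have : Fact (Nat.Prime 3) := ⟨Nat.prime_three⟩
  let e : ZMod 3 ≃+* F := ZMod.ringEquivOfPrime F Nat.prime_three hF
  obtain ⟨e0⟩ := special_equiv
  let E := isometryGroupCongr e ⇑formThree (Cfsg.quadFormOdd 1 F) fun v => by
    rw [formThree_coe]
    simp only [Cfsg.quadFormOdd, Function.comp_apply, map_add, map_mul, map_pow, map_sum]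
  refine ⟨(((E.subgroupMap _).trans (MulEquiv.subgroupCongr ?_)).symm).trans e0⟩
  have hd : ∀ g : Cfsg.isometryGroup (ZMod 3) ⇑formThree,
      ((E g).1.1 : Matrix (Unit ⊕ (Fin 1 ⊕ Fin 1)) (Unit ⊕ (Fin 1 ⊕ Fin 1)) F).det = e g.1.1.det := fun g =>
    (RingEquiv.map_det e g.1.1).symm
  ext g
  obtain ⟨g, rfl⟩ := E.surjective g
  refine Iff.trans ⟨fun ⟨a, ha, he⟩ => E.injective he ▸ ha, fun h => ⟨g, h, rfl⟩⟩ ?_
  show Matrix.GeneralLinearGroup.det g.1 = 1 ↔
    Matrix.GeneralLinearGroup.det (E g).1 = 1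
  rw [Units.ext_iff, Units.ext_iff, Matrix.GeneralLinearGroup.val_det_apply,
    Matrix.GeneralLinearGroup.val_det_apply, hd, Units.val_one, Units.val_one, EmbeddingLike.map_eq_one_iff]

end Cfsg.Agent.S0823
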