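import Cfsg.Statements.S0825
import Cfsg.Agent.Lib.Orth.DeletedPerm
import Cfsg.Agent.Lib.Orth.NegOne

set_option autoImplicit false
set_option maxHeartbeats 1000000
set_option synthInstance.maxSize 4000
open Cfsg

namespace Cfsg.Agent.S0825

open Matrix QuadraticMap CfsgLib.Orth

/-- the index of a coordinate -/
def idx : Fin 3 ⊕ Fin 3 ≃ Fin 6 :=
  finSumFinEquiv

/-- coordinates of even-weight vectors modulo constants -/
def toCoord : Matrix (Fin 3 ⊕ Fin 3) (Fin 8) (ZMod 2) :=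
  (!![0, 0, 0, 1, 1, 1, 1, 0; 0, 0, 1, 1, 1, 0, 0, 1; 0, 1, 1, 0, 1, 0, 1, 0; 0, 0, 0, 0, 1, 1, 1, 1; 0, 0, 1, 1, 0, 0, 1, 1; 0, 1, 0, 1, 0, 1, 0, 1] : Matrix (Fin 6) (Fin 8) (ZMod 2)).submatrix idx id

/-- representatives of the coordinate vectors -/
def ofCoord : Matrix (Fin 8) (Fin 3 ⊕ Fin 3) (ZMod 2) :=
  (!![0, 0, 0, 0, 0, 0; 0, 0, 1, 0, 0, 1; 0, 1, 0, 0, 1, 1; 0, 1, 1, 1, 1, 0; 1, 0, 0, 1, 1, 1; 1, 0, 1, 1, 0, 0; 1, 1, 0, 1, 0, 1; 1, 1, 1, 0, 1, 0] : Matrix (Fin 8) (Fin 6) (ZMod 2)).submatrix id idx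

theorem toCoord_ofCoord : ∀ v, toCoord *ᵥ (ofCoord *ᵥ v) = v := by decide +kernel

theorem sum_ofCoord : ∀ v, ∑ i, (ofCoord *ᵥ v) i = 0 := by decide +kernel

theorem toCoord_const : ∀ x : Fin 8 → ZMod 2, ∑ i, x i = 0 → toCoord *ᵥ x = 0 → ∀ i j, x i = x j := by
  decide +kernel

/-- the coordinates -/
def coords : PermCoords (Fin 3 ⊕ Fin 3) (ZMod 2) 8 :=
  ⟨toCoord.mulVecLin, ofCoord.mulVecLin, toCoord_ofCoord, sum_ofCoord, toCoord_const⟩

theorem swap_basis :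
    ∀ a b : Fin 8, a ≠ b → ∀ i : Fin 3 ⊕ Fin 3,
      coords.rep (Equiv.swap a b) (Pi.single i 1) =
        Pi.single i 1 - polar (plusQ 3 (ZMod 2)) (Pi.single i 1) (coords.φ (Pi.single a 1 - Pi.single b 1)) •
          coords.φ (Pi.single a 1 - Pi.single b 1) := by
  simp only [polar, plusQ_coe]
  decide +kernel

theorem bijective_key :
    (∀ a b : Fin 8, a ≠ b →
      (plusQ 3 (ZMod 2)) (coords.φ (Pi.single a 1 - Pi.single b 1)) = 1) ∧
    (∀ a b : Fin 8, a ≠ b → ∀ v,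
      coords.rep (Equiv.swap a b) v =
        v - polar (plusQ 3 (ZMod 2)) v (coords.φ (Pi.single a 1 - Pi.single b 1)) •
          coords.φ (Pi.single a 1 - Pi.single b 1)) ∧
    (∀ v, (plusQ 3 (ZMod 2)) v ≠ 0 → ∃ a b : Fin 8, a ≠ b ∧ v = coords.φ (Pi.single a 1 - Pi.single b 1)) := by
  refine ⟨?_, ?_, ?_⟩
  · simp only [plusQ_coe]
    decide +kernel
  · intro a b hab
    set r := coords.φ (Pi.single a 1 - Pi.single b 1) with hr
    have h : coords.rep (Equiv.swap a b) =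
        LinearMap.id - ((plusQ 3 (ZMod 2)).polarBilin.flip r).smulRight r := by
      refine LinearMap.pi_ext fun i x => ?_
      have hx : Pi.single i x = x • (Pi.single i 1 : Fin 3 ⊕ Fin 3 → ZMod 2) := by
        rw [← Pi.single_smul, smul_eq_mul, mul_one]
      rw [hx, map_smul, map_smul, swap_basis a b hab i]
      simp [hr]
    intro v
    rw [h]
    simp
  · simp only [plusQ_coe]
    decide +kernel

/-- O⁺_6(2) ≅ S_8: the isometry group of the hyperbolic form x_1y_1 + x_2y_2 + x_3y_3 over the field with 2 elements is isomorphic to the symmetric group on 8 letters. -/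
theorem result {F : Type*} [Field F] [Fintype F] (hF : Fintype.card F = 2) : Nonempty (↥(Cfsg.isometryGroup F (Cfsg.quadFormPlus 3 F)) ≃* Equiv.Perm (Fin 8)) := by
  obtain ⟨hone, hswap, hrefl⟩ := bijective_key
  have hs : PermCoords.SwapRefl coords (plusQ 3 (ZMod 2)) := fun a b hab v => by
    rw [hswap a b hab v, hone a b hab, inv_one, one_mul]
  have hQ : (plusQ 3 (ZMod 2)).polarBilin.Nondegenerate := plusQ_nondegenerate 3
  have hgen : reflClosure (plusQ 3 (ZMod 2)) = ⊤ := reflClosure_eq_top hQ (Or.inr (by decide))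
  have e0 := (MulEquiv.ofBijective _ (PermCoords.toO_bijective hs (by norm_num) hgen hrefl)).symm
  let e : ZMod 2 ≃+* F := ZMod.ringEquivOfPrime F Nat.prime_two hF
  have hco : ⇑(plusQ 3 (ZMod 2)) = Cfsg.quadFormPlus 3 (ZMod 2) := plusQ_coe ..
  exact ⟨(isometryGroupCongr e ⇑(plusQ 3 (ZMod 2)) (Cfsg.quadFormPlus 3 F) fun v => by
    rw [hco]; simp [Cfsg.quadFormPlus]).symm.trans e0⟩

end Cfsg.Agent.S0825
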