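import Cfsg.Statements.S0826
import Cfsg.Agent.Lib.Orth.DeletedPerm

set_option autoImplicit false
open Cfsg

namespace Cfsg.Agent.S0826

open Matrix CfsgLib.Orth

variable {m p : ℕ}

/-- `x ↦ (x·b, x·a)` -/
def toCoord (a b : Fin p → Fin m → ZMod 2) : (Fin m → ZMod 2) →ₗ[ZMod 2] (Fin p ⊕ Fin p → ZMod 2) :=
  (Matrix.of (Sum.elim b a)).mulVecLin

/-- `v ↦ Σ vᵢ aᵢ + Σ vᵢ' bᵢ` -/
def ofCoord (a b : Fin p → Fin m → ZMod 2) : (Fin p ⊕ Fin p → ZMod 2) →ₗ[ZMod 2] (Fin m → ZMod 2) :=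
  (Matrix.of (Sum.elim a b)).vecMulLinear

theorem dot_ofCoord (a b : Fin p → Fin m → ZMod 2) (v : Fin p ⊕ Fin p → ZMod 2) (y : Fin m → ZMod 2) :
    ofCoord a b v ⬝ᵥ y = ∑ i, v (Sum.inl i) * (a i ⬝ᵥ y) + ∑ i, v (Sum.inr i) * (b i ⬝ᵥ y) := by
  rw [ofCoord, Matrix.vecMulLinear_apply, ← Matrix.dotProduct_mulVec, dotProduct, Fintype.sum_sum_type]
  rfl

theorem exists_embedding (a b : Fin p → Fin m → ZMod 2) (haa : ∀ i j, a i ⬝ᵥ a j = 0)
    (hbb : ∀ i j, b i ⬝ᵥ b j = 0) (hab : ∀ i j, a i ⬝ᵥ b j = if i = j then 1 else 0)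
    (ha : ∀ i, ∑ k, a i k = 0) (hb : ∀ i, ∑ k, b i k = 0)
    (hc : ∀ x : Fin m → ZMod 2, ∑ k, x k = 0 → (∀ i, a i ⬝ᵥ x = 0) → (∀ i, b i ⬝ᵥ x = 0) →
      ∀ k l, x k = x l) (hm : 5 ≤ m) :
    ∃ f : Equiv.Perm (Fin m) →* Matrix.symplecticGroup (Fin p) (ZMod 2), Function.Injective f := by
  classical
  have hsum : ∀ v, ∑ k, ofCoord a b v k = 0 := fun v => by
    rw [← dotProduct_one, dot_ofCoord]
    simp [dotProduct_one, ha, hb]
  have hga : ∀ v i, a i ⬝ᵥ ofCoord a b v = v (Sum.inr i) := fun v i => by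
    rw [dotProduct_comm, dot_ofCoord]
    simp [haa, dotProduct_comm (b _) (a i), hab]
  have hgb : ∀ v i, b i ⬝ᵥ ofCoord a b v = v (Sum.inl i) := fun v i => by
    rw [dotProduct_comm, dot_ofCoord]
    simp [hbb, hab]
  let C : PermCoords (Fin p ⊕ Fin p) (ZMod 2) m :=
    { φ := toCoord a b
      ψ := ofCoord a b
      φ_ψ := fun v => funext fun i => by
        cases i with
        | inl i => exact hgb v i
        | inr i => exact hga v i
      sum_ψ := hsum
      const := fun x hx h0 => hc x hx (fun i => congrFun h0 (Sum.inr i)) (fun i => congrFun h0 (Sum.inl i)) }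
  -- the form in coordinates
  have hform : ∀ v w, ofCoord a b v ⬝ᵥ ofCoord a b w = v ⬝ᵥ (Matrix.J (Fin p) (ZMod 2) *ᵥ w) := fun v w => by
    rw [dot_ofCoord]
    simp only [hga, hgb]
    simp [dotProduct, Fintype.sum_sum_type, Matrix.J, Matrix.mulVec, Matrix.fromBlocks,
      Matrix.one_apply, ZMod.neg_eq_self_mod_two]
  -- replacing a sum-zero vector by its representative
  have hrepr : ∀ y z : Fin m → ZMod 2, ∑ k, y k = 0 → ∑ k, z k = 0 →
      ofCoord a b (C.φ y) ⬝ᵥ z = y ⬝ᵥ z := fun y z hy hz => by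
    have h := C.const (ofCoord a b (C.φ y) - y) (by simp [Finset.sum_sub_distrib, hsum, hy])
      (by rw [map_sub]; exact sub_eq_zero.2 (C.φ_ψ _))
    rw [← sub_eq_zero, ← sub_dotProduct, dotProduct]
    rw [Finset.sum_congr rfl fun k _ => by rw [h k ⟨0, by omega⟩], ← Finset.mul_sum, hz, mul_zero]
  have hmem : ∀ σ, ((C.toGL σ : Matrix.GeneralLinearGroup (Fin p ⊕ Fin p) (ZMod 2)) :
      Matrix (Fin p ⊕ Fin p) (Fin p ⊕ Fin p) (ZMod 2)) ∈ Matrix.symplecticGroup (Fin p) (ZMod 2) := by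
    intro σ
    rw [SymplecticGroup.mem_iff']
    refine Matrix.ext fun i j => ?_
    have hz : ∀ v, ∑ k, ofCoord a b v (σ.symm k) = 0 := fun v => by
      rw [Equiv.sum_comp σ.symm (ofCoord a b v)]; exact hsum v
    have h : ∀ v w, C.rep σ v ⬝ᵥ (Matrix.J (Fin p) (ZMod 2) *ᵥ C.rep σ w) =
        v ⬝ᵥ (Matrix.J (Fin p) (ZMod 2) *ᵥ w) := fun v w => by
      rw [← hform, ← hform, C.rep_apply, C.rep_apply]
      rw [hrepr _ _ (hz v) (hsum _), dotProduct_comm, hrepr _ _ (hz w) (hz v), dotProduct_comm]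
      exact Equiv.sum_comp σ.symm (fun k => ofCoord a b v k * ofCoord a b w k)
    have := h (Pi.single i 1) (Pi.single j 1)
    rw [← C.toGL_mulVec, ← C.toGL_mulVec, ← Matrix.vecMul_transpose, Matrix.mulVec_mulVec,
      ← Matrix.dotProduct_mulVec, Matrix.mulVec_mulVec, ← Matrix.mul_assoc] at this
    simpa using this
  let f : Equiv.Perm (Fin m) →* Matrix.symplecticGroup (Fin p) (ZMod 2) :=
    ((Units.coeHom _).comp C.toGL).codRestrict _ hmem
  refine ⟨f, fun σ τ h => ?_⟩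
  refine C.toGL_injective (by omega) (Or.inl hm) (Units.ext ?_)
  exact congrArg Subtype.val h

/-- the indicator vector `ε_{2i} + ε_{2i+1}` -/
def aVec (p : ℕ) (i : Fin p) (k : Fin (2 * (p + 1))) : ZMod 2 :=
  if (k : ℕ) = 2 * i ∨ (k : ℕ) = 2 * i + 1 then 1 else 0

/-- the indicator vector of `2i+1, …, 2p` -/
def bVec (p : ℕ) (i : Fin p) (k : Fin (2 * (p + 1))) : ZMod 2 :=
  if 2 * (i : ℕ) + 1 ≤ k ∧ (k : ℕ) ≤ 2 * p then 1 else 0

theorem aVec_dot (i : Fin p) (x : Fin (2 * (p + 1)) → ZMod 2) (X : ℕ → ZMod 2) (hX : ∀ k, X k.val = x k) :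
    aVec p i ⬝ᵥ x = X (2 * i) + X (2 * i + 1) := by
  rw [dotProduct]
  simp only [← hX, aVec, ite_mul, one_mul, zero_mul]
  rw [← Finset.sum_range (fun k => if k = 2 * (i : ℕ) ∨ k = 2 * (i : ℕ) + 1 then X k else 0),
    ← Finset.sum_filter]
  rw [show ((Finset.range (2 * (p + 1))).filter fun k => k = 2 * (i : ℕ) ∨ k = 2 * (i : ℕ) + 1) =
    {2 * (i : ℕ), 2 * (i : ℕ) + 1} by ext k; simp; omega]
  rw [Finset.sum_pair (by omega)]

theorem bVec_dot (i : Fin p) (x : Fin (2 * (p + 1)) → ZMod 2) (X : ℕ → ZMod 2) (hX : ∀ k, X k.val = x k) :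
    bVec p i ⬝ᵥ x = ∑ k ∈ Finset.Ico (2 * (i : ℕ) + 1) (2 * p + 1), X k := by
  rw [dotProduct]
  simp only [← hX, bVec, ite_mul, one_mul, zero_mul]
  rw [← Finset.sum_range (fun k => if 2 * (i : ℕ) + 1 ≤ k ∧ k ≤ 2 * p then X k else 0),
    ← Finset.sum_filter]
  refine Finset.sum_congr ?_ fun _ _ => rfl
  ext k; simp; omega

theorem embedding_even (p : ℕ) (hp : 2 ≤ p) :
    ∃ f : Equiv.Perm (Fin (2 * (p + 1))) →* Matrix.symplecticGroup (Fin p) (ZMod 2),
      Function.Injective f := by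
  refine exists_embedding (aVec p) (bVec p) ?_ ?_ ?_ ?_ ?_ ?_ (by omega)
  · intro i j
    rw [aVec_dot i (aVec p j) (fun k => if k = 2 * (j : ℕ) ∨ k = 2 * (j : ℕ) + 1 then 1 else 0) (fun k => rfl)]
    by_cases h : (i : ℕ) = j
    · simp [h]; rfl
    · rw [if_neg (by omega), if_neg (by omega), add_zero]
  · intro i j
    rw [bVec_dot i (bVec p j) (fun k => if 2 * (j : ℕ) + 1 ≤ k ∧ k ≤ 2 * p then 1 else 0) (fun k => rfl),
      ← Finset.sum_filter, Finset.sum_const, nsmul_one,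
      show ((Finset.Ico (2 * (i : ℕ) + 1) (2 * p + 1)).filter fun k => 2 * (j : ℕ) + 1 ≤ k ∧ k ≤ 2 * p) =
        Finset.Ico (max (2 * (i : ℕ) + 1) (2 * (j : ℕ) + 1)) (2 * p + 1) by ext k; simp; omega,
      Nat.card_Ico, ZMod.natCast_eq_zero_iff_even, Nat.even_iff]
    omega
  · intro i j
    rw [aVec_dot i (bVec p j) (fun k => if 2 * (j : ℕ) + 1 ≤ k ∧ k ≤ 2 * p then 1 else 0) (fun k => rfl)]
    rcases lt_trichotomy i j with h | h | h
    · rw [if_neg (by omega), if_neg (by omega), if_neg h.ne, add_zero]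
    · subst h; rw [if_neg (by omega), if_pos (by omega), if_pos rfl, zero_add]
    · rw [if_pos (by omega), if_pos (by omega), if_neg h.ne']; rfl
  · intro i
    rw [← dotProduct_one, aVec_dot i 1 (fun _ => 1) (fun _ => rfl)]; rfl
  · intro i
    rw [← dotProduct_one, bVec_dot i 1 (fun _ => 1) (fun _ => rfl), Finset.sum_const, nsmul_one,
      Nat.card_Ico, ZMod.natCast_eq_zero_iff_even, Nat.even_iff]
    omega
  · intro x hx hxa hxb
    set X : ℕ → ZMod 2 := fun k => if h : k < 2 * (p + 1) then x ⟨k, h⟩ else 0 with hXdef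
    have hX : ∀ k : Fin (2 * (p + 1)), X k.val = x k := fun k => by rw [hXdef]; simp [k.isLt]
    have he : ∀ i, i < p → X (2 * i) = X (2 * i + 1) := fun i hi => by
      have := hxa ⟨i, hi⟩
      rw [aVec_dot _ _ X hX] at this
      exact CharTwo.add_eq_zero.1 this
    have hT : ∀ i, i ≤ p → ∑ k ∈ Finset.Ico (2 * i + 1) (2 * p + 1), X k = 0 := fun i hi => by
      rcases hi.lt_or_eq with hi | rfl
      · have := hxb ⟨i, hi⟩
        rwa [bVec_dot _ _ X hX] at this
      · simp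
    have ho : ∀ i, i < p → X (2 * i + 1) = X (2 * i + 2) := fun i hi => by
      have h := hT i hi.le
      rw [Finset.sum_eq_sum_Ico_succ_bot (by omega), Finset.sum_eq_sum_Ico_succ_bot (by omega),
        show 2 * i + 1 + 1 + 1 = 2 * (i + 1) + 1 by ring, hT (i + 1) hi, add_zero] at h
      exact CharTwo.add_eq_zero.1 h
    have hall : ∀ k, k ≤ 2 * p → X k = X 0 := by
      intro k
      induction k with
      | zero => intro _; rfl
      | succ k ih =>
        intro hk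
        rw [← ih (by omega)]
        rcases Nat.even_or_odd' k with ⟨i, rfl | rfl⟩
        · exact (he i (by omega)).symm
        · exact (ho i (by omega)).symm
    have hlast : X (2 * p + 1) = X 0 := by
      have hs : ∑ k ∈ Finset.range (2 * (p + 1)), X k = 0 := by
        rw [Finset.sum_range, Finset.sum_congr rfl fun k _ => hX k]; exact hx
      rw [show 2 * (p + 1) = 2 * p + 1 + 1 by ring, Finset.sum_range_succ,
        Finset.sum_congr rfl fun k hk => hall k (by simp at hk; omega), Finset.sum_const,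
        Finset.card_range, succ_nsmul, mul_nsmul, CharTwo.two_nsmul] at hs
      simp at hs
      exact (CharTwo.add_eq_zero.1 hs).symm
    have : ∀ k : Fin (2 * (p + 1)), x k = X 0 := fun k => by
      rw [← hX]
      rcases Nat.lt_or_ge k.val (2 * p + 1) with h | h
      · exact hall _ (by omega)
      · rw [show k.val = 2 * p + 1 by omega]; exact hlast
    intro k l
    rw [this k, this l]

/-- S_2n ≤ Sp_(2n−2)(2) for n ≥ 3: there is an injective homomorphism from the symmetric group on 2n letters into the symplectic group of degree 2n − 2 over the field with two elements. -/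
theorem result (n : ℕ) (hn : 3 ≤ n) : ∃ f : Equiv.Perm (Fin (2 * n)) →* Matrix.symplecticGroup (Fin (n - 1)) (ZMod 2), Function.Injective f := by
  obtain ⟨p, rfl⟩ : ∃ p, n = p + 1 := ⟨n - 1, by omega⟩
  exact embedding_even p (by omega)

end Cfsg.Agent.S0826
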