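import Cfsg.Statements.S0828
-- import your own Cfsg.Agent.* helpers here
import Cfsg.Agent.Lib.PolarSpace.Lines

set_option autoImplicit false
open Cfsg

namespace Cfsg.Agent.S0828

/-- The symplectic generalised quadrangle over a field with q elements: the number of 2-dimensional subspaces of F^4 on which the symplectic form vanishes is (q + 1)(q² + 1), and every non-zero vector lies in exactly q + 1 of them. -/
theorem result {F : Type*} [Field F] [Fintype F] {q : ℕ} (hF : Fintype.card F = q) : Nat.card {W : Submodule F (Fin 2 ⊕ Fin 2 → F) // Module.finrank F W = 2 ∧ ∀ u ∈ W, ∀ v ∈ W, Cfsg.sympForm 2 F u v = 0} = (q + 1) * (q ^ 2 + 1) ∧ ∀ v : Fin 2 ⊕ Fin 2 → F, v ≠ 0 → Nat.card {W : Submodule F (Fin 2 ⊕ Fin 2 → F) // Module.finrank F W = 2 ∧ v ∈ W ∧ ∀ u ∈ W, ∀ w ∈ W, Cfsg.sympForm 2 F u w = 0} = q + 1 := by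
  classical
  have hcard : Nat.card F = q := by rw [Nat.card_eq_fintype_card, hF]
  have hq : 2 ≤ q := hF ▸ Fintype.one_lt_card
  have hexp : ∀ u v : Fin 2 ⊕ Fin 2 → F, Cfsg.sympForm 2 F u v =
      ∑ i, (u (Sum.inr i) * v (Sum.inl i) - u (Sum.inl i) * v (Sum.inr i)) := fun u v => by
    simp [Cfsg.sympForm, Matrix.J, Matrix.mulVec, dotProduct, Fintype.sum_sum_type, Matrix.one_apply,
      Finset.sum_sub_distrib]
    ring
  let perp : (Fin 2 ⊕ Fin 2 → F) → Submodule F (Fin 2 ⊕ Fin 2 → F) := fun v => LinearMap.ker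
    ({ toFun := fun u => Cfsg.sympForm 2 F u v
       map_add' := fun u u' => by simp [Cfsg.sympForm, add_dotProduct]
       map_smul' := fun c u => by simp [Cfsg.sympForm, smul_dotProduct] } : (Fin 2 ⊕ Fin 2 → F) →ₗ[F] F)
  have hmem : ∀ u v, u ∈ perp v ↔ Cfsg.sympForm 2 F u v = 0 := fun u v => Iff.rfl
  have hsymm : ∀ u v, u ∈ perp v → v ∈ perp u := fun u v h => by
    rw [hmem, hexp, Fin.sum_univ_two] at h ⊢
    linear_combination -h
  have hself : ∀ v, v ∈ perp v := fun v => by rw [hmem, hexp, Fin.sum_univ_two]; ring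
  have hperp : ∀ v : Fin 2 ⊕ Fin 2 → F, v ≠ 0 → Module.finrank F (perp v) = 3 := by
    intro v hv
    let φ : (Fin 2 ⊕ Fin 2 → F) →ₗ[F] F :=
      { toFun := fun u => Cfsg.sympForm 2 F u v
        map_add' := fun u u' => by simp [Cfsg.sympForm, add_dotProduct]
        map_smul' := fun c u => by simp [Cfsg.sympForm, smul_dotProduct] }
    have hne : φ ≠ 0 := by
      intro h0
      apply hv
      funext j
      rcases j with i | i
      · have h := LinearMap.congr_fun h0 (Pi.single (Sum.inr i) 1)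
        change Cfsg.sympForm 2 F _ v = 0 at h
        simpa [hexp, Pi.single_apply] using h
      · have h := LinearMap.congr_fun h0 (Pi.single (Sum.inl i) 1)
        change Cfsg.sympForm 2 F _ v = 0 at h
        simpa [hexp, Pi.single_apply] using h
    have h3 := LinearMap.finrank_range_add_finrank_ker φ
    rw [LinearMap.range_eq_top.2 (LinearMap.surjective hne), finrank_top, Module.finrank_self,
      Module.finrank_fintype_fun_eq_card, Fintype.card_sum, Fintype.card_fin] at h3
    show Module.finrank F (LinearMap.ker φ) = 3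
    omega
  have hthrough : ∀ v : Fin 2 ⊕ Fin 2 → F, v ≠ 0 →
      Nat.card {W : Submodule F (Fin 2 ⊕ Fin 2 → F) // Module.finrank F W = 2 ∧ v ∈ W ∧
        ∀ x ∈ W, ∀ y ∈ W, x ∈ perp y} = q + 1 := by
    intro v hv
    have h := CfsgLib.PolarSpace.lines_through perp hsymm hv (hself v)
    rw [hcard, Nat.card_congr (Equiv.subtypeEquivRight (q := fun w => w ∈ perp v) fun w => by simp [hself w]),
      Module.natCard_eq_pow_finrank (K := F) (V := perp v), hperp v hv, hcard] at h
    obtain ⟨t, rfl⟩ : ∃ t, q = t + 1 := ⟨q - 1, by omega⟩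
    have e : (t + 1) ^ 2 - (t + 1) = (t + 1) * t := by
      rw [show (t + 1) ^ 2 = (t + 1) * t + (t + 1) by ring, Nat.add_sub_cancel]
    rw [e] at h
    have hpos : 0 < (t + 1) * t := Nat.mul_pos (by omega) (by omega)
    exact Nat.eq_of_mul_eq_mul_right hpos (by linarith [show (t + 1) ^ 3 = (t + 1 + 1) * ((t + 1) * t) + (t + 1) by ring])
  refine ⟨?_, fun v hv => hthrough v hv⟩
  have hI : Nat.card {v : Fin 2 ⊕ Fin 2 → F // v ∈ perp v} = (q ^ 4 - 1) + 1 := by
    rw [Nat.card_congr (Equiv.subtypeUnivEquiv hself), Nat.card_fun, Nat.card_sum, Nat.card_fin, hcard]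
    rw [show (2 + 2 : ℕ) = 4 from rfl]
    have : 1 ≤ q ^ 4 := Nat.one_le_pow _ _ (by omega)
    omega
  have h := CfsgLib.PolarSpace.lines_total perp hI (hself 0) (fun v hv _ => hthrough v hv)
  rw [hcard] at h
  have h2 : 0 < q ^ 2 - 1 := by
    have h3 : 1 < q ^ 2 := by nlinarith
    omega
  refine Nat.eq_of_mul_eq_mul_right h2 (h.trans ?_)
  have h1 : 1 ≤ q ^ 2 := by nlinarith
  have h4 : 1 ≤ q ^ 4 := Nat.one_le_pow _ _ (by omega)
  zify [h1, h4]
  ring

end Cfsg.Agent.S0828
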