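import Cfsg.Statements.S0830
-- import your own Cfsg.Agent.* helpers here
import Cfsg.Agent.Lib.PolarSpace.Unitary

set_option autoImplicit false
open Cfsg

namespace Cfsg.Agent.S0830

/-- The unitary quadrangle of PSU_5(q): with |F| = q², the number of 2-dimensional subspaces of F^5 on which the Hermitian form vanishes is (q³ + 1)(q⁵ + 1). -/
theorem result {F : Type*} [Field F] [Fintype F] {q : ℕ} (hF : Fintype.card F = q ^ 2) : Nat.card {W : Submodule F (Fin 5 → F) // Module.finrank F W = 2 ∧ ∀ u ∈ W, ∀ v ∈ W, Cfsg.hermForm 5 F q u v = 0} = (q ^ 3 + 1) * (q ^ 5 + 1) := by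
  have hq := CfsgLib.ClassicalGroups.herm_two_le hF
  have hcard : Nat.card F = q ^ 2 := by rw [Nat.card_eq_fintype_card, hF]
  have h0 := (CfsgLib.ClassicalGroups.herm_count_int hF 5).1
  have h1 : 1 ≤ (q ^ 2) ^ 2 := Nat.one_le_pow _ _ (by positivity)
  have hle2 : q ^ 2 ≤ (q ^ 2) ^ 2 := Nat.le_self_pow two_ne_zero _
  have hlep : (q ^ 2) ^ (5 - 1) ≤ (q ^ 2) ^ 5 := Nat.pow_le_pow_right (by positivity) (by norm_num)
  have hq4 : 1 ≤ q ^ 4 := Nat.one_le_pow _ _ (by omega)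
  have hI : Nat.card {w : Fin 5 → F // Cfsg.hermForm 5 F q w w = 0} = (q ^ 5 + 1) * (q ^ 4 - 1) + 1 := by
    apply Nat.eq_of_mul_eq_mul_left (show 0 < q by omega)
    zify [hq4]
    rw [h0]
    ring
  have h := CfsgLib.PolarSpace.lines_total_herm 5 hF (N := (q ^ 3 + 1))
    (A := q * ((q ^ 3 + 1) * ((q ^ 2) ^ 2 - q ^ 2) + q ^ 2)) (fun v hv0 hv => by
      have h2 := CfsgLib.PolarSpace.card_iso_perp 5 hF hv0 hv
      have hI2 : Nat.card {w : Fin 5 → F // w ∈ CfsgLib.PolarSpace.hermPerp 5 q w} = (q ^ 5 + 1) * (q ^ 4 - 1) + 1 := hI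
      rw [hcard, hI2] at h2
      zify [hle2, hlep, hq4] at h2 ⊢
      linear_combination h2) rfl hI
  have hpos : 0 < (q ^ 2) ^ 2 - 1 := by
    have h5 : 1 < q ^ 2 := by nlinarith
    have h6 : 1 < (q ^ 2) ^ 2 := by nlinarith
    omega
  refine Nat.eq_of_mul_eq_mul_right hpos (h.trans ?_)
  zify [hq4, h1]
  ring

end Cfsg.Agent.S0830
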