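import Cfsg.Statements.S0831
-- import your own Cfsg.Agent.* helpers here
import Cfsg.Agent.Lib.Orth.Lagrangian

set_option autoImplicit false
open Cfsg

namespace Cfsg.Agent.S0831

/-- The two families of maximal totally singular subspaces of the hyperbolic quadric: for the form Σ x_i y_i on F^(2m), m ≥ 1, and m-dimensional subspaces U, W, X on which it vanishes, the parities of m − dim(U ∩ W), m − dim(W ∩ X) and m − dim(U ∩ X) sum to an even number (so 'even codimension of the intersection' is an equivalence relation), and there exist two such subspaces meeting in codimension 1 (so there are exactly two classes). -/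
theorem result {F : Type*} [Field F] (m : ℕ) (hm : 1 ≤ m) : (∀ U W X : Submodule F (Fin m ⊕ Fin m → F), (Module.finrank F U = m ∧ ∀ w ∈ U, Cfsg.quadFormPlus m F w = 0) → (Module.finrank F W = m ∧ ∀ w ∈ W, Cfsg.quadFormPlus m F w = 0) → (Module.finrank F X = m ∧ ∀ w ∈ X, Cfsg.quadFormPlus m F w = 0) → Even ((m - Module.finrank F ↥(U ⊓ W)) + (m - Module.finrank F ↥(W ⊓ X)) + (m - Module.finrank F ↥(U ⊓ X)))) ∧ ∃ U W : Submodule F (Fin m ⊕ Fin m → F), (Module.finrank F U = m ∧ ∀ w ∈ U, Cfsg.quadFormPlus m F w = 0) ∧ (Module.finrank F W = m ∧ ∀ w ∈ W, Cfsg.quadFormPlus m F w = 0) ∧ Module.finrank F ↥(U ⊓ W) + 1 = m := by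
  have hcoe := CfsgLib.Orth.plusQ_coe (F := F) m
  have hm2 : Module.finrank F (Fin m ⊕ Fin m → F) = 2 * m := by
    rw [Module.finrank_fintype_fun_eq_card, Fintype.card_sum, Fintype.card_fin]; omega
  have hQ := CfsgLib.Orth.plusQ_nondegenerate (F := F) m
  simp only [← hcoe]
  refine ⟨?_, ?_⟩
  · intro U W X hU hW hX
    exact CfsgLib.Orth.lagrangian_parity _ hQ hm2 hU.2 hW.2 hX.2 hU.1 hW.1 hX.1
  · obtain ⟨i₀, -⟩ : ∃ i : Fin m, i = i := ⟨⟨0, by omega⟩, rfl⟩
    refine ⟨CfsgLib.Orth.coordLag m F ∅, CfsgLib.Orth.coordLag m F {i₀}, ?_, ?_, ?_⟩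
    · exact CfsgLib.Orth.coordLag_spec m ∅
    · exact CfsgLib.Orth.coordLag_spec m {i₀}
    · exact CfsgLib.Orth.finrank_coordLag_inf m i₀

end Cfsg.Agent.S0831
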