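import Cfsg.Statements.S0833
-- import your own Cfsg.Agent.* helpers here
import Cfsg.Agent.Lib.Orth.TensorForm

set_option autoImplicit false
open Cfsg

namespace Cfsg.Agent.S0833

/-- If B₁, B₂ are non-degenerate alternating forms on U (dim 2k) and W (dim 2l), then B₁ ⊗ B₂ on U ⊗ W is symmetric, non-degenerate, and vanishes identically on some subspace of dimension 2kl (half of dim U ⊗ W). -/
theorem result {F U W : Type*} [Field F] [Fintype F] [AddCommGroup U] [Module F U] [FiniteDimensional F U] [AddCommGroup W] [Module F W] [FiniteDimensional F W] (B₁ : LinearMap.BilinForm F U) (B₂ : LinearMap.BilinForm F W) (h₁ : B₁.Nondegenerate) (h₂ : B₂.Nondegenerate) (hA₁ : B₁.IsAlt) (hA₂ : B₂.IsAlt) (k l : ℕ) (hU : Module.finrank F U = 2 * k) (hW : Module.finrank F W = 2 * l) : (B₁.tmul B₂).IsSymm ∧ (B₁.tmul B₂).Nondegenerate ∧ (∃ X : Submodule F (TensorProduct F U W), Module.finrank F X = 2 * k * l ∧ ∀ x ∈ X, ∀ y ∈ X, (B₁.tmul B₂) x y = 0) := by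
  classical
  have hsymm := CfsgLib.Orth.tmul_symm_of_alt B₁ B₂ hA₁ hA₂
  refine ⟨⟨fun x y => by simpa using hsymm x y⟩, CfsgLib.Orth.tmul_nondegenerate B₁ B₂ h₁ h₂, ?_⟩
  obtain ⟨m, r, b, hb1, hb2, -, hb4⟩ := Cfsg.Agent.S0752.result B₁ hA₁
  have hr : r = 0 := by
    by_contra hr
    exact b.ne_zero (Sum.inr ⟨0, Nat.pos_of_ne_zero hr⟩) (h₁.1 _ fun v => hb4 _ v)
  have hm : m = k := by
    have := Module.finrank_eq_card_basis b
    rw [hU] at this
    simp [hr] at this
    omega
  let c := Module.finBasisOfFinrankEq F W hW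
  let g : Fin m × Fin (2 * l) → TensorProduct F U W := fun p =>
    (b.tensorProduct c) (Sum.inl (Sum.inl p.1), p.2)
  have hli : LinearIndependent F g := (b.tensorProduct c).linearIndependent.comp
    (fun p : Fin m × Fin (2 * l) => ((Sum.inl (Sum.inl p.1) : (Fin m ⊕ Fin m) ⊕ Fin r), p.2)) (by
      rintro ⟨p, s⟩ ⟨p', s'⟩ h
      simpa using h)
  refine ⟨Submodule.span F (Set.range g), ?_, ?_⟩
  · rw [finrank_span_eq_card hli, Fintype.card_prod, Fintype.card_fin, Fintype.card_fin, hm]
    ring
  · have hgen : ∀ p s, (B₁.tmul B₂) (g p) (g s) = 0 := fun p s => by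
      simp only [g, Module.Basis.tensorProduct_apply, CfsgLib.Orth.tmul_apply', hb2, zero_mul]
    intro x hx y hy
    induction hx using Submodule.span_induction with
    | mem x hx =>
      obtain ⟨p, rfl⟩ := hx
      induction hy using Submodule.span_induction with
      | mem y hy => obtain ⟨s, rfl⟩ := hy; exact hgen p s
      | zero => simp
      | add _ _ _ _ h h' => rw [map_add, h, h', add_zero]
      | smul t _ _ h => rw [map_smul, h, smul_zero]
    | zero => simp
    | add _ _ _ _ h h' => rw [map_add, LinearMap.add_apply, h, h', add_zero]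
    | smul t _ _ h => rw [map_smul, LinearMap.smul_apply, h, smul_zero]

end Cfsg.Agent.S0833
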