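import Cfsg.Statements.S0836
-- import your own Cfsg.Agent.* helpers here

set_option autoImplicit false
open Cfsg

namespace Cfsg.Agent.S0836

/-- For i ≠ j and any scalar c, the elementary transvection 1 + c E_ij is a commutator ⁅g, h⁆ of two elements of SL_n(F) provided n ≥ 3, or n = 2 and F contains x ≠ 0 with x² ≠ 1. -/
theorem result {F : Type*} [Field F] (n : ℕ) (hn : 3 ≤ n ∨ (n = 2 ∧ ∃ x : F, x ≠ 0 ∧ x ^ 2 ≠ 1)) (i j : Fin n) (hij : i ≠ j) (c : F) (t : Matrix.SpecialLinearGroup (Fin n) F) (ht : (t : Matrix (Fin n) (Fin n) F) = Matrix.transvection i j c) : t ∈ commutatorSet (Matrix.SpecialLinearGroup (Fin n) F) := by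
  obtain ⟨k, hki, hkj⟩ | ⟨rfl, x, hx0, hx⟩ : (∃ k, k ≠ i ∧ k ≠ j) ∨ (n = 2 ∧ ∃ x : F, x ≠ 0 ∧ x ^ 2 ≠ 1) := by
    rcases hn with hn | hn
    · refine Or.inl ?_
      by_contra hall
      push Not at hall
      have h1 := Finset.card_le_card (fun (x : Fin n) (_ : x ∈ Finset.univ) =>
        (show x ∈ ({i, j} : Finset (Fin n)) by
          by_cases hxi : x = i
          · simp [hxi]
          · simp [hall x hxi]))
      have h2 := Finset.card_le_two (a := i) (b := j)
      simp at h1
      omega
    · exact Or.inr hn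
  · refine ⟨Matrix.SpecialLinearGroup.transvection hki.symm c,
      Matrix.SpecialLinearGroup.transvection hkj (1 : F), ?_⟩
    rw [commutatorElement_def, Matrix.SpecialLinearGroup.transvection_inv,
      Matrix.SpecialLinearGroup.transvection_inv]
    refine Subtype.ext ?_
    simp only [Matrix.SpecialLinearGroup.coe_mul, Matrix.SpecialLinearGroup.transvection_coe, ht,
      Matrix.transvection]
    simp [ mul_add, add_mul, ← Matrix.single_neg,
      Matrix.single_mul_single_of_ne, hki, hkj.symm, hij.symm]
    abel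
  · -- conjugation by a diagonal element scales the transvection by `x²`
    let d : Fin 2 → F := fun a => if a = i then x else x⁻¹
    have hdet : (Matrix.diagonal d).det = 1 := by
      rw [Matrix.det_diagonal, Fin.prod_univ_two]
      fin_cases i <;> simp [d, hx0]
    let D : Matrix.SpecialLinearGroup (Fin 2) F := ⟨Matrix.diagonal d, hdet⟩
    have hx1 : x ^ 2 - 1 ≠ 0 := sub_ne_zero.2 hx
    refine ⟨D, Matrix.SpecialLinearGroup.transvection hij (c / (x ^ 2 - 1)), ?_⟩
    rw [commutatorElement_def, Matrix.SpecialLinearGroup.transvection_inv]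
    let D' : Matrix.SpecialLinearGroup (Fin 2) F := ⟨Matrix.diagonal fun a => (d a)⁻¹, by
      rw [Matrix.det_diagonal, Fin.prod_univ_two]
      fin_cases i <;> simp [d, hx0]⟩
    have hDinv : D⁻¹ = D' := inv_eq_of_mul_eq_one_right (Subtype.ext (by
      rw [Matrix.SpecialLinearGroup.coe_mul, Matrix.SpecialLinearGroup.coe_one]
      change Matrix.diagonal d * Matrix.diagonal _ = 1
      rw [Matrix.diagonal_mul_diagonal, ← Matrix.diagonal_one]
      congr 1
      funext a
      by_cases ha : a = i <;> simp [d, ha, hx0]))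
    rw [hDinv]
    refine Subtype.ext ?_
    simp only [Matrix.SpecialLinearGroup.coe_mul, Matrix.SpecialLinearGroup.transvection_coe, ht,
      Matrix.transvection]
    change Matrix.diagonal d * _ * Matrix.diagonal _ * _ = _
    ext a b
    fin_cases i <;> fin_cases j <;> first | exact absurd rfl hij | skip
    all_goals fin_cases a <;> fin_cases b <;>
      simp [d, Matrix.mul_apply, Matrix.one_apply, hx0] <;> field_simp <;> ring

end Cfsg.Agent.S0836
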