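import Cfsg.Statements.S0838
-- import your own Cfsg.Agent.* helpers here
import Cfsg.Agent.Lib.QuadFin.Gram

set_option autoImplicit false
open Cfsg

namespace Cfsg.Agent.S0838

/-- Over a finite field with 2 ≠ 0 and n odd: two quadratic forms Q₁, Q₂ on F^n with non-degenerate polar forms are similar — there are an invertible linear map g and a scalar c ≠ 0 with Q₂ (g v) = c · Q₁ v for all v. -/
theorem result {F : Type*} [Field F] [Fintype F] (h2 : (2 : F) ≠ 0) {n : ℕ} (hn : Odd n) (Q₁ Q₂ : QuadraticForm F (Fin n → F)) (h₁ : (QuadraticMap.polarBilin Q₁).Nondegenerate) (h₂ : (QuadraticMap.polarBilin Q₂).Nondegenerate) : ∃ (g : (Fin n → F) ≃ₗ[F] (Fin n → F)) (c : F), c ≠ 0 ∧ ∀ v, Q₂ (g v) = c * Q₁ v := by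
  classical
  set d₁ := (CfsgLib.QuadFin.gram ⇑Q₁).det
  set d₂ := (CfsgLib.QuadFin.gram ⇑Q₂).det
  have hd₁ : d₁ ≠ 0 := CfsgLib.QuadFin.gram_det_ne_zero Q₁ h₁
  have hd₂ : d₂ ≠ 0 := CfsgLib.QuadFin.gram_det_ne_zero Q₂ h₂
  set c := d₁ * d₂ with hcdef
  have hc : c ≠ 0 := mul_ne_zero hd₁ hd₂
  have hnd : (QuadraticMap.polarBilin (c • Q₁)).Nondegenerate := by
    have key : ∀ x, (∀ y, QuadraticMap.polar ⇑(c • Q₁) x y = 0) → x = 0 := fun x hx => h₁.1 x fun y => by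
      have h := hx y
      rw [FunLike.coe_smul, QuadraticMap.polar_smul, smul_eq_mul] at h
      exact (mul_eq_zero.1 h).resolve_left hc
    exact ⟨key, fun y hy => key y fun x => by rw [QuadraticMap.polar_comm]; exact hy x⟩
  obtain ⟨g, hg⟩ := (CfsgLib.QuadFin.equiv_iff_isSquare h2 (c • Q₁) Q₂ hnd h₂).2 (by
    rw [show (⇑(c • Q₁) : (Fin n → F) → F) = fun v => c * Q₁ v from funext fun v => rfl,
      CfsgLib.QuadFin.gram_det_smul, Fintype.card_fin, mul_assoc, ← hcdef, ← pow_succ]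
    exact (hn.add_odd odd_one).isSquare_pow c)
  exact ⟨g, c, hc, hg⟩

end Cfsg.Agent.S0838
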