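import Cfsg.Statements.S0840
import Cfsg.Agent.Lib.Characters.Decomp

set_option autoImplicit false
open scoped ComplexConjugate
open Cfsg

namespace Cfsg.Agent.S0840

/-- Class multiplication coefficients from the character table: for elements a, b, c of a finite group G, the number of ordered pairs (x, y) with x conjugate to a, y conjugate to b and x * y = c equals the product of the sizes of the conjugacy classes of a and b, divided by the order of G, times the sum over the irreducible characters χ of χ a * χ b * conj (χ c) / χ 1. -/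
theorem result {G : Type*} [Group G] [Finite G] (a b c : G) : (Nat.card {p : G × G // IsConj a p.1 ∧ IsConj b p.2 ∧ p.1 * p.2 = c} : ℂ) = (Nat.card {x : G // IsConj a x} : ℂ) * (Nat.card {x : G // IsConj b x} : ℂ) / (Nat.card G : ℂ) * ∑ᶠ χ : Cfsg.IrrCharacter G, (χ : G → ℂ) a * (χ : G → ℂ) b * conj ((χ : G → ℂ) c) / (χ : G → ℂ) 1 := by
  classical
  have : Fintype G := Fintype.ofFinite G
  let A : Finset G := Finset.univ.filter fun x => IsConj a x
  let B : Finset G := Finset.univ.filter fun x => IsConj b x
  let F : G → ℂ := fun z => ∑ x ∈ A, ∑ y ∈ B, if x * y = z then 1 else 0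
  have hlhs : (Nat.card {p : G × G // IsConj a p.1 ∧ IsConj b p.2 ∧ p.1 * p.2 = c} : ℂ) = F c := by
    rw [Nat.card_eq_fintype_card, Fintype.card_subtype]
    show _ = ∑ x ∈ A, ∑ y ∈ B, if x * y = c then (1 : ℂ) else 0
    rw [← Finset.sum_product (f := fun p : G × G => if p.1 * p.2 = c then (1 : ℂ) else 0),
      Finset.sum_boole]
    congr 2
    ext p
    simp [A, B, and_assoc]
  have hconjmem : ∀ (a x h : G), IsConj a x ↔ IsConj a (h * x * h⁻¹) := fun a x h =>
    ⟨fun H => H.trans (isConj_iff.2 ⟨h, rfl⟩), fun H => H.trans (isConj_iff.2 ⟨h, rfl⟩).symm⟩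
  have hcls : ∀ u : G, Cfsg.IsClassFunction G (fun x => if IsConj u x then (1 : ℂ) else 0) :=
    fun u x h => if_congr (hconjmem u x h).symm rfl rfl
  have hF : Cfsg.IsClassFunction G F := by
    intro z h
    refine Finset.sum_equiv (MulAut.conj h⁻¹).toEquiv ?_ fun x _ =>
      Finset.sum_equiv (MulAut.conj h⁻¹).toEquiv ?_ fun y _ => ?_
    · intro x
      simp [A, ← hconjmem]
      simpa [mul_assoc] using hconjmem a x h⁻¹
    · intro x
      simp [B, ← hconjmem]
      simpa [mul_assoc] using hconjmem b x h⁻¹
    · refine if_congr ?_ rfl rfl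
      simp only [MulEquiv.toEquiv_eq_coe, EquivLike.coe_coe, ← map_mul, MulAut.conj_apply, inv_inv]
      constructor
      · intro he
        rw [show h⁻¹ * x * h * (h⁻¹ * y * h) = h⁻¹ * (x * y) * h by group, he]; group
      · intro he
        rw [← he]; group
  have hstar : ∀ χ : Cfsg.IrrCharacter G, Cfsg.classInner F (χ : G → ℂ) =
      (Nat.card G : ℂ)⁻¹ * conj ((Nat.card {x : G // IsConj a x} : ℂ) * (χ : G → ℂ) a *
        ((Nat.card {x : G // IsConj b x} : ℂ) * (χ : G → ℂ) b) / (χ : G → ℂ) 1) := by
    rintro ⟨_, n, ρ, hρ, rfl⟩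
    haveI := hρ
    show (Nat.card G : ℂ)⁻¹ * ∑ z : G, F z * conj (ρ.character z) = _
    congr 1
    have h1 : ∑ z : G, F z * conj (ρ.character z) =
        conj (∑ x ∈ A, ∑ y ∈ B, ρ.character (x * y)) := by
      simp only [F, Finset.sum_mul, map_sum]
      rw [Finset.sum_comm]
      refine Finset.sum_congr rfl fun x _ => ?_
      rw [Finset.sum_comm]
      refine Finset.sum_congr rfl fun y _ => ?_
      simp
    rw [h1]
    congr 1
    have hval : ∀ u : G, ∑ g : G, (if IsConj u g then (1 : ℂ) else 0) * ρ.character g =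
        (Nat.card {x : G // IsConj u x} : ℂ) * ρ.character u := by
      intro u
      simp only [ite_mul, one_mul, zero_mul, ← Finset.sum_filter]
      rw [Finset.sum_congr rfl (fun x hx => show ρ.character x = ρ.character u from
        (CfsgLib.Characters.classFunction_eq_of_isConj (fun g h => ρ.char_conj g h)
          (Finset.mem_filter.1 hx).2).symm), Finset.sum_const, nsmul_eq_mul,
        Nat.card_eq_fintype_card, Fintype.card_subtype]
    have h2 : ∑ x ∈ A, ∑ y ∈ B, ρ.character (x * y) = LinearMap.trace ℂ _
        (CfsgLib.Characters.funEnd ρ (fun x => if IsConj a x then (1 : ℂ) else 0) *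
          CfsgLib.Characters.funEnd ρ (fun x => if IsConj b x then (1 : ℂ) else 0)) := by
      simp [CfsgLib.Characters.funEnd, ite_smul, ← Finset.sum_filter, A, B, Finset.sum_mul,
        Finset.mul_sum, map_sum, Representation.character]
      exact Finset.sum_comm
    rw [h2, CfsgLib.Characters.funEnd_eq_smul ρ (hcls a), CfsgLib.Characters.funEnd_eq_smul ρ (hcls b),
      smul_mul_smul_comm, one_mul, map_smul, LinearMap.trace_one, hval, hval, smul_eq_mul]
    simp only [Representation.char_one]
    have hn : (Module.finrank ℂ (Fin n → ℂ) : ℂ) ≠ 0 := by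
      rw [← Representation.char_one (G := G) ρ]
      exact CfsgLib.Characters.irr_one_ne_zero ⟨ρ.character, n, ρ, hρ, rfl⟩
    field_simp
  have hexp := congrFun (CfsgLib.Characters.classFunction_eq_sum hF) c
  simp only [Finset.sum_apply, Pi.smul_apply, smul_eq_mul, hstar] at hexp
  have hexp2 := congrArg conj hexp
  have hreal : conj (F c) = F c := by rw [← hlhs, map_natCast]
  rw [hreal, map_sum] at hexp2
  rw [hlhs, hexp2, finsum_eq_sum_of_fintype, Finset.mul_sum]
  refine Finset.sum_congr rfl fun χ _ => ?_
  simp only [map_mul, map_inv₀, map_natCast, Complex.conj_conj]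
  ring

end Cfsg.Agent.S0840
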