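import Cfsg.Statements.S0841
import Mathlib.Tactic.Group
import Mathlib.Tactic.Ring
import Mathlib.GroupTheory.Commutator.Basic


set_option autoImplicit false
open Cfsg
open scoped commutatorElement

namespace Cfsg.Agent.S0841

/-- If the commutator subgroup of G lies in the centre, then for all x, y in G and every natural number n one has (x * y) ^ n = x ^ n * y ^ n * c ^ (n * (n - 1) / 2) with c = y⁻¹ * x⁻¹ * y * x. -/
theorem result {G : Type*} [Group G] (hG : commutator G ≤ Subgroup.center G) (x y : G) (n : ℕ) : (x * y) ^ n = x ^ n * y ^ n * (y⁻¹ * x⁻¹ * y * x) ^ (n * (n - 1) / 2) := by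
  set c := y⁻¹ * x⁻¹ * y * x with hcdef
  have hc : c ∈ Subgroup.center G := by
    refine hG ?_
    have : c = ⁅y⁻¹, x⁻¹⁆ := by rw [commutatorElement_def, inv_inv, inv_inv]
    rw [this, commutator_def]
    exact Subgroup.commutator_mem_commutator (Subgroup.mem_top _) (Subgroup.mem_top _)
  have hcomm : ∀ g : G, Commute c g := fun g => ((Subgroup.mem_center_iff.1 hc g)).symm
  have hyx : y * x = x * y * c := by rw [hcdef]; group
  have hpow : ∀ k : ℕ, y ^ k * x = x * y ^ k * c ^ k := by
    intro k
    induction k with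
    | zero => simp
    | succ k ih =>
      calc y ^ (k + 1) * x = y ^ k * (y * x) := by rw [pow_succ, mul_assoc]
        _ = (y ^ k * x) * y * c := by rw [hyx]; simp [mul_assoc]
        _ = x * y ^ k * c ^ k * y * c := by rw [ih]
        _ = x * y ^ k * (y * c ^ k) * c := by
              rw [← ((hcomm y).pow_left k).eq]; simp [mul_assoc]
        _ = x * y ^ (k + 1) * c ^ (k + 1) := by simp [pow_succ, mul_assoc]
  induction n with
  | zero => simp
  | succ n ih =>
    have harith : (n + 1) * (n + 1 - 1) / 2 = n * (n - 1) / 2 + n := by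
      rw [Nat.add_sub_cancel, ← Nat.add_mul_div_left _ _ (by norm_num : (0:ℕ) < 2)]
      congr 1
      cases n with
      | zero => rfl
      | succ m => simp; ring
    rw [harith, pow_succ (x * y) n, ih]
    set a := c ^ (n * (n - 1) / 2) with ha
    calc x ^ n * y ^ n * a * (x * y) = x ^ n * (y ^ n * x) * y * a := by
          rw [mul_assoc (x ^ n * y ^ n), ((hcomm (x * y)).pow_left _).eq]; simp [ha, mul_assoc]
      _ = x ^ n * (x * y ^ n * c ^ n) * y * a := by rw [hpow]
      _ = x ^ (n + 1) * y ^ n * (c ^ n * y) * a := by simp [pow_succ, mul_assoc]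
      _ = x ^ (n + 1) * y ^ (n + 1) * (c ^ n * a) := by
          rw [((hcomm y).pow_left n).eq]; simp [pow_succ, mul_assoc]
      _ = x ^ (n + 1) * y ^ (n + 1) * c ^ (n * (n - 1) / 2 + n) := by
          rw [ha, ← pow_add]
          exact congrArg _ (congrArg (c ^ ·) (Nat.add_comm _ _))

end Cfsg.Agent.S0841
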