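import Cfsg.Statements.S0844
import Cfsg.Agent.Lib.Involutions.QuatLarge
-- import your own Cfsg.Agent.* helpers here

set_option autoImplicit false
open Cfsg

namespace Cfsg.Agent.S0844

/-- Suppose a Sylow 2-subgroup S of the finite group G is generalized quaternion of order at least 16. Then G has two non-principal irreducible characters χ₁ and χ₂ with χ₁ 1 = χ₂ 1 + 1 such that χ₁ g - χ₂ g = 1 for every element g whose order is not divisible by 4. -/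
theorem result {G : Type*} [Group G] [Fintype G] (S : Sylow 2 G) (n : ℕ) (e : (S : Subgroup G) ≃* QuaternionGroup (2 ^ (n + 2))) : ∃ χ₁ χ₂ : G → ℂ, Cfsg.IsIrrCharacter G χ₁ ∧ Cfsg.IsIrrCharacter G χ₂ ∧ χ₁ ≠ (fun _ => 1) ∧ χ₂ ≠ (fun _ => 1) ∧ χ₁ 1 = χ₂ 1 + 1 ∧ ∀ g : G, ¬ 4 ∣ orderOf g → χ₁ g - χ₂ g = 1 := by
  obtain ⟨X, -, hk, -⟩ := CfsgLib.Involutions.LargeQuat.exists_of_equiv S (n + 1) e
  have h4 : 4 ∣ X.k := by
    rw [hk]; exact (show 4 ∣ 2 ^ 2 by norm_num).trans (pow_dvd_pow 2 (by omega))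
  obtain ⟨c₁, c₂, h1, h2, h3, h⟩ := X.exceptional h4
  exact ⟨c₁, c₂, c₁.2, c₂.2, fun he => h1 (Subtype.ext he), fun he => h2 (Subtype.ext he), h3, h⟩

end Cfsg.Agent.S0844
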