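import Cfsg.Statements.S0845
import Cfsg.Agent.Lib.Involutions.QuatLarge
-- import your own Cfsg.Agent.* helpers here

set_option autoImplicit false
open Cfsg

namespace Cfsg.Agent.S0845

/-- Suppose a Sylow 2-subgroup S of the finite group G is generalized quaternion of order at least 16. Then G has a normal subgroup M of even order such that G / M is non-abelian, that is, M does not contain the commutator subgroup of G. -/
theorem result {G : Type*} [Group G] [Finite G] (S : Sylow 2 G) (n : ℕ) (e : (S : Subgroup G) ≃* QuaternionGroup (2 ^ (n + 2))) : ∃ M : Subgroup G, M.Normal ∧ Even (Nat.card M) ∧ ¬ commutator G ≤ M := by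
  obtain ⟨X, -, hk, -⟩ := CfsgLib.Involutions.LargeQuat.exists_of_equiv S (n + 1) e
  have h4 : 4 ∣ X.k := by
    rw [hk]; exact (show 4 ∣ 2 ^ 2 by norm_num).trans (pow_dvd_pow 2 (by omega))
  letI := Fintype.ofFinite G
  obtain ⟨M, hM, -, hev, hnc⟩ := X.exists_nonabelian_quotient h4
  exact ⟨M, hM, hev, hnc⟩

end Cfsg.Agent.S0845
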