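import Cfsg.Statements.S0849
import Cfsg.Agent.Lib.Characters.Induction

set_option autoImplicit false
open Cfsg

namespace Cfsg.Agent.S0849

/-- Let H be a subgroup of a finite group G and S a subset of H that is mapped to itself under conjugation by H, is disjoint from its conjugate by any element outside H, and is closed under inverses. Let φ be a class function of H vanishing on H away from S, and let u, v be involutions of G. Then the sum of the induced function of φ over all products a * b with a conjugate to u and b conjugate to v equals the index of H times the sum of φ (a * b) over such pairs with a and b in H. -/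
theorem result {G : Type*} [Group G] [Fintype G] (H : Subgroup G) (S : Set G) (hSH : S ⊆ H) (hHS : ∀ h ∈ H, ∀ s ∈ S, h * s * h⁻¹ ∈ S) (hTI : ∀ g : G, g ∉ H → ∀ s ∈ S, g * s * g⁻¹ ∉ S) (hinv : ∀ s ∈ S, s⁻¹ ∈ S) (φ : H → ℂ) (hφ : Cfsg.IsClassFunction H φ) (hφS : ∀ x : H, (x : G) ∉ S → φ x = 0) (u v : G) (hu : orderOf u = 2) (hv : orderOf v = 2) : ∑ᶠ p ∈ {p : G × G | IsConj u p.1 ∧ IsConj v p.2}, Cfsg.indFun H φ (p.1 * p.2) = (H.index : ℂ) * ∑ᶠ p ∈ {p : H × H | IsConj u (p.1 : G) ∧ IsConj v (p.2 : G)}, φ (p.1 * p.2) := by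
  classical
  have hcl : ∀ {a x : G} (g : G), IsConj a x ↔ IsConj a (g * x * g⁻¹) := fun g =>
    ⟨fun h => h.trans (isConj_iff.2 ⟨g, rfl⟩), fun h => h.trans (isConj_iff.2 ⟨g, rfl⟩).symm⟩
  let A : Finset (G × G) := Finset.univ.filter fun p => IsConj u p.1 ∧ IsConj v p.2
  let B : Finset (H × H) := Finset.univ.filter fun p => IsConj u (p.1 : G) ∧ IsConj v (p.2 : G)
  rw [finsum_mem_eq_sum_of_inter_support_eq (t := A) _ (by ext; simp [A]),
    finsum_mem_eq_sum_of_inter_support_eq (t := B) _ (by ext; simp [B])]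
  simp only [CfsgLib.Induction.indFun_apply]
  rw [← Finset.mul_sum, Finset.sum_comm]
  have key : ∀ g : G, ∑ p ∈ A, Cfsg.extendByZero H φ (g⁻¹ * (p.1 * p.2) * g) =
      ∑ p ∈ A, Cfsg.extendByZero H φ (p.1 * p.2) := by
    intro g
    refine Finset.sum_equiv ((MulAut.conj g⁻¹).toEquiv.prodCongr (MulAut.conj g⁻¹).toEquiv) ?_ ?_
    · intro p
      simp only [A, Finset.mem_filter, Finset.mem_univ, true_and, Equiv.prodCongr_apply,
        Prod.map_fst, Prod.map_snd, MulEquiv.toEquiv_eq_coe, EquivLike.coe_coe,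
        MulAut.conj_apply, ← hcl]
    · intro p _
      congr 1
      simp [MulAut.conj_apply, mul_assoc]
  rw [Finset.sum_congr rfl fun g _ => key g, Finset.sum_const, Finset.card_univ, nsmul_eq_mul,
    ← mul_assoc, ← Nat.card_eq_fintype_card, ← H.card_mul_index, Nat.cast_mul, ← mul_assoc,
    inv_mul_cancel₀ (Nat.cast_ne_zero.2 Nat.card_pos.ne'), one_mul]
  congr 1
  have hinvol : ∀ {w a : G}, orderOf w = 2 → IsConj w a → a⁻¹ = a := by
    intro w a hw ha
    obtain ⟨g, rfl⟩ := isConj_iff.1 ha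
    have h2 : w * w = 1 := by rw [← pow_two, ← hw, pow_orderOf_eq_one]
    rw [conj_inv, inv_eq_of_mul_eq_one_right h2]
  let emb : H × H ↪ G × G := ⟨Prod.map Subtype.val Subtype.val,
    Subtype.val_injective.prodMap Subtype.val_injective⟩
  rw [← Finset.sum_subset (s₁ := B.map emb) (s₂ := A)]
  · rw [Finset.sum_map]
    refine Finset.sum_congr rfl fun p _ => ?_
    exact CfsgLib.Induction.extendByZero_coe H φ (p.1 * p.2)
  · intro q hq
    obtain ⟨p, hp, rfl⟩ := Finset.mem_map.1 hq
    simpa [A, B, emb] using hp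
  · intro q hq hnq
    by_contra hne
    obtain ⟨hqu, hqv⟩ := (Finset.mem_filter.1 hq).2
    have hmem : q.1 * q.2 ∈ H := by
      by_contra h
      exact hne (CfsgLib.Induction.extendByZero_notMem H φ h)
    rw [CfsgLib.Induction.extendByZero_mem H φ hmem] at hne
    have hs : q.1 * q.2 ∈ S := by
      by_contra h
      exact hne (hφS ⟨_, hmem⟩ h)
    have hq1 : q.1 ∈ H := by
      by_contra h
      refine hTI q.1 h _ hs ?_
      have he : q.1 * (q.1 * q.2) * q.1⁻¹ = (q.1 * q.2)⁻¹ := by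
        rw [mul_inv_rev, hinvol hv hqv, hinvol hu hqu,
          ← mul_assoc q.1 q.1, show q.1 * q.1 = 1 from inv_eq_iff_mul_eq_one.1 (hinvol hu hqu), one_mul]
      rw [he]
      exact hinv _ hs
    have hq2 : q.2 ∈ H := (Subgroup.mul_mem_cancel_left H hq1).1 hmem
    exact hnq (Finset.mem_map.2 ⟨(⟨q.1, hq1⟩, ⟨q.2, hq2⟩),
      Finset.mem_filter.2 ⟨Finset.mem_univ _, hqu, hqv⟩, rfl⟩)

end Cfsg.Agent.S0849
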