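import Cfsg.Statements.S0855
import Cfsg.Agent.Lib.Characters.Ito
import Mathlib.GroupTheory.Sylow
import Mathlib.GroupTheory.SpecificGroups.Cyclic

set_option autoImplicit false
open Cfsg

namespace Cfsg.Agent.S0855

open CfsgLib.Characters in
theorem forward.{w} (p : ℕ) (hp : p.Prime) (n : ℕ) :
    ∀ (G : Type w) [Group G] [Finite G], Nat.card G = n →
      (∀ χ : Cfsg.IrrCharacter G, ∃ k : ℕ, (χ : G → ℂ) 1 = (p : ℂ) ^ k) →
      ∃ A : Subgroup G, A.Normal ∧ (∀ a ∈ A, ∀ b ∈ A, a * b = b * a) ∧
        Nat.Coprime (Nat.card A) p ∧ ∃ k : ℕ, A.index = p ^ k := by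
  induction n using Nat.strong_induction_on with
  | _ n ih =>
    intro G _ _ hn hdeg
    classical
    have : Fintype G := Fintype.ofFinite G
    have : Fact p.Prime := ⟨hp⟩
    by_cases hpG : p ∣ Nat.card G
    swap
    · have hone : ∀ χ : Cfsg.IrrCharacter G, (χ : G → ℂ) 1 = 1 := by
        intro χ
        obtain ⟨k, hk⟩ := hdeg χ
        obtain ⟨d, hd, -, hdvd⟩ := irr_degree_dvd_card χ
        cases k with
        | zero => simpa using hk
        | succ k =>
          exfalso
          rw [hd, ← Nat.cast_pow, Nat.cast_inj] at hk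
          exact hpG ((Dvd.intro_left _ (pow_succ p k).symm).trans (hk ▸ hdvd))
      have hab : ∀ a b : G, a * b = b * a := by
        intro a b
        have key : IsConj (a * b * (b * a)⁻¹) 1 := by
          rw [isConj_iff_irr]
          intro χ
          let f := CfsgLib.CharIto.linearHom (isCharacter_of_irr χ.2) (hone χ)
          show (f (a * b * (b * a)⁻¹) : ℂ) = (f 1 : ℂ)
          rw [map_mul f, map_inv f, map_mul f, map_mul f, mul_comm (f a) (f b),
            mul_inv_cancel, map_one f]
        exact mul_inv_eq_one.1 (isConj_one_left.1 key)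
      exact ⟨⊤, inferInstance, fun a _ b _ => hab a b,
        by rw [Subgroup.card_top]; exact ((hp.coprime_iff_not_dvd).2 hpG).symm, 0, by simp⟩
    · -- a normal subgroup of index `p`
      let L := {χ : Cfsg.IrrCharacter G // (χ : G → ℂ) 1 = 1}
      have : Finite (G →* ℂˣ) := Finite.of_equiv L CfsgLib.CharIto.linearIrrEquiv
      choose k hk using hdeg
      have hcount : (Nat.card G : ℕ) = ∑ χ : Cfsg.IrrCharacter G, (p ^ k χ) ^ 2 := by
        have h := sum_sq_degrees (G := G)
        simp only [hk] at h
        exact_mod_cast h.symm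
      have hpL : p ∣ Nat.card (G →* ℂˣ) := by
        rw [← Nat.card_congr CfsgLib.CharIto.linearIrrEquiv, Nat.card_eq_fintype_card,
          Fintype.card_subtype]
        rw [hcount, ← Finset.sum_filter_add_sum_filter_not Finset.univ
          (fun χ : Cfsg.IrrCharacter G => (χ : G → ℂ) 1 = 1)] at hpG
        have h1 : ∀ χ ∈ Finset.univ.filter (fun χ : Cfsg.IrrCharacter G => (χ : G → ℂ) 1 = 1),
            (p ^ k χ) ^ 2 = 1 := by
          intro χ hχ
          have h := (hk χ).symm.trans (Finset.mem_filter.1 hχ).2
          have : p ^ k χ = 1 := by exact_mod_cast h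
          rw [this, one_pow]
        rw [Finset.sum_congr rfl h1, ← Finset.card_eq_sum_ones] at hpG
        refine (Nat.dvd_add_left ?_).1 hpG
        refine Finset.dvd_sum fun χ hχ => ?_
        have hne : k χ ≠ 0 := fun h0 => (Finset.mem_filter.1 hχ).2 (by rw [hk χ, h0, pow_zero])
        exact dvd_pow (dvd_pow_self p hne) two_ne_zero
      obtain ⟨lam, hlam⟩ := exists_prime_orderOf_dvd_card' p hpL
      let N := lam.ker
      have hindex : N.index = p := by
        rw [Subgroup.index_ker]
        have hpow : ∀ x : lam.range, x ^ p = 1 := by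
          rintro ⟨_, g, rfl⟩
          refine Subtype.ext ?_
          show lam g ^ p = 1
          rw [← MonoidHom.pow_apply, ← hlam, pow_orderOf_eq_one, MonoidHom.one_apply]
        have : Finite lam.range := Finite.of_surjective _ lam.rangeRestrict_surjective
        have : IsCyclic lam.range := isCyclic_of_injective_ringHom
          ((Units.coeHom ℂ).comp lam.range.subtype) (Units.val_injective.comp Subtype.val_injective)
        obtain ⟨x, hx⟩ := IsCyclic.exists_generator (α := lam.range)
        have hx' : orderOf x = Nat.card lam.range := orderOf_eq_card_of_forall_mem_zpowers hx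
        rw [← hx']
        refine orderOf_eq_prime (hpow x) fun h1 => ?_
        have hlam1 : lam = 1 := by
          refine MonoidHom.ext fun g => ?_
          obtain ⟨i, hi⟩ := Subgroup.mem_zpowers_iff.1 (hx ⟨lam g, g, rfl⟩)
          rw [h1, one_zpow] at hi
          exact (congrArg Subtype.val hi).symm
        rw [hlam1, orderOf_one] at hlam
        exact hp.ne_one hlam.symm
      have hNn : N.Normal := inferInstance
      have hNlt : Nat.card N < n := by
        rw [← hn, ← N.card_mul_index, hindex]
        exact lt_mul_of_one_lt_right Nat.card_pos hp.one_lt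
      have : Fintype N := Fintype.ofFinite N
      obtain ⟨A, hA, hAab, hAcop, j, hj⟩ := ih _ hNlt N rfl fun θ => by
        obtain ⟨χ, hχ⟩ := CfsgLib.Clifford.exists_constituent
          (CfsgLib.Induction.isCharacter_indFun N (isCharacter_of_irr θ.2)) fun h => by
            have h1 := congrFun h 1
            rw [CfsgLib.Induction.indFun_one_apply, Pi.zero_apply, mul_eq_zero] at h1
            rcases h1 with h1 | h1
            · exact Subgroup.index_ne_zero_of_finite (by exact_mod_cast h1)
            · exact irr_one_ne_zero θ h1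
        have hne : Cfsg.classInner (fun x : N => (χ : G → ℂ) x) (θ : N → ℂ) ≠ 0 := by
          intro h0
          rw [CfsgLib.Induction.classInner_indFun N _ (irr_isClassFunction χ),
            classInner_conj_symm, h0, map_zero] at hχ
          exact hχ rfl
        obtain ⟨e, he⟩ := classInner_char_nat
          (CfsgLib.Clifford.isCharacter_subtype (irr_isCharacter χ) N) (irr_isCharacter θ)
        obtain ⟨d, -, hd⟩ := irr_exists_degree θ.2
        have h := CfsgLib.Clifford.clifford_degree hNn χ.2 θ.2 hne
        rw [hk χ, he, hd] at h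
        have h' : p ^ k χ = e * (CfsgLib.Clifford.inertia hNn (θ : N → ℂ)).index * d := by
          exact_mod_cast h
        obtain ⟨i, -, hi⟩ := (Nat.dvd_prime_pow hp).1 (Dvd.intro_left _ h'.symm)
        exact ⟨i, by rw [hd, hi, Nat.cast_pow]⟩
      have hcard : Nat.card (A.map N.subtype) = Nat.card A :=
        Subgroup.card_map_of_injective Subtype.val_injective
      refine ⟨A.map N.subtype, ?_, ?_, hcard.symm ▸ hAcop, j + 1, ?_⟩
      · -- elements of `N` of order prime to `p` are exactly those of `A`
        have key : ∀ x : N, (orderOf x).Coprime p → x ∈ A := by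
          intro x hx
          have h1 : (QuotientGroup.mk x : N ⧸ A) ^ (p ^ j) = 1 := by
            rw [← hj, Subgroup.index_eq_card]; exact pow_card_eq_one'
          have h2 := orderOf_map_dvd (QuotientGroup.mk' A) x
          have h3 : orderOf (QuotientGroup.mk x : N ⧸ A) ∣ 1 := by
            have := Nat.dvd_gcd h2 (orderOf_dvd_of_pow_eq_one h1)
            rwa [(hx.pow_right j).gcd_eq_one] at this
          exact (QuotientGroup.eq_one_iff x).1 (orderOf_eq_one_iff.1 (Nat.dvd_one.1 h3))
        refine ⟨fun y hy g => ?_⟩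
        obtain ⟨x, hx, rfl⟩ := hy
        refine ⟨⟨g * x * g⁻¹, hNn.conj_mem x x.2 g⟩, key _ ?_, rfl⟩
        rw [← Subgroup.orderOf_coe]
        show (orderOf (g * (x : G) * g⁻¹)).Coprime p
        rw [← MulAut.conj_apply, MulEquiv.orderOf_eq, Subgroup.orderOf_coe, ← Subgroup.orderOf_mk x hx]
        exact Nat.Coprime.of_dvd_left (orderOf_dvd_natCard _) hAcop
      · rintro _ ⟨a, ha, rfl⟩ _ ⟨b, hb, rfl⟩
        exact congrArg Subtype.val (hAab a ha b hb)
      · rw [Subgroup.index_map_subtype, hindex, hj, pow_succ]

/-- For a finite group G and a prime p: every irreducible character of G has degree a power of p if and only if G has an abelian normal subgroup whose order is prime to p and whose index is a power of p. -/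
theorem result {G : Type*} [Group G] [Finite G] (p : ℕ) (hp : p.Prime) : (∀ χ : Cfsg.IrrCharacter G, ∃ k : ℕ, (χ : G → ℂ) 1 = (p : ℂ) ^ k) ↔ ∃ A : Subgroup G, A.Normal ∧ (∀ a ∈ A, ∀ b ∈ A, a * b = b * a) ∧ Nat.Coprime (Nat.card A) p ∧ ∃ k : ℕ, A.index = p ^ k := by
  classical
  constructor
  swap
  · rintro ⟨A, hA, hab, hcop, k, hk⟩ χ
    obtain ⟨d, hd, hdvd⟩ := CfsgLib.CharIto.degree_dvd_index_of_abelian_normal χ.2 A hA hab
    rw [hk] at hdvd
    obtain ⟨j, -, rfl⟩ := (Nat.dvd_prime_pow hp).1 hdvd
    exact ⟨j, by rw [hd, Nat.cast_pow]⟩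
  · intro hdeg
    exact Cfsg.Agent.S0855.forward p hp _ G rfl hdeg

end Cfsg.Agent.S0855
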