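import Cfsg.Statements.S0860
import Cfsg.Agent.Lib.Characters.BrauerPerm

set_option autoImplicit false
open Cfsg

namespace Cfsg.Agent.S0860

/-- Let a group A act on the set of irreducible characters and on the set of conjugacy classes of a finite group G in such a way that (a • χ) evaluated on the class a • C equals χ evaluated on C, for all a, χ and C. Then every element of A fixes exactly as many irreducible characters as it fixes conjugacy classes. -/
theorem result {G : Type*} [Group G] [Finite G] {A : Type*} [Group A] [MulAction A (Cfsg.IrrCharacter G)] [MulAction A (ConjClasses G)] (hcompat : ∀ (a : A) (χ : Cfsg.IrrCharacter G) (g g' : G), ConjClasses.mk g' = a • ConjClasses.mk g → ((a • χ : Cfsg.IrrCharacter G) : G → ℂ) g' = (χ : G → ℂ) g) (a : A) : Nat.card {χ : Cfsg.IrrCharacter G // a • χ = χ} = Nat.card {C : ConjClasses G // a • C = C} := by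
  classical
  have := Fintype.ofFinite G
  have hrep : ∀ g : G, ∃ g' : G, ConjClasses.mk g' = a • ConjClasses.mk g :=
    fun g => ConjClasses.exists_rep _
  choose φ hφ using hrep
  let perm : Equiv.Perm (Cfsg.IrrCharacter G) := MulAction.toPerm a
  have hval : ∀ (χ : Cfsg.IrrCharacter G) (g : G), ((a • χ : Cfsg.IrrCharacter G) : G → ℂ) (φ g) = (χ : G → ℂ) g :=
    fun χ g => hcompat a χ g (φ g) (hφ g)
  -- a bijection lifting the action on classes
  have hlift : ∃ τ : G → G, Function.Bijective τ ∧ ∀ g, ConjClasses.mk (τ g) = a • ConjClasses.mk g := by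
    have hcard : ∀ C : ConjClasses G,
        Nat.card {g : G // ConjClasses.mk g = C} = Nat.card {g : G // ConjClasses.mk g = a • C} := by
      intro C
      obtain ⟨g, rfl⟩ := ConjClasses.exists_rep C
      have hcls : ∀ h : G, Nat.card {x : G // ConjClasses.mk x = ConjClasses.mk h} *
          Nat.card (Subgroup.centralizer ({h} : Set G)) = Nat.card G := by
        intro h
        rw [← CfsgLib.Characters.card_isConj_mul_card_centralizer h]
        congr 1
        exact Nat.card_congr (Equiv.subtypeEquivRight fun x =>
          ConjClasses.mk_eq_mk_iff_isConj.trans isConj_comm)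
      have hcent : Nat.card (Subgroup.centralizer ({g} : Set G)) =
          Nat.card (Subgroup.centralizer ({φ g} : Set G)) := by
        have h1 := CfsgLib.Characters.column_orth g g
        have h2 := CfsgLib.Characters.column_orth (φ g) (φ g)
        rw [if_pos (IsConj.refl _)] at h1 h2
        have h3 : (Nat.card (Subgroup.centralizer ({g} : Set G)) : ℂ) =
            (Nat.card (Subgroup.centralizer ({φ g} : Set G)) : ℂ) := by
          rw [← h1, ← h2, ← Equiv.sum_comp perm
            (fun χ : Cfsg.IrrCharacter G => (χ : G → ℂ) (φ g) * (starRingEnd ℂ) ((χ : G → ℂ) (φ g)))]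
          exact Finset.sum_congr rfl fun χ _ => by simp only [perm, MulAction.toPerm_apply, hval]
        exact_mod_cast h3
      rw [← hφ g]
      exact Nat.eq_of_mul_eq_mul_right Nat.card_pos
        ((hcls g).trans ((hcent ▸ hcls (φ g)).symm))
    let e : ∀ C : ConjClasses G,
        {g : G // ConjClasses.mk g = C} ≃ {g : G // ConjClasses.mk g = a • C} :=
      fun C => Classical.choice ⟨(Finite.equivFin _).trans
        ((finCongr (hcard C)).trans (Finite.equivFin _).symm)⟩
    refine ⟨fun g => (e (ConjClasses.mk g) ⟨g, rfl⟩).1, ?_, fun g => (e _ _).2⟩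
    refine Finite.injective_iff_bijective.1 fun g g' h => ?_
    have hC : ConjClasses.mk g = ConjClasses.mk g' := by
      have h1 := (e (ConjClasses.mk g) ⟨g, rfl⟩).2
      have h2 := (e (ConjClasses.mk g') ⟨g', rfl⟩).2
      rw [h, h2] at h1
      exact (MulAction.injective a h1).symm
    have : ∀ (C D : ConjClasses G) (hCD : C = D) (x : {g : G // ConjClasses.mk g = C})
        (y : {g : G // ConjClasses.mk g = D}), (e C x).1 = (e D y).1 → x.1 = y.1 := by
      rintro C D rfl x y hxy
      exact congrArg Subtype.val ((e C).injective (Subtype.ext hxy))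
    exact this _ _ hC ⟨g, rfl⟩ ⟨g', rfl⟩ h
  obtain ⟨τ, hτ, hτc⟩ := hlift
  rw [CfsgLib.BrauerPerm.card_fixed_eq (fun χ => a • χ) τ hτ fun χ k => hcompat a χ k _ (hτc k)]
  refine Nat.card_congr (Equiv.subtypeEquivRight fun C => ⟨fun h => ?_, fun h k hk => ?_⟩)
  · obtain ⟨k, rfl⟩ := ConjClasses.exists_rep C
    rw [← hτc k]
    exact h k rfl
  · rw [hτc, hk, h]

end Cfsg.Agent.S0860
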