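import Cfsg.Statements.S0861
import Cfsg.Agent.Lib.KGV.CharTools
import Cfsg.Agent.Lib.KGV.Ito
import Cfsg.Agent.Lib.Characters.Ito
import Cfsg.Agent.Lib.Characters.Decomp
import Cfsg.Agent.Lib.Characters.Clifford

set_option autoImplicit false
open Cfsg
open scoped commutatorElement

namespace Cfsg.Agent.S0861

/-- Let P be a normal abelian Sylow p-subgroup of the finite group G and suppose some element g of P has centralizer exactly P. Then the number of irreducible characters of G is at most the order of P, and if equality holds then G / P is abelian (the commutator subgroup lies in P). -/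
theorem result {G : Type*} [Group G] [Finite G] (p : ℕ) [Fact p.Prime] (P : Sylow p G) [(P : Subgroup G).Normal] (hab : ∀ a ∈ P, ∀ b ∈ P, a * b = b * a) (g : G) (hg : g ∈ P) (hC : Subgroup.centralizer ({g} : Set G) = P) : Nat.card (Cfsg.IrrCharacter G) ≤ Nat.card P ∧ (Nat.card (Cfsg.IrrCharacter G) = Nat.card P → commutator G ≤ P) := by
  classical
  have : Fintype G := Fintype.ofFinite G

  have hP : (P : Subgroup G).Normal := inferInstance
  obtain ⟨k, hk⟩ := P.2 ⟨g, hg⟩
  have hgk : g ^ p ^ k = 1 := congrArg Subtype.val hk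
  have hne : ∀ χ : Cfsg.IrrCharacter G, (χ : G → ℂ) g ≠ 0 := by
    intro χ
    obtain ⟨d, hd, hdvd⟩ :=
      CfsgLib.CharIto.degree_dvd_index_of_abelian_normal χ.2 (P : Subgroup G) hP hab
    exact CfsgLib.KGV.char_pElement_ne_zero Fact.out (CfsgLib.Characters.irr_isCharacter χ) hd
      (fun h => P.not_dvd_index (h.trans hdvd)) hgk
  have hsum : ∑ χ : Cfsg.IrrCharacter G, (χ : G → ℂ) g * (starRingEnd ℂ) ((χ : G → ℂ) g) =
      ((Nat.card P : ℕ) : ℂ) := by
    rw [CfsgLib.Characters.column_orth g g, if_pos (IsConj.refl g), hC]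
  have hbound : ∀ (s : Finset (Cfsg.IrrCharacter G)) (q : ℚ),
      ∑ χ ∈ s, (χ : G → ℂ) g * (starRingEnd ℂ) ((χ : G → ℂ) g) = (q : ℂ) →
      (s.card : ℝ) ≤ (q : ℝ) := by
    intro s q hq
    have h := CfsgLib.KGV.card_ne_zero_le_sum_normSq s Nat.card_pos (fun χ => (χ : G → ℂ) g)
      (fun χ _ => CfsgLib.KGV.char_mem_rootField (CfsgLib.Characters.irr_isCharacter χ) g)
      (fun χ _ => CfsgLib.KGV.char_isIntegral (CfsgLib.Characters.irr_isCharacter χ) g) q hq
    rwa [Finset.filter_true_of_mem fun χ _ => hne χ] at h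
  constructor
  · have h := hbound Finset.univ (Nat.card P : ℚ) (by rw [hsum]; norm_cast)
    rw [Finset.card_univ, Rat.cast_natCast] at h
    rw [Nat.card_eq_fintype_card (α := Cfsg.IrrCharacter G)]
    exact_mod_cast h
  · intro heq
    -- characters trivial on `P` have degree one
    have hdeg : ∀ χ : Cfsg.IrrCharacter G, (χ : G → ℂ) g = (χ : G → ℂ) 1 → (χ : G → ℂ) 1 = 1 := by
      intro χ hχ
      obtain ⟨d, hd0, hd⟩ := CfsgLib.Characters.irr_exists_degree χ.2
      rw [hd]
      have h := hbound (Finset.univ.erase χ) ((Nat.card P : ℚ) - (d : ℚ) ^ 2) (by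
        rw [Finset.sum_erase_eq_sub (Finset.mem_univ χ), hsum, hχ, hd, Complex.conj_natCast]
        push_cast
        ring)
      rw [Finset.card_erase_of_mem (Finset.mem_univ χ), Finset.card_univ,
        ← Nat.card_eq_fintype_card, heq, Nat.cast_sub Nat.card_pos] at h
      push_cast at h
      have : d ^ 2 ≤ 1 := by
        have : ((d : ℝ) ^ 2) ≤ 1 := by linarith
        exact_mod_cast this
      have : d = 1 := by nlinarith
      rw [this, Nat.cast_one]
    let π := QuotientGroup.mk' (P : Subgroup G)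
    rw [commutator_def, Subgroup.commutator_le]
    intro a _ b _
    rw [← QuotientGroup.eq_one_iff]
    show π ⁅a, b⁆ = 1
    rw [map_commutatorElement, commutatorElement_eq_one_iff_commute]
    refine (div_eq_one.1 ?_ : π a * π b = π b * π a)
    rw [← isConj_one_left, CfsgLib.Characters.isConj_iff_irr]
    intro ξ
    have hlift := CfsgLib.Clifford.isIrrCharacter_pullback ξ.2 π (QuotientGroup.mk'_surjective _)
    have h1 : (ξ : G ⧸ (P : Subgroup G) → ℂ) 1 = 1 := by
      have := hdeg ⟨_, hlift⟩ (by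
        show (ξ : _ → ℂ) (π g) = (ξ : _ → ℂ) (π 1)
        rw [map_one, show π g = 1 from (QuotientGroup.eq_one_iff g).2 hg])
      simpa using this
    let f := CfsgLib.CharIto.linearHom (CfsgLib.Characters.irr_isCharacter ξ) h1
    show ((f (π a * π b / (π b * π a)) : ℂˣ) : ℂ) = ((f 1 : ℂˣ) : ℂ)
    rw [map_one, map_div, map_mul, map_mul, mul_comm (f (π a)), div_self']

end Cfsg.Agent.S0861
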