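import Cfsg.Statements.S0874
import Cfsg.Agent.Lib.Characters.LocalBrauer

set_option autoImplicit false
open Cfsg

namespace Cfsg.Agent.S0874

/-- For a finite group G and a prime p there are an integer m not divisible by p and a list of triples (E, φ, c), with E a p-elementary subgroup, φ a character of E and c an integer, such that the constant function m on G equals the sum of the c • (function induced from φ). -/
theorem result {G : Type*} [Group G] [Fintype G] (p : ℕ) (hp : p.Prime) : ∃ (m : ℤ) (l : List ((E : Subgroup G) × ((E → ℂ) × ℤ))), ¬ (p : ℤ) ∣ m ∧ (∀ t ∈ l, Cfsg.IsElementary p t.1 ∧ Cfsg.IsCharacter t.1 t.2.1) ∧ (fun _ : G => (m : ℂ)) = (l.map fun t => (t.2.2 : ℂ) • Cfsg.indFun t.1 t.2.1).sum := by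
  obtain ⟨m, hm, hmem⟩ := CfsgLib.BrauerInd.brauer_local (G := G) p hp
  suffices h : ∀ F ∈ CfsgLib.BrauerInd.indSpan p G, ∃ l : List ((E : Subgroup G) × ((E → ℂ) × ℤ)),
      (∀ t ∈ l, Cfsg.IsElementary p t.1 ∧ Cfsg.IsCharacter t.1 t.2.1) ∧
        F = (l.map fun t => (t.2.2 : ℂ) • Cfsg.indFun t.1 t.2.1).sum by
    obtain ⟨l, hl, hF⟩ := h _ hmem
    exact ⟨m, l, hm, hl, hF⟩
  intro F hF
  induction hF using AddSubgroup.closure_induction with
  | mem F hF =>
    obtain ⟨E, φ, hE, hφ, rfl⟩ := hF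
    exact ⟨[⟨E, φ, 1⟩], by simp [hE, hφ], by simp⟩
  | zero => exact ⟨[], by simp, by simp⟩
  | add a b _ _ ha hb =>
    obtain ⟨l, hl, rfl⟩ := ha
    obtain ⟨l', hl', rfl⟩ := hb
    exact ⟨l ++ l', fun t ht => (List.mem_append.1 ht).elim (hl t) (hl' t), by simp⟩
  | neg a _ ha =>
    obtain ⟨l, hl, rfl⟩ := ha
    refine ⟨l.map fun t => ⟨t.1, t.2.1, -t.2.2⟩, fun t ht => ?_, ?_⟩
    · obtain ⟨s, hs, rfl⟩ := List.mem_map.1 ht
      exact hl s hs
    · clear * - l
      induction l with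
      | nil => simp
      | cons t l ih =>
        simp only [List.map_cons, List.sum_cons, neg_add, Int.cast_neg, neg_smul]
        rw [ih]

end Cfsg.Agent.S0874
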