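import Cfsg.Statements.S0876
import Cfsg.Agent.Lib.Characters.ElemSection
import Cfsg.Agent.Lib.Blocks.PrincipalSq
import Cfsg.Agent.Lib.Blocks.PPart

set_option autoImplicit false
open Cfsg

namespace Cfsg.Agent.S0876

/-- Let G be a finite group, p a prime and M a maximal ideal of the ring of algebraic integers containing p. Let x, y be elements with p-parts a and b (so a⁻¹ * x and b⁻¹ * y are their p-regular parts). Then a⁻¹ * x and b⁻¹ * y are conjugate in G if and only if, for every irreducible character χ, the difference χ x - χ y lies in the local ideal at M. -/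
theorem result {G : Type*} [Group G] [Finite G] (p : ℕ) (M : Ideal Cfsg.AlgInt) (hM : Cfsg.IsPModular p M) (x y a b : G) (ha : Cfsg.IsPPart p x a) (hb : Cfsg.IsPPart p y b) : IsConj (a⁻¹ * x) (b⁻¹ * y) ↔ ∀ χ : Cfsg.IrrCharacter G, Cfsg.MemLocalIdeal M ((χ : G → ℂ) x - (χ : G → ℂ) y) := by
  classical
  have := Fintype.ofFinite G
  have hp : p.Prime := hM.1
  obtain ⟨x', hx', hxc, ⟨k, hk⟩, hxp⟩ := ha
  obtain ⟨y', hy', hyc, ⟨l, hl⟩, hyp⟩ := hb
  subst hx' hy'
  rw [inv_mul_cancel_left, inv_mul_cancel_left]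
  constructor
  · intro h χ
    have hpow : ∀ (a x' : G) (k N : ℕ), Commute a x' → orderOf a = p ^ k → k ≤ N →
        (a * x') ^ p ^ N = x' ^ p ^ N := by
      intro a x' k N hc ha hkN
      rw [hc.mul_pow, orderOf_dvd_iff_pow_eq_one.1 (ha ▸ pow_dvd_pow p hkN), one_mul]
    have hχc := CfsgLib.Characters.irr_isCharacter χ
    have h1 := CfsgLib.PrincipalSq.char_congr_of_pow_eq hM hχc (hpow a x' k k hxc hk le_rfl)
    have h2 := CfsgLib.PrincipalSq.char_congr_of_pow_eq hM hχc (hpow b y' l l hyc hl le_rfl)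
    have e : (χ : G → ℂ) x' = (χ : G → ℂ) y' :=
      CfsgLib.Characters.classFunction_eq_of_isConj (CfsgLib.Characters.irr_isClassFunction χ) h
    have e2 : (χ : G → ℂ) (a * x') - (χ : G → ℂ) (b * y') =
        ((χ : G → ℂ) (a * x') - (χ : G → ℂ) x') - ((χ : G → ℂ) (b * y') - (χ : G → ℂ) y') := by
      rw [e]
      ring
    rw [e2]
    exact CfsgLib.Blocks.MemLocalIdeal.sub hM h1 h2
  · intro h
    by_contra hne
    obtain ⟨α, n, hn, hcard⟩ :=
      Nat.exists_eq_pow_mul_and_not_dvd (Nat.card_pos (α := G)).ne' p hp.ne_one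
    have hcop : Nat.Coprime (p ^ α) n := ((hp.coprime_iff_not_dvd).2 hn).pow_left α
    have hreg : ∀ z : G, ¬ p ∣ orderOf z → Nat.Coprime (orderOf z) (p ^ α) :=
      fun z hz => (((hp.coprime_iff_not_dvd).2 hz).symm).pow_right α
    have hpel : ∀ (z : G) (j : ℕ), orderOf z = p ^ j → Nat.Coprime (orderOf z) n :=
      fun z j hz => hz ▸ ((hp.coprime_iff_not_dvd).2 hn).pow_left j
    let ϑ : G → ℂ := fun z =>
      if CfsgLib.ElemSection.InSection (p ^ α) n x' z then (n : ℂ) else 0
    obtain ⟨hcf, hint⟩ := CfsgLib.ElemSection.isIntegral_classInner_section hcard hcop x'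
      (ϑ := ϑ) (fun z hz => if_pos hz) (fun z hz => if_neg hz)
    have hx1 : ϑ (a * x') = n := if_pos ⟨x', IsConj.refl _, a, rfl, hxc, hpel a k hk, hreg x' hxp⟩
    have hy0 : ϑ (b * y') = 0 := by
      refine if_neg ?_
      rintro ⟨v, hv, u, he, hc, hu, hv'⟩
      have hvy := CfsgLib.ElemSection.split_eq hcard hcop he hyc hc (hpel b l hl) (hreg y' hyp) hu hv'
      exact hne (hvy ▸ hv).symm
    have hsum := CfsgLib.Characters.classFunction_eq_sum hcf
    have hdiff : (n : ℂ) = ∑ χ : Cfsg.IrrCharacter G, Cfsg.classInner ϑ (χ : G → ℂ) *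
        ((χ : G → ℂ) (a * x') - (χ : G → ℂ) (b * y')) := by
      have e1 := congrFun hsum (a * x')
      have e2 := congrFun hsum (b * y')
      rw [hx1] at e1
      rw [hy0] at e2
      simp only [Finset.sum_apply, Pi.smul_apply, smul_eq_mul] at e1 e2
      simp only [mul_sub, Finset.sum_sub_distrib, ← e1, ← e2, sub_zero]
    refine hn ((CfsgLib.Blocks.memLocalIdeal_natCast_iff hM n).1 ?_)
    rw [hdiff]
    exact CfsgLib.Blocks.MemLocalIdeal.sum hM _ fun χ _ =>
      CfsgLib.Blocks.MemLocalIdeal.mul_left hM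
        (CfsgLib.Blocks.memLocalRing_of_isIntegral hM (hint χ)) (h χ)

end Cfsg.Agent.S0876
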