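import Cfsg.Statements.S0879
import Cfsg.Agent.Lib.PermSmall.Zassenhaus

set_option autoImplicit false
open Cfsg

namespace Cfsg.Agent.S0879

/-- Let G be a Zassenhaus group on the finite set Ω and E the stabilizer of two distinct points a, b. Then an element outside the normalizer of E conjugates no non-identity element of E into E, and E has index 2 in its normalizer. -/
theorem result {G Ω : Type*} [Group G] [Finite G] [MulAction G Ω] [Fintype Ω] (hZ : Cfsg.IsZassenhausGroup G Ω) {a b : Ω} (hab : a ≠ b) : (∀ g : G, g ∉ Subgroup.normalizer ((MulAction.stabilizer G a ⊓ MulAction.stabilizer G b : Subgroup G) : Set G) → ∀ x ∈ (MulAction.stabilizer G a ⊓ MulAction.stabilizer G b : Subgroup G), g * x * g⁻¹ ∈ (MulAction.stabilizer G a ⊓ MulAction.stabilizer G b : Subgroup G) → x = 1) ∧ ((MulAction.stabilizer G a ⊓ MulAction.stabilizer G b : Subgroup G).subgroupOf (Subgroup.normalizer ((MulAction.stabilizer G a ⊓ MulAction.stabilizer G b :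 Subgroup G) : Set G))).index = 2 := by
  classical
  have hne := CfsgLib.PermSmall.Zassenhaus.one_lt_card_pairStab hZ hab
  change 1 < Nat.card (MulAction.stabilizer G a ⊓ MulAction.stabilizer G b : Subgroup G) at hne
  set E : Subgroup G := MulAction.stabilizer G a ⊓ MulAction.stabilizer G b
  obtain ⟨u, hu, hu1⟩ : ∃ u ∈ E, u ≠ 1 := by
    have : Nontrivial E := Finite.one_lt_card_iff_nontrivial.1 hne
    obtain ⟨⟨u, hu⟩, h1⟩ := exists_ne (1 : E)
    exact ⟨u, hu, fun h => h1 (Subtype.ext h)⟩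
  have hnorm : ∀ g : G, (g • a = a ∧ g • b = b) ∨ (g • a = b ∧ g • b = a) →
      g ∈ Subgroup.normalizer (E : Set G) := by
    have key : ∀ g : G, (g • a = a ∧ g • b = b) ∨ (g • a = b ∧ g • b = a) →
        ∀ v ∈ E, g * v * g⁻¹ ∈ E := by
      intro g hg v hv
      have h : g * v * g⁻¹ ∈ MulAction.stabilizer G (g • a) ⊓ MulAction.stabilizer G (g • b) :=
        CfsgLib.PermSmall.Zassenhaus.conj_mem_pairStab hv
      rcases hg with ⟨h1, h2⟩ | ⟨h1, h2⟩
      · rwa [h1, h2] at h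
      · rw [h1, h2] at h
        exact ⟨h.2, h.1⟩
    intro g hg
    refine Subgroup.mem_normalizer_iff.2 fun v => ⟨key g hg v, fun h => ?_⟩
    have hg' : (g⁻¹ • a = a ∧ g⁻¹ • b = b) ∨ (g⁻¹ • a = b ∧ g⁻¹ • b = a) := by
      simp only [inv_smul_eq_iff]
      rcases hg with ⟨h1, h2⟩ | ⟨h1, h2⟩
      · exact Or.inl ⟨h1.symm, h2.symm⟩
      · exact Or.inr ⟨h2.symm, h1.symm⟩
    simpa [mul_assoc] using key g⁻¹ hg' _ h
  have hpair : ∀ g : G, ∀ v ∈ E, g * v * g⁻¹ ∈ E → v ≠ 1 →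
      (g • a = a ∧ g • b = b) ∨ (g • a = b ∧ g • b = a) := by
    intro g v hv hgv hv1
    have hv1' : g * v * g⁻¹ ≠ 1 := fun h => hv1 (conj_eq_one_iff.1 h)
    have hfix : ∀ x, v • x = x → g • x = a ∨ g • x = b := fun x hx =>
      CfsgLib.PermSmall.Zassenhaus.eq_one_of_fix_three hZ hv1' hab hgv.1 hgv.2
        (by rw [mul_smul, mul_smul, inv_smul_smul, hx])
    have hab' : g • a ≠ g • b := fun h => hab (smul_left_cancel g h)
    rcases hfix a hv.1 with h1 | h1 <;> rcases hfix b hv.2 with h2 | h2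
    · exact absurd (h1.trans h2.symm) hab'
    · exact Or.inl ⟨h1, h2⟩
    · exact Or.inr ⟨h1, h2⟩
    · exact absurd (h1.trans h2.symm) hab'
  refine ⟨fun g hg v hv hgv => by_contra fun hv1 => hg (hnorm g (hpair g v hv hgv hv1)), ?_⟩
  obtain ⟨s, hs1, hs2⟩ := CfsgLib.PermSmall.Zassenhaus.exists_smul_pair hZ hab hab.symm
  rw [Subgroup.index_eq_two_iff]
  refine ⟨⟨s, hnorm s (Or.inr ⟨hs1, hs2⟩)⟩, fun g => ?_⟩
  simp only [Subgroup.mem_subgroupOf, Subgroup.coe_mul]
  rcases hpair g u hu ((Subgroup.mem_normalizer_iff.1 g.2 u).1 hu) hu1 with ⟨h1, h2⟩ | ⟨h1, h2⟩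
  · refine Or.inr ⟨⟨h1, h2⟩, fun h => hab.symm ?_⟩
    have : ((g : G) * s) • a = a := h.1
    rwa [mul_smul, hs1, h2] at this
  · refine Or.inl ⟨⟨?_, ?_⟩, fun h => hab.symm (h1.symm.trans h.1)⟩
    · show ((g : G) * s) • a = a
      rw [mul_smul, hs1, h2]
    · show ((g : G) * s) • b = b
      rw [mul_smul, hs2, h1]

end Cfsg.Agent.S0879
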