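import Cfsg.Statements.S0881
import Cfsg.Agent.Lib.PermSmall.FeitSimple
import Cfsg.Agent.Lib.Characters.LinearExt

set_option autoImplicit false
open Cfsg

namespace Cfsg.Agent.S0881

/-- Let G be a finite simple Zassenhaus group on Ω with n points, a ≠ b points with two-point stabilizer E of odd order less than n - 2, and let H be the subgroup of the stabilizer of a consisting of the identity and the elements fixing no point other than a (given here as a subgroup of the stabilizer of order one less than the number of points whose non-identity elements fix only a; it is the Frobenius kernel of the stabilizer). Let μ be a character of degree 1 of the stabilizer of a that is identically 1 on H but not identically 1. Then the function induced from μ to G is an irreducible character of G, and it takes the value 1 at every non-identity element of H. -/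
theorem result {G Ω : Type*} [Group G] [Fintype G] [MulAction G Ω] [Fintype Ω] (hZ : Cfsg.IsZassenhausGroup G Ω) {a b : Ω} (hab : a ≠ b) [IsSimpleGroup G] (hodd : Odd (Nat.card ↥(MulAction.stabilizer G a ⊓ MulAction.stabilizer G b : Subgroup G))) (hlt : Nat.card ↥(MulAction.stabilizer G a ⊓ MulAction.stabilizer G b : Subgroup G) < Fintype.card Ω - 2) (H : Subgroup G) (hHa : H ≤ MulAction.stabilizer G a) (hHcard : Nat.card H + 1 = Fintype.card Ω) (hHfix : ∀ u ∈ H, u ≠ 1 → ∀ c : Ω, u • c = c → c = a) (μ : MulAction.stabilizer G a → ℂ) (hμ : Cfsg.IsCharacter (MulAction.stabilizer G a) μ ∧ μ 1 = 1) (hμH : ∀ u : MulAction.stabilizer G a, (u : G) ∈ H → μ u = 1) (hμne : μ ≠ fun _ => 1) : Cfsg.IsIrrCharacter G (Cfsg.indFun (MulAction.stabilizer G a) μ) ∧ ∀ u ∈ H, u ≠ 1 → Cfsg.indFun (MulAction.stabilizer G a) μ u = 1 := by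
  classical
  obtain ⟨T, rfl⟩ := CfsgLib.PermSmall.FeitFrame.exists_frame hZ hab hodd H hHa hHcard hHfix
  obtain ⟨hμc, hμ1⟩ := hμ
  obtain ⟨f, rfl⟩ := CfsgLib.LinearExt.exists_unitsHom hμc hμ1
  let l : T.H →* ℂˣ := f.comp (Subgroup.inclusion inf_le_left)
  have hlift : T.lift l = fun m => (f m : ℂ) := by
    funext m
    let u : T.M := ⟨(T.tr m : G), T.F_le (T.tr m).2⟩
    have hm : m = u * Subgroup.inclusion inf_le_left (T.proj m) := Subtype.ext (by
      show (m : G) = (T.tr m : G) * (T.proj m : G)
      rw [T.proj_coe, mul_inv_cancel_left])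
    have hu : (f u : ℂ) = 1 := hμH u (T.tr m).2
    conv_rhs => rw [hm, map_mul, Units.val_mul, hu, one_mul]
    rfl
  have hl : l ≠ 1 := by
    intro hl
    apply hμne
    rw [← hlift, hl]
    funext m
    simp [CfsgLib.PermSmall.FeitFrame.Frame.lift]
  rw [← hlift]
  exact ⟨T.isIrr_θ hl, fun u hu hu1 => T.θ_apply_F l hu hu1⟩

end Cfsg.Agent.S0881
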