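import Cfsg.Statements.S0893
import Cfsg.Agent.Lib.Characters.Extraspecial
import Cfsg.Agent.Lib.Characters.LinearExt

set_option autoImplicit false
open Cfsg

namespace Cfsg.Agent.S0893

/-- Let P be an extraspecial p-group of order p ^ (2 * n + 1), A an abelian subgroup of order p ^ (n + 1), and λ a character of A of degree 1 that is not identically 1 on the elements of A lying in the centre of P. Then the function induced from λ to P is an irreducible character of P and vanishes at every element outside the centre. -/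
theorem result {P : Type*} [Group P] [Fintype P] (p n : ℕ) [Fact p.Prime] (hP : Cfsg.IsExtraspecial p P) (hcard : Nat.card P = p ^ (2 * n + 1)) (A : Subgroup P) (hab : ∀ a ∈ A, ∀ b ∈ A, a * b = b * a) (hA : Nat.card A = p ^ (n + 1)) (lam : A → ℂ) (hlam : Cfsg.IsCharacter A lam ∧ lam 1 = 1) (hZ : ∃ a : A, (a : P) ∈ Subgroup.center P ∧ lam a ≠ 1) : Cfsg.IsIrrCharacter P (Cfsg.indFun A lam) ∧ ∀ x : P, x ∉ Subgroup.center P → Cfsg.indFun A lam x = 0 := by
  classical
  obtain ⟨f, rfl⟩ := CfsgLib.LinearExt.exists_unitsHom hlam.1 hlam.2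
  have : Fintype A := Fintype.ofFinite _
  have hI := CfsgLib.Induction.isCharacter_indFun A hlam.1
  have hI1 : Cfsg.indFun A (fun a => (f a : ℂ)) 1 = (p : ℂ) ^ n := by
    have hidx : A.index = p ^ n := by
      have h := A.card_mul_index
      rw [hA, hcard, show 2 * n + 1 = (n + 1) + n by omega, pow_add p (n + 1) n] at h
      exact Nat.eq_of_mul_eq_mul_left (pow_pos (Fact.out : p.Prime).pos _) h
    rw [CfsgLib.Induction.indFun_one_apply, hidx]
    simp
  obtain ⟨m, hm, hsum⟩ := CfsgLib.Clifford.exists_mult hI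
  -- every constituent has degree `p ^ n` and vanishes outside the centre
  have hcon : ∀ χ : Cfsg.IrrCharacter P, m χ ≠ 0 →
      (χ : P → ℂ) 1 = (p : ℂ) ^ n ∧ ∀ x, x ∉ Subgroup.center P → (χ : P → ℂ) x = 0 := by
    intro χ hmχ
    rcases CfsgLib.ExtraspecialChar.irr_cases hP hcard χ.2 with h | h
    · exfalso
      obtain ⟨a, haZ, ha1⟩ := hZ
      have hne : Cfsg.classInner (fun y : A => (f y : ℂ)) (fun y : A => (χ : P → ℂ) y) ≠ 0 := by
        rw [← CfsgLib.Induction.classInner_indFun A _ (CfsgLib.Characters.irr_isClassFunction χ), hm χ]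
        exact Nat.cast_ne_zero.2 hmχ
      obtain ⟨g, hg⟩ := CfsgLib.LinearExt.exists_unitsHom (CfsgLib.Characters.irr_isCharacter χ) h.2
      have hga : g (a : P) = 1 := Units.ext (by
        have := h.1 _ haZ
        rw [h.2, congrFun hg (a : P)] at this
        simpa using this)
      apply hne
      have key : (f a : ℂ) * (∑ y : A, (f y : ℂ) * (starRingEnd ℂ) ((χ : P → ℂ) y)) =
          ∑ y : A, (f y : ℂ) * (starRingEnd ℂ) ((χ : P → ℂ) y) := by
        rw [Finset.mul_sum]
        refine Fintype.sum_equiv (Equiv.mulLeft a) _ _ fun y => ?_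
        simp only [Equiv.coe_mulLeft, map_mul, hg, Subgroup.coe_mul, hga, one_mul, Units.val_mul]
        ring
      have h0 := sub_eq_zero.2 key
      rw [← sub_one_mul, mul_eq_zero] at h0
      rw [Cfsg.classInner, h0.resolve_left (sub_ne_zero.2 ha1), mul_zero]
    · exact ⟨h.2.2, h.2.1⟩
  have hp0 : (p : ℂ) ^ n ≠ 0 := pow_ne_zero _ (Nat.cast_ne_zero.2 (Fact.out : p.Prime).ne_zero)
  have hone : ∑ χ : Cfsg.IrrCharacter P, m χ = 1 := by
    have h := congrFun hsum 1
    rw [hI1, Finset.sum_apply, Finset.sum_congr rfl (fun χ _ => show _ = (m χ : ℂ) * (p : ℂ) ^ n by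
      by_cases h0 : m χ = 0
      · simp [h0]
      · rw [Pi.smul_apply, smul_eq_mul, (hcon χ h0).1]), ← Finset.sum_mul] at h
    exact_mod_cast (mul_eq_right₀ hp0).1 h.symm
  obtain ⟨χ, -, hχ⟩ := Finset.exists_ne_zero_of_sum_ne_zero (s := Finset.univ) (f := m) (by rw [hone]; exact one_ne_zero)
  have hm1 : m χ = 1 ∧ ∀ ψ, ψ ≠ χ → m ψ = 0 := by
    rw [← Finset.add_sum_erase _ _ (Finset.mem_univ χ)] at hone
    refine ⟨by omega, fun ψ hψ => ?_⟩
    have := Finset.single_le_sum (f := m) (fun _ _ => Nat.zero_le _)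
      (Finset.mem_erase.2 ⟨hψ, Finset.mem_univ ψ⟩)
    omega
  have heq : Cfsg.indFun A (fun a => (f a : ℂ)) = (χ : P → ℂ) := by
    rw [hsum, Finset.sum_eq_single χ (fun ψ _ hψ => by rw [hm1.2 ψ hψ]; simp) (by simp), hm1.1]
    simp
  rw [heq]
  exact ⟨χ.2, fun x hx => (hcon χ hχ).2 x hx⟩

end Cfsg.Agent.S0893
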