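import Cfsg.Statements.S0895
import Cfsg.Agent.Lib.Characters.FrobSchur

set_option autoImplicit false
open Cfsg

namespace Cfsg.Agent.S0895

/-- Let χ be a real-valued irreducible character of a finite group G whose degree is an odd natural number. Then the average over s in G of χ (s * s) equals 1. -/
theorem result {G : Type*} [Group G] [Fintype G] (χ : G → ℂ) (hχ : Cfsg.IsIrrCharacter G χ) (hreal : ∀ g : G, (χ g).im = 0) (d : ℕ) (hd : χ 1 = d) (hodd : Odd d) : (Nat.card G : ℂ)⁻¹ * ∑ s : G, χ (s * s) = 1 := by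
  classical
  rw [← CfsgLib.FrobSchur.fsInd_eq_sum]
  obtain ⟨n, ρ, hρ, rfl⟩ := hχ
  obtain ⟨B, hB0, hB⟩ := (CfsgLib.FrobSchur.exists_invForm_iff_real ρ hρ).2 hreal
  rcases CfsgLib.FrobSchur.fsInd_cases (⟨n, ρ, hρ, rfl⟩ : Cfsg.IsIrrCharacter G ρ.character) with
    ⟨-, h | h⟩ | ⟨hnr, -⟩
  · exact h
  · exfalso
    have hT := CfsgLib.FrobSchur.transpose_eq_fsInd_smul ρ hρ hB
    rw [h, neg_one_smul] at hT
    have hdet := CfsgLib.FrobSchur.isUnit_det_of_invForm ρ hρ hB hB0
    have heven := CfsgLib.FrobSchur.even_card_of_skew hT hdet.ne_zero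
    rw [Fintype.card_fin] at heven
    have hnd : n = d := by
      rw [Representation.char_one, Module.finrank_fin_fun] at hd
      exact_mod_cast hd
    exact (Nat.not_even_iff_odd.2 hodd) (hnd ▸ heven)
  · exact absurd hreal hnr

end Cfsg.Agent.S0895
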