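import Cfsg.Statements.S0900
import Cfsg.Agent.Lib.Characters.Ramified

set_option autoImplicit false
open Cfsg

namespace Cfsg.Agent.S0900

/-- Let N be a normal subgroup of the finite group G, χ an irreducible character of G and ϑ an irreducible character of N having nonzero inner product with the restriction of χ. Consider: (a) the restriction of χ to N is e • ϑ for a natural number e with e ^ 2 equal to the index of N; (b) χ vanishes outside N and ϑ is invariant under conjugation by G; (c) ϑ is invariant and every irreducible character of G having nonzero inner product with the function induced from ϑ equals χ. Then (a) ↔ (b) and (a) ↔ (c). -/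
theorem result {G : Type*} [Group G] [Fintype G] (N : Subgroup G) [hN : N.Normal] [Fintype N] (χ : G → ℂ) (hχ : Cfsg.IsIrrCharacter G χ) (ϑ : N → ℂ) (hϑ : Cfsg.IsIrrCharacter N ϑ) (hcon : Cfsg.classInner (fun n : N => χ n) ϑ ≠ 0) : ((∃ e : ℕ, (fun n : N => χ n) = (e : ℂ) • ϑ ∧ e ^ 2 = N.index) ↔ ((∀ g : G, g ∉ N → χ g = 0) ∧ ∀ (g : G) (n : N), ϑ ⟨g * n * g⁻¹, hN.conj_mem (n : G) n.2 g⟩ = ϑ n)) ∧ ((∃ e : ℕ, (fun n : N => χ n) = (e : ℂ) • ϑ ∧ e ^ 2 = N.index) ↔ (∀ (g : G) (n : N), ϑ ⟨g * n * g⁻¹, hN.conj_mem (n : G) n.2 g⟩ = ϑ n ∧ ∀ ψ : G → ℂ, Cfsg.IsIrrCharacter G ψ → Cfsg.classInner (Cfsg.indFun N ϑ) ψ ≠ 0 → ψ = χ)) := by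
  classical
  have hχc := CfsgLib.Characters.isCharacter_of_irr hχ
  have hχcl := CfsgLib.Characters.isClassFunction_of_isCharacter hχc
  obtain ⟨d, hd, hθd⟩ := CfsgLib.Characters.irr_exists_degree hϑ
  have hd0 : (d : ℂ) ≠ 0 := Nat.cast_ne_zero.2 hd.ne'
  have hnorm : ∑ g : G, χ g * (starRingEnd ℂ) (χ g) = (Nat.card G : ℂ) := by
    have h := CfsgLib.Characters.classInner_irr_self hχ
    unfold Cfsg.classInner at h
    rwa [inv_mul_eq_iff_eq_mul₀ (Nat.cast_ne_zero.2 Nat.card_pos.ne'), mul_one] at h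
  have hθnorm : ∑ n : N, ϑ n * (starRingEnd ℂ) (ϑ n) = (Nat.card N : ℂ) := by
    have h := CfsgLib.Characters.classInner_irr_self hϑ
    unfold Cfsg.classInner at h
    rwa [inv_mul_eq_iff_eq_mul₀ (Nat.cast_ne_zero.2 Nat.card_pos.ne'), mul_one] at h
  let out : Finset G := Finset.univ.filter (fun g => g ∉ N)
  have hsplit : ∑ g : G, χ g * (starRingEnd ℂ) (χ g) =
      (∑ n : N, χ n * (starRingEnd ℂ) (χ n)) + ∑ g ∈ out, χ g * (starRingEnd ℂ) (χ g) := by
    rw [← Finset.sum_filter_add_sum_filter_not Finset.univ (fun g => g ∈ N)]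
    congr 1
    exact Finset.sum_subtype (Finset.univ.filter fun g => g ∈ N) (fun g => by simp) _
  -- restriction being a multiple: the norm computation
  have key : ∀ e : ℕ, (fun n : N => χ n) = (e : ℂ) • ϑ →
      (e ^ 2 = N.index ↔ ∀ g : G, g ∉ N → χ g = 0) := by
    intro e he
    have hin : ∑ n : N, χ n * (starRingEnd ℂ) (χ n) = (e : ℂ) ^ 2 * (Nat.card N : ℂ) := by
      rw [← hθnorm, Finset.mul_sum]
      refine Finset.sum_congr rfl fun n _ => ?_
      rw [show χ n = (e : ℂ) * ϑ n from congrFun he n, map_mul, Complex.conj_natCast]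
      ring
    rw [hnorm, hin, ← N.card_mul_index, Nat.cast_mul] at hsplit
    constructor
    · intro hidx g hg
      have h0 : ∑ g ∈ out, χ g * (starRingEnd ℂ) (χ g) = 0 := by
        rw [← hidx, Nat.cast_pow] at hsplit
        linear_combination -hsplit
      have h1 : ∑ g ∈ out, Complex.normSq (χ g) = 0 := by
        apply Complex.ofReal_injective
        rw [Complex.ofReal_sum, Complex.ofReal_zero, ← h0]
        exact Finset.sum_congr rfl fun g _ => (Complex.mul_conj (χ g)).symm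
      exact Complex.normSq_eq_zero.1 ((Finset.sum_eq_zero_iff_of_nonneg
        (fun g _ => Complex.normSq_nonneg (χ g))).1 h1 g (Finset.mem_filter.2 ⟨Finset.mem_univ _, hg⟩))
    · intro hv
      rw [Finset.sum_eq_zero (s := out) (fun g hg => by rw [hv g (Finset.mem_filter.1 hg).2, zero_mul]),
        add_zero] at hsplit
      have hN0 : (Nat.card N : ℂ) ≠ 0 := Nat.cast_ne_zero.2 Nat.card_pos.ne'
      rw [mul_comm ((e : ℂ) ^ 2)] at hsplit
      exact_mod_cast (mul_left_cancel₀ hN0 hsplit).symm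
  obtain ⟨e, he⟩ := CfsgLib.Characters.classInner_char_nat
    (CfsgLib.Clifford.isCharacter_subtype hχc N) (CfsgLib.Characters.isCharacter_of_irr hϑ)
  have hres : (∀ (g : G) (n : N), ϑ ⟨g * n * g⁻¹, hN.conj_mem (n : G) n.2 g⟩ = ϑ n) →
      (fun n : N => χ n) = (e : ℂ) • ϑ := fun hinv => by
    have := CfsgLib.Ramified.res_eq_smul_of_invariant N hχ hϑ hinv hcon
    rwa [he] at this
  have hab : (∃ e : ℕ, (fun n : N => χ n) = (e : ℂ) • ϑ ∧ e ^ 2 = N.index) ↔
      ((∀ g : G, g ∉ N → χ g = 0) ∧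
        ∀ (g : G) (n : N), ϑ ⟨g * n * g⁻¹, hN.conj_mem (n : G) n.2 g⟩ = ϑ n) := by
    constructor
    · rintro ⟨k, hk, hidx⟩
      have hk0 : (k : ℂ) ≠ 0 := by
        intro h0
        have : k = 0 := by exact_mod_cast h0
        rw [this] at hidx
        exact Subgroup.index_ne_zero_of_finite (H := N) (by rw [← hidx]; rfl)
      refine ⟨(key k hk).1 hidx, fun g n => mul_left_cancel₀ hk0 ?_⟩
      exact ((congrFun hk ⟨g * n * g⁻¹, hN.conj_mem (n : G) n.2 g⟩).symm.trans (hχcl n g)).trans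
        (congrFun hk n)
    · rintro ⟨hv, hinv⟩
      exact ⟨e, hres hinv, (key e (hres hinv)).2 hv⟩
  have hind : ∀ (hinv : ∀ (g : G) (n : N), ϑ ⟨g * n * g⁻¹, hN.conj_mem (n : G) n.2 g⟩ = ϑ n)
      (n : N), Cfsg.indFun N ϑ n = (N.index : ℂ) * ϑ n := fun hinv n => by
    rw [CfsgLib.Induction.indFun_normal_apply, Finset.sum_congr rfl (fun g _ => hinv g n),
      Finset.sum_const, Finset.card_univ, nsmul_eq_mul, ← Nat.card_eq_fintype_card,
      ← N.card_mul_index, Nat.cast_mul, mul_assoc,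
      inv_mul_cancel_left₀ (Nat.cast_ne_zero.2 Nat.card_pos.ne')]
  refine ⟨hab, ⟨fun ha => ?_, fun hc => ?_⟩⟩
  · obtain ⟨k, hk, hidx⟩ := ha
    obtain ⟨hv, hinv⟩ := hab.1 ⟨k, hk, hidx⟩
    intro g n
    refine ⟨hinv g n, fun ψ hψ hne => ?_⟩
    by_contra hψχ
    apply hne
    have heq : Cfsg.indFun N ϑ = (k : ℂ) • χ := by
      funext x
      by_cases hx : x ∈ N
      · rw [hind hinv ⟨x, hx⟩, Pi.smul_apply, smul_eq_mul, show χ x = (k : ℂ) * ϑ ⟨x, hx⟩ from
          congrFun hk ⟨x, hx⟩, ← hidx, Nat.cast_pow]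
        ring
      · rw [CfsgLib.Induction.indFun_normal_eq_zero N hx, Pi.smul_apply, hv x hx, smul_zero]
    rw [heq, CfsgLib.Characters.classInner_smul_left,
      CfsgLib.Characters.classInner_irr_ne hχ hψ (Ne.symm hψχ), mul_zero]
  · have hinv : ∀ (g : G) (n : N), ϑ ⟨g * n * g⁻¹, hN.conj_mem (n : G) n.2 g⟩ = ϑ n :=
      fun g n => (hc g n).1
    have hall := (hc 1 1).2
    have hmult : ∀ ξ : Cfsg.IrrCharacter G, (ξ : G → ℂ) ≠ χ →
        Cfsg.classInner (Cfsg.indFun N ϑ) (ξ : G → ℂ) = 0 := fun ξ hξ =>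
      by_contra fun h => hξ (hall _ ξ.2 h)
    have heq : Cfsg.indFun N ϑ = (e : ℂ) • χ := by
      refine CfsgLib.Characters.classFunction_ext (CfsgLib.Induction.isClassFunction_indFun N ϑ)
        (CfsgLib.Characters.isClassFunction_smul hχcl _) fun ξ => ?_
      rw [CfsgLib.Characters.classInner_smul_left]
      by_cases hξ : (ξ : G → ℂ) = χ
      · rw [hξ, CfsgLib.Induction.classInner_indFun N ϑ hχcl, CfsgLib.Characters.classInner_irr_self hχ,
          CfsgLib.Characters.classInner_conj_symm, he, Complex.conj_natCast, mul_one]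
      · rw [hmult ξ hξ, CfsgLib.Characters.classInner_irr_ne hχ ξ.2 (Ne.symm hξ), mul_zero]
    refine ⟨e, hres hinv, ?_⟩
    have h1 := congrFun heq 1
    have h2 : χ 1 = (e : ℂ) * ϑ 1 := congrFun (hres hinv) 1
    rw [CfsgLib.Induction.indFun_one_apply, Pi.smul_apply, smul_eq_mul, h2, ← mul_assoc] at h1
    have h3 := mul_right_cancel₀ (by rw [hθd]; exact hd0) h1
    rw [← sq] at h3
    exact_mod_cast h3.symm

end Cfsg.Agent.S0900
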