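import Cfsg.Statements.S0901
import Cfsg.Agent.Lib.Blocks.RootsMod
-- import your own Cfsg.Agent.* helpers here

set_option autoImplicit false
open Cfsg

namespace Cfsg.Agent.S0901

/-- Let M be a maximal ideal of the ring of algebraic integers containing the prime p, and let U be the set of complex roots of unity of order prime to p. Then reduction modulo M is injective on U, and every algebraic integer not in M is congruent modulo M to an element of U (so U maps bijectively onto the nonzero residues). -/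
theorem result (p : ℕ) [Fact p.Prime] (M : Ideal Cfsg.AlgInt) (hM : Cfsg.IsPModular p M) : (∀ ε₁ ε₂ : Cfsg.AlgInt, (∃ m : ℕ, ¬ p ∣ m ∧ (ε₁ : ℂ) ^ m = 1) → (∃ m : ℕ, ¬ p ∣ m ∧ (ε₂ : ℂ) ^ m = 1) → ε₁ - ε₂ ∈ M → ε₁ = ε₂) ∧ (∀ a : Cfsg.AlgInt, a ∉ M → ∃ ε : Cfsg.AlgInt, (∃ m : ℕ, ¬ p ∣ m ∧ (ε : ℂ) ^ m = 1) ∧ a - ε ∈ M) := by
  refine ⟨?_, fun a ha => CfsgLib.Blocks.exists_rootOfUnity_congr hM ha⟩
  rintro ε₁ ε₂ ⟨m₁, hm₁, h₁⟩ ⟨m₂, hm₂, h₂⟩ h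
  have e1 : ε₁ ^ m₁ = 1 := Subtype.ext h₁
  have e2 : ε₂ ^ m₂ = 1 := Subtype.ext h₂
  have hm : ¬ p ∣ m₁ * m₂ := fun hd => (hM.1.dvd_mul.1 hd).elim hm₁ hm₂
  have hm2 : m₂ ≠ 0 := fun h0 => hm₂ (h0 ▸ dvd_zero p)
  have hu : ε₂ ^ (m₂ - 1) * ε₂ = 1 := by
    rw [← pow_succ, Nat.sub_add_cancel (Nat.pos_of_ne_zero hm2), e2]
  have hone : ε₁ * ε₂ ^ (m₂ - 1) = 1 := by
    refine CfsgLib.Blocks.rootOfUnity_eq_one_of_mem hM hm ?_ ?_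
    · rw [mul_pow, pow_mul, e1, one_pow, one_mul, ← pow_mul,
        show (m₂ - 1) * (m₁ * m₂) = m₂ * ((m₂ - 1) * m₁) by ring, pow_mul, e2, one_pow]
    · rw [show ε₁ * ε₂ ^ (m₂ - 1) - 1 = ε₂ ^ (m₂ - 1) * (ε₁ - ε₂) by
        rw [mul_sub, hu, mul_comm]]
      exact M.mul_mem_left _ h
  calc ε₁ = ε₁ * (ε₂ ^ (m₂ - 1) * ε₂) := by rw [hu, mul_one]
    _ = ε₂ := by rw [← mul_assoc, hone, one_mul]

end Cfsg.Agent.S0901
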