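import Cfsg.Statements.S0903
import Cfsg.Agent.Lib.Blocks.Brauer
-- import your own Cfsg.Agent.* helpers here

set_option autoImplicit false
open Cfsg

namespace Cfsg.Agent.S0903

/-- Let P be a p-subgroup of the finite group G, let c centralize P and let g, h ∈ G. The number of pairs (x, y) with x conjugate to g, y conjugate to h and x * y = c is congruent modulo p to the number of such pairs in which x and y both centralize P. (This is why the Brauer map on class sums is multiplicative.) -/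
theorem result {G : Type*} [Group G] [Finite G] (p : ℕ) [Fact p.Prime] (P : Subgroup G) (hP : IsPGroup p P) (c : G) (hc : c ∈ Subgroup.centralizer (P : Set G)) (g h : G) : Nat.card {xy : G × G // IsConj g xy.1 ∧ IsConj h xy.2 ∧ xy.1 * xy.2 = c} ≡ Nat.card {xy : G × G // IsConj g xy.1 ∧ IsConj h xy.2 ∧ xy.1 * xy.2 = c ∧ xy.1 ∈ Subgroup.centralizer (P : Set G) ∧ xy.2 ∈ Subgroup.centralizer (P : Set G)} [MOD p] := by
  classical
  letI := Fintype.ofFinite G
  let X := {xy : G × G // IsConj g xy.1 ∧ IsConj h xy.2 ∧ xy.1 * xy.2 = c}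
  letI : MulAction P X :=
    { smul := fun u z => ⟨((u : G) * z.1.1 * (u : G)⁻¹, (u : G) * z.1.2 * (u : G)⁻¹),
        (CfsgLib.Blocks.isConj_conj_iff _ _ _).2 z.2.1,
        (CfsgLib.Blocks.isConj_conj_iff _ _ _).2 z.2.2.1, by
          have hu := Subgroup.mem_centralizer_iff.1 hc u u.2
          calc (u : G) * z.1.1 * (u : G)⁻¹ * ((u : G) * z.1.2 * (u : G)⁻¹)
              = (u : G) * (z.1.1 * z.1.2) * (u : G)⁻¹ := by group
            _ = c := by rw [z.2.2.2, hu, mul_inv_cancel_right]⟩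
      one_smul := fun z => Subtype.ext (Prod.ext
        (show ((1 : P) : G) * z.1.1 * ((1 : P) : G)⁻¹ = z.1.1 by simp)
        (show ((1 : P) : G) * z.1.2 * ((1 : P) : G)⁻¹ = z.1.2 by simp))
      mul_smul := fun u v z => Subtype.ext (Prod.ext
        (show ((u * v : P) : G) * z.1.1 * ((u * v : P) : G)⁻¹ =
          (u : G) * ((v : G) * z.1.1 * (v : G)⁻¹) * (u : G)⁻¹ by simp [mul_assoc])
        (show ((u * v : P) : G) * z.1.2 * ((u * v : P) : G)⁻¹ =
          (u : G) * ((v : G) * z.1.2 * (v : G)⁻¹) * (u : G)⁻¹ by simp [mul_assoc])) }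
  refine (hP.card_modEq_card_fixedPoints X).trans (congrArg (· % p) ?_)
  refine Nat.card_congr ((Equiv.subtypeEquivRight ?_).trans
    ((Equiv.subtypeSubtypeEquivSubtypeInter
      (fun xy : G × G => IsConj g xy.1 ∧ IsConj h xy.2 ∧ xy.1 * xy.2 = c)
      (fun xy => xy.1 ∈ Subgroup.centralizer (P : Set G) ∧
        xy.2 ∈ Subgroup.centralizer (P : Set G))).trans
    (Equiv.subtypeEquivRight fun xy => by simp only [and_assoc])))
  intro z
  simp only [MulAction.mem_fixedPoints, Subgroup.mem_centralizer_iff, SetLike.mem_coe]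
  constructor
  · intro hz
    exact ⟨fun u hu => mul_inv_eq_iff_eq_mul.1 (congrArg (fun w : X => w.1.1) (hz ⟨u, hu⟩)),
      fun u hu => mul_inv_eq_iff_eq_mul.1 (congrArg (fun w : X => w.1.2) (hz ⟨u, hu⟩))⟩
  · rintro ⟨h1, h2⟩ u
    exact Subtype.ext (Prod.ext (mul_inv_eq_iff_eq_mul.2 (h1 u u.2))
      (mul_inv_eq_iff_eq_mul.2 (h2 u u.2)))

end Cfsg.Agent.S0903
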