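import Cfsg.Statements.S0905
import Cfsg.Agent.Lib.Blocks.Brauer
import Cfsg.Agent.Lib.PCore.Basic
-- import your own Cfsg.Agent.* helpers here

set_option autoImplicit false
open Cfsg

namespace Cfsg.Agent.S0905

/-- Let F be a field of characteristic p and let g be an element of the finite group G no conjugate of which centralizes O_p(G). Then the class sum of g is a nilpotent element of the group algebra F[G]. -/
theorem result {G : Type*} [Group G] [Finite G] (p : ℕ) [Fact p.Prime] (F : Type*) [Field F] [CharP F p] (g : G) (hg : ∀ x : G, IsConj g x → x ∉ Subgroup.centralizer (Cfsg.pCore p G : Set G)) : IsNilpotent (∑ᶠ x ∈ ConjClasses.carrier (ConjClasses.mk g), MonoidAlgebra.single x (1 : F) : MonoidAlgebra F G) := by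
  classical
  letI := Fintype.ofFinite G
  have hP : IsPGroup p (Cfsg.pCore p G) := CfsgLib.PCore.pCore_isPGroup
  have hsum : (∑ᶠ x ∈ ConjClasses.carrier (ConjClasses.mk g), MonoidAlgebra.single x (1 : F) :
      MonoidAlgebra F G) = CfsgLib.Blocks.classSum F g := by
    rw [finsum_mem_eq_sum_of_inter_support_eq _ (t := Finset.univ.filter (IsConj g)) (by
      ext x
      simp only [Set.mem_inter_iff, ConjClasses.mem_carrier_iff_mk_eq,
        ConjClasses.mk_eq_mk_iff_isConj, Finset.coe_filter, Finset.mem_univ, true_and,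
        Set.mem_setOf_eq, isConj_comm (g := x)])]
    ext y
    simp only [CfsgLib.Blocks.coeff_classSum, MonoidAlgebra.coeff_sum, Finsupp.finsetSum_apply,
      MonoidAlgebra.coeff_single, Finsupp.single_apply, Finset.sum_ite_eq', Finset.mem_filter,
      Finset.mem_univ, true_and]
    congr
  rw [hsum]
  haveI : (Cfsg.pCore p G).Normal := inferInstance
  refine CfsgLib.BlockAlg.isNilpotent_of_br_eq_zero (p := p) (P := Cfsg.pCore p G)
    (CharP.cast_eq_zero F p) hP ?_ ?_ ?_
  · rw [Subgroup.normalizer_eq_top]
    exact CfsgLib.BlockAlg.suppIn_top _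
  · intro h _ x
    exact (CfsgLib.Blocks.mem_center_iff_coeff _).1 (CfsgLib.Blocks.classSum_mem_center g) x h
  · ext x
    rw [CfsgLib.BlockAlg.coeff_br, CfsgLib.Blocks.coeff_classSum]
    split_ifs with h1 h2
    · exact absurd h1 (hg x h2)
    · simp
    · simp

end Cfsg.Agent.S0905
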