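import Cfsg.Statements.S0911
import Cfsg.Agent.Lib.BlockCover.DefectGroup
-- import your own Cfsg.Agent.* helpers here

set_option autoImplicit false
open Cfsg

namespace Cfsg.Agent.S0911

/-- The min–max Theorem for defect classes. Let B be a block of the finite group G relative to a maximal ideal M of the algebraic integers containing the prime p, let g represent a defect class of B and let D be a Sylow p-subgroup of the centralizer of g (viewed in G). For any h: (a) if the idempotent coefficient of B at h is a local integer outside the local ideal, then some conjugate of D contains a Sylow p-subgroup of the centralizer of h; (b) if the central character of some member of B at h is outside the local ideal, then some conjugate of D is contained in a Sylow p-subgroup of the centralizer of h. -/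
theorem result {G : Type*} [Group G] [Finite G] (p : ℕ) [Fact p.Prime] (M : Ideal Cfsg.AlgInt) (hM : Cfsg.IsPModular p M) (B : Set (Cfsg.IrrCharacter G)) (hB : Cfsg.IsPBlock M B) (g : G) (hg : Cfsg.IsDefectClass M B g) (D : Sylow p (Subgroup.centralizer ({g} : Set G))) (h : G) : (Cfsg.MemLocalRing M (Cfsg.blockCoeff B h) → ¬ Cfsg.MemLocalIdeal M (Cfsg.blockCoeff B h) → ∃ (x : G) (Q : Sylow p (Subgroup.centralizer ({h} : Set G))), (Q : Subgroup (Subgroup.centralizer ({h} : Set G))).map (Subgroup.centralizer ({h} : Set G)).subtype ≤ ((D : Subgroup (Subgroup.centralizer ({g} : Set G))).map (Subgroup.centralizer ({g} : Set G)).subtype).map (MulAut.conj x).toMonoidHom) ∧ ((∃ χ ∈ B, ¬ Cfsg.MemLocalIdeal M (Cfsg.centralChar (χ : G → ℂ) h)) → ∃ (x : G) (Q : Sylow p (Subgroup.centralizer ({h} : Set G))), ((D : Subgroup (Subgroup.centralizer ({g} : Set G))).map (Subgroup.centralizer ({g} : Set G)).subtype).map (MulAut.conj x).toMonoidHom ≤ (Q : Subgroup (Subgroup.centralizer ({h} : Set G))).map (Subgroup.centralizer ({h} : Set G)).subtype)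 := by
  letI := Fintype.ofFinite G
  set Dm := (D : Subgroup (Subgroup.centralizer ({g} : Set G))).map
    (Subgroup.centralizer ({g} : Set G)).subtype with hDm
  have hD' : Cfsg.IsDefectGroup p M B Dm := ⟨g, hg, D, rfl⟩
  refine ⟨fun _ hh => ?_, fun hh => ?_⟩
  · obtain ⟨Q⟩ : Nonempty (Sylow p (Subgroup.centralizer ({h} : Set G))) := inferInstance
    obtain ⟨x, hx⟩ := CfsgLib.BlockCover.exists_conj_le_defect_of_coeff hM hB hD' hh
      (Q.isPGroup'.map _) (Subgroup.map_subtype_le (Q : Subgroup (Subgroup.centralizer ({h} : Set G))))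
    refine ⟨x⁻¹, Q, fun y hy => ⟨x * y * x⁻¹, hx ⟨y, hy, rfl⟩, ?_⟩⟩
    simp [MulAut.conj_apply, mul_assoc]
  · obtain ⟨χ, hχ, hu⟩ := hh
    obtain ⟨Q⟩ : Nonempty (Sylow p (Subgroup.centralizer ({h} : Set G))) := inferInstance
    obtain ⟨t, ht⟩ := CfsgLib.BlockCover.defect_le_sylow hM hB hD' hχ hu Q
    refine ⟨t⁻¹, Q, ?_⟩
    rintro _ ⟨y, hy, rfl⟩
    obtain ⟨z, hz, hzy⟩ := ht hy
    have hyz : (MulAut.conj t⁻¹).toMonoidHom y = z := by
      rw [← hzy]
      simp [MulAut.conj_apply, mul_assoc]
    rw [hyz]
    exact hz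

end Cfsg.Agent.S0911
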