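import Cfsg.Statements.S0912
import Cfsg.Agent.Lib.Blocks.Brauer
import Cfsg.Agent.Lib.PCore.Basic
import Cfsg.Agent.Lib.Blocks.Idempotent

set_option autoImplicit false
open Cfsg

namespace Cfsg.Agent.S0912

/-- Let B be a block of the finite group G relative to a maximal ideal M of the algebraic integers containing the prime p. Every defect group of B contains the largest normal p-subgroup O_p(G). -/
theorem result {G : Type*} [Group G] [Finite G] (p : ℕ) [Fact p.Prime] (M : Ideal Cfsg.AlgInt) (hM : Cfsg.IsPModular p M) (B : Set (Cfsg.IrrCharacter G)) (hB : Cfsg.IsPBlock M B) (D : Subgroup G) (hD : Cfsg.IsDefectGroup p M B D) : Cfsg.pCore p G ≤ D := by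
  letI := Fintype.ofFinite G
  obtain ⟨g, hg, S, rfl⟩ := hD
  obtain ⟨χ, hχ⟩ := CfsgLib.Blocks.IsPBlock.nonempty hM hB
  set P := Cfsg.pCore p G
  have hP : IsPGroup p P := CfsgLib.PCore.pCore_isPGroup
  haveI : P.Normal := Cfsg.pCore_normal p G
  have hgC : g ∈ Subgroup.centralizer (P : Set G) := by
    by_contra h
    exact hg.2.2 χ hχ (CfsgLib.Blocks.centralChar_mem_ideal_of_normal hM hP χ g h)
  have hle : P ≤ Subgroup.centralizer ({g} : Set G) := fun u hu =>
    Subgroup.mem_centralizer_singleton_iff.2 ((Subgroup.mem_centralizer_iff.1 hgC) u hu)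
  haveI : (P.subgroupOf (Subgroup.centralizer ({g} : Set G))).Normal := inferInstance
  have hPc : IsPGroup p (P.subgroupOf (Subgroup.centralizer ({g} : Set G))) :=
    hP.of_equiv (Subgroup.subgroupOfEquivOfLe hle).symm
  intro u hu
  refine ⟨⟨u, hle hu⟩, ?_, rfl⟩
  exact (CfsgLib.PCore.le_pCore ‹_› hPc).trans (CfsgLib.PCore.pCore_le_sylow S) (show u ∈ P from hu)

end Cfsg.Agent.S0912
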