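import Cfsg.Statements.S0915
import Cfsg.Agent.Lib.Blocks.NormalPSubgroup
import Cfsg.Agent.Lib.Blocks.WeakOrth
import Cfsg.Agent.Lib.PCore.PSolvable

set_option autoImplicit false
open Cfsg

namespace Cfsg.Agent.S0915

/-- Let G be a finite p-solvable group with trivial largest normal subgroup of order prime to p. Then any two irreducible characters of G lie in the same block relative to every maximal ideal M of the algebraic integers containing p: G has a single p-block. -/
theorem result {G : Type*} [Group G] [Finite G] (p : ℕ) [Fact p.Prime] (M : Ideal Cfsg.AlgInt) (hM : Cfsg.IsPModular p M) (hsolv : Cfsg.IsPSolvable p G) (hcore : Cfsg.pPrimeCore p G = ⊥) (χ ψ : Cfsg.IrrCharacter G) : Cfsg.SameBlock M (χ : G → ℂ) (ψ : G → ℂ) := by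
  classical
  letI := Fintype.ofFinite G
  haveI : (Cfsg.pCore p G).Normal := Cfsg.pCore_normal p G
  have hP : IsPGroup p (Cfsg.pCore p G) := CfsgLib.PCore.pCore_isPGroup
  set B := Cfsg.blockOf M (χ : G → ℂ)
  have hB : Cfsg.IsPBlock M B := CfsgLib.Blocks.isPBlock_blockOf χ
  have hzero : ∀ g : G, g ≠ 1 → Cfsg.blockCoeff B g = 0 := by
    intro g hg
    by_cases hgC : g ∈ Subgroup.centralizer (Cfsg.pCore p G : Set G)
    · refine CfsgLib.Blocks.blockCoeff_eq_zero_of_singular hM hB ?_
      obtain ⟨k, hk⟩ := IsPGroup.iff_orderOf.1 hP ⟨g, CfsgLib.PCore.centralizer_pCore_le hsolv hcore hgC⟩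
      rw [← Subgroup.orderOf_coe] at hk
      change orderOf g = p ^ k at hk
      rw [hk]
      refine dvd_pow_self p fun h0 => hg ?_
      rw [h0, pow_zero, orderOf_eq_one_iff] at hk
      exact hk
    · exact CfsgLib.BlockNormalP.blockCoeff_eq_zero hM _ hP hB hgC
  have hval : ∀ η : Cfsg.IrrCharacter G,
      CfsgLib.Blocks.omega (η : G → ℂ) (CfsgLib.Blocks.blockIdem B) = Cfsg.blockCoeff B 1 := by
    intro η
    rw [CfsgLib.Blocks.omega_apply, Finset.sum_eq_single (1 : G)
      (fun g _ hg => by rw [CfsgLib.Blocks.coeff_blockIdem, hzero g hg, zero_mul]) (by simp),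
      CfsgLib.Blocks.coeff_blockIdem,
      mul_div_cancel_right₀ _ (CfsgLib.Characters.irr_one_ne_zero η)]
  have h1 := hval χ
  rw [CfsgLib.Blocks.omega_blockIdem, if_pos (CfsgLib.Blocks.mem_blockOf_self hM χ)] at h1
  have h2 := hval ψ
  rw [CfsgLib.Blocks.omega_blockIdem, ← h1] at h2
  split_ifs at h2 with h3
  · exact h3
  · exact absurd h2 zero_ne_one

end Cfsg.Agent.S0915
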