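import Cfsg.Statements.S0926
import Cfsg.Agent.Lib.Blocks.HeightZero

set_option autoImplicit false
open Cfsg

namespace Cfsg.Agent.S0926

/-- Let B be a block of the finite group G with defect group D (relative to a maximal ideal M of the algebraic integers containing p), let χ ∈ B have height zero, and let x be a p-element. Then some conjugate of x lies in D if and only if χ does not vanish on the whole p-section of x (the elements whose p-part is conjugate to x). -/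
theorem result {G : Type*} [Group G] [Finite G] (p : ℕ) [Fact p.Prime] (M : Ideal Cfsg.AlgInt) (hM : Cfsg.IsPModular p M) (B : Set (Cfsg.IrrCharacter G)) (hB : Cfsg.IsPBlock M B) (D : Subgroup G) (hD : Cfsg.IsDefectGroup p M B D) (χ : Cfsg.IrrCharacter G) (hχ : χ ∈ B) (h0 : Cfsg.blockHeight p B (χ : G → ℂ) = 0) (x : G) (hx : ∃ k : ℕ, orderOf x = p ^ k) : (∃ g : G, g * x * g⁻¹ ∈ D) ↔ ∃ u : G, (∃ z : G, Cfsg.IsPPart p u z ∧ IsConj x z) ∧ (χ : G → ℂ) u ≠ 0 := by
  letI := Fintype.ofFinite G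
  constructor
  · rintro ⟨g, hg⟩
    obtain ⟨y, hy, S, rfl⟩ := hD
    obtain ⟨c, hc, hcg⟩ := hg
    have hz : ∃ k : ℕ, orderOf (g * x * g⁻¹) = p ^ k := by
      obtain ⟨k, hk⟩ := hx
      exact ⟨k, by rw [show g * x * g⁻¹ = MulAut.conj g x from rfl, MulEquiv.orderOf_eq, hk]⟩
    have hcy : Commute (g * x * g⁻¹) y := by
      rw [← hcg]
      exact (Subgroup.mem_centralizer_iff.1 c.2 y rfl).symm
    refine ⟨g * x * g⁻¹ * y, ⟨g * x * g⁻¹, CfsgLib.Blocks.isPPart_mul hcy hz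
      (CfsgLib.Blocks.not_dvd_orderOf_of_isDefectClass hM hB hy), isConj_iff.2 ⟨g, rfl⟩⟩, fun h => ?_⟩
    exact CfsgLib.Blocks.not_memLocalIdeal_apply_mul hM hB hy hcy hz hχ h0
      (h ▸ CfsgLib.Blocks.memLocalIdeal_zero hM)
  · rintro ⟨u, ⟨z, hu, hxz⟩, hne⟩
    by_contra hno
    refine hne (CfsgLib.Blocks.apply_eq_zero_of_notMem_defect hM hu fun D' hD' hz => hno ?_)
    rw [← CfsgLib.Blocks.IsPBlock.eq_blockOf hM hB hχ] at hD'
    obtain ⟨t, rfl⟩ := CfsgLib.BlockCover.defectGroup_conjugate hM hB hD hD'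
    obtain ⟨d, hd, hdz⟩ := hz
    obtain ⟨a, ha⟩ := isConj_iff.1 hxz
    refine ⟨t⁻¹ * a, ?_⟩
    have : t⁻¹ * a * x * (t⁻¹ * a)⁻¹ = d := by
      simp only [MulEquiv.coe_toMonoidHom, MulAut.conj_apply] at hdz
      calc t⁻¹ * a * x * (t⁻¹ * a)⁻¹ = t⁻¹ * (a * x * a⁻¹) * t := by group
        _ = d := by rw [ha, ← hdz]; group
    rwa [this]

end Cfsg.Agent.S0926
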