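import Cfsg.Statements.S0934
import Cfsg.Agent.Lib.BlockCover.Induced

set_option autoImplicit false
open Cfsg

namespace Cfsg.Agent.S0934

/-- Let H be a subgroup of the finite group G and fix a maximal ideal M of the algebraic integers containing the prime p. If the block b of H induces the block B of G and ξ ∈ b, then there is χ ∈ B whose restriction to H has nonzero inner product with ξ. -/
theorem result {G : Type*} [Group G] [Fintype G] (p : ℕ) [Fact p.Prime] (M : Ideal Cfsg.AlgInt) (hM : Cfsg.IsPModular p M) (H : Subgroup G) [Fintype H] (b : Set (Cfsg.IrrCharacter H)) (B : Set (Cfsg.IrrCharacter G)) (hind : Cfsg.IsInducedBlock M H b B) (ξ : Cfsg.IrrCharacter H) (hξ : ξ ∈ b) : ∃ χ ∈ B, Cfsg.classInner (fun h : H => (χ : G → ℂ) h) (ξ : H → ℂ) ≠ 0 := by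
  classical
  obtain ⟨n, h1, hn, -⟩ := (CfsgLib.BlockCover.blockPart_indFun_valuation H hM hind hξ).1
  rw [CfsgLib.BlockCover.blockPart_eq_sum] at h1
  obtain ⟨χ, hχ, hne⟩ := Finset.exists_ne_zero_of_sum_ne_zero (h1 ▸ Nat.cast_ne_zero.2 hn)
  refine ⟨χ, (Finset.mem_filter.1 hχ).2, fun h0 => hne ?_⟩
  rw [CfsgLib.Induction.classInner_indFun H _ (CfsgLib.Characters.irr_isClassFunction χ),
    CfsgLib.Characters.classInner_conj_symm, h0, map_zero, zero_mul]

end Cfsg.Agent.S0934
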