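import Cfsg.Statements.S0943
import Cfsg.Agent.Lib.Blocks.CentralChar
import Cfsg.Agent.Lib.Blocks.DefectAlgebra
import Cfsg.Agent.Lib.Blocks.BrauerMap

set_option autoImplicit false
open Cfsg

namespace Cfsg.Agent.S0943

/-- Let χ be an irreducible character of the finite group G and u, v ∈ G. If χ (x * y) = χ (u * v) whenever x is conjugate to u and y is conjugate to v, then χ u * χ v = χ 1 * χ (u * v). (Multiply the class sums of u and v and apply the central character of χ.) -/
theorem result {G : Type*} [Group G] [Finite G] (χ : Cfsg.IrrCharacter G) (u v : G) (hc : ∀ x y : G, IsConj u x → IsConj v y → (χ : G → ℂ) (x * y) = (χ : G → ℂ) (u * v)) : (χ : G → ℂ) u * (χ : G → ℂ) v = (χ : G → ℂ) 1 * (χ : G → ℂ) (u * v) := by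
  classical
  letI := Fintype.ofFinite G
  have h0 := CfsgLib.Characters.irr_one_ne_zero χ
  have hcl := CfsgLib.Characters.irr_isClassFunction χ
  have key : ∀ g : G, ∑ x : G, (if IsConj g x then (χ : G → ℂ) x else 0) =
      (∑ x : G, if IsConj g x then (1 : ℂ) else 0) * (χ : G → ℂ) g := by
    intro g
    rw [Finset.sum_mul]
    refine Finset.sum_congr rfl fun x _ => ?_
    split_ifs with h
    · obtain ⟨c, rfl⟩ := isConj_iff.1 h
      rw [one_mul, hcl g c]
    · rw [zero_mul]
  have hom : ∀ g : G, CfsgLib.Blocks.omega (χ : G → ℂ) (CfsgLib.Blocks.classSum ℂ g) =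
      (∑ x : G, if IsConj g x then (1 : ℂ) else 0) * (χ : G → ℂ) g / (χ : G → ℂ) 1 := by
    intro g
    rw [CfsgLib.Blocks.omega_apply, ← key g]
    congr 1
    refine Finset.sum_congr rfl fun x _ => ?_
    rw [CfsgLib.Blocks.coeff_classSum]
    split_ifs <;> simp
  have hm := CfsgLib.Blocks.omega_mul χ (CfsgLib.Blocks.classSum_mem_center u)
    (CfsgLib.Blocks.classSum ℂ v)
  rw [hom u, hom v] at hm
  set a := ∑ x : G, if IsConj u x then (1 : ℂ) else 0 with ha
  set b := ∑ x : G, if IsConj v x then (1 : ℂ) else 0 with hb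
  have hprod : CfsgLib.Blocks.omega (χ : G → ℂ) (CfsgLib.Blocks.classSum ℂ u *
      CfsgLib.Blocks.classSum ℂ v) = a * b * (χ : G → ℂ) (u * v) / (χ : G → ℂ) 1 := by
    rw [CfsgLib.Blocks.omega_apply]
    congr 1
    simp only [CfsgLib.BlockAlg.coeff_mul_sum, Finset.sum_mul]
    rw [Finset.sum_comm, ha, Finset.sum_mul, Finset.sum_mul]
    refine Finset.sum_congr rfl fun x _ => ?_
    rw [hb, Finset.mul_sum, Finset.sum_mul]
    refine (Fintype.sum_equiv (Equiv.mulLeft x) _ _ fun y => ?_).symm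
    simp only [Equiv.coe_mulLeft, CfsgLib.Blocks.coeff_classSum, inv_mul_cancel_left]
    by_cases h1 : IsConj u x <;> by_cases h2 : IsConj v y
    · rw [if_pos h1, if_pos h2, hc x y h1 h2]
    · rw [if_neg h2]; ring
    · rw [if_neg h1]; ring
    · rw [if_neg h1]; ring
  rw [hprod] at hm
  have hne : ∀ g : G, (∑ x : G, if IsConj g x then (1 : ℂ) else 0) ≠ 0 := by
    intro g
    rw [Finset.sum_boole, Nat.cast_ne_zero, Finset.card_ne_zero]
    exact ⟨g, by simpa using IsConj.refl g⟩
  have ha0 : a ≠ 0 := hne u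
  have hb0 : b ≠ 0 := hne v
  field_simp at hm
  linear_combination -hm

end Cfsg.Agent.S0943
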