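import Cfsg.Statements.S0944
import Cfsg.Agent.Lib.Characters.Values

set_option autoImplicit false
open Cfsg

namespace Cfsg.Agent.S0944

/-- Let χ be an irreducible character of the finite group G and u an involution. Then χ u is a rational integer n with n ≡ χ 1 (mod 2). -/
theorem result {G : Type*} [Group G] [Finite G] (χ : Cfsg.IrrCharacter G) (u : G) (hu : orderOf u = 2) : ∃ n : ℤ, (χ : G → ℂ) u = (n : ℂ) ∧ (2 : ℤ) ∣ (Cfsg.charDegree (χ : G → ℂ) : ℤ) - n := by
  classical
  obtain ⟨χ, n, ρ, hirr, rfl⟩ := χ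
  obtain ⟨ω, h1, -, h3⟩ := CfsgLib.Characters.exists_eigenvalues ρ u
  rw [hu] at h1
  let a : Fin (Module.finrank ℂ (Fin n → ℂ)) → ℤ := fun i => if ω i = 1 then 1 else -1
  have ha : ∀ i, ω i = (a i : ℂ) := by
    intro i
    rcases sq_eq_one_iff.1 (h1 i) with h | h
    · simp [a, h]
    · simp only [a]
      split_ifs with h'
      · rw [h']; norm_num
      · rw [h]; norm_num
  refine ⟨∑ i, a i, ?_, ?_⟩
  · show ρ.character u = _
    rw [h3, Int.cast_sum]
    exact Finset.sum_congr rfl fun i _ => ha i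
  · have hd : charDegree ρ.character = Module.finrank ℂ (Fin n → ℂ) := by
      rw [charDegree, Representation.char_one, Complex.natCast_re, Nat.floor_natCast]
    show (2 : ℤ) ∣ (charDegree ρ.character : ℤ) - _
    rw [hd]
    have hsum : ((Module.finrank ℂ (Fin n → ℂ) : ℕ) : ℤ) - ∑ i, a i = ∑ i, (1 - a i) := by
      rw [Finset.sum_sub_distrib]; simp
    rw [hsum]
    refine Finset.dvd_sum fun i _ => ?_
    simp only [a]
    split_ifs <;> norm_num

end Cfsg.Agent.S0944
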