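import Cfsg.Statements.S0951
import Cfsg.Agent.Lib.Involutions.BrauerSuzuki
import Cfsg.Agent.Lib.Involutions.QuatEight
import Cfsg.Agent.Lib.OddChar.Signed
import Cfsg.Agent.Lib.Characters.Clifford

set_option autoImplicit false
open Cfsg
open scoped ComplexConjugate

namespace Cfsg.Agent.S0951

open CfsgLib.Involutions CfsgLib.Characters

theorem q8_facts : (∀ a b : QuaternionGroup 2, a * a = 1 → b * b = 1 → a ≠ 1 → b ≠ 1 → a = b) ∧
    ¬ (∀ a b : QuaternionGroup 2, a * b = b * a) := by decide +kernel

universe u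

variable {C K : Type u} [Group C] [Group K] [Fintype C] [Fintype K]

/-- The lift of `1 + q` that changes sign under the involution. -/
noncomputable def faith (X : QuatSetup C K) (q : K → ℂ) : C → ℂ := fun g =>
  if 4 ∣ orderOf g then 0 else if 2 ∣ orderOf g then -(1 + q (X.π g)) else 1 + q (X.π g)

theorem mem_iff_pullback (X : QuatSetup C K) {M : Ideal AlgInt} (hM : IsPModular 2 M) {k : IrrCharacter K}
    (hk : k ∈ principalBlock M K) {ξ : IrrCharacter C}
    (hξ : ∀ g, (ξ : C → ℂ) g = (k : K → ℂ) (X.π g)) : ξ ∈ principalBlock M C := by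
  classical
  by_contra hne
  refine CfsgLib.Blocks.omega_regSum_not_mem hM hk ?_
  have h0 := CfsgLib.Blocks.omega_regSum_eq_zero hM hne
  rw [CfsgLib.Blocks.omega_regSum, Finset.sum_filter] at h0 ⊢
  rw [X.sum_eq _ (fun x => if ¬ 2 ∣ orderOf x then (k : K → ℂ) x else 0) ?_, hξ 1, map_one] at h0
  · rw [h0]; exact CfsgLib.Blocks.memLocalIdeal_zero hM
  intro g
  have hodd : ∀ x : C, Odd (orderOf x) ↔ ¬ 2 ∣ orderOf x := fun x => by
    rw [← Nat.not_even_iff_odd, even_iff_two_dvd]
  simp only [hξ, X.map_z_mul]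
  by_cases h4 : 4 ∣ orderOf g
  · have h4' : 4 ∣ orderOf (X.z * g) := by
      rw [← X.two_dvd_map, X.map_z_mul, X.two_dvd_map]; exact h4
    rw [if_neg (not_not.mpr ((by norm_num : 2 ∣ 4).trans h4)),
      if_neg (not_not.mpr ((by norm_num : 2 ∣ 4).trans h4')),
      if_neg (not_not.mpr (X.two_dvd_map.mpr h4)), add_zero]
  · have hp : ¬ 2 ∣ orderOf (X.π g) := fun h => h4 (X.two_dvd_map.mp h)
    rw [if_pos hp]
    by_cases h2 : 2 ∣ orderOf g
    · rw [if_neg (not_not.mpr h2), if_pos ((hodd _).mp (X.odd_z_mul_of_two h2 h4)), zero_add]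
    · rw [if_pos h2, if_neg (not_not.mpr (X.z_mul_of_odd ((hodd g).mpr h2)).1), add_zero]

theorem card_block (X : QuatSetup C K) {M : Ideal AlgInt} (hM : IsPModular 2 M) (D : KleinFamily M K) :
    Nat.card (principalBlock M C) = 7 := by
  classical
  have hK0 : (Nat.card K : ℂ) ≠ 0 := Nat.cast_ne_zero.mpr Nat.card_pos.ne'
  have hC : (Nat.card C : ℂ) = 2 * Nat.card K := by exact_mod_cast X.card_eq
  have hC0 : (Nat.card C : ℂ) ≠ 0 := Nat.cast_ne_zero.mpr Nat.card_pos.ne'
  have hinner : ∀ (f g : C → ℂ) (h : K → ℂ), (∀ x, f x * conj (g x) + f (X.z * x) * conj (g (X.z * x)) = h (X.π x)) →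
      classInner f g = (2 * (Nat.card K : ℂ))⁻¹ * ∑ k, h k := by
    intro f g h hh
    rw [classInner, hC, X.sum_eq (fun x => f x * conj (g x)) h hh]
  have heven : ((Finset.univ.filter fun k : K => 2 ∣ orderOf k).card : ℂ) = Nat.card K / 4 := by
    linear_combination QuatSetup.card_even_cast D / 4
  have hcases : ∀ g : C, (4 ∣ orderOf g ∧ 2 ∣ orderOf g ∧ 4 ∣ orderOf (X.z * g) ∧ 2 ∣ orderOf (X.z * g) ∧ 2 ∣ orderOf (X.π g)) ∨
      (¬ 4 ∣ orderOf g ∧ 2 ∣ orderOf g ∧ ¬ 4 ∣ orderOf (X.z * g) ∧ ¬ 2 ∣ orderOf (X.z * g) ∧ ¬ 2 ∣ orderOf (X.π g)) ∨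
      (¬ 4 ∣ orderOf g ∧ ¬ 2 ∣ orderOf g ∧ ¬ 4 ∣ orderOf (X.z * g) ∧ 2 ∣ orderOf (X.z * g) ∧ ¬ 2 ∣ orderOf (X.π g)) := by
    intro g
    by_cases h4 : 4 ∣ orderOf g
    · have h4' : 4 ∣ orderOf (X.z * g) := by rw [← X.two_dvd_map, X.map_z_mul, X.two_dvd_map]; exact h4
      exact Or.inl ⟨h4, (by norm_num : 2 ∣ 4).trans h4, h4', (by norm_num : 2 ∣ 4).trans h4', X.two_dvd_map.mpr h4⟩
    · have hp : ¬ 2 ∣ orderOf (X.π g) := fun h => h4 (X.two_dvd_map.mp h)
      have h4' : ¬ 4 ∣ orderOf (X.z * g) := by rw [← X.two_dvd_map, X.map_z_mul]; exact hp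
      by_cases h2 : 2 ∣ orderOf g
      · exact Or.inr (Or.inl ⟨h4, h2, h4', fun h => Nat.not_even_iff_odd.mpr (X.odd_z_mul_of_two h2 h4) (even_iff_two_dvd.mpr h), hp⟩)
      · exact Or.inr (Or.inr ⟨h4, h2, h4', (X.z_mul_of_odd (Nat.not_even_iff_odd.mp fun h => h2 h.two_dvd)).1, hp⟩)
  let I : Fin 4 → C → ℂ := fun i g => D.q i (X.π g)
  let F : Fin 3 → C → ℂ := fun j => faith X (D.q j.succ)
  let Φ : Fin 4 ⊕ Fin 3 → C → ℂ := Sum.elim I F
  have hFz : ∀ (j : Fin 3) g, F j (X.z * g) = - F j g := by
    intro j g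
    rcases hcases g with ⟨a, b, c, d, e⟩ | ⟨a, b, c, d, e⟩ | ⟨a, b, c, d, e⟩ <;>
      simp [F, faith, a, b, c, d, X.map_z_mul, add_comm]
  have hIz : ∀ i g, I i (X.z * g) = I i g := fun i g => by simp only [I, X.map_z_mul]
  have horth : ∀ r s, classInner (Φ r) (Φ s) = if r = s then 1 else 0 := by
    rintro (i | i) (j | j)
    · show classInner (I i) (I j) = _
      rw [hinner _ _ (fun k => 2 * (D.q i k * conj (D.q j k))) (fun x => by rw [hIz, hIz]; simp only [I]; ring),
        ← Finset.mul_sum]
      have h := D.q_inner i j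
      rw [classInner] at h
      rw [show (2 * (Nat.card K : ℂ))⁻¹ * (2 * ∑ k, D.q i k * conj (D.q j k)) =
        (Nat.card K : ℂ)⁻¹ * ∑ k, D.q i k * conj (D.q j k) by field_simp, h]
      by_cases hij : i = j <;> simp [hij]
    · show classInner (I i) (F j) = _
      rw [hinner _ _ (fun _ => 0) (fun x => by rw [hIz, hFz, map_neg]; ring)]
      simp
    · show classInner (F i) (I j) = _
      rw [hinner _ _ (fun _ => 0) (fun x => by rw [hIz, hFz]; ring)]
      simp
    · show classInner (F i) (F j) = _
      rw [hinner _ _ (fun k => if 2 ∣ orderOf k then 0 else 2 * ((1 + D.q i.succ k) * conj (1 + D.q j.succ k))) (fun x => by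
        rw [hFz, hFz, map_neg, neg_mul_neg, ← two_mul]
        rcases hcases x with ⟨a, b, c, d, e⟩ | ⟨a, b, c, d, e⟩ | ⟨a, b, c, d, e⟩ <;> simp [F, faith, a, b, e, mul_assoc] <;> ring)]
      have e1 : ∑ k : K, (if 2 ∣ orderOf k then 0 else 2 * ((1 + D.q i.succ k) * conj (1 + D.q j.succ k))) =
          2 * (∑ k : K, (1 + D.q i.succ k) * conj (1 + D.q j.succ k)) -
            8 * ((Finset.univ.filter fun k : K => 2 ∣ orderOf k).card : ℂ) := by
        rw [Finset.cast_card, Finset.mul_sum, Finset.mul_sum, Finset.sum_filter, ← Finset.sum_sub_distrib]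
        refine Finset.sum_congr rfl fun k _ => ?_
        by_cases hk : 2 ∣ orderOf k
        · simp [hk, D.q_even _ k hk]; norm_num
        · simp [hk]
      have e2 : ∑ k : K, (1 + D.q i.succ k) * conj (1 + D.q j.succ k) =
          (Nat.card K : ℂ) * (1 + if i = j then 1 else 0) := by
        have h : ∀ a b, ∑ k, D.q a k * conj (D.q b k) = (Nat.card K : ℂ) * (if a = b then 1 else 0) := fun a b => by
          have h := D.q_inner a b
          rwa [classInner, inv_mul_eq_iff_eq_mul₀ hK0] at h
        have h00 := h 0 0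
        have h0j := h 0 j.succ
        have hi0 := h i.succ 0
        have hij := h i.succ j.succ
        simp only [D.q_zero, map_one, one_mul, mul_one, Fin.succ_ne_zero, (Fin.succ_ne_zero _).symm,
          if_false, if_true, mul_zero, Fin.succ_inj] at h00 h0j hi0 hij
        simp only [map_add, map_one, add_mul, mul_add, one_mul, mul_one, Finset.sum_add_distrib, h00, h0j, hi0, hij]
        ring
      rw [e1, e2, heven]
      by_cases hij : i = j <;> simp [hij] <;> field_simp <;> ring
  have hsigned : ∀ r, CfsgLib.OddChar.IsSigned (Φ r) := by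
    intro r
    refine CfsgLib.OddChar.isSigned_of_norm_one ?_ (by rw [horth, if_pos rfl])
    rcases r with i | j
    · exact isGeneralizedCharacter_pullback (D.q_gen i) X.π
    · exact X.isGeneralizedCharacter_F (D.q_gen _) (D.q_even _)
  choose ξ ε hε hξ using fun r => (hsigned r).exists_irr
  have hεne : ∀ r, ε r ≠ 0 := fun r => by rcases hε r with h | h <;> simp [h]
  have hinj : Function.Injective ξ := by
    intro r s hrs
    by_contra hne
    have h := horth r s
    rw [if_neg hne, hξ r, hξ s, hrs, classInner_smul_left, classInner_smul_right, classInner_irr_self (ξ s).2] at h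
    simp only [mul_eq_zero, map_eq_zero, hεne, one_ne_zero, or_self] at h
  have hmem : ∀ r, ξ r ∈ principalBlock M C := by
    rintro (i | j)
    · obtain ⟨k, δ, hδ, hk⟩ := (CfsgLib.OddChar.isSigned_of_norm_one (D.q_gen i)
        (by rw [D.q_inner, if_pos rfl])).exists_irr
      have hδ0 : δ ≠ 0 := by rcases hδ with h | h <;> simp [h]
      have hkB : k ∈ principalBlock M K := by
        by_contra h
        have h' := D.q_out i k h
        rw [hk, classInner_smul_left, classInner_irr_self k.2, mul_one] at h'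
        exact hδ0 h'
      let η : IrrCharacter C := ⟨fun g => (k : K → ℂ) (X.π g), CfsgLib.Clifford.isIrrCharacter_pullback k.2 X.π X.surj⟩
      have hη : η ∈ principalBlock M C := mem_iff_pullback X hM hkB fun g => rfl
      have heq : ξ (Sum.inl i) = η := by
        by_contra hne
        have h2 : Φ (Sum.inl i) = δ • (η : C → ℂ) := funext fun g => congrFun hk (X.π g)
        have h3 := classInner_irr_ne (ξ (Sum.inl i)).2 η.2 (fun h => hne (Subtype.ext h))
        have h4 := horth (Sum.inl i) (Sum.inl i)
        rw [if_pos rfl] at h4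
        conv_lhs at h4 => arg 1; rw [hξ]
        rw [h2, classInner_smul_left, classInner_smul_right, h3, mul_zero, mul_zero] at h4
        exact zero_ne_one h4
      exact heq ▸ hη
    · by_contra hne
      have h := CfsgLib.Blocks.sum_regular_eq_zero_of_not_sameBlock hM (χ := ξ (Sum.inr j)) (ψ := principalIrr C)
        (fun h => hne (CfsgLib.Blocks.SameBlock.symm hM h))
      simp only [principalIrr_apply, map_one, mul_one, Finset.sum_filter] at h
      have h' : ∑ x : C, (if ¬ 2 ∣ orderOf x then F j x else 0) = 0 := by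
        have e : ∀ x : C, F j x = ε (Sum.inr j) * (ξ (Sum.inr j) : C → ℂ) x := fun x =>
          congrFun (hξ (Sum.inr j)) x
        simp only [e, ← mul_ite_zero, ← Finset.mul_sum, h, mul_zero]
      rw [X.sum_eq _ (fun k => if 2 ∣ orderOf k then 0 else 1 + D.q j.succ k) (fun x => by
        rw [hFz]
        rcases hcases x with ⟨a, b, c, d, e⟩ | ⟨a, b, c, d, e⟩ | ⟨a, b, c, d, e⟩ <;> simp [F, faith, a, b, d, e])] at h'
      have e1 : ∑ k : K, (if 2 ∣ orderOf k then 0 else 1 + D.q j.succ k) =
          (∑ k : K, (1 + D.q j.succ k)) - 2 * ((Finset.univ.filter fun k : K => 2 ∣ orderOf k).card : ℂ) := by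
        rw [Finset.cast_card, Finset.mul_sum, Finset.sum_filter, ← Finset.sum_sub_distrib]
        refine Finset.sum_congr rfl fun k _ => ?_
        by_cases hk : 2 ∣ orderOf k
        · simp [hk, D.q_even _ k hk]; norm_num
        · simp [hk]
      rw [e1, Finset.sum_add_distrib, QuatSetup.sum_q D, if_neg (Fin.succ_ne_zero j), heven] at h'
      simp only [Finset.sum_const, Finset.card_univ, nsmul_eq_mul, mul_one, ← Nat.card_eq_fintype_card] at h'
      exact hK0 (by linear_combination 2 * h')
  have hsurj : ∀ χ : IrrCharacter C, χ ∈ principalBlock M C → ∃ r, ξ r = χ := by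
    intro χ hχ
    by_contra hne
    push Not at hne
    have hzero : ∀ r, classInner (χ : C → ℂ) (Φ r) = 0 := fun r => by
      rw [hξ, classInner_smul_right, classInner_irr_ne χ.2 (ξ r).2 (fun h => hne r (Subtype.ext h.symm)), mul_zero]
    have hout : ∀ k : IrrCharacter K, k ∉ principalBlock M K → ∃ η : IrrCharacter C,
        η ∉ principalBlock M C ∧ ∀ g, (η : C → ℂ) g = (k : K → ℂ) (X.π g) := fun k hk =>
      ⟨⟨fun g => (k : K → ℂ) (X.π g), CfsgLib.Clifford.isIrrCharacter_pullback k.2 X.π X.surj⟩,
        X.pullback_not_mem hM hk fun g => rfl, fun g => rfl⟩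
    have hzc : X.z ∈ Subgroup.center C := Subgroup.mem_center_iff.mpr fun g => (X.z_central g).symm
    obtain ⟨e, he, hχz⟩ := irr_central_involution_sign χ hzc X.z_mul_self
    have hclass := irr_isClassFunction χ
    let w : C → ℂ := fun g => if he' : e = 1 then (χ : C → ℂ) g / 2 else if 2 ∣ orderOf g then 0 else (χ : C → ℂ) g
    let f : K → ℂ := fun k => ∑ g ∈ Finset.univ.filter (fun g => X.π g = k), w g
    have hpair : ∀ h : K → ℂ, ∑ k, f k * h k = ∑ g, w g * h (X.π g) := by
      intro h
      rw [← Finset.sum_fiberwise_of_maps_to (t := Finset.univ) (g := X.π) (fun g _ => Finset.mem_univ _)]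
      refine Finset.sum_congr rfl fun k _ => ?_
      rw [Finset.sum_mul]
      exact Finset.sum_congr rfl fun g hg => by rw [(Finset.mem_filter.mp hg).2]
    have hfc : IsClassFunction K f := fun k h => by
      obtain ⟨c, rfl⟩ := X.surj h
      refine Finset.sum_equiv (MulAut.conj c⁻¹).toEquiv (fun g => ?_) fun g _ => ?_
      · simp only [Finset.mem_filter, Finset.mem_univ, true_and, MulEquiv.toEquiv_eq_coe,
          EquivLike.coe_coe, MulAut.conj_apply]
        rw [map_mul, map_mul, inv_inv, map_inv]
        exact ⟨fun e => by rw [e]; group, fun e => by rw [← e]; group⟩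
      · simp only [w, MulEquiv.toEquiv_eq_coe, EquivLike.coe_coe, MulAut.conj_apply, orderOf_conj_eq,
          hclass g c⁻¹]
    have hf0 : f = 0 := by
      rcases he with rfl | rfl
      · refine eq_zero_of_forall_classInner_eq_zero hfc fun k => ?_
        have hwk : classInner f (k : K → ℂ) = classInner (χ : C → ℂ) (fun g => (k : K → ℂ) (X.π g)) := by
          rw [classInner, hpair (fun x => conj ((k : K → ℂ) x)), classInner, hC]
          simp only [w, dif_pos]
          rw [mul_inv, mul_comm (2 : ℂ)⁻¹, mul_assoc]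
          congr 1
          rw [Finset.mul_sum]
          exact Finset.sum_congr rfl fun g _ => by ring
        by_cases hk : k ∈ principalBlock M K
        · obtain ⟨i, δ, hδ, hki⟩ := D.block k hk
          rw [hwk, show (fun g => (k : K → ℂ) (X.π g)) = δ • Φ (Sum.inl i) from funext fun g => congrFun hki _,
            classInner_smul_right, hzero, mul_zero]
        · obtain ⟨η, hη, hηk⟩ := hout k hk
          rw [hwk, ← show (η : C → ℂ) = fun g => (k : K → ℂ) (X.π g) from funext hηk]
          exact classInner_irr_ne χ.2 η.2 (fun h => hη (Subtype.ext h ▸ hχ))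
      · have hw : ∀ g, w g = if 2 ∣ orderOf g then 0 else (χ : C → ℂ) g := fun g => by simp [w]
        have hfev : ∀ k : K, 2 ∣ orderOf k → f k = 0 := fun k hk => Finset.sum_eq_zero fun g hg => by
          rw [hw, if_pos ((by norm_num : 2 ∣ 4).trans (X.two_dvd_map.mp ((Finset.mem_filter.mp hg).2 ▸ hk)))]
        have hadd : ∀ j : Fin 3, classInner f (D.q 0) + classInner f (D.q j.succ) = 0 := by
          intro j
          have h : classInner (χ : C → ℂ) (F j) = 0 := hzero (Sum.inr j)
          rw [classInner, mul_eq_zero, inv_eq_zero] at h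
          have h := h.resolve_left hC0
          have e2 : ∑ g : C, (χ : C → ℂ) g * conj (F j g) = 2 * ∑ g : C, w g * conj (1 + D.q j.succ (X.π g)) := by
            have e3 : ∀ g, (χ : C → ℂ) g * conj (F j g) =
                w g * conj (1 + D.q j.succ (X.π g)) + w (X.z * g) * conj (1 + D.q j.succ (X.π (X.z * g))) := by
              intro g
              simp only [hw, X.map_z_mul, hχz g]
              rcases hcases g with ⟨a, b, c, d, e⟩ | ⟨a, b, c, d, e⟩ | ⟨a, b, c, d, e⟩ <;>
                simp [F, faith, a, b, d] <;> ring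
            simp only [e3, Finset.sum_add_distrib]
            have e4 := Equiv.sum_comp (Equiv.mulLeft X.z) (fun g => w g * conj (1 + D.q j.succ (X.π g)))
            simp only [Equiv.coe_mulLeft] at e4
            rw [e4, two_mul]
          rw [e2, mul_eq_zero] at h
          have h := h.resolve_left two_ne_zero
          rw [classInner, classInner, ← mul_add, ← Finset.sum_add_distrib]
          refine mul_eq_zero_of_right _ ?_
          rw [← h, ← hpair (fun k => conj (1 + D.q j.succ k))]
          exact Finset.sum_congr rfl fun k _ => by rw [D.q_zero, map_add, map_one]; ring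
        have hsum : ∑ i, classInner f (D.q i) = 0 := by
          simp only [classInner, ← Finset.mul_sum]
          rw [Finset.sum_comm, Finset.sum_eq_zero, mul_zero]
          intro k _
          by_cases hk : 2 ∣ orderOf k
          · simp [hfev k hk]
          · rw [← Finset.mul_sum, ← map_sum, D.q_sum k (Nat.not_even_iff_odd.mp fun h => hk h.two_dvd), map_zero, mul_zero]
        rw [Fin.sum_univ_succ, Fin.sum_univ_three] at hsum
        have h00 : classInner f (D.q 0) = 0 := by
          linear_combination (hadd 0 + hadd 1 + hadd 2 - hsum) / 2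
        refine D.eq_zero hfc hfev (fun i => ?_) fun k hk => ?_
        · rcases Fin.eq_zero_or_eq_succ i with rfl | ⟨j, rfl⟩
          · exact h00
          · linear_combination hadd j - h00
        · obtain ⟨η, hη, hηk⟩ := hout k hk
          rw [classInner, hpair (fun x => conj ((k : K → ℂ) x))]
          refine mul_eq_zero_of_right _ ?_
          rw [← CfsgLib.Blocks.sum_regular_eq_zero_of_not_sameBlock hM (χ := χ) (ψ := η) (fun h => hη
            ((CfsgLib.Blocks.IsPBlock.mem_iff hM (CfsgLib.Blocks.isPBlock_principalBlock M) hχ η).2 h)),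
            Finset.sum_filter]
          exact Finset.sum_congr rfl fun g _ => by rw [hw, hηk]; split_ifs <;> simp
    have h1 := congrFun hf0 1
    have hfib : Finset.univ.filter (fun g => X.π g = 1) = {1, X.z} := by
      ext g
      simp only [Finset.mem_filter, Finset.mem_univ, true_and, Finset.mem_insert, Finset.mem_singleton]
      exact ⟨X.map_eq_one, by rintro (rfl | rfl) <;> simp [X.map_z]⟩
    simp only [f, hfib, Pi.zero_apply, Finset.sum_pair (ne_one_of_involution X.z_order).symm] at h1
    have hz1 : (χ : C → ℂ) X.z = (e : ℂ) * (χ : C → ℂ) 1 := by simpa using hχz 1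
    apply irr_one_ne_zero χ
    rcases he with rfl | rfl
    · simp only [w, dif_pos, hz1, Int.cast_one, one_mul] at h1
      linear_combination h1
    · simpa [w, X.z_order] using h1
  rw [show (7 : ℕ) = Nat.card (Fin 4 ⊕ Fin 3) by simp]
  refine (Nat.card_eq_of_bijective (fun r => (⟨ξ r, hmem r⟩ : principalBlock M C)) ⟨fun r s h =>
    hinj (congrArg Subtype.val h), fun χ => ?_⟩).symm
  obtain ⟨r, hr⟩ := hsurj χ.1 χ.2
  exact ⟨r, Subtype.ext hr⟩

/-- Let S be a Sylow 2-subgroup of the finite group G isomorphic to the quaternion group of order 8. Suppose G has no nontrivial normal subgroup of odd order and G ≠ S. Then, relative to any maximal ideal M of the algebraic integers containing 2, the principal block of G consists of exactly 7 irreducible characters. -/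
theorem result {G : Type*} [Group G] [Finite G] (M : Ideal Cfsg.AlgInt) (hM : Cfsg.IsPModular 2 M) (S : Sylow 2 G) (e : (S : Subgroup G) ≃* QuaternionGroup 2) (hO : ∀ N : Subgroup G, N.Normal → Odd (Nat.card N) → N = ⊥) (hG : (S : Subgroup G) ≠ ⊤) : Nat.card (Cfsg.principalBlock M G) = 7 := by
  classical
  letI := Fintype.ofFinite G
  have h8 : Nat.card (S : Subgroup G) = 8 := by
    rw [Nat.card_congr e.toEquiv, Nat.card_eq_fintype_card, QuaternionGroup.card]
  have hcyc : ¬ IsCyclic (S : Subgroup G) := fun h => by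
    obtain ⟨g, hg⟩ := h.exists_generator
    refine q8_facts.2 fun a b => e.symm.injective ?_
    obtain ⟨i, hi⟩ := hg (e.symm a)
    obtain ⟨j, hj⟩ := hg (e.symm b)
    rw [map_mul, map_mul, ← hi, ← hj]
    exact ((Commute.refl g).zpow_zpow i j).eq
  have huniq := rank_one_of_sylow S fun a b ha hb => e.injective
    (q8_facts.1 _ _ (by rw [← map_mul, mul_self_eq_one ha, map_one]) (by rw [← map_mul, mul_self_eq_one hb, map_one])
      (fun h => ne_one_of_involution ha (e.map_eq_one_iff.mp h))
      (fun h => ne_one_of_involution hb (e.map_eq_one_iff.mp h)))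
  have hO' : pPrimeCore 2 G = ⊥ := hO _ inferInstance (by
    rw [← Nat.not_even_iff_odd, even_iff_two_dvd]; exact CfsgLib.PCore.not_dvd_card_pPrimeCore)
  obtain ⟨u, hu⟩ := exists_prime_orderOf_dvd_card' (G := G) 2
    ((by rw [h8]; norm_num : 2 ∣ Nat.card (S : Subgroup G)).trans (Subgroup.card_subgroup_dvd_card _))
  have huc : ∀ g : G, g * u * g⁻¹ * u⁻¹ = 1 := fun g => by
    have := inZStar_of_rank_one huniq hu g
    rwa [hO', Subgroup.mem_bot] at this
  have hcen := mem_center_of_commutators hu huc
  have hzu : ∀ t : G, orderOf t = 2 → t = u := fun t ht =>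
    huniq t u ht hu (Subgroup.mem_center_iff.mp hcen t)
  haveI : (Subgroup.zpowers u).Normal := ⟨fun x hx g => by
    rw [Subgroup.mem_center_iff.mp (Subgroup.zpowers_le.mpr hcen hx) g, mul_inv_cancel_right]; exact hx⟩
  letI : Fintype (G ⧸ Subgroup.zpowers u) := Fintype.ofFinite _
  let X : QuatSetup G (G ⧸ Subgroup.zpowers u) :=
    { S := S
      z := u
      π := QuotientGroup.mk' _
      card_S := h8
      not_cyclic := hcyc
      z_order := hu
      z_unique := hzu
      surj := QuotientGroup.mk'_surjective _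
      ker_eq := QuotientGroup.ker_mk' _ }
  rcases X.dichotomy principalConstant hM with h | ⟨⟨D⟩⟩
  · exfalso
    obtain ⟨P, N, hN, hc⟩ := CfsgLib.Transfer.hasNormalPComplement_of_frobeniusCond (X.frobeniusCond h)
    have hNb : N = ⊥ := hO N hN (by
      rw [← Nat.not_even_iff_odd, even_iff_two_dvd, ← hc.index_eq_card]
      exact P.not_dvd_index)
    apply hG
    refine Subgroup.eq_top_of_card_eq _ ?_
    have hP := hc.card_mul
    rw [hNb, Subgroup.card_bot, one_mul] at hP
    rw [← hP, P.card_eq_multiplicity, S.card_eq_multiplicity]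
  · exact card_block X hM D

end Cfsg.Agent.S0951
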