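import Cfsg.Statements.S0953
import Cfsg.Agent.Lib.BlockCover.DefectRank
-- import your own Cfsg.Agent.* helpers here

set_option autoImplicit false
open Cfsg

namespace Cfsg.Agent.S0953

/-- Let P be a Sylow p-subgroup of the finite group G with normalizer N, and fix a maximal ideal M of the algebraic integers containing p. The number of blocks of G having P as a defect group equals the number of conjugacy classes of N consisting of elements of order prime to p that centralize P. -/
theorem result {G : Type*} [Group G] [Finite G] (p : ℕ) [Fact p.Prime] (M : Ideal Cfsg.AlgInt) (hM : Cfsg.IsPModular p M) (P : Sylow p G) : Nat.card {B : Set (Cfsg.IrrCharacter G) // Cfsg.IsPBlock M B ∧ Cfsg.IsDefectGroup p M B (P : Subgroup G)} = Nat.card {C : ConjClasses (Subgroup.normalizer ((P : Subgroup G) : Set G)) // ∀ n : Subgroup.normalizer ((P : Subgroup G) : Set G), ConjClasses.mk n = C → ¬ p ∣ orderOf n ∧ (n : G) ∈ Subgroup.centralizer ((P : Subgroup G) : Set G)} := by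
  classical
  letI := Fintype.ofFinite G
  set N := Subgroup.normalizer ((P : Subgroup G) : Set G) with hN
  let ι := {C : ConjClasses N // ∀ n : N, ConjClasses.mk n = C →
    ¬ p ∣ orderOf n ∧ (n : G) ∈ Subgroup.centralizer ((P : Subgroup G) : Set G)}
  letI : Fintype ι := Fintype.ofFinite _
  let x : ι → G := fun C => (C.1.out : G)
  have hx : ∀ C : ι, ¬ p ∣ orderOf (x C) ∧ x C ∈ Subgroup.centralizer ((P : Subgroup G) : Set G) := by
    intro C
    obtain ⟨h1, h2⟩ := C.2 C.1.out (Quotient.out_eq _)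
    exact ⟨by rwa [Subgroup.orderOf_coe], h2⟩
  have hPC : ∀ C : ι, (P : Subgroup G) ≤ Subgroup.centralizer ({x C} : Set G) := fun C q hq =>
    Subgroup.mem_centralizer_singleton_iff.2 ((hx C).2 q hq)
  have hfus : ∀ y z : G, y ∈ Subgroup.centralizer ((P : Subgroup G) : Set G) →
      z ∈ Subgroup.centralizer ((P : Subgroup G) : Set G) → IsConj y z →
      ∃ n ∈ N, n * y * n⁻¹ = z := by
    intro y z hy hz h
    obtain ⟨g, rfl⟩ := isConj_iff.1 h
    obtain ⟨n, hn, hn'⟩ := P.conj_eq_normalizer_conj_of_mem_centralizer y g⁻¹ hy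
      (by simpa using hz)
    exact ⟨n⁻¹, N.inv_mem hn, by simpa using hn'.symm⟩
  have hinj : ∀ C D : ι, IsConj (x C) (x D) → C = D := by
    intro C D h
    obtain ⟨n, hn, hcn⟩ := hfus _ _ (hx C).2 (hx D).2 h
    apply Subtype.ext
    rw [← Quotient.out_eq C.1, ← Quotient.out_eq D.1]
    exact ConjClasses.mk_eq_mk_iff_isConj.2 (isConj_iff.2 ⟨⟨n, hn⟩, Subtype.ext hcn⟩)
  rw [CfsgLib.BlockCover.rank_pairCount hM (P : Subgroup G) P x hinj (fun C => (hx C).1)
    (fun C => ⟨P.subtype (hPC C), ?_⟩) (fun g hg hQ => ?_)]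
  rotate_left
  · rw [Sylow.coe_subtype]
    exact Subgroup.map_subgroupOf_eq_of_le (hPC C)
  · obtain ⟨Q, hQ⟩ := hQ
    have hgP : g ∈ Subgroup.centralizer ((P : Subgroup G) : Set G) := fun q hq => by
      have hq' : q ∈ Subgroup.centralizer ({g} : Set G) :=
        Subgroup.map_subtype_le _ (hQ.symm ▸ (hq : q ∈ (P : Subgroup G)))
      exact Subgroup.mem_centralizer_singleton_iff.1 hq'
    have hgN : g ∈ N := by
      rw [hN, Subgroup.mem_normalizer_iff]
      intro q
      constructor
      · intro hq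
        rwa [← hgP q hq, mul_inv_cancel_right]
      · intro hq
        have h2 := hgP _ hq
        rw [inv_mul_cancel_right] at h2
        rwa [← mul_left_cancel h2] at hq
    have hval : ∀ n : N, ConjClasses.mk n = ConjClasses.mk (⟨g, hgN⟩ : N) →
        ¬ p ∣ orderOf n ∧ (n : G) ∈ Subgroup.centralizer ((P : Subgroup G) : Set G) := by
      intro n hn
      obtain ⟨c, hc⟩ := isConj_iff.1 (ConjClasses.mk_eq_mk_iff_isConj.1 hn).symm
      subst hc
      refine ⟨?_, fun q hq => ?_⟩
      · rw [show c * (⟨g, hgN⟩ : N) * c⁻¹ = MulAut.conj c ⟨g, hgN⟩ from rfl, MulEquiv.orderOf_eq,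
          ← Subgroup.orderOf_coe]
        exact hg
      · have hc' : (c : G)⁻¹ * q * c ∈ (P : Subgroup G) :=
          (Subgroup.mem_normalizer_iff''.1 c.2 q).1 hq
        have h1 := hgP _ hc'
        simp only [Subgroup.coe_mul, Subgroup.coe_inv]
        calc q * ((c : G) * g * (c : G)⁻¹) = c * ((c : G)⁻¹ * q * c * g) * (c : G)⁻¹ := by group
          _ = c * (g * ((c : G)⁻¹ * q * c)) * (c : G)⁻¹ := by rw [h1]
          _ = (c : G) * g * (c : G)⁻¹ * q := by group
    refine ⟨⟨ConjClasses.mk ⟨g, hgN⟩, hval⟩, ?_⟩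
    exact N.subtype.map_isConj (ConjClasses.mk_eq_mk_iff_isConj.1 (Quotient.out_eq _))
  letI : MulAction (P : Subgroup G) G := MulAction.compHom G (MulAut.conj.comp (P : Subgroup G).subtype)
  have hsmul : ∀ (q : (P : Subgroup G)) (y : G), q • y = (q : G) * y * (q : G)⁻¹ := fun q y => rfl
  have hfix : ∀ (X : Set G), (∀ g h : G, h ∈ X → g * h * g⁻¹ ∈ X) →
      Nat.card X ≡ Nat.card {y : G // y ∈ X ∧
        y ∈ Subgroup.centralizer ((P : Subgroup G) : Set G)} [MOD p] := by
    intro X hX
    letI : MulAction (P : Subgroup G) X :=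
      { smul := fun q y => ⟨q • y.1, hX _ _ y.2⟩
        one_smul := fun y => Subtype.ext (one_smul (P : Subgroup G) y.1)
        mul_smul := fun a b y => Subtype.ext (mul_smul a b y.1) }
    refine (P.2.card_modEq_card_fixedPoints X).trans (congrArg (· % p) (Nat.card_congr
      { toFun := fun y => ⟨y.1.1, y.1.2, fun q hq => ?_⟩
        invFun := fun y => ⟨⟨y.1, y.2.1⟩, fun q => Subtype.ext ?_⟩
        left_inv := fun y => rfl
        right_inv := fun y => rfl }))
    · have h : q * y.1.1 * q⁻¹ = y.1.1 := congrArg Subtype.val (y.2 ⟨q, hq⟩)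
      exact mul_inv_eq_iff_eq_mul.1 h
    · show (q : G) * y.1 * (q : G)⁻¹ = y.1
      exact mul_inv_eq_iff_eq_mul.2 (y.2.2 q q.2)
  have hcount : ∀ i j : ι,
      CfsgLib.BlockCover.pairCount (P : Subgroup G) (x i) (x j) ≡
        (if i = j then (Subgroup.centralizer ({x i} : Set G)).index else 0) [MOD p] := by
    intro i j
    let T := {yz : G × G // IsConj (x i) yz.1 ∧ IsConj (x j) yz.2 ∧ yz.2 * yz.1⁻¹ ∈ (P : Subgroup G)}
    letI : MulAction (P : Subgroup G) T :=
      { smul := fun q t => ⟨(q • t.1.1, q • t.1.2),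
          (CfsgLib.Blocks.isConj_conj_iff _ _ _).2 t.2.1,
          (CfsgLib.Blocks.isConj_conj_iff _ _ _).2 t.2.2.1, by
            simp only [hsmul]
            rw [show (q : G) * t.1.2 * (q : G)⁻¹ * ((q : G) * t.1.1 * (q : G)⁻¹)⁻¹ =
              (q : G) * (t.1.2 * t.1.1⁻¹) * (q : G)⁻¹ by group]
            exact Subgroup.mul_mem _ (Subgroup.mul_mem _ q.2 t.2.2.2) (Subgroup.inv_mem _ q.2)⟩
        one_smul := fun t => Subtype.ext (Prod.ext (one_smul _ t.1.1) (one_smul _ t.1.2))
        mul_smul := fun a b t =>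
          Subtype.ext (Prod.ext (mul_smul a b t.1.1) (mul_smul a b t.1.2)) }
    have hdiag : ∀ t : MulAction.fixedPoints (P : Subgroup G) T, t.1.1.1 = t.1.1.2 ∧
        t.1.1.1 ∈ Subgroup.centralizer ((P : Subgroup G) : Set G) := by
      intro t
      have hf := fun (q : (P : Subgroup G)) => congrArg Subtype.val (t.2 q)
      have hc1 : t.1.1.1 ∈ Subgroup.centralizer ((P : Subgroup G) : Set G) := fun q hq =>
        mul_inv_eq_iff_eq_mul.1 (congrArg Prod.fst (hf ⟨q, hq⟩))
      refine ⟨?_, hc1⟩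
      set π := t.1.1.2 * t.1.1.1⁻¹ with hπ
      have hcomm : Commute π t.1.1.1 := hc1 π t.1.2.2.2
      have hreg2 : ¬ p ∣ orderOf (π * t.1.1.1) := by
        rw [hπ, inv_mul_cancel_right]
        obtain ⟨c, hc⟩ := isConj_iff.1 t.1.2.2.1
        rw [← hc, show orderOf (c * x j * c⁻¹) = orderOf (x j) from (MulAut.conj c).orderOf_eq _]
        exact (hx j).1
      obtain ⟨k, hk⟩ := IsPGroup.iff_orderOf.1 P.2 ⟨π, t.1.2.2.2⟩
      rw [← Subgroup.orderOf_coe] at hk
      have hco : (orderOf π).Coprime (orderOf t.1.1.1) := by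
        rw [hk]
        refine Nat.Coprime.pow_left _ (hM.1.coprime_iff_not_dvd.2 ?_)
        obtain ⟨c, hc⟩ := isConj_iff.1 t.1.2.1
        rw [← hc, show orderOf (c * x i * c⁻¹) = orderOf (x i) from (MulAut.conj c).orderOf_eq _]
        exact (hx i).1
      rw [hcomm.orderOf_mul_eq_mul_orderOf_of_coprime hco] at hreg2
      have hk0 : k = 0 := by
        by_contra h0
        exact hreg2 (dvd_mul_of_dvd_left (hk ▸ dvd_pow_self p h0) _)
      have h1 : π = 1 := orderOf_eq_one_iff.1 (by rw [hk, hk0, pow_zero])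
      exact (mul_inv_eq_one.1 h1).symm
    refine (P.2.card_modEq_card_fixedPoints T).trans ?_
    by_cases hij : i = j
    · subst hij
      rw [if_pos rfl, ← CfsgLib.Blocks.natCard_isConj]
      refine Nat.ModEq.trans (congrArg (· % p) (Nat.card_congr
        { toFun := fun t => (⟨t.1.1.1, t.1.2.1, (hdiag t).2⟩ :
            {y : G // y ∈ {y : G | IsConj (x i) y} ∧
              y ∈ Subgroup.centralizer ((P : Subgroup G) : Set G)})
          invFun := fun y => ⟨⟨(y.1, y.1), y.2.1, y.2.1, by simp⟩, fun q => Subtype.ext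
            (Prod.ext (mul_inv_eq_iff_eq_mul.2 (y.2.2 q q.2))
              (mul_inv_eq_iff_eq_mul.2 (y.2.2 q q.2)))⟩
          left_inv := fun t => Subtype.ext (Subtype.ext (Prod.ext rfl (hdiag t).1))
          right_inv := fun y => rfl }))
        (hfix {y : G | IsConj (x i) y} fun g h hh => (CfsgLib.Blocks.isConj_conj_iff _ _ _).2 hh).symm
    · rw [if_neg hij]
      haveI : IsEmpty (MulAction.fixedPoints (P : Subgroup G) T) := ⟨fun t =>
        hij (hinj i j (t.1.2.1.trans (((hdiag t).1).symm ▸ t.1.2.2.1.symm)))⟩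
      rw [Nat.card_of_isEmpty]
  have hP : Nat.card (P : Subgroup G) = p ^ (Nat.card G).factorization p := P.card_eq_multiplicity
  have hmat : (Matrix.of fun i j : ι => ((CfsgLib.BlockCover.pairCount (P : Subgroup G) (x i) (x j) /
      p ^ ((Nat.card G).factorization p - (Nat.card (P : Subgroup G)).factorization p) : ℕ) : ZMod p)) =
      Matrix.diagonal fun i => ((Subgroup.centralizer ({x i} : Set G)).index : ZMod p) := by
    ext i j
    rw [hP, hM.1.factorization_pow, Finsupp.single_eq_same, Nat.sub_self, pow_zero, Matrix.of_apply,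
      Nat.div_one, (ZMod.natCast_eq_natCast_iff _ _ _).2 (hcount i j), Matrix.diagonal_apply]
    split_ifs <;> simp
  rw [hmat, Matrix.rank_diagonal, ← Nat.card_eq_fintype_card]
  refine Nat.card_congr (Equiv.subtypeUnivEquiv fun i => ?_)
  rw [Ne, ZMod.natCast_eq_zero_iff]
  intro h
  exact P.not_dvd_index (h.trans (Subgroup.index_dvd_of_le (hPC i)))

end Cfsg.Agent.S0953
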