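import Cfsg.Statements.S0954
import Cfsg.Agent.Lib.BlockCover.PIndex
import Cfsg.Agent.Lib.BlockCover.Defect
-- import your own Cfsg.Agent.* helpers here

set_option autoImplicit false
open Cfsg

namespace Cfsg.Agent.S0954

/-- Let N be a normal subgroup of the finite group G of order prime to p and of p-power index (a normal p-complement), and fix a maximal ideal M of the algebraic integers containing p. Then two irreducible characters χ, ψ of G lie in the same block if and only if some irreducible character of N has nonzero inner product with both the restriction of χ and the restriction of ψ. -/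
theorem result {G : Type*} [Group G] [Fintype G] (p : ℕ) [Fact p.Prime] (M : Ideal Cfsg.AlgInt) (hM : Cfsg.IsPModular p M) (N : Subgroup G) [N.Normal] [Fintype N] (hN : ¬ p ∣ Nat.card N) (hidx : ∃ k : ℕ, N.index = p ^ k) (χ ψ : Cfsg.IrrCharacter G) : Cfsg.SameBlock M (χ : G → ℂ) (ψ : G → ℂ) ↔ ∃ θ : Cfsg.IrrCharacter N, Cfsg.classInner (fun n : N => (χ : G → ℂ) n) (θ : N → ℂ) ≠ 0 ∧ Cfsg.classInner (fun n : N => (ψ : G → ℂ) n) (θ : N → ℂ) ≠ 0 := by
  constructor
  · intro h
    obtain ⟨θ, hθ⟩ := CfsgLib.BlockCover.exists_constituent N χ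
    obtain ⟨θ', hθ', hne⟩ := CfsgLib.BlockCover.covers_of_congr N hM
      (CfsgLib.Blocks.isPBlock_blockOf θ) ψ (CfsgLib.Blocks.mem_blockOf_self hM θ) fun n => by
        rw [← (CfsgLib.CharCorr.constituent_iff_centralChar N χ θ).1 hθ n]
        exact CfsgLib.Blocks.SameBlock.symm hM h n
    have hsub := CfsgLib.Blocks.blockOf_subset_of_coeff hM (A := {θ}) (fun g => ?_)
      (Set.mem_singleton θ)
    · rw [Set.mem_singleton_iff.1 (hsub hθ')] at hne
      exact ⟨θ, hθ, hne⟩
    · rw [blockCoeff, finsum_mem_singleton, ← CfsgLib.Blocks.mem_lRing (hM := hM)]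
      exact mul_mem (CfsgLib.Blocks.inv_natCast_mem_lRing hM hN) (mul_mem
        (CfsgLib.BlockCover.irr_memLocalRing hM θ 1)
        (by rw [← CfsgLib.Characters.irr_apply_inv θ g]
            exact CfsgLib.BlockCover.irr_memLocalRing hM θ g⁻¹))
  · rintro ⟨θ, hχ, hψ⟩
    have heq := CfsgLib.BlockCover.cover_unique N hM hidx (CfsgLib.Blocks.isPBlock_blockOf θ)
      (CfsgLib.Blocks.isPBlock_blockOf χ) (CfsgLib.Blocks.isPBlock_blockOf ψ)
      ⟨χ, CfsgLib.Blocks.mem_blockOf_self hM χ, θ, CfsgLib.Blocks.mem_blockOf_self hM θ, hχ⟩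
      ⟨ψ, CfsgLib.Blocks.mem_blockOf_self hM ψ, θ, CfsgLib.Blocks.mem_blockOf_self hM θ, hψ⟩
    have hm : ψ ∈ blockOf M (χ : G → ℂ) := heq ▸ CfsgLib.Blocks.mem_blockOf_self hM ψ
    exact hm

end Cfsg.Agent.S0954
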