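import Cfsg.Statements.S0957
-- import your own Cfsg.Agent.* helpers here

set_option autoImplicit false
open Cfsg

namespace Cfsg.Agent.S0957

/-- A number dividing every orbit length divides the number of points. -/
theorem dvd_card_of_dvd_orbit {A X : Type*} [Group A] [MulAction A X] [Finite X] (n : ℕ)
    (h : ∀ x : X, n ∣ Nat.card (MulAction.orbit A x)) : n ∣ Nat.card X := by
  classical
  have := Fintype.ofFinite X
  have := Fintype.ofFinite (MulAction.orbitRel.Quotient A X)
  rw [Nat.card_congr (MulAction.selfEquivSigmaOrbits A X), Nat.card_sigma]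
  exact Finset.dvd_sum fun q _ => h _

theorem pairs_dvd {G : Type*} [Group G] [Finite G] (p : ℕ) [Fact p.Prime] (P : Sylow p G)
    (g h : G) (S : Sylow p (Subgroup.centralizer ({g} : Set G))) :
    Nat.card P / Nat.card S ∣ Nat.card {yz : G × G // IsConj g yz.1 ∧ IsConj h yz.2 ∧
      yz.2 * yz.1⁻¹ ∈ (P : Subgroup G)} := by
  classical
  let X := {yz : G × G // IsConj g yz.1 ∧ IsConj h yz.2 ∧ yz.2 * yz.1⁻¹ ∈ (P : Subgroup G)}
  let : MulAction P X :=
    { smul := fun u x => ⟨((u : G) * x.1.1 * (u : G)⁻¹, (u : G) * x.1.2 * (u : G)⁻¹),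
        x.2.1.trans (isConj_iff.2 ⟨u, rfl⟩), x.2.2.1.trans (isConj_iff.2 ⟨u, rfl⟩), by
          have e : (u : G) * x.1.2 * (u : G)⁻¹ * ((u : G) * x.1.1 * (u : G)⁻¹)⁻¹ =
              (u : G) * (x.1.2 * x.1.1⁻¹) * (u : G)⁻¹ := by group
          change (u : G) * x.1.2 * (u : G)⁻¹ * ((u : G) * x.1.1 * (u : G)⁻¹)⁻¹ ∈ _
          rw [e]
          exact mul_mem (mul_mem u.2 x.2.2.2) (inv_mem u.2)⟩
      one_smul := fun x => Subtype.ext (Prod.ext (by change (1 : G) * x.1.1 * (1 : G)⁻¹ = _; simp)
        (by change (1 : G) * x.1.2 * (1 : G)⁻¹ = _; simp))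
      mul_smul := fun u v x => Subtype.ext (Prod.ext
        (by
          change ((u * v : P) : G) * x.1.1 * ((u * v : P) : G)⁻¹ =
            (u : G) * ((v : G) * x.1.1 * (v : G)⁻¹) * (u : G)⁻¹
          push_cast; group)
        (by
          change ((u * v : P) : G) * x.1.2 * ((u * v : P) : G)⁻¹ =
            (u : G) * ((v : G) * x.1.2 * (v : G)⁻¹) * (u : G)⁻¹
          push_cast; group)) }
  refine dvd_card_of_dvd_orbit (A := P) (X := X) _ fun x => ?_
  obtain ⟨c, hc⟩ := isConj_iff.1 x.2.1
  let T := MulAction.stabilizer P x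
  let f : T →* Subgroup.centralizer ({g} : Set G) :=
    { toFun := fun t => ⟨c⁻¹ * ((t : P) : G) * c, by
        have ht : ((t : P) : G) * x.1.1 * ((t : P) : G)⁻¹ = x.1.1 :=
          congrArg (fun z : X => z.1.1) t.2
        rw [Subgroup.mem_centralizer_iff]
        intro z hz
        rw [Set.mem_singleton_iff.1 hz]
        rw [mul_inv_eq_iff_eq_mul, ← hc] at ht
        rw [show c⁻¹ * ((t : P) : G) * c * g = c⁻¹ * (((t : P) : G) * (c * g * c⁻¹)) * c by group,
          ht]
        group⟩
      map_one' := Subtype.ext (by simp)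
      map_mul' := fun s t => Subtype.ext (by
        simp only [Subgroup.coe_mul]
        group) }
  have hf : Function.Injective f := fun s t hst => by
    apply Subtype.ext; apply Subtype.ext
    exact mul_left_cancel (mul_right_cancel (congrArg Subtype.val hst))
  have hT : IsPGroup p T := P.isPGroup'.to_subgroup T
  obtain ⟨Q, hQ⟩ := ((hT.to_subgroup ⊤).map f).exists_le_sylow
  have hle : Nat.card T ∣ Nat.card S := by
    rw [Nat.card_congr (S.equiv Q).toEquiv]
    refine dvd_trans ?_ (Subgroup.card_dvd_of_le hQ)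
    rw [Subgroup.card_map_of_injective hf, Subgroup.card_top]
  have hSP : Nat.card S ∣ Nat.card P := by
    rw [S.card_eq_multiplicity, P.card_eq_multiplicity]
    exact pow_dvd_pow p ((Nat.factorization_le_iff_dvd Nat.card_pos.ne' Nat.card_pos.ne').2
      (Subgroup.card_subgroup_dvd_card _) p)
  have horb : Nat.card (MulAction.orbit P x) * Nat.card T = Nat.card P := by
    rw [Nat.card_congr (MulAction.orbitEquivQuotientStabilizer P x)]
    exact (Subgroup.card_eq_card_quotient_mul_card_subgroup T).symm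
  obtain ⟨k, hk⟩ := hle
  refine (Nat.div_dvd_iff_dvd_mul hSP Nat.card_pos).2 ⟨k, ?_⟩
  rw [← horb, hk]; ring

/-- Let P be a Sylow p-subgroup of the finite group G, let g, h ∈ G and let p ^ d be the order of a Sylow p-subgroup of the centralizer of g. Then the number of pairs (y, z) with y conjugate to g, z conjugate to h and z * y⁻¹ ∈ P is divisible by the order of P divided by p ^ d. -/
theorem result {G : Type*} [Group G] [Finite G] (p : ℕ) [Fact p.Prime] (P : Sylow p G) (g h : G) (S : Sylow p (Subgroup.centralizer ({g} : Set G))) : Nat.card P / Nat.card S ∣ Nat.card {yz : G × G // IsConj g yz.1 ∧ IsConj h yz.2 ∧ yz.2 * yz.1⁻¹ ∈ (P : Subgroup G)} := by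
  exact pairs_dvd p P g h S

end Cfsg.Agent.S0957
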