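import Cfsg.Statements.S0962
import Cfsg.Agent.Lib.BlockCover.DefectGroup
-- import your own Cfsg.Agent.* helpers here

set_option autoImplicit false
open Cfsg

namespace Cfsg.Agent.S0962

/-- Fix a maximal ideal M of the algebraic integers containing the prime p and a natural number d. The number of blocks of the finite group G of defect at least d is at most the number of conjugacy classes of p-regular elements of G of defect at least d, where the defect of a class is the exponent of p in the order of the centralizer of any of its elements. -/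
theorem result {G : Type*} [Group G] [Finite G] (p : ℕ) [Fact p.Prime] (M : Ideal Cfsg.AlgInt) (hM : Cfsg.IsPModular p M) (d : ℕ) : Nat.card {B : Set (Cfsg.IrrCharacter G) // Cfsg.IsPBlock M B ∧ d ≤ Cfsg.blockDefect p B} ≤ Nat.card {C : ConjClasses G // ∃ g : G, ConjClasses.mk g = C ∧ Cfsg.IsPRegular p g ∧ d ≤ (Nat.card (Subgroup.centralizer ({g} : Set G))).factorization p} := by
  classical
  letI := Fintype.ofFinite G
  haveI := hM.2.1
  let B' := {B : Set (IrrCharacter G) // IsPBlock M B ∧ d ≤ blockDefect p B}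
  let C' := {C : ConjClasses G // ∃ g : G, ConjClasses.mk g = C ∧ IsPRegular p g ∧
    d ≤ (Nat.card (Subgroup.centralizer ({g} : Set G))).factorization p}
  letI : Fintype B' := Fintype.ofFinite _
  letI : Fintype C' := Fintype.ofFinite _
  choose χ hχ using fun B : B' => CfsgLib.Blocks.IsPBlock.nonempty hM B.2.1
  let a : Matrix B' C' (CfsgLib.BrauerPairs.ResK M) := Matrix.of fun B c =>
    CfsgLib.BrauerPairs.resK hM ⟨centralChar (χ B : G → ℂ) c.1.out,
      CfsgLib.Blocks.centralChar_mem_lRing hM (χ B) c.1.out⟩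
  let b : Matrix C' B' (CfsgLib.BrauerPairs.ResK M) := Matrix.of fun c B =>
    CfsgLib.BrauerPairs.resK hM ⟨blockCoeff B.1 c.1.out,
      CfsgLib.BrauerPairs.blockCoeff_mem hM B.2.1 c.1.out⟩
  have hab : a * b = 1 := by
    ext B₁ B₂
    rw [Matrix.mul_apply, Matrix.one_apply]
    simp only [a, b, Matrix.of_apply, ← map_mul, ← map_sum]
    have hx : MemLocalIdeal M ((∑ c : C', centralChar (χ B₁ : G → ℂ) c.1.out *
        blockCoeff B₂.1 c.1.out) - if χ B₁ ∈ B₂.1 then 1 else 0) := by
      have h1 := CfsgLib.Blocks.omega_eq_sum_classes (χ B₁)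
        (CfsgLib.Blocks.blockIdem_mem_center B₂.1)
      rw [CfsgLib.Blocks.omega_blockIdem] at h1
      simp only [CfsgLib.Blocks.coeff_blockIdem] at h1
      rw [h1]
      rw [← Finset.sum_filter_add_sum_filter_not (s := (Finset.univ : Finset (ConjClasses G)))
        (p := fun C : ConjClasses G => ∃ g : G, ConjClasses.mk g = C ∧ IsPRegular p g ∧
          d ≤ (Nat.card (Subgroup.centralizer ({g} : Set G))).factorization p),
        Finset.sum_subtype (p := fun C : ConjClasses G => ∃ g : G, ConjClasses.mk g = C ∧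
          IsPRegular p g ∧ d ≤ (Nat.card (Subgroup.centralizer ({g} : Set G))).factorization p) _
          (fun C => by simp) (fun C => blockCoeff B₂.1 C.out * centralChar (χ B₁ : G → ℂ) C.out)]
      rw [Finset.sum_congr rfl (fun c _ => mul_comm (centralChar (χ B₁ : G → ℂ) c.1.out) _),
        sub_add_cancel_left]
      refine CfsgLib.Blocks.MemLocalIdeal.neg hM (CfsgLib.Blocks.MemLocalIdeal.sum hM _ ?_)
      intro C hC
      rw [Finset.mem_filter] at hC
      by_contra hne
      apply hC.2
      refine ⟨C.out, Quotient.out_eq C, ?_, le_trans B₁.2.2 ?_⟩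
      · intro hp
        exact hne (by rw [CfsgLib.Blocks.blockCoeff_eq_zero_of_singular hM B₂.2.1 hp, zero_mul]
                      exact CfsgLib.Blocks.memLocalIdeal_zero hM)
      · refine CfsgLib.BlockCover.blockDefect_le hM B₁.2.1 fun ψ hψ =>
          CfsgLib.BlockCover.centralChar_unit_iff hM B₁.2.1 (hχ B₁) hψ _ fun h => hne ?_
        exact CfsgLib.Blocks.MemLocalIdeal.mul_left hM
          (CfsgLib.BrauerPairs.blockCoeff_mem hM B₂.2.1 C.out) h
    by_cases hB : B₁ = B₂
    · rw [if_pos hB]
      rw [if_pos (hB ▸ hχ B₁)] at hx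
      rw [← map_one (CfsgLib.BrauerPairs.resK hM), CfsgLib.BrauerPairs.resK_eq_iff]
      simpa only [AddSubmonoidClass.coe_finsetSum, MulMemClass.coe_mul, OneMemClass.coe_one] using hx
    · rw [if_neg hB]
      have hn : χ B₁ ∉ B₂.1 := fun h => hB (Subtype.ext
        ((CfsgLib.Blocks.IsPBlock.eq_blockOf hM B₁.2.1 (hχ B₁)).trans
          (CfsgLib.Blocks.IsPBlock.eq_blockOf hM B₂.2.1 h).symm))
      rw [if_neg hn, sub_zero] at hx
      refine (CfsgLib.BrauerPairs.resK_eq_zero_iff hM _).2 ?_
      simpa only [AddSubmonoidClass.coe_finsetSum, MulMemClass.coe_mul] using hx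
  calc Nat.card B' = Fintype.card B' := Nat.card_eq_fintype_card
    _ = (a * b).rank := by rw [hab, Matrix.rank_one]
    _ ≤ a.rank := Matrix.rank_mul_le_left _ _
    _ ≤ Fintype.card C' := Matrix.rank_le_card_width _
    _ = Nat.card C' := Nat.card_eq_fintype_card.symm

end Cfsg.Agent.S0962
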