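import Cfsg.Statements.S0967
import Cfsg.Agent.Lib.BlockCover.Basic
import Cfsg.Agent.Lib.Chars17.IrrBasic
-- import your own Cfsg.Agent.* helpers here

set_option autoImplicit false
open Cfsg

namespace Cfsg.Agent.S0967

/-- Let N be a normal subgroup of the finite group G of order prime to p and fix a maximal ideal M of the algebraic integers containing p. If χ is an irreducible character of G ⧸ N and ψ lies in the block of its inflation χ ∘ (quotient map), then ψ is itself inflated from an irreducible character ψ' of G ⧸ N lying in the block of χ. (Over a normal p'-subgroup, blocks of the quotient are whole blocks of G.) -/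
theorem result {G : Type*} [Group G] [Finite G] (p : ℕ) [Fact p.Prime] (M : Ideal Cfsg.AlgInt) (hM : Cfsg.IsPModular p M) (N : Subgroup G) [N.Normal] (hN : ¬ p ∣ Nat.card N) (χ : Cfsg.IrrCharacter (G ⧸ N)) (ψ : Cfsg.IrrCharacter G) (hψ : ψ ∈ Cfsg.blockOf M ((χ : G ⧸ N → ℂ) ∘ QuotientGroup.mk)) : ∃ ψ' : Cfsg.IrrCharacter (G ⧸ N), (ψ : G → ℂ) = (ψ' : G ⧸ N → ℂ) ∘ QuotientGroup.mk ∧ Cfsg.SameBlock M (χ : G ⧸ N → ℂ) (ψ' : G ⧸ N → ℂ) := by
  classical
  letI := Fintype.ofFinite G
  letI : Fintype N := Fintype.ofFinite N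
  letI : Fintype (G ⧸ N) := Fintype.ofFinite _
  set χ' := CfsgLib.Chars17.infl N χ with hχ'
  have hsb : SameBlock M (χ' : G → ℂ) (ψ : G → ℂ) := hψ
  have hN0 : (Nat.card N : ℂ) ≠ 0 := by simp
  have hinvR : MemLocalRing M ((Nat.card N : ℂ)⁻¹) := CfsgLib.Blocks.inv_natCast_mem_lRing hM hN
  -- the idempotent of the trivial character of `N`
  let f : G → ℂ := fun x => if x ∈ N then (Nat.card N : ℂ)⁻¹ else 0
  have hf : IsClassFunction G f := fun x a => by
    have : a * x * a⁻¹ ∈ N ↔ x ∈ N := ⟨fun h => by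
      simpa [mul_assoc] using (inferInstance : N.Normal).conj_mem _ h a⁻¹,
      fun h => (inferInstance : N.Normal).conj_mem _ h a⟩
    simp only [f, this]
  have hfR : ∀ x, MemLocalRing M (f x) := fun x => by
    simp only [f]; split_ifs
    · exact hinvR
    · exact (CfsgLib.Blocks.lRing hM).zero_mem
  have hfsum : ∀ φ : G → ℂ, ∑ x : G, f x * φ x = (Nat.card N : ℂ)⁻¹ * ∑ n : N, φ n := by
    intro φ
    rw [Finset.mul_sum, ← Finset.sum_subtype (Finset.univ.filter (· ∈ N)) (fun x => by simp)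
      (fun x => (Nat.card N : ℂ)⁻¹ * φ x), Finset.sum_filter]
    exact Finset.sum_congr rfl fun x _ => by simp [f, ite_mul]
  have hone : classInner (fun n : N => (ψ : G → ℂ) n) (fun _ => 1) ≠ 0 := by
    intro h0
    apply CfsgLib.Blocks.not_memLocalIdeal_one hM
    have h := CfsgLib.BlockCover.omega_congr hM hsb hf hfR
    rw [hfsum, hfsum] at h
    simp only [classInner, map_one, mul_one] at h0
    have htriv : ∀ n : N, (χ' : G → ℂ) n = (χ' : G → ℂ) 1 := fun n =>
      CfsgLib.Chars17.mem_irrKer.1 (CfsgLib.Chars17.le_irrKer_infl N χ n.2)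
    rw [h0, zero_div, sub_zero, Finset.sum_congr rfl (fun n _ => htriv n), Finset.sum_const,
      Finset.card_univ, ← Nat.card_eq_fintype_card, nsmul_eq_mul, inv_mul_cancel_left₀ hN0,
      div_self (CfsgLib.Characters.irr_one_ne_zero χ')] at h
    exact h
  have hker : N ≤ CfsgLib.Chars17.irrKer ψ := fun n hn => by
    rw [CfsgLib.Chars17.mem_irrKer]
    have := CfsgLib.CharCorr.res_eq_avgConj N ψ (CfsgLib.Characters.principalIrr N) hone ⟨n, hn⟩
    rw [this, CfsgLib.CharCorr.avgConj]
    simp [CfsgLib.CharCorr.conjIrr_apply]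
  obtain ⟨ψ', hψ'⟩ := CfsgLib.Chars17.exists_infl_eq N hker
  have hψfun : (ψ : G → ℂ) = (ψ' : G ⧸ N → ℂ) ∘ QuotientGroup.mk := by
    rw [← hψ']; funext x; exact CfsgLib.Chars17.infl_apply N ψ' x
  refine ⟨ψ', hψfun, fun q => ?_⟩
  let u : G → ℂ := fun x => if IsConj q (x : G ⧸ N) then (Nat.card N : ℂ)⁻¹ else 0
  have hu : IsClassFunction G u := fun x a => by
    simp only [u, QuotientGroup.mk_mul, QuotientGroup.mk_inv, CfsgLib.Blocks.isConj_conj_iff]
  have huR : ∀ x, MemLocalRing M (u x) := fun x => by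
    simp only [u]; split_ifs
    · exact hinvR
    · exact (CfsgLib.Blocks.lRing hM).zero_mem
  have key : ∀ η : IrrCharacter (G ⧸ N),
      (∑ x : G, u x * (η : G ⧸ N → ℂ) (x : G ⧸ N)) / (η : G ⧸ N → ℂ) 1 =
        centralChar (η : G ⧸ N → ℂ) q := by
    intro η
    rw [← CfsgLib.Blocks.omega_classSum (CfsgLib.Characters.irr_isClassFunction η) q,
      CfsgLib.Blocks.omega_apply]
    congr 1
    rw [← Finset.sum_fiberwise Finset.univ (fun x : G => (x : G ⧸ N))]
    refine Finset.sum_congr rfl fun y _ => ?_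
    have hcard : (Finset.univ.filter fun x : G => (x : G ⧸ N) = y).card = Nat.card N := by
      obtain ⟨a, rfl⟩ := QuotientGroup.mk_surjective y
      rw [Nat.card_eq_fintype_card, ← Finset.card_univ]
      symm
      refine Finset.card_bij (fun n _ => a * (n : G)) (fun n _ => ?_) (fun n _ m _ h => ?_)
        (fun x hx => ⟨⟨a⁻¹ * x, ?_⟩, Finset.mem_univ _, by simp⟩)
      · simp
      · exact Subtype.ext (mul_left_cancel h)
      · rw [← QuotientGroup.eq]
        exact (Finset.mem_filter.1 hx).2.symm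
    rw [Finset.sum_congr rfl (fun x hx => by
      rw [show u x = if IsConj q y then (Nat.card N : ℂ)⁻¹ else 0 by
        simp [u, (Finset.mem_filter.1 hx).2], (Finset.mem_filter.1 hx).2]),
      Finset.sum_const, hcard, nsmul_eq_mul, CfsgLib.Blocks.coeff_classSum]
    split_ifs <;> simp [hN0]
  have h := CfsgLib.BlockCover.omega_congr hM hsb hu huR
  simp only [hψfun, hχ', CfsgLib.Chars17.infl_apply, Function.comp_apply, QuotientGroup.mk_one,
    key] at h
  exact h

end Cfsg.Agent.S0967
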