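import Cfsg.Statements.S0968
import Cfsg.Agent.Lib.BlockCover.CentralizedDefect
-- import your own Cfsg.Agent.* helpers here

set_option autoImplicit false
open Cfsg
open CfsgLib.Characters CfsgLib.CharCorr

namespace Cfsg.Agent.S0968

/-- Let P be a p-subgroup of the finite group G with P ⊔ C_G(P) = G, and let B be a block with defect group P relative to a maximal ideal M of the algebraic integers containing p. Then there is exactly one θ ∈ B with θ x = θ 1 for all x ∈ P; for this θ the exponent of p in θ(1) equals the exponent of p in the index of P; and the number of members of B equals the number of conjugacy classes of P. -/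
theorem result {G : Type*} [Group G] [Finite G] (p : ℕ) [Fact p.Prime] (M : Ideal Cfsg.AlgInt) (hM : Cfsg.IsPModular p M) (P : Subgroup G) (hP : IsPGroup p P) (hG : P ⊔ Subgroup.centralizer (P : Set G) = ⊤) (B : Set (Cfsg.IrrCharacter G)) (hB : Cfsg.IsPBlock M B) (hD : Cfsg.IsDefectGroup p M B P) : (∃! θ : Cfsg.IrrCharacter G, θ ∈ B ∧ ∀ x ∈ P, (θ : G → ℂ) x = (θ : G → ℂ) 1) ∧ (∀ θ ∈ B, (∀ x ∈ P, (θ : G → ℂ) x = (θ : G → ℂ) 1) → (Cfsg.charDegree (θ : G → ℂ)).factorization p = P.index.factorization p) ∧ Nat.card B = Nat.card (ConjClasses P) := by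
  classical
  let _ := Fintype.ofFinite G
  let _ := Fintype.ofFinite P
  haveI := CfsgLib.CentralDefect.normal_of_sup_centralizer hG
  obtain ⟨χ, b, hχB, htriv, hdeg, h⟩ :=
    CfsgLib.CentralDefect.exists_trivial_member hM hP hG hB hD
  have hmem : ∀ ζ, CfsgLib.CentralDefect.ext h hG ζ ∈ B := fun ζ =>
    (CfsgLib.Blocks.IsPBlock.mem_iff hM hB hχB _).2 fun g => by
      have h1 := CfsgLib.CentralDefect.sameBlock_ext h hG hM htriv ζ g
      rw [← neg_sub]
      exact CfsgLib.Blocks.MemLocalIdeal.neg hM h1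
  have hsurj : ∀ ψ ∈ B, ∃ ζ, CfsgLib.CentralDefect.ext h hG ζ = ψ := fun ψ hψ =>
    CfsgLib.CentralDefect.exists_ext_eq h hG hM
      ((CfsgLib.Blocks.IsPBlock.mem_iff hM hB hχB ψ).1 hψ)
  have huniq : ∀ θ ∈ B, (∀ x ∈ P, (θ : G → ℂ) x = (θ : G → ℂ) 1) → θ = χ := by
    intro θ hθ hθt
    obtain ⟨ζ, rfl⟩ := hsurj θ hθ
    obtain ⟨ζ', hζ'⟩ := hsurj χ hχB
    refine Eq.trans ?_ hζ'
    rw [CfsgLib.CentralDefect.eq_principal_of_trivial h hG hθt,
      CfsgLib.CentralDefect.eq_principal_of_trivial h hG (ζ := ζ') fun x hx => by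
        rw [hζ']; exact htriv x hx]
  refine ⟨⟨χ, ⟨hχB, htriv⟩, fun θ hθ => huniq θ hθ.1 hθ.2⟩,
    fun θ hθ hθt => by rw [huniq θ hθ hθt]; exact hdeg, ?_⟩
  rw [← card_irr_eq_card_conjClasses]
  refine (Nat.card_congr (Equiv.ofBijective
    (fun ζ : IrrCharacter P => (⟨_, hmem ζ⟩ : B)) ⟨fun ζ ζ' he => ?_, fun ψ => ?_⟩)).symm
  · exact CfsgLib.CentralDefect.ext_injective h hG (congrArg Subtype.val he)
  · obtain ⟨ζ, hζ⟩ := hsurj ψ ψ.2
    exact ⟨ζ, Subtype.ext hζ⟩

end Cfsg.Agent.S0968
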