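import Cfsg.Statements.S0969
import Cfsg.Agent.Lib.BlockCover.CentralDefectBlock
import Cfsg.Agent.Lib.Blocks.PPart
-- import your own Cfsg.Agent.* helpers here

set_option autoImplicit false
open Cfsg

namespace Cfsg.Agent.S0969

/-- Let D be a central p-subgroup of the finite group G and χ an irreducible character with the exponent of p in χ(1) equal to the exponent of p in the index of D; fix a maximal ideal M of the algebraic integers containing p. Then D is a defect group of the block of χ, and χ g = 0 whenever the p-part of g does not lie in D. -/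
theorem result {G : Type*} [Group G] [Finite G] (p : ℕ) [Fact p.Prime] (M : Ideal Cfsg.AlgInt) (hM : Cfsg.IsPModular p M) (D : Subgroup G) (hD : IsPGroup p D) (hDZ : D ≤ Subgroup.center G) (χ : Cfsg.IrrCharacter G) (hdeg : (Cfsg.charDegree (χ : G → ℂ)).factorization p = D.index.factorization p) : Cfsg.IsDefectGroup p M (Cfsg.blockOf M (χ : G → ℂ)) D ∧ ∀ g x : G, Cfsg.IsPPart p g x → x ∉ D → (χ : G → ℂ) g = 0 := by
  let _ := Fintype.ofFinite G
  obtain ⟨b, h⟩ := CfsgLib.CentralDefect.setup_central hD hDZ χ hdeg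
  refine ⟨CfsgLib.CentralDefect.isDefectGroup_of_setup hM h, fun g x hx hxD => ?_⟩
  refine (CfsgLib.CentralDefect.regular_sum_and_vanish h).2 g ?_
  rintro ⟨u, hu⟩
  obtain ⟨k, hk⟩ := IsPGroup.iff_orderOf.1 hD u
  exact hxD (CfsgLib.Blocks.IsPPart.unique hM.1 hx ⟨(u : G)⁻¹ * g, mul_inv_cancel_left _ _,
    (Subgroup.mem_center_iff.1 (hDZ u.2) _).symm, ⟨k, by rw [← hk, Subgroup.orderOf_coe]⟩, hu⟩ ▸ u.2)

end Cfsg.Agent.S0969
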