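import Cfsg.Statements.S0971
import Cfsg.Agent.Lib.BlockCover.NormalP
import Cfsg.Agent.Lib.BlockCover.Basic
import Cfsg.Agent.Lib.CharCorr.Solvable
-- import your own Cfsg.Agent.* helpers here

set_option autoImplicit false
open Cfsg

namespace Cfsg.Agent.S0971

/-- Let Q be a normal p-subgroup of the finite group G, let N = Q ⊔ C_G(Q) (a normal subgroup) and let b be a block of N relative to a maximal ideal M of the algebraic integers containing p. Then b induces some block of G, and every block B of G containing a character whose restriction to N has a constituent in b is induced by b. -/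
theorem result {G : Type*} [Group G] [Fintype G] (p : ℕ) [Fact p.Prime] (M : Ideal Cfsg.AlgInt) (hM : Cfsg.IsPModular p M) (Q : Subgroup G) [Q.Normal] (hQ : IsPGroup p Q) [Fintype ↥(Q ⊔ Subgroup.centralizer (Q : Set G))] (b : Set (Cfsg.IrrCharacter ↥(Q ⊔ Subgroup.centralizer (Q : Set G)))) (hb : Cfsg.IsPBlock M b) : Cfsg.InducedBlockDefined M (Q ⊔ Subgroup.centralizer (Q : Set G)) b ∧ ∀ B : Set (Cfsg.IrrCharacter G), Cfsg.IsPBlock M B → (∃ χ ∈ B, ∃ θ ∈ b, Cfsg.classInner (fun n : ↥(Q ⊔ Subgroup.centralizer (Q : Set G)) => (χ : G → ℂ) n) (θ : ↥(Q ⊔ Subgroup.centralizer (Q : Set G)) → ℂ) ≠ 0) → Cfsg.IsInducedBlock M (Q ⊔ Subgroup.centralizer (Q : Set G)) b B := by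
  classical
  haveI : (Q ⊔ Subgroup.centralizer (Q : Set G)).Normal := inferInstance
  have key : ∀ B : Set (IrrCharacter G), IsPBlock M B →
      (∃ χ ∈ B, ∃ θ ∈ b, classInner (fun n : ↥(Q ⊔ Subgroup.centralizer (Q : Set G)) => (χ : G → ℂ) n) (θ : ↥(Q ⊔ Subgroup.centralizer (Q : Set G)) → ℂ) ≠ 0) →
        IsInducedBlock M (Q ⊔ Subgroup.centralizer (Q : Set G)) b B := by
    rintro B hB ⟨χ₀, hχ₀, θ₀, hθ₀, hcov⟩
    refine ⟨hb, hB, fun ξ hξ χ hχ g => ?_⟩
    by_cases hg : g ∈ (Q ⊔ Subgroup.centralizer (Q : Set G))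
    · simpa using CfsgLib.Blocks.MemLocalIdeal.neg hM
        (CfsgLib.BlockCover.congr_of_covers (Q ⊔ Subgroup.centralizer (Q : Set G)) hM hB hb hχ₀ hθ₀ hcov hχ hξ ⟨g, hg⟩)
    · have h0 : inducedCentralChar (Q ⊔ Subgroup.centralizer (Q : Set G)) (ξ : ↥(Q ⊔ Subgroup.centralizer (Q : Set G)) → ℂ) g = 0 := by
        rw [inducedCentralChar]
        refine finsum_mem_eq_zero_of_forall_eq_zero fun h hh => absurd ?_ hg
        obtain ⟨t, ht⟩ := isConj_iff.1 hh
        have : g = t⁻¹ * (h : G) * t := by rw [← ht]; group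
        rw [this]
        simpa using (inferInstance : (Q ⊔ Subgroup.centralizer (Q : Set G)).Normal).conj_mem _ h.2 t⁻¹
      rw [h0, zero_sub]
      exact CfsgLib.Blocks.MemLocalIdeal.neg hM
        (CfsgLib.BlockCover.centralChar_mem_ideal_of_not_centralizes hM Q hQ χ
          fun hc => hg (le_sup_right (a := Q) hc))
  refine ⟨?_, key⟩
  obtain ⟨θ, hθ⟩ := CfsgLib.Blocks.IsPBlock.nonempty hM hb
  obtain ⟨χ, hχ⟩ := CfsgLib.CharCorr.exists_over (Q ⊔ Subgroup.centralizer (Q : Set G)) θ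
  refine ⟨blockOf M (χ : G → ℂ), key _ (CfsgLib.Blocks.isPBlock_blockOf χ)
    ⟨χ, CfsgLib.Blocks.mem_blockOf_self hM χ, θ, hθ, ?_⟩⟩
  rw [show (fun n : ↥(Q ⊔ Subgroup.centralizer (Q : Set G)) => (χ : G → ℂ) n) = (χ : G → ℂ) ∘ (Q ⊔ Subgroup.centralizer (Q : Set G)).subtype from rfl,
    CfsgLib.CharCorr.mult_spec]
  exact_mod_cast hχ

end Cfsg.Agent.S0971
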