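import Cfsg.Statements.S0982
import Cfsg.Agent.Lib.Small.SylowLine

set_option autoImplicit false
open Cfsg

namespace Cfsg.Agent.S0982

theorem psl_check : CfsgLib.Small.PSLCheck 23 11 [] (2 : ZMod 23) (5 : ZMod 23) := by
  decide +kernel

theorem psl_param : CfsgLib.Small.PSLParam 23 11 (2 : ZMod 23) (5 : ZMod 23) := by
  constructor <;> decide +kernel

/-- A simple group of order 6072 is isomorphic to the projective special linear group of dimension 2 over the field with 23 elements. -/
theorem result {G : Type*} [Group G] [Finite G] [IsSimpleGroup G] (h : Nat.card G = 6072) {F : Type*} [Field F] [Fintype F] (hF : Fintype.card F = 23) : Nonempty (G ≃* Matrix.ProjectiveSpecialLinearGroup (Fin 2) F) := by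
  have : Fact (Nat.Prime 23) := ⟨by norm_num⟩
  have hG := CfsgLib.Small.nc_of_not_prime (G := G) (by rw [h]; norm_num)
  have hm := CfsgLib.Small.card_sylow_mem (p := 23) hG (k := 1) (m := 264) one_ne_zero
    (by rw [h]; norm_num) (by norm_num)
  rw [show ((Nat.divisors 264).filter fun n => n % 23 = 1 ∧ 1 < n) = {24} from by decide,
    Finset.mem_singleton] at hm
  exact CfsgLib.Small.nonempty_mulEquiv_psl_field hF
    (CfsgLib.Small.nonempty_mulEquiv_psl (p := 23) (m := 11) (E := []) (a0 := 2) (ν := 5)
      (by norm_num) psl_param psl_check (by rw [h]) hm (by simp))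

end Cfsg.Agent.S0982
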