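import Cfsg.Statements.S0986
import Cfsg.Agent.Lib.Small.Intersection

set_option autoImplicit false
open Cfsg

namespace Cfsg.Agent.S0986

/-- Let P and Q be distinct Sylow p-subgroups of a finite group G chosen so that the order of P ∩ Q is as large as possible among intersections of two distinct Sylow p-subgroups, and let N be the normalizer of P ∩ Q. Then N has more than one Sylow p-subgroup, any two distinct Sylow p-subgroups of N intersect exactly in P ∩ Q, and each Sylow p-subgroup of N lies in exactly one Sylow p-subgroup of G. -/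
theorem result {G : Type*} [Group G] [Finite G] (p : ℕ) [Fact p.Prime] (P Q : Sylow p G) (hPQ : P ≠ Q) (hmax : ∀ P' Q' : Sylow p G, P' ≠ Q' → Nat.card ↥((P' : Subgroup G) ⊓ (Q' : Subgroup G)) ≤ Nat.card ↥((P : Subgroup G) ⊓ (Q : Subgroup G))) : 1 < Nat.card (Sylow p ↥(Subgroup.normalizer (((P : Subgroup G) ⊓ (Q : Subgroup G) : Subgroup G) : Set G))) ∧ (∀ S T : Sylow p ↥(Subgroup.normalizer (((P : Subgroup G) ⊓ (Q : Subgroup G) : Subgroup G) : Set G)), S ≠ T → (S : Subgroup _) ⊓ (T : Subgroup _) = ((P : Subgroup G) ⊓ (Q : Subgroup G)).subgroupOf (Subgroup.normalizer (((P : Subgroup G) ⊓ (Q : Subgroup G) : Subgroup G) : Set G))) ∧ ∀ S : Sylow p ↥(Subgroup.normalizer (((P : Subgroup G) ⊓ (Q : Subgroup G) : Subgroup G) : Set G)), ∃! T : Sylow p G, (S : Subgroup _).map (Subgroup.normalizer (((P : Subgroup G) ⊓ (Q : Subgroup G) : Subgroup G) : Set G)).subtype ≤ (T : Subgroup G) := by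
  classical
  set D := (P : Subgroup G) ⊓ (Q : Subgroup G) with hD
  set N := Subgroup.normalizer (D : Set G) with hN
  have hnle : ∀ {A B : Sylow p G}, (A : Subgroup G) ≤ (B : Subgroup G) → A = B := fun hle =>
    Sylow.ext (Subgroup.eq_of_le_of_card_ge hle
      (by rw [Sylow.card_eq_multiplicity, Sylow.card_eq_multiplicity]))
  have hP : D < (P : Subgroup G) :=
    lt_of_le_of_ne inf_le_left fun e => hPQ (hnle (e.ge.trans inf_le_right))
  have hQ : D < (Q : Subgroup G) :=
    lt_of_le_of_ne inf_le_right fun e => hPQ (hnle (e.ge.trans inf_le_left)).symm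
  have hlt : ∀ {A B : Subgroup G}, A < B → Nat.card A < Nat.card B := fun {A B} h =>
    lt_of_le_of_ne (Subgroup.card_le_of_le h.le) fun e =>
      h.ne (Subgroup.eq_of_le_of_card_ge h.le e.ge)
  have huniq : ∀ {S : Subgroup G} {T T' : Sylow p G}, D < S → S ≤ (T : Subgroup G) →
      S ≤ (T' : Subgroup G) → T = T' := fun hS h h' =>
    CfsgLib.Small.sylow_eq_of_card_lt hmax h h' (hlt hS)
  have hPN := CfsgLib.Small.lt_inf_normalizer hP
  have hQN := CfsgLib.Small.lt_inf_normalizer hQ
  have hDN : D ≤ N := Subgroup.le_normalizer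
  have : (D.subgroupOf N).Normal := Subgroup.normal_subgroupOf_iff_le_normalizer hDN |>.mpr le_rfl
  have hDp : IsPGroup p (D.subgroupOf N) :=
    (P.2.to_le inf_le_left).of_equiv (Subgroup.subgroupOfEquivOfLe hDN).symm
  have hDS : ∀ S : Sylow p N, D < (S : Subgroup N).map N.subtype := by
    intro S
    refine lt_of_le_of_ne ?_ ?_
    · calc D = (D.subgroupOf N).map N.subtype := by
            rw [Subgroup.map_subgroupOf_eq_of_le hDN]
        _ ≤ _ := Subgroup.map_mono (hDp.le_sylow_of_normal S)
    · intro e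
      have h1 : Nat.card D = Nat.card (S : Subgroup N) := by
        rw [e, Subgroup.card_subtype]
      have hpg : IsPGroup p (((P : Subgroup G) ⊓ N).subgroupOf N) :=
        (P.2.to_le inf_le_left).of_equiv (Subgroup.subgroupOfEquivOfLe inf_le_right).symm
      obtain ⟨T, hT⟩ := hpg.exists_le_sylow
      have h2 := Subgroup.card_le_of_le hT
      rw [Nat.card_congr (Subgroup.subgroupOfEquivOfLe inf_le_right).toEquiv,
        T.card_eq_multiplicity, ← S.card_eq_multiplicity, ← h1] at h2
      exact absurd (hlt hPN) (not_lt.mpr h2)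
  have hex : ∀ S : Sylow p N, ∃! T : Sylow p G,
      (S : Subgroup N).map N.subtype ≤ (T : Subgroup G) := by
    intro S
    obtain ⟨T, hT⟩ := (S.2.map N.subtype).exists_le_sylow
    exact ⟨T, hT, fun T' hT' => huniq (hDS S) hT' hT⟩
  refine ⟨?_, ?_, hex⟩
  · rw [Finite.one_lt_card_iff_nontrivial]
    by_contra hsub
    rw [not_nontrivial_iff_subsingleton] at hsub
    obtain ⟨S⟩ := (inferInstance : Nonempty (Sylow p N))
    obtain ⟨T, hT, -⟩ := hex S
    have key : ∀ R : Sylow p G, D < (R : Subgroup G) ⊓ N → R = T := by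
      intro R hR
      have hpg : IsPGroup p (((R : Subgroup G) ⊓ N).subgroupOf N) :=
        (R.2.to_le inf_le_left).of_equiv (Subgroup.subgroupOfEquivOfLe inf_le_right).symm
      obtain ⟨S', hS'⟩ := hpg.exists_le_sylow
      rw [Subsingleton.elim S' S] at hS'
      have hRT := (Subgroup.map_mono (f := N.subtype) hS').trans hT
      rw [Subgroup.map_subgroupOf_eq_of_le inf_le_right] at hRT
      exact huniq hR inf_le_left hRT
    exact hPQ ((key P hPN).trans (key Q hQN).symm)
  · intro S T hST
    refine le_antisymm ?_ (le_inf (hDp.le_sylow_of_normal S) (hDp.le_sylow_of_normal T))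
    by_contra hnot
    have hle : D.subgroupOf N ≤ (S : Subgroup N) ⊓ (T : Subgroup N) :=
      le_inf (hDp.le_sylow_of_normal S) (hDp.le_sylow_of_normal T)
    have hlt' : D < ((S : Subgroup N) ⊓ (T : Subgroup N)).map N.subtype := by
      refine lt_of_le_of_ne ?_ ?_
      · calc D = (D.subgroupOf N).map N.subtype := by
              rw [Subgroup.map_subgroupOf_eq_of_le hDN]
          _ ≤ _ := Subgroup.map_mono hle
      · intro e
        refine hnot fun x hx => ?_
        rw [Subgroup.mem_subgroupOf]
        exact e.symm.le (Subgroup.mem_map_of_mem N.subtype hx)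
    obtain ⟨R, hR, -⟩ := hex S
    obtain ⟨R', hR', -⟩ := hex T
    obtain rfl := huniq hlt' ((Subgroup.map_mono inf_le_left).trans hR)
      ((Subgroup.map_mono inf_le_right).trans hR')
    refine hST ?_
    have hpg : IsPGroup p (((R : Subgroup G) ⊓ N).subgroupOf N) :=
      (R.2.to_le inf_le_left).of_equiv (Subgroup.subgroupOfEquivOfLe inf_le_right).symm
    have key : ∀ U : Sylow p N, (U : Subgroup N).map N.subtype ≤ (R : Subgroup G) →
        ((R : Subgroup G) ⊓ N).subgroupOf N = (U : Subgroup N) := fun U hU =>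
      U.3 hpg fun x hx => Subgroup.mem_subgroupOf.mpr
        ⟨hU (Subgroup.mem_map_of_mem N.subtype hx), x.2⟩
    exact Sylow.ext ((key S hR).symm.trans (key T hR'))

end Cfsg.Agent.S0986
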