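import Cfsg.Statements.S0987
import Cfsg.Agent.Lib.Small.Basic

set_option autoImplicit false
open Cfsg

namespace Cfsg.Agent.S0987

/-- If a finite group has order pqr for primes p < q < r, then its Sylow r-subgroups are normal. -/
theorem result {G : Type*} [Group G] [Finite G] (p q r : ℕ) (hp : p.Prime) (hq : q.Prime) [Fact r.Prime] (hpq : p < q) (hqr : q < r) (hG : Nat.card G = p * q * r) (R : Sylow r G) : (R : Subgroup G).Normal := by
  classical
  have : Fact q.Prime := ⟨hq⟩
  have hr := (Fact.out : r.Prime)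
  have h2 := hp.two_le
  have hndr : ¬ r ∣ p * q := fun h => by
    rcases hr.dvd_mul.mp h with h | h
    · have := Nat.le_of_dvd hp.pos h; omega
    · have := Nat.le_of_dvd hq.pos h; omega
  have hndq : ¬ q ∣ p * r := fun h => by
    rcases hq.dvd_mul.mp h with h | h
    · have := Nat.le_of_dvd hp.pos h; omega
    · have := (Nat.prime_dvd_prime_iff_eq hq hr).mp h; omega
  have hR : ∀ S : Sylow r G, Nat.card S = r := fun S => by
    simpa using CfsgLib.Small.card_sylow_of_card_eq (k := 1) (by rw [hG]; ring) hndr S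
  have hQ : ∀ S : Sylow q G, Nat.card S = q := fun S => by
    simpa using CfsgLib.Small.card_sylow_of_card_eq (k := 1) (by rw [hG]; ring) hndq S
  obtain ⟨Q⟩ := (inferInstance : Nonempty (Sylow q G))
  have hmodr := card_sylow_modEq_one r G
  have hmodq := card_sylow_modEq_one q G
  rw [Nat.ModEq, Nat.mod_eq_of_lt hr.one_lt] at hmodr
  rw [Nat.ModEq, Nat.mod_eq_of_lt hq.one_lt] at hmodq
  have hdr : Nat.card (Sylow r G) ∣ p * q :=
    CfsgLib.Small.index_sylow_of_card_eq (k := 1) (by rw [hG]; ring) hndr R ▸ R.card_dvd_index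
  have hdq : Nat.card (Sylow q G) ∣ p * r :=
    CfsgLib.Small.index_sylow_of_card_eq (k := 1) (by rw [hG]; ring) hndq Q ▸ Q.card_dvd_index
  suffices hone : Nat.card (Sylow r G) = 1 by
    rw [← Subgroup.normalizer_eq_top_iff, ← Subgroup.index_eq_one]
    exact R.card_eq_index_normalizer.symm.trans hone
  by_contra hne
  have hrn : Nat.card (Sylow r G) = p * q := by
    obtain ⟨a, b, ha, hb, hab⟩ := exists_dvd_and_dvd_of_dvd_mul hdr
    rcases (Nat.dvd_prime hp).mp ha with ha | ha <;>
      rcases (Nat.dvd_prime hq).mp hb with hb | hb <;> rw [hab, ha, hb] at hmodr hne ⊢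
    · simp at hne
    · rw [one_mul, Nat.mod_eq_of_lt hqr] at hmodr; omega
    · rw [mul_one, Nat.mod_eq_of_lt (hpq.trans hqr)] at hmodr; omega
  have hq1 : Nat.card (Sylow q G) = 1 := by
    by_contra hne'
    have hge : r ≤ Nat.card (Sylow q G) := by
      obtain ⟨a, b, ha, hb, hab⟩ := exists_dvd_and_dvd_of_dvd_mul hdq
      rcases (Nat.dvd_prime hr).mp hb with hb | hb
      · rcases (Nat.dvd_prime hp).mp ha with ha | ha <;> rw [hab, ha, hb] at hmodq hne'
        · simp at hne'
        · rw [mul_one, Nat.mod_eq_of_lt hpq] at hmodq; omega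
      · rw [hab, hb]; exact Nat.le_mul_of_pos_left r (Nat.pos_of_dvd_of_pos ha hp.pos)
    have hsum := CfsgLib.Small.sum_card_orderOf_le (G := G) {1, q, r}
    have hq2 := hq.one_lt
    rw [Finset.sum_insert (by simp only [Finset.mem_insert, Finset.mem_singleton]; omega),
      Finset.sum_insert (by simp only [Finset.mem_singleton]; omega), Finset.sum_singleton,
      CfsgLib.Small.card_orderOf_eq_one, CfsgLib.Small.card_orderOf_eq_prime hQ,
      CfsgLib.Small.card_orderOf_eq_prime hR, hrn, hG] at hsum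
    have h3 : r * (q - 1) ≤ Nat.card (Sylow q G) * (q - 1) := Nat.mul_le_mul_right _ hge
    have h4 : p * q * (r - 1) + p * q = p * q * r := by
      rw [← Nat.mul_succ, Nat.succ_eq_add_one, Nat.sub_add_cancel hr.pos]
    have h5 : p * q ≤ r * (q - 1) := by
      calc p * q ≤ (q - 1) * r := Nat.mul_le_mul (by omega) hqr.le
        _ = r * (q - 1) := mul_comm _ _
    omega
  have hQn : (Q : Subgroup G).Normal := by
    rw [← Subgroup.normalizer_eq_top_iff, ← Subgroup.index_eq_one]
    exact Q.card_eq_index_normalizer.symm.trans hq1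
  -- `R` centralises `Q`, so `q` divides the order of `N(R) = R`
  have hle : (Q : Subgroup G) ≤ Subgroup.normalizer ((R : Subgroup G) : Set G) := by
    refine le_trans ?_ (CfsgLib.Small.centralizer_le_normalizer' _)
    intro y hy
    rw [Subgroup.mem_centralizer_iff]
    intro x hx
    have hxN : x ∈ Subgroup.normalizer ((Q : Subgroup G) : Set G) := by
      rw [Subgroup.normalizer_eq_top_iff.mpr hQn]; exact Subgroup.mem_top x
    have hker : (Q : Subgroup G).normalizerMonoidHom ⟨x, hxN⟩ = 1 := by
      have : IsCyclic Q := isCyclic_of_prime_card (hQ Q)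
      rw [← orderOf_eq_one_iff]
      refine Nat.eq_one_of_dvd_coprimes (?_ : Nat.Coprime r (q - 1)) ?_ ?_
      · rw [Nat.Prime.coprime_iff_not_dvd hr]
        intro h; have := Nat.le_of_dvd (by omega) h; omega
      · refine (orderOf_map_dvd _ _).trans ?_
        rw [← Subgroup.orderOf_coe, ← hR R]
        have := orderOf_dvd_natCard (⟨x, hx⟩ : (R : Subgroup G))
        rwa [Subgroup.orderOf_mk] at this
      · have := orderOf_dvd_natCard ((Q : Subgroup G).normalizerMonoidHom ⟨x, hxN⟩)
        rwa [IsCyclic.card_mulAut, hQ Q, Nat.totient_prime hq] at this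
    have hmem : (⟨x, hxN⟩ : Subgroup.normalizer ((Q : Subgroup G) : Set G)) ∈
        (Q : Subgroup G).normalizerMonoidHom.ker := hker
    rw [Subgroup.normalizerMonoidHom_ker, Subgroup.mem_subgroupOf,
      Subgroup.mem_centralizer_iff] at hmem
    exact (hmem y hy).symm
  have hdvd := Subgroup.card_dvd_of_le hle
  rw [show Nat.card (Q : Subgroup G) = q from hQ Q] at hdvd
  have hN := CfsgLib.Small.card_normalizer_eq hrn R
  rw [hG, mul_comm _ (p * q)] at hN
  rw [Nat.eq_of_mul_eq_mul_left (Nat.mul_pos hp.pos hq.pos) hN] at hdvd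
  have := (Nat.prime_dvd_prime_iff_eq hq hr).mp hdvd
  omega

end Cfsg.Agent.S0987
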