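import Cfsg.Statements.S0988
import Cfsg.Agent.Lib.Small.Basic
import Cfsg.Agent.Lib.Characters.Burnside

set_option autoImplicit false
open Cfsg

namespace Cfsg.Agent.S0988

/-- If a finite simple group has order p^2 * q * r with p, q and r prime, then its order is 60. -/
theorem result {G : Type*} [Group G] [Finite G] [IsSimpleGroup G] (p q r : ℕ) (hp : p.Prime) (hq : q.Prime) (hr : r.Prime) (hG : Nat.card G = p ^ 2 * q * r) : Nat.card G = 60 := by
  classical
  have hnp : ¬ (Nat.card G).Prime := by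
    rw [hG, mul_assoc]
    exact Nat.not_prime_mul (by have := hp.one_lt; nlinarith)
      (by have := hq.one_lt; have := hr.one_lt; nlinarith)
  have hnc := CfsgLib.Small.nc_of_not_prime (G := G) hnp
  have key : ∀ s t a b, Nat.Prime s → Nat.Prime t → Nat.card G ≠ s ^ a * t ^ b := by
    intro s t a b hs ht h
    have := CfsgLib.Burnside.isSolvable_of_card_eq hs ht a b h
    exact hnc ⟨⟨IsSimpleGroup.comm_iff_isSolvable.mpr this⟩⟩
  have hpq : p ≠ q := by rintro rfl; exact key p r 3 1 hp hr (by rw [hG]; ring)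
  have hpr : p ≠ r := by rintro rfl; exact key p q 3 1 hp hq (by rw [hG]; ring)
  have hqr : q ≠ r := by rintro rfl; exact key p q 2 2 hp hq (by rw [hG]; ring)
  have hp' : Fact p.Prime := ⟨hp⟩
  have hq' : Fact q.Prime := ⟨hq⟩
  have hr' : Fact r.Prime := ⟨hr⟩
  have hG1 : Nat.card G ≠ 1 := Finite.one_lt_card.ne'
  set s := (Nat.card G).minFac with hs
  have hsp : s.Prime := Nat.minFac_prime hG1
  have hsd : s ∣ Nat.card G := Nat.minFac_dvd _
  have : Fact s.Prime := ⟨hsp⟩
  have hncyc : ∀ S : Sylow s G, ¬ IsCyclic S := fun S hc =>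
    CfsgLib.Small.not_normalizer_le_centralizer hnc hsd S
      (IsCyclic.normalizer_le_centralizer hs.symm hc)
  have hpm : ¬ p ∣ q * r := by
    rw [hp.dvd_mul, Nat.prime_dvd_prime_iff_eq hp hq, Nat.prime_dvd_prime_iff_eq hp hr]; tauto
  have hsp' : s = p := by
    by_contra hne
    obtain ⟨S⟩ := (inferInstance : Nonempty (Sylow s G))
    refine hncyc S (isCyclic_of_prime_card (p := s) ?_)
    have : s = q ∨ s = r := by
      have h' := hsd
      rw [hG, hsp.dvd_mul, hsp.dvd_mul, Nat.prime_dvd_prime_iff_eq hsp hq,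
        Nat.prime_dvd_prime_iff_eq hsp hr] at h'
      rcases h' with (h | h) | h
      · exact absurd ((Nat.prime_dvd_prime_iff_eq hsp hp).mp (hsp.dvd_of_dvd_pow h)) hne
      · exact Or.inl h
      · exact Or.inr h
    rcases this with h | h
    · rw [CfsgLib.Small.card_sylow_of_card_eq (k := 1) (m := p ^ 2 * r) (by rw [hG, h]; ring)
        (by rw [h, hq.dvd_mul, Nat.prime_dvd_prime_iff_eq hq hr]
            rintro (h' | h')
            · exact hpq ((Nat.prime_dvd_prime_iff_eq hq hp).mp (hq.dvd_of_dvd_pow h')).symm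
            · exact hqr h') S, pow_one]
    · rw [CfsgLib.Small.card_sylow_of_card_eq (k := 1) (m := p ^ 2 * q) (by rw [hG, h]; ring)
        (by rw [h, hr.dvd_mul, Nat.prime_dvd_prime_iff_eq hr hq]
            rintro (h' | h')
            · exact hpr ((Nat.prime_dvd_prime_iff_eq hr hp).mp (hr.dvd_of_dvd_pow h')).symm
            · exact hqr h'.symm) S, pow_one]
  have hlt : p < q ∧ p < r := by
    have h1 : s ≤ q := Nat.minFac_le_of_dvd hq.two_le ⟨p ^ 2 * r, by rw [hG]; ring⟩
    have h2 : s ≤ r := Nat.minFac_le_of_dvd hr.two_le ⟨p ^ 2 * q, by rw [hG]; ring⟩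
    omega
  obtain ⟨P⟩ := (inferInstance : Nonempty (Sylow p G))
  have hP : Nat.card P = p ^ 2 :=
    CfsgLib.Small.card_sylow_of_card_eq (m := q * r) (by rw [hG]; ring) hpm P
  have hdvdp : p ∣ Nat.card G := ⟨p * q * r, by rw [hG]; ring⟩
  set C := Subgroup.centralizer ((P : Subgroup G) : Set G)
  set N := Subgroup.normalizer ((P : Subgroup G) : Set G)
  set e := C.relIndex N with he
  have he1 : e ≠ 1 := fun h =>
    CfsgLib.Small.not_normalizer_le_centralizer hnc hdvdp P (Subgroup.relIndex_eq_one.mp h)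
  set l := e.minFac with hl
  have hlp : l.Prime := Nat.minFac_prime he1
  have hle : l ∣ e := Nat.minFac_dvd e
  have hPC : (P : Subgroup G) ≤ C := by
    intro x hx
    rw [Subgroup.mem_centralizer_iff]
    intro y hy
    exact congrArg Subtype.val ((IsPGroup.isMulCommutative_of_card_eq_prime_sq hP).is_comm.comm ⟨y, hy⟩ ⟨x, hx⟩)
  have hlqr : l ∣ q * r := by
    rw [← CfsgLib.Small.index_sylow_of_card_eq (k := 2) (m := q * r) (by rw [hG]; ring) hpm P]
    refine hle.trans (dvd_trans ?_ (Subgroup.index_dvd_of_le hPC))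
    exact Dvd.intro _ (Subgroup.relIndex_mul_index (CfsgLib.Small.centralizer_le_normalizer' _))
  have hl' : l = q ∨ l = r := by
    rw [hlp.dvd_mul, Nat.prime_dvd_prime_iff_eq hlp hq, Nat.prime_dvd_prime_iff_eq hlp hr] at hlqr
    exact hlqr
  have hlt' : p < l := by rcases hl' with h | h <;> omega
  have hlAut : l ∣ Nat.card (MulAut (P : Subgroup G)) :=
    hle.trans (CfsgLib.Small.relIndex_centralizer_normalizer_dvd_card_mulAut _)
  have hl3 : p = 2 ∧ l = 3 := by
    have : Fact l.Prime := ⟨hlp⟩
    have : Finite (MulAut (P : Subgroup G)) :=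
      Finite.of_injective (fun f : MulAut (P : Subgroup G) => f.toEquiv)
        MulEquiv.toEquiv_injective
    obtain ⟨a, ha⟩ := exists_prime_orderOf_dvd_card' l hlAut
    let A := Subgroup.zpowers a
    have hA : IsPGroup l A := IsPGroup.of_card (n := 1) (by rw [Nat.card_zpowers, ha, pow_one])
    have hmod := hA.card_modEq_card_fixedPoints (P : Subgroup G)
    let F : Subgroup (P : Subgroup G) :=
      { carrier := {x | a x = x}
        one_mem' := map_one a
        mul_mem' := fun {x y} hx hy => by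
          simp only [Set.mem_ofPred_eq] at hx hy ⊢; rw [map_mul, hx, hy]
        inv_mem' := fun {x} hx => by simp only [Set.mem_ofPred_eq] at hx ⊢; rw [map_inv, hx] }
    have hF : MulAction.fixedPoints A (P : Subgroup G) = (F : Set (P : Subgroup G)) := by
      ext x
      refine ⟨fun h => h ⟨a, Subgroup.mem_zpowers a⟩, fun h => ?_⟩
      rintro ⟨b, hb⟩
      obtain ⟨n, rfl⟩ := Subgroup.mem_zpowers_iff.mp hb
      exact zpow_mem (MulAction.mem_stabilizer_iff.mpr h :
        a ∈ MulAction.stabilizer (MulAut (P : Subgroup G)) x) n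
    rw [hF] at hmod
    have hFd := F.card_subgroup_dvd_card
    rw [show Nat.card (P : Subgroup G) = p ^ 2 from hP] at hFd hmod
    obtain ⟨i, hi, hFi⟩ := (Nat.dvd_prime_pow hp).mp hFd
    change p ^ 2 ≡ Nat.card F [MOD l] at hmod
    rw [hFi] at hmod
    have hsub : ∀ {u v : ℕ}, v ≤ u → u ≡ v [MOD l] → l ∣ u - v := fun huv h =>
      (Nat.modEq_iff_dvd' huv).mp h.symm
    have hp2 := hp.two_le
    interval_cases i
    · rw [pow_zero] at hmod
      have h := hsub (Nat.one_le_pow _ _ hp.pos) hmod
      rw [show p ^ 2 - 1 = (p + 1) * (p - 1) by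
        have := Nat.sq_sub_sq p 1; simpa using this, hlp.dvd_mul] at h
      rcases h with h | h
      · have hle' := Nat.le_of_dvd (by omega) h
        have hlp1 : l = p + 1 := by omega
        rcases Nat.Prime.eq_two_or_odd' hp with h2 | h2
        · exact ⟨h2, by omega⟩
        · rcases Nat.Prime.eq_two_or_odd' hlp with h3 | h3
          · omega
          · obtain ⟨u, hu⟩ := h2; obtain ⟨v, hv⟩ := h3; omega
      · have := Nat.le_of_dvd (by omega) h; omega
    · rw [pow_one] at hmod
      have h := hsub (Nat.le_self_pow two_ne_zero p) hmod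
      rw [show p ^ 2 - p = p * (p - 1) by rw [Nat.mul_sub, mul_one, sq], hlp.dvd_mul] at h
      rcases h with h | h <;> have := Nat.le_of_dvd (by omega) h <;> omega
    · exfalso
      have hFtop : F = ⊤ := Subgroup.eq_top_of_card_eq F (by rw [hFi]; exact hP.symm)
      have : a = 1 := MulEquiv.ext fun x => (hFtop ▸ Subgroup.mem_top x : x ∈ F)
      rw [this, orderOf_one] at ha
      exact hlp.ne_one ha.symm
  obtain ⟨rfl, hl3⟩ := hl3
  -- the order is 12 t for a prime t > 3
  obtain ⟨t, ht, hGt, ht3⟩ : ∃ t, Nat.Prime t ∧ Nat.card G = 12 * t ∧ t ≠ 3 ∧ 2 < t := by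
    rcases hl' with h | h
    · exact ⟨r, hr, by rw [hG, ← h, hl3]; ring, by omega, hlt.2⟩
    · exact ⟨q, hq, by rw [hG, ← h, hl3]; ring, by omega, hlt.1⟩
  have : Fact t.Prime := ⟨ht⟩
  have hnd : ¬ t ∣ 12 := fun hd => by
    have := (show ∀ d ∈ Nat.divisors 12, d.Prime → d = 2 ∨ d = 3 from by decide +kernel) t
      (Nat.mem_divisors.mpr ⟨hd, by norm_num⟩) ht
    omega
  have hm := CfsgLib.Small.card_sylow_mem (p := t) hnc (k := 1) (m := 12) one_ne_zero
    (by rw [hGt]; ring) hnd
  rw [Finset.mem_filter, Nat.mem_divisors] at hm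
  obtain ⟨⟨hm1, -⟩, hm2, hm3⟩ := hm
  have htle : t ≤ 11 := by
    have := Nat.le_of_dvd (by norm_num) hm1
    have hd := Nat.div_add_mod (Nat.card (Sylow t G)) t
    rw [hm2] at hd
    rcases Nat.eq_zero_or_pos (Nat.card (Sylow t G) / t) with h | h
    · rw [h] at hd; omega
    · have h' : t * 1 ≤ t * (Nat.card (Sylow t G) / t) := Nat.mul_le_mul_left t h
      omega
  have hn : Nat.card (Sylow t G) ∈ (Nat.divisors 12).filter fun n => n % t = 1 ∧ 1 < n :=
    Finset.mem_filter.mpr ⟨Nat.mem_divisors.mpr ⟨hm1, by norm_num⟩, hm2, hm3⟩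
  obtain ⟨ht3, ht2⟩ := ht3
  interval_cases t
  · omega
  · norm_num at ht
  · omega
  · norm_num at ht
  · rw [show (Nat.divisors 12).filter (fun n => n % 7 = 1 ∧ 1 < n) = ∅ from by decide +kernel] at hn
    simp at hn
  · norm_num at ht
  · norm_num at ht
  · norm_num at ht
  · -- order 132
    exfalso
    rw [show (Nat.divisors 12).filter (fun n => n % 11 = 1 ∧ 1 < n) = {12} from by decide +kernel,
      Finset.mem_singleton] at hn
    have : Fact (Nat.Prime 3) := ⟨Nat.prime_three⟩
    have h3 := CfsgLib.Small.card_sylow_mem (p := 3) hnc (k := 1) (m := 44) one_ne_zero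
      (by rw [hGt]; norm_num) (by norm_num)
    rw [show (Nat.divisors 44).filter (fun n => n % 3 = 1 ∧ 1 < n) = {4, 22} from by decide +kernel]
      at h3
    simp only [Finset.mem_insert, Finset.mem_singleton] at h3
    rcases h3 with h3 | h3
    · have := CfsgLib.Small.two_mul_card_dvd_factorial_card_sylow hnc (p := 3)
        (by rw [hGt]; norm_num)
      rw [h3, hGt] at this
      norm_num [Nat.factorial] at this
    · have hsum := CfsgLib.Small.sum_card_orderOf_le (G := G) {3, 11}
      rw [Finset.sum_insert (by norm_num), Finset.sum_singleton,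
        CfsgLib.Small.card_orderOf_eq_prime (fun S => by
          simpa using CfsgLib.Small.card_sylow_of_card_eq (k := 1) (m := 44)
            (by rw [hGt]; norm_num) (by norm_num) S),
        CfsgLib.Small.card_orderOf_eq_prime (fun S => by
          simpa using CfsgLib.Small.card_sylow_of_card_eq (k := 1) (m := 12)
            (by rw [hGt]; norm_num) (by norm_num) S), h3, hn, hGt] at hsum
      norm_num at hsum

end Cfsg.Agent.S0988
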