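import Cfsg.Statements.S0989
import Cfsg.Agent.Lib.Small.Basic

set_option autoImplicit false
open Cfsg

namespace Cfsg.Agent.S0989

/-- In the symmetric group on p or p + 1 letters, p a prime, the normalizer of a Sylow p-subgroup has order p * (p - 1). -/
theorem result {α : Type*} [Fintype α] [DecidableEq α] (p : ℕ) [Fact p.Prime] (hα : Fintype.card α = p ∨ Fintype.card α = p + 1) (P : Sylow p (Equiv.Perm α)) : Nat.card ↥(Subgroup.normalizer ((P : Subgroup (Equiv.Perm α)) : Set (Equiv.Perm α))) = p * (p - 1) := by
  classical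
  have hp := (Fact.out : p.Prime)
  have hp2 := hp.two_le
  have hn : Nat.card (Equiv.Perm α) = (Fintype.card α).factorial := by
    rw [Nat.card_perm, Nat.card_eq_fintype_card]
  obtain ⟨m, hm, hpm⟩ : ∃ m, Nat.card (Equiv.Perm α) = p ^ 1 * m ∧ ¬ p ∣ m := by
    rw [hn]
    rcases hα with h | h
    · exact ⟨(p - 1).factorial, by rw [h, pow_one, Nat.mul_factorial_pred hp.ne_zero],
        fun hd => by have := hp.dvd_factorial.mp hd; omega⟩
    · refine ⟨(p + 1) * (p - 1).factorial, ?_, fun hd => ?_⟩
      · rw [h, Nat.factorial_succ, ← Nat.mul_factorial_pred hp.ne_zero]; ring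
      · rcases hp.dvd_mul.mp hd with hd | hd
        · rw [Nat.dvd_add_right dvd_rfl, Nat.dvd_one] at hd; omega
        · have := hp.dvd_factorial.mp hd; omega
  have hP : ∀ S : Sylow p (Equiv.Perm α), Nat.card S = p := fun S => by
    simpa using CfsgLib.Small.card_sylow_of_card_eq hm hpm S
  have hcount := CfsgLib.Small.card_orderOf_eq_prime hP
  have hiff : ∀ g : Equiv.Perm α, orderOf g = p ↔ g.cycleType = {p} := by
    intro g
    constructor
    · intro hg
      obtain ⟨k, hk⟩ := Equiv.Perm.cycleType_prime_order (hg.symm ▸ hp : (orderOf g).Prime)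
      rw [hg] at hk
      have hle : g.cycleType.sum ≤ Fintype.card α := by
        rw [Equiv.Perm.sum_cycleType]; exact Finset.card_le_univ _
      rw [hk, Multiset.sum_replicate, smul_eq_mul] at hle
      rcases k with _ | k
      · rw [hk]; rfl
      · have : 2 * p ≤ (k + 1 + 1) * p := Nat.mul_le_mul_right p (by omega)
        omega
    · intro hg
      rw [← Equiv.Perm.lcm_cycleType, hg]
      simp
  have hcyc : Nat.card {g : Equiv.Perm α // orderOf g = p} * p = (Fintype.card α).factorial := by
    rw [Nat.card_congr (Equiv.subtypeEquivRight hiff), Nat.card_eq_fintype_card,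
      Fintype.card_subtype]
    have := Equiv.Perm.card_of_cycleType_mul_eq (α := α) {p}
    rw [if_pos (by simp; omega)] at this
    have hf : (Fintype.card α - p).factorial = 1 := Nat.factorial_eq_one.mpr (by omega)
    simp only [Multiset.sum_singleton, hf, Multiset.prod_singleton, Multiset.toFinset_singleton,
      Finset.prod_singleton, Multiset.count_singleton_self, Nat.factorial_one, one_mul,
      mul_one] at this
    exact this
  have hN := CfsgLib.Small.card_normalizer_mul_card_sylow P
  rw [hn, ← hcyc, hcount] at hN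
  refine Nat.eq_of_mul_eq_mul_right (Nat.card_pos (α := Sylow p (Equiv.Perm α))) ?_
  rw [hN]; ring

end Cfsg.Agent.S0989
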