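import Cfsg.Statements.S0990
import Cfsg.Agent.Lib.Small.Basic

set_option autoImplicit false
open Cfsg

namespace Cfsg.Agent.S0990

/-- Let p be an odd prime and P a Sylow p-subgroup of the symmetric group on a finite set with at least two elements. Then P is contained in the alternating group, and twice the order of the normalizer of P inside the alternating group equals the order of the normalizer of P in the symmetric group. -/
theorem result {α : Type*} [Fintype α] [DecidableEq α] (hα : 2 ≤ Fintype.card α) (p : ℕ) [Fact p.Prime] (hp : p ≠ 2) (P : Sylow p (Equiv.Perm α)) : (P : Subgroup (Equiv.Perm α)) ≤ alternatingGroup α ∧ 2 * Nat.card ↥(Subgroup.normalizer ((((P : Subgroup (Equiv.Perm α)).subgroupOf (alternatingGroup α) : Subgroup ↥(alternatingGroup α)) : Set ↥(alternatingGroup α)))) = Nat.card ↥(Subgroup.normalizer ((P : Subgroup (Equiv.Perm α)) : Set (Equiv.Perm α))) := by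
  classical
  have : Nontrivial α := Fintype.one_lt_card_iff_nontrivial.mp hα
  set A := alternatingGroup α with hA
  have hodd : Odd p := (Fact.out : p.Prime).odd_of_ne_two hp
  have hle : (P : Subgroup (Equiv.Perm α)) ≤ A := by
    intro x hx
    rw [hA, Equiv.Perm.mem_alternatingGroup]
    obtain ⟨k, hk⟩ := P.2 ⟨x, hx⟩
    have h1 : x ^ p ^ k = 1 := congrArg Subtype.val hk
    have h2 : Equiv.Perm.sign x ^ p ^ k = 1 := by rw [← map_pow, h1, map_one]
    rcases Int.units_eq_one_or (Equiv.Perm.sign x) with h | h
    · exact h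
    · rw [h, (hodd.pow).neg_one_pow] at h2
      exact absurd h2 (by decide)
  refine ⟨hle, ?_⟩
  rw [← Subgroup.subgroupOf_normalizer_eq hle]
  have hs := Sylow.normalizer_sup_eq_top' P hle
  have hrel : A.relIndex (Subgroup.normalizer ((P : Subgroup (Equiv.Perm α)) : Set (Equiv.Perm α)))
      = 2 := by
    have hdiv := Subgroup.relIndex_dvd_index_of_normal A
      (Subgroup.normalizer ((P : Subgroup (Equiv.Perm α)) : Set (Equiv.Perm α)))
    rw [hA, alternatingGroup.index_eq_two] at hdiv
    rcases (Nat.dvd_prime Nat.prime_two).mp hdiv with h | h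
    · exfalso
      rw [Subgroup.relIndex_eq_one] at h
      rw [← hA] at h
      have : A = ⊤ := top_le_iff.mp (hs ▸ sup_le h le_rfl)
      have hi := alternatingGroup.index_eq_two (α := α)
      rw [← hA, this, Subgroup.index_top] at hi
      omega
    · exact h
  set N := Subgroup.normalizer ((P : Subgroup (Equiv.Perm α)) : Set (Equiv.Perm α))
  rw [← Subgroup.inf_subgroupOf_right, Nat.card_congr
    (Subgroup.subgroupOfEquivOfLe (inf_le_right : N ⊓ A ≤ A)).toEquiv, mul_comm, ← hrel,
    ← Subgroup.inf_relIndex_right, inf_comm A N, ← Subgroup.relIndex_bot_left,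
    ← Subgroup.relIndex_bot_left, Subgroup.relIndex_mul_relIndex ⊥ _ _ bot_le inf_le_left]

end Cfsg.Agent.S0990
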