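import Cfsg.Statements.S0994
import Cfsg.Agent.Lib.Small.Basic

set_option autoImplicit false
open Cfsg

namespace Cfsg.Agent.S0994

/-- No finite simple group has order 1188 = 2^2 * 3^3 * 11. -/
theorem result {G : Type*} [Group G] [Finite G] [IsSimpleGroup G] : Nat.card G ≠ 1188 := by
  intro h
  have hG := CfsgLib.Small.nc_of_not_prime (G := G) (by rw [h]; norm_num)
  have : Fact (Nat.Prime 11) := ⟨by norm_num⟩
  have hm := CfsgLib.Small.card_sylow_mem (p := 11) hG (k := 1) (m := 108) one_ne_zero
    (by rw [h]; norm_num) (by norm_num)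
  rw [show ((Nat.divisors 108).filter fun n => n % 11 = 1 ∧ 1 < n) = {12} from by decide,
    Finset.mem_singleton] at hm
  obtain ⟨P⟩ := (inferInstance : Nonempty (Sylow 11 G))
  obtain ⟨e, he1, he2, -, -, he5⟩ := CfsgLib.Small.sylow_prime_order_data hG P
    (CfsgLib.Small.card_sylow_of_card_eq (k := 1) (m := 108) (by rw [h]; norm_num) (by norm_num) P)
  rw [hm, h] at he5
  have he : e ∣ Nat.gcd (11 - 1) 99 := Nat.dvd_gcd he2 ⟨Nat.card (Subgroup.centralizer
    ((P : Subgroup G) : Set G)), by linarith⟩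
  norm_num at he
  omega

end Cfsg.Agent.S0994
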