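import Cfsg.Statements.S0995
import Cfsg.Agent.Lib.SelfCentral.Basic
import Cfsg.Agent.Lib.Small.Basic

set_option autoImplicit false
open Cfsg

namespace Cfsg.Agent.S0995

/-- Let G be a finite perfect group containing an element z of prime order p whose centralizer is the cyclic group it generates. Let t be the number of conjugacy classes of elements of order p. Then t divides p - 1, the number of Sylow p-subgroups has the form 1 + n * p, and |G| * t = (p - 1) * p * (1 + n * p). -/
theorem result {G : Type*} [Group G] [Finite G] (hperf : commutator G = ⊤) (p : ℕ) [Fact p.Prime] (z : G) (hz : orderOf z = p) (hC : Subgroup.centralizer ({z} : Set G) = Subgroup.zpowers z) : ∃ n t : ℕ, t = Nat.card {c : ConjClasses G // ∃ g : G, ConjClasses.mk g = c ∧ orderOf g = p} ∧ t ∣ p - 1 ∧ Nat.card (Sylow p G) = 1 + n * p ∧ Nat.card G * t = (p - 1) * p * (1 + n * p) := by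
  have hp := (Fact.out : p.Prime)
  have h : CfsgLib.SelfCentral.SC p z := ⟨hp, hz, hC⟩
  set t := Nat.card {c : ConjClasses G // ∃ g : G, ConjClasses.mk g = c ∧ orderOf g = p} with ht
  have ht' : Nat.card {C : ConjClasses G // ∃ g ∈ C.carrier, orderOf g = p} = t := by
    refine Nat.card_congr (Equiv.subtypeEquivRight fun c => exists_congr fun g => ?_)
    rw [ConjClasses.mem_carrier_iff_mk_eq]
  have hcount := h.class_count ht'
  obtain ⟨P, hP⟩ := h.exists_sylow
  have hN := CfsgLib.Small.card_normalizer_mul_card_sylow P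
  rw [hP] at hN
  have hpN : p ∣ Nat.card (Subgroup.normalizer (Subgroup.zpowers z : Set G)) :=
    h.card_zpowers ▸ Subgroup.card_dvd_of_le Subgroup.le_normalizer
  have hmod := card_sylow_modEq_one p G
  rw [Nat.ModEq, Nat.mod_eq_of_lt hp.one_lt] at hmod
  have hdm := Nat.div_add_mod (Nat.card (Sylow p G)) p
  rw [hmod] at hdm
  refine ⟨Nat.card (Sylow p G) / p, t, rfl, ?_, by rw [mul_comm _ p]; omega, ?_⟩
  · obtain ⟨e, he⟩ := hpN
    rw [he] at hcount
    exact Dvd.intro e (Nat.eq_of_mul_eq_mul_left hp.pos (by rw [← hcount]; ring))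
  · have h1 : 1 + Nat.card (Sylow p G) / p * p = Nat.card (Sylow p G) := by
      rw [mul_comm _ p]; omega
    rw [h1, ← hN, mul_comm (p - 1) p, ← hcount]; ring

end Cfsg.Agent.S0995
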