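import Cfsg.Statements.S1001
import Cfsg.Agent.Lib.Blocks.PrincipalDegree
import Cfsg.Agent.Lib.Characters.Burnside
import Cfsg.Agent.Lib.Small.Basic

set_option autoImplicit false
open Cfsg

namespace Cfsg.Agent.S1001

/-- In a finite simple group whose order has the form p * 3^a * 2^b with p prime, the centralizer of any element of order p is the cyclic group it generates. -/
theorem result {G : Type*} [Group G] [Finite G] [IsSimpleGroup G] (p a b : ℕ) (hp : p.Prime) (hG : Nat.card G = p * 3 ^ a * 2 ^ b) (x : G) (hx : orderOf x = p) : Subgroup.centralizer ({x} : Set G) = Subgroup.zpowers x := by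
  classical
  have : Fact p.Prime := ⟨hp⟩
  by_cases h23 : p = 2 ∨ p = 3
  · -- the order involves only two primes, so `G` is cyclic of prime order
    have hsolv : IsSolvable G := by
      rcases h23 with rfl | rfl
      · exact CfsgLib.Burnside.isSolvable_of_card_eq Nat.prime_two Nat.prime_three (a := b + 1) (b := a) (by rw [hG]; ring)
      · exact CfsgLib.Burnside.isSolvable_of_card_eq Nat.prime_three Nat.prime_two (a := a + 1) (b := b) (by rw [hG]; ring)
    have hcomm : ∀ g h : G, g * h = h * g := IsSimpleGroup.comm_iff_isSolvable.mpr hsolv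
    let _ : CommGroup G := { ‹Group G› with mul_comm := hcomm }
    have hprime := IsSimpleGroup.prime_card (α := G)
    have hcard : Nat.card G = p := by
      refine ((Nat.prime_dvd_prime_iff_eq hp hprime).mp ?_).symm
      exact hx ▸ orderOf_dvd_natCard x
    have htop : Subgroup.zpowers x = ⊤ :=
      Subgroup.eq_top_of_card_eq _ (by rw [Nat.card_zpowers, hx, hcard])
    rw [htop]
    exact eq_top_iff.mpr fun g _ => Subgroup.mem_centralizer_singleton_iff.mpr (hcomm g x)
  push Not at h23
  have hP : ∀ Q : Sylow p G, Nat.card Q = p := fun Q => by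
    simpa using CfsgLib.Small.card_sylow_of_card_eq (k := 1) (m := 3 ^ a * 2 ^ b)
      (by rw [hG, pow_one, mul_assoc]) (fun h => by
        rcases (Nat.Prime.dvd_mul hp).mp h with h | h
        · exact h23.2 ((Nat.prime_dvd_prime_iff_eq hp Nat.prime_three).mp (hp.dvd_of_dvd_pow h))
        · exact h23.1 ((Nat.prime_dvd_prime_iff_eq hp Nat.prime_two).mp (hp.dvd_of_dvd_pow h))) Q
  obtain ⟨S, hxS, -⟩ := CfsgLib.Small.exists_unique_sylow_mem hx hP
  have hz := CfsgLib.Small.eq_zpowers_of_mem (hP S) hxS
    (fun e => by rw [e, orderOf_one] at hx; exact hp.ne_one hx.symm)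
  letI := Fintype.ofFinite G
  have hC := CfsgLib.Blocks.centralizer_sylow_eq (G := G) Nat.prime_three Nat.prime_two (by norm_num)
    (Ne.symm h23.2) (Ne.symm h23.1) (a := a) (b := b) (by rw [hG]; ring) S
  rw [← hz, ← hC]
  refine le_antisymm (fun g hg => ?_) (fun g hg => ?_)
  · show g ∈ Subgroup.centralizer ((S : Subgroup G) : Set G)
    rw [hz, Subgroup.mem_centralizer_iff]
    intro y hy
    obtain ⟨k, rfl⟩ := Subgroup.mem_zpowers_iff.mp hy
    exact ((show Commute g x from Subgroup.mem_centralizer_singleton_iff.mp hg).zpow_right k).symm.eq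
  · exact Subgroup.mem_centralizer_singleton_iff.mpr (Subgroup.mem_centralizer_iff.mp hg x hxS).symm

end Cfsg.Agent.S1001
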