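import Cfsg.Statements.S1005
import Cfsg.Agent.Lib.Small.Order168

set_option autoImplicit false
open Cfsg

namespace Cfsg.Agent.S1005

/-- In a simple group of order 168 every element has order 1, 2, 3, 4 or 7; there are exactly 21 elements of order 2, and any two of them are conjugate. -/
theorem result {G : Type*} [Group G] [Finite G] [IsSimpleGroup G] (h : Nat.card G = 168) : (∀ g : G, orderOf g = 1 ∨ orderOf g = 2 ∨ orderOf g = 3 ∨ orderOf g = 4 ∨ orderOf g = 7) ∧ Nat.card {g : G // orderOf g = 2} = 21 ∧ ∀ s t : G, orderOf s = 2 → orderOf t = 2 → IsConj s t := by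
  have : Fact (Nat.Prime 2) := ⟨Nat.prime_two⟩
  refine ⟨fun g => ?_, CfsgLib.Small.Order168.card_orderOf_two h, fun s t hs ht => ?_⟩
  · have := CfsgLib.Small.Order168.orderOf_mem h g
    simp only [Finset.mem_insert, Finset.mem_singleton] at this
    exact this
  · obtain ⟨S, hS, x, hx, hxo, rfl⟩ := CfsgLib.Small.Order168.exists_sylow_eq_centralizer h hs
    obtain ⟨T, hT, y, hy, hyo, rfl⟩ := CfsgLib.Small.Order168.exists_sylow_eq_centralizer h ht
    obtain ⟨g, rfl⟩ := MulAction.exists_smul_eq G S T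
    rw [Sylow.coe_subgroup_smul, Subgroup.mem_pointwise_smul_iff_inv_smul_mem, ← map_inv,
      MulAut.smul_def, MulAut.conj_apply, inv_inv] at hy
    -- `g⁻¹ y g` is an element of order 4 of `S`, so it has the same square as `x`
    refine isConj_iff.mpr ⟨g, ?_⟩
    have hyo' : orderOf (g⁻¹ * y * g) = 4 := by
      rw [show g⁻¹ * y * g = MulAut.conj g⁻¹ y by simp, MulEquiv.orderOf_eq, hyo]
    suffices (g⁻¹ * y * g) * (g⁻¹ * y * g) = x * x by rw [← this]; simp [mul_assoc]
    by_contra hne
    have hcard := CfsgLib.Small.Order168.dihedral_card_four h S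
    have hxi : orderOf x⁻¹ = 4 := by rw [orderOf_inv, hxo]
    let f : Fin 3 → {t : (S : Subgroup G) // orderOf t = 4} :=
      ![⟨⟨x, hx⟩, by rw [Subgroup.orderOf_mk]; exact hxo⟩,
        ⟨⟨x⁻¹, inv_mem hx⟩, by rw [Subgroup.orderOf_mk]; exact hxi⟩,
        ⟨⟨g⁻¹ * y * g, hy⟩, by rw [Subgroup.orderOf_mk]; exact hyo'⟩]
    have h4 : x * x * (x * x) = 1 := by
      rw [← pow_two, ← pow_two, ← pow_mul]; exact orderOf_dvd_iff_pow_eq_one.mp (dvd_of_eq hxo)
    have e0 : x ≠ x⁻¹ := fun e => by
      have h2 : orderOf x ∣ 2 :=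
        orderOf_dvd_of_pow_eq_one (by rw [pow_two, ← eq_inv_iff_mul_eq_one]; exact e)
      rw [hxo] at h2; norm_num at h2
    have e1 : g⁻¹ * y * g ≠ x := fun e => hne (by rw [e])
    have e2 : g⁻¹ * y * g ≠ x⁻¹ := fun e => hne (by
      rw [e, ← mul_inv_rev, inv_eq_iff_mul_eq_one, h4])
    have hinj : Function.Injective f := by
      intro a b hab
      have hv := congrArg (fun q => ((q.1 : (S : Subgroup G)) : G)) hab
      fin_cases a <;> fin_cases b <;> simp [f] at hv ⊢
      all_goals first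
        | exact e0 hv | exact e0 hv.symm | exact e1 hv | exact e1 hv.symm | exact e2 hv
        | exact e2 hv.symm
    have := Nat.card_le_card_of_injective f hinj
    rw [hcard, Nat.card_fin] at this
    omega

end Cfsg.Agent.S1005
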