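import Cfsg.Statements.S1006
import Cfsg.Agent.Lib.Small.Order168

set_option autoImplicit false
open Cfsg

namespace Cfsg.Agent.S1006

/-- In a simple group of order 168 there are 56 elements of order 3, all conjugate; 42 elements of order 4, all conjugate; and 48 elements of order 7 falling into two conjugacy classes of size 24, an element of order 7 not being conjugate to its inverse. -/
theorem result {G : Type*} [Group G] [Finite G] [IsSimpleGroup G] (h : Nat.card G = 168) : Nat.card {g : G // orderOf g = 3} = 56 ∧ (∀ s t : G, orderOf s = 3 → orderOf t = 3 → IsConj s t) ∧ Nat.card {g : G // orderOf g = 4} = 42 ∧ (∀ s t : G, orderOf s = 4 → orderOf t = 4 → IsConj s t) ∧ Nat.card {g : G // orderOf g = 7} = 48 ∧ ∀ x : G, orderOf x = 7 → Nat.card {g : G // IsConj x g} = 24 ∧ ¬ IsConj x x⁻¹ := by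
  classical
  have : Fact (Nat.Prime 2) := ⟨Nat.prime_two⟩
  have : Fact (Nat.Prime 3) := ⟨Nat.prime_three⟩
  have : Fact (Nat.Prime 7) := ⟨by norm_num⟩
  refine ⟨CfsgLib.Small.Order168.card_orderOf_three h, ?_,
    CfsgLib.Small.Order168.card_orderOf_four h, ?_, CfsgLib.Small.Order168.card_orderOf_seven h, ?_⟩
  · intro s t hs ht
    obtain ⟨S, hS, -⟩ := CfsgLib.Small.exists_unique_sylow_mem hs
      (CfsgLib.Small.Order168.card_three h)
    obtain ⟨T, hT, -⟩ := CfsgLib.Small.exists_unique_sylow_mem ht
      (CfsgLib.Small.Order168.card_three h)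
    have hs1 : s ≠ 1 := fun e => by rw [e, orderOf_one] at hs; omega
    obtain ⟨g, rfl⟩ := MulAction.exists_smul_eq G S T
    replace hT : t ∈ ((g • S : Sylow 3 G) : Subgroup G) := hT
    rw [Sylow.coe_subgroup_smul,
      Subgroup.mem_pointwise_smul_iff_inv_smul_mem, ← map_inv, MulAut.smul_def, MulAut.conj_apply,
      inv_inv] at hT
    set u := g⁻¹ * t * g with hu
    have hut : IsConj u t := isConj_iff.mpr ⟨g, by rw [hu]; group⟩
    have huo : orderOf u = 3 := by
      rw [hu, show g⁻¹ * t * g = MulAut.conj g⁻¹ t by simp, MulEquiv.orderOf_eq, ht]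
    refine IsConj.trans ?_ hut
    -- `u` is `s` or `s⁻¹`; an element of the normaliser interchanges them
    rw [CfsgLib.Small.eq_zpowers_of_mem (CfsgLib.Small.Order168.card_three h S) hS hs1,
      mem_zpowers_iff_mem_range_orderOf, hs] at hT
    simp only [Finset.mem_image, Finset.mem_range] at hT
    obtain ⟨i, hi, hiu⟩ := hT
    interval_cases i
    · rw [pow_zero] at hiu; rw [← hiu, orderOf_one] at huo; omega
    · rw [← hiu, pow_one]
    · obtain ⟨x, hx, hxc⟩ := CfsgLib.Small.exists_mem_normalizer_notMem_centralizer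
        (CfsgLib.Small.Order168.nc h) (by rw [h]; norm_num) S
      refine isConj_iff.mpr ⟨x, ?_⟩
      have hm := (Subgroup.mem_normalizer_iff.mp hx s).mp hS
      rw [CfsgLib.Small.eq_zpowers_of_mem (CfsgLib.Small.Order168.card_three h S) hS hs1,
        mem_zpowers_iff_mem_range_orderOf, hs] at hm
      simp only [Finset.mem_image, Finset.mem_range] at hm
      obtain ⟨j, hj, hjm⟩ := hm
      interval_cases j
      · rw [pow_zero] at hjm; exact absurd (conj_eq_one_iff.mp hjm.symm) hs1
      · exfalso
        refine hxc (Subgroup.mem_centralizer_iff.mpr fun y hy => ?_)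
        rw [CfsgLib.Small.eq_zpowers_of_mem (CfsgLib.Small.Order168.card_three h S) hS hs1] at hy
        obtain ⟨n, rfl⟩ := Subgroup.mem_zpowers_iff.mp hy
        rw [pow_one, eq_mul_inv_iff_mul_eq] at hjm
        exact (Commute.zpow_left (show Commute s x from hjm) n).eq
      · rw [← hiu, hjm]
  · intro s t hs ht
    have hT : ∀ g : G, orderOf g = 4 → ∃ T : Sylow 2 G, g ∈ T := by
      intro g hg
      obtain ⟨S, hS⟩ := (IsPGroup.of_card (p := 2) (G := Subgroup.zpowers g) (n := 2)
        (by rw [Nat.card_zpowers, hg]; norm_num)).exists_le_sylow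
      exact ⟨S, hS (Subgroup.mem_zpowers g)⟩
    obtain ⟨S, hS⟩ := hT s hs
    obtain ⟨T, hTt⟩ := hT t ht
    obtain ⟨g, rfl⟩ := MulAction.exists_smul_eq G S T
    replace hTt : t ∈ ((g • S : Sylow 2 G) : Subgroup G) := hTt
    rw [Sylow.coe_subgroup_smul,
      Subgroup.mem_pointwise_smul_iff_inv_smul_mem, ← map_inv, MulAut.smul_def, MulAut.conj_apply,
      inv_inv] at hTt
    set u := g⁻¹ * t * g with hu
    have hut : IsConj u t := isConj_iff.mpr ⟨g, by rw [hu]; group⟩
    have huo : orderOf u = 4 := by
      rw [hu, show g⁻¹ * t * g = MulAut.conj g⁻¹ t by simp, MulEquiv.orderOf_eq, ht]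
    refine IsConj.trans ?_ hut
    -- in `S` the two elements of order 4 are conjugate
    obtain ⟨e⟩ := CfsgLib.Small.Order168.dihedral h S
    have key : ∀ a b : DihedralGroup 4, orderOf a = 4 → orderOf b = 4 → IsConj a b := by
      have key' : ∀ a b : DihedralGroup 4, a * a ≠ 1 → b * b ≠ 1 → ∃ c, c * a * c⁻¹ = b := by
        decide +kernel
      intro a b ha hb
      refine isConj_iff.mpr (key' a b ?_ ?_) <;> intro hh
      · have := orderOf_dvd_of_pow_eq_one (show a ^ 2 = 1 by rw [pow_two, hh])
        rw [ha] at this; norm_num at this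
      · have := orderOf_dvd_of_pow_eq_one (show b ^ 2 = 1 by rw [pow_two, hh])
        rw [hb] at this; norm_num at this
    obtain ⟨c, hc⟩ := isConj_iff.mp (key (e ⟨s, hS⟩) (e ⟨u, hTt⟩)
      (by rw [MulEquiv.orderOf_eq, Subgroup.orderOf_mk, hs])
      (by rw [MulEquiv.orderOf_eq, Subgroup.orderOf_mk, huo]))
    refine isConj_iff.mpr ⟨((e.symm c : (S : Subgroup G)) : G), ?_⟩
    have := congrArg (fun d => ((e.symm d : (S : Subgroup G)) : G)) hc
    simpa [map_mul, map_inv] using this
  · intro x hx
    obtain ⟨P, hP, huniq⟩ := CfsgLib.Small.exists_unique_sylow_mem hx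
      (CfsgLib.Small.Order168.card_seven h)
    have hx1 : x ≠ 1 := fun e => by rw [e, orderOf_one] at hx; omega
    refine ⟨?_, ?_⟩
    · have hC : Subgroup.centralizer ({x} : Set G) =
          Subgroup.centralizer ((P : Subgroup G) : Set G) := by
        ext g
        rw [Subgroup.mem_centralizer_singleton_iff, Subgroup.mem_centralizer_iff]
        constructor
        · intro hg y hy
          rw [CfsgLib.Small.eq_zpowers_of_mem (CfsgLib.Small.Order168.card_seven h P) hP hx1] at hy
          obtain ⟨n, rfl⟩ := Subgroup.mem_zpowers_iff.mp hy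
          exact (Commute.zpow_left (show Commute x g from hg.symm) n).eq
        · intro hg; exact (hg x hP).symm
      have h1 := MulAction.index_stabilizer (ConjAct G) x
      rw [ConjAct.orbit_eq_carrier_conjClasses, ConjAct.stabilizer_eq_centralizer] at h1
      have h2 := Subgroup.card_mul_index (Subgroup.centralizer ({x} : Set G))
      rw [hC, (CfsgLib.Small.Order168.normalizer_seven h P).2, h] at h2
      have h3 : {g : G | IsConj x g} = (ConjClasses.mk x).carrier := by
        ext g
        rw [ConjClasses.mem_carrier_iff_mk_eq, ConjClasses.mk_eq_mk_iff_isConj]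
        exact ⟨fun hh => hh.symm, fun hh => hh.symm⟩
      change Nat.card {g : G | IsConj x g} = 24
      rw [h3, Nat.card_coe_set_eq, ← h1]
      show (Subgroup.centralizer ({x} : Set G)).index = 24
      rw [hC]; omega
    · intro hcj
      obtain ⟨g, hg⟩ := isConj_iff.mp hcj
      have h2 : g * g * x * (g * g)⁻¹ = x := by
        calc g * g * x * (g * g)⁻¹ = g * (g * x * g⁻¹) * g⁻¹ := by group
          _ = x := by rw [hg, ← conj_inv, hg, inv_inv]
      have hd := CfsgLib.Small.Order168.orderOf_dvd_of_commute (Or.inr rfl) h hx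
        (show Commute (g * g) x from mul_inv_eq_iff_eq_mul.mp h2)
      rw [← pow_two] at hd
      have hg2 : g ^ 2 = 1 ∨ orderOf (g ^ 2) = 7 := by
        rcases (Nat.dvd_prime (by norm_num)).mp hd with e | e
        · exact Or.inl (orderOf_eq_one_iff.mp e)
        · exact Or.inr e
      have hcomm : Commute g x → False := fun hc => by
        rw [hc.eq, mul_inv_cancel_right] at hg
        have h3 : orderOf x ∣ 2 :=
          orderOf_dvd_of_pow_eq_one (by rw [pow_two, ← eq_inv_iff_mul_eq_one]; exact hg)
        rw [hx] at h3; norm_num at h3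
      have hmem := CfsgLib.Small.Order168.orderOf_mem h g
      simp only [Finset.mem_insert, Finset.mem_singleton] at hmem
      rcases hg2 with hg2 | hg2
      · -- an involution inverting `x` would normalise `P`
        have hgN : g ∈ Subgroup.normalizer ((P : Subgroup G) : Set G) := by
          refine Sylow.smul_eq_iff_mem_normalizer.mp (huniq (g • P) ?_)
          show x ∈ ((g • P : Sylow 7 G) : Subgroup G)
          rw [Sylow.coe_subgroup_smul,
            Subgroup.mem_pointwise_smul_iff_inv_smul_mem, ← map_inv, MulAut.smul_def,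
            MulAut.conj_apply, inv_inv]
          have hgi : g⁻¹ = g := inv_eq_of_mul_eq_one_left (by rw [← pow_two, hg2])
          rw [hgi]; rw [hgi] at hg; rw [hg]; exact inv_mem hP
        have hd2 := orderOf_dvd_natCard (⟨g, hgN⟩ :
          Subgroup.normalizer ((P : Subgroup G) : Set G))
        rw [Subgroup.orderOf_mk, (CfsgLib.Small.Order168.normalizer_seven h P).1] at hd2
        have h1 : orderOf g ∣ Nat.gcd 21 2 :=
          Nat.dvd_gcd hd2 (orderOf_dvd_of_pow_eq_one hg2)
        norm_num at h1
        exact hcomm (by rw [h1]; exact Commute.one_left x)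
      · have hg7 : orderOf g = 7 := by
          rw [orderOf_pow] at hg2
          rcases hmem with e | e | e | e | e <;> rw [e] at hg2 ⊢ <;> norm_num at hg2
        have hpow : g = (g * g) ^ 4 := by
          rw [← pow_two, ← pow_mul, show 2 * 4 = orderOf g + 1 by rw [hg7], pow_succ,
            pow_orderOf_eq_one, one_mul]
        exact hcomm (hpow ▸ (show Commute (g * g) x from mul_inv_eq_iff_eq_mul.mp h2).pow_left 4)

end Cfsg.Agent.S1006
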