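import Cfsg.Statements.S1007
import Cfsg.Agent.Lib.Small.Order168Klein

set_option autoImplicit false
open Cfsg

namespace Cfsg.Agent.S1007

/-- Let G be a simple group of order 168 and T a Sylow 2-subgroup. Then T contains exactly two subgroups that are Klein four-groups; they are not conjugate in G; and the normalizer of every Klein four-subgroup of G is isomorphic to the symmetric group of degree 4. -/
theorem result {G : Type*} [Group G] [Finite G] [IsSimpleGroup G] (h : Nat.card G = 168) (T : Sylow 2 G) : Nat.card {U : Subgroup G // U ≤ (T : Subgroup G) ∧ IsKleinFour ↥U} = 2 ∧ (∀ U W : Subgroup G, U ≤ (T : Subgroup G) → W ≤ (T : Subgroup G) → IsKleinFour ↥U → IsKleinFour ↥W → U ≠ W → ∀ g : G, U.map (MulAut.conj g).toMonoidHom ≠ W) ∧ ∀ U : Subgroup G, IsKleinFour ↥U → Nonempty (↥(Subgroup.normalizer (U : Set G)) ≃* Equiv.Perm (Fin 4)) := by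
  have : Fact (Nat.Prime 2) := ⟨Nat.prime_two⟩
  obtain ⟨A, B, hAB, hAT, hBT, hA, hB, hall⟩ := CfsgLib.Small.Order168.exists_two_klein h T
  refine ⟨?_, fun U W hU hW hUk hWk hne g hg =>
    hne (CfsgLib.Small.Order168.klein_conj_eq h hU hW hUk hWk g hg),
    fun U hU => CfsgLib.Small.Order168.normalizer_klein_equiv h hU⟩
  let f : Fin 2 → {U : Subgroup G // U ≤ (T : Subgroup G) ∧ IsKleinFour ↥U} :=
    ![⟨A, hAT, hA⟩, ⟨B, hBT, hB⟩]
  have hf : Function.Bijective f := by
    constructor
    · intro i j hij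
      have h' := congrArg Subtype.val hij
      fin_cases i <;> fin_cases j <;> simp [f] at h' ⊢
      · exact hAB h'
      · exact hAB h'.symm
    · rintro ⟨V, hV, hK⟩
      rcases hall V hV hK with rfl | rfl
      · exact ⟨0, rfl⟩
      · exact ⟨1, rfl⟩
  rw [← Nat.card_congr (Equiv.ofBijective f hf), Nat.card_fin]

end Cfsg.Agent.S1007
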