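import Cfsg.Statements.S1008
import Cfsg.Agent.Lib.Small.Order168Klein

set_option autoImplicit false
open Cfsg

namespace Cfsg.Agent.S1008

/-- The list of elements of the normal Klein four-subgroup of `S₄`. -/
def klV4List : List (Equiv.Perm (Fin 4)) :=
  [1, Equiv.swap 0 1 * Equiv.swap 2 3, Equiv.swap 0 2 * Equiv.swap 1 3,
    Equiv.swap 0 3 * Equiv.swap 1 2]

theorem klV4List_mul : ∀ a ∈ klV4List, ∀ b ∈ klV4List, a * b ∈ klV4List := by decide +kernel

theorem klV4List_inv : ∀ a ∈ klV4List, a⁻¹ ∈ klV4List := by decide +kernel

theorem klV4List_conj : ∀ g : Equiv.Perm (Fin 4), ∀ a ∈ klV4List, g * a * g⁻¹ ∈ klV4List := by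
  decide +kernel

theorem klV4List_sq : ∀ a ∈ klV4List, a * a = 1 := by decide +kernel

/-- The normal Klein four-subgroup of `S₄`. -/
def klV4 : Subgroup (Equiv.Perm (Fin 4)) where
  carrier := {σ | σ ∈ klV4List}
  one_mem' := List.mem_cons_self
  mul_mem' := fun {a b} ha hb => klV4List_mul a ha b hb
  inv_mem' := fun {a} ha => klV4List_inv a ha

theorem klV4_conj (g a : Equiv.Perm (Fin 4)) (ha : a ∈ klV4) : g * a * g⁻¹ ∈ klV4 :=
  klV4List_conj g a ha

theorem klV4_sq (a : Equiv.Perm (Fin 4)) (ha : a ∈ klV4) : a * a = 1 := klV4List_sq a ha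

theorem klV4_card : Nat.card klV4 = 4 := by
  have e : klV4 ≃ {σ // σ ∈ klV4List.toFinset} :=
    Equiv.subtypeEquivRight fun σ => (List.mem_toFinset (l := klV4List) (a := σ)).symm
  rw [Nat.card_congr e, Nat.card_eq_fintype_card, Fintype.card_coe]
  decide +kernel

/-- In a simple group of order 168 every maximal subgroup is either isomorphic to the symmetric group of degree 4 or non-abelian of order 21; the maximal subgroups of order 21 form one conjugacy class and those isomorphic to the symmetric group of degree 4 form exactly two conjugacy classes. -/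
theorem result {G : Type*} [Group G] [Finite G] [IsSimpleGroup G] (h : Nat.card G = 168) : (∀ M : Subgroup G, IsCoatom M → Nonempty (↥M ≃* Equiv.Perm (Fin 4)) ∨ (Nat.card ↥M = 21 ∧ ¬ IsMulCommutative ↥M)) ∧ (∀ M M' : Subgroup G, IsCoatom M → IsCoatom M' → Nat.card ↥M = 21 → Nat.card ↥M' = 21 → ∃ g : G, M' = M.map (MulAut.conj g).toMonoidHom) ∧ ∃ M₁ M₂ : Subgroup G, IsCoatom M₁ ∧ IsCoatom M₂ ∧ Nonempty (↥M₁ ≃* Equiv.Perm (Fin 4)) ∧ Nonempty (↥M₂ ≃* Equiv.Perm (Fin 4)) ∧ (∀ g : G, M₂ ≠ M₁.map (MulAut.conj g).toMonoidHom) ∧ ∀ M : Subgroup G, IsCoatom M → Nonempty (↥M ≃* Equiv.Perm (Fin 4)) → ∃ g : G, M = M₁.map (MulAut.conj g).toMonoidHom ∨ M = M₂.map (MulAut.conj g).toMonoidHom := by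
  classical
  have : Fact (Nat.Prime 2) := ⟨Nat.prime_two⟩
  have : Fact (Nat.Prime 3) := ⟨Nat.prime_three⟩
  have : Fact (Nat.Prime 7) := ⟨by norm_num⟩
  have hnc := CfsgLib.Small.Order168.nc h
  have no6 : ∀ (M : Subgroup G) (x : M), orderOf x ≠ 6 := fun M x hx => by
    have := CfsgLib.Small.Order168.orderOf_mem h (x : G)
    rw [Subgroup.orderOf_coe, hx] at this
    simp at this
  -- subgroups with order a multiple of 7
  have h7 : ∀ M : Subgroup G, M ≠ ⊤ → 7 ∣ Nat.card M →
      ∃ P : Sylow 7 G, M ≤ Subgroup.normalizer ((P : Subgroup G) : Set G) := by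
    intro M hM hd
    have hMd : Nat.card M ∈ (Nat.divisors 168).filter fun d => 7 ∣ d :=
      Finset.mem_filter.mpr
        ⟨Nat.mem_divisors.mpr ⟨h ▸ Subgroup.card_subgroup_dvd_card _, by norm_num⟩, hd⟩
    rw [show ((Nat.divisors 168).filter fun d => 7 ∣ d) = {7, 14, 21, 28, 42, 56, 84, 168} from
      by decide +kernel] at hMd
    simp only [Finset.mem_insert, Finset.mem_singleton] at hMd
    have hidx := Subgroup.card_mul_index M
    rw [h] at hidx
    have hfac := CfsgLib.Small.two_mul_card_dvd_factorial_index hnc hM
    rw [h] at hfac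
    have h21 : Nat.card M ≤ 21 := by
      rcases hMd with e | e | e | e | e | e | e | e <;> rw [e] at hidx ⊢ <;>
        first
        | omega
        | (exfalso
           obtain hi | hi | hi | hi | hi : M.index = 6 ∨ M.index = 4 ∨ M.index = 3 ∨
             M.index = 2 ∨ M.index = 1 := by omega
           all_goals (rw [hi] at hfac; norm_num [Nat.factorial] at hfac))
    obtain ⟨⟨x, hxM⟩, hx⟩ := exists_prime_orderOf_dvd_card' 7 hd
    rw [Subgroup.orderOf_mk] at hx
    obtain ⟨P, hP, -⟩ := CfsgLib.Small.exists_unique_sylow_mem hx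
      (CfsgLib.Small.Order168.card_seven h)
    have hx1 : x ≠ 1 := fun e => by rw [e, orderOf_one] at hx; omega
    have hPM : (P : Subgroup G) ≤ M := by
      rw [CfsgLib.Small.eq_zpowers_of_mem (CfsgLib.Small.Order168.card_seven h P) hP hx1]
      exact Subgroup.zpowers_le.mpr hxM
    refine ⟨P, ?_⟩
    let P' : Sylow 7 M := P.subtype hPM
    have hone : Nat.card (Sylow 7 M) = 1 := by
      have hd' := P'.card_dvd_index
      have hmul := Subgroup.card_mul_index (P' : Subgroup M)
      rw [show Nat.card (P' : Subgroup M) = 7 from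
        (Nat.card_congr (Subgroup.subgroupOfEquivOfLe hPM).toEquiv).trans
          (CfsgLib.Small.Order168.card_seven h P)] at hmul
      have hmod := card_sylow_modEq_one 7 M
      rw [Nat.ModEq] at hmod
      have hle := Nat.le_of_dvd (by omega) hd'
      omega
    have hn : (P' : Subgroup M).Normal := by
      rw [← Subgroup.normalizer_eq_top_iff, ← Subgroup.index_eq_one]
      exact P'.card_eq_index_normalizer.symm.trans hone
    exact (Subgroup.normal_subgroupOf_iff_le_normalizer hPM).mp hn
  have hcard21 : ∀ M : Subgroup G, IsCoatom M → 7 ∣ Nat.card M →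
      ∃ P : Sylow 7 G, M = Subgroup.normalizer ((P : Subgroup G) : Set G) := by
    intro M hM hd
    obtain ⟨P, hP⟩ := h7 M hM.1 hd
    refine ⟨P, (hM.le_iff.mp hP).resolve_left (fun e => ?_) |>.symm⟩
    exact CfsgLib.Small.sylow_normalizer_ne_top hnc (by rw [h]; norm_num) P e
  -- every subgroup of order 24 contains a normal Klein four-subgroup; the same for `N(P₃)`
  have h24 : ∀ M : Subgroup G, Nonempty (M ≃* Equiv.Perm (Fin 4)) → Nat.card M = 24 ∧
      ∃ U : Subgroup G, IsKleinFour U ∧ M = Subgroup.normalizer (U : Set G) := by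
    rintro M ⟨e⟩
    have hc : Nat.card M = 24 := by
      rw [Nat.card_congr e.toEquiv, Nat.card_perm, Nat.card_fin]; rfl
    have hV4n : klV4.Normal := ⟨fun n hn g => klV4_conj g n hn⟩
    set V4 := klV4 with hV4
    have hV4c : Nat.card V4 = 4 := klV4_card
    have hV4e : ∀ σ ∈ V4, σ * σ = 1 := fun σ hσ => klV4_sq σ hσ
    let U := (V4.comap e.toMonoidHom).map M.subtype
    have hUM : U ≤ M := Subgroup.map_subtype_le _
    have hUc : Nat.card U = 4 := by
      rw [Subgroup.card_subtype]
      change Nat.card (V4.comap (e : M →* Equiv.Perm (Fin 4))) = 4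
      rw [Subgroup.comap_equiv_eq_map_symm]
      exact (Subgroup.card_map_of_injective e.symm.injective).trans hV4c
    have hU : IsKleinFour U := by
      have : Nontrivial U := Finite.one_lt_card_iff_nontrivial.mp (by omega)
      refine ⟨hUc, Monoid.exponent_eq_prime_iff Nat.prime_two |>.mpr fun u hu =>
        orderOf_eq_prime ?_ hu⟩
      obtain ⟨m, hm, hmu⟩ := u.2
      have h2 : m * m = 1 := e.injective (by rw [map_mul, map_one]; exact hV4e _ hm)
      refine Subtype.ext ?_
      rw [pow_two, Subgroup.coe_mul, ← hmu]
      exact congrArg Subtype.val h2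
    refine ⟨hc, U, hU, Subgroup.eq_of_le_of_card_ge ?_
      (by rw [CfsgLib.Small.Order168.card_normalizer_klein h hU, hc])⟩
    refine (Subgroup.normal_subgroupOf_iff_le_normalizer hUM).mp ?_
    show ((V4.comap e.toMonoidHom).map M.subtype).comap M.subtype |>.Normal
    rw [Subgroup.comap_map_eq_self_of_injective M.subtype_injective]
    exact hV4n.comap _
  have hS4 : ∀ M : Subgroup G, Nat.card M = 24 → Nonempty (M ≃* Equiv.Perm (Fin 4)) :=
    fun M hM => Cfsg.Agent.S1012.result hM (no6 M)
  obtain ⟨T⟩ := (inferInstance : Nonempty (Sylow 2 G))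
  obtain ⟨A, B, hAB, hAT, hBT, hA, hB, hall⟩ := CfsgLib.Small.Order168.exists_two_klein h T
  have hKcoatom : ∀ U : Subgroup G, IsKleinFour U → IsCoatom (Subgroup.normalizer (U : Set G)) := by
    intro U hU
    have hc := CfsgLib.Small.Order168.card_normalizer_klein h hU
    refine ⟨fun e => by rw [e, Subgroup.card_top, h] at hc; omega, fun K hK => ?_⟩
    by_contra hKt
    have h1 := Subgroup.card_dvd_of_le hK.le
    have h2 : Nat.card K ∣ 168 := h ▸ Subgroup.card_subgroup_dvd_card K
    rw [hc] at h1
    have h3 : 24 < Nat.card K := by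
      rcases (hc ▸ Subgroup.card_le_of_le hK.le).lt_or_eq with h3 | h3
      · exact h3
      · exact absurd (Subgroup.eq_of_le_of_card_ge hK.le (by rw [hc, h3])) hK.ne
    have h4 : Nat.card K = 168 := (show ∀ d ∈ Nat.divisors 168, 24 ∣ d → 24 < d → d = 168 from by
      decide +kernel) _ (Nat.mem_divisors.mpr ⟨h2, by norm_num⟩) h1 h3
    exact hKt (Subgroup.eq_top_of_card_eq K (by rw [h4, h]))
  -- the normaliser of a Sylow 3-subgroup lies in the normaliser of a Klein four-subgroup
  have h3 : ∀ P : Sylow 3 G, ∃ U : Subgroup G, IsKleinFour U ∧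
      Subgroup.normalizer ((P : Subgroup G) : Set G) ≤ Subgroup.normalizer (U : Set G) := by
    intro P
    set M := Subgroup.normalizer (A : Set G) with hMdef
    obtain ⟨e⟩ := CfsgLib.Small.Order168.normalizer_klein_equiv h hA
    have hMc := CfsgLib.Small.Order168.card_normalizer_klein h hA
    obtain ⟨⟨x, hxM⟩, hx⟩ := exists_prime_orderOf_dvd_card' (G := M) 3 (by rw [hMc]; norm_num)
    rw [Subgroup.orderOf_mk] at hx
    obtain ⟨Q, hQ, -⟩ := CfsgLib.Small.exists_unique_sylow_mem hx
      (CfsgLib.Small.Order168.card_three h)
    have hx1 : x ≠ 1 := fun e => by rw [e, orderOf_one] at hx; omega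
    have hQM : (Q : Subgroup G) ≤ M := by
      rw [CfsgLib.Small.eq_zpowers_of_mem (CfsgLib.Small.Order168.card_three h Q) hQ hx1]
      exact Subgroup.zpowers_le.mpr hxM
    let Q' : Sylow 3 M := Q.subtype hQM
    have hQN : Subgroup.normalizer ((Q : Subgroup G) : Set G) ≤ M := by
      have hQ'c : Nat.card (Q' : Subgroup M) = 3 :=
        (Nat.card_congr (Subgroup.subgroupOfEquivOfLe hQM).toEquiv).trans
          (CfsgLib.Small.Order168.card_three h Q)
      have hidx : (Q' : Subgroup M).index = 8 := by
        have := Subgroup.card_mul_index (Q' : Subgroup M)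
        rw [hQ'c, hMc] at this; omega
      have hn : Nat.card (Sylow 3 M) ≤ 4 := by
        have hd := hidx ▸ Q'.card_dvd_index
        have hmod := card_sylow_modEq_one 3 M
        rw [Nat.ModEq] at hmod
        have := (show ∀ d ∈ Nat.divisors 8, d % 3 = 1 % 3 → d ≤ 4 from by decide +kernel)
          _ (Nat.mem_divisors.mpr ⟨hd, by norm_num⟩) hmod
        exact this
      have hNM := CfsgLib.Small.card_normalizer_mul_card_sylow Q'
      rw [hMc] at hNM
      have hge : 6 ≤ Nat.card (Subgroup.normalizer ((Q' : Subgroup M) : Set M)) := by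
        by_contra hlt
        have : Nat.card (Subgroup.normalizer ((Q' : Subgroup M) : Set M)) * Nat.card (Sylow 3 M) ≤
            5 * 4 := Nat.mul_le_mul (by omega) hn
        omega
      have hsub : (Subgroup.normalizer ((Q' : Subgroup M) : Set M)).map M.subtype ≤
          Subgroup.normalizer ((Q : Subgroup G) : Set G) := by
        refine (Subgroup.le_normalizer_map M.subtype).trans ?_
        rw [show (Q' : Subgroup M).map M.subtype = (Q : Subgroup G) from
          Subgroup.map_subgroupOf_eq_of_le hQM]
      have heq := Subgroup.eq_of_le_of_card_ge hsub (by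
        rw [(CfsgLib.Small.Order168.normalizer_three h Q).1, Subgroup.card_subtype]; exact hge)
      rw [← heq]; exact Subgroup.map_subtype_le _
    obtain ⟨g, rfl⟩ := MulAction.exists_smul_eq G Q P
    refine ⟨A.map (MulAut.conj g).toMonoidHom,
      CfsgLib.Small.Order168.isKleinFour_map (MulAut.conj g) A hA, ?_⟩
    rw [← CfsgLib.Small.Order168.map_conj_normalizer]
    have : ((g • Q : Sylow 3 G) : Subgroup G) =
        (Q : Subgroup G).map (MulAut.conj g).toMonoidHom := rfl
    rw [this, ← CfsgLib.Small.Order168.map_conj_normalizer]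
    exact Subgroup.map_mono hQN
  -- the order of a maximal subgroup
  have hM : ∀ M : Subgroup G, IsCoatom M → Nat.card M = 21 ∨ Nat.card M = 24 := by
    intro M hM
    by_cases hd : 7 ∣ Nat.card M
    · obtain ⟨P, rfl⟩ := hcard21 M hM hd
      exact Or.inl (CfsgLib.Small.Order168.normalizer_seven h P).1
    right
    have hMd := (show ∀ d ∈ Nat.divisors 168, ¬ 7 ∣ d → d ∈ ({1,2,3,4,6,8,12,24} : Finset ℕ) from
      by decide +kernel) _ (Nat.mem_divisors.mpr
        ⟨h ▸ Subgroup.card_subgroup_dvd_card M, by norm_num⟩) hd
    simp only [Finset.mem_insert, Finset.mem_singleton] at hMd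
    by_contra hne
    -- otherwise `M` lies in a subgroup of order 24
    suffices ∃ U : Subgroup G, IsKleinFour U ∧ M ≤ Subgroup.normalizer (U : Set G) by
      obtain ⟨U, hU, hle⟩ := this
      have := CfsgLib.Small.Order168.card_normalizer_klein h hU
      rcases hM.le_iff.mp hle with e | e
      · exact (hKcoatom U hU).1 e
      · exact hne (e ▸ this)
    by_cases h3d : 3 ∣ Nat.card M
    · by_cases h12 : Nat.card M = 12
      · -- order 12 : the Sylow 2-subgroup of `M` is a normal Klein four-subgroup
        obtain ⟨Q⟩ := (inferInstance : Nonempty (Sylow 3 M))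
        have hQ : ∀ S : Sylow 3 M, Nat.card S = 3 := fun S => by
          simpa using CfsgLib.Small.card_sylow_of_card_eq (k := 1) (m := 4) (by rw [h12]; norm_num)
            (by norm_num) S
        have hd' := Q.card_dvd_index
        rw [CfsgLib.Small.index_sylow_of_card_eq (k := 1) (m := 4) (by rw [h12]; norm_num)
          (by norm_num) Q] at hd'
        have hmod := card_sylow_modEq_one 3 M
        rcases (show ∀ d ∈ Nat.divisors 4, d % 3 = 1 % 3 → d = 1 ∨ d = 4 from by decide +kernel)
          _ (Nat.mem_divisors.mpr ⟨hd', by norm_num⟩) hmod with h1 | h1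
        · exfalso
          obtain ⟨P, hP⟩ := ((Q.2).map M.subtype).exists_le_sylow
          have hQP : (Q : Subgroup M).map M.subtype = (P : Subgroup G) :=
            Subgroup.eq_of_le_of_card_ge hP (by
              rw [CfsgLib.Small.Order168.card_three h P, Subgroup.card_subtype]; exact (hQ Q).ge)
          have hn : (Q : Subgroup M).Normal := by
            rw [← Subgroup.normalizer_eq_top_iff, ← Subgroup.index_eq_one]
            exact Q.card_eq_index_normalizer.symm.trans h1
          have hle : M ≤ Subgroup.normalizer ((P : Subgroup G) : Set G) := by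
            rw [← hQP]
            refine le_trans ?_ (Subgroup.le_normalizer_map M.subtype)
            rw [Subgroup.normalizer_eq_top_iff.mpr hn, ← MonoidHom.range_eq_map,
              Subgroup.range_subtype]
          have := Subgroup.card_le_of_le hle
          rw [h12, (CfsgLib.Small.Order168.normalizer_three h P).1] at this
          omega
        · obtain ⟨R⟩ := (inferInstance : Nonempty (Sylow 2 M))
          have hRc : Nat.card R = 4 := by
            simpa using CfsgLib.Small.card_sylow_of_card_eq (k := 2) (m := 3)
              (by rw [h12]; norm_num) (by norm_num) R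
          have hsum := CfsgLib.Small.card_orderOf_eq_prime hQ
          rw [h1] at hsum
          -- the elements not of order 3 form `R`
          have := Fintype.ofFinite M
          let F : Finset M := Finset.univ.filter fun x => orderOf x ≠ 3
          let Rf : Finset M := Finset.univ.filter fun x => x ∈ (R : Subgroup M)
          have hsub : Rf ⊆ F := fun x hx => by
            simp only [Rf, F, Finset.mem_filter, Finset.mem_univ, true_and] at hx ⊢
            intro e
            have := orderOf_dvd_natCard (⟨x, hx⟩ : (R : Subgroup M))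
            rw [Subgroup.orderOf_mk, e, hRc] at this
            norm_num at this
          have hFc : F.card = 4 := by
            have htot := Finset.card_filter_add_card_filter_not (s := (Finset.univ : Finset M))
              (fun x => orderOf x = 3)
            rw [← Fintype.card_subtype, ← Nat.card_eq_fintype_card, hsum, Finset.card_univ,
              ← Nat.card_eq_fintype_card, h12] at htot
            show (Finset.univ.filter fun x : M => ¬ orderOf x = 3).card = 4
            omega
          have hRf : Rf.card = 4 := by
            rw [← hRc, Nat.card_eq_fintype_card, Fintype.card_subtype]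
          have heq : Rf = F := Finset.eq_of_subset_of_card_le hsub (by rw [hFc, hRf])
          have hmem : ∀ x : M, x ∈ (R : Subgroup M) ↔ orderOf x ≠ 3 := fun x => by
            have := Finset.ext_iff.mp heq x
            simpa [Rf, F] using this
          have hRn : (R : Subgroup M).Normal := ⟨fun x hx g => by
            rw [hmem] at hx ⊢
            rwa [show g * x * g⁻¹ = MulAut.conj g x from rfl, MulEquiv.orderOf_eq]⟩
          refine ⟨(R : Subgroup M).map M.subtype, ?_, ?_⟩
          · have hexp : ∀ x : M, x ∈ (R : Subgroup M) → x * x = 1 := by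
              intro x hx
              by_contra hx2
              have h4 : orderOf x = 4 := by
                have hd4 := orderOf_dvd_natCard (⟨x, hx⟩ : (R : Subgroup M))
                rw [Subgroup.orderOf_mk, hRc] at hd4
                have := (show ∀ d ∈ Nat.divisors 4, d ∣ 2 ∨ d = 4 from by decide +kernel) _
                  (Nat.mem_divisors.mpr ⟨hd4, by norm_num⟩)
                rcases this with h' | h'
                · exact absurd (by rw [← pow_two]; exact orderOf_dvd_iff_pow_eq_one.mp h') hx2
                · exact h'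
              -- `R` is then cyclic, and an element of order 3 centralises it
              have hRz : (R : Subgroup M) = Subgroup.zpowers x :=
                (Subgroup.eq_of_le_of_card_ge (Subgroup.zpowers_le.mpr hx)
                  (by rw [Nat.card_zpowers, h4, hRc])).symm
              obtain ⟨c, hc⟩ := exists_prime_orderOf_dvd_card' (G := M) 3 (by rw [h12]; norm_num)
              have hconj : ∀ i : ℕ, ∀ y : M, c ^ i * y * (c ^ i)⁻¹ =
                  (MulAut.conj c ^ i) y := fun i y => by rw [← map_pow]; rfl
              have hcx := hRn.conj_mem x hx c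
              rw [hRz, mem_zpowers_iff_mem_range_orderOf, h4] at hcx
              simp only [Finset.mem_image, Finset.mem_range] at hcx
              obtain ⟨i, hi, hix⟩ := hcx
              have hc3 : c * c * c = 1 := by
                rw [← pow_two, ← pow_succ]; exact orderOf_dvd_iff_pow_eq_one.mp (dvd_of_eq hc)
              have hcube : x ^ (i * i * i) = x := by
                have e1 : ∀ n : ℕ, c * x ^ n * c⁻¹ = x ^ (i * n) := fun n => by
                  rw [← conj_pow, ← hix, ← pow_mul]
                calc x ^ (i * i * i) = x ^ (i * (i * (i * 1))) := by ring_nf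
                  _ = c * (c * (c * x ^ 1 * c⁻¹) * c⁻¹) * c⁻¹ := by rw [e1, e1, e1]
                  _ = (c * c * c) * x * (c * c * c)⁻¹ := by group
                  _ = x := by rw [hc3]; group
              have hi1 : i = 1 := by
                have hmod : (i * i * i) % 4 = 1 := by
                  have h5 := pow_inj_mod (x := x) (n := i * i * i) (m := 1)
                  rw [pow_one, h4] at h5
                  exact h5.mp hcube
                interval_cases i <;> simp at hmod ⊢
                -- `x³` would be `x⁻¹`: impossible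
              subst hi1
              rw [pow_one, eq_mul_inv_iff_mul_eq] at hix
              have hco : orderOf (x * c) = 12 := by
                rw [(show Commute x c from hix).orderOf_mul_eq_mul_orderOf_of_coprime
                  (by rw [h4, hc]; norm_num), h4, hc]
              have := CfsgLib.Small.Order168.orderOf_mem h ((x * c : M) : G)
              rw [Subgroup.orderOf_coe, hco] at this
              simp at this
            have hnt : Nontrivial ((R : Subgroup M).map M.subtype) :=
              Finite.one_lt_card_iff_nontrivial.mp (by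
                rw [Subgroup.card_subtype]; exact hRc ▸ (by norm_num : 1 < 4))
            refine ⟨by rw [Subgroup.card_subtype]; exact hRc,
              Monoid.exponent_eq_prime_iff Nat.prime_two |>.mpr fun u hu => orderOf_eq_prime ?_ hu⟩
            obtain ⟨m, hm, hmu⟩ := u.2
            refine Subtype.ext ?_
            rw [pow_two, Subgroup.coe_mul, ← hmu]
            exact congrArg Subtype.val (hexp m hm)
          · refine le_trans ?_ (Subgroup.le_normalizer_map M.subtype)
            rw [Subgroup.normalizer_eq_top_iff.mpr hRn, ← MonoidHom.range_eq_map,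
              Subgroup.range_subtype]
      · -- order 3 or 6
        obtain ⟨⟨x, hxM⟩, hx⟩ := exists_prime_orderOf_dvd_card' (G := M) 3 h3d
        rw [Subgroup.orderOf_mk] at hx
        obtain ⟨P, hP, -⟩ := CfsgLib.Small.exists_unique_sylow_mem hx
          (CfsgLib.Small.Order168.card_three h)
        obtain ⟨U, hU, hle⟩ := h3 P
        refine ⟨U, hU, le_trans ?_ hle⟩
        have hx1 : x ≠ 1 := fun e => by rw [e, orderOf_one] at hx; omega
        have hPM : (P : Subgroup G) ≤ M := by
          rw [CfsgLib.Small.eq_zpowers_of_mem (CfsgLib.Small.Order168.card_three h P) hP hx1]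
          exact Subgroup.zpowers_le.mpr hxM
        refine (Subgroup.normal_subgroupOf_iff_le_normalizer hPM).mp ?_
        have hPc : Nat.card ((P : Subgroup G).subgroupOf M) = 3 :=
          (Nat.card_congr (Subgroup.subgroupOfEquivOfLe hPM).toEquiv).trans
            (CfsgLib.Small.Order168.card_three h P)
        have hmul := Subgroup.card_mul_index ((P : Subgroup G).subgroupOf M)
        rw [hPc] at hmul
        have : ((P : Subgroup G).subgroupOf M).index = 1 ∨
            ((P : Subgroup G).subgroupOf M).index = 2 := by omega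
        rcases this with e | e
        · exact Subgroup.normal_of_index_eq_one e
        · exact Subgroup.normal_of_index_eq_two e
    · -- a 2-group
      obtain ⟨k, hk⟩ : ∃ k, Nat.card M = 2 ^ k := by
        rcases hMd with e | e | e | e | e | e | e | e
        · exact ⟨0, e⟩
        · exact ⟨1, e⟩
        · omega
        · exact ⟨2, e⟩
        · omega
        · exact ⟨3, e⟩
        · omega
        · omega
      obtain ⟨S, hS⟩ := (IsPGroup.of_card (p := 2) hk).exists_le_sylow
      obtain ⟨g, rfl⟩ := MulAction.exists_smul_eq G T S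
      refine ⟨A.map (MulAut.conj g).toMonoidHom,
        CfsgLib.Small.Order168.isKleinFour_map (MulAut.conj g) A hA, hS.trans ?_⟩
      rw [← CfsgLib.Small.Order168.map_conj_normalizer]
      exact Subgroup.map_mono (CfsgLib.Small.Order168.le_normalizer_klein h hA hAT)
  refine ⟨fun M hMc => ?_, fun M M' hMc hMc' h1 h2 => ?_, Subgroup.normalizer (A : Set G),
    Subgroup.normalizer (B : Set G), hKcoatom A hA, hKcoatom B hB,
    CfsgLib.Small.Order168.normalizer_klein_equiv h hA,
    CfsgLib.Small.Order168.normalizer_klein_equiv h hB, fun g hg => ?_, fun M hMc hMe => ?_⟩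
  · rcases hM M hMc with e | e
    · refine Or.inr ⟨e, fun hc => ?_⟩
      obtain ⟨P, rfl⟩ := hcard21 M hMc (by rw [e]; norm_num)
      refine CfsgLib.Small.not_normalizer_le_centralizer hnc (by rw [h]; norm_num) P fun x hx => ?_
      rw [Subgroup.mem_centralizer_iff]
      intro y hy
      exact congrArg Subtype.val (hc.is_comm.comm
        (⟨y, Subgroup.le_normalizer hy⟩ : Subgroup.normalizer ((P : Subgroup G) : Set G)) ⟨x, hx⟩)
    · exact Or.inl (hS4 M e)
  · obtain ⟨P, rfl⟩ := hcard21 M hMc (by rw [h1]; norm_num)
    obtain ⟨P', rfl⟩ := hcard21 M' hMc' (by rw [h2]; norm_num)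
    obtain ⟨g, rfl⟩ := MulAction.exists_smul_eq G P P'
    exact ⟨g, (CfsgLib.Small.Order168.map_conj_normalizer (P : Subgroup G) g).symm⟩
  · rw [CfsgLib.Small.Order168.map_conj_normalizer] at hg
    have hA' := CfsgLib.Small.Order168.isKleinFour_map (MulAut.conj g) A hA
    have h1 : A.map (MulAut.conj g).toMonoidHom = B := by
      symm
      refine CfsgLib.Small.Order168.klein_eq_of_le_normalizer h hB hA' ?_ hg.le
      rw [hg]; exact Subgroup.le_normalizer
    exact hAB (CfsgLib.Small.Order168.klein_conj_eq h hAT hBT hA hB g h1)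
  · obtain ⟨-, U, hU, rfl⟩ := h24 M hMe
    obtain ⟨S, hS⟩ := CfsgLib.Small.Order168.exists_sylow_of_klein hU
    obtain ⟨g, rfl⟩ := MulAction.exists_smul_eq G S T
    have hU' := CfsgLib.Small.Order168.isKleinFour_map (MulAut.conj g) U hU
    have hinv : ∀ V : Subgroup G, U.map (MulAut.conj g).toMonoidHom = V →
        Subgroup.normalizer (U : Set G) =
          (Subgroup.normalizer (V : Set G)).map (MulAut.conj g⁻¹).toMonoidHom := by
      rintro V rfl
      rw [CfsgLib.Small.Order168.map_conj_normalizer, Subgroup.map_map]
      have : (MulAut.conj g⁻¹).toMonoidHom.comp (MulAut.conj g).toMonoidHom = MonoidHom.id G :=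
        MonoidHom.ext fun y => by simp [mul_assoc]
      rw [this, Subgroup.map_id]
    refine ⟨g⁻¹, ?_⟩
    rcases hall _ (Subgroup.map_mono hS : U.map (MulAut.conj g).toMonoidHom ≤
        ((g • S : Sylow 2 G) : Subgroup G)) hU' with e | e
    · exact Or.inl (hinv A e)
    · exact Or.inr (hinv B e)

end Cfsg.Agent.S1008
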