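import Cfsg.Statements.S1009
import Cfsg.Agent.Lib.Small.Basic

set_option autoImplicit false
open Cfsg

namespace Cfsg.Agent.S1009

/-- Brodkey's Theorem: if a finite group has abelian Sylow p-subgroups, then there are two Sylow p-subgroups whose intersection equals the intersection of all Sylow p-subgroups. -/
theorem result {G : Type*} [Group G] [Finite G] (p : ℕ) [Fact p.Prime] (hab : ∀ P : Sylow p G, IsMulCommutative ↥(P : Subgroup G)) : ∃ P Q : Sylow p G, (P : Subgroup G) ⊓ (Q : Subgroup G) = ⨅ R : Sylow p G, (R : Subgroup G) := by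
  classical
  have hne : (Set.range fun PQ : Sylow p G × Sylow p G =>
      (PQ.1 : Subgroup G) ⊓ (PQ.2 : Subgroup G)).Nonempty := Set.range_nonempty _
  obtain ⟨D, ⟨⟨P, Q⟩, rfl⟩, hmin⟩ := (Set.toFinite _).exists_minimal hne
  refine ⟨P, Q, le_antisymm (le_iInf fun R => ?_) (le_inf (iInf_le _ P) (iInf_le _ Q))⟩
  set D := (P : Subgroup G) ⊓ (Q : Subgroup G) with hD
  set C := Subgroup.centralizer (D : Set G) with hC
  have hle : ∀ S : Sylow p G, D ≤ (S : Subgroup G) → (S : Subgroup G) ≤ C := by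
    intro S hS x hx
    rw [hC, Subgroup.mem_centralizer_iff]
    intro y hy
    exact congrArg Subtype.val
      ((hab S).is_comm.comm (⟨y, hS hy⟩ : (S : Subgroup G)) ⟨x, hx⟩)
  have hPC := hle P inf_le_left
  have hQC := hle Q inf_le_right
  have hpg : IsPGroup p (((R : Subgroup G) ⊓ C).subgroupOf C) :=
    (R.2.to_le inf_le_left).of_equiv (Subgroup.subgroupOfEquivOfLe inf_le_right).symm
  obtain ⟨T, hT⟩ := hpg.exists_le_sylow
  obtain ⟨c, hc⟩ := MulAction.exists_smul_eq C T (P.subtype hPC)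
  -- move `R` by the element `c` of the centraliser
  have hkey : (((c : G) • R : Sylow p G) : Subgroup G) ⊓ C ≤ (P : Subgroup G) := by
    intro x hx
    obtain ⟨hx1, hx2⟩ := Subgroup.mem_inf.mp hx
    rw [Sylow.coe_subgroup_smul, Subgroup.mem_pointwise_smul_iff_inv_smul_mem, ← map_inv,
      MulAut.smul_def, MulAut.conj_apply, inv_inv] at hx1
    have hy : (⟨(c : G)⁻¹ * x * c, C.mul_mem (C.mul_mem (C.inv_mem c.2) hx2) c.2⟩ : C) ∈
        (T : Subgroup C) :=
      hT (Subgroup.mem_subgroupOf.mpr (Subgroup.mem_inf.mpr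
        ⟨hx1, C.mul_mem (C.mul_mem (C.inv_mem c.2) hx2) c.2⟩))
    have hx3 : (⟨x, hx2⟩ : C) ∈ ((c • T : Sylow p C) : Subgroup C) := by
      rw [Sylow.coe_subgroup_smul, Subgroup.mem_pointwise_smul_iff_inv_smul_mem, ← map_inv,
        MulAut.smul_def, MulAut.conj_apply, inv_inv]
      exact hy
    rw [hc] at hx3
    exact hx3
  have h1 : (((c : G) • R : Sylow p G) : Subgroup G) ⊓ (Q : Subgroup G) ≤ D :=
    le_inf ((inf_le_inf_left _ hQC).trans hkey) inf_le_right
  have h2 : D ≤ (((c : G) • R : Sylow p G) : Subgroup G) :=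
    (hmin ⟨(((c : G) • R : Sylow p G), Q), rfl⟩ h1).trans inf_le_left
  intro x hx
  have h3 := h2 hx
  rw [Sylow.coe_subgroup_smul, Subgroup.mem_pointwise_smul_iff_inv_smul_mem, ← map_inv,
    MulAut.smul_def, MulAut.conj_apply, inv_inv] at h3
  have h4 : (c : G)⁻¹ * x * c = x := by
    rw [mul_assoc, Subgroup.mem_centralizer_iff.mp c.2 x hx, inv_mul_cancel_left]
  exact h4 ▸ h3

end Cfsg.Agent.S1009
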