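import Cfsg.Statements.S1013
import Cfsg.Agent.Lib.Small.Basic

set_option autoImplicit false
open Cfsg

namespace Cfsg.Agent.S1013

/-- Let G be a transitive permutation group of prime degree p having more than one Sylow p-subgroup, and suppose a Sylow p-subgroup P has prime index in its normalizer. Then G is simple. -/
theorem result {α : Type*} [Fintype α] [DecidableEq α] {p : ℕ} [Fact p.Prime] (hα : Fintype.card α = p) (G : Subgroup (Equiv.Perm α)) [MulAction.IsPretransitive ↥G α] (P : Sylow p ↥G) (hn : 1 < Nat.card (Sylow p ↥G)) (ht : (((P : Subgroup ↥G).subgroupOf (Subgroup.normalizer ((P : Subgroup ↥G) : Set ↥G))).index).Prime) : IsSimpleGroup ↥G := by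
  classical
  have hp := (Fact.out : p.Prime)
  have : Nonempty α := Fintype.card_pos_iff.mp (hα ▸ hp.pos)
  have hpc : (Nat.card α).Prime := by rw [Nat.card_eq_fintype_card, hα]; exact hp
  have : MulAction.IsPreprimitive (↥G) α := MulAction.IsPreprimitive.of_prime_card hpc
  have hdvdG : p ∣ Nat.card G := by
    obtain ⟨a⟩ := (inferInstance : Nonempty α)
    have := MulAction.index_stabilizer_of_transitive ↥G a
    rw [Nat.card_eq_fintype_card, hα] at this
    exact this ▸ Subgroup.index_dvd_card _
  have hsq : ¬ p ^ 2 ∣ Nat.card G := by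
    intro h2
    have := h2.trans (Subgroup.card_subgroup_dvd_card G)
    rw [Nat.card_perm, Nat.card_eq_fintype_card, hα, sq] at this
    rw [← Nat.mul_factorial_pred hp.ne_zero] at this
    have := Nat.dvd_of_mul_dvd_mul_left hp.pos this
    exact absurd ((hp.dvd_factorial).mp this) (by have := hp.pos; omega)
  have hP : Nat.card P = p := by
    obtain ⟨k, hk⟩ := IsPGroup.iff_card.mp P.2
    have h1 := P.dvd_card_of_dvd_card hdvdG
    rcases k with _ | _ | k
    · rw [hk, pow_zero, Nat.dvd_one] at h1
      exact absurd h1 hp.ne_one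
    · simpa using hk
    · exact absurd ((pow_dvd_pow p (by omega : 2 ≤ k + 2)).trans
        (hk ▸ Subgroup.card_subgroup_dvd_card (P : Subgroup G))) hsq
  have hPbot : (P : Subgroup G) ≠ ⊥ := P.ne_bot_of_dvd_card hdvdG
  refine { toNontrivial := ⟨?_⟩, eq_bot_or_eq_top_of_normal := fun K hK => ?_ }
  · obtain ⟨x, hx⟩ := (Subgroup.ne_bot_iff_exists_ne_one).mp hPbot
    exact ⟨x.1, 1, fun h => hx (Subtype.ext h)⟩
  by_cases hbot : K = ⊥
  · exact Or.inl hbot
  refine Or.inr ?_
  have hfix : MulAction.fixedPoints K α ≠ Set.univ := by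
    intro h
    refine hbot (Subgroup.eq_bot_iff_forall _ |>.mpr fun g hg => ?_)
    refine Subtype.ext (Equiv.ext fun a => ?_)
    have : a ∈ MulAction.fixedPoints K α := h ▸ Set.mem_univ a
    exact this ⟨g, hg⟩
  have : MulAction.IsPretransitive K α :=
    MulAction.IsQuasiPreprimitive.isPretransitive_of_normal hfix
  have hdvdK : p ∣ Nat.card K := by
    obtain ⟨a⟩ := (inferInstance : Nonempty α)
    have := MulAction.index_stabilizer_of_transitive K a
    rw [Nat.card_eq_fintype_card, hα] at this
    exact this ▸ Subgroup.index_dvd_card _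
  obtain ⟨T⟩ := (inferInstance : Nonempty (Sylow p K))
  obtain ⟨Q, hQ⟩ := (T.2.map K.subtype).exists_le_sylow
  have hQcard : Nat.card Q = p := by rw [Q.card_eq_multiplicity, ← P.card_eq_multiplicity, hP]
  have hQK : (Q : Subgroup G) ≤ K := by
    have hne : ((T : Subgroup K).map K.subtype) ≠ ⊥ := by
      rw [Ne, Subgroup.map_eq_bot_iff_of_injective _ K.subtype_injective]
      exact T.ne_bot_of_dvd_card hdvdK
    obtain ⟨⟨x, hx⟩, hx1⟩ := Subgroup.ne_bot_iff_exists_ne_one.mp hne
    rw [CfsgLib.Small.eq_zpowers_of_mem hQcard (hQ hx) (fun h => hx1 (Subtype.ext h))]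
    exact Subgroup.zpowers_le.mpr (Subgroup.map_subtype_le _ hx)
  obtain ⟨g, hg⟩ := MulAction.exists_smul_eq G Q P
  have hPK : (P : Subgroup G) ≤ K := by
    intro x hx
    rw [← hg, Sylow.coe_subgroup_smul, Subgroup.mem_pointwise_smul_iff_inv_smul_mem] at hx
    have := hQK hx
    rw [← map_inv, MulAut.smul_def, MulAut.conj_apply, inv_inv] at this
    have h3 := hK.conj_mem _ this g
    simpa [mul_assoc] using h3
  set N := Subgroup.normalizer ((P : Subgroup G) : Set G) with hNdef
  by_cases hNK : N ≤ K
  · have := Sylow.normalizer_sup_eq_top' P hPK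
    exact top_le_iff.mp (this ▸ sup_le hNK le_rfl)
  exfalso
  have hPN : (P : Subgroup G) ≤ N := Subgroup.le_normalizer
  have hNP : N ⊓ K = (P : Subgroup G) := by
    have hmul := Subgroup.relIndex_mul_relIndex (P : Subgroup G) (N ⊓ K) N
      (le_inf hPN hPK) inf_le_left
    have ht' : ((P : Subgroup G).relIndex N).Prime := ht
    rw [← hmul] at ht'
    rcases Nat.prime_mul_iff.mp ht' with ⟨_, h⟩ | ⟨_, h⟩
    · exact absurd ((Subgroup.relIndex_eq_one.mp h).trans inf_le_right) hNK
    · exact le_antisymm (Subgroup.relIndex_eq_one.mp h) (le_inf hPN hPK)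
  let P' : Sylow p K := P.subtype hPK
  have hP' : Nat.card P' = p := by
    exact (Nat.card_congr (Subgroup.subgroupOfEquivOfLe hPK).toEquiv).trans hP
  have hcomm : Subgroup.normalizer ((P' : Subgroup K) : Set K) ≤
      Subgroup.centralizer ((P' : Subgroup K) : Set K) := by
    intro x hx
    have hx' : x ∈ (P : Subgroup G).subgroupOf K := by
      rw [Subgroup.mem_subgroupOf, ← hNP]
      refine Subgroup.mem_inf.mpr ⟨?_, x.2⟩
      have : x ∈ N.subgroupOf K := by
        rw [hNdef, Subgroup.subgroupOf_normalizer_eq hPK]; exact hx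
      exact Subgroup.mem_subgroupOf.mp this
    have hcyc : IsCyclic P' := isCyclic_of_prime_card hP'
    let _ := IsCyclic.commGroup (α := P')
    rw [Subgroup.mem_centralizer_iff]
    intro y hy
    exact congrArg Subtype.val
      (mul_comm (⟨y, hy⟩ : (P' : Subgroup K)) ⟨x, hx'⟩)
  have hc := MonoidHom.ker_transferSylow_isComplement' P' hcomm
  set M := (MonoidHom.transferSylow P' hcomm).ker with hM
  have hMp : ¬ p ∣ Nat.card M := MonoidHom.not_dvd_card_ker_transferSylow P' hcomm
  have hMchar : M.Characteristic := by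
    refine Subgroup.characteristic_iff_map_le.mpr fun φ => ?_
    intro y hy
    obtain ⟨m, hm, rfl⟩ := Subgroup.mem_map.mp hy
    by_contra hnot
    have hMn : M.Normal := MonoidHom.normal_ker _
    have hord : orderOf (QuotientGroup.mk' M (φ.toMonoidHom m)) ∣ Nat.card M := by
      refine (orderOf_map_dvd _ _).trans ?_
      have h1 := orderOf_dvd_natCard (⟨m, hm⟩ : M)
      rw [Subgroup.orderOf_mk] at h1
      exact (dvd_of_eq (MulEquiv.orderOf_eq φ m)).trans h1
    have hord2 : orderOf (QuotientGroup.mk' M (φ.toMonoidHom m)) ∣ p := by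
      have := orderOf_dvd_natCard (QuotientGroup.mk' M (φ.toMonoidHom m))
      rw [← Subgroup.index_eq_card] at this
      exact this.trans (dvd_of_eq (hc.symm.index_eq_card.trans hP'))
    rcases (Nat.dvd_prime hp).mp hord2 with h | h
    · exact hnot ((QuotientGroup.eq_one_iff _).mp (orderOf_eq_one_iff.mp h))
    · exact hMp (h ▸ hord)
  have hMG : (M.map K.subtype).Normal := ConjAct.normal_of_characteristic_of_normal
  have hMbot : M.map K.subtype = ⊥ := by
    by_contra hne
    have hfix' : MulAction.fixedPoints (M.map K.subtype) α ≠ Set.univ := by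
      intro h
      refine hne (Subgroup.eq_bot_iff_forall _ |>.mpr fun g hg => ?_)
      refine Subtype.ext (Equiv.ext fun a => ?_)
      have : a ∈ MulAction.fixedPoints (M.map K.subtype) α := h ▸ Set.mem_univ a
      exact this ⟨g, hg⟩
    have : MulAction.IsPretransitive (M.map K.subtype) α :=
      MulAction.IsQuasiPreprimitive.isPretransitive_of_normal hfix'
    obtain ⟨a⟩ := (inferInstance : Nonempty α)
    have h1 := MulAction.index_stabilizer_of_transitive (M.map K.subtype) a
    rw [Nat.card_eq_fintype_card, hα] at h1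
    refine hMp ?_
    have h2 := h1 ▸ Subgroup.index_dvd_card (MulAction.stabilizer (M.map K.subtype) a)
    rwa [Subgroup.card_subtype] at h2
  rw [Subgroup.map_eq_bot_iff_of_injective _ K.subtype_injective] at hMbot
  rw [hMbot, Subgroup.isComplement'_bot_left] at hc
  have hKP : K = (P : Subgroup G) := by
    refine le_antisymm (fun x hx => ?_) hPK
    have : (⟨x, hx⟩ : K) ∈ (P' : Subgroup K) := hc ▸ Subgroup.mem_top _
    exact Subgroup.mem_subgroupOf.mp this
  have : (P : Subgroup G).Normal := hKP ▸ hK
  have h1 : Nat.card (Sylow p G) = 1 := by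
    rw [P.card_eq_index_normalizer, Subgroup.index_eq_one]
    exact Subgroup.normalizer_eq_top_iff.mpr this
  omega

end Cfsg.Agent.S1013
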