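import Cfsg.Statements.S1014
import Cfsg.Agent.Lib.Small.SylowLine
import Cfsg.Agent.Lib.SylowNumber.Action

set_option autoImplicit false
open Cfsg

namespace Cfsg.Agent.S1014

/-- No finite simple group has order 1104 = 2^4 * 3 * 23. -/
theorem result {G : Type*} [Group G] [Finite G] [IsSimpleGroup G] : Nat.card G ≠ 1104 := by
  intro h
  classical
  have hG := CfsgLib.Small.nc_of_not_prime (G := G) (by rw [h]; norm_num)
  have : Fact (Nat.Prime 23) := ⟨by norm_num⟩
  have : Fact (Nat.Prime 2) := ⟨Nat.prime_two⟩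
  have hm := CfsgLib.Small.card_sylow_mem (p := 23) hG (k := 1) (m := 48) one_ne_zero
    (by rw [h]; norm_num) (by norm_num)
  rw [show ((Nat.divisors 48).filter fun n => n % 23 = 1 ∧ 1 < n) = {24} from by decide,
    Finset.mem_singleton] at hm
  have hPc : ∀ P : Sylow 23 G, Nat.card P = 23 := fun P => by
    simpa using CfsgLib.Small.card_sylow_of_card_eq (k := 1) (m := 48) (by rw [h]; norm_num)
      (by norm_num) P
  obtain ⟨φ, hφ, -, P, -, -, -, -, hnone, haff⟩ := CfsgLib.Small.exists_line_hom hPc hm
  have hN := CfsgLib.Small.card_normalizer_eq hm P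
  rw [h] at hN
  obtain ⟨⟨y, hyN⟩, hy⟩ := exists_prime_orderOf_dvd_card'
    (G := Subgroup.normalizer ((P : Subgroup G) : Set G)) 2 ⟨23, by omega⟩
  rw [Subgroup.orderOf_mk] at hy
  have hyn : φ y none = none := (hnone y).mpr hyN
  obtain ⟨a, b, -, hab⟩ := haff y hyn
  have hy2 : y ^ 2 = 1 := orderOf_dvd_iff_pow_eq_one.mp (dvd_of_eq hy)
  have hy1 : y ≠ 1 := fun e => by rw [e, orderOf_one] at hy; omega
  have hinv : ∀ x, a * (a * x + b) + b = x := fun x => by
    have := congrArg (fun g => φ g (some x)) hy2
    simpa [pow_two, hab] using this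
  have ha : a ≠ 1 := by
    rintro rfl
    have hb : b = 0 := by
      have := hinv 0
      have h2 : (2 : ZMod 23) * b = 0 := by linear_combination this
      exact (mul_eq_zero.mp h2).resolve_left (fun h2' => absurd ((ZMod.natCast_eq_zero_iff 2 23).mp (by exact_mod_cast h2')) (by norm_num))
    refine hy1 (hφ (Equiv.ext fun z => ?_))
    cases z with
    | none => simp [hyn]
    | some x => simp [hab, hb]
  let _ : MulAction G (Option (ZMod 23)) := MulAction.compHom _ φ
  have hsign := CfsgLib.Small.sign_toPerm (α := Option (ZMod 23)) hG y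
  have h4 := CfsgLib.SylowNumber.four_dvd_card_support (α := Option (ZMod 23)) hy2 hsign
  have hmod := CfsgLib.SylowNumber.card_fix_modEq (α := Option (ZMod 23)) (r := 2) hy2
  have hsub : CfsgLib.SylowNumber.fixFinset (Option (ZMod 23)) y ⊆ {none, some (b / (1 - a))} := by
    intro z hz
    have hz' : φ y z = z := CfsgLib.SylowNumber.mem_fixFinset.mp hz
    cases z with
    | none => simp
    | some x =>
      rw [hab, Option.some.injEq] at hz'
      have hx : x = b / (1 - a) := by
        rw [eq_div_iff (sub_ne_zero.mpr (Ne.symm ha))]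
        linear_combination -hz'
      simp [hx]
  have hle := Finset.card_le_card hsub
  have hle2 : ({none, some (b / (1 - a))} : Finset (Option (ZMod 23))).card ≤ 2 := Finset.card_le_two
  have hpos : 0 < (CfsgLib.SylowNumber.fixFinset (Option (ZMod 23)) y).card :=
    Finset.card_pos.mpr ⟨none, CfsgLib.SylowNumber.mem_fixFinset.mpr hyn⟩
  have hc : Fintype.card (Option (ZMod 23)) = 24 := by simp
  rw [hc] at hmod h4
  rw [Nat.ModEq] at hmod
  omega

end Cfsg.Agent.S1014
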