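import Cfsg.Statements.S1015
import Cfsg.Agent.Lib.Small.OrderSixty

set_option autoImplicit false
open Cfsg

namespace Cfsg.Agent.S1015

/-- No finite simple group has order 1200 = 2^4 * 3 * 5^2. -/
theorem result {G : Type*} [Group G] [Finite G] [IsSimpleGroup G] : Nat.card G ≠ 1200 := by
  intro h
  have hG := CfsgLib.Small.nc_of_not_prime (G := G) (by rw [h]; norm_num)
  have : Fact (Nat.Prime 5) := ⟨by norm_num⟩
  have hm := CfsgLib.Small.card_sylow_mem (p := 5) hG (k := 2) (m := 48) (by norm_num)
    (by rw [h]; norm_num) (by norm_num)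
  rw [show ((Nat.divisors 48).filter fun n => n % 5 = 1 ∧ 1 < n) = {6, 16} from by decide] at hm
  simp only [Finset.mem_insert, Finset.mem_singleton] at hm
  rcases hm with hm | hm
  · have := CfsgLib.Small.two_mul_card_dvd_factorial_card_sylow hG (p := 5) (by rw [h]; norm_num)
    rw [hm, h] at this; norm_num [Nat.factorial] at this
  · obtain ⟨P⟩ := (inferInstance : Nonempty (Sylow 5 G))
    have hP : Nat.card P = 5 ^ 2 :=
      CfsgLib.Small.card_sylow_of_card_eq (m := 48) (by rw [h]; norm_num) (by norm_num) P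
    obtain ⟨D, m, hD, hm1, hm2, hdvd⟩ := CfsgLib.Small.exists_normalizer_of_not_modEq_sq two_ne_zero
      P hP (by rw [hm]; decide)
    have hD1 : D ≠ ⊥ := fun e => by rw [e] at hD; simp at hD
    have hD2 : D ≠ ⊤ := fun e => by rw [e, Subgroup.card_top, h] at hD; norm_num at hD
    set N := Subgroup.normalizer (D : Set G) with hNdef
    have hN : N ≠ ⊤ := CfsgLib.Small.normalizer_ne_top hD1 hD2
    have hmul := Subgroup.card_mul_index N
    rw [h] at hmul
    have hm48 : m ∣ 48 := by
      have h1 : 5 ^ 2 * m ∣ 25 * 48 := hdvd.trans ((Dvd.intro _ hmul).trans dvd_rfl)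
      exact (Nat.mul_dvd_mul_iff_left (by norm_num : 0 < 25)).mp h1
    have hmem : m ∈ (Nat.divisors 48).filter fun n => n % 5 = 1 ∧ 1 < n :=
      Finset.mem_filter.mpr ⟨Nat.mem_divisors.mpr ⟨hm48, by norm_num⟩, hm2, hm1⟩
    rw [show ((Nat.divisors 48).filter fun n => n % 5 = 1 ∧ 1 < n) = {6, 16} from by decide] at hmem
    simp only [Finset.mem_insert, Finset.mem_singleton] at hmem
    have hfac := CfsgLib.Small.two_mul_card_dvd_factorial_index hG hN
    rw [h] at hfac
    have hi : N.index ∣ 8 := by
      obtain ⟨c, hc⟩ := hdvd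
      rcases hmem with rfl | rfl
      · exact Dvd.intro_left c (Nat.eq_of_mul_eq_mul_left (show 0 < 5 ^ 2 * 6 by norm_num)
          (by rw [← mul_assoc, ← hc, hmul]; norm_num))
      · exfalso
        have h3 : N.index ∣ 3 := Dvd.intro_left c (Nat.eq_of_mul_eq_mul_left
          (show 0 < 5 ^ 2 * 16 by norm_num) (by rw [← mul_assoc, ← hc, hmul]; norm_num))
        have hi1 : 1 < N.index := Subgroup.one_lt_index_of_ne_top hN
        have := Nat.le_of_dvd (by norm_num) h3
        interval_cases hh : N.index <;> norm_num [Nat.factorial] at hfac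
    have hi1 : 1 < N.index := Subgroup.one_lt_index_of_ne_top hN
    have := Nat.le_of_dvd (by norm_num) hi
    interval_cases hh : N.index <;> norm_num [Nat.factorial] at hfac

end Cfsg.Agent.S1015
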