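import Cfsg.Statements.S1026
import Cfsg.Agent.Lib.ChevStr.Mem
import Cfsg.Agent.Lib.ChevStr.Derived
-- import your own Cfsg.Agent.* helpers here

set_option autoImplicit false
open Cfsg

namespace Cfsg.Agent.S1026

/-- Every element of `U` has a unique expression `∏_{r ∈ Φ⁺} x_r(t_r)`, the product over the positive roots in increasing index order (the coefficient family `t`, supported on the positive roots, exists and is unique); and conversely every such ordered product is the matrix of an element of `U`. -/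
theorem result {F : Type*} [Field F] (D : Cfsg.Lie.ChevalleyDatum) (hD : D ∈ [Cfsg.Lie.chevG2, Cfsg.Lie.chevB2, Cfsg.Lie.chevD4, Cfsg.Lie.chevF4, Cfsg.Lie.chevE6, Cfsg.Lie.chevE7, Cfsg.Lie.chevE8]) :
    (∀ g : GL D.Idx F, g ∈ D.posUnipotent F →
      ∃! t : ℕ → F, (∀ r, ¬ D.IsPosRoot r → t r = 0) ∧
        (g : Matrix D.Idx D.Idx F) = D.wordMat F (D.posRoots.map fun r => (r, t r))) ∧
    (∀ t : ℕ → F, ∃ g : GL D.Idx F, g ∈ D.posUnipotent F ∧
      (g : Matrix D.Idx D.Idx F) = D.wordMat F (D.posRoots.map fun r => (r, t r))) := by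
  obtain ⟨C⟩ := CfsgLib.ChevStr.nonempty_chevCore_of_mem hD F
  have hsort : D.posRoots.Pairwise (· < ·) := CfsgLib.ChevStr.ChevCore.sorted_filter _
  have hmem : ∀ r, r ∈ D.posRoots ↔ D.IsPosRoot r := by
    intro r
    simp only [Cfsg.Lie.ChevalleyDatum.posRoots, List.mem_filter, List.mem_range, decide_eq_true_eq]
    exact ⟨fun h => h.2, fun h => ⟨h.1, h⟩⟩
  have hset : {r | r ∈ D.posRoots} = {r | D.IsPosRoot r} := Set.ext hmem
  refine ⟨fun g hg => ?_, fun t => ⟨C.word D.posRoots t, ?_, C.coe_word _ _⟩⟩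
  · obtain ⟨t, ht⟩ := C.exists_word hsort (by rw [hset]; exact C.R.isClosed_pos) g
      (by rw [hset, ← C.posUnipotent_eq]; exact hg)
    classical
    refine ⟨fun r => if D.IsPosRoot r then t r else 0, ⟨fun r hr => if_neg hr, ?_⟩, ?_⟩
    · rw [ht, C.word_congr (u := fun r => if D.IsPosRoot r then t r else 0)
        fun r hr => (if_pos ((hmem r).1 hr)).symm]
      exact C.coe_word _ _
    · rintro u ⟨hu0, hu⟩
      funext r
      by_cases hr : D.IsPosRoot r
      · rw [if_pos hr]
        refine C.word_injective hsort (fun r hr => (hmem r).1 hr) u t ?_ r ((hmem r).2 hr)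
        exact Units.ext ((C.coe_word _ _).trans (hu.symm.trans (congrArg Units.val ht)))
      · rw [if_neg hr, hu0 r hr]
  · rw [C.posUnipotent_eq, ← hset]
    exact C.word_mem _ _

end Cfsg.Agent.S1026
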