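import Cfsg.Statements.S1027
import Cfsg.Agent.Lib.ChevStr.Mem
import Cfsg.Agent.Lib.ChevStr.Derived
-- import your own Cfsg.Agent.* helpers here

set_option autoImplicit false
open Cfsg

namespace Cfsg.Agent.S1027

theorem length_posRoots {D : Cfsg.Lie.ChevalleyDatum} (hD : D ∈ [Cfsg.Lie.chevG2, Cfsg.Lie.chevB2,
    Cfsg.Lie.chevD4, Cfsg.Lie.chevF4, Cfsg.Lie.chevE6, Cfsg.Lie.chevE7, Cfsg.Lie.chevE8]) :
    D.posRoots.length = D.nroots / 2 := by
  simp only [List.mem_cons, List.not_mem_nil, or_false] at hD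
  rcases hD with rfl | rfl | rfl | rfl | rfl | rfl | rfl <;> decide +kernel

/-- For the subgroup `U` generated by the root elements `x_r(t)` of the positive roots `r`: `|U| = q^N` over a field with `q` elements, where `N` is the number of positive roots (half the number of roots). -/
theorem result {F : Type*} [Field F] [Fintype F] (D : Cfsg.Lie.ChevalleyDatum) (hD : D ∈ [Cfsg.Lie.chevG2, Cfsg.Lie.chevB2, Cfsg.Lie.chevD4, Cfsg.Lie.chevF4, Cfsg.Lie.chevE6, Cfsg.Lie.chevE7, Cfsg.Lie.chevE8]) :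
    Nat.card (D.posUnipotent F) = Fintype.card F ^ (D.nroots / 2) := by
  obtain ⟨C⟩ := CfsgLib.ChevStr.nonempty_chevCore_of_mem hD F
  have hset : {r | r ∈ D.posRoots} = {r | D.IsPosRoot r} := by
    ext r
    simp only [Cfsg.Lie.ChevalleyDatum.posRoots, List.mem_filter, List.mem_range, decide_eq_true_eq,
      Set.mem_ofPred_eq]
    exact ⟨fun h => h.2, fun h => ⟨h.1, h⟩⟩
  have hsort : D.posRoots.Pairwise (· < ·) := CfsgLib.ChevStr.ChevCore.sorted_filter _
  have h := C.card_Ucl_list hsort (by rw [hset]; exact C.R.isClosed_pos)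
  rw [hset, ← C.posUnipotent_eq] at h
  rw [h, length_posRoots hD]

end Cfsg.Agent.S1027
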