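import Cfsg.Statements.S1058
import Cfsg.Agent.S1060
import Cfsg.Agent.Lib.ChevField.Fixed
import Cfsg.Agent.Lib.Chev.Api
-- import your own Cfsg.Agent.* helpers here

set_option autoImplicit false
open Cfsg

namespace Cfsg.Agent.S1058

open Cfsg.Lie Matrix

/-- Six vectors permuted by `B₂(2)` acting on the right. -/
def omega : Fin 6 → chevB2.Idx → ZMod 2 :=
  ![Sum.elim ![0,1] ![0,0,0,1,1,0,0,0],
    Sum.elim ![0,1] ![1,0,0,1,1,0,0,0],
    Sum.elim ![0,1] ![1,0,0,0,0,0,0,1],
    Sum.elim ![0,1] ![1,0,0,1,0,0,0,1],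
    Sum.elim ![0,1] ![1,0,0,0,1,0,0,1],
    Sum.elim ![0,1] ![0,0,0,1,1,0,0,1]]

/-- The permutation induced by the root element `x_r(1)`. -/
def rootPerm : Fin 8 → Equiv.Perm (Fin 6) :=
  ![Equiv.swap 0 5,
    Equiv.swap 0 5 * Equiv.swap 1 3 * Equiv.swap 2 4,
    Equiv.swap 0 5 * Equiv.swap 1 4 * Equiv.swap 2 3,
    Equiv.swap 2 4,
    Equiv.swap 2 3,
    Equiv.swap 0 1 * Equiv.swap 2 4 * Equiv.swap 3 5,
    Equiv.swap 0 1 * Equiv.swap 2 3 * Equiv.swap 4 5,
    Equiv.swap 0 1]

theorem omega_injective : Function.Injective omega := by decide +kernel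

theorem rootPerm_spec : ∀ (r : Fin 8) (i : Fin 6),
    Matrix.vecMul (omega (rootPerm r i)) (chevB2.xMat (ZMod 2) r 1) = omega i := by decide +kernel

theorem zero_spec : ∀ (r : Fin 8) (i : Fin 6),
    Matrix.vecMul (omega i) (chevB2.xMat (ZMod 2) r 0) = omega i := by decide +kernel

theorem swaps_mem {M : Subgroup (Equiv.Perm (Fin 6))} (h : ∀ r, rootPerm r ∈ M) :
    ∀ i : Fin 5, Equiv.swap i.castSucc i.succ ∈ M := by
  have e : ∀ i : Fin 5, Equiv.swap i.castSucc i.succ =
      (![rootPerm 7,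
      rootPerm 0 * rootPerm 3 * rootPerm 2 * rootPerm 4 * rootPerm 3,
      rootPerm 4,
      rootPerm 3 * rootPerm 4 * rootPerm 3,
      rootPerm 2 * rootPerm 7 * rootPerm 2] : Fin 5 → Equiv.Perm (Fin 6)) i := by decide +kernel
  intro i
  rw [e i]
  fin_cases i <;> simp only [Matrix.cons_val, Matrix.cons_val_zero, Matrix.cons_val_one, Fin.zero_eta, Fin.mk_one, Fin.reduceFinMk] <;>
    repeat (first | exact h _ | refine M.mul_mem ?_ (h _))

/-- B₂(2) ≅ S₆. -/
theorem result {F : Type*} [Field F] [Fintype F] (hF : Fintype.card F = 2) :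
    Nonempty (↥(Cfsg.Lie.chevB2.group F) ≃* Equiv.Perm (Fin 6)) := by
  let M : Subgroup (GL chevB2.Idx (ZMod 2)) :=
    { carrier := {g | ∃ σ : Equiv.Perm (Fin 6), ∀ i, Matrix.vecMul (omega (σ i)) (g : Matrix _ _ _) = omega i}
      one_mem' := ⟨1, fun i => by simp⟩
      mul_mem' := by
        rintro g k ⟨σ, hσ⟩ ⟨τ, hτ⟩
        exact ⟨σ * τ, fun i => by
          rw [Units.val_mul, ← Matrix.vecMul_vecMul, Equiv.Perm.mul_apply, hσ, hτ]⟩
      inv_mem' := by
        rintro g ⟨σ, hσ⟩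
        refine ⟨σ⁻¹, fun i => ?_⟩
        conv_lhs => rw [← hσ (σ⁻¹ i)]
        simp only [Matrix.vecMul_vecMul, ← Units.val_mul, mul_inv_cancel, Units.val_one,
          Matrix.vecMul_one]
        simp }
  have hgen : ∀ (g : GL chevB2.Idx (ZMod 2)) (r : Fin 8) (t : ZMod 2),
      (g : Matrix _ _ (ZMod 2)) = chevB2.xMat (ZMod 2) r t → g ∈ M := by
    intro g r t hg
    rcases ((by decide : ∀ u : ZMod 2, u = 0 ∨ u = 1) t) with rfl | rfl
    · exact ⟨1, fun i => by rw [hg]; exact zero_spec r i⟩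
    · exact ⟨rootPerm r, fun i => by rw [hg]; exact rootPerm_spec r i⟩
  have hle : chevB2.group (ZMod 2) ≤ M :=
    (Subgroup.closure_le _).2 (fun g ⟨r, t, hg⟩ => hgen g r t hg)
  choose σ hσ using fun g : chevB2.group (ZMod 2) => hle g.2
  have huniq : ∀ (g : chevB2.group (ZMod 2)) (π : Equiv.Perm (Fin 6)),
      (∀ i, Matrix.vecMul (omega (π i)) ((g : GL chevB2.Idx (ZMod 2)) : Matrix _ _ _) = omega i) →
        σ g = π := by
    intro g π hπ
    refine Equiv.ext fun i => omega_injective ?_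
    exact Matrix.vecMul_injective_of_isUnit (Units.isUnit _) ((hσ g i).trans (hπ i).symm)
  let φ : chevB2.group (ZMod 2) →* Equiv.Perm (Fin 6) := MonoidHom.mk' σ fun g k => huniq _ _ fun i => by
    simp only [Subgroup.coe_mul, Units.val_mul, ← Matrix.vecMul_vecMul, Equiv.Perm.mul_apply, hσ]
  have hroot : ∀ r, rootPerm r ∈ φ.range := by
    intro r
    have hu : IsUnit (chevB2.xMat (ZMod 2) r 1) := by
      have := CfsgLib.Chev.isUnit_x (D := chevB2) (by simp [CfsgLib.Chev.tabulated]) r.val (1 : ZMod 2)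
      rw [ChevalleyDatum.x, dif_pos (show r.val < chevB2.nroots from r.isLt)] at this
      exact this
    let g : chevB2.group (ZMod 2) := ⟨hu.unit, Subgroup.subset_closure ⟨r, 1, hu.unit_spec⟩⟩
    exact ⟨g, huniq g _ fun i => by rw [show ((g : GL chevB2.Idx (ZMod 2)) : Matrix _ _ _) =
      chevB2.xMat (ZMod 2) r 1 from hu.unit_spec]; exact rootPerm_spec r i⟩
  have hsurj : Function.Surjective φ := by
    rw [← MonoidHom.range_eq_top, eq_top_iff]
    intro π _
    have hπ : π ∈ Submonoid.closure (Set.range fun i : Fin 5 => Equiv.swap i.castSucc i.succ) := by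
      rw [Equiv.Perm.mclosure_swap_castSucc_succ]; trivial
    refine (Submonoid.closure_le (S := φ.range.toSubmonoid)).2 ?_ hπ
    rintro _ ⟨i, rfl⟩
    exact swaps_mem hroot i
  have hc : ∀ {K : Type _} [Field K] [Fintype K], Fintype.card K = 2 →
      Nat.card (chevB2.group K) = 720 := by
    intro K _ _ hK
    have := Cfsg.Agent.S1060.result (F := K) hK
    norm_num at this
    exact this
  have h2 : Nat.card (chevB2.group (ZMod 2)) = 720 := by
    have := Cfsg.Agent.S1060.result (F := ZMod 2) (ZMod.card 2)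
    norm_num at this
    exact this
  have hp : CharP F 2 := by
    have : Fact (Nat.Prime 2) := ⟨Nat.prime_two⟩
    exact charP_of_card_eq_prime hF
  let f : ZMod 2 →+* F := ZMod.castHom dvd_rfl F
  let ψ : chevB2.group (ZMod 2) →* chevB2.group F :=
    (CfsgLib.ChevField.mapGL f).subgroupMap (chevB2.group (ZMod 2)) |>
      (Subgroup.inclusion (CfsgLib.ChevField.group_map_le f)).comp
  have hψ : Function.Bijective ψ := by
    refine (Nat.bijective_iff_injective_and_card _).2 ⟨fun a b e => ?_, by rw [h2, hc hF]⟩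
    exact Subtype.ext (CfsgLib.ChevField.mapGL_injective f (congrArg Subtype.val e))
  have hφ : Function.Bijective φ := by
    refine (Nat.bijective_iff_surjective_and_card _).2 ⟨hsurj, ?_⟩
    rw [h2, Nat.card_perm, Nat.card_fin]; rfl
  exact ⟨(MulEquiv.ofBijective ψ hψ).symm.trans (MulEquiv.ofBijective φ hφ)⟩

end Cfsg.Agent.S1058
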