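import Cfsg.Statements.S1075
import Cfsg.Agent.Lib.ChevStr.InstanceTables
import Cfsg.Agent.Lib.Ree3.Group

set_option autoImplicit false
open Cfsg

namespace Cfsg.Agent.S1075


theorem center_eq_bot {L : Type*} [Field L] [CharP L 2] :
    Subgroup.center (Matrix.SpecialLinearGroup (Fin 2) L) = ⊥ := by
  refine (Subgroup.eq_bot_iff_forall _).2 fun g hg => ?_
  obtain ⟨r, hr, hA⟩ := Matrix.SpecialLinearGroup.mem_center_iff.1 hg
  have hr1 : r = 1 := by
    have h2 : r ^ 2 = 1 := by simpa using hr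
    have : (r + 1) ^ 2 = 0 := by rw [CharTwo.add_sq, h2, one_pow, CharTwo.add_self_eq_zero]
    exact CharTwo.add_eq_zero.1 (pow_eq_zero_iff two_ne_zero |>.1 this)
  apply Subtype.ext
  rw [← hA, hr1, map_one]
  rfl

/-- The derived subgroup of ²G₂(3) (θ = identity over the field with three elements) has order 504 = 1512/3 and is isomorphic to PSL₂ over the field with eight elements. -/
theorem result {L : Type*} [Field L] [Fintype L] (hL : Fintype.card L = 8) :
    Nat.card ↥(commutator ↥(Cfsg.Lie.twistedG2 (ZMod 3) 1)) = 504 ∧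
      Nonempty (↥(commutator ↥(Cfsg.Lie.twistedG2 (ZMod 3) 1)) ≃* Matrix.ProjectiveSpecialLinearGroup (Fin 2) L) := by
  have : CharP L 2 := by
    have h8 : Fintype.card L = 2 ^ 3 := by rw [hL]; norm_num
    exact charP_of_card_eq_prime_pow h8
  obtain ⟨α, hα⟩ := CfsgLib.Ree3.exists_root hL
  obtain ⟨e⟩ := CfsgLib.Ree3.exists_equiv (CfsgLib.ChevStr.coreG2 (ZMod 3)) hα hL rfl
  refine ⟨?_, ⟨e.trans (QuotientGroup.quotientBot.symm.trans
    (QuotientGroup.quotientMulEquivOfEq center_eq_bot.symm))⟩⟩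
  rw [Nat.card_congr e.toEquiv]
  exact CfsgLib.Ree3.card_sl hα CfsgLib.Ree3.slTbl CfsgLib.Ree3.oneCode CfsgLib.Ree3.slTbl_codes hL

end Cfsg.Agent.S1075
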