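import Cfsg.Statements.S1079
import Cfsg.Agent.Lib.ChevCover.Subsystem

set_option autoImplicit false
open Cfsg

namespace Cfsg.Agent.S1079

/-- `|Z(Ḡ)| = gcd(3, q-1)` for E₆ and `gcd(2, q-1)` for E₇ over a field with `q` elements (the centre is dual to the weight lattice modulo the root lattice). -/
theorem result {K : Type*} [Field K] [Fintype K] {q : ℕ} (hq : Fintype.card K = q)
    (p : Cfsg.Lie.ChevalleyDatum × ℕ) (hp : p ∈ [(Cfsg.Lie.chevE6, 3), (Cfsg.Lie.chevE7, 2)]) :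
    Nat.card (Subgroup.center (p.1.SteinbergGroup K)) = Nat.gcd p.2 (q - 1) := by
  obtain C8 := CfsgLib.ChevStr.coreE8 K
  have hinj := CfsgLib.ChevCover.torus_injective_of_smith C8 CfsgLib.ChevStr.smithE8 (by decide +kernel)
  simp only [List.mem_cons, List.not_mem_nil, or_false] at hp
  rcases hp with rfl | rfl
  · obtain C := CfsgLib.ChevStr.coreE6 K
    have hadj := CfsgLib.ChevCover.hasNeighbours (D := Cfsg.Lie.chevE6) (by simp)
    rw [CfsgLib.ChevCover.RootEmb.card_center CfsgLib.ChevCover.embE6 C8 C hadj hinj,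
      CfsgLib.ChevCover.card_torus_ker C CfsgLib.ChevStr.smithE6, hq]
    show (∏ a : Fin 6, Nat.gcd (q - 1) (([1, 1, 1, 1, 1, 3] : List ℕ).getD a.val 0)) = Nat.gcd 3 (q - 1)
    simp [Fin.prod_univ_six, Nat.gcd_comm 3]
  · obtain C := CfsgLib.ChevStr.coreE7 K
    have hadj := CfsgLib.ChevCover.hasNeighbours (D := Cfsg.Lie.chevE7) (by simp)
    rw [CfsgLib.ChevCover.RootEmb.card_center CfsgLib.ChevCover.embE7 C8 C hadj hinj,
      CfsgLib.ChevCover.card_torus_ker C CfsgLib.ChevStr.smithE7, hq]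
    show (∏ a : Fin 7, Nat.gcd (q - 1) (([1, 1, 1, 1, 1, 1, 2] : List ℕ).getD a.val 0)) = Nat.gcd 2 (q - 1)
    simp [Fin.prod_univ_seven, Nat.gcd_comm 2]

end Cfsg.Agent.S1079
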