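import Cfsg.Statements.S1080

set_option autoImplicit false
open Cfsg

namespace Cfsg.Agent.S1080

open Cfsg.Lie

theorem xMat_map {F : Type*} [Field F] (D : ChevalleyDatum) (f : F →+* F) (r : Fin D.nroots) (t : F) :
    (D.xMat F r t).map f = D.xMat F r (f t) := by
  ext row col
  rcases col with i | s <;> rcases row with i' | u <;>
    simp only [ChevalleyDatum.xMat, Matrix.map_apply, Matrix.of_apply] <;>
    split_ifs <;> simp [map_list_sum, List.map_map, Function.comp_def]

theorem glmap_mem {F : Type*} [Field F] (D : ChevalleyDatum) (f : F →+* F) {g : GL D.Idx F}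
    (hg : g ∈ D.group F) : Matrix.GeneralLinearGroup.map f g ∈ D.group F := by
  induction hg using Subgroup.closure_induction with
  | mem x hx =>
    obtain ⟨r, t, hx⟩ := hx
    refine Subgroup.subset_closure ⟨r, f t, ?_⟩
    rw [← xMat_map D f r t, ← hx]
    rfl
  | one => simp
  | mul x y _ _ hx hy => rw [map_mul]; exact mul_mem hx hy
  | inv x _ hx => rw [map_inv]; exact inv_mem hx

/-- The map induced on the Chevalley group by a ring endomorphism. -/
def groupMap {F : Type*} [Field F] (D : ChevalleyDatum) (f : F →+* F) : ↥(D.group F) →* ↥(D.group F) :=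
  ((Matrix.GeneralLinearGroup.map f).comp (D.group F).subtype).codRestrict _ (fun g => glmap_mem D f g.2)

theorem groupMap_comp {F : Type*} [Field F] (D : ChevalleyDatum) (f g : F →+* F) (h : ∀ x, f (g x) = x)
    (a : ↥(D.group F)) : groupMap D f (groupMap D g a) = a := by
  apply Subtype.ext
  apply Units.ext
  ext i j
  exact h _

/-- Field automorphisms: for every field automorphism `f` there is a group automorphism sending each `x_r(t)` to `x_r(f t)`. -/
theorem result {F : Type*} [Field F] (D : Cfsg.Lie.ChevalleyDatum) (hD : D ∈ [Cfsg.Lie.chevG2, Cfsg.Lie.chevB2, Cfsg.Lie.chevD4, Cfsg.Lie.chevF4, Cfsg.Lie.chevE6, Cfsg.Lie.chevE7, Cfsg.Lie.chevE8]) (f : F ≃+* F) :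
    ∃ α : ↥(D.group F) ≃* ↥(D.group F), ∀ (g : ↥(D.group F)) (r : ℕ) (t : F), r < D.nroots →
      ((g : GL D.Idx F) : Matrix D.Idx D.Idx F) = D.x F r t → ((α g : GL D.Idx F) : Matrix D.Idx D.Idx F) = D.x F r (f t) := by
  refine ⟨{ toFun := groupMap D f.toRingHom, invFun := groupMap D f.symm.toRingHom,
            left_inv := groupMap_comp D _ _ (fun x => f.symm_apply_apply x),
            right_inv := groupMap_comp D _ _ (fun x => f.apply_symm_apply x),
            map_mul' := map_mul _ }, ?_⟩
  intro g r t hr hg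
  simp only [ChevalleyDatum.x, dif_pos hr] at hg ⊢
  refine Eq.trans ?_ (xMat_map D f.toRingHom ⟨r, hr⟩ t)
  rw [← hg]
  rfl

end Cfsg.Agent.S1080
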