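import Cfsg.Statements.S1081
import Cfsg.Agent.Lib.Twisted.GraphSym

set_option autoImplicit false
open Cfsg

namespace Cfsg.Agent.S1081

open CfsgLib.Twisted in
theorem aut_of_sym {F : Type*} [Field F] {D : Cfsg.Lie.ChevalleyDatum} {P : SymData} {nodes : List ℕ}
    (h : P.check D = true)
    (hs : ∀ i < D.rank, P.root (D.simple i) = D.simple (nodes.getD i 0) ∧
      P.root (D.neg (D.simple i)) = D.neg (D.simple (nodes.getD i 0)) ∧
      P.sign (D.simple i) = 1 ∧ P.sign (D.neg (D.simple i)) = 1 ∧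
      D.simple i < D.nroots ∧ D.neg (D.simple i) < D.nroots) :
    ∃ α : ↥(D.group F) ≃* ↥(D.group F), ∀ (g : ↥(D.group F)) (i : ℕ) (t : F), i < D.rank →
      (((g : GL D.Idx F) : Matrix D.Idx D.Idx F) = D.x F (D.simple i) t →
        ((α g : GL D.Idx F) : Matrix D.Idx D.Idx F) = D.x F (D.simple (nodes.getD i 0)) t) ∧
      (((g : GL D.Idx F) : Matrix D.Idx D.Idx F) = D.x F (D.neg (D.simple i)) t →
        ((α g : GL D.Idx F) : Matrix D.Idx D.Idx F) = D.x F (D.neg (D.simple (nodes.getD i 0))) t) := by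
  refine ⟨SymData.autGroup h F, fun g i t hi => ⟨fun hg => ?_, fun hg => ?_⟩⟩ <;>
    obtain ⟨h1, h2, h3, h4, h5, h6⟩ := hs i hi
  · rw [SymData.autGroup_x h F g _ t h5 hg, h1, h3, Int.cast_one, one_mul]
  · rw [SymData.autGroup_x h F g _ t h6 hg, h2, h4, Int.cast_one, one_mul]

/-- Graph automorphisms: for E₆ with ρ = (p₁ p₆)(p₃ p₅) and for D₄ with ρ the 3-cycle on the outer nodes there is a group automorphism sending `x_p(t) ↦ x_{ρ(p)}(t)` and `x_{-p}(t) ↦ x_{-ρ(p)}(t)` for every fundamental root `p`. -/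
theorem result {F : Type*} [Field F] (p : Cfsg.Lie.ChevalleyDatum × List ℕ)
    (hp : p ∈ [(Cfsg.Lie.chevE6, [5, 1, 4, 3, 2, 0]), (Cfsg.Lie.chevD4, [2, 1, 3, 0]), (Cfsg.Lie.chevD4, [3, 1, 0, 2])]) :
    ∃ α : ↥(p.1.group F) ≃* ↥(p.1.group F), ∀ (g : ↥(p.1.group F)) (i : ℕ) (t : F), i < p.1.rank →
      (((g : GL p.1.Idx F) : Matrix p.1.Idx p.1.Idx F) = p.1.x F (p.1.simple i) t →
        ((α g : GL p.1.Idx F) : Matrix p.1.Idx p.1.Idx F) = p.1.x F (p.1.simple (p.2.getD i 0)) t) ∧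
      (((g : GL p.1.Idx F) : Matrix p.1.Idx p.1.Idx F) = p.1.x F (p.1.neg (p.1.simple i)) t →
        ((α g : GL p.1.Idx F) : Matrix p.1.Idx p.1.Idx F) = p.1.x F (p.1.neg (p.1.simple (p.2.getD i 0))) t) := by
  simp only [List.mem_cons, List.not_mem_nil, or_false] at hp
  rcases hp with rfl | rfl | rfl
  all_goals first
    | exact aut_of_sym CfsgLib.Twisted.e6Sym_check CfsgLib.Twisted.e6Sym_simple
    | exact aut_of_sym CfsgLib.Twisted.d4aSym_check CfsgLib.Twisted.d4aSym_simple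
    | exact aut_of_sym CfsgLib.Twisted.d4bSym_check CfsgLib.Twisted.d4bSym_simple

end Cfsg.Agent.S1081
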