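import Cfsg.Statements.S1084
import Cfsg.Agent.Lib.E6Iso.Equiv
import Cfsg.Agent.S1054

set_option autoImplicit false
open Cfsg

namespace Cfsg.Agent.S1084

/-- E₆ via the 27-dimensional cubic form: for a finite field with at least three elements, (isometries of the cubic form) / centre ≅ the Chevalley group E₆(F). -/
theorem result {F : Type*} [Field F] [Fintype F] (hF : 3 ≤ Fintype.card F) : Nonempty (Cfsg.Lie.E6 F ≃* ↥(Cfsg.Lie.chevE6.group F)) := by
  classical
  have h : ∃ c : F, c ≠ 0 ∧ c ≠ 1 := by
    by_contra hne
    push Not at hne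
    have hle : (Finset.univ : Finset F) ⊆ {0, 1} := fun x _ => by
      by_cases h0 : x = 0
      · simp [h0]
      · simp [hne x h0]
    have hcard := (Finset.card_le_card hle).trans Finset.card_le_two
    rw [Finset.card_univ] at hcard
    omega
  exact CfsgLib.E6Iso.nonempty_equiv h (Cfsg.Agent.S1054.result Cfsg.Lie.chevE6 (by simp)).1

end Cfsg.Agent.S1084
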