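import Cfsg.Statements.S1086
import Cfsg.Agent.Lib.Twisted.TypeE6

set_option autoImplicit false
open Cfsg

namespace Cfsg.Agent.S1086

/-- |U¹| = |G¹ ∩ U| = q ^ 36 for ²E₆(q). -/
theorem result {K : Type*} [Field K] [Fintype K] {q : ℕ} (hq : IsPrimePow q) (hK : Fintype.card K = q ^ 2) :
    Nat.card ↥(Cfsg.Lie.chevE6.posUnipotent K ⊓ Cfsg.Lie.twistedE6 K q) = q ^ 36 := by
  obtain ⟨p, n, _, rfl, hn, h2⟩ := CfsgLib.Twisted.setupE6 K hq hK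
  have h := (CfsgLib.Twisted.gensE6 K hn h2).card_U1
  have hN : {r : ℕ | Cfsg.Lie.chevE6.IsPosRoot r}.ncard = 36 := by
    have hd : ∀ r : Fin Cfsg.Lie.chevE6.nroots, Cfsg.Lie.chevE6.IsPosRoot r.val ↔ 36 ≤ r.val := by
      decide +kernel
    have he : {r : ℕ | Cfsg.Lie.chevE6.IsPosRoot r} = Set.Ico 36 72 := by
      ext r
      exact ⟨fun hr => ⟨(hd ⟨r, hr.1⟩).1 hr, hr.1⟩, fun hr => (hd ⟨r, hr.2⟩).2 hr.1⟩
    rw [he, Set.ncard_eq_toFinset_card', Set.toFinset_Ico, Nat.card_Ico]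
  rw [hN, Nat.card_eq_fintype_card (α := K), hK, ← pow_mul, mul_comm 2 36, pow_mul] at h
  exact Nat.pow_left_injective two_ne_zero h

end Cfsg.Agent.S1086
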