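import Cfsg.Statements.S1090
import Cfsg.Agent.Lib.Twisted.TypeF4

set_option autoImplicit false
open Cfsg

namespace Cfsg.Agent.S1090

/-- |U¹| = |G¹ ∩ U| = (2 ^ (2 * m + 1)) ^ 12 for ²F₄(2^(2m+1)). -/
theorem result {K : Type*} [Field K] [Fintype K] {m : ℕ} (hK : Fintype.card K = 2 ^ (2 * m + 1)) :
    Nat.card ↥(Cfsg.Lie.chevF4.posUnipotent K ⊓ Cfsg.Lie.twistedF4 K (2 ^ m)) = (2 ^ (2 * m + 1)) ^ 12 := by
  obtain ⟨_, hn⟩ := CfsgLib.Twisted.setupF4 K hK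
  have h := (CfsgLib.Twisted.gensF4 K hn).card_U1
  have hN : {r : ℕ | Cfsg.Lie.chevF4.IsPosRoot r}.ncard = 24 := by
    have hd : ∀ r : Fin Cfsg.Lie.chevF4.nroots, Cfsg.Lie.chevF4.IsPosRoot r.val ↔ 24 ≤ r.val := by
      decide +kernel
    have he : {r : ℕ | Cfsg.Lie.chevF4.IsPosRoot r} = Set.Ico 24 48 := by
      ext r
      exact ⟨fun hr => ⟨(hd ⟨r, hr.1⟩).1 hr, hr.1⟩, fun hr => (hd ⟨r, hr.2⟩).2 hr.1⟩
    rw [he, Set.ncard_eq_toFinset_card', Set.toFinset_Ico, Nat.card_Ico]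
  rw [hN, Nat.card_eq_fintype_card (α := K), hK,
    show ((2 : ℕ) ^ (2 * m + 1)) ^ 24 = ((2 ^ (2 * m + 1)) ^ 12) ^ 2 by rw [← pow_mul _ 12 2]] at h
  exact Nat.pow_left_injective two_ne_zero h

end Cfsg.Agent.S1090
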