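import Cfsg.Statements.S1095
import Cfsg.Agent.Lib.ChevStr.InstanceTables

set_option autoImplicit false
open Cfsg

namespace Cfsg.Agent.S1095

open Cfsg.Lie CfsgLib.Chev Matrix

/-- The sign conditions on the monomial data of the fundamental reflections. -/
def etaCheck (T : Data) : Bool :=
  (List.range T.l).all fun i =>
    decide (T.eta i (T.simp' i) = -1) && decide (T.eta i (T.row (T.simp' i)).neg = -1) &&
    (List.range T.n).all fun s =>
      decide (T.eta i s * T.eta i (T.piRoot i s) =
        if Nat.beq (((T.row s).car.getD i 0).natAbs % 2) 0 then 1 else -1) &&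
      decide (T.eta i s * T.eta i (T.row s).neg = 1)

variable {D : ChevalleyDatum} {F : Type*} [Field F]

theorem of_cert (C : Cert D) (hc : etaCheck C.T = true) {i : ℕ} (hi : i < D.rank) :
    ∃ η : ℕ → ℤ, (∀ s < D.nroots, η s = 1 ∨ η s = -1) ∧ η (D.simple i) = -1 ∧
      η (D.neg (D.simple i)) = -1 ∧
      (∀ s < D.nroots, η s * η (D.reflectRoot i s) = (-1) ^ (D.cartan i s).natAbs ∧
        η s * η (D.neg s) = 1) ∧
      D.nMat F (D.simple i) 1 = Matrix.of (fun (row col : D.Idx) =>
        Sum.elim
          (fun j' : Fin D.rank => Sum.elim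
            (fun j : Fin D.rank => (if j' = j then (1 : F) else 0) -
              (if (j' : ℕ) = i then ((D.cartan j (D.simple i) : ℤ) : F) else 0))
            (fun _ => (0 : F)) col)
          (fun s' : Fin D.nroots => Sum.elim
            (fun _ => (0 : F))
            (fun s : Fin D.nroots =>
              if (s' : ℕ) = D.reflectRoot i s then ((η s : ℤ) : F) else 0) col)
          row) := by
  have hn := C.hv.hn
  have hi' : i < C.T.l := C.hv.hl ▸ hi
  simp only [etaCheck, List.all_eq_true, List.mem_range, Bool.and_eq_true, decide_eq_true_eq] at hc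
  obtain ⟨⟨h1, h2⟩, h3⟩ := hc i hi'
  refine ⟨C.T.eta i, fun s _ => C.T.eta_eq i s, by rw [C.hv.simple_eq]; exact h1,
    by rw [← C.hv.neg_eq _ (C.hv.simple_eq i ▸ C.hv.simple_lt i hi'), C.hv.simple_eq]; exact h2,
    fun s hs => ?_, ?_⟩
  · have hs' : s < C.T.n := hn ▸ hs
    obtain ⟨e1, e2⟩ := h3 s hs'
    refine ⟨?_, by rwa [← C.hv.neg_eq s hs']⟩
    rw [C.reflectRoot_eq hi' hs', e1, C.hv.car_eq s hs' i hi']
    rcases Nat.mod_two_eq_zero_or_one ((C.T.row s).car.getD i 0).natAbs with h | h
    · rw [if_pos (by rw [h]; rfl), Even.neg_one_pow (Nat.even_iff.2 h)]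
    · rw [if_neg (by rw [h]; decide), Odd.neg_one_pow (Nat.odd_iff.2 h)]
  · ext a b
    rw [CfsgLib.ChevStr.nMat_apply C ⟨i, hi⟩ a b]
    rcases b with j | s
    · have hj : j.val < C.T.l := lt_of_lt_of_eq j.isLt C.hv.hl.symm
      have e1 : idxCode D (Sum.inl j) = C.T.n + j.val := by rw [idxCode_inl, hn]
      rw [e1]
      simp only [Data.pVec, Data.pTerm_cor hj, List.map_cons, List.map_nil, evalV_cons, evalV_nil,
        add_zero, Pi.add_apply, Pi.smul_apply, unitFun, Matrix.of_apply, pow_zero, mul_one,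
        smul_eq_mul]
      have hcar : D.cartan j.val (D.simple i) = (C.T.row (C.T.simp' i)).car.getD j.val 0 := by
        rw [C.hv.simple_eq]
        exact C.hv.car_eq _ (C.hv.simple_lt i hi') j.val hj
      rcases a with j' | s'
      · simp only [idxCode_inl, hn, Sum.elim_inl, Nat.add_left_cancel_iff, Fin.val_inj, hcar]
        split_ifs <;> push_cast <;> ring
      · have := s'.isLt
        simp only [Sum.elim_inr, Sum.elim_inl]
        rw [if_neg (by rw [idxCode_inr]; omega), if_neg (by rw [idxCode_inr]; omega)]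
        simp
    · have hs : s.val < C.T.n := lt_of_lt_of_eq s.isLt hn.symm
      rw [idxCode_inr]
      simp only [Data.pVec, Data.pTerm_root hs, List.map_cons, List.map_nil, evalV_cons,
        evalV_nil, add_zero, Pi.smul_apply, unitFun, Matrix.of_apply, pow_zero, mul_one, smul_eq_mul]
      have hk := C.reflectRoot_eq hi' hs
      rcases a with j' | s'
      · have h' : C.T.piRoot i s < C.T.n := (Data.checkPerm_spec (by
          have := C.checkConj i hi'
          simp only [Data.checkConj, Bool.and_eq_true] at this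
          exact this.1.1) hs).1
        simp only [Sum.elim_inr, Sum.elim_inl]
        rw [if_neg (by rw [idxCode_inl]; omega), mul_zero]
      · simp only [Sum.elim_inr, hk]
        rw [idxCode_inr]
        split_ifs <;> simp_all

theorem etaG2 : etaCheck G2.cert.T = true := by decide +kernel
theorem etaB2 : etaCheck B2.cert.T = true := by decide +kernel
theorem etaD4 : etaCheck D4.cert.T = true := by decide +kernel
theorem etaF4 : etaCheck F4.cert.T = true := by decide +kernel
theorem etaE6 : etaCheck E6.cert.T = true := by decide +kernel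
theorem etaE7 : etaCheck E7.cert.T = true := by decide +kernel
theorem etaE8 : etaCheck E8.cert.T = true := by decide +kernel


/-- `n_p` (p = p_{i+1} fundamental) is the signed monomial matrix `h_{p_j} ↦ h_{p_j} - A_{p_j,p} h_p`, `e_s ↦ η_s e_{w_p(s)}`, with `η_s = ±1`, `η_p = η_{-p} = -1`, `η_s η_{w_p(s)} = (-1)^{A_{p,s}}`, `η_s η_{-s} = 1`. -/
theorem result {F : Type*} [Field F] (D : Cfsg.Lie.ChevalleyDatum) (hD : D ∈ [Cfsg.Lie.chevG2, Cfsg.Lie.chevB2, Cfsg.Lie.chevD4, Cfsg.Lie.chevF4, Cfsg.Lie.chevE6, Cfsg.Lie.chevE7, Cfsg.Lie.chevE8]) (i : ℕ) (hi : i < D.rank) :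
    ∃ η : ℕ → ℤ, (∀ s < D.nroots, η s = 1 ∨ η s = -1) ∧ η (D.simple i) = -1 ∧ η (D.neg (D.simple i)) = -1 ∧
      (∀ s < D.nroots, η s * η (D.reflectRoot i s) = (-1) ^ (D.cartan i s).natAbs ∧ η s * η (D.neg s) = 1) ∧
      D.nMat F (D.simple i) 1 = Matrix.of (fun (row col : D.Idx) =>
        Sum.elim
          (fun j' : Fin D.rank => Sum.elim
            (fun j : Fin D.rank => (if j' = j then (1 : F) else 0) - (if (j' : ℕ) = i then ((D.cartan j (D.simple i) : ℤ) : F) else 0))
            (fun _ => (0 : F)) col)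
          (fun s' : Fin D.nroots => Sum.elim
            (fun _ => (0 : F))
            (fun s : Fin D.nroots => if (s' : ℕ) = D.reflectRoot i s then ((η s : ℤ) : F) else 0) col)
          row) := by
  simp only [List.mem_cons, List.not_mem_nil, or_false] at hD
  rcases hD with rfl | rfl | rfl | rfl | rfl | rfl | rfl
  exacts [of_cert G2.cert etaG2 hi, of_cert B2.cert etaB2 hi, of_cert D4.cert etaD4 hi,
    of_cert F4.cert etaF4 hi, of_cert E6.cert etaE6 hi, of_cert E7.cert etaE7 hi,
    of_cert E8.cert etaE8 hi]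

end Cfsg.Agent.S1095
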