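import Cfsg.Statements.S1101
import Cfsg.Agent.Lib.Twisted.TypeG2

set_option autoImplicit false
open Cfsg

namespace Cfsg.Agent.S1101

/-- For ²G₂ over `K` with `|K| = 3^(2m+1)`, `θ = 3^m`: `U¹ = G¹ ∩ U` consists exactly of the elements `x_a(t^θ) x_b(t) x_{a+b}(t^{θ+1}+u^θ) x_{2a+b}(t^{2θ+1}+v^θ) x_{3a+b}(u) x_{3a+2b}(v)`, `t, u, v ∈ K`, and it has `|K|³` elements. -/
theorem result {K : Type*} [Field K] [Fintype K] {m : ℕ} (hK : Fintype.card K = 3 ^ (2 * m + 1)) :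
    (∀ g : GL Cfsg.Lie.chevG2.Idx K, g ∈ Cfsg.Lie.chevG2.posUnipotent K ⊓ Cfsg.Lie.twistedG2 K (3 ^ m) ↔
      ∃ t u v : K, (g : Matrix Cfsg.Lie.chevG2.Idx Cfsg.Lie.chevG2.Idx K) = Cfsg.Lie.chevG2.wordMat K (Cfsg.Lie.reeWordU (3 ^ m) t u v)) ∧
    Nat.card ↥(Cfsg.Lie.chevG2.posUnipotent K ⊓ Cfsg.Lie.twistedG2 K (3 ^ m)) = (3 ^ (2 * m + 1)) ^ 3 := by
  classical
  obtain ⟨_, hn⟩ := CfsgLib.Twisted.setupG2 K hK
  have hc := CfsgLib.Twisted.card_U1G2 K hn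
  refine ⟨fun g => ?_, by rw [hc, hK]⟩
  set C := CfsgLib.ChevStr.coreG2 K
  let f : K × K × K → ↥(Cfsg.Lie.chevG2.posUnipotent K ⊓ Cfsg.Lie.twistedG2 K (3 ^ m)) := fun p =>
    ⟨C.wordGL (Cfsg.Lie.reeWordU (3 ^ m) p.1 p.2.1 p.2.2),
      by
        rw [C.posUnipotent_eq]
        refine C.Ucl_mono ?_ (CfsgLib.Twisted.word_top K p.1 p.2.1 p.2.2).1
        intro r hr
        exact (by decide +kernel : ∀ r ∈ CfsgLib.Twisted.rootsG2, Cfsg.Lie.chevG2.IsPosRoot r) r hr,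
      C.wordGL_mem_gen ⟨_, _, _, Or.inl rfl⟩⟩
  have hf : Function.Bijective f := by
    rw [Nat.bijective_iff_injective_and_card]
    refine ⟨fun a b h => CfsgLib.Twisted.word_injG2 K (congrArg Subtype.val h), ?_⟩
    rw [hc, Nat.card_prod, Nat.card_prod, Nat.card_eq_fintype_card]
    ring
  constructor
  · intro hg
    obtain ⟨⟨t, u, v⟩, hp⟩ := hf.2 ⟨g, hg⟩
    refine ⟨t, u, v, ?_⟩
    rw [← C.coe_wordGL]
    exact congrArg Units.val (congrArg Subtype.val hp).symm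
  · rintro ⟨t, u, v, h⟩
    rw [show g = (f (t, u, v) : GL Cfsg.Lie.chevG2.Idx K) from Units.ext (h.trans (C.coe_wordGL _).symm)]
    exact (f (t, u, v)).2

end Cfsg.Agent.S1101
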