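import Cfsg.Statements.S1103
import Cfsg.Agent.Lib.Twisted.TypeE6
import Cfsg.Agent.Lib.Twisted.WeylQuot

set_option autoImplicit false
open Cfsg

namespace Cfsg.Agent.S1103

open Cfsg.Lie CfsgLib.ChevStr CfsgLib.Twisted

/-- The folding of the roots of E6 onto those of F4. -/
def fold (r : Fin chevE6.nroots) : Fin chevF4.nroots :=
  ⟨([0, 1, 2, 3, 7, 3, 4, 8, 5, 9, 11, 6, 10, 12, 13, 14, 7, 8, 15, 9, 16, 18, 11, 18, 21, 23, 10, 17, 19, 20, 12, 19, 22, 13, 20, 14, 33, 27, 34, 25, 28, 35, 27, 28, 30, 37, 24, 26, 29, 36, 29, 31, 38, 32, 39, 40, 33, 34, 35, 37, 41, 36, 38, 42, 39, 43, 44, 40, 44, 45, 46, 47] : List ℕ).getD r.val 0 % chevF4.nroots, Nat.mod_lt _ (by decide)⟩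

/-- The reflection words of the orbits. -/
def words : Fin 4 → List (Fin chevE6.rank)
  | 0 => [⟨0, by decide⟩, ⟨5, by decide⟩]
  | 1 => [⟨2, by decide⟩, ⟨4, by decide⟩]
  | 2 => [⟨3, by decide⟩]
  | 3 => [⟨1, by decide⟩]

theorem fold_surjective : Function.Surjective fold := by
  have h : ∀ s, ∃ r, fold r = s := by decide +kernel
  exact h

theorem fold_pos : ∀ r, chevF4.IsPosRoot (fold r) ↔ chevE6.IsPosRoot r := by decide +kernel

theorem words_spec : ∀ i, (∀ a ∈ words i, a ∈ nodesE6 i) ∧ ∀ j ∈ nodesE6 i,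
    chevE6.IsNegRoot (reflDataE6.wordPerm (words i) ⟨chevE6.simple j.val, rootDataE6.simple_lt j⟩) := by
  decide +kernel

theorem fold_comm : ∀ (i : Fin 4) r,
    fold (reflDataE6.wordPerm (words i) r) = reflDataF4.sPerm i (fold r) := by decide +kernel


/-- `N¹/H¹ ≅ W¹`: a surjective homomorphism from `N¹ = G¹ ∩ N` onto the Coxeter group of type F₄ with kernel `H¹`. -/
theorem result {K : Type*} [Field K] [Fintype K] {q : ℕ} (hq : IsPrimePow q) (hK : Fintype.card K = q ^ 2) :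
    ∃ φ : ↥(Cfsg.Lie.chevE6.monomialSubgroup K ⊓ Cfsg.Lie.twistedE6 K q) →* (CoxeterMatrix.F₄).Group, Function.Surjective φ ∧
      φ.ker = (Cfsg.Lie.chevE6.diagonalSubgroup K ⊓ Cfsg.Lie.twistedE6 K q).subgroupOf (Cfsg.Lie.chevE6.monomialSubgroup K ⊓ Cfsg.Lie.twistedE6 K q) := by
  obtain ⟨p, n, _, rfl, hn, h2⟩ := setupE6 K hq hK
  have g := gensE6 K hn h2
  have hwJ : ∀ i, g.wJ i = reflDataE6.wordPerm (words i) := fun i =>
    g.wJ_eq_word (words i) (words_spec i).1 (words_spec i).2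
  refine g.exists_weyl_fold coxDataF4 fold id Function.surjective_id fold_surjective fold_pos
    fun i r => ?_
  rw [hwJ]
  exact fold_comm i r

end Cfsg.Agent.S1103
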