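import Cfsg.Statements.S1107
import Cfsg.Agent.Lib.Twisted.TypeD4
import Cfsg.Agent.Lib.Twisted.WeylQuot

set_option autoImplicit false
open Cfsg

namespace Cfsg.Agent.S1107

open Cfsg.Lie CfsgLib.ChevStr CfsgLib.Twisted

/-- The folding of the roots of D4 onto those of G2. -/
def fold (r : Fin chevD4.nroots) : Fin chevG2.nroots :=
  ⟨([0, 1, 2, 2, 3, 4, 2, 3, 3, 5, 4, 4, 7, 7, 6, 8, 8, 9, 7, 8, 9, 9, 10, 11] : List ℕ).getD r.val 0 %
    chevG2.nroots, Nat.mod_lt _ (by decide)⟩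

/-- The reflection words of the orbits. -/
def words : Fin 2 → List (Fin chevD4.rank)
  | 0 => [⟨0, by decide⟩, ⟨2, by decide⟩, ⟨3, by decide⟩]
  | 1 => [⟨1, by decide⟩]

theorem fold_surjective : Function.Surjective fold := by
  have h : ∀ s, ∃ r, fold r = s := by decide +kernel
  exact h

theorem fold_pos : ∀ r, chevG2.IsPosRoot (fold r) ↔ chevD4.IsPosRoot r := by decide +kernel

theorem words_spec : ∀ i, (∀ a ∈ words i, a ∈ nodesD4 i) ∧ ∀ j ∈ nodesD4 i,
    chevD4.IsNegRoot (reflDataD4.wordPerm (words i) ⟨chevD4.simple j.val, rootDataD4.simple_lt j⟩) := by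
  decide +kernel

theorem fold_comm : ∀ (i : Fin 2) r,
    fold (reflDataD4.wordPerm (words i) r) = reflDataG2.sPerm i (fold r) := by decide +kernel


/-- `N¹/H¹ ≅ W¹`: a surjective homomorphism from `N¹ = G¹ ∩ N` onto the Coxeter group of type G₂ (dihedral of order 12) with kernel `H¹`. -/
theorem result {K : Type*} [Field K] [Fintype K] {q : ℕ} (hq : IsPrimePow q) (hK : Fintype.card K = q ^ 3) :
    ∃ φ : ↥(Cfsg.Lie.chevD4.monomialSubgroup K ⊓ Cfsg.Lie.twistedD4 K q) →* (CoxeterMatrix.G₂).Group, Function.Surjective φ ∧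
      φ.ker = (Cfsg.Lie.chevD4.diagonalSubgroup K ⊓ Cfsg.Lie.twistedD4 K q).subgroupOf (Cfsg.Lie.chevD4.monomialSubgroup K ⊓ Cfsg.Lie.twistedD4 K q) := by
  obtain ⟨p, n, _, rfl, hn, h2⟩ := setupD4 K hq hK
  have g := gensD4 K hn h2
  have hwJ : ∀ i, g.wJ i = reflDataD4.wordPerm (words i) := fun i =>
    g.wJ_eq_word (words i) (words_spec i).1 (words_spec i).2
  refine g.exists_weyl_fold coxDataG2 fold id Function.surjective_id fold_surjective fold_pos
    fun i r => ?_
  rw [hwJ]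
  exact fold_comm i r

end Cfsg.Agent.S1107
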