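import Cfsg.Statements.S1111
import Cfsg.Agent.Lib.Twisted.TypeF4
import Cfsg.Agent.Lib.Twisted.WeylQuot

set_option autoImplicit false
open Cfsg

namespace Cfsg.Agent.S1111

open Cfsg.Lie CfsgLib.ChevStr CfsgLib.Twisted

/-- The reflection words of the orbits. -/
def words : Fin 2 → List (Fin chevF4.rank)
  | 0 => [⟨0, by decide⟩, ⟨3, by decide⟩]
  | 1 => [⟨1, by decide⟩, ⟨2, by decide⟩, ⟨1, by decide⟩, ⟨2, by decide⟩]

/-- The first twisted reflection. -/
def u0 : Equiv.Perm (Fin chevF4.nroots) := reflDataF4.wordPerm (words 0)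

/-- The second twisted reflection. -/
def u1 : Equiv.Perm (Fin chevF4.nroots) := reflDataF4.wordPerm (words 1)

theorem words_spec : ∀ i, (∀ a ∈ words i, a ∈ nodesF4 i) ∧ ∀ j ∈ nodesF4 i,
    chevF4.IsNegRoot (reflDataF4.wordPerm (words i) ⟨chevF4.simple j.val, rootDataF4.simple_lt j⟩) := by
  decide +kernel

theorem u_rel : u0 * u0 = 1 ∧ u1 * u1 = 1 ∧ (u0 * u1) ^ 8 = 1 := by decide +kernel

/-- The rotation by an amount mod 8. -/
def rot (i : ZMod 8) : Equiv.Perm (Fin chevF4.nroots) := (u0 * u1) ^ i.val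

theorem rot_add (i j : ZMod 8) : rot (i + j) = rot i * rot j := by
  rw [rot, rot, rot, ← pow_add, ZMod.val_add, ← pow_eq_pow_mod _ u_rel.2.2]

theorem rot_neg (i : ZMod 8) : rot (-i) = (rot i)⁻¹ := by
  refine eq_inv_of_mul_eq_one_left ?_
  rw [← rot_add, neg_add_cancel]
  exact pow_zero _

theorem rot_conj (i : ZMod 8) : u0 * rot i = (rot i)⁻¹ * u0 := by
  obtain ⟨h0, h1, -⟩ := u_rel
  have hs : u0 * (u0 * u1) * u0⁻¹ = (u0 * u1)⁻¹ := by
    rw [mul_inv_rev, inv_eq_of_mul_eq_one_right h1, inv_eq_of_mul_eq_one_right h0, ← mul_assoc, h0,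
      one_mul]
  have h := conj_pow (a := u0) (b := u0 * u1) (i := i.val)
  rw [hs, inv_pow] at h
  show u0 * (u0 * u1) ^ i.val = ((u0 * u1) ^ i.val)⁻¹ * u0
  rw [h, inv_mul_cancel_right]

/-- The map on the dihedral group of order 16. -/
def dihFun : DihedralGroup 8 → Equiv.Perm (Fin chevF4.nroots)
  | DihedralGroup.r i => rot i
  | DihedralGroup.sr i => u0 * rot i

/-- The dihedral group of order 16 as twisted reflections. -/
def dih : DihedralGroup 8 →* Equiv.Perm (Fin chevF4.nroots) :=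
  MonoidHom.mk' dihFun fun x y => by
    cases x with
    | r i =>
      cases y with
      | r j => exact rot_add i j
      | sr j =>
        show u0 * rot (j - i) = rot i * (u0 * rot j)
        rw [sub_eq_neg_add, rot_add, ← mul_assoc, ← mul_assoc, rot_conj, rot_neg, inv_inv]
    | sr i =>
      cases y with
      | r j =>
        show u0 * rot (i + j) = u0 * rot i * rot j
        rw [rot_add, mul_assoc]
      | sr j =>
        show rot (j - i) = u0 * rot i * (u0 * rot j)
        rw [rot_conj, mul_assoc, ← mul_assoc u0 u0, u_rel.1, one_mul, sub_eq_neg_add, rot_add, rot_neg]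

theorem dih_injective : Function.Injective dih := by
  refine (injective_iff_map_eq_one dih).2 ?_
  have h : ∀ i : ZMod 8, (rot i = 1 → i = 0) ∧ u0 * rot i ≠ 1 := by decide +kernel
  rintro (i | i) hi
  · rw [(h i).1 hi]; rfl
  · exact absurd hi (h i).2


/-- `N¹/H¹ ≅ W¹`: a surjective homomorphism from `N¹ = G¹ ∩ N` onto the dihedral group of order 16 with kernel `H¹`. -/
theorem result {K : Type*} [Field K] [Fintype K] {m : ℕ} (hK : Fintype.card K = 2 ^ (2 * m + 1)) :
    ∃ φ : ↥(Cfsg.Lie.chevF4.monomialSubgroup K ⊓ Cfsg.Lie.twistedF4 K (2 ^ m)) →* DihedralGroup 8, Function.Surjective φ ∧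
      φ.ker = (Cfsg.Lie.chevF4.diagonalSubgroup K ⊓ Cfsg.Lie.twistedF4 K (2 ^ m)).subgroupOf (Cfsg.Lie.chevF4.monomialSubgroup K ⊓ Cfsg.Lie.twistedF4 K (2 ^ m)) := by
  obtain ⟨_, hn⟩ := setupF4 K hK
  have g := gensF4 K hn
  have hwJ : ∀ i, g.wJ i = reflDataF4.wordPerm (words i) := fun i =>
    g.wJ_eq_word (words i) (words_spec i).1 (words_spec i).2
  refine g.exists_weyl_hom dih dih_injective (le_antisymm ?_ ((Subgroup.closure_le _).2 ?_))
  · have hb : u0 ∈ Subgroup.closure (Set.range g.wJ) := Subgroup.subset_closure ⟨0, hwJ 0⟩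
    have ha : u0 * u1 ∈ Subgroup.closure (Set.range g.wJ) :=
      mul_mem hb (Subgroup.subset_closure ⟨1, hwJ 1⟩)
    rintro _ ⟨x, rfl⟩
    cases x with
    | r i => exact pow_mem ha _
    | sr i => exact mul_mem hb (pow_mem ha _)
  · rintro _ ⟨i, rfl⟩
    fin_cases i
    · refine ⟨DihedralGroup.sr 0, ?_⟩
      rw [hwJ]
      exact mul_one u0
    · refine ⟨DihedralGroup.sr 1, ?_⟩
      rw [hwJ]
      show u0 * (u0 * u1) ^ 1 = u1
      rw [pow_one, ← mul_assoc, u_rel.1, one_mul]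

end Cfsg.Agent.S1111
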