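import Cfsg.Statements.S1115
import Cfsg.Agent.Lib.Twisted.TypeG2
import Cfsg.Agent.Lib.Twisted.WeylQuot

set_option autoImplicit false
open Cfsg

namespace Cfsg.Agent.S1115

open Cfsg.Lie CfsgLib.ChevStr CfsgLib.Twisted

/-- The word of the longest element. -/
def word : List (Fin chevG2.rank) :=
  [⟨0, by decide⟩, ⟨1, by decide⟩, ⟨0, by decide⟩, ⟨1, by decide⟩, ⟨0, by decide⟩, ⟨1, by decide⟩]

/-- The twisted reflection. -/
def u : Equiv.Perm (Fin chevG2.nroots) := reflDataG2.wordPerm word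

theorem word_spec : ∀ i, (∀ a ∈ word, a ∈ nodesG2 i) ∧ ∀ j ∈ nodesG2 i,
    chevG2.IsNegRoot (reflDataG2.wordPerm word ⟨chevG2.simple j.val, rootDataG2.simple_lt j⟩) := by
  decide +kernel

theorem u_rel : u ^ 2 = 1 ∧ u ≠ 1 := by decide +kernel

/-- The group of order 2 as twisted reflections. -/
def flip2 : Multiplicative (ZMod 2) →* Equiv.Perm (Fin chevG2.nroots) :=
  MonoidHom.mk' (fun x => u ^ (Multiplicative.toAdd x).val) fun x y => by
    show u ^ (Multiplicative.toAdd x + Multiplicative.toAdd y).val = _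
    rw [ZMod.val_add, ← pow_eq_pow_mod _ u_rel.1, pow_add]

theorem flip2_injective : Function.Injective flip2 := by
  refine (injective_iff_map_eq_one flip2).2 fun x hx => ?_
  have h : ∀ i : ZMod 2, u ^ i.val = 1 → i = 0 := by decide +kernel
  exact Multiplicative.toAdd.injective (h _ hx)


/-- `N¹/H¹ ≅ W¹`: a surjective homomorphism from `N¹ = G¹ ∩ N` onto the group of order 2 with kernel `H¹`. -/
theorem result {K : Type*} [Field K] [Fintype K] {m : ℕ} (hK : Fintype.card K = 3 ^ (2 * m + 1)) :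
    ∃ φ : ↥(Cfsg.Lie.chevG2.monomialSubgroup K ⊓ Cfsg.Lie.twistedG2 K (3 ^ m)) →* Multiplicative (ZMod 2), Function.Surjective φ ∧
      φ.ker = (Cfsg.Lie.chevG2.diagonalSubgroup K ⊓ Cfsg.Lie.twistedG2 K (3 ^ m)).subgroupOf (Cfsg.Lie.chevG2.monomialSubgroup K ⊓ Cfsg.Lie.twistedG2 K (3 ^ m)) := by
  obtain ⟨_, hn⟩ := setupG2 K hK
  have g := gensG2 K hn
  have hwJ : ∀ i, g.wJ i = u := fun i => g.wJ_eq_word word (word_spec i).1 (word_spec i).2
  refine g.exists_weyl_hom flip2 flip2_injective (le_antisymm ?_ ((Subgroup.closure_le _).2 ?_))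
  · rintro _ ⟨x, rfl⟩
    exact pow_mem (x := u) (Subgroup.subset_closure (k := Set.range g.wJ) ⟨0, hwJ 0⟩) _
  · rintro _ ⟨i, rfl⟩
    refine ⟨Multiplicative.ofAdd 1, ?_⟩
    rw [hwJ]
    exact pow_one u

end Cfsg.Agent.S1115
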