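import Cfsg.Statements.S1120
import Cfsg.Agent.Lib.RankOneInvol.Basic

set_option autoImplicit false
open Cfsg

namespace Cfsg.Agent.S1120

/-- In the rank-one set-up (`G` finite and doubly transitive on `Ω`, `t` an involution moving `a`, `Q` normal in `G_a` with `G_a = Q D`, `Q ⊓ D = 1` for the two-point stabiliser `D = G_a ⊓ G_{t • a}`, `|Q|` even, `|D|` odd), if `G` has 2-rank at least 2 then `O_{2'}(G)` equals the normal core of `G_a`. -/
theorem result {G Ω : Type*} [Group G] [Finite G] [MulAction G Ω] {a : Ω} {t : G} {Q : Subgroup G}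
    (hS : Cfsg.IsRankOneSetup G Ω a t Q)
    (h2 : ∃ x y : G, x ≠ 1 ∧ y ≠ 1 ∧ x ≠ y ∧ x * x = 1 ∧ y * y = 1 ∧ x * y = y * x) :
    Cfsg.pPrimeCore 2 G = (MulAction.stabilizer G a).normalCore := by
  apply le_antisymm
  · refine sSup_le ?_
    rintro M ⟨hMn, hMc⟩
    have hodd : Odd (Nat.card M) := Nat.coprime_two_right.1 hMc
    obtain ⟨x, y, hx1, hy1, hxy, hx2, hy2, hcomm⟩ := h2
    have hxy1 : x * y ≠ 1 := fun h => hxy (by
      rw [← inv_eq_of_mul_eq_one_right h, inv_eq_of_mul_eq_one_right hx2])
    have hxy2 : x * y * (x * y) = 1 := by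
      calc x * y * (x * y) = x * (y * x) * y := by group
        _ = x * x * (y * y) := by rw [← hcomm]; group
        _ = 1 := by rw [hx2, hy2, one_mul]
    obtain ⟨c, hc⟩ := CfsgLib.RankOneInvol.exists_fixed hS hx2
    have hyc : y • c = c := CfsgLib.RankOneInvol.commute_fixed hS hx1 hx2 hcomm.symm hc
    have hxyc : (x * y) • c = c := by rw [mul_smul, hyc, hc]
    have hfix : ∀ {z : G}, z ≠ 1 → z * z = 1 → z • c = c → ∀ w : G, z * w * z = w → w • c = c := by
      intro z hz1 hz2 hzc w hw
      refine CfsgLib.RankOneInvol.commute_fixed hS hz1 hz2 ?_ hzc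
      calc w * z = z * w * z * z := by rw [hw]
        _ = z * w := by rw [mul_assoc, hz2, mul_one]
    have hnx : ∀ w ∈ M, x * w * x ∈ M := fun w hw => by
      have := hMn.conj_mem w hw x; rwa [inv_eq_of_mul_eq_one_right hx2] at this
    have hny : ∀ w ∈ M, y * w * y ∈ M := fun w hw => by
      have := hMn.conj_mem w hw y; rwa [inv_eq_of_mul_eq_one_right hy2] at this
    have hMle : M ≤ MulAction.stabilizer G c :=
      CfsgLib.RankOneInvol.le_of_fourGroup_fixed hodd hx2 hy2 hcomm hnx hny
        (fun w _ => hfix hx1 hx2 hc w) (fun w _ => hfix hy1 hy2 hyc w)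
        (fun w _ => hfix hxy1 hxy2 hxyc w)
    rw [Subgroup.normal_le_normalCore]
    intro m hm
    obtain ⟨g, hg⟩ := CfsgLib.RankOneInvol.exists_smul hS c
    have := hMle (hMn.conj_mem m hm g)
    rw [MulAction.mem_stabilizer_iff, ← hg, mul_smul, mul_smul, inv_smul_smul] at this
    exact smul_left_cancel g this
  · refine le_sSup ⟨Subgroup.normalCore_normal _, Nat.coprime_two_right.2 ?_⟩
    have hle : (MulAction.stabilizer G a).normalCore ≤ CfsgLib.RankOneInvol.twoPt G a t := by
      refine le_inf (Subgroup.normalCore_le _) fun m hm => ?_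
      have h := Subgroup.normalCore_le _ ((Subgroup.normalCore_normal _).conj_mem m hm t)
      rw [MulAction.mem_stabilizer_iff, CfsgLib.RankOneInvol.t_inv hS] at h
      simp only [mul_smul] at h
      rw [MulAction.mem_stabilizer_iff]
      calc m • t • a = t • t • m • t • a := (CfsgLib.RankOneInvol.t_smul_smul hS _).symm
        _ = t • a := by rw [h]
    exact hS.odd_card.of_dvd_nat (Subgroup.card_dvd_of_le hle)

end Cfsg.Agent.S1120
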