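import Cfsg.Statements.S1125
import Cfsg.Agent.Lib.RankOneInvol.Basic

set_option autoImplicit false
open Cfsg

namespace Cfsg.Agent.S1125

/-- In the rank-one set-up (`G` finite and doubly transitive on `Ω`, `t` an involution moving `a`, `Q` normal in `G_a` with `G_a = Q D`, `Q ⊓ D = 1` for the two-point stabiliser `D = G_a ⊓ G_{t • a}`, `|Q|` even, `|D|` odd), let `X ⊆ D` fix at least three points of `Ω`. Then `C_G(X)` is doubly transitive on the fixed-point set of `X`, `|C_Q(X)|` is even, and `C_{G_a}(X) = C_Q(X) C_D(X)`. -/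
theorem result {G Ω : Type*} [Group G] [Finite G] [MulAction G Ω] {a : Ω} {t : G} {Q : Subgroup G}
    (hS : Cfsg.IsRankOneSetup G Ω a t Q)
    (X : Set G) (hX : X ⊆ ((MulAction.stabilizer G a ⊓ MulAction.stabilizer G (t • a)) : Set G))
    (h3 : ∃ b c d : Ω, b ≠ c ∧ b ≠ d ∧ c ≠ d ∧ ∀ x ∈ X, x • b = b ∧ x • c = c ∧ x • d = d) :
    (∀ b₁ b₂ c₁ c₂ : Ω, (∀ x ∈ X, x • b₁ = b₁ ∧ x • b₂ = b₂ ∧ x • c₁ = c₁ ∧ x • c₂ = c₂) →
        b₁ ≠ b₂ → c₁ ≠ c₂ → ∃ g ∈ Subgroup.centralizer X, g • b₁ = c₁ ∧ g • b₂ = c₂) ∧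
      Even (Nat.card ↥(Subgroup.centralizer X ⊓ Q)) ∧
      (Subgroup.centralizer X ⊓ Q) ⊔ (Subgroup.centralizer X ⊓ (MulAction.stabilizer G a ⊓ MulAction.stabilizer G (t • a))) = Subgroup.centralizer X ⊓ MulAction.stabilizer G a := by
  refine ⟨fun b₁ b₂ c₁ c₂ h hb hc => CfsgLib.RankOneInvol.centralizer_two_trans hS hX h3
      (fun x hx => (h x hx).1) (fun x hx => (h x hx).2.1) (fun x hx => (h x hx).2.2.1)
      (fun x hx => (h x hx).2.2.2) hb hc, ?_, ?_⟩
  · obtain ⟨u, hu, hus⟩ := CfsgLib.RankOneInvol.exists_swap_centralizing hS hX h3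
    obtain ⟨c, hc⟩ := CfsgLib.RankOneInvol.exists_fixed hS hus.2.1
    have hfa : ∀ x ∈ X, x • a = a := fun x hx => (CfsgLib.RankOneInvol.mem_twoPt.1 (hX hx)).1
    have hfb : ∀ x ∈ X, x • t • a = t • a := fun x hx => (CfsgLib.RankOneInvol.mem_twoPt.1 (hX hx)).2
    have hfc : ∀ x ∈ X, x • c = c := fun x hx =>
      CfsgLib.RankOneInvol.commute_fixed hS hus.1 hus.2.1 (Subgroup.mem_centralizer_iff.1 hu x hx) hc
    have hca : c ≠ a := fun e => CfsgLib.RankOneInvol.ta_ne hS (by rw [← hus.2.2, ← e, hc])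
    obtain ⟨g, hg, hgc, -⟩ := CfsgLib.RankOneInvol.centralizer_two_trans hS hX h3 hfc hfa hfa hfb hca
      (CfsgLib.RankOneInvol.ta_ne hS).symm
    have hs2 : g * u * g⁻¹ * (g * u * g⁻¹) = 1 := by
      calc g * u * g⁻¹ * (g * u * g⁻¹) = g * (u * u) * g⁻¹ := by group
        _ = 1 := by rw [hus.2.1]; group
    have hsQ : g * u * g⁻¹ ∈ Q := CfsgLib.RankOneInvol.inv_mem_Q_of_fixed hS hs2
      (by rw [← hgc, mul_smul, mul_smul, inv_smul_smul, hc])
    have hmem : g * u * g⁻¹ ∈ Subgroup.centralizer X ⊓ Q :=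
      ⟨(Subgroup.centralizer X).mul_mem ((Subgroup.centralizer X).mul_mem hg hu) ((Subgroup.centralizer X).inv_mem hg), hsQ⟩
    have ho : orderOf (⟨_, hmem⟩ : ↥(Subgroup.centralizer X ⊓ Q)) = 2 := by
      rw [← Subgroup.orderOf_coe]
      exact orderOf_eq_prime (by rw [pow_two]; exact hs2) (CfsgLib.RankOneInvol.conj_ne_one hus.1 g)
    exact even_iff_two_dvd.2 (ho ▸ orderOf_dvd_natCard _)
  · apply le_antisymm
    · exact sup_le (le_inf inf_le_left (inf_le_right.trans hS.le))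
        (le_inf inf_le_left (inf_le_right.trans inf_le_left))
    · rintro g ⟨hgX, hga⟩
      obtain ⟨q, hq, d, hd, rfl⟩ := CfsgLib.RankOneInvol.decomp hS hga
      have hqX : q ∈ Subgroup.centralizer X := by
        refine CfsgLib.RankOneInvol.Q_centralizes hS hX hq rfl fun x hx => ?_
        have e : (q * d) • t • a = q • t • a := by
          rw [mul_smul, (CfsgLib.RankOneInvol.mem_twoPt.1 hd).2]
        rw [← e, smul_smul x, Subgroup.mem_centralizer_iff.1 hgX x hx, mul_smul (q * d) x,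
          (CfsgLib.RankOneInvol.mem_twoPt.1 (hX hx)).2]
      have hdX : d ∈ Subgroup.centralizer X := by
        have := mul_mem (inv_mem hqX) hgX
        rwa [inv_mul_cancel_left] at this
      exact Subgroup.mul_mem_sup ⟨hqX, hq⟩ ⟨hdX, hd⟩

end Cfsg.Agent.S1125
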