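import Cfsg.Statements.S1127
import Cfsg.Agent.Lib.RankOneInvol.Basic

set_option autoImplicit false
open Cfsg

namespace Cfsg.Agent.S1127

/-- In the rank-one set-up (`G` finite and doubly transitive on `Ω`, `t` an involution moving `a`, `Q` normal in `G_a` with `G_a = Q D`, `Q ⊓ D = 1` for the two-point stabiliser `D = G_a ⊓ G_{t • a}`, `|Q|` even, `|D|` odd): if `s` is an involution of `G_a` and `r ∈ Q` satisfy `t s t = r⁻¹ t r`, then `C_D(t) = C_D(s)`; moreover `C_D(t) ⊓ C_D(K) = C_D(I ∩ G_a)`, where `K` is the set of elements of `D` inverted by `t` and `I ∩ G_a` the set of involutions of `G_a`. -/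
theorem result {G Ω : Type*} [Group G] [Finite G] [MulAction G Ω] {a : Ω} {t : G} {Q : Subgroup G}
    (hS : Cfsg.IsRankOneSetup G Ω a t Q) :
    (∀ s r : G, s ∈ Cfsg.involutionsIn (MulAction.stabilizer G a : Set G) → r ∈ Q → t * s * t = r⁻¹ * t * r →
        (MulAction.stabilizer G a ⊓ MulAction.stabilizer G (t • a)) ⊓ Subgroup.centralizer {t} = (MulAction.stabilizer G a ⊓ MulAction.stabilizer G (t • a)) ⊓ Subgroup.centralizer {s}) ∧
      (MulAction.stabilizer G a ⊓ MulAction.stabilizer G (t • a)) ⊓ Subgroup.centralizer {t} ⊓ Subgroup.centralizer (Cfsg.invertedBy (MulAction.stabilizer G a ⊓ MulAction.stabilizer G (t • a)) t) =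
        (MulAction.stabilizer G a ⊓ MulAction.stabilizer G (t • a)) ⊓ Subgroup.centralizer (Cfsg.involutionsIn (MulAction.stabilizer G a : Set G)) := by
  have hC : ∀ {d x : G}, d ∈ Subgroup.centralizer ({x} : Set G) ↔ d * x = x * d :=
    Subgroup.mem_centralizer_singleton_iff
  have hVt : ∀ {d : G}, d * t = t * d ↔ t * d * t = d := by
    intro d
    constructor
    · intro h
      rw [← h, mul_assoc, hS.mul_self, mul_one]
    · intro h
      calc d * t = t * d * t * t := by rw [h]
        _ = t * d := by rw [mul_assoc, hS.mul_self, mul_one]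
  refine ⟨fun s r hs hr he => ?_, ?_⟩
  · ext d
    simp only [Subgroup.mem_inf, hC]
    refine and_congr_right fun hd => ?_
    rw [CfsgLib.RankOneInvol.centralizer_base hS ⟨hs, CfsgLib.RankOneInvol.isSwap_t hS, hr, he⟩ hd, hVt]
  · obtain ⟨s0, r0, h0⟩ := CfsgLib.RankOneInvol.exists_paired_right hS (CfsgLib.RankOneInvol.isSwap_t hS)
    ext d
    rw [Subgroup.mem_inf, Subgroup.mem_inf, Subgroup.mem_inf (p := (MulAction.stabilizer G a ⊓
      MulAction.stabilizer G (t • a))), hC, hVt, Subgroup.mem_centralizer_iff,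
      Subgroup.mem_centralizer_iff]
    constructor
    · rintro ⟨⟨hd, hdt⟩, hK⟩
      refine ⟨hd, fun s' hs' => ?_⟩
      obtain ⟨k, hk, rfl⟩ := CfsgLib.RankOneInvol.invols_eq_conj hS h0 hs'
      have hds : Commute d s0 := (CfsgLib.RankOneInvol.centralizer_base hS h0 hd).2 hdt
      have hdk : Commute d k := (hK k hk).symm
      exact ((hdk.inv_right.mul_right hds).mul_right hdk).eq.symm
    · rintro ⟨hd, hI⟩
      have hdt : t * d * t = d := (CfsgLib.RankOneInvol.centralizer_base hS h0 hd).1 (hI s0 h0.1).symm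
      refine ⟨⟨hd, hdt⟩, fun k hk => ?_⟩
      obtain ⟨hkD, hkt⟩ := (CfsgLib.RankOneInvol.mem_invSet hS).1 hk
      have hk' : k * d * k⁻¹ ∈ CfsgLib.RankOneInvol.twoPt G a t := mul_mem (mul_mem hkD hd) (inv_mem hkD)
      have hs' := CfsgLib.RankOneInvol.conj_invol_mem hS h0.1 (CfsgLib.RankOneInvol.mem_twoPt.1 hkD).1
      have hcomm : k * d * k⁻¹ * s0 = s0 * (k * d * k⁻¹) := by
        calc k * d * k⁻¹ * s0 = k * (d * (k⁻¹ * s0 * k)) * k⁻¹ := by group
          _ = k * ((k⁻¹ * s0 * k) * d) * k⁻¹ := by rw [hI _ hs']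
          _ = _ := by group
      have h2 := (CfsgLib.RankOneInvol.centralizer_base hS h0 hk').1 hcomm
      rw [CfsgLib.RankOneInvol.conj_t_mul hS, CfsgLib.RankOneInvol.conj_t_mul hS,
        CfsgLib.RankOneInvol.conj_t_inv hS, hkt, hdt, inv_inv] at h2
      have hkk : Commute (k * k) d := by
        show k * k * d = d * (k * k)
        calc k * k * d = k * (k * d * k⁻¹) * k := by group
          _ = k * (k⁻¹ * d * k) * k := by rw [h2]
          _ = _ := by group
      obtain ⟨j, hj⟩ := CfsgLib.RankOneInvol.exists_pow_sq_eq (CfsgLib.RankOneInvol.odd_twoPt hS hkD)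
      have h4 := hkk.pow_left j
      rw [(Commute.refl k).mul_pow, hj] at h4
      exact h4.eq

end Cfsg.Agent.S1127
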