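import Cfsg.Statements.S1128
import Cfsg.Agent.Lib.RankOneInvol.Basic

set_option autoImplicit false
open Cfsg

namespace Cfsg.Agent.S1128

/-- In the rank-one set-up (`G` finite and doubly transitive on `Ω`, `t` an involution moving `a`, `Q` normal in `G_a` with `G_a = Q D`, `Q ⊓ D = 1` for the two-point stabiliser `D = G_a ⊓ G_{t • a}`, `|Q|` even, `|D|` odd), with the action faithful and `G` containing two distinct commuting involutions: every non-identity element of `D` inverted by `t` acts fixed-point-freely on `Q`. -/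
theorem result {G Ω : Type*} [Group G] [Finite G] [MulAction G Ω] [FaithfulSMul G Ω] {a : Ω} {t : G} {Q : Subgroup G}
    (hS : Cfsg.IsRankOneSetup G Ω a t Q)
    (h2 : ∃ x y : G, x ≠ 1 ∧ y ≠ 1 ∧ x ≠ y ∧ x * x = 1 ∧ y * y = 1 ∧ x * y = y * x)
    (x : G) (hx : x ∈ Cfsg.invertedBy (MulAction.stabilizer G a ⊓ MulAction.stabilizer G (t • a)) t) (hx1 : x ≠ 1) :
    Q ⊓ Subgroup.centralizer {x} = ⊥ := by
  rw [eq_bot_iff]
  rintro q ⟨hq, hqx⟩
  have hxq : q * x = x * q := Subgroup.mem_centralizer_singleton_iff.1 hqx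
  obtain ⟨hxD, -⟩ := (CfsgLib.RankOneInvol.mem_invSet hS).1 hx
  have hfix : x • q • t • a = q • t • a := by
    rw [smul_smul, ← hxq, mul_smul, (CfsgLib.RankOneInvol.mem_twoPt.1 hxD).2]
  rcases CfsgLib.RankOneInvol.invSet_fixes_two hS hx hx1 hfix with h | h
  · exact absurd (smul_left_cancel q (h.trans (CfsgLib.RankOneInvol.Q_smul hS hq).symm))
      (CfsgLib.RankOneInvol.ta_ne hS)
  · exact Subgroup.mem_bot.2 (CfsgLib.RankOneInvol.eq_one_of_mem_Q hS hq h)

end Cfsg.Agent.S1128
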