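import Cfsg.Statements.S1133
import Cfsg.Agent.Lib.RankOneInvol.Twist

set_option autoImplicit false
open Cfsg

namespace Cfsg.Agent.S1133

/-- In the rank-one set-up (`G` finite and doubly transitive on `Ω`, `t` an involution moving `a`, `Q` normal in `G_a` with `G_a = Q D`, `Q ⊓ D = 1` for the two-point stabiliser `D = G_a ⊓ G_{t • a}`, `|Q|` even, `|D|` odd), with the action faithful and `G` containing two distinct commuting involutions, with `V = C_D(t)`, `K` the elements of `D` inverted by `t` and `W = C_V(K)`: `V/W` is cyclic, i.e. `V = W ⟨v⟩` for some `v ∈ V`. -/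
theorem result {G Ω : Type*} [Group G] [Finite G] [MulAction G Ω] [FaithfulSMul G Ω] {a : Ω} {t : G} {Q : Subgroup G}
    (hS : Cfsg.IsRankOneSetup G Ω a t Q)
    (h2 : ∃ x y : G, x ≠ 1 ∧ y ≠ 1 ∧ x ≠ y ∧ x * x = 1 ∧ y * y = 1 ∧ x * y = y * x) :
    ∃ v ∈ (MulAction.stabilizer G a ⊓ MulAction.stabilizer G (t • a)) ⊓ Subgroup.centralizer {t},
      ((MulAction.stabilizer G a ⊓ MulAction.stabilizer G (t • a)) ⊓ Subgroup.centralizer {t} ⊓ Subgroup.centralizer (Cfsg.invertedBy (MulAction.stabilizer G a ⊓ MulAction.stabilizer G (t • a)) t)) ⊔ Subgroup.closure {v} =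
        (MulAction.stabilizer G a ⊓ MulAction.stabilizer G (t • a)) ⊓ Subgroup.centralizer {t} := by
  obtain ⟨-, -, v0, hv0D, hv0t, hv⟩ := CfsgLib.RankOneInvol.invSet_structure hS h2
  have hcomm : ∀ {v : G}, t * v * t = v ↔ v * t = t * v := fun {v} => by
    constructor
    · intro h
      calc v * t = t * v * t * t := by rw [h]
        _ = t * v := by rw [mul_assoc, hS.mul_self, mul_one]
    · intro h
      rw [← h, mul_assoc, hS.mul_self, mul_one]
  have hv0V : v0 ∈ (MulAction.stabilizer G a ⊓ MulAction.stabilizer G (t • a)) ⊓ Subgroup.centralizer {t} :=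
    ⟨hv0D, Subgroup.mem_centralizer_singleton_iff.2 (hcomm.1 hv0t)⟩
  refine ⟨v0, hv0V, le_antisymm (sup_le inf_le_left ?_) fun v hv' => ?_⟩
  · rw [Subgroup.closure_le, Set.singleton_subset_iff]
    exact hv0V
  · have hvt : v * t = t * v := Subgroup.mem_centralizer_singleton_iff.1 hv'.2
    obtain ⟨n, hn⟩ := hv v hv'.1 (hcomm.2 hvt)
    have h1 : v * v0 ^ n ∈ (MulAction.stabilizer G a ⊓ MulAction.stabilizer G (t • a)) ⊓
        Subgroup.centralizer {t} ⊓ Subgroup.centralizer (Cfsg.invertedBy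
          (MulAction.stabilizer G a ⊓ MulAction.stabilizer G (t • a)) t) :=
      ⟨mul_mem hv' (zpow_mem hv0V n), Subgroup.mem_centralizer_iff.2 fun k hk => hn k hk⟩
    have h2 : v = v * v0 ^ n * (v0 ^ n)⁻¹ := by group
    rw [h2]
    have h3 : v0 ^ n ∈ Subgroup.closure {v0} :=
      Subgroup.zpow_mem _ (Subgroup.subset_closure (Set.mem_singleton v0)) n
    exact mul_mem (Subgroup.mem_sup_left h1) (inv_mem (Subgroup.mem_sup_right h3))

end Cfsg.Agent.S1133
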