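import Cfsg.Statements.S1153
import Cfsg.Agent.Lib.SmallRee.Bruhat

set_option autoImplicit false
open Cfsg

namespace Cfsg.Agent.S1153

/-- In the small Ree group ²G₂(q), q = 3^(2m+1), realised as G¹ inside the Chevalley group G₂ over the field with q elements, with `B¹ = G¹ ∩ B`: in the action of `G¹` on the cosets of `B¹`, the joint stabiliser of any three distinct cosets has order at most 2, and for some three distinct cosets it has order exactly 2. -/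
theorem result {K : Type*} [Field K] [Fintype K] {m : ℕ} (hK : Fintype.card K = 3 ^ (2 * m + 1)) :
    (∀ x y z : ↥(Cfsg.Lie.twistedG2 K (3 ^ m)) ⧸ ((Cfsg.Lie.chevG2.borelSubgroup K ⊓ Cfsg.Lie.twistedG2 K (3 ^ m))).subgroupOf (Cfsg.Lie.twistedG2 K (3 ^ m)), x ≠ y → x ≠ z → y ≠ z →
        Nat.card ↥(MulAction.stabilizer ↥(Cfsg.Lie.twistedG2 K (3 ^ m)) x ⊓ MulAction.stabilizer ↥(Cfsg.Lie.twistedG2 K (3 ^ m)) y ⊓ MulAction.stabilizer ↥(Cfsg.Lie.twistedG2 K (3 ^ m)) z) ≤ 2) ∧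
      ∃ x y z : ↥(Cfsg.Lie.twistedG2 K (3 ^ m)) ⧸ ((Cfsg.Lie.chevG2.borelSubgroup K ⊓ Cfsg.Lie.twistedG2 K (3 ^ m))).subgroupOf (Cfsg.Lie.twistedG2 K (3 ^ m)), x ≠ y ∧ x ≠ z ∧ y ≠ z ∧
        Nat.card ↥(MulAction.stabilizer ↥(Cfsg.Lie.twistedG2 K (3 ^ m)) x ⊓ MulAction.stabilizer ↥(Cfsg.Lie.twistedG2 K (3 ^ m)) y ⊓ MulAction.stabilizer ↥(Cfsg.Lie.twistedG2 K (3 ^ m)) z) = 2 := by
  classical
  obtain ⟨_, hn⟩ := CfsgLib.Twisted.setupG2 K hK
  set G := Cfsg.Lie.twistedG2 K (3 ^ m)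
  set B := (Cfsg.Lie.chevG2.borelSubgroup K ⊓ G).subgroupOf G with hB
  set S : ↥G := ⟨CfsgLib.SmallRee.sRee hn, CfsgLib.SmallRee.sRee_mem hn⟩ with hS
  have hmem : ∀ g : ↥G, g ∈ B ↔ (g : GL Cfsg.Lie.chevG2.Idx K) ∈ CfsgLib.SmallRee.B1 K m := fun g => Iff.rfl
  have hstab : ∀ g k : ↥G, g ∈ MulAction.stabilizer ↥G ((k : ↥G) : ↥G ⧸ B) ↔ k⁻¹ * g * k ∈ B := by
    intro g k
    rw [MulAction.mem_stabilizer_iff, MulAction.Quotient.smul_coe, smul_eq_mul, eq_comm, QuotientGroup.eq,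
      mul_assoc]
  -- the joint stabiliser of the base point, its opposite and `v s`
  have key : ∀ v : GL Cfsg.Lie.chevG2.Idx K, ∀ hv : v ∈ CfsgLib.SmallRee.U1 K m, ∀ g : ↥G,
      g ∈ MulAction.stabilizer ↥G ((1 : ↥G) : ↥G ⧸ B) ⊓ MulAction.stabilizer ↥G ((S : ↥G) : ↥G ⧸ B) ⊓
        MulAction.stabilizer ↥G (((⟨v, (Subgroup.mem_inf.1 hv).2⟩ * S : ↥G)) : ↥G ⧸ B) ↔
      (g : GL Cfsg.Lie.chevG2.Idx K) ∈ CfsgLib.SmallRee.H1 K m ∧ (g : GL Cfsg.Lie.chevG2.Idx K) * v = v * g := by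
    intro v hv g
    simp only [Subgroup.mem_inf (p := _ ⊓ _), Subgroup.mem_inf (p := MulAction.stabilizer _ _), hstab, hmem,
      hS, InvMemClass.coe_inv, MulMemClass.coe_mul, OneMemClass.coe_one, inv_one, one_mul, mul_one]
    constructor
    · rintro ⟨⟨h1, h2⟩, h3⟩
      obtain ⟨u, hu, h, hh, e⟩ := (CfsgLib.SmallRee.mem_B1 hn).1 h1
      rw [← e] at h2
      have hu1 := CfsgLib.SmallRee.eq_one_of_conj_mem hn hu hh h2
      rw [hu1, one_mul] at e
      subst e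
      refine ⟨hh, ?_⟩
      have hw : v⁻¹ * ((g : GL Cfsg.Lie.chevG2.Idx K) * v * (g : GL Cfsg.Lie.chevG2.Idx K)⁻¹) ∈ CfsgLib.SmallRee.U1 K m :=
        mul_mem (inv_mem hv) (CfsgLib.SmallRee.H1_conj_U1' hh hv)
      have h4 := CfsgLib.SmallRee.eq_one_of_conj_mem hn hw hh (by
        convert h3 using 1
        group)
      rw [inv_mul_eq_one, eq_comm, mul_inv_eq_iff_eq_mul] at h4
      exact h4
    · rintro ⟨hh, he⟩
      refine ⟨⟨CfsgLib.SmallRee.H1_le_B1 hh, CfsgLib.SmallRee.H1_le_B1 (CfsgLib.SmallRee.sRee_conj_H1 hn hh).2⟩, ?_⟩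
      rw [show (v * CfsgLib.SmallRee.sRee hn)⁻¹ * g * (v * CfsgLib.SmallRee.sRee hn) =
        (CfsgLib.SmallRee.sRee hn)⁻¹ * (v⁻¹ * (g * v)) * CfsgLib.SmallRee.sRee hn by group, he, inv_mul_cancel_left]
      exact CfsgLib.SmallRee.H1_le_B1 (CfsgLib.SmallRee.sRee_conj_H1 hn hh).2
  -- the centraliser in `H1` of a non-trivial element of `U1`
  have hcent : ∀ v : GL Cfsg.Lie.chevG2.Idx K, v ∈ CfsgLib.SmallRee.U1 K m → v ≠ 1 → ∀ g : ↥G,
      (g : GL Cfsg.Lie.chevG2.Idx K) ∈ CfsgLib.SmallRee.H1 K m → (g : GL Cfsg.Lie.chevG2.Idx K) * v = v * g →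
      g = 1 ∨ (g : GL Cfsg.Lie.chevG2.Idx K) = CfsgLib.SmallRee.tau K m (-1) := by
    intro v hv hv1 g hg he
    obtain ⟨l, hl⟩ := CfsgLib.SmallRee.H1_le K hn hg
    obtain ⟨t, u, w, rfl⟩ := CfsgLib.SmallRee.exists_uni K hn hv
    have e := CfsgLib.SmallRee.tau_conj_uni K hn l t u w
    rw [hl, he, mul_inv_cancel_right] at e
    obtain ⟨e1, e2, e3⟩ := CfsgLib.SmallRee.uni_inj K m e
    have hfix : ∀ a x : K, x = a * x → x ≠ 0 → a = 1 := fun a x h hx =>
      mul_right_cancel₀ hx (h.symm.trans (one_mul x).symm)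
    have hsq : (l : K) ^ 2 = 1 := by
      by_cases ht : t = 0
      · by_cases hu : u = 0
        · have hw : w ≠ 0 := fun hw => hv1 ((CfsgLib.SmallRee.uni_eq_one_iff K m).2 ⟨ht, hu, hw⟩)
          have h := hfix _ _ e3 hw
          have h9 : ((l : K) ^ (3 * 3 ^ m)) ^ (3 * 3 ^ m) = (l : K) ^ 3 := by
            rw [← pow_mul, show 3 * 3 ^ m * (3 * 3 ^ m) = 3 * (3 ^ m * 3 ^ m) * 3 by ring, pow_mul,
              CfsgLib.SmallRee.pow_q K hn]
          rw [pow_add] at h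
          have e' : (l : K) ^ (3 * 3 ^ m) = ((l : K) ^ 2)⁻¹ := eq_inv_of_mul_eq_one_left h
          rw [e', inv_pow, ← pow_mul, mul_comm, pow_mul, e', inv_pow, inv_inv, ← pow_mul] at h9
          have hl0 : (l : K) ^ 3 ≠ 0 := pow_ne_zero _ l.ne_zero
          rw [show (2 * 2 : ℕ) = 3 + 1 from rfl, pow_succ] at h9
          have : (l : K) = 1 := mul_left_cancel₀ hl0 (h9.trans (mul_one _).symm)
          rw [this, one_pow]
        · have h := hfix _ _ e2 hu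
          have h9 : ((l : K) ^ (3 * 3 ^ m)) ^ (3 * 3 ^ m) = (l : K) ^ 3 := by
            rw [← pow_mul, show 3 * 3 ^ m * (3 * 3 ^ m) = 3 * (3 ^ m * 3 ^ m) * 3 by ring, pow_mul,
              CfsgLib.SmallRee.pow_q K hn]
          rw [pow_succ] at h
          have e' : (l : K) ^ (3 * 3 ^ m) = (l : K)⁻¹ := eq_inv_of_mul_eq_one_left h
          rw [e', inv_pow, e', inv_inv] at h9
          have hl0 : (l : K) ≠ 0 := l.ne_zero
          rw [pow_succ] at h9
          exact (mul_right_cancel₀ hl0 ((one_mul _).trans h9)).symm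
      · rw [hfix _ _ e1 ht, one_pow]
    rcases sq_eq_one_iff.1 hsq with h | h
    · exact Or.inl (Subtype.ext (by rw [← hl, show l = 1 from Units.ext h, map_one]; rfl))
    · exact Or.inr (by rw [← hl, show l = -1 from Units.ext (by simpa using h)])
  have hB1 : ∀ h : GL Cfsg.Lie.chevG2.Idx K, h ∈ CfsgLib.SmallRee.H1 K m → h ∈ CfsgLib.SmallRee.B1 K m :=
    fun h hh => CfsgLib.SmallRee.H1_le_B1 hh
  constructor
  · -- move the first two points to the base point and its opposite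
    have hmove : ∀ (g : ↥G) (x y z : ↥G ⧸ B),
        Nat.card ↥(MulAction.stabilizer ↥G (g • x) ⊓ MulAction.stabilizer ↥G (g • y) ⊓ MulAction.stabilizer ↥G (g • z)) =
        Nat.card ↥(MulAction.stabilizer ↥G x ⊓ MulAction.stabilizer ↥G y ⊓ MulAction.stabilizer ↥G z) := by
      intro g x y z
      refine (Nat.card_congr (Equiv.subtypeEquiv (MulAut.conj g).toEquiv fun a => ?_)).symm
      have e : ∀ x : ↥G ⧸ B, (g * a * g⁻¹) • g • x = g • x ↔ a • x = x := fun x => by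
        rw [← mul_smul, inv_mul_cancel_right, mul_smul, smul_left_cancel_iff]
      simp only [Subgroup.mem_inf, MulAction.mem_stabilizer_iff, MulEquiv.toEquiv_eq_coe, EquivLike.coe_coe,
        MulAut.conj_apply, e]
    intro x y z
    obtain ⟨a, rfl⟩ := QuotientGroup.mk_surjective x
    rw [← hmove a⁻¹, MulAction.Quotient.smul_coe, smul_eq_mul, inv_mul_cancel]
    intro hxy hxz hyz
    replace hxy : ((1 : ↥G) : ↥G ⧸ B) ≠ a⁻¹ • y := fun e => hxy (by
      rw [eq_inv_smul_iff, MulAction.Quotient.smul_coe, smul_eq_mul, mul_one] at e; exact e)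
    replace hxz : ((1 : ↥G) : ↥G ⧸ B) ≠ a⁻¹ • z := fun e => hxz (by
      rw [eq_inv_smul_iff, MulAction.Quotient.smul_coe, smul_eq_mul, mul_one] at e; exact e)
    replace hyz : a⁻¹ • y ≠ a⁻¹ • z := fun e => hyz (smul_left_cancel _ e)
    generalize a⁻¹ • y = y at hxy hyz ⊢
    generalize a⁻¹ • z = z at hxz hyz ⊢
    have hform : ∀ y : ↥G ⧸ B, ((1 : ↥G) : ↥G ⧸ B) ≠ y → ∃ u, ∃ hu : u ∈ CfsgLib.SmallRee.U1 K m,
        y = (((⟨u, (Subgroup.mem_inf.1 hu).2⟩ * S : ↥G)) : ↥G ⧸ B) := by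
      intro y hy
      obtain ⟨g, rfl⟩ := QuotientGroup.mk_surjective y
      have hg : (g : GL Cfsg.Lie.chevG2.Idx K) ∉ CfsgLib.SmallRee.B1 K m := fun h => hy
        (QuotientGroup.eq.2 (by rw [inv_one, one_mul]; exact h))
      rcases CfsgLib.SmallRee.bruhat hn g.2 with h | ⟨u, hu, h, hh, v, hv, e⟩
      · exact absurd h hg
      refine ⟨u, hu, (QuotientGroup.eq.2 ?_).symm⟩
      rw [hmem]
      simp only [InvMemClass.coe_inv, MulMemClass.coe_mul, hS, e]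
      rw [show (u * CfsgLib.SmallRee.sRee hn)⁻¹ * (u * h * CfsgLib.SmallRee.sRee hn * v) =
        (CfsgLib.SmallRee.sRee hn)⁻¹ * h * CfsgLib.SmallRee.sRee hn * v by group]
      exact mul_mem (hB1 _ (CfsgLib.SmallRee.sRee_conj_H1 hn hh).2) (CfsgLib.SmallRee.U1_le_B1 hv)
    obtain ⟨u, hu, rfl⟩ := hform y hxy
    set U : ↥G := ⟨u, (Subgroup.mem_inf.1 hu).2⟩
    have hfix : U⁻¹ • ((1 : ↥G) : ↥G ⧸ B) = ((1 : ↥G) : ↥G ⧸ B) := by
      rw [MulAction.Quotient.smul_coe, smul_eq_mul, mul_one, QuotientGroup.eq, mul_one, inv_inv, hmem]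
      exact CfsgLib.SmallRee.U1_le_B1 hu
    rw [← hmove U⁻¹, hfix, MulAction.Quotient.smul_coe, smul_eq_mul, inv_mul_cancel_left]
    replace hxz : ((1 : ↥G) : ↥G ⧸ B) ≠ U⁻¹ • z := fun e => hxz (smul_left_cancel U⁻¹ (hfix.trans e))
    replace hyz : (S : ↥G ⧸ B) ≠ U⁻¹ • z := fun e => hyz (smul_left_cancel U⁻¹ (by
      rw [MulAction.Quotient.smul_coe, smul_eq_mul, inv_mul_cancel_left]; exact e))
    generalize U⁻¹ • z = z at hxz hyz ⊢
    obtain ⟨v, hv, rfl⟩ := hform z hxz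
    have hv1 : v ≠ 1 := by
      rintro rfl
      refine hyz ?_
      congr 1
      exact Subtype.ext (one_mul _).symm
    have hle : ∀ g ∈ MulAction.stabilizer ↥G ((1 : ↥G) : ↥G ⧸ B) ⊓ MulAction.stabilizer ↥G ((S : ↥G) : ↥G ⧸ B) ⊓
        MulAction.stabilizer ↥G (((⟨v, (Subgroup.mem_inf.1 hv).2⟩ * S : ↥G)) : ↥G ⧸ B),
        g ∈ ({1, ⟨CfsgLib.SmallRee.tau K m (-1), CfsgLib.SmallRee.tau_neg_one_mem K m⟩} : Set ↥G) := by
      intro g hg
      obtain ⟨h1, h2⟩ := (key v hv g).1 hg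
      rcases hcent v hv hv1 g h1 h2 with h | h
      · exact Or.inl h
      · exact Or.inr (Subtype.ext h)
    rw [← SetLike.coe_sort_coe, Nat.card_coe_set_eq]
    refine (Set.ncard_le_ncard hle (Set.toFinite _)).trans ((Set.ncard_insert_le _ _).trans ?_)
    rw [Set.ncard_singleton]
  · -- a witness
    set v := CfsgLib.SmallRee.uni K m 0 1 0 with hvdef
    have hv : v ∈ CfsgLib.SmallRee.U1 K m := CfsgLib.SmallRee.uni_mem_U1 K m _ _ _
    have hv1 : v ≠ 1 := fun e => one_ne_zero ((CfsgLib.SmallRee.uni_eq_one_iff K m).1 e).2.1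
    set T : ↥G := ⟨CfsgLib.SmallRee.tau K m (-1), CfsgLib.SmallRee.tau_neg_one_mem K m⟩ with hT
    have hT1 : T ≠ 1 := by
      intro e
      have h := CfsgLib.SmallRee.tau_injective K m ((congrArg Subtype.val e).trans (map_one _).symm)
      have h' : (-1 : K) = 1 := by simpa using congrArg Units.val h
      have h3 : (3 : K) = 0 := CharP.cast_eq_zero K 3
      exact one_ne_zero (show (1 : K) = 0 by linear_combination h3 + h')
    have hSB : ¬ (CfsgLib.SmallRee.sRee hn) ∈ CfsgLib.SmallRee.B1 K m := by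
      intro h
      have hy : CfsgLib.SmallRee.sRee hn * v * (CfsgLib.SmallRee.sRee hn)⁻¹ ∈ CfsgLib.SmallRee.U1 K m :=
        CfsgLib.SmallRee.B1_conj hn h hv
      exact hv1 (conj_eq_one_iff.1 (CfsgLib.SmallRee.B1_inf_neg
        (Subgroup.mem_inf.1 (CfsgLib.SmallRee.U1_le_B1 hy)).1
        (CfsgLib.SmallRee.sRee_conj_pos hn (Subgroup.mem_inf.1 hv).1)))
    refine ⟨((1 : ↥G) : ↥G ⧸ B), (S : ↥G ⧸ B), ((⟨v, (Subgroup.mem_inf.1 hv).2⟩ * S : ↥G) : ↥G ⧸ B), ?_, ?_, ?_, ?_⟩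
    · rw [Ne, QuotientGroup.eq, inv_one, one_mul]; exact hSB
    · rw [Ne, QuotientGroup.eq, inv_one, one_mul, hmem]
      intro h
      refine hSB ?_
      have := mul_mem (inv_mem (CfsgLib.SmallRee.U1_le_B1 hv)) h
      simpa [hS] using this
    · rw [Ne, QuotientGroup.eq, hmem]
      intro h
      refine hv1 (CfsgLib.SmallRee.eq_one_of_conj_mem hn hv (one_mem _) ?_)
      simpa [hS, mul_assoc] using h
    · have e : ((MulAction.stabilizer ↥G ((1 : ↥G) : ↥G ⧸ B) ⊓ MulAction.stabilizer ↥G ((S : ↥G) : ↥G ⧸ B) ⊓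
          MulAction.stabilizer ↥G (((⟨v, (Subgroup.mem_inf.1 hv).2⟩ * S : ↥G)) : ↥G ⧸ B) : Subgroup ↥G) : Set ↥G) = {1, T} := by
        ext g
        rw [SetLike.mem_coe, key v hv g]
        constructor
        · rintro ⟨h1, h2⟩
          rcases hcent v hv hv1 g h1 h2 with h | h
          · exact Or.inl h
          · exact Or.inr (Subtype.ext h)
        · rintro (rfl | rfl)
          · simp [one_mem]
          · refine ⟨CfsgLib.SmallRee.tau_mem_H1 K hn _, ?_⟩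
            have he := CfsgLib.SmallRee.tau_conj_uni K hn (-1) 0 1 0
            have ho : ((((-1 : Kˣ) : K)) ^ (3 * 3 ^ m + 1)) = 1 := by
              rw [Units.val_neg, Units.val_one, pow_succ, pow_mul, Odd.neg_one_pow (show Odd 3 by decide),
                CfsgLib.SmallRee.three_pow_odd K m]
              ring
            rw [mul_zero, ho, one_mul, mul_zero, ← hvdef] at he
            exact mul_inv_eq_iff_eq_mul.1 he
      rw [← SetLike.coe_sort_coe, Nat.card_coe_set_eq, e, Set.ncard_pair hT1.symm]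

end Cfsg.Agent.S1153
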