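import Cfsg.Statements.S1155
import Cfsg.Agent.Lib.SmallRee.Bruhat

set_option autoImplicit false
open Cfsg

namespace Cfsg.Agent.S1155

/-- In the small Ree group ²G₂(q), q = 3^(2m+1) with m ≥ 1, realised as G¹ inside the Chevalley group G₂ over the field with q elements (θ the 3^m-th power map): distinct Sylow 3-subgroups of `G¹` meet trivially. -/
theorem result {K : Type*} [Field K] [Fintype K] {m : ℕ} (hm : 1 ≤ m) (hK : Fintype.card K = 3 ^ (2 * m + 1))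
    (P Q : Sylow 3 ↥(Cfsg.Lie.twistedG2 K (3 ^ m))) (hPQ : P ≠ Q) : (P : Subgroup ↥(Cfsg.Lie.twistedG2 K (3 ^ m))) ⊓ (Q : Subgroup ↥(Cfsg.Lie.twistedG2 K (3 ^ m))) = ⊥ := by
  classical
  obtain ⟨_, hn⟩ := CfsgLib.Twisted.setupG2 K hK
  have : Fact (Nat.Prime 3) := ⟨Nat.prime_three⟩
  obtain ⟨P₀, h₀⟩ := CfsgLib.SmallRee.exists_sylow_eq hn
  set U := CfsgLib.SmallRee.Uin (K := K) (m := m)
  have hP : ∀ R : Sylow 3 ↥(Cfsg.Lie.twistedG2 K (3 ^ m)), ∃ a, ∀ x, x ∈ (R : Subgroup ↥(Cfsg.Lie.twistedG2 K (3 ^ m))) ↔ a⁻¹ * x * a ∈ U := by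
    intro R
    obtain ⟨a, rfl⟩ := MulAction.exists_smul_eq ↥(Cfsg.Lie.twistedG2 K (3 ^ m)) P₀ R
    refine ⟨a, fun x => ?_⟩
    rw [Sylow.coe_subgroup_smul, h₀, Subgroup.mem_pointwise_smul_iff_inv_smul_mem, MulAut.smul_def,
      ← map_inv, MulAut.conj_apply, inv_inv]
  obtain ⟨a, ha⟩ := hP P
  obtain ⟨b, hb⟩ := hP Q
  refine (Subgroup.eq_bot_iff_forall _).2 fun x hx => ?_
  obtain ⟨hxP, hxQ⟩ := Subgroup.mem_inf.1 hx
  by_contra hx1
  refine hPQ (Sylow.ext (Subgroup.ext fun y => ?_))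
  set c := b⁻¹ * a
  have hc : (c : GL Cfsg.Lie.chevG2.Idx K) ∈ CfsgLib.SmallRee.B1 K m := by
    by_contra hcB
    refine hx1 ?_
    have h := CfsgLib.SmallRee.eq_one_of_conj hn c.2 hcB (x := ((a⁻¹ * x * a : ↥(Cfsg.Lie.twistedG2 K (3 ^ m))) : GL Cfsg.Lie.chevG2.Idx K))
      ((ha x).1 hxP) (by
        have h2 := (hb x).1 hxQ
        rw [show b⁻¹ * x * b = c * (a⁻¹ * x * a) * c⁻¹ by simp only [c]; group] at h2
        exact h2)
    have h' : a⁻¹ * x * a = 1 := Subtype.ext h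
    calc x = a * (a⁻¹ * x * a) * a⁻¹ := by group
      _ = 1 := by rw [h', mul_one, mul_inv_cancel]
  rw [ha, hb]
  constructor
  · intro h
    rw [show b⁻¹ * y * b = c * (a⁻¹ * y * a) * c⁻¹ by simp only [c]; group]
    exact CfsgLib.SmallRee.B1_conj hn hc h
  · intro h
    rw [show a⁻¹ * y * a = c⁻¹ * (b⁻¹ * y * b) * c⁻¹⁻¹ by simp only [c]; group]
    exact CfsgLib.SmallRee.B1_conj hn (inv_mem hc) h

end Cfsg.Agent.S1155
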