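import Cfsg.Statements.S1166
import Cfsg.Agent.Lib.RankOneInvol.Basic

set_option autoImplicit false
open Cfsg

namespace Cfsg.Agent.S1166

/-- In the rank-one set-up (`G` finite and doubly transitive on `Ω`, `t` an involution moving `a`, `Q` normal in `G_a` with `G_a = Q D`, `Q ⊓ D = 1` for the two-point stabiliser `D = G_a ⊓ G_{t • a}`, `|Q|` even, `|D|` odd), with `t x t = g_x h_x t f_x` and `t y t = g_y h_y t f_y` (`g, f ∈ Q`, `h ∈ D`) for `x, y ∈ Q ∖ 1` with `x y ≠ 1`: then `z = f_x g_y ≠ 1`, and if `t z t = g_z h_z t f_z` and `t (x y) t = g' h' t f'` then `f' = (t h_y t)⁻¹ f_z (t h_y t) f_y` and `h' = h_x h_z h_y` (H6). -/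
theorem result {G Ω : Type*} [Group G] [Finite G] [MulAction G Ω] {a : Ω} {t : G} {Q : Subgroup G}
    (hS : Cfsg.IsRankOneSetup G Ω a t Q)
    (x y gx hx fx gy hy fy : G) (hxQ : x ∈ Q) (hx1 : x ≠ 1) (hyQ : y ∈ Q) (hy1 : y ≠ 1) (hxy : x * y ≠ 1)
    (hgx : gx ∈ Q) (hhx : hx ∈ (MulAction.stabilizer G a ⊓ MulAction.stabilizer G (t • a))) (hfx : fx ∈ Q) (ex : t * x * t = gx * hx * t * fx)
    (hgy : gy ∈ Q) (hhy : hy ∈ (MulAction.stabilizer G a ⊓ MulAction.stabilizer G (t • a))) (hfy : fy ∈ Q) (ey : t * y * t = gy * hy * t * fy) :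
    fx * gy ≠ 1 ∧
      ∀ gz hz fz g' h' f' : G, gz ∈ Q → hz ∈ (MulAction.stabilizer G a ⊓ MulAction.stabilizer G (t • a)) → fz ∈ Q → t * (fx * gy) * t = gz * hz * t * fz →
        g' ∈ Q → h' ∈ (MulAction.stabilizer G a ⊓ MulAction.stabilizer G (t • a)) → f' ∈ Q → t * (x * y) * t = g' * h' * t * f' →
          f' = (t * hy * t)⁻¹ * fz * (t * hy * t) * fy ∧ h' = hx * hz * hy := by
  have tt : ∀ w : G, t * (t * w) = w := CfsgLib.RankOneInvol.tt_cancel hS
  have ti := CfsgLib.RankOneInvol.t_inv hS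
  refine ⟨fun hz => hxy ?_, ?_⟩
  · have hb : (t * (x * y) * t) • a = a := by
      rw [CfsgLib.RankOneInvol.conj_t_mul hS, ex, ey]
      have : gx * hx * t * fx * (gy * hy * t * fy) = gx * hx * (t * hy * t) * fy := by
        calc gx * hx * t * fx * (gy * hy * t * fy) = gx * hx * t * (fx * gy) * hy * t * fy := by group
          _ = _ := by rw [hz]; group
      rw [this, mul_smul, CfsgLib.RankOneInvol.Q_smul hS hfy, mul_smul, mul_smul,
        (CfsgLib.RankOneInvol.mem_twoPt.1 (CfsgLib.RankOneInvol.conj_t_twoPt hS hhy)).1,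
        (CfsgLib.RankOneInvol.mem_twoPt.1 hhx).1, CfsgLib.RankOneInvol.Q_smul hS hgx]
    apply CfsgLib.RankOneInvol.eq_one_of_mem_Q hS (mul_mem hxQ hyQ)
    calc (x * y) • t • a = t • (t * (x * y) * t) • a := by
          rw [mul_smul (t * (x * y)), mul_smul t, CfsgLib.RankOneInvol.t_smul_smul hS]
      _ = t • a := by rw [hb]
  · intro gz hz fz g' h' f' hgz hhz hfz ez hg' hh' hf' e'
    have hy' := CfsgLib.RankOneInvol.conj_t_twoPt hS hhy
    set w := t * hy * t with hwdef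
    have hgQ : gx * (hx * gz * hx⁻¹) ∈ Q :=
      mul_mem hgx (CfsgLib.RankOneInvol.Q_conj hS (CfsgLib.RankOneInvol.mem_twoPt.1 hhx).1 hgz)
    have hfQ : w⁻¹ * fz * w * fy ∈ Q := by
      have := CfsgLib.RankOneInvol.Q_conj hS (CfsgLib.RankOneInvol.mem_twoPt.1 (inv_mem hy')).1 hfz
      rw [inv_inv] at this
      exact mul_mem this hfy
    have e : t * (x * y) * t = gx * (hx * gz * hx⁻¹) * (hx * hz * hy) * t * (w⁻¹ * fz * w * fy) := by
      have hw : hy * t * w⁻¹ = t := by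
        rw [hwdef]; simp only [mul_inv_rev, ti, mul_assoc, tt, mul_inv_cancel_left]
      rw [CfsgLib.RankOneInvol.conj_t_mul hS, ex, ey]
      calc gx * hx * t * fx * (gy * hy * t * fy)
          = gx * hx * (t * (fx * gy)) * (hy * t) * fy := by group
        _ = gx * hx * (t * (fx * gy) * t * t) * (hy * t) * fy := by
          rw [mul_assoc (t * (fx * gy)), hS.mul_self, mul_one]
        _ = gx * hx * gz * hz * t * fz * (t * hy * t) * fy := by rw [ez]; group
        _ = gx * hx * gz * hz * (hy * t * w⁻¹) * fz * w * fy := by rw [← hwdef, hw]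
        _ = _ := by group
    obtain ⟨-, h1, h2⟩ := CfsgLib.RankOneInvol.canonical_unique hS hg' hgQ hh'
      (mul_mem (mul_mem hhx hhz) hhy) hf' hfQ (e'.symm.trans e)
    exact ⟨h2, h1⟩

end Cfsg.Agent.S1166
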