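import Cfsg.Statements.S1167
import Cfsg.Agent.Lib.PermSmall.OddRecognition

set_option autoImplicit false
open Cfsg

namespace Cfsg.Agent.S1167

/-- Let `G` be a finite simple Zassenhaus group on `Ω`, `U` a normal subgroup of `G_a` regular on `Ω` minus `a` which is an abelian 2-group, and `v` an involution with `v • a ≠ a`. Then there is a unique `u₀ ∈ U`, `u₀ ≠ 1`, with `v u₀ v = u₀ v u₀`. -/
theorem result {G Ω : Type*} [Group G] [Finite G] [MulAction G Ω] [Finite Ω]
    (hZ : Cfsg.IsZassenhausGroup G Ω) [IsSimpleGroup G] {a : Ω}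
    (U : Subgroup G) (hUle : U ≤ MulAction.stabilizer G a)
    (hUn : ∀ h ∈ MulAction.stabilizer G a, ∀ u ∈ U, h * u * h⁻¹ ∈ U)
    (hreg : ∀ c d : Ω, c ≠ a → d ≠ a → ∃! u : U, (u : G) • c = d)
    (hU2 : IsPGroup 2 U) (hUab : ∀ u ∈ U, ∀ u' ∈ U, u * u' = u' * u)
    (v : G) (hv1 : v ≠ 1) (hv2 : v * v = 1) (hva : v • a ≠ a) :
    ∃! u₀ : G, u₀ ∈ U ∧ u₀ ≠ 1 ∧ v * u₀ * v = u₀ * v * u₀ := by
  classical
  haveI := Fintype.ofFinite Ω
  haveI := hZ.1
  haveI : Fact (Nat.Prime 2) := ⟨Nat.prime_two⟩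
  set b := v • a with hb
  have hab : a ≠ b := Ne.symm hva
  have hvb : v • b = a := by rw [hb, ← mul_smul, hv2, one_smul]
  have hUn' : (U.subgroupOf (MulAction.stabilizer G a)).Normal :=
    ⟨fun u hu g => hUn g g.2 u hu⟩
  have hUc : IsMulCommutative U := ⟨⟨fun x y => Subtype.ext (hUab x x.2 y y.2)⟩⟩
  have hcardU := CfsgLib.PermSmall.Kernel.card_regular hab hUle hreg
  have h3 := CfsgLib.PermSmall.Zassenhaus.three_le_card hZ hab
  obtain ⟨k, hk⟩ := hU2.exists_card_eq
  have hk0 : k ≠ 0 := by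
    rintro rfl
    rw [pow_zero] at hk
    omega
  have hUeven : Even (Nat.card U) := by rw [hk]; exact even_two.pow_of_ne_zero hk0
  -- the two-point stabiliser is transitive
  have hd : Nat.card (CfsgLib.PermSmall.Zassenhaus.pairStab G a b) = Fintype.card Ω - 2 := by
    rcases CfsgLib.PermSmall.OddRecognition.card_and_recognition hZ hab U hUle hUn' hUc hreg with
      h | ⟨-, K, _, _, hK2, hKc, -⟩
    · exact h
    · exfalso
      apply hK2
      obtain ⟨p, hp⟩ := CharP.exists K
      haveI := hp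
      obtain ⟨j, hpp, hj⟩ := FiniteField.card K p
      rw [ringChar.eq K p]
      have hdvd : p ∣ 2 ^ k := by
        rw [← hk, hcardU, ← hKc, hj]
        exact dvd_pow_self p j.ne_zero
      exact (Nat.prime_dvd_prime_iff_eq hpp Nat.prime_two).1 (hpp.dvd_of_dvd_pow hdvd)
  have hodd : Odd (Nat.card (CfsgLib.PermSmall.Zassenhaus.pairStab G a b)) := by
    rw [hd]
    obtain ⟨r, hr⟩ := hUeven
    exact ⟨r - 1, by omega⟩
  have htrans : ∀ y z : Ω, y ≠ a → y ≠ b → z ≠ a → z ≠ b →
      ∃ h ∈ CfsgLib.PermSmall.Zassenhaus.pairStab G a b, h • y = z := by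
    intro y z hya hyb hza hzb
    let f : CfsgLib.PermSmall.Zassenhaus.pairStab G a b → {x : Ω // x ≠ a ∧ x ≠ b} := fun h =>
      ⟨(h : G) • y, fun e => hya (smul_left_cancel (h : G) (e.trans h.2.1.symm)),
        fun e => hyb (smul_left_cancel (h : G) (e.trans h.2.2.symm))⟩
    have hf : Function.Bijective f := by
      refine (Nat.bijective_iff_injective_and_card f).2 ⟨fun g g' e => ?_, ?_⟩
      · have e' : (g : G) • y = (g' : G) • y := congrArg Subtype.val e
        have hm := mul_mem (inv_mem g'.2) g.2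
        have h1 := CfsgLib.PermSmall.Zassenhaus.eq_one hZ hab (Ne.symm hyb) (Ne.symm hya) hm.1 hm.2
          (by rw [mul_smul, e', inv_smul_smul])
        exact Subtype.ext (inv_mul_eq_one.1 h1).symm
      · rw [hd, Nat.card_eq_fintype_card, Fintype.card_subtype]
        have : (Finset.univ.filter fun x : Ω => x ≠ a ∧ x ≠ b) = Finset.univ \ {a, b} := by
          ext x; simp
        rw [this, Finset.card_sdiff_of_subset (Finset.subset_univ _), Finset.card_univ,
          Finset.card_pair hab]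
    obtain ⟨h, hh⟩ := hf.2 ⟨z, hza, hzb⟩
    exact ⟨h, h.2, congrArg Subtype.val hh⟩
  -- all elements of the kernel square to one
  have hexp : ∀ u ∈ U, u * u = 1 := by
    intro u hu
    by_cases hu1 : u = 1
    · rw [hu1, one_mul]
    obtain ⟨w, hw⟩ := exists_prime_orderOf_dvd_card' (G := U) 2 hUeven.two_dvd
    have hww : (w : G) * w = 1 := by
      rw [← pow_two, ← Subgroup.coe_pow, ← hw, pow_orderOf_eq_one]; rfl
    have hw1 : (w : G) ≠ 1 := fun e => by
      rw [← Subgroup.orderOf_coe, e, orderOf_one] at hw; omega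
    obtain ⟨h, hh, hhw⟩ := htrans _ _
      (CfsgLib.PermSmall.Kernel.regular_ne hab hUle hreg w.2 hw1).1
      (CfsgLib.PermSmall.Kernel.regular_ne hab hUle hreg w.2 hw1).2
      (CfsgLib.PermSmall.Kernel.regular_ne hab hUle hreg hu hu1).1
      (CfsgLib.PermSmall.Kernel.regular_ne hab hUle hreg hu hu1).2
    have e : h * w * h⁻¹ = u := CfsgLib.PermSmall.Kernel.regular_inj hab hUle hreg
      (hUn h hh.1 w w.2) hu (by
        rw [mul_smul, mul_smul, show h⁻¹ • b = b from inv_smul_eq_iff.2 hh.2.symm, hhw])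
    rw [← e, show h * w * h⁻¹ * (h * w * h⁻¹) = h * (w * w) * h⁻¹ by group, hww, mul_one,
      mul_inv_cancel]
  -- the fixed point of `v`
  obtain ⟨c, hc⟩ : ∃ c : Ω, v • c = c := by
    by_contra hall
    push Not at hall
    haveI : IsEmpty (MulAction.fixedBy Ω v) := ⟨fun x => hall x.1 x.2⟩
    have hmod := CfsgLib.PermSmall.Zassenhaus.fixedBy_modEq (Ω := Ω) hv2
    rw [Nat.card_of_isEmpty] at hmod
    have h2 : 2 ∣ Fintype.card Ω := Nat.modEq_zero_iff_dvd.1 hmod
    obtain ⟨r, hr⟩ := hUeven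
    omega
  have hca : c ≠ a := fun e => hva ((congrArg (fun x => v • x) e).symm.trans (hc.trans e))
  have hcb : c ≠ b := fun e => hab (by rw [← hvb, ← e, hc, e])
  have huniqc : ∀ x : Ω, v • x = x → x = c := by
    intro x hx
    by_contra hxc
    obtain ⟨g, hga, hgb⟩ := CfsgLib.PermSmall.Zassenhaus.exists_smul_pair hZ hab hxc
    have hm : g⁻¹ * v * g ∈ CfsgLib.PermSmall.Zassenhaus.pairStab G a b :=
      CfsgLib.PermSmall.Zassenhaus.mem_pairStab.2
      ⟨by rw [mul_smul, mul_smul, hga, hx, ← hga, inv_smul_smul],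
       by rw [mul_smul, mul_smul, hgb, hc, ← hgb, inv_smul_smul]⟩
    have hsq : (g⁻¹ * v * g) * (g⁻¹ * v * g) = 1 := by
      rw [show g⁻¹ * v * g * (g⁻¹ * v * g) = g⁻¹ * (v * v) * g by group, hv2, mul_one, inv_mul_cancel]
    have h2 : orderOf (g⁻¹ * v * g) ∣ 2 := orderOf_dvd_of_pow_eq_one (by rw [pow_two, hsq])
    have h1 := Nat.eq_one_of_dvd_coprimes (Nat.coprime_two_left.2 hodd) h2
      (Subgroup.orderOf_dvd_natCard _ hm)
    rw [orderOf_eq_one_iff] at h1
    exact hv1 (by rw [show v = g * (g⁻¹ * v * g) * g⁻¹ by group, h1, mul_one, mul_inv_cancel])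
  obtain ⟨u, hub, -⟩ := hreg b c (Ne.symm hab) hca
  have hub' : (u : G) • b = c := hub
  have hu1 : (u : G) ≠ 1 := fun e => hcb (by rw [← hub', e, one_smul])
  have huu : (u : G) * u = 1 := hexp u u.2
  have hua : (u : G) • a = a := hUle u.2
  have huc : (u : G) • c = b := by rw [← hub', ← mul_smul, huu, one_smul]
  refine ⟨u, ⟨u.2, hu1, ?_⟩, ?_⟩
  · set z := (u : G) * v with hz
    have za : z • a = c := by rw [hz, mul_smul, ← hb, hub']
    have zc : z • c = b := by rw [hz, mul_smul, hc, huc]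
    have zb : z • b = a := by rw [hz, mul_smul, hvb, hua]
    have h1 : z * z * z = 1 := CfsgLib.PermSmall.Zassenhaus.eq_one hZ hab (Ne.symm hcb) (Ne.symm hca)
      (by rw [mul_smul, mul_smul, za, zc, zb]) (by rw [mul_smul, mul_smul, zb, za, zc])
      (by rw [mul_smul, mul_smul, zc, zb, za])
    calc v * (u : G) * v = ((u : G) * u) * (v * u * v) * ((u : G) * v * ((u : G) * v)⁻¹) := by
          rw [huu, one_mul, mul_inv_cancel, mul_one]
      _ = (u : G) * (z * z * z) * (v⁻¹ * (u : G)⁻¹) := by rw [hz]; group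
      _ = (u : G) * v * u := by
          rw [h1, inv_eq_of_mul_eq_one_left hv2, inv_eq_of_mul_eq_one_left huu, mul_one, mul_assoc]
  · rintro w ⟨hw, hw1, hweq⟩
    have h1 := congrArg (fun g : G => g • b) hweq
    simp only [mul_smul] at h1
    rw [hvb, show w • a = a from hUle hw] at h1
    have h2 : v • (w • b) = w • b := by
      have h3 := congrArg (fun g : G => g • a) hweq
      simp only [mul_smul] at h3
      rw [← hb, show w • a = a from hUle hw, ← hb] at h3
      exact h3
    exact CfsgLib.PermSmall.Kernel.regular_inj hab hUle hreg hw u.2 ((huniqc _ h2).trans hub'.symm)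

end Cfsg.Agent.S1167
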