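import Cfsg.Statements.S1172
import Cfsg.Agent.Lib.ProductFusion.Direct

set_option autoImplicit false
open Cfsg

namespace Cfsg.Agent.S1172

/-- Let G be a finite group with no nontrivial normal subgroup of odd order and no proper normal subgroup of odd index, whose Sylow 2-subgroup S is not commutative and is the internal direct product of two subgroups each isomorphic to a dihedral group of order at least 4 and each strongly closed in S with respect to G (product fusion). Then G is the internal direct product of two normal subgroups G₁, G₂, and S is the internal direct product of dihedral subgroups R₁ ≤ G₁ and R₂ ≤ G₂ of odd index in G₁ and G₂ respectively (so R_i is a Sylow 2-subgroup of G_i). -/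
theorem result {G : Type*} [Group G] [Finite G] (hO : Cfsg.oddCore G = ⊥) (hO' : ∀ N : Subgroup G, N.Normal → Odd N.index → N = ⊤) (S : Sylow 2 G) (hS : ¬ IsMulCommutative (S : Subgroup G)) (S₁ S₂ : Subgroup G) (hprod : Cfsg.IsInternalDirectProduct S₁ S₂ (S : Subgroup G)) (m₁ m₂ : ℕ) (hm₁ : 2 ≤ m₁) (hm₂ : 2 ≤ m₂) (e₁ : S₁ ≃* DihedralGroup m₁) (e₂ : S₂ ≃* DihedralGroup m₂) (hcl₁ : Cfsg.IsStronglyClosed S₁ (S : Subgroup G)) (hcl₂ : Cfsg.IsStronglyClosed S₂ (S : Subgroup G)) : ∃ G₁ G₂ : Subgroup G, G₁.Normal ∧ G₂.Normal ∧ Cfsg.IsInternalDirectProduct G₁ G₂ ⊤ ∧ ∃ R₁ R₂ : Subgroup G, Cfsg.IsInternalDirectProduct R₁ R₂ (S : Subgroup G) ∧ (∃ n₁, 2 ≤ n₁ ∧ Nonempty (R₁ ≃* DihedralGroup n₁)) ∧ (∃ n₂, 2 ≤ n₂ ∧ Nonempty (R₂ ≃* DihedralGroup n₂)) ∧ R₁ ≤ G₁ ∧ R₂ ≤ G₂ ∧ Odd (R₁.relIndex G₁) ∧ Odd (R₂.relIndex G₂) := by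
  have hfact : Fact (Nat.Prime 2) := ⟨Nat.prime_two⟩
  obtain ⟨h₁S, h₂S, hc, hd, hsup⟩ := hprod
  let D : CfsgLib.ProductFusion.Pair G := ⟨S, S₁, S₂, hc, hd, hcl₁, hcl₂⟩
  obtain ⟨htop, hcomm, hP₁⟩ := D.inf_normalClosure hO hsup hO'
  obtain ⟨-, -, hP₂⟩ := D.swap.inf_normalClosure hO (by
    show S₂ ⊔ S₁ = _
    rw [sup_comm]; exact hsup) hO'
  set N₁ := Subgroup.normalClosure (S₁ : Set G) with hN₁
  set N₂ := Subgroup.normalClosure (S₂ : Set G) with hN₂
  change (S : Subgroup G) ⊓ N₁ = S₁ at hP₁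
  change (S : Subgroup G) ⊓ N₂ = S₂ at hP₂
  -- relative indices in normal subgroups
  have hrel : ∀ N : Subgroup G, N.Normal → Odd (((S : Subgroup G) ⊓ N).relIndex N) := by
    intro N hN
    refine Nat.odd_iff.2 (Nat.two_dvd_ne_zero.1 ?_)
    obtain ⟨R⟩ : Nonempty (Sylow 2 N) := inferInstance
    obtain ⟨h, hh⟩ := CfsgLib.ProductFusion.exists_conj_le_sylow S (R.isPGroup'.map N.subtype)
    have hle : (R : Subgroup N).map (((MulAut.conj h).toMonoidHom).comp N.subtype) ≤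
        (S : Subgroup G) ⊓ N := by
      rintro _ ⟨r, hr, rfl⟩
      exact ⟨hh _ (Subgroup.mem_map_of_mem _ hr), hN.conj_mem _ r.2 h⟩
    have hcard := Subgroup.card_le_of_le hle
    rw [← Nat.card_congr (Subgroup.equivMapOfInjective _ _
      (show Function.Injective (((MulAut.conj h).toMonoidHom).comp N.subtype) from
        (MulAut.conj h).injective.comp N.subtype_injective)).toEquiv,
      ← Nat.card_congr (Subgroup.subgroupOfEquivOfLe (show (S : Subgroup G) ⊓ N ≤ N from inf_le_right)).toEquiv]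
      at hcard
    have hp : IsPGroup 2 (((S : Subgroup G) ⊓ N).subgroupOf N) :=
      (S.isPGroup'.to_le inf_le_left).comap_subtype
    obtain ⟨R', hR'⟩ := hp.exists_le_sylow
    have heq : Nat.card (((S : Subgroup G) ⊓ N).subgroupOf N) = Nat.card (R : Subgroup N) :=
      le_antisymm ((Subgroup.card_le_of_le hR').trans
        (le_of_eq (by rw [R'.card_eq_multiplicity, R.card_eq_multiplicity]))) hcard
    have h1 := Subgroup.card_mul_index (((S : Subgroup G) ⊓ N).subgroupOf N)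
    rw [heq, ← Subgroup.card_mul_index (R : Subgroup N)] at h1
    rw [Subgroup.relIndex, Nat.eq_of_mul_eq_mul_left Nat.card_pos h1]
    exact R.not_dvd_index
  -- the two closures meet trivially
  have hinf : N₁ ⊓ N₂ = ⊥ := by
    refine le_bot_iff.1 (hO ▸ CfsgLib.PCore.le_pPrimeCore_of_not_dvd inferInstance fun h2 => ?_)
    obtain ⟨x, hx⟩ := exists_prime_orderOf_dvd_card' 2 h2
    have hx2 : orderOf (x : G) = 2 := by rw [Subgroup.orderOf_coe, hx]
    obtain ⟨h, hh⟩ := CfsgLib.ProductFusion.exists_conj_le_sylow S (X := Subgroup.zpowers (x : G))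
      (IsPGroup.of_card (n := 1) (by rw [Nat.card_zpowers, hx2, pow_one]))
    have h1 : h * x * h⁻¹ ∈ (S : Subgroup G) ⊓ N₁ :=
      ⟨hh _ (Subgroup.mem_zpowers _), Subgroup.normalClosure_normal.conj_mem _ x.2.1 h⟩
    have h2' : h * x * h⁻¹ ∈ (S : Subgroup G) ⊓ N₂ :=
      ⟨hh _ (Subgroup.mem_zpowers _), Subgroup.normalClosure_normal.conj_mem _ x.2.2 h⟩
    rw [hP₁] at h1
    rw [hP₂] at h2'
    have h3 : h * x * h⁻¹ ∈ S₁ ⊓ S₂ := ⟨h1, h2'⟩
    rw [hd, Subgroup.mem_bot, conj_eq_one_iff] at h3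
    rw [h3, orderOf_one] at hx2
    omega
  rw [Subgroup.commutator_eq_bot_iff_le_centralizer] at hcomm
  refine ⟨N₁, N₂, Subgroup.normalClosure_normal, Subgroup.normalClosure_normal,
    ⟨le_top, le_top, fun a ha b hb => (Subgroup.mem_centralizer_iff.1 (hcomm ha) b hb).symm, hinf, htop⟩,
    S₁, S₂, ⟨h₁S, h₂S, hc, hd, hsup⟩, ⟨m₁, hm₁, ⟨e₁⟩⟩, ⟨m₂, hm₂, ⟨e₂⟩⟩,
    fun x hx => Subgroup.subset_normalClosure hx, fun x hx => Subgroup.subset_normalClosure hx, ?_, ?_⟩
  · exact hP₁ ▸ hrel N₁ Subgroup.normalClosure_normal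
  · exact hP₂ ▸ hrel N₂ Subgroup.normalClosure_normal

end Cfsg.Agent.S1172
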