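-- Proof of statement S1176.
import Cfsg.Statements.S1176
import Mathlib
import Cfsg.Agent.Lib.Involutions.Isolated

set_option autoImplicit false
open Cfsg

namespace Cfsg.Agent.S1176

/-- Let x₀ be an involution of the finite group G and D its conjugacy class. Assume (a) for each x ∈ D the subgroup W(x) generated by the members of D commuting with x is a 2-group of nilpotency class at most 2, and (b) the product of two distinct commuting members of D again lies in D. Then for all x, y ∈ D, if xy has even order greater than 2, its order is 4. -/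
theorem result {G : Type*} [Group G] [Finite G] (x₀ : G) (hx₀ : orderOf x₀ = 2) (ha : ∀ x : G, IsConj x₀ x → IsPGroup 2 ↥(Subgroup.closure {y : G | IsConj x₀ y ∧ Commute y x}) ∧ ⁅⁅Subgroup.closure {y : G | IsConj x₀ y ∧ Commute y x}, Subgroup.closure {y : G | IsConj x₀ y ∧ Commute y x}⁆, Subgroup.closure {y : G | IsConj x₀ y ∧ Commute y x}⁆ = ⊥) (hb : ∀ x y : G, IsConj x₀ x → IsConj x₀ y → x ≠ y → Commute x y → IsConj x₀ (x * y)) (x y : G) (hx : IsConj x₀ x) (hy : IsConj x₀ y) (heven : Even (orderOf (x * y))) (hgt : 2 < orderOf (x * y)) : orderOf (x * y) = 4 := by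
  open CfsgLib.Involutions.Isolated in
  obtain ⟨m, hm⟩ := heven
  have hx2 : orderOf x = 2 := orderOf_isConj hx₀ hx
  have hy2 : orderOf y = 2 := orderOf_isConj hx₀ hy
  open CfsgLib.Involutions.Isolated in
  have hinv := invert_mul_left hx2 hy2
  open CfsgLib.Involutions.Isolated in
  have hinv' := invert_mul_right hx2 hy2
  set r := x * y with hr
  have hpos : 0 < orderOf r := orderOf_pos r
  have hj1 : r ^ m ≠ 1 := pow_ne_one_of_lt_orderOf (by omega) (by omega)
  have hjinv : (r ^ m)⁻¹ = r ^ m := by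
    apply inv_eq_of_mul_eq_one_right
    rw [← pow_add, ← hm, pow_orderOf_eq_one]
  open CfsgLib.Involutions.Isolated in
  have hcx : Commute x (r ^ m) := mul_inv_eq_iff_eq_mul.mp
    (by rw [inv_of_mem_zpowers hinv (Subgroup.npow_mem_zpowers r m), hjinv])
  open CfsgLib.Involutions.Isolated in
  have hcy : Commute y (r ^ m) := mul_inv_eq_iff_eq_mul.mp
    (by rw [inv_of_mem_zpowers hinv' (Subgroup.npow_mem_zpowers r m), hjinv])
  open CfsgLib.Involutions.Isolated in
  have hconj : IsConj x₀ (r ^ m * x) := by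
    rcases Nat.even_or_odd m with ⟨i, hi⟩ | ⟨i, hi⟩
    · refine hx.trans (isConj_iff.mpr ⟨r ^ i, ?_⟩)
      rw [conj_eq_sq_mul (inv_of_mem_zpowers hinv (Subgroup.npow_mem_zpowers r i)), ← pow_mul,
        show i * 2 = m by omega]
    · refine hy.trans ((isConj_iff.mpr ⟨x, rfl⟩ : IsConj y (x * y * x⁻¹)).trans
        (isConj_iff.mpr ⟨r ^ i, ?_⟩))
      have hwr : (x * y * x⁻¹) * r * (x * y * x⁻¹)⁻¹ = r⁻¹ := by
        have h1 : x⁻¹ * r * x = r⁻¹ := by rw [← hinv, involution_inv hx2]
        calc (x * y * x⁻¹) * r * (x * y * x⁻¹)⁻¹ = x * (y * (x⁻¹ * r * x) * y⁻¹) * x⁻¹ := by group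
          _ = x * (y * r⁻¹ * y⁻¹) * x⁻¹ := by rw [h1]
          _ = r⁻¹ := by rw [← conj_inv, hinv', inv_inv, hinv]
      rw [conj_eq_sq_mul (inv_of_mem_zpowers hwr (Subgroup.npow_mem_zpowers r i)), ← pow_mul,
        ← hr, involution_inv hx2, ← mul_assoc, show m = i * 2 + 1 by omega, pow_succ]
  have hne : r ^ m * x ≠ x := fun h => hj1 (mul_eq_right.mp h)
  have hj : IsConj x₀ (r ^ m) := by
    have := hb _ x hconj hx hne ((hcx.symm.mul_left (Commute.refl x)))
    rwa [mul_assoc, CfsgLib.Involutions.Isolated.involution_mul_self hx2, mul_one] at this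
  obtain ⟨-, hcl⟩ := ha _ hj
  set W := Subgroup.closure {w : G | IsConj x₀ w ∧ Commute w (r ^ m)} with hW
  have hxW : x ∈ W := Subgroup.subset_closure ⟨hx, hcx⟩
  have hyW : y ∈ W := Subgroup.subset_closure ⟨hy, hcy⟩
  have hmem : x * y * x⁻¹ * y⁻¹ ∈ ⁅W, W⁆ := Subgroup.commutator_mem_commutator hxW hyW
  have hc : x * y * x⁻¹ * y⁻¹ = r ^ 2 := by
    rw [CfsgLib.Involutions.Isolated.involution_inv hx2,
      CfsgLib.Involutions.Isolated.involution_inv hy2, hr, pow_two, mul_assoc]
  have h1 := Subgroup.commutator_mem_commutator hmem hxW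
  rw [hcl, Subgroup.mem_bot, hc, commutatorElement_eq_one_iff_mul_comm] at h1
  open CfsgLib.Involutions.Isolated in
  have h2 : (r ^ 2)⁻¹ = r ^ 2 := by
    rw [← inv_of_mem_zpowers hinv (Subgroup.npow_mem_zpowers r 2), ← h1, mul_inv_cancel_right]
  have h4 : r ^ 4 = 1 := by
    rw [show 4 = 2 + 2 from rfl, pow_add]
    nth_rw 1 [← h2]
    exact inv_mul_cancel _
  have hdvd := orderOf_dvd_of_pow_eq_one h4
  have hle : orderOf r ≤ 4 := Nat.le_of_dvd (by norm_num) hdvd
  omega

end Cfsg.Agent.S1176
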