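-- Proof of statement S1177.
import Cfsg.Statements.S1177
import Mathlib

set_option autoImplicit false
open Cfsg
open scoped Pointwise

namespace Cfsg.Agent.S1177

/-- Let A be a nontrivial elementary abelian 2-subgroup of a finite group G which is a T.I. set (each conjugate of A meets A trivially or equals A) and which does not commute elementwise with any conjugate of A other than A itself. Then for every a ∈ A, a ≠ 1, every conjugate of A contained in C_G(a) is equal to A (A is weakly closed in C_G(a)). -/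
theorem result {G : Type*} [Group G] [Finite G] (A : Subgroup G) (hA : Cfsg.IsElementaryAbelian 2 A) (hA1 : A ≠ ⊥) (hTI : ∀ g : G, A.map (MulAut.conj g).toMonoidHom ⊓ A = ⊥ ∨ A.map (MulAut.conj g).toMonoidHom = A) (hb : ∀ g : G, (∀ a ∈ A, ∀ b ∈ A.map (MulAut.conj g).toMonoidHom, a * b = b * a) → A.map (MulAut.conj g).toMonoidHom = A) (a : G) (ha : a ∈ A) (ha1 : a ≠ 1) (g : G) (hg : A.map (MulAut.conj g).toMonoidHom ≤ Subgroup.centralizer ({a} : Set G)) : A.map (MulAut.conj g).toMonoidHom = A := by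
  by_contra hBA
  set B := A.map (MulAut.conj g).toMonoidHom with hB
  have hmapmap : ∀ (u v : G) (K : Subgroup G), (K.map (MulAut.conj v).toMonoidHom).map
      (MulAut.conj u).toMonoidHom = K.map (MulAut.conj (u * v)).toMonoidHom := by
    intro u v K
    rw [Subgroup.map_map]
    congr 1
    ext x
    simp [mul_assoc]
  have hA2 : IsPGroup 2 A := fun x => ⟨1, Subtype.ext (by simpa using hA.2 x.1 x.2)⟩
  have hB2 : IsPGroup 2 B := hA2.map _
  have hca : ∀ b ∈ B, b * a * b⁻¹ = a := fun b hb' =>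
    mul_inv_eq_iff_eq_mul.mpr (Subgroup.mem_centralizer_singleton_iff.mp (hg hb'))
  have hnorm : B ≤ Subgroup.normalizer (A : Set G) := by
    intro b hb'
    have h1 : A.map (MulAut.conj b).toMonoidHom = A := by
      refine (hTI b).resolve_left fun h => ha1 ?_
      have h2 : a ∈ A.map (MulAut.conj b).toMonoidHom ⊓ A :=
        ⟨⟨a, ha, by simpa using hca b hb'⟩, ha⟩
      rw [h] at h2
      exact h2
    rw [Subgroup.mem_normalizer_iff]
    intro n
    constructor
    · intro hn
      rw [← h1]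
      exact ⟨n, hn, rfl⟩
    · intro hn
      rw [← h1] at hn
      obtain ⟨m, hm, hmn⟩ := hn
      simp only [MulEquiv.coe_toMonoidHom, MulAut.conj_apply] at hmn
      have : m = n := mul_left_cancel (mul_right_cancel hmn)
      exact this ▸ hm
  have hTB : ∀ h : G, B.map (MulAut.conj h).toMonoidHom ⊓ B = ⊥ ∨
      B.map (MulAut.conj h).toMonoidHom = B := by
    intro h
    rw [hB, hmapmap]
    rcases hTI (g⁻¹ * (h * g)) with h' | h'
    · left
      rw [show h * g = g * (g⁻¹ * (h * g)) by group, ← hmapmap g,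
        ← Subgroup.map_inf _ _ _ (MulAut.conj g).injective, h', Subgroup.map_bot]
    · right
      rw [show h * g = g * (g⁻¹ * (h * g)) by group, ← hmapmap g, h']
  have hdisj : B ⊓ A = ⊥ := (hTI g).resolve_right hBA
  set A0 := A ⊓ Subgroup.centralizer (B : Set G) with hA0
  have hA0ne : ¬ A ≤ A0 := fun h => hBA (hb g fun x hx y hy =>
    ((h hx).2 y hy).symm)
  set P := A ⊔ B with hP
  have hPp : IsPGroup 2 P := hA2.to_sup_of_normal_left' hB2 hnorm
  haveI : Group.IsNilpotent P := hPp.isNilpotent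
  set H := A0 ⊔ B with hH
  have hcomm : ∀ (x : A0) (y : B), Commute (A0.subtype x) (B.subtype y) :=
    fun x y => (x.2.2 y.1 y.2).symm
  have hHr : H = (MonoidHom.noncommCoprod A0.subtype B.subtype hcomm).range := by
    rw [MonoidHom.noncommCoprod_range, Subgroup.range_subtype, Subgroup.range_subtype]
  have hHP : H ≤ P := sup_le_sup_right inf_le_left B
  have hlt : H.subgroupOf P < ⊤ := by
    rw [lt_top_iff_ne_top, ne_eq, Subgroup.subgroupOf_eq_top]
    intro h
    apply hA0ne
    intro x hx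
    have hxH : x ∈ H := h (Subgroup.mem_sup_left hx)
    rw [hHr] at hxH
    obtain ⟨⟨u, v⟩, huv⟩ := hxH
    simp only [MonoidHom.noncommCoprod_apply, Subgroup.coe_subtype] at huv
    have hv : (v : G) ∈ B ⊓ A := by
      refine ⟨v.2, ?_⟩
      rw [show (v : G) = (u : G)⁻¹ * x by rw [← huv]; group]
      exact A.mul_mem (A.inv_mem u.2.1) hx
    rw [hdisj, Subgroup.mem_bot] at hv
    rw [hv, mul_one] at huv
    exact huv ▸ u.2
  obtain ⟨⟨x, hxP⟩, hxN, hxH⟩ := SetLike.exists_of_lt (Group.normalizerCondition_of_isNilpotent _ hlt)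
  have hxP' : x ∈ (A : Set G) * (B : Set G) := by
    rw [← Subgroup.coe_mul_of_right_le_normalizer_left A B hnorm]
    exact hxP
  obtain ⟨a', ha', b, hb', rfl⟩ := Set.mem_mul.mp hxP'
  have hbH : b ∈ H := Subgroup.mem_sup_right hb'
  have ha'A0 : a' ∉ A0 := fun h => hxH (H.mul_mem (Subgroup.mem_sup_left h) hbH)
  have hB'H : ∀ y ∈ B, a' * y * a'⁻¹ ∈ H := by
    intro y hy
    have hy' : b⁻¹ * y * b ∈ H :=
      H.mul_mem (H.mul_mem (H.inv_mem hbH) (Subgroup.mem_sup_right hy)) hbH
    have h2 := (Subgroup.mem_normalizer_iff.mp hxN ⟨b⁻¹ * y * b, hHP hy'⟩).mp hy'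
    simp only [Subgroup.mem_subgroupOf, Subgroup.coe_mul, Subgroup.coe_inv] at h2
    convert h2 using 1
    group
  set B' := B.map (MulAut.conj a').toMonoidHom with hB'
  have hB'ne : B' ≠ B := by
    intro h
    apply ha'A0
    refine ⟨ha', fun y hy => ?_⟩
    have h1 : a' * y * a'⁻¹ * y⁻¹ ∈ B ⊓ A := by
      refine ⟨B.mul_mem (h ▸ ⟨y, hy, rfl⟩) (B.inv_mem hy), ?_⟩
      rw [show a' * y * a'⁻¹ * y⁻¹ = a' * (y * a'⁻¹ * y⁻¹) by group]
      exact A.mul_mem ha' ((Subgroup.mem_normalizer_iff.mp (hnorm hy) _).mp (A.inv_mem ha'))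
    rw [hdisj, Subgroup.mem_bot, mul_inv_eq_one, mul_inv_eq_iff_eq_mul] at h1
    exact h1.symm
  have hd : B' ⊓ B = ⊥ := (hTB a').resolve_right hB'ne
  have hB'le : B' ≤ H := by
    rintro _ ⟨y, hy, rfl⟩
    exact hB'H y hy
  have hinj : Function.Injective
      (fun p : B' × B => (⟨p.1.1 * p.2.1, H.mul_mem (hB'le p.1.2)
        (Subgroup.mem_sup_right p.2.2)⟩ : H)) := by
    rintro ⟨u, v⟩ ⟨u', v'⟩ h
    have h1 : (u : G) * v = u' * v' := congrArg Subtype.val h
    have h2 : (u' : G)⁻¹ * u ∈ B' ⊓ B := by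
      refine ⟨B'.mul_mem (B'.inv_mem u'.2) u.2, ?_⟩
      rw [show (u' : G)⁻¹ * u = v' * (v : G)⁻¹ by
        rw [eq_mul_inv_iff_mul_eq, mul_assoc, h1, inv_mul_cancel_left]]
      exact B.mul_mem v'.2 (B.inv_mem v.2)
    rw [hd, Subgroup.mem_bot, inv_mul_eq_one] at h2
    rw [← h2] at h1
    exact Prod.ext (Subtype.ext h2.symm) (Subtype.ext (mul_left_cancel h1))
  have hc1 := Nat.card_le_card_of_injective _ hinj
  have hcB : Nat.card B = Nat.card A :=
    Subgroup.card_map_of_injective (MulAut.conj g).injective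
  have hc2 : Nat.card H ≤ Nat.card A0 * Nat.card B := by
    rw [hHr, ← Nat.card_prod]
    exact Nat.card_le_card_of_surjective _ (MonoidHom.rangeRestrict_surjective _)
  have hcB' : Nat.card B' = Nat.card B :=
    Subgroup.card_map_of_injective (MulAut.conj a').injective
  rw [Nat.card_prod, hcB'] at hc1
  have hc3 : Nat.card A ≤ Nat.card A0 := hcB ▸ Nat.le_of_mul_le_mul_right (hc1.trans hc2) Nat.card_pos
  exact hA0ne (Subgroup.eq_of_le_of_card_ge inf_le_left hc3).ge

end Cfsg.Agent.S1177
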