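-- Proof of statement S1178.
import Cfsg.Statements.S1178


set_option autoImplicit false
open Cfsg

namespace Cfsg.Agent.S1178

/-- Let A be a subgroup of a Sylow 2-subgroup S of the finite group G which is weakly closed in S. If a conjugate g A g⁻¹ commutes elementwise with A, then g A g⁻¹ = A. -/
theorem result {G : Type*} [Group G] [Finite G] (S : Sylow 2 G) (A : Subgroup G) (hW : Cfsg.IsWeaklyClosed A (S : Subgroup G)) (g : G) (hc : ∀ a ∈ A, ∀ b ∈ A.map (MulAut.conj g).toMonoidHom, a * b = b * a) : A.map (MulAut.conj g).toMonoidHom = A := by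
  have hAp : IsPGroup 2 A := S.isPGroup'.to_le hW.1
  set B := A.map (MulAut.conj g).toMonoidHom with hB
  have hBp : IsPGroup 2 B := hAp.map _
  have hle : B ≤ Subgroup.normalizer (A : Set G) := by
    intro b hb
    rw [Subgroup.mem_normalizer_iff]
    intro a
    constructor
    · intro ha
      rw [← hc a ha b hb, mul_inv_cancel_right]
      exact ha
    · intro ha
      have h1 := hc _ ha b hb
      have e : a = b * a * b⁻¹ := mul_left_cancel (a := b) (by
        rw [← h1]; group)
      rw [e]; exact ha
  have hsup : IsPGroup 2 (A ⊔ B : Subgroup G) := hAp.to_sup_of_normal_left' hBp hle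
  obtain ⟨R, hR⟩ := hsup.exists_le_sylow
  obtain ⟨h, hh⟩ := MulAction.exists_smul_eq G R S
  have hcoe : (R : Subgroup G).map (MulAut.conj h).toMonoidHom = (S : Subgroup G) := by
    rw [← hh]; rfl
  have h1 := hW.2 h (hcoe ▸ Subgroup.map_mono (le_sup_left.trans hR))
  have h2 := hW.2 (h * g) (by
    rw [show (MulAut.conj (h * g)).toMonoidHom =
      (MulAut.conj h).toMonoidHom.comp (MulAut.conj g).toMonoidHom from by ext x; simp [mul_assoc],
      ← Subgroup.map_map, ← hB]
    exact hcoe ▸ Subgroup.map_mono (le_sup_right.trans hR))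
  rw [show (MulAut.conj (h * g)).toMonoidHom =
      (MulAut.conj h).toMonoidHom.comp (MulAut.conj g).toMonoidHom from by ext x; simp [mul_assoc],
      ← Subgroup.map_map, ← hB] at h2
  exact Subgroup.map_injective (MulAut.conj h).injective (h2.trans h1.symm)

end Cfsg.Agent.S1178
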