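-- Proof of statement S1181.
import Cfsg.Statements.S1181
import Cfsg.Agent.Lib.Involutions.Isolated

set_option autoImplicit false
open Cfsg

namespace Cfsg.Agent.S1181

/-- Let z be an isolated involution of the finite group G and N a normal subgroup with z ∉ N. Then the centralizer of zN in G/N is the image of C_G(z), and zN is an isolated involution of G/N. -/
theorem result {G : Type*} [Group G] [Finite G] (z : G) (hz : Cfsg.IsIsolatedInvolution z) (N : Subgroup G) [N.Normal] (hzN : z ∉ N) : Subgroup.centralizer ({(QuotientGroup.mk z : G ⧸ N)} : Set (G ⧸ N)) = (Subgroup.centralizer ({z} : Set G)).map (QuotientGroup.mk' N) ∧ Cfsg.IsIsolatedInvolution (QuotientGroup.mk z : G ⧸ N) := by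
  have hN : ∀ x : G, (QuotientGroup.mk x : G ⧸ N) = 1 ↔ x ∈ N := QuotientGroup.eq_one_iff
  refine ⟨le_antisymm ?_ ?_, ?_, ?_⟩
  · intro x hx
    obtain ⟨g, rfl⟩ := QuotientGroup.mk_surjective x
    rw [Subgroup.mem_centralizer_singleton_iff] at hx
    have hg : g * z * g⁻¹ * z ∈ N := by
      rw [← hN]
      have : g * z * g⁻¹ * z = (g * z) * (z * g)⁻¹ := by
        rw [mul_inv_rev, CfsgLib.Involutions.Isolated.involution_inv hz.1, mul_assoc]
      rw [this, QuotientGroup.mk_mul, QuotientGroup.mk_inv, QuotientGroup.mk_mul,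
        QuotientGroup.mk_mul, hx, mul_inv_cancel]
    obtain ⟨c, hc, hgc⟩ := CfsgLib.Involutions.Isolated.quotient_centralizer hz N hg
    exact ⟨c, Subgroup.mem_centralizer_singleton_iff.mpr hc.eq, (QuotientGroup.eq.mpr hgc).symm⟩
  · rintro x ⟨c, hc, rfl⟩
    simp only [Subgroup.mem_centralizer_singleton_iff, QuotientGroup.mk'_apply] at hc ⊢
    rw [← QuotientGroup.mk_mul, ← QuotientGroup.mk_mul, Subgroup.mem_centralizer_singleton_iff.mp hc]
  · refine orderOf_eq_prime ?_ (mt (hN z).mp hzN)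
    rw [← QuotientGroup.mk_pow, ← hz.1, pow_orderOf_eq_one, QuotientGroup.mk_one]
  · intro x hx
    obtain ⟨g, rfl⟩ := QuotientGroup.mk_surjective x
    set w := g * z * g⁻¹ with hw
    have hwc : IsConj z w := isConj_iff.mpr ⟨g, rfl⟩
    have e : ((g : G ⧸ N) * (z : G ⧸ N) * (g : G ⧸ N)⁻¹) = ((w : G) : G ⧸ N) := by
      simp [hw]
    rw [e] at hx ⊢
    obtain ⟨d, hd, -, -, -, hd2⟩ :=
      CfsgLib.Involutions.Isolated.exists_conj_mem_zpowers hz hwc (IsConj.refl z)
    have ho := CfsgLib.Involutions.Isolated.odd_orderOf_mul hz hwc (IsConj.refl z)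
    have hwi := CfsgLib.Involutions.Isolated.involution_inv
      (CfsgLib.Involutions.Isolated.orderOf_isConj hz.1 hwc)
    have hzi := CfsgLib.Involutions.Isolated.involution_inv hz.1
    have hsq : ((w * z : G) : G ⧸ N) ^ 2 = 1 := by
      have h2 : ((w : G) : G ⧸ N) * (z : G ⧸ N) = ((w * z : G) : G ⧸ N)⁻¹ := by
        rw [← hx.eq, ← QuotientGroup.mk_inv, ← QuotientGroup.mk_mul, mul_inv_rev, hwi, hzi]
      rw [← QuotientGroup.mk_mul] at h2
      rw [pow_two]
      nth_rw 2 [h2]
      exact mul_inv_cancel _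
    have hodd : Odd (orderOf ((w * z : G) : G ⧸ N)) :=
      Odd.of_dvd_nat ho (orderOf_map_dvd (QuotientGroup.mk' N) (w * z))
    have h1 : ((w * z : G) : G ⧸ N) = 1 :=
      CfsgLib.Involutions.Isolated.sq_inj_of_odd hodd (by simp) (by rw [hsq, one_pow])
    rw [QuotientGroup.mk_mul, mul_eq_one_iff_eq_inv, ← QuotientGroup.mk_inv, hzi] at h1
    exact h1

end Cfsg.Agent.S1181
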