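import Mathlib
import Cfsg.Statements.S1183
import Cfsg.Agent.Lib.Involutions.BrauerSuzuki
import Cfsg.Agent.Lib.Involutions.Isolated
import Cfsg.Agent.Lib.Transfer.Basic
import Cfsg.Agent.Lib.TwoGroups.FusionTools

set_option autoImplicit false
open Cfsg

namespace Cfsg.Agent.S1183

/-- Let z be an isolated involution of the finite group G and C = C_G(z). Then the subgroup of G generated by its elements of odd order is all of G if and only if the subgroup of C generated by its elements of odd order is all of C. -/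
theorem result {G : Type*} [Group G] [Finite G] (z : G) (hz : Cfsg.IsIsolatedInvolution z) : Cfsg.pResidual 2 G = ⊤ ↔ Cfsg.pResidual 2 ↥(Subgroup.centralizer ({z} : Set G)) = ⊤ := by
  have hf : Fact (Nat.Prime 2) := ⟨Nat.prime_two⟩
  set K := Cfsg.pPrimeCore 2 G with hKdef
  set C := Subgroup.centralizer ({z} : Set G) with hCdef
  have hKn : K.Normal := inferInstance
  have hKodd : ∀ k ∈ K, Nat.Coprime (orderOf k) 2 := fun k hk =>
    Nat.Coprime.coprime_dvd_left (Subgroup.orderOf_dvd_natCard K hk)
      CfsgLib.PCore.pPrimeCore_coprime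
  have hdec : ∀ g : G, ∃ c ∈ C, g⁻¹ * c ∈ K := by
    intro g
    obtain ⟨c, hc, hgc⟩ := CfsgLib.Involutions.Isolated.quotient_centralizer hz K (g := g) (by
      have := CfsgLib.Involutions.zstar G z hz g
      rwa [CfsgLib.Involutions.Isolated.involution_inv hz.1] at this)
    exact ⟨c, Subgroup.mem_centralizer_singleton_iff.mpr hc.eq, hgc⟩
  have hcop : ∀ {c : C}, Nat.Coprime (orderOf (c : G)) 2 → c ∈ Cfsg.pResidual 2 C := fun h =>
    Subgroup.subset_closure (show Nat.Coprime (orderOf _) 2 by rwa [← Subgroup.orderOf_coe])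
  constructor
  · intro hG
    rw [Subgroup.eq_top_iff']
    set R := Cfsg.pResidual 2 C with hR
    set M := R.map C.subtype ⊔ K with hM
    have hMtop : M = ⊤ := by
      rw [eq_top_iff, ← hG]
      refine CfsgLib.Transfer.pResidual_le_iff.mpr fun g hg => ?_
      obtain ⟨c, hc, hgc⟩ := hdec g
      have hcR : (⟨c, hc⟩ : C) ∈ R := by
        refine CfsgLib.TwoGroups.FT.mem_of_parts (fun d _ ho => ?_) (fun d hd ⟨j, hj⟩ => ?_)
        · exact hcop (by rw [Subgroup.orderOf_coe]; exact Nat.coprime_two_right.mpr ho)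
        · obtain ⟨i, rfl⟩ := hd
          have hq : QuotientGroup.mk' K (c ^ i) = QuotientGroup.mk' K (g ^ i) := by
            have e : QuotientGroup.mk' K c = QuotientGroup.mk' K g :=
              ((QuotientGroup.mk'_eq_mk' K).mpr ⟨_, hgc, mul_inv_cancel_left g c⟩).symm
            rw [map_zpow, map_zpow, e]
          have h1 : (c ^ i) ^ 2 ^ j = 1 := by
            simpa using congrArg Subtype.val hj
          have h2 : c ^ i ∈ K := by
            rw [← QuotientGroup.eq_one_iff, ← QuotientGroup.mk'_apply, ← orderOf_eq_one_iff]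
            refine Nat.eq_one_of_dvd_coprimes (a := 2 ^ j) (b := orderOf g) ?_ ?_ ?_
            · exact Nat.Coprime.pow_left j hg.symm
            · refine orderOf_dvd_of_pow_eq_one ?_
              rw [← map_pow, h1, map_one]
            · rw [hq]
              exact (orderOf_map_dvd _ _).trans
                (orderOf_dvd_of_mem_zpowers (Subgroup.zpow_mem_zpowers g i))
          exact hcop (hKodd _ h2)
      have hm : c * (g⁻¹ * c)⁻¹ ∈ M := M.mul_mem (Subgroup.mem_sup_left ⟨_, hcR, rfl⟩)
        (Subgroup.mem_sup_right (K.inv_mem hgc))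
      simpa using hm
    intro c
    obtain ⟨r, hr, k, hk, e⟩ := Subgroup.mem_sup_of_normal_right.mp
      (show (c : G) ∈ M by rw [hMtop]; exact Subgroup.mem_top _)
    obtain ⟨r', hr', rfl⟩ := hr
    have hk' : r'⁻¹ * c ∈ R := by
      refine hcop (hKodd _ ?_)
      rw [Subgroup.coe_mul, Subgroup.coe_inv, ← e]
      simpa using hk
    simpa using R.mul_mem hr' hk'
  · intro hC
    rw [Subgroup.eq_top_iff']
    intro g
    obtain ⟨c, hc, hgc⟩ := hdec g
    have hle : (⊤ : Subgroup C).map C.subtype ≤ Cfsg.pResidual 2 G := by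
      rw [← hC]
      exact CfsgLib.Transfer.map_pResidual_le C.subtype
    have h1 : g⁻¹ * c ∈ Cfsg.pResidual 2 G := Subgroup.subset_closure (hKodd _ hgc)
    have h2 : c ∈ Cfsg.pResidual 2 G := hle ⟨⟨c, hc⟩, trivial, rfl⟩
    simpa using mul_mem h2 (inv_mem h1)

end Cfsg.Agent.S1183
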