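-- Proof of statement S1185.
import Cfsg.Statements.S1185
import Cfsg.Agent.Lib.Involutions.Isolated

set_option autoImplicit false
open Cfsg

namespace Cfsg.Agent.S1185

/-- Let z be an isolated involution of the finite group G with centralizer C. Then for every g ∈ G there is exactly one element k in the coset gC that has odd order and is inverted by z. -/
theorem result {G : Type*} [Group G] [Finite G] (z : G) (hz : Cfsg.IsIsolatedInvolution z) (g : G) : ∃! k : G, (Odd (orderOf k) ∧ z * k * z⁻¹ = k⁻¹) ∧ g⁻¹ * k ∈ Subgroup.centralizer ({z} : Set G) := by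
  have hmem : ∀ k : G, g⁻¹ * k ∈ Subgroup.centralizer ({z} : Set G) ↔ k * z * k⁻¹ = g * z * g⁻¹ := by
    intro k
    rw [Subgroup.mem_centralizer_singleton_iff, ← mul_inv_eq_iff_eq_mul]
    constructor
    · intro h
      calc k * z * k⁻¹ = g * (g⁻¹ * k * z * (g⁻¹ * k)⁻¹) * g⁻¹ := by group
        _ = g * z * g⁻¹ := by rw [h]
    · intro h
      calc g⁻¹ * k * z * (g⁻¹ * k)⁻¹ = g⁻¹ * (k * z * k⁻¹) * g := by group
        _ = z := by rw [h]; group
  obtain ⟨k, hk, hkz⟩ := CfsgLib.Involutions.Isolated.exists_rep hz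
    (isConj_iff.mpr ⟨g, rfl⟩ : IsConj z (g * z * g⁻¹))
  refine ⟨k, ⟨hk, (hmem k).mpr hkz⟩, fun k' hk' => ?_⟩
  exact CfsgLib.Involutions.Isolated.rep_unique hz.1 hk'.1.1 hk.1 hk'.1.2 hk.2
    (((hmem k').mp hk'.2).trans hkz.symm)

end Cfsg.Agent.S1185
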