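import Mathlib
import Cfsg.Statements.S1187
import Cfsg.Agent.Lib.Involutions.BrauerSuzuki
import Cfsg.Agent.Lib.Isolated.InvariantSylow

set_option autoImplicit false
open Cfsg

namespace Cfsg.Agent.S1187

/-- Let z be an isolated involution of the finite group G and p a prime. If Q is a p-subgroup normalized by z that is maximal among p-subgroups normalized by z, then Q is a Sylow p-subgroup of G. -/
theorem result {G : Type*} [Group G] [Finite G] (z : G) (hz : Cfsg.IsIsolatedInvolution z) {p : ℕ} [Fact p.Prime] (Q : Subgroup G) (hQ : IsPGroup p Q) (hzQ : z ∈ Subgroup.normalizer (Q : Set G)) (hmax : ∀ R : Subgroup G, IsPGroup p R → z ∈ Subgroup.normalizer (R : Set G) → Q ≤ R → R = Q) : ∃ P : Sylow p G, (P : Subgroup G) = Q := by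
  obtain ⟨P, hP⟩ := hQ.exists_le_sylow
  have hmem : z ∈ Subgroup.normalizer (Q : Set G) := hzQ
  by_cases hp2 : p = 2
  · subst hp2
    have hzp : IsPGroup 2 (Subgroup.zpowers z) :=
      IsPGroup.of_card (n := 1) (by rw [Nat.card_zpowers, hz.1, pow_one])
    have hR : IsPGroup 2 ↥(Q ⊔ Subgroup.zpowers z) :=
      hQ.to_sup_of_normal_left' hzp (Subgroup.zpowers_le.mpr hzQ)
    have hzQ' : z ∈ Q := by
      rw [← hmax _ hR (Subgroup.le_normalizer (Subgroup.mem_sup_right (Subgroup.mem_zpowers z)))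
        le_sup_left]
      exact Subgroup.mem_sup_right (Subgroup.mem_zpowers z)
    exact ⟨P, hmax _ P.isPGroup' (Subgroup.le_normalizer (hP hzQ')) hP⟩
  · set N := Subgroup.normalizer (Q : Set G) with hN
    have h2 : Fact (Nat.Prime 2) := ⟨Nat.prime_two⟩
    let zN : N := ⟨z, hzQ⟩
    have hiso : Cfsg.IsIsolatedInvolution zN := by
      refine ⟨by rw [← Subgroup.orderOf_coe]; exact hz.1, fun g hg => Subtype.ext ?_⟩
      exact hz.2 (g : G) (congrArg Subtype.val hg.eq)
    obtain ⟨R, hR⟩ := CfsgLib.Isolated.exists_invariant_sylow (p := 2) (q := p) hp2 zN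
      ⟨1, by rw [hiso.1, pow_one]⟩ hiso.2 (CfsgLib.Involutions.zstar N zN hiso)
    have hQN : Q ≤ N := Subgroup.le_normalizer
    have hQR : Q.subgroupOf N ≤ (R : Subgroup N) := by
      have hn : (Q.subgroupOf N).Normal := Subgroup.normal_in_normalizer
      obtain ⟨T, hT⟩ := (hQ.comap_subtype (K := N)).exists_le_sylow
      obtain ⟨g, hg⟩ := MulAction.exists_smul_eq N T R
      intro v hv
      rw [← hg]
      exact ⟨g⁻¹ * v * g⁻¹⁻¹, hT (hn.conj_mem _ hv g⁻¹), by simp [mul_assoc]⟩
    have hzR : z ∈ Subgroup.normalizer ((R : Subgroup N).map N.subtype : Set G) :=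
      Subgroup.le_normalizer_map N.subtype ⟨zN, hR, rfl⟩
    have hRQ : (R : Subgroup N).map N.subtype = Q := by
      refine hmax _ (R.isPGroup'.map _) hzR fun q hq => ?_
      exact ⟨⟨q, hQN hq⟩, hQR hq, rfl⟩
    refine ⟨P, le_antisymm ?_ hP⟩
    by_contra hne
    have hlt : Q.subgroupOf (P : Subgroup G) < ⊤ := by
      rw [lt_top_iff_ne_top, Ne, Subgroup.subgroupOf_eq_top]
      exact hne
    have : Group.IsNilpotent (P : Subgroup G) := P.isPGroup'.isNilpotent
    obtain ⟨r, hr, hrQ⟩ :=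
      SetLike.exists_of_lt (Group.normalizerCondition_of_isNilpotent _ hlt)
    have hrN : (r : G) ∈ N := by
      rw [hN, Subgroup.mem_normalizer_iff]
      intro v
      constructor
      · intro hv
        exact (Subgroup.mem_normalizer_iff.mp hr ⟨v, hP hv⟩).mp hv
      · intro hv
        have := (Subgroup.mem_normalizer_iff.mp (inv_mem hr) ⟨_, hP hv⟩).mp hv
        simpa [Subgroup.mem_subgroupOf, mul_assoc] using this
    have hPN : IsPGroup p (((P : Subgroup G) ⊓ N).subgroupOf N) :=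
      (P.isPGroup'.to_le inf_le_left).comap_subtype
    have hRle : (R : Subgroup N) ≤ ((P : Subgroup G) ⊓ N).subgroupOf N := by
      intro v hv
      have : (v : G) ∈ Q := hRQ ▸ ⟨v, hv, rfl⟩
      exact ⟨hP this, v.2⟩
    have hmemR : (⟨(r : G), hrN⟩ : N) ∈ (R : Subgroup N) := by
      rw [← R.3 hPN hRle]
      exact ⟨r.2, hrN⟩
    exact hrQ (show (r : G) ∈ Q from hRQ ▸ ⟨_, hmemR, rfl⟩)

end Cfsg.Agent.S1187
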