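-- Proof of statement S1189.
import Cfsg.Statements.S1189
import Mathlib
import Cfsg.Agent.Lib.TwoGroups.SemidihedralQ8

set_option autoImplicit false
open Cfsg

namespace Cfsg.Agent.S1189

/-- A quasi-dihedral 2-group has exactly two conjugacy classes of elements of order 2 and exactly two conjugacy classes of elements of order 4. -/
theorem result {S : Type*} [Group S] [Finite S] (hS : Cfsg.IsQuasiDihedral S) : Nat.card {C : ConjClasses S // ∃ t : S, orderOf t = 2 ∧ ConjClasses.mk t = C} = 2 ∧ Nat.card {C : ConjClasses S // ∃ t : S, orderOf t = 4 ∧ ConjClasses.mk t = C} = 2 := by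
  obtain ⟨r, x, y, h⟩ := CfsgLib.TwoGroups.SD.exists_sd hS
  open CfsgLib.TwoGroups.SD in
  have hy0 : x ^ (0 : ℤ) * y = y := by rw [zpow_zero, one_mul]
  constructor
  · have hset : {C : ConjClasses S | ∃ t : S, orderOf t = 2 ∧ ConjClasses.mk t = C} =
        {ConjClasses.mk (x ^ (4 * r : ℤ)), ConjClasses.mk (x ^ (0 : ℤ) * y)} := by
      ext C
      constructor
      · rintro ⟨t, ht, rfl⟩
        rcases CfsgLib.TwoGroups.SD.involution_cases h ht with rfl | ⟨a, ha, rfl⟩
        · exact Or.inl rfl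
        · exact Or.inr (ConjClasses.mk_eq_mk_iff_isConj.mpr
            (CfsgLib.TwoGroups.SD.isConj_xy h (by simpa using even_iff_two_dvd.mp ha)))
      · rintro (rfl | rfl)
        · exact ⟨_, (CfsgLib.TwoGroups.SD.orderOf_zpow_eq_two h).mpr rfl, rfl⟩
        · exact ⟨_, CfsgLib.TwoGroups.SD.orderOf_xy_even h ⟨0, rfl⟩, rfl⟩
    show Nat.card {C : ConjClasses S | ∃ t : S, orderOf t = 2 ∧ ConjClasses.mk t = C} = 2
    rw [hset, Nat.card_coe_set_eq]
    exact Set.ncard_pair fun e => CfsgLib.TwoGroups.SD.not_isConj_xy h _ _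
      (ConjClasses.mk_eq_mk_iff_isConj.mp e)
  · have hset : {C : ConjClasses S | ∃ t : S, orderOf t = 4 ∧ ConjClasses.mk t = C} =
        {ConjClasses.mk (x ^ (2 * r : ℤ)), ConjClasses.mk (x ^ (1 : ℤ) * y)} := by
      ext C
      constructor
      · rintro ⟨t, ht, rfl⟩
        obtain ⟨k, rfl | rfl⟩ := h.gen t
        · left
          rcases (CfsgLib.TwoGroups.SD.orderOf_zpow_eq_four h).mp ht with e | e <;> rw [e]
          refine ConjClasses.mk_eq_mk_iff_isConj.mpr (isConj_iff.mpr ⟨y, ?_⟩)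
          rw [CfsgLib.TwoGroups.SD.conj_y_pow h, CfsgLib.TwoGroups.SD.zpow_x_eq h]
          exact ⟨(r : ℤ), by ring⟩
        · right
          rcases Int.even_or_odd k with he | ho
          · rw [CfsgLib.TwoGroups.SD.orderOf_xy_even h he] at ht
            omega
          · exact ConjClasses.mk_eq_mk_iff_isConj.mpr (CfsgLib.TwoGroups.SD.isConj_xy h
              (by obtain ⟨c, rfl⟩ := ho; exact ⟨-c, by ring⟩))
      · rintro (rfl | rfl)
        · exact ⟨_, (CfsgLib.TwoGroups.SD.orderOf_zpow_eq_four h).mpr (Or.inl rfl), rfl⟩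
        · exact ⟨_, CfsgLib.TwoGroups.SD.orderOf_xy_odd h ⟨0, rfl⟩, rfl⟩
    show Nat.card {C : ConjClasses S | ∃ t : S, orderOf t = 4 ∧ ConjClasses.mk t = C} = 2
    rw [hset, Nat.card_coe_set_eq]
    exact Set.ncard_pair fun e => CfsgLib.TwoGroups.SD.not_isConj_xy h _ _
      (ConjClasses.mk_eq_mk_iff_isConj.mp e)

end Cfsg.Agent.S1189
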