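-- Proof of statement S1192.
import Cfsg.Statements.S1192
import Mathlib
import Cfsg.Agent.Lib.TwoGroups.SemidihedralQ8

set_option autoImplicit false
open Cfsg

namespace Cfsg.Agent.S1192

/-- A quasi-dihedral group S of order 2^(n+1) has exactly three maximal subgroups; one is cyclic, one is isomorphic to the generalized quaternion group of order 2^n and one to the dihedral group of order 2^n. -/
theorem result {S : Type*} [Group S] [Finite S] (hS : Cfsg.IsQuasiDihedral S) (n : ℕ) (hn : Nat.card S = 2 ^ (n + 1)) : ∃ M₁ M₂ M₃ : Subgroup S, IsCoatom M₁ ∧ IsCoatom M₂ ∧ IsCoatom M₃ ∧ M₁ ≠ M₂ ∧ M₁ ≠ M₃ ∧ M₂ ≠ M₃ ∧ (∀ M : Subgroup S, IsCoatom M → M = M₁ ∨ M = M₂ ∨ M = M₃) ∧ IsCyclic M₁ ∧ Nonempty (M₂ ≃* QuaternionGroup (2 ^ (n - 2))) ∧ Nonempty (M₃ ≃* DihedralGroup (2 ^ (n - 1))) := by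
  obtain ⟨r, x, y, h⟩ := CfsgLib.TwoGroups.SD.exists_sd hS
  obtain ⟨t, ht⟩ := h.pow_two'
  have hn' : n = t + 3 := by
    have h1 := h.card.symm.trans hn
    rw [ht] at h1
    have h2 : 2 ^ (t + 4) = 2 ^ (n + 1) := by rw [← h1, pow_add]; ring
    have := Nat.pow_right_injective (le_refl 2) h2
    omega
  have hQ : 2 ^ (n - 2) = 2 * r := by
    rw [hn', ht, show t + 3 - 2 = t + 1 by omega, pow_succ]; ring
  have hD : 2 ^ (n - 1) = 4 * r := by
    rw [hn', ht, show t + 3 - 1 = t + 2 by omega, pow_add]; ring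
  open CfsgLib.TwoGroups.SD in
  have hne₁ : dih x y ≠ Subgroup.zpowers x := fun e =>
    x_not_mem_dih h (e ▸ Subgroup.mem_zpowers x)
  open CfsgLib.TwoGroups.SD in
  have hne₂ : quat x y ≠ Subgroup.zpowers x := by
    intro e
    have hm : x ^ (1 : ℤ) * y ∈ Subgroup.zpowers x := e ▸ Subgroup.subset_closure (by simp)
    obtain ⟨i, hi⟩ := hm
    exact not_mem_y h 1 i hi.symm
  open CfsgLib.TwoGroups.SD in
  have hne₃ : quat x y ≠ dih x y := by
    intro e
    have hm : x ^ (1 : ℤ) * y ∈ dih x y := e ▸ Subgroup.subset_closure (by simp)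
    apply x_not_mem_dih h
    have h2 : (x ^ (1 : ℤ) * y) * y ∈ dih x y :=
      Subgroup.mul_mem _ hm (Subgroup.subset_closure (by simp))
    rwa [mul_assoc, yy h, mul_one, zpow_one] at h2
  open CfsgLib.TwoGroups.SD in
  refine ⟨Subgroup.zpowers x, quat x y, dih x y, isCoatom_of_index_two (index_zpowers h),
    isCoatom_of_index_two (index_quat h), isCoatom_of_index_two (index_dih h), hne₂.symm,
    hne₁.symm, hne₃, ?_, inferInstance, ?_, ?_⟩
  · intro M hM
    have : Fact (Nat.Prime 2) := ⟨Nat.prime_two⟩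
    open CfsgLib.TwoGroups.SD in
    exact coatom_cases h (index_of_isCoatom (CfsgLib.TwoGroups.SD.isPGroup h) hM)
  · rw [hQ]; exact CfsgLib.TwoGroups.SD.nonempty_quat_equiv h
  · rw [hD]; exact CfsgLib.TwoGroups.SD.nonempty_dih_equiv h

end Cfsg.Agent.S1192
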