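-- Proof of statement S1193.
import Cfsg.Statements.S1193
import Mathlib
import Cfsg.Agent.Lib.TwoGroups.SemidihedralQ8

set_option autoImplicit false
open Cfsg

namespace Cfsg.Agent.S1193

/-- Let S be quasi-dihedral of order 2^(n+1). Then S' = Φ(S) is cyclic of order 2^(n-1), the centre of S has order 2, and the subgroup generated by the involutions of S is dihedral of order 2^n. -/
theorem result {S : Type*} [Group S] [Finite S] (hS : Cfsg.IsQuasiDihedral S) (n : ℕ) (hn : Nat.card S = 2 ^ (n + 1)) : commutator S = frattini S ∧ IsCyclic (commutator S) ∧ Nat.card (commutator S) = 2 ^ (n - 1) ∧ Nat.card (Subgroup.center S) = 2 ∧ Nonempty (↥(Subgroup.closure {x : S | orderOf x = 2}) ≃* DihedralGroup (2 ^ (n - 1))) := by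
  obtain ⟨r, x, y, h⟩ := CfsgLib.TwoGroups.SD.exists_sd hS
  obtain ⟨t, ht⟩ := h.pow_two'
  have hn' : n = t + 3 := by
    have h1 := h.card.symm.trans hn
    rw [ht] at h1
    have h2 : 2 ^ (t + 4) = 2 ^ (n + 1) := by rw [← h1, pow_add]; ring
    have := Nat.pow_right_injective (le_refl 2) h2
    omega
  have hQ : 2 ^ (n - 2) = 2 * r := by
    rw [hn', ht, show t + 3 - 2 = t + 1 by omega, pow_succ]; ring
  have hD : 2 ^ (n - 1) = 4 * r := by
    rw [hn', ht, show t + 3 - 1 = t + 2 by omega, pow_add]; ring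
  open CfsgLib.TwoGroups.SD in
  refine ⟨(commutator_eq h).trans (frattini_eq h).symm, ?_, ?_, card_center h, ?_⟩
  · rw [CfsgLib.TwoGroups.SD.commutator_eq h]; infer_instance
  · rw [CfsgLib.TwoGroups.SD.commutator_eq h, Nat.card_zpowers,
      CfsgLib.TwoGroups.SD.orderOf_sq h, hD]
  · rw [hD, CfsgLib.TwoGroups.SD.closure_involutions h]
    exact CfsgLib.TwoGroups.SD.nonempty_dih_equiv h

end Cfsg.Agent.S1193
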