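-- Proof of statement S1195.
import Cfsg.Statements.S1195
import Mathlib
import Cfsg.Agent.Lib.TwoGroups.WreathedSubgroups

set_option autoImplicit false
open Cfsg

namespace Cfsg.Agent.S1195

/-- A wreathed 2-group has exactly three conjugacy classes of elements of order 2. -/
theorem result {S : Type*} [Group S] [Finite S] (hS : Cfsg.IsWreathed S) : Nat.card {C : ConjClasses S // ∃ t : S, orderOf t = 2 ∧ ConjClasses.mk t = C} = 3 := by
  obtain ⟨m, x, y, z, h⟩ := CfsgLib.TwoGroups.WR.exists_wr hS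
  open CfsgLib.TwoGroups.WR in
  obtain ⟨hh, hd⟩ := half_facts h
  set e : ℤ := 2 ^ (m - 1)
  have hset : {C : ConjClasses S | ∃ t : S, orderOf t = 2 ∧ ConjClasses.mk t = C} =
      {ConjClasses.mk (CfsgLib.TwoGroups.WR.el x y e e),
        ConjClasses.mk (CfsgLib.TwoGroups.WR.el x y e 0),
        ConjClasses.mk (CfsgLib.TwoGroups.WR.el x y 0 0 * z)} := by
    ext C
    constructor
    · rintro ⟨t, ht, rfl⟩
      have ht2 : t ^ 2 = 1 := by rw [← ht, pow_orderOf_eq_one]
      have ht1 : t ≠ 1 := fun e' => by rw [e', orderOf_one] at ht; omega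
      rcases CfsgLib.TwoGroups.WR.involution_cases h ht2 ht1 with rfl | rfl | rfl | ⟨a, rfl⟩
      · exact Or.inr (Or.inl rfl)
      · refine Or.inr (Or.inl (ConjClasses.mk_eq_mk_iff_isConj.mpr (isConj_iff.mpr
          ⟨CfsgLib.TwoGroups.WR.el x y 0 0 * z, ?_⟩)))
        rw [CfsgLib.TwoGroups.WR.conj_elz_el h]
      · exact Or.inl rfl
      · exact Or.inr (Or.inr (ConjClasses.mk_eq_mk_iff_isConj.mpr
          (CfsgLib.TwoGroups.WR.isConj_elz h (by simp))))
    · rintro (rfl | rfl | rfl)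
      · exact ⟨_, CfsgLib.TwoGroups.WR.orderOf_involution h _ _ hd hd fun q => hh q.1, rfl⟩
      · exact ⟨_, CfsgLib.TwoGroups.WR.orderOf_involution h _ _ hd (by simp) fun q => hh q.1, rfl⟩
      · exact ⟨_, CfsgLib.TwoGroups.WR.orderOf_elz_involution h 0, by simp⟩
  show Nat.card {C : ConjClasses S | ∃ t : S, orderOf t = 2 ∧ ConjClasses.mk t = C} = 3
  rw [hset, Nat.card_coe_set_eq]
  refine Set.ncard_eq_three.mpr ⟨_, _, _, ?_, ?_, ?_, rfl⟩ <;> intro he <;>
    obtain ⟨g, hg⟩ := isConj_iff.mp (ConjClasses.mk_eq_mk_iff_isConj.mp he)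
  · rcases CfsgLib.TwoGroups.WR.conj_el_cases h g e e with e1 | e1 <;> rw [e1, h.eq_iff] at hg <;>
      exact hh (by simpa using hg.2)
  · rcases CfsgLib.TwoGroups.WR.conj_el_cases h g e e with e1 | e1 <;> rw [e1] at hg <;>
      exact CfsgLib.TwoGroups.WR.el_z_ne h _ _ _ _ hg.symm
  · rcases CfsgLib.TwoGroups.WR.conj_el_cases h g e 0 with e1 | e1 <;> rw [e1] at hg <;>
      exact CfsgLib.TwoGroups.WR.el_z_ne h _ _ _ _ hg.symm

end Cfsg.Agent.S1195
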