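-- Proof of statement S1196.
import Cfsg.Statements.S1196
import Mathlib
import Cfsg.Agent.Lib.TwoGroups.WreathedSubgroups

set_option autoImplicit false
open Cfsg

namespace Cfsg.Agent.S1196

/-- A wreathed 2-group S of order 2^(2n+1) has a unique commutative subgroup of order 2^(2n), and this subgroup is isomorphic to the direct product of two cyclic groups of order 2^n. -/
theorem result {S : Type*} [Group S] [Finite S] (hS : Cfsg.IsWreathed S) (n : ℕ) (hn : Nat.card S = 2 ^ (2 * n + 1)) : (∃! U : Subgroup S, IsMulCommutative U ∧ Nat.card U = 2 ^ (2 * n)) ∧ ∀ U : Subgroup S, IsMulCommutative U → Nat.card U = 2 ^ (2 * n) → Nonempty (U ≃* Multiplicative (ZMod (2 ^ n) × ZMod (2 ^ n))) := by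
  obtain ⟨m, x, y, z, h⟩ := CfsgLib.TwoGroups.WR.exists_wr hS
  have hnm : n = m := by
    have h1 := h.card.symm.trans hn
    have := Nat.pow_right_injective (le_refl 2) h1
    omega
  subst hnm
  open CfsgLib.TwoGroups.WR in
  refine ⟨⟨base h, ⟨base_comm h, card_base h⟩, fun U hU => eq_base_of_commutative h hU.1 hU.2⟩,
    fun U hU hc => ?_⟩
  obtain ⟨e⟩ := CfsgLib.TwoGroups.WR.nonempty_base_equiv h
  exact ⟨(MulEquiv.subgroupCongr (CfsgLib.TwoGroups.WR.eq_base_of_commutative h hU hc)).trans e⟩

end Cfsg.Agent.S1196
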