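-- Proof of statement S1197.
import Cfsg.Statements.S1197
import Mathlib
import Cfsg.Agent.Lib.TwoGroups.WreathedSubgroups

set_option autoImplicit false
open Cfsg

namespace Cfsg.Agent.S1197

/-- Let S be a wreathed 2-group of order 2^(2n+1). Then Z(S) is cyclic of order 2^n, the derived subgroup S' is cyclic of order 2^n, and S/Z(S) is isomorphic to the dihedral group of order 2^(n+1). -/
theorem result {S : Type*} [Group S] [Finite S] (hS : Cfsg.IsWreathed S) (n : ℕ) (hn : Nat.card S = 2 ^ (2 * n + 1)) : IsCyclic (Subgroup.center S) ∧ Nat.card (Subgroup.center S) = 2 ^ n ∧ IsCyclic (commutator S) ∧ Nat.card (commutator S) = 2 ^ n ∧ Nonempty (S ⧸ Subgroup.center S ≃* DihedralGroup (2 ^ n)) := by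
  obtain ⟨m, x, y, z, h⟩ := CfsgLib.TwoGroups.WR.exists_wr hS
  have hnm : n = m := by
    have h1 := h.card.symm.trans hn
    have := Nat.pow_right_injective (le_refl 2) h1
    omega
  subst hnm
  refine ⟨?_, CfsgLib.TwoGroups.WR.card_center h, ?_, ?_,
    CfsgLib.TwoGroups.WR.nonempty_quotient_center_equiv h⟩
  · rw [CfsgLib.TwoGroups.WR.center_eq h]; infer_instance
  · rw [CfsgLib.TwoGroups.WR.commutator_eq h]; infer_instance
  · rw [CfsgLib.TwoGroups.WR.commutator_eq h, Nat.card_zpowers,
      CfsgLib.TwoGroups.WR.orderOf_el_one h]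

end Cfsg.Agent.S1197
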