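-- Proof of statement S1198.
import Cfsg.Statements.S1198
import Mathlib
import Cfsg.Agent.Lib.TwoGroups.WreathedSubgroups

set_option autoImplicit false
open Cfsg

namespace Cfsg.Agent.S1198

/-- A wreathed 2-group S has a normal Klein four-subgroup T such that every Klein four-subgroup of S other than T is conjugate in S to any other such subgroup; in particular S has exactly two conjugacy classes of Klein four-subgroups. -/
theorem result {S : Type*} [Group S] [Finite S] (hS : Cfsg.IsWreathed S) : ∃ T : Subgroup S, IsKleinFour T ∧ T.Normal ∧ (∃ T₀ : Subgroup S, IsKleinFour T₀ ∧ T₀ ≠ T) ∧ ∀ T₁ T₂ : Subgroup S, IsKleinFour T₁ → IsKleinFour T₂ → T₁ ≠ T → T₂ ≠ T → ∃ s : S, T₁.map (MulAut.conj s).toMonoidHom = T₂ := by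
  obtain ⟨m, x, y, z, h⟩ := CfsgLib.TwoGroups.WR.exists_wr hS
  open CfsgLib.TwoGroups.WR in
  refine ⟨baseFour h, isKleinFour_baseFour h, baseFour_normal h,
    ⟨_, isKleinFour_fourOf h 0, ?_⟩, ?_⟩
  · intro e
    have hm : CfsgLib.TwoGroups.WR.el x y 0 (-0) * z ∈ CfsgLib.TwoGroups.WR.baseFour h := by
      rw [← e]
      exact ⟨Commute.refl _, by rw [CfsgLib.TwoGroups.WR.el_z_sq h, add_neg_cancel,
        CfsgLib.TwoGroups.WR.el_zero]⟩
    exact CfsgLib.TwoGroups.WR.elz_not_mem_base h _ _ hm.1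
  · intro T₁ T₂ h₁ h₂ hne₁ hne₂
    obtain ⟨a, rfl⟩ := (CfsgLib.TwoGroups.WR.klein_cases h h₁).resolve_left hne₁
    obtain ⟨b, rfl⟩ := (CfsgLib.TwoGroups.WR.klein_cases h h₂).resolve_left hne₂
    exact CfsgLib.TwoGroups.WR.fourOf_conj h a b

end Cfsg.Agent.S1198
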