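-- Proof of statement S1199.
import Cfsg.Statements.S1199
import Mathlib
import Cfsg.Agent.Lib.TwoGroups.WreathedSubgroups

set_option autoImplicit false
open Cfsg

namespace Cfsg.Agent.S1199

/-- A wreathed 2-group S of order 2^(2n+1) has exactly one subgroup of order 2^(n+1) isomorphic to a generalized quaternion group, and that subgroup is normal in S. -/
theorem result {S : Type*} [Group S] [Finite S] (hS : Cfsg.IsWreathed S) (n : ℕ) (hn : Nat.card S = 2 ^ (2 * n + 1)) : (∃! Y : Subgroup S, Nat.card Y = 2 ^ (n + 1) ∧ Nonempty (Y ≃* QuaternionGroup (2 ^ (n - 1)))) ∧ ∀ Y : Subgroup S, Nat.card Y = 2 ^ (n + 1) → Nonempty (Y ≃* QuaternionGroup (2 ^ (n - 1))) → Y.Normal := by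
  obtain ⟨m, x, y, z, h⟩ := CfsgLib.TwoGroups.WR.exists_wr hS
  have hnm : n = m := by
    have h1 := h.card.symm.trans hn
    have := Nat.pow_right_injective (le_refl 2) h1
    omega
  subst hnm
  open CfsgLib.TwoGroups.WR in
  refine ⟨⟨bigQuat n x y z, ⟨card_bigQuat h, nonempty_bigQuat_equiv h⟩,
    fun Y hY => hY.2.elim fun e => eq_bigQuat h e⟩, fun Y _ he => ?_⟩
  obtain ⟨e⟩ := he
  refine ⟨fun u hu g => ?_⟩
  have hY := CfsgLib.TwoGroups.WR.eq_bigQuat h e
  have hY' := CfsgLib.TwoGroups.WR.eq_bigQuat h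
    ((Y.equivMapOfInjective (MulAut.conj g).toMonoidHom (MulAut.conj g).injective).symm.trans e)
  have hm : g * u * g⁻¹ ∈ Y.map (MulAut.conj g).toMonoidHom := ⟨u, hu, rfl⟩
  rwa [hY', ← hY] at hm

end Cfsg.Agent.S1199
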