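-- Proof of statement S1202.
import Cfsg.Statements.S1202
import Mathlib
import Cfsg.Agent.Lib.TwoGroups.WreathedAut

set_option autoImplicit false
open Cfsg

namespace Cfsg.Agent.S1202

/-- Let S be a wreathed 2-group of order 2^(2n+1) and X a subgroup with C_S(X) ≤ X such that Aut(X) is not a 2-group. Then |N_S(X) : X| = 2, and either X is the commutative subgroup of order 2^(2n), or X = Q·Z(S) for some subgroup Q ≅ Q₈; in the latter case any two such subgroups are conjugate in S. -/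
theorem result {S : Type*} [Group S] [Finite S] (hS : Cfsg.IsWreathed S) (n : ℕ) (hn : Nat.card S = 2 ^ (2 * n + 1)) (X : Subgroup S) (hC : Subgroup.centralizer (X : Set S) ≤ X) (hA : ¬ IsPGroup 2 (MulAut X)) : X.relIndex (Subgroup.normalizer (X : Set S)) = 2 ∧ ((IsMulCommutative X ∧ Nat.card X = 2 ^ (2 * n)) ∨ ∃ Q : Subgroup S, Nonempty (Q ≃* QuaternionGroup 2) ∧ X = Q ⊔ Subgroup.center S) ∧ ∀ X' : Subgroup S, Subgroup.centralizer (X' : Set S) ≤ X' → ¬ IsPGroup 2 (MulAut X') → ¬ IsMulCommutative X → ¬ IsMulCommutative X' → ∃ s : S, X.map (MulAut.conj s).toMonoidHom = X' := by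
  obtain ⟨m, x, y, z, h⟩ := CfsgLib.TwoGroups.WR.exists_wr hS
  have hnm : n = m := by
    have h1 := h.card.symm.trans hn
    have := Nat.pow_right_injective (le_refl 2) h1
    omega
  subst hnm
  open CfsgLib.TwoGroups.WR in
  obtain ⟨h1, h2, h3⟩ := selfcentralizing_main h X hC hA
  refine ⟨h1, h2, fun X' hC' hA' hX hX' => ?_⟩
  obtain ⟨s, hs⟩ := h3 hX
  obtain ⟨-, -, h3'⟩ := CfsgLib.TwoGroups.WR.selfcentralizing_main h X' hC' hA'
  obtain ⟨t, ht⟩ := h3' hX'
  refine ⟨t⁻¹ * s, ?_⟩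
  have hcomp : (MulAut.conj (t⁻¹ * s)).toMonoidHom =
      (MulAut.conj t⁻¹).toMonoidHom.comp (MulAut.conj s).toMonoidHom := by
    ext w; simp [mul_assoc]
  have hid : (MulAut.conj t⁻¹).toMonoidHom.comp (MulAut.conj t).toMonoidHom = MonoidHom.id S := by
    ext w; simp [mul_assoc]
  rw [hcomp, ← Subgroup.map_map, hs, ← ht, Subgroup.map_map, hid, Subgroup.map_id]

end Cfsg.Agent.S1202
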