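-- Proof of statement S1206.
import Cfsg.Statements.S1206
import Mathlib
import Cfsg.Agent.Lib.TwoGroups.SemidihedralCases

set_option autoImplicit false
open Cfsg

namespace Cfsg.Agent.S1206

/-- Let G be a finite group with quasi-dihedral Sylow 2-subgroup S, T a Klein four-subgroup and Q a quaternion subgroup of order 8 of S, with |N_G(T) : C_G(T)| = 6 and |N_G(Q) : Q C_G(Q)| = 2. Then G has a normal subgroup K of index 2 whose Sylow 2-subgroups are dihedral and which has no subgroup of index 2, and G has exactly one class of involutions and two classes of elements of order 4. -/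
theorem result {G : Type*} [Group G] [Finite G] (S : Sylow 2 G) (hS : Cfsg.IsQuasiDihedral (S : Subgroup G)) (T : Subgroup G) (hT : IsKleinFour T) (hTS : T ≤ S) (Q : Subgroup G) (hQS : Q ≤ S) (eQ : Q ≃* QuaternionGroup 2) (h₁ : (Subgroup.centralizer (T : Set G)).relIndex (Subgroup.normalizer (T : Set G)) = 6) (h₂ : (Q ⊔ Subgroup.centralizer (Q : Set G)).relIndex (Subgroup.normalizer (Q : Set G)) = 2) : (∃ K : Subgroup G, K.Normal ∧ K.index = 2 ∧ (∀ P : Sylow 2 ↥K, ∃ m : ℕ, Nonempty ((P : Subgroup ↥K) ≃* DihedralGroup m)) ∧ (∀ H : Subgroup ↥K, H.index ≠ 2)) ∧ Nat.card {C : ConjClasses G // ∃ t : G, orderOf t = 2 ∧ ConjClasses.mk t = C} = 1 ∧ Nat.card {C : ConjClasses G // ∃ t : G, orderOf t = 4 ∧ ConjClasses.mk t = C} = 2 := by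
  open CfsgLib.TwoGroups.SDF in
  obtain ⟨r, x, y, h, hTd, hQd⟩ := local_dichotomy hS hT hTS hQS eQ
  obtain ⟨-, hJ⟩ := hTd.resolve_left (fun hh => by rw [h₁] at hh; omega)
  obtain ⟨-, hI⟩ := hQd.resolve_right (fun hh => by rw [h₂] at hh; omega)
  obtain ⟨K, hK, hi, hmem, hodd, hP⟩ := CfsgLib.TwoGroups.SDF.exists_dih_normal h hI
  refine ⟨⟨K, hK, hi, fun P => ?_, CfsgLib.TwoGroups.SDF.dih_no_index_two h hJ hmem hodd hP⟩,
    CfsgLib.TwoGroups.SDF.card_classes_one (P := fun t : G => orderOf t = 2)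
    (CfsgLib.TwoGroups.SDF.orderOf_J h) hJ (fun t ht => CfsgLib.TwoGroups.SDF.cases_two h ht),
    CfsgLib.TwoGroups.SDF.card_classes_two (P := fun t : G => orderOf t = 4)
    (CfsgLib.TwoGroups.SDF.orderOf_I h) (CfsgLib.TwoGroups.SDF.orderOf_W h) hI
    (fun t ht => CfsgLib.TwoGroups.SDF.cases_four h ht)⟩
  obtain ⟨e⟩ := hP P
  obtain ⟨e'⟩ := CfsgLib.TwoGroups.SD.nonempty_dih_equiv h
  exact ⟨4 * r, ⟨e.trans e'⟩⟩

end Cfsg.Agent.S1206
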