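-- Proof of statement S1207.
import Cfsg.Statements.S1207
import Mathlib
import Cfsg.Agent.Lib.TwoGroups.SemidihedralCases

set_option autoImplicit false
open Cfsg

namespace Cfsg.Agent.S1207

/-- Let G be a finite group with quasi-dihedral Sylow 2-subgroup S, T a Klein four-subgroup and Q a quaternion subgroup of order 8 of S, with |N_G(T) : C_G(T)| = 2 and |N_G(Q) : Q C_G(Q)| = 2. Then G has a normal 2-complement, exactly two classes of involutions and exactly two classes of elements of order 4. -/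
theorem result {G : Type*} [Group G] [Finite G] (S : Sylow 2 G) (hS : Cfsg.IsQuasiDihedral (S : Subgroup G)) (T : Subgroup G) (hT : IsKleinFour T) (hTS : T ≤ S) (Q : Subgroup G) (hQS : Q ≤ S) (eQ : Q ≃* QuaternionGroup 2) (h₁ : (Subgroup.centralizer (T : Set G)).relIndex (Subgroup.normalizer (T : Set G)) = 2) (h₂ : (Q ⊔ Subgroup.centralizer (Q : Set G)).relIndex (Subgroup.normalizer (Q : Set G)) = 2) : Cfsg.HasNormalPComplement 2 G ∧ Nat.card {C : ConjClasses G // ∃ t : G, orderOf t = 2 ∧ ConjClasses.mk t = C} = 2 ∧ Nat.card {C : ConjClasses G // ∃ t : G, orderOf t = 4 ∧ ConjClasses.mk t = C} = 2 := by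
  open CfsgLib.TwoGroups.SDF in
  obtain ⟨r, x, y, h, hTd, hQd⟩ := local_dichotomy hS hT hTS hQS eQ
  obtain ⟨-, hJ⟩ := hTd.resolve_right (fun hh => by rw [h₁] at hh; omega)
  obtain ⟨-, hI⟩ := hQd.resolve_right (fun hh => by rw [h₂] at hh; omega)
  exact ⟨CfsgLib.TwoGroups.SDF.normal_complement h hI hJ, CfsgLib.TwoGroups.SDF.card_classes_two (P := fun t : G => orderOf t = 2)
    (CfsgLib.TwoGroups.SDF.orderOf_J h) (CfsgLib.TwoGroups.SDF.orderOf_Y h) hJ
    (fun t ht => CfsgLib.TwoGroups.SDF.cases_two h ht),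
    CfsgLib.TwoGroups.SDF.card_classes_two (P := fun t : G => orderOf t = 4)
    (CfsgLib.TwoGroups.SDF.orderOf_I h) (CfsgLib.TwoGroups.SDF.orderOf_W h) hI
    (fun t ht => CfsgLib.TwoGroups.SDF.cases_four h ht)⟩

end Cfsg.Agent.S1207
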