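import Mathlib
import Cfsg.Statements.S1208
import Cfsg.Agent.Lib.TwoGroups.WreathedCases

set_option autoImplicit false
open Cfsg

namespace Cfsg.Agent.S1208

/-- Let G be a finite group whose Sylow 2-subgroup S is wreathed of order 2^(2n+1), U the commutative subgroup of index 2 in S, Q a quaternion subgroup of order 8 of S and V = Q Z(S). Then |N_G(U) : C_G(U)| ∈ {2, 6} and |N_G(V) : V C_G(V)| ∈ {2, 6}. -/
theorem result {G : Type*} [Group G] [Finite G] (S : Sylow 2 G) (hS : Cfsg.IsWreathed (S : Subgroup G)) (n : ℕ) (hn : Nat.card S = 2 ^ (2 * n + 1)) (U : Subgroup G) (hUS : U ≤ S) (hUab : IsMulCommutative U) (hUcard : Nat.card U = 2 ^ (2 * n)) (Q : Subgroup G) (hQS : Q ≤ S) (eQ : Q ≃* QuaternionGroup 2) : ((Subgroup.centralizer (U : Set G)).relIndex (Subgroup.normalizer (U : Set G)) = 2 ∨ (Subgroup.centralizer (U : Set G)).relIndex (Subgroup.normalizer (U : Set G)) = 6) ∧ (((Q ⊔ ((Subgroup.center (S : Subgroup G)).map (S : Subgroup G).subtype))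 ⊔ Subgroup.centralizer ((Q ⊔ ((Subgroup.center (S : Subgroup G)).map (S : Subgroup G).subtype) : Subgroup G) : Set G)).relIndex (Subgroup.normalizer ((Q ⊔ ((Subgroup.center (S : Subgroup G)).map (S : Subgroup G).subtype) : Subgroup G) : Set G)) = 2 ∨ ((Q ⊔ ((Subgroup.center (S : Subgroup G)).map (S : Subgroup G).subtype)) ⊔ Subgroup.centralizer ((Q ⊔ ((Subgroup.center (S : Subgroup G)).map (S : Subgroup G).subtype) : Subgroup G) : Set G)).relIndex (Subgroup.normalizer ((Q ⊔ ((Subgroup.center (S : Subgroup G)).map (S : Subgroup G).subtype) : Subgroup G) : Set G)) = 6) := by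
  obtain ⟨x, y, z, h, rfl, hV⟩ := CfsgLib.TwoGroups.WRC.exists_data hS hn hUS hUab hUcard hQS eQ
  rw [hV]
  refine ⟨?_, ?_⟩
  · rcases CfsgLib.TwoGroups.WRF.u_index h with ⟨e, -⟩ | ⟨e, -⟩
    · exact Or.inl e
    · exact Or.inr e
  · rcases CfsgLib.TwoGroups.WRF.v_index h with ⟨e, -⟩ | ⟨e, -⟩
    · exact Or.inl e
    · exact Or.inr e

end Cfsg.Agent.S1208
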