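import Cfsg.Statements.S1216
import Cfsg.Agent.S0483
import Cfsg.Agent.Lib.GWCons.QDNormalSL

set_option autoImplicit false
open Cfsg

namespace Cfsg.Agent.S1216

/-- Let H be a finite group with quasi-dihedral or wreathed Sylow 2-subgroup S and O(H) = 1, having a normal subgroup K of 2-power index with no subgroup of index 2 and generalized quaternion Sylow 2-subgroups, and with every subgroup of Z(S) weakly closed in S. Then H has a normal subgroup L₀ isomorphic to SL(2,F) for a finite field F of odd order, and L₀ is the only normal subgroup of H isomorphic to a group SL(2,F') with F' a finite field of odd order. -/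
theorem result {H : Type*} [Group H] [Finite H] (S : Sylow 2 H) (hS : Cfsg.IsQuasiDihedral (S : Subgroup H) ∨ Cfsg.IsWreathed (S : Subgroup H)) (hO : Cfsg.oddCore H = ⊥) (hQ : (∃ K : Subgroup H, K.Normal ∧ (∃ a : ℕ, K.index = 2 ^ a) ∧ (∀ M : Subgroup ↥K, M.index ≠ 2) ∧ (∀ P : Sylow 2 ↥K, ∃ m : ℕ, 1 ≤ m ∧ Nonempty ((P : Subgroup ↥K) ≃* QuaternionGroup (2 ^ m)))) ∧ (∀ Z₀ : Subgroup H, Z₀ ≤ ((Subgroup.center (S : Subgroup H)).map (S : Subgroup H).subtype) → Cfsg.IsWeaklyClosed Z₀ (S : Subgroup H))) : ∃ L₀ : Subgroup H, L₀.Normal ∧ (∃ (F : Type) (_ : Field F) (_ : Fintype F), Odd (Fintype.card F) ∧ Nonempty (L₀ ≃* Matrix.SpecialLinearGroup (Fin 2) F)) ∧ ∀ L₁ : Subgroup H, L₁.Normal → (∃ (F : Type) (_ : Field F) (_ : Fintype F), Odd (Fintype.card F) ∧ Nonempty (L₁ ≃* Matrix.SpecialLinearGroup (Fin 2) F)) → L₁ = L₀ := by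
  obtain ⟨⟨K, hKn, ⟨a, ha⟩, hK2, hKq⟩, -⟩ := hQ
  haveI := hKn
  exact CfsgLib.GWCons.QDNormalSL.main (fun X _ _ _ S n hn hS => Cfsg.Agent.S0483.result S n hn hS) S hS hO K ha hK2 hKq

end Cfsg.Agent.S1216
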