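import Cfsg.Statements.S1218
import Cfsg.Agent.Lib.TwoGroups.ClassicalSylow
import Cfsg.Agent.Lib.ClassicalGroups.HermGroup

set_option autoImplicit false
open scoped MatrixGroups
open Cfsg

namespace Cfsg.Agent.S1218

/-- Let F be a finite field with q² elements, q odd, let GU be the subgroup of GL(2,F) preserving the Hermitian form u₁v₁^q + u₂v₂^q, and P a Sylow 2-subgroup of GU. If q ≡ 1 (mod 4) then P is quasi-dihedral; if q ≡ 3 (mod 4) then P is wreathed. -/
theorem result {F : Type*} [Field F] [Fintype F] (q : ℕ) (hF : Fintype.card F = q ^ 2) (hq : Odd q) (P : Sylow 2 ↥(Cfsg.preserving (Units.coeHom (Matrix (Fin 2) (Fin 2) F)) (Cfsg.hermForm 2 F q))) : (q % 4 = 1 → Cfsg.IsQuasiDihedral (P : Subgroup ↥(Cfsg.preserving (Units.coeHom (Matrix (Fin 2) (Fin 2) F)) (Cfsg.hermForm 2 F q)))) ∧ (q % 4 = 3 → Cfsg.IsWreathed (P : Subgroup ↥(Cfsg.preserving (Units.coeHom (Matrix (Fin 2) (Fin 2) F)) (Cfsg.hermForm 2 F q)))) := by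
  classical
  have hq2 := CfsgLib.ClassicalGroups.herm_two_le hF
  have hcard : Nat.card ↥(Cfsg.preserving (Units.coeHom (Matrix (Fin 2) (Fin 2) F))
      (Cfsg.hermForm 2 F q)) = q * ((q + 1) * ((q - 1) * (q + 1))) := by
    refine (CfsgLib.ClassicalGroups.card_GU hF 2).trans ?_
    rw [Finset.prod_range_succ, Finset.prod_range_one]
    obtain ⟨k, hk⟩ : ∃ k, q = k + 1 := ⟨q - 1, by omega⟩
    simp only [show (2 * (2 - 1) / 2) = 1 from rfl, Even.zero, if_true, zero_add, pow_one,
      show ¬ Even 1 from Nat.not_even_one, if_false]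
    rw [hk, Nat.add_sub_cancel]
    have : (k + 1) ^ 2 - 1 = k * (k + 1 + 1) := by
      have : (k + 1) ^ 2 = k * (k + 1 + 1) + 1 := by ring
      omega
    rw [this]
  have hord : ∀ g : ↥(Cfsg.preserving (Units.coeHom (Matrix (Fin 2) (Fin 2) F))
      (Cfsg.hermForm 2 F q)), orderOf g = orderOf (g : GL (Fin 2) F) := fun g =>
    (Subgroup.orderOf_coe g).symm
  constructor
  · intro h1
    obtain ⟨s, r, r', hs, hr, hr', e1, e2⟩ :=
      CfsgLib.TwoGroups.ClassicalSylow.split_mod_four h1 (by omega)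
    obtain ⟨c, hc0, hc⟩ := CfsgLib.ClassicalGroups.exists_norm_eq hF (c := (-1 : F))
      hq.neg_one_pow (neg_ne_zero.2 one_ne_zero)
    have h2F : (2 : F) ≠ 0 := by
      refine Ring.two_ne_zero fun h => ?_
      rw [FiniteField.even_card_iff_char_two, hF] at h
      have := Nat.odd_iff.1 (hq.pow (n := 2))
      omega
    obtain ⟨ζ, hζ⟩ := CfsgLib.TwoGroups.ClassicalSylow.exists_orderOf_eq (G := Fˣ) (d := 2 ^ (s + 1))
      (by
        rw [CfsgLib.ClassicalGroups.card_units_herm hF, e1, e2, pow_succ]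
        exact ⟨r * r', by ring⟩)
    have hzF : ζ ^ ((q - 1) * (q + 1)) = 1 := by
      rw [← CfsgLib.ClassicalGroups.card_units_herm hF]; exact pow_card_eq_one'
    let M : GL (Fin 2) F := Matrix.GeneralLinearGroup.mkOfDetNeZero !![(1 : F), 1; c, -c] (by
      rw [Matrix.det_fin_two_of]
      intro h
      have : (2 : F) * c = 0 := by linear_combination -h
      exact hc0 ((mul_eq_zero.1 this).resolve_left h2F))
    have hMval : M.val = !![(1 : F), 1; c, -c] := rfl
    have hMv : ∀ w : Fin 2 → F, M.val.mulVec w = ![w 0 + w 1, c * w 0 - c * w 1] := by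
      intro w
      rw [hMval]
      ext i
      fin_cases i <;> simp [Matrix.mulVec, dotProduct, sub_eq_add_neg]
    have hM : ∀ u v : Fin 2 → F, Cfsg.hermForm 2 F q (M.val.mulVec u) (M.val.mulVec v) =
        2 * (u 0 * v 1 ^ q + u 1 * v 0 ^ q) := by
      intro u v
      simp only [Cfsg.hermForm, Fin.sum_univ_two, hMv, Matrix.cons_val_zero, Matrix.cons_val_one]
      have ha : (v 0 + v 1) ^ q = v 0 ^ q + v 1 ^ q :=
        map_add (CfsgLib.ClassicalGroups.hermConj hF) _ _
      have hb : (c * v 0 - c * v 1) ^ q = c ^ q * v 0 ^ q - c ^ q * v 1 ^ q := by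
        rw [← mul_pow, ← mul_pow]
        exact map_sub (CfsgLib.ClassicalGroups.hermConj hF) _ _
      have hc' : c ^ q * c = -1 := by rw [← pow_succ]; exact hc
      rw [ha, hb]
      linear_combination ((u 0 - u 1) * (v 0 ^ q - v 1 ^ q)) * hc'
    have hmem : ∀ d : GL (Fin 2) F,
        (∀ u v : Fin 2 → F, (d.val.mulVec u) 0 * (d.val.mulVec v) 1 ^ q +
          (d.val.mulVec u) 1 * (d.val.mulVec v) 0 ^ q = u 0 * v 1 ^ q + u 1 * v 0 ^ q) →
        M * d * M⁻¹ ∈ Cfsg.preserving (Units.coeHom (Matrix (Fin 2) (Fin 2) F))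
          (Cfsg.hermForm 2 F q) := by
      intro d hd u v
      have hu : ∀ w : Fin 2 → F, M.val.mulVec ((M⁻¹ : GL (Fin 2) F).val.mulVec w) = w := by
        intro w
        rw [Matrix.mulVec_mulVec, ← Units.val_mul, mul_inv_cancel, Units.val_one, Matrix.one_mulVec]
      simp only [Units.coeHom_apply, Units.val_mul, ← Matrix.mulVec_mulVec]
      rw [hM, hd, ← hM, hu, hu]
    have hD := hmem (CfsgLib.TwoGroups.ClassicalSylow.diagHom (ζ, (ζ ^ q)⁻¹)) (by
      intro u v
      have hqq : ((ζ : F) ^ q) ^ q = ζ := CfsgLib.ClassicalGroups.hermConj_conj hF (ζ : F)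
      simp only [CfsgLib.TwoGroups.ClassicalSylow.val_diagHom, Matrix.mulVec, dotProduct,
        Fin.sum_univ_two, Matrix.of_apply, Matrix.cons_val_zero, Matrix.cons_val_one,
        zero_mul, add_zero, zero_add, mul_pow, Units.val_inv_eq_inv_val, Units.val_pow_eq_pow_val,
        inv_pow, hqq]
      field_simp)
    have hW := hmem CfsgLib.TwoGroups.ClassicalSylow.swapGL (by
      intro u v
      simp only [CfsgLib.TwoGroups.ClassicalSylow.val_swapGL, Matrix.mulVec, dotProduct,
        Fin.sum_univ_two, Matrix.of_apply, Matrix.cons_val_zero, Matrix.cons_val_one,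
        zero_mul, add_zero, zero_add, one_mul]
      ring)
    refine CfsgLib.TwoGroups.ClassicalSylow.quasiDihedral_of_elements P (n := s + 1)
      (r := q * (r' * (r * r'))) (by omega) ?_ (hq.mul (hr'.mul (hr.mul hr')))
      (x := ⟨_, hD⟩) (y := ⟨_, hW⟩) ?_ ?_ ?_
    · rw [hcard, e1, e2, pow_succ, pow_succ]; ring
    · rw [Subgroup.orderOf_mk, ← MulAut.conj_apply, MulEquiv.orderOf_eq,
        orderOf_injective _ CfsgLib.TwoGroups.ClassicalSylow.diagHom_injective, Prod.orderOf,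
        orderOf_inv, hζ]
      exact Nat.lcm_eq_left (hζ ▸ orderOf_pow_dvd q)
    · rw [Subgroup.orderOf_mk, ← MulAut.conj_apply, MulEquiv.orderOf_eq,
        CfsgLib.TwoGroups.ClassicalSylow.orderOf_swapGL]
    · apply Subtype.ext
      simp only [Subgroup.coe_mul, InvMemClass.coe_inv, SubgroupClass.coe_pow, Nat.add_sub_cancel,
        conj_pow]
      rw [show ∀ a b : GL (Fin 2) F, M * a * M⁻¹ * (M * b * M⁻¹) * (M * a * M⁻¹)⁻¹ =
          M * (a * b * a⁻¹) * M⁻¹ from fun a b => by group,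
        CfsgLib.TwoGroups.ClassicalSylow.swapGL_conj, ← map_pow]
      have hk : ζ ^ (2 ^ s - 1) = (ζ ^ q)⁻¹ := by
        rw [eq_inv_iff_mul_eq_one, ← pow_add]
        apply orderOf_dvd_iff_pow_eq_one.1
        rw [hζ]
        obtain ⟨t, ht⟩ := hr
        refine ⟨t + 1, ?_⟩
        rw [ht, mul_add, mul_one] at e1
        have : 2 ^ (s + 1) * (t + 1) = 2 ^ s * (2 * t) + 2 * 2 ^ s := by rw [pow_succ]; ring
        have hpos : 1 ≤ 2 ^ s := Nat.one_le_two_pow
        generalize 2 ^ s * (2 * t) = A at *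
        generalize 2 ^ (s + 1) * (t + 1) = B at *
        generalize 2 ^ s = C at *
        omega
      rw [Prod.pow_mk, hk, inv_pow, ← pow_mul, mul_comm q, pow_mul, hk, inv_pow, inv_inv,
        ← pow_mul]
      have hqq : ζ ^ (q * q) = ζ := by
        rw [show q * q = (q - 1) * (q + 1) + 1 by
          obtain ⟨k, hk⟩ : ∃ k, q = k + 1 := ⟨q - 1, by omega⟩
          rw [hk, Nat.add_sub_cancel]; ring, pow_succ, hzF, one_mul]
      rw [hqq]
  · intro h3
    obtain ⟨n, r, r', hn, hr, hr', e1, e2⟩ := CfsgLib.TwoGroups.ClassicalSylow.split_mod_four' h3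
    obtain ⟨ζ, hζ⟩ := CfsgLib.TwoGroups.ClassicalSylow.exists_orderOf_eq (G := Fˣ) (d := 2 ^ n)
      (by
        rw [CfsgLib.ClassicalGroups.card_units_herm hF, e1, e2]
        exact ⟨2 * r' * r, by ring⟩)
    have hnorm : ζ ^ (q + 1) = 1 := by
      apply orderOf_dvd_iff_pow_eq_one.1
      rw [hζ, e1]
      exact Dvd.intro _ rfl
    have hdiag : ∀ a b : Fˣ, a ^ (q + 1) = 1 → b ^ (q + 1) = 1 →
        CfsgLib.TwoGroups.ClassicalSylow.diagHom (a, b) ∈
          Cfsg.preserving (Units.coeHom (Matrix (Fin 2) (Fin 2) F)) (Cfsg.hermForm 2 F q) := by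
      intro a b ha hb
      refine CfsgLib.ClassicalGroups.diagonal_mem_GU ![(a : F), (b : F)] ?_ _ ?_
      · intro i
        fin_cases i
        · simpa using congrArg Units.val ha
        · simpa using congrArg Units.val hb
      · rw [CfsgLib.TwoGroups.ClassicalSylow.val_diagHom]
        ext i j
        fin_cases i <;> fin_cases j <;> simp
    have hswap : CfsgLib.TwoGroups.ClassicalSylow.swapGL ∈
          Cfsg.preserving (Units.coeHom (Matrix (Fin 2) (Fin 2) F)) (Cfsg.hermForm 2 F q) := by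
      intro u v
      simp only [Units.coeHom_apply, CfsgLib.TwoGroups.ClassicalSylow.val_swapGL, Cfsg.hermForm,
        Matrix.mulVec, dotProduct, Fin.sum_univ_two, Matrix.of_apply, Matrix.cons_val_zero,
        Matrix.cons_val_one, zero_mul, add_zero, zero_add, one_mul]
      ring
    refine CfsgLib.TwoGroups.ClassicalSylow.wreathed_of_elements P (n := n)
      (r := q * (r * (r' * r))) hn ?_ (hq.mul (hr.mul (hr'.mul hr)))
      (x := ⟨_, hdiag ζ 1 hnorm (one_pow _)⟩) (y := ⟨_, hdiag 1 ζ (one_pow _) hnorm⟩)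
      (z := ⟨_, hswap⟩) ?_ ?_ ?_ ?_ ?_ ?_
    · rw [hcard, e1, e2, pow_succ, two_mul n, pow_add]; ring
    · rw [Subgroup.orderOf_mk, CfsgLib.TwoGroups.ClassicalSylow.orderOf_diagHom_left, hζ]
    · apply Subtype.ext
      simp only [Subgroup.coe_mul, ← map_mul, mul_comm]
    · rw [eq_bot_iff]
      rintro v ⟨⟨i, hi⟩, ⟨j, hj⟩⟩
      rw [Subgroup.mem_bot]
      have hv : (v : GL (Fin 2) F) ∈
          Subgroup.zpowers (CfsgLib.TwoGroups.ClassicalSylow.diagHom (ζ, (1 : Fˣ))) ⊓
            Subgroup.zpowers (CfsgLib.TwoGroups.ClassicalSylow.diagHom ((1 : Fˣ), ζ)) := by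
        refine ⟨⟨i, ?_⟩, ⟨j, ?_⟩⟩
        · rw [← hi]; rfl
        · rw [← hj]; rfl
      rw [CfsgLib.TwoGroups.ClassicalSylow.diagHom_disjoint, Subgroup.mem_bot] at hv
      exact Subtype.ext hv
    · rw [Subgroup.orderOf_mk, CfsgLib.TwoGroups.ClassicalSylow.orderOf_swapGL]
    · exact Subtype.ext (CfsgLib.TwoGroups.ClassicalSylow.swapGL_conj _ _)
    · exact Subtype.ext (CfsgLib.TwoGroups.ClassicalSylow.swapGL_conj _ _)

end Cfsg.Agent.S1218
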