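import Cfsg.Statements.S1219
import Mathlib
import Cfsg.Agent.Lib.TwoGroups.InvolutionSLThree

set_option autoImplicit false
open scoped MatrixGroups
open Cfsg

namespace Cfsg.Agent.S1219

/-- Let F be a finite field of odd order q and t an involution of PSL(3,F). Then C(t) is isomorphic to the quotient of GL(2,F) by a central subgroup of order gcd(q−1, 3). -/
theorem result {F : Type*} [Field F] [Fintype F] (hF : Odd (Fintype.card F)) (t : Matrix.ProjectiveSpecialLinearGroup (Fin 3) F) (ht : orderOf t = 2) : ∃ (Z : Subgroup (GL (Fin 2) F)) (_ : Z.Normal), Z ≤ Subgroup.center (GL (Fin 2) F) ∧ Nat.card Z = Nat.gcd (Fintype.card F - 1) 3 ∧ Nonempty (↥(Subgroup.centralizer ({t} : Set (Matrix.ProjectiveSpecialLinearGroup (Fin 3) F))) ≃* GL (Fin 2) F ⧸ Z) := by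
  classical
  have h2 : (2 : F) ≠ 0 := by
    refine Ring.two_ne_zero fun h => ?_
    rw [FiniteField.even_card_iff_char_two] at h
    have := Nat.odd_iff.1 hF
    omega
  let mkP : SL(3, F) →* Matrix.ProjectiveSpecialLinearGroup (Fin 3) F := QuotientGroup.mk' _
  have hker : ∀ z : SL(3, F), mkP z = 1 ↔ z ∈ Subgroup.center SL(3, F) := QuotientGroup.eq_one_iff
  -- the centre has exponent three
  have hcen : ∀ z ∈ Subgroup.center SL(3, F), z ^ 3 = 1 := by
    intro z hz
    obtain ⟨r, hr, h⟩ := Matrix.SpecialLinearGroup.mem_center_iff.1 hz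
    refine Subtype.ext ?_
    rw [Matrix.SpecialLinearGroup.coe_pow, ← h, ← map_pow, show r ^ 3 = 1 by simpa using hr, map_one,
      Matrix.SpecialLinearGroup.coe_one]
  obtain ⟨g₀, hg₀⟩ := QuotientGroup.mk'_surjective _ t
  have ht2 : t * t = 1 := by rw [← pow_two, ← ht, pow_orderOf_eq_one]
  set g := g₀ ^ 3 with hgdef
  have hgt : mkP g = t := by
    show QuotientGroup.mk' _ g = t
    rw [hgdef, map_pow, hg₀, pow_succ, pow_two, ht2, one_mul]
  have hgg : g * g = 1 := by
    rw [hgdef, ← (Commute.refl g₀).mul_pow]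
    apply hcen
    rw [← hker, map_mul]
    show QuotientGroup.mk' _ g₀ * QuotientGroup.mk' _ g₀ = 1
    rw [hg₀, ht2]
  have hgne : g.val ≠ 1 := by
    intro h
    have hg1 : g = 1 := Subtype.ext h
    rw [hg1, map_one] at hgt
    rw [← hgt, orderOf_one] at ht
    omega
  obtain ⟨P, hP⟩ := CfsgLib.TwoGroups.InvolutionSLThree.exists_diag h2 (g := g.val)
    (congrArg Subtype.val hgg) g.2 hgne
  have hPP : P.val * (P⁻¹).val = 1 := P.mul_inv
  have hPP' : (P⁻¹).val * P.val = 1 := P.inv_mul
  let cP : SL(3, F) →* SL(3, F) := MonoidHom.mk'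
    (fun x => ⟨P.val * x.val * (P⁻¹).val, by
      rw [Matrix.det_mul, Matrix.det_mul, x.2, mul_one, ← Matrix.det_mul, hPP, Matrix.det_one]⟩)
    (fun x y => Subtype.ext (by
      show P.val * (x.val * y.val) * (P⁻¹).val =
        P.val * x.val * (P⁻¹).val * (P.val * y.val * (P⁻¹).val)
      simp only [Matrix.mul_assoc]
      rw [← Matrix.mul_assoc (P⁻¹).val P.val, hPP', Matrix.one_mul]))
  have hcPsurj : Function.Surjective cP := fun x =>
    ⟨⟨(P⁻¹).val * x.val * P.val, by
      rw [Matrix.det_mul, Matrix.det_mul, x.2, mul_one, ← Matrix.det_mul, hPP', Matrix.det_one]⟩,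
      Subtype.ext (by
        show P.val * ((P⁻¹).val * x.val * P.val) * (P⁻¹).val = x.val
        simp only [Matrix.mul_assoc, hPP, Matrix.mul_one]
        rw [← Matrix.mul_assoc, hPP, Matrix.one_mul])⟩
  have hcPinj : Function.Injective cP := by
    intro x y h
    have h' : P.val * x.val * (P⁻¹).val = P.val * y.val * (P⁻¹).val := congrArg Subtype.val h
    exact Subtype.ext (P.isUnit.mul_left_cancel ((P⁻¹).isUnit.mul_right_cancel h'))
  have hcPcen : ∀ x, cP x ∈ Subgroup.center SL(3, F) ↔ x ∈ Subgroup.center SL(3, F) := by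
    intro x
    simp only [Subgroup.mem_center_iff]
    constructor
    · exact fun h v => hcPinj (by rw [map_mul, map_mul]; exact h _)
    · intro h v
      obtain ⟨w, rfl⟩ := hcPsurj v
      rw [← map_mul, ← map_mul, h]
  have hgJ : g.val = P.val * CfsgLib.TwoGroups.InvolutionSLThree.invJ * (P⁻¹).val := by
    rw [← hP, Matrix.mul_assoc, hPP, Matrix.mul_one]
  let θ : GL (Fin 2) F →* Matrix.ProjectiveSpecialLinearGroup (Fin 3) F :=
    mkP.comp (cP.comp CfsgLib.TwoGroups.InvolutionSLThree.blk)
  have hcomm : ∀ x : SL(3, F), (cP x).val * g.val = g.val * (cP x).val ↔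
      x.val * CfsgLib.TwoGroups.InvolutionSLThree.invJ =
        CfsgLib.TwoGroups.InvolutionSLThree.invJ * x.val := by
    intro x
    show P.val * x.val * (P⁻¹).val * g.val = g.val * (P.val * x.val * (P⁻¹).val) ↔ _
    rw [hgJ]
    have e1 : ∀ a b : Matrix (Fin 3) (Fin 3) F,
        P.val * a * (P⁻¹).val * (P.val * b * (P⁻¹).val) = P.val * (a * b) * (P⁻¹).val := by
      intro a b
      simp only [Matrix.mul_assoc]
      rw [← Matrix.mul_assoc (P⁻¹).val P.val, hPP', Matrix.one_mul]
    rw [e1, e1, (P⁻¹).isUnit.mul_left_inj, P.isUnit.mul_right_inj]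
  have hrange : θ.range = Subgroup.centralizer
      ({t} : Set (Matrix.ProjectiveSpecialLinearGroup (Fin 3) F)) := by
    apply le_antisymm
    · rintro _ ⟨A, rfl⟩
      rw [Subgroup.mem_centralizer_singleton_iff, ← hgt]
      show mkP _ * mkP g = mkP g * mkP _
      rw [← map_mul, ← map_mul]
      congr 1
      exact Subtype.ext ((hcomm _).2 (CfsgLib.TwoGroups.InvolutionSLThree.blk_commute_invJ A))
    · intro y hy
      obtain ⟨x₁, rfl⟩ := QuotientGroup.mk'_surjective _ y
      rw [Subgroup.mem_centralizer_singleton_iff, ← hgt] at hy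
      set z := (g * x₁)⁻¹ * (x₁ * g) with hz
      have hzc : z ∈ Subgroup.center SL(3, F) := by
        rw [← hker, hz, map_mul mkP, map_inv, map_mul mkP, map_mul mkP, inv_mul_eq_one]
        exact hy.symm
      have hxg : x₁ * g = g * x₁ * z := by rw [hz, mul_inv_cancel_left]
      have hzz : z * z = 1 := by
        have hc := Subgroup.mem_center_iff.1 hzc
        have e : x₁ * (g * g) = g * g * x₁ * (z * z) := by
          calc x₁ * (g * g) = x₁ * g * g := by group
            _ = g * x₁ * (z * g) := by rw [hxg]; group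
            _ = g * x₁ * (g * z) := by rw [hc g]
            _ = g * (x₁ * g) * z := by group
            _ = _ := by rw [hxg]; group
        rw [hgg, one_mul, mul_one] at e
        exact mul_eq_left.1 e.symm
      have hz1 : z = 1 := by
        have h3 := hcen z hzc
        rwa [pow_succ, pow_two, hzz, one_mul] at h3
      rw [hz1, mul_one] at hxg
      obtain ⟨x, rfl⟩ := hcPsurj x₁
      obtain ⟨A, rfl⟩ := CfsgLib.TwoGroups.InvolutionSLThree.exists_blk h2
        ((hcomm x).1 (congrArg Subtype.val hxg))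
      exact ⟨A, rfl⟩
  have hkerθ : ∀ A, A ∈ θ.ker ↔ ∃ r : F, r ^ 3 = 1 ∧ A.val = Matrix.scalar (Fin 2) r := fun A => by
    rw [MonoidHom.mem_ker, ← CfsgLib.TwoGroups.InvolutionSLThree.blk_mem_center_iff, ← hcPcen, ← hker]
    rfl
  refine ⟨θ.ker, inferInstance, ?_, ?_, ?_⟩
  · intro A hA
    obtain ⟨r, -, hr⟩ := (hkerθ A).1 hA
    rw [Subgroup.mem_center_iff]
    intro B
    refine Units.ext ?_
    rw [Units.val_mul, Units.val_mul, hr]
    exact (Matrix.scalar_commute r (fun r' => Commute.all _ _) B.val).eq.symm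
  · let s : Fˣ →* GL (Fin 2) F := Units.map (Matrix.scalar (Fin 2)).toMonoidHom
    have hs : Function.Injective s := fun a b h => by
      have h' := congrArg (fun M : GL (Fin 2) F => (M : Matrix (Fin 2) (Fin 2) F) 0 0) h
      exact Units.ext (by simpa [s] using h')
    have hZ : θ.ker = (powMonoidHom 3 : Fˣ →* Fˣ).ker.map s := by
      ext A
      rw [hkerθ]
      constructor
      · rintro ⟨r, hr, hA⟩
        have hr0 : r ≠ 0 := fun e => by simp [e] at hr
        exact ⟨Units.mk0 r hr0, Units.ext hr, Units.ext hA.symm⟩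
      · rintro ⟨u, hu, rfl⟩
        exact ⟨u, congrArg Units.val (hu : u ^ 3 = 1), rfl⟩
    rw [hZ, Subgroup.card_map_of_injective hs, IsCyclic.card_powMonoidHom_ker, Nat.card_units,
      Nat.card_eq_fintype_card]
  · exact ⟨(MulEquiv.subgroupCongr hrange).symm.trans (QuotientGroup.quotientKerEquivRange θ).symm⟩

end Cfsg.Agent.S1219
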