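import Cfsg.Statements.S1220
import Cfsg.Agent.Lib.BenderTrans.Main
import Cfsg.Agent.Lib.PF.OddOrder
import Cfsg.Agent.Lib.TwoGroups.OneInvolution

set_option autoImplicit false
open Cfsg

namespace Cfsg.Agent.S1220

/-- Let H be a strongly embedded subgroup of the finite group G. Then either G acts doubly transitively on the cosets of H (H permutes transitively the cosets gH with g ∉ H), or every Sylow 2-subgroup of G is cyclic or generalized quaternion and G = O(G)H. -/
theorem result {G : Type*} [Group G] [Finite G] (H : Subgroup G) (hH : Cfsg.IsStronglyEmbedded H) : (∀ g₁ g₂ : G, g₁ ∉ H → g₂ ∉ H → ∃ h ∈ H, g₂⁻¹ * (h * g₁) ∈ H) ∨ ((∀ S : Sylow 2 G, IsCyclic S ∨ ∃ m : ℕ, 1 ≤ m ∧ Nonempty ((S : Subgroup G) ≃* QuaternionGroup (2 ^ m))) ∧ Cfsg.oddCore G ⊔ H = ⊤) := by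
  by_cases hf : CfsgLib.BenderTrans.HasFour G
  · left
    intro g₁ g₂ h₁ h₂
    have hne : ∀ g : G, g ∉ H → ((g : G) : G ⧸ H) ≠ ((1 : G) : G ⧸ H) := fun g hg e => hg (by
      have h1 := QuotientGroup.eq.1 e.symm
      simpa using h1)
    obtain ⟨g, hga, hgb⟩ := CfsgLib.BenderTrans.twoTrans_of_stronglyEmbedded
      (fun X i j hX => @CfsgLib.PF.oddSolvable X i j hX) hH hf _ _ _ (hne g₁ h₁) (hne g₂ h₂)
    refine ⟨g, CfsgLib.StrongEmbedding.mem_iff_smul_base.2 hga, ?_⟩
    have h1 : ((g₂ : G) : G ⧸ H) = ((g * g₁ : G) : G ⧸ H) := hgb.symm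
    exact QuotientGroup.eq.1 h1
  · right
    have huniq : ∀ s t : G, orderOf s = 2 → orderOf t = 2 → Commute s t → s = t :=
      fun s t hs ht hc => by_contra fun hne => hf ⟨s, t, hs, ht, hne, hc⟩
    have : Fact (Nat.Prime 2) := ⟨Nat.prime_two⟩
    refine ⟨fun S => ?_, ?_⟩
    · refine CfsgLib.TwoGroups.OneInvolution.isCyclic_or_quaternion S.isPGroup' ?_
      intro a b ha hb
      have : Nontrivial S := ⟨a, 1, fun e => by rw [e, orderOf_one] at ha; exact absurd ha (by decide)⟩
      have := S.isPGroup'.center_nontrivial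
      obtain ⟨k, hk⟩ := (S.isPGroup'.to_subgroup (Subgroup.center S)).exists_card_eq
      have hk0 : k ≠ 0 := fun e => by
        rw [e, pow_zero] at hk
        exact absurd hk (Finite.one_lt_card (α := Subgroup.center S)).ne'
      obtain ⟨z, hz⟩ := exists_prime_orderOf_dvd_card' (G := Subgroup.center S) 2
        (hk ▸ dvd_pow_self 2 hk0)
      have key : ∀ c : S, orderOf c = 2 → (c : G) = ((z : S) : G) := fun c hc => by
        refine huniq _ _ (by rw [Subgroup.orderOf_coe]; exact hc)
          (by rw [Subgroup.orderOf_coe, Subgroup.orderOf_coe]; exact hz) ?_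
        exact congrArg Subtype.val (Subgroup.mem_center_iff.1 z.2 c)
      exact Subtype.ext ((key a ha).trans (key b hb).symm)
    · rw [eq_top_iff]
      intro g _
      obtain ⟨z, hzH, hz⟩ := CfsgLib.Involutions.exists_involution_of_even_card H hH.2.1
      have hz' : orderOf (g * z * g⁻¹) = 2 := (CfsgLib.Involutions.orderOf_conj_eq g z).trans hz
      have hmem : g * z * g⁻¹ * z ∈ Cfsg.oddCore G := by
        have h1 := CfsgLib.Involutions.inZStar_of_rank_one huniq hz g
        simpa [CfsgLib.Involutions.inv_eq_self_of_involution hz, mul_assoc] using h1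
      have hodd : Odd (orderOf (g * z * g⁻¹ * z)) := by
        have h2 : Odd (Nat.card (Cfsg.oddCore G)) := by
          rw [← Nat.not_even_iff_odd, even_iff_two_dvd]
          exact CfsgLib.PCore.not_dvd_card_pPrimeCore
        exact h2.of_dvd_nat (Subgroup.orderOf_dvd_natCard _ hmem)
      obtain ⟨m, hm⟩ := id hodd
      set a := g * z * g⁻¹ * z with ha
      have hd : a ^ (m : ℤ) ∈ Cfsg.oddCore G := zpow_mem hmem _
      have hconj : a ^ (m : ℤ) * (g * z * g⁻¹) * (a ^ (m : ℤ))⁻¹ = z := by
        have h1 := CfsgLib.Involutions.conj_by_zpow hz' hz (m : ℤ) 0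
        rw [zpow_zero, one_mul, add_zero, ← ha] at h1
        rw [h1]
        have h3 : a ^ (2 * (m : ℤ)) = a⁻¹ := by
          apply eq_inv_of_mul_eq_one_left
          have := pow_orderOf_eq_one a
          rw [hm, pow_succ] at this
          exact_mod_cast this
        rw [h3, ha, mul_inv_rev, CfsgLib.Involutions.inv_eq_self_of_involution hz,
          CfsgLib.Involutions.inv_eq_self_of_involution hz', mul_assoc,
          CfsgLib.Involutions.mul_self_eq_one hz', mul_one]
      have hdg : a ^ (m : ℤ) * g ∈ H := by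
        refine CfsgLib.Involutions.se_centralizer_le hH hzH hz
          (Subgroup.mem_centralizer_singleton_iff.2 ?_)
        calc a ^ (m : ℤ) * g * z
            = (a ^ (m : ℤ) * (g * z * g⁻¹) * (a ^ (m : ℤ))⁻¹) * (a ^ (m : ℤ) * g) := by group
          _ = z * (a ^ (m : ℤ) * g) := by rw [hconj]
      have h4 : g = (a ^ (m : ℤ))⁻¹ * (a ^ (m : ℤ) * g) := by group
      rw [h4]
      exact Subgroup.mul_mem_sup (inv_mem hd) hdg

end Cfsg.Agent.S1220
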