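import Cfsg.Statements.S1223
import Cfsg.Agent.Lib.BenderTrans.Central
import Cfsg.Agent.Lib.PF.OddOrder

set_option autoImplicit false
open Cfsg
open CfsgLib.Involutions CfsgLib.BenderTrans

namespace Cfsg.Agent.S1223

/-- Let H be a strongly embedded subgroup of the finite group G containing no nontrivial normal subgroup of G (so G acts faithfully on the cosets of H), u an involution of G outside H, and j ≠ 1 an element of H ∩ uHu⁻¹ with u j u⁻¹ = j⁻¹. Then C_G(j) has odd order. -/
theorem result {G : Type*} [Group G] [Finite G] (H : Subgroup G) (hH : Cfsg.IsStronglyEmbedded H) (hcore : H.normalCore = ⊥) (u : G) (hu : orderOf u = 2) (huH : u ∉ H) (j : G) (hj : j ∈ (H ⊓ H.map (MulAut.conj u).toMonoidHom)) (hj1 : j ≠ 1) (hinv : u * j * u⁻¹ = j⁻¹) : Odd (Nat.card (Subgroup.centralizer ({j} : Set G))) := by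
  rw [← Nat.not_even_iff_odd]
  intro hev
  obtain ⟨t, htC, ht⟩ := exists_involution_of_even_card _ hev
  have htj : Commute t j := Subgroup.mem_centralizer_singleton_iff.1 htC
  have h := oneFix_of_stronglyEmbedded hH
  set x₀ : G ⧸ H := ((1 : G) : G ⧸ H) with hx₀
  have hjx : j • x₀ = x₀ := CfsgLib.StrongEmbedding.mem_iff_smul_base.1 hj.1
  have hux : u • x₀ ≠ x₀ := fun e => huH (CfsgLib.StrongEmbedding.mem_iff_smul_base.2 e)
  have hjux : j • u • x₀ = u • x₀ := by
    obtain ⟨k, hk, hke⟩ := hj.2
    have hkx : k • x₀ = x₀ := CfsgLib.StrongEmbedding.mem_iff_smul_base.1 hk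
    rw [← hke]
    show (u * k * u⁻¹) • u • x₀ = u • x₀
    exact conj_smul_fixed hkx
  have hjodd : ¬ orderOf j = 2 := fun e => hux (h.unique j e _ _ hjx hjux).symm
  have hjj : j * j ≠ 1 := fun e => hjodd (orderOf_eq_two_iff_mul.2 ⟨hj1, e⟩)
  have hinvj : Commute u j → False := fun hc => by
    apply hjj
    rw [hc.eq, mul_inv_cancel_right] at hinv
    calc j * j = j * j⁻¹ := by rw [← hinv]
      _ = 1 := mul_inv_cancel j
  rcases Nat.even_or_odd (orderOf (t * u)) with heven | hodd
  · obtain ⟨hw, hwt, hwu⟩ := central_involution ht hu heven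
    set w := (t * u) ^ (orderOf (t * u) / 2)
    obtain ⟨c, hc⟩ := h.exists_fix w hw
    have htc : t • c = c := h.fix_of_commute ⟨hw, hc⟩ hwt.symm
    have huc : u • c = c := h.fix_of_commute ⟨hw, hc⟩ hwu.symm
    have hjc : j • c = c := h.fix_of_commute ⟨ht, htc⟩ htj.symm
    have hxc : x₀ ≠ c := fun e => hux (by rw [e]; exact huc)
    have hne : t ≠ u := fun e => hinvj (e ▸ htj)
    have hf : HasFour G := by
      by_cases e : w = t
      · exact ⟨t, u, ht, hu, hne, e ▸ hwu⟩
      · exact ⟨w, t, hw, ht, e, hwt⟩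
    have hfaith : ∀ g : G, (∀ x : G ⧸ H, g • x = x) → g = 1 := by
      intro g hg
      have h1 : g ∈ H.normalCore := by
        rw [Subgroup.normalCore_eq_ker, MonoidHom.mem_ker]
        exact Equiv.ext hg
      rwa [hcore, Subgroup.mem_bot] at h1
    have hJ : Subgroup.zpowers j ≤ Subgroup.centralizer ({u} : Set G) := by
      set Z := Subgroup.zpowers j with hZ
      set C := Z ⊓ Subgroup.centralizer ({u} : Set G) with hC
      have key : ∀ (p k : ℕ), p.Prime → p ^ k ∣ Nat.card Z → p ^ k ∣ Nat.card C := by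
        intro p k hp hdvd
        have : Fact p.Prime := ⟨hp⟩
        obtain ⟨Y, hYcard⟩ := Sylow.exists_subgroup_card_pow_prime (G := Z) p hdvd
        set Y' := Y.map Z.subtype with hY'
        have hY'card : Nat.card Y' = p ^ k := by
          rw [hY', Subgroup.card_map_of_injective Z.subtype_injective, hYcard]
        have hY'le : Y' ≤ Z := Subgroup.map_subtype_le Y
        have hfix : ∀ y ∈ Y', y • c = c ∧ y • x₀ = x₀ := fun y hy =>
          ⟨(Subgroup.zpowers_le.2 (show j ∈ MulAction.stabilizer G c from hjc)) (hY'le hy),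
            (Subgroup.zpowers_le.2 (show j ∈ MulAction.stabilizer G x₀ from hjx)) (hY'le hy)⟩
        have huY : u ∈ Subgroup.normalizer (Y' : Set G) := by
          refine CfsgLib.Coprime.mem_normalizer_of_forall_conj fun y hy => ?_
          obtain ⟨n, rfl⟩ := Subgroup.mem_zpowers_iff.1 (hY'le hy)
          rw [show u * j ^ n * u⁻¹ = (u * j * u⁻¹) ^ n by rw [conj_zpow], hinv, inv_zpow]
          exact Y'.inv_mem hy
        have hcen := central_of_card_le _ G (G ⧸ H) le_rfl
          (fun X i i' hX => @CfsgLib.PF.oddSolvable X i i' hX) h hfaith hf p c x₀ u hxc ⟨hu, huc⟩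
          Y' (IsPGroup.of_card hY'card) (fun y hy => mem_two_iff.2 (hfix y hy)) huY
        rw [← hY'card]
        exact Subgroup.card_dvd_of_le (le_inf hY'le fun y hy =>
          Subgroup.mem_centralizer_singleton_iff.2 (hcen y hy).eq)
      have hcard : Nat.card Z ∣ Nat.card C := by
        rw [Nat.dvd_iff_prime_pow_dvd_dvd]
        exact fun p k hp hd => key p k hp hd
      have : C = Z := Subgroup.eq_of_le_of_card_ge inf_le_left (Nat.le_of_dvd Nat.card_pos hcard)
      rw [← this]
      exact inf_le_right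
    exact hinvj (Subgroup.mem_centralizer_singleton_iff.1 (hJ (Subgroup.mem_zpowers j))).symm
  · obtain ⟨m, hm⟩ := id hodd
    set a := t * u with ha
    have hconj : a ^ (m : ℤ) * t * (a ^ (m : ℤ))⁻¹ = u := by
      have h1 := conj_by_zpow ht hu (m : ℤ) 0
      rw [zpow_zero, one_mul, add_zero, ← ha] at h1
      rw [h1]
      have h3 : a ^ (2 * (m : ℤ)) = a⁻¹ := by
        apply eq_inv_of_mul_eq_one_left
        have := pow_orderOf_eq_one a
        rw [hm, pow_succ] at this
        exact_mod_cast this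
      rw [h3, ha, mul_inv_rev, inv_eq_self_of_involution hu, inv_eq_self_of_involution ht,
        mul_assoc, mul_self_eq_one ht, mul_one]
    have hpow : ∀ n : ℕ, a ^ n * j * (a ^ n)⁻¹ = j ∨ a ^ n * j * (a ^ n)⁻¹ = j⁻¹ := by
      intro n
      induction n with
      | zero => left; simp
      | succ n ih =>
        have e1 : a * j * a⁻¹ = j⁻¹ := by
          have h1 : t * j⁻¹ * t⁻¹ = j⁻¹ := by rw [htj.inv_right.eq, mul_inv_cancel_right]
          calc a * j * a⁻¹ = t * (u * j * u⁻¹) * t⁻¹ := by rw [ha]; group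
            _ = j⁻¹ := by rw [hinv, h1]
        rcases ih with e | e
        · right
          calc a ^ (n + 1) * j * (a ^ (n + 1))⁻¹ = a * (a ^ n * j * (a ^ n)⁻¹) * a⁻¹ := by
                rw [pow_succ']; group
            _ = j⁻¹ := by rw [e, e1]
        · left
          calc a ^ (n + 1) * j * (a ^ (n + 1))⁻¹ = a * (a ^ n * j * (a ^ n)⁻¹) * a⁻¹ := by
                rw [pow_succ']; group
            _ = j := by rw [e, show a * j⁻¹ * a⁻¹ = (a * j * a⁻¹)⁻¹ by group, e1, inv_inv]
    have h2 : Commute (a ^ m * t * (a ^ m)⁻¹) (a ^ m * j * (a ^ m)⁻¹) :=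
      htj.map (MulAut.conj (a ^ m)).toMonoidHom
    rw [zpow_natCast] at hconj
    rw [hconj] at h2
    rcases hpow m with e | e <;> rw [e] at h2
    · exact hinvj h2
    · exact hinvj (by simpa using h2.inv_right)

end Cfsg.Agent.S1223
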