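import Cfsg.Statements.S1228
import Cfsg.Agent.Lib.StrongEmbedding.ElementaryCentralizers

set_option autoImplicit false
open Cfsg

namespace Cfsg.Agent.S1228

/-- Let G be a finite group with a Sylow 2-subgroup T that is neither cyclic nor normal, such that the centralizer of every involution is an elementary abelian 2-group; put H = N_G(T), let u be an involution outside H and D = H ∩ uHu⁻¹. Then N_G(D) = D ⊔ ⟨u⟩, and a coset gH is fixed by every element of D exactly when gH = H or gH = uH. -/
theorem result {G : Type*} [Group G] [Finite G] (T : Sylow 2 G) (hnc : ¬ IsCyclic (T : Subgroup G)) (hnn : ¬ (T : Subgroup G).Normal) (hC : ∀ t : G, orderOf t = 2 → IsMulCommutative (Subgroup.centralizer ({t} : Set G)) ∧ ∀ c ∈ Subgroup.centralizer ({t} : Set G), c ^ 2 = 1) (u : G) (hu : orderOf u = 2) (huH : u ∉ Subgroup.normalizer ((T : Subgroup G) : Set G)) : Subgroup.normalizer ((Subgroup.normalizer ((T : Subgroup G) : Set G) ⊓ (Subgroup.normalizer ((T : Subgroup G) : Set G)).map (MulAut.conj u).toMonoidHom : Subgroup G) : Set G) = (Subgroup.normalizer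 ((T : Subgroup G) : Set G) ⊓ (Subgroup.normalizer ((T : Subgroup G) : Set G)).map (MulAut.conj u).toMonoidHom) ⊔ Subgroup.zpowers u ∧ ∀ g : G, ((∀ d ∈ Subgroup.normalizer ((T : Subgroup G) : Set G) ⊓ (Subgroup.normalizer ((T : Subgroup G) : Set G)).map (MulAut.conj u).toMonoidHom, d • (QuotientGroup.mk g : G ⧸ Subgroup.normalizer ((T : Subgroup G) : Set G)) = QuotientGroup.mk g) ↔ (QuotientGroup.mk g : G ⧸ Subgroup.normalizer ((T : Subgroup G) : Set G)) = QuotientGroup.mk 1 ∨ (QuotientGroup.mk g : G ⧸ Subgroup.normalizer ((T : Subgroup G) : Set G)) = QuotientGroup.mk u) := by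
  open CfsgLib.StrongEmbedding CfsgLib.StrongEmbedding.ElementaryCentralizers in
  exact (by
    have h : Hyp T := ⟨hnc, hnn, hC⟩
    have hy := coset_ne_base (T := T) huH
    rw [twoStab_coset]
    have huo : u • base T = ((u : G) : G ⧸ normT T) := by
      show ((u * 1 : G) : G ⧸ normT T) = _
      rw [mul_one]
    have hne : ∃ x ∈ twoStab T ((u : G) : G ⧸ normT T), x ≠ 1 := by
      have h1 : 1 < Nat.card (twoStab T ((u : G) : G ⧸ normT T)) := by
        have := four_le_card h
        rw [card_twoStab h hy]; omega
      have := Finite.one_lt_card_iff_nontrivial.1 h1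
      obtain ⟨x, hx⟩ := exists_ne (1 : twoStab T ((u : G) : G ⧸ normT T))
      exact ⟨x.1, x.2, fun e => hx (Subtype.ext e)⟩
    obtain ⟨x, hx, hx1⟩ := hne
    have hfix : ∀ z : G ⧸ normT T,
        (∀ d ∈ twoStab T ((u : G) : G ⧸ normT T), d • z = z) ↔
          z = base T ∨ z = ((u : G) : G ⧸ normT T) := by
      intro z
      constructor
      · intro hz
        exact fixed_pair h hy hx hx1 (hz x hx)
      · rintro (rfl | rfl) d hd
        · exact (mem_twoStab.1 hd).1
        · exact (mem_twoStab.1 hd).2
    refine ⟨le_antisymm ?_ (sup_le Subgroup.le_normalizer ?_), fun g => hfix g⟩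
    · intro g hg
      have hmap : ∀ z : G ⧸ normT T, z = base T ∨ z = ((u : G) : G ⧸ normT T) →
          g • z = base T ∨ g • z = ((u : G) : G ⧸ normT T) := by
        intro z hz
        rw [← hfix] at hz ⊢
        intro d hd
        have h1 := hz _ ((Subgroup.mem_set_normalizer_iff''.1 hg d).1 hd)
        rwa [mul_smul, mul_smul, inv_smul_eq_iff] at h1
      rcases hmap _ (Or.inl rfl) with e | e
      · have h1 := hmap _ (Or.inr rfl)
        rcases h1 with e' | e'
        · exact absurd (smul_left_cancel g (e'.trans e.symm)) hy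
        · exact Subgroup.mem_sup_left (mem_twoStab.2 ⟨e, e'⟩)
      · rcases hmap _ (Or.inr rfl) with e' | e'
        · have h2 : u * g ∈ twoStab T ((u : G) : G ⧸ normT T) := by
            refine mem_twoStab.2 ⟨?_, ?_⟩
            · rw [mul_smul, e, ← huo, smul_self_of_involution hu]
            · rw [mul_smul, e', huo]
          have h3 := mul_mem (Subgroup.mem_sup_right (S := twoStab T ((u : G) : G ⧸ normT T))
            (Subgroup.mem_zpowers u)) (Subgroup.mem_sup_left h2)
          rwa [← mul_assoc, CfsgLib.Involutions.mul_self_eq_one hu, one_mul] at h3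
        · exact absurd (smul_left_cancel g (e'.trans e.symm)) hy
    · rw [Subgroup.zpowers_le, Subgroup.mem_set_normalizer_iff]
      intro d
      constructor
      · intro hd
        rw [SetLike.mem_coe, inverts h hy hu huo hd]
        exact inv_mem hd
      · intro hd
        have h1 := inverts h hy hu huo hd
        have h2 : u * (u * d * u⁻¹) * u⁻¹ = d := by
          calc u * (u * d * u⁻¹) * u⁻¹ = (u * u) * d * (u * u)⁻¹ := by group
            _ = d := by rw [CfsgLib.Involutions.mul_self_eq_one hu]; simp
        rw [SetLike.mem_coe, ← h2, h1]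
        exact inv_mem hd)

end Cfsg.Agent.S1228
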