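import Cfsg.Statements.S1231
import Cfsg.Agent.Lib.TwoGroups.Basic
import Cfsg.Agent.Lib.Involutions.StronglyEmbedded

set_option autoImplicit false
open Cfsg

namespace Cfsg.Agent.S1231

/-- Let H be a subgroup of the finite group G, p a prime, k ≥ 1, and P a Sylow p-subgroup of H whose p-rank is at least k. Then N_G(X) ≤ H for every subgroup X of P of p-rank at least k if and only if H ∩ gHg⁻¹ has p-rank less than k for every g ∉ H. -/
theorem result {G : Type*} [Group G] [Finite G] {p : ℕ} [Fact p.Prime] (k : ℕ) (hk : 1 ≤ k) (H : Subgroup G) (P : Sylow p ↥H) (hP : ¬ Cfsg.PRankLE p (k - 1) ↥(P : Subgroup ↥H)) : (∀ X : Subgroup G, X ≤ (P : Subgroup ↥H).map H.subtype → ¬ Cfsg.PRankLE p (k - 1) ↥X → Subgroup.normalizer (X : Set G) ≤ H) ↔ (∀ g : G, g ∉ H → Cfsg.PRankLE p (k - 1) ↥(H ⊓ H.map (MulAut.conj g).toMonoidHom)) := by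
  classical
  open CfsgLib.Involutions CfsgLib.TwoGroups in
  exact (by
    set PG := (P : Subgroup ↥H).map H.subtype with hPG
    have hPH : PG ≤ H := Subgroup.map_subtype_le _
    have hP' : ¬ Cfsg.PRankLE p (k - 1) PG := by
      intro hle
      apply hP
      intro A hAc hAe
      have h1 := (pRankLE_subgroup_iff p (k - 1) PG).1 hle (A.map (H.subtype.comp (P : Subgroup H).subtype))
        ?_ ?_ ?_
      · rwa [Subgroup.card_map_of_injective
          (H.subtype_injective.comp (P : Subgroup H).subtype_injective :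
            Function.Injective (H.subtype.comp (P : Subgroup H).subtype))] at h1
      · rintro _ ⟨a, ha, rfl⟩
        exact ⟨a.1, a.2, rfl⟩
      · refine ⟨⟨?_⟩⟩
        rintro ⟨_, a, ha, rfl⟩ ⟨_, b, hb, rfl⟩
        apply Subtype.ext
        show _ * _ = _ * _
        rw [← map_mul, ← map_mul]
        exact congrArg _ (congrArg Subtype.val (hAc.is_comm.comm ⟨a, ha⟩ ⟨b, hb⟩))
      · rintro _ ⟨a, ha, rfl⟩
        rw [← map_pow, hAe a ha, map_one]
    constructor
    · intro hN g hg
      by_contra hI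
      simp only [pRankLE_subgroup_iff, not_forall, not_le] at hI
      obtain ⟨A, hAI, hAc, hAe, hAcard⟩ := hI
      set I := H ⊓ H.map (MulAut.conj g).toMonoidHom with hIdef
      have hAp : IsPGroup p A := fun a => ⟨1, Subtype.ext (by simpa using hAe a.1 a.2)⟩
      obtain ⟨Q₀, hQ₀⟩ := (hAp.comap_subtype (K := I)).exists_le_sylow
      set Q := (Q₀ : Subgroup I).map I.subtype with hQ
      have hQI : Q ≤ I := Subgroup.map_subtype_le _
      have hQp : IsPGroup p Q := Q₀.isPGroup'.map _
      have hAQ : A ≤ Q := fun a ha => ⟨⟨a, hAI ha⟩, hQ₀ ha, rfl⟩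
      -- move `Q` into `P`
      obtain ⟨Q₁, hQ₁⟩ := (hQp.comap_subtype (K := H)).exists_le_sylow
      obtain ⟨h, hh⟩ := MulAction.exists_smul_eq H Q₁ P
      set c : G := (h : G) with hc
      have hQP : ∀ x ∈ Q, c * x * c⁻¹ ∈ PG := by
        intro x hx
        refine ⟨h * ⟨x, (hQI hx).1⟩ * h⁻¹, ?_, rfl⟩
        rw [← hh, Sylow.coe_subgroup_smul]
        exact Subgroup.smul_mem_pointwise_smul _ (MulAut.conj h) _ (hQ₁ hx)
      -- the conjugate intersection
      set g' := c * g with hg'
      have hg'H : g' ∉ H := fun e => hg (by simpa [hg', hc] using H.mul_mem (H.inv_mem h.2) e)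
      set R := Q.map (MulAut.conj c).toMonoidHom with hR
      have hRP : R ≤ PG := by
        rintro _ ⟨x, hx, rfl⟩
        exact hQP x hx
      have hRrank : ¬ Cfsg.PRankLE p (k - 1) R := by
        intro hle
        have h1 := (pRankLE_subgroup_iff p (k - 1) R).1 hle (A.map (MulAut.conj c).toMonoidHom)
          (Subgroup.map_mono hAQ) ?_ ?_
        · rw [Subgroup.card_map_of_injective (MulAut.conj c).injective] at h1
          omega
        · refine ⟨⟨?_⟩⟩
          rintro ⟨_, a, ha, rfl⟩ ⟨_, b, hb, rfl⟩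
          apply Subtype.ext
          show _ * _ = _ * _
          rw [← map_mul, ← map_mul]
          exact congrArg _ (congrArg Subtype.val (hAc.is_comm.comm ⟨a, ha⟩ ⟨b, hb⟩))
        · rintro _ ⟨a, ha, rfl⟩
          rw [← map_pow, hAe a ha, map_one]
      have hNR := hN R hRP hRrank
      -- a Sylow subgroup of the conjugate containing `R`
      have hRg : ∀ x ∈ R, g'⁻¹ * x * g' ∈ H := by
        rintro _ ⟨x, hx, rfl⟩
        have h1 := mem_map_conj_iff.1 (hQI hx).2
        convert h1 using 1
        simp [hg']; group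
      let φ := (MulAut.conj g'⁻¹).toMonoidHom
      have hφ : ∀ x, φ x = g'⁻¹ * x * g' := fun x => by simp [φ]
      have hRp : IsPGroup p (R.map φ) := (hQp.map _).map _
      obtain ⟨P₂, hP₂⟩ := (hRp.comap_subtype (K := H)).exists_le_sylow
      set S := ((P₂ : Subgroup H).map H.subtype).map (MulAut.conj g').toMonoidHom with hS
      have hSp : IsPGroup p S := (P₂.isPGroup'.map _).map _
      have hRS : R ≤ S := by
        intro x hx
        refine ⟨φ x, ⟨⟨φ x, by rw [hφ]; exact hRg x hx⟩, hP₂ ⟨x, hx, rfl⟩, rfl⟩, ?_⟩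
        simp [φ]; group
      have hSg : ∀ x ∈ S, g'⁻¹ * x * g' ∈ H := by
        rintro _ ⟨x, hx, rfl⟩
        simpa [mul_assoc] using (Subgroup.map_subtype_le _ hx : x ∈ H)
      rcases hRS.eq_or_lt with heq | hlt
      · have hcardS : Nat.card S = Nat.card PG := by
          rw [hS, Subgroup.card_map_of_injective (MulAut.conj g').injective, hPG,
            Subgroup.card_map_of_injective H.subtype_injective,
            Subgroup.card_map_of_injective H.subtype_injective]
          exact Nat.card_congr (Sylow.equiv P₂ P).toEquiv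
        have hRPeq : R = PG := Subgroup.eq_of_le_of_card_ge hRP (by rw [heq, hcardS])
        obtain ⟨k', hk'⟩ := MulAction.exists_smul_eq H P P₂
        have hmem : g' * (k' : G) ∈ Subgroup.normalizer (PG : Set G) := by
          refine Subgroup.mem_normalizer_fintype ?_
          intro x hx
          obtain ⟨x', hx', rfl⟩ := hx
          rw [SetLike.mem_coe, ← hRPeq, heq, hS]
          refine ⟨(k' : G) * x' * (k' : G)⁻¹, ⟨k' * x' * k'⁻¹, ?_, rfl⟩, by simp; group⟩
          rw [← hk', Sylow.coe_subgroup_smul]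
          exact Subgroup.smul_mem_pointwise_smul _ (MulAut.conj k') _ hx'
        have h2 := hN PG le_rfl hP' hmem
        exact hg'H (by simpa using H.mul_mem h2 (H.inv_mem k'.2))
      · obtain ⟨y, hyS, hyR, hyN⟩ := exists_mem_normalizer_notMem hSp hlt
        have hcH : ∀ x, c * x * c⁻¹ ∈ H → x ∈ H := fun x hx => by
          simpa [hc, mul_assoc] using H.mul_mem (H.mul_mem (H.inv_mem h.2) hx) h.2
        -- pull `y` back into the intersection
        have hyI : c⁻¹ * y * c ∈ I := by
          refine ⟨hcH _ (by simpa [mul_assoc] using hNR hyN), mem_map_conj_iff.2 ?_⟩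
          have h1 := hSg y hyS
          convert h1 using 1
          simp [hg']; group
        have hle : Q ⊔ Subgroup.zpowers (c⁻¹ * y * c) ≤ S.map (MulAut.conj c⁻¹).toMonoidHom ⊓ I := by
          refine sup_le (le_inf ?_ hQI) (Subgroup.zpowers_le.2 ⟨⟨y, hyS, by simp⟩, hyI⟩)
          intro x hx
          exact ⟨c * x * c⁻¹, hRS ⟨x, hx, rfl⟩, by simp; group⟩
        have hpp : IsPGroup p ((Q ⊔ Subgroup.zpowers (c⁻¹ * y * c)).subgroupOf I) :=
          (((hSp.map _).to_le (hle.trans inf_le_left))).comap_subtype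
        have heq := Q₀.is_maximal' hpp (fun x hx =>
          (le_sup_left : Q ≤ Q ⊔ Subgroup.zpowers (c⁻¹ * y * c)) ⟨x, hx, rfl⟩)
        apply hyR
        refine ⟨c⁻¹ * y * c, ⟨⟨_, hyI⟩, heq ▸ ((le_sup_right : Subgroup.zpowers (c⁻¹ * y * c) ≤
          Q ⊔ Subgroup.zpowers (c⁻¹ * y * c)) (Subgroup.mem_zpowers _)), rfl⟩, ?_⟩
        simp; group
    · intro hI X hX hXr g hgN
      by_contra hg
      apply hXr
      rw [pRankLE_subgroup_iff]
      intro A hA hAc hAe
      refine (pRankLE_subgroup_iff p (k - 1) _).1 (hI g hg) A ?_ hAc hAe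
      intro a ha
      refine ⟨hPH (hX (hA ha)), mem_map_conj_iff.2 ?_⟩
      exact hPH (hX ((Subgroup.mem_set_normalizer_iff''.1 hgN a).1 (hA ha))))

end Cfsg.Agent.S1231
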