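import Cfsg.Statements.S1233
import Cfsg.Agent.Lib.MacWilliams.NormalEight
import Cfsg.Agent.Lib.MacWilliams.QuaternionPairModel

set_option autoImplicit false
open Cfsg

namespace Cfsg.Agent.S1233

open Subgroup
open scoped commutatorElement
open CfsgLib.MacWilliams CfsgLib.MacWilliams.QuatModel

variable {S : Type*} [Group S] [Finite S]

theorem eq_iff (ψ : M →* S) (hker : ∀ m, ψ m = 1 ↔ InK m) (m n : M) : ψ m = ψ n ↔ InK (m⁻¹ * n) := by
  rw [← hker, map_mul, map_inv, inv_mul_eq_one]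

theorem inZ_iff (ψ : M →* S) (hker : ∀ m, ψ m = 1 ↔ InK m) (m : M) (h : InZ m) :
    ψ m = 1 ∨ ψ m = ψ zc := by
  have hzz : ψ zz = 1 := (hker zz).2 (Or.inr rfl)
  rcases h with rfl | rfl | rfl | rfl
  · exact Or.inl (map_one ψ)
  · exact Or.inl hzz
  · exact Or.inr rfl
  · right; rw [map_mul, hzz, mul_one]

/-- Either the centralizer of a good pair is self-centralizing elementary of order 8, or some element
acts on the other pair as a transvection. -/
theorem dichotomy (hS : IsPGroup 2 S) (Q : Subgroup S) (hQC : centralizer (Q : Set S) ≤ Q)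
    (ψ : M →* S) (hrange : ψ.range = Q) (hker : ∀ m, ψ m = 1 ↔ InK m) {p q u v : M} (hg : Good p q u v) :
    (∃ A : Subgroup S, (∀ a ∈ A, a ^ 2 = 1) ∧ Nat.card A = 8 ∧ centralizer (A : Set S) = A) ∨
      ∃ c : S, c * ψ p = ψ p * c ∧ c * ψ q = ψ q * c ∧ c * ψ zc = ψ zc * c ∧
        ∃ ζ : S, (ζ = 1 ∨ ζ = ψ zc) ∧ c * ψ u * c⁻¹ = ψ u * ψ p * ζ := by
  classical
  haveI : Fact (Nat.Prime 2) := ⟨Nat.prime_two⟩
  set A := Q ⊓ centralizer ({ψ p} : Set S) ⊓ centralizer ({ψ q} : Set S) with hA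
  have hmemQ : ∀ m, ψ m ∈ Q := fun m => hrange ▸ ⟨m, rfl⟩
  have hQmem : ∀ x ∈ Q, ∃ m, ψ m = x := fun x hx => by rw [← hrange] at hx; exact hx
  have hmemA : ∀ m, ψ m ∈ A ↔ Cent p q m := fun m => by
    have h : ∀ r, (ψ m ∈ centralizer ({ψ r} : Set S)) ↔ InK ⁅m, r⁆ := fun r => by
      rw [mem_centralizer_singleton_iff, ← hker, map_commutatorElement, commutatorElement_eq_one_iff_mul_comm]
    exact ⟨fun hx => ⟨(h p).1 hx.1.2, (h q).1 hx.2⟩, fun hx => ⟨⟨hmemQ m, (h p).2 hx.1⟩, (h q).2 hx.2⟩⟩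
  have hAQ : A ≤ Q := fun x hx => hx.1.1
  have hA2 : ∀ a ∈ A, a ^ 2 = 1 := fun a ha => by
    obtain ⟨m, rfl⟩ := hQmem a (hAQ ha)
    rw [pow_two, ← map_mul, hker]
    exact hg.square m ((hmemA m).1 ha)
  have hA8 : Nat.card A = 8 := by
    have hmap : (A.comap ψ).map ψ = A :=
      Subgroup.map_comap_eq_self (hAQ.trans hrange.ge)
    have h16 : Nat.card (A.comap ψ) = 16 := by
      have h : Nat.card (A.comap ψ) = Nat.card {m : M // Cent p q m} :=
        Nat.card_congr (Equiv.subtypeEquivRight fun m => (hmemA m))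
      rw [h, Nat.card_eq_fintype_card, Fintype.card_subtype, hg.card]
    have hk : Nat.card ↥(A.comap ψ ⊓ ψ.ker) = 2 := by
      have hle : A.comap ψ ⊓ ψ.ker = zpowers zz := by
        ext m
        rw [Subgroup.mem_inf, MonoidHom.mem_ker, hker, mem_zpowers_of_sq_eq_one (by decide : zz ^ 2 = 1)]
        refine ⟨fun h => h.2, fun h => ⟨?_, h⟩⟩
        show ψ m ∈ A
        rw [(hker m).2 h]; exact one_mem _
      rw [hle, Nat.card_zpowers]
      exact orderOf_eq_prime (by decide) (by decide)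
    have h := card_eq_map_mul_inf_ker ψ (A.comap ψ)
    rw [hmap, h16, hk] at h
    omega
  have hAc : ∀ a ∈ A, ∀ b ∈ A, a * b = b * a := fun a ha b hb => by
    obtain ⟨m, rfl⟩ := hQmem a (hAQ ha)
    obtain ⟨n, rfl⟩ := hQmem b (hAQ hb)
    rw [← commutatorElement_eq_one_iff_mul_comm, ← map_commutatorElement, hker]
    exact hg.comm m ((hmemA m).1 ha) n ((hmemA n).1 hb)
  by_cases hC : centralizer (A : Set S) ≤ A
  · exact Or.inl ⟨A, hA2, hA8, le_antisymm hC fun a ha => mem_centralizer_iff.2 fun b hb => hAc b hb a ha⟩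
  right
  -- `Q` normalizes `A`, hence `C(A)`
  have hQA : ∀ x ∈ Q, ∀ a ∈ A, x * a * x⁻¹ ∈ A := fun x hx a ha => by
    obtain ⟨m, rfl⟩ := hQmem a (hAQ ha)
    obtain ⟨r, rfl⟩ := hQmem x hx
    rw [← map_inv, ← map_mul, ← map_mul, hmemA]
    exact hg.normal m ((hmemA m).1 ha) r
  have hQCA : Q ≤ normalizer ((centralizer (A : Set S) : Subgroup S) : Set S) := by
    intro x hx
    have key : ∀ x ∈ Q, ∀ y ∈ centralizer (A : Set S), x * y * x⁻¹ ∈ centralizer (A : Set S) := by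
      intro x hx y hy
      rw [mem_centralizer_iff]
      intro a ha
      have h := mem_centralizer_iff.1 hy _ (hQA x⁻¹ (inv_mem hx) a ha)
      rw [inv_inv] at h
      calc a * (x * y * x⁻¹) = x * ((x⁻¹ * a * x) * y) * x⁻¹ := by group
        _ = x * y * x⁻¹ * a := by rw [h]; group
    rw [Subgroup.mem_normalizer_iff]
    refine fun y => ⟨key x hx y, fun h => ?_⟩
    have := key x⁻¹ (inv_mem hx) _ h
    simpa [mul_assoc] using this
  set U := centralizer (A : Set S) ⊔ Q with hU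
  have hQU : Q < U := lt_of_le_of_ne le_sup_right fun h => hC fun x hx => by
    have hxQ : x ∈ Q := h ▸ mem_sup_left hx
    have hpA : ψ p ∈ A := (hmemA p).2 hg.p_cent
    have hqA : ψ q ∈ A := (hmemA q).2 hg.q_cent
    exact ⟨⟨hxQ, mem_centralizer_singleton_iff.2 (mem_centralizer_iff.1 hx _ hpA).symm⟩,
      mem_centralizer_singleton_iff.2 (mem_centralizer_iff.1 hx _ hqA).symm⟩
  obtain ⟨y, hyU, hyN, hyQ⟩ : ∃ y ∈ U, (∀ x ∈ Q, y * x * y⁻¹ ∈ Q) ∧ y ∉ Q := by
    haveI : Group.IsNilpotent U := (hS.to_subgroup U).isNilpotent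
    have hne : Q.subgroupOf U < ⊤ := by
      rw [lt_top_iff_ne_top, ne_eq, subgroupOf_eq_top]
      exact hQU.not_ge
    obtain ⟨w, hw, hwQ⟩ := SetLike.exists_of_lt (Group.normalizerCondition_of_isNilpotent (G := U) _ hne)
    refine ⟨w, w.2, fun x hx => ?_, hwQ⟩
    exact (Subgroup.mem_normalizer_iff.1 hw ⟨x, hQU.le hx⟩).1 hx
  obtain ⟨c, hc, x₀, hx₀, rfl⟩ : ∃ c ∈ centralizer (A : Set S), ∃ x₀ ∈ Q, y = c * x₀ := by
    have hset : (↑(centralizer (A : Set S) ⊔ Q) : Set S) = _ :=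
      Subgroup.coe_mul_of_right_le_normalizer_left _ _ hQCA
    rw [hU, ← SetLike.mem_coe, hset] at hyU
    obtain ⟨c, hc, x₀, hx₀, h⟩ := hyU
    exact ⟨c, hc, x₀, hx₀, h.symm⟩
  have hcN : ∀ x ∈ Q, c * x * c⁻¹ ∈ Q := fun x hx => by
    have h := hyN _ (mul_mem (mul_mem (inv_mem hx₀) hx) hx₀)
    simpa [mul_assoc] using h
  have hcQ : c ∉ Q := fun h => hyQ (mul_mem h hx₀)
  have hcp : c * ψ p = ψ p * c := (mem_centralizer_iff.1 hc _ ((hmemA p).2 hg.p_cent)).symm
  have hcq : c * ψ q = ψ q * c := (mem_centralizer_iff.1 hc _ ((hmemA q).2 hg.q_cent)).symm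
  have hcz : c * ψ zc = ψ zc * c := (mem_centralizer_iff.1 hc _ ((hmemA zc).2 hg.zc_cent)).symm
  have hshift : ∀ w, InZ ⁅w, p⁆ → InZ ⁅w, q⁆ → InK (w * w) →
      ∃ m, c * ψ w * c⁻¹ = ψ (w * m) ∧ Shift p q w m := by
    intro w h1 h2 h3
    obtain ⟨n, hn⟩ := hQmem _ (hcN _ (hmemQ w))
    refine ⟨w⁻¹ * n, by rw [mul_inv_cancel_left, hn], ?_, ?_, ?_⟩
    all_goals rw [mul_inv_cancel_left, ← hker]
    · rw [map_mul, map_inv, map_commutatorElement, map_commutatorElement, hn, mul_inv_eq_one]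
      have hcp' : c * ψ p * c⁻¹ = ψ p := by rw [hcp, mul_inv_cancel_right]
      calc ⁅c * ψ w * c⁻¹, ψ p⁆ = c * ⁅ψ w, ψ p⁆ * c⁻¹ := by
            nth_rewrite 1 [← hcp']
            simp only [commutatorElement_def]; group
        _ = ⁅ψ w, ψ p⁆ := by
          rw [← map_commutatorElement]
          rcases inZ_iff ψ hker _ h1 with h | h <;> rw [h]
          · group
          · rw [hcz, mul_inv_cancel_right]
    · rw [map_mul, map_inv, map_commutatorElement, map_commutatorElement, hn, mul_inv_eq_one]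
      have hcq' : c * ψ q * c⁻¹ = ψ q := by rw [hcq, mul_inv_cancel_right]
      calc ⁅c * ψ w * c⁻¹, ψ q⁆ = c * ⁅ψ w, ψ q⁆ * c⁻¹ := by
            nth_rewrite 1 [← hcq']
            simp only [commutatorElement_def]; group
        _ = ⁅ψ w, ψ q⁆ := by
          rw [← map_commutatorElement]
          rcases inZ_iff ψ hker _ h2 with h | h <;> rw [h]
          · group
          · rw [hcz, mul_inv_cancel_right]
    · rw [map_mul, hn, conj_mul, ← map_mul, (hker _).2 h3]
      group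
  obtain ⟨hup, huq, hvp, hvq⟩ := hg.val
  obtain ⟨huu, hvv, huv⟩ := hg.uv
  obtain ⟨m₁, hm₁, hs₁⟩ := hshift u hup huq huu
  obtain ⟨m₂, hm₂, hs₂⟩ := hshift v hvp hvq hvv
  refine ⟨c, hcp, hcq, hcz, ?_⟩
  rcases hg.shift_u m₁ hs₁ with hm | hm
  · -- then `c` acts on `Q` as an element of `A`
    exfalso
    have hpair : InK ⁅u * m₁, v * m₂⁆ := by
      rw [← hker, map_commutatorElement, ← hm₁, ← hm₂,
        show ⁅c * ψ u * c⁻¹, c * ψ v * c⁻¹⁆ = c * ⁅ψ u, ψ v⁆ * c⁻¹ by simp only [commutatorElement_def]; group,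
        ← map_commutatorElement, (hker _).2 huv]
      group
    have hm2 := (hg.pair m₁ hs₁ m₂ hs₂ hpair).1 hm
    obtain ⟨r, hr, hru, hrv⟩ := hg.inner m₁ hm m₂ hm2
    have hrA := (hmemA r).2 hr
    rw [← hker, map_mul, map_inv, mul_inv_eq_one, map_mul, map_mul, map_inv, ← hm₁] at hru
    rw [← hker, map_mul, map_inv, mul_inv_eq_one, map_mul, map_mul, map_inv, ← hm₂] at hrv
    set d := (ψ r)⁻¹ * c with hd
    have hdA : d ∈ centralizer (A : Set S) := mul_mem (inv_mem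
      (mem_centralizer_iff.2 fun a ha => hAc a ha _ hrA)) hc
    have hdfix : ∀ w, c * ψ w * c⁻¹ = ψ r * ψ w * (ψ r)⁻¹ → ψ w * d = d * ψ w := fun w h => by
      rw [hd]
      calc ψ w * ((ψ r)⁻¹ * c) = (ψ r)⁻¹ * (ψ r * ψ w * (ψ r)⁻¹) * c := by group
        _ = (ψ r)⁻¹ * c * ψ w := by rw [← h]; group
    have hdu := hdfix u hru.symm
    have hdv := hdfix v hrv.symm
    have hdz : ψ zc * d = d * ψ zc := mem_centralizer_iff.1 hdA _ ((hmemA zc).2 hg.zc_cent)
    have hdQ : d ∈ centralizer (Q : Set S) := by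
      rw [mem_centralizer_iff]
      intro x hx
      obtain ⟨m, rfl⟩ := hQmem x hx
      obtain ⟨i, j, k, l, hz⟩ := hg.generate m
      set w := p ^ (i : ℕ) * q ^ (j : ℕ) * u ^ (k : ℕ) * v ^ (l : ℕ) with hw
      have hpd : Commute (ψ p) d := mem_centralizer_iff.1 hdA _ ((hmemA p).2 hg.p_cent)
      have hqd : Commute (ψ q) d := mem_centralizer_iff.1 hdA _ ((hmemA q).2 hg.q_cent)
      have hwd : Commute (ψ w) d := by
        rw [hw, map_mul, map_mul, map_mul, map_pow, map_pow, map_pow, map_pow]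
        exact (((hpd.pow_left _).mul_left (hqd.pow_left _)).mul_left ((show Commute _ _ from hdu).pow_left _)).mul_left
          ((show Commute _ _ from hdv).pow_left _)
      have e : ψ m = ψ w * ψ (w⁻¹ * m) := by rw [← map_mul, mul_inv_cancel_left]
      rw [e]
      refine (hwd.mul_left ?_).eq
      rcases inZ_iff ψ hker _ hz with h | h <;> rw [h]
      · exact Commute.one_left d
      · exact hdz
    apply hcQ
    have := mul_mem (hmemQ r) (hQC hdQ)
    rwa [hd, mul_inv_cancel_left] at this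
  · have hp2 : ψ p * ψ p = 1 := by rw [← map_mul, hker]; exact hg.square p hg.p_cent
    refine ⟨ψ (p * m₁), inZ_iff ψ hker _ hm, ?_⟩
    rw [hm₁, map_mul, map_mul, mul_assoc, ← mul_assoc (ψ p), hp2, one_mul]


/-- Let S be a finite 2-group and Q a subgroup of order 32 generated by two elementwise-commuting subgroups Q₁, Q₂ each isomorphic to the quaternion group of order 8 (so Q = Q₁ ∗ Q₂). If C_S(Q) ≤ Q, then every section of S has 2-rank at most 4. -/
theorem result {S : Type*} [Group S] [Finite S] (hS : IsPGroup 2 S) (Q Q₁ Q₂ : Subgroup S) (e₁ : Q₁ ≃* QuaternionGroup 2) (e₂ : Q₂ ≃* QuaternionGroup 2) (hcomm : ∀ a ∈ Q₁, ∀ b ∈ Q₂, a * b = b * a) (hQ : Q₁ ⊔ Q₂ = Q) (hQ32 : Nat.card Q = 32) (hC : Subgroup.centralizer (Q : Set S) ≤ Q) : Cfsg.SectionalPRankLE 2 4 S := by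
  classical
  haveI : Fact (Nat.Prime 2) := ⟨Nat.prime_two⟩
  -- the model
  let f₁ : QuaternionGroup 2 →* S := Q₁.subtype.comp e₁.symm.toMonoidHom
  let f₂ : QuaternionGroup 2 →* S := Q₂.subtype.comp e₂.symm.toMonoidHom
  have hf : ∀ a b, Commute (f₁ a) (f₂ b) := fun a b => hcomm _ (e₁.symm a).2 _ (e₂.symm b).2
  let ψ : M →* S := f₁.noncommCoprod f₂ hf
  have hψ : ∀ m : M, ψ m = f₁ m.1 * f₂ m.2 := fun _ => rfl
  have hf₁r : f₁.range = Q₁ := by
    rw [MonoidHom.range_comp, MonoidHom.range_eq_top.2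
      (show Function.Surjective e₁.symm.toMonoidHom from e₁.symm.surjective), ← MonoidHom.range_eq_map,
      Subgroup.range_subtype]
  have hf₂r : f₂.range = Q₂ := by
    rw [MonoidHom.range_comp, MonoidHom.range_eq_top.2
      (show Function.Surjective e₂.symm.toMonoidHom from e₂.symm.surjective), ← MonoidHom.range_eq_map,
      Subgroup.range_subtype]
  have hrange : ψ.range = Q := by
    rw [MonoidHom.noncommCoprod_range, hf₁r, hf₂r, hQ]
  have hf₁i : Function.Injective f₁ := Q₁.subtype_injective.comp e₁.symm.injective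
  have hf₂i : Function.Injective f₂ := Q₂.subtype_injective.comp e₂.symm.injective
  have hker : ∀ m, ψ m = 1 ↔ InK m := by
    have hsub : ∀ m, ψ m = 1 → InK m := by
      rintro ⟨p, q⟩ h
      rw [hψ, mul_eq_one_iff_eq_inv] at h
      have hp : ∀ r, p * r = r * p := fun r => hf₁i (by
        rw [map_mul, map_mul]
        have hc : Commute (f₁ r) (f₂ q)⁻¹ := (hf r q).inv_right
        rw [h]; exact hc.symm.eq)
      have hq : ∀ r, q * r = r * q := fun r => hf₂i (by
        rw [map_mul, map_mul]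
        have hc : Commute (f₁ p)⁻¹ (f₂ r) := (hf p r).inv_left
        have h' : f₂ q = (f₁ p)⁻¹ := by
          rw [show f₁ p = (f₂ q)⁻¹ from h, inv_inv]
        rw [h']; exact hc.eq)
      rcases central_cases p hp with rfl | rfl <;> rcases central_cases q hq with rfl | rfl
      · exact Or.inl rfl
      · exact absurd (hf₂i (show f₂ (QuaternionGroup.a 2) = f₂ 1 by
          have h' : f₁ 1 = (f₂ (QuaternionGroup.a 2))⁻¹ := h
          rw [map_one] at h'; rw [map_one, ← inv_eq_one, ← h'])) (by decide)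
      · exact absurd (hf₁i (show f₁ (QuaternionGroup.a 2) = f₁ 1 by
          have h' : f₁ (QuaternionGroup.a 2) = (f₂ 1)⁻¹ := h
          rw [h', map_one, map_one, inv_one])) (by decide)
      · exact Or.inr rfl
    have hle : ψ.ker ≤ Subgroup.zpowers zz := fun m hm =>
      (mem_zpowers_of_sq_eq_one (by decide : zz ^ 2 = 1)).2 (hsub m hm)
    have hcard : Nat.card ψ.ker = 2 := by
      have h := ψ.ker.card_mul_index
      rw [Subgroup.index_ker, hrange, hQ32, show Nat.card M = 64 by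
        rw [Nat.card_eq_fintype_card]; decide +kernel] at h
      omega
    have heq : ψ.ker = Subgroup.zpowers zz := Subgroup.eq_of_le_of_card_ge hle (by
      rw [hcard, Nat.card_zpowers, orderOf_eq_prime (by decide : zz ^ 2 = 1) (by decide : zz ≠ 1)])
    intro m
    refine ⟨hsub m, fun h => ?_⟩
    rw [← MonoidHom.mem_ker, heq, mem_zpowers_of_sq_eq_one (by decide : zz ^ 2 = 1)]
    exact h
  have hfinish : ∀ A : Subgroup S, (∀ a ∈ A, a ^ 2 = 1) → Nat.card A = 8 →
      Subgroup.centralizer (A : Set S) = A → Cfsg.SectionalPRankLE 2 4 S := fun A h2 h8 hc =>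
    sectionalPRankLE_two_of_sq_index 4 fun H N hNH hsq =>
      card_le_of_self_centralizing_eight hS h2 h8 hc H N hNH hsq
  rcases dichotomy hS Q hC ψ hrange hker good_A with ⟨A, h2, h8, hc⟩ | ⟨c, hca, -, hcz, ζ, hζ, hcu⟩
  · exact hfinish A h2 h8 hc
  rcases dichotomy hS Q hC ψ hrange hker good_U with ⟨A, h2, h8, hc⟩ | ⟨d, hdu, -, hdz, η, hη, hda⟩
  · exact hfinish A h2 h8 hc
  -- two transvections give an element of order divisible by 3
  exfalso
  set a := ψ A1
  set u := ψ U1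
  set z := ψ zc
  have haa : a * a = 1 := by rw [← map_mul, hker]; decide +kernel
  have huu : u * u = 1 := by rw [← map_mul, hker]; decide +kernel
  have hau : a * u = u * a := by
    rw [← commutatorElement_eq_one_iff_mul_comm, ← map_commutatorElement, hker]; decide +kernel
  have hza : z * a = a * z := by
    rw [← commutatorElement_eq_one_iff_mul_comm, ← map_commutatorElement, hker]; decide +kernel
  have hzu : z * u = u * z := by
    rw [← commutatorElement_eq_one_iff_mul_comm, ← map_commutatorElement, hker]; decide +kernel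
  have hzz : z * z = 1 := by rw [← map_mul, hker]; decide +kernel
  have hpz : ∀ w, (w = 1 ∨ w = z) → (∀ g : S, g * z = z * g → g * w * g⁻¹ = w) := fun w hw g hg => by
    rcases hw with rfl | rfl
    · group
    · rw [hg, mul_inv_cancel_right]
  set g := c * d with hgdef
  have hgz : g * z = z * g := by rw [hgdef, mul_assoc, hdz, ← mul_assoc, hcz, mul_assoc]
  let X : ℕ → S := fun n => if n % 3 = 0 then a else if n % 3 = 1 then u else u * a
  have hzw : ∀ w, (w = 1 ∨ w = z) → ∀ w', (w' = 1 ∨ w' = z) → (w * w' = 1 ∨ w * w' = z) := by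
    rintro w (rfl | rfl) w' (rfl | rfl) <;> simp [hzz]
  have hzc : ∀ w, (w = 1 ∨ w = z) → (w * a = a * w ∧ w * u = u * w) := by
    rintro w (rfl | rfl)
    · simp
    · exact ⟨hza, hzu⟩
  have hga : ∃ w, (w = 1 ∨ w = z) ∧ g * a * g⁻¹ = u * w := by
    refine ⟨ζ * η, hzw ζ hζ η hη, ?_⟩
    have hca' : c * a * c⁻¹ = a := by rw [hca, mul_inv_cancel_right]
    calc g * a * g⁻¹ = c * (d * a * d⁻¹) * c⁻¹ := by rw [hgdef]; group
      _ = c * a * c⁻¹ * (c * u * c⁻¹) * (c * η * c⁻¹) := by rw [hda]; group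
      _ = a * (u * a * ζ) * η := by rw [hca', hcu, hpz η hη c hcz]
      _ = a * u * a * (ζ * η) := by group
      _ = u * (ζ * η) := by rw [hau, mul_assoc u a a, haa, mul_one]
  have hgu : g * u * g⁻¹ = u * a * ζ := by
    have hdu' : d * u * d⁻¹ = u := by rw [hdu, mul_inv_cancel_right]
    calc g * u * g⁻¹ = c * (d * u * d⁻¹) * c⁻¹ := by rw [hgdef]; group
      _ = u * a * ζ := by rw [hdu', hcu]
  have hiter : ∀ n : ℕ, ∃ w, (w = 1 ∨ w = z) ∧ g ^ n * a * (g ^ n)⁻¹ = X n * w := by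
    intro n
    induction n with
    | zero => exact ⟨1, Or.inl rfl, by simp [X]⟩
    | succ n ih =>
      obtain ⟨w, hw, h⟩ := ih
      obtain ⟨w₁, hw₁, h₁⟩ := hga
      have hstep : ∃ w₂, (w₂ = 1 ∨ w₂ = z) ∧ g * X n * g⁻¹ = X (n + 1) * w₂ := by
        rcases (by omega : n % 3 = 0 ∨ n % 3 = 1 ∨ n % 3 = 2) with h3 | h3 | h3
        · refine ⟨w₁, hw₁, ?_⟩
          simp only [X, h3, show (n + 1) % 3 = 1 by omega]
          simpa using h₁
        · refine ⟨ζ, hζ, ?_⟩
          simp only [X, h3, show (n + 1) % 3 = 2 by omega]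
          simpa using hgu
        · refine ⟨ζ * w₁, hzw ζ hζ w₁ hw₁, ?_⟩
          simp only [X, h3, show (n + 1) % 3 = 0 by omega]
          norm_num
          calc g * (u * a) * g⁻¹ = (g * u * g⁻¹) * (g * a * g⁻¹) := conj_mul.symm
            _ = u * (a * (ζ * u)) * w₁ := by rw [hgu, h₁]; group
            _ = u * (u * (a * ζ)) * w₁ := by rw [(hzc ζ hζ).2, ← mul_assoc a u ζ, hau, mul_assoc u a ζ]
            _ = a * (ζ * w₁) := by rw [← mul_assoc u u, huu, one_mul, mul_assoc]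
      obtain ⟨w₂, hw₂, h₂⟩ := hstep
      refine ⟨w₂ * w, hzw w₂ hw₂ w hw, ?_⟩
      calc g ^ (n + 1) * a * (g ^ (n + 1))⁻¹ = g * (g ^ n * a * (g ^ n)⁻¹) * g⁻¹ := by
            rw [pow_succ']; group
        _ = (g * X n * g⁻¹) * (g * w * g⁻¹) := by rw [h, conj_mul]
        _ = X (n + 1) * (w₂ * w) := by rw [h₂, hpz w hw g hgz, mul_assoc]
  obtain ⟨k, hk⟩ := hS g
  obtain ⟨w, hw, h⟩ := hiter (2 ^ k)
  rw [hk, one_mul, inv_one, mul_one] at h
  obtain ⟨mw, hmw, hmwψ⟩ : ∃ m, InZ m ∧ ψ m = w := by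
    rcases hw with rfl | rfl
    · exact ⟨1, Or.inl rfl, map_one ψ⟩
    · exact ⟨zc, Or.inr (Or.inr (Or.inl rfl)), rfl⟩
  have hInZ : ∀ X' : M, ψ A1 = ψ X' * w → InZ (A1⁻¹ * X') := by
    intro X' hX
    rw [← hmwψ, ← map_mul, eq_iff ψ hker] at hX
    have key : ∀ m : M, InZ m → ∀ n : M, InK n → InZ (n * m⁻¹) := by decide +kernel
    have e : A1⁻¹ * X' = A1⁻¹ * (X' * mw) * mw⁻¹ := by group
    rw [e]
    exact key mw hmw _ hX
  have h3 : 2 ^ k % 3 ≠ 0 := fun hd =>
    absurd (Nat.Prime.dvd_of_dvd_pow Nat.prime_three (Nat.dvd_of_mod_eq_zero hd)) (by norm_num)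
  rcases (by omega : 2 ^ k % 3 = 1 ∨ 2 ^ k % 3 = 2) with h' | h' <;> simp [X, h'] at h
  · exact not_rel.1 (hInZ U1 h)
  · exact not_rel.2 (hInZ (U1 * A1) (by rw [map_mul]; exact h))

end Cfsg.Agent.S1233
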