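import Cfsg.Statements.S1234
import Cfsg.Agent.Lib.MacWilliams.NormalEight

set_option autoImplicit false
open Cfsg

namespace Cfsg.Agent.S1234

/-- Let S be a finite 2-group and Q ≤ S a subgroup of order 32 having an elementary abelian subgroup E of order 16 and an involution s ∉ E whose centralizer in E has order 4 (so Q ≅ (Z₂ × Z₂) ≀ Z₂). If C_S(Z(Q)) = Q, then every section of S has 2-rank at most 4. -/
theorem result {S : Type*} [Group S] [Finite S] (hS : IsPGroup 2 S) (Q E : Subgroup S) (hEQ : E ≤ Q) (hE : Cfsg.IsElementaryAbelian 2 E) (hE16 : Nat.card E = 16) (hQ32 : Nat.card Q = 32) (s : S) (hsQ : s ∈ Q) (hsE : s ∉ E) (hs : orderOf s = 2) (hfix : Nat.card ↥(E ⊓ Subgroup.centralizer ({s} : Set S)) = 4) (hC : Subgroup.centralizer (((Subgroup.center Q).map Q.subtype : Subgroup S) : Set S) = Q) : Cfsg.SectionalPRankLE 2 4 S := by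
  classical
  have hEcomm : ∀ a ∈ E, ∀ b ∈ E, a * b = b * a := fun a ha b hb => by
    haveI := hE.1
    exact congrArg Subtype.val (mul_comm' (⟨a, ha⟩ : E) ⟨b, hb⟩)
  have hs2 : s ^ 2 = 1 := hs ▸ pow_orderOf_eq_one s
  set F := E ⊓ Subgroup.centralizer ({s} : Set S) with hF
  -- `E` has index 2 in `Q`
  have hidx : (E.subgroupOf Q).index = 2 := by
    have h := (E.subgroupOf Q).card_mul_index
    rw [Nat.card_congr (Subgroup.subgroupOfEquivOfLe hEQ).toEquiv, hE16, hQ32] at h
    omega
  have hQE : ∀ x ∈ Q, x ∈ E ∨ x * s ∈ E := by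
    intro x hx
    by_cases h : x ∈ E
    · exact Or.inl h
    · right
      exact (Subgroup.mul_mem_iff_of_index_two hidx (a := (⟨x, hx⟩ : Q)) (b := ⟨s, hsQ⟩)).2
        (iff_of_false h hsE)
  have hsnotcent : ∃ e ∈ E, e * s ≠ s * e := by
    by_contra! h
    have : F = E := inf_eq_left.2 fun e he => Subgroup.mem_centralizer_singleton_iff.2 (h e he)
    rw [this, hE16] at hfix
    norm_num at hfix
  -- the centre of `Q` lies in `F`
  have hZF : (Subgroup.center Q).map Q.subtype ≤ F := by
    rintro _ ⟨x, hx, rfl⟩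
    have hc : ∀ y ∈ Q, y * (x : S) = x * y := fun y hy =>
      congrArg Subtype.val (Subgroup.mem_center_iff.1 hx ⟨y, hy⟩)
    rcases hQE x x.2 with h | h
    · exact ⟨h, Subgroup.mem_centralizer_singleton_iff.2 (hc s hsQ).symm⟩
    · exfalso
      obtain ⟨e, he, hne⟩ := hsnotcent
      apply hne
      have h1 := hEcomm e he _ h
      have h2 := hc e (hEQ he)
      have : (x : S) * (e * s) = x * (s * e) := by
        calc (x : S) * (e * s) = e * ((x : S) * s) := by rw [← mul_assoc, ← h2, mul_assoc]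
          _ = x * (s * e) := by rw [h1, mul_assoc]
      exact mul_left_cancel this
  -- `A = F ⟨s⟩`
  have hFc : ∀ f ∈ F, f * s = s * f := fun f hf => Subgroup.mem_centralizer_singleton_iff.1 hf.2
  let A : Subgroup S := Subgroup.closure (insert s (F : Set S))
  have hsA : s ∈ A := Subgroup.subset_closure (Set.mem_insert _ _)
  have hFA : F ≤ A := fun f hf => Subgroup.subset_closure (Set.mem_insert_of_mem _ hf)
  haveI hAc : IsMulCommutative A := by
    refine Subgroup.isMulCommutative_closure ?_
    intro a ha b hb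
    rcases Set.mem_insert_iff.1 ha with ha | ha <;> rcases Set.mem_insert_iff.1 hb with hb | hb
    · rw [ha, hb]
    · rw [ha]; exact (hFc b hb).symm
    · rw [hb]; exact hFc a ha
    · exact hEcomm a ha.1 b hb.1
  have hA2 : ∀ a ∈ A, a ^ 2 = 1 := by
    intro a ha
    induction ha using Subgroup.closure_induction with
    | mem v hv =>
      rcases Set.mem_insert_iff.1 hv with hv | hv
      · rw [hv]; exact hs2
      · exact hE.2 v hv.1
    | one => exact one_pow 2
    | mul u v hu hv ihu ihv =>
      have : Commute u v := congrArg Subtype.val (mul_comm' (⟨u, hu⟩ : A) ⟨v, hv⟩)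
      rw [this.mul_pow, ihu, ihv, one_mul]
    | inv u _ ihu => rw [inv_pow, ihu, inv_one]
  have hAQ : A ≤ Q := (Subgroup.closure_le Q).2 (Set.insert_subset hsQ fun f hf => hEQ hf.1)
  have hQ : Subgroup.centralizer (A : Set S) ≤ Q := by
    refine le_trans (Subgroup.centralizer_le ?_) hC.le
    exact fun x hx => hFA (hZF hx)
  have hCA : Subgroup.centralizer (A : Set S) = A := by
    refine le_antisymm ?_ fun a ha => Subgroup.mem_centralizer_iff.2 fun b hb =>
      congrArg Subtype.val (mul_comm' (⟨b, hb⟩ : A) ⟨a, ha⟩)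
    intro x hx
    have hxs : s * x = x * s := Subgroup.mem_centralizer_iff.1 hx s hsA
    rcases hQE x (hQ hx) with h | h
    · exact hFA ⟨h, Subgroup.mem_centralizer_singleton_iff.2 hxs.symm⟩
    · have hm : x * s ∈ F := ⟨h, Subgroup.mem_centralizer_singleton_iff.2 (by rw [← mul_assoc, hxs])⟩
      simpa using mul_mem (hFA hm) (inv_mem hsA)
  have hA8 : Nat.card A = 8 := by
    have hsub : (A : Set S) = (A : Set S) := rfl
    have hidxA : ((E ⊓ A).subgroupOf A).index = 2 := by
      rw [show (E ⊓ A).subgroupOf A = E.subgroupOf A from Subgroup.inf_subgroupOf_right E A]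
      rw [Subgroup.index_eq_two_iff]
      refine ⟨⟨s, hsA⟩, fun b => ?_⟩
      rcases hQE b (hAQ b.2) with h | h
      · refine Or.inr ⟨h, fun h' => hsE ?_⟩
        have : ((b : S))⁻¹ * ((b : S) * s) ∈ E := E.mul_mem (E.inv_mem h) h'
        simpa using this
      · refine Or.inl ⟨h, fun h' => hsE ?_⟩
        have : ((b : S))⁻¹ * ((b : S) * s) ∈ E := E.mul_mem (E.inv_mem h') h
        simpa using this
    have hEA : E ⊓ A = F := le_antisymm (fun x hx => ⟨hx.1, Subgroup.mem_centralizer_singleton_iff.2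
      (congrArg Subtype.val (mul_comm' (⟨x, hx.2⟩ : A) ⟨s, hsA⟩))⟩) (le_inf inf_le_left hFA)
    have h := ((E ⊓ A).subgroupOf A).card_mul_index
    rw [Nat.card_congr (Subgroup.subgroupOfEquivOfLe inf_le_right).toEquiv, hidxA, hEA, hfix] at h
    omega
  exact CfsgLib.MacWilliams.sectionalPRankLE_two_of_sq_index 4 fun H N hNH hsq =>
    CfsgLib.MacWilliams.card_le_of_self_centralizing_eight hS hA2 hA8 hCA H N hNH hsq

end Cfsg.Agent.S1234
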