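import Cfsg.Statements.S1235
import Cfsg.Agent.Lib.HaradaFour.Main
-- import your own Cfsg.Agent.* helpers here

set_option autoImplicit false
open Cfsg

namespace Cfsg.Agent.S1235

open Subgroup

/-- Presentation data for a dihedral or semidihedral subgroup of a 2-group. -/
theorem dihedral_data {G : Type*} [Group G] [Finite G] (D : Subgroup G) (h2 : IsPGroup 2 D)
    (hD : (∃ m : ℕ, 2 ≤ m ∧ Nonempty (D ≃* DihedralGroup m)) ∨ Cfsg.IsQuasiDihedral D) :
    ∃ (n k : ℕ) (x y : D), 1 ≤ n ∧ orderOf x = 2 ^ n ∧ Nat.card D = 2 ^ (n + 1) ∧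
      y * x * y⁻¹ = x ^ k ∧ ((n = 1 ∧ ∀ d : D, d ^ 2 = 1) ∨ (2 ≤ n ∧ k % 4 = 3)) := by
  haveI : Fact (Nat.Prime 2) := ⟨Nat.prime_two⟩
  rcases hD with ⟨m, hm, ⟨e⟩⟩ | ⟨n, hn, hcard, x, y, hx, -, hyx⟩
  · haveI : NeZero m := ⟨by omega⟩
    obtain ⟨j, hj⟩ := IsPGroup.iff_card.1 h2
    rw [Nat.card_congr e.toEquiv, DihedralGroup.nat_card] at hj
    obtain ⟨n, -, rfl⟩ := (Nat.dvd_prime_pow Nat.prime_two).1 (hj ▸ Dvd.intro_left 2 rfl : m ∣ 2 ^ j)
    have hn1 : 1 ≤ n := by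
      rcases Nat.eq_zero_or_pos n with rfl | h
      · simp at hm
      · exact h
    refine ⟨n, 2 ^ n - 1, e.symm (DihedralGroup.r 1), e.symm (DihedralGroup.sr 0), hn1, ?_, ?_, ?_, ?_⟩
    · rw [MulEquiv.orderOf_eq, DihedralGroup.orderOf_r_one]
    · rw [Nat.card_congr e.toEquiv, DihedralGroup.nat_card, pow_succ, mul_comm]
    · rw [← map_mul, ← map_inv, ← map_mul, ← map_pow, DihedralGroup.r_one_pow]
      congr 1
      rw [DihedralGroup.inv_sr, DihedralGroup.sr_mul_r, DihedralGroup.sr_mul_sr,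
        Nat.cast_sub Nat.one_le_two_pow, ZMod.natCast_self]
      simp
    · rcases Nat.lt_or_ge n 2 with h | h
      · refine Or.inl ⟨by omega, fun d => ?_⟩
        obtain rfl : n = 1 := by omega
        apply e.injective
        rw [map_pow, map_one]
        have : ∀ g : DihedralGroup (2 ^ 1), g ^ 2 = 1 := by decide
        exact this _
      · refine Or.inr ⟨h, ?_⟩
        obtain ⟨l, rfl⟩ : ∃ l, n = l + 2 := ⟨n - 2, by omega⟩
        have : 0 < 2 ^ l := Nat.two_pow_pos l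
        rw [pow_add]
        omega
  · refine ⟨n, 2 ^ (n - 1) - 1, x, y, by omega, hx, hcard, hyx, Or.inr ⟨by omega, ?_⟩⟩
    obtain ⟨l, rfl⟩ : ∃ l, n = l + 3 := ⟨n - 3, by omega⟩
    have : 0 < 2 ^ l := Nat.two_pow_pos l
    rw [show l + 3 - 1 = l + 2 by omega, pow_add]
    omega

/-- The centre of a nonabelian dihedral or semidihedral 2-group has order 2. -/
theorem center_small {D : Type*} [Group D] [Finite D] {n k : ℕ} (hn : 2 ≤ n) (hk : k % 4 = 3)
    (x y : D) (hx : orderOf x = 2 ^ n) (hcard : Nat.card D = 2 ^ (n + 1))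
    (hyx : y * x * y⁻¹ = x ^ k) :
    ∀ d ∈ center D, d = 1 ∨ d = x ^ (2 ^ (n - 1)) := by
  intro d hd
  have hidx : (zpowers x).index = 2 := by
    have h := card_mul_index (zpowers x)
    rw [Nat.card_zpowers, hx, hcard, pow_succ] at h
    exact Nat.eq_of_mul_eq_mul_left (Nat.two_pow_pos n) h
  have hkne : x ^ k ≠ x := by
    intro h
    have h' : x ^ k = x ^ 1 := h.trans (pow_one x).symm
    rw [pow_eq_pow_iff_modEq, hx] at h'
    have h4 : k ≡ 1 [MOD 4] := h'.of_dvd (by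
      obtain ⟨l, rfl⟩ : ∃ l, n = 2 + l := ⟨n - 2, by omega⟩
      rw [pow_add]; exact Dvd.intro _ rfl)
    unfold Nat.ModEq at h4
    omega
  have hyx' : ¬ Commute y x := fun h => hkne (by rw [← hyx, h.eq, mul_inv_cancel_right])
  have hy : y ∉ zpowers x := fun h => by
    obtain ⟨i, rfl⟩ := h
    exact hyx' ((Commute.refl x).zpow_left i)
  have hdx : d ∈ zpowers x := by
    by_contra hdx
    have hdy : d * y ∈ zpowers x :=
      (mul_mem_iff_of_index_two hidx).2 (iff_of_false hdx hy)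
    obtain ⟨i, hi⟩ := hdy
    apply hyx'
    have hy' : y = d⁻¹ * x ^ i := by
      have hi' : x ^ i = d * y := hi
      rw [hi']; group
    rw [hy']
    have hdc : Commute d x := ((mem_center_iff.1 hd) x).symm
    exact hdc.inv_left.mul_left ((Commute.refl x).zpow_left i)
  rw [← mem_powers_iff_mem_zpowers] at hdx
  obtain ⟨i, hi⟩ := hdx
  have hi' : x ^ i = d := hi
  subst hi'
  have h1 : x ^ (k * i) = x ^ i := by
    rw [pow_mul, ← hyx, conj_pow, (mem_center_iff.1 hd) y, mul_inv_cancel_right]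
  rw [pow_eq_pow_iff_modEq, hx] at h1
  obtain ⟨q, rfl⟩ : ∃ q, k = 4 * q + 3 := ⟨k / 4, by omega⟩
  have h2 : 2 ^ n ∣ (2 * (2 * q + 1)) * i := by
    have h3 := (Nat.modEq_iff_dvd' (Nat.le_mul_of_pos_left i (by omega : 0 < 4 * q + 3))).1 h1.symm
    rwa [show (4 * q + 3) * i - i = 2 * (2 * q + 1) * i by
      rw [show (4 * q + 3) * i = 2 * (2 * q + 1) * i + i by ring, Nat.add_sub_cancel]] at h3
  obtain ⟨l, rfl⟩ : ∃ l, n = l + 1 := ⟨n - 1, by omega⟩
  rw [pow_succ', mul_assoc, Nat.mul_dvd_mul_iff_left two_pos] at h2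
  have hcop : (2 ^ l).Coprime (2 * q + 1) :=
    Nat.Coprime.pow_left l (Nat.coprime_two_left.2 ⟨q, rfl⟩)
  obtain ⟨r, rfl⟩ := hcop.dvd_of_dvd_mul_left h2
  rw [show l + 1 - 1 = l by omega, pow_mul]
  have hz2 : (x ^ 2 ^ l) ^ 2 = 1 := by
    rw [← pow_mul, ← pow_succ, ← hx, pow_orderOf_eq_one]
  rcases Nat.even_or_odd' r with ⟨s, rfl | rfl⟩
  · left; rw [pow_mul, hz2, one_pow]
  · right; rw [pow_succ, pow_mul, hz2, one_pow, one_mul]


/-- Let G be a finite group, x an involution and T ≤ G a Sylow 2-subgroup of C_G(x) (T ≤ C_G(x) with |C_G(x) : T| odd) which is the internal direct product of a subgroup D that is dihedral (of order ≥ 4) or quasi-dihedral and a Klein four-subgroup B. Suppose that for every involution b ∈ B, T ≤ C_G(b) with |C_G(b) : T| odd. Then every section of G has 2-rank at most 4. -/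
theorem result {G : Type*} [Group G] [Finite G] (x : G) (hx : orderOf x = 2) (T D B : Subgroup G) (hT : IsPGroup 2 T) (hTx : T ≤ Subgroup.centralizer ({x} : Set G)) (hTxi : Odd (T.relIndex (Subgroup.centralizer ({x} : Set G)))) (hprod : Cfsg.IsInternalDirectProduct D B T) (hD : (∃ m : ℕ, 2 ≤ m ∧ Nonempty (D ≃* DihedralGroup m)) ∨ Cfsg.IsQuasiDihedral D) (hB : IsKleinFour B) (hTb : ∀ b ∈ B, orderOf b = 2 → T ≤ Subgroup.centralizer ({b} : Set G) ∧ Odd (T.relIndex (Subgroup.centralizer ({b} : Set G)))) : Cfsg.SectionalPRankLE 2 4 G := by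
  haveI : Fact (Nat.Prime 2) := ⟨Nat.prime_two⟩
  obtain ⟨hDT, hBT, hcomm, hdisj, hsup⟩ := hprod
  have hB4 : Nat.card B = 4 := hB.card_four
  have hB2 : ∀ b ∈ B, b ^ 2 = 1 := fun b hb => by
    have h : (⟨b, hb⟩ : B) ^ Monoid.exponent B = 1 := Monoid.pow_exponent_eq_one _
    rw [hB.exponent_two] at h
    exact congrArg Subtype.val h
  have hBc : ∀ a ∈ B, ∀ b ∈ B, a * b = b * a := fun a ha b hb =>
    congrArg Subtype.val (CfsgLib.HaradaFour.comm_of_sq (G := B)
      (fun g => Subtype.ext (hB2 g g.2)) ⟨a, ha⟩ ⟨b, hb⟩)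
  have hcm : ∀ (d : D) (b : B), Commute (D.subtype d) (B.subtype b) := fun d b =>
    hcomm d d.2 b b.2
  let ψ : D × B →* G := D.subtype.noncommCoprod B.subtype hcm
  have hψ : Function.Injective ψ := fun p q h =>
    Subgroup.mul_injective_of_disjoint (disjoint_iff.2 hdisj) h
  have hrange : ψ.range = T := by
    show (D.subtype.noncommCoprod B.subtype _).range = T
    rw [MonoidHom.noncommCoprod_range, range_subtype, range_subtype, hsup]
  have hTmem : ∀ t ∈ T, ∃ (d : D) (b : B), t = (d : G) * b := fun t ht => by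
    obtain ⟨⟨d, b⟩, rfl⟩ := hrange.ge ht
    exact ⟨d, b, rfl⟩
  have hTcard : Nat.card T = Nat.card D * 4 := by
    rw [← hrange, Nat.card_congr (MonoidHom.ofInjective hψ).toEquiv.symm, Nat.card_prod, hB4]
  have hTB : ∀ t ∈ T, ∀ b ∈ B, t * b = b * t := by
    intro t ht b hb
    obtain ⟨d, b', rfl⟩ := hTmem t ht
    calc (d : G) * b' * b = d * (b * b') := by rw [mul_assoc, hBc b' b'.2 b hb]
      _ = b * (d * b') := by rw [← mul_assoc, hcomm d d.2 b hb, mul_assoc]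
  obtain ⟨n, k, x₀, y₀, hn, hx₀, hDcard, hyx, halt⟩ :=
    dihedral_data D (hT.to_le hDT) hD
  obtain ⟨S, hTS⟩ := hT.exists_le_sylow
  refine CfsgLib.HaradaFour.sectional_of_sylow 4 S ?_
  have hCb : ∀ b ∈ B, b ≠ 1 → ∀ g ∈ (S : Subgroup G), g * b = b * g → g ∈ T := by
    intro b hb hb1 g hgS hgb
    obtain ⟨hTC, hodd⟩ := hTb b hb (orderOf_eq_prime (hB2 b hb) hb1)
    set L := (S : Subgroup G) ⊓ centralizer ({b} : Set G) with hL
    have hTL : T ≤ L := le_inf hTS hTC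
    obtain ⟨j, hj⟩ := IsPGroup.iff_card.1 (S.isPGroup'.to_le (inf_le_left : L ≤ S))
    have hd : T.relIndex L ∣ T.relIndex (centralizer ({b} : Set G)) :=
      Dvd.intro _ (relIndex_mul_relIndex T L _ hTL inf_le_right)
    have hd2 : T.relIndex L ∣ 2 ^ j := hj ▸ (T.subgroupOf L).index_dvd_card
    obtain ⟨i, -, hi⟩ := (Nat.dvd_prime_pow Nat.prime_two).1 hd2
    have h1 : T.relIndex L = 1 := by
      rcases Nat.eq_zero_or_pos i with rfl | hi0
      · exact hi
      · exact absurd (hodd.of_dvd_nat hd) (by rw [hi]; exact Nat.not_odd_iff_even.2 ((Nat.even_pow).2 ⟨even_two, hi0.ne'⟩))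
    exact relIndex_eq_one.1 h1 ⟨hgS, mem_centralizer_singleton_iff.2 hgb⟩
  have hcardSub : ∀ L : Subgroup G, L ≤ S → Nat.card (L.subgroupOf S) = Nat.card L := fun L hL =>
    Nat.card_congr (subgroupOfEquivOfLe hL).toEquiv
  have hxS : (x₀ : G) ∈ (S : Subgroup G) := hTS (hDT x₀.2)
  refine CfsgLib.HaradaFour.sectional_le_four S.isPGroup' (T.subgroupOf S) (B.subgroupOf S)
    (fun b hb => hBT hb) ((hcardSub B (hBT.trans hTS)).trans hB4)
    (fun b hb => Subtype.ext (hB2 b hb)) (fun t ht b hb => Subtype.ext (hTB t ht b hb))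
    (fun b hb hb1 g hg => hCb b hb (fun h => hb1 (Subtype.ext h)) g g.2 (congrArg Subtype.val hg))
    ⟨x₀, hxS⟩ (hDT x₀.2) ?_ ?_ ?_
  · rw [eq_bot_iff]
    rintro v ⟨hv, hvB⟩
    obtain ⟨i, rfl⟩ := mem_zpowers_iff.1 hv
    apply Subtype.ext
    refine (mem_bot (G := G)).1 (hdisj ▸ mem_inf.2 ⟨?_, hvB⟩)
    rw [SubgroupClass.coe_zpow]
    exact D.zpow_mem x₀.2 i
  · rw [hcardSub T hTS, hTcard, hDcard, Subgroup.orderOf_mk, Subgroup.orderOf_coe, hx₀, pow_succ]
    omega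
  rcases halt with ⟨rfl, he⟩ | ⟨hn2, hk⟩
  · refine Or.inl ⟨by rw [hcardSub T hTS, hTcard, hDcard]; norm_num, fun t ht => ?_⟩
    obtain ⟨d, b, htdb⟩ := hTmem t ht
    apply Subtype.ext
    rw [SubgroupClass.coe_pow, htdb, Commute.mul_pow (hcomm d d.2 b b.2), hB2 b b.2, mul_one]
    exact congrArg Subtype.val (he d)
  · refine Or.inr ⟨⟨x₀, hxS⟩ ^ (2 ^ (n - 1)), Subtype.ext ?_, fun t ht hc => ?_⟩
    · have h : (x₀ ^ (2 ^ (n - 1))) ^ 2 = 1 := by
        rw [← pow_mul, ← pow_succ, show n - 1 + 1 = n by omega, ← hx₀, pow_orderOf_eq_one]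
      simpa using congrArg Subtype.val h
    obtain ⟨d, b, htdb⟩ := hTmem t ht
    have hdc : d ∈ center D := mem_center_iff.2 fun d' => by
      apply Subtype.ext
      have h := congrArg Subtype.val (hc ⟨d', hTS (hDT d'.2)⟩ (hDT d'.2))
      rw [Subgroup.coe_mul, Subgroup.coe_mul, htdb] at h
      apply mul_right_cancel (b := (b : G))
      rw [Subgroup.coe_mul, Subgroup.coe_mul, mul_assoc, h, mul_assoc, mul_assoc,
        ← hcomm d' d'.2 b b.2]
    have hbS : (b : G) ∈ (S : Subgroup G) := hTS (hBT b.2)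
    rcases center_small hn2 hk x₀ y₀ hx₀ hDcard hyx d hdc with rfl | rfl
    · refine ⟨1, Or.inl rfl, ⟨b, hbS⟩, b.2, Subtype.ext ?_, by rw [one_mul, mul_one]⟩
      simpa using htdb
    · refine ⟨_, Or.inr rfl, ⟨b, hbS⟩, b.2, Subtype.ext ?_, Subtype.ext ?_⟩
      · simpa using htdb
      · simpa using hcomm _ (D.pow_mem x₀.2 (2 ^ (n - 1))) b b.2

end Cfsg.Agent.S1235
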