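import Cfsg.Statements.S1236
import Cfsg.Agent.Lib.TwoGroups.Dihedral
import Cfsg.Agent.Lib.TwoGroups.Semidihedral

set_option autoImplicit false
open Cfsg

namespace Cfsg.Agent.S1236

/-- Let R be a finite group, t a central involution of R such that R ⧸ ⟨t⟩ is dihedral (of order ≥ 4) or quasi-dihedral, and A ≤ R an elementary abelian subgroup of order 8 containing t. Then C_R(A) = A. -/
theorem result {R : Type*} [Group R] [Finite R] (t : R) (ht : orderOf t = 2) (htz : t ∈ Subgroup.center R) [(Subgroup.zpowers t).Normal] (hq : (∃ m : ℕ, 2 ≤ m ∧ Nonempty (R ⧸ Subgroup.zpowers t ≃* DihedralGroup m)) ∨ Cfsg.IsQuasiDihedral (R ⧸ Subgroup.zpowers t)) (A : Subgroup R) (hA : Cfsg.IsElementaryAbelian 2 A) (hA8 : Nat.card A = 8) (htA : t ∈ A) : Subgroup.centralizer (A : Set R) = A := by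
  classical
  set Z := Subgroup.zpowers t with hZ
  let π := QuotientGroup.mk' Z
  let V := A.map π
  have hcard : Nat.card V = 4 := by
    let f := π.comp A.subtype
    have h1 : Nat.card f.ker * Nat.card f.range = Nat.card A := by
      rw [← Subgroup.card_mul_index f.ker, Subgroup.index_ker]
    have h2 : Nat.card f.ker = 2 := by
      have e : f.ker = Z.subgroupOf A := by
        rw [← MonoidHom.comap_ker, QuotientGroup.ker_mk']; rfl
      rw [e, Nat.card_congr (Subgroup.subgroupOfEquivOfLe (Subgroup.zpowers_le.2 htA)).toEquiv,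
        Nat.card_zpowers, ht]
    have h3 : f.range = V := by
      rw [MonoidHom.range_comp, Subgroup.range_subtype]
    rw [h2, h3, hA8] at h1
    omega
  have hsq : ∀ v ∈ V, v ^ 2 = 1 := by
    rintro _ ⟨a, ha, rfl⟩
    rw [← map_pow, hA.2 a ha, map_one]
  have hVc : ∀ v ∈ V, ∀ w ∈ V, v * w = w * v := by
    rintro _ ⟨a, ha, rfl⟩ _ ⟨b, hb, rfl⟩
    have := congrArg Subtype.val (hA.1.is_comm.comm ⟨a, ha⟩ ⟨b, hb⟩)
    rw [← map_mul, ← map_mul]
    exact congrArg π this
  have key : Subgroup.centralizer (V : Set (R ⧸ Z)) = V := by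
    rcases hq with ⟨m, hm, ⟨e⟩⟩ | hqd
    · have : NeZero m := ⟨by omega⟩
      let V' := V.map e.toMonoidHom
      have hV' : Subgroup.centralizer (V' : Set (DihedralGroup m)) = V' := by
        refine CfsgLib.TwoGroups.Dihedral.centralizer_eq_self m ?_ ?_ ?_
        · rintro _ ⟨a, ha, rfl⟩ _ ⟨b, hb, rfl⟩
          rw [← map_mul, ← map_mul, hVc a ha b hb]
        · rw [Subgroup.card_map_of_injective (show Function.Injective e.toMonoidHom from e.injective),
            hcard]
        · rintro _ ⟨a, ha, rfl⟩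
          rw [← map_pow, hsq a ha, map_one]
      refine le_antisymm (fun g hg => ?_)
        (fun g hg => Subgroup.mem_centralizer_iff.2 fun v hv => hVc v hv g hg)
      have h1 : e g ∈ V' := by
        rw [← hV', Subgroup.mem_centralizer_iff]
        rintro _ ⟨a, ha, rfl⟩
        show e a * e g = e g * e a
        rw [← map_mul, ← map_mul, Subgroup.mem_centralizer_iff.1 hg a ha]
      obtain ⟨a, ha, hae⟩ := h1
      exact e.injective hae ▸ ha
    · obtain ⟨r, x, y, h⟩ := CfsgLib.TwoGroups.SD.exists_sd hqd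
      have hV : IsKleinFour V := by
        refine ⟨hcard, ?_⟩
        have : Fact (Nat.Prime 2) := ⟨Nat.prime_two⟩
        have : Nontrivial V := Finite.one_lt_card_iff_nontrivial.1 (by rw [hcard]; norm_num)
        rcases (Nat.dvd_prime Nat.prime_two).1
          (Monoid.exponent_dvd_of_forall_pow_eq_one (G := V) (n := 2)
            (fun v => Subtype.ext (by simpa using hsq v.1 v.2))) with h1 | h1
        · exact absurd h1 (fun e => not_subsingleton V (Monoid.exp_eq_one_iff.1 e))
        · exact h1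
      exact (CfsgLib.TwoGroups.SD.klein_facts h hV).1
  refine le_antisymm (fun c hc => ?_) (fun c hc => Subgroup.mem_centralizer_iff.2 fun a ha =>
    congrArg Subtype.val (hA.1.is_comm.comm ⟨a, ha⟩ ⟨c, hc⟩))
  have h1 : π c ∈ V := by
    rw [← key, Subgroup.mem_centralizer_iff]
    rintro _ ⟨a, ha, rfl⟩
    rw [← map_mul, ← map_mul, Subgroup.mem_centralizer_iff.1 hc a ha]
  obtain ⟨a, ha, hac⟩ := h1
  have h2 : a⁻¹ * c ∈ Z := QuotientGroup.eq.1 hac
  have h3 := mul_mem ha (Subgroup.zpowers_le.2 htA h2)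
  rwa [mul_inv_cancel_left] at h3

end Cfsg.Agent.S1236
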