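import Cfsg.Statements.S1239
import Cfsg.Agent.Lib.Involutions.BrauerSuzuki
import Cfsg.Agent.Lib.TwoGroups.Wreathed
import Cfsg.Agent.Lib.TwoGroups.Semidihedral
import Cfsg.Agent.Lib.Transfer.Basic
import Cfsg.Agent.Lib.PCore.Basic
set_option autoImplicit false
open Cfsg

namespace Cfsg.Agent.S1239

open CfsgLib.TwoGroups

universe u

variable {X : Type u} [Group X] [Finite X]

theorem center_of_no_fusion (hO : Cfsg.pPrimeCore 2 X = ⊥) (S : Sylow 2 X)
    (h : ∀ c : (S : Subgroup X), c ∈ Subgroup.center (S : Subgroup X) → ∀ g : X,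
      g * c * g⁻¹ ∈ (S : Subgroup X) → g * c * g⁻¹ = c) :
    ∀ c : (S : Subgroup X), c ∈ Subgroup.center (S : Subgroup X) → (c : X) ∈ Subgroup.center X := by
  haveI : Fact (Nat.Prime 2) := ⟨Nat.prime_two⟩
  suffices H : ∀ n : ℕ, ∀ c : (S : Subgroup X), c ∈ Subgroup.center (S : Subgroup X) →
      orderOf c ≤ n → (c : X) ∈ Subgroup.center X from fun c hc => H _ c hc le_rfl
  intro n
  induction n with
  | zero => exact fun c _ hle => absurd hle ((orderOf_pos c).not_ge)
  | succ n ih =>
    intro c hc hle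
    by_cases hc1 : c = 1
    · subst hc1; simp
    obtain ⟨e, he⟩ := IsPGroup.iff_orderOf.mp S.isPGroup' c
    have he0 : e ≠ 0 := fun h0 => hc1 (orderOf_eq_one_iff.mp (by rw [he, h0, pow_zero]))
    obtain ⟨e, rfl⟩ := Nat.exists_eq_succ_of_ne_zero he0
    have hsq : orderOf (c ^ 2) = 2 ^ e := by
      rw [orderOf_pow_of_dvd two_ne_zero (he ▸ dvd_pow_self 2 e.succ_ne_zero), he, pow_succ,
        Nat.mul_div_cancel _ two_pos]
    have hc2 : ((c : X) ^ 2) ∈ Subgroup.center X := by
      have := ih (c ^ 2) (Subgroup.pow_mem _ hc 2) (by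
        rw [hsq]; rw [he, pow_succ] at hle
        have : 0 < 2 ^ e := pow_pos two_pos e
        omega)
      simpa using this
    set N := Subgroup.zpowers ((c : X) ^ 2) with hNdef
    have hNc : N ≤ Subgroup.center X := by simpa [hNdef] using hc2
    by_cases hcN : (c : X) ∈ N
    · exact hNc hcN
    haveI hN : N.Normal := ⟨fun y hy g => by
      rw [Subgroup.mem_center_iff.mp (hNc hy) g, mul_inv_cancel_right]; exact hy⟩
    have hNp : IsPGroup 2 N := S.isPGroup'.to_le (by
      rw [hNdef, Subgroup.zpowers_le]; exact Subgroup.pow_mem _ c.2 2)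
    set π := QuotientGroup.mk' N with hπ
    have hord : orderOf (π (c : X)) = 2 := by
      refine orderOf_eq_prime ?_ ?_
      · rw [← map_pow, hπ, QuotientGroup.mk'_apply, QuotientGroup.eq_one_iff]
        exact Subgroup.mem_zpowers _
      · rw [hπ, QuotientGroup.mk'_apply, Ne, QuotientGroup.eq_one_iff]; exact hcN
    have hiso : Cfsg.IsIsolatedInvolution (π (c : X)) := by
      refine ⟨hord, fun q hq => ?_⟩
      obtain ⟨g, rfl⟩ := QuotientGroup.mk'_surjective N q
      set b := π g * π (c : X) * (π g)⁻¹ with hb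
      have hb2 : orderOf b = 2 := by
        rw [hb, show π g * π (c : X) * (π g)⁻¹ = MulAut.conj (π g) (π (c : X)) from rfl,
          MulEquiv.orderOf_eq, hord]
      have hzp : IsPGroup 2 (Subgroup.zpowers (π (c : X))) :=
        IsPGroup.of_card (n := 1) (by rw [Nat.card_zpowers, hord, pow_one])
      have hbp : IsPGroup 2 (Subgroup.zpowers b) :=
        IsPGroup.of_card (n := 1) (by rw [Nat.card_zpowers, hb2, pow_one])
      have hle : Subgroup.zpowers (π (c : X)) ≤ Subgroup.normalizer (Subgroup.zpowers b : Set (X ⧸ N)) := by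
        refine le_trans ?_ (Subgroup.centralizer_le_normalizer _)
        rw [Subgroup.zpowers_le, Subgroup.mem_centralizer_iff]
        rintro _ ⟨i, rfl⟩
        exact (hq.symm.zpow_left i).eq
      obtain ⟨T, hT⟩ := (CfsgLib.PCore.isPGroup_comap_mk' hNp
        (hzp.to_sup_of_normal_right' hbp hle)).exists_le_sylow
      obtain ⟨x, hx⟩ := MulAction.exists_smul_eq X T S
      have hmem : ∀ y ∈ (T : Subgroup X), x * y * x⁻¹ ∈ (S : Subgroup X) := fun y hy => by
        rw [← hx, Sylow.coe_subgroup_smul]; exact ⟨y, hy, rfl⟩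
      have h1 := h c hc x (hmem _ (hT (Subgroup.mem_comap.mpr (Subgroup.mem_sup_left (Subgroup.mem_zpowers _)))))
      have h2 := h c hc (x * g) (by
        have : g * (c : X) * g⁻¹ ∈ (T : Subgroup X) := hT (Subgroup.mem_comap.mpr (by
          rw [map_mul, map_mul, map_inv]; exact Subgroup.mem_sup_right (Subgroup.mem_zpowers _)))
        simpa [mul_assoc] using hmem _ this)
      have h3 : g * (c : X) * g⁻¹ = c := by
        have h4 : x * (g * (c : X) * g⁻¹) * x⁻¹ = x * c * x⁻¹ := by
          rw [h1]; exact Eq.trans (by group) h2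
        exact mul_left_cancel (mul_right_cancel h4)
      rw [hb, ← map_inv, ← map_mul, ← map_mul, h3]
    have hcore : Cfsg.pPrimeCore 2 (X ⧸ N) = ⊥ := by
      set P := (Cfsg.pPrimeCore 2 (X ⧸ N)).comap π with hP
      have hNP : N ≤ P := fun y hy => by
        rw [hP, Subgroup.mem_comap, hπ, QuotientGroup.mk'_apply, (QuotientGroup.eq_one_iff y).mpr hy]
        exact one_mem _
      have hidx : (N.subgroupOf P).index = Nat.card (Cfsg.pPrimeCore 2 (X ⧸ N)) := by
        have e : (N.subgroupOf P) = (π.subgroupComap (Cfsg.pPrimeCore 2 (X ⧸ N))).ker := by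
          ext y
          rw [MonoidHom.mem_ker, Subgroup.mem_subgroupOf, Subtype.ext_iff]
          exact (QuotientGroup.eq_one_iff (y : X)).symm
        rw [e, Subgroup.index_ker, MonoidHom.range_eq_top.mpr
          (MonoidHom.subgroupComap_surjective_of_surjective _ _ (QuotientGroup.mk'_surjective N)),
          Subgroup.card_top]
      haveI : (N.subgroupOf P).Normal := hN.subgroupOf P
      have hcop : (Nat.card (N.subgroupOf P)).Coprime (N.subgroupOf P).index := by
        rw [hidx, Nat.card_congr (Subgroup.subgroupOfEquivOfLe hNP).toEquiv]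
        obtain ⟨k, hk⟩ := IsPGroup.iff_card.mp hNp
        rw [hk]
        exact (CfsgLib.PCore.pPrimeCore_coprime (p := 2)).symm.pow_left k
      obtain ⟨K, hK⟩ := Subgroup.exists_right_complement'_of_coprime hcop
      have hKc : Nat.card K = Nat.card (Cfsg.pPrimeCore 2 (X ⧸ N)) := by
        rw [← hidx, hK.symm.index_eq_card]
      have hKodd : ∀ k ∈ K, Odd (orderOf k) := fun k hk =>
        (Nat.Coprime.coprime_dvd_left (Subgroup.orderOf_dvd_natCard K hk)
          (hKc ▸ CfsgLib.PCore.pPrimeCore_coprime (p := 2))).symm.odd_of_left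
      have hKall : ∀ y : P, Odd (orderOf y) → y ∈ K := by
        intro y hy
        have hy' : y ∈ N.subgroupOf P ⊔ K := by rw [hK.sup_eq_top]; trivial
        obtain ⟨a, ha, k, hk, rfl⟩ := Subgroup.mem_sup_of_normal_left.mp hy'
        suffices a = 1 by subst this; simpa using hk
        have hcom : Commute a k := Subtype.ext ((Subgroup.mem_center_iff.mp (hNc ha) (k : X)).symm)
        obtain ⟨m, hm⟩ : Odd (orderOf (a * k) * orderOf k) := hy.mul (hKodd k hk)
        have h1 : a ^ (2 * m + 1) = 1 := by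
          have h2 : (a * k) ^ (2 * m + 1) = 1 := by rw [← hm, pow_mul, pow_orderOf_eq_one, one_pow]
          have h3 : k ^ (2 * m + 1) = 1 := by
            rw [← hm, mul_comm, pow_mul, pow_orderOf_eq_one, one_pow]
          rwa [hcom.mul_pow, h3, mul_one] at h2
        obtain ⟨j, hj⟩ := IsPGroup.iff_orderOf.mp hNp ⟨(a : X), Subgroup.mem_subgroupOf.mp ha⟩
        rw [Subgroup.orderOf_mk, Subgroup.orderOf_coe] at hj
        have h4 := orderOf_dvd_of_pow_eq_one h1
        rw [hj] at h4
        rcases Nat.eq_zero_or_pos j with rfl | hjp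
        · exact orderOf_eq_one_iff.mp hj
        · have h5 := (dvd_pow_self 2 hjp.ne').trans h4
          omega
      have hKX : K.map P.subtype ≤ Cfsg.pPrimeCore 2 X := by
        refine CfsgLib.PCore.le_pPrimeCore ⟨?_⟩ (by
          rw [Subgroup.card_map_of_injective P.subtype_injective, hKc]
          exact CfsgLib.PCore.pPrimeCore_coprime)
        rintro _ ⟨k, hk, rfl⟩ g
        have hPn : P.Normal := hP ▸ (inferInstance : (Cfsg.pPrimeCore 2 (X ⧸ N)).Normal).comap π
        refine ⟨⟨_, hPn.conj_mem _ k.2 g⟩, hKall _ ?_, rfl⟩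
        rw [← Subgroup.orderOf_coe]
        show Odd (orderOf (MulAut.conj g (k : X)))
        rw [MulEquiv.orderOf_eq, Subgroup.orderOf_coe]
        exact hKodd k hk
      rw [hO, le_bot_iff, Subgroup.map_eq_bot_iff_of_injective _ P.subtype_injective] at hKX
      rw [hKX, Subgroup.card_bot] at hKc
      exact Subgroup.eq_bot_of_card_eq _ hKc.symm
    rw [Subgroup.mem_center_iff]
    intro g
    have hz := CfsgLib.Involutions.zstar (X ⧸ N) (π (c : X)) hiso (π g)
    rw [hcore, Subgroup.mem_bot, ← map_inv, ← map_inv, ← map_mul, ← map_mul, ← map_mul, hπ,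
      QuotientGroup.mk'_apply, QuotientGroup.eq_one_iff] at hz
    have hmem : g * (c : X) * g⁻¹ ∈ (S : Subgroup X) := by
      have hNS : N ≤ (S : Subgroup X) := by
        rw [hNdef, Subgroup.zpowers_le]; exact Subgroup.pow_mem _ c.2 2
      have := (S : Subgroup X).mul_mem (hNS hz) c.2
      simpa using this
    exact mul_inv_eq_iff_eq_mul.mp (h c hc g hmem)

theorem wreathed_no_fusion (S : Sylow 2 X) (hS : Cfsg.IsWreathed (S : Subgroup X)) {z : X}
    (hzS : z ∈ (S : Subgroup X)) (hzo : orderOf z = 2) (hzc : z ∈ Subgroup.center X) :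
    ∀ c : (S : Subgroup X), c ∈ Subgroup.center (S : Subgroup X) → ∀ g : X,
      g * c * g⁻¹ ∈ (S : Subgroup X) → g * c * g⁻¹ = c := by
  haveI : Fact (Nat.Prime 2) := ⟨Nat.prime_two⟩
  obtain ⟨n, x, y, t, h⟩ := WR.exists_wr hS
  set A := (WR.base h).map (S : Subgroup X).subtype with hA
  have hAS : A ≤ (S : Subgroup X) := Subgroup.map_subtype_le _
  have hmemA : ∀ s : (S : Subgroup X), (s : X) ∈ A ↔ s ∈ WR.base h := fun s =>
    ⟨fun ⟨r, hr, e⟩ => by rwa [Subtype.ext e] at hr, fun hs => ⟨s, hs, rfl⟩⟩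
  have hAcard : Nat.card A = 2 ^ (2 * n) := by
    rw [hA, Subgroup.card_map_of_injective (Subgroup.subtype_injective _), WR.card_base h]
  have hAcomm : ∀ a ∈ A, ∀ b ∈ A, Commute a b := by
    rintro _ ⟨a, ⟨i, j, rfl⟩, rfl⟩ _ ⟨b, ⟨k, l, rfl⟩, rfl⟩
    exact (WR.commute_el h i j k l).map _
  have huniq : ∀ B : Subgroup X, B ≤ (S : Subgroup X) → (∀ a ∈ B, ∀ b ∈ B, Commute a b) →
      Nat.card B = Nat.card A → B = A := by
    intro B hB hBc hcard
    by_cases hBA : B ≤ A
    · exact Subgroup.eq_of_le_of_card_ge hBA hcard.ge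
    exfalso
    obtain ⟨b0, hb0, hb0A⟩ := SetLike.not_le_iff_exists.mp hBA
    obtain ⟨i, j, hij | hij⟩ := h.gen ⟨b0, hB hb0⟩
    · exact hb0A ⟨_, WR.el_mem_base h i j, congrArg Subtype.val hij.symm⟩
    set B' := B.subgroupOf (S : Subgroup X)
    have hsub : B' ⊓ WR.base h ≤ Subgroup.center (S : Subgroup X) := by
      rintro s ⟨hs, ⟨a, b, rfl⟩⟩
      refine (WR.mem_center_iff h).mpr ⟨a, (h.eq_iff _ _ _ _).mpr ⟨by simp, ?_⟩⟩
      rw [dvd_sub_comm]
      refine (WR.commute_el_elz h (c := i) (d := j)).mp ?_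
      rw [← hij]
      exact Subtype.ext (hBc _ hs _ hb0)
    have h1 := Subgroup.card_le_of_le hsub
    rw [WR.card_center h] at h1
    have h2 : Nat.card B' = 2 ^ (2 * n) := by
      rw [Nat.card_congr (Subgroup.subgroupOfEquivOfLe hB).toEquiv, hcard, hAcard]
    have h3 := ((B' ⊓ WR.base h).subgroupOf B').card_mul_index
    rw [Subgroup.inf_subgroupOf_left, h2, ← Subgroup.relIndex] at h3
    rw [← Subgroup.inf_subgroupOf_left,
      Nat.card_congr (Subgroup.subgroupOfEquivOfLe inf_le_left).toEquiv] at h3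
    have h4 : (WR.base h).relIndex B' ≤ 2 := by
      haveI := WR.base_normal h
      have h6 := Subgroup.relIndex_dvd_index_of_normal (WR.base h) B'
      rw [WR.index_base h] at h6
      exact Nat.le_of_dvd two_pos h6
    have h5 : 2 ^ (2 * n) ≤ 2 ^ n * 2 := by rw [← h3]; exact Nat.mul_le_mul h1 h4
    rw [← pow_succ, Nat.pow_le_pow_iff_right one_lt_two] at h5
    have := h.two_le
    omega
  set u1 : X := ((WR.el x y (2 ^ (n - 1)) 0 : (S : Subgroup X)) : X) with hu1
  set u2 : X := ((WR.el x y 0 (2 ^ (n - 1)) : (S : Subgroup X)) : X) with hu2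
  set uz : X := ((WR.el x y (2 ^ (n - 1)) (2 ^ (n - 1)) : (S : Subgroup X)) : X) with huz
  have hz_eq : z = uz := by
    have hsq : (⟨z, hzS⟩ : (S : Subgroup X)) ^ 2 = 1 := Subtype.ext (by
      have := pow_orderOf_eq_one z
      rw [hzo] at this
      simpa using this)
    have hne : (⟨z, hzS⟩ : (S : Subgroup X)) ≠ 1 := fun e => by
      have : z = 1 := congrArg Subtype.val e
      rw [this, orderOf_one] at hzo
      omega
    have hcS : (⟨z, hzS⟩ : (S : Subgroup X)) ∈ Subgroup.center (S : Subgroup X) :=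
      Subgroup.mem_center_iff.mpr fun s => Subtype.ext (Subgroup.mem_center_iff.mp hzc (s : X))
    obtain ⟨a, ha⟩ := (WR.mem_center_iff h).mp hcS
    rw [ha, WR.el_pow h, WR.el_eq_one h] at hsq
    rcases WR.half_sq h (by simpa using hsq.1) with h1 | h1
    · exact absurd (ha.trans ((WR.el_eq_one h).mpr ⟨h1, h1⟩)) hne
    · exact congrArg Subtype.val (ha.trans ((h.eq_iff _ _ _ _).mpr ⟨h1, h1⟩))
  have hinvA : ∀ a ∈ A, a ^ 2 = 1 → a = 1 ∨ a = u1 ∨ a = u2 ∨ a = z := by
    rintro _ ⟨s, hs, rfl⟩ hsq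
    by_cases h1 : s = 1
    · left; rw [h1]; rfl
    rcases WR.involution_cases h (g := s) (Subtype.ext (by simpa using hsq)) h1 with e | e | e | ⟨a, e⟩
    · exact Or.inr (Or.inl (congrArg Subtype.val e))
    · exact Or.inr (Or.inr (Or.inl (congrArg Subtype.val e)))
    · exact Or.inr (Or.inr (Or.inr (by rw [hz_eq]; exact congrArg Subtype.val e)))
    · subst e; exact absurd hs (WR.elz_not_mem_base h a (-a))
  set NA := Subgroup.normalizer (A : Set X) with hNA
  have hodd : ∀ g ∈ NA, Odd (orderOf g) → ∀ a ∈ A, g * a * g⁻¹ = a := by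
    intro g hg hgodd
    have hgA : ∀ a ∈ A, g * a * g⁻¹ ∈ A := fun a ha => (Subgroup.mem_normalizer_iff.mp hg a).mp ha
    obtain ⟨m, hm⟩ := hgodd
    have hgm : g ^ (2 * m + 1) = 1 := by rw [← hm, pow_orderOf_eq_one]
    have hfix2 : ∀ a ∈ A, a ^ 2 = 1 → g * a * g⁻¹ = a := by
      intro a ha hsq
      have hcase : ∀ v, v = u1 ∨ v = u2 → v ∈ A → v ^ 2 = 1 →
          g * v * g⁻¹ = v := by
        intro v hv hvA hv2
        by_contra hne
        set w := g * v * g⁻¹ with hw
        have hwA := hgA v hvA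
        have hw2 : w ^ 2 = 1 := by rw [hw, conj_pow, hv2, mul_one, mul_inv_cancel]
        have hgz : g * z * g⁻¹ = z := by
          rw [Subgroup.mem_center_iff.mp hzc g, mul_inv_cancel_right]
        have hw1 : w ≠ 1 := fun e => hne (by
          have : v = 1 := by
            calc v = g⁻¹ * w * g := by rw [hw]; group
              _ = 1 := by rw [e]; group
          rw [e, this])
        have hwz : w ≠ z := fun e => hne (by
          have : v = z := mul_left_cancel (mul_right_cancel (e.trans hgz.symm))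
          rw [e, this])
        -- `g` swaps `v` and `w`
        have hgw : g * w * g⁻¹ = v := by
          have hx2 : (g * w * g⁻¹) ^ 2 = 1 := by rw [conj_pow, hw2, mul_one, mul_inv_cancel]
          have e1 : g * w * g⁻¹ ≠ 1 := fun e => hw1 (by
            calc w = g⁻¹ * (g * w * g⁻¹) * g := by group
              _ = 1 := by rw [e]; group)
          have e2 : g * w * g⁻¹ ≠ z := fun e => hwz (mul_left_cancel (mul_right_cancel (e.trans hgz.symm)))
          have e3 : g * w * g⁻¹ ≠ w := fun e => hne (mul_left_cancel (mul_right_cancel e))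
          rcases hinvA _ (hgA w hwA) hx2 with e | e | e | e
          · exact absurd e e1
          · rcases hinvA w hwA hw2 with f | f | f | f
            · exact absurd f hw1
            · exact absurd (e.trans f.symm) e3
            · rcases hv with hv | hv
              · exact e.trans hv.symm
              · exact absurd (f.trans hv.symm) hne
            · exact absurd f hwz
          · rcases hinvA w hwA hw2 with f | f | f | f
            · exact absurd f hw1
            · rcases hv with hv | hv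
              · exact absurd (f.trans hv.symm) hne
              · exact e.trans hv.symm
            · exact absurd (e.trans f.symm) e3
            · exact absurd f hwz
          · exact absurd e e2
        have hev : ∀ k : ℕ, g ^ (2 * k) * v * (g ^ (2 * k))⁻¹ = v := by
          intro k
          induction k with
          | zero => simp
          | succ k ihk =>
            calc g ^ (2 * (k + 1)) * v * (g ^ (2 * (k + 1)))⁻¹
                = g * (g * (g ^ (2 * k) * v * (g ^ (2 * k))⁻¹) * g⁻¹) * g⁻¹ := by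
                  rw [show 2 * (k + 1) = 1 + (1 + 2 * k) by ring, pow_add, pow_add]; group
              _ = v := by rw [ihk, ← hw, hgw]
        apply hne
        have := hev m
        calc g * v * g⁻¹ = g * (g ^ (2 * m) * v * (g ^ (2 * m))⁻¹) * g⁻¹ := by rw [this]
          _ = g ^ (2 * m + 1) * v * (g ^ (2 * m + 1))⁻¹ := by rw [pow_succ']; group
          _ = v := by rw [hgm]; group
      rcases hinvA a ha hsq with e | e | e | e
      · rw [e]; group
      · exact hcase a (Or.inl e) ha hsq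
      · exact hcase a (Or.inr e) ha hsq
      · rw [e, Subgroup.mem_center_iff.mp hzc g, mul_inv_cancel_right]
    suffices H : ∀ i : ℕ, ∀ a ∈ A, a ^ 2 ^ i = 1 → g * a * g⁻¹ = a by
      intro a ha
      refine H (2 * n) a ha ?_
      rw [← hAcard]
      exact congrArg Subtype.val (pow_card_eq_one' (x := (⟨a, ha⟩ : A)))
    intro i
    induction i with
    | zero => intro a _ h1; rw [pow_zero, pow_one] at h1; rw [h1]; group
    | succ i ihi =>
      intro a ha h1
      have h2 := ihi (a ^ 2) (A.pow_mem ha 2) (by rwa [← pow_mul, ← pow_succ'])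
      set r := a⁻¹ * (g * a * g⁻¹) with hr
      have hrA : r ∈ A := A.mul_mem (A.inv_mem ha) (hgA a ha)
      have hr2 : r ^ 2 = 1 := by
        rw [hr, (hAcomm _ (A.inv_mem ha) _ (hgA a ha)).mul_pow, conj_pow, h2, inv_pow, inv_mul_cancel]
      have hgr := hfix2 r hrA hr2
      have hit : ∀ k : ℕ, g ^ k * a * (g ^ k)⁻¹ = a * r ^ k := by
        intro k
        induction k with
        | zero => simp
        | succ k ihk =>
          calc g ^ (k + 1) * a * (g ^ (k + 1))⁻¹ = g * (g ^ k * a * (g ^ k)⁻¹) * g⁻¹ := by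
                rw [pow_succ']; group
            _ = (g * a * g⁻¹) * (g * r * g⁻¹) ^ k := by rw [ihk, conj_pow]; group
            _ = a * r ^ (k + 1) := by
              have hga : g * a * g⁻¹ = a * r := by rw [hr]; group
              rw [hgr, hga, mul_assoc, ← pow_succ']
      have := hit (2 * m + 1)
      rw [hgm, pow_succ, pow_mul, hr2, one_pow, one_mul] at this
      rw [one_mul, inv_one, mul_one, left_eq_mul, hr] at this
      exact (inv_mul_eq_one.mp this).symm
  have hSN : (S : Subgroup X) ≤ NA := by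
    intro s hs
    rw [hNA, Subgroup.mem_normalizer_iff]
    intro r
    have hn := WR.base_normal h
    refine ⟨?_, ?_⟩
    · rintro ⟨q, hq, rfl⟩
      exact ⟨_, hn.conj_mem q hq ⟨s, hs⟩, rfl⟩
    · rintro ⟨q, hq, e⟩
      refine ⟨_, hn.conj_mem q hq ⟨s, hs⟩⁻¹, ?_⟩
      simp at e ⊢
      rw [e]; group
  set CA := (Subgroup.centralizer (A : Set X)).subgroupOf NA with hCA
  haveI hCAn : CA.Normal := ⟨fun r hr g => by
    rw [hCA, Subgroup.mem_subgroupOf, Subgroup.mem_centralizer_iff] at hr ⊢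
    intro a ha
    have h1 : ((g : X)⁻¹ * a * g) ∈ A := by
      have := (Subgroup.mem_normalizer_iff.mp (inv_mem g.2) a).mp ha
      simpa using this
    have := hr _ h1
    simp only [Subgroup.coe_mul, Subgroup.coe_inv]
    calc a * ((g : X) * r * (g : X)⁻¹) = (g : X) * (((g : X)⁻¹ * a * g) * r) * (g : X)⁻¹ := by group
      _ = (g : X) * (r * ((g : X)⁻¹ * a * g)) * (g : X)⁻¹ := by rw [this]
      _ = _ := by group⟩
  have htop : (S : Subgroup X).subgroupOf NA ⊔ CA = ⊤ := by
    have hq : IsPGroup 2 (NA ⧸ CA) := by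
      intro q
      obtain ⟨g, rfl⟩ := QuotientGroup.mk'_surjective CA q
      obtain ⟨e, m, hm, hord⟩ :=
        Nat.exists_eq_pow_mul_and_not_dvd (orderOf_pos (g : X)).ne' 2 (by norm_num)
      refine ⟨e, ?_⟩
      rw [← map_pow, QuotientGroup.mk'_apply, QuotientGroup.eq_one_iff, hCA, Subgroup.mem_subgroupOf,
        Subgroup.mem_centralizer_iff]
      intro a ha
      have hod : Odd (orderOf ((g : X) ^ 2 ^ e)) := by
        rw [orderOf_pow_of_dvd (pow_ne_zero _ two_ne_zero) (hord ▸ dvd_mul_right _ _), hord,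
          Nat.mul_div_cancel_left _ (pow_pos two_pos e)]
        exact Nat.odd_iff.mpr (by omega)
      rw [Subgroup.coe_pow]
      exact (mul_inv_eq_iff_eq_mul.mp (hodd _ (Subgroup.pow_mem _ g.2 _) hod a ha)).symm
    rw [← Subgroup.index_eq_one]
    have h1 : ((S : Subgroup X).subgroupOf NA ⊔ CA).index ∣ ((S : Subgroup X).subgroupOf NA).index :=
      Subgroup.index_dvd_of_le le_sup_left
    have h2 : ((S : Subgroup X).subgroupOf NA ⊔ CA).index ∣ CA.index :=
      Subgroup.index_dvd_of_le le_sup_right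
    obtain ⟨k, hk⟩ := IsPGroup.iff_card.mp hq
    rw [Subgroup.index_eq_card CA, hk] at h2
    obtain ⟨j, -, hj⟩ := (Nat.dvd_prime_pow Nat.prime_two).mp h2
    rcases Nat.eq_zero_or_pos j with rfl | hj0
    · simpa using hj
    · exfalso
      have h3 : 2 ∣ (S : Subgroup X).relIndex NA := by
        rw [Subgroup.relIndex]; exact (hj ▸ dvd_pow_self 2 hj0.ne').trans h1
      exact S.not_dvd_index (h3.trans ⟨NA.index, (Subgroup.relIndex_mul_index hSN).symm⟩)
  have hdecomp : ∀ k ∈ NA, ∃ s ∈ (S : Subgroup X), ∀ a ∈ A, k * a * k⁻¹ = s * a * s⁻¹ := by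
    intro k hk
    obtain ⟨s, hs, r, hr, e⟩ :=
      Subgroup.mem_sup_of_normal_right.mp (htop ▸ Subgroup.mem_top (⟨k, hk⟩ : NA))
    refine ⟨s, hs, fun a ha => ?_⟩
    have hr' : (r : X) * a * (r : X)⁻¹ = a := by
      have h' : a * (r : X) = (r : X) * a := Subgroup.mem_centralizer_iff.mp hr a ha
      rw [← h', mul_inv_cancel_right]
    have e' : (s : X) * r = k := congrArg Subtype.val e
    calc k * a * k⁻¹ = (s : X) * ((r : X) * a * (r : X)⁻¹) * (s : X)⁻¹ := by rw [← e']; group
      _ = _ := by rw [hr']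
  have hcenA : ∀ c : (S : Subgroup X), c ∈ Subgroup.center (S : Subgroup X) → (c : X) ∈ A := by
    intro c hc
    obtain ⟨a, rfl⟩ := (WR.mem_center_iff h).mp hc
    exact ⟨_, WR.el_mem_base h a a, rfl⟩
  have hcaseA : ∀ c : (S : Subgroup X), c ∈ Subgroup.center (S : Subgroup X) → ∀ g : X,
      g * c * g⁻¹ ∈ A → g * c * g⁻¹ = c := by
    intro c hc g hg
    set C := Subgroup.centralizer ({(c : X)} : Set X)
    have hSC : (S : Subgroup X) ≤ C := fun s hs => Subgroup.mem_centralizer_singleton_iff.mpr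
      (congrArg Subtype.val (Subgroup.mem_center_iff.mp hc ⟨s, hs⟩))
    set B := A.map (MulAut.conj g⁻¹).toMonoidHom with hB
    have hBC : B ≤ C := by
      rintro _ ⟨a, ha, rfl⟩
      refine Subgroup.mem_centralizer_singleton_iff.mpr ?_
      simp only [MulEquiv.coe_toMonoidHom, MulAut.conj_apply, inv_inv]
      calc g⁻¹ * a * g * c = g⁻¹ * (a * (g * c * g⁻¹)) * g := by group
        _ = g⁻¹ * ((g * c * g⁻¹) * a) * g := by rw [(hAcomm a ha _ hg).eq]
        _ = c * (g⁻¹ * a * g) := by group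
    obtain ⟨T, hT⟩ := ((S.isPGroup'.to_le hAS).map (MulAut.conj g⁻¹).toMonoidHom).comap_subtype
      (K := C) |>.exists_le_sylow
    obtain ⟨k, hk⟩ := MulAction.exists_smul_eq C T (S.subtype hSC)
    have hmem : ∀ b ∈ B, (k : X) * b * (k : X)⁻¹ ∈ (S : Subgroup X) := by
      intro b hb
      have h1 : k * ⟨b, hBC hb⟩ * k⁻¹ ∈ ((S.subtype hSC : Sylow 2 C) : Subgroup C) := by
        rw [← hk, Sylow.coe_subgroup_smul]
        exact ⟨⟨b, hBC hb⟩, hT hb, rfl⟩
      exact h1
    have hkA : A.map (MulAut.conj ((k : X) * g⁻¹)).toMonoidHom = A := by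
      refine huniq _ ?_ ?_ (Subgroup.card_map_of_injective (MulAut.conj _).injective)
      · rintro _ ⟨a, ha, rfl⟩
        simpa [mul_assoc] using hmem _ ⟨a, ha, rfl⟩
      · rintro _ ⟨a, ha, rfl⟩ _ ⟨b, hb, rfl⟩
        exact (hAcomm a ha b hb).map _
    have hkN : g * (k : X)⁻¹ ∈ NA := by
      have : (k : X) * g⁻¹ ∈ NA := by
        rw [hNA, Subgroup.mem_normalizer_iff_map_conj_eq]; exact hkA
      simpa using NA.inv_mem this
    obtain ⟨s, hs, hsa⟩ := hdecomp _ hkN
    have h1 := hsa _ (hcenA c hc)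
    have hkc : (k : X)⁻¹ * c * (k : X) = c := by
      rw [mul_assoc, ← Subgroup.mem_centralizer_singleton_iff.mp k.2, inv_mul_cancel_left]
    have h2 : g * (k : X)⁻¹ * c * (g * (k : X)⁻¹)⁻¹ = g * c * g⁻¹ := by
      calc g * (k : X)⁻¹ * c * (g * (k : X)⁻¹)⁻¹ = g * ((k : X)⁻¹ * c * (k : X)) * g⁻¹ := by group
        _ = _ := by rw [hkc]
    rw [h2] at h1
    rw [h1, Subgroup.mem_centralizer_singleton_iff.mp (hSC hs), mul_inv_cancel_right]
  intro c hc g hg
  obtain ⟨a, b, hab | hab⟩ := h.gen ⟨g * c * g⁻¹, hg⟩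
  · exact hcaseA c hc g ⟨_, WR.el_mem_base h a b, congrArg Subtype.val hab.symm⟩
  exfalso
  set w := WR.el x y a b * t with hw
  have hwv : (w : X) = g * c * g⁻¹ := congrArg Subtype.val hab.symm
  obtain ⟨i, hi⟩ := (WR.mem_center_iff h).mp hc
  have hcpow : (c : X) ^ 2 ^ n = 1 := by
    have : c ^ 2 ^ n = 1 := by
      rw [hi, WR.el_pow h, WR.el_eq_one h]; push_cast; exact ⟨dvd_mul_left _ _, dvd_mul_left _ _⟩
    simpa using congrArg Subtype.val this
  have heven : (2 : ℤ) ∣ a + b := by
    have hwpow : w ^ 2 ^ n = 1 := Subtype.ext (by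
      rw [Subgroup.coe_pow, hwv, conj_pow, hcpow, mul_one, mul_inv_cancel]; rfl)
    have e : w ^ 2 ^ n = (w ^ 2) ^ 2 ^ (n - 1) := by
      rw [← pow_mul, ← pow_succ', Nat.sub_add_cancel (WR.npos h)]
    rw [e, hw, WR.el_z_sq h, WR.el_pow h, WR.el_eq_one h] at hwpow
    have h1 := hwpow.1
    push_cast at h1
    rw [WR.two_pow_split h, mul_comm (a + b), mul_comm (2 : ℤ)] at h1
    exact Int.dvd_of_mul_dvd_mul_left (pow_ne_zero _ two_ne_zero) h1
  obtain ⟨k, hk⟩ := heven
  set d := WR.el x y k k with hd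
  set s := WR.el x y (a - k) (-(a - k)) * t with hs
  have hds : w = d * s := by
    rw [hw, hd, hs, ← mul_assoc, WR.el_mul h]
    congr 1
    rw [show k + (a - k) = a by ring, show k + -(a - k) = b by linarith]
  have hdc : d ∈ Subgroup.center (S : Subgroup X) := (WR.mem_center_iff h).mpr ⟨k, rfl⟩
  have ht2 : (t : X) ^ 2 = 1 := by
    have : t ^ 2 = 1 := by rw [pow_two, WR.zz h]
    simpa using congrArg Subtype.val this
  obtain ⟨f, hf⟩ : ∃ f : (S : Subgroup X), f * t * f⁻¹ = s := by
    have := WR.isConj_elz h (a := 0) (b := 0) (c := a - k) (d := -(a - k)) (by simp)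
    rw [WR.el_zero, one_mul] at this
    exact isConj_iff.mp this
  have hf' : (f : X) * t * (f : X)⁻¹ = s := congrArg Subtype.val hf
  by_cases hfus : ∀ r : X, r * t * r⁻¹ ∈ (S : Subgroup X) → r * t * r⁻¹ ∉ A
  · obtain ⟨M, hM, hMi, htM⟩ := CfsgLib.Transfer.thompson_transfer S A (by
      rw [hA, Subgroup.relIndex, Subgroup.subgroupOf,
        Subgroup.comap_map_eq_self_of_injective (Subgroup.subtype_injective _), WR.index_base h])
      (t : X) ht2 hfus
    have hsq : ∀ j : ℤ, ((WR.el x y j j : (S : Subgroup X)) : X) ∈ M := by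
      intro j
      have e : WR.el x y j j = (WR.el x y j 0 * t) ^ 2 := by rw [WR.el_z_sq h, add_zero]
      rw [e, Subgroup.coe_pow]
      exact Subgroup.sq_mem_of_index_two hMi _
    have hwM : (w : X) ∈ M := by
      rw [hwv, hi]; exact hM.conj_mem _ (hsq i) g
    rw [hds, Subgroup.coe_mul, ← hf', hd] at hwM
    have h1 : (f : X) * t * (f : X)⁻¹ ∈ M := by
      simpa using M.mul_mem (M.inv_mem (hsq k)) hwM
    apply htM
    have := hM.conj_mem _ h1 (f : X)⁻¹
    simpa [mul_assoc] using this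
  push Not at hfus
  obtain ⟨r, -, hrA⟩ := hfus
  set g1 := r * (f : X)⁻¹ with hg1
  have hg1s : g1 * s * g1⁻¹ = r * t * r⁻¹ := by rw [hg1, ← hf']; group
  set s' := r * (t : X) * r⁻¹ with hs'
  have hs'2 : s' ^ 2 = 1 := by rw [hs', conj_pow, ht2, mul_one, mul_inv_cancel]
  have hs'12 : s' = u1 ∨ s' = u2 := by
    rcases hinvA s' hrA hs'2 with e | e | e | e
    · exfalso
      have h1 : (t : X) = 1 := by
        calc (t : X) = r⁻¹ * s' * r := by rw [hs']; group
          _ = 1 := by rw [e]; group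
      exact h.ne 0 0 (by rw [WR.el_zero]; exact Subtype.ext h1)
    · exact Or.inl e
    · exact Or.inr e
    · exfalso
      have h1 : (t : X) = z := by
        calc (t : X) = r⁻¹ * s' * r := by rw [hs']; group
          _ = z := by rw [e, mul_assoc, ← Subgroup.mem_center_iff.mp hzc r, inv_mul_cancel_left]
      refine h.ne (2 ^ (n - 1)) (2 ^ (n - 1)) (Subtype.ext ?_)
      rw [h1, hz_eq]
  have hu_ne : ∀ j : ℤ, u1 ≠ ((WR.el x y j j : (S : Subgroup X)) : X) ∧
      u2 ≠ ((WR.el x y j j : (S : Subgroup X)) : X) := by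
    intro j
    constructor
    · intro e
      obtain ⟨h1, h2⟩ := (h.eq_iff _ _ _ _).mp (Subtype.ext e)
      exact WR.not_dvd_half h (WR.npos h) (by simpa using h1.sub h2)
    · intro e
      obtain ⟨h1, h2⟩ := (h.eq_iff _ _ _ _).mp (Subtype.ext e)
      exact WR.not_dvd_half h (WR.npos h) (by simpa using h2.sub h1)
  have hcs : ∀ q : (S : Subgroup X), (q : X) * s' * (q : X)⁻¹ = s' → (q : X) ∈ A := by
    intro q hq
    obtain ⟨i', j', hq' | hq'⟩ := h.gen q
    · exact ⟨_, WR.el_mem_base h i' j', congrArg Subtype.val hq'.symm⟩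
    · exfalso
      rcases hs'12 with e | e <;> rw [e, hq'] at hq
      · have e2 : WR.el x y i' j' * t * WR.el x y (2 ^ (n - 1)) 0 * (WR.el x y i' j' * t)⁻¹ =
            WR.el x y (2 ^ (n - 1)) 0 := Subtype.ext hq
        rw [WR.conj_elz_el h, h.eq_iff] at e2
        exact WR.not_dvd_half h (WR.npos h) (by simpa using e2.2)
      · have e2 : WR.el x y i' j' * t * WR.el x y 0 (2 ^ (n - 1)) * (WR.el x y i' j' * t)⁻¹ =
            WR.el x y 0 (2 ^ (n - 1)) := Subtype.ext hq
        rw [WR.conj_elz_el h, h.eq_iff] at e2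
        exact WR.not_dvd_half h (WR.npos h) (by simpa using e2.1)
  set D := Subgroup.centralizer ({s'} : Set X) with hDdef
  have hAD : A ≤ D := fun q hq => Subgroup.mem_centralizer_singleton_iff.mpr (hAcomm q hq s' hrA).eq
  obtain ⟨T, hT⟩ := ((S.isPGroup'.to_le hAS).comap_subtype (K := D)).exists_le_sylow
  have hTA : (T : Subgroup D) = A.subgroupOf D := by
    refine le_antisymm (fun q hq => ?_) hT
    by_contra hqA
    haveI := T.isPGroup'.isNilpotent
    set A' := (A.subgroupOf D).subgroupOf (T : Subgroup D)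
    have hlt : A' < ⊤ := lt_top_iff_ne_top.mpr fun e => hqA (Subgroup.subgroupOf_eq_top.mp e hq)
    obtain ⟨p, hp, hpA⟩ := SetLike.exists_of_lt (Group.normalizerCondition_of_isNilpotent _ hlt)
    have hpN : ((p : D) : X) ∈ NA := by
      rw [hNA, Subgroup.mem_normalizer_iff_map_conj_eq]
      refine Subgroup.eq_of_le_of_card_ge ?_ (Subgroup.card_map_of_injective (MulAut.conj _).injective).ge
      rintro _ ⟨v, hv, rfl⟩
      exact (Subgroup.mem_normalizer_iff.mp hp ⟨⟨v, hAD hv⟩, hT (show v ∈ A from hv)⟩).mp hv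
    obtain ⟨σ, hσ, hσa⟩ := hdecomp _ hpN
    have hσA : σ ∈ A := hcs ⟨σ, hσ⟩ (by
      show σ * s' * σ⁻¹ = s'
      rw [← hσa s' hrA, Subgroup.mem_centralizer_singleton_iff.mp (p : D).2, mul_inv_cancel_right])
    have hpC : ∀ v ∈ A, ((p : D) : X) * v * ((p : D) : X)⁻¹ = v := fun v hv => by
      rw [hσa v hv, (hAcomm σ hσA v hv).eq, mul_inv_cancel_right]
    -- `⟨A, p⟩` is an abelian 2-group strictly containing `A`; move it into `S`
    set P := (A.subgroupOf D ⊔ Subgroup.zpowers (p : D)).map D.subtype with hPdef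
    have hP2 : IsPGroup 2 P := (T.isPGroup'.to_le (sup_le hT (Subgroup.zpowers_le.mpr p.2))).map _
    obtain ⟨T2, hT2⟩ := hP2.exists_le_sylow
    obtain ⟨e, he⟩ := MulAction.exists_smul_eq X T2 S
    have hmem : ∀ v ∈ P, e * v * e⁻¹ ∈ (S : Subgroup X) := fun v hv => by
      rw [← he, Sylow.coe_subgroup_smul]; exact ⟨v, hT2 hv, rfl⟩
    have hAP : ∀ v ∈ A, v ∈ P := fun v hv => ⟨⟨v, hAD hv⟩, Subgroup.mem_sup_left hv, rfl⟩
    have hAe : A.map (MulAut.conj e).toMonoidHom = A := by
      refine huniq _ ?_ ?_ (Subgroup.card_map_of_injective (MulAut.conj _).injective)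
      · rintro _ ⟨v, hv, rfl⟩; exact hmem v (hAP v hv)
      · rintro _ ⟨v, hv, rfl⟩ _ ⟨v', hv', rfl⟩; exact (hAcomm v hv v' hv').map _
    have hq1 : e * ((p : D) : X) * e⁻¹ ∈ (S : Subgroup X) :=
      hmem _ ⟨(p : D), Subgroup.mem_sup_right (Subgroup.mem_zpowers _), rfl⟩
    have hq2 : e * ((p : D) : X) * e⁻¹ ∈ A := by
      refine hcs ⟨_, hq1⟩ ?_
      show e * ((p : D) : X) * e⁻¹ * s' * (e * ((p : D) : X) * e⁻¹)⁻¹ = s'
      obtain ⟨v, hv, hve⟩ := (show s' ∈ A.map (MulAut.conj e).toMonoidHom by rw [hAe]; exact hrA)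
      simp only [MulEquiv.coe_toMonoidHom, MulAut.conj_apply] at hve
      rw [← hve]
      calc _ = e * (((p : D) : X) * v * ((p : D) : X)⁻¹) * e⁻¹ := by group
        _ = _ := by rw [hpC v hv]
    rw [← hAe] at hq2
    obtain ⟨v, hv, hve⟩ := hq2
    have : v = ((p : D) : X) := (MulAut.conj e).injective hve
    exact hpA (show ((p : D) : X) ∈ A from this ▸ hv)
  have hdsc : Commute (g1 * d * g1⁻¹) s' := by
    rw [← hg1s]
    have : Commute (d : X) s := congrArg Subtype.val (Subgroup.mem_center_iff.mp hdc s).symm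
    exact this.map (MulAut.conj g1).toMonoidHom
  set q : D := ⟨g1 * d * g1⁻¹, Subgroup.mem_centralizer_singleton_iff.mpr hdsc.eq⟩ with hqdef
  have hqp : IsPGroup 2 (Subgroup.zpowers q) := by
    obtain ⟨e, he⟩ := IsPGroup.iff_orderOf.mp S.isPGroup' d
    refine IsPGroup.of_card (n := e) ?_
    rw [Nat.card_zpowers, ← Subgroup.orderOf_coe, hqdef]
    show orderOf (MulAut.conj g1 (d : X)) = _
    rw [MulEquiv.orderOf_eq, Subgroup.orderOf_coe, he]
  obtain ⟨T3, hT3⟩ := hqp.exists_le_sylow
  obtain ⟨e, he⟩ := MulAction.exists_smul_eq D T3 T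
  have hd' : ((e : X) * g1) * d * ((e : X) * g1)⁻¹ ∈ A := by
    have h1 : e * q * e⁻¹ ∈ (T : Subgroup D) := by
      rw [← he, Sylow.coe_subgroup_smul]; exact ⟨q, hT3 (Subgroup.mem_zpowers q), rfl⟩
    rw [hTA, Subgroup.mem_subgroupOf] at h1
    simpa [hqdef, mul_assoc] using h1
  have hdd := hcaseA d hdc _ hd'
  have hse : (e : X) * g1 * s * ((e : X) * g1)⁻¹ = s' := by
    calc _ = (e : X) * (g1 * s * g1⁻¹) * (e : X)⁻¹ := by group
      _ = s' := by rw [hg1s, Subgroup.mem_centralizer_singleton_iff.mp e.2, mul_inv_cancel_right]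
  have hcg : ((e : X) * g1 * g) * c * ((e : X) * g1 * g)⁻¹ = (d : X) * s' := by
    calc _ = ((e : X) * g1) * (g * c * g⁻¹) * ((e : X) * g1)⁻¹ := by group
      _ = ((e : X) * g1 * d * ((e : X) * g1)⁻¹) * ((e : X) * g1 * s * ((e : X) * g1)⁻¹) := by
          rw [← hwv, hds, Subgroup.coe_mul]; group
      _ = _ := by rw [hdd, hse]
  have hfin := hcaseA c hc ((e : X) * g1 * g) (hcg ▸ A.mul_mem (hcenA d hdc) hrA)
  rw [hcg] at hfin
  have hs'eq : s' = ((WR.el x y (i - k) (i - k) : (S : Subgroup X)) : X) := by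
    have e1 : WR.el x y (i - k) (i - k) = d⁻¹ * c := by
      rw [hi, hd, WR.el_inv h, WR.el_mul h]; congr 1 <;> ring
    rw [e1, Subgroup.coe_mul, Subgroup.coe_inv, ← hfin, inv_mul_cancel_left]
  rcases hs'12 with e' | e'
  · exact (hu_ne (i - k)).1 (e'.symm.trans hs'eq)
  · exact (hu_ne (i - k)).2 (e'.symm.trans hs'eq)

theorem isWreathed_congr {S T : Type u} [Group S] [Group T] (e : S ≃* T) (hS : Cfsg.IsWreathed S) :
    Cfsg.IsWreathed T := by
  obtain ⟨n, hn, hcard, x, y, z, hx, hxy, hdisj, hz, hrel⟩ := hS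
  refine ⟨n, hn, by rw [← hcard]; exact (Nat.card_congr e.toEquiv).symm, e x, e y, e z,
    by rw [MulEquiv.orderOf_eq]; exact hx, by rw [← map_mul, hxy, map_mul], ?_,
    by rw [MulEquiv.orderOf_eq]; exact hz, by rw [← hrel, map_mul, map_mul, map_inv]⟩
  have h1 : ∀ w, Subgroup.zpowers (e w) = (Subgroup.zpowers w).map e.toMonoidHom := fun w => by
    rw [MonoidHom.map_zpowers]; rfl
  rw [h1, h1, ← Subgroup.map_inf _ _ _ e.injective, hdisj, Subgroup.map_bot]


/-- Let X be a finite group whose Sylow 2-subgroup S is quasi-dihedral or wreathed, and suppose some involution of S is isolated in X. Then the product of the largest normal odd-order subgroup O(X) with the centre of S is normal in X. -/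
theorem result {X : Type*} [Group X] [Finite X] (S : Sylow 2 X) (hS : Cfsg.IsQuasiDihedral (S : Subgroup X) ∨ Cfsg.IsWreathed (S : Subgroup X)) (z : X) (hzS : z ∈ S) (hz : Cfsg.IsIsolatedInvolution z) : (Cfsg.oddCore X ⊔ (Subgroup.center (S : Subgroup X)).map (S : Subgroup X).subtype).Normal := by
  classical
  haveI : Fact (Nat.Prime 2) := ⟨Nat.prime_two⟩
  set O := Cfsg.oddCore X with hO
  set π := QuotientGroup.mk' O with hπ
  have hOodd : ¬ 2 ∣ Nat.card O := CfsgLib.PCore.not_dvd_card_pPrimeCore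
  have hinj : Function.Injective (π.comp (S : Subgroup X).subtype) := by
    rw [injective_iff_map_eq_one]
    intro s hs
    have hsO : (s : X) ∈ O := (QuotientGroup.eq_one_iff (s : X)).mp hs
    obtain ⟨k, hk⟩ := IsPGroup.iff_orderOf.mp S.isPGroup' s
    rcases Nat.eq_zero_or_pos k with rfl | hk0
    · exact orderOf_eq_one_iff.mp hk
    · exfalso
      refine hOodd ((dvd_pow_self 2 hk0.ne').trans ?_)
      rw [← hk, ← Subgroup.orderOf_coe]
      exact Subgroup.orderOf_dvd_natCard O hsO
  set S' : Sylow 2 (X ⧸ O) := S.mapSurjective (QuotientGroup.mk'_surjective O) with hS'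
  have hrange : (π.comp (S : Subgroup X).subtype).range = (S' : Subgroup (X ⧸ O)) := by
    rw [MonoidHom.range_comp, Subgroup.range_subtype, hS', Sylow.coe_mapSurjective]
  let e : (S : Subgroup X) ≃* (S' : Subgroup (X ⧸ O)) :=
    (MonoidHom.ofInjective hinj).trans (MulEquiv.subgroupCongr hrange)
  have hcore : Cfsg.pPrimeCore 2 (X ⧸ O) = ⊥ := CfsgLib.PCore.pPrimeCore_quotient_pPrimeCore
  have hzc : π z ∈ Subgroup.center (X ⧸ O) := by
    rw [Subgroup.mem_center_iff]
    intro q
    obtain ⟨g, rfl⟩ := QuotientGroup.mk'_surjective O q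
    have h1 : π (g * z * g⁻¹ * z⁻¹) = 1 :=
      (QuotientGroup.eq_one_iff _).mpr (CfsgLib.Involutions.zstar X z hz g)
    rw [map_mul, map_mul, map_mul, map_inv, map_inv, mul_inv_eq_one] at h1
    exact mul_inv_eq_iff_eq_mul.mp h1
  have hzo : orderOf (π z) = 2 := by
    have := orderOf_injective _ hinj ⟨z, hzS⟩
    rw [← Subgroup.orderOf_coe ⟨z, hzS⟩] at this
    exact this.trans hz.1
  have hzS' : π z ∈ (S' : Subgroup (X ⧸ O)) := hrange ▸ ⟨⟨z, hzS⟩, rfl⟩
  have key : ∀ c : (S : Subgroup X), c ∈ Subgroup.center (S : Subgroup X) →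
      π (c : X) ∈ Subgroup.center (X ⧸ O) := by
    intro c hc
    rcases hS with hq | hw
    · obtain ⟨r, x, y, hsd⟩ := CfsgLib.TwoGroups.SD.exists_sd hq
      have hzZ : (⟨z, hzS⟩ : (S : Subgroup X)) ∈ Subgroup.center (S : Subgroup X) :=
        Subgroup.mem_center_iff.mpr fun s => Subtype.ext (by
          have hxx : Commute z (s : X) := by
            have h1 := Subgroup.mem_center_iff.mp hzc (π (s : X))
            have h2 : π ((s : X) * z) = π (z * s) := by rw [map_mul, map_mul, h1]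
            exact (congrArg Subtype.val (hinj (a₁ := s * (⟨z, hzS⟩ : (S : Subgroup X))) (a₂ := (⟨z, hzS⟩ : (S : Subgroup X)) * s) h2)).symm
          exact hxx.symm.eq)
      have hle : Subgroup.zpowers (⟨z, hzS⟩ : (S : Subgroup X)) = Subgroup.center (S : Subgroup X) := by
        refine Subgroup.eq_of_le_of_card_ge (Subgroup.zpowers_le.mpr hzZ) ?_
        rw [Nat.card_zpowers, ← Subgroup.orderOf_coe, hz.1, CfsgLib.TwoGroups.SD.center_eq hsd,
          Nat.card_zpowers]
        exact ((CfsgLib.TwoGroups.SD.orderOf_zpow_eq_two hsd).mpr rfl).le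
      rw [← hle] at hc
      obtain ⟨j, rfl⟩ := hc
      simpa using Subgroup.zpow_mem _ hzc j
    · have h1 := center_of_no_fusion hcore S'
        (wreathed_no_fusion S' (isWreathed_congr e hw) hzS' hzo hzc) (e c)
        (Subgroup.mem_center_iff.mpr fun q => by
          obtain ⟨s, rfl⟩ := e.surjective q
          rw [← map_mul, ← map_mul, Subgroup.mem_center_iff.mp hc s])
      exact h1
  haveI : O.Normal := inferInstance
  refine ⟨fun w hw g => ?_⟩
  obtain ⟨o, ho, _, ⟨c, hc, rfl⟩, rfl⟩ := Subgroup.mem_sup_of_normal_left.mp hw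
  have h1 : g * (c : X) * g⁻¹ * (c : X)⁻¹ ∈ O := by
    rw [← QuotientGroup.eq_one_iff]
    show π (g * (c : X) * g⁻¹ * (c : X)⁻¹) = 1
    rw [map_mul, map_mul, map_mul, map_inv, map_inv, Subgroup.mem_center_iff.mp (key c hc) (π g)]
    group
  have e1 : g * (o * (S : Subgroup X).subtype c) * g⁻¹ =
      (g * o * g⁻¹) * (g * (c : X) * g⁻¹ * (c : X)⁻¹) * (c : X) := by
    simp only [Subgroup.subtype_apply]; group
  rw [e1]
  exact Subgroup.mul_mem _ (Subgroup.mem_sup_left (O.mul_mem (Subgroup.Normal.conj_mem inferInstance o ho g) h1))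
    (Subgroup.mem_sup_right ⟨c, hc, rfl⟩)


end Cfsg.Agent.S1239
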