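import Cfsg.Statements.S1241
import Cfsg.Agent.Lib.TwoGroups.ControlledTransfer

set_option autoImplicit false
open Cfsg

namespace Cfsg.Agent.S1241

/-- Let G be a finite group, p a prime, H a subgroup of index prime to p, K a subgroup of H normal in H with H/K commutative, and g ∈ H ∖ K an element of p-power order such that for all integers m and all a ∈ G with a g^m a⁻¹ ∈ H one has a g^m a⁻¹ ∈ g^m K. Then g ∉ G'. -/
theorem result {G : Type*} [Group G] [Finite G] {p : ℕ} [Fact p.Prime] (H K : Subgroup G) (hHK : K ≤ H) (hKn : (K.subgroupOf H).Normal) (hab : ∀ x ∈ H, ∀ y ∈ H, x * y * x⁻¹ * y⁻¹ ∈ K) (hidx : Nat.Coprime p H.index) (g : G) (hgH : g ∈ H) (hgK : g ∉ K) (hgp : ∃ k : ℕ, orderOf g = p ^ k) (hctrl : ∀ (m : ℤ) (a : G), a * g ^ m * a⁻¹ ∈ H → (a * g ^ m * a⁻¹) * (g ^ m)⁻¹ ∈ K) : g ∉ commutator G := by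
  classical
  intro hmem
  haveI := hKn
  set K' := K.subgroupOf H with hK'
  letI : CommGroup (H ⧸ K') :=
    { (inferInstance : Group (H ⧸ K')) with
      mul_comm := by
        intro x y
        induction x using QuotientGroup.induction_on with
        | H x =>
          induction y using QuotientGroup.induction_on with
          | H y =>
            rw [← QuotientGroup.mk_mul, ← QuotientGroup.mk_mul, QuotientGroup.eq, hK',
              Subgroup.mem_subgroupOf]
            simpa [mul_assoc] using hab _ (H.inv_mem y.2) _ (H.inv_mem x.2) }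
  let φ : H →* H ⧸ K' := QuotientGroup.mk' K'
  have key : ∀ (k : ℕ) (a : G) (h : a⁻¹ * g ^ k * a ∈ H),
      φ ⟨a⁻¹ * g ^ k * a, h⟩ = φ ⟨g, hgH⟩ ^ k := by
    intro k a h
    have h1 := hctrl k a⁻¹ (by simpa using h)
    rw [← map_pow]
    have h2 : φ (⟨a⁻¹ * g ^ k * a, h⟩ * (⟨g, hgH⟩ ^ k)⁻¹) = 1 := by
      show ((⟨a⁻¹ * g ^ k * a, h⟩ * (⟨g, hgH⟩ ^ k)⁻¹ : H) : H ⧸ K') = 1
      rw [QuotientGroup.eq_one_iff, hK', Subgroup.mem_subgroupOf]
      simpa using h1
    rwa [map_mul, map_inv, mul_inv_eq_one] at h2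
  have h1 := CfsgLib.TwoGroups.transfer_eq_pow_of_controlled φ g hgH key
  rw [show MonoidHom.transfer φ g = 1 from
    Abelianization.commutator_subset_ker (MonoidHom.transfer φ) hmem] at h1
  have hdvd : orderOf (φ ⟨g, hgH⟩) ∣ H.index := orderOf_dvd_of_pow_eq_one h1.symm
  obtain ⟨k, hk⟩ := hgp
  have hdvd2 : orderOf (φ ⟨g, hgH⟩) ∣ p ^ k := by
    have h3 := orderOf_map_dvd φ ⟨g, hgH⟩
    rwa [Subgroup.orderOf_mk, hk] at h3
  have hone : orderOf (φ ⟨g, hgH⟩) = 1 :=
    Nat.eq_one_of_dvd_coprimes (hidx.pow_left k) hdvd2 hdvd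
  rw [orderOf_eq_one_iff] at hone
  exact hgK (Subgroup.mem_subgroupOf.1 ((QuotientGroup.eq_one_iff _).1 hone))

end Cfsg.Agent.S1241
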