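import Cfsg.Statements.S1242
import Cfsg.Agent.Lib.TwoGroups.ControlledTransfer

set_option autoImplicit false
open Cfsg

namespace Cfsg.Agent.S1242

/-- Let G be a finite group, p a prime and H a subgroup of index prime to p such that any two elements of H of p-power order that are conjugate in G are conjugate in H. Then (O^p(G)·G') ∩ H = O^p(H)·H', where O^p denotes the subgroup generated by the elements of order prime to p. -/
theorem result {G : Type*} [Group G] [Finite G] {p : ℕ} [Fact p.Prime] (H : Subgroup G) (hidx : Nat.Coprime p H.index) (hfus : ∀ g ∈ H, (∃ k : ℕ, orderOf g = p ^ k) → ∀ a : G, a * g * a⁻¹ ∈ H → ∃ h ∈ H, h * g * h⁻¹ = a * g * a⁻¹) : (Cfsg.pResidual p G ⊔ commutator G) ⊓ H = (Cfsg.pResidual p ↥H ⊔ commutator ↥H).map H.subtype := by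
  classical
  have hp : p.Prime := Fact.out
  set B := Cfsg.pResidual p ↥H ⊔ commutator ↥H with hB
  apply le_antisymm
  · intro x hx
    obtain ⟨hxA, hxH⟩ := Subgroup.mem_inf.1 hx
    haveI hBn : B.Normal :=
      Subgroup.Normal.of_commutator_le (G := H) le_sup_right
    letI : CommGroup (H ⧸ B) :=
      { (inferInstance : Group (H ⧸ B)) with
        mul_comm := by
          intro a b
          induction a using QuotientGroup.induction_on with
          | H a =>
            induction b using QuotientGroup.induction_on with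
            | H b =>
              rw [← QuotientGroup.mk_mul, ← QuotientGroup.mk_mul, QuotientGroup.eq]
              apply le_sup_right (a := Cfsg.pResidual p ↥H)
              rw [commutator_def]
              have := Subgroup.commutator_mem_commutator (Subgroup.mem_top b⁻¹)
                (Subgroup.mem_top a⁻¹)
              simpa [commutatorElement_def, mul_assoc] using this }
    let φ : H →* H ⧸ B := QuotientGroup.mk' B
    have split : ∀ y : H, ∃ e m : ℕ, orderOf y = p ^ e * m ∧ ¬ p ∣ m :=
      fun y => let ⟨e, m, h1, h2⟩ := Nat.exists_eq_pow_mul_and_not_dvd (orderOf_pos y).ne' p hp.ne_one; ⟨e, m, h2, h1⟩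
    have hres : ∀ (y : H) (e m : ℕ), orderOf y = p ^ e * m → ¬ p ∣ m → φ y ^ p ^ e = 1 := by
      intro y e m he hm
      rw [← map_pow]
      apply (QuotientGroup.eq_one_iff _).2
      apply le_sup_left (b := commutator ↥H)
      apply Subgroup.subset_closure
      show Nat.Coprime (orderOf (y ^ p ^ e)) p
      rw [orderOf_pow_of_dvd (pow_ne_zero _ hp.ne_zero) (he ▸ dvd_mul_right _ _), he,
        Nat.mul_div_cancel_left _ (pow_pos hp.pos _)]
      exact (hp.coprime_iff_not_dvd.2 hm).symm
    have hP : IsPGroup p (H ⧸ B) := by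
      intro z
      induction z using QuotientGroup.induction_on with
      | H y =>
        obtain ⟨e, m, he, hm⟩ := split y
        exact ⟨e, hres y e m he hm⟩
    have hτ : Cfsg.pResidual p G ⊔ commutator G ≤ (MonoidHom.transfer φ).ker := by
      refine sup_le ((Subgroup.closure_le _).2 ?_) (Abelianization.commutator_subset_ker _)
      intro y hy
      obtain ⟨e, he⟩ := hP (MonoidHom.transfer φ y)
      have h1 : orderOf (MonoidHom.transfer φ y) ∣ p ^ e := orderOf_dvd_of_pow_eq_one he
      have h2 : orderOf (MonoidHom.transfer φ y) ∣ orderOf y := orderOf_map_dvd _ _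
      have h3 : Nat.Coprime (orderOf y) p := hy
      have h4 := Nat.eq_one_of_dvd_coprimes (h3.pow_right e) h2 h1
      exact orderOf_eq_one_iff.1 h4
    obtain ⟨e, m, he, hm⟩ := split ⟨x, hxH⟩
    set y : H := ⟨x, hxH⟩ with hy
    have hg : orderOf (y ^ m) = p ^ e := by
      rw [orderOf_pow_of_dvd (fun h0 => hm (by rw [h0]; exact dvd_zero p)) (he ▸ dvd_mul_left _ _), he,
        Nat.mul_div_cancel _ (Nat.pos_of_ne_zero fun h0 => hm (by rw [h0]; exact dvd_zero p))]
    have key : ∀ (k : ℕ) (a : G) (h : a⁻¹ * ((y ^ m : H) : G) ^ k * a ∈ H),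
        φ ⟨a⁻¹ * ((y ^ m : H) : G) ^ k * a, h⟩ =
          φ ⟨((y ^ m : H) : G), (y ^ m).2⟩ ^ k := by
      intro k a h
      have hord : ∃ j : ℕ, orderOf (((y ^ m : H) : G) ^ k) = p ^ j := by
        have h1 : orderOf (((y ^ m : H) : G) ^ k) ∣ p ^ e := by
          rw [← hg, ← Subgroup.orderOf_coe (y ^ m)]
          exact orderOf_pow_dvd k
        obtain ⟨j, -, hj⟩ := (Nat.dvd_prime_pow hp).1 h1
        exact ⟨j, hj⟩
      obtain ⟨h', hh', hh'e⟩ := hfus _ (H.pow_mem (y ^ m).2 k) hord a⁻¹ (by simpa using h)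
      have h2 : (⟨a⁻¹ * ((y ^ m : H) : G) ^ k * a, h⟩ : H) =
          ⟨h', hh'⟩ * (y ^ m) ^ k * (⟨h', hh'⟩)⁻¹ := by
        apply Subtype.ext
        simpa using hh'e.symm
      rw [h2, map_mul, map_mul, map_inv, mul_right_comm, mul_inv_cancel, one_mul, map_pow]
    have h1 := CfsgLib.TwoGroups.transfer_eq_pow_of_controlled φ _ (y ^ m).2 key
    have h2 : MonoidHom.transfer φ ((y ^ m : H) : G) = 1 :=
      hτ (pow_mem (show ((y : H) : G) ∈ _ from hxA) m)
    rw [h2] at h1
    have h1' : φ (y ^ m) ^ H.index = 1 := h1.symm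
    have h3 : φ (y ^ m) = 1 := by
      apply orderOf_eq_one_iff.1
      refine Nat.eq_one_of_dvd_coprimes (hidx.pow_left e) ?_ (orderOf_dvd_of_pow_eq_one h1')
      exact hg ▸ orderOf_map_dvd φ (y ^ m)
    have h4 : φ y = 1 := by
      apply orderOf_eq_one_iff.1
      refine Nat.eq_one_of_dvd_coprimes ((hp.coprime_iff_not_dvd.2 hm).pow_left e)
        (orderOf_dvd_of_pow_eq_one (hres y e m he hm)) (orderOf_dvd_of_pow_eq_one ?_)
      rw [← map_pow]; exact h3
    exact ⟨y, (QuotientGroup.eq_one_iff _).1 h4, rfl⟩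
  · refine le_inf ?_ (Subgroup.map_subtype_le B)
    rw [hB, Subgroup.map_sup]
    refine sup_le_sup ?_ ?_
    · rw [Cfsg.pResidual, MonoidHom.map_closure]
      apply Subgroup.closure_mono
      rintro _ ⟨y, hy, rfl⟩
      show Nat.Coprime (orderOf (y : G)) p
      rw [Subgroup.orderOf_coe]
      exact hy
    · rw [map_commutator_eq]
      exact Subgroup.commutator_mono le_top le_top

end Cfsg.Agent.S1242
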