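import Cfsg.Statements.S1243
-- import your own Cfsg.Agent.* helpers here

set_option autoImplicit false
open Cfsg

namespace Cfsg.Agent.S1243

/-- Let T be a Sylow p-subgroup of the finite group G and W ≤ T a subgroup weakly closed in T. If d and g d g⁻¹ both centralize W, then g d g⁻¹ = h d h⁻¹ for some h ∈ N_G(W). -/
theorem result {G : Type*} [Group G] [Finite G] {p : ℕ} [Fact p.Prime] (T : Sylow p G) (W : Subgroup G) (hW : Cfsg.IsWeaklyClosed W (T : Subgroup G)) (d g : G) (hd : d ∈ Subgroup.centralizer (W : Set G)) (hgd : g * d * g⁻¹ ∈ Subgroup.centralizer (W : Set G)) : ∃ h ∈ Subgroup.normalizer (W : Set G), h * d * h⁻¹ = g * d * g⁻¹ := by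
  obtain ⟨hWT, hwc⟩ := hW
  set K := Subgroup.centralizer ({g * d * g⁻¹} : Set G) with hK
  have hWK : W ≤ K := by
    intro w hw
    exact Subgroup.mem_centralizer_singleton_iff.2 (Subgroup.mem_centralizer_iff.1 hgd w hw)
  have hW'K : W.map (MulAut.conj g).toMonoidHom ≤ K := by
    rintro _ ⟨w, hw, rfl⟩
    rw [Subgroup.mem_centralizer_singleton_iff]
    have h1 : w * d = d * w := Subgroup.mem_centralizer_iff.1 hd w hw
    simp only [MulEquiv.coe_toMonoidHom, MulAut.conj_apply]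
    calc g * w * g⁻¹ * (g * d * g⁻¹) = g * (w * d) * g⁻¹ := by group
      _ = g * (d * w) * g⁻¹ := by rw [h1]
      _ = g * d * g⁻¹ * (g * w * g⁻¹) := by group
  have hp : IsPGroup p W := T.isPGroup'.to_le hWT
  have hp' : IsPGroup p (W.map (MulAut.conj g).toMonoidHom) := hp.map _
  obtain ⟨P, hP⟩ := IsPGroup.exists_le_sylow (hp.comap_subtype (K := K))
  obtain ⟨P', hP'⟩ := IsPGroup.exists_le_sylow (hp'.comap_subtype (K := K))
  obtain ⟨k, hk⟩ := MulAction.exists_smul_eq K P' P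
  obtain ⟨R, hR⟩ := IsPGroup.exists_le_sylow (P.isPGroup'.map K.subtype)
  obtain ⟨x, hx⟩ := MulAction.exists_smul_eq G R T
  have toT : ∀ y ∈ (R : Subgroup G), x * y * x⁻¹ ∈ (T : Subgroup G) := by
    intro y hy
    rw [← hx, Sylow.coe_subgroup_smul]
    exact Subgroup.smul_mem_pointwise_smul y (MulAut.conj x) _ hy
  have e1 : W.map (MulAut.conj x).toMonoidHom = W := by
    apply hwc
    rintro _ ⟨w, hw, rfl⟩
    exact toT _ (hR ⟨⟨w, hWK hw⟩, hP hw, rfl⟩)
  have e2 : W.map (MulAut.conj (x * (k : G) * g)).toMonoidHom = W := by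
    apply hwc
    rintro _ ⟨w, hw, rfl⟩
    have h3 : (⟨g * w * g⁻¹, hW'K ⟨w, hw, rfl⟩⟩ : K) ∈ (P' : Subgroup K) := hP' ⟨w, hw, rfl⟩
    have h4 : k * (⟨g * w * g⁻¹, hW'K ⟨w, hw, rfl⟩⟩ : K) * k⁻¹ ∈ (P : Subgroup K) := by
      rw [← hk, Sylow.coe_subgroup_smul]
      exact Subgroup.smul_mem_pointwise_smul _ (MulAut.conj k) _ h3
    have h5 := toT _ (hR ⟨_, h4, rfl⟩)
    simpa [MulAut.conj_apply, mul_assoc] using h5
  have norm : ∀ z : G, W.map (MulAut.conj z).toMonoidHom = W →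
      z ∈ Subgroup.normalizer (W : Set G) := by
    intro z hz
    rw [Subgroup.mem_set_normalizer_iff]
    intro h
    constructor
    · intro hh
      exact hz ▸ (⟨h, hh, rfl⟩ : z * h * z⁻¹ ∈ W.map (MulAut.conj z).toMonoidHom)
    · intro hh
      rw [SetLike.mem_coe, ← hz] at hh
      obtain ⟨h', hh', he⟩ := hh
      simp only [MulEquiv.coe_toMonoidHom, MulAut.conj_apply] at he
      have : h' = h := mul_left_cancel (mul_right_cancel he)
      exact this ▸ hh'
  refine ⟨(k : G) * g, ?_, ?_⟩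
  · have := Subgroup.mul_mem _ (Subgroup.inv_mem _ (norm _ e1)) (norm _ e2)
    simpa [mul_assoc] using this
  · have h6 : (k : G) * (g * d * g⁻¹) = g * d * g⁻¹ * k :=
      Subgroup.mem_centralizer_singleton_iff.1 k.2
    calc (k : G) * g * d * ((k : G) * g)⁻¹ = (k : G) * (g * d * g⁻¹) * (k : G)⁻¹ := by group
      _ = g * d * g⁻¹ := by rw [h6]; group

end Cfsg.Agent.S1243
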