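import Cfsg.Statements.S1244
import Cfsg.Agent.Lib.TwoGroups.Basic

set_option autoImplicit false
open Cfsg

namespace Cfsg.Agent.S1244

/-- Let G be a finite group with no subgroup of index 2 whose Sylow 2-subgroup S is commutative, and let R ≤ S be a subgroup whose 2-rank is exactly one less than the 2-rank r of S. Then every involution of S is conjugate, by an element of N_G(S), to an element of R. -/
theorem result {G : Type*} [Group G] [Finite G] (hG : ∀ H : Subgroup G, H.index ≠ 2) (S : Sylow 2 G) (hS : IsMulCommutative (S : Subgroup G)) (r : ℕ) (hr1 : 1 ≤ r) (hSr : Cfsg.PRankLE 2 r (S : Subgroup G) ∧ ¬ Cfsg.PRankLE 2 (r - 1) (S : Subgroup G)) (R : Subgroup G) (hRS : R ≤ S) (hRr : Cfsg.PRankLE 2 (r - 1) R ∧ (r = 1 ∨ ¬ Cfsg.PRankLE 2 (r - 2) R)) (t : G) (ht : orderOf t = 2) (htS : t ∈ S) : ∃ n ∈ Subgroup.normalizer ((S : Subgroup G) : Set G), n * t * n⁻¹ ∈ R := by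
  classical
  haveI : Fact (Nat.Prime 2) := ⟨Nat.prime_two⟩
  by_contra hcon
  push Not at hcon
  set N := Subgroup.normalizer ((S : Subgroup G) : Set G) with hN
  let V := CfsgLib.TwoGroups.omegaTwo (S : Subgroup G) hS
  have hRc : IsMulCommutative R := ⟨⟨fun x y => Subtype.ext
    (congrArg Subtype.val (hS.is_comm.comm ⟨_, hRS x.2⟩ ⟨_, hRS y.2⟩) : )⟩⟩
  let W := CfsgLib.TwoGroups.omegaTwo R hRc
  have hWV : W ≤ V := fun x hx => ⟨hRS hx.1, hx.2⟩
  have hVcard : Nat.card V = 2 ^ r :=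
    CfsgLib.TwoGroups.omegaTwo_card_eq _ hS r hSr.1 (Or.inr hSr.2)
  have hWcard : Nat.card W = 2 ^ (r - 1) :=
    CfsgLib.TwoGroups.omegaTwo_card_eq _ hRc (r - 1) hRr.1
      (by rcases hRr.2 with h | h
          · exact Or.inl (by omega)
          · exact Or.inr (by simpa [Nat.sub_sub] using h))
  have hidx : (W.subgroupOf V).index = 2 := by
    have h := (W.subgroupOf V).card_mul_index
    rw [Nat.card_congr (Subgroup.subgroupOfEquivOfLe hWV).toEquiv, hWcard, hVcard] at h
    obtain ⟨r', rfl⟩ : ∃ r', r = r' + 1 := ⟨r - 1, by omega⟩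
    rw [pow_succ, Nat.add_sub_cancel] at h
    exact Nat.eq_of_mul_eq_mul_left (pow_pos two_pos r') h
  have hVnorm : ∀ n ∈ N, ∀ x ∈ V, n * x * n⁻¹ ∈ V := by
    intro n hn x hx
    refine ⟨(Subgroup.mem_set_normalizer_iff.1 hn x).1 hx.1, ?_⟩
    rw [conj_pow, hx.2, mul_one, mul_inv_cancel]
  letI : CommGroup V := { (inferInstance : Group V) with
    mul_comm := fun x y => Subtype.ext (congrArg Subtype.val (hS.is_comm.comm ⟨_, x.2.1⟩ ⟨_, y.2.1⟩) : ) }
  have htV : t ∈ V := ⟨htS, by rw [← ht, pow_orderOf_eq_one]⟩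
  let S' : Subgroup N := (S : Subgroup G).subgroupOf N
  haveI : Fintype (N ⧸ S') := Fintype.ofFinite _
  let F : N ⧸ S' → V := Quotient.lift (fun n : N => (⟨n * t * (n : G)⁻¹, hVnorm n n.2 t htV⟩ : V))
    (fun a b hab => by
      have h1 : a⁻¹ * b ∈ S' := QuotientGroup.leftRel_apply.1 hab
      have h2 : (a : G)⁻¹ * b ∈ (S : Subgroup G) := by simpa [S', Subgroup.mem_subgroupOf] using h1
      have h3 : ((a : G)⁻¹ * b) * t = t * ((a : G)⁻¹ * b) :=
        congrArg Subtype.val (hS.is_comm.comm ⟨_, h2⟩ ⟨t, htS⟩)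
      apply Subtype.ext
      show (a : G) * t * (a : G)⁻¹ = b * t * (b : G)⁻¹
      calc (a : G) * t * (a : G)⁻¹ = (a : G) * (t * ((a : G)⁻¹ * b)) * (b : G)⁻¹ := by group
        _ = b * t * (b : G)⁻¹ := by rw [← h3]; group)
  have hFmk : ∀ n : N, ((F (QuotientGroup.mk n)) : G) = n * t * (n : G)⁻¹ := fun n => rfl
  set f : V := ∏ q, F q with hf
  have hfW : f ∉ W.subgroupOf V := by
    rw [hf, CfsgLib.TwoGroups.prod_mem_iff_even_of_index_two hidx Finset.univ F ?_,
      Finset.card_univ, ← Nat.card_eq_fintype_card]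
    · intro he
      have h1 : ¬ 2 ∣ (S : Subgroup G).index := Sylow.not_dvd_index S
      have h2 : S'.index * N.index = (S : Subgroup G).index :=
        Subgroup.relIndex_mul_index Subgroup.le_normalizer
      exact h1 (h2 ▸ Dvd.dvd.mul_right he.two_dvd _)
    · intro q _ hq
      induction q using QuotientGroup.induction_on with
      | H n =>
        have h1 : (n : G) * t * (n : G)⁻¹ ∈ W := hFmk n ▸ (Subgroup.mem_subgroupOf.1 hq)
        exact hcon n n.2 h1.1
  have hfix : ∀ n : G, n ∈ N → n * (f : G) * n⁻¹ = f := by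
    intro n hn
    let c : V →* V :=
      { toFun := fun x => ⟨n * x * n⁻¹, hVnorm n hn x x.2⟩
        map_one' := Subtype.ext (by simp)
        map_mul' := fun x y => Subtype.ext (by simp [mul_assoc]) }
    have h1 : c f = f := by
      rw [hf, map_prod]
      refine Fintype.prod_equiv (MulAction.toPerm (⟨n, hn⟩ : N)) _ _ ?_
      intro q
      induction q using QuotientGroup.induction_on with
      | H m =>
        apply Subtype.ext
        show n * ((m : G) * t * (m : G)⁻¹) * n⁻¹ = (n * m : G) * t * (n * m : G)⁻¹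
        group
    exact congrArg Subtype.val h1
  letI : CommGroup (S : Subgroup G) := { (inferInstance : Group (S : Subgroup G)) with
    mul_comm := fun x y => hS.is_comm.comm x y }
  have key : ∀ (k : ℕ) (g₀ : G), g₀⁻¹ * (f : G) ^ k * g₀ ∈ (S : Subgroup G) →
      g₀⁻¹ * (f : G) ^ k * g₀ = (f : G) ^ k := by
    intro k g₀ hk
    obtain ⟨n, hn, hne⟩ := Sylow.conj_eq_normalizer_conj_of_mem S ((f : G) ^ k) g₀
      (pow_mem f.2.1 k) hk
    rw [hne]
    have h1 := hfix n⁻¹ (inv_mem hn)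
    rw [inv_inv] at h1
    calc n⁻¹ * (f : G) ^ k * n = (n⁻¹ * (f : G) * (n⁻¹)⁻¹) ^ k := by rw [conj_pow, inv_inv]
      _ = (f : G) ^ k := by rw [inv_inv, h1]
  have h1 := MonoidHom.transfer_eq_pow (MonoidHom.id (S : Subgroup G)) (f : G) key
  rw [CfsgLib.TwoGroups.hom_eq_one_of_no_index_two S.isPGroup' hG] at h1
  have h2 : (f : G) ^ (S : Subgroup G).index = 1 := by
    have := congrArg Subtype.val h1
    simpa using this.symm
  have h3 : Odd (S : Subgroup G).index := by
    rw [Nat.odd_iff]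
    have := Sylow.not_dvd_index S
    omega
  obtain ⟨j, hj⟩ := h3
  rw [hj, pow_succ, pow_mul, f.2.2, one_pow, one_mul] at h2
  exact hfW (by rw [show f = 1 from Subtype.ext h2]; exact Subgroup.one_mem _)

end Cfsg.Agent.S1244
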