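import Cfsg.Statements.S1246
import Cfsg.Agent.Lib.Components.Local
set_option autoImplicit false
open Cfsg

namespace Cfsg.Agent.S1246

open CfsgLib.Components

universe u

theorem step {G : Type u} [Group G] [Finite G] {p : ℕ} [Fact p.Prime] {U V : Subgroup G}
    (hU : IsPGroup p U) (hVU : V ≤ U) (hn : U ≤ Subgroup.normalizer (V : Set G))
    (h : Subgroup.centralizer (Cfsg.pCore p ↥(Subgroup.centralizer (V : Set G)) :
        Set ↥(Subgroup.centralizer (V : Set G))) ≤ Cfsg.pCore p ↥(Subgroup.centralizer (V : Set G))) :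
    Subgroup.centralizer (Cfsg.pCore p ↥(Subgroup.centralizer (U : Set G)) :
        Set ↥(Subgroup.centralizer (U : Set G))) ≤ Cfsg.pCore p ↥(Subgroup.centralizer (U : Set G)) := by
  set X := Subgroup.centralizer (V : Set G) with hX
  set H := Subgroup.centralizer (U : Set G) with hH
  have hHX : H ≤ X := Subgroup.centralizer_le (SetLike.coe_subset_coe.mpr hVU)
  set R := (Cfsg.pCore p X).map X.subtype with hR
  have hXN : X ≤ Subgroup.normalizer (R : Set G) := by
    intro x hx
    rw [Subgroup.mem_normalizer_iff]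
    intro r
    have hn := (inferInstance : (Cfsg.pCore p X).Normal)
    constructor
    · rintro ⟨a, ha, rfl⟩
      exact ⟨_, hn.conj_mem a ha ⟨x, hx⟩, rfl⟩
    · rintro ⟨a, ha, he⟩
      refine ⟨_, hn.conj_mem a ha ⟨x, hx⟩⁻¹, ?_⟩
      simp at he ⊢
      rw [he]; group
  have hUR : U ≤ Subgroup.normalizer (R : Set G) := by
    intro g hg
    have hgX : g ∈ Subgroup.normalizer (X : Set G) := by
      have := hn hg
      rw [Subgroup.mem_normalizer_iff] at this ⊢
      intro x
      simp only [hX, Subgroup.mem_centralizer_iff, SetLike.mem_coe]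
      constructor
      · intro hx v hv
        obtain ⟨w, hw, rfl⟩ : ∃ w ∈ V, g * w * g⁻¹ = v :=
          ⟨g⁻¹ * v * g, (this _).mpr (by simpa [mul_assoc] using hv), by group⟩
        calc g * w * g⁻¹ * (g * x * g⁻¹) = g * (w * x) * g⁻¹ := by group
          _ = g * (x * w) * g⁻¹ := by rw [hx w hw]
          _ = _ := by group
      · intro hx w hw
        have h2 := hx _ ((this w).mp hw)
        calc w * x = g⁻¹ * (g * w * g⁻¹ * (g * x * g⁻¹)) * g := by group
          _ = g⁻¹ * (g * x * g⁻¹ * (g * w * g⁻¹)) * g := by rw [h2]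
          _ = x * w := by group
    have key : ∀ k ∈ Subgroup.normalizer (X : Set G), ∀ r ∈ R, k * r * k⁻¹ ∈ R := by
      rintro k hk _ ⟨a, ha, rfl⟩
      have h3 := Subgroup.characteristic_iff_map_le.mp
        (inferInstance : (Cfsg.pCore p X).Characteristic)
        (Subgroup.normalizerMonoidHom X ⟨k, hk⟩) ⟨a, ha, rfl⟩
      exact ⟨_, h3, rfl⟩
    refine Subgroup.mem_normalizer_iff.mpr fun r => ⟨key g hgX r, fun hr => ?_⟩
    have := key g⁻¹ (inv_mem hgX) _ hr
    simpa [mul_assoc] using this
  have hfit : ∀ r ∈ R, r ∈ H → ∃ hr : r ∈ H, (⟨r, hr⟩ : H) ∈ Cfsg.pCore p H := by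
    intro r hr hrH
    have hn : (R.subgroupOf H).Normal :=
      ⟨fun a ha g => ((Subgroup.mem_normalizer_iff.mp (hXN (hHX g.2))) (a : G)).mp ha⟩
    exact ⟨hrH, CfsgLib.PCore.le_pCore hn (CfsgLib.PCore.pCore_isPGroup.map _).comap_subtype hr⟩
  refine centralizer_pCore_le_of_forall fun x hx hord => ?_
  have hxR : (x : G) ∈ Subgroup.centralizer (R : Set G) := by
    refine mem_centralizer_of_AxB (CfsgLib.PCore.pCore_isPGroup.map _) hU hUR (hXN (hHX x.2)) x.2
      (by rwa [Subgroup.orderOf_coe]) fun r hr hrC => ?_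
    obtain ⟨hrH, hrP⟩ := hfit r hr hrC
    exact (congrArg Subtype.val (Subgroup.mem_centralizer_iff.mp hx ⟨r, hrH⟩ hrP)).symm
  have h1 : (⟨(x : G), hHX x.2⟩ : X) ∈ Subgroup.centralizer (Cfsg.pCore p X : Set X) :=
    Subgroup.mem_centralizer_iff.mpr fun a ha =>
      Subtype.ext (Subgroup.mem_centralizer_iff.mp hxR (a : G) ⟨a, ha, rfl⟩)
  have h2 := eq_one_of_mem_pCore_of_coprime (h h1) (by
    rw [← Subgroup.orderOf_coe]; rw [← Subgroup.orderOf_coe] at hord; exact hord)
  exact Subtype.ext (congrArg Subtype.val h2 : (x : G) = 1)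

theorem chain {G : Type u} [Group G] [Finite G] {p : ℕ} [Fact p.Prime] {U : Subgroup G}
    (hU : IsPGroup p U) (n : ℕ) : ∀ V : Subgroup G, V ≤ U → Nat.card U ≤ Nat.card V + n →
    Subgroup.centralizer (Cfsg.pCore p ↥(Subgroup.centralizer (V : Set G)) :
        Set ↥(Subgroup.centralizer (V : Set G))) ≤ Cfsg.pCore p ↥(Subgroup.centralizer (V : Set G)) →
    Subgroup.centralizer (Cfsg.pCore p ↥(Subgroup.centralizer (U : Set G)) :
        Set ↥(Subgroup.centralizer (U : Set G))) ≤ Cfsg.pCore p ↥(Subgroup.centralizer (U : Set G)) := by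
  induction n with
  | zero =>
    intro V hV hc h
    obtain rfl : V = U := Subgroup.eq_of_le_of_card_ge hV (by omega)
    exact h
  | succ n ih =>
    intro V hV hc h
    by_cases he : V = U
    · subst he; exact h
    set W := U ⊓ Subgroup.normalizer (V : Set G)
    have hVW : V < W := by
      refine lt_of_le_of_ne (le_inf hV Subgroup.le_normalizer) fun heq => ?_
      haveI := hU.isNilpotent
      have hlt : V.subgroupOf U < ⊤ := lt_top_iff_ne_top.mpr fun ht =>
        he (le_antisymm hV (Subgroup.subgroupOf_eq_top.mp ht))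
      have h2 := Group.normalizerCondition_of_isNilpotent _ hlt
      refine h2.not_ge fun x hx => ?_
      rw [Subgroup.mem_subgroupOf]
      have hxW : (x : G) ∈ W := by
        refine ⟨x.2, Subgroup.mem_normalizer_iff.mpr fun v => ⟨fun hv => ?_, fun hv => ?_⟩⟩
        · have := (Subgroup.mem_normalizer_iff.mp hx ⟨v, hV hv⟩).mp hv
          exact this
        · have hvU : v ∈ U := by
            have := U.mul_mem (U.mul_mem (U.inv_mem x.2) (hV hv)) x.2
            simpa [mul_assoc] using this
          exact (Subgroup.mem_normalizer_iff.mp hx ⟨v, hvU⟩).mpr hv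
      rw [heq]; exact hxW
    have hcard : Nat.card V < Nat.card W := by
      by_contra hge
      exact hVW.ne (Subgroup.eq_of_le_of_card_ge hVW.le (by omega))
    exact ih W inf_le_left (by omega)
      (step (hU.to_le inf_le_left) hVW.le inf_le_right h)


/-- Let V ≤ U be p-subgroups of the finite group G. If the generalized Fitting subgroup of C_G(V) is a p-group, then so is that of C_G(U). -/
theorem result {G : Type*} [Group G] [Finite G] {p : ℕ} [Fact p.Prime] (U V : Subgroup G) (hVU : V ≤ U) (hU : IsPGroup p U) (hV : IsPGroup p ↥(Cfsg.generalizedFittingSubgroup ↥(Subgroup.centralizer (V : Set G)))) : IsPGroup p ↥(Cfsg.generalizedFittingSubgroup ↥(Subgroup.centralizer (U : Set G))) := by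
  have hfit : Cfsg.generalizedFittingSubgroup ↥(Subgroup.centralizer (V : Set G)) =
      Cfsg.pCore p ↥(Subgroup.centralizer (V : Set G)) := by
    haveI := generalizedFitting_normal (G := ↥(Subgroup.centralizer (V : Set G)))
    exact le_antisymm (CfsgLib.PCore.le_pCore inferInstance hV)
      ((CfsgLib.Fitting.pCore_le_fitting (Fact.out : p.Prime)).trans fitting_le_generalizedFitting)
  have h := chain hU (Nat.card U) V hVU (by omega)
    (centralizer_pCore_le_of_generalizedFitting_eq hfit)
  rw [generalizedFitting_eq_pCore_of_centralizer_le p h]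
  exact CfsgLib.PCore.pCore_isPGroup


end Cfsg.Agent.S1246
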