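import Cfsg.Statements.S1247
import Cfsg.Agent.Lib.Components.Local
set_option autoImplicit false
open Cfsg

namespace Cfsg.Agent.S1247

open CfsgLib.Components
open scoped commutatorElement

universe u

section Inner

variable {Γ : Type u} [Group Γ] [Finite Γ]

/-- The `p'`-part of the Fitting subgroup. -/
def fitPrime (p : ℕ) (Γ : Type u) [Group Γ] : Subgroup Γ :=
  Cfsg.pPrimeCore p Γ ⊓ Cfsg.fittingSubgroup Γ

theorem fitPrime_normal (p : ℕ) : (fitPrime p Γ).Normal :=
  haveI := CfsgLib.Fitting.fitting_normal (G := Γ)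
  Subgroup.normal_inf_normal _ _

theorem fitting_le_sup {p : ℕ} [hp : Fact p.Prime] :
    Cfsg.fittingSubgroup Γ ≤ fitPrime p Γ ⊔ Cfsg.pCore p Γ := by
  rw [CfsgLib.Fitting.fitting_eq_iSup_pCore]
  refine iSup_le fun q => ?_
  obtain hq | hq := eq_or_ne (q : ℕ) p
  · rw [hq]; exact le_sup_right
  refine le_trans (le_inf ?_ (CfsgLib.Fitting.pCore_le_fitting (Nat.prime_of_mem_primeFactors q.2))) le_sup_left
  refine CfsgLib.PCore.le_pPrimeCore inferInstance ?_
  haveI : Fact (q : ℕ).Prime := ⟨Nat.prime_of_mem_primeFactors q.2⟩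
  obtain ⟨n, hn⟩ := IsPGroup.iff_card.mp (CfsgLib.PCore.pCore_isPGroup (p := (q : ℕ)) (G := Γ))
  rw [hn]
  exact ((Nat.coprime_primes (Nat.prime_of_mem_primeFactors q.2) hp.out).mpr hq).pow_left n

variable (S : Subgroup Γ)

structure Large : Prop where
  le : S ≤ Cfsg.generalizedFittingSubgroup Γ
  sn : S.IsSubnormal
  cen : Cfsg.generalizedFittingSubgroup Γ ⊓ Subgroup.centralizer (S : Set Γ) ≤ S

variable {S}

theorem component_le (hS : Large S) {K : Subgroup Γ} (hK : Cfsg.IsComponent K) : K ≤ S :=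
  (le_or_commutator_eq_bot hK hS.sn).elim id fun h =>
    le_trans (le_inf ((component_le_layer hK).trans layer_le_generalizedFitting)
      (le_centralizer_of_commutator_eq_bot h)) hS.cen

theorem layer_le (hS : Large S) : Cfsg.layer Γ ≤ S := sSup_le fun _ hK => component_le hS hK

theorem mem_of_commute (hS : Large S) {z : Γ} (hz : z ∈ Cfsg.generalizedFittingSubgroup Γ)
    (hc : z ∈ Subgroup.centralizer (Cfsg.generalizedFittingSubgroup Γ : Set Γ)) : z ∈ S :=
  hS.cen ⟨hz, Subgroup.centralizer_le (SetLike.coe_subset_coe.mpr hS.le) hc⟩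

theorem layer_le_centralizer_pGroup (hS : Large S) {p : ℕ} [Fact p.Prime] {Y : Subgroup Γ}
    (hY : IsPGroup p Y) (hn : S ≤ Subgroup.normalizer (Y : Set Γ)) :
    Cfsg.layer Γ ≤ Subgroup.centralizer (Y : Set Γ) := by
  haveI := generalizedFitting_normal (G := Γ)
  refine sSup_le fun K hK => le_centralizer_of_commutator_eq_bot ?_
  refine commutator_eq_bot_of_perfect (component_commutator_self hK) (le_bot_iff.mp ?_)
  set R := Y ⊓ Cfsg.generalizedFittingSubgroup Γ
  have hKF : K ≤ Cfsg.generalizedFittingSubgroup Γ :=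
    (component_le_layer hK).trans layer_le_generalizedFitting
  have hKY : K ≤ Subgroup.normalizer (Y : Set Γ) := (component_le hS hK).trans hn
  have h1 : ⁅K, Y⁆ ≤ R := by
    refine le_inf ?_ ((Subgroup.commutator_mono hKF le_rfl).trans (Subgroup.commutator_le_left _ _))
    rw [Subgroup.commutator_le]
    intro k hk y hy
    rw [commutatorElement_def]
    exact Y.mul_mem ((Subgroup.mem_normalizer_iff.mp (hKY hk) y).mp hy) (Y.inv_mem hy)
  have hRs : Group.IsSolvable R :=
    haveI := (hY.to_le (inf_le_left : R ≤ Y)).isNilpotent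
    inferInstance
  have h2 : ⁅K, R⁆ = ⊥ := component_commutator_solvable hK hRs
    ((le_inf hKY Subgroup.le_normalizer_of_normal).trans (fun x hx => Subgroup.inf_normalizer_le_normalizer_inf hx))
  calc ⁅⁅K, Y⁆, K⁆ ≤ ⁅R, K⁆ := Subgroup.commutator_mono h1 le_rfl
    _ = ⊥ := by rw [Subgroup.commutator_comm, h2]

theorem inf_fitPrime_le_centralizer {p : ℕ} [Fact p.Prime] {Y : Subgroup Γ}
    (hY : IsPGroup p Y) (hn : S ≤ Subgroup.normalizer (Y : Set Γ)) :
    S ⊓ fitPrime p Γ ≤ Subgroup.centralizer (Y : Set Γ) := by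
  haveI := fitPrime_normal (Γ := Γ) p
  rintro s ⟨hs, hsK⟩
  rw [Subgroup.mem_centralizer_iff]
  intro y hy
  have h1 : s * y * s⁻¹ * y⁻¹ ∈ Y ⊓ fitPrime p Γ := by
    refine ⟨Y.mul_mem ((Subgroup.mem_normalizer_iff.mp (hn hs) y).mp hy) (Y.inv_mem hy), ?_⟩
    have : s * y * s⁻¹ * y⁻¹ = s * (y * s⁻¹ * y⁻¹) := by group
    rw [this]
    exact Subgroup.mul_mem _ hsK (Subgroup.Normal.conj_mem inferInstance _ (Subgroup.inv_mem _ hsK) y)
  rw [show Y ⊓ fitPrime p Γ = ⊥ from CfsgLib.PCore.inf_eq_bot_of_isPGroup_coprime hY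
    (Nat.Coprime.coprime_dvd_left (Subgroup.card_dvd_of_le inf_le_left) CfsgLib.PCore.pPrimeCore_coprime),
    Subgroup.mem_bot] at h1
  exact (mul_inv_eq_iff_eq_mul.mp (mul_inv_eq_one.mp h1)).symm

theorem centralizes_fitPrime (hS : Large S) {p : ℕ} [hp : Fact p.Prime] {X : Subgroup Γ}
    (hX : IsPGroup p X) (hcX : S ⊓ fitPrime p Γ ≤ Subgroup.centralizer (X : Set Γ)) :
    X ≤ Subgroup.centralizer (fitPrime p Γ : Set Γ) := by
  haveI := fitPrime_normal (Γ := Γ) p
  haveI := CfsgLib.Fitting.fitting_normal (G := Γ)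
  have hnil : Group.IsNilpotent (fitPrime p Γ) :=
    CfsgLib.Fitting.isNilpotent_of_le CfsgLib.Fitting.fitting_isNilpotent inf_le_right
  have hcopK : (Nat.card (fitPrime p Γ)).Coprime p :=
    Nat.Coprime.coprime_dvd_left (Subgroup.card_dvd_of_le inf_le_left) CfsgLib.PCore.pPrimeCore_coprime
  obtain ⟨n, hn⟩ := IsPGroup.iff_card.mp hX
  refine CfsgLib.OddOrder41.le_centralizer_of_centralizer_fixed_le _ _ hnil
    Subgroup.le_normalizer_of_normal (by rw [hn]; exact hcopK.symm.pow_left n) ?_
  rintro k ⟨hk, hkc⟩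
  have hle : S ⊓ fitPrime p Γ ≤ fitPrime p Γ ⊓ Subgroup.centralizer (X : Set Γ) :=
    le_inf inf_le_right hcX
  suffices hkS : k ∈ S from hle ⟨hkS, hk⟩
  refine hS.cen ⟨fitting_le_generalizedFitting hk.2, Subgroup.mem_centralizer_iff.mpr fun s hs => ?_⟩
  obtain ⟨e, he, f, hf, hef⟩ := Subgroup.mem_sup_of_normal_right.mp (hS.le hs :
    s ∈ Cfsg.layer Γ ⊔ Cfsg.fittingSubgroup Γ)
  have hfS : f ∈ S := by
    have := S.mul_mem (S.inv_mem (layer_le hS he)) hs
    rwa [← hef, inv_mul_cancel_left] at this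
  have hek : Commute e k :=
    (Subgroup.mem_centralizer_iff.mp (layer_le_centralizer_fitting he) k hk.2).symm
  obtain ⟨a, ha, r, hr, har⟩ := Subgroup.mem_sup_of_normal_left.mp (fitting_le_sup (p := p) hf)
  have hcomm : ∀ a ∈ fitPrime p Γ, Commute a r := fun a ha =>
    ((Subgroup.mem_centralizer_iff.mp (CfsgLib.PCore.pPrimeCore_le_centralizer_pCore ha.1) r hr).symm)
  obtain ⟨j, hj⟩ := IsPGroup.iff_orderOf.mp (CfsgLib.PCore.pCore_isPGroup (p := p) (G := Γ)) ⟨r, hr⟩
  rw [Subgroup.orderOf_mk] at hj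
  have haS : a ∈ S := by
    have hord : (orderOf a).Coprime (p ^ j) :=
      (hcopK.coprime_dvd_left (Subgroup.orderOf_dvd_natCard _ ha)).pow_right j
    obtain ⟨m, hm⟩ := exists_pow_eq_self_of_coprime hord.symm
    have h2 : f ^ p ^ j = a ^ p ^ j := by
      rw [← har, (hcomm a ha).mul_pow, ← hj, pow_orderOf_eq_one, mul_one]
    have : a = (f ^ p ^ j) ^ m := by rw [h2, hm]
    rw [this]; exact S.pow_mem (S.pow_mem hfS _) _
  have hfk : Commute f k := by
    rw [← har]
    exact Commute.mul_left (Subgroup.mem_centralizer_iff.mp hkc a (hle ⟨haS, ha⟩)) (hcomm k hk).symm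
  rw [← hef]
  exact (hek.mul_left hfk).eq

end Inner

theorem conj_subgroupOf {G : Type u} [Group G] {A X : Subgroup G} {S : Subgroup A}
    (hn : ∀ s ∈ S, (s : G) ∈ Subgroup.normalizer (X : Set G)) :
    S ≤ Subgroup.normalizer ((X.subgroupOf A : Subgroup A) : Set A) := fun s hs =>
  Subgroup.mem_normalizer_iff.mpr fun y =>
    (Subgroup.mem_normalizer_iff.mp (hn s hs) (y : G))

theorem normalizer_map_le {G : Type u} [Group G] [IsSimpleGroup G] {A : Subgroup G} (hA : IsCoatom A)
    (Z : Subgroup A) [Z.Normal] (hZ : Z ≠ ⊥) :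
    Subgroup.normalizer ((Z.map A.subtype : Subgroup G) : Set G) ≤ A := by
  have hle : A ≤ Subgroup.normalizer ((Z.map A.subtype : Subgroup G) : Set G) := by
    intro a ha
    rw [Subgroup.mem_normalizer_iff]
    intro y
    constructor
    · rintro ⟨w, hw, rfl⟩
      exact ⟨_, Subgroup.Normal.conj_mem inferInstance w hw ⟨a, ha⟩, rfl⟩
    · rintro ⟨w, hw, e⟩
      refine ⟨_, Subgroup.Normal.conj_mem inferInstance w hw (⟨a, ha⟩ : A)⁻¹, ?_⟩
      simp at e ⊢
      rw [e]; group
  rcases hA.le_iff.mp hle with h | h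
  · exfalso
    have hn : (Z.map A.subtype).Normal := Subgroup.normalizer_eq_top_iff.mp h
    rcases hn.eq_bot_or_eq_top with h' | h'
    · exact hZ ((Subgroup.map_eq_bot_iff_of_injective _ A.subtype_injective).mp h')
    · exact hA.1 (top_le_iff.mp (h' ▸ Subgroup.map_subtype_le Z))
  · exact h.le


/-- Let G be a non-abelian finite simple group, A a maximal subgroup, F = F*(A) its generalized Fitting subgroup (viewed in G), and S ≤ F a subgroup subnormal in F with C_F(S) ≤ S. Let B be any subgroup of G containing S. Then (a) for every prime q not dividing |F(A)|, O_q(B) ∩ A = 1; and (b) for every prime p dividing |F(A)|, O_p(B) commutes elementwise with the subgroup of F generated by its elements of order prime to p. -/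
theorem result {G : Type*} [Group G] [Finite G] [IsSimpleGroup G] (hna : ¬ IsMulCommutative G) (A : Subgroup G) (hA : IsCoatom A) (S : Subgroup G) (hSF : S ≤ (Cfsg.generalizedFittingSubgroup ↥A).map A.subtype) (hSsn : (S.subgroupOf ((Cfsg.generalizedFittingSubgroup ↥A).map A.subtype)).IsSubnormal) (hSC : (Cfsg.generalizedFittingSubgroup ↥A).map A.subtype ⊓ Subgroup.centralizer (S : Set G) ≤ S) (B : Subgroup G) (hSB : S ≤ B) : (∀ q : ℕ, q.Prime → ¬ q ∣ Nat.card (Cfsg.fittingSubgroup ↥A) → (Cfsg.pCore q ↥B).map B.subtype ⊓ A = ⊥) ∧ (∀ p : ℕ, p.Prime → p ∣ Nat.card (Cfsg.fittingSubgroup ↥A) → ∀ x ∈ (Cfsg.pCore p ↥B).map B.subtype, ∀ y ∈ (Cfsg.pResidual p ↥(Cfsg.generalizedFittingSubgroup ↥A)).map ((Cfsg.generalizedFittingSubgroup ↥A).subtype) , x * (A.subtype y) = (A.subtype y) * x) := by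
  classical
  have hAne : A ≠ ⊤ := hA.1
  set Φ := Cfsg.generalizedFittingSubgroup ↥A with hΦdef
  haveI hΦn : Φ.Normal := generalizedFitting_normal
  set S' := S.subgroupOf A with hS'def
  have hSA : S ≤ A := hSF.trans (Subgroup.map_subtype_le _)
  have hS'Φ : S' ≤ Φ := by
    intro s hs
    obtain ⟨w, hw, e⟩ := hSF hs
    rwa [← Subtype.ext e]
  have hlarge : Large S' := by
    refine ⟨hS'Φ, ?_, ?_⟩
    · have h1 := hSsn.map (f := (Φ.equivMapOfInjective A.subtype A.subtype_injective).symm.toMonoidHom)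
        (Φ.equivMapOfInjective A.subtype A.subtype_injective).symm.surjective
      have h2 : (S.subgroupOf (Φ.map A.subtype)).map
          (Φ.equivMapOfInjective A.subtype A.subtype_injective).symm.toMonoidHom = S'.subgroupOf Φ := by
        ext w
        rw [Subgroup.mem_map_equiv]
        rfl
      rw [h2] at h1
      have h3 := h1.trans' hΦn.isSubnormal
      rwa [Subgroup.map_subgroupOf_eq_of_le hS'Φ] at h3
    · rintro w ⟨hw, hc⟩
      refine hSC ⟨⟨w, hw, rfl⟩, Subgroup.mem_centralizer_iff.mpr fun s hs => ?_⟩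
      exact congrArg Subtype.val (Subgroup.mem_centralizer_iff.mp hc ⟨s, hSA hs⟩ hs)
  have hnormB : ∀ r : ℕ, ∀ s ∈ S', (s : G) ∈
      Subgroup.normalizer (((Cfsg.pCore r ↥B).map B.subtype : Subgroup G) : Set G) := by
    intro r s hs
    rw [Subgroup.mem_normalizer_iff]
    intro y
    have hn : (Cfsg.pCore r ↥B).Normal := inferInstance
    constructor
    · rintro ⟨w, hw, rfl⟩
      exact ⟨_, hn.conj_mem w hw ⟨s, hSB hs⟩, rfl⟩
    · rintro ⟨w, hw, e⟩
      refine ⟨_, hn.conj_mem w hw (⟨s, hSB hs⟩ : B)⁻¹, ?_⟩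
      simp at e ⊢
      rw [e]; group
  refine ⟨fun q hq hqF => ?_, fun p hp hpF => ?_⟩
  · haveI : Fact q.Prime := ⟨hq⟩
    set X := (Cfsg.pCore q ↥B).map B.subtype
    set Y := X.subgroupOf A with hYdef
    have hYp : IsPGroup q Y := (CfsgLib.PCore.pCore_isPGroup.map _).comap_subtype
    have hn : S' ≤ Subgroup.normalizer (Y : Set A) := conj_subgroupOf (hnormB q)
    have h1 : Cfsg.layer ↥A ≤ Subgroup.centralizer (Y : Set A) := layer_le_centralizer_pGroup hlarge hYp hn
    have h2 : Y ≤ Subgroup.centralizer (fitPrime q ↥A : Set A) :=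
      centralizes_fitPrime hlarge hYp (inf_fitPrime_le_centralizer hYp hn)
    have hfit : Cfsg.fittingSubgroup ↥A ≤ fitPrime q ↥A := by
      haveI := CfsgLib.Fitting.fitting_normal (G := ↥A)
      exact le_inf (CfsgLib.PCore.le_pPrimeCore inferInstance (hq.coprime_iff_not_dvd.mpr hqF).symm) le_rfl
    have h3 : Y ≤ Subgroup.centralizer (Φ : Set A) :=
      Subgroup.le_centralizer_iff.mp (sup_le h1 (hfit.trans (Subgroup.le_centralizer_iff.mp h2)))
    have h4 : Y = ⊥ := by
      have h5 := h3.trans centralizer_generalizedFitting_le_fitting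
      rw [← inf_eq_left.mpr h5]
      exact CfsgLib.PCore.inf_eq_bot_of_isPGroup_coprime hYp (hq.coprime_iff_not_dvd.mpr hqF).symm
    rwa [hYdef, Subgroup.subgroupOf_eq_bot, disjoint_iff] at h4
  · haveI : Fact p.Prime := ⟨hp⟩
    set X := (Cfsg.pCore p ↥B).map B.subtype with hXdef
    have hXp : IsPGroup p X := CfsgLib.PCore.pCore_isPGroup.map _
    set P := Cfsg.pCore p ↥A with hPdef
    have hPne : P ≠ ⊥ := by
      intro h0
      have h1 : Cfsg.fittingSubgroup ↥A ≤ fitPrime p ↥A := by
        have := fitting_le_sup (Γ := ↥A) (p := p)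
        rwa [← hPdef, h0, sup_bot_eq] at this
      have h2 : (Nat.card (Cfsg.fittingSubgroup ↥A)).Coprime p :=
        Nat.Coprime.coprime_dvd_left (Subgroup.card_dvd_of_le (h1.trans inf_le_left))
          CfsgLib.PCore.pPrimeCore_coprime
      exact hp.coprime_iff_not_dvd.mp h2.symm hpF
    haveI : Nontrivial P := (Subgroup.nontrivial_iff_ne_bot P).mpr hPne
    haveI := (CfsgLib.PCore.pCore_isPGroup (p := p) (G := ↥A)).center_nontrivial
    set Z := (Subgroup.center P).map P.subtype with hZdef
    have hZne : Z ≠ ⊥ := by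
      rw [hZdef, Ne, Subgroup.map_eq_bot_iff_of_injective _ P.subtype_injective]
      exact (Subgroup.nontrivial_iff_ne_bot _).mp inferInstance
    haveI : Z.Normal := inferInstance
    set K := fitPrime p ↥A with hKdef
    haveI : K.Normal := fitPrime_normal p
    have hPΦ : P ≤ Φ := (CfsgLib.Fitting.pCore_le_fitting hp).trans fitting_le_generalizedFitting
    have hPK : K ≤ Subgroup.centralizer (P : Set A) :=
      inf_le_left.trans CfsgLib.PCore.pPrimeCore_le_centralizer_pCore
    have hPE : Cfsg.layer ↥A ≤ Subgroup.centralizer (P : Set A) :=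
      layer_le_centralizer_fitting.trans
        (Subgroup.centralizer_le (SetLike.coe_subset_coe.mpr (CfsgLib.Fitting.pCore_le_fitting hp)))
    have hZS : Z ≤ S' ⊓ P := by
      rintro _ ⟨⟨w, hw⟩, hwc, rfl⟩
      refine ⟨mem_of_commute hlarge (hPΦ hw) ?_, hw⟩
      refine Subgroup.mem_centralizer_iff.mpr fun v hv => ?_
      have hle : Φ ≤ Subgroup.centralizer ({w} : Set A) := by
        refine sup_le (hPE.trans (Subgroup.centralizer_le (by simpa using hw))) ?_
        refine le_trans (fitting_le_sup (p := p)) (sup_le (hPK.trans (Subgroup.centralizer_le (by simpa using hw))) ?_)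
        intro u hu
        exact Subgroup.mem_centralizer_singleton_iff.mpr
          (congrArg Subtype.val (Subgroup.mem_center_iff.mp hwc ⟨u, hu⟩))
      exact Subgroup.mem_centralizer_singleton_iff.mp (hle hv)
    set P0 := (S' ⊓ P).map A.subtype with hP0def
    have hP0p : IsPGroup p P0 := (CfsgLib.PCore.pCore_isPGroup.to_le inf_le_right).map _
    have hXn : ∀ s ∈ S', (s : G) ∈ Subgroup.normalizer (X : Set G) := hnormB p
    have hP0X : P0 ≤ Subgroup.normalizer (X : Set G) := by
      rintro _ ⟨s, hs, rfl⟩; exact hXn s hs.1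
    set Y := (X ⊓ Subgroup.centralizer (P0 : Set G)).subgroupOf A with hYdef
    have hYp : IsPGroup p Y := (hXp.to_le inf_le_left).comap_subtype
    have hYn : S' ≤ Subgroup.normalizer (Y : Set A) := by
      refine conj_subgroupOf fun s hs => Subgroup.inf_normalizer_le_normalizer_inf ⟨hXn s hs, ?_⟩
      have key : ∀ t ∈ S', ∀ y ∈ Subgroup.centralizer (P0 : Set G),
          (t : G) * y * (t : G)⁻¹ ∈ Subgroup.centralizer (P0 : Set G) := by
        intro t ht y hy
        rw [Subgroup.mem_centralizer_iff]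
        rintro _ ⟨v, hv, rfl⟩
        have := Subgroup.mem_centralizer_iff.mp hy _
          ⟨t⁻¹ * v * t, ⟨S'.mul_mem (S'.mul_mem (S'.inv_mem ht) hv.1) ht, by
            simpa using Subgroup.Normal.conj_mem (inferInstance : P.Normal) v hv.2 t⁻¹⟩, rfl⟩
        simp only [Subgroup.subtype_apply, Subgroup.coe_mul, Subgroup.coe_inv] at this ⊢
        calc (v : G) * ((t : G) * y * (t : G)⁻¹) = (t : G) * ((t : G)⁻¹ * v * t * y) * (t : G)⁻¹ := by group
          _ = (t : G) * (y * ((t : G)⁻¹ * v * t)) * (t : G)⁻¹ := by rw [this]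
          _ = _ := by group
      refine Subgroup.mem_normalizer_iff.mpr fun y => ⟨key s hs y, fun hy => ?_⟩
      have := key s⁻¹ (S'.inv_mem hs) _ hy
      simpa [mul_assoc] using this
    have hfixA : ∀ y ∈ X, y ∈ Subgroup.centralizer (P0 : Set G) → y ∈ A := by
      intro y _ hy
      refine normalizer_map_le hA Z hZne (Subgroup.centralizer_le_normalizer _ ?_)
      exact Subgroup.centralizer_le (SetLike.coe_subset_coe.mpr (Subgroup.map_mono hZS)) hy
    have hcent : ∀ w : A, w ∈ S' → w ∈ Subgroup.centralizer (P : Set A) →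
        w ∈ Subgroup.centralizer (Y : Set A) → (orderOf w).Coprime p →
        (w : G) ∈ Subgroup.centralizer (X : Set G) := by
      intro w hwS hwP hwY hord
      refine mem_centralizer_of_AxB hXp hP0p hP0X (hXn w hwS) ?_ (by rwa [Subgroup.orderOf_coe]) ?_
      · rw [Subgroup.mem_centralizer_iff]
        rintro _ ⟨v, hv, rfl⟩
        exact congrArg Subtype.val (Subgroup.mem_centralizer_iff.mp hwP v hv.2)
      · intro r hr hrc
        exact congrArg Subtype.val (Subgroup.mem_centralizer_iff.mp hwY ⟨r, hfixA r hr hrc⟩ ⟨hr, hrc⟩).symm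
    have hEX : (Cfsg.layer ↥A).map A.subtype ≤ Subgroup.centralizer (X : Set G) := by
      rw [Subgroup.map_le_iff_le_comap]
      refine sSup_le fun L hL => ?_
      have hLS := component_le hlarge hL
      refine le_of_forall_coprime_mem_of_perfect (p := p) (component_commutator_self hL) ?_ ?_
      · intro w hw
        rw [Subgroup.mem_normalizer_iff]
        intro v
        simp only [Subgroup.mem_comap, Subgroup.subtype_apply, Subgroup.coe_mul, Subgroup.coe_inv]
        have hN := hXn w (hLS hw)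
        have key : ∀ t ∈ Subgroup.normalizer (X : Set G), ∀ y ∈ Subgroup.centralizer (X : Set G),
            t * y * t⁻¹ ∈ Subgroup.centralizer (X : Set G) := by
          intro t ht y hy
          rw [Subgroup.mem_centralizer_iff]
          intro x hx
          have := Subgroup.mem_centralizer_iff.mp hy _ ((Subgroup.mem_normalizer_iff.mp (inv_mem ht) x).mp hx)
          rw [inv_inv] at this
          calc x * (t * y * t⁻¹) = t * (t⁻¹ * x * t * y) * t⁻¹ := by group
            _ = t * (y * (t⁻¹ * x * t)) * t⁻¹ := by rw [this]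
            _ = _ := by group
        refine ⟨key _ hN v, fun hv => ?_⟩
        have := key _ (inv_mem hN) _ hv
        simpa [mul_assoc] using this
      · intro w hw hord
        exact hcent w (hLS hw) (hPE (component_le_layer hL hw))
          (layer_le_centralizer_pGroup hlarge hYp hYn (component_le_layer hL hw)) hord
    have hKcop : (Nat.card K).Coprime p :=
      Nat.Coprime.coprime_dvd_left (Subgroup.card_dvd_of_le inf_le_left) CfsgLib.PCore.pPrimeCore_coprime
    have hKX : (S' ⊓ K).map A.subtype ≤ Subgroup.centralizer (X : Set G) := by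
      rintro _ ⟨w, hw, rfl⟩
      exact hcent w hw.1 (hPK hw.2) (inf_fitPrime_le_centralizer hYp hYn hw)
        (hKcop.coprime_dvd_left (Subgroup.orderOf_dvd_natCard _ hw.2))
    rintro x hx y ⟨w, hw, rfl⟩
    haveI := CfsgLib.Fitting.fitting_normal (G := ↥A)
    -- all `p'`-elements of `F*` lie in `E K`
    have hgen : (Cfsg.pResidual p ↥Φ).map Φ.subtype ≤ Cfsg.layer ↥A ⊔ K := by
      rw [Subgroup.map_le_iff_le_comap]
      refine (Subgroup.closure_le _).mpr fun u hu => ?_
      rw [Set.mem_ofPred_eq] at hu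
      rw [SetLike.mem_coe, Subgroup.mem_comap, Subgroup.subtype_apply]
      have hle : Φ ≤ (Cfsg.layer ↥A ⊔ K) ⊔ P := by
        rw [sup_assoc]; exact sup_le_sup le_rfl fitting_le_sup
      obtain ⟨a, ha, r, hr, har⟩ := Subgroup.mem_sup_of_normal_left.mp (hle u.2)
      set π := QuotientGroup.mk' (Cfsg.layer ↥A ⊔ K)
      have e : π (u : A) = π r := by
        rw [← har, map_mul, show π a = 1 from (QuotientGroup.eq_one_iff a).mpr ha, one_mul]
      obtain ⟨j, hj⟩ := IsPGroup.iff_orderOf.mp (CfsgLib.PCore.pCore_isPGroup (p := p) (G := ↥A)) ⟨r, hr⟩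
      rw [Subgroup.orderOf_mk] at hj
      have h1 : orderOf (π (u : A)) ∣ orderOf u := by
        rw [← Subgroup.orderOf_coe]; exact orderOf_map_dvd _ _
      have h2 : orderOf (π (u : A)) ∣ p ^ j := by rw [e, ← hj]; exact orderOf_map_dvd _ _
      have h3 : orderOf (π (u : A)) = 1 :=
        Nat.eq_one_of_dvd_coprimes (hu.pow_right j) h1 h2
      exact (QuotientGroup.eq_one_iff _).mp (orderOf_eq_one_iff.mp h3)
    have hw' : (Φ.subtype w : A) ∈ Cfsg.layer ↥A ⊔ K := hgen ⟨w, hw, rfl⟩
    by_cases htriv : Cfsg.layer ↥A ⊔ K = ⊥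
    · rw [htriv, Subgroup.mem_bot] at hw'
      rw [hw', map_one, mul_one, one_mul]
    have hXA : X ≤ A := by
      intro x hx
      by_cases hE : Cfsg.layer ↥A = ⊥
      · have hKne : K ≠ ⊥ := fun h => htriv (by rw [hE, h, sup_bot_eq])
        haveI : Group.IsNilpotent K :=
          CfsgLib.Fitting.isNilpotent_of_le CfsgLib.Fitting.fitting_isNilpotent inf_le_right
        haveI : Nontrivial K := (Subgroup.nontrivial_iff_ne_bot K).mpr hKne
        set ZK := (Subgroup.center K).map K.subtype with hZKdef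
        have hZKne : ZK ≠ ⊥ := by
          rw [hZKdef, Ne, Subgroup.map_eq_bot_iff_of_injective _ K.subtype_injective]
          intro h
          obtain ⟨n, hn⟩ := Group.IsNilpotent.nilpotent (G := K)
          have hall : ∀ m, Subgroup.upperCentralSeries K m = ⊥ := by
            intro m
            induction m with
            | zero => simp
            | succ m ihm =>
              refine le_bot_iff.mp fun v hv => ?_
              rw [Subgroup.mem_upperCentralSeries_succ_iff] at hv
              have : v ∈ Subgroup.center K := Subgroup.mem_center_iff.mpr fun u => by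
                have h1 := hv u
                rw [ihm, Subgroup.mem_bot] at h1
                have : v * u = u * v := by
                  simpa [commutatorElement_def, mul_inv_eq_one, mul_inv_eq_iff_eq_mul] using h1
                exact this.symm
              rwa [h] at this
          rw [hall n] at hn
          exact bot_ne_top hn
        haveI : ZK.Normal := inferInstance
        have hZK : ZK ≤ S' ⊓ K := by
          rintro _ ⟨⟨v, hv⟩, hvc, rfl⟩
          refine ⟨mem_of_commute hlarge (fitting_le_generalizedFitting hv.2) ?_, hv⟩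
          have hle : Φ ≤ Subgroup.centralizer ({v} : Set A) := by
            refine sup_le (by rw [hE]; exact bot_le) (le_trans (fitting_le_sup (p := p)) (sup_le ?_ ?_))
            · intro u hu
              exact Subgroup.mem_centralizer_singleton_iff.mpr
                (congrArg Subtype.val (Subgroup.mem_center_iff.mp hvc ⟨u, hu⟩))
            · intro u hu
              exact Subgroup.mem_centralizer_singleton_iff.mpr
                (Subgroup.mem_centralizer_iff.mp (hPK hv) u hu)
          exact Subgroup.mem_centralizer_iff.mpr fun u hu => Subgroup.mem_centralizer_singleton_iff.mp (hle hu)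
        exact normalizer_map_le hA ZK hZKne (Subgroup.centralizer_le_normalizer _
          ((Subgroup.le_centralizer_iff.mp ((Subgroup.map_mono hZK).trans hKX)) hx))
      · exact normalizer_map_le hA (Cfsg.layer ↥A) hE
          (Subgroup.centralizer_le_normalizer _ ((Subgroup.le_centralizer_iff.mp hEX) hx))
    set X' := X.subgroupOf A with hX'def
    have hX'p : IsPGroup p X' := hXp.comap_subtype
    have hXn' : S' ≤ Subgroup.normalizer (X' : Set A) := conj_subgroupOf hXn
    have hall : Cfsg.layer ↥A ⊔ K ≤ Subgroup.centralizer (X' : Set A) :=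
      sup_le (layer_le_centralizer_pGroup hlarge hX'p hXn') (Subgroup.le_centralizer_iff.mp
        (centralizes_fitPrime hlarge hX'p (inf_fitPrime_le_centralizer hX'p hXn')))
    exact congrArg Subtype.val (Subgroup.mem_centralizer_iff.mp (hall hw') ⟨x, hXA hx⟩ hx)


end Cfsg.Agent.S1247
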