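import Cfsg.Statements.S1253
import Cfsg.Agent.S1187
import Cfsg.Agent.Lib.Involutions.Isolated

set_option autoImplicit false
open Cfsg

namespace Cfsg.Agent.S1253

/-- Let z be an isolated involution of the finite group G with centralizer C, p an odd prime and P a Sylow p-subgroup of G normalized by z. Then P ∩ C has p-power-free index in C (it is a Sylow p-subgroup of C), and |P : C_P(z)| equals the number of elements x ∈ P with z x z⁻¹ = x⁻¹. -/
theorem result {G : Type*} [Group G] [Finite G] (z : G) (hz : Cfsg.IsIsolatedInvolution z) {p : ℕ} [Fact p.Prime] (hp : p ≠ 2) (P : Sylow p G) (hzP : z ∈ Subgroup.normalizer ((P : Subgroup G) : Set G)) : ¬ p ∣ ((P : Subgroup G) ⊓ Subgroup.centralizer ({z} : Set G)).relIndex (Subgroup.centralizer ({z} : Set G)) ∧ ((P : Subgroup G) ⊓ Subgroup.centralizer ({z} : Set G)).relIndex (P : Subgroup G) = Nat.card {x : G // x ∈ P ∧ z * x * z⁻¹ = x⁻¹} := by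
  classical
  have hpp : p.Prime := Fact.out
  set C := Subgroup.centralizer ({z} : Set G)
  have hzz : z * z = 1 := CfsgLib.Involutions.Isolated.involution_mul_self hz.1
  have hzinv : z⁻¹ = z := inv_eq_of_mul_eq_one_left hzz
  have hzconj : ∀ a : G, a ∈ (P : Subgroup G) → z * a * z⁻¹ ∈ (P : Subgroup G) := fun a ha =>
    (Subgroup.mem_set_normalizer_iff.1 hzP a).1 ha
  refine ⟨?_, ?_⟩
  · -- a maximal z-invariant p-subgroup over a Sylow p-subgroup of C
    obtain ⟨R⟩ : Nonempty (Sylow p C) := inferInstance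
    let RG : Subgroup G := (R : Subgroup C).map C.subtype
    have hRz : z ∈ Subgroup.normalizer (RG : Set G) := by
      refine Subgroup.mem_normalizer_fintype fun v hv => ?_
      obtain ⟨c, hc, rfl⟩ := hv
      have := Subgroup.mem_centralizer_singleton_iff.1 c.2
      show z * (c : G) * z⁻¹ ∈ RG
      rw [← this, mul_inv_cancel_right]
      exact ⟨c, hc, rfl⟩
    obtain ⟨Q, hQmax⟩ := (Set.toFinite {T : Subgroup G | IsPGroup p T ∧
        z ∈ Subgroup.normalizer (T : Set G) ∧ RG ≤ T}).exists_maximal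
      ⟨RG, R.isPGroup'.map _, hRz, le_rfl⟩
    obtain ⟨⟨hQp, hQz, hRQ⟩, hmax⟩ := hQmax
    obtain ⟨P', hP'⟩ := Cfsg.Agent.S1187.result z hz Q hQp hQz (fun T hT hTz hle =>
      le_antisymm (hmax ⟨hT, hTz, hRQ.trans hle⟩ hle) hle)
    obtain ⟨g, hg⟩ := MulAction.exists_smul_eq G P P'
    have hmemP : ∀ a, a ∈ Q → g⁻¹ * a * g ∈ (P : Subgroup G) := by
      intro a ha
      rw [← hP', ← hg] at ha
      rw [Sylow.smul_def, Sylow.pointwise_smul_def,
        Subgroup.mem_pointwise_smul_iff_inv_smul_mem] at ha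
      simpa [MulAut.smul_def, mul_assoc] using ha
    have hmemQ : ∀ a, a ∈ (P : Subgroup G) → g * a * g⁻¹ ∈ Q := by
      intro a ha
      rw [← hP', ← hg, Sylow.smul_def, Sylow.pointwise_smul_def]
      exact ⟨a, ha, rfl⟩
    have hzg : g⁻¹ * z * g ∈ Subgroup.normalizer ((P : Subgroup G) : Set G) := by
      refine Subgroup.mem_normalizer_fintype fun a ha => ?_
      have h1 := (Subgroup.mem_set_normalizer_iff.1 hQz _).1 (hmemQ a ha)
      have h2 := hmemP _ h1
      show g⁻¹ * z * g * a * (g⁻¹ * z * g)⁻¹ ∈ (P : Subgroup G)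
      convert h2 using 1; group
    obtain ⟨n, hn, hne⟩ := CfsgLib.Involutions.Isolated.exists_conj_mem hz
      (Subgroup.normalizer ((P : Subgroup G) : Set G)) (u := z) (v := g⁻¹ * z * g) (IsConj.refl z)
      (isConj_iff.2 ⟨g⁻¹, by rw [inv_inv]⟩) hzP hzg
    have hgn : g * n ∈ C := by
      rw [Subgroup.mem_centralizer_singleton_iff]
      calc g * n * z = g * (n * z * n⁻¹) * n := by group
        _ = z * (g * n) := by rw [hne]; group
    -- conjugation by g*n carries R into P ⊓ C
    have hsub : RG.map (MulAut.conj (g * n)⁻¹).toMonoidHom ≤ (P : Subgroup G) ⊓ C := by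
      rintro _ ⟨a, ha, rfl⟩
      show (g * n)⁻¹ * a * ((g * n)⁻¹)⁻¹ ∈ (P : Subgroup G) ⊓ C
      refine ⟨?_, ?_⟩
      · have h1 := hmemP a (hRQ ha)
        have h2 := (Subgroup.mem_set_normalizer_iff''.1 hn _).1 h1
        rw [show (g * n)⁻¹ * a * ((g * n)⁻¹)⁻¹ = n⁻¹ * (g⁻¹ * a * g) * n by group]
        exact h2
      · obtain ⟨c, -, rfl⟩ := ha
        exact C.mul_mem (C.mul_mem (C.inv_mem hgn) c.2) (C.inv_mem (C.inv_mem hgn))
    have hcard : Nat.card (R : Subgroup C) ≤ Nat.card ↥((P : Subgroup G) ⊓ C) := by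
      have := Subgroup.card_le_of_le hsub
      rwa [Subgroup.card_map_of_injective (MulAut.conj (g * n)⁻¹).injective,
        Subgroup.card_map_of_injective C.subtype_injective] at this
    have hPC : IsPGroup p ↥(((P : Subgroup G) ⊓ C).subgroupOf C) :=
      (P.isPGroup'.to_le inf_le_left).comap_subtype
    obtain ⟨R', hR'⟩ := hPC.exists_le_sylow
    have heq : ((P : Subgroup G) ⊓ C).subgroupOf C = (R' : Subgroup C) := by
      refine Subgroup.eq_of_le_of_card_ge hR' ?_
      rw [Nat.card_congr (Subgroup.subgroupOfEquivOfLe inf_le_right).toEquiv,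
        Nat.card_congr (Sylow.equiv R' R).toEquiv]
      exact hcard
    rw [Subgroup.relIndex, heq]
    exact Sylow.not_dvd_index R'
  · -- cosets of C_P(z) against inverted elements
    have hodd : ∀ y ∈ (P : Subgroup G), Odd (orderOf y) := by
      intro y hy
      obtain ⟨k, hk⟩ := IsPGroup.iff_orderOf.1 P.isPGroup' ⟨y, hy⟩
      rw [Subgroup.orderOf_mk] at hk
      rw [hk]
      exact (hpp.odd_of_ne_two hp).pow
    have hψ : ∀ a b : (P : Subgroup G),
        QuotientGroup.leftRel (((P : Subgroup G) ⊓ C).subgroupOf (P : Subgroup G)) a b →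
          (a : G) * (z * (a : G)⁻¹ * z⁻¹) = (b : G) * (z * (b : G)⁻¹ * z⁻¹) := by
      intro a b hab
      rw [QuotientGroup.leftRel_apply, Subgroup.mem_subgroupOf] at hab
      have h := Subgroup.mem_centralizer_singleton_iff.1 hab.2
      simp only [Subgroup.coe_mul, InvMemClass.coe_inv] at h
      calc (a : G) * (z * (a : G)⁻¹ * z⁻¹)
          = (a : G) * (z * ((a : G)⁻¹ * b)) * (b : G)⁻¹ * z⁻¹ := by group
        _ = _ := by rw [← h]; group
    let ψ : ↥(P : Subgroup G) ⧸ ((P : Subgroup G) ⊓ C).subgroupOf (P : Subgroup G) →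
        {x : G // x ∈ P ∧ z * x * z⁻¹ = x⁻¹} :=
      Quotient.lift (fun a => ⟨(a : G) * (z * (a : G)⁻¹ * z⁻¹),
          mul_mem a.2 (hzconj _ (inv_mem a.2)), by
            have e : z * z * (a : G)⁻¹ * (z * z)⁻¹ = (a : G)⁻¹ := by rw [hzz]; group
            calc z * ((a : G) * (z * (a : G)⁻¹ * z⁻¹)) * z⁻¹
                = z * (a : G) * z⁻¹ * (z * z * (a : G)⁻¹ * (z * z)⁻¹) := by group
              _ = _ := by rw [e]; group⟩)
        (fun a b h => Subtype.ext (hψ a b h))
    have hinj : Function.Injective ψ := by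
      intro u v
      induction u using QuotientGroup.induction_on with
      | H a =>
        induction v using QuotientGroup.induction_on with
        | H b =>
          intro h
          have h' : (a : G) * (z * (a : G)⁻¹ * z⁻¹) = (b : G) * (z * (b : G)⁻¹ * z⁻¹) :=
            congrArg Subtype.val h
          rw [QuotientGroup.eq, Subgroup.mem_subgroupOf]
          refine ⟨(P : Subgroup G).mul_mem ((P : Subgroup G).inv_mem a.2) b.2, ?_⟩
          show ((a⁻¹ * b : (P : Subgroup G)) : G) ∈ C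
          rw [Subgroup.mem_centralizer_singleton_iff]
          simp only [Subgroup.coe_mul, InvMemClass.coe_inv]
          calc (a : G)⁻¹ * b * z = (a : G)⁻¹ * ((b : G) * (z * (b : G)⁻¹ * z⁻¹)) * (z * b) := by group
            _ = z * ((a : G)⁻¹ * b) * (z⁻¹ * z) := by rw [← h']; group
            _ = _ := by rw [inv_mul_cancel, mul_one]
    have hsurj : Function.Surjective ψ := by
      rintro ⟨y, hy, hinv⟩
      obtain ⟨r, hr, hr2, -⟩ := CfsgLib.Involutions.Isolated.exists_sqrt_of_odd (hodd y hy)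
      have hrP : r ∈ (P : Subgroup G) := (Subgroup.zpowers_le.2 hy) hr
      have hri := CfsgLib.Involutions.Isolated.inv_of_mem_zpowers hinv hr
      refine ⟨QuotientGroup.mk ⟨r, hrP⟩, Subtype.ext ?_⟩
      show r * (z * r⁻¹ * z⁻¹) = y
      rw [← conj_inv, hri, inv_inv, ← pow_two, hr2]
    rw [Subgroup.relIndex, Subgroup.index]
    exact Nat.card_congr (Equiv.ofBijective ψ ⟨hinj, hsurj⟩)

end Cfsg.Agent.S1253
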