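import Cfsg.Statements.S1254
import Cfsg.Agent.Lib.TwoGroups.DihedralFusion

set_option autoImplicit false
open Cfsg

namespace Cfsg.Agent.S1254

/-- Let X be a finite group whose Sylow 2-subgroup S is dihedral (of order at least 4). Then X has a normal 2-complement if and only if, for every Klein four-subgroup U ≤ S, the normalizer N_X(U) is generated by C_X(U) and N_S(U). -/
theorem result {X : Type*} [Group X] [Finite X] (S : Sylow 2 X) (m : ℕ) (hm : 2 ≤ m) (eS : (S : Subgroup X) ≃* DihedralGroup m) : Cfsg.HasNormalPComplement 2 X ↔ ∀ U : Subgroup X, U ≤ S → IsKleinFour U → Subgroup.normalizer (U : Set X) = Subgroup.centralizer (U : Set X) ⊔ ((S : Subgroup X) ⊓ Subgroup.normalizer (U : Set X)) := by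
  classical
  have : Fact (Nat.Prime 2) := ⟨Nat.prime_two⟩
  constructor
  · intro h U _ hU
    have hd := CfsgLib.Transfer.hasNormalPComplement_iff.mp h
    have hN := CfsgLib.Transfer.pResidual_normal (G := X) (p := 2)
    refine le_antisymm ?_ (sup_le ?_ inf_le_right)
    · intro n hn
      have hfrob := CfsgLib.Transfer.frobeniusCond_of_hasNormalPComplement h
      set NN := Subgroup.normalizer (U : Set X)
      set C := Subgroup.centralizer (U : Set X)
      have hN0 : Cfsg.pResidual 2 X ⊓ NN ≤ C := fun x hx =>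
        hfrob U (hU.exponent_two ▸ fun u => ⟨1, by
          simpa [hU.exponent_two] using Monoid.pow_exponent_eq_one u⟩) x hx.2
          (CfsgLib.Transfer.coprime_orderOf_of_not_dvd hd hx.1)
      have hmem : n ∈ (S : Subgroup X) ⊔ Cfsg.pResidual 2 X := by
        rw [CfsgLib.Transfer.sylow_sup_pResidual]; exact Subgroup.mem_top n
      obtain ⟨s, hs, k, hk, rfl⟩ := Subgroup.mem_sup_of_normal_right.1 hmem
      have hkU : ∀ u ∈ U, s⁻¹ * (s * k * u * (s * k)⁻¹) * s = k * u * k⁻¹ := fun u _ => by group
      have hsk : ∀ u ∈ U, s * k * u * (s * k)⁻¹ = s * u * s⁻¹ := by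
        intro u hu
        have h1 : s * k * u * (s * k)⁻¹ * (s * u * s⁻¹)⁻¹ ∈ Cfsg.pResidual 2 X := by
          rw [show s * k * u * (s * k)⁻¹ * (s * u * s⁻¹)⁻¹ = s * (k * (u * k⁻¹ * u⁻¹)) * s⁻¹ by group]
          exact hN.conj_mem _ (mul_mem hk (hN.conj_mem _ (inv_mem hk) u)) s
        have hUS : u ∈ (S : Subgroup X) := ‹U ≤ (S : Subgroup X)› hu
        have h2 : s * k * u * (s * k)⁻¹ * (s * u * s⁻¹)⁻¹ ∈ (S : Subgroup X) :=
          mul_mem (‹U ≤ (S : Subgroup X)› ((Subgroup.mem_set_normalizer_iff.1 hn u).1 hu))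
            (inv_mem (mul_mem (mul_mem hs hUS) (inv_mem hs)))
        obtain ⟨e, he⟩ := IsPGroup.iff_orderOf.1 S.isPGroup' ⟨_, h2⟩
        rw [Subgroup.orderOf_mk] at he
        have h3 := Nat.eq_one_of_dvd_coprimes
          ((CfsgLib.Transfer.coprime_orderOf_of_not_dvd hd h1).pow_right e) dvd_rfl he.dvd
        exact mul_inv_eq_one.1 (orderOf_eq_one_iff.1 h3)
      have hsN : s ∈ NN := by
        refine Subgroup.mem_normalizer_fintype fun u hu => ?_
        rw [← hsk u hu]
        exact (Subgroup.mem_set_normalizer_iff.1 hn u).1 hu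
      have hkC : k ∈ C := by
        refine hN0 ⟨hk, ?_⟩
        have := mul_mem (inv_mem hsN) hn
        simpa [mul_assoc] using this
      exact mul_mem (Subgroup.mem_sup_right ⟨hs, hsN⟩) (Subgroup.mem_sup_left hkC)
    · intro c hc
      refine Subgroup.mem_normalizer_fintype fun u hu => ?_
      rw [SetLike.mem_coe, ← Subgroup.mem_centralizer_iff.1 hc u hu, mul_inv_cancel_right]
      exact hu
  · intro h
    apply CfsgLib.Transfer.hasNormalPComplement_of_frobeniusCond
    apply CfsgLib.Transfer.frobeniusCond_of_controls S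
    intro x hx g hgx
    rcases Nat.lt_or_ge 2 m with hm4 | hm2
    · obtain ⟨d, hdS⟩ := CfsgLib.TwoGroups.DihedralFusion.exists_data S eS hm4
      subst hdS
      have := d.neZero
      refine CfsgLib.TwoGroups.DihedralFusion.controls_of_fix ?_ hx hgx
      intro i n hn
      rw [h _ (CfsgLib.TwoGroups.DihedralFusion.V_le i)
        (CfsgLib.TwoGroups.DihedralFusion.V_klein i)] at hn
      have hle : Subgroup.centralizer (d.V i : Set X) ⊔
          ((d.S : Subgroup X) ⊓ Subgroup.normalizer (d.V i : Set X)) ≤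
            Subgroup.centralizer ({d.z} : Set X) := by
        refine sup_le (fun c hc => Subgroup.mem_centralizer_singleton_iff.2 ?_)
          (inf_le_left.trans CfsgLib.TwoGroups.DihedralFusion.S_le_centralizer_z)
        exact (Subgroup.mem_centralizer_iff.1 hc _
          (CfsgLib.TwoGroups.DihedralFusion.mem_V_iff.2 (Or.inr (Or.inl rfl)))).symm
      exact Subgroup.mem_centralizer_singleton_iff.1 (hle hn)
    · obtain rfl : m = 2 := le_antisymm hm2 hm
      have hK : IsKleinFour (S : Subgroup X) :=
        ⟨by rw [Nat.card_congr eS.toEquiv, DihedralGroup.nat_card],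
          by rw [Monoid.exponent_eq_of_mulEquiv eS, DihedralGroup.exponent]; rfl⟩
      have hc : IsMulCommutative (S : Subgroup X) := hK.isMulCommutative
      obtain ⟨n, hn, hne⟩ := Sylow.conj_eq_normalizer_conj_of_mem S x g⁻¹ hx (by rwa [inv_inv])
      rw [inv_inv] at hne
      replace hn : n ∈ Subgroup.normalizer ((S : Subgroup X) : Set X) := hn
      rw [h _ le_rfl hK] at hn
      have hle : Subgroup.centralizer ((S : Subgroup X) : Set X) ⊔
          ((S : Subgroup X) ⊓ Subgroup.normalizer ((S : Subgroup X) : Set X)) ≤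
            Subgroup.centralizer ((S : Subgroup X) : Set X) := by
        refine sup_le le_rfl (inf_le_left.trans fun a ha => Subgroup.mem_centralizer_iff.2
          fun b hb => congrArg Subtype.val (hc.is_comm.comm ⟨b, hb⟩ ⟨a, ha⟩))
      have h1 := Subgroup.mem_centralizer_iff.1 (hle hn) x hx
      refine ⟨1, one_mem _, ?_⟩
      rw [hne, mul_assoc n⁻¹ x n, h1, inv_mul_cancel_left]
      simp

end Cfsg.Agent.S1254
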