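import Cfsg.Statements.S1255
import Cfsg.Agent.Lib.TwoGroups.DihedralFusion
import Cfsg.Agent.Lib.Involutions.KleinSylow

set_option autoImplicit false
open Cfsg

namespace Cfsg.Agent.S1255

/-- Let X be a finite group whose Sylow 2-subgroup S is dihedral of order 2m ≥ 4. Then X has no subgroup of index 2 and no isolated involution if and only if either all involutions of X are conjugate, or for every Klein four-subgroup U ≤ S the index |N_X(U) : C_X(U)| equals 3 when |S| = 4 and equals 6 when |S| > 4. -/
theorem result {X : Type*} [Group X] [Finite X] (S : Sylow 2 X) (m : ℕ) (hm : 2 ≤ m) (eS : (S : Subgroup X) ≃* DihedralGroup m) : ((∀ H : Subgroup X, H.index ≠ 2) ∧ (∀ z : X, ¬ Cfsg.IsIsolatedInvolution z)) ↔ ((∀ a b : X, orderOf a = 2 → orderOf b = 2 → IsConj a b) ∨ (∀ U : Subgroup X, U ≤ S → IsKleinFour U → (Subgroup.centralizer (U : Set X)).relIndex (Subgroup.normalizer (U : Set X)) = (if Nat.card S = 4 then 3 else 6))) := by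
  classical
  have : Fact (Nat.Prime 2) := ⟨Nat.prime_two⟩
  have hcardS : Nat.card S = 2 * m := by
    show Nat.card (S : Subgroup X) = _
    rw [Nat.card_congr eS.toEquiv, DihedralGroup.nat_card]
  rcases Nat.lt_or_ge 2 m with hm4 | hm2
  · obtain ⟨d, hdS⟩ := CfsgLib.TwoGroups.DihedralFusion.exists_data S eS hm4
    subst hdS
    have := d.neZero
    constructor
    · rintro ⟨hidx, hiso⟩
      exact Or.inl fun a b ha hb => CfsgLib.TwoGroups.DihedralFusion.all_conj (d := d)
        (CfsgLib.TwoGroups.DihedralFusion.conj_z_of_fusion_simple hidx hiso) ha hb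
    · rintro (h | h)
      · exact CfsgLib.TwoGroups.DihedralFusion.fusion_simple_of_all_conj (d := d) h
      · refine CfsgLib.TwoGroups.DihedralFusion.fusion_simple_of_all_conj (d := d) fun a b ha hb =>
          CfsgLib.TwoGroups.DihedralFusion.all_conj (d := d) ?_ ha hb
        intro i
        have h6 := h _ (CfsgLib.TwoGroups.DihedralFusion.V_le (d := d) i)
          (CfsgLib.TwoGroups.DihedralFusion.V_klein i)
        rw [if_neg (by omega)] at h6
        by_contra hcon
        have hle := CfsgLib.TwoGroups.DihedralFusion.relIndex_le_two (d := d) (i := i) fun n hn => by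
          rcases CfsgLib.TwoGroups.DihedralFusion.mem_V_iff.1
            ((Subgroup.mem_set_normalizer_iff.1 hn d.z).1
              (CfsgLib.TwoGroups.DihedralFusion.mem_V_iff.2 (Or.inr (Or.inl rfl)))) with e | e | e | e
          · exact absurd (conj_eq_one_iff.1 e) CfsgLib.TwoGroups.DihedralFusion.z_ne_one
          · exact mul_inv_eq_iff_eq_mul.1 e
          · exact absurd (isConj_iff.2 ⟨n, e⟩) hcon
          · exfalso
            obtain ⟨s, -, -, hs⟩ := CfsgLib.TwoGroups.DihedralFusion.exists_swap (d := d) i
            exact hcon ((isConj_iff.2 ⟨n, e⟩ : IsConj d.z (d.w (i + d.j))).trans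
              (isConj_iff.2 ⟨s, hs⟩))
        omega
  · obtain rfl : m = 2 := le_antisymm hm2 hm
    have hK : IsKleinFour (S : Subgroup X) :=
      ⟨by rw [Nat.card_congr eS.toEquiv, DihedralGroup.nat_card],
        by rw [Monoid.exponent_eq_of_mulEquiv eS, DihedralGroup.exponent]; rfl⟩
    have hto : ∀ x : X, orderOf x = 2 → ∃ g : X, g * x * g⁻¹ ∈ (S : Subgroup X) := fun x hx => by
      obtain ⟨g, hg⟩ := CfsgLib.Involutions.exists_conj_le_sylow
        (CfsgLib.Involutions.isPGroup_two_zpowers hx) S
      exact ⟨g, hg x (Subgroup.mem_zpowers x)⟩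
    have spread : ∀ a b : X, a ∈ S → b ∈ S → a ≠ 1 → a ≠ b → IsConj a b →
        ∀ x y : X, orderOf x = 2 → orderOf y = 2 → IsConj x y := by
      intro a b ha hb ha1 hne hab x y hx hy
      obtain ⟨g, hg⟩ := hto x hx
      obtain ⟨k, hk⟩ := hto y hy
      have h1 := CfsgLib.Involutions.klein_all_conj S hK ha hb ha1 hne hab hg hk
        (fun e => CfsgLib.Involutions.ne_one_of_involution hx (conj_eq_one_iff.1 e))
        (fun e => CfsgLib.Involutions.ne_one_of_involution hy (conj_eq_one_iff.1 e))
      exact ((isConj_iff.2 ⟨g, rfl⟩ : IsConj x (g * x * g⁻¹)).trans h1).trans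
        (isConj_iff.2 ⟨k, rfl⟩ : IsConj y (k * y * k⁻¹)).symm
    constructor
    · rintro ⟨-, hiso⟩
      left
      obtain ⟨z, hz⟩ := exists_prime_orderOf_dvd_card' (G := (S : Subgroup X)) 2
        (by rw [hK.card_four]; norm_num)
      obtain ⟨g, hg, hne⟩ : ∃ g : X, g * (z : X) * g⁻¹ ∈ S ∧ g * (z : X) * g⁻¹ ≠ z := by
        by_contra hcon
        push Not at hcon
        exact hiso z (CfsgLib.Involutions.isIsolated_of_sylow S
          (by rw [Subgroup.orderOf_coe, hz]) hcon)
      exact spread z _ z.2 hg (fun e => by
        rw [show z = 1 from Subtype.ext e, orderOf_one] at hz; omega) hne.symm (isConj_iff.2 ⟨g, rfl⟩)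
    · intro h
      have hall : ∀ a b : X, orderOf a = 2 → orderOf b = 2 → IsConj a b := by
        rcases h with h | h
        · exact h
        have h3 := h _ le_rfl hK
        rw [if_pos (by omega)] at h3
        obtain ⟨n, hn, hnC⟩ : ∃ n ∈ Subgroup.normalizer ((S : Subgroup X) : Set X),
            n ∉ Subgroup.centralizer ((S : Subgroup X) : Set X) := by
          by_contra hcon
          push Not at hcon
          rw [Subgroup.relIndex_eq_one.2 hcon] at h3
          omega
        rw [Subgroup.mem_centralizer_iff] at hnC
        push Not at hnC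
        obtain ⟨a, ha, hne⟩ := hnC
        refine spread a (n * a * n⁻¹) ha ((Subgroup.mem_set_normalizer_iff.1 hn a).1 ha) ?_ ?_
          (isConj_iff.2 ⟨n, rfl⟩)
        · rintro rfl; simp at hne
        · intro e
          apply hne
          calc a * n = n * a * n⁻¹ * n := by rw [← e]
            _ = n * a := by group
      refine ⟨fun H hH => ?_, fun t ht => ?_⟩
      · have hn : H.Normal := Subgroup.normal_of_index_eq_two hH
        obtain ⟨a, ha⟩ := exists_prime_orderOf_dvd_card' (G := (S : Subgroup X)) 2
          (by rw [hK.card_four]; norm_num)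
        have hiff : ∀ x : X, x ∈ S → x ≠ 1 → (x ∈ H ↔ (a : X) ∈ H) := by
          intro x hx hx1
          obtain ⟨c, hc⟩ := isConj_iff.1 (hall a x (by rw [Subgroup.orderOf_coe, ha])
            (CfsgLib.Involutions.klein_orderOf S hK hx hx1))
          constructor
          · intro hxH
            have h2 := hn.conj_mem x hxH c⁻¹
            rw [← hc] at h2
            simpa [mul_assoc] using h2
          · intro haH
            rw [← hc]
            exact hn.conj_mem _ haH c
        obtain ⟨b, hb⟩ : ∃ b : (S : Subgroup X), b ≠ 1 ∧ b ≠ a := by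
          have : Fintype (S : Subgroup X) := Fintype.ofFinite _
          by_contra hcon
          push Not at hcon
          have h4 : Finset.univ ⊆ ({1, a} : Finset (S : Subgroup X)) := by
            intro b _
            by_cases hb : b = 1
            · simp [hb]
            · simp [hcon b hb]
          have h5 := (Finset.card_le_card h4).trans Finset.card_le_two
          rw [Finset.card_univ, ← Nat.card_eq_fintype_card, hK.card_four] at h5
          omega
        have hab : (a : X) * b ∈ H := by
          rw [Subgroup.mul_mem_iff_of_index_two hH, hiff b b.2 (fun e => hb.1 (Subtype.ext e))]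
        have hab1 : (a : X) * b ≠ 1 := fun e => hb.2 (Subtype.ext (by
          rw [← inv_eq_of_mul_eq_one_right e]
          exact CfsgLib.Involutions.inv_eq_self_of_involution (by rw [Subgroup.orderOf_coe, ha])))
        have haH : (a : X) ∈ H := (hiff _ (mul_mem a.2 b.2) hab1).1 hab
        have hS : (S : Subgroup X) ≤ H := by
          intro x hx
          by_cases hx1 : x = 1
          · rw [hx1]; exact one_mem _
          · exact (hiff x hx hx1).2 haH
        have := Subgroup.index_dvd_of_le hS
        rw [hH] at this
        exact Sylow.not_dvd_index S this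
      · obtain ⟨g, hg⟩ := hto t ht.1
        obtain ⟨b, hb1, hb2⟩ : ∃ b ∈ (S : Subgroup X), b ≠ 1 ∧ b ≠ g * t * g⁻¹ := by
          by_contra hcon
          push Not at hcon
          have hsub : ∀ u : (S : Subgroup X), u = 1 ∨ u = ⟨_, hg⟩ := by
            intro u
            by_cases hu : u = 1
            · exact Or.inl hu
            · exact Or.inr (Subtype.ext (hcon u u.2 (fun e => hu (Subtype.ext e))))
          have : Fintype (S : Subgroup X) := Fintype.ofFinite _
          have h4 : Finset.univ ⊆ ({1, ⟨_, hg⟩} : Finset (S : Subgroup X)) := by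
            intro b _
            rcases hsub b with e | e <;> simp [e]
          have h5 := (Finset.card_le_card h4).trans Finset.card_le_two
          rw [Finset.card_univ, ← Nat.card_eq_fintype_card, hK.card_four] at h5
          omega
        obtain ⟨c, hc⟩ := isConj_iff.1 (hall t (g⁻¹ * b * g) ht.1 (by
          simpa using (CfsgLib.Involutions.orderOf_conj_eq g⁻¹ b).trans
            (CfsgLib.Involutions.klein_orderOf S hK hb1 hb2.1)))
        have hcomm : (g * t * g⁻¹) * b = b * (g * t * g⁻¹) :=
          congrArg Subtype.val ((hK.isMulCommutative).is_comm.comm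
            (⟨_, hg⟩ : (S : Subgroup X)) ⟨b, hb1⟩)
        have h6 := ht.2 c (by
          rw [hc]
          show t * (g⁻¹ * b * g) = g⁻¹ * b * g * t
          calc t * (g⁻¹ * b * g) = g⁻¹ * ((g * t * g⁻¹) * b) * g := by group
            _ = g⁻¹ * b * g * t := by rw [hcomm]; group)
        rw [hc] at h6
        apply hb2.2
        rw [← h6]; group

end Cfsg.Agent.S1255
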