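import Cfsg.Statements.S1256
import Cfsg.Agent.Lib.TwoGroups.DihedralFusion

set_option autoImplicit false
open Cfsg

namespace Cfsg.Agent.S1256

/-- Let X be a finite group whose Sylow 2-subgroup S is dihedral of order 2m ≥ 4. If |S| = 4, any two Klein four-subgroups of X are conjugate; if |S| > 4, there are Klein four-subgroups U₁, U₂ of X that are not conjugate, and every Klein four-subgroup of X is conjugate to U₁ or to U₂. -/
theorem result {X : Type*} [Group X] [Finite X] (S : Sylow 2 X) (m : ℕ) (hm : 2 ≤ m) (eS : (S : Subgroup X) ≃* DihedralGroup m) : (Nat.card S = 4 → ∀ U V : Subgroup X, IsKleinFour U → IsKleinFour V → (∃ x : X, U.map (MulAut.conj x).toMonoidHom = V)) ∧ (4 < Nat.card S → ∃ U₁ U₂ : Subgroup X, IsKleinFour U₁ ∧ IsKleinFour U₂ ∧ ¬ (∃ x : X, U₁.map (MulAut.conj x).toMonoidHom = U₂) ∧ ∀ V : Subgroup X, IsKleinFour V → (∃ x : X, V.map (MulAut.conj x).toMonoidHom = U₁) ∨ (∃ x : X, V.map (MulAut.conj x).toMonoidHom = U₂)) := by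
  classical
  have : Fact (Nat.Prime 2) := ⟨Nat.prime_two⟩
  have hcardS : Nat.card S = 2 * m := by
    show Nat.card (S : Subgroup X) = _
    rw [Nat.card_congr eS.toEquiv, DihedralGroup.nat_card]
  have intoS : ∀ V : Subgroup X, IsKleinFour V →
      ∃ g : X, V.map (MulAut.conj g).toMonoidHom ≤ (S : Subgroup X) ∧
        IsKleinFour (V.map (MulAut.conj g).toMonoidHom) := by
    intro V hV
    have hp : IsPGroup 2 V := fun v => ⟨1, by
      simpa [hV.exponent_two] using Monoid.pow_exponent_eq_one v⟩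
    obtain ⟨g, hg⟩ := CfsgLib.Involutions.exists_conj_le_sylow hp S
    refine ⟨g, ?_, ?_, ?_⟩
    · rintro _ ⟨v, hv, rfl⟩; exact hg v hv
    · rw [Subgroup.card_map_of_injective (MulAut.conj g).injective, hV.card_four]
    · rw [← hV.exponent_two]
      exact (Monoid.exponent_eq_of_mulEquiv
        (V.equivMapOfInjective _ (MulAut.conj g).injective)).symm
  refine ⟨fun h4 U V hU hV => ?_, fun h4 => ?_⟩
  · obtain ⟨g, hg, hg'⟩ := intoS U hU
    obtain ⟨k, hk, hk'⟩ := intoS V hV
    have e1 := Subgroup.eq_of_le_of_card_ge hg (by rw [hg'.card_four]; exact h4.le)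
    have e2 := Subgroup.eq_of_le_of_card_ge hk (by rw [hk'.card_four]; exact h4.le)
    refine ⟨k⁻¹ * g, Subgroup.map_injective (f := (MulAut.conj k).toMonoidHom)
      (MulAut.conj k).injective ?_⟩
    rw [Subgroup.map_map, e2, ← e1]
    congr 1
    ext x
    simp [mul_assoc]
  · obtain ⟨d, hdS⟩ := CfsgLib.TwoGroups.DihedralFusion.exists_data S eS (by omega)
    subst hdS
    have := d.neZero
    refine ⟨d.V 0, d.V 1, CfsgLib.TwoGroups.DihedralFusion.V_klein 0,
      CfsgLib.TwoGroups.DihedralFusion.V_klein 1, ?_, ?_⟩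
    · rintro ⟨x, hx⟩
      have := CfsgLib.TwoGroups.DihedralFusion.parity_eq_of_conj hx
      rw [map_zero, map_one] at this
      exact zero_ne_one this
    · intro V hV
      obtain ⟨g, hg, hg'⟩ := intoS V hV
      obtain ⟨i, hi⟩ := CfsgLib.TwoGroups.DihedralFusion.klein_le_eq hg hg'
      -- move `V i` inside `S` to index `0` or `1`
      have move : ∀ k, CfsgLib.TwoGroups.DihedralFusion.parity d.hj i =
          CfsgLib.TwoGroups.DihedralFusion.parity d.hj k →
          ∃ x : X, V.map (MulAut.conj x).toMonoidHom = d.V k := by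
        intro k hk
        obtain ⟨s, hs, hse⟩ := CfsgLib.TwoGroups.DihedralFusion.w_conj (d := d) hk
        refine ⟨s * g, Subgroup.eq_of_le_of_card_ge ?_ ?_⟩
        · rintro _ ⟨v, hv, rfl⟩
          have h1 : g * v * g⁻¹ ∈ d.V i := hi ▸ ⟨v, hv, rfl⟩
          have hz : s * d.z * s⁻¹ = d.z := by
            rw [← CfsgLib.TwoGroups.DihedralFusion.z_commute hs, mul_inv_cancel_right]
          show s * g * v * (s * g)⁻¹ ∈ d.V k
          rw [show s * g * v * (s * g)⁻¹ = s * (g * v * g⁻¹) * s⁻¹ by group]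
          rcases CfsgLib.TwoGroups.DihedralFusion.mem_V_iff.1 h1 with e | e | e | e <;> rw [e]
          · simp
          · rw [hz]; exact CfsgLib.TwoGroups.DihedralFusion.mem_V_iff.2 (Or.inr (Or.inl rfl))
          · rw [hse]
            exact CfsgLib.TwoGroups.DihedralFusion.mem_V_iff.2 (Or.inr (Or.inr (Or.inl rfl)))
          · rw [← CfsgLib.TwoGroups.DihedralFusion.z_mul_w,
              show s * (d.z * d.w i) * s⁻¹ = (s * d.z * s⁻¹) * (s * d.w i * s⁻¹) by group, hz, hse,
              CfsgLib.TwoGroups.DihedralFusion.z_mul_w]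
            exact CfsgLib.TwoGroups.DihedralFusion.mem_V_iff.2 (Or.inr (Or.inr (Or.inr rfl)))
        · rw [Subgroup.card_map_of_injective (MulAut.conj (s * g)).injective, hV.card_four,
            CfsgLib.TwoGroups.DihedralFusion.card_V]
      rcases CfsgLib.TwoGroups.DihedralFusion.zmod2_cases
        (CfsgLib.TwoGroups.DihedralFusion.parity d.hj i) with h | h
      · exact Or.inl (move 0 (by rw [h, map_zero]))
      · exact Or.inr (move 1 (by rw [h, map_one]))

end Cfsg.Agent.S1256
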