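import Cfsg.Statements.S1258
import Cfsg.Agent.Lib.Components.Basic
-- import your own Cfsg.Agent.* helpers here

set_option autoImplicit false
open Cfsg

namespace Cfsg.Agent.S1258

open scoped commutatorElement

open Subgroup in
/-- The derived group is quasisimple when it covers the simple central quotient. -/
theorem isQuasisimple_commutator {X : Type*} [Group X] [Finite X]
    (hs : IsSimpleGroup (X ⧸ Subgroup.center X)) (hna : ¬ IsMulCommutative (X ⧸ Subgroup.center X))
    (hsup : commutator X ⊔ Subgroup.center X = ⊤) : Cfsg.IsQuasisimple ↥(commutator X) := by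
  haveI := hs
  set D := commutator X
  have hcz : center D = (center X).subgroupOf D := by
    ext ⟨x, hx⟩
    simp only [mem_center_iff, mem_subgroupOf]
    refine ⟨fun h g => ?_, fun h k => Subtype.ext (h k)⟩
    obtain ⟨d, hd, z, hz, rfl⟩ := mem_sup_of_normal_left.mp (hsup ▸ mem_top g : g ∈ D ⊔ center X)
    have h1 : d * x = x * d := congrArg Subtype.val (h ⟨d, hd⟩)
    rw [mem_center_iff] at hz
    rw [mul_assoc, ← hz x, ← mul_assoc, h1, mul_assoc]
  have hperf : ⁅D, D⁆ = D := by
    refine le_antisymm (commutator_le_self D) ?_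
    show commutator X ≤ ⁅D, D⁆
    rw [commutator_def, commutator_le]
    intro a _ b _
    obtain ⟨d, hd, z, hz, rfl⟩ := mem_sup_of_normal_left.mp (hsup ▸ mem_top a : a ∈ D ⊔ center X)
    obtain ⟨e, he, w, hw, rfl⟩ := mem_sup_of_normal_left.mp (hsup ▸ mem_top b : b ∈ D ⊔ center X)
    have : ⁅d * z, e * w⁆ = ⁅d, e⁆ := by
      rw [mem_center_iff] at hz hw
      have e1 : ∀ t, z * t * z⁻¹ = t := fun t => by rw [← hz t, mul_inv_cancel_right]
      calc ⁅d * z, e * w⁆ = d * (z * (e * w) * z⁻¹) * d⁻¹ * (e * w)⁻¹ := by
            rw [commutatorElement_def]; group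
        _ = d * e * (w * d⁻¹) * w⁻¹ * e⁻¹ := by rw [e1]; group
        _ = d * e * d⁻¹ * e⁻¹ := by rw [← hw d⁻¹]; group
        _ = ⁅d, e⁆ := (commutatorElement_def d e).symm
    rw [this]
    exact commutator_mem_commutator hd he
  have hsurj : Function.Surjective ((QuotientGroup.mk' (center X)).comp D.subtype) := by
    intro q
    obtain ⟨g, rfl⟩ := QuotientGroup.mk'_surjective (center X) q
    obtain ⟨d, hd, z, hz, rfl⟩ := mem_sup_of_normal_left.mp (hsup ▸ mem_top g : g ∈ D ⊔ center X)
    exact ⟨⟨d, hd⟩, by rw [map_mul]; simp [(QuotientGroup.eq_one_iff z).mpr hz]⟩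
  refine ⟨Subgroup.isPerfect_iff.mpr hperf, ?_⟩
  have hker : ((QuotientGroup.mk' (center X)).comp D.subtype).ker = center D := by
    rw [hcz]
    ext x
    simp [mem_subgroupOf]
  exact MulEquiv.isSimpleGroup (((QuotientGroup.quotientMulEquivOfEq hker).symm).trans
    (QuotientGroup.quotientKerEquivOfSurjective _ hsurj))

/-- If the central quotient of a finite group X is non-abelian simple, then X = X' Z(X) and the commutator subgroup X' is quasisimple. -/
theorem result {X : Type*} [Group X] [Finite X] (hs : IsSimpleGroup (X ⧸ Subgroup.center X)) (hna : ¬ IsMulCommutative (X ⧸ Subgroup.center X)) : commutator X ⊔ Subgroup.center X = ⊤ ∧ Cfsg.IsQuasisimple ↥(commutator X) := by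
  open Subgroup in
  have hsup : commutator X ⊔ Subgroup.center X = ⊤ := by
    haveI := hs
    obtain h | h := ((inferInstance : (commutator X).Normal).map (QuotientGroup.mk' (center X))
      (QuotientGroup.mk'_surjective _)).eq_bot_or_eq_top
    · exfalso
      apply hna
      rw [Subgroup.map_eq_bot_iff, QuotientGroup.ker_mk'] at h
      refine ⟨⟨fun a b => ?_⟩⟩
      obtain ⟨x, rfl⟩ := QuotientGroup.mk'_surjective (center X) a
      obtain ⟨y, rfl⟩ := QuotientGroup.mk'_surjective (center X) b
      rw [← commutatorElement_eq_one_iff_mul_comm, ← map_commutatorElement, QuotientGroup.mk'_apply,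
        QuotientGroup.eq_one_iff]
      exact h (commutator_mem_commutator (mem_top _) (mem_top _))
    · have := congrArg (comap (QuotientGroup.mk' (center X))) h
      rwa [comap_map_eq, QuotientGroup.ker_mk', comap_top] at this
  refine ⟨hsup, ?_⟩
  exact isQuasisimple_commutator hs hna hsup

end Cfsg.Agent.S1258
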