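import Cfsg.Statements.S1259
import Cfsg.Agent.Lib.Components.Basic
-- import your own Cfsg.Agent.* helpers here

set_option autoImplicit false
open Cfsg

namespace Cfsg.Agent.S1259

/-- In a quasisimple group, every subnormal subgroup is either the whole group or central. -/
theorem result {X : Type*} [Group X] [Finite X] (hX : Cfsg.IsQuasisimple X) (H : Subgroup X) (hH : H.IsSubnormal) : H = ⊤ ∨ H ≤ Subgroup.center X := by
  open Subgroup in
  obtain rfl | ⟨K, hK, hle, hlt⟩ := hH.lt_normal
  · exact Or.inl rfl
  · haveI := hK
    exact Or.inr (hle.trans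
      ((CfsgLib.Components.quasisimple_normal_eq_top_or_le_center hX K).resolve_left hlt.ne))

end Cfsg.Agent.S1259
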