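import Cfsg.Statements.S1285
import Cfsg.Agent.Lib.Signalizer.Transitivity
-- import your own Cfsg.Agent.* helpers here

set_option autoImplicit false
open Cfsg

namespace Cfsg.Agent.S1285

/-- Let θ be a solvable A-signalizer functor on the finite group G with A elementary abelian of rank at least 3, and suppose that for some prime q every θ a (a ∈ A non-identity) is a q-group. Then θ is complete. -/
theorem result {G : Type*} [Group G] [Finite G] (p : ℕ) [Fact p.Prime] (A : Subgroup G) (hA : Cfsg.IsElementaryAbelian p A) (hA3 : p ^ 3 ≤ Nat.card ↥A) (θ : G → Subgroup G) (hθ : Cfsg.IsSolvableSignalizerFunctor p A θ) (q : ℕ) [Fact q.Prime] (hq : ∀ a ∈ A, a ≠ 1 → IsPGroup q ↥(θ a)) : Cfsg.IsCompleteSignalizerFunctor p A θ := by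
  obtain ⟨Q, hQ, -⟩ := CfsgLib.Signalizer.exists_maxQMember_ge (q := q)
    (CfsgLib.Signalizer.bot_mem_family (p := p) A θ) IsPGroup.of_bot
  refine ⟨hθ.1, Q, hQ.1.2.2.1, hQ.1.2.1, fun a ha ha1 => le_antisymm (hQ.1.2.2.2 a ha ha1) ?_⟩
  obtain ⟨c, hc, S, hS⟩ := CfsgLib.Signalizer.exists_conj_inf_sylow hA hA3 hθ hQ
    (CfsgLib.Signalizer.mem_family_theta hθ ha ha1)
  have hT : IsPGroup q (⊤ : Subgroup (θ a)) := (hq a ha ha1).of_equiv Subgroup.topEquiv.symm
  rw [← S.is_maximal' hT le_top, ← MonoidHom.range_eq_map, Subgroup.range_subtype] at hS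
  intro x hx
  have hcθ := CfsgLib.Signalizer.signalizerInf_le ha ha1 hc
  have h1 : c * x * c⁻¹ ∈ θ a := mul_mem (mul_mem hcθ hx) (inv_mem hcθ)
  rw [hS] at h1
  obtain ⟨⟨y, hy, e⟩, -⟩ := h1
  have e' : y = x := by simpa using e
  exact Subgroup.mem_inf.mpr ⟨e' ▸ hy, hθ.1.1 a ha ha1 hx⟩

end Cfsg.Agent.S1285
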