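import Cfsg.Statements.S1286
-- import your own Cfsg.Agent.* helpers here

set_option autoImplicit false
open Cfsg

namespace Cfsg.Agent.S1286

private abbrev Y := Equiv.Perm (Fin 5)

private def a : Y := Equiv.swap 0 1
private def b : Y := Equiv.swap 3 4
private def u : Y := Equiv.swap 0 1 * Equiv.swap 1 2
private def v : Y := Equiv.swap 2 3 * Equiv.swap 3 4

private def V4 : Subgroup Y where
  carrier := {x | x = 1 ∨ x = a ∨ x = b ∨ x = a * b}
  one_mem' := Or.inl rfl
  mul_mem' := by
    rintro x y (rfl | rfl | rfl | rfl) (rfl | rfl | rfl | rfl) <;> decide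
  inv_mem' := by
    rintro x (rfl | rfl | rfl | rfl) <;> decide

private def C3 (w : Y) (h : w * w = w⁻¹) : Subgroup Y where
  carrier := {x | x = 1 ∨ x = w ∨ x = w⁻¹}
  one_mem' := Or.inl rfl
  mul_mem' := by
    have h' : w⁻¹ * w⁻¹ = w := by rw [← mul_inv_rev, h, inv_inv]
    rintro x y (rfl | rfl | rfl) (rfl | rfl | rfl) <;> simp [h, h']
  inv_mem' := by
    rintro x (rfl | rfl | rfl) <;> simp

private def U : Subgroup Y := C3 u (by decide)
private def W : Subgroup Y := C3 v (by decide)

private def theta (x : Y) : Subgroup Y := if x = a then W else if x = b then U else ⊥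

private theorem mem_V4 {x : Y} : x ∈ V4 ↔ x = 1 ∨ x = a ∨ x = b ∨ x = a * b := Iff.rfl
private theorem mem_U {x : Y} : x ∈ U ↔ x = 1 ∨ x = u ∨ x = u⁻¹ := Iff.rfl
private theorem mem_W {x : Y} : x ∈ W ↔ x = 1 ∨ x = v ∨ x = v⁻¹ := Iff.rfl

private theorem theta_a : theta a = W := if_pos rfl
private theorem theta_b : theta b = U := by
  rw [theta, if_neg (by decide), if_pos rfl]
private theorem theta_c : theta (a * b) = ⊥ := by
  rw [theta, if_neg (by decide), if_neg (by decide)]

/-- There exist a finite group X, an elementary abelian subgroup A of order 4 and a solvable A-signalizer functor θ on X for the prime 2 which is not complete. -/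
theorem result : ∃ (X : Type) (_ : Group X) (_ : Finite X) (A : Subgroup X) (θ : X → Subgroup X), Cfsg.IsElementaryAbelian 2 A ∧ Nat.card ↥A = 4 ∧ Cfsg.IsSolvableSignalizerFunctor 2 A θ ∧ ¬ Cfsg.IsCompleteSignalizerFunctor 2 A θ := by
  have hc : ∀ (S : Subgroup Y) (n : ℕ) (t : Finset Y), t.card = n → (∀ x, x ∈ S ↔ x ∈ t) →
      Nat.card S = n := by
    intro S n t ht h
    rw [Nat.card_congr (Equiv.subtypeEquivRight h), Nat.card_eq_fintype_card, Fintype.card_coe, ht]
  have hU : Nat.card U = 3 := hc U 3 {1, u, u⁻¹} (by decide) fun x => by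
    simp [mem_U]
  have hW : Nat.card W = 3 := hc W 3 {1, v, v⁻¹} (by decide) fun x => by
    simp [mem_W]
  refine ⟨Y, inferInstance, inferInstance, V4, theta, ⟨⟨⟨?_⟩⟩, ?_⟩, ?_, ⟨⟨?_, ?_, ?_, ?_⟩, ?_⟩, ?_⟩
  · rintro ⟨x, hx⟩ ⟨y, hy⟩
    apply Subtype.ext
    rcases hx with rfl | rfl | rfl | rfl <;> rcases hy with rfl | rfl | rfl | rfl <;> decide
  · rintro x (rfl | rfl | rfl | rfl) <;> decide
  · exact hc V4 4 {1, a, b, a * b} (by decide) fun x => by simp [mem_V4]
  · rintro x (rfl | rfl | rfl | rfl) hx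
    · exact absurd rfl hx
    · rw [theta_a]
      rintro y (rfl | rfl | rfl) <;> rw [Subgroup.mem_centralizer_singleton_iff] <;> decide
    · rw [theta_b]
      rintro y (rfl | rfl | rfl) <;> rw [Subgroup.mem_centralizer_singleton_iff] <;> decide
    · rw [theta_c]
      exact bot_le
  · rintro x (rfl | rfl | rfl | rfl) hx
    · exact absurd rfl hx
    · rw [theta_a, hW]; decide
    · rw [theta_b, hU]; decide
    · rw [theta_c, Subgroup.card_bot]; decide
  · rintro x (rfl | rfl | rfl | rfl) hx
    · exact absurd rfl hx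
    · rw [theta_a]
      rintro g (rfl | rfl | rfl | rfl) y (rfl | rfl | rfl) <;> rw [mem_W] <;> decide
    · rw [theta_b]
      rintro g (rfl | rfl | rfl | rfl) y (rfl | rfl | rfl) <;> rw [mem_U] <;> decide
    · rw [theta_c]
      intro g _ y hy
      simp [Subgroup.mem_bot.mp hy]
  · rintro x (rfl | rfl | rfl | rfl) hx g (rfl | rfl | rfl | rfl) hg
    all_goals first | exact absurd rfl hx | exact absurd rfl hg | skip
    all_goals simp only [theta_a, theta_b, theta_c]
    all_goals first
      | exact inf_le_left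
      | (rintro y ⟨rfl | rfl | rfl, hy⟩ <;>
          first | exact one_mem _ | exact absurd (Subgroup.mem_centralizer_singleton_iff.mp hy) (by decide))
  · intro x hx hx1
    have hall : ∀ S : Subgroup Y, (∀ y ∈ S, ∀ z ∈ S, y * z = z * y) → Group.IsSolvable S :=
      fun S h => Group.isSolvable_of_comm fun y z => Subtype.ext (h y y.2 z z.2)
    apply hall
    rcases hx with rfl | rfl | rfl | rfl
    · exact absurd rfl hx1
    · rw [theta_a]
      rintro y (rfl | rfl | rfl) z (rfl | rfl | rfl) <;> decide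
    · rw [theta_b]
      rintro y (rfl | rfl | rfl) z (rfl | rfl | rfl) <;> decide
    · rw [theta_c]
      intro y hy z _
      simp [Subgroup.mem_bot.mp hy]
  · rintro ⟨-, X, -, hp, hX⟩
    have hv : v ∈ X := by
      have h := hX a (Or.inr (Or.inl rfl)) (by decide)
      rw [theta_a] at h
      exact (Subgroup.mem_inf.mp (h.ge (Or.inr (Or.inl rfl)))).1
    have hu : u ∈ X := by
      have h := hX b (Or.inr (Or.inr (Or.inl rfl))) (by decide)
      rw [theta_b] at h
      exact (Subgroup.mem_inf.mp (h.ge (Or.inr (Or.inl rfl)))).1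
    have hw : u * u * v * u * v ∈ X :=
      mul_mem (mul_mem (mul_mem (mul_mem hu hu) hv) hu) hv
    apply hp
    have h2 : orderOf (⟨u * u * v * u * v, hw⟩ : X) = 2 := by
      refine orderOf_eq_prime (Subtype.ext ?_) fun h => ?_
      · simp only [SubmonoidClass.coe_pow, OneMemClass.coe_one]; decide
      · exact absurd (congrArg Subtype.val h) (show u * u * v * u * v ≠ 1 by decide)
    exact h2 ▸ orderOf_dvd_natCard _

end Cfsg.Agent.S1286
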