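import Cfsg.Statements.S1287
import Cfsg.Agent.Lib.PrimRecog.FixedReverse

set_option autoImplicit false
open scoped Pointwise
open Cfsg

namespace Cfsg.Agent.S1287

open CfsgLib.Structure80.FixedProduct

/-- The product formula for a set that is the product of two subgroups. -/
lemma card_mul_inf {H : Type*} [Group H] [Finite H] (X Y : Subgroup H) :
    Nat.card ((X : Set H) * (Y : Set H) : Set H) * Nat.card (X ⊓ Y : Subgroup H) = Nat.card X * Nat.card Y := by
  classical
  have hrep : ∀ w : ((X : Set H) * (Y : Set H) : Set H), ∃ u : X × Y, (u.1 : H) * u.2 = w := by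
    rintro ⟨_, a, ha, b, hb, rfl⟩
    exact ⟨(⟨a, ha⟩, ⟨b, hb⟩), rfl⟩
  choose u hu using hrep
  let f : ((X : Set H) * (Y : Set H) : Set H) × (X ⊓ Y : Subgroup H) → X × Y := fun t =>
    (⟨(u t.1).1 * t.2.1, X.mul_mem (u t.1).1.2 t.2.2.1⟩, ⟨t.2.1⁻¹ * (u t.1).2, Y.mul_mem (Y.inv_mem t.2.2.2) (u t.1).2.2⟩)
  rw [← Nat.card_prod, ← Nat.card_prod]
  refine Nat.card_congr (Equiv.ofBijective f ⟨fun s t h => ?_, fun t => ?_⟩)
  · have h1 : ((u s.1).1 : H) * s.2.1 = (u t.1).1 * t.2.1 := congrArg (fun r : X × Y => (r.1 : H)) h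
    have h2 : (s.2.1 : H)⁻¹ * (u s.1).2 = (t.2.1 : H)⁻¹ * (u t.1).2 := congrArg (fun r : X × Y => (r.2 : H)) h
    have e : s.1 = t.1 := Subtype.ext (by
      rw [← hu, ← hu]
      calc ((u s.1).1 : H) * (u s.1).2 = ((u s.1).1 * s.2.1) * ((s.2.1 : H)⁻¹ * (u s.1).2) := by group
        _ = ((u t.1).1 : H) * (u t.1).2 := by rw [h1, h2]; group)
    refine Prod.ext e (Subtype.ext ?_)
    rw [e] at h1
    exact mul_left_cancel h1
  · let w : ((X : Set H) * (Y : Set H) : Set H) := ⟨t.1 * t.2, t.1, t.1.2, t.2, t.2.2, rfl⟩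
    have hw : ((u w).1 : H) * (u w).2 = t.1 * t.2 := hu w
    have e : ((u w).1 : H)⁻¹ * t.1 = (u w).2 * (t.2 : H)⁻¹ := by
      calc ((u w).1 : H)⁻¹ * t.1 = ((u w).1 : H)⁻¹ * ((t.1 : H) * t.2) * (t.2 : H)⁻¹ := by group
        _ = (u w).2 * (t.2 : H)⁻¹ := by rw [← hw]; group
    refine ⟨(w, ⟨((u w).1 : H)⁻¹ * t.1, X.mul_mem (X.inv_mem (u w).1.2) t.1.2,
      e ▸ Y.mul_mem (u w).2.2 (Y.inv_mem t.2.2)⟩), Prod.ext (Subtype.ext ?_) (Subtype.ext ?_)⟩
    · show ((u w).1 : H) * (((u w).1 : H)⁻¹ * t.1) = t.1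
      group
    · show (((u w).1 : H)⁻¹ * t.1)⁻¹ * (u w).2 = t.2
      rw [e]; group

/-- Conjugation on an invariant subgroup. -/
def onSub {H : Type*} [Group H] (A C : Subgroup H) (h : A ≤ Subgroup.normalizer (C : Set H)) : A →* MulAut C :=
  restrictHom (MulAut.conj.comp A.subtype) C fun e w hw => (Subgroup.mem_normalizer_iff.mp (h e.2) w).mp hw

lemma conj_fix_iff {H : Type*} [Group H] (a w : H) : a * w * a⁻¹ = w ↔ w * a = a * w := by
  rw [mul_inv_eq_iff_eq_mul]
  exact eq_comm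

lemma card_fixEl {H : Type*} [Group H] [Finite H] (A C : Subgroup H) (h : A ≤ Subgroup.normalizer (C : Set H))
    (e : A) : Nat.card (fixEl (onSub A C h) e) = Nat.card (C ⊓ Subgroup.centralizer {(e : H)} : Subgroup H) :=
  Nat.card_congr
    { toFun := fun w => ⟨((w : C) : H), (w : C).2, Subgroup.mem_centralizer_singleton_iff.mpr
        ((conj_fix_iff _ _).mp (congrArg Subtype.val (mem_fixEl.mp w.2)))⟩
      invFun := fun w => ⟨⟨(w : H), w.2.1⟩, mem_fixEl.mpr (Subtype.ext
        ((conj_fix_iff _ _).mpr (Subgroup.mem_centralizer_singleton_iff.mp w.2.2)))⟩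
      left_inv := fun w => rfl
      right_inv := fun w => rfl }

lemma card_fixPair {H : Type*} [Group H] [Finite H] (A C : Subgroup H) (h : A ≤ Subgroup.normalizer (C : Set H))
    (x z : A) : Nat.card (fixPair (onSub A C h) x z) =
      Nat.card (C ⊓ (Subgroup.centralizer {(x : H)} ⊓ Subgroup.centralizer {(z : H)}) : Subgroup H) :=
  Nat.card_congr
    { toFun := fun w => ⟨((w : C) : H), (w : C).2,
        Subgroup.mem_centralizer_singleton_iff.mpr ((conj_fix_iff _ _).mp (congrArg Subtype.val (mem_fixPair.mp w.2).1)),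
        Subgroup.mem_centralizer_singleton_iff.mpr ((conj_fix_iff _ _).mp (congrArg Subtype.val (mem_fixPair.mp w.2).2))⟩
      invFun := fun w => ⟨⟨(w : H), w.2.1⟩, mem_fixPair.mpr
        ⟨Subtype.ext ((conj_fix_iff _ _).mpr (Subgroup.mem_centralizer_singleton_iff.mp w.2.2.1)),
          Subtype.ext ((conj_fix_iff _ _).mpr (Subgroup.mem_centralizer_singleton_iff.mp w.2.2.2))⟩⟩
      left_inv := fun w => rfl
      right_inv := fun w => rfl }


/-- Let A be a noncyclic elementary abelian p-subgroup of a finite group H normalizing a subgroup K of order prime to p, and X, Y ≤ K subgroups normalized by A with C_K(a) = C_X(a) C_Y(a) (as sets) for every non-identity a ∈ A, where X is also normalized by C_K(A). Then K = XY as sets. -/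
theorem result {H : Type*} [Group H] [Finite H] (p : ℕ) [Fact p.Prime] (A K X Y : Subgroup H) (hA : Cfsg.IsElementaryAbelian p A) (hA2 : p ^ 2 ≤ Nat.card ↥A) (hK : ¬ p ∣ Nat.card ↥K) (hAK : A ≤ Subgroup.normalizer (K : Set H)) (hX : X ≤ K) (hY : Y ≤ K) (hAX : A ≤ Subgroup.normalizer (X : Set H)) (hAY : A ≤ Subgroup.normalizer (Y : Set H)) (hCX : K ⊓ Subgroup.centralizer (A : Set H) ≤ Subgroup.normalizer (X : Set H)) (hfac : ∀ a ∈ A, a ≠ 1 → ((K ⊓ Subgroup.centralizer {a} : Subgroup H) : Set H) = ((X ⊓ Subgroup.centralizer {a} : Subgroup H) : Set H) * ((Y ⊓ Subgroup.centralizer {a} : Subgroup H) : Set H)) : (K : Set H) = (X : Set H) * (Y : Set H) := by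
  classical
  obtain ⟨hAc, hAp'⟩ := hA
  have hAp : ∀ a : A, a ^ p = 1 := fun a => Subtype.ext (hAp' a a.2)
  have hp := (Fact.out : p.Prime)
  have hE : IsPGroup p A := fun a => ⟨1, by rw [pow_one]; exact hAp a⟩
  -- two independent elements
  have hA1 : 1 < Nat.card A := lt_of_lt_of_le (by nlinarith [hp.two_le]) hA2
  have : Nontrivial A := Finite.one_lt_card_iff_nontrivial.mp hA1
  obtain ⟨x, hx1⟩ := exists_ne (1 : A)
  obtain ⟨z, hz⟩ : ∃ z : A, z ∉ Subgroup.zpowers x := by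
    by_contra hc
    push Not at hc
    have h1 : Nat.card (Subgroup.zpowers x) = Nat.card A := by
      rw [(Subgroup.eq_top_iff' _).mpr hc, Subgroup.card_top]
    rw [Nat.card_zpowers] at h1
    have h2 : orderOf x ≤ p := Nat.le_of_dvd hp.pos (orderOf_dvd_of_pow_eq_one (hAp x))
    nlinarith [hp.two_le]
  have hz1 : (z : H) ≠ 1 := fun h => hz (by
    rw [show z = 1 from Subtype.ext h]; exact one_mem _)
  have hne : ∀ i : ZMod p, ((x * z ^ i.val : A) : H) ≠ 1 := by
    intro i h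
    have h' : x * z ^ i.val = 1 := Subtype.ext h
    by_cases hi : i = 0
    · rw [hi, ZMod.val_zero, pow_zero, mul_one] at h'
      exact hx1 h'
    · have hcop : i.val.Coprime p := Nat.Coprime.symm (hp.coprime_iff_not_dvd.mpr fun hd =>
        hi ((ZMod.val_eq_zero i).mp (Nat.eq_zero_of_dvd_of_lt hd (ZMod.val_lt i))))
      obtain ⟨m, hm⟩ := exists_pow_eq_self_of_coprime (n := i.val) (x := z)
        (hcop.coprime_dvd_right (orderOf_dvd_of_pow_eq_one (hAp z)))
      refine hz ?_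
      rw [← hm, eq_inv_of_mul_eq_one_right h']
      exact pow_mem (inv_mem (Subgroup.mem_zpowers x)) _
  set D := X ⊓ Y with hDdef
  have hAD : A ≤ Subgroup.normalizer (D : Set H) := fun a ha => Subgroup.mem_normalizer_iff.mpr fun w =>
    and_congr (Subgroup.mem_normalizer_iff.mp (hAX ha) w) (Subgroup.mem_normalizer_iff.mp (hAY ha) w)
  have hpd : ∀ C : Subgroup H, C ≤ K → ¬ p ∣ Nat.card C := fun C hC h => hK (h.trans (Subgroup.card_dvd_of_le hC))
  have hDK : D ≤ K := inf_le_left.trans hX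
  have hcomm : Commute (x : H) (z : H) := congrArg Subtype.val (mul_comm' x z)
  have hone : ∀ e : H, e ∈ A → e ≠ 1 →
      Nat.card (K ⊓ Subgroup.centralizer {e} : Subgroup H) * Nat.card (D ⊓ Subgroup.centralizer {e} : Subgroup H) =
        Nat.card (X ⊓ Subgroup.centralizer {e} : Subgroup H) * Nat.card (Y ⊓ Subgroup.centralizer {e} : Subgroup H) := by
    intro e he he1
    have h := card_mul_inf (X ⊓ Subgroup.centralizer {e}) (Y ⊓ Subgroup.centralizer {e})
    rw [← hfac e he he1, ← inf_inf_distrib_right] at h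
    exact h
  set C2 := Subgroup.centralizer {(x : H)} ⊓ Subgroup.centralizer {(z : H)} with hC2
  have hpairset : ((K ⊓ C2 : Subgroup H) : Set H) = ((X ⊓ C2 : Subgroup H) : Set H) * ((Y ⊓ C2 : Subgroup H) : Set H) := by
    refine Set.Subset.antisymm (fun w hw => ?_) ?_
    · obtain ⟨hwK, hwx, hwz⟩ := hw
      have hw' : w ∈ ((K ⊓ Subgroup.centralizer {(x : H)} : Subgroup H) : Set H) := ⟨hwK, hwx⟩
      rw [hfac x x.2 (fun h => hx1 (Subtype.ext h))] at hw'
      obtain ⟨u, hu, v, hv, huv⟩ := hw'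
      haveI : Finite (ConjAct H) := ‹Finite H›
      let z' : ConjAct H := ConjAct.toConjAct (z : H)
      let s : Set H := {a | a ∈ X ⊓ Subgroup.centralizer {(x : H)} ∧ a⁻¹ * w ∈ Y ⊓ Subgroup.centralizer {(x : H)}}
      have hnorm : ∀ S : Subgroup H, A ≤ Subgroup.normalizer (S : Set H) → ∀ a ∈ S ⊓ Subgroup.centralizer {(x : H)},
          (z : H) * a * (z : H)⁻¹ ∈ S ⊓ Subgroup.centralizer {(x : H)} := by
        intro S hS a ha
        refine ⟨(Subgroup.mem_normalizer_iff.mp (hS z.2) a).mp ha.1, Subgroup.mem_centralizer_singleton_iff.mpr ?_⟩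
        have hax : Commute a (x : H) := Subgroup.mem_centralizer_singleton_iff.mp ha.2
        exact ((hcomm.symm.mul_left hax).mul_left hcomm.symm.inv_left).eq
      have hzs : ∀ a ∈ s, (z : H) * a * (z : H)⁻¹ ∈ s := by
        rintro a ⟨h1, h2⟩
        refine ⟨hnorm X hAX a h1, ?_⟩
        have e : ((z : H) * a * (z : H)⁻¹)⁻¹ * w = (z : H) * (a⁻¹ * w) * (z : H)⁻¹ := by
          have := Subgroup.mem_centralizer_singleton_iff.mp hwz
          calc ((z : H) * a * (z : H)⁻¹)⁻¹ * w = (z : H) * a⁻¹ * (z : H)⁻¹ * (w * (z : H)) * (z : H)⁻¹ := by group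
            _ = (z : H) * (a⁻¹ * w) * (z : H)⁻¹ := by rw [this]; group
        rw [e]
        exact hnorm Y hAY _ h2
      have hEz : IsPGroup p (Subgroup.zpowers z') := by
        intro g
        refine ⟨1, ?_⟩
        obtain ⟨g, n, rfl⟩ := g
        apply Subtype.ext
        show (z' ^ n) ^ (p ^ 1) = 1
        rw [pow_one, ← zpow_natCast, zpow_comm, zpow_natCast, show z' ^ p = 1 by
          rw [← map_pow, ← SubmonoidClass.coe_pow, hAp, Subgroup.coe_one, map_one], one_zpow]
      have hinv : ∀ g : Subgroup.zpowers z', ∀ a ∈ s, g • a ∈ s := by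
        rintro ⟨g, hg⟩
        obtain ⟨n, rfl⟩ : ∃ n : ℕ, z' ^ n = g := (isOfFinOrder_of_finite z').mem_powers_iff_mem_zpowers.mpr hg
        intro a ha
        show z' ^ n • a ∈ s
        induction n with
        | zero => simpa using ha
        | succ n ih =>
          rw [pow_succ', mul_smul]
          exact hzs _ (ih (pow_mem (Subgroup.mem_zpowers z') n))
      have hcard : Nat.card s = Nat.card (D ⊓ Subgroup.centralizer {(x : H)} : Subgroup H) := Nat.card_congr
        { toFun := fun a => ⟨u⁻¹ * a.1, ⟨X.mul_mem (X.inv_mem hu.1) a.2.1.1, by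
              have e : u⁻¹ * a.1 = v * (a.1⁻¹ * w)⁻¹ := by rw [← huv]; group
              rw [e]; exact Y.mul_mem hv.1 (Y.inv_mem a.2.2.1)⟩,
            Subgroup.mul_mem _ (Subgroup.inv_mem _ hu.2) a.2.1.2⟩
          invFun := fun d => ⟨u * d.1, ⟨⟨X.mul_mem hu.1 d.2.1.1, Subgroup.mul_mem _ hu.2 d.2.2⟩, by
              have e : (u * d.1)⁻¹ * w = (d.1)⁻¹ * v := by rw [← huv]; group
              rw [e]
              exact ⟨Y.mul_mem (Y.inv_mem d.2.1.2) hv.1, Subgroup.mul_mem _ (Subgroup.inv_mem _ d.2.2) hv.2⟩⟩⟩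
          left_inv := fun a => Subtype.ext (mul_inv_cancel_left u a.1)
          right_inv := fun d => Subtype.ext (inv_mul_cancel_left u d.1) }
      obtain ⟨a, ⟨haX, haY⟩, hfix⟩ := exists_fixed hEz s hinv
        (by rw [hcard]; exact hpd _ (inf_le_left.trans hDK))
      have haz : a * (z : H) = (z : H) * a := (conj_fix_iff _ _).mp (hfix ⟨z', Subgroup.mem_zpowers _⟩)
      refine ⟨a, ⟨haX.1, haX.2, Subgroup.mem_centralizer_singleton_iff.mpr haz⟩, a⁻¹ * w,
        ⟨haY.1, haY.2, Subgroup.mul_mem _ (Subgroup.inv_mem _ (Subgroup.mem_centralizer_singleton_iff.mpr haz)) hwz⟩, mul_inv_cancel_left a w⟩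
    · rintro _ ⟨a, ha, b, hb, rfl⟩
      exact ⟨K.mul_mem (hX ha.1) (hY hb.1), Subgroup.mul_mem _ ha.2 hb.2⟩
  have hpair : Nat.card (K ⊓ C2 : Subgroup H) * Nat.card (D ⊓ C2 : Subgroup H) =
      Nat.card (X ⊓ C2 : Subgroup H) * Nat.card (Y ⊓ C2 : Subgroup H) := by
    have h := card_mul_inf (X ⊓ C2) (Y ⊓ C2)
    rw [← hpairset, ← inf_inf_distrib_right] at h
    exact h
  have hφc : ∀ (C : Subgroup H) (h : A ≤ Subgroup.normalizer (C : Set H)),
      Commute (onSub A C h x) (onSub A C h z) ∧ onSub A C h x ^ p = 1 ∧ onSub A C h z ^ p = 1 := fun C h =>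
    ⟨(show Commute x z from mul_comm' x z).map _, by rw [← map_pow, hAp, map_one], by rw [← map_pow, hAp, map_one]⟩
  let L : Subgroup H → ℕ := fun C => (∏ i : ZMod p, Nat.card (C ⊓ Subgroup.centralizer {((x * z ^ i.val : A) : H)} : Subgroup H)) *
    Nat.card (C ⊓ Subgroup.centralizer {(z : H)} : Subgroup H)
  let P : Subgroup H → ℕ := fun C => Nat.card (C ⊓ C2 : Subgroup H)
  have hLpos : ∀ C, 0 < L C := fun C => Nat.mul_pos (Finset.prod_pos fun i _ => Nat.card_pos) Nat.card_pos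
  have hupper : ∀ C, C ≤ K → A ≤ Subgroup.normalizer (C : Set H) → L C ≤ Nat.card C * P C ^ p := fun C hC h => by
    have := card_prod_fixEl_dvd hE (hpd C hC) (onSub A C h) x z (hφc C h).1 (hφc C h).2.2
    simp only [card_fixEl, card_fixPair] at this
    exact Nat.le_of_dvd (Nat.mul_pos Nat.card_pos (pow_pos Nat.card_pos p)) this
  have hlower : ∀ C, C ≤ K → A ≤ Subgroup.normalizer (C : Set H) → Nat.card C * P C ^ p ≤ L C := fun C hC h => by
    have := CfsgLib.PrimRecog.FixedReverse.card_dvd hE (hpd C hC) (onSub A C h) x z (hφc C h).1 (hφc C h).2.1 (hφc C h).2.2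
    simp only [card_fixEl, card_fixPair] at this
    exact Nat.le_of_dvd (hLpos C) this
  have hLeq : L K * L D = L X * L Y := by
    simp only [L]
    rw [mul_mul_mul_comm, mul_mul_mul_comm (∏ i : ZMod p, Nat.card (X ⊓ _ : Subgroup H)), ← Finset.prod_mul_distrib,
      ← Finset.prod_mul_distrib, hone z z.2 hz1,
      Finset.prod_congr rfl fun i _ => hone _ (x * z ^ i.val : A).2 (hne i)]
  have hPeq : P K ^ p * P D ^ p = P X ^ p * P Y ^ p := by rw [← mul_pow, ← mul_pow]; exact congrArg (· ^ p) hpair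
  have hle : Nat.card K * Nat.card D * (P X ^ p * P Y ^ p) ≤ Nat.card X * Nat.card Y * (P X ^ p * P Y ^ p) := by
    calc Nat.card K * Nat.card D * (P X ^ p * P Y ^ p) = (Nat.card K * P K ^ p) * (Nat.card D * P D ^ p) := by
          rw [← hPeq]; ring
      _ ≤ L K * L D := Nat.mul_le_mul (hlower K le_rfl hAK) (hlower D hDK hAD)
      _ = L X * L Y := hLeq
      _ ≤ (Nat.card X * P X ^ p) * (Nat.card Y * P Y ^ p) := Nat.mul_le_mul (hupper X hX hAX) (hupper Y hY hAY)
      _ = _ := by ring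
  have hle' := Nat.le_of_mul_le_mul_right hle (Nat.mul_pos (pow_pos Nat.card_pos p) (pow_pos Nat.card_pos p))
  rw [← card_mul_inf X Y] at hle'
  have hsub : (X : Set H) * (Y : Set H) ⊆ (K : Set H) := by
    rintro _ ⟨a, ha, b, hb, rfl⟩
    exact K.mul_mem (hX ha) (hY hb)
  refine (Set.eq_of_subset_of_ncard_le hsub ?_ (Set.toFinite _)).symm
  rw [← Nat.card_coe_set_eq, ← Nat.card_coe_set_eq]
  exact Nat.le_of_mul_le_mul_right hle' Nat.card_pos

end Cfsg.Agent.S1287
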