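import Cfsg.Statements.S1295
import Cfsg.Agent.Lib.Signalizer74.Main
import Cfsg.Agent.Lib.Signalizer63.Connected

set_option autoImplicit false
open Cfsg

namespace Cfsg.Agent.S1295

/-- Let G be finite with O_{p'}(G) = 1 and p-rank at least 3, whose reduced rank-2 commuting graph for p is connected. Suppose that for every element a of order p with m_p(C_G(a)) ≥ 3 the p-layer of C_G(a) is trivial and O_{p'}(C_G(a)) is solvable. Then F*(C_G(a)) = O_p(C_G(a)) for every such a. -/
theorem result {G : Type*} [Group G] [Finite G] (p : ℕ) [Fact p.Prime] (hO : Cfsg.pPrimeCore p G = ⊥) (hrk : ¬ Cfsg.PRankLE p 2 G) (hconn : Cfsg.IsRankGraphConnected p 2 G) (hL : ∀ a : G, (orderOf a = p ∧ ¬ Cfsg.PRankLE p 2 ↥(Subgroup.centralizer ({a} : Set G))) → Cfsg.pLayer p ↥(Subgroup.centralizer ({a} : Set G)) = ⊥ ∧ Group.IsSolvable ↥(Cfsg.centralizerPPrimeCore p a)) (a : G) (ha : (orderOf a = p ∧ ¬ Cfsg.PRankLE p 2 ↥(Subgroup.centralizer ({a} : Set G)))) : Cfsg.generalizedFittingSubgroup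 ↥(Subgroup.centralizer ({a} : Set G)) = Cfsg.pCore p ↥(Subgroup.centralizer ({a} : Set G)) := by
  have hcomp : CfsgLib.Signalizer63.Completion G p := fun A θ' hA hA3 hθ =>
    (CfsgLib.Signalizer74.completion hA hA3 hθ).imp (fun h1 => h1.2.1) id
  exact CfsgLib.Signalizer63.generalizedFitting_eq hcomp hO hconn hL ha

end Cfsg.Agent.S1295
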