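import Cfsg.Statements.S1298
import Cfsg.Agent.Lib.Components.Balance
-- import your own Cfsg.Agent.* helpers here

set_option autoImplicit false
open Cfsg

namespace Cfsg.Agent.S1298

/-- Let G be finite and k ≥ 1. Suppose that for every x of order p, writing C = C_G(x), every component K of C / O_{p'}(C) has K / Z(K) locally k-balanced for p. Then G is k-balanced for p. -/
theorem result {G : Type*} [Group G] [Finite G] (p k : ℕ) [Fact p.Prime] (hk : 1 ≤ k) (h : ∀ x : G, orderOf x = p → ∀ K : Subgroup (↥(Subgroup.centralizer ({x} : Set G)) ⧸ Cfsg.pPrimeCore p ↥(Subgroup.centralizer ({x} : Set G))), Cfsg.IsComponent K → Cfsg.IsLocallyKBalanced p k (↥K ⧸ Subgroup.center ↥K)) : Cfsg.IsKBalanced p k G := by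
  open Subgroup CfsgLib.Components in
  intro A hA hAk b hb hcomm
  set C := Subgroup.centralizer ({b} : Set G)
  have hAC : A ≤ C := fun a ha => mem_centralizer_singleton_iff.mpr (hcomm a ha)
  have hA1 : A.subgroupOf C ≠ ⊥ := by
    intro h0
    rw [subgroupOf_eq_bot, disjoint_iff, inf_eq_left.mpr hAC] at h0
    rw [h0, card_bot] at hAk
    exact absurd hAk (Nat.one_lt_pow (by omega) (Fact.out : p.Prime).one_lt).ne
  have hAp : IsPGroup p A := IsPGroup.of_card hAk
  have hexp : ∀ a ∈ A.subgroupOf C, a ^ p = 1 := fun a ha => Subtype.ext (by simpa using hA.2 _ ha)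
  set Y := (Cfsg.signalizerDelta p A ⊓ C).subgroupOf C
  have hY : ∀ a ∈ A.subgroupOf C, a ≠ 1 → Y ≤ Cfsg.centralizerPPrimeCore p a := by
    intro a ha ha1
    refine le_trans (comap_mono (inf_le_left.trans ?_)) (centralizerPPrimeCore_subgroupOf_le C a)
    exact iInf_le_of_le ⟨(a : G), ha, fun h => ha1 (Subtype.ext h)⟩ le_rfl
  have key : Y ≤ Cfsg.pPrimeCore p C := by
    refine le_pPrimeCore_of_reduced (hAp.comap_subtype) hA1 hY hexp fun L hL => ?_
    set π := QuotientGroup.mk' (Cfsg.pPrimeCore p C)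
    refine commutator_eq_bot_of_locallyKBalanced CfsgLib.PCore.pPrimeCore_quotient_pPrimeCore
      (A := (A.subgroupOf C).map π) (k := k) ?_ ?_ hk ?_ hL (h b hb L hL)
    · refine ⟨⟨⟨?_⟩⟩, ?_⟩
      · rintro ⟨_, u, hu, rfl⟩ ⟨_, v, hv, rfl⟩
        apply Subtype.ext
        show π u * π v = π v * π u
        rw [← map_mul, ← map_mul]
        congr 1
        exact Subtype.ext (congrArg Subtype.val (hA.1.is_comm.comm ⟨u, hu⟩ ⟨v, hv⟩) :)
      · rintro _ ⟨u, hu, rfl⟩
        rw [← map_pow, hexp u hu, map_one]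
    · rw [← hAk, ← Nat.card_congr (subgroupOfEquivOfLe hAC).toEquiv]
      refine CfsgLib.Coprime.card_map_of_disjoint π ?_
      rw [QuotientGroup.ker_mk', inf_comm]
      exact CfsgLib.PCore.inf_eq_bot_of_isPGroup_coprime hAp.comap_subtype
        CfsgLib.PCore.pPrimeCore_coprime
    · exact fun q hq hq1 => map_le_centralizerPPrimeCore_of_forall hexp hY hq hq1
  rintro y ⟨hy, hyC⟩
  exact ⟨⟨y, hyC⟩, key (show (⟨y, hyC⟩ : C) ∈ Y from ⟨hy, hyC⟩), rfl⟩

end Cfsg.Agent.S1298
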