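import Cfsg.Statements.S1300
-- import your own Cfsg.Agent.* helpers here

set_option autoImplicit false
open Cfsg

namespace Cfsg.Agent.S1300

/-- For a finite group G, balance in the sense of commuting involutions is the same as 1-balance for the prime 2. -/
theorem result {G : Type*} [Group G] [Finite G] : Cfsg.IsBalanced G ↔ Cfsg.IsKBalanced 2 1 G := by
  constructor
  · intro h A hA hcard b hb hcomm
    obtain ⟨a, haA, ha1⟩ : ∃ a ∈ A, a ≠ 1 := by
      by_contra hne
      push Not at hne
      have : Nat.card A = 1 := Subgroup.card_eq_one.mpr ((Subgroup.eq_bot_iff_forall A).mpr hne)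
      omega
    have ha : orderOf a = 2 := orderOf_eq_prime (hA.2 a haA) ha1
    intro y hy
    have hle : Cfsg.signalizerDelta 2 A ≤ Cfsg.centralizerPPrimeCore 2 a :=
      iInf_le_of_le ⟨a, haA, ha1⟩ le_rfl
    exact ((h a b ha hb (hcomm a haA)).le ⟨hle hy.1, hy.2⟩).1
  · intro h
    have key : ∀ x y : G, orderOf x = 2 → orderOf y = 2 → x * y = y * x →
        Cfsg.centralizerPPrimeCore 2 x ⊓ Subgroup.centralizer {y} ≤
          Cfsg.centralizerPPrimeCore 2 y ⊓ Subgroup.centralizer {x} := by
      intro x y hx hy hxy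
      have hxx : x * x = 1 := by rw [← pow_two, ← hx, pow_orderOf_eq_one]
      have hmem : ∀ a ∈ Subgroup.zpowers x, a = 1 ∨ a = x := by
        intro a ha
        obtain ⟨k, rfl⟩ := Subgroup.mem_zpowers_iff.mp ha
        rcases Int.even_or_odd k with ⟨m, rfl⟩ | ⟨m, rfl⟩
        · left; rw [← two_mul, zpow_mul, zpow_two, hxx, one_zpow]
        · right; rw [zpow_add, zpow_mul, zpow_two, hxx, one_zpow, one_mul, zpow_one]
      have hA : Cfsg.IsElementaryAbelian 2 (Subgroup.zpowers x) := by
        refine ⟨⟨⟨?_⟩⟩, ?_⟩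
        · rintro ⟨a, ha⟩ ⟨b, hb⟩
          rcases hmem a ha with rfl | rfl <;> rcases hmem b hb with rfl | rfl <;>
            exact Subtype.ext (by simp)
        · intro a ha
          rcases hmem a ha with rfl | rfl
          · simp
          · rw [pow_two, hxx]
      have h' := h (Subgroup.zpowers x) hA (by rw [Nat.card_zpowers, hx, pow_one]) y hy
        (fun a ha => by rcases hmem a ha with rfl | rfl <;> simp [hxy])
      intro z hz
      refine Subgroup.mem_inf.mpr ⟨h' (Subgroup.mem_inf.mpr ⟨?_, hz.2⟩), ?_⟩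
      · rw [Cfsg.signalizerDelta, Subgroup.mem_iInf]
        rintro ⟨a, ha, ha1⟩
        rcases hmem a ha with rfl | rfl
        · exact absurd rfl ha1
        · exact hz.1
      · obtain ⟨w, -, hw⟩ := hz.1
        exact hw ▸ w.2
    exact fun x y hx hy hxy => le_antisymm (key x y hx hy hxy) (key y x hy hx hxy.symm)

end Cfsg.Agent.S1300
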