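import Cfsg.Statements.S1297
import Cfsg.Agent.Lib.Components.Balance
import Cfsg.Agent.S1298
import Cfsg.Agent.S1300
-- import your own Cfsg.Agent.* helpers here

set_option autoImplicit false
open Cfsg

namespace Cfsg.Agent.S1297

/-- Let G be finite. Suppose that for every involution x, writing C = C_G(x), every component K of C / O(C) has K / Z(K) locally balanced. Then G is balanced. -/
theorem result {G : Type*} [Group G] [Finite G] (h : ∀ x : G, orderOf x = 2 → ∀ K : Subgroup (↥(Subgroup.centralizer ({x} : Set G)) ⧸ Cfsg.oddCore ↥(Subgroup.centralizer ({x} : Set G))), Cfsg.IsComponent K → Cfsg.IsLocallyBalanced (↥K ⧸ Subgroup.center ↥K)) : Cfsg.IsBalanced G := by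
  haveI : Fact (Nat.Prime 2) := ⟨Nat.prime_two⟩
  refine Cfsg.Agent.S1300.result.mpr (Cfsg.Agent.S1298.result 2 1 le_rfl fun x hx K hK => ?_)
  intro H hH A hA hAk
  obtain ⟨a, ha, ha1⟩ : ∃ a ∈ A, a ≠ 1 := by
    by_contra hne
    push Not at hne
    rw [Subgroup.card_eq_one.mpr ((Subgroup.eq_bot_iff_forall A).mpr hne)] at hAk
    omega
  refine le_bot_iff.mp ((iInf_le_of_le ⟨a, ha, ha1⟩ le_rfl : Cfsg.signalizerDelta 2 A ≤
    Cfsg.centralizerPPrimeCore 2 a).trans ?_)
  exact (h x hx K hK H hH a (orderOf_eq_prime (hA.2 a ha) ha1)).le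

end Cfsg.Agent.S1297
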