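import Cfsg.Statements.S1299
import Cfsg.Agent.Lib.Signalizer.LocalFamily

set_option autoImplicit false
open Cfsg

namespace Cfsg.Agent.S1299

/-- Let G be finite and k-balanced for the prime p (k ≥ 1), A an elementary abelian p-subgroup of order at least p^(k+2) such that O_{p'}(C_G(a)) is solvable for every non-identity a ∈ A. For a ∈ A put θ a = the subgroup generated by the Δ_G(D) ∩ C_G(a) over the subgroups D ≤ A of order p^k. Then θ is an A-signalizer functor. -/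
theorem result {G : Type*} [Group G] [Finite G] (p k : ℕ) [Fact p.Prime] (hk : 1 ≤ k) (hbal : Cfsg.IsKBalanced p k G) (A : Subgroup G) (hA : Cfsg.IsElementaryAbelian p A) (hAk : p ^ (k + 2) ≤ Nat.card ↥A) (hsolv : ∀ a ∈ A, a ≠ 1 → Group.IsSolvable ↥(Cfsg.centralizerPPrimeCore p a)) : Cfsg.IsSignalizerFunctor p A (fun a => ⨆ D : {D : Subgroup G // D ≤ A ∧ Nat.card ↥D = p ^ k}, Cfsg.signalizerDelta p (D : Subgroup G) ⊓ Subgroup.centralizer {a}) := by
  open CfsgLib.Signalizer in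
  have hA1 : A ≠ ⊥ := ne_bot_of_pow_le hAk (by omega)
  have hpow : ∀ a ∈ A, a ≠ 1 → orderOf a = p := fun a ha ha1 =>
    orderOf_eq_prime (hA.2 a ha) ha1
  have hCn : ∀ a ∈ A, A ≤ Subgroup.normalizer (Subgroup.centralizer ({a} : Set G) : Set G) :=
    fun a ha => conj_mem_centralizer hA (Set.singleton_subset_iff.mpr ha)
  have hOA : ∀ a ∈ A, A ≤ Subgroup.normalizer (Cfsg.centralizerPPrimeCore p a : Set G) :=
    fun a ha => (hCn a ha).trans (CfsgLib.Structure.normalizer_le_normalizer_map_subtype _ _)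
  have hOC : ∀ a : G, Cfsg.centralizerPPrimeCore p a ≤ Subgroup.centralizer {a} :=
    fun a => Subgroup.map_subtype_le _
  have hOp : ∀ a : G, ¬ p ∣ Nat.card ↥(Cfsg.centralizerPPrimeCore p a) := fun a => by
    rw [Cfsg.centralizerPPrimeCore,
      Subgroup.card_map_of_injective (Subgroup.subtype_injective _)]
    exact ((Fact.out : p.Prime).coprime_iff_not_dvd).mp CfsgLib.PCore.pPrimeCore_coprime.symm
  have hDnorm : ∀ D, D ≤ A → A ≤ Subgroup.normalizer (Cfsg.signalizerDelta p D : Set G) :=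
    fun D hD => (le_iInf fun d : {d : G // d ∈ D ∧ d ≠ 1} => hOA d (hD d.2.1)).trans
      (Subgroup.iInf_normalizer_le_normalizer_iInf _)
  have hDC : ∀ D, D ≤ A → Nat.card D = p ^ k →
      Cfsg.signalizerDelta p D ≤ Subgroup.centralizer (D : Set G) := by
    intro D hD hDk x hx
    rw [Subgroup.mem_centralizer_iff]
    intro d hd
    by_cases hd1 : d = 1
    · rw [hd1, one_mul, mul_one]
    · exact Subgroup.mem_centralizer_iff.mp (hOC d (Subgroup.mem_iInf.mp hx ⟨d, hd, hd1⟩)) d rfl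
  have hbal' : ∀ D, D ≤ A → Nat.card D = p ^ k → ∀ b ∈ A, b ≠ 1 →
      Cfsg.signalizerDelta p D ⊓ Subgroup.centralizer {b} ≤ Cfsg.centralizerPPrimeCore p b :=
    fun D hD hDk b hb hb1 => hbal D (isElementaryAbelian_of_le hA hD) hDk b (hpow b hb hb1)
      fun a ha => commute_of_mem hA (hD ha) hb
  have hM : ∀ a ∈ A, a ≠ 1 → (⨆ D : {D : Subgroup G // D ≤ A ∧ Nat.card ↥D = p ^ k},
      Cfsg.signalizerDelta p (D : Subgroup G) ⊓ Subgroup.centralizer {a}) ≤
        Cfsg.centralizerPPrimeCore p a :=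
    fun a ha ha1 => iSup_le fun D => hbal' D D.2.1 D.2.2 a ha ha1
  have hθn : ∀ a ∈ A, A ≤ Subgroup.normalizer
      ((⨆ D : {D : Subgroup G // D ≤ A ∧ Nat.card ↥D = p ^ k},
        Cfsg.signalizerDelta p (D : Subgroup G) ⊓ Subgroup.centralizer {a} : Subgroup G) : Set G) :=
    fun a ha => (le_iInf fun D : {D : Subgroup G // D ≤ A ∧ Nat.card ↥D = p ^ k} =>
      le_normalizer_inf (hDnorm D D.2.1) (hCn a ha)).trans
        (Subgroup.iInf_normalizer_le_normalizer_iSup _)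
  refine ⟨fun a ha ha1 => (hM a ha ha1).trans (hOC a),
    fun a ha ha1 => not_dvd_of_le (hM a ha ha1) (hOp a),
    fun a ha _ => conj_mem_of_le_normalizer (hθn a ha), fun a ha ha1 b hb hb1 => ?_⟩
  have hHp := not_dvd_of_le (hM a ha ha1) (hOp a)
  have hHs := isSolvable_of_le (hM a ha ha1) (hsolv a ha ha1)
  rw [← CfsgLib.Coprime39.eq_hyperCent hA hA1
    (Nat.Coprime.symm ((Fact.out : p.Prime).coprime_iff_not_dvd.mpr
      (not_dvd_of_le inf_le_left hHp)))
    (le_normalizer_inf (hθn a ha) (hCn b hb))]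
  refine iSup_le fun E => ?_
  have hEk : p ^ k ≤ Nat.card ↥(E : Subgroup G) := by
    obtain ⟨D, hD, hDk⟩ := exists_le_inf_card_eq hA hAk E.2.1 E.2.2 E.2.2
    exact hDk.symm.le.trans (Subgroup.card_le_of_le (hD.trans inf_le_left))
  obtain ⟨D, hDE, hDk⟩ := exists_le_card_eq ((isPGroup_of_elemAb hA).to_le E.2.1) hEk
  have hDA : D ≤ A := hDE.trans E.2.1
  intro z hz
  obtain ⟨⟨hzH, hzb⟩, hzE⟩ := hz
  have hzD : z ∈ Cfsg.signalizerDelta p D ⊓ Subgroup.centralizer {a} := by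
    refine iSup_inf_centralizer_le (X := fun D => Cfsg.signalizerDelta p D ⊓ Subgroup.centralizer {a})
      hA hAk (fun D hD _ => le_normalizer_inf (hDnorm D hD) (hCn a ha)) ?_ hHp hHs
      (fun D hD hDk => inf_le_left.trans (hDC D hD hDk)) hDA hDk
      ⟨hzH, Subgroup.centralizer_le hDE hzE⟩
    intro D₁ D₂ h₁ h₁k h₂ h₂k w hw
    obtain ⟨⟨hw1, hwa⟩, hw2⟩ := hw
    refine ⟨Subgroup.mem_iInf.mpr fun d => hbal' D₁ h₁ h₁k d (h₂ d.2.1) d.2.2 ⟨hw1, ?_⟩, hwa⟩
    exact Subgroup.centralizer_le (Set.singleton_subset_iff.mpr d.2.1) hw2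
  exact le_iSup (fun D : {D : Subgroup G // D ≤ A ∧ Nat.card ↥D = p ^ k} =>
    Cfsg.signalizerDelta p (D : Subgroup G) ⊓ Subgroup.centralizer {b}) ⟨D, hDA, hDk⟩ ⟨hzD.1, hzb⟩

end Cfsg.Agent.S1299
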