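import Cfsg.Statements.S1303
import Cfsg.Agent.Lib.PCore.Basic
import Mathlib.LinearAlgebra.Matrix.SpecialLinearGroup
import Mathlib.LinearAlgebra.Matrix.Notation
import Mathlib.Tactic.NormNum

set_option autoImplicit false
open Cfsg
open scoped commutatorElement Pointwise

namespace Cfsg.Agent.S1303

local notation "SL" => Matrix.SpecialLinearGroup (Fin 2) (ZMod 3)


/-- The group X = SL(2, 3): it is 2-constrained, O_{2'}(X) = 1, its centre A = Z(X) contains every involution of X = C_X(A), and X has a subgroup of order 3 (normalized by A) not contained in O_{2'}(X). -/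
theorem result : Cfsg.IsPConstrained 2 (Matrix.SpecialLinearGroup (Fin 2) (ZMod 3)) ∧ Cfsg.pPrimeCore 2 (Matrix.SpecialLinearGroup (Fin 2) (ZMod 3)) = ⊥ ∧ (∀ t : Matrix.SpecialLinearGroup (Fin 2) (ZMod 3), orderOf t = 2 → t ∈ Subgroup.center (Matrix.SpecialLinearGroup (Fin 2) (ZMod 3))) ∧ ∃ Q : Subgroup (Matrix.SpecialLinearGroup (Fin 2) (ZMod 3)), Nat.card ↥Q = 3 ∧ ¬ (Q ≤ Cfsg.pPrimeCore 2 (Matrix.SpecialLinearGroup (Fin 2) (ZMod 3))) := by
  haveI : Fact (Nat.Prime 2) := ⟨Nat.prime_two⟩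
  have hno : Cfsg.pPrimeCore 2 (Matrix.SpecialLinearGroup (Fin 2) (ZMod 3)) = ⊥ := by
    rw [CfsgLib.PCore.pPrimeCore_eq_bot_iff]
    intro N hN hcop
    rw [Subgroup.eq_bot_iff_forall]
    intro g hg
    have key : ∀ g : SL, g = 1 ∨ g ^ 4 = 1 ∨
        ∃ h : SL, g * (h * g ^ 11 * h⁻¹) ≠ 1 ∧ (g * (h * g ^ 11 * h⁻¹)) ^ 4 = 1 := by
      decide +kernel
    have hodd : ∀ x ∈ N, x ^ 4 = 1 → x = 1 := by
      intro x hx hx4
      have h1 : orderOf x ∣ Nat.card N := Subgroup.orderOf_dvd_natCard N hx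
      have h2 : orderOf x ∣ 4 := orderOf_dvd_of_pow_eq_one hx4
      have h3 : (Nat.card N).Coprime 4 := by simpa using hcop.pow_right 2
      exact orderOf_eq_one_iff.1 (Nat.eq_one_of_dvd_coprimes h3 h1 h2)
    rcases key g with h | h | ⟨h, hne, h4⟩
    · exact h
    · exact hodd g hg h
    · exact absurd (hodd _ (N.mul_mem hg (hN.conj_mem _ (N.pow_mem hg 11) h)) h4) hne
  refine ⟨?_, hno, ?_, ?_⟩
  · intro P
    let Q : Subgroup SL :=
      { carrier := {g | g ^ 4 = 1}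
        one_mem' := one_pow 4
        mul_mem' := by
          intro a b
          simp only [Set.mem_ofPred_eq]
          exact (by decide +kernel : ∀ a b : SL, a ^ 4 = 1 → b ^ 4 = 1 → (a * b) ^ 4 = 1) a b
        inv_mem' := by
          intro a ha
          simp only [Set.mem_ofPred_eq] at ha ⊢
          rw [inv_pow, ha, inv_one] }
    have hQmem : ∀ g : SL, g ∈ Q ↔ g ^ 4 = 1 := fun g => Iff.rfl
    have hQn : Q.Normal := ⟨fun a ha g => by
      rw [hQmem] at ha ⊢
      rw [conj_pow, ha, mul_one, mul_inv_cancel]⟩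
    have hQp : IsPGroup 2 ↥Q := fun g => ⟨2, Subtype.ext g.2⟩
    have hQK : Q ≤ Cfsg.pPrimePCore 2 SL := by
      intro g hg
      rw [Cfsg.pPrimePCore, Subgroup.mem_comap]
      exact CfsgLib.PCore.map_pCore_le _ (QuotientGroup.mk'_surjective _)
        (Subgroup.mem_map_of_mem _ (CfsgLib.PCore.le_pCore hQn hQp hg))
    have hKp : IsPGroup 2 ↥(Cfsg.pPrimePCore 2 SL) := by
      refine IsPGroup.comap_of_ker_isPGroup CfsgLib.PCore.pCore_isPGroup _ ?_
      rw [QuotientGroup.ker_mk', hno]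
      exact IsPGroup.of_bot
    have hP : (P : Subgroup ↥(Cfsg.pPrimePCore 2 SL)) = ⊤ :=
      (P.is_maximal' (hKp.to_subgroup ⊤) le_top).symm
    rw [hP, ← MonoidHom.range_eq_map, Subgroup.range_subtype]
    intro g hg
    rw [Subgroup.mem_centralizer_iff] at hg
    refine hQK ((hQmem g).2 ?_)
    exact (by decide +kernel : ∀ g : SL, (∀ h : SL, h ^ 4 = 1 → h * g = g * h) → g ^ 4 = 1) g
      fun h hh => hg h (hQK ((hQmem h).2 hh))
  · intro t ht
    rw [Subgroup.mem_center_iff]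
    exact (by decide +kernel : ∀ t : SL, t ^ 2 = 1 → ∀ g : SL, g * t = t * g) t
      (orderOf_dvd_iff_pow_eq_one.1 (dvd_of_eq ht))
  · obtain ⟨u, hu3, hu1⟩ := (by decide +kernel : ∃ u : SL, u ^ 3 = 1 ∧ u ≠ 1)
    have hu : orderOf u = 3 := by
      haveI : Fact (Nat.Prime 3) := ⟨Nat.prime_three⟩
      exact orderOf_eq_prime hu3 hu1
    refine ⟨Subgroup.zpowers u, by rw [Nat.card_zpowers, hu], ?_⟩
    intro hle
    rw [hno, le_bot_iff, Subgroup.zpowers_eq_bot] at hle
    rw [hle, orderOf_one] at hu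
    exact absurd hu (by norm_num)

end Cfsg.Agent.S1303
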