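import Cfsg.Statements.S1305
import Cfsg.Agent.Lib.LBalance.Components

set_option autoImplicit false
open Cfsg
open scoped commutatorElement Pointwise

namespace Cfsg.Agent.S1305

/-- Let G be a finite group of component type with the B-property and no nontrivial normal subgroup of odd order. Let a be an involution and K a component of C_G(a) such that (a) |K| is maximal among the orders of components of centralizers of involutions of G, (b) subject to (a) the 2-rank of the centralizer of K in C_G(a) is as large as possible, and (c) K has 2-rank at least 2. If B is an elementary abelian 2-subgroup of that centralizer of the largest possible order, then K is a component of C_G(b) for every non-identity b ∈ B. -/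
theorem result {G : Type*} [Group G] [Finite G] (hO : Cfsg.oddCore G = ⊥) (hB : Cfsg.HasBProperty G) (hct : Cfsg.IsComponentType G) (a : G) (ha : orderOf a = 2) (K : Subgroup G) (hKa : K ≤ Subgroup.centralizer ({a} : Set G)) (hK : Cfsg.IsComponent (K.subgroupOf (Subgroup.centralizer ({a} : Set G)))) (hmax : ∀ y : G, orderOf y = 2 → ∀ K' : Subgroup G, K' ≤ Subgroup.centralizer ({y} : Set G) → Cfsg.IsComponent (K'.subgroupOf (Subgroup.centralizer ({y} : Set G))) → Nat.card ↥K' ≤ Nat.card ↥K ∧ (Nat.card ↥K' = Nat.card ↥K → ∀ k : ℕ, Cfsg.PRankLE 2 k ↥(Subgroup.centralizer ({a} : Set G) ⊓ Subgroup.centralizer (K : Set G)) → Cfsg.PRankLE 2 k ↥(Subgroup.centralizer ({y} : Set G) ⊓ Subgroup.centralizer (K' : Set G)))) (hrk : ¬ Cfsg.PRankLE 2 1 ↥K) (B : Subgroup G) (hBle : B ≤ Subgroup.centralizer ({a} : Set G) ⊓ Subgroup.centralizer (K : Set G)) (hBel : Cfsg.IsElementaryAbelian 2 B) (hBmax : ∀ B' : Subgroup G, B' ≤ Subgroup.centralizer ({a} : Set G) ⊓ Subgroup.centralizer (K : Set G) →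 Cfsg.IsElementaryAbelian 2 B' → Nat.card ↥B' ≤ Nat.card ↥B) (b : G) (hb : b ∈ B) (hb1 : b ≠ 1) : K ≤ Subgroup.centralizer ({b} : Set G) ∧ Cfsg.IsComponent (K.subgroupOf (Subgroup.centralizer ({b} : Set G))) := by
  haveI : Fact (Nat.Prime 2) := ⟨Nat.prime_two⟩
  obtain ⟨hBc, hB2⟩ := hBel
  have hbo : orderOf b = 2 := orderOf_eq_prime (hB2 b hb) hb1
  set Cb := Subgroup.centralizer ({b} : Set G) with hCb
  have hab : a * b = b * a := (Subgroup.mem_centralizer_singleton_iff.mp (hBle hb).1).symm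
  have hKb : K ≤ Cb := fun k hk =>
    Subgroup.mem_centralizer_singleton_iff.mpr (Subgroup.mem_centralizer_iff.mp (hBle hb).2 k hk)
  refine ⟨hKb, ?_⟩
  let aY : Cb := ⟨a, Subgroup.mem_centralizer_singleton_iff.mpr hab⟩
  have haa : aY * aY = 1 := by
    apply Subtype.ext
    show a * a = 1
    rw [← pow_two, ← ha]
    exact pow_orderOf_eq_one a
  set KY := K.subgroupOf Cb with hKY
  have hKYa : KY ≤ Subgroup.centralizer ({aY} : Set Cb) := fun k hk =>
    Subgroup.mem_centralizer_singleton_iff.mpr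
      (Subtype.ext (Subgroup.mem_centralizer_singleton_iff.mp (hKa hk)))
  have hKq : Cfsg.IsQuasisimple K := CfsgLib.Components.isQuasisimple_of_mulEquiv hK.2 (Subgroup.subgroupOfEquivOfLe hKa)
  have hKYq : Cfsg.IsQuasisimple KY :=
    CfsgLib.Components.isQuasisimple_of_mulEquiv hKq (Subgroup.subgroupOfEquivOfLe hKb).symm
  let j : ↥(Subgroup.centralizer ({aY} : Set Cb)) →* ↥(Subgroup.centralizer ({a} : Set G)) :=
    MonoidHom.mk' (fun x => ⟨((x : Cb) : G), Subgroup.mem_centralizer_singleton_iff.mpr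
      (congrArg Subtype.val (Subgroup.mem_centralizer_singleton_iff.mp x.2))⟩) fun _ _ => rfl
  have hKYc : Cfsg.IsComponent (KY.subgroupOf (Subgroup.centralizer ({aY} : Set Cb))) :=
    ⟨hK.1.comap j, CfsgLib.Components.isQuasisimple_of_mulEquiv hKYq (Subgroup.subgroupOfEquivOfLe hKYa).symm⟩
  have hKcard : Nat.card KY = Nat.card K := Nat.card_congr (Subgroup.subgroupOfEquivOfLe hKb).toEquiv
  obtain ⟨A, hAc, hA2, hA4⟩ : ∃ A : Subgroup K, IsMulCommutative A ∧ (∀ x ∈ A, x ^ 2 = 1) ∧ 2 < Nat.card A := by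
    simpa [Cfsg.PRankLE] using hrk
  have hKeven : 2 ∣ Nat.card KY := by
    obtain ⟨x, hx, hx1⟩ : ∃ x ∈ A, x ≠ 1 := by
      by_contra h
      push_neg at h
      rw [(Subgroup.eq_bot_iff_forall A).mpr h, Subgroup.card_bot] at hA4
      omega
    rw [hKcard, ← orderOf_eq_prime (hA2 x hx) hx1]
    exact orderOf_dvd_natCard x
  have hlayer : Cfsg.pLayer 2 Cb ≤ Cfsg.layer Cb := by
    have hcomm : ⁅Cfsg.pLayer 2 Cb, Cfsg.pPrimeCore 2 Cb⁆ = ⊥ := by
      have h := hB b hbo
      rw [hO, le_bot_iff, Subgroup.map_eq_bot_iff_of_injective _ Cb.subtype_injective] at h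
      exact h
    refine sSup_le fun L hL => CfsgLib.Components.component_le_layer ⟨hL.1, ?_⟩
    rw [CfsgLib.Components.pComponent_quasisimple_iff hL, CfsgLib.Components.map_pPrimeCore_eq_inf hL.1, eq_bot_iff,
      ← hcomm]
    exact Subgroup.commutator_mono (le_sSup hL) inf_le_right
  obtain ⟨D, hD, hcases⟩ := CfsgLib.LBalance.component_cases haa hKYa hKYc
    ((CfsgLib.LBalance.component_le_layer_of_even haa hKYa hKYc hKeven).trans hlayer)
  set D' := D.map Cb.subtype with hD'
  have hD'b : D' ≤ Cb := Subgroup.map_subtype_le D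
  have hD'e : D'.subgroupOf Cb = D := Subgroup.comap_map_eq_self_of_injective Cb.subtype_injective D
  have hD'card : Nat.card D' = Nat.card D := Subgroup.card_map_of_injective Cb.subtype_injective
  obtain ⟨hle, hrank⟩ := hmax b hbo D' hD'b (by rw [hD'e]; exact hD)
  rcases hcases with ⟨-, hKD⟩ | ⟨hne, h, hKδ⟩
  · have he : KY = D := Subgroup.eq_of_le_of_card_ge hKD (by rw [hKcard, ← hD'card]; exact hle)
    rw [he]
    exact hD
  exfalso
  set δ := CfsgLib.LBalance.diag aY h with hδ
  have hrange : Nat.card δ.range ≤ Nat.card D := Nat.card_le_card_of_surjective _ δ.rangeRestrict_surjective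
  have hcardeq : Nat.card D' = Nat.card K := le_antisymm hle (by rw [hD'card, ← hKcard, hKδ]; exact hrange)
  have hinj : Function.Injective δ := by
    have h2 : Function.Bijective δ.rangeRestrict := by
      haveI : Fintype D := Fintype.ofFinite _
      haveI : Fintype δ.range := Fintype.ofFinite _
      rw [Fintype.bijective_iff_surjective_and_card, Fintype.card_eq_nat_card, Fintype.card_eq_nat_card]
      exact ⟨δ.rangeRestrict_surjective, by rw [← hKδ, hKcard, ← hcardeq, hD'card]⟩
    exact fun x y hxy => h2.1 (Subtype.ext hxy)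
  -- `a` lies in `B`
  have hKC : K ≤ Subgroup.centralizer ({a} : Set G) := hKa
  have haK : a ∈ Subgroup.centralizer (K : Set G) := Subgroup.mem_centralizer_iff.mpr fun k hk =>
    Subgroup.mem_centralizer_singleton_iff.mp (hKC hk)
  have haB : a ∈ B := by
    set B₁ := B ⊔ Subgroup.zpowers a
    have hzC : Subgroup.zpowers a ≤ Subgroup.centralizer (B : Set G) := Subgroup.zpowers_le.mpr
      (Subgroup.mem_centralizer_iff.mpr fun x hx => Subgroup.mem_centralizer_singleton_iff.mp (hBle hx).1)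
    have hBB : B ≤ Subgroup.centralizer (B : Set G) := Subgroup.le_centralizer_iff_isMulCommutative.mpr hBc
    have hzz : Subgroup.zpowers a ≤ Subgroup.centralizer (Subgroup.zpowers a : Set G) :=
      Subgroup.le_centralizer_iff_isMulCommutative.mpr inferInstance
    have hel : Cfsg.IsElementaryAbelian 2 B₁ := by
      refine ⟨Subgroup.le_centralizer_iff_isMulCommutative.mp ?_, ?_⟩
      · rw [Subgroup.le_centralizer_iff]
        refine sup_le ?_ ?_ <;> rw [Subgroup.le_centralizer_iff]
        · exact sup_le hBB hzC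
        · exact sup_le (Subgroup.le_centralizer_iff.mp hzC) hzz
      · intro x hx
        rw [← SetLike.mem_coe, Subgroup.coe_mul_of_right_le_normalizer_left B _
          (hzC.trans (Subgroup.centralizer_le_normalizer _)), Set.mem_mul] at hx
        obtain ⟨u, hu, _, ⟨i, rfl⟩, rfl⟩ := hx
        rw [(show Commute u (a ^ i) from Subgroup.mem_centralizer_iff.mp
          (hzC ⟨i, rfl⟩) u hu).mul_pow, hB2 u hu, one_mul,
          ← zpow_natCast, ← zpow_mul, mul_comm, zpow_mul, zpow_natCast, ← ha, pow_orderOf_eq_one, one_zpow]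
    have hle1 : B₁ ≤ Subgroup.centralizer ({a} : Set G) ⊓ Subgroup.centralizer (K : Set G) :=
      sup_le hBle (Subgroup.zpowers_le.mpr ⟨Subgroup.mem_centralizer_singleton_iff.mpr rfl, haK⟩)
    rw [Subgroup.eq_of_le_of_card_ge (le_sup_left : B ≤ B₁) (hBmax B₁ hle1 hel)]
    exact Subgroup.mem_sup_right (Subgroup.mem_zpowers a)
  obtain ⟨m, hm⟩ := IsPGroup.iff_card.mp (show IsPGroup 2 B from fun x => ⟨1, Subtype.ext (by simpa using hB2 x x.2)⟩)
  have hrankA : Cfsg.PRankLE 2 m ↥(Subgroup.centralizer ({a} : Set G) ⊓ Subgroup.centralizer (K : Set G)) := by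
    intro W hWc hW2
    rw [← hm, ← Subgroup.card_map_of_injective (K := W) (Subgroup.subtype_injective _)]
    refine hBmax _ (Subgroup.map_subtype_le W) ⟨Subgroup.le_centralizer_iff_isMulCommutative.mp ?_, ?_⟩
    · rintro _ ⟨x, hx, rfl⟩
      rw [Subgroup.mem_centralizer_iff]
      rintro _ ⟨y, hy, rfl⟩
      exact congrArg Subtype.val (Subgroup.mem_centralizer_iff.mp (Subgroup.le_centralizer_iff_isMulCommutative.mpr hWc hx) y hy)
    · rintro _ ⟨x, hx, rfl⟩
      simpa using congrArg Subtype.val (hW2 x hx)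
  have hrankD := hrank hcardeq m hrankA
  -- `B` in `C(b)`
  have hBb : B ≤ Cb := fun x hx => Subgroup.mem_centralizer_singleton_iff.mpr
    ((Subgroup.mem_centralizer_iff.mp (Subgroup.le_centralizer_iff_isMulCommutative.mpr hBc hx) b hb).symm)
  set BY := B.subgroupOf Cb with hBY
  set B₀ := BY ⊓ Subgroup.normalizer (D : Set Cb) with hB₀
  have hBYa : ∀ x ∈ BY, x * aY = aY * x := fun x hx =>
    Subtype.ext (Subgroup.mem_centralizer_singleton_iff.mp (hBle hx).1)
  have hBYK : ∀ x ∈ BY, ∀ k ∈ KY, k * x = x * k := fun x hx k hk =>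
    Subtype.ext (Subgroup.mem_centralizer_iff.mp (hBle hx).2 _ hk)
  set Da := D.map (MulAut.conj aY).toMonoidHom with hDa
  have hDaC : Cfsg.IsComponent Da := CfsgLib.Components.isComponent_conj aY hD
  have hKYsup : KY ≤ D ⊔ Da := by
    rw [hKδ]
    rintro _ ⟨x, rfl⟩
    exact Subgroup.mul_mem_sup x.2 ⟨x, x.2, rfl⟩
  have hperm : ∀ x ∈ BY, x ∈ Subgroup.normalizer (D : Set Cb) ∨ aY * x ∈ Subgroup.normalizer (D : Set Cb) := by
    intro x hx
    set Dx := D.map (MulAut.conj x).toMonoidHom with hDx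
    by_cases h1 : Dx = D
    · exact Or.inl (Subgroup.mem_normalizer_iff_map_conj_eq.mpr h1)
    by_cases h2 : Dx = Da
    · refine Or.inr (Subgroup.mem_normalizer_iff_map_conj_eq.mpr ?_)
      show D.map (MulAut.conj (aY * x)).toMonoidHom = D
      rw [← CfsgLib.Components.map_conj_map_conj, ← hDx, h2, hDa, CfsgLib.Components.map_conj_map_conj, haa,
        CfsgLib.Components.map_conj_one]
    exfalso
    have hxa : Dx.map (MulAut.conj aY).toMonoidHom = Da.map (MulAut.conj x).toMonoidHom := by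
      rw [hDx, hDa, CfsgLib.Components.map_conj_map_conj, CfsgLib.Components.map_conj_map_conj, hBYa x hx]
    have hDxC : Cfsg.IsComponent Dx := CfsgLib.Components.isComponent_conj x hD
    have hDxaC : Cfsg.IsComponent (Dx.map (MulAut.conj aY).toMonoidHom) := CfsgLib.Components.isComponent_conj aY hDxC
    have e1 : Dx.map (MulAut.conj aY).toMonoidHom ≠ D := by
      intro he
      apply h2
      rw [hDa, ← he, CfsgLib.Components.map_conj_map_conj, haa, CfsgLib.Components.map_conj_one]
    have e2 : Dx.map (MulAut.conj aY).toMonoidHom ≠ Da := fun he =>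
      h1 (Subgroup.map_injective (MulAut.conj aY).injective he)
    have hKx : KY ≤ Dx ⊔ Dx.map (MulAut.conj aY).toMonoidHom := by
      intro k hk
      rw [hxa, hDx, ← Subgroup.map_sup]
      refine ⟨k, hKYsup hk, ?_⟩
      show x * k * x⁻¹ = k
      rw [← hBYK x hx k hk, mul_inv_cancel_right]
    have hc : D ⊔ Da ≤ Subgroup.centralizer ((Dx ⊔ Dx.map (MulAut.conj aY).toMonoidHom : Subgroup Cb) : Set Cb) := by
      rw [Subgroup.le_centralizer_iff]
      refine sup_le ?_ ?_ <;> rw [Subgroup.le_centralizer_iff] <;> refine sup_le ?_ ?_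
      · exact CfsgLib.Components.le_centralizer_of_commutator_eq_bot
          (CfsgLib.Components.commutator_components_eq_bot hD hDxC (Ne.symm h1))
      · exact CfsgLib.Components.le_centralizer_of_commutator_eq_bot
          (CfsgLib.Components.commutator_components_eq_bot hDaC hDxC (Ne.symm h2))
      · exact CfsgLib.Components.le_centralizer_of_commutator_eq_bot
          (CfsgLib.Components.commutator_components_eq_bot hD hDxaC (Ne.symm e1))
      · exact CfsgLib.Components.le_centralizer_of_commutator_eq_bot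
          (CfsgLib.Components.commutator_components_eq_bot hDaC hDxaC (Ne.symm e2))
    apply CfsgLib.Components.quasisimple_not_isMulCommutative hKYq
    exact Subgroup.le_centralizer_iff_isMulCommutative.mp
      ((hKYsup.trans hc).trans (Subgroup.centralizer_le (SetLike.coe_subset_coe.mpr hKx)))
  have haBY : aY ∈ BY := haB
  have hBcard : Nat.card BY ≤ 2 * Nat.card B₀ := by
    let f : Bool × B₀ → BY := fun p => if p.1 then ⟨aY * p.2, BY.mul_mem haBY p.2.2.1⟩ else ⟨p.2, p.2.2.1⟩
    have hf : Function.Surjective f := by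
      rintro ⟨x, hx⟩
      rcases hperm x hx with h' | h'
      · exact ⟨(false, ⟨x, hx, h'⟩), rfl⟩
      · refine ⟨(true, ⟨aY * x, BY.mul_mem haBY hx, h'⟩), Subtype.ext ?_⟩
        show aY * (aY * x) = x
        rw [← mul_assoc, haa, one_mul]
    have := Nat.card_le_card_of_surjective f hf
    simpa [Nat.card_prod] using this
  have hfixD : ∀ x ∈ B₀, ∀ d ∈ D, x * d * x⁻¹ = d := by
    rintro x ⟨hx, hxN⟩ d hd
    have hd' := (Subgroup.mem_normalizer_iff.mp hxN d).mp hd
    refine congrArg Subtype.val (@hinj ⟨_, hd'⟩ ⟨d, hd⟩ ?_)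
    show x * d * x⁻¹ * (aY * (x * d * x⁻¹) * aY⁻¹) = d * (aY * d * aY⁻¹)
    have h1 : d * (aY * d * aY⁻¹) ∈ KY := by rw [hKδ]; exact ⟨⟨d, hd⟩, rfl⟩
    have h2 := hBYK x hx _ h1
    calc x * d * x⁻¹ * (aY * (x * d * x⁻¹) * aY⁻¹) = x * d * (x⁻¹ * (aY * x)) * d * (x⁻¹ * aY⁻¹) := by group
      _ = x * d * (x⁻¹ * (x * aY)) * d * (aY * x)⁻¹ := by rw [hBYa x hx]; group
      _ = x * d * (x⁻¹ * (x * aY)) * d * (x * aY)⁻¹ := by rw [hBYa x hx]
      _ = (x * (d * (aY * d * aY⁻¹))) * x⁻¹ := by group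
      _ = d * (aY * d * aY⁻¹) := by rw [← h2, mul_inv_cancel_right]
  -- the elementary subgroup of the other component
  let ε : D →* Cb := (MulAut.conj aY).toMonoidHom.comp D.subtype
  have hε : Function.Injective ε := (MulAut.conj aY).injective.comp D.subtype_injective
  let ι : K →* Cb := Subgroup.inclusion hKb
  have hι : Function.Injective ι := Subgroup.inclusion_injective hKb
  set E := ((A.map ι).comap δ).map ε with hE
  have hAY : A.map ι ≤ δ.range := by
    rw [← hKδ]
    rintro _ ⟨k, -, rfl⟩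
    exact k.2
  have hEcard : Nat.card E = Nat.card A := by
    rw [hE, Subgroup.card_map_of_injective hε, ← Subgroup.card_map_of_injective (K := (A.map ι).comap δ) hinj,
      Subgroup.map_comap_eq_self hAY, Subgroup.card_map_of_injective hι]
  have hE2 : ∀ x ∈ E, x ^ 2 = 1 := by
    rintro _ ⟨d, ⟨k, hk, hkd⟩, rfl⟩
    have h1 : d ^ 2 = 1 := hinj (by rw [map_pow, ← hkd, ← map_pow, hA2 k hk, map_one, map_one])
    rw [← map_pow, h1, map_one]
  have hEc : E ≤ Subgroup.centralizer (E : Set Cb) := by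
    rintro _ ⟨d, ⟨k, hk, hkd⟩, rfl⟩
    rw [Subgroup.mem_centralizer_iff]
    rintro _ ⟨d', ⟨k', hk', hkd'⟩, rfl⟩
    rw [← map_mul, ← map_mul]
    congr 1
    apply hinj
    rw [map_mul, map_mul, ← hkd, ← hkd', ← map_mul, ← map_mul]
    congr 1
    exact Subgroup.mem_centralizer_iff.mp (Subgroup.le_centralizer_iff_isMulCommutative.mpr hAc hk) k' hk'
  have hEDa : E ≤ Da := by
    rintro _ ⟨d, -, rfl⟩
    exact ⟨d, d.2, rfl⟩
  have hB₀E : B₀ ≤ Subgroup.centralizer (E : Set Cb) := by
    intro x hx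
    rw [Subgroup.mem_centralizer_iff]
    rintro _ ⟨d, -, rfl⟩
    show aY * d * aY⁻¹ * x = x * (aY * d * aY⁻¹)
    have h1 := hfixD x hx d d.2
    have h2 := hBYa x hx.1
    calc aY * d * aY⁻¹ * x = aY * (x * d * x⁻¹) * aY⁻¹ * x := by rw [h1]
      _ = (aY * x) * d * (aY * x)⁻¹ * x := by group
      _ = (x * aY) * d * (x * aY)⁻¹ * x := by rw [h2]
      _ = x * (aY * d * aY⁻¹) := by group
  have hdisj : E ⊓ B₀ = ⊥ := by
    rw [eq_bot_iff]
    rintro x ⟨⟨d, hd, rfl⟩, hxB⟩
    rw [Subgroup.mem_bot]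
    have hfix := hBYa _ hxB.1
    have hcomm : (d : Cb) = aY * d * aY⁻¹ := by
      have hd2 : aY * d * aY⁻¹ * aY = aY * (aY * d * aY⁻¹) := hfix
      rw [inv_mul_cancel_right, ← mul_assoc, ← mul_assoc, haa, one_mul] at hd2
      calc (d : Cb) = d * aY⁻¹ * aY := by group
        _ = aY * d * aY⁻¹ := by rw [← hd2, inv_eq_of_mul_eq_one_right haa]
    have h1 : δ d = 1 := by
      show (d : Cb) * (aY * d * aY⁻¹) = 1
      rw [← hcomm]
      have h2 : (aY * (d : Cb) * aY⁻¹) ^ 2 = 1 := hE2 _ ⟨d, hd, rfl⟩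
      rwa [← hcomm, pow_two] at h2
    rw [show d = 1 from hinj (h1.trans (map_one δ).symm), map_one]
  set W := E ⊔ B₀ with hW
  have hWcard : Nat.card W = Nat.card E * Nat.card B₀ :=
    CfsgLib.Coprime.card_sup_of_disjoint (fun x hx => Subgroup.centralizer_le_normalizer _
      (Subgroup.le_centralizer_iff.mp hB₀E hx)) (by rw [inf_comm]; exact hdisj)
  have hB₀c : B₀ ≤ Subgroup.centralizer (B₀ : Set Cb) := fun x hx => by
    rw [Subgroup.mem_centralizer_iff]
    exact fun y hy => Subtype.ext (Subgroup.mem_centralizer_iff.mp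
      (Subgroup.le_centralizer_iff_isMulCommutative.mpr hBc hx.1) _ hy.1)
  have hWD : W ≤ Subgroup.centralizer (D : Set Cb) := sup_le
    (hEDa.trans (CfsgLib.Components.le_centralizer_of_commutator_eq_bot
      (CfsgLib.Components.commutator_components_eq_bot hDaC hD hne)))
    fun x hx => Subgroup.mem_centralizer_iff.mpr fun d hd => (mul_inv_eq_iff_eq_mul.mp (hfixD x hx d hd)).symm
  have hWc : W ≤ Subgroup.centralizer (W : Set Cb) := by
    rw [Subgroup.le_centralizer_iff]
    refine sup_le ?_ ?_ <;> rw [Subgroup.le_centralizer_iff]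
    · exact sup_le hEc hB₀E
    · exact sup_le (Subgroup.le_centralizer_iff.mp hB₀E) hB₀c
  have hW2 : ∀ x ∈ W, x ^ 2 = 1 := by
    intro x hx
    rw [← SetLike.mem_coe, hW, Subgroup.coe_mul_of_right_le_normalizer_left E _
      (hB₀E.trans (Subgroup.centralizer_le_normalizer _)), Set.mem_mul] at hx
    obtain ⟨u, hu, v, hv, rfl⟩ := hx
    rw [(show Commute u v from Subgroup.mem_centralizer_iff.mp (hB₀E hv) u hu).mul_pow, hE2 u hu, one_mul]
    exact Subtype.ext (by simpa using hB2 _ hv.1)
  let ζ : W →* ↥(Cb ⊓ Subgroup.centralizer (D' : Set G)) :=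
    MonoidHom.mk' (fun x => ⟨((x : Cb) : G), (x : Cb).2, Subgroup.mem_centralizer_iff.mpr (by
      rintro _ ⟨d, hd, rfl⟩
      exact congrArg Subtype.val (Subgroup.mem_centralizer_iff.mp (hWD x.2) d hd))⟩) fun _ _ => rfl
  have hζ : Function.Injective ζ := fun x y hxy => by
    have := congrArg Subtype.val hxy
    exact Subtype.ext (Subtype.ext this)
  have hbig := hrankD ζ.range (Subgroup.le_centralizer_iff_isMulCommutative.mp (by
      rintro _ ⟨x, rfl⟩
      rw [Subgroup.mem_centralizer_iff]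
      rintro _ ⟨y, rfl⟩
      rw [← map_mul, ← map_mul]
      congr 1
      exact Subtype.ext (Subgroup.mem_centralizer_iff.mp (hWc x.2) y y.2))) (by
      rintro _ ⟨x, rfl⟩
      rw [← map_pow, show x ^ 2 = 1 from Subtype.ext (by simpa using hW2 x x.2), map_one])
  rw [Nat.card_congr (MonoidHom.ofInjective hζ).symm.toEquiv, hWcard, hEcard, ← hm,
    ← Nat.card_congr (Subgroup.subgroupOfEquivOfLe hBb).toEquiv] at hbig
  have hA4' : 4 ≤ Nat.card A := by
    obtain ⟨j, hj⟩ := IsPGroup.iff_card.mp (show IsPGroup 2 A from fun x => ⟨1, Subtype.ext (by simpa using hA2 x x.2)⟩)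
    rcases j with _ | _ | j
    · simp [hj] at hA4
    · simp [hj] at hA4
    · rw [hj, pow_succ, pow_succ]
      nlinarith [Nat.one_le_two_pow (n := j)]
  have hpos : 0 < Nat.card B₀ := Nat.card_pos
  have h4 : 4 * Nat.card B₀ ≤ Nat.card A * Nat.card B₀ := Nat.mul_le_mul_right _ hA4'
  rw [← hBY] at hbig
  omega

end Cfsg.Agent.S1305
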