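import Cfsg.Statements.S1306
import Cfsg.Agent.Lib.Components.Basic
import Mathlib.GroupTheory.Perm.Cycle.Type
import Mathlib.Tactic.Group

set_option autoImplicit false
open Cfsg
open scoped commutatorElement Pointwise

namespace Cfsg.Agent.S1306

/-- Let G be finite, x an involution and L ≤ C_G(x) a component of C_G(x). Suppose L is a component of C_G(y) for every involution y ∈ C_G(L), and ⁅L, g L g⁻¹⁆ ≠ 1 whenever g L g⁻¹ ≠ L. Then L is a standard subgroup of G. -/
theorem result {G : Type*} [Group G] [Finite G] (x : G) (hx : orderOf x = 2) (L : Subgroup G) (hLx : L ≤ Subgroup.centralizer ({x} : Set G)) (hL : Cfsg.IsComponent (L.subgroupOf (Subgroup.centralizer ({x} : Set G)))) (hne : ∀ y : G, orderOf y = 2 → y ∈ Subgroup.centralizer (L : Set G) → L ≤ Subgroup.centralizer ({y} : Set G) ∧ Cfsg.IsComponent (L.subgroupOf (Subgroup.centralizer ({y} : Set G)))) (hnc : ∀ g : G, L.map (MulAut.conj g).toMonoidHom ≠ L → ⁅L, L.map (MulAut.conj g).toMonoidHom⁆ ≠ ⊥) : Cfsg.IsStandardSubgroup L := by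
  set C := Subgroup.centralizer (L : Set G) with hC
  have hxC : x ∈ C := by
    rw [hC, Subgroup.mem_centralizer_iff]
    exact fun y hy => Subgroup.mem_centralizer_singleton_iff.mp (hLx hy)
  have hq : Cfsg.IsQuasisimple ↥L :=
    CfsgLib.Components.isQuasisimple_of_mulEquiv hL.2 (Subgroup.subgroupOfEquivOfLe hLx)
  have hconjC : ∀ g y : G, y ∈ (L.map (MulAut.conj g).toMonoidHom) → ∀ c ∈ C,
      y * (g * c * g⁻¹) = (g * c * g⁻¹) * y := by
    rintro g _ ⟨l, hl, rfl⟩ c hc
    have h := Subgroup.mem_centralizer_iff.mp hc l hl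
    simp only [MulEquiv.toMonoidHom_eq_coe, MonoidHom.coe_coe, MulAut.conj_apply]
    calc g * l * g⁻¹ * (g * c * g⁻¹) = g * (l * c) * g⁻¹ := by group
      _ = g * (c * l) * g⁻¹ := by rw [h]
      _ = g * c * g⁻¹ * (g * l * g⁻¹) := by group
  -- a conjugate of `L` with an involution centralizing both is `L` itself
  have key : ∀ g z : G, z ∈ C → orderOf z = 2 → g * z * g⁻¹ ∈ C →
      L.map (MulAut.conj g).toMonoidHom = L := by
    intro g z hz ho hgz
    have ho' : orderOf (g * z * g⁻¹) = 2 := by
      rw [← ho]; exact (MulAut.conj g).orderOf_eq z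
    obtain ⟨h1, h2⟩ := hne _ ho' hgz
    obtain ⟨h3, h4⟩ := hne z ho hz
    set M := L.map (MulAut.conj g).toMonoidHom with hM
    set D := Subgroup.centralizer ({g * z * g⁻¹} : Set G) with hD
    have hMD : M ≤ D := fun y hy => Subgroup.mem_centralizer_singleton_iff.mpr (hconjC g y hy z hz)
    have hDmap : (Subgroup.centralizer ({z} : Set G)).map (MulAut.conj g).toMonoidHom = D := by
      ext y
      rw [hD, Subgroup.mem_map_equiv, Subgroup.mem_centralizer_singleton_iff,
        Subgroup.mem_centralizer_singleton_iff, ← (MulAut.conj g).injective.eq_iff, map_mul, map_mul,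
        MulEquiv.apply_symm_apply]
      simp [MulAut.conj_apply]
    let e : ↥(Subgroup.centralizer ({z} : Set G)) ≃* ↥D :=
      ((Subgroup.centralizer ({z} : Set G)).equivMapOfInjective _ (MulAut.conj g).injective).trans
        (MulEquiv.subgroupCongr hDmap)
    have h5 : Cfsg.IsComponent (M.subgroupOf D) := by
      have h6 := CfsgLib.Components.isComponent_map_equiv e h4
      have h7 : (L.subgroupOf (Subgroup.centralizer ({z} : Set G))).map e.toMonoidHom =
          M.subgroupOf D := by
        apply Subgroup.map_injective (Subgroup.subtype_injective D)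
        rw [Subgroup.map_map, Subgroup.map_subgroupOf_eq_of_le hMD, hM]
        conv_rhs => rw [← Subgroup.map_subgroupOf_eq_of_le h3, Subgroup.map_map]
        rfl
      rwa [h7] at h6
    by_contra hne'
    refine hnc g hne' ?_
    rw [← CfsgLib.Components.commutator_subgroupOf_eq_bot_iff h1 hMD]
    refine CfsgLib.Components.commutator_components_eq_bot h2 h5 fun h => hne' ?_
    rw [← Subgroup.map_subgroupOf_eq_of_le hMD, ← h, Subgroup.map_subgroupOf_eq_of_le h1]
  have hCN : Subgroup.normalizer (L : Set G) ≤ Subgroup.normalizer (C : Set G) := by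
    refine Subgroup.le_normalizer_iff.mpr fun g hg c hc => ?_
    rw [hC, Subgroup.mem_centralizer_iff]
    intro y hy
    have h1 : g⁻¹ * y * g ∈ L := (Subgroup.mem_normalizer_iff''.mp hg y).mp hy
    have h2 := Subgroup.mem_centralizer_iff.mp hc _ h1
    calc y * (g * c * g⁻¹) = g * ((g⁻¹ * y * g) * c) * g⁻¹ := by group
      _ = g * (c * (g⁻¹ * y * g)) * g⁻¹ := by rw [h2]
      _ = g * c * g⁻¹ * y := by group
  have hNC : ∀ g ∈ Subgroup.normalizer (C : Set G), g ∈ Subgroup.normalizer (L : Set G) := by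
    intro g hg
    rw [Subgroup.mem_normalizer_iff_map_conj_eq]
    exact key g x hxC hx ((Subgroup.mem_normalizer_iff.mp hg x).mp hxC)
  refine ⟨hq, ⟨?_, fun g hg => ?_⟩, hnc, le_antisymm hCN hNC⟩
  · exact even_iff_two_dvd.mpr (hx ▸ Subgroup.orderOf_dvd_natCard C hxC)
  · rw [← Nat.not_even_iff_odd, even_iff_two_dvd]
    intro heven
    apply hg
    haveI : Fact (Nat.Prime 2) := ⟨Nat.prime_two⟩
    obtain ⟨y, hy⟩ := exists_prime_orderOf_dvd_card' 2 heven
    rw [← Subgroup.orderOf_coe] at hy
    obtain ⟨hy1, z, hz, hz'⟩ := Subgroup.mem_inf.mp y.2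
    have hzy : g * z * g⁻¹ = (y : G) := hz'
    have hoz : orderOf z = 2 := by
      rw [← hy, ← hzy]; exact ((MulAut.conj g).orderOf_eq z).symm
    refine hCN ?_
    rw [Subgroup.mem_normalizer_iff_map_conj_eq]
    exact key g z hz hoz (hzy ▸ hy1)

end Cfsg.Agent.S1306
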