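import Cfsg.Statements.S1307
import Cfsg.Agent.Lib.Involutions.BrauerSuzuki
import Cfsg.Agent.Lib.Involutions.Transfer
import Cfsg.Agent.Lib.Components.Basic
import Cfsg.Agent.Lib.PCore.Basic

set_option autoImplicit false
open Cfsg
open scoped commutatorElement Pointwise

namespace Cfsg.Agent.S1307

private theorem mul_comm' {G : Type*} [Group G] (a b : Subgroup.center G) : a * b = b * a :=
  Subtype.ext (Subgroup.mem_center_iff.mp b.2 a)


/-- Let G be finite, x an involution and L ≤ C_G(x) a component of C_G(x) of even order and 2-rank 1, such that L is a component of C_G(y) for every involution y ∈ C_G(L). Then some involution of L is a classical involution of G. -/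
theorem result {G : Type*} [Group G] [Finite G] (x : G) (hx : orderOf x = 2) (L : Subgroup G) (hLx : L ≤ Subgroup.centralizer ({x} : Set G)) (hL : Cfsg.IsComponent (L.subgroupOf (Subgroup.centralizer ({x} : Set G)))) (heven : Even (Nat.card ↥L)) (hrk : Cfsg.PRankLE 2 1 ↥L) (hne : ∀ y : G, orderOf y = 2 → y ∈ Subgroup.centralizer (L : Set G) → L ≤ Subgroup.centralizer ({y} : Set G) ∧ Cfsg.IsComponent (L.subgroupOf (Subgroup.centralizer ({y} : Set G)))) : ∃ t ∈ L, Cfsg.IsClassicalInvolution t := by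
  haveI : Fact (Nat.Prime 2) := ⟨Nat.prime_two⟩
  set C := Subgroup.centralizer ({x} : Set G) with hC
  have hq : Cfsg.IsQuasisimple ↥L :=
    CfsgLib.Components.isQuasisimple_of_mulEquiv hL.2 (Subgroup.subgroupOfEquivOfLe hLx)
  have huniq : ∀ s t : ↥L, orderOf s = 2 → orderOf t = 2 → Commute s t → s = t := by
    intro s t hs ht hc
    by_contra hne'
    let A : Subgroup ↥L := Subgroup.closure {s, t}
    have hcomm : IsMulCommutative A := Subgroup.isMulCommutative_closure (by
      intro a ha b hb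
      simp only [Set.mem_insert_iff, Set.mem_singleton_iff] at ha hb
      rcases ha with rfl | rfl <;> rcases hb with rfl | rfl
      exacts [rfl, hc.eq, hc.eq.symm, rfl])
    have hss : s * s = 1 := by rw [← pow_two, ← hs, pow_orderOf_eq_one]
    have htt : t * t = 1 := by rw [← pow_two, ← ht, pow_orderOf_eq_one]
    have hsA : s ∈ A := Subgroup.subset_closure (Set.mem_insert _ _)
    have htA : t ∈ A := Subgroup.subset_closure (Set.mem_insert_of_mem _ rfl)
    have h2A : ∀ a ∈ A, a ^ 2 = 1 := by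
      intro a ha
      refine Subgroup.closure_induction (fun y hy => ?_) (one_pow 2) (fun y z hy hz h1 h2 => ?_)
        (fun y _ h1 => by rw [inv_pow, h1, inv_one]) ha
      · rcases hy with rfl | rfl
        · rw [pow_two, hss]
        · rw [pow_two, htt]
      · have hyz : Commute y z :=
          congrArg Subtype.val (hcomm.is_comm.comm (⟨y, hy⟩ : A) ⟨z, hz⟩)
        rw [hyz.mul_pow, h1, h2, one_mul]
    have h := hrk A hcomm h2A
    have hs1 : s ≠ 1 := fun e => by simp [e] at hs
    have ht1 : t ≠ 1 := fun e => by simp [e] at ht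
    have h3 : ({(1 : ↥L), s, t} : Set ↥L).ncard = 3 :=
      Set.ncard_eq_three.mpr ⟨1, s, t, hs1.symm, ht1.symm, hne', rfl⟩
    have h4 : ({(1 : ↥L), s, t} : Set ↥L).ncard ≤ Nat.card A := by
      rw [← SetLike.coe_sort_coe A, Nat.card_coe_set_eq]
      refine Set.ncard_le_ncard ?_ (Set.toFinite _)
      rintro y (rfl | rfl | rfl)
      exacts [A.one_mem, hsA, htA]
    omega
  obtain ⟨S⟩ := (inferInstance : Nonempty (Sylow 2 ↥L))
  have hperf : _root_.commutator ↥L = ⊤ := CfsgLib.Components.quasisimple_commutator_eq_top hq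
  have hncyc : ¬ IsCyclic (S : Subgroup ↥L) := by
    intro hcyc
    obtain ⟨H, hH⟩ := CfsgLib.Involutions.exists_index_two_of_cyclic_sylow heven S hcyc
    haveI : H.Normal := Subgroup.normal_of_index_eq_two hH
    have hle : _root_.commutator ↥L ≤ H := by
      refine Subgroup.commutator_le.mpr fun a _ b _ => ?_
      rw [← QuotientGroup.eq_one_iff, ← QuotientGroup.mk'_apply, map_commutatorElement,
        commutatorElement_eq_one_iff_mul_comm]
      haveI : IsCyclic (↥L ⧸ H) := isCyclic_of_prime_card (p := 2) (by rw [← Subgroup.index_eq_card]; exact hH)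
      exact IsCyclic.commutative.is_comm.comm _ _
    rw [hperf, top_le_iff] at hle
    rw [hle, Subgroup.index_top] at hH
    omega
  have h1 := CfsgLib.Involutions.unique_involution_of_rank_one huniq S.2
  obtain ⟨n, hn, hquat⟩ : ∃ n : ℕ, 1 ≤ n ∧ Nonempty ((S : Subgroup ↥L) ≃* QuaternionGroup (2 ^ n)) := by
    rcases CfsgLib.TwoGroups.OneInvolution.isCyclic_or_quaternion S.2 h1 with h | h
    · exact absurd h hncyc
    · exact h
  obtain ⟨t, ht⟩ := exists_prime_orderOf_dvd_card' (G := ↥L) 2 heven.two_dvd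
  have hz := CfsgLib.Involutions.inZStar_of_rank_one huniq ht
  have hcore : Cfsg.pPrimeCore 2 ↥L ≤ Subgroup.center ↥L := by
    rcases CfsgLib.Components.quasisimple_normal_eq_top_or_le_center hq (Cfsg.pPrimeCore 2 ↥L) with h | h
    · exfalso
      apply CfsgLib.PCore.not_dvd_card_pPrimeCore (p := 2) (G := ↥L)
      rw [h, Subgroup.card_top]
      exact heven.two_dvd
    · exact h
  have hcen : ∀ g : ↥L, g * t * g⁻¹ * t⁻¹ = 1 := by
    let φ : ↥L →* Subgroup.center ↥L :=
      MonoidHom.mk' (fun g => ⟨g * t * g⁻¹ * t⁻¹, hcore (hz g)⟩) fun a b => by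
        apply Subtype.ext
        have hb := Subgroup.mem_center_iff.mp (hcore (hz b))
        show a * b * t * (a * b)⁻¹ * t⁻¹ = a * t * a⁻¹ * t⁻¹ * (b * t * b⁻¹ * t⁻¹)
        calc a * b * t * (a * b)⁻¹ * t⁻¹
            = a * (b * t * b⁻¹ * t⁻¹) * (t * a⁻¹ * t⁻¹) := by group
          _ = (b * t * b⁻¹ * t⁻¹) * a * (t * a⁻¹ * t⁻¹) := by rw [hb a]
          _ = a * t * a⁻¹ * t⁻¹ * (b * t * b⁻¹ * t⁻¹) := by
              rw [mul_assoc (b * t * b⁻¹ * t⁻¹), ← hb (a * (t * a⁻¹ * t⁻¹))]; group
    intro g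
    have hker : _root_.commutator ↥L ≤ φ.ker := by
      refine Subgroup.commutator_le.mpr fun a _ b _ => ?_
      rw [MonoidHom.mem_ker, map_commutatorElement, commutatorElement_eq_one_iff_mul_comm]
      exact mul_comm' _ _
    rw [hperf] at hker
    exact congrArg Subtype.val (MonoidHom.mem_ker.mp (hker (Subgroup.mem_top g)))
  refine ⟨t, t.2, ?_⟩
  have ht2 : orderOf (t : G) = 2 := by rw [Subgroup.orderOf_coe]; exact ht
  have htc : (t : G) ∈ Subgroup.centralizer (L : Set G) := by
    rw [Subgroup.mem_centralizer_iff]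
    intro g hg
    exact congrArg Subtype.val (mul_inv_eq_iff_eq_mul.mp (mul_inv_eq_one.mp (hcen ⟨g, hg⟩)))
  obtain ⟨hle, hcomp⟩ := hne _ ht2 htc
  obtain ⟨m, rfl⟩ : ∃ m, n = m + 1 := ⟨n - 1, by omega⟩
  exact ⟨ht2, L, hle, t.2, hcomp.1, S, m, hquat⟩

end Cfsg.Agent.S1307
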