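import Cfsg.Statements.S1313
import Cfsg.Agent.Lib.Components.FStar
import Mathlib.Algebra.Group.Subgroup.Ker
import Mathlib.GroupTheory.Perm.Basic
import Mathlib.Data.Fintype.Perm

set_option autoImplicit false
open Cfsg
open scoped commutatorElement Pointwise

namespace Cfsg.Agent.S1313

/-- For a finite group H, |H| ≤ |F*(H)|!. -/
theorem result {H : Type*} [Group H] [Finite H] : Nat.card H ≤ Nat.factorial (Nat.card ↥(Cfsg.generalizedFittingSubgroup H)) := by
  classical
  haveI := CfsgLib.Components.generalizedFitting_normal (G := H)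
  set W := Cfsg.generalizedFittingSubgroup H with hW
  haveI : Fintype ↥W := Fintype.ofFinite _
  let φ : H →* MulAut ↥W := MulAut.conjNormal
  have hker : φ.ker ≤ W := by
    intro h hh
    refine CfsgLib.Components.centralizer_generalizedFitting_le ?_
    rw [Subgroup.mem_centralizer_iff]
    intro w hw
    rw [MonoidHom.mem_ker] at hh
    have h2 : h * w * h⁻¹ = w := by
      have h3 : φ h ⟨w, hw⟩ = ⟨w, hw⟩ := by rw [hh]; rfl
      have h4 := congrArg Subtype.val h3
      rwa [MulAut.conjNormal_apply] at h4
    exact (mul_inv_eq_iff_eq_mul.mp h2).symm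
  let f : MulAut ↥W → Equiv.Perm {x : ↥W // x ≠ 1} := fun a =>
    a.toEquiv.subtypeEquiv fun x => by simp
  have hf : Function.Injective f := by
    intro a b hab
    refine MulEquiv.ext fun x => ?_
    by_cases hx : x = 1
    · simp [hx]
    · exact congrArg Subtype.val (Equiv.congr_fun hab ⟨x, hx⟩)
  have h1 : Nat.card ↥φ.range ≤ (Nat.card ↥W - 1).factorial := by
    refine (Subgroup.card_le_card_group _).trans ?_
    refine (Nat.card_le_card_of_injective f hf).trans_eq ?_
    rw [Nat.card_eq_fintype_card, Fintype.card_perm, Nat.card_eq_fintype_card,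
      Fintype.card_subtype_compl, Fintype.card_subtype_eq]
  calc Nat.card H = Nat.card ↥φ.ker * Nat.card ↥φ.range := by
        rw [← Subgroup.card_mul_index φ.ker, Subgroup.index_ker]
    _ ≤ Nat.card ↥W * (Nat.card ↥W - 1).factorial := Nat.mul_le_mul (Subgroup.card_le_of_le hker) h1
    _ = (Nat.card ↥W).factorial := Nat.mul_factorial_pred Nat.card_pos.ne'

end Cfsg.Agent.S1313
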