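import Cfsg.Statements.S1314
import Mathlib.Tactic.Group
import Mathlib.GroupTheory.Commutator.Basic

set_option autoImplicit false
open Cfsg
open scoped commutatorElement Pointwise

namespace Cfsg.Agent.S1314

/-- Let x be an involution of a group G and L a perfect subgroup with ⁅L, x L x⁻¹⁆ = 1. Then l ↦ l (x l x⁻¹) is a group homomorphism π from L to G whose kernel is central in L and whose image lies in C_G(x); and the commutator subgroup of C_{L ⊔ xLx⁻¹}(x) equals the image of π. -/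
theorem result {G : Type*} [Group G] [Finite G] (x : G) (hx : orderOf x = 2) (L : Subgroup G) (hperf : ⁅L, L⁆ = L) (hcomm : ⁅L, L.map (MulAut.conj x).toMonoidHom⁆ = ⊥) : ∃ π : ↥L →* G, (∀ l : ↥L, π l = (l : G) * (x * (l : G) * x⁻¹)) ∧ π.ker ≤ Subgroup.center ↥L ∧ π.range ≤ Subgroup.centralizer ({x} : Set G) ∧ ⁅(L ⊔ L.map (MulAut.conj x).toMonoidHom) ⊓ Subgroup.centralizer ({x} : Set G), (L ⊔ L.map (MulAut.conj x).toMonoidHom) ⊓ Subgroup.centralizer ({x} : Set G)⁆ = π.range := by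
  set M := L.map (MulAut.conj x).toMonoidHom with hM
  have hxi : x⁻¹ = x := by
    refine inv_eq_of_mul_eq_one_right ?_
    rw [← sq, ← hx]; exact pow_orderOf_eq_one x
  have hx2 : x * x = 1 := by nth_rewrite 1 [← hxi]; group
  have hc : ∀ a ∈ L, ∀ b ∈ L, a * (x * b * x⁻¹) = (x * b * x⁻¹) * a := by
    intro a ha b hb
    have h1 : ⁅a, x * b * x⁻¹⁆ ∈ ⁅L, M⁆ :=
      Subgroup.commutator_mem_commutator ha ⟨b, hb, by simp [MulAut.conj_apply]⟩
    rw [hcomm, Subgroup.mem_bot, commutatorElement_eq_one_iff_mul_comm] at h1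
    exact h1
  let π : ↥L →* G :=
    { toFun := fun l => (l : G) * (x * (l : G) * x⁻¹)
      map_one' := by simp
      map_mul' := fun a b => by
        simp only [Subgroup.coe_mul]
        calc (a : G) * b * (x * (a * b) * x⁻¹)
            = a * ((b : G) * (x * a * x⁻¹)) * (x * b * x⁻¹) := by group
          _ = a * ((x * a * x⁻¹) * b) * (x * b * x⁻¹) := by rw [hc b b.2 a a.2]
          _ = a * (x * a * x⁻¹) * (b * (x * b * x⁻¹)) := by group }
  have hπ : ∀ l : ↥L, π l = (l : G) * (x * (l : G) * x⁻¹) := fun l => rfl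
  have hrC : π.range ≤ Subgroup.centralizer ({x} : Set G) := by
    rintro _ ⟨l, rfl⟩
    rw [Subgroup.mem_centralizer_singleton_iff, hπ]
    calc (l : G) * (x * l * x⁻¹) * x = ((x * l * x⁻¹) * l) * x := by rw [hc l l.2 l l.2]
      _ = x * l * (x⁻¹ * l * x) := by group
      _ = x * l * (x * l * x⁻¹) := by rw [hxi]
      _ = x * ((l : G) * (x * l * x⁻¹)) := by group
  have hrJ : π.range ≤ L ⊔ M := by
    rintro _ ⟨l, rfl⟩
    rw [hπ]
    exact Subgroup.mul_mem _ (Subgroup.mem_sup_left l.2)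
      (Subgroup.mem_sup_right ⟨l, l.2, by simp [MulAut.conj_apply]⟩)
  refine ⟨π, hπ, ?_, hrC, le_antisymm ?_ ?_⟩
  · intro l hl
    rw [MonoidHom.mem_ker, hπ, mul_eq_one_iff_eq_inv] at hl
    rw [Subgroup.mem_center_iff]
    intro m
    ext
    simp only [Subgroup.coe_mul]
    rw [hl]
    calc (m : G) * (x * l * x⁻¹)⁻¹ = (m : G) * (x * (l : G)⁻¹ * x⁻¹) := by group
      _ = (x * (l : G)⁻¹ * x⁻¹) * m := hc m m.2 _ (Subgroup.inv_mem _ l.2)
      _ = (x * l * x⁻¹)⁻¹ * m := by group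
  · -- an element of the centralizer is an image times an element centralizing L and M
    have hcl : M ≤ Subgroup.normalizer (L : Set G) := by
      refine le_trans ?_ (Subgroup.centralizer_le_normalizer (L : Set G))
      rintro _ ⟨b, hb, rfl⟩
      rw [Subgroup.mem_centralizer_iff]
      intro a ha
      simpa [MulAut.conj_apply] using hc a ha b hb
    have key : ∀ g ∈ (L ⊔ M) ⊓ Subgroup.centralizer ({x} : Set G), ∃ d : ↥L,
        ∀ y ∈ L ⊔ M, y * ((π d)⁻¹ * g) = ((π d)⁻¹ * g) * y := by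
      intro g hg
      obtain ⟨hg1, hg2⟩ := Subgroup.mem_inf.1 hg
      rw [Subgroup.mem_centralizer_singleton_iff] at hg2
      have hg1' : g ∈ ((L ⊔ M : Subgroup G) : Set G) := hg1
      rw [Subgroup.coe_mul_of_right_le_normalizer_left L M hcl, Set.mem_mul] at hg1'
      obtain ⟨a, ha, m, hm, hgeq⟩ := hg1'
      obtain ⟨b, hb, rfl⟩ := hm
      simp only [MulEquiv.toMonoidHom_eq_coe, MonoidHom.coe_coe, MulAut.conj_apply] at hgeq
      refine ⟨⟨b, hb⟩, ?_⟩
      have hL1 : (b⁻¹ * a) ∈ L := Subgroup.mul_mem _ (Subgroup.inv_mem _ hb) ha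
      have e1 : (π ⟨b, hb⟩)⁻¹ * g = b⁻¹ * a := by
        rw [← hgeq, hπ]
        show (b * (x * b * x⁻¹))⁻¹ * (a * (x * b * x⁻¹)) = b⁻¹ * a
        rw [hc b hb b hb]
        calc (x * b * x⁻¹ * b)⁻¹ * (a * (x * b * x⁻¹))
            = b⁻¹ * ((x * b⁻¹ * x⁻¹) * a) * (x * b * x⁻¹) := by group
          _ = b⁻¹ * (a * (x * b⁻¹ * x⁻¹)) * (x * b * x⁻¹) := by
              rw [hc a ha b⁻¹ (Subgroup.inv_mem _ hb)]
          _ = b⁻¹ * a := by group
      have e2 : b⁻¹ * a = x * (b⁻¹ * a) * x⁻¹ := by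
        rw [← e1]
        have hd := hrC ⟨⟨b, hb⟩, rfl⟩
        rw [Subgroup.mem_centralizer_singleton_iff] at hd
        have h3 : Commute x (π ⟨b, hb⟩) := hd.symm
        have h4 : Commute x g := hg2.symm
        rw [(h3.inv_right.mul_right h4).eq]
        group
      rw [e1]
      suffices h5 : L ⊔ M ≤ Subgroup.centralizer ({b⁻¹ * a} : Set G) from
        fun y hy => Subgroup.mem_centralizer_singleton_iff.1 (h5 hy)
      refine sup_le ?_ ?_
      · intro y hy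
        rw [Subgroup.mem_centralizer_singleton_iff, e2]
        exact hc y hy _ hL1
      · rintro _ ⟨y, hy, rfl⟩
        rw [Subgroup.mem_centralizer_singleton_iff]
        simpa [MulAut.conj_apply] using (hc _ hL1 y hy).symm
    rw [Subgroup.commutator_le]
    intro g₁ h₁ g₂ h₂
    obtain ⟨d₁, hd₁⟩ := key g₁ h₁
    obtain ⟨d₂, hd₂⟩ := key g₂ h₂
    set z₁ := (π d₁)⁻¹ * g₁ with hz₁
    set z₂ := (π d₂)⁻¹ * g₂ with hz₂
    have hs : ∀ d : ↥L, π d ∈ L ⊔ M := fun d => hrJ ⟨d, rfl⟩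
    have k1 : Commute z₁ (π d₂) := (hd₁ _ (hs d₂)).symm
    have k0 : Commute z₂ (π d₁) := (hd₂ _ (hs d₁)).symm
    have k2 : z₁ ∈ L ⊔ M := Subgroup.mul_mem _ (Subgroup.inv_mem _ (hs d₁)) (Subgroup.mem_inf.1 h₁).1
    have k3 : Commute z₁ z₂ := hd₂ _ k2
    have hg₁ : g₁ = π d₁ * z₁ := by rw [hz₁]; group
    have hg₂ : g₂ = π d₂ * z₂ := by rw [hz₂]; group
    refine ⟨⁅d₁, d₂⁆, ?_⟩
    rw [map_commutatorElement, hg₁, hg₂, commutatorElement_def, commutatorElement_def]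
    symm
    calc π d₁ * z₁ * (π d₂ * z₂) * (π d₁ * z₁)⁻¹ * (π d₂ * z₂)⁻¹
        = π d₁ * (z₁ * (π d₂ * z₂)) * z₁⁻¹ * (π d₁)⁻¹ * z₂⁻¹ * (π d₂)⁻¹ := by group
      _ = π d₁ * ((π d₂ * z₂) * z₁) * z₁⁻¹ * (π d₁)⁻¹ * z₂⁻¹ * (π d₂)⁻¹ := by
          rw [(k1.mul_right k3).eq]
      _ = π d₁ * π d₂ * (z₂ * (π d₁)⁻¹) * z₂⁻¹ * (π d₂)⁻¹ := by group
      _ = π d₁ * π d₂ * ((π d₁)⁻¹ * z₂) * z₂⁻¹ * (π d₂)⁻¹ := by rw [k0.inv_right.eq]
      _ = π d₁ * π d₂ * (π d₁)⁻¹ * (π d₂)⁻¹ := by group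
  · have hLp : commutator ↥L = ⊤ := by
      apply Subgroup.map_injective (Subgroup.subtype_injective L)
      rw [Subgroup.map_subtype_commutator, hperf, ← MonoidHom.range_eq_map, Subgroup.range_subtype]
    calc π.range = (commutator ↥L).map π := by rw [hLp, MonoidHom.range_eq_map]
      _ = ⁅π.range, π.range⁆ := by rw [commutator_def, Subgroup.map_commutator, MonoidHom.range_eq_map]
      _ ≤ _ := Subgroup.commutator_mono (le_inf hrJ hrC) (le_inf hrJ hrC)

end Cfsg.Agent.S1314
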