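import Cfsg.Statements.S1315
import Cfsg.Agent.Lib.Invol68.PartTwo

set_option autoImplicit false
open Cfsg

namespace Cfsg.Agent.S1315

/-- Let G be finite and J ≠ K subgroups, each containing exactly one involution, z(J) resp. z(K), each a 2-component of the centralizer of its involution, with J / O(J) and K / O(K) both isomorphic to SL(2, F) for one finite field F of odd order, or both non-split double covers of A7. Then (i) every 2-element of K of order at least 4 centralizing z(J) normalizes J; (ii) if z(J) normalizes K then z(K) normalizes J. -/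
theorem result {G : Type*} [Group G] [Finite G] (J K : Subgroup G) (hJK : J ≠ K) (zJ zK : G) (hzJ : zJ ∈ J ∧ orderOf zJ = 2 ∧ ∀ t ∈ J, orderOf t = 2 → t = zJ) (hzK : zK ∈ K ∧ orderOf zK = 2 ∧ ∀ t ∈ K, orderOf t = 2 → t = zK) (hJ : J ≤ Subgroup.centralizer ({zJ} : Set G) ∧ Cfsg.IsPComponent 2 (J.subgroupOf (Subgroup.centralizer ({zJ} : Set G)))) (hK : K ≤ Subgroup.centralizer ({zK} : Set G) ∧ Cfsg.IsPComponent 2 (K.subgroupOf (Subgroup.centralizer ({zK} : Set G)))) (htype : (∃ (F : Type) (_ : Field F) (_ : Fintype F), Odd (Fintype.card F) ∧ Nonempty (↥J ⧸ Cfsg.oddCore ↥J ≃* Matrix.SpecialLinearGroup (Fin 2) F) ∧ Nonempty (↥K ⧸ Cfsg.oddCore ↥K ≃* Matrix.SpecialLinearGroup (Fin 2) F)) ∨ (Cfsg.IsNonsplitDoubleCover (↥J ⧸ Cfsg.oddCore ↥J) ↥(alternatingGroup (Fin 7)) ∧ Cfsg.IsNonsplitDoubleCover (↥K ⧸ Cfsg.oddCore ↥K) ↥(alternatingGroup (Fin 7)))) : (∀ y ∈ K, IsPGroup 2 ↥(Subgroup.zpowers y) → 4 ≤ orderOf y → y *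 zJ = zJ * y → y ∈ Subgroup.normalizer (J : Set G)) ∧ (zJ ∈ Subgroup.normalizer (K : Set G) → zK ∈ Subgroup.normalizer (J : Set G)) := by
  have mk : ∀ (L : Subgroup G) (t : G), (t ∈ L ∧ orderOf t = 2 ∧ ∀ x ∈ L, orderOf x = 2 → x = t) →
      (L ≤ Subgroup.centralizer ({t} : Set G) ∧
        Cfsg.IsPComponent 2 (L.subgroupOf (Subgroup.centralizer ({t} : Set G)))) →
      CfsgLib.Invol68.Intr L t := fun L t ht hL =>
    ⟨ht.1, ht.2.1, fun x hx hxx => by
      by_cases h1 : x = 1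
      · exact Or.inl h1
      · exact Or.inr (ht.2.2 x hx (orderOf_eq_prime (by rw [pow_two, hxx]) h1)), hL.1, hL.2⟩
  have iJ := mk J zJ hzJ hJ
  have iK := mk K zK hzK hK
  refine ⟨fun y hyK hp hy4 hc => ?_, fun hz => CfsgLib.Invol68.part_two iJ iK ?_ hz⟩
  · obtain ⟨k, hk⟩ := IsPGroup.iff_card.mp hp
    rw [Nat.card_zpowers] at hk
    have hyz : y ∈ CfsgLib.Invol68.Cz zJ := CfsgLib.Invol68.mem_Cz.mpr hc
    rcases k with _ | _ | k
    · rw [hk] at hy4; simp at hy4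
    · rw [hk] at hy4; simp at hy4
    refine CfsgLib.Invol68.part_one iJ iK k y hyK (hzK.2.2 _ (pow_mem hyK _) ?_) (by simpa using hyz)
    rw [orderOf_pow_of_dvd (pow_ne_zero _ two_ne_zero) (hk ▸ pow_dvd_pow 2 (by omega)), hk,
      Nat.pow_div (by omega) two_pos, show k + 1 + 1 - (k + 1) = 1 by omega, pow_one]
  · rw [iK.card_Im, iJ.card_Im]
    rcases htype with ⟨F, _, _, -, ⟨e1⟩, ⟨e2⟩⟩ | ⟨⟨c1, ⟨e1⟩, -⟩, ⟨c2, ⟨e2⟩, -⟩⟩
    · exact Nat.card_congr (e2.trans e1.symm).toEquiv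
    · rw [Subgroup.card_eq_card_quotient_mul_card_subgroup (Subgroup.center (↥K ⧸ Cfsg.oddCore ↥K)),
        Subgroup.card_eq_card_quotient_mul_card_subgroup (Subgroup.center (↥J ⧸ Cfsg.oddCore ↥J)),
        c1, c2, Nat.card_congr e1.toEquiv, Nat.card_congr e2.toEquiv]

end Cfsg.Agent.S1315
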