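import Cfsg.Statements.S1316
import Cfsg.Agent.Lib.Components.FStarSubnormal

set_option autoImplicit false
open Cfsg
open scoped commutatorElement Pointwise

namespace Cfsg.Agent.S1316

/-- For a finite group X, E(X) equals the intersection of the derived series of F*(X) (its last term). -/
theorem result {X : Type*} [Group X] [Finite X] : (⨅ n : ℕ, (derivedSeries ↥(Cfsg.generalizedFittingSubgroup X) n).map (Cfsg.generalizedFittingSubgroup X).subtype) = Cfsg.layer X := by
  set W := Cfsg.generalizedFittingSubgroup X with hW
  have hD : ∀ n, (derivedSeries ↥W (n + 1)).map W.subtype =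
      ⁅(derivedSeries ↥W n).map W.subtype, (derivedSeries ↥W n).map W.subtype⁆ := fun n => by
    rw [derivedSeries_succ, Subgroup.map_commutator]
  have hW0 : (derivedSeries ↥W 0).map W.subtype = W := by
    rw [derivedSeries_zero, ← MonoidHom.range_eq_map, Subgroup.range_subtype]
  refine le_antisymm ?_ (le_iInf fun n => ?_)
  · haveI := CfsgLib.Components.fitting_isSolvable (G := X)
    obtain ⟨n, hn⟩ := (Group.isSolvable_def ↥(Cfsg.fittingSubgroup X)).1 inferInstance
    refine (iInf_le _ n).trans ?_
    set q := QuotientGroup.mk' (Cfsg.layer X)
    set F := Cfsg.fittingSubgroup X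
    have hFD : ∀ k, ((derivedSeries ↥F (k + 1)).map F.subtype).map q =
        ⁅((derivedSeries ↥F k).map F.subtype).map q, ((derivedSeries ↥F k).map F.subtype).map q⁆ :=
      fun k => by rw [derivedSeries_succ, Subgroup.map_commutator, Subgroup.map_commutator]
    have key : ∀ k, ((derivedSeries ↥W k).map W.subtype).map q ≤
        ((derivedSeries ↥F k).map F.subtype).map q := by
      intro k
      induction k with
      | zero =>
        rw [hW0, derivedSeries_zero, ← MonoidHom.range_eq_map, Subgroup.range_subtype]
        refine le_of_eq_of_le (Subgroup.map_sup _ _ q) (sup_le ?_ le_rfl)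
        rw [(Subgroup.map_eq_bot_iff _).2 (QuotientGroup.ker_mk' (Cfsg.layer X)).ge]
        exact bot_le
      | succ k ih =>
        rw [hD, Subgroup.map_commutator, hFD]
        exact Subgroup.commutator_mono ih ih
    have h := key n
    rw [hn, Subgroup.map_bot, Subgroup.map_bot, le_bot_iff, Subgroup.map_eq_bot_iff,
      QuotientGroup.ker_mk'] at h
    exact h
  · induction n with
    | zero => rw [hW0]; exact le_sup_left
    | succ n ih =>
      rw [hD]
      exact CfsgLib.Components.commutator_layer_self.ge.trans (Subgroup.commutator_mono ih ih)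

end Cfsg.Agent.S1316
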