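import Cfsg.Statements.S1317
import Cfsg.Agent.Lib.Components.FStarSubnormal

set_option autoImplicit false
open Cfsg
open scoped commutatorElement Pointwise

namespace Cfsg.Agent.S1317

/-- For a finite group X, the centre of the layer E(X) is F(X) ∩ E(X). -/
theorem result {X : Type*} [Group X] [Finite X] : (Subgroup.center ↥(Cfsg.layer X)).map (Cfsg.layer X).subtype = Cfsg.fittingSubgroup X ⊓ Cfsg.layer X := by
  rw [CfsgLib.Components.map_center_subtype]
  refine le_antisymm (le_inf ?_ inf_le_left) ?_
  · exact CfsgLib.Components39.abelian_normal_le_fitting inferInstance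
      (inf_le_right.trans (Subgroup.centralizer_le (SetLike.coe_subset_coe.mpr inf_le_left)))
  · refine le_inf inf_le_right (inf_le_left.trans ?_)
    exact Subgroup.le_centralizer_iff.mp CfsgLib.Components.layer_le_centralizer_fitting

end Cfsg.Agent.S1317
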