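import Cfsg.Statements.S1319
import Cfsg.Agent.Lib.Components.FStarSubnormal

set_option autoImplicit false
open Cfsg
open scoped commutatorElement Pointwise

namespace Cfsg.Agent.S1319

/-- Let A be a subnormal subgroup of the finite group X with E(A) = A. Then A ≤ E(X) and A is normal in E(X). -/
theorem result {X : Type*} [Group X] [Finite X] (A : Subgroup X) (hsn : A.IsSubnormal) (hA : Cfsg.layer ↥A = ⊤) : A ≤ Cfsg.layer X ∧ (A.subgroupOf (Cfsg.layer X)).Normal := by
  set S : Set (Subgroup X) := (fun K : Subgroup ↥A => K.map A.subtype) '' {K | Cfsg.IsComponent K} with hS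
  have hAeq : A = sSup S := by
    have h : (Cfsg.layer ↥A).map A.subtype = A := by
      rw [hA, ← MonoidHom.range_eq_map, Subgroup.range_subtype]
    rw [hS, sSup_image, ← (Subgroup.gc_map_comap A.subtype).l_sSup]
    exact h.symm
  have hScomp : ∀ K ∈ S, Cfsg.IsComponent K := by
    rintro _ ⟨K, hK, rfl⟩
    exact CfsgLib.Components.isComponent_map_subtype hsn hK
  have hle : A ≤ Cfsg.layer X := by
    rw [hAeq]; exact sSup_le fun K hK => CfsgLib.Components.component_le_layer (hScomp K hK)
  refine ⟨hle, (Subgroup.normal_subgroupOf_iff_le_normalizer hle).mpr ?_⟩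
  rw [hAeq]
  refine CfsgLib.Structure.le_normalizer_sSup fun g hg K hK => ?_
  have h := CfsgLib.Components.layer_le_normalizer_component (hScomp K hK) hg
  rw [Subgroup.mem_normalizer_iff_map_conj_eq] at h
  exact (congrArg (· ∈ S) h).mpr hK

end Cfsg.Agent.S1319
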