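import Cfsg.Statements.S1322
import Cfsg.Agent.Lib.FTCons.ComponentTrichotomy
import Cfsg.Agent.Lib.PF.OddOrder

set_option autoImplicit false
open Cfsg

namespace Cfsg.Agent.S1322

/-- Let G be finite with L_{2'}(G) = E(G), t an involution and L ≤ C_G(t) a component of C_G(t). Then there is a component D of G with: L = D; or L < D and D = ⁅D, ⟨t⟩⁆; or tDt⁻¹ ≠ D and L is the layer of C_{D ⊔ tDt⁻¹}(t). -/
theorem result {G : Type*} [Group G] [Finite G] (hL2 : Cfsg.pLayer 2 G = Cfsg.layer G) (t : G) (ht : orderOf t = 2) (L : Subgroup G) (hLt : L ≤ Subgroup.centralizer ({t} : Set G)) (hL : Cfsg.IsComponent (L.subgroupOf (Subgroup.centralizer ({t} : Set G)))) : ∃ D : Subgroup G, Cfsg.IsComponent D ∧ (L = D ∨ (L < D ∧ D = ⁅D, Subgroup.zpowers t⁆) ∨ (D.map (MulAut.conj t).toMonoidHom ≠ D ∧ L = (Cfsg.layer ↥((D ⊔ D.map (MulAut.conj t).toMonoidHom) ⊓ Subgroup.centralizer ({t} : Set G))).map ((D ⊔ D.map (MulAut.conj t).toMonoidHom) ⊓ Subgroup.centralizer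 ({t} : Set G)).subtype)) := by
  exact CfsgLib.FTCons.component_trichotomy CfsgLib.PF.oddSolvable hL2 t ht L hLt hL

end Cfsg.Agent.S1322
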