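import Cfsg.Statements.S1323
import Cfsg.Agent.Lib.Components.Basic

set_option autoImplicit false
open Cfsg
open scoped commutatorElement Pointwise

namespace Cfsg.Agent.S1323
open Equiv Equiv.Perm

variable {α : Type*} [Fintype α] [DecidableEq α]

/-- The alternating group on a subset, as a subgroup of the alternating group. -/
def altOn (s : Finset α) : Subgroup ↥(alternatingGroup α) := (alternatingGroup.ofSubtype s).range

theorem mem_altOn {s : Finset α} {g : ↥(alternatingGroup α)} :
    g ∈ altOn s ↔ ∀ a ∉ s, (g : Perm α) a = a := by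
  rw [altOn, alternatingGroup.mem_range_ofSubtype_iff]
  exact ⟨fun h a ha => notMem_support.mp fun h' => ha (h h'),
    fun h a ha => by_contra fun h' => mem_support.mp ha (h a h')⟩

theorem exists_threeCycle {s : Finset α} {a b c : α} (ha : a ∈ s) (hb : b ∈ s) (hc : c ∈ s)
    (hab : a ≠ b) (hac : a ≠ c) (hbc : b ≠ c) :
    ∃ x ∈ altOn s, (x : Perm α) a = b ∧ (x : Perm α).support ⊆ {a, b, c} := by
  have h3 : IsThreeCycle (swap a b * swap b c) := by
    rw [swap_comm a b]
    exact isThreeCycle_swap_mul_swap_same hab.symm hbc hac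
  have hsupp : (swap a b * swap b c).support ⊆ ({a, b, c} : Finset α) := by
    intro x hx
    by_contra h
    simp only [Finset.mem_insert, Finset.mem_singleton, not_or] at h
    apply mem_support.mp hx
    rw [Perm.mul_apply, swap_apply_of_ne_of_ne h.2.1 h.2.2, swap_apply_of_ne_of_ne h.1 h.2.1]
  refine ⟨⟨_, h3.mem_alternatingGroup⟩, mem_altOn.mpr fun x hx => notMem_support.mp fun h => ?_, ?_, hsupp⟩
  · have h' := hsupp h
    simp only [Finset.mem_insert, Finset.mem_singleton] at h'
    rcases h' with rfl | rfl | rfl <;> contradiction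
  · show (swap a b * swap b c) a = b
    rw [Perm.mul_apply, swap_apply_of_ne_of_ne hab hac, swap_apply_left]

theorem subset_of_altOn_le {s t : Finset α} (hs : 3 ≤ s.card) (h : altOn s ≤ altOn t) : s ⊆ t := by
  intro a ha
  by_contra hat
  obtain ⟨b, hb, c, hc, hbc⟩ := Finset.one_lt_card.mp
    (show 1 < (s.erase a).card by rw [Finset.card_erase_of_mem ha]; omega)
  rw [Finset.mem_erase] at hb hc
  obtain ⟨x, hx, hxa, -⟩ := exists_threeCycle ha hb.2 hc.2 (Ne.symm hb.1) (Ne.symm hc.1) hbc
  exact hb.1 (by rw [← hxa]; exact mem_altOn.mp (h hx) a hat)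

theorem eq_of_altOn_eq {s t : Finset α} (hs : 3 ≤ s.card) (ht : 3 ≤ t.card)
    (h : altOn s = altOn t) : s = t :=
  (subset_of_altOn_le hs h.le).antisymm (subset_of_altOn_le ht h.ge)

theorem map_conj_altOn (g : ↥(alternatingGroup α)) (s : Finset α) :
    (altOn s).map (MulAut.conj g).toMonoidHom = altOn (g • s) :=
  alternatingGroup.conj_smul_range_ofSubtype s g

theorem mem_normalizer_altOn {g : ↥(alternatingGroup α)} {s : Finset α} (hs : 3 ≤ s.card) :
    g ∈ Subgroup.normalizer (altOn s : Set ↥(alternatingGroup α)) ↔ g • s = s := by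
  rw [Subgroup.mem_normalizer_iff_map_conj_eq]
  show (altOn s).map (MulAut.conj g).toMonoidHom = altOn s ↔ _
  rw [map_conj_altOn]
  exact ⟨eq_of_altOn_eq (by rwa [Finset.card_smul_finset]) hs, fun h => by rw [h]⟩

theorem centralizer_altOn {s : Finset α} (hs : 5 ≤ s.card) :
    Subgroup.centralizer (altOn s : Set ↥(alternatingGroup α)) = altOn sᶜ := by
  ext g
  rw [Subgroup.mem_centralizer_iff, mem_altOn]
  simp only [Finset.mem_compl, not_not, SetLike.mem_coe]
  constructor
  · intro hg a ha
    -- for every three-cycle on `a, b, c` in `s`, `g a` is one of `a, b, c`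
    have key : ∀ b ∈ s, ∀ c ∈ s, a ≠ b → a ≠ c → b ≠ c → (g : Perm α) a ∈ ({a, b, c} : Finset α) := by
      intro b hb c hc hab hac hbc
      obtain ⟨x, hx, hxa, hxs⟩ := exists_threeCycle ha hb hc hab hac hbc
      refine hxs (mem_support.mpr fun h => hab ?_)
      have h' : (x : Perm α) ((g : Perm α) a) = (g : Perm α) ((x : Perm α) a) := by
        have h2 := congrArg (fun y : ↥(alternatingGroup α) => (y : Perm α) a) (hg x hx)
        simpa using h2
      rw [h, hxa] at h'
      exact (g : Perm α).injective h'
    have hcard : 4 ≤ (s.erase a).card := by rw [Finset.card_erase_of_mem ha]; omega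
    obtain ⟨q, hq, hq4⟩ := Finset.exists_subset_card_eq hcard
    have hq' : ∀ x ∈ q, x ∈ s ∧ a ≠ x := fun x hx =>
      ⟨(Finset.mem_erase.mp (hq hx)).2, Ne.symm (Finset.mem_erase.mp (hq hx)).1⟩
    obtain ⟨b, c, d, e, hbc, hbd, hbe, hcd, hce, hde, rfl⟩ := Finset.card_eq_four.mp hq4
    have h1 := key b (hq' b (by simp)).1 c (hq' c (by simp)).1 (hq' b (by simp)).2 (hq' c (by simp)).2 hbc
    have h2 := key d (hq' d (by simp)).1 e (hq' e (by simp)).1 (hq' d (by simp)).2 (hq' e (by simp)).2 hde
    simp only [Finset.mem_insert, Finset.mem_singleton] at h1 h2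
    rcases h1 with h1 | h1 | h1 <;> rcases h2 with h2 | h2 | h2 <;>
      first
        | exact h1
        | exact h2
        | exact absurd (h1.symm.trans h2) (by assumption)
  · intro hg x hx
    refine Subtype.ext (Perm.Disjoint.commute ?_)
    intro a
    by_cases ha : a ∈ s
    · exact Or.inr (hg a ha)
    · exact Or.inl (mem_altOn.mp hx a ha)

theorem pow_three_eq_one_of_support {x : Perm α} (hx : x ∈ alternatingGroup α)
    (h : x.support.card ≤ 3) : x ^ 3 = 1 := by
  interval_cases hc : x.support.card
  · rw [Finset.card_eq_zero, support_eq_empty_iff] at hc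
    rw [hc, one_pow]
  · exact absurd hc (card_support_ne_one _)
  · have := (card_support_eq_two.mp hc).sign_eq
    rw [mem_alternatingGroup.mp hx] at this
    exact absurd this (by decide)
  · rw [← (card_support_eq_three_iff.mp hc).orderOf]
    exact pow_orderOf_eq_one x

/-- For n ≥ 9, the subgroup of the alternating group on Fin n fixing each of the points 0, 1, 2, 3 is a standard subgroup. -/
theorem result (n : ℕ) (h4 : 4 ≤ n) (hn : 9 ≤ n) : Cfsg.IsStandardSubgroup (⨅ i : Fin 4, MulAction.stabilizer ↥(alternatingGroup (Fin n)) (Fin.castLE h4 i : Fin n)) := by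
  set S : Finset (Fin n) := Finset.univ.map ⟨Fin.castLE h4, Fin.castLE_injective h4⟩ with hS
  have hScard : S.card = 4 := by simp [hS]
  have hTcard : Sᶜ.card = n - 4 := by rw [Finset.card_compl, hScard, Fintype.card_fin]
  have hH : (⨅ i : Fin 4, MulAction.stabilizer ↥(alternatingGroup (Fin n)) (Fin.castLE h4 i : Fin n))
      = altOn Sᶜ := by
    ext g
    simp only [Subgroup.mem_iInf, MulAction.mem_stabilizer_iff, mem_altOn, Finset.mem_compl, not_not]
    constructor
    · intro h a ha
      obtain ⟨i, -, rfl⟩ := Finset.mem_map.mp ha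
      exact h i
    · intro h i
      exact h _ (Finset.mem_map.mpr ⟨i, Finset.mem_univ i, rfl⟩)
  rw [hH]
  have hC : Subgroup.centralizer (altOn Sᶜ : Set ↥(alternatingGroup (Fin n))) = altOn S := by
    rw [centralizer_altOn (by omega), compl_compl]
  refine ⟨?_, ?_, ?_, ?_⟩
  · -- quasisimple
    haveI hs : IsSimpleGroup ↥(alternatingGroup ↥Sᶜ) :=
      alternatingGroup.isSimpleGroup (by rw [Nat.card_eq_fintype_card, Fintype.card_coe]; omega)
    have hq : Cfsg.IsQuasisimple ↥(alternatingGroup ↥Sᶜ) := by
      haveI := IsSimpleGroup.toNontrivial (G := ↥(alternatingGroup ↥Sᶜ))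
      refine CfsgLib.Components.isQuasisimple_of_normal ?_ fun N hN hne => ?_
      · refine ((Subgroup.commutator_normal ⊤ ⊤).eq_bot_or_eq_top).resolve_left fun h => ?_
        have h' := alternatingGroup.isMulCommutative_iff_card_le_three (α := ↥Sᶜ)
        have : IsMulCommutative ↥(alternatingGroup ↥Sᶜ) := ⟨⟨fun a b =>
          commutatorElement_eq_one_iff_mul_comm.mp ((Subgroup.eq_bot_iff_forall _).mp h _
            (Subgroup.commutator_mem_commutator (Subgroup.mem_top a) (Subgroup.mem_top b)))⟩⟩
        have := h'.mp this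
        rw [Nat.card_eq_fintype_card, Fintype.card_coe] at this
        omega
      · rw [hN.eq_bot_or_eq_top.resolve_right hne]
        exact bot_le
    exact CfsgLib.Components.isQuasisimple_of_mulEquiv hq
      (MonoidHom.ofInjective alternatingGroup.ofSubtype_injective)
  · -- tightly embedded
    rw [hC]
    refine ⟨?_, fun g hg => ?_⟩
    · have : Nontrivial ↥(alternatingGroup ↥S) := alternatingGroup.nontrivial_of_three_le_card
        (by rw [Nat.card_eq_fintype_card, Fintype.card_coe]; omega)
      have : Nontrivial ↥S := Fintype.one_lt_card_iff_nontrivial.mp (by rw [Fintype.card_coe, hScard]; norm_num)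
      have h := alternatingGroup.ofSubtype_injective (s := S)
      rw [altOn, ← Nat.card_congr (MonoidHom.ofInjective h).toEquiv, nat_card_alternatingGroup,
        Nat.card_eq_fintype_card, Fintype.card_coe, hScard]
      decide
    · rw [mem_normalizer_altOn (by omega)] at hg
      rw [map_conj_altOn]
      rw [Nat.odd_iff, ← Nat.not_even_iff, even_iff_two_dvd]
      intro h2
      obtain ⟨x, hx⟩ := exists_prime_orderOf_dvd_card' 2 h2
      have hsupp : ((x : ↥(alternatingGroup (Fin n))) : Equiv.Perm (Fin n)).support ⊆ S ∩ (g • S) := by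
        intro a ha
        by_contra h
        rw [Finset.mem_inter, not_and_or] at h
        obtain h | h := h
        · exact Equiv.Perm.mem_support.mp ha (mem_altOn.mp (Subgroup.mem_inf.mp x.2).1 a h)
        · exact Equiv.Perm.mem_support.mp ha (mem_altOn.mp (Subgroup.mem_inf.mp x.2).2 a h)
      have hlt : (S ∩ (g • S)).card < S.card := Finset.card_lt_card
        ⟨Finset.inter_subset_left, fun h => hg (Finset.eq_of_subset_of_card_le
          (h.trans Finset.inter_subset_right) (by rw [Finset.card_smul_finset])).symm⟩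
      have h3 := pow_three_eq_one_of_support (x : ↥(alternatingGroup (Fin n))).2
        (by have := Finset.card_le_card hsupp; omega)
      have h3' : x ^ 3 = 1 := by
        refine Subtype.ext (Subtype.ext ?_)
        simpa using h3
      have := orderOf_dvd_of_pow_eq_one h3'
      rw [hx] at this
      omega
  · -- no conjugate commutes
    intro g _ hbot
    rw [map_conj_altOn] at hbot
    have hle : altOn (g • Sᶜ) ≤ altOn S := by
      rw [← hC]
      intro x hx
      rw [Subgroup.mem_centralizer_iff]
      intro y hy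
      exact commutatorElement_eq_one_iff_mul_comm.mp ((Subgroup.eq_bot_iff_forall _).mp hbot _
        (Subgroup.commutator_mem_commutator hy hx))
    have := Finset.card_le_card (subset_of_altOn_le (by rw [Finset.card_smul_finset]; omega) hle)
    rw [Finset.card_smul_finset] at this
    omega
  · rw [hC]
    ext g
    rw [mem_normalizer_altOn (by omega), mem_normalizer_altOn (by omega), Finset.compl_eq_univ_sdiff, Finset.smul_finset_sdiff, Finset.smul_finset_univ, ← Finset.compl_eq_univ_sdiff,
      ← Finset.compl_eq_univ_sdiff, compl_inj_iff]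

end Cfsg.Agent.S1323
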