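import Cfsg.Statements.S1326
import Cfsg.Agent.Lib.Components.FStarSubnormal

set_option autoImplicit false
open Cfsg
open scoped commutatorElement Pointwise

namespace Cfsg.Agent.S1326

/-- For a finite group X: the Fitting subgroup contains its centralizer if and only if the layer of X is trivial. -/
theorem result {X : Type*} [Group X] [Finite X] : Subgroup.centralizer (Cfsg.fittingSubgroup X : Set X) ≤ Cfsg.fittingSubgroup X ↔ Cfsg.layer X = ⊥ := by
  constructor
  · intro h
    rw [eq_bot_iff]
    refine sSup_le fun K hK => ?_
    exfalso
    haveI := CfsgLib.Components.fitting_isSolvable (G := X)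
    have hle : K ≤ Cfsg.fittingSubgroup X :=
      ((CfsgLib.Components.component_le_layer hK).trans
        CfsgLib.Components.layer_le_centralizer_fitting).trans h
    exact CfsgLib.Components.component_not_isSolvable hK
      (Group.isSolvable_of_isSolvable_injective (Subgroup.inclusion_injective hle))
  · intro h
    have h' := CfsgLib.Components.centralizer_generalizedFitting_le_fitting (G := X)
    rwa [Cfsg.generalizedFittingSubgroup, h, bot_sup_eq] at h'

end Cfsg.Agent.S1326
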