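import Cfsg.Statements.S1328
import Cfsg.Agent.Lib.Components.InvolutionFixedCore

set_option autoImplicit false
open Cfsg
open scoped commutatorElement Pointwise

namespace Cfsg.Agent.S1328

/-- Let G be finite, H ≤ G with O(H) = 1, t an involution of G normalizing H, and Y a nontrivial subgroup of O(C_H(t)). Then some component E of H is normalized by t and by Y and centralized by neither t nor Y. -/
theorem result {G : Type*} [Group G] [Finite G] (H : Subgroup G) (hO : Cfsg.oddCore ↥H = ⊥) (t : G) (ht : orderOf t = 2) (htH : t ∈ Subgroup.normalizer (H : Set G)) (Y : Subgroup G) (hY1 : Y ≠ ⊥) (hY : Y ≤ (Cfsg.oddCore ↥(H ⊓ Subgroup.centralizer ({t} : Set G))).map (H ⊓ Subgroup.centralizer ({t} : Set G)).subtype) : ∃ E : Subgroup ↥H, Cfsg.IsComponent E ∧ (E.map H.subtype).map (MulAut.conj t).toMonoidHom = E.map H.subtype ∧ Y ≤ Subgroup.normalizer ((E.map H.subtype : Subgroup G) : Set G) ∧ ¬ (t ∈ Subgroup.centralizer ((E.map H.subtype : Subgroup G) :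 Set G)) ∧ ¬ (Y ≤ Subgroup.centralizer ((E.map H.subtype : Subgroup G) : Set G)) := by
  haveI : Fact (Nat.Prime 2) := ⟨Nat.prime_two⟩
  set D₀ := H ⊓ Subgroup.centralizer ({t} : Set G) with hD₀
  set N₀ := (Cfsg.oddCore ↥D₀).map D₀.subtype with hN₀
  have htt : t * t = 1 := by rw [← pow_two, ← ht]; exact pow_orderOf_eq_one t
  have htinv : t⁻¹ = t := inv_eq_of_mul_eq_one_left htt
  have hconjH : ∀ x : ↥H, t * (x : G) * t⁻¹ ∈ H := fun x => (Subgroup.mem_normalizer_iff.mp htH x).mp x.2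
  let τ : ↥H ≃* ↥H :=
    { toFun := fun x => ⟨t * (x : G) * t⁻¹, hconjH x⟩
      invFun := fun x => ⟨t * (x : G) * t⁻¹, hconjH x⟩
      left_inv := fun x => Subtype.ext (by
        show t * (t * (x : G) * t⁻¹) * t⁻¹ = x
        rw [htinv, ← mul_assoc, ← mul_assoc, htt, one_mul, mul_assoc, htt, mul_one])
      right_inv := fun x => Subtype.ext (by
        show t * (t * (x : G) * t⁻¹) * t⁻¹ = x
        rw [htinv, ← mul_assoc, ← mul_assoc, htt, one_mul, mul_assoc, htt, mul_one])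
      map_mul' := fun x y => Subtype.ext (by
        show t * ((x : G) * y) * t⁻¹ = t * x * t⁻¹ * (t * y * t⁻¹)
        group) }
  have hτv : ∀ x : ↥H, ((τ x : ↥H) : G) = t * (x : G) * t⁻¹ := fun x => rfl
  have hτ : ∀ x, τ (τ x) = x := fun x => τ.left_inv x
  set D := D₀.subgroupOf H with hDdef
  set N := N₀.subgroupOf H with hNdef
  have hD : ∀ x, x ∈ D ↔ τ x = x := by
    intro x
    rw [Subgroup.mem_subgroupOf, Subgroup.mem_inf, and_iff_right x.2, Subgroup.mem_centralizer_singleton_iff,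
      Subtype.ext_iff, hτv, mul_inv_eq_iff_eq_mul, eq_comm]
  have hN0 : N₀ ≤ D₀ := Subgroup.map_subtype_le _
  have hND : N ≤ D := fun x hx => hN0 hx
  have hDN0 : ∀ d ∈ D₀, ∀ x ∈ N₀, d * x * d⁻¹ ∈ N₀ := by
    rintro d hd _ ⟨x, hx, rfl⟩
    exact ⟨_, Subgroup.Normal.conj_mem inferInstance x hx ⟨d, hd⟩, rfl⟩
  have hDN : D ≤ Subgroup.normalizer (N : Set ↥H) := fun d hd =>
    Subgroup.mem_normalizer_fintype (S := (N : Set ↥H)) fun x hx => hDN0 d hd x hx
  have hN0c : (Nat.card ↥N₀).Coprime 2 := by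
    rw [hN₀, Subgroup.card_subtype]
    exact CfsgLib.PCore.pPrimeCore_coprime
  have hNc : (Nat.card ↥N).Coprime 2 := by
    rw [hNdef, Nat.card_congr (Subgroup.subgroupOfEquivOfLe (hN0.trans inf_le_left)).toEquiv]
    exact hN0c
  have hY' : Y ≤ N₀ := hY
  set Q := Cfsg.pCore 2 ↥H with hQ
  -- the odd core of the fixed points centralizes `O_2(H)`
  have hQc : ∀ y ∈ N, ∀ r ∈ Q, y * r = r * y := by
    intro y hy r hr
    set R := Q.map H.subtype
    have hRn : ∀ g ∈ Subgroup.normalizer (H : Set G), g ∈ Subgroup.normalizer (R : Set G) := by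
      intro g hg
      refine Subgroup.mem_normalizer_fintype (S := (R : Set G)) ?_
      rintro _ ⟨x, hx, rfl⟩
      let e : MulAut ↥H := MulAut.conjNormal (H := H.subgroupOf (Subgroup.normalizer (H : Set G))) ⟨g, hg⟩ |>
        (Subgroup.subgroupOfEquivOfLe Subgroup.le_normalizer).symm.trans |>.trans
          (Subgroup.subgroupOfEquivOfLe Subgroup.le_normalizer)
      exact ⟨e x, (CfsgLib.PCore.map_pCore_equiv (p := 2) e).le ⟨x, hx, rfl⟩, rfl⟩
    have hc := CfsgLib.Components.mem_centralizer_of_AxB (p := 2) (R := R) (P := Subgroup.zpowers t)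
      (CfsgLib.PCore.pCore_isPGroup.map _)
      (IsPGroup.of_card (n := 1) (by rw [Nat.card_zpowers, ht, pow_one]))
      (Subgroup.zpowers_le.mpr (hRn t htH)) (x := (y : G)) (hRn _ (Subgroup.le_normalizer y.2))
      (by
        rw [← Subgroup.zpowers_le, Subgroup.le_centralizer_iff, Subgroup.zpowers_le,
          Subgroup.mem_centralizer_iff]
        rintro _ ⟨k, rfl⟩
        have h1 : Commute t (y : G) := (Subgroup.mem_centralizer_singleton_iff.mp (hND hy).2).symm
        exact (h1.symm.zpow_left k).eq)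
      (hN0c.coprime_dvd_left (N₀.orderOf_dvd_natCard hy))
      (by
        rintro _ ⟨r, hr, rfl⟩ hrt
        have hrD : r ∈ D := ⟨r.2, Subgroup.mem_centralizer_singleton_iff.mpr
          (Subgroup.mem_centralizer_iff.mp hrt t (Subgroup.mem_zpowers t)).symm⟩
        have h1 : y * r * y⁻¹ * r⁻¹ ∈ N := by
          have h := (Subgroup.mem_normalizer_iff.mp (hDN hrD) y⁻¹).mp (inv_mem hy)
          have := mul_mem hy h
          simpa [mul_assoc] using this
        have h2 : y * r * y⁻¹ * r⁻¹ ∈ Q := mul_mem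
          ((inferInstance : Q.Normal).conj_mem r hr y) (inv_mem hr)
        obtain ⟨n, hn⟩ := CfsgLib.PCore.pCore_isPGroup (p := 2) (G := ↥H) ⟨_, h2⟩
        have h3 := CfsgLib.Components39.eq_one_of_pow_two_pow hNc h1 (n := n) (congrArg Subtype.val hn)
        rw [mul_inv_eq_one, mul_inv_eq_iff_eq_mul] at h3
        exact congrArg Subtype.val h3)
    have h4 := Subgroup.mem_centralizer_iff.mp hc (r : G) ⟨r, hr, rfl⟩
    exact Subtype.ext h4.symm
  have hu : ∀ E : Subgroup ↥H, Cfsg.IsComponent E → (∀ x ∈ E, τ x ∈ E) →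
      ∃ u ∈ E, τ u ∈ E ∧ (∃ n : ℕ, u ^ 2 ^ n = 1) ∧ u⁻¹ * τ u ∈ Q ∧ ∃ e ∈ E, u * e ≠ e * u := by
    intro E hE hEτ
    obtain ⟨u, huE, h1, h2, h3⟩ := CfsgLib.Components39.exists_two_element_fixed_mod_pCore hO τ hτ hE hEτ
    exact ⟨u, huE, hEτ u huE, h1, h2, h3⟩
  have hu' : ∀ E : Subgroup ↥H, Cfsg.IsComponent E →
      ∃ u ∈ E, (∃ n : ℕ, u ^ 2 ^ n = 1) ∧ ∃ e ∈ E, u * e ≠ e * u := by
    intro E hE
    obtain ⟨u, huE, h1, -, h3⟩ := CfsgLib.Components39.exists_two_element_fixed_mod_pCore hO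
      (MulEquiv.refl _) (fun _ => rfl) hE (fun _ hx => hx)
    exact ⟨u, huE, h1, h3⟩
  -- some component is not centralized by `Y`
  obtain ⟨E, hE, y₀, hy₀, e₀, he₀, hne₀⟩ : ∃ E : Subgroup ↥H, Cfsg.IsComponent E ∧
      ∃ y : ↥H, (y : G) ∈ Y ∧ ∃ e ∈ E, y * e ≠ e * y := by
    by_contra hall
    push Not at hall
    apply hY1
    rw [Subgroup.eq_bot_iff_forall]
    intro g hg
    set y : ↥H := ⟨g, (hN0 (hY' hg)).1⟩
    have hyc : y ∈ Subgroup.centralizer (Cfsg.generalizedFittingSubgroup ↥H : Set ↥H) := by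
      rw [← Subgroup.zpowers_le, Subgroup.le_centralizer_iff]
      refine sup_le (sSup_le fun E hE e he => ?_) ?_
      · rw [Subgroup.mem_centralizer_iff]
        rintro _ ⟨k, rfl⟩
        exact (Commute.zpow_left (hall E hE y hg e he) k).eq
      · rw [CfsgLib.Components.fitting_eq_pCore_of_pPrimeCore_eq_bot (p := 2) hO]
        intro r hr
        rw [Subgroup.mem_centralizer_iff]
        rintro _ ⟨k, rfl⟩
        exact (Commute.zpow_left (hQc y (hY' hg) r hr) k).eq
    have hyQ := CfsgLib.Components.centralizer_generalizedFitting_le_fitting hyc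
    rw [CfsgLib.Components.fitting_eq_pCore_of_pPrimeCore_eq_bot (p := 2) hO] at hyQ
    obtain ⟨n, hn⟩ := CfsgLib.PCore.pCore_isPGroup (p := 2) (G := ↥H) ⟨y, hyQ⟩
    exact congrArg Subtype.val (CfsgLib.Components39.eq_one_of_pow_two_pow hNc (show y ∈ N from hY' hg)
      (n := n) (congrArg Subtype.val hn))
  have hEτ : E.map τ.toMonoidHom = E := by
    by_contra h
    exact hne₀ (CfsgLib.Components39.commute_of_component_moved τ hτ hD hND hDN hNc hE h (hu' E hE)
      (show y₀ ∈ N from hY' hy₀) e₀ he₀)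
  have hEτ' : ∀ x ∈ E, τ x ∈ E := fun x hx => hEτ.le ⟨x, hx, rfl⟩
  obtain ⟨u, huE, hτu, hun, huQ, huc⟩ := hu E hE hEτ'
  refine ⟨E, hE, ?_, ?_, ?_, ?_⟩
  · conv_rhs => rw [← hEτ]
    rw [Subgroup.map_map, Subgroup.map_map]
    rfl
  · intro g hg
    have hmem := CfsgLib.Components39.mem_normalizer_of_component_invariant τ hD hND hDN hNc
      (y := ⟨g, (hN0 (hY' hg)).1⟩) (hY' hg) hE ⟨u, huE, hτu, hun, hQc _ (hY' hg) _ huQ, huc⟩
    refine Subgroup.mem_normalizer_fintype (S := ((E.map H.subtype : Subgroup G) : Set G)) ?_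
    rintro _ ⟨x, hx, rfl⟩
    exact ⟨_, (Subgroup.mem_normalizer_iff.mp hmem x).mp hx, rfl⟩
  · intro hc
    have hED : E ≤ D := fun x hx => ⟨x.2, Subgroup.mem_centralizer_singleton_iff.mpr
      (Subgroup.mem_centralizer_iff.mp hc x ⟨x, hx, rfl⟩)⟩
    haveI : (N.subgroupOf D).Normal := (Subgroup.normal_subgroupOf_iff_le_normalizer hND).mpr hDN
    obtain h | h := CfsgLib.Components.le_or_commutator_eq_bot
      (CfsgLib.Components.isComponent_subgroupOf hE hED)
      (Subgroup.Normal.isSubnormal (inferInstance : (N.subgroupOf D).Normal))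
    · obtain ⟨n, hn⟩ := hun
      obtain ⟨e, he, hue⟩ := huc
      have := CfsgLib.Components39.eq_one_of_pow_two_pow hNc
        (CfsgLib.Components.le_of_subgroupOf_le hED h huE) (n := n) hn
      exact hue (by rw [this, one_mul, mul_one])
    · exact hne₀ ((commutatorElement_eq_one_iff_mul_comm.mp ((Subgroup.eq_bot_iff_forall _).mp
        ((CfsgLib.Components.commutator_subgroupOf_eq_bot_iff hED hND).mp h) _
        (Subgroup.commutator_mem_commutator he₀ (show y₀ ∈ N from hY' hy₀)))).symm)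
  · intro hc
    exact hne₀ (Subtype.ext (Subgroup.mem_centralizer_iff.mp (hc hy₀) e₀ ⟨e₀, he₀, rfl⟩).symm)

end Cfsg.Agent.S1328
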