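import Cfsg.Statements.S1331
import Cfsg.Agent.Lib.Coprime.HyperplaneGeneration

set_option autoImplicit false
open Cfsg
open scoped commutatorElement Pointwise

namespace Cfsg.Agent.S1331

/-- Let θ be a solvable A-signalizer functor on the finite group G for the prime p, A elementary abelian of rank at least 3, X a member of the family of θ, and B ≤ A with |B| ≥ p². Then X is generated by the subgroups X ∩ ⋂_{d ∈ D, d ≠ 1} θ d, D ranging over the subgroups of index p in B. -/
theorem result {G : Type*} [Group G] [Finite G] (p : ℕ) [Fact p.Prime] (A : Subgroup G) (hA : Cfsg.IsElementaryAbelian p A) (hA3 : p ^ 3 ≤ Nat.card ↥A) (θ : G → Subgroup G) (hθ : Cfsg.IsSolvableSignalizerFunctor p A θ) (X : Subgroup G) (hX : X ∈ Cfsg.signalizerFamily p A θ) (B : Subgroup G) (hB : B ≤ A) (hB2 : p ^ 2 ≤ Nat.card ↥B) : X = ⨆ D : {D : Subgroup G // D ≤ B ∧ D.relIndex B = p}, X ⊓ Cfsg.signalizerInf (D : Subgroup G) θ := by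
  have hp := (Fact.out : p.Prime)
  obtain ⟨-, hXp, hXA, hXθ⟩ := hX
  have hBel : Cfsg.IsElementaryAbelian p B := by
    haveI := hA.1
    exact ⟨⟨⟨fun a b => Subtype.ext (setLike_mul_comm (hB a.2) (hB b.2))⟩⟩, fun a ha => hA.2 a (hB ha)⟩
  have hB1 : B ≠ ⊥ := by
    rintro rfl
    rw [Subgroup.card_bot] at hB2
    have := hp.two_le
    nlinarith [hB2]
  refine le_antisymm ?_ (iSup_le fun D => inf_le_left)
  refine (CfsgLib.Coprime39.eq_hyperCent hBel hB1 ((hp.coprime_iff_not_dvd.mpr hXp).symm)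
    (Subgroup.le_normalizer_iff.mpr fun b hb => hXA b (hB hb))).ge.trans ?_
  refine iSup_mono fun D => le_inf inf_le_left (le_iInf fun a => ?_)
  refine le_trans (inf_le_inf_left _ ?_) (hXθ a.1 (hB (D.2.1 a.2.1)) a.2.2)
  exact Subgroup.centralizer_le (Set.singleton_subset_iff.mpr a.2.1)

end Cfsg.Agent.S1331
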