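import Cfsg.Statements.S1335

set_option autoImplicit false
open Cfsg

namespace Cfsg.Agent.S1335

/-- Let H be a subgroup of the finite group G, p a prime, k ≥ 1, P a Sylow p-subgroup of H of p-rank at least k, and suppose N_G(X) ≤ H for every subgroup X ≤ P of p-rank at least k. Then P is a Sylow p-subgroup of G. -/
theorem result {G : Type*} [Group G] [Finite G] {p : ℕ} [Fact p.Prime] (k : ℕ) (hk : 1 ≤ k) (H : Subgroup G) (P : Sylow p ↥H) (hP : ¬ Cfsg.PRankLE p (k - 1) ↥(P : Subgroup ↥H)) (hΓ : (∀ X : Subgroup G, X ≤ (P : Subgroup ↥H).map H.subtype → ¬ Cfsg.PRankLE p (k - 1) ↥X → Subgroup.normalizer (X : Set G) ≤ H)) : ∃ Q : Sylow p G, (Q : Subgroup G) = (P : Subgroup ↥H).map H.subtype := by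
  set Q : Subgroup G := (P : Subgroup ↥H).map H.subtype with hQ
  have hnP : Subgroup.normalizer (Q : Set G) ≤ H := by
    refine hΓ _ le_rfl ?_
    intro hle
    apply hP
    intro A hA1 hA2
    let e := (P : Subgroup ↥H).equivMapOfInjective H.subtype (Subgroup.subtype_injective H)
    have hh := hle (A.map e.toMonoidHom) inferInstance ?_
    · rwa [Subgroup.card_map_of_injective e.injective] at hh
    · rintro a ⟨b, hb, rfl⟩
      rw [← map_pow, hA2 b hb, map_one]
  have hQp : IsPGroup p ↥Q := P.isPGroup'.map _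
  obtain ⟨S, hS⟩ := hQp.exists_le_sylow
  refine ⟨S, ?_⟩
  by_contra hne
  haveI : Group.IsNilpotent ↥(S : Subgroup G) := S.isPGroup'.isNilpotent
  have hlt' : Q.subgroupOf (S : Subgroup G) < ⊤ := by
    rw [lt_top_iff_ne_top, Ne, Subgroup.subgroupOf_eq_top]
    exact fun h => hne (le_antisymm h hS)
  have hnc := Group.normalizerCondition_of_isNilpotent (G := ↥(S : Subgroup G)) _ hlt'
  obtain ⟨y, hy, hyQ⟩ := SetLike.exists_of_lt hnc
  have hyN : (y : G) ∈ Subgroup.normalizer (Q : Set G) := by
    rw [Subgroup.mem_normalizer_iff] at hy ⊢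
    intro g
    constructor
    · intro hg
      have hh := (hy ⟨g, hS hg⟩).1 (by simpa [Subgroup.mem_subgroupOf] using hg)
      simpa [Subgroup.mem_subgroupOf] using hh
    · intro hg
      have hgS : g ∈ (S : Subgroup G) := by
        have h1 := Subgroup.mul_mem _ (Subgroup.mul_mem _ (Subgroup.inv_mem _ y.2) (hS hg)) y.2
        simpa [mul_assoc] using h1
      have hh := (hy ⟨g, hgS⟩).2 (by simpa [Subgroup.mem_subgroupOf] using hg)
      simpa [Subgroup.mem_subgroupOf] using hh
  have hyH : (y : G) ∈ H := hnP hyN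
  have hPle : (P : Subgroup ↥H) ≤ (S : Subgroup G).comap H.subtype := by
    intro z hz
    exact hS (Subgroup.mem_map_of_mem _ hz)
  have hSp : IsPGroup p ↥((S : Subgroup G).comap H.subtype) :=
    S.isPGroup'.comap_of_injective _ (Subgroup.subtype_injective H)
  have heq := P.is_maximal' hSp hPle
  apply hyQ
  have hmem : (⟨(y : G), hyH⟩ : ↥H) ∈ (P : Subgroup ↥H) := by
    rw [← heq]
    exact y.2
  rw [Subgroup.mem_subgroupOf]
  exact Subgroup.mem_map_of_mem H.subtype hmem

end Cfsg.Agent.S1335
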