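import Cfsg.Statements.S1336
import Cfsg.Agent.Lib.OddOrder.Rank
import Cfsg.Agent.Lib.Coprime.Basic

set_option autoImplicit false
open Cfsg
open scoped commutatorElement Pointwise

namespace Cfsg.Agent.S1336

/-- Let G be finite and p prime. Then G has a proper subgroup H with p ∣ |H| and p ∤ |H ∩ gHg⁻¹| for every g ∉ H (a strongly p-embedded subgroup) if and only if G is not 1-connected for p. -/
theorem result {G : Type*} [Group G] [Finite G] (p : ℕ) [Fact p.Prime] : (∃ H : Subgroup G, H ≠ ⊤ ∧ p ∣ Nat.card ↥H ∧ ∀ g : G, g ∉ H → ¬ p ∣ Nat.card ↥(H ⊓ H.map (MulAut.conj g).toMonoidHom)) ↔ ¬ Cfsg.IsKConnected p 1 G := by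
  classical
  have hp := (Fact.out : p.Prime)
  let R : Subgroup G → Subgroup G → Prop := fun A B =>
    Cfsg.IsElementaryAbelian p A ∧ p ^ 1 ≤ Nat.card ↥A ∧ Cfsg.IsElementaryAbelian p B ∧
      p ^ 1 ≤ Nat.card ↥B ∧ ∀ a ∈ A, ∀ b ∈ B, a * b = b * a
  let C : Subgroup G → Subgroup G → Prop := Relation.ReflTransGen R
  have hsymm : ∀ A B : Subgroup G, C A B → C B A := by
    intro A B h
    induction h with
    | refl => exact Relation.ReflTransGen.refl
    | tail _ h ih =>
      exact Relation.ReflTransGen.head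
        ⟨h.2.2.1, h.2.2.2.1, h.1, h.2.1, fun a ha b hb => (h.2.2.2.2 b hb a ha).symm⟩ ih
  have hvert : ∀ x : G, orderOf x = p →
      Cfsg.IsElementaryAbelian p (Subgroup.zpowers x) ∧ p ^ 1 ≤ Nat.card ↥(Subgroup.zpowers x) :=
    fun x hx => ⟨CfsgLib.OddOrder.elemAb_zpowers (hx ▸ pow_orderOf_eq_one x),
      by rw [Nat.card_zpowers, hx, pow_one]⟩
  have helt : ∀ A : Subgroup G, Cfsg.IsElementaryAbelian p A → p ^ 1 ≤ Nat.card ↥A →
      ∃ x ∈ A, orderOf x = p := by
    intro A hA hA1
    obtain ⟨x, hx, hx1⟩ := A.bot_or_exists_ne_one.resolve_left (fun h => by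
      rw [h, Subgroup.card_bot, pow_one] at hA1
      exact absurd hA1 (not_le.mpr hp.one_lt))
    exact ⟨x, hx, orderOf_eq_prime (hA.2 x hx) hx1⟩
  constructor
  · rintro ⟨H, hH, hpH, hsep⟩ hconn
    obtain ⟨⟨x, hxH⟩, hx⟩ := exists_prime_orderOf_dvd_card' p hpH
    rw [Subgroup.orderOf_mk] at hx
    obtain ⟨g, -, hg⟩ := SetLike.exists_of_lt hH.lt_top
    have hxg : g * x * g⁻¹ ∉ H := fun h => hsep g hg (by
      rw [← hx, ← (MulAut.conj g).orderOf_eq x]
      exact Subgroup.orderOf_dvd_natCard _ ⟨h, Subgroup.mem_map_of_mem _ hxH⟩)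
    have hconj : orderOf (g * x * g⁻¹) = p := by
      rw [← hx]; exact (MulAut.conj g).orderOf_eq x
    have key : ∀ B : Subgroup G, C (Subgroup.zpowers x) B → B ≤ H := by
      intro B hB
      induction hB with
      | refl => exact Subgroup.zpowers_le.mpr hxH
      | tail _ h ih =>
        intro b hb
        obtain ⟨a, ha, hao⟩ := helt _ h.1 h.2.1
        by_contra hbH
        refine hsep b hbH ?_
        rw [← hao]
        refine Subgroup.orderOf_dvd_natCard _ ⟨ih ha, a, ih ha, ?_⟩
        simp only [MulEquiv.toMonoidHom_eq_coe, MonoidHom.coe_coe, MulAut.conj_apply]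
        rw [← h.2.2.2.2 a ha b hb, mul_inv_cancel_right]
    exact hxg (key _ (hconn _ _ (hvert x hx).1 (hvert x hx).2 (hvert _ hconj).1 (hvert _ hconj).2)
      (Subgroup.mem_zpowers _))
  · intro hdis
    obtain ⟨P⟩ := (inferInstance : Nonempty (Sylow p G))
    have hdvd : p ∣ Nat.card G := by
      by_contra h
      apply hdis
      intro E E' hE hE1 _ _
      obtain ⟨x, -, hx⟩ := helt E hE hE1
      exact absurd (hx ▸ orderOf_dvd_natCard x) h
    haveI : Nontrivial ↥(P : Subgroup G) := by
      rw [Subgroup.nontrivial_iff_ne_bot]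
      intro h
      have h' := P.dvd_card_of_dvd_card hdvd
      rw [h, Subgroup.card_bot] at h'
      exact hp.not_dvd_one h'
    haveI := P.isPGroup'.center_nontrivial
    obtain ⟨k, hk, hk'⟩ :=
      (P.isPGroup'.to_subgroup (Subgroup.center ↥(P : Subgroup G))).nontrivial_iff_card.mp inferInstance
    obtain ⟨c, hc⟩ := exists_prime_orderOf_dvd_card' (G := ↥(Subgroup.center ↥(P : Subgroup G))) p
      (hk' ▸ dvd_pow_self p hk.ne')
    set z : G := ((c : ↥(P : Subgroup G)) : G) with hz
    have hzo : orderOf z = p := by rw [hz, Subgroup.orderOf_coe, Subgroup.orderOf_coe, hc]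
    have hzc : ∀ y ∈ (P : Subgroup G), y * z = z * y := fun y hy =>
      congrArg Subtype.val (Subgroup.mem_center_iff.mp c.2 ⟨y, hy⟩)
    let Z : G → Subgroup G := fun g => Subgroup.zpowers (g * z * g⁻¹)
    have hZo : ∀ g : G, orderOf (g * z * g⁻¹) = p := fun g => by
      rw [← hzo]; exact (MulAut.conj g).orderOf_eq z
    have hRconj : ∀ (g : G) (A B : Subgroup G), C A B →
        C (A.map (MulAut.conj g).toMonoidHom) (B.map (MulAut.conj g).toMonoidHom) := by
      intro g A B h
      induction h with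
      | refl => exact Relation.ReflTransGen.refl
      | tail _ h ih =>
      refine Relation.ReflTransGen.tail ih ?_
      obtain ⟨h1, h2, h3, h4, h5⟩ := h
      refine ⟨CfsgLib.OddOrder.elemAb_map h1 _, ?_, CfsgLib.OddOrder.elemAb_map h3 _, ?_, ?_⟩
      · rwa [Subgroup.card_map_of_injective (MulEquiv.injective _)]
      · rwa [Subgroup.card_map_of_injective (MulEquiv.injective _)]
      · rintro _ ⟨a, ha, rfl⟩ _ ⟨b, hb, rfl⟩
        rw [← map_mul, ← map_mul, h5 a ha b hb]
    have hZmap : ∀ g h : G, (Z h).map (MulAut.conj g).toMonoidHom = Z (g * h) := by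
      intro g h
      simp only [Z, MonoidHom.map_zpowers, MulEquiv.toMonoidHom_eq_coe, MonoidHom.coe_coe,
        MulAut.conj_apply]
      congr 1
      group
    have htrans : ∀ g a b : G, C (Z a) (Z b) → C (Z (g * a)) (Z (g * b)) := fun g a b h => by
      have h' := hRconj g _ _ h
      rwa [hZmap, hZmap] at h'
    let H : Subgroup G :=
      { carrier := {g | C (Z g) (Z 1)}
        one_mem' := Relation.ReflTransGen.refl
        mul_mem' := fun {a b} ha hb => by
          have h := htrans a _ _ hb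
          rw [mul_one] at h
          exact Relation.ReflTransGen.trans h ha
        inv_mem' := fun {a} ha => by
          have h := htrans a⁻¹ _ _ ha
          rw [inv_mul_cancel, mul_one] at h
          exact hsymm _ _ h }
    have hH : ∀ g, g ∈ H ↔ C (Z g) (Z 1) := fun g => Iff.rfl
    have hPH : (P : Subgroup G) ≤ H := by
      intro y hy
      rw [hH]
      have : Z y = Z 1 := by simp only [Z]; rw [hzc y hy]; simp
      rw [this]
    -- a vertex lying in a conjugate of `P` is joined to the corresponding central subgroup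
    have hnear : ∀ (g : G) (A : Subgroup G), Cfsg.IsElementaryAbelian p A → p ^ 1 ≤ Nat.card ↥A →
        (∀ a ∈ A, g⁻¹ * a * g ∈ (P : Subgroup G)) → C A (Z g) := by
      intro g A hA hA1 hAP
      refine Relation.ReflTransGen.single ⟨hA, hA1, (hvert _ (hZo g)).1, (hvert _ (hZo g)).2, ?_⟩
      intro a ha b hb
      obtain ⟨i, rfl⟩ := Subgroup.mem_zpowers_iff.mp hb
      refine Commute.zpow_right ?_ i
      have h := hzc _ (hAP a ha)
      calc a * (g * z * g⁻¹) = g * (g⁻¹ * a * g * z) * g⁻¹ := by group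
        _ = g * (z * (g⁻¹ * a * g)) * g⁻¹ := by rw [h]
        _ = g * z * g⁻¹ * a := by group
    have hHtop : H ≠ ⊤ := by
      intro htop
      apply hdis
      have hto : ∀ A : Subgroup G, Cfsg.IsElementaryAbelian p A → p ^ 1 ≤ Nat.card ↥A → C A (Z 1) := by
        intro A hA hA1
        obtain ⟨S, hS⟩ := (CfsgLib.OddOrder.isPGroup_of_elemAb hA).exists_le_sylow
        obtain ⟨g, rfl⟩ := MulAction.exists_smul_eq G P S
        refine Relation.ReflTransGen.trans (hnear g A hA hA1 fun a ha => ?_) ((hH g).mp (htop ▸ trivial))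
        exact CfsgLib.Coprime.mem_conj_smul.mp (hS ha)
      intro E E' hE hE1 hE' hE'1
      exact Relation.ReflTransGen.trans (hto E hE hE1) (hsymm _ _ (hto E' hE' hE'1))
    refine ⟨H, hHtop, (P.dvd_card_of_dvd_card hdvd).trans (Subgroup.card_dvd_of_le hPH), ?_⟩
    intro g hg hpd
    obtain ⟨w, hw⟩ := exists_prime_orderOf_dvd_card' p hpd
    rw [← Subgroup.orderOf_coe] at hw
    obtain ⟨hx1, y, hy, hxy⟩ := Subgroup.mem_inf.mp w.2
    obtain ⟨x, hx⟩ : ∃ x : G, (w : G) = x := ⟨_, rfl⟩
    rw [hx] at hx1 hxy hw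
    have hxo := hw
    simp only [MulEquiv.toMonoidHom_eq_coe, MonoidHom.coe_coe, MulAut.conj_apply] at hxy
    have hinH : ∀ y ∈ H, orderOf y = p → C (Subgroup.zpowers y) (Z 1) := by
      intro y hy hyo
      have hpy : IsPGroup p ↥((Subgroup.zpowers y).subgroupOf H) :=
        (CfsgLib.OddOrder.isPGroup_of_elemAb (hvert y hyo).1).comap_subtype
      obtain ⟨S, hS⟩ := hpy.exists_le_sylow
      obtain ⟨h, rfl⟩ := MulAction.exists_smul_eq ↥H (P.subtype hPH) S
      refine Relation.ReflTransGen.trans (hnear h _ (hvert y hyo).1 (hvert y hyo).2 fun a ha => ?_) h.2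
      have h' := CfsgLib.Coprime.mem_conj_smul.mp
        (hS (show (⟨a, Subgroup.zpowers_le.mpr hy ha⟩ : ↥H) ∈ _ from ha))
      exact h'
    apply hg
    rw [hH]
    have hyo : orderOf y = p := by rw [← hxo, ← hxy]; exact ((MulAut.conj g).orderOf_eq y).symm
    have h1 : C (Subgroup.zpowers x) (Z g) := by
      have h := hRconj g _ _ (hinH y hy hyo)
      rw [hZmap, mul_one, MonoidHom.map_zpowers, MulEquiv.toMonoidHom_eq_coe, MonoidHom.coe_coe,
        MulAut.conj_apply, hxy] at h
      exact h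
    exact Relation.ReflTransGen.trans (hsymm _ _ h1) (hinH x hx1 hxo)

end Cfsg.Agent.S1336
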