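import Cfsg.Statements.S1337
import Cfsg.Agent.Lib.PGroup.NormalSquare

set_option autoImplicit false
open Cfsg
open scoped commutatorElement Pointwise

namespace Cfsg.Agent.S1337

/-- Let P be a finite p-group of p-rank greater than 2. Then P has a normal elementary abelian subgroup U of order p², and for every elementary abelian X ≤ P with |X| ≥ p²: X is joined to U by a chain of pairwise commuting elementary abelian subgroups of order ≥ p² if and only if C_P(X) has p-rank greater than 2. -/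
theorem result {P : Type*} [Group P] [Finite P] (p : ℕ) [Fact p.Prime] (hP : IsPGroup p P) (hrk : ¬ Cfsg.PRankLE p 2 P) : ∃ U : Subgroup P, U.Normal ∧ Cfsg.IsElementaryAbelian p U ∧ Nat.card ↥U = p ^ 2 ∧ ∀ X : Subgroup P, Cfsg.IsElementaryAbelian p X → p ^ 2 ≤ Nat.card ↥X → (Relation.ReflTransGen (fun A B : Subgroup P => Cfsg.IsElementaryAbelian p A ∧ p ^ 2 ≤ Nat.card ↥A ∧ Cfsg.IsElementaryAbelian p B ∧ p ^ 2 ≤ Nat.card ↥B ∧ ∀ a ∈ A, ∀ b ∈ B, a * b = b * a) X U ↔ ¬ Cfsg.PRankLE p 2 ↥(Subgroup.centralizer (X : Set P))) := by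
  have hp := (Fact.out : p.Prime)
  obtain ⟨U, hUn, hU, hUcard⟩ := CfsgLib.PGroup39.exists_normal_elementary_square hP hrk
  refine ⟨U, hUn, hU, hUcard, ?_⟩
  haveI := hU.1
  set Q := Subgroup.centralizer (U : Set P) with hQ
  -- the centralizer of `U` has index at most `p`
  have hidx : Q.index ≤ p := by
    have h := CfsgLib.PGroupBasic.index_centralizer_le hP 2 U hUn hU.1 hUcard
    simpa using h
  let R : Subgroup P → Subgroup P → Prop := fun A B => Cfsg.IsElementaryAbelian p A ∧ p ^ 2 ≤ Nat.card ↥A ∧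
      Cfsg.IsElementaryAbelian p B ∧ p ^ 2 ≤ Nat.card ↥B ∧ ∀ a ∈ A, ∀ b ∈ B, a * b = b * a
  have hU2 : p ^ 2 ≤ Nat.card ↥U := le_of_eq hUcard.symm
  -- every large vertex is joined to `U`, and a large elementary subgroup centralizes `U`
  have hbig : ∀ E : Subgroup P, Cfsg.IsElementaryAbelian p E → p ^ 2 < Nat.card ↥E →
      p ^ 2 ≤ Nat.card ↥(E ⊓ Q) ∧ Relation.ReflTransGen R E U := by
    intro E hE hE2
    have hEQ : p ^ 2 ≤ Nat.card ↥(E ⊓ Q) := by
      obtain ⟨n, hn⟩ := CfsgLib.OddOrder.elemAb_card hE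
      obtain ⟨m, hm⟩ := CfsgLib.OddOrder.elemAb_card (CfsgLib.OddOrder.elemAb_mono hE inf_le_left : Cfsg.IsElementaryAbelian p (E ⊓ Q))
      have h1 : Nat.card ↥E ≤ Nat.card ↥(E ⊓ Q) * p := by
        have h := Subgroup.relIndex_mul_relIndex ⊥ (E ⊓ Q) E bot_le inf_le_left
        rw [Subgroup.relIndex_bot_left, Subgroup.relIndex_bot_left] at h
        rw [← h, inf_comm, Subgroup.inf_relIndex_right, inf_comm]
        refine Nat.mul_le_mul le_rfl (le_trans ?_ hidx)
        exact Nat.le_of_dvd (Nat.pos_of_ne_zero Subgroup.index_ne_zero_of_finite)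
          (Subgroup.relIndex_dvd_index_of_normal Q E)
      rw [hn] at hE2 h1
      rw [hm, ← pow_succ] at h1
      rw [hm]
      have hn3 : 2 < n := (Nat.pow_lt_pow_iff_right hp.one_lt).mp hE2
      have hnm : n ≤ m + 1 := (Nat.pow_le_pow_iff_right hp.one_lt).mp h1
      exact Nat.pow_le_pow_right hp.pos (by omega)
    refine ⟨hEQ, ?_⟩
    have hel : Cfsg.IsElementaryAbelian p (E ⊓ Q) := CfsgLib.OddOrder.elemAb_mono hE inf_le_left
    refine Relation.ReflTransGen.trans (Relation.ReflTransGen.single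
      (show R E (E ⊓ Q) from ⟨hE, hE2.le, hel, hEQ,
        fun a ha b hb => CfsgLib.OddOrder.elemAb_commute hE ha (Subgroup.mem_inf.mp hb).1⟩)) ?_
    exact Relation.ReflTransGen.single ⟨hel, hEQ, hU, hU2,
      fun a ha b hb => (Subgroup.mem_centralizer_iff.mp (Subgroup.mem_inf.mp ha).2 b hb).symm⟩
  obtain ⟨E, hE, hE2⟩ : ∃ E : Subgroup P, Cfsg.IsElementaryAbelian p E ∧ p ^ 2 < Nat.card ↥E := by
    by_contra h
    push Not at h
    exact hrk (CfsgLib.OddOrder.pRankLE_iff.mpr h)
  -- a big elementary subgroup in a centralizer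
  have hcr : ∀ X : Subgroup P, ¬ Cfsg.PRankLE p 2 ↥(Subgroup.centralizer (X : Set P)) ↔
      ∃ F : Subgroup P, Cfsg.IsElementaryAbelian p F ∧ p ^ 2 < Nat.card ↥F ∧
        ∀ x ∈ X, ∀ f ∈ F, x * f = f * x := by
    intro X
    constructor
    · intro h
      rw [CfsgLib.OddOrder.pRankLE_iff] at h
      push Not at h
      obtain ⟨F, hF, hF2⟩ := h
      refine ⟨F.map (Subgroup.centralizer (X : Set P)).subtype, CfsgLib.OddOrder.elemAb_map hF _, ?_, ?_⟩
      · rwa [Subgroup.card_subtype]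
      · rintro x hx _ ⟨f, -, rfl⟩
        exact Subgroup.mem_centralizer_iff.mp f.2 x hx
    · rintro ⟨F, hF, hF2, hcomm⟩ h
      have hle : F ≤ Subgroup.centralizer (X : Set P) := fun f hf =>
        Subgroup.mem_centralizer_iff.mpr fun x hx => hcomm x hx f hf
      have h1 := CfsgLib.OddOrder.pRankLE_iff.mp h (F.subgroupOf (Subgroup.centralizer (X : Set P)))
        (CfsgLib.OddOrder.elemAb_comap hF (Subgroup.centralizer (X : Set P)).subtype
          (Subgroup.subtype_injective _))
      rw [Nat.card_congr (Subgroup.subgroupOfEquivOfLe hle).toEquiv] at h1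
      exact absurd h1 (not_le.mpr hF2)
  intro X hX hX2
  constructor
  · intro hXU
    by_contra hlow
    -- `X` commutes with no other vertex
    have hiso : ∀ Y : Subgroup P, R X Y → Y = X := by
      rintro Y ⟨-, -, hY, hY2, hcomm⟩
      obtain ⟨n, hn⟩ := CfsgLib.OddOrder.elemAb_card hX
      have hXY : Cfsg.IsElementaryAbelian p (X ⊔ Y) ∧ ∀ x ∈ X, ∀ f ∈ X ⊔ Y, x * f = f * x := by
        have hc : X ⊔ Y ≤ Subgroup.centralizer ((X ⊔ Y : Subgroup P) : Set P) := by
          have h1 : X ≤ Subgroup.centralizer (Y : Set P) := fun x hx =>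
            Subgroup.mem_centralizer_iff.mpr fun y hy => (hcomm x hx y hy).symm
          have h2 : X ≤ Subgroup.centralizer (X : Set P) := fun x hx =>
            Subgroup.mem_centralizer_iff.mpr fun y hy => CfsgLib.OddOrder.elemAb_commute hX hy hx
          have h3 : Y ≤ Subgroup.centralizer (Y : Set P) := fun x hx =>
            Subgroup.mem_centralizer_iff.mpr fun y hy => CfsgLib.OddOrder.elemAb_commute hY hy hx
          exact sup_le (Subgroup.le_centralizer_iff.mp (sup_le h2 (Subgroup.le_centralizer_iff.mp h1)))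
            (Subgroup.le_centralizer_iff.mp (sup_le h1 h3))
        have hcc : ∀ a ∈ X ⊔ Y, ∀ b ∈ X ⊔ Y, a * b = b * a := fun a ha b hb =>
          (Subgroup.mem_centralizer_iff.mp (hc hb) a ha)
        refine ⟨⟨⟨⟨fun a b => Subtype.ext (hcc a a.2 b b.2)⟩⟩, fun a ha => ?_⟩,
          fun x hx f hf => hcc x (Subgroup.mem_sup_left hx) f hf⟩
        have hW : X ⊔ Y ≤ Subgroup.closure {a : P | a ∈ X ⊔ Y ∧ a ^ p = 1} :=
          sup_le (fun x hx => Subgroup.subset_closure ⟨Subgroup.mem_sup_left hx, hX.2 x hx⟩)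
            (fun x hx => Subgroup.subset_closure ⟨Subgroup.mem_sup_right hx, hY.2 x hx⟩)
        have hkey : ∀ a ∈ Subgroup.closure {a : P | a ∈ X ⊔ Y ∧ a ^ p = 1}, a ^ p = 1 ∧ a ∈ X ⊔ Y := by
          intro a ha'
          induction ha' using Subgroup.closure_induction with
          | mem x hx => exact ⟨hx.2, hx.1⟩
          | one => exact ⟨one_pow p, one_mem _⟩
          | mul x y _ _ ihx ihy =>
            exact ⟨by rw [(show Commute x y from hcc x ihx.2 y ihy.2).mul_pow, ihx.1, ihy.1, one_mul],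
              mul_mem ihx.2 ihy.2⟩
          | inv x _ ih => exact ⟨by rw [inv_pow, ih.1, inv_one], inv_mem ih.2⟩
        exact (hkey a (hW ha)).1
      have hle : Nat.card ↥(X ⊔ Y) ≤ p ^ 2 := by
        by_contra h
        exact ((hcr X).mpr ⟨X ⊔ Y, hXY.1, not_le.mp h, hXY.2⟩) hlow
      have h1 : X = X ⊔ Y := Subgroup.eq_of_le_of_card_ge le_sup_left (hle.trans hX2)
      have h2 : Y = X ⊔ Y := Subgroup.eq_of_le_of_card_ge le_sup_right (hle.trans hY2)
      exact h2.trans h1.symm
    have hall : ∀ Y : Subgroup P, Relation.ReflTransGen R X Y → Y = X := by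
      intro Y h
      induction h with
      | refl => rfl
      | tail _ h ih =>
        subst ih
        exact hiso _ h
    have hUX : U = X := hall U hXU
    subst hUX
    apply (hcr _).mpr ?_ hlow
    obtain ⟨hEQ, -⟩ := hbig E hE hE2
    by_cases hEU : U ≤ E
    · exact ⟨E, hE, hE2, fun x hx f hf => CfsgLib.OddOrder.elemAb_commute hE (hEU hx) hf⟩
    · exfalso
      have hR : R U (E ⊓ Q) := ⟨hU, hU2, CfsgLib.OddOrder.elemAb_mono hE inf_le_left, hEQ,
        fun a ha b hb => Subgroup.mem_centralizer_iff.mp (Subgroup.mem_inf.mp hb).2 a ha⟩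
      exact hEU ((hiso _ hR).ge.trans inf_le_left)
  · intro h
    obtain ⟨F, hF, hF2, hcomm⟩ := (hcr X).mp h
    exact Relation.ReflTransGen.trans
      (Relation.ReflTransGen.single (show R X F from ⟨hX, hX2, hF, hF2.le, hcomm⟩)) (hbig F hF hF2).2

end Cfsg.Agent.S1337
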