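import Cfsg.Statements.S1338
import Cfsg.Agent.Lib.PGroup.RankFour3
import Cfsg.Agent.S1337

set_option autoImplicit false
open Cfsg
open scoped commutatorElement Pointwise

namespace Cfsg.Agent.S1338

/-- A finite 3-group of 3-rank at least 4 is 2-connected for the prime 3: its commuting graph on elementary abelian subgroups of order ≥ 9 is connected. -/
theorem result {P : Type*} [Group P] [Finite P] (hP : IsPGroup 3 P) (hrk : ¬ Cfsg.PRankLE 3 3 P) : Cfsg.IsKConnected 3 2 P := by
  haveI : Fact (Nat.Prime 3) := ⟨Nat.prime_three⟩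
  obtain ⟨A, hA, hA4⟩ : ∃ A : Subgroup P, Cfsg.IsElementaryAbelian 3 A ∧ 81 ≤ Nat.card ↥A := by
    by_contra h
    push Not at h
    refine hrk (CfsgLib.OddOrder.pRankLE_iff.mpr fun A hA => ?_)
    have h1 := h A hA
    obtain ⟨n, hn⟩ := CfsgLib.OddOrder.elemAb_card hA
    rw [hn] at h1 ⊢
    refine Nat.pow_le_pow_right (by norm_num) ?_
    by_contra h2
    have : 3 ^ 4 ≤ 3 ^ n := Nat.pow_le_pow_right (by norm_num) (by omega)
    omega
  have hrk2 : ¬ Cfsg.PRankLE 3 2 P := fun h => by
    have := CfsgLib.OddOrder.pRankLE_iff.mp h A hA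
    omega
  obtain ⟨U, -, -, -, hU⟩ := Cfsg.Agent.S1337.result 3 hP hrk2
  intro E E' hE hE2 hE' hE2'
  -- every vertex is joined to `U`
  have key : ∀ X : Subgroup P, Cfsg.IsElementaryAbelian 3 X → 3 ^ 2 ≤ Nat.card ↥X →
      Relation.ReflTransGen (fun A B : Subgroup P => Cfsg.IsElementaryAbelian 3 A ∧ 3 ^ 2 ≤ Nat.card ↥A ∧
        Cfsg.IsElementaryAbelian 3 B ∧ 3 ^ 2 ≤ Nat.card ↥B ∧ ∀ a ∈ A, ∀ b ∈ B, a * b = b * a) X U := by
    intro X hX hX2
    rw [hU X hX hX2]
    intro hlow
    rw [CfsgLib.OddOrder.pRankLE_iff] at hlow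
    have hbound : ∀ F : Subgroup P, Cfsg.IsElementaryAbelian 3 F → (∀ x ∈ X, ∀ f ∈ F, x * f = f * x) →
        Nat.card ↥F ≤ 3 ^ 2 := by
      intro F hF hc
      have hle : F ≤ Subgroup.centralizer (X : Set P) := fun f hf =>
        Subgroup.mem_centralizer_iff.mpr fun x hx => hc x hx f hf
      have h1 := hlow (F.subgroupOf _) (CfsgLib.OddOrder.elemAb_comap hF
        (Subgroup.centralizer (X : Set P)).subtype (Subgroup.subtype_injective _))
      rwa [Nat.card_congr (Subgroup.subgroupOfEquivOfLe hle).toEquiv] at h1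
    -- `X` contains every central element of order three
    have hXeq : ∀ z : P, z ∈ Subgroup.center P → z ^ 3 = 1 → z ∈ X := by
      intro z hz hz3
      have hF := CfsgLib.OddOrder.elemAb_sup_zpowers hX hz3
        (Subgroup.mem_centralizer_iff.mpr fun x _ => Subgroup.mem_center_iff.mp hz x)
      have h1 := hbound _ hF fun x hx f hf =>
        CfsgLib.OddOrder.elemAb_commute hF (Subgroup.mem_sup_left hx) hf
      rw [Subgroup.eq_of_le_of_card_ge (le_sup_left : X ≤ X ⊔ Subgroup.zpowers z) (h1.trans hX2)]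
      exact Subgroup.mem_sup_right (Subgroup.mem_zpowers z)
    have hPne : Nontrivial P := by
      refine Finite.one_lt_card_iff_nontrivial.mp ?_
      have := Subgroup.card_le_card_group A
      omega
    haveI := hP.center_nontrivial
    obtain ⟨z, hzc, hzord⟩ : ∃ z ∈ Subgroup.center P, orderOf z = 3 := by
      obtain ⟨n, hn⟩ := IsPGroup.iff_card.mp (hP.to_subgroup (Subgroup.center P))
      have h3 : 3 ∣ Nat.card ↥(Subgroup.center P) := by
        rw [hn]
        refine dvd_pow_self 3 fun h0 => ?_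
        subst h0
        exact absurd hn (ne_of_gt Finite.one_lt_card)
      obtain ⟨z, hz⟩ := exists_prime_orderOf_dvd_card' 3 h3
      exact ⟨z, z.2, by rw [Subgroup.orderOf_coe]; exact hz⟩
    have hzX : z ∈ X := hXeq z hzc (hzord ▸ pow_orderOf_eq_one z)
    have hX9 : Nat.card ↥X = 3 ^ 2 := le_antisymm
      (hbound X hX fun x hx f hf => CfsgLib.OddOrder.elemAb_commute hX hx hf) hX2
    obtain ⟨x, hx, hxz⟩ : ∃ x ∈ X, x ∉ Subgroup.zpowers z := by
      by_contra h
      push Not at h
      have := Subgroup.card_le_of_le (fun x hx => h x hx : X ≤ Subgroup.zpowers z)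
      rw [Nat.card_zpowers, hzord, hX9] at this
      omega
    obtain ⟨F, hF, hF27, hFx⟩ := CfsgLib.PGroup39.RankFour.exists_elementary_commuting hP hA hA4 (hX.2 x hx)
    have hgen : X ≤ Subgroup.zpowers x ⊔ Subgroup.zpowers z := by
      have hle : Subgroup.zpowers x ⊔ Subgroup.zpowers z ≤ X :=
        sup_le (Subgroup.zpowers_le.mpr hx) (Subgroup.zpowers_le.mpr hzX)
      obtain ⟨m, hm⟩ := CfsgLib.OddOrder.elemAb_card (CfsgLib.OddOrder.elemAb_mono hX hle)
      refine (Subgroup.eq_of_le_of_card_ge hle ?_).ge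
      rw [hX9, hm]
      refine Nat.pow_le_pow_right (n := 3) (by norm_num) (show 2 ≤ m from ?_)
      by_contra hlt
      have hle' : Nat.card ↥(Subgroup.zpowers x ⊔ Subgroup.zpowers z) ≤ Nat.card ↥(Subgroup.zpowers z) := by
        rw [hm, Nat.card_zpowers, hzord]
        exact (Nat.pow_le_pow_right (by norm_num) (show m ≤ 1 by omega)).trans (le_of_eq (pow_one 3))
      exact hxz ((Subgroup.eq_of_le_of_card_ge
        (le_sup_right : Subgroup.zpowers z ≤ Subgroup.zpowers x ⊔ Subgroup.zpowers z) hle').ge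
          (Subgroup.mem_sup_left (Subgroup.mem_zpowers x)))
    have h27 := hbound F hF fun y hy f hf => by
      have hle : Subgroup.zpowers x ⊔ Subgroup.zpowers z ≤ Subgroup.centralizer (F : Set P) :=
        sup_le (Subgroup.zpowers_le.mpr (Subgroup.mem_centralizer_iff.mpr fun f hf => (hFx f hf).symm))
          (Subgroup.zpowers_le.mpr (Subgroup.mem_centralizer_iff.mpr fun f _ => Subgroup.mem_center_iff.mp hzc f))
      exact (Subgroup.mem_centralizer_iff.mp (hle (hgen hy)) f hf).symm
    omega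
  refine (key E hE hE2).trans ?_
  have h := key E' hE' hE2'
  clear key hU
  induction h with
  | refl => exact Relation.ReflTransGen.refl
  | tail _ h ih =>
    exact (Relation.ReflTransGen.single
      ⟨h.2.2.1, h.2.2.2.1, h.1, h.2.1, fun a ha b hb => (h.2.2.2.2 b hb a ha).symm⟩).trans ih

end Cfsg.Agent.S1338
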