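import Cfsg.Statements.S1339
import Cfsg.Agent.Lib.Components.FStar
import Mathlib.LinearAlgebra.Matrix.SpecialLinearGroup
import Mathlib.LinearAlgebra.Matrix.Transvection
import Mathlib.Tactic.LinearCombination

set_option autoImplicit false
open Cfsg
open scoped commutatorElement Pointwise

namespace Cfsg.Agent.S1339

/-- Let F be a field with 2 elements, n ≥ 3, and t ∈ SL(n, F) a transvection (t = 1 + E_{ij}, i ≠ j). Then the generalized Fitting subgroup of C(t) is O_2(C(t)). -/
theorem result {F : Type*} [Field F] [Fintype F] [DecidableEq F] (hF : Fintype.card F = 2) (n : ℕ) (hn : 3 ≤ n) (i j : Fin n) (hij : i ≠ j) (t : Matrix.SpecialLinearGroup (Fin n) F) (ht : (t : Matrix (Fin n) (Fin n) F) = Matrix.transvection i j 1) : Cfsg.generalizedFittingSubgroup ↥(Subgroup.centralizer ({t} : Set (Matrix.SpecialLinearGroup (Fin n) F))) = Cfsg.pCore 2 ↥(Subgroup.centralizer ({t} : Set (Matrix.SpecialLinearGroup (Fin n) F))) := by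
  classical
  haveI : Fact (Nat.Prime 2) := ⟨Nat.prime_two⟩
  haveI : Finite (Matrix.SpecialLinearGroup (Fin n) F) := inferInstance
  set C := Subgroup.centralizer ({t} : Set (Matrix.SpecialLinearGroup (Fin n) F)) with hC
  have two : ∀ a : F, a = 0 ∨ a = 1 := by
    intro a
    by_contra h
    push Not at h
    have : ({0, 1, a} : Finset F).card ≤ 2 := hF ▸ Finset.card_le_univ _
    rw [Finset.card_insert_of_notMem (by simp [zero_ne_one, Ne.symm h.1]),
      Finset.card_insert_of_notMem (by simp [Ne.symm h.2]), Finset.card_singleton] at this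
    omega
  have char2 : ∀ a : F, a + a = 0 := by
    intro a
    rcases two a with h | h
    · simp [h]
    · rcases two (a + a) with h' | h'
      · exact h'
      · rw [h] at h'
        have : (1 : F) = 0 := by linear_combination h'
        exact absurd this one_ne_zero
  obtain ⟨m, hm⟩ : ∃ m : ↥C → Matrix (Fin n) (Fin n) F, ∀ g, m g =
      ((g : Matrix.SpecialLinearGroup (Fin n) F) : Matrix (Fin n) (Fin n) F) := ⟨_, fun g => rfl⟩
  have mmul : ∀ g h, m (g * h) = m g * m h := fun g h => by rw [hm, hm, hm]; rfl
  have mone : m 1 = 1 := by rw [hm]; rfl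
  have minj : ∀ g h, (∀ a b, m g a b = m h a b) → g = h := fun g h hgh =>
    Subtype.ext (Matrix.SpecialLinearGroup.ext _ _ fun a b => by simpa only [hm] using hgh a b)
  -- the elements of the centralizer fix the `i`-th basis vector
  have hcol : ∀ g : ↥C, ∀ a, (m g) a i = if a = i then 1 else 0 := by
    intro g a
    have h := congrArg (fun x : Matrix.SpecialLinearGroup (Fin n) F => (x : Matrix (Fin n) (Fin n) F))
      (Subgroup.mem_centralizer_singleton_iff.mp g.2)
    simp only [Matrix.SpecialLinearGroup.coe_mul, ht, ← hm] at h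
    simp only [Matrix.transvection, mul_add, add_mul, mul_one, one_mul, add_right_inj] at h
    have h0 : ∀ a, a ≠ i → (m g) a i = 0 := fun a ha => by
      simpa [ha] using congrFun (congrFun h a) j
    split_ifs with ha
    · subst ha
      refine (two _).resolve_left fun h1 => ?_
      have hd : (m g).det = 1 := by rw [hm]; exact (g : Matrix.SpecialLinearGroup (Fin n) F).2
      rw [Matrix.det_eq_zero_of_column_eq_zero a] at hd
      · exact zero_ne_one hd
      · intro b
        by_cases hb : b = a
        · rw [hb]; exact h1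
        · exact h0 b hb
    · exact h0 a ha
  let P : ↥C → Prop := fun g => ∀ a b, a ≠ i →
    (m g) a b = (1 : Matrix (Fin n) (Fin n) F) a b
  have hmul : ∀ g h : ↥C, P g → P h → P (g * h) := by
    intro g h hg hh a b ha
    rw [mmul, Matrix.mul_apply]
    rw [Finset.sum_eq_single a]
    · rw [hg a a ha, Matrix.one_apply_eq, one_mul, hh a b ha]
    · intro c _ hc; rw [hg a c ha, Matrix.one_apply_ne (Ne.symm hc), zero_mul]
    · intro hh'; exact absurd (Finset.mem_univ a) hh'
  have hsq : ∀ g : ↥C, P g → g * g = 1 := by
    intro g hg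
    refine minj _ _ fun a b => ?_
    rw [mmul, mone, Matrix.mul_apply]
    by_cases ha : a = i
    · subst ha
      by_cases hb : b = a
      · subst hb
        rw [Finset.sum_eq_single b]
        · rw [hcol g b, if_pos rfl, one_mul, Matrix.one_apply_eq]
        · intro c _ hc; rw [hg c b hc, Matrix.one_apply_ne hc, mul_zero]
        · intro hh'; exact absurd (Finset.mem_univ b) hh'
      · rw [Matrix.one_apply_ne (Ne.symm hb)]
        have : ∀ c, (m g) a c * (m g) c b =
            if c = a ∨ c = b then (m g) a b else 0 := by
          intro c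
          by_cases hc : c = a
          · subst hc; rw [if_pos (Or.inl rfl), hcol g c, if_pos rfl, one_mul]
          · rw [hg c b hc]
            by_cases hcb : c = b
            · subst hcb; rw [if_pos (Or.inr rfl), Matrix.one_apply_eq, mul_one]
            · rw [Matrix.one_apply_ne hcb, mul_zero, if_neg (not_or.mpr ⟨hc, hcb⟩)]
        rw [Finset.sum_congr rfl fun c _ => this c, Finset.sum_ite, Finset.sum_const_zero, add_zero,
          Finset.sum_const]
        have hset : (Finset.univ.filter fun c => c = a ∨ c = b) = {a, b} := by ext c; simp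
        rw [hset, Finset.card_pair (Ne.symm hb), two_nsmul]
        exact char2 _
    · rw [Finset.sum_eq_single a]
      · rw [hg a a ha, Matrix.one_apply_eq, one_mul, hg a b ha]
      · intro c _ hc; rw [hg a c ha, Matrix.one_apply_ne (Ne.symm hc), zero_mul]
      · intro hh'; exact absurd (Finset.mem_univ a) hh'
  let Q : Subgroup ↥C :=
    { carrier := {g | P g}
      one_mem' := fun a b _ => by rw [mone]
      mul_mem' := fun {g h} => hmul g h
      inv_mem' := fun {g} hg => by
        show P g⁻¹
        rwa [inv_eq_of_mul_eq_one_right (hsq g hg)] }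
  have hQn : Q.Normal := by
    refine ⟨fun q hq g a b ha => ?_⟩
    simp only [mmul, Matrix.mul_apply]
    have h1 : ∀ c, (∑ d, (m g) a d *
        (m q) d c) = (m g) a c := by
      intro c
      rw [Finset.sum_eq_single c]
      · by_cases hc : c = i
        · subst hc; rw [hcol g a, if_neg ha, zero_mul]
        · rw [hq c c hc, Matrix.one_apply_eq, mul_one]
      · intro d _ hd
        by_cases hd' : d = i
        · subst hd'; rw [hcol g a, if_neg ha, zero_mul]
        · rw [hq d c hd', Matrix.one_apply_ne hd, mul_zero]
      · intro hh'; exact absurd (Finset.mem_univ c) hh'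
    simp only [h1]
    rw [← Matrix.mul_apply, ← mmul, mul_inv_cancel, mone]
  have hQp : IsPGroup 2 ↥Q := fun g => ⟨1, Subtype.ext (by
    have := hsq g g.2
    simpa [pow_two] using this)⟩
  refine CfsgLib.Components.generalizedFitting_eq_pCore_of_centralizer_le 2 ?_
  refine le_trans ?_ (CfsgLib.PCore.le_pCore hQn hQp)
  refine (Subgroup.centralizer_le (SetLike.coe_subset_coe.mpr (CfsgLib.PCore.le_pCore hQn hQp))).trans ?_
  intro g hg a b ha
  by_cases hb : b = i
  · subst hb; rw [hcol g a, if_neg ha, Matrix.one_apply_ne ha]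
  -- commute with the transvection in position `(i, a)`
  let τ : Fin n → Matrix.SpecialLinearGroup (Fin n) F := fun k =>
    if hk : k = i then 1 else ⟨Matrix.transvection i k 1, Matrix.det_transvection_of_ne i k (Ne.symm hk) 1⟩
  have hτ : ∀ k, k ≠ i → (τ k).1 = Matrix.transvection i k 1 := fun k hk => by simp [τ, hk]
  have hτC : τ a ∈ C := by
    rw [hC, Subgroup.mem_centralizer_singleton_iff]
    ext1
    simp only [Matrix.SpecialLinearGroup.coe_mul, hτ a ha, ht, Matrix.transvection, mul_add, add_mul,
      mul_one, one_mul, Matrix.single_mul_single_of_ne _ _ _ _ ha,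
      Matrix.single_mul_single_of_ne _ _ _ _ (Ne.symm hij), add_zero]
    rw [add_right_comm]
  have hτQ : (⟨τ a, hτC⟩ : ↥C) ∈ Q := by
    intro c d hc
    rw [hm]
    show (τ a : Matrix (Fin n) (Fin n) F) c d = _
    rw [hτ a ha]
    simp [Matrix.transvection, Ne.symm hc]
  have h := congrArg m
    (Subgroup.mem_centralizer_iff.mp hg _ hτQ)
  have hmτ : m ⟨τ a, hτC⟩ = Matrix.transvection i a 1 := by rw [hm]; exact hτ a ha
  simp only [mmul, hmτ, Matrix.transvection, mul_add, add_mul, mul_one, one_mul, add_right_inj] at h
  have h' := congrFun (congrFun h i) b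
  by_cases hab : b = a
  · subst hab
    simp only [Matrix.single_mul_apply_same, Matrix.mul_single_apply_same, one_mul, mul_one] at h'
    rw [h', hcol g i, if_pos rfl, Matrix.one_apply_eq]
  · rw [Matrix.one_apply_ne (Ne.symm hab)]
    simpa [hab] using h'

end Cfsg.Agent.S1339
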