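import Cfsg.Statements.S1340
import Cfsg.Agent.Lib.Components.SLQuasisimple
import Cfsg.Agent.Lib.PCore.Basic

set_option autoImplicit false
open Cfsg
open scoped commutatorElement Pointwise

namespace Cfsg.Agent.S1340

/-- Let F be a finite field of odd order and n ≥ 3 with (n, |F|) ≠ (3, 3). Then GL(n, F) has a non-central involution t such that C(t) / O(C(t)) has a component. -/
theorem result {F : Type*} [Field F] [Fintype F] [DecidableEq F] (hF : Odd (Fintype.card F)) (n : ℕ) (hn : 3 ≤ n) (h33 : ¬ (n = 3 ∧ Fintype.card F = 3)) : ∃ t : Matrix.GeneralLinearGroup (Fin n) F, orderOf t = 2 ∧ t ∉ Subgroup.center (Matrix.GeneralLinearGroup (Fin n) F) ∧ Cfsg.HasComponent (↥(Subgroup.centralizer ({t} : Set (Matrix.GeneralLinearGroup (Fin n) F))) ⧸ Cfsg.oddCore ↥(Subgroup.centralizer ({t} : Set (Matrix.GeneralLinearGroup (Fin n) F)))) := by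
  obtain ⟨m, rfl⟩ : ∃ m, n = m + 1 := ⟨n - 1, by omega⟩
  set e : Fin m ⊕ Fin 1 ≃ Fin (m + 1) := finSumFinEquiv with he
  have h2 : (2 : F) ≠ 0 := Ring.two_ne_zero fun hc => by
    have := FiniteField.even_card_of_char_two hc
    rw [Nat.odd_iff] at hF
    omega
  have h11 : (-1 : F) ≠ 1 := fun h => h2 (by linear_combination -h)
  let t : Matrix.GeneralLinearGroup (Fin (m + 1)) F :=
    Matrix.GeneralLinearGroup.mkOfDetNeZero (CfsgLib.Components39.blk e (-1 : Matrix (Fin m) (Fin m) F) 1)
      (by simp [CfsgLib.Components39.det_blk, Matrix.det_neg])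
  have htv : (t : Matrix (Fin (m + 1)) (Fin (m + 1)) F) = CfsgLib.Components39.blk e (-1) 1 := rfl
  obtain ⟨i, j, hij⟩ : ∃ i j : Fin m, i ≠ j := ⟨⟨0, by omega⟩, ⟨1, by omega⟩, by simp [Fin.ext_iff]⟩
  let φ : Matrix.SpecialLinearGroup (Fin m) F →* Matrix.GeneralLinearGroup (Fin (m + 1)) F :=
    Matrix.SpecialLinearGroup.toGL.comp (CfsgLib.Components39.sblk e)
  have hφv : ∀ A, (φ A : Matrix (Fin (m + 1)) (Fin (m + 1)) F) =
      CfsgLib.Components39.blk e (A : Matrix (Fin m) (Fin m) F) 1 := fun A => rfl
  have hφ : Function.Injective φ := fun A B h => Subtype.ext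
    (CfsgLib.Components39.blk_injective e (congrArg Units.val h)).1
  set C := Subgroup.centralizer ({t} : Set (Matrix.GeneralLinearGroup (Fin (m + 1)) F)) with hC
  have hφC : ∀ A, φ A ∈ C := fun A => Subgroup.mem_centralizer_singleton_iff.mpr (Units.ext (by
    rw [Units.val_mul, Units.val_mul, htv, hφv]
    exact (CfsgLib.Components39.commute_blk_neg_one e _ _).symm))
  refine ⟨t, orderOf_eq_prime ?_ ?_, ?_, ?_⟩
  · apply Units.ext
    rw [pow_two, Units.val_mul, htv, CfsgLib.Components39.blk_mul]
    simp [CfsgLib.Components39.blk_one]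
  · intro h
    have h' := congrArg Units.val h
    rw [htv, Units.val_one, ← CfsgLib.Components39.blk_one e] at h'
    have := (CfsgLib.Components39.blk_injective e h').1
    have := congr_fun₂ this i i
    exact h11 (by simpa using this)
  · intro h
    have h' := congrArg Units.val ((Subgroup.mem_center_iff.mp h)
      (Matrix.SpecialLinearGroup.toGL (Matrix.SpecialLinearGroup.transvection
        (show e (.inl i) ≠ e (.inr 0) by simp) (1 : F))))
    have := congr_fun₂ h' (e (.inl i)) (e (.inr 0))
    rw [Units.val_mul, Units.val_mul, htv, Matrix.SpecialLinearGroup.coe_GL_coe_matrix,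
      Matrix.SpecialLinearGroup.transvection_coe] at this
    simp [add_mul, mul_add, CfsgLib.Components39.blk_apply_inl_inr, CfsgLib.Components39.blk_apply_inl,
      CfsgLib.Components39.blk_apply_inr] at this
    exact h11 this.symm
  · let φC := φ.codRestrict C hφC
    have hq : Cfsg.IsQuasisimple ↥φC.range := CfsgLib.Components.isQuasisimple_of_mulEquiv
      (CfsgLib.Components39.sl_isQuasisimple (F := F) (n := m) (by omega) fun hm => by
        obtain ⟨k, hk⟩ := hF
        have : 1 < Fintype.card F := Fintype.one_lt_card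
        by_contra hh
        exact h33 ⟨by omega, by omega⟩)
      (MonoidHom.ofInjective (f := φC) fun A B h => hφ (congrArg Subtype.val h))
    haveI hn : φC.range.Normal := ⟨by
      rintro _ ⟨X, rfl⟩ g
      have hg := congrArg Units.val (Subgroup.mem_centralizer_singleton_iff.mp g.2)
      rw [Units.val_mul, Units.val_mul, htv] at hg
      obtain ⟨Y, hY⟩ := CfsgLib.Components39.exists_conj_sblk e h2
        (M := ((g : Matrix.GeneralLinearGroup (Fin (m + 1)) F) : Matrix (Fin (m + 1)) (Fin (m + 1)) F))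
        (by exact (Matrix.GeneralLinearGroup.det (g : Matrix.GeneralLinearGroup (Fin (m + 1)) F)).ne_zero)
        hg.symm X
      refine ⟨Y, ?_⟩
      rw [eq_mul_inv_iff_mul_eq]
      exact Subtype.ext (Units.ext hY.symm)⟩
    have hcomp : Cfsg.IsComponent φC.range := ⟨Subgroup.Normal.isSubnormal hn, hq⟩
    obtain h | h := CfsgLib.Components.map_component_eq_bot_or_isComponent
      (QuotientGroup.mk'_surjective (Cfsg.oddCore ↥C)) hcomp
    · exfalso
      set s := Matrix.SpecialLinearGroup.diag2n hij (-1 : F) (by simp)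
      have hs : φC s ∈ Cfsg.oddCore ↥C := by
        have h' := (Subgroup.map_eq_bot_iff _).mp h ⟨s, rfl⟩
        rwa [QuotientGroup.ker_mk'] at h'
      have hs2 : s ^ 2 = 1 := by
        apply Subtype.ext
        rw [pow_two, Matrix.SpecialLinearGroup.coe_mul, Matrix.SpecialLinearGroup.diag2n_coe,
          Matrix.diagonal_mul_diagonal]
        rw [Matrix.SpecialLinearGroup.coe_one, ← Matrix.diagonal_one]
        congr 1
        funext k
        split_ifs <;> simp
      have hs1 : φC s ≠ 1 := by
        intro hh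
        have h1 : s = 1 := hφ ((congrArg Subtype.val hh).trans (map_one φ).symm)
        have := congr_fun₂ (congrArg Subtype.val h1) i i
        simp [s, Matrix.SpecialLinearGroup.diag2n_coe] at this
        exact h11 this
      apply hs1
      have hcop : (Nat.card ↥(Cfsg.oddCore ↥C)).Coprime 2 := CfsgLib.PCore.pPrimeCore_coprime
      have h1 : (⟨φC s, hs⟩ : ↥(Cfsg.oddCore ↥C)) ^ 2 = 1 := Subtype.ext (by simp [← map_pow, hs2])
      have h5 := Nat.dvd_gcd (orderOf_dvd_natCard (⟨φC s, hs⟩ : ↥(Cfsg.oddCore ↥C))) (orderOf_dvd_of_pow_eq_one h1)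
      rw [hcop] at h5
      exact congrArg Subtype.val (orderOf_eq_one_iff.mp (Nat.dvd_one.mp h5))
    · exact ⟨_, h.1, h.2⟩

end Cfsg.Agent.S1340
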