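import Cfsg.Statements.S1343
import Cfsg.Agent.Lib.Components.ExtendedTwoLayer

set_option autoImplicit false
open Cfsg
open scoped commutatorElement Pointwise

namespace Cfsg.Agent.S1343

/-- Let X be finite. Then L*_{2'}(X) = L_{2'}(X) ⊔ F for some subgroup F of odd order normalized by a Sylow 2-subgroup of X. -/
theorem result {X : Type*} [Group X] [Finite X] : ∃ F : Subgroup X, Odd (Nat.card ↥F) ∧ (∃ S : Sylow 2 X, (S : Subgroup X) ≤ Subgroup.normalizer (F : Set X)) ∧ Cfsg.extendedTwoLayer X = Cfsg.pLayer 2 X ⊔ F := by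
  haveI : Fact (Nat.Prime 2) := ⟨Nat.prime_two⟩
  haveI hMn := CfsgLib.Components39.twoLayerTop_normal (G := X)
  set M := CfsgLib.Components39.twoLayerTop X with hM
  obtain ⟨T⟩ := (inferInstance : Nonempty (Sylow 2 ↥M))
  set T' := CfsgLib.Components39.sylowIn T with hT'
  have hTp : IsPGroup 2 ↥T' := T.isPGroup'.map _
  obtain ⟨S, hS⟩ := hTp.exists_le_sylow
  have hTS : (S : Subgroup X).comap M.subtype = (T : Subgroup ↥M) :=
    T.is_maximal' (S.isPGroup'.comap_of_injective _ (Subgroup.subtype_injective M))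
      fun x hx => hS (Subgroup.mem_map_of_mem _ hx)
  have hSN : (S : Subgroup X) ≤ Subgroup.normalizer (T' : Set X) := by
    refine Subgroup.le_normalizer_iff.mpr ?_
    rintro s hs _ ⟨x, hx, rfl⟩
    refine ⟨⟨s * x * s⁻¹, hMn.conj_mem _ x.2 s⟩, ?_, rfl⟩
    rw [SetLike.mem_coe, ← hTS] at hx ⊢
    exact mul_mem (mul_mem hs hx) (inv_mem hs)
  refine ⟨Cfsg.oddCore X ⊔ CfsgLib.Components39.coreCent T', ?_, ⟨S, ?_⟩, ?_⟩
  · have h : (Nat.card ↥(Cfsg.oddCore X ⊔ CfsgLib.Components39.coreCent T')).Coprime 2 :=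
      Nat.Coprime.coprime_dvd_left (CfsgLib.PCore.card_sup_dvd_mul _ _)
        (Nat.Coprime.mul_left CfsgLib.PCore.pPrimeCore_coprime (CfsgLib.Components39.coreCent_coprime T'))
    exact Nat.coprime_two_right.mp h
  · exact CfsgLib.Structure.le_normalizer_sup_of_le Subgroup.le_normalizer_of_normal
      (hSN.trans (CfsgLib.Components39.normalizer_le_normalizer_coreCent T'))
  · rw [CfsgLib.Components39.extendedTwoLayer_eq T, ← sup_assoc]

end Cfsg.Agent.S1343
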