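import Cfsg.Statements.S1348
import Cfsg.Agent.Lib.Components.SLQuasisimple

set_option autoImplicit false
open Cfsg
open scoped commutatorElement Pointwise

namespace Cfsg.Agent.S1348
theorem mem_normalizer_of_conj {X : Type*} [Group X] [Finite X] {K : Subgroup X} {g : X}
    (h : ∀ k ∈ K, g * k * g⁻¹ ∈ K) : g ∈ Subgroup.normalizer (K : Set X) :=
  Subgroup.mem_normalizer_fintype (S := (K : Set X)) h

/-- Let F be a finite field of odd order, n ≥ 7 odd, and t ∈ SL(n, F) the diagonal matrix with entries −1, …, −1, 1. Then E(C(t)) is a standard subgroup of SL(n, F). -/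
theorem result {F : Type*} [Field F] [Fintype F] [DecidableEq F] (hF : Odd (Fintype.card F)) (n : ℕ) (hn : 7 ≤ n) (hodd : Odd n) (t : Matrix.SpecialLinearGroup (Fin n) F) (ht : (t : Matrix (Fin n) (Fin n) F) = Matrix.diagonal (fun i : Fin n => if (i : ℕ) + 1 = n then (1 : F) else -1)) : Cfsg.IsStandardSubgroup ((Cfsg.layer ↥(Subgroup.centralizer ({t} : Set (Matrix.SpecialLinearGroup (Fin n) F)))).map (Subgroup.centralizer ({t} : Set (Matrix.SpecialLinearGroup (Fin n) F))).subtype) := by
  obtain ⟨m, rfl⟩ : ∃ m, n = m + 1 := ⟨n - 1, by omega⟩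
  have hm : Even m := by rw [Nat.odd_add_one] at hodd; exact Nat.not_odd_iff_even.mp hodd
  have h2 : (2 : F) ≠ 0 := Ring.two_ne_zero fun hc => by
    have := FiniteField.even_card_of_char_two hc
    rw [Nat.odd_iff] at hF
    omega
  set e : Fin m ⊕ Fin 1 ≃ Fin (m + 1) := finSumFinEquiv with he
  have htv : (t : Matrix (Fin (m + 1)) (Fin (m + 1)) F) = CfsgLib.Components39.blk e (-1) 1 := by
    rw [ht, ← CfsgLib.Components39.blk_diagonal e]
    have h1 : (fun i : Fin m => if ((e (Sum.inl i) : Fin (m + 1)) : ℕ) + 1 = m + 1 then (1 : F) else -1)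
        = fun _ => -1 := by
      funext i
      rw [if_neg]
      simp [he]
      omega
    rw [h1, if_pos (by simp [he]), ← Matrix.diagonal_one, ← Matrix.diagonal_neg]
  set φ := CfsgLib.Components39.sblk (F := F) e with hφdef
  set C := Subgroup.centralizer ({t} : Set (Matrix.SpecialLinearGroup (Fin (m + 1)) F)) with hC
  have hKC : φ.range ≤ C := by
    rintro _ ⟨A, rfl⟩
    refine Subgroup.mem_centralizer_singleton_iff.mpr (Subtype.ext ?_)
    rw [Matrix.SpecialLinearGroup.coe_mul, Matrix.SpecialLinearGroup.coe_mul, htv]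
    exact (CfsgLib.Components39.commute_blk_neg_one e _ _).symm
  have hnorm : C ≤ Subgroup.normalizer (φ.range : Set (Matrix.SpecialLinearGroup (Fin (m + 1)) F)) := by
    intro g hg
    refine mem_normalizer_of_conj ?_
    rintro _ ⟨X, rfl⟩
    have hg' : ((g * t : Matrix.SpecialLinearGroup (Fin (m + 1)) F) : Matrix (Fin (m + 1)) (Fin (m + 1)) F) = ((t * g : Matrix.SpecialLinearGroup (Fin (m + 1)) F) : Matrix (Fin (m + 1)) (Fin (m + 1)) F) := congrArg (fun z : Matrix.SpecialLinearGroup (Fin (m + 1)) F => (z : Matrix (Fin (m + 1)) (Fin (m + 1)) F)) (Subgroup.mem_centralizer_singleton_iff.mp hg)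
    rw [Matrix.SpecialLinearGroup.coe_mul, Matrix.SpecialLinearGroup.coe_mul, htv] at hg'
    obtain ⟨Y, hY⟩ := CfsgLib.Components39.exists_conj_sblk e h2 (by rw [g.2]; exact one_ne_zero) hg'.symm X
    refine ⟨Y, ?_⟩
    rw [eq_mul_inv_iff_mul_eq]
    exact Subtype.ext hY.symm
  haveI : Nontrivial (Fin m) := Fin.nontrivial_iff_two_le.mpr (by omega)
  have hcent : ∀ g ∈ Subgroup.centralizer (φ.range : Set (Matrix.SpecialLinearGroup (Fin (m + 1)) F)), ∃ l a : F,
      (g : Matrix (Fin (m + 1)) (Fin (m + 1)) F) = CfsgLib.Components39.blk e (Matrix.scalar (Fin m) l) a :=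
    fun g hg => CfsgLib.Components39.eq_blk_scalar_of_commute e fun A =>
      congrArg Subtype.val (Subgroup.mem_centralizer_iff.mp hg (φ A) ⟨A, rfl⟩)
  have hcomm : ∀ g ∈ Subgroup.centralizer (φ.range : Set (Matrix.SpecialLinearGroup (Fin (m + 1)) F)), ∀ h ∈ Subgroup.centralizer (φ.range : Set (Matrix.SpecialLinearGroup (Fin (m + 1)) F)),
      g * h = h * g := by
    intro g hg h hh
    obtain ⟨l, a, e1⟩ := hcent g hg
    obtain ⟨l', a', e2⟩ := hcent h hh
    apply Subtype.ext
    rw [Matrix.SpecialLinearGroup.coe_mul, Matrix.SpecialLinearGroup.coe_mul, e1, e2,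
      CfsgLib.Components39.blk_mul, CfsgLib.Components39.blk_mul, ← map_mul, ← map_mul, mul_comm l, mul_comm a]
  have hq : Cfsg.IsQuasisimple ↥φ.range := CfsgLib.Components.isQuasisimple_of_mulEquiv
    (CfsgLib.Components39.sl_isQuasisimple (F := F) (n := m) (by omega) fun h => by omega)
    (MonoidHom.ofInjective (CfsgLib.Components39.sblk_injective e))
  have hnab : ∀ H : Subgroup (Matrix.SpecialLinearGroup (Fin (m + 1)) F), Cfsg.IsQuasisimple ↥H → ¬ H ≤ Subgroup.centralizer (φ.range : Set (Matrix.SpecialLinearGroup (Fin (m + 1)) F)) := by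
    intro H hH hle
    exact CfsgLib.Components.quasisimple_not_isMulCommutative hH
      ⟨⟨fun x y => Subtype.ext (hcomm x (hle x.2) y (hle y.2))⟩⟩
  have hcomp : Cfsg.IsComponent (φ.range.subgroupOf C) := by
    haveI : (φ.range.subgroupOf C).Normal := (Subgroup.normal_subgroupOf_iff_le_normalizer hKC).mpr hnorm
    exact ⟨Subgroup.Normal.isSubnormal inferInstance,
      CfsgLib.Components.isQuasisimple_of_mulEquiv hq (Subgroup.subgroupOfEquivOfLe hKC).symm⟩
  have hlayer : (Cfsg.layer ↥C).map C.subtype = φ.range := by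
    apply le_antisymm
    · rw [Subgroup.map_le_iff_le_comap]
      refine sSup_le fun K hK => ?_
      obtain rfl | hne := eq_or_ne K (φ.range.subgroupOf C)
      · exact le_rfl
      exfalso
      refine hnab (K.map C.subtype) (CfsgLib.Components.isQuasisimple_of_mulEquiv hK.2
        (K.equivMapOfInjective C.subtype C.subtype_injective)) ?_
      have h := CfsgLib.Components.commutator_components_eq_bot hK hcomp hne
      rintro _ ⟨k, hk, rfl⟩
      rw [Subgroup.mem_centralizer_iff]
      intro x hx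
      have := commutatorElement_eq_one_iff_mul_comm.mp ((Subgroup.eq_bot_iff_forall _).mp h _
        (Subgroup.commutator_mem_commutator hk (show (⟨x, hKC hx⟩ : ↥C) ∈ φ.range.subgroupOf C from hx)))
      exact (congrArg Subtype.val this).symm
    · exact le_trans (Subgroup.map_subgroupOf_eq_of_le hKC).ge
        (Subgroup.map_mono (CfsgLib.Components.component_le_layer hcomp))
  rw [hlayer]
  have htK : t ∈ Subgroup.centralizer (φ.range : Set (Matrix.SpecialLinearGroup (Fin (m + 1)) F)) := Subgroup.mem_centralizer_iff.mpr fun x hx =>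
    Subgroup.mem_centralizer_singleton_iff.mp (hKC hx)
  have ht1 : t ≠ 1 := fun h => by
    have h' : (t : Matrix (Fin (m + 1)) (Fin (m + 1)) F) = ((1 : Matrix.SpecialLinearGroup (Fin (m + 1)) F) : Matrix (Fin (m + 1)) (Fin (m + 1)) F) := congrArg (fun z : Matrix.SpecialLinearGroup (Fin (m + 1)) F => (z : Matrix (Fin (m + 1)) (Fin (m + 1)) F)) h
    rw [htv, Matrix.SpecialLinearGroup.coe_one, ← CfsgLib.Components39.blk_one e] at h'
    have := congr_fun₂ (CfsgLib.Components39.blk_injective e h').1 ⟨0, by omega⟩ ⟨0, by omega⟩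
    simp at this
    exact h2 (by linear_combination -this)
  have ht2 : t ^ 2 = 1 := by
    apply Subtype.ext
    rw [pow_two, Matrix.SpecialLinearGroup.coe_mul, htv, CfsgLib.Components39.blk_mul]
    simp [CfsgLib.Components39.blk_one]
  have huniq : ∀ x ∈ Subgroup.centralizer (φ.range : Set (Matrix.SpecialLinearGroup (Fin (m + 1)) F)), x ^ 2 = 1 → x ≠ 1 → x = t := by
    intro x hx hx2 hx1
    obtain ⟨l, a, e1⟩ := hcent x hx
    have hx2' : ((x ^ 2 : Matrix.SpecialLinearGroup (Fin (m + 1)) F) : Matrix (Fin (m + 1)) (Fin (m + 1)) F) = ((1 : Matrix.SpecialLinearGroup (Fin (m + 1)) F) : Matrix (Fin (m + 1)) (Fin (m + 1)) F) := congrArg (fun z : Matrix.SpecialLinearGroup (Fin (m + 1)) F => (z : Matrix (Fin (m + 1)) (Fin (m + 1)) F)) hx2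
    rw [pow_two, Matrix.SpecialLinearGroup.coe_mul, e1, CfsgLib.Components39.blk_mul, ← map_mul,
      Matrix.SpecialLinearGroup.coe_one, ← CfsgLib.Components39.blk_one e] at hx2'
    obtain ⟨hl, ha⟩ := CfsgLib.Components39.blk_injective e hx2'
    rw [← map_one (Matrix.scalar (Fin m)), Matrix.scalar_inj] at hl
    have hdet := x.2
    rw [e1, CfsgLib.Components39.det_blk, Matrix.scalar_apply, Matrix.det_diagonal, Finset.prod_const,
      Finset.card_univ, Fintype.card_fin] at hdet
    obtain ⟨k, rfl⟩ := hm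
    rw [← two_mul, pow_mul, pow_two, hl, one_pow, one_mul] at hdet
    subst hdet
    obtain rfl | rfl := mul_self_eq_one_iff.mp hl
    · exact absurd (Subtype.ext (by rw [e1, map_one, CfsgLib.Components39.blk_one]; rfl)) hx1
    · exact Subtype.ext (by rw [e1, htv, map_neg, map_one])
  have hNC : Subgroup.normalizer (Subgroup.centralizer (φ.range : Set (Matrix.SpecialLinearGroup (Fin (m + 1)) F)) : Set (Matrix.SpecialLinearGroup (Fin (m + 1)) F)) ≤ C := by
    intro g hg
    refine Subgroup.mem_centralizer_singleton_iff.mpr ?_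
    have h := huniq _ ((Subgroup.mem_normalizer_iff.mp hg t).mp htK) (by rw [conj_pow, ht2]; group)
      (fun h => ht1 (conj_eq_one_iff.mp h))
    exact eq_mul_inv_iff_mul_eq.mp h.symm |>.symm
  have hNN : Subgroup.normalizer (φ.range : Set (Matrix.SpecialLinearGroup (Fin (m + 1)) F)) ≤
      Subgroup.normalizer (Subgroup.centralizer (φ.range : Set (Matrix.SpecialLinearGroup (Fin (m + 1)) F)) : Set (Matrix.SpecialLinearGroup (Fin (m + 1)) F)) := by
    intro g hg
    refine mem_normalizer_of_conj ?_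
    intro c hc
    show g * c * g⁻¹ ∈ Subgroup.centralizer (φ.range : Set (Matrix.SpecialLinearGroup (Fin (m + 1)) F))
    rw [Subgroup.mem_centralizer_iff]
    intro x hx
    have h := Subgroup.mem_centralizer_iff.mp hc (g⁻¹ * x * g) ((Subgroup.mem_normalizer_iff''.mp hg x).mp hx)
    calc x * (g * c * g⁻¹) = g * ((g⁻¹ * x * g) * c) * g⁻¹ := by group
      _ = g * c * g⁻¹ * x := by rw [h]; group
  refine ⟨hq, ⟨?_, fun g hg => ?_⟩, fun g _ hbot => ?_, le_antisymm hNN (hNC.trans hnorm)⟩
  · rw [even_iff_two_dvd]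
    refine dvd_trans (dvd_of_eq ?_) (orderOf_dvd_natCard (⟨t, htK⟩ : ↥(Subgroup.centralizer (φ.range : Set (Matrix.SpecialLinearGroup (Fin (m + 1)) F)))))
    rw [← Subgroup.orderOf_coe]
    exact (orderOf_eq_prime ht2 ht1).symm
  · rw [Nat.odd_iff, ← Nat.not_even_iff, even_iff_two_dvd]
    intro h2'
    obtain ⟨x, hx⟩ := exists_prime_orderOf_dvd_card' 2 h2'
    rw [← Subgroup.orderOf_coe, orderOf_eq_prime_iff] at hx
    obtain ⟨y, hy, hyx⟩ := (Subgroup.mem_inf.mp x.2).2
    have hy' : g * y * g⁻¹ = (x : Matrix.SpecialLinearGroup (Fin (m + 1)) F) := hyx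
    have hxt := huniq _ (Subgroup.mem_inf.mp x.2).1 hx.1 hx.2
    have hyt : y = t := huniq y hy (by
      have h := hx.1; rw [← hy', conj_pow, conj_eq_one_iff] at h; exact h) (fun h => hx.2 (by rw [← hy', h]; group))
    rw [hxt, hyt, mul_inv_eq_iff_eq_mul] at hy'
    exact hg (hNN (hnorm (Subgroup.mem_centralizer_singleton_iff.mpr hy')))
  · refine hnab (φ.range.map (MulAut.conj g).toMonoidHom) (CfsgLib.Components.isQuasisimple_of_mulEquiv hq
      ((MulAut.conj g).subgroupMap φ.range)) ?_
    intro x hx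
    rw [Subgroup.mem_centralizer_iff]
    intro y hy
    exact commutatorElement_eq_one_iff_mul_comm.mp ((Subgroup.eq_bot_iff_forall _).mp hbot _
      (Subgroup.commutator_mem_commutator hy hx))

end Cfsg.Agent.S1348
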