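import Cfsg.Statements.S1349
import Cfsg.Agent.Lib.Coprime.HyperplaneGeneration
import Cfsg.Agent.Lib.Coprime.Commutator
import Cfsg.Agent.Lib.Components.ExtendedTwoLayer
import Cfsg.Agent.Lib.Involutions.Basic
import Cfsg.Agent.Lib.OddOrder.Rank

set_option autoImplicit false
open Cfsg
open scoped commutatorElement Pointwise

namespace Cfsg.Agent.S1349
section
open Subgroup

variable {G : Type*} [Group G] [Finite G]

theorem mul_mem_of_relIndex_two {A B : Subgroup G} (h : B.relIndex A = 2) {a b : G} (ha : a ∈ A)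
    (hb : b ∈ A) (ha' : a ∉ B) (hb' : b ∉ B) : a * b ∈ B := by
  have h2 := (Subgroup.mul_mem_iff_of_index_two (H := B.subgroupOf A) h (a := ⟨a, ha⟩) (b := ⟨b, hb⟩)).mpr
  simp only [mem_subgroupOf, Subgroup.coe_mul] at h2
  exact h2 (iff_of_false ha' hb')

theorem commute_pow_iff_of_odd {x : G} (hx : Odd (orderOf x)) (h : x * x = 1) : x = 1 := by
  rw [← orderOf_eq_one_iff]
  have h2 : orderOf x ∣ 2 := orderOf_dvd_of_pow_eq_one (by rw [pow_two, h])
  rcases (Nat.dvd_prime Nat.prime_two).mp h2 with h' | h'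
  · exact h'
  · rw [h'] at hx; exact absurd hx (by decide)

theorem odd_orderOf_of_mem {M : Subgroup G} (hM : Odd (Nat.card ↥M)) {x : G} (hx : x ∈ M) :
    Odd (orderOf x) :=
  hM.of_dvd_nat (orderOf_dvd_natCard M hx)

variable {A F : Subgroup G}

/-- A maximal abelian normal `A`-invariant subgroup of a nilpotent group of odd order is its own
centralizer. -/
theorem exists_selfcentralizing (hA : Cfsg.IsElementaryAbelian 2 A) (hA1 : A ≠ ⊥)
    (hFn : Group.IsNilpotent ↥F) (hFodd : Odd (Nat.card ↥F)) (hAF : A ≤ normalizer (F : Set G)) :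
    ∃ M : Subgroup G, M ≤ F ∧ (∀ x ∈ M, ∀ y ∈ M, x * y = y * x) ∧
      F ≤ normalizer (M : Set G) ∧ A ≤ normalizer (M : Set G) ∧
      F ⊓ centralizer (M : Set G) ≤ M := by
  haveI : Fact (Nat.Prime 2) := ⟨Nat.prime_two⟩
  haveI := hA.1
  obtain ⟨M, -, hMmax⟩ := (Set.toFinite {X : Subgroup G | X ≤ F ∧ (∀ x ∈ X, ∀ y ∈ X, x * y = y * x) ∧
    F ≤ normalizer (X : Set G) ∧ A ≤ normalizer (X : Set G)}).exists_le_maximal
    (a := (⊥ : Subgroup G)) ⟨bot_le, by
      intro x hx y hy; rw [mem_bot.mp hx, mem_bot.mp hy], le_normalizer_of_normal,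
      le_normalizer_of_normal⟩
  obtain ⟨⟨hMF, hMab, hFM, hAM⟩, hmax⟩ := hMmax
  refine ⟨M, hMF, hMab, hFM, hAM, ?_⟩
  by_contra hC
  set C := F ⊓ centralizer (M : Set G) with hCdef
  have hMC : M ≤ C := le_inf hMF fun x hx => mem_centralizer_iff.mpr fun y hy => hMab y hy x hx
  have hFC : F ≤ normalizer (C : Set G) := by
    refine le_normalizer_iff.mpr fun f hf c hc' => ?_
    have hc := mem_inf.mp hc'
    refine mem_inf.mpr ⟨F.mul_mem (F.mul_mem hf hc.1) (F.inv_mem hf), ?_⟩
    exact le_normalizer_iff.mp ((CfsgLib.Components39.normalizer_le_normalizer_centralizer' M))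
      f (hFM hf) c hc.2
  -- elements of `C` central modulo `M`
  let D : Subgroup G :=
    { carrier := {x | x ∈ C ∧ ∀ f ∈ F, f * x * f⁻¹ * x⁻¹ ∈ M}
      one_mem' := ⟨one_mem _, fun f _ => by simp⟩
      mul_mem' := fun {x y} hx hy => ⟨mul_mem hx.1 hy.1, fun f hf => by
        have h1 := hx.2 f hf
        have h2 := (mem_normalizer_iff.mp (hFM (hx.1.1)) _).mp (hy.2 f hf)
        have e : f * (x * y) * f⁻¹ * (x * y)⁻¹ =
            (f * x * f⁻¹ * x⁻¹) * (x * (f * y * f⁻¹ * y⁻¹) * x⁻¹) := by group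
        rw [e]; exact mul_mem h1 h2⟩
      inv_mem' := fun {x} hx => ⟨inv_mem hx.1, fun f hf => by
        have h1 := (mem_normalizer_iff.mp (hFM (inv_mem hx.1.1)) _).mp (inv_mem (hx.2 f hf))
        have e : f * x⁻¹ * f⁻¹ * x⁻¹⁻¹ = x⁻¹ * (f * x * f⁻¹ * x⁻¹)⁻¹ * x⁻¹⁻¹ := by group
        rw [e]; exact h1⟩ }
  have hD : ∀ x, x ∈ D ↔ x ∈ C ∧ ∀ f ∈ F, f * x * f⁻¹ * x⁻¹ ∈ M := fun x => Iff.rfl
  have hDM : ¬ D ≤ M := by
    intro hle
    haveI : (M.subgroupOf F).Normal := (normal_subgroupOf_iff_le_normalizer hMF).mpr hFM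
    set f := QuotientGroup.mk' (M.subgroupOf F)
    haveI : Group.IsNilpotent ↥F := hFn
    set N := (C.subgroupOf F).map f with hN
    haveI hNn : N.Normal :=
      ((normal_subgroupOf_iff_le_normalizer inf_le_left).mpr hFC).map f (QuotientGroup.mk'_surjective _)
    have hN1 : N ≠ ⊥ := by
      intro h
      rw [hN, Subgroup.map_eq_bot_iff, QuotientGroup.ker_mk'] at h
      exact hC fun x hx => h (x := ⟨x, hx.1⟩) hx
    obtain ⟨z, hzN, hzc, hz1⟩ := CfsgLib.Coprime39.exists_central_mem N hN1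
    obtain ⟨⟨x, hxF⟩, hx, rfl⟩ := hzN
    have hxD : x ∈ D := by
      rw [hD]
      refine ⟨hx, fun g hg => ?_⟩
      have h := mem_center_iff.mp hzc (f ⟨g, hg⟩)
      have h' : f (⟨g, hg⟩ * ⟨x, hxF⟩ * ⟨g, hg⟩⁻¹ * ⟨x, hxF⟩⁻¹) = 1 := by
        simp only [map_mul, map_inv]
        rw [h]; group
      exact mem_subgroupOf.mp ((QuotientGroup.eq_one_iff _).mp h')
    exact hz1 ((QuotientGroup.eq_one_iff _).mpr (mem_subgroupOf.mpr (hle hxD)))
  have hAD : A ≤ normalizer (D : Set G) := by
    refine le_normalizer_iff.mpr fun a ha x hx => ?_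
    rw [hD] at hx ⊢
    refine ⟨⟨(mem_normalizer_iff.mp (hAF ha) x).mp hx.1.1,
      le_normalizer_iff.mp ((CfsgLib.Components39.normalizer_le_normalizer_centralizer' M))
        a (hAM ha) x hx.1.2⟩, fun f hf => ?_⟩
    have h := (mem_normalizer_iff.mp (hAM ha) _).mp
      (hx.2 (a⁻¹ * f * a) ((mem_normalizer_iff''.mp (hAF ha) f).mp hf))
    have e : f * (a * x * a⁻¹) * f⁻¹ * (a * x * a⁻¹)⁻¹ =
        a * (a⁻¹ * f * a * x * (a⁻¹ * f * a)⁻¹ * x⁻¹) * a⁻¹ := by group
    rw [e]; exact h
  have hDodd : (Nat.card ↥D).Coprime 2 :=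
    Nat.coprime_two_right.mpr (hFodd.of_dvd_nat (card_dvd_of_le fun x hx => hx.1.1))
  obtain ⟨B, x, hxB, hxM⟩ : ∃ B : {B : Subgroup G // B ≤ A ∧ B.relIndex A = 2}, ∃ x ∈
      D ⊓ centralizer ((B : Subgroup G) : Set G), x ∉ M := by
    by_contra h
    push Not at h
    apply hDM
    rw [← CfsgLib.Coprime39.eq_hyperCent hA hA1 hDodd hAD]
    exact iSup_le fun B => h B
  -- adjoining a suitable element contradicts maximality
  have extend : ∀ z ∈ D, z ∉ M → (∀ a ∈ A, a * z * a⁻¹ ∈ M ⊔ zpowers z) → False := by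
    intro z hz hzM hzA
    have hz' := (hD z).mp hz
    apply hzM
    have hle : M ⊔ zpowers z ≤ M := by
      refine hmax ⟨sup_le hMF (zpowers_le.mpr hz'.1.1), ?_, ?_, ?_⟩ le_sup_left
      · have hc : M ⊔ zpowers z ≤ centralizer ((M ⊔ zpowers z : Subgroup G) : Set G) := by
          have h1 : zpowers z ≤ centralizer (M : Set G) := zpowers_le.mpr hz'.1.2
          refine sup_le (le_centralizer_iff.mp (sup_le ?_ h1)) (le_centralizer_iff.mp (sup_le ?_ ?_))
          · exact fun x hx => mem_centralizer_iff.mpr fun y hy => hMab y hy x hx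
          · exact le_centralizer_iff.mp h1
          · exact le_centralizer (zpowers z)
        exact fun x hx y hy => (mem_centralizer_iff.mp (hc hy) x hx)
      · refine le_normalizer_iff.mpr fun f hf w hw => ?_
        suffices h : M ⊔ zpowers z ≤ (M ⊔ zpowers z).comap (MulAut.conj f).toMonoidHom by
          simpa [MulAut.conj_apply] using h hw
        refine sup_le (fun m hm => mem_sup_left ((mem_normalizer_iff.mp (hFM hf) m).mp hm))
          (zpowers_le.mpr ?_)
        have h := mul_mem (mem_sup_left (T := zpowers z) (hz'.2 f hf)) (mem_sup_right (mem_zpowers z))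
        simpa [MulAut.conj_apply] using h
      · refine le_normalizer_iff.mpr fun a ha w hw => ?_
        suffices h : M ⊔ zpowers z ≤ (M ⊔ zpowers z).comap (MulAut.conj a).toMonoidHom by
          simpa [MulAut.conj_apply] using h hw
        refine sup_le (fun m hm => mem_sup_left ((mem_normalizer_iff.mp (hAM ha) m).mp hm))
          (zpowers_le.mpr ?_)
        simpa [MulAut.conj_apply] using hzA a ha
    exact hle (mem_sup_right (mem_zpowers z))
  obtain ⟨hxD, hxc⟩ := mem_inf.mp hxB
  obtain ⟨a, haA, haB⟩ : ∃ a ∈ A, a ∉ (B : Subgroup G) := by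
    refine SetLike.not_le_iff_exists.mp fun h => ?_
    have h2 := B.2.2
    rw [relIndex_eq_one.mpr h] at h2
    exact absurd h2 (by norm_num)
  have hfix : ∀ b ∈ (B : Subgroup G), b * x * b⁻¹ = x := fun b hb => by
    rw [mem_centralizer_iff.mp hxc b hb, mul_inv_cancel_right]
  have hoff : ∀ b ∈ A, b ∉ (B : Subgroup G) → b * x * b⁻¹ = a * x * a⁻¹ := by
    intro b hb hbB
    have h1 := mul_mem_of_relIndex_two B.2.2 haA hb haB hbB
    have h2 := hfix _ h1
    have h3 : a * a = 1 := by rw [← pow_two]; exact hA.2 a haA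
    have h4 : a⁻¹ = a := inv_eq_of_mul_eq_one_right h3
    calc b * x * b⁻¹ = a⁻¹ * (a * b * x * (a * b)⁻¹) * a := by group
      _ = a * x * a⁻¹ := by rw [h2, h4]
  set y := x⁻¹ * (a * x * a⁻¹) with hy
  by_cases hyM : y ∈ M
  · refine extend x hxD hxM fun b hb => ?_
    by_cases hbB : b ∈ (B : Subgroup G)
    · rw [hfix b hbB]; exact mem_sup_right (mem_zpowers x)
    · rw [hoff b hb hbB]
      have h := mul_mem (mem_sup_right (S := M) (mem_zpowers x)) (mem_sup_left hyM)
      simpa [hy] using h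
  · refine extend y (mul_mem (inv_mem hxD) ((mem_normalizer_iff.mp (hAD haA) x).mp hxD)) hyM
      fun b hb => ?_
    have hbx : b * (a * x * a⁻¹) * b⁻¹ = a * (b * x * b⁻¹) * a⁻¹ := by
      have hab : a * b = b * a := setLike_mul_comm haA hb
      calc b * (a * x * a⁻¹) * b⁻¹ = (b * a) * x * (b * a)⁻¹ := by group
        _ = a * b * x * (a * b)⁻¹ := by rw [hab]
        _ = a * (b * x * b⁻¹) * a⁻¹ := by group
    have e : b * y * b⁻¹ = (b * x * b⁻¹)⁻¹ * (b * (a * x * a⁻¹) * b⁻¹) := by rw [hy]; group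
    rw [e, hbx]
    by_cases hbB : b ∈ (B : Subgroup G)
    · rw [hfix b hbB, ← hy]; exact mem_sup_right (mem_zpowers y)
    · have h4 : a⁻¹ = a := inv_eq_of_mul_eq_one_right (by rw [← pow_two]; exact hA.2 a haA)
      have e2 : (a * x * a⁻¹)⁻¹ * (a * (a * x * a⁻¹) * a⁻¹) = y⁻¹ := by
        rw [hy]
        calc (a * x * a⁻¹)⁻¹ * (a * (a * x * a⁻¹) * a⁻¹)
            = (a * x * a⁻¹)⁻¹ * ((a * a) * x * (a⁻¹ * a⁻¹)) := by group
          _ = (a * x * a⁻¹)⁻¹ * x := by
              have h5 : a * a = 1 := by rw [← pow_two]; exact hA.2 a haA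
              rw [h4, h5]; group
          _ = (x⁻¹ * (a * x * a⁻¹))⁻¹ := by group
      rw [hoff b hb hbB, e2]
      exact mem_sup_right (inv_mem (mem_zpowers y))

/-- A basis of `A` with eigenvectors in the abelian group `M`. -/
theorem exists_basis {M : Subgroup G} (hMab : ∀ x ∈ M, ∀ y ∈ M, x * y = y * x)
    (hModd : Odd (Nat.card ↥M)) :
    ∀ (d : ℕ) (A : Subgroup G), Cfsg.IsElementaryAbelian 2 A → Nat.card ↥A = 2 ^ d →
      A ≤ normalizer (M : Set G) → A ⊓ centralizer (M : Set G) = ⊥ →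
      ∃ a y : Fin d → G, (∀ i, a i ∈ A ∧ a i ≠ 1 ∧ y i ∈ M ∧ y i ≠ 1 ∧ a i * y i * (a i)⁻¹ = (y i)⁻¹) ∧
        (∀ i j, i ≠ j → a i * y j = y j * a i) ∧ closure (Set.range a) = A := by
  haveI : Fact (Nat.Prime 2) := ⟨Nat.prime_two⟩
  intro d
  induction d with
  | zero =>
    intro A hA hcard _ _
    refine ⟨Fin.elim0, Fin.elim0, fun i => i.elim0, fun i => i.elim0, ?_⟩
    rw [show A = ⊥ from card_eq_one.mp (by simpa using hcard)]
    simp
  | succ d ih =>
    intro A hA hcard hAM hf
    haveI := hA.1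
    have hA1 : A ≠ ⊥ := by
      intro h; rw [h, card_bot] at hcard
      exact absurd hcard (ne_of_lt (Nat.one_lt_pow (by omega) (by norm_num)))
    have hinv : ∀ a ∈ A, a⁻¹ = a := fun a ha =>
      inv_eq_of_mul_eq_one_right (by rw [← pow_two]; exact hA.2 a ha)
    obtain ⟨B, x, hxB, hxA⟩ : ∃ B : {B : Subgroup G // B ≤ A ∧ B.relIndex A = 2}, ∃ x ∈
        M ⊓ centralizer ((B : Subgroup G) : Set G), x ∉ centralizer (A : Set G) := by
      by_contra h
      push Not at h
      apply hA1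
      rw [eq_bot_iff, ← hf]
      refine le_inf le_rfl (le_centralizer_iff.mp ?_)
      rw [← CfsgLib.Coprime39.eq_hyperCent hA hA1 (Nat.coprime_two_right.mpr hModd) hAM]
      exact iSup_le fun B => h B
    obtain ⟨hxM, hxc⟩ := mem_inf.mp hxB
    obtain ⟨a, haA, hax⟩ : ∃ a ∈ A, a * x ≠ x * a := by
      by_contra h
      push Not at h
      exact hxA (mem_centralizer_iff.mpr h)
    have haB : a ∉ (B : Subgroup G) := fun h => hax (mem_centralizer_iff.mp hxc a h)
    have hBcard : Nat.card ↥(B : Subgroup G) = 2 ^ d := by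
      have h := Subgroup.relIndex_mul_relIndex ⊥ (B : Subgroup G) A bot_le B.2.1
      rw [relIndex_bot_left, relIndex_bot_left, B.2.2, hcard, pow_succ] at h
      exact Nat.eq_of_mul_eq_mul_right (by norm_num) h
    have hBel : Cfsg.IsElementaryAbelian 2 (B : Subgroup G) :=
      CfsgLib.OddOrder.elemAb_mono hA B.2.1
    obtain ⟨a', y', h1, h2, h3⟩ := ih B hBel hBcard (B.2.1.trans hAM)
      (le_bot_iff.mp ((inf_le_inf_right _ B.2.1).trans hf.le))
    -- the conjugation action on `M`
    have hconj : ∀ b ∈ A, ∀ z ∈ M, b * z * b⁻¹ ∈ M := fun b hb z hz =>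
      (mem_normalizer_iff.mp (hAM hb) z).mp hz
    have hy' : ∀ i, ∃ z ∈ M, z ≠ 1 ∧ (a * z * a⁻¹ = z ∨ a * z * a⁻¹ = z⁻¹) ∧
        a' i * z * (a' i)⁻¹ = z⁻¹ ∧ ∀ j, j ≠ i → a' j * z = z * a' j := by
      intro i
      obtain ⟨hai, -, hyM, hy1, hinvi⟩ := h1 i
      set u := a * y' i * a⁻¹ with hu
      have huM : u ∈ M := hconj a haA _ hyM
      have hcu : ∀ b ∈ A, b * u * b⁻¹ = a * (b * y' i * b⁻¹) * a⁻¹ := by
        intro b hb
        have hab : a * b = b * a := setLike_mul_comm haA hb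
        calc b * u * b⁻¹ = (b * a) * y' i * (b * a)⁻¹ := by rw [hu]; group
          _ = (a * b) * y' i * (a * b)⁻¹ := by rw [hab]
          _ = a * (b * y' i * b⁻¹) * a⁻¹ := by group
      have huu : a * u * a⁻¹ = y' i := by
        have h5 : a * a = 1 := by rw [← pow_two]; exact hA.2 a haA
        rw [hu]
        calc a * (a * y' i * a⁻¹) * a⁻¹ = (a * a) * y' i * (a * a)⁻¹ := by group
          _ = y' i := by rw [h5]; group
      have hai' := B.2.1 hai
      have hj : ∀ j, j ≠ i → a' j * y' i * (a' j)⁻¹ = y' i ∧ a' j * u * (a' j)⁻¹ = u := by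
        intro j hj
        have e : a' j * y' i * (a' j)⁻¹ = y' i := by rw [h2 j i hj, mul_inv_cancel_right]
        exact ⟨e, by rw [hcu _ (B.2.1 (h1 j).1), e]⟩
      have hiu : a' i * u * (a' i)⁻¹ = u⁻¹ := by rw [hcu _ hai', hinvi, hu]; group
      by_cases hprod : y' i * u = 1
      · refine ⟨y' i, hyM, hy1, Or.inr ?_, hinvi, fun j hj => h2 j i hj⟩
        exact eq_inv_of_mul_eq_one_right hprod
      · refine ⟨y' i * u, mul_mem hyM huM, hprod, Or.inl ?_, ?_, ?_⟩
        · calc a * (y' i * u) * a⁻¹ = u * (a * u * a⁻¹) := by rw [hu]; group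
            _ = u * y' i := by rw [huu]
            _ = y' i * u := hMab _ huM _ hyM
        · calc a' i * (y' i * u) * (a' i)⁻¹ = (a' i * y' i * (a' i)⁻¹) * (a' i * u * (a' i)⁻¹) := by group
            _ = (y' i)⁻¹ * u⁻¹ := by rw [hinvi, hiu]
            _ = (u * y' i)⁻¹ := by group
            _ = (y' i * u)⁻¹ := by rw [hMab _ huM _ hyM]
        · intro j hji
          obtain ⟨e1, e2⟩ := hj j hji
          calc a' j * (y' i * u) = (a' j * y' i * (a' j)⁻¹) * (a' j * u * (a' j)⁻¹) * a' j := by group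
            _ = y' i * u * a' j := by rw [e1, e2]
    choose z hzM hz1 hza hzi hzj using hy'
    have hexp : ∀ s : Finset (Fin d), ∃ e ∈ (B : Subgroup G), (∀ i ∈ s, (a * e) * z i = z i * (a * e)) ∧
        ∀ i ∉ s, e * z i = z i * e := by
      intro s
      induction s using Finset.induction_on with
      | empty => exact ⟨1, one_mem _, fun i hi => absurd hi (Finset.notMem_empty i), fun i _ => by simp⟩
      | @insert k s hk ih2 =>
        obtain ⟨e, heB, he1, he2⟩ := ih2
        rcases hza k with hk1 | hk1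
        · refine ⟨e, heB, fun i hi => ?_, fun i hi => he2 i fun h => hi (Finset.mem_insert_of_mem h)⟩
          rcases Finset.mem_insert.mp hi with rfl | hi'
          · calc a * e * z i = a * (e * z i) := mul_assoc _ _ _
              _ = a * z i * e := by rw [he2 i hk, ← mul_assoc]
              _ = (a * z i * a⁻¹) * (a * e) := by group
              _ = z i * (a * e) := by rw [hk1]
          · exact he1 i hi'
        · refine ⟨e * a' k, mul_mem heB (h1 k).1, fun i hi => ?_, fun i hi => ?_⟩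
          · rcases Finset.mem_insert.mp hi with rfl | hi'
            · calc a * (e * a' i) * z i = a * e * (a' i * z i * (a' i)⁻¹) * a' i := by group
                _ = a * (e * (z i)⁻¹) * a' i := by rw [hzi]; group
                _ = a * ((z i)⁻¹ * e) * a' i := by
                    rw [((show Commute e (z i) from he2 i hk).inv_right).eq]
                _ = (a * z i * a⁻¹)⁻¹ * (a * (e * a' i)) := by group
                _ = z i * (a * (e * a' i)) := by rw [hk1, inv_inv]
            · have hne : k ≠ i := fun h => hk (h ▸ hi')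
              calc a * (e * a' k) * z i = a * e * (a' k * z i) := by group
                _ = a * e * z i * a' k := by rw [hzj i k hne]; group
                _ = z i * (a * (e * a' k)) := by rw [he1 i hi']; group
          · rw [Finset.mem_insert, not_or] at hi
            calc e * a' k * z i = e * (a' k * z i) := mul_assoc _ _ _
              _ = (e * z i) * a' k := by rw [hzj i k (Ne.symm hi.1)]; group
              _ = z i * (e * a' k) := by rw [he2 i hi.2]; group
    obtain ⟨e, heB, he, -⟩ := hexp Finset.univ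
    set y₀ := x⁻¹ * (a * x * a⁻¹) with hy₀
    have hy₀B : ∀ b ∈ (B : Subgroup G), b * y₀ = y₀ * b := by
      intro b hb
      have h4 : Commute b x := mem_centralizer_iff.mp hxc b hb
      have h5 : Commute b a := setLike_mul_comm (B.2.1 hb) haA
      exact (h4.inv_right).mul_right ((h5.mul_right h4).mul_right h5.inv_right)
    have hy₀1 : y₀ ≠ 1 := by
      intro h
      rw [hy₀, inv_mul_eq_one] at h
      exact hax (mul_inv_eq_iff_eq_mul.mp h.symm)
    have hy₀inv : (a * e) * y₀ * (a * e)⁻¹ = y₀⁻¹ := by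
      calc (a * e) * y₀ * (a * e)⁻¹ = a * (e * y₀ * e⁻¹) * a⁻¹ := by group
        _ = a * y₀ * a⁻¹ := by rw [hy₀B e heB, mul_inv_cancel_right]
        _ = (a * x * a⁻¹)⁻¹ * ((a * a) * x * (a⁻¹ * a⁻¹)) := by rw [hy₀]; group
        _ = (a * x * a⁻¹)⁻¹ * x := by
            have h5 : a * a = 1 := by rw [← pow_two]; exact hA.2 a haA
            rw [hinv a haA, h5]; group
        _ = y₀⁻¹ := by rw [hy₀]; group
    refine ⟨Fin.cons (a * e) a', Fin.cons y₀ z, ?_, ?_, ?_⟩
    · refine Fin.cases ?_ (fun i => ?_)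
      · refine ⟨mul_mem haA (B.2.1 heB), fun h => haB ?_, mul_mem (inv_mem hxM) (hconj a haA x hxM),
          hy₀1, hy₀inv⟩
        rw [Fin.cons_zero, mul_eq_one_iff_eq_inv] at h
        rw [h]; exact inv_mem heB
      · simp only [Fin.cons_succ]
        exact ⟨B.2.1 (h1 i).1, (h1 i).2.1, hzM i, hz1 i, hzi i⟩
    · refine Fin.cases ?_ (fun i => ?_) <;> refine Fin.cases ?_ (fun j => ?_) <;> intro hij <;>
        simp only [Fin.cons_zero, Fin.cons_succ]
      · exact absurd rfl hij
      · exact he j (Finset.mem_univ j)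
      · exact hy₀B _ (h1 i).1
      · exact hzj j i fun h => hij (h ▸ rfl)
    · refine le_antisymm ((closure_le _).mpr ?_) fun g hg => ?_
      · rintro _ ⟨i, rfl⟩
        revert i
        refine Fin.cases ?_ (fun i => ?_)
        · simpa using mul_mem haA (B.2.1 heB)
        · simpa using B.2.1 (h1 i).1
      · have hBle : (B : Subgroup G) ≤ closure (Set.range (Fin.cons (a * e) a' : Fin (d + 1) → G)) := by
          rw [← h3, closure_le]
          rintro _ ⟨i, rfl⟩
          exact subset_closure ⟨i.succ, by simp⟩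
        have haclo : a * e ∈ closure (Set.range (Fin.cons (a * e) a' : Fin (d + 1) → G)) :=
          subset_closure ⟨0, by simp⟩
        by_cases hgB : g ∈ (B : Subgroup G)
        · exact hBle hgB
        · have hne : a * e ∉ (B : Subgroup G) := fun h => haB (by
            have := mul_mem h (inv_mem heB); simpa using this)
          have h5 := mul_mem_of_relIndex_two B.2.2 (mul_mem haA (B.2.1 heB)) hg hne hgB
          have h6 := mul_mem (inv_mem haclo) (hBle h5)
          rwa [inv_mul_cancel_left] at h6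

end

/-- Let G be finite, L ≤ G solvable of odd order, and A an elementary abelian 2-subgroup of order 2^d (d ≥ 1) normalizing L with C_A(L) = 1. Then there are subgroups A_1, …, A_d of A of order 2 generating A and subgroups L_1, …, L_d of L such that each A_i ⊔ L_i is dihedral of order 2 n_i with n_i odd and at least 3, and A_i ⊔ L_i commutes elementwise with A_j ⊔ L_j for i ≠ j. -/
theorem result {G : Type*} [Group G] [Finite G] (L A : Subgroup G) (hLs : Group.IsSolvable ↥L) (hLodd : Odd (Nat.card ↥L)) (hA : Cfsg.IsElementaryAbelian 2 A) (d : ℕ) (hd : 1 ≤ d) (hAd : Nat.card ↥A = 2 ^ d) (hAL : A ≤ Subgroup.normalizer (L : Set G)) (hfaith : A ⊓ Subgroup.centralizer (L : Set G) = ⊥) : ∃ (Ai : Fin d → Subgroup G) (Li : Fin d → Subgroup G) (n : Fin d → ℕ), (∀ i, Ai i ≤ A ∧ Nat.card ↥(Ai i) = 2 ∧ Li i ≤ L ∧ Odd (n i) ∧ 3 ≤ n i ∧ Nonempty (↥(Ai i ⊔ Li i) ≃* DihedralGroup (n i))) ∧ (⨆ i, Ai i) = A ∧ ∀ i j, i ≠ j → ∀ x ∈ Ai i ⊔ Li i, ∀ y ∈ Ai j ⊔ Li j, x * y = y * x := by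
  classical
  haveI : Fact (Nat.Prime 2) := ⟨Nat.prime_two⟩
  haveI := hA.1
  have hA1 : A ≠ ⊥ := fun h => by
    rw [h, Subgroup.card_bot] at hAd
    exact absurd hAd (ne_of_lt (Nat.one_lt_pow (by omega) (by norm_num)))
  -- the Fitting subgroup
  haveI := CfsgLib.Fitting.fitting_normal (G := ↥L)
  haveI hFc := CfsgLib.Fitting.fitting_characteristic (G := ↥L)
  set F := (Cfsg.fittingSubgroup ↥L).map L.subtype with hF
  have hFL : F ≤ L := Subgroup.map_subtype_le _
  have hLF : L ≤ Subgroup.normalizer (F : Set G) := by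
    refine Subgroup.le_normalizer_iff.mpr ?_
    rintro l hl _ ⟨f, hf, rfl⟩
    exact ⟨⟨l, hl⟩ * f * ⟨l, hl⟩⁻¹, (inferInstance : (Cfsg.fittingSubgroup ↥L).Normal).conj_mem f hf _, rfl⟩
  have hAF : A ≤ Subgroup.normalizer (F : Set G) := by
    intro a ha
    rw [Subgroup.mem_normalizer_iff_map_conj_eq]
    let ea : ↥L ≃* ↥L := (L.equivMapOfInjective _ (MulAut.conj a).injective).trans
      (MulEquiv.subgroupCongr (Subgroup.mem_normalizer_iff_map_conj_eq.mp (hAL ha)))
    show F.map (MulAut.conj a).toMonoidHom = F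
    conv_rhs => rw [hF, ← CfsgLib.Fitting.fitting_map_mulEquiv ea, Subgroup.map_map]
    rw [hF, Subgroup.map_map]
    rfl
  have hFn : Group.IsNilpotent ↥F :=
    CfsgLib.Fitting.isNilpotent_map CfsgLib.Fitting.fitting_isNilpotent L.subtype
  have hFodd : Odd (Nat.card ↥F) := hLodd.of_dvd_nat (Subgroup.card_dvd_of_le hFL)
  have hself : L ⊓ Subgroup.centralizer (F : Set G) ≤ F := by
    intro l hl
    haveI := hLs
    refine ⟨⟨l, hl.1⟩, CfsgLib.Fitting.centralizer_fitting_le ?_, rfl⟩
    rw [Subgroup.mem_centralizer_iff]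
    exact fun y hy => Subtype.ext (Subgroup.mem_centralizer_iff.mp hl.2 _ (Subgroup.mem_map_of_mem _ hy))
  obtain ⟨M, hMF, hMab, hFM, hAM, hMself⟩ := exists_selfcentralizing hA hA1 hFn hFodd hAF
  have cop : ∀ K : Subgroup G, K ≤ L → (Nat.card ↥A).Coprime (Nat.card ↥K) := fun K hK => by
    rw [hAd]
    exact Nat.Coprime.pow_left d (Nat.coprime_two_left.mpr (hLodd.of_dvd_nat (Subgroup.card_dvd_of_le hK)))
  -- `A` is faithful on `M`
  have hfM : A ⊓ Subgroup.centralizer (M : Set G) = ⊥ := by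
    set A₀ := A ⊓ Subgroup.centralizer (M : Set G) with hA₀
    haveI : IsMulCommutative ↥A₀ :=
      ⟨⟨fun a b => Subtype.ext (setLike_mul_comm (Subgroup.mem_inf.mp a.2).1 (Subgroup.mem_inf.mp b.2).1)⟩⟩
    have hcop : ∀ K : Subgroup G, K ≤ L → (Nat.card ↥A₀).Coprime (Nat.card ↥K) := fun K hK =>
      (cop K hK).coprime_dvd_left (Subgroup.card_dvd_of_le inf_le_left)
    have hsolv : Group.IsSolvable ↥A₀ := by open scoped IsMulCommutative in infer_instance
    -- trivial on `F`
    have hcent : ∀ (K N : Subgroup G), K ≤ Subgroup.normalizer (N : Set G) →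
        A₀ ≤ Subgroup.centralizer (N : Set G) → ∀ a ∈ A₀, a ∈ Subgroup.normalizer (K : Set G) →
        ∀ k ∈ K, k⁻¹ * (a * k * a⁻¹) ∈ K ⊓ Subgroup.centralizer (N : Set G) := by
      intro K N hKN hN a ha haK k hk
      refine Subgroup.mem_inf.mpr
        ⟨mul_mem (inv_mem hk) ((Subgroup.mem_normalizer_iff.mp haK k).mp hk), ?_⟩
      rw [Subgroup.mem_centralizer_iff]
      intro n hn
      have hk' : k * n * k⁻¹ ∈ N := (Subgroup.mem_normalizer_iff.mp (hKN hk) n).mp hn
      have e1 : Commute a (k * n * k⁻¹) := (Subgroup.mem_centralizer_iff.mp (hN ha) _ hk').symm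
      have e2 : Commute a n := (Subgroup.mem_centralizer_iff.mp (hN ha) _ hn).symm
      symm
      calc k⁻¹ * (a * k * a⁻¹) * n = k⁻¹ * a * k * (a⁻¹ * n) := by group
        _ = k⁻¹ * a * k * (n * a⁻¹) := by rw [e2.inv_left.eq]
        _ = k⁻¹ * (a * (k * n * k⁻¹)) * k * a⁻¹ := by group
        _ = k⁻¹ * ((k * n * k⁻¹) * a) * k * a⁻¹ := by rw [e1.eq]
        _ = n * (k⁻¹ * (a * k * a⁻¹)) := by group
    have hFc : A₀ ≤ Subgroup.centralizer (F : Set G) :=
      CfsgLib.Coprime.le_centralizer_of_trivial_on_series A₀ F (inf_le_left.trans hAF) (hcop F hFL)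
        (Or.inl hsolv) M hMF inf_le_right
        fun a ha k hk => hMself (hcent F M hFM inf_le_right a ha (hAF (Subgroup.mem_inf.mp ha).1) k hk)
    have hLc : A₀ ≤ Subgroup.centralizer (L : Set G) :=
      CfsgLib.Coprime.le_centralizer_of_trivial_on_series A₀ L (inf_le_left.trans hAL) (hcop L le_rfl)
        (Or.inl hsolv) F hFL hFc
        fun a ha k hk => hself (hcent L F hLF hFc a ha (hAL (Subgroup.mem_inf.mp ha).1) k hk)
    rw [eq_bot_iff, ← hfaith]
    exact le_inf inf_le_left hLc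
  obtain ⟨a, y, h1, h2, h3⟩ :=
    exists_basis hMab (hFodd.of_dvd_nat (Subgroup.card_dvd_of_le hMF)) d A hA hAd hAM hfM
  refine ⟨fun i => Subgroup.zpowers (a i), fun i => Subgroup.zpowers (y i),
    fun i => orderOf (y i), fun i => ?_, ?_, ?_⟩
  · obtain ⟨hai, hai1, hyi, hyi1, hinv⟩ := h1 i
    have hao : orderOf (a i) = 2 := orderOf_eq_prime (hA.2 _ hai) hai1
    have hodd : Odd (orderOf (y i)) :=
      odd_orderOf_of_mem hLodd (hFL (hMF hyi))
    have hayo : orderOf (a i * y i) = 2 := by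
      rw [CfsgLib.Involutions.orderOf_eq_two_iff_mul]
      refine ⟨fun h => ?_, ?_⟩
      · rw [eq_inv_of_mul_eq_one_left h, orderOf_inv] at hao
        rw [hao] at hodd
        exact absurd hodd (by decide)
      · calc a i * y i * (a i * y i) = (a i * y i * (a i)⁻¹) * ((a i * a i) * y i) := by group
          _ = 1 := by rw [hinv, CfsgLib.Involutions.mul_self_eq_one hao]; group
    refine ⟨Subgroup.zpowers_le.mpr hai, by rw [Nat.card_zpowers, hao],
      Subgroup.zpowers_le.mpr (hFL (hMF hyi)), hodd, ?_, ?_⟩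
    · obtain ⟨k, hk⟩ := hodd
      have hne : orderOf (y i) ≠ 1 := fun h => hyi1 (orderOf_eq_one_iff.mp h)
      show 3 ≤ orderOf (y i)
      omega
    · obtain ⟨e⟩ := CfsgLib.Involutions.closure_pair_mulEquiv_dihedral hao hayo
      have heq : Subgroup.zpowers (a i) ⊔ Subgroup.zpowers (y i) =
          Subgroup.closure ({a i, a i * y i} : Set G) := by
        refine le_antisymm (sup_le (Subgroup.zpowers_le.mpr (Subgroup.subset_closure (by simp)))
          (Subgroup.zpowers_le.mpr ?_)) ((Subgroup.closure_le _).mpr ?_)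
        · have h := mul_mem (inv_mem (Subgroup.subset_closure (k := ({a i, a i * y i} : Set G)) (by simp : a i ∈ _)))
            (Subgroup.subset_closure (k := ({a i, a i * y i} : Set G)) (by simp : a i * y i ∈ _))
          simpa using h
        · rintro g (rfl | rfl)
          · exact Subgroup.mem_sup_left (Subgroup.mem_zpowers _)
          · exact mul_mem (Subgroup.mem_sup_left (Subgroup.mem_zpowers _))
              (Subgroup.mem_sup_right (Subgroup.mem_zpowers _))
      have hn : orderOf (a i * (a i * y i)) = orderOf (y i) := by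
        rw [← mul_assoc, CfsgLib.Involutions.mul_self_eq_one hao, one_mul]
      exact ⟨((MulEquiv.subgroupCongr heq).trans e).trans (hn ▸ MulEquiv.refl _)⟩
  · rw [← h3, ← Set.iUnion_singleton_eq_range, Subgroup.closure_iUnion]
    exact iSup_congr fun i => Subgroup.zpowers_eq_closure _
  · intro i j hij x hx z hz
    have hg : ∀ i j, i ≠ j → Subgroup.zpowers (a i) ⊔ Subgroup.zpowers (y i) ≤
        Subgroup.centralizer ((Subgroup.zpowers (a j) ⊔ Subgroup.zpowers (y j) : Subgroup G) : Set G) := by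
      intro i j hij
      have key : ∀ w : G, Commute (a j) w → Commute (y j) w → w ∈ Subgroup.centralizer
          ((Subgroup.zpowers (a j) ⊔ Subgroup.zpowers (y j) : Subgroup G) : Set G) := by
        intro w c1 c2
        have hle : Subgroup.zpowers (a j) ⊔ Subgroup.zpowers (y j) ≤ Subgroup.centralizer ({w} : Set G) :=
          sup_le (Subgroup.zpowers_le.mpr (Subgroup.mem_centralizer_singleton_iff.mpr c1))
            (Subgroup.zpowers_le.mpr (Subgroup.mem_centralizer_singleton_iff.mpr c2))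
        exact Subgroup.mem_centralizer_iff.mpr fun z hz =>
          Subgroup.mem_centralizer_singleton_iff.mp (hle hz)
      exact sup_le
        (Subgroup.zpowers_le.mpr (key _ (setLike_mul_comm (h1 j).1 (h1 i).1) (h2 i j hij).symm))
        (Subgroup.zpowers_le.mpr (key _ (h2 j i (Ne.symm hij)) (hMab _ (h1 j).2.2.1 _ (h1 i).2.2.1)))
    exact (Subgroup.mem_centralizer_iff.mp (hg i j hij hx) z hz).symm

end Cfsg.Agent.S1349
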