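import Cfsg.Statements.S1386
import Mathlib

set_option autoImplicit false
open Cfsg

namespace Cfsg.Agent.S1386

/-- Let G be a finite group, W₁, W₂ subgroups forming a self-normalizing cyclic pair, S a subgroup with W₂ ≤ S and W₁ a complement to S' in S, and (W₁, U, W₂') type-P data for S. Then W₂' = W₂ (that is, C_{S'}(W₁) = W₂). -/
theorem result {G : Type*} [Group G] [Finite G] (W₁ W₂ S U W₂' : Subgroup G) (hW : Cfsg.IsSelfNormalizingCyclic W₁ W₂)
    (hSW : Cfsg.IsComplIn ⁅S, S⁆ W₁ S) (hW₂S : W₂ ≤ S) (hP : Cfsg.IsTypePWith S W₁ U W₂') :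
    W₂' = W₂ := by
  obtain ⟨hW1, hW2, hWint, hWcomm, hWcyc, hWnorm⟩ := hW
  obtain ⟨-, hW2', hW'int, hW'comm, hW'cyc, -⟩ := hP.selfNormalizing
  have hint : W₁ ⊓ ⁅S, S⁆ = ⊥ := by rw [inf_comm]; exact hSW.2.2.1
  have hW2'S : W₂' ≤ ⁅S, S⁆ := by
    obtain ⟨x, hx, hx1⟩ := (Subgroup.bot_or_exists_ne_one W₁).resolve_left hW1
    rw [← hP.W₂_centralizer x hx hx1]
    exact inf_le_left
  have hWW' : W₁ ⊔ W₂ ≤ W₁ ⊔ W₂' := by
    refine sup_le le_sup_left (fun b hb => ?_)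
    obtain ⟨x, hx, hx1⟩ := (Subgroup.bot_or_exists_ne_one W₁).resolve_left hW1
    obtain ⟨s, hs, w, hw, rfl⟩ := hSW.2.2.2 b (hW₂S hb)
    refine Subgroup.mul_mem _ (le_sup_right (a := W₁) ?_) (le_sup_left (b := W₂') hw)
    rw [← hP.W₂_centralizer x hx hx1]
    refine ⟨hs, Subgroup.mem_centralizer_singleton_iff.mpr ?_⟩
    have h1 : x * (s * w) = (s * w) * x := hWcomm x hx _ hb
    have hwx : w * x = x * w := by
      have := hP.W₁_cyclic
      exact congrArg Subtype.val (mul_comm' (⟨w, hw⟩ : W₁) ⟨x, hx⟩)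
    have h2 : (x * s) * w = (s * x) * w := by
      rw [mul_assoc, h1, mul_assoc, hwx, ← mul_assoc]
    exact (mul_right_cancel h2).symm
  have hW'W : W₁ ⊔ W₂' ≤ W₁ ⊔ W₂ := by
    obtain ⟨a, ha, ha1⟩ := (Subgroup.bot_or_exists_ne_one W₁).resolve_left hW1
    obtain ⟨b, hb, hb1⟩ := (Subgroup.bot_or_exists_ne_one W₂).resolve_left hW2
    have hab : a * b ∈ (↑(W₁ ⊔ W₂) : Set G) \ (↑W₁ ∪ ↑W₂) := by
      refine ⟨Subgroup.mul_mem _ (le_sup_left (b := W₂) ha) (le_sup_right (a := W₁) hb), ?_⟩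
      rintro (h | h)
      · have h3 : b ∈ W₁ ⊓ W₂ := ⟨(W₁.mul_mem_cancel_left ha).mp h, hb⟩
        rw [hWint] at h3
        exact hb1 h3
      · have h3 : a ∈ W₁ ⊓ W₂ := ⟨ha, (W₂.mul_mem_cancel_right hb).mp h⟩
        rw [hWint] at h3
        exact ha1 h3
    intro v hv
    rw [← hWnorm {a * b} (by simpa using hab) ⟨_, rfl⟩]
    have habW' : a * b ∈ W₁ ⊔ W₂' := hWW' hab.1
    have hc : v * (a * b) = (a * b) * v := by
      have := hW'cyc
      exact congrArg Subtype.val (mul_comm' (⟨v, hv⟩ : ↥(W₁ ⊔ W₂')) ⟨a * b, habW'⟩)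
    rw [Subgroup.mem_set_normalizer_iff]
    intro h
    simp only [Set.mem_singleton_iff]
    constructor
    · rintro rfl
      rw [hc, mul_assoc, mul_inv_cancel, mul_one]
    · intro h'
      calc h = v⁻¹ * (v * h * v⁻¹) * v := by group
        _ = v⁻¹ * ((a * b) * v) := by rw [h', mul_assoc]
        _ = v⁻¹ * (v * (a * b)) := by rw [hc]
        _ = a * b := by group
  have heq : W₁ ⊔ W₂' = W₁ ⊔ W₂ := le_antisymm hW'W hWW'
  have hcard : ∀ B : Subgroup G, W₁ ⊓ B = ⊥ → (∀ a ∈ W₁, ∀ b ∈ B, a * b = b * a) →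
      Nat.card ↥(W₁ ⊔ B) = Nat.card W₁ * Nat.card B := by
    intro B hB hc
    have hn : B ≤ Subgroup.normalizer (W₁ : Set G) := by
      intro b hb
      rw [Subgroup.mem_normalizer_iff]
      intro h
      constructor
      · intro hh
        rwa [← hc h hh b hb, mul_assoc, mul_inv_cancel, mul_one]
      · intro hh
        have h4 := hc _ hh b hb
        have : b * h * b⁻¹ = h := by
          have h5 : b * h = b * (b * h * b⁻¹) := by simpa [mul_assoc] using h4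
          exact (mul_left_cancel h5).symm
        rwa [this] at hh
    rw [← Nat.card_prod]
    refine (Nat.card_congr (Equiv.ofBijective
      (fun q : W₁ × B => (⟨(q.1 : G) * q.2,
        Subgroup.mul_mem _ (le_sup_left (b := B) q.1.2) (le_sup_right (a := W₁) q.2.2)⟩ : ↥(W₁ ⊔ B))) ⟨?_, ?_⟩)).symm
    · rintro ⟨q1, q2⟩ ⟨r1, r2⟩ h
      have h6 : (q1 : G) * q2 = r1 * r2 := congrArg Subtype.val h
      exact Subgroup.mul_injective_of_disjoint (disjoint_iff.mpr hB) h6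
    · rintro ⟨g, hg⟩
      have hg' : g ∈ ((W₁ ⊔ B : Subgroup G) : Set G) := hg
      rw [Subgroup.coe_mul_of_right_le_normalizer_left W₁ B hn] at hg'
      obtain ⟨a, ha, b, hb, rfl⟩ := Set.mem_mul.mp hg'
      exact ⟨(⟨a, ha⟩, ⟨b, hb⟩), rfl⟩
  have hW2card : Nat.card W₂' = Nat.card W₂ := by
    have h1 := hcard W₂' hW'int hW'comm
    rw [heq, hcard W₂ hWint hWcomm] at h1
    exact (Nat.eq_of_mul_eq_mul_left Nat.card_pos h1).symm
  have := hWcyc
  classical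
  have := Fintype.ofFinite ↥(W₁ ⊔ W₂)
  have hroot : ∀ B : Subgroup G, B ≤ W₁ ⊔ W₂ → Nat.card B = Nat.card W₂ →
      B.subgroupOf (W₁ ⊔ W₂) = W₂.subgroupOf (W₁ ⊔ W₂) := by
    intro B hB hBc
    have key : ∀ C : Subgroup ↥(W₁ ⊔ W₂), Nat.card C = Nat.card W₂ →
        (C : Set ↥(W₁ ⊔ W₂)).toFinset = Finset.univ.filter (fun z => z ^ Nat.card W₂ = 1) := by
      intro C hC
      refine Finset.eq_of_subset_of_card_le (fun z hz => ?_) ?_
      · rw [Set.mem_toFinset] at hz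
        rw [Finset.mem_filter]
        refine ⟨Finset.mem_univ _, ?_⟩
        rw [← hC]
        exact congrArg Subtype.val (pow_card_eq_one' (x := (⟨z, hz⟩ : C)))
      · refine le_trans (IsCyclic.card_pow_eq_one_le (α := ↥(W₁ ⊔ W₂)) Nat.card_pos) (le_of_eq ?_)
        rw [← hC, Set.toFinset_card, Nat.card_eq_fintype_card]
        rfl
    apply SetLike.coe_injective
    have h1 := key _ ((Nat.card_congr (Subgroup.subgroupOfEquivOfLe hB).toEquiv).trans hBc)
    have h2 := key _ (Nat.card_congr (Subgroup.subgroupOfEquivOfLe (le_sup_right : W₂ ≤ W₁ ⊔ W₂)).toEquiv)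
    exact Set.toFinset_inj.mp (h1.trans h2.symm)
  have hB : W₂' ≤ W₁ ⊔ W₂ := heq ▸ le_sup_right
  rw [← Subgroup.map_subgroupOf_eq_of_le hB, hroot W₂' hB hW2card,
    Subgroup.map_subgroupOf_eq_of_le (le_sup_right : W₂ ≤ W₁ ⊔ W₂)]

end Cfsg.Agent.S1386
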