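import Cfsg.Statements.S1405
import Cfsg.Agent.Lib.OddOrder.Sigma10
import Cfsg.Agent.Lib.Solvable.Fitting

set_option autoImplicit false
open Cfsg

namespace Cfsg.Agent.S1405

/-- Let G be a minimal simple group of odd order and M a maximal subgroup, α(M) the set of primes p with M of p-rank at least 3, and M_α = O_{α(M)}(M). Then M_α is a Hall α(M)-subgroup of M and of G, M_α ≤ M_σ, the quotient M/M_α has no elementary abelian subgroup of order p ^ 3 for any prime p, and the image of M' in M/M_α is nilpotent. -/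
theorem result {G : Type*} [Group G] [Finite G] (hG : Cfsg.IsMinSimpleOddOrder G)
    (M : Subgroup G) (hM : IsCoatom M) :
    Cfsg.IsPiHallOf (Cfsg.alpha M) (Cfsg.alphaCore M) M ∧ Cfsg.IsPiHall (Cfsg.alpha M) (Cfsg.alphaCore M) ∧
      Cfsg.alphaCore M ≤ Cfsg.sigmaCore M ∧ Cfsg.RankLE 2 (↥M ⧸ Cfsg.piCore (Cfsg.alpha M) ↥M) ∧
      Group.IsNilpotent ↥((commutator ↥M).map (QuotientGroup.mk' (Cfsg.piCore (Cfsg.alpha M) ↥M))) := by
  refine ⟨(CfsgLib.OddOrder.Sigma10.alphaCore_hall hG hM).1,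
    (CfsgLib.OddOrder.Sigma10.alphaCore_hall hG hM).2,
    CfsgLib.OddOrder.Sigma10.alphaCore_le_sigmaCore hG hM,
    CfsgLib.OddOrder.Sigma10.rankLE_quotient_alpha hG hM, ?_⟩
  have hle : (commutator ↥M).map (QuotientGroup.mk' (Cfsg.piCore (Cfsg.alpha M) ↥M)) ≤
      Cfsg.fittingSubgroup (↥M ⧸ Cfsg.piCore (Cfsg.alpha M) ↥M) := by
    refine le_trans (le_of_eq ?_) (CfsgLib.OddOrder.Sigma10.derived_quotient_le_fitting hG hM)
    rw [commutator_def, Subgroup.map_commutator,
      Subgroup.map_top_of_surjective _ (QuotientGroup.mk'_surjective _), ← commutator_def]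
  have := CfsgLib.Fitting.fitting_isNilpotent (G := ↥M ⧸ Cfsg.piCore (Cfsg.alpha M) ↥M)
  exact Group.nilpotent_of_mulEquiv (Subgroup.subgroupOfEquivOfLe hle)

end Cfsg.Agent.S1405
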