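import Cfsg.Statements.S1446
import Cfsg.Agent.Lib.OddOrder41.FrobeniusNilpotent

set_option autoImplicit false
open Cfsg

namespace Cfsg.Agent.S1446

/-- Let X be a finite group with subgroups K, R, M such that: K and R are nontrivial, K ∩ R = 1, R normalizes K, no non-identity element of R centralizes a non-identity element of K, K ⊔ R is solvable of odd order; M is nilpotent and nontrivial, normalized by K and by R, with order coprime to that of K ⊔ R, M ∩ C(K) = 1, and M ∩ C(x) = M ∩ C(R) for all non-identity x ∈ R. Then R has prime order p, #M = #(M ∩ C(R)) ^ p, and if M ∩ C(R) is cyclic then [K, K] centralizes M. -/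
theorem result {X : Type*} [Group X] [Finite X] (K R M : Subgroup X) (hK1 : K ≠ ⊥) (hR1 : R ≠ ⊥) (hKR : K ⊓ R = ⊥)
    (hRK : R ≤ Subgroup.normalizer (K : Set X)) (hfrob : ∀ r ∈ R, r ≠ 1 → K ⊓ Subgroup.centralizer ({r} : Set X) = ⊥)
    (hsolv : Group.IsSolvable ↥(K ⊔ R)) (hodd : Odd (Nat.card ↥(K ⊔ R)))
    (hM1 : M ≠ ⊥) (hMn : Group.IsNilpotent M) (hKM : K ≤ Subgroup.normalizer (M : Set X)) (hRM : R ≤ Subgroup.normalizer (M : Set X))
    (hcop : (Nat.card ↥(K ⊔ R)).Coprime (Nat.card M)) (hCK : M ⊓ Subgroup.centralizer (K : Set X) = ⊥)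
    (hpr : ∀ x ∈ R, x ≠ 1 → M ⊓ Subgroup.centralizer ({x} : Set X) = M ⊓ Subgroup.centralizer (R : Set X)) :
    (Nat.card R).Prime ∧ Nat.card M = Nat.card ↥(M ⊓ Subgroup.centralizer (R : Set X)) ^ Nat.card R ∧
      (IsCyclic ↥(M ⊓ Subgroup.centralizer (R : Set X)) → ⁅K, K⁆ ≤ Subgroup.centralizer (M : Set X)) := by
  open CfsgLib.OddOrder41.FixedFormula in
  have key : ∀ S : Subgroup X, S ≤ R → S ≠ ⊥ →
      Nat.card M = Nat.card ↥(M ⊓ Subgroup.centralizer (R : Set X)) ^ Nat.card S := by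
    intro S hS hS1
    have hSK : S ≤ Subgroup.normalizer (K : Set X) := hS.trans hRK
    have hfpf : ∀ e ∈ S, e ≠ 1 → ∀ u ∈ K, e * u = u * e → u = 1 := fun e he he1 u hu h =>
      Subgroup.mem_bot.mp (hfrob e (hS he) he1 ▸
        (⟨hu, Subgroup.mem_centralizer_singleton_iff.mpr h.symm⟩ : u ∈ K ⊓ Subgroup.centralizer ({e} : Set X)))
    have h := fixed_formula K S hS1 hSK (coprime_of_fpf hSK hfpf) hfpf M
      (sup_le hKM (hS.trans hRM)) inferInstance
      (hcop.symm.coprime_dvd_right (Subgroup.card_dvd_of_le (sup_le_sup le_rfl hS)))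
    have h1 : M ⊓ Subgroup.centralizer ((K ⊔ S : Subgroup X) : Set X) = ⊥ :=
      le_bot_iff.mp (hCK ▸ inf_le_inf le_rfl (Subgroup.centralizer_le fun _ hx => Subgroup.mem_sup_left hx))
    have h2 : M ⊓ Subgroup.centralizer (S : Set X) = M ⊓ Subgroup.centralizer (R : Set X) := by
      obtain ⟨s, hs, hs1⟩ := S.bot_or_exists_ne_one.resolve_left hS1
      refine le_antisymm ?_ (inf_le_inf le_rfl (Subgroup.centralizer_le fun _ hx => hS hx))
      rw [← hpr s (hS hs) hs1]
      exact inf_le_inf le_rfl (Subgroup.centralizer_le (Set.singleton_subset_iff.mpr hs))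
    rw [h1, hCK, h2, Subgroup.card_bot, one_pow, one_mul, mul_one] at h
    exact h
  have hM := key R le_rfl hR1
  refine ⟨?_, hM, fun hcyc => ?_⟩
  · obtain ⟨p, hp, hpd⟩ := Nat.exists_prime_and_dvd (n := Nat.card R) fun h => hR1 (Subgroup.card_eq_one.mp h)
    haveI := Fact.mk hp
    obtain ⟨r, hr⟩ := exists_prime_orderOf_dvd_card' p hpd
    have hr1 : (r : X) ≠ 1 := fun h => hp.ne_one (by rw [← hr, ← Subgroup.orderOf_coe, h, orderOf_one])
    have h := key (Subgroup.zpowers (r : X)) (Subgroup.zpowers_le.mpr r.2)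
      (fun h => hr1 (Subgroup.zpowers_eq_bot.mp h))
    rw [Nat.card_zpowers, Subgroup.orderOf_coe, hr] at h
    have hC : 1 < Nat.card ↥(M ⊓ Subgroup.centralizer (R : Set X)) := by
      by_contra hle
      have h1 := Nat.card_pos (α := ↥(M ⊓ Subgroup.centralizer (R : Set X)))
      rw [show Nat.card ↥(M ⊓ Subgroup.centralizer (R : Set X)) = 1 by omega, one_pow] at h
      exact hM1 (Subgroup.card_eq_one.mp h)
    rw [Nat.pow_right_injective hC (hM.symm.trans h)]
    exact hp
  · have hfpf : ∀ r ∈ R, r ≠ 1 → ∀ u ∈ K, r * u = u * r → u = 1 := fun e he he1 u hu h =>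
      Subgroup.mem_bot.mp (hfrob e he he1 ▸
        (⟨hu, Subgroup.mem_centralizer_singleton_iff.mpr h.symm⟩ : u ∈ K ⊓ Subgroup.centralizer ({e} : Set X)))
    have hKn : Group.IsNilpotent K := by
      obtain ⟨p, hp, hpd⟩ := Nat.exists_prime_and_dvd (n := Nat.card R) fun h => hR1 (Subgroup.card_eq_one.mp h)
      haveI := Fact.mk hp
      obtain ⟨r, hr⟩ := exists_prime_orderOf_dvd_card' p hpd
      have hord : orderOf (r : X) = p := (Subgroup.orderOf_coe r).trans hr
      exact CfsgLib.Frobenius.Thompson.isNilpotent_of_element K (hRK r.2) hp (hord ▸ pow_orderOf_eq_one _)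
        (hfpf r r.2 fun h => hp.ne_one (by rw [← hord, h, orderOf_one]))
    exact CfsgLib.OddOrder41.FixedFormula.commutator_le_centralizer_of_cyclic K R hR1 hRK hKn hfpf M
      (sup_le hKM hRM) inferInstance hcop.symm hCK hcyc

end Cfsg.Agent.S1446
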