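import Cfsg.Statements.S1454
import Cfsg.Agent.Lib.OddOrder.NarrowOperators

set_option autoImplicit false
open Cfsg

namespace Cfsg.Agent.S1454

/-- Let G be a finite group, p an odd prime, R a narrow p-subgroup and A a solvable subgroup of odd order normalizing R with A ∩ C_G(R) = 1. Then [A, A] ≤ O_p(A) and the index of O_p(A) in A is coprime to p; if R has an elementary abelian subgroup of order p ^ 3 then the order of every element of A of order coprime to p divides p − 1; and if the order of A is a prime not dividing p(p − 1), then 2·#A divides p + 1, and if in addition [R, A] = R and R is non-abelian then #R = p ^ 3. -/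
theorem result {G : Type*} [Group G] [Finite G] (p : ℕ) [Fact p.Prime] (hp : p ≠ 2) (R A : Subgroup G) (hR : IsPGroup p R) (hRn : Cfsg.IsNarrow p R)
    (hA : (A ≤ Subgroup.normalizer (R : Set G))) (hAs : Group.IsSolvable A) (hAodd : Odd (Nat.card A)) (hfaith : A ⊓ Subgroup.centralizer (R : Set G) = ⊥) :
    (commutator ↥A ≤ Cfsg.pCore p ↥A ∧ ((Cfsg.pCore p ↥A).index).Coprime p) ∧
      (¬ Cfsg.PRankLE p 2 R → ∀ a ∈ A, (orderOf a).Coprime p → orderOf a ∣ p - 1) ∧
      ((Nat.card A).Prime → ¬ Nat.card A ∣ p * (p - 1) →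
        2 * Nat.card A ∣ p + 1 ∧ (⁅R, A⁆ = R → ¬ IsMulCommutative R → Nat.card R = p ^ 3)) := by
  refine ⟨CfsgLib.OddOrder.Narrow.pCore_index_coprime
      (CfsgLib.OddOrder.Narrow.derived_isPGroup hp R A hR hRn hA hAs hAodd hfaith),
    CfsgLib.OddOrder.Narrow.operator_order_dvd hp R A hR hRn hA hfaith, fun hq hqp => ?_⟩
  have := Fact.mk hq
  have hq2 : Nat.card A ≠ 2 := fun h => by rw [h] at hAodd; exact absurd hAodd (by decide)
  have hqne : Nat.card A ≠ p := fun h => hqp (h ▸ dvd_mul_right (Nat.card A) _)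
  have hne : ¬ A ≤ Subgroup.centralizer (R : Set G) := fun h => hq.ne_one (by
    rw [← inf_eq_left.mpr h, hfaith, Subgroup.card_bot])
  by_cases hr : Cfsg.PRankLE p 2 R
  · exact ⟨CfsgLib.OddOrder.Narrow.two_mul_dvd_succ hp hq2 hqp R A hR hr hA rfl hne, fun h1 h2 =>
      CfsgLib.OddOrder.Narrow.card_eq_cube hp hq2 hqp R A hR hr hA rfl h1 h2⟩
  · exfalso
    obtain ⟨a, ha⟩ := exists_prime_orderOf_dvd_card' (G := A) (Nat.card A) dvd_rfl
    have hord : orderOf (a : G) = Nat.card A := (Subgroup.orderOf_coe a).trans ha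
    refine hqp (Dvd.dvd.mul_left ?_ p)
    rw [← hord]
    exact CfsgLib.OddOrder.Narrow.operator_order_dvd hp R A hR hRn hA hfaith hr a a.2
      (hord ▸ (Nat.coprime_primes hq Fact.out).mpr hqne)

end Cfsg.Agent.S1454
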