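import Cfsg.Statements.S1456
import Cfsg.Agent.Lib.OddOrder.NarrowAction
import Cfsg.Agent.Lib.OddOrder.Narrow
import Cfsg.Agent.Lib.OddOrder41.RankTwoFitting

set_option autoImplicit false
open Cfsg

namespace Cfsg.Agent.S1456

open Subgroup CfsgLib CfsgLib.OddOrder CfsgLib.OddOrder41
open scoped commutatorElement

universe u

variable {G : Type u} [Group G] [Finite G]

theorem derived_le_fitting_of_fixes [Group.IsSolvable G]
    (hfix : ∀ {q : ℕ}, q.Prime → ∀ {x : G}, x ∈ commutator G → (orderOf x).Coprime q →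
      x ∈ Subgroup.centralizer (Cfsg.pCore q G : Set G)) :
    commutator G ≤ Cfsg.fittingSubgroup G := by
  refine le_of_forall_prime_pow_mem fun q k hq x hx hk => ?_
  haveI := Fact.mk hq
  let D : Subgroup G := commutator G ⊓
    ⨅ r : {r : ℕ // r.Prime ∧ r ≠ q}, Subgroup.centralizer (Cfsg.pCore (r : ℕ) G : Set G)
  have hDn : D.Normal := by
    haveI : (⨅ r : {r : ℕ // r.Prime ∧ r ≠ q}, Subgroup.centralizer (Cfsg.pCore (r : ℕ) G : Set G)).Normal :=
      Subgroup.normal_iInf_normal fun r => inferInstance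
    exact inferInstance
  have hxD : x ∈ D := by
    refine ⟨hx, Subgroup.mem_iInf.mpr fun r => hfix r.2.1 hx ?_⟩
    rw [hk]
    exact Nat.Coprime.pow_left k ((Nat.coprime_primes hq r.2.1).mpr r.2.2.symm)
  have hDC : ∀ r : ℕ, r.Prime → r ≠ q → ∀ y ∈ Cfsg.pCore r G, ∀ d ∈ D, d * y = y * d := fun r hr1 hr2 y hy d hd =>
    (Subgroup.mem_centralizer_iff.mp (Subgroup.mem_iInf.mp hd.2 ⟨r, hr1, hr2⟩) y hy).symm
  have hquot : IsPGroup q (D ⧸ Subgroup.center D) := by
    intro y
    obtain ⟨d, rfl⟩ := QuotientGroup.mk'_surjective (Subgroup.center D) y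
    obtain ⟨i, m, hqm, hd⟩ := Nat.exists_eq_pow_mul_and_not_dvd (orderOf_pos (d : G)).ne' q hq.ne_one
    refine ⟨i, ?_⟩
    rw [← map_pow]
    refine (QuotientGroup.eq_one_iff _).mpr ?_
    set z : G := (d : G) ^ q ^ i with hz
    have hord : orderOf z = m := by
      rw [hz, orderOf_pow' _ (pow_ne_zero _ hq.ne_zero), hd, Nat.gcd_eq_right (Dvd.intro m rfl),
        Nat.mul_div_cancel_left _ (pow_pos hq.pos i)]
    have hzD : z ∈ D := pow_mem d.2 _
    have hzF : z ∈ Cfsg.fittingSubgroup G := by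
      refine CfsgLib.Fitting.centralizer_fitting_le (Subgroup.mem_centralizer_iff.mpr fun f hf => ?_)
      have : Cfsg.fittingSubgroup G ≤ Subgroup.centralizer ({z} : Set G) := by
        refine le_of_forall_prime_pow_mem fun r j hr1 y hy hyr => ?_
        haveI := Fact.mk hr1
        haveI := CfsgLib.Fitting.fitting_normal (G := G)
        have hyc := mem_pCore_of_mem_nilpotent_normal CfsgLib.Fitting.fitting_isNilpotent hy hyr
        rw [Subgroup.mem_centralizer_singleton_iff]
        by_cases hrq : r = q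
        · subst hrq
          refine (Subgroup.mem_centralizer_iff.mp (hfix hr1 hzD.1 ?_) y hyc)
          rw [hord]; exact ((Nat.Prime.coprime_iff_not_dvd hr1).mpr hqm).symm
        · exact (hDC r hr1 hrq y hyc z hzD).symm
      exact Subgroup.mem_centralizer_singleton_iff.mp (this hf)
    have hzC : Subgroup.zpowers z ≤ Subgroup.centralizer (D : Set G) := by
      refine le_of_forall_prime_pow_mem fun r j hr1 y hy hyr => ?_
      haveI := Fact.mk hr1
      haveI := CfsgLib.Fitting.fitting_normal (G := G)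
      refine Subgroup.mem_centralizer_iff.mpr fun e he => ?_
      by_cases hrq : r = q
      · have hdvd : orderOf y ∣ m := hord ▸ orderOf_dvd_of_mem_zpowers hy
        rw [hyr, hrq] at hdvd
        rcases Nat.eq_zero_or_pos j with hj | hj
        · rw [hj, pow_zero, orderOf_eq_one_iff] at hyr
          simp [hyr]
        · exact absurd (dvd_trans (dvd_pow_self q hj.ne') hdvd) hqm
      · exact hDC r hr1 hrq y (mem_pCore_of_mem_nilpotent_normal CfsgLib.Fitting.fitting_isNilpotent
          ((Subgroup.zpowers_le.mpr hzF) hy) hyr) e he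
    rw [Subgroup.mem_center_iff]
    intro e
    apply Subtype.ext
    have := Subgroup.mem_centralizer_iff.mp (hzC (Subgroup.mem_zpowers z)) e e.2
    simpa [hz] using this
  haveI : Finite (D ⧸ Subgroup.center D) := inferInstance
  haveI hq' : Group.IsNilpotent (D ⧸ Subgroup.center D) := hquot.isNilpotent
  have hDnil : Group.IsNilpotent D := Subgroup.isNilpotent_of_ker_le_center (QuotientGroup.mk' (Subgroup.center D))
    (QuotientGroup.ker_mk' _).le
  exact CfsgLib.Fitting.le_fitting hDn hDnil hxD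

/-- A `p`-group with an elementary abelian subgroup whose centralizer has rank at most two is narrow. -/
theorem isNarrow_of_centralizer_rank {p : ℕ} [Fact p.Prime] (hp2 : p ≠ 2) {R E : Subgroup G}
    (hR : IsPGroup p R) (hER : E ≤ R) (hEe : Cfsg.IsElementaryAbelian p E)
    (hr : ∀ B : Subgroup G, B ≤ R → B ≤ Subgroup.centralizer (E : Set G) →
      Cfsg.IsElementaryAbelian p B → Nat.card B ≤ p ^ 2) : Cfsg.IsNarrow p R := by
  obtain ⟨A, hAmax⟩ := Set.Finite.exists_maximal
    (s := {A : Subgroup G | E ≤ A ∧ A ≤ R ∧ Cfsg.IsElementaryAbelian p A})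
    (Set.toFinite _) ⟨E, le_rfl, hER, hEe⟩
  obtain ⟨⟨hEA, hAR, hAe⟩, hmax⟩ := hAmax
  have hA : Nat.card A ≤ p ^ 2 := hr A hAR (fun a ha => Subgroup.mem_centralizer_iff.mpr
    fun e he => elemAb_commute hAe (hEA he) ha) hAe
  have hself : ∀ x ∈ R, x ^ p = 1 → x ∈ Subgroup.centralizer (A : Set G) → x ∈ A := fun x hx hxp hc =>
    hmax ⟨hEA.trans le_sup_left, sup_le hAR (Subgroup.zpowers_le.mpr hx),
      elemAb_sup_zpowers hAe hxp hc⟩ le_sup_left (le_sup_right (a := A) (Subgroup.mem_zpowers x))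
  obtain ⟨n, hn⟩ := (isPGroup_of_elemAb hAe).exists_card_eq
  have hn2 : n ≤ 2 := (Nat.pow_le_pow_iff_right (Fact.out : p.Prime).one_lt).mp (hn ▸ hA)
  by_cases h2 : n = 2
  · exact CfsgLib.OddOrder.Narrow.isNarrow_of_maximal_sq hp2 hR hAR hAe (h2 ▸ hn) hself
  refine Or.inl (not_not.mp fun hc => ?_)
  obtain ⟨B, hBR, hBe, hBc⟩ := not_pRankLE_subgroup_iff.mp hc
  have hBne : B ≠ ⊥ := fun h => by
    rw [h, Subgroup.card_bot] at hBc
    exact absurd hBc.symm (Nat.one_lt_pow (by norm_num) (Fact.out : p.Prime).one_lt).ne'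
  have hRne : R ≠ ⊥ := ne_bot_of_le_ne_bot hBne hBR
  have : Nontrivial R := (Subgroup.nontrivial_iff_ne_bot R).mpr hRne
  have hZne : Subgroup.center R ≠ ⊥ := (ne_of_gt hR.bot_lt_center)
  have hZd : p ∣ Nat.card (Subgroup.center R) := by
    obtain ⟨m, hm⟩ := (hR.to_subgroup (Subgroup.center R)).exists_card_eq
    rcases Nat.eq_zero_or_pos m with rfl | hm0
    · exact absurd (Subgroup.card_eq_one.mp (by simpa using hm)) hZne
    · exact hm ▸ dvd_pow_self p hm0.ne'
  obtain ⟨⟨z, hz⟩, hzo⟩ := exists_prime_orderOf_dvd_card' (G := Subgroup.center R) p hZd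
  have hzo' : orderOf (z : G) = p := by
    rw [Subgroup.orderOf_coe, ← hzo, Subgroup.orderOf_mk _ hz]
  have hzA : (z : G) ∈ A := hself _ z.2 (hzo' ▸ pow_orderOf_eq_one (z : G))
    (Subgroup.mem_centralizer_iff.mpr fun a ha =>
      congrArg Subtype.val (Subgroup.mem_center_iff.mp hz ⟨a, hAR ha⟩))
  have hA1 : Subgroup.zpowers (z : G) = A := Subgroup.eq_of_le_of_card_ge (Subgroup.zpowers_le.mpr hzA)
    (by
      rw [hn, Nat.card_zpowers, hzo']
      calc p ^ n ≤ p ^ 1 := Nat.pow_le_pow_right (Fact.out : p.Prime).pos (by omega)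
        _ = p := pow_one p)
  have hBA : B ≤ A := fun b hb => hself b (hBR hb) (hBe.2 b hb) (by
    rw [← hA1, Subgroup.mem_centralizer_iff]
    intro c hc
    obtain ⟨k, rfl⟩ := Subgroup.mem_zpowers_iff.mp hc
    exact (Commute.zpow_left (congrArg Subtype.val (Subgroup.mem_center_iff.mp hz ⟨b, hBR hb⟩)).symm k).eq)
  have := Subgroup.card_le_of_le hBA
  rw [hBc, hn] at this
  exact absurd ((Nat.pow_le_pow_iff_right (Fact.out : p.Prime).one_lt).mp this) (by omega)

/-- Let G be a solvable group of odd order, p a prime, and E an elementary abelian p-subgroup of the Fitting subgroup F(G) such that F(G) ∩ C_G(E) has no elementary abelian subgroup of order q ^ 3 for any prime q. Then the derived subgroup of G is contained in F(G). -/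
theorem result {G : Type*} [Group G] [Finite G] [Group.IsSolvable G] (hodd : Odd (Nat.card G)) (p : ℕ) [Fact p.Prime] (E : Subgroup G) (hE : E ≤ Cfsg.fittingSubgroup G) (hEe : Cfsg.IsElementaryAbelian p E)
    (hr : Cfsg.RankLE 2 ↥(Cfsg.fittingSubgroup G ⊓ Subgroup.centralizer (E : Set G))) :
    commutator G ≤ Cfsg.fittingSubgroup G := by
  refine derived_le_fitting_of_fixes ?_
  intro q hq x hx hcop
  have := Fact.mk hq
  refine Subgroup.mem_centralizer_iff.mpr fun r hr' => ?_
  by_cases hq2 : q = 2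
  · subst hq2
    have : r = 1 := Subgroup.mem_bot.mp (pCore_two_eq_bot hodd ▸ hr')
    simp [this]
  have hcore : Cfsg.pCore q G ≤ Cfsg.fittingSubgroup G := Fitting.pCore_le_fitting hq
  have hRp : IsPGroup q (Cfsg.pCore q G) := CfsgLib.PCore.pCore_isPGroup
  have hnar : Cfsg.IsNarrow q ↥(Cfsg.pCore q G) := by
    by_cases hqp : q = p
    · subst hqp
      refine isNarrow_of_centralizer_rank hq2 hRp ?_ hEe fun B hBR hBc hBe => ?_
      · intro e he
        obtain ⟨k, -, hk⟩ := (Nat.dvd_prime_pow hq).mp (orderOf_dvd_of_pow_eq_one (x := e) (n := q ^ 1)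
          (by rw [pow_one]; exact hEe.2 e he))
        haveI := Fitting.fitting_normal (G := G)
        exact mem_pCore_of_mem_nilpotent_normal Fitting.fitting_isNilpotent (hE he) hk
      · have h := hr q hq (B.subgroupOf _)
          (elemAb_comap hBe (Cfsg.fittingSubgroup G ⊓ Subgroup.centralizer (E : Set G)).subtype
            (Subgroup.subtype_injective _)).1
          (elemAb_comap hBe (Cfsg.fittingSubgroup G ⊓ Subgroup.centralizer (E : Set G)).subtype
            (Subgroup.subtype_injective _)).2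
        rwa [Nat.card_congr (Subgroup.subgroupOfEquivOfLe (le_inf (hBR.trans hcore) hBc)).toEquiv] at h
    · refine Or.inl (PRankLE.of_le (le_inf hcore fun r hr => Subgroup.mem_centralizer_iff.mpr fun e he => ?_)
        (hr q hq))
      obtain ⟨k, -, hk⟩ := (Nat.dvd_prime_pow (Fact.out : p.Prime)).mp
        (orderOf_dvd_of_pow_eq_one (x := e) (n := p ^ 1) (by rw [pow_one]; exact hEe.2 e he))
      haveI := Fitting.fitting_normal (G := G)
      have hep := mem_pCore_of_mem_nilpotent_normal Fitting.fitting_isNilpotent (hE he) hk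
      have hdis : Cfsg.pCore p G ⊓ Cfsg.pCore q G = ⊥ := eq_bot_iff.mpr fun y hy => Subgroup.mem_bot.mpr
        (isPGroup_inter_eq_one (Ne.symm hqp) CfsgLib.PCore.pCore_isPGroup hRp hy.1 hy.2)
      exact (Subgroup.commute_of_normal_of_disjoint _ _ inferInstance inferInstance
        (disjoint_iff.mpr hdis) e r hep hr).eq
  have hs : Group.IsSolvable (⊤ : Subgroup G) := inferInstance
  exact (NarrowAction.narrow_commutator_fixes hq2 _ ⊤ hRp hnar
    (by rw [Subgroup.normalizer_eq_top]) hs (by rw [Subgroup.card_top]; exact hodd) x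
    (by rw [← commutator_def]; exact hx) hcop r hr').symm

end Cfsg.Agent.S1456
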