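import Cfsg.Statements.S1458
import Cfsg.Agent.Lib.OddOrder.CenterJNormal
import Cfsg.Agent.Lib.OddOrder.OddStable

set_option autoImplicit false
open Cfsg

namespace Cfsg.Agent.S1458

/-- Let G be a solvable group of odd order, p a prime and S a Sylow p-subgroup of G. Then the subgroup generated by the centre of the Thompson subgroup of S and O_{p'}(G) is normal in G. -/
theorem result {G : Type*} [Group G] [Finite G] [Group.IsSolvable G] (hodd : Odd (Nat.card G)) (p : ℕ) [Fact p.Prime] (S : Sylow p G) :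
    (Cfsg.centerThompsonOf p (S : Subgroup G) ⊔ Cfsg.pPrimeCore p G).Normal := by
  rw [CfsgLib.PLocal.centerThompsonOf_eq]
  set N := Cfsg.pPrimeCore p G with hN
  rcases eq_or_ne p 2 with rfl | hp2
  · have hS : (S : Subgroup G) = ⊥ := by
      obtain ⟨k, hk⟩ := S.isPGroup'.exists_card_eq
      rw [← Subgroup.card_eq_one]
      refine Nat.eq_one_of_dvd_coprimes ((Nat.coprime_two_right.mpr hodd).pow_right k)
        (Subgroup.card_subgroup_dvd_card _) hk.dvd
    have h1 : CfsgLib.PLocal.centerJ 2 (S : Subgroup G) = ⊥ :=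
      le_bot_iff.mp ((CfsgLib.PLocal.centerJ_le 2 _).trans hS.le)
    rw [h1, bot_sup_eq]
    infer_instance
  set q := QuotientGroup.mk' N
  have hq : Function.Surjective q := QuotientGroup.mk'_surjective N
  have hO : Cfsg.pPrimeCore p (G ⧸ N) = ⊥ := CfsgLib.PCore.pPrimeCore_quotient_pPrimeCore
  have hodd' : Odd (Nat.card (G ⧸ N)) := hodd.of_dvd_nat (Subgroup.card_quotient_dvd_card _)
  have hinj : Function.Injective (q.comp (S : Subgroup G).subtype) := by
    rw [injective_iff_map_eq_one]
    intro x hx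
    exact Subtype.ext (CfsgLib.PLocal.eq_one_of_mem_pGroup_of_mem_coprime S.isPGroup'
      CfsgLib.PCore.pPrimeCore_coprime x.2 ((QuotientGroup.eq_one_iff (x : G)).mp hx))
  have h := CfsgLib.OddOrder.CenterJNormal.centerJ_normal hp2
    (CfsgLib.PCore.centralizer_pCore_le (CfsgLib.PCore.isPSolvable_of_isSolvable (p := p) (G := G ⧸ N)) hO)
    (fun P hPn hP => CfsgLib.OddOrder.OddStable.isPStableOn hodd' hp2 P hP) (S.mapSurjective hq)
  rw [Sylow.coe_mapSurjective, CfsgLib.OddOrder.CenterJNormal.centerJ_map_of_injOn q _ hinj] at h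
  have e : CfsgLib.PLocal.centerJ p (S : Subgroup G) ⊔ N
      = ((CfsgLib.PLocal.centerJ p (S : Subgroup G)).map q).comap q := by
    rw [Subgroup.comap_map_eq, QuotientGroup.ker_mk']
  rw [e]
  exact h.comap q

end Cfsg.Agent.S1458
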