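import Cfsg.Statements.S1459
import Cfsg.Agent.Lib.Coprime.Commutator
import Cfsg.Agent.Lib.Solvable.NilpotentSubgroups
import Cfsg.Agent.Lib.PGroup.Frattini

set_option autoImplicit false
open Cfsg

namespace Cfsg.Agent.S1459

open Subgroup
open scoped commutatorElement

lemma part_a {G : Type*} [Group G] [Finite G] [Group.IsSolvable G] (H K : Subgroup G) [H.Normal]
    (hcop : (Nat.card H).Coprime H.index) (hc : Subgroup.IsComplement' H K) (hle : H ≤ commutator G) :
    H = ⁅H, K⁆ ∧ H ⊓ Subgroup.centralizer (K : Set G) ≤ ⁅H, H⁆ := by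
  have hsup : H ⊔ K = ⊤ := hc.sup_eq_top
  have hinf : H ⊓ K = ⊥ := disjoint_iff.1 hc.disjoint
  have hdec : ∀ g : G, ∃ h ∈ H, ∃ k ∈ K, h * k = g := fun g =>
    Subgroup.mem_sup_of_normal_left.1 (hsup ▸ Subgroup.mem_top g)
  -- `[H, K]` is normal in `G`
  let N := ⁅H, K⁆
  haveI hNn : N.Normal := by
    rw [← Subgroup.normalizer_eq_top_iff, eq_top_iff, ← hsup]
    exact sup_le (CfsgLib.Coprime.le_normalizer_commutator_left H K)
      (CfsgLib.Coprime.le_normalizer_commutator_right H K)
  have hNH : N ≤ H := Subgroup.commutator_le_left H K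
  haveI : (⁅H, H⁆ : Subgroup G).Normal := Subgroup.commutator_normal H H
  let M : Subgroup G := N ⊔ ⁅H, H⁆
  haveI : M.Normal := Subgroup.sup_normal _ _
  have hMH : M ≤ H := sup_le hNH (Subgroup.commutator_le_left H H)
  -- `M ⊔ K` is normal and contains the derived group
  have hXn : (M ⊔ K).Normal := by
    constructor
    intro x hx g
    obtain ⟨m, hm, k, hk, rfl⟩ := Subgroup.mem_sup_of_normal_left.1 hx
    obtain ⟨h, hh, k', hk', rfl⟩ := hdec g
    have e : h * k' * (m * k) * (h * k')⁻¹
        = ((h * k') * m * (h * k')⁻¹) * ⁅h, k' * k * k'⁻¹⁆ * (k' * k * k'⁻¹) := by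
      simp only [commutatorElement_def]; group
    rw [e]
    exact mul_mem (mul_mem (mem_sup_left (Subgroup.Normal.conj_mem inferInstance m hm _))
      (mem_sup_left (mem_sup_left (Subgroup.commutator_mem_commutator hh
        (mul_mem (mul_mem hk' hk) (inv_mem hk'))))))
      (mem_sup_right (mul_mem (mul_mem hk' hk) (inv_mem hk')))
  haveI := hXn
  have hG' : commutator G ≤ M ⊔ K := by
    rw [commutator_def, Subgroup.commutator_le]
    intro a _ b _
    obtain ⟨h, hh, k, hk, rfl⟩ := hdec a
    obtain ⟨h', hh', k', hk', rfl⟩ := hdec b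
    have hk1 : QuotientGroup.mk' (M ⊔ K) k = 1 := (QuotientGroup.eq_one_iff k).2 (mem_sup_right hk)
    have hk2 : QuotientGroup.mk' (M ⊔ K) k' = 1 := (QuotientGroup.eq_one_iff k').2 (mem_sup_right hk')
    have hhh : QuotientGroup.mk' (M ⊔ K) ⁅h, h'⁆ = 1 := (QuotientGroup.eq_one_iff _).2
      (mem_sup_left (mem_sup_right (Subgroup.commutator_mem_commutator hh hh')))
    refine (QuotientGroup.eq_one_iff _).1 ?_
    show QuotientGroup.mk' (M ⊔ K) ⁅h * k, h' * k'⁆ = 1
    rw [map_commutatorElement, map_mul, map_mul, hk1, hk2, mul_one, mul_one,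
      ← map_commutatorElement, hhh]
  have hHM : H = M := by
    refine le_antisymm (fun x hx => ?_) hMH
    obtain ⟨m, hm, k, hk, rfl⟩ := Subgroup.mem_sup_of_normal_left.1 (hG' (hle hx))
    have : k ∈ H ⊓ K := ⟨by simpa using mul_mem (inv_mem (hMH hm)) hx, hk⟩
    rw [hinf, Subgroup.mem_bot] at this
    simpa [this] using hm
  -- pass to the quotient by `N`
  have hbot : H.map (QuotientGroup.mk' N) = ⊥ := by
    by_contra hne
    refine (IsSolvable.commutator_lt_of_ne_bot hne).ne ?_
    rw [← Subgroup.map_commutator]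
    conv_rhs => rw [hHM]
    rw [Subgroup.map_sup, QuotientGroup.map_mk'_self, bot_sup_eq]
  have hHN : H = N := by
    refine le_antisymm ?_ hNH
    rwa [Subgroup.map_eq_bot_iff, QuotientGroup.ker_mk'] at hbot
  refine ⟨hHN, fun x hx => ?_⟩
  let π := QuotientGroup.mk' (⁅H, H⁆ : Subgroup G)
  haveI : IsMulCommutative (H.map π) := by
    refine ⟨⟨fun a b => ?_⟩⟩
    obtain ⟨a, ha⟩ := a
    obtain ⟨b, hb⟩ := b
    obtain ⟨a, ha', rfl⟩ := Subgroup.mem_map.1 ha
    obtain ⟨b, hb', rfl⟩ := Subgroup.mem_map.1 hb
    apply Subtype.ext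
    show π a * π b = π b * π a
    rw [← commutatorElement_eq_one_iff_mul_comm, ← map_commutatorElement]
    exact (QuotientGroup.eq_one_iff _).2 (Subgroup.commutator_mem_commutator ha' hb')
  have hnorm : K.map π ≤ Subgroup.normalizer ((H.map π : Subgroup _) : Set (G ⧸ (⁅H, H⁆ : Subgroup G))) := by
    haveI : (H.map π).Normal := Subgroup.Normal.map inferInstance π (QuotientGroup.mk'_surjective _)
    exact Subgroup.le_normalizer_of_normal
  have hcop' : (Nat.card (K.map π)).Coprime (Nat.card (H.map π)) := by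
    refine Nat.Coprime.coprime_dvd_left ?_ (Nat.Coprime.coprime_dvd_right
      (Subgroup.card_map_dvd H π) hcop.symm)
    rw [hc.symm.index_eq_card]
    exact Subgroup.card_map_dvd K π
  have hx1 : π x ∈ ⁅H.map π, K.map π⁆ ⊓ Subgroup.centralizer ((K.map π : Subgroup _) : Set (G ⧸ (⁅H, H⁆ : Subgroup G))) := by
    refine ⟨?_, ?_⟩
    · rw [← Subgroup.map_commutator]
      exact Subgroup.mem_map_of_mem π (hHN.le hx.1)
    · show π x ∈ Subgroup.centralizer _
      rw [Subgroup.mem_centralizer_iff]
      intro y hy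
      obtain ⟨k, hk, rfl⟩ := Subgroup.mem_map.1 hy
      rw [← map_mul, ← map_mul, Subgroup.mem_centralizer_iff.1 hx.2 k hk]
  rw [CfsgLib.Coprime.commutator_inf_centralizer_eq_bot (K.map π) (H.map π) hnorm hcop',
    Subgroup.mem_bot] at hx1
  exact (QuotientGroup.eq_one_iff _).1 hx1

lemma coprime_index_of_nilpotent {G : Type*} [Group G] [Finite G]
    (hnil : Group.IsNilpotent ↥(commutator G)) (hq : (commutator G).index.Prime) :
    (Nat.card ↥(commutator G)).Coprime (commutator G).index := by
  obtain ⟨q, hqeq⟩ : ∃ q, (commutator G).index = q := ⟨_, rfl⟩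
  rw [hqeq] at hq ⊢
  haveI : Fact q.Prime := ⟨hq⟩
  haveI := hnil
  obtain ⟨P, C, hC, hCP⟩ := CfsgLib.NilpotentSubgroups.hasNormalPComplement_of_nilpotent
    (p := q) (N := ↥(commutator G))
  haveI : (C.map (commutator G).subtype).Normal := by
    haveI : C.Characteristic := Subgroup.characteristic_iff_le_comap.2 fun φ x hx => by
      refine CfsgLib.NilpotentSubgroups.mem_complement_of_coprime hCP ?_
      rw [show orderOf (φ.toMonoidHom x) = orderOf x from φ.orderOf_eq x]
      exact CfsgLib.NilpotentSubgroups.orderOf_coprime_of_mem_complement hCP hx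
    infer_instance
  let R := C.map (commutator G).subtype
  have hcard : Nat.card (G ⧸ R) = Nat.card (P : Subgroup ↥(commutator G)) * q := by
    have h1 : Nat.card C * Nat.card (G ⧸ R) = Nat.card ↥(commutator G) * q := by
      rw [← hqeq, Subgroup.card_mul_index, ← R.card_mul_index]
      congr 1
      exact (Nat.card_congr (C.equivMapOfInjective _ Subtype.val_injective).toEquiv)
    rw [← hCP.card_mul, mul_assoc] at h1
    exact Nat.eq_of_mul_eq_mul_left Nat.card_pos h1
  obtain ⟨k, hk⟩ := (P.2).exists_card_eq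
  have hQ : IsPGroup q (G ⧸ R) := IsPGroup.of_card (n := k + 1) (by rw [hcard, hk, pow_succ])
  have hC' : Subgroup.map (QuotientGroup.mk' R) (commutator G) ≤ commutator (G ⧸ R) := by
    rw [commutator_def, commutator_def, Subgroup.map_commutator]
    exact Subgroup.commutator_mono le_top le_top
  -- some element generates modulo the derived group
  obtain ⟨g, hg⟩ : ∃ g, g ∉ commutator G := by
    by_contra hh
    push_neg at hh
    have : commutator G = ⊤ := eq_top_iff.2 fun x _ => hh x
    rw [this, Subgroup.index_top] at hqeq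
    exact hq.ne_one hqeq.symm
  have htop : Subgroup.zpowers g ⊔ commutator G = ⊤ := by
    have hd := Subgroup.index_dvd_of_le (le_sup_right : commutator G ≤ Subgroup.zpowers g ⊔ commutator G)
    rw [hqeq] at hd
    rcases (Nat.dvd_prime hq).1 hd with h | h
    · exact Subgroup.index_eq_one.1 h
    · exfalso
      have hlt : commutator G < Subgroup.zpowers g ⊔ commutator G :=
        lt_of_le_of_ne le_sup_right fun e => hg (e ▸ mem_sup_left (Subgroup.mem_zpowers g))
      have := Subgroup.index_strictAnti hlt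
      rw [h, hqeq] at this
      exact lt_irrefl _ this
  have hcyc : Subgroup.zpowers (QuotientGroup.mk' R g) = ⊤ := by
    refine frattini_nongenerating (top_le_iff.1 ?_)
    rw [← Subgroup.map_top_of_surjective (QuotientGroup.mk' R) (QuotientGroup.mk'_surjective _),
      ← htop, Subgroup.map_sup, MonoidHom.map_zpowers]
    exact sup_le_sup le_rfl (hC'.trans (CfsgLib.PGroup.commutator_le_frattini hQ))
  have hsub : commutator G ≤ R := by
    rw [commutator_def, Subgroup.commutator_le]
    intro a _ b _
    refine (QuotientGroup.eq_one_iff _).1 ?_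
    show QuotientGroup.mk' R ⁅a, b⁆ = 1
    have ha : QuotientGroup.mk' R a ∈ Subgroup.zpowers (QuotientGroup.mk' R g) := hcyc ▸ Subgroup.mem_top _
    have hb : QuotientGroup.mk' R b ∈ Subgroup.zpowers (QuotientGroup.mk' R g) := hcyc ▸ Subgroup.mem_top _
    obtain ⟨i, hi⟩ := Subgroup.mem_zpowers_iff.1 ha
    obtain ⟨j, hj⟩ := Subgroup.mem_zpowers_iff.1 hb
    rw [map_commutatorElement, ← hi, ← hj, commutatorElement_eq_one_iff_commute]
    exact Commute.zpow_zpow_self _ i j
  have hCtop : C = ⊤ := eq_top_iff.2 fun x _ => by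
    obtain ⟨y, hy, hyx⟩ := Subgroup.mem_map.1 (hsub x.2)
    exact (Subtype.ext hyx : y = x) ▸ hy
  have := hCP.index_eq_card
  rw [hCtop, Subgroup.card_top] at this
  rw [← this]
  exact ((hq.coprime_iff_not_dvd).2 P.not_dvd_index).symm

/-- Let G be a finite solvable group. (a) If H is a normal subgroup of order coprime to its index, K is a complement to H, and H ≤ G', then H = [H, K] and H ∩ C_G(K) ≤ [H, H]. (b) If G' is nilpotent and has prime index in G, then the order of G' is coprime to its index and G' = [G, K] (the subgroup generated by commutators of elements of G with elements of K) for every complement K of G'. -/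
theorem result {G : Type*} [Group G] [Finite G] [Group.IsSolvable G] :
    (∀ (H K : Subgroup G), H.Normal → (Nat.card H).Coprime H.index → Subgroup.IsComplement' H K → H ≤ commutator G →
        H = ⁅H, K⁆ ∧ H ⊓ Subgroup.centralizer (K : Set G) ≤ ⁅H, H⁆) ∧
      (Group.IsNilpotent ↥(commutator G) → (commutator G).index.Prime →
        (Nat.card ↥(commutator G)).Coprime (commutator G).index ∧
        ∀ K : Subgroup G, Subgroup.IsComplement' (commutator G) K → commutator G = ⁅(⊤ : Subgroup G), K⁆) := by
  refine ⟨fun H K hH hcop hc hle => ?_, fun hnil hq => ⟨coprime_index_of_nilpotent hnil hq, fun K hK => ?_⟩⟩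
  · haveI := hH
    exact part_a H K hcop hc hle
  · refine le_antisymm ?_ (by rw [commutator_def]; exact Subgroup.commutator_mono le_rfl le_top)
    conv_lhs => rw [(part_a (commutator G) K (coprime_index_of_nilpotent hnil hq) hK le_rfl).1]
    exact Subgroup.commutator_mono le_top le_rfl

end Cfsg.Agent.S1459
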