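import Cfsg.Statements.S1462
import Cfsg.Agent.Lib.OddOrder.TransitivityCriteria

set_option autoImplicit false
open Cfsg

namespace Cfsg.Agent.S1462

/-- Let G be a finite solvable group, p an odd prime with G = O_{p',p,p'}(G), E an elementary abelian p-subgroup contained in no larger elementary abelian p-subgroup of G, and L a subgroup of order coprime to p normalized by E. Then L ≤ O_{p'}(G). -/
theorem result {G : Type*} [Group G] [Finite G] [Group.IsSolvable G] (p : ℕ) [Fact p.Prime] (hp : p ≠ 2) (hpl : Cfsg.PLengthLE p 1 G) (E L : Subgroup G) (hE : Cfsg.IsElementaryAbelian p E)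
    (hEmax : ∀ B : Subgroup G, Cfsg.IsElementaryAbelian p B → E ≤ B → B = E) (hL : (Nat.card L).Coprime p) (hEL : E ≤ Subgroup.normalizer (L : Set G)) :
    L ≤ Cfsg.pPrimeCore p G := by
  obtain ⟨hEc, hEp⟩ := hE
  refine CfsgLib.OddOrder.Criteria.inv_le_core_of_plength_one hp hpl (A := E) ?_ hEc ?_ hEp hL hEL
  · intro x
    refine ⟨1, ?_⟩
    rw [pow_one]
    exact Subtype.ext (by simpa using hEp x x.2)
  · intro x hx hxp
    -- `E` together with `x` is elementary abelian
    let B : Subgroup G := Subgroup.closure ((E : Set G) ∪ {x})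
    have hcomm : ∀ a ∈ (E : Set G) ∪ {x}, ∀ b ∈ (E : Set G) ∪ {x}, a * b = b * a := by
      rintro a (ha | ha) b (hb | hb)
      · haveI := hEc
        exact congrArg Subtype.val ((IsMulCommutative.is_comm (M := E)).comm ⟨a, ha⟩ ⟨b, hb⟩)
      · rw [Set.mem_singleton_iff.1 hb]; exact Subgroup.mem_centralizer_iff.1 hx a ha
      · rw [Set.mem_singleton_iff.1 ha]; exact (Subgroup.mem_centralizer_iff.1 hx b hb).symm
      · rw [Set.mem_singleton_iff.1 ha, Set.mem_singleton_iff.1 hb]
    haveI hBc : IsMulCommutative B := Subgroup.isMulCommutative_closure hcomm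
    have hB : Cfsg.IsElementaryAbelian p B := by
      refine ⟨hBc, fun a ha => ?_⟩
      induction ha using Subgroup.closure_induction with
      | mem y hy =>
        rcases hy with hy | hy
        · exact hEp y hy
        · rw [Set.mem_singleton_iff.1 hy]; exact hxp
      | one => exact one_pow p
      | mul y z hy hz hy' hz' =>
        have hc : Commute y z := congrArg Subtype.val ((IsMulCommutative.is_comm (M := B)).comm ⟨y, hy⟩ ⟨z, hz⟩)
        rw [hc.mul_pow, hy', hz', one_mul]
      | inv y _ hy' => rw [inv_pow, hy', inv_one]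
    rw [← hEmax B hB (fun a ha => Subgroup.subset_closure (Or.inl ha))]
    exact Subgroup.subset_closure (Or.inr rfl)

end Cfsg.Agent.S1462
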