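import Cfsg.Statements.S1463
import Cfsg.Agent.Lib.PSL2.Line

set_option autoImplicit false
open scoped MatrixGroups
open Cfsg

namespace Cfsg.Agent.S1463

open Matrix OnePoint MulAction CfsgLib.PSL2 CfsgLib.PermSmall.Moebius

/-- In a finite group of odd order with a line action, elements of order `p` force a fixed point. -/
theorem forall_fix_of_odd {p : ℕ} {K : Type*} [Field K] [Fact p.Prime] [CharP K p] {G X : Type*}
    [Group G] [Finite G] [MulAction G X] (hA : IsLineAction p K G X) (hodd : Odd (Nat.card G))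
    (hp : p ≠ 2) {x : X} (hx : unip hA x ≠ ⊥) : ∀ g : G, g • x = x := by
  have hev : ∀ {n : ℕ}, 2 ∣ n → n = Nat.card G → False := by
    rintro n hn rfl
    exact hodd.not_two_dvd_nat hn
  rcases classify_modular hA hx with h | ⟨a, b, -, -, hi, -⟩ | h | ⟨-, h⟩ |
      ⟨y, -, -, -, -, -, -, -, hcard⟩
  · exact h
  · exact (hev ⟨_, rfl⟩ ((congrArg (fun i => i * _) hi).symm.trans
      (Subgroup.index_mul_card (stabilizer G a ⊓ stabilizer G b)))).elim
  · obtain ⟨e⟩ := h
    exact (hev (n := 12) (by norm_num) (by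
      rw [Nat.card_congr e.toEquiv, nat_card_alternatingGroup, Nat.card_fin]; decide)).elim
  · obtain ⟨e⟩ := h
    exact (hev (n := 60) (by norm_num) (by
      rw [Nat.card_congr e.toEquiv, nat_card_alternatingGroup, Nat.card_fin]; decide)).elim
  · obtain ⟨n, hn⟩ := (isPGroup_unip hA x).exists_card_eq
    refine (hev ?_ hcard.symm).elim
    refine Dvd.dvd.mul_right ?_ _
    rw [hn, ← even_iff_two_dvd]
    exact ((Nat.Prime.odd_of_ne_two Fact.out hp).pow).add_one

variable {F : Type*} [Field F]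

theorem eq_one_of_center_of_pow (p : ℕ) [Fact p.Prime] [CharP F p] {u : GL (Fin 2) F}
    (hu : u ∈ Subgroup.center (GL (Fin 2) F)) (hup : u ^ p = 1) : u = 1 := by
  rw [GeneralLinearGroup.center_eq_range_scalar] at hu
  obtain ⟨c, rfl⟩ := hu
  rw [← map_pow] at hup
  have h1 : ((c ^ p : Fˣ) : F) = 1 := by
    have h := congrArg (fun g : GL (Fin 2) F => (g : Matrix (Fin 2) (Fin 2) F) 0 0) hup
    simpa [Matrix.diagonal_pow] using h
  have h2 : ((c : F) - 1) ^ p = 0 := by
    rw [sub_pow_char, one_pow, ← Units.val_pow_eq_pow_val, h1, sub_self]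
  have hc : c = 1 := Units.ext (sub_eq_zero.mp (eq_zero_of_pow_eq_zero h2))
  rw [hc, map_one]

theorem exists_fixed_vector (p : ℕ) [Fact p.Prime] [CharP F p] {u : GL (Fin 2) F} (hup : u ^ p = 1) :
    ∃ v : Fin 2 → F, v ≠ 0 ∧ (u : Matrix (Fin 2) (Fin 2) F) *ᵥ v = v := by
  set N : Matrix (Fin 2) (Fin 2) F := (u : Matrix (Fin 2) (Fin 2) F) - 1 with hN
  have hNp : N ^ p = 0 := by
    rw [hN, sub_pow_char_of_commute p (Commute.one_right _), one_pow, ← Units.val_pow_eq_pow_val, hup,
      Units.val_one, sub_self]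
  have hdet : N.det = 0 := by
    have h := congrArg Matrix.det hNp
    rw [Matrix.det_pow, Matrix.det_zero] at h
    exact eq_zero_of_pow_eq_zero h
  obtain ⟨v, hv, hNv⟩ := Matrix.exists_mulVec_eq_zero_iff.mpr hdet
  refine ⟨v, hv, ?_⟩
  rw [hN, Matrix.sub_mulVec, Matrix.one_mulVec, sub_eq_zero] at hNv
  exact hNv

theorem smul_symm_mk_eq_iff [DecidableEq F] (g : GL (Fin 2) F) {v : Fin 2 → F} (hv : v ≠ 0) :
    g • (equivProjectivization F).symm (Projectivization.mk F v hv) =
      (equivProjectivization F).symm (Projectivization.mk F v hv) ↔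
    (g : Matrix (Fin 2) (Fin 2) F) *ᵥ v ∈ Submodule.span F {v} := by
  rw [← (equivProjectivization F).apply_eq_iff_eq, equivProjectivization_smul,
    Equiv.apply_symm_apply, Projectivization.smul_mk, Projectivization.mk_eq_mk_iff',
    Submodule.mem_span_singleton]
  rfl

/-- Let F be a field of odd characteristic p and H a finite subgroup of odd order of GL(2, F) that leaves no 1-dimensional subspace of F² invariant. Then p does not divide the order of H. -/
theorem result {F : Type*} [Field F] (p : ℕ) [Fact p.Prime] [CharP F p] (hp : p ≠ 2)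
    (H : Subgroup (GL (Fin 2) F)) [Finite H] (hodd : Odd (Nat.card H))
    (hirr : ∀ v : Fin 2 → F, v ≠ 0 → ∃ g ∈ H, (g : Matrix (Fin 2) (Fin 2) F).mulVec v ∉ Submodule.span F {v}) :
    ¬ p ∣ Nat.card H := by
  intro hpd
  classical
  obtain ⟨u, hu⟩ := exists_prime_orderOf_dvd_card' (G := H) p hpd
  have hup : (u : GL (Fin 2) F) ^ p = 1 := by
    rw [← SubmonoidClass.coe_pow, show u ^ p = 1 from hu ▸ pow_orderOf_eq_one u, OneMemClass.coe_one]
  have hu1 : (u : GL (Fin 2) F) ≠ 1 := fun h => by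
    rw [show u = 1 from Subtype.ext h, orderOf_one] at hu
    exact (Fact.out : p.Prime).ne_one hu.symm
  obtain ⟨v, hv, huv⟩ := exists_fixed_vector p hup
  obtain ⟨g, hg, hgv⟩ := hirr v hv
  apply hgv
  rw [← smul_symm_mk_eq_iff g hv]
  set z := (equivProjectivization F).symm (Projectivization.mk F v hv) with hz
  have huz : (u : GL (Fin 2) F) • z = z :=
    (smul_symm_mk_eq_iff _ hv).2 (by rw [huv]; exact Submodule.mem_span_singleton_self v)
  let ι : F →+* AlgebraicClosure F := algebraMap F _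
  have : CharP (AlgebraicClosure F) p := charP_of_injective_ringHom ι.injective p
  set Hb : Subgroup (ProjGenLinGroup (Fin 2) F) := H.map ProjGenLinGroup.mk with hHb
  have : Finite Hb := Finite.of_surjective (ProjGenLinGroup.mk.subgroupMap H)
    (MonoidHom.subgroupMap_surjective _ H)
  have hoddb : Odd (Nat.card Hb) := hodd.of_dvd_nat (Subgroup.card_map_dvd _ _)
  let f : Hb →* Equiv.Perm (OnePoint (AlgebraicClosure F)) := (lineHom ι).comp Hb.subtype
  have hf : Function.Injective f := (lineHom_injective ι).comp Subtype.val_injective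
  have hA := isLineAction f p hf fun h => lineHom_mem_range ι (h : ProjGenLinGroup (Fin 2) F)
  let ub : Hb := ⟨ProjGenLinGroup.mk (u : GL (Fin 2) F), Subgroup.mem_map_of_mem _ u.2⟩
  have hub1 : ub ≠ 1 := fun h => by
    have h' : ProjGenLinGroup.mk (u : GL (Fin 2) F) = 1 := congrArg Subtype.val h
    exact hu1 (eq_one_of_center_of_pow p (ProjGenLinGroup.mk_eq_one.1 h') hup)
  have hubp : ub ^ p = 1 := Subtype.ext (by
    show ProjGenLinGroup.mk (u : GL (Fin 2) F) ^ p = 1
    rw [← map_pow, hup, map_one])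
  have hfz : f ub (z.map ι) = z.map ι := by
    show lineHom ι (ProjGenLinGroup.mk (u : GL (Fin 2) F)) (z.map ι) = z.map ι
    rw [lineHom_mk_map, huz]
  let x : Pts f := ⟨z.map ι, ub, hub1, hfz⟩
  have hx : unip hA x ≠ ⊥ := fun e => hub1 (by
    have hm : ub ∈ unip hA x := ⟨(pts_smul_eq_iff f _ _).2 hfz, hubp⟩
    rwa [e, Subgroup.mem_bot] at hm)
  have hall := forall_fix_of_odd hA hoddb hp hx ⟨ProjGenLinGroup.mk g, Subgroup.mem_map_of_mem _ hg⟩
  rw [pts_smul_eq_iff] at hall
  refine map_onePoint_injective ι ?_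
  rw [← lineHom_mk_map]
  exact hall

end Cfsg.Agent.S1463
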