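import Cfsg.Statements.S1476
import Cfsg.Agent.Lib.CNGroup.ThreeStep
-- import your own Cfsg.Agent.* helpers here

set_option autoImplicit false
open Cfsg

namespace Cfsg.Agent.S1476

/-- Let G be a finite solvable group in which every non-identity element has nilpotent centralizer. Then either G is nilpotent; or G has a normal subgroup K with a Frobenius complement E (K E = G, K ∩ E = 1, E meets its conjugates by outside elements trivially) such that E is cyclic or E is generated by two elementwise-commuting subgroups, one cyclic of odd order and one isomorphic to a generalized quaternion group; or G is a three-step group with respect to some prime p. -/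
theorem result {G : Type*} [Group G] [Finite G] [Group.IsSolvable G] (hCN : Cfsg.IsCNGroup G) :
    Group.IsNilpotent G ∨
      (∃ K E : Subgroup G, K.Normal ∧ Subgroup.IsComplement' K E ∧ Cfsg.IsFrobeniusComplement E ∧
        (IsCyclic E ∨ ∃ C Q : Subgroup G, C ⊔ Q = E ∧ (∀ a ∈ C, ∀ b ∈ Q, a * b = b * a) ∧ IsCyclic C ∧ Odd (Nat.card C) ∧
          ∃ n : ℕ, Nonempty (↥Q ≃* QuaternionGroup (2 ^ n)))) ∨
      ∃ p : ℕ, p.Prime ∧ Cfsg.IsThreeStepGroup p G := by
  by_cases hnn : Group.IsNilpotent G
  · exact Or.inl hnn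
  haveI : Nontrivial G := by
    rcases subsingleton_or_nontrivial G with h | h
    · haveI : IsMulCommutative G := ⟨⟨fun a b => Subsingleton.elim _ _⟩⟩
      letI : CommGroup G :=
        { (inferInstance : Group G) with mul_comm := fun a b => Subsingleton.elim _ _ }
      exact absurd (inferInstance : Group.IsNilpotent G) hnn
    · exact h
  by_cases hs : ∀ (q : ℕ) [Fact q.Prime] (Q : Sylow q G), (Q : Subgroup G).Normal →
      (Q : Subgroup G) = ⊥
  · exact Or.inr (Or.inr (CfsgLib.CNGroup.exists_threeStep hCN hs))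
  · push Not at hs
    obtain ⟨q, hq, Q, hQn, hQb⟩ := hs
    obtain ⟨h1, -, E, hE, hEb, hfpf⟩ :=
      CfsgLib.CNGroup.exists_frobenius_of_normal_sylow hCN hnn Q hQb hQn
    haveI := CfsgLib.CNGroup.isNilpotent_complement hCN hE h1 hEb hfpf
    refine Or.inr (Or.inl ⟨_, E, inferInstance, hE,
      CfsgLib.CNGroup.isFrobeniusComplement_of_fpf hE h1 hEb hfpf, ?_⟩)
    letI : MulDistribMulAction ↥E ↥(Cfsg.fittingHall G) :=
      MulDistribMulAction.compHom _
        ((MulAut.conjNormal (H := Cfsg.fittingHall G)).comp E.subtype)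
    haveI : Nontrivial ↥(Cfsg.fittingHall G) := (Subgroup.nontrivial_iff_ne_bot _).2 h1
    have hf : CfsgLib.Frobenius.IsFPF ↥E ↥(Cfsg.fittingHall G) := by
      intro e he v hv
      have hv' : (MulAut.conjNormal (e : G) v : G) = v := congrArg Subtype.val hv
      rw [MulAut.conjNormal_apply] at hv'
      have h2 : (v : G) ∈ Cfsg.fittingHall G ⊓ Subgroup.centralizer ({(e : G)} : Set G) :=
        ⟨v.2, Subgroup.mem_centralizer_singleton_iff.2 (mul_inv_eq_iff_eq_mul.1 hv').symm⟩
      rw [hfpf e e.2 (fun h => he (Subtype.ext h)), Subgroup.mem_bot] at h2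
      exact Subtype.ext h2
    rcases CfsgLib.CNGroup.isCyclic_or_prod_of_fpf hf with hc | ⟨C, R, hsup, hcomm, hC, hodd, n, hn⟩
    · exact Or.inl hc
    refine Or.inr ⟨C.map E.subtype, R.map E.subtype, ?_, ?_, ?_, ?_, n, ?_⟩
    · rw [← Subgroup.map_sup, hsup, ← MonoidHom.range_eq_map, Subgroup.range_subtype]
    · rintro _ ⟨a, ha, rfl⟩ _ ⟨b, hb, rfl⟩
      exact congrArg E.subtype (hcomm a ha b hb)
    · exact isCyclic_of_surjective _ (C.equivMapOfInjective _ E.subtype_injective).surjective
    · rwa [Subgroup.card_map_of_injective E.subtype_injective]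
    · obtain ⟨φ⟩ := hn
      exact ⟨(R.equivMapOfInjective _ E.subtype_injective).symm.trans φ⟩

end Cfsg.Agent.S1476
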