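import Cfsg.Statements.S1481
import Cfsg.Agent.Lib.OddOrder.MaximalFitting
import Cfsg.Agent.Lib.Structure.Subnormal

set_option autoImplicit false
open Cfsg

namespace Cfsg.Agent.S1481

open Subgroup CfsgLib CfsgLib.OddOrder
open scoped commutatorElement

variable {G : Type*} [Group G] [Finite G]

/-- `Z(O_r(H))`. -/
def zCore (r : ℕ) (H : Subgroup G) : Subgroup G :=
  opCore r H ⊓ Subgroup.centralizer (opCore r H : Set G)

theorem zCore_le_center {r : ℕ} (hr : r.Prime) (H : Subgroup G) :
    zCore r H ≤ Cfsg.fittingOf H ⊓ Subgroup.centralizer (Cfsg.fittingOf H : Set G) := by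
  refine le_inf (inf_le_left.trans (opCore_le_fittingOf hr H)) (Subgroup.le_centralizer_iff.mp ?_)
  refine fittingOf_le_of_forall fun t ht => ?_
  by_cases htr : t = r
  · subst htr
    exact Subgroup.le_centralizer_iff.mp inf_le_right
  · exact (opCore_commute ht hr htr H).trans (Subgroup.centralizer_le inf_le_left)

theorem zCore_le_of_selfCentralizing {H M : Subgroup G} (hM : M ≤ Cfsg.fittingOf H)
    (hCM : Cfsg.fittingOf H ⊓ Subgroup.centralizer (M : Set G) ≤ M) {r : ℕ} (hr : r.Prime) :
    zCore r H ≤ M :=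
  (zCore_le_center hr H).trans (le_trans (inf_le_inf_left _ (Subgroup.centralizer_le hM)) hCM)

theorem centralizer_zCore_le {H : Subgroup G}
    (hHmax : ∀ L : Subgroup G, Cfsg.IsLocalSubgroup L → H ≤ L → L = H)
    {r : ℕ} (hr : r.Prime) (hd : r ∣ Nat.card (Cfsg.fittingOf H)) :
    Subgroup.centralizer (zCore r H : Set G) ≤ H := by
  refine (Subgroup.centralizer_le_normalizer (zCore r H : Set G)).trans
    (hHmax _ ⟨r, zCore r H, hr, (opCore_isPGroup r H).to_le inf_le_left,
      MaxFit.center_opCore_ne_bot hr hd, rfl⟩ ?_).le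
  exact le_trans (le_inf (opCore_normal r H)
    ((opCore_normal r H).trans (Transitivity.normalizer_centralizer_le _)))
    Subgroup.inf_normalizer_le_normalizer_inf

/-- A normal subgroup's Fitting subgroup is normalized by the normalizer. -/
theorem normalizer_le_normalizer_fittingOf (X : Subgroup G) :
    Subgroup.normalizer (X : Set G) ≤ Subgroup.normalizer (Cfsg.fittingOf X : Set G) := by
  have key : ∀ g : G, g ∈ Subgroup.normalizer (X : Set G) →
      Transitivity.cj g (Cfsg.fittingOf X) ≤ Cfsg.fittingOf X := by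
    intro g hg
    refine le_fittingOf ?_ ?_ (Fitting.isNilpotent_map (fittingOf_isNilpotent X) _)
    · exact (Transitivity.cj_mono (fittingOf_le X)).trans (Transitivity.cj_eq_of_mem_normalizer hg).le
    · intro x hx
      refine Transitivity.mem_normalizer_of_cj_eq ?_
      have hx' : g⁻¹ * x * g ∈ X := (Subgroup.mem_normalizer_iff''.mp hg x).mp hx
      rw [Transitivity.cj_mul, show x * g = g * (g⁻¹ * x * g) by group, ← Transitivity.cj_mul,
        Transitivity.cj_eq_of_mem_normalizer (fittingOf_normal X hx')]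
  intro g hg
  exact Transitivity.mem_normalizer_of_cj_eq (Subgroup.eq_of_le_of_card_ge (key g hg)
    (Transitivity.card_cj g _).ge)

/-- The solvable part of `X = C_H(F(H))` normalized by `X` lies in `F(H)`. -/
theorem centralizer_inf_solvable_le {H R : Subgroup G} (hR : Group.IsSolvable R)
    (hXR : H ⊓ Subgroup.centralizer (Cfsg.fittingOf H : Set G) ≤ Subgroup.normalizer (R : Set G)) :
    H ⊓ Subgroup.centralizer (Cfsg.fittingOf H : Set G) ⊓ R ≤ Cfsg.fittingOf H := by
  set X := H ⊓ Subgroup.centralizer (Cfsg.fittingOf H : Set G) with hX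
  have hHX : H ≤ Subgroup.normalizer (X : Set G) :=
    le_trans (le_inf Subgroup.le_normalizer
      ((fittingOf_normal H).trans (Transitivity.normalizer_centralizer_le _)))
      Subgroup.inf_normalizer_le_normalizer_inf
  have hNs : Group.IsSolvable ↥(X ⊓ R) :=
    Group.isSolvable_of_isSolvable_injective (Subgroup.inclusion_injective (inf_le_right : X ⊓ R ≤ R))
  have hXN : X ≤ Subgroup.normalizer ((X ⊓ R : Subgroup G) : Set G) :=
    le_trans (le_inf Subgroup.le_normalizer hXR) Subgroup.inf_normalizer_le_normalizer_inf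
  have h1 : Cfsg.fittingOf (X ⊓ R) ≤ Cfsg.fittingOf X :=
    le_fittingOf ((fittingOf_le _).trans inf_le_left)
      (hXN.trans (normalizer_le_normalizer_fittingOf _)) (fittingOf_isNilpotent _)
  have h2 : Cfsg.fittingOf X ≤ Cfsg.fittingOf H :=
    le_fittingOf ((fittingOf_le _).trans inf_le_left)
      (hHX.trans (normalizer_le_normalizer_fittingOf _)) (fittingOf_isNilpotent _)
  refine le_trans (le_inf le_rfl ?_) ((centralizer_fittingOf_le hNs).trans (h1.trans h2))
  exact (inf_le_left.trans inf_le_right).trans (Subgroup.centralizer_le (h1.trans h2))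

variable {H M R : Subgroup G} (hM : M ≤ Cfsg.fittingOf H)
  (hCM : Cfsg.fittingOf H ⊓ Subgroup.centralizer (M : Set G) ≤ M) (hR : Group.IsSolvable R)
  (hMR : M ≤ Subgroup.normalizer (R : Set G))
  (hXR : H ⊓ Subgroup.centralizer (Cfsg.fittingOf H : Set G) ≤ Subgroup.normalizer (R : Set G))

include hM in
theorem le_iSup_parts : ∀ {D : Subgroup G},
    (∀ t : ℕ, t.Prime → M ⊓ opCore t H ≤ D) → M ≤ D := by
  intro D h
  refine Coprime.le_of_forall_sylow_le fun q hq Z => ?_
  have := Fact.mk hq
  refine le_trans ?_ (h q hq)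
  exact le_inf (Subgroup.map_subtype_le _)
    (le_opCore_of_le_fittingOf ((Subgroup.map_subtype_le _).trans hM) (Z.isPGroup'.map _))

include hM hCM hR hXR in
/-- `M`-invariant `π(F)'`-subgroups of `H ∩ R` are trivial. -/
theorem eq_bot_of_le_local {Y : Subgroup G} (hYH : Y ≤ H) (hYR : Y ≤ R)
    (hcop : (Nat.card Y).Coprime (Nat.card (Cfsg.fittingOf H)))
    (hn : M ≤ Subgroup.normalizer (Y : Set G)) : Y = ⊥ := by
  have hdisj : ∀ x : G, x ∈ Y → x ∈ Cfsg.fittingOf H → x = 1 := fun x h1 h2 =>
    orderOf_eq_one_iff.mp (Nat.eq_one_of_dvd_coprimes hcop (Subgroup.orderOf_dvd_natCard Y h1)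
      (Subgroup.orderOf_dvd_natCard _ h2))
  have hYC : Y ≤ Subgroup.centralizer (M : Set G) := by
    intro y hy
    rw [Subgroup.mem_centralizer_iff]
    intro c hc
    refine commutatorElement_eq_one_iff_mul_comm.mp (hdisj _ ?_ ?_) <;> rw [commutatorElement_def]
    · exact mul_mem ((Subgroup.mem_normalizer_iff.mp (hn hc) y).mp hy) (Y.inv_mem hy)
    · rw [mul_assoc, mul_assoc]
      refine mul_mem (hM hc) ?_
      rw [← mul_assoc]
      exact conj_mem_of_le_normalizer (fittingOf_normal H) (hYH hy)
        ((Cfsg.fittingOf H).inv_mem (hM hc))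
  have hYF : Cfsg.fittingOf H ≤ Subgroup.centralizer (Y : Set G) := by
    refine fittingOf_le_of_forall fun r hr => ?_
    by_cases hd : r ∣ Nat.card (Cfsg.fittingOf H)
    swap
    · rw [show opCore r H = ⊥ from not_not.mp fun h => hd (dvd_of_opCore_ne_bot hr h)]
      exact bot_le
    have := Fact.mk hr
    have hc : Y ≤ Subgroup.centralizer ((M ⊓ opCore r H : Subgroup G) : Set G) :=
      hYC.trans (Subgroup.centralizer_le inf_le_left)
    refine Subgroup.le_centralizer_iff.mp (Coprime.pq_lemma r (M ⊓ opCore r H) Y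
      ((opCore_isPGroup r H).to_le inf_le_right) ?_ (Subgroup.le_centralizer_iff.mp hc)
      (opCore r H) (opCore_isPGroup r H) (inf_le_right.trans Subgroup.le_normalizer)
      (hYH.trans (opCore_normal r H)) ?_)
    · exact Nat.Coprime.coprime_dvd_right hd hcop
    · intro x hx
      refine Subgroup.le_centralizer_iff.mp hYC (hCM ⟨opCore_le_fittingOf hr H hx.1, ?_⟩)
      have hMC : M ≤ Subgroup.centralizer ({x} : Set G) := le_iSup_parts hM fun t ht => by
        intro m hm
        rw [Subgroup.mem_centralizer_singleton_iff]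
        by_cases htr : t = r
        · subst htr
          exact Subgroup.mem_centralizer_iff.mp hx.2 m hm
        · exact (Subgroup.mem_centralizer_iff.mp (opCore_commute ht hr htr H hm.2) x hx.1).symm
      exact Subgroup.mem_centralizer_iff.mpr fun m hm => Subgroup.mem_centralizer_singleton_iff.mp (hMC hm)
  refine eq_bot_iff.mpr fun y hy => hdisj y hy ?_
  exact centralizer_inf_solvable_le hR hXR
    ⟨⟨hYH hy, Subgroup.le_centralizer_iff.mp hYF hy⟩, hYR hy⟩

/-- Let G be a finite group and H a local subgroup (the normalizer of a nontrivial subgroup of prime-power order) not properly contained in any local subgroup; let F = F(H), suppose at least two primes divide #F, put X = H ∩ C_G(F), let M ≤ F with F ∩ C_G(M) ≤ M, and let R be a solvable subgroup normalized by M and by X. Then for every prime q not dividing #F there is exactly one maximal M-invariant q-subgroup of R, and it is a Sylow q-subgroup of the largest normal subgroup of R of order coprime to #F. -/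
theorem result {G : Type*} [Group G] [Finite G] (H : Subgroup G) (hH : Cfsg.IsLocalSubgroup H) (hHmax : ∀ L : Subgroup G, Cfsg.IsLocalSubgroup L → H ≤ L → L = H)
    (hF2 : 2 ≤ (Nat.card (Cfsg.fittingOf H)).primeFactors.card)
    (M : Subgroup G) (hM : M ≤ Cfsg.fittingOf H) (hCM : Cfsg.fittingOf H ⊓ Subgroup.centralizer (M : Set G) ≤ M)
    (R : Subgroup G) (hR : Group.IsSolvable R) (hMR : M ≤ Subgroup.normalizer (R : Set G))
    (hXR : H ⊓ Subgroup.centralizer (Cfsg.fittingOf H : Set G) ≤ Subgroup.normalizer (R : Set G))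
    (q : ℕ) [Fact q.Prime] (hq : ¬ q ∣ Nat.card (Cfsg.fittingOf H)) :
    ∃! Q : Subgroup G, Q ∈ Cfsg.maxInvSubgroups R M {q} ∧
      (∀ Q' : Subgroup G, Q' ∈ Cfsg.maxInvSubgroups R M {q} →
        Q' ≤ Cfsg.piCoreOf (Cfsg.primesNotDvd (Nat.card (Cfsg.fittingOf H))) R ∧
        ¬ q ∣ Q'.relIndex (Cfsg.piCoreOf (Cfsg.primesNotDvd (Nat.card (Cfsg.fittingOf H))) R)) := by
  have hqp : q.Prime := Fact.out
  set F := Cfsg.fittingOf H with hF
  set K := Cfsg.piCoreOf (Cfsg.primesNotDvd (Nat.card F)) R with hK
  have hMs : Group.IsSolvable M := by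
    have := fittingOf_isNilpotent H
    exact Group.isSolvable_of_isSolvable_injective (Subgroup.inclusion_injective hM)
  obtain ⟨p₁, hp₁, p₂, hp₂, hne⟩ := Finset.one_lt_card.mp hF2
  have hother : ∀ r : ℕ, ∃ s : ℕ, s.Prime ∧ s ∣ Nat.card F ∧ r ≠ s := fun r => by
    by_cases h : r = p₁
    · exact ⟨p₂, Nat.prime_of_mem_primeFactors hp₂, Nat.dvd_of_mem_primeFactors hp₂,
        fun h2 => hne (h.symm.trans h2)⟩
    · exact ⟨p₁, Nat.prime_of_mem_primeFactors hp₁, Nat.dvd_of_mem_primeFactors hp₁, h⟩
  -- step 1: invariant `q`-subgroups lie in the core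
  have hleK : ∀ Q : Subgroup G, Q ≤ R → IsPGroup q Q → M ≤ Subgroup.normalizer (Q : Set G) →
      Q ≤ K := by
    intro Q hQR hQq hQn
    refine (MaxFit.le_piCoreOf_of_forall (T := {t | t ∣ Nat.card F}) hQR fun r hrd hr => ?_).trans
      (Subgroup.map_mono (piCore_mono fun t ht => ⟨ht.1, ht.2⟩))
    obtain ⟨s, hs, hsd, hrs⟩ := hother r
    have := Fact.mk hr
    have := Fact.mk hs
    set X := R ⊔ M with hX
    have hXs : Group.IsSolvable X := CfsgLib.Structure.isSolvable_sup_of_le_normalizer hMR
    set S := M ⊓ opCore s H with hS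
    have hSX : S ≤ X := inf_le_left.trans le_sup_right
    have hZrX : zCore r H ≤ X := (zCore_le_of_selfCentralizing hM hCM hr).trans le_sup_right
    have hbal : opCore s H ⊓ X ≤ oPrime r X := by
      have h1 : (opCore s H ⊓ X).subgroupOf X ≤ Cfsg.pPrimeCore r X := by
        refine Bender.le_core_of_centralizer_subgroup (U := (zCore r H).subgroupOf X)
          (((opCore_isPGroup r H).to_le inf_le_left).comap_of_injective X.subtype
            X.subtype_injective) ?_ ?_ ?_
        · intro x hx
          rw [Subgroup.mem_centralizer_iff]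
          intro u hu
          exact Subtype.ext
            (Subgroup.mem_centralizer_iff.mp (opCore_commute hs hr hrs.symm H hx.1) u hu.1)
        · intro x hx
          rw [← Subgroup.subgroupOf_normalizer_eq (inf_le_right : opCore s H ⊓ X ≤ X)]
          refine Subgroup.inf_normalizer_le_normalizer_inf ⟨opCore_normal s H
            (centralizer_zCore_le hHmax hr hrd ?_), Subgroup.le_normalizer x.2⟩
          refine Subgroup.mem_centralizer_iff.mpr fun u hu => ?_
          exact congrArg Subtype.val (Subgroup.mem_centralizer_iff.mp hx ⟨u, hZrX hu⟩ hu)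
        · obtain ⟨n, hn⟩ :=
            ((opCore_isPGroup s H).to_le (inf_le_left : opCore s H ⊓ X ≤ _)).exists_card_eq
          rw [Nat.card_congr (Subgroup.subgroupOfEquivOfLe (inf_le_right : opCore s H ⊓ X ≤ X)).toEquiv,
            hn]
          exact ((Nat.coprime_primes hs hr).mpr hrs.symm).pow_left n
      have h2 := Subgroup.map_mono (f := X.subtype) h1
      rwa [Subgroup.map_subgroupOf_eq_of_le inf_le_right] at h2
    have hSO : S ≤ oPrime r X := le_trans (le_inf inf_le_right hSX) hbal
    have hcopSQ : (Nat.card S).Coprime (Nat.card Q) := by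
      obtain ⟨n, hn⟩ := ((opCore_isPGroup s H).to_le (inf_le_right : S ≤ _)).exists_card_eq
      obtain ⟨m, hm⟩ := hQq.exists_card_eq
      rw [hn, hm]
      exact ((Nat.coprime_primes hs hqp).mpr fun h => hq (h ▸ hsd)).pow n m
    have hMS : M ≤ Subgroup.normalizer (S : Set G) :=
      le_trans (le_inf Subgroup.le_normalizer
        ((hM.trans (fittingOf_le H)).trans (opCore_normal s H)))
        Subgroup.inf_normalizer_le_normalizer_inf
    have hfix : Q ⊓ Subgroup.centralizer (S : Set G) = ⊥ := by
      refine eq_bot_of_le_local hM hCM hR hXR ?_ (inf_le_left.trans hQR) ?_ ?_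
      · exact inf_le_right.trans ((Subgroup.centralizer_le
          (le_inf (zCore_le_of_selfCentralizing hM hCM hs) inf_le_left)).trans
          (centralizer_zCore_le hHmax hs hsd))
      · obtain ⟨m, hm⟩ := (hQq.to_le (inf_le_left : Q ⊓ _ ≤ Q)).exists_card_eq
        rw [hm]
        exact ((hqp.coprime_iff_not_dvd).mpr hq).pow_left m
      · exact le_trans (le_inf hQn (hMS.trans (Transitivity.normalizer_centralizer_le _)))
          Subgroup.inf_normalizer_le_normalizer_inf
    have hY := Coprime.commutator_sup_centralizer S Q (inf_le_left.trans hQn) hcopSQ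
      (Or.inr (Group.isSolvable_of_isSolvable_injective (Subgroup.inclusion_injective hQR)))
    rw [hfix, sup_bot_eq] at hY
    have hQO : Q ≤ oPrime r X := by
      rw [← hY, Subgroup.commutator_le]
      intro y hy a ha
      rw [commutatorElement_def]
      exact mul_mem (conj_mem_of_le_normalizer (oPrime_normal X)
        ((hQR.trans le_sup_left : Q ≤ X) hy) (hSO ha)) (inv_mem (hSO ha))
    refine (le_inf hQO hQR).trans (le_oPrime inf_le_right ?_
      (Nat.Coprime.coprime_dvd_left (Subgroup.card_dvd_of_le inf_le_left) (oPrime_coprime X)))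
    exact le_trans (le_inf ((le_sup_left : R ≤ X).trans (oPrime_normal X)) Subgroup.le_normalizer)
      Subgroup.inf_normalizer_le_normalizer_inf
  -- step 2: the invariant Sylow subgroup of the core is unique
  have hKR : K ≤ R := piCoreOf_le _ _
  have hMK : M ≤ Subgroup.normalizer (K : Set G) :=
    hMR.trans (Transitivity.normalizer_le_normalizer_piCoreOf _ R)
  have hKF : (Nat.card F).Coprime (Nat.card K) := Transitivity.coprime_of_piNat (piNat_card_piCoreOf _ R)
  have hcop : (Nat.card M).Coprime (Nat.card K) := hKF.coprime_dvd_left (Subgroup.card_dvd_of_le hM)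
  have hfixK : K ⊓ Subgroup.centralizer (M : Set G) = ⊥ := by
    obtain ⟨s, hs, hsd, -⟩ := hother 0
    refine eq_bot_of_le_local hM hCM hR hXR ?_ (inf_le_left.trans hKR)
      (Nat.Coprime.coprime_dvd_left (Subgroup.card_dvd_of_le inf_le_left) hKF.symm)
      (le_trans (le_inf hMK (Subgroup.le_normalizer.trans (Transitivity.normalizer_centralizer_le _)))
        Subgroup.inf_normalizer_le_normalizer_inf)
    exact inf_le_right.trans ((Subgroup.centralizer_le (zCore_le_of_selfCentralizing hM hCM hs)).trans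
      (centralizer_zCore_le hHmax hs hsd))
  obtain ⟨P, hP⟩ := Coprime.exists_invariant_sylow M K hMK hcop (Or.inl hMs) q
  set S := (P : Subgroup K).map K.subtype with hS
  have htop : ∀ Q ∈ Cfsg.invSubgroups R M {q}, Q ≤ S := by
    rintro Q ⟨hQR, hQπ, hQn⟩
    have hQq : IsPGroup q Q := MaxFit.isPGroup_of_forall_prime_dvd fun d hd hdd => hQπ d hd hdd
    obtain ⟨P', hQP', hP'⟩ := Coprime.exists_invariant_sylow_ge M K hMK hcop (Or.inl hMs) q Q
      (hleK Q hQR hQq hQn) hQq hQn
    obtain ⟨c, hc, hcP⟩ := Coprime.invariant_sylow_conj M K hMK hcop (Or.inl hMs) q P P' hP hP'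
    have hc1 : c = 1 := Subtype.ext (Subgroup.mem_bot.mp (hfixK ▸ (Subgroup.mem_inf.mpr ⟨c.2, hc⟩)))
    rw [hc1, one_smul] at hcP
    rwa [hS, hcP]
  have hSmem : S ∈ Cfsg.invSubgroups R M {q} := by
    refine ⟨(Subgroup.map_subtype_le _).trans hKR, fun d hd hdd => ?_, hP⟩
    obtain ⟨n, hn⟩ := (P.isPGroup'.map K.subtype).exists_card_eq
    exact (Nat.prime_dvd_prime_iff_eq hd hqp).mp (hd.dvd_of_dvd_pow (hn ▸ hdd))
  have hSmax : S ∈ Cfsg.maxInvSubgroups R M {q} :=
    ⟨hSmem, fun Y hY hSY => le_antisymm (htop Y hY) hSY⟩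
  have heq : ∀ Q ∈ Cfsg.maxInvSubgroups R M {q}, Q = S := fun Q hQ =>
    (hQ.2 S hSmem (htop Q hQ.1)).symm
  refine ⟨S, ⟨hSmax, fun Q' hQ' => ?_⟩, fun Q hQ => heq Q hQ.1⟩
  rw [heq Q' hQ']
  refine ⟨Subgroup.map_subtype_le _, ?_⟩
  rw [Subgroup.relIndex, show S.subgroupOf K = (P : Subgroup K) from
    Subgroup.comap_map_eq_self_of_injective K.subtype_injective _]
  exact P.not_dvd_index

end Cfsg.Agent.S1481
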