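import Cfsg.Statements.S1482
import Cfsg.Agent.Lib.OddOrder.MaximalFitting

set_option autoImplicit false
open Cfsg

namespace Cfsg.Agent.S1482

open Subgroup CfsgLib.OddOrder

variable {G : Type*} [Group G] [Finite G]

/-- `Z(O_r(H))`. -/
def zCore (r : ℕ) (H : Subgroup G) : Subgroup G :=
  opCore r H ⊓ Subgroup.centralizer (opCore r H : Set G)

theorem zCore_le_center {r : ℕ} (hr : r.Prime) (H : Subgroup G) :
    zCore r H ≤ Cfsg.fittingOf H ⊓ Subgroup.centralizer (Cfsg.fittingOf H : Set G) := by
  refine le_inf (inf_le_left.trans (opCore_le_fittingOf hr H)) (Subgroup.le_centralizer_iff.mp ?_)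
  refine fittingOf_le_of_forall fun t ht => ?_
  by_cases htr : t = r
  · subst htr
    exact Subgroup.le_centralizer_iff.mp inf_le_right
  · exact (opCore_commute ht hr htr H).trans (Subgroup.centralizer_le inf_le_left)

theorem centralizer_zCore_le (hG : Cfsg.IsMinSimpleOddOrder G) {H : Subgroup G} (hH : IsCoatom H)
    {r : ℕ} (hr : r.Prime) (hd : r ∣ Nat.card (Cfsg.fittingOf H)) :
    Subgroup.centralizer (zCore r H : Set G) ≤ H := by
  refine (Subgroup.centralizer_le_normalizer (zCore r H : Set G)).trans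
    (normalizer_eq_of_isCoatom hG hH (inf_le_left.trans (opCore_le r H))
      (MaxFit.center_opCore_ne_bot hr hd) ?_).le
  exact le_trans (le_inf (opCore_normal r H) ((opCore_normal r H).trans (Transitivity.normalizer_centralizer_le _)))
    Subgroup.inf_normalizer_le_normalizer_inf

/-- Balance: `O_s(H) ∩ X ≤ O_{r'}(X)` for proper `X ≥ Z(O_r(H))`. -/
theorem opCore_inf_le_oPrime (hG : Cfsg.IsMinSimpleOddOrder G) {H : Subgroup G} (hH : IsCoatom H)
    {r s : ℕ} (hr : r.Prime) (hs : s.Prime) (hd : r ∣ Nat.card (Cfsg.fittingOf H)) (hrs : r ≠ s)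
    {X : Subgroup G} (hX : X ≠ ⊤) (hZX : zCore r H ≤ X) : opCore s H ⊓ X ≤ oPrime r X := by
  have := Fact.mk hr
  have := Fact.mk hs
  have := minSimple_solvable hG hX
  have hU : IsPGroup r (zCore r H) := (opCore_isPGroup r H).to_le inf_le_left
  have hZ : (opCore s H ⊓ X).subgroupOf X ≤ Cfsg.pPrimeCore r X := by
    refine Bender.le_core_of_centralizer_subgroup (U := (zCore r H).subgroupOf X)
      (hU.comap_of_injective X.subtype X.subtype_injective) ?_ ?_ ?_
    · intro x hx
      rw [Subgroup.mem_centralizer_iff]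
      intro u hu
      exact Subtype.ext (Subgroup.mem_centralizer_iff.mp (opCore_commute hs hr hrs.symm H hx.1) u hu.1)
    · intro x hx
      rw [← Subgroup.subgroupOf_normalizer_eq (inf_le_right : opCore s H ⊓ X ≤ X)]
      refine Subgroup.inf_normalizer_le_normalizer_inf ⟨opCore_normal s H
        (centralizer_zCore_le hG hH hr hd ?_), Subgroup.le_normalizer x.2⟩
      refine Subgroup.mem_centralizer_iff.mpr fun u hu => ?_
      exact congrArg Subtype.val (Subgroup.mem_centralizer_iff.mp hx ⟨u, hZX hu⟩ hu)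
    · obtain ⟨n, hn⟩ := ((opCore_isPGroup s H).to_le (inf_le_left : opCore s H ⊓ X ≤ _)).exists_card_eq
      rw [Nat.card_congr (Subgroup.subgroupOfEquivOfLe (inf_le_right : opCore s H ⊓ X ≤ X)).toEquiv, hn]
      exact ((Nat.coprime_primes hs hr).mpr hrs.symm).pow_left n
  have h2 := Subgroup.map_mono (f := X.subtype) hZ
  rwa [Subgroup.map_subgroupOf_eq_of_le inf_le_right] at h2

theorem opCore_centralizes_oPrime (r : ℕ) [Fact r.Prime] (L : Subgroup G) :
    opCore r L ≤ Subgroup.centralizer (oPrime r L : Set G) :=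
  commute_of_normalizes ((opCore_le r L).trans (oPrime_normal L))
    ((oPrime_le L).trans (opCore_normal r L))
    (fun x h1 h2 => Criteria.eq_one_of_pgroup_of_coprime (opCore_isPGroup r L) (oPrime_coprime L) h1 h2)

/-- Let G be a minimal simple group of odd order, H a maximal subgroup whose Fitting subgroup F has at least two prime divisors, and M a subgroup of F containing the centre of F such that the only M-invariant subgroup of G of order coprime to #F is the trivial one. Then H is the only maximal subgroup of G containing M. -/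
theorem result {G : Type*} [Group G] [Finite G] (hG : Cfsg.IsMinSimpleOddOrder G) (H : Subgroup G) (hH : IsCoatom H) (hF2 : 2 ≤ (Nat.card (Cfsg.fittingOf H)).primeFactors.card)
    (M : Subgroup G) (hM : M ≤ Cfsg.fittingOf H) (hZM : Cfsg.fittingOf H ⊓ Subgroup.centralizer (Cfsg.fittingOf H : Set G) ≤ M)
    (hinv : ∀ Y ∈ Cfsg.invSubgroups ⊤ M (Cfsg.primesNotDvd (Nat.card (Cfsg.fittingOf H))), Y = ⊥) :
    ∀ L : Subgroup G, IsCoatom L → M ≤ L → L = H := by
  intro L hL hML
  set F := Cfsg.fittingOf H with hF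
  have hLs := minSimple_solvable hG hL.1
  have := minSimple_solvable hG hH.1
  have hZL : ∀ r : ℕ, r.Prime → zCore r H ≤ L := fun r hr => ((zCore_le_center hr H).trans hZM).trans hML
  obtain ⟨p₁, hp₁, p₂, hp₂, hne⟩ := Finset.one_lt_card.mp hF2
  have hp₁' := Nat.prime_of_mem_primeFactors hp₁
  have hp₂' := Nat.prime_of_mem_primeFactors hp₂
  have hp₁d := Nat.dvd_of_mem_primeFactors hp₁
  have hp₂d := Nat.dvd_of_mem_primeFactors hp₂
  have hother : ∀ s : ℕ, ∃ r : ℕ, r.Prime ∧ r ∣ Nat.card F ∧ r ≠ s := fun s => by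
    by_cases h : p₁ = s
    · exact ⟨p₂, hp₂', hp₂d, fun h2 => hne (h.trans h2.symm)⟩
    · exact ⟨p₁, hp₁', hp₁d, h⟩
  -- the primes of `F(L)` are primes of `F`
  have hπ1 : ∀ q : ℕ, q.Prime → q ∣ Nat.card (Cfsg.fittingOf L) → q ∣ Nat.card F := by
    intro q hq hd
    by_contra hnd
    have := Fact.mk hq
    refine opCore_ne_bot_of_dvd hq hd (hinv _ ⟨le_top, fun t ht htd => ?_, hML.trans (opCore_normal q L)⟩)
    obtain ⟨n, hn⟩ := (opCore_isPGroup q L).exists_card_eq
    have htq := (Nat.prime_dvd_prime_iff_eq ht hq).mp (ht.dvd_of_dvd_pow (hn ▸ htd))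
    exact ⟨ht, htq ▸ hnd⟩
  have hbal : ∀ r s : ℕ, r.Prime → s.Prime → r ∣ Nat.card F → r ≠ s → opCore s H ⊓ L ≤ oPrime r L :=
    fun r s hr hs hd hrs => opCore_inf_le_oPrime hG hH hr hs hd hrs hL.1 (hZL r hr)
  -- the primes of `F` are primes of `F(L)`
  have hπ : ∀ t : ℕ, t.Prime → (t ∣ Nat.card F ↔ t ∣ Nat.card (Cfsg.fittingOf L)) := by
    refine fun s hs => ⟨fun hsd => by_contra fun hn => ?_, hπ1 s hs⟩
    refine MaxFit.center_opCore_ne_bot hs hsd (le_bot_iff.mp ?_)
    refine (MaxFit.le_piCoreOf_of_forall (T := {t | t ∣ Nat.card (Cfsg.fittingOf L)}) (hZL s hs)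
      fun t htd ht => ?_).trans (Bender.eq_bot_of_opCore hLs (piCoreOf_le _ _) (piCoreOf_normal _ _)
        fun t ht htd => (piNat_card_piCoreOf _ _ t ht htd).2).le
    exact le_trans (le_inf inf_le_left (hZL s hs))
      (hbal t s ht hs (hπ1 t ht htd) (fun h => hn (h ▸ htd)))
  -- `F(L) ≤ H`
  have hFLH : Cfsg.fittingOf L ≤ H := by
    refine fittingOf_le_of_forall fun r hr => ?_
    have := Fact.mk hr
    by_cases hd : r ∣ Nat.card (Cfsg.fittingOf L)
    swap
    · rw [show opCore r L = ⊥ from not_not.mp fun h => hd (dvd_of_opCore_ne_bot hr h)]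
      exact bot_le
    obtain ⟨s, hs, hsd, hsr⟩ := hother r
    refine ((opCore_centralizes_oPrime r L).trans (Subgroup.centralizer_le ?_)).trans
      (centralizer_zCore_le hG hH hs hsd)
    exact le_trans (le_inf inf_le_left (hZL s hs)) (hbal r s hr hs (hπ1 r hr hd) hsr.symm)
  -- `F ≤ L`
  have hFL : F ≤ L := by
    refine fittingOf_le_of_forall fun s hs => ?_
    have := Fact.mk hs
    by_cases hsd : s ∣ Nat.card F
    swap
    · rw [show opCore s H = ⊥ from not_not.mp fun h => hsd (dvd_of_opCore_ne_bot hs h)]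
      exact bot_le
    obtain ⟨r, hr, hrd, hrs⟩ := hother s
    have := Fact.mk hr
    have hUH : opCore s L ≤ H := (opCore_le_fittingOf hs L).trans hFLH
    have hRH : opCore r L ≤ H := (opCore_le_fittingOf hr L).trans hFLH
    have hNU : Subgroup.normalizer (opCore s L : Set G) = L := normalizer_eq_of_isCoatom hG hL
      (opCore_le s L) (opCore_ne_bot_of_dvd hs ((hπ s hs).mp hsd)) (opCore_normal s L)
    have hR : opCore r L ≤ oPrime s H := by
      have h1 : (opCore r L).subgroupOf H ≤ Cfsg.pPrimeCore s H := by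
        refine Bender.le_core_of_centralizer_subgroup (U := (opCore s L).subgroupOf H)
          ((opCore_isPGroup s L).comap_of_injective H.subtype H.subtype_injective) ?_ ?_ ?_
        · intro x hx
          rw [Subgroup.mem_centralizer_iff]
          exact fun u hu =>
            Subtype.ext (Subgroup.mem_centralizer_iff.mp (opCore_commute hr hs hrs L hx) u hu)
        · intro x hx
          rw [← Subgroup.subgroupOf_normalizer_eq hRH]
          refine opCore_normal r L (hNU.le (Subgroup.centralizer_le_normalizer (opCore s L : Set G)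
            (Subgroup.mem_centralizer_iff.mpr fun u hu => ?_)))
          exact congrArg Subtype.val (Subgroup.mem_centralizer_iff.mp hx ⟨u, hUH hu⟩ hu)
        · obtain ⟨n, hn⟩ := (opCore_isPGroup r L).exists_card_eq
          rw [Nat.card_congr (Subgroup.subgroupOfEquivOfLe hRH).toEquiv, hn]
          exact ((Nat.coprime_primes hr hs).mpr hrs).pow_left n
      have h2 := Subgroup.map_mono (f := H.subtype) h1
      rwa [Subgroup.map_subgroupOf_eq_of_le hRH] at h2
    exact ((opCore_centralizes_oPrime s H).trans (Subgroup.centralizer_le hR)).trans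
      ((Subgroup.centralizer_le_normalizer _).trans (normalizer_eq_of_isCoatom hG hL (opCore_le r L)
        (opCore_ne_bot_of_dvd hr ((hπ r hr).mp hrd)) (opCore_normal r L)).le)
  exact (Bender.maximal_eq hG hH hL hFL hFLH hp₁' hp₂' hp₁d hp₂d (Ne.symm hne) hπ).symm

end Cfsg.Agent.S1482
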