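import Cfsg.Statements.S1485

set_option autoImplicit false
open Cfsg

namespace Cfsg.Agent.S1485

/-- Let H be a normal subgroup of the finite group G and θ an irreducible character of H. On H, the function induced from θ equals r times the sum of the distinct G-conjugates of θ, where r is the number of elements of G fixing θ under conjugation divided by the order of H (the index of H in the inertia group). -/
theorem result {G : Type*} [Group G] [Fintype G] (H : Subgroup G) [hN : H.Normal] (θ : H → ℂ) (hθ : Cfsg.IsIrrCharacter H θ) : (fun h : H => Cfsg.indFun H θ h) = ((Nat.card {g : G // ∀ h : H, θ ⟨g * h * g⁻¹, hN.conj_mem h h.2 g⟩ = θ h} : ℂ) / (Nat.card H : ℂ)) • ∑ᶠ ψ ∈ {ψ : H → ℂ | ∃ g : G, ψ = fun h : H => θ ⟨g * h * g⁻¹, hN.conj_mem h h.2 g⟩}, ψ := by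
  classical
  set T : G → (H → ℂ) := fun g (h : H) => θ ⟨g * h * g⁻¹, hN.conj_mem h h.2 g⟩ with hT
  have hmul : ∀ g k : G, T (g * k) = fun h : H => T g ⟨k * h * k⁻¹, hN.conj_mem h h.2 k⟩ := by
    intro g k; funext h
    simp only [hT]; congr 1; ext; simp [mul_assoc]
  have h1 : T 1 = θ := by funext h; simp only [hT]; congr 1; ext; simp
  set S : Finset (H → ℂ) := Finset.univ.image T with hS
  have hset : {ψ : H → ℂ | ∃ g : G, ψ = fun h : H => θ ⟨g * h * g⁻¹, hN.conj_mem h h.2 g⟩} = ↑S := by
    ext ψ; simp [hS, hT, eq_comm]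
  rw [hset, finsum_mem_coe_finset]
  have hfib : ∀ k : G, ((Finset.univ.filter fun g => T g = T k).card) =
      Nat.card {g : G // ∀ h : H, θ ⟨g * h * g⁻¹, hN.conj_mem h h.2 g⟩ = θ h} := by
    intro k
    rw [Nat.card_eq_fintype_card, Fintype.card_subtype]
    refine Finset.card_bij (fun g _ => g * k⁻¹) ?_ ?_ ?_
    · intro g hg
      simp only [Finset.mem_filter, Finset.mem_univ, true_and] at hg ⊢
      intro h
      have : T (g * k⁻¹) = T 1 := by rw [hmul, hg, ← hmul, mul_inv_cancel]
      rw [h1] at this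
      exact congrFun this h
    · intro a _ b _ e; exact mul_right_cancel e
    · intro b hb
      simp only [Finset.mem_filter, Finset.mem_univ, true_and] at hb
      refine ⟨b * k, ?_, by simp⟩
      have hb' : T b = θ := funext hb
      simp only [Finset.mem_filter, Finset.mem_univ, true_and]
      have e1 : T k = T (1 * k) := by rw [one_mul]
      rw [e1, hmul b, hmul 1, hb', h1]
  funext h
  have hext : ∀ x : G, extendByZero H θ (x⁻¹ * h * x) = T x⁻¹ h := by
    intro x
    have hm : x⁻¹ * h * x ∈ H := by simpa using hN.conj_mem h h.2 x⁻¹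
    have hh : extendByZero H θ ((⟨_, hm⟩ : H) : G) = θ ⟨_, hm⟩ :=
      Subtype.val_injective.extend_apply θ 0 _
    refine hh.trans ?_
    simp only [hT, inv_inv]
  have hcount : ∑ g : G, T g h = (Nat.card {g : G // ∀ h : H, θ ⟨g * h * g⁻¹, hN.conj_mem h h.2 g⟩ = θ h} : ℂ)
      * ∑ ψ ∈ S, ψ h := by
    rw [← Finset.sum_fiberwise_of_maps_to (t := S) (g := T) (fun x _ => Finset.mem_image_of_mem T (Finset.mem_univ x)),
      Finset.mul_sum]
    refine Finset.sum_congr rfl fun ψ hψ => ?_
    obtain ⟨k, -, rfl⟩ := Finset.mem_image.mp hψ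
    rw [Finset.sum_congr rfl (fun g hg => congrFun (Finset.mem_filter.mp hg).2 h), Finset.sum_const,
      hfib, nsmul_eq_mul]
  simp only [indFun, hext, Pi.smul_apply, Finset.sum_apply, smul_eq_mul]
  rw [show (∑ x : G, T x⁻¹ h) = ∑ x : G, T x h from Equiv.sum_comp (Equiv.inv G) (fun x => T x h), hcount]
  ring

end Cfsg.Agent.S1485
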