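import Cfsg.Statements.S1486
import Cfsg.Agent.Lib.Characters.Induction
import Cfsg.Agent.Lib.OddOrder.CharTools

set_option autoImplicit false
open Cfsg

namespace Cfsg.Agent.S1486

/-- Let H be a normal subgroup of the finite group G and θ, φ irreducible characters of H. If φ is a G-conjugate of θ then the functions induced from θ and φ coincide; if φ is not a G-conjugate of θ then the induced functions are orthogonal. -/
theorem result {G : Type*} [Group G] [Fintype G] (H : Subgroup G) [hN : H.Normal] (θ φ : H → ℂ) (hθ : Cfsg.IsIrrCharacter H θ) (hφ : Cfsg.IsIrrCharacter H φ) : ((∃ g : G, φ = fun h : H => θ ⟨g * h * g⁻¹, hN.conj_mem h h.2 g⟩) → Cfsg.indFun H φ = Cfsg.indFun H θ) ∧ ((¬ ∃ g : G, φ = fun h : H => θ ⟨g * h * g⁻¹, hN.conj_mem h h.2 g⟩) → Cfsg.classInner (Cfsg.indFun H φ) (Cfsg.indFun H θ) = 0) := by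
  classical
  have hφc : IsClassFunction H φ := CfsgLib.Characters.isClassFunction_of_isCharacter
    (CfsgLib.Characters.isCharacter_of_irr hφ)
  have hext : ∀ (f : H → ℂ) (g y : G), extendByZero H (fun h : H => f ⟨g * h * g⁻¹, hN.conj_mem h h.2 g⟩) y
      = extendByZero H f (g * y * g⁻¹) := by
    intro f g y
    by_cases hy : y ∈ H
    · rw [CfsgLib.Induction.extendByZero_mem H _ hy, CfsgLib.Induction.extendByZero_mem H f (hN.conj_mem y hy g)]
    · rw [CfsgLib.Induction.extendByZero_notMem H _ hy, CfsgLib.Induction.extendByZero_notMem H f]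
      intro h
      refine hy ?_
      simpa [mul_assoc] using hN.conj_mem _ h g⁻¹
  constructor
  · rintro ⟨g, rfl⟩
    funext y
    simp only [indFun, hext]
    congr 1
    rw [← Equiv.sum_comp (Equiv.mulRight g) (fun x => extendByZero H θ (g * (x⁻¹ * y * x) * g⁻¹))]
    refine Finset.sum_congr rfl fun x _ => ?_
    congr 1
    simp [mul_assoc]
  · intro hne
    haveI : Fintype H := Fintype.ofFinite H
    rw [CfsgLib.Induction.classInner_indFun H φ (CfsgLib.Induction.isClassFunction_indFun H θ)]
    have hres : (fun h : H => indFun H θ h) = (Nat.card H : ℂ)⁻¹ •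
        ∑ x : G, (fun h : H => θ ⟨x⁻¹ * h * x⁻¹⁻¹, hN.conj_mem h h.2 x⁻¹⟩) := by
      funext h
      simp only [indFun, Pi.smul_apply, Finset.sum_apply, smul_eq_mul]
      congr 1
      refine Finset.sum_congr rfl fun x _ => ?_
      rw [CfsgLib.Induction.extendByZero_mem H θ (by simpa using hN.conj_mem h h.2 x⁻¹)]
      congr 1
      ext; simp
    show classInner φ (fun h : H => indFun H θ h) = 0
    rw [hres, CfsgLib.Characters.classInner_smul_right, CfsgLib.Characters.classInner_sum_right,
      Finset.sum_eq_zero, mul_zero]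
    intro x _
    refine CfsgLib.Characters.classInner_irr_ne hφ ?_ (fun e => hne ⟨x⁻¹, e⟩)
    exact CfsgLib.OddOrder.CharTools.isIrrCharacter_comp hθ
      ((MulAut.conjNormal x⁻¹ : MulAut H) : H →* H) (MulEquiv.surjective _) |> (fun h => by
        convert h using 1
        funext h'
        congr 1)

end Cfsg.Agent.S1486
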