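import Cfsg.Statements.S1487
import Cfsg.Agent.Lib.Characters.Induction
import Cfsg.Agent.Lib.OddOrder.CharTools

set_option autoImplicit false
open Cfsg

namespace Cfsg.Agent.S1487

/-- Let A ≤ H be normal subgroups of the finite group G and θ an irreducible character of H. Then θ takes the value θ 1 on all of A if and only if the function induced from θ to G takes its value at 1 on all of A. -/
theorem result {G : Type*} [Group G] [Fintype G] (A H : Subgroup G) [A.Normal] [H.Normal] (hAH : A ≤ H) (θ : H → ℂ) (hθ : Cfsg.IsIrrCharacter H θ) : (∀ a : H, (a : G) ∈ A → θ a = θ 1) ↔ (∀ a : G, a ∈ A → Cfsg.indFun H θ a = Cfsg.indFun H θ 1) := by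
  classical
  have hχ : IsCharacter H θ := CfsgLib.Characters.isCharacter_of_irr hθ
  have hform : ∀ g : G, indFun H θ g = (Nat.card H : ℂ)⁻¹ * ∑ x : G, extendByZero H θ (x⁻¹ * g * x) :=
    fun g => rfl
  have hmem : ∀ {a : G}, a ∈ A → ∀ x : G, x⁻¹ * a * x ∈ A := fun ha x => by
    simpa using (inferInstance : A.Normal).conj_mem _ ha x⁻¹
  constructor
  · intro h a ha
    rw [hform, hform]
    congr 1
    refine Finset.sum_congr rfl fun x _ => ?_
    rw [CfsgLib.Induction.extendByZero_mem H θ (hAH (hmem ha x)),
      CfsgLib.Induction.extendByZero_mem H θ (by simp)]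
    refine (h _ (hmem ha x)).trans ?_
    congr 1
    ext; simp
  · intro h a ha
    have e := h a ha
    rw [hform, hform] at e
    have e' := mul_left_cancel₀ (inv_ne_zero (Nat.cast_ne_zero.mpr Nat.card_pos.ne')) e
    have hterm : ∀ x : G, (extendByZero H θ (x⁻¹ * a * x)).re ≤ (extendByZero H θ (x⁻¹ * 1 * x)).re := by
      intro x
      rw [CfsgLib.Induction.extendByZero_mem H θ (hAH (hmem ha x)),
        CfsgLib.Induction.extendByZero_mem H θ (by simp)]
      refine ((CfsgLib.OddOrder.CharTools.re_le hχ _).1).trans (le_of_eq ?_)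
      congr 2
      ext; simp
    have hsum := congrArg Complex.re e'
    rw [Complex.re_sum, Complex.re_sum] at hsum
    have h1 := (Finset.sum_eq_sum_iff_of_le (fun x _ => hterm x)).mp hsum 1 (Finset.mem_univ _)
    simp only [inv_one, one_mul, mul_one] at h1
    have ea : extendByZero H θ ((a : H) : G) = θ a := CfsgLib.Induction.extendByZero_coe H θ a
    have e1 : extendByZero H θ ((1 : H) : G) = θ 1 := CfsgLib.Induction.extendByZero_coe H θ 1
    rw [ea] at h1
    rw [Subgroup.coe_one] at e1
    rw [e1] at h1
    simpa using (CfsgLib.OddOrder.CharTools.re_le hχ a).2 h1 1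

end Cfsg.Agent.S1487
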