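import Cfsg.Statements.S1488

set_option autoImplicit false
open Cfsg

namespace Cfsg.Agent.S1488

/-- Let A be a normal subgroup of the finite group G contained in the subgroup H, let θ be a function on H and θ₁ a function on the image of H in G ⧸ A whose composite with the projection is θ. Then the function induced from θ₁ to G ⧸ A, composed with the projection G → G ⧸ A, equals the function induced from θ to G. -/
theorem result {G : Type*} [Group G] [Fintype G] (A H : Subgroup G) [A.Normal] (hAH : A ≤ H) [Fintype (G ⧸ A)] [Fintype ↥(H.map (QuotientGroup.mk' A))] (θ : H → ℂ) (θ₁ : ↥(H.map (QuotientGroup.mk' A)) → ℂ) (hθ : ∀ x : H, θ₁ ⟨QuotientGroup.mk' A x, Subgroup.mem_map_of_mem _ x.2⟩ = θ x) (g : G) : Cfsg.indFun (H.map (QuotientGroup.mk' A)) θ₁ (QuotientGroup.mk' A g) = Cfsg.indFun H θ g := by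
  classical
  have hker : ∀ y : G, (QuotientGroup.mk' A) y ∈ H.map (QuotientGroup.mk' A) ↔ y ∈ H := fun y => by
    rw [← Subgroup.mem_comap, Subgroup.comap_map_eq_self]
    rwa [QuotientGroup.ker_mk']
  have hext : ∀ y : G, extendByZero (H.map (QuotientGroup.mk' A)) θ₁ ((QuotientGroup.mk' A) y) = extendByZero H θ y := by
    intro y
    by_cases hy : y ∈ H
    · have e1 : extendByZero H θ ((⟨y, hy⟩ : H) : G) = θ ⟨y, hy⟩ :=
        Subtype.val_injective.extend_apply θ 0 _
      have e2 : extendByZero (H.map (QuotientGroup.mk' A)) θ₁ ((⟨(QuotientGroup.mk' A) y, Subgroup.mem_map_of_mem _ hy⟩ : H.map (QuotientGroup.mk' A)) : G ⧸ A)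
          = θ₁ ⟨(QuotientGroup.mk' A) y, Subgroup.mem_map_of_mem _ hy⟩ := Subtype.val_injective.extend_apply θ₁ 0 _
      exact e2.trans ((hθ ⟨y, hy⟩).trans e1.symm)
    · have h' : (QuotientGroup.mk' A) y ∉ H.map (QuotientGroup.mk' A) := fun h => hy ((hker y).mp h)
      unfold Cfsg.extendByZero
      rw [Function.extend_apply' _ _ _ (by rintro ⟨a, e⟩; exact h' (e ▸ a.2)),
        Function.extend_apply' _ _ _ (by rintro ⟨a, rfl⟩; exact hy a.2)]
      rfl
  have hsum : ∑ x : G, extendByZero H θ (x⁻¹ * g * x)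
      = (Nat.card A : ℂ) * ∑ z : G ⧸ A, extendByZero (H.map (QuotientGroup.mk' A)) θ₁ (z⁻¹ * (QuotientGroup.mk' A) g * z) := by
    rw [← Finset.sum_fiberwise (s := Finset.univ) (g := fun x : G => (QuotientGroup.mk' A) x), Finset.mul_sum]
    refine Finset.sum_congr rfl fun z _ => ?_
    have hcard : (Finset.univ.filter fun x : G => (QuotientGroup.mk' A) x = z).card = Nat.card A := by
      obtain ⟨x₀, rfl⟩ := QuotientGroup.mk'_surjective A z
      rw [Nat.card_eq_fintype_card, ← Finset.card_univ]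
      refine (Finset.card_bij (fun (a : A) _ => x₀ * a) ?_ ?_ ?_).symm
      · intro a _
        exact Finset.mem_filter.mpr ⟨Finset.mem_univ _, QuotientGroup.mk_mul_of_mem _ a.2⟩
      · intro a _ b _ e; exact Subtype.ext (mul_left_cancel e)
      · intro b hb
        simp only [Finset.mem_filter, Finset.mem_univ, true_and, QuotientGroup.mk'_eq_mk'] at hb
        obtain ⟨a, ha, e⟩ := hb
        exact ⟨⟨a⁻¹, A.inv_mem ha⟩, Finset.mem_univ _, by simp [← e]⟩
    rw [Finset.sum_congr rfl (fun x hx => show extendByZero H θ (x⁻¹ * g * x)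
      = extendByZero (H.map (QuotientGroup.mk' A)) θ₁ (z⁻¹ * (QuotientGroup.mk' A) g * z) by
        rw [← hext, map_mul, map_mul, map_inv, (Finset.mem_filter.mp hx).2]),
      Finset.sum_const, hcard, nsmul_eq_mul]
  have hH : Nat.card H = Nat.card A * Nat.card (H.map (QuotientGroup.mk' A)) := by
    have h1 := Subgroup.card_mul_index (A.subgroupOf H)
    rw [Nat.card_congr (Subgroup.subgroupOfEquivOfLe hAH).toEquiv] at h1
    rw [← h1]
    congr 1
    rw [← Subgroup.relIndex_ker, QuotientGroup.ker_mk']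
    rfl
  simp only [indFun]
  rw [hsum, hH, Nat.cast_mul, mul_inv]
  have hA0 : (Nat.card A : ℂ) ≠ 0 := Nat.cast_ne_zero.mpr Nat.card_pos.ne'
  field_simp

end Cfsg.Agent.S1488
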