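import Cfsg.Statements.S1489
import Cfsg.Agent.Lib.OddOrder.CliffordInd

set_option autoImplicit false
open Cfsg

namespace Cfsg.Agent.S1489

/-- Let H be a normal subgroup of the finite group G, θ an irreducible character of H, and T the inertia group of θ (the elements g with θ(g h g⁻¹) = θ(h) for all h ∈ H). If ψ and ψ' are irreducible characters of T having nonzero inner product with the function induced from θ to T, then the function induced from ψ to G is an irreducible character of G, and it equals the one induced from ψ' only if ψ = ψ'. -/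
theorem result {G : Type*} [Group G] [Fintype G] (H T : Subgroup G) [hN : H.Normal] [Fintype T] (θ : H → ℂ) (hθ : Cfsg.IsIrrCharacter H θ) (hT : ∀ g : G, g ∈ T ↔ ∀ h : H, θ ⟨g * h * g⁻¹, hN.conj_mem h h.2 g⟩ = θ h) (hHT : H ≤ T) (ψ ψ' : T → ℂ) (hψ : Cfsg.IsIrrCharacter T ψ) (hψ' : Cfsg.IsIrrCharacter T ψ') (hc : Cfsg.classInner (Cfsg.indFun (H.subgroupOf T) (fun x => θ ⟨(x : T), Subgroup.mem_subgroupOf.mp x.2⟩)) ψ ≠ 0) (hc' : Cfsg.classInner (Cfsg.indFun (H.subgroupOf T) (fun x => θ ⟨(x : T), Subgroup.mem_subgroupOf.mp x.2⟩)) ψ' ≠ 0) : Cfsg.IsIrrCharacter G (Cfsg.indFun T ψ) ∧ (Cfsg.indFun T ψ = Cfsg.indFun T ψ' → ψ = ψ') := by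
  classical
  haveI : Fintype H := Fintype.ofFinite H
  haveI : Fintype (H.subgroupOf T) := Fintype.ofFinite _
  haveI : (H.subgroupOf T).Normal := hN.subgroupOf T
  have hT' : T = CfsgLib.Clifford.inertia hN θ :=
    SetLike.ext fun g => (hT g).trans CfsgLib.Clifford.mem_inertia.symm
  let eH : H.subgroupOf T ≃* H := Subgroup.subgroupOfEquivOfLe hHT
  have hcon : ∀ φ : T → ℂ, IsIrrCharacter T φ →
      classInner (indFun (H.subgroupOf T) (fun x => θ ⟨(x : T), Subgroup.mem_subgroupOf.mp x.2⟩)) φ ≠ 0 →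
      classInner (fun n : H => φ (Subgroup.inclusion hHT n)) θ ≠ 0 := by
    intro φ hφ h h0
    apply h
    rw [CfsgLib.Induction.classInner_indFun (H.subgroupOf T) _
      (CfsgLib.Characters.isClassFunction_of_isCharacter (CfsgLib.Characters.isCharacter_of_irr hφ)),
      CfsgLib.Characters.classInner_conj_symm]
    have e : classInner (fun x : H.subgroupOf T => φ x) (fun x => θ ⟨(x : T), Subgroup.mem_subgroupOf.mp x.2⟩)
        = classInner (fun n : H => φ (Subgroup.inclusion hHT n)) θ :=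
      CfsgLib.OddOrder.CliffordInd.classInner_equiv eH (fun n : H => φ (Subgroup.inclusion hHT n)) θ
    rw [e, h0, map_zero]
  obtain ⟨h1, h2⟩ := CfsgLib.OddOrder.CliffordInd.indFun_of_inertia hN hθ T hT' hHT hψ (hcon ψ hψ hc)
  exact ⟨h1, fun e => h2 ψ' hψ' (hcon ψ' hψ' hc') e⟩

end Cfsg.Agent.S1489
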