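import Cfsg.Statements.S1492
import Cfsg.Agent.Lib.Characters.Clifford
import Cfsg.Agent.Lib.OddOrder.CharTools

set_option autoImplicit false
open Cfsg

namespace Cfsg.Agent.S1492

/-- Let ψ be an irreducible character of the finite group G and B ≤ D ≤ C subgroups with B normal in C, every commutator of an element of D with an element of C lying in B (so D/B is central in C/B), and ψ constant equal to ψ 1 on B. Then ψ(1) ^ 2 * |C| * |D| ≤ |G| ^ 2. -/
theorem result {G : Type*} [Group G] [Finite G] (ψ : G → ℂ) (hψ : Cfsg.IsIrrCharacter G ψ) (B C D : Subgroup G) (hBD : B ≤ D) (hDC : D ≤ C) (hBn : ∀ c ∈ C, ∀ b ∈ B, c * b * c⁻¹ ∈ B) (hcent : ∀ d ∈ D, ∀ c ∈ C, d * c * d⁻¹ * c⁻¹ ∈ B) (hker : ∀ b ∈ B, ψ b = ψ 1) : ‖ψ 1‖ ^ 2 * (Nat.card C : ℝ) * (Nat.card D : ℝ) ≤ (Nat.card G : ℝ) ^ 2 := by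
  classical
  haveI : Fintype G := Fintype.ofFinite G
  haveI : Fintype C := Fintype.ofFinite C
  have hψc : IsCharacter G ψ := CfsgLib.Characters.isCharacter_of_irr hψ
  have hres : IsCharacter C (fun c : C => ψ c) := CfsgLib.Clifford.isCharacter_subtype hψc C
  obtain ⟨dψ, hdψ, eψ⟩ := CfsgLib.Characters.irr_exists_degree hψ
  have h0 : (fun c : C => ψ c) ≠ 0 := by
    intro h
    have h1 : ψ 1 = 0 := by simpa using congrFun h (1 : C)
    rw [eψ] at h1
    exact hdψ.ne' (by exact_mod_cast h1)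
  obtain ⟨⟨φ, hφ⟩, hφne⟩ := CfsgLib.Clifford.exists_constituent hres h0
  obtain ⟨m, hm, hsum⟩ := CfsgLib.Clifford.exists_mult hres
  have hmφ : m ⟨φ, hφ⟩ ≠ 0 := fun h => hφne (by rw [hm ⟨φ, hφ⟩, h, Nat.cast_zero])
  obtain ⟨dφ, hdφ, eφ⟩ := CfsgLib.Characters.irr_exists_degree hφ
  -- Frobenius reciprocity bounds the degree
  have hbound : dψ ≤ C.index * dφ := by
    have hind := CfsgLib.Induction.isCharacter_indFun C (CfsgLib.Characters.isCharacter_of_irr hφ)
    obtain ⟨M, hM, hMsum⟩ := CfsgLib.Clifford.exists_mult hind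
    have hMψ : M ⟨ψ, hψ⟩ ≠ 0 := by
      intro h
      have := hM ⟨ψ, hψ⟩
      rw [h, Nat.cast_zero, CfsgLib.Induction.classInner_indFun C φ
        (CfsgLib.Characters.isClassFunction_of_isCharacter hψc), CfsgLib.Characters.classInner_conj_symm,
        map_eq_zero] at this
      exact hφne this
    have hdeg : ∀ ξ : IrrCharacter G, ∃ n : ℕ, (ξ : G → ℂ) 1 = n := fun ξ =>
      ⟨_, (CfsgLib.Characters.irr_exists_degree ξ.2).choose_spec.2⟩
    choose deg hdeg using hdeg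
    have h1 : C.index * dφ = ∑ ξ : IrrCharacter G, M ξ * deg ξ := by
      have := congrFun hMsum 1
      rw [CfsgLib.Induction.indFun_one_apply, eφ] at this
      simp only [Finset.sum_apply, Pi.smul_apply, smul_eq_mul, hdeg] at this
      exact_mod_cast this
    have h2 : deg ⟨ψ, hψ⟩ = dψ := by
      have e := hdeg ⟨ψ, hψ⟩
      have e' : (deg ⟨ψ, hψ⟩ : ℂ) = (dψ : ℂ) := e.symm.trans eψ
      exact_mod_cast e'
    rw [h1, ← h2]
    exact (Nat.le_mul_of_pos_left _ (Nat.pos_of_ne_zero hMψ)).trans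
      (Finset.single_le_sum (f := fun ξ => M ξ * deg ξ) (fun _ _ => Nat.zero_le _) (Finset.mem_univ _))
  obtain ⟨n, ρ, hρ, rfl⟩ := hφ
  haveI := hρ
  -- `B` acts trivially
  have hB : ∀ c : C, (c : G) ∈ B → ρ c = 1 := by
    intro c hc
    refine CfsgLib.OddOrder.CharTools.rho_eq_one ρ ?_
    refine (CfsgLib.OddOrder.CharTools.re_le ⟨n, ρ, rfl⟩ c).2 ?_
    have e1 := congrArg Complex.re (congrFun hsum c)
    have e2 := congrArg Complex.re (congrFun hsum 1)
    simp only [hker _ hc, Subgroup.coe_one, Finset.sum_apply, Pi.smul_apply, smul_eq_mul, Complex.re_sum,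
      Complex.mul_re, Complex.natCast_re, Complex.natCast_im, zero_mul, sub_zero] at e1 e2
    have hle : ∀ ξ : IrrCharacter C, (m ξ : ℝ) * ((ξ : C → ℂ) c).re ≤ (m ξ : ℝ) * ((ξ : C → ℂ) 1).re :=
      fun ξ => mul_le_mul_of_nonneg_left
        (CfsgLib.OddOrder.CharTools.re_le (CfsgLib.Characters.irr_isCharacter ξ) c).1 (Nat.cast_nonneg _)
    have := (Finset.sum_eq_sum_iff_of_le (fun ξ _ => hle ξ)).mp (e1.symm.trans e2)
      ⟨ρ.character, n, ρ, hρ, rfl⟩ (Finset.mem_univ _)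
    exact mul_left_cancel₀ (Nat.cast_ne_zero.mpr hmφ) this
  -- `D` acts by scalars
  have hD : ∀ c : C, (c : G) ∈ D → ‖ρ.character c‖ = (dφ : ℝ) := by
    intro c hc
    obtain ⟨z, hz⟩ := CfsgLib.CharScalar.exists_scalar ρ (ρ c) (fun x => by
      have h1 : ρ (c * x * c⁻¹ * x⁻¹) = 1 := hB _ (by simpa using hcent c hc x x.2)
      calc ρ c * ρ x = ρ (c * x * c⁻¹ * x⁻¹) * ρ (x * c) := by
            rw [← map_mul, ← map_mul]; congr 1; group
        _ = ρ x * ρ c := by rw [h1, one_mul, map_mul])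
    haveI := CfsgLib.CharScalar.nontrivial_of_irreducible ρ
    have hz1 : z ^ orderOf c = 1 := by
      have e : ρ (c ^ orderOf c) = z ^ orderOf c • 1 := by rw [map_pow, hz, smul_pow, one_pow]
      rw [pow_orderOf_eq_one, map_one] at e
      obtain ⟨v, hv⟩ := exists_ne (0 : Fin n → ℂ)
      have := congrArg (fun T : Module.End ℂ (Fin n → ℂ) => T v) e
      simp only [Module.End.one_apply, LinearMap.smul_apply] at this
      have h0 : (z ^ orderOf c - 1) • v = 0 := by rw [sub_smul, ← this, one_smul, sub_self]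
      simpa [hv, sub_eq_zero] using h0
    have hn : (Module.finrank ℂ (Fin n → ℂ) : ℂ) = (dφ : ℂ) := by rw [← eφ, Representation.char_one]
    have : ρ.character c = z * (dφ : ℂ) := by
      rw [Representation.character, hz, CfsgLib.CharScalar.trace_smul_one, hn]
    rw [this, norm_mul, Complex.norm_eq_one_of_pow_eq_one hz1 (orderOf_pos c).ne', one_mul, Complex.norm_natCast]
  -- orthonormality
  have hnorm : ∑ c : C, ‖ρ.character c‖ ^ 2 = (Nat.card C : ℝ) := by
    have h := CfsgLib.Characters.classInner_irr_self (G := C) ⟨n, ρ, hρ, rfl⟩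
    unfold classInner at h
    rw [inv_mul_eq_one₀ (Nat.cast_ne_zero.mpr Nat.card_pos.ne')] at h
    have h2 : ((∑ c : C, ‖ρ.character c‖ ^ 2 : ℝ) : ℂ) = ((Nat.card C : ℝ) : ℂ) := by
      push_cast
      rw [h]
      exact Finset.sum_congr rfl fun c _ => (Complex.mul_conj' _).symm
    exact_mod_cast h2
  have hDC : (Nat.card D : ℝ) * (dφ : ℝ) ^ 2 ≤ (Nat.card C : ℝ) := by
    rw [← hnorm, ← Finset.sum_filter_add_sum_filter_not Finset.univ (fun c : C => (c : G) ∈ D)]
    refine le_add_of_le_of_nonneg (le_of_eq ?_) (Finset.sum_nonneg fun c _ => by positivity)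
    rw [Finset.sum_congr rfl (fun c hc => by rw [hD c (Finset.mem_filter.mp hc).2]), Finset.sum_const,
      nsmul_eq_mul]
    congr 2
    rw [← Fintype.card_subtype, ← Nat.card_eq_fintype_card]
    exact Nat.card_congr (Subgroup.subgroupOfEquivOfLe hDC).toEquiv.symm
  rw [eψ, Complex.norm_natCast]
  have hidx : (C.index : ℝ) * (Nat.card C : ℝ) = (Nat.card G : ℝ) := by exact_mod_cast Subgroup.index_mul_card C
  have hb : (dψ : ℝ) ≤ (C.index : ℝ) * dφ := by exact_mod_cast hbound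
  have hsq : (dψ : ℝ) ^ 2 ≤ ((C.index : ℝ) * dφ) ^ 2 := pow_le_pow_left₀ (Nat.cast_nonneg _) hb 2
  calc (dψ : ℝ) ^ 2 * (Nat.card C : ℝ) * (Nat.card D : ℝ)
      ≤ ((C.index : ℝ) * dφ) ^ 2 * (Nat.card C : ℝ) * (Nat.card D : ℝ) :=
        mul_le_mul_of_nonneg_right (mul_le_mul_of_nonneg_right hsq (Nat.cast_nonneg _)) (Nat.cast_nonneg _)
    _ = (C.index : ℝ) ^ 2 * (Nat.card C : ℝ) * ((Nat.card D : ℝ) * (dφ : ℝ) ^ 2) := by ring
    _ ≤ (C.index : ℝ) ^ 2 * (Nat.card C : ℝ) * (Nat.card C : ℝ) :=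
        mul_le_mul_of_nonneg_left hDC (by positivity)
    _ = (Nat.card G : ℝ) ^ 2 := by rw [← hidx]; ring

end Cfsg.Agent.S1492
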