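import Cfsg.Statements.S1496
import Cfsg.Agent.Lib.OddChar.CoprimeCoset

set_option autoImplicit false
open Cfsg

namespace Cfsg.Agent.S1496

/-- Let H be a subgroup of the finite group G and g an element normalising H whose order is coprime to the order of H. Then for every h ∈ H there are x ∈ H and c ∈ H commuting with g such that x * (h * g) * x⁻¹ = c * g. -/
theorem result {G : Type*} [Group G] [Finite G] (H : Subgroup G) (g : G) (hg : g ∈ Subgroup.normalizer (H : Set G)) (hcop : Nat.Coprime (orderOf g) (Nat.card H)) (h : G) (hh : h ∈ H) : ∃ x ∈ H, ∃ c ∈ H, c * g = g * c ∧ x * (h * g) * x⁻¹ = c * g := by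
  set N := Subgroup.normalizer (H : Set G) with hN
  have hle : H ≤ N := Subgroup.le_normalizer
  have hnorm : (H.subgroupOf N).Normal := Subgroup.normal_in_normalizer
  obtain ⟨k, hk, c, hc, hcg, e⟩ := CfsgLib.OddChar.coset_conj_centralizer (H.subgroupOf N) (⟨g, hg⟩ : N)
    (by
      rw [← Subgroup.orderOf_coe, Nat.card_congr (Subgroup.subgroupOfEquivOfLe hle).toEquiv]
      exact hcop)
    (y := (⟨h * g, N.mul_mem (hle hh) hg⟩ : N)) (by simpa [Subgroup.mem_subgroupOf] using hh)
  rw [Subgroup.mem_subgroupOf] at hk hc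
  have e' : h * g = (k : G) * ((c : G) * g) * (k : G)⁻¹ := congrArg Subtype.val e
  refine ⟨(k : G)⁻¹, H.inv_mem hk, c, hc, congrArg Subtype.val hcg.eq, ?_⟩
  rw [e']
  group

end Cfsg.Agent.S1496
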