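import Cfsg.Statements.S1497

set_option autoImplicit false
open Cfsg

namespace Cfsg.Agent.S1497

/-- Let A be a nonempty subset of the finite group G not containing 1 and L a subgroup. Then A is a TI-subset whose normaliser is L if and only if the Dade hypothesis holds for A, L and the constant choice H(a) = ⊥. -/
theorem result {G : Type*} [Group G] [Finite G] (A : Set G) (hA : A.Nonempty) (h1 : (1 : G) ∉ A) (L : Subgroup G) : (Cfsg.IsTISubset A ∧ Subgroup.normalizer A = L) ↔ Cfsg.DadeHypothesis A L (fun _ => ⊥) := by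
  constructor
  · rintro ⟨hTI, hN⟩
    have hL : ∀ a ∈ A, ∀ g : G, g * a * g⁻¹ ∈ A → g ∈ L := by
      intro a ha g hg
      by_contra hgL
      exact h1 (hTI g (by rw [hN]; exact hgL) a ha hg ▸ ha)
    have hC : ∀ a ∈ A, Subgroup.centralizer ({a} : Set G) ≤ L := by
      intro a ha g hg
      refine hL a ha g ?_
      have e : g * a = a * g := (Subgroup.mem_centralizer_iff.mp hg a (by simp)).symm
      rw [e, mul_inv_cancel_right]; exact ha
    refine ⟨h1, fun a ha => hC a ha (by simp [Subgroup.mem_centralizer_iff]), ?_, ?_, ?_, ?_, ?_, ?_, ?_⟩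
    · intro x hx a ha
      rw [← hN] at hx
      exact (Subgroup.mem_set_normalizer_iff.mp hx a).mp ha
    · exact fun a ha g hg => ⟨g, hL a ha g hg, rfl⟩
    · exact fun a _ => bot_le
    · intro a _ c _ u hu; simp [Subgroup.mem_bot.mp hu]
    · exact fun a _ => bot_inf_eq _
    · intro a ha; rw [bot_sup_eq]; exact inf_eq_right.mpr (hC a ha)
    · intro a _ b _; simp
  · intro hD
    have hC : ∀ a ∈ A, Subgroup.centralizer ({a} : Set G) ≤ L := by
      intro a ha
      have := hD.sup_eq a ha
      rw [bot_sup_eq] at this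
      exact inf_eq_right.mp this
    have hL : ∀ a ∈ A, ∀ g : G, g * a * g⁻¹ ∈ A → g ∈ L := by
      intro a ha g hg
      obtain ⟨x, hx, e⟩ := hD.fusion a ha g hg
      have : x⁻¹ * g ∈ L := by
        refine hC a ha (Subgroup.mem_centralizer_iff.mpr fun y hy => ?_)
        rw [Set.mem_singleton_iff] at hy
        subst hy
        calc y * (x⁻¹ * g) = x⁻¹ * (x * y * x⁻¹) * g := by group
          _ = x⁻¹ * (g * y * g⁻¹) * g := by rw [e]
          _ = x⁻¹ * g * y := by group
      simpa using L.mul_mem hx this
    have hsub : L ≤ Subgroup.normalizer A := by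
      intro x hx
      rw [Subgroup.mem_set_normalizer_iff]
      refine fun a => ⟨hD.conj_mem x hx a, fun h => ?_⟩
      have := hD.conj_mem x⁻¹ (L.inv_mem hx) _ h
      simpa [mul_assoc] using this
    refine ⟨?_, le_antisymm ?_ hsub⟩
    · intro g hg a ha h
      exact absurd (hsub (hL a ha g h)) hg
    · intro g hg
      obtain ⟨a, ha⟩ := hA
      exact hL a ha g ((Subgroup.mem_set_normalizer_iff.mp hg a).mp ha)

end Cfsg.Agent.S1497
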