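import Cfsg.Statements.S1498
import Cfsg.Agent.Lib.OddOrder.DadeBasic

set_option autoImplicit false
open Cfsg

namespace Cfsg.Agent.S1498

/-- Under the Dade hypothesis for (A, L, H): for a ∈ A and x ∈ L, the subgroup attached to x * a * x⁻¹ is the conjugate of H a by x. -/
theorem result {G : Type*} [Group G] [Finite G] (A : Set G) (L : Subgroup G) (H : G → Subgroup G) (hD : Cfsg.DadeHypothesis A L H) (a : G) (ha : a ∈ A) (x : G) (hx : x ∈ L) : H (x * a * x⁻¹) = (H a).map (MulAut.conj x).toMonoidHom := by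
  have key : ∀ a ∈ A, ∀ x ∈ L, ∀ u ∈ H a, x * u * x⁻¹ ∈ H (x * a * x⁻¹) := by
    intro a ha x hx u hu
    have hb := hD.conj_mem x hx a ha
    refine CfsgLib.OddOrder.DadeBasic.mem_of_coprime hD hb ?_ ?_
    · refine Subgroup.mem_centralizer_iff.mpr fun y hy => ?_
      rw [Set.mem_singleton_iff] at hy
      subst hy
      have e := CfsgLib.OddOrder.DadeBasic.commute_of_mem hD ha hu
      calc x * a * x⁻¹ * (x * u * x⁻¹) = x * (a * u) * x⁻¹ := by group
        _ = x * (u * a) * x⁻¹ := by rw [e]
        _ = x * u * x⁻¹ * (x * a * x⁻¹) := by group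
    · have : orderOf (x * u * x⁻¹) = orderOf u := orderOf_injective (MulAut.conj x).toMonoidHom
        (MulAut.conj x).injective u
      rw [this]
      exact (hD.coprime a ha _ hb).coprime_dvd_left (Subgroup.orderOf_dvd_natCard _ hu)
  ext w
  constructor
  · intro hw
    have := key _ (hD.conj_mem x hx a ha) x⁻¹ (L.inv_mem hx) w hw
    refine ⟨x⁻¹ * w * x, ?_, by simp [mul_assoc]⟩
    simpa [mul_assoc] using this
  · rintro ⟨u, hu, rfl⟩
    simpa using key a ha x hx u hu

end Cfsg.Agent.S1498
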