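import Cfsg.Statements.S1499
import Cfsg.Agent.Lib.OddOrder.DadeBasic

set_option autoImplicit false
open Cfsg

namespace Cfsg.Agent.S1499

/-- Under the Dade hypothesis for (A, L, H), let a, b ∈ A. If an element of the coset a·H(a) is conjugate in G to an element of b·H(b), then a and b are conjugate by an element of L. Moreover the set normaliser of the coset a·H(a) is the centraliser of a. -/
theorem result {G : Type*} [Group G] [Finite G] (A : Set G) (L : Subgroup G) (H : G → Subgroup G) (hD : Cfsg.DadeHypothesis A L H) (a b : G) (ha : a ∈ A) (hb : b ∈ A) : ((∃ u ∈ H a, ∃ v ∈ H b, ∃ g : G, g * (a * u) * g⁻¹ = b * v) → ∃ x ∈ L, x * a * x⁻¹ = b) ∧ Subgroup.normalizer ((fun u : G => a * u) '' (H a : Set G)) = Subgroup.centralizer ({a} : Set G) := by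
  constructor
  · rintro ⟨u, hu, v, hv, g, hg⟩
    obtain ⟨k, hk1, hk2⟩ := CfsgLib.OddOrder.DadeBasic.exists_pow hD ha hb hu hv
    have e : g * a * g⁻¹ = b := by
      have := congrArg (fun y => y ^ k) hg
      simpa [conj_pow, hk1, hk2] using this
    obtain ⟨x, hx, hxe⟩ := hD.fusion a ha g (e ▸ hb)
    exact ⟨x, hx, hxe.trans e⟩
  · apply le_antisymm
    · intro g hg
      have h := (Subgroup.mem_set_normalizer_iff.mp hg a).mp ⟨1, (H a).one_mem, by simp⟩
      obtain ⟨u, hu, hu'⟩ := h
      obtain ⟨k, hk1, hk2⟩ := CfsgLib.OddOrder.DadeBasic.exists_pow hD ha ha hu (H a).one_mem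
      rw [mul_one] at hk2
      have hu'' : a * u = g * a * g⁻¹ := hu'
      have e : g * a * g⁻¹ = a := by
        rw [← hk1] at *
        have := congrArg (fun y => y ^ k) hu''
        simpa [conj_pow, hk1, hk2] using this.symm
      refine Subgroup.mem_centralizer_iff.mpr fun y hy => ?_
      rw [Set.mem_singleton_iff] at hy
      subst hy
      exact (mul_inv_eq_iff_eq_mul.mp e).symm
    · intro c hc
      have key : ∀ c ∈ Subgroup.centralizer ({a} : Set G), ∀ w ∈ (fun u : G => a * u) '' (H a : Set G),
          c * w * c⁻¹ ∈ (fun u : G => a * u) '' (H a : Set G) := by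
        rintro c hc _ ⟨u, hu, rfl⟩
        refine ⟨c * u * c⁻¹, hD.conj_mem_H a ha c hc u hu, ?_⟩
        have e : a * c = c * a := Subgroup.mem_centralizer_iff.mp hc a (by simp)
        calc a * (c * u * c⁻¹) = (a * c) * u * c⁻¹ := by group
          _ = (c * a) * u * c⁻¹ := by rw [e]
          _ = c * (a * u) * c⁻¹ := by group
      rw [Subgroup.mem_set_normalizer_iff]
      refine fun w => ⟨key c hc w, fun h => ?_⟩
      have := key c⁻¹ (Subgroup.inv_mem _ hc) _ h
      simpa [mul_assoc] using this

end Cfsg.Agent.S1499
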