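import Cfsg.Statements.S1504
import Cfsg.Agent.Lib.OddChar.CyclicTI

set_option autoImplicit false
open Cfsg

namespace Cfsg.Agent.S1504

/-- Let W₁, W₂ be subgroups of a finite group with W₁ ⊓ W₂ = ⊥ whose elements commute, and W = W₁ ⊔ W₂. For linear characters φ, ψ of W with φ trivial on W₂ and ψ trivial on W₁, the function (1 − φ)(1 − ψ) vanishes on W₁ ∪ W₂; and the family of these functions, indexed by pairs (φ, ψ) with φ ≠ 1 ≠ ψ, is linearly independent over ℂ. -/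
theorem result {G : Type*} [Group G] [Finite G] (W₁ W₂ : Subgroup G) (hdisj : W₁ ⊓ W₂ = ⊥) (hcomm : ∀ a ∈ W₁, ∀ b ∈ W₂, a * b = b * a) : (∀ φ ψ : ↥(W₁ ⊔ W₂) →* ℂˣ, (∀ w : ↥(W₁ ⊔ W₂), (w : G) ∈ W₂ → φ w = 1) → (∀ w : ↥(W₁ ⊔ W₂), (w : G) ∈ W₁ → ψ w = 1) → ∀ w : ↥(W₁ ⊔ W₂), ((w : G) ∈ W₁ ∨ (w : G) ∈ W₂) → (1 - (φ w : ℂ) - (ψ w : ℂ) + (φ w : ℂ) * (ψ w : ℂ)) = 0) ∧ LinearIndependent ℂ (fun p : {p : (↥(W₁ ⊔ W₂) →* ℂˣ) × (↥(W₁ ⊔ W₂) →* ℂˣ) // p.1 ≠ 1 ∧ p.2 ≠ 1 ∧ (∀ w : ↥(W₁ ⊔ W₂), (w : G) ∈ W₂ → p.1 w = 1) ∧ (∀ w : ↥(W₁ ⊔ W₂), (w : G) ∈ W₁ → p.2 w = 1)} => fun w : ↥(W₁ ⊔ W₂) => 1 - (p.1.1 w : ℂ) - (p.1.2 w : ℂ) + (p.1.1 w : ℂ) * (p.1.2 w : ℂ)) := by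
  classical
  refine ⟨fun φ ψ hφ hψ w hw => CfsgLib.OddChar.ctiAlpha_vanish hφ hψ w hw, ?_⟩
  haveI := Fintype.ofFinite ↥(W₁ ⊔ W₂)
  rw [linearIndependent_iff']
  intro s c hc q hq
  obtain ⟨⟨φ, ψ⟩, hφ1, hψ1, hφ, hψ⟩ := q
  have t : CfsgLib.OddChar.TrivR (1 : ↥(W₁ ⊔ W₂) →* ℂˣ) := fun _ _ => rfl
  have t' : CfsgLib.OddChar.TrivL (1 : ↥(W₁ ⊔ W₂) →* ℂˣ) := fun _ _ => rfl
  have h := congrArg (fun f : ↥(W₁ ⊔ W₂) → ℂ => Cfsg.classInner f (fun w => ((φ * ψ) w : ℂ))) hc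
  simp only [CfsgLib.Characters.classInner_zero_left] at h
  rw [CfsgLib.Characters.classInner_sum_left] at h
  have key : ∀ p ∈ s, Cfsg.classInner (c p • fun w : ↥(W₁ ⊔ W₂) =>
      1 - (p.1.1 w : ℂ) - (p.1.2 w : ℂ) + (p.1.1 w : ℂ) * (p.1.2 w : ℂ))
      (fun w => ((φ * ψ) w : ℂ)) = if p = ⟨(φ, ψ), hφ1, hψ1, hφ, hψ⟩ then c p else 0 := by
    rintro ⟨⟨a, b⟩, ha1, hb1, ha, hb⟩ -
    change Cfsg.classInner (_ • CfsgLib.OddChar.ctiAlpha a b) _ = _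
    have i1 : ∀ {x x' y y' : ↥(W₁ ⊔ W₂) →* ℂˣ}, CfsgLib.OddChar.TrivR x →
        CfsgLib.OddChar.TrivR x' → CfsgLib.OddChar.TrivL y → CfsgLib.OddChar.TrivL y' →
        (x * y = x' * y' ↔ x = x' ∧ y = y') := fun h1 h2 h3 h4 =>
      ⟨CfsgLib.OddChar.mul_inj_trivR_trivL hdisj hcomm h1 h2 h3 h4, fun h => by rw [h.1, h.2]⟩
    have m1 : (1 : ↥(W₁ ⊔ W₂) →* ℂˣ) ≠ φ * ψ := fun e =>
      hφ1 ((i1 t hφ t' hψ).mp ((one_mul _).trans e)).1.symm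
    have m2 : a ≠ φ * ψ := fun e => hψ1 ((i1 ha hφ t' hψ).mp ((mul_one _).trans e)).2.symm
    have m3 : b ≠ φ * ψ := fun e => hφ1 ((i1 t hφ hb hψ).mp ((one_mul _).trans e)).1.symm
    rw [CfsgLib.Characters.classInner_smul_left, CfsgLib.OddChar.ctiAlpha_eq_sum,
      CfsgLib.Characters.classInner_add_left, CfsgLib.Characters.classInner_sub_left,
      CfsgLib.Characters.classInner_sub_left, CfsgLib.OddChar.classInner_hom,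
      CfsgLib.OddChar.classInner_hom, CfsgLib.OddChar.classInner_hom,
      CfsgLib.OddChar.classInner_hom, if_neg m1, if_neg m2, if_neg m3]
    simp only [i1 ha hφ hb hψ, Subtype.mk.injEq, Prod.mk.injEq]
    split_ifs <;> simp
  rw [Finset.sum_congr rfl key, Finset.sum_ite_eq', if_pos hq] at h
  exact h

end Cfsg.Agent.S1504
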