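import Cfsg.Statements.S1507
import Cfsg.Agent.Lib.OddChar.CyclicCoeff

set_option autoImplicit false
open Cfsg

namespace Cfsg.Agent.S1507

open Classical in
/-- Let W₁, W₂ ≤ G form a self-normalising cyclic subgroup W = W₁ ⊔ W₂ of odd order with Nat.card W₁ < Nat.card W₂, and χ an orthonormal family of irreducible characters of G up to sign, indexed by the linear characters ω of W, with χ_1 = 1, χ_ω = ω on W outside W₁ ∪ W₂, and the induction identity for (1 − φ)(1 − ψ). Let θ be a class function of G vanishing on W outside W₁ ∪ W₂, and suppose fewer than 2 · Nat.card W₁ linear characters ω of W have ⟨θ, χ ω⟩ ≠ 0. Then one of: all ⟨θ, χ ω⟩ vanish; or there are ψ₀ and a with ⟨θ, χ ω⟩ = a when ω ψ₀⁻¹ is trivial on W₂ and 0 otherwise; or there are φ₀ and a with ⟨θ, χ ω⟩ = a when ω φ₀⁻¹ is trivial on W₁ and 0 otherwise. -/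
theorem result {G : Type*} [Group G] [Fintype G] (W₁ W₂ : Subgroup G) (hW : Cfsg.IsSelfNormalizingCyclic W₁ W₂) (hodd : Odd (Nat.card ↥(W₁ ⊔ W₂))) (χ : (↥(W₁ ⊔ W₂) →* ℂˣ) → (G → ℂ)) (hχ : Cfsg.IsCyclicTIFamily W₁ W₂ χ) (hlt : Nat.card W₁ < Nat.card W₂) (θ : G → ℂ) (hθ : Cfsg.IsClassFunction G θ) (hθV : ∀ w : ↥(W₁ ⊔ W₂), (w : G) ∉ W₁ → (w : G) ∉ W₂ → θ w = 0) (hfew : Nat.card {ω : ↥(W₁ ⊔ W₂) →* ℂˣ // Cfsg.classInner θ (χ ω) ≠ 0} < 2 * Nat.card W₁) : (∀ ω, Cfsg.classInner θ (χ ω) = 0) ∨ (∃ (ψ₀ : ↥(W₁ ⊔ W₂) →* ℂˣ) (a : ℂ), ∀ ω, Cfsg.classInner θ (χ ω) = if (∀ w : ↥(W₁ ⊔ W₂), (w : G) ∈ W₂ → (ω * ψ₀⁻¹) w = 1) then a else 0) ∨ (∃ (φ₀ : ↥(W₁ ⊔ W₂) →* ℂˣ) (a : ℂ), ∀ ω, Cfsg.classInner θ (χ ω) = if (∀ w : ↥(W₁ ⊔ W₂), (w : G) ∈ W₁ → (ω * φ₀⁻¹) w = 1) then a else 0) := by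
  classical
  haveI := Fintype.ofFinite ↥(W₁ ⊔ W₂)
  obtain ⟨hne₁, hne₂, hdisj, hcomm, -, -⟩ := id hW
  haveI : Finite (↥(W₁ ⊔ W₂) →* ℂˣ) := by
    let iW : CommGroup ↥(W₁ ⊔ W₂) :=
      { (inferInstance : Group ↥(W₁ ⊔ W₂)) with mul_comm := CfsgLib.OddChar.cti_abelian hW }
    exact Finite.of_equiv _
      (CommGroup.monoidHom_mulEquiv_of_hasEnoughRootsOfUnity ↥(W₁ ⊔ W₂) ℂ).some.symm.toEquiv
  let e := CfsgLib.OddChar.pairEquiv hW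
  have he : ∀ p, e p = p.1.1 * p.2.1 := fun p => rfl
  haveI : Finite ({φ : ↥(W₁ ⊔ W₂) →* ℂˣ // CfsgLib.OddChar.TrivR φ} ×
      {φ : ↥(W₁ ⊔ W₂) →* ℂˣ // CfsgLib.OddChar.TrivL φ}) := Finite.of_equiv _ e.symm
  haveI := Fintype.ofFinite {φ : ↥(W₁ ⊔ W₂) →* ℂˣ // CfsgLib.OddChar.TrivR φ}
  haveI := Fintype.ofFinite {φ : ↥(W₁ ⊔ W₂) →* ℂˣ // CfsgLib.OddChar.TrivL φ}
  have hI : Fintype.card {φ : ↥(W₁ ⊔ W₂) →* ℂˣ // CfsgLib.OddChar.TrivR φ} = Nat.card W₁ := by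
    rw [← Nat.card_eq_fintype_card]; exact CfsgLib.OddChar.card_trivR hW
  have hJ : Fintype.card {φ : ↥(W₁ ⊔ W₂) →* ℂˣ // CfsgLib.OddChar.TrivL φ} = Nat.card W₂ := by
    rw [← Nat.card_eq_fintype_card]; exact CfsgLib.OddChar.card_trivL hW
  have ho₁ : Odd (Nat.card W₁) := hodd.of_dvd_nat (Subgroup.card_dvd_of_le le_sup_left)
  have ho₂ : Odd (Nat.card W₂) := hodd.of_dvd_nat (Subgroup.card_dvd_of_le le_sup_right)
  have hW1 : 2 ≤ Nat.card W₁ := (Subgroup.one_lt_card_iff_ne_bot W₁).mpr hne₁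
  let f : {φ : ↥(W₁ ⊔ W₂) →* ℂˣ // CfsgLib.OddChar.TrivR φ} → ℂ := fun i => Cfsg.classInner θ (χ i.1) - Cfsg.classInner θ (χ 1)
  let g : {φ : ↥(W₁ ⊔ W₂) →* ℂˣ // CfsgLib.OddChar.TrivL φ} → ℂ := fun j => Cfsg.classInner θ (χ j.1)
  have hval : ∀ (i : {φ : ↥(W₁ ⊔ W₂) →* ℂˣ // CfsgLib.OddChar.TrivR φ}) (j : {φ : ↥(W₁ ⊔ W₂) →* ℂˣ // CfsgLib.OddChar.TrivL φ}), Cfsg.classInner θ (χ (i.1 * j.1)) = f i + g j := by
    intro i j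
    have h := CfsgLib.OddChar.family_coeff χ hχ hθ i.2 j.2
    have h0 : Cfsg.classInner (fun w : ↥(W₁ ⊔ W₂) => θ w) (CfsgLib.OddChar.ctiAlpha i.1 j.1) = 0 := by
      rw [Cfsg.classInner, Finset.sum_eq_zero fun w _ => ?_, mul_zero]
      by_cases hw : (w : G) ∈ W₁ ∨ (w : G) ∈ W₂
      · rw [CfsgLib.OddChar.ctiAlpha_vanish i.2 j.2 w hw, map_zero, mul_zero]
      · rw [not_or] at hw
        rw [hθV w hw.1 hw.2, zero_mul]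
    simp only [f, g]
    linear_combination h + h0
  have hcnt : (Finset.univ.filter (fun p : {φ : ↥(W₁ ⊔ W₂) →* ℂˣ // CfsgLib.OddChar.TrivR φ} × {φ : ↥(W₁ ⊔ W₂) →* ℂˣ // CfsgLib.OddChar.TrivL φ} => f p.1 + g p.2 ≠ 0)).card < 2 * Fintype.card {φ : ↥(W₁ ⊔ W₂) →* ℂˣ // CfsgLib.OddChar.TrivR φ} := by
    rw [hI, ← Fintype.card_subtype, ← Nat.card_eq_fintype_card]
    refine lt_of_le_of_lt (le_of_eq (Nat.card_congr (e.subtypeEquiv fun p => ?_))) hfew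
    rw [he, hval]
  have hIJ : Fintype.card {φ : ↥(W₁ ⊔ W₂) →* ℂˣ // CfsgLib.OddChar.TrivR φ} + 2 ≤ Fintype.card {φ : ↥(W₁ ⊔ W₂) →* ℂˣ // CfsgLib.OddChar.TrivL φ} := by
    obtain ⟨a, ha⟩ := ho₁
    obtain ⟨b, hb⟩ := ho₂
    omega
  rcases CfsgLib.OddChar.sum_table_few f g (hI ▸ hW1) hIJ hcnt with ⟨j₀, a, h⟩ | ⟨i₀, a, h⟩
  · refine Or.inr (Or.inl ⟨j₀.1, a, fun ω => ?_⟩)
    obtain ⟨⟨i, j⟩, rfl⟩ := e.surjective ω
    simp only [he]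
    rw [hval, h]
    have hiff : j = j₀ ↔ ∀ w : ↥(W₁ ⊔ W₂), (w : G) ∈ W₂ → (i.1 * j.1 * j₀.1⁻¹) w = 1 := by
      constructor
      · rintro rfl w hw
        simp [ i.2 w hw]
      · intro hh
        refine Subtype.ext (CfsgLib.OddChar.trivL_ext hdisj hcomm j.2 j₀.2 (MonoidHom.ext fun b => ?_))
        have := hh (CfsgLib.OddChar.ctiR W₁ W₂ b) b.2
        simp [ i.2 (CfsgLib.OddChar.ctiR W₁ W₂ b) b.2,
          mul_inv_eq_one] at this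
        simpa using this
    by_cases hq : j = j₀
    · rw [if_pos hq, if_pos (hiff.mp hq)]
    · rw [if_neg hq, if_neg (mt hiff.mpr hq)]
  · refine Or.inr (Or.inr ⟨i₀.1, a, fun ω => ?_⟩)
    obtain ⟨⟨i, j⟩, rfl⟩ := e.surjective ω
    simp only [he]
    rw [hval, h]
    have hiff : i = i₀ ↔ ∀ w : ↥(W₁ ⊔ W₂), (w : G) ∈ W₁ → (i.1 * j.1 * i₀.1⁻¹) w = 1 := by
      constructor
      · rintro rfl w hw
        simp [ j.2 w hw]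
      · intro hh
        refine Subtype.ext (CfsgLib.OddChar.trivR_ext hdisj hcomm i.2 i₀.2 (MonoidHom.ext fun b => ?_))
        have := hh (CfsgLib.OddChar.ctiL W₁ W₂ b) b.2
        simp [ j.2 (CfsgLib.OddChar.ctiL W₁ W₂ b) b.2,
          mul_inv_eq_one] at this
        simpa using this
    by_cases hq : i = i₀
    · rw [if_pos hq, if_pos (hiff.mp hq)]
    · rw [if_neg hq, if_neg (mt hiff.mpr hq)]

end Cfsg.Agent.S1507
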