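import Cfsg.Statements.S1511
import Cfsg.Agent.Lib.OddChar.TypePChar
import Cfsg.Agent.S1510

set_option autoImplicit false
open Cfsg

namespace Cfsg.Agent.S1511

/-- Let L be a finite group with K normal with complement W₁ ≠ 1 a cyclic Hall subgroup, and W₂ ≠ 1 a cyclic subgroup of K equal to C_K(x) for every non-identity x ∈ W₁, with W₁W₂ of odd order. Then there are a map μ from the linear characters of W = W₁ ⊔ W₂ to irreducible characters of L, injective, and a sign δ(ω) ∈ {1, −1} depending only on the values of ω on W₂, such that: for ω, ω' agreeing on W₂, the function induced to L from ω − ω' equals δ(ω) • (μ ω − μ ω'); μ ω x = δ(ω) ω x for x ∈ W outside W₂; every irreducible character of L not of the form μ ω vanishes on W outside W₂; and μ ω 1 − δ(ω) is an integer multiple of Nat.card W₁. -/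
theorem result {L : Type*} [Group L] [Fintype L] (K W₁ W₂ : Subgroup L) [hK : K.Normal] (hKW₁ : K ⊓ W₁ = ⊥) (hKW₁' : K ⊔ W₁ = ⊤) (hW₁ : W₁ ≠ ⊥) (hW₁c : IsCyclic W₁) (hHall : Nat.Coprime (Nat.card W₁) W₁.index) (hW₂ : W₂ ≠ ⊥) (hW₂c : IsCyclic W₂) (hW₂K : W₂ ≤ K) (hC : ∀ x ∈ W₁, x ≠ 1 → K ⊓ Subgroup.centralizer ({x} : Set L) = W₂) (hodd : Odd (Nat.card ↥(W₁ ⊔ W₂))) : ∃ (μ : (↥(W₁ ⊔ W₂) →* ℂˣ) → (L → ℂ)) (δ : (↥(W₁ ⊔ W₂) →* ℂˣ) → ℂ), Function.Injective μ ∧ (∀ ω, Cfsg.IsIrrCharacter L (μ ω)) ∧ (∀ ω, δ ω = 1 ∨ δ ω = -1) ∧ (∀ ω ω' : ↥(W₁ ⊔ W₂) →* ℂˣ, (∀ w : ↥(W₁ ⊔ W₂), (w : L) ∈ W₂ → ω w = ω' w) → δ ω = δ ω' ∧ Cfsg.indFun (W₁ ⊔ W₂) (fun w => (ω w : ℂ) - (ω' w : ℂ)) = δ ω • (μ ω - μ ω')) ∧ (∀ ω, ∀ w : ↥(W₁ ⊔ W₂), (w : L) ∉ W₂ → μ ω w = δ ω * (ω w : ℂ)) ∧ (∀ θ : L → ℂ, Cfsg.IsIrrCharacter L θ → (∀ ω, θ ≠ μ ω) → ∀ w : ↥(W₁ ⊔ W₂), (w : L) ∉ W₂ → θ w = 0) ∧ (∀ ω, ∃ n : ℤ, μ ω 1 - δ ω = n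 * (Nat.card W₁ : ℂ)) := by
  have hW := Cfsg.Agent.S1510.result K W₁ W₂ hKW₁ hKW₁' hW₁ hW₁c hHall hW₂ hW₂c hW₂K hC hodd
  have h : CfsgLib.OddChar.TPL K W₁ W₂ := ⟨hK, hKW₁, hKW₁', hW₁, hW₁c, hHall, hW₂c, hW₂K, hC⟩
  obtain ⟨χ, hχ⟩ := CfsgLib.OddChar.exists_cti_family hW hodd
  have hpos : ∀ ω, Cfsg.IsIrrCharacter L (χ ω) → ∃ n : ℕ, 0 < n ∧ χ ω 1 = n :=
    fun ω hi => CfsgLib.Characters.irr_exists_degree hi
  classical
  let δ : (↥(W₁ ⊔ W₂) →* ℂˣ) → ℂ := fun ω => if Cfsg.IsIrrCharacter L (χ ω) then 1 else -1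
  have hδ : ∀ ω, δ ω = 1 ∨ δ ω = -1 := fun ω => ite_eq_or_eq _ _ _
  have hδμ : ∀ ω, Cfsg.IsIrrCharacter L (δ ω • χ ω) := by
    intro ω
    simp only [δ]
    split_ifs with hi
    · rwa [one_smul]
    · rw [neg_one_smul]
      exact (hχ.irr_or_neg ω).resolve_left hi
  have hsq : ∀ ω, δ ω * δ ω = 1 := fun ω => by rcases hδ ω with e | e <;> rw [e] <;> norm_num
  have hsame : ∀ ω ω', χ ω 1 = χ ω' 1 → Cfsg.IsIrrCharacter L (χ ω) →
      Cfsg.IsIrrCharacter L (χ ω') := by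
    intro ω ω' e hi
    refine (hχ.irr_or_neg ω').resolve_right fun hn => ?_
    obtain ⟨n, hn0, hn1⟩ := hpos ω hi
    obtain ⟨m, hm0, hm1⟩ := CfsgLib.Characters.irr_exists_degree hn
    rw [Pi.neg_apply, ← e, hn1] at hm1
    have : ((n + m : ℕ) : ℂ) = 0 := by push_cast; linear_combination -hm1
    rw [Nat.cast_eq_zero] at this
    omega
  refine ⟨fun ω => δ ω • χ ω, δ, fun ω ω' e => ?_, hδμ, hδ, fun ω ω' hag => ?_,
    fun ω w hw => ?_, fun θ hθ hne w hw => ?_, fun ω => ?_⟩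
  · by_contra hne
    have h1 := congrArg (fun f => Cfsg.classInner f (χ ω)) e
    simp only [CfsgLib.Characters.classInner_smul_left, hχ.orthonormal, if_pos, if_neg (Ne.symm hne),
      mul_one, mul_zero] at h1
    rcases hδ ω with r | r <;> rw [r] at h1 <;> norm_num at h1
  · have hind := h.indFun_sub_agree hW hodd hχ hag
    have hdeg : χ ω 1 = χ ω' 1 := by
      have := congrFun hind 1
      rw [CfsgLib.Induction.indFun_one_apply, map_one, map_one, sub_self, mul_zero,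
        Pi.sub_apply] at this
      exact sub_eq_zero.mp this.symm
    have hd : δ ω = δ ω' := by
      simp only [δ]
      by_cases hi : Cfsg.IsIrrCharacter L (χ ω)
      · rw [if_pos hi, if_pos (hsame ω ω' hdeg hi)]
      · rw [if_neg hi, if_neg fun hi' => hi (hsame ω' ω hdeg.symm hi')]
    refine ⟨hd, ?_⟩
    rw [hind, smul_sub, smul_smul, smul_smul, hsq, hd, hsq, one_smul, one_smul]
  · show δ ω * χ ω w = _
    rw [h.family_value hW hodd hχ ω w hw]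
  · refine h.vanish_of_notMem_family hW hodd hχ
      (CfsgLib.Characters.isClassFunction_of_isCharacter (CfsgLib.Characters.isCharacter_of_irr hθ))
      (fun ω => ?_) w hw
    have h0 := CfsgLib.Characters.classInner_irr_ne hθ (hδμ ω) (hne ω)
    rw [CfsgLib.Characters.classInner_smul_right] at h0
    rcases hδ ω with r | r <;> rw [r] at h0 <;> simpa using h0
  · obtain ⟨n, hn⟩ := h.degree_cong hW hodd hχ ω
    rcases hδ ω with r | r
    · exact ⟨n, by show δ ω * χ ω 1 - δ ω = _; rw [r, one_mul]; exact hn⟩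
    · exact ⟨-n, by show δ ω * χ ω 1 - δ ω = _; rw [r, Int.cast_neg]; linear_combination -hn⟩

end Cfsg.Agent.S1511
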