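import Cfsg.Statements.S1512
import Cfsg.Agent.Lib.OddChar.CoprimeCoset

set_option autoImplicit false
open Cfsg

namespace Cfsg.Agent.S1512

/-- Let K be a normal subgroup of the finite group L and x a non-identity element whose order is coprime to the order of K, such that K ⊓ C_L(y) = W₂ for every non-identity element y of the cyclic group generated by x. Then the number of conjugacy classes of K mapped to themselves by conjugation by x is at most Nat.card W₂. -/
theorem result {L : Type*} [Group L] [Finite L] (K W₂ : Subgroup L) [hK : K.Normal] (x : L) (hx1 : x ≠ 1) (hx : Nat.Coprime (orderOf x) (Nat.card K)) (hC : ∀ y ∈ Subgroup.zpowers x, y ≠ 1 → K ⊓ Subgroup.centralizer ({y} : Set L) = W₂) : Nat.card {C : ConjClasses K // ConjClasses.map (MulEquiv.toMonoidHom ((MulAut.conjNormal x : MulAut K))) C = C} ≤ Nat.card W₂ := by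
  classical
  have hW : K ⊓ Subgroup.centralizer ({x} : Set L) = W₂ := hC x (Subgroup.mem_zpowers x) hx1
  let f : W₂ → ConjClasses K := fun c => ConjClasses.mk ⟨c, (hW.ge c.2).1⟩
  refine le_trans (Nat.card_le_card_of_injective (β := Set.range f) (fun C => ⟨C.1, ?_⟩) ?_)
    (Finite.card_range_le f)
  · obtain ⟨C, hfix⟩ := C
    obtain ⟨h, rfl⟩ := ConjClasses.exists_rep C
    have hfix' : IsConj (MulAut.conjNormal x h : K) h := ConjClasses.mk_eq_mk_iff_isConj.mp hfix
    obtain ⟨u, hu⟩ := isConj_iff.mp hfix'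
    have hu' : (u : L) * (x * h * x⁻¹) * (u : L)⁻¹ = h := congrArg Subtype.val hu
    have hcomm : Commute ((u : L) * x) h := by
      show (u : L) * x * h = h * ((u : L) * x)
      conv_rhs => rw [← hu']
      group
    obtain ⟨k, hk, hcx⟩ := CfsgLib.OddChar.centralizing_coset_meets K x hx (y := (u : L) * x)
      (by rw [mul_inv_cancel_right]; exact u.2) h.2 hcomm
    have hm : k⁻¹ * (h : L) * k ∈ K ⊓ Subgroup.centralizer ({x} : Set L) :=
      ⟨K.mul_mem (K.mul_mem (K.inv_mem hk) h.2) hk,
        Subgroup.mem_centralizer_singleton_iff.mpr hcx.eq.symm⟩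
    refine ⟨⟨_, hW.le hm⟩, ConjClasses.mk_eq_mk_iff_isConj.mpr (isConj_iff.mpr ⟨⟨k, hk⟩, ?_⟩)⟩
    refine Subtype.ext ?_
    show k * (k⁻¹ * (h : L) * k) * k⁻¹ = h
    group
  · intro C D h
    exact Subtype.ext (congrArg (fun z : Set.range f => z.1) h)

end Cfsg.Agent.S1512
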