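import Cfsg.Statements.S1514
import Cfsg.Agent.Lib.OddChar.Signed
import Cfsg.Agent.Lib.OddChar.Isometry

set_option autoImplicit false
open Cfsg

namespace Cfsg.Agent.S1514

/-- Let S be a nonempty set of irreducible characters of the finite group L, closed under complex conjugation and containing no real-valued member, and τ a linear isometry on the integer combinations of S vanishing at 1, with values virtual characters of G vanishing at 1. Then there is a choice R making (S, τ, R) a coherence system. -/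
theorem result {L : Type*} [Group L] [Fintype L] {G : Type*} [Group G] [Fintype G] (S : Set (L → ℂ)) (hS : S.Nonempty) (hirr : ∀ χ ∈ S, Cfsg.IsIrrCharacter L χ) (hconj : ∀ χ ∈ S, Cfsg.conjFun χ ∈ S ∧ Cfsg.conjFun χ ≠ χ) (τ : (L → ℂ) → (G → ℂ)) (hτ : Cfsg.IsLinearIsometryOn (Cfsg.zspanOn S {1}ᶜ) τ) (hτ1 : ∀ α ∈ Cfsg.zspanOn S {1}ᶜ, τ α 1 = 0) : ∃ R : (L → ℂ) → Finset (G → ℂ), Cfsg.IsCoherenceSystem S τ R := by
  classical
  have hmem : ∀ χ ∈ S, χ - Cfsg.conjFun χ ∈ Cfsg.zspanOn S {1}ᶜ := fun χ hχ =>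
    CfsgLib.OddChar.zspanOn_compl_one.mpr
      ⟨CfsgLib.OddChar.zspan_sub (CfsgLib.OddChar.zspan_of_mem hχ)
        (CfsgLib.OddChar.zspan_of_mem (hconj χ hχ).1), by
        simp [CfsgLib.OddChar.conjFun_one (CfsgLib.Characters.isCharacter_of_irr (hirr χ hχ))]⟩
  have horth : ∀ χ ∈ S, ∀ φ ∈ S, χ ≠ φ → Cfsg.classInner χ φ = 0 := fun χ hχ φ hφ h =>
    CfsgLib.Characters.classInner_irr_ne (hirr χ hχ) (hirr φ hφ) h
  have hone : ∀ χ ∈ S, Cfsg.classInner χ χ = 1 := fun χ hχ =>
    CfsgLib.Characters.classInner_irr_self (hirr χ hχ)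
  have hR : ∀ χ ∈ S, ∃ s : Finset (G → ℂ), s.card = 2 ∧ (∀ f ∈ s, CfsgLib.OddChar.IsSigned f) ∧
      (∀ f ∈ s, ∀ g ∈ s, Cfsg.classInner f g = if f = g then 1 else 0) ∧
      τ (χ - Cfsg.conjFun χ) = ∑ f ∈ s, f := by
    intro χ hχ
    refine CfsgLib.OddChar.exists_signed_finset (hτ.2.2.2 _ (hmem χ hχ)) (by norm_num) ?_
    rw [hτ.2.2.1 _ (hmem χ hχ) _ (hmem χ hχ), CfsgLib.Characters.classInner_sub_left,
      CfsgLib.Characters.classInner_sub_right, CfsgLib.Characters.classInner_sub_right,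
      hone χ hχ, hone _ (hconj χ hχ).1, horth χ hχ _ (hconj χ hχ).1 (hconj χ hχ).2.symm,
      horth _ (hconj χ hχ).1 χ hχ (hconj χ hχ).2]
    norm_num
  choose s hs2 hss hso hse using hR
  refine ⟨fun χ => if h : χ ∈ S then s χ h else ∅, ?_⟩
  refine ⟨hS, fun χ hχ => CfsgLib.Characters.isCharacter_of_irr (hirr χ hχ),
    fun χ hχ => (hconj χ hχ).1, fun χ hχ => (hconj χ hχ).2, hτ, hτ1, horth, ?_, ?_, ?_, ?_⟩
  · intro χ hχ
    simp only [dif_pos hχ]
    intro α ha β hb
    convert hso χ hχ α ha β hb using 2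
  · intro χ hχ
    simp only [dif_pos hχ]
    exact fun α hα => (hss χ hχ α hα).generalized
  · intro χ hχ
    simp only [dif_pos hχ]
    exact hse χ hχ
  · intro χ hχ φ hφ h1 h2
    simp only [dif_pos hχ, dif_pos hφ]
    obtain ⟨a, b, hab, hc⟩ := Finset.card_eq_two.mp (hs2 φ hφ)
    obtain ⟨c, d, hcd, hc'⟩ := Finset.card_eq_two.mp (hs2 χ hχ)
    have hne : φ ≠ χ := fun e => by rw [e, hone χ hχ] at h1; exact one_ne_zero h1
    have hne' : φ ≠ Cfsg.conjFun χ := fun e => by
      rw [e, hone _ (hconj χ hχ).1] at h2; exact one_ne_zero h2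
    have hinv : ∀ f : L → ℂ, Cfsg.conjFun (Cfsg.conjFun f) = f := fun f =>
      funext fun x => Complex.conj_conj _
    have hne1 : Cfsg.conjFun φ ≠ χ := fun e => hne' (by rw [← e, hinv])
    have hne2 : Cfsg.conjFun φ ≠ Cfsg.conjFun χ := fun e => hne (by
      rw [← hinv φ, e, hinv])
    have hz : Cfsg.classInner (τ (φ - Cfsg.conjFun φ)) (τ (χ - Cfsg.conjFun χ)) = 0 := by
      rw [hτ.2.2.1 _ (hmem φ hφ) _ (hmem χ hχ), CfsgLib.Characters.classInner_sub_left,
        CfsgLib.Characters.classInner_sub_right, CfsgLib.Characters.classInner_sub_right,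
        h1, h2, horth _ (hconj φ hφ).1 χ hχ hne1,
        horth _ (hconj φ hφ).1 _ (hconj χ hχ).1 hne2]
      ring
    have d1 := hτ1 _ (hmem φ hφ)
    have d2 := hτ1 _ (hmem χ hχ)
    rw [hse φ hφ, hc, Finset.sum_pair hab] at hz d1
    rw [hse χ hχ, hc', Finset.sum_pair hcd] at hz d2
    simp only [Pi.add_apply] at d1 d2
    have o : ∀ (χ : L → ℂ) (h : χ ∈ S), ∀ f ∈ s χ h, ∀ g ∈ s χ h, f ≠ g →
        Cfsg.classInner f g = 0 := fun χ h f hf g hg e => by rw [hso χ h f hf g hg, if_neg e]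
    have key := CfsgLib.OddChar.four_signed (α := a) (β := -b) (γ := c) (δ := -d)
      (hss φ hφ a (by simp [hc])) (hss φ hφ b (by simp [hc])).neg
      (hss χ hχ c (by simp [hc'])) (hss χ hχ d (by simp [hc'])).neg
      (u := 1) (v := 1) one_ne_zero one_ne_zero
      (by rw [CfsgLib.Characters.classInner_neg_right,
        o φ hφ a (by simp [hc]) b (by simp [hc]) hab, neg_zero])
      (by rw [CfsgLib.Characters.classInner_neg_right,
        o χ hχ c (by simp [hc']) d (by simp [hc']) hcd, neg_zero])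
      (map_one _) (map_one _)
      (by rw [one_smul, one_smul, sub_neg_eq_add, sub_neg_eq_add]; exact hz)
      (by simp only [Pi.neg_apply]; linear_combination d1)
      (by simp only [Pi.neg_apply]; linear_combination d2)
    simp only [CfsgLib.Characters.classInner_neg_right, CfsgLib.Characters.classInner_neg_left,
      neg_neg, neg_eq_zero] at key
    obtain ⟨k1, k2, k3, k4⟩ := key
    rw [hc, hc']
    simp only [Finset.mem_insert, Finset.mem_singleton, forall_eq_or_imp, forall_eq]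
    exact ⟨⟨k1, k2⟩, k3, k4⟩

end Cfsg.Agent.S1514
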