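import Cfsg.Statements.S1515
import Cfsg.Agent.Lib.OddChar.Coherence

set_option autoImplicit false
open Cfsg

namespace Cfsg.Agent.S1515

/-- Let (S, τ, R) be a coherence system from L to G, χ ∈ S, and ψ an integer combination of S with ⟨χ, ψ⟩ = ⟨conj χ, ψ⟩ = 0. Let τ₁ be a linear isometry on the integer combinations of χ − ψ and χ − conj χ, with virtual-character values, agreeing with τ on integer multiples of χ − conj χ. Then the sum over α ∈ R χ of the squared absolute values of ⟨τ₁(χ − ψ), α⟩ is at least ⟨χ, χ⟩; and if ⟨τ₁(χ − ψ), τ₁(χ − ψ)⟩ minus that sum is at least ⟨ψ, ψ⟩, then the sum equals ⟨χ, χ⟩ and every ⟨τ₁(χ − ψ), α⟩ with α ∈ R χ is 0 or 1. -/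
theorem result {L : Type*} [Group L] [Fintype L] {G : Type*} [Group G] [Fintype G] (S : Set (L → ℂ)) (τ : (L → ℂ) → (G → ℂ)) (R : (L → ℂ) → Finset (G → ℂ)) (hS : Cfsg.IsCoherenceSystem S τ R) (χ : L → ℂ) (hχ : χ ∈ S) (ψ : L → ℂ) (hψ : ψ ∈ Cfsg.zspan S) (h1 : Cfsg.classInner χ ψ = 0) (h2 : Cfsg.classInner (Cfsg.conjFun χ) ψ = 0) (τ₁ : (L → ℂ) → (G → ℂ)) (hτ₁ : Cfsg.IsLinearIsometryOn (Cfsg.zspan {χ - ψ, χ - Cfsg.conjFun χ}) τ₁) (hagree : ∀ n : ℤ, τ₁ (n • (χ - Cfsg.conjFun χ)) = τ (n • (χ - Cfsg.conjFun χ))) : (Cfsg.classInner χ χ).re ≤ ∑ α ∈ R χ, ‖Cfsg.classInner (τ₁ (χ - ψ)) α‖ ^ 2 ∧ ((Cfsg.classInner ψ ψ).re ≤ (Cfsg.classInner (τ₁ (χ - ψ)) (τ₁ (χ - ψ))).re - ∑ α ∈ R χ, ‖Cfsg.classInner (τ₁ (χ - ψ)) α‖ ^ 2 → (∑ α ∈ R χ, ‖Cfsg.classInner (τ₁ (χ - ψ)) α‖ ^ 2 = (Cfsg.classInner χ χ).re ∧ ∀ α ∈ R χ, Cfsg.classInner (τ₁ (χ - ψ)) α = 0 ∨ Cfsg.classInner (τ₁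 (χ - ψ)) α = 1)) := by
  classical
  obtain ⟨n, hn⟩ := CfsgLib.Characters.classInner_char_nat (hS.isCharacter χ hχ) (hS.isCharacter χ hχ)
  set β := τ₁ (χ - ψ) with hβ
  have hm1 : χ - ψ ∈ Cfsg.zspan ({χ - ψ, χ - Cfsg.conjFun χ} : Set (L → ℂ)) :=
    CfsgLib.OddChar.zspan_of_mem (by simp)
  have hm2 : χ - Cfsg.conjFun χ ∈ Cfsg.zspan ({χ - ψ, χ - Cfsg.conjFun χ} : Set (L → ℂ)) :=
    CfsgLib.OddChar.zspan_of_mem (by simp)
  have hψχ : Cfsg.classInner ψ χ = 0 := by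
    rw [CfsgLib.Characters.classInner_conj_symm, h1, map_zero]
  have hψχ' : Cfsg.classInner ψ (Cfsg.conjFun χ) = 0 := by
    rw [CfsgLib.Characters.classInner_conj_symm, h2, map_zero]
  have ht : τ (χ - Cfsg.conjFun χ) = τ₁ (χ - Cfsg.conjFun χ) := by
    have := (hagree 1).symm
    simpa using this
  have hinner : Cfsg.classInner β (τ (χ - Cfsg.conjFun χ)) = ((n : ℤ) : ℂ) := by
    rw [ht, hβ, hτ₁.2.2.1 _ hm1 _ hm2, CfsgLib.Characters.classInner_sub_left,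
      CfsgLib.Characters.classInner_sub_right, CfsgLib.Characters.classInner_sub_right,
      hn, hψχ, hψχ', hS.orthogonal χ hχ _ (hS.conj_mem χ hχ) (hS.conj_ne χ hχ).symm,
      Int.cast_natCast]
    ring
  obtain ⟨c, hc, -, hle, heq⟩ := CfsgLib.OddChar.rchi_coeff hS hχ (hτ₁.2.2.2 _ hm1) hinner
  have hnorm : ∑ α ∈ R χ, ‖Cfsg.classInner β α‖ ^ 2 = ((∑ α ∈ R χ, c α ^ 2 : ℤ) : ℝ) := by
    rw [Int.cast_sum]
    refine Finset.sum_congr rfl fun α hα => ?_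
    rw [hc α hα, Complex.norm_intCast, sq_abs, Int.cast_pow]
  have hββ : (Cfsg.classInner β β).re = (n : ℝ) + (Cfsg.classInner ψ ψ).re := by
    rw [hβ, hτ₁.2.2.1 _ hm1 _ hm1, CfsgLib.Characters.classInner_sub_left,
      CfsgLib.Characters.classInner_sub_right, CfsgLib.Characters.classInner_sub_right, hn, h1, hψχ]
    simp
  rw [hn, Complex.natCast_re, hnorm]
  refine ⟨by exact_mod_cast hle, fun h => ?_⟩
  rw [hββ] at h
  have hle' : ∑ α ∈ R χ, c α ^ 2 ≤ (n : ℤ) := by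
    have : ((∑ α ∈ R χ, c α ^ 2 : ℤ) : ℝ) ≤ ((n : ℤ) : ℝ) := by push_cast at h ⊢; linarith
    exact_mod_cast this
  obtain ⟨he, h01⟩ := heq hle'
  refine ⟨by rw [he]; simp, fun α hα => ?_⟩
  rw [hc α hα]
  rcases h01 α hα with e | e <;> simp [e]

end Cfsg.Agent.S1515
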