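import Cfsg.Statements.S1518
import Cfsg.Agent.Lib.OddChar.DadeVirtual
import Cfsg.Agent.Lib.OddChar.Signed
import Cfsg.Agent.Lib.Characters.Exceptional

set_option autoImplicit false
open Cfsg

namespace Cfsg.Agent.S1518

/-- Under the Dade hypothesis for (A, L, H): if χ is an irreducible character of L vanishing at every non-identity element of L outside A, then the Dade image of χ − conj χ equals μ − conj μ for some irreducible character μ of G. -/
theorem result {G : Type*} [Group G] [Fintype G] (A : Set G) (L : Subgroup G) [Fintype L] (H : G → Subgroup G) (hD : Cfsg.DadeHypothesis A L H) (χ : L → ℂ) (hχ : Cfsg.IsIrrCharacter L χ) (hsupp : ∀ x : L, x ≠ 1 → (x : G) ∉ A → χ x = 0) : ∃ μ : G → ℂ, Cfsg.IsIrrCharacter G μ ∧ Cfsg.dadeIsometry A L H (χ - Cfsg.conjFun χ) = μ - Cfsg.conjFun μ := by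
  classical
  set α := χ - Cfsg.conjFun χ with hα
  have hdade : ∀ g, Cfsg.conjFun (Cfsg.dadeIsometry A L H α) g =
      -Cfsg.dadeIsometry A L H α g := by
    intro g
    unfold Cfsg.conjFun Cfsg.dadeIsometry
    split_ifs with h
    · simp [hα, Cfsg.conjFun]
    · simp
  by_cases hreal : Cfsg.conjFun χ = χ
  · refine ⟨fun _ => 1, CfsgLib.Characters.isIrrCharacter_one, ?_⟩
    funext g
    have h0 : α = 0 := by rw [hα, hreal, sub_self]
    rw [h0]
    simp [Cfsg.dadeIsometry, Cfsg.conjFun]
  · have hc := CfsgLib.Characters.isCharacter_of_irr hχ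
    have hχc := CfsgLib.OddChar.conjFun_irr hχ
    have hgen : Cfsg.IsGeneralizedCharacter L α :=
      ⟨χ, Cfsg.conjFun χ, hc, CfsgLib.Characters.isCharacter_of_irr hχc, hα⟩
    have hαA : ∀ x : L, (x : G) ∉ A → α x = 0 := by
      intro x hx
      rcases eq_or_ne x 1 with rfl | h1
      · simp [hα, CfsgLib.OddChar.conjFun_one hc]
      · simp [hα, Cfsg.conjFun, hsupp x h1 hx]
    have hcl := CfsgLib.Characters.isClassFunction_of_isGeneralizedCharacter hgen
    have hz : Cfsg.dadeIsometry A L H α 1 = 0 := by
      refine CfsgLib.OddChar.dadeIsometry_of_not_mem ?_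
      rintro ⟨a, ha, u, hu, x, e⟩
      have haH : a ∈ H a ⊓ (L ⊓ Subgroup.centralizer ({a} : Set G)) := by
        refine ⟨?_, hD.subset ha, Subgroup.mem_centralizer_singleton_iff.mpr rfl⟩
        have ha' : a = u⁻¹ := eq_inv_of_mul_eq_one_left (e.symm.trans (by group))
        have := (H a).inv_mem hu
        rwa [← ha'] at this
      rw [hD.inf_eq_bot a ha, Subgroup.mem_bot] at haH
      exact hD.one_not_mem (haH ▸ ha)
    have hnorm : Cfsg.classInner (Cfsg.dadeIsometry A L H α) (Cfsg.dadeIsometry A L H α) = 2 := by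
      rw [CfsgLib.OddChar.dade_isometry hD hcl hαA hcl, hα,
        CfsgLib.Characters.classInner_sub_left, CfsgLib.Characters.classInner_sub_right,
        CfsgLib.Characters.classInner_sub_right, CfsgLib.Characters.classInner_irr_self hχ,
        CfsgLib.Characters.classInner_irr_self hχc,
        CfsgLib.Characters.classInner_irr_ne hχ hχc (fun e => hreal e.symm),
        CfsgLib.Characters.classInner_irr_ne hχc hχ hreal]
      norm_num
    obtain ⟨a, b, hab, he⟩ := CfsgLib.CharExceptional.exists_diff_of_norm_two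
      (CfsgLib.OddChar.dade_virtual hD hgen hαA) hz hnorm
    refine ⟨a, a.2, ?_⟩
    rw [he]
    congr 1
    have hac := CfsgLib.OddChar.conjFun_irr a.2
    have hbc := CfsgLib.OddChar.conjFun_irr b.2
    have hrel : (a : G → ℂ) - (b : G → ℂ) + Cfsg.conjFun (a : G → ℂ) - Cfsg.conjFun (b : G → ℂ) = 0 := by
      funext g
      have h := hdade g
      rw [he] at h
      simp only [Cfsg.conjFun, Pi.sub_apply, map_sub, Pi.add_apply, Pi.zero_apply] at h ⊢
      linear_combination h
    have hba : Cfsg.conjFun (b : G → ℂ) = (a : G → ℂ) := by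
      by_contra hne
      have h := congrArg (Cfsg.classInner · (a : G → ℂ)) hrel
      simp only [CfsgLib.Characters.classInner_sub_left, CfsgLib.Characters.classInner_add_left,
        CfsgLib.Characters.classInner_zero_left, CfsgLib.Characters.classInner_irr_self a.2,
        CfsgLib.Characters.classInner_irr_ne b.2 a.2 (fun e => hab (Subtype.ext e.symm)),
        CfsgLib.Characters.classInner_irr_ne hbc a.2 hne] at h
      by_cases haa : Cfsg.conjFun (a : G → ℂ) = (a : G → ℂ)
      · rw [haa, CfsgLib.Characters.classInner_irr_self a.2] at h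
        norm_num at h
      · rw [CfsgLib.Characters.classInner_irr_ne hac a.2 haa] at h
        norm_num at h
    funext g
    rw [← hba]
    simp [Cfsg.conjFun]

end Cfsg.Agent.S1518
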