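import Cfsg.Statements.S1522
import Cfsg.Agent.Lib.OddChar.CentralSet
import Cfsg.Agent.Lib.OddChar.FrobeniusQuot

set_option autoImplicit false
open Cfsg

namespace Cfsg.Agent.S1522

/-- Let K be a nilpotent normal subgroup of the finite group L of odd order with [K,K] < K < L and L/[K,K] a Frobenius group with kernel K/[K,K] (elements of K outside [K,K] are centralised modulo [K,K] only from inside K); let (S, τ, R) be a coherence system from L to G with S the functions induced from non-principal irreducible characters of K. Let Z be a nontrivial normal subgroup of L contained in the centre of K, and suppose every member of S outside S(Z) is an irreducible character of L. Then S minus S(Z) is the set of irreducible characters χ of L with χ z ≠ χ 1 for some z ∈ Z, and it is coherent. -/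
theorem result {L : Type*} [Group L] [Fintype L] {G : Type*} [Group G] [Fintype G] (K : Subgroup L) [hK : K.Normal] (hsolv : Group.IsSolvable K) (τ : (L → ℂ) → (G → ℂ)) (R : (L → ℂ) → Finset (G → ℂ)) (hS : Cfsg.IsCoherenceSystem (Cfsg.inducedIrrAbove K ⊥) τ R) (hodd : Odd (Nat.card L)) (hnil : Group.IsNilpotent K) (hH₁K : ⁅K, K⁆ < K) (hKL : K < ⊤) (hfrob : ∀ k ∈ K, k ∉ ⁅K, K⁆ → ∀ x : L, x * k * x⁻¹ * k⁻¹ ∈ ⁅K, K⁆ → x ∈ K) (Z : Subgroup L) [Z.Normal] (hZ1 : Z ≠ ⊥) (hZK : Z ≤ K) (hZc : ∀ z ∈ Z, ∀ k ∈ K, z * k = k * z) (hirr : ∀ χ ∈ Cfsg.inducedIrrAbove K ⊥ \ Cfsg.inducedIrrAbove K Z, Cfsg.IsIrrCharacter L χ) : Cfsg.inducedIrrAbove K ⊥ \ Cfsg.inducedIrrAbove K Z = {χ | Cfsg.IsIrrCharacter L χ ∧ ∃ z ∈ Z, χ z ≠ χ 1} ∧ Cfsg.IsCoherent (Cfsg.inducedIrrAbove K ⊥ \ Cfsg.inducedIrrAbove K Z) {1}ᶜ τ := by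
  classical
  haveI : Fintype K := Fintype.ofFinite K
  have hirr' : ∀ θ ∈ CfsgLib.OddChar.thetaOff K Z, Cfsg.IsIrrCharacter L (Cfsg.indFun K (θ : K → ℂ)) := by
    intro θ hθ
    refine hirr _ ?_
    rw [← CfsgLib.OddChar.coe_offFinset hK Z]
    exact Finset.mem_image_of_mem _ hθ
  have hset := CfsgLib.OddChar.coe_offFinset (K := K) hK Z
  have hsetirr := CfsgLib.OddChar.offFinset_eq_irr (K := K) hK Z hZK hirr'
  refine ⟨hset.symm.trans hsetirr, ?_⟩
  rw [← hset]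
  have hXS : (↑(CfsgLib.OddChar.offFinset K Z) : Set (L → ℂ)) ⊆ Cfsg.inducedIrrAbove K ⊥ := by
    rw [hset]; exact Set.sdiff_subset
  have hconjX : ∀ χ ∈ CfsgLib.OddChar.offFinset K Z, Cfsg.conjFun χ ∈ CfsgLib.OddChar.offFinset K Z := by
    intro χ hχ
    rw [← Finset.mem_coe, hset] at hχ ⊢
    refine ⟨CfsgLib.OddChar.indAbove_conj K ⊥ hχ.1, fun h => hχ.2 ?_⟩
    rw [← CfsgLib.OddChar.conjFun_conjFun χ]
    exact CfsgLib.OddChar.indAbove_conj K Z h
  obtain ⟨χ, hχ⟩ : (CfsgLib.OddChar.offFinset K Z).Nonempty := by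
    by_contra h
    rw [Finset.not_nonempty_iff_eq_empty] at h
    have hs := CfsgLib.OddChar.sum_sq_offFinset (K := K) hK Z hirr'
    rw [h, Finset.sum_empty, zero_add] at hs
    have hr := CfsgLib.OddChar.relIndex_mul_card (K := K) Z hZK
    have := Nat.eq_of_mul_eq_mul_left (Nat.pos_of_ne_zero Subgroup.index_ne_zero_of_finite) hs
    rw [← this] at hr
    exact ((Subgroup.one_lt_card_iff_ne_bot Z).mpr hZ1).ne' (Nat.eq_of_mul_eq_mul_left
      (Nat.pos_of_ne_zero (Subgroup.index_ne_zero_of_finite (H := Z.subgroupOf K)))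
      (hr.trans (mul_one _).symm))
  by_cases hpp : ∃ p m : ℕ, p.Prime ∧ (⊥ : Subgroup L).relIndex K = p ^ m
  · obtain ⟨p, m, hp, hm⟩ := hpp
    rw [Subgroup.relIndex_bot_left] at hm
    haveI := Fact.mk hp
    have hpK : IsPGroup p K := IsPGroup.of_card hm
    have hcomm : ⁅K, K⁆ ≤ ⁅K, K⁆ := le_rfl
    have hd := CfsgLib.OddChar.index_dvd_relIndex_sub_one hH₁K.le hcomm hfrob K hH₁K.le le_rfl
    obtain ⟨k, -, hk⟩ := (Nat.dvd_prime_pow hp).mp
      (hm ▸ Subgroup.relIndex_dvd_card ⁅K, K⁆ K : (⁅K, K⁆ : Subgroup L).relIndex K ∣ p ^ m)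
    have hk0 : k ≠ 0 := fun e => hH₁K.not_ge (Subgroup.relIndex_eq_one.mp (by rw [hk, e, pow_zero]))
    have hpe : ¬ p ∣ K.index := fun h => by
      rw [hk] at hd
      have h1 : p ∣ p ^ k - 1 := h.trans hd
      have h2 : p ∣ p ^ k := dvd_pow_self p hk0
      have h3 := Nat.dvd_sub h2 h1
      rw [Nat.sub_sub_self (Nat.one_le_pow _ _ hp.pos)] at h3
      exact hp.not_dvd_one h3
    have hp3 : 3 ≤ p := by
      have hpd : p ∣ Nat.card L := ((dvd_pow_self p hk0).trans (hk ▸ Subgroup.relIndex_dvd_card _ _ :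
        p ^ k ∣ Nat.card K)).trans (Subgroup.card_subgroup_dvd_card K)
      obtain ⟨t, ht⟩ := hodd.of_dvd_nat hpd
      have := hp.two_le
      omega
    refine CfsgLib.OddChar.offFinset_coherent hK Z hZK hZc hp hp3 hpK hpe hirr'
      ⟨fun ξ hξ => ?_, CfsgLib.OddChar.isometry_mono hS.isometry (CfsgLib.OddChar.zspanOn_mono hXS _),
        fun α hα => hS.map_one α (CfsgLib.OddChar.zspanOn_mono hXS _ hα)⟩
      (Finset.one_lt_card.mpr ⟨χ, hχ, _, hconjX χ hχ, (hS.conj_ne χ (hXS hχ)).symm⟩)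
    rw [hsetirr] at hξ
    exact hξ.1
  · haveI : Group.IsNilpotent K := hnil
    have hcoh := CfsgLib.OddChar.coherent_frobenius_quot K hsolv hS hodd ⊥ bot_le inferInstance
      ⁅K, K⁆ (sup_bot_eq _).symm hH₁K hKL hfrob (Or.inr (Or.inr (Or.inl hpp)))
    exact CfsgLib.OddChar.coherent_subset hcoh hXS
      (CfsgLib.OddChar.sys_nonzero_zspanOn hS (hXS hχ) hχ (hconjX χ hχ))

end Cfsg.Agent.S1522
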