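import Cfsg.Statements.S1527
import Mathlib

set_option autoImplicit false
open Cfsg

namespace Cfsg.Agent.S1527

/-- Let G be a finite group and H i (i in a finite index type) subgroups of pairwise coprime orders, each of whose underlying sets is a TI-subset of G, such that every non-identity element of G is conjugate to an element of some H i. Then Nat.card G − 1 = Σ_i [G : N_G(H i)] · (Nat.card (H i) − 1). -/
theorem result {G : Type*} [Group G] [Finite G] {ι : Type*} [Fintype ι] (H : ι → Subgroup G) (hcop : ∀ i j, i ≠ j → Nat.Coprime (Nat.card (H i)) (Nat.card (H j))) (hTI : ∀ i, Cfsg.IsTISubset (H i : Set G)) (hcover : ∀ g : G, g ≠ 1 → ∃ i, ∃ x : G, x * g * x⁻¹ ∈ H i) : Nat.card G - 1 = ∑ i, (Subgroup.normalizer (H i : Set G)).index * (Nat.card (H i) - 1) := by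
  classical
  haveI := Fintype.ofFinite G
  let T := Σ i, (G ⧸ Subgroup.normalizer (H i : Set G)) × {h : H i // h ≠ 1}
  let f : T → {g : G // g ≠ 1} := fun t =>
    ⟨t.2.1.out * (t.2.2.1 : G) * t.2.1.out⁻¹, fun h => by
      rw [mul_inv_eq_one, mul_eq_left] at h
      exact t.2.2.2 (Subtype.ext h)⟩
  have hf : Function.Bijective f := by
    constructor
    · rintro ⟨i, q, h⟩ ⟨j, r, k⟩ e
      have e' : q.out * (h.1 : G) * q.out⁻¹ = r.out * (k.1 : G) * r.out⁻¹ := congrArg Subtype.val e
      have hk : (r.out⁻¹ * q.out) * (h.1 : G) * (r.out⁻¹ * q.out)⁻¹ = (k.1 : G) := by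
        calc _ = r.out⁻¹ * (q.out * (h.1 : G) * q.out⁻¹) * r.out := by group
          _ = _ := by rw [e']; group
      have ho : orderOf (h.1 : G) = orderOf (k.1 : G) := by
        rw [← hk]; exact (MulEquiv.orderOf_eq (MulAut.conj (r.out⁻¹ * q.out)) (h.1 : G)).symm
      have hij : i = j := by
        by_contra hne
        refine h.2 (Subtype.ext (orderOf_eq_one_iff.mp
          (Nat.eq_one_of_dvd_coprimes (hcop i j hne) (Subgroup.orderOf_dvd_natCard _ h.1.2) ?_)))
        rw [ho]; exact Subgroup.orderOf_dvd_natCard _ k.1.2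
      subst hij
      have hqr : q = r := by
        by_contra hne
        apply h.2
        refine Subtype.ext (hTI i (r.out⁻¹ * q.out) (fun hm => hne ?_) _ h.1.2 (hk ▸ k.1.2))
        rw [← q.out_eq', ← r.out_eq', eq_comm, QuotientGroup.eq]
        exact hm
      subst hqr
      have : (h.1 : G) = k.1 := mul_left_cancel (mul_right_cancel e')
      have : h = k := Subtype.ext (Subtype.ext this)
      subst this; rfl
    · rintro ⟨g, hg⟩
      obtain ⟨i, x, hx⟩ := hcover g hg
      let q : G ⧸ Subgroup.normalizer (H i : Set G) := ((x⁻¹ : G) : G ⧸ _)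
      obtain ⟨n, hn⟩ := QuotientGroup.mk_out_eq_mul (Subgroup.normalizer (H i : Set G)) x⁻¹
      have hm : (n : G)⁻¹ * (x * g * x⁻¹) * (n : G) ∈ H i :=
        (Subgroup.mem_set_normalizer_iff''.mp n.2 _).mp hx
      refine ⟨⟨i, q, ⟨⟨_, hm⟩, fun h => hg ?_⟩⟩, Subtype.ext ?_⟩
      · have h' : (n : G)⁻¹ * (x * g * x⁻¹) * (n : G) = 1 := congrArg Subtype.val h
        calc g = x⁻¹ * n * ((n : G)⁻¹ * (x * g * x⁻¹) * (n : G)) * (n : G)⁻¹ * x := by group
          _ = 1 := by rw [h']; group
      · show q.out * ((n : G)⁻¹ * (x * g * x⁻¹) * (n : G)) * q.out⁻¹ = g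
        rw [show q.out = x⁻¹ * n from hn]; group
  have h := Nat.card_congr (Equiv.ofBijective f hf)
  have hsub : ∀ (K : Type _) [Group K] [Finite K], Nat.card {h : K // h ≠ 1} = Nat.card K - 1 := by
    intro K _ _
    haveI := Fintype.ofFinite K
    rw [Nat.card_eq_fintype_card, Nat.card_eq_fintype_card, Fintype.card_subtype_compl,
      Fintype.card_subtype_eq]
  rw [hsub G, Nat.card_sigma] at h
  rw [← h]
  exact Finset.sum_congr rfl fun i _ => by rw [Nat.card_prod, hsub]; rfl

end Cfsg.Agent.S1527
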