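import Cfsg.Statements.S1528
import Cfsg.Agent.Lib.OddChar.FixedIrr
import Cfsg.Agent.Lib.Characters.Clifford
import Cfsg.Agent.Lib.Characters.NormalRes

set_option autoImplicit false
open Cfsg

namespace Cfsg.Agent.S1528

/-- Let N be a normal subgroup of the finite group G such that every element of G commuting with a non-identity element of N lies in N. If χ is an irreducible character of G with χ n ≠ χ 1 for some n ∈ N, then χ is the function induced from some irreducible character of N. -/
theorem result {G : Type*} [Group G] [Fintype G] (N : Subgroup G) [N.Normal] (hC : ∀ n ∈ N, n ≠ 1 → Subgroup.centralizer ({n} : Set G) ≤ N) (χ : G → ℂ) (hχ : Cfsg.IsIrrCharacter G χ) (hker : ∃ n ∈ N, χ n ≠ χ 1) : ∃ φ : N → ℂ, Cfsg.IsIrrCharacter N φ ∧ χ = Cfsg.indFun N φ := by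
  classical
  haveI := Fintype.ofFinite N
  have hN : N.Normal := inferInstance
  obtain ⟨θ, hθ1, hθ⟩ : ∃ θ : Cfsg.IrrCharacter N, (θ : N → ℂ) ≠ (fun _ => 1) ∧
      Cfsg.classInner (fun n : N => χ n) (θ : N → ℂ) ≠ 0 := by
    by_contra hc
    push Not at hc
    obtain ⟨n, hn, hne⟩ := hker
    have hcl := CfsgLib.Characters.isClassFunction_of_isCharacter
      (CfsgLib.Characters.isCharacter_of_irr hχ)
    apply hne
    have key : ∀ k : N, χ k = Cfsg.classInner (fun n : N => χ n) (fun _ : N => (1 : ℂ)) := by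
      intro k
      rw [CfsgLib.NormalRes.res_eq_sum N hcl k,
        Finset.sum_eq_single (CfsgLib.Characters.principalIrr N)]
      · show Cfsg.classInner (fun n : N => χ n) (fun _ : N => (1 : ℂ)) * 1 = _
        rw [mul_one]
      · intro φ _ hφ
        show Cfsg.classInner (fun n : N => χ n) (φ : N → ℂ) * _ = 0
        rw [hc φ (fun e => hφ (Subtype.ext e)), zero_mul]
      · intro hh; exact absurd (Finset.mem_univ _) hh
    rw [key ⟨n, hn⟩, ← key 1]
    rfl
  have hT : CfsgLib.Clifford.inertia hN (θ : N → ℂ) = N := by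
    refine le_antisymm (fun x hx => ?_) (CfsgLib.Clifford.le_inertia hN
      (CfsgLib.Characters.irr_isClassFunction θ))
    have hfix := CfsgLib.Clifford.mem_inertia.mp hx
    obtain ⟨h, hh, hconj⟩ := (CfsgLib.OddChar.exists_fixed_irr_iff N x).mp
      ⟨θ, θ.2, hθ1, funext hfix⟩
    obtain ⟨u, hu⟩ := isConj_iff.mp hconj
    have hu' : (u : G) * (x * h * x⁻¹) * (u : G)⁻¹ = h := congrArg Subtype.val hu
    have hm : (u : G) * x ∈ Subgroup.centralizer ({(h : G)} : Set G) := by
      rw [Subgroup.mem_centralizer_singleton_iff]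
      conv_rhs => rw [← hu']
      group
    have := N.mul_mem (N.inv_mem u.2) (hC h h.2 (fun e => hh (Subtype.ext e)) hm)
    rwa [inv_mul_cancel_left] at this
  obtain ⟨ψ, hψ, he, -⟩ := CfsgLib.Clifford.correspondence hN θ.2 N hT.symm le_rfl hχ hθ
  exact ⟨ψ, hψ, he.symm⟩

end Cfsg.Agent.S1528
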