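import Cfsg.Statements.S1529
import Cfsg.Agent.Lib.OddChar.Signed
import Cfsg.Agent.Lib.OddChar.Isometry

set_option autoImplicit false
open Cfsg

namespace Cfsg.Agent.S1529

/-- Let N be a subgroup of the finite group G, S a set of irreducible characters of N with at least two members, and τ₁ a linear isometry on the integer combinations of S with virtual-character values such that τ₁ α vanishes at 1 whenever α ∈ ℤ[S] does. Then there is ε ∈ {1, −1} such that ε • τ₁ χ is an irreducible character of G for every χ ∈ S, and distinct members of S give distinct characters. -/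
theorem result {G : Type*} [Group G] [Fintype G] (N : Subgroup G) [Fintype N] (S : Set (N → ℂ)) (hirr : ∀ χ ∈ S, Cfsg.IsIrrCharacter N χ) (htwo : ∃ χ ∈ S, ∃ ψ ∈ S, χ ≠ ψ) (τ₁ : (N → ℂ) → (G → ℂ)) (hτ₁ : Cfsg.IsLinearIsometryOn (Cfsg.zspan S) τ₁) (h0 : ∀ α ∈ Cfsg.zspan S, α 1 = 0 → τ₁ α 1 = 0) : ∃ ε : ℂ, (ε = 1 ∨ ε = -1) ∧ (∀ χ ∈ S, Cfsg.IsIrrCharacter G (ε • τ₁ χ)) ∧ (∀ χ ∈ S, ∀ ψ ∈ S, τ₁ χ = τ₁ ψ → χ = ψ) := by
  classical
  have hz : ∀ χ ∈ S, χ ∈ Cfsg.zspan S := fun χ h => CfsgLib.OddChar.zspan_of_mem h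
  have hsg : ∀ χ ∈ S, CfsgLib.OddChar.IsSigned (τ₁ χ) := fun χ h =>
    CfsgLib.OddChar.isSigned_of_norm_one (hτ₁.2.2.2 χ (hz χ h)) (by
      rw [hτ₁.2.2.1 χ (hz χ h) χ (hz χ h), CfsgLib.Characters.classInner_irr_self (hirr χ h)])
  have hinj : ∀ χ ∈ S, ∀ ψ ∈ S, τ₁ χ = τ₁ ψ → χ = ψ := by
    intro χ hχ ψ hψ e
    by_contra hne
    have h := hτ₁.2.2.1 χ (hz χ hχ) ψ (hz ψ hψ)
    rw [e, (hsg ψ hψ).norm_one, CfsgLib.Characters.classInner_irr_ne (hirr χ hχ) (hirr ψ hψ) hne] at h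
    exact one_ne_zero h
  obtain ⟨χ₀, hχ₀, -⟩ := htwo
  obtain ⟨θ, ε, hε, hθ⟩ := (hsg χ₀ hχ₀).exists_irr
  refine ⟨ε, hε, fun χ hχ => ?_, hinj⟩
  obtain ⟨η, δ, hδ, hη⟩ := (hsg χ hχ).exists_irr
  obtain ⟨a, ha, ha'⟩ := CfsgLib.Characters.irr_exists_degree (hirr χ hχ)
  obtain ⟨b, hb, hb'⟩ := CfsgLib.Characters.irr_exists_degree (hirr χ₀ hχ₀)
  obtain ⟨c, hc, hc'⟩ := CfsgLib.Characters.irr_exists_degree η.2
  obtain ⟨e, he, he'⟩ := CfsgLib.Characters.irr_exists_degree θ.2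
  have hm : (b : ℤ) • χ - (a : ℤ) • χ₀ ∈ Cfsg.zspan S := CfsgLib.OddChar.zspan_sub
    (CfsgLib.OddChar.zspan_zsmul _ (hz χ hχ)) (CfsgLib.OddChar.zspan_zsmul _ (hz χ₀ hχ₀))
  have hd := h0 _ hm (by simp [ha', hb']; ring)
  rw [CfsgLib.OddChar.isometry_sub hτ₁ (CfsgLib.OddChar.zspan_zsmul _ (hz χ hχ))
    (CfsgLib.OddChar.zspan_zsmul _ (hz χ₀ hχ₀)) hm, hτ₁.2.1 _ (hz χ hχ), hτ₁.2.1 _ (hz χ₀ hχ₀),
    hη, hθ] at hd
  simp only [Pi.sub_apply, Pi.mul_apply, Pi.intCast_apply, Int.cast_natCast, Pi.smul_apply, smul_eq_mul, zsmul_eq_mul, hc', he'] at hd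
  have he1 : δ = ε := by
    rcases hδ with rfl | rfl <;> rcases hε with rfl | rfl <;> try rfl
    all_goals
      exfalso
      have : ((b * c + a * e : ℕ) : ℂ) = 0 := by
        push_cast at hd ⊢
        first
          | linear_combination hd
          | linear_combination -hd
      have h' : b * c + a * e = 0 := by exact_mod_cast this
      have := Nat.mul_pos hb hc
      omega
  rw [hη, he1, smul_smul]
  rcases hε with rfl | rfl <;> simpa using η.2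

end Cfsg.Agent.S1529
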