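import Cfsg.Statements.S1532
import Cfsg.Agent.Lib.OddChar.CentralSet
import Cfsg.Agent.Lib.Frobenius.Basic

set_option autoImplicit false
open Cfsg

namespace Cfsg.Agent.S1532

/-- Let G be a finite group, p an odd prime and P a Sylow p-subgroup that is non-abelian, whose underlying set is a TI-subset of G, with P properly contained in its set normaliser N and C_G(x) ≤ P for every non-identity x ∈ P. Let Z be a nontrivial subgroup of the centre of P normalised by N. Then the set of irreducible characters χ of N with χ z ≠ χ 1 for some z ∈ Z is coherent for the map induced by induction from N to G. -/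
theorem result {G : Type*} [Group G] [Fintype G] (p : ℕ) [Fact p.Prime] (hp : p ≠ 2) (P : Sylow p G) (hna : ¬ IsMulCommutative (P : Subgroup G)) (hTI : Cfsg.IsTISubset ((P : Subgroup G) : Set G)) (hlt : (P : Subgroup G) < Subgroup.normalizer ((P : Subgroup G) : Set G)) (hC : ∀ k ∈ (P : Subgroup G), k ≠ 1 → Subgroup.centralizer ({k} : Set G) ≤ (P : Subgroup G)) [Fintype ↥(Subgroup.normalizer ((P : Subgroup G) : Set G))] (Z : Subgroup G) (hZ1 : Z ≠ ⊥) (hZP : ∀ z ∈ Z, z ∈ (P : Subgroup G) ∧ ∀ y ∈ (P : Subgroup G), z * y = y * z) (hZn : ∀ x ∈ Subgroup.normalizer ((P : Subgroup G) : Set G), ∀ z ∈ Z, x * z * x⁻¹ ∈ Z) : Cfsg.IsCoherent {χ : ↥(Subgroup.normalizer ((P : Subgroup G) : Set G)) → ℂ | Cfsg.IsIrrCharacter ↥(Subgroup.normalizer ((P : Subgroup G) : Set G)) χ ∧ ∃ z : ↥(Subgroup.normalizer ((P : Subgroup G) : Set G)), (z : G) ∈ Z ∧ χ z ≠ χ 1} {1}ᶜ (fun α => Cfsg.indFun (Subgroup.normalizer ((P : Subgroup G) : Set G)) α) := by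
  classical
  have hp3 : 3 ≤ p := by
    have := (Fact.out : p.Prime).two_le
    omega
  have hPN : (P : Subgroup G) ≤ Subgroup.normalizer ((P : Subgroup G) : Set G) := Subgroup.le_normalizer
  set N := Subgroup.normalizer ((P : Subgroup G) : Set G) with hN
  set K : Subgroup N := (P : Subgroup G).subgroupOf N with hKdef
  set Z' : Subgroup N := Z.subgroupOf N with hZ'
  have hZP' : Z ≤ (P : Subgroup G) := fun z hz => (hZP z hz).1
  haveI hK : K.Normal := Subgroup.normal_subgroupOf_iff hPN |>.mpr fun a g ha hg =>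
    (Subgroup.mem_normalizer_iff.mp hg a).mp ha
  haveI : Z'.Normal := ⟨fun z hz x => by
    rw [hZ', Subgroup.mem_subgroupOf] at hz ⊢
    exact hZn x x.2 z hz⟩
  haveI : Fintype K := Fintype.ofFinite K
  have hfree : ∀ k ∈ K, k ≠ 1 → Subgroup.centralizer ({k} : Set N) ≤ K := by
    intro k hk hk1 x hx
    rw [hKdef, Subgroup.mem_subgroupOf]
    refine hC k hk (fun e => hk1 (Subtype.ext e)) (Subgroup.mem_centralizer_singleton_iff.mpr ?_)
    exact congrArg Subtype.val (Subgroup.mem_centralizer_singleton_iff.mp hx)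
  have hirr : ∀ θ ∈ CfsgLib.OddChar.thetaOff K Z', Cfsg.IsIrrCharacter N (Cfsg.indFun K (θ : K → ℂ)) :=
    fun θ hθ => CfsgLib.OddChar.indFun_irr_of_free hK hfree θ.2 (CfsgLib.OddChar.thetaOff_ne_one hθ)
  have hZK : Z' ≤ K := fun z hz => hZP' hz
  have hZ'1 : Z' ≠ ⊥ := fun e => hZ1 (by
    rw [← Subgroup.map_subgroupOf_eq_of_le (hZP'.trans hPN), ← hZ', e, Subgroup.map_bot])
  have hZc : ∀ z ∈ Z', ∀ k ∈ K, z * k = k * z := fun z hz k hk =>
    Subtype.ext ((hZP _ hz).2 _ hk)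
  have hpK : IsPGroup p K := P.isPGroup'.comap_subtype
  have hcop : (Nat.card K).Coprime K.index :=
    CfsgLib.Frobenius.coprime_card_index_of_centralizer_le K hfree
  have hKne : K ≠ ⊥ := fun e => hZ'1 (le_bot_iff.mp (e ▸ hZK))
  obtain ⟨n, hn⟩ := hpK.exists_card_eq
  have hn0 : n ≠ 0 := by
    rintro rfl
    exact hKne (Subgroup.card_eq_one.mp (hn.trans (pow_zero p)))
  have hpe : ¬ p ∣ K.index := fun h => (Fact.out : p.Prime).not_dvd_one
    (hcop ▸ Nat.dvd_gcd (hn ▸ dvd_pow_self p hn0) h)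
  have hset : ({χ : N → ℂ | Cfsg.IsIrrCharacter N χ ∧ ∃ z : N, (z : G) ∈ Z ∧ χ z ≠ χ 1}) =
      ↑(CfsgLib.OddChar.offFinset K Z') :=
    (CfsgLib.OddChar.offFinset_eq_irr hK Z' hZK hirr).symm
  rw [hset]
  have hgen : ∀ χ ∈ (↑(CfsgLib.OddChar.offFinset K Z') : Set (N → ℂ)),
      Cfsg.IsIrrCharacter N χ ∧ ∀ x : N, (x : G) ∉ (P : Subgroup G) → χ x = 0 := by
    intro χ hχ
    obtain ⟨θ, hθ, rfl⟩ := Finset.mem_image.mp hχ
    exact ⟨hirr θ hθ, fun x hx => CfsgLib.Induction.indFun_normal_eq_zero K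
      (fun h => hx (Subgroup.mem_subgroupOf.mp h))⟩
  obtain ⟨hiso, hone⟩ := CfsgLib.OddChar.indFun_ti_isometry (P : Subgroup G) hTI _
    (fun χ hχ => CfsgLib.Characters.isGeneralizedCharacter_irr ⟨χ, (hgen χ hχ).1⟩)
    (fun χ hχ => (hgen χ hχ).2)
  suffices h2 : 2 ≤ (CfsgLib.OddChar.offFinset K Z').card by
    convert CfsgLib.OddChar.offFinset_coherent hK Z' hZK hZc Fact.out hp3 hpK hpe hirr
      ⟨fun χ hχ => (hgen χ hχ).1, hiso, hone⟩ h2
  by_contra h2
  have hev := CfsgLib.OddChar.even_of_offFinset_small hK Z' hZK hZ'1 hZc Fact.out hp3 hpK hirr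
    (not_le.mp h2)
  have hodd : ¬ 2 ∣ Nat.card K := fun h => by
    rw [hn] at h
    exact hp ((Nat.prime_dvd_prime_iff_eq Nat.prime_two Fact.out).mp
      (Nat.prime_two.dvd_of_dvd_pow h)).symm
  haveI := CfsgLib.OddChar.commute_all_of_fpf_involution hK hfree hodd hev
  exact hna ⟨⟨fun a b => Subtype.ext (congrArg (fun c : K => ((c : N) : G))
    (IsMulCommutative.is_comm.comm (⟨⟨a, hPN a.2⟩, a.2⟩ : K) ⟨⟨b, hPN b.2⟩, b.2⟩))⟩⟩

end Cfsg.Agent.S1532
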