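import Cfsg.Statements.S1533
import Cfsg.Agent.Lib.OddChar.FeitSibley

set_option autoImplicit false
open Cfsg

namespace Cfsg.Agent.S1533

/-- Let G be a finite group, p an odd prime, and P a nontrivial Sylow p-subgroup whose underlying set is a TI-subset of G, with P properly contained in its set normaliser N and C_G(x) ≤ P for every non-identity x ∈ P. Let S be the set of irreducible characters χ of N with χ x ≠ χ 1 for some x ∈ P. Then either S has exactly one member, P is elementary abelian and Nat.card P = [N:P] + 1; or (S, N minus 1, induction to G) is coherent. -/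
theorem result {G : Type*} [Group G] [Fintype G] (p : ℕ) [Fact p.Prime] (hp : p ≠ 2) (P : Sylow p G) (hP1 : (P : Subgroup G) ≠ ⊥) (hTI : Cfsg.IsTISubset ((P : Subgroup G) : Set G)) (hlt : (P : Subgroup G) < Subgroup.normalizer ((P : Subgroup G) : Set G)) (hC : ∀ k ∈ (P : Subgroup G), k ≠ 1 → Subgroup.centralizer ({k} : Set G) ≤ (P : Subgroup G)) [Fintype ↥(Subgroup.normalizer ((P : Subgroup G) : Set G))] : (Nat.card {χ : ↥(Subgroup.normalizer ((P : Subgroup G) : Set G)) → ℂ // Cfsg.IsIrrCharacter ↥(Subgroup.normalizer ((P : Subgroup G) : Set G)) χ ∧ ∃ x : ↥(Subgroup.normalizer ((P : Subgroup G) : Set G)), (x : G) ∈ (P : Subgroup G) ∧ χ x ≠ χ 1} = 1 ∧ Cfsg.IsElementaryAbelian p (P : Subgroup G) ∧ Nat.card (P : Subgroup G) = ((P : Subgroup G).subgroupOf (Subgroup.normalizer ((P : Subgroup G) : Set G))).index + 1) ∨ Cfsg.IsCoherent {χ : ↥(Subgroup.normalizer ((P : Subgroup G) : Set G)) → ℂ | Cfsg.IsIrrCharacter ↥(Subgroup.normalizer ((P : Subgroup G) :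 Set G)) χ ∧ ∃ x : ↥(Subgroup.normalizer ((P : Subgroup G) : Set G)), (x : G) ∈ (P : Subgroup G) ∧ χ x ≠ χ 1} {1}ᶜ (fun α => Cfsg.indFun (Subgroup.normalizer ((P : Subgroup G) : Set G)) α) := by
  rcases CfsgLib.OddChar.feit_sibley (P : Subgroup G) hP1 hTI hlt hC with ⟨h1, he, q, hq, hel⟩ | ⟨h2, -⟩ | h
  · refine Or.inl ⟨h1, ?_, he⟩
    obtain ⟨n, hn⟩ := P.isPGroup'.exists_card_eq
    have hn0 : n ≠ 0 := fun e => hP1 (Subgroup.card_eq_one.mp (by rw [hn, e, pow_zero]))
    obtain ⟨x, hx⟩ := exists_prime_orderOf_dvd_card' (G := (P : Subgroup G)) p (hn ▸ dvd_pow_self p hn0)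
    have hqp : q = p := by
      have hd : orderOf x ∣ q := orderOf_dvd_of_pow_eq_one (Subtype.ext (hel.2 x x.2))
      rw [hx] at hd
      exact ((Nat.prime_dvd_prime_iff_eq Fact.out hq).mp hd).symm
    exact hqp ▸ hel
  · exfalso
    obtain ⟨n, hn⟩ := P.isPGroup'.exists_card_eq
    have hn0 : n ≠ 0 := fun e => hP1 (Subgroup.card_eq_one.mp (by rw [hn, e, pow_zero]))
    have hd : p ∣ 2 ^ (Nat.card G).factorization 2 := h2 ▸ hn ▸ dvd_pow_self p hn0
    exact hp ((Nat.prime_dvd_prime_iff_eq Fact.out Nat.prime_two).mp ((Fact.out : p.Prime).dvd_of_dvd_pow hd))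
  · exact Or.inr h

end Cfsg.Agent.S1533
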