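import Cfsg.Statements.S1536
import Cfsg.Agent.Lib.OddChar.FixedIrr
import Cfsg.Agent.Lib.OddChar.CoprimeCoset

set_option autoImplicit false
open Cfsg

namespace Cfsg.Agent.S1536

/-- Let H be a normal subgroup of the finite group M whose order is coprime to its index. For x ∈ M: some non-principal irreducible character of H is unchanged under h ↦ θ(x h x⁻¹) if and only if some non-identity element of H commutes with x. -/
theorem result {M : Type*} [Group M] [Finite M] (H : Subgroup M) [hN : H.Normal] (hHall : Nat.Coprime (Nat.card H) H.index) (x : M) : (∃ θ : H → ℂ, Cfsg.IsIrrCharacter H θ ∧ θ ≠ (fun _ => 1) ∧ (fun h : H => θ ⟨x * h * x⁻¹, hN.conj_mem h h.2 x⟩) = θ) ↔ ∃ h ∈ H, h ≠ 1 ∧ x * h = h * x := by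
  classical
  rw [CfsgLib.OddChar.exists_fixed_irr_iff H x]
  constructor
  · rintro ⟨h, hh, hconj⟩
    obtain ⟨u, hu⟩ := isConj_iff.mp hconj
    have hu' : (u : M) * (x * h * x⁻¹) * (u : M)⁻¹ = h := congrArg Subtype.val hu
    set n := Nat.card H
    set m := H.index
    obtain ⟨s, hs1, hs0⟩ := Nat.chineseRemainder hHall 1 0
    obtain ⟨t, ht0, ht1⟩ := Nat.chineseRemainder hHall 0 1
    set a := x ^ s
    set b := x ^ t
    have hnm : orderOf x ∣ n * m := by
      rw [Subgroup.card_mul_index]; exact orderOf_dvd_natCard x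
    have hab : a * b = x := by
      rw [← pow_add]
      conv_rhs => rw [← pow_one x]
      refine pow_eq_pow_iff_modEq.mpr (Nat.ModEq.of_dvd hnm ?_)
      exact (Nat.modEq_and_modEq_iff_modEq_mul hHall).mp
        ⟨by simpa using hs1.add ht0, by simpa using hs0.add ht1⟩
    have haH : a ∈ H := by
      obtain ⟨k, hk⟩ := Nat.modEq_zero_iff_dvd.mp hs0
      simp only [a, hk, pow_mul]
      exact H.pow_mem (Subgroup.pow_index_mem H x) k
    have hb : Nat.Coprime (orderOf b) (Nat.card H) := by
      refine Nat.Coprime.coprime_dvd_left ?_ hHall.symm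
      obtain ⟨k, hk⟩ := Nat.modEq_zero_iff_dvd.mp ht0
      refine orderOf_dvd_of_pow_eq_one ?_
      show (x ^ t) ^ m = 1
      rw [← pow_mul, hk, mul_comm n k, mul_assoc, mul_comm k, pow_mul,
        orderOf_dvd_iff_pow_eq_one.mp hnm, one_pow]
    have hy : (u : M) * x * b⁻¹ ∈ H := by
      have : (u : M) * x * b⁻¹ = u * a := by rw [← hab]; group
      rw [this]; exact H.mul_mem u.2 haH
    have hcomm : Commute ((u : M) * x) h := by
      show (u : M) * x * h = h * ((u : M) * x)
      conv_rhs => rw [← hu']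
      group
    obtain ⟨k, hk, hbk⟩ := CfsgLib.OddChar.centralizing_coset_meets H b hb hy h.2 hcomm
    have hcab : Commute a b := (Commute.refl x).pow_pow s t
    by_cases ha : a = 1
    · refine ⟨k⁻¹ * h * k, H.mul_mem (H.mul_mem (H.inv_mem hk) h.2) hk, fun e => hh ?_, ?_⟩
      · refine Subtype.ext ?_
        calc (h : M) = k * (k⁻¹ * h * k) * k⁻¹ := by group
          _ = 1 := by rw [e]; group
      · have hbx : b = x := by rw [← hab, ha, one_mul]
        rw [← hbx]; exact hbk.eq
    · exact ⟨a, haH, ha, ((Commute.refl x).pow_right s).eq⟩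
  · rintro ⟨h, hh, h1, hx⟩
    refine ⟨⟨h, hh⟩, fun e => h1 (congrArg Subtype.val e), isConj_iff.mpr ⟨1, Subtype.ext ?_⟩⟩
    simp [hx]

end Cfsg.Agent.S1536
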