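import Cfsg.Statements.S1542
import Cfsg.Agent.Lib.PF.TypeICoherent
import Cfsg.Agent.Lib.PF.Sec8Tame
import Cfsg.Agent.Lib.PCore.Basic

set_option autoImplicit false
open Cfsg

namespace Cfsg.Agent.S1542

open CfsgLib.PF

theorem isCyclic_pPrimeCore_fittingHallOf {G : Type*} [Group G] [Finite G] (L : Subgroup G) (p : ℕ)
    (h : IsCyclic (Cfsg.pPrimeCore p L)) :
    IsCyclic (Cfsg.pPrimeCore p (Cfsg.fittingHallOf L)) := by
  set H := Cfsg.fittingHall L
  let e : H ≃* Cfsg.fittingHallOf L :=
    Subgroup.equivMapOfInjective H L.subtype L.subtype_injective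
  set C : Subgroup H := (Cfsg.pPrimeCore p (Cfsg.fittingHallOf L)).map e.symm.toMonoidHom
  have hC : C.Characteristic := by
    refine Subgroup.characteristic_iff_map_eq.mpr fun φ => ?_
    show ((Cfsg.pPrimeCore p (Cfsg.fittingHallOf L)).map e.symm.toMonoidHom).map φ.toMonoidHom = C
    have h1 := (Subgroup.characteristic_iff_map_eq.mp
      (inferInstance : (Cfsg.pPrimeCore p (Cfsg.fittingHallOf L)).Characteristic)
      ((e.symm.trans φ).trans e))
    conv_rhs => rw [show C = ((Cfsg.pPrimeCore p (Cfsg.fittingHallOf L)).map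
      ((e.symm.trans φ).trans e).toMonoidHom).map e.symm.toMonoidHom by rw [h1]]
    rw [Subgroup.map_map, Subgroup.map_map]
    congr 1
    ext x
    simp
  have hle : C.map H.subtype ≤ Cfsg.pPrimeCore p L := by
    refine CfsgLib.PCore.le_pPrimeCore inferInstance ?_
    rw [Subgroup.card_map_of_injective H.subtype_injective,
      Subgroup.card_map_of_injective e.symm.injective]
    exact CfsgLib.PCore.pPrimeCore_coprime
  let f : ↥(Cfsg.pPrimeCore p (Cfsg.fittingHallOf L)) →* ↥(Cfsg.pPrimeCore p L) :=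
    ((H.subtype.comp e.symm.toMonoidHom).comp
      (Cfsg.pPrimeCore p (Cfsg.fittingHallOf L)).subtype).codRestrict _
      fun x => hle ⟨e.symm x, ⟨x, x.2, rfl⟩, rfl⟩
  exact isCyclic_of_injective f fun a b e' =>
    Subtype.ext (e.symm.injective (H.subtype_injective
      (congrArg (fun z : ↥(Cfsg.pPrimeCore p L) => (z : L)) e')))


/-- Let G be a minimal simple group of odd order and L a maximal subgroup of Type I in which every non-identity element of H = L_F has its centraliser within L inside H. Let S be the set of functions on L induced from non-principal irreducible characters of H. Then every member of S is an irreducible character of L, and (S, L minus 1, τ) is coherent for τ the Dade map relative to A(L), L and a ↦ R(a). -/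
theorem result {G : Type*} [Group G] [Fintype G] (hG : Cfsg.IsMinSimpleOddOrder G) (L : Subgroup G) [Fintype L] (hL : IsCoatom L) (hI : Cfsg.IsOfTypeI L) (hfrob : ∀ x ∈ Cfsg.fittingHallOf L, x ≠ 1 → L ⊓ Subgroup.centralizer ({x} : Set G) ≤ Cfsg.fittingHallOf L) : (∀ χ ∈ Cfsg.inducedIrrAbove (Cfsg.fittingHall L) ⊥, Cfsg.IsIrrCharacter L χ) ∧ Cfsg.IsCoherent (Cfsg.inducedIrrAbove (Cfsg.fittingHall L) ⊥) {1}ᶜ (Cfsg.dadeIsometry (Cfsg.typeA L) L (Cfsg.supportR L)) := by
  have hI' : OfTypeI L := ⟨hI.1, hI.2.imp_right (Or.imp_right fun ⟨h1, p, hp, hpd, hc⟩ =>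
    ⟨h1, p, hp, hpd, isCyclic_pPrimeCore_fittingHallOf L p hc⟩)⟩
  have hD := (propDade hG L (suppA L) hL (Or.inr (Or.inl rfl))).2
  have hA : Cfsg.typeA L = suppA L := by
    rw [Cfsg.typeA, if_pos hI, suppA, if_pos hI']
    rfl
  exact type_one_frobenius_coherent hG L hL hI hfrob (hA ▸ hD)

end Cfsg.Agent.S1542
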