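import Cfsg.Statements.S1546
import Mathlib

set_option autoImplicit false
open Cfsg

namespace Cfsg.Agent.S1546

/-- Let p and q be odd primes and N = (p ^ q − 1) / (p − 1) = 1 + p + ⋯ + p^(q−1). Then N is odd; if p ≡ 1 (mod q) then q ∣ N; and if p is not ≡ 1 (mod q) then N is coprime to p − 1 and every divisor of N is ≡ 1 (mod q). -/
theorem result (p q : ℕ) (hp : p.Prime) (hq : q.Prime) (hp2 : p ≠ 2) (hq2 : q ≠ 2) : Odd ((p ^ q - 1) / (p - 1)) ∧ (p % q = 1 → q ∣ (p ^ q - 1) / (p - 1)) ∧ (p % q ≠ 1 → Nat.Coprime ((p ^ q - 1) / (p - 1)) (p - 1) ∧ ∀ x : ℕ, x ∣ (p ^ q - 1) / (p - 1) → x % q = 1) := by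
  obtain ⟨k, hk⟩ : ∃ k, q = 2 * k + 1 := (hq.eq_two_or_odd'.resolve_left hq2)
  have h2 : 2 ≤ p := hp.two_le
  have hN : ((p ^ q - 1) / (p - 1)) = ∑ i ∈ Finset.range q, p ^ i :=
    (Nat.geomSum_eq h2 q).symm
  rw [hN]
  set N := ∑ i ∈ Finset.range q, p ^ i with hNdef
  have hmul : (p - 1) * N + 1 = p ^ q := by
    obtain ⟨m, rfl⟩ : ∃ m, p = m + 1 := ⟨p - 1, by omega⟩
    rw [Nat.add_sub_cancel, mul_comm]
    exact geom_sum_mul_add m q
  have hpow : ∀ r : ℕ, r ∣ p - 1 → N ≡ q [MOD r] := by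
    intro r hr
    have hp1 : p ≡ 1 [MOD r] := ((Nat.modEq_iff_dvd' (by omega)).mpr hr).symm
    have : N ≡ ∑ _i ∈ Finset.range q, 1 [MOD r] := by
      rw [hNdef]
      refine Nat.ModEq.sum fun i _ => ?_
      simpa using hp1.pow i
    simpa using this
  refine ⟨?_, ?_, ?_⟩
  · have hpo : Odd p := hp.eq_two_or_odd'.resolve_left hp2
    have := hpow 2 (by rcases hpo with ⟨j, hj⟩; exact ⟨j, by omega⟩)
    rw [Nat.odd_iff]
    unfold Nat.ModEq at this
    omega
  · intro h
    have h' : q ∣ p - 1 := (Nat.modEq_iff_dvd' (by omega)).mp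
      (show 1 % q = p % q by rw [h, Nat.mod_eq_of_lt hq.one_lt])
    exact Nat.modEq_zero_iff_dvd.mp ((hpow q h').trans (Nat.modEq_zero_iff_dvd.mpr dvd_rfl))
  · intro h
    have hnd : ¬ q ∣ p - 1 := by
      intro hd
      apply h
      have : 1 % q = p % q := (Nat.modEq_iff_dvd' (by omega)).mpr hd
      rw [← this, Nat.mod_eq_of_lt hq.one_lt]
    have hcop : ∀ r : ℕ, r.Prime → r ∣ N → ¬ r ∣ p - 1 := by
      intro r hr hrN hrp
      have : r ∣ q := Nat.modEq_zero_iff_dvd.mp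
        ((hpow r hrp).symm.trans (Nat.modEq_zero_iff_dvd.mpr hrN))
      rw [Nat.prime_dvd_prime_iff_eq hr hq] at this
      exact hnd (this ▸ hrp)
    refine ⟨Nat.coprime_of_dvd fun r hr h1 h2 => hcop r hr h1 h2, ?_⟩
    intro x hx
    induction x using Nat.recOnMul with
    | zero =>
      exfalso
      have : N = 0 := Nat.eq_zero_of_zero_dvd hx
      rw [this] at hmul
      simp at hmul
      have := Nat.one_lt_pow hq.ne_zero hp.one_lt
      omega
    | one => exact Nat.mod_eq_of_lt hq.one_lt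
    | prime r hr =>
      haveI := Fact.mk hr
      have hne : (p : ZMod r) ≠ 1 := by
        intro he
        apply hcop r hr hx
        rw [← Nat.cast_one, ZMod.natCast_eq_natCast_iff] at he
        exact (Nat.modEq_iff_dvd' (by omega)).mp he.symm
      have hq1 : (p : ZMod r) ^ q = 1 := by
        rw [← Nat.cast_pow, ← hmul, Nat.cast_add, Nat.cast_mul,
          (ZMod.natCast_eq_zero_iff N r).mpr hx, mul_zero, zero_add, Nat.cast_one]
      haveI := Fact.mk hq
      have hne0 : (p : ZMod r) ≠ 0 := by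
        intro h0
        rw [h0, zero_pow hq.ne_zero] at hq1
        exact zero_ne_one hq1
      have hd := ZMod.orderOf_dvd_card_sub_one hne0
      rw [orderOf_eq_prime hq1 hne] at hd
      have : 1 % q = r % q := (Nat.modEq_iff_dvd' hr.one_le).mpr hd
      rw [← this, Nat.mod_eq_of_lt hq.one_lt]
    | mul a b ha hb =>
      rw [Nat.mul_mod, ha (dvd_trans (dvd_mul_right a b) hx),
        hb (dvd_trans (dvd_mul_left b a) hx), one_mul, Nat.mod_eq_of_lt hq.one_lt]

end Cfsg.Agent.S1546
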