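import Cfsg.Statements.S1551
import Cfsg.Agent.Lib.Golay.SextetStructure

set_option autoImplicit false
open scoped Pointwise
open Cfsg

namespace Cfsg.Agent.S1551

open CfsgLib.Golay

/-- Structure of a sextet stabiliser: it induces every permutation of the six tetrads, the subgroup fixing each tetrad setwise has order 192, and there is a normal subgroup of order 64 consisting of elements squaring to the identity. -/
theorem result (S : Finset (Finset Cfsg.GolayPt)) (hS : S ∈ Cfsg.sextets) : (∀ e : Equiv.Perm ↥S, ∃ g ∈ MulAction.stabilizer Cfsg.M24 S, ∀ t : ↥S, (g : Equiv.Perm Cfsg.GolayPt) • (t : Finset Cfsg.GolayPt) = ((e t : ↥S) : Finset Cfsg.GolayPt)) ∧ Nat.card {g : ↥(MulAction.stabilizer Cfsg.M24 S) // ∀ t ∈ S, ((g : Cfsg.M24) : Equiv.Perm Cfsg.GolayPt) • t = t} = 192 ∧ ∃ N : Subgroup ↥(MulAction.stabilizer Cfsg.M24 S), N.Normal ∧ Nat.card N = 64 ∧ ∀ x ∈ N, x * x = 1 := by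
  obtain ⟨c, hc, hcS⟩ := exists_smul_sextet_eq (sextetOfKey_mem baseSextetKey_mem) hS
  have hcS' : (⟨c, hc⟩ : Cfsg.M24) • baseSextet = S := hcS
  have hsur := surjective_permOn_smul baseSextet surjective_permOn_baseSextet hcS'
  refine ⟨fun e => ?_, ?_, ?_⟩
  · obtain ⟨x, hx⟩ := hsur e
    exact ⟨(x : Cfsg.M24), x.2, fun t => congrArg Subtype.val (Equiv.ext_iff.mp hx t)⟩
  · rw [← natCard_tetKernel hS hsur]
    exact Nat.card_congr (Equiv.subtypeEquivRight fun x => (permOn_eq_one_iff S x).symm)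
  · obtain ⟨N, hN, hcard, hsq⟩ := exists_sextet_core
    refine ⟨N.map (stabConj ⟨c, hc⟩ hcS').toMonoidHom, hN.map _ (stabConj ⟨c, hc⟩ hcS').surjective, ?_, ?_⟩
    · rw [Subgroup.card_map_of_injective (stabConj ⟨c, hc⟩ hcS').injective]
      exact hcard
    · rintro _ ⟨x, hx, rfl⟩
      rw [← map_mul, hsq x hx, map_one]

end Cfsg.Agent.S1551
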