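import Cfsg.Statements.S1552
import Cfsg.Agent.Lib.Golay.Maximal

set_option autoImplicit false
open scoped Pointwise
open Cfsg

namespace Cfsg.Agent.S1552

open CfsgLib.Golay

/-- A sextet stabiliser has four orbits on the 1771 sextets, of sizes 1, 90, 240, 1440; and the stabiliser is a maximal proper subgroup. -/
theorem result (S : Finset (Finset Cfsg.GolayPt)) (hS : S ∈ Cfsg.sextets) : ∃ X₁ ∈ Cfsg.sextets, ∃ X₂ ∈ Cfsg.sextets, ∃ X₃ ∈ Cfsg.sextets, (MulAction.orbit ↥(MulAction.stabilizer Cfsg.M24 S) X₁).ncard = 90 ∧ (MulAction.orbit ↥(MulAction.stabilizer Cfsg.M24 S) X₂).ncard = 240 ∧ (MulAction.orbit ↥(MulAction.stabilizer Cfsg.M24 S) X₃).ncard = 1440 ∧ Cfsg.sextets = {S} ∪ MulAction.orbit ↥(MulAction.stabilizer Cfsg.M24 S) X₁ ∪ MulAction.orbit ↥(MulAction.stabilizer Cfsg.M24 S) X₂ ∪ MulAction.orbit ↥(MulAction.stabilizer Cfsg.M24 S) X₃ ∧ IsCoatom (MulAction.stabilizer Cfsg.M24 S) := by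
  obtain ⟨reps, hreps, hsz, hcov⟩ := (sextet_self_orbits hS).cons_one hS (by decide)
  have hlen : reps.length = 3 := by
    have := congrArg List.length hsz
    simpa using this
  match reps, hsz, hlen with
  | [X₁, X₂, X₃], hsz, _ =>
    simp only [List.map_cons, List.map_nil, List.cons.injEq, and_true] at hsz
    refine ⟨X₁, hreps _ (by simp), X₂, hreps _ (by simp), X₃, hreps _ (by simp), hsz.1, hsz.2.1, hsz.2.2, ?_,
      isCoatom_sextet hS⟩
    refine hcov.trans ?_
    ext Y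
    simp [or_assoc]

end Cfsg.Agent.S1552
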