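import Cfsg.Statements.S1557
import Cfsg.Agent.Lib.Golay.Trios

set_option autoImplicit false
open scoped Pointwise
open Cfsg

namespace Cfsg.Agent.S1557

open CfsgLib.Golay
open scoped symmDiff

/-- The complement of the union of two disjoint octads is an octad, and the code has exactly 3795 trios of pairwise disjoint octads. -/
theorem result : (∀ o o' : Finset Cfsg.GolayPt, o ∈ Cfsg.octads → o' ∈ Cfsg.octads → Disjoint o o' → (o ∪ o')ᶜ ∈ Cfsg.octads) ∧ Cfsg.trios.ncard = 3795 := by
  refine ⟨fun o o' ho ho' hd => ?_, ncard_trios⟩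
  rw [mem_octads]
  have hsd : (o ∪ o')ᶜ = Finset.univ ∆ (o ∆ o') := by
    ext p
    have hnot : ¬ (p ∈ o ∧ p ∈ o') := fun h => Finset.disjoint_left.mp hd h.1 h.2
    simp only [Finset.mem_compl, Finset.mem_union, Finset.mem_symmDiff, Finset.mem_univ]
    tauto
  refine ⟨?_, ?_⟩
  · rw [hsd]
    exact mem_supports.mp (symmDiff_mem_supports univ_mem_supports
      (symmDiff_mem_supports (mem_supports_of_mem_octads ho) (mem_supports_of_mem_octads ho')))
  · rw [popc_encS, Finset.card_compl, Finset.card_union_of_disjoint hd, card_golayPt, card_of_mem_octads ho,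
      card_of_mem_octads ho']

end Cfsg.Agent.S1557
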