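import Cfsg.Statements.S1558
import Cfsg.Agent.Lib.Golay.TrioStructure

set_option autoImplicit false
open scoped Pointwise
open Cfsg

namespace Cfsg.Agent.S1558

open CfsgLib.Golay

/-- Structure of a trio stabiliser: every permutation of the three octads is induced, and there is a normal subgroup of order 64 of elements squaring to the identity whose quotient is isomorphic to the product of GL(3, 2) with the symmetric group of degree 3. -/
theorem result (T : Finset (Finset Cfsg.GolayPt)) (hT : T ∈ Cfsg.trios) : (∀ e : Equiv.Perm ↥T, ∃ g ∈ MulAction.stabilizer Cfsg.M24 T, ∀ o : ↥T, (g : Equiv.Perm Cfsg.GolayPt) • (o : Finset Cfsg.GolayPt) = ((e o : ↥T) : Finset Cfsg.GolayPt)) ∧ ∃ (N : Subgroup ↥(MulAction.stabilizer Cfsg.M24 T)) (_ : N.Normal), Nat.card N = 64 ∧ (∀ x ∈ N, x * x = 1) ∧ Nonempty (↥(MulAction.stabilizer Cfsg.M24 T) ⧸ N ≃* GL (Fin 3) (ZMod 2) × Equiv.Perm (Fin 3)) := by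
  obtain ⟨c, hcT⟩ := exists_smul_trio_eq (trioOf_mem baseTrioPos_lt) hT
  have hcT' : c • baseTrio = T := hcT
  refine ⟨fun e => ?_, ?_⟩
  · obtain ⟨x, hx⟩ := surjective_permOn_smul baseTrio surjective_permOn_baseTrio hcT' e
    exact ⟨(x : Cfsg.M24), x.2, fun o => congrArg Subtype.val (Equiv.ext_iff.mp hx o)⟩
  · set φ := stabConj c hcT' with hφ
    set ψ := trioAction.comp φ.symm.toMonoidHom with hψ
    have hsur : Function.Surjective ψ := surjective_trioAction.comp φ.symm.surjective
    refine ⟨ψ.ker, inferInstance, ?_, fun x hx => ?_, ⟨QuotientGroup.quotientKerEquivOfSurjective ψ hsur⟩⟩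
    · rw [← trioKernel_spec.2]
      exact Nat.card_congr (φ.symm.toEquiv.subtypeEquiv fun _ => Iff.rfl)
    · have h := trioKernel_sq (φ.symm x) hx
      rw [← map_mul] at h
      exact φ.symm.injective (h.trans (map_one φ.symm).symm)

end Cfsg.Agent.S1558
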