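import Cfsg.Statements.S1559
import Cfsg.Agent.Lib.Golay.Maximal

set_option autoImplicit false
open scoped Pointwise
open Cfsg

namespace Cfsg.Agent.S1559

open CfsgLib.Golay

/-- A trio stabiliser has five orbits on the 3795 trios, of sizes 1, 42, 56, 1008, 2688; and the stabiliser is a maximal proper subgroup. -/
theorem result (T : Finset (Finset Cfsg.GolayPt)) (hT : T ∈ Cfsg.trios) : ∃ X₁ ∈ Cfsg.trios, ∃ X₂ ∈ Cfsg.trios, ∃ X₃ ∈ Cfsg.trios, ∃ X₄ ∈ Cfsg.trios, (MulAction.orbit ↥(MulAction.stabilizer Cfsg.M24 T) X₁).ncard = 42 ∧ (MulAction.orbit ↥(MulAction.stabilizer Cfsg.M24 T) X₂).ncard = 56 ∧ (MulAction.orbit ↥(MulAction.stabilizer Cfsg.M24 T) X₃).ncard = 1008 ∧ (MulAction.orbit ↥(MulAction.stabilizer Cfsg.M24 T) X₄).ncard = 2688 ∧ Cfsg.trios = {T} ∪ MulAction.orbit ↥(MulAction.stabilizer Cfsg.M24 T) X₁ ∪ MulAction.orbit ↥(MulAction.stabilizer Cfsg.M24 T) X₂ ∪ MulAction.orbit ↥(MulAction.stabilizer Cfsg.M24 T) X₃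 ∪ MulAction.orbit ↥(MulAction.stabilizer Cfsg.M24 T) X₄ ∧ IsCoatom (MulAction.stabilizer Cfsg.M24 T) := by
  obtain ⟨reps, hreps, hsz, hcov⟩ := (trio_self_orbits hT).cons_one hT (by decide)
  have hlen : reps.length = 4 := by
    have := congrArg List.length hsz
    simpa using this
  match reps, hsz, hlen with
  | [X₁, X₂, X₃, X₄], hsz, _ =>
    simp only [List.map_cons, List.map_nil, List.cons.injEq, and_true] at hsz
    refine ⟨X₁, hreps _ (by simp), X₂, hreps _ (by simp), X₃, hreps _ (by simp), X₄, hreps _ (by simp),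
      hsz.1, hsz.2.1, hsz.2.2.1, hsz.2.2.2, ?_, isCoatom_trio hT⟩
    refine hcov.trans ?_
    ext Y
    simp [or_assoc]

end Cfsg.Agent.S1559
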