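import Cfsg.Statements.S1560
import Cfsg.Agent.Lib.Golay.OrbitTableDod

set_option autoImplicit false
open scoped Pointwise
open Cfsg

namespace Cfsg.Agent.S1560

/-- Intersection numbers of dodecads: a dodecad meets every other dodecad in 0, 4, 6 or 8 points, meeting 495 of them in 4 points, 1584 in 6 points and 495 in 8 points. -/
theorem result (d : Finset Cfsg.GolayPt) (hd : d ∈ Cfsg.dodecads) : (∀ d' ∈ Cfsg.dodecads, d' ≠ d → (d ∩ d').card = 0 ∨ (d ∩ d').card = 4 ∨ (d ∩ d').card = 6 ∨ (d ∩ d').card = 8) ∧ {d' : Finset Cfsg.GolayPt | d' ∈ Cfsg.dodecads ∧ (d ∩ d').card = 4}.ncard = 495 ∧ {d' : Finset Cfsg.GolayPt | d' ∈ Cfsg.dodecads ∧ (d ∩ d').card = 6}.ncard = 1584 ∧ {d' : Finset Cfsg.GolayPt | d' ∈ Cfsg.dodecads ∧ (d ∩ d').card = 8}.ncard = 495 := by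
  obtain h := fun {c n : ℕ} (hcn : (c, n) ∈ [(0, 1), (4, 495), (6, 1584), (8, 495), (12, 1)]) =>
    (CfsgLib.Golay.dodecad_classes hd hcn).1
  refine ⟨fun d' hd' hne => ?_, h (by simp), h (by simp), h (by simp)⟩
  rcases CfsgLib.Golay.card_inter_dodecads hd hd' with e | e | e | e | e
  · exact Or.inl e
  · exact Or.inr (Or.inl e)
  · exact Or.inr (Or.inr (Or.inl e))
  · exact Or.inr (Or.inr (Or.inr e))
  · refine absurd ?_ hne
    have hd12 := hd.2
    have hd'12 := hd'.2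
    have h1 : d ∩ d' = d' := Finset.eq_of_subset_of_card_le Finset.inter_subset_right (by omega)
    exact Finset.eq_of_subset_of_card_le (Finset.inter_eq_right.1 h1) (by omega)

end Cfsg.Agent.S1560
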