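import Cfsg.Statements.S1561
import Cfsg.Agent.Lib.Golay.OrbitTableDod

set_option autoImplicit false
open scoped Pointwise
open Cfsg

namespace Cfsg.Agent.S1561

/-- Two dodecads meeting a fixed dodecad in equally many points lie in one orbit of its stabiliser. -/
theorem result (d d' d'' : Finset Cfsg.GolayPt) (hd : d ∈ Cfsg.dodecads) (hd' : d' ∈ Cfsg.dodecads) (hd'' : d'' ∈ Cfsg.dodecads) (h : (d ∩ d').card = (d ∩ d'').card) : ∃ g : Equiv.Perm Cfsg.GolayPt, g ∈ Cfsg.M24 ∧ g • d = d ∧ g • d' = d'' := by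
  obtain ⟨n, hn⟩ : ∃ n, ((d ∩ d').card, n) ∈ [(0, 1), (4, 495), (6, 1584), (8, 495), (12, 1)] := by
    rcases CfsgLib.Golay.card_inter_dodecads hd hd' with e | e | e | e | e <;> rw [e]
    · exact ⟨1, by simp⟩
    · exact ⟨495, by simp⟩
    · exact ⟨1584, by simp⟩
    · exact ⟨495, by simp⟩
    · exact ⟨1, by simp⟩
  obtain ⟨g, h1, h2⟩ := (CfsgLib.Golay.dodecad_classes hd hn).2 d' d'' hd' hd'' rfl h.symm
  exact ⟨g, g.2, h1, h2⟩

end Cfsg.Agent.S1561
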