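import Cfsg.Statements.S1571
import Cfsg.Agent.Lib.Golay.Co0
-- import your own Cfsg.Agent.* helpers here

set_option autoImplicit false
open scoped Pointwise
open Cfsg

namespace Cfsg.Agent.S1571

/-- The stabiliser of the standard cross in the automorphism group of the lattice is the monomial group of the code: each of its elements acts as a signed permutation with permutation part in the code's group and sign set a codeword, and it has order 4096 · 244823040. -/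
theorem result : (∀ g : ↥Cfsg.Co0, (∀ v : ↥Cfsg.leechLattice, (v : Cfsg.GolayPt → ℤ) ∈ Cfsg.stdCross → ((g • v : ↥Cfsg.leechLattice) : Cfsg.GolayPt → ℤ) ∈ Cfsg.stdCross) → ∃ f ∈ Cfsg.golayMonomialMaps, ∀ v : ↥Cfsg.leechLattice, ((g • v : ↥Cfsg.leechLattice) : Cfsg.GolayPt → ℤ) = f (v : Cfsg.GolayPt → ℤ)) ∧ Nat.card {g : ↥Cfsg.Co0 // (∀ v : ↥Cfsg.leechLattice, (v : Cfsg.GolayPt → ℤ) ∈ Cfsg.stdCross → ((g • v : ↥Cfsg.leechLattice) : Cfsg.GolayPt → ℤ) ∈ Cfsg.stdCross)} = 4096 * 244823040 := by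
  have hstd : ∀ v : Cfsg.leechLattice, (v : Cfsg.GolayPt → ℤ) ∈ Cfsg.stdCross ↔ v ∈ CfsgLib.Golay.stdCrossL := by
    intro v
    constructor
    · rintro ⟨i, s, hs | hs, hv⟩ <;> subst hs
      · exact ⟨i, Or.inl (Subtype.ext (by rw [hv, CfsgLib.Golay.coe_latE]))⟩
      · exact ⟨i, Or.inr (Subtype.ext (by rw [hv, AddSubgroup.coe_neg, CfsgLib.Golay.coe_latE, Pi.single_neg]))⟩
    · rintro ⟨j, rfl | rfl⟩
      · exact ⟨j, 8, Or.inl rfl, CfsgLib.Golay.coe_latE j⟩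
      · exact ⟨j, -8, Or.inr rfl, by rw [AddSubgroup.coe_neg, CfsgLib.Golay.coe_latE, Pi.single_neg]⟩
  have hfin : CfsgLib.Golay.stdCrossL.Finite := by
    refine (Set.finite_range (fun p : Cfsg.GolayPt × Bool =>
      if p.2 then CfsgLib.LeechEight.latE p.1 else -CfsgLib.LeechEight.latE p.1)).subset ?_
    rintro y ⟨j, rfl | rfl⟩
    exacts [⟨(j, true), rfl⟩, ⟨(j, false), rfl⟩]
  have hiff : ∀ g : Cfsg.Co0, (∀ v : Cfsg.leechLattice, (v : Cfsg.GolayPt → ℤ) ∈ Cfsg.stdCross →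
      ((g • v : Cfsg.leechLattice) : Cfsg.GolayPt → ℤ) ∈ Cfsg.stdCross) ↔
      g ∈ MulAction.stabilizer Cfsg.Co0 CfsgLib.Golay.stdCrossL := by
    intro g
    rw [MulAction.mem_stabilizer_set' hfin]
    exact ⟨fun h v hv => (hstd _).mp (h v ((hstd _).mpr hv)), fun h v hv => (hstd _).mpr (h ((hstd _).mp hv))⟩
  refine ⟨fun g hg => ?_, ?_⟩
  · obtain ⟨c, σ, rfl⟩ := CfsgLib.Golay.mem_stabilizer_stdCrossL.mp ((hiff g).mp hg)
    refine ⟨Cfsg.signedPerm σ (Cfsg.support₂ c.1), ⟨σ, σ.2, _, ⟨c.1, c.2, rfl⟩, rfl⟩, fun v => funext fun i => ?_⟩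
    rw [mul_smul, CfsgLib.MonsterType.sgnW_apply, CfsgLib.MonsterType.permW_apply]
    by_cases h : c.1 i = 0 <;> simp [Cfsg.signedPerm, Cfsg.support₂, h]
  · rw [Nat.card_congr (Equiv.subtypeEquivRight hiff)]
    exact CfsgLib.Golay.natCard_stabilizer_stdCrossL

end Cfsg.Agent.S1571
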