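import Cfsg.Statements.S1572
import Cfsg.Agent.Lib.Golay.CrossMaximal
-- import your own Cfsg.Agent.* helpers here

set_option autoImplicit false
open scoped Pointwise
open Cfsg

namespace Cfsg.Agent.S1572

/-- The stabiliser of the standard cross is a maximal proper subgroup of the lattice's automorphism group. -/
theorem result (H : Subgroup ↥Cfsg.Co0) (hH : (H : Set ↥Cfsg.Co0) = {g : ↥Cfsg.Co0 | (∀ v : ↥Cfsg.leechLattice, (v : Cfsg.GolayPt → ℤ) ∈ Cfsg.stdCross → ((g • v : ↥Cfsg.leechLattice) : Cfsg.GolayPt → ℤ) ∈ Cfsg.stdCross)}) : IsCoatom H := by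
  
  have hfin : CfsgLib.Golay.stdCrossL.Finite := by
    refine (Set.finite_range (fun p : Cfsg.GolayPt × Bool =>
      if p.2 then CfsgLib.LeechEight.latE p.1 else -CfsgLib.LeechEight.latE p.1)).subset ?_
    rintro y ⟨j, rfl | rfl⟩
    exacts [⟨(j, true), rfl⟩, ⟨(j, false), rfl⟩]
  have hstd : ∀ v : Cfsg.leechLattice, (v : Cfsg.GolayPt → ℤ) ∈ Cfsg.stdCross ↔ v ∈ CfsgLib.Golay.stdCrossL := by
    intro v
    constructor
    · rintro ⟨i, s, hs | hs, hv⟩ <;> subst hs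
      · exact ⟨i, Or.inl (Subtype.ext (by rw [hv, CfsgLib.Golay.coe_latE]))⟩
      · exact ⟨i, Or.inr (Subtype.ext (by rw [hv, AddSubgroup.coe_neg, CfsgLib.Golay.coe_latE, Pi.single_neg]))⟩
    · rintro ⟨j, rfl | rfl⟩
      · exact ⟨j, 8, Or.inl rfl, CfsgLib.Golay.coe_latE j⟩
      · exact ⟨j, -8, Or.inr rfl, by rw [AddSubgroup.coe_neg, CfsgLib.Golay.coe_latE, Pi.single_neg]⟩
  have e : H = MulAction.stabilizer Cfsg.Co0 CfsgLib.Golay.stdCrossL := by
    ext g
    rw [← SetLike.mem_coe, hH, Set.mem_ofPred_eq, MulAction.mem_stabilizer_set' hfin]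
    exact ⟨fun h v hv => (hstd _).mp (h v ((hstd _).mpr hv)), fun h v hv => (hstd _).mpr (h ((hstd _).mp hv))⟩
  rw [e]
  exact CfsgLib.Golay.isCoatom_stdCross

end Cfsg.Agent.S1572
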