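import Cfsg.Statements.S1574
import Cfsg.Agent.Lib.Golay.LeechOrbit.CertC
import Cfsg.Agent.Lib.Golay.LeechOrbit.Transfer

set_option autoImplicit false
open Cfsg CfsgLib.Golay CfsgLib.Golay.LeechOrbit CfsgLib.MonsterType CfsgLib.Sporadic

namespace Cfsg.Agent.S1574

/-- The stabiliser of a minimal vector is transitive on the minimal vectors of customary inner product −2 with it. -/
theorem result (v w w' : ↥Cfsg.leechLattice) (hv : Cfsg.sqNorm (v : Cfsg.GolayPt → ℤ) = 32) (hw : Cfsg.sqNorm (w : Cfsg.GolayPt → ℤ) = 32) (hw' : Cfsg.sqNorm (w' : Cfsg.GolayPt → ℤ) = 32) (hd : Cfsg.dotInt (v : Cfsg.GolayPt → ℤ) (w : Cfsg.GolayPt → ℤ) = -16) (hd' : Cfsg.dotInt (v : Cfsg.GolayPt → ℤ) (w' : Cfsg.GolayPt → ℤ) = -16) : ∃ g : ↥Cfsg.Co0, g • v = v ∧ g • w = w' := by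
  obtain ⟨α, hα⟩ := exists_smul_eq_leechU hv
  have key : ∀ z : leechLattice, sqNorm (z : GolayPt → ℤ) = 32 →
      dotInt (v : GolayPt → ℤ) (z : GolayPt → ℤ) = -16 → ∃ γ : Co0, γ • v = Spor.leechU ∧ γ • z = root4600 := by
    intro z hz hdz
    have hm : α • z ∈ consSet cs4600 := by
      refine ⟨by rw [sqNorm_smul_lat, hz], fun c hc => ?_⟩
      simp only [cs4600, List.mem_singleton] at hc
      subst hc
      rw [← hα, dot_smul_lat, hdz]
    obtain ⟨δ, hδ, e⟩ := spec4600.exists_smul hm spec4600.root_mem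
    refine ⟨δ * α, ?_, by rw [mul_smul, e]⟩
    rw [mul_smul, hα]
    exact hδ (Spor.leechU, -16) (by simp [cs4600])
  obtain ⟨a, ha1, ha2⟩ := key w hw hd
  obtain ⟨b, hb1, hb2⟩ := key w' hw' hd'
  exact ⟨b⁻¹ * a, by rw [mul_smul, ha1, inv_smul_eq_iff, hb1], by rw [mul_smul, ha2, inv_smul_eq_iff, hb2]⟩

end Cfsg.Agent.S1574
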