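import Cfsg.Statements.S1575
import Cfsg.Agent.Lib.Golay.LeechOrbit.Normal

set_option autoImplicit false
open Cfsg CfsgLib.Golay CfsgLib.Golay.LeechOrbit CfsgLib.MonsterType CfsgLib.Sporadic

namespace Cfsg.Agent.S1575

/-- The stabiliser of a minimal vector is transitive on the minimal vectors of customary inner product −1 with it. -/
theorem result (v w w' : ↥Cfsg.leechLattice) (hv : Cfsg.sqNorm (v : Cfsg.GolayPt → ℤ) = 32) (hw : Cfsg.sqNorm (w : Cfsg.GolayPt → ℤ) = 32) (hw' : Cfsg.sqNorm (w' : Cfsg.GolayPt → ℤ) = 32) (hd : Cfsg.dotInt (v : Cfsg.GolayPt → ℤ) (w : Cfsg.GolayPt → ℤ) = -8) (hd' : Cfsg.dotInt (v : Cfsg.GolayPt → ℤ) (w' : Cfsg.GolayPt → ℤ) = -8) : ∃ g : ↥Cfsg.Co0, g • v = v ∧ g • w = w' := by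
  have key : ∀ z : leechLattice, sqNorm (z : GolayPt → ℤ) = 32 →
      dotInt (v : GolayPt → ℤ) (z : GolayPt → ℤ) = -8 →
      ∃ γ : Co0, γ • (v + z) = Spor.leechV ∧ γ • v = negU := by
    intro z hz hdz
    refine exists_normal_552 ?_ hv ?_
    · rw [AddSubgroup.coe_add, add_norm hv hz hdz]; norm_num
    · rw [AddSubgroup.coe_add, dot_add_left, dot_self, hv, dot_symm, hdz]; norm_num
  obtain ⟨a, ha1, ha2⟩ := key w hw hd
  obtain ⟨b, hb1, hb2⟩ := key w' hw' hd'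
  have hg : (b⁻¹ * a) • v = v := by rw [mul_smul, ha2, inv_smul_eq_iff, hb2]
  refine ⟨b⁻¹ * a, hg, ?_⟩
  have h : (b⁻¹ * a) • (v + w) = v + w' := by rw [mul_smul, ha1, inv_smul_eq_iff, hb1]
  rwa [smul_add', hg, add_right_inj] at h

end Cfsg.Agent.S1575
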