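import Cfsg.Statements.S1577
import Cfsg.Agent.Lib.Sporadic.ConwayPsu62.Iso
import Cfsg.Agent.Lib.Sporadic.ConwayPairOrders

set_option autoImplicit false
open Cfsg CfsgLib.Golay CfsgLib.Golay.LeechOrbit CfsgLib.MonsterType CfsgLib.Sporadic

namespace Cfsg.Agent.S1577

/-- The joint stabiliser of two minimal vectors of customary inner product −2 is isomorphic to PSU(6, 2). -/
theorem result (v w : ↥Cfsg.leechLattice) (hv : Cfsg.sqNorm (v : Cfsg.GolayPt → ℤ) = 32) (hw : Cfsg.sqNorm (w : Cfsg.GolayPt → ℤ) = 32) (hd : Cfsg.dotInt (v : Cfsg.GolayPt → ℤ) (w : Cfsg.GolayPt → ℤ) = -16) (F : Type) [Field F] [Fintype F] (hF : Fintype.card F = 4) : Nonempty (↥(MulAction.stabilizer ↥Cfsg.Co0 v ⊓ MulAction.stabilizer ↥Cfsg.Co0 w) ≃* Cfsg.PSU 6 F 2) := by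
  have hF' : Fintype.card F = 2 ^ 2 := hF
  obtain ⟨ω, -, -, hω⟩ := CfsgLib.ThreeTrans.USix.exists_omega hF'
  obtain ⟨e⟩ := ConwayPsu62.iso_G0 hF' hω
  obtain ⟨α, hα⟩ := exists_smul_eq_leechU hv
  have hm : α • w ∈ consSet cs4600 := by
    refine ⟨by rw [sqNorm_smul_lat, hw], fun c hc => ?_⟩
    simp only [cs4600, List.mem_singleton] at hc
    subst hc
    rw [← hα, dot_smul_lat, hd]
  obtain ⟨δ, hδ, hδw⟩ := spec4600.exists_smul hm ConwayPsu62.pairVec_mem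
  obtain ⟨f⟩ := ConwayPairOrders.stab_equiv (δ * α) v w
  rw [mul_smul, mul_smul, hα, hδw, hδ (Spor.leechU, -16) (by simp [cs4600])] at f
  exact ⟨f.trans e⟩

end Cfsg.Agent.S1577
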