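import Cfsg.Statements.S1578
import Cfsg.Agent.Lib.Golay.LeechOrbit.Normal

set_option autoImplicit false
open Cfsg CfsgLib.Golay CfsgLib.Golay.LeechOrbit CfsgLib.MonsterType CfsgLib.Sporadic

namespace Cfsg.Agent.S1578

/-- A lattice vector of customary norm 6 is the sum of an unordered pair of minimal vectors in exactly 276 ways (552 ordered summands). -/
theorem result (u : ↥Cfsg.leechLattice) (hu : Cfsg.sqNorm (u : Cfsg.GolayPt → ℤ) = 48) : {v : ↥Cfsg.leechLattice | Cfsg.sqNorm (v : Cfsg.GolayPt → ℤ) = 32 ∧ Cfsg.sqNorm ((u - v) : Cfsg.GolayPt → ℤ) = 32}.ncard = 552 := by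
  obtain ⟨α, hα⟩ := exists_smul_eq_leechV hu
  have h := spec552.transfer α (cs := [(u, 24)]) (by simp [mapC, cs552, hα])
  rw [← h.ncard]
  congr 1
  ext v
  rw [mem_cons1, Set.mem_ofPred_eq]
  refine and_congr_right fun hv => ⟨fun h' => ?_, fun h' => sub_norm_of_dot hu hv h'⟩
  have := dot_of_sub_norm hu hv h'
  omega

end Cfsg.Agent.S1578
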