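import Cfsg.Statements.S1579
import Cfsg.Agent.Lib.Golay.LeechOrbit.Normal

set_option autoImplicit false
open Cfsg CfsgLib.Golay CfsgLib.Golay.LeechOrbit CfsgLib.MonsterType CfsgLib.Sporadic

namespace Cfsg.Agent.S1579

/-- The stabiliser of a vector of customary norm 6 is transitive on the 552 minimal vectors that complete it to a sum of two minimal vectors. -/
theorem result (u v v' : ↥Cfsg.leechLattice) (hu : Cfsg.sqNorm (u : Cfsg.GolayPt → ℤ) = 48) (hv : Cfsg.sqNorm (v : Cfsg.GolayPt → ℤ) = 32 ∧ Cfsg.sqNorm ((u - v) : Cfsg.GolayPt → ℤ) = 32) (hv' : Cfsg.sqNorm (v' : Cfsg.GolayPt → ℤ) = 32 ∧ Cfsg.sqNorm ((u - v') : Cfsg.GolayPt → ℤ) = 32) : ∃ g : ↥Cfsg.Co0, g • u = u ∧ g • v = v' := by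
  obtain ⟨hv1, hv2⟩ := hv
  obtain ⟨hv1', hv2'⟩ := hv'
  obtain ⟨a, ha1, ha2⟩ := exists_normal_552 hu hv1 (by have := dot_of_sub_norm hu hv1 hv2; omega)
  obtain ⟨b, hb1, hb2⟩ := exists_normal_552 hu hv1' (by have := dot_of_sub_norm hu hv1' hv2'; omega)
  exact ⟨b⁻¹ * a, by rw [mul_smul, ha1, inv_smul_eq_iff, hb1], by rw [mul_smul, ha2, inv_smul_eq_iff, hb2]⟩

end Cfsg.Agent.S1579
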