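import Cfsg.Statements.S1580
import Cfsg.Agent.Lib.Golay.LeechOrbit.Normal
import Cfsg.Agent.Lib.Golay.LeechOrbit.CertMcL

set_option autoImplicit false
open Cfsg CfsgLib.Golay CfsgLib.Golay.LeechOrbit CfsgLib.MonsterType CfsgLib.Sporadic

namespace Cfsg.Agent.S1580

/-- The McLaughlin configuration: for u of customary norm 6 and v minimal with u − v minimal, there are 275 further such summands x of customary inner product 2 with v, permuted transitively by the stabiliser of u and v. -/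
theorem result (u v : ↥Cfsg.leechLattice) (hu : Cfsg.sqNorm (u : Cfsg.GolayPt → ℤ) = 48) (hv : Cfsg.sqNorm (v : Cfsg.GolayPt → ℤ) = 32 ∧ Cfsg.sqNorm ((u - v) : Cfsg.GolayPt → ℤ) = 32) : {x : ↥Cfsg.leechLattice | Cfsg.sqNorm (x : Cfsg.GolayPt → ℤ) = 32 ∧ Cfsg.sqNorm ((u - x) : Cfsg.GolayPt → ℤ) = 32 ∧ Cfsg.dotInt (v : Cfsg.GolayPt → ℤ) (x : Cfsg.GolayPt → ℤ) = 16}.ncard = 275 ∧ ∀ x ∈ {x : ↥Cfsg.leechLattice | Cfsg.sqNorm (x : Cfsg.GolayPt → ℤ) = 32 ∧ Cfsg.sqNorm ((u - x) : Cfsg.GolayPt → ℤ) = 32 ∧ Cfsg.dotInt (v : Cfsg.GolayPt → ℤ) (x : Cfsg.GolayPt → ℤ) = 16}, ∀ x' ∈ {x : ↥Cfsg.leechLattice | Cfsg.sqNorm (x : Cfsg.GolayPt → ℤ) = 32 ∧ Cfsg.sqNorm ((u - x) : Cfsg.GolayPt → ℤ) = 32 ∧ Cfsg.dotInt (v : Cfsg.GolayPt → ℤ) (x : Cfsg.GolayPt → ℤ) = 16}, ∃ g : ↥Cfsg.Co0, g • u = u ∧ g • v = v ∧ g • x = x' := by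
  have hset : {x : ↥Cfsg.leechLattice | Cfsg.sqNorm (x : Cfsg.GolayPt → ℤ) = 32 ∧ Cfsg.sqNorm ((u - x) : Cfsg.GolayPt → ℤ) = 32 ∧ Cfsg.dotInt (v : Cfsg.GolayPt → ℤ) (x : Cfsg.GolayPt → ℤ) = 16} = consSet [(u, 24), (v, 16)] := by
    ext y
    rw [mem_cons2, Set.mem_ofPred_eq]
    refine and_congr_right fun hy => and_congr_left fun _ => ⟨fun h => ?_, fun h => sub_norm_of_dot hu hy h⟩
    have := dot_of_sub_norm hu hy h
    omega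
  obtain ⟨γ, h1, h2⟩ := exists_normal_552 hu hv.1 (by have := dot_of_sub_norm hu hv.1 hv.2; omega)
  have h := spec275.transfer γ (cs := [(u, 24), (v, 16)]) (by simp [mapC, cs275, h1, h2])
  rw [hset]
  refine ⟨h.ncard, fun x hx x' hx' => ?_⟩
  obtain ⟨g, hg, e⟩ := h.exists_smul hx hx'
  exact ⟨g, (consStab2.mp hg).1, (consStab2.mp hg).2, e⟩

end Cfsg.Agent.S1580
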