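import Cfsg.Statements.S1581
import Cfsg.Agent.Lib.Golay.LeechOrbit.Normal
import Cfsg.Agent.Lib.Golay.LeechOrbit.CertMcL

set_option autoImplicit false
open Cfsg CfsgLib.Golay CfsgLib.Golay.LeechOrbit CfsgLib.MonsterType CfsgLib.Sporadic

/-- The two inner products inside the 275 points. -/
theorem dots275 : ∀ y ∈ consSet cs275, y = root275 ∨
    dotInt (root275 : GolayPt → ℤ) (y : GolayPt → ℤ) ∈ [8, 16] :=
  dot_cases_of_check C275 cover275 [0, -4, 0, 0, 0, 0, 0, 0, 0, 0, 0, 0, 0, 0, 0, 0, 0, 0, 0, 0, 0, 0, 0, -4] (by decide +kernel) (by decide +kernel)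


namespace Cfsg.Agent.S1581

/-- The McLaughlin group acts with rank 3 and subdegrees 1, 112, 162 on its 275 points: the point stabiliser has two orbits on the remaining points, distinguished by customary inner product 1 or 2 with the fixed point. -/
theorem result (u v x : ↥Cfsg.leechLattice) (hu : Cfsg.sqNorm (u : Cfsg.GolayPt → ℤ) = 48) (hv : Cfsg.sqNorm (v : Cfsg.GolayPt → ℤ) = 32 ∧ Cfsg.sqNorm ((u - v) : Cfsg.GolayPt → ℤ) = 32) (hx : x ∈ {x : ↥Cfsg.leechLattice | Cfsg.sqNorm (x : Cfsg.GolayPt → ℤ) = 32 ∧ Cfsg.sqNorm ((u - x) : Cfsg.GolayPt → ℤ) = 32 ∧ Cfsg.dotInt (v : Cfsg.GolayPt → ℤ) (x : Cfsg.GolayPt → ℤ) = 16}) : {y : ↥Cfsg.leechLattice | y ∈ {x : ↥Cfsg.leechLattice | Cfsg.sqNorm (x : Cfsg.GolayPt → ℤ) = 32 ∧ Cfsg.sqNorm ((u - x) : Cfsg.GolayPt → ℤ) = 32 ∧ Cfsg.dotInt (v : Cfsg.GolayPt → ℤ) (x : Cfsg.GolayPt → ℤ) = 16} ∧ Cfsg.dotInt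 (x : Cfsg.GolayPt → ℤ) (y : Cfsg.GolayPt → ℤ) = 8}.ncard = 112 ∧ {y : ↥Cfsg.leechLattice | y ∈ {x : ↥Cfsg.leechLattice | Cfsg.sqNorm (x : Cfsg.GolayPt → ℤ) = 32 ∧ Cfsg.sqNorm ((u - x) : Cfsg.GolayPt → ℤ) = 32 ∧ Cfsg.dotInt (v : Cfsg.GolayPt → ℤ) (x : Cfsg.GolayPt → ℤ) = 16} ∧ y ≠ x ∧ Cfsg.dotInt (x : Cfsg.GolayPt → ℤ) (y : Cfsg.GolayPt → ℤ) = 16}.ncard = 162 ∧ ∀ y ∈ {x : ↥Cfsg.leechLattice | Cfsg.sqNorm (x : Cfsg.GolayPt → ℤ) = 32 ∧ Cfsg.sqNorm ((u - x) : Cfsg.GolayPt → ℤ) = 32 ∧ Cfsg.dotInt (v : Cfsg.GolayPt → ℤ) (x : Cfsg.GolayPt → ℤ) = 16}, ∀ y' ∈ {x : ↥Cfsg.leechLattice | Cfsg.sqNorm (x : Cfsg.GolayPt → ℤ) = 32 ∧ Cfsg.sqNorm ((u - x) : Cfsg.GolayPt → ℤ) = 32 ∧ Cfsg.dotInt (v : Cfsg.GolayPt → ℤ) (x : Cfsg.GolayPt → ℤ) = 16}, y ≠ x → y' ≠ x → Cfsg.dotInt (x : Cfsg.GolayPt → ℤ) (y : Cfsg.GolayPt → ℤ) = Cfsg.dotInt (x : Cfsg.GolayPt → ℤ)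 (y' : Cfsg.GolayPt → ℤ) → ∃ g : ↥Cfsg.Co0, g • u = u ∧ g • v = v ∧ g • x = x ∧ g • y = y' := by
  have hset : {x : ↥Cfsg.leechLattice | Cfsg.sqNorm (x : Cfsg.GolayPt → ℤ) = 32 ∧ Cfsg.sqNorm ((u - x) : Cfsg.GolayPt → ℤ) = 32 ∧ Cfsg.dotInt (v : Cfsg.GolayPt → ℤ) (x : Cfsg.GolayPt → ℤ) = 16} = consSet [(u, 24), (v, 16)] := by
    ext y
    rw [mem_cons2, Set.mem_ofPred_eq]
    refine and_congr_right fun hy => and_congr_left fun _ => ⟨fun h => ?_, fun h => sub_norm_of_dot hu hy h⟩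
    have := dot_of_sub_norm hu hy h
    omega
  rw [hset] at hx ⊢
  obtain ⟨α, h1, h2⟩ := exists_normal_552 hu hv.1 (by have := dot_of_sub_norm hu hv.1 hv.2; omega)
  have hm : α • x ∈ consSet cs275 := by
    have := (smul_mem_mapC_iff (γ := α)).mpr hx
    simpa [mapC, cs275, h1, h2] using this
  obtain ⟨δ, hδ, e⟩ := spec275.exists_smul hm spec275.root_mem
  have k1 : (δ * α) • u = Spor.leechV := by rw [mul_smul, h1]; exact (consStab2.mp hδ).1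
  have k2 : (δ * α) • v = negU := by rw [mul_smul, h2]; exact (consStab2.mp hδ).2
  have k3 : (δ * α) • x = root275 := by rw [mul_smul, e]
  have hA := spec112.transfer (δ * α) (cs := [(u, 24), (v, 16), (x, 8)]) (by simp [mapC, cs112, k1, k2, k3])
  have hB := spec162.transfer (δ * α) (cs := [(u, 24), (v, 16), (x, 16)]) (by simp [mapC, cs162, k1, k2, k3])
  have hd : ∀ y ∈ consSet [(u, 24), (v, 16)], y = x ∨ dotInt (x : GolayPt → ℤ) (y : GolayPt → ℤ) ∈ [8, 16] :=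
    dot_cases_transfer dots275 (δ * α) (by simp [mapC, cs275, k1, k2]) k3
  refine ⟨?_, ?_, fun y hy y' hy' hne hne' he => ?_⟩
  · refine Eq.trans ?_ hA.ncard; congr 1; ext y
    rw [mem_cons3, Set.mem_ofPred_eq, mem_cons2]; tauto
  · refine Eq.trans ?_ hB.ncard; congr 1; ext y
    rw [mem_cons3, Set.mem_ofPred_eq, mem_cons2]
    refine ⟨fun h => ⟨h.1.1, h.1.2.1, h.1.2.2, h.2.2⟩, fun h => ⟨⟨h.1, h.2.1, h.2.2.1⟩, ?_, h.2.2.2⟩⟩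
    rintro rfl
    rw [dot_self, h.1] at h
    exact absurd h.2.2.2 (by norm_num)
  · rw [mem_cons2] at hy hy'
    have hc := (hd y (mem_cons2.mpr hy)).resolve_left hne
    simp only [List.mem_cons, List.not_mem_nil, or_false] at hc
    rcases hc with hc | hc
    · obtain ⟨g, hg, e⟩ := hA.exists_smul (x := y) (y := y')
        (mem_cons3.mpr ⟨hy.1, hy.2.1, hy.2.2, hc⟩) (mem_cons3.mpr ⟨hy'.1, hy'.2.1, hy'.2.2, he ▸ hc⟩)
      exact ⟨g, (consStab3.mp hg).1, (consStab3.mp hg).2.1, (consStab3.mp hg).2.2, e⟩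
    · obtain ⟨g, hg, e⟩ := hB.exists_smul (x := y) (y := y')
        (mem_cons3.mpr ⟨hy.1, hy.2.1, hy.2.2, hc⟩) (mem_cons3.mpr ⟨hy'.1, hy'.2.1, hy'.2.2, he ▸ hc⟩)
      exact ⟨g, (consStab3.mp hg).1, (consStab3.mp hg).2.1, (consStab3.mp hg).2.2, e⟩

end Cfsg.Agent.S1581
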