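import Cfsg.Statements.S1582
import Cfsg.Agent.Lib.Sporadic.ConwayPsu43.Iso
import Cfsg.Agent.Lib.Golay.LeechOrbit.Normal

set_option autoImplicit false
open Cfsg CfsgLib.Golay CfsgLib.Golay.LeechOrbit CfsgLib.MonsterType CfsgLib.Sporadic

namespace Cfsg.Agent.S1582

/-- The point stabiliser in the rank-3 action of the McLaughlin group on 275 points is isomorphic to PSU(4, 3). -/
theorem result (u v x : ↥Cfsg.leechLattice) (hu : Cfsg.sqNorm (u : Cfsg.GolayPt → ℤ) = 48) (hv : Cfsg.sqNorm (v : Cfsg.GolayPt → ℤ) = 32 ∧ Cfsg.sqNorm ((u - v) : Cfsg.GolayPt → ℤ) = 32) (hx : x ∈ {x : ↥Cfsg.leechLattice | Cfsg.sqNorm (x : Cfsg.GolayPt → ℤ) = 32 ∧ Cfsg.sqNorm ((u - x) : Cfsg.GolayPt → ℤ) = 32 ∧ Cfsg.dotInt (v : Cfsg.GolayPt → ℤ) (x : Cfsg.GolayPt → ℤ) = 16}) (F : Type) [Field F] [Fintype F] (hF : Fintype.card F = 9) : Nonempty (↥(MulAction.stabilizer ↥Cfsg.Co0 u ⊓ MulAction.stabilizer ↥Cfsg.Co0 v ⊓ MulAction.stabilizer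 ↥Cfsg.Co0 x) ≃* Cfsg.PSU 4 F 3) := by
  have hF' : Fintype.card F = 3 ^ 2 := hF
  have : IsSquare (-1 : F) := FiniteField.isSquare_neg_one_iff.mpr (by rw [hF]; norm_num)
  obtain ⟨w, hw⟩ := this
  obtain ⟨e⟩ := ConwayPsu43.iso_G0 hF' (w := w) (by rw [sq]; exact hw.symm)
  obtain ⟨hx1, hx2, hx3⟩ := hx
  obtain ⟨α, h1, h2⟩ := exists_normal_552 hu hv.1 (by have := dot_of_sub_norm hu hv.1 hv.2; omega)
  have hm : α • x ∈ consSet cs275 := by
    refine mem_cons2.mpr ⟨by rw [sqNorm_smul_lat, hx1], ?_, ?_⟩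
    · rw [← h1, dot_smul_lat]
      have := dot_of_sub_norm hu hx1 hx2
      omega
    · rw [← h2, dot_smul_lat, hx3]
  obtain ⟨δ, hδ, hδx⟩ := spec275.exists_smul hm spec275.root_mem
  have k1 : (δ * α) • u = Spor.leechV := by rw [mul_smul, h1]; exact (consStab2.mp hδ).1
  have k2 : (δ * α) • v = negU := by rw [mul_smul, h2]; exact (consStab2.mp hδ).2
  have k3 : (δ * α) • x = root275 := by rw [mul_smul, hδx]
  have heq : (MulAction.stabilizer Co0 u ⊓ MulAction.stabilizer Co0 v ⊓ MulAction.stabilizer Co0 x).map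
      (MulAut.conj (δ * α)).toMonoidHom = ConwayPsu43.G0 := by
    rw [Subgroup.map_inf _ _ _ (MulAut.conj (δ * α)).injective, Subgroup.map_inf _ _ _ (MulAut.conj (δ * α)).injective,
      ← MulAction.stabilizer_smul_eq_stabilizer_map_conj, ← MulAction.stabilizer_smul_eq_stabilizer_map_conj,
      ← MulAction.stabilizer_smul_eq_stabilizer_map_conj, k1, k2, k3]
    ext γ
    simp [ConwayPsu43.G0, mem_consStab, MulAction.mem_stabilizer_iff, and_assoc]
  exact ⟨(((MulAut.conj (δ * α)).subgroupMap _).trans (MulEquiv.subgroupCongr heq)).trans e⟩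

end Cfsg.Agent.S1582
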