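import Cfsg.Statements.S1584
import Cfsg.Agent.Lib.Golay.LeechOrbit.Normal
import Cfsg.Agent.Lib.Golay.LeechOrbit.CertHS

set_option autoImplicit false
open Cfsg CfsgLib.Golay CfsgLib.Golay.LeechOrbit CfsgLib.MonsterType CfsgLib.Sporadic

/-- The two inner products inside the 100 points. -/
theorem dots100 : ∀ y ∈ consSet cs100, y = root100 ∨
    dotInt (root100 : GolayPt → ℤ) (y : GolayPt → ℤ) ∈ [8, 16] :=
  dot_cases_of_check C100 cover100 [-4, 0, 0, 0, 0, 0, 0, 0, 0, 0, 0, 0, 0, 0, 0, 0, 0, 0, 0, 0, 0, 0, 0, -4] (by decide +kernel) (by decide +kernel)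


namespace Cfsg.Agent.S1584

/-- The Higman–Sims group acts with rank 3 and subdegrees 1, 22, 77 on its 100 points, the orbits of a point stabiliser being distinguished by customary inner product 1 with the fixed point. -/
theorem result (v w x : ↥Cfsg.leechLattice) (hv : Cfsg.sqNorm (v : Cfsg.GolayPt → ℤ) = 48) (hw : Cfsg.sqNorm (w : Cfsg.GolayPt → ℤ) = 48) (hvw : Cfsg.dotInt (v : Cfsg.GolayPt → ℤ) (w : Cfsg.GolayPt → ℤ) = -32) (hx : x ∈ {x : ↥Cfsg.leechLattice | Cfsg.sqNorm (x : Cfsg.GolayPt → ℤ) = 32 ∧ Cfsg.dotInt (v : Cfsg.GolayPt → ℤ) (x : Cfsg.GolayPt → ℤ) = 24 ∧ Cfsg.dotInt (w : Cfsg.GolayPt → ℤ) (x : Cfsg.GolayPt → ℤ) = -24}) : {y : ↥Cfsg.leechLattice | y ∈ {x : ↥Cfsg.leechLattice | Cfsg.sqNorm (x : Cfsg.GolayPt → ℤ) = 32 ∧ Cfsg.dotInt (v : Cfsg.GolayPt → ℤ) (x : Cfsg.GolayPt → ℤ) = 24 ∧ Cfsg.dotInt (w : Cfsg.GolayPt → ℤ) (x :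 Cfsg.GolayPt → ℤ) = -24} ∧ Cfsg.dotInt (x : Cfsg.GolayPt → ℤ) (y : Cfsg.GolayPt → ℤ) = 8}.ncard = 22 ∧ {y : ↥Cfsg.leechLattice | y ∈ {x : ↥Cfsg.leechLattice | Cfsg.sqNorm (x : Cfsg.GolayPt → ℤ) = 32 ∧ Cfsg.dotInt (v : Cfsg.GolayPt → ℤ) (x : Cfsg.GolayPt → ℤ) = 24 ∧ Cfsg.dotInt (w : Cfsg.GolayPt → ℤ) (x : Cfsg.GolayPt → ℤ) = -24} ∧ y ≠ x ∧ Cfsg.dotInt (x : Cfsg.GolayPt → ℤ) (y : Cfsg.GolayPt → ℤ) ≠ 8}.ncard = 77 ∧ ∀ y ∈ {x : ↥Cfsg.leechLattice | Cfsg.sqNorm (x : Cfsg.GolayPt → ℤ) = 32 ∧ Cfsg.dotInt (v : Cfsg.GolayPt → ℤ) (x : Cfsg.GolayPt → ℤ) = 24 ∧ Cfsg.dotInt (w : Cfsg.GolayPt → ℤ) (x : Cfsg.GolayPt → ℤ) = -24}, ∀ y' ∈ {x : ↥Cfsg.leechLattice | Cfsg.sqNorm (x : Cfsg.GolayPt → ℤ) = 32 ∧ Cfsg.dotInt (v : Cfsg.GolayPt → ℤ) (x : Cfsg.GolayPt → ℤ) = 24 ∧ Cfsg.dotInt (w : Cfsg.GolayPt → ℤ) (x : Cfsg.GolayPt → ℤ) = -24}, y ≠ x → y' ≠ x → (Cfsg.dotInt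 (x : Cfsg.GolayPt → ℤ) (y : Cfsg.GolayPt → ℤ) = 8 ↔ Cfsg.dotInt (x : Cfsg.GolayPt → ℤ) (y' : Cfsg.GolayPt → ℤ) = 8) → ∃ g : ↥Cfsg.Co0, g • v = v ∧ g • w = w ∧ g • x = x ∧ g • y = y' := by
  have hset : {x : ↥Cfsg.leechLattice | Cfsg.sqNorm (x : Cfsg.GolayPt → ℤ) = 32 ∧ Cfsg.dotInt (v : Cfsg.GolayPt → ℤ) (x : Cfsg.GolayPt → ℤ) = 24 ∧ Cfsg.dotInt (w : Cfsg.GolayPt → ℤ) (x : Cfsg.GolayPt → ℤ) = -24} = consSet [(v, 24), (w, -24)] := by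
    ext y
    rw [mem_cons2, Set.mem_ofPred_eq]
  obtain ⟨α, h1, h2⟩ := exists_normal_pair hv hw hvw
  rw [hset] at hx ⊢
  have hm : α • x ∈ consSet cs100 := by
    have := (smul_mem_mapC_iff (γ := α)).mpr hx
    simpa [mapC, cs100, h1, h2] using this
  obtain ⟨δ, hδ, e⟩ := spec100.exists_smul hm spec100.root_mem
  have k1 : (δ * α) • v = Spor.leechV := by rw [mul_smul, h1]; exact (consStab2.mp hδ).1
  have k2 : (δ * α) • w = vecWL := by rw [mul_smul, h2]; exact (consStab2.mp hδ).2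
  have k3 : (δ * α) • x = root100 := by rw [mul_smul, e]
  have hA := spec22.transfer (δ * α) (cs := [(v, 24), (w, -24), (x, 8)]) (by simp [mapC, cs22, k1, k2, k3, root100])
  have hB := spec77.transfer (δ * α) (cs := [(v, 24), (w, -24), (x, 16)]) (by simp [mapC, cs77, k1, k2, k3, root100])
  have hd : ∀ y ∈ consSet [(v, 24), (w, -24)], y = x ∨ dotInt (x : GolayPt → ℤ) (y : GolayPt → ℤ) ∈ [8, 16] :=
    dot_cases_transfer dots100 (δ * α) (by simp [mapC, cs100, k1, k2]) k3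
  refine ⟨?_, ?_, fun y hy y' hy' hne hne' he => ?_⟩
  · refine Eq.trans ?_ hA.ncard; congr 1; ext y
    rw [mem_cons3, Set.mem_ofPred_eq, mem_cons2]; tauto
  · refine Eq.trans ?_ hB.ncard; congr 1; ext y
    rw [mem_cons3, Set.mem_ofPred_eq, mem_cons2]
    refine ⟨fun h => ?_, fun h => ⟨⟨h.1, h.2.1, h.2.2.1⟩, ?_, by omega⟩⟩
    · have hc := (hd y (mem_cons2.mpr h.1)).resolve_left h.2.1
      simp only [List.mem_cons, List.not_mem_nil, or_false] at hc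
      exact ⟨h.1.1, h.1.2.1, h.1.2.2, hc.resolve_left h.2.2⟩
    · rintro rfl
      rw [dot_self, h.1] at h
      exact absurd h.2.2.2 (by norm_num)
  · rw [mem_cons2] at hy hy'
    have hc := (hd y (mem_cons2.mpr hy)).resolve_left hne
    have hc' := (hd y' (mem_cons2.mpr hy')).resolve_left hne'
    simp only [List.mem_cons, List.not_mem_nil, or_false] at hc hc'
    by_cases h8 : dotInt (x : GolayPt → ℤ) (y : GolayPt → ℤ) = 8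
    · obtain ⟨g, hg, e⟩ := hA.exists_smul (x := y) (y := y')
        (mem_cons3.mpr ⟨hy.1, hy.2.1, hy.2.2, h8⟩) (mem_cons3.mpr ⟨hy'.1, hy'.2.1, hy'.2.2, he.mp h8⟩)
      exact ⟨g, (consStab3.mp hg).1, (consStab3.mp hg).2.1, (consStab3.mp hg).2.2, e⟩
    · obtain ⟨g, hg, e⟩ := hB.exists_smul (x := y) (y := y')
        (mem_cons3.mpr ⟨hy.1, hy.2.1, hy.2.2, hc.resolve_left h8⟩)
        (mem_cons3.mpr ⟨hy'.1, hy'.2.1, hy'.2.2, hc'.resolve_left (fun h => h8 (he.mpr h))⟩)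
      exact ⟨g, (consStab3.mp hg).1, (consStab3.mp hg).2.1, (consStab3.mp hg).2.2, e⟩

end Cfsg.Agent.S1584
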