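import Cfsg.Statements.S1585
import Cfsg.Agent.Lib.Golay.LeechOrbit.Normal

set_option autoImplicit false
open Cfsg CfsgLib.Golay CfsgLib.Golay.LeechOrbit CfsgLib.MonsterType CfsgLib.Sporadic

/-- Exchange of the extra point and zero, with all signs changed. -/
noncomputable def swapW : Co0 := sgnW ⟨1, one_mem_golayCode⟩ * letterW .T

theorem toL_swapW (z : leechLattice) :
    toL ((swapW • z : leechLattice) : GolayPt → ℤ) = (appLetter .T (toL (z : GolayPt → ℤ))).map (-·) := by
  rw [swapW, mul_smul, ← toL_letterW]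
  rw [toL, toL, List.map_ofFn]
  refine congrArg List.ofFn (funext fun i => ?_)
  simp [sgnW_apply]

theorem swapW_pair : swapW • Spor.leechV = vecWL ∧ swapW • vecWL = Spor.leechV := by
  constructor <;> apply Subtype.ext <;> apply toL_injective <;> rw [toL_swapW] <;> decide +kernel


namespace Cfsg.Agent.S1585

/-- Two vectors of customary norm 6 with inner product −4 are exchanged by some automorphism of the lattice. -/
theorem result (v w : ↥Cfsg.leechLattice) (hv : Cfsg.sqNorm (v : Cfsg.GolayPt → ℤ) = 48) (hw : Cfsg.sqNorm (w : Cfsg.GolayPt → ℤ) = 48) (hvw : Cfsg.dotInt (v : Cfsg.GolayPt → ℤ) (w : Cfsg.GolayPt → ℤ) = -32) : ∃ g : ↥Cfsg.Co0, g • v = w ∧ g • w = v := by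
  obtain ⟨γ, h1, h2⟩ := exists_normal_pair hv hw hvw
  refine ⟨γ⁻¹ * swapW * γ, ?_, ?_⟩
  · rw [mul_smul, mul_smul, h1, swapW_pair.1, inv_smul_eq_iff, h2]
  · rw [mul_smul, mul_smul, h2, swapW_pair.2, inv_smul_eq_iff, h1]

end Cfsg.Agent.S1585
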