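import Cfsg.Statements.S1588
import Cfsg.Agent.EvenLattice24

set_option autoImplicit false
open Matrix
open Cfsg

namespace Cfsg.Agent.S1588

open Cfsg.Agent.EvenLattice24 in
/-- Second step of the characterisation: under the vector counts of the rank-24 lattice, the norm-8 vectors fall into congruence classes of exactly 48 modulo twice the lattice. -/
theorem result (B : Matrix (Fin 24) (Fin 24) ℤ) (hsymm : B.IsSymm) (hpos : ∀ x : Fin 24 → ℤ, x ≠ 0 → 0 < x ⬝ᵥ (B *ᵥ x)) (heven : ∀ x : Fin 24 → ℤ, (2 : ℤ) ∣ x ⬝ᵥ (B *ᵥ x)) (h2 : ∀ x : Fin 24 → ℤ, x ⬝ᵥ (B *ᵥ x) ≠ 2) (h4 : {x : Fin 24 → ℤ | x ⬝ᵥ (B *ᵥ x) = 4}.ncard = 196560) (h6 : {x : Fin 24 → ℤ | x ⬝ᵥ (B *ᵥ x) = 6}.ncard = 16773120) (h8 : {x : Fin 24 → ℤ | x ⬝ᵥ (B *ᵥ x) = 8}.ncard = 398034000) (x : Fin 24 → ℤ) (hx : x ⬝ᵥ (B *ᵥ x) = 8) : {y : Fin 24 → ℤ | y ⬝ᵥ (B *ᵥ y) = 8 ∧ ∀ i, (2 : ℤ) ∣ (x - y) i}.ncard = 48 := by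
  classical
  have fin : ∀ (n : ℤ) (c : ℕ), {x : Fin 24 → ℤ | x ⬝ᵥ (B *ᵥ x) = n}.ncard = c → c ≠ 0 →
      ∃ F : Finset (Fin 24 → ℤ), F.card = c ∧ ∀ z, z ∈ F ↔ bf B z z = n := by
    intro n c hc hc0
    have hf := Set.finite_of_ncard_ne_zero (hc.trans_ne hc0)
    exact ⟨hf.toFinset, by rw [← Set.ncard_eq_toFinset_card _ hf]; exact hc,
      fun z => by simp [bf]⟩
  obtain ⟨F4, c4, m4⟩ := fin 4 _ h4 (by norm_num)
  obtain ⟨F6, c6, m6⟩ := fin 6 _ h6 (by norm_num)
  obtain ⟨F8, c8, m8⟩ := fin 8 _ h8 (by norm_num)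
  clear fin h4 h6 h8
  have pm : ∀ a b, red a = red b → bf B a a + bf B b b < 16 → b = a ∨ b = -a := by
    intro a b hab hlt
    rcases cong_norms B hsymm hpos heven h2 a b ((red_eq_iff a b).1 hab) with
      h | h | ⟨u, v, hu, hv, -, -, hs, -⟩
    · exact Or.inl h
    · exact Or.inr h
    · omega
  have small : ∀ (F : Finset (Fin 24 → ℤ)) (n : ℤ), (∀ z, z ∈ F ↔ bf B z z = n) → n ≠ 0 →
      n < 8 → F.card = 2 * (F.image red).card := by
    intro F n hF hn0 hn
    rw [Finset.card_eq_sum_card_image red F, mul_comm]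
    refine Finset.sum_const_nat ?_
    intro c hc
    obtain ⟨a, ha, rfl⟩ := Finset.mem_image.1 hc
    have hneg : -a ≠ a := by
      intro h
      have ha0 : a = 0 := funext fun i => by have := congrFun h i; simp at this ⊢; omega
      have := (hF a).1 ha
      subst ha0; simp [bf] at this; omega
    have : F.filter (fun z => red z = red a) = {a, -a} := by
      ext z
      simp only [Finset.mem_filter, Finset.mem_insert, Finset.mem_singleton]
      constructor
      · rintro ⟨hz, hza⟩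
        refine pm a z hza.symm ?_
        rw [(hF a).1 ha, (hF z).1 hz]; omega
      · rintro (rfl | rfl)
        · exact ⟨ha, rfl⟩
        · refine ⟨(hF _).2 ?_, ((red_eq_iff _ _).2 (two_neg_cong a)).symm⟩
          rw [bf_neg_left, bf_neg_right, neg_neg]; exact (hF a).1 ha
    rw [this, Finset.card_pair hneg.symm]
  have i4 := small F4 4 m4 (by norm_num) (by norm_num)
  have i6 := small F6 6 m6 (by norm_num) (by norm_num)
  have differ : ∀ a b, red a = red b → bf B a a + bf B b b < 16 → bf B a a = bf B b b := by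
    intro a b hab hlt
    rcases pm a b hab hlt with rfl | rfl
    · rfl
    · rw [bf_neg_left, bf_neg_right, neg_neg]
  have disj46 : Disjoint (F4.image red) (F6.image red) := by
    rw [Finset.disjoint_left]
    rintro c h h'
    obtain ⟨a, ha, rfl⟩ := Finset.mem_image.1 h
    obtain ⟨b, hb, hab⟩ := Finset.mem_image.1 h'
    rw [m4] at ha; rw [m6] at hb
    have := differ a b hab.symm (by omega); omega
  have disj8 : ∀ (F : Finset (Fin 24 → ℤ)) (n : ℤ), (∀ z, z ∈ F ↔ bf B z z = n) → n < 8 →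
      Disjoint (F.image red) (F8.image red) := by
    intro F n hF hn
    rw [Finset.disjoint_left]
    rintro c h h'
    obtain ⟨a, ha, rfl⟩ := Finset.mem_image.1 h
    obtain ⟨b, hb, hab⟩ := Finset.mem_image.1 h'
    rw [hF] at ha; rw [m8] at hb
    have := differ a b hab.symm (by omega); omega
  have zero_out : red 0 ∉ F4.image red ∪ F6.image red ∪ F8.image red := by
    intro h
    simp only [Finset.mem_union, Finset.mem_image] at h
    have key : ∀ a, red a = red 0 → bf B a a = 4 ∨ bf B a a = 6 ∨ bf B a a = 8 → False := by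
      intro a ha hb
      have := differ a 0 ha (by simp [bf] at *; omega)
      simp [bf] at this hb; omega
    rcases h with (⟨a, ha, h⟩ | ⟨a, ha, h⟩) | ⟨a, ha, h⟩
    · exact key a h (Or.inl ((m4 a).1 ha))
    · exact key a h (Or.inr (Or.inl ((m6 a).1 ha)))
    · exact key a h (Or.inr (Or.inr ((m8 a).1 ha)))
  have htot := Finset.card_le_univ (insert (red 0) (F4.image red ∪ F6.image red ∪ F8.image red))
  rw [Finset.card_insert_of_notMem zero_out,
    Finset.card_union_of_disjoint (Finset.disjoint_union_left.2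
      ⟨disj8 F4 4 m4 (by norm_num), disj8 F6 6 m6 (by norm_num)⟩),
    Finset.card_union_of_disjoint disj46, Fintype.card_fun, ZMod.card, Fintype.card_fin] at htot
  have hle : ∀ c ∈ F8.image red, (F8.filter fun z => red z = c).card ≤ 48 := by
    intro c _
    refine frame_card_le B _ (fun z hz => (m8 z).1 (Finset.mem_filter.1 hz).1) ?_
    intro a ha b hb
    obtain ⟨ha8, hac⟩ := Finset.mem_filter.1 ha
    obtain ⟨hb8, hbc⟩ := Finset.mem_filter.1 hb
    have h1 := (m8 a).1 ha8
    have h1' := (m8 b).1 hb8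
    rcases cong_norms B hsymm hpos heven h2 a b ((red_eq_iff a b).1 (hac.trans hbc.symm)) with
      h | h | ⟨u, v, hu, hv, -, -, hs, hab⟩
    · exact Or.inl h
    · exact Or.inr (Or.inl h)
    · right; right; omega
  have hxm : red x ∈ F8.image red := Finset.mem_image_of_mem _ ((m8 x).2 hx)
  have hset : {y : Fin 24 → ℤ | y ⬝ᵥ (B *ᵥ y) = 8 ∧ ∀ i, (2 : ℤ) ∣ (x - y) i}
      = ↑(F8.filter fun z => red z = red x) := by
    ext z
    simp only [Set.mem_ofPred_eq, Finset.coe_filter, m8]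
    rw [eq_comm (a := red z), red_eq_iff]
    rfl
  rw [hset, Set.ncard_coe_finset]
  refine le_antisymm (hle _ hxm) ?_
  have hsum := Finset.card_eq_sum_card_image red F8
  rw [← Finset.add_sum_erase _ _ hxm] at hsum
  have hrest := Finset.sum_le_card_nsmul ((F8.image red).erase (red x))
    (fun c => (F8.filter fun z => red z = c).card) 48
    (fun c hc => hle c (Finset.mem_of_mem_erase hc))
  rw [Finset.card_erase_of_mem hxm, smul_eq_mul] at hrest
  have hpow : (2 : ℕ) ^ 24 = 16777216 := by norm_num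
  rw [hpow] at htot
  omega

end Cfsg.Agent.S1588
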