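import Cfsg.Agent.TernaryGolay

set_option autoImplicit false
open Cfsg
open Cfsg.Agent.TernaryGolay

namespace Cfsg.Agent.TernaryHexads

/-- The supports of the weight-6 words. -/
def hexads : Set (Finset ArrayPt) :=
  {h | ∃ x ∈ ternaryGolayCode, ternarySupport x = h ∧ h.card = 6}

/-- Weight class of information symbols. -/
def ofWeight (n : ℕ) : Finset (Fin 6 → ZMod 3) :=
  Finset.univ.filter fun a => (ternarySupport (word a)).card = n

theorem card_ofWeight_six : (ofWeight 6).card = 264 := by decide +kernel
theorem card_ofWeight_nine : (ofWeight 9).card = 440 := by decide +kernel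
theorem card_ofWeight_twelve : (ofWeight 12).card = 24 := by decide +kernel

theorem code_weights : ∀ a : Fin 6 → ZMod 3, a = 0 ∨ (ternarySupport (word a)).card = 6 ∨
    (ternarySupport (word a)).card = 9 ∨ (ternarySupport (word a)).card = 12 := by decide +kernel

theorem weights {x : ArrayPt → ZMod 3} (hx : x ∈ ternaryGolayCode) (h0 : x ≠ 0) :
    (ternarySupport x).card = 6 ∨ (ternarySupport x).card = 9 ∨ (ternarySupport x).card = 12 := by
  obtain ⟨a, rfl⟩ := mem_iff.1 hx
  refine (code_weights a).resolve_left ?_
  rintro rfl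
  exact h0 (funext fun p => by simp [word])

theorem eq_zero_of_small {x : ArrayPt → ZMod 3} (hx : x ∈ ternaryGolayCode)
    (h : (ternarySupport x).card < 6) : x = 0 := by
  by_contra h0
  rcases weights hx h0 with h' | h' | h' <;> omega

theorem setOf_weight (n : ℕ) :
    {x : ArrayPt → ZMod 3 | x ∈ ternaryGolayCode ∧ (ternarySupport x).card = n}
      = word '' ↑(ofWeight n) := by
  ext x
  constructor
  · rintro ⟨hx, hn⟩
    obtain ⟨a, rfl⟩ := mem_iff.1 hx
    exact ⟨a, by simp [ofWeight, hn], rfl⟩
  · rintro ⟨a, ha, rfl⟩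
    exact ⟨word_mem a, by simpa [ofWeight] using ha⟩

theorem ncard_weight (n : ℕ) :
    {x : ArrayPt → ZMod 3 | x ∈ ternaryGolayCode ∧ (ternarySupport x).card = n}.ncard
      = (ofWeight n).card := by
  rw [setOf_weight, Set.ncard_image_of_injective _ word_injective, Set.ncard_coe_finset]

theorem card_code : Nat.card ↥ternaryGolayCode = 729 := by
  have e : (Fin 6 → ZMod 3) ≃ ↥ternaryGolayCode :=
    Equiv.ofBijective (fun a => ⟨word a, word_mem a⟩)
      ⟨fun a b h => word_injective (congrArg Subtype.val h),
       fun x => by obtain ⟨a, ha⟩ := mem_iff.1 x.2; exact ⟨a, Subtype.ext ha⟩⟩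
  rw [← Nat.card_congr e, Nat.card_eq_fintype_card]
  simp

theorem z3_cases : ∀ a b : ZMod 3, a ≠ 0 → b ≠ 0 → a = b ∨ a = -b := by decide +kernel

theorem eq_or_eq_neg {x y : ArrayPt → ZMod 3} (hx : x ∈ ternaryGolayCode)
    (hy : y ∈ ternaryGolayCode) (hx6 : (ternarySupport x).card = 6)
    (hy6 : (ternarySupport y).card = 6)
    (h5 : 5 ≤ (ternarySupport x ∩ ternarySupport y).card) : x = y ∨ x = -y := by
  classical
  set I := ternarySupport x ∩ ternarySupport y with hI
  set A := I.filter fun p => x p = y p with hA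
  set A' := I.filter fun p => x p = - y p with hA'
  have hcover : I ⊆ A ∪ A' := by
    intro p hp
    have hp' := Finset.mem_inter.1 hp
    simp only [ternarySupport, Finset.mem_filter, Finset.mem_univ, true_and] at hp'
    rcases z3_cases _ _ hp'.1 hp'.2 with h | h
    · exact Finset.mem_union_left _ (Finset.mem_filter.2 ⟨hp, h⟩)
    · exact Finset.mem_union_right _ (Finset.mem_filter.2 ⟨hp, h⟩)
  have h3 : 3 ≤ A.card ∨ 3 ≤ A'.card := by
    have := Finset.card_le_card hcover
    have := Finset.card_union_le A A'
    omega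
  have hU : (ternarySupport x ∪ ternarySupport y).card ≤ 7 := by
    have := Finset.card_union_add_card_inter (ternarySupport x) (ternarySupport y)
    rw [hI] at h5
    omega
  have main : ∀ (z : ArrayPt → ZMod 3) (T : Finset ArrayPt), z ∈ ternaryGolayCode →
      (∀ p, x p = 0 → y p = 0 → z p = 0) → (∀ p ∈ T, z p = 0) → T ⊆ I → 3 ≤ T.card → z = 0 := by
    intro z T hz h0 hT hTI hT3
    refine eq_zero_of_small hz ?_
    have hsub : ternarySupport z ⊆ (ternarySupport x ∪ ternarySupport y) \ T := by
      intro p hp
      simp only [ternarySupport, Finset.mem_filter, Finset.mem_univ, true_and] at hp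
      simp only [Finset.mem_sdiff, Finset.mem_union, ternarySupport, Finset.mem_filter,
        Finset.mem_univ, true_and]
      refine ⟨?_, fun h => hp (hT p h)⟩
      by_contra h
      simp only [ne_eq, not_or, not_not] at h
      exact hp (h0 p h.1 h.2)
    have hTU : T ⊆ ternarySupport x ∪ ternarySupport y :=
      hTI.trans (Finset.inter_subset_left.trans Finset.subset_union_left)
    have h1 := Finset.card_le_card hsub
    rw [Finset.card_sdiff_of_subset hTU] at h1
    omega
  rcases h3 with h | h
  · left
    refine sub_eq_zero.1 (main (x - y) A (Submodule.sub_mem _ hx hy)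
      (fun p a b => by simp [a, b]) ?_ (Finset.filter_subset _ _) h)
    intro p hp
    simp [(Finset.mem_filter.1 hp).2]
  · right
    refine eq_neg_of_add_eq_zero_left (main (x + y) A' (Submodule.add_mem _ hx hy)
      (fun p a b => by simp [a, b]) ?_ (Finset.filter_subset _ _) h)
    intro p hp
    simp [(Finset.mem_filter.1 hp).2]

theorem support_neg (x : ArrayPt → ZMod 3) : ternarySupport (-x) = ternarySupport x := by
  ext p; simp [ternarySupport]

theorem hexads_finite : hexads.Finite := Set.toFinite _

theorem ncard_hexads : hexads.ncard = 132 := by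
  classical
  have h2 : (ofWeight 6).card = 2 * ((ofWeight 6).image fun a => ternarySupport (word a)).card := by
    rw [Finset.card_eq_sum_card_image (fun a => ternarySupport (word a)) (ofWeight 6), mul_comm]
    refine Finset.sum_const_nat fun h hh => ?_
    obtain ⟨a, ha, rfl⟩ := Finset.mem_image.1 hh
    have ha6 : (ternarySupport (word a)).card = 6 := (Finset.mem_filter.1 ha).2
    have hne : a ≠ -a := by
      intro h
      have h0 : a = 0 := funext fun k =>
        (show ∀ v : ZMod 3, v = -v → v = 0 by decide +kernel) _ (congrFun h k)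
      subst h0
      simp [word, ternarySupport] at ha6
    have hw : word (-a) = - word a := by funext p; simp [word]
    have : (ofWeight 6).filter (fun b => ternarySupport (word b) = ternarySupport (word a))
        = {a, -a} := by
      ext b
      simp only [ofWeight, Finset.mem_filter, Finset.mem_univ, true_and, Finset.mem_insert,
        Finset.mem_singleton]
      constructor
      · rintro ⟨hb, hba⟩
        rcases eq_or_eq_neg (word_mem b) (word_mem a) hb ha6 (by
          rw [hba, Finset.inter_self]; omega) with h | h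
        · exact Or.inl (word_injective h)
        · exact Or.inr (word_injective (h.trans hw.symm))
      · rintro (rfl | rfl)
        · exact ⟨ha6, rfl⟩
        · rw [hw, support_neg]; exact ⟨ha6, rfl⟩
    rw [this, Finset.card_pair hne]
  have heq : hexads = ↑((ofWeight 6).image fun a => ternarySupport (word a)) := by
    ext h
    simp only [hexads, Set.mem_ofPred_eq, Finset.coe_image, Set.mem_image, SetLike.mem_coe,
      ofWeight, Finset.mem_filter, Finset.mem_univ, true_and]
    constructor
    · rintro ⟨x, hx, rfl, h6⟩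
      obtain ⟨a, rfl⟩ := mem_iff.1 hx
      exact ⟨a, h6, rfl⟩
    · rintro ⟨a, h6, rfl⟩
      exact ⟨word a, word_mem a, rfl, h6⟩
  rw [heq, Set.ncard_coe_finset]
  have := card_ofWeight_six
  omega

theorem hexad_unique {b b' : Finset ArrayPt} (hb : b ∈ hexads) (hb' : b' ∈ hexads)
    (h : 5 ≤ (b ∩ b').card) : b = b' := by
  obtain ⟨x, hx, rfl, hx6⟩ := hb
  obtain ⟨y, hy, rfl, hy6⟩ := hb'
  rcases eq_or_eq_neg hx hy hx6 hy6 h with rfl | rfl
  · rfl
  · exact support_neg y

theorem hexads_steiner : IsSteinerSystem 5 6 hexads := by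
  classical
  refine ⟨fun b ⟨x, _, _, h⟩ => h, fun s hs => ?_⟩
  set H := hexads_finite.toFinset with hH
  have hHc : H.card = 132 := by
    rw [hH, ← Set.ncard_eq_toFinset_card _ hexads_finite, ncard_hexads]
  have hH6 : ∀ b ∈ H, b.card = 6 := fun b hb => by
    obtain ⟨x, _, _, h⟩ := hexads_finite.mem_toFinset.1 hb; exact h
  have huniq : ∀ b ∈ H, ∀ b' ∈ H, ∀ t : Finset ArrayPt, t.card = 5 → t ⊆ b → t ⊆ b' → b = b' :=
    fun b hb b' hb' t ht htb htb' => hexad_unique (hexads_finite.mem_toFinset.1 hb)
      (hexads_finite.mem_toFinset.1 hb')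
      (ht ▸ Finset.card_le_card (Finset.subset_inter htb htb'))
  have hbu : (H.biUnion fun b => b.powersetCard 5).card = 792 := by
    rw [Finset.card_biUnion]
    · rw [Finset.sum_const_nat (m := 6)]
      · rw [hHc]
      · intro b hb; rw [Finset.card_powersetCard, hH6 b hb]; rfl
    · intro b hb b' hb' hne
      simp only [Function.onFun]
      rw [Finset.disjoint_left]
      intro t ht ht'
      rw [Finset.mem_powersetCard] at ht ht'
      exact hne (huniq b hb b' hb' t ht.2 ht.1 ht'.1)
  have hall : H.biUnion (fun b => b.powersetCard 5)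
      = (Finset.univ : Finset ArrayPt).powersetCard 5 := by
    apply Finset.eq_of_subset_of_card_le
    · intro t ht
      obtain ⟨b, _, htb⟩ := Finset.mem_biUnion.1 ht
      rw [Finset.mem_powersetCard] at htb ⊢
      exact ⟨Finset.subset_univ _, htb.2⟩
    · rw [hbu, Finset.card_powersetCard, Finset.card_univ]; rfl
  have hsm : s ∈ H.biUnion (fun b => b.powersetCard 5) := by
    rw [hall, Finset.mem_powersetCard]; exact ⟨Finset.subset_univ _, hs⟩
  obtain ⟨b, hb, hsb⟩ := Finset.mem_biUnion.1 hsm
  rw [Finset.mem_powersetCard] at hsb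
  refine ⟨b, ⟨hexads_finite.mem_toFinset.1 hb, hsb.1⟩, ?_⟩
  rintro b' ⟨hb', hsb'⟩
  exact (huniq b hb b' (hexads_finite.mem_toFinset.2 hb') s hs hsb.1 hsb').symm

theorem exists_hexad_through (p q : ArrayPt) : ∃ b ∈ hexads, p ∈ b ∧ q ∈ b := by
  obtain ⟨s, hs, hcard⟩ := Finset.exists_superset_card_eq (s := ({p, q} : Finset ArrayPt)) (n := 5)
    (Finset.card_le_two.trans (by norm_num)) (by norm_num [Fintype.card_prod])
  obtain ⟨b, ⟨hb, hsb⟩, -⟩ := hexads_steiner.2 s hcard
  exact ⟨b, hb, hsb (hs (by simp)), hsb (hs (by simp))⟩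

/-- Diagonal automorphisms are scalars. -/
theorem signs_const (c : ArrayPt → (ZMod 3)ˣ)
    (h : ∀ x ∈ ternaryGolayCode, monomialMap 1 c x ∈ ternaryGolayCode) (p q : ArrayPt) :
    c p = c q := by
  obtain ⟨b, ⟨x, hx, rfl, h6⟩, hp, hq⟩ := exists_hexad_through p q
  have hcx := h x hx
  have hval : ∀ i, monomialMap 1 c x i = (c i : ZMod 3) * x i := fun i => rfl
  have hs : ternarySupport (monomialMap 1 c x) = ternarySupport x := by
    ext i; simp [ternarySupport, hval]
  simp only [ternarySupport, Finset.mem_filter, Finset.mem_univ, true_and] at hp hq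
  have cancel : ∀ a b : ZMod 3, a * b = b → b ≠ 0 → a = 1 := by decide +kernel
  have cancel' : ∀ a b : ZMod 3, a * b = -b → b ≠ 0 → a = -1 := by decide +kernel
  apply Units.ext
  rcases eq_or_eq_neg hcx hx (hs.symm ▸ h6) h6 (by rw [hs, Finset.inter_self]; omega) with e | e
  · have ep := congrFun e p
    have eq := congrFun e q
    rw [hval] at ep eq
    rw [cancel _ _ ep hp, cancel _ _ eq hq]
  · have ep := congrFun e p
    have eq := congrFun e q
    simp only [hval, Pi.neg_apply] at ep eq
    rw [cancel' _ _ ep hp, cancel' _ _ eq hq]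

end Cfsg.Agent.TernaryHexads
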