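import Cfsg.Statements.S1591
import Cfsg.Agent.TernaryHexads

set_option autoImplicit false
open Cfsg

namespace Cfsg.Agent.S1591

/-- Any two words of the length-12 ternary code have dot product zero. -/
theorem result (x y : Cfsg.ArrayPt → ZMod 3) (hx : x ∈ Cfsg.ternaryGolayCode) (hy : y ∈ Cfsg.ternaryGolayCode) : ∑ p, x p * y p = 0 := by
  obtain ⟨a, rfl⟩ := Cfsg.Agent.TernaryGolay.mem_iff.1 hx
  obtain ⟨b, rfl⟩ := Cfsg.Agent.TernaryGolay.mem_iff.1 hy
  have key : ∀ j k : Fin 6, ∑ p : Cfsg.ArrayPt,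
      Cfsg.Agent.TernaryGolay.genTable j p.1 p.2 * Cfsg.Agent.TernaryGolay.genTable k p.1 p.2 = 0 := by
    decide +kernel
  simp only [Cfsg.Agent.TernaryGolay.word, Finset.sum_mul_sum]
  rw [Finset.sum_comm]
  refine Finset.sum_eq_zero fun j _ => ?_
  rw [Finset.sum_comm]
  refine Finset.sum_eq_zero fun k _ => ?_
  simp only [mul_mul_mul_comm _ _ (b k), ← Finset.mul_sum, key j k, mul_zero]

end Cfsg.Agent.S1591
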