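import Mathlib

/-!
# Certificates for the automorphisms of the ternary code of length 12
-/

set_option autoImplicit false

namespace Cfsg.Agent.TernaryAutData

/-- For each level, image list, inverse list and scaling of an automorphism fixing the earlier base points. -/
def repData : List (List (List ℕ × List ℕ × List (ZMod 3))) :=
  [[
    ([0,1,2,3,4,5,6,7,8,9,10,11],[0,1,2,3,4,5,6,7,8,9,10,11],[1,1,1,1,1,1,1,1,1,1,1,1]),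
    ([1,0,2,3,4,5,11,9,10,7,8,6],[1,0,2,3,4,5,11,9,10,7,8,6],[1,1,1,1,1,1,1,1,1,1,1,1]),
    ([2,0,1,3,4,5,8,6,7,10,11,9],[1,2,0,3,4,5,7,8,6,11,9,10],[1,1,1,1,1,1,1,1,1,1,1,1]),
    ([3,0,1,2,4,5,10,7,6,8,9,11],[1,2,3,0,4,5,8,7,9,10,6,11],[1,1,2,2,1,1,2,2,1,2,1,2]),
    ([4,0,1,2,3,5,6,9,10,11,7,8],[1,2,3,4,0,5,6,10,11,7,8,9],[1,1,2,1,2,1,1,2,2,2,2,1]),
    ([5,0,1,2,3,4,9,6,8,7,11,10],[1,2,3,4,5,0,7,9,8,6,11,10],[1,1,2,1,1,2,2,1,2,1,2,2]),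
    ([6,0,1,2,3,9,5,4,7,10,8,11],[1,2,3,4,7,6,0,8,10,5,9,11],[1,2,1,1,2,1,2,2,2,1,1,2]),
    ([7,0,1,2,3,11,10,8,9,4,5,6],[1,2,3,4,9,10,11,0,7,8,6,5],[1,2,2,2,2,1,1,1,1,1,2,2]),
    ([8,0,1,2,3,10,7,11,4,6,9,5],[1,2,3,4,8,11,9,6,0,10,5,7],[1,1,1,2,1,1,2,2,1,1,2,1]),
    ([9,0,1,2,3,6,4,5,11,8,10,7],[1,2,3,4,6,7,5,11,9,0,10,8],[1,2,1,1,1,2,1,2,1,2,2,2]),
    ([10,0,1,2,3,8,11,7,5,9,6,4],[1,2,3,4,11,8,10,7,5,9,0,6],[1,1,1,2,1,1,1,1,2,2,1,2]),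
    ([11,0,1,2,3,7,8,10,6,5,4,9],[1,2,3,4,10,9,8,5,6,11,7,0],[1,2,2,2,1,2,1,2,2,1,1,1])],
   [
    ([0,1,2,3,4,5,6,7,8,9,10,11],[0,1,2,3,4,5,6,7,8,9,10,11],[1,1,1,1,1,1,1,1,1,1,1,1]),
    ([0,2,1,3,4,5,9,10,11,6,7,8],[0,2,1,3,4,5,9,10,11,6,7,8],[1,1,1,1,1,1,1,1,1,1,1,1]),
    ([0,3,1,2,4,5,11,8,9,7,6,10],[0,2,3,1,4,5,10,9,7,8,11,6],[1,1,2,2,1,1,2,2,1,2,1,2]),
    ([0,4,1,2,3,5,8,11,7,9,10,6],[0,2,3,4,1,5,11,8,6,9,10,7],[1,1,2,1,2,1,1,2,2,2,2,1]),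
    ([0,5,1,2,3,4,10,7,11,6,8,9],[0,2,3,4,5,1,9,7,10,11,6,8],[1,1,2,1,1,2,2,1,2,1,2,2]),
    ([0,6,1,2,3,9,11,10,8,4,7,5],[0,2,3,4,9,11,1,10,8,5,7,6],[1,2,1,1,2,1,2,2,2,1,1,2]),
    ([0,7,1,2,3,11,6,4,5,8,9,10],[0,2,3,4,7,8,6,1,9,10,11,5],[1,2,2,2,2,1,1,1,1,1,2,2]),
    ([0,8,1,2,3,10,5,6,9,11,4,7],[0,2,3,4,10,6,7,11,1,8,5,9],[1,1,1,2,1,1,2,2,1,1,2,1]),
    ([0,9,1,2,3,6,7,8,10,5,11,4],[0,2,3,4,11,9,5,6,7,1,8,10],[1,2,1,1,1,2,1,2,1,2,2,2]),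
    ([0,10,1,2,3,8,4,9,6,7,5,11],[0,2,3,4,6,10,8,9,5,7,1,11],[1,1,1,2,1,1,1,1,2,2,1,2]),
    ([0,11,1,2,3,7,9,5,4,10,6,8],[0,2,3,4,8,7,10,5,11,6,9,1],[1,2,2,2,1,2,1,2,2,1,1,1])],
   [
    ([0,1,2,3,4,5,6,7,8,9,10,11],[0,1,2,3,4,5,6,7,8,9,10,11],[1,1,1,1,1,1,1,1,1,1,1,1]),
    ([0,1,3,2,4,5,7,6,10,11,8,9],[0,1,3,2,4,5,7,6,10,11,8,9],[1,1,2,2,1,1,2,2,1,2,1,2]),
    ([0,1,4,2,3,5,9,10,6,8,11,7],[0,1,3,4,2,5,8,11,9,6,7,10],[1,1,2,1,2,1,1,2,2,2,2,1]),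
    ([0,1,5,2,3,4,6,8,9,10,7,11],[0,1,3,4,5,2,6,10,7,8,9,11],[1,1,2,1,1,2,2,1,2,1,2,2]),
    ([0,1,6,2,3,9,4,7,5,11,10,8],[0,1,3,4,6,8,2,7,11,5,10,9],[1,2,1,1,2,1,2,2,2,1,1,2]),
    ([0,1,7,2,3,11,8,9,10,6,4,5],[0,1,3,4,10,11,9,2,6,7,8,5],[1,2,2,2,2,1,1,1,1,1,2,2]),
    ([0,1,8,2,3,10,11,4,7,5,6,9],[0,1,3,4,7,9,10,8,2,11,5,6],[1,1,1,2,1,1,2,2,1,1,2,1]),
    ([0,1,9,2,3,6,5,11,4,7,8,10],[0,1,3,4,8,6,5,9,10,2,11,7],[1,2,1,1,1,2,1,2,1,2,2,2]),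
    ([0,1,10,2,3,8,7,5,11,4,9,6],[0,1,3,4,9,7,11,6,5,10,2,8],[1,1,1,2,1,1,1,1,2,2,1,2]),
    ([0,1,11,2,3,7,10,6,8,9,5,4],[0,1,3,4,11,10,7,5,8,9,6,2],[1,2,2,2,1,2,1,2,2,1,1,1])],
   [
    ([0,1,2,3,4,5,6,7,8,9,10,11],[0,1,2,3,4,5,6,7,8,9,10,11],[1,1,1,1,1,1,1,1,1,1,1,1]),
    ([0,1,2,4,3,5,10,9,11,7,6,8],[0,1,2,4,3,5,10,9,11,7,6,8],[1,1,1,1,1,1,1,1,1,1,1,1]),
    ([0,1,2,5,3,4,8,6,7,11,9,10],[0,1,2,4,5,3,7,8,6,10,11,9],[1,1,1,1,1,1,1,1,1,1,1,1]),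
    ([0,1,2,6,3,9,7,4,10,8,5,11],[0,1,2,4,7,10,3,6,9,5,8,11],[1,2,2,1,1,1,1,1,1,1,1,1]),
    ([0,1,2,7,3,11,9,8,4,5,10,6],[0,1,2,4,8,9,11,3,7,6,10,5],[1,2,1,2,2,2,2,2,2,2,2,2]),
    ([0,1,2,8,3,10,4,11,6,9,7,5],[0,1,2,4,6,11,8,10,3,9,5,7],[1,1,2,2,2,2,2,2,2,2,2,2]),
    ([0,1,2,9,3,6,11,5,8,10,4,7],[0,1,2,4,10,7,5,11,8,3,9,6],[1,2,2,1,1,1,1,1,1,1,1,1]),
    ([0,1,2,10,3,8,5,7,9,6,11,4],[0,1,2,4,11,6,9,7,5,8,3,10],[1,1,2,2,2,2,2,2,2,2,2,2]),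
    ([0,1,2,11,3,7,6,10,5,4,8,9],[0,1,2,4,9,8,6,5,10,11,7,3],[1,2,1,2,2,2,2,2,2,2,2,2])],
   [
    ([0,1,2,3,4,5,6,7,8,9,10,11],[0,1,2,3,4,5,6,7,8,9,10,11],[1,1,1,1,1,1,1,1,1,1,1,1]),
    ([0,1,2,3,5,4,9,11,10,6,8,7],[0,1,2,3,5,4,9,11,10,6,8,7],[1,1,1,1,1,1,1,1,1,1,1,1]),
    ([0,1,2,3,6,9,5,8,11,4,7,10],[0,1,2,3,9,6,4,10,7,5,11,8],[1,2,2,1,1,1,1,1,1,1,1,1]),
    ([0,1,2,3,7,11,10,5,6,8,9,4],[0,1,2,3,11,7,8,4,9,10,6,5],[1,2,1,2,2,2,2,2,2,2,2,2]),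
    ([0,1,2,3,8,10,7,9,5,11,4,6],[0,1,2,3,10,8,11,6,4,7,5,9],[1,1,2,2,2,2,2,2,2,2,2,2]),
    ([0,1,2,3,9,6,4,10,7,5,11,8],[0,1,2,3,6,9,5,8,11,4,7,10],[1,2,2,1,1,1,1,1,1,1,1,1]),
    ([0,1,2,3,10,8,11,6,4,7,5,9],[0,1,2,3,8,10,7,9,5,11,4,6],[1,1,2,2,2,2,2,2,2,2,2,2]),
    ([0,1,2,3,11,7,8,4,9,10,6,5],[0,1,2,3,7,11,10,5,6,8,9,4],[1,2,1,2,2,2,2,2,2,2,2,2])]]

/-- Four points of the base hexad, the three pairs completing them, and information symbols of the words. -/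
def synData : List (List ℕ × List (List ℕ × List (ZMod 3))) :=
  [([0,1,2,3], [([6,9],[1,2,2,2,0,2]), ([7,11],[2,1,2,2,0,0]), ([8,10],[1,1,2,1,0,0])]),
   ([0,1,2,4], [([6,11],[2,2,1,0,2,2]), ([7,10],[1,2,2,0,2,0]), ([8,9],[1,2,1,0,1,0])]),
   ([0,1,2,5], [([6,10],[1,2,1,0,0,1]), ([7,9],[1,1,2,0,0,0]), ([8,11],[1,2,2,0,0,0])]),
   ([0,1,3,4], [([6,8],[2,1,0,2,1,2]), ([7,9],[1,1,0,1,1,0]), ([10,11],[1,2,0,2,1,0])]),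
   ([0,1,3,5], [([6,11],[1,1,0,1,0,2]), ([7,8],[1,2,0,2,0,0]), ([9,10],[2,1,0,2,0,0])]),
   ([0,1,4,5], [([6,7],[1,2,0,0,1,2]), ([8,10],[1,1,0,0,1,0]), ([9,11],[1,2,0,0,2,0])]),
   ([0,2,3,4], [([6,10],[1,0,1,1,1,2]), ([7,8],[2,0,1,1,2,0]), ([9,11],[2,0,1,2,1,0])]),
   ([0,2,3,5], [([6,7],[2,0,1,2,0,2]), ([8,9],[1,0,1,1,0,0]), ([10,11],[1,0,2,2,0,0])]),
   ([0,2,4,5], [([6,8],[1,0,2,0,2,2]), ([7,11],[1,0,1,0,1,0]), ([9,10],[2,0,1,0,2,0])]),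
   ([0,3,4,5], [([6,9],[2,0,0,1,2,2]), ([7,10],[2,0,0,2,1,0]), ([8,11],[1,0,0,1,1,0])]),
   ([1,2,3,4], [([6,7],[0,2,1,2,1,1]), ([8,11],[0,1,1,1,1,0]), ([9,10],[0,1,2,2,1,0])]),
   ([1,2,3,5], [([6,8],[0,2,1,1,0,2]), ([7,10],[0,2,2,2,0,0]), ([9,11],[0,2,1,2,0,0])]),
   ([1,2,4,5], [([6,9],[0,2,2,0,2,1]), ([7,8],[0,2,1,0,2,0]), ([10,11],[0,2,1,0,1,0])]),
   ([1,3,4,5], [([6,10],[0,2,0,2,2,2]), ([7,11],[0,1,0,2,1,0]), ([8,9],[0,2,0,2,1,0])]),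
   ([2,3,4,5], [([6,11],[0,0,1,1,2,1]), ([7,9],[0,0,1,1,1,0]), ([8,10],[0,0,1,2,1,0])])]

/-- For each point outside, two pairs through it, each cut out by two entries of `synData`. -/
def pinData : List (ℕ × List (List ℕ × ℕ × ℕ)) :=
  [(6, [([6,7],5,7), ([6,8],3,8)]), (7, [([6,7],5,7), ([7,8],4,6)]), (8, [([6,8],3,8), ([7,8],4,6)]), (9, [([6,9],0,9), ([7,9],2,3)]), (10, [([6,10],2,6), ([7,10],1,9)]), (11, [([6,11],1,4), ([7,11],0,8)])]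

end Cfsg.Agent.TernaryAutData
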