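import Cfsg.Agent.TernaryHexads
import Cfsg.Agent.TernaryAutData
import Cfsg.Agent.Lib.Monomial.Basic

/-!
# The monomial automorphism group of the ternary code of length 12
-/

set_option autoImplicit false

namespace Cfsg.Agent.TernaryAut

open Cfsg
open Cfsg.Agent.TernaryGolay Cfsg.Agent.TernaryHexads Cfsg.Agent.TernaryAutData
open CfsgLib.Monomial
open scoped Pointwise

/-- The positions in a fixed order. -/
def pts : Fin 12 → ArrayPt :=
  ![(0, 0), (0, 1), (0, 2), (1, 0), (1, 1), (1, 2), (2, 0), (2, 1), (2, 2), (3, 0), (3, 1), (3, 2)]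

/-- Index of a position. -/
def idx (p : ArrayPt) : ℕ := 3 * p.1.val + p.2.val

/-- Position of an index. -/
def pt (n : ℕ) : ArrayPt := pts ⟨n % 12, Nat.mod_lt _ (by norm_num)⟩

theorem pts_surj : ∀ p : ArrayPt, ∃ i, pts i = p := by decide +kernel

theorem forall_pts {P : ArrayPt → Prop} (h : ∀ i, P (pts i)) (p : ArrayPt) : P p := by
  obtain ⟨i, rfl⟩ := pts_surj p; exact h i

/-- The map of an image list. -/
def app (l : List ℕ) (p : ArrayPt) : ArrayPt := pt (l.getD (idx p) 0)

/-- A scaling list. -/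
def scl (c : List (ZMod 3)) (p : ArrayPt) : ZMod 3 := c.getD (idx p) 0

/-- The monomial image of a generator. -/
def imgGen (li : List ℕ) (c : List (ZMod 3)) (k : Fin 6) (p : ArrayPt) : ZMod 3 :=
  scl c p * genTable k (app li p).1 (app li p).2

/-- An entry describes an automorphism fixing the first base points and moving the next one to a given place. -/
def repOK (lev q : ℕ) (e : List ℕ × List ℕ × List (ZMod 3)) : Bool :=
  ((List.finRange 12).all fun i =>
    app e.2.1 (app e.1 (pts i)) == pts i && app e.1 (app e.2.1 (pts i)) == pts i &&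
      scl e.2.2 (pts i) != 0 &&
      (List.finRange 6).all fun k => word (info (imgGen e.2.1 e.2.2 k)) (pts i) == imgGen e.2.1 e.2.2 k (pts i)) &&
    (List.range lev).all (fun j => app e.1 (pt j) == pt j) && app e.1 (pt lev) == pt q

theorem reps_ok : ∀ lev : Fin 5, ∀ q : Fin 12, lev.val ≤ q.val →
    ((repData.getD lev.val []).any fun e => repOK lev.val q.val e) = true := by decide +kernel

theorem exists_rep (lev : Fin 5) (q : ArrayPt) (hq : ∀ j < lev.val, q ≠ pt j) :
    ∃ σ ∈ permParts ternaryGolayCode, (∀ j < lev.val, σ (pt j) = pt j) ∧ σ (pt lev.val) = q := by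
  obtain ⟨i, rfl⟩ := pts_surj q
  have hi : lev.val ≤ i.val := by
    by_contra hlt
    refine hq i.val (not_le.1 hlt) ?_
    simp [pt, Nat.mod_eq_of_lt i.isLt]
  have h := reps_ok lev i hi
  rw [List.any_eq_true] at h
  obtain ⟨⟨l, li, c⟩, -, h⟩ := h
  simp only [repOK, Bool.and_eq_true, List.all_eq_true, List.mem_finRange, true_implies, beq_iff_eq,
    bne_iff_ne, List.mem_range] at h
  obtain ⟨⟨hall, hfix⟩, hmove⟩ := h
  let σ : Equiv.Perm ArrayPt :=
    ⟨app l, app li, forall_pts fun i => (hall i).1.1.1, forall_pts fun i => (hall i).1.1.2⟩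
  let u : ArrayPt → (ZMod 3)ˣ := fun p => Units.mk0 (scl c p) (forall_pts (P := fun p => scl c p ≠ 0) (fun i => (hall i).1.2) p)
  refine ⟨σ, ⟨u, ?_⟩, hfix, ?_⟩
  · have hk : ∀ k, monomialMap σ u (fun p => genTable k p.1 p.2) ∈ ternaryGolayCode := by
      intro k
      have : monomialMap σ u (fun p => genTable k p.1 p.2) = word (info (imgGen li c k)) :=
        funext (forall_pts fun i => by rw [(hall i).2 k]; rfl)
      rw [this]; exact word_mem _
    intro x hx
    have hx' : x = ∑ k, info x k • fun p : ArrayPt => genTable k p.1 p.2 := by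
      conv_lhs => rw [eq_word_info hx]
      funext p; simp [word, Finset.sum_apply]
    rw [hx', map_sum_smul]
    exact Submodule.sum_mem _ fun k _ => Submodule.smul_mem _ _ (hk k)
  · show app l (pt lev.val) = pts i
    rw [hmove]
    simp [pt, Nat.mod_eq_of_lt i.isLt]

theorem exists_five (f : Fin 5 ↪ ArrayPt) :
    ∀ k ≤ 5, ∃ σ ∈ permParts ternaryGolayCode, ∀ j : Fin 5, j.val < k → σ (pt j.val) = f j := by
  intro k
  induction k with
  | zero => exact fun _ => ⟨1, Subgroup.one_mem _, fun j hj => absurd hj (Nat.not_lt_zero _)⟩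
  | succ k ih =>
    intro hk
    obtain ⟨σ, hσ, hσj⟩ := ih (by omega)
    obtain ⟨τ, hτ, hfix, hmove⟩ := exists_rep ⟨k, by omega⟩ (σ.symm (f ⟨k, by omega⟩)) (by
      intro j hj e
      have hj' : j < k := hj
      have h1 := hσj ⟨j, by omega⟩ hj'
      rw [Equiv.symm_apply_eq] at e
      have := f.injective (e.trans h1)
      simp [Fin.ext_iff] at this
      omega)
    refine ⟨σ * τ, Subgroup.mul_mem _ hσ hτ, fun j hj => ?_⟩
    rw [Equiv.Perm.mul_apply]
    rcases Nat.lt_succ_iff_lt_or_eq.1 hj with hlt | heq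
    · rw [hfix _ hlt, hσj j hlt]
    · have : j = ⟨k, by omega⟩ := Fin.ext heq
      rw [this]
      rw [hmove, Equiv.apply_symm_apply]

theorem mem_support_iff {x : ArrayPt → ZMod 3} {p : ArrayPt} : p ∈ ternarySupport x ↔ x p ≠ 0 := by
  simp [ternarySupport]

theorem support_map (σ : Equiv.Perm ArrayPt) (c : ArrayPt → (ZMod 3)ˣ) (x : ArrayPt → ZMod 3) :
    ternarySupport (monomialMap σ c x) = σ • ternarySupport x := by
  ext p
  rw [Finset.mem_smul_finset]
  constructor
  · intro hp
    refine ⟨σ.symm p, ?_, by simp⟩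
    rw [mem_support_iff, map_apply] at hp
    rw [mem_support_iff]
    exact right_ne_zero_of_mul hp
  · rintro ⟨q, hq, rfl⟩
    rw [mem_support_iff] at hq
    rw [mem_support_iff, map_apply, Equiv.Perm.smul_def, Equiv.symm_apply_apply]
    exact mul_ne_zero (Units.ne_zero _) hq

theorem permParts_le : permParts ternaryGolayCode ≤ setSystemAut hexads := by
  intro σ hσ
  obtain ⟨c, hc⟩ := hσ
  rw [MulAction.mem_stabilizer_set_iff_subset_smul_set (Set.toFinite _)]
  intro h hh
  obtain ⟨x, hx, rfl, h6⟩ := hh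
  obtain ⟨y, hy, rfl⟩ := hc.surj hx
  refine Set.mem_smul_set.2 ⟨ternarySupport y, ⟨y, hy, rfl, ?_⟩, (support_map σ c y).symm⟩
  rw [support_map, Finset.card_smul_finset] at h6
  exact h6

/-- The base hexad. -/
def baseHexad : Finset ArrayPt := ([0, 1, 2, 3, 4, 5].map pt).toFinset

/-- A hexad given by information symbols. -/
def synHexad (a : List (ZMod 3)) : Finset ArrayPt := ternarySupport (word fun k => a.getD k.val 0)

theorem syn_ok : ∀ e ∈ synData, (e.1.map pt).toFinset ⊆ baseHexad ∧ (e.1.map pt).toFinset.card = 4 ∧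
    (∀ x : ArrayPt, x ∉ baseHexad → ∃ p ∈ e.2, x ∈ (p.1.map pt).toFinset) ∧
    ∀ p ∈ e.2, synHexad p.2 = (e.1.map pt).toFinset ∪ (p.1.map pt).toFinset ∧
      (synHexad p.2).card = 6 ∧ Disjoint baseHexad (p.1.map pt).toFinset := by decide +kernel

/-- A point set from a list of indices. -/
def ptSet (l : List ℕ) : Finset ArrayPt := (l.map pt).toFinset

/-- The pairs completing an entry. -/
def pairsAt (i : ℕ) : List (List ℕ × List (ZMod 3)) := (synData.getD i ([], [])).2

/-- A pair is cut out by two entries. -/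
def pinPair (d : List ℕ × ℕ × ℕ) : Bool :=
  decide (d.2.1 < synData.length) && decide (d.2.2 < synData.length) &&
    (pairsAt d.2.1).any (fun p => decide (ptSet p.1 = ptSet d.1)) &&
    (pairsAt d.2.2).any (fun p => decide (ptSet p.1 = ptSet d.1)) &&
    (pairsAt d.2.1).all fun p => (pairsAt d.2.2).all fun p' =>
      !decide (ptSet p.1 = ptSet p'.1) || decide (ptSet p.1 = ptSet d.1)

theorem pin_ok : ∀ x : ArrayPt, x ∉ baseHexad → ∃ e ∈ pinData, ∃ a ∈ e.2, ∃ b ∈ e.2,
    ptSet a.1 ∩ ptSet b.1 = {x} ∧ pinPair a = true ∧ pinPair b = true := by decide +kernel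

theorem smul_mem_hexads {σ : Equiv.Perm ArrayPt} (hσ : σ ∈ setSystemAut hexads) {h : Finset ArrayPt}
    (hh : h ∈ hexads) : σ • h ∈ hexads :=
  (MulAction.mem_stabilizer_iff.1 hσ) ▸ Set.smul_mem_smul_set hh

theorem synHexad_mem (a : List (ZMod 3)) (h : (synHexad a).card = 6) : synHexad a ∈ hexads :=
  ⟨_, word_mem _, rfl, h⟩

theorem baseHexad_mem : baseHexad ∈ hexads := by
  obtain ⟨a, h1, h2⟩ : ∃ a : Fin 6 → ZMod 3, (ternarySupport (word a)).card = 6 ∧
      ternarySupport (word a) = baseHexad := by decide +kernel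
  exact ⟨word a, word_mem a, h2, h2 ▸ h1⟩

theorem eq_one_of_fix {σ : Equiv.Perm ArrayPt} (hσ : σ ∈ setSystemAut hexads)
    (hfix : ∀ j : Fin 5, σ (pt j.val) = pt j.val) : σ = 1 := by
  classical
  set T : Finset ArrayPt := Finset.univ.image fun j : Fin 5 => pt j.val with hT
  have hTb : T ⊆ baseHexad ∧ T.card = 5 := by rw [hT]; decide +kernel
  have hb : σ • baseHexad = baseHexad := by
    refine hexad_unique (smul_mem_hexads hσ baseHexad_mem) baseHexad_mem ?_
    rw [← hTb.2]
    refine Finset.card_le_card (Finset.subset_inter ?_ hTb.1)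
    intro x hx
    obtain ⟨j, -, rfl⟩ := Finset.mem_image.1 hx
    exact Finset.mem_smul_finset.2 ⟨pt j.val, hTb.1 hx, hfix j⟩
  have hin : ∀ x ∈ baseHexad, σ x = x := by
    intro x hx
    by_cases hxT : x ∈ T
    · obtain ⟨j, -, rfl⟩ := Finset.mem_image.1 hxT; exact hfix j
    · have hsd : baseHexad \ T = {x} := by
        symm
        refine Finset.eq_of_subset_of_card_le
          (Finset.singleton_subset_iff.2 (Finset.mem_sdiff.2 ⟨hx, hxT⟩)) ?_
        rw [Finset.card_sdiff_of_subset hTb.1, hTb.2, Finset.card_singleton]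
        decide +kernel
      have : σ x ∈ baseHexad \ T := by
        rw [Finset.mem_sdiff]
        refine ⟨hb ▸ Finset.smul_mem_smul_finset hx, fun h => ?_⟩
        obtain ⟨j, -, hj⟩ := Finset.mem_image.1 h
        rw [← hfix j] at hj
        exact hxT (Finset.mem_image.2 ⟨j, Finset.mem_univ _, σ.injective hj⟩)
      rw [hsd, Finset.mem_singleton] at this
      exact this
  have hsyn : ∀ e ∈ synData, ∀ p ∈ e.2, ∃ p' ∈ e.2,
      σ • (p.1.map pt).toFinset = (p'.1.map pt).toFinset := by
    intro e he p hp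
    obtain ⟨hFb, hF4, hcov, hpair⟩ := syn_ok e he
    obtain ⟨hH, hH6, hd⟩ := hpair p hp
    set F := (e.1.map pt).toFinset with hF
    set P := (p.1.map pt).toFinset with hP
    have hσF : σ • F = F := by
      refine Finset.eq_of_subset_of_card_le ?_ (Finset.card_smul_finset _ _).ge
      intro y hy
      obtain ⟨x, hx, rfl⟩ := Finset.mem_smul_finset.1 hy
      rw [Equiv.Perm.smul_def, hin x (hFb hx)]; exact hx
    have hh := smul_mem_hexads hσ (synHexad_mem _ hH6)
    have h6 : (σ • synHexad p.2).card = 6 := by rw [Finset.card_smul_finset, hH6]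
    rw [hH, Finset.smul_finset_union, hσF] at hh h6
    have hd' : Disjoint baseHexad (σ • P) := by
      rw [← hb]
      exact Finset.disjoint_left.2 fun y hy hy' => by
        obtain ⟨u, hu, rfl⟩ := Finset.mem_smul_finset.1 hy
        obtain ⟨v, hv, e⟩ := Finset.mem_smul_finset.1 hy'
        exact Finset.disjoint_left.1 hd hu ((smul_left_cancel σ e) ▸ hv)
    obtain ⟨x, hx⟩ : (σ • P).Nonempty := by
      rw [Finset.smul_finset_nonempty, ← Finset.card_pos]
      have := Finset.card_union_le F P
      rw [hH] at hH6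
      omega
    have hxb : x ∉ baseHexad := Finset.disjoint_right.1 hd' hx
    obtain ⟨p', hp', hxp'⟩ := hcov x hxb
    obtain ⟨hH', hH6', hd''⟩ := hpair p' hp'
    refine ⟨p', hp', ?_⟩
    have heq : F ∪ σ • P = F ∪ (p'.1.map pt).toFinset := by
      refine hexad_unique hh (hH' ▸ synHexad_mem _ hH6') ?_
      have : insert x F ⊆ (F ∪ σ • P) ∩ (F ∪ (p'.1.map pt).toFinset) := by
        intro y hy
        rcases Finset.mem_insert.1 hy with e | hy
        · subst e
          exact Finset.mem_inter.2 ⟨Finset.mem_union_right _ hx, Finset.mem_union_right _ hxp'⟩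
        · exact Finset.mem_inter.2 ⟨Finset.mem_union_left _ hy, Finset.mem_union_left _ hy⟩
      have hc := Finset.card_le_card this
      rw [Finset.card_insert_of_notMem (fun h => hxb (hFb h)), hF4] at hc
      exact hc
    have h1 := Finset.union_sdiff_cancel_left (hd'.mono_left hFb)
    have h2 := Finset.union_sdiff_cancel_left (hd''.mono_left hFb)
    rw [← h1, heq, h2]
  ext1 x
  by_cases hx : x ∈ baseHexad
  · exact hin x hx
  obtain ⟨e, -, a, ha, b, hb', hab, hda, hdb⟩ := pin_ok x hx
  have fixpair : ∀ d ∈ [a, b], σ • (d.1.map pt).toFinset = (d.1.map pt).toFinset := by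
    intro d hdm
    have hd : pinPair d = true := by
      simp only [List.mem_cons, List.not_mem_nil, or_false] at hdm
      rcases hdm with rfl | rfl <;> assumption
    simp only [pinPair, Bool.and_eq_true, decide_eq_true_eq, List.any_eq_true, List.all_eq_true,
      Bool.or_eq_true, Bool.not_eq_true', decide_eq_false_iff_not, ← imp_iff_not_or] at hd
    simp only [ptSet, pairsAt] at hd
    obtain ⟨⟨⟨⟨hl1, hl2⟩, ⟨p1, hp1, e1⟩⟩, ⟨p2, hp2, e2⟩⟩, huni⟩ := hd
    have hm : ∀ i < synData.length, synData.getD i ([], []) ∈ synData := fun i hi => by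
      rw [List.getD_eq_getElem _ _ hi]; exact List.getElem_mem _
    obtain ⟨q1, hq1, f1⟩ := hsyn _ (hm _ hl1) p1 hp1
    obtain ⟨q2, hq2, f2⟩ := hsyn _ (hm _ hl2) p2 hp2
    rw [e1] at f1
    rw [e2] at f2
    rw [f1]
    exact huni q1 hq1 q2 hq2 (f1.symm.trans f2)
  have hxmem : x ∈ ({x} : Finset ArrayPt) := Finset.mem_singleton_self x
  simp only [ptSet] at hab
  rw [← hab, Finset.mem_inter] at hxmem
  have : σ x ∈ (a.1.map pt).toFinset ∩ (b.1.map pt).toFinset := by
    rw [Finset.mem_inter]
    exact ⟨(fixpair a (by simp)) ▸ Finset.smul_mem_smul_finset hxmem.1,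
      (fixpair b (by simp)) ▸ Finset.smul_mem_smul_finset hxmem.2⟩
  rw [hab, Finset.mem_singleton] at this
  simpa using this

/-- Images of the five base points. -/
def five (H : Subgroup (Equiv.Perm ArrayPt)) (σ : H) : Fin 5 ↪ ArrayPt :=
  ⟨fun j => σ.val (pt j.val), fun i j h => by
    have := σ.val.injective h
    exact (show ∀ i j : Fin 5, pt i.val = pt j.val → i = j by decide +kernel) i j this⟩

theorem five_injective : Function.Injective (five (setSystemAut hexads)) := by
  intro σ τ h
  have h1 : (τ⁻¹ * σ : setSystemAut hexads).val = 1 := eq_one_of_fix (τ⁻¹ * σ).2 fun j => by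
    have := congrArg (fun f : Fin 5 ↪ ArrayPt => f j) h
    replace this : σ.val (pt j.val) = τ.val (pt j.val) := this
    rw [Subgroup.coe_mul, Subgroup.coe_inv, Equiv.Perm.mul_apply, this, Equiv.Perm.inv_def,
      Equiv.symm_apply_apply]
  exact (inv_mul_eq_one.1 (Subtype.ext h1)).symm

theorem five_surjective : Function.Surjective (five (permParts ternaryGolayCode)) := by
  intro f
  obtain ⟨σ, hσ, h⟩ := exists_five f 5 le_rfl
  exact ⟨⟨σ, hσ⟩, DFunLike.ext _ _ fun j => h j j.isLt⟩

theorem permParts_eq : permParts ternaryGolayCode = setSystemAut hexads := by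
  refine le_antisymm permParts_le fun σ hσ => ?_
  obtain ⟨⟨τ, hτ⟩, h⟩ := five_surjective (five _ ⟨σ, hσ⟩)
  have hh : five (setSystemAut hexads) ⟨τ, permParts_le hτ⟩ = five _ ⟨σ, hσ⟩ := by
    rw [← h]; rfl
  have := congrArg Subtype.val (five_injective hh)
  dsimp only at this
  exact this ▸ hτ

theorem natCard_permParts : Nat.card (permParts ternaryGolayCode) = 95040 := by
  rw [permParts_eq, Nat.card_eq_of_bijective (five (setSystemAut hexads))
    ⟨five_injective, fun f => ?_⟩, Nat.card_eq_fintype_card, Fintype.card_embedding_eq]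
  · rfl
  · obtain ⟨⟨τ, hτ⟩, h⟩ := five_surjective f
    exact ⟨⟨τ, permParts_le hτ⟩, by rw [← h]; rfl⟩

theorem natCard_automorphisms :
    Nat.card {f : Equiv.Perm ArrayPt × (ArrayPt → (ZMod 3)ˣ) //
      Preserves ternaryGolayCode f.1 f.2} = 190080 := by
  rw [CfsgLib.Monomial.natCard_automorphisms signs_const, natCard_permParts,
    Nat.card_eq_fintype_card, ZMod.card_units]

end Cfsg.Agent.TernaryAut
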