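import Cfsg.Statements.S1595
import Cfsg.Agent.Lib.Combin.SteinerCount

set_option autoImplicit false
open Cfsg
open CfsgLib.Combin.SteinerCount

namespace Cfsg.Agent.S1595

/-- Leech triangle of S(5, 6, 12): blocks meet in 0, 2, 3 or 4 points, and a block is met exactly in a given 2-, 3- or 4-subset by 3, 2, 3 blocks respectively. -/
theorem result {α : Type*} [Fintype α] [DecidableEq α] (hα : Fintype.card α = 12) {B : Set (Finset α)} (hB : Cfsg.IsSteinerSystem 5 6 B) (b : Finset α) (hb : b ∈ B) : (∀ c ∈ B, c ≠ b → (b ∩ c).card = 0 ∨ (b ∩ c).card = 2 ∨ (b ∩ c).card = 3 ∨ (b ∩ c).card = 4) ∧ ∀ s ⊆ b, (s.card = 2 → {c : Finset α | c ∈ B ∧ b ∩ c = s}.ncard = 3) ∧ (s.card = 3 → {c : Finset α | c ∈ B ∧ b ∩ c = s}.ncard = 2) ∧ (s.card = 4 → {c : Finset α | c ∈ B ∧ b ∩ c = s}.ncard = 3) := by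
  classical
  have hlam : ∀ T : Finset α, T.card ≤ 5 →
      (blocksThrough B T).card = [132, 66, 30, 12, 4, 1].getD T.card 0 := by
    intro T hT
    have h := card_blocksThrough_mul hB T hT
    rw [hα] at h
    generalize (blocksThrough B T).card = n at h ⊢
    generalize T.card = i at h hT ⊢
    interval_cases i <;> norm_num [Nat.choose] at h ⊢ <;> omega
  set N : Finset α → ℕ := fun t => (((blocksThrough B ∅).erase b).filter fun c => b ∩ c = t).card
    with hN
  have hb6 : b.card = 6 := hB.1 b hb
  have htop : ∀ t, 5 ≤ t.card → N t = 0 := by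
    intro t ht
    refine Finset.card_eq_zero.2 (Finset.filter_eq_empty_iff.2 ?_)
    intro c hc hbc
    rw [Finset.mem_erase, mem_blocksThrough] at hc
    subst hbc
    obtain ⟨s, hs, hs5⟩ := Finset.exists_subset_card_eq ht
    obtain ⟨u, -, hu⟩ := hB.2 s hs5
    exact hc.1 ((hu c ⟨hc.2.1, hs.trans Finset.inter_subset_right⟩).trans
      (hu b ⟨hb, hs.trans Finset.inter_subset_left⟩).symm)
  have hrec : ∀ s ⊆ b, s.card ≤ 5 →
      [132, 66, 30, 12, 4, 1].getD s.card 0 = 1 + ∑ j ∈ Finset.range (6 - s.card + 1),
        ∑ u ∈ (b \ s).powersetCard j, N (s ∪ u) := by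
    intro s hs hs5
    have hcard : (b \ s).card = 6 - s.card := by rw [Finset.card_sdiff_of_subset hs, hb6]
    rw [← hcard, ← Finset.sum_powerset, ← hlam s hs5,
      ← Finset.card_erase_add_one ((mem_blocksThrough).2 ⟨hb, hs⟩), add_comm]
    congr 1
    rw [Finset.card_eq_sum_card_fiberwise (f := fun c => (b ∩ c) \ s) (t := (b \ s).powerset)
      (fun c _ => Finset.mem_powerset.2 (Finset.sdiff_subset_sdiff Finset.inter_subset_left
        (Finset.Subset.refl s)))]
    refine Finset.sum_congr rfl fun u hu => ?_
    rw [Finset.mem_powerset] at hu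
    congr 1
    ext c
    simp only [Finset.mem_filter, Finset.mem_erase, mem_blocksThrough, Finset.empty_subset, and_true]
    have hd : Disjoint s u := Finset.disjoint_right.2 fun a ha => (Finset.mem_sdiff.1 (hu ha)).2
    constructor
    · rintro ⟨⟨h1, h2, h3⟩, h4⟩
      refine ⟨⟨h1, h2⟩, ?_⟩
      rw [← h4, Finset.union_sdiff_of_subset (Finset.subset_inter hs h3)]
    · rintro ⟨⟨h1, h2⟩, h4⟩
      refine ⟨⟨h1, h2, ?_⟩, ?_⟩
      · exact (Finset.subset_union_left.trans_eq h4.symm).trans Finset.inter_subset_right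
      · rw [h4, Finset.union_sdiff_cancel_left hd]
  have step : ∀ (s : Finset α) (i j m : ℕ), s ⊆ b → s.card = i → 
      (∀ t ⊆ b, t.card = i + j → N t = m) →
      ∑ u ∈ (b \ s).powersetCard j, N (s ∪ u) = (6 - i).choose j * m := by
    intro s i j m hs hi h
    rw [Finset.sum_const_nat (m := m), Finset.card_powersetCard, Finset.card_sdiff_of_subset hs, hb6, hi]
    intro u hu
    rw [Finset.mem_powersetCard] at hu
    have hd : Disjoint s u := Finset.disjoint_right.2 fun a ha => (Finset.mem_sdiff.1 (hu.1 ha)).2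
    exact h _ (Finset.union_subset hs (hu.1.trans Finset.sdiff_subset))
      (by rw [Finset.card_union_of_disjoint hd, hi, hu.2])
  have h4 : ∀ t ⊆ b, t.card = 4 → N t = 3 := by
    intro t ht htc
    have := hrec t ht (by omega)
    rw [htc] at this
    simp only [Finset.sum_range_succ, Finset.sum_range_zero, Finset.powersetCard_zero,
      Finset.sum_singleton, Finset.union_empty] at this
    rw [step t 4 1 0 ht htc (fun u _ hu => htop u (by omega)),
      step t 4 2 0 ht htc (fun u _ hu => htop u (by omega))] at this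
    simp at this
    omega
  have h3 : ∀ t ⊆ b, t.card = 3 → N t = 2 := by
    intro t ht htc
    have := hrec t ht (by omega)
    rw [htc] at this
    simp only [Finset.sum_range_succ, Finset.sum_range_zero, Finset.powersetCard_zero,
      Finset.sum_singleton, Finset.union_empty] at this
    rw [step t 3 1 3 ht htc (fun u hu hu' => h4 u hu hu'),
      step t 3 2 0 ht htc (fun u _ hu => htop u (by omega)),
      step t 3 3 0 ht htc (fun u _ hu => htop u (by omega))] at this
    norm_num [Nat.choose] at this
    omega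
  have h2 : ∀ t ⊆ b, t.card = 2 → N t = 3 := by
    intro t ht htc
    have := hrec t ht (by omega)
    rw [htc] at this
    simp only [Finset.sum_range_succ, Finset.sum_range_zero, Finset.powersetCard_zero,
      Finset.sum_singleton, Finset.union_empty] at this
    rw [step t 2 1 2 ht htc (fun u hu hu' => h3 u hu hu'),
      step t 2 2 3 ht htc (fun u hu hu' => h4 u hu hu'),
      step t 2 3 0 ht htc (fun u _ hu => htop u (by omega)),
      step t 2 4 0 ht htc (fun u _ hu => htop u (by omega))] at this
    norm_num [Nat.choose] at this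
    omega
  have h1 : ∀ t ⊆ b, t.card = 1 → N t = 0 := by
    intro t ht htc
    have := hrec t ht (by omega)
    rw [htc] at this
    simp only [Finset.sum_range_succ, Finset.sum_range_zero, Finset.powersetCard_zero,
      Finset.sum_singleton, Finset.union_empty] at this
    rw [step t 1 1 3 ht htc (fun u hu hu' => h2 u hu hu'),
      step t 1 2 2 ht htc (fun u hu hu' => h3 u hu hu'),
      step t 1 3 3 ht htc (fun u hu hu' => h4 u hu hu'),
      step t 1 4 0 ht htc (fun u _ hu => htop u (by omega)),
      step t 1 5 0 ht htc (fun u _ hu => htop u (by omega))] at this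
    norm_num [Nat.choose] at this
    omega
  refine ⟨fun c hc hne => ?_, fun s hs => ?_⟩
  · have hpos : 0 < N (b ∩ c) := Finset.card_pos.2 ⟨c, by
      simp [mem_blocksThrough, hc, hne]⟩
    have hle := Finset.card_le_card (Finset.inter_subset_left : b ∩ c ⊆ b)
    by_contra hcon
    simp only [not_or] at hcon
    rcases (show (b ∩ c).card = 1 ∨ 5 ≤ (b ∩ c).card by omega) with h | h
    · have := h1 _ Finset.inter_subset_left h; omega
    · have := htop _ h; omega
  · have hset : s.card ≠ 6 → {c : Finset α | c ∈ B ∧ b ∩ c = s}.ncard = N s := by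
      intro hs6
      simp only [hN]
      rw [← Set.ncard_coe_finset]
      congr 1
      ext c
      simp only [Set.mem_ofPred_eq, Finset.coe_filter, Finset.mem_erase, mem_blocksThrough,
        Finset.empty_subset, and_true]
      constructor
      · rintro ⟨h, h'⟩
        refine ⟨⟨?_, h⟩, h'⟩
        rintro rfl
        rw [Finset.inter_self] at h'
        exact hs6 (h' ▸ hb6)
      · rintro ⟨⟨-, h⟩, h'⟩
        exact ⟨h, h'⟩
    refine ⟨fun h => ?_, fun h => ?_, fun h => ?_⟩
    · rw [hset (by omega), h2 s hs h]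
    · rw [hset (by omega), h3 s hs h]
    · rw [hset (by omega), h4 s hs h]

end Cfsg.Agent.S1595
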