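import Cfsg.Statements.S1598
import Cfsg.Agent.Lib.GolayTables.Apply

set_option autoImplicit false
open scoped Pointwise
open Cfsg CfsgLib.Golay CfsgLib.GolayTables

namespace Cfsg.Agent.S1598

/-- A quartet stabiliser inside the dodecad stabiliser has order 432, a normal subgroup of order 9 with quotient GL(2, 3), and is transitive on the dodecad. -/
theorem result (d : Finset Cfsg.GolayPt) (hd : d ∈ Cfsg.dodecads) (Q : Finset (Finset Cfsg.GolayPt)) (hQ : Q ∈ Cfsg.quartets d) : Nat.card ↥(MulAction.stabilizer Cfsg.M24 d ⊓ MulAction.stabilizer Cfsg.M24 Q) = 432 ∧ (∃ (N : Subgroup ↥(MulAction.stabilizer Cfsg.M24 d ⊓ MulAction.stabilizer Cfsg.M24 Q)) (_ : N.Normal), Nat.card N = 9 ∧ Nonempty (↥(MulAction.stabilizer Cfsg.M24 d ⊓ MulAction.stabilizer Cfsg.M24 Q) ⧸ N ≃* GL (Fin 2) (ZMod 3))) ∧ ∀ p ∈ d, ∀ q ∈ d, ∃ g ∈ (MulAction.stabilizer Cfsg.M24 d ⊓ MulAction.stabilizer Cfsg.M24 Q), ((g : ↥Cfsg.M24) : Equiv.Perm Cfsg.GolayPt)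 p = q := by
  obtain ⟨g, hgd, hgQ, hmap⟩ := exists_quartetGroup_map hd hQ
  let e := conjEquiv hmap
  obtain ⟨f, hf, hker⟩ := quartet_quotient
  have hcard := (Nat.card_congr e.toEquiv).symm.trans natCard_quartetGroup
  refine ⟨hcard, ⟨(f.comp e.symm.toMonoidHom).ker, inferInstance, ?_,
    ⟨QuotientGroup.quotientKerEquivOfSurjective _ (hf.comp e.symm.surjective)⟩⟩, fun p hp q hq => ?_⟩
  · rw [← hker]
    exact Nat.card_congr (Equiv.subtypeEquiv e.symm.toEquiv fun x => Iff.rfl)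
  · have key : ∀ r ∈ d, ∃ a ∈ quartetGroup, (g * a) • bp 0 = r := by
      intro r hr
      obtain ⟨a, ha, ha'⟩ := quartetGroup_trans (p := g⁻¹ • r) (by
        rw [← hgd] at hr
        have h := Finset.smul_mem_smul_finset (a := g⁻¹) hr
        rwa [inv_smul_smul] at h)
      exact ⟨a, ha, by rw [mul_smul, show a • bp 0 = g⁻¹ • r from ha', smul_inv_smul]⟩
    obtain ⟨a, ha, ha'⟩ := key p hp
    obtain ⟨b, hb, hb'⟩ := key q hq
    refine ⟨g * (b * a⁻¹) * g⁻¹, ?_, ?_⟩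
    · rw [← hmap]
      exact ⟨_, mul_mem hb (inv_mem ha), rfl⟩
    · show (g * (b * a⁻¹) * g⁻¹) • p = q
      rw [← ha', ← hb']
      simp only [mul_smul, inv_smul_smul]

end Cfsg.Agent.S1598
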