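import Cfsg.Statements.S1599
import Cfsg.Agent.Lib.GolayTables.Apply
import Cfsg.Agent.Lib.GolayTables.QuartetOrbits

set_option autoImplicit false
open scoped Pointwise
open Cfsg CfsgLib.Golay CfsgLib.GolayTables

namespace Cfsg.Agent.S1599

/-- A quartet stabiliser has five orbits on the quartets of its dodecad, of sizes 1, 12, 27, 72, 108. -/
theorem result (d : Finset Cfsg.GolayPt) (hd : d ∈ Cfsg.dodecads) (Q : Finset (Finset Cfsg.GolayPt)) (hQ : Q ∈ Cfsg.quartets d) : ∃ X₁ ∈ Cfsg.quartets d, ∃ X₂ ∈ Cfsg.quartets d, ∃ X₃ ∈ Cfsg.quartets d, ∃ X₄ ∈ Cfsg.quartets d, (MulAction.orbit ↥(MulAction.stabilizer Cfsg.M24 d ⊓ MulAction.stabilizer Cfsg.M24 Q) X₁).ncard = 12 ∧ (MulAction.orbit ↥(MulAction.stabilizer Cfsg.M24 d ⊓ MulAction.stabilizer Cfsg.M24 Q) X₂).ncard = 27 ∧ (MulAction.orbit ↥(MulAction.stabilizer Cfsg.M24 d ⊓ MulAction.stabilizer Cfsg.M24 Q) X₃).ncard = 72 ∧ (MulAction.orbit ↥(MulAction.stabilizer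 Cfsg.M24 d ⊓ MulAction.stabilizer Cfsg.M24 Q) X₄).ncard = 108 ∧ Cfsg.quartets d = {Q} ∪ MulAction.orbit ↥(MulAction.stabilizer Cfsg.M24 d ⊓ MulAction.stabilizer Cfsg.M24 Q) X₁ ∪ MulAction.orbit ↥(MulAction.stabilizer Cfsg.M24 d ⊓ MulAction.stabilizer Cfsg.M24 Q) X₂ ∪ MulAction.orbit ↥(MulAction.stabilizer Cfsg.M24 d ⊓ MulAction.stabilizer Cfsg.M24 Q) X₃ ∪ MulAction.orbit ↥(MulAction.stabilizer Cfsg.M24 d ⊓ MulAction.stabilizer Cfsg.M24 Q) X₄ := by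
  obtain ⟨g, hgd, hgQ, hmap⟩ := exists_quartetGroup_map hd hQ
  obtain ⟨X₁, q1, X₂, q2, X₃, q3, X₄, q4, n1, n2, n3, n4, hU⟩ := base_orbits
  have hmem : ∀ X ∈ quartets baseDodecad, g • X ∈ quartets d := fun X hX => hgd ▸ smul_mem_quartets g hX
  have horb : ∀ X : Finset (Finset GolayPt),
      MulAction.orbit ↥(MulAction.stabilizer M24 d ⊓ MulAction.stabilizer M24 Q) (g • X) =
        (fun Y => g • Y) '' MulAction.orbit quartetGroup X := by
    intro X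
    ext Y
    constructor
    · rintro ⟨⟨a, ha⟩, rfl⟩
      rw [← hmap] at ha
      obtain ⟨b, hb, rfl⟩ := ha
      refine ⟨b • X, ⟨⟨b, hb⟩, rfl⟩, ?_⟩
      show g • b • X = (g * b * g⁻¹) • g • X
      rw [mul_smul, mul_smul, inv_smul_smul]
    · rintro ⟨Z, ⟨⟨b, hb⟩, rfl⟩, rfl⟩
      refine ⟨⟨g * b * g⁻¹, hmap ▸ ⟨b, hb, rfl⟩⟩, ?_⟩
      show (g * b * g⁻¹) • g • X = g • b • X
      rw [mul_smul, mul_smul, inv_smul_smul]
  have hn : ∀ X, (MulAction.orbit ↥(MulAction.stabilizer M24 d ⊓ MulAction.stabilizer M24 Q) (g • X)).ncard =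
      (MulAction.orbit quartetGroup X).ncard := fun X => by
    rw [horb, Set.ncard_image_of_injective _ (MulAction.injective g)]
  refine ⟨_, hmem _ q1, _, hmem _ q2, _, hmem _ q3, _, hmem _ q4, (hn _).trans n1, (hn _).trans n2,
    (hn _).trans n3, (hn _).trans n4, ?_⟩
  rw [horb, horb, horb, horb, ← hgd, quartets_eq_image, ← hgQ, hU, Set.image_union, Set.image_union,
    Set.image_union, Set.image_union, Set.image_singleton]

end Cfsg.Agent.S1599
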