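import Cfsg.Statements.S1600
import Cfsg.Agent.Lib.GolayTables.Apply

set_option autoImplicit false
open scoped Pointwise
open Cfsg CfsgLib.Golay CfsgLib.GolayTables

namespace Cfsg.Agent.S1600

/-- The pointwise stabiliser of three points of a dodecad inside the dodecad stabiliser (order 72) is transitive on the complementary dodecad. -/
theorem result (d : Finset Cfsg.GolayPt) (hd : d ∈ Cfsg.dodecads) (p q r : Cfsg.GolayPt) (hp : p ∈ d) (hq : q ∈ d) (hr : r ∈ d) (hpq : p ≠ q) (hpr : p ≠ r) (hqr : q ≠ r) : Nat.card ↥(MulAction.stabilizer Cfsg.M24 d ⊓ MulAction.stabilizer Cfsg.M24 p ⊓ MulAction.stabilizer Cfsg.M24 q ⊓ MulAction.stabilizer Cfsg.M24 r) = 72 ∧ ∀ x ∉ d, ∀ y ∉ d, ∃ g ∈ (MulAction.stabilizer Cfsg.M24 d ⊓ MulAction.stabilizer Cfsg.M24 p ⊓ MulAction.stabilizer Cfsg.M24 q ⊓ MulAction.stabilizer Cfsg.M24 r), ((g : ↥Cfsg.M24) : Equiv.Perm Cfsg.GolayPt) x = y := by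
  obtain ⟨g, hgd, hmap⟩ := exists_threeGroup_map hd hp hq hr hpq hpr hqr
  refine ⟨(Nat.card_congr (conjEquiv hmap).toEquiv).symm.trans natCard_threeGroup, fun x hx y hy => ?_⟩
  have key : ∀ r ∉ d, ∃ a ∈ threeGroup, (g * a) • outA = r := by
    intro r hr
    obtain ⟨a, ha, ha'⟩ := threeGroup_trans (p := g⁻¹ • r) (fun h => hr (by
      have h' := Finset.smul_mem_smul_finset (a := g) h
      rwa [smul_inv_smul, hgd] at h'))
    exact ⟨a, ha, by rw [mul_smul, show a • outA = g⁻¹ • r from ha', smul_inv_smul]⟩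
  obtain ⟨a, ha, ha'⟩ := key x hx
  obtain ⟨b, hb, hb'⟩ := key y hy
  refine ⟨g * (b * a⁻¹) * g⁻¹, ?_, ?_⟩
  · rw [← hmap]
    exact ⟨_, mul_mem hb (inv_mem ha), rfl⟩
  · show (g * (b * a⁻¹) * g⁻¹) • x = y
    rw [← ha', ← hb']
    simp only [mul_smul, inv_smul_smul]

end Cfsg.Agent.S1600
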