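import Cfsg.Statements.S1603
import Cfsg.Agent.Lib.GolayTables.Apply

set_option autoImplicit false
open scoped Pointwise
open Cfsg CfsgLib.Golay CfsgLib.GolayTables

namespace Cfsg.Agent.S1603

/-- Involution centralisers in the smallest Mathieu group are isomorphic to GL(2, 3). -/
theorem result (d : Finset Cfsg.GolayPt) (hd : d ∈ Cfsg.dodecads) (p : Cfsg.GolayPt) (hp : p ∈ d) (x : ↥(MulAction.stabilizer Cfsg.M24 d ⊓ MulAction.stabilizer Cfsg.M24 p)) (hx : orderOf x = 2) : Nonempty (↥(Subgroup.centralizer ({x} : Set ↥(MulAction.stabilizer Cfsg.M24 d ⊓ MulAction.stabilizer Cfsg.M24 p))) ≃* GL (Fin 2) (ZMod 3)) := by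
  have hxx : x * x = 1 := by rw [← pow_two, ← hx, pow_orderOf_eq_one]
  have hx1 : (x : M24) ≠ 1 := fun h => by
    rw [show x = 1 from Subtype.ext h, orderOf_one] at hx
    omega
  obtain ⟨g, hmap⟩ := exists_centGroup_map hd hp x.2.1 x.2.2 (congrArg Subtype.val hxx) hx1
  have hK : (Subgroup.centralizer ({x} : Set ↥(MulAction.stabilizer M24 d ⊓ MulAction.stabilizer M24 p))).map
      (MulAction.stabilizer M24 d ⊓ MulAction.stabilizer M24 p).subtype =
      MulAction.stabilizer M24 d ⊓ MulAction.stabilizer M24 p ⊓ Subgroup.centralizer {(x : M24)} := by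
    ext u
    simp only [Subgroup.mem_map, Subgroup.mem_inf, Subgroup.mem_centralizer_iff, Set.mem_singleton_iff,
      forall_eq]
    constructor
    · rintro ⟨v, hv, rfl⟩
      exact ⟨v.2, congrArg Subtype.val hv⟩
    · rintro ⟨hu, hu'⟩
      exact ⟨⟨u, hu⟩, Subtype.ext hu', rfl⟩
  exact cent_iso.map fun e =>
    (((Subgroup.equivMapOfInjective _ _ (Subgroup.subtype_injective _)).trans
      (MulEquiv.subgroupCongr hK)).trans (conjEquiv hmap).symm).trans e

end Cfsg.Agent.S1603
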