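import Cfsg.Statements.S1604
import Cfsg.Agent.Lib.GolayPointed.Orbits

set_option autoImplicit false
open scoped Pointwise
open Cfsg
open CfsgLib.GolayPointed

namespace Cfsg.Agent.S1604

/-- A hexad stabiliser in the two-point stabiliser has orbits of sizes 1, 16, 60 on the 77 hexads: the 16 hexads disjoint from it and the 60 meeting it in two points. -/
theorem result (p q : Cfsg.GolayPt) (hpq : p ≠ q) (o o' o'' : Finset Cfsg.GolayPt) (ho : o ∈ Cfsg.octads) (ho' : o' ∈ Cfsg.octads) (ho'' : o'' ∈ Cfsg.octads) (hp : p ∈ o ∧ p ∈ o' ∧ p ∈ o'') (hq : q ∈ o ∧ q ∈ o' ∧ q ∈ o'') (h : (o ∩ o').card = (o ∩ o'').card) : {x : Finset Cfsg.GolayPt | x ∈ Cfsg.octads ∧ p ∈ x ∧ q ∈ x ∧ (o ∩ x).card = 2}.ncard = 16 ∧ {x : Finset Cfsg.GolayPt | x ∈ Cfsg.octads ∧ p ∈ x ∧ q ∈ x ∧ (o ∩ x).card = 4}.ncard = 60 ∧ ∃ g : Equiv.Perm Cfsg.GolayPt, g ∈ Cfsg.M24 ∧ g p = p ∧ g q = q ∧ g • o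 = o ∧ g • o' = o'' := by
  obtain ⟨hp0, hp1, hp2⟩ := hp
  obtain ⟨hq0, hq1, hq2⟩ := hq
  have F := inIn_facts ho hpq hp0 hq0
  have key : ∀ (k : ℕ), {x : Finset Cfsg.GolayPt | x ∈ Cfsg.octads ∧ p ∈ x ∧ q ∈ x ∧ (o ∩ x).card = k} =
      {X | X ∈ Cfsg.octads ∧ confKey (p, q, o) X = 3 + 4 * k} := by
    intro k
    ext X
    simp only [Set.mem_ofPred_eq, confKey_pts]
    constructor
    · rintro ⟨h1, h2, h3, h4⟩
      rw [if_pos h2, if_pos h3]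
      exact ⟨h1, by omega⟩
    · rintro ⟨h1, h2⟩
      split_ifs at h2 with h3 h4 <;> first | omega | exact ⟨h1, h3, h4, by omega⟩
  refine ⟨?_, ?_, ?_⟩
  · rw [key]; exact F.1 11 16 (by decide +kernel)
  · rw [key]; exact F.1 19 60 (by decide +kernel)
  · obtain ⟨g, hg, hgo⟩ := F.2 o' o'' ho' ho'' (by
      simp only [confKey_pts, if_pos hp1, if_pos hp2, if_pos hq1, if_pos hq2, h])
    obtain ⟨h1, h2, h3⟩ := smul_conf_fix hg
    exact ⟨g, g.2, h1, h2, h3, hgo⟩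

end Cfsg.Agent.S1604
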