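import Cfsg.Statements.S1605
import Cfsg.Agent.Lib.GolayPointed.Orbits

set_option autoImplicit false
open scoped Pointwise
open Cfsg
open CfsgLib.GolayPointed

namespace Cfsg.Agent.S1605

/-- The two-point stabiliser acts on the 176 octads through the first point avoiding the second with rank 3 and subdegrees 1, 70, 105 (intersections 8, 2, 4). -/
theorem result (p q : Cfsg.GolayPt) (hpq : p ≠ q) : {x : Finset Cfsg.GolayPt | (x ∈ Cfsg.octads ∧ p ∈ x ∧ q ∉ x)}.ncard = 176 ∧ (∀ o o' : Finset Cfsg.GolayPt, (o ∈ Cfsg.octads ∧ p ∈ o ∧ q ∉ o) → (o' ∈ Cfsg.octads ∧ p ∈ o' ∧ q ∉ o') → ∃ g : Equiv.Perm Cfsg.GolayPt, g ∈ Cfsg.M24 ∧ g p = p ∧ g q = q ∧ g • o = o') ∧ ∀ o : Finset Cfsg.GolayPt, (o ∈ Cfsg.octads ∧ p ∈ o ∧ q ∉ o) → {x : Finset Cfsg.GolayPt | (x ∈ Cfsg.octads ∧ p ∈ x ∧ q ∉ x) ∧ (o ∩ x).card = 2}.ncard = 70 ∧ {x : Finset Cfsg.GolayPt | (x ∈ Cfsg.octads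 ∧ p ∈ x ∧ q ∉ x) ∧ (o ∩ x).card = 4}.ncard = 105 ∧ ∀ o' o'' : Finset Cfsg.GolayPt, (o' ∈ Cfsg.octads ∧ p ∈ o' ∧ q ∉ o') → (o'' ∈ Cfsg.octads ∧ p ∈ o'' ∧ q ∉ o'') → (o ∩ o').card = (o ∩ o'').card → ∃ g : Equiv.Perm Cfsg.GolayPt, g ∈ Cfsg.M24 ∧ g p = p ∧ g q = q ∧ g • o = o ∧ g • o' = o'' := by
  have T := two_facts hpq
  refine ⟨?_, ?_, ?_⟩
  · refine Eq.trans (congrArg Set.ncard (Set.ext fun X => ?_)) (T.1 1 176 (by decide +kernel))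
    simp only [Set.mem_ofPred_eq, confKey_pts, Finset.empty_inter, Finset.card_empty]
    constructor
    · rintro ⟨h1, h2, h3⟩
      rw [if_pos h2, if_neg h3]
      exact ⟨h1, rfl⟩
    · rintro ⟨h1, h2⟩
      split_ifs at h2 with h3 h4 <;> first | omega | exact ⟨h1, h3, h4⟩
  · rintro o o' ⟨ho, hp0, hq0⟩ ⟨ho', hp1, hq1⟩
    obtain ⟨g, hg, hgo⟩ := T.2 o o' ho ho' (by
      simp only [confKey_pts, if_pos hp0, if_pos hp1, if_neg hq0, if_neg hq1, Finset.empty_inter])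
    obtain ⟨h1, h2, -⟩ := smul_conf_fix hg
    exact ⟨g, g.2, h1, h2, hgo⟩
  · rintro o ⟨ho, hp0, hq0⟩
    have F := inOut_facts ho hp0 hq0
    have key : ∀ (k : ℕ), {x : Finset Cfsg.GolayPt | (x ∈ Cfsg.octads ∧ p ∈ x ∧ q ∉ x) ∧ (o ∩ x).card = k} =
        {X | X ∈ Cfsg.octads ∧ confKey (p, q, o) X = 1 + 4 * k} := by
      intro k
      ext X
      simp only [Set.mem_ofPred_eq, confKey_pts]
      constructor
      · rintro ⟨⟨h1, h2, h3⟩, h4⟩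
        rw [if_pos h2, if_neg h3]
        exact ⟨h1, by omega⟩
      · rintro ⟨h1, h2⟩
        split_ifs at h2 with h3 h4 <;> first | omega | exact ⟨⟨h1, h3, h4⟩, by omega⟩
    refine ⟨?_, ?_, ?_⟩
    · rw [key]; exact F.1 9 70 (by decide +kernel)
    · rw [key]; exact F.1 17 105 (by decide +kernel)
    · rintro o' o'' ⟨ho', hp1, hq1⟩ ⟨ho'', hp2, hq2⟩ h
      obtain ⟨g, hg, hgo⟩ := F.2 o' o'' ho' ho'' (by
        simp only [confKey_pts, if_pos hp1, if_pos hp2, if_neg hq1, if_neg hq2, h])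
      obtain ⟨h1, h2, h3⟩ := smul_conf_fix hg
      exact ⟨g, g.2, h1, h2, h3, hgo⟩

end Cfsg.Agent.S1605
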