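import Cfsg.Statements.S1606
import Cfsg.Agent.Lib.GolayIndex.Main

set_option autoImplicit false
open scoped Pointwise
open Cfsg CfsgLib.Golay CfsgLib.GolayIndex

namespace Cfsg.Agent.S1606

/-- The stabiliser of two points in the group of the length-24 code has no subgroups of index 56 or 210. -/
theorem result (p q : Cfsg.GolayPt) (hpq : p ≠ q) (H : Subgroup ↥(MulAction.stabilizer Cfsg.M24 p ⊓ MulAction.stabilizer Cfsg.M24 q)) : H.index ≠ 56 ∧ H.index ≠ 210 := by
  have hK : Nat.card ↥(MulAction.stabilizer M24 p ⊓ MulAction.stabilizer M24 q) = 443520 := by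
    have hs : MulAction.stabilizer M24 q = MulAction.stabilizer M24 ({q} : Finset GolayPt) := by
      ext g
      simp only [MulAction.mem_stabilizer_iff, Finset.smul_finset_singleton, Finset.singleton_inj]
    have h := natCard_pointSet p {q} (by simpa using hpq) (by simp)
    rw [Finset.card_singleton, Nat.choose_one_right, ← hs] at h
    omega
  have h := m22_orders hpq (H.map (Subgroup.subtype _)) (Subgroup.map_subtype_le _)
  rw [Subgroup.card_map_of_injective (Subgroup.subtype_injective _)] at h
  have hm := Subgroup.index_mul_card H
  rw [hK] at hm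
  constructor <;> intro e <;> rw [e] at hm <;> omega

end Cfsg.Agent.S1606
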