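import Cfsg.Statements.S1608
import Cfsg.Agent.Lib.GolayPointed.Orbits

set_option autoImplicit false
open scoped Pointwise
open Cfsg
open CfsgLib.GolayPointed

namespace Cfsg.Agent.S1608

/-- The point stabiliser acts on the 506 octads avoiding the point with rank 4 and subdegrees 1, 15, 210, 280, the suborbits being given by intersection size with the fixed octad. -/
theorem result (x : Cfsg.GolayPt) (o : Finset Cfsg.GolayPt) (ho : o ∈ Cfsg.octads) (hx : x ∉ o) : {o' : Finset Cfsg.GolayPt | o' ∈ Cfsg.octads ∧ x ∉ o' ∧ (o ∩ o').card = 0}.ncard = 15 ∧ {o' : Finset Cfsg.GolayPt | o' ∈ Cfsg.octads ∧ x ∉ o' ∧ (o ∩ o').card = 4}.ncard = 210 ∧ {o' : Finset Cfsg.GolayPt | o' ∈ Cfsg.octads ∧ x ∉ o' ∧ (o ∩ o').card = 2}.ncard = 280 ∧ ∀ o' o'' : Finset Cfsg.GolayPt, o' ∈ Cfsg.octads → o'' ∈ Cfsg.octads → x ∉ o' → x ∉ o'' → (o ∩ o').card = (o ∩ o'').card → ∃ g : Equiv.Perm Cfsg.GolayPt, g ∈ Cfsg.M24 ∧ g x = x ∧ g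 • o = o ∧ g • o' = o'' := by
  have F := out_facts ho hx
  have key : ∀ (k : ℕ), {o' : Finset Cfsg.GolayPt | o' ∈ Cfsg.octads ∧ x ∉ o' ∧ (o ∩ o').card = k} =
      {X | X ∈ Cfsg.octads ∧ confKey (x, x, o) X = 4 * k} := by
    intro k
    ext X
    simp only [Set.mem_ofPred_eq, confKey_pts]
    constructor
    · rintro ⟨h1, h2, h3⟩
      rw [if_neg h2]
      exact ⟨h1, by omega⟩
    · rintro ⟨h1, h2⟩
      split_ifs at h2 with h3 <;> first | omega | exact ⟨h1, h3, by omega⟩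
  refine ⟨?_, ?_, ?_, ?_⟩
  · rw [key]; exact F.1 0 15 (by decide +kernel)
  · rw [key]; exact F.1 16 210 (by decide +kernel)
  · rw [key]; exact F.1 8 280 (by decide +kernel)
  · intro o' o'' ho' ho'' h1 h2 h
    obtain ⟨g, hg, hgo⟩ := F.2 o' o'' ho' ho'' (by simp only [confKey_pts, if_neg h1, if_neg h2, h])
    obtain ⟨e1, -, e3⟩ := smul_conf_fix hg
    exact ⟨g, g.2, e1, e3, hgo⟩

end Cfsg.Agent.S1608
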