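import Cfsg.Statements.S1609
import Cfsg.Agent.Lib.GolayIndex.Main

set_option autoImplicit false
open scoped Pointwise
open Cfsg CfsgLib.Golay CfsgLib.GolayIndex

namespace Cfsg.Agent.S1609

/-- Subgroups of index 253 in the Mathieu group of degree 23 are exactly the duad stabilisers and the heptad stabilisers. -/
theorem result (x : Cfsg.GolayPt) (H : Subgroup ↥(MulAction.stabilizer Cfsg.M24 x)) (hH : H.index = 253) : (∃ s : Finset Cfsg.GolayPt, s.card = 2 ∧ x ∉ s ∧ H = (MulAction.stabilizer Cfsg.M24 s).subgroupOf (MulAction.stabilizer Cfsg.M24 x)) ∨ ∃ o ∈ Cfsg.octads, x ∈ o ∧ H = (MulAction.stabilizer Cfsg.M24 o).subgroupOf (MulAction.stabilizer Cfsg.M24 x) := by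
  have hK : Nat.card ↥(MulAction.stabilizer M24 x) = 10200960 := by
    have horb : MulAction.orbit M24 x = Set.univ := by
      refine Set.eq_univ_of_forall fun y => ?_
      obtain ⟨u, hu, huy⟩ := exists_map_eq (L := [x]) (L' := [y]) (by simp) (by simp) rfl (by simp)
      exact ⟨⟨u, hu⟩, List.head_eq_of_cons_eq huy⟩
    have h := natCard_orbit_mul (G := M24) x
    rw [horb, Set.ncard_univ, Nat.card_eq_fintype_card, card_golayPt, natCard_M24] at h
    omega
  have hm := Subgroup.index_mul_card H
  rw [hK, hH] at hm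
  have hH' : ∀ S : Subgroup M24, H.map (MulAction.stabilizer M24 x).subtype = MulAction.stabilizer M24 x ⊓ S →
      H = S.subgroupOf (MulAction.stabilizer M24 x) := fun S h => by
    rw [← Subgroup.comap_map_eq_self_of_injective (Subgroup.subtype_injective _) H, h]
    exact Subgroup.inf_subgroupOf_left _ _
  rcases m23_order x (H.map (MulAction.stabilizer M24 x).subtype) (Subgroup.map_subtype_le _)
      (by rw [Subgroup.card_map_of_injective (Subgroup.subtype_injective _)]; omega) with
    ⟨s, h1, h2, h3⟩ | ⟨o, h1, h2, h3⟩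
  · exact Or.inl ⟨s, h1, h2, hH' _ h3⟩
  · exact Or.inr ⟨o, h1, h2, hH' _ h3⟩

end Cfsg.Agent.S1609
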