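import Mathlib
import Cfsg.Statements.S1615
import Cfsg.Agent.Lib.ThreeTrans.InnerTwinsFive
import Cfsg.Agent.Lib.ThreeTrans.OddCore

set_option autoImplicit false
open Cfsg

namespace Cfsg.Agent.S1615

open CfsgLib.ThreeTrans
open CfsgLib.ThreeTrans.LocalSymThree (nbr)

/-- Under Fischer's hypotheses, if the odd core of the subgroup generated by the transpositions
commuting with a transposition x is not central in it, then G is the symmetric group of degree 5. -/
theorem result {G : Type*} [Group G] [Finite G] (hsol : ∀ N : Subgroup G, N.Normal → Group.IsSolvable ↥N → N = ⊥) (hperf : ⁅commutator G, commutator G⁆ = commutator G) {D : Set G} (hD : Cfsg.IsThreeTranspositionClass D) (x : G) (hx : x ∈ D) (h : ¬ Cfsg.oddCore ↥(Subgroup.closure {y : G | y ∈ D ∧ y ≠ x ∧ Commute x y}) ≤ Subgroup.center ↥(Subgroup.closure {y : G | y ∈ D ∧ y ≠ x ∧ Commute x y})) : Nonempty (G ≃* Equiv.Perm (Fin 5)) := by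
  obtain ⟨hC, hprim, hw⟩ := FischerHyp.setting hsol hperf hD
  have S : InnerTwins.Setting D := ⟨hC, hprim, hw⟩
  have hc := hC.closed
  have hZ : Subgroup.center G = ⊥ := hsol _ inferInstance
    (Group.isSolvable_of_comm fun a b => Subtype.ext (Subgroup.mem_center_iff.1 b.2 a.1))
  set E := nbr D x with hE
  change ¬ Cfsg.oddCore ↥(Subgroup.closure E) ≤ Subgroup.center ↥(Subgroup.closure E) at h
  set H := Subgroup.closure E with hH
  have hEH : E ⊆ (H : Set G) := Subgroup.subset_closure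
  have htwo : ∃ a ∈ E, ∃ b ∈ E, a ≠ b := by
    by_contra! hall
    refine h (le_trans le_top fun a _ => Subgroup.mem_center_iff.2 fun b => ?_)
    have hcc := Subgroup.isMulCommutative_closure (k := E) fun u hu v hv => by rw [hall u hu v hv]
    exact (hcc.is_comm.comm b a)
  set EH : Set H := {e | (e : G) ∈ E} with hEHdef
  have hHx : ∀ g ∈ H, Commute g x := fun g hg =>
    CfsgLib.Sporadic.RankThree.commute_of_mem_closure_cD
      ((Subgroup.closure_mono fun e he => ⟨he.1, he.2.2⟩ : H ≤ Subgroup.closure (ClassTwo.cD D x)) hg)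
  have hCE : ClassTwo EH := by
    refine ⟨⟨⟨fun e he => ?_, fun d hd e he => ?_⟩, fun g e he => ?_⟩,
      Subgroup.closure_closure_coe_preimage, fun a ha b hb => ?_, ?_⟩
    · rw [← Subgroup.orderOf_coe]; exact hc.set.1 _ he.1
    · exact (hc.set.2 _ hd.1 _ he.1).imp (fun k => Subtype.ext k) (fun k => Subtype.ext k)
    · exact InnerTwins.conj_mem_nbr hc (hHx g g.2) he
    · obtain ⟨g, hg, e⟩ := FischerHyp.perp_class hC hprim hw hx _ ha _ hb
      exact ⟨⟨g, hg⟩, Subtype.ext e⟩
    · obtain ⟨a, ha, b, hb, hab⟩ := htwo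
      exact ⟨⟨a, hEH ha⟩, ha, ⟨b, hEH hb⟩, hb, fun k => hab (congrArg Subtype.val k)⟩
  obtain ⟨y, hy, -⟩ := hCE.two
  obtain ⟨w, hyw, hwy⟩ := hCE.exists_wRel_ne (fun h3 => h (hCE.oddCore_le_center h3)) hy
  have hT : InnerTwins.Tw D x (y : G) (w : G) :=
    ⟨(InnerTwins.wRel_coe_iff hEH y w).1 hyw, fun k => hwy (Subtype.ext k).symm⟩
  refine InnerTwins.symFive S hZ (InnerTwins.nbr_noncomm S hx hT) fun d hd => ?_
  obtain ⟨g, rfl⟩ := hC.class_eq x hx d hd
  have hT' := hT.conj hc g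
  exact ⟨_, hT'.1.1, _, hT'.1.2.1, hT'.2⟩

end Cfsg.Agent.S1615
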