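import Cfsg.Statements.S1614
import Cfsg.Agent.Lib.ThreeTrans.PolarTwins.Main
import Cfsg.Agent.Lib.ThreeTrans.OddCore
import Cfsg.Agent.Lib.Solvable.Fitting
import Cfsg.Agent.S1615
import Cfsg.Agent.S0247

set_option autoImplicit false
open Cfsg

namespace Cfsg.Agent.S1614

open CfsgLib.ThreeTrans
open CfsgLib.ThreeTrans.LocalSymThree (nbr)

theorem no_chain {G : Type*} [Group G] [Finite G] {D : Set G} (hc : ConjClosed D) {x : G}
    (hs : Group.IsSolvable ↥(Subgroup.closure (nbr D x))) : ¬ PolarTwins.Chain D x := by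
  rintro ⟨p, hp, q, hq, r, hr, s, hs', hpq, hqr, hrs, hpr, hps, hqs⟩
  have hm : ∀ {y}, y ∈ nbr D x → y ∈ Subgroup.closure (nbr D x) := fun hy => Subgroup.subset_closure hy
  have sq : ∀ {y} (hy : y ∈ nbr D x), (⟨y, hm hy⟩ : ↥(Subgroup.closure (nbr D x))) * ⟨y, hm hy⟩ = 1 :=
    fun hy => Subtype.ext (mul_self hc.set hy.1)
  have br : ∀ {y z} (hy : y ∈ nbr D x) (hz : z ∈ nbr D x), ¬ Commute y z →
      (⟨y, hm hy⟩ : ↥(Subgroup.closure (nbr D x))) * ⟨z, hm hz⟩ * ⟨y, hm hy⟩ =
        ⟨z, hm hz⟩ * ⟨y, hm hy⟩ * ⟨z, hm hz⟩ :=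
    fun hy hz h => Subtype.ext (braid hc.set hy.1 hz.1 h)
  obtain ⟨φ, hφ⟩ := SymFive.exists_hom (sq hp) (sq hq) (sq hr) (sq hs') (br hp hq hpq) (br hq hr hqr)
    (br hr hs' hrs) (Subtype.ext hpr.eq) (Subtype.ext hps.eq) (Subtype.ext hqs.eq)
  have e0 : φ (SymFive.genFive 0) = ⟨p, hm hp⟩ := hφ 0
  have e1 : φ (SymFive.genFive 1) = ⟨q, hm hq⟩ := hφ 1
  have e2 : φ (SymFive.genFive 2) = ⟨r, hm hr⟩ := hφ 2
  have hinj := SymFive.injective_of_gen φ
    (fun h => by
      have k : p = q := congrArg Subtype.val (e0.symm.trans (h.trans e1))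
      exact hpq (k ▸ Commute.refl p))
    (fun h => by
      have k : p = r := congrArg Subtype.val (e0.symm.trans (h.trans e2))
      exact hrs (k ▸ hps))
  exact Equiv.Perm.not_solvable (Fin 5) (by simp) (solvable_of_solvable_injective hinj)

/-- If the commuting transpositions of one transposition generate a solvable group, a Fischer 3-transposition group is S5, S6, PSU(4, 2) or PSU(5, 2). -/
theorem result {G : Type*} [Group G] [Finite G] (hsol : ∀ N : Subgroup G, N.Normal → Group.IsSolvable ↥N → N = ⊥) (hperf : ⁅commutator G, commutator G⁆ = commutator G) {D : Set G} (hD : Cfsg.IsThreeTranspositionClass D) (x : G) (hx : x ∈ D) (hs : Group.IsSolvable ↥(Subgroup.closure {y : G | y ∈ D ∧ y ≠ x ∧ Commute x y})) : Nonempty (G ≃* Equiv.Perm (Fin 5)) ∨ Nonempty (G ≃* Equiv.Perm (Fin 6)) ∨ ∃ (F : Type) (_ : Field F) (_ : Fintype F), Fintype.card F = 4 ∧ (Nonempty (G ≃* Cfsg.PSU 4 F 2) ∨ Nonempty (G ≃* Cfsg.PSU 5 F 2)) := by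
  classical
  obtain ⟨hC, hprim, hw⟩ := FischerHyp.setting hsol hperf hD
  have S : InnerTwins.Setting D := ⟨hC, hprim, hw⟩
  have hZ : Subgroup.center G = ⊥ := hsol _ inferInstance
    (Group.isSolvable_of_comm fun a b => Subtype.ext (Subgroup.mem_center_iff.1 b.2 a.1))
  change Group.IsSolvable ↥(Subgroup.closure (nbr D x)) at hs
  by_cases h2 : Cfsg.pCore 2 ↥(Subgroup.closure (nbr D x)) ≤
      Subgroup.center ↥(Subgroup.closure (nbr D x))
  swap
  · rcases (PolarTwins.geom_of_core S hZ hx h2).recognition with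
      ⟨m, hm, ⟨e, -⟩, hch⟩ | ⟨n, hn, ⟨F, i₁, i₂, hF, e, -⟩, hch⟩
    · have : m = 2 := by
        by_contra hne
        exact no_chain hC.closed hs (hch (by omega) x hx)
      subst this
      obtain ⟨e'⟩ := Cfsg.Agent.S0247.result (F := ZMod 2) (ZMod.card 2)
      exact Or.inr (Or.inl ⟨e.trans e'⟩)
    · have : n < 6 := Nat.lt_of_not_le fun h6 => no_chain hC.closed hs (hch h6 x hx)
      refine Or.inr (Or.inr ⟨F, i₁, i₂, hF, ?_⟩)
      obtain rfl | rfl : n = 4 ∨ n = 5 := by omega
      exacts [Or.inl ⟨e⟩, Or.inr ⟨e⟩]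
  refine Or.inl (Cfsg.Agent.S1615.result hsol hperf hD x hx fun hodd => ?_)
  change Cfsg.oddCore ↥(Subgroup.closure (nbr D x)) ≤ _ at hodd
  by_cases htwo : ∃ a ∈ nbr D x, ∃ b ∈ nbr D x, a ≠ b
  · have hE := PolarTwins.classTwo_nbr S hx htwo
    have h3 : Cfsg.pCore 3 ↥(Subgroup.closure (nbr D x)) ≤
        Subgroup.center ↥(Subgroup.closure (nbr D x)) :=
      le_trans (CfsgLib.PCore.le_pPrimeCore (Cfsg.pCore_normal 3 _) (by
        haveI : Fact (Nat.Prime 3) := ⟨Nat.prime_three⟩
        obtain ⟨k, hk⟩ := (CfsgLib.PCore.pCore_isPGroup (p := 3)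
          (G := ↥(Subgroup.closure (nbr D x)))).exists_card_eq
        rw [hk]
        exact Nat.Coprime.pow_left k (by norm_num))) hodd
    have hF := hE.fitting_le_center h2 h3
    haveI := hs
    have hall : ∀ a b : ↥(Subgroup.closure (nbr D x)), Commute a b := fun a b => by
      have ha : a ∈ Subgroup.centralizer
          (Cfsg.fittingSubgroup ↥(Subgroup.closure (nbr D x)) : Set ↥(Subgroup.closure (nbr D x))) :=
        Subgroup.mem_centralizer_iff.2 fun y hy => (Subgroup.mem_center_iff.1 (hF hy) a).symm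
      exact (Subgroup.mem_center_iff.1 (hF (CfsgLib.Fitting.centralizer_fitting_le ha)) b).symm
    obtain ⟨a, ha, b, hb, hab⟩ := hE.two
    obtain ⟨g, rfl⟩ := hE.class_eq a ha b hb
    exact hab (by rw [(hall g a).eq, mul_inv_cancel_right])
  · push Not at htwo
    obtain ⟨y, hy⟩ : ∃ y, y ∈ nbr D x := by
      obtain ⟨p, hp, q, hq, hne, hpq⟩ := hw
      obtain ⟨g, rfl⟩ := hC.class_eq p hp x hx
      exact ⟨g * q * g⁻¹, hC.closed.conj g q hq, fun k => hne (mul_left_cancel (mul_right_cancel k)).symm,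
        (commute_conj_iff g p q).2 hpq⟩
    refine hy.2.1 (hC.vRel_eq_self (hC.cores_of_primitive hprim hw).1 ⟨hx, hy.1, fun e he => ?_⟩)
    obtain ⟨g, hgy⟩ := hC.class_eq x hx y hy.1
    have hxy : ∀ e ∈ D, Commute x e → e = x ∨ e = y := fun e he hxe =>
      (em (e = x)).imp id fun k => htwo e ⟨he, k, hxe⟩ y hy
    constructor
    · intro k
      have hm : Commute x (g⁻¹ * e * g⁻¹⁻¹) := by
        rw [← commute_conj_iff g, hgy]
        simpa [mul_assoc] using k
      rcases hxy _ (hC.closed.conj g⁻¹ e he) hm with j | j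
      · have : e = y := by rw [← hgy, ← j]; group
        exact this ▸ hy.2.2
      · have hgx : g * y * g⁻¹ = x := by
          have hm' : Commute x (g⁻¹ * x * g⁻¹⁻¹) := by
            rw [← commute_conj_iff g, hgy]
            simpa [mul_assoc] using hy.2.2.symm
          rcases hxy _ (hC.closed.conj g⁻¹ x hx) hm' with i | i
          · refine absurd ?_ hy.2.1
            conv_rhs => rw [← i]
            rw [← hgy]
            have : g * x = x * g := by
              conv_lhs => rw [← i]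
              group
            rw [this, mul_inv_cancel_right, i]
          · rw [← i]; group
        have : e = x := by rw [← hgx, ← j]; group
        exact this ▸ Commute.refl x
    · intro k
      rcases hxy e he k with rfl | rfl
      exacts [hy.2.2.symm, Commute.refl _]

end Cfsg.Agent.S1614
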