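import Mathlib
import Cfsg.Statements.S1618
import Cfsg.Agent.S5560

set_option autoImplicit false
open Cfsg

namespace Cfsg.Agent.S1618

/-- A group generated by a class of involutions whose pairwise products (of distinct members) have p-power order for a fixed odd prime p has nilpotent derived subgroup. -/
theorem result {G : Type*} [Group G] [Finite G] (p : ℕ) (hp : p.Prime) (hodd : p ≠ 2) {D : Set G} (hinv : ∀ d ∈ D, orderOf d = 2) (hconj : ∃ d ∈ D, D = conjugatesOf d) (hgen : Subgroup.closure D = ⊤) (hprod : ∀ x ∈ D, ∀ y ∈ D, x ≠ y → ∃ k : ℕ, orderOf (x * y) = p ^ k) : Group.IsNilpotent ↥(commutator G) := by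
  obtain ⟨d, hdD, hD⟩ := hconj
  have hd := hinv d hdD
  have hprod' : ∀ a ∈ conjugatesOf d, ∀ b ∈ conjugatesOf d, ∃ k : ℕ, orderOf (a * b) = p ^ k := by
    intro a ha b hb
    rw [← hD] at ha hb
    rcases eq_or_ne a b with rfl | hne
    · exact ⟨0, by rw [← pow_two, orderOf_dvd_iff_pow_eq_one.mp (dvd_of_eq (hinv a ha)), orderOf_one,
        pow_zero]⟩
    · exact hprod a ha b hb hne
  have hO := Cfsg.Agent.S5560.result hp hodd d hd hprod'
  set N := Cfsg.pCore p G with hN
  have : Fact p.Prime := ⟨hp⟩
  have hle : commutator G ≤ N := by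
    refine Subgroup.Normal.quotient_commutative_iff_commutator_le.mp ?_
    have hcyc : ∀ q : G ⧸ N, q ∈ Subgroup.zpowers (QuotientGroup.mk' N d) := by
      intro q
      obtain ⟨g, rfl⟩ := QuotientGroup.mk'_surjective N q
      have hmem : g ∈ (Subgroup.zpowers (QuotientGroup.mk' N d)).comap (QuotientGroup.mk' N) := by
        have htop : g ∈ Subgroup.closure D := by rw [hgen]; exact Subgroup.mem_top g
        refine (Subgroup.closure_le _).mpr ?_ htop
        intro u hu
        rw [hD] at hu
        show QuotientGroup.mk' N u ∈ Subgroup.zpowers (QuotientGroup.mk' N d)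
        have h1 : QuotientGroup.mk' N (u * d) = 1 :=
          (QuotientGroup.eq_one_iff _).mpr (hO u hu d (mem_conjugatesOf_self))
        rw [map_mul, mul_eq_one_iff_eq_inv] at h1
        rw [h1]
        exact Subgroup.inv_mem _ (Subgroup.mem_zpowers _)
      exact hmem
    exact ⟨⟨fun u v => by
      obtain ⟨i, rfl⟩ := hcyc u
      obtain ⟨j, rfl⟩ := hcyc v
      rw [← zpow_add, ← zpow_add, add_comm]⟩⟩
  have hNp : IsPGroup p N := CfsgLib.PCore.pCore_isPGroup
  exact (hNp.to_le hle).isNilpotent

end Cfsg.Agent.S1618
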