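import Cfsg.Statements.S1633
import Cfsg.Agent.Lib.Sporadic.ConwayPsu35.Iso
import Cfsg.Agent.Lib.Golay.LeechOrbit.Normal

set_option autoImplicit false
open Cfsg CfsgLib.Golay CfsgLib.Golay.LeechOrbit CfsgLib.MonsterType CfsgLib.Sporadic

namespace Cfsg.Agent.S1633

/-- The Higman–Sims group acts transitively on 352 vectors, a set closed under x ↦ −w − x, with vector stabiliser isomorphic to PSU(3, 5). -/
theorem result (v w : ↥Cfsg.leechLattice) (hv : Cfsg.sqNorm (v : Cfsg.GolayPt → ℤ) = 48) (hw : Cfsg.sqNorm (w : Cfsg.GolayPt → ℤ) = 48) (hvw : Cfsg.dotInt (v : Cfsg.GolayPt → ℤ) (w : Cfsg.GolayPt → ℤ) = -32) (F : Type) [Field F] [Fintype F] (hF : Fintype.card F = 25) : {x : ↥Cfsg.leechLattice | Cfsg.sqNorm (x : Cfsg.GolayPt → ℤ) = 32 ∧ Cfsg.dotInt (v : Cfsg.GolayPt → ℤ) (x : Cfsg.GolayPt → ℤ) = 16 ∧ Cfsg.dotInt (w : Cfsg.GolayPt → ℤ) (x : Cfsg.GolayPt → ℤ)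 = -24}.ncard = 352 ∧ (∀ x ∈ {x : ↥Cfsg.leechLattice | Cfsg.sqNorm (x : Cfsg.GolayPt → ℤ) = 32 ∧ Cfsg.dotInt (v : Cfsg.GolayPt → ℤ) (x : Cfsg.GolayPt → ℤ) = 16 ∧ Cfsg.dotInt (w : Cfsg.GolayPt → ℤ) (x : Cfsg.GolayPt → ℤ) = -24}, -w - x ∈ {x : ↥Cfsg.leechLattice | Cfsg.sqNorm (x : Cfsg.GolayPt → ℤ) = 32 ∧ Cfsg.dotInt (v : Cfsg.GolayPt → ℤ) (x : Cfsg.GolayPt → ℤ) = 16 ∧ Cfsg.dotInt (w : Cfsg.GolayPt → ℤ) (x : Cfsg.GolayPt → ℤ) = -24}) ∧ (∀ x ∈ {x : ↥Cfsg.leechLattice | Cfsg.sqNorm (x : Cfsg.GolayPt → ℤ) = 32 ∧ Cfsg.dotInt (v : Cfsg.GolayPt → ℤ) (x : Cfsg.GolayPt → ℤ) = 16 ∧ Cfsg.dotInt (w : Cfsg.GolayPt → ℤ) (x : Cfsg.GolayPt → ℤ) = -24}, ∀ x' ∈ {x : ↥Cfsg.leechLattice | Cfsg.sqNorm (x : Cfsg.GolayPt → ℤ) = 32 ∧ Cfsg.dotInt (v : Cfsg.GolayPt → ℤ) (x : Cfsg.GolayPt → ℤ) = 16 ∧ Cfsg.dotInt (w : Cfsg.GolayPt → ℤ) (x : Cfsg.GolayPt → ℤ) = -24}, ∃ g : ↥Cfsg.Co0, g •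 v = v ∧ g • w = w ∧ g • x = x') ∧ ∀ x ∈ {x : ↥Cfsg.leechLattice | Cfsg.sqNorm (x : Cfsg.GolayPt → ℤ) = 32 ∧ Cfsg.dotInt (v : Cfsg.GolayPt → ℤ) (x : Cfsg.GolayPt → ℤ) = 16 ∧ Cfsg.dotInt (w : Cfsg.GolayPt → ℤ) (x : Cfsg.GolayPt → ℤ) = -24}, Nonempty (↥(MulAction.stabilizer ↥Cfsg.Co0 v ⊓ MulAction.stabilizer ↥Cfsg.Co0 w ⊓ MulAction.stabilizer ↥Cfsg.Co0 x) ≃* Cfsg.PSU 3 F 5) := by
  obtain ⟨γ, h1, h2⟩ := exists_normal_pair hv hw hvw
  have hspec := spec352.transfer γ (cs := [(v, -16), (w, 24)]) (by simp [mapC, cs352, h1, h2])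
  have hmem : ∀ x : leechLattice, x ∈ {x : ↥Cfsg.leechLattice | Cfsg.sqNorm (x : Cfsg.GolayPt → ℤ) = 32 ∧
      Cfsg.dotInt (v : Cfsg.GolayPt → ℤ) (x : Cfsg.GolayPt → ℤ) = 16 ∧
      Cfsg.dotInt (w : Cfsg.GolayPt → ℤ) (x : Cfsg.GolayPt → ℤ) = -24} ↔ -x ∈ consSet [(v, -16), (w, 24)] := by
    intro x
    rw [mem_cons2, Set.mem_ofPred_eq, AddSubgroup.coe_neg, sqNorm_neg, dot_neg_right, dot_neg_right]
    constructor <;> intro h <;> exact ⟨h.1, by omega, by omega⟩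
  refine ⟨?_, fun x hx => ?_, fun x hx x' hx' => ?_, fun x hx => ?_⟩
  · refine Eq.trans ?_ hspec.ncard
    rw [← Set.ncard_image_of_injective _ neg_injective]
    congr 1
    ext y
    rw [Set.mem_image]
    constructor
    · rintro ⟨x, hx, rfl⟩
      exact (hmem x).1 hx
    · intro hy
      exact ⟨-y, (hmem _).2 (by rwa [neg_neg]), neg_neg y⟩
  · obtain ⟨hn, hdv, hdw⟩ := hx
    refine ⟨?_, ?_, ?_⟩
    · rw [sub_eq_add_neg, ← neg_add, AddSubgroup.coe_neg, sqNorm_neg, AddSubgroup.coe_add, sqNorm_add_eq, hw, hn, hdw]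
      norm_num
    · rw [sub_eq_add_neg, ← neg_add, AddSubgroup.coe_neg, dot_neg_right, AddSubgroup.coe_add, dot_add_right, hvw, hdv]
      norm_num
    · rw [sub_eq_add_neg, ← neg_add, AddSubgroup.coe_neg, dot_neg_right, AddSubgroup.coe_add, dot_add_right, dot_self,
        hw, hdw]
      norm_num
  · obtain ⟨g, hg, e⟩ := hspec.exists_smul ((hmem x).1 hx) ((hmem x').1 hx')
    rw [smul_neg', neg_inj] at e
    exact ⟨g, (consStab2.1 hg).1, (consStab2.1 hg).2, e⟩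
  · have hF' : Fintype.card F = 5 ^ 2 := hF
    have : IsSquare (2 : F) := by
      rw [FiniteField.isSquare_two_iff, hF]
      norm_num
    obtain ⟨c, hc⟩ := this
    obtain ⟨e⟩ := ConwayPsu35.iso_G0 hF' (w := c) (by rw [sq]; exact hc.symm)
    have hm : γ • -x ∈ consSet cs352 := by
      have := (smul_mem_mapC_iff (γ := γ)).2 ((hmem x).1 hx)
      simpa [mapC, cs352, h1, h2] using this
    obtain ⟨δ, hδ, hδx⟩ := spec352.exists_smul hm spec352.root_mem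
    have k1 : (δ * γ) • v = Spor.leechV := by rw [mul_smul, h1]; exact (consStab2.1 hδ).1
    have k2 : (δ * γ) • w = vecWL := by rw [mul_smul, h2]; exact (consStab2.1 hδ).2
    have k3 : (δ * γ) • x = -root352 := by rw [← hδx, mul_smul, smul_neg', smul_neg', neg_neg]
    have heq : (MulAction.stabilizer Co0 v ⊓ MulAction.stabilizer Co0 w ⊓ MulAction.stabilizer Co0 x).map
        (MulAut.conj (δ * γ)).toMonoidHom = ConwayPsu35.G0 := by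
      rw [Subgroup.map_inf _ _ _ (MulAut.conj (δ * γ)).injective, Subgroup.map_inf _ _ _ (MulAut.conj (δ * γ)).injective,
        ← MulAction.stabilizer_smul_eq_stabilizer_map_conj, ← MulAction.stabilizer_smul_eq_stabilizer_map_conj,
        ← MulAction.stabilizer_smul_eq_stabilizer_map_conj, k1, k2, k3]
      ext g
      simp [ConwayPsu35.G0, mem_consStab, MulAction.mem_stabilizer_iff, and_assoc]
      intro _ _
      rw [smul_neg', neg_inj]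
    exact ⟨(((MulAut.conj (δ * γ)).subgroupMap _).trans (MulEquiv.subgroupCongr heq)).trans e⟩

end Cfsg.Agent.S1633
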