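import Cfsg.Statements.S1634
import Cfsg.Agent.Lib.Golay.LeechOrbit.Normal
import Cfsg.Agent.Lib.Golay.LeechOrbit.CertMcL

set_option autoImplicit false
open Cfsg CfsgLib.Golay CfsgLib.Golay.LeechOrbit CfsgLib.MonsterType CfsgLib.Sporadic

theorem neg_image_ncard (S : Set leechLattice) : ((fun z => -z) '' S).ncard = S.ncard :=
  Set.ncard_image_of_injective S neg_injective

theorem orbit_neg (K : Subgroup Co0) (z : leechLattice) :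
    MulAction.orbit K (-z) = (fun y => -y) '' MulAction.orbit K z := by
  ext y
  constructor
  · rintro ⟨g, rfl⟩
    exact ⟨g • z, ⟨g, rfl⟩, (smul_neg' g.1 z).symm⟩
  · rintro ⟨_, ⟨g, rfl⟩, rfl⟩
    exact ⟨g, smul_neg' g.1 z⟩


namespace Cfsg.Agent.S1634

/-- The McLaughlin group acts on 2025 points (minimal vectors orthogonal to v with customary inner product 2 with w) transitively with rank 4 and subdegrees 1, 330, 462, 1232. -/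
theorem result (v w : ↥Cfsg.leechLattice) (hv : Cfsg.sqNorm (v : Cfsg.GolayPt → ℤ) = 32) (hw : Cfsg.sqNorm (w : Cfsg.GolayPt → ℤ) = 32) (hvw : Cfsg.dotInt (v : Cfsg.GolayPt → ℤ) (w : Cfsg.GolayPt → ℤ) = -8) : {x : ↥Cfsg.leechLattice | Cfsg.sqNorm (x : Cfsg.GolayPt → ℤ) = 32 ∧ Cfsg.dotInt (v : Cfsg.GolayPt → ℤ) (x : Cfsg.GolayPt → ℤ) = 0 ∧ Cfsg.dotInt (w : Cfsg.GolayPt → ℤ) (x : Cfsg.GolayPt → ℤ) = 16}.ncard = 2025 ∧ (∀ x ∈ {x : ↥Cfsg.leechLattice | Cfsg.sqNorm (x : Cfsg.GolayPt → ℤ) = 32 ∧ Cfsg.dotInt (v : Cfsg.GolayPt → ℤ) (x : Cfsg.GolayPt → ℤ) = 0 ∧ Cfsg.dotInt (w : Cfsg.GolayPt → ℤ) (x : Cfsg.GolayPt → ℤ) = 16}, ∀ x' ∈ {x : ↥Cfsg.leechLattice | Cfsg.sqNorm (x : Cfsg.GolayPt → ℤ) = 32 ∧ Cfsg.dotInt (v : Cfsg.GolayPt → ℤ) (x : Cfsg.GolayPt → ℤ) = 0 ∧ Cfsg.dotInt (w : Cfsg.GolayPt → ℤ) (x : Cfsg.GolayPt → ℤ) = 16}, ∃ g : ↥Cfsg.Co0, g • v = v ∧ g • w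 = w ∧ g • x = x') ∧ ∀ x ∈ {x : ↥Cfsg.leechLattice | Cfsg.sqNorm (x : Cfsg.GolayPt → ℤ) = 32 ∧ Cfsg.dotInt (v : Cfsg.GolayPt → ℤ) (x : Cfsg.GolayPt → ℤ) = 0 ∧ Cfsg.dotInt (w : Cfsg.GolayPt → ℤ) (x : Cfsg.GolayPt → ℤ) = 16}, ∃ y₁ ∈ {x : ↥Cfsg.leechLattice | Cfsg.sqNorm (x : Cfsg.GolayPt → ℤ) = 32 ∧ Cfsg.dotInt (v : Cfsg.GolayPt → ℤ) (x : Cfsg.GolayPt → ℤ) = 0 ∧ Cfsg.dotInt (w : Cfsg.GolayPt → ℤ) (x : Cfsg.GolayPt → ℤ) = 16}, ∃ y₂ ∈ {x : ↥Cfsg.leechLattice | Cfsg.sqNorm (x : Cfsg.GolayPt → ℤ) = 32 ∧ Cfsg.dotInt (v : Cfsg.GolayPt → ℤ) (x : Cfsg.GolayPt → ℤ) = 0 ∧ Cfsg.dotInt (w : Cfsg.GolayPt → ℤ) (x : Cfsg.GolayPt → ℤ) = 16}, ∃ y₃ ∈ {x : ↥Cfsg.leechLattice | Cfsg.sqNorm (x : Cfsg.GolayPt → ℤ) = 32 ∧ Cfsg.dotInt (v : Cfsg.GolayPt → ℤ) (x : Cfsg.GolayPt → ℤ) = 0 ∧ Cfsg.dotInt (w : Cfsg.GolayPt → ℤ) (x : Cfsg.GolayPt → ℤ) = 16}, (MulAction.orbit ↥(MulAction.stabilizer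 ↥Cfsg.Co0 v ⊓ MulAction.stabilizer ↥Cfsg.Co0 w ⊓ MulAction.stabilizer ↥Cfsg.Co0 x) y₁).ncard = 330 ∧ (MulAction.orbit ↥(MulAction.stabilizer ↥Cfsg.Co0 v ⊓ MulAction.stabilizer ↥Cfsg.Co0 w ⊓ MulAction.stabilizer ↥Cfsg.Co0 x) y₂).ncard = 462 ∧ (MulAction.orbit ↥(MulAction.stabilizer ↥Cfsg.Co0 v ⊓ MulAction.stabilizer ↥Cfsg.Co0 w ⊓ MulAction.stabilizer ↥Cfsg.Co0 x) y₃).ncard = 1232 := by
  set X := {x : ↥Cfsg.leechLattice | Cfsg.sqNorm (x : Cfsg.GolayPt → ℤ) = 32 ∧ Cfsg.dotInt (v : Cfsg.GolayPt → ℤ) (x : Cfsg.GolayPt → ℤ) = 0 ∧ Cfsg.dotInt (w : Cfsg.GolayPt → ℤ) (x : Cfsg.GolayPt → ℤ) = 16} with hX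
  set u : leechLattice := v + w with hu
  have hun : sqNorm (u : GolayPt → ℤ) = 48 := by rw [hu, AddSubgroup.coe_add, add_norm hv hw hvw]; norm_num
  have hud : dotInt (u : GolayPt → ℤ) (v : GolayPt → ℤ) = 24 := by
    rw [hu, AddSubgroup.coe_add, dot_add_left, dot_self, hv, dot_symm, hvw]; norm_num
  obtain ⟨α, h1, h2⟩ := exists_normal_552 hun hv hud
  have h3 : α • -v = Spor.leechU := by rw [smul_neg', h2, negU, neg_neg]
  have hT := spec2025.transfer α (cs := [(u, -16), (-v, 0)]) (by simp only [mapC, cs2025, List.map_cons, List.map_nil, h1, h3])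
  have hmem : ∀ z : leechLattice, z ∈ X ↔ -z ∈ consSet [(u, -16), (-v, 0)] := fun z => by
    rw [hX, Set.mem_ofPred_eq, mem_cons2, hu, AddSubgroup.coe_neg, AddSubgroup.coe_neg, AddSubgroup.coe_add,
      sqNorm_neg, dot_neg_right, dot_neg_right, dot_add_left, dot_symm (-(v : GolayPt → ℤ)), dot_neg_right,
      neg_neg, dot_symm (z : GolayPt → ℤ) (v : GolayPt → ℤ)]
    constructor <;> rintro ⟨a, b, c⟩ <;> exact ⟨a, by omega, by omega⟩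
  have hK : ∀ (g : Co0), (g • u = u ∧ g • -v = -v) ↔ (g • v = v ∧ g • w = w) := fun g => by
    rw [smul_neg', neg_inj, hu, smul_add']
    exact ⟨fun h => ⟨h.2, by have h' := h.1; rwa [h.2, add_right_inj] at h'⟩, fun h => ⟨by rw [h.1, h.2], h.1⟩⟩
  refine ⟨?_, fun x hx x' hx' => ?_, fun x hx => ?_⟩
  · rw [← hT.ncard, ← neg_image_ncard (consSet _)]
    congr 1
    ext z
    rw [hmem]
    exact ⟨fun h => ⟨-z, h, neg_neg z⟩, by rintro ⟨y, hy, rfl⟩; rwa [neg_neg]⟩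
  · obtain ⟨g, hg, e⟩ := hT.exists_smul ((hmem x).mp hx) ((hmem x').mp hx')
    obtain ⟨g1, g2⟩ := (hK g).mp (consStab2.mp hg)
    rw [smul_neg', neg_inj] at e
    exact ⟨g, g1, g2, e⟩
  · have hm : α • -x ∈ consSet cs2025 := by
      have := (smul_mem_mapC_iff (γ := α)).mpr ((hmem x).mp hx)
      simpa only [mapC, cs2025, List.map_cons, List.map_nil, h1, h3] using this
    obtain ⟨δ, hδ, e⟩ := spec2025.exists_smul hm spec2025.root_mem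
    have k1 : (δ * α) • u = Spor.leechV := by rw [mul_smul, h1]; exact (consStab2.mp hδ).1
    have k2 : (δ * α) • -v = Spor.leechU := by rw [mul_smul, h3]; exact (consStab2.mp hδ).2
    have k3 : (δ * α) • -x = Spor.leechU' := by rw [mul_smul, e]; rfl
    set K := MulAction.stabilizer Co0 v ⊓ MulAction.stabilizer Co0 w ⊓ MulAction.stabilizer Co0 x with hKdef
    have hst : ∀ d : ℤ, consStab [(u, (-16 : ℤ)), (-v, 0), (-x, d)] = K := fun d => by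
      ext g
      rw [consStab3, ← and_assoc, hK, hKdef, Subgroup.mem_inf, Subgroup.mem_inf, MulAction.mem_stabilizer_iff,
        MulAction.mem_stabilizer_iff, MulAction.mem_stabilizer_iff, smul_neg' g x, neg_inj]
    have key : ∀ {cs : List (leechLattice × ℤ)} {r : leechLattice} {n : ℕ} (d : ℤ), OrbitSpec cs r n →
        mapC (δ * α) [(u, (-16 : ℤ)), (-v, 0), (-x, d)] = cs → ∃ y ∈ X, (MulAction.orbit K y).ncard = n := by
      intro cs r n d hs he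
      have h := hs.transfer (δ * α) he
      have o := h.orbit_eq h.root_mem
      rw [hst] at o
      refine ⟨-((δ * α)⁻¹ • r), ?_, ?_⟩
      · rw [hmem, neg_neg]
        exact mem_cons2.mpr ⟨(mem_cons3.mp h.root_mem).1, (mem_cons3.mp h.root_mem).2.1, (mem_cons3.mp h.root_mem).2.2.1⟩
      · rw [orbit_neg, neg_image_ncard, o, h.ncard]
    obtain ⟨y1, hy1, n1⟩ := key 0 spec330 (by simp only [mapC, cs330, List.map_cons, List.map_nil, k1, k2, k3])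
    obtain ⟨y2, hy2, n2⟩ := key 16 spec462 (by simp only [mapC, cs462, List.map_cons, List.map_nil, k1, k2, k3])
    obtain ⟨y3, hy3, n3⟩ := key 8 spec1232 (by simp only [mapC, cs1232, List.map_cons, List.map_nil, k1, k2, k3])
    exact ⟨y1, hy1, y2, hy2, y3, hy3, n1, n2, n3⟩

end Cfsg.Agent.S1634
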