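import Cfsg.Statements.S1635
import Cfsg.Agent.Lib.Golay23.Punctured

set_option autoImplicit false
open Cfsg

namespace Cfsg.Agent.S1635

/-- Coset leaders of the length-24 code: a coset contains a unique word of weight ≤ 3, or else exactly six words of weight 4 and none lighter. -/
theorem result (w : Cfsg.GolayPt → ZMod 2) : ({v : Cfsg.GolayPt → ZMod 2 | hammingNorm v ≤ 4 ∧ w - v ∈ Cfsg.golayCode}.ncard = 1 ∧ ∃ v : Cfsg.GolayPt → ZMod 2, hammingNorm v ≤ 3 ∧ w - v ∈ Cfsg.golayCode) ∨ ({v : Cfsg.GolayPt → ZMod 2 | hammingNorm v ≤ 4 ∧ w - v ∈ Cfsg.golayCode}.ncard = 6 ∧ ∀ v : Cfsg.GolayPt → ZMod 2, w - v ∈ Cfsg.golayCode → hammingNorm v ≤ 4 → hammingNorm v = 4) := by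
  have hneg : ∀ v : Cfsg.GolayPt → ZMod 2, (w - v ∈ Cfsg.golayCode ↔ v - w ∈ Cfsg.golayCode) := by
    intro v
    rw [← neg_sub, Submodule.neg_mem_iff]
  have hset : {v : Cfsg.GolayPt → ZMod 2 | hammingNorm v ≤ 4 ∧ w - v ∈ Cfsg.golayCode} =
      {v : Cfsg.GolayPt → ZMod 2 | v - w ∈ Cfsg.golayCode ∧ hammingNorm v ≤ 4} := by
    ext v; simp [hneg, and_comm]
  rw [hset]
  rcases CfsgLib.Combin.AbstractGolay.coset_leaders CfsgLib.GolayModule.isGolay w with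
    ⟨v, hv, hv3⟩ | ⟨hc, hp⟩
  · left
    have hm : v ∈ {v : Cfsg.GolayPt → ZMod 2 | v - w ∈ Cfsg.golayCode ∧ hammingNorm v ≤ 4} := by
      rw [hv]; rfl
    exact ⟨by rw [hv, Set.ncard_singleton], v, hv3, (hneg v).2 hm.1⟩
  · exact Or.inr ⟨hc, fun v h1 h2 => (hp v ⟨(hneg v).1 h1, h2⟩).1⟩

end Cfsg.Agent.S1635
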