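import Cfsg.Statements.S1638
import Cfsg.Agent.Lib.GolayPointed.Orbits

set_option autoImplicit false
open scoped Pointwise
open Cfsg
open CfsgLib.GolayPointed

namespace Cfsg.Agent.S1638

/-- Fix two points p ≠ q and a pair s of two further points. Among the pairs avoiding p, q and disjoint from s, exactly 30 lie in an octad together with p, q and s and exactly 160 do not; and any two pairs other than s that meet s in equally many points and agree on that octad property are carried to one another by an element of the group of the length-24 code fixing p, q and s. -/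
theorem result (p q : Cfsg.GolayPt) (hpq : p ≠ q) (s : Finset Cfsg.GolayPt) (hs : (s.card = 2 ∧ p ∉ s ∧ q ∉ s)) : {t : Finset Cfsg.GolayPt | (t.card = 2 ∧ p ∉ t ∧ q ∉ t) ∧ Disjoint s t ∧ (∃ o ∈ Cfsg.octads, p ∈ o ∧ q ∈ o ∧ s ∪ t ⊆ o)}.ncard = 30 ∧ {t : Finset Cfsg.GolayPt | (t.card = 2 ∧ p ∉ t ∧ q ∉ t) ∧ Disjoint s t ∧ ¬ (∃ o ∈ Cfsg.octads, p ∈ o ∧ q ∈ o ∧ s ∪ t ⊆ o)}.ncard = 160 ∧ ∀ t t' : Finset Cfsg.GolayPt, (t.card = 2 ∧ p ∉ t ∧ q ∉ t) → (t'.card = 2 ∧ p ∉ t' ∧ q ∉ t') → t ≠ s → t' ≠ s → (s ∩ t).card = (s ∩ t').card → ((∃ o ∈ Cfsg.octads, p ∈ o ∧ q ∈ o ∧ s ∪ t ⊆ o) ↔ (∃ o ∈ Cfsg.octads, p ∈ o ∧ q ∈ o ∧ s ∪ t' ⊆ o)) → ∃ g : Equiv.Perm Cfsg.GolayPt, g ∈ Cfsg.M24 ∧ g p = p ∧ g q = q ∧ g • s = s ∧ g • t = t' := by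
  classical
  obtain ⟨hs2, hps, hqs⟩ := hs
  have F := duad_facts hpq hs2 hps hqs
  have hval : ∀ t : Finset Cfsg.GolayPt, p ∉ t → q ∉ t →
      duadKey (p, q, s) t = 4 * (s ∩ t).card + 16 * (if InOctad (p, q, s) t then 1 else 0) := by
    intro t h1 h2
    simp [duadKey, confKey_pts, h1, h2]
  refine ⟨?_, ?_, ?_⟩
  · refine Eq.trans (congrArg Set.ncard (Set.ext fun t => ?_)) (F.1 16 30 (by decide +kernel))
    simp only [Set.mem_ofPred_eq]
    constructor
    · rintro ⟨⟨h1, h2, h3⟩, h4, h5⟩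
      refine ⟨h1, ?_⟩
      rw [hval t h2 h3, if_pos (show InOctad (p, q, s) t from h5), Finset.disjoint_iff_inter_eq_empty.mp h4]
      rfl
    · rintro ⟨h1, h2⟩
      simp only [duadKey, confKey_pts] at h2
      have hle : (s ∩ t).card ≤ 2 := hs2 ▸ Finset.card_le_card Finset.inter_subset_left
      split_ifs at h2 with h3 h4 h5 <;> first | omega |
        exact ⟨⟨h1, by assumption, by assumption⟩,
          Finset.disjoint_iff_inter_eq_empty.mpr (Finset.card_eq_zero.mp (by omega)), by assumption⟩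
  · refine Eq.trans (congrArg Set.ncard (Set.ext fun t => ?_)) (F.1 0 160 (by decide +kernel))
    simp only [Set.mem_ofPred_eq]
    constructor
    · rintro ⟨⟨h1, h2, h3⟩, h4, h5⟩
      refine ⟨h1, ?_⟩
      rw [hval t h2 h3, if_neg (show ¬ InOctad (p, q, s) t from h5), Finset.disjoint_iff_inter_eq_empty.mp h4]
      rfl
    · rintro ⟨h1, h2⟩
      simp only [duadKey, confKey_pts] at h2
      split_ifs at h2 <;> first | omega |
        exact ⟨⟨h1, by assumption, by assumption⟩,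
          Finset.disjoint_iff_inter_eq_empty.mpr (Finset.card_eq_zero.mp (by omega)), by assumption⟩
  · rintro t t' ⟨ht, hpt, hqt⟩ ⟨ht', hpt', hqt'⟩ - - hcard hiff
    have hI : InOctad (p, q, s) t ↔ InOctad (p, q, s) t' := hiff
    obtain ⟨g, hg, hgt⟩ := F.2 t t' ht ht' (by
      rw [hval t hpt hqt, hval t' hpt' hqt', hcard]
      by_cases h : InOctad (p, q, s) t
      · rw [if_pos h, if_pos (hI.mp h)]
      · rw [if_neg h, if_neg (fun h' => h (hI.mpr h'))])
    obtain ⟨h1, h2, h3⟩ := smul_conf_fix hg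
    exact ⟨g, g.2, h1, h2, h3, hgt⟩

end Cfsg.Agent.S1638
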