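import Cfsg.Statements.S1639
import Cfsg.Agent.Lib.GolayPointed.Orbits
import Cfsg.Agent.Lib.GolayPointed.DodPtData
import Cfsg.Agent.Lib.Golay.OrbitTableDod

set_option autoImplicit false
open scoped Pointwise
open Cfsg

namespace Cfsg.Agent.S1639

open CfsgLib.Golay CfsgLib.GolayPointed

set_option maxRecDepth 20000

/-- The reference point and dodecad. -/
def baseDP : Conf := confOf 23 23 baseDod

/-- The invariant. -/
def invDP : Invariant dodK baseDP where
  φ := confKey baseDP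
  kφ k := confKeyN 23 23 baseDod (codeWord k)
  inv g hg X _ := by
    conv_lhs => rw [← hg]
    exact confKey_smul g _ X
  spec k _ := confKey_decS 23 23 (by decide) (codeWord_lt k)

theorem gensDodPt_spec : ∀ l ∈ gensDodPt, ∃ g : M24, toList (g : Equiv.Perm GolayPt) = l ∧ g • baseDP = baseDP :=
  exists_gen (fixConf_spec 23 23 baseDod (by decide)) (by decide +kernel)

theorem table_ok : orbitsOK dodK.W dodK.key invDP.kφ dodK.step gensDodPt (unpackTable classesDodPt) = true := by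
  decide +kernel

theorem conj {x : GolayPt} {d : Finset GolayPt} (hd : d ∈ dodecads) (hx : x ∈ d) :
    ∃ g : M24, g • baseDP = (x, x, d) := by
  obtain ⟨L, h1, h2, h3⟩ := exists_list_subset (n := 4) (s := d.erase x)
    (by rw [Finset.card_erase_of_mem hx, card_of_mem_dodecads hd]; norm_num)
  have hnd : (x :: L).Nodup :=
    List.nodup_cons.mpr ⟨fun h => (Finset.mem_erase.mp (h3 x h)).1 rfl, h1⟩
  obtain ⟨g, hg, hgL, hgd⟩ := exists_std hd (x :: L) hnd (by simp [h2]) (fun p hp => by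
    rcases List.mem_cons.mp hp with rfl | hp
    exacts [hx, (Finset.mem_erase.mp (h3 p hp)).2])
  have h23 : basePts.take 5 = pt 23 :: (basePts.take 5).tail := by decide +kernel
  rw [h23, List.map_cons] at hgL
  refine ⟨⟨g, hg⟩, ?_⟩
  rw [conf_smul]
  show (g (pt 23), g (pt 23), g • decS baseDod) = _
  rw [(List.cons.inj hgL).1, decS_baseDod, hgd]

theorem facts {x : GolayPt} {d : Finset GolayPt} (hd : d ∈ dodecads) (hx : x ∈ d) :
    Facts dodecads confKey (unpackTable classesDodPt) (x, x, d) :=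
  transfer confKey confKey_smul invDP (fun _ => rfl) gensDodPt_spec table_ok (conj hd hx)

/-- The point stabiliser acts on the 1288 dodecads through the point with rank 4 and subdegrees 1, 165, 330, 792, distinguished by intersection 4, 8, 6 with the fixed dodecad. -/
theorem result (x : Cfsg.GolayPt) (d : Finset Cfsg.GolayPt) (hd : d ∈ Cfsg.dodecads) (hx : x ∈ d) : {d' : Finset Cfsg.GolayPt | d' ∈ Cfsg.dodecads ∧ x ∈ d' ∧ (d ∩ d').card = 4}.ncard = 165 ∧ {d' : Finset Cfsg.GolayPt | d' ∈ Cfsg.dodecads ∧ x ∈ d' ∧ (d ∩ d').card = 8}.ncard = 330 ∧ {d' : Finset Cfsg.GolayPt | d' ∈ Cfsg.dodecads ∧ x ∈ d' ∧ (d ∩ d').card = 6}.ncard = 792 ∧ ∀ d' d'' : Finset Cfsg.GolayPt, d' ∈ Cfsg.dodecads → d'' ∈ Cfsg.dodecads → x ∈ d' → x ∈ d'' → (d ∩ d').card = (d ∩ d'').card → ∃ g : Equiv.Perm Cfsg.GolayPt, g ∈ Cfsg.M24 ∧ g x = x ∧ g • d = d ∧ g • d' = d'' := by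
  have F := facts hd hx
  have key : ∀ (k : ℕ), {d' : Finset Cfsg.GolayPt | d' ∈ Cfsg.dodecads ∧ x ∈ d' ∧ (d ∩ d').card = k} =
      {X | X ∈ Cfsg.dodecads ∧ confKey (x, x, d) X = 3 + 4 * k} := by
    intro k
    ext X
    simp only [Set.mem_ofPred_eq, confKey_pts]
    constructor
    · rintro ⟨h1, h2, h3⟩
      rw [if_pos h2]
      exact ⟨h1, by omega⟩
    · rintro ⟨h1, h2⟩
      split_ifs at h2 with h3 <;> first | omega | exact ⟨h1, h3, by omega⟩
  refine ⟨?_, ?_, ?_, ?_⟩
  · rw [key]; exact F.1 19 165 (by decide +kernel)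
  · rw [key]; exact F.1 35 330 (by decide +kernel)
  · rw [key]; exact F.1 27 792 (by decide +kernel)
  · intro d' d'' hd' hd'' h1 h2 h
    obtain ⟨g, hg, hgo⟩ := F.2 d' d'' hd' hd'' (by simp only [confKey_pts, if_pos h1, if_pos h2, h])
    obtain ⟨e1, -, e3⟩ := smul_conf_fix hg
    exact ⟨g, g.2, e1, e3, hgo⟩

end Cfsg.Agent.S1639
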