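import Cfsg.Statements.S1641
import Cfsg.Agent.Lib.Golay.LeechOrbit.Normal
import Cfsg.Agent.Lib.Golay.LeechOrbit.CertHS
import Cfsg.Agent.Lib.Golay.LeechOrbit.CertHSCo

set_option autoImplicit false
open Cfsg CfsgLib.Golay CfsgLib.Golay.LeechOrbit CfsgLib.MonsterType CfsgLib.Sporadic

/-- The inner products inside the 11178 points. -/
theorem dots11178 : ∀ y ∈ consSet cs11178, y = root11178 ∨
    dotInt (root11178 : GolayPt → ℤ) (y : GolayPt → ℤ) ∈ [-8, 16, 0, 8] :=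
  dot_cases_of_check C11178 cover11178 [-4, 0, 0, 0, 0, 0, 0, 0, 0, 0, 0, 0, 0, 0, 0, 0, 0, 0, 0, 0, 0, 0, 0, 4] (by decide +kernel) (by decide +kernel)


namespace Cfsg.Agent.S1641

/-- The third Conway group acts on the 11178 cosets of the Higman–Sims group with rank 5 and subdegrees 1, 352, 1100, 4125, 5600. -/
theorem result (u x : ↥Cfsg.leechLattice) (hu : Cfsg.sqNorm (u : Cfsg.GolayPt → ℤ) = 48) (hx : x ∈ {x : ↥Cfsg.leechLattice | Cfsg.sqNorm (x : Cfsg.GolayPt → ℤ) = 32 ∧ Cfsg.dotInt (u : Cfsg.GolayPt → ℤ) (x : Cfsg.GolayPt → ℤ) = -16}) : ∃ y₁ ∈ {x : ↥Cfsg.leechLattice | Cfsg.sqNorm (x : Cfsg.GolayPt → ℤ) = 32 ∧ Cfsg.dotInt (u : Cfsg.GolayPt → ℤ) (x : Cfsg.GolayPt → ℤ) = -16}, ∃ y₂ ∈ {x : ↥Cfsg.leechLattice | Cfsg.sqNorm (x : Cfsg.GolayPt → ℤ) = 32 ∧ Cfsg.dotInt (u : Cfsg.GolayPt → ℤ) (x : Cfsg.GolayPt → ℤ) = -16}, ∃ y₃ ∈ {x : ↥Cfsg.leechLattice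 | Cfsg.sqNorm (x : Cfsg.GolayPt → ℤ) = 32 ∧ Cfsg.dotInt (u : Cfsg.GolayPt → ℤ) (x : Cfsg.GolayPt → ℤ) = -16}, ∃ y₄ ∈ {x : ↥Cfsg.leechLattice | Cfsg.sqNorm (x : Cfsg.GolayPt → ℤ) = 32 ∧ Cfsg.dotInt (u : Cfsg.GolayPt → ℤ) (x : Cfsg.GolayPt → ℤ) = -16}, (MulAction.orbit ↥(MulAction.stabilizer ↥Cfsg.Co0 u ⊓ MulAction.stabilizer ↥Cfsg.Co0 x) y₁).ncard = 352 ∧ (MulAction.orbit ↥(MulAction.stabilizer ↥Cfsg.Co0 u ⊓ MulAction.stabilizer ↥Cfsg.Co0 x) y₂).ncard = 1100 ∧ (MulAction.orbit ↥(MulAction.stabilizer ↥Cfsg.Co0 u ⊓ MulAction.stabilizer ↥Cfsg.Co0 x) y₃).ncard = 4125 ∧ (MulAction.orbit ↥(MulAction.stabilizer ↥Cfsg.Co0 u ⊓ MulAction.stabilizer ↥Cfsg.Co0 x) y₄).ncard = 5600 ∧ {x : ↥Cfsg.leechLattice | Cfsg.sqNorm (x : Cfsg.GolayPt → ℤ) = 32 ∧ Cfsg.dotInt (u : Cfsg.GolayPt → ℤ) (x : Cfsg.GolayPt → ℤ) = -16} = {x} ∪ MulAction.orbit ↥(MulAction.stabilizer ↥Cfsg.Co0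 u ⊓ MulAction.stabilizer ↥Cfsg.Co0 x) y₁ ∪ MulAction.orbit ↥(MulAction.stabilizer ↥Cfsg.Co0 u ⊓ MulAction.stabilizer ↥Cfsg.Co0 x) y₂ ∪ MulAction.orbit ↥(MulAction.stabilizer ↥Cfsg.Co0 u ⊓ MulAction.stabilizer ↥Cfsg.Co0 x) y₃ ∪ MulAction.orbit ↥(MulAction.stabilizer ↥Cfsg.Co0 u ⊓ MulAction.stabilizer ↥Cfsg.Co0 x) y₄ := by
  have hset : {x : ↥Cfsg.leechLattice | Cfsg.sqNorm (x : Cfsg.GolayPt → ℤ) = 32 ∧ Cfsg.dotInt (u : Cfsg.GolayPt → ℤ) (x : Cfsg.GolayPt → ℤ) = -16} = consSet [(u, -16)] := by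
    ext x
    rw [mem_cons1, Set.mem_ofPred_eq]
  rw [hset] at hx ⊢
  obtain ⟨hxn, hxd⟩ := mem_cons1.mp hx
  obtain ⟨γ, k1, k2⟩ := exists_normal_11178 hu hxn hxd
  set K := MulAction.stabilizer Co0 u ⊓ MulAction.stabilizer Co0 x with hK
  have hw : γ • (-(u + x)) = vecWL := by rw [smul_neg', smul_add', k1, k2]; rfl
  have hd : ∀ y ∈ consSet [(u, -16)], y = x ∨ dotInt (x : GolayPt → ℤ) (y : GolayPt → ℤ) ∈ [-8, 16, 0, 8] :=
    dot_cases_transfer dots11178 γ (by simp [mapC, cs11178, k1]) k2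
  have hB := spec352.transfer γ (cs := [(u, -16), (-(u + x), 24)]) (by simp only [mapC, cs352, List.map_cons, List.map_nil, k1, hw])
  have hC := spec1100.transfer γ (cs := [(u, -16), (x, 16)]) (by simp [mapC, cs1100, k1, k2])
  have hD := spec4125.transfer γ (cs := [(u, -16), (x, 0)]) (by simp [mapC, cs4125, k1, k2])
  have hE := spec5600.transfer γ (cs := [(u, -16), (x, 8)]) (by simp [mapC, cs5600, k1, k2])
  have e1 : consStab [(u, (-16 : ℤ)), (-(u + x), 24)] = K := by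
    ext g
    rw [consStab2, hK, Subgroup.mem_inf, MulAction.mem_stabilizer_iff, MulAction.mem_stabilizer_iff,
      smul_neg', smul_add', neg_inj]
    exact ⟨fun h => ⟨h.1, by have h' := h.2; rwa [h.1, add_right_inj] at h'⟩, fun h => ⟨h.1, by rw [h.1, h.2]⟩⟩
  have e2 : ∀ d : ℤ, consStab [(u, (-16 : ℤ)), (x, d)] = K := fun d => by
    ext g
    rw [consStab2, hK, Subgroup.mem_inf, MulAction.mem_stabilizer_iff, MulAction.mem_stabilizer_iff]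
  have oB := hB.orbit_eq hB.root_mem
  have oC := hC.orbit_eq hC.root_mem
  have oD := hD.orbit_eq hD.root_mem
  have oE := hE.orbit_eq hE.root_mem
  rw [e1] at oB
  rw [e2] at oC oD oE
  have hwd : ∀ y : leechLattice, dotInt ((-(u + x) : leechLattice) : GolayPt → ℤ) (y : GolayPt → ℤ) =
      -(dotInt (u : GolayPt → ℤ) (y : GolayPt → ℤ) + dotInt (x : GolayPt → ℤ) (y : GolayPt → ℤ)) := fun y => by
    rw [AddSubgroup.coe_neg, AddSubgroup.coe_add, dot_symm, dot_neg_right, dot_symm, dot_add_left]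
  have hsub : ∀ {d : leechLattice} {a : ℤ}, consSet [(u, (-16 : ℤ)), (d, a)] ⊆ consSet [(u, -16)] :=
    fun {d a} y hy => mem_cons1.mpr ⟨(mem_cons2.mp hy).1, (mem_cons2.mp hy).2.1⟩
  refine ⟨_, hsub hB.root_mem, _, hsub hC.root_mem, _, hsub hD.root_mem, _, hsub hE.root_mem,
    by rw [oB, hB.ncard], by rw [oC, hC.ncard], by rw [oD, hD.ncard], by rw [oE, hE.ncard], ?_⟩
  rw [oB, oC, oD, oE]
  ext y
  simp only [Set.mem_union, Set.mem_singleton_iff, mem_cons2]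
  constructor
  · intro hy
    obtain ⟨hyn, hyd⟩ := mem_cons1.mp hy
    rcases hd y hy with e | e
    · exact Or.inl (Or.inl (Or.inl (Or.inl e)))
    · simp only [List.mem_cons, List.not_mem_nil, or_false] at e
      rcases e with e | e | e | e
      · exact Or.inl (Or.inl (Or.inl (Or.inr ⟨hyn, hyd, by rw [hwd, hyd, e]; norm_num⟩)))
      · exact Or.inl (Or.inl (Or.inr ⟨hyn, hyd, e⟩))
      · exact Or.inl (Or.inr ⟨hyn, hyd, e⟩)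
      · exact Or.inr ⟨hyn, hyd, e⟩
  · rintro ((((rfl | h) | h) | h) | h)
    exacts [hx, mem_cons1.mpr ⟨h.1, h.2.1⟩, mem_cons1.mpr ⟨h.1, h.2.1⟩, mem_cons1.mpr ⟨h.1, h.2.1⟩,
      mem_cons1.mpr ⟨h.1, h.2.1⟩]

end Cfsg.Agent.S1641
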