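import Cfsg.Statements.S1643
import Cfsg.Agent.Lib.M23Triples.Criterion
import Cfsg.Agent.Lib.GolayPointed.LinearDodData
import Cfsg.Agent.Lib.Golay.OrbitTableDod

set_option autoImplicit false
open scoped Pointwise
open Cfsg

namespace Cfsg.Agent.S1643

open CfsgLib.Golay CfsgLib.GolayPointed CfsgLib.M23Triples

set_option maxRecDepth 20000

/-- Multiplications by squares. -/
abbrev sqMaps : Set (Equiv.Perm GolayPt) :=
  {g : Equiv.Perm Cfsg.GolayPt | ∃ u : (ZMod 23)ˣ, IsSquare u ∧ g = Equiv.optionCongr (Units.mulLeft u)}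

/-- The group of the affine maps with square multiplier. -/
abbrev affGroup : Subgroup (Equiv.Perm GolayPt) := Subgroup.closure ({shiftPerm} ∪ sqMaps)

/-- The projective special linear group. -/
abbrev linGroup : Subgroup (Equiv.Perm GolayPt) := Subgroup.closure ({shiftPerm, projInv} ∪ sqMaps)

theorem doublePerm_eq : doublePerm = Equiv.optionCongr (Units.mulLeft (⟨2, 12, by decide, by decide⟩ : (ZMod 23)ˣ)) := by
  decide +kernel

theorem squares_eq_pow : ∀ u : (ZMod 23)ˣ, IsSquare u →
    ∃ i : Fin 11, Equiv.optionCongr (Units.mulLeft u) = doublePerm ^ i.val := by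
  decide +kernel

theorem doublePerm_mem_sqMaps : doublePerm ∈ sqMaps :=
  ⟨_, ⟨⟨5, 14, by decide, by decide⟩, by decide +kernel⟩, doublePerm_eq⟩

theorem sqMaps_le {H : Subgroup (Equiv.Perm GolayPt)} (h : doublePerm ∈ H) {g : Equiv.Perm GolayPt}
    (hg : g ∈ sqMaps) : g ∈ H := by
  obtain ⟨u, hu, rfl⟩ := hg
  obtain ⟨i, hi⟩ := squares_eq_pow u hu
  rw [hi]
  exact pow_mem h _

theorem linGroup_le : linGroup ≤ M24 := by
  rw [Subgroup.closure_le]
  rintro g ((rfl | rfl) | hg)
  exacts [shiftPerm_mem_M24, projInv_mem_M24, sqMaps_le doublePerm_mem_M24 hg]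

theorem affGroup_le_lin : affGroup ≤ linGroup :=
  Subgroup.closure_mono (Set.union_subset_union_left _ (by simp))

theorem shift_mem_M23 : shiftPerm ∈ Spor.M23 := by
  rw [sporM23_eq]; exact mem_fixPts.mpr ⟨shiftPerm_mem_M24, by decide +kernel⟩

theorem double_mem_M23 : doublePerm ∈ Spor.M23 := by
  rw [sporM23_eq]; exact mem_fixPts.mpr ⟨doublePerm_mem_M24, by simp [doublePerm_fix_none]⟩

theorem mem_M23 {σ : Equiv.Perm GolayPt} : σ ∈ Spor.M23 ↔ σ ∈ M24 ∧ σ none = none := by
  rw [sporM23_eq, mem_fixPts]; simp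

theorem affGroup_le_M23 : affGroup ≤ Spor.M23 := by
  rw [Subgroup.closure_le]
  rintro g (rfl | hg)
  exacts [shift_mem_M23, sqMaps_le double_mem_M23 hg]

theorem arith : ∀ m : Fin 1754, (23 * m.val + 1) ∣ 40320 →
    (∃ f : Fin 6, f.val ∣ 5 ∧ 11 * f.val ∣ 253 * (23 * m.val + 1) ∧
      253 * (23 * m.val + 1) / (11 * f.val) % 11 = 1) → m.val = 0 ∨ m.val = 1753 := by
  decide +kernel

/-- A subgroup of `M23` holding the standard elements of orders 23 and 11 has order 253 or is everything. -/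
theorem dichotomy (H : Subgroup Spor.M23) (h1 : (⟨shiftPerm, shift_mem_M23⟩ : Spor.M23) ∈ H)
    (h2 : (⟨doublePerm, double_mem_M23⟩ : Spor.M23) ∈ H) :
    Nat.card H = 253 ∨ H = ⊤ := by
  have h23p : Fact (Nat.Prime 23) := ⟨by norm_num⟩
  have hcard : Nat.card Spor.M23 = 10200960 := natCard_sporM23
  have hmem : ∀ σ ∈ Spor.M23, σ ∈ M24 ∧ σ none = none := fun σ hσ => mem_M23.mp hσ
  have hN := natCard_normalizer_eq (p := 23) (r := 11) _ shift_mem_M23 (by norm_num) orderOf_shiftPerm hcard
    (by norm_num) ((natCard_normalizer_le _ shift_mem_M23 (by norm_num) orderOf_shiftPerm shiftCands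
      (fun σ hσ k hk hk' h => toList_mem_shiftCands (hmem σ hσ).1 (hmem σ hσ).2 hk hk' h)).trans
      (by rw [length_shiftCands]))
    (by decide +kernel)
  have hM := natCard_normalizer_eq (p := 11) (r := 5) _ double_mem_M23 (by norm_num) orderOf_doublePerm hcard
    (by norm_num) ((natCard_normalizer_le _ double_mem_M23 (by norm_num) orderOf_doublePerm doubleCands
      (fun σ hσ k hk hk' h => toList_mem_doubleCands (hmem σ hσ).1 (hmem σ hσ).2
        (double_fix_zero (hmem σ hσ).2 hk hk' h) hk hk' h)).trans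
      (by rw [length_doubleCands]))
    (by decide +kernel)
  set a : H := ⟨⟨shiftPerm, shift_mem_M23⟩, h1⟩
  set d : H := ⟨⟨doublePerm, double_mem_M23⟩, h2⟩
  have oa : orderOf a = 23 := by rw [Subgroup.orderOf_mk, Subgroup.orderOf_mk, orderOf_shiftPerm]
  have od : orderOf d = 11 := by rw [Subgroup.orderOf_mk, Subgroup.orderOf_mk, orderOf_doublePerm]
  set P := Subgroup.zpowers a with hP
  set K := Subgroup.normalizer (P : Set H) with hK
  have hPc : Nat.card P = 23 := by rw [hP, Nat.card_zpowers, oa]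
  have hda : d * a * d⁻¹ = a ^ 2 := by
    have h : doublePerm * shiftPerm = shiftPerm ^ 2 * doublePerm := by decide +kernel
    rw [mul_inv_eq_iff_eq_mul]
    exact Subtype.ext (Subtype.ext h)
  have hdK : d ∈ K := by
    have hmap : P.map (MulAut.conj d).toMonoidHom = P := by
      refine Subgroup.eq_of_le_of_card_ge ?_ (le_of_eq ?_)
      · rw [hP, MonoidHom.map_zpowers, Subgroup.zpowers_le]
        show d * a * d⁻¹ ∈ _
        rw [hda]
        exact pow_mem (Subgroup.mem_zpowers a) 2
      · exact Nat.card_congr (P.equivMapOfInjective _ (MulAut.conj d).injective).toEquiv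
    rw [hK, Subgroup.mem_normalizer_iff]
    intro x
    constructor
    · intro hx
      exact hmap.le ⟨x, hx, rfl⟩
    · intro hx
      obtain ⟨y, hy, he⟩ := hmap.ge hx
      rwa [← (MulAut.conj d).injective he]
  have hKc : Nat.card K = 253 := by
    refine Nat.dvd_antisymm ?_ (Nat.Coprime.mul_dvd_of_dvd_of_dvd (m := 23) (n := 11) (by norm_num) ?_ ?_)
    · have hle : K.map H.subtype ≤
          Subgroup.normalizer (Subgroup.zpowers (⟨shiftPerm, shift_mem_M23⟩ : Spor.M23) : Set Spor.M23) := by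
        refine (Subgroup.le_normalizer_map H.subtype).trans (le_of_eq ?_)
        rw [hP, MonoidHom.map_zpowers]
        rfl
      rw [Nat.card_congr (K.equivMapOfInjective H.subtype H.subtype_injective).toEquiv]
      exact (Subgroup.card_dvd_of_le hle).trans (by rw [hN])
    · exact hPc.symm.dvd.trans (Subgroup.card_dvd_of_le Subgroup.le_normalizer)
    · rw [← od, ← Subgroup.orderOf_mk d hdK]
      exact orderOf_dvd_natCard _
  obtain ⟨k, hk⟩ : 253 ∣ Nat.card H := hKc ▸ K.card_subgroup_dvd_card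
  have hfac : (Nat.card H).factorization 23 = 1 := by
    refine le_antisymm ?_ (Nat.Prime.factorization_pos_of_dvd h23p.out Nat.card_pos.ne' ?_)
    · by_contra hlt
      have h529 := ((pow_dvd_pow 23 (not_le.mp hlt)).trans (Nat.ordProj_dvd _ _)).trans H.card_subgroup_dvd_card
      rw [hcard] at h529
      norm_num at h529
    · exact Dvd.dvd.trans (by norm_num) ⟨k, hk⟩
  have hidx : K.index = k := by
    have := K.index_mul_card
    rw [hKc, hk] at this
    omega
  have hk23 : k % 23 = 1 := by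
    have h4 := card_sylow_modEq_one 23 H
    rw [Sylow.card_eq_index_normalizer (Sylow.ofCard P (by rw [hPc, hfac, pow_one]))] at h4
    change K.index ≡ 1 [MOD 23] at h4
    rw [hidx] at h4
    exact h4
  have hk40 : k ∣ 40320 := Nat.dvd_of_mul_dvd_mul_left (k := 253) (by norm_num)
    (by have := H.card_subgroup_dvd_card; rw [hk, hcard] at this; exact this)
  obtain ⟨f, hf1, hf2, hf3⟩ := sylow_condition (by norm_num) (by rw [hcard]; norm_num)
    (by rw [← Subgroup.orderOf_coe]; exact orderOf_doublePerm) hM H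
    (hk ▸ Dvd.dvd.mul_right (by norm_num) k)
  rw [hk] at hf2 hf3
  have hkle := Nat.le_of_dvd (by norm_num) hk40
  obtain ⟨m, rfl⟩ : ∃ m, k = 23 * m + 1 := ⟨k / 23, by omega⟩
  rcases arith ⟨m, by omega⟩ hk40
    ⟨⟨f, Nat.lt_succ_of_le (Nat.le_of_dvd (by norm_num) hf1)⟩, hf1, hf2, hf3⟩ with h | h <;>
    change m = _ at h <;> subst h
  · exact Or.inl (by rw [hk])
  · exact Or.inr (Subgroup.eq_top_of_card_eq _ (by rw [hk, hcard]))

theorem shift_mem_aff : shiftPerm ∈ affGroup := Subgroup.subset_closure (Or.inl rfl)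

theorem double_mem_aff : doublePerm ∈ affGroup := Subgroup.subset_closure (Or.inr doublePerm_mem_sqMaps)

/-- The alternatives for an overgroup of the affine group inside `M23`. -/
theorem over_aff (X : Subgroup (Equiv.Perm GolayPt)) (hX : affGroup ≤ X) :
    Nat.card ↥(X.subgroupOf Spor.M23) = 253 ∨ Spor.M23 ≤ X :=
  (dichotomy (X.subgroupOf Spor.M23) (hX shift_mem_aff) (hX double_mem_aff)).imp id
    Subgroup.subgroupOf_eq_top.mp

theorem reach : ∀ t : GolayPt, t = none ∨ ∃ i : Fin 23, (shiftPerm ^ i.val * projInv) none = t := by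
  decide +kernel

/-- A subgroup of `M24` above the group has order 24 times its part in `M23`. -/
theorem card_over (X : Subgroup (Equiv.Perm GolayPt)) (hX : linGroup ≤ X) (hX' : X ≤ M24) :
    Nat.card X = 24 * Nat.card ↥(X.subgroupOf Spor.M23) := by
  have hs : X ⊓ MulAction.stabilizer (Equiv.Perm GolayPt) (none : GolayPt) = X ⊓ Spor.M23 := by
    ext σ
    simp only [Subgroup.mem_inf, MulAction.mem_stabilizer_iff, mem_M23, Equiv.Perm.smul_def]
    exact ⟨fun h => ⟨h.1, hX' h.1, h.2⟩, fun h => ⟨h.1, h.2.2⟩⟩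
  rw [natCard_eq_ncard_mul_natCard X (none : GolayPt) Finset.univ (fun _ _ => Finset.mem_univ _)
    (fun t _ => ?_), hs, Finset.card_univ]
  · congr 1
    rw [← Subgroup.inf_subgroupOf_right]
    exact (Nat.card_congr (Subgroup.subgroupOfEquivOfLe inf_le_right).toEquiv).symm
  · rcases reach t with rfl | ⟨i, hi⟩
    · exact ⟨1, one_mem _, rfl⟩
    · have hs : shiftPerm ∈ linGroup := Subgroup.subset_closure (Or.inl (Or.inl rfl))
      have hp : projInv ∈ linGroup := Subgroup.subset_closure (Or.inl (Or.inr rfl))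
      exact ⟨shiftPerm ^ i.val * projInv, hX (mul_mem (pow_mem hs _) hp), hi⟩

theorem eq_M24_of_M23_le (X : Subgroup (Equiv.Perm GolayPt)) (hX : linGroup ≤ X) (hX' : X ≤ M24)
    (h : Spor.M23 ≤ X) : X = M24 := by
  refine Subgroup.eq_of_le_of_card_ge hX' (le_of_eq ?_)
  rw [natCard_M24, card_over X hX hX', Subgroup.subgroupOf_eq_top.mpr h, Subgroup.card_top, natCard_sporM23]

theorem orbit_stable :
    [shiftPerm, projInv, doublePerm].all (fun σ =>
      linearDodKeys.all fun k => linearDodKeys.elem (codeAct (toList σ) k)) = true := by decide +kernel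

theorem orbit_spec : linearDodKeys.all (fun k => dodKeys.elem k) = true ∧
    linearDodKeys.elem 31 = true ∧ linearDodKeys.elem 13 = false ∧ dodKeys.elem 13 = true := by
  decide +kernel

theorem linGroup_ne : linGroup ≠ M24 := by
  intro he
  set Y : Set (Finset GolayPt) := codeSet '' {k | k ∈ linearDodKeys}
  have hgen : ∀ σ ∈ [shiftPerm, projInv, doublePerm], σ ∈ MulAction.stabilizer (Equiv.Perm GolayPt) Y := by
    intro σ hσ
    have hσ' : σ ∈ M24 := by
      simp only [List.mem_cons, List.not_mem_nil, or_false] at hσ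
      rcases hσ with rfl | rfl | rfl
      exacts [shiftPerm_mem_M24, projInv_mem_M24, doublePerm_mem_M24]
    rw [MulAction.mem_stabilizer_set' (Set.Finite.image _ (List.finite_toSet _))]
    rintro _ ⟨k, hk, rfl⟩
    have h1 := List.all_eq_true.mp (List.all_eq_true.mp orbit_stable σ hσ) k hk
    exact ⟨_, List.elem_iff.mp h1, (smul_codeSet hσ' k).symm⟩
  have hle : linGroup ≤ MulAction.stabilizer (Equiv.Perm GolayPt) Y := by
    rw [Subgroup.closure_le]
    rintro g ((rfl | rfl) | hg)
    exacts [hgen _ (by simp), hgen _ (by simp), sqMaps_le (hgen _ (by simp)) hg]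
  obtain ⟨h1, h2, h3, h4⟩ := orbit_spec
  have hd : ∀ k, dodKeys.elem k = true → codeSet k ∈ dodecads := fun k hk => by
    rw [dodecads_eq]; exact ⟨k, List.elem_iff.mp hk, rfl⟩
  obtain ⟨g, hg, hgY⟩ := exists_smul_dodecad_eq (hd 31 (List.all_eq_true.mp h1 31 (List.elem_iff.mp h2))) (hd 13 h4)
  have h5 : g • codeSet 31 ∈ Y := by
    have := (MulAction.mem_stabilizer_set.mp (hle (he ▸ hg)) (codeSet 31)).mpr ⟨31, List.elem_iff.mp h2, rfl⟩
    exact this
  rw [hgY] at h5
  obtain ⟨k, hk, hkeq⟩ := h5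
  have hk' := (mem_dodKeys.mp (List.elem_iff.mp (List.all_eq_true.mp h1 k hk))).1
  have := codeSet_injOn hk' (show (13 : ℕ) < 4096 by norm_num) hkeq
  subst this
  rw [List.elem_iff.mpr hk] at h3
  exact Bool.noConfusion h3

theorem natCard_lin_inf : Nat.card ↥(linGroup.subgroupOf Spor.M23) = 253 :=
  (over_aff _ affGroup_le_lin).resolve_right fun h => linGroup_ne (eq_M24_of_M23_le _ le_rfl linGroup_le h)

theorem natCard_aff : Nat.card affGroup = 253 := by
  rw [← Nat.card_congr (Subgroup.subgroupOfEquivOfLe affGroup_le_M23).toEquiv]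
  refine (over_aff _ le_rfl).resolve_right fun h => ?_
  exact linGroup_ne (eq_M24_of_M23_le _ le_rfl linGroup_le (h.trans affGroup_le_lin))

theorem natCard_lin : Nat.card linGroup = 6072 := by
  rw [card_over _ le_rfl linGroup_le, natCard_lin_inf]

theorem lin_coatom : IsCoatom (linGroup.subgroupOf M24) := by
  refine ⟨fun h => linGroup_ne (le_antisymm linGroup_le (Subgroup.subgroupOf_eq_top.mp h)), fun K hK => ?_⟩
  have hX : linGroup ≤ K.map M24.subtype := by
    rw [← Subgroup.map_subgroupOf_eq_of_le linGroup_le]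
    exact Subgroup.map_mono hK.le
  have hX' : K.map M24.subtype ≤ M24 := Subgroup.map_subtype_le K
  rcases over_aff _ (affGroup_le_lin.trans hX) with h | h
  · exfalso
    refine hK.ne (Subgroup.map_injective M24.subtype_injective ?_)
    rw [Subgroup.map_subgroupOf_eq_of_le linGroup_le]
    exact Subgroup.eq_of_le_of_card_ge hX (by rw [card_over _ hX hX', h, natCard_lin])
  · refine Subgroup.map_injective M24.subtype_injective ?_
    rw [eq_M24_of_M23_le _ hX hX' h, ← MonoidHom.range_eq_map, Subgroup.range_subtype]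

theorem aff_coatom :
    IsCoatom ((affGroup.subgroupOf M24).subgroupOf (MulAction.stabilizer M24 (none : GolayPt))) := by
  set S := MulAction.stabilizer M24 (none : GolayPt)
  let f : ↥S →* Equiv.Perm GolayPt := M24.subtype.comp S.subtype
  have hf : Function.Injective f := M24.subtype_injective.comp S.subtype_injective
  have hmap : f.range = Spor.M23 := by
    rw [MonoidHom.range_comp, Subgroup.range_subtype, map_subtype_stabilizer_one, sporM23_eq]
  have hpre : ((affGroup.subgroupOf M24).subgroupOf S).map f = affGroup := by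
    rw [show (affGroup.subgroupOf M24).subgroupOf S = affGroup.comap f from rfl,
      Subgroup.map_comap_eq, hmap, inf_eq_right]
    exact affGroup_le_M23
  refine ⟨fun h => ?_, fun K hK => ?_⟩
  · rw [h, ← MonoidHom.range_eq_map, hmap] at hpre
    have := natCard_aff
    rw [← hpre, natCard_sporM23] at this
    norm_num at this
  have hX : affGroup ≤ K.map f := by rw [← hpre]; exact Subgroup.map_mono hK.le
  have hX' : K.map f ≤ Spor.M23 := hmap ▸ Subgroup.map_le_range f K
  rcases over_aff _ hX with h | h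
  · exfalso
    refine hK.ne (Subgroup.map_injective hf ?_)
    rw [hpre]
    refine Subgroup.eq_of_le_of_card_ge hX ?_
    rw [← Nat.card_congr (Subgroup.subgroupOfEquivOfLe hX').toEquiv, h, natCard_aff]
  · exact Subgroup.map_injective hf (by
      rw [← MonoidHom.range_eq_map, hmap]; exact le_antisymm hX' h)

theorem aff_le_stab : affGroup ≤ M24 ⊓ MulAction.stabilizer (Equiv.Perm GolayPt) (none : GolayPt) :=
  fun _ hσ => mem_M23.mp (affGroup_le_M23 hσ)

/-- PSL(2, 23) = ⟨t ↦ t+1, t ↦ u t (u square), t ↦ −1/t⟩ is maximal of order 6072 in the group of the length-24 code, and its point stabiliser 23:11 (order 253) is maximal in the Mathieu group of degree 23. -/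
theorem result : (Subgroup.closure ({Equiv.optionCongr (Equiv.addRight (1 : ZMod 23)), Cfsg.projInv} ∪ {g : Equiv.Perm Cfsg.GolayPt | ∃ u : (ZMod 23)ˣ, IsSquare u ∧ g = Equiv.optionCongr (Units.mulLeft u)}) ≤ Cfsg.M24 ∧ Nat.card ↥(Subgroup.closure ({Equiv.optionCongr (Equiv.addRight (1 : ZMod 23)), Cfsg.projInv} ∪ {g : Equiv.Perm Cfsg.GolayPt | ∃ u : (ZMod 23)ˣ, IsSquare u ∧ g = Equiv.optionCongr (Units.mulLeft u)})) = 6072 ∧ IsCoatom ((Subgroup.closure ({Equiv.optionCongr (Equiv.addRight (1 : ZMod 23)), Cfsg.projInv} ∪ {g : Equiv.Perm Cfsg.GolayPt | ∃ u : (ZMod 23)ˣ, IsSquare u ∧ g = Equiv.optionCongr (Units.mulLeft u)})).subgroupOf Cfsg.M24)) ∧ (Subgroup.closure ({Equiv.optionCongr (Equiv.addRight (1 : ZMod 23))} ∪ {g : Equiv.Perm Cfsg.GolayPt | ∃ u : (ZMod 23)ˣ, IsSquare u ∧ g = Equiv.optionCongr (Units.mulLeft u)}) ≤ Cfsg.M24 ⊓ MulAction.stabilizer (Equiv.Perm Cfsg.GolayPt) (none : Cfsg.GolayPt) ∧ Nat.card ↥(Subgroup.closure ({Equiv.optionCongr (Equiv.addRight (1 : ZMod 23))}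 ∪ {g : Equiv.Perm Cfsg.GolayPt | ∃ u : (ZMod 23)ˣ, IsSquare u ∧ g = Equiv.optionCongr (Units.mulLeft u)})) = 253 ∧ IsCoatom (((Subgroup.closure ({Equiv.optionCongr (Equiv.addRight (1 : ZMod 23))} ∪ {g : Equiv.Perm Cfsg.GolayPt | ∃ u : (ZMod 23)ˣ, IsSquare u ∧ g = Equiv.optionCongr (Units.mulLeft u)})).subgroupOf Cfsg.M24).subgroupOf (MulAction.stabilizer Cfsg.M24 (none : Cfsg.GolayPt)))) := by
  exact ⟨⟨linGroup_le, natCard_lin, lin_coatom⟩, aff_le_stab, natCard_aff, aff_coatom⟩

end Cfsg.Agent.S1643
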