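import Cfsg.Statements.S1668
import Cfsg.Agent.Lib.SuzRankThree.Iso
import Cfsg.Agent.Lib.Recognition.Transport.Chevalley

set_option autoImplicit false
open Cfsg

namespace Cfsg.Agent.S1668

/-- Recognition of the sporadic Suzuki group as a rank 3 permutation group: a transitive permutation group on 1782 points in which the stabiliser of a point is isomorphic to the Chevalley group G₂(4) and has two further orbits, of sizes 416 and 1365, is isomorphic to the sporadic Suzuki group. -/
theorem result {Ω : Type*} [Fintype Ω] [DecidableEq Ω] (hΩ : Fintype.card Ω = 1782) (G : Subgroup (Equiv.Perm Ω)) [MulAction.IsPretransitive G Ω] (a : Ω) (K : Type) [Field K] [Fintype K] (hK : Fintype.card K = 4) (e : MulAction.stabilizer G a ≃* Cfsg.Lie.chevG2.group K) (b c : Ω) (hb : (MulAction.orbit (MulAction.stabilizer G a) b).ncard = 416) (hc : (MulAction.orbit (MulAction.stabilizer G a) c).ncard = 1365) : Cfsg.Spor.IsoSuz G := by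
  open CfsgLib in
  obtain ⟨e1⟩ := Presented.SuzG2.nonempty_equiv
  open CfsgLib in
  obtain ⟨e2⟩ := Recognition.Transport.nonempty_group_congr (D := Cfsg.Lie.chevG2)
    (FiniteField.ringEquivOfCardEq (K := CfsgLib.Recognition.G2Four.F4) (K' := K) ((by decide : Fintype.card CfsgLib.Recognition.G2Four.F4 = 4).trans hK.symm))
  let β := (e1.trans e2).trans e.symm
  let E : CfsgLib.SuzRankThree.Emb G a :=
    { A := (G.subtype.comp (MulAction.stabilizer G a).subtype).comp β.toMonoidHom
      inj := fun x y h => β.injective (Subtype.ext (Subtype.ext h))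
      mem := fun x => (β x : G).2
      fix := fun x => (β x).2
      surj := fun s hs h => ⟨β.symm ⟨⟨s, hs⟩, h⟩, by simp⟩
      card := by rw [Nat.card_eq_fintype_card, hΩ]
      trans := fun p q => by
        obtain ⟨s, hs⟩ := MulAction.exists_smul_eq G p q
        exact ⟨s, s.2, hs⟩
      b := b
      c := c
      hb := by
        rw [← hb]
        congr 1
        exact β.surjective.range_comp fun s : MulAction.stabilizer G a => s • b
      hc := by
        rw [← hc]
        congr 1
        exact β.surjective.range_comp fun s : MulAction.stabilizer G a => s • c }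
  obtain ⟨E', -, hE'⟩ := E.exists_base
  obtain ⟨g, hs, hag⟩ := CfsgLib.SuzRankThree.Emb.exists_norm hE'
  exact CfsgLib.SuzRankThree.Emb.iso ⟨g, hE', hs, hag⟩

end Cfsg.Agent.S1668
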