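import Cfsg.Statements.S1712
import Cfsg.Agent.Lib.J4DCE.Lower

set_option autoImplicit false
open Cfsg CfsgLib

namespace Cfsg.Agent.S1712

/-- In the presented fourth Janko group (generators x, y, t), the subgroup generated by the images of x, y and (y * w⁻¹ * t * w) ^ 3 with w = (y * x) ^ 4 * y⁻¹ * x has index 173067389. -/
theorem result : (((Subgroup.closure ({Cfsg.Spor.J4.x, Cfsg.Spor.J4.y, (Cfsg.Spor.J4.y * ((Cfsg.Spor.J4.y * Cfsg.Spor.J4.x) ^ 4 * Cfsg.Spor.J4.y⁻¹ * Cfsg.Spor.J4.x)⁻¹ * Cfsg.Spor.J4.t * ((Cfsg.Spor.J4.y * Cfsg.Spor.J4.x) ^ 4 * Cfsg.Spor.J4.y⁻¹ * Cfsg.Spor.J4.x)) ^ 3} : Set (FreeGroup Cfsg.Spor.J4.Gen))).map (PresentedGroup.mk (Cfsg.Spor.coxRelators Cfsg.Spor.J4.edges ∪ {r | r ∈ Cfsg.Spor.J4.extra})))).index = 173067389 := by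
  rw [MonoidHom.map_closure, Set.image_insert_eq, Set.image_pair]
  have key : Subgroup.closure ({Presented.J4M24.jx, Presented.J4M24.jy, J4DCE.J.jw} : Set Cfsg.Spor.J4) =
      J4DCE.J.subH := by
    refine le_antisymm ?_ ?_
    · rw [Subgroup.closure_le]
      rintro _ (rfl | rfl | rfl)
      · exact J4DCE.J.jemb_X ▸ J4DCE.J.jemb_mem _
      · exact J4DCE.J.jemb_Y ▸ J4DCE.J.jemb_mem _
      · exact J4DCE.J.subW_le_subH J4DCE.J.jw_mem
    · rw [J4DCE.J.subH, Subgroup.closure_le]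
      rintro _ (⟨σ, rfl⟩ | rfl)
      · have hσ : σ ∈ Subgroup.closure ({J4DCE.mX, J4DCE.mY} : Set M24) := by
          rw [J4DCE.closure_gens]; exact Subgroup.mem_top σ
        induction hσ using Subgroup.closure_induction with
        | mem z hz =>
          rcases hz with rfl | rfl
          · rw [J4DCE.J.jemb_X]; exact Subgroup.subset_closure (by simp)
          · rw [J4DCE.J.jemb_Y]; exact Subgroup.subset_closure (by simp)
        | one => rw [map_one]; exact Subgroup.one_mem _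
        | mul a b _ _ ha hb => rw [map_mul]; exact Subgroup.mul_mem _ ha hb
        | inv a _ ha => rw [map_inv]; exact Subgroup.inv_mem _ ha
      · exact Subgroup.subset_closure (by simp)
  refine Eq.trans (congrArg Subgroup.index ?_) J4DCE.J.J4_card_eq.2
  refine Eq.trans (congrArg Subgroup.closure ?_) key
  simp only [map_pow, map_mul, map_inv, J4DCE.J.jw, J4DCE.J.pv, J4DCE.J.jemb_X, J4DCE.J.jemb_Y, ← mul_assoc]
  rfl

end Cfsg.Agent.S1712
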