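import Cfsg.Statements.S1714
import Cfsg.Agent.Lib.ThreeTrans.FiCent23.Final
import Cfsg.Agent.Lib.ThreeTrans.Inst.FiTwentyTwoModel
import Cfsg.Agent.Lib.ThreeTrans.Inst.FiTwentyThreeType
-- import your own Cfsg.Agent.* helpers here

set_option autoImplicit false
open Cfsg

namespace Cfsg.Agent.S1714

/-- The Fischer group Fi₂₃ from a transposition centraliser: let G be a finite group with an involution d such that the centraliser C of d is quasisimple, C modulo the subgroup generated by d is isomorphic to the presented Fischer group Fi₂₂, and some conjugate of d different from d commutes with d. Then G is isomorphic to the presented Fischer group Fi₂₃. -/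
theorem result {G : Type*} [Group G] [Finite G] (d : G) (hd : orderOf d = 2) (hq : Cfsg.IsQuasisimple (Subgroup.centralizer ({d} : Set G))) [((Subgroup.zpowers d).subgroupOf (Subgroup.centralizer ({d} : Set G))).Normal] (e : Cfsg.Spor.IsoFi22 ((Subgroup.centralizer ({d} : Set G)) ⧸ (Subgroup.zpowers d).subgroupOf (Subgroup.centralizer ({d} : Set G)))) (hnwc : ∃ g : G, g * d * g⁻¹ ∈ Subgroup.centralizer ({d} : Set G) ∧ g * d * g⁻¹ ≠ d) : Cfsg.Spor.IsoFi23 G := by
  classical
  obtain ⟨e⟩ := e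
  have h22 := CfsgLib.ThreeTrans.FiCent23.M22.map e.symm rfl
    (⟨CfsgLib.ThreeTrans.Inst.FiTwentyTwo.isGroup, CfsgLib.ThreeTrans.Inst.FiTwentyTwo.primitive,
      CfsgLib.ThreeTrans.Inst.FiTwentyTwo.typeM22⟩ :
        CfsgLib.ThreeTrans.FiCent23.M22 CfsgLib.ThreeTrans.Inst.FiTwentyTwo.D)
  obtain ⟨a, ha, -⟩ := h22.prim.2.1
  have hcls : Cfsg.IsThreeTranspositionClass
      (e.symm '' CfsgLib.ThreeTrans.Inst.FiTwentyTwo.D) :=
    ⟨h22.group.1, ⟨a, ha, Set.Subset.antisymm (fun b hb => isConj_iff.2 (h22.prim.1 a ha b hb))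
      (fun b hb => by obtain ⟨g, rfl⟩ := isConj_iff.1 hb; exact h22.group.2.1 g a ha)⟩, h22.group.2.2⟩
  have h := CfsgLib.ThreeTrans.FiCent23.cov_of d hd hq hcls h22.typ hnwc
  obtain ⟨x₁, hy⟩ := h.exists_hy
  have hG := hy.good_Dc
  obtain ⟨f, -⟩ := CfsgLib.ThreeTrans.Inst.FiTwentyThree.exists_equiv hG.group hG.set.prim hy.typeM23
  exact ⟨f.symm⟩

end Cfsg.Agent.S1714
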