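import Cfsg.Statements.S1717

set_option autoImplicit false
open Cfsg

namespace Cfsg.Agent.S1717

abbrev SL5 := Matrix.SpecialLinearGroup (Fin 5) (ZMod 2)
abbrev M5 := Matrix (Fin 5) (Fin 5) (ZMod 2)

/-- position of a coordinate in the flag fixed by the transvection -/
def pos : Fin 5 → Fin 5 := ![0, 4, 1, 2, 3]

def Uni (M : M5) : Prop := M.BlockTriangular pos ∧ ∀ i, M i i = 1

theorem uni_one : Uni (1 : M5) := ⟨Matrix.blockTriangular_one, fun i => Matrix.one_apply_eq i⟩

theorem pos_inj : Function.Injective pos := by decide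

theorem uni_mul {A B : M5} (hA : Uni A) (hB : Uni B) : Uni (A * B) := by
  refine ⟨hA.1.mul hB.1, fun i => ?_⟩
  rw [Matrix.mul_apply, Finset.sum_eq_single i]
  · rw [hA.2, hB.2, one_mul]
  · intro j _ hji
    rcases lt_or_gt_of_ne (fun h => hji (pos_inj h)) with h | h
    · rw [hA.1 h, zero_mul]
    · rw [hB.1 h, mul_zero]
  · simp

def U : Subgroup SL5 where
  carrier := {g | Uni (g : M5)}
  one_mem' := by simpa using uni_one
  mul_mem' := fun ha hb => by simpa using uni_mul ha hb
  inv_mem' := fun {g} hg => by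
    have hmon : ∀ n : ℕ, Uni ((g ^ n : SL5) : M5) := by
      intro n
      induction n with
      | zero => simpa using uni_one
      | succ n ih => rw [pow_succ, Matrix.SpecialLinearGroup.coe_mul]; exact uni_mul ih hg
    have h : g⁻¹ = g ^ (orderOf g - 1) := by
      rw [inv_eq_iff_mul_eq_one, ← pow_succ', Nat.sub_add_cancel (orderOf_pos g), pow_orderOf_eq_one]
    show Uni _
    rw [h]
    exact hmon _

theorem det_uni {M : M5} (h : Uni M) : M.det = 1 := by
  have h2 : ∀ x : ZMod 2, x ≠ 0 → x = 1 := by decide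
  apply h2
  have : M.det = ∏ i, M i i := by
    let e : Fin 5 ≃ Fin 5 := Equiv.ofBijective pos (Finite.injective_iff_bijective.1 pos_inj)
    have ht : (Matrix.reindex e e M).IsUpperTriangular := by
      intro i j hij
      simp only [Matrix.reindex_apply, Matrix.submatrix_apply]
      apply h.1
      show e (e.symm j) < e (e.symm i)
      simpa using hij
    rw [← Matrix.det_reindex_self e M, Matrix.det_of_isUpperTriangular ht, ← e.prod_comp]
    simp
  rw [this]; simp [h.2]

def mk (v : Fin 10 → ZMod 2) : M5 :=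
  !![1, v 0, v 1, v 2, v 3;
     0, 1, 0, 0, 0;
     0, v 4, 1, v 5, v 6;
     0, v 7, 0, 1, v 8;
     0, v 9, 0, 0, 1]

def read (M : M5) : Fin 10 → ZMod 2 :=
  ![M 0 1, M 0 2, M 0 3, M 0 4, M 2 1, M 2 3, M 2 4, M 3 1, M 3 4, M 4 1]

theorem mk_uni (v : Fin 10 → ZMod 2) : Uni (mk v) := by
  refine ⟨fun i j hij => ?_, fun i => ?_⟩
  · fin_cases i <;> fin_cases j <;> simp [pos, mk] at hij ⊢
  · fin_cases i <;> simp [mk]

def uEquiv : U ≃ (Fin 10 → ZMod 2) where
  toFun g := read ((g : SL5) : M5)
  invFun v := ⟨⟨mk v, det_uni (mk_uni v)⟩, mk_uni v⟩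
  left_inv g := by
    apply Subtype.ext
    apply Subtype.ext
    have h : Uni ((g : SL5) : M5) := g.2
    ext i j
    fin_cases i <;> fin_cases j <;>
      first
        | (simp [mk, read]; done)
        | (simp [mk, read]; first | exact (h.2 _).symm | exact (h.1 (by decide)).symm)
  right_inv v := by
    ext i
    fin_cases i <;> simp [mk, read]

theorem card_U : Nat.card U = 1024 := by
  rw [Nat.card_congr uEquiv, Nat.card_eq_fintype_card]; simp

theorem card_SL5 : Nat.card SL5 = 9999360 := by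
  classical
  have hb : Function.Bijective (Matrix.SpecialLinearGroup.toGL : SL5 → GL (Fin 5) (ZMod 2)) := by
    refine ⟨Matrix.SpecialLinearGroup.toGL_injective, fun g => ?_⟩
    have h2 : ∀ x : ZMod 2, IsUnit x → x = 1 := by
      intro x hx
      have h3 : ∀ x : ZMod 2, x ≠ 0 → x = 1 := by decide
      exact h3 x hx.ne_zero
    exact ⟨⟨(g : M5), h2 _ ((Matrix.isUnit_iff_isUnit_det _).1 g.isUnit)⟩, Units.ext (Matrix.SpecialLinearGroup.coe_GL_coe_matrix _)⟩
  rw [Nat.card_congr (Equiv.ofBijective _ hb), Matrix.card_GL_field, ZMod.card]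
  decide +kernel

def tv (i j : Fin 5) (h : pos i < pos j) : U :=
  have hu : Uni (Matrix.transvection i j (1 : ZMod 2)) := by
    refine ⟨Matrix.blockTriangular_one.add ?_, fun k => ?_⟩
    · intro a b hab
      rw [Matrix.single_apply]
      rw [if_neg]
      rintro ⟨rfl, rfl⟩
      exact lt_asymm h hab
    · have : i ≠ j := fun e => by subst e; exact lt_irrefl _ h
      simp only [Matrix.transvection, Matrix.add_apply, Matrix.one_apply_eq]
      rw [Matrix.single_apply, if_neg (fun e => this (e.1.trans e.2.symm)), add_zero]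
  ⟨⟨_, det_uni hu⟩, hu⟩

variable (s : SL5)

theorem U_le (hs : (s : M5) = Matrix.transvection 0 1 1) : U ≤ Subgroup.centralizer ({s} : Set SL5) := by
  intro g hg
  rw [Subgroup.mem_centralizer_singleton_iff]
  apply Subtype.ext
  rw [Matrix.SpecialLinearGroup.coe_mul, Matrix.SpecialLinearGroup.coe_mul, hs]
  simp only [Matrix.transvection, Matrix.mul_add, Matrix.add_mul, Matrix.mul_one, Matrix.one_mul]
  congr 1
  ext i j
  simp only [Matrix.mul_apply, Matrix.single_apply]
  fin_cases i <;> fin_cases j <;> simp [Fin.sum_univ_five] <;>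
    first
      | exact hg.1 (by decide)
      | exact (hg.1 (by decide)).symm
      | (rw [hg.2, hg.2])

theorem center_U (hs : (s : M5) = Matrix.transvection 0 1 1) (g : SL5) (hg : g ∈ U)
    (hc : ∀ u ∈ U, u * g = g * u) : g = 1 ∨ g = s := by
  have key : ∀ i j : Fin 5, pos i < pos j → ¬ (i = 0 ∧ j = 1) → (g : M5) i j = 0 := by
    intro i j hij hne
    by_cases hj : j = 1
    · subst hj
      have hi : i ≠ 0 := fun h => hne ⟨h, rfl⟩
      have hp : pos 0 < pos i := (by decide : ∀ i : Fin 5, i ≠ 0 → pos 0 < pos i) i hi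
      have h := congrArg (fun m : SL5 => (m : M5) 0 1) (hc (tv 0 i hp) (tv 0 i hp).2)
      have hi1 : (1 : Fin 5) ≠ i := by rintro rfl; exact lt_irrefl _ hij
      simp only [Matrix.SpecialLinearGroup.coe_mul] at h
      simpa [tv, Matrix.transvection, Matrix.add_mul, Matrix.mul_add, hi1] using h
    · have hp : pos j < pos 1 := (by decide : ∀ j : Fin 5, j ≠ 1 → pos j < pos 1) j hj
      have h := congrArg (fun m : SL5 => (m : M5) i 1) (hc (tv j 1 hp) (tv j 1 hp).2)
      have hji : i ≠ j := by rintro rfl; exact lt_irrefl _ hij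
      simp only [Matrix.SpecialLinearGroup.coe_mul] at h
      simpa [tv, Matrix.transvection, Matrix.add_mul, Matrix.mul_add, hji] using h.symm
  have hext : ∀ i j : Fin 5, (i, j) ≠ ((0, 1) : Fin 5 × Fin 5) → (g : M5) i j = (1 : M5) i j := by
    intro i j hne
    rcases lt_trichotomy (pos i) (pos j) with h | h | h
    · rw [key i j h (fun e => hne (by rw [e.1, e.2])), Matrix.one_apply_ne]
      rintro rfl; exact lt_irrefl _ h
    · rw [pos_inj h, hg.2, Matrix.one_apply_eq]
    · rw [hg.1 h, Matrix.one_apply_ne]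
      rintro rfl; exact lt_irrefl _ h
  have h01 : ∀ x : ZMod 2, x = 0 ∨ x = 1 := by decide
  rcases h01 ((g : M5) 0 1) with h | h
  · left
    apply Subtype.ext
    ext i j
    by_cases hij : (i, j) = ((0, 1) : Fin 5 × Fin 5)
    · obtain ⟨rfl, rfl⟩ := Prod.mk.inj hij; simpa using h
    · simpa using hext i j hij
  · right
    apply Subtype.ext
    ext i j
    rw [hs]
    by_cases hij : (i, j) = ((0, 1) : Fin 5 × Fin 5)
    · obtain ⟨rfl, rfl⟩ := Prod.mk.inj hij; simpa [Matrix.transvection] using h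
    · rw [hext i j hij, Matrix.transvection, Matrix.add_apply, Matrix.single_apply, if_neg, add_zero]
      rintro ⟨rfl, rfl⟩; exact hij rfl

theorem center_sylow (hs : (s : M5) = Matrix.transvection 0 1 1)
    (T : Sylow 2 (Subgroup.centralizer ({s} : Set SL5))) (g : Subgroup.centralizer ({s} : Set SL5))
    (hg : g ∈ (T : Subgroup _)) (hc : ∀ u ∈ (T : Subgroup _), u * g = g * u) :
    (g : SL5) = 1 ∨ (g : SL5) = s := by
  let C := Subgroup.centralizer ({s} : Set SL5)
  have hle : U ≤ C := U_le s hs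
  have hcard : Nat.card (U.subgroupOf C) = 1024 := by
    rw [Nat.card_congr (Subgroup.subgroupOfEquivOfLe hle).toEquiv, card_U]
  have hp : IsPGroup 2 (U.subgroupOf C) := IsPGroup.of_card (n := 10) (by rw [hcard]; norm_num)
  have hidx : ¬ 2 ∣ (U.subgroupOf C).index := by
    intro h
    have h1 : 2 * 1024 ∣ Nat.card C := by
      rw [← (U.subgroupOf C).card_mul_index, hcard, mul_comm 2 1024]
      exact Nat.mul_dvd_mul_left _ h
    have h2 := h1.trans (Subgroup.card_subgroup_dvd_card C)
    rw [card_SL5] at h2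
    exact absurd h2 (by decide +kernel)
  let P : Sylow 2 C := hp.toSylow hidx
  obtain ⟨x, hx⟩ := MulAction.exists_smul_eq C T P
  have hmem : ∀ u : C, u ∈ (T : Subgroup C) ↔ ((x * u * x⁻¹ : C) : SL5) ∈ U := by
    intro u
    have h1 : (x * u * x⁻¹ : C) ∈ (P : Subgroup C) ↔ u ∈ (T : Subgroup C) := by
      rw [← hx, Sylow.coe_subgroup_smul]
      show MulAut.conj x u ∈ _ ↔ _
      exact Subgroup.smul_mem_pointwise_smul_iff
    exact h1.symm.trans Iff.rfl
  have hg' := (hmem g).1 hg
  have := center_U s hs _ hg' (by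
    intro u hu
    have huC : u ∈ C := hle hu
    have h3 : (x⁻¹ * ⟨u, huC⟩ * x : C) ∈ (T : Subgroup C) := by
      rw [hmem]; simpa [mul_assoc] using hu
    have h4 := hc _ h3
    have h5 : (⟨u, huC⟩ : C) * (x * g * x⁻¹) = (x * g * x⁻¹) * ⟨u, huC⟩ := by
      calc (⟨u, huC⟩ : C) * (x * g * x⁻¹) = x * ((x⁻¹ * ⟨u, huC⟩ * x) * g) * x⁻¹ := by group
        _ = x * (g * (x⁻¹ * ⟨u, huC⟩ * x)) * x⁻¹ := by rw [h4]
        _ = _ := by group
    have h7 := congrArg Subtype.val h5
    simpa only [Subgroup.coe_mul] using h7)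
  have hxs : (x : SL5) * s = s * x := (Subgroup.mem_centralizer_singleton_iff.1 x.2).symm ▸ rfl
  rcases this with h | h
  · left
    simpa [Subgroup.coe_mul, mul_inv_eq_one] using h
  · right
    have h6 : (x : SL5) * g = s * x := by
      calc (x : SL5) * g = ((x : SL5) * g * (x : SL5)⁻¹) * x := by group
        _ = s * x := by rw [show (x : SL5) * g * (x : SL5)⁻¹ = s by simpa using h]
    exact mul_left_cancel (h6.trans hxs.symm)

/-- If `z` has the centraliser of a transvection of `L₅(2)`, a Sylow 2-subgroup of `C(z)` is one of `G`. -/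
theorem result {G : Type*} [Group G] [Finite G] (s : Matrix.SpecialLinearGroup (Fin 5) (ZMod 2)) (hs : (s : Matrix (Fin 5) (Fin 5) (ZMod 2)) = Matrix.transvection 0 1 1) (z : G) (hz : orderOf z = 2) (e : (Subgroup.centralizer ({z} : Set G)) ≃* Subgroup.centralizer ({s} : Set (Matrix.SpecialLinearGroup (Fin 5) (ZMod 2)))) (T : Sylow 2 (Subgroup.centralizer ({z} : Set G))) : ¬ 2 ∣ ((T : Subgroup (Subgroup.centralizer ({z} : Set G))).map (Subgroup.subtype (Subgroup.centralizer ({z} : Set G)))).index := by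
  intro hdvd
  haveI : Fact (Nat.Prime 2) := ⟨Nat.prime_two⟩
  let C := Subgroup.centralizer ({z} : Set G)
  let zC : C := ⟨z, Subgroup.mem_centralizer_singleton_iff.2 rfl⟩
  have hzc : ∀ u : C, u * zC = zC * u := fun u =>
    Subtype.ext (Subgroup.mem_centralizer_singleton_iff.1 u.2)
  have hz1 : zC ≠ 1 := by
    intro h
    have : z = 1 := congrArg Subtype.val h
    rw [this, orderOf_one] at hz
    omega
  have hzT : zC ∈ (T : Subgroup C) := by
    let Z := Subgroup.zpowers zC
    haveI : Z.Normal := ⟨fun n hn g => by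
      obtain ⟨k, rfl⟩ := Subgroup.mem_zpowers_iff.1 hn
      have hcm : Commute g (zC ^ k) := (show Commute g zC from hzc g).zpow_right k
      rw [hcm.eq, mul_inv_cancel_right]
      exact Subgroup.zpow_mem_zpowers _ _⟩
    have hZp : IsPGroup 2 Z := IsPGroup.of_card (n := 1) (by
      rw [Nat.card_zpowers, ← Subgroup.orderOf_coe, pow_one]; exact hz)
    obtain ⟨Q, hQ⟩ := hZp.exists_le_sylow
    obtain ⟨x, hx⟩ := MulAction.exists_smul_eq C Q T
    have h0 : zC ∈ (Q : Subgroup C) := hQ (Subgroup.mem_zpowers _)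
    rw [← hx, Sylow.coe_subgroup_smul]
    have h1 := Subgroup.smul_mem_pointwise_smul zC (MulAut.conj x) _ h0
    simpa [MulAut.smul_def, hzc x] using h1
  let T2 : Sylow 2 (Subgroup.centralizer ({s} : Set SL5)) :=
    T.comapOfInjective e.symm.toMonoidHom e.symm.injective (fun x _ => ⟨e x, by simp⟩)
  have hT2 : ∀ u, u ∈ (T2 : Subgroup _) ↔ e.symm u ∈ (T : Subgroup C) := fun u => Iff.rfl
  have two : ∀ c ∈ (T : Subgroup C), (∀ u ∈ (T : Subgroup C), u * c = c * u) → c = 1 ∨ c = zC := by
    have img : ∀ c ∈ (T : Subgroup C), (∀ u ∈ (T : Subgroup C), u * c = c * u) →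
        (e c : SL5) = 1 ∨ (e c : SL5) = s := by
      intro c hc hcomm
      refine center_sylow s hs T2 (e c) ((hT2 _).2 (by simpa using hc)) fun u hu => ?_
      have := congrArg e (hcomm _ ((hT2 u).1 hu))
      simpa using this
    intro c hc hcomm
    rcases img zC hzT (fun u _ => hzc u) with h | h
    · exact absurd (e.injective ((Subtype.ext h).trans (map_one e).symm)) hz1
    rcases img c hc hcomm with h' | h'
    · exact Or.inl (e.injective ((Subtype.ext h').trans (map_one e).symm))
    · exact Or.inr (e.injective (Subtype.ext (h'.trans h.symm)))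
  let T' : Subgroup G := (T : Subgroup C).map C.subtype
  obtain ⟨n, hn⟩ := IsPGroup.iff_card.1 (T.isPGroup'.map C.subtype)
  have hN : Subgroup.normalizer (T' : Set G) ≤ C := by
    intro g hg
    have hzT' : z ∈ T' := ⟨zC, hzT, rfl⟩
    obtain ⟨c, hc, hcz⟩ := (Subgroup.mem_normalizer_iff.1 hg z).1 hzT'
    have hcomm : ∀ u ∈ (T : Subgroup C), u * c = c * u := by
      intro u hu
      apply Subtype.ext
      have huT : (u : G) ∈ T' := ⟨u, hu, rfl⟩
      have h0 : g⁻¹ * (u : G) * g ∈ T' := by
        rw [Subgroup.mem_normalizer_iff.1 hg, show g * (g⁻¹ * (u : G) * g) * g⁻¹ = (u : G) by group]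
        exact huT
      obtain ⟨w, -, hw⟩ := h0
      have hzw : z * (g⁻¹ * (u : G) * g) = (g⁻¹ * (u : G) * g) * z := by
        rw [← hw]; exact (Subgroup.mem_centralizer_singleton_iff.1 w.2).symm
      show (u : G) * (c : G) = (c : G) * (u : G)
      rw [show (c : G) = g * z * g⁻¹ from hcz]
      calc (u : G) * (g * z * g⁻¹) = g * ((g⁻¹ * (u : G) * g) * z) * g⁻¹ := by group
        _ = g * (z * (g⁻¹ * (u : G) * g)) * g⁻¹ := by rw [hzw]
        _ = _ := by group
    rcases two c hc hcomm with rfl | rfl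
    · exfalso
      have h1 : g * z * g⁻¹ = 1 := by simpa using hcz.symm
      have h2 : z = 1 := by
        calc z = g⁻¹ * (g * z * g⁻¹) * g := by group
          _ = 1 := by rw [h1]; group
      rw [h2, orderOf_one] at hz
      omega
    · rw [Subgroup.mem_centralizer_singleton_iff]
      have h1 : g * z * g⁻¹ = z := hcz.symm
      calc g * z = (g * z * g⁻¹) * g := by group
        _ = z * g := by rw [h1]
  have hd : 2 ^ (n + 1) ∣ Nat.card G := by
    rw [← T'.card_mul_index, show Nat.card T' = 2 ^ n from hn, pow_succ]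
    exact Nat.mul_dvd_mul_left _ hdvd
  have h2 : 2 ^ (n + 1) ∣ Nat.card C :=
    (Sylow.prime_pow_dvd_card_normalizer hd hn).trans (Subgroup.card_dvd_of_le hN)
  have h3 : 2 ^ (n + 1) ∣ Nat.card (T : Subgroup C) := T.pow_dvd_card_of_pow_dvd_card h2
  have h4 : Nat.card (T : Subgroup C) = 2 ^ n := by
    rw [← hn, Subgroup.card_map_of_injective C.subtype_injective]
  rw [h4] at h3
  exact absurd (Nat.le_of_dvd (by positivity) h3) (by rw [pow_succ]; have := Nat.two_pow_pos n; omega)

end Cfsg.Agent.S1717
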