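import Cfsg.Statements.S1743
import Cfsg.Agent.Lib.GTwoFusion.Classes
import Cfsg.Agent.Lib.GTwoFusion.SylowModel

set_option autoImplicit false
open Cfsg

namespace Cfsg.Agent.S1743

theorem result {G : Type*} [Group G] [Finite G] [IsSimpleGroup G]
    {F : Type*} [Field F] [Fintype F] (hF : Odd (Fintype.card F)) (S : Sylow 2 G) (P : Sylow 2 ↥(Cfsg.Lie.chevG2.group F))
    (hS : Nonempty (↥(S : Subgroup G) ≃* ↥(P : Subgroup ↥(Cfsg.Lie.chevG2.group F)))) :
    (∀ x y : G, orderOf x = 2 → orderOf y = 2 → IsConj x y) ∨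
      (Nat.card ↥(S : Subgroup G) = 64 ∧ ∃ x y : G, orderOf x = 2 ∧ orderOf y = 2 ∧ ¬ IsConj x y ∧
        ∀ z : G, orderOf z = 2 → IsConj z x ∨ IsConj z y) := by
  obtain ⟨k, hk, ⟨e⟩⟩ := CfsgLib.GTwoFusion.exists_sylow_iso hF P
  obtain ⟨eS⟩ := hS
  set E := e.trans eS.symm
  set φ : CfsgLib.GTwoFusion.Mdl (2 ^ k) →* G := (S : Subgroup G).subtype.comp E.toMonoidHom
  have hφ : Function.Injective φ := Subtype.val_injective.comp E.injective
  have hr : φ.range = (S : Subgroup G) := by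
    ext x
    exact ⟨fun ⟨m, hm⟩ => hm ▸ (E m).2, fun hx => ⟨E.symm ⟨x, hx⟩, by simp [φ]⟩⟩
  have hcard : Nat.card ↥(S : Subgroup G) = 4 * (2 ^ k) ^ 2 := by
    rw [← Nat.card_congr E.toEquiv, CfsgLib.GTwoFusion.Mdl.card_eq]
  have hG : ¬ IsMulCommutative G := by
    intro h
    letI : CommGroup G := { (inferInstance : Group G) with mul_comm := fun a b => h.is_comm.comm a b }
    have hp : (Nat.card G).Prime := IsSimpleGroup.prime_card
    have hd : 4 * (2 ^ k) ^ 2 ∣ Nat.card G := hcard ▸ Subgroup.card_subgroup_dvd_card _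
    rcases (Nat.dvd_prime hp).mp ((dvd_mul_right 4 _).trans hd) with h4 | h4
    · norm_num at h4
    · rw [← h4] at hp; norm_num at hp
  rcases CfsgLib.GTwoFusion.classes hG hk S φ hφ hr with h | ⟨rfl, h⟩
  · exact Or.inl h
  · exact Or.inr ⟨by rw [hcard]; norm_num, h⟩

end Cfsg.Agent.S1743
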