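import Cfsg.Statements.S1753

set_option autoImplicit false
universe u
open Cfsg

namespace Cfsg.Agent.S1753

/-- Let K be any property of groups. (1) If G is a minimal counterexample relative to K — a finite non-abelian simple group not satisfying K such that every finite non-abelian simple group of smaller order satisfies K — then every proper subgroup of G is a K-group (all its non-abelian simple sections satisfy K), since such sections have smaller order than G. (2) Consequently (induction on the order), if every finite non-abelian simple group all of whose proper subgroups are K-groups satisfies K, then every finite non-abelian simple group satisfies K. -/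
theorem result (K : ∀ (X : Type u) [Group X], Prop) :
    (∀ (G : Type u) [Group G], Cfsg.IsMinCounterexampleWith K G → Cfsg.IsKProperWith K G) ∧
      ((∀ (X : Type u) [Group X] [Finite X], IsSimpleGroup X → ¬ IsMulCommutative X → Cfsg.IsKProperWith K X → K X) →
        ∀ (G : Type u) [Group G] [Finite G], IsSimpleGroup G → ¬ IsMulCommutative G → K G) := by
  have part1 : ∀ (G : Type u) [Group G], Cfsg.IsMinCounterexampleWith K G → Cfsg.IsKProperWith K G := by
    intro G _ hmin H hH
    obtain ⟨hfin, -, -, -, hsmall⟩ := hmin
    intro J N _ hs hna
    haveI := hfin
    refine hsmall _ hs hna ?_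
    have h1 : Nat.card (↥J ⧸ N) ≤ Nat.card J :=
      Nat.card_le_card_of_surjective _ (QuotientGroup.mk_surjective)
    have h2 : Nat.card J ≤ Nat.card H := Subgroup.card_le_card_group J
    have h3 : Nat.card H < Nat.card G := by
      rcases lt_or_eq_of_le (Subgroup.card_le_card_group H) with h | h
      · exact h
      · exact absurd (Subgroup.eq_top_of_card_eq H h) hH
    omega
  refine ⟨part1, fun h => ?_⟩
  have key : ∀ n : ℕ, ∀ (G : Type u) [Group G] [Finite G], Nat.card G = n →
      IsSimpleGroup G → ¬ IsMulCommutative G → K G := by
    intro n
    induction n using Nat.strong_induction_on with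
    | _ n ih =>
      intro G _ hfin hn hs hna
      by_contra hK
      refine hK (h G hs hna (part1 G ⟨hfin, hs, hna, hK, ?_⟩))
      intro X _ _ hsX hnaX hlt
      exact ih _ (hn ▸ hlt) X rfl hsX hnaX
  intro G _ _ hs hna
  exact key _ G rfl hs hna


end Cfsg.Agent.S1753
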