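import Cfsg.Statements.S1754

set_option autoImplicit false
open Cfsg

namespace Cfsg.Agent.S1754

theorem isQuasisimple_congr {H K : Type*} [Group H] [Group K] (e : H ≃* K)
    (h : Cfsg.IsQuasisimple H) : Cfsg.IsQuasisimple K := by
  obtain ⟨hp, hs⟩ := h
  refine ⟨?_, ?_⟩
  · exact Group.IsPerfect.ofSurjective (f := e.toMonoidHom) e.surjective
  · have hc : (Subgroup.center H).map e.toMonoidHom = Subgroup.center K := by
      ext k
      constructor
      · rintro ⟨x, hx, rfl⟩
        rw [SetLike.mem_coe] at hx
        rw [Subgroup.mem_center_iff] at *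
        intro y
        simpa using congrArg e (hx (e.symm y))
      · intro hk
        refine ⟨e.symm k, ?_, e.apply_symm_apply k⟩
        rw [SetLike.mem_coe, Subgroup.mem_center_iff]
        rw [Subgroup.mem_center_iff] at hk
        intro y
        apply e.injective
        simpa using hk (e y)
    exact (QuotientGroup.congr _ _ e hc).isSimpleGroup_congr.mp hs


/-- Let A be a standard subgroup of the finite group G (A quasisimple, C_G(A) tightly embedded of even order, A commuting elementwise with no other conjugate of itself, and N_G(A) = N_G(C_G(A))), and let t be an involution of G centralizing A. Then the centralizer of t lies in the normalizer of A; in particular A, viewed inside C_G(t), is a component of C_G(t). -/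
theorem result {G : Type*} [Group G] [Finite G]
    (A : Subgroup G) (hA : Cfsg.IsStandardSubgroup A) (t : G) (ht : orderOf t = 2) (htA : t ∈ Subgroup.centralizer (A : Set G)) :
    Subgroup.centralizer ({t} : Set G) ≤ Subgroup.normalizer (A : Set G) ∧
      Cfsg.IsComponent (A.subgroupOf (Subgroup.centralizer ({t} : Set G))) := by
  obtain ⟨hqs, ⟨-, htight⟩, -, hNN⟩ := hA
  have hle : Subgroup.centralizer ({t} : Set G) ≤ Subgroup.normalizer (A : Set G) := by
    intro x hx
    rw [hNN]
    by_contra hx'
    have hodd := htight x hx'
    have htmem : t ∈ Subgroup.centralizer (A : Set G) ⊓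
        (Subgroup.centralizer (A : Set G)).map (MulAut.conj x).toMonoidHom := by
      refine ⟨htA, t, htA, ?_⟩
      have : x * t = t * x := Subgroup.mem_centralizer_singleton_iff.mp hx
      simp [MulAut.conj_apply, this, mul_assoc]
    have h2 : orderOf t ∣ Nat.card ↥(Subgroup.centralizer (A : Set G) ⊓
        (Subgroup.centralizer (A : Set G)).map (MulAut.conj x).toMonoidHom) := by
      rw [← Subgroup.orderOf_mk t htmem]
      exact orderOf_dvd_natCard _
    rw [ht] at h2
    exact (Nat.not_even_iff_odd.mpr hodd) (even_iff_two_dvd.mpr h2)
  refine ⟨hle, ?_, ?_⟩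
  · have hAC : A ≤ Subgroup.centralizer ({t} : Set G) := fun a ha =>
      Subgroup.mem_centralizer_singleton_iff.mpr (htA a ha)
    exact ((Subgroup.normal_subgroupOf_iff_le_normalizer hAC).mpr hle).isSubnormal
  · have hAC : A ≤ Subgroup.centralizer ({t} : Set G) := fun a ha =>
      Subgroup.mem_centralizer_singleton_iff.mpr (htA a ha)
    exact isQuasisimple_congr (Subgroup.subgroupOfEquivOfLe hAC).symm hqs


end Cfsg.Agent.S1754
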