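import Cfsg.Statements.S1755

set_option autoImplicit false
open Cfsg

namespace Cfsg.Agent.S1755

theorem layer_normal {H : Type*} [Group H] : (Cfsg.layer H).Normal := by
  refine ⟨fun n hn g => ?_⟩
  have h : (Cfsg.layer H).map (MulAut.conj g).toMonoidHom ≤ Cfsg.layer H := by
    rw [Cfsg.layer, Subgroup.map_le_iff_le_comap]
    refine sSup_le ?_
    rintro K ⟨hK1, hK2, hK3⟩
    rw [← Subgroup.map_le_iff_le_comap]
    refine le_sSup ⟨hK1.map (MulAut.conj g).surjective, ?_, ?_⟩
    · haveI := hK2
      exact Group.IsPerfect.ofSurjective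
        (f := (K.equivMapOfInjective (MulAut.conj g).toMonoidHom (MulAut.conj g).injective).toMonoidHom)
        (MulEquiv.surjective _)
    · have e := K.equivMapOfInjective (MulAut.conj g).toMonoidHom (MulAut.conj g).injective
      have hc : (Subgroup.center ↥K).map e.toMonoidHom = Subgroup.center _ := by
        ext k
        constructor
        · rintro ⟨x, hx, rfl⟩
          rw [SetLike.mem_coe] at hx
          rw [Subgroup.mem_center_iff] at *
          intro y
          have := congrArg e (hx (e.symm y))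
          simp only [map_mul, MulEquiv.apply_symm_apply] at this
          exact this
        · intro hk
          refine ⟨e.symm k, ?_, e.apply_symm_apply k⟩
          rw [SetLike.mem_coe, Subgroup.mem_center_iff]
          rw [Subgroup.mem_center_iff] at hk
          intro y
          apply e.injective
          simp only [map_mul, MulEquiv.apply_symm_apply]
          exact hk (e y)
      exact (QuotientGroup.congr _ _ e hc).isSimpleGroup_congr.mp hK3
  exact h ⟨n, hn, rfl⟩

theorem generalizedFitting_normal {H : Type*} [Group H] :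
    (Cfsg.generalizedFittingSubgroup H).Normal := by
  haveI := layer_normal (H := H)
  haveI : (Cfsg.fittingSubgroup H).Normal := Subgroup.sSup_normal _ (fun _ h => h.1)
  unfold Cfsg.generalizedFittingSubgroup
  infer_instance

theorem center_le_generalizedFitting {H : Type*} [Group H] :
    Subgroup.center H ≤ Cfsg.generalizedFittingSubgroup H := by
  refine le_trans ?_ le_sup_right
  refine le_sSup ⟨inferInstance, ?_⟩
  open scoped IsMulCommutative in infer_instance

theorem exists_orderOf_two {G : Type*} [Group G] [Finite G] (K : Subgroup G) (hK : IsPGroup 2 K)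
    (h : K ≠ ⊥) : ∃ w ∈ K, orderOf w = 2 := by
  have h2 : 2 ∣ Nat.card K := by
    haveI := (Subgroup.nontrivial_iff_ne_bot K).mpr h
    haveI : Fact (Nat.Prime 2) := ⟨Nat.prime_two⟩
    obtain ⟨n, hn, he⟩ := hK.nontrivial_iff_card.mp inferInstance
    exact he ▸ dvd_pow_self 2 (by omega)
  obtain ⟨x, hx⟩ := exists_prime_orderOf_dvd_card' (p := 2) h2 (hp := ⟨Nat.prime_two⟩)
  exact ⟨x, x.2, by rw [Subgroup.orderOf_coe]; exact hx⟩


theorem key {G : Type*} [Group G] [Finite G] (z : G) (hz : orderOf z = 2) (C : Subgroup G)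
    (hCz : C = Subgroup.centralizer ({z} : Set G)) (Q : Subgroup ↥C) [Q.Normal]
    (hQc : Subgroup.center ↥C ≤ Q) (hQ : Cfsg.IsOfSymplecticType ↥Q)
    (B : Subgroup ↥Q) (hBc : B.Characteristic) (hBa : IsMulCommutative ↥B) (g : G) :
    ((B.map Q.subtype).map C.subtype).map (MulAut.conj g).toMonoidHom =
        (B.map Q.subtype).map C.subtype ∨
      ((B.map Q.subtype).map C.subtype).map (MulAut.conj g).toMonoidHom ⊓
        (B.map Q.subtype).map C.subtype = ⊥ := by
  classical
  obtain ⟨hp, hcyc⟩ := hQ
  set BG : Subgroup G := (B.map Q.subtype).map C.subtype with hBG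
  have hzC : z ∈ C := hCz.symm ▸ Subgroup.mem_centralizer_singleton_iff.mpr rfl
  subst hCz
  have hzQ : (⟨z, hzC⟩ : ↥(Subgroup.centralizer ({z} : Set G))) ∈ Q := by
    apply hQc
    rw [Subgroup.mem_center_iff]
    intro y
    exact Subtype.ext (Subgroup.mem_centralizer_singleton_iff.mp y.2)
  set zQ : ↥Q := ⟨⟨z, hzC⟩, hzQ⟩ with hzQdef
  have hzord : orderOf zQ = 2 := by
    rw [← hz]
    exact Subgroup.orderOf_coe zQ ▸ (Subgroup.orderOf_coe (zQ : ↥(Subgroup.centralizer ({z} : Set G)))).symm
  haveI hZc : IsCyclic (Subgroup.center ↥Q) := hcyc _ inferInstance inferInstance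
  have hzc : zQ ∈ Subgroup.center ↥Q := by
    rw [Subgroup.mem_center_iff]
    intro y
    exact Subtype.ext (Subtype.ext (Subgroup.mem_centralizer_singleton_iff.mp (y : ↥(Subgroup.centralizer ({z} : Set G))).2))
  haveI hBcyc : IsCyclic B := hcyc B hBc hBa
  have uniq : ∀ (K : Subgroup ↥Q), IsCyclic K → ∀ u v : ↥Q, u ∈ K → v ∈ K →
      orderOf u = 2 → orderOf v = 2 → u = v := by
    intro K hK u v hu hv huo hvo
    haveI := hK
    letI : Fintype K := Fintype.ofFinite K
    by_contra hne
    have h2 := IsCyclic.card_pow_eq_one_le (α := K) (n := 2) two_pos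
    have hsub : ({1, ⟨u, hu⟩, ⟨v, hv⟩} : Finset K) ⊆ Finset.univ.filter (fun a => a ^ 2 = 1) := by
      intro a ha
      simp only [Finset.mem_insert, Finset.mem_singleton] at ha
      rcases ha with rfl | rfl | rfl
      · simp
      · simp only [Finset.mem_filter, Finset.mem_univ, true_and]
        exact Subtype.ext (by simpa [huo] using pow_orderOf_eq_one u)
      · simp only [Finset.mem_filter, Finset.mem_univ, true_and]
        exact Subtype.ext (by simpa [hvo] using pow_orderOf_eq_one v)
    have h1u : (1 : K) ≠ ⟨u, hu⟩ := fun e => by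
      have e2 : u = 1 := (congrArg Subtype.val e).symm
      rw [e2, orderOf_one] at huo; norm_num at huo
    have h1v : (1 : K) ≠ ⟨v, hv⟩ := fun e => by
      have e2 : v = 1 := (congrArg Subtype.val e).symm
      rw [e2, orderOf_one] at hvo; norm_num at hvo
    have huv : (⟨u, hu⟩ : K) ≠ ⟨v, hv⟩ := fun e => hne (congrArg Subtype.val e)
    have := (Finset.card_le_card hsub).trans h2
    rw [Finset.card_eq_three.mpr ⟨_, _, _, h1u, h1v, huv, rfl⟩] at this
    omega
  have invol : ∀ u : ↥Q, u ∈ B → orderOf u = 2 → u = zQ := by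
    intro u hu huo
    refine uniq (Subgroup.center ↥Q) hZc u zQ ?_ hzc huo hzord
    rw [Subgroup.mem_center_iff]
    intro y
    have hmem : y * u * y⁻¹ ∈ B := (Subgroup.normal_of_characteristic B).conj_mem u hu y
    have hconj : orderOf (y * u * y⁻¹) = 2 := by
      rw [← huo]
      exact orderOf_injective (MulAut.conj y).toMonoidHom (MulAut.conj y).injective u
    have := uniq B hBcyc _ _ hmem hu hconj huo
    calc y * u = (y * u * y⁻¹) * y := by group
      _ = u * y := by rw [this]
  by_cases h : BG.map (MulAut.conj g).toMonoidHom ⊓ BG = ⊥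
  · exact Or.inr h
  left
  obtain ⟨w, hw1, hw⟩ := exists_orderOf_two (G := G) (BG.map (MulAut.conj g).toMonoidHom ⊓ BG)
    (((hp.to_subgroup B).map _).map _ |>.to_le inf_le_right) h
  obtain ⟨⟨x, ⟨y, hy, hyx⟩, hxw⟩, hw2⟩ := (And.intro hw1.2 hw1.1 : w ∈ BG ∧ _)
  obtain ⟨w', hw', hw'w⟩ := hw2
  obtain ⟨x', ⟨y', hy', hyx'⟩, hxw'⟩ := hw'
  have hval : ∀ (y : ↥Q), y ∈ B → orderOf ((y : ↥(Subgroup.centralizer ({z} : Set G))) : G) = 2 → ((y : ↥(Subgroup.centralizer ({z} : Set G))) : G) = z := by
    intro y hy ho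
    rw [Subgroup.orderOf_coe, Subgroup.orderOf_coe] at ho
    rw [invol y hy ho]
  have hwz : w = z := by
    rw [← hxw, ← hyx]
    apply hval y hy
    rw [← hw, ← hxw, ← hyx]
    rfl
  have hw'o : orderOf w' = 2 := by
    rw [← hw, ← hw'w]
    exact (orderOf_injective (MulAut.conj g).toMonoidHom (MulAut.conj g).injective w').symm
  have hw'z : w' = z := by
    rw [← hxw', ← hyx']
    apply hval y' hy'
    rw [← hw'o, ← hxw', ← hyx']
    rfl
  have hgC : g ∈ Subgroup.centralizer ({z} : Set G) := by
    rw [Subgroup.mem_centralizer_singleton_iff]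
    have h2 := hw'w
    rw [hw'z, hwz] at h2
    simp only [MulEquiv.coe_toMonoidHom, MulAut.conj_apply] at h2
    calc g * z = g * z * g⁻¹ * g := by group
      _ = z * g := by rw [h2]
  ext v
  constructor
  · rintro ⟨v₁, ⟨v₂, ⟨v₃, hv₃, rfl⟩, rfl⟩, rfl⟩
    refine ⟨_, ⟨MulAut.conjNormal (H := Q) ⟨g, hgC⟩ v₃, ?_, rfl⟩, ?_⟩
    · exact Subgroup.characteristic_iff_map_le.mp hBc (MulAut.conjNormal ⟨g, hgC⟩) ⟨v₃, hv₃, rfl⟩
    · simp [MulAut.conj_apply]
  · rintro ⟨v₂, ⟨v₃, hv₃, rfl⟩, rfl⟩
    refine ⟨_, ⟨_, ⟨(MulAut.conjNormal (H := Q) ⟨g, hgC⟩).symm v₃, ?_, rfl⟩, rfl⟩, ?_⟩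
    · exact Subgroup.characteristic_iff_map_le.mp hBc (MulAut.conjNormal ⟨g, hgC⟩).symm ⟨v₃, hv₃, rfl⟩
    · simp [MulAut.conj_apply, mul_assoc]



/-- Let G be a finite group and let z be an involution of G such that Q, the generalized Fitting subgroup of the centralizer C of z, is a 2-group of symplectic type (every characteristic abelian subgroup of Q is cyclic). Let B be a characteristic abelian subgroup of Q, viewed as a subgroup of G. Then for every g in G, the conjugate of B by g either equals B or meets B trivially. -/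
theorem result {G : Type*} [Group G] [Finite G] (z : G) (hz : orderOf z = 2) (hQ : Cfsg.IsOfSymplecticType ↥(Cfsg.generalizedFittingSubgroup ↥(Subgroup.centralizer ({z} : Set G))))
    (B : Subgroup ↥(Cfsg.generalizedFittingSubgroup ↥(Subgroup.centralizer ({z} : Set G)))) (hBc : B.Characteristic) (hBa : IsMulCommutative ↥B) (g : G) :
    ((B.map (Cfsg.generalizedFittingSubgroup ↥(Subgroup.centralizer ({z} : Set G))).subtype).map (Subgroup.centralizer ({z} : Set G)).subtype).map (MulAut.conj g).toMonoidHom =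
        (B.map (Cfsg.generalizedFittingSubgroup ↥(Subgroup.centralizer ({z} : Set G))).subtype).map (Subgroup.centralizer ({z} : Set G)).subtype ∨
      ((B.map (Cfsg.generalizedFittingSubgroup ↥(Subgroup.centralizer ({z} : Set G))).subtype).map (Subgroup.centralizer ({z} : Set G)).subtype).map (MulAut.conj g).toMonoidHom ⊓
        (B.map (Cfsg.generalizedFittingSubgroup ↥(Subgroup.centralizer ({z} : Set G))).subtype).map (Subgroup.centralizer ({z} : Set G)).subtype = ⊥ := by
  haveI := generalizedFitting_normal (H := ↥(Subgroup.centralizer ({z} : Set G)))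
  exact key z hz _ rfl _ center_le_generalizedFitting hQ B hBc hBa g

end Cfsg.Agent.S1755
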