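import Cfsg.Statements.S1756
import Mathlib.GroupTheory.IndexNormal

set_option autoImplicit false
open Cfsg

namespace Cfsg.Agent.S1756

open Subgroup in
theorem centralizer_index {Q : Type*} [Group Q] [Finite Q] (hQ : Cfsg.IsExtraspecial 2 Q) (y : Q) :
    (Subgroup.centralizer ({y} : Set Q)).index ≤ 2 := by
  have hmem : ∀ a : Q, a * y * a⁻¹ * y⁻¹ ∈ Subgroup.center Q := by
    intro a
    rw [← hQ.1.2.2]
    exact Subgroup.commutator_mem_commutator (Subgroup.mem_top a) (Subgroup.mem_top y)
  let f : Q →* Subgroup.center Q :=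
    { toFun := fun a => ⟨_, hmem a⟩
      map_one' := Subtype.ext (by simp)
      map_mul' := fun a b => Subtype.ext (by
        simp only [Subgroup.coe_mul]
        have hc := Subgroup.mem_center_iff.mp (hmem b) a
        calc a * b * y * (a * b)⁻¹ * y⁻¹ = a * (b * y * b⁻¹ * y⁻¹) * y * a⁻¹ * y⁻¹ := by group
          _ = (b * y * b⁻¹ * y⁻¹) * (a * y * a⁻¹ * y⁻¹) := by rw [hc]; group
          _ = (a * y * a⁻¹ * y⁻¹) * (b * y * b⁻¹ * y⁻¹) := (Subgroup.mem_center_iff.mp (hmem b) _).symm) }
  have hker : f.ker = Subgroup.centralizer ({y} : Set Q) := by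
    ext a
    rw [MonoidHom.mem_ker, Subgroup.mem_centralizer_singleton_iff, Subtype.ext_iff]
    show a * y * a⁻¹ * y⁻¹ = 1 ↔ _
    rw [mul_inv_eq_one, mul_inv_eq_iff_eq_mul]
  rw [← hker, Subgroup.index_ker, ← hQ.2]
  exact Subgroup.card_le_card_group _

open Subgroup in
/-- `|C(H)| · |H| ≥ |Q| · |Z(Q)|` for some subgroup equal to `M`. -/
theorem card_centralizer_mul {Q : Type*} [Group Q] [Finite Q] (hQ : Cfsg.IsExtraspecial 2 Q)
    (M : Subgroup Q) (hZM : Subgroup.center Q ≤ M) :
    Nat.card Q * 2 ≤ Nat.card (Subgroup.centralizer (M : Set Q)) * Nat.card M := by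
  classical
  let P : Subgroup Q → Prop := fun H => H ≤ M ∧
    Nat.card Q * 2 ≤ Nat.card (Subgroup.centralizer (H : Set Q)) * Nat.card H
  have hbase : P (Subgroup.center Q) := by
    refine ⟨hZM, ?_⟩
    have : Subgroup.centralizer (Subgroup.center Q : Set Q) = ⊤ := by
      rw [eq_top_iff]
      intro q _
      rw [Subgroup.mem_centralizer_iff]
      intro c hc
      exact ((Subgroup.mem_center_iff.mp hc) q).symm
    rw [this, Subgroup.card_top, hQ.2]
  obtain ⟨H, ⟨hHM, hH⟩, hmax⟩ := Set.Finite.exists_maximal (Set.toFinite {H | P H}) ⟨_, hbase⟩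
  rcases eq_or_lt_of_le hHM with rfl | hlt
  · exact hH
  exfalso
  obtain ⟨y, hyM, hyH⟩ := SetLike.exists_of_lt hlt
  set H' : Subgroup Q := H ⊔ Subgroup.zpowers y with hH'
  have hle : H ≤ H' := le_sup_left
  have hy : y ∈ H' := (le_sup_right : Subgroup.zpowers y ≤ H') (Subgroup.mem_zpowers y)
  have h2 : 2 * Nat.card H ≤ Nat.card H' := by
    obtain ⟨k, hk⟩ := Subgroup.card_dvd_of_le hle
    rcases k with _ | _ | k
    · have := Nat.card_pos (α := H'); omega
    · exfalso
      exact hyH ((Subgroup.eq_of_le_of_card_ge hle (by omega)).symm ▸ hy)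
    · rw [hk]; nlinarith
  have hCle : Subgroup.centralizer (H : Set Q) ⊓ Subgroup.centralizer ({y} : Set Q) ≤
      Subgroup.centralizer (H' : Set Q) := by
    rw [Subgroup.le_centralizer_iff, hH', sup_le_iff]
    refine ⟨fun h hh => Subgroup.mem_centralizer_iff.mpr fun g hg => ?_, ?_⟩
    · exact (Subgroup.mem_centralizer_iff.mp hg.1 h hh).symm
    · rw [Subgroup.zpowers_le]
      exact Subgroup.mem_centralizer_iff.mpr fun g hg =>
        Subgroup.mem_centralizer_singleton_iff.mp hg.2
  have hidx : Nat.card (Subgroup.centralizer (H : Set Q)) ≤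
      2 * Nat.card (Subgroup.centralizer (H' : Set Q)) := by
    set A := Subgroup.centralizer (H : Set Q)
    set B := Subgroup.centralizer ({y} : Set Q) with hB
    have h3 : Nat.card ↥(A ⊓ B : Subgroup Q) * (A ⊓ B).relIndex A = Nat.card A := by
      rw [← Subgroup.relIndex_bot_left, ← Subgroup.relIndex_bot_left,
        Subgroup.relIndex_mul_relIndex ⊥ (A ⊓ B) A bot_le inf_le_left]
    have h4 : (A ⊓ B).relIndex A ≤ 2 := by
      rw [inf_comm, Subgroup.inf_relIndex_right]
      refine le_trans ?_ (centralizer_index hQ y)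
      rw [← Subgroup.relIndex_top_right B]
      exact Subgroup.relIndex_le_of_le_right le_top (by rw [Subgroup.relIndex_top_right]; exact Subgroup.index_ne_zero_of_finite)
    have h5 := Nat.card_le_card_of_injective _ (Subgroup.inclusion_injective hCle)
    calc Nat.card A = Nat.card ↥(A ⊓ B : Subgroup Q) * (A ⊓ B).relIndex A := h3.symm
      _ ≤ Nat.card (Subgroup.centralizer (H' : Set Q)) * 2 := Nat.mul_le_mul h5 h4
      _ = _ := mul_comm _ _
  have hP' : P H' := ⟨sup_le hlt.le (by rwa [Subgroup.zpowers_le]), by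
    calc Nat.card Q * 2 ≤ Nat.card (Subgroup.centralizer (H : Set Q)) * Nat.card H := hH
      _ ≤ (2 * Nat.card (Subgroup.centralizer (H' : Set Q))) * Nat.card H := Nat.mul_le_mul_right _ hidx
      _ = Nat.card (Subgroup.centralizer (H' : Set Q)) * (2 * Nat.card H) := by ring
      _ ≤ _ := Nat.mul_le_mul_left _ h2⟩
  exact hyH (hmax hP' hle hy)

open Subgroup in
theorem center_dichotomy {Q : Type*} [Group Q] [Finite Q] (hQ : Cfsg.IsExtraspecial 2 Q)
    {a b : Q} (ha : a ∈ Subgroup.center Q) (hb : b ∈ Subgroup.center Q) (ha1 : a ≠ 1) (hb1 : b ≠ 1) :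
    a = b := by
  classical
  by_contra hne
  haveI : Fintype (Subgroup.center Q) := Fintype.ofFinite _
  have h3 : ({1, ⟨a, ha⟩, ⟨b, hb⟩} : Finset (Subgroup.center Q)).card = 3 :=
    Finset.card_eq_three.mpr ⟨_, _, _, fun e => ha1 (congrArg Subtype.val e).symm,
      fun e => hb1 (congrArg Subtype.val e).symm, fun e => hne (congrArg Subtype.val e), rfl⟩
  have := Finset.card_le_univ ({1, ⟨a, ha⟩, ⟨b, hb⟩} : Finset (Subgroup.center Q))
  rw [h3, ← Nat.card_eq_fintype_card, hQ.2] at this
  omega

open Subgroup in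
theorem inner_of_fix {Q : Type*} [Group Q] [Finite Q] (hQ : Cfsg.IsExtraspecial 2 Q)
    (M : Subgroup Q) (hM : M.index = 2) (φ : Q →* Q) (hfix : ∀ m ∈ M, φ m = m)
    (hinv : ∀ y, φ (φ y) = y) (hne : ¬ ∀ y, φ y = y) : ∃ u : Q, ∀ y, φ y = u * y * u⁻¹ := by
  classical
  have hMn : M.Normal := Subgroup.normal_of_index_eq_two hM
  have hZM : Subgroup.center Q ≤ M := by
    haveI : Fact (Nat.Prime 2) := ⟨Nat.prime_two⟩
    rw [← hQ.1.2.1]
    apply frattini_le_coatom
    refine ⟨fun h => ?_, fun K hK => ?_⟩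
    · rw [h, Subgroup.index_top] at hM; omega
    · by_contra hKt
      obtain ⟨a, haK, haM⟩ := SetLike.exists_of_lt hK
      apply hKt
      rw [eq_top_iff]
      intro b _
      by_cases hb : b ∈ M
      · exact hK.le hb
      · have : b * a ∈ M := (Subgroup.mul_mem_iff_of_index_two hM).mpr (by tauto)
        simpa using K.mul_mem (hK.le this) (K.inv_mem haK)
  push Not at hne
  obtain ⟨x, hx⟩ := hne
  have hxM : x ∉ M := fun h => hx (hfix x h)
  set c : Q := x⁻¹ * φ x with hc
  have hφx : φ x = x * c := by rw [hc]; group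
  have hcM : ∀ m ∈ M, c * m = m * c := by
    intro m hm
    have h := hfix _ (hMn.conj_mem m hm x)
    rw [map_mul, map_mul, map_inv, hφx, hfix m hm] at h
    calc c * m = x⁻¹ * (x * c * m * (x * c)⁻¹) * x * c := by group
      _ = x⁻¹ * (x * m * x⁻¹) * x * c := by rw [h]
      _ = m * c := by group
  have hgen : ∀ w : Q, (∀ m ∈ M, w * m = m * w) → (∃ a, a ∉ M ∧ w * a = a * w) →
      w ∈ Subgroup.center Q := by
    intro w hw ⟨a, haM, ha⟩
    rw [Subgroup.mem_center_iff]
    intro b
    by_cases hb : b ∈ M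
    · exact (hw b hb).symm
    · have hba : b * a ∈ M := (Subgroup.mul_mem_iff_of_index_two hM).mpr (by tauto)
      calc b * w = (b * a) * a⁻¹ * w := by group
        _ = (b * a) * (a⁻¹ * (w * a)) * a⁻¹ := by group
        _ = (b * a) * w * a⁻¹ := by rw [ha, inv_mul_cancel_left]
        _ = w * (b * a) * a⁻¹ := by rw [hw _ hba]
        _ = w * b := by group
  have hcInM : c ∈ M := by
    by_contra h
    exact h (hZM (hgen c hcM ⟨c, h, rfl⟩))
  have hφc : φ c = c⁻¹ := by
    rw [hc, map_mul, map_inv, hinv, hφx]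
    group
  have hc2 : c * c = 1 := by
    rw [hfix c hcInM] at hφc
    nth_rewrite 1 [hφc]
    exact inv_mul_cancel c
  have hcc : c ∈ Subgroup.center Q := by
    refine hgen c hcM ⟨x, hxM, ?_⟩
    by_contra hne
    have hxx : x * x ∈ M := (Subgroup.mul_mem_iff_of_index_two hM).mpr Iff.rfl
    have h := hfix _ hxx
    rw [map_mul, hφx] at h
    apply hne
    calc c * x = x⁻¹ * (x * c * (x * c)) * c⁻¹ := by group
      _ = x⁻¹ * (x * x) * c⁻¹ := by rw [h]
      _ = x * c⁻¹ := by group
      _ = x * c := by rw [inv_eq_of_mul_eq_one_left hc2]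
  have hc1 : c ≠ 1 := fun e => hx (by rw [hφx, e, mul_one])
  have hbig := card_centralizer_mul hQ M hZM
  have hMcard : Nat.card M * 2 = Nat.card Q := by rw [← hM]; exact Subgroup.card_mul_index M
  have h4 : 4 ≤ Nat.card (Subgroup.centralizer (M : Set Q)) := by
    have hMpos : 0 < Nat.card M := Nat.card_pos
    nlinarith
  obtain ⟨u, huC, huZ⟩ : ∃ u ∈ Subgroup.centralizer (M : Set Q), u ∉ Subgroup.center Q := by
    by_contra h
    push Not at h
    have := Subgroup.card_le_of_le h
    rw [hQ.2] at this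
    omega
  have huM : ∀ m ∈ M, u * m = m * u := fun m hm => (Subgroup.mem_centralizer_iff.mp huC m hm).symm
  refine ⟨u, fun y => ?_⟩
  by_cases hy : y ∈ M
  · rw [hfix y hy, huM y hy, mul_inv_cancel_right]
  have hcomm : y⁻¹ * u * y * u⁻¹ ∈ Subgroup.center Q := by
    rw [← hQ.1.2.2, commutator_def]
    simpa [commutatorElement_def] using
      Subgroup.commutator_mem_commutator (Subgroup.mem_top y⁻¹) (Subgroup.mem_top u)
  have hne1 : y⁻¹ * u * y * u⁻¹ ≠ 1 := by
    intro e
    apply huZ
    refine hgen u huM ⟨y, hy, ?_⟩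
    calc u * y = y * (y⁻¹ * u * y * u⁻¹) * u := by group
      _ = y * u := by rw [e, mul_one]
  have hmx : x⁻¹ * y ∈ M := (Subgroup.mul_mem_iff_of_index_two hM).mpr (by
    rw [Subgroup.inv_mem_iff]; tauto)
  have hφy : φ y = y * c := by
    calc φ y = φ x * φ (x⁻¹ * y) := by rw [← map_mul, mul_inv_cancel_left]
      _ = x * c * (x⁻¹ * y) := by rw [hφx, hfix _ hmx]
      _ = x * (c * (x⁻¹ * y)) := by group
      _ = x * ((x⁻¹ * y) * c) := by rw [hcM _ hmx]
      _ = y * c := by group
  rw [hφy, ← center_dichotomy hQ hcomm hcc hne1 hc1]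
  group


/-- Let Q be an extraspecial 2-subgroup of the finite group G (special with centre of order 2) and t an involution of G normalizing Q such that the centralizer of t in Q has index at most 2 in Q. Then t lies in the product of Q with the centralizer of Q. -/
theorem result {G : Type*} [Group G] [Finite G] (Q : Subgroup G)
    (hQ : Cfsg.IsExtraspecial 2 ↥Q) (t : G) (ht : orderOf t = 2) (htN : t ∈ Subgroup.normalizer (Q : Set G))
    (hi : (Subgroup.centralizer ({t} : Set G) ⊓ Q).relIndex Q ≤ 2) :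
    t ∈ Q ⊔ Subgroup.centralizer (Q : Set G) := by
  classical
  set C : Subgroup G := Subgroup.centralizer ({t} : Set G) ⊓ Q with hC
  have ht2 : t * t = 1 := by
    have := pow_orderOf_eq_one t
    rwa [ht, pow_two] at this
  have htinv : t⁻¹ = t := inv_eq_of_mul_eq_one_left ht2
  set M : Subgroup ↥Q := C.subgroupOf Q with hMdef
  have hmemM : ∀ y : ↥Q, y ∈ M ↔ t * y = y * t := by
    intro y
    rw [hMdef, Subgroup.mem_subgroupOf, hC, Subgroup.mem_inf, Subgroup.mem_centralizer_singleton_iff]
    exact ⟨fun h => h.1.symm, fun h => ⟨h.symm, y.2⟩⟩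
  have hMindex : M.index = 1 ∨ M.index = 2 := by
    have h0 : M.index ≠ 0 := Subgroup.index_ne_zero_of_finite
    have : M.index ≤ 2 := hi
    omega
  rcases hMindex with h1 | h2
  · rw [Subgroup.index_eq_one] at h1
    refine (le_sup_right : Subgroup.centralizer (Q : Set G) ≤ _) ?_
    rw [Subgroup.mem_centralizer_iff]
    intro y hy
    exact ((hmemM ⟨y, hy⟩).mp (h1 ▸ Subgroup.mem_top _)).symm
  let φ : ↥Q →* ↥Q :=
    { toFun := fun y => ⟨t * y * t, by
        have := (Subgroup.mem_normalizer_iff.mp htN (y : G)).mp y.2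
        rwa [htinv] at this⟩
      map_one' := Subtype.ext (by simp [ht2])
      map_mul' := fun a b => Subtype.ext (by
        simp only [Subgroup.coe_mul]
        calc t * ((a : G) * b) * t = t * a * (t * t) * b * t := by rw [ht2]; group
          _ = t * a * t * (t * b * t) := by group) }
  have hfix : ∀ m : ↥Q, m ∈ M → φ m = m := fun m hm => Subtype.ext (by
    show t * (m : G) * t = m
    rw [(hmemM m).mp hm, mul_assoc, ht2, mul_one])
  have hinv : ∀ y, φ (φ y) = y := fun y => Subtype.ext (by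
    show t * (t * (y : G) * t) * t = y
    rw [show t * (t * (y : G) * t) * t = (t * t) * y * (t * t) by group, ht2, one_mul, mul_one])
  obtain ⟨u, hu⟩ := inner_of_fix hQ M h2 φ hfix hinv (by
    intro hall
    have : M = ⊤ := by
      rw [eq_top_iff]
      intro y _
      rw [hmemM]
      have h := congrArg Subtype.val (hall y)
      change t * (y : G) * t = y at h
      calc t * (y : G) = t * y * (t * t) := by rw [ht2, mul_one]
        _ = (t * y * t) * t := by group
        _ = y * t := by rw [h]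
    rw [this, Subgroup.index_top] at h2
    norm_num at h2)
  have hcen : (u : G)⁻¹ * t ∈ Subgroup.centralizer (Q : Set G) := by
    rw [Subgroup.mem_centralizer_iff]
    intro y hy
    have h := congrArg Subtype.val (hu ⟨y, hy⟩)
    change t * y * t = (u : G) * y * (u : G)⁻¹ at h
    have h' : t * y = (u : G) * y * (u : G)⁻¹ * t := by
      rw [← h, mul_assoc (t * y), ht2, mul_one]
    calc y * ((u : G)⁻¹ * t) = (u : G)⁻¹ * ((u : G) * y * (u : G)⁻¹ * t) := by group
      _ = (u : G)⁻¹ * t * y := by rw [← h', mul_assoc]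
  have := Subgroup.mul_mem_sup (S := Q) u.2 hcen
  rwa [← mul_assoc, mul_inv_cancel, one_mul] at this


end Cfsg.Agent.S1756
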