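import Cfsg.Statements.S1757

set_option autoImplicit false
open Cfsg

namespace Cfsg.Agent.S1757

/-- Let p be a prime and A, B p-subgroups of the finite group G, each of which meets every conjugate of itself other than itself trivially. Suppose the order of A is at most that of B, A and B intersect trivially, and B normalizes A. Then A and B commute elementwise. -/
theorem result {G : Type*} [Group G] [Finite G] (p : ℕ) [Fact p.Prime] (A B : Subgroup G)
    (hA : IsPGroup p ↥A) (hB : IsPGroup p ↥B)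
    (hAti : ∀ g : G, A.map (MulAut.conj g).toMonoidHom = A ∨ A.map (MulAut.conj g).toMonoidHom ⊓ A = ⊥)
    (hBti : ∀ g : G, B.map (MulAut.conj g).toMonoidHom = B ∨ B.map (MulAut.conj g).toMonoidHom ⊓ B = ⊥)
    (hle : Nat.card ↥A ≤ Nat.card ↥B) (hAB : A ⊓ B = ⊥) (hN : B ≤ Subgroup.normalizer (A : Set G)) : ⁅A, B⁆ = ⊥ := by
  classical
  rw [Subgroup.commutator_eq_bot_iff_le_centralizer]
  have hnorm : ∀ b ∈ B, ∀ a ∈ A, b * a * b⁻¹ ∈ A := fun b hb a ha =>
    (Subgroup.mem_normalizer_iff.mp (hN hb) a).mp ha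
  by_cases hAB' : A ≤ Subgroup.normalizer (B : Set G)
  · intro a ha
    rw [Subgroup.mem_centralizer_iff]
    intro b hb
    have h1 : a * b * a⁻¹ * b⁻¹ ∈ A ⊓ B := by
      refine ⟨?_, B.mul_mem ((Subgroup.mem_normalizer_iff.mp (hAB' ha) b).mp hb) (B.inv_mem hb)⟩
      have : a * b * a⁻¹ * b⁻¹ = a * (b * a⁻¹ * b⁻¹) := by group
      rw [this]
      exact A.mul_mem ha (hnorm b hb _ (A.inv_mem ha))
    rw [hAB, Subgroup.mem_bot] at h1
    have h2 : a * b = b * a := by
      calc a * b = (a * b * a⁻¹ * b⁻¹) * (b * a) := by group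
        _ = b * a := by rw [h1, one_mul]
    exact h2.symm
  exfalso
  set P : Subgroup G := A ⊔ B with hPdef
  have hP : IsPGroup p P := IsPGroup.to_sup_of_normal_left' hA hB hN
  haveI : Finite P := inferInstance
  haveI : Group.IsNilpotent P := hP.isNilpotent
  set M : Subgroup G := Subgroup.normalizer (B : Set G) ⊓ P with hMdef
  have hmul : ∀ m ∈ P, ∃ a ∈ A, ∃ b ∈ B, a * b = m := by
    intro m hm
    have hm' : m ∈ ((A ⊔ B : Subgroup G) : Set G) := hm
    rw [Subgroup.coe_mul_of_right_le_normalizer_left A B hN] at hm'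
    obtain ⟨a, ha, b, hb, h⟩ := hm'
    exact ⟨a, ha, b, hb, h⟩
  have hMlt : M.subgroupOf P < ⊤ := by
    rw [lt_top_iff_ne_top]
    intro h
    apply hAB'
    intro a ha
    have hle' : P ≤ M := Subgroup.subgroupOf_eq_top.mp h
    exact (hle' ((le_sup_left : A ≤ P) ha)).1
  have hlt := Group.normalizerCondition_of_isNilpotent (G := P) (M.subgroupOf P) hMlt
  obtain ⟨g, hg, hgM⟩ := SetLike.exists_of_lt hlt
  obtain ⟨a, ha, b, hb, hab⟩ := hmul (g : G) g.2
  have hbP : b ∈ P := (le_sup_right : B ≤ P) hb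
  have hbM : b ∈ M := ⟨Subgroup.le_normalizer hb, hbP⟩
  have haN : a ∉ Subgroup.normalizer (B : Set G) := by
    intro h
    apply hgM
    rw [Subgroup.mem_subgroupOf, ← hab]
    exact M.mul_mem ⟨h, (le_sup_left : A ≤ P) ha⟩ hbM
  have hBM : B ≤ M := fun x hx => ⟨Subgroup.le_normalizer hx, (le_sup_right : B ≤ P) hx⟩
  set B' : Subgroup G := B.map (MulAut.conj a).toMonoidHom with hB'def
  have hB'M : B' ≤ M := by
    rintro _ ⟨x, hx, rfl⟩
    have hy : b⁻¹ * x * b ∈ B := B.mul_mem (B.mul_mem (B.inv_mem hb) hx) hb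
    have hmem := (Subgroup.mem_normalizer_iff.mp hg ⟨b⁻¹ * x * b, (le_sup_right : B ≤ P) hy⟩).mp
      (Subgroup.mem_subgroupOf.mpr (hBM hy))
    rw [Subgroup.mem_subgroupOf] at hmem
    simp only [Subgroup.coe_mul, Subgroup.coe_inv, ← hab] at hmem
    have : (MulAut.conj a).toMonoidHom x = a * b * (b⁻¹ * x * b) * (a * b)⁻¹ := by
      simp [MulAut.conj_apply, mul_assoc]
    rw [this]
    exact hmem
  have hne : B' ≠ B := by
    intro h
    apply haN
    rw [Subgroup.mem_normalizer_iff]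
    intro x
    constructor
    · intro hx
      have : (MulAut.conj a).toMonoidHom x ∈ B' := ⟨x, hx, rfl⟩
      rw [h] at this
      simpa [MulAut.conj_apply] using this
    · intro hx
      rw [← h] at hx
      obtain ⟨y, hy, hyx⟩ := hx
      have : y = x := by
        simpa [MulAut.conj_apply] using hyx
      rwa [← this]
  have hdisj : B' ⊓ B = ⊥ := (hBti a).resolve_left hne
  set A' : Subgroup G := A ⊓ Subgroup.normalizer (B : Set G) with hA'def
  have hcard1 : Nat.card B' * Nat.card B ≤ Nat.card M := by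
    rw [← Nat.card_prod]
    refine Nat.card_le_card_of_injective
      (fun z : B' × B => (⟨(z.1 : G) * z.2, M.mul_mem (hB'M z.1.2) (hBM z.2.2)⟩ : M)) ?_
    rintro ⟨x, y⟩ ⟨x', y'⟩ h
    exact Subgroup.mul_injective_of_disjoint (disjoint_iff.mpr hdisj) (Subtype.mk.inj h)
  have hcard2 : Nat.card M ≤ Nat.card A' * Nat.card B := by
    rw [← Nat.card_prod]
    have hA'M : A' ≤ M := fun x hx => ⟨hx.2, (le_sup_left : A ≤ P) hx.1⟩
    refine Nat.card_le_card_of_surjective
      (fun z : A' × B => (⟨(z.1 : G) * z.2, M.mul_mem (hA'M z.1.2) (hBM z.2.2)⟩ : M)) ?_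
    rintro ⟨m, hm⟩
    obtain ⟨a', ha', b', hb', h⟩ := hmul m hm.2
    refine ⟨(⟨a', ha', ?_⟩, ⟨b', hb'⟩), Subtype.ext h⟩
    have : a' = m * b'⁻¹ := by rw [← h]; group
    rw [this]
    exact Subgroup.mul_mem _ hm.1 (Subgroup.le_normalizer (B.inv_mem hb'))
  have hcardB' : Nat.card B' = Nat.card B :=
    Subgroup.card_map_of_injective (MulAut.conj a).injective
  have hlt' : Nat.card A' < Nat.card A := by
    rcases Nat.lt_or_ge (Nat.card A') (Nat.card A) with h | h
    · exact h
    · exact absurd (Subgroup.eq_of_le_of_card_ge inf_le_left h) (fun e => hAB' (e ▸ inf_le_right))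
  have hpos : 0 < Nat.card B := Nat.card_pos
  have h3 := hcard1.trans hcard2
  rw [hcardB'] at h3
  have h4 : Nat.card B ≤ Nat.card A' := Nat.le_of_mul_le_mul_right h3 hpos
  omega


end Cfsg.Agent.S1757
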