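import Cfsg.Statements.S1774
import Cfsg.Agent.Lib.Structure.SymplecticTypeExpFour
import Cfsg.Agent.Lib.Components.FStar

set_option autoImplicit false
open Cfsg

namespace Cfsg.Agent.S1774

open scoped commutatorElement

/-- `Q` is a large subgroup of symplectic type and exponent four for the involution `z`. -/
structure Large {G : Type*} [Group G] (z : G) (Q : Subgroup G) : Prop where
  comm_z : ∀ q ∈ Q, q * z = z * q
  normal : ∀ c : G, c * z = z * c → ∀ q ∈ Q, c * q * c⁻¹ ∈ Q
  self : ∀ c : G, c * z = z * c → (∀ q ∈ Q, c * q = q * c) → c ∈ Q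
  mem : z ∈ Q
  z_sq : z * z = 1
  z_ne : z ≠ 1
  comm : ∀ a ∈ Q, ∀ b ∈ Q, a * b * a⁻¹ * b⁻¹ = 1 ∨ a * b * a⁻¹ * b⁻¹ = z
  sq : ∀ a ∈ Q, a * a = 1 ∨ a * a = z
  cen : ∀ a ∈ Q, (∀ b ∈ Q, a * b = b * a) → a * a = 1 → a = 1 ∨ a = z
  two : (∀ c : G, c * z = z * c → ∃ k : ℕ, c ^ 2 ^ k = 1) → ∀ c : G, c * z = z * c → c ∈ Q

namespace Large

variable {G : Type*} [Group G] {z : G} {Q : Subgroup G}

theorem map (h : Large z Q) (φ : G ≃* G) : Large (φ z) (Q.map φ.toMonoidHom) := by
  have hm : ∀ a, a ∈ Q.map φ.toMonoidHom ↔ φ.symm a ∈ Q := fun a => Subgroup.mem_map_equiv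
  have hc : ∀ a b : G, a * φ b = φ b * a → φ.symm a * b = b * φ.symm a := fun a b e => by
    apply φ.injective; simpa using e
  have hone : ∀ a : G, φ.symm a = 1 → a = 1 := fun a e => by simpa using congrArg φ e
  constructor
  · intro q hq
    simpa using congrArg φ (h.comm_z _ ((hm q).mp hq))
  · intro c hc' q hq
    rw [hm] at hq ⊢
    simpa using h.normal _ (hc c z hc') _ hq
  · intro c hc' hcq
    rw [hm]
    exact h.self _ (hc c z hc') fun q hq => hc c q (hcq (φ q) ((hm _).mpr (by simpa using hq)))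
  · exact ⟨z, h.mem, rfl⟩
  · rw [← map_mul, h.z_sq, map_one]
  · simpa using h.z_ne
  · intro a ha b hb
    rcases h.comm _ ((hm a).mp ha) _ ((hm b).mp hb) with e | e
    · exact Or.inl (hone _ (by simpa using e))
    · exact Or.inr (by simpa using congrArg φ e)
  · intro a ha
    rcases h.sq _ ((hm a).mp ha) with e | e
    · exact Or.inl (hone _ (by simpa using e))
    · exact Or.inr (by simpa using congrArg φ e)
  · intro a ha hab ha2
    rcases h.cen _ ((hm a).mp ha)
      (fun b hb => hc a b (hab (φ b) ((hm _).mpr (by simpa using hb)))) (by rw [← map_mul, ha2, map_one]) with e | e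
    · exact Or.inl (hone _ e)
    · exact Or.inr (by simpa using congrArg φ e)
  · intro h2 c hc'
    rw [hm]
    refine h.two (fun d hd => ?_) _ (hc c z hc')
    obtain ⟨k, hk⟩ := h2 (φ d) (by simpa using congrArg φ hd)
    exact ⟨k, φ.injective (by simpa using hk)⟩

/-- A non-central involution of `Q` is moved to its product with `z`. -/
theorem exists_move (h : Large z Q) {w : G} (hw : w ∈ Q) (hw2 : w * w = 1) (hw1 : w ≠ 1) (hwz : w ≠ z) :
    ∃ x ∈ Q, x * w * x⁻¹ = z * w := by
  by_contra hcon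
  push Not at hcon
  have hc : ∀ b ∈ Q, w * b = b * w := by
    intro b hb
    rcases h.comm b hb w hw with e | e
    · exact (mul_inv_eq_iff_eq_mul.mp (mul_inv_eq_one.mp e)).symm
    · exact absurd (mul_inv_eq_iff_eq_mul.mp e) (hcon b hb)
  rcases h.cen w hw hc hw2 with e | e
  · exact hw1 e
  · exact hwz e

theorem conj_cases (h : Large z Q) {a b : G} (ha : a ∈ Q) (hb : b ∈ Q) :
    a * b * a⁻¹ = b ∨ a * b * a⁻¹ = z * b := by
  rcases h.comm a ha b hb with e | e
  · exact Or.inl (mul_inv_eq_one.mp e)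
  · exact Or.inr (mul_inv_eq_iff_eq_mul.mp e)

/-- The commutator `a b a⁻¹ b⁻¹`. -/
private abbrev β (a b : G) : G := a * b * a⁻¹ * b⁻¹

theorem β_conj_self (h : Large z Q) {c : G} (hc : c * z = z * c) {a b : G} (ha : a ∈ Q) (hb : b ∈ Q) :
    β (c * a * c⁻¹) (c * b * c⁻¹) = β a b := by
  have e : β (c * a * c⁻¹) (c * b * c⁻¹) = c * β a b * c⁻¹ := by simp only [β]; group
  rw [e]
  rcases h.comm a ha b hb with e1 | e1 <;> simp only [β] <;> rw [e1]
  · group
  · rw [hc, mul_inv_cancel_right]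

theorem β_sq (h : Large z Q) {a b : G} (ha : a ∈ Q) (hb : b ∈ Q) : β a b * β a b = 1 := by
  rcases h.comm a ha b hb with e | e <;> simp only [β] <;> rw [e]
  · rw [one_mul]
  · exact h.z_sq

theorem β_central (h : Large z Q) {a b e : G} (ha : a ∈ Q) (hb : b ∈ Q) (he : e ∈ Q) :
    e * β a b = β a b * e := by
  rcases h.comm a ha b hb with e1 | e1 <;> simp only [β] <;> rw [e1]
  · rw [mul_one, one_mul]
  · exact h.comm_z e he

theorem β_mem (h : Large z Q) {a b : G} (ha : a ∈ Q) (hb : b ∈ Q) : β a b ∈ Q :=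
  mul_mem (mul_mem (mul_mem ha hb) (inv_mem ha)) (inv_mem hb)

theorem β_symm (h : Large z Q) {a b : G} (ha : a ∈ Q) (hb : b ∈ Q) : β b a = β a b := by
  have e : β b a = (β a b)⁻¹ := by simp only [β]; group
  rw [e]; exact inv_eq_of_mul_eq_one_left (h.β_sq ha hb)

theorem β_mul_left (h : Large z Q) {a b e : G} (ha : a ∈ Q) (hb : b ∈ Q) (he : e ∈ Q) :
    β (a * b) e = β a e * β b e := by
  have e1 : β (a * b) e = a * β b e * a⁻¹ * β a e := by simp only [β]; group
  rw [e1, h.β_central hb he ha, mul_inv_cancel_right, h.β_central ha he (h.β_mem hb he)]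

theorem β_inv_left (h : Large z Q) {a e : G} (ha : a ∈ Q) (he : e ∈ Q) : β a⁻¹ e = β a e := by
  have e1 := h.β_mul_left ha (inv_mem ha) he
  rw [mul_inv_cancel, show β (1 : G) e = 1 by simp only [β]; group] at e1
  rw [← mul_one (β a e), e1, ← mul_assoc, h.β_sq ha he, one_mul]

theorem exists_cover (h : Large z Q) {w x b : G} (hw : w ∈ Q) (hxw : x * w * x⁻¹ = z * w) (hb : b ∈ Q) :
    b * w = w * b ∨ (x⁻¹ * b) * w = w * (x⁻¹ * b) := by
  rcases h.conj_cases hb hw with e1 | e1
  · exact Or.inl (mul_inv_eq_iff_eq_mul.mp e1)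
  · refine Or.inr (mul_inv_eq_iff_eq_mul.mp ?_)
    calc x⁻¹ * b * w * (x⁻¹ * b)⁻¹ = x⁻¹ * (b * w * b⁻¹) * x := by group
      _ = x⁻¹ * (x * w * x⁻¹) * x := by rw [e1, hxw]
      _ = w := by group

theorem cen_of_comm (h : Large z Q) {w x a : G} (hw : w ∈ Q) (hx : x ∈ Q) (hxw : x * w * x⁻¹ = z * w)
    (hax : a * x = x * a) (har : ∀ r ∈ Q, r * w = w * r → a * r = r * a) : ∀ b ∈ Q, a * b = b * a := by
  intro b hb
  rcases h.exists_cover hw hxw hb with e1 | e1
  · exact har b hb e1
  · rw [show b = x * (x⁻¹ * b) by group, ← mul_assoc, hax, mul_assoc,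
      har _ (mul_mem (inv_mem hx) hb) e1]
    simp only [mul_assoc]

/-- An involution commuting with the centralizer of `w` in `Q` lies in the four group. -/
theorem eq_of_comm (h : Large z Q) {w x e : G} (hw : w ∈ Q) (hw2 : w * w = 1) (hx : x ∈ Q)
    (hxw : x * w * x⁻¹ = z * w) (he : e ∈ Q) (he2 : e * e = 1) (hew : e * w = w * e)
    (hcomm : ∀ r ∈ Q, r * w = w * r → e * r = r * e) : e = 1 ∨ e = z ∨ e = w ∨ e = z * w := by
  rcases h.conj_cases hx he with e1 | e1
  · rcases h.cen e he (h.cen_of_comm hw hx hxw (mul_inv_eq_iff_eq_mul.mp e1).symm hcomm) he2 with e2 | e2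
    · exact Or.inl e2
    · exact Or.inr (Or.inl e2)
  · have hz' : e * z = z * e := h.comm_z e he
    have hax : e * w * x = x * (e * w) := by
      refine (mul_inv_eq_iff_eq_mul.mp ?_).symm
      calc x * (e * w) * x⁻¹ = (x * e * x⁻¹) * (x * w * x⁻¹) := by group
        _ = e * w := by rw [e1, hxw, ← hz', mul_assoc e z, ← mul_assoc z z, h.z_sq, one_mul]
    have hsq : (e * w) * (e * w) = 1 := by
      rw [mul_assoc, ← mul_assoc w e w, ← hew, mul_assoc e w w, hw2, mul_one, he2]
    rcases h.cen _ (mul_mem he hw) (h.cen_of_comm hw hx hxw hax fun r hr hrw => by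
      rw [mul_assoc, ← hrw, ← mul_assoc, hcomm r hr hrw, mul_assoc]) hsq with e2 | e2
    · exact Or.inr (Or.inr (Or.inl
        ((eq_inv_of_mul_eq_one_left e2).trans (inv_eq_of_mul_eq_one_left hw2))))
    · refine Or.inr (Or.inr (Or.inr ?_))
      rw [← e2, mul_assoc, hw2, mul_one]

/-- In the smallest case the centralizer of `z` is a two-group. -/
theorem two_group_of_small [Finite G] (h : Large z Q) {w x : G} (hw : w ∈ Q) (hw2 : w * w = 1) (hw1 : w ≠ 1)
    (hwz : w ≠ z) (hx : x ∈ Q) (hxw : x * w * x⁻¹ = z * w)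
    (hM : ∀ q ∈ Q, q * w = w * q → q = 1 ∨ q = z ∨ q = w ∨ q = z * w) :
    ∀ c : G, c * z = z * c → ∃ k : ℕ, c ^ 2 ^ k = 1 := by
  obtain ⟨y, hy, hyw, hy2⟩ : ∃ y ∈ Q, y * w * y⁻¹ = z * w ∧ y * y = z := by
    rcases h.sq x hx with e | e
    · refine ⟨x * w, mul_mem hx hw, ?_, ?_⟩
      · calc x * w * w * (x * w)⁻¹ = x * (w * w) * (w⁻¹ * x⁻¹) := by group
          _ = x * (w * (w * w)⁻¹ * x⁻¹) := by rw [hw2]; group; rw [show w ^ (-1 : ℤ) = w by
                rw [zpow_neg_one]; exact inv_eq_of_mul_eq_one_left hw2]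
          _ = z * w := by rw [hw2, inv_one, mul_one, ← mul_assoc, hxw]
      · calc x * w * (x * w) = x * w * x⁻¹ * ((x * x) * w) := by group
          _ = z * w * w := by rw [hxw, e, one_mul]
          _ = z := by rw [mul_assoc, hw2, mul_one]
    · exact ⟨x, hx, hxw, e⟩
  have hzw : z * w = w * z := (h.comm_z w hw).symm
  have hzy : z * y = y * z := (h.comm_z y hy).symm
  have hwy : w * y = y * (z * w) := by
    rw [← hyw]
    have : y⁻¹ * (y * w * y⁻¹) * y = w := by group
    calc w * y = y * (y⁻¹ * (w * y)) := by group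
      _ = y * (y * w * y⁻¹) := by
        have e : y * (y * w * y⁻¹) * y⁻¹ = w := by
          rw [hyw, show y * (z * w) * y⁻¹ = (y * z * y⁻¹) * (y * w * y⁻¹) by group, ← hzy,
            mul_inv_cancel_right, hyw, ← mul_assoc, h.z_sq, one_mul]
        conv_lhs => rw [← e]
        group
  have hcov : ∀ q ∈ Q, q * w = w * q ∨ (y⁻¹ * q) * w = w * (y⁻¹ * q) := by
    intro q hq
    rcases h.conj_cases hq hw with e | e
    · exact Or.inl (mul_inv_eq_iff_eq_mul.mp e)
    · refine Or.inr (mul_inv_eq_iff_eq_mul.mp ?_)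
      calc y⁻¹ * q * w * (y⁻¹ * q)⁻¹ = y⁻¹ * (q * w * q⁻¹) * y := by group
        _ = y⁻¹ * (y * w * y⁻¹) * y := by rw [e, hyw]
        _ = w := by group
  have hy4 : y ^ 4 = 1 := by
    rw [show y ^ 4 = (y * y) * (y * y) by simp only [pow_succ, pow_zero, one_mul, mul_assoc], hy2, h.z_sq]
  intro c hc
  -- elements of odd order centralise `Q`
  have hodd : ∀ d : G, d * z = z * d → Odd (orderOf d) → d = 1 := by
    intro d hd hdo
    obtain ⟨n, hn⟩ := hdo
    have hdy : d * y * d⁻¹ ∈ Q := h.normal d hd y hy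
    have hsq : (d * y * d⁻¹) * (d * y * d⁻¹) = z := by
      rw [show (d * y * d⁻¹) * (d * y * d⁻¹) = d * (y * y) * d⁻¹ by group, hy2, hd, mul_inv_cancel_right]
    have hbad : ∀ m : G, m = w ∨ m = z * w → (y * m) * (y * m) = 1 := by
      rintro m (rfl | rfl)
      · rw [mul_assoc, ← mul_assoc m y, hwy, ← mul_assoc, ← mul_assoc, hy2, ← mul_assoc, h.z_sq, one_mul, hw2]
      · have hzyw : Commute z (y * w) := (show Commute z y from hzy).mul_right hzw
        rw [show y * (z * w) = z * (y * w) by rw [← mul_assoc, ← hzy, mul_assoc]]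
        rw [show z * (y * w) * (z * (y * w)) = z * z * ((y * w) * (y * w)) from
          hzyw.symm.mul_mul_mul_comm z (y * w), h.z_sq, one_mul, mul_assoc, ← mul_assoc w y, hwy, ← mul_assoc,
          ← mul_assoc, hy2, ← mul_assoc, h.z_sq, one_mul, hw2]
    have hdy2 : d * y * d⁻¹ = y ∨ d * y * d⁻¹ = y * z := by
      rcases hcov _ hdy with e | e
      · rcases hM _ hdy e with e' | e' | e' | e' <;> rw [e'] at hsq
        · exact absurd (hsq.symm.trans (one_mul 1)) h.z_ne
        · exact absurd (hsq.symm.trans h.z_sq) h.z_ne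
        · exact absurd (hsq.symm.trans hw2) h.z_ne
        · rw [mul_assoc, ← mul_assoc w, ← hzw, mul_assoc z w w, hw2, mul_one, h.z_sq] at hsq
          exact absurd hsq.symm h.z_ne
      · rcases hM _ (mul_mem (inv_mem hy) hdy) e with e' | e' | e' | e'
        · exact Or.inl (inv_mul_eq_one.mp e').symm
        · exact Or.inr (inv_mul_eq_iff_eq_mul.mp e')
        · rw [inv_mul_eq_iff_eq_mul.mp e', hbad w (Or.inl rfl)] at hsq
          exact absurd hsq.symm h.z_ne
        · rw [inv_mul_eq_iff_eq_mul.mp e', hbad _ (Or.inr rfl)] at hsq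
          exact absurd hsq.symm h.z_ne
    have hfix : ∀ j : ℕ, d ^ (2 * j) * y * (d ^ (2 * j))⁻¹ = y := by
      have h2 : d * (d * y * d⁻¹) * d⁻¹ = y := by
        rcases hdy2 with e | e
        · rw [e, e]
        · rw [e, show d * (y * z) * d⁻¹ = (d * y * d⁻¹) * (d * z * d⁻¹) by group, e, hd, mul_inv_cancel_right,
            mul_assoc, h.z_sq, mul_one]
      intro j
      induction j with
      | zero => simp
      | succ j ih =>
        calc d ^ (2 * (j + 1)) * y * (d ^ (2 * (j + 1)))⁻¹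
            = d * (d * (d ^ (2 * j) * y * (d ^ (2 * j))⁻¹) * d⁻¹) * d⁻¹ := by
              rw [show 2 * (j + 1) = 1 + 1 + 2 * j by ring, pow_add, pow_add, pow_one]; group
          _ = y := by rw [ih, h2]
    have hdy1 : d * y * d⁻¹ = y := by
      have := hfix (n + 1)
      rwa [show 2 * (n + 1) = orderOf d + 1 by omega, pow_succ, pow_orderOf_eq_one, one_mul] at this
    -- the image of `w`
    set v := d * w * d⁻¹ with hv
    have hvQ : v ∈ Q := h.normal d hd w hw
    have hyv : y * v * y⁻¹ = z * v := by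
      calc y * v * y⁻¹ = (d * y * d⁻¹) * (d * w * d⁻¹) * (d * y * d⁻¹)⁻¹ := by rw [hdy1]
        _ = d * (y * w * y⁻¹) * d⁻¹ := by group
        _ = z * v := by rw [hyw, hv, show d * (z * w) * d⁻¹ = (d * z) * w * d⁻¹ by group, hd]; group
    obtain ⟨i, hi⟩ : ∃ i : ℕ, v = w * y ^ i := by
      rcases hcov v hvQ with e | e
      · rcases hM v hvQ e with e' | e' | e' | e'
        · rw [e'] at hyv
          simp only [mul_one, mul_inv_cancel] at hyv
          exact absurd hyv.symm h.z_ne
        · rw [e', ← hzy, mul_inv_cancel_right, h.z_sq] at hyv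
          exact absurd hyv h.z_ne
        · exact ⟨0, by rw [e', pow_zero, mul_one]⟩
        · exact ⟨2, by rw [e', pow_two, hy2, hzw]⟩
      · have hv2 : v * v = 1 := by
          rw [hv, show d * w * d⁻¹ * (d * w * d⁻¹) = d * (w * w) * d⁻¹ by group, hw2]; group
        rcases hM _ (mul_mem (inv_mem hy) hvQ) e with e' | e' | e' | e' <;>
          rw [inv_mul_eq_iff_eq_mul] at e'
        · rw [e', mul_one, hy2] at hv2
          exact absurd hv2 h.z_ne
        · rw [e', mul_assoc, ← mul_assoc z y, hzy, mul_assoc y z z, h.z_sq, mul_one, hy2] at hv2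
          exact absurd hv2 h.z_ne
        · refine ⟨3, ?_⟩
          rw [e', show y ^ 3 = y * (y * y) by simp only [pow_succ, pow_zero, one_mul, mul_assoc], hy2,
            ← mul_assoc, hwy, mul_assoc, mul_assoc z w z, ← hzw, ← mul_assoc z, h.z_sq, one_mul]
        · exact ⟨1, by rw [e', pow_one, hwy]⟩
    have hit : ∀ k : ℕ, d ^ k * w * (d ^ k)⁻¹ = w * y ^ (i * k) := by
      intro k
      induction k with
      | zero => simp
      | succ k ih =>
        calc d ^ (k + 1) * w * (d ^ (k + 1))⁻¹ = d * (d ^ k * w * (d ^ k)⁻¹) * d⁻¹ := by rw [pow_succ']; group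
          _ = v * (d * y * d⁻¹) ^ (i * k) := by rw [ih, hv, conj_pow]; group
          _ = w * y ^ (i * (k + 1)) := by rw [hdy1, hi, mul_assoc, ← pow_add]; ring_nf
    have h1 := hit (orderOf d)
    rw [pow_orderOf_eq_one, one_mul, inv_one, mul_one, hn] at h1
    have hyi : y ^ i = 1 := by
      have h3 : y ^ (i * (2 * n + 1)) = 1 := mul_eq_left.mp h1.symm
      refine orderOf_dvd_iff_pow_eq_one.mp ?_
      refine Nat.Coprime.dvd_of_dvd_mul_right ?_ (orderOf_dvd_of_pow_eq_one h3)
      refine Nat.Coprime.coprime_dvd_left (orderOf_dvd_of_pow_eq_one hy4) ?_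
      exact ((Nat.coprime_two_left.mpr ⟨n, rfl⟩).pow_left 2)
    rw [hyi, mul_one] at hi
    have hwd : d * w = w * d := mul_inv_eq_iff_eq_mul.mp hi
    have hdQ : d ∈ Q := h.self d hd fun q hq => by
      have hcm : ∀ q ∈ Q, q * w = w * q → d * q = q * d := by
        intro q hq e
        rcases hM q hq e with e' | e' | e' | e' <;> rw [e']
        · rw [mul_one, one_mul]
        · exact hd
        · exact hwd
        · rw [← mul_assoc, hd, mul_assoc, hwd, mul_assoc]
      rcases hcov q hq with e | e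
      · exact hcm q hq e
      · have hyd : d * y = y * d := mul_inv_eq_iff_eq_mul.mp hdy1
        rw [show q = y * (y⁻¹ * q) by group, ← mul_assoc, hyd, mul_assoc, hcm _ (mul_mem (inv_mem hy) hq) e]
        simp only [mul_assoc]
    have h4 : orderOf d ∣ 4 := orderOf_dvd_of_pow_eq_one (by
      rw [show d ^ 4 = (d * d) * (d * d) by simp only [pow_succ, pow_zero, one_mul, mul_assoc]]
      rcases h.sq d hdQ with e | e <;> rw [e]
      · rw [one_mul]
      · rw [h.z_sq])
    rw [← orderOf_eq_one_iff]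
    exact Nat.eq_one_of_dvd_coprimes (((Nat.coprime_two_right.mpr ⟨n, hn⟩)).pow_right 2) dvd_rfl h4
  obtain ⟨k, m, hm, hkm⟩ := Nat.exists_eq_two_pow_mul_odd (orderOf_pos c).ne'
  refine ⟨k, hodd _ ((Commute.pow_left (show Commute c z from hc) _).eq) ?_⟩
  rw [orderOf_pow' c (pow_ne_zero _ two_ne_zero), hkm, Nat.gcd_eq_right (Dvd.intro m rfl),
    Nat.mul_div_cancel_left _ (pow_pos two_pos _)]
  exact hm

/-- The main step: `z` lies in the large subgroup of any involution `w` of `Q` conjugate to it. -/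
theorem mem_of_mem [Finite G] (h : Large z Q) (g : G) (hne : g * z * g⁻¹ ≠ z) (hin : g * z * g⁻¹ ∈ Q) :
    z ∈ Q.map (MulAut.conj g).toMonoidHom := by
  have hR0 := h.map (MulAut.conj g)
  set w := g * z * g⁻¹ with hw
  set R := Q.map (MulAut.conj g).toMonoidHom with hRdef
  have hR : Large w R := hR0
  have hw2 : w * w = 1 := hR.z_sq
  have hw1 : w ≠ 1 := hR.z_ne
  have hwz : w * z = z * w := h.comm_z w hin
  obtain ⟨x, hx, hxw⟩ := h.exists_move hin hw2 hw1 hne
  by_cases hA : ∃ v ∈ R, v * z * v⁻¹ = z * w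
  · obtain ⟨v, hv, hvz⟩ := hA
    have hvw : v * w * v⁻¹ = w := by rw [hR.comm_z v hv, mul_inv_cancel_right]
    have hxz : x * z * x⁻¹ = z := by rw [h.comm_z x hx, mul_inv_cancel_right]
    set k := (v * x)⁻¹ with hk
    have hkz : k * z * k⁻¹ = w := by
      have e : (v * x) * w * (v * x)⁻¹ = z := by
        calc (v * x) * w * (v * x)⁻¹ = (v * z * v⁻¹) * (v * w * v⁻¹) := by
              rw [show (v * x) * w * (v * x)⁻¹ = v * (x * w * x⁻¹) * v⁻¹ by group, hxw]; group
          _ = z := by rw [hvz, hvw, mul_assoc, hw2, mul_one]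
      rw [hk, inv_inv]
      conv_lhs => rw [← e]
      group
    have hkw : k * w * k⁻¹ = z * w := by
      have e : (v * x) * (z * w) * (v * x)⁻¹ = w := by
        calc (v * x) * (z * w) * (v * x)⁻¹
            = (v * (x * z * x⁻¹) * v⁻¹) * (v * (x * w * x⁻¹) * v⁻¹) := by group
          _ = (v * z * v⁻¹) * ((v * z * v⁻¹) * (v * w * v⁻¹)) := by rw [hxz, hxw]; group
          _ = w := by
            rw [hvz, hvw, mul_assoc z w w, hw2, mul_one, mul_assoc z w z, hwz, ← mul_assoc, h.z_sq, one_mul]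
      rw [hk, inv_inv]
      conv_lhs => rw [← e]
      group
    have hc : (g⁻¹ * k) * z = z * (g⁻¹ * k) := by
      refine mul_inv_eq_iff_eq_mul.mp ?_
      calc g⁻¹ * k * z * (g⁻¹ * k)⁻¹ = g⁻¹ * (k * z * k⁻¹) * g := by group
        _ = z := by rw [hkz, hw]; group
    have hmem : z * w ∈ R := by
      refine ⟨(g⁻¹ * k) * w * (g⁻¹ * k)⁻¹, h.normal _ hc w hin, ?_⟩
      show g * ((g⁻¹ * k) * w * (g⁻¹ * k)⁻¹) * g⁻¹ = z * w
      rw [← hkw]; group
    have := mul_mem hmem hR.mem
    rwa [mul_assoc, hw2, mul_one] at this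
  by_contra hzR
  have hfix : ∀ y ∈ R, (z * y * z⁻¹ = y ∨ z * y * z⁻¹ = w * y) → z * y = y * z := by
    intro y hy e
    rcases e with e | e
    · exact mul_inv_eq_iff_eq_mul.mp e
    · exfalso
      refine hA ⟨y, hy, ?_⟩
      have e' : z * y = w * y * z := mul_inv_eq_iff_eq_mul.mp e
      have e2 : y * z = w * z * y := by
        rw [mul_assoc w z y, e', ← mul_assoc, ← mul_assoc, hw2, one_mul]
      rw [e2, mul_inv_cancel_right, hwz]
  -- elements of `Q` centralising `w`
  have hE : ∀ d ∈ R, d * z = z * d → ∀ q ∈ Q, q * w = w * q →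
      q * d * q⁻¹ * d⁻¹ = 1 ∨ q * d * q⁻¹ * d⁻¹ = w := by
    intro d hd hdz q hq hqw
    set e := q * d * q⁻¹ * d⁻¹ with he
    have heR : e ∈ R := mul_mem (hR.normal q hqw d hd) (inv_mem hd)
    have heQ : e ∈ Q := by
      rw [he, show q * d * q⁻¹ * d⁻¹ = q * (d * q⁻¹ * d⁻¹) by group]
      exact mul_mem hq (h.normal d hdz _ (inv_mem hq))
    have he2 : e * e = 1 := (h.sq e heQ).resolve_right fun e2 => hzR (e2 ▸ mul_mem heR heR)
    have hcomm : ∀ r ∈ Q, r * w = w * r → e * r = r * e := by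
      intro r hr hrw
      refine mul_inv_eq_iff_eq_mul.mp (mul_inv_eq_one.mp ((h.comm e heQ r hr).resolve_right fun e2 => hzR ?_))
      rw [← e2, show e * r * e⁻¹ * r⁻¹ = e * (r * e⁻¹ * r⁻¹) by group]
      exact mul_mem heR (hR.normal r hrw _ (inv_mem heR))
    rcases h.eq_of_comm hin hw2 hx hxw heQ he2 (hR.comm_z e heR) hcomm with e2 | e2 | e2 | e2
    · exact Or.inl e2
    · exact absurd (e2 ▸ heR) hzR
    · exact Or.inr e2
    · exfalso
      have := mul_mem (e2 ▸ heR : z * w ∈ R) hR.mem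
      rw [mul_assoc, hw2, mul_one] at this
      exact hzR this
  by_cases hrep : ∃ a ∈ Q, a * w = w * a ∧ (a * a = z ∨ ∃ b ∈ Q, b * w = w * b ∧ a * b * a⁻¹ * b⁻¹ = z)
  · obtain ⟨a, ha, haw, hab⟩ := hrep
    have hconjmem : ∀ q : G, q * w = w * q → ∀ v ∈ R, q⁻¹ * v * q ∈ R := fun q hqw v hv => by
      simpa using hR.normal q⁻¹ (Commute.inv_left (show Commute q w from hqw)).eq v hv
    have hab' : ∀ {b : G}, a * b * a⁻¹ * b⁻¹ = z → z * (b * a) = a * b := fun e => by rw [← e]; group
    -- `z` centralises the centre of `R`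
    have hzc : ∀ u ∈ R, (∀ r ∈ R, u * r = r * u) → z * u = u * z := by
      intro u hu hucen
      have hcenmove : ∀ q : G, q * w = w * q → ∀ r ∈ R, (q * u * q⁻¹) * r = r * (q * u * q⁻¹) := by
        intro q hqw r hr
        calc (q * u * q⁻¹) * r = q * (u * (q⁻¹ * r * q)) * q⁻¹ := by group
          _ = q * ((q⁻¹ * r * q) * u) * q⁻¹ := by rw [hucen _ (hconjmem q hqw r hr)]
          _ = r * (q * u * q⁻¹) := by group
      have hmove : ∀ q : G, q * w = w * q → ∀ t ∈ R, (∀ r ∈ R, t * r = r * t) →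
          ∃ c, (c = 1 ∨ c = w) ∧ q * t * q⁻¹ = c * t := by
        intro q hqw t ht htcen
        have h1 : q * t * q⁻¹ ∈ R := hR.normal q hqw t ht
        have h2 : ∀ r ∈ R, (q * t * q⁻¹) * r = r * (q * t * q⁻¹) := by
          intro r hr
          calc (q * t * q⁻¹) * r = q * (t * (q⁻¹ * r * q)) * q⁻¹ := by group
            _ = q * ((q⁻¹ * r * q) * t) * q⁻¹ := by rw [htcen _ (hconjmem q hqw r hr)]
            _ = r * (q * t * q⁻¹) := by group
        have h3 : (q * t * q⁻¹ * t⁻¹) * (q * t * q⁻¹ * t⁻¹) = 1 := by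
          have hcm : Commute t⁻¹ (q * t * q⁻¹) := (show Commute (q * t * q⁻¹) t from h2 t ht).inv_right.symm
          rw [hcm.mul_mul_mul_comm, show (q * t * q⁻¹) * (q * t * q⁻¹) = q * (t * t) * q⁻¹ by group, ← mul_inv_rev]
          rcases hR.sq t ht with e | e <;> rw [e]
          · group
          · rw [hqw, mul_inv_cancel_right, mul_inv_cancel]
        refine ⟨q * t * q⁻¹ * t⁻¹, ?_, by group⟩
        exact hR.cen _ (mul_mem h1 (inv_mem ht)) (fun r hr => ((show Commute (q * t * q⁻¹) r from h2 r hr).mul_left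
          (show Commute t r from htcen r hr).inv_left).eq) h3
      have hfixc : ∀ q : G, q * w = w * q → ∀ {c : G}, (c = 1 ∨ c = w) → q * c * q⁻¹ = c := by
        rintro q hqw c (rfl | rfl)
        · group
        · rw [hqw, mul_inv_cancel_right]
      refine mul_inv_eq_iff_eq_mul.mp ?_
      rcases hab with e | ⟨b, hb, hbw, e⟩
      · obtain ⟨c, hc, hcu⟩ := hmove a haw u hu hucen
        rw [← e]
        calc a * a * u * (a * a)⁻¹ = a * (a * u * a⁻¹) * a⁻¹ := by group
          _ = (a * c * a⁻¹) * (a * u * a⁻¹) := by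
              conv_lhs => rw [hcu]
              group
          _ = (c * c) * u := by rw [hfixc a haw hc, hcu, mul_assoc]
          _ = u := by rcases hc with rfl | rfl <;> simp [hw2]
      · have hbaw : (b * a) * w = w * (b * a) :=
          ((show Commute b w from hbw).mul_left (show Commute a w from haw)).eq
        set v := (b * a)⁻¹ * u * (b * a) with hv
        have hvR : v ∈ R := hconjmem _ hbaw u hu
        have hvcen : ∀ r ∈ R, v * r = r * v := by
          have := hcenmove (b * a)⁻¹ (Commute.inv_left (show Commute (b * a) w from hbaw)).eq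
          simpa [hv] using this
        obtain ⟨c, hc, hcv⟩ := hmove a haw v hvR hvcen
        obtain ⟨c', hc', hcv'⟩ := hmove b hbw v hvR hvcen
        have h1 : (a * b) * v * (a * b)⁻¹ = c' * (c * v) := by
          calc (a * b) * v * (a * b)⁻¹ = a * (b * v * b⁻¹) * a⁻¹ := by group
            _ = (a * c' * a⁻¹) * (a * v * a⁻¹) := by rw [hcv']; group
            _ = c' * (c * v) := by rw [hfixc a haw hc', hcv]
        have h2 : (b * a) * v * (b * a)⁻¹ = c * (c' * v) := by
          calc (b * a) * v * (b * a)⁻¹ = b * (a * v * a⁻¹) * b⁻¹ := by group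
            _ = (b * c * b⁻¹) * (b * v * b⁻¹) := by rw [hcv]; group
            _ = c * (c' * v) := by rw [hfixc b hbw hc, hcv']
        have hu' : (b * a) * v * (b * a)⁻¹ = u := by rw [hv]; group
        calc z * u * z⁻¹ = (z * (b * a)) * v * (z * (b * a))⁻¹ := by rw [hv]; group
          _ = c' * (c * v) := by rw [hab' e, h1]
          _ = u := by
            rw [← hu', h2]
            rcases hc with rfl | rfl <;> rcases hc' with rfl | rfl <;> simp
    -- commutators of `R` with `Q`
    have hd : ∀ y ∈ R, (z * y * z⁻¹ * y⁻¹) * z = z * (z * y * z⁻¹ * y⁻¹) := by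
      intro y hy
      set d := z * y * z⁻¹ * y⁻¹ with hdd
      have hdR : d ∈ R := mul_mem (hR.normal z hwz.symm y hy) (inv_mem hy)
      refine (hfix d hdR ?_).symm
      have hz' : z⁻¹ = z := inv_eq_of_mul_eq_one_left h.z_sq
      have hzd : z * d * z⁻¹ = d⁻¹ := by
        rw [hdd]
        calc z * (z * y * z⁻¹ * y⁻¹) * z⁻¹ = (z * z) * (y * z⁻¹ * y⁻¹ * z⁻¹) := by group
          _ = y * z * y⁻¹ * z⁻¹ := by rw [h.z_sq, one_mul, hz']
          _ = (z * y * z⁻¹ * y⁻¹)⁻¹ := by group
      rw [hzd]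
      rcases hR.sq d hdR with e | e
      · exact Or.inl (inv_eq_of_mul_eq_one_left e)
      · refine Or.inr (inv_eq_of_mul_eq_one_right ?_)
        rw [← mul_assoc, hR.comm_z d hdR, mul_assoc, e, hw2]
    have hcom : ∀ v ∈ R, ∀ q ∈ Q, q * w = w * q → ∃ c ∈ R, c * z = z * c ∧ q * v * q⁻¹ = c * v := by
      intro v hv q hq hqw
      set c := q * v * q⁻¹ * v⁻¹ with hc
      have hcR : c ∈ R := mul_mem (hR.normal q hqw v hv) (inv_mem hv)
      refine ⟨c, hcR, (hfix c hcR ?_).symm, by rw [hc]; group⟩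
      set u := z * c * z⁻¹ * c⁻¹ with hu
      have huR : u ∈ R := mul_mem (hR.normal z hwz.symm c hcR) (inv_mem hcR)
      have hucen : ∀ r ∈ R, u * r = r * u := by
        intro y hy
        refine mul_inv_eq_iff_eq_mul.mp (mul_inv_eq_one.mp ?_)
        show β u y = 1
        have hzy : z * y * z⁻¹ ∈ R := hR.normal z hwz.symm y hy
        have hzcR : z * c * z⁻¹ ∈ R := hR.normal z hwz.symm c hcR
        set d := z * y * z⁻¹ * y⁻¹ with hdd
        have hdR : d ∈ R := mul_mem hzy (inv_mem hy)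
        have e1 : β u y = β c d := by
          have hz' : z⁻¹ = z := inv_eq_of_mul_eq_one_left h.z_sq
          have e0 : β (z * c * z⁻¹) y = β c (z * y * z⁻¹) := by
            have := hR.β_conj_self (c := z) hwz.symm hcR (hR.normal z hwz.symm y hy)
            rwa [show z * (z * y * z⁻¹) * z⁻¹ = y by
              calc z * (z * y * z⁻¹) * z⁻¹ = (z * z) * y * (z * z)⁻¹ := by group
                _ = y := by rw [h.z_sq, one_mul, inv_one, mul_one]] at this
          rw [hu, hR.β_mul_left hzcR (inv_mem hcR) hy, hR.β_inv_left hcR hy, e0, hdd,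
            ← hR.β_symm hcR (mul_mem hzy (inv_mem hy)), hR.β_mul_left hzy (inv_mem hy) hcR,
            hR.β_inv_left hy hcR, hR.β_symm hcR hzy, hR.β_symm hcR hy]
        have hqd : q⁻¹ * d * q = d ∨ q⁻¹ * d * q = w * d := by
          rcases hE d hdR (hd y hy) q⁻¹ (inv_mem hq) (Commute.inv_left (show Commute q w from hqw)).eq with e | e
          · exact Or.inl (by simpa using mul_inv_eq_one.mp e)
          · exact Or.inr (by simpa using mul_inv_eq_iff_eq_mul.mp e)
        have hqvR : q * v * q⁻¹ ∈ R := hR.normal q hqw v hv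
        have e2 : β (q * v * q⁻¹) d = β v (q⁻¹ * d * q) := by
          have := hR.β_conj_self (c := q) hqw hv (hconjmem q hqw d hdR)
          rwa [show q * (q⁻¹ * d * q) * q⁻¹ = d by group] at this
        rw [e1, hc, hR.β_mul_left hqvR (inv_mem hv) hdR, hR.β_inv_left hv hdR, e2]
        rcases hqd with e | e <;> rw [e]
        · exact hR.β_sq hv hdR
        · have : β v (w * d) = β v d := by
            rw [← hR.β_symm hv (mul_mem hR.mem hdR), hR.β_mul_left hR.mem hdR hv, hR.β_symm hv hdR,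
              show β w v = 1 by simp only [β]; rw [← hR.comm_z v hv]; group, one_mul]
          rw [this]; exact hR.β_sq hv hdR
      have hu2 : u * u = 1 := by
        refine (hR.sq u huR).resolve_right fun e2 => ?_
        have h1 : z * u = u * z := hzc u huR hucen
        have hz' : z⁻¹ = z := inv_eq_of_mul_eq_one_left h.z_sq
        have h2 : z * u * z⁻¹ = u⁻¹ := by
          rw [hu]
          calc z * (z * c * z⁻¹ * c⁻¹) * z⁻¹ = (z * z) * (c * z⁻¹ * c⁻¹ * z⁻¹) := by group
            _ = c * z * c⁻¹ * z⁻¹ := by rw [h.z_sq, one_mul, hz']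
            _ = (z * c * z⁻¹ * c⁻¹)⁻¹ := by group
        rw [h1, mul_inv_cancel_right] at h2
        exact hw1 (e2.symm.trans (mul_eq_one_iff_eq_inv.mpr h2))
      rcases hR.cen u huR hucen hu2 with e | e <;> rw [hu] at e
      · exact Or.inl (mul_inv_eq_one.mp e)
      · exact Or.inr (mul_inv_eq_iff_eq_mul.mp e)
    have hEmove : ∀ q ∈ Q, q * w = w * q → ∀ c ∈ R, c * z = z * c →
        q * c * q⁻¹ = c ∨ q * c * q⁻¹ = w * c := by
      intro q hq hqw c hc hcz
      rcases hE c hc hcz q hq hqw with e | e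
      · exact Or.inl (mul_inv_eq_one.mp e)
      · exact Or.inr (mul_inv_eq_iff_eq_mul.mp e)
    refine hzR (hR.self z hwz.symm fun y hy => hfix y hy ?_)
    rcases hab with e | ⟨b, hb, hbw, e⟩
    · obtain ⟨c, hcR, hcz, hcy⟩ := hcom y hy a ha haw
      have h1 : z * y * z⁻¹ = (a * c * a⁻¹) * c * y := by
        calc z * y * z⁻¹ = a * (a * y * a⁻¹) * a⁻¹ := by rw [← e]; group
          _ = (a * c * a⁻¹) * (a * y * a⁻¹) := by
              conv_lhs => rw [hcy]
              group
          _ = _ := by rw [hcy, ← mul_assoc]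
      rw [h1]
      rcases hEmove a ha haw c hcR hcz with e1 | e1 <;> rw [e1] <;> rcases hR.sq c hcR with e2 | e2
      · left; rw [e2, one_mul]
      · right; rw [e2]
      · right; rw [mul_assoc w c c, e2, mul_one]
      · left; rw [mul_assoc w c c, e2, hw2, one_mul]
    · have hbaw : (b * a) * w = w * (b * a) :=
        ((show Commute b w from hbw).mul_left (show Commute a w from haw)).eq
      set v := (b * a)⁻¹ * y * (b * a) with hv
      have hvR : v ∈ R := hconjmem _ hbaw y hy
      obtain ⟨c, hcR, hcz, hcv⟩ := hcom v hvR a ha haw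
      obtain ⟨c', hcR', hcz', hcv'⟩ := hcom v hvR b hb hbw
      have h1 : z * y * z⁻¹ = (a * c' * a⁻¹) * c * v := by
        calc z * y * z⁻¹ = (z * (b * a)) * v * (z * (b * a))⁻¹ := by rw [hv]; group
          _ = a * (b * v * b⁻¹) * a⁻¹ := by rw [hab' e]; group
          _ = (a * c' * a⁻¹) * (a * v * a⁻¹) := by rw [hcv']; group
          _ = _ := by rw [hcv, ← mul_assoc]
      have h2 : y = (b * c * b⁻¹) * c' * v := by
        calc y = b * (a * v * a⁻¹) * b⁻¹ := by rw [hv]; group
          _ = (b * c * b⁻¹) * (b * v * b⁻¹) := by rw [hcv]; group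
          _ = _ := by rw [hcv', ← mul_assoc]
      rw [h1, h2]
      have hswap : c' * c = c * c' ∨ c' * c = w * (c * c') := by
        rcases hR.comm c' hcR' c hcR with e1 | e1
        · exact Or.inl (mul_inv_eq_iff_eq_mul.mp (mul_inv_eq_one.mp e1))
        · refine Or.inr ?_
          calc c' * c = (c' * c * c'⁻¹ * c⁻¹) * (c * c') := by group
            _ = w * (c * c') := by rw [e1]
      have hww : ∀ t : G, w * (w * t) = t := fun t => by rw [← mul_assoc, hw2, one_mul]
      rcases hEmove a ha haw c' hcR' hcz' with e1 | e1 <;> rw [e1] <;>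
        rcases hEmove b hb hbw c hcR hcz with e2 | e2 <;> rw [e2] <;>
        rcases hswap with e3 | e3 <;> have e4 := congrArg (· * v) e3 <;>
        simp only [mul_assoc] at e4 <;> simp only [mul_assoc, e4, hww, true_or, or_true]
  · push Not at hrep
    have hM : ∀ q ∈ Q, q * w = w * q → q = 1 ∨ q = z ∨ q = w ∨ q = z * w := by
      intro q hq hqw
      refine h.eq_of_comm hin hw2 hx hxw hq ((h.sq q hq).resolve_right (hrep q hq hqw).1) hqw fun r hr hrw => ?_
      exact mul_inv_eq_iff_eq_mul.mp (mul_inv_eq_one.mp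
        ((h.comm q hq r hr).resolve_right ((hrep q hq hqw).2 r hr hrw)))
    have h2 := h.two_group_of_small hin hw2 hw1 hne hx hxw hM
    refine hzR (hR.two (fun c hc => ?_) z hwz.symm)
    have hc' : (g⁻¹ * c * g) * z = z * (g⁻¹ * c * g) := by
      calc (g⁻¹ * c * g) * z = g⁻¹ * (c * w) * g := by rw [hw]; group
        _ = g⁻¹ * (w * c) * g := by rw [hc]
        _ = z * (g⁻¹ * c * g) := by rw [hw]; group
    obtain ⟨k, hk⟩ := h2 _ hc'
    refine ⟨k, ?_⟩
    rw [show g⁻¹ * c * g = g⁻¹ * c * g⁻¹⁻¹ by group, conj_pow, conj_eq_one_iff] at hk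
    exact hk

end Large


/-- Let G be a finite group and let z be an involution of G such that Q, the generalized Fitting subgroup of the centralizer C of z, is a 2-group of symplectic type (every characteristic abelian subgroup of Q is cyclic); suppose every element of Q has order dividing 4. Let g ∈ G with z' = g z g⁻¹ ≠ z and z' ∈ Q. Then z lies in the conjugate g Q g⁻¹, and the subgroup X generated by Q and g Q g⁻¹ induces every automorphism of the four-group generated by z and z': for any two distinct non-identity elements u, v of that four-group there is x ∈ X with x z x⁻¹ = u and x z' x⁻¹ = v. -/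
theorem result {G : Type*} [Group G] [Finite G] (z : G) (hz : orderOf z = 2) (hQ : Cfsg.IsOfSymplecticType ↥(Cfsg.generalizedFittingSubgroup ↥(Subgroup.centralizer ({z} : Set G))))
    (h4 : ∀ q ∈ (Cfsg.generalizedFittingSubgroup ↥(Subgroup.centralizer ({z} : Set G))).map (Subgroup.centralizer ({z} : Set G)).subtype, q ^ 4 = 1) (g : G) (hne : g * z * g⁻¹ ≠ z) (hin : g * z * g⁻¹ ∈ (Cfsg.generalizedFittingSubgroup ↥(Subgroup.centralizer ({z} : Set G))).map (Subgroup.centralizer ({z} : Set G)).subtype) :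
    z ∈ ((Cfsg.generalizedFittingSubgroup ↥(Subgroup.centralizer ({z} : Set G))).map (Subgroup.centralizer ({z} : Set G)).subtype).map (MulAut.conj g).toMonoidHom ∧
      ∀ u ∈ Subgroup.closure ({z, g * z * g⁻¹} : Set G), ∀ v ∈ Subgroup.closure ({z, g * z * g⁻¹} : Set G),
        u ≠ 1 → v ≠ 1 → u ≠ v →
          ∃ x ∈ (Cfsg.generalizedFittingSubgroup ↥(Subgroup.centralizer ({z} : Set G))).map (Subgroup.centralizer ({z} : Set G)).subtype ⊔ ((Cfsg.generalizedFittingSubgroup ↥(Subgroup.centralizer ({z} : Set G))).map (Subgroup.centralizer ({z} : Set G)).subtype).map (MulAut.conj g).toMonoidHom, x * z * x⁻¹ = u ∧ x * (g * z * g⁻¹) * x⁻¹ = v := by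
  set C := Subgroup.centralizer ({z} : Set G) with hC
  set Q0 := Cfsg.generalizedFittingSubgroup ↥C with hQ0
  set Q := Q0.map C.subtype with hQdef
  have hz2 : z * z = 1 := by
    have := pow_orderOf_eq_one z
    rwa [hz, pow_two] at this
  have hz1 : z ≠ 1 := fun e => by simp [e] at hz
  have hzC : z ∈ C := Subgroup.mem_centralizer_singleton_iff.mpr rfl
  have hself0 := CfsgLib.Components.centralizer_generalizedFitting_le (G := ↥C)
  have hzc : (⟨z, hzC⟩ : C) ∈ Subgroup.center C := by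
    rw [Subgroup.mem_center_iff]
    exact fun c => Subtype.ext (Subgroup.mem_centralizer_singleton_iff.mp c.2)
  have hzQ0 : (⟨z, hzC⟩ : C) ∈ Q0 :=
    hself0 (Subgroup.mem_centralizer_iff.mpr fun q _ => Subgroup.mem_center_iff.mp hzc q)
  have h4' : ∀ t : Q0, t ^ 4 = 1 := fun t =>
    Subtype.ext (Subtype.ext (h4 _ ⟨(t : C), t.2, rfl⟩))
  have hprops := CfsgLib.SymplecticFour.commutator_props (↥Q0) hQ.1 hQ.2 h4'
  have hZ : IsCyclic (Subgroup.center Q0) := hQ.2 _ inferInstance inferInstance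
  set z0 : Q0 := ⟨⟨z, hzC⟩, hzQ0⟩
  have hz0c : z0 ∈ Subgroup.center Q0 := by
    rw [Subgroup.mem_center_iff]
    exact fun t => Subtype.ext (Subgroup.mem_center_iff.mp hzc t)
  have huniq : ∀ t : Q0, t ∈ Subgroup.center Q0 → t ^ 2 = 1 → t = 1 ∨ t = z0 := by
    intro t ht ht2
    by_cases h1 : t = 1
    · exact Or.inl h1
    · exact Or.inr (CfsgLib.SymplecticFour.eq_of_sq_eq_one hZ ht hz0c ht2
        (Subtype.ext (Subtype.ext (by simpa [pow_two] using hz2))) h1
        (fun e => hz1 (congrArg (fun t : Q0 => ((t : C) : G)) e)))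
  have hval : ∀ t : Q0, (t = 1 ∨ t = z0) → ((t : C) : G) = 1 ∨ ((t : C) : G) = z := by
    rintro t (rfl | rfl)
    · exact Or.inl rfl
    · exact Or.inr rfl
  have hQn : Q0.Normal := CfsgLib.Components.generalizedFitting_normal
  have hL : Large z Q := by
    constructor
    · rintro q ⟨q', _, rfl⟩
      exact Subgroup.mem_centralizer_singleton_iff.mp q'.2
    · rintro c hc q ⟨q', hq', rfl⟩
      exact ⟨_, hQn.conj_mem q' hq' ⟨c, Subgroup.mem_centralizer_singleton_iff.mpr hc⟩, rfl⟩
    · intro c hc hcq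
      refine ⟨⟨c, Subgroup.mem_centralizer_singleton_iff.mpr hc⟩, hself0 ?_, rfl⟩
      rw [Subgroup.mem_centralizer_iff]
      exact fun q hq => Subtype.ext (hcq _ ⟨q, hq, rfl⟩).symm
    · exact ⟨_, hzQ0, rfl⟩
    · exact hz2
    · exact hz1
    · rintro a ⟨a', ha', rfl⟩ b ⟨b', hb', rfl⟩
      obtain ⟨h1, h2⟩ := hprops ⟨a', ha'⟩ ⟨b', hb'⟩
      exact hval _ (huniq _ h1 h2)
    · rintro a ⟨a', ha', rfl⟩
      refine hval ((⟨a', ha'⟩ : Q0) * ⟨a', ha'⟩) (huniq _ ?_ ?_)
      · rw [← pow_two, Subgroup.mem_center_iff]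
        intro d
        refine (commutatorElement_eq_one_iff_mul_comm.mp ?_).symm
        rw [CfsgLib.SymplecticFour.commutator_sq_left (hprops _ d).1, (hprops _ d).2]
      · rw [← pow_two, ← pow_mul]; exact h4' _
    · rintro a ⟨a', ha', rfl⟩ hab ha2
      refine hval ⟨a', ha'⟩ (huniq _ ?_ ?_)
      · rw [Subgroup.mem_center_iff]
        exact fun d => Subtype.ext (Subtype.ext (hab _ ⟨(d : C), d.2, rfl⟩).symm)
      · rw [pow_two]; exact Subtype.ext (Subtype.ext ha2)
    · intro h2 c hc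
      have hCp : IsPGroup 2 C := fun d => by
        obtain ⟨k, hk⟩ := h2 d (Subgroup.mem_centralizer_singleton_iff.mp d.2)
        exact ⟨k, Subtype.ext (by simpa using hk)⟩
      have : Group.IsNilpotent C := hCp.isNilpotent
      have htop : Q0 = ⊤ := by
        rw [hQ0, eq_top_iff]
        refine le_trans (le_sSup ?_) le_sup_right
        exact ⟨inferInstance, inferInstance⟩
      exact ⟨⟨c, Subgroup.mem_centralizer_singleton_iff.mpr hc⟩, htop ▸ Subgroup.mem_top _, rfl⟩
  have hzR := hL.mem_of_mem g hne hin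
  refine ⟨hzR, ?_⟩
  set w := g * z * g⁻¹ with hw
  set R := Q.map (MulAut.conj g).toMonoidHom with hR
  have hLR : Large w R := hL.map (MulAut.conj g)
  have hw2 : w * w = 1 := hLR.z_sq
  obtain ⟨x, hx, hxw⟩ := hL.exists_move hin hw2 hLR.z_ne hne
  obtain ⟨v, hv, hvz⟩ := hLR.exists_move hzR hz2 hz1 (Ne.symm hne)
  have hwz : w * z = z * w := hL.comm_z w hin
  rw [hwz] at hvz
  have hxz : x * z * x⁻¹ = z := by rw [hL.comm_z x hx, mul_inv_cancel_right]
  have hvw : v * w * v⁻¹ = w := by rw [hLR.comm_z v hv, mul_inv_cancel_right]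
  have hxzw : x * (z * w) * x⁻¹ = w := by
    rw [show x * (z * w) * x⁻¹ = (x * z * x⁻¹) * (x * w * x⁻¹) by group, hxz, hxw, ← mul_assoc, hz2, one_mul]
  have hvzw : v * (z * w) * v⁻¹ = z := by
    rw [show v * (z * w) * v⁻¹ = (v * z * v⁻¹) * (v * w * v⁻¹) by group, hvz, hvw, mul_assoc, hw2, mul_one]
  have hmem : ∀ u ∈ Subgroup.closure ({z, w} : Set G), u = 1 ∨ u = z ∨ u = w ∨ u = z * w := by
    intro u hu
    induction hu using Subgroup.closure_induction with
    | mem y hy =>
      rcases hy with rfl | rfl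
      · exact Or.inr (Or.inl rfl)
      · exact Or.inr (Or.inr (Or.inl rfl))
    | one => exact Or.inl rfl
    | mul a b _ _ ha hb =>
      have e1 : z * (z * w) = w := by rw [← mul_assoc, hz2, one_mul]
      have e2 : w * (z * w) = z := by rw [← mul_assoc, hwz, mul_assoc, hw2, mul_one]
      have e3 : z * w * z = w := by rw [mul_assoc, hwz, e1]
      have e4 : z * w * w = z := by rw [mul_assoc, hw2, mul_one]
      have e5 : z * w * (z * w) = 1 := by rw [mul_assoc, e2, hz2]
      rcases ha with rfl | rfl | rfl | rfl <;> rcases hb with rfl | rfl | rfl | rfl <;>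
        simp only [one_mul, mul_one, hz2, hw2, e1, e2, e3, e4, e5, hwz, true_or, or_true]
    | inv a _ ha =>
      have e0 : ∀ t : G, t * t = 1 → t⁻¹ = t := fun t ht => inv_eq_of_mul_eq_one_left ht
      rcases ha with rfl | rfl | rfl | rfl
      · exact Or.inl inv_one
      · exact Or.inr (Or.inl (e0 _ hz2))
      · exact Or.inr (Or.inr (Or.inl (e0 _ hw2)))
      · refine Or.inr (Or.inr (Or.inr ?_))
        rw [mul_inv_rev, e0 _ hz2, e0 _ hw2, hwz]
  have hxX : x ∈ Q ⊔ R := (le_sup_left : Q ≤ Q ⊔ R) hx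
  have hvX : v ∈ Q ⊔ R := (le_sup_right : R ≤ Q ⊔ R) hv
  have conj2 : ∀ a b t : G, (a * b) * t * (a * b)⁻¹ = a * (b * t * b⁻¹) * a⁻¹ := fun a b t => by group
  intro u hu t ht hu1 ht1 hut
  rcases hmem u hu with rfl | rfl | rfl | rfl <;> rcases hmem t ht with rfl | rfl | rfl | rfl
  all_goals first | exact absurd rfl hu1 | exact absurd rfl ht1 | exact absurd rfl hut | skip
  · exact ⟨1, one_mem _, by group, by group⟩
  · exact ⟨x, hxX, hxz, hxw⟩
  · exact ⟨x * v * x, mul_mem (mul_mem hxX hvX) hxX, by rw [conj2, conj2, hxz, hvz, hxzw],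
      by rw [conj2, conj2, hxw, hvzw, hxz]⟩
  · exact ⟨x * v, mul_mem hxX hvX, by rw [conj2, hvz, hxzw], by rw [conj2, hvw, hxw]⟩
  · exact ⟨v * x, mul_mem hvX hxX, by rw [conj2, hxz, hvz], by rw [conj2, hxw, hvzw]⟩
  · exact ⟨v, hvX, hvz, hvw⟩


end Cfsg.Agent.S1774
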