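import Cfsg.Statements.S1775
import Cfsg.Agent.Lib.Components.PLayerConj
import Cfsg.Agent.Lib.Components.Local

set_option autoImplicit false
open Cfsg

namespace Cfsg.Agent.S1775

open scoped commutatorElement
open CfsgLib.Components

theorem even_card_image {G H : Type*} [Group G] [Finite G] [Group H] {K : Subgroup G}
    (hK : Cfsg.IsPComponent 2 K) (f : K →* H) (hf : Function.Surjective f)
    (hker : (Nat.card f.ker).Coprime 2) : 2 ∣ Nat.card H := by
  have : Fact (Nat.Prime 2) := ⟨Nat.prime_two⟩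
  have h := pComponent_dvd_card hK
  rw [← Subgroup.card_mul_index f.ker, Subgroup.index_ker, MonoidHom.range_eq_top.mpr hf, Subgroup.card_top] at h
  exact (Nat.prime_two.dvd_mul.mp h).resolve_left fun h' =>
    absurd (Nat.eq_one_of_dvd_coprimes hker h' dvd_rfl) (by norm_num)

/-- A quotient of odd kernel of a 2-component in which the image of the core is central is
quasisimple. -/
theorem quasisimple_image {G H : Type*} [Group G] [Finite G] [Group H] [Finite H] {K : Subgroup G}
    (hK : Cfsg.IsPComponent 2 K) (f : K →* H) (hf : Function.Surjective f)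
    (hker : (Nat.card f.ker).Coprime 2)
    (hW : ∀ w ∈ Cfsg.pPrimeCore 2 K, ∀ h : H, h * f w = f w * h) : Cfsg.IsQuasisimple H := by
  have : Fact (Nat.Prime 2) := ⟨Nat.prime_two⟩
  have : Nontrivial H := Finite.one_lt_card_iff_nontrivial.mp
    (lt_of_lt_of_le one_lt_two (Nat.le_of_dvd Nat.card_pos (even_card_image hK f hf hker)))
  have hKp : _root_.commutator K = ⊤ := (Subgroup.isPerfect_iff.mpr (pComponent_commutator_self hK)).commutator_eq_top
  have hp : _root_.commutator H = ⊤ := by
    rw [commutator_def, ← Subgroup.map_top_of_surjective f hf, ← Subgroup.map_commutator,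
      ← commutator_def, hKp]
  refine isQuasisimple_of_normal hp fun N hN hNtop => ?_
  set W := Cfsg.pPrimeCore 2 K with hWdef
  set N' := N.comap f with hN'
  set π := QuotientGroup.mk' W with hπ
  have hN'' : (N'.map π).Normal := (hN.comap f).map π (QuotientGroup.mk'_surjective W)
  rcases quasisimple_normal_eq_top_or_le_center (pComponent_quotient_quasisimple hK) (N'.map π) with h | h
  · exfalso
    refine hNtop ?_
    have hsup : N' ⊔ W = ⊤ := by
      have := congrArg (Subgroup.comap π) h
      rwa [Subgroup.comap_map_eq, hπ, QuotientGroup.ker_mk', Subgroup.comap_top] at this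
    have hidx : N'.index.Coprime 2 := by
      refine Nat.Coprime.coprime_dvd_left ?_ (CfsgLib.PCore.pPrimeCore_coprime (p := 2) (G := K))
      rw [← Subgroup.relIndex_top_right, ← hsup, sup_comm, Subgroup.relIndex_sup_right]
      exact Subgroup.relIndex_dvd_card N' W
    have := pComponent_eq_top_of_coprime_index hK N' hidx
    rw [← Subgroup.map_comap_eq_self_of_surjective hf N, ← hN', this, Subgroup.map_top_of_surjective f hf]
  · have h1 : ⁅N, (⊤ : Subgroup H)⁆ ≤ W.map f := by
      rw [← Subgroup.map_top_of_surjective f hf, ← Subgroup.map_comap_eq_self_of_surjective hf N,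
        ← Subgroup.map_commutator]
      refine Subgroup.map_mono (Subgroup.commutator_le.mpr fun a ha b _ => ?_)
      rw [← QuotientGroup.ker_mk' W, MonoidHom.mem_ker, map_commutatorElement,
        commutatorElement_eq_one_iff_mul_comm]
      exact (Subgroup.mem_center_iff.mp (h ⟨a, ha, rfl⟩) _).symm
    have h2 : ⁅⁅(⊤ : Subgroup H), N⁆, (⊤ : Subgroup H)⁆ = ⊥ := by
      rw [Subgroup.commutator_eq_bot_iff_le_centralizer, Subgroup.commutator_comm]
      refine h1.trans ?_
      rintro _ ⟨w, hw, rfl⟩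
      exact Subgroup.mem_centralizer_iff.mpr fun h _ => hW w hw h
    have h3 := commutator_eq_bot_of_perfect (by rwa [← commutator_def]) h2
    intro n hn
    rw [Subgroup.mem_center_iff]
    exact fun h => commute_of_commutator_eq_bot h3 (Subgroup.mem_top h) hn

theorem coprime_ker_of_le {G H : Type*} [Group G] [Finite G] [Group H] {p : ℕ} (f : G →* H)
    {N : Subgroup G} (hle : f.ker ≤ N) (hN : (Nat.card N).Coprime p) : (Nat.card f.ker).Coprime p :=
  hN.coprime_dvd_left (Subgroup.card_dvd_of_le hle)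
theorem main {G : Type*} [Group G] [Finite G] (x y : G) (hx : orderOf x = 2) (hxy : x * y = y * x)
    (hB : Cfsg.HasBProperty (↥(Subgroup.centralizer ({y} : Set G)) ⧸ Cfsg.oddCore ↥(Subgroup.centralizer ({y} : Set G))))
    (D : Subgroup G) (hDx : D ≤ Subgroup.centralizer ({x} : Set G)) (hDy : D ≤ Subgroup.centralizer ({y} : Set G))
    (hDn : ∀ c ∈ Subgroup.centralizer ({x} : Set G), c ∈ Subgroup.centralizer ({y} : Set G) → ∀ d ∈ D, c * d * c⁻¹ ∈ D)
    (J : Subgroup D) (hJ : Cfsg.IsPComponent 2 J) :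
    Cfsg.IsComponent
        ((((J.map (Subgroup.subtype _)).subgroupOf (Subgroup.centralizer ({y} : Set G))).map (QuotientGroup.mk' (Cfsg.oddCore ↥(Subgroup.centralizer ({y} : Set G))))).subgroupOf
          (Subgroup.centralizer ({(QuotientGroup.mk' (Cfsg.oddCore ↥(Subgroup.centralizer ({y} : Set G))) ⟨x, Subgroup.mem_centralizer_singleton_iff.mpr hxy⟩ : ↥(Subgroup.centralizer ({y} : Set G)) ⧸ Cfsg.oddCore ↥(Subgroup.centralizer ({y} : Set G)))} : Set _))) ∧
      ∀ E : Subgroup G, E ≤ Subgroup.centralizer ({x} : Set G) ⊓ Subgroup.centralizer ({y} : Set G) → Odd (Nat.card ↥E) →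
        (∀ j ∈ J.map (Subgroup.subtype _), ∀ e ∈ E, j * e * j⁻¹ ∈ E) →
          ⁅J.map (Subgroup.subtype _), E⁆ ≤ (Cfsg.oddCore ↥(Subgroup.centralizer ({y} : Set G))).map (Subgroup.centralizer ({y} : Set G)).subtype := by
  haveI : Fact (Nat.Prime 2) := ⟨Nat.prime_two⟩
  set Cx := Subgroup.centralizer ({x} : Set G) with hCx
  set X := Subgroup.centralizer ({y} : Set G) with hX
  set O := Cfsg.oddCore ↥X with hO
  set π := QuotientGroup.mk' O with hπ
  set xX : X := ⟨x, Subgroup.mem_centralizer_singleton_iff.mpr hxy⟩ with hxX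
  set CQ := Subgroup.centralizer ({π xX} : Set (↥X ⧸ O)) with hCQ
  have hOc : (Nat.card O).Coprime 2 := CfsgLib.PCore.pPrimeCore_coprime
  have hxo : orderOf xX = 2 := by rw [← Subgroup.orderOf_coe]; exact hx
  have hxb : orderOf (π xX) = 2 := by
    refine orderOf_eq_prime ?_ ?_
    · rw [← map_pow]; convert map_one π; rw [← hxo, pow_orderOf_eq_one]
    · intro e
      have hmem : xX ∈ O := (QuotientGroup.eq_one_iff _).mp e
      have := Nat.eq_one_of_dvd_coprimes hOc (hxo ▸ Subgroup.orderOf_dvd_natCard O hmem) dvd_rfl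
      norm_num at this
  -- embedding of `D` into the centralizer of `x` in `X`, and on into `CQ`
  let CX : Subgroup X := Subgroup.centralizer ({xX} : Set X)
  let ι : D →* CX :=
    { toFun := fun d => ⟨⟨d, hDy d.2⟩, Subgroup.mem_centralizer_singleton_iff.mpr
        (Subtype.ext (Subgroup.mem_centralizer_singleton_iff.mp (hDx d.2)))⟩
      map_one' := rfl
      map_mul' := fun _ _ => rfl }
  let φ : CX →* CQ := (π.comp CX.subtype).codRestrict CQ fun c =>
    Subgroup.mem_centralizer_singleton_iff.mpr (by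
      simp only [MonoidHom.comp_apply, ← map_mul]
      exact congrArg π (Subgroup.mem_centralizer_singleton_iff.mp c.2))
  have hφ : Function.Surjective φ := by
    rintro ⟨q, hq⟩
    have hP : IsPGroup 2 (Subgroup.zpowers xX) :=
      IsPGroup.of_card (n := 1) (by rw [Nat.card_zpowers, hxo, pow_one])
    have hq' : q ∈ Subgroup.centralizer (((Subgroup.zpowers xX).map π : Subgroup (↥X ⧸ O)) : Set (↥X ⧸ O)) := by
      rw [MonoidHom.map_zpowers, Subgroup.mem_centralizer_iff]
      rintro _ ⟨i, rfl⟩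
      exact ((show Commute (π xX) q from (Subgroup.mem_centralizer_singleton_iff.mp hq).symm).zpow_left i).eq
    rw [← map_centralizer_quotient hOc hP] at hq'
    obtain ⟨c, hc, rfl⟩ := hq'
    exact ⟨⟨c, Subgroup.mem_centralizer_singleton_iff.mpr
      (Subgroup.mem_centralizer_iff.mp hc xX (Subgroup.mem_zpowers _)).symm⟩, rfl⟩
  have hιn : ι.range.Normal := by
    refine ⟨?_⟩
    rintro _ ⟨d, rfl⟩ c
    have hcx : ((c : X) : G) ∈ Cx := Subgroup.mem_centralizer_singleton_iff.mpr
      (congrArg Subtype.val (Subgroup.mem_centralizer_singleton_iff.mp c.2))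
    refine ⟨⟨((c : X) : G) * (d : G) * ((c : X) : G)⁻¹, hDn _ hcx (c : X).2 _ d.2⟩, rfl⟩
  set M := (J.map ι).map φ with hM
  have hMsub : M.IsSubnormal := by
    refine Subgroup.IsSubnormal.map hφ ?_
    have h1 : (J.map ι.rangeRestrict).IsSubnormal := hJ.1.map ι.rangeRestrict_surjective
    have h2 := h1.trans' hιn.isSubnormal
    rwa [Subgroup.map_map, ι.subtype_comp_rangeRestrict] at h2
  let f : J →* M :=
    ((φ.comp ι).comp J.subtype).codRestrict M fun j => ⟨ι j, ⟨j, j.2, rfl⟩, rfl⟩
  have hf : Function.Surjective f := by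
    rintro ⟨_, _, ⟨j, hj, rfl⟩, rfl⟩
    exact ⟨⟨j, hj⟩, rfl⟩
  -- elements of `J` killed in the quotient lie in the core
  have hker : (Nat.card f.ker).Coprime 2 := by
    refine hOc.coprime_dvd_left ?_
    let toX : J →* X := { toFun := fun j => ⟨((j : D) : G), hDy (j : D).2⟩, map_one' := rfl, map_mul' := fun _ _ => rfl }
    have hinj : Function.Injective toX := fun a b e => Subtype.ext (Subtype.ext (congrArg (fun t : X => (t : G)) e))
    rw [← Subgroup.card_map_of_injective hinj]
    refine Subgroup.card_dvd_of_le ?_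
    rintro _ ⟨j, hj, rfl⟩
    have e : ((φ (ι j) : CQ) : ↥X ⧸ O) = 1 :=
      congrArg (fun t : M => ((t : CQ) : ↥X ⧸ O)) (MonoidHom.mem_ker.mp hj)
    exact (QuotientGroup.eq_one_iff _).mp e
  have hWM : ∀ w ∈ Cfsg.pPrimeCore 2 J, ((f w : M) : CQ) ∈ Cfsg.pPrimeCore 2 CQ := by
    intro w hw
    refine CfsgLib.PCore.map_pPrimeCore_subtype_of_isSubnormal hMsub ⟨f w, ?_, rfl⟩
    exact CfsgLib.PCore.map_pPrimeCore_le f hf ⟨w, hw, rfl⟩
  -- `M` lies in the layer of `CQ`
  set πC := QuotientGroup.mk' (Cfsg.pPrimeCore 2 CQ) with hπC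
  have hMb : Cfsg.IsComponent (M.map πC) := by
    refine ⟨hMsub.map (QuotientGroup.mk'_surjective _), ?_⟩
    let f2 : J →* M.map πC := (πC.subgroupMap M).comp f
    have hf2 : Function.Surjective f2 := (πC.subgroupMap_surjective M).comp hf
    refine quasisimple_image hJ f2 hf2 ?_ fun w hw h => ?_
    · have hK2 : ((πC.subgroupMap M).ker.map M.subtype) ≤ Cfsg.pPrimeCore 2 CQ := by
        rintro _ ⟨m, hm, rfl⟩
        exact (QuotientGroup.eq_one_iff _).mp (congrArg Subtype.val (MonoidHom.mem_ker.mp hm))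
      have hc2 : (Nat.card (πC.subgroupMap M).ker).Coprime 2 := by
        rw [← Subgroup.card_map_of_injective M.subtype_injective]
        exact CfsgLib.PCore.pPrimeCore_coprime.coprime_dvd_left (Subgroup.card_dvd_of_le hK2)
      have e : f2.ker = (πC.subgroupMap M).ker.comap f := (MonoidHom.comap_ker _ _).symm
      rw [e]
      have h3 := Subgroup.card_mul_index (f.ker.subgroupOf ((πC.subgroupMap M).ker.comap f))
      rw [Nat.card_congr (Subgroup.subgroupOfEquivOfLe (Subgroup.ker_le_comap f _)).toEquiv] at h3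
      rw [← h3]
      refine Nat.Coprime.mul_left hker (hc2.coprime_dvd_left ?_)
      show f.ker.relIndex ((πC.subgroupMap M).ker.comap f) ∣ _
      rw [← MonoidHom.comap_bot, Subgroup.relIndex_comap, Subgroup.map_comap_eq_self_of_surjective hf,
        Subgroup.relIndex_bot_left]
    · have h1 : f2 w = 1 := Subtype.ext ((QuotientGroup.eq_one_iff _).mpr (hWM w hw))
      rw [h1, mul_one, one_mul]
  have hMlayer : M ≤ Cfsg.pLayer 2 CQ := by
    have hMp : M ≤ pElemClosure 2 M := by
      have h1 := Subgroup.map_mono (f := φ.comp ι) (pComponent_le_pElemClosure hJ)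
      rw [map_pElemClosure] at h1
      rwa [hM, Subgroup.map_map]
    refine hMp.trans (le_trans ?_ (pComponent_le_pLayer (isPComponent_pElemClosure_comap hMb)))
    exact pElemClosure_mono (Subgroup.le_comap_map _ _)
  -- the B-property of the quotient
  have hbot : ⁅Cfsg.pLayer 2 CQ, Cfsg.oddCore CQ⁆ = ⊥ := by
    have h1 := hB (π xX) hxb
    have h0 : Cfsg.oddCore (↥X ⧸ O) = ⊥ := CfsgLib.PCore.pPrimeCore_quotient_pPrimeCore
    rw [h0, le_bot_iff] at h1
    exact (Subgroup.map_eq_bot_iff_of_injective _ CQ.subtype_injective).mp h1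
  have hMc : Cfsg.IsComponent M := ⟨hMsub, quasisimple_image hJ f hf hker fun w hw h =>
    Subtype.ext (commute_of_commutator_eq_bot hbot (hMlayer h.2) (hWM w hw))⟩
  have heq : (((J.map (Subgroup.subtype _)).subgroupOf X).map π).subgroupOf CQ = M := by
    ext q
    constructor
    · rintro ⟨j, ⟨d, hd, hdj⟩, hjq⟩
      refine ⟨ι d, ⟨d, hd, rfl⟩, Subtype.ext ?_⟩
      refine Eq.trans ?_ hjq
      exact congrArg π (Subtype.ext hdj)
    · rintro ⟨_, ⟨d, hd, rfl⟩, rfl⟩
      exact ⟨⟨(d : G), hDy d.2⟩, ⟨d, hd, rfl⟩, rfl⟩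
  refine ⟨heq ▸ hMc, fun E hE hEodd hEn => ?_⟩
  let toX : D →* X := { toFun := fun d => ⟨(d : G), hDy d.2⟩, map_one' := rfl, map_mul' := fun _ _ => rfl }
  set EX : Subgroup CX := (E.subgroupOf X).subgroupOf CX with hEX
  set EQ := EX.map φ with hEQ
  have hMn : M ≤ Subgroup.normalizer (EQ : Set CQ) := by
    refine Subgroup.le_normalizer_iff.mpr ?_
    rintro _ ⟨_, ⟨d, hd, rfl⟩, rfl⟩ _ ⟨e, he, rfl⟩
    refine ⟨ι d * e * (ι d)⁻¹, ?_, by simp only [map_mul, map_inv]⟩
    exact hEn _ ⟨d, hd, rfl⟩ _ he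
  have hEQodd : (Nat.card EQ).Coprime 2 := by
    refine Nat.Coprime.coprime_dvd_left (Subgroup.card_map_dvd _ _) ?_
    refine Nat.Coprime.coprime_dvd_left ?_ (Nat.coprime_two_right.mpr hEodd)
    exact (Subgroup.card_comap_dvd_of_injective _ CX.subtype CX.subtype_injective).trans
      (Subgroup.card_comap_dvd_of_injective _ X.subtype X.subtype_injective)
  have hcomm : ⁅M, EQ⁆ = ⊥ := by
    set H := M ⊔ EQ with hH
    have hMH : M ≤ H := le_sup_left
    have hEH : EQ ≤ H := le_sup_right
    have hEHn : (EQ.subgroupOf H).Normal :=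
      (Subgroup.normal_subgroupOf_iff_le_normalizer hEH).mpr (sup_le hMn Subgroup.le_normalizer)
    rcases le_or_commutator_eq_bot (isComponent_subgroupOf hMc hMH) hEHn.isSubnormal with h | h
    · exfalso
      have hle : M ≤ EQ := le_of_subgroupOf_le hMH h
      have h2 : 2 ∣ Nat.card EQ := (even_card_image hJ f hf hker).trans (Subgroup.card_dvd_of_le hle)
      exact absurd (Nat.eq_one_of_dvd_coprimes hEQodd h2 dvd_rfl) (by norm_num)
    · exact (commutator_subgroupOf_eq_bot_iff hMH hEH).mp h
  rw [Subgroup.commutator_le]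
  rintro _ ⟨d, hd, rfl⟩ e he
  have heX : e ∈ X := (hE he).2
  have hec : (⟨e, heX⟩ : X) ∈ CX :=
    Subgroup.mem_centralizer_singleton_iff.mpr (Subtype.ext (Subgroup.mem_centralizer_singleton_iff.mp (hE he).1))
  refine ⟨((⁅ι d, (⟨⟨e, heX⟩, hec⟩ : CX)⁆ : CX) : X), (QuotientGroup.eq_one_iff _).mp ?_, by
    simp [commutatorElement_def, ι]⟩
  have hz : ⁅φ (ι d), φ ⟨⟨e, heX⟩, hec⟩⁆ = 1 :=
    commutatorElement_eq_one_iff_mul_comm.mpr
      (commute_of_commutator_eq_bot hcomm ⟨_, ⟨d, hd, rfl⟩, rfl⟩ ⟨_, he, rfl⟩)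
  rw [← map_commutatorElement] at hz
  exact congrArg Subtype.val hz



/-- Let G be a finite group whose generalized Fitting subgroup is a non-abelian simple group and in which every proper section (every quotient H/N of a proper subgroup H, or of G by a nontrivial normal subgroup) has the B-property. Let x, y be commuting involutions, let D be the intersection of the 2-layer of C_G(x) with C_G(y), and let J be a 2-component of D. Write Q for the quotient of C_G(y) by its largest normal odd-order subgroup. Then (i) the image of J in Q is a component of the centralizer in Q of the image of x; and (ii) for every J-invariant subgroup E of odd order of C_G(x) ∩ C_G(y), the commutator subgroup [J, E] lies in the largest normal odd-order subgroup of C_G(y). -/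
theorem result {G : Type*} [Group G] [Finite G]
    (hF : IsSimpleGroup ↥(Cfsg.generalizedFittingSubgroup G)) (hF' : ¬ IsMulCommutative ↥(Cfsg.generalizedFittingSubgroup G))
    (hsec : ∀ (H : Subgroup G) (N : Subgroup ↥H) [N.Normal], (H ≠ ⊤ ∨ N ≠ ⊥) → Cfsg.HasBProperty (↥H ⧸ N))
    (x y : G) (hx : orderOf x = 2) (hy : orderOf y = 2) (hxy : x * y = y * x)
    (J : Subgroup ↥((Cfsg.pLayer 2 ↥(Subgroup.centralizer ({x} : Set G))).map (Subgroup.centralizer ({x} : Set G)).subtype ⊓ Subgroup.centralizer ({y} : Set G)))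
    (hJ : Cfsg.IsPComponent 2 J) :
    Cfsg.IsComponent
        ((((J.map (Subgroup.subtype _)).subgroupOf (Subgroup.centralizer ({y} : Set G))).map (QuotientGroup.mk' (Cfsg.oddCore ↥(Subgroup.centralizer ({y} : Set G))))).subgroupOf
          (Subgroup.centralizer ({(QuotientGroup.mk' (Cfsg.oddCore ↥(Subgroup.centralizer ({y} : Set G))) ⟨x, Subgroup.mem_centralizer_singleton_iff.mpr hxy⟩ : ↥(Subgroup.centralizer ({y} : Set G)) ⧸ Cfsg.oddCore ↥(Subgroup.centralizer ({y} : Set G)))} : Set _))) ∧
      ∀ E : Subgroup G, E ≤ Subgroup.centralizer ({x} : Set G) ⊓ Subgroup.centralizer ({y} : Set G) → Odd (Nat.card ↥E) →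
        (∀ j ∈ J.map (Subgroup.subtype _), ∀ e ∈ E, j * e * j⁻¹ ∈ E) →
          ⁅J.map (Subgroup.subtype _), E⁆ ≤ (Cfsg.oddCore ↥(Subgroup.centralizer ({y} : Set G))).map (Subgroup.centralizer ({y} : Set G)).subtype := by
  haveI : Fact (Nat.Prime 2) := ⟨Nat.prime_two⟩
  have hXtop : (Subgroup.centralizer ({y} : Set G)) ≠ ⊤ := by
    intro e
    have hG : Cfsg.generalizedFittingSubgroup G ≠ ⊥ := by
      intro e0
      haveI := hF
      have hnt : Nontrivial ↥(Cfsg.generalizedFittingSubgroup G) := inferInstance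
      exact (Subgroup.nontrivial_iff_ne_bot _).mp hnt e0
    have hyC : y ∈ Subgroup.centralizer (Cfsg.generalizedFittingSubgroup G : Set G) :=
      Subgroup.mem_centralizer_iff.mpr fun g _ =>
        Subgroup.mem_centralizer_singleton_iff.mp (e ▸ Subgroup.mem_top g : g ∈ Subgroup.centralizer ({y} : Set G))
    have hyF := centralizer_generalizedFitting_le hyC
    have hne : y ≠ 1 := fun e1 => by simp [e1] at hy
    have hcen : (⟨y, hyF⟩ : Cfsg.generalizedFittingSubgroup G) ∈
        Subgroup.center ↥(Cfsg.generalizedFittingSubgroup G) := by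
      rw [Subgroup.mem_center_iff]
      exact fun g => Subtype.ext (Subgroup.mem_centralizer_iff.mp hyC _ g.2)
    haveI := hF
    rcases (inferInstance : (Subgroup.center ↥(Cfsg.generalizedFittingSubgroup G)).Normal).eq_bot_or_eq_top with h | h
    · rw [h, Subgroup.mem_bot] at hcen
      exact hne (congrArg Subtype.val hcen)
    · exact hF' (Subgroup.center_eq_top_iff.mp h)
  refine main x y hx hxy (hsec _ _ (Or.inl hXtop)) _ (inf_le_left.trans (Subgroup.map_subtype_le _)) inf_le_right ?_ J hJ
  rintro c hc hcy d ⟨⟨l, hl, rfl⟩, hdy⟩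
  have hLn : (Cfsg.pLayer 2 ↥(Subgroup.centralizer ({x} : Set G))).Normal := CfsgLib.Components39.pLayer_normal_inst
  exact Subgroup.mem_inf.mpr ⟨⟨_, hLn.conj_mem l hl ⟨c, hc⟩, rfl⟩,
    Subgroup.mul_mem _ (Subgroup.mul_mem _ hcy hdy) (Subgroup.inv_mem _ hcy)⟩


end Cfsg.Agent.S1775
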