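import Cfsg.Statements.S1780
-- import your own Cfsg.Agent.* helpers here

set_option autoImplicit false
open Cfsg

namespace Cfsg.Agent.S1780

/-- Let A be a finite abelian 2-group and t an automorphism of A whose order is a power of 2. If every element of A fixed by t² is fixed by t, then t fixes every element of A. -/
theorem result {A : Type*} [CommGroup A] [Finite A]
    (hA : IsPGroup 2 A) (t : MulAut A) (ht : ∃ k : ℕ, orderOf t = 2 ^ k) (hC : ∀ a : A, t (t a) = a → t a = a) :
    ∀ a : A, t a = a := by
  obtain ⟨k, hk⟩ := ht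
  -- φ a = t a / a
  let φ : A →* A :=
    { toFun := fun a => t a / a
      map_one' := by simp
      map_mul' := fun a b => by simp [map_mul, mul_div_mul_comm] }
  have hφ : ∀ a, φ a = t a / a := fun _ => rfl
  -- the kernel of the square of φ is the kernel of φ
  have key : ∀ j : ℕ, ∀ a : A, t (t a / a) = t a / a → (t a / a) ^ (2 ^ j) = 1 → t a = a := by
    intro j
    induction j with
    | zero => intro a _ h2; simpa [div_eq_one] using h2
    | succ j ih =>
      intro a h1 h2
      have e2 : t (a ^ 2) / a ^ 2 = (t a / a) ^ 2 := by rw [map_pow, div_pow]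
      have hsq : t (a ^ 2) = a ^ 2 := by
        refine ih (a ^ 2) ?_ ?_
        · rw [e2, map_pow, h1]
        · rw [e2, ← pow_mul, ← pow_succ']; exact h2
      have h3 : (t a / a) ^ 2 = 1 := by rw [← e2, hsq, div_self']
      refine hC a ?_
      have h4 : t (t a) = (t a / a) * t a := by
        rw [map_div, div_eq_iff_eq_mul] at h1; exact h1
      calc t (t a) = (t a / a) * ((t a / a) * a) := by rw [h4, div_mul_cancel]
        _ = a := by rw [← mul_assoc, ← pow_two, h3, one_mul]
  have key' : ∀ b ∈ φ.range, t b = b → b = 1 := by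
    rintro b ⟨a, rfl⟩ hb
    obtain ⟨j, hj⟩ := hA (φ a)
    have := key j a hb hj
    simp [hφ, this]
  have hrange : φ.range = ⊥ := by
    by_contra hne
    have hmem : ∀ b : A, b ∈ φ.range → t b ∈ φ.range := by
      rintro b ⟨a, rfl⟩
      exact ⟨t a, by simp [hφ, map_div]⟩
    let τ : ↥φ.range → ↥φ.range := fun b => ⟨t b, hmem b b.2⟩
    have hτinj : Function.Injective τ := fun b c h => Subtype.ext (t.injective (congrArg Subtype.val h))
    let σ : Equiv.Perm ↥φ.range := Equiv.ofBijective τ (Finite.injective_iff_bijective.mp hτinj)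
    have hpow : ∀ (n : ℕ) (b : ↥φ.range), (((σ ^ n) b : ↥φ.range) : A) = (t ^ n : MulAut A) b := by
      intro n
      induction n with
      | zero => intro b; simp
      | succ n ih =>
        intro b
        rw [pow_succ', pow_succ', Equiv.Perm.mul_apply, MulAut.mul_apply, ← ih b]
        rfl
    have hσ : σ ^ 2 ^ k = 1 := by
      ext b
      rw [hpow, ← hk, pow_orderOf_eq_one]; rfl
    have : Fintype ↥φ.range := Fintype.ofFinite _
    have hdvd : 2 ∣ Fintype.card ↥φ.range := by
      haveI : Nontrivial ↥φ.range := (Subgroup.nontrivial_iff_ne_bot _).mpr hne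
      rw [← Nat.card_eq_fintype_card]
      exact (hA.to_subgroup φ.range).card_eq_or_dvd.resolve_left Finite.one_lt_card.ne'
    obtain ⟨b, hb, hb1⟩ := Equiv.Perm.exists_fixed_point_of_prime' (p := 2) hdvd hσ
      (a := 1) (Subtype.ext (map_one t))
    exact hb1 (Subtype.ext (key' b b.2 (congrArg Subtype.val hb)))
  intro a
  have : φ a ∈ φ.range := ⟨a, rfl⟩
  rw [hrange, Subgroup.mem_bot] at this
  exact div_eq_one.mp this

end Cfsg.Agent.S1780
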