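import Cfsg.Statements.S1781
import Cfsg.Agent.Lib.Classif.TISets
import Cfsg.Agent.S1780

set_option autoImplicit false
open Cfsg

namespace Cfsg.Agent.S1781

/-- Let A be an abelian 2-subgroup of the finite group G such that every conjugate of A equals A or meets A trivially, and let g ∈ G with g A g⁻¹ ≠ A. Then either the subgroup of those elements of A that normalize g A g⁻¹ is an elementary abelian 2-group, or A and g A g⁻¹ commute elementwise. -/
theorem result {G : Type*} [Group G] [Finite G] (A : Subgroup G)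
    (hA2 : IsPGroup 2 ↥A) (hAa : IsMulCommutative ↥A)
    (hti : ∀ h : G, A.map (MulAut.conj h).toMonoidHom = A ∨ A.map (MulAut.conj h).toMonoidHom ⊓ A = ⊥)
    (g : G) (hg : A.map (MulAut.conj g).toMonoidHom ≠ A) :
    Cfsg.IsElementaryAbelian 2 (A ⊓ Subgroup.normalizer ((A.map (MulAut.conj g).toMonoidHom : Subgroup G) : Set G)) ∨
      ⁅A, A.map (MulAut.conj g).toMonoidHom⁆ = ⊥ := by
  haveI : Fact (Nat.Prime 2) := ⟨Nat.prime_two⟩
  set B := A.map (MulAut.conj g).toMonoidHom with hB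
  have hAB : A ⊓ B = ⊥ := by rw [inf_comm]; exact (hti g).resolve_left hg
  by_cases hel : ∀ n ∈ A ⊓ Subgroup.normalizer (B : Set G), n ^ 2 = 1
  · refine Or.inl ⟨?_, hel⟩
    rw [← Subgroup.le_centralizer_iff_isMulCommutative]
    exact (inf_le_left.trans (Subgroup.le_centralizer_iff_isMulCommutative.2 hAa)).trans
      (Subgroup.centralizer_le inf_le_left)
  refine Or.inr ?_
  push Not at hel
  obtain ⟨n, ⟨hnA, hnB⟩, hn2⟩ := hel
  have hBp : IsPGroup 2 ↥B := hA2.map _
  letI : CommGroup ↥B :=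
    { (inferInstance : Group ↥B) with
      mul_comm := (Subgroup.map_isMulCommutative A (MulAut.conj g).toMonoidHom).is_comm.comm }
  let t : MulAut ↥B :=
    { toFun := fun b => ⟨n * b * n⁻¹, (Subgroup.mem_normalizer_iff.1 hnB b).1 b.2⟩
      invFun := fun b => ⟨n⁻¹ * b * n, (Subgroup.mem_normalizer_iff''.1 hnB b).1 b.2⟩
      left_inv := fun b => Subtype.ext (by simp [mul_assoc])
      right_inv := fun b => Subtype.ext (by simp [mul_assoc])
      map_mul' := fun a b => Subtype.ext (by simp [mul_assoc]) }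
  have hpow : ∀ (k : ℕ) (b : ↥B), (((t ^ k : MulAut ↥B) b : ↥B) : G) = n ^ k * b * (n ^ k)⁻¹ := by
    intro k
    induction k with
    | zero => intro b; simp
    | succ k ih =>
      intro b
      rw [pow_succ', MulAut.mul_apply, pow_succ']
      show n * (((t ^ k : MulAut ↥B) b : ↥B) : G) * n⁻¹ = _
      rw [ih]; group
  obtain ⟨k, hk⟩ := hA2 ⟨n, hnA⟩
  have htk : t ^ 2 ^ k = 1 := by
    ext b
    have hn : n ^ 2 ^ k = 1 := by simpa using congrArg Subtype.val hk
    rw [hpow, hn]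
    simp
  have hord : ∃ j : ℕ, orderOf t = 2 ^ j := by
    obtain ⟨j, -, hj⟩ := (Nat.dvd_prime_pow Nat.prime_two).1 (orderOf_dvd_of_pow_eq_one htk)
    exact ⟨j, hj⟩
  have hfix := Cfsg.Agent.S1780.result hBp t hord (fun b hb => by
    apply Subtype.ext
    have h2 : n ^ 2 * b * (n ^ 2)⁻¹ = b := by
      rw [← hpow 2 b, pow_two, MulAut.mul_apply, hb]
    have hbA : (b : G) ∈ Subgroup.normalizer (A : Set G) :=
      CfsgLib.Classif.conjSub_eq_of_commute (hti b) (pow_mem hnA 2) hn2
        (mul_inv_eq_iff_eq_mul.1 h2).symm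
    have hmem : n * b * n⁻¹ * (b : G)⁻¹ ∈ A ⊓ B :=
      ⟨by
        have h4 := A.mul_mem hnA ((Subgroup.mem_normalizer_iff.1 hbA n⁻¹).1 (A.inv_mem hnA))
        simpa [mul_assoc] using h4,
      B.mul_mem ((Subgroup.mem_normalizer_iff.1 hnB b).1 b.2) (B.inv_mem b.2)⟩
    rw [hAB, Subgroup.mem_bot, mul_inv_eq_one] at hmem
    exact hmem)
  have hnc : ∀ b ∈ B, b * n = n * b := fun b hb => by
    have h : n * b * n⁻¹ = b := congrArg Subtype.val (hfix ⟨b, hb⟩)
    exact (mul_inv_eq_iff_eq_mul.1 h).symm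
  have hn1 : n ≠ 1 := fun h => hn2 (by rw [h, one_pow])
  have hBN : B ≤ Subgroup.normalizer (A : Set G) := fun b hb =>
    CfsgLib.Classif.conjSub_eq_of_commute (hti b) hnA hn1 (hnc b hb)
  refine CfsgLib.Classif.commutator_eq_bot_of_equal_order hA2 hBp
    (CfsgLib.Classif.card_conjSub A g).symm hBN hAB fun r _ => ?_
  have hmapB : CfsgLib.Classif.conjSub B r = (A.map (MulAut.conj (g⁻¹ * r * g)).toMonoidHom).map (MulAut.conj g).toMonoidHom := by
    rw [CfsgLib.Classif.conjSub, hB, Subgroup.map_map, Subgroup.map_map]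
    congr 1
    ext x
    simp [mul_assoc]
  rw [hmapB]
  refine (hti (g⁻¹ * r * g)).imp (fun h => by rw [h]) (fun h => ?_)
  rw [hB, ← Subgroup.map_inf _ _ _ (MulAut.conj g).injective, h, Subgroup.map_bot]

end Cfsg.Agent.S1781
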