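import Cfsg.Statements.S1782
import Cfsg.Agent.Lib.Classif.TISets

set_option autoImplicit false
open Cfsg

namespace Cfsg.Agent.S1782

section helpers

theorem frattini_eq_bot_of_sq {R : Type*} [Group R] [Finite R] (h : ∀ m : R, m ^ 2 = 1) :
    frattini R = ⊥ := by
  have hinv : ∀ m : R, m⁻¹ = m := fun m => inv_eq_of_mul_eq_one_left (by rw [← pow_two]; exact h m)
  have hcomm : ∀ a b : R, a * b = b * a := fun a b => by
    rw [← hinv (a * b), mul_inv_rev, hinv, hinv]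
  rw [eq_bot_iff]
  intro x hx
  by_contra hx1
  obtain ⟨H, hH⟩ := ({H : Subgroup R | x ∉ H}).toFinite.exists_maximal ⟨⊥, hx1⟩
  have hxH : x ∉ H := hH.prop
  have habove : ∀ y, y ∉ H → x ∈ H ⊔ Subgroup.zpowers y := by
    intro y hy
    by_contra hn
    exact hy (hH.le_of_ge hn le_sup_left (le_sup_right (a := H) (Subgroup.mem_zpowers y)))
  have hcoatom : IsCoatom H := by
    refine ⟨fun he => hxH (he ▸ Subgroup.mem_top x), fun K hK => ?_⟩
    have hxK : x ∈ K := by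
      by_contra hn
      exact hK.not_ge (hH.le_of_ge hn hK.le)
    refine top_le_iff.1 fun y _ => ?_
    by_cases hy : y ∈ H
    · exact hK.le hy
    haveI : H.Normal := ⟨fun n hn g => by rw [hcomm g n, mul_inv_cancel_right]; exact hn⟩
    obtain ⟨a, ha, b, hb, hab⟩ := Subgroup.mem_sup_of_normal_left.1 (habove y hy)
    obtain ⟨j, rfl⟩ := Subgroup.mem_zpowers_iff.1 hb
    obtain ⟨i, rfl⟩ | ⟨i, rfl⟩ := Int.even_or_odd j
    · rw [← two_mul, zpow_mul, zpow_ofNat, h, one_zpow, mul_one] at hab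
      exact absurd (hab ▸ ha) hxH
    · rw [zpow_add_one, zpow_mul, zpow_ofNat, h, one_zpow, one_mul] at hab
      rw [show y = a⁻¹ * x by rw [← hab, inv_mul_cancel_left]]
      exact K.mul_mem (K.inv_mem (hK.le ha)) hxK
  exact hxH (frattini_le_coatom hcoatom hx)

open CfsgLib.Classif
open Subgroup (normalizer)

variable {S : Type*} [Group S]

/-- A product of commuting elements from two trivially intersecting subgroups has the order of the
first, when the second is a conjugate of the first. -/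
theorem orderOf_comm_eq {R : Subgroup S} {r t : S} (hr : r ∈ R) (hdis : conjSub R t ⊓ R = ⊥)
    (hc : Commute (t * r * t⁻¹) r) : orderOf (t * r * t⁻¹ * r⁻¹) = orderOf r := by
  refine orderOf_eq_orderOf_iff.2 fun k => ?_
  rw [hc.inv_right.mul_pow, inv_pow, mul_inv_eq_one, conj_pow]
  constructor
  · intro h
    have hm : t * r ^ k * t⁻¹ ∈ R := by rw [h]; exact pow_mem hr k
    have : t * r ^ k * t⁻¹ ∈ conjSub R t ⊓ R := ⟨conj_mem_conjSub t (pow_mem hr k), hm⟩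
    rw [hdis, Subgroup.mem_bot] at this
    rw [← h]; exact this
  · intro h
    rw [h, mul_one, mul_inv_cancel]

theorem commute_conj_of_half {R : Subgroup S} {t : S} (h : ⁅R, conjSub R t⁆ = ⊥) {a b : S}
    (ha : a ∈ R) (hb : b ∈ R) : Commute (t * a * t⁻¹) b :=
  Subgroup.mem_centralizer_iff.1 (Subgroup.commutator_eq_bot_iff_le_centralizer.1 h hb) _
    (conj_mem_conjSub t ha)

theorem sq_eq_one_of_outside [Finite S] (hS : IsPGroup 2 S) {R T : Subgroup S}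
    (htiR : ∀ g, conjSub R g = R ∨ conjSub R g ⊓ R = ⊥) (htiT : ∀ g, conjSub T g = T ∨ conjSub T g ⊓ T = ⊥)
    (hhR : ∀ t ∈ T, t ∉ normalizer (R : Set S) → ⁅R, conjSub R t⁆ = ⊥)
    (hhT : ∀ r ∈ R, r ∉ normalizer (T : Set S) → ⁅T, conjSub T r⁆ = ⊥)
    {r t : S} (hr : r ∈ R) (ht : t ∈ T) (hrn : r ∉ normalizer (T : Set S))
    (htn : t ∉ normalizer (R : Set S)) : r ^ 2 = 1 := by
  haveI : Fact (Nat.Prime 2) := ⟨Nat.prime_two⟩
  set x := t * r * t⁻¹ * r⁻¹ with hx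
  have hc : Commute (t * r * t⁻¹) r := commute_conj_of_half (hhR t ht htn) hr hr
  have hox : orderOf x = orderOf r := orderOf_comm_eq hr ((htiR t).resolve_left fun h => htn (conjSub_eq_iff.1 h)) hc
  -- `x` commutes with `t`
  have htx : t * x * t⁻¹ = x := by
    have hc' : Commute (r * t⁻¹ * r⁻¹) t :=
      commute_conj_of_half (hhT r hr hrn) (inv_mem ht) ht
    have e : x = t * (r * t⁻¹ * r⁻¹) := by rw [hx]; group
    rw [e]
    calc t * (t * (r * t⁻¹ * r⁻¹)) * t⁻¹ = t * ((r * t⁻¹ * r⁻¹) * t) * t⁻¹ := by rw [hc'.eq]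
      _ = t * (r * t⁻¹ * r⁻¹) := by group
  have hsq : (t * t) * r * (t * t)⁻¹ * r⁻¹ = x * x := by
    calc (t * t) * r * (t * t)⁻¹ * r⁻¹ = (t * x * t⁻¹) * x := by rw [hx]; group
      _ = x * x := by rw [htx]
  by_cases htt : t * t ∈ normalizer (R : Set S)
  · have hmem : t * t * r * (t * t)⁻¹ * r⁻¹ ∈ R :=
      R.mul_mem ((Subgroup.mem_normalizer_iff.1 htt r).1 hr) (R.inv_mem hr)
    rw [hsq] at hmem
    have e : x * x = t * r ^ 2 * t⁻¹ * (r ^ 2)⁻¹ := by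
      rw [← pow_two, hx, hc.inv_right.mul_pow, conj_pow, inv_pow]
    rw [e] at hmem
    have h2 : t * r ^ 2 * t⁻¹ ∈ conjSub R t ⊓ R := ⟨conj_mem_conjSub t (pow_mem hr 2), by
      simpa using R.mul_mem hmem (pow_mem hr 2)⟩
    rw [(htiR t).resolve_left fun h => htn (conjSub_eq_iff.1 h), Subgroup.mem_bot, conj_eq_one_iff] at h2
    exact h2
  · exfalso
    have hc2 : Commute ((t * t) * r * (t * t)⁻¹) r :=
      commute_conj_of_half (hhR _ (T.mul_mem ht ht) htt) hr hr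
    have h2 := orderOf_comm_eq hr ((htiR (t * t)).resolve_left fun h => htt (conjSub_eq_iff.1 h)) hc2
    rw [hsq, ← hox, ← pow_two, orderOf_pow' x two_ne_zero] at h2
    have hne : r ≠ 1 := fun h => hrn (h ▸ (normalizer (T : Set S)).one_mem)
    obtain ⟨k, hk⟩ := IsPGroup.iff_orderOf.1 hS r
    rw [hox, hk] at h2
    rcases k with _ | k
    · exact hne (orderOf_eq_one_iff.1 (by rw [hk, pow_zero]))
    · rw [Nat.gcd_eq_right (dvd_pow_self 2 k.succ_ne_zero)] at h2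
      have : 0 < 2 ^ (k + 1) := pow_pos two_pos _
      omega

theorem exists_order_four [Finite S] (hS : IsPGroup 2 S) {R : Subgroup S} (hΦ : frattini ↥R ≠ ⊥) :
    ∃ n ∈ R, n ^ 2 ≠ 1 ∧ n ^ 2 * n ^ 2 = 1 := by
  haveI : Fact (Nat.Prime 2) := ⟨Nat.prime_two⟩
  obtain ⟨m, hm, hm2⟩ : ∃ m ∈ R, m ^ 2 ≠ 1 := by
    by_contra h
    push Not at h
    exact hΦ (frattini_eq_bot_of_sq (fun m : ↥R => Subtype.ext (h m m.2)))
  obtain ⟨k, hk⟩ := IsPGroup.iff_orderOf.1 hS m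
  rcases k with _ | _ | k
  · exact absurd (by rw [pow_zero, orderOf_eq_one_iff] at hk; rw [hk, one_pow]) hm2
  · exact absurd (by rw [zero_add, pow_one] at hk; rw [← hk, pow_orderOf_eq_one]) hm2
  refine ⟨m ^ 2 ^ k, R.pow_mem hm _, ?_, ?_⟩
  · rw [← pow_mul, ← pow_succ]
    intro h
    have := orderOf_dvd_of_pow_eq_one h
    rw [hk, Nat.pow_dvd_pow_iff_le_right (by norm_num)] at this
    omega
  · rw [← pow_add, ← pow_mul, show 2 ^ k * (2 + 2) = 2 ^ (k + 1 + 1) by ring, ← hk, pow_orderOf_eq_one]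

theorem pair_commute [Finite S] (hS : IsPGroup 2 S) {R T : Subgroup S} (hΦ : frattini ↥R ≠ ⊥)
    (hord : Nat.card ↥R = Nat.card ↥T) (hdis : R ⊓ T = ⊥)
    (htiR : ∀ g, conjSub R g = R ∨ conjSub R g ⊓ R = ⊥) (htiT : ∀ g, conjSub T g = T ∨ conjSub T g ⊓ T = ⊥)
    (hhR : ∀ t ∈ T, t ∉ normalizer (R : Set S) → ⁅R, conjSub R t⁆ = ⊥)
    (hhT : ∀ r ∈ R, r ∉ normalizer (T : Set S) → ⁅T, conjSub T r⁆ = ⊥) : ⁅R, T⁆ = ⊥ := by
  haveI : Fact (Nat.Prime 2) := ⟨Nat.prime_two⟩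
  by_cases hTR : T ≤ normalizer (R : Set S)
  · exact commutator_eq_bot_of_equal_order (hS.to_subgroup R) (hS.to_subgroup T) hord hTR hdis fun r _ => htiT r
  by_cases hRT : R ≤ normalizer (T : Set S)
  · rw [Subgroup.commutator_comm]
    exact commutator_eq_bot_of_equal_order (hS.to_subgroup T) (hS.to_subgroup R) hord.symm hRT
      (by rwa [inf_comm]) fun t _ => htiR t
  exfalso
  obtain ⟨t, ht, htn⟩ := SetLike.not_le_iff_exists.1 hTR
  obtain ⟨r₀, hr₀, hr₀n⟩ := SetLike.not_le_iff_exists.1 hRT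
  have hout : ∀ r ∈ R, r ∉ normalizer (T : Set S) → r ^ 2 = 1 := fun r hr hrn =>
    sq_eq_one_of_outside hS htiR htiT hhR hhT hr ht hrn htn
  obtain ⟨n, hn, hn2, hn4⟩ := exists_order_four hS hΦ
  have hnN : n ∈ normalizer (T : Set S) := by
    by_contra h
    exact hn2 (hout n hn h)
  have hinv : r₀ * n * r₀⁻¹ = n⁻¹ := by
    have h1 : (r₀ * n) ^ 2 = 1 := hout _ (R.mul_mem hr₀ hn) fun h =>
      hr₀n (by simpa using Subgroup.mul_mem _ h (Subgroup.inv_mem _ hnN))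
    have h2 : r₀⁻¹ = r₀ := inv_eq_of_mul_eq_one_left (by rw [← pow_two]; exact hout r₀ hr₀ hr₀n)
    rw [h2]
    calc r₀ * n * r₀ = (r₀ * n) ^ 2 * n⁻¹ := by rw [pow_two]; group
      _ = n⁻¹ := by rw [h1, one_mul]
  have hc : Commute (t * n * t⁻¹) n := commute_conj_of_half (hhR t ht htn) hn hn
  have hcr : Commute (t * n * t⁻¹) r₀ := commute_conj_of_half (hhR t ht htn) hn hr₀
  set w := t * n * t⁻¹ * n⁻¹ with hw
  have hwT : w ∈ T := by
    have := T.mul_mem ht ((Subgroup.mem_normalizer_iff.1 hnN t⁻¹).1 (T.inv_mem ht))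
    simpa [hw, mul_assoc] using this
  have hrw : r₀ * w * r₀⁻¹ = t * n * t⁻¹ * n := by
    calc r₀ * w * r₀⁻¹ = (r₀ * (t * n * t⁻¹) * r₀⁻¹) * (r₀ * n * r₀⁻¹)⁻¹ := by rw [hw]; group
      _ = t * n * t⁻¹ * n := by rw [hinv, inv_inv, ← hcr.eq, mul_inv_cancel_right]
  have hn2inv : (n⁻¹) ^ 2 = n ^ 2 := by
    rw [inv_pow, inv_eq_iff_mul_eq_one]; exact hn4
  have hsq : r₀ * w ^ 2 * r₀⁻¹ = w ^ 2 := by
    rw [← conj_pow, hrw, hc.mul_pow, hw, hc.inv_right.mul_pow, hn2inv]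
  have hmem : w ^ 2 ∈ conjSub T r₀ ⊓ T := ⟨by
    have := conj_mem_conjSub (R := T) r₀ (pow_mem hwT 2)
    rwa [hsq] at this, pow_mem hwT 2⟩
  rw [(htiT r₀).resolve_left fun h => hr₀n (conjSub_eq_iff.1 h), Subgroup.mem_bot, hw,
    hc.inv_right.mul_pow, hn2inv, conj_pow] at hmem
  have h2 : t * n ^ 2 * t⁻¹ ∈ conjSub R t ⊓ R := ⟨conj_mem_conjSub t (pow_mem hn 2), by
    rw [eq_inv_of_mul_eq_one_left hmem]; exact R.inv_mem (pow_mem hn 2)⟩
  rw [(htiR t).resolve_left fun h => htn (conjSub_eq_iff.1 h), Subgroup.mem_bot, conj_eq_one_iff] at h2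
  exact hn2 h2

end helpers

/-- Let S be a finite 2-group and Δ a set of subgroups of S closed under conjugation by S, all of the same order, each with nontrivial Frattini subgroup, and such that two distinct members of Δ meet trivially. Then any two distinct members of Δ commute elementwise. -/
theorem result {S : Type*} [Group S] [Finite S] (hS : IsPGroup 2 S)
    (Δ : Set (Subgroup S)) (hinv : ∀ s : S, ∀ R ∈ Δ, R.map (MulAut.conj s).toMonoidHom ∈ Δ)
    (hΦ : ∀ R ∈ Δ, frattini ↥R ≠ ⊥) (hord : ∀ R ∈ Δ, ∀ T ∈ Δ, Nat.card ↥R = Nat.card ↥T)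
    (hti : ∀ R ∈ Δ, ∀ T ∈ Δ, R = T ∨ R ⊓ T = ⊥) :
    ∀ R ∈ Δ, ∀ T ∈ Δ, R ≠ T → ⁅R, T⁆ = ⊥ := by
  haveI : Fact (Nat.Prime 2) := ⟨Nat.prime_two⟩
  suffices key : ∀ X : Subgroup S, ∀ R ∈ Δ, ∀ T ∈ Δ, R ≤ X → T ≤ X → R ≠ T → ⁅R, T⁆ = ⊥ from
    fun R hR T hT hne => key ⊤ R hR T hT le_top le_top hne
  intro X
  induction X using WellFoundedLT.induction with
  | _ X ih =>
    intro R hR T hT hRX hTX hne
    by_cases hY : R ⊔ T < X
    · exact ih _ hY R hR T hT le_sup_left le_sup_right hne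
    have hXeq : R ⊔ T = X := (sup_le hRX hTX).eq_or_lt.resolve_right hY
    -- the conjugates of `R` under `T` commute with `R`, and symmetrically
    have half : ∀ R₀ ∈ Δ, ∀ T₀ ∈ Δ, R₀ ⊔ T₀ = X → R₀ ≠ T₀ → ∀ t ∈ T₀,
        t ∉ Subgroup.normalizer (R₀ : Set S) → ⁅R₀, CfsgLib.Classif.conjSub R₀ t⁆ = ⊥ := by
      intro R₀ hR₀ T₀ hT₀ hX hne₀ t ht htn
      have hR₀X : R₀ ≤ X := hX ▸ le_sup_left
      have htX : t ∈ X := hX ▸ (le_sup_right (a := R₀) ht)
      have hlt : R₀ < X := by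
        refine hR₀X.lt_of_ne fun h => htn (Subgroup.le_normalizer ?_)
        rw [h]; exact htX
      haveI := (hS.to_subgroup X).isNilpotent
      obtain hX' | ⟨H, hH, hRH⟩ := eq_top_or_exists_le_coatom (R₀.subgroupOf X)
      · exact absurd (Subgroup.subgroupOf_eq_top.1 hX') hlt.not_ge
      haveI hn : H.Normal := Subgroup.NormalizerCondition.normal_of_coatom H Group.normalizerCondition_of_isNilpotent hH
      have hR₀H : R₀ ≤ H.map X.subtype := fun r hr => ⟨⟨r, hR₀X hr⟩, hRH hr, rfl⟩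
      have hHX : H.map X.subtype < X := by
        refine (Subgroup.map_subtype_le H).lt_of_ne fun h => hH.1 ?_
        apply Subgroup.map_injective X.subtype_injective
        rw [h, ← MonoidHom.range_eq_map, Subgroup.range_subtype]
      refine ih _ hHX R₀ hR₀ _ (hinv t R₀ hR₀) hR₀H ?_ fun h => htn (CfsgLib.Classif.conjSub_eq_iff.1 h.symm)
      rintro _ ⟨r, hr, rfl⟩
      exact ⟨⟨t, htX⟩ * ⟨r, hR₀X hr⟩ * ⟨t, htX⟩⁻¹, hn.conj_mem _ (hRH hr) _, rfl⟩
    exact pair_commute hS (hΦ R hR) (hord R hR T hT) ((hti R hR T hT).resolve_left hne)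
      (fun g => hti _ (hinv g R hR) R hR) (fun g => hti _ (hinv g T hT) T hT)
      (half R hR T hT hXeq hne) (half T hT R hR (by rw [sup_comm]; exact hXeq) hne.symm)

end Cfsg.Agent.S1782
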