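import Cfsg.Statements.S1783
import Cfsg.Agent.S1782
import Cfsg.Agent.Lib.PGroup.Frattini
import Cfsg.Agent.Lib.Components.FStar
import Cfsg.Agent.Lib.LocalEven.CharP
import Cfsg.Agent.Lib.Coprime.Commutator

set_option autoImplicit false
open Cfsg

namespace Cfsg.Agent.S1783

section helpers

variable {X : Type*} [Group X] [Finite X]

/-- S1782 inside a 2-subgroup `P`. -/
theorem commute_conjugates {P B : Subgroup X} (hP : IsPGroup 2 ↥P) (hB : IsMulCommutative ↥B)
    {b : X} (hb : b ∈ B) (hb2 : b ^ 2 ≠ 1)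
    (hti : ∀ h : X, B.map (MulAut.conj h).toMonoidHom = B ∨ B.map (MulAut.conj h).toMonoidHom ⊓ B = ⊥)
    (g : X) (hBP : B ≤ P) (hgP : B.map (MulAut.conj g).toMonoidHom ≤ P) :
    ⁅B.map (MulAut.conj g).toMonoidHom, B⁆ = ⊥ := by
  haveI : Fact (Nat.Prime 2) := ⟨Nat.prime_two⟩
  by_cases hne : B.map (MulAut.conj g).toMonoidHom = B
  · rw [hne, Subgroup.commutator_eq_bot_iff_le_centralizer]
    exact Subgroup.le_centralizer_iff_isMulCommutative.2 hB
  let Δ : Set (Subgroup ↥P) :=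
    {R | ∃ h : X, B.map (MulAut.conj h).toMonoidHom ≤ P ∧ R = (B.map (MulAut.conj h).toMonoidHom).subgroupOf P}
  have hB1 : B.map (MulAut.conj (1 : X)).toMonoidHom = B := by
    ext x; simp
  have hmem : ∀ h : X, B.map (MulAut.conj h).toMonoidHom ≤ P →
      (B.map (MulAut.conj h).toMonoidHom).subgroupOf P ∈ Δ := fun h hh => ⟨h, hh, rfl⟩
  have hres := Cfsg.Agent.S1782.result (S := ↥P) hP Δ ?_ ?_ ?_ ?_ _ (hmem g hgP) _ (hmem 1 (hB1.symm ▸ hBP)) ?_
  · have := congrArg (Subgroup.map P.subtype) hres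
    rwa [hB1, Subgroup.map_commutator, Subgroup.map_subgroupOf_eq_of_le hgP,
      Subgroup.map_subgroupOf_eq_of_le hBP, Subgroup.map_bot] at this
  · rintro s R ⟨h, hh, rfl⟩
    have hconj : B.map (MulAut.conj ((s : X) * h)).toMonoidHom =
        (B.map (MulAut.conj h).toMonoidHom).map (MulAut.conj (s : X)).toMonoidHom := by
      rw [Subgroup.map_map, map_mul]; rfl
    have hle : B.map (MulAut.conj ((s : X) * h)).toMonoidHom ≤ P := by
      rw [hconj]
      rintro _ ⟨y, hy, rfl⟩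
      exact P.mul_mem (P.mul_mem s.2 (hh hy)) (P.inv_mem s.2)
    refine ⟨(s : X) * h, hle, ?_⟩
    apply Subgroup.map_injective P.subtype_injective
    rw [Subgroup.map_subgroupOf_eq_of_le hle, hconj, Subgroup.map_map]
    conv_rhs => rw [← Subgroup.map_subgroupOf_eq_of_le hh, Subgroup.map_map]
    rfl
  · rintro R ⟨h, hh, rfl⟩ hbot
    let r : ↥((B.map (MulAut.conj h).toMonoidHom).subgroupOf P) :=
      ⟨⟨h * b * h⁻¹, hh ⟨b, hb, rfl⟩⟩, ⟨b, hb, rfl⟩⟩
    have h1 := CfsgLib.PGroup.pow_mem_frattini (p := 2) (hP.to_subgroup _) r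
    rw [hbot, Subgroup.mem_bot] at h1
    apply hb2
    have h2 : (h * b * h⁻¹) ^ 2 = 1 :=
      congrArg (fun z : ↥((B.map (MulAut.conj h).toMonoidHom).subgroupOf P) => ((z : ↥P) : X)) h1
    rwa [conj_pow, conj_eq_one_iff] at h2
  · rintro R ⟨h, hh, rfl⟩ T ⟨k, hk, rfl⟩
    rw [CfsgLib.Coprime.card_subgroupOf hh, CfsgLib.Coprime.card_subgroupOf hk,
      Subgroup.card_map_of_injective (MulAut.conj h).injective,
      Subgroup.card_map_of_injective (MulAut.conj k).injective]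
  · rintro R ⟨h, hh, rfl⟩ T ⟨k, hk, rfl⟩
    have hk2 : B.map (MulAut.conj h).toMonoidHom =
        (B.map (MulAut.conj (k⁻¹ * h)).toMonoidHom).map (MulAut.conj k).toMonoidHom := by
      rw [Subgroup.map_map]
      congr 1
      ext x; simp [mul_assoc]
    refine (hti (k⁻¹ * h)).imp (fun he => by rw [hk2, he]) fun he => ?_
    apply Subgroup.map_injective P.subtype_injective
    rw [Subgroup.map_bot, Subgroup.map_inf _ _ _ P.subtype_injective,
      Subgroup.map_subgroupOf_eq_of_le hh, Subgroup.map_subgroupOf_eq_of_le hk, hk2,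
      ← Subgroup.map_inf _ _ _ (MulAut.conj k).injective, he, Subgroup.map_bot]
  · intro heq
    have := congrArg (Subgroup.map P.subtype) heq
    rw [hB1, Subgroup.map_subgroupOf_eq_of_le hgP, Subgroup.map_subgroupOf_eq_of_le hBP] at this
    exact hne this

theorem sq_mem_pCore (hX : Cfsg.generalizedFittingSubgroup X = Cfsg.pCore 2 X) (A : Subgroup X)
    (hA2 : IsPGroup 2 ↥A) (hAa : IsMulCommutative ↥A)
    (hti : ∀ h : X, A.map (MulAut.conj h).toMonoidHom = A ∨ A.map (MulAut.conj h).toMonoidHom ⊓ A = ⊥)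
    {a : X} (ha : a ∈ A) : a ^ 2 ∈ Cfsg.pCore 2 X := by
  haveI : Fact (Nat.Prime 2) := ⟨Nat.prime_two⟩
  by_cases ha2 : a ^ 2 = 1
  · rw [ha2]; exact one_mem _
  set Q := Cfsg.pCore 2 X with hQ
  haveI hQn : Q.Normal := Cfsg.pCore_normal 2 X
  have hQp : IsPGroup 2 ↥Q := CfsgLib.PCore.pCore_isPGroup
  set Φ := (frattini ↥Q).map Q.subtype with hΦ
  haveI hΦn : Φ.Normal := inferInstance
  set K := (Subgroup.centralizer ((Q.map (QuotientGroup.mk' Φ) : Subgroup (X ⧸ Φ)) : Set (X ⧸ Φ))).comap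
    (QuotientGroup.mk' Φ) with hK
  have hKiff : ∀ x, x ∈ K ↔ ∀ q ∈ Q, x * q * x⁻¹ * q⁻¹ ∈ Φ := by
    intro x
    rw [hK, Subgroup.mem_comap, Subgroup.mem_centralizer_iff]
    constructor
    · intro h q hq
      rw [← QuotientGroup.eq_one_iff, ← QuotientGroup.mk'_apply, map_mul, map_mul, map_mul, map_inv,
        map_inv, ← h _ ⟨q, hq, rfl⟩]
      group
    · rintro h _ ⟨q, hq, rfl⟩
      have := h q hq
      rw [← QuotientGroup.eq_one_iff, ← QuotientGroup.mk'_apply, map_mul, map_mul, map_mul, map_inv,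
        map_inv, mul_inv_eq_one, mul_inv_eq_iff_eq_mul] at this
      exact this.symm
  haveI hQmap : (Q.map (QuotientGroup.mk' Φ)).Normal := hQn.map _ (QuotientGroup.mk'_surjective _)
  have hKn : K.Normal := Subgroup.Normal.comap inferInstance _
  have hKp : IsPGroup 2 ↥K := by
    refine CfsgLib.LocalEvenCharP.isPGroup_of_forall_coprime fun x hx hco => ?_
    have hxC : Subgroup.zpowers x ≤ Subgroup.centralizer (Q : Set X) := by
      refine CfsgLib.Coprime.le_centralizer_of_trivial_on_frattini (Subgroup.zpowers x) Q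
        (by rw [Subgroup.normalizer_eq_top_iff.2 hQn]; exact le_top) ?_ fun z hz k hk =>
          (hKiff z).1 (Subgroup.zpowers_le.2 hx hz) k hk
      obtain ⟨n, hn⟩ := IsPGroup.iff_card.1 (hQp.to_subgroup (frattini ↥Q))
      rw [Nat.card_zpowers, hn]
      exact Nat.Coprime.pow_right n hco
    exact CfsgLib.LocalEvenCharP.eq_one_of_coprime_of_mem hQp
      ((CfsgLib.Components.centralizer_pCore_le_of_generalizedFitting_eq hX) (hxC (Subgroup.mem_zpowers x))) hco
  refine CfsgLib.PCore.le_pCore hKn hKp ((hKiff _).2 fun q hq => ?_)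
  -- `A` and its conjugate under `q` commute
  have hPp : IsPGroup 2 ↥(A ⊔ Q) :=
    hA2.to_sup_of_normal_right' hQp (by rw [Subgroup.normalizer_eq_top_iff.2 hQn]; exact le_top)
  have hcomm := commute_conjugates hPp hAa ha ha2 hti q⁻¹ le_sup_left (by
    rintro _ ⟨y, hy, rfl⟩
    exact (A ⊔ Q).mul_mem ((A ⊔ Q).mul_mem (le_sup_right (a := A) (Q.inv_mem hq)) (le_sup_left (b := Q) hy))
      ((A ⊔ Q).inv_mem (le_sup_right (a := A) (Q.inv_mem hq))))
  set w := a * q * a⁻¹ * q⁻¹ with hw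
  have hwQ : w ∈ Q := Q.mul_mem (hQn.conj_mem q hq a) (Q.inv_mem hq)
  have hc : Commute (q⁻¹ * a⁻¹ * q⁻¹⁻¹) a :=
    (CfsgLib.Components.commute_of_commutator_eq_bot hcomm ⟨a⁻¹, A.inv_mem ha, rfl⟩ ha :)
  have hac : Commute (q * a * q⁻¹) a⁻¹ := by
    show (q * a * q⁻¹) * a⁻¹ = a⁻¹ * (q * a * q⁻¹)
    calc (q * a * q⁻¹) * a⁻¹ = q * (a * (q⁻¹ * a⁻¹ * q⁻¹⁻¹)) * q⁻¹ := by group
      _ = q * ((q⁻¹ * a⁻¹ * q⁻¹⁻¹) * a) * q⁻¹ := by rw [hc.eq]
      _ = a⁻¹ * (q * a * q⁻¹) := by group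
  have haw : a * w * a⁻¹ = w := by
    calc a * w * a⁻¹ = a * (a * ((q * a * q⁻¹)⁻¹ * a⁻¹)) := by rw [hw]; group
      _ = a * (a * (a⁻¹ * (q * a * q⁻¹)⁻¹)) := by rw [hac.inv_left.eq]
      _ = w := by rw [hw]; group
  have he : a ^ 2 * q * (a ^ 2)⁻¹ * q⁻¹ = w ^ 2 := by
    calc a ^ 2 * q * (a ^ 2)⁻¹ * q⁻¹ = (a * w * a⁻¹) * w := by rw [hw, pow_two]; group
      _ = w ^ 2 := by rw [haw, pow_two]
  rw [he]
  exact ⟨⟨w, hwQ⟩ ^ 2, CfsgLib.PGroup.pow_mem_frattini hQp _, rfl⟩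

end helpers

/-- Let X be a finite group whose generalized Fitting subgroup equals its largest normal 2-subgroup Q, and let A be an abelian 2-subgroup of X such that every conjugate of A equals A or meets A trivially. Let B be the subgroup generated by the squares of the elements of A. Then B lies in Q, and if B is not an elementary abelian 2-group then the normal closure of B in X is commutative. -/
theorem result {X : Type*} [Group X] [Finite X]
    (hX : Cfsg.generalizedFittingSubgroup X = Cfsg.pCore 2 X) (A : Subgroup X) (hA2 : IsPGroup 2 ↥A) (hAa : IsMulCommutative ↥A)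
    (hti : ∀ h : X, A.map (MulAut.conj h).toMonoidHom = A ∨ A.map (MulAut.conj h).toMonoidHom ⊓ A = ⊥) :
    Subgroup.closure ((fun a : X => a ^ 2) '' (A : Set X)) ≤ Cfsg.pCore 2 X ∧
      (¬ Cfsg.IsElementaryAbelian 2 (Subgroup.closure ((fun a : X => a ^ 2) '' (A : Set X))) →
        IsMulCommutative ↥(Subgroup.normalClosure ((fun a : X => a ^ 2) '' (A : Set X)))) := by
  haveI : Fact (Nat.Prime 2) := ⟨Nat.prime_two⟩
  set B := Subgroup.closure ((fun a : X => a ^ 2) '' (A : Set X)) with hB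
  have hBA : B ≤ A := (Subgroup.closure_le A).2 (by rintro _ ⟨a, ha, rfl⟩; exact A.pow_mem ha 2)
  have hBQ : B ≤ Cfsg.pCore 2 X :=
    (Subgroup.closure_le _).2 (by rintro _ ⟨a, ha, rfl⟩; exact sq_mem_pCore hX A hA2 hAa hti ha)
  refine ⟨hBQ, fun hne => ?_⟩
  have hBa : IsMulCommutative ↥B :=
    Subgroup.le_centralizer_iff_isMulCommutative.1
      (hBA.trans ((Subgroup.le_centralizer_iff_isMulCommutative.2 hAa).trans (Subgroup.centralizer_le hBA)))
  obtain ⟨b, hb, hb2⟩ : ∃ b ∈ B, b ^ 2 ≠ 1 := by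
    by_contra h
    push Not at h
    exact hne ⟨hBa, h⟩
  have hmapsq : ∀ h : X, A.map (MulAut.conj h).toMonoidHom = A → B.map (MulAut.conj h).toMonoidHom = B := by
    intro h hh
    rw [hB, MonoidHom.map_closure, ← Set.image_comp]
    congr 1
    conv_rhs => rw [← hh, Subgroup.coe_map, ← Set.image_comp]
    congr 1
    funext x
    exact map_pow (MulAut.conj h).toMonoidHom x 2
  have htiB : ∀ h : X, B.map (MulAut.conj h).toMonoidHom = B ∨ B.map (MulAut.conj h).toMonoidHom ⊓ B = ⊥ :=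
    fun h => (hti h).imp (hmapsq h) fun he =>
      le_bot_iff.1 ((inf_le_inf (Subgroup.map_mono hBA) hBA).trans he.le)
  have hQn : (Cfsg.pCore 2 X).Normal := Cfsg.pCore_normal 2 X
  have hconjQ : ∀ g : X, B.map (MulAut.conj g).toMonoidHom ≤ Cfsg.pCore 2 X := by
    rintro g _ ⟨y, hy, rfl⟩
    exact hQn.conj_mem y (hBQ hy) g
  have hgen : ∀ (S : Set X) (y z : X), y ∈ Group.conjugatesOfSet S → z ∈ Group.conjugatesOfSet S →
      S ⊆ (B : Set X) → y * z = z * y := by
    intro S y z hy hz hSB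
    obtain ⟨y₀, hy₀, hy'⟩ := Group.mem_conjugatesOfSet_iff.1 hy
    obtain ⟨z₀, hz₀, hz'⟩ := Group.mem_conjugatesOfSet_iff.1 hz
    obtain ⟨c, rfl⟩ := isConj_iff.1 hy'
    obtain ⟨d, rfl⟩ := isConj_iff.1 hz'
    have hc := commute_conjugates CfsgLib.PCore.pCore_isPGroup hBa hb hb2 htiB (d⁻¹ * c) hBQ (hconjQ _)
    have := CfsgLib.Components.commute_of_commutator_eq_bot hc (Subgroup.mem_map_of_mem _ (hSB hy₀)) (hSB hz₀)
    have h2 := congrArg (fun z => d * z * d⁻¹) this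
    simpa [mul_assoc] using h2
  rw [Subgroup.normalClosure]
  exact Subgroup.isMulCommutative_closure fun y hy z hz =>
    hgen _ y z hy hz (by rw [hB]; exact Subgroup.subset_closure)

end Cfsg.Agent.S1783
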