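import Cfsg.Statements.S1784
import Cfsg.Agent.Lib.PGroup.Extraspecial
import Cfsg.Agent.Lib.LargeExtra.Transport
import Cfsg.Agent.Lib.Components.FStar

set_option autoImplicit false
open Cfsg

namespace Cfsg.Agent.S1784

section helpers

open scoped commutatorElement

variable {P : Type*} [Group P] [Finite P]

theorem centralizer_card_bound (hE : Cfsg.IsExtraspecial 2 P) [Fact (Nat.Prime 2)] (H : Subgroup P) :
    Subgroup.center P ≤ H → Nat.card ↥(Subgroup.centralizer (H : Set P)) * Nat.card ↥H ≤ 2 * Nat.card P := by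
  induction H using WellFoundedGT.induction with
  | _ H ih =>
    intro hZ
    by_cases hH : H = ⊤
    · rw [hH, Subgroup.coe_top, Subgroup.centralizer_univ, hE.2, Subgroup.card_top]
    obtain ⟨g, hg⟩ : ∃ g, g ∉ H := by
      by_contra h
      push Not at h
      exact hH (top_le_iff.1 fun x _ => h x)
    have hn : Subgroup.zpowers g ≤ Subgroup.normalizer (H : Set P) := by
      rw [Subgroup.zpowers_le]
      refine Subgroup.mem_normalizer_fintype (S := (H : Set P)) fun x hx => ?_
      have h1 := hZ (CfsgLib.PGroup.extraspecial_comm_mem_center hE g x)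
      have := H.mul_mem h1 hx
      simpa [commutatorElement_def] using this
    set H' := H ⊔ Subgroup.zpowers g with hH'
    have hlt : H < H' := lt_of_le_of_ne le_sup_left fun h => hg (by rw [h]; exact le_sup_right (a := H) (Subgroup.mem_zpowers g))
    have hcard : Nat.card ↥H * 2 ≤ Nat.card ↥H' := by
      have h1 := Subgroup.card_dvd_of_le hlt.le
      obtain ⟨c, hc⟩ := h1
      have h2 : Nat.card ↥H < Nat.card ↥H' := by
        by_contra hcc
        exact hlt.ne (Subgroup.eq_of_le_of_card_ge hlt.le (not_lt.1 hcc))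
      rw [hc] at h2 ⊢
      rcases c with _ | _ | c
      · simp at h2
      · simp at h2
      · exact Nat.mul_le_mul_left _ (by omega)
    have := ih H' hlt (hZ.trans le_sup_left)
    set C := Subgroup.centralizer (H : Set P) with hC
    let f : ↥C →* ↥(Subgroup.center P) :=
      { toFun := fun c => ⟨⁅(c : P), g⁆, CfsgLib.PGroup.extraspecial_comm_mem_center hE _ _⟩
        map_one' := Subtype.ext (by simp [commutatorElement_def])
        map_mul' := fun a b => Subtype.ext (by
          simp [CfsgLib.PGroup.commutatorElement_mul_left_of_central _ _ _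
            (CfsgLib.PGroup.extraspecial_comm_mem_center hE _ _)]) }
    have hker : f.ker.map C.subtype ≤ Subgroup.centralizer (H' : Set P) := by
      rintro _ ⟨c, hc, rfl⟩
      have hcg : Subgroup.zpowers g ≤ Subgroup.centralizer ({(c : P)} : Set P) :=
        Subgroup.zpowers_le.2 (Subgroup.mem_centralizer_singleton_iff.2
          (commutatorElement_eq_one_iff_mul_comm.1 (congrArg Subtype.val hc)).symm)
      have hall : H' ≤ Subgroup.centralizer ({(c : P)} : Set P) := sup_le
        (fun h hh => Subgroup.mem_centralizer_singleton_iff.2 (Subgroup.mem_centralizer_iff.1 c.2 h hh)) hcg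
      exact Subgroup.mem_centralizer_iff.2 fun h hh => Subgroup.mem_centralizer_singleton_iff.1 (hall hh)
    have h3 : Nat.card ↥C ≤ 2 * Nat.card ↥(Subgroup.centralizer (H' : Set P)) := by
      rw [Subgroup.card_eq_card_quotient_mul_card_subgroup f.ker,
        Nat.card_congr (QuotientGroup.quotientKerEquivRange f).toEquiv]
      refine Nat.mul_le_mul ((Subgroup.card_le_card_group f.range).trans_eq hE.2) ?_
      rw [← Subgroup.card_map_of_injective C.subtype_injective]
      exact Subgroup.card_le_of_le hker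
    calc Nat.card ↥C * Nat.card ↥H ≤ (2 * Nat.card ↥(Subgroup.centralizer (H' : Set P))) * Nat.card ↥H :=
          Nat.mul_le_mul_right _ h3
      _ = Nat.card ↥(Subgroup.centralizer (H' : Set P)) * (Nat.card ↥H * 2) := by ring
      _ ≤ Nat.card ↥(Subgroup.centralizer (H' : Set P)) * Nat.card ↥H' := Nat.mul_le_mul_left _ hcard
      _ ≤ 2 * Nat.card P := this

theorem involutory_aut (hE : Cfsg.IsExtraspecial 2 P) (φ : P ≃* P) (hφ : ∀ q, φ (φ q) = q)
    (hne : ∃ q, φ q ≠ q) {Q₀ : Subgroup P} (hQ₀ : ∀ q, q ∈ Q₀ ↔ φ q * q⁻¹ ∈ Subgroup.center P) :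
    Subgroup.closure (Set.range fun q => φ q * q⁻¹) = Q₀ ⊓ Subgroup.centralizer (Q₀ : Set P) := by
  haveI : Fact (Nat.Prime 2) := ⟨Nat.prime_two⟩
  have hcomm := CfsgLib.PGroup.extraspecial_comm_mem_center hE
  have hZfix : ∀ w ∈ Subgroup.center P, φ w = w := by
    intro w hw
    by_cases h1 : w = 1
    · rw [h1, map_one]
    have hw' : φ w ∈ Subgroup.center P := by
      rw [Subgroup.mem_center_iff]
      intro a
      obtain ⟨b, rfl⟩ := φ.surjective a
      rw [← map_mul, ← map_mul, Subgroup.mem_center_iff.1 hw b]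
    rw [← CfsgLib.PGroup.extraspecial_zpowers_eq_center hE hw h1, Subgroup.mem_zpowers_iff] at hw'
    obtain ⟨n, hn⟩ := hw'
    rcases Int.even_or_odd n with ⟨k, rfl⟩ | ⟨k, rfl⟩
    · rw [← two_mul, zpow_mul, zpow_ofNat, CfsgLib.PGroup.extraspecial_center_pow_eq_one hE hw, one_zpow] at hn
      exact absurd (φ.injective (hn.symm.trans (map_one φ).symm)) h1
    · rw [zpow_add_one, zpow_mul, zpow_ofNat, CfsgLib.PGroup.extraspecial_center_pow_eq_one hE hw, one_zpow, one_mul] at hn
      exact hn.symm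
  set D := Subgroup.closure (Set.range fun q => φ q * q⁻¹) with hD
  have hgenD : ∀ q, φ q * q⁻¹ ∈ D := fun q => Subgroup.subset_closure ⟨q, rfl⟩
  have h1 : D ≤ Q₀ := by
    refine (Subgroup.closure_le _).2 ?_
    rintro _ ⟨q, rfl⟩
    refine (hQ₀ _).2 ?_
    have hinv : φ (φ q * q⁻¹) = (φ q * q⁻¹)⁻¹ := by
      rw [map_mul, map_inv, hφ, mul_inv_rev, inv_inv]
    show φ (φ q * q⁻¹) * (φ q * q⁻¹)⁻¹ ∈ Subgroup.center P
    rw [hinv, ← mul_inv_rev, ← pow_two]
    exact Subgroup.inv_mem _ (CfsgLib.PGroup.extraspecial_pow_mem_center hE _)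
  have h2 : D ≤ Subgroup.centralizer (Q₀ : Set P) := by
    refine (Subgroup.closure_le _).2 ?_
    rintro _ ⟨q, rfl⟩
    refine Subgroup.mem_centralizer_iff.2 fun r hr => ?_
    have hc : φ ⁅q, r⁆ = ⁅q, r⁆ := hZfix _ (hcomm q r)
    rw [map_commutatorElement] at hc
    have hw := (hQ₀ r).1 hr
    have e : φ r = (φ r * r⁻¹) * r := by group
    have hwc : ∀ x, x * (φ r * r⁻¹) = (φ r * r⁻¹) * x := fun x => Subgroup.mem_center_iff.1 hw x
    have h3 : ⁅φ q, φ r⁆ = ⁅φ q, r⁆ := by
      rw [e]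
      calc ⁅φ q, φ r * r⁻¹ * r⁆ = φ q * (φ r * r⁻¹) * r * (φ q)⁻¹ * r⁻¹ * (φ r * r⁻¹)⁻¹ := by
            rw [commutatorElement_def]; group
        _ = (φ r * r⁻¹) * ⁅φ q, r⁆ * (φ r * r⁻¹)⁻¹ := by
            rw [hwc (φ q), commutatorElement_def]; group
        _ = ⁅φ q, r⁆ := by rw [← hwc, mul_inv_cancel_right]
    have h4 : ⁅φ q * q⁻¹, r⁆ = 1 := by
      rw [CfsgLib.PGroup.commutatorElement_mul_left_of_central _ _ _ (hcomm _ _), ← h3, hc]
      have h5 : ⁅q, r⁆ * ⁅q⁻¹, r⁆ = 1 := by
        rw [← CfsgLib.PGroup.commutatorElement_mul_left_of_central _ _ _ (hcomm _ _), mul_inv_cancel,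
          commutatorElement_one_left]
      exact h5
    exact (commutatorElement_eq_one_iff_mul_comm.1 h4).symm
  refine le_antisymm (le_inf h1 h2) ?_
  have hZD : Subgroup.center P ≤ D := by
    haveI : D.Normal := by
      refine ⟨fun d hd g => ?_⟩
      have hle : D ≤ D.comap (MulAut.conj g).toMonoidHom := by
        refine (Subgroup.closure_le _).2 ?_
        rintro _ ⟨q, rfl⟩
        have := D.mul_mem (D.inv_mem (hgenD g)) (hgenD (g * q))
        have e : (φ g * g⁻¹)⁻¹ * (φ (g * q) * (g * q)⁻¹) = g * (φ q * q⁻¹) * g⁻¹ := by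
          rw [map_mul]; group
        rw [e] at this
        exact this
      exact hle hd
    refine CfsgLib.PGroup.extraspecial_center_le_of_normal hE D fun h => ?_
    obtain ⟨q, hq⟩ := hne
    refine hq (mul_inv_eq_one.1 ?_)
    have := hgenD q
    rwa [h, Subgroup.mem_bot] at this
  let f : P →* P ⧸ Subgroup.center P :=
    { toFun := fun q => QuotientGroup.mk (φ q * q⁻¹)
      map_one' := by simp
      map_mul' := fun a b => by
        have hab : ∀ x y : P, (QuotientGroup.mk (x * y) : P ⧸ Subgroup.center P) = QuotientGroup.mk (y * x) := by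
          intro x y
          rw [QuotientGroup.eq]
          have e : (x * y)⁻¹ * (y * x) = ⁅y⁻¹, x⁻¹⁆ := by rw [commutatorElement_def]; group
          rw [e]; exact hcomm _ _
        rw [map_mul, mul_inv_rev, show φ a * φ b * (b⁻¹ * a⁻¹) = φ a * ((φ b * b⁻¹) * a⁻¹) by group,
          QuotientGroup.mk_mul, hab, ← QuotientGroup.mk_mul, ← mul_assoc, QuotientGroup.mk_mul] }
  have hker : f.ker = Q₀ := by
    ext q
    rw [MonoidHom.mem_ker, hQ₀]
    exact QuotientGroup.eq_one_iff _
  have hrange : Nat.card ↥f.range * 2 ≤ Nat.card ↥D := by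
    have hle : f.range ≤ D.map (QuotientGroup.mk' (Subgroup.center P)) := by
      rintro _ ⟨q, rfl⟩; exact ⟨_, hgenD q, rfl⟩
    have h6 : Nat.card ↥(D.map (QuotientGroup.mk' (Subgroup.center P))) * 2 = Nat.card ↥D := by
      rw [← Subgroup.relIndex_ker, QuotientGroup.ker_mk', ← hE.2, mul_comm,
        ← Subgroup.relIndex_bot_left (Subgroup.center P), Subgroup.relIndex_mul_relIndex _ _ _ bot_le hZD,
        Subgroup.relIndex_bot_left]
    rw [← h6]
    exact Nat.mul_le_mul_right _ (Subgroup.card_le_of_le hle)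
  have hQZ : Subgroup.center P ≤ Q₀ := fun w hw => (hQ₀ w).2 (by rw [hZfix w hw, mul_inv_cancel]; exact one_mem _)
  have hb := centralizer_card_bound hE Q₀ hQZ
  have hcard : Nat.card P = Nat.card ↥f.range * Nat.card ↥Q₀ := by
    rw [Subgroup.card_eq_card_quotient_mul_card_subgroup f.ker,
      Nat.card_congr (QuotientGroup.quotientKerEquivRange f).toEquiv, hker]
  have hC : Nat.card ↥(Subgroup.centralizer (Q₀ : Set P)) ≤ Nat.card ↥D := by
    refine Nat.le_of_mul_le_mul_right (hb.trans ?_) (Nat.card_pos (α := ↥Q₀))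
    calc 2 * Nat.card P = (Nat.card ↥f.range * 2) * Nat.card ↥Q₀ := by rw [hcard]; ring
      _ ≤ Nat.card ↥D * Nat.card ↥Q₀ := Nat.mul_le_mul_right _ hrange
  exact inf_le_right.trans (Subgroup.eq_of_le_of_card_ge h2 hC).ge

theorem main {G : Type*} [Group G] [Finite G] (Q : Subgroup G) (hE : Cfsg.IsExtraspecial 2 ↥Q)
    {z α : G} (hz : z ∈ Q) (hz2 : orderOf z = 2) (hzc : ∀ q ∈ Q, q * z = z * q) (hα2 : α * α = 1)
    (hαN : α ∈ Subgroup.normalizer (Q : Set G)) (hne : α ∉ Subgroup.centralizer (Q : Set G))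
    {Q₀ : Subgroup G} (hQ₀ : ∀ q, q ∈ Q₀ ↔ q ∈ Q ∧ α * q * α⁻¹ * q⁻¹ ∈ Subgroup.zpowers z) :
    Subgroup.closure ((fun q : G => α * q * α⁻¹ * q⁻¹) '' (Q : Set G)) =
      (Subgroup.center ↥Q₀).map Q₀.subtype := by
  haveI : Fact (Nat.Prime 2) := ⟨Nat.prime_two⟩
  let φ : ↥Q ≃* ↥Q :=
    { toFun := fun q => ⟨α * q * α⁻¹, (Subgroup.mem_normalizer_iff.1 hαN q).1 q.2⟩
      invFun := fun q => ⟨α⁻¹ * q * α, (Subgroup.mem_normalizer_iff''.1 hαN q).1 q.2⟩
      left_inv := fun q => Subtype.ext (by simp [mul_assoc])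
      right_inv := fun q => Subtype.ext (by simp [mul_assoc])
      map_mul' := fun a b => Subtype.ext (by simp [mul_assoc]) }
  have hzc' : (⟨z, hz⟩ : ↥Q) ∈ Subgroup.center ↥Q :=
    Subgroup.mem_center_iff.2 fun q => Subtype.ext (hzc q q.2)
  have hzne : (⟨z, hz⟩ : ↥Q) ≠ 1 := fun h => by
    rw [← Subgroup.orderOf_mk z hz, h, orderOf_one] at hz2
    exact absurd hz2 (by norm_num)
  have hcen : (Subgroup.center ↥Q).map Q.subtype = Subgroup.zpowers z := by
    rw [← CfsgLib.PGroup.extraspecial_zpowers_eq_center hE hzc' hzne, MonoidHom.map_zpowers]; rfl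
  have hQ₀Q : Q₀ ≤ Q := fun q hq => ((hQ₀ q).1 hq).1
  have hαinv : α⁻¹ = α := inv_eq_of_mul_eq_one_left hα2
  have key := involutory_aut hE φ ?_ ?_ (Q₀ := Q₀.subgroupOf Q) ?_
  · have hk := congrArg (Subgroup.map Q.subtype) key
    rw [MonoidHom.map_closure, ← Set.range_comp] at hk
    have hset : Set.range (⇑Q.subtype ∘ fun q => φ q * q⁻¹) = (fun q : G => α * q * α⁻¹ * q⁻¹) '' (Q : Set G) := by
      ext x
      constructor
      · rintro ⟨q, rfl⟩; exact ⟨q, q.2, rfl⟩
      · rintro ⟨q, hq, rfl⟩; exact ⟨⟨q, hq⟩, rfl⟩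
    rw [hset] at hk
    rw [hk, CfsgLib.Components.map_center_subtype, Subgroup.map_inf _ _ _ Q.subtype_injective,
      Subgroup.map_subgroupOf_eq_of_le hQ₀Q]
    ext x
    constructor
    · rintro ⟨hx, ⟨y, hy, rfl⟩⟩
      exact ⟨hx, Subgroup.mem_centralizer_iff.2 fun r hr =>
        congrArg Subtype.val (Subgroup.mem_centralizer_iff.1 hy ⟨r, hQ₀Q hr⟩ hr)⟩
    · rintro ⟨hx, hxc⟩
      exact ⟨hx, ⟨x, hQ₀Q hx⟩, Subgroup.mem_centralizer_iff.2 fun r hr =>
        Subtype.ext (Subgroup.mem_centralizer_iff.1 hxc r hr), rfl⟩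
  · intro q
    apply Subtype.ext
    show α * (α * q * α⁻¹) * α⁻¹ = q
    calc α * (α * q * α⁻¹) * α⁻¹ = (α * α) * q * (α * α)⁻¹ := by group
      _ = q := by rw [hα2]; simp
  · by_contra h
    push Not at h
    refine hne (Subgroup.mem_centralizer_iff.2 fun q hq => ?_)
    exact (mul_inv_eq_iff_eq_mul.1 (congrArg Subtype.val (h ⟨q, hq⟩))).symm
  · intro q
    rw [Subgroup.mem_subgroupOf, hQ₀, ← hcen]
    constructor
    · rintro ⟨-, w, hw, hwe⟩
      rwa [show φ q * q⁻¹ = w from Subtype.ext hwe.symm]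
    · exact fun h => ⟨q.2, _, h, rfl⟩

end helpers

/-- Let G be a finite group and let z be an involution of G such that Q, the generalized Fitting subgroup of the centralizer C of z, is a 2-group of symplectic type (every characteristic abelian subgroup of Q is cyclic); suppose Q is extraspecial, and view Q inside G. Let α be an involution of C that is not in Q, and let Q₀ be the subgroup of those q ∈ Q whose commutator with α lies in the subgroup generated by z. Then (a) the subgroup generated by the commutators α q α⁻¹ q⁻¹, q ∈ Q, equals the centre of Q₀; and (b) if Q₀ is not contained in the product of the centralizer of α in Q with the subgroup generated by z, then some element of Q conjugates α to α z. -/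
theorem result {G : Type*} [Group G] [Finite G] (z : G) (hz : orderOf z = 2) (hQ : Cfsg.IsOfSymplecticType ↥(Cfsg.generalizedFittingSubgroup ↥(Subgroup.centralizer ({z} : Set G)))) (hE : Cfsg.IsExtraspecial 2 ↥(Cfsg.generalizedFittingSubgroup ↥(Subgroup.centralizer ({z} : Set G))))
    (α : G) (hα : orderOf α = 2) (hαC : α ∈ Subgroup.centralizer ({z} : Set G)) (hαQ : α ∉ (Cfsg.generalizedFittingSubgroup ↥(Subgroup.centralizer ({z} : Set G))).map (Subgroup.centralizer ({z} : Set G)).subtype)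
    (Q₀ : Subgroup G) (hQ₀ : ∀ q : G, q ∈ Q₀ ↔ (q ∈ (Cfsg.generalizedFittingSubgroup ↥(Subgroup.centralizer ({z} : Set G))).map (Subgroup.centralizer ({z} : Set G)).subtype ∧ α * q * α⁻¹ * q⁻¹ ∈ Subgroup.zpowers z)) :
    Subgroup.closure ((fun q : G => α * q * α⁻¹ * q⁻¹) '' ((Cfsg.generalizedFittingSubgroup ↥(Subgroup.centralizer ({z} : Set G))).map (Subgroup.centralizer ({z} : Set G)).subtype : Set G)) = (Subgroup.center ↥Q₀).map Q₀.subtype ∧
      (¬ Q₀ ≤ ((Cfsg.generalizedFittingSubgroup ↥(Subgroup.centralizer ({z} : Set G))).map (Subgroup.centralizer ({z} : Set G)).subtype ⊓ Subgroup.centralizer ({α} : Set G)) ⊔ Subgroup.zpowers z →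
        ∃ q ∈ (Cfsg.generalizedFittingSubgroup ↥(Subgroup.centralizer ({z} : Set G))).map (Subgroup.centralizer ({z} : Set G)).subtype, q * α * q⁻¹ = α * z) := by
  haveI : Fact (Nat.Prime 2) := ⟨Nat.prime_two⟩
  set C := Subgroup.centralizer ({z} : Set G) with hC
  set F := Cfsg.generalizedFittingSubgroup ↥C with hF
  set Q := F.map C.subtype with hQdef
  haveI hFn : F.Normal := CfsgLib.Components.generalizedFitting_normal
  have hzC : z ∈ C := Subgroup.mem_centralizer_singleton_iff.2 rfl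
  have hzF : (⟨z, hzC⟩ : ↥C) ∈ F := by
    refine CfsgLib.Components.centralizer_generalizedFitting_le (Subgroup.mem_centralizer_iff.2 fun c _ => ?_)
    exact Subtype.ext (Subgroup.mem_centralizer_singleton_iff.1 c.2)
  have hzQ : z ∈ Q := ⟨_, hzF, rfl⟩
  have hE' : Cfsg.IsExtraspecial 2 ↥Q :=
    CfsgLib.LargeExtra.isExtraspecial_of_equiv (F.equivMapOfInjective C.subtype C.subtype_injective) hE
  have hzc : ∀ q ∈ Q, q * z = z * q := fun q hq =>
    Subgroup.mem_centralizer_singleton_iff.1 (Subgroup.map_subtype_le _ hq)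
  have hα2 : α * α = 1 := by rw [← pow_two, ← hα, pow_orderOf_eq_one]
  have hαN : α ∈ Subgroup.normalizer (Q : Set G) := by
    refine Subgroup.le_normalizer_map C.subtype ⟨⟨α, hαC⟩, ?_, rfl⟩
    rw [Subgroup.normalizer_eq_top_iff.2 hFn]; trivial
  have hne : α ∉ Subgroup.centralizer (Q : Set G) := fun h => hαQ ⟨⟨α, hαC⟩,
    CfsgLib.Components.centralizer_generalizedFitting_le (Subgroup.mem_centralizer_iff.2 fun c hc =>
      Subtype.ext (Subgroup.mem_centralizer_iff.1 h c ⟨c, hc, rfl⟩)), rfl⟩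
  refine ⟨main Q hE' hzQ hz hzc hα2 hαN hne hQ₀, fun hnle => ?_⟩
  obtain ⟨q, hq, hqn⟩ := SetLike.not_le_iff_exists.1 hnle
  obtain ⟨hqQ, hqz⟩ := (hQ₀ q).1 hq
  refine ⟨q, hqQ, ?_⟩
  obtain ⟨n, hn⟩ := Subgroup.mem_zpowers_iff.1 hqz
  rw [← zpow_mod_orderOf, hz] at hn
  rcases Int.emod_two_eq_zero_or_one n with h0 | h1
  · exfalso
    rw [Nat.cast_ofNat, h0, zpow_zero, eq_comm, mul_inv_eq_one, mul_inv_eq_iff_eq_mul] at hn
    exact hqn (Subgroup.mem_sup_left ⟨hqQ, Subgroup.mem_centralizer_singleton_iff.2 hn.symm⟩)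
  · rw [Nat.cast_ofNat, h1, zpow_one] at hn
    have hαinv : α⁻¹ = α := inv_eq_of_mul_eq_one_left hα2
    calc q * α * q⁻¹ = α * (α * q * α * q⁻¹) := by
          rw [show α * (α * q * α * q⁻¹) = (α * α) * (q * α * q⁻¹) by group, hα2, one_mul]
      _ = α * z := by rw [hn, hαinv]

end Cfsg.Agent.S1784
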