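import Cfsg.Statements.S1785
import Cfsg.Agent.Lib.Components.Basic

set_option autoImplicit false
open Cfsg

namespace Cfsg.Agent.S1785

section helpers

variable {X : Type*} [Group X] [Finite X]

omit [Finite X] in
theorem elem_sup {A B : Subgroup X} (hA : Cfsg.IsElementaryAbelian 2 A) (hB : Cfsg.IsElementaryAbelian 2 B)
    (hc : ∀ a ∈ A, ∀ b ∈ B, a * b = b * a) : Cfsg.IsElementaryAbelian 2 (A ⊔ B) := by
  have hab : IsMulCommutative ↥(A ⊔ B) := by
    rw [show A ⊔ B = Subgroup.closure ((A : Set X) ∪ B) by rw [Subgroup.closure_union, Subgroup.closure_eq, Subgroup.closure_eq]]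
    refine Subgroup.isMulCommutative_closure ?_
    rintro a (ha | ha) b (hb | hb)
    · exact congrArg Subtype.val (hA.1.is_comm.comm ⟨a, ha⟩ ⟨b, hb⟩)
    · exact hc a ha b hb
    · exact (hc b hb a ha).symm
    · exact congrArg Subtype.val (hB.1.is_comm.comm ⟨a, ha⟩ ⟨b, hb⟩)
  refine ⟨hab, fun x hx => ?_⟩
  rw [show A ⊔ B = Subgroup.closure ((A : Set X) ∪ B) by rw [Subgroup.closure_union, Subgroup.closure_eq, Subgroup.closure_eq]] at hx hab
  refine Subgroup.closure_induction (p := fun x _ => x ^ 2 = 1) ?_ (one_pow 2) ?_ ?_ hx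
  · rintro a (ha | ha)
    · exact hA.2 a ha
    · exact hB.2 a ha
  · intro a b ha hb iha ihb
    have : Commute a b := congrArg Subtype.val (hab.is_comm.comm ⟨a, ha⟩ ⟨b, hb⟩)
    rw [this.mul_pow, iha, ihb, one_mul]
  · intro a _ iha
    rw [inv_pow, iha, inv_one]

omit [Finite X] in
theorem elem_mono {A B : Subgroup X} (hB : Cfsg.IsElementaryAbelian 2 B) (h : A ≤ B) :
    Cfsg.IsElementaryAbelian 2 A :=
  ⟨Subgroup.le_centralizer_iff_isMulCommutative.1
    (h.trans ((Subgroup.le_centralizer_iff_isMulCommutative.2 hB.1).trans (Subgroup.centralizer_le h))),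
    fun a ha => hB.2 a (h ha)⟩

omit [Finite X] in
theorem elem_zpowers {a : X} (ha : a ^ 2 = 1) : Cfsg.IsElementaryAbelian 2 (Subgroup.zpowers a) :=
  ⟨inferInstance, fun x hx => by
    obtain ⟨n, rfl⟩ := Subgroup.mem_zpowers_iff.1 hx
    rw [← zpow_natCast, ← zpow_mul, mul_comm, zpow_mul, zpow_natCast, ha, one_zpow]⟩

/-- An involution acting on an elementary abelian 2-group fixes at least the square root of it. -/
theorem card_fixed {U : Subgroup X} (hU : Cfsg.IsElementaryAbelian 2 U) {a : X} (ha : a ^ 2 = 1)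
    (haU : a ∈ Subgroup.normalizer (U : Set X)) :
    Nat.card ↥U ≤ Nat.card ↥(U ⊓ Subgroup.centralizer ({a} : Set X)) * Nat.card ↥(U ⊓ Subgroup.centralizer ({a} : Set X)) := by
  set K := U ⊓ Subgroup.centralizer ({a} : Set X) with hK
  have hcomm : ∀ u ∈ U, ∀ v ∈ U, u * v = v * u := fun u hu v hv =>
    congrArg Subtype.val (hU.1.is_comm.comm ⟨u, hu⟩ ⟨v, hv⟩)
  have hconj : ∀ u ∈ U, a * u * a⁻¹ ∈ U := fun u hu => (Subgroup.mem_normalizer_iff.1 haU u).1 hu
  let f : ↥U →* X :=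
    { toFun := fun u => a * u * a⁻¹ * (u : X)⁻¹
      map_one' := by simp
      map_mul' := fun u v => by
        show a * (u * v : X) * a⁻¹ * (u * v : X)⁻¹ = (a * u * a⁻¹ * (u : X)⁻¹) * (a * v * a⁻¹ * (v : X)⁻¹)
        have h1 := hcomm _ (hconj v v.2) (u : X)⁻¹ (U.inv_mem u.2)
        calc a * (u * v : X) * a⁻¹ * (u * v : X)⁻¹
            = a * u * a⁻¹ * (a * v * a⁻¹ * (v : X)⁻¹ * (u : X)⁻¹) := by group
          _ = a * u * a⁻¹ * ((u : X)⁻¹ * (a * v * a⁻¹ * (v : X)⁻¹)) := by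
              rw [hcomm _ (U.mul_mem (hconj v v.2) (U.inv_mem v.2)) _ (U.inv_mem u.2)]
          _ = _ := by group }
  have hrange : f.range ≤ K := by
    rintro _ ⟨u, rfl⟩
    have hm : a * (u : X) * a⁻¹ * (u : X)⁻¹ ∈ U := U.mul_mem (hconj u u.2) (U.inv_mem u.2)
    refine ⟨hm, Subgroup.mem_centralizer_singleton_iff.2 ?_⟩
    have hai : a⁻¹ = a := inv_eq_of_mul_eq_one_left (by rw [← pow_two]; exact ha)
    have e : a * (a * u * a⁻¹ * (u : X)⁻¹) * a⁻¹ = (a * u * a⁻¹ * (u : X)⁻¹)⁻¹ := by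
      calc a * (a * u * a⁻¹ * (u : X)⁻¹) * a⁻¹ = (a * a) * u * a⁻¹ * (u : X)⁻¹ * a⁻¹ := by group
        _ = (a * u * a⁻¹ * (u : X)⁻¹)⁻¹ := by
            rw [← pow_two, ha, mul_inv_rev, mul_inv_rev, mul_inv_rev, inv_inv, inv_inv, one_mul, hai]; group
    have e2 : (a * u * a⁻¹ * (u : X)⁻¹)⁻¹ = a * u * a⁻¹ * (u : X)⁻¹ :=
      inv_eq_of_mul_eq_one_left (by rw [← pow_two]; exact hU.2 _ hm)
    rw [e2, mul_inv_eq_iff_eq_mul] at e
    exact e.symm
  have hker : f.ker.map U.subtype ≤ K := by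
    rintro _ ⟨u, hu, rfl⟩
    refine ⟨u.2, Subgroup.mem_centralizer_singleton_iff.2 ?_⟩
    have : a * (u : X) * a⁻¹ * (u : X)⁻¹ = 1 := hu
    rw [mul_inv_eq_one, mul_inv_eq_iff_eq_mul] at this
    exact this.symm
  rw [Subgroup.card_eq_card_quotient_mul_card_subgroup f.ker,
    Nat.card_congr (QuotientGroup.quotientKerEquivRange f).toEquiv,
    ← Subgroup.card_map_of_injective (K := f.ker) U.subtype_injective]
  exact Nat.mul_le_mul (Subgroup.card_le_of_le hrange) (Subgroup.card_le_of_le hker)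

omit [Finite X] in
theorem sq_bound {n k : ℕ} (h : 2 ^ k < n * n) {m : ℕ} (hn : n = 2 ^ m) : k + 1 ≤ 2 * m := by
  subst hn
  rw [← pow_add] at h
  have := (Nat.pow_lt_pow_iff_right (by norm_num)).1 h
  omega

theorem exists_between (hX : IsPGroup 2 X) {U W : Subgroup X} (hW : Cfsg.IsElementaryAbelian 2 W)
    (hUW : U ≤ W) (hU : Nat.card ↥U ≤ 8) (hW8 : 8 ≤ Nat.card ↥W) :
    ∃ B : Subgroup X, U ≤ B ∧ B ≤ W ∧ Cfsg.IsElementaryAbelian 2 B ∧ Nat.card ↥B = 8 := by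
  have : Fact (Nat.Prime 2) := ⟨Nat.prime_two⟩
  obtain ⟨a, ha⟩ := IsPGroup.iff_card.1 (hX.to_subgroup W)
  obtain ⟨b, hb⟩ := IsPGroup.iff_card.1 (hX.to_subgroup U)
  have h3a : 3 ≤ a := (Nat.pow_le_pow_iff_right (a := 2) (by norm_num)).1 (by rw [← ha]; exact hW8)
  have hb3 : b ≤ 3 := (Nat.pow_le_pow_iff_right (a := 2) (by norm_num)).1 (by rw [← hb]; exact hU)
  obtain ⟨K, hK, hUK⟩ := Sylow.exists_subgroup_card_pow_prime_le 2
    (show 2 ^ 3 ∣ Nat.card ↥W by rw [ha]; exact pow_dvd_pow 2 h3a) (U.subgroupOf W)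
    (by rw [Nat.card_congr (Subgroup.subgroupOfEquivOfLe hUW).toEquiv, hb]) hb3
  refine ⟨K.map W.subtype, ?_, Subgroup.map_subtype_le _, elem_mono hW (Subgroup.map_subtype_le _), ?_⟩
  · intro u hu
    exact ⟨⟨u, hUW hu⟩, hUK hu, rfl⟩
  · rw [Subgroup.card_map_of_injective W.subtype_injective, hK]; norm_num

theorem card_ge_eight (hX : IsPGroup 2 X) {U W : Subgroup X} (hU : 4 ≤ Nat.card ↥U) (h : U < W) :
    8 ≤ Nat.card ↥W := by
  have : Fact (Nat.Prime 2) := ⟨Nat.prime_two⟩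
  obtain ⟨a, ha⟩ := IsPGroup.iff_card.1 (hX.to_subgroup W)
  have h1 : Nat.card ↥U < Nat.card ↥W := by
    by_contra hc
    exact h.ne (Subgroup.eq_of_le_of_card_ge h.le (not_lt.1 hc))
  have h4 : (2 : ℕ) ^ 2 < 2 ^ a := by rw [← ha]; omega
  have := (Nat.pow_lt_pow_iff_right (by norm_num)).1 h4
  rw [ha]
  exact le_trans (by norm_num) (Nat.pow_le_pow_right (by norm_num) (show 3 ≤ a by omega))

/-- The part of `E` centralizing `U`. -/
abbrev CE (E U : Subgroup X) : Subgroup X := E ⊓ Subgroup.centralizer (U : Set X)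

variable {E : Subgroup X}

omit [Finite X] in
theorem ce_elem (hE : Cfsg.IsElementaryAbelian 2 E) (U : Subgroup X) : Cfsg.IsElementaryAbelian 2 (CE E U) :=
  elem_mono hE inf_le_left

omit [Finite X] in
theorem sup_ce_elem (hE : Cfsg.IsElementaryAbelian 2 E) {U : Subgroup X} (hU : Cfsg.IsElementaryAbelian 2 U) :
    Cfsg.IsElementaryAbelian 2 (U ⊔ CE E U) :=
  elem_sup hU (ce_elem hE U) fun u hu _ he => Subgroup.mem_centralizer_iff.1 he.2 u hu

theorem fix_bound [E.Normal] (hE : Cfsg.IsElementaryAbelian 2 E) (U : Subgroup X) {a : X} (ha : a ^ 2 = 1)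
    (hau : ∀ u ∈ U, a * u = u * a) :
    Nat.card ↥(CE E U) ≤ Nat.card ↥(CE E U ⊓ Subgroup.centralizer ({a} : Set X)) *
      Nat.card ↥(CE E U ⊓ Subgroup.centralizer ({a} : Set X)) := by
  refine card_fixed (ce_elem hE U) ha (Subgroup.mem_normalizer_fintype (S := ((CE E U : Subgroup X) : Set X)) ?_)
  rintro e ⟨heE, heU⟩
  refine ⟨(‹E.Normal›).conj_mem e heE a, Subgroup.mem_centralizer_iff.2 fun u hu => ?_⟩
  have h1 := Subgroup.mem_centralizer_iff.1 heU u hu
  have h2 : Commute a u := hau u hu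
  exact ((h2.symm.mul_right h1).mul_right h2.symm.inv_right).eq

theorem ce_sup_le (U : Subgroup X) (a : X) :
    CE E U ⊓ Subgroup.centralizer ({a} : Set X) ≤ CE E (U ⊔ Subgroup.zpowers a) := by
  intro e he
  refine ⟨he.1.1, Subgroup.mem_centralizer_iff.2 fun v hv => ?_⟩
  have hle : U ⊔ Subgroup.zpowers a ≤ Subgroup.centralizer ({e} : Set X) := sup_le
    (fun u hu => Subgroup.mem_centralizer_singleton_iff.2 (Subgroup.mem_centralizer_iff.1 he.1.2 u hu))
    (Subgroup.zpowers_le.2 (Subgroup.mem_centralizer_singleton_iff.2 (Subgroup.mem_centralizer_singleton_iff.1 he.2).symm))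
  exact Subgroup.mem_centralizer_singleton_iff.1 (hle hv)

theorem one_bound (hX : IsPGroup 2 X) [E.Normal] (hE : Cfsg.IsElementaryAbelian 2 E)
    (hE32 : 32 ≤ Nat.card ↥E) {a : X} (ha : a ^ 2 = 1) : 8 ≤ Nat.card ↥(CE E (Subgroup.zpowers a)) := by
  obtain ⟨m, hm⟩ := IsPGroup.iff_card.1 (hX.to_subgroup (CE E (Subgroup.zpowers a)))
  have h1 := card_fixed hE ha (Subgroup.mem_normalizer_fintype (S := (E : Set X))
    fun e he => (‹E.Normal›).conj_mem e he a)
  have heq : E ⊓ Subgroup.centralizer ({a} : Set X) = CE E (Subgroup.zpowers a) := by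
    show _ = E ⊓ _
    rw [Subgroup.zpowers_eq_closure, Subgroup.centralizer_closure]
  rw [heq] at h1
  have := sq_bound (k := 4) (lt_of_lt_of_le (lt_of_lt_of_le (by norm_num) hE32) h1) hm
  rw [hm]
  exact le_trans (by norm_num) (Nat.pow_le_pow_right (by norm_num) (show 3 ≤ m by omega))

theorem two_bound (hX : IsPGroup 2 X) [E.Normal] (hE : Cfsg.IsElementaryAbelian 2 E)
    (hE32 : 32 ≤ Nat.card ↥E) {V : Subgroup X} (hV : Cfsg.IsElementaryAbelian 2 V) (hV4 : Nat.card ↥V ≤ 4) :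
    4 ≤ Nat.card ↥(CE E V) := by
  have : Fact (Nat.Prime 2) := ⟨Nat.prime_two⟩
  by_cases hbot : V = ⊥
  · have : CE E V = E := le_antisymm inf_le_left (le_inf le_rfl fun x _ => Subgroup.mem_centralizer_iff.2
      fun h hh => by
        rw [hbot] at hh
        rw [Subgroup.mem_bot.1 hh, one_mul, mul_one])
    rw [this]; omega
  obtain ⟨⟨a, haV⟩, ha1⟩ := Subgroup.ne_bot_iff_exists_ne_one.1 hbot
  have ha1' : a ≠ 1 := fun h => ha1 (Subtype.ext h)
  obtain ⟨b, hbV, hgen⟩ : ∃ b ∈ V, V ≤ Subgroup.zpowers a ⊔ Subgroup.zpowers b := by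
    by_cases hall : V ≤ Subgroup.zpowers a
    · exact ⟨1, V.one_mem, hall.trans le_sup_left⟩
    obtain ⟨b, hbV, hb⟩ := SetLike.not_le_iff_exists.1 hall
    refine ⟨b, hbV, le_of_eq (Subgroup.eq_of_le_of_card_ge
      (sup_le (Subgroup.zpowers_le.2 haV) (Subgroup.zpowers_le.2 hbV)) ?_).symm⟩
    obtain ⟨m, hm⟩ := IsPGroup.iff_card.1 (hX.to_subgroup (Subgroup.zpowers a ⊔ Subgroup.zpowers b))
    have h2 : 2 ≤ Nat.card ↥(Subgroup.zpowers a) := by
      rw [Nat.card_zpowers, orderOf_eq_prime (hV.2 a haV) ha1']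
    have h3 : Nat.card ↥(Subgroup.zpowers a) < Nat.card ↥(Subgroup.zpowers a ⊔ Subgroup.zpowers b) := by
      by_contra hc
      have := Subgroup.eq_of_le_of_card_ge (le_sup_left (b := Subgroup.zpowers b)) (not_lt.1 hc)
      exact hb (this.ge ((le_sup_right (a := Subgroup.zpowers a)) (Subgroup.mem_zpowers b)))
    have h4 : (2 : ℕ) ^ 1 < 2 ^ m := by rw [← hm]; omega
    have := (Nat.pow_lt_pow_iff_right (by norm_num)).1 h4
    rw [hm]
    exact le_trans hV4 (le_trans (by norm_num) (Nat.pow_le_pow_right (by norm_num) (show 2 ≤ m by omega)))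
  obtain ⟨m, hm⟩ := IsPGroup.iff_card.1 (hX.to_subgroup (CE E V))
  have h1 := fix_bound hE (Subgroup.zpowers a) (hV.2 b hbV) fun u hu =>
    congrArg Subtype.val (hV.1.is_comm.comm ⟨b, hbV⟩ ⟨u, Subgroup.zpowers_le.2 haV hu⟩)
  have h2 : Nat.card ↥(CE E (Subgroup.zpowers a) ⊓ Subgroup.centralizer ({b} : Set X)) ≤ Nat.card ↥(CE E V) :=
    Subgroup.card_le_of_le ((ce_sup_le _ b).trans (inf_le_inf_left E (Subgroup.centralizer_le hgen)))
  have h8 := one_bound hX hE hE32 (hV.2 a haV)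
  have := sq_bound (k := 2) (lt_of_lt_of_le (lt_of_lt_of_le (by norm_num) (h8.trans h1)) (Nat.mul_le_mul h2 h2)) hm
  rw [hm]
  exact le_trans (by norm_num) (Nat.pow_le_pow_right (by norm_num) (show 2 ≤ m by omega))

theorem four_bound (hX : IsPGroup 2 X) [E.Normal] (hE : Cfsg.IsElementaryAbelian 2 E)
    (hE32 : 32 ≤ Nat.card ↥E) {V : Subgroup X} (hV : Cfsg.IsElementaryAbelian 2 V) (hV4 : Nat.card ↥V = 4) :
    8 ≤ Nat.card ↥(V ⊔ CE E V) := by
  refine card_ge_eight hX hV4.ge (lt_of_le_of_ne le_sup_left fun h => ?_)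
  have hVE : CE E V = V := Subgroup.eq_of_le_of_card_ge (le_sup_right.trans h.ge)
    (by rw [hV4]; exact two_bound hX hE hE32 hV hV4.le)
  have : CE E V = E := le_antisymm inf_le_left (le_inf le_rfl (Subgroup.le_centralizer_iff.1
    ((hVE.ge.trans inf_le_left).trans (Subgroup.le_centralizer_iff_isMulCommutative.2 hE.1))))
  have : Nat.card ↥E = 4 := by rw [← this, hVE, hV4]
  omega

/-- The commuting relation on elementary abelian subgroups of order 8. -/
abbrev Rel (C D : Subgroup X) : Prop := Cfsg.IsElementaryAbelian 2 C ∧ Nat.card ↥C = 8 ∧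
    Cfsg.IsElementaryAbelian 2 D ∧ Nat.card ↥D = 8 ∧ ⁅C, D⁆ = ⊥

omit [Finite X] in
theorem step {W C D : Subgroup X} (hW : Cfsg.IsElementaryAbelian 2 W) (hC : C ≤ W) (hC8 : Nat.card ↥C = 8)
    (hD : D ≤ W) (hD8 : Nat.card ↥D = 8) : Relation.ReflTransGen Rel C D :=
  .single ⟨elem_mono hW hC, hC8, elem_mono hW hD, hD8,
    Subgroup.commutator_eq_bot_iff_le_centralizer.2 ((hC.trans
      (Subgroup.le_centralizer_iff_isMulCommutative.2 hW.1)).trans (Subgroup.centralizer_le hD))⟩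

theorem exists_fixed (hX : IsPGroup 2 X) [E.Normal] (hE : Cfsg.IsElementaryAbelian 2 E)
    (hE32 : 32 ≤ Nat.card ↥E) {A : Subgroup X} (hA : Cfsg.IsElementaryAbelian 2 A) (hA8 : Nat.card ↥A = 8) :
    ∃ e ∈ CE E A, e ≠ 1 := by
  have : Fact (Nat.Prime 2) := ⟨Nat.prime_two⟩
  obtain ⟨V, hV4, -⟩ : ∃ V : Subgroup ↥A, Nat.card ↥V = 2 ^ 2 ∧ (⊥ : Subgroup ↥A) ≤ V :=
    Sylow.exists_subgroup_card_pow_prime_le 2 (by rw [hA8]; norm_num) ⊥ (n := 0) (by simp) (by norm_num)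
  obtain ⟨b, hbV⟩ : ∃ b, b ∉ V := by
    by_contra hh
    push Not at hh
    have hVt : V = ⊤ := top_le_iff.1 fun x _ => hh x
    rw [hVt, Subgroup.card_top, hA8] at hV4
    norm_num at hV4
  have hVel : Cfsg.IsElementaryAbelian 2 (V.map A.subtype) := elem_mono hA (Subgroup.map_subtype_le _)
  have hVcard : Nat.card ↥(V.map A.subtype) = 4 := by
    rw [Subgroup.card_map_of_injective A.subtype_injective, hV4]; norm_num
  have h1 := fix_bound hE (V.map A.subtype) (hA.2 _ b.2) fun u hu =>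
    congrArg Subtype.val (hA.1.is_comm.comm b ⟨u, Subgroup.map_subtype_le _ hu⟩)
  have h4 := two_bound hX hE hE32 hVel hVcard.le
  have hne : CE E (V.map A.subtype) ⊓ Subgroup.centralizer ({(b : X)} : Set X) ≠ ⊥ := fun hb => by
    rw [hb, Subgroup.card_bot] at h1; omega
  obtain ⟨⟨e, he⟩, he1⟩ := Subgroup.ne_bot_iff_exists_ne_one.1 hne
  refine ⟨e, inf_le_inf_left E (Subgroup.centralizer_le ?_) (ce_sup_le _ _ he), fun h => he1 (Subtype.ext h)⟩
  refine (Subgroup.eq_of_le_of_card_ge (sup_le (Subgroup.map_subtype_le _) (Subgroup.zpowers_le.2 b.2)) ?_).ge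
  rw [hA8]
  refine card_ge_eight hX hVcard.ge (lt_of_le_of_ne le_sup_left fun h => hbV ?_)
  obtain ⟨v, hv, hve⟩ := h.ge ((le_sup_right (a := V.map A.subtype)) (Subgroup.mem_zpowers (b : X)))
  rwa [← (Subtype.ext hve : v = b)]

theorem card_zpowers_sup_le {a : X} {K : Subgroup X} (h : ∀ k ∈ K, a * k = k * a) :
    Nat.card ↥(Subgroup.zpowers a ⊔ K) ≤ Nat.card ↥(Subgroup.zpowers a) * Nat.card ↥K := by
  have hn : Subgroup.zpowers a ≤ Subgroup.normalizer (K : Set X) := by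
    refine le_trans ?_ (Subgroup.centralizer_le_normalizer _)
    exact Subgroup.zpowers_le.2 (Subgroup.mem_centralizer_iff.2 fun k hk => (h k hk).symm)
  rw [← Nat.card_prod]
  refine Nat.card_le_card_of_surjective (fun q : ↥(Subgroup.zpowers a) × ↥K =>
      (⟨(q.1 : X) * q.2, Subgroup.mul_mem_sup q.1.2 q.2.2⟩ : ↥(Subgroup.zpowers a ⊔ K))) ?_
  rintro ⟨k, hk⟩
  have hk' : k ∈ ((Subgroup.zpowers a ⊔ K : Subgroup X) : Set X) := hk
  rw [Subgroup.coe_mul_of_left_le_normalizer_right _ _ hn] at hk'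
  obtain ⟨x, hx, y, hy, rfl⟩ := hk'
  exact ⟨(⟨x, hx⟩, ⟨y, hy⟩), rfl⟩

theorem exists_four (hX : IsPGroup 2 X) (hE : Cfsg.IsElementaryAbelian 2 E) {A : Subgroup X}
    (hA : Cfsg.IsElementaryAbelian 2 A) (hA8 : Nat.card ↥A = 8) {a e : X} (haA : a ∈ A) (haE : a ∉ E)
    (heE : e ∈ E) (he1 : e ≠ 1) :
    ∃ V : Subgroup X, a ∈ V ∧ V ≤ A ∧ Nat.card ↥V = 4 ∧ e ∉ V := by
  have : Fact (Nat.Prime 2) := ⟨Nat.prime_two⟩
  have ha2 := hA.2 a haA
  have hza : Nat.card ↥(Subgroup.zpowers a) = 2 :=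
    (Nat.card_zpowers a).trans (orderOf_eq_prime ha2 fun h => haE (h ▸ E.one_mem))
  have hcomm : ∀ x ∈ A, ∀ y ∈ A, x * y = y * x := fun x hx y hy =>
    congrArg Subtype.val (hA.1.is_comm.comm ⟨x, hx⟩ ⟨y, hy⟩)
  obtain ⟨c, hcA, hc⟩ : ∃ c ∈ A, c ∉ Subgroup.zpowers a ⊔ (A ⊓ Subgroup.zpowers e) := by
    by_contra hh
    push Not at hh
    have h2 : Nat.card ↥(A ⊓ Subgroup.zpowers e) ≤ 2 := by
      refine le_trans (Subgroup.card_le_of_le inf_le_right) ?_
      rw [Nat.card_zpowers, orderOf_eq_prime (hE.2 e heE) he1]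
    have h3 := card_zpowers_sup_le (a := a) (K := A ⊓ Subgroup.zpowers e) fun k hk => hcomm a haA k hk.1
    have h4 := Subgroup.card_le_of_le (show A ≤ _ from hh)
    rw [hA8] at h4
    rw [hza] at h3
    omega
  have hVA : Subgroup.zpowers a ⊔ Subgroup.zpowers c ≤ A :=
    sup_le (Subgroup.zpowers_le.2 haA) (Subgroup.zpowers_le.2 hcA)
  have hc2 : c ^ 2 = 1 := hA.2 c hcA
  have hac : c ∉ Subgroup.zpowers a := fun h => hc (le_sup_left (b := A ⊓ Subgroup.zpowers e) h)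
  have hcard : Nat.card ↥(Subgroup.zpowers a ⊔ Subgroup.zpowers c) = 4 := by
    obtain ⟨m, hm⟩ := IsPGroup.iff_card.1 (hX.to_subgroup (Subgroup.zpowers a ⊔ Subgroup.zpowers c))
    have h1 : 2 < Nat.card ↥(Subgroup.zpowers a ⊔ Subgroup.zpowers c) := by
      rw [← hza]
      by_contra hh
      have := Subgroup.eq_of_le_of_card_ge (le_sup_left : Subgroup.zpowers a ≤ _) (not_lt.1 hh)
      exact hac (this.ge ((le_sup_right (a := Subgroup.zpowers a)) (Subgroup.mem_zpowers c)))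
    have h2 : Nat.card ↥(Subgroup.zpowers a ⊔ Subgroup.zpowers c) ≤ 4 := by
      have h3 := card_zpowers_sup_le (a := a) (K := Subgroup.zpowers c)
        fun k hk => hcomm a haA k (Subgroup.zpowers_le.2 hcA hk)
      have h5 : Nat.card ↥(Subgroup.zpowers c) ≤ 2 := by
        rw [Nat.card_zpowers]
        exact Nat.le_of_dvd two_pos (orderOf_dvd_of_pow_eq_one hc2)
      rw [hza] at h3
      omega
    rcases m with _ | _ | _ | m
    · simp [hm] at h1
    · simp [hm] at h1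
    · rw [hm]; norm_num
    · have : 8 ≤ 2 ^ (m + 1 + 1 + 1) :=
        le_trans (by norm_num) (Nat.pow_le_pow_right (by norm_num) (show 3 ≤ m+1+1+1 by omega))
      omega
  refine ⟨_, le_sup_left (b := Subgroup.zpowers c) (Subgroup.mem_zpowers a), hVA, hcard, fun heV => ?_⟩
  have he2 : e ∉ Subgroup.zpowers a := fun h => by
    obtain ⟨j, hj⟩ := Subgroup.mem_zpowers_iff.1 h
    rcases Int.even_or_odd j with ⟨i, rfl⟩ | ⟨i, rfl⟩
    · rw [← two_mul, zpow_mul, zpow_ofNat, ha2, one_zpow] at hj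
      exact he1 hj.symm
    · rw [zpow_add_one, zpow_mul, zpow_ofNat, ha2, one_zpow, one_mul] at hj
      exact haE (hj ▸ heE)
  have hle : Subgroup.zpowers a ⊔ Subgroup.zpowers e ≤ Subgroup.zpowers a ⊔ (A ⊓ Subgroup.zpowers e) :=
    sup_le le_sup_left (Subgroup.zpowers_le.2 ((le_sup_right (a := Subgroup.zpowers a))
      ⟨hVA heV, Subgroup.mem_zpowers e⟩))
  have heq : Subgroup.zpowers a ⊔ Subgroup.zpowers e = Subgroup.zpowers a ⊔ Subgroup.zpowers c := by
    refine Subgroup.eq_of_le_of_card_ge (sup_le le_sup_left (Subgroup.zpowers_le.2 heV)) ?_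
    obtain ⟨m, hm⟩ := IsPGroup.iff_card.1 (hX.to_subgroup (Subgroup.zpowers a ⊔ Subgroup.zpowers e))
    have h1 : 2 < Nat.card ↥(Subgroup.zpowers a ⊔ Subgroup.zpowers e) := by
      rw [← hza]
      by_contra hh
      exact he2 ((Subgroup.eq_of_le_of_card_ge le_sup_left (not_lt.1 hh)).ge
        ((le_sup_right (a := Subgroup.zpowers a)) (Subgroup.mem_zpowers e)))
    have h4 : (2 : ℕ) ^ 1 < 2 ^ m := by rw [← hm]; simpa using h1
    have := (Nat.pow_lt_pow_iff_right (by norm_num)).1 h4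
    rw [hcard, hm]
    exact le_trans (by norm_num) (Nat.pow_le_pow_right (by norm_num) (show 2 ≤ m by omega))
  exact hc (hle (heq.ge ((le_sup_right (a := Subgroup.zpowers a)) (Subgroup.mem_zpowers c))))

theorem hub (hX : IsPGroup 2 X) [E.Normal] (hE : Cfsg.IsElementaryAbelian 2 E) (hE32 : 32 ≤ Nat.card ↥E)
    {A : Subgroup X} (hA : Cfsg.IsElementaryAbelian 2 A) (hA8 : Nat.card ↥A = 8) :
    ∃ D, D ≤ E ∧ Nat.card ↥D = 8 ∧ Relation.ReflTransGen Rel A D := by
  by_cases hAE : A ≤ E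
  · exact ⟨A, hAE, hA8, .refl⟩
  obtain ⟨a, haA, haE⟩ := SetLike.not_le_iff_exists.1 hAE
  have ha2 := hA.2 a haA
  obtain ⟨e, he, he1⟩ := exists_fixed hX hE hE32 hA hA8
  obtain ⟨V, haV, hVA, hV4, heV⟩ := exists_four hX hE hA hA8 haA haE he.1 he1
  have hVel := elem_mono hA hVA
  have hza : Subgroup.zpowers a ≤ V := Subgroup.zpowers_le.2 haV
  obtain ⟨B, hB1, hBcard⟩ : ∃ B, B ≤ (A ⊔ CE E A) ⊓ (V ⊔ CE E V) ∧ Nat.card ↥B = 8 := by
    have h8 : 8 ≤ Nat.card ↥(V ⊔ CE E A) := card_ge_eight hX hV4.ge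
      (lt_of_le_of_ne le_sup_left fun h => heV (h.ge ((le_sup_right (a := V)) he)))
    have hle : V ⊔ CE E A ≤ (A ⊔ CE E A) ⊓ (V ⊔ CE E V) :=
      le_inf (sup_le_sup_right hVA _) (sup_le_sup_left (inf_le_inf_left E (Subgroup.centralizer_le hVA)) _)
    obtain ⟨B, -, hB, -, hBc⟩ := exists_between hX (elem_mono (sup_ce_elem hE hA) (hle.trans inf_le_left))
      (le_sup_left : V ≤ V ⊔ CE E A) (by omega) h8
    exact ⟨B, hB.trans hle, hBc⟩
  obtain ⟨B', hB'1, hB'card⟩ : ∃ B, B ≤ (V ⊔ CE E V) ⊓ (Subgroup.zpowers a ⊔ CE E (Subgroup.zpowers a)) ∧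
      Nat.card ↥B = 8 := by
    have hle : Subgroup.zpowers a ⊔ CE E V ≤ (V ⊔ CE E V) ⊓ (Subgroup.zpowers a ⊔ CE E (Subgroup.zpowers a)) :=
      le_inf (sup_le_sup_right hza _) (sup_le_sup_left (inf_le_inf_left E (Subgroup.centralizer_le hza)) _)
    have h8 : 8 ≤ Nat.card ↥(Subgroup.zpowers a ⊔ CE E V) := card_ge_eight hX (two_bound hX hE hE32 hVel hV4.le)
      (lt_of_le_of_ne le_sup_right fun h => haE
        (h.ge ((le_sup_left (b := CE E V)) (Subgroup.mem_zpowers a))).1)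
    obtain ⟨B, -, hB, -, hBc⟩ := exists_between hX (elem_mono (sup_ce_elem hE hVel) (hle.trans inf_le_left))
      (bot_le : ⊥ ≤ Subgroup.zpowers a ⊔ CE E V) (by simp) h8
    exact ⟨B, hB.trans hle, hBc⟩
  obtain ⟨D, -, hD, -, hDcard⟩ := exists_between hX (ce_elem hE (Subgroup.zpowers a))
    (bot_le : ⊥ ≤ CE E (Subgroup.zpowers a)) (by simp) (one_bound hX hE hE32 ha2)
  exact ⟨D, hD.trans inf_le_left, hDcard,
    ((step (sup_ce_elem hE hA) le_sup_left hA8 (hB1.trans inf_le_left) hBcard).trans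
      (step (sup_ce_elem hE hVel) (hB1.trans inf_le_right) hBcard (hB'1.trans inf_le_left) hB'card)).trans
      (step (sup_ce_elem hE (elem_zpowers ha2)) (hB'1.trans inf_le_right) hB'card (hD.trans le_sup_right) hDcard)⟩

end helpers

/-- Let X be a finite 2-group having a normal elementary abelian subgroup of order at least 32. Then (a) for any two elementary abelian subgroups A, B of X of order 8 there is a chain A = A₁, A₂, …, Aₙ = B of elementary abelian subgroups of order 8 in which consecutive members commute elementwise; and (b) every elementary abelian subgroup of X of order 4 is contained in an elementary abelian subgroup of order 8. -/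
theorem result {X : Type*} [Group X] [Finite X]
    (hX : IsPGroup 2 X) (E : Subgroup X) [E.Normal] (hE : Cfsg.IsElementaryAbelian 2 E) (hE32 : 32 ≤ Nat.card ↥E) :
    (∀ A B : Subgroup X, Cfsg.IsElementaryAbelian 2 A → Nat.card ↥A = 8 → Cfsg.IsElementaryAbelian 2 B → Nat.card ↥B = 8 →
        Relation.ReflTransGen
          (fun C D : Subgroup X => Cfsg.IsElementaryAbelian 2 C ∧ Nat.card ↥C = 8 ∧ Cfsg.IsElementaryAbelian 2 D ∧ Nat.card ↥D = 8 ∧ ⁅C, D⁆ = ⊥)
          A B) ∧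
      (∀ V : Subgroup X, Cfsg.IsElementaryAbelian 2 V → Nat.card ↥V = 4 →
        ∃ A : Subgroup X, V ≤ A ∧ Cfsg.IsElementaryAbelian 2 A ∧ Nat.card ↥A = 8) := by
  refine ⟨fun A B hA hA8 hB hB8 => ?_, fun V hV hV4 => ?_⟩
  · obtain ⟨D₁, hD₁E, hD₁, h₁⟩ := hub hX hE hE32 hA hA8
    obtain ⟨D₂, hD₂E, hD₂, h₂⟩ := hub hX hE hE32 hB hB8
    refine (h₁.trans (step hE hD₁E hD₁ hD₂E hD₂)).trans ?_
    clear h₁ hD₁E hD₁ hA hA8 hD₂E hD₂
    induction h₂ with
    | refl => exact .refl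
    | tail _ hbc ih =>
      obtain ⟨a, b, c, d, e⟩ := hbc
      exact (Relation.ReflTransGen.single ⟨c, d, a, b, by rw [Subgroup.commutator_comm]; exact e⟩).trans ih
  · obtain ⟨B, hVB, -, hBel, hB8⟩ := exists_between hX (sup_ce_elem hE hV) le_sup_left (by omega)
      (four_bound hX hE hE32 hV hV4)
    exact ⟨B, hVB, hBel, hB8⟩

end Cfsg.Agent.S1785
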