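import Cfsg.Statements.S1786
import Cfsg.Agent.Lib.Classif.TIWeak.SL2Action
import Cfsg.Agent.Lib.Components.FStar
import Cfsg.Agent.Lib.PCore.Basic

set_option autoImplicit false
open Cfsg

namespace Cfsg.Agent.S1786

open CfsgLib.Classif CfsgLib.TIWeak

theorem mkSetup {G : Type*} [Group G] [Finite G] {V Q : Subgroup G} (hV : Cfsg.IsElementaryAbelian 2 V)
    (hQ : Q = (Cfsg.pCore 2 ↥(Subgroup.normalizer (V : Set G))).map (Subgroup.normalizer (V : Set G)).subtype)
    (h1 : (Cfsg.generalizedFittingSubgroup ↥(Subgroup.normalizer (V : Set G))).map (Subgroup.normalizer (V : Set G)).subtype = Q)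
    (h2 : ∀ A : Subgroup G, V ≤ A → A ≤ Subgroup.normalizer (V : Set G) → IsMulCommutative ↥A →
      (∀ m ∈ Subgroup.normalizer (V : Set G), ∀ a ∈ A, m * a * m⁻¹ ∈ A) → A = V)
    (hti : ∀ x : G, conjSub V x = V ∨ conjSub V x ⊓ V = ⊥) : Setup V Q := by
  have : Fact (Nat.Prime 2) := ⟨Nat.prime_two⟩
  set M := Subgroup.normalizer (V : Set G) with hM
  have hQn : (Cfsg.pCore 2 ↥M).Normal := inferInstance
  have hmax : ∀ R : Subgroup G, R ≤ M → (∀ m ∈ M, ∀ r ∈ R, m * r * m⁻¹ ∈ R) → IsPGroup 2 ↥R → R ≤ Q := by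
    intro R hR hn hR2 r hr
    rw [hQ]
    refine ⟨⟨r, hR hr⟩, CfsgLib.PCore.le_pCore (N := R.subgroupOf M) ?_ hR2.comap_subtype (Subgroup.mem_subgroupOf.2 hr), rfl⟩
    exact ⟨fun x hx m => hn m m.2 x hx⟩
  refine ⟨hV, ?_, hQ ▸ Subgroup.map_subtype_le _, ?_, ?_, hmax, ?_, h2, hti⟩
  · refine hmax V Subgroup.le_normalizer (fun m hm v hv => (Subgroup.mem_normalizer_iff.1 hm v).1 hv) ?_
    exact fun v => ⟨1, Subtype.ext (by simpa using hV.2 v v.2)⟩
  · subst hQ
    rintro m hm _ ⟨q, hq, rfl⟩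
    exact ⟨⟨m, hm⟩ * q * ⟨m, hm⟩⁻¹, hQn.conj_mem q hq _, rfl⟩
  · rw [hQ]
    exact CfsgLib.PCore.pCore_isPGroup.map _
  · intro m hm hc
    have hmem : (⟨m, hm⟩ : ↥M) ∈ Cfsg.generalizedFittingSubgroup ↥M := by
      refine CfsgLib.Components.centralizer_generalizedFitting_le (Subgroup.mem_centralizer_iff.2 fun q hq => Subtype.ext ?_)
      exact (hc _ (h1 ▸ ⟨q, hq, rfl⟩)).symm
    exact h1 ▸ ⟨_, hmem, rfl⟩

/-- Let G be a finite group, V an elementary abelian 2-subgroup of G and M the normalizer of V; write Q for the largest normal 2-subgroup of M. Suppose (1) the generalized Fitting subgroup of M equals Q; (2) V is a maximal abelian normal subgroup of M; (3) every conjugate of V equals V or meets V trivially, and for some g ∈ G the conjugate V' = g V g⁻¹ is different from V and contained in Q. Let P be the centralizer of V in Q, W the subgroup generated by V and V', and H the subgroup generated by P and g P g⁻¹. Then: (a) V is contained in g Q g⁻¹; (b) every non-identity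 element of W lies in exactly one conjugate of V contained in W, H normalizes W, and H modulo the centralizer of W in H is isomorphic to the special linear group of dimension 2 over the field with |V| elements; (c) P = Q, and V equals the Frattini subgroup, the centre and the commutator subgroup of Q. -/
theorem result {G : Type*} [Group G] [Finite G] (V : Subgroup G)
    (hV : Cfsg.IsElementaryAbelian 2 V)
    (h1 : (Cfsg.generalizedFittingSubgroup ↥(Subgroup.normalizer (V : Set G))).map (Subgroup.normalizer (V : Set G)).subtype =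
      (Cfsg.pCore 2 ↥(Subgroup.normalizer (V : Set G))).map (Subgroup.normalizer (V : Set G)).subtype)
    (h2 : ∀ A : Subgroup G, V ≤ A → A ≤ Subgroup.normalizer (V : Set G) → IsMulCommutative ↥A →
      (∀ m ∈ Subgroup.normalizer (V : Set G), ∀ a ∈ A, m * a * m⁻¹ ∈ A) → A = V)
    (hti : ∀ x : G, V.map (MulAut.conj x).toMonoidHom = V ∨ V.map (MulAut.conj x).toMonoidHom ⊓ V = ⊥)
    (g : G) (hg : V.map (MulAut.conj g).toMonoidHom ≠ V)
    (hgQ : V.map (MulAut.conj g).toMonoidHom ≤ (Cfsg.pCore 2 ↥(Subgroup.normalizer (V : Set G))).map (Subgroup.normalizer (V : Set G)).subtype) :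
    let Q : Subgroup G := (Cfsg.pCore 2 ↥(Subgroup.normalizer (V : Set G))).map (Subgroup.normalizer (V : Set G)).subtype
    let P : Subgroup G := Q ⊓ Subgroup.centralizer (V : Set G)
    let W : Subgroup G := V ⊔ V.map (MulAut.conj g).toMonoidHom
    let H : Subgroup G := P ⊔ P.map (MulAut.conj g).toMonoidHom
    V ≤ Q.map (MulAut.conj g).toMonoidHom ∧
      (∀ w ∈ W, w ≠ 1 → ∃! U : Subgroup G, (∃ x : G, U = V.map (MulAut.conj x).toMonoidHom) ∧ U ≤ W ∧ w ∈ U) ∧
      H ≤ Subgroup.normalizer (W : Set G) ∧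
      (∀ hN : ((Subgroup.centralizer (W : Set G)).subgroupOf H).Normal, ∃ (F : Type) (_ : Field F) (_ : Fintype F), Fintype.card F = Nat.card ↥V ∧
        Nonempty (↥H ⧸ (Subgroup.centralizer (W : Set G)).subgroupOf H ≃* Matrix.SpecialLinearGroup (Fin 2) F)) ∧
      P = Q ∧ (frattini ↥Q).map Q.subtype = V ∧ (Subgroup.center ↥Q).map Q.subtype = V ∧ (commutator ↥Q).map Q.subtype = V := by
  intro Q P W H
  have S : Setup V Q := mkSetup hV rfl h1 h2 hti
  set U := V.map (MulAut.conj g).toMonoidHom with hUdef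
  have hU : Nbr V Q U := ⟨⟨g, rfl⟩, hg, hgQ⟩
  obtain ⟨s, hsU, hsV⟩ := S.exists_swap hU
  have hQeq : conjSub Q g = conjSub Q s := S.conjSub_eq_of_swap S.Q_conj hsV rfl
  have hPeq : conjSub S.P g = conjSub S.P s :=
    S.conjSub_eq_of_swap (fun m hm p hp => S.P_conj hm hp) hsV rfl
  refine ⟨?_, fun w hw hw1 => S.existsUnique_conj hU hw hw1, ?_, ?_, S.P_eq_Q hU, S.frattini_eq hU,
    S.center_eq hU, S.commutator_eq hU⟩
  · show V ≤ conjSub Q g
    rw [hQeq]
    exact hsU.symm.le.trans (conjSub_mono hgQ s)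
  · show S.P ⊔ conjSub S.P g ≤ _
    rw [hPeq]
    refine sup_le (S.P_le_norm_sup hU) ?_
    have hs' : s ∈ Subgroup.normalizer ((V ⊔ U : Subgroup G) : Set G) := by
      refine conjSub_eq_iff.1 ?_
      rw [conjSub, Subgroup.map_sup]
      show conjSub V s ⊔ conjSub U s = _
      rw [hsU, hsV, sup_comm]
    exact conjSub_le_of_mem hs' (S.P_le_norm_sup hU)
  · show ∀ hN : ((Subgroup.centralizer ((V ⊔ U : Subgroup G) : Set G)).subgroupOf (S.P ⊔ conjSub S.P g)).Normal,
      ∃ (F : Type) (_ : Field F) (_ : Fintype F), Fintype.card F = Nat.card ↥V ∧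
      Nonempty ((↥(S.P ⊔ conjSub S.P g) ⧸ (Subgroup.centralizer ((V ⊔ U : Subgroup G) : Set G)).subgroupOf
        (S.P ⊔ conjSub S.P g)) ≃* Matrix.SpecialLinearGroup (Fin 2) F)
    rw [hPeq]
    exact fun h => S.quotient_sl_two hU hsU hsV h

end Cfsg.Agent.S1786
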