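import Cfsg.Statements.S1822
import Cfsg.Agent.Lib.QT68.Component
import Cfsg.Agent.Lib.QT68.Setup
import Cfsg.Agent.Lib.QT68.CalL

set_option autoImplicit false
open Cfsg

namespace Cfsg.Agent.S1822

open Subgroup
open scoped commutatorElement Pointwise

variable {G : Type*} [Group G] [Finite G]

theorem exists_max (T : Sylow 2 G) {X : Subgroup G}
    (hU2 : Cfsg.pCore 2 ↥(X ⊔ (T : Subgroup G)) ≠ ⊥) :
    ∃ M : Subgroup G, M ∈ Cfsg.maxTwoLocalsContaining (X ⊔ (T : Subgroup G)) := by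
  haveI : Fact (Nat.Prime 2) := ⟨Nat.prime_two⟩
  set U := X ⊔ (T : Subgroup G) with hU
  set R := (Cfsg.pCore 2 U).map U.subtype with hR
  have hR2 : IsPGroup 2 R := CfsgLib.PCore.pCore_isPGroup.map _
  have hRne : R ≠ ⊥ := fun h => hU2 ((map_eq_bot_iff_of_injective _ U.subtype_injective).1 h)
  have hle : U ≤ normalizer (R : Set G) :=
    le_normalizer.trans (CfsgLib.Structure.normalizer_le_normalizer_map_subtype U (Cfsg.pCore 2 U))
  obtain ⟨M, hRM, hM⟩ := (Set.toFinite {N : Subgroup G | Cfsg.IsTwoLocal N}).exists_le_maximal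
    (a := normalizer (R : Set G)) ⟨R, hR2, hRne, rfl⟩
  exact ⟨M, ⟨hM.1, fun N hN hMN => le_antisymm (hM.2 hN hMN) hMN⟩, hle.trans hRM⟩

omit [Finite G] in
/-- An element of odd order of a product of `X` with a `2`-group normalising `X` lies in `X`. -/
theorem mem_of_odd {X : Subgroup G} {x o : G} (hx : x ∈ X) (ho : o ∈ normalizer (X : Set G))
    {j : ℕ} (hoj : o ^ 2 ^ j = 1) (hodd : Odd (orderOf (x * o))) : x * o ∈ X := by
  haveI : (X.subgroupOf (normalizer (X : Set G))).Normal :=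
    (normal_subgroupOf_iff_le_normalizer le_normalizer).2 le_rfl
  set g : normalizer (X : Set G) := ⟨x * o, mul_mem (le_normalizer hx) ho⟩ with hg
  set f := QuotientGroup.mk' (X.subgroupOf (normalizer (X : Set G))) with hf
  have h2 : f g ^ 2 ^ j = 1 := by
    have : g = ⟨x, le_normalizer hx⟩ * ⟨o, ho⟩ := rfl
    rw [this, map_mul, (QuotientGroup.eq_one_iff (⟨x, le_normalizer hx⟩ : normalizer (X : Set G))).2 hx |>
      (show f ⟨x, le_normalizer hx⟩ = 1 from ·), one_mul, ← map_pow,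
      show (⟨o, ho⟩ : normalizer (X : Set G)) ^ 2 ^ j = 1 from Subtype.ext hoj, map_one]
  have h1 : orderOf (f g) ∣ orderOf (x * o) := by
    rw [show orderOf (x * o) = orderOf g from Subgroup.orderOf_coe g]
    exact orderOf_map_dvd f g
  have h3 : orderOf (f g) = 1 := Nat.eq_one_of_dvd_coprimes
    (Nat.Coprime.pow_left j (Nat.coprime_two_left.2 hodd)) (orderOf_dvd_of_pow_eq_one h2) h1
  exact (QuotientGroup.eq_one_iff g).1 (orderOf_eq_one_iff.1 h3)

theorem eq_normalizer (hQ : Cfsg.IsQTKE G) (T : Sylow 2 G) {X : Subgroup G} {p : ℕ} [Fact p.Prime]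
    (hp2 : p ≠ 2) (hodd : Cfsg.oddGenerated X = X)
    (hTX : (T : Subgroup G) ≤ normalizer (X : Set G))
    (hV : (Nat.card (↥X ⧸ Cfsg.pCore 2 X) = p ^ 2 ∧ IsMulCommutative (↥X ⧸ Cfsg.pCore 2 X) ∧
          ∀ x : ↥X ⧸ Cfsg.pCore 2 X, x ^ p = 1) ∨
        (Nat.card (↥X ⧸ Cfsg.pCore 2 X) = p ^ 3 ∧ ¬ IsMulCommutative (↥X ⧸ Cfsg.pCore 2 X)))
    (hirr : ∀ Y : Subgroup G, Cfsg.twoPhiCore X ≤ Y → Y ≤ X →
      (T : Subgroup G) ≤ normalizer (Y : Set G) → Y = Cfsg.twoPhiCore X ∨ Y = X)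
    (hstar : ∀ L ∈ Cfsg.calL (T : Subgroup G), Cfsg.IsQuasisimple (↥L ⧸ Cfsg.pCore 2 L) →
      ¬ (X ⊔ (T : Subgroup G) ≤ L ⊔ T))
    {M : Subgroup G} (hM : Cfsg.IsMaximalTwoLocal M) (hle : X ⊔ (T : Subgroup G) ≤ M) :
    M = normalizer (X : Set G) := by
  classical
  haveI : Fact (Nat.Prime 2) := ⟨Nat.prime_two⟩
  have hp : p.Prime := Fact.out
  have hXM : X ≤ M := le_sup_left.trans hle
  have hTM : (T : Subgroup G) ≤ M := le_sup_right.trans hle
  haveI := Cfsg.pCore_normal 2 M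
  haveI := Cfsg.pCore_normal 2 X
  -- the 2-local `M`
  obtain ⟨R, hR2, hRne, hMR⟩ := hM.1
  have hMO : Cfsg.pCore 2 M ≠ ⊥ := by
    intro h
    have hRM : R ≤ M := hMR ▸ le_normalizer
    have hn : (R.subgroupOf M).Normal :=
      (normal_subgroupOf_iff_le_normalizer hRM).2 (le_of_eq hMR)
    have h1 := CfsgLib.PCore.le_pCore (p := 2) hn hR2.comap_subtype
    rw [h, le_bot_iff, subgroupOf_eq_bot, disjoint_iff, inf_eq_left.2 hRM] at h1
    exact hRne h1
  have hrM : ∀ q : ℕ, q.Prime → q ≠ 2 → Cfsg.PRankLE q 2 M := fun q hq hq2 => hQ.1 q hq hq2 M hM.1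
  have hchar : centralizer (Cfsg.pCore 2 M : Set M) ≤ Cfsg.pCore 2 M := hQ.2.2 M hM.1 ⟨T, hTM⟩
  set N := (Cfsg.pCore 2 M).map M.subtype with hN
  have hN2 : IsPGroup 2 N := CfsgLib.PCore.pCore_isPGroup.map _
  have hNn : M ≤ normalizer (N : Set G) :=
    le_normalizer.trans (CfsgLib.Structure.normalizer_le_normalizer_map_subtype M (Cfsg.pCore 2 M))
  have hNT : N ≤ T :=
    le_sup_left.trans (T.is_maximal' (hN2.to_sup_of_normal_left' T.isPGroup' (hTM.trans hNn)) le_sup_right).le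
  have hNX : N ≤ normalizer (X : Set G) := hNT.trans hTX
  set Q₀ := (Cfsg.pCore 2 X).map X.subtype with hQ₀
  have hQ₀2 : IsPGroup 2 Q₀ := CfsgLib.PCore.pCore_isPGroup.map _
  have hQ₀n : normalizer (X : Set G) ≤ normalizer (Q₀ : Set G) :=
    CfsgLib.Structure.normalizer_le_normalizer_map_subtype X (Cfsg.pCore 2 X)
  have hQ₀T : Q₀ ≤ T := le_sup_left.trans
    (T.is_maximal' (hQ₀2.to_sup_of_normal_left' T.isPGroup' (hTX.trans hQ₀n)) le_sup_right).le
  -- once `M` normalises `X` we are done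
  suffices hMX : M ≤ normalizer (X : Set G) by
    have hQ₀ne : Q₀ ≠ ⊥ := by
      intro h
      have hQbot : Cfsg.pCore 2 X = ⊥ := (map_eq_bot_iff_of_injective _ X.subtype_injective).1 h
      have hXN : X ⊓ N = ⊥ := by
        rw [eq_bot_iff]
        intro z hz
        have hn : ((X ⊓ N).subgroupOf X).Normal := (normal_subgroupOf_iff_le_normalizer inf_le_left).2
          (CfsgLib.QT68.le_normalizer_meet le_normalizer (hXM.trans hNn))
        have h1 := CfsgLib.PCore.le_pCore (p := 2) hn (hN2.to_le inf_le_right).comap_subtype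
          (show (⟨z, hz.1⟩ : X) ∈ _ from hz)
        rw [hQbot, mem_bot] at h1
        exact congrArg Subtype.val h1
      have hXC : X.subgroupOf M ≤ centralizer (Cfsg.pCore 2 M : Set M) := by
        intro x hx
        refine mem_centralizer_iff.2 fun y hy => Subtype.ext ?_
        have hxX : (x : G) ∈ X := hx
        have hyN : (y : G) ∈ N := ⟨y, hy, rfl⟩
        have h1 : (x : G) * y * (x : G)⁻¹ * (y : G)⁻¹ ∈ X ⊓ N := Subgroup.mem_inf.2
          ⟨by
            rw [show (x : G) * y * (x : G)⁻¹ * (y : G)⁻¹ = x * (y * (x : G)⁻¹ * (y : G)⁻¹) by group]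
            exact mul_mem hxX ((mem_normalizer_iff.1 (hNX hyN) _).1 (inv_mem hxX)),
           mul_mem ((mem_normalizer_iff.1 (hNn (hXM hxX)) _).1 hyN) (inv_mem hyN)⟩
        rw [hXN, mem_bot, mul_inv_eq_one, mul_inv_eq_iff_eq_mul] at h1
        exact h1.symm
      have hXN' : X ≤ N := fun x hx => ⟨⟨x, hXM hx⟩, hchar (hXC hx), rfl⟩
      have hX1 : Cfsg.pCore 2 X = ⊤ :=
        CfsgLib.PCore.pCore_eq_self_of_isPGroup (hN2.to_le hXN')
      have : Nat.card (↥X ⧸ Cfsg.pCore 2 X) = 1 := by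
        rw [← Subgroup.index_eq_card, hX1, index_top]
      rw [this] at hV
      rcases hV with ⟨h, -, -⟩ | ⟨h, -⟩
      · exact (Nat.one_lt_pow two_ne_zero hp.one_lt).ne h
      · exact (Nat.one_lt_pow three_ne_zero hp.one_lt).ne h
    have heq := hM.2 (normalizer (Q₀ : Set G)) ⟨Q₀, hQ₀2, hQ₀ne, rfl⟩ (hMX.trans hQ₀n)
    exact le_antisymm hMX (heq ▸ hQ₀n)
  -- the quotient `M / O₂(M)`
  set π := QuotientGroup.mk' (Cfsg.pCore 2 M) with hπ
  have hO2W : Cfsg.pCore 2 (↥M ⧸ Cfsg.pCore 2 M) = ⊥ := CfsgLib.PCore.pCore_quotient_pCore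
  have hrW : ∀ q : ℕ, q.Prime → q ≠ 2 → Cfsg.PRankLE q 2 (↥M ⧸ Cfsg.pCore 2 M) := fun q hq hq2 =>
    CfsgLib.QT68.pRankLE_quotient_two CfsgLib.PCore.pCore_isPGroup hq hq2 (hrM q hq hq2)
  set Tw := ((T : Subgroup G).subgroupOf M).map π with hTw
  have hTo : ¬ 2 ∣ Tw.index := by
    have h1 : ¬ 2 ∣ ((T : Subgroup G).subgroupOf M).index := fun h =>
      T.not_dvd_index (h.trans ⟨M.index, (relIndex_mul_index hTM).symm⟩)
    exact fun h => h1 (h.trans (index_map_dvd _ (QuotientGroup.mk'_surjective _)))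
  set ρ := π.comp (inclusion hXM) with hρ
  have hker : ρ.ker ≤ Cfsg.pCore 2 X := by
    refine CfsgLib.PCore.le_pCore inferInstance ?_
    refine IsPGroup.of_injective (CfsgLib.PCore.pCore_isPGroup (p := 2) (G := M))
      (((inclusion hXM).comp ρ.ker.subtype).codRestrict (Cfsg.pCore 2 M) fun x => ?_) ?_
    · exact (QuotientGroup.eq_one_iff (inclusion hXM (x : X) : M)).1 (MonoidHom.mem_ker.1 x.2)
    · intro a b hab
      have h := congrArg (fun y : ↥(Cfsg.pCore 2 M) => ((y : M) : G)) hab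
      exact Subtype.ext (Subtype.ext h)
  have hQT : (Cfsg.pCore 2 X).map ρ ≤ Tw := by
    rintro _ ⟨x, hx, rfl⟩
    exact ⟨inclusion hXM x, hQ₀T ⟨x, hx, rfl⟩, rfl⟩
  -- conjugation by `T` in `W`
  have hconj : ∀ (Y : Subgroup X), (∀ t ∈ (T : Subgroup G), ∀ y ∈ Y.map X.subtype,
      t * y * t⁻¹ ∈ Y.map X.subtype) → Tw ≤ normalizer ((Y.map ρ : Subgroup (↥M ⧸ Cfsg.pCore 2 M)) : Set _) := by
    intro Y hY
    refine le_normalizer_iff.2 ?_
    rintro _ ⟨t, ht, rfl⟩ _ ⟨y, hy, rfl⟩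
    obtain ⟨z, hz, he⟩ := hY _ ht _ ⟨y, hy, rfl⟩
    refine ⟨z, hz, ?_⟩
    show π (inclusion hXM z) = π t * π (inclusion hXM y) * (π t)⁻¹
    rw [← map_inv, ← map_mul, ← map_mul]
    exact congrArg π (Subtype.ext he)
  have hQn : Tw ≤ normalizer (((Cfsg.pCore 2 X).map ρ : Subgroup (↥M ⧸ Cfsg.pCore 2 M)) : Set _) :=
    hconj _ fun t ht y hy => (mem_normalizer_iff.1 (hQ₀n (hTX ht)) y).1 hy
  have hTn : Tw ≤ normalizer (ρ.range : Set (↥M ⧸ Cfsg.pCore 2 M)) := by
    rw [MonoidHom.range_eq_map]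
    refine hconj _ fun t ht y hy => ?_
    rw [← MonoidHom.range_eq_map, range_subtype] at hy ⊢
    exact (mem_normalizer_iff.1 (hTX ht) y).1 hy
  set C := (commutator (↥X ⧸ Cfsg.pCore 2 X)).comap (QuotientGroup.mk' (Cfsg.pCore 2 X)) with hC
  obtain ⟨k, hk⟩ : ∃ k, Nat.card (↥X ⧸ Cfsg.pCore 2 X) = p ^ k := by
    rcases hV with ⟨h, -, -⟩ | ⟨h, -⟩ <;> exact ⟨_, h⟩
  have hphi : frattini (↥X ⧸ Cfsg.pCore 2 X) ≤ commutator (↥X ⧸ Cfsg.pCore 2 X) := by
    refine CfsgLib.PGroup.frattini_le_of (p := p) _ le_rfl fun x => ?_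
    rcases hV with ⟨-, -, he⟩ | ⟨hc, hna⟩
    · rw [he x]; exact one_mem _
    · obtain ⟨hcz, -, hpz⟩ := CfsgLib.QT68.cube_facts hc hna
      rw [hcz]; exact hpz x
  have hirrX : ∀ Y : Subgroup X, C ≤ Y →
      Tw ≤ normalizer ((Y.map ρ : Subgroup (↥M ⧸ Cfsg.pCore 2 M)) : Set _) → Y = C ∨ Y = ⊤ := by
    intro Y hCY hYn
    have hkY : ρ.ker ≤ Y := fun x hx => hCY (by
      rw [hC, mem_comap, show QuotientGroup.mk' (Cfsg.pCore 2 X) x = 1 from
        (QuotientGroup.eq_one_iff x).2 (hker hx)]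
      exact one_mem _)
    have h1 : Cfsg.twoPhiCore X ≤ Y.map X.subtype := map_mono ((comap_mono hphi).trans hCY)
    have h2 : (T : Subgroup G) ≤ normalizer ((Y.map X.subtype : Subgroup G) : Set G) := by
      refine le_normalizer_iff.2 ?_
      rintro t ht _ ⟨y, hy, rfl⟩
      have htW : π ⟨t, hTM ht⟩ ∈ Tw := ⟨_, ht, rfl⟩
      obtain ⟨z, hz, he⟩ := le_normalizer_iff.1 hYn _ htW _ ⟨y, hy, rfl⟩
      have htz : t * (y : G) * t⁻¹ ∈ X := (mem_normalizer_iff.1 (hTX ht) y).1 y.2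
      refine ⟨⟨_, htz⟩, ?_, rfl⟩
      have hρz : ρ ⟨_, htz⟩ = ρ z := by
        rw [he]
        show π _ = π ⟨t, hTM ht⟩ * π (inclusion hXM y) * (π ⟨t, hTM ht⟩)⁻¹
        rw [← map_inv, ← map_mul, ← map_mul]
        rfl
      have hk' : z⁻¹ * ⟨_, htz⟩ ∈ ρ.ker := by
        rw [MonoidHom.mem_ker, map_mul, map_inv, hρz, inv_mul_cancel]
      have := mul_mem hz (hkY hk')
      rwa [mul_inv_cancel_left] at this
    rcases hirr _ h1 (map_subtype_le _) h2 with h | h
    · left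
      refine le_antisymm ?_ hCY
      exact ((map_le_map_iff_of_injective X.subtype_injective).1 h.le).trans (comap_mono hphi)
    · right
      apply map_injective X.subtype_injective
      rw [h, ← MonoidHom.range_eq_map, range_subtype]
  obtain ⟨P, D, hThin, hrange, hQP, hsolv⟩ :=
    CfsgLib.QT68.exists_thin hp2 ρ hker hQT hQn hTn hV hirrX
  have hPR : P ≤ ρ.range := hrange ▸ le_sup_right
  rcases hThin.centralizes_layer_or hrW hsolv hTn hPR hTo inf_le_left with hc | ⟨K, hK, hPK⟩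
  · -- `P` is normal
    haveI hPn : P.Normal := hThin.normal_of_centralizes_layer hO2W hrW hc
    have hXP : ∀ x (hx : x ∈ X), Odd (orderOf x) → ρ ⟨x, hx⟩ ∈ P := by
      intro x hx ho
      obtain ⟨a, ha, b, hb, hab⟩ : ρ ⟨x, hx⟩ ∈
          (((Cfsg.pCore 2 X).map ρ : Subgroup (↥M ⧸ Cfsg.pCore 2 M)) : Set (↥M ⧸ Cfsg.pCore 2 M)) *
            (P : Set (↥M ⧸ Cfsg.pCore 2 M)) := by
        rw [← mul_normal, hrange]; exact ⟨_, rfl⟩
      have hcomm : Commute a b := by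
        show a * b = b * a
        rw [← commutatorElement_eq_one_iff_mul_comm, ← mem_bot, ← hQP]
        refine Subgroup.mem_inf.2 ⟨?_, ?_⟩
        · have hbR := hPR hb
          obtain ⟨b', rfl⟩ := hbR
          obtain ⟨a', ha', rfl⟩ := ha
          refine ⟨⁅a', b'⁆, ?_, map_commutatorElement ρ a' b'⟩
          rw [commutatorElement_def, mul_assoc, mul_assoc]
          refine mul_mem ha' ?_
          rw [← mul_assoc]
          exact (inferInstance : (Cfsg.pCore 2 X).Normal).conj_mem _ (inv_mem ha') b'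
        · rw [commutatorElement_def]
          exact mul_mem (hPn.conj_mem b hb a) (inv_mem hb)
      obtain ⟨j, hj⟩ : ∃ j, a ^ 2 ^ j = 1 := by
        obtain ⟨j, hj⟩ := ((CfsgLib.PCore.pCore_isPGroup (p := 2) (G := X)).map ρ) ⟨a, ha⟩
        exact ⟨j, by simpa using congrArg Subtype.val hj⟩
      have hop : (a ^ p) ^ orderOf x = 1 := by
        have h1 : (a * b) ^ orderOf x = 1 := by
          rw [show a * b = ρ ⟨x, hx⟩ from hab, ← map_pow,
            show (⟨x, hx⟩ : X) ^ orderOf x = 1 from Subtype.ext (pow_orderOf_eq_one x), map_one]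
        have h2 : (a ^ p) ^ orderOf x = ((a * b) ^ orderOf x) ^ p := by
          rw [hcomm.mul_pow, (hcomm.pow_pow _ _).mul_pow, ← pow_mul b, mul_comm (orderOf x) p, pow_mul b,
            hThin.exp b hb, one_pow, mul_one, ← pow_mul, ← pow_mul, mul_comm]
        rw [h2, h1, one_pow]
      have ha1 : a = 1 := by
        refine orderOf_eq_one_iff.1 (Nat.eq_one_of_dvd_coprimes ?_ (orderOf_dvd_of_pow_eq_one hj)
          (orderOf_dvd_of_pow_eq_one (show a ^ (p * orderOf x) = 1 by rw [pow_mul]; exact hop)))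
        exact Nat.Coprime.pow_left j (Nat.coprime_two_left.2 ((hp.odd_of_ne_two hp2).mul ho))
      rw [show ρ ⟨x, hx⟩ = b by rw [← show a * b = ρ ⟨x, hx⟩ from hab, ha1, one_mul]]
      exact hb
    intro m hm
    have hmap : ∀ g ∈ M, X ≤ X.comap (MulAut.conj g).toMonoidHom := by
      intro g hg
      conv_lhs => rw [← hodd]
      refine (closure_le _).2 ?_
      rintro x ⟨hx, ho⟩
      show g * x * g⁻¹ ∈ X
      obtain ⟨x', hx'⟩ : π ⟨g * x * g⁻¹, mul_mem (mul_mem hg (hXM hx)) (inv_mem hg)⟩ ∈ ρ.range := by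
        refine hPR ?_
        show π (⟨g, hg⟩ * ⟨x, hXM hx⟩ * ⟨g, hg⟩⁻¹) ∈ P
        rw [map_mul, map_mul, map_inv]
        exact hPn.conj_mem _ (hXP x hx ho) _
      set o : M := (inclusion hXM x')⁻¹ * ⟨g * x * g⁻¹, mul_mem (mul_mem hg (hXM hx)) (inv_mem hg)⟩ with ho'
      have hoN : (o : G) ∈ N := by
        refine ⟨o, (QuotientGroup.eq_one_iff o).1 ?_, rfl⟩
        show π o = 1
        rw [ho', map_mul, map_inv, ← hx']
        exact inv_mul_cancel _
      obtain ⟨j, hj⟩ := hN2 ⟨o, hoN⟩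
      have heq : g * x * g⁻¹ = (x' : G) * (o : G) := by simp [ho']
      rw [heq]
      refine mem_of_odd x'.2 (hNX hoN) (j := j) (by simpa using congrArg Subtype.val hj) ?_
      rw [← heq, show g * x * g⁻¹ = (MulAut.conj g) x from rfl,
        orderOf_injective (MulAut.conj g).toMonoidHom (MulAut.conj g).injective x |>
          (show orderOf ((MulAut.conj g) x) = orderOf x from ·)]
      exact ho
    refine mem_normalizer_iff.2 fun x => ⟨fun hx => hmap m hm hx, fun hx => ?_⟩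
    have := hmap m⁻¹ (inv_mem hm) hx
    simpa [mul_assoc] using this
  · -- `P` lies in the normal closure of a component: excluded by `Ξ*`
    exfalso
    obtain ⟨L, hLM, hL, hLq, hKL⟩ := CfsgLib.QT68.exists_calL T hTM hMO hK
    refine hstar L hL hLq (sup_le ?_ le_sup_right)
    set U := L ⊔ (T : Subgroup G) with hU
    set Uw := (U.subgroupOf M).map π with hUw
    have hTU : Tw ≤ Uw := map_mono (comap_mono le_sup_right)
    have hKU : K ≤ Uw := hKL.trans (map_mono (comap_mono le_sup_left))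
    have hYU : (⨆ t : Tw, K.map (MulAut.conj (t : ↥M ⧸ Cfsg.pCore 2 M)).toMonoidHom) ≤ Uw := by
      refine iSup_le fun t => ?_
      rintro _ ⟨y, hy, rfl⟩
      exact mul_mem (mul_mem (hTU t.2) (hKU hy)) (inv_mem (hTU t.2))
    have hRU : ρ.range ≤ Uw := hrange ▸ sup_le (hQT.trans hTU) (hPK.trans hYU)
    intro x hx
    obtain ⟨u, hu, he⟩ := hRU ⟨⟨x, hx⟩, rfl⟩
    have hoN : ((u⁻¹ * ⟨x, hXM hx⟩ : M) : G) ∈ N := by
      refine ⟨_, (QuotientGroup.eq_one_iff (u⁻¹ * ⟨x, hXM hx⟩ : M)).1 ?_, rfl⟩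
      show π (u⁻¹ * ⟨x, hXM hx⟩) = 1
      rw [map_mul, map_inv, he]
      exact inv_mul_cancel _
    have := mul_mem (show (u : G) ∈ U from hu) ((le_sup_right : (T : Subgroup G) ≤ U) (hNT hoN))
    simpa using this

/-- Solvable uniqueness groups in a simple QTKE-group. Let G be a non-abelian finite simple QTKE-group, T a Sylow 2-subgroup of G, and X a member of Ξ*(G, T): X = O²(X) is T-invariant with O₂(XT) ≠ 1, X/O₂(X) is elementary abelian of order p² or extraspecial of order p³ for an odd prime p, T is irreducible on the Frattini quotient of X/O₂(X), and XT lies in no ⟨L, T⟩ with L ∈ ℒ(G, T) and L/O₂(L) quasisimple. Then N_G(X) is the unique maximal 2-local subgroup of G containing XT, so that XT is a uniqueness subgroup. -/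
theorem result {G : Type*} [Group G] [Finite G] [IsSimpleGroup G]
    (hG : ¬ IsMulCommutative G) (hQ : Cfsg.IsQTKE G) (T : Sylow 2 G) (X : Subgroup G)
    (hX : X ∈ Cfsg.XiStar (T : Subgroup G)) :
    Cfsg.maxTwoLocalsContaining (X ⊔ (T : Subgroup G)) = {Subgroup.normalizer (X : Set G)} := by
  classical
  haveI : Fact (Nat.Prime 2) := ⟨Nat.prime_two⟩
  obtain ⟨⟨hodd, hTX, hU2, ⟨p, hp, hp2, hV⟩, hirr⟩, hstar⟩ := hX
  haveI := Fact.mk hp
  -- every maximal `2`-local over `X T` is `N(X)`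
  have huniq : ∀ M : Subgroup G, M ∈ Cfsg.maxTwoLocalsContaining (X ⊔ (T : Subgroup G)) →
      M = Subgroup.normalizer (X : Set G) := fun M hM =>
    eq_normalizer hQ T hp2 hodd hTX hV hirr hstar hM.1 hM.2
  ext M
  refine ⟨fun hM => huniq M hM, fun hM => ?_⟩
  obtain ⟨M₀, hM₀⟩ := exists_max T hU2
  rw [Set.mem_singleton_iff] at hM
  rw [hM, ← huniq M₀ hM₀]
  exact hM₀


end Cfsg.Agent.S1822
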