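import Cfsg.Statements.S1851
import Cfsg.Agent.Lib.Classif.LocalCharTwo

set_option autoImplicit false
open Cfsg

namespace Cfsg.Agent.S1851

section helpers

open Subgroup

variable {G : Type*} [Group G] [Finite G]

omit [Finite G] in
theorem commutator_ne_self {p : ℕ} [Fact p.Prime] {P Y R : Subgroup G} [Finite ↥P] (hP : IsPGroup p ↥P)
    (hY : Y ≤ P) (hR : R ≤ P) (hne : Y ≠ ⊥) : ⁅Y, R⁆ ≠ Y := by
  intro h
  haveI := hP.isNilpotent
  have key : ∀ n : ℕ, Y.subgroupOf P ≤ Subgroup.lowerCentralSeries (⊤ : Subgroup ↥P) n := by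
    intro n
    induction n with
    | zero => simp
    | succ n ih =>
      have hmap : ⁅Y.subgroupOf P, R.subgroupOf P⁆ = Y.subgroupOf P := by
        apply Subgroup.map_injective P.subtype_injective
        rw [Subgroup.map_commutator, Subgroup.map_subgroupOf_eq_of_le hY,
          Subgroup.map_subgroupOf_eq_of_le hR, h]
      rw [← hmap, Subgroup.lowerCentralSeries_succ]
      exact Subgroup.commutator_mono ih le_top
  obtain ⟨n, hn⟩ := (Subgroup.isNilpotent_iff_lowerCentralSeries (⊤ : Subgroup ↥P)).1 (Group.isNilpotent_top.2 hP.isNilpotent)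
  have := key n
  rw [hn, le_bot_iff, Subgroup.subgroupOf_eq_bot, disjoint_iff, inf_eq_left.2 hY] at this
  exact hne this

theorem exists_fixed_mod {p : ℕ} [Fact p.Prime] {W S R : Subgroup G} (hW : IsPGroup p ↥W)
    (hR : IsPGroup p ↥R) (hRW : R ≤ normalizer (W : Set G)) (h : ¬ W ≤ S) :
    ∃ x ∈ W, x ∉ S ∧ ∀ r ∈ R, r * x * r⁻¹ * x⁻¹ ∈ S := by
  obtain ⟨Y, hY⟩ := ({Y : Subgroup G | Y ≤ W ∧ R ≤ normalizer (Y : Set G) ∧ ¬ Y ≤ S}
    ).toFinite.exists_minimal ⟨W, le_rfl, hRW, h⟩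
  obtain ⟨hYW, hRY, hYS⟩ := hY.prop
  have hle : ⁅Y, R⁆ ≤ Y := Subgroup.le_normalizer_iff_commutator_le_left.1 hRY
  have hlt : ⁅Y, R⁆ ≤ S := by
    by_contra hn
    have hmem : ⁅Y, R⁆ ∈ {Y : Subgroup G | Y ≤ W ∧ R ≤ normalizer (Y : Set G) ∧ ¬ Y ≤ S} :=
      ⟨hle.trans hYW, by
        exact Subgroup.normalizer_commutator_ge_right Y R, hn⟩
    exact commutator_ne_self (P := R ⊔ W) (hR.to_sup_of_normal_right' hW hRW)
      (hYW.trans le_sup_right) le_sup_left (fun hb => hYS (hb ▸ bot_le)) (hY.eq_of_le hmem hle)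
  obtain ⟨x, hxY, hxS⟩ := SetLike.not_le_iff_exists.1 hYS
  refine ⟨x, hYW hxY, hxS, fun r hr => ?_⟩
  have h1 : x * r * x⁻¹ * r⁻¹ ∈ S := hlt (commutator_mem_commutator hxY hr)
  simpa [mul_assoc] using S.inv_mem h1

/-- Elements of odd order of `L ⊔ R` lie in the subnormal subgroup `L`, `R` a normal 2-subgroup. -/
theorem odd_mem_of_subnormal {L R : Subgroup G} [R.Normal] (hR : IsPGroup 2 ↥R) (hL : L.IsSubnormal)
    {x : G} (hx : x ∈ L ⊔ R) (ho : Odd (orderOf x)) : x ∈ L := by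
  induction hL with
  | top => exact mem_top x
  | step A B hAB _ hn ih =>
    have hxB : x ∈ B := ih (sup_le_sup_right hAB R hx)
    obtain ⟨a, ha, r, hr, rfl⟩ := Subgroup.mem_sup_of_normal_right.1 hx
    have hrB : r ∈ B := by simpa using B.mul_mem (B.inv_mem (hAB ha)) hxB
    haveI := hn
    let q := QuotientGroup.mk' (A.subgroupOf B)
    have hq1 : q ⟨a * r, hxB⟩ = q ⟨r, hrB⟩ := by
      have : (⟨a * r, hxB⟩ : ↥B) = ⟨a, hAB ha⟩ * ⟨r, hrB⟩ := rfl
      have ha1 : q ⟨a, hAB ha⟩ = 1 := (QuotientGroup.eq_one_iff (⟨a, hAB ha⟩ : ↥B)).2 ha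
      rw [this, map_mul, ha1, one_mul]
    have h1 : orderOf (q ⟨a * r, hxB⟩) ∣ orderOf (a * r) := by
      rw [← Subgroup.orderOf_mk (a * r) hxB]; exact orderOf_map_dvd q _
    have h2 : orderOf (q ⟨r, hrB⟩) ∣ orderOf r := by
      rw [← Subgroup.orderOf_mk r hrB]; exact orderOf_map_dvd q _
    obtain ⟨k, hk⟩ := IsPGroup.iff_orderOf.1 hR ⟨r, hr⟩
    rw [Subgroup.orderOf_mk] at hk
    have hone : q ⟨a * r, hxB⟩ = 1 := by
      rw [← orderOf_eq_one_iff]
      refine Nat.eq_one_of_dvd_coprimes (Nat.Coprime.pow_right k (Nat.coprime_two_right.2 ho)) h1 ?_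
      rw [hq1, ← hk]; exact h2
    exact (QuotientGroup.eq_one_iff (⟨a * r, hxB⟩ : ↥B)).1 hone

omit [Finite G] in
theorem conj_mem_oddGenerated {H : Subgroup G} {g : G} (hg : g ∈ H) {x : G} (hx : x ∈ Cfsg.oddGenerated H) :
    g * x * g⁻¹ ∈ Cfsg.oddGenerated H := by
  have : Cfsg.oddGenerated H ≤ (Cfsg.oddGenerated H).comap (MulAut.conj g).toMonoidHom := by
    refine (Subgroup.closure_le _).2 ?_
    rintro y ⟨hy, ho⟩
    refine Subgroup.subset_closure ⟨H.mul_mem (H.mul_mem hg hy) (H.inv_mem hg), ?_⟩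
    rw [← orderOf_injective (MulAut.conj g).toMonoidHom (MulAut.conj g).injective y] at ho
    exact ho
  exact this hx

theorem oddGenerated_eq_of_perfect {K : Subgroup G} (hK : ⁅K, K⁆ = K) : Cfsg.oddGenerated K = K := by
  have hle : Cfsg.oddGenerated K ≤ K := (Subgroup.closure_le K).2 fun x hx => hx.1
  refine le_antisymm hle ?_
  haveI hn : ((Cfsg.oddGenerated K).subgroupOf K).Normal :=
    ⟨fun n hn g => conj_mem_oddGenerated g.2 hn⟩
  haveI : Fact (Nat.Prime 2) := ⟨Nat.prime_two⟩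
  have hp : IsPGroup 2 (↥K ⧸ (Cfsg.oddGenerated K).subgroupOf K) := by
    intro q
    obtain ⟨x, rfl⟩ := QuotientGroup.mk'_surjective _ q
    obtain ⟨a, m, hm, ham⟩ := Nat.exists_eq_two_pow_mul_odd (orderOf_pos x).ne'
    refine ⟨a, ?_⟩
    rw [← map_pow]
    refine (QuotientGroup.eq_one_iff _).2 (Subgroup.subset_closure ⟨(x ^ 2 ^ a).2, ?_⟩)
    rw [orderOf_injective K.subtype K.subtype_injective,
      orderOf_pow, ham, Nat.gcd_eq_right (Dvd.intro m rfl),
      Nat.mul_div_cancel_left _ (pow_pos two_pos _)]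
    exact hm
  haveI := hp.isNilpotent
  haveI : Group.IsPerfect ↥K := Subgroup.isPerfect_iff.2 hK
  haveI hperf : Group.IsPerfect (↥K ⧸ (Cfsg.oddGenerated K).subgroupOf K) := inferInstance
  intro x hx
  suffices h : (⟨x, hx⟩ : ↥K) ∈ (Cfsg.oddGenerated K).subgroupOf K from h
  refine (QuotientGroup.eq_one_iff _).1 ?_
  by_contra hne
  haveI : Nontrivial (↥K ⧸ (Cfsg.oddGenerated K).subgroupOf K) := ⟨_, _, hne⟩
  exact Group.IsPerfect.not_isSolvable (↥K ⧸ (Cfsg.oddGenerated K).subgroupOf K) inferInstance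

theorem isCharP_of_equiv {p : ℕ} [Fact p.Prime] {A B : Type*} [Group A] [Group B] [Finite A] [Finite B]
    (e : A ≃* B) (h : CfsgLib.LocalEvenCharP.IsCharP p A) : CfsgLib.LocalEvenCharP.IsCharP p B := by
  refine CfsgLib.LocalEvenCharP.isCharP_of_forall fun c hc hcent => ?_
  have := h.eq_one (c := e.symm c) (by rwa [e.symm.orderOf_eq]) fun x hx => e.injective ?_
  · simpa using congrArg e this
  · have hex : e x ∈ Cfsg.pCore p B := by
      rw [← CfsgLib.PCore.map_pCore_equiv e]; exact ⟨x, hx, rfl⟩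
    simpa using hcent _ hex

/-- The subgroup `W` of a group `H`: involutions of the centre of `O₂(H)`. -/
abbrev bigW (H : Subgroup G) : Subgroup G :=
  Cfsg.omegaOne 2 (Cfsg.pCoreTwoOf H ⊓ centralizer (Cfsg.pCoreTwoOf H : Set G))

omit [Finite G] in
theorem omegaOne_center_isElementary (A : Subgroup G) :
    Cfsg.omegaOne 2 (A ⊓ centralizer (A : Set G)) ≤ A ⊓ centralizer (A : Set G) ∧
      ∀ x ∈ Cfsg.omegaOne 2 (A ⊓ centralizer (A : Set G)), x ^ 2 = 1 := by
  have h1 : Cfsg.omegaOne 2 (A ⊓ centralizer (A : Set G)) ≤ A ⊓ centralizer (A : Set G) :=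
    (Subgroup.closure_le _).2 fun x hx => hx.1
  refine ⟨h1, fun x hx => ?_⟩
  refine Subgroup.closure_induction (p := fun x _ => x ^ 2 = 1) (fun y hy => hy.2) (one_pow 2) ?_ ?_ hx
  · intro a b ha hb iha ihb
    have : Commute a b := ((mem_centralizer_iff.1 (h1 hb).2 a (h1 ha).1) : a * b = b * a)
    rw [this.mul_pow, iha, ihb, one_mul]
  · intro a _ iha
    rw [inv_pow, iha, inv_one]

omit [Finite G] in
theorem normalizer_le_normalizer_omega (A : Subgroup G) {g : G} (hg : g ∈ normalizer (A : Set G)) :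
    g ∈ normalizer (Cfsg.omegaOne 2 (A ⊓ centralizer (A : Set G)) : Set G) := by
  have key : ∀ g ∈ normalizer (A : Set G), ∀ x ∈ Cfsg.omegaOne 2 (A ⊓ centralizer (A : Set G)),
      g * x * g⁻¹ ∈ Cfsg.omegaOne 2 (A ⊓ centralizer (A : Set G)) := by
    intro g hg x hx
    have : Cfsg.omegaOne 2 (A ⊓ centralizer (A : Set G)) ≤
        (Cfsg.omegaOne 2 (A ⊓ centralizer (A : Set G))).comap (MulAut.conj g).toMonoidHom := by
      refine (Subgroup.closure_le _).2 ?_
      rintro y ⟨⟨hyA, hyC⟩, hy2⟩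
      refine Subgroup.subset_closure ⟨⟨(mem_normalizer_iff.1 hg y).1 hyA, ?_⟩, ?_⟩
      · refine mem_centralizer_iff.2 fun a ha => ?_
        have ha' : g⁻¹ * a * g ∈ A := (mem_normalizer_iff''.1 hg a).1 ha
        have hc : g⁻¹ * a * g * y = y * (g⁻¹ * a * g) := mem_centralizer_iff.1 hyC _ ha'
        calc a * (g * y * g⁻¹) = g * (g⁻¹ * a * g * y) * g⁻¹ := by group
          _ = g * y * g⁻¹ * a := by rw [hc]; group
      · show (g * y * g⁻¹) ^ 2 = 1
        rw [conj_pow, hy2, mul_one, mul_inv_cancel]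
    exact this hx
  rw [mem_normalizer_iff]
  intro x
  refine ⟨key g hg x, fun h => ?_⟩
  simpa [mul_assoc] using key g⁻¹ (inv_mem hg) _ h

variable {T : Sylow 2 G}

theorem pCoreTwoOf_le_sylow {K : Subgroup G} (hK : K ∈ Cfsg.calL (T : Subgroup G)) :
    Cfsg.pCoreTwoOf (K ⊔ (T : Subgroup G)) ≤ (T : Subgroup G) := by
  haveI : Fact (Nat.Prime 2) := ⟨Nat.prime_two⟩
  obtain ⟨-, ⟨P, hP⟩, -⟩ := hK
  rintro _ ⟨y, hy, rfl⟩
  have := CfsgLib.PCore.pCore_le_sylow P hy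
  rw [hP] at this
  exact this

theorem charP_sup (hE : Cfsg.IsOfEvenCharacteristic G) {K : Subgroup G}
    (hK : K ∈ Cfsg.calL (T : Subgroup G)) :
    CfsgLib.LocalEvenCharP.IsCharP 2 ↥(K ⊔ (T : Subgroup G)) := by
  haveI : Fact (Nat.Prime 2) := ⟨Nat.prime_two⟩
  set H := K ⊔ (T : Subgroup G) with hH
  set R := Cfsg.pCoreTwoOf H with hR
  have hRT : R ≤ (T : Subgroup G) := pCoreTwoOf_le_sylow hK
  have hRne : R ≠ ⊥ := by
    rw [hR, Cfsg.pCoreTwoOf, Ne, Subgroup.map_eq_bot_iff_of_injective _ H.subtype_injective]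
    exact hK.2.2
  have hHN : H ≤ normalizer (R : Set G) := CfsgLib.LocalEvenCharP.le_normalizer_pCoreOf 2 H
  have hRp : IsPGroup 2 ↥R := T.2.to_le hRT
  obtain ⟨x, hxR, hx1, hxT⟩ := exists_fixed_mod hRp T.2 (le_sup_right.trans hHN)
    (S := (⊥ : Subgroup G)) (fun h => hRne (le_bot_iff.1 h))
  have hZ : R ⊓ ((T : Subgroup G) ⊓ centralizer ((T : Subgroup G) : Set G)) ≠ ⊥ := by
    refine fun hb => hx1 (hb ▸ ⟨hxR, hRT hxR, mem_centralizer_iff.2 fun t ht => ?_⟩)
    have := hxT t ht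
    rw [mem_bot, mul_inv_eq_one, mul_inv_eq_iff_eq_mul] at this
    exact this
  have hN := CfsgLib.Classif.isCharP_normalizer_of_evenCharacteristic hE T hRp hZ
  refine CfsgLib.LocalEvenCharP.isCharP_subgroup fun c hcH hc hcent => ?_
  refine hN.eq_one_subgroup (hHN hcH) hc fun y hy => hcent y ?_
  set R' := Cfsg.pCoreOf 2 (normalizer (R : Set G)) with hR'
  have hR'T : R' ≤ (T : Subgroup G) := by
    rintro _ ⟨z, hz, rfl⟩
    exact CfsgLib.PCore.pCore_le_sylow (T.subtype (le_sup_right.trans hHN)) hz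
  exact CfsgLib.LocalEvenCharP.le_pCoreOf (hR'T.trans le_sup_right)
    (hHN.trans (CfsgLib.LocalEvenCharP.le_normalizer_pCoreOf 2 _))
    (CfsgLib.LocalEvenCharP.isPGroup_pCoreOf 2 _) hy

theorem charP_member (hE : Cfsg.IsOfEvenCharacteristic G) {K : Subgroup G}
    (hK : K ∈ Cfsg.calL (T : Subgroup G)) : CfsgLib.LocalEvenCharP.IsCharP 2 ↥K := by
  haveI : Fact (Nat.Prime 2) := ⟨Nat.prime_two⟩
  exact isCharP_of_equiv (Subgroup.subgroupOfEquivOfLe le_sup_left)
    ((charP_sup hE hK).of_isSubnormal hK.1.2.2.1)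

theorem perfect_member {K : Subgroup G} (hK : K ∈ Cfsg.calL (T : Subgroup G)) :
    K ≠ ⊥ ∧ ⁅K, K⁆ = K := by
  obtain ⟨h1, h2, -, -⟩ := hK.1
  have hm := Subgroup.map_subgroupOf_eq_of_le (le_sup_left : K ≤ K ⊔ (T : Subgroup G))
  refine ⟨fun h => h1 ?_, ?_⟩
  · rw [h]; exact Subgroup.bot_subgroupOf _
  · conv_rhs => rw [← hm, ← h2, Subgroup.map_commutator, hm]

theorem normalizes_member {K : Subgroup G} (hK : K ∈ Cfsg.calL (T : Subgroup G)) :
    Cfsg.pCoreTwoOf (K ⊔ (T : Subgroup G)) ≤ normalizer (K : Set G) := by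
  haveI : Fact (Nat.Prime 2) := ⟨Nat.prime_two⟩
  set H := K ⊔ (T : Subgroup G) with hH
  have hodd := oddGenerated_eq_of_perfect (perfect_member hK).2
  have key : ∀ r ∈ Cfsg.pCoreTwoOf H, ∀ x ∈ K, r * x * r⁻¹ ∈ K := by
    rintro _ ⟨r, hr, rfl⟩ x hx
    have hsub : K ≤ K.comap (MulAut.conj (r : G)).toMonoidHom := by
      conv_lhs => rw [← hodd]
      refine (Subgroup.closure_le _).2 ?_
      rintro y ⟨hy, ho⟩
      have h1 : r * ⟨y, le_sup_left (b := (T : Subgroup G)) hy⟩ * r⁻¹ ∈ K.subgroupOf H := by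
        refine odd_mem_of_subnormal (CfsgLib.PCore.pCore_isPGroup (p := 2)) hK.1.2.2.1 ?_ ?_
        · refine mul_mem (mul_mem (le_sup_right (a := K.subgroupOf H) hr) ?_)
            (inv_mem (le_sup_right (a := K.subgroupOf H) hr))
          exact le_sup_left (b := Cfsg.pCore 2 ↥H) (show _ ∈ K.subgroupOf H from hy)
        · rw [show r * ⟨y, le_sup_left (b := (T : Subgroup G)) hy⟩ * r⁻¹ =
              (MulAut.conj r).toMonoidHom ⟨y, le_sup_left (b := (T : Subgroup G)) hy⟩ from rfl,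
            orderOf_injective _ (MulAut.conj r).injective, Subgroup.orderOf_mk]
          exact ho
      exact h1
    exact hsub hx
  intro r hr
  rw [mem_normalizer_iff]
  intro x
  refine ⟨key r hr x, fun h => ?_⟩
  simpa [mul_assoc] using key r⁻¹ (inv_mem hr) _ h

theorem pCoreTwoOf_member_le {K : Subgroup G} (hK : K ∈ Cfsg.calL (T : Subgroup G)) :
    Cfsg.pCoreTwoOf K ≤ Cfsg.pCoreTwoOf (K ⊔ (T : Subgroup G)) := by
  haveI : Fact (Nat.Prime 2) := ⟨Nat.prime_two⟩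
  set H := K ⊔ (T : Subgroup G) with hH
  rintro _ ⟨y, hy, rfl⟩
  refine ⟨⟨y, le_sup_left (b := (T : Subgroup G)) y.2⟩, ?_, rfl⟩
  refine CfsgLib.PCore.map_pCore_subtype_of_isSubnormal hK.1.2.2.1 ⟨⟨⟨y, _⟩, y.2⟩, ?_, rfl⟩
  rw [← CfsgLib.PCore.map_pCore_equiv (Subgroup.subgroupOfEquivOfLe (le_sup_left : K ≤ H)).symm]
  exact ⟨y, hy, rfl⟩

omit [Finite G] in
theorem mem_bigW {H : Subgroup G} {x : G} (hx : x ∈ Cfsg.pCoreTwoOf H)
    (hc : ∀ r ∈ Cfsg.pCoreTwoOf H, r * x = x * r) (h2 : x ^ 2 = 1) : x ∈ bigW H :=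
  Subgroup.subset_closure ⟨⟨hx, mem_centralizer_iff.2 hc⟩, h2⟩

theorem mem_bigW_of_commute (hE : Cfsg.IsOfEvenCharacteristic G) {K : Subgroup G}
    (hK : K ∈ Cfsg.calL (T : Subgroup G)) {x : G} (hx : x ∈ K ⊔ (T : Subgroup G))
    (hc : ∀ r ∈ Cfsg.pCoreTwoOf (K ⊔ (T : Subgroup G)), r * x = x * r) (h2 : x ^ 2 = 1) :
    x ∈ bigW (K ⊔ (T : Subgroup G)) := by
  refine mem_bigW ?_ hc h2
  refine ⟨⟨x, hx⟩, charP_sup hE hK (mem_centralizer_iff.2 fun r hr => Subtype.ext ?_), rfl⟩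
  exact hc r ⟨r, hr, rfl⟩

theorem faithful_on_bigW (hE : Cfsg.IsOfEvenCharacteristic G) {L : Subgroup G}
    (hL : L ∈ Cfsg.calL (T : Subgroup G)) (hV : Cfsg.moduleV L ≠ ⊥) :
    ¬ L ≤ centralizer (bigW (L ⊔ (T : Subgroup G)) : Set G) := by
  intro hcentW
  haveI : Fact (Nat.Prime 2) := ⟨Nat.prime_two⟩
  apply hV
  set R := Cfsg.pCoreTwoOf (L ⊔ (T : Subgroup G)) with hR
  set WL := bigW L with hWL
  obtain ⟨hWL1, hWL2⟩ := omegaOne_center_isElementary (Cfsg.pCoreTwoOf L)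
  have hLnA : L ≤ normalizer (Cfsg.pCoreTwoOf L : Set G) :=
    CfsgLib.LocalEvenCharP.le_normalizer_pCoreOf 2 L
  rw [Cfsg.moduleV, commutator_eq_bot_iff_le_centralizer]
  change WL ≤ centralizer (L : Set G)
  by_contra hnle
  have hRn : R ≤ normalizer (WL : Set G) := by
    intro r hr
    refine normalizer_le_normalizer_omega _ ?_
    have hrL := normalizes_member hL hr
    have key : ∀ r ∈ normalizer (L : Set G), ∀ y ∈ Cfsg.pCoreTwoOf L, r * y * r⁻¹ ∈ Cfsg.pCoreTwoOf L := by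
      rintro r hr _ ⟨y, hy, rfl⟩
      let e : ↥L ≃* ↥L :=
        { toFun := fun z => ⟨r * z * r⁻¹, (mem_normalizer_iff.1 hr z).1 z.2⟩
          invFun := fun z => ⟨r⁻¹ * z * r, (mem_normalizer_iff''.1 hr z).1 z.2⟩
          left_inv := fun z => Subtype.ext (by simp [mul_assoc])
          right_inv := fun z => Subtype.ext (by simp [mul_assoc])
          map_mul' := fun a b => Subtype.ext (by simp [mul_assoc]) }
      refine ⟨e y, ?_, rfl⟩
      rw [← CfsgLib.PCore.map_pCore_equiv e]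
      exact ⟨y, hy, rfl⟩
    rw [mem_normalizer_iff]
    intro y
    refine ⟨key r hrL y, fun h => ?_⟩
    simpa [mul_assoc] using key r⁻¹ (inv_mem hrL) _ h
  have hWp : IsPGroup 2 ↥WL := fun x => ⟨1, Subtype.ext (by simpa using hWL2 x x.2)⟩
  obtain ⟨x, hxW, hxS, hxR⟩ := exists_fixed_mod hWp (T.2.to_le (pCoreTwoOf_le_sylow hL)) hRn hnle
  apply hxS
  -- every commutator of `x` with `L` is centralized by `L`
  have hy : ∀ l ∈ L, l * x * l⁻¹ * x⁻¹ ∈ centralizer (L : Set G) := by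
    intro l hl
    have hlW : l * x * l⁻¹ ∈ WL :=
      (mem_normalizer_iff.1 (normalizer_le_normalizer_omega _ (hLnA hl)) x).1 hxW
    set y := l * x * l⁻¹ * x⁻¹ with hy
    have hyW : y ∈ WL := mul_mem hlW (inv_mem hxW)
    have hyfix : ∀ r ∈ R, r * y = y * r := by
      intro r hr
      obtain ⟨s, hs, hsx⟩ : ∃ s ∈ centralizer (L : Set G), r * x * r⁻¹ = s * x :=
        ⟨r * x * r⁻¹ * x⁻¹, hxR r hr, by group⟩
      -- `r l r⁻¹` acts on `W` like `l`
      set o := l⁻¹ * (r * l * r⁻¹) with ho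
      have hoL : o ∈ L := mul_mem (inv_mem hl) ((mem_normalizer_iff.1 (normalizes_member hL hr) l).1 hl)
      have hoR : o ∈ R := by
        have h1 := (mem_normalizer_iff.1 (CfsgLib.LocalEvenCharP.le_normalizer_pCoreOf 2
          (L ⊔ (T : Subgroup G)) (le_sup_left (b := (T : Subgroup G)) (inv_mem hl))) r).1 hr
        have h2 := mul_mem h1 (inv_mem hr)
        rw [inv_inv] at h2
        have h3 : o = l⁻¹ * r * l * r⁻¹ := by rw [ho]; group
        rw [h3]
        simpa [hR, Cfsg.pCoreTwoOf, Cfsg.pCoreOf, mul_assoc] using mul_mem h1 (inv_mem hr)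
      have hoA : o ∈ Cfsg.pCoreTwoOf L := by
        obtain ⟨z, hz, hzo⟩ := hoR
        have h1 : (⟨o, le_sup_left (b := (T : Subgroup G)) hoL⟩ : ↥(L ⊔ (T : Subgroup G))) ∈
            L.subgroupOf (L ⊔ (T : Subgroup G)) ⊓ Cfsg.pCore 2 ↥(L ⊔ (T : Subgroup G)) :=
          ⟨hoL, by rwa [show (⟨o, _⟩ : ↥(L ⊔ (T : Subgroup G))) = z from Subtype.ext hzo.symm]⟩
        obtain ⟨w, hw, hwo⟩ := CfsgLib.PCore.inf_pCore_le_map _ h1
        refine ⟨Subgroup.subgroupOfEquivOfLe le_sup_left w, ?_, ?_⟩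
        · rw [← CfsgLib.PCore.map_pCore_equiv (Subgroup.subgroupOfEquivOfLe (le_sup_left : L ≤ L ⊔ (T : Subgroup G)))]
          exact ⟨w, hw, rfl⟩
        · exact congrArg Subtype.val hwo
      have hox : Commute o x := ((mem_centralizer_iff.1 (hWL1 hxW).2 o hoA) : o * x = x * o)
      have hos : Commute o s := mem_centralizer_iff.1 hs o hoL
      have hls : Commute l s := mem_centralizer_iff.1 hs l hl
      have hrl : r * l * r⁻¹ = l * o := by rw [ho]; group
      have e1 : o * (s * x) * o⁻¹ = s * x := by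
        rw [(hos.mul_right hox).eq]; group
      calc r * y = (r * l * r⁻¹) * (r * x * r⁻¹) * (r * l * r⁻¹)⁻¹ * (r * x * r⁻¹)⁻¹ * r := by
            rw [hy]; group
        _ = l * (o * (s * x) * o⁻¹) * l⁻¹ * (s * x)⁻¹ * r := by rw [hsx, hrl]; group
        _ = (l * s * l⁻¹) * (l * x * l⁻¹) * x⁻¹ * s⁻¹ * r := by rw [e1]; group
        _ = s * y * s⁻¹ * r := by rw [hls.eq, hy]; group
        _ = y * r := by
          have hsW : s ∈ WL := by
            have h1 := mul_mem ((mem_normalizer_iff.1 (hRn hr) x).1 hxW) (inv_mem hxW)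
            rw [hsx] at h1
            simpa using h1
          have : Commute s y := ((mem_centralizer_iff.1 (hWL1 hyW).2 s (hWL1 hsW).1) : s * y = y * s)
          rw [this.eq]; group
    have hyR : y ∈ bigW (L ⊔ (T : Subgroup G)) :=
      mem_bigW_of_commute hE hL (le_sup_left (b := (T : Subgroup G))
        (mul_mem (mul_mem (mul_mem hl (Subgroup.map_subtype_le _ (hWL1 hxW).1)) (inv_mem hl))
          (inv_mem (Subgroup.map_subtype_le _ (hWL1 hxW).1)))) hyfix (hWL2 y hyW)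
    exact mem_centralizer_iff.2 fun m hm => (mem_centralizer_iff.1 (hcentW hm) y hyR).symm
  have h2 : ⁅⁅L, zpowers x⁆, L⁆ = ⊥ := by
    rw [commutator_eq_bot_iff_le_centralizer, commutator_le]
    intro l hl z hz
    obtain ⟨n, rfl⟩ := mem_zpowers_iff.1 hz
    set C := centralizer (L : Set G) with hC
    have hmem : x ∈ WL := hxW
    -- induction on the exponent
    have hstep : ∀ n : ℕ, l * x ^ n * l⁻¹ * (x ^ n)⁻¹ ∈ C := by
      intro n
      induction n with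
      | zero => simp
      | succ n ih =>
        have h1 := hy l hl
        have hc : Commute (x ^ n) (l * x * l⁻¹ * x⁻¹) := by
          have hlW : l * x * l⁻¹ ∈ WL :=
            (mem_normalizer_iff.1 (normalizer_le_normalizer_omega _ (hLnA hl)) x).1 hxW
          exact mem_centralizer_iff.1 (hWL1 (mul_mem hlW (inv_mem hxW))).2 _ (hWL1 (pow_mem hxW n)).1
        have heq : l * x ^ (n + 1) * l⁻¹ * (x ^ (n + 1))⁻¹ =
            (l * x ^ n * l⁻¹ * (x ^ n)⁻¹) * (l * x * l⁻¹ * x⁻¹) := by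
          calc l * x ^ (n + 1) * l⁻¹ * (x ^ (n + 1))⁻¹
              = (l * x ^ n * l⁻¹ * (x ^ n)⁻¹) * (x ^ n * (l * x * l⁻¹ * x⁻¹)) * (x ^ n)⁻¹ := by
                rw [pow_succ]; group
            _ = _ := by rw [hc.eq]; group
        rw [heq]; exact mul_mem ih h1
    obtain ⟨m, hm⟩ : ∃ m : ℕ, x ^ m = x ^ n := mem_powers_iff_mem_zpowers.2 (zpow_mem_zpowers x n)
    rw [commutatorElement_def, ← hm]
    exact hstep m
  have := CfsgLib.Components.commutator_eq_bot_of_perfect (perfect_member hL).2 h2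
  rw [commutator_comm, commutator_eq_bot_iff_le_centralizer] at this
  exact this (mem_zpowers x)

theorem moduleV_ne_bot {K : Subgroup G} (hK : K ∈ Cfsg.calL (T : Subgroup G))
    (h : ¬ K ≤ centralizer (bigW (K ⊔ (T : Subgroup G)) : Set G)) : Cfsg.moduleV K ≠ ⊥ := by
  intro hV
  haveI : Fact (Nat.Prime 2) := ⟨Nat.prime_two⟩
  apply h
  set H := K ⊔ (T : Subgroup G) with hH
  obtain ⟨hW1, hW2⟩ := omegaOne_center_isElementary (Cfsg.pCoreTwoOf H)
  have hWK : ⁅K, bigW H⁆ ≤ bigW K := by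
    rw [commutator_le]
    intro k hk w hw
    have hkW : k * w * k⁻¹ ∈ bigW H := (mem_normalizer_iff.1 (normalizer_le_normalizer_omega _
      (CfsgLib.LocalEvenCharP.le_normalizer_pCoreOf 2 H (le_sup_left (b := (T : Subgroup G)) hk))) w).1 hw
    have hy : k * w * k⁻¹ * w⁻¹ ∈ bigW H := mul_mem hkW (inv_mem hw)
    have hyK : k * w * k⁻¹ * w⁻¹ ∈ K := by
      have h1 := (mem_normalizer_iff.1 (normalizes_member hK (hW1 hw).1) k⁻¹).1 (inv_mem hk)
      have := mul_mem hk h1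
      simpa [mul_assoc] using this
    rw [commutatorElement_def]
    refine mem_bigW ?_ (fun r hr => ?_) (hW2 _ hy)
    · obtain ⟨z, hz, hzo⟩ := (hW1 hy).1
      have h1 : (⟨_, le_sup_left (b := (T : Subgroup G)) hyK⟩ : ↥H) ∈ K.subgroupOf H ⊓ Cfsg.pCore 2 ↥H :=
        ⟨hyK, by rwa [show (⟨_, _⟩ : ↥H) = z from Subtype.ext hzo.symm]⟩
      obtain ⟨v, hv, hvo⟩ := CfsgLib.PCore.inf_pCore_le_map _ h1
      refine ⟨Subgroup.subgroupOfEquivOfLe le_sup_left v, ?_, ?_⟩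
      · rw [← CfsgLib.PCore.map_pCore_equiv (Subgroup.subgroupOfEquivOfLe (le_sup_left : K ≤ H))]
        exact ⟨v, hv, rfl⟩
      · exact congrArg Subtype.val hvo
    · exact mem_centralizer_iff.1 (hW1 hy).2 r (pCoreTwoOf_member_le hK hr)
  have h2 : ⁅⁅K, bigW H⁆, K⁆ = ⊥ := le_bot_iff.1 ((commutator_mono hWK le_rfl).trans hV.le)
  exact commutator_eq_bot_iff_le_centralizer.1
    (CfsgLib.Components.commutator_eq_bot_of_perfect (perfect_member hK).2 h2)

end helpers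

/-- Let G be a non-abelian finite simple QTKE-group and T a Sylow 2-subgroup of G, and let L be a member of ℒ_f(G, T) (a member of ℒ(G, T) that lies in 𝒳 — L ≠ 1, L = O²(L), F*(L) = O₂(L) — and acts nontrivially on Ω₁(Z(O₂(L)))). Then (1) every member K of ℒ(G, T) containing L is again in ℒ_f(G, T) (a sharper form of (1) also compares the modules [Ω₁(Z(R)), L] and [Ω₁(Z(R')), K] for suitable 2-subgroups R, R'; that comparison is not included); and (2) if L is maximal under inclusion among the members of ℒ_f(G, T), then L is a maximal member of ℒ(G, T), hence a member of ℒ_f*(G, T). -/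
theorem result {G : Type*} [Group G] [Finite G] [IsSimpleGroup G]
    (hG : ¬ IsMulCommutative G) (hQ : Cfsg.IsQTKE G) (T : Sylow 2 G) (L : Subgroup G)
    (hL : L ∈ Cfsg.calLf (T : Subgroup G)) :
    (∀ K ∈ Cfsg.calL (T : Subgroup G), L ≤ K → K ∈ Cfsg.calLf (T : Subgroup G)) ∧
    ((∀ K ∈ Cfsg.calLf (T : Subgroup G), L ≤ K → K = L) → L ∈ Cfsg.calLfMax (T : Subgroup G)) := by
  haveI : Fact (Nat.Prime 2) := ⟨Nat.prime_two⟩
  have hup : ∀ K ∈ Cfsg.calL (T : Subgroup G), L ≤ K → K ∈ Cfsg.calLf (T : Subgroup G) := by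
    intro K hK hLK
    obtain ⟨hne, hperf⟩ := perfect_member hK
    refine ⟨hK, ⟨hne, oddGenerated_eq_of_perfect hperf,
      CfsgLib.Classif.mem_calHe_of_isCharP (charP_member hQ.2.2 hK)⟩, ?_⟩
    refine moduleV_ne_bot hK fun hcent => ?_
    refine faithful_on_bigW hQ.2.2 hL.1 hL.2.2 (hLK.trans (hcent.trans (Subgroup.centralizer_le ?_)))
    intro x hx
    obtain ⟨h1, h2⟩ := omegaOne_center_isElementary (Cfsg.pCoreTwoOf (L ⊔ (T : Subgroup G)))
    have hle : L ⊔ (T : Subgroup G) ≤ K ⊔ (T : Subgroup G) := sup_le_sup_right hLK _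
    have hRR : Cfsg.pCoreTwoOf (K ⊔ (T : Subgroup G)) ≤ Cfsg.pCoreTwoOf (L ⊔ (T : Subgroup G)) :=
      CfsgLib.LocalEvenCharP.le_pCoreOf ((pCoreTwoOf_le_sylow hK).trans le_sup_right)
        (hle.trans (CfsgLib.LocalEvenCharP.le_normalizer_pCoreOf 2 _))
        (CfsgLib.LocalEvenCharP.isPGroup_pCoreOf 2 _)
    exact mem_bigW_of_commute hQ.2.2 hK (hle (Subgroup.map_subtype_le _ (h1 hx).1))
      (fun r hr => Subgroup.mem_centralizer_iff.1 (h1 hx).2 r (hRR hr)) (h2 x hx)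
  exact ⟨hup, fun hmax => ⟨⟨hL.1, fun K hK hLK => hmax K (hup K hK hLK) hLK⟩, hL.2⟩⟩

end Cfsg.Agent.S1851
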