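import Cfsg.Statements.S1892
import Cfsg.Agent.Lib.PCore.PSolvable
set_option autoImplicit false
open Cfsg
open scoped commutatorElement

namespace Cfsg.Agent.S1892

/-- Let S be a finite p-solvable group with no nontrivial normal subgroup of order prime to p, A a p-subgroup of S, and Q a nontrivial A-invariant subgroup of order prime to p with [A, Q] = Q. Then the commutator [O_p(S), A, Q] is nontrivial. -/
theorem result {S : Type*} [Group S] [Finite S] {p : ℕ} [Fact p.Prime]
    (hS : Cfsg.IsPSolvable p S) (hred : Cfsg.pPrimeCore p S = ⊥)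
    (A Q : Subgroup S) (hA : IsPGroup p A) (hQ : ¬ p ∣ Nat.card Q) (hQ1 : Q ≠ ⊥)
    (hinv : ∀ a ∈ A, ∀ x ∈ Q, a * x * a⁻¹ ∈ Q) (hAQ : ⁅A, Q⁆ = Q) :
    ⁅⁅Cfsg.pCore p S, A⁆, Q⁆ ≠ ⊥ := by
  intro hbot
  set U := Cfsg.pCore p S with hU
  haveI hUn : U.Normal := inferInstance
  set X := ⁅U, A⁆ with hX
  have hXU : X ≤ U := Subgroup.commutator_le_left U A
  have hNX : ∀ s : S, s ∈ A ∨ s ∈ Q → s ∈ Subgroup.normalizer (X : Set S) := by
    rintro s (hs | hs)
    · have key : ∀ s ∈ A, ∀ x ∈ X, s * x * s⁻¹ ∈ X := by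
        intro s hs x hx
        have hle : X ≤ X.comap (MulAut.conj s).toMonoidHom := by
          rw [hX, Subgroup.commutator_le]
          intro u hu b hb
          show (MulAut.conj s).toMonoidHom ⁅u, b⁆ ∈ ⁅U, A⁆
          rw [map_commutatorElement]
          exact Subgroup.commutator_mem_commutator (hUn.conj_mem u hu s) (mul_mem (mul_mem hs hb) (inv_mem hs))
        exact hle hx
      rw [Subgroup.mem_normalizer_iff]
      exact fun x => ⟨key s hs x, fun h => by simpa [mul_assoc] using key s⁻¹ (inv_mem hs) _ h⟩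
    · refine Subgroup.centralizer_le_normalizer _ ?_
      rw [Subgroup.mem_centralizer_iff]
      intro x hx
      have := Subgroup.commutator_mem_commutator hx hs
      rw [hbot, Subgroup.mem_bot, commutatorElement_def, mul_inv_eq_one, mul_inv_eq_iff_eq_mul] at this
      exact this
  let K : Subgroup S :=
    { carrier := {s | s ∈ Subgroup.normalizer (X : Set S) ∧ ∀ u ∈ U, s * u * s⁻¹ * u⁻¹ ∈ X}
      one_mem' := ⟨one_mem _, fun u _ => by simp⟩
      mul_mem' := fun {s t} hs ht => ⟨mul_mem hs.1 ht.1, fun u hu => by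
        have h1 := (Subgroup.mem_normalizer_iff.mp hs.1 _).mp (ht.2 u hu)
        have h2 := mul_mem h1 (hs.2 u hu)
        simpa [mul_assoc] using h2⟩
      inv_mem' := fun {s} hs => ⟨inv_mem hs.1, fun u hu => by
        have h := hs.2 (s⁻¹ * u * s) (by simpa using hUn.conj_mem u hu s⁻¹)
        have h2 := inv_mem h
        simpa [mul_assoc] using h2⟩ }
  have hA' : A ≤ K := fun a ha => ⟨hNX a (Or.inl ha), fun u hu => by
    have := inv_mem (Subgroup.commutator_mem_commutator hu ha)
    rw [commutatorElement_inv, commutatorElement_def] at this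
    exact this⟩
  have hQK : Q ≤ K := by
    rw [← hAQ, Subgroup.commutator_le]
    intro a ha q hq
    have h2 : q * a⁻¹ * q⁻¹ ∈ K := by
      refine ⟨mul_mem (mul_mem (hNX q (Or.inr hq)) (hNX _ (Or.inl (inv_mem ha)))) (inv_mem (hNX q (Or.inr hq))), fun u hu => ?_⟩
      have h := (hA' (inv_mem ha)).2 (q⁻¹ * u * q) (by simpa using hUn.conj_mem u hu q⁻¹)
      have h3 := (Subgroup.mem_normalizer_iff.mp (hNX q (Or.inr hq)) _).mp h
      simpa [mul_assoc] using h3
    have := mul_mem (hA' ha) h2
    simpa [commutatorElement_def, mul_assoc] using this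
  have hQC : Q ≤ Subgroup.centralizer (U : Set S) := by
    intro q hq
    rw [Subgroup.mem_centralizer_iff]
    intro u hu
    set c := q * u * q⁻¹ * u⁻¹ with hc
    have hcX : c ∈ X := (hQK hq).2 u hu
    have hcq : Commute q c := by
      have := Subgroup.commutator_mem_commutator hcX hq
      rw [hbot, Subgroup.mem_bot, commutatorElement_def, mul_inv_eq_one, mul_inv_eq_iff_eq_mul] at this
      exact this.symm
    have hpow : ∀ j : ℕ, q ^ j * u = c ^ j * u * q ^ j := by
      intro j
      induction j with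
      | zero => simp
      | succ j ihj =>
        have htq : q * u = c * u * q := by rw [hc]; group
        calc q ^ (j + 1) * u = q * (q ^ j * u) := by rw [pow_succ']; group
          _ = q * c ^ j * u * q ^ j := by rw [ihj]; group
          _ = c ^ j * (q * u) * q ^ j := by rw [(hcq.pow_right j).eq]; group
          _ = c ^ (j + 1) * u * q ^ (j + 1) := by rw [htq]; group
    have h1 : c ^ orderOf q = 1 := by
      have := hpow (orderOf q)
      rw [pow_orderOf_eq_one, one_mul, mul_one] at this
      exact mul_eq_right.mp this.symm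
    obtain ⟨k, hk⟩ := CfsgLib.PCore.pCore_isPGroup (p := p) (G := S) ⟨c, hXU hcX⟩
    have h2 : c = 1 := orderOf_eq_one_iff.mp (Nat.eq_one_of_dvd_coprimes
      ((((Fact.out : p.Prime).coprime_iff_not_dvd.mpr hQ).symm.coprime_dvd_left
        (Subgroup.orderOf_dvd_natCard Q hq)).pow_right k)
      (orderOf_dvd_of_pow_eq_one h1) (orderOf_dvd_of_pow_eq_one (congrArg Subtype.val hk)))
    rw [hc, mul_inv_eq_one, mul_inv_eq_iff_eq_mul] at h2
    exact h2.symm
  have hQU : Q ≤ U := hQC.trans (CfsgLib.PCore.centralizer_pCore_le hS hred)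
  exact hQ1 (le_bot_iff.mp ((le_inf hQU le_rfl).trans
    (CfsgLib.PCore.inf_eq_bot_of_isPGroup_coprime CfsgLib.PCore.pCore_isPGroup
      ((Fact.out : p.Prime).coprime_iff_not_dvd.mpr hQ).symm).le))

end Cfsg.Agent.S1892
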