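import Cfsg.Statements.S1894
import Cfsg.Agent.Lib.OddOrder.PuigSeries

set_option autoImplicit false
open Cfsg

namespace Cfsg.Agent.S1894

/-- Let P be a finite p-group, A a normal subgroup of P and B an abelian subgroup of A that is normal in P. Then some subgroup C of A containing B is normal in P and is self-centralizing and normal in A (C ∈ SCN(A)). -/
theorem result {P : Type*} [Group P] [Finite P] {p : ℕ} [Fact p.Prime] (hP : IsPGroup p P)
    (A : Subgroup P) [A.Normal] (B : Subgroup P) [B.Normal] (hBA : B ≤ A) (hB : IsMulCommutative B) :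
    ∃ C : Subgroup P, C.Normal ∧ B ≤ C ∧ Cfsg.IsSCN A C := by
  classical
  haveI : Group.IsNilpotent P := hP.isNilpotent
  obtain ⟨C, -, hC⟩ := Finite.exists_le_maximal
    (p := fun C : Subgroup P => C.Normal ∧ C ≤ A ∧ B ≤ C ∧ IsMulCommutative C) (a := B)
    ⟨inferInstance, hBA, le_rfl, hB⟩
  obtain ⟨hCn, hCA, hBC, hCc⟩ := hC.prop
  haveI := hCn
  refine ⟨C, hCn, hBC, hCA, le_top.trans (Subgroup.normalizer_eq_top_iff.mpr hCn).ge, ?_⟩
  have hCcent : C ≤ Subgroup.centralizer (C : Set P) :=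
    Subgroup.le_centralizer_iff_isMulCommutative.mpr hCc
  refine le_antisymm ?_ (le_inf hCA hCcent)
  by_contra hnot
  haveI : (A ⊓ Subgroup.centralizer (C : Set P)).Normal := inferInstance
  set D := (A ⊓ Subgroup.centralizer (C : Set P)).map (QuotientGroup.mk' C) with hD
  haveI : D.Normal := Subgroup.Normal.map inferInstance _ (QuotientGroup.mk'_surjective C)
  have hD1 : D ≠ ⊥ := by
    rw [hD, Ne, Subgroup.map_eq_bot_iff, QuotientGroup.ker_mk']
    exact hnot
  have hne := CfsgLib.OddOrder.PuigSeries.inf_center_ne_bot (G := P ⧸ C) D hD1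
  obtain ⟨z, hz, hz1⟩ := (Subgroup.bot_or_exists_ne_one _).resolve_left hne
  obtain ⟨x, hx, rfl⟩ := hz.2
  have hEc : IsMulCommutative ↥(C ⊔ Subgroup.zpowers x) := by
    rw [← Subgroup.closure_eq C, Subgroup.zpowers_eq_closure, ← Subgroup.closure_union]
    refine Subgroup.isMulCommutative_closure ?_
    rintro a (ha | rfl) b (hb | rfl)
    · exact Subgroup.mem_centralizer_iff.mp (hCcent hb) a ha
    · exact Subgroup.mem_centralizer_iff.mp hx.2 a ha
    · exact (Subgroup.mem_centralizer_iff.mp hx.2 b hb).symm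
    · rfl
  have hEm : C ⊔ Subgroup.zpowers x
      = (Subgroup.zpowers (QuotientGroup.mk' C x)).comap (QuotientGroup.mk' C) := by
    rw [← MonoidHom.map_zpowers, Subgroup.comap_map_eq, QuotientGroup.ker_mk', sup_comm]
  haveI : (Subgroup.zpowers (QuotientGroup.mk' C x)).Normal := ⟨fun m hm g => by
    have : m ∈ Subgroup.center (P ⧸ C) := (Subgroup.zpowers_le.mpr hz.1) hm
    rwa [Subgroup.mem_center_iff.mp this g, mul_inv_cancel_right]⟩
  have hmax := hC.le_of_ge (show (C ⊔ Subgroup.zpowers x).Normal ∧ C ⊔ Subgroup.zpowers x ≤ A ∧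
      B ≤ C ⊔ Subgroup.zpowers x ∧ IsMulCommutative ↥(C ⊔ Subgroup.zpowers x) from
    ⟨hEm ▸ inferInstance, sup_le hCA (Subgroup.zpowers_le.mpr hx.1), hBC.trans le_sup_left, hEc⟩) le_sup_left
  exact hz1 ((QuotientGroup.eq_one_iff x).mpr (hmax (Subgroup.mem_sup_right (Subgroup.mem_zpowers x))))

end Cfsg.Agent.S1894
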