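import Cfsg.Statements.S1898

set_option autoImplicit false
open Cfsg
open scoped commutatorElement

namespace Cfsg.Agent.S1898

/-- Let X be a finite 2-group whose derived subgroup is elementary abelian and central. Then the subgroup generated by the elements of order dividing 4 has exponent dividing 4, and every automorphism of X fixing each element of order dividing 4 has 2-power order. -/
theorem result {X : Type*} [Group X] [Finite X] (hX : IsPGroup 2 X)
    (hel : Cfsg.IsElementaryAbelian 2 (commutator X)) (hcen : commutator X ≤ Subgroup.center X) :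
    (∀ x ∈ Subgroup.closure {g : X | g ^ 4 = 1}, x ^ 4 = 1) ∧
      ∀ φ : MulAut X, (∀ g : X, g ^ 4 = 1 → φ g = g) → ∃ k : ℕ, φ ^ (2 ^ k) = 1 := by
  classical
  have hsq : ∀ a b : X, ⁅a, b⁆ ^ 2 = 1 := fun a b =>
    hel.2 _ (Subgroup.commutator_mem_commutator (Subgroup.mem_top a) (Subgroup.mem_top b))
  have hc : ∀ a b c : X, c * ⁅a, b⁆ = ⁅a, b⁆ * c := fun a b c =>
    Subgroup.mem_center_iff.mp
      (hcen (Subgroup.commutator_mem_commutator (Subgroup.mem_top a) (Subgroup.mem_top b))) c
  have hswap : ∀ a b : X, b * a = ⁅b, a⁆ * (a * b) := fun a b => by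
    rw [commutatorElement_def]; group
  have hmul2 : ∀ a b : X, (a * b) ^ 2 = ⁅b, a⁆ * (a ^ 2 * b ^ 2) := by
    intro a b
    calc (a * b) ^ 2 = a * (b * a) * b := by rw [pow_two]; group
      _ = a * (⁅b, a⁆ * (a * b)) * b := congrArg (fun t => a * t * b) (hswap a b)
      _ = ⁅b, a⁆ * a * (a * b) * b := by rw [← hc b a a]; group
      _ = ⁅b, a⁆ * (a ^ 2 * b ^ 2) := by simp only [pow_two, mul_assoc]
  have hsqc : ∀ a b : X, b * a ^ 2 = a ^ 2 * b := by
    intro a b
    calc b * a ^ 2 = b * a * a := by rw [pow_two, mul_assoc]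
      _ = ⁅b, a⁆ * (a * b) * a := congrArg (fun t => t * a) (hswap a b)
      _ = ⁅b, a⁆ * a * (b * a) := by group
      _ = ⁅b, a⁆ * a * (⁅b, a⁆ * (a * b)) := congrArg (fun t => ⁅b, a⁆ * a * t) (hswap a b)
      _ = ⁅b, a⁆ * (a * ⁅b, a⁆) * (a * b) := by group
      _ = ⁅b, a⁆ * (⁅b, a⁆ * a) * (a * b) := by rw [hc b a a]
      _ = ⁅b, a⁆ ^ 2 * (a ^ 2 * b) := by simp only [pow_two, mul_assoc]
      _ = a ^ 2 * b := by rw [hsq, one_mul]
  have hmul4 : ∀ a b : X, (a * b) ^ 4 = a ^ 4 * b ^ 4 := by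
    intro a b
    rw [show (4 : ℕ) = 2 * 2 by rfl, pow_mul, hmul2 a b,
      (show Commute ⁅b, a⁆ (a ^ 2 * b ^ 2) from (hc b a _).symm).mul_pow, hsq, one_mul,
      (show Commute (a ^ 2) (b ^ 2) from (hsqc a _).symm).mul_pow, ← pow_mul, ← pow_mul]
  refine ⟨?_, ?_⟩
  · intro x hx
    induction hx using Subgroup.closure_induction with
    | mem y hy => exact hy
    | one => simp
    | mul a b _ _ ha hb => rw [hmul4, ha, hb, one_mul]
    | inv a _ ha => rw [inv_pow, ha, inv_one]
  · intro φ hφ
    -- the 2'-part of φ fixes everything, by induction on the order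
    have key : ∀ (j : ℕ) (ψ : MulAut X), (∀ g : X, g ^ 4 = 1 → ψ g = g) → ∀ m : ℕ, Odd m → ψ ^ m = 1 →
        ∀ x : X, x ^ (2 ^ j) = 1 → ψ x = x := by
      intro j ψ hψ m hm hψm
      induction j with
      | zero => intro x hx; rw [pow_zero, pow_one] at hx; simp [hx]
      | succ j ih =>
        intro x hx
        have h2 : ψ (x ^ 2) = x ^ 2 := ih _ (by rw [← pow_mul, ← pow_succ', hx])
        set δ := x⁻¹ * ψ x with hδ
        have hψx : ψ x = x * δ := by simp [hδ]
        have h3 : ⁅δ, x⁆ * δ ^ 2 = 1 := by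
          have h4 : (x * δ) ^ 2 = x ^ 2 := by rw [← hψx, ← map_pow, h2]
          rw [hmul2, ← mul_assoc, hc δ x (x ^ 2) |>.symm, mul_assoc] at h4
          exact mul_left_cancel (h4.trans (mul_one _).symm)
        have hδ4 : δ ^ 4 = 1 := by
          have h5 : δ ^ 2 = ⁅δ, x⁆⁻¹ := eq_inv_of_mul_eq_one_right h3
          rw [show (4 : ℕ) = 2 * 2 by rfl, pow_mul, h5, inv_pow, hsq, inv_one]
        have hδfix : ψ δ = δ := hψ δ hδ4
        have hit : ∀ i : ℕ, (ψ ^ i) x = x * δ ^ i := by
          intro i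
          induction i with
          | zero => simp
          | succ i ihi =>
            rw [pow_succ', MulAut.mul_apply, ihi, map_mul, map_pow, hψx, hδfix, pow_succ', mul_assoc]
        have hδm : δ ^ m = 1 := by
          have := hit m
          rw [hψm, MulAut.one_apply] at this
          exact mul_left_cancel (this.symm.trans (mul_one x).symm)
        have : δ = 1 := by
          rw [← orderOf_eq_one_iff]
          apply Nat.eq_one_of_dvd_coprimes (a := m) (b := 2 ^ 2)
          · exact Nat.Coprime.pow_right _ (Nat.coprime_two_right.mpr hm)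
          · exact orderOf_dvd_of_pow_eq_one hδm
          · exact orderOf_dvd_of_pow_eq_one (by simpa using hδ4)
        rw [hψx, this, mul_one]
    obtain ⟨k, m, hm, hkm⟩ := Nat.exists_eq_pow_mul_and_not_dvd
      (n := orderOf φ) (orderOf_pos φ).ne' 2 (by decide)
    refine ⟨k, ?_⟩
    ext x
    obtain ⟨j, hj⟩ := hX x
    have hpow : ∀ (i : ℕ) (g : X), g ^ 4 = 1 → (φ ^ i) g = g := by
      intro i g hg
      induction i with
      | zero => simp
      | succ i ih => rw [pow_succ', MulAut.mul_apply, ih, hφ g hg]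
    exact key j (φ ^ 2 ^ k) (hpow _) m (Nat.odd_iff.mpr (by omega))
      (by rw [← pow_mul, ← hkm, pow_orderOf_eq_one]) x hj

end Cfsg.Agent.S1898
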