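import Cfsg.Statements.S1899

set_option autoImplicit false
open Cfsg

namespace Cfsg.Agent.S1899

/-- Let a dihedral group of order 2n, n odd and n > 1, act on a finite abelian 2-group A through automorphisms d and t with d^n = 1, t² = 1 and t d t⁻¹ = d⁻¹, and suppose that d fixes only the identity. Then A is the internal direct product of C_A(t) and its image under d. -/
theorem result {A : Type*} [CommGroup A] [Finite A] (hA : IsPGroup 2 A)
    {n : ℕ} (hn : Odd n) (hn1 : 1 < n) (d t : MulAut A) (hd : d ^ n = 1) (ht : t ^ 2 = 1) (hdt : t * d * t⁻¹ = d⁻¹)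
    (hfix : ∀ a : A, d a = a → a = 1) :
    (MulEquiv.toMonoidHom t).eqLocus (MonoidHom.id A) ⊓ ((MulEquiv.toMonoidHom t).eqLocus (MonoidHom.id A)).map d.toMonoidHom = ⊥ ∧
      (MulEquiv.toMonoidHom t).eqLocus (MonoidHom.id A) ⊔ ((MulEquiv.toMonoidHom t).eqLocus (MonoidHom.id A)).map d.toMonoidHom = ⊤ := by
  classical
  set C := (MulEquiv.toMonoidHom t).eqLocus (MonoidHom.id A) with hC
  have memC : ∀ a : A, a ∈ C ↔ t a = a := fun a => Iff.rfl
  have hpow : ∀ (a : A) (k : ℕ), d a = a → (d ^ k) a = a := by
    intro a k h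
    induction k with
    | zero => simp
    | succ k ih => rw [pow_succ', MulAut.mul_apply, ih, h]
  -- d is determined by its square
  have hd2 : ∀ a : A, d (d a) = a → d a = a := by
    intro a h
    obtain ⟨m, hm⟩ := hn
    have h2 : ∀ k : ℕ, (d ^ (2 * k)) a = a := by
      intro k
      induction k with
      | zero => simp
      | succ k ih =>
        rw [show 2 * (k + 1) = 2 + 2 * k by ring, pow_add, MulAut.mul_apply, ih, pow_two,
          MulAut.mul_apply, h]
    have h3 : (d ^ n) a = a := by rw [hd]; simp
    rw [hm, pow_succ', MulAut.mul_apply, h2] at h3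
    exact h3
  have htd : ∀ a : A, t (d a) = d⁻¹ (t a) := by
    intro a
    rw [← hdt]
    simp [MulAut.mul_apply]
  refine ⟨?_, ?_⟩
  · rw [eq_bot_iff]
    rintro a ⟨ha, c, hc, rfl⟩
    rw [Subgroup.mem_bot]
    have h1 : t (d c) = d c := ha
    have h2 : t c = c := hc
    rw [htd, h2] at h1
    have h4 : d (d c) = c := by
      have := congrArg d h1
      simpa using this.symm
    have h5 := hfix c (hd2 c h4)
    simp [h5]
  · set M := C ⊔ C.map d.toMonoidHom with hM
    rw [eq_top_iff]
    intro a _
    have htt : ∀ x : A, t (t x) = x := by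
      intro x
      rw [← MulAut.mul_apply, ← pow_two, ht]; simp
    -- (1 + t) maps into C
    have hP1 : ∀ x : A, x * t x ∈ C := by
      intro x
      rw [memC, map_mul, htt, mul_comm]
    have hP2 : ∀ x : A, x * d (d (t x)) ∈ M := by
      intro x
      apply Subgroup.mem_sup_right
      refine ⟨d⁻¹ x * d (t x), ?_, by simp⟩
      show t (d⁻¹ x * d (t x)) = d⁻¹ x * d (t x)
      have h1 : t (d⁻¹ x) = d (t x) := by
        have := htd (d⁻¹ x)
        rw [show d (d⁻¹ x) = x by simp] at this
        rw [this]; simp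
      rw [map_mul, h1, htd, htt, mul_comm]
    -- M contains a * (d a)⁻¹ for every a
    have hP3 : ∀ x : A, x * (d (d x))⁻¹ ∈ M := by
      intro x
      have h1 := hP2 x
      have h2 : d (d (x * t x)) ∈ M := by
        have hin : d (x * t x) ∈ M := Subgroup.mem_sup_right ⟨_, hP1 x, rfl⟩
        -- M is stable under d composed twice
        have hMd : ∀ y ∈ M, d (d y) ∈ M := by
          intro y hy
          rw [hM, Subgroup.mem_sup] at hy
          obtain ⟨u, hu, v, ⟨w, hw, rfl⟩, rfl⟩ := hy
          have hu' : d (d u) ∈ M := by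
            have := hP2 u
            rw [show t u = u from hu] at this
            simpa using M.mul_mem (M.inv_mem (Subgroup.mem_sup_left hu)) this
          have hw' : d (d (d w)) ∈ M := by
            have := hP2 (d⁻¹ w)
            have h5 : t (d⁻¹ w) = d w := by
              have h6 := htd (d⁻¹ w)
              rw [show d (d⁻¹ w) = w by simp, show t w = w from hw] at h6
              simpa using (congrArg d h6).symm
            rw [h5] at this
            have h7 : d⁻¹ w ∈ M := by
              have h8 := hP1 (d⁻¹ w)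
              rw [h5] at h8
              have h9 : d w ∈ M := Subgroup.mem_sup_right ⟨w, hw, rfl⟩
              simpa [mul_assoc] using M.mul_mem (Subgroup.mem_sup_left h8) (M.inv_mem h9)
            simpa using M.mul_mem (M.inv_mem h7) this
          rw [map_mul, map_mul]
          exact M.mul_mem hu' hw'
        exact hMd _ (Subgroup.mem_sup_left (hP1 x))
      rw [map_mul, map_mul] at h2
      have := M.mul_mem h1 (M.inv_mem h2)
      convert this using 1
      rw [mul_inv, mul_comm (d (d x))⁻¹, ← mul_assoc, mul_assoc x, mul_inv_cancel, mul_one]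
    obtain ⟨m, hm⟩ := hn
    have hP4 : ∀ (k : ℕ) (x : A), x * ((d ^ (2 * k)) x)⁻¹ ∈ M := by
      intro k x
      induction k with
      | zero => simp
      | succ k ih =>
        have := M.mul_mem ih (hP3 ((d ^ (2 * k)) x))
        rw [show 2 * (k + 1) = 2 + 2 * k by ring, pow_add, MulAut.mul_apply, pow_two, MulAut.mul_apply]
        simpa [mul_assoc] using this
    -- hence a * (d a)⁻¹ ∈ M
    have hP5 : ∀ x : A, x * (d x)⁻¹ ∈ M := by
      intro x
      have := hP4 (m + 1) x
      rwa [show 2 * (m + 1) = 1 + n by rw [hm]; ring, pow_add, hd, mul_one, pow_one] at this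
    have hP6 : ∀ (k : ℕ) (x : A), x * ((d ^ k) x)⁻¹ ∈ M := by
      intro k x
      induction k with
      | zero => simp
      | succ k ih =>
        have := M.mul_mem ih (hP5 ((d ^ k) x))
        rw [pow_succ', MulAut.mul_apply]
        simpa [mul_assoc] using this
    -- the norm of a is trivial
    set N := ∏ i ∈ Finset.range n, (d ^ i) a with hN
    have hN1 : N = 1 := by
      apply hfix
      have h1 : N * (d ^ n) a = a * d N := by
        rw [hN, ← Finset.prod_range_succ (fun i => (d ^ i) a), Finset.prod_range_succ', map_prod]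
        simp only [pow_succ', MulAut.mul_apply, pow_zero, MulAut.one_apply]
        rw [mul_comm]
      rw [hd, MulAut.one_apply, mul_comm] at h1
      exact (mul_left_cancel h1).symm
    have han : a ^ n ∈ M := by
      have h1 : ∏ i ∈ Finset.range n, a * ((d ^ i) a)⁻¹ ∈ M := prod_mem fun i _ => hP6 i a
      rw [Finset.prod_mul_distrib, Finset.prod_inv_distrib, ← hN, hN1] at h1
      simpa using h1
    obtain ⟨k, hk⟩ := hA a
    have hcop : Nat.Coprime n (2 ^ k) := Nat.Coprime.pow_right _ (Nat.coprime_two_right.mpr ⟨m, hm⟩)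
    have hg : a ^ Nat.gcd n (2 ^ k) = 1 * a := by rw [hcop.gcd_eq_one]; simp
    have hb := Nat.gcd_eq_gcd_ab n (2 ^ k)
    have : a = (a ^ n) ^ Nat.gcdA n (2 ^ k) := by
      rw [← zpow_natCast a n, ← zpow_mul]
      rw [hcop.gcd_eq_one] at hb
      calc a = a ^ ((1 : ℕ) : ℤ) := by simp
        _ = a ^ ((n : ℤ) * Nat.gcdA n (2 ^ k)) * (a ^ ((2 ^ k : ℕ) : ℤ)) ^ Nat.gcdB n (2 ^ k) := by
            rw [hb, zpow_add, zpow_mul a ((2 ^ k : ℕ) : ℤ)]
        _ = _ := by rw [zpow_natCast, hk, one_zpow, mul_one]
    rw [this]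
    exact M.zpow_mem han _

end Cfsg.Agent.S1899
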