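import Cfsg.Statements.S1900
import Cfsg.Agent.Lib.Solvable.CoprimeGeneration

set_option autoImplicit false
open Cfsg

namespace Cfsg.Agent.S1900

variable {S : Type*} [Group S] [Finite S]

open scoped commutatorElement

/-- The map `c ↦ c⁻¹ xcx⁻¹` is onto an `x`-invariant finite subgroup without fixed points of `x`. -/
theorem exists_quot_conj {R : Subgroup S} {x : S} (hx : ∀ c ∈ R, x * c * x⁻¹ ∈ R)
    (hfix : ∀ c ∈ R, x * c * x⁻¹ = c → c = 1) {d : S} (hd : d ∈ R) :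
    ∃ c ∈ R, c⁻¹ * (x * c * x⁻¹) = d := by
  let f : R → R := fun c => ⟨(c : S)⁻¹ * (x * c * x⁻¹), mul_mem (inv_mem c.2) (hx _ c.2)⟩
  have hinj : Function.Injective f := by
    intro a b h
    have h' : (a : S)⁻¹ * (x * a * x⁻¹) = (b : S)⁻¹ * (x * b * x⁻¹) := congrArg Subtype.val h
    have h1 : x * ((b : S) * (a : S)⁻¹) * x⁻¹ = (b : S) * (a : S)⁻¹ := by
      calc x * ((b : S) * (a : S)⁻¹) * x⁻¹
          = (b : S) * ((b : S)⁻¹ * (x * b * x⁻¹)) * ((a : S)⁻¹ * (x * a * x⁻¹))⁻¹ * (a : S)⁻¹ := by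
            group
        _ = _ := by rw [h']; group
    exact Subtype.ext (inv_inj.1 (eq_inv_of_mul_eq_one_right (hfix _ (mul_mem b.2 (inv_mem a.2)) h1)))
  obtain ⟨c, hc⟩ := (Finite.injective_iff_surjective.1 hinj) ⟨d, hd⟩
  exact ⟨c, c.2, congrArg Subtype.val hc⟩

/-- One step of the descent along a central series. -/
theorem step {N M A B : Subgroup S} [M.Normal] (hMN : M ≤ N) (P : Subgroup S) (hNP : ⁅N, P⁆ ≤ M)
    (hA : A ≤ P) (hB : B ≤ P) (hN : N ≤ P) (hNgen : N ≤ (N ⊓ A) ⊔ (N ⊓ B))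
    (hAB : ∀ a ∈ A, ∀ b ∈ B, ⁅a, b⁆ ∈ N) {x : S}
    (hxA : ∀ a ∈ A, x * a * x⁻¹ = a) (hxB : ∀ b ∈ B, x * b * x⁻¹ ∈ B)
    (hxN : ∀ b ∈ N, x * b * x⁻¹ ∈ N)
    (hfix : ∀ b ∈ B, x * b * x⁻¹ = b → b = 1) :
    ∀ a ∈ A, ∀ b ∈ B, ∃ z ∈ N ⊓ B, QuotientGroup.mk' M ⁅a, b⁆ = QuotientGroup.mk' M z := by
  intro a ha b hb
  set π := QuotientGroup.mk' M with hπ
  have hcen : ∀ n ∈ N, ∀ u ∈ P, π n * π u = π u * π n := by
    intro n hn u hu
    rw [← commutatorElement_eq_one_iff_mul_comm, ← map_commutatorElement]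
    exact (QuotientGroup.eq_one_iff _).2 (hNP (Subgroup.commutator_mem_commutator hn hu))
  obtain ⟨c, hc, rfl⟩ := exists_quot_conj hxB hfix hb
  set n := ⁅a, c⁆ with hn
  have hnN : n ∈ N := hAB a ha c hc
  -- decompose
  have hdec : π n ∈ (N ⊓ A).map π ⊔ (N ⊓ B).map π := by
    rw [← Subgroup.map_sup]; exact Subgroup.mem_map_of_mem _ (hNgen hnN)
  have hle : (N ⊓ A).map π ≤ Subgroup.normalizer ((N ⊓ B).map π : Set (S ⧸ M)) := by
    rintro _ ⟨u, hu, rfl⟩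
    refine Subgroup.mem_normalizer_iff.2 fun y => ?_
    have key : ∀ v ∈ N ⊓ B, π u * π v * (π u)⁻¹ = π v := fun v hv => by
      rw [hcen u hu.1 v (hN hv.1), mul_inv_cancel_right]
    constructor
    · rintro ⟨v, hv, rfl⟩
      exact ⟨v, hv, (key v hv).symm⟩
    · rintro ⟨v, hv, hvy⟩
      refine ⟨v, hv, ?_⟩
      have := key v hv
      rw [hvy] at this
      rw [hvy]
      exact mul_left_cancel (mul_right_cancel this)
  rw [← SetLike.mem_coe, Subgroup.coe_mul_of_left_le_normalizer_right _ _ hle] at hdec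
  obtain ⟨_, ⟨u, hu, rfl⟩, _, ⟨v, hv, rfl⟩, huv⟩ := hdec
  have huv' : π n = π u * π v := huv.symm
  have hxc : ⁅a, x * c * x⁻¹⁆ = x * n * x⁻¹ := by
    rw [hn]
    conv_lhs => rw [← hxA a ha]
    simp only [commutatorElement_def]
    group
  refine ⟨v⁻¹ * (x * v * x⁻¹), Subgroup.mem_inf.2 ⟨mul_mem (inv_mem hv.1) (hxN v hv.1),
    mul_mem (inv_mem hv.2) (hxB v hv.2)⟩, ?_⟩
  have hn' : x * n * x⁻¹ ∈ N := hxN n hnN
  have e1 : ⁅a, c⁻¹ * (x * c * x⁻¹)⁆ = c⁻¹ * n⁻¹ * (x * n * x⁻¹) * c := by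
    rw [← hxc, hn]; simp only [commutatorElement_def]; group
  have e2 : π (c⁻¹ * n⁻¹ * (x * n * x⁻¹) * c) = π (n⁻¹ * (x * n * x⁻¹)) := by
    have h := hcen _ (mul_mem (inv_mem hnN) hn') c (hB hc)
    simp only [map_mul, map_inv, mul_assoc] at h ⊢
    rw [h, inv_mul_cancel_left]
  have e3 : π (n⁻¹ * (x * n * x⁻¹)) = π (v⁻¹ * (x * v * x⁻¹)) := by
    simp only [map_mul, map_inv, huv', mul_inv_rev]
    have hu' : π x * π u * (π x)⁻¹ = π u := by rw [← map_inv, ← map_mul, ← map_mul, hxA u hu.2]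
    calc (π v)⁻¹ * (π u)⁻¹ * (π x * (π u * π v) * (π x)⁻¹)
        = (π v)⁻¹ * (π u)⁻¹ * ((π x * π u * (π x)⁻¹) * (π x * π v * (π x)⁻¹)) := by group
      _ = _ := by rw [hu']; group
  rw [e1, e2, e3]


/-- Let S = PQ be a finite group with P a normal Sylow p-subgroup and Q elementary abelian of order q², q a prime different from p. If exactly two subgroups X₁, X₂ of order q in Q have a nontrivial centralizer in P, then P is the internal direct product of C_P(X₁) and C_P(X₂): they commute elementwise, meet trivially and generate P. -/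
theorem result {S : Type*} [Group S] [Finite S] {p q : ℕ} [Fact p.Prime] [Fact q.Prime] (hpq : p ≠ q)
    (P : Sylow p S) [(P : Subgroup S).Normal] (Q : Subgroup S) (hQ : Cfsg.IsElementaryAbelian q Q) (hQc : Nat.card Q = q ^ 2)
    (hS : (P : Subgroup S) ⊔ Q = ⊤)
    (X₁ X₂ : Subgroup S) (h₁ : X₁ ≤ Q) (h₂ : X₂ ≤ Q) (h₁₂ : X₁ ≠ X₂) (hc₁ : Nat.card X₁ = q) (hc₂ : Nat.card X₂ = q)
    (hf₁ : (P : Subgroup S) ⊓ Subgroup.centralizer (X₁ : Set S) ≠ ⊥)
    (hf₂ : (P : Subgroup S) ⊓ Subgroup.centralizer (X₂ : Set S) ≠ ⊥)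
    (honly : ∀ X : Subgroup S, X ≤ Q → Nat.card X = q →
      (P : Subgroup S) ⊓ Subgroup.centralizer (X : Set S) ≠ ⊥ → X = X₁ ∨ X = X₂) :
    ⁅(P : Subgroup S) ⊓ Subgroup.centralizer (X₁ : Set S), (P : Subgroup S) ⊓ Subgroup.centralizer (X₂ : Set S)⁆ = ⊥ ∧
      ((P : Subgroup S) ⊓ Subgroup.centralizer (X₁ : Set S)) ⊓ ((P : Subgroup S) ⊓ Subgroup.centralizer (X₂ : Set S)) = ⊥ ∧
      ((P : Subgroup S) ⊓ Subgroup.centralizer (X₁ : Set S)) ⊔ ((P : Subgroup S) ⊓ Subgroup.centralizer (X₂ : Set S)) = P := by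
  classical
  obtain ⟨hQab, hQpow⟩ := hQ
  set P₀ : Subgroup S := (P : Subgroup S) with hP₀
  set A := P₀ ⊓ Subgroup.centralizer (X₁ : Set S) with hA
  set B := P₀ ⊓ Subgroup.centralizer (X₂ : Set S) with hB
  have hcomm : ∀ u ∈ Q, ∀ v ∈ Q, u * v = v * u := fun u hu v hv =>
    congrArg Subtype.val (hQab.is_comm.comm (⟨u, hu⟩ : Q) ⟨v, hv⟩)
  have hzp : ∀ b ∈ Q, b ≠ 1 → Nat.card (Subgroup.zpowers b) = q := fun b hb hb1 => by
    rw [Nat.card_zpowers, orderOf_eq_prime (hQpow b hb) hb1]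
  have hq := (Fact.out : q.Prime)
  have hsup : X₁ ⊔ X₂ = Q := by
    refine Subgroup.eq_of_le_of_card_ge (sup_le h₁ h₂) ?_
    obtain ⟨k, hk, hkc⟩ := (Nat.dvd_prime_pow hq).1 (hQc ▸ Subgroup.card_dvd_of_le (sup_le h₁ h₂))
    rw [hQc, hkc]
    refine Nat.pow_le_pow_right hq.pos ?_
    by_contra hlt
    have hle : Nat.card ↥(X₁ ⊔ X₂) ≤ q := by
      rw [hkc]; exact (Nat.pow_le_pow_right hq.pos (by omega : k ≤ 1)).trans (pow_one q).le
    exact h₁₂ ((Subgroup.eq_of_le_of_card_ge le_sup_left (hc₁ ▸ hle)).trans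
      (Subgroup.eq_of_le_of_card_ge le_sup_right (hc₂ ▸ hle)).symm)
  -- no fixed points of the whole of `Q`
  have hQfix : P₀ ⊓ Subgroup.centralizer (Q : Set S) = ⊥ := by
    by_contra hne
    obtain ⟨b, hbQ, hb1, hb2⟩ : ∃ b ∈ Q, b ∉ X₁ ∧ b ∉ X₂ := by
      by_contra hcon
      push Not at hcon
      rcases em (X₁ ≤ X₂) with h | h
      · exact h₁₂ (Subgroup.eq_of_le_of_card_ge h (by rw [hc₁, hc₂]))
      obtain ⟨u, hu1, hu2⟩ := SetLike.not_le_iff_exists.1 h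
      obtain ⟨v, hv2, hv1⟩ := SetLike.not_le_iff_exists.1 (fun h' : X₂ ≤ X₁ =>
        h₁₂ (Subgroup.eq_of_le_of_card_ge h' (by rw [hc₁, hc₂])).symm)
      by_cases hm : u * v ∈ X₁
      · exact hv1 ((Subgroup.mul_mem_cancel_left X₁ hu1).1 hm)
      · exact hu2 ((Subgroup.mul_mem_cancel_right X₂ hv2).1 (hcon _ (mul_mem (h₁ hu1) (h₂ hv2)) hm))
    have hbne : b ≠ 1 := fun e => hb1 (e ▸ one_mem _)
    have hzQ : Subgroup.zpowers b ≤ Q := Subgroup.zpowers_le.2 hbQ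
    have hne' : P₀ ⊓ Subgroup.centralizer (Subgroup.zpowers b : Set S) ≠ ⊥ := fun h =>
      hne (eq_bot_iff.2 ((inf_le_inf_left _ (Subgroup.centralizer_le hzQ)).trans h.le))
    rcases honly _ hzQ (hzp b hbQ hbne) hne' with h | h
    · exact hb1 (h ▸ Subgroup.mem_zpowers b)
    · exact hb2 (h ▸ Subgroup.mem_zpowers b)
  have hfix2 : ∀ {u : S}, u ∈ A → u ∈ B → u = 1 := by
    intro u hu hv
    have : u ∈ P₀ ⊓ Subgroup.centralizer (Q : Set S) := by
      refine ⟨hu.1, ?_⟩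
      rw [← hsup]
      intro y hy
      have : X₁ ⊔ X₂ ≤ Subgroup.centralizer ({u} : Set S) := sup_le
        (fun y hy => Subgroup.mem_centralizer_singleton_iff.2 (hu.2 y hy))
        (fun y hy => Subgroup.mem_centralizer_singleton_iff.2 (hv.2 y hy))
      exact Subgroup.mem_centralizer_singleton_iff.1 (this hy)
    rwa [hQfix, Subgroup.mem_bot] at this
  -- generation
  obtain ⟨x₁, hx₁, hx₁1⟩ := (Subgroup.bot_or_exists_ne_one X₁).resolve_left
    (fun h => hq.one_lt.ne' (by rw [← hc₁, h, Subgroup.card_bot]))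
  obtain ⟨x₂, hx₂, hx₂1⟩ := (Subgroup.bot_or_exists_ne_one X₂).resolve_left
    (fun h => hq.one_lt.ne' (by rw [← hc₂, h, Subgroup.card_bot]))
  have hz₁ : Subgroup.zpowers x₁ = X₁ := Subgroup.eq_of_le_of_card_ge (Subgroup.zpowers_le.2 hx₁)
    (by rw [hzp x₁ (h₁ hx₁) hx₁1, hc₁])
  have hz₂ : Subgroup.zpowers x₂ = X₂ := Subgroup.eq_of_le_of_card_ge (Subgroup.zpowers_le.2 hx₂)
    (by rw [hzp x₂ (h₂ hx₂) hx₂1, hc₂])
  have hgen : ∀ R : Subgroup S, R ≤ P₀ → R.Normal → R ≤ (R ⊓ A) ⊔ (R ⊓ B) := by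
    intro R hR hRn
    refine CfsgLib.CoprimeGeneration.le_of_pair (a := x₁) (c := x₂) (hQpow _ (h₁ hx₁))
      (hQpow _ (h₂ hx₂)) (hcomm _ (h₁ hx₁) _ (h₂ hx₂)) ?_ hx₁1 _ R ?_ ?_ ?_ ?_ ?_
    · intro h
      refine h₁₂ (Subgroup.eq_of_le_of_card_ge ?_ (by rw [hc₁, hc₂])).symm
      rw [← hz₂]; exact Subgroup.zpowers_le.2 (hz₁ ▸ h)
    · have := (P.2.to_le hR).isNilpotent
      infer_instance
    · obtain ⟨k, hk⟩ := (P.2.to_le hR).exists_card_eq
      rw [hk]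
      exact Nat.Coprime.pow_right k ((Nat.coprime_primes hq Fact.out).2 hpq.symm)
    · rw [Subgroup.normalizer_eq_top]; exact Subgroup.mem_top _
    · rw [Subgroup.normalizer_eq_top]; exact Subgroup.mem_top _
    · intro b hb hb1
      have hbQ : b ∈ Q := (Subgroup.closure_le Q).2 (by
        rintro _ (rfl | rfl)
        exacts [h₁ hx₁, h₂ hx₂]) hb
      have hzQ : Subgroup.zpowers b ≤ Q := Subgroup.zpowers_le.2 hbQ
      have hcz : Subgroup.centralizer (Subgroup.zpowers b : Set S) = Subgroup.centralizer {b} := by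
        rw [Subgroup.zpowers_eq_closure, Subgroup.centralizer_closure]
      by_cases hne : P₀ ⊓ Subgroup.centralizer (Subgroup.zpowers b : Set S) = ⊥
      · refine le_trans ?_ bot_le
        rw [← hne, hcz]
        exact inf_le_inf_right _ hR
      rcases honly _ hzQ (hzp b hbQ hb1) hne with h | h
      · refine le_trans ?_ le_sup_left
        rw [hA, ← h, hcz]
        exact fun y hy => ⟨hy.1, hR hy.1, hy.2⟩
      · refine le_trans ?_ le_sup_right
        rw [hB, ← h, hcz]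
        exact fun y hy => ⟨hy.1, hR hy.1, hy.2⟩
  have hinv : ∀ {X : Subgroup S}, X ≤ Q → ∀ {y : S}, y ∈ Q → ∀ u ∈ P₀ ⊓ Subgroup.centralizer (X : Set S),
      y * u * y⁻¹ ∈ P₀ ⊓ Subgroup.centralizer (X : Set S) := by
    intro X hX y hy u hu
    refine ⟨‹(P : Subgroup S).Normal›.conj_mem u hu.1 y, fun z hz => ?_⟩
    have h1 := hcomm z (hX hz) y hy
    have h2 : z * u = u * z := hu.2 z hz
    calc z * (y * u * y⁻¹) = y * (z * u) * y⁻¹ := by rw [← mul_assoc, ← mul_assoc, h1]; group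
      _ = y * u * (z * y⁻¹) := by rw [h2]; group
      _ = y * u * y⁻¹ * z := by
        rw [show z * y⁻¹ = y⁻¹ * z by
          rw [eq_inv_mul_iff_mul_eq, ← mul_assoc, ← h1, mul_inv_cancel_right]]
        group
  have hfixb : ∀ {y : S}, y ∈ X₁ → y ≠ 1 → ∀ b ∈ B, y * b * y⁻¹ = b → b = 1 := by
    intro y hy hy1 b hb h
    refine hfix2 ⟨hb.1, ?_⟩ hb
    have hyz : Subgroup.zpowers y = X₁ := Subgroup.eq_of_le_of_card_ge (Subgroup.zpowers_le.2 hy)
      (by rw [hzp y (h₁ hy) hy1, hc₁])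
    rw [← hyz, Subgroup.zpowers_eq_closure, Subgroup.centralizer_closure]
    exact Subgroup.mem_centralizer_singleton_iff.2 (mul_inv_eq_iff_eq_mul.1 h).symm
  have hfixa : ∀ {y : S}, y ∈ X₂ → y ≠ 1 → ∀ b ∈ A, y * b * y⁻¹ = b → b = 1 := by
    intro y hy hy1 b hb h
    refine hfix2 hb ⟨hb.1, ?_⟩
    have hyz : Subgroup.zpowers y = X₂ := Subgroup.eq_of_le_of_card_ge (Subgroup.zpowers_le.2 hy)
      (by rw [hzp y (h₂ hy) hy1, hc₂])
    rw [← hyz, Subgroup.zpowers_eq_closure, Subgroup.centralizer_closure]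
    exact Subgroup.mem_centralizer_singleton_iff.2 (mul_inv_eq_iff_eq_mul.1 h).symm
  have hfixA : ∀ a ∈ A, x₁ * a * x₁⁻¹ = a := fun a ha => by
    rw [show x₁ * a = a * x₁ from ha.2 x₁ hx₁, mul_inv_cancel_right]
  have hfixB : ∀ b ∈ B, x₂ * b * x₂⁻¹ = b := fun b hb => by
    rw [show x₂ * b = b * x₂ from hb.2 x₂ hx₂, mul_inv_cancel_right]
  -- descent
  have hdesc : ∀ k, ∀ a ∈ A, ∀ b ∈ B, ⁅a, b⁆ ∈ P₀.lowerCentralSeries k := by
    intro k
    induction k with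
    | zero =>
      intro a ha b hb
      exact mul_mem (mul_mem (mul_mem ha.1 hb.1) (inv_mem ha.1)) (inv_mem hb.1)
    | succ k ih =>
      have hn : ∀ j, (P₀.lowerCentralSeries j).Normal := by
        intro j
        induction j with
        | zero => exact inferInstanceAs (P : Subgroup S).Normal
        | succ j hj => exact Subgroup.commutator_normal _ _
      haveI := hn k
      haveI := hn (k + 1)
      set N := P₀.lowerCentralSeries k
      set M := P₀.lowerCentralSeries (k + 1)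
      have hNP : N ≤ P₀ := P₀.lowerCentralSeries_antitone (Nat.zero_le k)
      have hMN : M ≤ N := P₀.lowerCentralSeries_antitone k.le_succ
      have hNx : ∀ y : S, ∀ b ∈ N, y * b * y⁻¹ ∈ N := fun y b hb => (hn k).conj_mem b hb y
      have hg := hgen N hNP (hn k)
      intro a ha b hb
      obtain ⟨v, hv, hve⟩ := step (A := A) (B := B) hMN P₀ le_rfl inf_le_left inf_le_left hNP hg ih hfixA
        (fun u hu => hinv h₂ (h₁ hx₁) u hu) (hNx x₁) (hfixb hx₁ hx₁1) a ha b hb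
      obtain ⟨u, hu, hue⟩ := step hMN P₀ le_rfl (A := B) (B := A) inf_le_left inf_le_left hNP
        (by rw [sup_comm]; exact hg)
        (fun b hb a ha => by rw [← commutatorElement_inv]; exact inv_mem (ih a ha b hb)) hfixB
        (fun u hu => hinv h₁ (h₂ hx₂) u hu) (hNx x₂) (hfixa hx₂ hx₂1) b hb a ha
      -- `π u⁻¹ = π v` with `u ∈ N ∩ A` and `v ∈ N ∩ B`
      have hm : u * v ∈ M := by
        rw [← QuotientGroup.eq_one_iff, QuotientGroup.mk_mul]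
        have e : QuotientGroup.mk' M v = (QuotientGroup.mk' M u)⁻¹ := by
          rw [← hue, ← hve, ← map_inv, commutatorElement_inv]
        show QuotientGroup.mk' M u * QuotientGroup.mk' M v = 1
        rw [e, mul_inv_cancel]
      have hd : v⁻¹ * (x₁ * v * x₁⁻¹) ∈ M := by
        have e : v⁻¹ * (x₁ * v * x₁⁻¹) = (u * v)⁻¹ * (x₁ * (u * v) * x₁⁻¹) := by
          have hu' := hfixA u hu.2
          calc v⁻¹ * (x₁ * v * x₁⁻¹) = (u * v)⁻¹ * ((u) * (x₁ * v * x₁⁻¹)) := by group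
            _ = (u * v)⁻¹ * ((x₁ * u * x₁⁻¹) * (x₁ * v * x₁⁻¹)) := by rw [hu']
            _ = _ := by group
        rw [e]
        exact mul_mem (inv_mem hm) ((hn (k + 1)).conj_mem _ hm x₁)
      obtain ⟨w, hw, hwe⟩ := exists_quot_conj (R := M ⊓ B) (x := x₁)
        (fun c hc => ⟨(hn (k + 1)).conj_mem c hc.1 x₁, hinv h₂ (h₁ hx₁) c hc.2⟩)
        (fun c hc => hfixb hx₁ hx₁1 c hc.2)
        (d := v⁻¹ * (x₁ * v * x₁⁻¹))
        ⟨hd, (B.mul_mem (B.inv_mem hv.2) (hinv h₂ (h₁ hx₁) v hv.2) : v⁻¹ * (x₁ * v * x₁⁻¹) ∈ B)⟩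
      have hvw : v = w := by
        have h := hfixb hx₁ hx₁1 (w * v⁻¹) (mul_mem hw.2 (inv_mem hv.2)) (by
          calc x₁ * (w * v⁻¹) * x₁⁻¹
              = w * (w⁻¹ * (x₁ * w * x₁⁻¹)) * (v⁻¹ * (x₁ * v * x₁⁻¹))⁻¹ * v⁻¹ := by group
            _ = _ := by rw [hwe]; group)
        exact (mul_inv_eq_one.1 h).symm
      have : QuotientGroup.mk' M ⁅a, b⁆ = 1 := by
        rw [hve, hvw]; exact (QuotientGroup.eq_one_iff _).2 hw.1
      exact (QuotientGroup.eq_one_iff _).1 this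
  obtain ⟨k, hk⟩ := (Subgroup.isNilpotent_iff_lowerCentralSeries _).1 (P.2.isNilpotent)
  refine ⟨?_, ?_, ?_⟩
  · rw [eq_bot_iff, Subgroup.commutator_le]
    intro a ha b hb
    exact hk ▸ hdesc k a ha b hb
  · exact eq_bot_iff.2 fun u hu => Subgroup.mem_bot.2 (hfix2 hu.1 hu.2)
  · refine le_antisymm (sup_le inf_le_left inf_le_left) ?_
    exact (hgen P₀ le_rfl inferInstance).trans (sup_le_sup inf_le_right inf_le_right)

end Cfsg.Agent.S1900
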