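import Cfsg.Statements.S1901
import Cfsg.Agent.Lib.PCore.PSolvable
set_option autoImplicit false
open Cfsg

namespace Cfsg.Agent.S1901

open Subgroup
open scoped commutatorElement

variable {p : ℕ} [hp : Fact p.Prime]

private theorem centralizer_normal_in {G : Type*} [Group G] (M : Subgroup G) :
    ((centralizer (M : Set G)).subgroupOf (normalizer (M : Set G))).Normal := by
  refine ⟨fun c hc n => ?_⟩
  rw [mem_subgroupOf, mem_centralizer_iff] at hc ⊢
  intro m hm
  have h := hc _ ((mem_normalizer_iff.mp (inv_mem n.2) m).mp hm)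
  simp only [coe_mul, coe_inv, inv_inv] at h ⊢
  calc m * (n * c * (n : G)⁻¹) = n * (((n : G)⁻¹ * m * n) * c) * (n : G)⁻¹ := by group
    _ = n * (c * ((n : G)⁻¹ * m * n)) * (n : G)⁻¹ := by rw [h]
    _ = n * c * (n : G)⁻¹ * m := by group

private theorem mem_centralizer_of_not_dvd {G : Type*} [Group G] [Finite G] {M : Subgroup G} {t : G}
    (ht : t ∈ normalizer (M : Set G)) {k : ℕ} (htk : t ^ p ^ k = 1)
    (h : ¬ p ∣ (centralizer (M : Set G)).relIndex (normalizer (M : Set G))) :
    t ∈ centralizer (M : Set G) := by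
  haveI := centralizer_normal_in M
  have h1 : orderOf (QuotientGroup.mk' ((centralizer (M : Set G)).subgroupOf (normalizer (M : Set G))) ⟨t, ht⟩) = 1 := by
    refine Nat.eq_one_of_dvd_coprimes ((hp.out.coprime_iff_not_dvd.mpr h).pow_left k)
      (orderOf_dvd_of_pow_eq_one ?_) (orderOf_dvd_natCard _)
    rw [← map_pow, show (⟨t, ht⟩ : normalizer (M : Set G)) ^ p ^ k = 1 from Subtype.ext htk, map_one]
  have h2 := orderOf_eq_one_iff.mp h1
  exact mem_subgroupOf.mp ((QuotientGroup.eq_one_iff (N := (centralizer (M : Set G)).subgroupOf (normalizer (M : Set G))) (⟨t, ht⟩ : normalizer (M : Set G))).mp h2)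

universe w

private theorem aux : ∀ (n : ℕ) (G : Type w) [Group G] [Finite G], Nat.card G = n →
    Cfsg.IsPSolvable p G → ∀ (Q : Subgroup G), (Nat.card Q).Coprime p → ∀ P : Sylow p G,
      Q ≤ normalizer ((P : Subgroup G) : Set G) → ∀ t : G, ∀ k : ℕ, t ^ p ^ k = 1 →
        t ∈ normalizer (Q : Set G) → t ∈ centralizer (Q : Set G) := by
  intro n
  induction n using Nat.strong_induction_on with
  | h n ih =>
    intro G _ _ hn hG Q hQ P hQP t k htk htQ
    rcases subsingleton_or_nontrivial G with hs | hnt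
    · exact fun q _ => Subsingleton.elim _ _
    obtain ⟨N, hNn, hN1, hN⟩ : ∃ N : Subgroup G, N.Normal ∧ N ≠ ⊥ ∧
        (IsPGroup p N ∨ (Nat.card N).Coprime p) := by
      rcases CfsgLib.PCore.pCore_ne_bot_or_pPrimeCore_ne_bot hG with h | h
      · exact ⟨_, inferInstance, h, Or.inl CfsgLib.PCore.pCore_isPGroup⟩
      · exact ⟨_, inferInstance, h, Or.inr CfsgLib.PCore.pPrimeCore_coprime⟩
    have hlt : Nat.card (G ⧸ N) < n := by
      rw [← hn, card_eq_card_quotient_mul_card_subgroup N]
      exact lt_mul_of_one_lt_right Nat.card_pos ((one_lt_card_iff_ne_bot N).mpr hN1)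
    set f := QuotientGroup.mk' N with hf
    have hmod : f t ∈ centralizer ((Q.map f : Subgroup _) : Set (G ⧸ N)) := by
      have hle : Q.map f ≤ normalizer ((((P.mapSurjective (QuotientGroup.mk'_surjective N)) :
          Sylow p (G ⧸ N)) : Subgroup (G ⧸ N)) : Set (G ⧸ N)) := by
        rw [Sylow.coe_mapSurjective]
        exact (map_mono hQP).trans (le_normalizer_map f)
      exact ih _ hlt (G ⧸ N) rfl (CfsgLib.PCore.isPSolvable_quotient hG N) (Q.map f)
        (hQ.coprime_dvd_left (card_map_dvd Q f)) _ hle (f t) k (by rw [← map_pow, htk, map_one])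
        (le_normalizer_map f ⟨t, htQ, rfl⟩)
    have hcomm : ∀ q ∈ Q, t * q * t⁻¹ * q⁻¹ ∈ Q ⊓ N := by
      intro q hq
      refine mem_inf.mpr ⟨mul_mem ((mem_normalizer_iff.mp htQ q).mp hq) (inv_mem hq), (QuotientGroup.eq_one_iff _).mp ?_⟩
      have h := mem_centralizer_iff.mp hmod (f q) ⟨q, hq, rfl⟩
      show f (t * q * t⁻¹ * q⁻¹) = 1
      rw [map_mul, map_mul, map_mul, ← h, map_inv, map_inv, mul_inv_cancel_right, mul_inv_cancel]
    have hfix : t ∈ centralizer ((Q ⊓ N : Subgroup G) : Set G) := by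
      rcases hN with hN | hN
      · rw [inf_comm, CfsgLib.PCore.inf_eq_bot_of_isPGroup_coprime hN hQ, mem_centralizer_iff]
        intro h hh
        rw [mem_bot.mp hh, one_mul, mul_one]
      · have hPM : (P : Subgroup G) ≤ centralizer ((Q ⊓ N : Subgroup G) : Set G) := by
          intro y hy
          rw [mem_centralizer_iff]
          rintro z ⟨hzQ, hzN⟩
          have h1 : z * y * z⁻¹ * y⁻¹ ∈ (P : Subgroup G) ⊓ N := by
            refine mem_inf.mpr ⟨mul_mem ((mem_normalizer_iff.mp (hQP hzQ) y).mp hy) (inv_mem hy), ?_⟩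
            have := mul_mem hzN (hNn.conj_mem _ (inv_mem hzN) y)
            simpa [mul_assoc] using this
          rw [CfsgLib.PCore.inf_eq_bot_of_isPGroup_coprime P.2 hN, mem_bot, mul_inv_eq_one,
            mul_inv_eq_iff_eq_mul] at h1
          exact h1
        refine mem_centralizer_of_not_dvd (k := k) ?_ htk fun hd => P.not_dvd_index (hd.trans ?_)
        · have : t ∈ normalizer (N : Set G) := by rw [normalizer_eq_top]; exact mem_top t
          exact mem_normalizer_iff.mpr fun z => and_congr (mem_normalizer_iff.mp htQ z) (mem_normalizer_iff.mp this z)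
        · exact (Dvd.intro _ (relIndex_mul_index (centralizer_le_normalizer _))).trans (index_dvd_of_le hPM)
    rw [mem_centralizer_iff]
    intro q hq
    set c := t * q * t⁻¹ * q⁻¹ with hc
    have hct : t * c = c * t := ((mem_centralizer_iff.mp hfix) c (hcomm q hq)).symm
    have hpow : ∀ j : ℕ, t ^ j * q = c ^ j * q * t ^ j := by
      intro j
      induction j with
      | zero => simp
      | succ j ihj =>
        have htq : t * q = c * q * t := by rw [hc]; group
        have hcj : t * c ^ j = c ^ j * t := ((show Commute t c from hct).pow_right j).eq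
        calc t ^ (j + 1) * q = t * (t ^ j * q) := by rw [pow_succ']; group
          _ = t * c ^ j * q * t ^ j := by rw [ihj]; group
          _ = c ^ j * (t * q) * t ^ j := by rw [hcj]; group
          _ = c ^ (j + 1) * q * t ^ (j + 1) := by rw [htq]; group
    have h1 : c ^ p ^ k = 1 := by
      have := hpow (p ^ k)
      rw [htk, one_mul, mul_one] at this
      exact mul_eq_right.mp this.symm
    have h2 : c = 1 := orderOf_eq_one_iff.mp (Nat.eq_one_of_dvd_coprimes (hQ.pow_right k)
      (Subgroup.orderOf_dvd_natCard _ (hcomm q hq).1) (orderOf_dvd_of_pow_eq_one h1))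
    rw [hc, mul_inv_eq_one, mul_inv_eq_iff_eq_mul] at h2
    exact h2.symm


/-- Let G be a finite p-solvable group and Q a subgroup of order prime to p such that p divides the index of C_G(Q) in N_G(Q). Then Q normalizes no Sylow p-subgroup of G. -/
theorem result {G : Type*} [Group G] [Finite G] {p : ℕ} [Fact p.Prime]
    (hG : Cfsg.IsPSolvable p G) (Q : Subgroup G) (hQ : ¬ p ∣ Nat.card Q)
    (hA : p ∣ (Subgroup.centralizer (Q : Set G)).relIndex (Subgroup.normalizer (Q : Set G)))
    (P : Sylow p G) : ¬ Q ≤ Subgroup.normalizer ((P : Subgroup G) : Set G) := by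
  intro hle
  haveI := centralizer_normal_in Q
  obtain ⟨x, hx⟩ := exists_prime_orderOf_dvd_card' p hA
  obtain ⟨⟨y, hy⟩, rfl⟩ := QuotientGroup.mk'_surjective _ x
  obtain ⟨k, m, hm, hkm⟩ := Nat.exists_eq_pow_mul_and_not_dvd (orderOf_pos y).ne' p (Fact.out : p.Prime).ne_one
  have hy' : y ^ m ∈ Subgroup.centralizer (Q : Set G) :=
    aux _ G rfl hG Q (((Fact.out : p.Prime).coprime_iff_not_dvd.mpr hQ).symm) P hle (y ^ m) k
      (by rw [← pow_mul, mul_comm, ← hkm, pow_orderOf_eq_one]) (pow_mem hy m)
  have h1 : (QuotientGroup.mk' ((Subgroup.centralizer (Q : Set G)).subgroupOf (Subgroup.normalizer (Q : Set G))) ⟨y, hy⟩) ^ m = 1 := by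
    rw [← map_pow]
    exact (QuotientGroup.eq_one_iff _).mpr hy'
  exact hm (hx ▸ orderOf_dvd_of_pow_eq_one h1)

end Cfsg.Agent.S1901
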