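import Cfsg.Statements.S1902
import Cfsg.Agent.Lib.OddOrder.InvariantCore
import Cfsg.Agent.Lib.PCore.PSolvable

set_option autoImplicit false
open Cfsg

namespace Cfsg.Agent.S1902

/-- Let p be an odd prime, G a finite p-solvable group, and B an elementary abelian subgroup of order p² such that B is the subgroup generated by the elements of order p of some Sylow p-subgroup of C_G(b₀), for some nontrivial b₀ ∈ B. Then every B-invariant subgroup of G of order prime to p lies in O_{p'}(G). -/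
theorem result {G : Type*} [Group G] [Finite G] {p : ℕ} [Fact p.Prime] (hp : p ≠ 2)
    (hG : Cfsg.IsPSolvable p G) (B : Subgroup G) (hB : Cfsg.IsElementaryAbelian p B) (hBc : Nat.card B = p ^ 2)
    (b₀ : G) (hb₀ : b₀ ∈ B) (hb₁ : b₀ ≠ 1) (P : Sylow p ↥(Subgroup.centralizer ({b₀} : Set G)))
    (hBP : B = Subgroup.closure {x : G | x ∈ ((P : Subgroup ↥(Subgroup.centralizer ({b₀} : Set G))).map
      (Subgroup.centralizer ({b₀} : Set G)).subtype : Subgroup G) ∧ orderOf x = p})
    (Q : Subgroup G) (hQ : ¬ p ∣ Nat.card Q) (hinv : ∀ b ∈ B, ∀ x ∈ Q, b * x * b⁻¹ ∈ Q) :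
    Q ≤ Cfsg.pPrimeCore p G := by
  classical
  have hX : Cfsg.IsPConstrained p G := by
    rw [CfsgLib.PLocal.isPConstrained_iff]
    exact CfsgLib.PCore.centralizer_pCore_le (CfsgLib.PCore.isPSolvable_quotient hG _)
      CfsgLib.PCore.pPrimeCore_quotient_pPrimeCore
  have hBp : IsPGroup p B := IsPGroup.of_card (n := 2) hBc
  refine CfsgLib.OddOrder.InvariantCore.le_pPrimeCore hX hBp (Or.inl ⟨hp, fun x hx hxo => ?_⟩)
    (CfsgLib.PCore.coprime_of_not_dvd_card hQ) ?_
  · have hBC : B ≤ (Subgroup.centralizer ({b₀} : Set G)) := fun b hb => Subgroup.mem_centralizer_singleton_iff.2 (by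
      have := hB.1.is_comm.comm ⟨b, hb⟩ ⟨b₀, hb₀⟩
      exact congrArg Subtype.val this)
    have hxC : x ∈ (Subgroup.centralizer ({b₀} : Set G)) := Subgroup.mem_centralizer_singleton_iff.2
      ((Subgroup.mem_centralizer_iff.1 hx b₀ hb₀).symm)
    have hxN : Subgroup.zpowers x ≤ Subgroup.normalizer (B : Set G) :=
      Subgroup.zpowers_le.2 (Subgroup.centralizer_le_normalizer _ hx)
    have hS : IsPGroup p ↥(Subgroup.zpowers x ⊔ B) :=
      IsPGroup.to_sup_of_normal_right' (IsPGroup.of_card (n := 1) (by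
        rw [Nat.card_zpowers, hxo, pow_one])) hBp hxN
    have hSC : Subgroup.zpowers x ⊔ B ≤ (Subgroup.centralizer ({b₀} : Set G)) := sup_le (Subgroup.zpowers_le.2 hxC) hBC
    obtain ⟨P', hP'⟩ := (hS.comap_subtype : IsPGroup p
      ((Subgroup.zpowers x ⊔ B).subgroupOf (Subgroup.centralizer ({b₀} : Set G)))).exists_le_sylow
    obtain ⟨g, hg⟩ := MulAction.exists_smul_eq (Subgroup.centralizer ({b₀} : Set G)) P P'
    let Ω' := Subgroup.closure {y : G | y ∈ ((P' : Subgroup (Subgroup.centralizer ({b₀} : Set G))).map (Subgroup.centralizer ({b₀} : Set G)).subtype : Subgroup G) ∧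
      orderOf y = p}
    have hΩ : ∀ y ∈ Subgroup.zpowers x ⊔ B, orderOf y = p → y ∈ Ω' := fun y hy hyo =>
      Subgroup.subset_closure ⟨⟨⟨y, hSC hy⟩, hP' hy, rfl⟩, hyo⟩
    have hmap : Ω' = B.map (MulAut.conj (g : G)).toMonoidHom := by
      rw [hBP, MonoidHom.map_closure]
      refine congrArg Subgroup.closure (Set.ext fun y => ?_)
      constructor
      · rintro ⟨⟨z, hz, rfl⟩, hyo⟩
        rw [← hg, SetLike.mem_coe, Sylow.coe_subgroup_smul, Subgroup.mem_pointwise_smul_iff_inv_smul_mem] at hz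
        refine ⟨(g : G)⁻¹ * (z : G) * (g : G), ⟨⟨_, hz, ?_⟩, ?_⟩, ?_⟩
        · simp [MulAut.smul_def]
        · simpa [← MulAut.conj_symm_apply, MulEquiv.orderOf_eq] using hyo
        · simp [MulAut.conj_apply, mul_assoc]
      · rintro ⟨y', ⟨⟨z, hz, rfl⟩, hyo⟩, rfl⟩
        refine ⟨⟨g * z * g⁻¹, ?_, by simp [MulAut.conj_apply]⟩, ?_⟩
        · rw [← hg, SetLike.mem_coe, Sylow.coe_subgroup_smul, Subgroup.mem_pointwise_smul_iff_inv_smul_mem]
          simpa [MulAut.smul_def, mul_assoc, SetLike.mem_coe] using SetLike.mem_coe.1 hz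
        · rw [← hyo]
          exact ((MulAut.conj (g : G)).orderOf_eq (z : G))
    have hBΩ : B ≤ Ω' := by
      intro b hb
      rcases eq_or_ne b 1 with rfl | h1
      · exact one_mem _
      · exact hΩ b (Subgroup.mem_sup_right hb) (orderOf_eq_prime (hB.2 b hb) h1)
    have hEq : B = Ω' := by
      refine Subgroup.eq_of_le_of_card_ge hBΩ (le_of_eq ?_)
      rw [hmap, Subgroup.card_map_of_injective (MulAut.conj (g : G)).injective]
    rw [hEq]
    exact hΩ x (Subgroup.mem_sup_left (Subgroup.mem_zpowers x)) hxo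
  · intro b hb
    exact CfsgLib.Coprime.mem_normalizer_of_forall_conj fun y hy => hinv b hb y hy

end Cfsg.Agent.S1902
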