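import Cfsg.Statements.S1903
import Cfsg.Agent.Lib.Techniques.Order320Abstract
import Cfsg.Agent.Lib.Techniques.Order320Unitary

set_option autoImplicit false
open Cfsg

namespace Cfsg.Agent.S1903

/-- A finite group of order 320 whose derived subgroup has order 64 and has centre a Klein four-group is isomorphic to the centralizer of an involution in PSU₃(4). -/
theorem result {G : Type*} [Group G] [Finite G] (hG : Nat.card G = 320) (hD : Nat.card (commutator G) = 64)
    (hZ : IsKleinFour (Subgroup.center (commutator G)))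
    {F : Type*} [Field F] [Fintype F] (hF : Fintype.card F = 16) :
    ∃ t : Cfsg.PSU 3 F 4, orderOf t = 2 ∧ Nonempty (G ≃* Subgroup.centralizer ({t} : Set (Cfsg.PSU 3 F 4))) := by
  classical
  let e : CfsgLib.Recognition.PSU34.F16 ≃+* F :=
    FiniteField.ringEquivOfCardEq (by rw [CfsgLib.Recognition.PSU34.F16.card_eq, hF])
  let E := CfsgLib.Recognition.PSU34.goodEquiv hF e
  have hZc : Nat.card (Subgroup.center (Cfsg.SU 3 F 4)) = 1 := by
    rw [CfsgLib.ClassicalGroups.card_center_SU (by rw [hF]; norm_num) (by norm_num)]; rfl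
  let q : CfsgLib.Recognition.PSU34.Good →* Cfsg.PSU 3 F 4 :=
    (QuotientGroup.mk' (Subgroup.center (Cfsg.SU 3 F 4))).comp E.toMonoidHom
  have hq : Function.Bijective q := by
    have h1 : Function.Injective (QuotientGroup.mk' (Subgroup.center (Cfsg.SU 3 F 4))) := by
      rw [← MonoidHom.ker_eq_bot_iff, QuotientGroup.ker_mk']
      exact Subgroup.card_eq_one.1 hZc
    exact ⟨h1.comp E.injective, (QuotientGroup.mk'_surjective _).comp E.surjective⟩
  let P := MulEquiv.ofBijective q hq
  obtain ⟨a, x, hR, hgen, hinj⟩ := CfsgLib.Techniques.Order320.exists_gens hG hD hZ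
  obtain ⟨f, hfa, hfx⟩ := CfsgLib.Techniques.Order320.exists_hom hR hgen hG CfsgLib.Techniques.Order320.rel_U
  have hfinj : Function.Injective f := by
    obtain ⟨h1, h2, h3⟩ := CfsgLib.Techniques.Order320.c_ne
    refine hinj _ f ?_ ?_ ?_
    all_goals simp only [CfsgLib.Techniques.Order320.c1, CfsgLib.Techniques.Order320.c2, map_mul,
      map_commutatorElement, map_inv, map_pow, hfa, hfx]
    exacts [h1, h2, h3]
  let C := Subgroup.centralizer ({CfsgLib.Techniques.Order320.tU} : Set CfsgLib.Recognition.PSU34.Good)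
  have hrange : f.range = C := by
    have hle : f.range ≤ C := by
      rw [MonoidHom.range_eq_map, ← hgen, MonoidHom.map_closure, Subgroup.closure_le]
      rintro _ ⟨y, (rfl | rfl), rfl⟩
      · rw [SetLike.mem_coe, hfa, Subgroup.mem_centralizer_singleton_iff]
        exact CfsgLib.Techniques.Order320.aU_comm
      · rw [SetLike.mem_coe, hfx, Subgroup.mem_centralizer_singleton_iff]
        exact CfsgLib.Techniques.Order320.xU_comm
    refine Subgroup.eq_of_le_of_card_ge hle ?_
    rw [← Nat.card_congr (MonoidHom.ofInjective hfinj).toEquiv, hG]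
    exact CfsgLib.Techniques.Order320.card_centralizer_le
  refine ⟨P CfsgLib.Techniques.Order320.tU, ?_, ?_⟩
  · rw [MulEquiv.orderOf_eq, orderOf_eq_prime_iff]
    exact ⟨by rw [pow_two]; exact CfsgLib.Techniques.Order320.tU_sq, CfsgLib.Techniques.Order320.tU_ne_one⟩
  · have hmap : C.map P.toMonoidHom = Subgroup.centralizer ({P CfsgLib.Techniques.Order320.tU} : Set (Cfsg.PSU 3 F 4)) := by
      ext y
      obtain ⟨z, rfl⟩ := P.surjective y
      rw [Subgroup.mem_centralizer_singleton_iff, ← map_mul, ← map_mul, P.injective.eq_iff,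
        ← Subgroup.mem_centralizer_singleton_iff]
      exact ⟨fun ⟨w, hw, e⟩ => P.injective e ▸ hw, fun h => ⟨z, h, rfl⟩⟩
    exact ⟨(MonoidHom.ofInjective hfinj).trans ((MulEquiv.subgroupCongr hrange).trans
      ((P.subgroupMap C).trans (MulEquiv.subgroupCongr hmap)))⟩

end Cfsg.Agent.S1903
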