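import Cfsg.Statements.S1904
import Cfsg.Agent.Lib.Techniques.OddSCNFinal
import Cfsg.Agent.S1894

set_option autoImplicit false
open Cfsg

namespace Cfsg.Agent.S1904

/-- Let X be a finite nonabelian 2-group with no normal abelian subgroup that is self-centralizing and contains an elementary abelian subgroup of order 8. Suppose a group A of automorphisms of X of odd order satisfies [X, A] = X. Then X is the quaternion group of order 8, or X is special of order 64 with exactly three involutions, all central, or X is extraspecial of order 32 with exactly eleven involutions (the central product of a quaternion group and a dihedral group of order 8). -/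
theorem result {X : Type*} [Group X] [Finite X] (hX : IsPGroup 2 X) (hna : ¬ IsMulCommutative X)
    (hscn : ¬ ∃ A : Subgroup X, A.Normal ∧ Subgroup.centralizer (A : Set X) = A ∧
      ∃ E : Subgroup X, E ≤ A ∧ Cfsg.IsElementaryAbelian 2 E ∧ Nat.card E = 8)
    (A : Subgroup (MulAut X)) (hA : Odd (Nat.card A))
    (hXA : Subgroup.closure {g : X | ∃ φ ∈ A, ∃ x : X, g = x⁻¹ * φ x} = ⊤) :
    Nonempty (X ≃* QuaternionGroup 2) ∨
      (Cfsg.IsSpecial 2 X ∧ Nat.card X = 64 ∧ Nat.card {x : X // orderOf x = 2} = 3 ∧
        ∀ x : X, orderOf x = 2 → x ∈ Subgroup.center X) ∨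
      (Cfsg.IsExtraspecial 2 X ∧ Nat.card X = 32 ∧ Nat.card {x : X // orderOf x = 2} = 11) := by
  classical
  haveI : Fact (Nat.Prime 2) := ⟨Nat.prime_two⟩
  let S : CfsgLib.Techniques.OddSCN.Setting X :=
    { A := A
      isP := hX
      odd := hA
      gen := hXA
      eight := by
        intro E hEn hEc hE2
        by_contra hE
        obtain ⟨n, hn⟩ := IsPGroup.iff_card.1 (hX.to_subgroup E)
        have hn3 : 3 ≤ n := by
          by_contra h
          have : 2 ^ n ≤ 2 ^ 2 := Nat.pow_le_pow_right two_pos (by omega)
          omega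
        obtain ⟨K, hK⟩ := Sylow.exists_subgroup_card_pow_prime (G := E) 2 (n := 3)
          (by rw [hn]; exact pow_dvd_pow 2 hn3)
        obtain ⟨C, hCn, hEC, hC⟩ := Cfsg.Agent.S1894.result hX ⊤ E le_top hEc
        refine hscn ⟨C, hCn, by simpa using hC.2.2, K.map E.subtype, ?_, ⟨⟨⟨fun a b => ?_⟩⟩, ?_⟩, ?_⟩
        · exact (Subgroup.map_subtype_le K).trans hEC
        · exact Subtype.ext (congrArg (fun x : E => (x : X))
            (hEc.is_comm.comm ⟨a, Subgroup.map_subtype_le K a.2⟩ ⟨b, Subgroup.map_subtype_le K b.2⟩) :)
        · intro a ha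
          exact hE2 a (Subgroup.map_subtype_le K ha)
        · rw [Subgroup.card_map_of_injective E.subtype_injective, hK]
          norm_num }
  exact S.classify hna

end Cfsg.Agent.S1904
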