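import Cfsg.Statements.S1905
import Cfsg.Agent.Lib.Involutions.StronglyEmbedded

set_option autoImplicit false
open Cfsg

namespace Cfsg.Agent.S1905

open CfsgLib.Involutions

variable {S : Type*} [Group S] [Finite S]

/-- Outside elements are not tied to the subgroup by a common involution. -/
lemma outside {M : Subgroup S} (hC : ∀ i ∈ M, orderOf i = 2 → Subgroup.centralizer ({i} : Set S) ≤ M)
    {i j z : S} (hi : i ∈ M) (hi2 : orderOf i = 2) (hj : j ∉ M) (hz : orderOf z = 2)
    (hzi : Commute z i) (hzj : Commute z j) : False := by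
  have hzM : z ∈ M := hC i hi hi2 (Subgroup.mem_centralizer_singleton_iff.mpr hzi.eq)
  exact hj (hC z hzM hz (Subgroup.mem_centralizer_singleton_iff.mpr hzj.symm.eq))

/-- An element inverted by an outside involution commutes with no involution of the subgroup. -/
lemma inverted_centralizes {M : Subgroup S} (hC : ∀ i ∈ M, orderOf i = 2 → Subgroup.centralizer ({i} : Set S) ≤ M)
    {i j x : S} (hi : i ∈ M) (hi2 : orderOf i = 2) (hj : j ∉ M) (hj2 : orderOf j = 2)
    (hodd : Odd (orderOf x)) (hinv : j * x * j⁻¹ = x⁻¹) (hxi : Commute i x) : x = 1 := by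
  by_contra hx1
  rcases Nat.even_or_odd (orderOf (i * j)) with he | ho
  · obtain ⟨hz, hzi, hzj⟩ := central_involution hi2 hj2 he
    exact outside hC hi hi2 hj hz hzi hzj
  obtain ⟨d, hd, hdij⟩ := conj_of_odd_order hi2 hj2 ho
  have hdx' : ∀ c ∈ Subgroup.closure ({i, j} : Set S), c * x * c⁻¹ = x ∨ c * x * c⁻¹ = x⁻¹ := by
    intro c hd
    have hinvj : ∀ y, j * y⁻¹ * j⁻¹ = (j * y * j⁻¹)⁻¹ := fun y => by group
    induction hd using Subgroup.closure_induction with
    | mem a ha =>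
      rcases ha with rfl | rfl
      · exact Or.inl (by rw [hxi.eq, mul_inv_cancel_right])
      · exact Or.inr hinv
    | one => exact Or.inl (by group)
    | mul a b _ _ iha ihb =>
      have e : a * b * x * (a * b)⁻¹ = a * (b * x * b⁻¹) * a⁻¹ := by group
      have e' : a * x⁻¹ * a⁻¹ = (a * x * a⁻¹)⁻¹ := by group
      rcases ihb with hb | hb <;> rw [e, hb]
      · exact iha
      · rw [e']
        rcases iha with ha | ha <;> rw [ha]
        · exact Or.inr rfl
        · exact Or.inl (inv_inv x)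
    | inv a _ iha =>
      rcases iha with ha | ha
      · refine Or.inl ?_
        calc a⁻¹ * x * a⁻¹⁻¹ = a⁻¹ * (a * x * a⁻¹) * a⁻¹⁻¹ := by rw [ha]
          _ = x := by group
      · refine Or.inr ?_
        calc a⁻¹ * x * a⁻¹⁻¹ = (a⁻¹ * x⁻¹ * a⁻¹⁻¹)⁻¹ := by group
          _ = (a⁻¹ * (a * x * a⁻¹) * a⁻¹⁻¹)⁻¹ := by rw [ha]
          _ = x⁻¹ := by group
  have hdx := hdx' d hd
  -- conjugates of `i` centralize `x`, but `j` inverts it
  have h1 : ∀ y, i * y⁻¹ * i⁻¹ = (i * y * i⁻¹)⁻¹ := fun y => by group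
  have hix : i * x * i⁻¹ = x := by rw [hxi.eq, mul_inv_cancel_right]
  have hjx : d * i * d⁻¹ * x * (d * i * d⁻¹)⁻¹ = x := by
    have e : d * i * d⁻¹ * x * (d * i * d⁻¹)⁻¹ = d * (i * (d⁻¹ * x * d) * i⁻¹) * d⁻¹ := by group
    rw [e]
    rcases hdx with h | h
    · have h' : d⁻¹ * x * d = x := by
        calc d⁻¹ * x * d = d⁻¹ * (d * x * d⁻¹) * d := by rw [h]
          _ = x := by group
      rw [h', hix, h]
    · have h' : d⁻¹ * x * d = x⁻¹ := by
        calc d⁻¹ * x * d = (d⁻¹ * x⁻¹ * d)⁻¹ := by group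
          _ = (d⁻¹ * (d * x * d⁻¹) * d)⁻¹ := by rw [h]
          _ = x⁻¹ := by group
      rw [h', h1, hix]
      calc d * x⁻¹ * d⁻¹ = (d * x * d⁻¹)⁻¹ := by group
        _ = x := by rw [h, inv_inv]
  rw [hdij, hinv] at hjx
  have h2 : x ^ 2 = 1 := by rw [pow_two]; nth_rw 1 [← hjx]; exact inv_mul_cancel x
  have h3 := (Nat.dvd_prime Nat.prime_two).mp (orderOf_dvd_of_pow_eq_one h2)
  rcases h3 with h3 | h3
  · exact hx1 (orderOf_eq_one_iff.mp h3)
  · rw [h3] at hodd; exact absurd hodd (by decide)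


/-- Let M be a subgroup of even order of a finite group S such that M contains the centralizer in S of each of its involutions and the normal core of M in S has odd order. Then all involutions of S are conjugate. If moreover N_S(X) ≤ M for a Sylow 2-subgroup X of M and I is an involution in the centre of X, then all involutions of M are conjugate in M and M = M₀ C_M(I) for some subgroup M₀ of M of odd order. -/
theorem result {S : Type*} [Group S] [Finite S] (M : Subgroup S) (hM : Even (Nat.card M))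
    (hC : ∀ i ∈ M, orderOf i = 2 → Subgroup.centralizer ({i} : Set S) ≤ M) (hcore : Odd (Nat.card M.normalCore)) :
    (∀ x y : S, orderOf x = 2 → orderOf y = 2 → IsConj x y) ∧
      ∀ (X : Sylow 2 M) (I : M), I ∈ (Subgroup.center ↥(X : Subgroup ↥M)).map (X : Subgroup ↥M).subtype → orderOf I = 2 →
        Subgroup.normalizer (((X : Subgroup M).map M.subtype : Subgroup S) : Set S) ≤ M →
        (∀ x y : M, orderOf x = 2 → orderOf y = 2 → IsConj x y) ∧
          ∃ M₀ : Subgroup M, Odd (Nat.card M₀) ∧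
            ∀ m : M, ∃ a ∈ M₀, ∃ c ∈ Subgroup.centralizer ({I} : Set M), m = a * c := by
  classical
  obtain ⟨i₀, hi₀M, hi₀⟩ := exists_involution_of_even_card M hM
  -- an involution outside
  obtain ⟨j₀, hj₀M, hj₀⟩ : ∃ j, j ∉ M ∧ orderOf j = 2 := by
    by_contra h
    push Not at h
    have hall : ∀ j : S, orderOf j = 2 → j ∈ M := fun j hj => by
      by_contra hj'
      exact h j hj' hj
    have hi : i₀ ∈ M.normalCore := fun g => hall _ (by rw [CfsgLib.Involutions.orderOf_conj_eq, hi₀])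
    exact (Nat.not_even_iff_odd.mpr hcore) (even_card_of_involution_mem hi hi₀)
  have hio : ∀ i ∈ M, orderOf i = 2 → ∀ j, j ∉ M → orderOf j = 2 → IsConj i j := by
    intro i hi hi2 j hj hj2
    by_contra hc
    obtain ⟨z, hz, hzi, hzj⟩ := exists_common_involution hi2 hj2 hc
    exact outside hC hi hi2 hj hz hzi hzj
  have hall : ∀ x : S, orderOf x = 2 → IsConj x j₀ := fun x hx => by
    by_cases h : x ∈ M
    · exact hio x h hx j₀ hj₀M hj₀
    · exact (hio i₀ hi₀M hi₀ x h hx).symm.trans (hio i₀ hi₀M hi₀ j₀ hj₀M hj₀)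
  refine ⟨fun x y hx hy => (hall x hx).trans (hall y hy).symm, fun X I hI hI2 hN => ?_⟩
  have hI2' : orderOf (I : S) = 2 := by rw [Subgroup.orderOf_coe]; exact hI2
  obtain ⟨⟨I', hI'⟩, hI'c, rfl⟩ := hI
  set XS := (X : Subgroup M).map M.subtype with hXS
  have hXC : ∀ x ∈ (X : Subgroup M), x * I' = I' * x := fun x hx =>
    congrArg Subtype.val (Subgroup.mem_center_iff.mp hI'c ⟨x, hx⟩)
  -- one class inside `M`
  have hone : ∀ t : M, orderOf t = 2 → ∃ m : M, m * I' * m⁻¹ = t := by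
    intro t ht
    have ht' : orderOf (t : S) = 2 := by rw [Subgroup.orderOf_coe]; exact ht
    obtain ⟨g, hg⟩ := isConj_iff.mp ((hall (I' : S) hI2').trans (hall (t : S) ht').symm)
    have hle : XS.map (MulAut.conj g).toMonoidHom ≤ M := by
      rintro _ ⟨_, ⟨x, hx, rfl⟩, rfl⟩
      refine hC t t.2 ht' (Subgroup.mem_centralizer_singleton_iff.mpr ?_)
      have e := congrArg Subtype.val (hXC x hx)
      show g * (x : S) * g⁻¹ * (t : S) = (t : S) * (g * (x : S) * g⁻¹)
      rw [← hg]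
      calc g * (x : S) * g⁻¹ * (g * (I' : S) * g⁻¹) = g * ((x : S) * (I' : S)) * g⁻¹ := by group
        _ = g * ((I' : S) * (x : S)) * g⁻¹ := by rw [show (x : S) * (I' : S) = (I' : S) * (x : S) from e]
        _ = g * (I' : S) * g⁻¹ * (g * (x : S) * g⁻¹) := by group
    have hp : IsPGroup 2 (((XS.map (MulAut.conj g).toMonoidHom)).subgroupOf M) :=
      ((X.2.map _).map _).comap_subtype
    obtain ⟨Q, hQ⟩ := hp.exists_le_sylow
    obtain ⟨m, rfl⟩ := MulAction.exists_smul_eq M X Q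
    have hnorm : (m : S)⁻¹ * g ∈ Subgroup.normalizer (XS : Set S) := by
      refine Subgroup.mem_normalizer_fintype fun y hy => ?_
      obtain ⟨x, hx, rfl⟩ := hy
      have hmem : g * (x : S) * g⁻¹ ∈ XS.map (MulAut.conj g).toMonoidHom :=
        ⟨x, ⟨x, hx, rfl⟩, rfl⟩
      have h' : (⟨_, hle hmem⟩ : M) ∈ (m • X : Sylow 2 M) := hQ hmem
      rw [← SetLike.mem_coe, Sylow.coe_smul, Set.mem_smul_set_iff_inv_smul_mem, ← map_inv, MulAut.smul_def,
        MulAut.conj_apply] at h'
      refine ⟨_, h', ?_⟩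
      show (m : S)⁻¹ * (g * (x : S) * g⁻¹) * (m : S)⁻¹⁻¹ = (m : S)⁻¹ * g * (x : S) * ((m : S)⁻¹ * g)⁻¹
      group
    have hgM : g ∈ M := by simpa using M.mul_mem m.2 (hN hnorm)
    exact ⟨⟨g, hgM⟩, Subtype.ext hg⟩
  have hclass : ∀ x y : M, orderOf x = 2 → orderOf y = 2 → IsConj x y := by
    intro x y hx hy
    obtain ⟨a, rfl⟩ := hone x hx
    obtain ⟨b, rfl⟩ := hone y hy
    exact (isConj_iff.mpr ⟨a, rfl⟩ : IsConj I' _).symm.trans (isConj_iff.mpr ⟨b, rfl⟩)
  refine ⟨hclass, ?_⟩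
  -- fusion is controlled by `M`
  have hfus : ∀ t ∈ M, orderOf t = 2 → ∀ g : S, g * t * g⁻¹ ∈ M → g ∈ M := by
    intro t ht ht2 g hg
    obtain ⟨m, hm⟩ := isConj_iff.mp (hclass ⟨t, ht⟩ ⟨_, hg⟩ (by rwa [← Subgroup.orderOf_coe])
      (by rw [← Subgroup.orderOf_coe]; exact (CfsgLib.Involutions.orderOf_conj_eq g t).trans ht2))
    have hm' : (m : S) * t * (m : S)⁻¹ = g * t * g⁻¹ := congrArg Subtype.val hm
    have : (m : S)⁻¹ * g ∈ Subgroup.centralizer ({t} : Set S) := by
      rw [Subgroup.mem_centralizer_singleton_iff]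
      calc (m : S)⁻¹ * g * t = (m : S)⁻¹ * (g * t * g⁻¹) * g := by group
        _ = t * ((m : S)⁻¹ * g) := by rw [← hm']; group
    simpa using M.mul_mem m.2 (hC t ht ht2 this)
  -- counting involutions coset by coset
  have := Fintype.ofFinite S
  set T := Finset.univ.filter (fun t : S => orderOf t = 2) with hT
  set TM := T.filter (· ∈ M) with hTM
  have hcard : T.card = M.index * TM.card := by
    have h1 : T.card = (Subgroup.centralizer ({(I' : S)} : Set S)).index := by
      have e : (T : Set S) = MulAction.orbit (ConjAct S) (I' : S) := by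
        ext t
        rw [ConjAct.mem_orbit_conjAct, Finset.mem_coe, hT, Finset.mem_filter]
        exact ⟨fun ⟨_, ht⟩ => (hall t ht).trans (hall _ hI2').symm,
          fun h => ⟨Finset.mem_univ _, (CfsgLib.Involutions.orderOf_eq_of_isConj h.symm).trans hI2'⟩⟩
      rw [← Set.ncard_coe_finset, e, ← MulAction.index_stabilizer,
        ConjAct.stabilizer_eq_centralizer]
      rfl
    have h2 : TM.card = ((Subgroup.centralizer ({(I' : S)} : Set S)).subgroupOf M).index := by
      have e : (TM : Set S) = Subtype.val '' (MulAction.orbit (ConjAct M) I') := by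
        ext t
        rw [Finset.mem_coe, hTM, Finset.mem_filter, hT, Finset.mem_filter]
        constructor
        · rintro ⟨⟨-, ht⟩, htM⟩
          obtain ⟨m, hm⟩ := hone ⟨t, htM⟩ (by rwa [← Subgroup.orderOf_coe])
          exact ⟨⟨t, htM⟩, ConjAct.mem_orbit_conjAct.mpr (isConj_iff.mpr ⟨m, hm⟩).symm, rfl⟩
        · rintro ⟨y, hy, rfl⟩
          refine ⟨⟨Finset.mem_univ _, ?_⟩, y.2⟩
          rw [Subgroup.orderOf_coe, CfsgLib.Involutions.orderOf_eq_of_isConj (ConjAct.mem_orbit_conjAct.mp hy).symm]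
          exact hI2
      rw [← Set.ncard_coe_finset, e, Set.ncard_image_of_injective _ Subtype.val_injective,
        ← MulAction.index_stabilizer, ConjAct.stabilizer_eq_centralizer]
      show (Subgroup.centralizer ({I'} : Set M)).index = _
      congr 1
      ext y
      rw [Subgroup.mem_subgroupOf, Subgroup.mem_centralizer_singleton_iff, Subgroup.mem_centralizer_singleton_iff]
      exact Subtype.ext_iff
    rw [h1, h2, ← Subgroup.relIndex, Subgroup.relIndex, mul_comm]
    exact (Subgroup.relIndex_mul_index (hC _ I'.2 hI2')).symm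
  -- a coset with many involutions
  have hmap : ∀ t ∈ T \ TM, (QuotientGroup.mk t⁻¹ : S ⧸ M) ∈ (Finset.univ : Finset (S ⧸ M)).erase ((1 : S) : S ⧸ M) := by
    intro t ht
    simp only [hTM, hT, Finset.mem_sdiff, Finset.mem_filter, Finset.mem_univ, true_and, not_and] at ht
    refine Finset.mem_erase.mpr ⟨fun e => ht.2 ht.1 ?_, Finset.mem_univ _⟩
    rw [QuotientGroup.eq] at e
    simpa using e
  have hcardQ : ((Finset.univ : Finset (S ⧸ M)).erase ((1 : S) : S ⧸ M)).card = M.index - 1 := by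
    rw [Finset.card_erase_of_mem (Finset.mem_univ _), Finset.card_univ, ← Nat.card_eq_fintype_card]; rfl
  have hidx : 2 ≤ M.index := by
    by_contra h
    have := Subgroup.index_ne_zero_of_finite (H := M)
    exact hj₀M (((Subgroup.index_eq_one (H := M)).mp (by omega)) ▸ Subgroup.mem_top j₀)
  obtain ⟨c, hc, hfib⟩ := Finset.exists_le_card_fiber_of_mul_le_card_of_maps_to hmap
    (Finset.card_pos.mp (by rw [hcardQ]; omega)) (n := TM.card) (by
      rw [hcardQ, Finset.card_sdiff_of_subset (Finset.filter_subset _ _), hcard, Nat.sub_mul, one_mul])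
  obtain ⟨j, hj⟩ : ((T \ TM).filter fun t : S => (QuotientGroup.mk t⁻¹ : S ⧸ M) = c).Nonempty := by
    rw [← Finset.card_pos]
    refine lt_of_lt_of_le (Finset.card_pos.mpr ⟨i₀, ?_⟩) hfib
    simp [hTM, hT, hi₀, hi₀M]
  simp only [hTM, hT, Finset.mem_filter, Finset.mem_sdiff, Finset.mem_univ, true_and, not_and] at hj
  obtain ⟨⟨hj2, hjM⟩, hjc⟩ := hj
  replace hjM : j ∉ M := hjM hj2
  have hjj : j * j = 1 := mul_self_eq_one hj2
  have hjinv : j⁻¹ = j := inv_eq_self_of_involution hj2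
  -- the odd subgroup
  set D := M ⊓ M.map (MulAut.conj j).toMonoidHom with hD
  have hDodd : Odd (Nat.card D) := by
    rw [← Nat.not_even_iff_odd]
    intro he
    obtain ⟨z, ⟨hz, hzj⟩, hz2⟩ := exists_involution_of_even_card D he
    have := mem_map_conj_iff.mp hzj
    exact hjM (inv_mem_iff.mp (hfus z hz hz2 j⁻¹ (by rwa [inv_inv])))
  have hDo : ∀ x ∈ D, Odd (orderOf x) := fun x hx => hDodd.of_dvd_nat (Subgroup.orderOf_dvd_natCard D hx)
  set J := Finset.univ.filter (fun x : S => x ∈ D ∧ j * x * j⁻¹ = x⁻¹) with hJ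
  have hJcard : TM.card ≤ J.card := by
    refine le_trans hfib (Finset.card_le_card_of_injOn (fun t => t * j) ?_
      (fun a _ b _ e => mul_right_cancel e))
    intro t ht
    simp only [Finset.coe_filter, hTM, hT, Finset.mem_filter, Finset.mem_sdiff, Finset.mem_univ, true_and,
      not_and, Set.mem_ofPred_eq, hJ] at ht ⊢
    obtain ⟨⟨ht2, -⟩, htc⟩ := ht
    rw [← hjc, QuotientGroup.eq, inv_inv, hjinv] at htc
    have hinv : j * (t * j) * j⁻¹ = (t * j)⁻¹ := by
      rw [mul_inv_rev, inv_eq_self_of_involution ht2, hjinv, mul_assoc, mul_assoc, hjj, mul_one]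
    refine ⟨⟨htc, mem_map_conj_iff.mpr ?_⟩, hinv⟩
    rw [show j⁻¹ * (t * j) * j = j * (t * j) * j⁻¹ by rw [hjinv], hinv]
    exact M.inv_mem htc
  have hroot : ∀ x ∈ J, ∃ w : S, w ∈ D ∧ j * w * j⁻¹ = w⁻¹ ∧ w * w = x := by
    intro x hx
    simp only [hJ, Finset.mem_filter, Finset.mem_univ, true_and] at hx
    obtain ⟨k, hk⟩ := hDo x hx.1
    refine ⟨x ^ (k + 1), pow_mem hx.1 _, inverts_pow hx.2 _, ?_⟩
    rw [← pow_add, show k + 1 + (k + 1) = orderOf x + 1 by omega, pow_succ, pow_orderOf_eq_one, one_mul]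
  set orb := Finset.univ.filter (fun t : S => ∃ x ∈ D, t = x * (I' : S) * x⁻¹) with horb
  have horbTM : orb ⊆ TM := by
    intro t ht
    simp only [horb, Finset.mem_filter, Finset.mem_univ, true_and] at ht
    obtain ⟨x, hx, rfl⟩ := ht
    simp only [hTM, hT, Finset.mem_filter, Finset.mem_univ, true_and]
    exact ⟨(CfsgLib.Involutions.orderOf_conj_eq x _).trans hI2', M.mul_mem (M.mul_mem hx.1 I'.2) (M.inv_mem hx.1)⟩
  have hinjJ : J.card ≤ orb.card := by
    refine Finset.card_le_card_of_injOn (fun x => x * (I' : S) * x⁻¹) (fun x hx => ?_) ?_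
    · simp only [Finset.coe_filter, horb, Set.mem_ofPred_eq, Finset.mem_univ, true_and]
      exact ⟨x, (Finset.mem_filter.mp hx).2.1, rfl⟩
    intro x hx y hy e
    simp only [Finset.mem_coe] at hx hy
    obtain ⟨hxD, hxj⟩ := (Finset.mem_filter.mp hx).2
    obtain ⟨v, hv, hvj, rfl⟩ := hroot y hy
    simp only at e
    set u := v⁻¹ * x * v⁻¹ with hu
    have huD : u ∈ D := mul_mem (mul_mem (inv_mem hv) hxD) (inv_mem hv)
    have huj : j * u * j⁻¹ = u⁻¹ := by
      have e1 : j * u * j⁻¹ = (j * v * j⁻¹)⁻¹ * (j * x * j⁻¹) * (j * v * j⁻¹)⁻¹ := by rw [hu]; group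
      rw [e1, hxj, hvj, hu]; group
    have hcomm : Commute (v * (I' : S) * v⁻¹) u := by
      have e' : (v * v)⁻¹ * x * (I' : S) * ((v * v)⁻¹ * x)⁻¹ = (I' : S) := by
        calc _ = (v * v)⁻¹ * (x * (I' : S) * x⁻¹) * (v * v) := by simp only [mul_inv_rev, inv_inv, mul_assoc]
          _ = (v * v)⁻¹ * ((v * v) * (I' : S) * (v * v)⁻¹) * (v * v) := by rw [e]
          _ = _ := by group
      show v * (I' : S) * v⁻¹ * u = u * (v * (I' : S) * v⁻¹)
      rw [hu]
      calc v * (I' : S) * v⁻¹ * (v⁻¹ * x * v⁻¹) = v * ((I' : S) * ((v * v)⁻¹ * x)) * v⁻¹ := by group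
        _ = v * (((v * v)⁻¹ * x * (I' : S) * ((v * v)⁻¹ * x)⁻¹) * ((v * v)⁻¹ * x)) * v⁻¹ := by rw [e']
        _ = v⁻¹ * x * v⁻¹ * (v * (I' : S) * v⁻¹) := by group
    have hu1 := inverted_centralizes hC (M.mul_mem (M.mul_mem hv.1 I'.2) (M.inv_mem hv.1))
      ((CfsgLib.Involutions.orderOf_conj_eq v _).trans hI2') hjM hj2 (hDo u huD) huj hcomm
    rw [hu] at hu1
    calc x = v * (v⁻¹ * x * v⁻¹) * v := by group
      _ = v * v := by rw [hu1, mul_one]
  have horbeq : orb = TM := Finset.eq_of_subset_of_card_le horbTM (hJcard.trans hinjJ)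
  refine ⟨D.subgroupOf M, ?_, fun m => ?_⟩
  · rw [Nat.card_congr (Subgroup.subgroupOfEquivOfLe (inf_le_left : D ≤ M)).toEquiv]; exact hDodd
  · have hmI : (m : S) * (I' : S) * (m : S)⁻¹ ∈ TM := by
      simp only [hTM, hT, Finset.mem_filter, Finset.mem_univ, true_and]
      exact ⟨(CfsgLib.Involutions.orderOf_conj_eq _ _).trans hI2', M.mul_mem (M.mul_mem m.2 I'.2) (M.inv_mem m.2)⟩
    rw [← horbeq] at hmI
    simp only [horb, Finset.mem_filter, Finset.mem_univ, true_and] at hmI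
    obtain ⟨x, hx, hxm⟩ := hmI
    refine ⟨⟨x, hx.1⟩, hx, ⟨x, hx.1⟩⁻¹ * m, ?_, by group⟩
    refine Subgroup.mem_centralizer_singleton_iff.mpr (Subtype.ext ?_)
    show x⁻¹ * (m : S) * (I' : S) = (I' : S) * (x⁻¹ * (m : S))
    calc x⁻¹ * (m : S) * (I' : S) = x⁻¹ * ((m : S) * (I' : S) * (m : S)⁻¹) * (m : S) := by group
      _ = (I' : S) * (x⁻¹ * (m : S)) := by rw [hxm]; group

end Cfsg.Agent.S1905
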