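import Cfsg.Statements.S1906
import Cfsg.Agent.Lib.LinearTwo.InvolutionGroups
import Cfsg.Agent.Lib.H82.TransferFix
import Cfsg.Agent.Lib.OddOrder.PuigSeries

set_option autoImplicit false
open Cfsg

namespace Cfsg.Agent.S1906

open Subgroup MulAction CfsgLib.TransferFix82

/-- A central involution of a Sylow 2-subgroup, separated by a linear character from all central
elements conjugate to it, is not in the kernel of the transfer. -/
theorem transfer_eq_neg_one {G : Type*} [Group G] [Finite G] (X : Sylow 2 G) {A : Type*} [CommGroup A]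
    [HasDistribNeg A] (hne : (-1 : A) ≠ 1) (φ : ↥(X : Subgroup G) →* A) (w : G)
    (hw : w ∈ (X : Subgroup G)) (hww : w * w = 1)
    (hcen : ∀ x ∈ (X : Subgroup G), x * w = w * x)
    (hsign : ∀ u : ↥(X : Subgroup G), u * u = 1 → φ u = 1 ∨ φ u = -1)
    (hN : ∀ g ∈ normalizer ((X : Subgroup G) : Set G), ∀ h : g⁻¹ * w * g ∈ (X : Subgroup G),
      φ ⟨_, h⟩ = -1) : φ.transfer w = -1 := by
  classical
  haveI := Fintype.ofFinite (G ⧸ (X : Subgroup G))
  have hlong : ∀ (r : ℕ) (g : G) (h : g⁻¹ * w ^ r * g ∈ (X : Subgroup G)), 1 < r →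
      r ∣ orderOf w → φ ⟨_, h⟩ = 1 := by
    intro r g h hr hdvd
    have h2 : orderOf w ∣ 2 := orderOf_dvd_of_pow_eq_one (by rw [pow_two, hww])
    have : r = 2 := le_antisymm (Nat.le_of_dvd two_pos (hdvd.trans h2)) hr
    subst this
    rw [show (⟨_, h⟩ : ↥(X : Subgroup G)) = 1 from Subtype.ext (by simp [pow_two, hww]), map_one]
  rw [transfer_eq_prod_fixVal φ w hlong]
  have hval : ∀ q : G ⧸ (X : Subgroup G), fixVal φ w q = 1 ∨ fixVal φ w q = -1 := by
    intro q
    unfold fixVal
    split_ifs with h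
    · refine hsign _ (Subtype.ext ?_)
      show q.out⁻¹ * w * q.out * (q.out⁻¹ * w * q.out) = 1
      calc q.out⁻¹ * w * q.out * (q.out⁻¹ * w * q.out) = q.out⁻¹ * (w * w) * q.out := by group
        _ = 1 := by rw [hww]; group
    · exact Or.inl rfl
  have hinv : ∀ x ∈ (X : Subgroup G), ∀ q : G ⧸ (X : Subgroup G),
      fixVal φ w (x • q) = fixVal φ w q := by
    intro x hx q
    rw [fixVal_smul, mul_assoc, ← hcen x hx, inv_mul_cancel_left]
  let S : SubMulAction ↥(X : Subgroup G) (G ⧸ (X : Subgroup G)) :=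
    { carrier := {q | fixVal φ w q = -1}
      smul_mem' := fun x q hq => by
        show fixVal φ w ((x : G) • q) = -1
        rw [hinv x x.2]; exact hq }
  have hfix : ∀ q : G ⧸ (X : Subgroup G), (∀ x ∈ (X : Subgroup G), x • q = q) →
      fixVal φ w q = -1 := by
    intro q hq
    induction q using QuotientGroup.induction_on with
    | H g =>
      have hg : g ∈ normalizer ((X : Subgroup G) : Set G) := by
        have hle : ∀ x ∈ (X : Subgroup G), g⁻¹ * x * g ∈ (X : Subgroup G) := fun x hx =>
          conj_mem_of_smul_eq (hq x hx)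
        have hg' : g⁻¹ ∈ normalizer ((X : Subgroup G) : Set G) :=
          mem_normalizer_fintype fun x hx => by show _ ∈ (X : Subgroup G); simpa using hle x hx
        simpa using inv_mem hg'
      have h : g⁻¹ * w * g ∈ (X : Subgroup G) := by
        have := (mem_normalizer_iff.1 (inv_mem hg) w).1 hw
        simpa using this
      rw [fixVal_mk φ w g h]
      exact hN g hg h
  have hodd : Odd (Nat.card S) := by
    have h1 := X.2.card_modEq_card_fixedPoints S
    have h2 := X.2.card_modEq_card_fixedPoints (G ⧸ (X : Subgroup G))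
    have he : Nat.card (fixedPoints ↥(X : Subgroup G) S) =
        Nat.card (fixedPoints ↥(X : Subgroup G) (G ⧸ (X : Subgroup G))) := by
      refine Nat.card_congr
        { toFun := fun q => ⟨q.1.1, fun x => congrArg Subtype.val (q.2 x)⟩
          invFun := fun q => ⟨⟨q.1, hfix q.1 fun x hx => q.2 ⟨x, hx⟩⟩, fun x => Subtype.ext (q.2 x)⟩
          left_inv := fun q => rfl
          right_inv := fun q => rfl }
    rw [he] at h1
    have h3 : Nat.card S ≡ (X : Subgroup G).index [MOD 2] := h1.trans h2.symm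
    have h4 : ¬ 2 ∣ (X : Subgroup G).index := X.not_dvd_index
    unfold Nat.ModEq at h3
    rw [Nat.odd_iff]
    omega
  rw [← Finset.prod_filter_mul_prod_filter_not Finset.univ (fun q => fixVal φ w q = -1),
    Finset.prod_congr rfl (fun q hq => (Finset.mem_filter.1 hq).2),
    Finset.prod_eq_one (s := Finset.univ.filter fun q => ¬ fixVal φ w q = -1)
      (fun q hq => (hval q).resolve_right (Finset.mem_filter.1 hq).2),
    Finset.prod_const, mul_one]
  have hc : (Finset.univ.filter fun q => fixVal φ w q = -1).card = Nat.card S := by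
    rw [← Nat.card_eq_finsetCard]
    exact Nat.card_congr (Equiv.subtypeEquivRight fun q => by simp; rfl)
  rw [hc, hodd.neg_one_pow]


/-- Let G be a finite group with no subgroup of index 2 whose Sylow 2-subgroup X embeds in GL₃(F) for a finite field F of odd order. If X contains an elementary abelian subgroup of order 8, then X is abelian. -/
theorem result {G : Type*} [Group G] [Finite G] (hG : ∀ H : Subgroup G, H.index ≠ 2) (X : Sylow 2 G)
    {F : Type*} [Field F] [Fintype F] (hF : Odd (Fintype.card F))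
    (f : ↥(X : Subgroup G) →* GL (Fin 3) F) (hf : Function.Injective f)
    (E : Subgroup G) (hE : E ≤ (X : Subgroup G)) (hEa : Cfsg.IsElementaryAbelian 2 E) (hE8 : Nat.card E = 8) :
    IsMulCommutative (X : Subgroup G) := by
  classical
  have h2 : (2 : F) ≠ 0 := fun h => by
    have : ringChar F = 2 := CharP.ringChar_of_prime_eq_zero Nat.prime_two h
    exact (Nat.not_even_iff_odd.2 hF) (FiniteField.even_card_iff_char_two.1 this |> Nat.even_iff.2)
  have hne : (-1 : Fˣ) ≠ 1 := fun h => h2 (by
    have h' := congrArg Units.val h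
    simp only [Units.val_neg, Units.val_one] at h'
    linear_combination -h')
  -- the image of `E`
  obtain ⟨hEc, hEp⟩ := hEa
  set E' : Subgroup (GL (Fin 3) F) := (E.subgroupOf (X : Subgroup G)).map f with hE'
  have hEcomm : ∀ a ∈ E', ∀ b ∈ E', a * b = b * a := by
    rintro _ ⟨a, ha, rfl⟩ _ ⟨b, hb, rfl⟩
    rw [← map_mul, ← map_mul]
    exact congrArg f (Subtype.ext (show (a : G) * b = b * a from congrArg Subtype.val (hEc.is_comm.comm (⟨a.1, ha⟩ : E) ⟨b.1, hb⟩)))
  have hEsq : ∀ a ∈ E', a * a = 1 := by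
    rintro _ ⟨a, ha, rfl⟩
    rw [← map_mul, show a * a = 1 from Subtype.ext (by
      show (a : G) * a = 1
      rw [← pow_two]; exact hEp a ha), map_one]
  have hE'8 : Nat.card E' = 2 ^ 3 := by
    rw [hE', Subgroup.card_map_of_injective hf,
      Nat.card_congr (Subgroup.subgroupOfEquivOfLe hE).toEquiv, hE8]
    norm_num
  have hcen := (CfsgLib.LinearTwo.bound_matrix h2 E' hEcomm hEsq).2 hE'8
  have hmax : ∀ u : GL (Fin 3) F, u * u = 1 → (∀ e ∈ E', u * e = e * u) → u ∈ E' := by
    intro u hu hue
    set E₂ := Subgroup.closure (insert u (E' : Set (GL (Fin 3) F))) with hE₂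
    have hcomm₂ : ∀ a ∈ E₂, ∀ b ∈ E₂, a * b = b * a := by
      haveI := Subgroup.isMulCommutative_closure (k := insert u (E' : Set (GL (Fin 3) F))) (by
        rintro a (rfl | ha) b (rfl | hb)
        · rfl
        · exact hue b hb
        · exact (hue a ha).symm
        · exact hEcomm a ha b hb)
      exact fun a ha b hb => congrArg Subtype.val ((inferInstance : IsMulCommutative E₂).is_comm.comm ⟨a, ha⟩ ⟨b, hb⟩)
    have hsq₂ : ∀ a ∈ E₂, a * a = 1 := by
      intro a ha
      induction ha using Subgroup.closure_induction with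
      | mem x hx =>
        rcases hx with rfl | hx
        · exact hu
        · exact hEsq x hx
      | one => exact one_mul 1
      | mul x y hx hy ihx ihy =>
        rw [mul_assoc, ← mul_assoc y, hcomm₂ y hy x hx, mul_assoc, ihy, mul_one, ihx]
      | inv x _ ih => rw [← mul_inv_rev, ih, inv_one]
    have hle : E' ≤ E₂ := fun e he => Subgroup.subset_closure (Set.mem_insert_of_mem _ he)
    have heq : E' = E₂ := Subgroup.eq_of_le_of_card_ge hle
      (hE'8 ▸ (CfsgLib.LinearTwo.bound_matrix h2 E₂ hcomm₂ hsq₂).1)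
    rw [heq]
    exact Subgroup.subset_closure (Set.mem_insert _ _)
  by_contra hnc
  -- the scalar involution
  obtain ⟨w, hwE, hw⟩ : (-1 : GL (Fin 3) F) ∈ E' := hmax _ (by simp) (fun e _ => by simp)
  have hww : w * w = 1 := hf (by rw [map_mul, hw, map_one]; simp)
  have hwc : ∀ x : ↥(X : Subgroup G), x * w = w * x := fun x => hf (by rw [map_mul, map_mul, hw]; simp)
  let φ : ↥(X : Subgroup G) →* Fˣ := Matrix.GeneralLinearGroup.det.comp f
  have hφw : φ w = -1 := by
    refine Units.ext ?_
    show ((f w : GL (Fin 3) F) : Matrix (Fin 3) (Fin 3) F).det = -1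
    rw [hw, Units.val_neg, Units.val_one, Matrix.det_neg, Matrix.det_one]
    norm_num
  have hsign : ∀ u : ↥(X : Subgroup G), u * u = 1 → φ u = 1 ∨ φ u = -1 := by
    intro u hu
    have h : ((φ u : Fˣ) : F) * (φ u : Fˣ) = 1 := by rw [← Units.val_mul, ← map_mul, hu, map_one, Units.val_one]
    rcases mul_self_eq_one_iff.1 h with h | h
    · exact Or.inl (Units.ext h)
    · exact Or.inr (Units.ext (by simpa using h))
  -- the central involutions
  let Z : Subgroup ↥(X : Subgroup G) :=
    { carrier := {u | u ∈ Subgroup.center ↥(X : Subgroup G) ∧ u * u = 1}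
      mul_mem' := fun {a b} ha hb => ⟨mul_mem ha.1 hb.1, by
        rw [mul_assoc, ← mul_assoc b, Subgroup.mem_center_iff.1 ha.1 b, mul_assoc, hb.2, mul_one, ha.2]⟩
      one_mem' := ⟨one_mem _, one_mul 1⟩
      inv_mem' := fun {a} ha => ⟨inv_mem ha.1, by rw [← mul_inv_rev, ha.2, inv_one]⟩ }
  have hZE : Z.map f ≤ E' := by
    rintro _ ⟨u, hu, rfl⟩
    refine hmax _ (by rw [← map_mul, hu.2, map_one]) ?_
    rintro _ ⟨e, _, rfl⟩
    rw [← map_mul, ← map_mul, Subgroup.mem_center_iff.1 hu.1 e]
  have hcard : Nat.card (Z.map f) < 8 := by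
    have hle := Subgroup.card_dvd_of_le hZE
    rw [hE'8] at hle
    refine lt_of_le_of_ne (Nat.le_of_dvd (by norm_num) hle) fun h8 => hnc ⟨⟨fun a b => ?_⟩⟩
    have heq : Z.map f = E' := Subgroup.eq_of_le_of_card_ge hZE (by rw [hE'8, h8]; norm_num)
    have hz : ∀ c : ↥(X : Subgroup G), ∀ e ∈ E', f c * e = e * f c := by
      intro c e he
      rw [← heq] at he
      obtain ⟨u, hu, rfl⟩ := he
      rw [← map_mul, ← map_mul, Subgroup.mem_center_iff.1 hu.1 c]
    exact hf (by rw [map_mul, map_mul]; exact hcen _ _ (hz a) (hz b))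
  obtain ⟨s, hsZ, hsD, hs1⟩ : ∃ s ∈ Z, s ∈ commutator ↥(X : Subgroup G) ∧ s ≠ 1 := by
    have hD : commutator ↥(X : Subgroup G) ≠ ⊥ := fun h => hnc ⟨⟨fun a b => by
      rw [← commutatorElement_eq_one_iff_mul_comm]
      exact Subgroup.mem_bot.1 (h ▸ Subgroup.commutator_mem_commutator (Subgroup.mem_top a) (Subgroup.mem_top b))⟩⟩
    haveI : Fact (Nat.Prime 2) := ⟨Nat.prime_two⟩
    haveI : Nontrivial ↥(X : Subgroup G) := by
      obtain ⟨d, -, hd⟩ := (Subgroup.bot_or_exists_ne_one _).resolve_left hD
      exact ⟨d, 1, hd⟩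
    have hXg : IsPGroup 2 ↥(X : Subgroup G) := X.2
    haveI := hXg.isNilpotent
    obtain ⟨c, hc, hc1⟩ : ∃ c ∈ commutator ↥(X : Subgroup G) ⊓ Subgroup.center ↥(X : Subgroup G), c ≠ 1 := by
      refine (Subgroup.bot_or_exists_ne_one _).resolve_left fun h => ?_
      exact CfsgLib.OddOrder.PuigSeries.inf_center_ne_bot _ hD (by rw [inf_comm]; exact h)
    obtain ⟨k, hk⟩ := (IsPGroup.iff_orderOf.1 hXg c)
    cases k with
    | zero => exact absurd (orderOf_eq_one_iff.1 (by simpa using hk)) hc1
    | succ k =>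
      refine ⟨c ^ 2 ^ k, ⟨pow_mem hc.2 _, ?_⟩, pow_mem hc.1 _, ?_⟩
      · rw [← pow_add, ← two_mul, ← pow_succ', ← hk, pow_orderOf_eq_one]
      · refine fun h => ?_
        have := orderOf_dvd_of_pow_eq_one h
        rw [hk] at this
        have := Nat.le_of_dvd (by positivity) this
        have : 2 ^ k < 2 ^ (k + 1) := Nat.pow_lt_pow_right (by norm_num) k.lt_succ_self
        omega
  have hφs : φ s = 1 := Abelianization.commutator_subset_ker φ hsD
  have hwZ : w ∈ Z := ⟨Subgroup.mem_center_iff.2 hwc, hww⟩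
  have hws : w ≠ s := fun h => hne (by rw [← hφw, h, hφs])
  have hw1 : w ≠ 1 := fun h => hne (by rw [← hφw, h, map_one])
  have hZ4 : ∀ u ∈ Z, u = 1 ∨ u = s ∨ u = w ∨ u = s * w := by
    intro u hu
    have h4 : Nat.card Z ≤ 4 := by
      have hd := Subgroup.card_dvd_of_le hZE
      rw [hE'8, Subgroup.card_map_of_injective hf] at hd
      rw [Subgroup.card_map_of_injective hf] at hcard
      have : ∀ m : ℕ, m ∣ 2 ^ 3 → m < 8 → m ≤ 4 := by
        intro m hm hm8
        have : m ∈ Nat.divisors 8 := Nat.mem_divisors.2 ⟨hm, by norm_num⟩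
        rw [show Nat.divisors 8 = {1, 2, 4, 8} by decide] at this
        simp only [Finset.mem_insert, Finset.mem_singleton] at this
        omega
      exact this _ hd hcard
    by_contra hno
    push Not at hno
    obtain ⟨h1, h2', h3, h4'⟩ := hno
    have hs' : s * w ≠ 1 := fun h => hws
      (((eq_inv_of_mul_eq_one_left h).trans (inv_eq_of_mul_eq_one_right hww)).symm)
    let T : Finset ↥(X : Subgroup G) := {1, s, w, s * w, u}
    have hT : T.card = 5 := by
      have a1 : (1 : ↥(X : Subgroup G)) ∉ ({s, w, s * w, u} : Finset ↥(X : Subgroup G)) := by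
        simp only [Finset.mem_insert, Finset.mem_singleton, not_or]
        exact ⟨Ne.symm hs1, Ne.symm hw1, Ne.symm hs', Ne.symm h1⟩
      have a2 : s ∉ ({w, s * w, u} : Finset ↥(X : Subgroup G)) := by
        simp only [Finset.mem_insert, Finset.mem_singleton, not_or]
        exact ⟨Ne.symm hws, fun h => hw1 (mul_eq_left.1 h.symm), Ne.symm h2'⟩
      have a3 : w ∉ ({s * w, u} : Finset ↥(X : Subgroup G)) := by
        simp only [Finset.mem_insert, Finset.mem_singleton, not_or]
        exact ⟨fun h => hs1 (mul_eq_right.1 h.symm), Ne.symm h3⟩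
      have a4 : s * w ∉ ({u} : Finset ↥(X : Subgroup G)) := by
        simp only [Finset.mem_singleton]
        exact Ne.symm h4'
      show ({1, s, w, s * w, u} : Finset ↥(X : Subgroup G)).card = 5
      rw [Finset.card_insert_of_notMem a1, Finset.card_insert_of_notMem a2,
        Finset.card_insert_of_notMem a3, Finset.card_insert_of_notMem a4, Finset.card_singleton]
    have hTZ : (T : Set ↥(X : Subgroup G)) ⊆ (Z : Set ↥(X : Subgroup G)) := by
      intro y hy
      simp only [T, Finset.coe_insert, Finset.coe_singleton, Set.mem_insert_iff, Set.mem_singleton_iff] at hy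
      rcases hy with rfl | rfl | rfl | rfl | rfl
      exacts [one_mem _, hsZ, hwZ, mul_mem hsZ hwZ, hu]
    have h5 := Set.ncard_le_ncard hTZ (Set.toFinite _)
    rw [Set.ncard_coe_finset, hT, ← Nat.card_coe_set_eq] at h5
    exact absurd (h5.trans h4) (by norm_num)
  -- conjugates of `w` under the normalizer
  set N := Subgroup.normalizer ((X : Subgroup G) : Set G) with hN
  have hconjZ : ∀ g ∈ N, ∀ u : ↥(X : Subgroup G), u ∈ Z → ∀ h : g⁻¹ * u * g ∈ (X : Subgroup G),
      (⟨_, h⟩ : ↥(X : Subgroup G)) ∈ Z := by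
    intro g hg u hu h
    refine ⟨Subgroup.mem_center_iff.2 fun x => Subtype.ext ?_, Subtype.ext ?_⟩
    · show (x : G) * (g⁻¹ * u * g) = g⁻¹ * u * g * x
      have hx := (Subgroup.mem_normalizer_iff.1 hg x).1 x.2
      have hcomm : g * x * g⁻¹ * u = u * (g * x * g⁻¹) :=
        congrArg Subtype.val (Subgroup.mem_center_iff.1 hu.1 ⟨_, hx⟩)
      calc (x : G) * (g⁻¹ * u * g) = g⁻¹ * (g * x * g⁻¹ * u) * g := by group
        _ = _ := by rw [hcomm]; group
    · show g⁻¹ * u * g * (g⁻¹ * u * g) = 1
      calc g⁻¹ * (u : G) * g * (g⁻¹ * u * g) = g⁻¹ * ((u : G) * u) * g := by group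
        _ = 1 := by rw [show (u : G) * u = 1 from congrArg Subtype.val hu.2]; group
  have hmem : ∀ g ∈ N, ∀ u : ↥(X : Subgroup G), g⁻¹ * u * g ∈ (X : Subgroup G) := fun g hg u => by
    simpa using (Subgroup.mem_normalizer_iff.1 (inv_mem hg) u).1 u.2
  have hconjD : ∀ g ∈ N, ∀ h : g⁻¹ * s * g ∈ (X : Subgroup G), (⟨_, h⟩ : ↥(X : Subgroup G)) = s := by
    intro g hg h
    let c : ↥(X : Subgroup G) →* ↥(X : Subgroup G) :=
      { toFun := fun u => ⟨_, hmem g hg u⟩
        map_one' := Subtype.ext (by simp)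
        map_mul' := fun a b => Subtype.ext (by simp [mul_assoc]) }
    have hcs : c s ∈ commutator ↥(X : Subgroup G) := by
      have : c s ∈ (commutator ↥(X : Subgroup G)).map c := Subgroup.mem_map_of_mem c hsD
      rw [commutator_def, Subgroup.map_commutator] at this
      exact Subgroup.commutator_mono le_top le_top this
    have hcZ := hconjZ g hg s hsZ h
    have hφc : φ (c s) = 1 := Abelianization.commutator_subset_ker φ hcs
    rcases hZ4 _ hcZ with e | e | e | e
    · exact absurd (congrArg Subtype.val e) (fun e' : g⁻¹ * (s : G) * g = 1 => hs1 (Subtype.ext (by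
        calc (s : G) = g * (g⁻¹ * s * g) * g⁻¹ := by group
          _ = 1 := by rw [e']; group)))
    · exact e
    · rw [show c s = w from e, hφw] at hφc
      exact absurd hφc hne
    · rw [show c s = s * w from e, map_mul, hφs, one_mul, hφw] at hφc
      exact absurd hφc hne
  have hV := transfer_eq_neg_one X hne φ (w : G) w.2 (congrArg Subtype.val hww)
    (fun x hx => congrArg Subtype.val (hwc ⟨x, hx⟩)) hsign (fun g hg h => by
      rcases hZ4 _ (hconjZ g hg w hwZ h) with e | e | e | e
      · exact absurd (congrArg Subtype.val e) (fun e' : g⁻¹ * (w : G) * g = 1 => hw1 (Subtype.ext (by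
          calc (w : G) = g * (g⁻¹ * w * g) * g⁻¹ := by group
            _ = 1 := by rw [e']; group)))
      · refine absurd ?_ hws
        have hs' := hconjD g hg (hmem g hg s)
        refine Subtype.ext ?_
        have e' : g⁻¹ * (w : G) * g = g⁻¹ * (s : G) * g :=
          (congrArg Subtype.val e).trans (congrArg Subtype.val hs').symm
        exact mul_left_cancel (mul_right_cancel e')
      · rw [e, hφw]
      · rw [e, map_mul, hφs, one_mul, hφw])
  set V := MonoidHom.transfer φ
  haveI : Finite Fˣ := inferInstance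
  have hmemV : (-1 : Fˣ) ∈ V.range := ⟨w, hV⟩
  have heven : 2 ∣ Nat.card V.range := by
    have : orderOf (⟨-1, hmemV⟩ : V.range) = 2 := orderOf_eq_prime (Subtype.ext (by simp))
      (fun h => hne (congrArg Subtype.val h))
    exact this ▸ orderOf_dvd_natCard _
  set K : Subgroup V.range := (powMonoidHom 2 : V.range →* V.range).range
  have hK : K.index = 2 := by
    rw [IsCyclic.index_powMonoidHom_range, Nat.gcd_eq_right heven]
  exact hG (K.comap V.rangeRestrict)
    (by rw [Subgroup.index_comap_of_surjective _ V.rangeRestrict_surjective, hK])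

end Cfsg.Agent.S1906
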