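import Cfsg.Statements.S1910
import Cfsg.Agent.Lib.Techniques.TightlyEmbeddedAux

set_option autoImplicit false
open Cfsg

namespace Cfsg.Agent.S1910

open Subgroup CfsgLib.Techniques

/-- Let Q be a tightly embedded subgroup of a finite group G, g an element outside N_G(Q), T a nontrivial Sylow 2-subgroup of Q^g ∩ N_G(Q), and S a Sylow 2-subgroup of QT containing T. Then T ∩ Q = 1, and N_S(T) is the direct product of T and N_S(T) ∩ Q, with N_S(T) ∩ Q isomorphic to T. -/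
theorem result {G : Type*} [Group G] [Finite G] (Q : Subgroup G) (hQ : Cfsg.IsTightlyEmbedded Q)
    (g : G) (hg : g ∉ Subgroup.normalizer (Q : Set G))
    (T : Subgroup G) (hT1 : T ≠ ⊥) (hT : T ≤ Q.map (MulAut.conj g).toMonoidHom ⊓ Subgroup.normalizer (Q : Set G))
    (hTsyl : IsPGroup 2 T ∧ ¬ 2 ∣ T.relIndex (Q.map (MulAut.conj g).toMonoidHom ⊓ Subgroup.normalizer (Q : Set G)))
    (S : Subgroup G) (hTS : T ≤ S) (hS : S ≤ Q ⊔ T) (hSsyl : IsPGroup 2 S ∧ ¬ 2 ∣ S.relIndex (Q ⊔ T)) :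
    T ⊓ Q = ⊥ ∧
      T ⊓ (S ⊓ Subgroup.normalizer (T : Set G) ⊓ Q) = ⊥ ∧
      ⁅T, S ⊓ Subgroup.normalizer (T : Set G) ⊓ Q⁆ = ⊥ ∧
      T ⊔ (S ⊓ Subgroup.normalizer (T : Set G) ⊓ Q) = S ⊓ Subgroup.normalizer (T : Set G) ∧
      Nonempty (↥(S ⊓ Subgroup.normalizer (T : Set G) ⊓ Q) ≃* T) := by
  set B := Q.map (MulAut.conj g).toMonoidHom with hB
  have hne : Q ≠ B := fun h => hg (map_conj_eq_self_iff.1 h.symm)
  have hmapmap : ∀ (x y : G), (Q.map (MulAut.conj x).toMonoidHom ⊓ Q.map (MulAut.conj y).toMonoidHom : Subgroup G) =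
      (Q ⊓ Q.map (MulAut.conj (x⁻¹ * y)).toMonoidHom : Subgroup G).map (MulAut.conj x).toMonoidHom := by
    intro x y
    rw [map_inf _ _ _ (MulAut.conj x).injective, ← map_conj_mul, mul_inv_cancel_left]
  have hTI : ∀ x y : G, Q.map (MulAut.conj x).toMonoidHom ≠ Q.map (MulAut.conj y).toMonoidHom →
      Odd (Nat.card ↥(Q.map (MulAut.conj x).toMonoidHom ⊓ Q.map (MulAut.conj y).toMonoidHom : Subgroup G)) := by
    intro x y hxy
    rw [hmapmap, card_map_conj]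
    refine hQ.2 _ fun hn => hxy ?_
    conv_lhs => rw [← map_conj_eq_self_iff.2 hn, ← map_conj_mul, mul_inv_cancel_left]
  have hTmax : ∀ P : Subgroup G, IsPGroup 2 P → T ≤ P → P ≤ B ⊓ normalizer (Q : Set G) → P = T := by
    intro P hP hTP hPX
    obtain ⟨x, -, hx⟩ := exists_conj_le_sylow_of hPX hP hT hTsyl.1 hTsyl.2
    exact (eq_of_le_of_card_ge hTP (by rw [← card_map_conj P x]; exact card_le_of_le hx)).symm
  obtain ⟨hTA, hcomm, hsup, hRN, hTR, hcases⟩ :=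
    tight_half Q B hTI hne g rfl T hTsyl.1 hT1 hT hTmax S hTS hS hSsyl.1 hSsyl.2
  set R := S ⊓ normalizer (T : Set G) ⊓ Q with hR
  refine ⟨hTA, ?_, ?_, hsup, ?_⟩
  · exact le_bot_iff.1 (hTA ▸ inf_le_inf_left T inf_le_right)
  · rw [commutator_eq_bot_iff_le_centralizer]
    exact fun t ht => mem_centralizer_iff.2 fun r hr => (hcomm t ht r hr).symm
  -- the symmetric situation
  set X := Q ⊓ normalizer (B : Set G)
  have hRX : R ≤ X := le_inf inf_le_right hRN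
  have hTNQ : T ≤ normalizer (Q : Set G) := hT.trans inf_le_right
  have hTB : T ≤ normalizer (B : Set G) := (hT.trans inf_le_left).trans le_normalizer
  have hTNX : T ≤ normalizer (X : Set G) := fun t ht =>
    mem_normalizer_inf (hTNQ ht) (le_normalizer (hTB ht))
  have hR2 : IsPGroup 2 R := hSsyl.1.to_le (inf_le_left.trans inf_le_left)
  obtain ⟨P, hP⟩ := ((isPGroup_sup hTsyl.1 hR2 (fun t ht => centralizer_le_normalizer _
    (mem_centralizer_iff.2 fun r hr => (hcomm t ht r hr).symm))).of_equiv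
      (subgroupOfEquivOfLe (sup_le_sup_left hRX T)).symm).exists_le_sylow
  set P' := (P : Subgroup ↥(T ⊔ X)).map (T ⊔ X).subtype with hP'
  set T₁ := P' ⊓ X with hT₁
  have hP'2 : IsPGroup 2 P' := P.2.map _
  have hTRP : T ⊔ R ≤ P' := fun x hx => ⟨⟨x, sup_le_sup_left hRX T hx⟩, hP hx, rfl⟩
  have hRT₁ : R ≤ T₁ := le_inf (le_sup_right.trans hTRP) hRX
  have hT₁max : ∀ P₂ : Subgroup G, IsPGroup 2 P₂ → T₁ ≤ P₂ → P₂ ≤ X → P₂ = T₁ := by
    intro P₂ hP₂ hle hX
    have hPi : ¬ 2 ∣ P'.relIndex (T ⊔ X) := by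
      rw [relIndex, subgroupOf, comap_map_eq_self_of_injective (subtype_injective _)]
      exact P.not_dvd_index
    obtain ⟨x, hx, hxP⟩ := exists_conj_le_sylow_of (hX.trans le_sup_right) hP₂ (map_subtype_le _) hP'2 hPi
    refine (eq_of_le_of_card_ge hle ?_).symm
    rw [← card_map_conj P₂ x]
    refine card_le_of_le (le_inf hxP ?_)
    rw [← map_conj_eq_self_iff.2 ((sup_le hTNX le_normalizer) hx)]
    exact map_mono hX
  have hT₁c : ∀ t ∈ T, ∀ u ∈ T₁, t * u = u * t := by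
    intro t ht u hu
    obtain ⟨huP, huX⟩ := mem_inf.1 hu
    have htP : t ∈ P' := hTRP (mem_sup_left ht)
    have h1 : t * u * t⁻¹ * u⁻¹ ∈ P' ⊓ X ⊓ B := by
      refine mem_inf.2 ⟨mem_inf.2 ⟨P'.mul_mem (P'.mul_mem (P'.mul_mem htP huP) (P'.inv_mem htP))
        (P'.inv_mem huP), X.mul_mem ((mem_normalizer_iff.1 (hTNX ht) u).1 huX) (X.inv_mem huX)⟩, ?_⟩
      have := B.mul_mem (hT ht).1 ((mem_normalizer_iff.1 (mem_inf.1 huX).2 _).1 (B.inv_mem (hT ht).1))
      simpa [mul_assoc] using this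
    have h2 : (P' ⊓ X ⊓ B : Subgroup G) = ⊥ :=
      eq_bot_of_two_group_le_odd (hP'2.to_le (inf_le_left.trans inf_le_left))
        (le_inf (inf_le_left.trans (inf_le_right.trans inf_le_left)) inf_le_right) (hQ.2 g hg)
    rw [h2, mem_bot, mul_inv_eq_one, mul_inv_eq_iff_eq_mul] at h1
    exact h1
  have hRne : R ≠ ⊥ := fun h => hT1 (card_eq_one.1 (le_antisymm (by simpa [h] using hTR) Nat.card_pos))
  have hTI' : ∀ x y : G, B.map (MulAut.conj x).toMonoidHom ≠ B.map (MulAut.conj y).toMonoidHom →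
      Odd (Nat.card ↥(B.map (MulAut.conj x).toMonoidHom ⊓ B.map (MulAut.conj y).toMonoidHom : Subgroup G)) := by
    intro x y hxy
    rw [hB, ← map_conj_mul, ← map_conj_mul] at hxy ⊢
    exact hTI _ _ hxy
  have hT₁2 : IsPGroup 2 T₁ := hP'2.to_le inf_le_left
  have hT₁ne : T₁ ≠ ⊥ := fun h => hRne (le_bot_iff.1 (h ▸ hRT₁))
  obtain ⟨S₁, hS₁⟩ := ((isPGroup_sup hT₁2 hTsyl.1 (fun u hu => centralizer_le_normalizer _
    (mem_centralizer_iff.2 fun t ht => hT₁c t ht u hu))).of_equiv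
      (subgroupOfEquivOfLe (show T₁ ⊔ T ≤ B ⊔ T₁ from sup_le le_sup_right ((hT.trans inf_le_left).trans le_sup_left))).symm).exists_le_sylow
  set S' := (S₁ : Subgroup ↥(B ⊔ T₁)).map (B ⊔ T₁).subtype with hS'
  have hTS' : T₁ ⊔ T ≤ S' := fun x hx =>
    ⟨⟨x, sup_le le_sup_right ((hT.trans inf_le_left).trans le_sup_left) hx⟩, hS₁ hx, rfl⟩
  have hQB : Q = B.map (MulAut.conj g⁻¹).toMonoidHom := by
    rw [hB, ← map_conj_mul, inv_mul_cancel, map_conj_one]
  obtain ⟨-, hcomm', -, hRN', hT₁le, hcases'⟩ := tight_half B Q hTI' (Ne.symm hne) g⁻¹ hQB T₁ hT₁2 hT₁ne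
    inf_le_right hT₁max S' (le_sup_left.trans hTS') (map_subtype_le _) (S₁.2.map _)
    (by
      rw [relIndex, subgroupOf, comap_map_eq_self_of_injective (subtype_injective _)]
      exact S₁.not_dvd_index)
  set R' := S' ⊓ normalizer (T₁ : Set G) ⊓ B with hR'
  have hTR' : T ≤ R' := fun t ht => mem_inf.2 ⟨mem_inf.2 ⟨hTS' (mem_sup_right ht),
    centralizer_le_normalizer _ (mem_centralizer_iff.2 fun u hu => (hT₁c t ht u hu).symm)⟩, (hT ht).1⟩
  have hR'T : R' = T := hTmax R' ((S₁.2.map _).to_le (inf_le_left.trans inf_le_left)) hTR'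
    (le_inf inf_le_right hRN')
  rw [hR'T] at hT₁le hcases'
  have hcard : Nat.card R = Nat.card T :=
    le_antisymm ((card_le_of_le hRT₁).trans hT₁le) hTR
  have hRT₁eq : R = T₁ := eq_of_le_of_card_ge hRT₁ (hT₁le.trans hTR)
  rcases hcases with ⟨f, hf⟩ | hmaxR
  · exact ⟨(MulEquiv.ofBijective f (hf.bijective_of_nat_card_le hcard.le)).symm⟩
  rcases hcases' with ⟨f, hf⟩ | hmaxT
  · exact ⟨(MulEquiv.subgroupCongr hRT₁eq).trans
      (MulEquiv.ofBijective f (hf.bijective_of_nat_card_le (hTR.trans (card_le_of_le hRT₁))))⟩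
  · obtain ⟨P₀⟩ := (inferInstance : Nonempty (Sylow 2 ↥Q))
    set P₁ := (P₀ : Subgroup ↥Q).map Q.subtype with hP₁
    have hP₁i : ¬ 2 ∣ P₁.relIndex Q := by
      rw [relIndex, subgroupOf, comap_map_eq_self_of_injective (subtype_injective _)]
      exact P₀.not_dvd_index
    have hP₁2 : IsPGroup 2 P₁ := P₀.2.map _
    have key : ∀ V : Subgroup G, V ≤ Q → IsPGroup 2 V → Nat.card P₁ ≤ Nat.card V →
        ∃ x : G, V.map (MulAut.conj x).toMonoidHom = P₁ := by
      intro V hV hV2 hc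
      obtain ⟨x, -, hx⟩ := exists_conj_le_sylow_of hV hV2 (map_subtype_le _) hP₁2 hP₁i
      exact ⟨x, eq_of_le_of_card_ge hx (by rw [card_map_conj]; exact hc)⟩
    have hPR : Nat.card P₁ ≤ Nat.card R := hmaxR P₁ (map_subtype_le _) hP₁2
    have hTQ : T.map (MulAut.conj g⁻¹).toMonoidHom ≤ Q := by
      rw [hQB]
      exact map_mono (hT.trans inf_le_left)
    obtain ⟨x, hx⟩ := key R inf_le_right hR2 hPR
    obtain ⟨y, hy⟩ := key _ hTQ (hTsyl.1.map _) (by rw [card_map_conj]; exact hPR.trans hcard.le)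
    exact ⟨(R.equivMapOfInjective _ (MulAut.conj x).injective).trans ((MulEquiv.subgroupCongr
      (hx.trans hy.symm)).trans (((T.map (MulAut.conj g⁻¹).toMonoidHom).equivMapOfInjective _
        (MulAut.conj y).injective).symm.trans
      (T.equivMapOfInjective _ (MulAut.conj g⁻¹).injective).symm))⟩

end Cfsg.Agent.S1910
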