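import Cfsg.Statements.S1914
import Cfsg.Agent.Lib.FourCent.Main

set_option autoImplicit false
set_option linter.style.haveILetI false
open Cfsg

namespace Cfsg.Agent.S1914

/-- A finite cyclic group has at most one involution. -/
theorem involution_unique {R : Type*} [Group R] [Finite R] [IsCyclic R] {a b : R} (ha : orderOf a = 2)
    (hb : orderOf b = 2) : a = b := by
  obtain ⟨g, hg⟩ := IsCyclic.exists_generator (α := R)
  obtain ⟨i, rfl⟩ := Subgroup.mem_zpowers_iff.1 (hg a)
  obtain ⟨j, rfl⟩ := Subgroup.mem_zpowers_iff.1 (hg b)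
  obtain ⟨ha1, ha2⟩ := CfsgLib.Involutions.orderOf_eq_two_iff_mul.1 ha
  obtain ⟨hb1, hb2⟩ := CfsgLib.Involutions.orderOf_eq_two_iff_mul.1 hb
  obtain ⟨N, hN⟩ : ∃ N, orderOf g = N := ⟨_, rfl⟩
  rw [← zpow_add, CfsgLib.GammaRankOne.zp_one hN] at ha2 hb2
  rw [Ne, CfsgLib.GammaRankOne.zp_one hN] at ha1 hb1
  rw [CfsgLib.GammaRankOne.zp hN]
  obtain ⟨p, hp⟩ := ha2
  obtain ⟨q, hq⟩ := hb2
  rcases Int.even_or_odd p with ⟨p', rfl⟩ | ⟨p', rfl⟩
  · exact absurd ⟨p', by linarith⟩ ha1
  rcases Int.even_or_odd q with ⟨q', rfl⟩ | ⟨q', rfl⟩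
  · exact absurd ⟨q', by linarith⟩ hb1
  exact ⟨q' - p', by linarith⟩

/-- Let A be a semisimple subgroup (a central product of quasisimple groups, A = E(A)) of a finite group and t an involution normalizing A such that the Sylow 2-subgroups of C_A(t) are cyclic of order 4. Then A has 2-rank exactly 1. -/
theorem result {G : Type*} [Group G] [Finite G] (A : Subgroup G) (hA : Cfsg.layer ↥A = ⊤)
    (t : G) (ht : orderOf t = 2) (htA : t ∈ Subgroup.normalizer (A : Set G))
    (hC : ∀ R : Sylow 2 ↥(A ⊓ Subgroup.centralizer ({t} : Set G)), IsCyclic R ∧ Nat.card R = 4) :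
    Cfsg.PRankLE 2 1 A ∧ ¬ Cfsg.PRankLE 2 0 A := by
  classical
  haveI : Fact (Nat.Prime 2) := ⟨Nat.prime_two⟩
  -- the fixed points
  let K : Subgroup G := A ⊓ Subgroup.centralizer ({t} : Set G)
  obtain ⟨R⟩ : Nonempty (Sylow 2 K) := inferInstance
  obtain ⟨hcyc, hR4⟩ := hC R
  haveI := hcyc
  obtain ⟨g, hg⟩ := IsCyclic.exists_generator (α := (R : Subgroup K))
  obtain ⟨u, hu⟩ : ∃ u : G, u = ((g : K) : G) := ⟨_, rfl⟩
  have hu4 : orderOf u = 4 := by
    rw [hu, Subgroup.orderOf_coe, Subgroup.orderOf_coe, orderOf_eq_card_of_forall_mem_zpowers hg]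
    exact hR4
  have huA : u ∈ A := hu ▸ (g : K).2.1
  have htu : t * u = u * t := hu ▸ (Subgroup.mem_centralizer_singleton_iff.1 (g : K).2.2).symm
  have ht2 : t * t = 1 := CfsgLib.Involutions.mul_self_eq_one ht
  have hcentG : ∀ Q : Subgroup G, Q ≤ A → IsPGroup 2 Q → (∀ q ∈ Q, t * q = q * t) → Nat.card Q ≤ 4 := by
    intro Q hQA hQ hQt
    have hQK : Q ≤ K := fun q hq => ⟨hQA hq, Subgroup.mem_centralizer_singleton_iff.2 (hQt q hq).symm⟩
    obtain ⟨R', hR'⟩ := (show IsPGroup 2 (Q.subgroupOf K) from hQ.comap_subtype).exists_le_sylow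
    rw [← Nat.card_congr (Subgroup.subgroupOfEquivOfLe hQK).toEquiv, ← (hC R').2]
    exact Subgroup.card_le_of_le hR'
  have hrank0 : ¬ Cfsg.PRankLE 2 0 A := by
    intro h
    have hu4' : u ^ 4 = 1 := hu4 ▸ pow_orderOf_eq_one u
    let z : A := ⟨u ^ 2, pow_mem huA 2⟩
    have hz2 : z ^ 2 = 1 := Subtype.ext (show (u ^ 2) ^ 2 = 1 by rw [← pow_mul]; exact hu4')
    have hz1 : z ≠ 1 := fun e => by
      have := orderOf_dvd_of_pow_eq_one (show u ^ 2 = 1 from congrArg Subtype.val e)
      rw [hu4] at this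
      norm_num at this
    have := h (Subgroup.zpowers z) inferInstance (fun a ha => by
      obtain ⟨i, rfl⟩ := ha
      show (z ^ i) ^ 2 = 1
      rw [← zpow_natCast, ← zpow_mul, mul_comm, zpow_mul, zpow_natCast, hz2, one_zpow])
    rw [Nat.card_zpowers, orderOf_eq_prime hz2 hz1] at this
    norm_num at this
  refine ⟨CfsgLib.GammaRankOne.rank_of_oneInv ?_, hrank0⟩
  by_cases htmem : t ∈ A
  · -- `t` inside `A`: a Sylow subgroup has only one involution
    obtain ⟨T, hT⟩ := (show IsPGroup 2 (Subgroup.zpowers (⟨t, htmem⟩ : A)) from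
      CfsgLib.Involutions.isPGroup_two_zpowers (by rw [Subgroup.orderOf_mk]; exact ht)).exists_le_sylow
    have htT : (⟨t, htmem⟩ : A) ∈ (T : Subgroup A) := hT (Subgroup.mem_zpowers _)
    refine CfsgLib.GammaRankOne.oneInv_of_sylow A T ?_
    obtain ⟨R', hR'⟩ := (show IsPGroup 2 (((T : Subgroup A).map A.subtype).subgroupOf K) from
      (T.2.map A.subtype).comap_subtype).exists_le_sylow
    haveI := (hC R').1
    have huniq : ∀ a b : G, a ∈ K → b ∈ K → a ∈ (T : Subgroup A).map A.subtype →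
        b ∈ (T : Subgroup A).map A.subtype → orderOf a = 2 → orderOf b = 2 → a = b := by
      intro a b haK hbK ha hb ha2 hb2
      let a' : (R' : Subgroup K) := ⟨⟨a, haK⟩, hR' ha⟩
      let b' : (R' : Subgroup K) := ⟨⟨b, hbK⟩, hR' hb⟩
      exact congrArg (fun r : (R' : Subgroup K) => ((r : K) : G))
        (involution_unique (a := a') (b := b') (by rw [Subgroup.orderOf_mk, Subgroup.orderOf_mk]; exact ha2)
          (by rw [Subgroup.orderOf_mk, Subgroup.orderOf_mk]; exact hb2))
    have htS : t ∈ (T : Subgroup A).map A.subtype := ⟨_, htT, rfl⟩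
    have htK : t ∈ K := ⟨htmem, Subgroup.mem_centralizer_singleton_iff.2 rfl⟩
    -- `t` is central in the Sylow subgroup
    have hcen : ∀ s ∈ (T : Subgroup A).map A.subtype, s * t = t * s := by
      haveI : Nontrivial (T : Subgroup A) :=
        ⟨⟨⟨⟨t, htmem⟩, htT⟩, 1, fun e => CfsgLib.Involutions.ne_one_of_involution ht
          (congrArg (fun r : (T : Subgroup A) => ((r : A) : G)) e)⟩⟩
      haveI := T.2.center_nontrivial
      have hd : 2 ∣ Nat.card (Subgroup.center (T : Subgroup A)) := by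
        obtain ⟨k, hk⟩ := (T.2.to_subgroup (Subgroup.center (T : Subgroup A))).exists_card_eq
        rcases k with _ | k
        · have := Finite.one_lt_card (α := Subgroup.center (T : Subgroup A))
          omega
        · exact hk ▸ dvd_pow_self 2 (by omega)
      obtain ⟨⟨c, hc⟩, hc2⟩ := exists_prime_orderOf_dvd_card' 2 hd
      have hcc : ∀ s : (T : Subgroup A), s * c = c * s := Subgroup.mem_center_iff.1 hc
      rw [Subgroup.orderOf_mk] at hc2
      have hc2' : orderOf ((c : A) : G) = 2 := by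
        rw [Subgroup.orderOf_coe, Subgroup.orderOf_coe]; exact hc2
      have hcK : ((c : A) : G) ∈ K := ⟨(c : A).2, Subgroup.mem_centralizer_singleton_iff.2
        (congrArg (fun r : (T : Subgroup A) => ((r : A) : G)) (hcc ⟨_, htT⟩)).symm⟩
      have hcs : ((c : A) : G) = t := huniq _ _ hcK htK ⟨(c : A), c.2, rfl⟩ htS hc2' ht
      rintro _ ⟨s, hs, rfl⟩
      rw [← hcs]
      exact congrArg (fun r : (T : Subgroup A) => ((r : A) : G)) (hcc ⟨s, hs⟩)
    intro a ha b hb ha2 ha1 hb2 hb1 _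
    exact huniq a b
      ⟨by obtain ⟨x, -, rfl⟩ := ha; exact x.2, Subgroup.mem_centralizer_singleton_iff.2 (hcen a ha)⟩
      ⟨by obtain ⟨x, -, rfl⟩ := hb; exact x.2, Subgroup.mem_centralizer_singleton_iff.2 (hcen b hb)⟩
      ha hb (CfsgLib.Involutions.orderOf_eq_two_iff_mul.2 ⟨ha1, ha2⟩)
      (CfsgLib.Involutions.orderOf_eq_two_iff_mul.2 ⟨hb1, hb2⟩)
  -- pass to `A⟨t⟩`
  let H : Subgroup G := A ⊔ Subgroup.zpowers t
  have hAH : A ≤ H := le_sup_left
  have htH : t ∈ H := Subgroup.mem_sup_right (Subgroup.mem_zpowers t)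
  let A' : Subgroup H := A.subgroupOf H
  haveI hn : A'.Normal := Subgroup.normal_subgroupOf_of_le_normalizer
    (sup_le Subgroup.le_normalizer (Subgroup.zpowers_le.2 htA))
  let e : A' ≃* A := Subgroup.subgroupOfEquivOfLe hAH
  have hti : t⁻¹ = t := inv_eq_of_mul_eq_one_right ht2
  have htn : ∀ a ∈ A, t * a * t ∈ A := fun a ha => by
    have := (Subgroup.mem_normalizer_iff.1 htA a).1 ha
    rwa [hti] at this
  let D : Subgroup G :=
    { carrier := {x | x ∈ A ∨ x * t ∈ A}
      one_mem' := Or.inl (one_mem A)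
      mul_mem' := by
        rintro a b (ha | ha) (hb | hb)
        · exact Or.inl (mul_mem ha hb)
        · exact Or.inr (by rw [mul_assoc]; exact mul_mem ha hb)
        · refine Or.inr ?_
          have := mul_mem ha (htn b hb)
          rwa [show a * t * (t * b * t) = a * (t * t) * b * t by group, ht2, mul_one] at this
        · refine Or.inl ?_
          have := mul_mem ha (htn (b * t) hb)
          rwa [show a * t * (t * (b * t) * t) = a * (t * t) * b * (t * t) by group, ht2, mul_one,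
            mul_one] at this
      inv_mem' := by
        rintro a (ha | ha)
        · exact Or.inl (inv_mem ha)
        · refine Or.inr ?_
          have := htn _ (inv_mem ha)
          rwa [mul_inv_rev, hti, ← mul_assoc t t, ht2, one_mul] at this }
  have hHD : ∀ x ∈ H, x ∈ A ∨ x * t ∈ A := by
    intro x hx
    exact (sup_le (fun a ha => Or.inl ha) (Subgroup.zpowers_le.2 (Or.inr (by rw [ht2]; exact one_mem A))) :
      H ≤ D) hx
  have hidx : A'.index = 2 := by
    refine Subgroup.index_eq_two_iff.2 ⟨⟨t, htH⟩, fun x => ?_⟩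
    rcases hHD x x.2 with h | h
    · exact Or.inr ⟨h, fun h' => htmem ((Subgroup.mul_mem_cancel_left _ h).1 h')⟩
    · exact Or.inl ⟨h, fun h' => htmem ((Subgroup.mul_mem_cancel_left A (show (x : G) ∈ A from h')).1 h)⟩
  have hperf : commutator A' = ⊤ := by
    rw [_root_.commutator_def, ← Subgroup.map_top_of_surjective e.symm.toMonoidHom e.symm.surjective,
      ← Subgroup.map_commutator, ← _root_.commutator_def, CfsgLib.FourCent.perfect_of_layer hA]
  have hlayer : Cfsg.layer A' = ⊤ := by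
    rw [← CfsgLib.Components.map_layer_equiv e.symm, hA]
    exact Subgroup.map_top_of_surjective _ e.symm.surjective
  obtain ⟨P, C⟩ := CfsgLib.FourCent.exists_cfg A' hidx hperf (CfsgLib.FourCent.core_of_layer hlayer)
    (t := ⟨t, htH⟩) htmem (Subtype.ext ht2) (u := ⟨u, hAH huA⟩) huA
    (by rw [Subgroup.orderOf_mk]; exact hu4) (Subtype.ext htu) (fun Q hQA hQ hQt => by
      rw [← Subgroup.card_map_of_injective (f := H.subtype) (K := Q) Subtype.val_injective]
      refine hcentG _ ?_ (hQ.map _) ?_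
      · rintro _ ⟨q, hq, rfl⟩; exact hQA hq
      · rintro _ ⟨q, hq, rfl⟩; exact congrArg Subtype.val (hQt q hq))
  intro a ha b hb ha2 ha1 hb2 hb1 hab
  exact congrArg Subtype.val (C.oneInv ⟨a, hAH ha⟩ ha ⟨b, hAH hb⟩ hb (Subtype.ext ha2)
    (fun e => ha1 (congrArg Subtype.val e)) (Subtype.ext hb2) (fun e => hb1 (congrArg Subtype.val e))
    (Subtype.ext hab.eq))

end Cfsg.Agent.S1914
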