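import Cfsg.Statements.S1915
import Cfsg.Agent.Lib.GammaRankOne.Main
import Cfsg.Agent.Lib.Components.Basic
import Cfsg.Agent.Lib.OddOrder.Rank
-- import your own Cfsg.Agent.* helpers here

set_option autoImplicit false
set_option linter.style.haveILetI false
open Cfsg

namespace Cfsg.Agent.S1915

/-- Let A be a semisimple subgroup (A = E(A)) of a finite group and U a Klein four-group normalizing A. If the subgroup of A generated by the normalizers N_A(V) of the nontrivial subgroups V of U has 2-rank exactly 1, then A has 2-rank exactly 1. -/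
theorem result {G : Type*} [Group G] [Finite G] (A : Subgroup G) (hA : Cfsg.layer ↥A = ⊤)
    (U : Subgroup G) (hU : IsKleinFour U) (hUA : U ≤ Subgroup.normalizer (A : Set G))
    (hΓ : Cfsg.PRankLE 2 1 ↥(⨆ V : {V : Subgroup G // V ≤ U ∧ V ≠ ⊥}, A ⊓ Subgroup.normalizer ((V : Subgroup G) : Set G)) ∧
      ¬ Cfsg.PRankLE 2 0 ↥(⨆ V : {V : Subgroup G // V ≤ U ∧ V ≠ ⊥}, A ⊓ Subgroup.normalizer ((V : Subgroup G) : Set G))) :
    Cfsg.PRankLE 2 1 A ∧ ¬ Cfsg.PRankLE 2 0 A := by
  classical
  have hle : (⨆ V : {V : Subgroup G // V ≤ U ∧ V ≠ ⊥}, A ⊓ Subgroup.normalizer ((V : Subgroup G) : Set G)) ≤ A :=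
    iSup_le fun _ => inf_le_left
  refine ⟨?_, fun h => hΓ.2 (CfsgLib.OddOrder.PRankLE.of_le hle h)⟩
  let N := Subgroup.normalizer (A : Set G)
  let A' := A.subgroupOf N
  have hAN : A ≤ N := Subgroup.le_normalizer
  haveI : A'.Normal := Subgroup.normal_subgroupOf_of_le_normalizer le_rfl
  let e : A' ≃* A := Subgroup.subgroupOfEquivOfLe hAN
  have hA' : Cfsg.layer A' = ⊤ := by
    rw [← CfsgLib.Components.map_layer_equiv e.symm, hA, ← MonoidHom.range_eq_map]
    exact MonoidHom.range_eq_top.2 e.symm.surjective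
  have hperf : ∀ M : Subgroup A', M.Normal → M.index ≠ 2 := by
    intro M hM hi
    haveI := hM
    have hp := CfsgLib.Components.commutator_layer_self (G := A')
    rw [hA'] at hp
    have hle' : commutator A' ≤ M := by
      haveI : Fact (Nat.Prime 2) := ⟨Nat.prime_two⟩
      have hc : IsCyclic (A' ⧸ M) := isCyclic_of_prime_card (p := 2) hi
      exact Subgroup.Normal.quotient_commutative_iff_commutator_le.1 hc.isMulCommutative
    rw [commutator_def, hp, top_le_iff] at hle'
    rw [hle', Subgroup.index_top] at hi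
    omega
  let U' := U.subgroupOf N
  haveI := hU
  have hU' : IsKleinFour U' :=
    ⟨(Nat.card_congr (Subgroup.subgroupOfEquivOfLe hUA).toEquiv).trans IsKleinFour.card_four,
      (Monoid.exponent_eq_of_mulEquiv (Subgroup.subgroupOfEquivOfLe hUA)).trans IsKleinFour.exponent_two⟩
  have hone := CfsgLib.GammaRankOne.main A' hperf U' hU' (fun u hu hu1 => by
    have hVle : Subgroup.zpowers (u : G) ≤ U := Subgroup.zpowers_le.2 hu
    have hVne : Subgroup.zpowers (u : G) ≠ ⊥ := by
      rw [Ne, Subgroup.zpowers_eq_bot]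
      exact fun h => hu1 (Subtype.ext h)
    have hsub : A ⊓ Subgroup.centralizer ({(u : G)} : Set G) ≤
        ⨆ V : {V : Subgroup G // V ≤ U ∧ V ≠ ⊥}, A ⊓ Subgroup.normalizer ((V : Subgroup G) : Set G) := by
      refine le_trans (inf_le_inf_left _ ?_) (le_iSup (fun V : {V : Subgroup G // V ≤ U ∧ V ≠ ⊥} =>
        A ⊓ Subgroup.normalizer ((V : Subgroup G) : Set G)) ⟨_, hVle, hVne⟩)
      refine le_trans ?_ (Subgroup.centralizer_le_normalizer _)
      rw [← Subgroup.centralizer_closure, ← Subgroup.zpowers_eq_closure]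
    have h1 := CfsgLib.GammaRankOne.oneInv_of_rank (CfsgLib.OddOrder.PRankLE.of_le hsub hΓ.1)
    intro p hp q hq hp2 hp1 hq2 hq1 hpq
    have conv : ∀ x ∈ A' ⊓ Subgroup.centralizer ({u} : Set N),
        (x : G) ∈ A ⊓ Subgroup.centralizer ({(u : G)} : Set G) := fun x hx =>
      ⟨hx.1, Subgroup.mem_centralizer_singleton_iff.2
        (congrArg Subtype.val (Subgroup.mem_centralizer_singleton_iff.1 hx.2))⟩
    exact Subtype.ext (h1 _ (conv p hp) _ (conv q hq) (congrArg Subtype.val hp2)
      (fun h => hp1 (Subtype.ext h)) (congrArg Subtype.val hq2) (fun h => hq1 (Subtype.ext h))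
      (congrArg Subtype.val hpq.eq)))
  exact (CfsgLib.OddOrder.PRankLE.congr e).1 (CfsgLib.GammaRankOne.rank_of_oneInv hone)

end Cfsg.Agent.S1915
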