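import Cfsg.Statements.S1921
import Cfsg.Agent.Lib.Components.Basic
import Cfsg.Agent.Lib.Techniques.Basic

set_option autoImplicit false
open Cfsg

namespace Cfsg.Agent.S1921

/-- Let a be an involution of a finite group H and L a component of H with a L a⁻¹ ≠ L; put M = ⟨L, aLa⁻¹⟩ and let J be the subgroup generated by the elements x · a x a⁻¹ with x ∈ L (the diagonal). Then every element of M outside J·Z(M) generates M together with J. -/
theorem result {H : Type*} [Group H] [Finite H] (a : H) (ha : orderOf a = 2) (L : Subgroup H) (hL : Cfsg.IsComponent L)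
    (hLa : L.map (MulAut.conj a).toMonoidHom ≠ L) (x : H) (hxM : x ∈ L ⊔ L.map (MulAut.conj a).toMonoidHom)
    (hxJ : x ∉ Subgroup.closure {y : H | ∃ l ∈ L, y = l * (a * l * a⁻¹)} ⊔
      ((L ⊔ L.map (MulAut.conj a).toMonoidHom) ⊓ Subgroup.centralizer ((L ⊔ L.map (MulAut.conj a).toMonoidHom : Subgroup H) : Set H))) :
    Subgroup.closure {y : H | ∃ l ∈ L, y = l * (a * l * a⁻¹)} ⊔ Subgroup.zpowers x = L ⊔ L.map (MulAut.conj a).toMonoidHom := by
  set L' := L.map (MulAut.conj a).toMonoidHom with hL'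
  set J := Subgroup.closure {y : H | ∃ l ∈ L, y = l * (a * l * a⁻¹)} with hJ
  set M := L ⊔ L' with hM
  have hcomm : ∀ u ∈ L, ∀ v ∈ L', u * v = v * u := fun u hu v hv =>
    CfsgLib.Components.commute_of_commutator_eq_bot
      (CfsgLib.Components.commutator_components_eq_bot hL (CfsgLib.Components.isComponent_conj a hL)
        (Ne.symm hLa)) hu hv
  have hLc : L ≤ Subgroup.centralizer (L' : Set H) := fun u hu =>
    Subgroup.mem_centralizer_iff.2 fun v hv => (hcomm u hu v hv).symm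
  have hJM : J ≤ M := by
    rw [hJ, Subgroup.closure_le]
    rintro y ⟨l, hl, rfl⟩
    exact mul_mem (Subgroup.mem_sup_left hl)
      (Subgroup.mem_sup_right (CfsgLib.Techniques.conj_mem_map_conj a hl))
  set Q := J ⊔ Subgroup.zpowers x with hQ
  obtain ⟨l, hl, l', hl', rfl⟩ :=
    CfsgLib.Techniques.exists_mul_of_mem_sup (hLc.trans (Subgroup.centralizer_le_normalizer _)) hxM
  obtain ⟨k, hk, rfl⟩ := hl'
  have hj : k * (a * k * a⁻¹) ∈ J := Subgroup.subset_closure ⟨k, hk, rfl⟩
  have hm : l * k⁻¹ ∈ Q := by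
    have h1 : l * (MulAut.conj a).toMonoidHom k * (k * (a * k * a⁻¹))⁻¹ ∈ Q :=
      Q.mul_mem (Subgroup.mem_sup_right (Subgroup.mem_zpowers _)) (Q.inv_mem (Subgroup.mem_sup_left hj))
    simpa [mul_assoc] using h1
  set N := (L ⊓ Q).subgroupOf L with hN
  have hNn : N.Normal := by
    refine (Subgroup.normal_subgroupOf_iff inf_le_left).2 fun n g hn hg => ⟨?_, ?_⟩
    · exact L.mul_mem (L.mul_mem hg hn.1) (L.inv_mem hg)
    · have hj' : g * (a * g * a⁻¹) ∈ Q := Subgroup.mem_sup_left (Subgroup.subset_closure ⟨g, hg, rfl⟩)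
      have h2 := Q.mul_mem (Q.mul_mem hj' hn.2) (Q.inv_mem hj')
      have hc : (a * g * a⁻¹) * n = n * (a * g * a⁻¹) :=
        (hcomm n hn.1 _ (CfsgLib.Techniques.conj_mem_map_conj a hg)).symm
      have e : g * (a * g * a⁻¹) * n * (g * (a * g * a⁻¹))⁻¹ = g * n * g⁻¹ := by
        rw [mul_assoc g _ n, hc]; group
      rwa [e] at h2
  have hLQ : L ≤ Q := by
    rcases CfsgLib.Components.quasisimple_normal_eq_top_or_le_center hL.2 N with h | h
    · exact (Subgroup.subgroupOf_eq_top.1 h).trans inf_le_right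
    · exfalso
      apply hxJ
      have hmL : l * k⁻¹ ∈ L := L.mul_mem hl (L.inv_mem hk)
      have hmZ := h (show (⟨l * k⁻¹, hmL⟩ : L) ∈ N from ⟨hmL, hm⟩)
      rw [Subgroup.mem_center_iff] at hmZ
      have hle : M ≤ Subgroup.centralizer ({l * k⁻¹} : Set H) :=
        sup_le (fun u hu => Subgroup.mem_centralizer_singleton_iff.2 (congrArg Subtype.val (hmZ ⟨u, hu⟩)))
          (fun v hv => Subgroup.mem_centralizer_singleton_iff.2 (hcomm _ hmL v hv).symm)
      have e : l * (MulAut.conj a).toMonoidHom k = (l * k⁻¹) * (k * (a * k * a⁻¹)) := by simp [mul_assoc]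
      rw [e]
      refine mul_mem (Subgroup.mem_sup_right ⟨Subgroup.mem_sup_left hmL,
        Subgroup.mem_centralizer_iff.2 fun u hu => ?_⟩) (Subgroup.mem_sup_left hj)
      exact Subgroup.mem_centralizer_singleton_iff.1 (hle hu)
  refine le_antisymm (sup_le hJM (Subgroup.zpowers_le.2 hxM)) (sup_le hLQ ?_)
  rintro _ ⟨u, hu, rfl⟩
  have h1 : u⁻¹ * (u * (a * u * a⁻¹)) ∈ Q :=
    Q.mul_mem (Q.inv_mem (hLQ hu)) (Subgroup.mem_sup_left (Subgroup.subset_closure ⟨u, hu, rfl⟩))
  simpa [mul_assoc] using h1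

end Cfsg.Agent.S1921
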