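import Cfsg.Statements.S1922
import Mathlib
import Cfsg.Prelude.Def_Local

set_option autoImplicit false
open Cfsg

namespace Cfsg.Agent.S1922

open Subgroup

section
variable {G : Type*} [Group G] [Finite G] {z : G} {H : Subgroup G}

theorem conj_involution (hz : orderOf z = 2) {a : G} (ha : IsConj z a) : a * a = 1 := by
  obtain ⟨y, rfl⟩ := isConj_iff.1 ha
  have h : z * z = 1 := by rw [← sq, ← hz, pow_orderOf_eq_one]
  calc y * z * y⁻¹ * (y * z * y⁻¹) = y * (z * z) * y⁻¹ := by group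
    _ = 1 := by rw [h]; group

omit [Finite G] in
theorem isConj_conj {a : G} (ha : IsConj z a) (g : G) : IsConj z (g * a * g⁻¹) :=
  ha.trans (isConj_iff.2 ⟨g, rfl⟩)

/-- The point of a conjugate of `z`. -/
theorem point (h0 : ∀ g : G, g⁻¹ * z * g ∈ H ↔ g ∈ H) {y k : G} :
    k⁻¹ * (y * z * y⁻¹) * k ∈ H ↔ y⁻¹ * k ∈ H := by
  rw [← h0 (y⁻¹ * k)]
  simp [mul_assoc]

/-- Conjugates of `z` with different points generate a dihedral group of twice odd order. -/
theorem odd_orderOf_mul (hz : orderOf z = 2) (h0 : ∀ g : G, g⁻¹ * z * g ∈ H ↔ g ∈ H)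
    (h1 : ∀ t : G, IsConj z t → t ≠ z → t * z = z * t → ∀ g : G, g⁻¹ * (z * t) * g ∈ H ↔ g ∈ H)
    {a b : G} (ha : IsConj z a) (hb : IsConj z b) (haH : a ∈ H) (hbH : b ∉ H) : Odd (orderOf (a * b)) := by
  by_contra hodd
  obtain ⟨m, hm⟩ := even_iff_two_dvd.1 (Nat.not_odd_iff_even.1 hodd)
  have haa := conj_involution hz ha
  have hbb := conj_involution hz hb
  have hainv : a⁻¹ = a := inv_eq_of_mul_eq_one_right haa
  have hbinv : b⁻¹ = b := inv_eq_of_mul_eq_one_right hbb
  set r := a * b with hr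
  have hm0 : 0 < m := by have := orderOf_pos r; omega
  set i := r ^ m with hi
  have hii : i * i = 1 := by rw [hi, ← pow_add, ← two_mul, ← hm, pow_orderOf_eq_one]
  have hi1 : i ≠ 1 := by
    intro h
    have := Nat.le_of_dvd hm0 (orderOf_dvd_of_pow_eq_one h)
    omega
  have hiinv : i⁻¹ = i := inv_eq_of_mul_eq_one_right hii
  have hra : a * r * a⁻¹ = r⁻¹ := by rw [hr, mul_inv_rev, hainv, hbinv, ← mul_assoc, haa, one_mul]
  have hrb : b * r * b⁻¹ = r⁻¹ := by rw [hr, mul_inv_rev, hainv, hbinv, mul_assoc, mul_assoc, hbb, mul_one]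
  have hai : a * i = i * a := by
    rw [← mul_inv_eq_iff_eq_mul, hi, ← conj_pow, hra, inv_pow, ← hi, hiinv]
  have hbi : b * i = i * b := by
    rw [← mul_inv_eq_iff_eq_mul, hi, ← conj_pow, hrb, inv_pow, ← hi, hiinv]
  have hpow : ∀ c : G, c * r * c⁻¹ = r⁻¹ → ∀ j : ℕ, r ^ j * c * (r ^ j)⁻¹ = r ^ j * r ^ j * c := by
    intro c hc j
    have h : c * (r ^ j)⁻¹ * c⁻¹ = r ^ j := by rw [← conj_inv, ← conj_pow, hc, inv_pow, inv_inv]
    rw [mul_inv_eq_iff_eq_mul] at h
    rw [mul_assoc, h, mul_assoc]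
  have hcl : IsConj z (a * i) := by
    rcases Nat.even_or_odd' m with ⟨j, hj | hj⟩
    · have h := isConj_conj ha (r ^ j)
      rwa [hpow a hra j, ← pow_add, ← two_mul, ← hj, ← hi, ← hai] at h
    · have hbr : a * r = b := by rw [hr, ← mul_assoc, haa, one_mul]
      have hbj : b * r ^ (2 * j) = a * i := by
        rw [hi, hj, pow_succ', ← mul_assoc, hbr]
      have h := isConj_conj hb (r⁻¹ ^ j)
      have hrb' : b * r⁻¹ * b⁻¹ = r := by rw [← conj_inv, hrb, inv_inv]
      have h2 : b * r ^ (2 * j) = r⁻¹ ^ (2 * j) * b := by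
        rw [← mul_inv_eq_iff_eq_mul, ← conj_pow, hrb]
      rw [← hbj, h2]
      convert h using 1
      have h3 : b * (r⁻¹ ^ j)⁻¹ * b⁻¹ = r⁻¹ ^ j := by
        rw [← conj_inv, ← conj_pow, hrb', inv_pow]
      rw [mul_inv_eq_iff_eq_mul] at h3
      rw [mul_assoc, h3, ← mul_assoc, ← pow_add, two_mul]
  obtain ⟨y, rfl⟩ := isConj_iff.1 ha
  obtain ⟨w, rfl⟩ := isConj_iff.1 hb
  have hy : y⁻¹ ∈ H := by simpa using (point h0 (y := y) (k := 1)).1 (by simpa using haH)
  set t := y⁻¹ * (y * z * y⁻¹ * i) * y with ht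
  have ht' : t = z * (y⁻¹ * i * y) := by rw [ht]; group
  have htc : IsConj z t := by simpa [ht, mul_assoc] using isConj_conj hcl y⁻¹
  have htne : t ≠ z := by
    rw [ht', Ne, mul_eq_left]
    intro h
    exact hi1 (by rw [show i = y * (y⁻¹ * i * y) * y⁻¹ by group, h]; group)
  have htz : t * z = z * t := by
    have h := congrArg (fun u => y⁻¹ * u * y) hai
    simp only [mul_assoc, inv_mul_cancel_left, inv_mul_cancel, mul_one] at h
    rw [ht', mul_assoc]
    congr 1
    simpa [mul_assoc] using h.symm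
  have hzz : z * z = 1 := by rw [← sq, ← hz, pow_orderOf_eq_one]
  have hiw : w⁻¹ * i * w ∈ H := by
    refine (h0 _).1 ?_
    have h : w⁻¹ * i * w * z = z * (w⁻¹ * i * w) := by
      have h := congrArg (fun u => w⁻¹ * u * w) hbi
      simpa [mul_assoc] using h.symm
    rw [mul_assoc, ← h, inv_mul_cancel_left]
    simpa using (h0 1).2 (one_mem H)
  have hmem : y⁻¹ * w ∈ H := by
    refine (h1 t htc htne htz _).1 ?_
    rw [ht', ← mul_assoc z z, hzz, one_mul]
    simpa [mul_assoc] using hiw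
  refine hbH ?_
  have hw : w ∈ H := by simpa using mul_mem (inv_mem hy) hmem
  exact mul_mem (mul_mem hw (by simpa using (h0 1).2 (one_mem H))) (inv_mem hw)

/-- Two commuting permutation arguments give that the index is odd. -/
theorem odd_index (hz : orderOf z = 2) (h0 : ∀ g : G, g⁻¹ * z * g ∈ H ↔ g ∈ H) : ¬ 2 ∣ H.index := by
  classical
  letI : Fintype (G ⧸ H) := Fintype.ofFinite _
  intro hd
  have hzz : z ^ 2 = 1 := by rw [← hz, pow_orderOf_eq_one]
  obtain ⟨q, hq, hne⟩ := Equiv.Perm.exists_fixed_point_of_prime' (p := 2) (n := 1)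
    (σ := MulAction.toPermHom G (G ⧸ H) z) (by rwa [← Nat.card_eq_fintype_card])
    (by rw [pow_one, ← map_pow, hzz, map_one]) (a := ((1 : G) : G ⧸ H))
    (show ((z * 1 : G) : G ⧸ H) = _ by rw [mul_one]; exact QuotientGroup.eq.2 (by simpa using (h0 1).2 (one_mem H)))
  induction q using QuotientGroup.induction_on with
  | H x =>
    refine hne (QuotientGroup.eq.2 ?_)
    have hx : ((z * x : G) : G ⧸ H) = (x : G ⧸ H) := hq
    have h := QuotientGroup.eq.1 hx.symm
    rw [← mul_assoc] at h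
    simpa using (h0 x).1 h

/-- The number of conjugates of `z` in `H` is odd. -/
theorem odd_card_conj_inf (hz : orderOf z = 2) (hH : H ≠ ⊤) (h0 : ∀ g : G, g⁻¹ * z * g ∈ H ↔ g ∈ H)
    (h1 : ∀ t : G, IsConj z t → t ≠ z → t * z = z * t → ∀ g : G, g⁻¹ * (z * t) * g ∈ H ↔ g ∈ H) :
    ¬ 2 ∣ Nat.card {a : G // IsConj z a ∧ a ∈ H} := by
  classical
  obtain ⟨g, hg⟩ : ∃ g : G, g ∉ H := by
    by_contra h
    push Not at h
    exact hH (eq_top_iff.2 fun x _ => h x)
  let Aset := {a : G // IsConj z a ∧ a ∈ H}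
  let Bset := {b : G // IsConj z b ∧ g⁻¹ * b * g ∈ H}
  let Sset := {σ : G // IsConj z σ ∧ g⁻¹ * σ ∈ H}
  letI : Fintype Sset := Fintype.ofFinite _
  have hout : ∀ σ : Sset, σ.1 ∉ H := fun σ h => hg (by
    simpa using inv_mem (mul_mem σ.2.2 (inv_mem h)))
  have hsg : ∀ σ : Sset, σ.1 * g ∈ H := fun σ => by
    simpa [inv_eq_of_mul_eq_one_right (conj_involution hz σ.2.1)] using inv_mem σ.2.2
  have hAB : Nat.card Aset = Nat.card Bset := Nat.card_congr
    { toFun := fun a => ⟨g * a.1 * g⁻¹, isConj_conj a.2.1 g, by simpa [mul_assoc] using a.2.2⟩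
      invFun := fun b => ⟨g⁻¹ * b.1 * g, by simpa using isConj_conj b.2.1 g⁻¹, b.2.2⟩
      left_inv := fun a => Subtype.ext (by group)
      right_inv := fun b => Subtype.ext (by group) }
  let φ : Aset × Sset → Aset × Bset := fun x => (x.1, ⟨x.2.1 * x.1.1 * x.2.1⁻¹, isConj_conj x.1.2.1 _, by
    have h := mul_mem (mul_mem (inv_mem (hsg x.2)) x.1.2.2) (hsg x.2)
    have e := inv_eq_of_mul_eq_one_right (conj_involution hz x.2.2.1)
    simp only [mul_inv_rev, e] at h
    simp only [e]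
    simpa [mul_assoc] using h⟩)
  have hcard : Nat.card (Aset × Sset) = Nat.card (Aset × Bset) := by
    refine Nat.card_eq_of_bijective φ ⟨?_, ?_⟩
    · rintro ⟨a, σ⟩ ⟨a', σ'⟩ h
      obtain ⟨rfl, h'⟩ := Prod.mk.inj h
      have h'' : σ.1 * a.1 * σ.1⁻¹ = σ'.1 * a.1 * σ'.1⁻¹ := congrArg Subtype.val h'
      rw [inv_eq_of_mul_eq_one_right (conj_involution hz σ.2.1),
        inv_eq_of_mul_eq_one_right (conj_involution hz σ'.2.1)] at h''
      have hsq : (a.1 * σ.1) ^ 2 = (a.1 * σ'.1) ^ 2 := by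
        simp only [sq, mul_assoc] at h'' ⊢
        rw [h'']
      obtain ⟨k, hk⟩ := (odd_orderOf_mul hz h0 h1 a.2.1 σ.2.1 a.2.2 (hout σ)).mul
        (odd_orderOf_mul hz h0 h1 a.2.1 σ'.2.1 a.2.2 (hout σ'))
      have key : ∀ u : G, u ^ (2 * k + 1) = 1 → u = (u ^ 2) ^ (k + 1) := fun u hu => by
        rw [← pow_mul, show 2 * (k + 1) = 2 * k + 1 + 1 by ring, pow_succ, hu, one_mul]
      have e : a.1 * σ.1 = a.1 * σ'.1 := by
        rw [key (a.1 * σ.1) (by rw [← hk, pow_mul, pow_orderOf_eq_one, one_pow]),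
          key (a.1 * σ'.1) (by rw [← hk, mul_comm, pow_mul, pow_orderOf_eq_one, one_pow]), hsq]
      exact Prod.ext rfl (Subtype.ext (mul_left_cancel e))
    · rintro ⟨⟨a, hac, haH⟩, ⟨b, hbc, hbg⟩⟩
      have hbH : b ∉ H := by
        intro h
        obtain ⟨y, rfl⟩ := isConj_iff.1 hbc
        have h' : y⁻¹ * 1 ∈ H := (point h0).1 (by simpa using h)
        have h'' := (point h0).1 hbg
        exact hg (by simpa using mul_mem (inv_mem h') h'')
      obtain ⟨k, hk⟩ := odd_orderOf_mul hz h0 h1 hac hbc haH hbH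
      have haa := conj_involution hz hac
      have hbb := conj_involution hz hbc
      have hainv : a⁻¹ = a := inv_eq_of_mul_eq_one_right haa
      have hbinv : b⁻¹ = b := inv_eq_of_mul_eq_one_right hbb
      set r := a * b with hr
      have hra : ∀ n : ℕ, a * r ^ n = (r⁻¹) ^ n * a := fun n => by
        rw [← mul_inv_eq_iff_eq_mul, ← conj_pow]
        congr 1
        rw [hr, mul_inv_rev, hainv, hbinv, ← mul_assoc, haa, one_mul]
      have hrr : r ^ (2 * k + 1) = 1 := by rw [← hk, pow_orderOf_eq_one]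
      obtain ⟨j, hj⟩ : ∃ j, r ^ (4 * j + 1) = 1 := by
        rcases Nat.even_or_odd' k with ⟨l, rfl | rfl⟩
        · exact ⟨l, by rwa [← mul_assoc] at hrr⟩
        · exact ⟨3 * l + 2, by rw [show 4 * (3 * l + 2) + 1 = (2 * (2 * l + 1) + 1) * 3 by ring, pow_mul, hrr, one_pow]⟩
      set σ := r ^ j * a * (r ^ j)⁻¹ with hσ
      have hσeq : σ = r ^ (2 * j) * a := by
        have e : a * (r ^ j)⁻¹ = r ^ j * a := by
          rw [← mul_inv_eq_iff_eq_mul, ← conj_inv, mul_inv_eq_iff_eq_mul.2 (hra j), inv_pow, inv_inv]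
        rw [hσ, mul_assoc, e, ← mul_assoc, ← pow_add, two_mul]
      have hσc : IsConj z σ := isConj_conj hac _
      have hσinv : σ⁻¹ = σ := inv_eq_of_mul_eq_one_right (conj_involution hz hσc)
      have hσab : σ * a * σ⁻¹ = b := by
        rw [hσinv, hσeq]
        have hb' : b = r⁻¹ * a := by rw [hr, mul_inv_rev, hainv, hbinv, mul_assoc, haa, mul_one]
        have h4 : r ^ (4 * j) = r⁻¹ := eq_inv_of_mul_eq_one_left (by rwa [← pow_succ])
        rw [hb', ← h4]
        calc r ^ (2 * j) * a * a * (r ^ (2 * j) * a) = r ^ (2 * j) * (a * a) * r ^ (2 * j) * a := by group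
          _ = r ^ (4 * j) * a := by rw [haa, mul_one, ← pow_add]; ring_nf
      have hσg : g⁻¹ * σ ∈ H := by
        obtain ⟨y, hy⟩ := isConj_iff.1 hac
        have hyH : y ∈ H := by
          have h' : y⁻¹ * 1 ∈ H := (point h0).1 (by simpa [hy] using haH)
          simpa using h'
        have h2 : (σ * y)⁻¹ * g ∈ H := by
          refine (point h0).1 ?_
          rw [show σ * y * z * (σ * y)⁻¹ = σ * (y * z * y⁻¹) * σ⁻¹ by group, hy, hσab]
          exact hbg
        have h3 := inv_mem (mul_mem hyH h2)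
        simpa [hσinv, mul_assoc] using h3
      exact ⟨(⟨a, hac, haH⟩, ⟨σ, hσc, hσg⟩), Prod.ext rfl (Subtype.ext hσab)⟩
  rw [Nat.card_prod, Nat.card_prod, ← hAB] at hcard
  have hA0 : 0 < Nat.card Aset := by
    haveI : Nonempty Aset := ⟨⟨z, IsConj.refl z, by simpa using (h0 1).2 (one_mem H)⟩⟩
    exact Nat.card_pos
  have hS : Nat.card Sset = Nat.card Aset := Nat.eq_of_mul_eq_mul_left hA0 hcard
  change ¬ 2 ∣ Nat.card Aset
  rw [← hS]
  intro hd
  haveI : Nonempty Sset := (Nat.card_pos_iff.1 (hS ▸ hA0)).1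
  obtain ⟨σ₀⟩ := ‹Nonempty Sset›
  let c : Sset → Sset := fun σ => ⟨σ₀.1 * σ.1 * σ₀.1⁻¹, isConj_conj σ.2.1 _, by
    rw [inv_eq_of_mul_eq_one_right (conj_involution hz σ₀.2.1)]
    simpa [mul_assoc] using mul_mem (mul_mem σ₀.2.2 (hsg σ)) σ₀.2.2⟩
  have hc : Function.Involutive c := fun σ => Subtype.ext (by
    simp only [c]
    have h := conj_involution hz σ₀.2.1
    rw [← mul_assoc σ₀.1, ← mul_assoc σ₀.1, h, one_mul, mul_assoc, ← mul_inv_rev, h, inv_one, mul_one])
  obtain ⟨σ, hσ, hne⟩ := Equiv.Perm.exists_fixed_point_of_prime' (p := 2) (n := 1)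
    (σ := hc.toPerm c) (by rwa [← Nat.card_eq_fintype_card])
    (Equiv.ext fun x => by simp [pow_one, sq, hc x]) (a := σ₀) (Subtype.ext (by simp [c]))
  have hσ' : σ₀.1 * σ.1 * σ₀.1⁻¹ = σ.1 := congrArg Subtype.val hσ
  obtain ⟨y, hy⟩ := isConj_iff.1 σ₀.2.1
  set t := y⁻¹ * σ.1 * y with ht
  have htc : IsConj z t := by simpa [ht] using isConj_conj σ.2.1 y⁻¹
  have htne : t ≠ z := fun h => hne (Subtype.ext (calc
    σ.1 = y * t * y⁻¹ := by rw [ht]; group
    _ = σ₀.1 := by rw [h, hy]))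
  have htz : t * z = z * t := by
    rw [← hy, mul_inv_eq_iff_eq_mul] at hσ'
    calc t * z = y⁻¹ * (σ.1 * (y * z * y⁻¹)) * y := by rw [ht]; group
      _ = y⁻¹ * (y * z * y⁻¹ * σ.1) * y := by rw [hσ']
      _ = z * t := by rw [ht]; group
  have hw : σ₀.1 * σ.1 = y * (z * t) * y⁻¹ := by rw [ht, ← hy]; group
  have e1 : y⁻¹ ∈ H := by
    refine (h1 t htc htne htz y⁻¹).1 ?_
    have h := mul_mem (inv_mem σ₀.2.2) σ.2.2
    rw [inv_inv, ← hw]
    simpa [mul_assoc, inv_eq_of_mul_eq_one_right (conj_involution hz σ₀.2.1)] using h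
  have e2 : y⁻¹ * g ∈ H := by
    refine (h1 t htc htne htz (y⁻¹ * g)).1 ?_
    have h := mul_mem σ₀.2.2 (hsg σ)
    rw [show (y⁻¹ * g)⁻¹ * (z * t) * (y⁻¹ * g) = g⁻¹ * (y * (z * t) * y⁻¹) * g by group, ← hw]
    simpa [mul_assoc] using h
  exact hg (by simpa using mul_mem (inv_mem e1) e2)

end
/-- Let z be an involution of a finite group G and H a proper subgroup such that z lies in gHg⁻¹ exactly when g ∈ H. Then the following are equivalent: (1) for every conjugate t ≠ z of z commuting with z, the product zt lies in gHg⁻¹ exactly when g ∈ H; (2) z lies in the centre of some Sylow 2-subgroup of G, and for every conjugate t ≠ z of z commuting with z, the centralizer of zt is contained in H. -/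
theorem result {G : Type*} [Group G] [Finite G] (z : G) (hz : orderOf z = 2) (H : Subgroup G) (hH : H ≠ ⊤)
    (h0 : ∀ g : G, z ∈ H.map (MulAut.conj g).toMonoidHom ↔ g ∈ H) :
    (∀ t : G, IsConj z t → t ≠ z → t * z = z * t → ∀ g : G, z * t ∈ H.map (MulAut.conj g).toMonoidHom ↔ g ∈ H) ↔
      ((∃ P : Sylow 2 G, z ∈ (Subgroup.center ↥(P : Subgroup G)).map (P : Subgroup G).subtype) ∧
        ∀ t : G, IsConj z t → t ≠ z → t * z = z * t → Subgroup.centralizer ({z * t} : Set G) ≤ H) := by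
  have hmem : ∀ x g : G, x ∈ H.map (MulAut.conj g).toMonoidHom ↔ g⁻¹ * x * g ∈ H := by
    intro x g
    constructor
    · rintro ⟨h, hh, rfl⟩
      simpa [mul_assoc] using hh
    · exact fun h => ⟨_, h, by simp [mul_assoc]⟩
  simp only [hmem] at h0 ⊢
  have hzH : z ∈ H := by simpa using (h0 1).2 (one_mem H)
  have hCH : ∀ c : G, c * z = z * c → c ∈ H := fun c hc => (h0 c).1 (by
    rw [mul_assoc, ← hc, inv_mul_cancel_left]; exact hzH)
  have hodd := odd_index hz h0
  constructor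
  · intro h1
    refine ⟨?_, fun t htc htne htz c hc => ?_⟩
    swap
    · refine (h1 t htc htne htz c).1 ?_
      rw [mul_assoc, ← mem_centralizer_singleton_iff.1 hc, inv_mul_cancel_left]
      exact mul_mem hzH (hCH t htz)
    let Q : Sylow 2 ↥H := default
    set P := (Q : Subgroup ↥H).map H.subtype with hPdef
    have hPH : P ≤ H := map_subtype_le _
    have hP2 : IsPGroup 2 ↥P := Q.isPGroup'.map _
    have hPi : ¬ 2 ∣ P.index := by
      rw [← relIndex_mul_index hPH, Nat.prime_two.dvd_mul, not_or]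
      refine ⟨?_, hodd⟩
      rw [relIndex, hPdef, subgroupOf, comap_map_eq_self_of_injective H.subtype_injective]
      exact Q.not_dvd_index
    letI : MulAction ↥P {a : G // IsConj z a ∧ a ∈ H} :=
      { smul := fun x a => ⟨x.1 * a.1 * x.1⁻¹, isConj_conj a.2.1 _,
          mul_mem (mul_mem (hPH x.2) a.2.2) (inv_mem (hPH x.2))⟩
        one_smul := fun a => Subtype.ext (show (1 : G) * a.1 * (1 : G)⁻¹ = a.1 by simp)
        mul_smul := fun x y a => Subtype.ext
          (show (x.1 * y.1) * a.1 * (x.1 * y.1)⁻¹ = x.1 * (y.1 * a.1 * y.1⁻¹) * x.1⁻¹ by group) }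
    haveI : Fact (Nat.Prime 2) := ⟨Nat.prime_two⟩
    obtain ⟨⟨a, hac, haH'⟩, hafix⟩ := hP2.nonempty_fixed_point_of_prime_not_dvd_card _
      (odd_card_conj_inf hz hH h0 h1)
    obtain ⟨y, rfl⟩ := isConj_iff.1 hac
    have hP' : IsPGroup 2 ↥(P.map (MulAut.conj y⁻¹).toMonoidHom) := hP2.map _
    have hPi' : ¬ 2 ∣ (P.map (MulAut.conj y⁻¹).toMonoidHom).index := by
      rwa [show (MulAut.conj y⁻¹).toMonoidHom = (MulAut.conj y⁻¹ : G ≃* G) from rfl, index_map_equiv]
    have hzc : ∀ x ∈ P.map (MulAut.conj y⁻¹).toMonoidHom, x * z = z * x := by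
      rintro _ ⟨x, hx, rfl⟩
      have h : x * (y * z * y⁻¹) * x⁻¹ = y * z * y⁻¹ := congrArg Subtype.val (hafix ⟨x, hx⟩)
      rw [mul_inv_eq_iff_eq_mul] at h
      simp only [MulEquiv.coe_toMonoidHom, MulAut.conj_apply, inv_inv]
      calc y⁻¹ * x * y * z = y⁻¹ * (x * (y * z * y⁻¹)) * y := by group
        _ = y⁻¹ * (y * z * y⁻¹ * x) * y := by rw [h]
        _ = z * (y⁻¹ * x * y) := by group
    let R : Sylow 2 G := hP'.toSylow hPi'
    have hRc : ∀ x ∈ (R : Subgroup G), x * z = z * x := hzc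
    have hzR : z ∈ (R : Subgroup G) := by
      have hzz : IsPGroup 2 ↥(zpowers z) := IsPGroup.of_card (n := 1) (by rw [Nat.card_zpowers, hz, pow_one])
      have hsup : IsPGroup 2 ↥((R : Subgroup G) ⊔ zpowers z) := by
        refine R.isPGroup'.to_sup_of_normal_right' hzz (fun x hx => ?_)
        rw [mem_set_normalizer_iff]
        intro w
        have e : ∀ k : ℤ, x * z ^ k * x⁻¹ = z ^ k := fun k => by
          rw [mul_inv_eq_iff_eq_mul]
          exact (show Commute x z from hRc x hx).zpow_right k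
        constructor
        · rintro ⟨k, rfl⟩
          exact ⟨k, (e k).symm⟩
        · rintro ⟨k, hk⟩
          exact ⟨k, mul_left_cancel (mul_right_cancel ((e k).trans hk))⟩
      exact (R.3 hsup le_sup_left).le (mem_sup_right (mem_zpowers z))
    exact ⟨R, ⟨z, hzR⟩, mem_center_iff.2 fun x => Subtype.ext (hRc x x.2), rfl⟩
  · rintro ⟨⟨P, hPz⟩, hcent⟩ t htc htne htz g
    have hzt : z * t ∈ centralizer ({z} : Set G) := by
      rw [mem_centralizer_singleton_iff, mul_assoc, htz]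
    constructor
    swap
    · exact fun hg => mul_mem (mul_mem (inv_mem hg) (mul_mem hzH (hCH t htz))) hg
    intro hu
    obtain ⟨⟨w, hw⟩, hwc, rfl⟩ := hPz
    have hPH : (P : Subgroup G) ≤ H := fun x hx =>
      hCH x (congrArg Subtype.val (mem_center_iff.1 hwc ⟨x, hx⟩))
    simp only [coe_subtype] at *
    set u := g⁻¹ * (w * t) * g with hudef
    have hu2 : u ^ 2 = 1 := by
      have hww : w * w = 1 := by rw [← sq, ← hz, pow_orderOf_eq_one]
      rw [sq, hudef]
      calc g⁻¹ * (w * t) * g * (g⁻¹ * (w * t) * g) = g⁻¹ * (w * (t * w) * t) * g := by group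
        _ = g⁻¹ * ((w * w) * (t * t)) * g := by rw [htz]; group
        _ = 1 := by rw [hww, conj_involution hz htc]; group
    have hU : IsPGroup 2 ↥((zpowers u).subgroupOf H) :=
      (IsPGroup.comap_subtype (p := 2) (fun x => ⟨1, by
        obtain ⟨k, hk⟩ := mem_zpowers_iff.1 x.2
        refine Subtype.ext ?_
        rw [coe_pow, ← hk, pow_one, ← zpow_natCast, zpow_comm, zpow_natCast, hu2, one_zpow, coe_one]⟩))
    haveI : Fact (Nat.Prime 2) := ⟨Nat.prime_two⟩
    obtain ⟨S, hS⟩ := hU.exists_le_sylow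
    obtain ⟨h, hh⟩ := MulAction.exists_smul_eq ↥H (P.subtype hPH) S
    have huS : (⟨u, hu⟩ : ↥H) ∈ (h • P.subtype hPH : Sylow 2 ↥H) := hh ▸ hS (mem_subgroupOf.2 (mem_zpowers u))
    obtain ⟨v, hv, hve⟩ := huS
    have hve' : (h : G) * v.1 * (h : G)⁻¹ = u := congrArg Subtype.val hve
    have hvw : w * v.1 = v.1 * w :=
      (congrArg Subtype.val (mem_center_iff.1 hwc ⟨v.1, mem_subgroupOf.1 hv⟩)).symm
    have hcw : (g * h) * w * (g * h)⁻¹ ∈ centralizer ({w * t} : Set G) := by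
      rw [mem_centralizer_singleton_iff]
      have e : w * t = (g * h) * v.1 * (g * h)⁻¹ := by
        rw [show (g * h : G) * v.1 * (g * h)⁻¹ = g * ((h : G) * v.1 * (h : G)⁻¹) * g⁻¹ by group, hve', hudef]
        group
      rw [e]
      calc (g * h : G) * w * (g * h)⁻¹ * ((g * h) * v.1 * (g * h)⁻¹) = (g * h) * (w * v.1) * (g * h)⁻¹ := by group
        _ = (g * h) * (v.1 * w) * (g * h)⁻¹ := by rw [hvw]
        _ = _ := by group
    have hin : (g * h : G)⁻¹ ∈ H := (h0 _).1 (by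
      rw [inv_inv]; exact hcent t htc htne htz hcw)
    have hgh : (g * h : G) ∈ H := by simpa using inv_mem hin
    simpa using mul_mem hgh (inv_mem h.2)

end Cfsg.Agent.S1922
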