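import Cfsg.Statements.S1933
import Cfsg.Agent.Lib.HHSCons.Translate
import Cfsg.Agent.Lib.FlavellHHS.Main

set_option autoImplicit false
open Cfsg

namespace Cfsg.Agent.S1933

/-- Inside a finite group let G be a subgroup and R a subgroup of prime order r normalizing G, with the order of G prime to r. Let H be a subgroup of G normalized by R and by C_G(R) and such that H = [H, R]. Then the layer of H is contained in the layer of G. -/
theorem result {X : Type*} [Group X] [Finite X] (G R : Subgroup X) (r : ℕ) [Fact r.Prime] (hR : Nat.card ↥R = r) (hcop : (Nat.card ↥G).Coprime r) (hnorm : R ≤ Subgroup.normalizer (G : Set X)) (H : Subgroup X) (hHG : H ≤ G) (hHinv : R ⊔ (G ⊓ Subgroup.centralizer (R : Set X)) ≤ Subgroup.normalizer (H : Set X)) (hHR : ⁅H, R⁆ = H) : (Cfsg.layer ↥H).map H.subtype ≤ (Cfsg.layer ↥G).map G.subtype := by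
  exact CfsgLib.HHSCons.layer_le_layer_of_commutator CfsgLib.FlavellHHS.hhs G R r hR hcop hnorm H hHG hHinv hHR

end Cfsg.Agent.S1933
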