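import Cfsg.Statements.S1939
-- import your own Cfsg.Agent.* helpers here

set_option autoImplicit false
open Cfsg

namespace Cfsg.Agent.S1939

/-- Let S be a Sylow p-subgroup of the finite group G and a an element of S that is the only G-conjugate of a lying in S. Then every power of a has the same property: for every n, the only G-conjugate of a^n lying in S is a^n. -/
theorem result {G : Type*} [Group G] [Finite G] {p : ℕ} [Fact p.Prime] (S : Sylow p G) (a : G)
    (haS : a ∈ (S : Subgroup G)) (hwc : ∀ g : G, g * a * g⁻¹ ∈ (S : Subgroup G) → g * a * g⁻¹ = a) (n : ℕ) :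
    ∀ g : G, g * a ^ n * g⁻¹ ∈ (S : Subgroup G) → g * a ^ n * g⁻¹ = a ^ n := by
  intro g hb
  have hcs : ∀ s ∈ (S : Subgroup G), s * a = a * s := fun s hs => by
    have := hwc s (mul_mem (mul_mem hs haS) (inv_mem hs))
    rwa [mul_inv_eq_iff_eq_mul] at this
  set C : Subgroup G := Subgroup.centralizer ({a ^ n} : Set G) with hC
  have memC : ∀ x : G, x ∈ C ↔ a ^ n * x = x * a ^ n := fun x => by
    rw [hC, Subgroup.mem_centralizer_singleton_iff]; exact eq_comm
  have hSC : (S : Subgroup G) ≤ C := fun s hs => (memC s).2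
    ((Commute.pow_right (hcs s hs) n).eq.symm)
  have hab : a * (g * a ^ n * g⁻¹) = (g * a ^ n * g⁻¹) * a := (hcs _ hb).symm
  have ha' : g⁻¹ * a * g ∈ C := (memC _).2 (by
    calc a ^ n * (g⁻¹ * a * g) = g⁻¹ * ((g * a ^ n * g⁻¹) * a) * g := by group
      _ = g⁻¹ * (a * (g * a ^ n * g⁻¹)) * g := by rw [hab]
      _ = (g⁻¹ * a * g) * a ^ n := by group)
  have hp : IsPGroup p (Subgroup.zpowers (⟨g⁻¹ * a * g, ha'⟩ : C)) := by
    obtain ⟨k, hk⟩ := (IsPGroup.iff_orderOf.mp S.isPGroup' ⟨a, haS⟩)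
    refine IsPGroup.of_card (n := k) ?_
    rw [Nat.card_zpowers, Subgroup.orderOf_mk]
    have : g⁻¹ * a * g = MulAut.conj g⁻¹ a := by simp
    rw [this, MulEquiv.orderOf_eq, ← hk, Subgroup.orderOf_mk]
  obtain ⟨Q, hQ⟩ := hp.exists_le_sylow
  obtain ⟨h, hh⟩ := MulAction.exists_smul_eq C Q (S.subtype hSC)
  have hmem : h * (⟨g⁻¹ * a * g, ha'⟩ : C) * h⁻¹ ∈ ((S.subtype hSC : Sylow p C) : Subgroup C) := by
    rw [← hh, Sylow.coe_subgroup_smul]
    exact ⟨_, hQ (Subgroup.mem_zpowers _), by simp⟩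
  rw [Sylow.coe_subtype, Subgroup.mem_subgroupOf] at hmem
  simp only [Subgroup.coe_mul, InvMemClass.coe_inv] at hmem
  have hhc := (memC _).1 h.2
  have hmem' : ((h : G) * g⁻¹) * a * ((h : G) * g⁻¹)⁻¹ ∈ (S : Subgroup G) := by
    convert hmem using 1
    group
  have hx := hwc _ hmem'
  rw [mul_inv_eq_iff_eq_mul] at hx
  have hxn := (Commute.pow_right (a := (h : G) * g⁻¹) (b := a) hx n).eq
  rw [mul_inv_eq_iff_eq_mul]
  have hg : Commute g (a ^ n) := by
    have e : g = ((h : G) * g⁻¹)⁻¹ * h := by group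
    rw [e]
    exact (Commute.inv_left hxn).mul_left hhc.symm
  exact hg.eq

end Cfsg.Agent.S1939
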