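import Cfsg.Statements.S1940
-- import your own Cfsg.Agent.* helpers here

set_option autoImplicit false
open Cfsg

namespace Cfsg.Agent.S1940

/-- Let the finite group L act by automorphisms on the finite abelian group M, and let N be an L-invariant subgroup of M such that M/N is a p-group on which L acts trivially (every l • m lies in the coset mN). If every element of M is a product of an element of N and an element fixed by a Sylow p-subgroup T of L, then every element of M is a product of an element of N and an element fixed by all of L. -/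
theorem result {L : Type*} [Group L] [Finite L] {M : Type*} [CommGroup M] [Finite M] [MulDistribMulAction L M]
    {p : ℕ} [Fact p.Prime] (N : Subgroup M) (hN : ∀ (l : L) (m : M), m ∈ N → l • m ∈ N)
    (hquot : IsPGroup p (M ⧸ N)) (htriv : ∀ (l : L) (m : M), (l • m) * m⁻¹ ∈ N) (T : Sylow p L)
    (hT : ∀ m : M, ∃ n ∈ N, ∃ c : M, (∀ t ∈ (T : Subgroup L), t • c = c) ∧ m = n * c) :
    ∀ m : M, ∃ n ∈ N, ∃ c : M, (∀ l : L, l • c = c) ∧ m = n * c := by
  classical
  intro m
  have := Fintype.ofFinite (L ⧸ (T : Subgroup L))
  set k := (T : Subgroup L).index with hk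
  have hkp : ¬ p ∣ k := T.not_dvd_index
  obtain ⟨q, hq⟩ := (hquot.powEquiv' hkp).surjective (QuotientGroup.mk m)
  obtain ⟨m₁, rfl⟩ := QuotientGroup.mk_surjective q
  obtain ⟨n₁, hn₁, c, hc, rfl⟩ := hT m₁
  let f : L ⧸ (T : Subgroup L) → M := fun q => Quotient.liftOn' q (fun l => l • c) (fun a b hab => by
    rw [QuotientGroup.leftRel_apply] at hab
    have := hc _ hab
    rw [mul_smul, inv_smul_eq_iff] at this
    exact this.symm)
  have hf : ∀ l : L, f (QuotientGroup.mk l) = l • c := fun l => rfl
  have hfix : ∀ l : L, l • (∏ q, f q) = ∏ q, f q := fun l => by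
    rw [Finset.smul_prod']
    refine Fintype.prod_equiv (MulAction.toPerm l) _ _ fun q => ?_
    induction q using QuotientGroup.induction_on with
    | _ z => rw [MulAction.toPerm_apply, MulAction.Quotient.smul_mk, hf, hf, smul_eq_mul, mul_smul]
  have hmod : ((∏ q, f q : M) : M ⧸ N) = (c : M ⧸ N) ^ k := by
    change QuotientGroup.mk' N (∏ q, f q) = _
    rw [map_prod, hk, Subgroup.index, Nat.card_eq_fintype_card, ← Finset.card_univ, ← Finset.prod_const]
    refine Finset.prod_congr rfl fun q _ => ?_
    induction q using QuotientGroup.induction_on with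
    | _ z =>
      rw [hf, QuotientGroup.mk'_apply, QuotientGroup.eq_iff_div_mem, div_eq_mul_inv]
      exact htriv z c
  have hd : (m : M ⧸ N) = ((∏ q, f q : M) : M ⧸ N) := by
    rw [hmod, ← hq]
    change ((n₁ * c : M) : M ⧸ N) ^ k = _
    rw [QuotientGroup.mk_mul, (QuotientGroup.eq_one_iff n₁).2 hn₁, one_mul]
  exact ⟨m * (∏ q, f q)⁻¹, by rw [← div_eq_mul_inv]; exact QuotientGroup.eq_iff_div_mem.1 hd, _, hfix, by group⟩

end Cfsg.Agent.S1940
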