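import Cfsg.Statements.S1941
import Mathlib
import Cfsg.Agent.Lib.Components.ComponentAction
import Cfsg.Agent.Lib.Components.FStar
import Cfsg.Agent.Lib.PCore.Basic

set_option autoImplicit false
open Cfsg

namespace Cfsg.Agent.S1941

open Subgroup CfsgLib.Components
open scoped IsMulCommutative
/-- Let G be a finite group with no nontrivial normal subgroup of order prime to p, T a Sylow p-subgroup of G and E(G) the layer of G (the subgroup generated by its components). An automorphism of G of p-power order that fixes T and E(G) elementwise is inner. -/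
theorem result {G : Type*} [Group G] [Finite G] {p : ℕ} [Fact p.Prime] (hcore : Cfsg.pPrimeCore p G = ⊥)
    (T : Sylow p G) (α : MulAut G) (hα : ∃ j : ℕ, orderOf α = p ^ j) (hfixT : ∀ x ∈ (T : Subgroup G), α x = x)
    (hfixE : ∀ x ∈ Cfsg.layer G, α x = x) : ∃ g : G, ∀ x : G, α x = g * x * g⁻¹ := by
  classical
  set F := Cfsg.generalizedFittingSubgroup G with hF
  set M := centralizer (F : Set G) with hM
  haveI hFn : F.Normal := generalizedFitting_normal
  have hMF : M ≤ F := centralizer_generalizedFitting_le
  haveI : IsMulCommutative M :=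
    le_centralizer_iff_isMulCommutative.mp (centralizer_le (SetLike.coe_subset_coe.mpr hMF))
  have hMT : M ≤ (T : Subgroup G) :=
    (centralizer_generalizedFitting_le_fitting.trans
      (fitting_eq_pCore_of_pPrimeCore_eq_bot hcore).le).trans (CfsgLib.PCore.pCore_le_sylow T)
  have hfixF : ∀ y ∈ F, α y = y := by
    have h : F ≤ MonoidHom.eqLocus α.toMonoidHom (MonoidHom.id G) := by
      refine sup_le (fun y hy => hfixE y hy) fun y hy => hfixT y ?_
      exact CfsgLib.PCore.pCore_le_sylow T ((fitting_eq_pCore_of_pPrimeCore_eq_bot hcore).le hy)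
    exact fun y hy => h hy
  have hMn : ∀ x : G, ∀ v ∈ M, x * v * x⁻¹ ∈ M := fun x v hv =>
    (inferInstance : M.Normal).conj_mem v hv x
  -- the cocycle
  have hmem : ∀ g : G, α g * g⁻¹ ∈ M := by
    intro g
    rw [hM, mem_centralizer_iff]
    intro y hy
    have hz : g⁻¹ * y * g ∈ F := by simpa using hFn.conj_mem y hy g⁻¹
    have h1 := hfixF _ hz
    rw [map_mul, map_mul, map_inv, hfixF y hy] at h1
    calc y * (α g * g⁻¹) = α g * ((α g)⁻¹ * y * α g) * g⁻¹ := by group
      _ = α g * (g⁻¹ * y * g) * g⁻¹ := by rw [h1]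
      _ = α g * g⁻¹ * y := by group
  let f : G → M := fun g => ⟨α g * g⁻¹, hmem g⟩
  have hfT : ∀ g : G, ∀ t ∈ (T : Subgroup G), f (g * t) = f g := fun g t ht =>
    Subtype.ext (by simp only [f]; rw [map_mul, hfixT t ht]; group)
  let F' : G ⧸ (T : Subgroup G) → M := Quotient.lift f fun a b hab => by
    have ht := QuotientGroup.leftRel_apply.mp hab
    have := hfT a _ ht
    rw [mul_inv_cancel_left] at this
    exact this.symm
  letI : Fintype (G ⧸ (T : Subgroup G)) := Fintype.ofFinite _
  set m : M := ∏ q, F' q with hm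
  set n := Fintype.card (G ⧸ (T : Subgroup G)) with hn
  have hncop : (Nat.card M).Coprime n := by
    obtain ⟨k, hk⟩ := (T.2.to_le hMT).exists_card_eq
    rw [hk]
    refine Nat.Coprime.pow_left k ?_
    rw [(Fact.out : p.Prime).coprime_iff_not_dvd, hn, ← Nat.card_eq_fintype_card]
    exact T.not_dvd_index
  obtain ⟨c, hc⟩ := (powCoprime hncop).surjective m
  rw [powCoprime_apply] at hc
  refine ⟨c, fun x => ?_⟩
  let cx : M →* M :=
    { toFun := fun v => ⟨x * v * x⁻¹, hMn x v v.2⟩
      map_one' := Subtype.ext (by simp)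
      map_mul' := fun a b => Subtype.ext (by simp [mul_assoc]) }
  have key : ∀ q, F' (x • q) = f x * cx (F' q) := by
    intro q
    induction q using QuotientGroup.induction_on with
    | H g =>
      refine Subtype.ext ?_
      change α (x * g) * (x * g)⁻¹ = α x * x⁻¹ * (x * (α g * g⁻¹) * x⁻¹)
      rw [map_mul]
      group
  have h1 : m = f x ^ n * cx m := by
    conv_lhs => rw [hm, ← Equiv.prod_comp (MulAction.toPerm x)]
    simp only [MulAction.toPerm_apply, key, Finset.prod_mul_distrib, Finset.prod_const, Finset.card_univ,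
      ← map_prod, ← hn, ← hm]
  have h2 : c = f x * cx c := by
    refine (powCoprime hncop).injective ?_
    rw [powCoprime_apply, powCoprime_apply, mul_pow, ← map_pow, hc]
    exact h1
  have h3 := congrArg Subtype.val h2
  simp only [Subgroup.coe_mul] at h3
  have h4 : (c : G) = α x * c * x⁻¹ := by
    refine h3.trans ?_
    simp only [f, cx, MonoidHom.coe_mk, OneHom.coe_mk]
    group
  have h6 : α x * (c : G) = c * x := by
    conv_rhs => rw [h4]
    group
  rw [← h6]
  group

end Cfsg.Agent.S1941
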