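import Cfsg.Statements.S1944
import Cfsg.Agent.Lib.Techniques.PPrimeP

set_option autoImplicit false
open Cfsg

namespace Cfsg.Agent.S1944

open Subgroup CfsgLib.Techniques
open scoped IsMulCommutative

/-- Let S be a Sylow p-subgroup of the finite group G and suppose that the centre Z(S) lies in O_{p',p}(G). The elements of S each of which is its only G-conjugate in S form a subgroup W of Z(S); W is then a direct factor of Z(S): there is a subgroup K of Z(S) with W ∩ K = 1 and WK = Z(S). -/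
theorem result {G : Type*} [Group G] [Finite G] {p : ℕ} [Fact p.Prime] (S : Sylow p G)
    (hZ : ((S : Subgroup G) ⊓ Subgroup.centralizer ((S : Subgroup G) : Set G)) ≤ Cfsg.pPrimePCore p G) :
    ∃ W K : Subgroup G, (∀ x : G, x ∈ W ↔ (x ∈ (S : Subgroup G) ∧ ∀ g : G, g * x * g⁻¹ ∈ (S : Subgroup G) → g * x * g⁻¹ = x)) ∧
      K ≤ ((S : Subgroup G) ⊓ Subgroup.centralizer ((S : Subgroup G) : Set G)) ∧ W ⊓ K = ⊥ ∧ W ⊔ K = ((S : Subgroup G) ⊓ Subgroup.centralizer ((S : Subgroup G) : Set G)) := by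
  classical
  set Q := (S : Subgroup G) ⊓ pPrimePCore p G with hQ
  set N := normalizer (Q : Set G) with hN
  set ZS := (S : Subgroup G) ⊓ centralizer ((S : Subgroup G) : Set G) with hZS
  set W := ZS ⊓ centralizer (N : Set G) with hW
  set Z := Q ⊓ centralizer (Q : Set G) with hZdef
  have hZcomm : IsMulCommutative Z := ⟨⟨fun a b =>
    Subtype.ext (mem_centralizer_iff.1 (mem_inf.1 b.2).2 _ (mem_inf.1 a.2).1)⟩⟩
  have hZSZ : ZS ≤ Z := le_inf (le_inf inf_le_left hZ)
    (inf_le_right.trans (centralizer_le (show (Q : Set G) ⊆ _ from fun x hx => (mem_inf.1 hx).1)))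
  have hchar : ∀ x : G, x ∈ W ↔
      (x ∈ (S : Subgroup G) ∧ ∀ g : G, g * x * g⁻¹ ∈ (S : Subgroup G) → g * x * g⁻¹ = x) := by
    intro x
    constructor
    · intro hx
      obtain ⟨hx1, hx2⟩ := mem_inf.1 hx
      refine ⟨(mem_inf.1 hx1).1, fun g hg => ?_⟩
      obtain ⟨n, hn, e⟩ := normalizer_controls_fusion S (mem_inf.1 hx1).1 hg rfl
      rw [← e, mul_inv_eq_iff_eq_mul]
      exact mem_centralizer_iff.1 hx2 n hn
    · rintro ⟨hxS, hx⟩
      have hxZ : x ∈ ZS := by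
        refine mem_inf.2 ⟨hxS, mem_centralizer_iff.2 fun s hs => ?_⟩
        have := hx s ((S : Subgroup G).mul_mem ((S : Subgroup G).mul_mem hs hxS) ((S : Subgroup G).inv_mem hs))
        rwa [mul_inv_eq_iff_eq_mul] at this
      refine mem_inf.2 ⟨hxZ, mem_centralizer_iff.2 fun n hn => ?_⟩
      have hxQ : x ∈ Q := mem_inf.2 ⟨hxS, hZ hxZ⟩
      have := hx n (mem_inf.1 ((mem_normalizer_iff.1 hn x).1 hxQ)).1
      rwa [mul_inv_eq_iff_eq_mul] at this
  have hZn : N ≤ normalizer (Z : Set G) := fun n hn =>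
    mem_normalizer_inf hn (normalizer_le_normalizer_centralizer Q hn)
  have hSN : (S : Subgroup G) ≤ N := fun s hs => mem_normalizer_inf_pPrimePCore S hs
  set T := (S : Subgroup G).subgroupOf N with hT
  set k := T.index with hk
  have hkp : ¬ p ∣ k := not_dvd_relIndex_sylow S hSN
  have := Fintype.ofFinite (↥N ⧸ T)
  -- the norm map
  let conjZ : ↥N → ↥ZS → ↥Z := fun n x =>
    ⟨(n : G) * x * (n : G)⁻¹, (mem_normalizer_iff.1 (hZn n.2) _).1 (hZSZ x.2)⟩
  have hconj : ∀ (n : ↥N) (x : ↥ZS) (t : ↥N), t ∈ T → conjZ (n * t) x = conjZ n x := by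
    intro n x t ht
    apply Subtype.ext
    have : (t : G) * x * (t : G)⁻¹ = x := by
      rw [mul_inv_eq_iff_eq_mul]
      exact mem_centralizer_iff.1 (mem_inf.1 x.2).2 _ ht
    calc ((n * t : ↥N) : G) * x * ((n * t : ↥N) : G)⁻¹
        = (n : G) * ((t : G) * x * (t : G)⁻¹) * (n : G)⁻¹ := by push_cast; group
      _ = _ := by rw [this]
  let φ : ↥ZS →* ↥Z :=
    { toFun := fun x => ∏ q : ↥N ⧸ T, conjZ q.out x
      map_one' := Finset.prod_eq_one fun q _ => Subtype.ext (by simp [conjZ])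
      map_mul' := fun x y => by
        rw [← Finset.prod_mul_distrib]
        exact Finset.prod_congr rfl fun q _ => Subtype.ext (by simp [conjZ, mul_assoc]) }
  have hφW : ∀ x, ((φ x : Z) : G) ∈ W := by
    intro x
    have hfix : ∀ n ∈ N, n * ((φ x : Z) : G) * n⁻¹ = ((φ x : Z) : G) := by
      intro n hn
      let c : ↥Z →* ↥Z :=
        { toFun := fun z => ⟨n * z * n⁻¹, (mem_normalizer_iff.1 (hZn hn) _).1 z.2⟩
          map_one' := Subtype.ext (by simp)
          map_mul' := fun a b => Subtype.ext (by simp [mul_assoc]) }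
      have : c (φ x) = φ x := by
        change c (∏ q : ↥N ⧸ T, conjZ q.out x) = ∏ q : ↥N ⧸ T, conjZ q.out x
        rw [map_prod]
        refine Fintype.prod_equiv (MulAction.toPerm (⟨n, hn⟩ : ↥N)) _ _ fun q => ?_
        have h1 : c (conjZ q.out x) = conjZ (⟨n, hn⟩ * q.out) x :=
          Subtype.ext (by simp [c, conjZ]; group)
        rw [h1, MulAction.toPerm_apply]
        obtain ⟨t, ht⟩ := QuotientGroup.mk_out_eq_mul T (⟨n, hn⟩ * q.out : ↥N)
        have e : (⟨n, hn⟩ : ↥N) • q = QuotientGroup.mk (⟨n, hn⟩ * q.out : ↥N) := by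
          conv_lhs => rw [← QuotientGroup.out_eq' q]
          rfl
        rw [e, ht, hconj _ _ _ t.2]
      exact congrArg Subtype.val this
    have hxS : ((φ x : Z) : G) ∈ (S : Subgroup G) := (mem_inf.1 (mem_inf.1 (φ x).2).1).1
    have h2 : ((φ x : Z) : G) ∈ centralizer (N : Set G) := mem_centralizer_iff.2 fun n hn => by
      have := hfix n hn
      rwa [mul_inv_eq_iff_eq_mul] at this
    exact mem_inf.2 ⟨mem_inf.2 ⟨hxS, centralizer_le hSN h2⟩, h2⟩
  have hφpow : ∀ (w : G) (hw : w ∈ W), ((φ ⟨w, (mem_inf.1 hw).1⟩ : Z) : G) = w ^ k := by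
    intro w hw
    change ((∏ q : ↥N ⧸ T, conjZ q.out ⟨w, (mem_inf.1 hw).1⟩ : Z) : G) = _
    have : ∀ q : ↥N ⧸ T, conjZ q.out ⟨w, (mem_inf.1 hw).1⟩ = ⟨w, hZSZ (mem_inf.1 hw).1⟩ := fun q =>
      Subtype.ext (by
        change (q.out : G) * w * (q.out : G)⁻¹ = w
        rw [mul_inv_eq_iff_eq_mul]
        exact mem_centralizer_iff.1 (mem_inf.1 hw).2 _ q.out.2)
    rw [Finset.prod_congr rfl fun q _ => this q, Finset.prod_const, Finset.card_univ,
      ← Nat.card_eq_fintype_card]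
    rfl
  have hWp : IsPGroup p ↥W := S.isPGroup'.to_le (inf_le_left.trans inf_le_left)
  refine ⟨W, φ.ker.map ZS.subtype, hchar, map_subtype_le _, ?_, ?_⟩
  · rw [eq_bot_iff]
    rintro w ⟨hw, x, hx, rfl⟩
    have h1 := hφpow _ hw
    rw [show (⟨_, (mem_inf.1 hw).1⟩ : ↥ZS) = x from Subtype.ext rfl, MonoidHom.mem_ker.1 hx] at h1
    have : (⟨_, hw⟩ : ↥W) = 1 := (hWp.powEquiv' hkp).injective (Subtype.ext (by simpa using h1.symm))
    rw [mem_bot]
    exact congrArg Subtype.val this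
  · refine le_antisymm (sup_le inf_le_left (map_subtype_le _)) fun x hx => ?_
    obtain ⟨⟨w, hw⟩, e⟩ := (hWp.powEquiv' hkp).surjective ⟨_, hφW ⟨x, hx⟩⟩
    have e' : w ^ k = ((φ ⟨x, hx⟩ : Z) : G) := congrArg Subtype.val e
    have hker : (⟨w, (mem_inf.1 hw).1⟩ : ↥ZS)⁻¹ * ⟨x, hx⟩ ∈ φ.ker := by
      rw [MonoidHom.mem_ker, map_mul, map_inv, inv_mul_eq_one]
      exact Subtype.ext (by rw [hφpow w hw, e'])
    have := mul_mem_sup (T := φ.ker.map ZS.subtype) hw ⟨_, hker, rfl⟩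
    simpa using this

end Cfsg.Agent.S1944
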