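import Cfsg.Statements.S1945
import Cfsg.Agent.S2799
import Cfsg.Agent.Lib.PLocal.Thompson
import Cfsg.Agent.Lib.PCore.PSolvable
import Cfsg.Agent.Lib.Struct76.Basic

set_option autoImplicit false
open Cfsg

namespace Cfsg.Agent.S1945

/-- The trace splits the fixed points of `N` off the fixed points of a Sylow subgroup `S` of `N`,
inside an abelian subgroup of `S` normalised by `N`. -/
theorem split {G : Type*} [Group G] [Finite G] {p : ℕ} [Fact p.Prime] (S : Sylow p G)
    (N A : Subgroup G) (hSN : (S : Subgroup G) ≤ N) (hAS : A ≤ (S : Subgroup G))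
    (hA : ∀ a ∈ A, ∀ b ∈ A, a * b = b * a) (hAn : ∀ n ∈ N, ∀ a ∈ A, n * a * n⁻¹ ∈ A)
    (hZA : (S : Subgroup G) ⊓ Subgroup.centralizer ((S : Subgroup G) : Set G) ≤ A) :
    ∃ W K : Subgroup G, (∀ x : G, x ∈ W ↔ (x ∈ (S : Subgroup G) ∧ ∀ n ∈ N, n * x = x * n)) ∧
      K ≤ ((S : Subgroup G) ⊓ Subgroup.centralizer ((S : Subgroup G) : Set G)) ∧ W ⊓ K = ⊥ ∧
      W ⊔ K = ((S : Subgroup G) ⊓ Subgroup.centralizer ((S : Subgroup G) : Set G)) := by
  classical
  set Z := (S : Subgroup G) ⊓ Subgroup.centralizer ((S : Subgroup G) : Set G) with hZ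
  set S' := (S : Subgroup G).subgroupOf N with hS'
  haveI : Fintype (↥N ⧸ S') := Fintype.ofFinite _
  letI : CommGroup A := { (inferInstance : Group A) with
    mul_comm := fun a b => Subtype.ext (hA a a.2 b b.2) }
  have hmemA : ∀ (x : Z) (q : ↥N ⧸ S'), (q.out : G) * x * (q.out : G)⁻¹ ∈ A := fun x q =>
    hAn _ q.out.2 _ (hZA x.2)
  let f : Z → (↥N ⧸ S') → A := fun x q => ⟨_, hmemA x q⟩
  have hshift : ∀ (x : Z) (n : N) (q : ↥N ⧸ S'),
      (n : G) * (f x q : G) * (n : G)⁻¹ = (f x (n • q) : G) := by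
    intro x n q
    have hq : (QuotientGroup.mk (n * q.out) : ↥N ⧸ S') = n • q := by
      conv_rhs => rw [← QuotientGroup.out_eq' q]
      rfl
    obtain ⟨s, hs⟩ := QuotientGroup.mk_out_eq_mul S' (n * q.out)
    rw [hq] at hs
    have hsx : ((s : N) : G) * (x : G) = (x : G) * ((s : N) : G) :=
      Subgroup.mem_centralizer_iff.mp x.2.2 _ s.2
    change (n : G) * ((q.out : G) * x * (q.out : G)⁻¹) * (n : G)⁻¹ =
      ((n • q).out : G) * x * ((n • q).out : G)⁻¹
    rw [hs]
    simp only [Subgroup.coe_mul, mul_inv_rev, mul_assoc]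
    rw [← mul_assoc ((s : N) : G) (x : G), hsx]
    group
  let T : Z →* A :=
    { toFun := fun x => ∏ q, f x q
      map_one' := Finset.prod_eq_one fun q _ => Subtype.ext (by simp [f])
      map_mul' := fun x y => by
        rw [← Finset.prod_mul_distrib]
        exact Finset.prod_congr rfl fun q _ => Subtype.ext (by simp [f, mul_assoc]) }
  -- the trace is fixed by `N`
  have hfix : ∀ (x : Z) (n : N), (n : G) * (T x : G) = (T x : G) * (n : G) := by
    intro x n
    let c : A →* A :=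
      { toFun := fun a => ⟨(n : G) * a * (n : G)⁻¹, hAn _ n.2 _ a.2⟩
        map_one' := Subtype.ext (by simp)
        map_mul' := fun a b => Subtype.ext (by simp [mul_assoc]) }
    have h : c (T x) = T x := by
      calc c (T x) = ∏ q, c (f x q) := map_prod c _ _
        _ = ∏ q, f x (n • q) := Finset.prod_congr rfl fun q _ => Subtype.ext (hshift x n q)
        _ = T x := Equiv.prod_comp (MulAction.toPerm n) (f x)
    have h' : (n : G) * (T x : G) * (n : G)⁻¹ = T x := congrArg Subtype.val h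
    exact mul_inv_eq_iff_eq_mul.mp h'
  set W := (S : Subgroup G) ⊓ Subgroup.centralizer (N : Set G) with hW
  have hWZ : W ≤ Z := inf_le_inf_left _ (Subgroup.centralizer_le hSN)
  have hTW : ∀ x : Z, (T x : G) ∈ W := fun x =>
    ⟨hAS (T x).2, Subgroup.mem_centralizer_iff.mpr fun n hn => hfix x ⟨n, hn⟩⟩
  set m := Nat.card (↥N ⧸ S') with hm
  have hTw : ∀ w : Z, (w : G) ∈ W → (T w : G) = (w : G) ^ m := by
    intro w hw
    have hconst : ∀ q, f w q = ⟨(w : G), hZA w.2⟩ := fun q => Subtype.ext (by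
      change (q.out : G) * w * (q.out : G)⁻¹ = w
      rw [Subgroup.mem_centralizer_iff.mp hw.2 _ q.out.2, mul_inv_cancel_right])
    change ((∏ q, f w q : A) : G) = _
    simp only [hconst, Finset.prod_const, Finset.card_univ, hm, Nat.card_eq_fintype_card]
    rw [Subgroup.coe_pow]
  obtain ⟨e, he⟩ := S.isPGroup'.exists_card_eq
  have hcop : m.Coprime (p ^ e) := by
    refine Nat.Coprime.pow_right e ((Nat.Prime.coprime_iff_not_dvd Fact.out).2 fun hd => ?_).symm
    exact S.not_dvd_index (hd.trans (Subgroup.relIndex_dvd_index_of_le hSN))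
  have hinv : ∀ w ∈ W, w ^ m = 1 → w = 1 := by
    intro w hw h1
    have h2 : orderOf w ∣ p ^ e := he ▸ Subgroup.orderOf_dvd_natCard _ hw.1
    exact orderOf_eq_one_iff.mp
      (Nat.eq_one_of_dvd_coprimes hcop (orderOf_dvd_of_pow_eq_one h1) h2)
  refine ⟨W, T.ker.map Z.subtype, fun x => ?_, Subgroup.map_subtype_le _, ?_, ?_⟩
  · rw [hW, Subgroup.mem_inf, Subgroup.mem_centralizer_iff]
    exact Iff.rfl
  · rw [eq_bot_iff]
    rintro x ⟨hxW, ⟨z, hz, rfl⟩⟩
    refine Subgroup.mem_bot.mpr (hinv _ hxW ?_)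
    rw [Subgroup.coe_subtype] at hxW ⊢
    rw [← hTw z hxW, MonoidHom.mem_ker.mp hz, Subgroup.coe_one]
  · refine le_antisymm (sup_le hWZ (Subgroup.map_subtype_le _)) fun x hx => ?_
    obtain ⟨w, hw, hwm⟩ : ∃ w ∈ W, w ^ m = (T ⟨x, hx⟩ : G) := by
      obtain ⟨k, hk⟩ := exists_pow_eq_self_of_coprime (x := (T ⟨x, hx⟩ : G)) (n := m)
        (Nat.Coprime.coprime_dvd_right (he ▸ Subgroup.orderOf_dvd_natCard _ (hTW ⟨x, hx⟩).1) hcop)
      exact ⟨_, pow_mem (hTW ⟨x, hx⟩) k, by rw [← pow_mul, mul_comm, pow_mul, hk]⟩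
    have hker : (⟨w, hWZ hw⟩ : Z)⁻¹ * ⟨x, hx⟩ ∈ T.ker := by
      rw [MonoidHom.mem_ker, map_mul, map_inv, inv_mul_eq_one]
      exact Subtype.ext ((hTw ⟨w, hWZ hw⟩ hw).trans hwm)
    have : w * (w⁻¹ * x) ∈ W ⊔ T.ker.map Z.subtype :=
      Subgroup.mul_mem_sup hw ⟨_, hker, rfl⟩
    simpa using this

/-- Let S be a Sylow p-subgroup of the finite group G, and assume that p is odd or that G is solvable. The elements of S each of which is its only G-conjugate in S form a subgroup W of Z(S); W is then a direct factor of Z(S): there is a subgroup K of Z(S) with W ∩ K = 1 and WK = Z(S). (For p = 2 and G not solvable this can fail.) -/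
theorem result {G : Type*} [Group G] [Finite G] {p : ℕ} [Fact p.Prime] (S : Sylow p G) (h : p ≠ 2 ∨ Group.IsSolvable G) :
    ∃ W K : Subgroup G, (∀ x : G, x ∈ W ↔ (x ∈ (S : Subgroup G) ∧ ∀ g : G, g * x * g⁻¹ ∈ (S : Subgroup G) → g * x * g⁻¹ = x)) ∧
      K ≤ ((S : Subgroup G) ⊓ Subgroup.centralizer ((S : Subgroup G) : Set G)) ∧ W ⊓ K = ⊥ ∧ W ⊔ K = ((S : Subgroup G) ⊓ Subgroup.centralizer ((S : Subgroup G) : Set G)) := by
  suffices hmain : ∃ N A : Subgroup G, (S : Subgroup G) ≤ N ∧ A ≤ (S : Subgroup G) ∧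
      (∀ a ∈ A, ∀ b ∈ A, a * b = b * a) ∧ (∀ n ∈ N, ∀ a ∈ A, n * a * n⁻¹ ∈ A) ∧
      ((S : Subgroup G) ⊓ Subgroup.centralizer ((S : Subgroup G) : Set G) ≤ A) ∧
      ∀ x ∈ (S : Subgroup G) ⊓ Subgroup.centralizer ((S : Subgroup G) : Set G),
        ((∀ g : G, g * x * g⁻¹ ∈ (S : Subgroup G) → g * x * g⁻¹ = x) ↔ ∀ n ∈ N, n * x = x * n) by
    obtain ⟨N, A, hSN, hAS, hA, hAn, hZA, hiff⟩ := hmain
    obtain ⟨W, K, hW, hK, h1, h2⟩ := split S N A hSN hAS hA hAn hZA
    refine ⟨W, K, fun x => ?_, hK, h1, h2⟩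
    rw [hW]
    constructor
    · rintro ⟨hxS, hc⟩
      exact ⟨hxS, (hiff x ⟨hxS, Subgroup.mem_centralizer_iff.mpr fun s hs => hc s (hSN hs)⟩).2 hc⟩
    · rintro ⟨hxS, hc⟩
      refine ⟨hxS, (hiff x ⟨hxS, Subgroup.mem_centralizer_iff.mpr fun s hs => ?_⟩).1 hc⟩
      exact mul_inv_eq_iff_eq_mul.mp (hc s (mul_mem (mul_mem hs hxS) ((S : Subgroup G).inv_mem hs)))
  have conjA : ∀ (R : Subgroup G) (n : G), n ∈ Subgroup.normalizer (R : Set G) →
      ∀ a ∈ R ⊓ Subgroup.centralizer (R : Set G), n * a * n⁻¹ ∈ R ⊓ Subgroup.centralizer (R : Set G) := by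
    intro R n hn a ha
    refine ⟨(Subgroup.mem_normalizer_iff.mp hn a).mp ha.1, Subgroup.mem_centralizer_iff.mpr fun r hr => ?_⟩
    have hr' : n⁻¹ * r * n ∈ R := by
      refine (Subgroup.mem_normalizer_iff.mp hn _).mpr ?_
      simpa [mul_assoc] using hr
    have h1 := congrArg (fun y => n * y * n⁻¹) (Subgroup.mem_centralizer_iff.mp ha.2 _ hr')
    simpa [mul_assoc] using h1
  have fwd : ∀ (R : Subgroup G), R ≤ (S : Subgroup G) →
      ∀ x ∈ R, (∀ g : G, g * x * g⁻¹ ∈ (S : Subgroup G) → g * x * g⁻¹ = x) →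
        ∀ n ∈ Subgroup.normalizer (R : Set G), n * x = x * n := fun R hR x hx hwc n hn =>
    mul_inv_eq_iff_eq_mul.mp (hwc n (hR ((Subgroup.mem_normalizer_iff.mp hn x).mp hx)))
  rcases eq_or_ne p 2 with hp2 | hp2
  · have hsol := h.resolve_left (not_not_intro hp2)
    haveI := hsol
    have hps : IsPSolvable p G := CfsgLib.PCore.isPSolvable_of_isSolvable
    set P := Cfsg.pPrimePCore p G with hP
    haveI : P.Normal := (pCore_normal p _).comap _
    set R := (S : Subgroup G) ⊓ P with hR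
    have hSN : (S : Subgroup G) ≤ Subgroup.normalizer (R : Set G) :=
      le_trans (le_inf Subgroup.le_normalizer (Subgroup.normalizer_eq_top (H := P) ▸ le_top)) (Subgroup.inf_normalizer_le_normalizer_inf)
    obtain ⟨Q, hQ⟩ : ∃ Q : Sylow p P, (Q : Subgroup P).map P.subtype = R := by
      obtain ⟨Q, hQ⟩ := CfsgLib.Struct76.exists_sylow_inf_normal S P
      exact ⟨Q, by rw [hQ, Subgroup.subgroupOf_map_subtype]⟩
    have hfr := Sylow.normalizer_sup_eq_top Q
    rw [hQ] at hfr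
    have hCP : ∀ x ∈ (S : Subgroup G) ⊓ Subgroup.centralizer ((S : Subgroup G) : Set G), x ∈ R := by
      intro x hx
      refine ⟨hx.1, CfsgLib.PCore.centralizer_le_pPrimePCore hps Q ?_⟩
      rw [hQ]
      exact Subgroup.centralizer_le inf_le_left hx.2
    refine ⟨Subgroup.normalizer (R : Set G), R ⊓ Subgroup.centralizer (R : Set G), hSN,
      inf_le_left.trans inf_le_left, fun a ha b hb => Subgroup.mem_centralizer_iff.mp hb.2 a ha.1,
      fun n hn a ha => conjA R n hn a ha,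
      fun x hx => ⟨hCP x hx, Subgroup.centralizer_le inf_le_left hx.2⟩,
      fun x hx => ⟨fun hwc => fwd R inf_le_left x (hCP x hx) hwc, fun hc g hg => ?_⟩⟩
    -- `G` is the product of the core and the normaliser of `R`
    have htop : Cfsg.pPrimeCore p G ⊔ Subgroup.normalizer (R : Set G) = ⊤ := by
      rw [eq_top_iff, ← hfr]
      refine sup_le le_sup_right fun y hy => ?_
      obtain ⟨z, hz⟩ : ∃ z : P, (z : G) = y := ⟨⟨y, hy⟩, rfl⟩
      have hmap : (pPrimePCore p G).map (QuotientGroup.mk' (pPrimeCore p G)) =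
          R.map (QuotientGroup.mk' (pPrimeCore p G)) := by
        have hsur : Function.Surjective ((QuotientGroup.mk' (pPrimeCore p G)).subgroupMap P) :=
          MonoidHom.subgroupMap_surjective _ _
        have hpg : IsPGroup p (P.map (QuotientGroup.mk' (pPrimeCore p G))) :=
          CfsgLib.PCore.pCore_isPGroup.to_le (Subgroup.map_comap_le _ _)
        have ht := (Q.mapSurjective hsur).is_maximal' (hpg.to_subgroup ⊤) le_top
        rw [Sylow.coe_mapSurjective] at ht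
        refine le_antisymm ?_ (Subgroup.map_mono inf_le_right)
        intro v hv
        have hv' : (⟨v, hv⟩ : P.map (QuotientGroup.mk' (pPrimeCore p G))) ∈
            (Q : Subgroup P).map ((QuotientGroup.mk' (pPrimeCore p G)).subgroupMap P) := by
          rw [← ht]; trivial
        obtain ⟨r, hr, hrv⟩ := hv'
        exact ⟨r, by rw [← hQ]; exact ⟨r, hr, rfl⟩, congrArg Subtype.val hrv⟩
      obtain ⟨r, hr, hre⟩ : QuotientGroup.mk' (pPrimeCore p G) y ∈ R.map (QuotientGroup.mk' (pPrimeCore p G)) :=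
        hmap ▸ ⟨y, hy, rfl⟩
      have : y * r⁻¹ ∈ pPrimeCore p G := by
        rw [← QuotientGroup.eq_one_iff, ← QuotientGroup.mk'_apply, map_mul, map_inv, hre, mul_inv_cancel]
      rw [show y = (y * r⁻¹) * r by group]
      exact Subgroup.mul_mem_sup this (Subgroup.le_normalizer hr)
    obtain ⟨o, ho, n, hn, rfl⟩ := Subgroup.mem_sup_of_normal_left.mp (htop ▸ Subgroup.mem_top g :
      g ∈ Cfsg.pPrimeCore p G ⊔ Subgroup.normalizer (R : Set G))
    have hgx : o * n * x * (o * n)⁻¹ = o * x * o⁻¹ := by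
      rw [mul_assoc o n x, hc n hn]; group
    rw [hgx] at hg ⊢
    have h1 : o * x * o⁻¹ * x⁻¹ ∈ (S : Subgroup G) ⊓ Cfsg.pPrimeCore p G := by
      refine ⟨mul_mem hg ((S : Subgroup G).inv_mem hx.1), ?_⟩
      rw [show o * x * o⁻¹ * x⁻¹ = o * (x * o⁻¹ * x⁻¹) by group]
      exact mul_mem ho ((pPrimeCore_normal p G).conj_mem _ (inv_mem ho) x)
    rw [CfsgLib.PCore.inf_eq_bot_of_isPGroup_coprime S.isPGroup' CfsgLib.PCore.pPrimeCore_coprime,
      Subgroup.mem_bot] at h1
    exact mul_inv_eq_one.mp h1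
  · set J := Cfsg.thompsonSubgroupAOf (S : Subgroup G) with hJ
    have hJS : J ≤ (S : Subgroup G) := Subgroup.map_subtype_le _
    have hZJ : (S : Subgroup G) ⊓ Subgroup.centralizer ((S : Subgroup G) : Set G) ≤ J := by
      rw [hJ, CfsgLib.PLocal.thompsonSubgroupAOf_eq]
      exact (CfsgLib.PLocal.inf_centralizer_le_centerJ_zero _).trans (CfsgLib.PLocal.centerJ_le_thompson 0 _)
    have hSN : (S : Subgroup G) ≤ Subgroup.normalizer (J : Set G) := by
      rw [hJ, CfsgLib.PLocal.thompsonSubgroupAOf_eq]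
      exact CfsgLib.PLocal.le_normalizer_thompson 0 _
    refine ⟨Subgroup.normalizer (J : Set G), J ⊓ Subgroup.centralizer (J : Set G), hSN,
      inf_le_left.trans hJS, fun a ha b hb => Subgroup.mem_centralizer_iff.mp hb.2 a ha.1,
      fun n hn a ha => conjA J n hn a ha,
      fun x hx => ⟨hZJ hx, Subgroup.centralizer_le hJS hx.2⟩,
      fun x hx => ⟨fun hwc => fwd J hJS x (hZJ hx) hwc, fun hc => ?_⟩⟩
    refine S2799.result S x hx.1 ⟨⟨x, hSN hx.1⟩, Subgroup.mem_center_iff.mpr fun n => ?_, rfl⟩ (Or.inl hp2)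
    exact Subtype.ext (hc n n.2)

end Cfsg.Agent.S1945
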