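import Cfsg.Statements.S1946
import Mathlib
import Cfsg.Agent.Lib.Techniques.SmallElements
import Cfsg.Agent.Lib.Transfer.NormalComplement

set_option autoImplicit false
open Cfsg

namespace Cfsg.Agent.S1946

open Subgroup CfsgLib.Transfer
/-- Let P be a Sylow p-subgroup of the finite group G. Then G has a normal p-complement if and only if P controls the fusion of its elements of order dividing p (dividing 4 when p = 2): whenever such an element a of P has a G-conjugate g a g⁻¹ in P, that conjugate is already x a x⁻¹ for some x in P. -/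
theorem result {G : Type*} [Group G] [Finite G] {p : ℕ} [Fact p.Prime] (P : Sylow p G) :
    Cfsg.HasNormalPComplement p G ↔
      ∀ a ∈ (P : Subgroup G), (a ^ p = 1 ∨ (p = 2 ∧ a ^ 4 = 1)) → ∀ g : G, g * a * g⁻¹ ∈ (P : Subgroup G) →
        ∃ x ∈ (P : Subgroup G), g * a * g⁻¹ = x * a * x⁻¹ := by
  constructor
  · intro h a ha _ g hg
    obtain ⟨u, hu, e⟩ := (frobeniusCond_of_hasNormalPComplement h).controls P a ha g hg
    exact ⟨u, hu, e.symm⟩
  · intro h
    refine hasNormalPComplement_of_frobeniusCond (frobeniusCond_of_le_sylow P fun Q hQ g hg hcop => ?_)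
    haveI := P.2.isNilpotent
    let C : ℕ → Subgroup G := fun i =>
      (Subgroup.upperCentralSeries ↥(P : Subgroup G) i).map (P : Subgroup G).subtype
    have hC0 : C 0 = ⊥ := by simp [C]
    have hinv : ∀ x ∈ Q, g * x * g⁻¹ ∈ Q := fun x hx => (mem_set_normalizer_iff.mp hg x).mp hx
    rw [mem_centralizer_iff]
    intro q hq
    refine (CfsgLib.Techniques.fixes_of_small_chain g hcop C hC0 P ?_ (Group.nilpotencyClass ↥(P : Subgroup G))
      _ Q rfl (P.2.to_le hQ) hQ hinv ?_ ?_ q hq).symm
    · rintro i x hx _ ⟨z, hz, rfl⟩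
      exact ⟨_, (inferInstance : (Subgroup.upperCentralSeries ↥(P : Subgroup G) i).Normal).conj_mem z hz ⟨x, hx⟩, rfl⟩
    · intro a ha _
      exact ⟨⟨a, hQ ha⟩, by rw [Subgroup.upperCentralSeries_nilpotencyClass]; exact mem_top _, rfl⟩
    · rintro a ha hsmall i ⟨z, hz, rfl⟩
      obtain ⟨x, hx, e⟩ := h _ (hQ ha) hsmall g (hQ (hinv _ ha))
      refine ⟨_, inv_mem (Subgroup.mem_upperCentralSeries_succ_iff.1 hz ⟨x, hx⟩), ?_⟩
      rw [e]
      simp [commutatorElement_def, mul_assoc]

end Cfsg.Agent.S1946
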