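import Cfsg.Statements.S1947
import Mathlib
import Cfsg.Agent.Lib.Techniques.SmallElements
import Cfsg.Agent.Lib.Transfer.NormalComplement

set_option autoImplicit false
open Cfsg

namespace Cfsg.Agent.S1947

open Subgroup CfsgLib.Transfer
/-- Let G be a finite group and p a prime. If every element of G of order dividing p (dividing 4 when p = 2) lies in some fixed term Z_n(G) of the upper central series, then G has a normal p-complement. -/
theorem result {G : Type*} [Group G] [Finite G] {p : ℕ} [Fact p.Prime] (n : ℕ)
    (h : ∀ a : G, (a ^ p = 1 ∨ (p = 2 ∧ a ^ 4 = 1)) → a ∈ Subgroup.upperCentralSeries G n) : Cfsg.HasNormalPComplement p G := by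
  refine hasNormalPComplement_of_frobeniusCond fun Q hQ g hg hcop => ?_
  have hinv : ∀ x ∈ Q, g * x * g⁻¹ ∈ Q := fun x hx => (mem_set_normalizer_iff.mp hg x).mp hx
  rw [mem_centralizer_iff]
  intro q hq
  refine (CfsgLib.Techniques.fixes_of_small_chain g hcop (Subgroup.upperCentralSeries G) (Subgroup.upperCentralSeries_zero G) ⊤
    ?_ n _ Q rfl hQ le_top hinv (fun a _ => h a) ?_ q hq).symm
  · exact fun i x _ z hz => (inferInstance : (Subgroup.upperCentralSeries G i).Normal).conj_mem z hz x
  · intro a _ _ i hz
    have := inv_mem (Subgroup.mem_upperCentralSeries_succ_iff.1 hz g)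
    simpa [commutatorElement_def, mul_assoc] using this

end Cfsg.Agent.S1947
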