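import Cfsg.Statements.S1948
import Cfsg.Agent.Lib.Techniques.PPrimeP

set_option autoImplicit false
open Cfsg

namespace Cfsg.Agent.S1948

open Subgroup CfsgLib.Techniques CfsgLib.PCore

/-- Let S be a Sylow p-subgroup of the finite group G. Then G = N_G(S)·O_{p'}(G) if and only if G is p-constrained and N_G(S) controls fusion in S, in the sense that whenever a subgroup Q of S has a conjugate g Q g⁻¹ inside S, the element g is a product n c with n normalizing S and c centralizing Q. -/
theorem result {G : Type*} [Group G] [Finite G] {p : ℕ} [Fact p.Prime] (S : Sylow p G) :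
    Subgroup.normalizer ((S : Subgroup G) : Set G) ⊔ Cfsg.pPrimeCore p G = ⊤ ↔
      (Cfsg.IsPConstrained p G ∧
        ∀ Q : Subgroup G, Q ≤ (S : Subgroup G) → ∀ g : G, Q.map (MulAut.conj g).toMonoidHom ≤ (S : Subgroup G) →
          ∃ n ∈ Subgroup.normalizer ((S : Subgroup G) : Set G), ∃ c ∈ Subgroup.centralizer (Q : Set G), g = n * c) := by
  set D := pPrimeCore p G with hD
  constructor
  · intro htop
    have hdec : ∀ g : G, ∃ d ∈ D, ∃ n ∈ normalizer ((S : Subgroup G) : Set G), d * n = g := fun g =>
      mem_sup_of_normal_left.1 (sup_comm (normalizer ((S : Subgroup G) : Set G)) D ▸ htop ▸ mem_top g)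
    have hdisj : (S : Subgroup G) ⊓ D = ⊥ :=
      inf_eq_bot_of_isPGroup_coprime S.isPGroup' pPrimeCore_coprime
    have hnormal : ∀ K : Subgroup G, normalizer ((S : Subgroup G) : Set G) ≤ normalizer (K : Set G) →
        (D ⊔ K).Normal := by
      intro K hK
      rw [← normalizer_eq_top_iff, eq_top_iff, ← htop]
      refine sup_le (fun n hn => ?_) (le_sup_left.trans le_normalizer)
      apply map_conj_eq_self_iff.1
      rw [Subgroup.map_sup, map_conj_eq_self_iff.2 (hK hn),
        map_conj_eq_self_iff.2 (by rw [normalizer_eq_top]; exact mem_top n)]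
    have hSP : (S : Subgroup G) ≤ pPrimePCore p G := by
      rw [pPrimePCore, ← map_le_iff_le_comap]
      have hn := (hnormal S le_rfl).map (QuotientGroup.mk' D) (QuotientGroup.mk'_surjective D)
      have e : (D ⊔ (S : Subgroup G)).map (QuotientGroup.mk' D) = (S : Subgroup G).map (QuotientGroup.mk' D) := by
        rw [Subgroup.map_sup, QuotientGroup.map_mk'_self, bot_sup_eq]
      rw [e] at hn
      exact le_pCore hn (S.isPGroup'.map _)
    refine ⟨fun P => ?_, ?_⟩
    · -- `p`-constraint
      have hkey : centralizer ((S : Subgroup G) : Set G) ≤ pPrimePCore p G := by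
        set C := centralizer ((S : Subgroup G) : Set G) with hC
        let Z := (S : Subgroup G) ⊓ C
        have hZi : ¬ p ∣ Z.relIndex C := by
          change ¬ p ∣ ((S : Subgroup G) ⊓ C).relIndex C
          rw [inf_relIndex_right]
          intro hd
          apply not_dvd_relIndex_sylow S (le_sup_left : (S : Subgroup G) ≤ (S : Subgroup G) ⊔ C)
          have hCn : (C.subgroupOf ((S : Subgroup G) ⊔ C)).Normal :=
            (normal_subgroupOf_iff_le_normalizer le_sup_right).2
              (sup_le (le_normalizer.trans (normalizer_le_normalizer_centralizer _)) le_normalizer)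
          have h1 := relIndex_mul_relIndex ((S : Subgroup G) ⊓ C) (S : Subgroup G) _
            inf_le_left (le_sup_left : (S : Subgroup G) ≤ (S : Subgroup G) ⊔ C)
          have h2 := relIndex_mul_relIndex ((S : Subgroup G) ⊓ C) C _
            inf_le_right (le_sup_right : C ≤ (S : Subgroup G) ⊔ C)
          rw [inf_relIndex_left] at h1
          rw [inf_relIndex_right] at h2
          have h3 : C.relIndex ((S : Subgroup G) ⊔ C) = C.relIndex (S : Subgroup G) := by
            have := @relIndex_sup_right _ _ ((S : Subgroup G).subgroupOf ((S : Subgroup G) ⊔ C))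
              (C.subgroupOf ((S : Subgroup G) ⊔ C)) hCn
            rwa [← subgroupOf_sup le_sup_left le_sup_right, relIndex_subgroupOf le_rfl,
              relIndex_subgroupOf le_sup_left] at this
          rw [← h2, h3, mul_comm (C.relIndex _)] at h1
          have hne : C.relIndex (S : Subgroup G) ≠ 0 := index_ne_zero_of_finite
          rw [Nat.eq_of_mul_eq_mul_right (Nat.pos_of_ne_zero hne) h1]
          exact hd
        let T : Sylow p C := ((S.isPGroup'.to_le (inf_le_left : Z ≤ _)).of_equiv
          (subgroupOfEquivOfLe (inf_le_right : Z ≤ C)).symm).toSylow (P := Z.subgroupOf C) hZi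
        have hT : normalizer (T : Set C) ≤ centralizer (T : Set C) := by
          intro x _
          rw [mem_centralizer_iff]
          intro t ht
          exact Subtype.ext (mem_centralizer_iff.1 x.2 _ (mem_inf.1 ht).1)
        have hcompl := MonoidHom.ker_transferSylow_isComplement' T hT
        have hker : (MonoidHom.transferSylow T hT).ker ≤ pPrimeCore p C :=
          le_pPrimeCore_of_not_dvd inferInstance (MonoidHom.not_dvd_card_ker_transferSylow T hT)
        have hKle : (pPrimeCore p C).map C.subtype ≤ D := by
          refine le_trans le_sup_right (le_pPrimeCore (hnormal ((pPrimeCore p C).map C.subtype) ?_) ?_)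
          · exact (normalizer_le_normalizer_centralizer (S : Subgroup G)).trans
              (normalizer_le_normalizer_map_subtype _ _)
          · exact Nat.Coprime.coprime_dvd_left (card_sup_dvd_mul _ _)
              (Nat.Coprime.mul_left pPrimeCore_coprime
                (Nat.Coprime.coprime_dvd_left (card_map_dvd _ _) pPrimeCore_coprime))
        intro c hc
        have hmem : (⟨c, hc⟩ : C) ∈ (MonoidHom.transferSylow T hT).ker ⊔ (T : Subgroup C) := by
          rw [hcompl.sup_eq_top]; exact mem_top _
        obtain ⟨k, hk, t, ht, e⟩ := mem_sup_of_normal_left.1 hmem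
        have e' : (k : G) * t = c := congrArg Subtype.val e
        rw [← e']
        exact mul_mem (pPrimeCore_le_pPrimePCore (hKle ⟨k, hker hk, rfl⟩)) (hSP (mem_inf.1 ht).1)
      obtain ⟨x, -, hx⟩ := exists_conj_eq_sylow_of hSP S.isPGroup' (not_dvd_relIndex_sylow S hSP)
        (map_subtype_le (P : Subgroup ↥(pPrimePCore p G))) (P.isPGroup'.map _)
        (by
          rw [relIndex, subgroupOf, comap_map_eq_self_of_injective (subtype_injective _)]
          exact P.not_dvd_index)
      intro c hc
      rw [mem_centralizer_iff] at hc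
      have : x⁻¹ * c * x ∈ pPrimePCore p G := hkey (mem_centralizer_iff.2 fun s hs => by
        have := hc (x * s * x⁻¹) (by rw [← hx]; exact conj_mem_map_conj x hs)
        calc s * (x⁻¹ * c * x) = x⁻¹ * ((x * s * x⁻¹) * c) * x := by group
          _ = x⁻¹ * (c * (x * s * x⁻¹)) * x := by rw [this]
          _ = (x⁻¹ * c * x) * s := by group)
      have := (pPrimePCore_normal_inst (p := p) (G := G)).conj_mem _ this x
      simpa [mul_assoc] using this
    · intro Q hQ g hg
      obtain ⟨d, hd, n, hn, rfl⟩ := hdec g
      refine ⟨n, hn, n⁻¹ * d * n, ?_, by group⟩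
      rw [mem_centralizer_iff]
      intro q hq
      have hq' : (n⁻¹ * d * n) * q * (n⁻¹ * d * n)⁻¹ ∈ (S : Subgroup G) := by
        have h1 := hg (conj_mem_map_conj (d * n) hq)
        have h2 := (mem_normalizer_iff.1 (inv_mem hn) _).1 h1
        convert h2 using 1
        group
      have hd' : n⁻¹ * d * n ∈ D := by
        simpa using (pPrimeCore_normal p G).conj_mem d hd n⁻¹
      set e := n⁻¹ * d * n
      have h0 : e * q * e⁻¹ * q⁻¹ ∈ (S : Subgroup G) ⊓ D := by
        refine ⟨(S : Subgroup G).mul_mem hq' ((S : Subgroup G).inv_mem (hQ hq)), ?_⟩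
        have := D.mul_mem hd' ((pPrimeCore_normal p G).conj_mem _ (D.inv_mem hd') q)
        simpa [mul_assoc] using this
      rw [hdisj, mem_bot, mul_inv_eq_one, mul_inv_eq_iff_eq_mul] at h0
      exact h0.symm
  · rintro ⟨hcon, hfus⟩
    rw [eq_top_iff]
    intro g _
    set Q := (S : Subgroup G) ⊓ pPrimePCore p G
    obtain ⟨d, hd, n₀, hn₀, rfl⟩ := exists_pPrimeCore_mul_normalizer S g
    obtain ⟨n, hn, c, hc, rfl⟩ := hfus Q inf_le_left n₀ ((map_conj_eq_self_iff.2 hn₀).le.trans inf_le_left)
    have hcP : c ∈ pPrimePCore p G := by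
      let P : Sylow p (pPrimePCore p G) := ((S.isPGroup'.to_le (inf_le_left : Q ≤ _)).of_equiv
        (subgroupOfEquivOfLe (inf_le_right : Q ≤ pPrimePCore p G)).symm).toSylow
        (P := Q.subgroupOf (pPrimePCore p G)) (not_dvd_relIndex_inf_normal S (pPrimePCore p G))
      have := hcon P
      change centralizer (((Q.subgroupOf (pPrimePCore p G)).map (pPrimePCore p G).subtype : Subgroup G) : Set G) ≤ _ at this
      rw [subgroupOf_map_subtype, inf_eq_left.2 (inf_le_right : Q ≤ _)] at this
      exact this hc
    rw [← sylow_inf_pPrimePCore_sup S] at hcP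
    refine mul_mem (le_sup_right (a := normalizer ((S : Subgroup G) : Set G)) hd)
      (mul_mem (le_sup_left (b := D) hn) ?_)
    have hle : pPrimeCore p G ⊔ ((S : Subgroup G) ⊓ pPrimePCore p G) ≤
        normalizer ((S : Subgroup G) : Set G) ⊔ D :=
      sup_le le_sup_right ((inf_le_left.trans le_normalizer).trans le_sup_left)
    exact hle hcP

end Cfsg.Agent.S1948
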