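import Cfsg.Statements.S1949
import Mathlib
import Cfsg.Agent.Lib.LocalEvenSix.FixSmall
import Cfsg.Agent.Lib.PGroup.Critical
import Cfsg.Agent.Lib.Transfer.Basic

set_option autoImplicit false
open Cfsg

namespace Cfsg.Agent.S1949

open Subgroup
open scoped commutatorElement

variable {P : Type*} [Group P] [Finite P] {p : ℕ} [Fact p.Prime]

omit [Finite P] in
/-- A coprime automorphism with fixed displacement fixes the element. -/
theorem fix_of_step (hP : IsPGroup p P) (α : MulAut P) (hα : (orderOf α).Coprime p) (d : P)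
    (h : α (d⁻¹ * α d) = d⁻¹ * α d) : α d = d := by
  set x := d⁻¹ * α d with hx
  have key : ∀ n : ℕ, (α ^ n) d = d * x ^ n := by
    intro n
    induction n with
    | zero => simp
    | succ n ih =>
      rw [pow_succ', MulAut.mul_apply, ih, map_mul, map_pow, h, pow_succ', ← mul_assoc d, hx,
        mul_inv_cancel_left]
  have h1 : orderOf x ∣ orderOf α := by
    refine orderOf_dvd_of_pow_eq_one ?_
    have := key (orderOf α)
    rwa [pow_orderOf_eq_one, MulAut.one_apply, left_eq_mul] at this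
  obtain ⟨k, hk⟩ := hP x
  have h2 : x = 1 := orderOf_eq_one_iff.1
    (Nat.eq_one_of_dvd_coprimes (hα.pow_right k) h1 (orderOf_dvd_of_pow_eq_one hk))
  rw [hx, inv_mul_eq_one] at h2
  exact h2.symm

/-- A coprime automorphism fixing the small elements of an invariant subgroup fixes the subgroup. -/
theorem fix_of_small (hP : IsPGroup p P) (α : MulAut P) (hα : (orderOf α).Coprime p) (H : Subgroup P)
    (hinv : ∀ x ∈ H, α x ∈ H) (hfix : ∀ x ∈ H, x ^ p = 1 ∨ (p = 2 ∧ x ^ 4 = 1) → α x = x) :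
    ∀ x ∈ H, α x = x := by
  let Λ := P ⋊[MonoidHom.id (MulAut P)] MulAut P
  let ι : P →* Λ := SemidirectProduct.inl
  let a : Λ := SemidirectProduct.inr α
  have hι : Function.Injective ι := SemidirectProduct.inl_injective
  haveI : Finite Λ := Finite.of_equiv _ SemidirectProduct.equivProd.symm
  have hconj : ∀ x, a * ι x * a⁻¹ = ι (α x) := fun x => by
    change SemidirectProduct.inr α * SemidirectProduct.inl x * (SemidirectProduct.inr α)⁻¹ = _
    rw [← map_inv]
    exact (SemidirectProduct.inl_aut (φ := MonoidHom.id (MulAut P)) α x).symm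
  intro x hx
  have h := CfsgLib.LocalEvenSix.fixes_of_fixes_small a
    (by rwa [orderOf_injective _ SemidirectProduct.inr_injective α]) _ (H.map ι) rfl
    ((hP.to_subgroup H).map ι) (by
      rintro _ ⟨y, hy, rfl⟩
      rw [hconj]
      exact mem_map_of_mem ι (hinv y hy)) (by
      rintro _ ⟨y, hy, rfl⟩ hsm
      have h2 : y ^ p = 1 ∨ (p = 2 ∧ y ^ 4 = 1) := by
        rcases hsm with e | ⟨e2, e⟩
        · exact Or.inl (hι (by rw [map_pow, map_one]; exact e))
        · exact Or.inr ⟨e2, hι (by rw [map_pow, map_one]; exact e)⟩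
      rw [← mul_inv_eq_iff_eq_mul, hconj, hfix y hy h2]) (ι x) (mem_map_of_mem ι hx)
  rw [← mul_inv_eq_iff_eq_mul, hconj] at h
  exact hι h
/-- Let P be a finite p-group and G a group of automorphisms of P containing the inner automorphisms. Then there is a G-invariant subgroup D of P, contained in the subgroup generated by the elements x⁻¹α(x) with x in P and α in O^p(G), of exponent dividing p when p is odd and dividing 4 when p = 2, with [D, P] ≤ Z(D), such that every automorphism in G of order prime to p that fixes D elementwise is the identity; moreover every maximal abelian subgroup A of D is normal in P and every automorphism in G fixing A elementwise has p-power order. -/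
theorem result {P : Type*} [Group P] [Finite P] {p : ℕ} [Fact p.Prime] (hP : IsPGroup p P)
    (G : Subgroup (MulAut P)) (hG : Cfsg.Inn P ≤ G) :
    ∃ D : Subgroup P,
      (∀ α ∈ G, D.map α.toMonoidHom = D) ∧
      D ≤ Subgroup.closure {y : P | ∃ α ∈ Cfsg.pResidual p ↥G, ∃ x : P, y = x⁻¹ * (α : MulAut P) x} ∧
      (∀ d ∈ D, d ^ p = 1 ∨ (p = 2 ∧ d ^ 4 = 1)) ∧
      ⁅D, (⊤ : Subgroup P)⁆ ≤ D ⊓ Subgroup.centralizer (D : Set P) ∧
      (∀ α ∈ G, (orderOf α).Coprime p → (∀ d ∈ D, α d = d) → α = 1) ∧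
      ∀ A : Subgroup P, A ≤ D → IsMulCommutative ↥A →
        (∀ B : Subgroup P, A ≤ B → B ≤ D → IsMulCommutative ↥B → B = A) →
        A.Normal ∧ ∀ α ∈ G, (∀ a ∈ A, α a = a) → ∃ k : ℕ, orderOf α = p ^ k := by
  classical
  obtain ⟨C, hCc, hCC, hCcomm, hCpow⟩ := CfsgLib.PGroup.exists_critical (p := p) hP
  have hCcen : ∀ g : P, ∀ x ∈ C, ∀ y ∈ C, y * ⁅g, x⁆ = ⁅g, x⁆ * y := fun g x hx =>
    mem_centralizer_iff.1 (mem_inf.1 (hCcomm g x hx)).2
  let small : P → Prop := fun x => x ^ p = 1 ∨ (p = 2 ∧ x ^ 4 = 1)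
  have hmul : ∀ x ∈ C, ∀ y ∈ C, small x → small y → small (x * y) := by
    intro x hx y hy hsx hsy
    let c := y⁻¹ * x⁻¹ * y * x
    have hc : c = ⁅y⁻¹, x⁻¹⁆ := by simp [c, commutatorElement_def]
    have hyx : y * x = x * y * c := by simp only [c]; group
    have hcx : c * x = x * c := by rw [hc]; exact (hCcen _ _ (inv_mem hx) x hx).symm
    have hcy : c * y = y * c := by rw [hc]; exact (hCcen _ _ (inv_mem hx) y hy).symm
    have hyp : y ^ p * x = x * y ^ p := (mem_centralizer_iff.1 (mem_inf.1 (hCpow y hy)).2 x hx).symm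
    have hcp : c ^ p = 1 := by
      have e1 := (CfsgLib.OddOrder41.pow_mul_eq_of_central_step hyx hcx hcy p).1
      rw [hyp] at e1
      exact left_eq_mul.1 e1
    rcases eq_or_ne p 2 with h2 | h2
    · refine Or.inr ⟨h2, ?_⟩
      subst h2
      have hx4 : x ^ 4 = 1 := hsx.elim (fun e => by rw [show 4 = 2 * 2 by rfl, pow_mul, e, one_pow]) And.right
      have hy4 : y ^ 4 = 1 := hsy.elim (fun e => by rw [show 4 = 2 * 2 by rfl, pow_mul, e, one_pow]) And.right
      rw [(CfsgLib.OddOrder41.pow_mul_eq_of_central_step hyx hcx hcy 4).2, hx4, hy4,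
        show Nat.choose 4 2 = 2 * 3 by rfl, pow_mul, hcp, one_pow, one_mul, one_mul]
    · refine Or.inl ?_
      obtain ⟨q, hq⟩ := (Fact.out : p.Prime).dvd_choose_self two_ne_zero
        (lt_of_le_of_ne (Fact.out : p.Prime).two_le (Ne.symm h2))
      have hx' : x ^ p = 1 := hsx.resolve_right fun e => h2 e.1
      have hy' : y ^ p = 1 := hsy.resolve_right fun e => h2 e.1
      rw [(CfsgLib.OddOrder41.pow_mul_eq_of_central_step hyx hcx hcy p).2, hx', hy', hq, pow_mul, hcp,
        one_pow, one_mul, one_mul]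
  let Ω : Subgroup P :=
    { carrier := {x | x ∈ C ∧ small x}
      one_mem' := ⟨one_mem C, Or.inl (one_pow p)⟩
      mul_mem' := fun {x y} hx hy => ⟨mul_mem hx.1 hy.1, hmul x hx.1 y hy.1 hx.2 hy.2⟩
      inv_mem' := fun {x} hx => ⟨inv_mem hx.1, hx.2.imp (fun e => by rw [inv_pow, e, inv_one])
        (fun e => ⟨e.1, by rw [inv_pow, e.2, inv_one]⟩)⟩ }
  have hCinv : ∀ φ : MulAut P, ∀ x ∈ C, φ x ∈ C := fun φ x hx =>
    (characteristic_iff_map_le.1 hCc φ) (mem_map_of_mem _ hx)
  have hΩinv : ∀ φ : MulAut P, ∀ x ∈ Ω, φ x ∈ Ω := fun φ x hx => ⟨hCinv φ x hx.1, hx.2.imp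
    (fun e => by rw [← map_pow, e, map_one]) (fun e => ⟨e.1, by rw [← map_pow, e.2, map_one]⟩)⟩
  set R := closure {y : P | ∃ α ∈ Cfsg.pResidual p ↥G, ∃ x : P, y = x⁻¹ * (α : MulAut P) x} with hR
  have hRinv : ∀ β ∈ G, ∀ y ∈ R, β y ∈ R := by
    intro β hβ y hy
    have hle : R ≤ R.comap β.toMonoidHom := by
      rw [hR, closure_le]
      rintro _ ⟨α, hα, x, rfl⟩
      haveI := CfsgLib.Transfer.pResidual_normal (p := p) (G := ↥G)
      refine subset_closure ⟨⟨β, hβ⟩ * α * ⟨β, hβ⟩⁻¹, Subgroup.Normal.conj_mem inferInstance α hα _, β x, ?_⟩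
      simp
    exact hle hy
  have hconjG : ∀ g : P, MulAut.conj g ∈ G := fun g => hG ⟨g, rfl⟩
  have hDinv : ∀ β ∈ G, ∀ y ∈ Ω ⊓ R, β y ∈ Ω ⊓ R := fun β hβ y hy =>
    mem_inf.2 ⟨hΩinv β y (mem_inf.1 hy).1, hRinv β hβ y (mem_inf.1 hy).2⟩
  have hDR : ∀ α ∈ G, (orderOf α).Coprime p → ∀ x : P, x⁻¹ * α x ∈ R := fun α hα hc x =>
    subset_closure ⟨⟨α, hα⟩, CfsgLib.Transfer.mem_pResidual (by rwa [← orderOf_coe]), x, rfl⟩
  have hfaith : ∀ α ∈ G, (orderOf α).Coprime p → (∀ d ∈ Ω ⊓ R, α d = d) → α = 1 := by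
    intro α hα hc hfix
    have hΩ : ∀ d ∈ Ω, α d = d := fun d hd => fix_of_step hP α hc d
      (hfix _ (mem_inf.2 ⟨mul_mem (inv_mem hd) (hΩinv α d hd), hDR α hα hc d⟩))
    have hC : ∀ c ∈ C, α c = c := fix_of_small hP α hc C (hCinv α) fun x hx hs => hΩ x ⟨hx, hs⟩
    ext g
    refine fix_of_step hP α hc g (hC _ (hCC ?_))
    rw [mem_centralizer_iff]
    intro c hcC
    have h1 := hC _ ((normal_of_characteristic C).conj_mem c hcC g)
    rw [map_mul, map_mul, map_inv, hC c hcC] at h1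
    calc c * (g⁻¹ * α g) = g⁻¹ * (g * c * g⁻¹) * α g := by group
      _ = g⁻¹ * (α g * c * (α g)⁻¹) * α g := by rw [h1]
      _ = g⁻¹ * α g * c := by group
  have hnorm : ∀ g : P, ∀ d ∈ Ω ⊓ R, ⁅d, g⁆ ∈ (Ω ⊓ R) ⊓ centralizer ((Ω ⊓ R : Subgroup P) : Set P) := by
    intro g d hd
    refine mem_inf.2 ⟨?_, mem_centralizer_iff.2 fun y hy => ?_⟩
    · rw [commutatorElement_def, mul_assoc, mul_assoc]
      refine mul_mem hd ?_
      have := hDinv _ (hconjG g) _ (inv_mem hd)
      simpa [mul_assoc] using this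
    · have hyC : y ∈ C := (mem_inf.1 hy).1.1
      have hd' : ⁅g, d⁆ ∈ centralizer (C : Set P) := (mem_inf.1 (hCcomm g d (mem_inf.1 hd).1.1)).2
      rw [← commutatorElement_inv]
      exact mem_centralizer_iff.1 (inv_mem hd') y hyC
  refine ⟨Ω ⊓ R, fun α hα => ?_, inf_le_right, fun d hd => (mem_inf.1 hd).1.2, ?_, hfaith, fun A hA hAc hmax => ?_⟩
  · refine eq_of_le_of_card_ge ?_ (card_map_of_injective α.injective).ge
    rintro _ ⟨y, hy, rfl⟩
    exact hDinv α hα y hy
  · rw [commutator_le]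
    exact fun d hd g _ => hnorm g d hd
  set D := Ω ⊓ R with hD
  have hAab : ∀ a ∈ A, ∀ b ∈ A, a * b = b * a := fun a ha b hb =>
    congrArg Subtype.val (hAc.is_comm.comm ⟨a, ha⟩ ⟨b, hb⟩)
  have hcent : ∀ d ∈ D, (∀ a ∈ A, a * d = d * a) → d ∈ A := by
    intro d hd hda
    have hgen : closure ((A : Set P) ∪ {d}) = A := by
      refine hmax _ (fun a ha => subset_closure (Or.inl ha))
        ((closure_le D).2 (Set.union_subset hA (by simpa using hd))) ?_
      refine Subgroup.isMulCommutative_closure fun a ha b hb => ?_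
      rcases ha with ha | rfl <;> rcases hb with hb | rfl
      · exact hAab a ha b hb
      · exact hda a ha
      · exact (hda b hb).symm
      · rfl
    exact hgen.le (subset_closure (Or.inr rfl))
  have hnormA : ∀ g : P, ∀ a ∈ A, g * a * g⁻¹ ∈ A := by
    intro g a ha
    have h2 := mem_inf.1 (hnorm g a (hA ha))
    have hz : ⁅a, g⁆ ∈ A := hcent _ h2.1 fun b hb => mem_centralizer_iff.1 h2.2 b (hA hb)
    have := mul_mem (inv_mem hz) ha
    rw [commutatorElement_inv, commutatorElement_def] at this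
    simpa [mul_assoc] using this
  refine ⟨⟨fun a ha g => hnormA g a ha⟩, fun α hα hfix => ?_⟩
  set k := (orderOf α).factorization p with hk
  have hn : orderOf α ≠ 0 := (orderOf_pos α).ne'
  set β := α ^ p ^ k with hβ
  have hβc : (orderOf β).Coprime p := by
    rw [hβ, orderOf_pow_of_dvd (pow_ne_zero _ (Fact.out : p.Prime).ne_zero) (Nat.ordProj_dvd _ _)]
    exact (Nat.coprime_ordCompl Fact.out hn).symm
  have hβfix : ∀ a ∈ A, β a = a := by
    intro a ha
    have : ∀ m : ℕ, (α ^ m) a = a := by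
      intro m
      induction m with
      | zero => rfl
      | succ m ih => rw [pow_succ, MulAut.mul_apply, hfix a ha, ih]
    exact this _
  have hβG : β ∈ G := pow_mem hα _
  have hβD : ∀ d ∈ D, β d = d := by
    intro d hd
    refine fix_of_step hP β hβc d (hβfix _ (hcent _ (mul_mem (inv_mem hd) (hDinv β hβG d hd)) ?_))
    intro a ha
    have h1 := hβfix _ (hnormA d a ha)
    rw [map_mul, map_mul, map_inv, hβfix a ha] at h1
    calc a * (d⁻¹ * β d) = d⁻¹ * (d * a * d⁻¹) * β d := by group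
      _ = d⁻¹ * (β d * a * (β d)⁻¹) * β d := by rw [h1]
      _ = d⁻¹ * β d * a := by group
  have h1 := hfaith β hβG hβc hβD
  obtain ⟨j, -, hj⟩ := (Nat.dvd_prime_pow Fact.out).1 (orderOf_dvd_of_pow_eq_one h1)
  exact ⟨j, hj⟩

end Cfsg.Agent.S1949
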