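import Mathlib
import Cfsg.Statements.S1952
import Cfsg.Agent.Lib.Techniques.Basic
import Cfsg.Agent.Lib.Techniques.PGroupTools

set_option autoImplicit false
open Cfsg

namespace Cfsg.Agent.S1952

open Subgroup Polynomial
open scoped IsMulCommutative

/-- `(X - 1) ^ (p - 1)` is the geometric sum in characteristic `p`. -/
theorem sub_one_pow_eq_geom_sum (p : ℕ) [hp : Fact p.Prime] :
    ((X : (ZMod p)[X]) - 1) ^ (p - 1) = ∑ i ∈ Finset.range p, X ^ i := by
  refine mul_left_cancel₀ (X_sub_C_ne_zero (1 : ZMod p)) ?_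
  rw [map_one, ← pow_succ', Nat.sub_add_cancel hp.out.one_lt.le, sub_pow_char, one_pow, mul_geom_sum]

theorem factorization_sq_factorial (p : ℕ) [hp : Fact p.Prime] :
    (p ^ 2).factorial.factorization p = p + 1 := by
  have h1 : p.factorial.factorization p = 1 := by
    simpa using Nat.factorization_factorial_mul (n := 1) hp.out
  rw [sq, Nat.factorization_factorial_mul hp.out, h1, add_comm]

/-- Let P be a finite p-group with a normal elementary abelian subgroup A of index p, and let x ∈ A and y ∈ P with y outside A. If the product of the p conjugates y^(-i) x y^i (i = 0, …, p−1) is not the identity, then the wreath product Z_p ≀ Z_p, realised as a Sylow p-subgroup of the symmetric group of degree p², is a homomorphic image of P. -/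
theorem result {P : Type*} [Group P] [Finite P] {p : ℕ} [Fact p.Prime] (hP : IsPGroup p P) (A : Subgroup P) [A.Normal]
    (hA : Cfsg.IsElementaryAbelian p A) (hidx : A.index = p) (x y : P) (hx : x ∈ A) (hy : y ∉ A)
    (hprod : ((List.range p).map (fun i => (y ^ i)⁻¹ * x * y ^ i)).prod ≠ 1) :
    ∃ (Q : Sylow p (Equiv.Perm (Fin (p ^ 2)))) (f : P →* ↥(Q : Subgroup (Equiv.Perm (Fin (p ^ 2))))), Function.Surjective f := by
  classical
  have hp0 : 0 < p := (Fact.out (p := p.Prime)).pos
  have hp1 : 1 < p := (Fact.out (p := p.Prime)).one_lt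
  haveI : IsMulCommutative ↥A := hA.1
  have hcA : ∀ a ∈ A, ∀ b ∈ A, a * b = b * a := fun a ha b hb =>
    congrArg Subtype.val (hA.1.is_comm.comm ⟨a, ha⟩ ⟨b, hb⟩)
  have hnorm : ∀ (g : P), ∀ a ∈ A, g⁻¹ * a * g ∈ A := fun g a ha => by
    simpa using (inferInstance : A.Normal).conj_mem a ha g⁻¹
  let f : P → ℕ → P := fun a i => (y ^ i)⁻¹ * a * y ^ i
  let L : P → ℕ → P := fun a n => ((List.range n).map (f a)).prod
  have hLsucc : ∀ a n, L a (n + 1) = L a n * f a n := fun a n => by
    simp only [L, List.range_succ, List.map_append, List.prod_append, List.map_cons, List.map_nil,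
      List.prod_cons, List.prod_nil, mul_one]
  have hfA : ∀ a ∈ A, ∀ i, f a i ∈ A := fun a ha i => hnorm _ a ha
  have hLA : ∀ a ∈ A, ∀ n, L a n ∈ A := by
    intro a ha n
    induction n with
    | zero => exact one_mem A
    | succ n ih => rw [hLsucc]; exact mul_mem ih (hfA a ha n)
  set v := L x p with hv
  have hv1 : v ≠ 1 := hprod
  have hypA : y ^ p ∈ A := by
    have := A.pow_index_mem y
    rwa [hidx] at this
  -- a modification `y₁` of `y` with the same action on `A` and `v ∉ ⟨y₁ ^ p⟩`
  obtain ⟨y₁, hy₁, hconj₁, hv₁⟩ : ∃ y₁ : P, y₁ ∉ A ∧ (∀ a ∈ A, y₁⁻¹ * a * y₁ = y⁻¹ * a * y) ∧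
      v ∉ zpowers (y₁ ^ p) := by
    by_cases hvy : v ∈ zpowers (y ^ p)
    swap
    · exact ⟨y, hy, fun a _ => rfl, hvy⟩
    have hshift : ∀ a ∈ A, ∀ n, y⁻¹ * L a n * y * a = L a (n + 1) := by
      intro a ha n
      induction n with
      | zero => simp [L, f]
      | succ n ih =>
        have hs : y⁻¹ * f a n * y = f a (n + 1) := by simp only [f, pow_succ]; group
        calc y⁻¹ * L a (n + 1) * y * a = (y⁻¹ * L a n * y) * ((y⁻¹ * f a n * y) * a) := by
              rw [hLsucc a n]; group
          _ = (y⁻¹ * L a n * y) * (a * f a (n + 1)) := by rw [hs, hcA _ (hfA a ha _) a ha]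
          _ = (y⁻¹ * L a n * y * a) * f a (n + 1) := by group
          _ = L a (n + 1 + 1) := by rw [ih, ← hLsucc]
    have hpow : ∀ a ∈ A, ∀ n, (y * a) ^ n = y ^ n * L a n := by
      intro a ha n
      induction n with
      | zero => simp [L]
      | succ n ih =>
        rw [pow_succ, ih, pow_succ, ← hshift a ha n]
        group
    have hLpow : ∀ k n, L (x ^ k) n = L x n ^ k := by
      intro k n
      induction n with
      | zero => simp [L]
      | succ n ih =>
        rw [hLsucc, hLsucc, ih, (show Commute (L x n) (f x n) from hcA _ (hLA x hx n) _ (hfA x hx n)).mul_pow]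
        congr 1
        have := conj_pow (a := (y ^ n)⁻¹) (b := x) (i := k)
        simp only [inv_inv] at this
        exact this.symm
    have hord : orderOf (y ^ p) = p := by
      refine orderOf_eq_prime (hA.2 _ hypA) fun h => hv1 ?_
      rw [h] at hvy
      simpa using hvy
    have hgen : zpowers v = zpowers (y ^ p) := by
      refine eq_of_le_of_card_ge (zpowers_le.2 hvy) ?_
      rw [Nat.card_zpowers, Nat.card_zpowers, hord, orderOf_eq_prime (hA.2 _ (hLA x hx p)) hv1]
    obtain ⟨i, hi⟩ : ∃ i : ℕ, v ^ i = (y ^ p)⁻¹ := by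
      have hmem : (y ^ p)⁻¹ ∈ zpowers v := by rw [hgen]; exact inv_mem (mem_zpowers _)
      exact mem_powers_iff_mem_zpowers.2 hmem
    refine ⟨y * x ^ i, fun h => hy ?_, fun a ha => ?_, ?_⟩
    · simpa using mul_mem h (inv_mem (pow_mem hx i))
    · rw [mul_inv_rev]
      calc (x ^ i)⁻¹ * y⁻¹ * a * (y * x ^ i) = (x ^ i)⁻¹ * ((y⁻¹ * a * y) * x ^ i) := by group
        _ = (x ^ i)⁻¹ * (x ^ i * (y⁻¹ * a * y)) := by rw [hcA _ (hnorm y a ha) _ (pow_mem hx i)]
        _ = _ := by group
    · rw [hpow _ (pow_mem hx i), hLpow, ← hv, hi, mul_inv_cancel, zpowers_one_eq_bot, mem_bot]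
      exact hv1
  -- a hyperplane of `A` containing `y₁ ^ p` but not `v`
  have hy₁pA : y₁ ^ p ∈ A := by
    have := A.pow_index_mem y₁
    rwa [hidx] at this
  let cand : Set (Subgroup P) := {K | K ≤ A ∧ y₁ ^ p ∈ K ∧ v ∉ K}
  obtain ⟨K, hK⟩ := Set.Finite.exists_maximal cand.toFinite
    ⟨zpowers (y₁ ^ p), zpowers_le.2 hy₁pA, mem_zpowers _, hv₁⟩
  obtain ⟨hKA, hypK, hvK⟩ := hK.1
  have hKe : Cfsg.IsElementaryAbelian p K :=
    ⟨⟨⟨fun a b => Subtype.ext (hcA a (hKA a.2) b (hKA b.2))⟩⟩, fun a ha => hA.2 a (hKA ha)⟩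
  have hAK : A ≤ K ⊔ zpowers v := by
    intro a ha
    by_cases haK : a ∈ K
    · exact mem_sup_left haK
    have hmem : v ∈ K ⊔ zpowers a := by
      by_contra h
      have hin : K ⊔ zpowers a ∈ cand := ⟨sup_le hKA (zpowers_le.2 ha), mem_sup_left hypK, h⟩
      exact haK (hK.2 hin le_sup_left (mem_sup_right (mem_zpowers a)))
    obtain ⟨k, hk, b, hb, e⟩ := CfsgLib.Techniques.exists_mul_of_mem_sup (A := K) (B := zpowers a)
      (fun c hc => centralizer_le_normalizer _ (mem_centralizer_iff.2 fun d hd =>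
        hcA d (zpowers_le.2 ha hd) c (hKA hc))) hmem
    have hb1 : b ≠ 1 := fun h => hvK (by rw [← e, h, mul_one]; exact hk)
    have hao : orderOf a = p := orderOf_eq_prime (hA.2 a ha) fun h => haK (h ▸ one_mem K)
    have hbp : zpowers b = zpowers a := by
      refine eq_of_le_of_card_ge (zpowers_le.2 hb) ?_
      rw [Nat.card_zpowers, Nat.card_zpowers, hao, orderOf_eq_prime (hA.2 b (zpowers_le.2 ha hb)) hb1]
    have haz : a ∈ zpowers b := hbp ▸ mem_zpowers a
    refine zpowers_le.2 ?_ haz
    rw [show b = k⁻¹ * v by rw [← e]; group]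
    exact mul_mem (mem_sup_left (inv_mem hk)) (mem_sup_right (mem_zpowers v))
  have hvA : v ∈ A := hLA x hx p
  have hcardA : Nat.card A = Nat.card K * p := by
    have h1 : A = K ⊔ zpowers v := le_antisymm hAK (sup_le hKA (zpowers_le.2 hvA))
    refine le_antisymm ?_ ?_
    · have h2 : Nat.card A ≤ Nat.card (K.carrier × (zpowers v).carrier) := by
        refine Nat.card_le_card_of_surjective
          (fun kz : K.carrier × (zpowers v).carrier => (⟨(kz.1 : P) * kz.2,
            mul_mem (hKA kz.1.2) (zpowers_le.2 hvA kz.2.2)⟩ : ↥A)) ?_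
        rintro ⟨a, ha⟩
        obtain ⟨k, hk, b, hb, e⟩ := CfsgLib.Techniques.exists_mul_of_mem_sup (A := K) (B := zpowers v)
          (fun c hc => centralizer_le_normalizer _ (mem_centralizer_iff.2 fun d hd =>
            hcA d (zpowers_le.2 hvA hd) c (hKA hc))) (hAK ha)
        exact ⟨⟨⟨k, hk⟩, ⟨b, hb⟩⟩, Subtype.ext e⟩
      rw [Nat.card_prod] at h2
      refine h2.trans (le_of_eq ?_)
      congr 1
      exact (Nat.card_zpowers v).trans (orderOf_eq_prime (hA.2 v hvA) hv1)
    · conv_rhs => rw [h1]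
      exact CfsgLib.Techniques.card_mul_prime_le_sup_zpowers hKe (hA.2 v hvA)
        (fun a ha => hcA a (hKA ha) v hvA) hvK
  have hKidx : K.index = p ^ 2 := by
    have h1 := K.index_mul_card
    rw [← A.index_mul_card, hidx, hcardA] at h1
    exact Nat.eq_of_mul_eq_mul_right (Nat.card_pos (α := K)) (by rw [h1]; ring)
  set C := K.normalCore with hC
  have hCK : C ≤ K := K.normalCore_le
  have hCA : C ≤ A := hCK.trans hKA
  -- the shift operator
  have hexpA : ∀ a : ↥A, a ^ p = 1 := fun a => Subtype.ext (hA.2 a a.2)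
  let : Module (ZMod p) (Additive ↥A) := AddCommGroup.zmodModule (n := p) fun a =>
    congrArg Additive.ofMul (hexpA a.toMul)
  let t : ↥A →* ↥A :=
    { toFun := fun a => ⟨y⁻¹ * a * y, hnorm y a a.2⟩
      map_one' := Subtype.ext (by simp)
      map_mul' := fun a b => Subtype.ext (by simp [mul_assoc]) }
  let T : Module.End (ZMod p) (Additive ↥A) := (MonoidHom.toAdditive t).toZModLinearMap p
  have hTpow : ∀ (i : ℕ) (a : ↥A), (((T ^ i) (Additive.ofMul a)).toMul : P) = f (a : P) i := by
    intro i a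
    induction i with
    | zero => simp [f]
    | succ i ih =>
      rw [pow_succ', Module.End.mul_apply]
      change y⁻¹ * (((T ^ i) (Additive.ofMul a)).toMul : P) * y = _
      rw [ih]
      simp only [f, pow_succ]
      group
  set Δ := T - 1 with hΔ
  have hsum : (((Δ ^ (p - 1)) (Additive.ofMul ⟨x, hx⟩)).toMul : P) = v := by
    have h1 := congrArg (Polynomial.aeval T) (sub_one_pow_eq_geom_sum p)
    simp only [map_pow, map_sub, Polynomial.aeval_X, map_one, map_sum] at h1
    rw [← hΔ] at h1
    rw [h1, LinearMap.sum_apply]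
    have : ∀ n, ((((∑ i ∈ Finset.range n, (T ^ i) (Additive.ofMul (⟨x, hx⟩ : ↥A))) : Additive ↥A)).toMul : P) = L x n := by
      intro n
      induction n with
      | zero => simp [L]
      | succ n ih => rw [Finset.sum_range_succ, toMul_add, Subgroup.coe_mul, ih, hTpow, hLsucc]
    exact this p
  have hTC : ∀ a : Additive ↥A, (a.toMul : P) ∈ C → ((T a).toMul : P) ∈ C := fun a ha => by
    have := (inferInstance : C.Normal).conj_mem _ ha y⁻¹
    simp only [inv_inv] at this
    exact this
  let W : ℕ → Submodule (ZMod p) (Additive ↥A) := fun j =>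
    Submodule.span (ZMod p) ({a : Additive ↥A | (a.toMul : P) ∈ C} ∪
      {a | ∃ i, j ≤ i ∧ i < p ∧ a = (Δ ^ i) (Additive.ofMul ⟨x, hx⟩)})
  let C' : Submodule (ZMod p) (Additive ↥A) := AddSubgroup.toZModSubmodule p
    (Subgroup.toAddSubgroup (C.subgroupOf A))
  have hΔp : Δ ^ p = T ^ p - 1 := by
    have h1 := congrArg (Polynomial.aeval T)
      (sub_pow_char (p := p) (x := (Polynomial.X : (ZMod p)[X])) (y := 1))
    simpa [map_pow, map_sub] using h1
  have hΔtop : (Δ ^ p) (Additive.ofMul ⟨x, hx⟩) = 0 := by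
    rw [hΔp, LinearMap.sub_apply, sub_eq_zero]
    refine Additive.toMul.injective (Subtype.ext ?_)
    rw [hTpow]
    change (y ^ p)⁻¹ * x * y ^ p = x
    rw [mul_assoc, hcA x hx _ hypA, inv_mul_cancel_left]
  have hWlt : ∀ j < p, W (j + 1) < W j := by
    intro j hj
    refine lt_of_le_of_ne (Submodule.span_mono (Set.union_subset_union_right _
      fun a ⟨i, h1, h2, h3⟩ => ⟨i, by omega, h2, h3⟩)) fun heq => hvK ?_
    have hmem : (Δ ^ j) (Additive.ofMul ⟨x, hx⟩) ∈ W (j + 1) :=
      heq ▸ Submodule.subset_span (Or.inr ⟨j, le_rfl, hj, rfl⟩)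
    have hall : ∀ a ∈ W (j + 1), (Δ ^ (p - 1 - j)) a ∈ C' := by
      intro a ha
      refine (Submodule.span_le (p := C'.comap (Δ ^ (p - 1 - j)))).2 ?_ ha
      rintro b (hb | ⟨i, h1, h2, rfl⟩)
      · have hb' : b ∈ C' := hb
        change (Δ ^ (p - 1 - j)) b ∈ C'
        have : ∀ n, (Δ ^ n) b ∈ C' := by
          intro n
          induction n with
          | zero => simpa using hb'
          | succ n ih =>
            rw [pow_succ', Module.End.mul_apply, hΔ, LinearMap.sub_apply, Module.End.one_apply]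
            exact C'.sub_mem (hTC _ ih) ih
        exact this _
      · change (Δ ^ (p - 1 - j)) ((Δ ^ i) _) ∈ C'
        rw [← Module.End.mul_apply, ← pow_add,
          show p - 1 - j + i = (p - 1 - j + i - p) + p by omega, pow_add, Module.End.mul_apply, hΔtop,
          map_zero]
        exact C'.zero_mem
    have h2 := hall _ hmem
    rw [← Module.End.mul_apply, ← pow_add, Nat.sub_add_cancel (by omega)] at h2
    rw [← hsum]
    exact hCK h2
  have hA_p : IsPGroup p A := CfsgLib.Techniques.isPGroup_of_elementary hA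
  have hcard_ge : Nat.card C * p ^ p ≤ Nat.card A := by
    have hle : C' ≤ W p := fun a ha => Submodule.subset_span (Or.inl ha)
    have key : ∀ d, d ≤ p → Nat.card C' * p ^ d ≤ Nat.card (W (p - d)) := by
      intro d
      induction d with
      | zero =>
        intro _
        rw [pow_zero, mul_one]
        exact Nat.card_le_card_of_injective (Submodule.inclusion hle) (Submodule.inclusion_injective hle)
      | succ d ih =>
        intro hd
        have h1 := ih (by omega)
        have h2 : W (p - d) < W (p - (d + 1)) := by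
          have := hWlt (p - (d + 1)) (by omega)
          rwa [show p - (d + 1) + 1 = p - d by omega] at this
        have h3 : Nat.card (W (p - d)) * p ≤ Nat.card (W (p - (d + 1))) := by
          rw [Module.natCard_eq_pow_finrank (K := ZMod p) (V := W (p - d)),
            Module.natCard_eq_pow_finrank (K := ZMod p) (V := W (p - (d + 1))), Nat.card_zmod, ← pow_succ]
          exact Nat.pow_le_pow_right hp0 (Submodule.finrank_lt_finrank_of_lt h2)
        rw [pow_succ, ← mul_assoc]
        exact le_trans (Nat.mul_le_mul_right p h1) h3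
    have h4 := key p le_rfl
    have hC'card : Nat.card C' = Nat.card C := by
      rw [← Nat.card_congr (subgroupOfEquivOfLe hCA).toEquiv]
      rfl
    rw [hC'card] at h4
    exact h4.trans ((Nat.card_le_card_of_injective _ Subtype.val_injective).trans (le_of_eq rfl))
  -- the permutation representation on the cosets of `K`
  let σ : P →* Equiv.Perm (P ⧸ K) := MulAction.toPermHom P (P ⧸ K)
  have hcard : Nat.card (P ⧸ K) = p ^ 2 := hKidx
  let e : (P ⧸ K) ≃ Fin (p ^ 2) := (Finite.equivFin _).trans (finCongr hcard)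
  let φ : P →* Equiv.Perm (Fin (p ^ 2)) := (e.permCongrHom : Equiv.Perm (P ⧸ K) →* _).comp σ
  obtain ⟨Q, hQ⟩ := (show IsPGroup p φ.range by
    rw [MonoidHom.range_eq_map]; exact (hP.to_subgroup ⊤).map φ).exists_le_sylow
  have hker : φ.ker = C := by
    rw [hC, normalCore_eq_ker]
    ext g
    simp [φ, σ, MonoidHom.mem_ker]
  have hQcard : Nat.card Q = p ^ (p + 1) := by
    rw [Q.card_eq_multiplicity, Nat.card_perm, Nat.card_fin, factorization_sq_factorial]
  have hrange : Nat.card Q ≤ Nat.card φ.range := by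
    have h1 := φ.ker.index_mul_card
    rw [index_ker, hker, ← A.index_mul_card, hidx] at h1
    rw [hQcard]
    refine Nat.le_of_mul_le_mul_right ?_ (Nat.card_pos (α := C))
    rw [h1, pow_succ', mul_assoc, mul_comm (p ^ p)]
    exact Nat.mul_le_mul_left p hcard_ge
  have heq : φ.range = (Q : Subgroup _) := eq_of_le_of_card_ge hQ hrange
  refine ⟨Q, φ.codRestrict _ fun g => heq ▸ ⟨g, rfl⟩, ?_⟩
  rintro ⟨q, hq⟩
  obtain ⟨g, rfl⟩ := heq.symm ▸ hq
  exact ⟨g, rfl⟩

end Cfsg.Agent.S1952
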