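import Cfsg.Statements.S1953
import Mathlib
import Cfsg.Agent.Lib.Techniques.CentricControl

set_option autoImplicit false
open Cfsg

namespace Cfsg.Agent.S1953

open Subgroup CfsgLib.Techniques CfsgLib.Techniques.Fusion Cfsg.Agent.S1954

universe u

variable {G : Type u} [Group G] [Finite G] {p : ℕ} [Fact p.Prime]

omit [Finite G] [Fact p.Prime] in
/-- The hypothesis in terms of homomorphisms. -/
theorem autFree_of (hfree : ∀ Q : Subgroup G, IsPGroup p ↥Q → ¬ ∃ (H K : Subgroup G) (_ : (K.subgroupOf H).Normal),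
      centralizer (Q : Set G) ≤ K ∧ K ≤ H ∧ H ≤ normalizer (Q : Set G) ∧
      Nonempty ((↥H ⧸ K.subgroupOf H) ≃* Matrix.SpecialLinearGroup (Fin 2) (ZMod p))) : AutFree p G := by
  intro Q hQ H hH f hf hC
  set C := centralizer (Q : Set G) with hCdef
  set H' := H ⊔ C with hH'
  have hH'N : H' ≤ normalizer (Q : Set G) := sup_le hH (centralizer_le_normalizer _)
  have hHC : H ≤ normalizer (C : Set G) := hH.trans (normalizer_le_normalizer_centralizer Q)
  set K := f.ker.map H.subtype ⊔ C with hK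
  have hKH : K ≤ H' := sup_le_sup_right (map_subtype_le _) C
  have hkey : ∀ a : ↥H, (a : G) ∈ K → f a = 1 := by
    intro a ha
    obtain ⟨k, hk, c, hc, e⟩ := exists_mul_of_mem_sup (A := f.ker.map H.subtype) (B := C)
      ((map_subtype_le _).trans hHC) ha
    obtain ⟨k, hk', rfl⟩ := hk
    have hc' : ((k⁻¹ * a : ↥H) : G) = c := by
      rw [Subgroup.coe_mul, Subgroup.coe_inv, ← e]
      simp
    have h1 := hC (k⁻¹ * a) (hc' ▸ hc)
    rwa [map_mul, map_inv, MonoidHom.mem_ker.1 hk', inv_one, one_mul] at h1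
  have hconj : ∀ h ∈ H, ∀ k ∈ K, h * k * h⁻¹ ∈ K := by
    intro h hh k hk
    obtain ⟨a, ha, c, hc, rfl⟩ := exists_mul_of_mem_sup (A := f.ker.map H.subtype) (B := C)
      ((map_subtype_le _).trans hHC) hk
    obtain ⟨a, ha', rfl⟩ := ha
    rw [show h * (H.subtype a * c) * h⁻¹ = (h * H.subtype a * h⁻¹) * (h * c * h⁻¹) by group]
    refine mul_mem (mem_sup_left ⟨⟨h, hh⟩ * a * ⟨h, hh⟩⁻¹, ?_, rfl⟩)
      (mem_sup_right ((mem_normalizer_iff.1 (hHC hh) c).1 hc))
    exact (inferInstance : f.ker.Normal).conj_mem a ha' _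
  haveI hn : (K.subgroupOf H').Normal := by
    refine (normal_subgroupOf_iff_le_normalizer hKH).2 (sup_le (fun h hh => ?_) (le_sup_right.trans le_normalizer))
    rw [mem_normalizer_iff]
    refine fun k => ⟨hconj h hh k, fun hk => ?_⟩
    simpa [mul_assoc] using hconj h⁻¹ (inv_mem hh) _ hk
  let g : ↥H →* ↥H' ⧸ K.subgroupOf H' := (QuotientGroup.mk' _).comp (inclusion le_sup_left)
  have hg : Function.Surjective g := by
    intro z
    induction z using QuotientGroup.induction_on with
    | H z =>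
      obtain ⟨a, ha, c, hc, e⟩ := exists_mul_of_mem_sup (A := H) (B := C) hHC z.2
      refine ⟨⟨a, ha⟩, QuotientGroup.eq.2 (mem_subgroupOf.2 ?_)⟩
      show a⁻¹ * (z : G) ∈ K
      rw [← e, inv_mul_cancel_left]
      exact mem_sup_right hc
  have hker : g.ker = f.ker := by
    ext a
    rw [MonoidHom.mem_ker, MonoidHom.mem_ker]
    refine ⟨fun h => hkey a (mem_subgroupOf.1 ((QuotientGroup.eq_one_iff (inclusion le_sup_left a : ↥H')).1 h)),
      fun h => ?_⟩
    refine (QuotientGroup.eq_one_iff (inclusion le_sup_left a : ↥H')).2 (mem_subgroupOf.2 ?_)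
    exact mem_sup_left (mem_map_of_mem H.subtype (show a ∈ f.ker from h))
  exact hfree Q hQ ⟨H', K, hn, le_sup_right, hKH, hH'N,
    ⟨(QuotientGroup.quotientKerEquivOfSurjective g hg).symm.trans
      ((QuotientGroup.quotientMulEquivOfEq hker).trans (QuotientGroup.quotientKerEquivOfSurjective f hf))⟩⟩

omit [Fact p.Prime] in
/-- The `p`-elements of a group with a central Sylow subgroup lie in it. -/
theorem le_of_central_sylow [Fact p.Prime] {Z X A : Subgroup G} (hZX : Z ≤ X) (hZ : IsPGroup p Z)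
    (hi : ¬ p ∣ Z.relIndex X) (hZA : Z ≤ A) (hAX : A ≤ X) (hA : IsPGroup p A) : A ≤ Z := by
  obtain ⟨x, _, hx⟩ := exists_conj_le_sylow_of hAX hA hZX hZ hi
  have h := card_le_of_le hx
  rw [card_map_conj] at h
  exact (eq_of_le_of_card_ge hZA h).ge
/-- Let p be an odd prime and P a Sylow p-subgroup of the finite group G, and suppose that for no p-subgroup Q of G does N_G(Q)/C_G(Q) have a section isomorphic to SL₂(p). Call a subgroup Q of P centric-radical when Z(Q) is a Sylow p-subgroup of C_G(Q) and the only normal subgroup X of N_G(Q) containing Q·C_G(Q) such that the index of Q·C_G(Q) in X is a power of p is Q·C_G(Q) itself (that is, N_G(Q)/Q·C_G(Q) has no nontrivial normal p-subgroup). Then there is a centric-radical subgroup Q of P contained in every centric-radical subgroup of P; it is normal in P, and N_G(Q) controls strong fusion in P: whenever a subgroup A of P has g A g⁻¹ ≤ P, the element g is a product h c with h in N_G(Q) and c centralizing A. -/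
theorem result {G : Type*} [Group G] [Finite G] {p : ℕ} [Fact p.Prime] (hp : p ≠ 2) (P : Sylow p G)
    (hfree : ∀ Q : Subgroup G, IsPGroup p ↥Q → ¬ ∃ (H K : Subgroup G) (_ : (K.subgroupOf H).Normal),
      Subgroup.centralizer (Q : Set G) ≤ K ∧ K ≤ H ∧ H ≤ Subgroup.normalizer (Q : Set G) ∧
      Nonempty ((↥H ⧸ K.subgroupOf H) ≃* Matrix.SpecialLinearGroup (Fin 2) (ZMod p)))
    (cr : Subgroup G → Prop)
    (hcr : ∀ Q : Subgroup G, cr Q ↔ (Q ≤ (P : Subgroup G) ∧
      (∃ R : Sylow p ↥(Subgroup.centralizer (Q : Set G)),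
        (R : Subgroup ↥(Subgroup.centralizer (Q : Set G))).map (Subgroup.centralizer (Q : Set G)).subtype = Q ⊓ Subgroup.centralizer (Q : Set G)) ∧
      ∀ X : Subgroup G, X ≤ Subgroup.normalizer (Q : Set G) →
        (∀ n ∈ Subgroup.normalizer (Q : Set G), X.map (MulAut.conj n).toMonoidHom = X) →
        Q ⊔ Subgroup.centralizer (Q : Set G) ≤ X → (∃ k : ℕ, (Q ⊔ Subgroup.centralizer (Q : Set G)).relIndex X = p ^ k) →
        X = Q ⊔ Subgroup.centralizer (Q : Set G))) :
    ∃ Q : Subgroup G, cr Q ∧ (∀ R : Subgroup G, cr R → Q ≤ R) ∧ (∀ x ∈ (P : Subgroup G), Q.map (MulAut.conj x).toMonoidHom = Q) ∧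
      ∀ A : Subgroup G, A ≤ (P : Subgroup G) → ∀ g : G, A.map (MulAut.conj g).toMonoidHom ≤ (P : Subgroup G) →
        ∃ h ∈ Subgroup.normalizer (Q : Set G), ∃ c ∈ Subgroup.centralizer (A : Set G), g = h * c := by
  classical
  have hF : AutFree p G := autFree_of hfree
  set S : Subgroup G := P.toSubgroup with hS
  have hSp : IsPGroup p S := P.2
  obtain ⟨Q0, hQ0⟩ := exists_goodIn_top hp hF P
  obtain ⟨Q, hQ, hmax⟩ := hQ0.exists_greatest
  obtain ⟨hQS, hSQ, hcen, -⟩ := id hQ
  set C := Subgroup.centralizer (Q : Set G) with hC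
  set M := Subgroup.normalizer (Q : Set G) with hM
  have hCM : C ≤ M := Subgroup.centralizer_le_normalizer _
  have hMC : M ≤ Subgroup.normalizer (C : Set G) := normalizer_le_normalizer_centralizer Q
  have hZi : ¬ p ∣ (Q ⊓ C).relIndex C := by
    have h := Cfsg.Agent.S1954.not_dvd_relIndex_inf hSp hSQ hCM hMC (not_dvd_relIndex_sylow P hSQ)
    rwa [show S ⊓ C = Q ⊓ C from le_antisymm (le_inf hcen inf_le_right) (inf_le_inf_right C hQS)] at h
  have hZp : IsPGroup p ↥(Q ⊓ C) := hSp.to_le (inf_le_left.trans hQS)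
  have hZcen : ∀ z ∈ Q ⊓ C, ∀ c ∈ C, c * z = z * c := fun z hz c hc =>
    (Subgroup.mem_centralizer_iff.1 hc z (Subgroup.mem_inf.1 hz).1).symm
  -- `Q` is centric radical
  have hcrQ : cr Q := by
    refine (hcr Q).2 ⟨hQS, ⟨(hZp.of_equiv (Subgroup.subgroupOfEquivOfLe (inf_le_right : Q ⊓ C ≤ C)).symm).toSylow
      (P := (Q ⊓ C).subgroupOf C) hZi, ?_⟩, fun X hXM hXinv hQCX hXp => ?_⟩
    · show ((Q ⊓ C).subgroupOf C).map C.subtype = Q ⊓ C
      rw [Subgroup.subgroupOf_map_subtype, inf_eq_left.2 inf_le_right]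
    have hQX : Q ≤ X := le_sup_left.trans hQCX
    have hMX : M ≤ Subgroup.normalizer (X : Set G) := fun n hn => map_conj_eq_self_iff.1 (hXinv n hn)
    set T := S ⊓ X with hT
    have hTp : IsPGroup p T := hSp.to_le inf_le_left
    have hTi : ¬ p ∣ T.relIndex X :=
      Cfsg.Agent.S1954.not_dvd_relIndex_inf hSp hSQ hXM hMX (not_dvd_relIndex_sylow P hSQ)
    have hQT : Q ≤ T := le_inf hQS hQX
    have hST : S ≤ Subgroup.normalizer (T : Set G) := fun s hs =>
      mem_normalizer_inf (Subgroup.le_normalizer hs) (hMX (hSQ hs))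
    have hXT : X = T ⊔ C := by
      refine le_antisymm ?_ (sup_le inf_le_right (le_sup_right.trans hQCX))
      rw [← Subgroup.relIndex_eq_one]
      by_contra hne
      obtain ⟨k, hk⟩ := hXp
      obtain ⟨j, -, hj⟩ := (Nat.dvd_prime_pow Fact.out).1
        (hk ▸ Subgroup.relIndex_dvd_of_le_left X (sup_le_sup_right hQT C))
      rcases j with _ | j
      · exact hne (by simpa using hj)
      · exact hTi ((hj ▸ dvd_pow_self p j.succ_ne_zero).trans (Subgroup.relIndex_dvd_of_le_left X le_sup_left))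
    have hTgood : GoodIn ⊤ S T := by
      refine goodIn_top inf_le_left hST ((inf_le_inf_left S (Subgroup.centralizer_le
        (SetLike.coe_subset_coe.2 hQT))).trans (hcen.trans hQT)) fun A hA g hg => ?_
      obtain ⟨h, hh, c, hc, rfl⟩ := hQ.ctrl hA hg
      rw [map_conj_mul, map_conj_eq_self_iff.2 (Subgroup.centralizer_le_normalizer _ hc)] at hg
      obtain ⟨x, hx, m, hm, rfl⟩ := frattini hXM hMX inf_le_right hTp hTi hh
      obtain ⟨hmM, hmT⟩ := Subgroup.mem_inf.1 hm
      have hTC : T ≤ Subgroup.normalizer (C : Set G) := (inf_le_left.trans hSQ).trans hMC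
      obtain ⟨d, hd, t, ht, rfl⟩ := exists_mul_of_mem_sup' (A := T) (B := C) hTC (hXT.le hx)
      set m' := t * m with hm'
      have hm'M : m' ∈ M := mul_mem (hSQ (Subgroup.mem_inf.1 ht).1) hmM
      have hm'T : m' ∈ Subgroup.normalizer (T : Set G) := mul_mem (Subgroup.le_normalizer ht) hmT
      have hd2 : m'⁻¹ * d * m' ∈ C := by
        simpa using (Subgroup.mem_normalizer_iff.1 (hMC (inv_mem hm'M)) d).1 hd
      -- the `p'`-part of the centralizer
      let Z : Sylow p ↥C := (hZp.of_equiv (Subgroup.subgroupOfEquivOfLe (inf_le_right : Q ⊓ C ≤ C)).symm).toSylow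
          (P := (Q ⊓ C).subgroupOf C) hZi
      have hcompl : Cfsg.HasNormalPComplement p ↥C := by
        refine CfsgLib.Transfer.hasNormalPComplement_of_normalizer_le Z fun c _ => ?_
        exact Subgroup.mem_centralizer_iff.2 fun z hz =>
          Subtype.ext (hZcen _ (Subgroup.mem_subgroupOf.1 hz) _ c.2).symm
      haveI : (Cfsg.pResidual p ↥C).Characteristic := CfsgLib.Transfer.pResidual_characteristic
      set D := (Cfsg.pResidual p ↥C).map C.subtype with hD
      have hDp : ¬ p ∣ Nat.card D := by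
        rw [hD, Subgroup.card_map_of_injective C.subtype_injective]
        exact CfsgLib.Transfer.hasNormalPComplement_iff.1 hcompl
      have hMD : M ≤ Subgroup.normalizer (D : Set G) := hMC.trans (normalizer_le_normalizer_map_subtype C _)
      have hCle : C ≤ (Q ⊓ C) ⊔ D := by
        rw [← Subgroup.subgroupOf_eq_top]
        refine CfsgLib.Transfer.eq_top_of_pResidual_le (p := p)
          (fun c hc => Subgroup.mem_subgroupOf.2 (Subgroup.mem_sup_right ⟨c, hc, rfl⟩)) ?_
        exact fun hd => hZi (hd.trans (Subgroup.relIndex_dvd_of_le_left C le_sup_left))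
      obtain ⟨z, hz, e, he, hze⟩ := exists_mul_of_mem_sup (A := Q ⊓ C) (B := D)
        (((inf_le_left.trans hQS).trans hSQ).trans hMD) (hCle hd2)
      set l := m' * z with hl
      have hlT : l ∈ Subgroup.normalizer (T : Set G) :=
        mul_mem hm'T (Subgroup.le_normalizer (hQT (Subgroup.mem_inf.1 hz).1))
      have hhe : d * t * m = l * e := by
        rw [hl, mul_assoc m', hze, hm']
        group
      set L := Subgroup.normalizer (T : Set G) with hL
      have hAL : A ≤ L := hA.trans hST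
      set B := D ⊓ L with hB
      have hAB : A ≤ Subgroup.normalizer (B : Set G) := fun a ha =>
        mem_normalizer_inf (hMD (hSQ (hA ha))) (Subgroup.le_normalizer (hAL ha))
      have hdA : A.map (MulAut.conj e).toMonoidHom ≤ A ⊔ B := by
        refine map_conj_le_iff.2 fun a ha => ?_
        have h1 : e * a * e⁻¹ ∈ L := by
          have h0 := hg (conj_mem_map_conj (d * t * m) ha)
          rw [show e * a * e⁻¹ = l⁻¹ * ((d * t * m) * a * (d * t * m)⁻¹) * l by rw [hhe]; group]
          exact mul_mem (mul_mem (inv_mem hlT) (hST h0)) hlT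
        have h2 : e * a * e⁻¹ * a⁻¹ ∈ B := by
          refine Subgroup.mem_inf.2 ⟨?_, mul_mem h1 (inv_mem (hAL ha))⟩
          have := mul_mem he ((Subgroup.mem_normalizer_iff.1 (hMD (hSQ (hA ha))) e⁻¹).1 (inv_mem he))
          simpa [mul_assoc] using this
        rw [show e * a * e⁻¹ = (e * a * e⁻¹ * a⁻¹) * a by group]
        exact mul_mem (Subgroup.mem_sup_right h2) (Subgroup.mem_sup_left ha)
      have hAD : A ⊓ D = ⊥ := by
        refine Subgroup.inf_eq_bot_of_coprime ?_
        obtain ⟨k, hk⟩ := (hSp.to_le hA).exists_card_eq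
        rw [hk]
        exact ((Fact.out : p.Prime).coprime_iff_not_dvd.2 hDp).pow_left k
      have hAi : ¬ p ∣ A.relIndex (A ⊔ B) := by
        have hinj : Function.Bijective (fun ub : ↥A × ↥B =>
            (⟨ub.1 * ub.2, mul_mem (Subgroup.mem_sup_left ub.1.2) (Subgroup.mem_sup_right ub.2.2)⟩ : ↥(A ⊔ B))) := by
          constructor
          · rintro ⟨⟨a, ha⟩, ⟨b, hb⟩⟩ ⟨⟨a', ha'⟩, ⟨b', hb'⟩⟩ h
            have h' : a * b = a' * b' := congrArg Subtype.val h
            have hm : a'⁻¹ * a ∈ A ⊓ D := by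
              refine Subgroup.mem_inf.2 ⟨mul_mem (inv_mem ha') ha, ?_⟩
              rw [show a'⁻¹ * a = b' * b⁻¹ by rw [eq_mul_inv_iff_mul_eq, mul_assoc, h', inv_mul_cancel_left]]
              exact mul_mem (Subgroup.mem_inf.1 hb').1 (inv_mem (Subgroup.mem_inf.1 hb).1)
            rw [hAD, Subgroup.mem_bot, inv_mul_eq_one] at hm
            subst hm
            simp [mul_left_cancel h']
          · rintro ⟨v, hv⟩
            obtain ⟨a, ha, b, hb, e'⟩ := exists_mul_of_mem_sup hAB hv
            exact ⟨(⟨a, ha⟩, ⟨b, hb⟩), Subtype.ext e'⟩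
        have h1 := Subgroup.relIndex_mul_relIndex ⊥ A (A ⊔ B) bot_le le_sup_left
        rw [Subgroup.relIndex_bot_left, Subgroup.relIndex_bot_left, ← Nat.card_eq_of_bijective _ hinj, Nat.card_prod] at h1
        rw [Nat.eq_of_mul_eq_mul_left Nat.card_pos h1]
        exact fun hd => hDp (hd.trans (Subgroup.card_dvd_of_le inf_le_left))
      obtain ⟨y, hy, hy'⟩ := exists_conj_le_sylow_of hdA (isPGroup_map_conj (hSp.to_le hA) e)
        le_sup_left (hSp.to_le hA) hAi
      rw [← map_conj_mul] at hy'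
      obtain ⟨a, ha, b, hb, rfl⟩ := exists_mul_of_mem_sup hAB hy
      have hbe : b * e ∈ Subgroup.normalizer (A : Set G) := by
        have h := map_conj_eq_self_iff.1 (eq_of_le_of_card_ge hy' (card_map_conj _ _).ge)
        simpa [mul_assoc] using mul_mem (inv_mem (Subgroup.le_normalizer ha)) h
      have hbeD : b * e ∈ D := mul_mem (Subgroup.mem_inf.1 hb).1 he
      have hbeC : b * e ∈ Subgroup.centralizer (A : Set G) := by
        rw [Subgroup.mem_centralizer_iff]
        intro v hv
        have h1 : b * e * v * (b * e)⁻¹ * v⁻¹ ∈ A ⊓ D := by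
          refine Subgroup.mem_inf.2 ⟨mul_mem ((Subgroup.mem_normalizer_iff.1 hbe v).1 hv) (inv_mem hv), ?_⟩
          have := mul_mem hbeD ((Subgroup.mem_normalizer_iff.1 (hMD (hSQ (hA hv))) _).1 (inv_mem hbeD))
          simpa [mul_assoc] using this
        rw [hAD, Subgroup.mem_bot, mul_inv_eq_one, mul_inv_eq_iff_eq_mul] at h1
        exact h1.symm
      exact ⟨l * b⁻¹, mul_mem hlT (inv_mem (Subgroup.mem_inf.1 hb).2), b * e * c, mul_mem hbeC hc,
        by rw [hhe]; group⟩
    refine le_antisymm ?_ hQCX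
    rw [hXT]
    exact sup_le_sup_right (hmax T hTgood) C
  -- and contained in all centric radical subgroups
  refine ⟨Q, hcrQ, fun R hR => ?_, fun x hx => map_conj_eq_self_iff.2 (hSQ hx),
    fun A hA g hg => hQ.ctrl hA hg⟩
  obtain ⟨hRS, ⟨R0, hR0⟩, hrad⟩ := (hcr R).1 hR
  have hRi0 : ¬ p ∣ (R ⊓ Subgroup.centralizer (R : Set G)).relIndex (Subgroup.centralizer (R : Set G)) := by
    rw [← hR0, Subgroup.relIndex, Subgroup.subgroupOf,
      Subgroup.comap_map_eq_self_of_injective (Subgroup.centralizer (R : Set G)).subtype_injective]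
    exact R0.not_dvd_index
  set CR := Subgroup.centralizer (R : Set G) with hCR
  have hRi : ¬ p ∣ (R ⊓ CR).relIndex CR := hRi0
  set A := Q ⊓ Subgroup.normalizer (R : Set G) with hA
  set B := R ⊔ CR with hB
  have hAB : A ≤ Subgroup.normalizer (B : Set G) := fun a ha => by
    rw [← map_conj_eq_self_iff, hB, Subgroup.map_sup, map_conj_eq_self_iff.2 (Subgroup.mem_inf.1 ha).2,
      map_conj_eq_self_iff.2 (normalizer_le_normalizer_centralizer R (Subgroup.mem_inf.1 ha).2)]
  have hBN : B ≤ Subgroup.normalizer (R : Set G) := sup_le Subgroup.le_normalizer (Subgroup.centralizer_le_normalizer _)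
  set X := A ⊔ B with hX
  have hXR : X = B := by
    refine hrad X (sup_le inf_le_right hBN) (fun n hn => ?_) le_sup_right ?_
    · obtain ⟨h, hh, c, hc, rfl⟩ := hQ.ctrl hRS (g := n) (by rw [map_conj_eq_self_iff.2 hn]; exact hRS)
      have hcX : c ∈ X := Subgroup.mem_sup_right (Subgroup.mem_sup_right hc)
      have hhR : h ∈ Subgroup.normalizer (R : Set G) := by
        simpa using mul_mem hn (inv_mem (Subgroup.centralizer_le_normalizer _ hc))
      refine map_conj_eq_self_iff.2 (mul_mem ?_ (Subgroup.le_normalizer hcX))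
      have hA' : A.map (MulAut.conj h).toMonoidHom = A :=
        map_conj_eq_self_iff.2 (mem_normalizer_inf hh (Subgroup.le_normalizer hhR))
      rw [← map_conj_eq_self_iff, hX, hB, Subgroup.map_sup, Subgroup.map_sup, hA', map_conj_eq_self_iff.2 hhR,
        map_conj_eq_self_iff.2 (normalizer_le_normalizer_centralizer R hhR)]
    · haveI hn : (B.subgroupOf X).Normal := (Subgroup.normal_subgroupOf_iff_le_normalizer le_sup_right).2
        (sup_le hAB Subgroup.le_normalizer)
      let ψ : ↥A →* ↥X ⧸ B.subgroupOf X := (QuotientGroup.mk' _).comp (Subgroup.inclusion le_sup_left)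
      have hψ : Function.Surjective ψ := by
        intro z
        induction z using QuotientGroup.induction_on with
        | H z =>
          obtain ⟨a, ha, b, hb, e⟩ := exists_mul_of_mem_sup hAB z.2
          refine ⟨⟨a, ha⟩, QuotientGroup.eq.2 (Subgroup.mem_subgroupOf.2 ?_)⟩
          show a⁻¹ * (z : G) ∈ B
          rw [← e, inv_mul_cancel_left]
          exact hb
      exact ((hSp.to_le (inf_le_left.trans hQS) : IsPGroup p A).of_surjective ψ hψ).exists_card_eq
  have hAR : A ≤ R := by
    intro a ha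
    obtain ⟨r, hr, c, hc, rfl⟩ := exists_mul_of_mem_sup (A := R) (B := CR)
      (Subgroup.le_normalizer.trans (normalizer_le_normalizer_centralizer R))
      ((le_of_le_of_eq le_sup_left hXR : A ≤ B) ha)
    refine mul_mem hr (Subgroup.mem_inf.1 (le_of_central_sylow (Z := R ⊓ CR) (A := S ⊓ CR) (X := CR)
      inf_le_right (hSp.to_le (inf_le_left.trans hRS)) hRi (inf_le_inf_right CR hRS) inf_le_right
      (hSp.to_le inf_le_left) (Subgroup.mem_inf.2 ⟨?_, hc⟩))).1
    simpa using mul_mem (inv_mem (hRS hr)) (hQS (Subgroup.mem_inf.1 ha).1)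
  by_contra hne
  have hRQ : R ≤ Subgroup.normalizer (Q : Set G) := hRS.trans hSQ
  have hlt : R < R ⊔ Q := lt_of_le_of_ne le_sup_left fun e => hne (e ▸ le_sup_right)
  obtain ⟨e, he, heR⟩ := SetLike.exists_of_lt (lt_inf_normalizer (hSp.to_le (sup_le hRS hQS)) hlt)
  obtain ⟨r, hr, q, hq, rfl⟩ := exists_mul_of_mem_sup hRQ (Subgroup.mem_inf.1 he).1
  refine heR (mul_mem hr (hAR (Subgroup.mem_inf.2 ⟨hq, ?_⟩)))
  simpa using mul_mem (inv_mem (Subgroup.le_normalizer hr)) (Subgroup.mem_inf.1 he).2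

end Cfsg.Agent.S1953
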