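import Cfsg.Statements.S1954
import Mathlib
import Cfsg.Agent.Lib.Techniques.FusionInduction
import Cfsg.Agent.Lib.Transfer.NormalComplement
import Cfsg.Agent.Lib.OddOrder41.Coprime

set_option autoImplicit false
open Cfsg

namespace Cfsg.Agent.S1954

open Subgroup CfsgLib.Techniques CfsgLib.Techniques.Fusion

variable {G : Type*} [Group G]

/-- The conclusion for a single conjugation. -/
def Ctrl (W A : Subgroup G) (g : G) : Prop :=
  ∃ h ∈ normalizer (W : Set G), ∃ c ∈ centralizer (A : Set G), g = h * c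

theorem ctrl_closed (S W : Subgroup G) : IsFusionClosed S (Ctrl W) where
  mono := fun hDD ⟨h, hh, c, hc, e⟩ => ⟨h, hh, c, centralizer_le (SetLike.coe_subset_coe.2 hDD) hc, e⟩
  comp := by
    rintro D _ _ - - ⟨h, hh, c, hc, rfl⟩ ⟨h', hh', c', hc', rfl⟩
    refine ⟨h' * h, mul_mem hh' hh, h⁻¹ * c' * h * c, mul_mem ?_ hc, by group⟩
    rw [mem_centralizer_iff] at hc hc' ⊢
    intro d hd
    have e : h * c * d * (h * c)⁻¹ = h * d * h⁻¹ := by
      rw [mul_assoc h c d, ← hc d hd]
      group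
    have h2 := hc' _ (e ▸ conj_mem_map_conj (h * c) hd)
    calc d * (h⁻¹ * c' * h) = h⁻¹ * ((h * d * h⁻¹) * c') * h := by group
      _ = h⁻¹ * (c' * (h * d * h⁻¹)) * h := by rw [h2]
      _ = h⁻¹ * c' * h * d := by group

variable [Finite G] {p : ℕ} [Fact p.Prime]

theorem not_dvd_relIndex_inf {R X M : Subgroup G} (hR : IsPGroup p R) (hRM : R ≤ M) (hXM : X ≤ M)
    (hMX : M ≤ normalizer (X : Set G)) (hi : ¬ p ∣ R.relIndex M) : ¬ p ∣ (R ⊓ X).relIndex X := by
  haveI : (X.subgroupOf M).Normal := (normal_subgroupOf_iff_le_normalizer hXM).2 hMX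
  let T : Sylow p M := (hR.of_equiv (subgroupOfEquivOfLe hRM).symm).toSylow (P := R.subgroupOf M) hi
  have h := not_dvd_relIndex_inf_normal T (X.subgroupOf M)
  change ¬ p ∣ (R.subgroupOf M ⊓ X.subgroupOf M).relIndex _ at h
  rw [subgroupOf, subgroupOf, ← comap_inf] at h
  rwa [← relIndex_subgroupOf hXM]

theorem frattini {X T M : Subgroup G} (hXM : X ≤ M) (hMX : M ≤ normalizer (X : Set G)) (hTX : T ≤ X)
    (hT : IsPGroup p T) (hi : ¬ p ∣ T.relIndex X) {x : G} (hx : x ∈ M) :
    ∃ c ∈ X, ∃ m ∈ M ⊓ normalizer (T : Set G), x = c * m := by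
  have hle : T.map (MulAut.conj x).toMonoidHom ≤ X :=
    map_conj_le_iff.2 fun a ha => (mem_normalizer_iff.1 (hMX hx) a).1 (hTX ha)
  obtain ⟨c, hc, e⟩ := exists_conj_le_sylow_of hle (isPGroup_map_conj hT x) hTX hT hi
  rw [← map_conj_mul] at e
  exact ⟨c⁻¹, inv_mem hc, c * x, mem_inf.2 ⟨mul_mem (hXM hc) hx,
    map_conj_eq_self_iff.1 (eq_of_le_of_card_ge e (card_map_conj _ _).ge)⟩, by group⟩

theorem step1 (N : Subgroup G) [N.Normal] (T0 V : Subgroup G) (hV : V ≤ T0)
    (hctrl : ∀ A : Subgroup G, A ≤ T0 → ∀ n ∈ N, A.map (MulAut.conj n).toMonoidHom ≤ T0 →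
      ∃ h ∈ N ⊓ normalizer (V : Set G), ∃ c ∈ N ⊓ centralizer (A : Set G), n = h * c)
    (W : Subgroup G) (hW : W = closure (⋃ x ∈ normalizer (T0 : Set G),
      ((V.map (MulAut.conj x).toMonoidHom : Subgroup G) : Set G))) :
    normalizer (T0 : Set G) ≤ normalizer (W : Set G) ∧
    ∀ A : Subgroup G, A ≤ T0 → ∀ n ∈ N, A.map (MulAut.conj n).toMonoidHom ≤ T0 →
      ∃ h ∈ N ⊓ normalizer (W : Set G), ∃ c ∈ N ⊓ centralizer (A : Set G), n = h * c := by
  classical
  set M := normalizer (T0 : Set G)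
  have hinv : ∀ g : G, (∀ x ∈ M, ∀ a ∈ V.map (MulAut.conj x).toMonoidHom, g * a * g⁻¹ ∈ W) →
      W.map (MulAut.conj g).toMonoidHom ≤ W := by
    intro g hg
    rw [hW, MonoidHom.map_closure, closure_le, Set.image_subset_iff]
    intro a ha
    simp only [Set.mem_iUnion] at ha
    obtain ⟨x, hx, ha⟩ := ha
    rw [← hW]
    exact hg x hx a ha
  refine ⟨fun g hg => map_conj_eq_self_iff.1 (eq_of_le_of_card_ge (hinv g fun x hx a ha => ?_) (card_map_conj _ _).ge), ?_⟩
  · rw [hW]
    refine subset_closure (Set.mem_iUnion₂.2 ⟨g * x, mul_mem hg hx, ?_⟩)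
    rw [map_conj_mul]
    exact conj_mem_map_conj g ha
  have key : ∀ F : Finset G, (∀ x ∈ F, x ∈ M) → ∀ A : Subgroup G, A ≤ T0 → ∀ n ∈ N,
      A.map (MulAut.conj n).toMonoidHom ≤ T0 →
      ∃ h ∈ N, (∀ x ∈ F, h ∈ normalizer ((V.map (MulAut.conj x).toMonoidHom : Subgroup G) : Set G)) ∧
        ∃ c ∈ N ⊓ centralizer (A : Set G), n = h * c := by
    intro F
    induction F using Finset.induction_on with
    | empty => exact fun _ A _ n hn _ => ⟨n, hn, by simp, 1, one_mem _, by simp⟩
    | @insert x F hxF ih =>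
      intro hF A hA n hn hAn
      have hxM := hF x (Finset.mem_insert_self x F)
      have hFM : ∀ y ∈ F, y ∈ M := fun y hy => hF y (Finset.mem_insert_of_mem hy)
      obtain ⟨h1, h1N, h1F, c, hc, rfl⟩ := ih hFM A hA n hn hAn
      have hVy : ∀ y ∈ M, V.map (MulAut.conj y).toMonoidHom ≤ T0 := fun y hy =>
        map_conj_le_iff.2 fun a ha => (mem_normalizer_iff.1 hy a).1 (hV ha)
      set B : Subgroup G := A ⊔ ⨆ y ∈ F, V.map (MulAut.conj y).toMonoidHom with hB
      have hAB : A ≤ B := le_sup_left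
      have hVB : ∀ y ∈ F, V.map (MulAut.conj y).toMonoidHom ≤ B := fun y hy =>
        le_sup_of_le_right (le_iSup₂_of_le y hy le_rfl)
      have hB0 : B ≤ T0 := sup_le hA (iSup₂_le fun y hy => hVy y (hFM y hy))
      have hAc : A.map (MulAut.conj c).toMonoidHom = A :=
        map_conj_eq_self_iff.2 (centralizer_le_normalizer _ (mem_inf.1 hc).2)
      have hB1 : B.map (MulAut.conj h1).toMonoidHom ≤ T0 := by
        rw [hB, Subgroup.map_sup, Subgroup.map_iSup]
        refine sup_le ?_ (iSup_le fun y => ?_)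
        · rwa [map_conj_mul, hAc] at hAn
        · rw [Subgroup.map_iSup]
          refine iSup_le fun hy => ?_
          rw [map_conj_eq_self_iff.2 (h1F y hy)]
          exact hVy y (hFM y hy)
      -- apply the hypothesis conjugated by `x`
      obtain ⟨h', hh', c', hc', e⟩ := hctrl (B.map (MulAut.conj x⁻¹).toMonoidHom)
        (map_conj_le_iff.2 fun b hb => (mem_normalizer_iff.1 (inv_mem hxM) b).1 (hB0 hb))
        (x⁻¹ * h1 * x) (by simpa using (inferInstance : N.Normal).conj_mem h1 h1N x⁻¹) (by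
          rw [map_conj_mul, map_conj_mul, ← map_conj_mul (a := x), mul_inv_cancel, map_conj_one]
          exact map_conj_le_iff.2 fun b hb => (mem_normalizer_iff.1 (inv_mem hxM) b).1 (hB1 hb))
      set h2 := x * h' * x⁻¹ with hh2
      set c2 := x * c' * x⁻¹ with hc2
      have e2 : h1 = h2 * c2 := by
        calc h1 = x * (x⁻¹ * h1 * x) * x⁻¹ := by group
          _ = h2 * c2 := by rw [e, hh2, hc2]; group
      have hc2B : c2 ∈ N ⊓ centralizer (B : Set G) := by
        refine mem_inf.2 ⟨(inferInstance : N.Normal).conj_mem _ (mem_inf.1 hc').1 x, ?_⟩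
        rw [mem_centralizer_iff]
        intro b hb
        have h3 := mem_centralizer_iff.1 (mem_inf.1 hc').2 _ (conj_mem_map_conj x⁻¹ hb)
        calc b * c2 = x * ((x⁻¹ * b * x⁻¹⁻¹) * c') * x⁻¹ := by rw [hc2]; group
          _ = x * (c' * (x⁻¹ * b * x⁻¹⁻¹)) * x⁻¹ := by rw [h3]
          _ = c2 * b := by rw [hc2]; group
      have h2N : h2 ∈ N := (inferInstance : N.Normal).conj_mem _ (mem_inf.1 hh').1 x
      refine ⟨h2, h2N, fun y hy => ?_, c2 * c, mem_inf.2 ⟨mul_mem (mem_inf.1 hc2B).1 (mem_inf.1 hc).1,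
        mul_mem (centralizer_le (SetLike.coe_subset_coe.2 hAB) (mem_inf.1 hc2B).2) (mem_inf.1 hc).2⟩,
        by rw [e2, mul_assoc]⟩
      rcases Finset.mem_insert.1 hy with rfl | hyF
      · rw [← map_conj_eq_self_iff, ← map_conj_mul, hh2, inv_mul_cancel_right, map_conj_mul,
          map_conj_eq_self_iff.2 (mem_inf.1 hh').2]
      · rw [show h2 = h1 * c2⁻¹ by rw [e2]; group]
        exact mul_mem (h1F y hyF) (inv_mem (centralizer_le_normalizer _
          (centralizer_le (SetLike.coe_subset_coe.2 (hVB y hyF)) (mem_inf.1 hc2B).2)))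
  intro A hA n hn hAn
  obtain ⟨h, hN, hF, c, hc, e⟩ := key (M : Set G).toFinite.toFinset (fun x hx => by simpa using hx) A hA n hn hAn
  refine ⟨h, mem_inf.2 ⟨hN, map_conj_eq_self_iff.1 (eq_of_le_of_card_ge (hinv h fun x hx a ha => ?_)
    (card_map_conj _ _).ge)⟩, c, hc, e⟩
  rw [hW]
  exact subset_closure (Set.mem_iUnion₂.2 ⟨x, hx, (mem_normalizer_iff.1 (hF x (by simpa using hx)) a).1 ha⟩)

theorem core (N : Subgroup G) [N.Normal] (P : Sylow p G) (W : Subgroup G)
    (hM : normalizer (((P : Subgroup G) ⊓ N : Subgroup G) : Set G) ≤ normalizer (W : Set G))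
    (hW : ∀ A : Subgroup G, A ≤ (P : Subgroup G) ⊓ N → ∀ n ∈ N,
      A.map (MulAut.conj n).toMonoidHom ≤ (P : Subgroup G) ⊓ N →
      ∃ h ∈ N ⊓ normalizer (W : Set G), ∃ c ∈ N ⊓ centralizer (A : Set G), n = h * c)
    (U : Subgroup G) (hU : IsFN p (P : Subgroup G) U)
    (habove : HoldsAbove (P : Subgroup G) (Ctrl W) (Nat.card U)) (x : G)
    (hx : x ∈ normalizer (U : Set G)) : Ctrl W U x := by
  set S : Subgroup G := P.toSubgroup with hS
  set T0 := S ⊓ N with hT0
  have hSp : IsPGroup p S := P.2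
  have hSM : S ≤ normalizer (T0 : Set G) := fun s hs => mem_normalizer_inf (le_normalizer hs)
    (by rw [normalizer_eq_top]; exact mem_top s)
  have bigger : ∀ D : Subgroup G, U < D → D ≤ S → ∀ y ∈ normalizer (D : Set G), Ctrl W U y := by
    intro D hlt hD y hy
    exact (ctrl_closed S W).mono hlt.le
      (habove D y (card_lt_of_lt hlt) hD (by rw [map_conj_eq_self_iff.2 hy]; exact hD))
  have hcomp : ∀ a b : G, a ∈ normalizer (U : Set G) → Ctrl W U a → Ctrl W U b → Ctrl W U (b * a) := by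
    intro a b ha h1 h2
    refine (ctrl_closed S W).comp hU.1 ?_ h1 ?_ <;> rw [map_conj_eq_self_iff.2 ha]
    · exact hU.1
    · exact h2
  have hC : ∀ c ∈ centralizer (U : Set G), Ctrl W U c := fun c hc => ⟨1, one_mem _, c, hc, by simp⟩
  set M := normalizer (U : Set G) with hMdef
  have hUM : U ≤ M := le_normalizer
  have hNn : ∀ g : G, g ∈ normalizer (N : Set G) := fun g => by rw [normalizer_eq_top]; exact mem_top g
  set Q0 := U ⊓ N with hQ0
  have hQ0T : Q0 ≤ T0 := inf_le_inf_right N hU.1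
  have hMQ0 : M ≤ normalizer (Q0 : Set G) := fun g hg => mem_normalizer_inf hg (hNn g)
  -- Sylow subgroups of normal subgroups of `M`
  have hsyl : ∀ X : Subgroup G, X ≤ M → M ≤ normalizer (X : Set G) → ¬ p ∣ ((S ⊓ M) ⊓ X).relIndex X :=
    fun X hXM hMX => not_dvd_relIndex_inf (hSp.to_le inf_le_left) inf_le_right hXM hMX hU.2
  -- Frattini
  have hNU : ∀ n ∈ N ⊓ M, Ctrl W U n := by
    intro n hn
    obtain ⟨hnN, hnM⟩ := mem_inf.1 hn
    set Cn := N ⊓ centralizer (Q0 : Set G) with hCn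
    have hMCn : M ≤ normalizer (Cn : Set G) := fun g hg =>
      mem_normalizer_inf (hNn g) (normalizer_le_normalizer_centralizer Q0 (hMQ0 hg))
    set X := Cn ⊓ M with hX
    have hMX : M ≤ normalizer (X : Set G) := fun g hg => mem_normalizer_inf (hMCn hg) (le_normalizer hg)
    set C := S ⊓ Cn with hCdef
    have hTcX : (S ⊓ M) ⊓ X = C ⊓ M := by
      ext g
      simp only [hX, hCdef, mem_inf]
      tauto
    have hTci : ¬ p ∣ (C ⊓ M).relIndex X := hTcX ▸ hsyl X inf_le_right hMX
    have hTcp : IsPGroup p ↥(C ⊓ M) := hSp.to_le (inf_le_left.trans inf_le_left)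
    have hTcle : C ⊓ M ≤ X := hTcX ▸ inf_le_right
    by_cases hCU : C ≤ U
    swap
    · -- a bigger subgroup is normalised
      have hUC : U ≤ normalizer (C : Set G) := fun u hu =>
        mem_normalizer_inf (le_normalizer (hU.1 hu)) (hMCn (hUM hu))
      have hnle : ¬ C ⊓ M ≤ U := by
        intro hle
        have hlt : U < U ⊔ C := lt_of_le_of_ne le_sup_left fun e => hCU (e ▸ le_sup_right)
        obtain ⟨e, he, heU⟩ := SetLike.exists_of_lt
          (lt_inf_normalizer (hSp.to_le (sup_le hU.1 inf_le_left)) hlt)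
        obtain ⟨u, hu, c, hc, rfl⟩ := exists_mul_of_mem_sup hUC (mem_inf.1 he).1
        refine heU (mul_mem hu (hle (mem_inf.2 ⟨hc, ?_⟩)))
        simpa using mul_mem (inv_mem (hUM hu)) (mem_inf.1 he).2
      have hlt : U < U ⊔ (C ⊓ M) := lt_of_le_of_ne le_sup_left fun e => hnle (e ▸ le_sup_right)
      set K := X ⊓ centralizer (U : Set G) with hK
      have hXK : X ≤ (C ⊓ M) ⊔ K := by
        rw [← subgroupOf_eq_top]
        refine CfsgLib.Transfer.eq_top_of_pResidual_le (p := p) (CfsgLib.Transfer.pResidual_le_iff.2 ?_) ?_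
        · intro c hc
          rw [← orderOf_coe] at hc
          obtain ⟨hcCn, hcM⟩ := mem_inf.1 c.2
          obtain ⟨hcN, hcQ⟩ := mem_inf.1 hcCn
          refine mem_subgroupOf.2 (mem_sup_right (mem_inf.2 ⟨c.2, mem_centralizer_iff.2 fun u hu => ?_⟩))
          obtain ⟨k, hk⟩ := (hSp.to_le hU.1).exists_card_eq
          have hy : u⁻¹ * ((c : G) * u * (c : G)⁻¹) ∈ Q0 := by
            refine mem_inf.2 ⟨mul_mem (inv_mem hu) ((mem_normalizer_iff.1 hcM u).1 hu), ?_⟩
            have h := mul_mem ((inferInstance : N.Normal).conj_mem _ hcN u⁻¹) (inv_mem hcN)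
            simpa [mul_assoc] using h
          refine (CfsgLib.OddOrder41.fixes_of_step_fixed (H := U) (x := u⁻¹ * ((c : G) * u * (c : G)⁻¹))
            (by rw [hk]; exact hc.pow_right k) (mem_inf.1 hy).1 (by group) ?_).symm
          rw [← mem_centralizer_iff.1 hcQ _ hy]
          group
        · exact fun hd => hTci (hd.trans (relIndex_dvd_of_le_left X le_sup_left))
      obtain ⟨c, hc, m, hm, rfl⟩ := frattini inf_le_right hMX hTcle hTcp hTci hnM
      obtain ⟨hmM, hmT⟩ := mem_inf.1 hm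
      obtain ⟨c0, hc0, t, ht, rfl⟩ := exists_mul_of_mem_sup' (A := C ⊓ M) (B := K)
        (fun t ht => mem_normalizer_inf (hMX (mem_inf.1 ht).2)
          (normalizer_le_normalizer_centralizer U (mem_inf.1 ht).2)) (hXK hc)
      have htm : t * m ∈ M := mul_mem (mem_inf.1 ht).2 hmM
      have htmT : t * m ∈ normalizer ((C ⊓ M : Subgroup G) : Set G) := mul_mem (le_normalizer ht) hmT
      have htmD : t * m ∈ normalizer ((U ⊔ (C ⊓ M) : Subgroup G) : Set G) := by
        rw [← map_conj_eq_self_iff, Subgroup.map_sup, map_conj_eq_self_iff.2 htm, map_conj_eq_self_iff.2 htmT]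
      rw [mul_assoc]
      exact hcomp _ _ htm (bigger _ hlt (sup_le hU.1 (inf_le_left.trans inf_le_left)) _ htmD)
        (hC _ (mem_inf.1 hc0).2)
    · -- the centric case
      have hCQ0 : C ≤ Q0 := le_inf hCU (inf_le_right.trans inf_le_left)
      have hCM : C ≤ M := hCU.trans hUM
      rw [inf_eq_left.2 hCM] at hTci hTcp hTcle
      have hCsyl : ¬ p ∣ C.relIndex Cn := by
        let Hs := U ⊔ Cn
        have hUH : U ≤ normalizer (Cn : Set G) := fun u hu => hMCn (hUM hu)
        obtain ⟨R0, hR0⟩ := ((hSp.to_le hU.1).of_equiv (subgroupOfEquivOfLe (le_sup_left : U ≤ Hs)).symm).exists_le_sylow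
        set R := (R0 : Subgroup Hs).map Hs.subtype with hRdef
        have hRp : IsPGroup p R := R0.isPGroup'.map _
        have hUR : U ≤ R := fun u hu => ⟨⟨u, mem_sup_left hu⟩, hR0 hu, rfl⟩
        have hRi : ¬ p ∣ R.relIndex Hs := by
          rw [relIndex, hRdef, subgroupOf, comap_map_eq_self_of_injective Hs.subtype_injective]
          exact R0.not_dvd_index
        have hXi : ¬ p ∣ (R ⊓ Cn).relIndex Cn :=
          not_dvd_relIndex_inf hRp (map_subtype_le _) le_sup_right (sup_le hUH le_normalizer) hRi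
        suffices hXC : R ⊓ Cn ≤ C from fun hd => hXi (hd.trans (relIndex_dvd_of_le_left Cn hXC))
        suffices hXU : R ⊓ Cn ≤ U from le_inf (hXU.trans hU.1) inf_le_right
        by_contra hXU
        have hUX : U ≤ normalizer ((R ⊓ Cn : Subgroup G) : Set G) := fun u hu =>
          mem_normalizer_inf (le_normalizer (hUR hu)) (hUH hu)
        have hlt : U < U ⊔ (R ⊓ Cn) := lt_of_le_of_ne le_sup_left fun e => hXU (e ▸ le_sup_right)
        obtain ⟨e, he, heU⟩ := SetLike.exists_of_lt (lt_inf_normalizer (hRp.to_le (sup_le hUR inf_le_left)) hlt)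
        obtain ⟨u, hu, c, hc, rfl⟩ := exists_mul_of_mem_sup hUX (mem_inf.1 he).1
        refine heU (mul_mem hu (hCU ?_))
        have hcM : c ∈ M := by simpa using mul_mem (inv_mem (hUM hu)) (mem_inf.1 he).2
        obtain ⟨y, -, hy⟩ := exists_conj_le_sylow_of (A := (R ⊓ Cn) ⊓ M) (X := X)
          (inf_le_inf_right M inf_le_right) (hRp.to_le (inf_le_left.trans inf_le_left)) hTcle hTcp hTci
        have hCle : C ≤ (R ⊓ Cn) ⊓ M := le_inf (le_inf (hCU.trans hUR) inf_le_right) hCM
        have hcard := card_le_of_le hy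
        rw [card_map_conj] at hcard
        exact (eq_of_le_of_card_ge hCle hcard).ge (mem_inf.2 ⟨hc, hcM⟩)
      have hCcen : ∀ z ∈ C, ∀ c ∈ Cn, c * z = z * c := fun z hz c hc =>
        (mem_centralizer_iff.1 (mem_inf.1 hc).2 z (hCQ0 hz)).symm
      let Z : Sylow p ↥Cn :=
        ((hSp.to_le (inf_le_left : C ≤ S)).of_equiv (subgroupOfEquivOfLe (inf_le_right : C ≤ Cn)).symm).toSylow
          (P := C.subgroupOf Cn) hCsyl
      have hcompl : Cfsg.HasNormalPComplement p ↥Cn := by
        refine CfsgLib.Transfer.hasNormalPComplement_of_normalizer_le Z fun c _ => ?_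
        exact mem_centralizer_iff.2 fun z hz => Subtype.ext (hCcen _ (mem_subgroupOf.1 hz) _ c.2).symm
      haveI : (Cfsg.pResidual p ↥Cn).Characteristic := CfsgLib.Transfer.pResidual_characteristic
      set D := (Cfsg.pResidual p ↥Cn).map Cn.subtype with hD
      have hDp : ¬ p ∣ Nat.card D := by
        rw [hD, card_map_of_injective Cn.subtype_injective]
        exact CfsgLib.Transfer.hasNormalPComplement_iff.1 hcompl
      have hDCn : D ≤ Cn := map_subtype_le _
      have hMD : M ≤ normalizer (D : Set G) := hMCn.trans (normalizer_le_normalizer_map_subtype Cn _)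
      have hCnle : Cn ≤ C ⊔ D := by
        rw [← subgroupOf_eq_top]
        refine CfsgLib.Transfer.eq_top_of_pResidual_le (p := p)
          (fun c hc => mem_subgroupOf.2 (mem_sup_right ⟨c, hc, rfl⟩)) ?_
        exact fun hd => hCsyl (hd.trans (relIndex_dvd_of_le_left Cn le_sup_left))
      have hnQ : Q0.map (MulAut.conj n).toMonoidHom ≤ T0 := by
        rw [map_conj_eq_self_iff.2 (hMQ0 hnM)]; exact hQ0T
      obtain ⟨l, hl, c, hc, e⟩ := hW Q0 hQ0T n hnN hnQ
      obtain ⟨z, hz, d, hd, rfl⟩ := exists_mul_of_mem_sup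
        ((hCU.trans hUM).trans hMD) (hCnle hc)
      set L := normalizer (W : Set G) with hLdef
      have hUL : U ≤ L := fun u hu => hM (hSM (hU.1 hu))
      have hlz : l * z ∈ L := mul_mem (mem_inf.1 hl).2 (hUL (hCU hz))
      have hUD : U ⊓ D = ⊥ := by
        refine inf_eq_bot_of_coprime ?_
        obtain ⟨k, hk⟩ := (hSp.to_le hU.1).exists_card_eq
        rw [hk]
        exact ((Fact.out : p.Prime).coprime_iff_not_dvd.2 hDp).pow_left k
      set B := D ⊓ L with hB
      have hUB : U ≤ normalizer (B : Set G) := fun u hu =>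
        mem_normalizer_inf (hMD (hUM hu)) (le_normalizer (hUL hu))
      have hdU : U.map (MulAut.conj d).toMonoidHom ≤ U ⊔ B := by
        refine map_conj_le_iff.2 fun u hu => ?_
        have h1 : d * u * d⁻¹ ∈ L := by
          rw [show d * u * d⁻¹ = (l * z)⁻¹ * (n * u * n⁻¹) * (l * z) by rw [e]; group]
          exact mul_mem (mul_mem (inv_mem hlz) (hUL ((mem_normalizer_iff.1 hnM u).1 hu))) hlz
        have h2 : d * u * d⁻¹ * u⁻¹ ∈ B := by
          refine mem_inf.2 ⟨?_, mul_mem h1 (inv_mem (hUL hu))⟩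
          have := mul_mem hd ((mem_normalizer_iff.1 (hMD (hUM hu)) d⁻¹).1 (inv_mem hd))
          simpa [mul_assoc] using this
        rw [show d * u * d⁻¹ = (d * u * d⁻¹ * u⁻¹) * u by group]
        exact mul_mem (mem_sup_right h2) (mem_sup_left hu)
      have hUi : ¬ p ∣ U.relIndex (U ⊔ B) := by
        have hinj : Function.Bijective (fun ub : ↥U × ↥B =>
            (⟨ub.1 * ub.2, mul_mem (mem_sup_left ub.1.2) (mem_sup_right ub.2.2)⟩ : ↥(U ⊔ B))) := by
          constructor
          · rintro ⟨⟨a, ha⟩, ⟨b, hb⟩⟩ ⟨⟨a', ha'⟩, ⟨b', hb'⟩⟩ h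
            have h' : a * b = a' * b' := congrArg Subtype.val h
            have hm : a'⁻¹ * a ∈ U ⊓ D := by
              refine mem_inf.2 ⟨mul_mem (inv_mem ha') ha, ?_⟩
              rw [show a'⁻¹ * a = b' * b⁻¹ by rw [eq_mul_inv_iff_mul_eq, mul_assoc, h', inv_mul_cancel_left]]
              exact mul_mem (mem_inf.1 hb').1 (inv_mem (mem_inf.1 hb).1)
            rw [hUD, mem_bot, inv_mul_eq_one] at hm
            subst hm
            simp [mul_left_cancel h']
          · rintro ⟨v, hv⟩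
            obtain ⟨a, ha, b, hb, e⟩ := exists_mul_of_mem_sup hUB hv
            exact ⟨(⟨a, ha⟩, ⟨b, hb⟩), Subtype.ext e⟩
        have h1 := relIndex_mul_relIndex ⊥ U (U ⊔ B) bot_le le_sup_left
        rw [relIndex_bot_left, relIndex_bot_left, ← Nat.card_eq_of_bijective _ hinj, Nat.card_prod] at h1
        rw [Nat.eq_of_mul_eq_mul_left Nat.card_pos h1]
        exact fun hd => hDp (hd.trans (card_dvd_of_le inf_le_left))
      obtain ⟨y, hy, hy'⟩ := exists_conj_le_sylow_of hdU (isPGroup_map_conj (hSp.to_le hU.1) d)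
        le_sup_left (hSp.to_le hU.1) hUi
      rw [← map_conj_mul] at hy'
      obtain ⟨u, hu, b, hb, rfl⟩ := exists_mul_of_mem_sup hUB hy
      have hyd : u * b * d ∈ M :=
        map_conj_eq_self_iff.1 (eq_of_le_of_card_ge hy' (card_map_conj _ _).ge)
      have hbd : b * d ∈ M := by
        simpa [mul_assoc] using mul_mem (inv_mem (hUM hu)) hyd
      have hbdD : b * d ∈ D := mul_mem (mem_inf.1 hb).1 hd
      have hbdC : b * d ∈ centralizer (U : Set G) := by
        rw [mem_centralizer_iff]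
        intro v hv
        have h1 : b * d * v * (b * d)⁻¹ * v⁻¹ ∈ U ⊓ D := by
          refine mem_inf.2 ⟨mul_mem ((mem_normalizer_iff.1 hbd v).1 hv) (inv_mem hv), ?_⟩
          have := mul_mem hbdD ((mem_normalizer_iff.1 (hMD (hUM hv)) _).1 (inv_mem hbdD))
          simpa [mul_assoc] using this
        rw [hUD, mem_bot, mul_inv_eq_one, mul_inv_eq_iff_eq_mul] at h1
        exact h1.symm
      exact ⟨l * z * b⁻¹, mul_mem hlz (inv_mem (mem_inf.1 hb).2), b * d, hbdC, by rw [e]; group⟩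
  set R := (S ⊓ M) ⊓ (N ⊓ M) with hR
  have hNM : M ≤ normalizer ((N ⊓ M : Subgroup G) : Set G) := fun g hg =>
    mem_normalizer_inf (hNn g) (le_normalizer hg)
  obtain ⟨n, hn, y, hy, rfl⟩ := frattini (p := p) inf_le_right hNM (inf_le_right : R ≤ N ⊓ M)
    (hSp.to_le (inf_le_left.trans inf_le_left)) (hsyl _ inf_le_right hNM) hx
  obtain ⟨hyM, hyR⟩ := mem_inf.1 hy
  refine hcomp y n hyM ?_ (hNU n hn)
  have hRT : R ≤ T0 := le_inf (inf_le_left.trans inf_le_left) (inf_le_right.trans inf_le_left)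
  by_cases hRU : R ≤ U
  · have hUT : U ≤ normalizer (T0 : Set G) := fun u hu => hSM (hU.1 hu)
    have hT0U : T0 ≤ U := by
      by_contra hne
      have hlt : U < U ⊔ T0 := lt_of_le_of_ne le_sup_left fun e => hne (e ▸ le_sup_right)
      obtain ⟨e, he, heU⟩ := SetLike.exists_of_lt
        (lt_inf_normalizer (hSp.to_le (sup_le hU.1 inf_le_left)) hlt)
      obtain ⟨u, hu, c, hc, rfl⟩ := exists_mul_of_mem_sup hUT (mem_inf.1 he).1
      refine heU (mul_mem hu (hRU ?_))
      have hcM : c ∈ M := by simpa using mul_mem (inv_mem (hUM hu)) (mem_inf.1 he).2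
      exact mem_inf.2 ⟨mem_inf.2 ⟨(mem_inf.1 hc).1, hcM⟩, mem_inf.2 ⟨(mem_inf.1 hc).2, hcM⟩⟩
    have hRT0 : R = T0 := le_antisymm hRT (le_inf (le_inf inf_le_left (hT0U.trans hUM))
      (le_inf inf_le_right (hT0U.trans hUM)))
    exact ⟨y, hM (hRT0 ▸ hyR), 1, one_mem _, by simp⟩
  · refine bigger (U ⊔ R) (lt_of_le_of_ne le_sup_left fun e => hRU (e ▸ le_sup_right))
      (sup_le hU.1 (hRT.trans inf_le_left)) y ?_
    rw [← map_conj_eq_self_iff, Subgroup.map_sup, map_conj_eq_self_iff.2 hyM, map_conj_eq_self_iff.2 hyR]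
/-- Let N be a normal subgroup of the finite group G, P a Sylow p-subgroup of G, and V a subgroup of P ∩ N normal in P ∩ N such that N_N(V) controls strong fusion in P ∩ N with respect to N (whenever a subgroup A of P ∩ N has n A n⁻¹ ≤ P ∩ N for some n in N, then n = h c with h in N_N(V) and c in C_N(A)). Let W be the subgroup generated by the conjugates of V under N_G(P ∩ N). Then N_G(W) controls strong fusion in P with respect to G. -/
theorem result {G : Type*} [Group G] [Finite G] {p : ℕ} [Fact p.Prime] (N : Subgroup G) [N.Normal] (P : Sylow p G) (V : Subgroup G)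
    (hV : V ≤ (P : Subgroup G) ⊓ N) (hVn : ∀ x ∈ (P : Subgroup G) ⊓ N, V.map (MulAut.conj x).toMonoidHom = V)
    (hctrl : ∀ A : Subgroup G, A ≤ (P : Subgroup G) ⊓ N → ∀ n ∈ N, A.map (MulAut.conj n).toMonoidHom ≤ (P : Subgroup G) ⊓ N →
      ∃ h ∈ N ⊓ Subgroup.normalizer (V : Set G), ∃ c ∈ N ⊓ Subgroup.centralizer (A : Set G), n = h * c)
    (W : Subgroup G) (hW : W = Subgroup.closure (⋃ x ∈ Subgroup.normalizer (((P : Subgroup G) ⊓ N : Subgroup G) : Set G),
      ((V.map (MulAut.conj x).toMonoidHom : Subgroup G) : Set G))) :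
    ∀ A : Subgroup G, A ≤ (P : Subgroup G) → ∀ g : G, A.map (MulAut.conj g).toMonoidHom ≤ (P : Subgroup G) →
        ∃ h ∈ Subgroup.normalizer (W : Set G), ∃ c ∈ Subgroup.centralizer (A : Set G), g = h * c := by
  have h1 := step1 N ((P : Subgroup G) ⊓ N) V hV hctrl W hW
  obtain ⟨hM, hW'⟩ := h1
  have main : ∀ (m : ℕ) (U : Subgroup G), Nat.card (P : Subgroup G) - Nat.card U < m →
      IsFN p (P : Subgroup G) U → ∀ x ∈ Subgroup.normalizer (U : Set G), Ctrl W U x := by
    intro m
    induction m with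
    | zero => intro U hlt; omega
    | succ m ih =>
      intro U hlt hU x hx
      refine core N P W hM hW' U hU ?_ x hx
      refine holdsAbove_of_family P (ctrl_closed _ W) Set.univ _ (fun T hT _ => ?_) ?_
      · obtain ⟨g, hg⟩ := exists_isFN_conj P (P.2.to_le hT)
        exact ⟨_, Set.mem_univ _, ⟨g, rfl⟩, hg⟩
      · intro U' _ hlt' hU' x' hx'
        have := Subgroup.card_le_of_le hU'.1
        exact ih U' (by omega) hU' x' hx'
  intro A hA g hg
  refine holdsAbove_of_family P (ctrl_closed _ W) Set.univ 0 (fun T hT _ => ?_)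
    (fun U _ _ hU x hx => main _ U (Nat.lt_succ_self _) hU x hx) A g Nat.card_pos hA hg
  obtain ⟨g', hg'⟩ := exists_isFN_conj P (P.2.to_le hT)
  exact ⟨_, Set.mem_univ _, ⟨g', rfl⟩, hg'⟩

end Cfsg.Agent.S1954
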