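import Cfsg.Statements.S1957
import Mathlib
import Cfsg.Agent.Lib.Techniques.Basic
import Cfsg.Agent.Lib.PCore.Basic
import Cfsg.Agent.Lib.OddOrder41.Coprime

set_option autoImplicit false
open Cfsg

namespace Cfsg.Agent.S1957

open Subgroup

variable {G : Type*} [Group G] [Finite G]

omit [Finite G] in
theorem four_mem {U : Subgroup G} (hU : IsKleinFour ↥U) {a b c : G} (ha : a ∈ U) (hb : b ∈ U) (hc : c ∈ U)
    (ha1 : a ≠ 1) (hb1 : b ≠ 1) (hab : a ≠ b) : c = 1 ∨ c = a ∨ c = b ∨ c = a * b := by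
  rcases eq_or_ne c 1 with h | h1
  · exact Or.inl h
  rcases eq_or_ne c a with h | h2
  · exact Or.inr (Or.inl h)
  rcases eq_or_ne c b with h | h3
  · exact Or.inr (Or.inr (Or.inl h))
  refine Or.inr (Or.inr (Or.inr ?_))
  haveI := hU
  have := IsKleinFour.eq_mul_of_ne_all (G := ↥U) (x := ⟨a, ha⟩) (y := ⟨b, hb⟩) (z := ⟨c, hc⟩)
    (fun h => ha1 (congrArg Subtype.val h)) (fun h => hb1 (congrArg Subtype.val h))
    (fun h => hab (congrArg Subtype.val h)) (fun h => h1 (congrArg Subtype.val h))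
    (fun h => h2 (congrArg Subtype.val h)) (fun h => h3 (congrArg Subtype.val h))
  exact congrArg Subtype.val this

omit [Finite G] in
theorem four_sq {U : Subgroup G} (hU : IsKleinFour ↥U) {a : G} (ha : a ∈ U) : a * a = 1 := by
  haveI := hU
  exact congrArg Subtype.val (IsKleinFour.mul_self (⟨a, ha⟩ : ↥U))

omit [Finite G] in
theorem four_comm {U : Subgroup G} (hU : IsKleinFour ↥U) {a b : G} (ha : a ∈ U) (hb : b ∈ U) : a * b = b * a := by
  have h1 := four_sq hU ha
  have h2 := four_sq hU hb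
  have h3 := four_sq hU (mul_mem ha hb)
  calc a * b = a * 1 * b := by group
    _ = a * (a * b * (a * b)) * b := by rw [h3]
    _ = (a * a) * (b * a) * (b * b) := by group
    _ = b * a := by rw [h1, h2]; group

/-- The subgroup `O_2` of the centralizer of `u`. -/
def Rof (u : G) : Subgroup G :=
  (Cfsg.pCore 2 ↥(centralizer ({u} : Set G))).map (centralizer ({u} : Set G)).subtype

theorem Rof_inf_eq_bot (u : G) {x : G} (hx : x ∈ Rof u) (ho : Odd (orderOf x)) : x = 1 := by
  have h : IsPGroup 2 ↥(Rof u) := (CfsgLib.PCore.pCore_isPGroup).map _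
  obtain ⟨k, hk⟩ := h ⟨x, hx⟩
  exact orderOf_eq_one_iff.1 (Nat.eq_one_of_dvd_coprimes
    (Nat.Coprime.pow_right k (Nat.coprime_two_right.2 ho)) dvd_rfl
    (orderOf_dvd_of_pow_eq_one (congrArg Subtype.val hk)))

/-- An element of `O_2(C(u))` centralises the odd subgroups of `C(u)` that it normalises. -/
theorem comm_of_mem_Rof {u v x : G} (hv : v ∈ Rof u) (hx : x * u = u * x) {K : Subgroup G}
    (hK : Odd (Nat.card K)) (hxK : x ∈ K) (hvK : ∀ k ∈ K, v * k * v⁻¹ ∈ K) : x * v = v * x := by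
  have h1 : v * x * v⁻¹ * x⁻¹ ∈ Rof u := by
    obtain ⟨v', hv', rfl⟩ := hv
    let x' : ↥(centralizer ({u} : Set G)) := ⟨x, mem_centralizer_singleton_iff.2 hx⟩
    refine ⟨v' * (x' * v'⁻¹ * x'⁻¹), mul_mem hv'
      ((Cfsg.pCore_normal 2 _).conj_mem _ (inv_mem hv') x'), ?_⟩
    simp [x', mul_assoc]
  have h2 : v * x * v⁻¹ * x⁻¹ ∈ K := mul_mem (hvK x hxK) (inv_mem hxK)
  have h3 := Rof_inf_eq_bot u h1 (hK.of_dvd_nat (Subgroup.orderOf_dvd_natCard K h2))
  rw [mul_inv_eq_one, mul_inv_eq_iff_eq_mul] at h3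
  exact h3.symm

theorem centralizer_Rof_le (h2 : Cfsg.IsCharacteristicTwoType G) {u : G} (hu : orderOf u = 2) {x : G}
    (hx : x * u = u * x) (hR : ∀ r ∈ Rof u, r * x = x * r) : x ∈ Rof u := by
  have hN : normalizer (zpowers u : Set G) = centralizer ({u} : Set G) := by
    have huu : u * u = 1 := by rw [← sq, ← hu, pow_orderOf_eq_one]
    ext g
    rw [mem_centralizer_singleton_iff]
    constructor
    · intro hg
      have h := (mem_normalizer_iff.1 hg u).1 (mem_zpowers u)
      obtain ⟨k, hk⟩ := mem_zpowers_iff.1 h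
      have hk' : g * u * g⁻¹ = 1 ∨ g * u * g⁻¹ = u := by
        rcases Int.even_or_odd' k with ⟨m, rfl | rfl⟩
        · left; rw [← hk, zpow_mul, zpow_two, huu, one_zpow]
        · right; rw [← hk, zpow_add, zpow_mul, zpow_two, huu, one_zpow, one_mul, zpow_one]
      rcases hk' with h' | h'
      · rw [mul_inv_eq_one, mul_eq_left] at h'
        rw [h'] at hu
        simp at hu
      · rw [mul_inv_eq_iff_eq_mul] at h'
        exact h'
    · intro hg
      refine centralizer_le_normalizer _ (mem_centralizer_iff.2 fun a ha => ?_)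
      obtain ⟨k, rfl⟩ := mem_zpowers_iff.1 ha
      exact ((show Commute g u from hg).zpow_right k).eq.symm
  have h := h2.2 (zpowers u) (IsPGroup.of_card (n := 1) (by rw [Nat.card_zpowers, hu, pow_one]))
    (fun e => by rw [zpowers_eq_bot] at e; rw [e] at hu; simp at hu)
  rw [hN] at h
  refine ⟨⟨x, mem_centralizer_singleton_iff.2 hx⟩, h (mem_centralizer_iff.2 fun r hr => Subtype.ext ?_), rfl⟩
  exact hR r ⟨r, hr, rfl⟩

theorem Rof_le {u : G} {S : Subgroup G} (hSX : S ≤ centralizer ({u} : Set G)) (hS : IsPGroup 2 S)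
    (hi : ¬ 2 ∣ S.relIndex (centralizer ({u} : Set G))) : Rof u ≤ S := by
  let Q : Sylow 2 ↥(centralizer ({u} : Set G)) :=
    (hS.of_equiv (subgroupOfEquivOfLe hSX).symm).toSylow (P := S.subgroupOf _) hi
  rintro _ ⟨r, hr, rfl⟩
  exact CfsgLib.PCore.pCore_le_sylow Q hr

/-- A four-group normal in a Sylow subgroup lies in `O_2` of the centralizer of its central involution. -/
theorem mem_Rof_of_central (h2 : Cfsg.IsCharacteristicTwoType G) (S : Sylow 2 G) {U : Subgroup G}
    (hU : IsKleinFour ↥U) (hUS : U ≤ (S : Subgroup G))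
    (hSU : ∀ s ∈ (S : Subgroup G), ∀ a ∈ U, s * a * s⁻¹ ∈ U) {u : G} (huU : u ∈ U) (hu : orderOf u = 2)
    (hcen : ∀ s ∈ (S : Subgroup G), s * u = u * s) {v : G} (hv : v ∈ U) : v ∈ Rof u := by
  haveI : Fact (Nat.Prime 2) := ⟨Nat.prime_two⟩
  have hu1 : u ≠ 1 := fun e => by rw [e] at hu; simp at hu
  set X := centralizer ({u} : Set G)
  have hSX : (S : Subgroup G) ≤ X := fun s hs => mem_centralizer_singleton_iff.2 (hcen s hs)
  have hRS : Rof u ≤ (S : Subgroup G) := Rof_le hSX S.2 (CfsgLib.Techniques.not_dvd_relIndex_sylow S hSX)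
  have huR : u ∈ Rof u := centralizer_Rof_le h2 hu rfl fun r hr => hcen r (hRS hr)
  have hUX : ∀ a ∈ U, a * u = u * a := fun a ha => hcen a (hUS ha)
  set R := Cfsg.pCore 2 ↥X with hRdef
  haveI hRn : R.Normal := Cfsg.pCore_normal 2 _
  let u' : ↥X := ⟨u, mem_centralizer_singleton_iff.2 rfl⟩
  have hu' : ∀ a : ↥X, a * u' = u' * a := fun a => Subtype.ext (mem_centralizer_singleton_iff.1 a.2)
  have hz : ∀ a w : ↥X, w ∈ zpowers u' → a * w * a⁻¹ = w := fun a w hw => by
    obtain ⟨k, rfl⟩ := mem_zpowers_iff.1 hw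
    rw [mul_inv_eq_iff_eq_mul]
    exact ((show Commute a u' from hu' a).zpow_right k).eq
  let Y : Subgroup ↥X :=
    { carrier := {x | ∀ r ∈ R, x * r * x⁻¹ * r⁻¹ ∈ zpowers u'}
      one_mem' := fun r _ => by simp
      mul_mem' := fun {x y} hx hy r hr => by
        have e : x * y * r * (x * y)⁻¹ * r⁻¹ =
            x * (y * r * y⁻¹ * r⁻¹) * x⁻¹ * (x * r * x⁻¹ * r⁻¹) := by group
        rw [e, hz x _ (hy r hr)]
        exact mul_mem (hy r hr) (hx r hr)
      inv_mem' := fun {x} hx r hr => by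
        have h := inv_mem (hx _ (hRn.conj_mem r hr x⁻¹))
        have e : x⁻¹ * r * x⁻¹⁻¹ * r⁻¹ = (x * (x⁻¹ * r * x⁻¹⁻¹) * x⁻¹ * (x⁻¹ * r * x⁻¹⁻¹)⁻¹)⁻¹ := by group
        rw [e]; exact h }
  have hYn : Y.Normal := ⟨fun x hx g r hr => by
    have h := hx _ (hRn.conj_mem r hr g⁻¹)
    have e : g * x * g⁻¹ * r * (g * x * g⁻¹)⁻¹ * r⁻¹ =
        g * (x * (g⁻¹ * r * g⁻¹⁻¹) * x⁻¹ * (g⁻¹ * r * g⁻¹⁻¹)⁻¹) * g⁻¹ := by group
    rw [e, hz g _ h]; exact h⟩
  have hodd : ∀ x ∈ Y, Odd (orderOf x) → x = 1 := by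
    intro x hx ho
    obtain ⟨k, hk⟩ := (CfsgLib.PCore.pCore_isPGroup (p := 2) (G := ↥X)).exists_card_eq
    have hfix : ∀ r ∈ R, x * r = r * x := by
      intro r hr
      have hy : r⁻¹ * (x * r * x⁻¹) ∈ zpowers u' := by
        have h := hz r⁻¹ _ (hx r hr)
        rw [← hz r⁻¹ _ (hx r hr)] at h
        have e : r⁻¹ * (x * r * x⁻¹) = r⁻¹ * (x * r * x⁻¹ * r⁻¹) * r⁻¹⁻¹ := by group
        rw [e, hz r⁻¹ _ (hx r hr)]
        exact hx r hr
      have hyR : r⁻¹ * (x * r * x⁻¹) ∈ R := mul_mem (inv_mem hr) (hRn.conj_mem r hr x)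
      exact CfsgLib.OddOrder41.fixes_of_step_fixed (H := R)
        (by rw [hk]; exact (Nat.coprime_two_right.2 ho).pow_right k) hyR (by group) (hz x _ hy)
    have hxR : (x : G) ∈ Rof u := by
      refine centralizer_Rof_le h2 hu (mem_centralizer_singleton_iff.1 x.2) ?_
      rintro _ ⟨r, hr, rfl⟩
      exact (congrArg Subtype.val (hfix r hr)).symm
    exact Subtype.ext (Rof_inf_eq_bot u hxR (by rwa [orderOf_coe]))
  have hY2 : IsPGroup 2 ↥Y := fun x => by
    refine ⟨(orderOf x).factorization 2, Subtype.ext ?_⟩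
    refine hodd _ (pow_mem x.2 _) ?_
    rw [← Nat.coprime_two_right, orderOf_coe, orderOf_pow_of_dvd (pow_ne_zero _ two_ne_zero)
      (Nat.ordProj_dvd _ _)]
    exact (Nat.coprime_ordCompl Nat.prime_two (orderOf_pos x).ne').symm
  have hYR : Y ≤ R := CfsgLib.PCore.le_pCore hYn hY2
  refine ⟨⟨v, mem_centralizer_singleton_iff.2 (hUX v hv)⟩, hYR fun r hr => ?_, rfl⟩
  have hrS : (r : G) ∈ (S : Subgroup G) := hRS ⟨r, hr, rfl⟩
  have hvv := four_sq hU hv
  have hvinv : v⁻¹ = v := inv_eq_of_mul_eq_one_right hvv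
  have hw : v * ((r : G) * v * (r : G)⁻¹) = 1 ∨ v * ((r : G) * v * (r : G)⁻¹) = u := by
    rcases eq_or_ne v 1 with rfl | hv1
    · left; simp
    rcases eq_or_ne v u with rfl | hvu
    · left; rw [hcen _ hrS, mul_inv_cancel_right, hvv]
    rcases four_mem hU huU hv (hSU _ hrS _ hv) hu1 hv1 (Ne.symm hvu) with h | h | h | h
    · exfalso
      refine hv1 ?_
      rwa [mul_inv_eq_one, mul_eq_left] at h
    · exfalso
      refine hvu ?_
      calc v = (r : G)⁻¹ * ((r : G) * v * (r : G)⁻¹) * r := by group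
        _ = (r : G)⁻¹ * ((r : G) * u) := by rw [h, hcen _ hrS]; group
        _ = u := by group
    · left; rw [h, hvv]
    · right; rw [h, ← mul_assoc, four_comm hU hv huU, mul_assoc, hvv, mul_one]
  have e : ((⟨v, mem_centralizer_singleton_iff.2 (hUX v hv)⟩ * r * ⟨v, mem_centralizer_singleton_iff.2 (hUX v hv)⟩⁻¹ * r⁻¹ : ↥X) : G)
      = v * ((r : G) * v * (r : G)⁻¹) := by
    simp only [Subgroup.coe_mul, InvMemClass.coe_inv, hvinv]
    group
  rcases hw with h | h
  · have : (⟨v, mem_centralizer_singleton_iff.2 (hUX v hv)⟩ * r * ⟨v, mem_centralizer_singleton_iff.2 (hUX v hv)⟩⁻¹ * r⁻¹ : ↥X) = 1 :=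
      Subtype.ext (by rw [e, h]; rfl)
    rw [this]; exact one_mem _
  · have : (⟨v, mem_centralizer_singleton_iff.2 (hUX v hv)⟩ * r * ⟨v, mem_centralizer_singleton_iff.2 (hUX v hv)⟩⁻¹ * r⁻¹ : ↥X) = u' :=
      Subtype.ext (by rw [e, h])
    rw [this]; exact mem_zpowers u'
/-- Let `G` be a finite non-abelian simple group in which every local subgroup is solvable and which is of characteristic 2 type. Let `P` be a Sylow 2-subgroup of `G` and `U` a normal subgroup of `P` that is a four-group, with `U` central in `P` if the centre of `P` is not cyclic. Then `U` centralizes every subgroup of odd order of `G` that it normalizes. -/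
theorem result {G : Type*} [Group G] [Finite G]
    [IsSimpleGroup G] (hna : ¬ IsMulCommutative G) (hN : Cfsg.IsNGroup G) (h2 : Cfsg.IsCharacteristicTwoType G)
    (P : Sylow 2 G) (U : Subgroup G) (hUP : U ≤ (P : Subgroup G)) (hUn : (P : Subgroup G) ≤ Subgroup.normalizer (U : Set G))
    (hU4 : IsKleinFour ↥U)
    (hUZ : ¬ IsCyclic ↥((P : Subgroup G) ⊓ Subgroup.centralizer ((P : Subgroup G) : Set G)) →
      U ≤ Subgroup.centralizer ((P : Subgroup G) : Set G))
    (K : Subgroup G) (hK : Odd (Nat.card K)) (hUK : U ≤ Subgroup.normalizer (K : Set G)) :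
    U ≤ Subgroup.centralizer (K : Set G) := by
  haveI : Fact (Nat.Prime 2) := ⟨Nat.prime_two⟩
  set S : Subgroup G := P.toSubgroup
  have hSU : ∀ s ∈ S, ∀ a ∈ U, s * a * s⁻¹ ∈ U := fun s hs a ha =>
    (Subgroup.mem_normalizer_iff.1 (hUn hs) a).1 ha
  have hUc : Nat.card ↥U = 4 := hU4.card_four
  have hord : ∀ a ∈ U, a ≠ 1 → orderOf a = 2 := fun a ha ha1 =>
    orderOf_eq_prime (by rw [sq]; exact four_sq hU4 ha) ha1
  -- the central involution
  obtain ⟨z, hzU, hz1, hzc⟩ : ∃ z ∈ U, z ≠ 1 ∧ ∀ s ∈ S, s * z = z * s := by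
    letI : MulAction ↥S ↥U :=
      { smul := fun s a => ⟨s.1 * a.1 * s.1⁻¹, hSU s.1 s.2 a.1 a.2⟩
        one_smul := fun a => Subtype.ext (show (1 : G) * a.1 * (1 : G)⁻¹ = a.1 by simp)
        mul_smul := fun x y a => Subtype.ext
          (show (x.1 * y.1) * a.1 * (x.1 * y.1)⁻¹ = x.1 * (y.1 * a.1 * y.1⁻¹) * x.1⁻¹ by group) }
    obtain ⟨z, hz, hz1⟩ := (P.2 : IsPGroup 2 ↥S).exists_fixed_point_of_prime_dvd_card_of_fixed_point ↥U
      (by rw [hUc]; norm_num) (a := 1) (fun s => Subtype.ext (show s.1 * (1 : G) * s.1⁻¹ = 1 by simp))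
    refine ⟨z, z.2, fun h => hz1 (Subtype.ext h.symm), fun s hs => ?_⟩
    have h : s * (z : G) * s⁻¹ = z := congrArg Subtype.val (hz ⟨s, hs⟩)
    rwa [mul_inv_eq_iff_eq_mul] at h
  have hzz := four_sq hU4 hzU
  have hzinv : z⁻¹ = z := inv_eq_of_mul_eq_one_right hzz
  have hUK' : ∀ a ∈ U, ∀ k ∈ K, a * k * a⁻¹ ∈ K := fun a ha k hk =>
    (Subgroup.mem_normalizer_iff.1 (hUK ha) k).1 hk
  -- `z` centralises the fixed points of all involutions of `U`
  have main : ∀ u ∈ U, u ≠ 1 → ∀ x ∈ K, x * u = u * x → x * z = z * x := by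
    intro u huU hu1 x hxK hxu
    refine comm_of_mem_Rof ?_ hxu hK hxK (hUK' z hzU)
    have hu2 := hord u huU hu1
    by_cases hucen : ∀ s ∈ S, s * u = u * s
    · exact mem_Rof_of_central h2 P hU4 hUP hSU huU hu2 hucen hzU
    have hcyc : IsCyclic ↥(S ⊓ Subgroup.centralizer (S : Set G)) := by
      by_contra hc
      exact hucen fun s hs => Subgroup.mem_centralizer_iff.1 (hUZ hc huU) s hs
    have huz : u ≠ z := fun h => hucen fun s hs => by rw [h]; exact hzc s hs
    set X := Subgroup.centralizer ({u} : Set G) with hX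
    set T := S ⊓ X with hT
    have hzT : z ∈ T := Subgroup.mem_inf.2
      ⟨hUP hzU, Subgroup.mem_centralizer_singleton_iff.2 (four_comm hU4 hzU huU)⟩
    have hTle : ∀ g1 ∈ S, ∀ g2 ∈ S, g1 ∉ T → g2 ∉ T → g1⁻¹ * g2 ∈ T := by
      have key : ∀ g ∈ S, g ∉ T → g * u * g⁻¹ = z * u := by
        intro g hg hgT
        rcases four_mem hU4 hzU huU (hSU g hg u huU) hz1 hu1 (Ne.symm huz) with h | h | h | h
        · rw [mul_inv_eq_one, mul_eq_left] at h
          exact absurd h hu1
        · refine absurd ?_ huz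
          calc u = g⁻¹ * (g * u * g⁻¹) * g := by group
            _ = g⁻¹ * (g * z) := by rw [h, hzc g hg]; group
            _ = z := by group
        · exfalso
          rw [mul_inv_eq_iff_eq_mul] at h
          exact hgT (Subgroup.mem_inf.2 ⟨hg, Subgroup.mem_centralizer_singleton_iff.2 h⟩)
        · exact h
      intro g1 hg1 g2 hg2 h1 h2
      refine Subgroup.mem_inf.2 ⟨mul_mem (inv_mem hg1) hg2, Subgroup.mem_centralizer_singleton_iff.2 ?_⟩
      have e : g1⁻¹ * g2 * u * (g1⁻¹ * g2)⁻¹ = g1⁻¹ * (g2 * u * g2⁻¹) * g1 := by group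
      rw [key g2 hg2 h2, ← key g1 hg1 h1, mul_inv_eq_iff_eq_mul] at e
      rw [e]; group
    obtain ⟨g0, hg0⟩ : ∃ g0, g0 ∈ S ∧ g0 ∉ T := by
      by_contra h
      push Not at h
      exact hucen fun s hs => Subgroup.mem_centralizer_singleton_iff.1 (Subgroup.mem_inf.1 (h s hs)).2
    have hcardS : Nat.card ↥S ≤ Nat.card ↥T * 2 := by
      have hT2 : ∀ b : Bool, ∀ t : ↥T, (bif b then g0 else 1) * (t : G) ∈ S := fun b t => by
        cases b
        · simpa using (Subgroup.mem_inf.1 t.2).1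
        · exact mul_mem hg0.1 (Subgroup.mem_inf.1 t.2).1
      refine le_trans (Nat.card_le_card_of_surjective
        (fun q : ↥T × Bool => (⟨_, hT2 q.2 q.1⟩ : ↥S)) ?_) (by rw [Nat.card_prod, Nat.card_eq_fintype_card (α := Bool), Fintype.card_bool])
      rintro ⟨s, hs⟩
      by_cases hsT : s ∈ T
      · exact ⟨(⟨s, hsT⟩, false), Subtype.ext (by simp)⟩
      · exact ⟨(⟨g0⁻¹ * s, hTle g0 hg0.1 s hs hg0.2 hsT⟩, true), Subtype.ext (by simp)⟩
    have hTp : IsPGroup 2 ↥T := (P.2 : IsPGroup 2 ↥S).to_le inf_le_left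
    obtain ⟨Q, hQ⟩ := (hTp.of_equiv (Subgroup.subgroupOfEquivOfLe (inf_le_right : T ≤ X)).symm).exists_le_sylow
    set T1 := (Q : Subgroup ↥X).map X.subtype with hT1
    have hT1X : T1 ≤ X := Subgroup.map_subtype_le _
    have hT1p : IsPGroup 2 ↥T1 := Q.isPGroup'.map _
    have hTT1 : T ≤ T1 := fun t ht => ⟨⟨t, (Subgroup.mem_inf.1 ht).2⟩, hQ ht, rfl⟩
    have hRT1 : Rof u ≤ T1 := Rof_le hT1X hT1p (by
      rw [Subgroup.relIndex, hT1, Subgroup.subgroupOf, Subgroup.comap_map_eq_self_of_injective X.subtype_injective]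
      exact Q.not_dvd_index)
    have hTz : ∀ t ∈ T, t * z = z * t := fun t ht => hzc t (Subgroup.mem_inf.1 ht).1
    by_cases hT1T : T1 ≤ T
    · exact centralizer_Rof_le h2 hu2 (four_comm hU4 hzU huU) fun r hr => hTz r (hT1T (hRT1 hr))
    obtain ⟨Q1, hQ1⟩ := hT1p.exists_le_sylow
    have hcard := Subgroup.card_le_of_le hQ1
    have hQ1S : Nat.card ↥(Q1 : Subgroup G) = Nat.card ↥S := by
      obtain ⟨g, rfl⟩ := MulAction.exists_smul_eq G P Q1
      exact CfsgLib.Techniques.card_map_conj S g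
    have hrel : T.relIndex T1 = 2 := by
      have h := Subgroup.relIndex_mul_relIndex ⊥ T T1 bot_le hTT1
      rw [Subgroup.relIndex_bot_left, Subgroup.relIndex_bot_left] at h
      have h1 : T.relIndex T1 ≠ 1 := fun e => hT1T (Subgroup.relIndex_eq_one.1 e)
      have h0 : T.relIndex T1 ≠ 0 := Subgroup.index_ne_zero_of_finite
      have hle : Nat.card ↥T * T.relIndex T1 ≤ Nat.card ↥T * 2 := by rw [h]; omega
      have := Nat.le_of_mul_le_mul_left hle Nat.card_pos
      omega
    have hT1Q : T1 = (Q1 : Subgroup G) := by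
      refine Subgroup.eq_of_le_of_card_ge hQ1 ?_
      have h := Subgroup.relIndex_mul_relIndex ⊥ T T1 bot_le hTT1
      rw [Subgroup.relIndex_bot_left, Subgroup.relIndex_bot_left, hrel] at h
      omega
    haveI hTn : (T.subgroupOf T1).Normal := Subgroup.normal_of_index_eq_two hrel
    have huc : ∀ s ∈ T1, s * u = u * s := fun s hs => Subgroup.mem_centralizer_singleton_iff.1 (hT1X hs)
    obtain ⟨g, hg⟩ := MulAction.exists_smul_eq G P Q1
    have hQS : ∀ s, s ∈ (Q1 : Subgroup G) ↔ g⁻¹ * s * g ∈ S := by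
      intro s
      rw [← hg, Sylow.coe_subgroup_smul, Subgroup.pointwise_smul_def]
      exact CfsgLib.Techniques.mem_map_conj
    have hunique : ∀ w ∈ T1, (∀ s ∈ T1, s * w = w * s) → w * w = 1 → w = 1 ∨ w = u := by
      intro w hw hwc hww
      have hmem : ∀ a ∈ T1, (∀ s ∈ T1, s * a = a * s) → g⁻¹ * a * g ∈ S ⊓ Subgroup.centralizer (S : Set G) := by
        intro a ha hac
        refine Subgroup.mem_inf.2 ⟨(hQS a).1 (hT1Q ▸ ha), Subgroup.mem_centralizer_iff.2 fun s hs => ?_⟩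
        have hs' : g * s * g⁻¹ ∈ T1 := hT1Q ▸ (hQS _).2 (by simpa [mul_assoc] using hs)
        calc s * (g⁻¹ * a * g) = g⁻¹ * ((g * s * g⁻¹) * a) * g := by group
          _ = g⁻¹ * (a * (g * s * g⁻¹)) * g := by rw [hac _ hs']
          _ = g⁻¹ * a * g * s := by group
      rcases eq_or_ne w 1 with h | hw1
      · exact Or.inl h
      refine Or.inr ?_
      obtain ⟨⟨c, hcc⟩, hgen⟩ := hcyc.exists_generator
      classical
      have hsame : ∀ a b : ↥(S ⊓ Subgroup.centralizer (S : Set G)), a ^ 2 = 1 → a ≠ 1 → b ^ 2 = 1 → b ≠ 1 → a = b := by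
        intro a b ha ha1 hb hb1
        haveI := hcyc
        letI : Fintype ↥(S ⊓ Subgroup.centralizer (S : Set G)) := Fintype.ofFinite _
        have h := IsCyclic.card_pow_eq_one_le (α := ↥(S ⊓ Subgroup.centralizer (S : Set G))) (n := 2) (by norm_num)
        by_contra hne
        have h3 : ({1, a, b} : Finset _).card ≤ 2 := le_trans (Finset.card_le_card (fun y hy => by
          simp only [Finset.mem_insert, Finset.mem_singleton] at hy
          rcases hy with rfl | rfl | rfl <;> simp [ha, hb])) h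
        rw [Finset.card_eq_three.2 ⟨1, a, b, Ne.symm ha1, Ne.symm hb1, hne, rfl⟩] at h3
        omega
      have huT : u ∈ T := Subgroup.mem_inf.2 ⟨hUP huU, Subgroup.mem_centralizer_singleton_iff.2 rfl⟩
      have h := hsame ⟨_, hmem w hw hwc⟩ ⟨_, hmem u (hTT1 huT) huc⟩
        (Subtype.ext (by
          simp only [SubmonoidClass.mk_pow, Subgroup.coe_one, sq]
          calc g⁻¹ * w * g * (g⁻¹ * w * g) = g⁻¹ * (w * w) * g := by group
            _ = 1 := by rw [hww]; group))
        (fun e => hw1 (by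
          have := congrArg Subtype.val e
          simp only [Subgroup.coe_one] at this
          calc w = g * (g⁻¹ * w * g) * g⁻¹ := by group
            _ = 1 := by rw [this]; group))
        (Subtype.ext (by
          simp only [SubmonoidClass.mk_pow, Subgroup.coe_one, sq]
          calc g⁻¹ * u * g * (g⁻¹ * u * g) = g⁻¹ * (u * u) * g := by group
            _ = 1 := by rw [four_sq hU4 huU]; group))
        (fun e => hu1 (by
          have := congrArg Subtype.val e
          simp only [Subgroup.coe_one] at this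
          calc u = g * (g⁻¹ * u * g) * g⁻¹ := by group
            _ = 1 := by rw [this]; group))
      have := congrArg Subtype.val h
      simpa using this
    have hnormU : ∀ s ∈ T1, s * z * s⁻¹ = z ∨ s * z * s⁻¹ = z * u := by
      intro s hs
      by_cases hsT : s ∈ T
      · left; rw [hTz s hsT]; group
      have hTconj : ∀ r ∈ T1, ∀ a ∈ T, r * a * r⁻¹ ∈ T := fun r hr a ha =>
        hTn.conj_mem ⟨a, hTT1 ha⟩ ha ⟨r, hr⟩
      have hsq : ∀ r ∈ T1, r ∉ T → s⁻¹ * r ∈ T := by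
        intro r hr hrT
        have h := Subgroup.mul_mem_iff_of_index_two hrel (a := (⟨s⁻¹, inv_mem hs⟩ : ↥T1)) (b := ⟨r, hr⟩)
        simp only [Subgroup.mem_subgroupOf, Subgroup.coe_mul, inv_mem_iff, hsT, hrT] at h
        exact h.2 trivial
      set y := s * z * s⁻¹ with hy
      have hyT : y ∈ T := hTconj s hs z hzT
      have hss : s * s ∈ T := by
        have h := Subgroup.sq_mem_of_index_two hrel (⟨s, hs⟩ : ↥T1)
        rw [sq] at h
        exact h
      have hwT : ∀ t ∈ T, t * (z * y) = z * y * t := by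
        intro t ht
        have h1 : s⁻¹ * t * s ∈ T := by simpa using hTconj s⁻¹ (inv_mem hs) t ht
        have h2 : t * y = y * t := by
          calc t * y = s * ((s⁻¹ * t * s) * z) * s⁻¹ := by rw [hy]; group
            _ = s * (z * (s⁻¹ * t * s)) * s⁻¹ := by rw [hTz _ h1]
            _ = y * t := by rw [hy]; group
        rw [← mul_assoc, hTz t ht, mul_assoc, h2]
        group
      have hsy : s * (z * y) * s⁻¹ = z * y := by
        calc s * (z * y) * s⁻¹ = y * ((s * s) * z * (s * s)⁻¹) := by rw [hy]; group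
          _ = y * z := by rw [hTz _ hss]; group
          _ = z * y := hTz y hyT
      have hww : z * y * (z * y) = 1 := by
        calc z * y * (z * y) = z * (y * z) * y := by group
          _ = z * (z * y) * y := by rw [hTz y hyT]
          _ = z * z * (s * (z * z) * s⁻¹) := by rw [hy]; group
          _ = 1 := by rw [hzz]; group
      have hcent : ∀ r ∈ T1, r * (z * y) = z * y * r := by
        intro r hr
        by_cases hrT : r ∈ T
        · exact hwT r hrT
        rw [mul_inv_eq_iff_eq_mul] at hsy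
        calc r * (z * y) = s * ((s⁻¹ * r) * (z * y)) := by group
          _ = (s * (z * y)) * (s⁻¹ * r) := by rw [hwT _ (hsq r hr hrT)]; group
          _ = z * y * r := by rw [hsy]; group
      rcases hunique (z * y) (mul_mem (hTT1 hzT) (hTT1 hyT)) hcent hww with h | h
      · left
        calc y = z * (z * y) := by rw [← mul_assoc, hzz, one_mul]
          _ = z := by rw [h, mul_one]
      · right
        calc y = z * (z * y) := by rw [← mul_assoc, hzz, one_mul]
          _ = z * u := by rw [h]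
    refine mem_Rof_of_central h2 Q1 hU4 ?_ ?_ huU hu2 (fun s hs => huc s (hT1Q ▸ hs)) hzU
    · intro a ha
      exact hT1Q ▸ hTT1 (Subgroup.mem_inf.2 ⟨hUP ha, Subgroup.mem_centralizer_singleton_iff.2 (four_comm hU4 ha huU)⟩)
    · intro s hs a ha
      rw [← hT1Q] at hs
      have hsu : s * u * s⁻¹ ∈ U := by rw [huc s hs]; simpa using huU
      have hsz : s * z * s⁻¹ ∈ U := by
        rcases hnormU s hs with h | h <;> rw [h]
        · exact hzU
        · exact mul_mem hzU huU
      rcases four_mem hU4 hzU huU ha hz1 hu1 (Ne.symm huz) with rfl | rfl | rfl | rfl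
      · simp
      · exact hsz
      · exact hsu
      · simpa [mul_assoc] using mul_mem hsz hsu
  -- hence `z` centralises `K`
  have hinv : ∀ v ∈ K, z * v * z⁻¹ = v⁻¹ → v = 1 := by
    intro v hv hvz
    have hodd : ∀ a ∈ K, a * a = 1 → a = 1 := by
      intro a ha h
      refine orderOf_eq_one_iff.1 (Nat.eq_one_of_dvd_coprimes
        (Nat.coprime_two_right.2 (hK.of_dvd_nat (Subgroup.orderOf_dvd_natCard K ha))) dvd_rfl
        (orderOf_dvd_of_pow_eq_one (by rwa [sq])))
    obtain ⟨u, huU, hu1, huz⟩ : ∃ u ∈ U, u ≠ 1 ∧ u ≠ z := by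
      by_contra h
      push Not at h
      haveI : Finite ↥U := inferInstance
      have hle : Nat.card ↥U ≤ Nat.card Bool := Nat.card_le_card_of_surjective
        (fun b : Bool => if b then (⟨z, hzU⟩ : ↥U) else 1) (fun ⟨a, ha⟩ => by
          by_cases ha1 : a = 1
          · exact ⟨false, Subtype.ext (by simp [ha1])⟩
          · exact ⟨true, Subtype.ext (by simp [h a ha ha1])⟩)
      rw [hUc, Nat.card_eq_fintype_card, Fintype.card_bool] at hle
      omega
    have huu := four_sq hU4 huU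
    have huinv : u⁻¹ = u := inv_eq_of_mul_eq_one_right huu
    have huzc := four_comm hU4 huU hzU
    -- `v = c * j` with `c` fixed and `j` inverted by `u`
    set w := v⁻¹ * (u * v * u⁻¹) with hw
    have hwK : w ∈ K := mul_mem (inv_mem hv) (hUK' u huU v hv)
    have hwu : u * w * u⁻¹ = w⁻¹ := by
      rw [hw, huinv]
      calc u * (v⁻¹ * (u * v * u)) * u = u * v⁻¹ * u * v * (u * u) := by group
        _ = u * v⁻¹ * u * v := by rw [huu, mul_one]
        _ = (v⁻¹ * (u⁻¹ * v * u⁻¹))⁻¹ := by group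
        _ = _ := by rw [huinv]
    obtain ⟨m, hm⟩ : ∃ m : ℕ, (w ^ m) * (w ^ m) = w := by
      obtain ⟨m, hm⟩ := hK.of_dvd_nat (Subgroup.orderOf_dvd_natCard K hwK)
      exact ⟨m + 1, by rw [← pow_add, show m + 1 + (m + 1) = 2 * m + 1 + 1 by ring, ← hm, pow_succ,
        pow_orderOf_eq_one, one_mul]⟩
    set j := (w ^ m)⁻¹ with hj
    set c := v * j⁻¹ with hc
    have hjK : j ∈ K := inv_mem (pow_mem hwK m)
    have hju : u * j * u⁻¹ = j⁻¹ := by
      rw [hj, ← conj_inv, ← conj_pow, hwu, inv_pow, inv_inv]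
    have hcu : c * u = u * c := by
      have e : u * c * u⁻¹ = c := by
        calc u * c * u⁻¹ = v * w * (u * j * u⁻¹)⁻¹ := by rw [hc, hw]; group
          _ = v * (w ^ m * w ^ m) * (j⁻¹)⁻¹ := by rw [hju, hm]
          _ = c := by rw [hc, hj]; group
      rw [mul_inv_eq_iff_eq_mul] at e
      exact e.symm
    have hcK : c ∈ K := mul_mem hv (inv_mem hjK)
    have hcz := main u huU hu1 c hcK hcu
    have hcz' : z * c * z⁻¹ = c := by rw [← hcz, mul_inv_cancel_right]
    have hvcj : v = c * j := by rw [hc, inv_mul_cancel_right]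
    have e1 : z * j * z⁻¹ = c⁻¹ * j⁻¹ * c⁻¹ := by
      calc z * j * z⁻¹ = c⁻¹ * ((z * c * z⁻¹) * (z * j * z⁻¹)) := by rw [hcz']; group
        _ = c⁻¹ * (z * v * z⁻¹) := by rw [hvcj]; group
        _ = _ := by rw [hvz, hvcj]; group
    have hucc : u * c * u⁻¹ = c := by rw [← hcu, mul_inv_cancel_right]
    have e2 : (z * j * z⁻¹)⁻¹ = c⁻¹ * j * c⁻¹ := by
      have h := congrArg (fun a => u * a * u⁻¹) e1
      have l : u * (z * j * z⁻¹) * u⁻¹ = (z * j * z⁻¹)⁻¹ := by
        calc u * (z * j * z⁻¹) * u⁻¹ = (u * z) * j * (u * z)⁻¹ := by group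
          _ = (z * u) * j * (z * u)⁻¹ := by rw [huzc]
          _ = z * (u * j * u⁻¹) * z⁻¹ := by group
          _ = _ := by rw [hju]; group
      rw [l] at h
      rw [h]
      calc u * (c⁻¹ * j⁻¹ * c⁻¹) * u⁻¹ = (u * c * u⁻¹)⁻¹ * (u * j * u⁻¹)⁻¹ * (u * c * u⁻¹)⁻¹ := by group
        _ = _ := by rw [hucc, hju]; group
    have e3 : j * (c * c) * j⁻¹ = (c * c)⁻¹ := by
      have h := congrArg (·⁻¹) e2
      simp only [inv_inv] at h
      rw [e1] at h
      calc j * (c * c) * j⁻¹ = j * c * (c * j⁻¹ * c) * c⁻¹ := by group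
        _ = j * c * ((c⁻¹ * j * c⁻¹)⁻¹) * c⁻¹ := by group
        _ = j * c * (c⁻¹ * j⁻¹ * c⁻¹) * c⁻¹ := by rw [← h]
        _ = _ := by group
    set a := c * c with ha
    have haK : a ∈ K := mul_mem hcK hcK
    obtain ⟨m', hm'⟩ := hK.of_dvd_nat (Subgroup.orderOf_dvd_natCard K hjK)
    have hpow : ∀ n : ℕ, j ^ (2 * n) * a * (j ^ (2 * n))⁻¹ = a := by
      intro n
      induction n with
      | zero => simp
      | succ n ih =>
        rw [show 2 * (n + 1) = 2 * n + 1 + 1 by ring, pow_succ, pow_succ]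
        calc j ^ (2 * n) * j * j * a * (j ^ (2 * n) * j * j)⁻¹
            = j ^ (2 * n) * (j * (j * a * j⁻¹) * j⁻¹) * (j ^ (2 * n))⁻¹ := by group
          _ = j ^ (2 * n) * (j * a⁻¹ * j⁻¹) * (j ^ (2 * n))⁻¹ := by rw [e3]
          _ = j ^ (2 * n) * (j * a * j⁻¹)⁻¹ * (j ^ (2 * n))⁻¹ := by group
          _ = a := by rw [e3, inv_inv, ih]
    have hja : j * a * j⁻¹ = a := by
      have h := hpow (m' + 1)
      rwa [show 2 * (m' + 1) = orderOf j + 1 by omega, pow_succ, pow_orderOf_eq_one, one_mul] at h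
    have hc1 : c = 1 := hodd c hcK (hodd a haK (by
      rw [hja] at e3
      conv_lhs => arg 2; rw [e3]
      exact mul_inv_cancel a))
    have hvj : v = j := by rw [hvcj, hc1, one_mul]
    have hzu : z * u ∈ U ∧ z * u ≠ 1 := ⟨mul_mem hzU huU, fun h => huz (by
      rw [eq_inv_of_mul_eq_one_right h, hzinv])⟩
    have hvfix : z * u * v * (z * u)⁻¹ = v := by
      calc z * u * v * (z * u)⁻¹ = z * (u * v * u⁻¹) * z⁻¹ := by group
        _ = z * v⁻¹ * z⁻¹ := by rw [hvj, hju]
        _ = (z * v * z⁻¹)⁻¹ := by group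
        _ = v := by rw [hvz, inv_inv]
    have h := main (z * u) hzu.1 hzu.2 v hv (by rw [mul_inv_eq_iff_eq_mul] at hvfix; exact hvfix.symm)
    rw [← h, mul_inv_cancel_right] at hvz
    refine hodd v hv ?_
    conv_lhs => arg 2; rw [hvz]
    exact mul_inv_cancel v
  have hKz : ∀ x ∈ K, x * z = z * x := by
    intro x hx
    set w := x⁻¹ * (z * x * z⁻¹) with hw
    have hwz : z * w * z⁻¹ = w⁻¹ := by
      rw [hw, hzinv]
      calc z * (x⁻¹ * (z * x * z)) * z = z * x⁻¹ * z * x * (z * z) := by group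
        _ = z * x⁻¹ * z * x := by rw [hzz, mul_one]
        _ = (x⁻¹ * (z⁻¹ * x * z⁻¹))⁻¹ := by group
        _ = _ := by rw [hzinv]
    have h := hinv w (mul_mem (inv_mem hx) (hUK' z hzU x hx)) hwz
    rw [hw, inv_mul_eq_one, eq_mul_inv_iff_mul_eq] at h
    exact h
  intro v hv
  rw [Subgroup.mem_centralizer_iff]
  intro x hx
  exact comm_of_mem_Rof (mem_Rof_of_central h2 P hU4 hUP hSU hzU (hord z hzU hz1) hzc hv) (hKz x hx) hK hx
    (hUK' v hv)

end Cfsg.Agent.S1957
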