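import Cfsg.Statements.S1958
import Mathlib
import Cfsg.Agent.Lib.Components.Balance
import Cfsg.Agent.Lib.PCore.PSolvable

set_option autoImplicit false
open Cfsg

namespace Cfsg.Agent.S1958

open Subgroup CfsgLib.Components

/-- One inclusion of balance. -/
theorem inf_le {G : Type*} [Group G] [Finite G] {p : ℕ} [hp : Fact p.Prime] (x y : G) (hx : orderOf x = p)
    (hxy : x * y = y * x) (hCy : Group.IsSolvable ↥(centralizer ({y} : Set G))) :
    Cfsg.centralizerPPrimeCore p x ⊓ centralizer {y} ≤ Cfsg.centralizerPPrimeCore p y ⊓ centralizer {x} := by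
  intro z hz
  obtain ⟨hzx, hzy⟩ := mem_inf.1 hz
  refine mem_inf.2 ⟨?_, map_subtype_le _ hzx⟩
  set X := centralizer ({y} : Set G)
  haveI : Group.IsSolvable ↥X := hCy
  let a : X := ⟨x, mem_centralizer_singleton_iff.mpr hxy⟩
  have ha : orderOf a = p := by rw [← orderOf_coe]; exact hx
  have hw : (⟨z, hzy⟩ : X) ∈ Cfsg.centralizerPPrimeCore p a :=
    centralizerPPrimeCore_subgroupOf_le X a (mem_subgroupOf.2 hzx)
  set π := QuotientGroup.mk' (Cfsg.pPrimeCore p X)
  have h1 := map_centralizerPPrimeCore_le (isPGroup_zpowers ha) (mem_map_of_mem π hw)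
  have hπa : orderOf (π a) = p := by
    refine orderOf_eq_prime (by rw [← map_pow, orderOf_dvd_iff_pow_eq_one.mp (dvd_of_eq ha), map_one]) fun h => ?_
    have h' : a ∈ Cfsg.pPrimeCore p X := (QuotientGroup.eq_one_iff _).mp h
    have h2 : p.Coprime p :=
      (CfsgLib.PCore.pPrimeCore_coprime (G := X) (p := p)).coprime_dvd_left ((dvd_of_eq ha.symm).trans (Subgroup.orderOf_dvd_natCard _ h'))
    exact hp.out.ne_one (Nat.coprime_self p |>.1 h2)
  have h2 := centralizerPPrimeCore_le_centralizer_pCore hπa h1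
  have h3 := CfsgLib.PCore.centralizer_pCore_le
    (CfsgLib.PCore.isPSolvable_of_isSolvable (p := p)) CfsgLib.PCore.pPrimeCore_quotient_pPrimeCore h2
  obtain ⟨k, hk⟩ := IsPGroup.exists_card_eq (CfsgLib.PCore.pCore_isPGroup (p := p) (G := X ⧸ Cfsg.pPrimeCore p X))
  have h4 := coprime_orderOf_of_mem_centralizerCore (p := p) (centralizerPPrimeCore_eq (p := p) (π a) ▸ h1)
  have h5 : π ⟨z, hzy⟩ = 1 := orderOf_eq_one_iff.mp
    (Nat.eq_one_of_dvd_coprimes (h4.pow_right k) dvd_rfl (hk ▸ orderOf_dvd_natCard _ h3))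
  exact ⟨⟨z, hzy⟩, (QuotientGroup.eq_one_iff _).mp h5, rfl⟩
/-- Let `G` be a finite group, `p` a prime, and `x, y` commuting elements of order `p` whose centralizers `C_G(x)` and `C_G(y)` are both solvable. Then `O_{p'}(C_G(x)) ∩ C_G(y) = O_{p'}(C_G(y)) ∩ C_G(x)` (balance). -/
theorem result {G : Type*} [Group G] [Finite G]
    (p : ℕ) [Fact p.Prime] (x y : G) (hx : orderOf x = p) (hy : orderOf y = p) (hxy : x * y = y * x)
    (hCx : Group.IsSolvable ↥(Subgroup.centralizer ({x} : Set G))) (hCy : Group.IsSolvable ↥(Subgroup.centralizer ({y} : Set G))) :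
    Cfsg.centralizerPPrimeCore p x ⊓ Subgroup.centralizer {y} = Cfsg.centralizerPPrimeCore p y ⊓ Subgroup.centralizer {x} := by
  exact le_antisymm (inf_le x y hx hxy hCy) (inf_le y x hy hxy.symm hCx)

end Cfsg.Agent.S1958
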