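import Cfsg.Statements.S1966
import Cfsg.Agent.Lib.PCore.Basic


set_option autoImplicit false
open Cfsg

namespace Cfsg.Agent.S1966

/-- Let p be a prime, G a finite group with Sylow p-subgroup S and 𝓕 a conjugation family for S in G. Then the members of 𝓕 containing O_p(G) still form a conjugation family for S in G. -/
theorem result {G : Type*} [Group G] [Finite G] {p : ℕ} [Fact p.Prime] (S : Sylow p G) (𝓕 : Set (Subgroup G)) (h : Cfsg.IsConjugationFamily 𝓕 (S : Subgroup G)) : Cfsg.IsConjugationFamily {T : Subgroup G | T ∈ 𝓕 ∧ Cfsg.pCore p G ≤ T} (S : Subgroup G) := by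
  classical
  refine ⟨fun T hT => h.1 T hT.1, fun A g hA hAS hAg => ?_⟩
  set O := Cfsg.pCore p G with hOdef
  haveI hOn : O.Normal := Cfsg.pCore_normal p G
  have hOS : O ≤ (S : Subgroup G) := CfsgLib.PCore.pCore_le_sylow S
  have hAg' : (fun a => g⁻¹ * a * g) '' (A ∪ (O : Set G)) ⊆ (S : Subgroup G) := by
    rw [Set.image_union]
    refine Set.union_subset hAg ?_
    rintro _ ⟨a, ha, rfl⟩
    exact hOS (by simpa using hOn.conj_mem a ha g⁻¹)
  obtain ⟨n, T, x, hprod, hT, hx, h0, hstep⟩ :=
    h.2 (A ∪ (O : Set G)) g (hA.mono Set.subset_union_left) (Set.union_subset hAS hOS) hAg'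
  have hO : ∀ i : Fin n, O ≤ T i := by
    intro i a ha
    obtain ⟨k, hk⟩ := i
    rcases k with - | k
    · exact h0 hk (Or.inr ha)
    · have := hstep ⟨k, Nat.lt_of_succ_lt hk⟩ hk
      refine this ⟨((List.ofFn x).take (k + 1)).prod * a * (((List.ofFn x).take (k + 1)).prod)⁻¹,
        Or.inr (hOn.conj_mem a ha _), ?_⟩
      show _ * (_ * a * _) * _ = a
      group
  exact ⟨n, T, x, hprod, fun i => ⟨hT i, hO i⟩, hx,
    fun hn => Set.subset_union_left.trans (h0 hn),
    fun i hi => (Set.image_mono Set.subset_union_left).trans (hstep i hi)⟩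

end Cfsg.Agent.S1966
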