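import Cfsg.Statements.S1967


set_option autoImplicit false
open Cfsg

namespace Cfsg.Agent.S1967

/-- Let p be a prime, G a finite group with Sylow p-subgroup S and W a conjugacy functor for p on G. Then W controls strong fusion in G if and only if, whenever T ≤ S and g ∈ G satisfy gTg⁻¹ ≤ S, one can write g = n c with n ∈ N_G(W(S)) and c ∈ C_G(T). -/
theorem result {G : Type*} [Group G] [Finite G] {p : ℕ} [Fact p.Prime] (S : Sylow p G) (W : Subgroup G → Subgroup G) (hW : Cfsg.IsConjugacyFunctor p W) : Cfsg.ControlsStrongFusionIn p W ⊤ ↔ ∀ (T : Subgroup G) (g : G), T ≤ (S : Subgroup G) → T.map (MulAut.conj g).toMonoidHom ≤ (S : Subgroup G) → ∃ n ∈ Subgroup.normalizer ((W (S : Subgroup G) : Subgroup G) : Set G), ∃ c ∈ Subgroup.centralizer (T : Set G), g = n * c := by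
  classical
  constructor
  · rintro ⟨T0, -, hT0p, hidx, hctl⟩ T g hT hg
    obtain ⟨P0, hP0⟩ : ∃ P0 : Sylow p G, (P0 : Subgroup G) = T0 :=
      ⟨(hT0p).toSylow (by simpa [Subgroup.relIndex_top_right] using hidx), rfl⟩
    obtain ⟨u, hu⟩ := MulAction.exists_smul_eq G S P0
    have hST : (S : Subgroup G).map (MulAut.conj u).toMonoidHom = T0 := by
      rw [← hP0, ← hu, Sylow.coe_subgroup_smul, Subgroup.pointwise_smul_def]; rfl
    have hin : ∀ s ∈ (S : Subgroup G), u * s * u⁻¹ ∈ T0 := fun s hs => hST ▸ ⟨s, hs, rfl⟩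
    obtain ⟨x, hx, hxA⟩ := hctl ((fun t => u * t * u⁻¹) '' (T : Set G)) (u * g * u⁻¹)
      (Subgroup.mem_top _) (by rintro _ ⟨t, ht, rfl⟩; exact hin t (hT ht))
      (by
        rintro _ ⟨_, ⟨t, ht, rfl⟩, rfl⟩
        have : u * g * u⁻¹ * (u * t * u⁻¹) * (u * g * u⁻¹)⁻¹ = u * (g * t * g⁻¹) * u⁻¹ := by group
        simp only [this]
        exact hin _ (hg ⟨t, ht, rfl⟩))
    refine ⟨u⁻¹ * x * u, ?_, (u⁻¹ * x * u)⁻¹ * g, ?_, by group⟩
    · rw [Subgroup.mem_normalizer_iff_map_conj_eq]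
      have hWT : W T0 = (W (S : Subgroup G)).map (MulAut.conj u).toMonoidHom := by
        rw [← hST]; exact (hW _ S.2).2.2 u
      have h1 := Subgroup.mem_normalizer_iff_map_conj_eq.1 hx.2
      rw [hWT, Subgroup.map_map] at h1
      apply Subgroup.map_injective (f := (MulAut.conj u).toMonoidHom) (MulAut.conj u).injective
      rw [Subgroup.map_map]
      refine Eq.trans ?_ h1
      congr 1
      ext y
      simp [mul_assoc]
    · rw [Subgroup.mem_centralizer_iff]
      intro t ht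
      have h1 := hxA _ ⟨t, ht, rfl⟩
      have h2 : g * t * g⁻¹ = (u⁻¹ * x * u) * t * (u⁻¹ * x * u)⁻¹ := by
        calc g * t * g⁻¹ = u⁻¹ * (u * g * u⁻¹ * (u * t * u⁻¹) * (u * g * u⁻¹)⁻¹) * u := by group
          _ = u⁻¹ * (x * (u * t * u⁻¹) * x⁻¹) * u := by rw [h1]
          _ = _ := by group
      calc t * ((u⁻¹ * x * u)⁻¹ * g)
          = (u⁻¹ * x * u)⁻¹ * ((u⁻¹ * x * u) * t * (u⁻¹ * x * u)⁻¹) * g := by group
        _ = (u⁻¹ * x * u)⁻¹ * (g * t * g⁻¹) * g := by rw [h2]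
        _ = (u⁻¹ * x * u)⁻¹ * g * t := by group
  · intro h
    refine ⟨S, le_top, S.2, ?_, ?_⟩
    · rw [Subgroup.relIndex_top_right]; exact S.not_dvd_index
    · intro A g _ hA hg
      have hT : (Subgroup.closure A).map (MulAut.conj g).toMonoidHom ≤ (S : Subgroup G) := by
        rw [MonoidHom.map_closure, Subgroup.closure_le]; exact hg
      obtain ⟨n, hn, c, hc, rfl⟩ := h (Subgroup.closure A) g ((Subgroup.closure_le _).2 hA) hT
      refine ⟨n, ⟨Subgroup.mem_top n, hn⟩, fun a ha => ?_⟩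
      have := Subgroup.mem_centralizer_iff.1 hc a (Subgroup.subset_closure ha)
      calc n * a * n⁻¹ = n * (a * c) * c⁻¹ * n⁻¹ := by group
        _ = n * (c * a) * c⁻¹ * n⁻¹ := by rw [this]
        _ = n * c * a * (n * c)⁻¹ := by group

end Cfsg.Agent.S1967
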