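import Cfsg.Statements.S1970
import Cfsg.Agent.Lib.Techniques.Focal

set_option autoImplicit false
universe u
open Cfsg

namespace Cfsg.Agent.S1970

/-- Let p be a prime, G a finite group and W an isomorphism-invariant p-group functor (W assigns to every group Q a subgroup W(Q), nontrivial whenever Q is a nontrivial finite p-group, and every isomorphism from a finite p-group Q onto a group R carries W(Q) onto W(R)). Suppose that for every section G* = K/R of G with C_{G*}(O_p(G*)) ≤ O_p(G*) and every Sylow p-subgroup S* of G*, one has O_p(G*) ∩ (G*)' = O_p(G*) ∩ (N_{G*}(W(S*)))'. Then W controls transfer in every section G* of G: S* ∩ (G*)' = S* ∩ (N_{G*}(W(S*)))' for a Sylow p-subgroup S* of G*. -/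
theorem result {G : Type u} [Group G] [Finite G] {p : ℕ} [Fact p.Prime] (W : ∀ (Q : Type u) [Group Q], Subgroup Q) (hW : Cfsg.IsCharPFunctor.{u} p W) (hloc : ∀ (K R : Subgroup G) [hR : (R.subgroupOf K).Normal], Subgroup.centralizer ((Cfsg.pCore p (↥K ⧸ R.subgroupOf K) : Subgroup (↥K ⧸ R.subgroupOf K)) : Set (↥K ⧸ R.subgroupOf K)) ≤ Cfsg.pCore p (↥K ⧸ R.subgroupOf K) → ∀ T : Sylow p (↥K ⧸ R.subgroupOf K), Cfsg.pCore p (↥K ⧸ R.subgroupOf K) ⊓ commutator (↥K ⧸ R.subgroupOf K) = Cfsg.pCore p (↥K ⧸ R.subgroupOf K) ⊓ ⁅Subgroup.normalizer ((Cfsg.inducedFunctor (G := (↥K ⧸ R.subgroupOf K)) W ((T : Subgroup (↥K ⧸ R.subgroupOf K))) : Subgroup (↥K ⧸ R.subgroupOf K)) : Set (↥K ⧸ R.subgroupOf K)), Subgroup.normalizer ((Cfsg.inducedFunctor (G := (↥K ⧸ R.subgroupOf K)) W ((T : Subgroup (↥K ⧸ R.subgroupOf K))) : Subgroup (↥K ⧸ R.subgroupOf K)) : Set (↥K ⧸ R.subgroupOf K))⁆) : ∀ (K R : Subgroup G) [hR : (R.subgroupOf K).Normal], Cfsg.ControlsTransferIn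 p (Cfsg.inducedFunctor (G := (↥K ⧸ R.subgroupOf K)) W) ⊤ := by
  intro K R hR
  have h𝓦 : ∀ V ∈ ({W} : Set (∀ (Q : Type u) [Group Q], Subgroup Q)), Cfsg.IsCharPFunctor.{u} p V :=
    fun V hV => by obtain rfl := hV; exact hW
  refine CfsgLib.Techniques.Fusion.controlsTransferIn_of_transCtrl
    (CfsgLib.Techniques.Fusion.transCtrl_of_constrained (G := G) h𝓦 (fun X _ _ hX hc hind => ?_) _
      (CfsgLib.Techniques.Fusion.IsSectionOf.quotient K R))
  obtain ⟨K', R', hn, ⟨e⟩⟩ := hX.exists_quotient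
  refine CfsgLib.Techniques.Fusion.transCtrl_of_mulEquiv h𝓦 e
    (CfsgLib.Techniques.Fusion.transCtrl_of_core h𝓦
      (CfsgLib.Techniques.Fusion.constrained_of_mulEquiv e.symm hc) ?_ ?_)
  · intro Y _ _ hY hlt
    exact hind Y (hY.trans (CfsgLib.Techniques.Fusion.IsSectionOf.of_surjective e.symm.toMonoidHom
      e.symm.surjective)) (by rwa [← Nat.card_congr e.toEquiv])
  · intro S
    rw [hloc K' R' (CfsgLib.Techniques.Fusion.constrained_of_mulEquiv e.symm hc) S]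
    exact le_iSup₂_of_le _ ⟨W, rfl, rfl⟩
      (inf_le_inf_right _ (CfsgLib.PCore.pCore_le_sylow S))

end Cfsg.Agent.S1970
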