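import Cfsg.Statements.S1972
import Cfsg.Agent.Lib.Techniques.Failure
import Cfsg.Agent.Lib.Techniques.ChiefMap

set_option autoImplicit false
universe u
open Cfsg

namespace Cfsg.Agent.S1972

open CfsgLib.Techniques.Fusion Subgroup

variable {p : ℕ} [Fact p.Prime] {W : ∀ (Q : Type u) [Group Q], Subgroup Q}

/-- The hypothesis on a single group. -/
def Engel (p : ℕ) (W : ∀ (Q : Type u) [Group Q], Subgroup Q) (X : Type u) [Group X] : Prop :=
  centralizer (pCore p X : Set X) ≤ pCore p X → ∀ T : Sylow p X,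
    ¬ (inducedFunctor (G := X) W (T : Subgroup X)).Normal →
    ∃ g : X, g ∈ (T : Subgroup X) ∧ g ∉ pCore p X ∧ ∀ U V : Subgroup X, IsChiefFactor U V →
      U ≤ pCore p X → iterCommutator U (zpowers g) (p - 1) ≤ V

theorem engel_of_mulEquiv (hW : IsCharPFunctor.{u} p W) {X Y : Type u} [Group X] [Finite X] [Group Y]
    [Finite Y] (e : X ≃* Y) (h : Engel p W X) : Engel p W Y := by
  intro hc T hT
  let T₀ : Sylow p X := T.mapSurjective (f := e.symm.toMonoidHom) e.symm.surjective
  have hback : ∀ K : Subgroup Y, (K.map e.symm.toMonoidHom).map e.toMonoidHom = K := fun K => by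
    rw [Subgroup.map_map]
    conv_rhs => rw [← K.map_id]
    congr 1; ext; simp
  have hT₀ : (T₀ : Subgroup X).map e.toMonoidHom = (T : Subgroup Y) := hback _
  have hP : (pCore p X).map e.toMonoidHom = pCore p Y := CfsgLib.PCore.map_pCore_equiv (p := p) e
  obtain ⟨g, hgT, hgP, hg⟩ := h (constrained_of_mulEquiv e.symm hc) T₀ fun hn => hT (by
    rw [← hT₀, inducedFunctor_map_injective hW _ e.injective T₀.2]
    exact hn.map _ e.surjective)
  refine ⟨e g, hT₀ ▸ mem_map_of_mem _ hgT, fun hgY => hgP ?_, fun U V hUV hUP => ?_⟩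
  · rw [← hP] at hgY
    obtain ⟨a, ha, hag⟩ := hgY
    rwa [← e.injective hag]
  · have hUP' : U.map e.symm.toMonoidHom ≤ pCore p X := by
      rw [← CfsgLib.PCore.map_pCore_equiv (p := p) e.symm]; exact map_mono hUP
    have h1 := map_mono (f := e.toMonoidHom) (hg _ _ (isChiefFactor_map_equiv e.symm hUV) hUP')
    rw [iterCommutator_map, hback, hback, MonoidHom.map_zpowers] at h1
    exact h1

theorem transCtrl_of_engel (W : ∀ (Q : Type u) [Group Q], Subgroup Q) (hW : IsCharPFunctor.{u} p W)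
    {G : Type u} [Group G] [Finite G]
    (h : ∀ (X : Type u) [Group X] [Finite X], IsSectionOf X G → Engel p W X)
    (X : Type u) [Group X] [Finite X] (hX : IsSectionOf X G) : TransCtrl p {W} X := by
  have h𝓦 : ∀ V ∈ ({W} : Set (∀ (Q : Type u) [Group Q], Subgroup Q)), IsCharPFunctor.{u} p V :=
    fun V hV => by obtain rfl := hV; exact hW
  refine transCtrl_of_constrained h𝓦 (fun X _ _ hX hc hind => ?_) X hX
  by_contra hnot
  obtain ⟨S⟩ : Nonempty (Sylow p X) := inferInstance
  have hmf := isMinimalFailure_of_not_transCtrl h𝓦 (Set.singleton_nonempty W) hind hnot S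
  obtain ⟨u, huS, huP, hu⟩ := h X hX hc S fun hn => hnot (transCtrl_of_sylow h𝓦 S (by
    refine le_iSup₂_of_le _ ⟨W, rfl, rfl⟩ (inf_le_inf_left _ ?_)
    show _root_.commutator X ≤ ⁅normalizer _, normalizer _⁆
    rw [normalizer_eq_top_iff.2 hn, _root_.commutator_def]))
  obtain ⟨U, V, hUV, hUP, hnle⟩ := hmf.exists_chiefFactor huS huP
  exact hnle (hu U V hUV hUP)

/-- Let p be a prime, G a finite group and W an isomorphism-invariant p-group functor (W assigns to every group Q a subgroup W(Q), nontrivial whenever Q is a nontrivial finite p-group, and every isomorphism from a finite p-group Q onto a group R carries W(Q) onto W(R)). Suppose that whenever G* = K/R is a section of G with C_{G*}(O_p(G*)) ≤ O_p(G*) and S* is a Sylow p-subgroup of G* with W(S*) not normal in G*, there is an element g of S* outside O_p(G*) such that [X, g, …, g] ≤ Y with p − 1 entries g, for every chief factor X/Y of G* with X ≤ O_p(G*). Then W controls transfer in every section of G. -/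
theorem result {G : Type u} [Group G] [Finite G] {p : ℕ} [Fact p.Prime] (W : ∀ (Q : Type u) [Group Q], Subgroup Q) (hW : Cfsg.IsCharPFunctor.{u} p W) (hloc : ∀ (K R : Subgroup G) [hR : (R.subgroupOf K).Normal], Subgroup.centralizer ((Cfsg.pCore p (↥K ⧸ R.subgroupOf K) : Subgroup (↥K ⧸ R.subgroupOf K)) : Set (↥K ⧸ R.subgroupOf K)) ≤ Cfsg.pCore p (↥K ⧸ R.subgroupOf K) → ∀ T : Sylow p (↥K ⧸ R.subgroupOf K), ¬ (Cfsg.inducedFunctor (G := (↥K ⧸ R.subgroupOf K)) W ((T : Subgroup (↥K ⧸ R.subgroupOf K)))).Normal → ∃ g : (↥K ⧸ R.subgroupOf K), g ∈ (T : Subgroup (↥K ⧸ R.subgroupOf K)) ∧ g ∉ Cfsg.pCore p (↥K ⧸ R.subgroupOf K) ∧ ∀ U V : Subgroup (↥K ⧸ R.subgroupOf K), Cfsg.IsChiefFactor U V → U ≤ Cfsg.pCore p (↥K ⧸ R.subgroupOf K) → Cfsg.iterCommutator U (Subgroup.zpowers g) (p - 1) ≤ V) : ∀ (K R : Subgroup G) [hR : (R.subgroupOf K).Normal], Cfsg.ControlsTransferIn p (Cfsg.inducedFunctor (G := (↥K ⧸ R.subgroupOf K)) W) ⊤ := by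
  intro K R hR
  refine CfsgLib.Techniques.Fusion.controlsTransferIn_of_transCtrl
    (transCtrl_of_engel W hW (fun X _ _ hX => ?_) _ (CfsgLib.Techniques.Fusion.IsSectionOf.quotient K R))
  obtain ⟨K', R', hn, ⟨e⟩⟩ := hX.exists_quotient
  exact engel_of_mulEquiv hW e fun hc T => hloc K' R' hc T

end Cfsg.Agent.S1972
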