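import Cfsg.Statements.S1985
import Cfsg.Agent.Lib.Techniques.KInfLocal
import Cfsg.Agent.Lib.Techniques.WeakClosureElem
import Cfsg.Agent.Lib.Techniques.CriticalFilter

set_option autoImplicit false
universe u
open Cfsg

namespace Cfsg.Agent.S1985

/-- Let p be an odd prime and G a finite group. Then the lower K-infinity subgroup controls weak closure of elements in G: the lower K-infinity subgroup of every p-subgroup P of G contains Z(P), and for some (equivalently, every) Sylow p-subgroup S of G, with K the lower K-infinity subgroup of S, every element of S commuting with all of N_G(K) is weakly closed in S with respect to G (every G-conjugate of it lying in S equals it). -/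
theorem result {G : Type u} [Group G] [Finite G] {p : ℕ} [Fact p.Prime] (hp : p ≠ 2) : Cfsg.ControlsWeakClosureOfElementsIn p (Cfsg.inducedFunctor (G := G) Cfsg.kInfLower) ⊤ := by
  refine CfsgLib.Techniques.Fusion.controlsWeakClosureOfElementsIn_of_local
    (CfsgLib.Techniques.Fusion.isConjugacyFunctor_inducedFunctor
      CfsgLib.Techniques.KInf.isCharPFunctor_kInfLower)
    (fun P hP => CfsgLib.Techniques.KInf.inf_centralizer_le_inducedFunctor_kInfLower hP)
    (fun H T h1 h2 h3 h4 => ?_) ⊤
  obtain ⟨g, hgT, hgP, hq⟩ := CfsgLib.Techniques.KInf.exists_quadratic_local H T h1 h2 h3 h4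
  refine ⟨g, hgT, hgP, fun U V _ hU => le_trans ?_ bot_le⟩
  have h5 := CfsgLib.Techniques.KInf.iterCommutator_le_normal (G := G) (W := U.map H.subtype)
    (B := Subgroup.zpowers g) (V := ⊥) inferInstance (i := 2)
    ((CfsgLib.Techniques.Fusion.iterCommutator_mono hU le_rfl 2).trans hq.le) (p - 1 - 2)
  have h2p := (Fact.out : p.Prime).two_le
  rwa [show 2 + (p - 1 - 2) = p - 1 by omega] at h5

end Cfsg.Agent.S1985
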