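import Cfsg.Statements.S2007
import Cfsg.Agent.Lib.Transfer.NormalComplement
import Cfsg.Agent.Lib.Techniques.Basic

set_option autoImplicit false
open Cfsg

namespace Cfsg.Agent.S2007

/-- Let p be a prime, G a finite group with Sylow p-subgroup S, and T a normal subgroup of S containing C_S(T). If N_G(T)/C_G(T) is a p-group (every element of N_G(T) of order prime to p centralizes T), then N_G(T) has a normal p-complement. -/
theorem result {G : Type*} [Group G] [Finite G] {p : ℕ} [Fact p.Prime] (S : Sylow p G) (T : Subgroup G) (hTS : T ≤ (S : Subgroup G)) (hTn : (S : Subgroup G) ≤ Subgroup.normalizer ((T : Subgroup G) : Set G)) (hC : (S : Subgroup G) ⊓ Subgroup.centralizer ((T : Subgroup G) : Set G) ≤ T) (hN : ∀ g ∈ Subgroup.normalizer ((T : Subgroup G) : Set G), (orderOf g).Coprime p → g ∈ Subgroup.centralizer ((T : Subgroup G) : Set G)) : Cfsg.HasNormalPComplement p ↥(Subgroup.normalizer ((T : Subgroup G) : Set G)) := by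
  set N := Subgroup.normalizer ((T : Subgroup G) : Set G) with hNdef
  set C := (Subgroup.centralizer ((T : Subgroup G) : Set G)).subgroupOf N with hCdef
  -- the `p`-elements of the centraliser lie in `T`
  have hpel : ∀ x : G, x ∈ Subgroup.centralizer ((T : Subgroup G) : Set G) →
      IsPGroup p (Subgroup.zpowers x) → x ∈ T := by
    intro x hx hp
    obtain ⟨n, hn, hle⟩ := CfsgLib.Techniques.exists_conj_le_sylow_of
      (X := N) (A := Subgroup.zpowers x) (S := (S : Subgroup G))
      (Subgroup.zpowers_le.2 (Set.mem_of_mem_of_subset hx (fun _ h => Subgroup.centralizer_le_normalizer _ h))) hp hTn S.2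
      (CfsgLib.Techniques.not_dvd_relIndex_sylow S hTn)
    have h1 : n * x * n⁻¹ ∈ (S : Subgroup G) :=
      hle (CfsgLib.Techniques.conj_mem_map_conj n (Subgroup.mem_zpowers x))
    have h2 : n * x * n⁻¹ ∈ T :=
      hC (Subgroup.mem_inf.2 ⟨h1, CfsgLib.Techniques.centralizer_conj_mem hn hx⟩)
    exact (Subgroup.mem_normalizer_iff.1 hn x).2 h2
  refine CfsgLib.Transfer.hasNormalPComplement_of_le C
    (CfsgLib.Transfer.pResidual_le_iff.2 fun x hx =>
      Subgroup.mem_subgroupOf.2 (hN x x.2 (by rwa [Subgroup.orderOf_coe]))) ?_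
  obtain ⟨Q⟩ : Nonempty (Sylow p C) := inferInstance
  refine CfsgLib.Transfer.hasNormalPComplement_of_normalizer_le Q ?_
  intro c _
  rw [Subgroup.mem_centralizer_iff]
  intro z hz
  have hzT : ((z : N) : G) ∈ T := by
    refine hpel _ (Subgroup.mem_subgroupOf.1 z.2) ?_
    obtain ⟨k, hk⟩ := IsPGroup.iff_orderOf.1 Q.2 ⟨z, hz⟩
    refine IsPGroup.of_card (n := k) ?_
    rw [Nat.card_zpowers, Subgroup.orderOf_coe, Subgroup.orderOf_coe]
    rwa [Subgroup.orderOf_mk] at hk
  refine Subtype.ext (Subtype.ext ?_)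
  exact Subgroup.mem_centralizer_iff.1 (Subgroup.mem_subgroupOf.1 c.2) _ hzT

end Cfsg.Agent.S2007
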