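import Cfsg.Statements.S1988
import Cfsg.Agent.Lib.Techniques.KInfComplement
import Cfsg.Agent.S2007

set_option autoImplicit false
universe u
open Cfsg

namespace Cfsg.Agent.S1988

/-- Let p be an odd prime, G a finite group with Sylow p-subgroup S and K the lower K-infinity subgroup of S. If N_G(K) has a normal p-complement, or if N_G(K)/C_G(K) is a p-group (every element of N_G(K) of order prime to p centralizes K), then G has a normal p-complement. -/
theorem result {G : Type u} [Group G] [Finite G] {p : ℕ} [Fact p.Prime] (hp : p ≠ 2) (S : Sylow p G) (h : Cfsg.HasNormalPComplement p ↥(Subgroup.normalizer ((Cfsg.inducedFunctor Cfsg.kInfLower (S : Subgroup G) : Subgroup G) : Set G)) ∨ ∀ g ∈ Subgroup.normalizer ((Cfsg.inducedFunctor Cfsg.kInfLower (S : Subgroup G) : Subgroup G) : Set G), (orderOf g).Coprime p → g ∈ Subgroup.centralizer ((Cfsg.inducedFunctor Cfsg.kInfLower (S : Subgroup G) : Subgroup G) : Set G)) : Cfsg.HasNormalPComplement p G := by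
  classical
  set T := Cfsg.inducedFunctor Cfsg.kInfLower (S : Subgroup G) with hT
  have hN : Cfsg.HasNormalPComplement p ↥(Subgroup.normalizer (T : Set G)) := by
    rcases h with h | h
    · exact h
    · refine Cfsg.Agent.S2007.result S T (CfsgLib.Techniques.Fusion.inducedFunctor_le _ _)
        (Subgroup.le_normalizer.trans (CfsgLib.Techniques.Fusion.normalizer_le_normalizer_inducedFunctor
          CfsgLib.Techniques.KInf.isCharPFunctor_kInfLower S.2)) ?_ h
      intro x hx
      obtain ⟨hxS, hxC⟩ := Subgroup.mem_inf.1 hx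
      refine ⟨⟨x, hxS⟩, CfsgLib.Techniques.KInf.centralizer_kInfLower_le S.2
        (Subgroup.mem_centralizer_iff.2 fun k hk => Subtype.ext ?_), rfl⟩
      exact Subgroup.mem_centralizer_iff.1 hxC k ⟨k, hk, rfl⟩
  refine (CfsgLib.Techniques.KInf.isZFunctor_kInfLower hp).hasNormalPComplement S ?_
  show Cfsg.HasNormalPComplement p ↥(Subgroup.normalizer ((if IsPGroup p ↥(S : Subgroup G) then T else ⊥ : Subgroup G) : Set G))
  rwa [if_pos S.2]

end Cfsg.Agent.S1988
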