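import Cfsg.Statements.S1989
import Cfsg.Agent.Lib.Techniques.QdStable
import Cfsg.Agent.Lib.Techniques.QdWitness
import Cfsg.Agent.Lib.Techniques.KInfControl

set_option autoImplicit false
universe u
open Cfsg

namespace Cfsg.Agent.S1989

open scoped commutatorElement

open Subgroup in
theorem kInfLower_eq_top {P : Type u} [Group P] (h : ∀ a b c : P, Commute ⁅a, b⁆ c) :
    Cfsg.kInfLower P = ⊤ := by
  have hcl : (⊤ : Subgroup P) ∈ Cfsg.classTwoSubgroups P :=
    CfsgLib.Techniques.KInf.mem_classTwo.2 (commutator_le.2 fun a _ b _ =>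
      mem_centralizer_iff.2 fun c _ => (h a b c).symm.eq)
  refine top_le_iff.1 (le_trans ?_ (CfsgLib.Techniques.KInf.kSeqEven_le_kInfLower 0))
  refine le_sSup ⟨hcl, by rw [normalizer_eq_top]; exact le_top, fun A _ _ _ _ _ => ?_⟩
  rw [top_inf_eq]
  exact (commutator_mono le_rfl le_top).trans hcl

open Subgroup in
theorem not_controls {X : Type u} [Group X] [Finite X] {p : ℕ} [Fact p.Prime] (T : Sylow p X) {z g : X}
    (hcl : ⁅(T : Subgroup X), (T : Subgroup X)⁆ ≤ centralizer ((T : Subgroup X) : Set X))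
    (hz : z ∈ (T : Subgroup X)) (hzC : z ∈ centralizer ((T : Subgroup X) : Set X))
    (hgz : g * z * g⁻¹ ∈ (T : Subgroup X))
    (hgzC : g * z * g⁻¹ ∉ centralizer ((T : Subgroup X) : Set X)) :
    ¬ Cfsg.ControlsStrongFusion p (Cfsg.inducedFunctor (G := X) Cfsg.kInfLower (T : Subgroup X)) := by
  have hU : Cfsg.inducedFunctor (G := X) Cfsg.kInfLower (T : Subgroup X) = (T : Subgroup X) := by
    show (Cfsg.kInfLower ↥(T : Subgroup X)).map (T : Subgroup X).subtype = _
    rw [kInfLower_eq_top (fun a b c => Subtype.ext ?_), ← MonoidHom.range_eq_map, range_subtype]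
    exact (mem_centralizer_iff.1 (hcl (commutator_mem_commutator a.2 b.2)) c c.2).symm
  rw [hU]
  rintro ⟨T', hTT', hA⟩
  have hT' : (T' : Subgroup X) = T := T.3 T'.2 hTT'
  obtain ⟨x, hx, hxz⟩ := (hA {z} (by rw [hT']; exact Set.singleton_subset_iff.2 hz)).2 g (by
    rw [Set.image_singleton, Set.singleton_subset_iff, hT']; exact hgz)
  exact hgzC (hxz z rfl ▸ CfsgLib.Techniques.centralizer_conj_mem hx hzC)

/-- Let p be an odd prime and G a finite group. Then Qd(p) (the natural semidirect product of an elementary abelian group of order p² by SL₂(p)) is not involved in G if and only if, in every section K/R of G and for every Sylow p-subgroup T of K/R, the lower K-infinity subgroup of T controls strong fusion in K/R. -/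
theorem result {G : Type u} [Group G] [Finite G] {p : ℕ} [Fact p.Prime] (hp : p ≠ 2) : ¬ Cfsg.Involves ↥(Cfsg.qd p) G ↔ ∀ (K R : Subgroup G) [hR : (R.subgroupOf K).Normal], ∀ T : Sylow p (↥K ⧸ R.subgroupOf K), Cfsg.ControlsStrongFusion p (Cfsg.inducedFunctor (G := (↥K ⧸ R.subgroupOf K)) Cfsg.kInfLower (T : Subgroup (↥K ⧸ R.subgroupOf K))) := by
  constructor
  · intro h K R hR T
    exact CfsgLib.Techniques.Fusion.controlsStrongFusion_of_fusCtrl
      (CfsgLib.Techniques.KInf.IsKInf.fusCtrl (W := @Cfsg.kInfLower.{u}) (Or.inl rfl)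
        (fun K' R' _ => CfsgLib.Techniques.KInf.isNormalizerPStable_sections_of_not_involves_qd hp h K' R')
        _ (CfsgLib.Techniques.Fusion.IsSectionOf.quotient K R)) T
  · rintro h ⟨K, R, hR, ⟨e⟩⟩
    obtain ⟨T₀, z₀, g₀, hcl, hz, hzC, hgz, hgzC⟩ := CfsgLib.Techniques.QdWitness.exists_witness (p := p)
    let T : Sylow p (↥K ⧸ R.subgroupOf K) := T₀.mapSurjective (f := e.symm.toMonoidHom) e.symm.surjective
    have hmem : ∀ x, x ∈ (T : Subgroup (↥K ⧸ R.subgroupOf K)) ↔ e x ∈ (T₀ : Subgroup ↥(Cfsg.qd p)) := by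
      intro x
      constructor
      · rintro ⟨y, hy, rfl⟩
        show e (e.symm y) ∈ (T₀ : Subgroup ↥(Cfsg.qd p))
        rw [e.apply_symm_apply]
        exact hy
      · exact fun hx => ⟨e x, hx, by simp⟩
    have hcent : ∀ x, x ∈ Subgroup.centralizer ((T : Subgroup (↥K ⧸ R.subgroupOf K)) : Set _) ↔
        e x ∈ Subgroup.centralizer ((T₀ : Subgroup ↥(Cfsg.qd p)) : Set _) := by
      intro x
      rw [Subgroup.mem_centralizer_iff, Subgroup.mem_centralizer_iff]
      constructor
      · intro hx y hy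
        have := congrArg e (hx (e.symm y) ((hmem _).2 (by rw [e.apply_symm_apply]; exact hy)))
        simpa using this
      · intro hx y hy
        apply e.injective
        rw [map_mul, map_mul]
        exact hx (e y) ((hmem _).1 hy)
    exact not_controls T (z := e.symm z₀) (g := e.symm g₀)
      (Subgroup.commutator_le.2 fun a ha b hb => (hcent _).2 (by
        rw [map_commutatorElement]
        exact hcl (Subgroup.commutator_mem_commutator ((hmem a).1 ha) ((hmem b).1 hb))))
      ((hmem _).2 (by simpa using hz)) ((hcent _).2 (by simpa using hzC))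
      ((hmem _).2 (by simpa using hgz)) (fun hc => hgzC (by simpa using (hcent _).1 hc))
      (h K R T)

end Cfsg.Agent.S1989
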