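import Cfsg.Statements.S1990
import Cfsg.Agent.Lib.Techniques.AbelianStable
import Cfsg.Agent.Lib.Frobenius.SectionFunctorNPC

set_option autoImplicit false
universe u
open Cfsg

namespace Cfsg.Agent.S1990

/-- Let p be an odd prime, G a finite group with Sylow p-subgroup S, and W an isomorphism-invariant p-group functor (W assigns to every group Q a subgroup W(Q), nontrivial whenever Q is a nontrivial finite p-group, and every isomorphism from a finite p-group Q onto a group R carries W(Q) onto W(R)). Suppose N_G(W(S)) has a normal p-complement, and W(T) controls strong fusion in every section G* = K/R of G all of whose sections are p-stable in the normalizer form, for every Sylow p-subgroup T of G*. Then G has a normal p-complement. -/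
theorem result {G : Type u} [Group G] [Finite G] {p : ℕ} [Fact p.Prime] (hp : p ≠ 2) (W : ∀ (Q : Type u) [Group Q], Subgroup Q) (hW : Cfsg.IsCharPFunctor.{u} p W) (S : Sylow p G) (hN : Cfsg.HasNormalPComplement p ↥(Subgroup.normalizer ((Cfsg.inducedFunctor (G := G) W (S : Subgroup G) : Subgroup G) : Set G))) (hctl : ∀ (K R : Subgroup G) [hR : (R.subgroupOf K).Normal], (∀ (K' R' : Subgroup (↥K ⧸ R.subgroupOf K)) [hR' : (R'.subgroupOf K').Normal], Cfsg.IsNormalizerPStable p (↥K' ⧸ R'.subgroupOf K')) → ∀ T : Sylow p (↥K ⧸ R.subgroupOf K), Cfsg.ControlsStrongFusion p (Cfsg.inducedFunctor (G := (↥K ⧸ R.subgroupOf K)) W (T : Subgroup (↥K ⧸ R.subgroupOf K)))) : Cfsg.HasNormalPComplement p G := by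
  refine CfsgLib.Frobenius.SectionNPC.hasNormalPComplement_of_reduced W hW S hN
    fun K R _ T M hred => ?_
  obtain ⟨hMn, hOM, hab, hidx, hq, hc, hmax⟩ := hred
  have hOn := Cfsg.pCore_normal p (↥K ⧸ R.subgroupOf K)
  have hmid : CfsgLib.Techniques.KInf.HasAbelianMiddle p (↥K ⧸ R.subgroupOf K) :=
    ⟨Cfsg.pCore p _, M, hOn, hMn, CfsgLib.PCore.pCore_isPGroup, hab,
      fun m hm => ⟨(Cfsg.pCore p (↥K ⧸ R.subgroupOf K)).relIndex M, hidx,
        Subgroup.mem_subgroupOf.1 (Subgroup.pow_index_mem ((Cfsg.pCore p _).subgroupOf M) ⟨m, hm⟩)⟩, hq⟩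
  obtain ⟨T', hUT', hA⟩ := hctl K R
    (fun K' R' _ => hmid.isNormalizerPStable_sections hp K' R') T
  set U := Cfsg.inducedFunctor (G := (↥K ⧸ R.subgroupOf K)) W (T : Subgroup (↥K ⧸ R.subgroupOf K))
    with hU
  by_contra hn
  have hTN : (T : Subgroup (↥K ⧸ R.subgroupOf K)) ≤ Subgroup.normalizer (U : Set _) :=
    Subgroup.le_normalizer.trans
      (CfsgLib.Techniques.Fusion.normalizer_le_normalizer_inducedFunctor hW T.2)
  have hTtop : (T : Subgroup (↥K ⧸ R.subgroupOf K)) ≠ ⊤ := fun h =>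
    hn (Subgroup.normalizer_eq_top_iff.1 (top_le_iff.1 (h ▸ hTN)))
  have hNT : Subgroup.normalizer (U : Set _) = (T : Subgroup (↥K ⧸ R.subgroupOf K)) :=
    ((hmax hTtop).le_iff.1 hTN).resolve_left fun h => hn (Subgroup.normalizer_eq_top_iff.1 h)
  have hTT' : (T' : Subgroup (↥K ⧸ R.subgroupOf K)) = T := by
    refine (T'.3 T.2 (fun g hg => ?_)).symm
    obtain ⟨k, hk, hkeq⟩ := (hA (T' : Subgroup (↥K ⧸ R.subgroupOf K)) le_rfl).2 g (by
      rintro _ ⟨a, ha, rfl⟩
      exact mul_mem (mul_mem hg ha) (inv_mem hg))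
    rw [hNT] at hk
    have h1 : k⁻¹ * g ∈ (T : Subgroup (↥K ⧸ R.subgroupOf K)) := by
      refine CfsgLib.PCore.pCore_le_sylow T (hc (Subgroup.mem_centralizer_iff.2 fun a ha => ?_))
      have h2 := hkeq a (CfsgLib.PCore.pCore_le_sylow T' ha)
      calc a * (k⁻¹ * g) = k⁻¹ * (k * a * k⁻¹) * g := by group
        _ = k⁻¹ * g * a := by rw [← h2]; group
    simpa using mul_mem hk h1
  have hfr : CfsgLib.Transfer.FrobeniusCond p (↥K ⧸ R.subgroupOf K) := by
    refine CfsgLib.Transfer.frobeniusCond_of_controls T fun x hx g hg => ?_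
    obtain ⟨k, hk, hkeq⟩ := (hA {x} (by rw [hTT']; exact Set.singleton_subset_iff.2 hx)).2 g (by
      rw [Set.image_singleton, Set.singleton_subset_iff, hTT']; exact hg)
    exact ⟨k, hNT ▸ hk, (hkeq x rfl).symm⟩
  have hnpc := CfsgLib.Transfer.hasNormalPComplement_of_frobeniusCond hfr
  have hres : Cfsg.pResidual p (↥K ⧸ R.subgroupOf K) = ⊥ := by
    have hd := CfsgLib.Transfer.hasNormalPComplement_iff.1 hnpc
    have hle : Cfsg.pResidual p (↥K ⧸ R.subgroupOf K) ≤ Cfsg.pPrimeCore p _ :=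
      CfsgLib.PCore.le_pPrimeCore_of_not_dvd CfsgLib.Transfer.pResidual_normal hd
    refine CfsgLib.PCore.eq_bot_of_isPGroup_coprime
      (CfsgLib.PCore.pCore_isPGroup.to_le
        (hle.trans ((CfsgLib.PCore.pPrimeCore_le_centralizer_pCore).trans hc)))
      (CfsgLib.PCore.coprime_of_not_dvd_card hd)
  have hp' : IsPGroup p (⊤ : Subgroup (↥K ⧸ R.subgroupOf K)) := by
    intro x
    obtain ⟨k, hk⟩ := CfsgLib.Transfer.exists_pow_mem_pResidual (p := p) (x : ↥K ⧸ R.subgroupOf K)
    rw [hres, Subgroup.mem_bot] at hk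
    exact ⟨k, Subtype.ext hk⟩
  exact hTtop (T.3 hp' le_top).symm

end Cfsg.Agent.S1990
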