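import Cfsg.Statements.S1992
import Cfsg.Agent.S1991
import Cfsg.Agent.Lib.Characters.Burnside

set_option autoImplicit false
open Cfsg

namespace Cfsg.Agent.S1992

/-- Let G be a finite group in which, for every prime q dividing the order of G, every Sylow q-subgroup is its own normalizer. Then the order of G is a power of a single prime (G is a q-group for some prime q; for G trivial any prime works). -/
theorem result {G : Type*} [Group G] [Finite G] (h : ∀ q : ℕ, q.Prime → q ∣ Nat.card G → ∀ Q : Sylow q G, Subgroup.normalizer ((Q : Subgroup G) : Set G) = Q) : ∃ q : ℕ, q.Prime ∧ IsPGroup q G := by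
  classical
  rcases Nat.eq_zero_or_pos (Nat.card G - 1) with hc | hc
  · refine ⟨2, Nat.prime_two, IsPGroup.of_card (n := 0) ?_⟩
    have := Nat.card_pos (α := G)
    rw [pow_zero]; omega
  have hne : Nat.card G ≠ 1 := by omega
  obtain ⟨N, p, hp, hN, hi⟩ : ∃ (N : Subgroup G) (p : ℕ), p.Prime ∧ N.Normal ∧ N.index = p := by
    by_cases h5 : ∃ p : ℕ, p.Prime ∧ 5 ≤ p ∧ p ∣ Nat.card G
    · obtain ⟨p, hp, hp5, hd⟩ := h5
      haveI := Fact.mk hp
      obtain ⟨S⟩ : Nonempty (Sylow p G) := inferInstance
      obtain ⟨N, hN, hi⟩ := Cfsg.Agent.S1991.result hp5 S (S.ne_bot_of_dvd_card hd) fun g hg hgc => by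
        rw [h p hp hd S] at hg
        have hg1 : g = 1 := by
          obtain ⟨k, hk⟩ := S.2 ⟨g, hg⟩
          have h1 : g ^ p ^ k = 1 := congrArg Subtype.val hk
          exact orderOf_eq_one_iff.1
            (Nat.eq_one_of_dvd_coprimes (hgc.pow_right k) dvd_rfl (orderOf_dvd_of_pow_eq_one h1))
        rw [hg1]
        exact one_mem _
      exact ⟨N, p, hp, hN, hi⟩
    · push Not at h5
      have hsol : Group.IsSolvable G := by
        refine CfsgLib.Burnside.isSolvable_of_card_eq Nat.prime_two Nat.prime_three
          ((Nat.card G).factorization 2) ((Nat.card G).factorization 3) ?_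
        have hsub : (Nat.card G).primeFactors ⊆ {2, 3} := by
          intro q hq
          rw [Nat.mem_primeFactors] at hq
          have := h5 q hq.1
          have h2 := hq.1.two_le
          have : ¬ 5 ≤ q := fun h => this h hq.2.1
          have h4 : q ≠ 4 := fun e => by rw [e] at hq; exact absurd hq.1 (by decide)
          simp only [Finset.mem_insert, Finset.mem_singleton]
          omega
        conv_lhs => rw [← Nat.prod_factorization_pow_eq_self (Nat.card_pos (α := G)).ne']
        rw [Finsupp.prod_of_support_subset _ (s := ({2, 3} : Finset ℕ))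
          (by rwa [Nat.support_factorization]) _ (fun _ _ => pow_zero _)]
        simp
      have : Nontrivial G := Finite.one_lt_card_iff_nontrivial.1 (by omega)
      have hlt := Group.IsSolvable.commutator_lt_top_of_nontrivial G
      obtain ⟨p, hp, hd⟩ := Nat.exists_prime_and_dvd (n := Nat.card (Abelianization G)) (fun e => by
        exact hlt.ne (Subgroup.index_eq_one.1 e))
      haveI := Fact.mk hp
      obtain ⟨M, hM⟩ := CfsgLib.Techniques.Fusion.exists_index_eq_prime (p := p) hd
      exact ⟨M.comap Abelianization.of, p, hp, inferInstance, by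
        rw [Subgroup.index_comap_of_surjective _ (f := Abelianization.of) (QuotientGroup.mk'_surjective _)]; exact hM⟩
  haveI := Fact.mk hp
  refine ⟨p, hp, IsPGroup.of_card (n := (Nat.card G).primeFactorsList.length)
    (Nat.eq_prime_pow_of_unique_prime_dvd (Nat.card_pos (α := G)).ne' fun {q} hq hd => ?_)⟩
  by_contra hqp
  haveI := Fact.mk hq
  obtain ⟨Q⟩ : Nonempty (Sylow q G) := inferInstance
  have hQN : (Q : Subgroup G) ≤ N := by
    intro x hx
    rw [← QuotientGroup.eq_one_iff (N := N)]
    have hd1 : orderOf (x : G ⧸ N) ∣ p := by rw [← hi]; exact orderOf_dvd_natCard _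
    obtain ⟨k, hk⟩ := Q.2 ⟨x, hx⟩
    have hd2 : orderOf (x : G ⧸ N) ∣ q ^ k := by
      refine orderOf_dvd_of_pow_eq_one ?_
      have h1 : x ^ q ^ k = 1 := congrArg Subtype.val hk
      rw [← QuotientGroup.mk_pow, h1]
      rfl
    exact orderOf_eq_one_iff.1 (Nat.eq_one_of_dvd_coprimes
      (((Nat.coprime_primes hp hq).2 (Ne.symm hqp)).pow_right k) hd1 hd2)
  have h1 := CfsgLib.Techniques.sup_normalizer_inf_eq_top Q N
  have hinf : (Q : Subgroup G) ⊓ N = (Q : Subgroup G) := inf_eq_left.2 hQN
  rw [hinf, h q hq hd Q, sup_eq_left.2 hQN] at h1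
  rw [h1, Subgroup.index_top] at hi
  exact hp.ne_one hi.symm

end Cfsg.Agent.S1992
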