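import Cfsg.Statements.S1997
import Cfsg.Agent.Lib.Techniques.TripleOrbit

set_option autoImplicit false
universe u
open Cfsg

namespace Cfsg.Agent.S1997

/-- Let p be a prime, G a finite group with Sylow p-subgroup S, and W₁, W₂ two isomorphism-invariant p-group functors (W assigns to every group Q a subgroup W(Q), nontrivial whenever Q is a nontrivial finite p-group, and every isomorphism from a finite p-group Q onto a group R carries W(Q) onto W(R)). Suppose that G* = C_{G*}(Ω₁Z(S*)) N_{G*}(W₁(S*)) = C_{G*}(Ω₁Z(S*)) N_{G*}(W₂(S*)) = N_{G*}(W₁(S*)) N_{G*}(W₂(S*)) whenever G* = K/R is a section of G with C_{G*}(O_p(G*)) ≤ O_p(G*) and S* is a Sylow p-subgroup of G*, where Ω₁Z denotes the subgroup generated by the elements of order dividing p in the centre. Suppose also Ω₁Z(S) ≤ W₁(S) ∩ W₂(S), and let A be the normal closure of Ω₁Z(S) in N_G(W₁(S)). Then A is an elementary abelian subgroup of S, strongly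 closed in S with respect to G, and A controls strong fusion in G. -/
theorem result {G : Type u} [Group G] [Finite G] {p : ℕ} [Fact p.Prime] (S : Sylow p G) (W₁ W₂ : ∀ (Q : Type u) [Group Q], Subgroup Q) (hW₁ : Cfsg.IsCharPFunctor.{u} p W₁) (hW₂ : Cfsg.IsCharPFunctor.{u} p W₂) (hfac : ∀ (K R : Subgroup G) [hR : (R.subgroupOf K).Normal], Subgroup.centralizer ((Cfsg.pCore p (↥K ⧸ R.subgroupOf K) : Subgroup (↥K ⧸ R.subgroupOf K)) : Set (↥K ⧸ R.subgroupOf K)) ≤ Cfsg.pCore p (↥K ⧸ R.subgroupOf K) → ∀ T : Sylow p (↥K ⧸ R.subgroupOf K), (∀ x : (↥K ⧸ R.subgroupOf K), ∃ a ∈ Subgroup.centralizer ((Cfsg.omegaOne p ((T : Subgroup (↥K ⧸ R.subgroupOf K)) ⊓ Subgroup.centralizer (((T : Subgroup (↥K ⧸ R.subgroupOf K)) : Subgroup (↥K ⧸ R.subgroupOf K)) : Set (↥K ⧸ R.subgroupOf K))) : Subgroup (↥K ⧸ R.subgroupOf K)) : Set (↥K ⧸ R.subgroupOf K)), ∃ b ∈ Subgroup.normalizer ((Cfsg.inducedFunctor (G := (↥K ⧸ R.subgroupOf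 K)) W₁ (T : Subgroup (↥K ⧸ R.subgroupOf K)) : Subgroup (↥K ⧸ R.subgroupOf K)) : Set (↥K ⧸ R.subgroupOf K)), x = a * b) ∧ (∀ x : (↥K ⧸ R.subgroupOf K), ∃ a ∈ Subgroup.centralizer ((Cfsg.omegaOne p ((T : Subgroup (↥K ⧸ R.subgroupOf K)) ⊓ Subgroup.centralizer (((T : Subgroup (↥K ⧸ R.subgroupOf K)) : Subgroup (↥K ⧸ R.subgroupOf K)) : Set (↥K ⧸ R.subgroupOf K))) : Subgroup (↥K ⧸ R.subgroupOf K)) : Set (↥K ⧸ R.subgroupOf K)), ∃ b ∈ Subgroup.normalizer ((Cfsg.inducedFunctor (G := (↥K ⧸ R.subgroupOf K)) W₂ (T : Subgroup (↥K ⧸ R.subgroupOf K)) : Subgroup (↥K ⧸ R.subgroupOf K)) : Set (↥K ⧸ R.subgroupOf K)), x = a * b) ∧ (∀ x : (↥K ⧸ R.subgroupOf K), ∃ a ∈ Subgroup.normalizer ((Cfsg.inducedFunctor (G := (↥K ⧸ R.subgroupOf K)) W₁ (T : Subgroup (↥K ⧸ R.subgroupOf K)) : Subgroup (↥K ⧸ R.subgroupOf K)) : Set (↥K ⧸ R.subgroupOf K)), ∃ b ∈ Subgroup.normalizer ((Cfsg.inducedFunctor (G := (↥K ⧸ R.subgroupOf K)) W₂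 (T : Subgroup (↥K ⧸ R.subgroupOf K)) : Subgroup (↥K ⧸ R.subgroupOf K)) : Set (↥K ⧸ R.subgroupOf K)), x = a * b)) (hZ : Cfsg.omegaOne p ((S : Subgroup G) ⊓ Subgroup.centralizer (((S : Subgroup G) : Subgroup G) : Set G)) ≤ Cfsg.inducedFunctor (G := G) W₁ (S : Subgroup G) ⊓ Cfsg.inducedFunctor (G := G) W₂ (S : Subgroup G)) (N₁ : Subgroup G) (hN₁ : N₁ = Subgroup.normalizer ((Cfsg.inducedFunctor (G := G) W₁ (S : Subgroup G) : Subgroup G) : Set G)) (A : Subgroup G) (hA : A = (Subgroup.normalClosure (((Cfsg.omegaOne p ((S : Subgroup G) ⊓ Subgroup.centralizer (((S : Subgroup G) : Subgroup G) : Set G))).subgroupOf N₁ : Subgroup ↥N₁) : Set ↥N₁)).map N₁.subtype) : A ≤ (S : Subgroup G) ∧ Cfsg.IsElementaryAbelian p A ∧ Cfsg.IsStronglyClosed A (S : Subgroup G) ∧ Cfsg.ControlsStrongFusion p A := by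
  classical
  subst hN₁
  set Z := Cfsg.omegaOne p ((S : Subgroup G) ⊓ Subgroup.centralizer ((S : Subgroup G) : Set G)) with hZdef
  set V₁ := Cfsg.inducedFunctor (G := G) W₁ (S : Subgroup G) with hV₁
  set V₂ := Cfsg.inducedFunctor (G := G) W₂ (S : Subgroup G) with hV₂
  have hZ1 : Z ≤ V₁ := hZ.trans inf_le_left
  have hZ2 : Z ≤ V₂ := hZ.trans inf_le_right
  have h12 : ∀ z ∈ Z, ∀ n ∈ Subgroup.normalizer (V₂ : Set G),
      ∃ m ∈ Subgroup.normalizer (V₁ : Set G), n * z * n⁻¹ = m * z * m⁻¹ := fun z hz n hn =>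
    CfsgLib.Techniques.Fusion.exists_conj_eq_of_sections hW₁ hW₂ S
      (fun K R _ hc T => (hfac K R hc T).1) hz (hZ1 hz) (hZ2 hz) hn
  have h21 : ∀ z ∈ Z, ∀ n ∈ Subgroup.normalizer (V₁ : Set G),
      ∃ m ∈ Subgroup.normalizer (V₂ : Set G), n * z * n⁻¹ = m * z * m⁻¹ := fun z hz n hn =>
    CfsgLib.Techniques.Fusion.exists_conj_eq_of_sections hW₂ hW₁ S
      (fun K R _ hc T => (hfac K R hc T).2.1) hz (hZ2 hz) (hZ1 hz) hn
  -- `A` is generated by either orbit of `Z`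
  have hSN1 : (S : Subgroup G) ≤ Subgroup.normalizer (V₁ : Set G) := Subgroup.le_normalizer.trans
    (CfsgLib.Techniques.Fusion.normalizer_le_normalizer_inducedFunctor hW₁ S.2)
  have hV₁S : V₁ ≤ (S : Subgroup G) := CfsgLib.Techniques.Fusion.inducedFunctor_le W₁ _
  have hgen : A = Subgroup.closure {x : G | ∃ z ∈ Z, ∃ m ∈ Subgroup.normalizer (V₁ : Set G), x = m * z * m⁻¹} := by
    rw [hA, Subgroup.normalClosure, MonoidHom.map_closure]
    congr 1
    ext x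
    constructor
    · rintro ⟨_, ha, rfl⟩
      obtain ⟨z, hz, hc⟩ := Group.mem_conjugatesOfSet_iff.1 ha
      obtain ⟨c, hc⟩ := isConj_iff.1 hc
      exact ⟨z, Subgroup.mem_subgroupOf.1 hz, c, c.2, by rw [← hc]; rfl⟩
    · rintro ⟨z, hz, m, hm, rfl⟩
      refine ⟨⟨m, hm⟩ * ⟨z, hSN1 (hV₁S (hZ1 hz))⟩ * ⟨m, hm⟩⁻¹, ?_, rfl⟩
      exact Group.mem_conjugatesOfSet_iff.2 ⟨_, Subgroup.mem_subgroupOf.2 hz, isConj_iff.2 ⟨_, rfl⟩⟩
  have hsets : {x : G | ∃ z ∈ Z, ∃ m ∈ Subgroup.normalizer (V₁ : Set G), x = m * z * m⁻¹} =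
      {x : G | ∃ z ∈ Z, ∃ m ∈ Subgroup.normalizer (V₂ : Set G), x = m * z * m⁻¹} := by
    ext x
    constructor
    · rintro ⟨z, hz, m, hm, rfl⟩
      obtain ⟨m', hm', e⟩ := h21 z hz m hm
      exact ⟨z, hz, m', hm', e⟩
    · rintro ⟨z, hz, m, hm, rfl⟩
      obtain ⟨m', hm', e⟩ := h12 z hz m hm
      exact ⟨z, hz, m', hm', e⟩
  have hnorm : ∀ (N : Subgroup G),
      N ≤ Subgroup.normalizer (Subgroup.closure {x : G | ∃ z ∈ Z, ∃ m ∈ N, x = m * z * m⁻¹} : Set G) := by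
    intro N g hg
    apply CfsgLib.Techniques.map_conj_eq_self_iff.1
    refine Subgroup.eq_of_le_of_card_ge ?_ (CfsgLib.Techniques.card_map_conj _ _).ge
    rw [MonoidHom.map_closure]
    refine Subgroup.closure_mono ?_
    rintro _ ⟨_, ⟨z, hz, m, hm, rfl⟩, rfl⟩
    refine ⟨z, hz, g * m, mul_mem hg hm, ?_⟩
    show g * (m * z * m⁻¹) * g⁻¹ = _
    group
  have hN1 : Subgroup.normalizer (V₁ : Set G) ≤ Subgroup.normalizer (A : Set G) := by
    rw [hgen]; exact hnorm _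
  have hN2 : Subgroup.normalizer (V₂ : Set G) ≤ Subgroup.normalizer (A : Set G) := by
    rw [hgen, hsets]; exact hnorm _
  have hAV : A ≤ V₁ := by
    rw [hgen, Subgroup.closure_le]
    rintro _ ⟨z, hz, m, hm, rfl⟩
    exact (Subgroup.mem_normalizer_iff.1 hm z).1 (hZ1 hz)
  have hAC : A ≤ Subgroup.centralizer (V₁ : Set G) := by
    rw [hgen, Subgroup.closure_le]
    rintro _ ⟨z, hz, m, hm, rfl⟩
    refine (Subgroup.mem_normalizer_iff.1 (CfsgLib.Techniques.normalizer_le_normalizer_centralizer V₁ hm) z).1 ?_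
    exact Subgroup.centralizer_le (SetLike.coe_subset_coe.2 hV₁S)
      (CfsgLib.Techniques.Fusion.mem_omegaOne_center.1 hz).1.2
  have hcomm : ∀ a ∈ A, ∀ b ∈ A, a * b = b * a := fun a ha b hb =>
    Subgroup.mem_centralizer_iff.1 (hAC hb) a (hAV ha)
  have hexp : ∀ a ∈ A, a ^ p = 1 := by
    intro a ha
    rw [hgen] at ha
    induction ha using Subgroup.closure_induction with
    | mem x hx =>
      obtain ⟨z, hz, m, -, rfl⟩ := hx
      rw [conj_pow, (CfsgLib.Techniques.Fusion.mem_omegaOne_center.1 hz).2, mul_one, mul_inv_cancel]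
    | one => exact one_pow p
    | mul x y hx hy ihx ihy =>
      have hx' : x ∈ A := hgen ▸ hx
      have hy' : y ∈ A := hgen ▸ hy
      rw [Commute.mul_pow (hcomm x hx' y hy'), ihx, ihy, one_mul]
    | inv x hx ih => rw [inv_pow, ih, inv_one]
  -- fusion
  have h𝓦 : ∀ V ∈ ({W₁, W₂} : Set (∀ (Q : Type u) [Group Q], Subgroup Q)), Cfsg.IsCharPFunctor.{u} p V := by
    rintro V (rfl | rfl)
    · exact hW₁
    · exact hW₂
  have hfus : CfsgLib.Techniques.Fusion.FusCtrl p {W₁, W₂} G :=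
    CfsgLib.Techniques.Fusion.fusCtrl_of_constrained (G := G) h𝓦 (fun X _ _ hX hc => by
      obtain ⟨K, R, hn, ⟨e⟩⟩ := hX.exists_quotient
      refine CfsgLib.Techniques.Fusion.fusCtrl_of_mulEquiv h𝓦 e ?_
      intro T
      exact CfsgLib.Techniques.Fusion.chain_of_factorization T ⟨W₁, Or.inl rfl, rfl⟩ ⟨W₂, Or.inr rfl, rfl⟩
        (Subgroup.le_normalizer.trans
          (CfsgLib.Techniques.Fusion.normalizer_le_normalizer_inducedFunctor hW₁ T.2))
        (Subgroup.le_normalizer.trans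
          (CfsgLib.Techniques.Fusion.normalizer_le_normalizer_inducedFunctor hW₂ T.2))
        (hfac K R (CfsgLib.Techniques.Fusion.constrained_of_mulEquiv e.symm hc) T).2.2)
      G CfsgLib.Techniques.Fusion.IsSectionOf.refl
  have hctl : ∀ (D : Set G), D ⊆ (S : Subgroup G) → ∀ g : G, (fun a => g * a * g⁻¹) '' D ⊆ (S : Subgroup G) →
      ∃ x ∈ Subgroup.normalizer (A : Set G), ∀ a ∈ D, g * a * g⁻¹ = x * a * x⁻¹ := by
    intro D hD g hg
    have hD' : Subgroup.closure D ≤ (S : Subgroup G) := (Subgroup.closure_le _).2 hD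
    have hgD : (Subgroup.closure D).map (MulAut.conj g).toMonoidHom ≤ (S : Subgroup G) := by
      rw [MonoidHom.map_closure, Subgroup.closure_le]; exact hg
    have hch := (hfus S _ g (Subgroup.mem_top _) hD' hgD).mono_steps
      (Ms' := {Subgroup.normalizer (A : Set G)}) (by
        rintro _ ⟨V, (rfl | rfl), rfl⟩
        · exact ⟨_, rfl, hN1⟩
        · exact ⟨_, rfl, hN2⟩)
    obtain ⟨x, hx, hx'⟩ := hch.exists_mem
    exact ⟨x, hx, fun a ha => (hx' a (Subgroup.subset_closure ha)).symm⟩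
  refine ⟨hAV.trans hV₁S, ⟨⟨⟨fun a b => Subtype.ext (hcomm a a.2 b b.2)⟩⟩, hexp⟩,
    ⟨hAV.trans hV₁S, fun a ha g hg => ?_⟩, S, hAV.trans hV₁S, fun D hD => ⟨hD, fun g hg => ?_⟩⟩
  · obtain ⟨x, hx, hx'⟩ := hctl {a} (Set.singleton_subset_iff.2 ((hAV.trans hV₁S) ha)) g (by
      rw [Set.image_singleton, Set.singleton_subset_iff]; exact hg)
    rw [hx' a rfl]
    exact (Subgroup.mem_normalizer_iff.1 hx a).1 ha
  · exact hctl D hD g hg

end Cfsg.Agent.S1997
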