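import Cfsg.Statements.S2000
import Cfsg.Agent.Lib.Techniques.SFourControl
import Cfsg.Agent.Lib.Techniques.KInfControl
import Cfsg.Agent.Lib.Techniques.QdStable
import Cfsg.Agent.Lib.Techniques.QdCharFunctor
import Cfsg.Agent.S2761

set_option autoImplicit false
universe u
open Cfsg

namespace Cfsg.Agent.S2000

/-- Let p be a prime and G a finite group. Then Qd(p) (the natural semidirect product of an elementary abelian group of order p² by SL₂(p)) is not involved in G if and only if there is a set 𝓦 of isomorphism-invariant p-group functors (each nontrivial on nontrivial finite p-groups and carried onto W(R) by every isomorphism from a finite p-group Q onto R, hence with characteristic values on finite p-groups) whose induced conjugacy functors control strong fusion in every section of G. -/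
theorem result {G : Type u} [Group G] [Finite G] {p : ℕ} [Fact p.Prime] : ¬ Cfsg.Involves ↥(Cfsg.qd p) G ↔ ∃ 𝓦 : Set (∀ (Q : Type u) [Group Q], Subgroup Q), (∀ W ∈ 𝓦, Cfsg.IsCharPFunctor.{u} p W) ∧ ∀ (K R : Subgroup G) [hR : (R.subgroupOf K).Normal], Cfsg.FamilyControlsStrongFusionIn p ((fun W => Cfsg.inducedFunctor (G := (↥K ⧸ R.subgroupOf K)) W) '' 𝓦) ⊤ := by
  constructor
  · intro hfree
    by_cases hp2 : p = 2
    · subst hp2
      obtain ⟨e⟩ := Cfsg.Agent.S2761.result
      refine ⟨{CfsgLib.Techniques.SFourControl.zFun, CfsgLib.Techniques.SFourControl.jFun},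
        CfsgLib.Techniques.SFourControl.isCharPFunctor_pair, fun K R _ => ?_⟩
      refine CfsgLib.Techniques.Fusion.family_of_fusCtrl ?_
      refine CfsgLib.Techniques.Fusion.fusCtrl_of_constrained (G := G)
        CfsgLib.Techniques.SFourControl.isCharPFunctor_pair ?_ _
        (CfsgLib.Techniques.Fusion.IsSectionOf.quotient K R)
      intro X _ _ hX hc
      refine CfsgLib.Techniques.SFourControl.fusCtrl_constrained hc fun h => hfree ?_
      obtain ⟨L, f, hf⟩ := hX
      exact CfsgLib.LocalEven.Involved.involves_of_equiv e.symm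
        (CfsgLib.LocalEven.Involved.involves_of_subgroup
          (CfsgLib.LocalEven.Involved.involves_of_surjective f hf h))
    · refine ⟨{@Cfsg.kInfLower.{u}}, ?_, fun K R _ => ?_⟩
      · rintro W rfl
        exact CfsgLib.Techniques.KInf.IsKInf.isCharPFunctor (Or.inl rfl)
      · exact CfsgLib.Techniques.Fusion.family_of_fusCtrl
          (CfsgLib.Techniques.KInf.IsKInf.fusCtrl (W := @Cfsg.kInfLower.{u}) (Or.inl rfl)
            (fun K' R' _ => CfsgLib.Techniques.KInf.isNormalizerPStable_sections_of_not_involves_qd hp2 hfree K' R')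
            _ (CfsgLib.Techniques.Fusion.IsSectionOf.quotient K R))
  · rintro ⟨𝓦, h𝓦, hctl⟩ ⟨K, R, hR, ⟨e⟩⟩
    exact CfsgLib.Techniques.QdCharFunctor.not_family_controls e 𝓦 h𝓦 (hctl K R)

end Cfsg.Agent.S2000
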