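import Cfsg.Statements.S2001
import Cfsg.Agent.Lib.Techniques.CentralPair

set_option autoImplicit false
open Cfsg

namespace Cfsg.Agent.S2001

open Subgroup CfsgLib.Techniques CfsgLib.Techniques.Fusion

/-- Let p be a prime dividing the order of the finite group G, P a Sylow p-subgroup, W a conjugacy functor for p on G with Z(H) ≤ W(H) for every nontrivial p-subgroup H, and V a central functor: a conjugacy functor with V(H) ≤ Z(H), and V(H) ≤ V(K) whenever Z(H) ≤ Z(K), for nontrivial p-subgroups H, K. Say that W with V controls transfer in a subgroup L when some Sylow p-subgroup Q of L satisfies Q ∩ L' = (Q ∩ (N_L(W(Q)))')·(Q ∩ (C_L(V(Q)))') as a product of two subgroups. If W with V controls transfer in N_G(H) for every subgroup H with Z(P) ≤ H ≤ P, then W with V controls transfer in G. -/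
theorem result {G : Type*} [Group G] [Finite G] {p : ℕ} [Fact p.Prime] (hdiv : p ∣ Nat.card G) (P : Sylow p G) (W V : Subgroup G → Subgroup G) (hW : Cfsg.IsConjugacyFunctor p W) (hV : Cfsg.IsConjugacyFunctor p V) (hWZ : ∀ H : Subgroup G, IsPGroup p ↥H → H ⊓ Subgroup.centralizer ((H : Subgroup G) : Set G) ≤ W H) (hVZ : ∀ H : Subgroup G, IsPGroup p ↥H → V H ≤ H ⊓ Subgroup.centralizer ((H : Subgroup G) : Set G)) (hVmono : ∀ H K : Subgroup G, IsPGroup p ↥H → IsPGroup p ↥K → H ≠ ⊥ → K ≠ ⊥ → H ⊓ Subgroup.centralizer ((H : Subgroup G) : Set G) ≤ K ⊓ Subgroup.centralizer ((K : Subgroup G) : Set G) → V H ≤ V K) (hloc : ∀ H : Subgroup G, (P : Subgroup G) ⊓ Subgroup.centralizer (((P : Subgroup G) : Subgroup G) : Set G) ≤ H → H ≤ (P : Subgroup G) → ∃ Q : Subgroup G, Q ≤ Subgroup.normalizer ((H : Subgroup G) : Set G) ∧ IsPGroup p ↥Q ∧ ¬ p ∣ (Q).relIndex (Subgroup.normalizer ((H : Subgroup G) : Set G)) ∧ ∀ x : G, x ∈ Q ⊓ ⁅Subgroup.normalizer ((H : Subgroup G) : Set G), Subgroup.normalizer ((H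 : Subgroup G) : Set G)⁆ ↔ ∃ a ∈ Q ⊓ ⁅Subgroup.normalizer ((H : Subgroup G) : Set G) ⊓ Subgroup.normalizer ((W Q : Subgroup G) : Set G), Subgroup.normalizer ((H : Subgroup G) : Set G) ⊓ Subgroup.normalizer ((W Q : Subgroup G) : Set G)⁆, ∃ b ∈ Q ⊓ ⁅Subgroup.normalizer ((H : Subgroup G) : Set G) ⊓ Subgroup.centralizer ((V Q : Subgroup G) : Set G), Subgroup.normalizer ((H : Subgroup G) : Set G) ⊓ Subgroup.centralizer ((V Q : Subgroup G) : Set G)⁆, x = a * b) : ∃ Q : Subgroup G, IsPGroup p ↥Q ∧ ¬ p ∣ Q.index ∧ ∀ x : G, x ∈ Q ⊓ commutator G ↔ ∃ a ∈ Q ⊓ ⁅Subgroup.normalizer ((W Q : Subgroup G) : Set G), Subgroup.normalizer ((W Q : Subgroup G) : Set G)⁆, ∃ b ∈ Q ⊓ ⁅Subgroup.centralizer ((V Q : Subgroup G) : Set G), Subgroup.centralizer ((V Q : Subgroup G) : Set G)⁆, x = a * b := by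
  classical
  set τA := (P : Subgroup G) ⊓ ⁅normalizer ((W P : Subgroup G) : Set G), normalizer ((W P : Subgroup G) : Set G)⁆
    with hτA
  set τB := (P : Subgroup G) ⊓ ⁅centralizer ((V P : Subgroup G) : Set G), centralizer ((V P : Subgroup G) : Set G)⁆
    with hτB
  have hPV : (P : Subgroup G) ≤ centralizer ((V P : Subgroup G) : Set G) :=
    Subgroup.le_centralizer_iff.1 ((hVZ _ P.2).trans inf_le_right)
  have hAB : τA ≤ normalizer (τB : Set G) := fun a ha =>
    mem_normalizer_inf (le_normalizer ha.1) (map_conj_eq_self_iff.1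
      (by rw [map_commutator, map_conj_eq_self_iff.2 (le_normalizer (hPV ha.1))]))
  have key : HoldsOn (P : Subgroup G) (FocalIn (τA ⊔ τB)) ⊤ := by
    refine local_to_global_center P (isMapClosed_focalIn _ _) W hW hWZ
      (focalIn_of_inf_commutator_le (le_normalizer.trans (IsConjugacyFunctor.le_normalizer hW P.2)) le_sup_left) ?_
    intro U hZU hU hN
    set R := (P : Subgroup G) ⊓ normalizer (U : Set G) with hR
    have hRp : IsPGroup p R := P.2.to_le inf_le_left
    have hVV : V P ≤ V R := hVmono _ _ P.2 hRp (P.ne_bot_of_dvd_card hdiv) (by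
      intro e
      have hU0 : U = ⊥ := le_bot_iff.1 (e ▸ le_inf hU.1 le_normalizer)
      rw [hR, hU0, normalizer_eq_top, inf_top_eq] at e
      exact P.ne_bot_of_dvd_card hdiv e)
      (center_le_center_of_le (hZU.trans (le_inf hU.1 le_normalizer)) inf_le_left)
    obtain ⟨Q, hQN, hQp, hQi, hQ⟩ := hloc U hZU hU.1
    obtain ⟨x, hx, hxQ⟩ := exists_conj_eq_sylow_of hQN hQp hQi inf_le_right hRp hU.2
    rw [← hR] at hxQ
    refine focalIn_of_inf_commutator_le inf_le_right fun z hz => ?_
    have hxN := map_conj_eq_self_iff.2 (le_normalizer hx)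
    rw [← hxQ, ← hxN, ← map_commutator, ← Subgroup.map_inf _ _ _ (MulAut.conj x).injective] at hz
    obtain ⟨z₀, hz₀, rfl⟩ := hz
    obtain ⟨a, ha, b, hb, rfl⟩ := (hQ z₀).1 hz₀
    rw [map_mul]
    refine mul_mem ?_ ?_
    · have h1 := mem_map_of_mem (MulAut.conj x).toMonoidHom ha
      rw [Subgroup.map_inf _ _ _ (MulAut.conj x).injective, map_commutator, hxQ] at h1
      have hle := map_step_le hW hQp (H := normalizer (U : Set G)) (le_normalizer hx)
      rw [hxQ] at hle
      have h2 := inf_le_inf_left _ (commutator_mono hle hle) h1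
      exact inf_commutator_le_of_focalIn
        (le_inf inf_le_right (le_normalizer.trans (IsConjugacyFunctor.le_normalizer hW hRp))) hRp
        (fun hd => hU.2 (hd.trans (Dvd.intro _
          (relIndex_mul_relIndex _ _ _ (le_inf inf_le_right (le_normalizer.trans (IsConjugacyFunctor.le_normalizer hW hRp)))
            inf_le_left)))) hN h2
    · have h1 := mem_map_of_mem (MulAut.conj x).toMonoidHom hb
      rw [Subgroup.map_inf _ _ _ (MulAut.conj x).injective, map_commutator, hxQ] at h1
      have hle : (normalizer (U : Set G) ⊓ centralizer ((V Q : Subgroup G) : Set G)).map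
          (MulAut.conj x).toMonoidHom ≤ centralizer ((V P : Subgroup G) : Set G) := by
        refine (Subgroup.map_mono inf_le_right).trans ((map_conj_centralizer_le _ x).trans ?_)
        rw [← functor_conj hV hQp, hxQ]
        exact centralizer_le hVV
      exact mem_sup_right ((inf_le_inf inf_le_left (commutator_mono hle hle)) h1)
  have hle : (P : Subgroup G) ⊓ commutator G ≤ τA ⊔ τB := by
    rw [_root_.commutator_def]
    exact inf_commutator_le_of_focalIn le_top P.2 (by rw [relIndex_top_right]; exact P.not_dvd_index) key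
  refine ⟨P, P.2, P.not_dvd_index, fun x => ⟨fun hx => ?_, ?_⟩⟩
  · obtain ⟨a, ha, b, hb, e⟩ := exists_mul_of_mem_sup hAB (hle hx)
    exact ⟨a, ha, b, hb, e.symm⟩
  · rintro ⟨a, ha, b, hb, rfl⟩
    rw [_root_.commutator_def]
    exact mul_mem ((inf_le_inf_left _ (commutator_mono le_top le_top)) ha)
      ((inf_le_inf_left _ (commutator_mono le_top le_top)) hb)

end Cfsg.Agent.S2001
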