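import Cfsg.Statements.S2002
import Cfsg.Agent.Lib.Techniques.CentralPair

set_option autoImplicit false
open Cfsg

namespace Cfsg.Agent.S2002

open Subgroup CfsgLib.Techniques CfsgLib.Techniques.Fusion

/-- Let p be a prime dividing the order of the finite group G, P a Sylow p-subgroup, W a conjugacy functor for p on G with Z(H) ≤ W(H) for every nontrivial p-subgroup H, and V a central functor (a conjugacy functor with V(H) ≤ Z(H), and V(H) ≤ V(K) whenever Z(H) ≤ Z(K)). Say that W with V controls strong fusion in a subgroup L when some Sylow p-subgroup Q of L has the property: whenever X ⊆ Q and a ∈ L with a⁻¹Xa ⊆ Q, then a = c b with c ∈ C_L(X) and b = b₁ ⋯ bₙ a product of elements each in N_L(W(Q)) or in C_L(V(Q)) such that every partial conjugate (b₁ ⋯ bₖ)⁻¹ X (b₁ ⋯ bₖ) lies in Q. If W with V controls strong fusion in N_G(H) for every subgroup H with Z(P) ≤ H ≤ P, then W with V controls strong fusion in G. -/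
theorem result {G : Type*} [Group G] [Finite G] {p : ℕ} [Fact p.Prime] (hdiv : p ∣ Nat.card G) (P : Sylow p G) (W V : Subgroup G → Subgroup G) (hW : Cfsg.IsConjugacyFunctor p W) (hV : Cfsg.IsConjugacyFunctor p V) (hWZ : ∀ H : Subgroup G, IsPGroup p ↥H → H ⊓ Subgroup.centralizer ((H : Subgroup G) : Set G) ≤ W H) (hVZ : ∀ H : Subgroup G, IsPGroup p ↥H → V H ≤ H ⊓ Subgroup.centralizer ((H : Subgroup G) : Set G)) (hVmono : ∀ H K : Subgroup G, IsPGroup p ↥H → IsPGroup p ↥K → H ≠ ⊥ → K ≠ ⊥ → H ⊓ Subgroup.centralizer ((H : Subgroup G) : Set G) ≤ K ⊓ Subgroup.centralizer ((K : Subgroup G) : Set G) → V H ≤ V K) (hloc : ∀ H : Subgroup G, (P : Subgroup G) ⊓ Subgroup.centralizer (((P : Subgroup G) : Subgroup G) : Set G) ≤ H → H ≤ (P : Subgroup G) → ∃ Q : Subgroup G, Q ≤ Subgroup.normalizer ((H : Subgroup G) : Set G) ∧ IsPGroup p ↥Q ∧ ¬ p ∣ (Q).relIndex (Subgroup.normalizer ((H : Subgroup G) : Set G)) ∧ ∀ (X : Set G) (a : G), X ⊆ Q → a ∈ Subgroup.normalizer ((H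 : Subgroup G) : Set G) → (fun x => a⁻¹ * x * a) '' X ⊆ Q → ∃ c ∈ Subgroup.normalizer ((H : Subgroup G) : Set G) ⊓ Subgroup.centralizer X, ∃ (n : ℕ) (b : Fin n → G), (∀ i, b i ∈ Subgroup.normalizer ((H : Subgroup G) : Set G) ⊓ Subgroup.normalizer ((W Q : Subgroup G) : Set G) ∨ b i ∈ Subgroup.normalizer ((H : Subgroup G) : Set G) ⊓ Subgroup.centralizer ((V Q : Subgroup G) : Set G)) ∧ a = c * (List.ofFn b).prod ∧ ∀ k : ℕ, k ≤ n → (fun x => (((List.ofFn b).take k).prod)⁻¹ * x * ((List.ofFn b).take k).prod) '' ((fun x => c⁻¹ * x * c) '' X) ⊆ Q) : ∃ Q : Subgroup G, IsPGroup p ↥Q ∧ ¬ p ∣ Q.index ∧ ∀ (X : Set G) (a : G), X ⊆ Q → (fun x => a⁻¹ * x * a) '' X ⊆ Q → ∃ c ∈ Subgroup.centralizer X, ∃ (n : ℕ) (b : Fin n → G), (∀ i, b i ∈ ⊤ ⊓ Subgroup.normalizer ((W Q : Subgroup G) : Set G) ∨ b i ∈ ⊤ ⊓ Subgroup.centralizer ((V Q : Subgroup G) : Set G)) ∧ a = c * (List.ofFn b).prod ∧ ∀ k : ℕ, k ≤ n → (fun x => (((List.ofFn b).take k).prod)⁻¹ * x * ((List.ofFn b).take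 k).prod) '' ((fun x => c⁻¹ * x * c) '' X) ⊆ Q := by
  classical
  set Ms : Set (Subgroup G) := {normalizer ((W P : Subgroup G) : Set G),
    centralizer ((V P : Subgroup G) : Set G)} with hMs
  have key : HoldsOn (P : Subgroup G) (Chain (P : Subgroup G) Ms) ⊤ := by
    refine local_to_global_center P (isMapClosed_chain _ _) W hW hWZ
      (fun D y hy _ hyD => chain_step (Or.inl rfl) hy hyD) ?_
    intro U hZU hU hN
    set R := (P : Subgroup G) ⊓ normalizer (U : Set G) with hR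
    have hRp : IsPGroup p R := P.2.to_le inf_le_left
    have hVV : V P ≤ V R := hVmono _ _ P.2 hRp (P.ne_bot_of_dvd_card hdiv) (by
      intro e
      have hU0 : U = ⊥ := le_bot_iff.1 (e ▸ le_inf hU.1 le_normalizer)
      rw [hR, hU0, normalizer_eq_top, inf_top_eq] at e
      exact P.ne_bot_of_dvd_card hdiv e)
      (center_le_center_of_le (hZU.trans (le_inf hU.1 le_normalizer)) inf_le_left)
    obtain ⟨Q, hQN, hQp, hQi, hQ⟩ := hloc U hZU hU.1
    obtain ⟨x, hx, hxQ⟩ := exists_conj_eq_sylow_of hQN hQp hQi inf_le_right hRp hU.2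
    rw [← hR] at hxQ
    intro D y hy hD hyD
    set MQ : Set (Subgroup G) := {normalizer (U : Set G) ⊓ normalizer ((W Q : Subgroup G) : Set G),
      normalizer (U : Set G) ⊓ centralizer ((V Q : Subgroup G) : Set G)} with hMQ
    set MR : Set (Subgroup G) := {normalizer (U : Set G) ⊓ normalizer ((W R : Subgroup G) : Set G),
      centralizer ((V P : Subgroup G) : Set G)} with hMR
    set D' := D.map (MulAut.conj x⁻¹).toMonoidHom with hD'
    have hQR : R.map (MulAut.conj x⁻¹).toMonoidHom = Q := by rw [← hxQ, map_conj_inv_cancel]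
    have hD'Q : D' ≤ Q := hQR ▸ map_mono hD
    set h := x⁻¹ * y * x with hh
    obtain ⟨c, hc, n, b, hb, hab, hk⟩ := hQ (D' : Set G) h⁻¹ hD'Q
      (inv_mem (mul_mem (mul_mem (inv_mem hx) hy) hx)) (by
        rintro _ ⟨a, ha, rfl⟩
        rw [SetLike.mem_coe, mem_map_conj, inv_inv] at ha
        have hm := hQR.le (conj_mem_map_conj x⁻¹ (hyD (conj_mem_map_conj y ha)))
        simpa [hh, mul_assoc] using hm)
    have hcD : c ∈ centralizer (D' : Set G) := hc.2
    have hch : Chain Q MQ D' h := by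
      refine chain_of_right hcD b (fun i => ?_) hab (fun k hkn d hd => hk k hkn ⟨d, ⟨d, hd, ?_⟩, rfl⟩)
      · rcases hb i with hi | hi
        · exact ⟨_, Or.inl rfl, hi⟩
        · exact ⟨_, Or.inr rfl, hi⟩
      · show c⁻¹ * d * c = d
        rw [mul_assoc, mem_centralizer_iff.1 hcD d hd, inv_mul_cancel_left]
    have hch' := hch.map (MulAut.conj x).toMonoidHom (T' := R) (Ms' := MR) hxQ.le ?_
    · rw [hD', ← map_conj_mul, mul_inv_cancel, map_conj_one] at hch'
      have e : (MulAut.conj x).toMonoidHom h = y := by simp [hh, mul_assoc]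
      rw [e] at hch'
      refine hch'.elim (isMapClosed_chain _ _) inf_le_left ?_ hD
      rintro M (rfl | rfl)
      · exact hN
      · exact fun D₁ y₁ hy₁ _ hyD₁ => chain_step (Or.inr rfl) hy₁ (hyD₁.trans inf_le_left)
    · rintro M (rfl | rfl)
      · have hle := map_step_le hW hQp (H := normalizer (U : Set G)) (le_normalizer hx)
        rw [hxQ] at hle
        exact ⟨_, Or.inl rfl, hle⟩
      · refine ⟨_, Or.inr rfl, (Subgroup.map_mono inf_le_right).trans
          ((map_conj_centralizer_le _ x).trans ?_)⟩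
        rw [← functor_conj hV hQp, hxQ]
        exact centralizer_le hVV
  refine ⟨P, P.2, P.not_dvd_index, fun X a hX ha => ?_⟩
  have hD : Subgroup.closure X ≤ (P : Subgroup G) := (Subgroup.closure_le _).2 hX
  have hDa : (Subgroup.closure X).map (MulAut.conj a⁻¹).toMonoidHom ≤ (P : Subgroup G) := by
    rw [MonoidHom.map_closure, Subgroup.closure_le]
    rintro _ ⟨u, hu, rfl⟩
    simpa using ha ⟨u, hu, rfl⟩
  obtain ⟨c, hc, n, b, hb, hab, hk⟩ := (key _ a⁻¹ (mem_top _) hD hDa).toRight hD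
  have hcX : c ∈ centralizer X := centralizer_le Subgroup.subset_closure hc
  refine ⟨c, hcX, n, b, fun i => ?_, by rw [← hab, inv_inv], fun k hkn => ?_⟩
  · obtain ⟨M, hM, hm⟩ := hb i
    rcases hM with rfl | rfl
    · exact Or.inl ⟨mem_top _, hm⟩
    · exact Or.inr ⟨mem_top _, hm⟩
  · rintro _ ⟨_, ⟨u, hu, rfl⟩, rfl⟩
    have e : c⁻¹ * u * c = u := by
      rw [mul_assoc, mem_centralizer_iff.1 hcX u hu, inv_mul_cancel_left]
    simp only [e, SetLike.mem_coe]
    exact hk k hkn u (Subgroup.subset_closure hu)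

end Cfsg.Agent.S2002
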