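import Cfsg.Statements.S2008


set_option autoImplicit false
open Cfsg

namespace Cfsg.Agent.S2008

/-- Let H be a finite group and z an involution such that every proper normal subgroup of H meets the centralizer of z trivially, and suppose z lies in a Klein four-subgroup E of H all three of whose involutions are conjugate to z in H. Then H has no non-trivial abelian normal subgroup. -/
theorem result {H : Type*} [Group H] [Finite H] (z : H) (hz : orderOf z = 2) (hN : ∀ N : Subgroup H, N.Normal → N ≠ ⊤ → N ⊓ Subgroup.centralizer ({z} : Set H) = ⊥) (E : Subgroup H) (hE : IsKleinFour ↥E) (hzE : z ∈ E) (hc : ∀ e ∈ E, e ≠ 1 → IsConj z e) (N : Subgroup H) [N.Normal] (hab : IsMulCommutative ↥N) : N = ⊥ := by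
  classical
  by_contra hne
  by_cases htop : N = ⊤
  · -- an abelian group has trivial conjugation
    subst htop
    haveI := hab
    obtain ⟨e, heE, he1, hez⟩ : ∃ e ∈ E, e ≠ 1 ∧ e ≠ z := by
      by_contra hcon
      push Not at hcon
      haveI := hE
      have hsub : (E : Set H) ⊆ {1, z} := fun e he => by
        by_cases h1 : e = 1
        · exact Or.inl h1
        · exact Or.inr (hcon e he h1)
      have h4 : Nat.card E = 4 := IsKleinFour.card_four
      have h2 : Nat.card E ≤ 2 := by
        have := Set.ncard_le_ncard hsub (Set.toFinite _)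
        exact (Nat.card_coe_set_eq (E : Set H)).le.trans (this.trans ((Set.ncard_insert_le _ _).trans (by simp)))
      omega
    obtain ⟨g, hg⟩ := isConj_iff.1 (hc e heE he1)
    apply hez
    rw [← hg]
    have hcomm : g * z = z * g := congrArg Subtype.val
      (mul_comm' (⟨g, Subgroup.mem_top g⟩ : (⊤ : Subgroup H)) ⟨z, Subgroup.mem_top z⟩)
    rw [hcomm, mul_inv_cancel_right]
  · -- every involution of `E` inverts `N`
    have hfpf : ∀ e ∈ E, e ≠ 1 → ∀ x ∈ N, e * x = x * e → x = 1 := by
      intro e he he1 x hx hex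
      obtain ⟨g, hg⟩ := isConj_iff.1 (hc e he he1)
      have hx' : g⁻¹ * x * g ∈ N := by simpa using (inferInstance : N.Normal).conj_mem x hx g⁻¹
      have hzx : g⁻¹ * x * g ∈ Subgroup.centralizer ({z} : Set H) := by
        rw [Subgroup.mem_centralizer_singleton_iff]
        have hz' : z = g⁻¹ * e * g := by rw [← hg]; group
        rw [hz']
        calc g⁻¹ * x * g * (g⁻¹ * e * g) = g⁻¹ * (x * e) * g := by group
          _ = g⁻¹ * (e * x) * g := by rw [hex]
          _ = g⁻¹ * e * g * (g⁻¹ * x * g) := by group
      have h1 : g⁻¹ * x * g ∈ N ⊓ Subgroup.centralizer ({z} : Set H) := ⟨hx', hzx⟩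
      rw [hN N inferInstance htop, Subgroup.mem_bot] at h1
      have : x = g * (g⁻¹ * x * g) * g⁻¹ := by group
      rw [this, h1]; group
    have hinv : ∀ e ∈ E, e ≠ 1 → ∀ x ∈ N, e * x * e⁻¹ = x⁻¹ := by
      intro e he he1 x hx
      have hee : e * e = 1 := by
        haveI := hE
        exact congrArg Subtype.val (IsKleinFour.mul_self (⟨e, he⟩ : E))
      have hy : e * x * e⁻¹ ∈ N := (inferInstance : N.Normal).conj_mem x hx e
      have hcomm : x * (e * x * e⁻¹) = e * x * e⁻¹ * x := by
        haveI := hab
        exact congrArg Subtype.val (mul_comm' (⟨x, hx⟩ : N) ⟨_, hy⟩)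
      have h1 : x * (e * x * e⁻¹) = 1 := by
        refine hfpf e he he1 _ (mul_mem hx hy) ?_
        have hei : e⁻¹ = e := inv_eq_of_mul_eq_one_right hee
        calc e * (x * (e * x * e⁻¹)) = e * (e * x * e⁻¹ * x) := by rw [hcomm]
          _ = (e * e) * x * (e⁻¹ * x * e) * e⁻¹ := by group
          _ = x * (e * x * e⁻¹) * e := by rw [hee, hei]; group
      exact (inv_eq_of_mul_eq_one_right h1).symm
    obtain ⟨x, hx, hx1⟩ := (Subgroup.bot_or_exists_ne_one N).resolve_left hne
    obtain ⟨e, he, he1, hez⟩ : ∃ e ∈ E, e ≠ 1 ∧ e ≠ z := by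
      by_contra hcon
      push Not at hcon
      haveI := hE
      have hsub : (E : Set H) ⊆ {1, z} := fun e he => by
        by_cases h1 : e = 1
        · exact Or.inl h1
        · exact Or.inr (hcon e he h1)
      have h4 : Nat.card E = 4 := IsKleinFour.card_four
      have h2 : Nat.card E ≤ 2 := by
        have := Set.ncard_le_ncard hsub (Set.toFinite _)
        exact (Nat.card_coe_set_eq (E : Set H)).le.trans (this.trans ((Set.ncard_insert_le _ _).trans (by simp)))
      omega
    have hz1 : z ≠ 1 := fun h => by simp [h] at hz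
    have hze : z * e ≠ 1 := fun h => hez (by
      have hzz : z * z = 1 := by rw [← pow_two, ← hz, pow_orderOf_eq_one]
      exact mul_left_cancel (h.trans hzz.symm))
    apply hx1
    refine hfpf (z * e) (mul_mem hzE he) hze x hx ?_
    have h1 := hinv e he he1 x hx
    have h2 := hinv z hzE hz1 x⁻¹ (inv_mem hx)
    calc z * e * x = z * (e * x * e⁻¹) * z⁻¹ * (z * e) := by group
      _ = x * (z * e) := by rw [h1, h2, inv_inv]

end Cfsg.Agent.S2008
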