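import Cfsg.Statements.S2009
import Cfsg.Agent.S2008

set_option autoImplicit false
open Cfsg

namespace Cfsg.Agent.S2009

/-- Let H be a finite group and z an involution such that every proper normal subgroup of H meets the centralizer of z trivially, and suppose z lies in a Klein four-subgroup E of H all three of whose involutions are conjugate to z in H. Then H is simple. -/
theorem result {H : Type*} [Group H] [Finite H] (z : H) (hz : orderOf z = 2) (hN : ∀ N : Subgroup H, N.Normal → N ≠ ⊤ → N ⊓ Subgroup.centralizer ({z} : Set H) = ⊥) (E : Subgroup H) (hE : IsKleinFour ↥E) (hzE : z ∈ E) (hc : ∀ e ∈ E, e ≠ 1 → IsConj z e) : IsSimpleGroup H := by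
  classical
  haveI : Nontrivial H := ⟨z, 1, fun h => by simp [h] at hz⟩
  refine ⟨fun N hNn => ?_⟩
  by_cases htop : N = ⊤
  · exact Or.inr htop
  left
  haveI := hNn
  have hfix : ∀ x ∈ N, z * x * z⁻¹ = x → x = 1 := by
    intro x hx hzx
    have : x ∈ N ⊓ Subgroup.centralizer ({z} : Set H) :=
      ⟨hx, Subgroup.mem_centralizer_singleton_iff.2 (mul_inv_eq_iff_eq_mul.1 hzx).symm⟩
    rwa [hN N hNn htop, Subgroup.mem_bot] at this
  have hzz : z * z = 1 := by rw [← pow_two, ← hz, pow_orderOf_eq_one]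
  have hzi : z⁻¹ = z := inv_eq_of_mul_eq_one_right hzz
  let φ : N → N := fun x => x⁻¹ * ⟨z * x * z⁻¹, hNn.conj_mem x x.2 z⟩
  have hinj : Function.Injective φ := by
    intro x y hxy
    have h1 : (x : H)⁻¹ * (z * x * z⁻¹) = (y : H)⁻¹ * (z * y * z⁻¹) := congrArg Subtype.val hxy
    have h2 : z * ((y : H) * (x : H)⁻¹) * z⁻¹ = (y : H) * (x : H)⁻¹ := by
      calc z * ((y : H) * (x : H)⁻¹) * z⁻¹
          = (y : H) * ((y : H)⁻¹ * (z * y * z⁻¹)) * (z * (x : H)⁻¹ * z⁻¹) := by group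
        _ = (y : H) * ((x : H)⁻¹ * (z * x * z⁻¹)) * (z * (x : H)⁻¹ * z⁻¹) := by rw [h1]
        _ = (y : H) * (x : H)⁻¹ := by group
    exact Subtype.ext (eq_of_mul_inv_eq_one (hfix _ (mul_mem y.2 (inv_mem x.2)) h2)).symm
  have hinv : ∀ x ∈ N, z * x * z⁻¹ = x⁻¹ := by
    intro x hx
    obtain ⟨y, hy⟩ := Finite.injective_iff_surjective.1 hinj ⟨x, hx⟩
    have h1 : (y : H)⁻¹ * (z * y * z⁻¹) = x := congrArg Subtype.val hy
    rw [← h1]
    calc z * ((y : H)⁻¹ * (z * y * z⁻¹)) * z⁻¹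
        = z * (y : H)⁻¹ * z⁻¹ * ((z * z) * y * (z * z)⁻¹) := by group
      _ = ((y : H)⁻¹ * (z * y * z⁻¹))⁻¹ := by rw [hzz]; group
  have hab : IsMulCommutative N := ⟨⟨fun a b => Subtype.ext (by
    have h := hinv _ (mul_mem a.2 b.2)
    have ha := hinv _ a.2
    have hb := hinv _ b.2
    have : z * ((a : H) * b) * z⁻¹ = (z * a * z⁻¹) * (z * b * z⁻¹) := by group
    rw [this, ha, hb, mul_inv_rev] at h
    have h2 := congrArg (fun t : H => t⁻¹) h
    simp only [mul_inv_rev, inv_inv] at h2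
    exact h2.symm)⟩⟩
  exact Cfsg.Agent.S2008.result z hz hN E hE hzE hc N hab

end Cfsg.Agent.S2009
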