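import Cfsg.Statements.S2011
import Cfsg.Agent.Lib.Fusion.Group
import Cfsg.Agent.Lib.Transfer.NormalComplement
import Cfsg.Agent.Lib.PCore.Basic

set_option autoImplicit false
open Cfsg

namespace Cfsg.Agent.S2011

/-- Let G be a finite group with Sylow p-subgroup P and Q ≤ P. Then Q is centric in the fusion system of G on P (C_P(R) ≤ R for every G-conjugate R of Q lying in P) if and only if C_G(Q) is the internal direct product of Z(Q) = Q ∩ C_G(Q) and the largest normal subgroup of C_G(Q) of order prime to p. -/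
theorem result {G : Type*} [Group G] [Finite G] (p : ℕ) [Fact p.Prime] (P : Sylow p G) (Q : Subgroup G) (hQ : Q ≤ P) : (Cfsg.groupFusionSystem (P : Subgroup G)).IsCentric Q ↔ Cfsg.IsInternalDirectProduct (Q ⊓ Subgroup.centralizer (Q : Set G)) ((Cfsg.pPrimeCore p ↥(Subgroup.centralizer (Q : Set G))).map (Subgroup.centralizer (Q : Set G)).subtype) (Subgroup.centralizer (Q : Set G)) := by
  set C := Subgroup.centralizer (Q : Set G) with hCdef
  set Z := Q ⊓ C with hZdef
  have hKn : (Cfsg.pPrimeCore p C).Normal := Cfsg.pPrimeCore_normal p C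
  have hZc : ∀ z ∈ Z, ∀ c ∈ C, z * c = c * z := fun z hz c hc =>
    Subgroup.mem_centralizer_iff.1 hc z (Subgroup.mem_inf.1 hz).1
  have hZp : IsPGroup p Z := P.2.to_le (inf_le_left.trans hQ)
  have hdis : Z ⊓ (Cfsg.pPrimeCore p C).map C.subtype = ⊥ :=
    CfsgLib.PCore.inf_eq_bot_of_isPGroup_coprime hZp (by
      rw [Subgroup.card_map_of_injective C.subtype_injective]
      exact CfsgLib.PCore.pPrimeCore_coprime)
  constructor
  · rintro ⟨-, hcen⟩
    -- every `p`-element centralising `Q` lies in `Q`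
    have hpel : ∀ x ∈ C, IsPGroup p (Subgroup.zpowers x) → x ∈ Q := by
      intro x hx hp
      have hn : Subgroup.zpowers x ≤ Subgroup.normalizer (Q : Set G) :=
        Subgroup.zpowers_le.2 (Subgroup.centralizer_le_normalizer _ hx)
      obtain ⟨R, hR⟩ := (hp.to_sup_of_normal_right' (P.2.to_le hQ) hn).exists_le_sylow
      obtain ⟨g, hg⟩ := MulAction.exists_smul_eq G R P
      have hmem : ∀ y ∈ (R : Subgroup G), g * y * g⁻¹ ∈ (P : Subgroup G) := fun y hy => by
        rw [← hg]
        exact ⟨y, hy, rfl⟩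
      have hconj : (Cfsg.groupFusionSystem (P : Subgroup G)).IsConj Q
          (Q.map (MulAut.conj g).toMonoidHom) := by
        refine ⟨(MulAut.conj g).toMonoidHom.comp Q.subtype, ⟨hQ, fun q => ?_, g, fun q => rfl⟩, ?_⟩
        · exact hmem q (hR (Subgroup.mem_sup_right q.2))
        · rw [MonoidHom.range_comp, Subgroup.range_subtype]
      have hxc : g * x * g⁻¹ ∈ Q.map (MulAut.conj g).toMonoidHom := by
        refine hcen _ hconj ⟨hmem x (hR (Subgroup.mem_sup_left (Subgroup.mem_zpowers x))), ?_⟩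
        rintro _ ⟨q, hq, rfl⟩
        have := Subgroup.mem_centralizer_iff.1 hx q hq
        show g * q * g⁻¹ * (g * x * g⁻¹) = g * x * g⁻¹ * (g * q * g⁻¹)
        simp [mul_assoc, ← mul_assoc q x, this]
      obtain ⟨q, hq, he⟩ := hxc
      have : q = x := (MulAut.conj g).injective he
      exact this ▸ hq
    refine ⟨inf_le_right, Subgroup.map_subtype_le _, fun a ha b hb =>
      hZc a ha b (Subgroup.map_subtype_le _ hb), hdis, le_antisymm (sup_le inf_le_right (Subgroup.map_subtype_le _)) ?_⟩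
    obtain ⟨S⟩ : Nonempty (Sylow p C) := inferInstance
    have hS : ∀ z ∈ (S : Subgroup C), (z : G) ∈ Q := by
      intro z hz
      refine hpel z z.2 ?_
      obtain ⟨k, hk⟩ := IsPGroup.iff_orderOf.1 S.2 ⟨z, hz⟩
      refine IsPGroup.of_card (n := k) ?_
      rw [Nat.card_zpowers, Subgroup.orderOf_coe]
      rwa [Subgroup.orderOf_mk] at hk
    have hN : Cfsg.HasNormalPComplement p C := by
      refine CfsgLib.Transfer.hasNormalPComplement_of_normalizer_le S fun c _ => ?_
      rw [Subgroup.mem_centralizer_iff]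
      intro z hz
      exact Subtype.ext (hZc z ⟨hS z hz, z.2⟩ c c.2)
    haveI : (Cfsg.pResidual p C).Normal := CfsgLib.Transfer.pResidual_normal
    have hK : Cfsg.pResidual p C ≤ Cfsg.pPrimeCore p C :=
      CfsgLib.PCore.le_pPrimeCore_of_not_dvd inferInstance (CfsgLib.Transfer.hasNormalPComplement_iff.1 hN)
    intro c hc
    have h1 : (⟨c, hc⟩ : C) ∈ (S : Subgroup C) ⊔ Cfsg.pResidual p C := by
      rw [CfsgLib.Transfer.sylow_sup_pResidual]; exact Subgroup.mem_top _
    rw [← SetLike.mem_coe, Subgroup.mul_normal] at h1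
    obtain ⟨a, ha, b, hb, hab⟩ := h1
    have : c = (a : G) * (b : G) := (congrArg Subtype.val hab).symm
    rw [this]
    exact Subgroup.mul_mem_sup ⟨hS a ha, a.2⟩ ⟨b, hK hb, rfl⟩
  · rintro ⟨-, -, -, -, hsup⟩
    refine ⟨hQ, ?_⟩
    rintro R ⟨φ, ⟨-, -, g, hg⟩, rfl⟩ y ⟨hyP, hyC⟩
    set x := g⁻¹ * y * g with hxdef
    have hxC : x ∈ C := by
      rw [hCdef, Subgroup.mem_centralizer_iff]
      intro q hq
      have h1 := Subgroup.mem_centralizer_iff.1 hyC (φ ⟨q, hq⟩) ⟨⟨q, hq⟩, rfl⟩
      rw [hg] at h1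
      change g * q * g⁻¹ * y = y * (g * q * g⁻¹) at h1
      calc q * (g⁻¹ * y * g) = g⁻¹ * (g * q * g⁻¹ * y) * g := by group
        _ = g⁻¹ * y * g * q := by rw [h1]; group
    have h2 : x ∈ Z ⊔ (Cfsg.pPrimeCore p C).map C.subtype := by rw [hsup]; exact hxC
    rw [← SetLike.mem_coe, Subgroup.coe_mul_of_left_le_normalizer_right Z _ (fun z hz => by
      rw [Subgroup.mem_normalizer_iff]
      intro k
      constructor
      · intro hk
        rwa [hZc z hz k (Subgroup.map_subtype_le _ hk), mul_inv_cancel_right]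
      · intro hk
        have h4 := hZc z hz _ (Subgroup.map_subtype_le _ hk)
        have h5 : k = z * k * z⁻¹ := (mul_left_cancel (h4.trans (inv_mul_cancel_right _ _))).symm
        rwa [h5])] at h2
    obtain ⟨z, hz, k, hk, hzk⟩ := h2
    obtain ⟨i, hi⟩ := IsPGroup.iff_orderOf.1 P.2 ⟨y, hyP⟩
    rw [Subgroup.orderOf_mk] at hi
    have hxy : x ^ p ^ i = 1 := by
      rw [hxdef, show g⁻¹ * y * g = g⁻¹ * y * g⁻¹⁻¹ by rw [inv_inv], conj_pow,
        orderOf_dvd_iff_pow_eq_one.1 hi.dvd]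
      simp
    have hcomm : Commute z k := hZc z hz k (Subgroup.map_subtype_le _ hk)
    have hzk' : z * k = x := hzk
    rw [← hzk', hcomm.mul_pow] at hxy
    have hk1 : k ^ p ^ i ∈ Z ⊓ (Cfsg.pPrimeCore p C).map C.subtype := by
      refine Subgroup.mem_inf.2 ⟨?_, pow_mem hk _⟩
      rw [eq_inv_of_mul_eq_one_right hxy]
      exact inv_mem (pow_mem hz _)
    rw [hdis, Subgroup.mem_bot] at hk1
    have hk2 : k = 1 := by
      refine orderOf_eq_one_iff.1 (Nat.eq_one_of_dvd_coprimes ?_ (orderOf_dvd_of_pow_eq_one hk1)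
        ((Subgroup.orderOf_dvd_natCard _ hk)))
      rw [Subgroup.card_map_of_injective C.subtype_injective]
      exact (CfsgLib.PCore.pPrimeCore_coprime.symm).pow_left i
    rw [hk2, mul_one] at hzk'
    refine ⟨⟨x, hzk' ▸ (Subgroup.mem_inf.1 hz).1⟩, ?_⟩
    rw [hg]
    show g * (g⁻¹ * y * g) * g⁻¹ = y
    group

end Cfsg.Agent.S2011
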