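import Cfsg.Statements.S2014
import Cfsg.Agent.Lib.Techniques.FusionInduction
import Cfsg.Agent.Lib.Transfer.Basic

set_option autoImplicit false
open Cfsg

namespace Cfsg.Agent.S2014

/-- Let P be a Sylow p-subgroup of a finite group G and A, C ≤ P subgroups conjugate in G, with C extremal: N_P(C) is a Sylow p-subgroup of N_G(C). Then there is g with gAg⁻¹ = C and g N_P(A) g⁻¹ ≤ N_P(C); moreover, given any h with hAh⁻¹ = C, g can be chosen so that h g⁻¹ lies in O^p(N_G(C)), the subgroup of N_G(C) generated by its elements of order prime to p. -/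
theorem result {G : Type*} [Group G] [Finite G] (p : ℕ) [Fact p.Prime] (P : Sylow p G) (A C : Subgroup G) (hA : A ≤ P) (hC : C ≤ P) (hext : ¬ p ∣ ((P : Subgroup G) ⊓ Subgroup.normalizer ((C : Subgroup G) : Set G)).relIndex (Subgroup.normalizer ((C : Subgroup G) : Set G))) (h : G) (hh : A.map (MulAut.conj h).toMonoidHom = C) : ∃ g : G, A.map (MulAut.conj g).toMonoidHom = C ∧ ((P : Subgroup G) ⊓ Subgroup.normalizer ((A : Subgroup G) : Set G)).map (MulAut.conj g).toMonoidHom ≤ (P : Subgroup G) ⊓ Subgroup.normalizer ((C : Subgroup G) : Set G) ∧ h * g⁻¹ ∈ (Cfsg.pResidual p ↥(Subgroup.normalizer ((C : Subgroup G) : Set G))).map (Subgroup.normalizer ((C : Subgroup G) : Set G)).subtype := by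
  set N := Subgroup.normalizer ((C : Subgroup G) : Set G) with hNdef
  set T := (P : Subgroup G) ⊓ N with hTdef
  set R := (P : Subgroup G) ⊓ Subgroup.normalizer ((A : Subgroup G) : Set G) with hRdef
  have hR : R.map (MulAut.conj h).toMonoidHom ≤ N := by
    rw [hNdef, ← hh]
    exact (Subgroup.map_mono inf_le_right).trans (CfsgLib.Techniques.Fusion.map_conj_normalizer_le A h)
  obtain ⟨x, hx, hxR⟩ := CfsgLib.Techniques.exists_conj_le_sylow_of hR
    (CfsgLib.Techniques.isPGroup_map_conj (P.2.to_le inf_le_left) h) inf_le_right (P.2.to_le inf_le_left) hext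
  haveI : (Cfsg.pResidual p N).Normal := CfsgLib.Transfer.pResidual_normal
  have hTi : ¬ p ∣ (T.subgroupOf N).index := hext
  have hsup : T.subgroupOf N ⊔ Cfsg.pResidual p N = ⊤ := CfsgLib.Transfer.sup_pResidual_eq_top hTi
  have hx' : (⟨x, hx⟩ : N) ∈ T.subgroupOf N ⊔ Cfsg.pResidual p N := by rw [hsup]; exact Subgroup.mem_top _
  rw [← SetLike.mem_coe, Subgroup.mul_normal] at hx'
  obtain ⟨s, hs, k, hk, hsk⟩ := hx'
  have hsT : (s : G) ∈ T := hs
  have hxe : x = (s : G) * (k : G) := (congrArg Subtype.val hsk).symm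
  refine ⟨(k : G) * h, ?_, ?_, ⟨k⁻¹, inv_mem hk, ?_⟩⟩
  · rw [CfsgLib.Techniques.map_conj_mul, hh, CfsgLib.Techniques.map_conj_eq_self_iff.2 k.2]
  · have he : (k : G) = (s : G)⁻¹ * x := by rw [hxe, inv_mul_cancel_left]
    rw [CfsgLib.Techniques.map_conj_mul, he, CfsgLib.Techniques.map_conj_mul]
    exact (Subgroup.map_mono hxR).trans
      (CfsgLib.Techniques.map_conj_eq_self_iff.2 (Subgroup.le_normalizer (inv_mem hsT))).le
  · show ((k⁻¹ : N) : G) = h * ((k : G) * h)⁻¹
    simp

end Cfsg.Agent.S2014
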