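import Cfsg.Statements.S2029
import Cfsg.Agent.Lib.Classif.KlingerMason.Second

set_option autoImplicit false
open Cfsg

namespace Cfsg.Agent.S2029

/-- Let p be an odd prime and G a finite group that is both of local characteristic p (p divides its order and every p-local subgroup N satisfies C_N(O_p(N)) ≤ O_p(N)) and of characteristic 2 type (even order and every 2-local subgroup M satisfies C_M(O_2(M)) ≤ O_2(M)). Then every 2-local subgroup of G has p-rank at most 2. -/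
theorem result {G : Type*} [Group G] [Finite G] (p : ℕ) [Fact p.Prime] (hp : p ≠ 2) (hGp : Cfsg.IsOfLocalCharacteristic p G) (hG2 : Cfsg.IsCharacteristicTwoType G) : Cfsg.TwoLocalPRankLE p 2 G := by
  classical
  intro H ⟨T, hT, hT1, hH⟩ B hBc hBp
  by_contra hlt
  push Not at hlt
  -- the extreme rank
  have hmap : ∀ {C : Subgroup H}, IsMulCommutative C → (∀ a ∈ C, a ^ p = 1) →
      Cfsg.IsElementaryAbelian p (C.map H.subtype) := by
    intro C hC hCp
    refine ⟨⟨⟨fun a b => Subtype.ext ?_⟩⟩, ?_⟩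
    · obtain ⟨a, x, hx, rfl⟩ := a
      obtain ⟨b, y, hy, rfl⟩ := b
      exact congrArg (fun u : C => ((u : H) : G))
        (hC.is_comm.comm (⟨x, hx⟩ : C) ⟨y, hy⟩)
    · rintro _ ⟨x, hx, rfl⟩
      rw [← map_pow, hCp x hx, map_one]
  set A₀ := B.map H.subtype with hA₀
  have hA₀e := hmap hBc hBp
  have hA₀c : Nat.card A₀ = Nat.card B := Subgroup.card_map_of_injective H.subtype_injective
  have hA₀N : A₀ ≤ Subgroup.normalizer (T : Set G) := hH ▸ Subgroup.map_subtype_le B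
  obtain ⟨A, ⟨hAe, T', hT', hT'1, hAT'⟩, hmax⟩ :=
    Set.exists_max_image {A : Subgroup G | Cfsg.IsElementaryAbelian p A ∧ ∃ T : Subgroup G,
      IsPGroup 2 T ∧ T ≠ ⊥ ∧ A ≤ Subgroup.normalizer (T : Set G)}
      (fun A => Nat.card A) (Set.toFinite _) ⟨A₀, hA₀e, T, hT, hT1, hA₀N⟩
  obtain ⟨n, hn⟩ := CfsgLib.Classif.KM.elem_pow_card hAe
  have h3 : 3 ≤ n := by
    have h1 := hmax A₀ ⟨hA₀e, T, hT, hT1, hA₀N⟩
    rw [hA₀c, hn] at h1
    exact (Nat.pow_lt_pow_iff_right (Fact.out : p.Prime).one_lt).1 (lt_of_lt_of_le hlt h1)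
  refine CfsgLib.Classif.KM.Ctx.false_of_normalizing (n := n)
    ⟨hp, h3, hGp.2, hG2.2, fun A' T'' hA' hT'' hT''1 hN => ?_⟩ hAe hn hT' hT'1 hAT'
  rw [← hn]
  exact hmax A' ⟨hA', T'', hT'', hT''1, hN⟩

end Cfsg.Agent.S2029
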