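import Cfsg.Statements.S2050
import Cfsg.Agent.Lib.Presented.Ly.Upper
import Cfsg.Agent.Lib.Schur.LyonsMult.Upper
import Cfsg.Agent.Lib.Schur.Basic

set_option autoImplicit false
open Cfsg

namespace Cfsg.Agent.S2050

open CfsgLib.Presented CfsgLib.Presented.Ly in
theorem finite_Ly : Finite Cfsg.Spor.Ly := by
  have : Finite H5 := Nat.finite_of_card_ne_zero card_le.1
  have : Finite toLy.range := Finite.of_surjective toLy.rangeRestrict toLy.rangeRestrict_surjective
  refine Nat.finite_of_card_ne_zero ?_
  rw [← toLy.range.card_mul_index]
  exact mul_ne_zero Nat.card_pos.ne' index_le.1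

/-- The Schur multiplier of the Lyons group (the finitely presented group of the definitions) is trivial; here the Schur multiplier is described through stem extensions, as in the definitions: surjective homomorphisms onto the group from a finite group, whose kernel is central in that finite group and contained in that finite group's commutator subgroup. -/
theorem result : Cfsg.HasCyclicSchurMultiplier Cfsg.Spor.Ly 1 := by
  have := finite_Ly
  refine CfsgLib.Schur.hasCyclicSchurMultiplier_one fun p _ Γ _ _ σ hσ z hz _ => ?_
  rwa [CfsgLib.Schur.LyonsMult.ker_eq_bot hσ, Subgroup.mem_bot] at hz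

end Cfsg.Agent.S2050
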