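import Cfsg.Statements.S2051
import Cfsg.Agent.Lib.Sporadic.RuLattice.Hom
import Cfsg.Agent.Lib.Schur.MultiplierRuModel
import Cfsg.Agent.Lib.Schur.MultiplierRu

set_option autoImplicit false
open Cfsg

namespace Cfsg.Agent.S2051

/-- The Schur multiplier of the Rudvalis group (the unitary automorphism group of the rank-28 Gaussian lattice modulo its centre) is cyclic of order 2; here the Schur multiplier is described through stem extensions, as in the definitions: surjective homomorphisms onto the group from a finite group, whose kernel is central in that finite group and contained in that finite group's commutator subgroup. -/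
theorem result : Cfsg.HasCyclicSchurMultiplier Cfsg.Spor.Ru 2 := by
  have := CfsgLib.Sporadic.RuLattice.finite_and_bound.1
  exact CfsgLib.Schur.MultiplierRuModel.multiplier_of_subgroup _ CfsgLib.Sporadic.RuLattice.ruEquiv
    CfsgLib.Schur.MultiplierRu.multiplier_of_ext

end Cfsg.Agent.S2051
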