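import Cfsg.Statements.S2077
import Cfsg.Agent.Lib.Sporadic.Ru.Out
import Cfsg.Agent.Lib.Sporadic.RuLattice.Hom
-- import your own Cfsg.Agent.* helpers here

set_option autoImplicit false
open Cfsg

namespace Cfsg.Agent.S2077

/-- Isomorphic groups have outer automorphism groups of one order. -/
theorem natCard_out_congr {G G' : Type} [Group G] [Group G'] (e : G ≃* G') :
    Nat.card (Cfsg.Out G) = Nat.card (Cfsg.Out G') := by
  refine Nat.card_congr (QuotientGroup.congr _ _ (MulAut.congr e) ?_).toEquiv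
  ext φ
  simp only [Subgroup.mem_map, MonoidHom.mem_range]
  constructor
  · rintro ⟨_, ⟨g, rfl⟩, rfl⟩
    refine ⟨e g, MulEquiv.ext fun y => ?_⟩
    simp
  · rintro ⟨g, rfl⟩
    refine ⟨_, ⟨e.symm g, rfl⟩, MulEquiv.ext fun y => ?_⟩
    simp


/-- The outer automorphism group of the Rudvalis group (the unitary automorphism group of the rank-28 Gaussian lattice modulo its centre) is trivial: every automorphism is inner. -/
theorem result : Nat.card (Cfsg.Out Cfsg.Spor.Ru) = 1 :=
  @Eq.trans _ _ _ _ (natCard_out_congr (G := Cfsg.Spor.Ru)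
    (G' := ↥(CfsgLib.Sporadic.Ru.grp CfsgLib.Sporadic.Ru.g0Gens)) CfsgLib.Sporadic.RuLattice.ruEquiv)
    CfsgLib.Sporadic.Ru.Out.card_out_grp_g0

end Cfsg.Agent.S2077
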