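import Cfsg.Statements.S2080
import Cfsg.Agent.Lib.ThreeTrans.Inst.FiTwentyThreeType
import Cfsg.Agent.Lib.ThreeTrans.Uniq.AutTop23

set_option autoImplicit false
open Cfsg

namespace Cfsg.Agent.S2080

/-- The outer automorphism group of the Fischer group Fi₂₃ (the finitely presented group of the definitions) is trivial: every automorphism is inner. -/
theorem result : Nat.card (Cfsg.Out Cfsg.Spor.Fi23) = 1 := by
  haveI := CfsgLib.ThreeTrans.Inst.FiTwentyThree.finite_fi23
  exact CfsgLib.ThreeTrans.Uniq.card_out23 CfsgLib.ThreeTrans.Inst.FiTwentyThree.isGroup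
    CfsgLib.ThreeTrans.Inst.FiTwentyThree.primitive CfsgLib.ThreeTrans.Inst.FiTwentyThree.typeM23

end Cfsg.Agent.S2080
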