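import Cfsg.Statements.S2087
import Cfsg.Agent.Lib.SchurSmall18.UniversalCover
import Cfsg.Agent.Lib.Schur.SLTwo
import Cfsg.Agent.Lib.Laws.Embed
import Cfsg.Agent.Lib.ClassicalGroups.SmallIso
import Mathlib.Algebra.Field.ULift

set_option autoImplicit false
open Cfsg

namespace Cfsg.Agent.S2087

open Matrix in
/-- The group is a quotient of `SL₂` over seven elements by a central subgroup of order two. -/
theorem of_model.{w} {F : Type w} [Field F] [Fintype F] (K : Type w) [Field K] [Fintype K] [CharP K 7]
    (hK : Fintype.card K = 7) (hF : Fintype.card F = 2) :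
    Cfsg.HasCyclicSchurMultiplier (Matrix.ProjectiveSpecialLinearGroup (Fin 3) F) 2 := by
  obtain ⟨e⟩ := CfsgLib.ClassicalGroups.psl_two_seven_psl_three_two (K := K) (L := F) hK hF
  let π : SpecialLinearGroup (Fin 2) K →* ProjectiveSpecialLinearGroup (Fin 3) F :=
    e.toMonoidHom.comp (QuotientGroup.mk' _)
  have hπ : Function.Surjective π := e.surjective.comp (QuotientGroup.mk'_surjective _)
  have hker : π.ker = Subgroup.center (SpecialLinearGroup (Fin 2) K) := by
    ext x
    rw [MonoidHom.mem_ker]
    show e (QuotientGroup.mk' _ x) = 1 ↔ _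
    rw [MulEquiv.map_eq_one_iff, ← MonoidHom.mem_ker, QuotientGroup.ker_mk']
  have hcard : Nat.card π.ker = 2 := by
    rw [hker, Nat.card_congr (SpecialLinearGroup.center_equiv_rootsOfUnity (n := Fin 2) (R := K)).toEquiv,
      Fintype.card_fin, max_eq_left (by norm_num)]
    refine IsPrimitiveRoot.card_rootsOfUnity (ζ := (-1 : K)) ?_
    exact IsPrimitiveRoot.neg_one 7 (by norm_num)
  haveI : Fact (Nat.Prime 2) := ⟨Nat.prime_two⟩
  haveI : IsCyclic π.ker := isCyclic_of_prime_card hcard
  refine CfsgLib.SchurSmall18.hasSchurMultiplier_of_cover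
    ⟨CfsgLib.Laws.sl_two_perfect (by omega)⟩
    (CfsgLib.Schur.hasCyclicSchurMultiplier_slTwo (by omega) (by omega)) π hπ hker.le ?_
  exact (mulEquivOfCyclicCardEq (by rw [hcard]; simp))

/-- Exceptional Schur multiplier: over the field with 2 elements, PSL₃ has Schur multiplier cyclic of order 2 (here the Schur multiplier is described through stem extensions, as in the definitions). -/
theorem result {F : Type*} [Field F] [Fintype F] (hF : Fintype.card F = 2) : Cfsg.HasCyclicSchurMultiplier (Matrix.ProjectiveSpecialLinearGroup (Fin 3) F) 2 := by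
  haveI : Fact (Nat.Prime 7) := ⟨by norm_num⟩
  exact of_model (ULift (ZMod 7)) (by simp) hF

end Cfsg.Agent.S2087
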