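import Cfsg.Statements.S2093
import Cfsg.Agent.Lib.DMult.SpSixUpper
import Cfsg.Agent.Lib.DMult.SpSixLower
import Cfsg.Agent.Lib.ChevMult.General

set_option autoImplicit false
open Cfsg

namespace Cfsg.Agent.S2093

/-- Exceptional Schur multiplier: over the field with 2 elements, PSp₆ has Schur multiplier cyclic of order 2 (here the Schur multiplier is described through stem extensions, as in the definitions). -/
theorem result {F : Type*} [Field F] [Fintype F] (hF : Fintype.card F = 2) : Cfsg.HasCyclicSchurMultiplier (Cfsg.PSp 3 F) 2 := by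
  classical
  have h01 : ∀ x : F, x = 0 ∨ x = 1 := fun x => CfsgLib.DMult.SpSix.two_elts hF x
  have hperf : commutator (Matrix.symplecticGroup (Fin 3) F) = ⊤ :=
    CfsgLib.Sp.commutator_eq_top_of_card hF (.inr (.inr ⟨rfl, le_rfl⟩))
  let eZ : Matrix.symplecticGroup (Fin 3) F ≃* Cfsg.PSp 3 F :=
    (QuotientGroup.quotientBot.symm).trans
      (QuotientGroup.quotientMulEquivOfEq (CfsgLib.DMult.SpSix.center_eq_bot h01).symm)
  have hperfP : commutator (Cfsg.PSp 3 F) = ⊤ := by
    rw [← CfsgLib.SchurCover.map_commutator_eq eZ.toMonoidHom eZ.surjective, hperf,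
      Subgroup.map_top_of_surjective _ eZ.surjective]
  refine ⟨?_, fun Γ _ _ σ hσ => ?_⟩
  · obtain ⟨Γ, _, hfin, σ, ⟨hs, hc, hcom⟩, ⟨e⟩⟩ :=
      CfsgLib.DMult.SpSix.exists_double_cover F hF hperf
    have hk : (eZ.toMonoidHom.comp σ).ker = σ.ker := by
      ext x
      simp [MonoidHom.mem_ker]
    exact ⟨Γ, inferInstance, hfin, eZ.toMonoidHom.comp σ,
      ⟨eZ.surjective.comp hs, hk ▸ hc, hk ▸ hcom⟩, ⟨(MulEquiv.subgroupCongr hk).trans e⟩⟩
  · have hk : (eZ.symm.toMonoidHom.comp σ).ker = σ.ker := by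
      ext x
      simp [MonoidHom.mem_ker]
    obtain ⟨e, he, hker⟩ := CfsgLib.DMult.SpSix.exists_generator h01 (eZ.symm.toMonoidHom.comp σ)
      (eZ.symm.surjective.comp hσ.1) (hk ▸ hσ.2.1)
      (CfsgLib.ChevMult.commutator_eq_top_of_stem hσ hperfP)
    rw [hk] at hker
    let g : σ.ker := ⟨e, hker ▸ Subgroup.mem_zpowers e⟩
    have hg : g ^ 2 = 1 := Subtype.ext (by simp [g, pow_two, he])
    refine ⟨{ toFun := fun t => g ^ (Multiplicative.toAdd t).val
              map_one' := pow_zero _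
              map_mul' := fun s t => by
                rw [← pow_add, toAdd_mul, ZMod.val_add]
                exact (pow_eq_pow_mod _ hg).symm }, fun x => ?_⟩
    obtain ⟨k, hk'⟩ := Subgroup.mem_zpowers_iff.1 (hker ▸ x.2 : x.1 ∈ Subgroup.zpowers e)
    refine ⟨Multiplicative.ofAdd (k : ZMod 2), Subtype.ext ?_⟩
    show ((g ^ (k : ZMod 2).val : σ.ker) : Γ) = x.1
    rw [Subgroup.coe_pow, show ((g : σ.ker) : Γ) = e from rfl, ← hk']
    conv_rhs => rw [← Int.emod_add_mul_ediv k 2, _root_.zpow_add, _root_.zpow_mul,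
      show e ^ (2 : ℤ) = 1 by rw [_root_.zpow_two, he], one_zpow, mul_one,
      show (k % 2 : ℤ) = ((k : ZMod 2).val : ℤ) from (ZMod.val_intCast k).symm, zpow_natCast]

end Cfsg.Agent.S2093
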