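import Cfsg.Statements.S2094
import Cfsg.Agent.Lib.OddMult.Base
import Cfsg.Agent.Lib.OddMult.Spin
import Cfsg.Agent.Lib.Orth.OddInvolutions

set_option autoImplicit false
open Cfsg

namespace Cfsg.Agent.S2094

/-- Schur multipliers of the odd-dimensional orthogonal groups: for m ≥ 3 and a field F of odd order q with (m, q) ≠ (3, 3), the Schur multiplier of PΩ_(2m+1)(F) (for the form x₀² + Σ xᵢyᵢ) is cyclic of order 2 = gcd(2, q − 1); here the Schur multiplier is described through stem extensions, as in the definitions. -/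
theorem result {F : Type*} [Field F] [Fintype F] {q : ℕ} (hF : Fintype.card F = q) (hq : Odd q) (m : ℕ) (hm : 3 ≤ m) (hexc : ¬ (m = 3 ∧ q = 3)) : Cfsg.HasCyclicSchurMultiplier (Cfsg.POmega F (Cfsg.quadFormOdd m F)) 2 := by
  classical
  subst hF
  have h2 : (2 : F) ≠ 0 := Cfsg.Agent.Spinor57.two_ne_zero_of_odd rfl hq
  have hQ := Cfsg.Agent.Spinor57.qOdd_nondegenerate (m := m) h2
  rw [← Cfsg.Agent.Spinor57.qOdd_coe]
  set Q := Cfsg.Agent.Spinor57.qOdd m F
  set Om : Subgroup (CfsgLib.Orth.O Q) := commutator (CfsgLib.Orth.O Q)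
  -- the centre is trivial
  have hZ : Subgroup.center Om = ⊥ := CfsgLib.OrthOddInv.center_omega_eq_bot h2 hm
  let e : Cfsg.POmega F ⇑Q ≃* Om :=
    (QuotientGroup.quotientMulEquivOfEq hZ).trans QuotientGroup.quotientBot
  have hperfG : commutator (Cfsg.POmega F ⇑Q) = ⊤ := by
    rw [← CfsgLib.SchurCover.map_commutator_eq e.symm.toMonoidHom e.symm.surjective,
      CfsgLib.POmega.omega_perfect hQ (by simp; omega),
      Subgroup.map_top_of_surjective _ e.symm.surjective]
  have hcard : 7 ≤ Fintype.card (Unit ⊕ (Fin m ⊕ Fin m)) := by simp; omega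
  have hle := CfsgLib.OddMult.multLE_qOdd (F := F) hq hm hexc
  -- every stem extension has kernel of order at most two
  have hup : ∀ (Γ : Type _) [Group Γ] [Finite Γ] (σ : Γ →* Cfsg.POmega F ⇑Q),
      Cfsg.IsStemExtension σ → Nat.card σ.ker ≤ 2 := by
    intro Γ _ _ σ hσ
    set π : Γ →* CfsgLib.Orth.O Q := (Om.subtype.comp e.toMonoidHom).comp σ with hπ
    have hker : π.ker = σ.ker := by
      ext g
      simp only [hπ, MonoidHom.mem_ker, MonoidHom.comp_apply]
      exact ⟨fun h => e.map_eq_one_iff.1 (Subtype.ext h), fun h => by rw [h]; simp⟩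
    rw [← hker]
    refine hle Γ π ?_ (hker ▸ hσ.2.1) (CfsgLib.ChevMult.commutator_eq_top_of_stem hσ hperfG)
    rw [hπ, MonoidHom.range_comp, MonoidHom.range_eq_top.2 hσ.1, ← MonoidHom.range_eq_map,
      MonoidHom.range_comp, MonoidHom.range_eq_top.2 e.surjective, ← MonoidHom.range_eq_map,
      Subgroup.range_subtype]
  refine ⟨?_, fun Γ _ _ σ hσ => ?_⟩
  · obtain ⟨Γ, _, _, π, hrange, hc, hperf, z, hz, hz1⟩ :=
      CfsgLib.OddMult.exists_spin_cover Q hQ h2 hcard
    have hmem : ∀ g, π g ∈ Om := fun g => by show π g ∈ commutator _; rw [← hrange]; exact ⟨g, rfl⟩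
    let σ : Γ →* Cfsg.POmega F ⇑Q := e.symm.toMonoidHom.comp (π.codRestrict Om hmem)
    have hker : σ.ker = π.ker := by
      ext g
      simp only [σ, MonoidHom.mem_ker, MonoidHom.comp_apply]
      exact ⟨fun h => congrArg Subtype.val (e.symm.map_eq_one_iff.1 h),
        fun h => e.symm.map_eq_one_iff.2 (Subtype.ext h)⟩
    have hsurj : Function.Surjective σ := fun y => by
      obtain ⟨g, hg⟩ : ((e y : Om) : CfsgLib.Orth.O Q) ∈ π.range := by rw [hrange]; exact (e y).2
      refine ⟨g, ?_⟩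
      show e.symm (π.codRestrict Om hmem g) = y
      rw [show π.codRestrict Om hmem g = e y from Subtype.ext hg, e.symm_apply_apply]
    have hstem : Cfsg.IsStemExtension σ := ⟨hsurj, hker ▸ hc, by rw [hperf]; exact le_top⟩
    refine ⟨Γ, inferInstance, inferInstance, σ, hstem, ⟨?_⟩⟩
    have hk2 : Nat.card σ.ker = 2 := by
      refine le_antisymm (hup Γ σ hstem) ?_
      have : Nontrivial σ.ker := ⟨⟨⟨z, hker ▸ hz⟩, 1, fun h => hz1 (congrArg Subtype.val h)⟩⟩
      exact Finite.one_lt_card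
    have : Fact (Nat.Prime 2) := ⟨Nat.prime_two⟩
    exact mulEquivOfPrimeCardEq (p := 2) hk2 (by simp)
  · rcases Nat.lt_or_ge (Nat.card σ.ker) 2 with h | h
    · have : Subsingleton σ.ker := Finite.card_le_one_iff_subsingleton.1 (by omega)
      exact ⟨1, fun y => ⟨1, Subsingleton.elim _ _⟩⟩
    · have : Fact (Nat.Prime 2) := ⟨Nat.prime_two⟩
      refine ⟨(mulEquivOfPrimeCardEq (p := 2) (G := Multiplicative (ZMod 2)) (G' := σ.ker) (by simp)
        (le_antisymm (hup Γ σ hσ) h)).toMonoidHom, MulEquiv.surjective _⟩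

end Cfsg.Agent.S2094
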