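import Cfsg.Statements.S2106
import Cfsg.Agent.Lib.ChevMult.EUniv
import Cfsg.Agent.Lib.ChevMult.EType

set_option autoImplicit false
open Cfsg

namespace Cfsg.Agent.S2106

/-- Schur multipliers of the (adjoint, simple) Chevalley groups of type E₇: over a field with q elements the Schur multiplier is cyclic of order gcd(2, q − 1) (here the Schur multiplier is described through stem extensions, as in the definitions). -/
theorem result {F : Type*} [Field F] [Fintype F] {q : ℕ} (hF : Fintype.card F = q) : Cfsg.HasCyclicSchurMultiplier ↥(Cfsg.Lie.chevE7.group F) (Nat.gcd 2 (q - 1)) := by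
  obtain ⟨C, hadj, hlift, hperf⟩ :=
    CfsgLib.ChevMult.exists_E_data (F := F) (D := Cfsg.Lie.chevE7) (by simp)
  obtain ⟨hcyc, hcard⟩ := CfsgLib.ChevMult.center_E7 (F := F)
  rw [hF] at hcard
  exact CfsgLib.ChevMult.hasSchurMultiplier_group C hadj hperf hlift
    (mulEquivOfCyclicCardEq
      (hcard.trans ((Nat.card_congr Multiplicative.toAdd).trans (Nat.card_zmod _)).symm))

end Cfsg.Agent.S2106
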