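import Cfsg.Statements.S2107
import Cfsg.Agent.Lib.ChevMult.EUniv
import Cfsg.Agent.S1078

set_option autoImplicit false
open Cfsg

namespace Cfsg.Agent.S2107

/-- Schur multipliers of the Chevalley groups of type E₈: over every finite field the Schur multiplier of E₈(q) is trivial (here the Schur multiplier is described through stem extensions, as in the definitions). -/
theorem result {F : Type*} [Field F] [Fintype F] : Cfsg.HasCyclicSchurMultiplier ↥(Cfsg.Lie.chevE8.group F) 1 := by
  obtain ⟨C, hadj, hlift, hperf⟩ :=
    CfsgLib.ChevMult.exists_E_data (F := F) (D := Cfsg.Lie.chevE8) (by simp)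
  have hbot := Cfsg.Agent.S1078.result (K := F) Cfsg.Lie.chevE8 (by simp)
  have : Unique (Subgroup.center (Cfsg.Lie.chevE8.SteinbergGroup F)) := by
    rw [hbot]; infer_instance
  have : Subsingleton (Multiplicative (ZMod 1)) := inferInstanceAs (Subsingleton (ZMod 1))
  have : Unique (Multiplicative (ZMod 1)) := uniqueOfSubsingleton 1
  exact CfsgLib.ChevMult.hasSchurMultiplier_group C hadj hperf hlift MulEquiv.ofUnique

end Cfsg.Agent.S2107
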