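import Cfsg.Statements.S2112
import Cfsg.Agent.Lib.SuzukiEight.Cover

set_option autoImplicit false
open Cfsg

namespace Cfsg.Agent.S2112

/-- Exceptional Schur multiplier: the Suzuki group Sz(8), built over the field with 8 elements using the map x ↦ x⁴, has Schur multiplier a four-group, the product of two cyclic groups of order 2 (here the Schur multiplier is described through stem extensions, as in the definitions). -/
theorem result {F : Type*} [Field F] [Fintype F] (hF : Fintype.card F = 8) : Cfsg.HasSchurMultiplier ↥(Cfsg.Lie.Sz F 4) (Multiplicative (ZMod 2 × ZMod 2)) := by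
  have hF' : Fintype.card F = 2 ^ (2 * 1 + 1) := hF
  obtain ⟨hc, ⟨P⟩⟩ := CfsgLib.SuzukiGroup.exists_params (m := 1) hF'
  haveI := hc
  have key : ∀ e : ℕ, e = 2 ^ (1 + 1) →
      Cfsg.HasSchurMultiplier ↥(Cfsg.Lie.Sz F e) (Multiplicative (ZMod 2 × ZMod 2)) := by
    intro e he
    subst he
    exact ⟨CfsgLib.SuzukiEight.exists_stem_four P hF',
      fun Γ _ _ σ hσ => CfsgLib.SuzukiEight.kernel_image P hF' σ hσ⟩
  exact key 4 (by norm_num)

end Cfsg.Agent.S2112
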