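import Cfsg.Statements.S2114
import Cfsg.Agent.Lib.LargeReeMult.Bruhat

set_option autoImplicit false
open Cfsg

namespace Cfsg.Agent.S2114

/-- Schur multipliers of the large Ree groups: for q = 2^(2m+1) with m ≥ 1 the Schur multiplier of ²F₄(q) is trivial (here the Schur multiplier is described through stem extensions, as in the definitions). -/
theorem result {K : Type*} [Field K] [Fintype K] {m : ℕ} (hm : 1 ≤ m) (hK : Fintype.card K = 2 ^ (2 * m + 1)) : Cfsg.HasCyclicSchurMultiplier ↥(Cfsg.Lie.twistedF4 K (2 ^ m)) 1 := by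
  obtain ⟨hchar, hn⟩ := CfsgLib.Twisted.setupF4 K hK
  refine CfsgLib.Schur.hasCyclicSchurMultiplier_one fun p hp => ?_
  intro Γ _ _ σ hσ z hz _
  have hodd : ¬ 2 ∣ Nat.card ↥σ.ker := fun h => by
    have : Fact (Nat.Prime 2) := ⟨Nat.prime_two⟩
    obtain ⟨x, hx⟩ := exists_prime_orderOf_dvd_card' 2 h
    have h1 : x = 1 := Subtype.ext (CfsgLib.LargeReeMult.noMultiplierAt_two hn hm Γ σ hσ x x.2
      (congrArg Subtype.val (orderOf_dvd_iff_pow_eq_one.1 (dvd_of_eq hx) :)))
    rw [h1, orderOf_one] at hx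
    omega
  exact (Subgroup.eq_bot_iff_forall _).1
    (CfsgLib.LargeReeMult.ker_eq_bot_of_odd hn hm hσ.1 hσ.2.1 hodd hσ.2.2) z hz

end Cfsg.Agent.S2114
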