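import Cfsg.Statements.S2140
import Cfsg.Agent.Lib.KnownSimple.SLMinIndex

set_option autoImplicit false
open Cfsg

namespace Cfsg.Agent.S2140

open Matrix in
/-- `SL` along a reindexing -/
def slReindex {F : Type*} [Field F] {α β : Type*} [Fintype α] [DecidableEq α] [Fintype β] [DecidableEq β]
    (e : α ≃ β) : SpecialLinearGroup α F ≃* SpecialLinearGroup β F where
  toFun g := ⟨Matrix.reindex e e g.1, by rw [det_reindex_self]; exact g.2⟩
  invFun g := ⟨Matrix.reindex e.symm e.symm g.1, by rw [det_reindex_self]; exact g.2⟩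
  left_inv g := by apply Subtype.ext; simp
  right_inv g := by apply Subtype.ext; simp
  map_mul' g h := by
    apply Subtype.ext
    exact (Matrix.submatrix_mul_equiv g.1 h.1 e.symm e.symm e.symm).symm

/-- Minimal index of a proper subgroup of the linear groups: for n ≥ 3 and a field F with q elements, (n, q) ≠ (4, 2), every proper subgroup of PSL_n(F) has index at least (q^n − 1)/(q − 1), and some subgroup has exactly that index (the stabiliser of a point of the projective space). -/
theorem result {F : Type*} [Field F] [Fintype F] {q : ℕ} (hF : Fintype.card F = q) (n : ℕ) (hn : 3 ≤ n) (hexc : ¬ (n = 4 ∧ q = 2)) : (∀ H : Subgroup (Matrix.ProjectiveSpecialLinearGroup (Fin n) F), H ≠ ⊤ → (q ^ n - 1) / (q - 1) ≤ H.index) ∧ (∃ H : Subgroup (Matrix.ProjectiveSpecialLinearGroup (Fin n) F), H.index = (q ^ n - 1) / (q - 1)) := by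
  classical
  obtain ⟨k, rfl⟩ : ∃ k, n = k + 1 := ⟨n - 1, by omega⟩
  have hq : 2 ≤ q := hF ▸ Fintype.one_lt_card
  have hN : (q ^ (k + 1) - 1) / (q - 1) = q ^ k + (q ^ k - 1) / (q - 1) := by
    have h := CfsgLib.KnownSimple.ModulePerm.card_punit_ineq q k hq
    have hk : 1 ≤ q ^ k := Nat.one_le_pow _ _ (by omega)
    rw [← Nat.mul_add_div (by omega : q - 1 > 0)]
    congr 1
    have h2 : (q - 1) * q ^ k + q ^ k = q ^ (k + 1) := by
      rw [← Nat.succ_mul, pow_succ, mul_comm]; congr 1; omega
    omega
  constructor
  · intro H hH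
    let π := QuotientGroup.mk' (Subgroup.center (Matrix.SpecialLinearGroup (Fin (k + 1)) F))
    let e : Matrix.SpecialLinearGroup (Fin (k + 1)) F ≃* Matrix.SpecialLinearGroup (Fin k ⊕ Unit) F :=
      slReindex ((finSumFinEquiv.symm).trans (Equiv.sumCongr (Equiv.refl _) finOneEquiv))
    have hsurj : Function.Surjective π := QuotientGroup.mk'_surjective _
    have h1 : (H.comap π).index = H.index := Subgroup.index_comap_of_surjective H hsurj
    have hne : ((H.comap π).map e.toMonoidHom) ≠ ⊤ := by
      intro h
      apply hH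
      rw [← Subgroup.map_top_of_surjective e.toMonoidHom e.surjective,
        (Subgroup.map_injective (f := e.toMonoidHom) e.injective).eq_iff] at h
      rw [← Subgroup.map_comap_eq_self_of_surjective hsurj H, h,
        Subgroup.map_top_of_surjective _ hsurj]
    have h2 := CfsgLib.KnownSimple.SLMinIndex.index_ge (F := F) (m := k) (by omega)
      (by rw [hF]; rintro ⟨rfl, rfl⟩; exact hexc ⟨rfl, rfl⟩) _ hne
    rw [Subgroup.index_map_of_bijective e.bijective, h1, hF] at h2
    rw [hN]
    exact h2
  · obtain ⟨x⟩ : Nonempty (Projectivization F (Fin (k + 1) → F)) :=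
      ⟨Projectivization.mk F (Pi.single 0 1) (by simp)⟩
    refine ⟨MulAction.stabilizer _ x, ?_⟩
    have : MulAction.IsPretransitive (Matrix.ProjectiveSpecialLinearGroup (Fin (k + 1)) F)
        (Projectivization F (Fin (k + 1) → F)) := inferInstance
    rw [MulAction.index_stabilizer_of_transitive, Projectivization.card_of_finrank F _ (n := k + 1) (by simp),
      Nat.card_eq_fintype_card, hF, Nat.geomSum_eq hq]

end Cfsg.Agent.S2140
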