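import Cfsg.Statements.S2142
import Cfsg.Agent.Lib.Sp.Group
import Cfsg.Agent.Lib.Sp.Simple
import Cfsg.Agent.Lib.SpTwoIndex.Main

set_option autoImplicit false
open Cfsg

namespace CfsgLib.SpTwoIndex.S2142Aux

open Matrix CfsgLib.Sp

variable {F : Type*} [Field F] [Fintype F] (hF : Fintype.card F = 2)

include hF in
theorem two_cases (a : F) : a = 0 ∨ a = 1 := by
  classical
  by_contra h
  push Not at h
  have h3 : ({0, 1, a} : Finset F).card = 3 := by
    rw [Finset.card_eq_three]
    exact ⟨0, 1, a, zero_ne_one, h.1.symm, h.2.symm, rfl⟩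
  have := Finset.card_le_univ ({0, 1, a} : Finset F)
  omega

include hF in
theorem add_self' (a : F) : a + a = 0 := by
  have h1 : (1 : F) + 1 = 0 := by
    rcases two_cases hF ((1 : F) + 1) with h | h
    · exact h
    · exact absurd (add_eq_right.1 h) one_ne_zero
  rcases two_cases hF a with rfl | rfl
  · exact add_zero 0
  · exact h1

/-- The identification of the field with the integers mod two. -/
noncomputable def chi : F →+ ZMod 2 :=
  haveI := Classical.decEq F
  AddMonoidHom.mk' (fun a => if a = 0 then 0 else 1) fun a b => by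
    rcases two_cases hF a with rfl | rfl
    · simp
    · rcases two_cases hF b with rfl | rfl
      · simp
      · simp [add_self' hF]
        decide

theorem chi_one : chi hF 1 = 1 := by simp [chi]

theorem chi_eq_zero {a : F} : chi hF a = 0 ↔ a = 0 := by
  rcases two_cases hF a with rfl | rfl
  · simp
  · simp [chi]

theorem chi_inj {a b : F} (h : chi hF a = chi hF b) : a = b := by
  have h0 : chi hF (a + b) = 0 := by rw [map_add, h, zmod_two_self]
  have h1 := (chi_eq_zero hF).1 h0
  calc a = a + (b + b) := by rw [add_self' hF, add_zero]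
    _ = b := by rw [← add_assoc, h1, zero_add]

variable (m : ℕ)

/-- The symplectic form with values in the integers mod two. -/
noncomputable def alt : Alt (Fin m ⊕ Fin m → F) where
  B := AddMonoidHom.mk'
    (fun u => (chi hF).comp (sympBilin m F u).toAddMonoidHom) fun u v => by
      ext w; simp
  two v := funext fun i => add_self' hF (v i)
  self v := by simp [sympBilin_apply, sympForm_self]
  nondeg v h := sympBilin_separatingLeft v fun w => (chi_eq_zero hF).1 (h w)

theorem alt_B (u v : Fin m ⊕ Fin m → F) : (alt hF m).B u v = chi hF (sympBilin m F u v) := rfl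

theorem tau_eq (u x : Fin m ⊕ Fin m → F) :
    (alt hF m).tau u x = x + sympBilin m F x u • u := by
  rcases two_cases hF (sympBilin m F x u) with h | h
  · rw [(alt hF m).tau_of_zero (by rw [alt_B, h, map_zero]), h, zero_smul, add_zero]
  · rw [(alt hF m).tau_of_one (by rw [alt_B, h, chi_one]), h, one_smul]

theorem tmat_mulVec (u x : Fin m ⊕ Fin m → F) :
    (tmat u (1 : F)).1 *ᵥ x = x + sympBilin m F x u • u := by
  show sympTransvection m u 1 *ᵥ x = _
  rw [sympTransvection_mulVec, one_mul, sympBilin_apply]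

include hF in
theorem e_mulVec {p v : Fin m ⊕ Fin m → F} (h : sympBilin m F v p = 0) (x : Fin m ⊕ Fin m → F) :
    (tmat p (1 : F) * tmat v 1 * tmat (p + v) 1).1 *ᵥ x
      = x + sympBilin m F x p • v + sympBilin m F x v • p := by
  have h' : sympBilin m F p v = 0 := by
    rw [sympBilin_apply] at h ⊢
    rw [sympForm_flip, h, neg_zero]
  rw [Submonoid.coe_mul, Submonoid.coe_mul, ← mulVec_mulVec, ← mulVec_mulVec, tmat_mulVec,
    tmat_mulVec, tmat_mulVec]
  have hs : ∀ w, sympBilin m F w w = 0 := fun w => by rw [sympBilin_apply, sympForm_self]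
  have hd : ∀ w : Fin m ⊕ Fin m → F, w + w = 0 := fun w => funext fun i => add_self' hF (w i)
  simp only [map_add, map_smul, LinearMap.add_apply, LinearMap.smul_apply, hs, h, h', smul_eq_mul,
    mul_zero, add_zero]
  set a := sympBilin m F x p
  set c := sympBilin m F x v
  calc x + (a + c) • (p + v) + c • v + a • p
      = (x + a • v + c • p) + ((a • p + a • p) + (c • v + c • v)) := by module
    _ = x + a • v + c • p := by rw [hd, hd, add_zero, add_zero]

/-- The symplectic transvections as a system of transvections. -/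
noncomputable def trans : Trans (alt hF m) (symplecticGroup (Fin m) F) where
  t u := tmat u 1
  t_zero := tmat_zero_vec 1
  tt u := by rw [tmat_mul, add_self' hF, tmat_zero]
  conj u v := by
    have hinv : (tmat u (1 : F))⁻¹ = tmat u 1 :=
      inv_eq_of_mul_eq_one_right (by rw [tmat_mul, add_self' hF, tmat_zero])
    conv_lhs => rw [show tmat u (1 : F) * tmat v 1 * tmat u 1
      = tmat u 1 * tmat v 1 * (tmat u 1)⁻¹ by rw [hinv], conj_tmat]
    rw [tau_eq, tmat_mulVec]
  rel p v w hv hw := by
    rw [alt_B, chi_eq_zero] at hv hw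
    have hvw : sympBilin m F (v + w) p = 0 := by
      rw [map_add, LinearMap.add_apply, hv, hw, add_zero]
    have hpw : sympBilin m F p w = 0 := by
      rw [sympBilin_apply] at hw ⊢
      rw [sympForm_flip, hw, neg_zero]
    have hpv : sympBilin m F p v = 0 := by
      rw [sympBilin_apply] at hv ⊢
      rw [sympForm_flip, hv, neg_zero]
    have hpp : sympBilin m F p p = 0 := by rw [sympBilin_apply, sympForm_self]
    have hwv : sympBilin m F w v = sympBilin m F v w := by
      apply chi_inj hF
      rw [← alt_B hF, ← alt_B hF, (alt hF m).symm]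
    apply Subtype.ext
    refine Matrix.ext_of_mulVec_single fun j => ?_
    generalize (Pi.single j (1 : F) : Fin m ⊕ Fin m → F) = x
    rw [Submonoid.coe_mul, ← mulVec_mulVec, e_mulVec hF m hw, e_mulVec hF m hv, Submonoid.coe_mul,
      ← mulVec_mulVec]
    rcases two_cases hF (sympBilin m F v w) with hB | hB
    · rw [if_neg (by rw [alt_B, hB, map_zero]; decide), Submonoid.coe_one, one_mulVec,
        e_mulVec hF m hvw]
      simp only [map_add, map_smul, LinearMap.add_apply, LinearMap.smul_apply, hw, hpp, hpv, hwv,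
        hB, smul_eq_mul, mul_zero, add_zero]
      module
    · rw [if_pos (by rw [alt_B, hB, chi_one]), e_mulVec hF m hvw, tmat_mulVec]
      simp only [map_add, map_smul, LinearMap.add_apply, LinearMap.smul_apply, hw, hpp, hpv, hpw, hwv,
        hB, smul_eq_mul, mul_zero, mul_one, add_zero]
      module

include hF in
theorem card_vec : Nat.card (Fin m ⊕ Fin m → F) = 4 ^ m := by
  rw [Nat.card_eq_fintype_card, Fintype.card_fun, hF, Fintype.card_sum, Fintype.card_fin,
    pow_add, ← mul_pow]
  norm_num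

include hF in
theorem two_mul_bound (hm : 1 ≤ m) :
    2 * (2 ^ (m - 1) * (2 ^ m - 1)) + 2 ^ m = 4 ^ m := by
  obtain ⟨d, rfl⟩ : ∃ d, m = d + 1 := ⟨m - 1, by omega⟩
  rw [Nat.add_sub_cancel, ← mul_assoc, ← pow_succ', Nat.mul_sub, mul_one,
    Nat.sub_add_cancel (Nat.le_mul_of_pos_right _ (Nat.two_pow_pos _)), ← mul_pow]
  norm_num

include hF in
theorem lower (hm : 3 ≤ m) (K : Subgroup (symplecticGroup (Fin m) F)) (hK : K ≠ ⊤) :
    2 ^ (m - 1) * (2 ^ m - 1) ≤ K.index := by
  classical
  by_contra hlt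
  push Not at hlt
  obtain ⟨d, rfl⟩ : ∃ d, m = d + 1 := ⟨m - 1, by omega⟩
  apply hK
  refine le_of_tmat_mem fun v c => ?_
  rcases two_cases hF c with rfl | rfl
  · rw [tmat_zero]; exact K.one_mem
  have hN : Nat.card (symplecticGroup (Fin (d + 1)) F ⧸ K) + 2 ^ d < 2 * 4 ^ d := by
    have h := two_mul_bound hF (d + 1) (by omega)
    rw [← Subgroup.index_eq_card]
    have h4 : 4 ^ (d + 1) = 4 * 4 ^ d := by rw [pow_succ']
    have h2 : 2 ^ (d + 1) = 2 * 2 ^ d := by rw [pow_succ']
    omega
  have h := (trans hF (d + 1)).fix_all (Ω := symplecticGroup (Fin (d + 1)) F ⧸ K) (by omega)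
    (card_vec hF _) hN v (QuotientGroup.mk (1 : symplecticGroup (Fin (d + 1)) F))
  have h' : (QuotientGroup.mk (tmat v (1 : F) * 1) : symplecticGroup (Fin (d + 1)) F ⧸ K)
      = QuotientGroup.mk 1 := h
  rw [mul_one, QuotientGroup.eq] at h'
  simpa using h'

/-- The quadratic maps of plus type with the symplectic form as polar form. -/
noncomputable def plus (x : Fin m ⊕ Fin m → F) : ZMod 2 :=
  ∑ i, chi hF (x (.inl i) * x (.inr i))

theorem plus_add (x y : Fin m ⊕ Fin m → F) :
    plus hF m (x + y) = plus hF m x + plus hF m y + (alt hF m).B x y := by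
  rw [plus, plus, plus, alt_B, sympBilin_apply, sympForm_eq_sum, map_sum, ← Finset.sum_add_distrib,
    ← Finset.sum_add_distrib]
  refine Finset.sum_congr rfl fun i _ => ?_
  rw [← map_add, ← map_add]
  congr 1
  simp only [Pi.add_apply]
  have h := add_self' hF (x (.inl i) * y (.inr i))
  linear_combination h

theorem sum_sgn_plus : (∑ x, Alt.sgn (plus hF m x)) = (2 : ℤ) ^ m := by
  classical
  have hprod : ∀ (s : Finset (Fin m)) (f : Fin m → ZMod 2),
      Alt.sgn (∑ i ∈ s, f i) = ∏ i ∈ s, Alt.sgn (f i) := by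
    intro s f
    induction s using Finset.induction_on with
    | empty => simp [Alt.sgn]
    | insert a s ha ih => rw [Finset.sum_insert ha, Finset.prod_insert ha, Alt.sgn_add, ih]
  let e : (Fin m ⊕ Fin m → F) ≃ (Fin m → F × F) :=
    (Equiv.sumArrowEquivProdArrow _ _ _).trans (Equiv.arrowProdEquivProdArrow _ _ _).symm
  rw [← Fintype.sum_equiv e.symm (fun g => ∏ i, Alt.sgn (chi hF ((g i).1 * (g i).2))) _ (fun g => ?_)]
  swap
  · rw [plus, hprod]
    rfl
  rw [← Fintype.prod_sum (fun _ (p : F × F) => Alt.sgn (chi hF (p.1 * p.2)))]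
  have huniv : (Finset.univ : Finset F) = {0, 1} := by
    ext a
    simpa using two_cases hF a
  have h2 : (∑ p : F × F, Alt.sgn (chi hF (p.1 * p.2))) = 2 := by
    rw [Fintype.sum_prod_type, huniv, Finset.sum_pair zero_ne_one, Finset.sum_pair zero_ne_one,
      Finset.sum_pair zero_ne_one]
    simp [chi_one hF, Alt.sgn]
  rw [Finset.prod_congr rfl (fun i _ => h2), Finset.prod_const, Finset.card_univ, Fintype.card_fin]

theorem card_plus_one (hm : 1 ≤ m) :
    Nat.card {a // plus hF m a = 1} = 2 ^ (m - 1) * (2 ^ m - 1) := by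
  classical
  have hb := two_mul_bound hF m hm
  have h1 : ∀ a, Alt.sgn (plus hF m a) = 1 - 2 * (if plus hF m a = 1 then 1 else 0) := fun a => by
    rcases zmod_two_cases (plus hF m a) with h | h <;> simp [Alt.sgn, h]
  have h := sum_sgn_plus hF m
  rw [Finset.sum_congr rfl (fun a _ => h1 a), Finset.sum_sub_distrib, ← Finset.mul_sum,
    Finset.sum_boole, Finset.sum_const, Finset.card_univ, ← Nat.card_eq_fintype_card,
    card_vec hF] at h
  rw [Nat.card_eq_fintype_card, Fintype.card_subtype]
  have hb' := congrArg (Nat.cast : ℕ → ℤ) hb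
  push_cast at h hb' ⊢
  simp only [nsmul_eq_mul, mul_one] at h
  zify
  push_cast at h hb' ⊢
  linarith

/-- The minus forms as shifts of the plus form. -/
noncomputable def qf (a x : Fin m ⊕ Fin m → F) : ZMod 2 := plus hF m x + (alt hF m).B a x

theorem qf_add (a x y : Fin m ⊕ Fin m → F) :
    qf hF m a (x + y) = qf hF m a x + qf hF m a y + (alt hF m).B x y := by
  rw [qf, qf, qf, plus_add, map_add]
  abel

theorem qf_tmat (a : Fin m ⊕ Fin m → F) (ha : plus hF m a = 1) (u : Fin m ⊕ Fin m → F) :
    ∃ b, plus hF m b = 1 ∧ ∀ x, qf hF m a ((tmat u (1 : F)).1 *ᵥ x) = qf hF m b x := by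
  have key : ∀ x, qf hF m a ((tmat u (1 : F)).1 *ᵥ x)
      = qf hF m a x + (alt hF m).B x u * (qf hF m a u + 1) := by
    intro x
    rw [tmat_mulVec, ← tau_eq hF]
    rcases zmod_two_cases ((alt hF m).B x u) with h | h
    · rw [(alt hF m).tau_of_zero h, h, zero_mul, add_zero]
    · rw [(alt hF m).tau_of_one h, qf_add, h, one_mul, add_assoc]
  rcases zmod_two_cases (qf hF m a u) with h | h
  · refine ⟨a + u, ?_, fun x => ?_⟩
    · rw [plus_add, ha, add_assoc]
      have : plus hF m u + (alt hF m).B a u = 0 := h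
      rw [this, add_zero]
    · rw [key, h, zero_add, mul_one, qf, qf, map_add, AddMonoidHom.add_apply, (alt hF m).symm u x,
        add_assoc]
  · exact ⟨a, ha, fun x => by rw [key, h, zmod_two_self, mul_zero, add_zero]⟩

theorem qf_map (g : symplecticGroup (Fin m) F) : ∀ a, plus hF m a = 1 →
    ∃ b, plus hF m b = 1 ∧ ∀ x, qf hF m a (g.1 *ᵥ x) = qf hF m b x := by
  have hg : g ∈ Subgroup.closure {A : symplecticGroup (Fin m) F | ∃ v c, A = tmat v c} := by
    rw [closure_tmat]; trivial
  suffices h : (∀ a, plus hF m a = 1 →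
      ∃ b, plus hF m b = 1 ∧ ∀ x, qf hF m a (g.1 *ᵥ x) = qf hF m b x) ∧
      (∀ a, plus hF m a = 1 →
      ∃ b, plus hF m b = 1 ∧ ∀ x, qf hF m a (g⁻¹.1 *ᵥ x) = qf hF m b x) from h.1
  induction hg using Subgroup.closure_induction with
  | mem g hg =>
    obtain ⟨v, c, rfl⟩ := hg
    rcases two_cases hF c with rfl | rfl
    · rw [tmat_zero, inv_one]
      exact ⟨fun a ha => ⟨a, ha, fun x => by rw [Submonoid.coe_one, one_mulVec]⟩,
        fun a ha => ⟨a, ha, fun x => by rw [Submonoid.coe_one, one_mulVec]⟩⟩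
    · rw [inv_eq_of_mul_eq_one_right (a := tmat v (1 : F)) (b := tmat v 1)
        (by rw [tmat_mul, add_self' hF, tmat_zero])]
      exact ⟨fun a ha => qf_tmat hF m a ha v, fun a ha => qf_tmat hF m a ha v⟩
  | one =>
    rw [inv_one]
    exact ⟨fun a ha => ⟨a, ha, fun x => by rw [Submonoid.coe_one, one_mulVec]⟩,
      fun a ha => ⟨a, ha, fun x => by rw [Submonoid.coe_one, one_mulVec]⟩⟩
  | mul g h _ _ hg hh =>
    constructor
    · intro a ha
      obtain ⟨b, hb, hbx⟩ := hg.1 a ha
      obtain ⟨c, hc, hcx⟩ := hh.1 b hb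
      exact ⟨c, hc, fun x => by rw [Submonoid.coe_mul, ← mulVec_mulVec, hbx, hcx]⟩
    · intro a ha
      obtain ⟨b, hb, hbx⟩ := hh.2 a ha
      obtain ⟨c, hc, hcx⟩ := hg.2 b hb
      exact ⟨c, hc, fun x => by rw [_root_.mul_inv_rev, Submonoid.coe_mul, ← mulVec_mulVec, hbx, hcx]⟩
  | inv g _ hg => exact ⟨hg.2, by rw [inv_inv]; exact hg.1⟩

include hF in
theorem upper (hm : 3 ≤ m) :
    ∃ K : Subgroup (symplecticGroup (Fin m) F), K.index = 2 ^ (m - 1) * (2 ^ m - 1) := by
  classical
  have hT : 0 < 2 ^ (m - 1) * (2 ^ m - 1) :=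
    Nat.mul_pos (Nat.two_pow_pos _) (Nat.sub_pos_of_lt (Nat.one_lt_two_pow (by omega)))
  have hne : Nonempty {a // plus hF m a = 1} := by
    apply (Nat.card_pos_iff.1 ?_).1
    rw [card_plus_one hF m (by omega)]; exact hT
  obtain ⟨a₀, ha₀⟩ := hne
  let K : Subgroup (symplecticGroup (Fin m) F) :=
    { carrier := {g | ∀ x, qf hF m a₀ (g.1 *ᵥ x) = qf hF m a₀ x}
      one_mem' := fun x => by rw [Submonoid.coe_one, one_mulVec]
      mul_mem' := fun {g h} hg hh x => by rw [Submonoid.coe_mul, ← mulVec_mulVec, hg, hh]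
      inv_mem' := fun {g} hg x => by
        show qf hF m a₀ (g⁻¹.1 *ᵥ x) = qf hF m a₀ x
        rw [← hg (g⁻¹.1 *ᵥ x), mulVec_mulVec, ← Submonoid.coe_mul, mul_inv_cancel, Submonoid.coe_one,
          one_mulVec] }
  have hmem : ∀ g, g ∈ K ↔ ∀ x, qf hF m a₀ (g.1 *ᵥ x) = qf hF m a₀ x := fun g => Iff.rfl
  have hK : K ≠ ⊤ := by
    intro htop
    have hz := (alt hF m).card_zeros (card_vec hF m) (qf hF m a₀) (qf_add hF m a₀)
    have hone : Nat.card {x // qf hF m a₀ x = 0} ≤ 1 := by
      rw [Finite.card_le_one_iff_subsingleton]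
      suffices h : ∀ x, qf hF m a₀ x = 0 → x = 0 from
        ⟨fun x y => Subtype.ext ((h x x.2).trans (h y y.2).symm)⟩
      intro u hu
      by_contra hu0
      obtain ⟨x, hx⟩ := (alt hF m).exists_one hu0
      have hxu : (alt hF m).B x u = 1 := by rw [(alt hF m).symm]; exact hx
      have h := (hmem (tmat u 1)).1 (htop ▸ Subgroup.mem_top _) x
      rw [tmat_mulVec, ← tau_eq hF, (alt hF m).tau_of_one hxu, qf_add, hu, hxu, add_zero] at h
      simp at h
    have h64 : 2 ^ m + 3 ≤ 4 ^ m := by
      have h4 : 4 ^ m = 2 ^ m * 2 ^ m := by rw [← mul_pow]; norm_num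
      have h8 : 8 ≤ 2 ^ m := by
        calc 8 = 2 ^ 3 := by norm_num
          _ ≤ 2 ^ m := Nat.pow_le_pow_right (by norm_num) hm
      rw [h4]
      nlinarith
    omega
  refine ⟨K, le_antisymm ?_ (lower hF m hm K hK)⟩
  rw [← card_plus_one hF m (by omega), Subgroup.index_eq_card]
  choose f hf1 hf2 using fun g : symplecticGroup (Fin m) F => qf_map hF m g⁻¹ a₀ ha₀
  refine Nat.card_le_card_of_injective
    (fun q => (⟨f q.out, hf1 q.out⟩ : {a // plus hF m a = 1})) ?_
  intro q r hqr
  have he : f q.out = f r.out := congrArg Subtype.val hqr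
  rw [← q.out_eq', ← r.out_eq']
  refine QuotientGroup.eq.2 ((hmem _).2 fun x => ?_)
  have h1 := hf2 q.out (r.out.1 *ᵥ x)
  rw [he, ← hf2 r.out (r.out.1 *ᵥ x), mulVec_mulVec, mulVec_mulVec, ← Submonoid.coe_mul,
    ← Submonoid.coe_mul, inv_mul_cancel, Submonoid.coe_one, one_mulVec] at h1
  exact h1

end CfsgLib.SpTwoIndex.S2142Aux

namespace Cfsg.Agent.S2142

open CfsgLib.SpTwoIndex.S2142Aux

/-- Minimal index of a proper subgroup of the symplectic groups over the field with 2 elements: for m ≥ 3, every proper subgroup of Sp_2m(2) has index at least 2^(m−1)(2^m − 1), and that index is attained. -/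
theorem result {F : Type*} [Field F] [Fintype F] (hF : Fintype.card F = 2) (m : ℕ) (hm : 3 ≤ m) : (∀ H : Subgroup (Cfsg.PSp m F), H ≠ ⊤ → 2 ^ (m - 1) * (2 ^ m - 1) ≤ H.index) ∧ (∃ H : Subgroup (Cfsg.PSp m F), H.index = 2 ^ (m - 1) * (2 ^ m - 1)) := by
  constructor
  · intro H hH
    rw [← Subgroup.index_comap_of_surjective H (QuotientGroup.mk'_surjective _)]
    refine lower hF m hm _ fun h => hH ?_
    rw [← Subgroup.map_comap_eq_self_of_surjective (QuotientGroup.mk'_surjective _) H, h,
      Subgroup.map_top_of_surjective _ (QuotientGroup.mk'_surjective _)]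
  · obtain ⟨K, hK⟩ := upper hF m hm
    refine ⟨K.map (QuotientGroup.mk' _), ?_⟩
    rw [Subgroup.index_map_eq K (QuotientGroup.mk'_surjective _), hK]
    rw [QuotientGroup.ker_mk']
    intro A hA
    have hA1 : A = 1 := by
      apply Subtype.ext
      rcases CfsgLib.Sp.mem_center_iff.1 hA with h | h
      · exact h
      · rw [h]
        ext i j
        show -((1 : Matrix _ _ F) i j) = _
        rw [Submonoid.coe_one]
        exact neg_eq_of_add_eq_zero_left (add_self' hF _)
    rw [hA1]
    exact K.one_mem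

end Cfsg.Agent.S2142
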