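import Cfsg.Statements.S2146
import Cfsg.Agent.Lib.MinIndexOrth.FormsSmall
import Cfsg.Agent.Lib.MinIndexOrth2.Index

set_option autoImplicit false
open Cfsg

namespace Cfsg.Agent.S2146

open CfsgLib.MinIndexOrth CfsgLib.MinIndexOrth2 CfsgLib.Orth CfsgLib.ClassicalGroups

/-- Minimal index of a proper subgroup of the even-dimensional orthogonal groups of plus type over the field with 2 elements: for m ≥ 4, every proper subgroup of Ω⁺_2m(2) (for the form Σ xᵢyᵢ) has index at least 2^(m−1)(2^m − 1), and that index is attained. -/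
theorem result {F : Type*} [Field F] [Fintype F] (hF : Fintype.card F = 2) (m : ℕ) (hm : 4 ≤ m) : (∀ H : Subgroup (Cfsg.POmega F (Cfsg.quadFormPlus m F)), H ≠ ⊤ → 2 ^ (m - 1) * (2 ^ m - 1) ≤ H.index) ∧ (∃ H : Subgroup (Cfsg.POmega F (Cfsg.quadFormPlus m F)), H.index = 2 ^ (m - 1) * (2 ^ m - 1)) := by
  obtain ⟨j, rfl⟩ : ∃ j, m = j + 3 := ⟨m - 3, by omega⟩
  rw [show j + 3 - 1 = j + 2 by omega]
  set N := 2 ^ (j + 2) * (2 ^ (j + 3) - 1) with hN
  obtain ⟨hB, hz, hpos, hcnt, hone⟩ := plus_two_data hF j (by omega) (by omega) hN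
  set S := plusSpace F (j + 3) (show 4 ≤ j + 3 by omega)
  have h8 : 8 ≤ Fintype.card (Fin (j + 3) ⊕ Fin (j + 3)) := by simp; omega
  have hA : 2 ≤ 2 ^ j := by
    calc 2 = 2 ^ 1 := rfl
      _ ≤ 2 ^ j := Nat.pow_le_pow_right (by norm_num) (by omega)
  have key : (∀ H : Subgroup (Cfsg.POmega F ⇑S.Q), H ≠ ⊤ → N ≤ H.index) ∧
      ∃ H : Subgroup (Cfsg.POmega F ⇑S.Q), H.index = N := by
    refine ⟨Space2.index_ge_two S hF hB h8 ?_ ?_ (fun _ => hone),
      S.exists_index_ns one_ne_zero hpos (by rw [hz, card_sqrt_two hF, one_mul])⟩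
    · intro p hp hp0
      obtain ⟨h1, h2⟩ := hcnt p 1 hp hp0 one_ne_zero
      nlinarith
    · intro p hp hp0
      obtain ⟨h1, h2⟩ := hcnt p 1 hp hp0 one_ne_zero
      have : 2 ^ (Fintype.card (Fin (j + 3) ⊕ Fin (j + 3)) - 2) = 16 * (2 ^ j) ^ 2 := by
        rw [show Fintype.card (Fin (j + 3) ⊕ Fin (j + 3)) - 2 = 4 + 2 * j by simp; omega, pow_add,
          pow_mul' 2 2 j]
        rfl
      rw [this]
      omega
  have e : (⇑S.Q : (Fin (j + 3) ⊕ Fin (j + 3) → F) → F) = Cfsg.quadFormPlus (j + 3) F :=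
    plusQ_coe (j + 3)
  rw [e] at key
  exact key

end Cfsg.Agent.S2146
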