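import Cfsg.Statements.S2150
import Cfsg.Agent.Lib.KnownSimple.PSUFour.Main
import Cfsg.Agent.Lib.KnownSimple.UnitaryPSU
import Cfsg.Agent.Lib.H82.UFourThreeNorm

set_option autoImplicit false
open Cfsg

namespace Cfsg.Agent.S2150

open CfsgLib.KnownSimple.Unitary CfsgLib.KnownSimple.UFour CfsgLib.ClassicalGroups

theorem no_index_81 {K : Type*} [Field K] [Fintype K] {q : ℕ} (hq : q = 3) (hK : Fintype.card K = q ^ 2)
    (H : Subgroup (Cfsg.PSU 4 K q)) (hH : H.index = 81) : False := by
  subst hq
  replace hK : Fintype.card K = 9 := hK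
  classical
  have : CharP K 3 := by
    obtain ⟨p, hc⟩ := CharP.exists K
    obtain ⟨n, hp, hn⟩ := FiniteField.card K p
    have h3 : p ∣ 3 ^ 2 := by
      rw [show (3 : ℕ) ^ 2 = 9 from rfl, ← hK, hn]; exact dvd_pow_self p n.pos.ne'
    obtain rfl := (Nat.prime_dvd_prime_iff_eq hp Nat.prime_three).mp (hp.dvd_of_dvd_pow h3)
    exact hc
  have : Fact (Nat.Prime 7) := ⟨by norm_num⟩
  have hG := CfsgLib.UFourThree82.card_psu (K := K) hK
  have : Finite (Cfsg.PSU 4 K 3) := Nat.finite_of_card_ne_zero (by rw [hG]; norm_num)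
  have hcard : Nat.card H = 40320 := by
    have := H.card_mul_index
    rw [hH, hG] at this
    omega
  obtain ⟨P⟩ : Nonempty (Sylow 7 H) := inferInstance
  have hP : Nat.card P = 7 := by
    rw [P.card_eq_multiplicity, hcard, show (40320 : ℕ) = 7 * 5760 from rfl,
      Nat.factorization_mul (by norm_num) (by norm_num), Finsupp.add_apply,
      Nat.Prime.factorization_self (by norm_num), Nat.factorization_eq_zero_of_not_dvd (by norm_num)]
    norm_num
  set X := (P : Subgroup H).map H.subtype
  have hX : Nat.card X = 7 := by rw [Subgroup.card_map_of_injective H.subtype_injective]; exact hP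
  obtain ⟨hN, -⟩ := CfsgLib.UFourThree82.normalizer_seven hK X hX
  have hle : (Subgroup.normalizer (P : Set H)).map H.subtype ≤
      Subgroup.normalizer (X : Set (Cfsg.PSU 4 K 3)) := Subgroup.le_normalizer_map H.subtype
  have hdvd := Subgroup.card_dvd_of_le hle
  rw [Subgroup.card_map_of_injective H.subtype_injective, hN] at hdvd
  have hmod := card_sylow_modEq_one 7 H
  have hidx := Subgroup.card_mul_index (Subgroup.normalizer (P : Set H))
  rw [← P.card_eq_index_normalizer, hcard] at hidx
  generalize Nat.card (Sylow 7 H) = n at hmod hidx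
  generalize Nat.card ↥(Subgroup.normalizer (P : Set H)) = m at hdvd hidx
  have hm : m ≤ 21 := Nat.le_of_dvd (by norm_num) hdvd
  unfold Nat.ModEq at hmod
  interval_cases m <;> omega


/-- Minimal index of a proper subgroup of the four-dimensional unitary groups: for a field F with q² elements, every proper subgroup of PSU₄(q) has index at least (q + 1)(q³ + 1), and that index is attained. -/
theorem result {F : Type*} [Field F] [Fintype F] (q : ℕ) (hF : Fintype.card F = q ^ 2) (hq : 2 ≤ q) : (∀ H : Subgroup (Cfsg.PSU 4 F q), H ≠ ⊤ → (q + 1) * (q ^ 3 + 1) ≤ H.index) ∧ (∃ H : Subgroup (Cfsg.PSU 4 F q), H.index = (q + 1) * (q ^ 3 + 1)) := by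
  classical
  set D := stdData hF 4 with hD
  have dim : Module.finrank F (Fin 4 → F) = 4 := Module.finrank_fin_fun F
  have hI : (D.normSet (⊤ : Submodule F (Fin 4 → F)) 0).ncard =
      (D.q ^ 2 - 1) * (D.q ^ 2 + 1) * (D.q ^ 3 + 1) := by
    have h0 : (insert 0 (D.normSet (⊤ : Submodule F (Fin 4 → F)) 0)).ncard =
        (D.normSet (⊤ : Submodule F (Fin 4 → F)) 0).ncard + 1 :=
      Set.ncard_insert_of_notMem (fun h => h.2.1 rfl) (Set.toFinite _)
    have h1 : insert 0 (D.normSet (⊤ : Submodule F (Fin 4 → F)) 0) =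
        {v : Fin 4 → F | Cfsg.hermForm 4 F q v v = 0} := by
      ext v
      constructor
      · rintro (rfl | h)
        · exact D.zero_left 0
        · exact h.2.2
      · intro h
        by_cases hv : v = 0
        · exact Or.inl hv
        · exact Or.inr ⟨trivial, hv, h⟩
    rw [h1, ← Nat.card_coe_set_eq] at h0
    have h2 := herm_count_zero hF 3
    rw [if_neg (by decide)] at h2
    have h3 : (D.normSet (⊤ : Submodule F (Fin 4 → F)) 0).ncard = (q ^ 4 - 1) * (q ^ 3 + 1) :=
      Nat.add_right_cancel (h0.symm.trans h2)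
    show _ = (q ^ 2 - 1) * (q ^ 2 + 1) * (q ^ 3 + 1)
    rw [h3, mul_comm (q ^ 2 - 1), ← Nat.sq_sub_sq, one_pow, ← pow_mul]
  have hgen : D.SUgrp ≤ D.tgam ⊤ := suGen_le hF (by norm_num) (by omega)
  let e := suEquiv hF 4
  let π := QuotientGroup.mk' (Subgroup.center (Cfsg.SU 4 F q))
  have hsurj : Function.Surjective π := QuotientGroup.mk'_surjective _
  constructor
  · intro H hH
    set H' := (H.comap π).map e.toMonoidHom
    have hne : H' ≠ ⊤ := by
      intro h
      apply hH
      rw [← Subgroup.map_top_of_surjective e.toMonoidHom e.surjective,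
        (Subgroup.map_injective (f := e.toMonoidHom) e.injective).eq_iff] at h
      rw [← Subgroup.map_comap_eq_self_of_surjective hsurj H, h, Subgroup.map_top_of_surjective _ hsurj]
    have hidx : H'.index = H.index := by
      rw [Subgroup.index_map_of_bijective e.bijective, Subgroup.index_comap_of_surjective H hsurj]
    by_contra hlt
    push Not at hlt
    have : Finite ((Fin 4 → F) ≃ₗ[F] (Fin 4 → F)) :=
      Finite.of_injective (fun g : (Fin 4 → F) ≃ₗ[F] (Fin 4 → F) => (g : (Fin 4 → F) → (Fin 4 → F)))
        (fun g g' h => LinearEquiv.ext (congrFun h))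
    have hd : Nat.card (D.SUgrp ⧸ H') < (D.q + 1) * (D.q ^ 3 + 1) := by
      rw [← Subgroup.index_eq_card, hidx]; exact hlt
    have hfix : ∀ ω : D.SUgrp ⧸ H', ∃ g : D.SUgrp, g • ω ≠ ω := by
      intro ω
      by_contra hc
      push Not at hc
      refine hne (Subgroup.index_eq_one.mp ?_)
      rw [Subgroup.index_eq_card, Nat.card_eq_one_iff_exists]
      refine ⟨ω, fun y => ?_⟩
      obtain ⟨g, rfl⟩ := MulAction.exists_smul_eq D.SUgrp ω y
      exact hc g
    have hq' : D.q = q := rfl
    have hdiv := Subgroup.index_dvd_card H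
    have hS := card_SU_mul hF (n := 4) (by norm_num)
    rw [card_GU hF, card_SU_eq_center_mul_PSU, card_center_SU hF (by norm_num)] at hS
    rcases small_degree (D := D) dim hI hgen hfix ((1 : D.SUgrp) : D.SUgrp ⧸ H') hd with
      ⟨hq3, hc⟩ | ⟨hq3, hc⟩
    · rw [← Subgroup.index_eq_card, hidx] at hc
      rw [hq'] at hq3 hc
      generalize Nat.card (Cfsg.PSU 4 F q) = G at hS hdiv
      generalize H.index = j at hc hdiv
      rcases (by omega : q = 2 ∨ q = 3) with h | h
      · rw [h] at hS hc
        norm_num [Finset.prod_range_succ, Nat.even_iff] at hS hc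
        rw [show G = 25920 by omega, show j = 26 by omega] at hdiv
        norm_num at hdiv
      · rw [h] at hS hc
        norm_num [Finset.prod_range_succ, Nat.even_iff] at hS hc
        rw [show G = 3265920 by omega, show j = 111 by omega] at hdiv
        norm_num at hdiv
    · rw [← Subgroup.index_eq_card, hidx] at hc
      rw [hq'] at hq3
      exact no_index_81 hq3 hF H hc
  · obtain ⟨H, hH, hZ⟩ := exists_line_index (D := D) dim hI
    refine ⟨(H.comap e.toMonoidHom).map π, ?_⟩
    rw [Subgroup.index_map, QuotientGroup.ker_mk', MonoidHom.range_eq_top.mpr hsurj, Subgroup.index_top,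
      mul_one, sup_of_le_left, Subgroup.index_comap_of_surjective H e.surjective, hH]
    · rfl
    intro z hz
    refine hZ (Subgroup.mem_center_iff.mpr fun g => ?_)
    obtain ⟨g, rfl⟩ := e.surjective g
    show e g * e z = e z * e g
    rw [← map_mul, ← map_mul, Subgroup.mem_center_iff.mp hz g]

end Cfsg.Agent.S2150
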