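import Cfsg.Statements.S2151
import Cfsg.Agent.Lib.KnownSimple.UnitaryFiveTwo
import Cfsg.Agent.S0278
-- import your own Cfsg.Agent.* helpers here

set_option autoImplicit false
open Cfsg

namespace Cfsg.Agent.S2151

/-- Minimal index of a proper subgroup of the unitary groups of odd dimension n ≥ 5: for a field F with q² elements, every proper subgroup of PSU_n(q) has index at least (q^n + 1)(q^(n−1) − 1)/(q² − 1), and that index is attained. -/
theorem result {F : Type*} [Field F] [Fintype F] (q : ℕ) (hF : Fintype.card F = q ^ 2) (hq : 2 ≤ q) (n : ℕ) (hn : 5 ≤ n) (hodd : Odd n) : (∀ H : Subgroup (Cfsg.PSU n F q), H ≠ ⊤ → (q ^ n + 1) * (q ^ (n - 1) - 1) / (q ^ 2 - 1) ≤ H.index) ∧ (∃ H : Subgroup (Cfsg.PSU n F q), H.index = (q ^ n + 1) * (q ^ (n - 1) - 1) / (q ^ 2 - 1)) := by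
  obtain ⟨k, rfl⟩ : ∃ k, n = k + 2 := ⟨n - 2, by omega⟩
  have hk : Odd k := by
    obtain ⟨j, hj⟩ := hodd
    exact ⟨j - 1, by omega⟩
  obtain ⟨h1, h2⟩ := CfsgLib.KnownSimple.Unitary.count_odd hq hk rfl
  have hdim : Module.finrank F (Fin (k + 2) → F) = k + 2 := Module.finrank_fin_fun F
  have hk' : Even (k + 1) := hk.add_one
  generalize hN : (q ^ (k + 2) + 1) * (q ^ (k + 2 - 1) - 1) / (q ^ 2 - 1) = N at h1 h2 ⊢
  have hN0 : (q ^ 2 - 1) * N + 1 =
      Nat.card {v : Fin (k + 2) → F // Cfsg.hermForm (k + 2) F q v v = 0} := by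
    rw [h1, CfsgLib.ClassicalGroups.herm_count_zero hF (k + 1), if_pos hk']
  by_cases hsmall : q = 2 ∧ k = 3
  · obtain ⟨rfl, rfl⟩ := hsmall
    obtain rfl : N = 165 := by norm_num at h1; omega
    refine CfsgLib.KnownSimple.Unitary.psu_of_index_ge hF 3 le_rfl 165 hN0 fun hI H hH => ?_
    refine CfsgLib.KnownSimple.Unitary.HermData.index_ge_five_two rfl hdim
      (CfsgLib.KnownSimple.Unitary.suGen_le hF (by norm_num) (by norm_num)) ?_ hI.symm H hH
    rw [← Nat.card_congr (CfsgLib.KnownSimple.Unitary.suEquiv hF 5).toEquiv]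
    have h := Cfsg.Agent.S0278.result hF 5 (by norm_num)
    simp [Finset.prod_range_succ, Nat.even_iff] at h
    omega
  have hk3 : 3 ≤ k := by omega
  have hk5 : k ≠ 3 → 5 ≤ k := by
    obtain ⟨j, hj⟩ := hk
    omega
  refine CfsgLib.KnownSimple.Unitary.psu_min_index hF k hk3 ?_ N hN0
    (h2.trans (by rw [← mul_assoc]; exact Nat.mul_le_mul_right _ (by omega))) ?_ ?_
  · by_cases hq3 : 3 ≤ q
    · exact Or.inl hq3
    · have := hk5 (fun h => hsmall ⟨by omega, h⟩)
      exact Or.inr ⟨by omega, Or.inr this⟩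
  · intro b hb hb0
    by_cases hq3 : 3 ≤ q
    · exact CfsgLib.KnownSimple.Unitary.normSet_big _ hq3 hdim h2 hb
    obtain rfl : q = 2 := by omega
    obtain rfl : b = 1 := by
      change b ^ 2 = b at hb
      exact mul_left_cancel₀ hb0 (by rw [mul_one, ← pow_two, hb])
    have hS : (CfsgLib.KnownSimple.Unitary.stdData hF (k + 2)).normSet ⊤ 1 =
        {v : Fin (k + 2) → F | Cfsg.hermForm (k + 2) F 2 v v = 1} := by
      ext v
      refine ⟨fun h => h.2.2, fun h => ⟨trivial, fun h0 => ?_, h⟩⟩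
      have h' : (CfsgLib.KnownSimple.Unitary.stdData hF (k + 2)).h v v = 1 := h
      rw [h0, CfsgLib.KnownSimple.Unitary.HermData.zero_left] at h'
      exact zero_ne_one h'
    rw [hS, ← Nat.card_coe_set_eq]
    refine le_of_le_of_eq ?_ (CfsgLib.ClassicalGroups.herm_count_one hF (k + 1)).symm
    rw [if_pos hk']
    have e : (2 + 1) * N = (2 ^ (k + 2) + 1) * (2 ^ (k + 1) - 1) := by rw [← h1]; norm_num
    rw [e, mul_comm]
    exact Nat.mul_le_mul (Nat.sub_le _ _) le_rfl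
  · intro p p' hP
    by_cases hk4 : k = 3
    · subst hk4
      refine CfsgLib.KnownSimple.Unitary.orbB_three _ hdim ?_ hP
      refine Nat.le_of_mul_le_mul_left (h1.le.trans ?_) (show 0 < q ^ 2 - 1 by nlinarith [Nat.sub_pos_of_lt (show 1 < q ^ 2 by nlinarith)])
      show (q ^ 5 + 1) * (q ^ 4 - 1) ≤ (q ^ 2 - 1) * (q ^ 4 * (q ^ 3 + q + 1))
      have e : q ^ 4 - 1 = (q ^ 2 - 1) * (q ^ 2 + 1) := by
        rw [show q ^ 4 = (q ^ 2) ^ 2 by ring, ← one_pow 2, Nat.sq_sub_sq, one_pow, mul_comm]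
      rw [e, mul_left_comm]
      refine Nat.mul_le_mul_left _ ?_
      have hq2 : q ^ 2 + 1 ≤ q ^ 4 := by
        nlinarith [Nat.pow_le_pow_left hq 2]
      ring_nf
      nlinarith
    · exact CfsgLib.KnownSimple.Unitary.orbB_of_four _ hdim (by omega) h2 hP

end Cfsg.Agent.S2151
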