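import Cfsg.Statements.S2152
import Cfsg.Agent.Lib.KnownSimple.UnitaryPSU

set_option autoImplicit false
open Cfsg

namespace Cfsg.Agent.S2152

/-- Minimal index of a proper subgroup of the unitary groups of even dimension n ≥ 6: for a field F with q² elements, q ≥ 3, every proper subgroup of PSU_n(q) has index at least (q^n − 1)(q^(n−1) + 1)/(q² − 1), and that index is attained (the isotropic points). -/
theorem result {F : Type*} [Field F] [Fintype F] (q : ℕ) (hF : Fintype.card F = q ^ 2) (hq : 3 ≤ q) (n : ℕ) (hn : 6 ≤ n) (heven : Even n) : (∀ H : Subgroup (Cfsg.PSU n F q), H ≠ ⊤ → (q ^ n - 1) * (q ^ (n - 1) + 1) / (q ^ 2 - 1) ≤ H.index) ∧ (∃ H : Subgroup (Cfsg.PSU n F q), H.index = (q ^ n - 1) * (q ^ (n - 1) + 1) / (q ^ 2 - 1)) := by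
  obtain ⟨k, rfl⟩ : ∃ k, n = k + 2 := ⟨n - 2, by omega⟩
  have hk : Even k := by simpa [Nat.even_add_one, Nat.even_add] using heven
  obtain ⟨h1, h2⟩ := CfsgLib.KnownSimple.Unitary.count_even hq hk (by omega) rfl
  have hdim : Module.finrank F (Fin (k + 2) → F) = k + 2 := Module.finrank_fin_fun F
  refine CfsgLib.KnownSimple.Unitary.psu_min_index hF k (by omega) (Or.inl hq) _ ?_
    (h2.trans (by rw [← mul_assoc]; exact Nat.mul_le_mul_right _ (by omega)))
    (fun b hb _ => CfsgLib.KnownSimple.Unitary.normSet_big _ hq hdim h2 hb)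
    (CfsgLib.KnownSimple.Unitary.orbB_of_four _ hdim (by omega) h2)
  rw [h1, CfsgLib.ClassicalGroups.herm_count_zero hF (k + 1),
    if_neg (Nat.not_even_iff_odd.mpr hk.add_one)]

end Cfsg.Agent.S2152
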