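import Cfsg.Statements.S2153
import Cfsg.Agent.Lib.KnownSimple.UnitaryAniso
import Cfsg.Agent.S0278
-- import your own Cfsg.Agent.* helpers here

set_option autoImplicit false
open Cfsg

namespace Cfsg.Agent.S2153

/-- Minimal index of a proper subgroup of the unitary groups PSU_n(2) with n divisible by 6, realised over the field with 4 elements: every proper subgroup has index at least 2^(n−1)(2^n − 1)/3, and that index is attained. -/
theorem result {F : Type*} [Field F] [Fintype F] (hF : Fintype.card F = 4) (n : ℕ) (hn : 6 ∣ n) (hpos : 6 ≤ n) : (∀ H : Subgroup (Cfsg.PSU n F 2), H ≠ ⊤ → 2 ^ (n - 1) * (2 ^ n - 1) / 3 ≤ H.index) ∧ (∃ H : Subgroup (Cfsg.PSU n F 2), H.index = 2 ^ (n - 1) * (2 ^ n - 1) / 3) := by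
  obtain ⟨k, rfl⟩ : ∃ k, n = k + 2 := ⟨n - 2, by omega⟩
  rw [show k + 2 - 1 = k + 1 by omega]
  have hdiv : 3 ∣ 2 ^ (k + 2) - 1 := by
    obtain ⟨c, hc⟩ := hn
    rw [hc, show 6 * c = 2 * (3 * c) by ring, pow_mul]
    simpa using Nat.sub_dvd_pow_sub_pow 4 1 (3 * c)
  refine CfsgLib.KnownSimple.Unitary.psu_two_dim_six (hF.trans (by norm_num)) k (by omega) hn _
    (Nat.mul_div_cancel' (hdiv.mul_left _)) ?_
  rintro rfl
  have h := Cfsg.Agent.S0278.result (q := 2) (hF.trans (by norm_num)) 6 (by norm_num)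
  simp [Finset.prod_range_succ, Nat.even_iff] at h
  show Nat.card (Cfsg.SU 6 F 2) = _
  omega

end Cfsg.Agent.S2153
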