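import Cfsg.Statements.S2155
import Cfsg.Agent.Lib.KnownSimple.ChevParabolicRadical
import Cfsg.Agent.Lib.Components.FStar

set_option autoImplicit false
open Cfsg

namespace Cfsg.Agent.S2155

/-- In a Chevalley group of type G₂, B₂, D₄, F₄, E₆, E₇ or E₈ over a finite field of characteristic p (for types G₂ and B₂ the field is assumed to have at least 3 elements, so that the group is simple), the generalized Fitting subgroup of every proper standard parabolic subgroup P_J is a p-group (P_J is p-constrained with trivial largest normal subgroup of order prime to p). -/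
theorem result {F : Type*} [Field F] [Fintype F] (p : ℕ) [Fact p.Prime] [CharP F p] (D : Cfsg.Lie.ChevalleyDatum) (hD : D ∈ [Cfsg.Lie.chevG2, Cfsg.Lie.chevB2, Cfsg.Lie.chevD4, Cfsg.Lie.chevF4, Cfsg.Lie.chevE6, Cfsg.Lie.chevE7, Cfsg.Lie.chevE8]) (hq : (D = Cfsg.Lie.chevG2 ∨ D = Cfsg.Lie.chevB2) → 3 ≤ Fintype.card F) (J : Set ℕ) (hJ : ∃ i, i < D.rank ∧ i ∉ J) : IsPGroup p ↥(Cfsg.generalizedFittingSubgroup ↥(D.parabolicSubgroup F J)) := by
  obtain ⟨C⟩ := CfsgLib.ChevStr.nonempty_chevCore_of_mem hD F
  have hchk := CfsgLib.KnownSimple.ChevRadical.radCheck_of_mem hD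
  set P := D.parabolicSubgroup F J with hP
  set N := (D.unipotentRadical F J).subgroupOf P with hN
  have hnorm : N.Normal := ⟨fun x hx g => Subgroup.mem_subgroupOf.2
    ((Subgroup.mem_normalizer_iff.1 (C.parabolic_le_normalizer g.2) _).1 hx)⟩
  have hNp : IsPGroup p N :=
    (CfsgLib.KnownSimple.ChevRadical.isPGroup_radical (J := J) C p).comap_of_injective
      P.subtype P.subtype_injective
  have hle := CfsgLib.PCore.le_pCore hnorm hNp
  have hcent : Subgroup.centralizer (Cfsg.pCore p P : Set P) ≤ Cfsg.pCore p P := by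
    intro c hc
    refine hle (Subgroup.mem_subgroupOf.2 ?_)
    refine CfsgLib.KnownSimple.ChevRadical.mem_radical_of_centralises C hchk hJ c.2 fun x hx => ?_
    have hxP : x ∈ P := le_sup_left (a := D.borelSubgroup F) (C.radical_le_borel hx)
    have h := congrArg Subtype.val
      (Subgroup.mem_centralizer_iff.1 hc ⟨x, hxP⟩ (hle (Subgroup.mem_subgroupOf.2 hx)))
    simp only [Subgroup.coe_mul] at h
    rw [← h, mul_inv_cancel_right]
  rw [CfsgLib.Components.generalizedFitting_eq_pCore_of_centralizer_le p hcent]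
  exact CfsgLib.PCore.pCore_isPGroup

end Cfsg.Agent.S2155
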