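import Cfsg.Statements.S2159
import Cfsg.Agent.Lib.ChevAut.OutTables

set_option autoImplicit false
open Cfsg

open Cfsg.Lie CfsgLib.ChevAut CfsgLib.ChevStr CfsgLib.KnownSimple

namespace Cfsg.Agent.S2159


set_option maxHeartbeats 1600000 in
/-- Structure of the outer automorphism group of the Chevalley group `G` of type G₂, B₂, D₄, F₄, E₆, E₇ or E₈ over a finite field. Let `D̄` be the image in `Out(G)` of the subgroup generated by the diagonal automorphisms and `F̄` the image of the subgroup generated by the field automorphisms. Then `D̄` is a normal abelian subgroup of `Out(G)`, `F̄` is cyclic, `D̄F̄` is a normal subgroup, and the quotient of `Out(G)` by `D̄F̄` is trivial, of order 2, or non-abelian of order 6 (so isomorphic to the symmetric group on three letters): its index is 1 or 2, or it is 6 with the commutator subgroup of `Out(G)` not inside `D̄F̄`. -/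
theorem result {F : Type*} [Field F] [Finite F] (D : Cfsg.Lie.ChevalleyDatum) (hD : D ∈ [Cfsg.Lie.chevG2, Cfsg.Lie.chevB2, Cfsg.Lie.chevD4, Cfsg.Lie.chevF4, Cfsg.Lie.chevE6, Cfsg.Lie.chevE7, Cfsg.Lie.chevE8])
    (Dbar Fbar : Subgroup (Cfsg.Out ↥(D.group F)))
    (hDbar : Dbar = (Subgroup.closure {φ : MulAut ↥(D.group F) | D.IsDiagonalAut φ}).map (QuotientGroup.mk' (Cfsg.Inn ↥(D.group F))))
    (hFbar : Fbar = (Subgroup.closure {φ : MulAut ↥(D.group F) | D.IsFieldAut φ}).map (QuotientGroup.mk' (Cfsg.Inn ↥(D.group F)))) :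
    Dbar.Normal ∧ IsMulCommutative ↥Dbar ∧ IsCyclic ↥Fbar ∧ (Dbar ⊔ Fbar).Normal ∧
      ((Dbar ⊔ Fbar).index = 1 ∨ (Dbar ⊔ Fbar).index = 2 ∨
        ((Dbar ⊔ Fbar).index = 6 ∧ ¬ commutator (Cfsg.Out ↥(D.group F)) ≤ Dbar ⊔ Fbar)) := by
  classical
  have : Fintype F := Fintype.ofFinite F
  simp only [List.mem_cons, List.not_mem_nil, or_false] at hD
  rcases hD with rfl | rfl | rfl | rfl | rfl | rfl | rfl
  · by_cases h3 : (3 : F) = 0
    · have : CharP F 3 := CharP.ringChar_of_prime_eq_zero Nat.prime_three (R := F) (by exact_mod_cast h3) ▸ ringChar.charP F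
      obtain ⟨a, b, c, d, e, -⟩ := out_structure diagramG2 diagramConnectedG2 (by decide +kernel)
        (fun _ _ _ _ _ _ => h3) chainTableOK_chevG2 graphsG2three Dbar Fbar hDbar hFbar
      exact ⟨a, b, c, d, Or.inr (Or.inl (e.trans ((Nat.card_eq_fintype_card (α := Bool)).trans Fintype.card_bool)))⟩
    · obtain ⟨a, b, c, d, e, -⟩ := out_structure diagramG2 diagramConnectedG2 (by decide +kernel)
        (three_G2 (C := coreG2 F)) chainTableOK_chevG2 (graphsG2ne h3) Dbar Fbar hDbar hFbar
      exact ⟨a, b, c, d, Or.inl (e.trans (Nat.card_unique (α := Unit)))⟩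
  · by_cases h2 : (2 : F) = 0
    · have : CharP F 2 := CharP.ringChar_of_prime_eq_zero Nat.prime_two (R := F) (by exact_mod_cast h2) ▸ ringChar.charP F
      obtain ⟨a, b, c, d, e, -⟩ := out_structure diagramB2 diagramConnectedB2 (by decide +kernel)
        (fun φ S i k _ h => absurd h (ne_neg_three_B2 _ _)) chainTableOK_chevB2 graphsB2two Dbar Fbar hDbar hFbar
      exact ⟨a, b, c, d, Or.inr (Or.inl (e.trans ((Nat.card_eq_fintype_card (α := Bool)).trans Fintype.card_bool)))⟩
    · obtain ⟨a, b, c, d, e, -⟩ := out_structure diagramB2 diagramConnectedB2 (by decide +kernel)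
        (fun φ S i k _ h => absurd h (ne_neg_three_B2 _ _)) chainTableOK_chevB2 (graphsB2odd h2) Dbar Fbar hDbar hFbar
      exact ⟨a, b, c, d, Or.inl (e.trans (Nat.card_unique (α := Unit)))⟩
  · obtain ⟨a, b, c, d, e, f⟩ := out_structure diagramD4 diagramConnectedD4 (by decide +kernel)
      (fun φ S i k _ h => absurd h (ne_neg_three_D4 _ _)) chainTableOK_chevD4 graphsD4 Dbar Fbar hDbar hFbar
    refine ⟨a, b, c, d, Or.inr (Or.inr ⟨e.trans card_symD4, ?_⟩)⟩
    exact f ⟨permD4a, permD4_sym.1⟩ ⟨permD4c, permD4_sym.2.1⟩ graphExp_D4 permD4_sym.2.2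
  · by_cases h2 : (2 : F) = 0
    · have : CharP F 2 := CharP.ringChar_of_prime_eq_zero Nat.prime_two (R := F) (by exact_mod_cast h2) ▸ ringChar.charP F
      obtain ⟨a, b, c, d, e, -⟩ := out_structure diagramF4 diagramConnectedF4 (by decide +kernel)
        (fun φ S i k _ h => absurd h (ne_neg_three_F4 _ _)) chainTableOK_chevF4 graphsF4two Dbar Fbar hDbar hFbar
      exact ⟨a, b, c, d, Or.inr (Or.inl (e.trans ((Nat.card_eq_fintype_card (α := Bool)).trans Fintype.card_bool)))⟩
    · obtain ⟨a, b, c, d, e, -⟩ := out_structure diagramF4 diagramConnectedF4 (by decide +kernel)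
        (fun φ S i k _ h => absurd h (ne_neg_three_F4 _ _)) chainTableOK_chevF4 (graphsF4odd h2) Dbar Fbar hDbar hFbar
      exact ⟨a, b, c, d, Or.inl (e.trans (Nat.card_unique (α := Unit)))⟩
  · obtain ⟨a, b, c, d, e, -⟩ := out_structure diagramE6 diagramConnectedE6 (by decide +kernel)
      (fun φ S i k _ h => absurd h (ne_neg_three_E6 _ _)) chainTableOK_chevE6 (graphsE6 (coreE6 F)) Dbar Fbar hDbar hFbar
    exact ⟨a, b, c, d, Or.inr (Or.inl (e.trans ((Nat.card_eq_fintype_card (α := Bool)).trans Fintype.card_bool)))⟩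
  · obtain ⟨a, b, c, d, e, -⟩ := out_structure diagramE7 diagramConnectedE7 (by decide +kernel)
      (fun φ S i k _ h => absurd h (ne_neg_three_E7 _ _)) chainTableOK_chevE7
      (trivialGraphs (coreE7 F) fun φ hφ S => perm_one_of_syms _ diagramE7 (by decide +kernel) hφ S)
      Dbar Fbar hDbar hFbar
    exact ⟨a, b, c, d, Or.inl (e.trans (Nat.card_unique (α := Unit)))⟩
  · obtain ⟨a, b, c, d, e, -⟩ := out_structure diagramE8 diagramConnectedE8 (by decide +kernel)
      (fun φ S i k _ h => absurd h (ne_neg_three_E8 _ _)) chainTableOK_chevE8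
      (trivialGraphs (coreE8 F) fun φ hφ S => perm_one_of_syms _ diagramE8 (by decide +kernel) hφ S)
      Dbar Fbar hDbar hFbar
    exact ⟨a, b, c, d, Or.inl (e.trans (Nat.card_unique (α := Unit)))⟩

end Cfsg.Agent.S2159
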