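import Cfsg.Statements.S2162
import Cfsg.Agent.Lib.KnownSimple.SquareZero

set_option autoImplicit false
open Cfsg

namespace Cfsg.Agent.S2162

/-- Conjugacy of involutions in the special linear group over a finite field of characteristic two, in dimension at least 3: two elements of order 2 of SL_n(F) are conjugate in SL_n(F) exactly when the matrices a − 1 and b − 1 have the same rank (the rank of a − 1 is the dimension of the commutator space [V, a]). -/
theorem result {F : Type*} [Field F] [Fintype F] [CharP F 2] {n : ℕ} (hn : 3 ≤ n) (a b : Matrix.SpecialLinearGroup (Fin n) F) (ha : orderOf a = 2) (hb : orderOf b = 2) :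
    IsConj a b ↔ ((a : Matrix (Fin n) (Fin n) F) - 1).rank = ((b : Matrix (Fin n) (Fin n) F) - 1).rank := by
  constructor
  · intro h
    obtain ⟨c, hc⟩ := isConj_iff.mp h
    set A : Matrix (Fin n) (Fin n) F := (a : Matrix (Fin n) (Fin n) F)
    set C : Matrix (Fin n) (Fin n) F := (c : Matrix (Fin n) (Fin n) F)
    set C' : Matrix (Fin n) (Fin n) F := ((c⁻¹ : Matrix.SpecialLinearGroup (Fin n) F) : Matrix (Fin n) (Fin n) F)
    have hb' : (b : Matrix (Fin n) (Fin n) F) = C * A * C' := by
      rw [← hc]; simp only [Matrix.SpecialLinearGroup.coe_mul]; rfl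
    have hCC : C * C' = 1 := by
      have := congrArg (fun x : Matrix.SpecialLinearGroup (Fin n) F => (x : Matrix (Fin n) (Fin n) F)) (mul_inv_cancel c)
      simpa only [Matrix.SpecialLinearGroup.coe_mul, Matrix.SpecialLinearGroup.coe_one] using this
    have e : (b : Matrix (Fin n) (Fin n) F) - 1 = C * (A - 1) * C' := by
      rw [Matrix.mul_sub, Matrix.sub_mul, Matrix.mul_one, hCC, hb']
    have hC : IsUnit C.det := by rw [show C.det = 1 from c.2]; exact isUnit_one
    have hC' : IsUnit C'.det := by rw [show C'.det = 1 from (c⁻¹).2]; exact isUnit_one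
    rw [e, Matrix.rank_mul_eq_left_of_isUnit_det C' _ hC', Matrix.rank_mul_eq_right_of_isUnit_det C _ hC]
  · intro hr
    have key : ∀ x : Matrix.SpecialLinearGroup (Fin n) F, orderOf x = 2 →
        ((x : Matrix (Fin n) (Fin n) F) - 1) * ((x : Matrix (Fin n) (Fin n) F) - 1) = 0 := by
      intro x hx
      have h := pow_orderOf_eq_one x
      rw [hx, sq] at h
      have h' := congrArg (fun y : Matrix.SpecialLinearGroup (Fin n) F => (y : Matrix (Fin n) (Fin n) F)) h
      simp only [Matrix.SpecialLinearGroup.coe_mul, Matrix.SpecialLinearGroup.coe_one] at h'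
      rw [sub_mul, mul_sub, mul_sub, mul_one, one_mul, one_mul, h']
      ext i j
      simp only [Matrix.sub_apply, Matrix.zero_apply, CharTwo.sub_eq_add]
      rw [add_add_add_comm, add_comm ((1 : Matrix (Fin n) (Fin n) F) i j)]
      exact CharTwo.add_self_eq_zero _
    set N := Matrix.toLin' ((a : Matrix (Fin n) (Fin n) F) - 1) with hN
    set M := Matrix.toLin' ((b : Matrix (Fin n) (Fin n) F) - 1) with hM
    have hN0 : N ≠ 0 := by
      intro h
      have h' : (a : Matrix (Fin n) (Fin n) F) - 1 = 0 := Matrix.toLin'.map_eq_zero_iff.mp h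
      have : a = 1 := Subtype.ext (by simpa using sub_eq_zero.mp h')
      rw [this, orderOf_one] at ha
      omega
    obtain ⟨g, hdet, hg⟩ := CfsgLib.KnownSimple.squareZero_conj_det_one N M
      (by rw [hN, ← Matrix.toLin'_mul, key a ha, map_zero]) (by rw [hM, ← Matrix.toLin'_mul, key b hb, map_zero])
      hr hN0
    have hGdet : (LinearMap.toMatrix' g.toLinearMap).det = 1 := by
      rw [LinearMap.det_toMatrix', hdet]
    let c : Matrix.SpecialLinearGroup (Fin n) F := ⟨LinearMap.toMatrix' g.toLinearMap, hGdet⟩
    have hcomm : c * a = b * c := by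
      apply Subtype.ext
      simp only [Matrix.SpecialLinearGroup.coe_mul]
      show LinearMap.toMatrix' g.toLinearMap * (a : Matrix (Fin n) (Fin n) F) = (b : Matrix (Fin n) (Fin n) F) * LinearMap.toMatrix' g.toLinearMap
      apply Matrix.toLin'.injective
      rw [Matrix.toLin'_mul, Matrix.toLin'_mul, Matrix.toLin'_toMatrix']
      ext v
      have h := hg (Pi.single v 1)
      simp only [hN, hM, map_sub, Matrix.toLin'_one, LinearMap.sub_apply, LinearMap.id_apply] at h
      exact congrFun (sub_left_injective h) _
    exact isConj_iff.mpr ⟨c, by rw [hcomm, mul_inv_cancel_right]⟩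

end Cfsg.Agent.S2162
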