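import Cfsg.Statements.S2163


set_option autoImplicit false
open Cfsg

namespace Cfsg.Agent.S2163

/-- Over a finite field of characteristic two and for n ≥ 3: for every ℓ with 1 ≤ ℓ and 2ℓ ≤ n, the matrix j_ℓ that is the identity plus the entries 1 in positions (n − ℓ + i, i) for i < ℓ (an identity block of size ℓ in the lower left corner) lies in SL_n(F), has order 2, and j_ℓ − 1 has rank ℓ. Together with the conjugacy criterion by rank, these matrices represent the conjugacy classes of involutions of SL_n(F). -/
theorem result {F : Type*} [Field F] [Fintype F] [CharP F 2] {n : ℕ} (hn : 3 ≤ n) (ℓ : ℕ) (h1 : 1 ≤ ℓ) (h2 : 2 * ℓ ≤ n) :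
    ∃ a : Matrix.SpecialLinearGroup (Fin n) F, (a : Matrix (Fin n) (Fin n) F) = 1 + Matrix.of (fun i j : Fin n => if j.val < ℓ ∧ i.val = j.val + (n - ℓ) then (1 : F) else 0) ∧ orderOf a = 2 ∧ ((a : Matrix (Fin n) (Fin n) F) - 1).rank = ℓ := by
  set f : Fin ℓ → Fin n := fun k => ⟨k.val, by omega⟩ with hfdef
  set g : Fin ℓ → Fin n := fun k => ⟨k.val + (n - ℓ), by omega⟩ with hgdef
  set P : Matrix (Fin ℓ) (Fin n) F := (1 : Matrix (Fin n) (Fin n) F).submatrix f id with hP
  set Q : Matrix (Fin ℓ) (Fin n) F := (1 : Matrix (Fin n) (Fin n) F).submatrix g id with hQ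
  have hf : Function.Injective f := by
    intro a b h; simp [hfdef, Fin.ext_iff] at h; exact Fin.ext h
  have hg : Function.Injective g := by
    intro a b h; simp [hgdef, Fin.ext_iff] at h; exact Fin.ext h
  have hN : Matrix.of (fun i j : Fin n => if j.val < ℓ ∧ i.val = j.val + (n - ℓ) then (1 : F) else 0)
      = Q.transpose * P := by
    ext i j
    simp only [Matrix.of_apply, Matrix.mul_apply, hP, hQ, Matrix.transpose_apply,
      Matrix.submatrix_apply, Matrix.one_apply, id]
    by_cases hj : j.val < ℓ ∧ i.val = j.val + (n - ℓ)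
    · rw [if_pos hj, Finset.sum_eq_single ⟨j.val, hj.1⟩]
      · simp [hfdef, hgdef, Fin.ext_iff, hj.2]
      · intro b _ hb
        have : f b ≠ j := by
          intro h; apply hb; simp [hfdef, Fin.ext_iff] at h; exact Fin.ext h
        simp [this]
      · simp
    · rw [if_neg hj, eq_comm]
      apply Finset.sum_eq_zero
      intro b _
      by_cases h : g b = i ∧ f b = j
      · exfalso; apply hj
        obtain ⟨rfl, rfl⟩ := h
        exact ⟨b.isLt, rfl⟩
      · rcases not_and_or.mp h with h | h <;> simp [h]
  have orth : ∀ (e e' : Fin ℓ → Fin n), ((1 : Matrix (Fin n) (Fin n) F).submatrix e id) *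
      ((1 : Matrix (Fin n) (Fin n) F).submatrix e' id).transpose
        = (1 : Matrix (Fin n) (Fin n) F).submatrix e e' := by
    intro e e'
    ext i j
    simp [Matrix.mul_apply, Matrix.one_apply]
  have hPP : P * P.transpose = 1 := by rw [hP, orth, Matrix.submatrix_one f hf]
  have hQQ : Q * Q.transpose = 1 := by rw [hQ, orth, Matrix.submatrix_one g hg]
  have hPQ : P * Q.transpose = 0 := by
    rw [hP, hQ, orth]
    ext i j
    simp [Matrix.one_apply, hfdef, hgdef, Fin.ext_iff]
    omega
  set N := Q.transpose * P with hNdef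
  have hNN : N * N = 0 := by
    rw [hNdef, Matrix.mul_assoc, ← Matrix.mul_assoc P, hPQ, Matrix.zero_mul, Matrix.mul_zero]
  have hdet : (1 + N).det = 1 := by
    rw [Matrix.det_of_lowerTriangular (1 + N)]
    · apply Finset.prod_eq_one
      intro i _
      rw [← hN]
      simp
      omega
    · intro i j hij
      have hlt : i < j := hij
      have hlt' : i.val < j.val := hlt
      rw [← hN]
      simp [ne_of_lt hlt]
      omega
  have hrank : N.rank = ℓ := by
    apply le_antisymm
    · exact (Matrix.rank_mul_le_right _ _).trans ((Matrix.rank_le_card_height _).trans (by simp))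
    · have h1' : Q * N * P.transpose = 1 := by
        rw [hNdef, ← Matrix.mul_assoc, hQQ, Matrix.one_mul, hPP]
      have := (Matrix.rank_mul_le_left (Q * N) P.transpose).trans (Matrix.rank_mul_le_right Q N)
      rwa [h1', Matrix.rank_one, Fintype.card_fin] at this
  let a : Matrix.SpecialLinearGroup (Fin n) F := ⟨1 + N, hdet⟩
  refine ⟨a, by rw [hN], ?_, ?_⟩
  case refine_2 =>
    show (1 + N - 1).rank = ℓ
    rw [add_sub_cancel_left]
    exact hrank
  rw [orderOf_eq_iff (by norm_num)]
  constructor
  · apply Subtype.ext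
    rw [Matrix.SpecialLinearGroup.coe_pow, sq, Matrix.SpecialLinearGroup.coe_one]
    show (1 + N) * (1 + N) = 1
    rw [add_mul, one_mul, mul_add, mul_one, hNN, add_zero, add_assoc]
    rw [show N + N = 0 by ext i j; simp [CharTwo.add_self_eq_zero]]
    simp
  · intro m hm hm0
    interval_cases m
    rw [pow_one]
    intro h
    have : (1 + N) = 1 := congrArg Subtype.val h
    have hN0 : N = 0 := by simpa using this
    rw [hN0, Matrix.rank_zero] at hrank
    omega

end Cfsg.Agent.S2163
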