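import Cfsg.Statements.S2165


set_option autoImplicit false
open Cfsg

namespace Cfsg.Agent.S2165

/-- In SU_n(q), q even, n ≥ 3 (matrices of determinant 1 over the field with q² elements preserving Σ u_i v_i^q): for every ℓ with 1 ≤ ℓ and 2ℓ ≤ n, the permutation matrix of the involution of {0, …, n−1} exchanging i and n − ℓ + i for each i < ℓ lies in SU_n(q), has order 2, and differs from the identity by a matrix of rank ℓ. So every rank between 1 and n/2 occurs for involutions of SU_n(q). -/
theorem result {F : Type*} [Field F] [Fintype F] [CharP F 2] {n q : ℕ} (hF : Fintype.card F = q ^ 2) (hn : 3 ≤ n) (ℓ : ℕ) (h1 : 1 ≤ ℓ) (h2 : 2 * ℓ ≤ n) :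
    ∃ a : ↥(Cfsg.SU n F q), (((a : Matrix.SpecialLinearGroup (Fin n) F) : Matrix (Fin n) (Fin n) F) = Matrix.of (fun i j : Fin n => if (j.val < ℓ ∧ i.val = j.val + (n - ℓ)) ∨ (i.val < ℓ ∧ j.val = i.val + (n - ℓ)) ∨ (i = j ∧ ℓ ≤ i.val ∧ i.val < n - ℓ) then (1 : F) else 0)) ∧ orderOf a = 2 ∧ ((((a : Matrix.SpecialLinearGroup (Fin n) F) : Matrix (Fin n) (Fin n) F)) - 1).rank = ℓ := by
  classical
  have hch : ∀ x : F, x + x = 0 := CharTwo.add_self_eq_zero
  let sfun : Fin n → Fin n := fun i =>
    if h : i.val < ℓ then ⟨i.val + (n - ℓ), by omega⟩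
    else if h' : n - ℓ ≤ i.val then ⟨i.val - (n - ℓ), by omega⟩ else i
  have hinv : Function.Involutive sfun := by
    intro i
    have hi := i.isLt
    apply Fin.ext
    simp only [sfun]
    by_cases h : i.val < ℓ
    · rw [dif_pos h, dif_neg (show ¬ (i.val + (n - ℓ) < ℓ) by omega),
        dif_pos (show n - ℓ ≤ i.val + (n - ℓ) by omega)]
      show i.val + (n - ℓ) - (n - ℓ) = i.val
      omega
    · rw [dif_neg h]
      by_cases h' : n - ℓ ≤ i.val
      · rw [dif_pos h', dif_pos (show i.val - (n - ℓ) < ℓ by omega)]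
        show i.val - (n - ℓ) + (n - ℓ) = i.val
        omega
      · rw [dif_neg h', dif_neg h, dif_neg h']
  set σ : Equiv.Perm (Fin n) := hinv.toPerm sfun with hσ
  have hσ2 : σ * σ = 1 := by ext i; simp [hσ, hinv i]
  set M : Matrix (Fin n) (Fin n) F := σ.permMatrix F with hMdef
  have hM : Matrix.of (fun i j : Fin n => if (j.val < ℓ ∧ i.val = j.val + (n - ℓ)) ∨ (i.val < ℓ ∧ j.val = i.val + (n - ℓ)) ∨ (i = j ∧ ℓ ≤ i.val ∧ i.val < n - ℓ) then (1 : F) else 0) = M := by
    ext i j
    rw [hMdef, Equiv.Perm.permMatrix, PEquiv.toMatrix_apply]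
    simp only [Matrix.of_apply, Equiv.toPEquiv_apply, Option.mem_def, Option.some.injEq]
    refine if_congr ?_ rfl rfl
    have hi := i.isLt
    have hj := j.isLt
    simp only [hσ, Function.Involutive.coe_toPerm, sfun, Fin.ext_iff]
    split_ifs <;> (try simp) <;> omega
  have hdet : M.det = 1 := by
    rw [hMdef, Matrix.det_permutation]
    rcases Int.units_eq_one_or (Equiv.Perm.sign σ) with h | h <;> simp [h, CharTwo.neg_eq]
  have hMM : M * M = 1 := by
    rw [hMdef, ← Matrix.permMatrix_mul, hσ2, Matrix.permMatrix_one]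
  let s : Matrix.SpecialLinearGroup (Fin n) F := ⟨M, hdet⟩
  have hmem : s ∈ Cfsg.SU n F q := by
    intro u v
    show Cfsg.hermForm n F q (M.mulVec u) (M.mulVec v) = Cfsg.hermForm n F q u v
    rw [hMdef, Matrix.permMatrix_mulVec, Matrix.permMatrix_mulVec]
    exact Equiv.sum_comp σ (fun i => u i * v i ^ q)
  have hrank : (M - 1).rank = ℓ := by
    set f : Fin ℓ → Fin n := fun k => ⟨k.val, by omega⟩ with hfdef
    set g : Fin ℓ → Fin n := fun k => ⟨k.val + (n - ℓ), by omega⟩ with hgdef
    set R : Matrix (Fin ℓ) (Fin n) F :=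
      Matrix.of (fun k j => if j = f k ∨ j = g k then 1 else 0) with hR
    set P : Matrix (Fin ℓ) (Fin n) F := (1 : Matrix (Fin n) (Fin n) F).submatrix f id with hP
    have hRR : M - 1 = R.transpose * R := by
      rw [← hM]
      ext i j
      simp only [Matrix.mul_apply, Matrix.transpose_apply, hR, Matrix.of_apply, Matrix.sub_apply,
        Matrix.one_apply, CharTwo.sub_eq_add, ← ite_and, ite_mul, one_mul, zero_mul]
      by_cases hi : i.val < ℓ ∨ n - ℓ ≤ i.val
      · obtain ⟨k, hk⟩ : ∃ k : Fin ℓ, i = f k ∨ i = g k := by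
          rcases hi with h | h
          · exact ⟨⟨i.val, h⟩, Or.inl rfl⟩
          · refine ⟨⟨i.val - (n - ℓ), by omega⟩, Or.inr ?_⟩
            simp [hgdef, Fin.ext_iff]; omega
        have huniq : ∀ b : Fin ℓ, (i = f b ∨ i = g b) → b = k := by
          intro b hb
          rcases hb with hb | hb <;> rcases hk with hk | hk <;>
            simp [hfdef, hgdef, Fin.ext_iff] at hb hk ⊢ <;> omega
        rw [Finset.sum_eq_single k]
        · rcases hk with rfl | rfl <;> simp [hfdef, hgdef, Fin.ext_iff] <;>
            split_ifs <;> simp [hch] <;> omega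
        · intro b _ hb
          rw [if_neg (fun h => hb (huniq b h.1))]
        · simp
      · rw [Finset.sum_eq_zero]
        · by_cases hij : i = j
          · subst hij
            simp only [if_true, true_and]
            rw [if_pos (Or.inr (Or.inr (by omega))), hch]
          · rw [if_neg, if_neg hij, zero_add]
            simp only [hij, false_and, or_false]
            omega
        · intro b _
          rw [if_neg]
          simp [hfdef, hgdef, Fin.ext_iff]
          omega
    have hPR : P * R.transpose = 1 := by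
      ext k l
      simp only [hP, hR, Matrix.mul_apply, Matrix.submatrix_apply, Matrix.one_apply, id,
        Matrix.transpose_apply, Matrix.of_apply, ite_mul, one_mul, zero_mul,
        Finset.sum_ite_eq, Finset.mem_univ, if_true]
      refine if_congr ?_ rfl rfl
      simp [hfdef, hgdef, Fin.ext_iff]
      omega
    rw [hRR]
    apply le_antisymm
    · exact (Matrix.rank_mul_le_right _ _).trans ((Matrix.rank_le_card_height _).trans (by simp))
    · have h1' : P * (R.transpose * R) * P.transpose = 1 := by
        rw [← Matrix.mul_assoc, hPR, Matrix.one_mul, ← Matrix.transpose_transpose R,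
          ← Matrix.transpose_mul, hPR, Matrix.transpose_one]
      have := (Matrix.rank_mul_le_left (P * (R.transpose * R)) P.transpose).trans
        (Matrix.rank_mul_le_right P (R.transpose * R))
      rwa [h1', Matrix.rank_one, Fintype.card_fin] at this
  refine ⟨⟨s, hmem⟩, hM.symm, ?_, hrank⟩
  rw [orderOf_eq_iff (by norm_num)]
  constructor
  · apply Subtype.ext
    apply Subtype.ext
    show ((s ^ 2 : Matrix.SpecialLinearGroup (Fin n) F) : Matrix (Fin n) (Fin n) F) = 1
    rw [Matrix.SpecialLinearGroup.coe_pow, sq]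
    exact hMM
  · intro k hk hk0
    interval_cases k
    rw [pow_one]
    intro h
    have : M = 1 := congrArg Subtype.val (congrArg Subtype.val h)
    rw [this, sub_self, Matrix.rank_zero] at hrank
    omega

end Cfsg.Agent.S2165
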