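import Cfsg.Statements.S2167
import Cfsg.Agent.KsAltRank

set_option autoImplicit false
open Cfsg

namespace Cfsg.Agent.S2167

/-- For an involution t of the symplectic group Sp_{2m}(F), m ≥ 2, F a finite field of characteristic two (matrices A with A J Aᵀ = J acting on column vectors, alternating form f(u, v) = u ⬝ (J v)): the set V(t) of vectors v with f(v, t v) = 0 has either q^{2m} or q^{2m−1} elements, q the order of F (it is a subspace of codimension at most 1), and if it is the whole space then t − 1 has even rank. -/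
theorem result {F : Type*} [Field F] [Fintype F] [CharP F 2] {m : ℕ} (hm : 2 ≤ m) (a : ↥(Matrix.symplecticGroup (Fin m) F)) (ha : orderOf a = 2) :
    (Nat.card {v : Fin m ⊕ Fin m → F // Cfsg.sympForm m F v (Matrix.mulVec ((a : ↥(Matrix.symplecticGroup (Fin m) F)) : Matrix (Fin m ⊕ Fin m) (Fin m ⊕ Fin m) F) v) = 0} = Fintype.card F ^ (2 * m) ∨ Nat.card {v : Fin m ⊕ Fin m → F // Cfsg.sympForm m F v (Matrix.mulVec ((a : ↥(Matrix.symplecticGroup (Fin m) F)) : Matrix (Fin m ⊕ Fin m) (Fin m ⊕ Fin m) F) v) = 0} * Fintype.card F = Fintype.card F ^ (2 * m)) ∧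
    ((∀ v : Fin m ⊕ Fin m → F, Cfsg.sympForm m F v (Matrix.mulVec ((a : ↥(Matrix.symplecticGroup (Fin m) F)) : Matrix (Fin m ⊕ Fin m) (Fin m ⊕ Fin m) F) v) = 0) → Even (((a : ↥(Matrix.symplecticGroup (Fin m) F)) : Matrix (Fin m ⊕ Fin m) (Fin m ⊕ Fin m) F) - 1).rank) := by
  set A : Matrix (Fin m ⊕ Fin m) (Fin m ⊕ Fin m) F := (a : Matrix (Fin m ⊕ Fin m) (Fin m ⊕ Fin m) F) with hAdef
  set J : Matrix (Fin m ⊕ Fin m) (Fin m ⊕ Fin m) F := Matrix.J (Fin m) F with hJdef
  set φ : (Fin m ⊕ Fin m → F) → F := fun v => Cfsg.sympForm m F v (A.mulVec v) with hφdef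
  have hneg : ∀ x : F, -x = x := fun x => CharTwo.neg_eq x
  have hAA : A * A = 1 := by
    have h := pow_orderOf_eq_one a
    rw [ha, sq] at h
    exact congrArg Subtype.val h
  have hAJ : A.transpose * J * A = J := SymplecticGroup.mem_iff'.mp a.2
  have hJA : A.transpose * J = J * A := by
    have h := congrArg (fun X => X * A) hAJ
    simp only [Matrix.mul_assoc, hAA, Matrix.mul_one] at h
    exact h
  have hJsymm : J.transpose = J := by
    rw [hJdef, Matrix.J_transpose]
    ext i j
    exact hneg _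
  have hsymm : ∀ u v, Cfsg.sympForm m F u (A.mulVec v) = Cfsg.sympForm m F v (A.mulVec u) := by
    intro u v
    show dotProduct u (J.mulVec (A.mulVec v)) = dotProduct v (J.mulVec (A.mulVec u))
    rw [Matrix.mulVec_mulVec, Matrix.mulVec_mulVec, Matrix.dotProduct_mulVec, dotProduct_comm,
      ← Matrix.mulVec_transpose, Matrix.transpose_mul, hJsymm, hJA]
  have hadd : ∀ u v, φ (u + v) = φ u + φ v := by
    intro u v
    have h := hsymm u v
    simp only [hφdef, Cfsg.sympForm, Matrix.mulVec_add, dotProduct_add, add_dotProduct] at h ⊢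
    rw [h]
    linear_combination (CharTwo.add_self_eq_zero (dotProduct v ((Matrix.J (Fin m) F).mulVec (A.mulVec u))))
  have hsmul : ∀ (c : F) v, φ (c • v) = c ^ 2 * φ v := by
    intro c v
    simp only [hφdef, Cfsg.sympForm, Matrix.mulVec_smul, dotProduct_smul, smul_dotProduct, smul_eq_mul]
    ring
  let ψ : (Fin m ⊕ Fin m → F) →+ F := AddMonoidHom.mk' φ hadd
  have hcard : Nat.card (Fin m ⊕ Fin m → F) = Fintype.card F ^ (2 * m) := by
    rw [Nat.card_eq_fintype_card, Fintype.card_fun, Fintype.card_sum, Fintype.card_fin, two_mul]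
  refine ⟨?_, ?_⟩
  · by_cases h0 : ∀ v, φ v = 0
    · left
      rw [← hcard]
      exact Nat.card_congr (Equiv.subtypeUnivEquiv h0)
    · right
      push_neg at h0
      obtain ⟨v₀, hv₀⟩ := h0
      have hsurj : Function.Surjective ψ := by
        intro y
        obtain ⟨c, hc⟩ := (frobeniusEquiv F 2).surjective (y / φ v₀)
        refine ⟨c • v₀, ?_⟩
        show φ (c • v₀) = y
        rw [hsmul]
        have hc' : c ^ 2 = y / φ v₀ := by simpa [frobeniusEquiv_def, frobenius_def] using hc
        rw [hc', div_mul_cancel₀ _ hv₀]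
      have hk : Nat.card {v // φ v = 0} = Nat.card ψ.ker :=
        Nat.card_congr (Equiv.subtypeEquivRight (fun v => by simp [AddMonoidHom.mem_ker, ψ]))
      show Nat.card {v // φ v = 0} * Fintype.card F = Fintype.card F ^ (2 * m)
      rw [hk, ← hcard, AddSubgroup.card_eq_card_quotient_mul_card_addSubgroup ψ.ker,
        Nat.card_congr (QuotientAddGroup.quotientKerEquivOfSurjective ψ hsurj).toEquiv,
        Nat.card_eq_fintype_card (α := F), mul_comm]
  · intro h0
    have hJdet : IsUnit J.det := Matrix.isUnit_det_J (Fin m) F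
    rw [← Matrix.rank_mul_eq_right_of_isUnit_det J (A - 1) hJdet]
    apply Cfsg.Agent.KsAltRank.even_rank
    intro v
    have hJalt : dotProduct v (J.mulVec v) = 0 := by
      rw [hJdef]
      simp [Matrix.J, Matrix.fromBlocks_mulVec, dotProduct, Fintype.sum_sum_type, Matrix.neg_mulVec,
        hneg, ← Finset.sum_add_distrib]
      apply Finset.sum_eq_zero
      intro i _
      rw [mul_comm (v (Sum.inl i))]
      exact CharTwo.add_self_eq_zero _
    rw [Matrix.mul_sub, Matrix.mul_one, Matrix.sub_mulVec, dotProduct_sub, ← Matrix.mulVec_mulVec,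
      hJalt, sub_zero]
    exact h0 v

end Cfsg.Agent.S2167
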