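import Cfsg.Statements.S2179
import Cfsg.Agent.Lib.KnownSimple.ChevCentF4

set_option autoImplicit false
open Cfsg

namespace Cfsg.Agent.S2179

/-- Centralizers of the two remaining classes of involutions in the Chevalley group G of type F₄ over a finite field F of characteristic two (this problem's root numbering for type F₄, from the Chevalley data module: p₁, p₂ short, p₃, p₄ long with indices 33, 27, 25, 24 and negatives 14, 20, 22, 23; U generated by the positive root subgroups). For an element of G with matrix x_47(1)x_44(1) (highest root times highest short root): its centralizer in G is generated by U, X_{−p₂} and X_{−p₃}. For an element of G with matrix x_39(1)x_45(1) (roots (1,2,2,1) and (2,4,2,1), an orthogonal short/long pair): its centralizer in G is generated by X_{p₁}, X_{−p₁}, X_{p₄}, X_{−p₄} and the root subgroups of all positive roots other than p₂ (27), p₃ (25), p₁ + p₂ (34) and p₃ + p₄ (26). -/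
theorem result {F : Type*} [Field F] [Fintype F] [CharP F 2] (w v : GL Cfsg.Lie.chevF4.Idx F) (hw : (w : Matrix Cfsg.Lie.chevF4.Idx Cfsg.Lie.chevF4.Idx F) = Cfsg.Lie.chevF4.x F 47 1 * Cfsg.Lie.chevF4.x F 44 1) (hv : (v : Matrix Cfsg.Lie.chevF4.Idx Cfsg.Lie.chevF4.Idx F) = Cfsg.Lie.chevF4.x F 39 1 * Cfsg.Lie.chevF4.x F 45 1) :
    Cfsg.Lie.chevF4.group F ⊓ Subgroup.centralizer {w} = Cfsg.Lie.chevF4.posUnipotent F ⊔ Cfsg.Lie.chevF4.rootSubgroup F 20 ⊔ Cfsg.Lie.chevF4.rootSubgroup F 22 ∧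
    Cfsg.Lie.chevF4.group F ⊓ Subgroup.centralizer {v} = Cfsg.Lie.chevF4.rootSubgroup F 33 ⊔ Cfsg.Lie.chevF4.rootSubgroup F 14 ⊔ Cfsg.Lie.chevF4.rootSubgroup F 24 ⊔ Cfsg.Lie.chevF4.rootSubgroup F 23 ⊔
      Subgroup.closure {g : GL Cfsg.Lie.chevF4.Idx F | ∃ (r : ℕ) (c : F), Cfsg.Lie.chevF4.IsPosRoot r ∧ r ∉ [27, 25, 34, 26] ∧ (g : Matrix Cfsg.Lie.chevF4.Idx Cfsg.Lie.chevF4.Idx F) = Cfsg.Lie.chevF4.x F r c} := by
  obtain rfl : w = (CfsgLib.ChevStr.coreF4 F).xGL 47 1 * (CfsgLib.ChevStr.coreF4 F).xGL 44 1 :=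
    Units.ext hw
  obtain rfl : v = (CfsgLib.ChevStr.coreF4 F).xGL 39 1 * (CfsgLib.ChevStr.coreF4 F).xGL 45 1 :=
    Units.ext hv
  have hclosure : Subgroup.closure {g : GL Cfsg.Lie.chevF4.Idx F | ∃ (r : ℕ) (c : F),
      Cfsg.Lie.chevF4.IsPosRoot r ∧ r ∉ [27, 25, 34, 26] ∧
      (g : Matrix Cfsg.Lie.chevF4.Idx Cfsg.Lie.chevF4.Idx F) = Cfsg.Lie.chevF4.x F r c} =
      CfsgLib.KnownSimple.RootCent.UL (CfsgLib.ChevStr.coreF4 F)
        ((CfsgLib.KnownSimple.RootCent.posList Cfsg.Lie.chevF4).filter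
          fun r => decide (r ∉ [27, 25, 34, 26])) := by
    refine le_antisymm ((Subgroup.closure_le _).2 ?_) ((CfsgLib.ChevStr.coreF4 F).Ucl_le ?_)
    · rintro g ⟨r, c, hr, hne, hg⟩
      rw [show g = (CfsgLib.ChevStr.coreF4 F).xGL r c from
        Units.ext (by rw [hg, CfsgLib.ChevStr.ChevCore.coe_xGL])]
      exact (CfsgLib.ChevStr.coreF4 F).xGL_mem_Ucl (S := {k | k ∈ _})
        (List.mem_filter.2 ⟨CfsgLib.KnownSimple.RootCent.mem_posList.2 hr, decide_eq_true hne⟩) c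
    · intro r hr c
      obtain ⟨h1, h2⟩ := List.mem_filter.1 hr
      exact Subgroup.subset_closure ⟨r, c, CfsgLib.KnownSimple.RootCent.mem_posList.1 h1,
        of_decide_eq_true h2, rfl⟩
  rw [CfsgLib.KnownSimple.RootCent.F4.centralizer_w, CfsgLib.KnownSimple.RootCent.F4.centralizer_v,
    hclosure]
  simp only [CfsgLib.KnownSimple.RootCent.posUnipotent_eq_UL (CfsgLib.ChevStr.coreF4 F),
    CfsgLib.KnownSimple.RootCent.rootSubgroup_eq_UL (CfsgLib.ChevStr.coreF4 F),
    CfsgLib.KnownSimple.RootCent.UL_append, List.append_assoc, List.cons_append, List.nil_append,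
    true_and]
  rw [show ((CfsgLib.KnownSimple.RootCent.posList Cfsg.Lie.chevF4).filter
      fun r => decide (r ∉ [27, 25, 34, 26])) = [24, 28, 29, 30, 31, 32, 33, 35, 36, 37, 38, 39, 40,
        41, 42, 43, 44, 45, 46, 47] by decide +kernel]
  refine congrArg (CfsgLib.ChevStr.coreF4 F).Ucl (Set.ext fun r => ?_)
  simp only [CfsgLib.KnownSimple.RootCent.F4.listV, Set.mem_ofPred_eq, List.mem_cons,
    List.not_mem_nil, or_false]
  omega

end Cfsg.Agent.S2179
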