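import Cfsg.Statements.S2182
import Cfsg.Agent.Lib.InvolTwist.Classes
-- import your own Cfsg.Agent.* helpers here

set_option autoImplicit false
open Cfsg 

namespace Cfsg.Agent.S2182

/-- The twisted group ²E₆(q), q even, realised inside the Chevalley group of type E₆ over the field K with q² elements, has exactly three conjugacy classes of elements of order 2. -/
theorem result {K : Type*} [Field K] [Fintype K] [CharP K 2] (q : ℕ) (hK : Fintype.card K = q ^ 2) :
    (ConjClasses.mk '' {g : ↥(Cfsg.Lie.twistedE6 K q) | orderOf g = 2}).ncard = 3 := by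
  obtain ⟨k, -, hk⟩ := FiniteField.card K 2
  rw [hK] at hk
  obtain ⟨n, -, rfl⟩ := (Nat.dvd_prime_pow Nat.prime_two).1 (hk ▸ dvd_pow_self q two_ne_zero : q ∣ 2 ^ (k : ℕ))
  have hn : Fintype.card K = 2 ^ n * 2 ^ n := by rw [hK]; ring
  have hq : 2 ≤ 2 ^ n := by
    refine Nat.le_self_pow ?_ 2
    rintro rfl
    have := Fintype.one_lt_card (α := K)
    simp at hn; omega
  exact CfsgLib.InvolTwist.involution_classes K hn hq

end Cfsg.Agent.S2182
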