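import Cfsg.Statements.S2183
import Cfsg.Agent.Lib.TwistedStr.D4Involutions
-- import your own Cfsg.Agent.* helpers here

set_option autoImplicit false
open Cfsg CfsgLib.Twisted

namespace Cfsg.Agent.S2183

/-- The twisted group ³D₄(q), q even, realised inside the Chevalley group of type D₄ over the field K with q³ elements, has exactly two conjugacy classes of elements of order 2. -/
theorem result {K : Type*} [Field K] [Fintype K] [CharP K 2] (q : ℕ) (hK : Fintype.card K = q ^ 3) :
    (ConjClasses.mk '' {g : ↥(Cfsg.Lie.twistedD4 K q) | orderOf g = 2}).ncard = 2 := by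
  obtain ⟨k, -, hk⟩ := FiniteField.card K 2
  rw [hK] at hk
  obtain ⟨n, -, rfl⟩ := (Nat.dvd_prime_pow Nat.prime_two).1 (hk ▸ dvd_pow_self q three_ne_zero : q ∣ 2 ^ (k : ℕ))
  have hn : Fintype.card K = 2 ^ n * 2 ^ n * 2 ^ n := by rw [hK]; ring
  have hq : 2 ≤ 2 ^ n := by
    refine Nat.le_self_pow ?_ 2
    rintro rfl
    have := Fintype.one_lt_card (α := K)
    simp at hn; omega
  exact D4Uni.involution_classes hn hq

end Cfsg.Agent.S2183
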