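import Cfsg.Statements.S2184
import Cfsg.Agent.Lib.TwistedStr.F4Involutions
-- import your own Cfsg.Agent.* helpers here

set_option autoImplicit false
open Cfsg open Cfsg Cfsg.Lie CfsgLib.Twisted

namespace Cfsg.Agent.S2184

/-- The twisted group ²F₄(q), q = 2^(2m+1) with m ≥ 0 (realised inside the Chevalley group of type F₄ over the field K with q elements, θ the 2^m-th power map), has exactly two conjugacy classes of elements of order 2; and so does the Tits group, the commutator subgroup of ²F₄(2). -/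
theorem result {K : Type*} [Field K] [Fintype K] (m : ℕ) (hK : Fintype.card K = 2 ^ (2 * m + 1)) :
    (ConjClasses.mk '' {g : ↥(Cfsg.Lie.twistedF4 K (2 ^ m)) | orderOf g = 2}).ncard = 2 ∧ (ConjClasses.mk '' {g : Cfsg.Lie.TitsGroup | orderOf g = 2}).ncard = 2 := by
  have : Fact (Nat.Prime 2) := ⟨Nat.prime_two⟩
  have : CharP K 2 := by
    obtain ⟨p, hp⟩ := CharP.exists K
    obtain ⟨k, hpp, hk⟩ := FiniteField.card K p
    have h2 : (p : ℕ) ∣ 2 ^ (2 * m + 1) := hK ▸ hk ▸ dvd_pow_self p k.pos.ne'
    have := (Nat.prime_dvd_prime_iff_eq hpp Nat.prime_two).1 (hpp.dvd_of_dvd_pow h2)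
    exact this ▸ hp
  exact ⟨F4Uni.involution_classes (by rw [hK]; ring), F4Uni.tits_involution_classes⟩

end Cfsg.Agent.S2184
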