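import Cfsg.Statements.S2190
import Cfsg.Agent.Lib.SubfieldOver.Main
-- import your own Cfsg.Agent.* helpers here

set_option autoImplicit false
open Cfsg CfsgLib.ChevStr CfsgLib.ChevField CfsgLib.SubfieldOver

namespace Cfsg.Agent.S2190

/-- Subfield subgroups of prime degree are maximal. Let K be a finite field with q^r elements, r a prime, q a power of the characteristic, and G the Chevalley group of type G₂, B₂, D₄, F₄, E₆, E₇ or E₈ over K (the matrix group generated by the root elements). Let M be the subgroup of G consisting of the matrices all of whose entries lie in the subfield with q elements (entries c with c^q = c). Then M is a proper subgroup of G and is maximal: every subgroup of G containing M is M or G. -/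
theorem result {K : Type*} [Field K] [Fintype K] (p : ℕ) [Fact p.Prime] [CharP K p] (D : Cfsg.Lie.ChevalleyDatum) (hD : D ∈ [Cfsg.Lie.chevG2, Cfsg.Lie.chevB2, Cfsg.Lie.chevD4, Cfsg.Lie.chevF4, Cfsg.Lie.chevE6, Cfsg.Lie.chevE7, Cfsg.Lie.chevE8]) (a r : ℕ) (ha : 1 ≤ a) (hr : r.Prime) (hK : Fintype.card K = (p ^ a) ^ r) (M : Subgroup (GL D.Idx K))
    (hM : ∀ g : GL D.Idx K, g ∈ M ↔ g ∈ D.group K ∧ ∀ i j : D.Idx, ((g : Matrix D.Idx D.Idx K) i j) ^ (p ^ a) = (g : Matrix D.Idx D.Idx K) i j) :
    M ≠ D.group K ∧ ∀ H : Subgroup (GL D.Idx K), M ≤ H → H ≤ D.group K → H = M ∨ H = D.group K := by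
  classical
  obtain ⟨CK, -⟩ := exists_core_etaNeg hD K
  obtain ⟨C, hη⟩ := exists_core_etaNeg hD (AlgebraicClosure K)
  let ι : K →+* AlgebraicClosure K := algebraMap K (AlgebraicClosure K)
  have : CharP (AlgebraicClosure K) p := charP_of_injective_ringHom ι.injective p
  have hq1 : 1 < p ^ a := Nat.one_lt_pow (by omega) (Fact.out : p.Prime).one_lt
  have hQ : 1 < (p ^ a) ^ r := Nat.one_lt_pow hr.pos.ne' hq1
  have hK1 : ∀ x : K, x ^ ((p ^ a) ^ r) = x := fun x => hK ▸ FiniteField.pow_card x
  have hxmap : ∀ (s : ℕ) (u : K), mapGL ι (CK.xGL s u) = C.xGL s (ι u) := fun s u =>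
    Units.ext (by rw [coe_mapGL, CK.coe_xGL, CfsgLib.ChevField.x_map, C.coe_xGL])
  have hxM : ∀ (s : ℕ) (u : K), u ^ (p ^ a) = u → CK.xGL s u ∈ M := by
    intro s u hu
    refine (hM _).2 ⟨CK.xGL_mem_group s u, fun i j => ?_⟩
    have h := congrFun (congrFun (CfsgLib.ChevField.x_map (D := D) (iterateFrobenius K p a) s u) i) j
    rw [Matrix.map_apply, iterateFrobenius_def, iterateFrobenius_def, hu] at h
    rw [CK.coe_xGL]
    exact h
  refine ⟨fun hMeq => ?_, fun H hMH hHG => ?_⟩
  · obtain ⟨u, hu⟩ : ∃ u : K, u ^ (p ^ a) ≠ u := by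
      by_contra h
      push Not at h
      have hle : Fintype.card K ≤ p ^ a := by
        have hsub : (Finset.univ : Finset K).val ⊆
            (Polynomial.X ^ (p ^ a) - Polynomial.X : Polynomial K).roots := fun x _ => by
          rw [Polynomial.mem_roots (FiniteField.X_pow_card_sub_X_ne_zero K hq1)]
          simp [h x]
        have := Polynomial.card_le_degree_of_subset_roots hsub
        rwa [Finset.card_univ, FiniteField.X_pow_card_sub_X_natDegree_eq K hq1] at this
      have := lt_self_pow₀ hq1 hr.one_lt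
      omega
    obtain ⟨s₀, i₀, hB, -⟩ := exists_typeData (F := AlgebraicClosure K) p hD
    have hmem : CK.xGL (topRoot D) u ∈ M := hMeq ▸ CK.xGL_mem_group (topRoot D) u
    have hfix : mapGL (iterateFrobenius K p a) (CK.xGL (topRoot D) u) = CK.xGL (topRoot D) u :=
      Units.ext (Matrix.ext fun i j => by
        rw [coe_mapGL, Matrix.map_apply, iterateFrobenius_def]
        exact ((hM _).1 hmem).2 i j)
    have hmap : mapGL (iterateFrobenius K p a) (CK.xGL (topRoot D) u) =
        CK.xGL (topRoot D) (u ^ (p ^ a)) :=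
      Units.ext (by rw [coe_mapGL, CK.coe_xGL, CfsgLib.ChevField.x_map, CK.coe_xGL, iterateFrobenius_def])
    exact hu (CK.xGL_injective hB.top_pos.1 (hmap.symm.trans hfix))
  have hmem : ∀ (s : ℕ) (t : AlgebraicClosure K), t ^ (p ^ a) = t →
      C.xGL s t ∈ H.map (mapGL ι) := by
    intro s t ht
    obtain ⟨u, rfl⟩ : ∃ u, ι u = t := by
      by_contra hne
      push Not at hne
      let img : Finset (AlgebraicClosure K) := (Finset.univ : Finset K).image ι
      have hsub : (insert t img).val ⊆
          (Polynomial.X ^ ((p ^ a) ^ r) - Polynomial.X : Polynomial (AlgebraicClosure K)).roots := by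
        intro x hx
        rw [Polynomial.mem_roots (FiniteField.X_pow_card_sub_X_ne_zero _ hQ)]
        simp only [Polynomial.IsRoot.def, Polynomial.eval_sub, Polynomial.eval_pow,
          Polynomial.eval_X, sub_eq_zero]
        rcases Finset.mem_insert.1 hx with rfl | hx
        · have : ∀ n : ℕ, x ^ (p ^ a) ^ n = x := fun n => by
            induction n with
            | zero => simp
            | succ n ih => rw [pow_succ, pow_mul, ih, ht]
          exact this r
        · obtain ⟨y, -, rfl⟩ := Finset.mem_image.1 hx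
          rw [← map_pow, hK1]
      have hle := Polynomial.card_le_degree_of_subset_roots hsub
      have hnot : t ∉ img := fun hm => by
        obtain ⟨y, -, hy⟩ := Finset.mem_image.1 hm
        exact hne y hy
      rw [Finset.card_insert_of_notMem hnot, Finset.card_image_of_injective _ ι.injective,
        Finset.card_univ, hK, FiniteField.X_pow_card_sub_X_natDegree_eq _ hQ] at hle
      omega
    refine ⟨CK.xGL s u, hMH (hxM s u (ι.injective ?_)), hxmap s u⟩
    rw [map_pow]
    exact ht
  have hle : H.map (mapGL ι) ≤ D.group (AlgebraicClosure K) :=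
    (Subgroup.map_mono hHG).trans (group_map_le ι)
  have : Finite (H.map (mapGL ι)) := Finite.of_surjective
    (fun g : H => (⟨mapGL ι g, g, g.2, rfl⟩ : H.map (mapGL ι)))
    fun ⟨x, g, hg, hx⟩ => ⟨⟨g, hg⟩, Subtype.ext hx⟩
  obtain ⟨r', -, hroot, hent, S, hScard, hSroots, htop⟩ :=
    overgroup p hD a ha (H.map (mapGL ι)) hle C hη hmem
  -- the field of parameters lies in `K`
  let τ : AlgebraicClosure K →+* AlgebraicClosure K := iterateFrobenius (AlgebraicClosure K) p (a * r)
  have hτ : ∀ t, τ t = t ^ ((p ^ a) ^ r) := fun t => by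
    rw [← pow_mul]; exact iterateFrobenius_def p (a * r) t
  have hSK : ∀ t ∈ S, ∃ u, ι u = t := by
    intro t ht
    obtain ⟨g, -, hg⟩ := hroot (topRoot D) t ((hSroots t).2 ht)
    have h1 : C.xGL (topRoot D) (τ t) = C.xGL (topRoot D) t := by
      have e : mapGL τ (C.xGL (topRoot D) t) = C.xGL (topRoot D) t := by
        rw [← hg]
        refine Units.ext (Matrix.ext fun i j => ?_)
        rw [coe_mapGL, Matrix.map_apply, coe_mapGL, Matrix.map_apply, hτ, ← map_pow, hK1]
      rw [← e]
      exact Units.ext (by rw [C.coe_xGL, coe_mapGL, C.coe_xGL, CfsgLib.ChevField.x_map])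
    have ht' := C.xGL_injective htop h1
    rw [hτ] at ht'
    by_contra hne
    push Not at hne
    let img : Finset (AlgebraicClosure K) := (Finset.univ : Finset K).image ι
    have hsub : (insert t img).val ⊆
        (Polynomial.X ^ ((p ^ a) ^ r) - Polynomial.X : Polynomial (AlgebraicClosure K)).roots := by
      intro x hx
      rw [Polynomial.mem_roots (FiniteField.X_pow_card_sub_X_ne_zero _ hQ)]
      simp only [Polynomial.IsRoot.def, Polynomial.eval_sub, Polynomial.eval_pow,
        Polynomial.eval_X, sub_eq_zero]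
      rcases Finset.mem_insert.1 hx with rfl | hx
      · exact ht'
      · obtain ⟨y, -, rfl⟩ := Finset.mem_image.1 hx
        rw [← map_pow, hK1]
    have hle := Polynomial.card_le_degree_of_subset_roots hsub
    have hnot : t ∉ img := fun hm => by
      obtain ⟨y, -, hy⟩ := Finset.mem_image.1 hm
      exact hne y hy
    rw [Finset.card_insert_of_notMem hnot, Finset.card_image_of_injective _ ι.injective,
      Finset.card_univ, hK, FiniteField.X_pow_card_sub_X_natDegree_eq _ hQ] at hle
    omega
  -- `r'` divides the prime `r`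
  let T : Subfield K := S.comap ι
  have hT : Nat.card T = (p ^ a) ^ r' := by
    rw [← hScard]
    exact Nat.card_congr (Equiv.ofBijective (fun x : T => (⟨ι x, x.2⟩ : S))
      ⟨fun x y h => Subtype.ext (ι.injective (congrArg Subtype.val h)), fun ⟨t, ht⟩ => by
        obtain ⟨u, rfl⟩ := hSK t ht
        exact ⟨⟨u, ht⟩, rfl⟩⟩)
  let _ : Fintype T := Fintype.ofFinite T
  have hdim := Module.card_eq_pow_finrank (K := T) (V := K)
  rw [← Nat.card_eq_fintype_card (α := T), hT, hK, ← pow_mul (p ^ a) r'] at hdim
  have hdiv : r' ∣ r := ⟨_, Nat.pow_right_injective hq1 hdim⟩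
  rcases hr.eq_one_or_self_of_dvd r' hdiv with h | h
  · left
    refine le_antisymm (fun g hg => (hM g).2 ⟨hHG hg, fun i j => ι.injective ?_⟩) hMH
    have := hent (mapGL ι g) ⟨g, hg, rfl⟩ i j
    rw [h, pow_one, coe_mapGL, Matrix.map_apply, ← map_pow] at this
    exact this
  · right
    refine le_antisymm hHG (CK.group_le fun s u _ => ?_)
    obtain ⟨g, hg, hgu⟩ := hroot s (ι u) (by rw [← map_pow, h, hK1])
    rwa [← mapGL_injective ι (hgu.trans (hxmap s u).symm)]

end Cfsg.Agent.S2190
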