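import Cfsg.Statements.S2192
import Cfsg.Agent.Lib.TwistedStr.D4Subfield
-- import your own Cfsg.Agent.* helpers here

set_option autoImplicit false
open Cfsg open Cfsg Cfsg.Lie CfsgLib.Twisted.D4Gen

namespace Cfsg.Agent.S2192

/-- In the twisted group ³D₄(q), realised inside the Chevalley group of type D₄ over the field K with q³ elements (q a power of the characteristic) as the subgroup generated by the root elements, and products of root elements, that the twisting map fixes, the subgroup of matrices all of whose entries lie in the subfield with q elements (it contains the subgroup of type G₂ over that subfield) is a proper maximal subgroup. -/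
theorem result {K : Type*} [Field K] [Fintype K] (p : ℕ) [Fact p.Prime] [CharP K p] (q : ℕ) (hq : ∃ a : ℕ, 1 ≤ a ∧ q = p ^ a) (hK : Fintype.card K = q ^ 3) (M : Subgroup (GL Cfsg.Lie.chevD4.Idx K))
    (hM : ∀ g : GL Cfsg.Lie.chevD4.Idx K, g ∈ M ↔ g ∈ Cfsg.Lie.twistedD4 K q ∧ ∀ i j : Cfsg.Lie.chevD4.Idx, ((g : Matrix Cfsg.Lie.chevD4.Idx Cfsg.Lie.chevD4.Idx K) i j) ^ q = (g : Matrix Cfsg.Lie.chevD4.Idx Cfsg.Lie.chevD4.Idx K) i j) :
    M ≠ Cfsg.Lie.twistedD4 K q ∧ ∀ H : Subgroup (GL Cfsg.Lie.chevD4.Idx K), M ≤ H → H ≤ Cfsg.Lie.twistedD4 K q → H = M ∨ H = Cfsg.Lie.twistedD4 K q := by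
  obtain ⟨a, ha, rfl⟩ := hq
  have : ExpChar K p := ExpChar.prime Fact.out
  have hp := (Fact.out : p.Prime).two_le
  have hcard : Fintype.card K = p ^ a * p ^ a * p ^ a := by rw [hK]; ring
  have h2 : 2 ≤ p ^ a := le_trans hp (Nat.le_self_pow (by omega) p)
  have hMf : ∀ g, g ∈ M ↔ g ∈ twistedD4 K (p ^ a) ∧ frobGL K p a g = g := fun g => by
    rw [hM g, frobGL_eq_iff]
  obtain ⟨y, hy⟩ : ∃ y : K, frobEquiv K p a y ≠ y := by
    by_contra hc
    push Not at hc
    obtain ⟨g, hg⟩ := IsCyclic.exists_generator (α := Kˣ)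
    have h1 : g ^ (p ^ a - 1) = 1 := by
      have h := hc g
      rw [frobEquiv_apply] at h
      refine mul_right_cancel (b := g) ?_
      rw [one_mul, ← pow_succ, Nat.sub_add_cancel (by omega)]
      exact Units.ext (by simpa using h)
    have h3 := Nat.le_of_dvd (by omega) (orderOf_dvd_of_pow_eq_one h1)
    rw [orderOf_eq_card_of_forall_mem_zpowers hg, Nat.card_units, Nat.card_eq_fintype_card, hcard]
      at h3
    have h4 : p ^ a * 4 ≤ p ^ a * p ^ a * p ^ a := by
      rw [mul_assoc]; exact Nat.mul_le_mul_left _ (Nat.mul_le_mul h2 h2)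
    omega
  constructor
  · intro heq
    have h1 : tw K p a 0 y 0 0 0 0 ∈ M := by
      rw [heq, tw_mem_iff hcard h2]
      exact ⟨map_zero _, map_zero _, map_zero _⟩
    have h2' := ((hMf _).1 h1).2
    rw [frobGL_tw] at h2'
    exact hy (tw_inj h2').2.1
  · intro H hMH hHG
    have o : Over p a H := ⟨hcard, h2, hHG, fun g hg hf => hMH ((hMf g).2 ⟨hg, hf⟩)⟩
    by_cases hS : ∀ x ∈ coordSet p a H, frobEquiv K p a x = x
    · exact .inl (le_antisymm (fun g hg => (hMf g).2 ⟨hHG hg, o.all_fixed hS hg⟩) hMH)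
    · push Not at hS
      obtain ⟨x, hx, hxf⟩ := hS
      exact .inr (le_antisymm hHG (o.eq_top hx hxf))

end Cfsg.Agent.S2192
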