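import Cfsg.Statements.S2205
import Cfsg.Agent.Lib.PermGroup.SquareDegree.Main
import Cfsg.Agent.Lib.PermGroup.SquareDegree.Small

set_option autoImplicit false
open Cfsg

namespace Cfsg.Agent.S2205

/-- A finite group acting faithfully and 2-transitively on a set with p² + 1 points, p a prime, is doubly primitive — a point stabilizer acts primitively on the remaining p² points — unless p = 2 and the group is the Frobenius group of order 20. -/
theorem result {G Ω : Type*} [Group G] [Finite G] [Fintype Ω] [MulAction G Ω] [FaithfulSMul G Ω] (p : ℕ) (hp : p.Prime) (hΩ : Fintype.card Ω = p ^ 2 + 1) (h2 : MulAction.IsMultiplyPretransitive G Ω 2) (a : Ω) :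
    MulAction.IsPreprimitive ↥(MulAction.stabilizer G a) ↥(SubMulAction.ofStabilizer G a) ∨ (p = 2 ∧ Nat.card G = 20) := by
  classical
  haveI := Fact.mk hp
  have hpair : ∀ {x y z w : Ω}, x ≠ y → z ≠ w → ∃ g : G, g • x = z ∧ g • y = w :=
    fun hxy hzw => MulAction.is_two_pretransitive_iff.mp h2 hxy hzw
  haveI htr : MulAction.IsPretransitive (MulAction.stabilizer G a) (SubMulAction.ofStabilizer G a) :=
    ⟨fun x y => by
      obtain ⟨g, hga, hg⟩ := hpair (Ne.symm (SubMulAction.mem_ofStabilizer_iff G a |>.mp x.2))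
        (Ne.symm (SubMulAction.mem_ofStabilizer_iff G a |>.mp y.2))
      exact ⟨⟨g, hga⟩, Subtype.ext hg⟩⟩
  rw [or_iff_not_imp_left]
  intro hnp
  obtain ⟨B, hB, hBn⟩ : ∃ B : Set (SubMulAction.ofStabilizer G a),
      MulAction.IsBlock (MulAction.stabilizer G a) B ∧ ¬ MulAction.IsTrivialBlock B := by
    by_contra hall
    simp only [not_exists, not_and, not_not] at hall
    exact hnp { isTrivialBlock_of_isBlock := fun {B} hB => hall B hB }
  simp only [MulAction.IsTrivialBlock, not_or, Set.not_subsingleton_iff] at hBn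
  have hcardX : Nat.card (SubMulAction.ofStabilizer G a) = p ^ 2 := by
    rw [SubMulAction.nat_card_ofStabilizer_eq, Nat.card_eq_fintype_card, hΩ, Nat.add_sub_cancel]
  have hBc : B.ncard = p := by
    have hd := hB.ncard_dvd_card hBn.1.nonempty
    rw [hcardX] at hd
    obtain ⟨e, he, he'⟩ := (Nat.dvd_prime_pow hp).mp hd
    have h1 := Set.one_lt_ncard_iff_nontrivial.mpr hBn.1
    have h2 : B.ncard < Nat.card (SubMulAction.ofStabilizer G a) := by
      rw [← Set.ncard_univ]
      exact Set.ncard_lt_ncard (Set.ssubset_univ_iff.mpr hBn.2)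
    rw [hcardX, he'] at h2
    have h3 : e < 2 := (Nat.pow_lt_pow_iff_right hp.one_lt).mp h2
    rw [he'] at h1
    interval_cases e
    · simp at h1
    · simpa using he'
  set Bl : Set Ω := Subtype.val '' B with hBl
  have hBlc : Bl.ncard = p := by rw [hBl, Set.ncard_image_of_injective _ Subtype.val_injective, hBc]
  have hne : ∀ z ∈ Bl, z ≠ a := by
    rintro _ ⟨x, -, rfl⟩
    exact SubMulAction.mem_ofStabilizer_iff G a |>.mp x.2
  have hblock : ∀ g : G, g • a = a → ∀ z ∈ Bl, g • z ∈ Bl → ∀ w ∈ Bl, g • w ∈ Bl := by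
    rintro g hga _ ⟨x, hx, rfl⟩ hgx _ ⟨y, hy, rfl⟩
    obtain ⟨x', hx', he⟩ := hgx
    set k : MulAction.stabilizer G a := ⟨g, hga⟩
    have hkx : k • x = x' := Subtype.ext he.symm
    have heq := hB.smul_eq_of_mem hx (hkx ▸ hx' : k • x ∈ B)
    exact ⟨k • y, heq ▸ Set.smul_mem_smul_set hy, rfl⟩
  obtain ⟨b, hb⟩ : Bl.Nonempty := (hBn.1.nonempty).image _
  have hba : b ≠ a := hne b hb
  by_cases hp2 : p = 2
  · subst hp2
    refine ⟨rfl, ?_⟩
    obtain ⟨c, hc, hcb⟩ := Set.exists_ne_of_one_lt_ncard (s := Bl) (by omega) b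
    have hca : c ≠ a := hne c hc
    have hBl2 : ∀ z ∈ Bl, z = b ∨ z = c := by
      intro z hz
      by_contra hcon
      simp only [not_or] at hcon
      have h3 : ({b, c, z} : Finset Ω).card = 3 := by
        simp [Ne.symm hcb, Ne.symm hcon.1, Ne.symm hcon.2]
      have := Set.ncard_le_ncard (show (({b, c, z} : Finset Ω) : Set Ω) ⊆ Bl by
        intro w hw; simp at hw; rcases hw with rfl | rfl | rfl <;> assumption)
      rw [Set.ncard_coe_finset, h3, hBlc] at this
      omega
    set E := MulAction.stabilizer G a ⊓ MulAction.stabilizer G b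
    have hEc : ∀ e ∈ E, e • c = c := by
      intro e he
      rcases hBl2 _ (hblock e he.1 b hb (by rw [show e • b = b from he.2]; exact hb) c hc) with h | h
      · exact absurd (smul_left_cancel e (h.trans (show e • b = b from he.2).symm)) hcb
      · exact h
    have hT : (Finset.univ \ {a, b, c} : Finset Ω).card = 2 := by
      rw [Finset.card_sdiff_of_subset (Finset.subset_univ _), Finset.card_univ, hΩ]
      simp [hba.symm, hca.symm, Ne.symm hcb]
    obtain ⟨d, d', hdd, hdd'⟩ := Finset.card_eq_two.mp hT
    have hmem : ∀ z, z = a ∨ z = b ∨ z = c ∨ z = d ∨ z = d' := by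
      intro z
      by_cases hz : z ∈ ({a, b, c} : Finset Ω)
      · simp at hz; tauto
      · have : z ∈ (Finset.univ \ {a, b, c} : Finset Ω) := by simp only [Finset.mem_sdiff, Finset.mem_univ, true_and]; exact hz
        rw [hdd'] at this; simp at this; tauto
    have hd : d ≠ a ∧ d ≠ b ∧ d ≠ c := by
      have : d ∈ (Finset.univ \ {a, b, c} : Finset Ω) := hdd' ▸ by simp
      simpa using this
    have hEle : Nat.card E ≤ 2 := by
      have hTc : Nat.card {z // z ∈ ({d, d'} : Finset Ω)} = 2 := by
        rw [Nat.card_eq_fintype_card, Fintype.card_coe, Finset.card_pair hdd]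
      rw [← hTc]
      refine Nat.card_le_card_of_injective (fun e => ⟨(e : G) • d, ?_⟩) ?_
      · rcases hmem ((e : G) • d) with h | h | h | h | h
        · exact absurd (smul_left_cancel _ (h.trans e.2.1.symm)) hd.1
        · exact absurd (smul_left_cancel _ (h.trans e.2.2.symm)) hd.2.1
        · exact absurd (smul_left_cancel _ (h.trans (hEc _ e.2).symm)) hd.2.2
        · simp [h]
        · simp [h]
      · intro e e' h
        have h' : (e : G) • d = (e' : G) • d := congrArg Subtype.val h
        refine Subtype.ext (inv_mul_eq_one.mp ?_).symm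
        set k := (e' : G)⁻¹ * e
        have hk : k ∈ E := mul_mem (inv_mem e'.2) e.2
        have hkd : k • d = d := by rw [mul_smul, h', inv_smul_smul]
        have hk' : ∀ z, z ≠ d' → k • z = z := by
          intro z hz
          rcases hmem z with rfl | rfl | rfl | rfl | rfl
          · exact hk.1
          · exact hk.2
          · exact hEc k hk
          · exact hkd
          · exact absurd rfl hz
        refine eq_of_smul_eq_smul (α := Ω) fun z => ?_
        rw [one_smul]
        by_cases hz : z = d'
        · subst hz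
          by_contra hkz
          exact hkz (smul_left_cancel k (hk' (k • z) hkz))
        · exact hk' z hz
    have hcardG : Nat.card G = 5 * (4 * Nat.card E) := by
      haveI : MulAction.IsPretransitive G Ω := ⟨fun x y => by
        obtain ⟨x', hx'⟩ := Fintype.exists_ne_of_one_lt_card (by omega : 1 < Fintype.card Ω) x
        obtain ⟨y', hy'⟩ := Fintype.exists_ne_of_one_lt_card (by omega : 1 < Fintype.card Ω) y
        obtain ⟨g, hg, -⟩ := hpair hx'.symm hy'.symm
        exact ⟨g, hg⟩⟩
      rw [← (MulAction.stabilizer G a).index_mul_card, MulAction.index_stabilizer_of_transitive G a,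
        Nat.card_eq_fintype_card, hΩ]
      congr 1
      have horb : MulAction.orbit (MulAction.stabilizer G a) b = ({a}ᶜ : Set Ω) := by
        ext x
        constructor
        · rintro ⟨g, rfl⟩ e
          exact hba (smul_left_cancel (g : G) ((Set.mem_singleton_iff.mp e).trans g.2.symm))
        · intro hx
          obtain ⟨g, hga, hgb⟩ := hpair hba.symm (Ne.symm hx : a ≠ x)
          exact ⟨⟨g, hga⟩, hgb⟩
      rw [CfsgLib.SquareDegree.Setting.card_eq_orbit_mul (MulAction.stabilizer G a) b, horb,
        Set.ncard_compl, Set.ncard_singleton, Nat.card_eq_fintype_card, hΩ]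
      rfl
    have hE1 : Nat.card E ≠ 2 := by
      intro h
      apply CfsgLib.SquareDegree.card_ne_forty (Ω := Ω) (by rw [hΩ]; norm_num)
        (MulAction.toPermHom G Ω).range
      rw [← Nat.card_congr (MonoidHom.ofInjective (f := MulAction.toPermHom G Ω)
        MulAction.toPerm_injective).toEquiv, hcardG, h]
    have : 0 < Nat.card E := Nat.card_pos
    omega
  · exfalso
    have hb_pair : ∀ {x y : Ω}, y ≠ x → ∃ g : G, g • a = x ∧ g • b = y :=
      fun h => hpair hba.symm h.symm
    let R : Ω → Ω → Ω → Prop := fun x y z =>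
      ∃ g : G, g • a = x ∧ g⁻¹ • y ∈ Bl ∧ g⁻¹ • z ∈ Bl
    have htrans : ∀ {x y z w}, R x y z → R x z w → R x y w := by
      rintro x y z w ⟨g, hga, hy, hz⟩ ⟨g', hg'a, hz', hw⟩
      refine ⟨g, hga, hy, ?_⟩
      have hk : (g⁻¹ * g') • a = a := by rw [mul_smul, hg'a, inv_smul_eq_iff, hga]
      have := hblock _ hk _ hz' (by rwa [mul_smul, smul_inv_smul]) _ hw
      rwa [mul_smul, smul_inv_smul] at this
    refine CfsgLib.SquareDegree.Setting.false_of_setting
      ({ prime := hp
         three_le := by have := hp.two_le; omega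
         card := hΩ
         two := h2
         faith := inferInstance
         R := R
         ne_left := ?_
         refl := ?_
         symm := ?_
         trans := htrans
         smul := ?_
         class_card := ?_ } : CfsgLib.SquareDegree.Setting G Ω p)
    · rintro x y z ⟨g, hga, hy, -⟩ rfl
      exact hne _ hy (by rw [inv_smul_eq_iff, hga])
    · intro x y hyx
      obtain ⟨g, hga, hgb⟩ := hb_pair hyx
      have : g⁻¹ • y = b := by rw [inv_smul_eq_iff, hgb]
      exact ⟨g, hga, this ▸ hb, this ▸ hb⟩
    · rintro x y z ⟨g, hga, hy, hz⟩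
      exact ⟨g, hga, hz, hy⟩
    · rintro k x y z ⟨g, hga, hy, hz⟩
      refine ⟨k * g, by rw [mul_smul, hga], ?_, ?_⟩ <;>
        rwa [mul_inv_rev, mul_smul, inv_smul_smul]
    · intro x y hyx
      obtain ⟨g, hga, hgb⟩ := hb_pair hyx
      have hgy : g⁻¹ • y ∈ Bl := by rw [← hgb, inv_smul_smul]; exact hb
      rw [← hBlc, ← Set.ncard_image_of_injective Bl (MulAction.injective g), ← Set.ncard_coe_finset]
      congr 1
      ext z
      simp only [Finset.coe_filter, Finset.mem_univ, true_and, Set.mem_setOf_eq, Set.mem_image]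
      constructor
      · intro h
        obtain ⟨g', hg'a, hy', hz'⟩ := h
        have hk : (g⁻¹ * g') • a = a := by rw [mul_smul, hg'a, inv_smul_eq_iff, hga]
        have := hblock _ hk _ hy' (by rwa [mul_smul, smul_inv_smul]) _ hz'
        rw [mul_smul, smul_inv_smul] at this
        exact ⟨_, this, smul_inv_smul g z⟩
      · rintro ⟨w, hw, rfl⟩
        exact ⟨g, hga, hgy, by rwa [inv_smul_smul]⟩

end Cfsg.Agent.S2205
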