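import Cfsg.Statements.S2207
import Cfsg.Agent.Lib.FrobSuborbit.Main
import Cfsg.Agent.Lib.Recognition.Icosahedral
import Cfsg.Agent.Lib.Small.OrderSixty
import Cfsg.Agent.Lib.FewOrders.Prime

set_option autoImplicit false
open Cfsg

namespace Cfsg.Agent.S2207

/-- Primitive rank 3 groups whose point stabilizer acts as a Frobenius group on one of its two non-trivial orbits. Let a finite group G of even order act faithfully and primitively on a finite set X so that the stabilizer of a point A has exactly three orbits, and suppose that on one of its non-trivial orbits I the stabilizer of A acts faithfully as a Frobenius group: transitively, some non-identity element fixing a point of I, and no non-identity element fixing two points of I. Then either G ≅ A₅ and X has 10 points (the action on unordered pairs), or G is solvable and has a normal subgroup of order 16 acting regularly on X. -/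
theorem result {G X : Type*} [Group G] [Finite G] [Fintype X] [MulAction G X] [FaithfulSMul G X] (heven : Even (Nat.card G)) (hprim : MulAction.IsPreprimitive G X) (A : X)
    (h3 : Nat.card (MulAction.orbitRel.Quotient ↥(MulAction.stabilizer G A) X) = 3) (B : X) (hBA : B ≠ A)
    (hfaith : ∀ g ∈ MulAction.stabilizer G A, (∀ h ∈ MulAction.stabilizer G A, g • (h • B) = h • B) → g = 1)
    (hfix : ∃ g ∈ MulAction.stabilizer G A, g ≠ 1 ∧ g • B = B)
    (hfrob : ∀ g ∈ MulAction.stabilizer G A, ∀ h ∈ MulAction.stabilizer G A, g • B = B → g • (h • B) = h • B → h • B ≠ B → g = 1) :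
    (Nonempty (G ≃* ↥(alternatingGroup (Fin 5))) ∧ Fintype.card X = 10) ∨
    (IsSolvable G ∧ ∃ N : Subgroup G, N.Normal ∧ Nat.card N = 16 ∧ ∀ x y : X, ∃! n : ↥N, (n : G) • x = y) := by
  obtain ⟨s, -, -⟩ := CfsgLib.FrobSuborbit.exists_frame heven hprim A h3 B hBA hfaith hfix hfrob
  haveI := hprim
  haveI : Nontrivial X := ⟨B, A, hBA⟩
  rcases s.classify heven with ⟨hX, hG⟩ | ⟨hX, hG⟩
  · have hns : ¬ Group.IsSolvable G := by
      intro hs
      obtain ⟨N, p, k, _, hp, hk, hc, -⟩ :=
        CfsgLib.FrobSuborbit.exists_regular_normal (G := G) (X := X)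
      rw [hc, hX] at hk
      have h2 : p = 2 := ((Nat.prime_dvd_prime_iff_eq Nat.prime_two hp).1
        (Nat.prime_two.dvd_of_dvd_pow (show 2 ∣ p ^ k by rw [← hk]; norm_num))).symm
      have h5 : p = 5 := ((Nat.prime_dvd_prime_iff_eq (by norm_num) hp).1
        (Nat.Prime.dvd_of_dvd_pow (p := 5) (by norm_num)
          (show 5 ∣ p ^ k by rw [← hk]; norm_num))).symm
      omega
    haveI := CfsgLib.Icosahedral.isSimpleGroup_of_card_sixty hG hns
    exact Or.inl ⟨CfsgLib.Small.nonempty_mulEquiv_alternating_five hG,
      by rw [← Nat.card_eq_fintype_card]; exact hX⟩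
  · have hs : Group.IsSolvable G := by
      have key : ∀ t : ℕ, t.Prime → ∀ a b q : ℕ, q.Prime →
          t ∣ 2 ^ a * q ^ b → t = 2 ∨ t = q := by
        intro t ht a b q hq hd
        rcases ht.dvd_mul.1 hd with h | h
        · exact Or.inl ((Nat.prime_dvd_prime_iff_eq ht Nat.prime_two).1 (ht.dvd_of_dvd_pow h))
        · exact Or.inr ((Nat.prime_dvd_prime_iff_eq ht hq).1 (ht.dvd_of_dvd_pow h))
      rcases hG with hG | hG
      · exact CfsgLib.FewOrders.isSolvable_of_two_primes Nat.prime_two Nat.prime_three
          fun t ht hd => key t ht 6 2 3 Nat.prime_three (by rw [hG] at hd; exact hd)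
      · exact CfsgLib.FewOrders.isSolvable_of_two_primes Nat.prime_two
          (show Nat.Prime 5 by norm_num)
          fun t ht hd => key t ht 6 1 5 (by norm_num) (by rw [hG] at hd; exact hd)
    obtain ⟨N, p, k, hN, -, -, hc, hreg⟩ :=
      CfsgLib.FrobSuborbit.exists_regular_normal (G := G) (X := X)
    exact Or.inr ⟨hs, N, hN, hc.trans hX, hreg⟩

end Cfsg.Agent.S2207
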