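import Cfsg.Statements.S2209
import Cfsg.Agent.Lib.KnownSimple51.LongRootCentralizer
import Cfsg.Agent.Lib.ChevStr.InstanceTables

set_option autoImplicit false
open Cfsg
open scoped MatrixGroups

namespace Cfsg.Agent.S2209

open Cfsg.Lie CfsgLib.KnownSimple51.LongRoot

/-- The decidable form of the facts about the highest root. -/
def check (D : ChevalleyDatum) (top : ℕ) (L : List ℕ) : Bool :=
  decide (top + 1 = D.nroots) && decide (D.IsPosRoot top) &&
    (List.range D.nroots).all (fun s => !(decide (D.IsPosRoot s) || L.contains s) ||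
      (s != D.neg top && (D.commTerms top s).isEmpty)) &&
    L.all (fun s => decide (s < D.nroots)) &&
    (List.range D.rank).all (fun i => decide (0 ≤ D.cartan i top) &&
      (D.cartan i top != 0 || L.contains (D.neg (D.simple i)))) &&
    (List.range D.rank).any (fun i0 => (List.range D.rank).all fun k =>
      decide (D.cartan k top = if k = i0 then 1 else 0))

theorem topData_of_check {D : ChevalleyDatum} {top : Fin D.nroots} {L : List ℕ}
    (h : check D top L = true) : TopData D top L := by
  simp only [check, Bool.and_eq_true, List.all_eq_true, List.any_eq_true, List.mem_range, decide_eq_true_eq,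
    Bool.or_eq_true, Bool.not_eq_true', Bool.or_eq_false_iff, decide_eq_false_iff_not, List.contains_iff_mem,
    bne_iff_ne, List.isEmpty_iff] at h
  obtain ⟨⟨⟨⟨⟨h1, h2⟩, h3⟩, h4⟩, h5⟩, i0, hi0, h6⟩ := h
  refine ⟨h1, h2, fun s hs => ?_, h4, fun i => (h5 i i.isLt).1, fun i hi => ?_, ⟨i0, hi0⟩, fun k => ?_⟩
  · rcases h3 s s.isLt with h | h
    · simp_all
    · exact h
  · exact (h5 i i.isLt).2.resolve_left (fun h => h hi)
  · rw [h6 k k.isLt]
    simp [Fin.ext_iff]

theorem checkE6 : check chevE6 71 [15, 29, 32, 34, 35] = true := by decide +kernel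
theorem checkE7 : check chevE7 125 [47, 52, 56, 59, 61, 62] = true := by decide +kernel
theorem checkE8 : check chevE8 239 [77, 98, 104, 109, 113, 116, 118] = true := by decide +kernel

theorem aux {F : Type*} [Field F] {D : ChevalleyDatum} (C : CfsgLib.ChevStr.ChevCore D F) {L : List ℕ} {n : ℕ}
    (hn : n + 1 = D.nroots) (h : check D n L = true) {t : GL D.Idx F}
    (ht : (t : Matrix D.Idx D.Idx F) = D.x F (D.nroots - 1) 1) :
    D.group F ⊓ Subgroup.centralizer {t} = D.posUnipotent F ⊔
      Subgroup.closure {g : GL D.Idx F | ∃ s ∈ L, ∃ c : F, (g : Matrix D.Idx D.Idx F) = D.x F s c} := by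
  refine centralizer_eq (top := ⟨n, by omega⟩) (topData_of_check h) C (Units.ext ?_)
  rw [ht, C.coe_xGL, show D.nroots - 1 = n by omega]


/-- Centralizer of a long root involution in the Chevalley groups of type E₆, E₇, E₈ over a finite field F of characteristic two. Let G be the group generated by the root elements, U the subgroup generated by the positive root subgroups, r the highest root (the last root index: 71, 125, 239 respectively), and t the element of G with matrix x_r(1). Then the centralizer of t in G is the subgroup generated by U together with the root subgroups X_{−p} for the fundamental roots p orthogonal to r — all fundamental roots except p₂ for E₆, except p₁ for E₇, except p₈ for E₈ (numbering with p₁–p₃–p₄–…–p_l the long chain and p₂ joined to p₄); the indices of these negative fundamental roots are 15, 29, 32, 34, 35 (E₆), 47, 52, 56, 59, 61, 62 (E₇), 77, 98, 104, 109, 113, 116, 118 (E₈). (This is the unipotent radical of the corresponding maximal parabolic subgroup extended by the root subgroups of its Levi factor, of type A₅, D₆, E₇ respectively.)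 -/
theorem result {F : Type*} [Field F] [Fintype F] [CharP F 2] (d : Cfsg.Lie.ChevalleyDatum × List ℕ)
    (hd : d ∈ [(Cfsg.Lie.chevE6, [15, 29, 32, 34, 35]), (Cfsg.Lie.chevE7, [47, 52, 56, 59, 61, 62]), (Cfsg.Lie.chevE8, [77, 98, 104, 109, 113, 116, 118])])
    (t : GL d.1.Idx F) (ht : (t : Matrix d.1.Idx d.1.Idx F) = d.1.x F (d.1.nroots - 1) 1) :
    d.1.group F ⊓ Subgroup.centralizer {t} = d.1.posUnipotent F ⊔ Subgroup.closure {g : GL d.1.Idx F | ∃ s ∈ d.2, ∃ c : F, (g : Matrix d.1.Idx d.1.Idx F) = d.1.x F s c} := by
  simp only [List.mem_cons, List.not_mem_nil, or_false] at hd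
  rcases hd with rfl | rfl | rfl
  · exact aux (CfsgLib.ChevStr.coreE6 F) (n := 71) (by decide +kernel) checkE6 ht
  · exact aux (CfsgLib.ChevStr.coreE7 F) (n := 125) (by decide +kernel) checkE7 ht
  · exact aux (CfsgLib.ChevStr.coreE8 F) (n := 239) (by decide +kernel) checkE8 ht

end Cfsg.Agent.S2209
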