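import Cfsg.Statements.S2214
import Cfsg.Agent.Lib.KnownSimple51.ChevClosedField
import Cfsg.Agent.Lib.ChevStr.InstanceTables

set_option autoImplicit false
open Cfsg
open scoped MatrixGroups

namespace Cfsg.Agent.S2214

open CfsgLib.ChevStr CfsgLib.ChevField CfsgLib.KnownSimple51.ChevClosed in
theorem aux {k : Type*} [Field k] {D : Cfsg.Lie.ChevalleyDatum} (C : ChevCore D k) (σ : k ≃+* k) {q : ℕ}
    (hq : q ≠ 0) (hσ : ∀ t, σ t = t ^ q)
    (K : Subgroup (GL D.Idx k)) (hKG : K ≤ D.group k)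
    (hLK : Subgroup.closure {g : GL D.Idx k | ∃ (s : ℕ) (t : k), t ^ q = t ∧ (g : Matrix D.Idx D.Idx k) = D.x k s t} ≤ K)
    (hKfix : ∀ g ∈ K, ∀ i j : D.Idx, ((g : Matrix D.Idx D.Idx k) i j) ^ q = (g : Matrix D.Idx D.Idx k) i j) :
    D.group k ⊓ Subgroup.centralizer (K : Set (GL D.Idx k)) = ⊥ ∧
    ∀ g : GL D.Idx k, g ∈ D.group k → (g ∈ Subgroup.normalizer (K : Set (GL D.Idx k)) ↔
      ∀ i j : D.Idx, ((g : Matrix D.Idx D.Idx k) i j) ^ q = (g : Matrix D.Idx D.Idx k) i j) := by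
  have hfix : ∀ g : GL D.Idx k, mapGL σ.toRingHom g = g ↔
      ∀ i j : D.Idx, ((g : Matrix D.Idx D.Idx k) i j) ^ q = (g : Matrix D.Idx D.Idx k) i j := fun g => by
    constructor
    · intro h i j
      rw [← hσ]
      have h1 : ((mapGL σ.toRingHom g : GL D.Idx k) : Matrix D.Idx D.Idx k) i j = (g : Matrix D.Idx D.Idx k) i j := by rw [h]
      exact h1
    · intro h
      exact Units.ext (Matrix.ext fun i j => (hσ _).trans (h i j))
  have hL : fixedRoots D σ ≤ K := by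
    refine le_trans (Subgroup.closure_mono ?_) hLK
    rintro g ⟨s, t, ht, hg⟩
    exact ⟨s, t, by rw [← hσ]; exact ht, hg⟩
  have hbot : D.group k ⊓ Subgroup.centralizer (K : Set (GL D.Idx k)) = ⊥ := by
    refine (Subgroup.eq_bot_iff_forall _).2 fun g hg => eq_one_of_commute C hg.1 fun r => ?_
    exact (hg.2 _ (hL (xGL_mem_fixedRoots C σ r (map_one σ)))).symm
  refine ⟨hbot, fun g hg => ⟨fun hn => (hfix g).1 ?_, fun h =>
    mem_normalizer C σ hKG hL (fun x hx => (hfix x).2 (hKfix x hx)) hg ((hfix g).2 h)⟩⟩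
  have hσg : mapGL σ.toRingHom g ∈ D.group k := group_map_le σ.toRingHom ⟨g, hg, rfl⟩
  have h1 : (mapGL σ.toRingHom g)⁻¹ * g ∈ D.group k ⊓ Subgroup.centralizer (K : Set (GL D.Idx k)) := by
    refine ⟨(D.group k).mul_mem ((D.group k).inv_mem hσg) hg, fun x hx => ?_⟩
    have hy : g * x * g⁻¹ ∈ K := (Subgroup.mem_normalizer_iff.1 hn x).1 hx
    have e1 := (hfix _).2 (hKfix _ hy)
    rw [map_mul, map_mul, map_inv, (hfix x).2 (hKfix x hx)] at e1
    calc x * ((mapGL σ.toRingHom g)⁻¹ * g)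
        = (mapGL σ.toRingHom g)⁻¹ * (mapGL σ.toRingHom g * x * (mapGL σ.toRingHom g)⁻¹) * g := by group
      _ = _ := by rw [e1]; group
  rw [hbot, Subgroup.mem_bot, inv_mul_eq_one] at h1
  exact h1


/-- Let k be an algebraically closed field of prime characteristic p, G the adjoint Chevalley group of type G₂, B₂, D₄, F₄, E₆, E₇ or E₈ over k (the matrix group generated by the root elements x_s(t), t ∈ k, acting on the Lie algebra), q = p^a with a ≥ 1, and K a subgroup of G containing every root element x_s(t) with t^q = t and consisting of matrices all of whose entries c satisfy c^q = c. Then the centralizer of K in G is trivial, and the normalizer of K in G is exactly the set of elements of G all of whose entries c satisfy c^q = c. -/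
theorem result {k : Type*} [Field k] [IsAlgClosed k] (p : ℕ) [Fact p.Prime] [CharP k p] (D : Cfsg.Lie.ChevalleyDatum) (hD : D ∈ [Cfsg.Lie.chevG2, Cfsg.Lie.chevB2, Cfsg.Lie.chevD4, Cfsg.Lie.chevF4, Cfsg.Lie.chevE6, Cfsg.Lie.chevE7, Cfsg.Lie.chevE8]) (a : ℕ) (ha : 1 ≤ a) (K : Subgroup (GL D.Idx k)) (hKG : K ≤ D.group k)
    (hLK : Subgroup.closure {g : GL D.Idx k | ∃ (s : ℕ) (t : k), t ^ (p ^ a) = t ∧ (g : Matrix D.Idx D.Idx k) = D.x k s t} ≤ K)
    (hKfix : ∀ g ∈ K, ∀ i j : D.Idx, ((g : Matrix D.Idx D.Idx k) i j) ^ (p ^ a) = (g : Matrix D.Idx D.Idx k) i j) :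
    D.group k ⊓ Subgroup.centralizer (K : Set (GL D.Idx k)) = ⊥ ∧
    ∀ g : GL D.Idx k, g ∈ D.group k → (g ∈ Subgroup.normalizer (K : Set (GL D.Idx k)) ↔ ∀ i j : D.Idx, ((g : Matrix D.Idx D.Idx k) i j) ^ (p ^ a) = (g : Matrix D.Idx D.Idx k) i j) := by
  have hC : Nonempty (CfsgLib.ChevStr.ChevCore D k) := by
    simp only [List.mem_cons, List.not_mem_nil, or_false] at hD
    rcases hD with rfl | rfl | rfl | rfl | rfl | rfl | rfl
    exacts [⟨CfsgLib.ChevStr.coreG2 k⟩, ⟨CfsgLib.ChevStr.coreB2 k⟩, ⟨CfsgLib.ChevStr.coreD4 k⟩,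
      ⟨CfsgLib.ChevStr.coreF4 k⟩, ⟨CfsgLib.ChevStr.coreE6 k⟩, ⟨CfsgLib.ChevStr.coreE7 k⟩, ⟨CfsgLib.ChevStr.coreE8 k⟩]
  obtain ⟨C⟩ := hC
  exact aux C (iterateFrobeniusEquiv k p a) (pow_ne_zero a (Fact.out : p.Prime).ne_zero)
    (fun t => iterateFrobeniusEquiv_def k p a t) K hKG hLK hKfix

end Cfsg.Agent.S2214
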