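import Cfsg.Statements.S2221
import Cfsg.Agent.Lib.InvChar.SylowTwoModel
-- import your own Cfsg.Agent.* helpers here

set_option autoImplicit false
open Cfsg

namespace Cfsg.Agent.S2221

open CfsgLib.SylowDecomp Equiv Subgroup

theorem decomposable_iff_isInternal {n : ℕ} (P : Subgroup (alternatingGroup (Fin n))) :
    (∃ S₁ S₂ : Subgroup (alternatingGroup (Fin n)), S₁ ≠ ⊥ ∧ S₂ ≠ ⊥ ∧
      Cfsg.IsInternalDirectProduct S₁ S₂ P) ↔ Decomposable P := by
  rw [decomposable_subgroup]
  constructor
  · rintro ⟨S₁, S₂, h1, h2, l1, l2, hc, hi, hs⟩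
    exact ⟨S₁, S₂, h1, h2, l1, l2, hc, hi, hs⟩
  · rintro ⟨S₁, S₂, h1, h2, l1, l2, hc, hi, hs⟩
    exact ⟨S₁, S₂, h1, h2, l1, l2, hc, hi, hs⟩

theorem vtwo_alternating {n : ℕ} (hn : 2 ≤ n) :
    (Nat.card (alternatingGroup (Fin n))).factorization 2 + 1 = vtwo n := by
  haveI : Nontrivial (Fin n) := Fin.nontrivial_iff_two_le.2 hn
  have h := two_mul_nat_card_alternatingGroup (α := Fin n)
  rw [Nat.card_perm, Nat.card_fin] at h
  show _ = (Nat.factorial n).factorization 2
  rw [← h, Nat.factorization_mul (by norm_num) Nat.card_pos.ne', Finsupp.add_apply,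
    Nat.Prime.factorization_self Nat.prime_two, add_comm]

/-- A permutation representation by even permutations of the right order is the Sylow subgroup. -/
theorem decomposable_congr_model {n : ℕ} (hn : 2 ≤ n) (P : Sylow 2 (alternatingGroup (Fin n)))
    {Q : Type} [Group Q] [Finite Q] (f : Q →* Perm (Fin n)) (hf : Function.Injective f)
    (hsign : ∀ q, Perm.sign (f q) = 1) (hcard : 2 * Nat.card Q = 2 ^ vtwo n) :
    Decomposable (P : Subgroup (alternatingGroup (Fin n))) ↔ Decomposable Q := by
  have hmem : ∀ q, f q ∈ alternatingGroup (Fin n) := fun q => Equiv.Perm.mem_alternatingGroup.2 (hsign q)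
  have hg : Function.Injective (f.codRestrict (alternatingGroup (Fin n)) hmem) :=
    fun a b h => hf (congrArg Subtype.val h)
  have hH : Nat.card (f.codRestrict (alternatingGroup (Fin n)) hmem).range =
      2 ^ (Nat.card (alternatingGroup (Fin n))).factorization 2 := by
    rw [← Nat.card_congr (MonoidHom.ofInjective hg).toEquiv]
    rw [← vtwo_alternating hn, pow_succ', Nat.mul_right_inj two_ne_zero] at hcard
    exact hcard
  have e : (P : Subgroup (alternatingGroup (Fin n))) ≃*
      (f.codRestrict (alternatingGroup (Fin n)) hmem).range := P.equiv (Sylow.ofCard _ hH)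
  exact decomposable_congr (e.trans (MonoidHom.ofInjective hg).symm)

/-- The sign as a permutation of at most one pair. -/
noncomputable def signSwap (t : ℕ) : ℤˣ →* Perm (Fin t) where
  toFun u := if h : 2 ≤ t then (if u = 1 then 1 else Equiv.swap ⟨0, by omega⟩ ⟨1, by omega⟩) else 1
  map_one' := by split <;> simp
  map_mul' a b := by
    rcases Int.units_eq_one_or a with rfl | rfl <;> rcases Int.units_eq_one_or b with rfl | rfl <;>
      split <;> simp

theorem sign_signSwap {t : ℕ} (ht : 2 ≤ t) (u : ℤˣ) : Perm.sign (signSwap t u) = u := by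
  rcases Int.units_eq_one_or u with rfl | rfl
  · rw [map_one, map_one]
  · simp [signSwap, ht]

theorem small_square : ∀ x : Perm (Fin 5), Perm.sign x = 1 → x ^ 4 = 1 → x ^ 2 = 1 := by
  decide +kernel

theorem small_square' : ∀ x : Perm (Fin 4), Perm.sign x = 1 → x ^ 4 = 1 → x ^ 2 = 1 := by
  decide +kernel

/-- A group of order four and exponent two is decomposable. -/
theorem decomposable_four {Q : Type*} [Group Q] [Finite Q] (h4 : Nat.card Q = 4)
    (hsq : ∀ x : Q, x ^ 2 = 1) : Decomposable Q := by
  haveI : Nontrivial Q := Finite.one_lt_card_iff_nontrivial.1 (by omega)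
  obtain ⟨a, ha⟩ := exists_ne (1 : Q)
  have hoa : ∀ x : Q, x ≠ 1 → Nat.card (zpowers x) = 2 := fun x hx => by
    rw [Nat.card_zpowers]
    exact (orderOf_eq_prime_iff (p := 2) (hp := ⟨Nat.prime_two⟩)).2 ⟨hsq x, hx⟩
  obtain ⟨b, hb⟩ : ∃ b, b ∉ zpowers a := by
    by_contra hc
    push Not at hc
    have := hoa a ha
    rw [(eq_top_iff' _).2 hc, Nat.card_congr Subgroup.topEquiv.toEquiv, h4] at this
    omega
  have hb1 : b ≠ 1 := fun h => hb (h ▸ one_mem _)
  have hcomm : ∀ x y : Q, x * y = y * x := fun x y => by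
    have h2 : ∀ z : Q, z⁻¹ = z := fun z => inv_eq_of_mul_eq_one_right (by rw [← sq, hsq])
    calc x * y = (x * y)⁻¹ := (h2 _).symm
      _ = y * x := by rw [mul_inv_rev, h2, h2]
  refine ⟨zpowers a, zpowers b, zpowers_ne_bot.2 ha, zpowers_ne_bot.2 hb1,
    fun u _ v _ => hcomm u v, ?_, ?_⟩
  · have hd := Subgroup.card_dvd_of_le (inf_le_left : zpowers a ⊓ zpowers b ≤ zpowers a)
    rw [hoa a ha] at hd
    rcases (Nat.dvd_prime Nat.prime_two).1 hd with h | h
    · exact Subgroup.card_eq_one.1 h
    · exfalso
      have e1 : zpowers a ⊓ zpowers b = zpowers a :=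
        eq_of_le_of_card_ge inf_le_left (by rw [h, hoa a ha])
      have e2 : zpowers a = zpowers b :=
        eq_of_le_of_card_ge (inf_eq_left.1 e1) (by rw [hoa a ha, hoa b hb1])
      exact hb (e2 ▸ mem_zpowers b)
  · have hle : zpowers a ≤ zpowers a ⊔ zpowers b := le_sup_left
    have h1 := Subgroup.card_dvd_of_le hle
    have h2 := Subgroup.card_subgroup_dvd_card (zpowers a ⊔ zpowers b)
    rw [hoa a ha] at h1
    rw [h4] at h2
    have h3 : Nat.card (↥(zpowers a ⊔ zpowers b)) ≠ 2 := fun h => by
      have e : zpowers a = zpowers a ⊔ zpowers b := eq_of_le_of_card_ge hle (by rw [h, hoa a ha])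
      exact hb (e ▸ mem_sup_right (mem_zpowers b))
    apply eq_top_of_card_eq
    have := Nat.le_of_dvd (by norm_num) h2
    rw [h4]
    interval_cases hc : Nat.card (↥(zpowers a ⊔ zpowers b)) <;> omega

/-- Direct decomposability of the Sylow 2-subgroups of the alternating groups. Let n ≥ 4 and let P be a Sylow 2-subgroup of the alternating group of degree n. Then P is the internal direct product of two nontrivial subgroups if and only if n = 4, n = 5, or n ≡ 2, 3 (mod 4) with 4⌊n/4⌋ not a power of 2. In the remaining cases (n ≡ 0, 1 (mod 4) with n ≥ 8, or n ≡ 2, 3 (mod 4) with 4⌊n/4⌋ a power of 2) P is directly indecomposable. -/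
theorem result (n : ℕ) (hn : 4 ≤ n)
    (P : Sylow 2 (alternatingGroup (Fin n))) :
    (∃ S₁ S₂ : Subgroup (alternatingGroup (Fin n)), S₁ ≠ ⊥ ∧ S₂ ≠ ⊥ ∧
        Cfsg.IsInternalDirectProduct S₁ S₂ (P : Subgroup (alternatingGroup (Fin n)))) ↔
      (n = 4 ∨ n = 5 ∨ ((n % 4 = 2 ∨ n % 4 = 3) ∧ ∀ r : ℕ, 4 * (n / 4) ≠ 2 ^ r)) := by
  rw [decomposable_iff_isInternal]
  obtain ⟨k, t, ht, hk0, rfl⟩ : ∃ k t, t < 4 ∧ 0 < k ∧ n = 4 * k + t :=
    ⟨n / 4, n % 4, by omega, by omega, by omega⟩
  obtain ⟨R, _, ι, hι, hR, hnice, hdec, hker⟩ := exists_model (4 * k) (by omega) (by omega)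
  haveI : Finite R := Finite.of_injective ι hι
  have hdiv : 4 * ((4 * k + t) / 4) = 4 * k := by omega
  let e : Fin (4 * k) ⊕ Fin t ≃ Fin (4 * k + t) := finSumFinEquiv
  rcases lt_or_ge t 2 with ht2 | ht2
  · -- the even part of the model
    by_cases hk1 : k = 1
    · -- degrees four and five
      subst hk1
      have hcard : Nat.card (P : Subgroup (alternatingGroup (Fin (4 * 1 + t)))) = 4 := by
        have h := vtwo_alternating (n := 4 * 1 + t) (by omega)
        have h3 : vtwo (4 * 1) = 3 := by rw [vtwo_step, vtwo_step]; norm_num [vtwo_one]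
        rw [vtwo_mod_four 1 t ht, h3, show t / 2 = 0 by omega] at h
        rw [P.card_eq_multiplicity, show (Nat.card (alternatingGroup (Fin (4 * 1 + t)))).factorization 2 = 2 by
          omega]
        rfl
      refine iff_of_true (decomposable_four hcard fun x => ?_) (by omega)
      · have h4 : x ^ 4 = 1 := by
          have := pow_card_eq_one' (x := x)
          rwa [hcard] at this
        have h4' : (x.1.1 : Perm (Fin (4 * 1 + t))) ^ 4 = 1 :=
          congrArg (fun y : (P : Subgroup (alternatingGroup (Fin (4 * 1 + t)))) => y.1.1) h4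
        have hx : Perm.sign x.1.1 = 1 := Equiv.Perm.mem_alternatingGroup.1 x.1.2
        refine Subtype.ext (Subtype.ext ?_)
        interval_cases t
        · exact small_square' _ hx h4'
        · exact small_square _ hx h4'
    let f : (pullSign ι).ker →* Perm (Fin (4 * k + t)) :=
      ((e.permCongrHom.toMonoidHom.comp (Perm.sumCongrHom (Fin (4 * k)) (Fin t))).comp
        (ι.prod 1)).comp (pullSign ι).ker.subtype
    rw [decomposable_congr_model (by omega) P f ?_ ?_ ?_]
    · exact iff_of_false (hker (by omega)) (by omega)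
    · refine fun a b h => Subtype.ext (hι ?_)
      exact congrArg Prod.fst (Perm.sumCongrHom_injective (e.permCongrHom.injective h))
    · intro q
      show Perm.sign (e.permCongr (Equiv.Perm.sumCongr (ι q.1) 1)) = 1
      rw [Perm.sign_permCongr, Perm.sign_sumCongr, map_one, mul_one]
      exact q.2
    · have hidx : (pullSign ι).ker.index = 2 := by
        rw [index_ker, MonoidHom.range_eq_top.2, Nat.card_congr Subgroup.topEquiv.toEquiv,
          Nat.card_eq_fintype_card]
        · rfl
        intro u
        obtain ⟨c, hc⟩ := hnice.odd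
        rcases Int.units_eq_one_or u with rfl | rfl
        · exact ⟨1, map_one _⟩
        · exact ⟨c, (Int.units_eq_one_or _).resolve_left hc⟩
      have h := index_mul_card (pullSign ι).ker
      rw [hidx, hR] at h
      rw [h, vtwo_mod_four k t ht, show t / 2 = 0 by omega, add_zero]
  · -- a copy of the whole model
    let f : R →* Perm (Fin (4 * k + t)) :=
      (e.permCongrHom.toMonoidHom.comp (Perm.sumCongrHom (Fin (4 * k)) (Fin t))).comp
        (ι.prod ((signSwap t).comp (pullSign ι)))
    rw [decomposable_congr_model (by omega) P f ?_ ?_ ?_, hdec, hdiv]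
    · constructor
      · exact fun h => Or.inr (Or.inr ⟨by omega, h⟩)
      · rintro (h | h | ⟨-, h⟩)
        · omega
        · omega
        · exact h
    · intro a b h
      exact hι (congrArg Prod.fst (Perm.sumCongrHom_injective (e.permCongrHom.injective h)))
    · intro q
      show Perm.sign (e.permCongr (Equiv.Perm.sumCongr (ι q) (signSwap t (pullSign ι q)))) = 1
      rw [Perm.sign_permCongr, Perm.sign_sumCongr, sign_signSwap ht2]
      exact Int.units_mul_self _
    · rw [hR, vtwo_mod_four k t ht, show t / 2 = 1 by omega, pow_succ']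

end Cfsg.Agent.S2221
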