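import Cfsg.Statements.S2222
import Cfsg.Agent.Lib.KnownSimple51.TreeSylow
import Cfsg.Agent.Lib.KnownSimple51.Pronormal
-- import your own Cfsg.Agent.* helpers here

set_option autoImplicit false
open Cfsg

namespace Cfsg.Agent.S2222

/-- In the alternating group of degree n ≥ 5 every subgroup H of odd index is pronormal: for every element g, the subgroups H and gHg⁻¹ are conjugate by an element of the subgroup they generate. -/
theorem result (n : ℕ) (hn : 5 ≤ n)
    (H : Subgroup (alternatingGroup (Fin n))) (hH : Odd H.index) : Cfsg.IsPronormal H := by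
  obtain ⟨P, hPH⟩ := CfsgLib.KnownSimple51.Pronormal.exists_sylow_le_of_not_dvd_index (p := 2) (H := H)
    (fun h => (Nat.not_even_iff_odd.2 hH) (even_iff_two_dvd.2 h))
  by_cases h6 : 6 ≤ n
  · exact CfsgLib.KnownSimple51.Pronormal.isPronormal_of_normalizer_le P hPH
      ((CfsgLib.KnownSimple51.TreeSylow.sylow_alternating_normalizer h6 P).le.trans hPH)
  obtain rfl : n = 5 := by omega
  have hcard : Nat.card (alternatingGroup (Fin 5)) = 60 := by
    rw [nat_card_alternatingGroup]
    simp [Nat.factorial]
  have hP : Nat.card (P : Subgroup (alternatingGroup (Fin 5))) = 4 := by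
    rw [Sylow.card_eq_multiplicity, hcard, show (60 : ℕ) = 2 ^ 2 * 15 by norm_num,
      Nat.factorization_mul (by norm_num) (by norm_num), Finsupp.add_apply,
      Nat.Prime.factorization_pow Nat.prime_two, Finsupp.single_eq_same,
      Nat.factorization_eq_zero_of_not_dvd (by norm_num), add_zero]
    norm_num
  obtain ⟨k, hk⟩ := hP ▸ Subgroup.card_dvd_of_le hPH
  have hd : Nat.card H ∣ 60 := hcard ▸ Subgroup.card_subgroup_dvd_card H
  have hd' : k ∣ 15 := by
    rw [hk] at hd
    exact (Nat.mul_dvd_mul_iff_left (by norm_num : 0 < 4)).1 hd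
  have hk15 : k = 1 ∨ k = 3 ∨ k = 5 ∨ k = 15 := by
    have : k ≤ 15 := Nat.le_of_dvd (by norm_num) hd'
    revert hd'
    interval_cases k <;> simp
  rcases hk15 with rfl | hk3
  · have he : (P : Subgroup (alternatingGroup (Fin 5))) = H := Subgroup.eq_of_le_of_card_ge hPH (by omega)
    subst he
    intro g
    set K := (P : Subgroup (alternatingGroup (Fin 5))) ⊔
      (P : Subgroup (alternatingGroup (Fin 5))).map (MulAut.conj g).toMonoidHom
    have hgK : ((g • P : Sylow 2 (alternatingGroup (Fin 5))) : Subgroup (alternatingGroup (Fin 5))) ≤ K := le_sup_right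
    obtain ⟨x, hx⟩ := MulAction.exists_smul_eq ↥K (P.subtype le_sup_left) ((g • P).subtype hgK)
    refine ⟨x, x.2, ?_⟩
    rw [Sylow.smul_subtype] at hx
    exact (congrArg (fun Q : Sylow 2 (alternatingGroup (Fin 5)) => (Q : Subgroup (alternatingGroup (Fin 5))))
      (Sylow.subtype_injective hx)).symm
  · apply CfsgLib.KnownSimple51.Pronormal.isPronormal_of_isCoatom
    rcases eq_or_ne H ⊤ with h | h
    · exact Or.inl h
    refine Or.inr ⟨h, fun M hM => ?_⟩
    apply Subgroup.eq_top_of_card_eq
    obtain ⟨l, hl⟩ := Subgroup.card_dvd_of_le hM.le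
    have hlt : Nat.card H < Nat.card M := by
      refine lt_of_le_of_ne (Nat.le_of_dvd Nat.card_pos (Subgroup.card_dvd_of_le hM.le)) fun he => ?_
      exact hM.ne (Subgroup.eq_of_le_of_card_ge hM.le he.ge)
    have hdM : Nat.card M ∣ 60 := hcard ▸ Subgroup.card_subgroup_dvd_card M
    rw [hcard]
    rw [hk] at hl hlt
    rw [hl] at hdM hlt ⊢
    have hl1 : 2 ≤ l := by
      by_contra hl1
      interval_cases l <;> simp at hlt
    have hle := Nat.le_of_dvd (by norm_num) hdM
    rcases hk3 with rfl | rfl | rfl
    · have hl5 : l ≤ 5 := by omega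
      interval_cases l <;> simp_all
    · have hl3 : l ≤ 3 := by omega
      interval_cases l <;> simp_all
    · omega

end Cfsg.Agent.S2222
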