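import Cfsg.Statements.S2225
import Cfsg.Agent.Lib.PronormalPSL.Klein
import Cfsg.Agent.Lib.PronormalPSL.Even
import Cfsg.Agent.Lib.KnownSimple51.Pronormal

set_option autoImplicit false
open Cfsg

namespace Cfsg.Agent.S2225

theorem aux {F : Type*} [Field F] [Fintype F] {d w : ℕ} (hd : d = 2 ^ w) (hw : 1 ≤ w)
    (H : Subgroup (Matrix.ProjectiveSpecialLinearGroup (Fin d) F)) (hH : Odd H.index) :
    Cfsg.IsPronormal H := by
  have : Fact (Nat.Prime 2) := ⟨Nat.prime_two⟩
  obtain ⟨P, hP⟩ := CfsgLib.KnownSimple51.Pronormal.exists_sylow_le_of_not_dvd_index (p := 2) (H := H)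
    (fun h => (Nat.not_even_iff_odd.2 hH) (even_iff_two_dvd.2 h))
  rcases Nat.even_or_odd (Fintype.card F) with he | hq
  · have : CharP F 2 := by
      have h : ringChar F = 2 := FiniteField.even_card_iff_char_two.2 (Nat.even_iff.1 he)
      rw [← h]; exact ringChar.charP F
    exact CfsgLib.PronormalPSL.isPronormal_of_not_dvd_index 2 (by rw [hd]; exact Nat.one_le_two_pow) P hP
  rcases Nat.lt_or_ge w 2 with hw2 | hw2
  · obtain rfl : w = 1 := by omega
    obtain rfl : d = 2 := by simpa using hd
    by_cases h8 : 8 ∣ Nat.card (Matrix.ProjectiveSpecialLinearGroup (Fin 2) F)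
    · exact CfsgLib.KnownSimple51.Pronormal.isPronormal_of_normalizer_le P hP
        ((CfsgLib.PronormalPSL.normalizer_le_of_eight hq h8 P).trans hP)
    · exact CfsgLib.PronormalPSL.isPronormal_klein hq h8 P hP
  · exact CfsgLib.KnownSimple51.Pronormal.isPronormal_of_normalizer_le P hP
      ((CfsgLib.PronormalPSL.normalizer_le_of_four_le hq hw2 hd P).trans hP)


/-- Let F be a finite field and d = 2^w ≥ 2 a power of 2 such that PSL_d(F) is simple. Then every subgroup H of PSL_d(F) of odd index is pronormal: for every g, H and gHg⁻¹ are conjugate by an element of the subgroup they generate. -/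
theorem result {F : Type*} [Field F] [Fintype F]
    (w : ℕ) (hw : 1 ≤ w) (hs : IsSimpleGroup (Matrix.ProjectiveSpecialLinearGroup (Fin (2 ^ w)) F))
    (H : Subgroup (Matrix.ProjectiveSpecialLinearGroup (Fin (2 ^ w)) F)) (hH : Odd H.index) : Cfsg.IsPronormal H := by
  exact aux rfl hw H hH

end Cfsg.Agent.S2225
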