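import Cfsg.Statements.S2226
import Cfsg.Agent.Lib.PronormalPSU.UnitaryEven
import Cfsg.Agent.Lib.PronormalPSU.UnitaryOdd
import Cfsg.Agent.Lib.KnownSimple51.Pronormal

set_option autoImplicit false
open Cfsg

namespace Cfsg.Agent.S2226

theorem aux {F : Type*} [Field F] [Fintype F] {q d w : ℕ} (hF : Fintype.card F = q ^ 2) (hd : d = 2 ^ w) (hw : 2 ≤ w)
    (H : Subgroup (Cfsg.PSU d F q)) (hH : Odd H.index) : Cfsg.IsPronormal H := by
  have : Fact (Nat.Prime 2) := ⟨Nat.prime_two⟩
  obtain ⟨P, hP⟩ := CfsgLib.KnownSimple51.Pronormal.exists_sylow_le_of_not_dvd_index (p := 2) (H := H)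
    (fun h => (Nat.not_even_iff_odd.2 hH) (even_iff_two_dvd.2 h))
  rcases Nat.even_or_odd q with he | hq
  · have : CharP F 2 := by
      have heF : Even (Fintype.card F) := by rw [hF]; exact (Nat.even_pow' two_ne_zero).2 he
      have h : ringChar F = 2 := FiniteField.even_card_iff_char_two.2 (Nat.even_iff.1 heF)
      rw [← h]; exact ringChar.charP F
    exact CfsgLib.PronormalPSU.isPronormal_psu_even hF (k := w) (by omega) hd P hP
  · exact CfsgLib.KnownSimple51.Pronormal.isPronormal_of_normalizer_le P hP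
      ((CfsgLib.PronormalPSU.psu_normalizer_le hF hq hw hd P).trans hP)


/-- Let F be a finite field with q² elements and d = 2^w ≥ 4 a power of 2 such that the unitary group PSU_d(q) (realised over F) is simple. Then every subgroup H of PSU_d(q) of odd index is pronormal: for every g, H and gHg⁻¹ are conjugate by an element of the subgroup they generate. -/
theorem result {F : Type*} [Field F] [Fintype F] (q : ℕ)
    (hF : Fintype.card F = q ^ 2) (w : ℕ) (hw : 2 ≤ w) (hs : IsSimpleGroup (Cfsg.PSU (2 ^ w) F q))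
    (H : Subgroup (Cfsg.PSU (2 ^ w) F q)) (hH : Odd H.index) : Cfsg.IsPronormal H := by
  exact aux hF rfl hw H hH

end Cfsg.Agent.S2226
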