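import Cfsg.Statements.S2227
import Cfsg.Agent.Lib.TwistFive.Final

set_option autoImplicit false
open Cfsg

namespace Cfsg.Agent.S2227

/-- In the twisted group ²E₆(2) all elements of order 5 are conjugate, and the centralizer of an element of order 5 is isomorphic to the direct product of a cyclic group of order 5 with the alternating group of degree 8. -/
theorem result {K : Type*} [Field K] [Fintype K] (hK : Fintype.card K = 4) :
    (∀ x y : ↥(Cfsg.Lie.twistedE6 K 2), orderOf x = 5 → orderOf y = 5 → IsConj x y) ∧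
      ∀ x : ↥(Cfsg.Lie.twistedE6 K 2), orderOf x = 5 →
        Nonempty (↥(Subgroup.centralizer ({x} : Set ↥(Cfsg.Lie.twistedE6 K 2))) ≃* (Multiplicative (ZMod 5) × ↥(alternatingGroup (Fin 8)))) := by
  have : Fact (Nat.Prime 2) := ⟨Nat.prime_two⟩
  have : CharP K 2 := charP_of_card_eq_prime_pow (f := 2) (by rw [hK]; norm_num)
  obtain ⟨w, hw⟩ := CfsgLib.Schur.E6Two.exists_omega hK
  have hn : Fintype.card K = (2 ^ 1) * (2 ^ 1) := by rw [hK]; norm_num
  have hcl := CfsgLib.TwistFive.one_class K hn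
  obtain ⟨X, hX, ⟨e⟩⟩ := CfsgLib.TwistFive.centralizer_model hn hw
  refine ⟨hcl, fun x hx => ?_⟩
  obtain ⟨e'⟩ := CfsgLib.TwistFive.centralizer_conj (hcl X x hX hx)
  exact ⟨e'.trans e⟩

end Cfsg.Agent.S2227
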