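import Cfsg.Statements.S2228
import Cfsg.Agent.Lib.JThree.PLocal.Nineteen
import Cfsg.Agent.Lib.JThree.PLocal.Sixteen

set_option autoImplicit false
open Cfsg

namespace Cfsg.Agent.S2228

/-- Let G be a finite simple group in which all involutions are conjugate and the centralizer of an involution has a normal extraspecial subgroup of order 32 complemented by a subgroup isomorphic to the alternating group of degree 5 (a group of J₃-type). Then a Sylow 19-subgroup of G is self-centralizing with normalizer-quotient cyclic of order 9, and a Sylow 17-subgroup is self-centralizing with normalizer-quotient cyclic of order 8. -/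
theorem result {G : Type*} [Group G] [Finite G] [IsSimpleGroup G]
    (hone : ∀ x y : G, orderOf x = 2 → orderOf y = 2 → IsConj x y)
    (t : G) (ht : orderOf t = 2) (E A : Subgroup ↥(Subgroup.centralizer ({t} : Set G))) [E.Normal]
    (hE : Cfsg.IsExtraspecial 2 ↥E) (hE32 : Nat.card ↥E = 32) (hEA : E.IsComplement' A)
    (eA : ↥A ≃* ↥(alternatingGroup (Fin 5))) :
    (∀ X : Sylow 19 G, Subgroup.centralizer ((X : Subgroup G) : Set G) = X ∧
        ∃ h : ((X : Subgroup G).subgroupOf (Subgroup.normalizer ((X : Subgroup G) : Set G))).Normal,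
          IsCyclic (↥(Subgroup.normalizer ((X : Subgroup G) : Set G)) ⧸ (X : Subgroup G).subgroupOf _) ∧
          Nat.card (↥(Subgroup.normalizer ((X : Subgroup G) : Set G)) ⧸ (X : Subgroup G).subgroupOf _) = 9) ∧
    (∀ Y : Sylow 17 G, Subgroup.centralizer ((Y : Subgroup G) : Set G) = Y ∧
        ∃ h : ((Y : Subgroup G).subgroupOf (Subgroup.normalizer ((Y : Subgroup G) : Set G))).Normal,
          IsCyclic (↥(Subgroup.normalizer ((Y : Subgroup G) : Set G)) ⧸ (Y : Subgroup G).subgroupOf _) ∧
          Nat.card (↥(Subgroup.normalizer ((Y : Subgroup G) : Set G)) ⧸ (Y : Subgroup G).subgroupOf _) = 8) := by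
  have := Fintype.ofFinite G
  have e : (Subgroup.centralizer ({t} : Set G)) ⧸ E ≃* alternatingGroup (Fin 5) :=
    (Subgroup.IsComplement'.QuotientMulEquiv hEA.symm).trans eA
  obtain ⟨H⟩ := CfsgLib.HJType.exists_hyp t ht E (CfsgLib.JThree.self_cent t ht E hE32 hE e) hE
    (by rw [hE32]; norm_num) e
  obtain ⟨c, hc⟩ := CfsgLib.JThree.exists_coded H (CfsgLib.JThree.exists_moved_conj H)
  have h1 : ∀ a : G, a * a = 1 → a ≠ 1 → IsConj t a := fun a h1 h2 =>
    hone t a ht (CfsgLib.HJType.orderOf_eq_two.2 ⟨h1, h2⟩)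
  have F := CfsgLib.JThree.facts c ht hc h1
  have hch := (CfsgLib.JThree.constituents c ht hc h1).2
  have hp19 : Fact (Nat.Prime 19) := ⟨by norm_num⟩
  have hp17 : Fact (Nat.Prime 17) := ⟨by norm_num⟩
  refine ⟨fun X => ?_, fun Y => ?_⟩
  · obtain ⟨hC, h9⟩ := CfsgLib.JThree.PLocal.nineteen F X hch
    refine ⟨hC, ?_⟩
    have hP : Nat.card (X : Subgroup G) = 19 := by
      rw [X.card_eq_multiplicity, F.card, show (50232960 : ℕ) = 19 * 2643840 from rfl,
        Nat.factorization_mul (by norm_num) (by norm_num), Finsupp.add_apply,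
        Nat.Prime.factorization_self (by norm_num), Nat.factorization_eq_zero_of_not_dvd (by norm_num)]
      norm_num
    have h := CfsgLib.JThree.PLocal.quotient _ hC (CfsgLib.JThree.PLocal.card_aut_dvd hP).2
    rwa [h9] at h
  · obtain ⟨hC, h8⟩ := CfsgLib.JThree.PLocal.seventeen F Y
    refine ⟨hC, ?_⟩
    have hP : Nat.card (Y : Subgroup G) = 17 := by
      rw [Y.card_eq_multiplicity, F.card, show (50232960 : ℕ) = 17 * 2954880 from rfl,
        Nat.factorization_mul (by norm_num) (by norm_num), Finsupp.add_apply,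
        Nat.Prime.factorization_self (by norm_num), Nat.factorization_eq_zero_of_not_dvd (by norm_num)]
      norm_num
    have h := CfsgLib.JThree.PLocal.quotient _ hC (CfsgLib.JThree.PLocal.card_aut_dvd hP).2
    rwa [h8] at h

end Cfsg.Agent.S2228
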