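import Cfsg.Statements.S2238
import Cfsg.Agent.Lib.SuzukiOvoid.Tori

set_option autoImplicit false
open Cfsg
open scoped MatrixGroups Matrix

namespace Cfsg.Agent.S2238

/-- The partition of the Suzuki group: with q = 2^(2m+1), m ≥ 1, r = 2^m and the Suzuki group realised as the stabiliser in SL₄ of the Suzuki–Tits ovoid, every non-identity element lies in exactly one subgroup that is either a Sylow 2-subgroup or a cyclic subgroup of order q − 1, q + 2r + 1 or q − 2r + 1. -/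
theorem result {F : Type*} [Field F] [Fintype F] {m : ℕ} (hm : 1 ≤ m) (hF : Fintype.card F = 2 ^ (2 * m + 1)) (g : ↥(Cfsg.Sz F m)) (hg : g ≠ 1) :
    ∃! U : Subgroup ↥(Cfsg.Sz F m), ((∃ P : Sylow 2 ↥(Cfsg.Sz F m), U = (P : Subgroup ↥(Cfsg.Sz F m))) ∨
      (IsCyclic ↥U ∧ Nat.card ↥U ∈ ({2 ^ (2 * m + 1) - 1, 2 ^ (2 * m + 1) + 2 ^ (m + 1) + 1, 2 ^ (2 * m + 1) - 2 ^ (m + 1) + 1} : Set ℕ))) ∧ g ∈ U := by
  have hle : ∀ U : Subgroup ↥(Cfsg.Sz F m), IsCyclic ↥U → g ∈ U → U ≤ Subgroup.centralizer {g} := by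
    intro U hU hgU x hx
    rw [Subgroup.mem_centralizer_singleton_iff]
    exact congrArg Subtype.val ((IsCyclic.commGroup (α := ↥U)).mul_comm ⟨x, hx⟩ ⟨g, hgU⟩)
  have hpow : ∀ P : Sylow 2 ↥(Cfsg.Sz F m), g ∈ (P : Subgroup ↥(Cfsg.Sz F m)) → ¬ Odd (orderOf g) := by
    intro P hgP hodd
    obtain ⟨k, hk⟩ := P.2 ⟨g, hgP⟩
    rw [← orderOf_dvd_iff_pow_eq_one, ← Subgroup.orderOf_coe] at hk
    exact hg (orderOf_eq_one_iff.1
      (Nat.eq_one_of_dvd_coprimes ((Nat.coprime_two_right.2 hodd).pow_right k) dvd_rfl hk))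
  rcases CfsgLib.SuzukiOvoid.element_cases hm hF hg with h4 | ⟨hc, hcard⟩
  · haveI : Fact (Nat.Prime 2) := ⟨Nat.prime_two⟩
    obtain ⟨j, -, hj⟩ := (Nat.dvd_prime_pow Nat.prime_two).1 (show orderOf g ∣ 2 ^ 2 from h4)
    obtain ⟨S, hS⟩ := (IsPGroup.of_card (p := 2) (G := ↥(Subgroup.zpowers g)) (n := j)
      (by rw [Nat.card_zpowers, hj])).exists_le_sylow
    have hgS := hS (Subgroup.mem_zpowers g)
    refine ⟨S, ⟨Or.inl ⟨S, rfl⟩, hgS⟩, ?_⟩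
    rintro U ⟨⟨P, rfl⟩ | ⟨-, hU⟩, hgU⟩
    · rw [(CfsgLib.SuzukiOvoid.centralizer_le_sylow hm hF hg S hgS).2 P hgU]
    · exfalso
      exact hpow S hgS (Odd.of_dvd_nat (CfsgLib.SuzukiOvoid.torusOrders_odd hm hU).1
        (Subgroup.orderOf_dvd_natCard U hgU))
  · have hgC : g ∈ Subgroup.centralizer {g} := Subgroup.mem_centralizer_singleton_iff.2 rfl
    have hodd : Odd (orderOf g) := Odd.of_dvd_nat (CfsgLib.SuzukiOvoid.torusOrders_odd hm hcard).1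
      (Subgroup.orderOf_dvd_natCard _ hgC)
    refine ⟨Subgroup.centralizer {g}, ⟨Or.inr ⟨hc, hcard⟩, hgC⟩, ?_⟩
    rintro U ⟨⟨P, rfl⟩ | ⟨hUc, hU⟩, hgU⟩
    · exact absurd hodd (hpow P hgU)
    · refine Subgroup.eq_of_le_of_card_ge (hle U hUc hgU) (le_of_eq ?_)
      by_contra hne
      exact (CfsgLib.SuzukiOvoid.torusOrders_odd hm hU).2.ne'
        (Nat.eq_one_of_dvd_coprimes (CfsgLib.SuzukiOvoid.torusOrders_coprime hm hF hcard hU hne)
          (Subgroup.card_dvd_of_le (hle U hUc hgU)) dvd_rfl)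

end Cfsg.Agent.S2238
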