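import Cfsg.Statements.S2239
import Cfsg.Agent.Lib.SuzukiOvoid.Subgroups

set_option autoImplicit false
open Cfsg
open scoped MatrixGroups Matrix Pointwise

namespace Cfsg.Agent.S2239

/-- Subfield subgroups of the Suzuki group: let q = 2^(2m+1) and s = 2^(2k+1) with m, k ≥ 1 and 2k+1 dividing 2m+1 (so q is a power of s), both groups realised as stabilisers in SL₄ of the Suzuki–Tits ovoid. Then Sz(q) has a subgroup isomorphic to Sz(s), and any two subgroups of Sz(q) isomorphic to Sz(s) are conjugate. -/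
theorem result {F : Type*} [Field F] [Fintype F] {m : ℕ} (hm : 1 ≤ m) (hF : Fintype.card F = 2 ^ (2 * m + 1)) {K : Type*} [Field K] [Fintype K] {k : ℕ} (hk : 1 ≤ k) (hK : Fintype.card K = 2 ^ (2 * k + 1)) (hdiv : 2 * k + 1 ∣ 2 * m + 1) :
    (∃ S : Subgroup ↥(Cfsg.Sz F m), Nonempty (↥S ≃* ↥(Cfsg.Sz K k))) ∧
    ∀ S₁ S₂ : Subgroup ↥(Cfsg.Sz F m), Nonempty (↥S₁ ≃* ↥(Cfsg.Sz K k)) → Nonempty (↥S₂ ≃* ↥(Cfsg.Sz K k)) →
      ∃ g : ↥(Cfsg.Sz F m), S₂ = S₁.map (MulAut.conj g).toMonoidHom := by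
  obtain ⟨_, ⟨P⟩⟩ := CfsgLib.SuzukiGroup.exists_params hF
  obtain ⟨_, ⟨PK⟩⟩ := CfsgLib.SuzukiGroup.exists_params hK
  set ψ := CfsgLib.SuzukiOvoid.ovoidEquiv hm hF P
  obtain ⟨L, hL⟩ := CfsgLib.SuzukiGroup.exists_subfield hF (by omega) (by omega) hdiv
  obtain ⟨e⟩ := CfsgLib.SuzukiGroup.nonempty_subGroup_equiv P L hk hL hdiv hK
  refine ⟨⟨(CfsgLib.SuzukiGroup.subGroup (e := 2 ^ (m + 1)) L).map ψ.toMonoidHom, ⟨(ψ.subgroupMap _).symm.trans e⟩⟩, ?_⟩
  have key : ∀ S : Subgroup ↥(Cfsg.Sz F m), Nonempty (↥S ≃* ↥(Cfsg.Sz K k)) →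
      ∃ g : ↥(Cfsg.Sz F m), S.map (MulAut.conj g).toMonoidHom =
        (CfsgLib.SuzukiGroup.subGroup (e := 2 ^ (m + 1)) L).map ψ.toMonoidHom := by
    rintro S ⟨f⟩
    set S' := S.comap ψ.toMonoidHom with hS'
    have hSS : S'.map ψ.toMonoidHom = S :=
      Subgroup.map_comap_eq_self_of_surjective (f := ψ.toMonoidHom) ψ.surjective S
    let φ : ↥S' ≃* ↥(Cfsg.Lie.Sz K (2 ^ (k + 1))) :=
      (((ψ.subgroupMap S').trans (MulEquiv.subgroupCongr hSS)).trans f).trans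
        (CfsgLib.SuzukiOvoid.ovoidEquiv hk hK PK).symm
    rcases CfsgLib.SuzukiGroup.subgroup_cases P hF hm S' with hloc | ⟨c, L', l, h8, hl, hd, heq⟩
    · exfalso
      haveI := CfsgLib.SuzukiGroup.local_solvable P hF hm hloc
      exact CfsgLib.SuzukiGroup.not_solvable_sz PK hK hk
        (Group.isSolvable_of_surjective (f := φ.toMonoidHom) φ.surjective)
    · have hcard := Nat.card_congr φ.toEquiv
      rw [Nat.card_congr (S'.equivMapOfInjective (MulAut.conj c).toMonoidHom (MulAut.conj c).injective).toEquiv, heq,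
        CfsgLib.SuzukiGroup.card_subGroup P L', CfsgLib.SuzukiGroup.card_sz PK, hK] at hcard
      have hmono : ∀ a b : ℕ, 2 ≤ a → a < b → a ^ 2 * (a - 1) * (a ^ 2 + 1) < b ^ 2 * (b - 1) * (b ^ 2 + 1) := by
        intro a b ha hab
        have h1 : a ^ 2 < b ^ 2 := Nat.pow_lt_pow_left hab two_ne_zero
        exact Nat.mul_lt_mul'' (Nat.mul_lt_mul'' h1 (by omega)) (by omega)
      have hz : Nat.card ↥L' = 2 ^ (2 * k + 1) := by
        have h2 : 2 ≤ 2 ^ (2 * k + 1) := Nat.le_self_pow (by omega) 2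
        rcases lt_trichotomy (Nat.card ↥L') (2 ^ (2 * k + 1)) with h | h | h
        · exact absurd hcard (hmono _ _ (by omega) h).ne
        · exact h
        · exact absurd hcard (hmono _ _ h2 h).ne'
      obtain rfl := CfsgLib.SuzukiGroup.subfield_eq_of_card hz hL
      refine ⟨ψ c, ?_⟩
      rw [← hSS, ← heq, Subgroup.map_map, Subgroup.map_map]
      congr 1
      ext y
      simp
  intro S₁ S₂ h₁ h₂
  obtain ⟨g₁, hg₁⟩ := key S₁ h₁
  obtain ⟨g₂, hg₂⟩ := key S₂ h₂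
  refine ⟨g₂⁻¹ * g₁, Subgroup.map_injective (f := (MulAut.conj g₂).toMonoidHom) (MulAut.conj g₂).injective ?_⟩
  rw [hg₂, ← hg₁, Subgroup.map_map]
  congr 1
  ext y
  simp [mul_assoc]

end Cfsg.Agent.S2239
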