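import Cfsg.Statements.S2240
import Cfsg.Agent.Lib.SuzukiOvoid.Tori

set_option autoImplicit false
open Cfsg
open scoped MatrixGroups Matrix

namespace Cfsg.Agent.S2240

open CfsgLib.SuzukiGroup in
lemma core {F : Type*} [Field F] [Fintype F] [CharP F 2] {e : ℕ} (P : Params F e) {m : ℕ}
    (hF : Fintype.card F = 2 ^ (2 * m + 1)) {n : ℕ} (E : Subgroup ↥(Cfsg.Lie.Sz F e)) (hE : E ≤ unip P)
    (hex : ∀ x : ↥E, x ^ 2 = 1) (hcard : Nat.card ↥E = 2 ^ n) (hn : 2 ≤ n)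
    (hTI : ∀ x : ↥(Cfsg.Lie.Sz F e), ∀ u ∈ E, u ≠ 1 → x * u * x⁻¹ ∈ E → ∀ v ∈ E, x * v * x⁻¹ ∈ E) :
    n ∣ 2 * m + 1 := by
  have hform : ∀ u ∈ E, ∃ b : F, u = uEl P 0 b := by
    intro u hu
    obtain ⟨a, b, rfl⟩ := hE hu
    have h2 : uEl P a b ^ 2 = 1 := congrArg Subtype.val (hex ⟨_, hu⟩)
    rw [uEl_sq, uEl_eq_one] at h2
    rcases mul_eq_zero.1 h2.2 with h | h
    · exact ⟨b, by rw [h]⟩
    · rw [map_eq_zero] at h; exact ⟨b, by rw [h]⟩
  haveI : Finite ↥E := inferInstance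
  haveI : Nontrivial ↥E := Finite.one_lt_card_iff_nontrivial.1 (by
    rw [hcard]; exact Nat.one_lt_two_pow (by omega))
  obtain ⟨⟨u₀, hu₀⟩, hu₀1⟩ := exists_ne (1 : ↥E)
  obtain ⟨b₀, rfl⟩ := hform u₀ hu₀
  have hb₀ : b₀ ≠ 0 := fun h => hu₀1 (Subtype.ext ((uEl_eq_one P).2 ⟨rfl, h⟩))
  have hscale : ∀ (x : Fˣ) (b : F), dEl P x * uEl P 0 b * (dEl P x)⁻¹ = uEl P 0 (P.θ x * b) := by
    intro x b; rw [dEl_mul_uEl, mul_zero, mul_inv_cancel_right]
  let L : Submonoid Fˣ :=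
    { carrier := {x | ∀ b : F, uEl P 0 b ∈ E → uEl P 0 ((x : F) * b) ∈ E}
      one_mem' := fun b hb => by simpa using hb
      mul_mem' := fun {x y} hx hy b hb => by simpa [mul_assoc] using hx _ (hy b hb) }
  let H : Subgroup Fˣ := ⟨L, fun {x} hx => by
    show x⁻¹ ∈ L
    rw [inv_eq_of_mul_eq_one_right (show x * x ^ (orderOf x - 1) = 1 by
      rw [← pow_succ', Nat.sub_add_cancel (orderOf_pos x), pow_orderOf_eq_one])]
    exact pow_mem hx _⟩
  have hsurj : ∀ x : Fˣ, uEl P 0 ((x : F) * b₀) ∈ E → x ∈ H := by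
    intro x hx b hb
    obtain ⟨t, ht⟩ := (theta_bijective P).2 (x : F)
    have ht0 : t ≠ 0 := fun h => x.ne_zero (by rw [← ht, h, map_zero])
    have key := hscale (Units.mk0 t ht0)
    simp only [Units.val_mk0, ht] at key
    rw [← key]
    exact hTI _ _ hu₀ (fun h => hb₀ ((uEl_eq_one P).1 h).2) (by rw [key]; exact hx) _ hb
  have hH : Nat.card ↥H = 2 ^ n - 1 := by
    rw [← hcard, show Nat.card ↥E = Nat.card (Option ↥H) from Eq.symm ?_, Finite.card_option, Nat.add_sub_cancel]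
    refine Nat.card_eq_of_bijective (fun o => match o with
      | none => (1 : ↥E)
      | some x => ⟨uEl P 0 (((x : Fˣ) : F) * b₀), x.2 b₀ hu₀⟩) ⟨?_, ?_⟩
    · rintro (_ | x) (_ | y) h
      · rfl
      · exact absurd ((uEl_eq_one P).1 (congrArg Subtype.val h).symm).2 (mul_ne_zero (Units.ne_zero _) hb₀)
      · exact absurd ((uEl_eq_one P).1 (congrArg Subtype.val h)).2 (mul_ne_zero (Units.ne_zero _) hb₀)
      · have h2 := (uEl_inj P (congrArg Subtype.val h)).2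
        rw [Subtype.ext (Units.ext (mul_right_cancel₀ hb₀ h2))]
    · rintro ⟨u, hu⟩
      obtain ⟨b, rfl⟩ := hform u hu
      rcases eq_or_ne b 0 with rfl | hb
      · exact ⟨none, Subtype.ext (uEl_zero P).symm⟩
      · refine ⟨some ⟨Units.mk0 (b / b₀) (div_ne_zero hb hb₀), hsurj _ ?_⟩, Subtype.ext ?_⟩
        · simpa [div_mul_cancel₀ b hb₀] using hu
        · simp [div_mul_cancel₀ b hb₀]
  have hdvd : 2 ^ n - 1 ∣ 2 ^ (2 * m + 1) - 1 := by
    have := Subgroup.card_subgroup_dvd_card H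
    rwa [hH, Nat.card_units, Nat.card_eq_fintype_card, hF] at this
  have hg := Nat.gcd_eq_left hdvd
  rw [Nat.pow_sub_one_gcd_pow_sub_one] at hg
  have hp : 2 ^ Nat.gcd n (2 * m + 1) = 2 ^ n := by
    have := Nat.one_le_two_pow (n := n)
    have := Nat.one_le_two_pow (n := Nat.gcd n (2 * m + 1))
    omega
  rw [← Nat.pow_right_injective le_rfl hp]
  exact Nat.gcd_dvd_right n (2 * m + 1)

open CfsgLib.SuzukiGroup in
lemma exists_core {F : Type*} [Field F] [Fintype F] [CharP F 2] {e : ℕ} (P : Params F e) {m : ℕ}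
    (hF : Fintype.card F = 2 ^ (2 * m + 1)) {n : ℕ} (hn : 2 ≤ n) (hd : n ∣ 2 * m + 1) :
    ∃ E : Subgroup ↥(Cfsg.Lie.Sz F e), Cfsg.IsElementaryAbelian 2 E ∧ Nat.card ↥E = 2 ^ n ∧
      ∀ x : ↥(Cfsg.Lie.Sz F e), ∀ u ∈ E, u ≠ 1 → x * u * x⁻¹ ∈ E → ∀ v ∈ E, x * v * x⁻¹ ∈ E := by
  haveI : Fact (Nat.Prime 2) := ⟨Nat.prime_two⟩
  haveI : ExpChar F 2 := ExpChar.prime Nat.prime_two
  let σ : F →+* F := iterateFrobenius F 2 n
  let L : AddSubgroup F :=
    { carrier := {x | σ x = x}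
      zero_mem' := map_zero σ
      add_mem' := fun {x y} hx hy => by show σ _ = _; rw [map_add, show σ x = x from hx, show σ y = y from hy]
      neg_mem' := fun {x} hx => by show σ _ = _; rw [map_neg, show σ x = x from hx] }
  have hLcard : Nat.card ↥L = 2 ^ n := by
    have h1 : 2 ^ n - 1 ∣ Nat.card Fˣ := by
      rw [Nat.card_units, Nat.card_eq_fintype_card, hF]
      exact Nat.pow_sub_one_dvd_pow_sub_one 2 hd
    have hpos : 1 ≤ 2 ^ n := Nat.one_le_two_pow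
    have h2 : Nat.card {x : Fˣ // x ^ (2 ^ n - 1) = 1} = 2 ^ n - 1 := by
      obtain ⟨g, hg⟩ := IsCyclic.exists_generator (α := Fˣ)
      have hog : orderOf g = Nat.card Fˣ := orderOf_eq_card_of_forall_mem_zpowers hg
      obtain ⟨t, ht⟩ := h1
      have ht0 : t ≠ 0 := fun h => (Nat.card_pos (α := Fˣ)).ne' (by rw [ht, h, mul_zero])
      have hd' : orderOf (g ^ t) = 2 ^ n - 1 := by
        rw [orderOf_pow' g ht0, hog, Nat.gcd_eq_right ⟨2 ^ n - 1, by rw [ht, mul_comm]⟩, ht,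
          Nat.mul_div_cancel _ (Nat.pos_of_ne_zero ht0)]
      rw [← hd', ← Nat.card_zpowers]
      refine Nat.card_congr (Equiv.subtypeEquivRight fun x => ?_)
      rw [Nat.card_zpowers, hd']
      constructor
      · intro hx
        obtain ⟨i, rfl⟩ := (mem_powers_iff_mem_zpowers.2 (hg x) : x ∈ Submonoid.powers g)
        rw [← pow_mul, ← orderOf_dvd_iff_pow_eq_one, hog, ht, mul_comm i] at hx
        obtain ⟨j, rfl⟩ := Nat.dvd_of_mul_dvd_mul_left (by
          rcases Nat.eq_zero_or_pos (2 ^ n - 1) with h | h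
          · have : 4 ≤ 2 ^ n := Nat.pow_le_pow_right (by norm_num : 0 < 2) hn; omega
          · exact h) hx
        exact ⟨j, by simp [← pow_mul]⟩
      · rintro ⟨i, rfl⟩
        rw [← hd']
        show ((g ^ t) ^ i) ^ orderOf (g ^ t) = 1
        rw [← zpow_natCast ((g ^ t) ^ i), ← zpow_mul, mul_comm, zpow_mul, zpow_natCast, pow_orderOf_eq_one, one_zpow]
    have h3 : Nat.card (Option {x : Fˣ // x ^ (2 ^ n - 1) = 1}) = Nat.card ↥L := by
      refine Nat.card_eq_of_bijective (fun o => match o with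
        | none => (0 : ↥L)
        | some x => ⟨((x : Fˣ) : F), by
            show σ _ = _
            rw [iterateFrobenius_def]
            calc ((x : Fˣ) : F) ^ (2 ^ n) = ((x : Fˣ) : F) ^ (2 ^ n - 1 + 1) := by rw [Nat.sub_add_cancel hpos]
              _ = ((x : Fˣ) : F) := by
                rw [pow_succ, ← Units.val_pow_eq_pow_val, x.2, Units.val_one, one_mul]⟩) ⟨?_, ?_⟩
      · rintro (_ | x) (_ | y) h
        · rfl
        · exact absurd (congrArg Subtype.val h).symm (Units.ne_zero _)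
        · exact absurd (congrArg Subtype.val h) (Units.ne_zero _)
        · rw [Subtype.ext (Units.ext (congrArg Subtype.val h))]
      · rintro ⟨b, hb⟩
        rcases eq_or_ne b 0 with rfl | hb0
        · exact ⟨none, rfl⟩
        · refine ⟨some ⟨Units.mk0 b hb0, Units.ext ?_⟩, rfl⟩
          have hb' : b ^ (2 ^ n) = b := by rw [← iterateFrobenius_def 2 n b]; exact hb
          rw [← Nat.sub_add_cancel hpos, pow_succ] at hb'
          simpa using mul_right_cancel₀ hb0 (hb'.trans (one_mul b).symm)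
    rw [← h3, Finite.card_option, h2, Nat.sub_add_cancel hpos]
  let E : Subgroup ↥(Cfsg.Lie.Sz F e) :=
    { carrier := {u | ∃ b ∈ L, u = uEl P 0 b}
      one_mem' := ⟨0, L.zero_mem, (uEl_zero P).symm⟩
      mul_mem' := by
        rintro _ _ ⟨b, hb, rfl⟩ ⟨c, hc, rfl⟩
        exact ⟨b + c, L.add_mem hb hc, by rw [uEl_mul, map_zero, mul_zero, add_zero, add_zero]⟩
      inv_mem' := by
        rintro _ ⟨b, hb, rfl⟩
        exact ⟨b, hb, by rw [uEl_inv, zero_mul, add_zero]⟩ }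
  refine ⟨E, ⟨?_, ?_⟩, ?_, ?_⟩
  · refine ⟨⟨?_⟩⟩
    rintro ⟨_, b, _, rfl⟩ ⟨_, c, _, rfl⟩
    exact Subtype.ext ((uEl_comm_iff P 0 b 0 c).2 rfl)
  · rintro _ ⟨b, -, rfl⟩
    rw [uEl_sq, zero_mul, uEl_zero]
  · rw [← hLcard]
    refine (Nat.card_eq_of_bijective (fun b : ↥L => (⟨uEl P 0 (b : F), b, b.2, rfl⟩ : ↥E)) ⟨?_, ?_⟩).symm
    · intro b c h
      exact Subtype.ext (uEl_inj P (congrArg Subtype.val h)).2
    · rintro ⟨_, b, hb, rfl⟩
      exact ⟨⟨b, hb⟩, rfl⟩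
  · rintro x _ ⟨b, hb, rfl⟩ hb1 ⟨c, hc, hxc⟩ _ ⟨v, hv, rfl⟩
    have hb0 : b ≠ 0 := fun h => hb1 (by rw [h, uEl_zero])
    have hxB := conj_unip_ne P ⟨0, b, rfl⟩ hb1 ⟨0, c, hxc⟩
    obtain ⟨p, r, t, rfl⟩ := borel_form P hxB
    have key : ∀ w : F, uEl P p r * dEl P t * uEl P 0 w * (uEl P p r * dEl P t)⁻¹ = uEl P 0 (P.θ t * w) := by
      intro w
      rw [mul_assoc (uEl P p r), dEl_mul_uEl, mul_zero, mul_inv_rev, ← mul_assoc, ← mul_assoc,
        mul_inv_cancel_right, (uEl_comm_iff P p r 0 (P.θ t * w)).2 (by simp), mul_inv_cancel_right]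
    rw [key] at hxc
    have hl : σ (P.θ t) = P.θ t := by
      have h2 := (uEl_inj P hxc).2
      have h3 : σ (P.θ t * b) = P.θ t * b := by rw [h2]; exact hc
      rw [map_mul, show σ b = b from hb] at h3
      exact mul_right_cancel₀ hb0 h3
    refine ⟨P.θ t * v, ?_, key v⟩
    show σ _ = _
    rw [map_mul, hl, show σ v = v from hv]


/-- Elementary abelian TI-subgroups of the Suzuki group: let q = 2^(2m+1) with m ≥ 1, the group realised as the stabiliser in SL₄ of the Suzuki–Tits ovoid, and n ≥ 2. There is an elementary abelian 2-subgroup E of order 2^n that is a TI-subgroup (every conjugate of E meeting E nontrivially is E itself) if and only if n divides 2m + 1. -/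
theorem result {F : Type*} [Field F] [Fintype F] {m : ℕ} (hm : 1 ≤ m) (hF : Fintype.card F = 2 ^ (2 * m + 1)) (n : ℕ) (hn : 2 ≤ n) :
    (∃ E : Subgroup ↥(Cfsg.Sz F m), Cfsg.IsElementaryAbelian 2 E ∧ Nat.card ↥E = 2 ^ n ∧
      ∀ x : ↥(Cfsg.Sz F m), E ⊓ E.map (MulAut.conj x).toMonoidHom ≠ ⊥ → x ∈ Subgroup.normalizer (E : Set ↥(Cfsg.Sz F m))) ↔ n ∣ 2 * m + 1 := by
  obtain ⟨_, ⟨P⟩⟩ := CfsgLib.SuzukiGroup.exists_params hF
  set ψ := CfsgLib.SuzukiOvoid.ovoidEquiv hm hF P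
  haveI : Fact (Nat.Prime 2) := ⟨Nat.prime_two⟩
  constructor
  · rintro ⟨E, hEab, hcard, hTI⟩
    obtain ⟨S, hS⟩ := (IsPGroup.of_card (p := 2) (G := ↥E) hcard).exists_le_sylow
    obtain ⟨c, hc⟩ := CfsgLib.SuzukiOvoid.exists_conj_map_unip hm hF P S
    let φ := ψ.trans (MulAut.conj c)
    refine core P hF (E.comap φ.toMonoidHom) ?_ ?_ ?_ hn ?_
    · intro u hu
      obtain ⟨w, hw, hwe⟩ := (hc ▸ hS hu : φ u ∈ (CfsgLib.SuzukiGroup.unip P).map φ.toMonoidHom)
      rwa [← φ.injective hwe]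
    · intro u
      refine Subtype.ext (φ.injective ?_)
      rw [Subgroup.coe_pow, map_pow, show φ (u : ↥(Cfsg.Lie.Sz F (2 ^ (m + 1)))) ^ 2 = 1 from hEab.2 _ u.2]
      simp
    · rw [Nat.card_congr ((E.comap φ.toMonoidHom).equivMapOfInjective φ.toMonoidHom φ.injective).toEquiv,
        Subgroup.map_comap_eq_self_of_surjective (f := φ.toMonoidHom) φ.surjective, hcard]
    · intro x u hu hu1 hxu v hv
      have hN := hTI (φ x) ?_
      · show φ (x * v * x⁻¹) ∈ E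
        rw [map_mul, map_mul, map_inv]
        exact (Subgroup.mem_normalizer_iff.1 hN _).1 hv
      · intro hbot
        have : φ (x * u * x⁻¹) ∈ E ⊓ E.map (MulAut.conj (φ x)).toMonoidHom :=
          ⟨hxu, φ u, hu, by simp⟩
        rw [hbot, Subgroup.mem_bot, map_eq_one_iff _ φ.injective] at this
        exact hu1 (conj_eq_one_iff.1 this)
  · intro hd
    obtain ⟨E, hEab, hcard, hTI⟩ := exists_core P hF hn hd
    refine ⟨E.map ψ.toMonoidHom, ⟨?_, ?_⟩, ?_, ?_⟩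
    · refine ⟨⟨?_⟩⟩
      rintro ⟨_, a, ha, rfl⟩ ⟨_, b, hb, rfl⟩
      refine Subtype.ext ?_
      show ψ.toMonoidHom a * ψ.toMonoidHom b = ψ.toMonoidHom b * ψ.toMonoidHom a
      rw [← map_mul, ← map_mul, show a * b = b * a from congrArg Subtype.val (hEab.1.is_comm.comm ⟨a, ha⟩ ⟨b, hb⟩)]
    · rintro _ ⟨a, ha, rfl⟩
      rw [← map_pow, hEab.2 a ha, map_one]
    · rw [Subgroup.card_map_of_injective (f := ψ.toMonoidHom) ψ.injective, hcard]
    · intro x hx
      obtain ⟨y, rfl⟩ := ψ.surjective x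
      obtain ⟨z, hz⟩ := (Subgroup.ne_bot_iff_exists_ne_one).1 hx
      obtain ⟨⟨a, ha, hza⟩, ⟨_, ⟨b, hb, rfl⟩, hzb⟩⟩ := z.2
      have hyb : y * b * y⁻¹ = a := ψ.injective (by rw [map_mul, map_mul, map_inv]; exact hzb.trans hza.symm)
      have hb1 : b ≠ 1 := fun h => hz (Subtype.ext (by rw [← hzb, h]; simp))
      have hfor := hTI y b hb hb1 (hyb ▸ ha)
      haveI : Finite ↥E := inferInstance
      rw [← Subgroup.map_equiv_normalizer_eq]
      refine ⟨y, Subgroup.mem_normalizer_iff.2 fun v => ⟨hfor v, fun hv => ?_⟩, rfl⟩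
      obtain ⟨⟨w, hw⟩, hw'⟩ := (Finite.injective_iff_bijective.1
        (show Function.Injective (fun w : ↥E => (⟨y * w * y⁻¹, hfor w w.2⟩ : ↥E)) from
          fun w w' h => Subtype.ext (by simpa using congrArg Subtype.val h))).2 ⟨_, hv⟩
      have : w = v := by simpa using congrArg Subtype.val hw'
      rwa [← this]

end Cfsg.Agent.S2240
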