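import Cfsg.Statements.S2241
import Cfsg.Agent.Lib.SuzukiOvoid.Action

set_option autoImplicit false
open Cfsg
open scoped MatrixGroups Matrix

namespace Cfsg.Agent.S2241

open CfsgLib.SuzukiGroup in
lemma core {F : Type*} [Field F] [Fintype F] [CharP F 2] {e : ℕ} (P : Params F e) {s : ↥(Cfsg.Lie.Sz F e)}
    (hs : s ∈ unip P) (h1 : s ≠ 1) : IsConj s s⁻¹ ↔ orderOf s = 2 := by
  constructor
  · intro hc
    rcases unip_cases P hs h1 with ⟨h2, -⟩ | ⟨-, a, b, ha, rfl⟩
    · exact h2
    exfalso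
    obtain ⟨g, hg⟩ := isConj_iff.1 hc
    have hgB := conj_unip_ne P hs h1 (by rw [hg]; exact inv_mem hs)
    obtain ⟨c, d, x, rfl⟩ := borel_form P hgB
    rw [mul_inv_eq_iff_eq_mul, mul_assoc, dEl_mul_uEl, ← mul_assoc, ← mul_assoc, mul_left_inj,
      uEl_inv, uEl_mul, uEl_mul] at hg
    obtain ⟨e1, e2⟩ := uEl_inj P hg
    have hk : (x : F) * x / P.θ x = 1 := by
      rw [add_comm a c] at e1
      exact mul_right_cancel₀ ha ((add_left_cancel e1).trans (one_mul a).symm)
    have hx : (x : F) = 1 := scale_eq_one P x.ne_zero hk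
    rw [hx, map_one, one_mul, div_one, one_mul, one_mul] at e2
    have e3 : c * P.θ a = a * P.θ a + a * P.θ c := by linear_combination e2
    set t := c / a with ht
    have hc' : c = t * a := by rw [ht, div_mul_cancel₀ c ha]
    rw [hc', map_mul] at e3
    have ha' : a * P.θ a ≠ 0 := by simpa using ha
    have e4 : t = 1 + P.θ t := mul_right_cancel₀ ha' (by linear_combination e3)
    have e5 := P.sq t
    have e6 : P.θ t = t + 1 := by
      linear_combination (-1 : F) * e4 - (CharTwo.two_eq_zero (R := F))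
    rw [e6, map_add, map_one, e6] at e5
    have e7 : t * t = t := by linear_combination (-1 : F) * e5 + (CharTwo.two_eq_zero (R := F))
    rcases eq_or_ne t 0 with h | h
    · rw [h, map_zero, add_zero] at e4; exact zero_ne_one e4
    · rw [mul_left_cancel₀ h (e7.trans (mul_one t).symm), map_one, CharTwo.add_self_eq_zero] at e4
      exact one_ne_zero e4
  · intro h2
    rw [inv_eq_of_mul_eq_one_right (by rw [← pow_two, ← h2, pow_orderOf_eq_one])]


/-- Real 2-elements of the Suzuki group: with q = 2^(2m+1), m ≥ 1, and the group realised as the stabiliser in SL₄ of the Suzuki–Tits ovoid, a non-identity element of a Sylow 2-subgroup is conjugate to its inverse if and only if it is an involution; in particular no element of order 4 is conjugate to its inverse. -/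
theorem result {F : Type*} [Field F] [Fintype F] {m : ℕ} (hm : 1 ≤ m) (hF : Fintype.card F = 2 ^ (2 * m + 1)) (P : Sylow 2 ↥(Cfsg.Sz F m)) (g : ↥(Cfsg.Sz F m)) (hg : g ∈ (P : Subgroup ↥(Cfsg.Sz F m))) (h1 : g ≠ 1) :
    IsConj g g⁻¹ ↔ orderOf g = 2 := by
  obtain ⟨_, ⟨Q⟩⟩ := CfsgLib.SuzukiGroup.exists_params hF
  obtain ⟨c, hc⟩ := CfsgLib.SuzukiOvoid.exists_conj_map_unip hm hF Q P
  rw [hc] at hg
  obtain ⟨s, hs, rfl⟩ := hg
  set φ : ↥(Cfsg.Lie.Sz F (2 ^ (m + 1))) →* ↥(Cfsg.Sz F m) :=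
    (MulAut.conj c).toMonoidHom.comp (CfsgLib.SuzukiOvoid.ovoidEquiv hm hF Q).toMonoidHom with hφ
  let ψ : ↥(Cfsg.Lie.Sz F (2 ^ (m + 1))) ≃* ↥(Cfsg.Sz F m) :=
    (CfsgLib.SuzukiOvoid.ovoidEquiv hm hF Q).trans (MulAut.conj c)
  have e : φ s = ψ s := rfl
  rw [e] at h1 ⊢
  rw [← map_inv, ψ.orderOf_eq, ← core Q hs (fun h => h1 (by rw [h, map_one]))]
  constructor
  · intro h; simpa using ψ.symm.toMonoidHom.map_isConj h
  · intro h; exact ψ.toMonoidHom.map_isConj h

end Cfsg.Agent.S2241
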