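import Cfsg.Statements.S2245
import Cfsg.Agent.Lib.KnownSimple51.SylowOvergroups
-- import your own Cfsg.Agent.* helpers here

set_option autoImplicit false
open Cfsg

namespace Cfsg.Agent.S2245

open Equiv CfsgLib.KnownSimple51.TreeSylow CfsgLib.KnownSimple51.SylowOvergroups

/-- Unique maximal overgroup from a proper upper bound on all proper overgroups. -/
lemma unique_of_bound {G : Type*} [Group G] [Finite G] (R S₀ : Subgroup G) (hR : R ≠ ⊤) (h0 : S₀ ≠ ⊤)
    (hb : ∀ M : Subgroup G, M ≠ ⊤ → R ≤ M → M ≤ S₀) : ∃! M : Subgroup G, IsCoatom M ∧ R ≤ M := by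
  have hle : R ≤ S₀ := hb R hR le_rfl
  refine ⟨S₀, ⟨⟨h0, fun M hM => ?_⟩, hle⟩, fun M hM => ?_⟩
  · by_contra hne
    exact absurd (hb M hne (hle.trans hM.le)) hM.not_ge
  · exact (hM.1.le_iff.1 (hb M hM.1.1 hM.2)).resolve_left h0 |>.symm

lemma not_unique_of_join {G : Type*} [Group G] [Finite G] (R A B : Subgroup G) (hA : A ≠ ⊤) (hB : B ≠ ⊤)
    (hRA : R ≤ A) (hRB : R ≤ B) (hAB : A ⊔ B = ⊤) : ¬ ∃! M : Subgroup G, IsCoatom M ∧ R ≤ M := by
  rintro ⟨M, -, huniq⟩
  obtain ⟨MA, hMA, hAM⟩ := (eq_top_or_exists_le_coatom A).resolve_left hA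
  obtain ⟨MB, hMB, hBM⟩ := (eq_top_or_exists_le_coatom B).resolve_left hB
  have h1 := huniq MA ⟨hMA, hRA.trans hAM⟩
  have h2 := huniq MB ⟨hMB, hRB.trans hBM⟩
  have h3 : A ⊔ B ≤ MA := sup_le hAM (h2.trans h1.symm ▸ hBM)
  exact hMA.1 (top_le_iff.1 (hAB ▸ h3))

/-- The property does not depend on the Sylow subgroup. -/
lemma unique_conj {G : Type*} [Group G] [Finite G] {p : ℕ} [Fact p.Prime] (P Q : Sylow p G)
    (h : ∃! M : Subgroup G, IsCoatom M ∧ (P : Subgroup G) ≤ M) :
    ∃! M : Subgroup G, IsCoatom M ∧ (Q : Subgroup G) ≤ M := by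
  obtain ⟨g, rfl⟩ := MulAction.exists_smul_eq G P Q
  obtain ⟨M, ⟨hM, hPM⟩, hu⟩ := h
  set e := (MulAut.conj g).mapSubgroup with he
  have hcoe : ((g • P : Sylow p G) : Subgroup G) = e (P : Subgroup G) := rfl
  refine ⟨e M, ⟨(e.isCoatom_iff M).2 hM, hcoe ▸ e.monotone hPM⟩, fun N ⟨hN, hPN⟩ => ?_⟩
  have := hu (e.symm N) ⟨(e.symm.isCoatom_iff N).2 hN, e.le_iff_le.1 (by rw [OrderIso.apply_symm_apply]; exact hPN)⟩
  rw [← this, OrderIso.apply_symm_apply]

variable {n : ℕ}

lemma perm_eq_top {M : Subgroup (Perm (Fin n))} (h : alternatingGroup (Fin n) ≤ M) {a b : Fin n}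
    (hab : a ≠ b) (hs : swap a b ∈ M) : M = ⊤ := by
  refine (Subgroup.eq_top_iff' M).2 fun σ => ?_
  rcases Int.units_eq_one_or (Perm.sign σ) with hσ | hσ
  · exact h (Equiv.Perm.mem_alternatingGroup.2 hσ)
  · have : σ * swap a b ∈ M := h (Equiv.Perm.mem_alternatingGroup.2 (by
      rw [map_mul, hσ, Perm.sign_swap hab]; decide))
    simpa using mul_mem this hs

lemma alt_eq_top {M : Subgroup ↥(alternatingGroup (Fin n))}
    (h : alternatingGroup (Fin n) ≤ M.map (alternatingGroup (Fin n)).subtype) : M = ⊤ := by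
  refine (Subgroup.eq_top_iff' M).2 fun x => ?_
  obtain ⟨y, hy, hxy⟩ := h x.2
  rwa [Subtype.ext hxy] at hy

/-- A three-cycle in the alternating group which maps the point `a` to `b`. -/
lemma cycle_mem (a b c : Fin n) (hab : a ≠ b) (hbc : b ≠ c) :
    swap a b * swap b c ∈ alternatingGroup (Fin n) :=
  Equiv.Perm.mem_alternatingGroup.2 (sign_swap_mul_swap hab hbc)

/-- The three standard proper subgroups of the alternating group. -/
lemma level_proper (k : ℕ) (a b c : Fin n) (hab : a ≠ b) (hac : a ≠ c) (hbc : b ≠ c)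
    (h1 : Same k a b) (h2 : ¬ Same k b c) :
    swap a b * swap b c ∈ alternatingGroup (Fin n) ∧ swap a b * swap b c ∉ levelStab n k := by
  refine ⟨cycle_mem a b c hab hbc, fun hm => h2 ?_⟩
  have := (hm a b).2 h1
  rw [Perm.mul_apply, Perm.mul_apply, swap_apply_of_ne_of_ne hab hac, swap_apply_left, swap_apply_left,
    swap_apply_of_ne_of_ne hac.symm hbc.symm] at this
  exact this

lemma point_proper (l : Fin n) (a b : Fin n) (hla : l ≠ a) (hlb : l ≠ b) (hab : a ≠ b) :
    swap l a * swap a b ∈ alternatingGroup (Fin n) ∧ swap l a * swap a b ∉ pointStab l := by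
  refine ⟨cycle_mem l a b hla hab, fun hm => ?_⟩
  rw [MulAction.mem_stabilizer_iff, Perm.smul_def, Perm.mul_apply, swap_apply_of_ne_of_ne hla hlb,
    swap_apply_left] at hm
  exact hla hm.symm


/-- For n ≥ 5 with n ≠ 6, a Sylow 2-subgroup of the alternating group A_n lies in exactly one maximal subgroup of A_n if and only if n = 2^k + 1 for some k ≥ 2; the same holds for the symmetric group S_n. -/
theorem result (n : ℕ) (hn : 5 ≤ n) (h6 : n ≠ 6) :
    ((∀ R : Sylow 2 ↥(alternatingGroup (Fin n)), (∃! M : Subgroup ↥(alternatingGroup (Fin n)), IsCoatom M ∧ (R : Subgroup ↥(alternatingGroup (Fin n))) ≤ M) ↔ ∃ k : ℕ, 2 ≤ k ∧ n = 2 ^ k + 1) ∧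
    (∀ R : Sylow 2 (Equiv.Perm (Fin n)), (∃! M : Subgroup (Equiv.Perm (Fin n)), IsCoatom M ∧ (R : Subgroup (Equiv.Perm (Fin n))) ≤ M) ↔ ∃ k : ℕ, 2 ≤ k ∧ n = 2 ^ k + 1)) := by
  haveI : Fact (Nat.Prime 2) := ⟨Nat.prime_two⟩
  by_cases hform : ∃ k : ℕ, 2 ≤ k ∧ n = 2 ^ k + 1
  · obtain ⟨k, hk, hnk⟩ := hform
    set l : Fin n := ⟨n - 1, by omega⟩ with hl
    have hfix : treeGroup n ≤ pointStab l := treeGroup_le_pointStab k
      (by rw [hnk, Nat.add_mod_left, Nat.mod_eq_of_lt (Nat.one_lt_two_pow (by omega))]) l rfl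
    set a : Fin n := ⟨0, by omega⟩ with ha
    set b : Fin n := ⟨1, by omega⟩ with hb
    have hla : l ≠ a := by simp [l, a, Fin.ext_iff]; omega
    have hlb : l ≠ b := by simp [l, b, Fin.ext_iff]; omega
    have hab : a ≠ b := by simp [a, b, Fin.ext_iff]
    obtain ⟨hc1, hc2⟩ := point_proper l a b hla hlb hab
    refine ⟨fun R => ⟨fun _ => ⟨k, hk, hnk⟩, fun _ => ?_⟩, fun R => ⟨fun _ => ⟨k, hk, hnk⟩, fun _ => ?_⟩⟩
    · obtain ⟨S, hS⟩ := (isPGroup_altTree n).exists_le_sylow
      refine unique_conj S R ?_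
      set S₀ : Subgroup ↥(alternatingGroup (Fin n)) := (pointStab l).subgroupOf _
      have hS0 : S₀ ≠ ⊤ := fun h => hc2 (show (⟨_, hc1⟩ : ↥(alternatingGroup (Fin n))) ∈ S₀ by rw [h]; trivial)
      have key : ∀ M : Subgroup ↥(alternatingGroup (Fin n)), M ≠ ⊤ → (S : Subgroup _) ≤ M → M ≤ S₀ := by
        intro M hM hSM x hx
        by_contra hmove
        apply hM
        apply alt_eq_top
        refine alternating_le_of_moves k hk hnk l rfl _ ?_ x.1 ⟨x, hx, rfl⟩ hmove
        rintro σ ⟨h1, h2⟩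
        exact ⟨⟨σ, h2⟩, hSM (hS h1), rfl⟩
      refine unique_of_bound _ S₀ (fun htop => ?_) hS0 key
      have hA : IsPGroup 2 ↥(⊤ : Subgroup ↥(alternatingGroup (Fin n))) := htop ▸ S.isPGroup'
      have h3 : orderOf (⟨_, hc1⟩ : ↥(alternatingGroup (Fin n))) = 3 := by
        rw [Subgroup.orderOf_mk]
        exact (show Equiv.Perm.IsThreeCycle (swap l a * swap a b) by
          rw [swap_comm l a]; exact Equiv.Perm.isThreeCycle_swap_mul_swap_same hla.symm hab hlb).orderOf
      obtain ⟨m, hm⟩ := hA ⟨⟨_, hc1⟩, trivial⟩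
      have hm' : (⟨_, hc1⟩ : ↥(alternatingGroup (Fin n))) ^ (2 ^ m) = 1 := congrArg Subtype.val hm
      have := (Nat.prime_three.dvd_of_dvd_pow (h3 ▸ orderOf_dvd_of_pow_eq_one hm'))
      norm_num at this
    · obtain ⟨S, hS⟩ := (isPGroup_treeGroup n).exists_le_sylow
      refine unique_conj S R ?_
      have hS0 : pointStab l ≠ ⊤ := fun h => hc2 (h ▸ trivial)
      have hsw : swap a b ∈ treeGroup n := swap_mem_treeGroup (by simp [Same, a, b])
      have key : ∀ M : Subgroup (Perm (Fin n)), M ≠ ⊤ → (S : Subgroup _) ≤ M → M ≤ pointStab l := by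
        intro M hM hSM x hx
        by_contra hmove
        exact hM (perm_eq_top (alternating_le_of_moves k hk hnk l rfl M (inf_le_left.trans (hS.trans hSM)) x hx hmove)
          hab (hSM (hS hsw)))
      refine unique_of_bound _ _ (fun htop => ?_) hS0 key
      have hA : IsPGroup 2 ↥(⊤ : Subgroup (Perm (Fin n))) := htop ▸ S.isPGroup'
      have h3 : orderOf (swap l a * swap a b) = 3 :=
        (show Equiv.Perm.IsThreeCycle (swap l a * swap a b) by
          rw [swap_comm l a]; exact Equiv.Perm.isThreeCycle_swap_mul_swap_same hla.symm hab hlb).orderOf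
      obtain ⟨m, hm⟩ := hA ⟨swap l a * swap a b, trivial⟩
      have hm' : (swap l a * swap a b) ^ (2 ^ m) = 1 := congrArg Subtype.val hm
      have := (Nat.prime_three.dvd_of_dvd_pow (h3 ▸ orderOf_dvd_of_pow_eq_one hm'))
      norm_num at this
  · have hn6 : 6 ≤ n := by
      by_contra h
      exact hform ⟨2, le_rfl, by omega⟩
    set k := Nat.log 2 (n - 1) with hkdef
    have hk1 : 2 ^ k ≤ n - 1 := Nat.pow_log_le_self 2 (by omega)
    have hk2' : n - 1 < 2 * 2 ^ k := by
      rw [mul_comm, ← pow_succ]; exact Nat.lt_pow_succ_log_self (by norm_num) _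
    have hk : 2 ^ k < n := by omega
    have hk2 : n ≤ 2 * 2 ^ k := by omega
    have h4 : 4 ≤ 2 ^ k := by
      have : 2 ≤ k := Nat.le_log_of_pow_le (by norm_num) (by omega)
      calc 4 = 2 ^ 2 := rfl
        _ ≤ 2 ^ k := Nat.pow_le_pow_right (by norm_num) this
    have hne : n ≠ 2 ^ k + 1 := fun h => hform ⟨k, Nat.le_log_of_pow_le (by norm_num) (by omega), h⟩
    set p : Fin n := ⟨0, by omega⟩
    set q : Fin n := ⟨1, by omega⟩
    set u : Fin n := ⟨2 ^ k, hk⟩
    set r : Fin n := ⟨2, by omega⟩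
    set l : Fin n := ⟨n - 1, by omega⟩
    have hpq : p ≠ q := by simp [p, q, Fin.ext_iff]
    obtain ⟨ha1, ha2⟩ := level_proper k p q u hpq (by simp [p, u, Fin.ext_iff]; omega) (by simp [q, u, Fin.ext_iff]; omega)
      (by simp [Same, p, q, Nat.div_eq_of_lt (show 1 < 2 ^ k by omega)])
      (by simp [Same, q, u, Nat.div_eq_of_lt (show 1 < 2 ^ k by omega)])
    -- the second proper overgroup
    obtain ⟨B, hTB, ⟨c, hc1, hc2⟩, hBgen⟩ : ∃ B : Subgroup (Perm (Fin n)), treeGroup n ≤ B ∧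
        (∃ c, c ∈ alternatingGroup (Fin n) ∧ c ∉ B) ∧ ∀ M : Subgroup (Perm (Fin n)),
          levelStab n k ⊓ alternatingGroup (Fin n) ≤ M → B ⊓ alternatingGroup (Fin n) ≤ M →
          alternatingGroup (Fin n) ≤ M := by
      rcases Nat.even_or_odd n with he | ho
      · obtain ⟨h1, h2⟩ := level_proper 1 p q r hpq (by simp [p, r, Fin.ext_iff]) (by simp [q, r, Fin.ext_iff])
          (by simp [Same, p, q]) (by simp [Same, q, r])
        exact ⟨levelStab n 1, treeGroup_le_levelStab 1, ⟨_, h1, h2⟩, fun M hA hB =>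
          join_contains_alternating hn6 k hk hk2 hne M hA (fun _ => hB)
            (fun ho => absurd he (Nat.not_even_iff_odd.2 ho))⟩
      · obtain ⟨h1, h2⟩ := point_proper l p q (by simp [l, p, Fin.ext_iff]; omega)
          (by simp [l, q, Fin.ext_iff]; omega) hpq
        exact ⟨pointStab l, treeGroup_le_pointStab 1 (Nat.odd_iff.1 ho) l rfl, ⟨_, h1, h2⟩, fun M hA hB =>
          join_contains_alternating hn6 k hk hk2 hne M hA (fun he => absurd he (Nat.not_even_iff_odd.2 ho))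
            (fun _ l' hl' => by rw [show l' = l from Fin.ext hl']; exact hB)⟩
    refine ⟨fun R => ⟨fun h => absurd h ?_, fun h => absurd h hform⟩,
      fun R => ⟨fun h => absurd h ?_, fun h => absurd h hform⟩⟩
    · obtain ⟨S, hS⟩ := exists_sylow_eq (isPGroup_altTree n) (altTree_normalizer hn6)
      intro h
      refine not_unique_of_join _ ((levelStab n k).subgroupOf _) (B.subgroupOf _)
        (fun h => ha2 (show (⟨_, ha1⟩ : ↥(alternatingGroup (Fin n))) ∈ (levelStab n k).subgroupOf _ by rw [h]; trivial))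
        (fun h => hc2 (show (⟨_, hc1⟩ : ↥(alternatingGroup (Fin n))) ∈ B.subgroupOf _ by rw [h]; trivial))
        (by rw [hS]; exact fun x hx => treeGroup_le_levelStab k hx)
        (by rw [hS]; exact fun x hx => hTB hx) ?_ (unique_conj R S h)
      apply alt_eq_top
      apply hBgen
      · rintro σ ⟨h1, h2⟩
        exact ⟨⟨σ, h2⟩, Subgroup.mem_sup_left h1, rfl⟩
      · rintro σ ⟨h1, h2⟩
        exact ⟨⟨σ, h2⟩, Subgroup.mem_sup_right h1, rfl⟩
    · obtain ⟨S, hS⟩ := exists_sylow_eq (isPGroup_treeGroup n) (treeGroup_normalizer hn6)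
      intro h
      refine not_unique_of_join _ (levelStab n k) B (fun h => ha2 (h ▸ trivial)) (fun h => hc2 (h ▸ trivial))
        (hS ▸ treeGroup_le_levelStab k) (hS ▸ hTB) ?_ (unique_conj R S h)
      exact perm_eq_top (hBgen _ (inf_le_left.trans le_sup_left) (inf_le_left.trans le_sup_right)) hpq
        (Subgroup.mem_sup_left (treeGroup_le_levelStab k (swap_mem_treeGroup (by simp [Same, p, q]))))

end Cfsg.Agent.S2245
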