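import Cfsg.Statements.S2247
import Cfsg.Agent.Lib.SuzukiOvoid.Action

set_option autoImplicit false
open Cfsg
open scoped MatrixGroups Matrix

namespace Cfsg.Agent.S2247

open CfsgLib.SuzukiGroup in
lemma core {F : Type*} [Field F] [Fintype F] [CharP F 2] {e : ℕ} (P : Params F e) (hq : 2 < Fintype.card F)
    (M : Subgroup ↥(Cfsg.Lie.Sz F e)) (hM : unip P ≤ M) :
    M ≤ borel (F := F) (e := e) ∨ M = ⊤ := by
  refine or_iff_not_imp_left.2 fun hle => ?_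
  obtain ⟨g, hgM, hgB⟩ := SetLike.not_le_iff_exists.1 hle
  obtain ⟨a, b, k, hk, rfl⟩ := bruhat P hgB
  have hj : ∀ u ∈ unip P, jEl P * u * (jEl P)⁻¹ ∈ M := by
    intro u hu
    have h1 : k⁻¹ * u * (k⁻¹)⁻¹ ∈ unip P :=
      (Subgroup.mem_normalizer_iff.1 (borel_le_normalizer P (inv_mem hk)) u).1 hu
    rw [show jEl P * u * (jEl P)⁻¹ = (uEl P a b)⁻¹ * ((uEl P a b * jEl P * k) * (k⁻¹ * u * (k⁻¹)⁻¹) *
      (uEl P a b * jEl P * k)⁻¹) * uEl P a b by group]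
    exact mul_mem (mul_mem (inv_mem (hM ⟨a, b, rfl⟩)) (mul_mem (mul_mem hgM (hM h1)) (inv_mem hgM)))
      (hM ⟨a, b, rfl⟩)
  haveI := isSimple P hq
  have htop : Subgroup.normalClosure (unip P : Set ↥(Cfsg.Lie.Sz F e)) = ⊤ := by
    refine (Subgroup.normalClosure_normal.eq_bot_or_eq_top).resolve_left fun h => ?_
    have h1 : uEl P 1 0 ∈ Subgroup.normalClosure (unip P : Set ↥(Cfsg.Lie.Sz F e)) :=
      Subgroup.subset_normalClosure ⟨1, 0, rfl⟩
    rw [h, Subgroup.mem_bot, uEl_eq_one] at h1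
    exact one_ne_zero h1.1
  rw [eq_top_iff, ← htop, Subgroup.normalClosure]
  refine (Subgroup.closure_le _).2 fun z hz => ?_
  obtain ⟨u, hu, hzu⟩ := Group.mem_conjugatesOfSet_iff.1 hz
  obtain ⟨x, rfl⟩ := isConj_iff.1 hzu
  by_cases hxB : x ∈ borel (F := F) (e := e)
  · exact hM ((Subgroup.mem_normalizer_iff.1 (borel_le_normalizer P hxB) u).1 hu)
  · obtain ⟨c, d, l, hl, rfl⟩ := bruhat P hxB
    rw [show uEl P c d * jEl P * l * u * (uEl P c d * jEl P * l)⁻¹ =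
      uEl P c d * (jEl P * (l * u * l⁻¹) * (jEl P)⁻¹) * (uEl P c d)⁻¹ by group]
    exact mul_mem (mul_mem (hM ⟨c, d, rfl⟩)
      (hj _ ((Subgroup.mem_normalizer_iff.1 (borel_le_normalizer P hl) u).1 hu))) (inv_mem (hM ⟨c, d, rfl⟩))


/-- In the Suzuki group with q = 2^(2m+1), m ≥ 1 (realised as the stabiliser in SL₄ of the Suzuki–Tits ovoid), the normalizer of a Sylow 2-subgroup P is a maximal subgroup and is the only maximal subgroup containing P. -/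
theorem result {F : Type*} [Field F] [Fintype F] {m : ℕ} (hm : 1 ≤ m) (hF : Fintype.card F = 2 ^ (2 * m + 1)) (P : Sylow 2 ↥(Cfsg.Sz F m)) :
    IsCoatom (Subgroup.normalizer ((P : Subgroup ↥(Cfsg.Sz F m)) : Set ↥(Cfsg.Sz F m))) ∧
    ∀ M : Subgroup ↥(Cfsg.Sz F m), IsCoatom M → (P : Subgroup ↥(Cfsg.Sz F m)) ≤ M → M = Subgroup.normalizer ((P : Subgroup ↥(Cfsg.Sz F m)) : Set ↥(Cfsg.Sz F m)) := by
  obtain ⟨_, ⟨Q⟩⟩ := CfsgLib.SuzukiGroup.exists_params hF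
  obtain ⟨c, hc⟩ := CfsgLib.SuzukiOvoid.exists_conj_map_unip hm hF Q P
  have hq : 2 < Fintype.card F := hF ▸ (CfsgLib.SuzukiOvoid.two_pow_bounds (m := m) hm).2.2
  let ψ : ↥(Cfsg.Lie.Sz F (2 ^ (m + 1))) ≃* ↥(Cfsg.Sz F m) :=
    (CfsgLib.SuzukiOvoid.ovoidEquiv hm hF Q).trans (MulAut.conj c)
  have hψ : (P : Subgroup ↥(Cfsg.Sz F m)) = (CfsgLib.SuzukiGroup.unip Q).map ψ.toMonoidHom := hc
  have hN : Subgroup.normalizer ((P : Subgroup ↥(Cfsg.Sz F m)) : Set ↥(Cfsg.Sz F m)) =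
      (CfsgLib.SuzukiGroup.borel (F := F) (e := 2 ^ (m + 1))).map ψ.toMonoidHom := by
    rw [hψ, ← CfsgLib.SuzukiGroup.normalizer_unip Q]
    exact (Subgroup.map_equiv_normalizer_eq _ ψ).symm
  have hBne : (CfsgLib.SuzukiGroup.borel (F := F) (e := 2 ^ (m + 1))).map ψ.toMonoidHom ≠ ⊤ := by
    intro h
    have hmem : ψ (CfsgLib.SuzukiGroup.jEl Q) ∈
        (CfsgLib.SuzukiGroup.borel (F := F) (e := 2 ^ (m + 1))).map ψ.toMonoidHom := by
      rw [h]; exact Subgroup.mem_top _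
    rw [Subgroup.mem_map_equiv, MulEquiv.symm_apply_apply] at hmem
    exact CfsgLib.SuzukiGroup.jEl_notMem_borel Q hmem
  have key : ∀ M : Subgroup ↥(Cfsg.Sz F m), (P : Subgroup ↥(Cfsg.Sz F m)) ≤ M →
      M ≤ Subgroup.normalizer ((P : Subgroup ↥(Cfsg.Sz F m)) : Set ↥(Cfsg.Sz F m)) ∨ M = ⊤ := by
    intro M hM
    have hM' : CfsgLib.SuzukiGroup.unip Q ≤ M.comap ψ.toMonoidHom := by
      rw [← Subgroup.map_le_iff_le_comap, ← hψ]; exact hM
    rcases core Q hq (M.comap ψ.toMonoidHom) hM' with h | h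
    · left
      rw [hN, ← Subgroup.map_comap_eq_self_of_surjective (f := ψ.toMonoidHom) ψ.surjective M]
      exact Subgroup.map_mono h
    · right
      rw [← Subgroup.map_comap_eq_self_of_surjective (f := ψ.toMonoidHom) ψ.surjective M, h]
      exact Subgroup.map_top_of_surjective _ ψ.surjective
  have hco : IsCoatom (Subgroup.normalizer ((P : Subgroup ↥(Cfsg.Sz F m)) : Set ↥(Cfsg.Sz F m))) := by
    refine ⟨hN ▸ hBne, fun M hlt => ?_⟩
    exact (key M (Subgroup.le_normalizer.trans hlt.le)).resolve_left (not_le_of_gt hlt)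
  refine ⟨hco, fun M hM hP => ?_⟩
  rcases key M hP with h | h
  · exact (hM.le_iff_eq hco.1).1 h |>.symm
  · exact absurd h hM.1

end Cfsg.Agent.S2247
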