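import Cfsg.Statements.S2249
import Cfsg.Agent.Lib.TwoGroups.GLNormalSigns
import Cfsg.Agent.Lib.TwoGroups.GLNormalBound

set_option autoImplicit false
open Cfsg

namespace Cfsg.Agent.S2249

/-- The normal 2-rank of the general linear group over a finite field of odd order q: for n ≥ 1 and S a Sylow 2-subgroup of GL_n(F), the largest rank of an elementary abelian subgroup of S that is normal in S equals n when q ≡ 1 (mod 4) and ⌊(n + 1)/2⌋ when q ≡ 3 (mod 4). -/
theorem result {F : Type*} [Field F] [Fintype F] {q : ℕ} (hF : Fintype.card F = q) (hodd : Odd q) (n : ℕ) (hn : 1 ≤ n) (S : Sylow 2 (Matrix.GeneralLinearGroup (Fin n) F)) :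
    (q % 4 = 1 → ((∃ E : Subgroup ↥(S : Subgroup (Matrix.GeneralLinearGroup (Fin n) F)), E.Normal ∧ Cfsg.IsElementaryAbelian 2 E ∧ 2 ^ (n) ≤ Nat.card ↥E) ∧
      ∀ E : Subgroup ↥(S : Subgroup (Matrix.GeneralLinearGroup (Fin n) F)), E.Normal → Cfsg.IsElementaryAbelian 2 E → Nat.card ↥E ≤ 2 ^ (n))) ∧
    (q % 4 = 3 → ((∃ E : Subgroup ↥(S : Subgroup (Matrix.GeneralLinearGroup (Fin n) F)), E.Normal ∧ Cfsg.IsElementaryAbelian 2 E ∧ 2 ^ ((n + 1) / 2) ≤ Nat.card ↥E) ∧
      ∀ E : Subgroup ↥(S : Subgroup (Matrix.GeneralLinearGroup (Fin n) F)), E.Normal → Cfsg.IsElementaryAbelian 2 E → Nat.card ↥E ≤ 2 ^ ((n + 1) / 2))) := by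
  classical
  subst hF
  set q := Fintype.card F with hq
  have : Fact (Nat.Prime 2) := ⟨Nat.prime_two⟩
  have h1q : 1 < q := Fintype.one_lt_card
  have hS : (Nat.card ↥(S : Subgroup (Matrix.GeneralLinearGroup (Fin n) F))).factorization 2 =
      CfsgLib.TwoGroups.GLTwoPart.glVal q n := by
    rw [S.card_eq_multiplicity, Nat.factorization_pow, Finsupp.smul_apply, smul_eq_mul,
      Nat.prime_two.factorization_self, mul_one, CfsgLib.TwoGroups.GLTwoPart.card_gl_val hodd]
  have hfac : q ^ 2 - 1 = (q + 1) * (q - 1) := by simpa using Nat.sq_sub_sq q 1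
  have hV2 : padicValNat 2 (q ^ 2 - 1) = padicValNat 2 (q + 1) + padicValNat 2 (q - 1) := by
    rw [hfac, padicValNat.mul (by omega) (by omega)]
  have bound : ∀ E : Subgroup ↥(S : Subgroup (Matrix.GeneralLinearGroup (Fin n) F)),
      E.Normal → Cfsg.IsElementaryAbelian 2 E → ∃ r a : ℕ, Nat.card E ≤ 2 ^ r ∧ r ≤ n ∧ a ≤ n ∧
      2 * r ≤ n + a ∧ CfsgLib.TwoGroups.GLTwoPart.glVal q n ≤ a * padicValNat 2 (q - 1) +
        padicValNat 2 a.factorial + CfsgLib.TwoGroups.GLTwoPart.glVal q (n - a) := by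
    intro E hEn hE
    let ρ : ↥(S : Subgroup (Matrix.GeneralLinearGroup (Fin n) F)) →* Module.End F (Fin n → F) :=
      (Matrix.toLinAlgEquiv' (R := F) (n := Fin n)).toAlgHom.toMonoidHom.comp
        ((Units.coeHom _).comp (S : Subgroup (Matrix.GeneralLinearGroup (Fin n) F)).subtype)
    have := CfsgLib.TwoGroups.GLNormalBound.exists_bound hodd ρ
      (fun x y h => Subtype.ext (Units.ext ((Matrix.toLinAlgEquiv' (R := F) (n := Fin n)).injective h)))
      E hEn (fun a b => hE.1.is_comm.comm a b)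
      (fun a => by rw [← sq]; exact Subtype.ext (hE.2 a a.2)) (n := n) (by simp)
    rwa [hS] at this
  refine ⟨fun h1 => ⟨?_, fun E hEn hE => ?_⟩, fun h3 => ⟨?_, fun E hEn hE => ?_⟩⟩
  · have hp1 : padicValNat 2 (q + 1) = 1 := by
      rw [show q + 1 = 2 * ((q + 1) / 2) by omega, padicValNat.mul two_ne_zero (by omega),
        padicValNat.self (by norm_num), padicValNat.eq_zero_of_not_dvd (by omega)]
    obtain ⟨E, hEn, hE, hc⟩ := CfsgLib.TwoGroups.GLNormalSigns.exists_normal hodd (b := 1) (m := n)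
      (r := 0) (n := n) one_pos (by omega) (by
        simp only [CfsgLib.TwoGroups.GLTwoPart.glVal]
        rw [← hq, CfsgLib.TwoGroups.GLTwoPart.v_factorial n, hV2, hp1]
        simp
        obtain ⟨j, rfl | rfl⟩ := Nat.even_or_odd' n
        · rw [show 2 * j / 2 = j by omega, show (2 * j + 1) / 2 = j by omega]; ring
        · rw [show (2 * j + 1) / 2 = j by omega, show (2 * j + 1 + 1) / 2 = j + 1 by omega]; ring) S
    exact ⟨E, hEn, hE, by simpa using hc⟩
  · obtain ⟨r, a, h4, h5, -⟩ := bound E hEn hE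
    exact h4.trans (Nat.pow_le_pow_right two_pos h5)
  · obtain ⟨E, hEn, hE, hc⟩ := CfsgLib.TwoGroups.GLNormalSigns.exists_normal hodd (b := 2)
      (m := n / 2) (r := n % 2) (n := n) two_pos (by omega) (by
        simp only [CfsgLib.TwoGroups.GLTwoPart.glVal]
        rw [← hq]
        rcases Nat.mod_two_eq_zero_or_one n with h | h
        · rw [h, show (n + 1) / 2 = n / 2 by omega]; simp; ring
        · rw [h, show (n + 1) / 2 = n / 2 + 1 by omega]; simp; ring) S
    exact ⟨E, hEn, hE, le_trans (le_of_eq (by congr 1; omega)) hc⟩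
  · obtain ⟨r, a, h4, h5, h6, h7, h8⟩ := bound E hEn hE
    refine h4.trans (Nat.pow_le_pow_right two_pos ?_)
    by_contra hr
    have hm1 : padicValNat 2 (q - 1) = 1 := by
      rw [show q - 1 = 2 * ((q - 1) / 2) by omega, padicValNat.mul two_ne_zero (by omega),
        padicValNat.self (by norm_num), padicValNat.eq_zero_of_not_dvd (by omega)]
    have hp2 : 2 ≤ padicValNat 2 (q + 1) :=
      (padicValNat_dvd_iff_le (by omega)).1 (by omega)
    obtain ⟨c, rfl⟩ : ∃ c, n = a + c := ⟨n - a, by omega⟩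
    rw [Nat.add_sub_cancel_left, CfsgLib.TwoGroups.GLTwoPart.v_factorial a] at h8
    simp only [CfsgLib.TwoGroups.GLTwoPart.glVal, hm1, mul_one] at h8
    have hv : padicValNat 2 (a / 2).factorial + padicValNat 2 (c / 2).factorial ≤
        padicValNat 2 ((a + c) / 2).factorial := by
      rw [← padicValNat.mul (Nat.factorial_ne_zero _) (Nat.factorial_ne_zero _),
        ← padicValNat_dvd_iff_le (Nat.factorial_ne_zero _)]
      exact pow_padicValNat_dvd.trans ((Nat.factorial_mul_factorial_dvd_factorial_add _ _).trans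
        (Nat.factorial_dvd_factorial (by omega)))
    have ht : padicValNat 2 (q ^ 2 - 1) ≥ 3 := by omega
    set t := padicValNat 2 (q ^ 2 - 1)
    have hm : (a / 2 + c / 2) * t ≤ (a + c) / 2 * t := Nat.mul_le_mul_right t (by omega)
    have hu : (a / 2) * 3 ≤ a / 2 * t := Nat.mul_le_mul_left _ ht
    have hab : a / 2 + c / 2 ≤ (a + c) / 2 := by omega
    obtain ⟨d, hd⟩ := Nat.exists_eq_add_of_le hab
    rw [hd] at h8 hm hv
    have hdt : d * 3 ≤ d * t := Nat.mul_le_mul_left _ ht
    simp only [add_mul] at h8 hm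
    omega

end Cfsg.Agent.S2249
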