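import Cfsg.Statements.S2250
import Cfsg.Agent.Lib.TwoGroups.SympMonomial
import Cfsg.Agent.S2234

set_option autoImplicit false
open Cfsg

namespace Cfsg.Agent.S2250

/-- The normal 2-rank of the symplectic group over a finite field of odd order: for n ≥ 1 and S a Sylow 2-subgroup of Sp_{2n}(F), the largest rank of an elementary abelian subgroup of S that is normal in S equals n. -/
theorem result {F : Type*} [Field F] [Fintype F] (hF : Odd (Fintype.card F)) (n : ℕ) (hn : 1 ≤ n) (S : Sylow 2 ↥(Matrix.symplecticGroup (Fin n) F)) :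
    ((∃ E : Subgroup ↥(S : Subgroup ↥(Matrix.symplecticGroup (Fin n) F)), E.Normal ∧ Cfsg.IsElementaryAbelian 2 E ∧ 2 ^ (n) ≤ Nat.card ↥E) ∧
      ∀ E : Subgroup ↥(S : Subgroup ↥(Matrix.symplecticGroup (Fin n) F)), E.Normal → Cfsg.IsElementaryAbelian 2 E → Nat.card ↥E ≤ 2 ^ (n)) := by
  classical
  obtain ⟨E, hn', hc, hsq, hcard⟩ := CfsgLib.TwoGroups.SympMonomial.exists_normal_signs hF S
  refine ⟨⟨E, hn', ⟨hc, hsq⟩, hcard⟩, fun A _ hA => ?_⟩
  have hinj := (S : Subgroup ↥(Matrix.symplecticGroup (Fin n) F)).subtype_injective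
  rw [Nat.card_congr (A.equivMapOfInjective _ hinj).toEquiv]
  refine (Cfsg.Agent.S2234.result hF n hn).2 _ ⟨⟨?_⟩⟩ ?_
  · rintro ⟨_, a, ha, rfl⟩ ⟨_, b, hb, rfl⟩
    exact Subtype.ext (congrArg Subtype.val
      (congrArg Subtype.val (hA.1.is_comm.comm ⟨a, ha⟩ ⟨b, hb⟩)) :)
  · rintro _ ⟨a, ha, rfl⟩
    rw [← map_pow, hA.2 a ha, map_one]

end Cfsg.Agent.S2250
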