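import Cfsg.Statements.S2251
import Cfsg.Agent.Lib.SuzukiOvoid.Subgroups

set_option autoImplicit false
open Cfsg
open scoped MatrixGroups Matrix Pointwise

namespace Cfsg.Agent.S2251

/-- The subgroups of the Suzuki group: with q = 2^(2m+1), m ≥ 1, r = 2^m and the group realised as the stabiliser in SL₄ of the Suzuki–Tits ovoid, every proper subgroup is contained in the normalizer of a Sylow 2-subgroup, or in the normalizer of a cyclic subgroup of order q − 1, q + 2r + 1 or q − 2r + 1, or in a subgroup isomorphic to a smaller Suzuki group Sz(s) with s = 2^(2k+1) ≥ 8 and 2k+1 a proper divisor of 2m+1. -/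
theorem result {F : Type*} [Field F] [Fintype F] {m : ℕ} (hm : 1 ≤ m) (hF : Fintype.card F = 2 ^ (2 * m + 1)) (M : Subgroup ↥(Cfsg.Sz F m)) (hM : M ≠ ⊤) :
    (∃ P : Sylow 2 ↥(Cfsg.Sz F m), M ≤ Subgroup.normalizer ((P : Subgroup ↥(Cfsg.Sz F m)) : Set ↥(Cfsg.Sz F m))) ∨
    (∃ U : Subgroup ↥(Cfsg.Sz F m), IsCyclic ↥U ∧ Nat.card ↥U ∈ ({2 ^ (2 * m + 1) - 1, 2 ^ (2 * m + 1) + 2 ^ (m + 1) + 1, 2 ^ (2 * m + 1) - 2 ^ (m + 1) + 1} : Set ℕ) ∧
      M ≤ Subgroup.normalizer (U : Set ↥(Cfsg.Sz F m))) ∨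
    (∃ (K : Type) (_ : Field K) (_ : Fintype K) (k : ℕ), 1 ≤ k ∧ k < m ∧ Fintype.card K = 2 ^ (2 * k + 1) ∧ 2 * k + 1 ∣ 2 * m + 1 ∧
      ∃ S : Subgroup ↥(Cfsg.Sz F m), Nonempty (↥S ≃* ↥(Cfsg.Sz K k)) ∧ M ≤ S) := by
  obtain ⟨_, ⟨P⟩⟩ := CfsgLib.SuzukiGroup.exists_params hF
  set ψ := CfsgLib.SuzukiOvoid.ovoidEquiv hm hF P
  set M' := M.comap ψ.toMonoidHom with hM'
  have hMM : M'.map ψ.toMonoidHom = M :=
    Subgroup.map_comap_eq_self_of_surjective (f := ψ.toMonoidHom) ψ.surjective M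
  haveI : Fact (Nat.Prime 2) := ⟨Nat.prime_two⟩
  rcases CfsgLib.SuzukiGroup.subgroup_cases P hF hm M' with (⟨k, hk⟩ | ⟨g, hg, hle⟩) | ⟨k, L, l, h8, hl, hd, heq⟩
  · -- in a conjugate of the Borel subgroup
    left
    let S₀ : Sylow 2 ↥(Cfsg.Sz F m) :=
      (CfsgLib.SuzukiGroup.sylowTwo P).mapSurjective (f := ψ.toMonoidHom) ψ.surjective
    refine ⟨(ψ k)⁻¹ • S₀, fun x hx => ?_⟩
    rw [← hMM] at hx
    obtain ⟨y, hy, rfl⟩ := hx
    have hb := hk y hy
    rw [← CfsgLib.SuzukiGroup.normalizer_unip P] at hb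
    have h1 : ψ (k * y * k⁻¹) ∈ Subgroup.normalizer
        ((S₀ : Subgroup ↥(Cfsg.Sz F m)) : Set ↥(Cfsg.Sz F m)) := by
      show _ ∈ Subgroup.normalizer (((CfsgLib.SuzukiGroup.unip P).map ψ.toMonoidHom : Subgroup ↥(Cfsg.Sz F m)) : Set ↥(Cfsg.Sz F m))
      rw [← Subgroup.map_equiv_normalizer_eq]
      exact Subgroup.mem_map_of_mem _ hb
    replace h1 : ψ (k * y * k⁻¹) • S₀ = S₀ := Sylow.smul_eq_iff_mem_normalizer.2 h1
    refine Sylow.smul_eq_iff_mem_normalizer.1 ?_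
    rw [map_mul, map_mul, map_inv, mul_smul, mul_smul] at h1
    show ψ y • (ψ k)⁻¹ • S₀ = (ψ k)⁻¹ • S₀
    rwa [smul_eq_iff_eq_inv_smul] at h1
  · -- in the normaliser of a torus
    right; left
    have hg1 : ψ g ≠ 1 := fun e => hg (by
      rw [(map_eq_one_iff _ ψ.injective).1 e, orderOf_one]; exact one_dvd 4)
    rcases CfsgLib.SuzukiOvoid.element_cases hm hF hg1 with h4 | ⟨hc, hcard⟩
    · rw [ψ.orderOf_eq] at h4; exact absurd h4 hg
    refine ⟨_, hc, hcard, ?_⟩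
    rw [← hMM, ← CfsgLib.SuzukiOvoid.centralizer_map_equiv, ← Subgroup.map_equiv_normalizer_eq]
    exact Subgroup.map_mono hle
  · -- a subfield group
    right; right
    obtain ⟨i, rfl⟩ : Odd l := Odd.of_dvd_nat ⟨m, rfl⟩ hd
    have hi1 : 1 ≤ i := by
      rcases Nat.eq_zero_or_pos i with rfl | h
      · rw [hl] at h8; norm_num at h8
      · exact h
    have him : i < m := by
      have hle := Nat.le_of_dvd (by omega) hd
      rcases Nat.lt_or_ge i m with h | h
      · exact h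
      exfalso
      obtain rfl : i = m := by omega
      refine hM ?_
      have hL : ∀ x : F, x ∈ L := fun x => by
        rw [CfsgLib.SuzukiGroup.mem_subfield_iff L hl, ← hF, FiniteField.pow_card]
      have htop : M'.map (MulAut.conj k).toMonoidHom = ⊤ := by
        rw [heq, eq_top_iff]; intro y _ a b; exact hL _
      have hM'top : M' = ⊤ := Subgroup.map_injective (f := (MulAut.conj k).toMonoidHom) (MulAut.conj k).injective
        (htop.trans (Subgroup.map_top_of_surjective _ (MulAut.conj k).surjective).symm)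
      rw [← hMM, hM'top]; exact Subgroup.map_top_of_surjective _ ψ.surjective
    letI : Fintype (GaloisField 2 (2 * i + 1)) := Fintype.ofFinite _
    have hK : Fintype.card (GaloisField 2 (2 * i + 1)) = 2 ^ (2 * i + 1) := by
      rw [← Nat.card_eq_fintype_card, GaloisField.card 2 _ (by omega)]
    obtain ⟨e⟩ := CfsgLib.SuzukiGroup.nonempty_subGroup_equiv P L hi1 hl hd hK
    exact ⟨GaloisField 2 (2 * i + 1), inferInstance, inferInstance, i, hi1, him,
      hK, hd, M,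
      ⟨((MulEquiv.subgroupCongr hMM).symm.trans ((ψ.subgroupMap M').symm.trans (((MulAut.conj k).subgroupMap M').trans (MulEquiv.subgroupCongr heq)))).trans e⟩, le_rfl⟩

end Cfsg.Agent.S2251
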