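import Cfsg.Statements.S2254
import Cfsg.Agent.Lib.PermNilp.Extremal

set_option autoImplicit false
open Cfsg
open scoped MatrixGroups Matrix Pointwise

namespace Cfsg.Agent.S2254

open CfsgLib.PermNilp in
lemma core {c : ℕ} (hc : c % 4 = 0) (P : Sylow 2 (Equiv.Perm (Fin c))) :
    (∀ N : Subgroup (Equiv.Perm (Fin (c + 3))), Group.IsNilpotent N → Nat.card N ≤ 3 * Nat.card P) ∧
    (∃ M : Subgroup (Equiv.Perm (Fin (c + 3))), Group.IsNilpotent M ∧ Nat.card M = 3 * Nat.card P ∧
      Nonempty (M ≃* (↥(P : Subgroup (Equiv.Perm (Fin c))) × Multiplicative (ZMod 3)))) ∧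
    (∀ N₁ N₂ : Subgroup (Equiv.Perm (Fin (c + 3))), Group.IsNilpotent N₁ → Group.IsNilpotent N₂ →
      Nat.card N₁ = 3 * Nat.card P → Nat.card N₂ = 3 * Nat.card P →
      ∃ g : Equiv.Perm (Fin (c + 3)), N₂ = N₁.map (MulAut.conj g).toMonoidHom) := by
  haveI : Fact (Nat.Prime 2) := ⟨Nat.prime_two⟩
  have hP : Nat.card P = sylTwo c := (card_sylow_perm P).trans (by rw [Fintype.card_fin])
  refine ⟨fun N hN => ?_, ?_, ?_⟩
  · have h := (card_le_bnd (c + 3) N hN (Fintype.card_fin _)).1
    rw [bndSym, if_pos (show (c + 3) % 4 = 3 by omega), Nat.add_sub_cancel] at h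
    rwa [hP]
  · have h3 : Nat.card ↥(alternatingGroup (Fin 3)) = 3 := by
      have h := two_mul_card_alt (α := Fin 3)
      rw [Fintype.card_fin, show Nat.factorial 3 = 6 from rfl] at h
      omega
    haveI : IsCyclic ↥(alternatingGroup (Fin 3)) := isCyclic_of_prime_card (p := 3) h3
    have ε : Multiplicative (ZMod 3) ≃* ↥(alternatingGroup (Fin 3)) :=
      mulEquivOfCyclicCardEq (by rw [Nat.card_congr Multiplicative.toAdd, Nat.card_zmod, h3])
    let f : ↥(P : Subgroup (Equiv.Perm (Fin c))) × Multiplicative (ZMod 3) →* Equiv.Perm (Fin (c + 3)) :=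
      (finSumFinEquiv.permCongrHom.toMonoidHom.comp (Equiv.Perm.sumCongrHom (Fin c) (Fin 3))).comp
        (MonoidHom.prodMap (P : Subgroup (Equiv.Perm (Fin c))).subtype
          ((alternatingGroup (Fin 3)).subtype.comp ε.toMonoidHom))
    have hf : Function.Injective f :=
      ((finSumFinEquiv.permCongrHom.injective.comp Equiv.Perm.sumCongrHom_injective).comp
        ((Subgroup.subtype_injective _).prodMap ((Subgroup.subtype_injective _).comp ε.injective)))
    haveI : Group.IsNilpotent ↥(P : Subgroup (Equiv.Perm (Fin c))) := P.isPGroup'.isNilpotent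
    let φ := MonoidHom.ofInjective hf
    refine ⟨f.range, Group.nilpotent_of_surjective φ.toMonoidHom φ.surjective, ?_, ⟨φ.symm⟩⟩
    rw [← Nat.card_congr φ.toEquiv, Nat.card_prod, Nat.card_congr Multiplicative.toAdd, Nat.card_zmod, mul_comm]
  · intro N₁ N₂ hN₁ hN₂ h₁ h₂
    obtain ⟨e, he⟩ : ∃ e, sylTwo c = 2 ^ e := ⟨_, sylTwo_eq c⟩
    rw [hP, he] at h₁ h₂
    have key := fun (N : Subgroup (Equiv.Perm (Fin (c + 3)))) (hN : Group.IsNilpotent N)
        (h : Nat.card N = 3 * 2 ^ e) => structure_three (MonoidHom.id _) Function.injective_id N hN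
      (by rw [Fintype.card_fin]; omega) h (by rw [Fintype.card_fin, Nat.add_sub_cancel, he]; omega)
    obtain ⟨z₁, Q₁, hz₁, hc₁, hQ₁, rfl⟩ := key N₁ hN₁ h₁
    obtain ⟨z₂, Q₂, hz₂, hc₂, hQ₂, rfl⟩ := key N₂ hN₂ h₂
    refine conj_of_data (Equiv.Perm.isConj_iff_cycleType_eq.2 (hz₁.trans hz₂.symm)) hQ₁ hQ₂ hc₁ hc₂ ?_
    refine Nat.pow_right_injective (le_refl 2) ?_
    show 2 ^ (Nat.card ↥(Subgroup.centralizer {z₂})).factorization 2 = 2 ^ e
    rw [factorization_centralizer_three (z := z₂) hz₂, Fintype.card_fin, Nat.add_sub_cancel, he]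


/-- Let n ≡ 3 (mod 4). Then every nilpotent subgroup of the symmetric group on n letters has order at most 3 times the order of a Sylow 2-subgroup of the symmetric group on n − 3 letters; the bound is attained by a nilpotent subgroup isomorphic to the direct product of such a Sylow 2-subgroup with a cyclic group of order 3; and any two nilpotent subgroups attaining the bound are conjugate. -/
theorem result  (n : ℕ) (hn : n % 4 = 3)
    (P : Sylow 2 (Equiv.Perm (Fin (n - 3)))) :
    (∀ N : Subgroup (Equiv.Perm (Fin n)), Group.IsNilpotent N → Nat.card N ≤ 3 * Nat.card P) ∧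
    (∃ M : Subgroup (Equiv.Perm (Fin n)), Group.IsNilpotent M ∧ Nat.card M = 3 * Nat.card P ∧
      Nonempty (M ≃* (↥(P : Subgroup (Equiv.Perm (Fin (n - 3)))) × Multiplicative (ZMod 3)))) ∧
    (∀ N₁ N₂ : Subgroup (Equiv.Perm (Fin n)), Group.IsNilpotent N₁ → Group.IsNilpotent N₂ →
      Nat.card N₁ = 3 * Nat.card P → Nat.card N₂ = 3 * Nat.card P →
      ∃ g : Equiv.Perm (Fin n), N₂ = N₁.map (MulAut.conj g).toMonoidHom) := by
  obtain ⟨c, rfl⟩ := Nat.exists_eq_add_of_le' (show 3 ≤ n by omega)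
  revert P
  rw [Nat.add_sub_cancel]
  exact fun P => core (by omega) P

end Cfsg.Agent.S2254
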