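import Cfsg.Statements.S2255
import Cfsg.Agent.Lib.PermNilp.Extremal

set_option autoImplicit false
open Cfsg
open scoped MatrixGroups Matrix Pointwise

namespace Cfsg.Agent.S2255

open CfsgLib.PermNilp in
lemma core {n : ℕ} (hn : n % 4 ≠ 3) (h5 : n ≠ 5) (h6 : n ≠ 6) (h9 : n ≠ 9)
    (N : Subgroup (alternatingGroup (Fin n))) (hN : Group.IsNilpotent N) (P : Sylow 2 (alternatingGroup (Fin n))) :
    Nat.card N ≤ Nat.card P := by
  set N' := N.map (alternatingGroup (Fin n)).subtype
  haveI : Group.IsNilpotent ↥N' :=
    Group.nilpotent_of_surjective (N.equivMapOfInjective _ (Subgroup.subtype_injective _)).toMonoidHom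
      (N.equivMapOfInjective _ (Subgroup.subtype_injective _)).surjective
  have h := (card_le_bnd n N' inferInstance (Fintype.card_fin n)).2 (Subgroup.map_subtype_le _)
  rw [Subgroup.card_map_of_injective (Subgroup.subtype_injective _)] at h
  rcases Nat.lt_or_ge n 2 with h2 | h2
  · have e : bndAlt n = 1 := by
      rcases (show n = 0 ∨ n = 1 by omega) with rfl | rfl <;> rfl
    rw [e] at h
    exact h.trans Nat.card_pos
  · haveI : Nontrivial (Fin n) := Fin.nontrivial_iff_two_le.2 h2
    have hP := two_mul_card_sylow_alt P
    have hb := two_mul_bndAlt (n := n) (by simp [altExc]; omega)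
    rw [bndSym, if_neg hn] at hb
    rw [Fintype.card_fin] at hP
    change Nat.card N ≤ Nat.card ↥(P : Subgroup (alternatingGroup (Fin n)))
    omega


/-- Let n be a natural number not congruent to 3 modulo 4, with n ∉ {5, 6, 9}. Then every nilpotent subgroup of the alternating group on n letters has order at most the order of a Sylow 2-subgroup of the alternating group (so the nilpotent subgroups of largest order are exactly the Sylow 2-subgroups). -/
theorem result  (n : ℕ) (hn : n % 4 ≠ 3)
    (h5 : n ≠ 5) (h6 : n ≠ 6) (h9 : n ≠ 9)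
    (N : Subgroup (alternatingGroup (Fin n))) (hN : Group.IsNilpotent N)
    (P : Sylow 2 (alternatingGroup (Fin n))) :
    Nat.card N ≤ Nat.card P := by
  exact core hn h5 h6 h9 N hN P

end Cfsg.Agent.S2255
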