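import Cfsg.Statements.S2256
import Cfsg.Agent.Lib.PermNilp.Extremal

set_option autoImplicit false
open Cfsg
open scoped MatrixGroups Matrix Pointwise

namespace Cfsg.Agent.S2256

open CfsgLib.PermNilp in
lemma core {c : ℕ} (hc : c % 4 = 0) (h4 : 4 ≤ c) (P : Sylow 2 (alternatingGroup (Fin c))) :
    (∀ N : Subgroup (alternatingGroup (Fin (c + 3))), Group.IsNilpotent N → Nat.card N ≤ 3 * Nat.card P) ∧
    (∃ M : Subgroup (alternatingGroup (Fin (c + 3))), Group.IsNilpotent M ∧ Nat.card M = 3 * Nat.card P ∧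
      Nonempty (M ≃* (↥(P : Subgroup (alternatingGroup (Fin c))) × Multiplicative (ZMod 3)))) ∧
    (∀ N₁ N₂ : Subgroup (alternatingGroup (Fin (c + 3))), Group.IsNilpotent N₁ → Group.IsNilpotent N₂ →
      Nat.card N₁ = 3 * Nat.card P → Nat.card N₂ = 3 * Nat.card P →
      ∃ g : alternatingGroup (Fin (c + 3)), N₂ = N₁.map (MulAut.conj g).toMonoidHom) := by
  haveI : Fact (Nat.Prime 2) := ⟨Nat.prime_two⟩
  haveI : Nontrivial (Fin c) := Fin.nontrivial_iff_two_le.2 (by omega)
  have hP : 2 * Nat.card P = sylTwo c := (two_mul_card_sylow_alt P).trans (by rw [Fintype.card_fin])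
  refine ⟨fun N hN => ?_, ?_, ?_⟩
  · set N' := N.map (alternatingGroup (Fin (c + 3))).subtype
    have hN' : Group.IsNilpotent ↥N' :=
      Group.nilpotent_of_surjective (N.equivMapOfInjective _ (Subgroup.subtype_injective _)).toMonoidHom
        (N.equivMapOfInjective _ (Subgroup.subtype_injective _)).surjective
    have h := (card_le_bnd (c + 3) N' hN' (Fintype.card_fin _)).2 (Subgroup.map_subtype_le _)
    rw [Subgroup.card_map_of_injective (Subgroup.subtype_injective _)] at h
    have hb := two_mul_bndAlt (n := c + 3) (by simp [altExc]; omega)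
    rw [bndSym, if_pos (show (c + 3) % 4 = 3 by omega), Nat.add_sub_cancel] at hb
    omega
  · have h3 : Nat.card ↥(alternatingGroup (Fin 3)) = 3 := by
      have h := two_mul_card_alt (α := Fin 3)
      rw [Fintype.card_fin, show Nat.factorial 3 = 6 from rfl] at h
      omega
    haveI : IsCyclic ↥(alternatingGroup (Fin 3)) := isCyclic_of_prime_card (p := 3) h3
    have ε : Multiplicative (ZMod 3) ≃* ↥(alternatingGroup (Fin 3)) :=
      mulEquivOfCyclicCardEq (by rw [Nat.card_congr Multiplicative.toAdd, Nat.card_zmod, h3])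
    let f₀ : ↥(P : Subgroup (alternatingGroup (Fin c))) × Multiplicative (ZMod 3) →* Equiv.Perm (Fin (c + 3)) :=
      (finSumFinEquiv.permCongrHom.toMonoidHom.comp (Equiv.Perm.sumCongrHom (Fin c) (Fin 3))).comp
        (MonoidHom.prodMap ((alternatingGroup (Fin c)).subtype.comp (P : Subgroup (alternatingGroup (Fin c))).subtype)
          ((alternatingGroup (Fin 3)).subtype.comp ε.toMonoidHom))
    have hf₀ : Function.Injective f₀ :=
      ((finSumFinEquiv.permCongrHom.injective.comp Equiv.Perm.sumCongrHom_injective).comp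
        (((Subgroup.subtype_injective _).comp (Subgroup.subtype_injective _)).prodMap
          ((Subgroup.subtype_injective _).comp ε.injective)))
    have heven : ∀ x, f₀ x ∈ alternatingGroup (Fin (c + 3)) := fun x => by
      show Equiv.Perm.sign (finSumFinEquiv.permCongr (Equiv.sumCongr ((x.1 : alternatingGroup (Fin c)) :
        Equiv.Perm (Fin c)) ((ε x.2 : alternatingGroup (Fin 3)) : Equiv.Perm (Fin 3)))) = 1
      rw [Equiv.Perm.sign_permCongr, Equiv.Perm.sign_sumCongr, (x.1 : alternatingGroup (Fin c)).2, (ε x.2).2, one_mul]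
    let f := f₀.codRestrict (alternatingGroup (Fin (c + 3))) heven
    have hf : Function.Injective f := fun a b h => hf₀ (congrArg Subtype.val h)
    haveI : Group.IsNilpotent ↥(P : Subgroup (alternatingGroup (Fin c))) := P.isPGroup'.isNilpotent
    let φ := MonoidHom.ofInjective hf
    refine ⟨f.range, Group.nilpotent_of_surjective φ.toMonoidHom φ.surjective, ?_, ⟨φ.symm⟩⟩
    rw [← Nat.card_congr φ.toEquiv, Nat.card_prod, Nat.card_congr Multiplicative.toAdd, Nat.card_zmod, mul_comm]
  · intro N₁ N₂ hN₁ hN₂ h₁ h₂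
    obtain ⟨e, he⟩ : ∃ e, Nat.card P = 2 ^ e :=
      IsPGroup.iff_card.1 P.isPGroup'
    rw [he] at h₁ h₂
    have key := fun (N : Subgroup (alternatingGroup (Fin (c + 3)))) (hN : Group.IsNilpotent N)
        (h : Nat.card N = 3 * 2 ^ e) => structure_three (alternatingGroup (Fin (c + 3))).subtype
      (Subgroup.subtype_injective _) N hN
      (by rw [Fintype.card_fin]; omega) h (by rw [Fintype.card_fin, Nat.add_sub_cancel, ← hP, he])
    obtain ⟨z₁, Q₁, hz₁, hc₁, hQ₁, rfl⟩ := key N₁ hN₁ h₁
    obtain ⟨z₂, Q₂, hz₂, hc₂, hQ₂, rfl⟩ := key N₂ hN₂ h₂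
    refine conj_of_data (alternatingGroup.isThreeCycle_isConj (by rw [Nat.card_fin]; omega) hz₁ hz₂)
      hQ₁ hQ₂ hc₁ hc₂ ?_
    refine Nat.pow_right_injective (le_refl 2) ?_
    have h := card_centralizer_alt (by rw [Fintype.card_fin]; omega) z₂ hz₂
    rw [Fintype.card_fin, Nat.add_sub_cancel, ← hP, he] at h
    exact Nat.eq_of_mul_eq_mul_left two_pos h


/-- Let n ≡ 3 (mod 4) with n ≥ 7. Then every nilpotent subgroup of the alternating group on n letters has order at most 3 times the order of a Sylow 2-subgroup of the alternating group on n − 3 letters; the bound is attained by a nilpotent subgroup isomorphic to the direct product of such a Sylow 2-subgroup with a cyclic group of order 3; and any two nilpotent subgroups of the alternating group attaining the bound are conjugate in it. -/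
theorem result  (n : ℕ) (hn : n % 4 = 3) (h7 : 7 ≤ n)
    (P : Sylow 2 (alternatingGroup (Fin (n - 3)))) :
    (∀ N : Subgroup (alternatingGroup (Fin n)), Group.IsNilpotent N → Nat.card N ≤ 3 * Nat.card P) ∧
    (∃ M : Subgroup (alternatingGroup (Fin n)), Group.IsNilpotent M ∧ Nat.card M = 3 * Nat.card P ∧
      Nonempty (M ≃* (↥(P : Subgroup (alternatingGroup (Fin (n - 3)))) × Multiplicative (ZMod 3)))) ∧
    (∀ N₁ N₂ : Subgroup (alternatingGroup (Fin n)), Group.IsNilpotent N₁ → Group.IsNilpotent N₂ →
      Nat.card N₁ = 3 * Nat.card P → Nat.card N₂ = 3 * Nat.card P →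
      ∃ g : alternatingGroup (Fin n), N₂ = N₁.map (MulAut.conj g).toMonoidHom) := by
  obtain ⟨c, rfl⟩ := Nat.exists_eq_add_of_le' (show 3 ≤ n by omega)
  revert P
  rw [Nat.add_sub_cancel]
  exact fun P => core (by omega) (by omega) P

end Cfsg.Agent.S2256
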