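import Cfsg.Statements.S2259
import Cfsg.Agent.Lib.SuzukiGroup.Solvabilizer

set_option autoImplicit false
open Cfsg
open scoped MatrixGroups Matrix Pointwise

namespace Cfsg.Agent.S2259

open CfsgLib.SuzukiGroup Cfsg.Lie in
lemma core {F : Type*} [Field F] [Fintype F] [CharP F 2] {m : ℕ} (P : Params F (2 ^ (m + 1)))
    (hF : Fintype.card F = 2 ^ (2 * m + 1)) (hm : 1 ≤ m) (hp : (2 * m + 1).Prime)
    (x : ↥(Cfsg.Lie.Sz F (2 ^ (m + 1)))) :
    (orderOf x = 2 → (solvSet x).ncard = Fintype.card F ^ 2 * (4 * Fintype.card F - 3)) ∧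
    (orderOf x = 4 → (solvSet x).ncard = Fintype.card F ^ 2 * (Fintype.card F + 3)) ∧
    (x ≠ 1 → orderOf x ∣ Fintype.card F - 1 →
      (solvSet x).ncard = 2 * Fintype.card F ^ 2 * (Fintype.card F - 1)) ∧
    (x ≠ 1 → orderOf x ∣ toA m → (solvSet x).ncard = 4 * toA m) ∧
    (x ≠ 1 → orderOf x ∣ toB m → (solvSet x).ncard = 4 * toB m) := by
  have h8 := eight_le hF hm
  have hodd := odd_q_sub_one (F := F) hF hm
  obtain ⟨hA2, hB2⟩ := toA_toB_dvd (m := m) hF
  obtain ⟨hcA, hcB⟩ := q_sub_one_coprime (F := F) hF hm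
  have hAB : toA m + toB m = 2 * Fintype.card F + 2 := by
    rw [hF]; have := r_le_q m; unfold toA toB; omega
  have hA1 := one_lt_toA m
  have hB1 := one_lt_toB m hm
  -- 2-elements
  have key : orderOf x = 2 ∨ orderOf x = 4 → ∃ k : ↥(Cfsg.Lie.Sz F (2 ^ (m + 1))), ∃ a b : F,
      orderOf (uEl P a b) = orderOf x ∧ (a = 0 ↔ orderOf x = 2) ∧ uEl P a b ≠ 1 ∧
      (solvSet x).ncard = (solvSet (uEl P a b)).ncard := by
    intro h
    have h1 : x ≠ 1 := fun e => by rw [e, orderOf_one] at h; omega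
    obtain ⟨k, hk⟩ := (even_iff_conj_unip P hF hm h1).1 (by rcases h with h | h <;> rw [h]; norm_num)
    have ho : orderOf (k * x * k⁻¹) = orderOf x :=
      orderOf_injective (MulAut.conj k).toMonoidHom (MulAut.conj k).injective x
    have hne : k * x * k⁻¹ ≠ 1 := fun e => h1 (conj_eq_one_iff.1 e)
    rcases unip_cases P hk hne with ⟨h2, b, -, he⟩ | ⟨h4, a, b, ha, he⟩
    · exact ⟨k, 0, b, by rw [← he, ho], iff_of_true rfl (ho ▸ h2), he ▸ hne, by rw [← he, solvSet_conj]⟩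
    · exact ⟨k, a, b, by rw [← he, ho], iff_of_false ha (by omega), he ▸ hne, by rw [← he, solvSet_conj]⟩
  -- elements of odd order
  have hcop : ∀ {n k : ℕ}, n.Coprime k → orderOf x ∣ n → orderOf x ∣ k → x = 1 := fun h h1 h2 =>
    orderOf_eq_one_iff.1 (Nat.eq_one_of_dvd_coprimes h h1 h2)
  have hc4 : ∀ {n : ℕ}, n.Coprime 2 → x ≠ 1 → orderOf x ∣ n → ¬ ∃ k : ↥(Cfsg.Lie.Sz F (2 ^ (m + 1))),
      k * x * k⁻¹ ∈ unip P := fun h h1 hn hk =>
    h1 (hcop (show Nat.Coprime _ (2 ^ 2) from h.pow_right 2) hn ((even_iff_conj_unip P hF hm h1).2 hk))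
  have hmem : orderOf x ∣ Nat.card ↥(Subgroup.centralizer {x}) :=
    Subgroup.orderOf_dvd_natCard _ (Subgroup.mem_centralizer_singleton_iff.2 rfl)
  have htor : ∀ {k : ↥(Cfsg.Lie.Sz F (2 ^ (m + 1)))} {z : Fˣ}, k * x * k⁻¹ = dEl P z →
      orderOf x ∣ Fintype.card F - 1 := fun {k z} hk => by
    rw [← show orderOf (k * x * k⁻¹) = orderOf x from
      orderOf_injective (MulAut.conj k).toMonoidHom (MulAut.conj k).injective x, hk, ← card_torus P]
    exact Subgroup.orderOf_dvd_natCard _ (dEl_mem_torus P z)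
  obtain ⟨a₀, b₀, ha₀, hb₀, hca, hcb⟩ := exists_torus_pair P hF hm
  obtain ⟨x₀, hx₀⟩ : ∃ x₀ : Fˣ, x₀ ≠ 1 := by
    haveI : Nontrivial Fˣ := Finite.one_lt_card_iff_nontrivial.1 (by
      rw [Nat.card_units, Nat.card_eq_fintype_card]; omega)
    exact exists_ne 1
  have hd4 : ¬ orderOf (dEl P x₀) ∣ 4 := fun h4 => hx₀ (borel_decomp_mem_unip P (a := 0) (b := 0) (by
    rw [uEl_zero, one_mul]; exact mem_unip_of_even P hF hm (dEl_mem_borel P x₀) h4))
  have hdC : Nat.card ↥(Subgroup.centralizer {dEl P x₀}) = Fintype.card F - 1 := by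
    rw [centralizer_dEl P hx₀, card_torus]
  have hdN : Nat.card ↥(Subgroup.normalizer (Subgroup.centralizer {dEl P x₀} :
      Set ↥(Cfsg.Lie.Sz F (2 ^ (m + 1))))) = 2 * (Fintype.card F - 1) := by
    rw [centralizer_dEl P hx₀, card_normalizer_torus P hF hm]
  have hf4 : ∀ {g : ↥(Cfsg.Lie.Sz F (2 ^ (m + 1)))}, FPF g → ¬ orderOf g ∣ 4 := fun {g} hg h4 => hg.ne_one
    (orderOf_eq_one_iff.1 (Nat.eq_one_of_dvd_coprimes
      (show Nat.Coprime _ (2 ^ 2) from (q_coprime hF (fpf_orderOf P hF hg)).2.pow_right 2) dvd_rfl h4))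
  refine ⟨fun h => ?_, fun h => ?_, fun h1 h => ?_, fun h1 h => ?_, fun h1 h => ?_⟩
  · obtain ⟨k, a, b, ho, ha, hne, hs⟩ := key (Or.inl h)
    have hu : uEl P a b ∈ unip P := ⟨a, b, rfl⟩
    have hCu : Nat.card ↥(Subgroup.centralizer {uEl P a b}) = Fintype.card F ^ 2 := by
      rw [card_centralizer_uEl P hF hm a b hne, if_pos (ha.2 h)]
    have od := outer_card P hF hm hu hne hd4 hdC hdN (Or.inr (Or.inl rfl)) ((card_conj_involution P hF hm
      (ho.trans h) hd4 (i := 2) (by rw [hdN, hdC]) dvd_rfl).trans hdC)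
    have oa := outer_card P hF hm hu hne (hf4 ha₀) hca ((fpf_card_normalizer P hF hm ha₀).trans (by rw [hca]))
      (Or.inr (Or.inr rfl)) ((card_conj_involution P hF hm (ho.trans h) (hf4 ha₀)
        (fpf_card_normalizer P hF hm ha₀) (by norm_num)).trans hca)
    have ob := outer_card P hF hm hu hne (hf4 hb₀) hcb ((fpf_card_normalizer P hF hm hb₀).trans (by rw [hcb]))
      (Or.inr (Or.inr rfl)) ((card_conj_involution P hF hm (ho.trans h) (hf4 hb₀)
        (fpf_card_normalizer P hF hm hb₀) (by norm_num)).trans hcb)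
    rw [hs, solvSet_unip P hF hm hu hne hp rfl hx₀ ha₀ hb₀ hca hcb, od, oa, ob, hCu, ← mul_add, ← mul_add,
      ← mul_add]
    congr 1; omega
  · obtain ⟨k, a, b, ho, ha, hne, hs⟩ := key (Or.inr h)
    have hu : uEl P a b ∈ unip P := ⟨a, b, rfl⟩
    have hCu : Nat.card ↥(Subgroup.centralizer {uEl P a b}) = 2 * Fintype.card F := by
      rw [card_centralizer_uEl P hF hm a b hne, if_neg (fun e => by have := ha.1 e; omega)]
    have od : outer (uEl P a b) (dEl P x₀) = ∅ := by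
      refine Set.eq_empty_of_forall_notMem fun y ⟨_, l, h1, _⟩ => ?_
      have := Subgroup.orderOf_dvd_natCard _ (mem_normalizer_conj.1 h1)
      rw [hdN, show orderOf (l⁻¹ * uEl P a b * l) = orderOf (uEl P a b) by
        simpa using orderOf_injective (MulAut.conj l⁻¹).toMonoidHom (MulAut.conj l⁻¹).injective (uEl P a b),
        ho, h] at this
      obtain ⟨j, hj⟩ := hodd
      omega
    have oa := outer_card P hF hm hu hne (hf4 ha₀) hca ((fpf_card_normalizer P hF hm ha₀).trans (by rw [hca]))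
      (Or.inr (Or.inr rfl)) ((card_conj_four P hF hm hu (ho.trans h) (hf4 ha₀)
        (fpf_card_normalizer P hF hm ha₀)).trans hca)
    have ob := outer_card P hF hm hu hne (hf4 hb₀) hcb ((fpf_card_normalizer P hF hm hb₀).trans (by rw [hcb]))
      (Or.inr (Or.inr rfl)) ((card_conj_four P hF hm hu (ho.trans h) (hf4 hb₀)
        (fpf_card_normalizer P hF hm hb₀)).trans hcb)
    rw [hs, solvSet_unip P hF hm hu hne hp rfl hx₀ ha₀ hb₀ hca hcb, od, oa, ob, hCu, Set.ncard_empty,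
      Nat.zero_add, ← mul_add, show toA m - 1 + (toB m - 1) = 2 * Fintype.card F by omega,
      show Fintype.card F + 3 = (Fintype.card F - 1) + 4 by omega, mul_add]
    ring
  · rcases trichotomy P h1 with hk | ⟨k, z, hz, hk⟩ | hf
    · exact absurd hk (hc4 (Nat.coprime_two_right.2 hodd) h1 h)
    · rw [← solvSet_conj k x, hk, solvSet_torus P hF hm hp hz]
    · rcases fpf_card P hF hm hf with hc | hc <;> rw [hc] at hmem
      exacts [absurd (hcop hcA h hmem) h1, absurd (hcop hcB h hmem) h1]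
  · rcases trichotomy P h1 with hk | ⟨k, z, hz, hk⟩ | hf
    · exact absurd hk (hc4 (q_coprime hF hA2).2 h1 h)
    · exact absurd (hcop hcA (htor hk) h) h1
    · rcases fpf_card P hF hm hf with hc | hc
      · rw [solvSet_fpf P hF hm hp hf, hc]
      · rw [hc] at hmem; exact absurd (hcop (toA_coprime_toB m) h hmem) h1
  · rcases trichotomy P h1 with hk | ⟨k, z, hz, hk⟩ | hf
    · exact absurd hk (hc4 (q_coprime hF hB2).2 h1 h)
    · exact absurd (hcop hcB (htor hk) h) h1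
    · rcases fpf_card P hF hm hf with hc | hc
      · rw [hc] at hmem; exact absurd (hcop (toA_coprime_toB m) hmem h) h1
      · rw [solvSet_fpf P hF hm hp hf, hc]


/-- Let G be the Suzuki group Sz(q), q = 2^(2m+1) with 2m + 1 prime and m ≥ 1, realised inside Sp_4(F) for F the field of order q, write r = 2^(m+1) (so r² = 2q), and for x ∈ G call the solubilizer of x the set of y ∈ G such that x and y generate a solvable subgroup. Then the solubilizer of an involution has q²(4q − 3) elements; that of an element of order 4 has q²(q + 3) elements; that of a non-identity element of order dividing q − 1 has 2q²(q − 1) elements; that of a non-identity element of order dividing q + r + 1 has 4(q + r + 1) elements; and that of a non-identity element of order dividing q − r + 1 has 4(q − r + 1) elements. -/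
theorem result {F : Type*} [Field F] [Fintype F] {m : ℕ} (hm : 1 ≤ m)
    (hp : (2 * m + 1).Prime) (hF : Fintype.card F = 2 ^ (2 * m + 1)) (x : ↥(Cfsg.Lie.Sz F (2 ^ (m + 1)))) :
    (orderOf x = 2 → Nat.card {y : ↥(Cfsg.Lie.Sz F (2 ^ (m + 1))) // Group.IsSolvable ↥(Subgroup.closure ({x, y} : Set (↥(Cfsg.Lie.Sz F (2 ^ (m + 1))))))} = (2 ^ (2 * m + 1)) ^ 2 * (4 * 2 ^ (2 * m + 1) - 3)) ∧
    (orderOf x = 4 → Nat.card {y : ↥(Cfsg.Lie.Sz F (2 ^ (m + 1))) // Group.IsSolvable ↥(Subgroup.closure ({x, y} : Set (↥(Cfsg.Lie.Sz F (2 ^ (m + 1))))))} = (2 ^ (2 * m + 1)) ^ 2 * (2 ^ (2 * m + 1) + 3)) ∧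
    (x ≠ 1 → orderOf x ∣ 2 ^ (2 * m + 1) - 1 →
      Nat.card {y : ↥(Cfsg.Lie.Sz F (2 ^ (m + 1))) // Group.IsSolvable ↥(Subgroup.closure ({x, y} : Set (↥(Cfsg.Lie.Sz F (2 ^ (m + 1))))))} = 2 * (2 ^ (2 * m + 1)) ^ 2 * (2 ^ (2 * m + 1) - 1)) ∧
    (x ≠ 1 → orderOf x ∣ 2 ^ (2 * m + 1) + 2 ^ (m + 1) + 1 → Nat.card {y : ↥(Cfsg.Lie.Sz F (2 ^ (m + 1))) // Group.IsSolvable ↥(Subgroup.closure ({x, y} : Set (↥(Cfsg.Lie.Sz F (2 ^ (m + 1))))))} = 4 * (2 ^ (2 * m + 1) + 2 ^ (m + 1) + 1)) ∧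
    (x ≠ 1 → orderOf x ∣ 2 ^ (2 * m + 1) - 2 ^ (m + 1) + 1 → Nat.card {y : ↥(Cfsg.Lie.Sz F (2 ^ (m + 1))) // Group.IsSolvable ↥(Subgroup.closure ({x, y} : Set (↥(Cfsg.Lie.Sz F (2 ^ (m + 1))))))} = 4 * (2 ^ (2 * m + 1) - 2 ^ (m + 1) + 1)) := by
  obtain ⟨_, ⟨P⟩⟩ := CfsgLib.SuzukiGroup.exists_params hF
  have h := core P hF hm hp x
  rw [hF] at h
  exact h

end Cfsg.Agent.S2259
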