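import Cfsg.Statements.S2260
-- import your own Cfsg.Agent.* helpers here

set_option autoImplicit false
open Cfsg

namespace Cfsg.Agent.S2260

/-- Let F be a finite field of prime characteristic p and u an invertible d × d matrix over F with u − 1 nilpotent (a unipotent element). Then the order of u is at most p^⌈log_p d⌉; and if moreover (u − 1)^(d−1) ≠ 0 (u is a single Jordan block) then the order of u is exactly p^⌈log_p d⌉. -/
theorem result {F : Type*} [Field F] [Finite F] (p : ℕ) [Fact p.Prime] [CharP F p] (d : ℕ)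
    (u : GL (Fin d) F) (hu : IsNilpotent ((u : Matrix (Fin d) (Fin d) F) - 1)) :
    orderOf u ≤ p ^ Nat.clog p d ∧
    (((u : Matrix (Fin d) (Fin d) F) - 1) ^ (d - 1) ≠ 0 → orderOf u = p ^ Nat.clog p d) := by
  set N : Matrix (Fin d) (Fin d) F := (u : Matrix (Fin d) (Fin d) F) - 1 with hN
  have hp : p.Prime := Fact.out
  have hNd : N ^ d = 0 := by
    obtain ⟨k, hk⟩ := hu
    have h := Matrix.isNilpotent_charpoly_sub_pow_of_isNilpotent ⟨k, hk⟩
    rw [isNilpotent_iff_eq_zero, sub_eq_zero] at h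
    have := Matrix.aeval_self_charpoly N
    rw [h] at this
    simpa using this
  rcases Nat.eq_zero_or_pos d with hd | hd
  · subst hd
    have : u = 1 := Subsingleton.elim _ _
    refine ⟨by rw [this]; simp, fun h => absurd (Subsingleton.elim _ _) h⟩
  haveI : Nonempty (Fin d) := ⟨⟨0, hd⟩⟩
  haveI : CharP (Matrix (Fin d) (Fin d) F) p := inferInstance
  have key : ∀ j : ℕ, u ^ (p ^ j) = 1 ↔ N ^ (p ^ j) = 0 := fun j => by
    rw [Units.ext_iff, Units.val_pow_eq_pow_val, Units.val_one, hN,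
      sub_pow_char_pow_of_commute (p := p) (n := j) (Commute.one_right _), one_pow, sub_eq_zero]
  have hk : u ^ (p ^ Nat.clog p d) = 1 :=
    (key _).2 (pow_eq_zero_of_le (Nat.le_pow_clog hp.one_lt d) hNd)
  refine ⟨orderOf_le_of_pow_eq_one (Nat.pow_pos hp.pos) hk, fun hne => ?_⟩
  obtain ⟨j, hj, hjeq⟩ := (Nat.dvd_prime_pow hp).1 (orderOf_dvd_of_pow_eq_one hk)
  rw [hjeq]
  congr 1
  by_contra hlt
  have hjlt : p ^ j < d := (Nat.lt_clog_iff_pow_lt hp.one_lt).1 (lt_of_le_of_ne hj hlt)
  have h0 : N ^ (p ^ j) = 0 := (key j).1 (by rw [← hjeq]; exact pow_orderOf_eq_one u)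
  exact hne (pow_eq_zero_of_le (by omega) h0)

end Cfsg.Agent.S2260
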