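import Cfsg.Statements.S2261
-- import your own Cfsg.Agent.* helpers here

set_option autoImplicit false
open Cfsg

namespace Cfsg.Agent.S2261

open Polynomial in
lemma power_lines {F : Type*} [Field F] [Fintype F] {d : ℕ}
    (hd : 1 ≤ d) (g : GL (Fin d) F) :
    (Fintype.card F - 1) * orderOf (QuotientGroup.mk g : GL (Fin d) F ⧸ Subgroup.center (GL (Fin d) F))
      ≤ Fintype.card F ^ d - 1 := by
  classical
  set M : Matrix (Fin d) (Fin d) F := (g : Matrix (Fin d) (Fin d) F) with hM
  set W : Submodule F (Matrix (Fin d) (Fin d) F) :=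
    Submodule.span F (Set.range fun i : Fin d => M ^ (i : ℕ)) with hW
  have hfin : Module.finrank F W ≤ d := (finrank_range_le_card _).trans (by simp)
  have hmem : ∀ k, M ^ k ∈ W := by
    intro k
    rw [Matrix.pow_eq_aeval_mod_charpoly, Polynomial.aeval_eq_sum_range]
    refine Submodule.sum_mem _ fun i _ => ?_
    by_cases hi : i < d
    · exact Submodule.smul_mem _ _ (Submodule.subset_span ⟨⟨i, hi⟩, rfl⟩)
    · haveI : Nonempty (Fin d) := ⟨⟨0, hd⟩⟩
      have hdeg : ((X : F[X]) ^ k %ₘ M.charpoly).natDegree < d := by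
        have := natDegree_modByMonic_lt ((X : F[X]) ^ k) M.charpoly_monic (fun h => by
          have := congrArg natDegree h
          rw [M.charpoly_natDegree_eq_dim] at this
          simp at this
          omega)
        rwa [M.charpoly_natDegree_eq_dim, Fintype.card_fin] at this
      rw [coeff_eq_zero_of_natDegree_lt (by omega)]
      simp

  haveI : Nonempty (Fin d) := ⟨⟨0, hd⟩⟩
  have hne : ∀ k, (⟨M ^ k, hmem k⟩ : W) ≠ 0 := by
    intro k h
    have h' : M ^ k = 0 := congrArg Subtype.val h
    have hu : IsUnit (M ^ k) := (g.isUnit).pow k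
    rw [h'] at hu
    exact not_isUnit_zero hu
  set n := orderOf (QuotientGroup.mk g : GL (Fin d) F ⧸ Subgroup.center (GL (Fin d) F))
  let f : Fin n → Projectivization F W := fun k => Projectivization.mk F ⟨M ^ (k : ℕ), hmem k⟩ (hne k)
  have hf : Function.Injective f := by
    intro i j hij
    obtain ⟨c, hc⟩ := (Projectivization.mk_eq_mk_iff F _ _ (hne i) (hne j)).1 hij
    have hc' : (c : F) • M ^ (j : ℕ) = M ^ (i : ℕ) := congrArg Subtype.val hc
    have hgc : g ^ (i : ℕ) = g ^ (j : ℕ) * Matrix.GeneralLinearGroup.scalar (Fin d) c := by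
      ext1
      rw [Units.val_pow_eq_pow_val, Units.val_mul, Units.val_pow_eq_pow_val, ← hM, ← hc']
      simp [Matrix.GeneralLinearGroup.scalar, Matrix.smul_eq_mul_diagonal]
    have heq : (QuotientGroup.mk g : GL (Fin d) F ⧸ Subgroup.center (GL (Fin d) F)) ^ (i : ℕ)
        = (QuotientGroup.mk g) ^ (j : ℕ) := by
      rw [← QuotientGroup.mk_pow, ← QuotientGroup.mk_pow, hgc]
      apply QuotientGroup.mk_mul_of_mem
      rw [Matrix.GeneralLinearGroup.center_eq_range_scalar]
      exact ⟨c, rfl⟩
    exact Fin.ext (pow_injOn_Iio_orderOf i.isLt j.isLt heq)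
  have hn : n ≤ Nat.card (Projectivization F W) := by
    simpa using Nat.card_le_card_of_injective f hf
  have hq : Nat.card F = Fintype.card F := Nat.card_eq_fintype_card
  have hcard := Projectivization.card' F W
  have hWcard : Nat.card W ≤ Fintype.card F ^ d := by
    rw [Module.natCard_eq_pow_finrank (K := F), hq]
    exact Nat.pow_le_pow_right Fintype.card_pos hfin
  calc (Fintype.card F - 1) * n ≤ Nat.card (Projectivization F W) * (Nat.card F - 1) := by
        rw [hq, mul_comm]; exact Nat.mul_le_mul_right _ hn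
    _ ≤ Fintype.card F ^ d - 1 := by omega

/-- Let F be a finite field with q elements and d ≥ 1. Then every element of PGL_d(F) = GL_d(F)/Z has order at most (q^d − 1)/(q − 1), and some element (the image of a Singer cycle) has exactly this order. -/
theorem result {F : Type*} [Field F] [Fintype F] (d : ℕ) (hd : 1 ≤ d) :
    (∀ g : (GL (Fin d) F ⧸ Subgroup.center (GL (Fin d) F)), (Fintype.card F - 1) * orderOf g ≤ Fintype.card F ^ d - 1) ∧
    (∃ g : (GL (Fin d) F ⧸ Subgroup.center (GL (Fin d) F)), (Fintype.card F - 1) * orderOf g = Fintype.card F ^ d - 1) := by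
  classical
  have hub : ∀ g : (GL (Fin d) F ⧸ Subgroup.center (GL (Fin d) F)),
      (Fintype.card F - 1) * orderOf g ≤ Fintype.card F ^ d - 1 := by
    intro g
    obtain ⟨g, rfl⟩ := QuotientGroup.mk_surjective g
    exact power_lines hd g
  refine ⟨hub, ?_⟩
  obtain ⟨p, hpc⟩ := CharP.exists F
  haveI : Fact p.Prime := ⟨CharP.char_is_prime F p⟩
  haveI : NeZero d := ⟨by omega⟩
  let K := FiniteField.Extension F p d
  let b : Module.Basis (Fin d) F K :=
    Module.finBasisOfFinrankEq F K (FiniteField.finrank_extension F p d)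
  obtain ⟨z, hz⟩ := IsCyclic.exists_generator (α := Kˣ)
  let g : GL (Fin d) F := Units.map (Algebra.leftMulMatrix b).toRingHom.toMonoidHom z
  refine ⟨QuotientGroup.mk g, le_antisymm (hub _) ?_⟩
  set n := orderOf (QuotientGroup.mk g : GL (Fin d) F ⧸ Subgroup.center (GL (Fin d) F))
  have hnpos : 0 < n := orderOf_pos _
  have hgn : g ^ n ∈ Subgroup.center (GL (Fin d) F) := by
    rw [← QuotientGroup.eq_one_iff, QuotientGroup.mk_pow]
    exact pow_orderOf_eq_one _
  rw [Matrix.GeneralLinearGroup.center_eq_range_scalar] at hgn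
  obtain ⟨c, hc⟩ := hgn
  have hzc : (z : K) ^ n = algebraMap F K (c : F) := by
    apply Algebra.leftMulMatrix_injective b
    rw [AlgHom.commutes, map_pow]
    have h2 := congrArg (fun x : GL (Fin d) F => (x : Matrix (Fin d) (Fin d) F)) hc
    simpa [g, Matrix.GeneralLinearGroup.scalar, Matrix.scalar, Matrix.algebraMap_eq_diagonal] using h2.symm
  have hz1 : z ^ (n * (Fintype.card F - 1)) = 1 := by
    ext
    rw [Units.val_pow_eq_pow_val, pow_mul, hzc, ← map_pow, FiniteField.pow_card_sub_one_eq_one _ c.ne_zero,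
      map_one, Units.val_one]
  have hdvd := orderOf_dvd_of_pow_eq_one hz1
  haveI : Fintype K := Fintype.ofFinite K
  rw [orderOf_eq_card_of_forall_mem_zpowers hz, Nat.card_units, FiniteField.natCard_extension,
    Nat.card_eq_fintype_card] at hdvd
  have hpos : 0 < n * (Fintype.card F - 1) := Nat.mul_pos hnpos (by have := Fintype.one_lt_card (α := F); omega)
  rw [mul_comm]
  exact Nat.le_of_dvd hpos hdvd

end Cfsg.Agent.S2261
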