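import Cfsg.Statements.S2262
import Cfsg.Agent.Lib.AutOrder51.Bound
import Cfsg.Agent.Lib.AutPSL.OutPSL
import Cfsg.Agent.Lib.SpecLin.FieldEmbed

set_option autoImplicit false
open Cfsg

namespace Cfsg.Agent.S2262

open CfsgLib.AutPSL in
theorem upper {F : Type*} [Field F] [Fintype F] {d : ℕ} (hd : 2 ≤ d)
    (h24 : ¬ (d = 2 ∧ Fintype.card F = 4)) (h32 : ¬ (d = 3 ∧ Fintype.card F = 2))
    (φ : MulAut (Matrix.ProjectiveSpecialLinearGroup (Fin d) F)) :
    (Fintype.card F - 1) * orderOf φ ≤ Fintype.card F ^ d - 1 := by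
  obtain ⟨g, σ, h | h⟩ := aut_psl_structure hd φ
  · rw [h]; exact CfsgLib.AutOrder51.orderOf_semilinear_le hd h24 g σ
  · rcases Nat.lt_or_ge d 3 with h3 | h3
    · obtain rfl : d = 2 := by omega
      obtain ⟨w, hw⟩ := iotaAut_two (F := F)
      have h' : φ = conjAut (g * glField σ w) * fieldAut σ := by
        rw [h, ← hw, map_mul]
        simp only [mul_assoc, fieldAut_mul_conjAut]
      rw [h']; exact CfsgLib.AutOrder51.orderOf_semilinear_le hd h24 _ σ
    · rw [h]; exact CfsgLib.AutOrder51.orderOf_graph_le h3 h32 g σ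

open CfsgLib.AutPSL in
theorem lower {F : Type*} [Field F] [Fintype F] {d : ℕ} (hd : 2 ≤ d) :
    ∃ φ : MulAut (Matrix.ProjectiveSpecialLinearGroup (Fin d) F),
      Fintype.card F ^ d - 1 ≤ (Fintype.card F - 1) * orderOf φ := by
  obtain ⟨p, hp⟩ := CharP.exists F
  have : Fact p.Prime := ⟨CharP.char_is_prime F p⟩
  have : NeZero d := ⟨by omega⟩
  let K := FiniteField.Extension F p d
  have : Finite K := Module.finite_of_finite F
  obtain ⟨f, hf, -⟩ :=
    CfsgLib.SpecLin.exists_unitsHom_of_extension F K (FiniteField.finrank_extension F p d)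
  obtain ⟨z, hz⟩ := IsCyclic.exists_generator (α := Kˣ)
  let B : GL (Fin d) F := f.toHomUnits z
  have hB : orderOf B = Fintype.card F ^ d - 1 := by
    rw [← orderOf_units, show (B : Matrix (Fin d) (Fin d) F) = f z from rfl, orderOf_injective f hf,
      orderOf_eq_card_of_forall_mem_zpowers hz, Nat.card_units, FiniteField.natCard_extension,
      Nat.card_eq_fintype_card]
  refine ⟨conjAut B, Nat.le_of_dvd (Nat.mul_pos ?_ (orderOf_pos _)) ?_⟩
  · have := Fintype.one_lt_card (α := F); omega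
  rw [← hB]
  apply orderOf_dvd_of_pow_eq_one
  have h1 : conjAut (B ^ orderOf (conjAut B : MulAut (PSLG d F))) = 1 := by
    rw [map_pow, pow_orderOf_eq_one]
  obtain ⟨u, hu⟩ := (conjAut_eq_one_iff hd).1 h1
  rw [mul_comm, pow_mul, hu, ← map_pow, show u ^ (Fintype.card F - 1) = 1 from ?_, map_one]
  exact Units.ext (by rw [Units.val_pow_eq_pow_val]; exact FiniteField.pow_card_sub_one_eq_one _ u.ne_zero)


/-- Let F be a finite field with q elements and d ≥ 2, with q ≥ 4 when d = 2, and (d, q) ∉ {(2, 4), (3, 2)}. Then every automorphism of the simple group PSL_d(F) has order at most (q^d − 1)/(q − 1) as an element of the automorphism group, and some automorphism has exactly this order. -/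
theorem result {F : Type*} [Field F] [Fintype F] (d : ℕ) (hd : 2 ≤ d)
    (h2 : d = 2 → 4 ≤ Fintype.card F) (h24 : ¬ (d = 2 ∧ Fintype.card F = 4)) (h32 : ¬ (d = 3 ∧ Fintype.card F = 2)) :
    (∀ φ : MulAut (Matrix.ProjectiveSpecialLinearGroup (Fin d) F),
      (Fintype.card F - 1) * orderOf φ ≤ Fintype.card F ^ d - 1) ∧
    (∃ φ : MulAut (Matrix.ProjectiveSpecialLinearGroup (Fin d) F),
      (Fintype.card F - 1) * orderOf φ = Fintype.card F ^ d - 1) := by
  obtain ⟨φ, hφ⟩ := lower (F := F) hd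
  exact ⟨upper hd h24 h32, φ, le_antisymm (upper hd h24 h32 φ) hφ⟩

end Cfsg.Agent.S2262
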