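import Cfsg.Statements.S2263
import Cfsg.Agent.Lib.KnownSimple51.UnitaryOrder.Witness
import Cfsg.Agent.Lib.KnownSimple51.UnitaryOrder.Arith

set_option autoImplicit false
open Cfsg

namespace Cfsg.Agent.S2263

/-- Let q = p^f with p prime and f ≥ 1, F a field with q² elements, d ≥ 3 with (d, q) ≠ (3, 2), and PGU_d(q) the general unitary group of the standard Hermitian form modulo its centre. Then the largest order of an element of PGU_d(q) is: q^(d−1) − 1 if d is odd and f ≥ 2; (p^(d−2) + 1)p if d is odd and f = 1; q^(d−1) + 1 if d is even and q > 2; 4(2^(d−3) + 1) if d is even and q = 2. -/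
theorem result {F : Type*} [Field F] [Fintype F] (p f d : ℕ) (hp : p.Prime) (hf : 1 ≤ f) (q : ℕ) (hq : q = p ^ f)
    (hF : Fintype.card F = q ^ 2) (hd : 3 ≤ d) (h32 : ¬ (d = 3 ∧ q = 2)) :
    (Odd d → 2 ≤ f → (∀ g : (↥(Cfsg.GU d F q) ⧸ Subgroup.center ↥(Cfsg.GU d F q)), orderOf g ≤ q ^ (d - 1) - 1) ∧ ∃ g : (↥(Cfsg.GU d F q) ⧸ Subgroup.center ↥(Cfsg.GU d F q)), orderOf g = q ^ (d - 1) - 1) ∧
    (Odd d → f = 1 → (∀ g : (↥(Cfsg.GU d F q) ⧸ Subgroup.center ↥(Cfsg.GU d F q)), orderOf g ≤ (p ^ (d - 2) + 1) * p) ∧ ∃ g : (↥(Cfsg.GU d F q) ⧸ Subgroup.center ↥(Cfsg.GU d F q)), orderOf g = (p ^ (d - 2) + 1) * p) ∧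
    (Even d → 2 < q → (∀ g : (↥(Cfsg.GU d F q) ⧸ Subgroup.center ↥(Cfsg.GU d F q)), orderOf g ≤ q ^ (d - 1) + 1) ∧ ∃ g : (↥(Cfsg.GU d F q) ⧸ Subgroup.center ↥(Cfsg.GU d F q)), orderOf g = q ^ (d - 1) + 1) ∧
    (Even d → q = 2 → (∀ g : (↥(Cfsg.GU d F q) ⧸ Subgroup.center ↥(Cfsg.GU d F q)), orderOf g ≤ 4 * (2 ^ (d - 3) + 1)) ∧ ∃ g : (↥(Cfsg.GU d F q) ⧸ Subgroup.center ↥(Cfsg.GU d F q)), orderOf g = 4 * (2 ^ (d - 3) + 1)) := by
  have : Fact p.Prime := ⟨hp⟩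
  have hcard : Fintype.card F = p ^ (f * 2) := by rw [hF, hq, pow_mul]
  have : CharP F p := charP_of_card_eq_prime_pow hcard
  let Q := ↥(Cfsg.GU d F q) ⧸ Subgroup.center ↥(Cfsg.GU d F q)
  have hub : ∀ g : Q, ∃ S v T, 1 ≤ S ∧ S ≤ d ∧ (1 ≤ v → S + p ^ (v - 1) ≤ d) ∧ (S = 1 → T = 1) ∧
      (2 ≤ S → T ≤ q ^ (S - 1) + 1) ∧ (3 ≤ S → Odd S → T + 1 ≤ q ^ (S - 1)) ∧ orderOf g ≤ T * p ^ v := by
    intro g
    induction g using QuotientGroup.induction_on with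
    | _ g => exact CfsgLib.UnitaryOrder51.exists_bound hF p (by omega) g
  have hq2 : 2 ≤ q := CfsgLib.UnitaryEmbed.q_gt_one hF
  have : Finite Q := inferInstance
  have main : ∀ (g : Q) (B : ℕ), B ∣ orderOf g → (∀ g' : Q, orderOf g' ≤ B) →
      (∀ g' : Q, orderOf g' ≤ B) ∧ ∃ g : Q, orderOf g = B := fun g B h hle =>
    ⟨hle, g, le_antisymm (hle g) (Nat.le_of_dvd (orderOf_pos g) h)⟩
  have bnd : ∀ g : Q,
      (Odd d → 2 ≤ f → orderOf g ≤ q ^ (d - 1) - 1) ∧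
      (Odd d → f = 1 → orderOf g ≤ (p ^ (d - 2) + 1) * p) ∧
      (Even d → 2 < q → orderOf g ≤ q ^ (d - 1) + 1) ∧
      (Even d → q = 2 → orderOf g ≤ 4 * (2 ^ (d - 3) + 1)) := fun g => by
    obtain ⟨S, v, T, h1, h2, h3, h4, h5, h6, h7⟩ := hub g
    obtain ⟨b1, b2, b3, b4⟩ := CfsgLib.UnitaryOrder51.bounds hp hf hq hd h1 h2 h3 h4 h5 h6
    exact ⟨fun a b => h7.trans (b1 a b), fun a b => h7.trans (b2 a b), fun a b => h7.trans (b3 a b),
      fun a b => h7.trans (b4 a b)⟩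
  refine ⟨fun hodd hf2 => ?_, fun hodd hf1 => ?_, fun hev hq3 => ?_, fun hev hq2' => ?_⟩
  · obtain ⟨g, hg⟩ := CfsgLib.UnitaryOrder51.exists_witness (n := d) hF p (D := d - 1) (k := 1) (c := 0)
      (by omega) le_rfl (by omega) (Or.inl rfl)
    rw [pow_zero, mul_one, CfsgLib.UnitaryOrder51.torusM_eq_of_even (by omega)
      (by obtain ⟨k, rfl⟩ := hodd; exact ⟨k, by omega⟩)] at hg
    exact main g _ hg fun g' => (bnd g').1 hodd hf2
  · obtain ⟨g, hg⟩ := CfsgLib.UnitaryOrder51.exists_witness (n := d) hF p (D := d - 2) (k := 2) (c := 1)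
      (by omega) (by omega) (by omega) (Or.inr (by simp))
    rw [pow_one, CfsgLib.UnitaryOrder51.torusM_eq_of_odd
      (by obtain ⟨k, rfl⟩ := hodd; exact ⟨k - 1, by omega⟩)] at hg
    obtain rfl : q = p := by rw [hq, hf1, pow_one]
    exact main g _ hg fun g' => (bnd g').2.1 hodd hf1
  · obtain ⟨g, hg⟩ := CfsgLib.UnitaryOrder51.exists_witness (n := d) hF p (D := d - 1) (k := 1) (c := 0)
      (by omega) le_rfl (by omega) (Or.inl rfl)
    rw [pow_zero, mul_one, CfsgLib.UnitaryOrder51.torusM_eq_of_odd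
      (by obtain ⟨k, rfl⟩ := hev; exact ⟨k - 1, by omega⟩)] at hg
    exact main g _ hg fun g' => (bnd g').2.2.1 hev hq3
  · obtain rfl : p = 2 := by
      have hpq : p ≤ q := hq ▸ Nat.le_self_pow (by omega) p
      have := hp.two_le
      omega
    subst hq2'
    have hd4 : 4 ≤ d := by obtain ⟨k, rfl⟩ := hev; omega
    obtain ⟨g, hg⟩ := CfsgLib.UnitaryOrder51.exists_witness (n := d) hF 2 (D := d - 3) (k := 3) (c := 2)
      (by omega) (by omega) (by omega) (Or.inr (by norm_num))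
    rw [CfsgLib.UnitaryOrder51.torusM_eq_of_odd
      (by obtain ⟨k, rfl⟩ := hev; exact ⟨k - 2, by omega⟩), mul_comm] at hg
    exact main g _ hg fun g' => (bnd g').2.2.2 hev rfl

end Cfsg.Agent.S2263
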