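import Cfsg.Statements.S2264
import Cfsg.Agent.Lib.ReciprocalOrder.Matrix
import Cfsg.Agent.Lib.SpecSp.Blocks

set_option autoImplicit false
open Cfsg
open scoped MatrixGroups Matrix Pointwise

namespace Cfsg.Agent.S2264

/-- Let F be a finite field with q elements and m ≥ 2. Then every element g of PSp_2m(F) satisfies (q − 1)·|g| ≤ q^(m+1), i.e. has order at most q^(m+1)/(q − 1). -/
theorem result {F : Type*} [Field F] [Fintype F] (m : ℕ) (hm : 2 ≤ m) (g : Cfsg.PSp m F) :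
    (Fintype.card F - 1) * orderOf g ≤ Fintype.card F ^ (m + 1) := by
  obtain ⟨X, rfl⟩ := QuotientGroup.mk_surjective g
  obtain ⟨k, hk, ν, hν, hpow, hle⟩ := CfsgLib.ReciprocalOrder.exists_sign_power
    (A := (X : Matrix (Fin m ⊕ Fin m) (Fin m ⊕ Fin m) F)) (J := Matrix.J (Fin m) F) hm
    (Or.inl (by simp [two_mul])) (Matrix.isUnit_det_J _ _) (SymplecticGroup.mem_iff'.1 X.2)
  refine le_trans (Nat.mul_le_mul_left _ (Nat.le_of_dvd hk ?_)) hle
  exact CfsgLib.SpecSp.orderOf_mk_dvd_of_pow_eq_sign hν hpow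

end Cfsg.Agent.S2264
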