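import Cfsg.Statements.S2265
import Cfsg.Agent.Lib.ReciprocalOrder.Matrix
import Cfsg.Agent.Lib.Orth.NegOne
import Cfsg.Agent.Lib.POmega.Forms

set_option autoImplicit false
open Cfsg
open scoped MatrixGroups Matrix Pointwise

namespace Cfsg.Agent.S2265

theorem key {F : Type*} [Field F] [Fintype F] {ι : Type} [Fintype ι] [DecidableEq ι] {m : ℕ}
    {Q : QuadraticForm F (ι → F)} (hQ : Q.polarBilin.Nondegenerate) (hm : 2 ≤ m)
    (hι : Fintype.card ι = 2 * m ∨ (Fintype.card ι = 2 * m + 1 ∧ 3 ≤ m ∧ (2 : F) ≠ 0))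
    {f : (ι → F) → F} (hf : ⇑Q = f) (g : Cfsg.POmega F f) :
    (Fintype.card F - 1) * orderOf g ≤ Fintype.card F ^ (m + 1) := by
  subst hf
  obtain ⟨X, rfl⟩ := QuotientGroup.mk_surjective g
  set A : Matrix ι ι F := ((X : Cfsg.isometryGroup F Q) : GL ι F).val with hA
  have hiso : ∀ v, Q (A *ᵥ v) = Q v := fun v => (X : Cfsg.isometryGroup F Q).2 v v
  set B := LinearMap.toMatrix₂' F Q.polarBilin
  have hB : Aᵀ * B * A = B := by
    have hpol : Q.polarBilin.compl₁₂ (Matrix.toLin' A) (Matrix.toLin' A) = Q.polarBilin := by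
      refine LinearMap.ext₂ fun x y => ?_
      simp [QuadraticMap.polar, ← Matrix.mulVec_add, hiso]
    conv_rhs => rw [show B = LinearMap.toMatrix₂' F Q.polarBilin from rfl, ← hpol]
    rw [LinearMap.toMatrix₂'_compl₁₂, LinearMap.toMatrix'_toLin']
  have hB0 : IsUnit B.det := isUnit_iff_ne_zero.2
    (Matrix.nondegenerate_iff_det_ne_zero.1 (LinearMap.nondegenerate_toMatrix₂'_iff.2 hQ))
  obtain ⟨k, hk, ν, -, hpow, hle⟩ := CfsgLib.ReciprocalOrder.exists_sign_power hm hι hB0 hB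
  refine le_trans (Nat.mul_le_mul_left _ (Nat.le_of_dvd hk ?_)) hle
  apply orderOf_dvd_of_pow_eq_one
  rw [← QuotientGroup.mk_pow, QuotientGroup.eq_one_iff, Subgroup.mem_center_iff]
  intro Y
  apply Subtype.ext
  apply Subtype.ext
  apply Units.ext
  simp only [Subgroup.coe_mul, SubmonoidClass.coe_pow, Units.val_mul, Units.val_pow_eq_pow_val, ← hA,
    hpow, mul_smul_comm, smul_mul_assoc, mul_one, one_mul]


/-- Let F be a finite field with q elements. Every element g of PΩ_(2m+1)(F) (m ≥ 3, q odd), of PΩ⁺_2m(F) (m ≥ 4), or of PΩ⁻_2m(F) (m ≥ 4, the form having an anisotropic binary part) satisfies (q − 1)·|g| ≤ q^(m+1), i.e. has order at most q^(m+1)/(q − 1). -/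
theorem result {F : Type*} [Field F] [Fintype F] (m : ℕ) :
    (3 ≤ m → Odd (Fintype.card F) → ∀ g : Cfsg.POmega F (Cfsg.quadFormOdd m F),
      (Fintype.card F - 1) * orderOf g ≤ Fintype.card F ^ (m + 1)) ∧
    (4 ≤ m → ∀ g : Cfsg.POmega F (Cfsg.quadFormPlus m F),
      (Fintype.card F - 1) * orderOf g ≤ Fintype.card F ^ (m + 1)) ∧
    (4 ≤ m → ∀ a b : F, (∀ z₁ z₂ : F, z₁ ^ 2 + a * z₁ * z₂ + b * z₂ ^ 2 = 0 → z₁ = 0 ∧ z₂ = 0) →
      ∀ g : Cfsg.POmega F (Cfsg.quadFormMinus (m - 1) F a b),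
      (Fintype.card F - 1) * orderOf g ≤ Fintype.card F ^ (m + 1)) := by
  refine ⟨fun hm hodd g => ?_, fun hm g => ?_, fun hm a b hab g => ?_⟩
  · have h2 : (2 : F) ≠ 0 := Ring.two_ne_zero fun h => by
      have := (FiniteField.even_card_of_char_two h)
      exact Nat.not_even_iff_odd.2 hodd (Nat.even_iff.2 this)
    exact key (CfsgLib.POmega.oddQ_nondegenerate h2 m) (by omega)
      (Or.inr ⟨by simp; omega, hm, h2⟩) (CfsgLib.POmega.oddQ_coe m) g
  · exact key (CfsgLib.Orth.plusQ_nondegenerate m) (by omega) (Or.inl (by simp [two_mul]))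
      (CfsgLib.Orth.plusQ_coe m) g
  · exact key (CfsgLib.POmega.minusQ_nondegenerate_any hab) (by omega)
      (Or.inl (by simp; omega)) (CfsgLib.Orth.minusQ_coe (m - 1) a b) g

end Cfsg.Agent.S2265
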