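import Cfsg.Statements.S2268


set_option autoImplicit false
open Cfsg

namespace Cfsg.Agent.S2268

/-- Let G be a finite group with an abelian Sylow p-subgroup P and let Q ≤ P. Then N_G(Q) = (N_G(Q) ∩ N_G(P))·C_G(Q), so that N_G(Q)/C_G(Q) is a homomorphic image of the subgroup (N_G(Q) ∩ N_G(P))/C_G(P) of N_G(P)/C_G(P); in particular the order of N_G(Q)/C_G(Q) divides the order of N_G(P)/C_G(P). -/
theorem result {G : Type*} [Group G] [Finite G] {p : ℕ} [Fact p.Prime]
    (P : Sylow p G) (hP : IsMulCommutative (P : Subgroup G)) (Q : Subgroup G) (hQ : Q ≤ (P : Subgroup G)) :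
    Subgroup.normalizer (Q : Set G) =
      (Subgroup.normalizer (Q : Set G) ⊓ Subgroup.normalizer ((P : Subgroup G) : Set G)) ⊔ Subgroup.centralizer (Q : Set G) ∧
    ((Subgroup.centralizer (Q : Set G)).subgroupOf (Subgroup.normalizer (Q : Set G))).index ∣ ((Subgroup.centralizer ((P : Subgroup G) : Set G)).subgroupOf (Subgroup.normalizer ((P : Subgroup G) : Set G))).index := by
  set N := Subgroup.normalizer (Q : Set G)
  set C := Subgroup.centralizer (Q : Set G)
  set NP := Subgroup.normalizer ((P : Subgroup G) : Set G)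
  set CP := Subgroup.centralizer ((P : Subgroup G) : Set G)
  have hCN : C ≤ N := Subgroup.centralizer_le_normalizer _
  have hPC : (P : Subgroup G) ≤ C := by
    intro x hx
    exact Subgroup.mem_centralizer_iff.2 fun q hq => setLike_mul_comm (S := Subgroup G) (hQ hq) hx
  have hPN : (P : Subgroup G) ≤ N := hPC.trans hCN
  haveI hn : (C.subgroupOf N).Normal := inferInstance
  have hfr : Subgroup.normalizer ((P.subtype hPN : Sylow p N) : Set N) ⊔ C.subgroupOf N = ⊤ :=
    Sylow.normalizer_sup_eq_top' (P.subtype hPN) fun x hx => hPC hx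
  have hfr' : (NP ⊓ N).subgroupOf N ⊔ C.subgroupOf N = ⊤ := by
    rw [← hfr, Subgroup.inf_subgroupOf_right]
    congr 1
    exact Subgroup.subgroupOf_normalizer_eq hPN
  have e1 : N = (N ⊓ NP) ⊔ C := by
    refine le_antisymm ?_ (sup_le inf_le_left hCN)
    have := congrArg (Subgroup.map N.subtype) hfr'
    rw [Subgroup.map_sup, Subgroup.subgroupOf_map_subtype, Subgroup.subgroupOf_map_subtype,
      ← MonoidHom.range_eq_map, Subgroup.range_subtype] at this
    conv_lhs => rw [← this]
    exact sup_le_sup (inf_le_left.trans (le_of_eq (inf_comm ..))) inf_le_left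
  refine ⟨e1, ?_⟩
  have h1 : C.relIndex N = C.relIndex (NP ⊓ N) := by
    rw [← Subgroup.relIndex_subgroupOf (H := C) (le_refl N),
      ← Subgroup.relIndex_subgroupOf (H := C) (inf_le_right : NP ⊓ N ≤ N), Subgroup.subgroupOf_self,
      ← hfr', Subgroup.relIndex_sup_right]
  change C.relIndex N ∣ CP.relIndex NP
  rw [h1]
  have hCPC : CP ≤ C := Subgroup.centralizer_le hQ
  refine (Subgroup.relIndex_dvd_of_le_left _ hCPC).trans ?_
  rw [← Subgroup.relIndex_mul_relIndex CP (NP ⊓ N) NP
    (le_inf (Subgroup.centralizer_le_normalizer _) (hCPC.trans hCN)) inf_le_left]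
  exact Dvd.intro _ rfl

end Cfsg.Agent.S2268
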