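import Cfsg.Statements.S2269
import Cfsg.Agent.Lib.KnownSimple.BurnsideAutomizer

set_option autoImplicit false
open Cfsg

namespace Cfsg.Agent.S2269

open Equiv

theorem exists_real {p n : ℕ} (hp : p.Prime) (h : p + 2 ≤ n) :
    ∃ σ : alternatingGroup (Fin n), (orderOf σ = p ∧ IsConj σ σ⁻¹) ∨ p = 2 := by
  rcases eq_or_ne p 2 with rfl | hp2
  · exact ⟨1, Or.inr rfl⟩
  haveI : NeZero p := ⟨hp.ne_zero⟩
  let σ₀ : Perm (Fin n) :=
    (finRotate p).viaFintypeEmbedding (Fin.castLEEmb (show p ≤ n by omega))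
  have hs : Equiv.Perm.sign σ₀ = 1 := by
    rw [Perm.viaFintypeEmbedding_sign]
    obtain ⟨m, rfl⟩ : ∃ m, p = m + 1 := ⟨p - 1, by have := hp.pos; omega⟩
    rw [sign_finRotate]
    have hodd := hp.odd_of_ne_two hp2
    have : Even m := by
      rcases Nat.even_or_odd m with hm | hm
      · exact hm
      · exact absurd hodd (Nat.not_odd_iff_even.2 hm.add_one)
    simp [this.neg_one_pow]
  have hne : ∀ i : Fin n, p ≤ i.val → σ₀ i = i := by
    intro i hi
    apply Perm.viaFintypeEmbedding_apply_notMem_range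
    rintro ⟨j, rfl⟩
    have := j.isLt
    simp at hi
    omega
  have hord : orderOf σ₀ = p := by
    have hinj : Function.Injective
        (Perm.extendDomainHom ((Fin.castLEEmb (show p ≤ n by omega)).toEquivRange)) :=
      Perm.extendDomainHom_injective _
    have h1 : orderOf σ₀ = orderOf (finRotate p) := orderOf_injective _ hinj _
    rw [h1]
    have hcyc : (finRotate p).IsCycle := isCycle_finRotate_of_le hp.two_le
    rw [hcyc.orderOf, support_finRotate_of_le hp.two_le, Finset.card_univ, Fintype.card_fin]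
  refine ⟨⟨σ₀, hs⟩, Or.inl ⟨by rw [← hord]; exact (Subgroup.orderOf_coe (H := alternatingGroup (Fin n)) ⟨σ₀, hs⟩).symm, ?_⟩⟩
  obtain ⟨τ, hτ⟩ := isConj_iff.1 (Perm.isConj_of_cycleType_eq (Perm.cycleType_inv σ₀).symm)
  rcases Int.units_eq_one_or (Perm.sign τ) with ht | ht
  · exact isConj_iff.2 ⟨⟨τ, ht⟩, Subtype.ext hτ⟩
  · let a : Fin n := ⟨p, by omega⟩
    let b : Fin n := ⟨p + 1, by omega⟩
    have hab : a ≠ b := Fin.ne_of_val_ne (by simp [a, b])
    have hsw : Perm.sign (τ * Equiv.swap a b) = 1 := by simp [ht, Perm.sign_swap hab]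
    refine isConj_iff.2 ⟨⟨τ * Equiv.swap a b, hsw⟩, Subtype.ext ?_⟩
    change τ * Equiv.swap a b * σ₀ * (τ * Equiv.swap a b)⁻¹ = σ₀⁻¹
    have hcomm : Equiv.swap a b * σ₀ = σ₀ * Equiv.swap a b := by
      rw [Equiv.mul_swap_eq_swap_mul σ₀ a b, hne a (by simp [a]), hne b (by simp [b])]
    rw [← hτ, mul_assoc τ, hcomm]
    simp [mul_assoc]

theorem cyclic_of_lt {p n : ℕ} [Fact p.Prime] (h : n < 2 * p)
    (P : Sylow p (alternatingGroup (Fin n))) :
    IsCyclic (P : Subgroup (alternatingGroup (Fin n))) := by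
  have hp := (Fact.out : p.Prime)
  have hfac : ∀ m, m < 2 * p → ¬ p ^ 2 ∣ m.factorial := by
    intro m hm hd
    have hh := (Nat.Prime.pow_dvd_iff_le_factorization hp (Nat.factorial_ne_zero m)).1 hd
    rw [Nat.factorization_def _ hp, padicValNat_factorial (b := 2) ?_] at hh
    · rw [Nat.Ico_succ_singleton, Finset.sum_singleton, pow_one] at hh
      have : m / p < 2 := (Nat.div_lt_iff_lt_mul hp.pos).2 (by linarith)
      omega
    · have := hp.two_le
      exact Nat.log_lt_of_lt_pow' (by norm_num) (by nlinarith)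
  have hdvd : Nat.card (P : Subgroup (alternatingGroup (Fin n))) ∣ p := by
    obtain ⟨k, hk⟩ := IsPGroup.iff_card.1 P.isPGroup'
    rw [hk]
    have h1 : p ^ k ∣ n.factorial := by
      have h2 := (Subgroup.card_subgroup_dvd_card (P : Subgroup (alternatingGroup (Fin n)))).trans
        (Subgroup.card_subgroup_dvd_card (alternatingGroup (Fin n)))
      rwa [hk, Nat.card_perm, Nat.card_eq_fintype_card, Fintype.card_fin] at h2
    rcases k with _ | _ | k
    · simp
    · simp
    · exact absurd ((pow_dvd_pow p (show 2 ≤ k + 2 by omega)).trans h1) (hfac n h)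
  exact isCyclic_of_card_dvd_prime hdvd

def d8List : List (Perm (Fin 6)) :=
  let a : Perm (Fin 6) := Equiv.swap 0 3 * Equiv.swap 0 2 * Equiv.swap 0 1 * Equiv.swap 4 5
  let b : Perm (Fin 6) := Equiv.swap 0 2 * Equiv.swap 4 5
  [1, a, a * a, a * a * a, b, a * b, a * a * b, a * a * a * b]

theorem d8_bool : (d8List.all fun x => d8List.all fun y => decide (x * y ∈ d8List)) = true ∧
    (d8List.all fun x => decide (x ^ 8 = 1 ∧ x⁻¹ ∈ d8List ∧ Perm.sign x = 1)) = true ∧
    (d8List.any fun x => d8List.any fun y => decide (x * y ≠ y * x)) = true := by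
  refine ⟨?_, ?_, ?_⟩ <;> decide +kernel

theorem d8_spec : (∀ x ∈ d8List, ∀ y ∈ d8List, x * y ∈ d8List) ∧ (∀ x ∈ d8List, x ^ 8 = 1) ∧
    (∀ x ∈ d8List, x⁻¹ ∈ d8List) ∧
    (∀ x ∈ d8List, Perm.sign x = 1) ∧ ∃ x ∈ d8List, ∃ y ∈ d8List, x * y ≠ y * x := by
  simpa [List.all_eq_true, List.any_eq_true, forall_and, and_assoc] using d8_bool

theorem not_comm_six {n : ℕ} (hn : 6 ≤ n) (P : Sylow 2 (alternatingGroup (Fin n))) :
    ¬ IsMulCommutative (P : Subgroup (alternatingGroup (Fin n))) := by
  intro hP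
  haveI : Fact (Nat.Prime 2) := ⟨Nat.prime_two⟩
  let D : Subgroup (Perm (Fin 6)) :=
    { carrier := {x | x ∈ d8List}
      mul_mem' := fun {x y} hx hy => d8_spec.1 x hx y hy
      one_mem' := List.mem_cons_self ..
      inv_mem' := fun {x} hx => d8_spec.2.2.1 x hx }
  let φ : Perm (Fin 6) →* Perm (Fin n) :=
    Perm.extendDomainHom ((Fin.castLEEmb hn).toEquivRange)
  have hsign : ∀ x : Perm (Fin 6), Perm.sign (φ x) = Perm.sign x := fun x =>
    Perm.sign_extendDomain x _
  let Q : Subgroup (alternatingGroup (Fin n)) := (D.map φ).subgroupOf (alternatingGroup (Fin n))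
  have hQ : IsPGroup 2 Q := by
    rintro ⟨z, hz⟩
    obtain ⟨x, hx, hxz⟩ := hz
    refine ⟨3, Subtype.ext (Subtype.ext ?_)⟩
    change (z : Perm (Fin n)) ^ 8 = 1
    have e : (z : Perm (Fin n)) = φ x := hxz.symm
    rw [e, ← map_pow, d8_spec.2.1 x hx, map_one]
  obtain ⟨x, hx, y, hy, hxy⟩ := d8_spec.2.2.2.2
  have hxs : φ x ∈ alternatingGroup (Fin n) := (hsign x).trans (d8_spec.2.2.2.1 x hx)
  have hys : φ y ∈ alternatingGroup (Fin n) := (hsign y).trans (d8_spec.2.2.2.1 y hy)
  have h := CfsgLib.BurnsideAutomizer.commute_of_isPGroup P hP hQ (a := ⟨φ x, hxs⟩) (b := ⟨φ y, hys⟩)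
    ⟨x, hx, rfl⟩ ⟨y, hy, rfl⟩
  have h' := congrArg Subtype.val h
  simp only [Subgroup.coe_mul, ← map_mul] at h'
  exact hxy (Perm.extendDomainHom_injective _ h')

def v4List : List (Perm (Fin 5)) :=
  [1, Equiv.swap 0 1 * Equiv.swap 2 3, Equiv.swap 0 2 * Equiv.swap 1 3,
    Equiv.swap 0 3 * Equiv.swap 1 2]

theorem v4_bool : (v4List.all fun x => v4List.all fun y => decide (x * y ∈ v4List)) = true ∧
    (v4List.all fun x => decide (x ^ 2 = 1 ∧ x⁻¹ = x ∧ Perm.sign x = 1)) = true := by
  refine ⟨?_, ?_⟩ <;> decide +kernel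

theorem v4_spec : (∀ x ∈ v4List, ∀ y ∈ v4List, x * y ∈ v4List) ∧ (∀ x ∈ v4List, x ^ 2 = 1) ∧
    (∀ x ∈ v4List, x⁻¹ = x) ∧ (∀ x ∈ v4List, Perm.sign x = 1) := by
  simpa [List.all_eq_true, forall_and] using v4_bool

theorem v4_card :
    (Finset.univ.filter (fun g : alternatingGroup (Fin 5) =>
      (g : Perm (Fin 5)) ∈ v4List)).card = 4 ∧
    (Finset.univ.filter (fun g : alternatingGroup (Fin 5) =>
      ∀ x ∈ v4List, (g : Perm (Fin 5)) * x = x * g)).card = 4 ∧
    (Finset.univ.filter (fun g : alternatingGroup (Fin 5) =>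
      ∀ x ∈ v4List, (g : Perm (Fin 5)) * x * (g : Perm (Fin 5))⁻¹ ∈ v4List)).card = 12 := by
  decide +kernel

theorem five_two [Fact (Nat.Prime 2)] (P : Sylow 2 (alternatingGroup (Fin 5))) :
    ((Subgroup.centralizer ((P : Subgroup (alternatingGroup (Fin 5))) : Set (alternatingGroup (Fin 5)))).subgroupOf
      (Subgroup.normalizer ((P : Subgroup (alternatingGroup (Fin 5))) : Set (alternatingGroup (Fin 5))))).index = 3 ∧
    IsKleinFour (P : Subgroup (alternatingGroup (Fin 5))) := by
  let V : Subgroup (alternatingGroup (Fin 5)) :=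
    { carrier := {x | (x : Perm (Fin 5)) ∈ v4List}
      mul_mem' := fun {x y} hx hy => v4_spec.1 _ hx _ hy
      one_mem' := List.mem_cons_self ..
      inv_mem' := fun {x} hx => by
        change ((x : Perm (Fin 5))⁻¹) ∈ v4List
        rw [v4_spec.2.2.1 _ hx]; exact hx }
  have hV4 : Nat.card V = 4 := by
    rw [← v4_card.1, ← Nat.card_eq_finsetCard]
    exact Nat.card_congr (Equiv.subtypeEquivRight fun x => by
      simp only [Finset.mem_filter, Finset.mem_univ, true_and]; exact Iff.rfl)
  have hA : Nat.card (alternatingGroup (Fin 5)) = 60 := by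
    rw [Nat.card_eq_fintype_card, card_alternatingGroup]; rfl
  let S : Sylow 2 (alternatingGroup (Fin 5)) := Sylow.ofCard V (by
    rw [hV4, hA, Nat.factorization_def _ Nat.prime_two]
    rw [show (60 : ℕ) = 2 ^ 2 * 15 from rfl, padicValNat.mul (by norm_num) (by norm_num),
      padicValNat.prime_pow, padicValNat.eq_zero_of_not_dvd (by norm_num)]
    norm_num
    )
  obtain ⟨g, rfl⟩ := MulAction.exists_smul_eq (alternatingGroup (Fin 5)) S P
  have hgS : ((g • S : Sylow 2 (alternatingGroup (Fin 5))) : Subgroup (alternatingGroup (Fin 5))) =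
      V.map (MulAut.conj g).toMonoidHom := by
    ext x
    rw [← SetLike.mem_coe, Sylow.coe_subgroup_smul]
    rfl
  constructor
  · change Subgroup.relIndex _ _ = 3
    rw [hgS, ← Subgroup.map_equiv_normalizer_eq]
    have hC : Subgroup.centralizer ((V.map (MulAut.conj g).toMonoidHom : Subgroup _) : Set _) =
        (Subgroup.centralizer (V : Set _)).map (MulAut.conj g).toMonoidHom := by
      ext x
      simp only [Subgroup.mem_centralizer_iff, Subgroup.coe_map, Set.forall_mem_image,
        MulEquiv.coe_toMonoidHom, Subgroup.mem_map_equiv]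
      refine forall₂_congr fun v _ => ?_
      rw [← (MulAut.conj g).symm.apply_eq_iff_eq]
      simp [mul_assoc]
    rw [hC]
    refine (Subgroup.relIndex_map_map_of_injective _ _ (MulAut.conj g).injective).trans ?_
    have hcard : Nat.card (Subgroup.centralizer (V : Set (alternatingGroup (Fin 5)))) = 4 := by
      rw [← v4_card.2.1, ← Nat.card_eq_finsetCard]
      refine Nat.card_congr (Equiv.subtypeEquivRight fun x => ?_)
      simp only [Subgroup.mem_centralizer_iff, Finset.mem_filter, Finset.mem_univ, true_and]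
      constructor
      · intro h z hz
        exact (congrArg Subtype.val (h ⟨z, v4_spec.2.2.2 z hz⟩ hz)).symm
      · intro h v hv
        exact Subtype.ext (h _ hv).symm
    have hnorm : Nat.card (Subgroup.normalizer (V : Set (alternatingGroup (Fin 5)))) = 12 := by
      rw [← v4_card.2.2, ← Nat.card_eq_finsetCard]
      refine Nat.card_congr (Equiv.subtypeEquivRight fun x => ?_)
      simp only [Subgroup.mem_normalizer_iff, Finset.mem_filter, Finset.mem_univ, true_and]
      constructor
      · intro h z hz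
        exact (h ⟨z, v4_spec.2.2.2 z hz⟩).1 hz
      · intro h v
        classical
        refine ⟨fun hv => h _ hv, fun hv => ?_⟩
        have hsub : (Finset.univ.filter fun v : alternatingGroup (Fin 5) => v ∈ V).image
            (fun v => x * v * x⁻¹) = Finset.univ.filter fun v : alternatingGroup (Fin 5) => v ∈ V := by
          refine Finset.eq_of_subset_of_card_le ?_ (by
            rw [Finset.card_image_of_injective _ (fun a b hab => by simpa using hab)])
          intro w hw
          simp only [Finset.mem_image, Finset.mem_filter, Finset.mem_univ, true_and] at hw ⊢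
          obtain ⟨u, hu, rfl⟩ := hw
          exact h _ hu
        have : x * v * x⁻¹ ∈ Finset.univ.filter fun v : alternatingGroup (Fin 5) => v ∈ V := by
          simp only [Finset.mem_filter, Finset.mem_univ, true_and]; exact hv
        rw [← hsub] at this
        simp only [Finset.mem_image, Finset.mem_filter, Finset.mem_univ, true_and] at this
        obtain ⟨u, hu, he⟩ := this
        obtain rfl : u = v := by simpa using he
        exact hu
    have := Subgroup.card_mul_index ((Subgroup.centralizer (V : Set (alternatingGroup (Fin 5)))).subgroupOf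
      (Subgroup.normalizer (V : Set (alternatingGroup (Fin 5)))))
    rw [Nat.card_congr (Subgroup.subgroupOfEquivOfLe (Subgroup.centralizer_le_normalizer _)).toEquiv,
      hcard, hnorm] at this
    change 4 * Subgroup.relIndex _ _ = 12 at this
    omega
  · rw [hgS]
    have hcard : Nat.card (V.map (MulAut.conj g).toMonoidHom) = 4 := by
      rw [Subgroup.card_map_of_injective (MulAut.conj g).injective, hV4]
    haveI : Nontrivial (V.map (MulAut.conj g).toMonoidHom) :=
      Finite.one_lt_card_iff_nontrivial.1 (by omega)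
    refine ⟨hcard, Monoid.exponent_eq_prime_iff Nat.prime_two |>.2 ?_⟩
    intro z hz
    refine orderOf_eq_prime ?_ hz
    obtain ⟨v, hv, hve⟩ := z.2
    refine Subtype.ext ?_
    rw [SubmonoidClass.coe_pow, ← hve, ← map_pow,
      show v ^ 2 = 1 from Subtype.ext (v4_spec.2.1 _ hv), map_one]
    rfl

/-- Let n ≥ 5 and let P be an abelian Sylow p-subgroup of the alternating group A_n. Then N(P)/C(P) (taken in A_n) has even order, or P is cyclic, except when n = 5 and p = 2, where P is a four-group and N(P)/C(P) has order 3. -/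
theorem result (n : ℕ) (hn : 5 ≤ n) {p : ℕ} [Fact p.Prime]
    (P : Sylow p (alternatingGroup (Fin n))) (hP : IsMulCommutative (P : Subgroup (alternatingGroup (Fin n)))) :
    (¬ (n = 5 ∧ p = 2) → 2 ∣ ((Subgroup.centralizer ((P : Subgroup (alternatingGroup (Fin n))) : Set (alternatingGroup (Fin n)))).subgroupOf (Subgroup.normalizer ((P : Subgroup (alternatingGroup (Fin n))) : Set (alternatingGroup (Fin n))))).index ∨ IsCyclic (P : Subgroup (alternatingGroup (Fin n)))) ∧
    ((n = 5 ∧ p = 2) → ((Subgroup.centralizer ((P : Subgroup (alternatingGroup (Fin n))) : Set (alternatingGroup (Fin n)))).subgroupOf (Subgroup.normalizer ((P : Subgroup (alternatingGroup (Fin n))) : Set (alternatingGroup (Fin n))))).index = 3 ∧ IsKleinFour (P : Subgroup (alternatingGroup (Fin n)))) := by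
  have hp := (Fact.out : p.Prime)
  refine ⟨fun hex => ?_, fun ⟨hn5, hp2⟩ => ?_⟩
  · rcases eq_or_ne p 2 with rfl | hp2
    · exact (not_comm_six (n := n) (by omega) P hP).elim
    · rcases Nat.lt_or_ge n (2 * p) with hlt | hge
      · exact Or.inr (cyclic_of_lt hlt P)
      · left
        obtain ⟨σ, ⟨hσ, hconj⟩ | h2⟩ := exists_real (p := p) (n := n) hp (by have := hp.two_le; omega)
        swap; · exact absurd h2 hp2
        obtain ⟨g, hg⟩ := CfsgLib.BurnsideAutomizer.exists_conj_mem_sylow P (x := σ) (k := 1)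
          (by rw [pow_one, ← hσ]; exact pow_orderOf_eq_one σ)
        refine CfsgLib.BurnsideAutomizer.two_dvd_index_of_isConj_inv P hP hg ?_ ?_
        · refine CfsgLib.BurnsideAutomizer.inv_ne_self_of_orderOf ?_
          have : orderOf (g * σ * g⁻¹) = orderOf σ := by
            simpa using MulEquiv.orderOf_eq (MulAut.conj g) σ
          have := hp.two_le
          omega
        · rw [show (g * σ * g⁻¹)⁻¹ = g * σ⁻¹ * g⁻¹ by group]
          exact (IsConj.trans (isConj_iff.2 ⟨g, rfl⟩).symm hconj).trans (isConj_iff.2 ⟨g, rfl⟩)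
  · subst hn5; subst hp2
    exact five_two P

end Cfsg.Agent.S2269
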