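import Cfsg.Statements.S2270
import Cfsg.Agent.Lib.KnownSimple.BurnsideAutomizer

set_option autoImplicit false
open Cfsg

namespace Cfsg.Agent.S2270

/-- Let n ≥ 3, p an odd prime, and P an abelian Sylow p-subgroup of the symmetric group S_n (with p dividing n!, so that P ≠ 1). Then N(P)/C(P) has even order. -/
theorem result (n : ℕ) (hn : 3 ≤ n) {p : ℕ} [Fact p.Prime] (hp : p ≠ 2) (hpn : p ≤ n)
    (P : Sylow p (Equiv.Perm (Fin n))) (hP : IsMulCommutative (P : Subgroup (Equiv.Perm (Fin n)))) :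
    2 ∣ ((Subgroup.centralizer ((P : Subgroup (Equiv.Perm (Fin n))) : Set (Equiv.Perm (Fin n)))).subgroupOf (Subgroup.normalizer ((P : Subgroup (Equiv.Perm (Fin n))) : Set (Equiv.Perm (Fin n))))).index := by
  have hdvd : p ∣ Nat.card (Equiv.Perm (Fin n)) := by
    rw [Nat.card_perm, Nat.card_eq_fintype_card, Fintype.card_fin]
    exact Nat.dvd_factorial (Fact.out : p.Prime).pos hpn
  haveI : Nontrivial (P : Subgroup (Equiv.Perm (Fin n))) :=
    (Subgroup.nontrivial_iff_ne_bot _).2 (P.ne_bot_of_dvd_card hdvd)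
  obtain ⟨x, hx⟩ := exists_ne (1 : (P : Subgroup (Equiv.Perm (Fin n))))
  obtain ⟨k, hk⟩ := P.isPGroup' x
  refine CfsgLib.BurnsideAutomizer.two_dvd_index_of_isConj_inv P hP x.2 ?_
    (Equiv.Perm.isConj_of_cycleType_eq (Equiv.Perm.cycleType_inv _).symm)
  refine CfsgLib.BurnsideAutomizer.inv_ne_self_of_orderOf ?_
  rw [Subgroup.orderOf_coe]
  obtain ⟨j, -, hj⟩ := (Nat.dvd_prime_pow (Fact.out : p.Prime)).1 (orderOf_dvd_of_pow_eq_one hk)
  have h2 := (Fact.out : p.Prime).two_le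
  rcases j with _ | j
  · exact absurd (orderOf_eq_one_iff.1 (by simpa using hj)) hx
  · rw [hj]
    calc 2 < p := by omega
      _ ≤ p ^ (j + 1) := Nat.le_self_pow (by omega) p

end Cfsg.Agent.S2270
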