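import Cfsg.Statements.S2271
import Cfsg.Agent.Lib.FixProduct.Basic
-- import your own Cfsg.Agent.* helpers here

set_option autoImplicit false
open Cfsg

namespace Cfsg.Agent.S2271

/-- Let n ≥ 5 and let a, b be non-identity permutations in the symmetric group S_n. Then the number of fixed points is not constant on the set of products a′b′ with a′ conjugate to a and b′ conjugate to b under the alternating group: there are even permutations g₁, h₁, g₂, h₂ such that (g₁ a g₁⁻¹)(h₁ b h₁⁻¹) and (g₂ a g₂⁻¹)(h₂ b h₂⁻¹) have different numbers of fixed points. -/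
theorem result (n : ℕ) (hn : 5 ≤ n) (a b : Equiv.Perm (Fin n)) (ha : a ≠ 1) (hb : b ≠ 1) :
    ∃ g₁ h₁ g₂ h₂ : Equiv.Perm (Fin n), g₁ ∈ alternatingGroup (Fin n) ∧ h₁ ∈ alternatingGroup (Fin n) ∧ g₂ ∈ alternatingGroup (Fin n) ∧ h₂ ∈ alternatingGroup (Fin n) ∧
      Nat.card (Function.fixedPoints ⇑(g₁ * a * g₁⁻¹ * (h₁ * b * h₁⁻¹))) ≠
        Nat.card (Function.fixedPoints ⇑(g₂ * a * g₂⁻¹ * (h₂ * b * h₂⁻¹))) := by
  classical
  obtain ⟨g, hg, hne⟩ := CfsgLib.FixProduct.exists_ne a b (by simpa using hn) ha hb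
  refine ⟨1, g, 1, 1, one_mem _, hg, one_mem _, one_mem _, fun e => hne ?_⟩
  have key : ∀ k : Equiv.Perm (Fin n), CfsgLib.FixProduct.aconj a⁻¹ b k =
      (Nat.card (Function.fixedPoints ⇑(1 * a * 1⁻¹ * (k * b * k⁻¹))) : ℤ) := by
    intro k
    rw [CfsgLib.FixProduct.aconj, CfsgLib.FixProduct.agree_eq_card, Nat.card_eq_fintype_card,
      Fintype.card_subtype]
    congr 2
    refine Finset.filter_congr fun t _ => ?_
    show a⁻¹ t = (k * b * k⁻¹) t ↔ (1 * a * 1⁻¹ * (k * b * k⁻¹)) t = t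
    rw [one_mul, inv_one, mul_one, Equiv.Perm.mul_apply a, Equiv.Perm.inv_eq_iff_eq, eq_comm]
  rw [key g, key 1, e]

end Cfsg.Agent.S2271
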