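import Cfsg.Statements.S2272

set_option autoImplicit false
open Cfsg

namespace Cfsg.Agent.S2272

open Matrix Module

variable {F : Type*} [Field F] {d : ℕ}

local notation "SLd" => Matrix.SpecialLinearGroup (Fin d) F
local notation "Md" => Matrix (Fin d) (Fin d) F
local notation "Vd" => Fin d → F

/-- The coercion to matrices, as a function. -/
abbrev mat (A : SLd) : Md := (A : Md)

theorem mat_mul (A B : SLd) (v : Vd) : mat (A * B) *ᵥ v = mat A *ᵥ (mat B *ᵥ v) := by
  simp [mat, Matrix.mulVec_mulVec]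

theorem mat_inv_apply {G : SLd} {y x : Vd} (h : mat G *ᵥ y = x) : mat G⁻¹ *ᵥ x = y := by
  rw [← h, ← mat_mul, inv_mul_cancel]
  simp [mat]

/-- An independent family extends to one indexed by the whole dimension. -/
theorem extend_indep : ∀ (r m : ℕ) (v : Fin m → Vd), m + r = d → LinearIndependent F v →
    ∃ w : Fin d → Vd, LinearIndependent F w ∧ ∀ (i : Fin m) (hi : (i : ℕ) < d), w ⟨i, hi⟩ = v i := by
  intro r
  induction r with
  | zero =>
    intro m v hm hv
    subst hm
    exact ⟨v, hv, fun i hi => rfl⟩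
  | succ r ih =>
    intro m v hm hv
    obtain ⟨x, hx⟩ := exists_linearIndependent_snoc_of_lt_finrank hv (by simp; omega)
    obtain ⟨w, hw, hwv⟩ := ih (m + 1) (Fin.snoc v x) (by omega) hx
    refine ⟨w, hw, fun i hi => ?_⟩
    have := hwv i.castSucc hi
    simpa using this

/-- Two independent vectors are the first two columns of an element of determinant one. -/
theorem exists_cols (hd : 3 ≤ d) {x w : Vd} (h : LinearIndependent F ![x, w]) :
    ∃ P : SLd, mat P *ᵥ Pi.single (⟨0, by omega⟩ : Fin d) 1 = x ∧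
      mat P *ᵥ Pi.single (⟨1, by omega⟩ : Fin d) 1 = w := by
  obtain ⟨v, hv, hvx⟩ := extend_indep (d - 2) 2 ![x, w] (by omega) h
  set P : Md := Matrix.of fun i j => v j i with hP
  have hdet : P.det ≠ 0 := by
    rw [← isUnit_iff_ne_zero, ← Matrix.isUnit_iff_isUnit_det, ← Matrix.linearIndependent_cols_iff_isUnit]
    exact hv
  let j : Fin d := ⟨2, by omega⟩
  let Q : Md := P.updateCol j (P.det⁻¹ • fun i => P i j)
  have hQ : Q.det = 1 := by
    rw [Matrix.det_updateCol_smul, Matrix.updateCol_eq_self, inv_mul_cancel₀ hdet]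
  refine ⟨⟨Q, hQ⟩, ?_, ?_⟩
  · have := hvx 0 (show 0 < d by omega)
    ext i
    simp only [mat, Matrix.mulVec_single_one, Matrix.col_apply]
    simp [Q, j, Matrix.updateCol_apply, hP]
    exact congrFun this i
  · have := hvx 1 (show 1 < d by omega)
    ext i
    simp only [mat, Matrix.mulVec_single_one, Matrix.col_apply]
    simp [Q, j, Matrix.updateCol_apply, hP]
    exact congrFun this i

theorem indep_of {x w : Vd} (hx : x ≠ 0) (h : ∀ k : F, w ≠ k • x) : LinearIndependent F ![x, w] := by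
  rw [LinearIndependent.pair_iff' hx]
  exact fun k e => h k e.symm

theorem ne_zero_of_noneigen {A : Md} {y : Vd} (h : ∀ k : F, A *ᵥ y ≠ k • y) : y ≠ 0 :=
  fun e => h 0 (by rw [e, Matrix.mulVec_zero, smul_zero])

/-- A conjugate of a non-scalar element maps any vector to any independent one. -/
theorem conj_pair (hd : 3 ≤ d) {A : SLd} {y : Vd} (hy : ∀ k : F, mat A *ᵥ y ≠ k • y) {x w : Vd}
    (hx : x ≠ 0) (hw : ∀ k : F, w ≠ k • x) : ∃ G : SLd, mat (G * A * G⁻¹) *ᵥ x = w := by
  obtain ⟨P, hP0, hP1⟩ := exists_cols hd (indep_of (ne_zero_of_noneigen hy) hy)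
  obtain ⟨Q, hQ0, hQ1⟩ := exists_cols hd (indep_of hx hw)
  refine ⟨Q * P⁻¹, ?_⟩
  have h1 : mat (Q * P⁻¹) *ᵥ y = x := by rw [mat_mul, mat_inv_apply hP0, hQ0]
  rw [mat_mul, mat_mul, mat_inv_apply h1, mat_mul, mat_inv_apply hP1, hQ1]

/-- A functional separating a vector from a subspace. -/
theorem exists_dot {S : Submodule F Vd} {x : Vd} (hx : x ∉ S) :
    ∃ φ : Vd, φ ⬝ᵥ x ≠ 0 ∧ ∀ s ∈ S, φ ⬝ᵥ s = 0 := by
  obtain ⟨f, hfx, hf⟩ := Submodule.exists_dual_map_eq_bot_of_notMem hx inferInstance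
  have key : ∀ z : Vd, (fun i => f (Pi.single i 1)) ⬝ᵥ z = f z := fun z => by
    conv_rhs => rw [pi_eq_sum_univ' z, map_sum]
    simp [dotProduct, mul_comm]
  refine ⟨fun i => f (Pi.single i 1), by rwa [key], fun s hs => ?_⟩
  rw [key]
  exact (Submodule.mem_bot F).mp (hf ▸ Submodule.mem_map_of_mem hs)

/-- The transvection `v ↦ v + (φ·v) u`. -/
def tv (u φ : Vd) (h : φ ⬝ᵥ u = 0) : SLd :=
  ⟨1 + Matrix.vecMulVec u φ, by
    rw [Matrix.vecMulVec_eq Unit, Matrix.det_one_add_replicateCol_mul_replicateRow, h, add_zero]⟩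

theorem tv_apply (u φ : Vd) (h : φ ⬝ᵥ u = 0) (v : Vd) : mat (tv u φ h) *ᵥ v = v + (φ ⬝ᵥ v) • u := by
  simp [mat, tv, Matrix.add_mulVec, Matrix.vecMulVec_mulVec]

theorem tv_inv (u φ : Vd) (h : φ ⬝ᵥ u = 0) :
    (tv u φ h)⁻¹ = tv u (-φ) (by rw [neg_dotProduct, h, neg_zero]) := by
  refine inv_eq_of_mul_eq_one_right (Subtype.ext ?_)
  show (1 + Matrix.vecMulVec u φ) * (1 + Matrix.vecMulVec u (-φ)) = 1
  rw [mul_add, add_mul, add_mul, Matrix.vecMulVec_mul_vecMulVec, h, zero_smul, Matrix.vecMulVec_neg]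
  simp

/-- `B` maps some vector outside the span of itself and an arbitrary non-eigen pair, unless it is
scalar plus rank one. -/
theorem rank_one (hd : 3 ≤ d) {B : SLd} (hpoor : ∀ u z : Vd, (∀ k : F, mat B *ᵥ u ≠ k • u) →
      mat B *ᵥ z ∈ Submodule.span F ({u, mat B *ᵥ u, z} : Set Vd)) {u : Vd}
    (hu : ∀ k : F, mat B *ᵥ u ≠ k • u) :
    ∃ (c : F) (x : Vd), x ≠ 0 ∧ ∀ t, ∃ k : F, mat B *ᵥ t = c • t + k • x := by
  set L : Vd →ₗ[F] Vd := (mat B).mulVecLin with hL
  have hLa : ∀ t, L t = mat B *ᵥ t := fun t => rfl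
  set S : Submodule F Vd := Submodule.span F {u, mat B *ᵥ u} with hS
  have huS : u ∈ S := Submodule.subset_span (by simp)
  have hBuS : mat B *ᵥ u ∈ S := Submodule.subset_span (by simp)
  have hz : ∀ z, ∃ s ∈ S, ∃ k : F, mat B *ᵥ z = s + k • z := fun z => by
    have := hpoor u z hu
    rw [show ({u, mat B *ᵥ u, z} : Set Vd) = {u, mat B *ᵥ u} ∪ {z} by ext; simp; tauto,
      Submodule.span_union, Submodule.mem_sup] at this
    obtain ⟨s, hs, t, ht, hst⟩ := this
    obtain ⟨k, rfl⟩ := Submodule.mem_span_singleton.mp ht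
    exact ⟨s, hs, k, hst.symm⟩
  have hinv : S ≤ S.comap L := by
    intro z hzS
    obtain ⟨s, hs, k, hk⟩ := hz z
    rw [Submodule.mem_comap, hLa, hk]
    exact S.add_mem hs (S.smul_mem k hzS)
  obtain ⟨c, hc⟩ : ∃ c : F, S.mapQ S L hinv = c • 1 := by
    refine LinearMap.exists_eq_smul_id_of_forall_notLinearIndependent fun v hv => ?_
    obtain ⟨z, rfl⟩ := Submodule.Quotient.mk_surjective S v
    obtain ⟨s, hs, k, hk⟩ := hz z
    have e : S.mapQ S L hinv (Submodule.Quotient.mk z) = k • Submodule.Quotient.mk z := by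
      rw [Submodule.mapQ_apply, hLa, hk, Submodule.Quotient.mk_add, Submodule.Quotient.mk_smul,
        (Submodule.Quotient.mk_eq_zero S).mpr hs, zero_add]
    have := LinearIndependent.pair_iff.mp hv k (-1) (by rw [e]; simp)
    simp at this
  set N : Vd → Vd := fun t => mat B *ᵥ t - c • t with hN
  have hNadd : ∀ s t, N (s + t) = N s + N t := fun s t => by
    simp only [hN, Matrix.mulVec_add, smul_add]; abel
  have hNsmul : ∀ (a : F) t, N (a • t) = a • N t := fun a t => by
    simp only [hN, Matrix.mulVec_smul, smul_sub, smul_comm a c]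
  have hNS : ∀ t, N t ∈ S := fun t => by
    have := congrArg (fun f => f (Submodule.Quotient.mk t)) hc
    simp only [Submodule.mapQ_apply, LinearMap.smul_apply, End.one_apply, ← Submodule.Quotient.mk_smul,
      hLa] at this
    exact (Submodule.Quotient.eq S).mp this
  -- hypothesis in terms of `N`
  have hpoor' : ∀ a t : Vd, (∀ k : F, N a ≠ k • a) →
      ∃ p q e : F, N t = p • a + q • N a + e • t := by
    intro a t ha
    have := hpoor a t fun k e => ha (k - c) (by rw [hN, sub_smul]; simp [e])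
    rw [Submodule.mem_span_insert] at this
    obtain ⟨p, z1, hz1, hp⟩ := this
    rw [Submodule.mem_span_pair] at hz1
    obtain ⟨q, e, rfl⟩ := hz1
    refine ⟨p + q * c, q, e - c, ?_⟩
    simp only [hN]
    rw [hp, smul_sub, smul_smul, add_smul, sub_smul]
    abel
  obtain ⟨z, hzS, hNz⟩ : ∃ z, z ∉ S ∧ N z ≠ 0 := by
    by_contra hcon
    push Not at hcon
    by_cases htop : S = ⊤
    · have h2 := finrank_range_le_card (R := F) ![u, mat B *ᵥ u]
      rw [show Set.range ![u, mat B *ᵥ u] = {u, mat B *ᵥ u} by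
        rw [Matrix.range_cons, Matrix.range_cons, Matrix.range_empty]; simp [Set.pair_comm]] at h2
      rw [Set.finrank, ← hS, htop, finrank_top, finrank_fin_fun, Fintype.card_fin] at h2
      exact absurd h2 (by omega)
    · obtain ⟨z, hz'⟩ : ∃ z, z ∉ S := by
        by_contra h; push Not at h; exact htop (eq_top_iff.mpr fun t _ => h t)
      have h1 : N u = 0 := by
        have h2 := hcon (u + z) fun h => hz' (by simpa using S.sub_mem h huS)
        rwa [hNadd, hcon z hz', add_zero] at h2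
      exact hu c (sub_eq_zero.mp h1)
  set w := N z with hw
  have hwS : w ∈ S := hNS z
  have hzne : ∀ k : F, N z ≠ k • z := by
    intro k e
    rcases eq_or_ne k 0 with rfl | hk
    · exact hNz (e.trans (zero_smul F z))
    · exact hzS (by
        have := S.smul_mem k⁻¹ (hNS z)
        rwa [e, smul_smul, inv_mul_cancel₀ hk, one_smul] at this)
  -- on `S`
  have hSt : ∀ t ∈ S, ∃ q e : F, N t = q • w + e • t := by
    intro t ht
    obtain ⟨p, q, e, hpq⟩ := hpoor' z t hzne
    refine ⟨q, e, ?_⟩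
    have : p • z ∈ S := by
      have : p • z = N t - q • w - e • t := by rw [hpq]; abel
      rw [this]
      exact S.sub_mem (S.sub_mem (hNS t) (S.smul_mem q hwS)) (S.smul_mem e ht)
    rcases eq_or_ne p 0 with rfl | hp
    · rw [hpq, zero_smul, zero_add]
    · exact absurd (by simpa [smul_smul, inv_mul_cancel₀ hp] using S.smul_mem p⁻¹ this) hzS
  obtain ⟨g, f, hNu⟩ := hSt u huS
  obtain ⟨g', e', hNw'⟩ := hSt w hwS
  have hNw : N w = (g' + e') • w := by rw [hNw', add_smul]
  have huw : ∀ a b : F, a • u + b • w = 0 → a = 0 ∧ b = 0 := by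
    intro a b hab
    rcases eq_or_ne a 0 with rfl | ha
    · refine ⟨rfl, ?_⟩
      rw [zero_smul, zero_add, smul_eq_zero] at hab
      exact hab.resolve_right hNz
    · exfalso
      have hu' : u = (-(a⁻¹ * b)) • w := by
        have : a • u = -(b • w) := eq_neg_of_add_eq_zero_left hab
        rw [← neg_smul] at this
        calc u = a⁻¹ • (a • u) := by rw [smul_smul, inv_mul_cancel₀ ha, one_smul]
          _ = _ := by rw [this, smul_smul]; congr 1; ring
      refine hu (c + (g' + e')) ?_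
      have : N u = (g' + e') • u := by rw [hu', hNsmul, hNw, smul_comm]
      rw [add_smul, ← this]; simp [hN]
  have hf : f = 0 := by
    by_contra hf
    rcases eq_or_ne g 0 with rfl | hg
    · rw [zero_smul, zero_add] at hNu
      exact hu (c + f) (by rw [add_smul, ← hNu]; simp [hN])
    set s : F := -g⁻¹ with hs
    have hs0 : s ≠ 0 := neg_ne_zero.mpr (inv_ne_zero hg)
    set t := z + s • u with ht
    have hsg : 1 + s * g = 0 := by rw [hs, neg_mul, inv_mul_cancel₀ hg, add_neg_cancel]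
    have hNt : N t = (s * f) • u := by
      rw [ht, hNadd, hNsmul, hNu, ← hw, smul_add, smul_smul, smul_smul, ← add_assoc,
        show w + (s * g) • w = (1 + s * g) • w by rw [add_smul, one_smul], hsg, zero_smul, zero_add]
    have htS : t ∉ S := fun h => hzS (by simpa [ht] using S.sub_mem h (S.smul_mem s huS))
    have htne : ∀ k : F, N t ≠ k • t := by
      intro k e
      rcases eq_or_ne k 0 with rfl | hk
      · rw [hNt, zero_smul, smul_eq_zero] at e
        exact (e.resolve_left (mul_ne_zero hs0 hf) ▸ hu 0) (by simp)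
      · exact htS (by
          have := S.smul_mem k⁻¹ (hNS t)
          rwa [e, smul_smul, inv_mul_cancel₀ hk, one_smul] at this)
    obtain ⟨p, q, e, hpq⟩ := hpoor' t (N t) htne
    have hpt : p • t ∈ S := by
      have : p • t = N (N t) - q • N t - e • N t := by rw [hpq]; abel
      rw [this]
      exact S.sub_mem (S.sub_mem (hNS _) (S.smul_mem q (hNS t))) (S.smul_mem e (hNS t))
    have hp : p = 0 := by
      by_contra hp
      exact htS (by simpa [smul_smul, inv_mul_cancel₀ hp] using S.smul_mem p⁻¹ hpt)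
    rw [hp, zero_smul, zero_add, hNt, hNsmul, hNu, smul_add, smul_smul, smul_smul, smul_smul, smul_smul,
      ← add_smul] at hpq
    have := huw (s * f * f - (q * (s * f) + e * (s * f))) (s * f * g) (by rw [sub_smul]; linear_combination (norm := module) hpq)
    exact mul_ne_zero (mul_ne_zero hs0 hf) hg this.2
  rw [hf, zero_smul, add_zero] at hNu
  have hSw : ∀ t ∈ S, ∃ k : F, N t = k • w := by
    intro t ht
    rw [hS, Submodule.mem_span_pair] at ht
    obtain ⟨a, b, rfl⟩ := ht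
    refine ⟨a * g + b * (g * (g' + e') + c * g), ?_⟩
    have hBu : mat B *ᵥ u = N u + c • u := by simp [hN]
    rw [hBu, hNadd, hNsmul, hNsmul, hNadd, hNsmul c u, hNu, hNsmul, hNw]
    module
  refine ⟨c, w, hNz, fun t => ?_⟩
  suffices ∃ k : F, N t = k • w by
    obtain ⟨k, hk⟩ := this
    exact ⟨k, by rw [← hk]; simp [hN]⟩
  obtain ⟨p, q, e, hpq⟩ := hpoor' z t hzne
  have hmem : p • z + e • t ∈ S := by
    have : p • z + e • t = N t - q • w := by rw [hpq]; abel
    rw [this]
    exact S.sub_mem (hNS t) (S.smul_mem q hwS)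
  rcases eq_or_ne e 0 with rfl | he
  · rw [zero_smul, add_zero] at hmem hpq
    rcases eq_or_ne p 0 with rfl | hp
    · exact ⟨q, by rw [hpq, zero_smul, zero_add]⟩
    · exact absurd (by simpa [smul_smul, inv_mul_cancel₀ hp] using S.smul_mem p⁻¹ hmem) hzS
  · obtain ⟨k, hk⟩ := hSw _ hmem
    refine ⟨e⁻¹ * (k - p), ?_⟩
    rw [hNadd, hNsmul, hNsmul, ← hw] at hk
    have : e • N t = (k - p) • w := by rw [sub_smul, ← hk]; abel
    rw [← smul_smul, ← this, smul_smul, inv_mul_cancel₀ he, one_smul]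

/-- The separating triple. -/
theorem core (hd : 3 ≤ d) {A B : SLd} {y u₀ : Vd} (hy : ∀ k : F, mat A *ᵥ y ≠ k • y)
    (hu₀ : ∀ k : F, mat B *ᵥ u₀ ≠ k • u₀) :
    ∃ (G : SLd) (u φ : Vd), φ ⬝ᵥ u = 0 ∧ φ ⬝ᵥ (mat B *ᵥ u) = 0 ∧
      φ ⬝ᵥ (mat B *ᵥ (mat (G * A * G⁻¹) *ᵥ u)) ≠ φ ⬝ᵥ (mat (G * A * G⁻¹) *ᵥ (mat B *ᵥ u)) := by
  suffices ∃ (G : SLd) (u : Vd), mat B *ᵥ (mat (G * A * G⁻¹) *ᵥ u) - mat (G * A * G⁻¹) *ᵥ (mat B *ᵥ u)
      ∉ Submodule.span F ({u, mat B *ᵥ u} : Set Vd) by
    obtain ⟨G, u, h⟩ := this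
    obtain ⟨φ, h1, h2⟩ := exists_dot h
    exact ⟨G, u, φ, h2 _ (Submodule.subset_span (by simp)), h2 _ (Submodule.subset_span (by simp)),
      fun e => h1 (by rw [dotProduct_sub, e, sub_self])⟩
  by_cases hrich : ∃ u z : Vd, (∀ k : F, mat B *ᵥ u ≠ k • u) ∧
      mat B *ᵥ z ∉ Submodule.span F ({u, mat B *ᵥ u, z} : Set Vd)
  · obtain ⟨u, z, hu, hz⟩ := hrich
    set x := mat B *ᵥ z with hx
    have hxu : ∀ k : F, x ≠ k • u := fun k e => hz (by
      rw [e]; exact Submodule.smul_mem _ k (Submodule.subset_span (by simp)))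
    obtain ⟨G, hG⟩ := conj_pair hd hy (ne_zero_of_noneigen hu) hxu
    obtain ⟨ψ, hψx, hψ⟩ := exists_dot hz
    have hψu : ψ ⬝ᵥ u = 0 := hψ _ (Submodule.subset_span (by simp))
    have hψv : ψ ⬝ᵥ (mat B *ᵥ u) = 0 := hψ _ (Submodule.subset_span (by simp))
    have hψz : ψ ⬝ᵥ z = 0 := hψ _ (Submodule.subset_span (by simp))
    by_contra hall
    push Not at hall
    have hS : ∀ s ∈ Submodule.span F ({u, mat B *ᵥ u} : Set Vd), ψ ⬝ᵥ s = 0 := fun s hs =>
      hψ s (Submodule.span_mono (by intro a; simp; tauto) hs)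
    have h1 := hS _ (hall G u)
    have h2 := hS _ (hall (tv z ψ hψz * G) u)
    have e : ∀ t, mat (tv z ψ hψz * G * A * (tv z ψ hψz * G)⁻¹) *ᵥ t =
        mat (tv z ψ hψz) *ᵥ (mat (G * A * G⁻¹) *ᵥ (mat (tv z ψ hψz)⁻¹ *ᵥ t)) := fun t => by
      rw [← mat_mul, ← mat_mul]; congr 2; group
    rw [e, e, tv_inv] at h2
    simp only [tv_apply, neg_dotProduct, hψu, hψv, neg_zero, zero_smul, add_zero, hG] at h2
    rw [hG] at h1
    simp only [dotProduct_sub, Matrix.mulVec_add, Matrix.mulVec_smul, dotProduct_add, dotProduct_smul,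
      smul_eq_mul, hψz, mul_zero, add_zero] at h1 h2
    rw [← hx] at h2
    exact hψx (mul_self_eq_zero.mp (by linear_combination h2 - h1))
  · push Not at hrich
    obtain ⟨c, x, hx0, hk⟩ := rank_one hd hrich hu₀
    obtain ⟨k₀, hk₀⟩ := hk u₀
    have hk₀0 : k₀ ≠ 0 := fun e => hu₀ c (by rw [hk₀, e, zero_smul, add_zero])
    set S := Submodule.span F ({u₀, mat B *ᵥ u₀} : Set Vd) with hS
    have hxS : x ∈ S := by
      have : x = k₀⁻¹ • (mat B *ᵥ u₀ - c • u₀) := by
        rw [hk₀, add_sub_cancel_left, smul_smul, inv_mul_cancel₀ hk₀0, one_smul]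
      rw [this]
      exact S.smul_mem _ (S.sub_mem (Submodule.subset_span (by simp))
        (S.smul_mem c (Submodule.subset_span (by simp))))
    obtain ⟨w, hw⟩ : ∃ w, w ∉ S := by
      by_contra hcon
      push Not at hcon
      have h2 := finrank_range_le_card (R := F) ![u₀, mat B *ᵥ u₀]
      rw [show Set.range ![u₀, mat B *ᵥ u₀] = {u₀, mat B *ᵥ u₀} by
        rw [Matrix.range_cons, Matrix.range_cons, Matrix.range_empty]; simp [Set.pair_comm]] at h2
      rw [Set.finrank, ← hS, (eq_top_iff.mpr fun t _ => hcon t : S = ⊤), finrank_top, finrank_fin_fun,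
        Fintype.card_fin] at h2
      omega
    obtain ⟨G, hG⟩ := conj_pair (w := w) hd hy hx0 (fun k e => hw (by rw [e]; exact S.smul_mem k hxS))
    refine ⟨G, u₀, fun hmem => hw ?_⟩
    obtain ⟨k, hk'⟩ := hk (mat (G * A * G⁻¹) *ᵥ u₀)
    have hAB : mat (G * A * G⁻¹) *ᵥ (mat B *ᵥ u₀) = c • (mat (G * A * G⁻¹) *ᵥ u₀) + k₀ • w := by
      rw [hk₀, Matrix.mulVec_add, Matrix.mulVec_smul, Matrix.mulVec_smul, hG]
    rw [hk', hAB] at hmem
    have : k₀ • w ∈ S := by
      have := S.sub_mem (S.smul_mem k hxS) hmem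
      convert this using 1
      module
    simpa [smul_smul, inv_mul_cancel₀ hk₀0] using S.smul_mem k₀⁻¹ this

theorem exists_noneigen {A : SLd}
    (hA : (QuotientGroup.mk A : Matrix.ProjectiveSpecialLinearGroup (Fin d) F) ≠ 1) :
    ∃ y : Vd, ∀ k : F, mat A *ᵥ y ≠ k • y := by
  by_contra h
  push Not at h
  obtain ⟨c, hc⟩ := LinearMap.exists_eq_smul_id_of_forall_notLinearIndependent
    (f := (mat A).mulVecLin) fun v hv => by
      obtain ⟨k, hk⟩ := h v
      have := LinearIndependent.pair_iff.mp hv k (-1) (by simp [hk])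
      simp at this
  refine hA ((QuotientGroup.eq_one_iff A).mpr (Matrix.SpecialLinearGroup.mem_center_iff.mpr ⟨c, ?_, ?_⟩))
  · have hm : mat A = c • (1 : Md) := Matrix.toLin'.injective (by
      rw [Matrix.toLin'_apply', hc, map_smul, Matrix.toLin'_one]; rfl)
    have := A.2
    rw [show (A : Md) = c • (1 : Md) from hm, Matrix.det_smul, Matrix.det_one, mul_one] at this
    exact this
  · have hm : mat A = c • (1 : Md) := Matrix.toLin'.injective (by
      rw [Matrix.toLin'_apply', hc, map_smul, Matrix.toLin'_one]; rfl)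
    rw [show (A : Md) = c • (1 : Md) from hm, Matrix.scalar_apply, Matrix.smul_one_eq_diagonal]

/-- Let F be a finite field and d ≥ 3, and let a, b be non-identity elements of PSL_d(F). Then the product of the conjugacy classes of a and b is not a single conjugacy class: there are conjugates a′ of a and b′ of b such that a′b′ is not conjugate to ab. -/
theorem result {F : Type*} [Field F] [Fintype F] (d : ℕ) (hd : 3 ≤ d)
    (a b : Matrix.ProjectiveSpecialLinearGroup (Fin d) F) (ha : a ≠ 1) (hb : b ≠ 1) :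
    ∃ g h : Matrix.ProjectiveSpecialLinearGroup (Fin d) F, ¬ IsConj (a * b) (g * a * g⁻¹ * (h * b * h⁻¹)) := by
  by_contra hcon
  push Not at hcon
  obtain ⟨A, rfl⟩ := QuotientGroup.mk_surjective a
  obtain ⟨B, rfl⟩ := QuotientGroup.mk_surjective b
  obtain ⟨y, hy⟩ := exists_noneigen ha
  obtain ⟨u₀, hu₀⟩ := exists_noneigen hb
  obtain ⟨G, u, φ, h1, h2, h3⟩ := core hd hy hu₀
  set A' := mat (G * A * G⁻¹) with hA'
  set τ := A' * mat B with hτ
  set c := φ ⬝ᵥ (mat B *ᵥ (A' *ᵥ u)) - φ ⬝ᵥ (A' *ᵥ (mat B *ᵥ u)) with hc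
  have hc0 : c ≠ 0 := sub_ne_zero.mpr h3
  have htr : ∀ s : F, ∃ H : Matrix.SpecialLinearGroup (Fin d) F,
      (mat (G * A * G⁻¹ * (H * B * H⁻¹))).trace = τ.trace + s * c := by
    intro s
    have hs : (s • φ) ⬝ᵥ u = 0 := by rw [smul_dotProduct, h1, smul_zero]
    refine ⟨tv u (s • φ) hs, ?_⟩
    rw [tv_inv]
    show ((A' * ((1 + Matrix.vecMulVec u (s • φ)) * mat B * (1 + Matrix.vecMulVec u (-(s • φ))))).trace) = _
    simp only [mul_add, add_mul, mul_one, one_mul, Matrix.trace_add, Matrix.vecMulVec_mul,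
      Matrix.mul_vecMulVec, Matrix.trace_vecMulVec, Matrix.mulVec_add, Matrix.mulVec_mulVec]
    rw [← hτ]
    simp only [hc, Matrix.mulVec_smul, Matrix.mul_vecMulVec, Matrix.vecMulVec_mulVec, op_smul_eq_smul,
      dotProduct_neg, neg_dotProduct, dotProduct_smul, smul_dotProduct, smul_eq_mul,
      ← Matrix.dotProduct_mulVec, Matrix.mulVec_mulVec]
    rw [dotProduct_comm (A' *ᵥ u), ← Matrix.dotProduct_mulVec, Matrix.mulVec_mulVec,
      dotProduct_comm ((A' * mat B) *ᵥ u)]
    simp [h2]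
    ring
  have hz : ∀ M : Matrix.SpecialLinearGroup (Fin d) F,
      IsConj (QuotientGroup.mk (A * B) : Matrix.ProjectiveSpecialLinearGroup (Fin d) F) (QuotientGroup.mk M) →
      ((mat M).trace = 0 ↔ (mat (A * B)).trace = 0) := by
    intro M hM
    obtain ⟨q, hq⟩ := isConj_iff.mp hM
    obtain ⟨C, rfl⟩ := QuotientGroup.mk_surjective q
    rw [← QuotientGroup.mk_inv, ← QuotientGroup.mk_mul, ← QuotientGroup.mk_mul, QuotientGroup.eq] at hq
    obtain ⟨r, hr, hr'⟩ := Matrix.SpecialLinearGroup.mem_center_iff.mp hq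
    have hr0 : r ≠ 0 := fun e => by
      rw [e, Fintype.card_fin, zero_pow (by omega)] at hr
      exact zero_ne_one hr
    have hM' : M = C * (A * B) * C⁻¹ * ((C * (A * B) * C⁻¹)⁻¹ * M) := by group
    have : (mat M).trace = r * (mat (A * B)).trace := by
      conv_lhs => rw [hM']
      simp only [mat, Matrix.SpecialLinearGroup.coe_mul] at hr' ⊢
      rw [← hr', Matrix.scalar_apply, ← Matrix.smul_one_eq_diagonal, mul_smul_comm, mul_one,
        Matrix.trace_smul, smul_eq_mul, Matrix.trace_mul_cycle, ← Matrix.SpecialLinearGroup.coe_mul,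
        inv_mul_cancel, Matrix.SpecialLinearGroup.coe_one, one_mul]
    rw [this, mul_eq_zero, or_iff_right hr0]
  obtain ⟨H₀, hH₀⟩ := htr (-τ.trace / c)
  obtain ⟨H₁, hH₁⟩ := htr ((1 - τ.trace) / c)
  have e0 := hz _ (hcon (QuotientGroup.mk G) (QuotientGroup.mk H₀))
  have e1 := hz _ (hcon (QuotientGroup.mk G) (QuotientGroup.mk H₁))
  rw [hH₀, div_mul_cancel₀ _ hc0, add_neg_cancel] at e0
  rw [hH₁, div_mul_cancel₀ _ hc0, add_sub_cancel] at e1
  exact one_ne_zero (α := F) (e1.mpr (e0.mp rfl))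

end Cfsg.Agent.S2272
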