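import Cfsg.Statements.S2276
import Cfsg.Agent.Lib.FreePair.Small

set_option autoImplicit false
open Cfsg

namespace Cfsg.Agent.S2276

open Equiv Function CfsgLib.FreePair

/-- Let n ≥ 5, p ≥ 3 a prime, and u, w non-identity elements of p-power order in the alternating group A_n. Then there is g ∈ A_n such that u·(g w g⁻¹) does not have p-power order and ⟨u, g w g⁻¹⟩ is not solvable. -/
theorem result (n : ℕ) (hn : 5 ≤ n) (p : ℕ) (hp : p.Prime) (hp3 : 3 ≤ p) (u w : alternatingGroup (Fin n)) (hu : u ≠ 1) (hw : w ≠ 1)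
    (hu' : ∃ k : ℕ, orderOf u = p ^ k) (hw' : ∃ k : ℕ, orderOf w = p ^ k) :
    ∃ g : alternatingGroup (Fin n), (¬ ∃ k : ℕ, orderOf (u * (g * w * g⁻¹)) = p ^ k) ∧
      ¬ Group.IsSolvable ↥(Subgroup.closure ({u, g * w * g⁻¹} : Set (alternatingGroup (Fin n)))) := by
  have : Fact p.Prime := ⟨hp⟩
  suffices h : ∃ g : Perm (Fin n), Perm.sign g = 1 ∧
      Bad p (u : Perm (Fin n)) (g * (w : Perm (Fin n)) * g⁻¹) by
    obtain ⟨g, hg, h1, h2⟩ := h
    refine ⟨⟨g, Perm.mem_alternatingGroup.2 hg⟩, ?_, fun hs => h2 ?_⟩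
    · rintro ⟨k, hk⟩
      exact h1 ⟨k, by rw [← hk, ← Subgroup.orderOf_coe]; rfl⟩
    · let gA : alternatingGroup (Fin n) := ⟨g, Perm.mem_alternatingGroup.2 hg⟩
      have hmap : (Subgroup.closure ({u, gA * w * gA⁻¹} : Set (alternatingGroup (Fin n)))).map
          (alternatingGroup (Fin n)).subtype =
          Subgroup.closure {(u : Perm (Fin n)), g * (w : Perm (Fin n)) * g⁻¹} := by
        rw [MonoidHom.map_closure, Set.image_pair]
        rfl
      rw [← hmap]
      exact solvable_of_surjective ((alternatingGroup (Fin n)).subtype.subgroupMap_surjective _)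
  have hper : ∀ z : alternatingGroup (Fin n), (∃ k, orderOf z = p ^ k) → z ≠ 1 →
      (∃ k, orderOf (z : Perm (Fin n)) = p ^ k) ∧
      (∀ x, ∃ k, minimalPeriod (z : Perm (Fin n)) x = p ^ k) ∧
      ∃ a, ∀ x, minimalPeriod (z : Perm (Fin n)) x ≤ minimalPeriod (z : Perm (Fin n)) a := by
    intro z hz hz1
    obtain ⟨k, hk⟩ := hz
    rw [← Subgroup.orderOf_coe] at hk
    refine ⟨⟨k, hk⟩, fun x => ?_, ?_⟩
    · have hx : IsPeriodicPt (z : Perm (Fin n)) (p ^ k) x := by
        show (⇑(z : Perm (Fin n)))^[p ^ k] x = x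
        rw [← hk, ← Perm.coe_pow, pow_orderOf_eq_one]; rfl
      obtain ⟨j, -, hj⟩ := (Nat.dvd_prime_pow hp).1 hx.minimalPeriod_dvd
      exact ⟨j, hj⟩
    · have : Nonempty (Fin n) := ⟨⟨0, by omega⟩⟩
      exact Finite.exists_max _
  obtain ⟨huo, hupow, a, ha⟩ := hper u hu' hu
  obtain ⟨hwo, hwpow, b, hb⟩ := hper w hw' hw
  have hu1 : (u : Perm (Fin n)) ≠ 1 := fun e => hu (Subtype.ext e)
  have hw1 : (w : Perm (Fin n)) ≠ 1 := fun e => hw (Subtype.ext e)
  by_cases hbig : 5 ≤ max (minimalPeriod (u : Perm (Fin n)) a) (minimalPeriod (w : Perm (Fin n)) b)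
  · rcases le_total (minimalPeriod (w : Perm (Fin n)) b) (minimalPeriod (u : Perm (Fin n)) a) with hle | hle
    · obtain ⟨h, hh⟩ := hupow a
      exact exists_bad_of_long hp3 hw1 hwo hh (by rwa [max_eq_left hle] at hbig) rfl
        (fun x => le_trans (hb x) hle)
    · obtain ⟨h, hh⟩ := hwpow b
      obtain ⟨g, hg, hbad⟩ := exists_bad_of_long hp3 hu1 huo hh
        (by rwa [max_eq_right hle] at hbig) rfl
        (fun x => le_trans (ha x) hle)
      exact ⟨g⁻¹, by rw [map_inv, hg, inv_one], bad_swap hbad⟩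
  · -- all periods at most three
    have h3 : ∀ z : Perm (Fin n), z ≠ 1 → (∀ x, ∃ k, minimalPeriod z x = p ^ k) →
        (∀ x, minimalPeriod z x < 5) → p = 3 ∧ ∀ x, z (z (z x)) = x := by
      intro z hz hpow hlt
      obtain ⟨x0, hx0⟩ : ∃ x, z x ≠ x := by
        by_contra h
        push Not at h
        exact hz (Equiv.ext h)
      have key : ∀ x, z x ≠ x → minimalPeriod z x = p ∧ p = 3 := by
        intro x hx
        obtain ⟨k, hk⟩ := hpow x
        have hk0 : k ≠ 0 := fun e => hx (minimalPeriod_eq_one_iff_isFixedPt.1 (by rw [hk, e, pow_zero]))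
        have h5 := hlt x
        rw [hk] at h5
        have h1 : p ≤ p ^ k := Nat.le_self_pow hk0 p
        have h3 : p = 3 := by
          rcases Nat.lt_or_ge p 4 with h4 | h4
          · omega
          · obtain rfl : p = 4 := by omega
            exact absurd hp (by norm_num)
        refine ⟨?_, h3⟩
        rcases Nat.lt_or_ge k 2 with h2 | h2
        · rw [hk, show k = 1 by omega, pow_one]
        · have := Nat.pow_le_pow_right hp.pos h2
          rw [h3] at this h5
          omega
      refine ⟨(key x0 hx0).2, fun x => ?_⟩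
      by_cases hx : z x = x
      · rw [hx, hx, hx]
      · have := iterate_minimalPeriod (f := z) (x := x)
        rw [(key x hx).1, (key x hx).2] at this
        exact this
    obtain ⟨rfl, hu3⟩ := h3 _ hu1 hupow (fun x => by have := ha x; omega)
    obtain ⟨-, hw3⟩ := h3 _ hw1 hwpow (fun x => by have := hb x; omega)
    exact exists_bad_small hn hu1 hw1 hu3 hw3

end Cfsg.Agent.S2276
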