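import Cfsg.Statements.S2279
import Cfsg.Agent.Lib.RegUnip.TwoGenCases

set_option autoImplicit false
open Cfsg

namespace Cfsg.Agent.S2279

open Matrix CfsgLib.RegUnip

theorem conj_isRegular {F : Type*} [Field F] {n : ℕ} (hn : 0 < n)
    (t : SpecialLinearGroup (Fin n) F) :
    IsNilpotent (((t * regUnip n F * t⁻¹ : SpecialLinearGroup (Fin n) F) :
        Matrix (Fin n) (Fin n) F) - 1) ∧
      (((t * regUnip n F * t⁻¹ : SpecialLinearGroup (Fin n) F) :
        Matrix (Fin n) (Fin n) F) - 1) ^ (n - 1) ≠ 0 := by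
  let A := (t : Matrix (Fin n) (Fin n) F)
  let B := ((t⁻¹ : SpecialLinearGroup (Fin n) F) : Matrix (Fin n) (Fin n) F)
  have hBA : B * A = 1 := by simp only [A, B, ← val_mul, inv_mul_cancel, val_one]
  have hAB : A * B = 1 := by simp only [A, B, ← val_mul, mul_inv_cancel, val_one]
  have e : ((t * regUnip n F * t⁻¹ : SpecialLinearGroup (Fin n) F) :
      Matrix (Fin n) (Fin n) F) - 1 = A * shiftMat n F * B := by
    rw [val_mul, val_mul, regUnip_val]
    change A * (1 + shiftMat n F) * B - 1 = _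
    rw [mul_add, mul_one, add_mul, hAB, add_sub_cancel_left]
  have hpow : ∀ k, (A * shiftMat n F * B) ^ k = A * shiftMat n F ^ k * B := by
    intro k
    induction k with
    | zero => simp [hAB]
    | succ k ih =>
      rw [pow_succ, ih, pow_succ]
      simp only [mul_assoc]
      rw [← mul_assoc B A, hBA, one_mul]
  rw [e]
  refine ⟨⟨n, by rw [hpow, shiftMat_pow_eq_zero, mul_zero, zero_mul]⟩, fun h => ?_⟩
  apply shiftMat_pow_pred_ne_zero (F := F) n hn
  rw [hpow] at h
  have := congrArg (fun M => B * M * A) h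
  simpa [mul_assoc, hBA, ← mul_assoc B A] using this

/-- Let F be a finite field with q elements and n ≥ 4. Then SL_n(F) is generated by two regular unipotent elements (elements u with u − 1 nilpotent and (u − 1)^(n−1) ≠ 0); if q is prime, the two can be taken conjugate in SL_n(F). -/
theorem result {F : Type*} [Field F] [Fintype F] (n : ℕ) (hn : 4 ≤ n) :
    (∃ u v : Matrix.SpecialLinearGroup (Fin n) F, (IsNilpotent ((u : Matrix (Fin n) (Fin n) F) - 1) ∧ ((u : Matrix (Fin n) (Fin n) F) - 1) ^ (n - 1) ≠ 0) ∧ (IsNilpotent ((v : Matrix (Fin n) (Fin n) F) - 1) ∧ ((v : Matrix (Fin n) (Fin n) F) - 1) ^ (n - 1) ≠ 0) ∧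
      Subgroup.closure ({u, v} : Set (Matrix.SpecialLinearGroup (Fin n) F)) = ⊤) ∧
    ((Fintype.card F).Prime → ∃ u g : Matrix.SpecialLinearGroup (Fin n) F, (IsNilpotent ((u : Matrix (Fin n) (Fin n) F) - 1) ∧ ((u : Matrix (Fin n) (Fin n) F) - 1) ^ (n - 1) ≠ 0) ∧
      Subgroup.closure ({u, g * u * g⁻¹} : Set (Matrix.SpecialLinearGroup (Fin n) F)) = ⊤) := by
  haveI : NeZero n := ⟨by omega⟩
  obtain ⟨t, ht⟩ := CfsgLib.RegUnip.TwoGen.exists_two_generators (F := F) (n := n) hn
  exact ⟨⟨_, _, regUnip_isRegular n (by omega), conj_isRegular (by omega) t, ht⟩,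
    fun _ => ⟨_, t, regUnip_isRegular n (by omega), ht⟩⟩

end Cfsg.Agent.S2279
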