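import Cfsg.Statements.S2280
import Cfsg.Agent.Lib.RegUnip.SLn
import Cfsg.Agent.Lib.RegUnip.Jordan

set_option autoImplicit false
open Cfsg

namespace Cfsg.Agent.S2280

open Matrix CfsgLib.RegUnip

/-- The base change sending `e₀ ↦ e₁ + e₂`, `e₁ ↦ e₂`, and shifting the other vectors. -/
theorem exists_baseChange {F : Type*} [Field F] (m : ℕ) :
    ∃ (K : SpecialLinearGroup (Fin (m + 3)) F) (σ : F), σ * σ = 1 ∧
      (K : Matrix (Fin (m + 3)) (Fin (m + 3)) F) *ᵥ Pi.single 0 1 = Pi.single 1 1 + Pi.single 2 1 ∧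
      (K : Matrix (Fin (m + 3)) (Fin (m + 3)) F) *ᵥ Pi.single 1 1 = Pi.single 2 1 ∧
      (σ • Pi.single 0 1) ᵥ* (K : Matrix (Fin (m + 3)) (Fin (m + 3)) F) =
        Pi.single (Fin.last (m + 2)) 1 := by
  let ρ : Equiv.Perm (Fin (m + 3)) := finRotate (m + 3)
  let ρi : Equiv.Perm (Fin (m + 3)) := ρ.symm
  let s : F := ((Equiv.Perm.sign ρi : ℤ) : F)
  have hs : s * s = 1 := by
    rcases Int.units_eq_one_or (Equiv.Perm.sign ρi) with h | h <;> simp [s, h]
  let d : Fin (m + 3) → F := Function.update 1 (Fin.last (m + 2)) s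
  let M : Matrix (Fin (m + 3)) (Fin (m + 3)) F :=
    ρi.permMatrix F * diagonal d * Matrix.transvection 1 0 1
  have hM : M.det = 1 := by
    have hd : ∏ i, d i = s := by
      rw [Finset.prod_update_of_mem (Finset.mem_univ _)]; simp
    simp only [M, det_mul, det_permutation, det_diagonal, hd]
    rw [det_transvection_of_ne _ _ (Fin.ne_of_val_ne (by simp)), mul_one]
    exact hs
  have hperm : ∀ (j : Fin (m + 3)) (c : F),
      ρi.permMatrix F *ᵥ Pi.single j c = Pi.single (ρ j) c := by
    intro j c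
    rw [permMatrix_mulVec]
    ext i
    simp [ρi, Pi.single_apply, Equiv.symm_apply_eq]
  have hdiag : ∀ (j : Fin (m + 3)) (c : F),
      diagonal d *ᵥ Pi.single j c = Pi.single j (d j * c) := by
    intro j c
    ext i
    rw [mulVec_diagonal]
    rcases eq_or_ne i j with rfl | h <;> simp [*]
  have htr : ∀ (v : Fin (m + 3) → F),
      Matrix.transvection (1 : Fin (m + 3)) 0 1 *ᵥ v = v + Pi.single 1 (v 0) := by
    intro v
    have := transvec_mulVec (F := F) (show (1 : Fin (m + 3)) ≠ 0 from Fin.ne_of_val_ne (by simp)) 1 v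
    simpa [SpecialLinearGroup.transvection] using this
  have h0 : d 0 = 1 := Function.update_of_ne (Fin.ne_of_val_ne (by simp)) ..
  have h1 : d 1 = 1 := Function.update_of_ne (Fin.ne_of_val_ne (by simp)) ..
  have r0 : ρ 0 = 1 := by simp [ρ, finRotate_succ_apply]
  have r1 : ρ 1 = 2 := by simp [ρ, finRotate_succ_apply]; rfl
  refine ⟨⟨M, hM⟩, s, hs, ?_, ?_, ?_⟩
  · change M *ᵥ _ = _
    simp only [M, ← mulVec_mulVec, htr]
    rw [Pi.single_eq_same, mulVec_add, mulVec_add, hdiag, hdiag, hperm, hperm, r0, r1, h0, h1]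
    simp
  · change M *ᵥ _ = _
    simp only [M, ← mulVec_mulVec, htr]
    rw [Pi.single_eq_of_ne (Fin.ne_of_val_ne (by simp)), Pi.single_zero, add_zero, hdiag, hperm, r1,
      h1, mul_one]
  · change _ ᵥ* M = _
    simp only [M, ← vecMul_vecMul]
    have e1 : (s • Pi.single 0 1) ᵥ* ρi.permMatrix F = Pi.single (Fin.last (m + 2)) s := by
      rw [vecMul_permMatrix]
      ext i
      have : ρ i = 0 ↔ i = Fin.last (m + 2) := by
        rw [← Equiv.eq_symm_apply]
        have : ρ.symm 0 = Fin.last (m + 2) := by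
          rw [Equiv.symm_apply_eq]; simp [ρ, finRotate_succ_apply]
        rw [this]
      simp [ρi, Pi.single_apply, this]
    rw [e1]
    ext i
    rw [vecMul, dotProduct]
    simp only [vecMul_diagonal]
    rw [Finset.sum_eq_single (Fin.last (m + 2))]
    · have hl : d (Fin.last (m + 2)) = s := Function.update_self ..
      rw [Pi.single_eq_same, hl, hs, one_mul]
      have hl1 : Fin.last (m + 2) ≠ (1 : Fin (m + 3)) := Fin.ne_of_val_ne (by simp)
      rw [Matrix.transvection, Matrix.add_apply, single_apply, if_neg (fun e => hl1 e.1.symm),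
        add_zero, one_apply, Pi.single_apply]
      simp [eq_comm]
    · intro b _ hb
      simp [hb]
    · simp

theorem aux {F : Type*} [Field F] [Fintype F] (m : ℕ) :
    ∃ u g h : SpecialLinearGroup (Fin (m + 3)) F,
      (IsNilpotent ((u : Matrix (Fin (m + 3)) (Fin (m + 3)) F) - 1) ∧
        ((u : Matrix (Fin (m + 3)) (Fin (m + 3)) F) - 1) ^ (m + 3 - 1) ≠ 0) ∧
      Subgroup.closure ({u, g * u * g⁻¹, h * u * h⁻¹} :
        Set (SpecialLinearGroup (Fin (m + 3)) F)) = ⊤ := by
  obtain ⟨K, σ, hσ, hK0, hK1, hKr⟩ := exists_baseChange (F := F) m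
  obtain ⟨ω, hω⟩ := IsCyclic.exists_generator (α := Fˣ)
  have hne : (1 : Fin (m + 3)) ≠ Fin.last (m + 2) := Fin.ne_of_val_ne (by simp)
  let u := regUnip (m + 3) F
  let g := SpecialLinearGroup.transvection hne (-(ω : F))
  refine ⟨u, g, K⁻¹, regUnip_isRegular _ (by omega), ?_⟩
  set G := Subgroup.closure ({u, g * u * g⁻¹, K⁻¹ * u * K⁻¹⁻¹} :
    Set (SpecialLinearGroup (Fin (m + 3)) F)) with hG
  have hu : u ∈ G := Subgroup.subset_closure (by simp)
  have hu' : g * u * g⁻¹ ∈ G := Subgroup.subset_closure (by simp)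
  have hv : K⁻¹ * u * K ∈ G := Subgroup.subset_closure (by simp)
  have hne0 : (0 : Fin (m + 3)) ≠ Fin.last (m + 2) := Fin.ne_of_val_ne (by simp)
  let e0 : Fin (m + 3) → F := Pi.single 0 1
  let en : Fin (m + 3) → F := Pi.single (Fin.last (m + 2)) 1
  have hv1 : ((1 : Fin (m + 3)) : ℕ) = 1 := by simp
  have hv2 : ((2 : Fin (m + 3)) : ℕ) = 2 := Nat.mod_eq_of_lt (show 2 < m + 3 by omega)
  have hJ0 : ∀ c : F, shiftMat (m + 3) F *ᵥ Pi.single 0 c = 0 := by
    intro c; ext i
    rw [shiftMat_mulVec, Pi.zero_apply]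
    split
    · exact Pi.single_eq_of_ne (Fin.ne_of_val_ne (by simp)) _
    · rfl
  have hJs : ∀ (j k : Fin (m + 3)), k.val + 1 = j.val → ∀ c : F,
      shiftMat (m + 3) F *ᵥ Pi.single j c = Pi.single k c := by
    intro j k hjk c; ext i
    rw [shiftMat_mulVec]
    rcases eq_or_ne i k with rfl | hik
    · rw [dif_pos (by omega), show (⟨i.val + 1, by omega⟩ : Fin (m + 3)) = j from Fin.ext hjk]
      simp
    · rw [Pi.single_eq_of_ne hik]
      have : i.val ≠ k.val := Fin.val_ne_of_ne hik
      split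
      · exact Pi.single_eq_of_ne (Fin.ne_of_val_ne (by simp; omega)) _
      · rfl
  have hJ1 : ∀ c : F, shiftMat (m + 3) F *ᵥ Pi.single 1 c = Pi.single 0 c :=
    hJs 1 0 (by simp)
  have hJ2 : ∀ c : F, shiftMat (m + 3) F *ᵥ Pi.single 2 c = Pi.single 1 c :=
    hJs 2 1 (by omega)
  have hT : g * u = u * SpecialLinearGroup.transvection hne0 (ω : F) * g := by
    refine Subtype.ext (Matrix.ext_of_mulVec_single fun l => ?_)
    generalize Pi.single (M := fun _ => F) l (1 : F) = v
    have hJl : (shiftMat (m + 3) F *ᵥ v) (Fin.last (m + 2)) = 0 := by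
      rw [shiftMat_mulVec, dif_neg (by simp)]
    simp only [val_mul, ← mulVec_mulVec, g, transvec_mulVec, u, regUnip_val, add_mulVec, one_mulVec,
      mulVec_add, Pi.add_apply, hJl, hJ0, hJ1, Pi.single_eq_of_ne hne.symm, add_zero]
    simp only [neg_mul, Pi.single_neg, mul_zero, Pi.single_zero, neg_zero, add_zero, zero_add]
    abel
  have hω0 : HasTransvec G e0 ((ω : F) • en) := by
    refine ⟨u⁻¹ * (g * u * g⁻¹), G.mul_mem (G.inv_mem hu) hu', ?_⟩
    rw [hT, mul_inv_cancel_right, inv_mul_cancel_left, SpecialLinearGroup.transvection_coe]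
    congr 1
    ext i j
    rw [vecMulVec_apply, Pi.smul_apply, single_apply, smul_eq_mul]
    simp only [e0, en, Pi.single_apply, eq_comm (a := (0 : Fin (m + 3))),
      eq_comm (a := Fin.last (m + 2))]
    split_ifs <;> simp_all
  have hu0 : (u : Matrix (Fin (m + 3)) (Fin (m + 3)) F) *ᵥ e0 = e0 := by
    simp only [u, e0, regUnip_val, add_mulVec, one_mulVec, hJ0, add_zero]
  have hu1 : (u : Matrix (Fin (m + 3)) (Fin (m + 3)) F) *ᵥ Pi.single 1 1 = e0 + Pi.single 1 1 := by
    simp only [u, e0, regUnip_val, add_mulVec, one_mulVec, hJ1]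
    abel
  have hu2 : (u : Matrix (Fin (m + 3)) (Fin (m + 3)) F) *ᵥ Pi.single 2 1 =
      Pi.single 1 1 + Pi.single 2 1 := by
    simp only [u, regUnip_val, add_mulVec, one_mulVec, hJ2]
    abel
  have huinv : ∀ a b : Fin (m + 3) → F, (u : Matrix (Fin (m + 3)) (Fin (m + 3)) F) *ᵥ a = b →
      ((u⁻¹ : SpecialLinearGroup (Fin (m + 3)) F) : Matrix (Fin (m + 3)) (Fin (m + 3)) F) *ᵥ b =
        a := by
    rintro a b rfl
    rw [mulVec_mulVec, ← val_mul, inv_mul_cancel, val_one, one_mulVec]
  -- the bottom row of `K⁻¹` is `σ` times the top unit row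
  have hrow : en ᵥ* ((K⁻¹ : SpecialLinearGroup (Fin (m + 3)) F) :
      Matrix (Fin (m + 3)) (Fin (m + 3)) F) = σ • Pi.single 0 1 := by
    have h := congrArg (fun r => r ᵥ* ((K⁻¹ : SpecialLinearGroup (Fin (m + 3)) F) :
      Matrix (Fin (m + 3)) (Fin (m + 3)) F)) hKr
    simp only [vecMul_vecMul, ← val_mul, mul_inv_cancel, val_one, vecMul_one] at h
    exact h.symm
  have hentry : ∀ (w : SpecialLinearGroup (Fin (m + 3)) F) (x : Fin (m + 3) → F),
      en ⬝ᵥ (((K⁻¹ * w * K : SpecialLinearGroup (Fin (m + 3)) F) :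
        Matrix (Fin (m + 3)) (Fin (m + 3)) F) *ᵥ x) =
        σ * ((w : Matrix (Fin (m + 3)) (Fin (m + 3)) F) *ᵥ
          ((K : Matrix (Fin (m + 3)) (Fin (m + 3)) F) *ᵥ x)) 0 := by
    intro w x
    rw [val_mul, val_mul, ← mulVec_mulVec, ← mulVec_mulVec, dotProduct_mulVec, hrow,
      smul_dotProduct, single_dotProduct, one_mul, smul_eq_mul]
  have h02 : (0 : Fin (m + 3)) ≠ 2 := Fin.ne_of_val_ne (by rw [hv2]; simp)
  have h01 : (0 : Fin (m + 3)) ≠ 1 := Fin.ne_of_val_ne (by rw [hv1]; simp)
  let V := ((K⁻¹ * u * K : SpecialLinearGroup (Fin (m + 3)) F) :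
    Matrix (Fin (m + 3)) (Fin (m + 3)) F)
  let V' := (((K⁻¹ * u * K)⁻¹ : SpecialLinearGroup (Fin (m + 3)) F) :
    Matrix (Fin (m + 3)) (Fin (m + 3)) F)
  have hV' : (K⁻¹ * u * K)⁻¹ = K⁻¹ * u⁻¹ * K := by group
  have hb : en ⬝ᵥ (V *ᵥ e0) = σ := by
    rw [hentry, hK0, mulVec_add, hu1, hu2]
    simp [e0, h01, h02]
  have hg0 : (en ᵥ* V') ⬝ᵥ e0 = 0 := by
    rw [← dotProduct_mulVec]
    simp only [V', hV']
    rw [hentry, hK0, huinv (Pi.single 2 1) _ hu2]
    simp [h02]
  have hg1 : (en ᵥ* V') ⬝ᵥ Pi.single 1 1 = σ := by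
    rw [← dotProduct_mulVec]
    simp only [V', hV']
    rw [hentry, hK1, huinv (Pi.single 2 1 - Pi.single 1 1 + e0) _
      (by rw [mulVec_add, mulVec_sub, hu0, hu1, hu2]; abel)]
    simp [e0, h01, h02]
  have hgb : (en ᵥ* V') ⬝ᵥ (V *ᵥ e0) = 0 := by
    rw [dotProduct_mulVec, vecMul_vecMul, ← val_mul, inv_mul_cancel, val_one, vecMul_one]
    simp [en, e0, Pi.single_apply, Fin.ext_iff]
  have hene0 : en ⬝ᵥ e0 = 0 := by simp [en, e0, Pi.single_apply, Fin.ext_iff]
  let f : Fin (m + 3) → F := σ • (en ᵥ* V')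
  have hf0 : f 0 = 0 := by
    have := hg0
    simp [e0] at this
    simp [f, this]
  have hf1 : f 1 = 1 := by
    have := hg1
    simp at this
    simp [f, this, hσ]
  -- products of scalars
  have hmulT : ∀ a b : F, HasTransvec G e0 (a • en) → HasTransvec G e0 (b • en) →
      HasTransvec G e0 ((a * b) • f) := by
    intro a b ha hb'
    have h1 : HasTransvec G (V *ᵥ e0) ((b • en) ᵥ* V') := hb'.conj hv
    rw [smul_vecMul] at h1
    have h2 := HasTransvec.commutator (by rw [smul_dotProduct, hg0, smul_zero])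
      (by rw [smul_dotProduct, hene0, smul_zero]) (by rw [smul_dotProduct, hgb, smul_zero]) ha h1
    rw [smul_dotProduct, hb, smul_smul, smul_eq_mul] at h2
    convert h2 using 1
    simp only [f, smul_smul]
    congr 1
    ring
  -- the functionals `(a f) J^k`
  let A : Set (Fin (m + 3) → F) := {x | x 0 = 0 ∧ HasTransvec G e0 x}
  have hAadd : ∀ x y, x ∈ A → y ∈ A → x + y ∈ A := fun x y hx hy =>
    ⟨by simp [hx.1, hy.1], hx.2.add_right (by simpa [e0] using hx.1) hy.2⟩
  have hAneg : ∀ x, x ∈ A → -x ∈ A := by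
    intro x hx
    refine ⟨by simp [hx.1], ?_⟩
    obtain ⟨t, ht, et⟩ := hx.2
    refine ⟨t⁻¹, G.inv_mem ht, ?_⟩
    have key : ((1 : Matrix (Fin (m + 3)) (Fin (m + 3)) F) + vecMulVec e0 (-x)) * t = 1 := by
      rw [et]
      simp [add_mul, mul_add, vecMulVec_mul_vecMulVec, e0, hx.1, vecMulVec_neg]
    calc ((t⁻¹ : SpecialLinearGroup (Fin (m + 3)) F) : Matrix (Fin (m + 3)) (Fin (m + 3)) F)
        = ((1 + vecMulVec e0 (-x)) * t) * ((t⁻¹ : SpecialLinearGroup (Fin (m + 3)) F) :
            Matrix (Fin (m + 3)) (Fin (m + 3)) F) := by rw [key, one_mul]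
      _ = _ := by rw [mul_assoc, ← val_mul, mul_inv_cancel, val_one, mul_one]
  have hAJ : ∀ x, x ∈ A → x ᵥ* shiftMat (m + 3) F ∈ A := by
    intro x hx
    have h2 := hx.2.conj (G.inv_mem hu)
    rw [huinv e0 e0 hu0, inv_inv] at h2
    have h3 : x ᵥ* (u : Matrix (Fin (m + 3)) (Fin (m + 3)) F) ∈ A := by
      refine ⟨?_, h2⟩
      simp [u, vecMul_add, vecMul_shiftMat, hx.1]
    have := hAadd _ _ h3 (hAneg _ hx)
    simpa [u, vecMul_add] using this
  have hAJk : ∀ (k : ℕ) x, x ∈ A → x ᵥ* shiftMat (m + 3) F ^ k ∈ A := by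
    intro k
    induction k with
    | zero => intro x hx; simpa using hx
    | succ k ih =>
      intro x hx
      rw [pow_succ, ← vecMul_vecMul]
      exact hAJ _ (ih x hx)
  have hfk : ∀ (k : ℕ) (j : Fin (m + 3)), (f ᵥ* shiftMat (m + 3) F ^ k) j =
      if h : k ≤ j.val then f ⟨j.val - k, by omega⟩ else 0 := by
    intro k j
    simp only [vecMul, dotProduct, shiftMat_pow_apply]
    split
    · rename_i h
      rw [Finset.sum_eq_single ⟨j.val - k, by omega⟩]
      · rw [if_pos (show j.val - k + k = j.val by omega), mul_one]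
      · intro i _ hi
        rw [if_neg (fun e => hi (Fin.ext (show i.val = j.val - k by omega))), mul_zero]
      · simp
    · exact Finset.sum_eq_zero fun i _ => by rw [if_neg (by omega), mul_zero]
  have htop : f ᵥ* shiftMat (m + 3) F ^ (m + 1) = en := by
    ext j
    rw [hfk]
    rcases eq_or_ne j (Fin.last (m + 2)) with rfl | hj
    · rw [dif_pos (by simp)]
      simp [en]
      convert hf1
    · have : j.val < m + 2 := Fin.val_lt_last hj
      simp only [en, Pi.single_eq_of_ne hj]
      split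
      · convert hf0
        simp
        omega
      · rfl
  let L : Set F := {a | HasTransvec G e0 (a • en)}
  have hLmul : ∀ a b, a ∈ L → b ∈ L → a * b ∈ L := by
    intro a b ha hb'
    have := (hAJk (m + 1) _ ⟨by simp [hf0], hmulT a b ha hb'⟩).2
    rwa [smul_vecMul, htop] at this
  have hLpow : ∀ k : ℕ, (ω : F) ^ (k + 1) ∈ L := by
    intro k
    induction k with
    | zero => simpa [L] using hω0
    | succ k ih => rw [pow_succ]; exact hLmul _ _ ih hω0
  have hL : ∀ a, a ∈ L := by
    intro a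
    rcases eq_or_ne a 0 with rfl | ha
    · change HasTransvec G e0 _
      rw [zero_smul]; exact HasTransvec.zero_right e0
    · obtain ⟨k, hk⟩ := mem_powers_iff_mem_zpowers.2 (hω (Units.mk0 a ha))
      have hk' : (ω : F) ^ k = a := by simpa using congrArg Units.val hk
      cases k with
      | zero =>
        have := hLpow (orderOf ω - 1)
        rw [Nat.sub_add_cancel (orderOf_pos ω), ← Units.val_pow_eq_pow_val, pow_orderOf_eq_one] at this
        simpa [← hk'] using this
      | succ k => exact hk' ▸ hLpow k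
  have hfA : ∀ (a : F) (k : ℕ), a • (f ᵥ* shiftMat (m + 3) F ^ k) ∈ A := by
    intro a k
    rw [← smul_vecMul]
    refine hAJk k _ ⟨by simp [hf0], ?_⟩
    simpa using hmulT a 1 (hL a) (hL 1)
  have hbasis : ∀ (d : ℕ) (i : Fin (m + 3)), i.val + d = m + 2 → 0 < i.val →
      ∀ a : F, Pi.single i a ∈ A := by
    intro d
    induction d using Nat.strong_induction_on with
    | _ d ih =>
      intro i hi hi0 a
      have key : Pi.single i a = a • (f ᵥ* shiftMat (m + 3) F ^ (i.val - 1)) -
          ∑ j ∈ Finset.univ.filter (fun j : Fin (m + 3) => i < j),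
            Pi.single j (a * (f ᵥ* shiftMat (m + 3) F ^ (i.val - 1)) j) := by
        ext l
        rw [Pi.sub_apply, Finset.sum_apply, Pi.smul_apply, smul_eq_mul]
        simp only [Pi.single_apply, Finset.sum_ite_eq, Finset.mem_filter, Finset.mem_univ, true_and]
        rcases lt_trichotomy l i with h | h | h
        · rw [if_neg h.ne, if_neg h.not_gt, sub_zero, hfk]
          have : l.val < i.val := h
          split
          · rw [show (⟨l.val - (i.val - 1), by omega⟩ : Fin (m + 3)) = 0 from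
              Fin.ext (by simp; omega), hf0, mul_zero]
          · rw [mul_zero]
        · subst h
          rw [if_pos rfl, if_neg (lt_irrefl _), sub_zero, hfk, dif_pos (by omega),
            show (⟨l.val - (l.val - 1), by omega⟩ : Fin (m + 3)) = 1 from Fin.ext (by simp; omega),
            hf1, mul_one]
        · rw [if_neg h.ne', if_pos h, sub_self]
      rw [key, sub_eq_add_neg]
      refine hAadd _ _ (hfA a _) (hAneg _ ?_)
      refine Finset.sum_induction _ (· ∈ A) hAadd ⟨rfl, HasTransvec.zero_right e0⟩ fun j hj => ?_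
      have hij : i.val < j.val := (Finset.mem_filter.1 hj).2
      exact ih (m + 2 - j.val) (by omega) j (by omega) (by omega) _
  refine eq_top_of_centre G e0 ?_ ?_
  · intro x hx
    have hx0 : x 0 = 0 := by simpa [e0] using hx
    have : x ∈ A := by
      rw [← Finset.univ_sum_single x]
      refine Finset.sum_induction _ (· ∈ A) hAadd ⟨rfl, HasTransvec.zero_right e0⟩ fun j _ => ?_
      rcases Nat.eq_zero_or_pos j.val with h | h
      · rw [show j = 0 from Fin.ext h, hx0, Pi.single_zero]
        exact ⟨rfl, HasTransvec.zero_right e0⟩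
      · exact hbasis (m + 2 - j.val) j (by omega) h _
    exact this.2
  · intro W hW0 hWinv
    have hJ : ∀ (k : ℕ) v, v ∈ W → shiftMat (m + 3) F ^ k *ᵥ v ∈ W := by
      intro k
      induction k with
      | zero => intro v hv'; simpa using hv'
      | succ k ih =>
        intro v hv'
        rw [pow_succ', ← mulVec_mulVec]
        have h1 := W.sub_mem (hWinv u hu _ (ih v hv')) (ih v hv')
        simp only [u, regUnip_val, add_mulVec, one_mulVec, add_sub_cancel_left] at h1
        exact h1
    have hmain : ∀ i : ℕ, ∀ hi : i < m + 3, Pi.single (⟨i, hi⟩ : Fin (m + 3)) (1 : F) ∈ W := by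
      intro i
      induction i using Nat.strong_induction_on with
      | _ i ih =>
        intro hi
        let w := shiftMat (m + 3) F ^ (m + 2 - i) *ᵥ (V *ᵥ e0)
        have hw : w ∈ W := hJ _ _ (hWinv _ hv _ hW0)
        have hwk : ∀ k : Fin (m + 3), w k = if h : k.val + (m + 2 - i) < m + 3 then
            (V *ᵥ e0) ⟨k.val + (m + 2 - i), h⟩ else 0 := by
          intro k
          simp only [w, mulVec, dotProduct, shiftMat_pow_apply]
          split
          · rename_i h
            rw [Finset.sum_eq_single ⟨k.val + (m + 2 - i), h⟩]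
            · simp
            · intro j _ hj
              rw [if_neg (fun e => hj (Fin.ext e.symm)), zero_mul]
            · simp
          · exact Finset.sum_eq_zero fun j _ => by rw [if_neg (by omega), zero_mul]
        have key : Pi.single (⟨i, hi⟩ : Fin (m + 3)) (1 : F) =
            σ • (w - ∑ j ∈ Finset.univ.filter (fun j : Fin (m + 3) => j.val < i),
              w j • Pi.single j (1 : F)) := by
          ext l
          rw [Pi.smul_apply, Pi.sub_apply, Finset.sum_apply, smul_eq_mul]
          simp only [Pi.smul_apply, Pi.single_apply, smul_eq_mul, mul_ite, mul_one, mul_zero,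
            Finset.sum_ite_eq, Finset.mem_filter, Finset.mem_univ, true_and]
          rcases lt_trichotomy l.val i with h | h | h
          · rw [if_neg (fun e => h.ne (Fin.ext_iff.1 e)), if_pos h, sub_self, mul_zero]
          · rw [if_pos (Fin.ext h), if_neg (by omega), sub_zero, hwk, dif_pos (by omega),
              show (⟨l.val + (m + 2 - i), by omega⟩ : Fin (m + 3)) = Fin.last (m + 2) from
                Fin.ext (by simp; omega)]
            have := hb
            simp [en] at this
            rw [this, hσ]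
          · rw [if_neg (fun e => h.ne' (Fin.ext_iff.1 e)), if_neg (by omega), sub_zero, hwk, dif_neg (by omega), mul_zero]
        rw [key]
        refine W.smul_mem _ (W.sub_mem hw (W.sum_mem fun j hj => W.smul_mem _ ?_))
        exact ih j.val (Finset.mem_filter.1 hj).2 j.isLt
    refine (Submodule.eq_top_iff').2 fun x => ?_
    rw [pi_eq_sum_univ' x]
    exact W.sum_mem fun j _ => W.smul_mem _ (hmain j.val j.isLt)


/-- Let F be a finite field and n ≥ 3. Then SL_n(F) is generated by three conjugate regular unipotent elements: there are u with u − 1 nilpotent and (u − 1)^(n−1) ≠ 0, and g, h, such that u, g u g⁻¹ and h u h⁻¹ generate SL_n(F). -/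
theorem result {F : Type*} [Field F] [Fintype F] (n : ℕ) (hn : 3 ≤ n) :
    ∃ u g h : Matrix.SpecialLinearGroup (Fin n) F, (IsNilpotent ((u : Matrix (Fin n) (Fin n) F) - 1) ∧ ((u : Matrix (Fin n) (Fin n) F) - 1) ^ (n - 1) ≠ 0) ∧
      Subgroup.closure ({u, g * u * g⁻¹, h * u * h⁻¹} : Set (Matrix.SpecialLinearGroup (Fin n) F)) = ⊤ := by
  obtain ⟨m, rfl⟩ : ∃ m, n = m + 3 := ⟨n - 3, by omega⟩
  exact aux m

end Cfsg.Agent.S2280
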