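import Cfsg.Statements.S2286
import Cfsg.Agent.Lib.SLTwoPresent.Even

set_option autoImplicit false
open Cfsg

namespace Cfsg.Agent.S2286

/-- For every finite field F, SL_2(F) and PSL_2(F) have presentations with 3 generators and at most 9 relations; when F has characteristic 2, PSL_2(F) has a presentation with 3 generators and at most 5 relations. -/
theorem result {F : Type*} [Field F] [Fintype F] :
    (∃ rels : Finset (FreeGroup (Fin 3)), rels.card ≤ 9 ∧ Nonempty (PresentedGroup (↑rels : Set (FreeGroup (Fin 3))) ≃* Matrix.SpecialLinearGroup (Fin 2) F)) ∧ (∃ rels : Finset (FreeGroup (Fin 3)), rels.card ≤ 9 ∧ Nonempty (PresentedGroup (↑rels : Set (FreeGroup (Fin 3))) ≃* Matrix.ProjectiveSpecialLinearGroup (Fin 2) F)) ∧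
    (CharP F 2 → ∃ rels : Finset (FreeGroup (Fin 3)), rels.card ≤ 5 ∧ Nonempty (PresentedGroup (↑rels : Set (FreeGroup (Fin 3))) ≃* Matrix.ProjectiveSpecialLinearGroup (Fin 2) F)) := by
  classical
  obtain ⟨p, hp⟩ := CharP.exists F
  haveI : Fact p.Prime := ⟨CharP.char_is_prime F p⟩
  letI : Algebra (ZMod p) F := ZMod.algebra F p
  rcases eq_or_ne p 2 with rfl | hp2
  · obtain ⟨_, _, rels, hle, hP⟩ := CfsgLib.SLTwoPresent.even_main (F := F)
    obtain ⟨e⟩ := hP.nonempty
    have hc : Subgroup.center (Matrix.SpecialLinearGroup (Fin 2) F) = ⊥ := by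
      rw [← Subgroup.card_eq_one, Cfsg.Agent.Classical.card_center_sl 2 (by norm_num)]
      obtain ⟨ω, n, hq, -, hodd, -⟩ := CfsgLib.SLTwoPresent.exists_even_data (F := F)
      rw [hq, Nat.add_sub_cancel]
      exact Nat.coprime_iff_gcd_eq_one.1 (Nat.coprime_two_left.2 hodd)
    let e2 : Matrix.SpecialLinearGroup (Fin 2) F ≃* Matrix.ProjectiveSpecialLinearGroup (Fin 2) F :=
      (QuotientGroup.quotientBot).symm.trans (QuotientGroup.quotientMulEquivOfEq hc.symm)
    exact ⟨⟨rels, by omega, ⟨e⟩⟩, ⟨rels, by omega, ⟨e.trans e2⟩⟩, fun _ => ⟨rels, hle, ⟨e.trans e2⟩⟩⟩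
  · obtain ⟨_, _, h1, h2⟩ := CfsgLib.SLTwoPresent.odd_main (F := F) (p := p) hp2
    exact ⟨h1.imp fun _ h => h.imp_right CfsgLib.SLTwoPresent.Presents.nonempty, h2, fun h => absurd (CharP.eq F hp h) hp2⟩

end Cfsg.Agent.S2286
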