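import Cfsg.Statements.S2288
import Cfsg.Agent.Lib.SLPresent.Present
import Cfsg.Agent.Lib.SLPresent.Stab
import Cfsg.Agent.Lib.SLPresent.Small
import Cfsg.Agent.Lib.SymPresent.Main
import Cfsg.Agent.Lib.SpPresent.Result

set_option autoImplicit false
open Cfsg

namespace Cfsg.Agent.S2288

open CfsgLib.SymPresent CfsgLib.SLPresent

variable {F : Type*} [Field F] [Fintype F]

/-- The presentation on `m + 2` generators. -/
theorem exists_sl {n : ℕ} (hn : 4 ≤ n) {m r : ℕ} {v : Fin m → alternatingGroup (Fin n)}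
    (hv : HasPres v r) :
    ∃ w : Fin (m + 2) → Matrix.SpecialLinearGroup (Fin n) F, HasPres w (r + 16) := by
  obtain ⟨s, hs⟩ := exists_stabGen hn
  obtain ⟨w, hw⟩ := presentation (F := F) hn hv hs
  refine ⟨w ∘ finSumFinEquiv.symm, ?_⟩
  have h := hw.change (w ∘ finSumFinEquiv.symm) ∅ (fun i => FreeGroup.of (finSumFinEquiv i))
    (fun i => by simp) (fun j => FreeGroup.of (finSumFinEquiv.symm j)) (fun j => by simp)
    (fun j _ => by simp)
  simpa using h

/-- Padding with trivial generators. -/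
theorem pad {G : Type*} [Group G] {k r : ℕ} {v : Fin k → G} (h : HasPres v r) :
    ∀ d : ℕ, ∃ w : Fin (k + d) → G, HasPres w (r + d)
  | 0 => ⟨v, h⟩
  | d + 1 => by
    obtain ⟨w, hw⟩ := pad h d
    exact CfsgLib.SpPresent.hasPres_pad hw

theorem exists_psl {n : ℕ} (hn : 0 < n) {k r : ℕ}
    {w : Fin k → Matrix.SpecialLinearGroup (Fin n) F} (hw : HasPres w r) :
    ∃ rels : Finset (FreeGroup (Fin k)), rels.card ≤ r + 1 ∧
      Nonempty (PresentedGroup (↑rels : Set (FreeGroup (Fin k))) ≃*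
        Matrix.ProjectiveSpecialLinearGroup (Fin n) F) := by
  haveI : NeZero (Fintype.card (Fin n)) := ⟨by simp; omega⟩
  haveI : IsCyclic (Subgroup.center (Matrix.SpecialLinearGroup (Fin n) F)) :=
    isCyclic_of_surjective
      (Matrix.SpecialLinearGroup.center_equiv_rootsOfUnity' (R := F) (⟨0, hn⟩ : Fin n)).symm
      (MulEquiv.surjective _)
  obtain ⟨⟨z, hz⟩, hgen⟩ := IsCyclic.exists_generator
    (α := Subgroup.center (Matrix.SpecialLinearGroup (Fin n) F))
  refine (CfsgLib.SpPresent.hasPres_quotient hw _ hz fun x hx => ?_).nonempty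
  obtain ⟨l, hl⟩ := Subgroup.mem_zpowers_iff.1 (hgen ⟨x, hx⟩)
  exact Subgroup.mem_zpowers_iff.2 ⟨l, congrArg Subtype.val hl⟩

/-- Presentations of the alternating group small enough for the count. -/
theorem exists_alt {n : ℕ} (hn : 4 ≤ n) :
    ∃ (m r : ℕ) (v : Fin m → alternatingGroup (Fin n)), HasPres v r ∧ m ≤ 5 ∧ r + (5 - m) ≤ 9 := by
  rcases hn.eq_or_lt with rfl | h5
  · obtain ⟨v, hv⟩ := alt_four
    exact ⟨2, 3, v, hv, by norm_num, by norm_num⟩
  · obtain ⟨v, hv⟩ := three_gen n h5 true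
    exact ⟨3, 7, _, hv.map (altEquiv n), by norm_num, by norm_num⟩

/-- For every finite field F and n ≥ 4: SL_n(F) has a presentation with 7 generators and at most 25 relations, and PSL_n(F) one with 7 generators and at most 26 relations; moreover SL_4(F) has one with 6 generators and at most 21 relations and SL_5(F) one with 6 generators and at most 22 relations. -/
theorem result {F : Type*} [Field F] [Fintype F] (n : ℕ) (hn : 4 ≤ n) :
    (∃ rels : Finset (FreeGroup (Fin 7)), rels.card ≤ 25 ∧ Nonempty (PresentedGroup (↑rels : Set (FreeGroup (Fin 7))) ≃* Matrix.SpecialLinearGroup (Fin n) F)) ∧ (∃ rels : Finset (FreeGroup (Fin 7)), rels.card ≤ 26 ∧ Nonempty (PresentedGroup (↑rels : Set (FreeGroup (Fin 7))) ≃* Matrix.ProjectiveSpecialLinearGroup (Fin n) F)) ∧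
    (∃ rels : Finset (FreeGroup (Fin 6)), rels.card ≤ 21 ∧ Nonempty (PresentedGroup (↑rels : Set (FreeGroup (Fin 6))) ≃* Matrix.SpecialLinearGroup (Fin 4) F)) ∧ (∃ rels : Finset (FreeGroup (Fin 6)), rels.card ≤ 22 ∧ Nonempty (PresentedGroup (↑rels : Set (FreeGroup (Fin 6))) ≃* Matrix.SpecialLinearGroup (Fin 5) F)) := by
  obtain ⟨m, r, v, hv, hm, hr⟩ := exists_alt hn
  obtain ⟨w, hw⟩ := exists_sl (F := F) hn hv
  obtain ⟨d, hd⟩ : ∃ d, m + 2 + d = 7 := ⟨5 - m, by omega⟩
  obtain ⟨w', hw'⟩ := pad hw d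
  have hw'' : ∃ x : Fin 7 → Matrix.SpecialLinearGroup (Fin n) F, HasPres x 25 := by
    rw [← hd]; exact ⟨w', hw'.mono (by omega)⟩
  obtain ⟨x, hx⟩ := hw''
  refine ⟨hx.nonempty, exists_psl (by omega) hx, ?_, ?_⟩
  · obtain ⟨v4, hv4⟩ := alt_four
    obtain ⟨w4, hw4⟩ := exists_sl (F := F) le_rfl hv4
    obtain ⟨y, hy⟩ := pad hw4 2
    exact hy.nonempty.imp fun _ h => ⟨h.1.trans (by norm_num), h.2⟩
  · obtain ⟨v5, hv5⟩ := alt_five
    obtain ⟨w5, hw5⟩ := exists_sl (F := F) (show 4 ≤ 5 by norm_num) hv5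
    obtain ⟨y, hy⟩ := pad hw5 2
    exact hy.nonempty.imp fun _ h => ⟨h.1.trans (by norm_num), h.2⟩

end Cfsg.Agent.S2288
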