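import Cfsg.Statements.S2290
import Cfsg.Agent.S2288
import Cfsg.Agent.S2286
import Cfsg.Agent.S2287
import Cfsg.Agent.S2278
import Cfsg.Agent.Lib.RegUnip.TwoGenCases

set_option autoImplicit false
open Cfsg

namespace Cfsg.Agent.S2290

open CfsgLib.SymPresent CfsgLib.SLTwoPresent

variable {F : Type*} [Field F] [Fintype F]

/-- A generating pair of `SL_2(q)`, `q ≥ 4`. -/
theorem pair_two (hq : 4 ≤ Fintype.card F) :
    ∃ a b : Matrix.SpecialLinearGroup (Fin 2) F,
      Subgroup.closure ({a, b} : Set (Matrix.SpecialLinearGroup (Fin 2) F)) = ⊤ := by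
  classical
  obtain ⟨p, hp⟩ := CharP.exists F
  haveI : Fact p.Prime := ⟨CharP.char_is_prime F p⟩
  letI : Algebra (ZMod p) F := ZMod.algebra F p
  obtain ⟨π⟩ := CfsgLib.SLPresent.exists_params (F := F) p
  refine ⟨dd π.ω, uu 1 * ww, ?_⟩
  set a : Matrix.SpecialLinearGroup (Fin 2) F := dd π.ω with ha
  set b : Matrix.SpecialLinearGroup (Fin 2) F := uu 1 * ww with hb
  set K := Subgroup.closure ({a, b} : Set (Matrix.SpecialLinearGroup (Fin 2) F))
  have haK : a ∈ K := Subgroup.subset_closure (Or.inl rfl)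
  have hbK : b ∈ K := Subgroup.subset_closure (Or.inr rfl)
  have hne : (π.ω : F) ^ 2 - 1 ≠ 0 := by
    intro h0
    have h2 : ∀ t : F, t = 0 ∨ t = 1 ∨ t = (π.ω : F) := fun t => by
      rcases eq_or_ne t 0 with ht | ht
      · exact Or.inl ht
      obtain ⟨l, rfl⟩ := π.generate t ht
      rw [← Nat.mod_add_div l 2, pow_add, pow_mul, sub_eq_zero.1 h0, one_pow, mul_one]
      rcases Nat.mod_two_eq_zero_or_one l with e | e <;> simp [e]
    have hsub : (Finset.univ : Finset F) ⊆ {0, 1, (π.ω : F)} := fun t _ => by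
      simpa using h2 t
    have := (Finset.card_le_card hsub).trans Finset.card_le_three
    rw [Finset.card_univ] at this
    omega
  set c : F := (π.ω : F) ^ 2 - 1 with hc
  have huc : uu c ∈ K := by
    have h1 : a * (b * a * b⁻¹) = uu c := by
      have e : b * a * b⁻¹ = uu 1 * (dd π.ω)⁻¹ * (uu 1)⁻¹ := by
        rw [ha, hb, ← ww_conj π.ω]; group
      rw [e, show a * (uu 1 * (dd π.ω)⁻¹ * (uu 1)⁻¹) = (a * uu 1 * a⁻¹) * (uu 1)⁻¹ by rw [ha]; group,
        ha, dd_conj, mul_inv_eq_iff_eq_mul, ← uu_add, hc]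
      congr 1
      ring
    exact h1 ▸ mul_mem haK (mul_mem (mul_mem hbK haK) (inv_mem hbK))
  have hall : ∀ s : F, uu (c * s) ∈ K := by
    intro s
    obtain ⟨Q, rfl⟩ := π.surj_sq s
    induction Q using Polynomial.induction_on' with
    | add A B hA hB => rw [map_add, mul_add, uu_add]; exact mul_mem hA hB
    | monomial l z =>
      have hl : uu (c * ((π.ω : F) ^ 2) ^ l) ∈ K := by
        induction l with
        | zero => simpa using huc
        | succ l ih =>
          have h2 := mul_mem (mul_mem haK ih) (inv_mem haK)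
          rw [ha, dd_conj] at h2
          convert h2 using 2
          ring
      rw [Polynomial.aeval_monomial, ← ZMod.natCast_zmod_val z, map_natCast]
      induction z.val with
      | zero => simp [uu_zero]
      | succ m ih => rw [Nat.cast_succ, add_mul, one_mul, mul_add, uu_add]; exact mul_mem ih hl
  have huK : ∀ t, uu t ∈ K := fun t => by
    have := hall (c⁻¹ * t)
    rwa [mul_inv_cancel_left₀ hne] at this
  refine eq_top_of_uu huK ?_
  have h2 := mul_mem (inv_mem (huK 1)) hbK
  rwa [hb, inv_mul_cancel_left] at h2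

/-- A generating pair of the quotient changes a presentation by two relations. -/
theorem two_of_pres {n k r : ℕ}
    (h : ∃ rels : Finset (FreeGroup (Fin k)), rels.card ≤ r ∧
      Nonempty (PresentedGroup (↑rels : Set (FreeGroup (Fin k))) ≃*
        Matrix.ProjectiveSpecialLinearGroup (Fin n) F))
    (hg : ∃ a b : Matrix.SpecialLinearGroup (Fin n) F,
      Subgroup.closure ({a, b} : Set (Matrix.SpecialLinearGroup (Fin n) F)) = ⊤) (hr : r + 2 ≤ 80) :
    ∃ rels : Finset (FreeGroup (Fin 2)), rels.card ≤ 80 ∧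
      Nonempty (PresentedGroup (↑rels : Set (FreeGroup (Fin 2))) ≃*
        Matrix.ProjectiveSpecialLinearGroup (Fin n) F) := by
  obtain ⟨rels, hc, ⟨e⟩⟩ := h
  obtain ⟨a, b, hab⟩ := hg
  have hq := congrArg (Subgroup.map (QuotientGroup.mk'
    (Subgroup.center (Matrix.SpecialLinearGroup (Fin n) F)))) hab
  rw [MonoidHom.map_closure, Subgroup.map_top_of_surjective _ (QuotientGroup.mk'_surjective _),
    Set.image_pair] at hq
  have hp : HasPres (fun i => e (PresentedGroup.of i)) r := ⟨rels, hc, e, fun _ => rfl⟩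
  exact ((hp.pair hq).mono hr).nonempty

/-- For every finite field F with q elements and n ≥ 2, with q ≥ 4 when n = 2, the simple group PSL_n(F) has a presentation with 2 generators and at most 80 relations. -/
theorem result {F : Type*} [Field F] [Fintype F] (n : ℕ) (hn : 2 ≤ n) (h2 : n = 2 → 4 ≤ Fintype.card F) :
    ∃ rels : Finset (FreeGroup (Fin 2)), rels.card ≤ 80 ∧ Nonempty (PresentedGroup (↑rels : Set (FreeGroup (Fin 2))) ≃* Matrix.ProjectiveSpecialLinearGroup (Fin n) F) := by
  rcases hn.eq_or_lt with rfl | h3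
  · exact two_of_pres (Cfsg.Agent.S2286.result (F := F)).2.1 (pair_two (h2 rfl)) (by norm_num)
  rcases Nat.lt_or_ge n 4 with h4 | h4
  · obtain rfl : n = 3 := by omega
    obtain ⟨p, hp⟩ := CharP.exists F
    haveI : Fact p.Prime := ⟨CharP.char_is_prime F p⟩
    letI : Algebra (ZMod p) F := ZMod.algebra F p
    obtain ⟨rels, hc, ⟨e⟩⟩ := CfsgLib.SLThreePresent.main (F := F) (p := p)
    obtain ⟨u, g, -, -, hg⟩ := Cfsg.Agent.S2278.result (F := F)
    exact two_of_pres (Cfsg.Agent.S2288.exists_psl (by norm_num)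
      (w := fun i => e (PresentedGroup.of i)) ⟨rels, hc, e, fun _ => rfl⟩) ⟨_, _, hg⟩ (by norm_num)
  · haveI : NeZero n := ⟨by omega⟩
    obtain ⟨t, ht⟩ := CfsgLib.RegUnip.TwoGen.exists_two_generators (F := F) h4
    exact two_of_pres (Cfsg.Agent.S2288.result (F := F) n h4).2.1 ⟨_, _, ht⟩ (by norm_num)

end Cfsg.Agent.S2290
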