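import Cfsg.Statements.S2291
import Cfsg.Agent.Lib.SUPresent.Result
import Cfsg.Agent.Lib.TwoGen46.UniTwoGen

set_option autoImplicit false
open Cfsg

namespace Cfsg.Agent.S2291

/-- Let F be a field with q² elements and n ≥ 3 with (n, q) ≠ (3, 2). Then the simple group PSU_n(q) (for the standard Hermitian form) has a presentation with 2 generators and at most 80 relations. -/
theorem result {F : Type*} [Field F] [Fintype F] (q n : ℕ) (hF : Fintype.card F = q ^ 2) (hn : 3 ≤ n) (h32 : ¬ (n = 3 ∧ q = 2)) :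
    ∃ rels : Finset (FreeGroup (Fin 2)), rels.card ≤ 80 ∧ Nonempty (PresentedGroup (↑rels : Set (FreeGroup (Fin 2))) ≃* Cfsg.PSU n F q) := by
  have hq := CfsgLib.SUThreePresent.q_two_le hF
  obtain ⟨a, b, hab⟩ := CfsgLib.TwoGen46.psu_two_gen (n := n) hF hn (fun h h2 => h32 ⟨h, h2⟩)
  rcases hn.eq_or_lt with rfl | h4
  · obtain ⟨v, hv⟩ := CfsgLib.SUThreePresent.su_three (F := F) hF (by omega)
    obtain ⟨w, hw⟩ := CfsgLib.SUThreePresent.psu_of_su hF (by norm_num) hv
    exact CfsgLib.SUPresent.exists_rels (hw.pair hab) (by norm_num)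
  · obtain ⟨v, hv⟩ := CfsgLib.SUPresent.su_six hF h4
    obtain ⟨w, hw⟩ := CfsgLib.SUThreePresent.psu_of_su hF (by omega) hv
    exact CfsgLib.SUPresent.exists_rels (hw.pair hab) (by norm_num)

end Cfsg.Agent.S2291
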