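import Cfsg.Statements.S2411
import Cfsg.Agent.Lib.RegUnip.SpTwoGen
-- import your own Cfsg.Agent.* helpers here

set_option autoImplicit false
open Cfsg

namespace Cfsg.Agent.S2411

/-- The projective symplectic group `PSp_{2m}(q)` with `m ≥ 2` (and `q > 2` if `m = 2`) is generated by two of its elements. -/
theorem result {F : Type*} [Field F] [Fintype F] (m : ℕ) (hm : 2 ≤ m) (hF : m = 2 → 2 < Fintype.card F) :
    ∃ a b : Cfsg.PSp m F, Subgroup.closure ({a, b} : Set (Cfsg.PSp m F)) = ⊤ := by
  obtain ⟨M⟩ := CfsgLib.RegUnip.SpGen.exists_model (F := F) (n := m) (by omega)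
  obtain ⟨x, hx⟩ : ∃ x : Matrix.symplecticGroup (Fin m) F, Subgroup.closure {M.U, x} = ⊤ := by
    have hq : 2 ≤ Fintype.card F := Fintype.one_lt_card
    rcases hq.eq_or_lt with h | h
    · exact CfsgLib.RegUnip.SpTwoGen.two_small_field M (by by_contra hc; have := hF (by omega); omega) h.symm
    · exact CfsgLib.RegUnip.SpTwoGen.two_large_field M hm h
  refine ⟨QuotientGroup.mk' _ M.U, QuotientGroup.mk' _ x, ?_⟩
  have h := congrArg (Subgroup.map (QuotientGroup.mk' (Subgroup.center (Matrix.symplecticGroup (Fin m) F)))) hx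
  rw [MonoidHom.map_closure, Set.image_pair,
    Subgroup.map_top_of_surjective _ (QuotientGroup.mk'_surjective _)] at h
  exact h

end Cfsg.Agent.S2411
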