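import Cfsg.Statements.S2295
import Cfsg.Agent.Lib.OmegaPresent.Main
import Cfsg.Agent.S2288

set_option autoImplicit false
open Cfsg

namespace Cfsg.Agent.S2295

open CfsgLib.SymPresent CfsgLib.OmegaPresent

variable {F : Type*} [Field F] [Fintype F]

/-- The presentations on eight generators. -/
theorem core {n : ℕ} (hn : 4 ≤ n) {m r d B : ℕ} {v : Fin m → alternatingGroup (Fin n)}
    (hv : HasPres v r) (hd : m + 2 + 1 + d = 8) (hB : r + 16 + (if n = 4 then 3 else 2) + 4 + d ≤ B) :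
    (∃ rels : Finset (FreeGroup (Fin 8)), rels.card ≤ B ∧ Nonempty (PresentedGroup (↑rels : Set (FreeGroup (Fin 8))) ≃* ↥(Cfsg.Omega F (Cfsg.quadFormPlus n F)))) ∧
    (∃ rels : Finset (FreeGroup (Fin 8)), rels.card ≤ B + 1 ∧ Nonempty (PresentedGroup (↑rels : Set (FreeGroup (Fin 8))) ≃* Cfsg.POmega F (Cfsg.quadFormPlus n F))) := by
  obtain ⟨w, hw⟩ := Cfsg.Agent.S2288.exists_sl (F := F) hn hv
  obtain ⟨u, hu⟩ := omega_pres hn hw
  obtain ⟨x, hx⟩ := Cfsg.Agent.S2288.pad hu d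
  have h8 : ∃ y : Fin 8 → ↥(OmP n F), HasPres y B := by
    rw [← hd]; exact ⟨x, hx.mono hB⟩
  obtain ⟨y, hy⟩ := h8
  rw [← CfsgLib.Orth.plusQ_coe]
  refine ⟨hy.nonempty, ?_⟩
  obtain ⟨z, hz, hle⟩ := center_le_zpowers (F := F) hn
  exact (CfsgLib.SpPresent.hasPres_quotient hy _ hz hle).nonempty

/-- Let F be a finite field and n ≥ 4, and let Ω⁺_2n(F) be the commutator subgroup of the orthogonal group of the hyperbolic quadratic form Σ x_i y_i, with PΩ⁺_2n(F) its central quotient. Then Ω⁺_2n(F) has a presentation with 8 generators and at most 31 relations (at most 29 if n = 4 or 5), and PΩ⁺_2n(F) one with 8 generators and at most 32 relations (at most 30 if n = 4 or 5). -/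
theorem result {F : Type*} [Field F] [Fintype F] (n : ℕ) (hn : 4 ≤ n) :
    (∃ rels : Finset (FreeGroup (Fin 8)), rels.card ≤ 31 ∧ Nonempty (PresentedGroup (↑rels : Set (FreeGroup (Fin 8))) ≃* ↥(Cfsg.Omega F (Cfsg.quadFormPlus n F)))) ∧ (∃ rels : Finset (FreeGroup (Fin 8)), rels.card ≤ 32 ∧ Nonempty (PresentedGroup (↑rels : Set (FreeGroup (Fin 8))) ≃* Cfsg.POmega F (Cfsg.quadFormPlus n F))) ∧
    (n ≤ 5 → (∃ rels : Finset (FreeGroup (Fin 8)), rels.card ≤ 29 ∧ Nonempty (PresentedGroup (↑rels : Set (FreeGroup (Fin 8))) ≃* ↥(Cfsg.Omega F (Cfsg.quadFormPlus n F)))) ∧ (∃ rels : Finset (FreeGroup (Fin 8)), rels.card ≤ 30 ∧ Nonempty (PresentedGroup (↑rels : Set (FreeGroup (Fin 8))) ≃* Cfsg.POmega F (Cfsg.quadFormPlus n F)))) := by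
  obtain ⟨m, r, v, hv, hm, hr, hm4⟩ : ∃ (m r : ℕ) (v : Fin m → alternatingGroup (Fin n)),
      HasPres v r ∧ m ≤ 5 ∧ r + (5 - m) ≤ 9 ∧ (n = 4 → r + (5 - m) ≤ 6) := by
    rcases hn.eq_or_lt with rfl | h
    · obtain ⟨v, hv⟩ := CfsgLib.SLPresent.alt_four
      exact ⟨2, 3, v, hv, by norm_num, by norm_num, fun _ => by norm_num⟩
    · obtain ⟨m, r, v, hv, hm, hr⟩ := Cfsg.Agent.S2288.exists_alt hn
      exact ⟨m, r, v, hv, hm, hr, fun e => by omega⟩
  have h31 := core (F := F) hn hv (d := 5 - m) (B := 31) (by omega) (by split_ifs <;> omega)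
  refine ⟨h31.1, h31.2, fun h5 => ?_⟩
  rcases hn.eq_or_lt with rfl | h
  · obtain ⟨v, hv⟩ := CfsgLib.SLPresent.alt_four
    exact core (F := F) hn hv (d := 3) (B := 29) (by norm_num) (by norm_num)
  · obtain rfl : n = 5 := by omega
    obtain ⟨v, hv⟩ := CfsgLib.SLPresent.alt_five
    exact core (F := F) hn hv (d := 3) (B := 29) (by norm_num) (by norm_num)

end Cfsg.Agent.S2295
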