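import Cfsg.Statements.S2299
import Cfsg.Agent.Lib.SL2Char.Degrees

set_option autoImplicit false
open Cfsg

namespace Cfsg.Agent.S2299

/-- Over a finite field F with q elements, q odd, every irreducible complex character of SL₂ has degree 1, q, q + 1, q − 1, (q + 1)/2 or (q − 1)/2; and when q ≥ 5 (so that these six numbers are distinct) there are exactly one irreducible character of degree 1, one of degree q, (q − 3)/2 of degree q + 1, (q − 1)/2 of degree q − 1, two of degree (q + 1)/2 and two of degree (q − 1)/2. -/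
theorem result {F : Type*} [Field F] [Fintype F] (hodd : Odd (Fintype.card F)) :
    (∀ χ : Matrix.SpecialLinearGroup (Fin 2) F → ℂ, Cfsg.IsIrrCharacter (Matrix.SpecialLinearGroup (Fin 2) F) χ →
      χ 1 = 1 ∨ χ 1 = (Fintype.card F : ℂ) ∨ χ 1 = (Fintype.card F : ℂ) + 1 ∨ χ 1 = (Fintype.card F : ℂ) - 1 ∨
        χ 1 = (((Fintype.card F + 1) / 2 : ℕ) : ℂ) ∨ χ 1 = (((Fintype.card F - 1) / 2 : ℕ) : ℂ)) ∧
    (5 ≤ Fintype.card F →
      Nat.card {χ : Cfsg.IrrCharacter (Matrix.SpecialLinearGroup (Fin 2) F) // (χ : Matrix.SpecialLinearGroup (Fin 2) F → ℂ) 1 = 1} = 1 ∧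
      Nat.card {χ : Cfsg.IrrCharacter (Matrix.SpecialLinearGroup (Fin 2) F) // (χ : Matrix.SpecialLinearGroup (Fin 2) F → ℂ) 1 = (Fintype.card F : ℂ)} = 1 ∧
      Nat.card {χ : Cfsg.IrrCharacter (Matrix.SpecialLinearGroup (Fin 2) F) // (χ : Matrix.SpecialLinearGroup (Fin 2) F → ℂ) 1 = (Fintype.card F : ℂ) + 1} = (Fintype.card F - 3) / 2 ∧
      Nat.card {χ : Cfsg.IrrCharacter (Matrix.SpecialLinearGroup (Fin 2) F) // (χ : Matrix.SpecialLinearGroup (Fin 2) F → ℂ) 1 = (Fintype.card F : ℂ) - 1} = (Fintype.card F - 1) / 2 ∧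
      Nat.card {χ : Cfsg.IrrCharacter (Matrix.SpecialLinearGroup (Fin 2) F) // (χ : Matrix.SpecialLinearGroup (Fin 2) F → ℂ) 1 = (((Fintype.card F + 1) / 2 : ℕ) : ℂ)} = 2 ∧
      Nat.card {χ : Cfsg.IrrCharacter (Matrix.SpecialLinearGroup (Fin 2) F) // (χ : Matrix.SpecialLinearGroup (Fin 2) F → ℂ) 1 = (((Fintype.card F - 1) / 2 : ℕ) : ℂ)} = 2) := by
  classical
  obtain ⟨c, h, D⟩ := CfsgLib.SL2Char.exists_dsData hodd
  obtain ⟨α₀, θ₀, η₁, η₂, χ₁, χ₂, T⟩ := CfsgLib.SL2Char.exists_table D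
  have hd := D.card_eq
  refine ⟨fun χ hχ => ?_, fun hq => ⟨T.card_deg_one hq, T.card_deg_q, ?_, ?_, ?_, ?_⟩⟩
  · obtain ⟨ψ, rfl⟩ : ∃ ψ : Cfsg.IrrCharacter (Matrix.SpecialLinearGroup (Fin 2) F),
      (ψ : Matrix.SpecialLinearGroup (Fin 2) F → ℂ) = χ := ⟨⟨χ, hχ⟩, rfl⟩
    have h1 := Fintype.card_pos (α := F)
    rcases T.deg_cases ψ with ⟨-, d⟩ | ⟨-, d⟩ | ⟨-, d⟩ | ⟨-, d⟩ | ⟨-, d⟩ | ⟨-, d⟩
    · exact Or.inl (by simpa using (CfsgLib.SL2Char.apply_one_iff_charDegree ψ 1).2 d)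
    · exact Or.inr (Or.inl ((CfsgLib.SL2Char.apply_one_iff_charDegree ψ _).2 d))
    · exact Or.inr (Or.inr (Or.inl ((CfsgLib.SL2Char.apply_one_iff_succ ψ _).2 d)))
    · exact Or.inr (Or.inr (Or.inr (Or.inl ((CfsgLib.SL2Char.apply_one_iff_pred ψ h1).2 d))))
    · exact Or.inr (Or.inr (Or.inr (Or.inr (Or.inl ((CfsgLib.SL2Char.apply_one_iff_charDegree ψ _).2 (by omega))))))
    · exact Or.inr (Or.inr (Or.inr (Or.inr (Or.inr ((CfsgLib.SL2Char.apply_one_iff_charDegree ψ _).2 (by omega))))))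
  · rw [Nat.card_congr (Equiv.subtypeEquivRight T.deg_succ_iff)]
    have := T.card_ps
    omega
  · rw [Nat.card_congr (Equiv.subtypeEquivRight (T.deg_pred_iff hq))]
    have := T.card_ds
    omega
  · rw [Nat.card_congr (Equiv.subtypeEquivRight (T.deg_half_succ_iff hq))]
    exact CfsgLib.SL2Char.Table.card_pair T.eta_ne
  · rw [Nat.card_congr (Equiv.subtypeEquivRight (T.deg_half_pred_iff hq))]
    exact CfsgLib.SL2Char.Table.card_pair T.chi_ne

end Cfsg.Agent.S2299
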