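import Cfsg.Statements.S2300
import Cfsg.Agent.Lib.SL2Char.Even

set_option autoImplicit false
open Cfsg

namespace Cfsg.Agent.S2300

/-- Over a finite field F with q elements, q even, every irreducible complex character of SL₂ has degree 1, q − 1, q or q + 1; and when q ≥ 4 (so that these four numbers are distinct) there are exactly one irreducible character of degree 1, one of degree q, (q − 2)/2 of degree q + 1 and q/2 of degree q − 1. -/
theorem result {F : Type*} [Field F] [Fintype F] [CharP F 2] :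
    (∀ χ : Matrix.SpecialLinearGroup (Fin 2) F → ℂ, Cfsg.IsIrrCharacter (Matrix.SpecialLinearGroup (Fin 2) F) χ →
      χ 1 = 1 ∨ χ 1 = (Fintype.card F : ℂ) - 1 ∨ χ 1 = (Fintype.card F : ℂ) ∨ χ 1 = (Fintype.card F : ℂ) + 1) ∧
    (4 ≤ Fintype.card F →
      Nat.card {χ : Cfsg.IrrCharacter (Matrix.SpecialLinearGroup (Fin 2) F) // (χ : Matrix.SpecialLinearGroup (Fin 2) F → ℂ) 1 = 1} = 1 ∧
      Nat.card {χ : Cfsg.IrrCharacter (Matrix.SpecialLinearGroup (Fin 2) F) // (χ : Matrix.SpecialLinearGroup (Fin 2) F → ℂ) 1 = (Fintype.card F : ℂ)} = 1 ∧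
      Nat.card {χ : Cfsg.IrrCharacter (Matrix.SpecialLinearGroup (Fin 2) F) // (χ : Matrix.SpecialLinearGroup (Fin 2) F → ℂ) 1 = (Fintype.card F : ℂ) + 1} = (Fintype.card F - 2) / 2 ∧
      Nat.card {χ : Cfsg.IrrCharacter (Matrix.SpecialLinearGroup (Fin 2) F) // (χ : Matrix.SpecialLinearGroup (Fin 2) F → ℂ) 1 = (Fintype.card F : ℂ) - 1} = Fintype.card F / 2) := by
  classical
  let q := Fintype.card F
  have hq : 2 ≤ q := Fintype.one_lt_card
  let G := Matrix.SpecialLinearGroup (Fin 2) F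
  let d : Cfsg.IrrCharacter G → ℕ := fun χ => Cfsg.charDegree (χ : G → ℂ)
  have hd : ∀ χ : Cfsg.IrrCharacter G, (χ : G → ℂ) 1 = (d χ : ℂ) := fun χ =>
    CfsgLib.LinearTwist.apply_one_eq_charDegree (CfsgLib.Characters.irr_isCharacter χ)
  have hsq : ∑ χ : Cfsg.IrrCharacter G, d χ ^ 2 = (q + 1) * (q * (q - 1)) := by
    have h1 := CfsgLib.Characters.sum_sq_degrees (G := G)
    rw [CfsgLib.Chars17.SLTwoEven.card_sl] at h1
    simp only [hd] at h1
    exact_mod_cast h1
  have hcases : ∀ χ : Cfsg.IrrCharacter G, d χ = 1 ∨ d χ = q - 1 ∨ d χ = q ∨ d χ = q + 1 := by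
    intro χ
    by_cases h4 : 4 ≤ q
    · have hm : d χ ∈ Cfsg.charDegrees G := ⟨χ, rfl⟩
      rw [CfsgLib.Chars17.SLTwoEven.degrees h4] at hm
      simpa using hm
    · obtain ⟨n, hn⟩ := FiniteField.card F 2
      have hq2 : q = 2 := by
        have h2 : q = 2 ^ (n : ℕ) := hn.2
        rcases Nat.lt_or_ge (n : ℕ) 2 with hlt | hge
        · have : (n : ℕ) = 1 := by have := n.pos; omega
          rw [h2, this, pow_one]
        · have : 2 ^ 2 ≤ 2 ^ (n : ℕ) := Nat.pow_le_pow_right (by norm_num) hge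
          omega
      have hle := Finset.single_le_sum (f := fun χ => d χ ^ 2) (fun i _ => Nat.zero_le _) (Finset.mem_univ χ)
      rw [hsq, hq2] at hle
      have h3 : d χ < 3 := by
        by_contra h3
        have := Nat.pow_le_pow_left (show 3 ≤ d χ by omega) 2
        omega
      have h0 : 0 < d χ := CfsgLib.Chars17.irrDegree_pos χ
      omega
  refine ⟨fun χ hχ => ?_, fun h4 => ?_⟩
  · have e : χ 1 = (d ⟨χ, hχ⟩ : ℂ) := hd ⟨χ, hχ⟩
    rw [e]
    rcases hcases ⟨χ, hχ⟩ with h | h | h | h <;> rw [h]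
    · exact Or.inl Nat.cast_one
    · exact Or.inr (Or.inl (by rw [Nat.cast_sub (by omega), Nat.cast_one]))
    · exact Or.inr (Or.inr (Or.inl rfl))
    · exact Or.inr (Or.inr (Or.inr (by push_cast; rfl)))
  have h4' : 4 ≤ q := h4
  let st : Cfsg.IrrCharacter G := ⟨_, CfsgLib.SL2Char.isIrrCharacter_steinberg⟩
  let u : G := (CfsgLib.SL2Tori.bEl (1 : Fˣ) (1 : F) : G)
  let S : ℕ → Finset (Cfsg.IrrCharacter G) := fun k => Finset.univ.filter fun χ => d χ = k
  have cq : (S q).card = 1 := Finset.card_eq_one.2 ⟨st, by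
    ext χ
    simp only [S, Finset.mem_filter, Finset.mem_univ, true_and, Finset.mem_singleton]
    refine ⟨fun h => Subtype.ext (CfsgLib.SL2Char.eq_steinberg_of_degree χ (by rw [hd, h])), ?_⟩
    rintro rfl
    exact CfsgLib.LinearTwist.charDegree_eq_of_apply_one CfsgLib.SL2Char.steinberg_one⟩
  let one : Cfsg.IrrCharacter G := ⟨fun _ => 1, CfsgLib.Characters.isIrrCharacter_one⟩
  have hu1 : ∀ χ : Cfsg.IrrCharacter G, d χ = 1 → χ = one := by
    intro χ h
    obtain ⟨a, b, h1, hu⟩ := CfsgLib.Chars17.SLTwoEven.exists_ab χ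
    obtain ⟨r, hr⟩ : ∃ r, q = r + 1 := ⟨q - 1, by omega⟩
    have e : a + b * r = 1 := by
      rw [hd, h] at h1
      have hr' : (Fintype.card F : ℂ) - 1 = (r : ℂ) := by
        rw [show Fintype.card F = r + 1 from hr]; push_cast; ring
      rw [hr'] at h1
      exact_mod_cast h1.symm
    have hb : b = 0 := by
      rcases Nat.eq_zero_or_pos b with hb | hb
      · exact hb
      · have := Nat.le_mul_of_pos_left r hb; omega
    exact Subtype.ext (CfsgLib.Chars17.SLTwoEven.eq_one_of_uni χ (by rw [h1, hu, hb]; simp))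
  have c1 : (S 1).card = 1 := Finset.card_eq_one.2 ⟨one, by
    ext χ
    simp only [S, Finset.mem_filter, Finset.mem_univ, true_and, Finset.mem_singleton]
    exact ⟨hu1 χ, by rintro rfl; simp [d, one, Cfsg.charDegree]⟩⟩
  have split : ∀ f : Cfsg.IrrCharacter G → ℂ, ∑ χ, f χ =
      ∑ χ ∈ S 1, f χ + ∑ χ ∈ S (q - 1), f χ + ∑ χ ∈ S q, f χ + ∑ χ ∈ S (q + 1), f χ := by
    intro f
    simp only [S, Finset.sum_filter, ← Finset.sum_add_distrib]
    refine Finset.sum_congr rfl fun χ _ => ?_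
    rcases hcases χ with h | h | h | h <;> simp only [h] <;> split_ifs <;> first | omega | simp
  have hone : ¬ IsConj u 1 := fun h => by
    have := congrArg (fun g : G => (g : Matrix (Fin 2) (Fin 2) F) 0 1) (isConj_one_left.1 h)
    simp [u] at this
  have e2 := CfsgLib.Characters.column_orth u 1
  rw [if_neg hone, split] at e2
  simp only [CfsgLib.Chars17.conj_irr_one] at e2
  have val : ∀ (k : ℕ) (v : ℂ), (∀ χ ∈ S k, (χ : G → ℂ) u = v) →
      ∑ χ ∈ S k, (χ : G → ℂ) u * (χ : G → ℂ) 1 = (S k).card * (v * k) := by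
    intro k v h
    rw [Finset.sum_congr rfl (g := fun _ => v * (k : ℂ)) fun χ hχ => by
      rw [h χ hχ, hd, (Finset.mem_filter.1 hχ).2], Finset.sum_const, nsmul_eq_mul]
  rw [val 1 1 (fun χ hχ => by rw [hu1 χ (Finset.mem_filter.1 hχ).2]),
    val q 0 (fun χ hχ => (CfsgLib.SL2Char.value_uni_of_degree χ).1 (by rw [hd, (Finset.mem_filter.1 hχ).2])),
    val (q - 1) (-1) (fun χ hχ => (CfsgLib.SL2Char.value_uni_of_degree χ).2.2 h4
      (by rw [hd, (Finset.mem_filter.1 hχ).2, Nat.cast_sub (by omega), Nat.cast_one])),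
    val (q + 1) 1 (fun χ hχ => (CfsgLib.SL2Char.value_uni_of_degree χ).2.1 h4
      (by rw [hd, (Finset.mem_filter.1 hχ).2, Nat.cast_add, Nat.cast_one])), c1, cq] at e2
  have e1 : ((∑ χ : Cfsg.IrrCharacter G, d χ ^ 2 : ℕ) : ℂ) = _ := congrArg Nat.cast hsq
  rw [Nat.cast_sum, split] at e1
  have val' : ∀ k : ℕ, ∑ χ ∈ S k, ((d χ ^ 2 : ℕ) : ℂ) = (S k).card * (k : ℂ) ^ 2 := by
    intro k
    rw [Finset.sum_congr rfl (g := fun _ => (k : ℂ) ^ 2) fun χ hχ => by
      rw [(Finset.mem_filter.1 hχ).2, Nat.cast_pow], Finset.sum_const, nsmul_eq_mul]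
  rw [val', val', val', val', c1, cq] at e1
  push_cast [Nat.cast_sub (show 1 ≤ q by omega)] at e1 e2
  set N0 : ℂ := ((S (q - 1)).card : ℂ)
  set N2 : ℂ := ((S (q + 1)).card : ℂ)
  have hqc : (q : ℂ) ≠ 0 := Nat.cast_ne_zero.2 (by omega)
  have hq1 : (q : ℂ) - 1 ≠ 0 := sub_ne_zero.2 (by exact_mod_cast (show q ≠ 1 by omega))
  have hp1 : (q : ℂ) + 1 ≠ 0 := by exact_mod_cast (show q + 1 ≠ 0 by omega)
  have k0 : N0 * 2 = q := by
    refine mul_left_cancel₀ (mul_ne_zero hqc hq1) ?_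
    linear_combination -e1 * (-1) - (q + 1) * e2
  have k2 : N2 * 2 + 2 = q := by
    refine mul_left_cancel₀ hp1 ?_
    linear_combination 2 * e2 + ((q : ℂ) - 1) * k0
  have k0' : (S (q - 1)).card * 2 = q := by exact_mod_cast (show ((S (q - 1)).card : ℂ) * 2 = q from k0)
  have k2' : (S (q + 1)).card * 2 + 2 = q := by exact_mod_cast (show ((S (q + 1)).card : ℂ) * 2 + 2 = q from k2)
  have tr : ∀ (k : ℕ) (z : ℂ), z = (k : ℂ) →
      Nat.card {χ : Cfsg.IrrCharacter G // (χ : G → ℂ) 1 = z} = (S k).card := by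
    intro k z hz
    rw [Nat.card_eq_fintype_card, Fintype.card_subtype, hz]
    refine congrArg Finset.card (Finset.filter_congr fun χ _ => ?_)
    rw [hd, Nat.cast_inj]
  refine ⟨(tr 1 1 Nat.cast_one.symm).trans c1, (tr q _ rfl).trans cq, (tr (q + 1) _ (by push_cast; rfl)).trans ?_,
    (tr (q - 1) _ (by rw [Nat.cast_sub (by omega), Nat.cast_one])).trans ?_⟩
  · show _ = (q - 2) / 2
    omega
  · show _ = q / 2
    omega

end Cfsg.Agent.S2300
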