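import Cfsg.Statements.S2302
import Cfsg.Agent.Lib.Chars17.SLTwoEven
import Cfsg.Agent.Lib.TwoByTwo.Companion
-- import your own Cfsg.Agent.* helpers here

set_option autoImplicit false
open Cfsg

namespace Cfsg.Agent.S2302

open Matrix CfsgLib.TwoByTwo CfsgLib.Chars17.SLTwoEven

/-- In characteristic two the involutions are conjugate to `[[1, 1], [0, 1]]`. -/
theorem isConj_uni_of_involution {F : Type*} [Field F] [Fintype F] [CharP F 2]
    (g : Matrix.SpecialLinearGroup (Fin 2) F) (hg : orderOf g = 2) : IsConj (uni 1) g := by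
  have h2 : (2 : F) = 0 := CharTwo.two_eq_zero
  obtain ⟨A, hA⟩ : ∃ A, A = (g : Matrix (Fin 2) (Fin 2) F) := ⟨_, rfl⟩
  have hd : A.det = 1 := hA ▸ g.det_coe
  have hne : A ≠ 1 := fun e => by
    have : g = 1 := Subtype.ext (hA ▸ e)
    rw [this, orderOf_one] at hg
    exact absurd hg (by norm_num)
  have hsq : A * A = 1 := by
    rw [hA, ← Matrix.SpecialLinearGroup.coe_mul, show g * g = 1 by rw [← sq]; have := pow_orderOf_eq_one g; rwa [hg] at this]
    rfl
  have e := fun i j => congrFun (congrFun hsq i) j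
  have e00 := e 0 0; have e01 := e 0 1; have e10 := e 1 0; have e11 := e 1 1
  simp [Matrix.mul_apply, Fin.sum_univ_two] at e00 e01 e10 e11
  rw [det_fin_two] at hd
  have hns : ¬ IsScal A := by
    rintro ⟨h01, h10, hh⟩
    refine hne ?_
    rw [h01, zero_mul, sub_zero, ← hh, ← sq] at hd
    rw [eq_smul_one_of_isScal ⟨h01, h10, hh⟩,
      CharTwo.sq_injective (R := F) (a₁ := A 0 0) (a₂ := 1) (by simpa using hd), one_smul]
  have ht : A.trace = 0 := by
    rw [trace_fin_two]
    refine CharTwo.sq_injective (R := F) (a₁ := A 0 0 + A 1 1) (a₂ := 0) ?_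
    show (A 0 0 + A 1 1) ^ 2 = 0 ^ 2
    linear_combination e00 + e11 + 2 * hd + 2 * h2
  have hu : ¬ IsScal ((uni (1 : F)) : Matrix (Fin 2) (Fin 2) F) := by simp [IsScal]
  obtain ⟨P, hP, heP⟩ := exists_similar A hns
  obtain ⟨Q, hQ, heQ⟩ := exists_similar _ hu
  rw [show ((uni (1 : F)) : Matrix (Fin 2) (Fin 2) F).trace = 0 by simp [trace_fin_two, CharTwo.add_self_eq_zero],
    Matrix.SpecialLinearGroup.det_coe] at heQ
  rw [ht, show A.det = 1 from (det_fin_two A).trans hd] at heP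
  have hR : (P * Q⁻¹).det ≠ 0 := by
    rw [det_mul, det_nonsing_inv, Ring.inverse_eq_inv']
    exact mul_ne_zero hP (inv_ne_zero hQ)
  obtain ⟨s, hs⟩ := (Finite.injective_iff_bijective.mp (CharTwo.sq_injective (R := F))).2 (P * Q⁻¹).det
  simp only at hs
  have hs0 : s ≠ 0 := fun h => hR (by rw [← hs, h]; simp)
  let R : Matrix.SpecialLinearGroup (Fin 2) F :=
    ⟨s⁻¹ • (P * Q⁻¹), by
      rw [det_smul, Fintype.card_fin, ← hs, inv_pow, inv_mul_cancel₀ (pow_ne_zero 2 hs0)]⟩
  refine isConj_iff.2 ⟨R, ?_⟩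
  rw [mul_inv_eq_iff_eq_mul]
  refine Subtype.ext ?_
  rw [Matrix.SpecialLinearGroup.coe_mul, Matrix.SpecialLinearGroup.coe_mul, ← hA]
  change s⁻¹ • (P * Q⁻¹) * (uni 1 : Matrix.SpecialLinearGroup (Fin 2) F).1 = A * (s⁻¹ • (P * Q⁻¹))
  have hQu : IsUnit Q.det := isUnit_iff_ne_zero.2 hQ
  have key : Q⁻¹ * (uni 1 : Matrix.SpecialLinearGroup (Fin 2) F).1 = comp2 0 1 * Q⁻¹ := by
    calc _ = Q⁻¹ * ((uni 1 : Matrix.SpecialLinearGroup (Fin 2) F).1 * Q) * Q⁻¹ := by
          simp only [Matrix.mul_assoc, Matrix.mul_nonsing_inv _ hQu, Matrix.mul_one]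
      _ = _ := by rw [heQ, ← Matrix.mul_assoc, Matrix.nonsing_inv_mul _ hQu, Matrix.one_mul]
  rw [Matrix.smul_mul, Matrix.mul_smul, Matrix.mul_assoc, key, ← Matrix.mul_assoc, ← heP, Matrix.mul_assoc]

/-- Over a finite field with q elements of characteristic 2, the involutions of SL₂ (the non-identity unipotent elements) form a single conjugacy class, of size q² − 1. -/
theorem result {F : Type*} [Field F] [Fintype F] [CharP F 2] (g h : Matrix.SpecialLinearGroup (Fin 2) F) (hg : orderOf g = 2) (hh : orderOf h = 2) :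
    IsConj g h ∧ Nat.card (ConjClasses.mk g).carrier = Fintype.card F ^ 2 - 1 := by
  have hg' := isConj_uni_of_involution g hg
  refine ⟨hg'.symm.trans (isConj_uni_of_involution h hh), ?_⟩
  rw [show ConjClasses.mk g = ConjClasses.mk (uni (1 : F)) from
    ConjClasses.mk_eq_mk_iff_isConj.2 hg'.symm]
  rw [Nat.card_congr (Equiv.subtypeEquivRight (q := fun x => IsConj (uni (1 : F)) x) fun x => by
    rw [ConjClasses.mem_carrier_iff_mk_eq, ConjClasses.mk_eq_mk_iff_isConj, isConj_comm]),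
    CfsgLib.Characters.card_isConj_eq_index]
  have h1 := Subgroup.card_mul_index (Subgroup.centralizer ({uni (1 : F)} : Set (SL F)))
  rw [card_centralizer_uni_one, card_sl] at h1
  refine Nat.eq_of_mul_eq_mul_left (Fintype.card_pos (α := F)) (h1.trans ?_)
  obtain ⟨r, hr⟩ : ∃ r, Fintype.card F = r + 1 :=
    ⟨Fintype.card F - 1, by have := Fintype.card_pos (α := F); omega⟩
  rw [hr, Nat.add_sub_cancel, show (r + 1) ^ 2 - 1 = r * (r + 2) by
    rw [show (r + 1) ^ 2 = r * (r + 2) + 1 by ring, Nat.add_sub_cancel]]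
  ring

end Cfsg.Agent.S2302
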