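import Cfsg.Statements.S2307
import Cfsg.Agent.Lib.SL2Char.Values

set_option autoImplicit false
open Cfsg

namespace Cfsg.Agent.S2307

/-- Over a finite field F with q elements, q odd, let α be the multiplicative character of F of order 2. The character of SL₂ induced from the linear character b ↦ α(b₁₁) of the upper triangular subgroup is the sum of two distinct irreducible characters, each of degree (q + 1)/2, which are conjugate under GL₂: some fixed element of GL₂ conjugates the one into the other. -/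
theorem result {F : Type*} [Field F] [Fintype F] [DecidableEq F] (hodd : Odd (Fintype.card F)) (α : MulChar F ℂ)
    (hα : α ^ 2 = 1) (hα1 : α ≠ 1) :
    ∃ χ₁ χ₂ : Matrix.SpecialLinearGroup (Fin 2) F → ℂ, Cfsg.IsIrrCharacter (Matrix.SpecialLinearGroup (Fin 2) F) χ₁ ∧ Cfsg.IsIrrCharacter (Matrix.SpecialLinearGroup (Fin 2) F) χ₂ ∧ χ₁ ≠ χ₂ ∧
      Cfsg.indFun ((Cfsg.upperTriangularGL 2 F).comap Matrix.SpecialLinearGroup.toGL) (fun b => α (((b : Matrix.SpecialLinearGroup (Fin 2) F) : Matrix (Fin 2) (Fin 2) F) 0 0)) = χ₁ + χ₂ ∧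
      χ₁ 1 = (((Fintype.card F + 1) / 2 : ℕ) : ℂ) ∧ χ₂ 1 = (((Fintype.card F + 1) / 2 : ℕ) : ℂ) ∧
      ∃ x : Matrix.GeneralLinearGroup (Fin 2) F, ∀ g h : Matrix.SpecialLinearGroup (Fin 2) F,
        Matrix.SpecialLinearGroup.toGL h = x * Matrix.SpecialLinearGroup.toGL g * x⁻¹ → χ₂ h = χ₁ g := by
  classical
  obtain ⟨c, h, D⟩ := CfsgLib.SL2Char.exists_dsData hodd
  obtain ⟨α₀, θ₀, η₁, η₂, χ₁, χ₂, T⟩ := CfsgLib.SL2Char.exists_table D
  obtain rfl : α = α₀ := ((T.alpha_sq α).1 hα).resolve_left hα1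
  obtain ⟨e, he⟩ := CfsgLib.SL2Char.exists_nonsquare_unit hodd
  have hsw := (T.swapped he).1
  have hdeg : ∀ η : Cfsg.IrrCharacter (Matrix.SpecialLinearGroup (Fin 2) F), η = η₁ ∨ η = η₂ →
      (η : Matrix.SpecialLinearGroup (Fin 2) F → ℂ) 1 = (((Fintype.card F + 1) / 2 : ℕ) : ℂ) := by
    intro η hη
    rw [CfsgLib.SL2Char.apply_one_iff_charDegree]
    have := T.eta_deg₁; have := T.eta_deg₂
    rcases hη with rfl | rfl <;> omega
  refine ⟨η₁, η₂, η₁.2, η₂.2, fun h' => T.eta_ne (Subtype.ext h'), T.eta_sum, hdeg η₁ (Or.inl rfl),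
    hdeg η₂ (Or.inr rfl),
    ⟨⟨!![(e : F), 0; 0, 1], !![((e⁻¹ : Fˣ) : F), 0; 0, 1], by simp [Matrix.one_fin_two], by simp [Matrix.one_fin_two]⟩,
      fun g k hk => ?_⟩⟩
  have hk' : k = CfsgLib.SL2Char.twist e g := by
    refine Subtype.ext ?_
    have h' := congrArg (fun z : Matrix.GeneralLinearGroup (Fin 2) F => (z : Matrix (Fin 2) (Fin 2) F)) hk
    simp only [Units.val_mul, Units.inv_mk, Units.val_mk, Matrix.SpecialLinearGroup.toGL] at h'
    rw [CfsgLib.SL2Char.twist_apply]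
    refine h'.trans ?_
    ext i j
    fin_cases i <;> fin_cases j <;> simp [Matrix.mul_apply, Matrix.vecMul, dotProduct, Fin.sum_univ_two, mul_comm, mul_assoc, mul_left_comm]
  rw [hk', hsw.map_right]

end Cfsg.Agent.S2307
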