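import Cfsg.Statements.S2308
import Cfsg.Agent.Lib.GL2Char.Principal
import Cfsg.Agent.Lib.Characters.PermChar
-- import your own Cfsg.Agent.* helpers here

set_option autoImplicit false
open Cfsg

namespace Cfsg.Agent.S2308

/-- Values of the permutation character of GL₂ over a finite field F with q elements on the cosets of its upper triangular subgroup (equivalently, the number of lines of F² that an element maps to themselves): q + 1 at a scalar matrix, 2 at a diagonal matrix with two different diagonal entries, 0 at an element with no eigenvector in F², and 1 at an upper triangular matrix with equal diagonal entries and non-zero upper right entry. -/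
theorem result {F : Type*} [Field F] [Fintype F] (g : Matrix.GeneralLinearGroup (Fin 2) F) :
    ((∃ a : F, (g : Matrix (Fin 2) (Fin 2) F) = a • (1 : Matrix (Fin 2) (Fin 2) F)) → Cfsg.fixedPointCharacter (Cfsg.upperTriangularGL 2 F) g = Fintype.card F + 1) ∧
    ((g : Matrix (Fin 2) (Fin 2) F) 0 1 = 0 → (g : Matrix (Fin 2) (Fin 2) F) 1 0 = 0 → (g : Matrix (Fin 2) (Fin 2) F) 0 0 ≠ (g : Matrix (Fin 2) (Fin 2) F) 1 1 →
      Cfsg.fixedPointCharacter (Cfsg.upperTriangularGL 2 F) g = 2) ∧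
    ((∀ (c : F) (v : Fin 2 → F), v ≠ 0 → (g : Matrix (Fin 2) (Fin 2) F).mulVec v ≠ c • v) → Cfsg.fixedPointCharacter (Cfsg.upperTriangularGL 2 F) g = 0) ∧
    ((g : Matrix (Fin 2) (Fin 2) F) 1 0 = 0 → (g : Matrix (Fin 2) (Fin 2) F) 0 0 = (g : Matrix (Fin 2) (Fin 2) F) 1 1 → (g : Matrix (Fin 2) (Fin 2) F) 0 1 ≠ 0 →
      Cfsg.fixedPointCharacter (Cfsg.upperTriangularGL 2 F) g = 1) := by
  classical
  have h : Cfsg.fixedPointCharacter (Cfsg.upperTriangularGL 2 F) g = CfsgLib.GL2Char.ps 1 1 g := by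
    have e : (CfsgLib.GL2Char.bChar 1 1 : Cfsg.upperTriangularGL 2 F → ℂ) = fun _ => 1 := by
      funext b
      simp only [CfsgLib.GL2Char.bChar]
      rw [MulChar.one_apply (isUnit_iff_ne_zero.2 (CfsgLib.GL2Char.B_diag_ne b).1),
        MulChar.one_apply (isUnit_iff_ne_zero.2 (CfsgLib.GL2Char.B_diag_ne b).2), mul_one]
    rw [CfsgLib.GL2Char.ps, e, CfsgLib.PermChar.indFun_one_eq_fixCount]
    rfl
  rw [h]
  have hd := g.det_ne_zero
  rw [Matrix.det_fin_two] at hd
  refine ⟨?_, ?_, ?_, ?_⟩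
  · rintro ⟨a, ha⟩
    rw [CfsgLib.GL2Char.ps_scalar 1 1 (g := g) (by simp [CfsgLib.TwoByTwo.IsScal, ha])]
    have : a ≠ 0 := fun e => hd (by simp [ha, e])
    simp [ha, MulChar.one_apply, this]
  · intro h01 h10 hne
    rw [CfsgLib.GL2Char.ps_diag 1 1 ⟨h01, h10, hne⟩]
    rw [h01, h10, mul_zero, sub_zero, mul_ne_zero_iff] at hd
    simp [MulChar.one_apply, hd.1, hd.2]
    norm_num
  · exact CfsgLib.GL2Char.ps_noEigen 1 1
  · intro h10 he h01
    rw [CfsgLib.GL2Char.ps_jordan 1 1 h10 he h01]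
    rw [h10, mul_zero, sub_zero, mul_ne_zero_iff] at hd
    simp [MulChar.one_apply, hd.1]

end Cfsg.Agent.S2308
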