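import Cfsg.Statements.S2309
import Cfsg.Agent.Lib.GL2Char.Table
-- import your own Cfsg.Agent.* helpers here

set_option autoImplicit false
open Cfsg

namespace Cfsg.Agent.S2309

/-- Over a finite field F with q elements: every irreducible complex character of GL₂ of degree q − 1 vanishes at every diagonal matrix with two distinct entries, and every irreducible complex character of degree q + 1 vanishes at every element with no eigenvector in F². -/
theorem result {F : Type*} [Field F] [Fintype F] (χ : Matrix.GeneralLinearGroup (Fin 2) F → ℂ) (hχ : Cfsg.IsIrrCharacter (Matrix.GeneralLinearGroup (Fin 2) F) χ) (g : Matrix.GeneralLinearGroup (Fin 2) F) :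
    (χ 1 = (Fintype.card F : ℂ) - 1 → (g : Matrix (Fin 2) (Fin 2) F) 0 1 = 0 → (g : Matrix (Fin 2) (Fin 2) F) 1 0 = 0 → (g : Matrix (Fin 2) (Fin 2) F) 0 0 ≠ (g : Matrix (Fin 2) (Fin 2) F) 1 1 → χ g = 0) ∧
    (χ 1 = (Fintype.card F : ℂ) + 1 → (∀ (c : F) (v : Fin 2 → F), v ≠ 0 → (g : Matrix (Fin 2) (Fin 2) F).mulVec v ≠ c • v) → χ g = 0) := by
  classical
  obtain ⟨d1, d2, d3⟩ := CfsgLib.GL2Char.degrees_apart (F := F)
  refine ⟨fun hd h01 h10 hne => ?_, fun hd hn => ?_⟩
  · have hq : 3 ≤ Fintype.card F := by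
      by_contra hlt
      have hc2 : Fintype.card F = 2 := by have := Fintype.one_lt_card (α := F); omega
      have h00 : (g : Matrix (Fin 2) (Fin 2) F) 0 0 ≠ 0 ∧ (g : Matrix (Fin 2) (Fin 2) F) 1 1 ≠ 0 :=
        CfsgLib.GL2Char.B_diag_ne ⟨g, CfsgLib.GL2Char.mem_B.2 h10⟩
      have hu : Fintype.card Fˣ ≤ 1 := by rw [Fintype.card_units, hc2]
      exact hne (congrArg Units.val
        (Fintype.card_le_one_iff.1 hu (Units.mk0 _ h00.1) (Units.mk0 _ h00.2)))
    rcases CfsgLib.GL2Char.irr_types hχ with ⟨α, -, e⟩ | ⟨α, -, e⟩ | ⟨α, β, -, -, e⟩ | ⟨hc, -⟩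
    · rw [e, eq_sub_iff_add_eq] at hd
      norm_num at hd
      norm_cast at hd
      omega
    · exact absurd (e.symm.trans hd) (fun h => one_ne_zero (α := ℂ) (by linear_combination h))
    · exact absurd (e.symm.trans hd) (fun h => two_ne_zero (α := ℂ) (by linear_combination h))
    · exact CfsgLib.GL2Char.cusp_diag hχ hc ⟨h01, h10, hne⟩
  · rcases CfsgLib.GL2Char.irr_types hχ with ⟨α, -, e⟩ | ⟨α, -, e⟩ | ⟨α, β, -, rfl, -⟩ | ⟨-, e⟩
    · exact absurd (e.symm.trans hd) d2
    · exact absurd (e.symm.trans hd) d3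
    · exact CfsgLib.GL2Char.ps_noEigen α β hn
    · exact absurd (e.symm.trans hd) (fun h => two_ne_zero (α := ℂ) (by linear_combination -h))

end Cfsg.Agent.S2309
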