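import Cfsg.Statements.S2310
import Cfsg.Agent.Lib.GL2Char.Table
-- import your own Cfsg.Agent.* helpers here

set_option autoImplicit false
open Cfsg

namespace Cfsg.Agent.S2310

/-- Over a finite field F with q ≥ 3 elements, let u be the upper unitriangular matrix of GL₂ with off-diagonal entry 1. An irreducible complex character χ of GL₂ takes at u the value 1 if χ has degree 1 or q + 1, the value −1 if χ has degree q − 1, and the value 0 if χ has degree q. -/
theorem result {F : Type*} [Field F] [Fintype F] (hq : 3 ≤ Fintype.card F) (χ : Matrix.GeneralLinearGroup (Fin 2) F → ℂ) (hχ : Cfsg.IsIrrCharacter (Matrix.GeneralLinearGroup (Fin 2) F) χ)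
    (u : Matrix.GeneralLinearGroup (Fin 2) F) (hu : (u : Matrix (Fin 2) (Fin 2) F) = !![1, 1; 0, 1]) :
    (χ 1 = 1 → χ u = 1) ∧ (χ 1 = (Fintype.card F : ℂ) + 1 → χ u = 1) ∧
    (χ 1 = (Fintype.card F : ℂ) - 1 → χ u = -1) ∧ (χ 1 = (Fintype.card F : ℂ) → χ u = 0) := by
  classical
  obtain ⟨d1, d2, d3⟩ := CfsgLib.GL2Char.degrees_apart (F := F)
  have h2 : (2 : ℂ) ≠ 0 := two_ne_zero
  have hq1 : (1 : ℂ) ≠ (Fintype.card F : ℂ) - 1 := by
    intro h
    have h' : (Fintype.card F : ℂ) = ((2 : ℕ) : ℂ) := by push_cast; linear_combination -h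
    norm_cast at h'
    omega
  rcases CfsgLib.GL2Char.irr_types hχ with ⟨α, rfl, e⟩ | ⟨α, rfl, e⟩ | ⟨α, β, -, rfl, e⟩ | ⟨hc, e⟩
  · have hv : CfsgLib.GL2Char.detChar α u = 1 := by simp [CfsgLib.GL2Char.detChar, hu]
    exact ⟨fun _ => hv, fun _ => hv, fun h => absurd (e.symm.trans h) hq1,
      fun h => absurd (e.symm.trans h) d1⟩
  · have hv : CfsgLib.GL2Char.st α u = 0 := by
      rw [CfsgLib.GL2Char.st, Pi.sub_apply,
        CfsgLib.GL2Char.ps_jordan α α (g := u) (by simp [hu]) (by simp [hu]) (by simp [hu])]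
      simp [CfsgLib.GL2Char.detChar, hu]
    refine ⟨fun h => absurd (h.symm.trans e) d1, fun h => absurd (e.symm.trans h) d3,
      fun h => ?_, fun _ => hv⟩
    exact absurd (e.symm.trans h) (fun h' => one_ne_zero (α := ℂ) (by linear_combination h'))
  · have hv : CfsgLib.GL2Char.ps α β u = 1 := by
      rw [CfsgLib.GL2Char.ps_jordan α β (g := u) (by simp [hu]) (by simp [hu]) (by simp [hu])]
      simp [hu]
    exact ⟨fun _ => hv, fun _ => hv,
      fun h => absurd (e.symm.trans h) (fun h' => h2 (by linear_combination h')),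
      fun h => absurd (h.symm.trans e) d3⟩
  · have hv : χ u = -1 := by
      have h := CfsgLib.GL2Char.cusp_apply_uni hχ hc
      rw [show ((CfsgLib.GL2Char.mkB 1 1 (1 : F) : GL (Fin 2) F)) = u from Units.ext (by
        rw [CfsgLib.GL2Char.mkB_coe, hu]; simp), e] at h
      have hne : (Fintype.card F : ℂ) - 1 ≠ 0 := sub_ne_zero.2 (Ne.symm d1)
      exact mul_left_cancel₀ hne (by linear_combination h)
    exact ⟨fun h => absurd (h.symm.trans e) hq1,
      fun h => absurd (e.symm.trans h) (fun h' => h2 (by linear_combination -h')), fun _ => hv,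
      fun h => absurd (e.symm.trans h) (fun h' => one_ne_zero (α := ℂ) (by linear_combination -h'))⟩

end Cfsg.Agent.S2310
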