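import Cfsg.Statements.S2315
import Cfsg.Agent.Lib.GLUnip.Classes
import Cfsg.Agent.Lib.GLUnip.NilpotentCount
-- import your own Cfsg.Agent.* helpers here

set_option autoImplicit false
open Cfsg

namespace Cfsg.Agent.S2315

/-- Steinberg's count of unipotent elements for the general linear group: over a finite field with q elements of characteristic p, the number of elements of GL_n of p-power order (the unipotent matrices) is q^(n(n−1)). -/
theorem result {F : Type*} [Field F] [Fintype F] (p : ℕ) [Fact p.Prime] [CharP F p] (n : ℕ) :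
    Nat.card {g : Matrix.GeneralLinearGroup (Fin n) F // ∃ k : ℕ, orderOf g = p ^ k} = Fintype.card F ^ (n * (n - 1)) := by
  rw [← CfsgLib.GLUnip.nilCount_eq F n, CfsgLib.GLUnip.nilCount]
  refine Nat.card_eq_of_bijective
    (fun g => ⟨(g.1 : Matrix (Fin n) (Fin n) F) - 1, (CfsgLib.GLUnip.pPower_iff g.1).1 g.2⟩) ⟨?_, ?_⟩
  · intro g g' h
    exact Subtype.ext (Units.ext (sub_left_inj.1 (congrArg Subtype.val h)))
  · rintro ⟨M, hM⟩
    refine ⟨⟨(IsNilpotent.isUnit_one_add hM).unit, (CfsgLib.GLUnip.pPower_iff _).2 ?_⟩, Subtype.ext ?_⟩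
    · rw [IsUnit.unit_spec, add_sub_cancel_left]
      exact hM
    · show ((IsNilpotent.isUnit_one_add hM).unit : Matrix (Fin n) (Fin n) F) - 1 = M
      rw [IsUnit.unit_spec, add_sub_cancel_left]

end Cfsg.Agent.S2315
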