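import Cfsg.Statements.S2320
import Cfsg.Agent.Lib.GL2Char.Table
-- import your own Cfsg.Agent.* helpers here

set_option autoImplicit false
open Cfsg

namespace Cfsg.Agent.S2320

/-- Over a finite field F with q elements, every irreducible complex character of GL₂ of degree q takes a value of absolute value 1 at every diagonal matrix with two different diagonal entries and at every element with no eigenvector in F². -/
theorem result {F : Type*} [Field F] [Fintype F] (χ : Matrix.GeneralLinearGroup (Fin 2) F → ℂ) (hχ : Cfsg.IsIrrCharacter (Matrix.GeneralLinearGroup (Fin 2) F) χ) (hdeg : χ 1 = (Fintype.card F : ℂ)) (g : Matrix.GeneralLinearGroup (Fin 2) F) :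
    ((g : Matrix (Fin 2) (Fin 2) F) 0 1 = 0 → (g : Matrix (Fin 2) (Fin 2) F) 1 0 = 0 → (g : Matrix (Fin 2) (Fin 2) F) 0 0 ≠ (g : Matrix (Fin 2) (Fin 2) F) 1 1 → ‖χ g‖ = 1) ∧
    ((∀ (c : F) (v : Fin 2 → F), v ≠ 0 → (g : Matrix (Fin 2) (Fin 2) F).mulVec v ≠ c • v) → ‖χ g‖ = 1) := by
  classical
  obtain ⟨d1, d2, d3⟩ := CfsgLib.GL2Char.degrees_apart (F := F)
  rcases CfsgLib.GL2Char.irr_types hχ with ⟨α, -, e⟩ | ⟨α, rfl, -⟩ | ⟨α, β, -, -, e⟩ | ⟨-, e⟩
  · exact absurd (e.symm.trans hdeg) d1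
  · have hd : (g : Matrix (Fin 2) (Fin 2) F).det ≠ 0 := g.det_ne_zero
    refine ⟨fun h01 h10 hne => ?_, fun hn => ?_⟩
    · rw [CfsgLib.GL2Char.st, Pi.sub_apply, CfsgLib.GL2Char.ps_diag α α ⟨h01, h10, hne⟩,
        show CfsgLib.GL2Char.detChar α g = α ((g : Matrix (Fin 2) (Fin 2) F) 0 0) *
          α ((g : Matrix (Fin 2) (Fin 2) F) 1 1) by
          simp [CfsgLib.GL2Char.detChar, Matrix.det_fin_two, h01]]
      rw [Matrix.det_fin_two, h01, zero_mul, sub_zero, mul_ne_zero_iff] at hd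
      rw [add_sub_cancel_left, norm_mul, CfsgLib.GL2Char.norm_mulChar hd.1,
        CfsgLib.GL2Char.norm_mulChar hd.2, one_mul]
    · rw [CfsgLib.GL2Char.st, Pi.sub_apply, CfsgLib.GL2Char.ps_noEigen α α hn, zero_sub, norm_neg]
      exact CfsgLib.GL2Char.norm_mulChar hd
  · exact absurd (hdeg.symm.trans e) d3
  · exact absurd (e.symm.trans hdeg) (fun h' => one_ne_zero (α := ℂ) (by linear_combination -h'))

end Cfsg.Agent.S2320
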