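import Cfsg.Statements.S2321
import Cfsg.Agent.Lib.SL2Char.Even

set_option autoImplicit false
open Cfsg

namespace Cfsg.Agent.S2321

/-- Over a finite field F with q elements, an irreducible complex character of SL₂ of degree q (the Steinberg character) takes the value 1 at every diagonal matrix whose diagonal entry a has a² ≠ 1, the value −1 at every element with no eigenvector in F², and the value 0 at every upper triangular matrix with equal diagonal entries and non-zero upper right entry. -/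
theorem result {F : Type*} [Field F] [Fintype F] (χ : Matrix.SpecialLinearGroup (Fin 2) F → ℂ) (hχ : Cfsg.IsIrrCharacter (Matrix.SpecialLinearGroup (Fin 2) F) χ) (hdeg : χ 1 = (Fintype.card F : ℂ)) (g : Matrix.SpecialLinearGroup (Fin 2) F) :
    ((g : Matrix (Fin 2) (Fin 2) F) 0 1 = 0 → (g : Matrix (Fin 2) (Fin 2) F) 1 0 = 0 → (g : Matrix (Fin 2) (Fin 2) F) 0 0 ^ 2 ≠ 1 → χ g = 1) ∧
    ((∀ (c : F) (v : Fin 2 → F), v ≠ 0 → (g : Matrix (Fin 2) (Fin 2) F).mulVec v ≠ c • v) → χ g = -1) ∧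
    ((g : Matrix (Fin 2) (Fin 2) F) 1 0 = 0 → (g : Matrix (Fin 2) (Fin 2) F) 0 0 = (g : Matrix (Fin 2) (Fin 2) F) 1 1 → (g : Matrix (Fin 2) (Fin 2) F) 0 1 ≠ 0 → χ g = 0) := by
  classical
  have hS : χ = CfsgLib.SL2Char.steinberg := by
    by_cases hodd : Odd (Fintype.card F)
    · obtain ⟨c, h, D⟩ := CfsgLib.SL2Char.exists_dsData hodd
      obtain ⟨α₀, θ₀, η₁, η₂, χ₁, χ₂, T⟩ := CfsgLib.SL2Char.exists_table D
      exact (T.deg_q_iff ⟨χ, hχ⟩).1 hdeg
    · have h2 : ringChar F = 2 := by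
        rw [FiniteField.even_card_iff_char_two]; rw [Nat.odd_iff] at hodd; omega
      have : CharP F 2 := h2 ▸ ringChar.charP F
      exact CfsgLib.SL2Char.eq_steinberg_of_degree ⟨χ, hχ⟩ hdeg
  subst hS
  refine ⟨fun h01 h10 ha => ?_, fun hne => CfsgLib.SL2Char.steinberg_noEig hne, fun h10 he hb => ?_⟩
  · obtain ⟨a, ha', rfl⟩ := CfsgLib.SL2Char.exists_slDiag h01 h10
    rw [← ha'] at ha
    exact CfsgLib.SL2Char.steinberg_slDiag ha
  · obtain ⟨ε, hε, -, hg⟩ := CfsgLib.SL2Char.exists_bEl_uni h10 he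
    rw [hg]
    exact CfsgLib.SL2Char.steinberg_bEl_uni hε hb

end Cfsg.Agent.S2321
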