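import Cfsg.Statements.S2322
import Cfsg.Agent.Lib.SL2Char.Values

set_option autoImplicit false
open Cfsg

namespace Cfsg.Agent.S2322

/-- Over a finite field F with q elements, q odd: every irreducible complex character of SL₂ of degree q − 1 or (q − 1)/2 vanishes at every diagonal matrix whose diagonal entry a has a² ≠ 1, and every irreducible complex character of degree q + 1 or (q + 1)/2 vanishes at every element with no eigenvector in F². -/
theorem result {F : Type*} [Field F] [Fintype F] (hodd : Odd (Fintype.card F)) (χ : Matrix.SpecialLinearGroup (Fin 2) F → ℂ) (hχ : Cfsg.IsIrrCharacter (Matrix.SpecialLinearGroup (Fin 2) F) χ) (g : Matrix.SpecialLinearGroup (Fin 2) F) :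
    ((χ 1 = (Fintype.card F : ℂ) - 1 ∨ χ 1 = (((Fintype.card F - 1) / 2 : ℕ) : ℂ)) →
      (g : Matrix (Fin 2) (Fin 2) F) 0 1 = 0 → (g : Matrix (Fin 2) (Fin 2) F) 1 0 = 0 → (g : Matrix (Fin 2) (Fin 2) F) 0 0 ^ 2 ≠ 1 → χ g = 0) ∧
    ((χ 1 = (Fintype.card F : ℂ) + 1 ∨ χ 1 = (((Fintype.card F + 1) / 2 : ℕ) : ℂ)) →
      (∀ (c : F) (v : Fin 2 → F), v ≠ 0 → (g : Matrix (Fin 2) (Fin 2) F).mulVec v ≠ c • v) → χ g = 0) := by
  classical
  obtain ⟨c, h, D⟩ := CfsgLib.SL2Char.exists_dsData hodd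
  obtain ⟨α₀, θ₀, η₁, η₂, χ₁, χ₂, T⟩ := CfsgLib.SL2Char.exists_table D
  obtain ⟨ψ, rfl⟩ : ∃ ψ : Cfsg.IrrCharacter (Matrix.SpecialLinearGroup (Fin 2) F),
    (ψ : Matrix.SpecialLinearGroup (Fin 2) F → ℂ) = χ := ⟨⟨χ, hχ⟩, rfl⟩
  refine ⟨fun hd h01 h10 ha => ?_, fun hd hne => ?_⟩
  · obtain ⟨a, ha', rfl⟩ := CfsgLib.SL2Char.exists_slDiag h01 h10
    rw [← ha'] at ha
    have hq := CfsgLib.SL2Char.five_le_of_sq_ne_one hodd ha
    have hy := CfsgLib.SL2Char.bEl_hyp (0 : F) ha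
    rw [← CfsgLib.SL2Char.slDiag_eq_bEl] at hy
    rcases hd with hd | hd
    · obtain ⟨θ, -, e⟩ := (T.deg_pred_iff hq ψ).1 hd
      rw [e]
      exact CfsgLib.SL2Char.ds_hyp D (CfsgLib.SL2Char.dsFun_spec D θ) hy
    · exact T.chi_hyp ((T.deg_half_pred_iff hq ψ).1 hd) hy
  · have hg := CfsgLib.SL2Tori.noRoot_of_noEig (CfsgLib.SL2Tori.two_ne_of_odd hodd) hne
    rcases hd with hd | hd
    · obtain ⟨α, -, e⟩ := (T.deg_succ_iff ψ).1 hd
      rw [e]
      exact CfsgLib.SL2Char.ps_noRoot α hg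
    · rcases T.deg_half_succ_cases ψ hd with e | ⟨h3, θ, hθ, e⟩
      · exact T.eta_noRoot e hg
      · rw [e]
        exact T.dsFun_noRoot_three h3 hθ hg

end Cfsg.Agent.S2322
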