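import Cfsg.Statements.S2323
import Cfsg.Agent.Lib.SL2Char.Even

set_option autoImplicit false
open Cfsg

namespace Cfsg.Agent.S2323

/-- Over a finite field F with q ≥ 4 elements, let u be the upper unitriangular matrix of SL₂ with off-diagonal entry 1. An irreducible complex character of SL₂ takes at u the value 1 if its degree is q + 1 and the value −1 if its degree is q − 1. -/
theorem result {F : Type*} [Field F] [Fintype F] (hq : 4 ≤ Fintype.card F) (χ : Matrix.SpecialLinearGroup (Fin 2) F → ℂ) (hχ : Cfsg.IsIrrCharacter (Matrix.SpecialLinearGroup (Fin 2) F) χ)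
    (u : Matrix.SpecialLinearGroup (Fin 2) F) (hu : (u : Matrix (Fin 2) (Fin 2) F) = !![1, 1; 0, 1]) :
    (χ 1 = (Fintype.card F : ℂ) + 1 → χ u = 1) ∧ (χ 1 = (Fintype.card F : ℂ) - 1 → χ u = -1) := by
  classical
  rw [CfsgLib.SL2Char.uni_eq_bEl hu]
  by_cases hodd : Odd (Fintype.card F)
  · obtain ⟨c, h, D⟩ := CfsgLib.SL2Char.exists_dsData hodd
    obtain ⟨α₀, θ₀, η₁, η₂, χ₁, χ₂, T⟩ := CfsgLib.SL2Char.exists_table D
    have hq5 : 5 ≤ Fintype.card F := by rw [Nat.odd_iff] at hodd; omega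
    refine ⟨fun hd => ?_, fun hd => ?_⟩
    · obtain ⟨α, -, e⟩ := (T.deg_succ_iff ⟨χ, hχ⟩).1 hd
      rw [show χ = CfsgLib.SL2Char.ps α from e, CfsgLib.SL2Char.ps_bEl_uni α (Or.inl rfl) one_ne_zero]
      simp
    · obtain ⟨θ, -, e⟩ := (T.deg_pred_iff hq5 ⟨χ, hχ⟩).1 hd
      rw [show χ = CfsgLib.SL2Char.dsFun D θ from e, CfsgLib.SL2Char.dsFun_uni D θ (Or.inl rfl) one_ne_zero]
      simp
  · have h2 : ringChar F = 2 := by
      rw [FiniteField.even_card_iff_char_two]; rw [Nat.odd_iff] at hodd; omega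
    have : CharP F 2 := h2 ▸ ringChar.charP F
    have key := CfsgLib.SL2Char.value_uni_of_degree (F := F) ⟨χ, hχ⟩
    exact ⟨key.2.1 hq, key.2.2 hq⟩

end Cfsg.Agent.S2323
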