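import Cfsg.Statements.S2324
import Cfsg.Agent.Lib.SL2Char.Values

set_option autoImplicit false
open Cfsg

namespace Cfsg.Agent.S2324

/-- Over a finite field F with q elements, q odd and q ≥ 5, let u be the upper unitriangular matrix of SL₂ with off-diagonal entry 1 and let δ = (−1)^((q−1)/2). Every irreducible complex character χ of SL₂ of degree (q + 1)/2 satisfies (2χ(u) − 1)² = δq, and every irreducible complex character χ of degree (q − 1)/2 satisfies (2χ(u) + 1)² = δq; that is, χ(u) = (1 ± √(δq))/2 in the first case and χ(u) = (−1 ± √(δq))/2 in the second. Moreover two different irreducible characters of degree (q + 1)/2 take the two different values (their values at u add up to 1), and likewise for degree (q − 1)/2 (values adding up to −1). -/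
theorem result {F : Type*} [Field F] [Fintype F] (hodd : Odd (Fintype.card F)) (hq : 5 ≤ Fintype.card F)
    (u : Matrix.SpecialLinearGroup (Fin 2) F) (hu : (u : Matrix (Fin 2) (Fin 2) F) = !![1, 1; 0, 1]) :
    (∀ χ : Matrix.SpecialLinearGroup (Fin 2) F → ℂ, Cfsg.IsIrrCharacter (Matrix.SpecialLinearGroup (Fin 2) F) χ → χ 1 = (((Fintype.card F + 1) / 2 : ℕ) : ℂ) → (2 * χ u - 1) ^ 2 = (-1 : ℂ) ^ ((Fintype.card F - 1) / 2) * (Fintype.card F : ℂ)) ∧
    (∀ χ : Matrix.SpecialLinearGroup (Fin 2) F → ℂ, Cfsg.IsIrrCharacter (Matrix.SpecialLinearGroup (Fin 2) F) χ → χ 1 = (((Fintype.card F - 1) / 2 : ℕ) : ℂ) → (2 * χ u + 1) ^ 2 = (-1 : ℂ) ^ ((Fintype.card F - 1) / 2) * (Fintype.card F : ℂ)) ∧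
    (∀ χ₁ χ₂ : Matrix.SpecialLinearGroup (Fin 2) F → ℂ, Cfsg.IsIrrCharacter (Matrix.SpecialLinearGroup (Fin 2) F) χ₁ → Cfsg.IsIrrCharacter (Matrix.SpecialLinearGroup (Fin 2) F) χ₂ → χ₁ ≠ χ₂ →
      χ₁ 1 = (((Fintype.card F + 1) / 2 : ℕ) : ℂ) → χ₂ 1 = (((Fintype.card F + 1) / 2 : ℕ) : ℂ) → χ₁ u + χ₂ u = 1) ∧
    (∀ χ₁ χ₂ : Matrix.SpecialLinearGroup (Fin 2) F → ℂ, Cfsg.IsIrrCharacter (Matrix.SpecialLinearGroup (Fin 2) F) χ₁ → Cfsg.IsIrrCharacter (Matrix.SpecialLinearGroup (Fin 2) F) χ₂ → χ₁ ≠ χ₂ →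
      χ₁ 1 = (((Fintype.card F - 1) / 2 : ℕ) : ℂ) → χ₂ 1 = (((Fintype.card F - 1) / 2 : ℕ) : ℂ) → χ₁ u + χ₂ u = -1) := by
  classical
  obtain ⟨c, h, D⟩ := CfsgLib.SL2Char.exists_dsData hodd
  obtain ⟨α₀, θ₀, η₁, η₂, χ₁, χ₂, T⟩ := CfsgLib.SL2Char.exists_table D
  rw [CfsgLib.SL2Char.uni_eq_bEl hu, ← T.alpha0_neg_eq]
  refine ⟨fun χ hχ hd => T.halves_uni_sq.1 ⟨χ, hχ⟩ ((T.deg_half_succ_iff hq ⟨χ, hχ⟩).1 hd),
    fun χ hχ hd => T.halves_uni_sq.2 ⟨χ, hχ⟩ ((T.deg_half_pred_iff hq ⟨χ, hχ⟩).1 hd), ?_, ?_⟩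
  · intro φ ψ hφ hψ hne hd hd'
    have h1 := T.eta_uni_sum (b := (1 : F)) one_ne_zero
    rcases (T.deg_half_succ_iff hq ⟨φ, hφ⟩).1 hd with e | e <;>
      rcases (T.deg_half_succ_iff hq ⟨ψ, hψ⟩).1 hd' with e' | e' <;>
      first
        | exact absurd (congrArg Subtype.val (e.trans e'.symm)) hne
        | (subst e e'; linear_combination h1)
  · intro φ ψ hφ hψ hne hd hd'
    have h1 := T.chi_uni_sum (b := (1 : F)) one_ne_zero
    rcases (T.deg_half_pred_iff hq ⟨φ, hφ⟩).1 hd with e | e <;>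
      rcases (T.deg_half_pred_iff hq ⟨ψ, hψ⟩).1 hd' with e' | e' <;>
      first
        | exact absurd (congrArg Subtype.val (e.trans e'.symm)) hne
        | (subst e e'; linear_combination h1)

end Cfsg.Agent.S2324
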