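import Cfsg.Statements.S2339
import Cfsg.Agent.Lib.MinDegE.CertE8
import Cfsg.Agent.Lib.ChevStr.InstanceTables

set_option autoImplicit false
open Cfsg

namespace Cfsg.Agent.S2339

/-- For the Chevalley group of type E₈ over a finite field with q elements, every irreducible complex representation of degree at least 2 has degree at least q(q¹² + 1)(q¹⁰ + 1)(q⁶ + 1). -/
theorem result {F : Type*} [Field F] [Fintype F] (k : ℕ) (ρ : Representation ℂ (Cfsg.Lie.chevE8.group F) (Fin k → ℂ)) (hρ : ρ.IsIrreducible) (hk : 2 ≤ k) :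
    Fintype.card F * (Fintype.card F ^ 12 + 1) * (Fintype.card F ^ 10 + 1) * (Fintype.card F ^ 6 + 1) ≤ k := by
  classical
  set q := Fintype.card F with hq
  have hq2 : 2 ≤ q := Fintype.one_lt_card
  have hh : CfsgLib.MinDegE.degE8.H.lvA.k = 28 := rfl
  have hT : (q * (q ^ 12 + 1) * (q ^ 10 + 1) * (q ^ 6 + 1) : ℕ) =
      q ^ 29 + q ^ 23 + q ^ 19 + q ^ 17 + q ^ 13 + q ^ 11 + q ^ 7 + q := by ring
  refine CfsgLib.MinDegE.min_degree (CfsgLib.ChevStr.coreE8 F) CfsgLib.MinDegE.degE8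
    CfsgLib.MinDegE.rootsE8 CfsgLib.MinDegE.polE8 CfsgLib.MinDegE.chainE8
    CfsgLib.MinDegE.rootsE8Two CfsgLib.MinDegE.polE8Two CfsgLib.MinDegE.chainE8Two
    CfsgLib.MinDegE.arithE8 CfsgLib.MinDegE.twoE8 CfsgLib.MinDegE.smallE8 CfsgLib.MinDegE.poincE8
    ?_ ?_ ?_ ρ hρ hk
  · rw [hT]
    simp only [CfsgLib.MinDegE.DegCert.Tp, CfsgLib.MinDegE.degE8, CfsgLib.ChevStr.polyEval_cons,
      CfsgLib.ChevStr.polyEval_nil, ← hq]
    push_cast
    ring
  · rw [hT, hh]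
    obtain ⟨p, hp⟩ : ∃ p, q = p + 2 := ⟨q - 2, by omega⟩
    simp only [← hq, hp, show p + 2 - 1 = p + 1 by omega, show (28 : ℕ) - 1 = 27 from rfl]
    ring_nf
    omega
  · rw [hT, hh, ← hq, show (28 : ℕ) + 1 = 29 from rfl]
    omega

end Cfsg.Agent.S2339
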