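import Cfsg.Statements.S2340
import Cfsg.Agent.Lib.MinDegE.CertE6
import Cfsg.Agent.Lib.ChevStr.InstanceTables

set_option autoImplicit false
open Cfsg

namespace Cfsg.Agent.S2340

/-- For the Chevalley group of type E₆ over a finite field with q elements (the group generated by the root elements), every irreducible complex representation of degree at least 2 has degree at least q(q⁶ + q³ + 1)(q⁴ + 1). -/
theorem result {F : Type*} [Field F] [Fintype F] :
    (∀ (k : ℕ) (ρ : Representation ℂ (Cfsg.Lie.chevE6.group F) (Fin k → ℂ)), ρ.IsIrreducible → 2 ≤ k → Fintype.card F * (Fintype.card F ^ 6 + Fintype.card F ^ 3 + 1) * (Fintype.card F ^ 4 + 1) ≤ k) := by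
  classical
  intro k ρ hρ hk
  set q := Fintype.card F with hq
  have hq2 : 2 ≤ q := Fintype.one_lt_card
  have hh : CfsgLib.MinDegE.degE6.H.lvA.k = 10 := rfl
  have hT : (q * (q ^ 6 + q ^ 3 + 1) * (q ^ 4 + 1) : ℕ) =
      q ^ 11 + q ^ 8 + q ^ 7 + q ^ 5 + q ^ 4 + q := by ring
  refine CfsgLib.MinDegE.min_degree (CfsgLib.ChevStr.coreE6 F) CfsgLib.MinDegE.degE6
    CfsgLib.MinDegE.rootsE6 CfsgLib.MinDegE.polE6 CfsgLib.MinDegE.chainE6
    CfsgLib.MinDegE.rootsE6Two CfsgLib.MinDegE.polE6Two CfsgLib.MinDegE.chainE6Two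
    CfsgLib.MinDegE.arithE6 CfsgLib.MinDegE.twoE6 CfsgLib.MinDegE.smallE6 CfsgLib.MinDegE.poincE6
    ?_ ?_ ?_ ρ hρ hk
  · rw [hT]
    simp only [CfsgLib.MinDegE.DegCert.Tp, CfsgLib.MinDegE.degE6, CfsgLib.ChevStr.polyEval_cons,
      CfsgLib.ChevStr.polyEval_nil, ← hq]
    push_cast
    ring
  · rw [hT, hh]
    obtain ⟨p, hp⟩ : ∃ p, q = p + 2 := ⟨q - 2, by omega⟩
    simp only [← hq, hp, show p + 2 - 1 = p + 1 by omega, show (10 : ℕ) - 1 = 9 from rfl]
    ring_nf
    omega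
  · rw [hT, hh, ← hq, show (10 : ℕ) + 1 = 11 from rfl]
    omega

end Cfsg.Agent.S2340
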