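import Cfsg.Statements.S2341
import Cfsg.Agent.Lib.MinDeg2E6.Low
import Cfsg.Agent.Lib.MinDeg2E6.Arith
import Cfsg.Agent.Lib.Characters.Values
import Cfsg.Agent.Lib.CharBound.Irreducible
import Cfsg.Agent.Lib.TwistedStr.TorusE6

set_option autoImplicit false
open Cfsg

namespace Cfsg.Agent.S2341

/-- For the twisted group ²E₆(q), realised over the field with q² elements (q a prime power), every irreducible complex representation of degree at least 2 has degree at least q(q⁶ − q³ + 1)(q⁴ + 1). -/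
theorem result {K : Type*} [Field K] [Fintype K] (q : ℕ) (hq : IsPrimePow q) (hK : Fintype.card K = q ^ 2) :
    (∀ (k : ℕ) (ρ : Representation ℂ (Cfsg.Lie.twistedE6 K q) (Fin k → ℂ)), ρ.IsIrreducible → 2 ≤ k → q * (q ^ 6 - q ^ 3 + 1) * (q ^ 4 + 1) ≤ k) := by
  classical
  intro k ρ hρ hk
  obtain ⟨p, n, hp, rfl, hn, h2⟩ := CfsgLib.Twisted.setupE6 K hq hK
  have hnt : ¬ ∀ g, ρ g = 1 := fun h => by
    have := CfsgLib.CharBound.finrank_eq_one_of_trivial ρ hρ h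
    rw [Module.finrank_fin_fun] at this
    omega
  have hlo := CfsgLib.MinDeg2E6.degree_ge hn h2 ρ hnt
  rw [Module.finrank_fin_fun] at hlo
  have := hρ
  have hdvd : k ∣ Nat.card ↥(Cfsg.Lie.twistedE6 K (p ^ n)) := by
    have h := CfsgLib.Characters.degree_dvd_card ρ
    rwa [Module.finrank_fin_fun] at h
  replace hdvd := hdvd.trans (Dvd.intro_left _ (CfsgLib.Twisted.card_twistedE6 K hn h2))
  generalize p ^ n = q at *
  clear ρ hρ hnt this
  have h1 : 1 ≤ q := by omega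
  have hpw : ∀ e : ℕ, 1 ≤ q ^ e := fun e => Nat.one_le_pow _ _ (by omega)
  have hT : ((q * (q ^ 6 - q ^ 3 + 1) * (q ^ 4 + 1) : ℕ) : ℤ) =
      CfsgLib.ChevStr.polyEval CfsgLib.MinDeg2E6.degP (q : ℤ) := by
    rw [CfsgLib.MinDeg2E6.polyEval_degP]
    push_cast [Nat.cast_sub (Nat.pow_le_pow_right h1 (by norm_num : 3 ≤ 6))]
    ring
  by_contra hlt
  refine CfsgLib.MinDeg2E6.not_dvd hq hT (k := k)
    (M := (q ^ 2 - 1) * (q ^ 5 + 1) * (q ^ 6 - 1) * (q ^ 8 - 1) * (q ^ 9 + 1) * (q ^ 12 - 1))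
    ?_ ?_ (by omega) ?_
  · rw [CfsgLib.MinDeg2E6.polyEval_ordP]
    push_cast [Nat.cast_sub (hpw _)]
    ring
  · have h : (((q * (q ^ 6 - q ^ 3 + 1) * (q ^ 4 + 1) : ℕ) : ℤ)) ≤ ((k + 2 : ℕ) : ℤ) := by
      rw [hT, CfsgLib.MinDeg2E6.polyEval_degP]
      push_cast
      linarith
    exact_mod_cast h
  · refine dvd_trans hdvd (dvd_of_eq ?_)
    ring

end Cfsg.Agent.S2341
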