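import Cfsg.Statements.S2344
import Cfsg.Agent.Lib.OrthDeg.OddStd
import Cfsg.Agent.Lib.CharBound.Irreducible

set_option autoImplicit false
open Cfsg

namespace Cfsg.Agent.S2344

/-- For a finite field F of odd order q > 3 and n ≥ 3, every irreducible complex representation of degree at least 2 of Ω_{2n+1}(F) (the commutator subgroup of the isometry group of the quadratic form x₀² + x₁y₁ + ⋯ + x_ny_n) has degree at least (q^{2n} − 1)/(q² − 1). -/
theorem result {F : Type*} [Field F] [Fintype F] (n : ℕ) (hn : 3 ≤ n) (hodd : Odd (Fintype.card F)) (h3 : 3 < Fintype.card F) :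
    (∀ (k : ℕ) (ρ : Representation ℂ (Cfsg.Omega F (Cfsg.quadFormOdd n F)) (Fin k → ℂ)), ρ.IsIrreducible → 2 ≤ k → (Fintype.card F ^ (2 * n) - 1) / (Fintype.card F ^ 2 - 1) ≤ k) := by
  classical
  rw [← CfsgLib.POmega.oddQ_coe n]
  intro k ρ hρ hk
  have h2 : (2 : F) ≠ 0 := CfsgLib.POmega.two_ne_zero_of_odd hodd
  let S : CfsgLib.OrthDeg.OddFrame (CfsgLib.POmega.oddQ n F) n :=
    CfsgLib.OrthDeg.oddFrameStd n hn h2
  have hnt : ∃ g, ρ g ≠ 1 := by
    by_contra hcon
    push Not at hcon
    have := CfsgLib.CharBound.finrank_eq_one_of_trivial ρ hρ hcon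
    simp at this
    omega
  haveI := hρ
  have h := S.degree_ge ρ (by simp; omega) h3 hnt
  rw [Module.finrank_fintype_fun_eq_card, Fintype.card_fin] at h
  refine le_trans (le_of_eq ?_) h
  have hb := CfsgLib.OrthDeg.bsum_mul (Fintype.card F) n Fintype.card_pos
  have h4 : 0 < Fintype.card F * Fintype.card F - 1 := by
    have : 16 ≤ Fintype.card F * Fintype.card F := Nat.mul_le_mul h3 h3
    omega
  rw [pow_two, ← hb, Nat.add_sub_cancel, Nat.mul_div_cancel_left _ h4]

end Cfsg.Agent.S2344
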