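import Cfsg.Statements.S2345
import Cfsg.Agent.Lib.OrthDeg.EStd

set_option autoImplicit false
open Cfsg

namespace Cfsg.Agent.S2345

/-- For a finite field F with q > 3 elements and n ≥ 4, every irreducible complex representation of degree at least 2 of Ω⁺_{2n}(F) (the commutator subgroup of the isometry group of the hyperbolic quadratic form x₁y₁ + ⋯ + x_ny_n) has degree at least (q^n − 1)(q^{n−1} + q)/(q² − 1). -/
theorem result {F : Type*} [Field F] [Fintype F] (n : ℕ) (hn : 4 ≤ n) (h3 : 3 < Fintype.card F) :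
    (∀ (k : ℕ) (ρ : Representation ℂ (Cfsg.Omega F (Cfsg.quadFormPlus n F)) (Fin k → ℂ)), ρ.IsIrreducible → 2 ≤ k → (Fintype.card F ^ n - 1) * (Fintype.card F ^ (n - 1) + Fintype.card F) / (Fintype.card F ^ 2 - 1) ≤ k) := by
  classical
  rw [← CfsgLib.Orth.plusQ_coe n]
  intro k ρ hρ hk
  let S := CfsgLib.OrthDeg.plusFrame (F := F) n hn h3
  have hnt : ∃ g, ρ g ≠ 1 := by
    by_contra hcon
    push Not at hcon
    have := CfsgLib.CharBound.finrank_eq_one_of_trivial ρ hρ hcon
    simp at this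
    omega
  have := hρ
  have hn1 : n - 1 < n := by omega
  let H := CfsgLib.OrthDeg.plusHyp (F := F) n
  have h := S.degree_or_exception ρ hnt (a := 0) (Nat.zero_le 1) (fun _ => rfl) fun hdr =>
    S.plus_bottom (ez := H.e (n - 1)) (fz := H.f (n - 1)) (H.e_mem_W le_rfl hn1) (H.f_mem_W le_rfl hn1)
      (H.Qe _ hn1) (H.Qf _ hn1) ((H.pef _ _ hn1 hn1).trans (if_pos rfl)) ρ hdr
  rw [Module.finrank_fintype_fun_eq_card, Fintype.card_fin] at h
  rcases h with h | ⟨_, h2, _⟩
  · refine CfsgLib.OrthDeg.bound_div Fintype.one_lt_card (by omega) (Or.inl rfl) ?_ h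
    push_cast [Nat.cast_sub (Nat.one_le_pow n _ Fintype.card_pos)]
    ring
  · omega

end Cfsg.Agent.S2345
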