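import Cfsg.Statements.S2346
import Cfsg.Agent.Lib.OrthDeg.EMinus

set_option autoImplicit false
open Cfsg

namespace Cfsg.Agent.S2346

/-- For a finite field F with q elements, n ≥ 4, and a, b ∈ F with z₁² + a z₁z₂ + b z₂² anisotropic, every irreducible complex representation of degree at least 2 of Ω⁻_{2n}(F) (the commutator subgroup of the isometry group of x₁y₁ + ⋯ + x_{n−1}y_{n−1} + z₁² + a z₁z₂ + b z₂²) has degree at least (q^n + 1)(q^{n−1} − q)/(q² − 1). -/
theorem result {F : Type*} [Field F] [Fintype F] (n : ℕ) (hn : 4 ≤ n) (a b : F) (hab : ∀ z₁ z₂ : F, z₁ ^ 2 + a * z₁ * z₂ + b * z₂ ^ 2 = 0 → z₁ = 0 ∧ z₂ = 0) :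
    (∀ (k : ℕ) (ρ : Representation ℂ (Cfsg.Omega F (Cfsg.quadFormMinus (n - 1) F a b)) (Fin k → ℂ)), ρ.IsIrreducible → 2 ≤ k → (Fintype.card F ^ n + 1) * (Fintype.card F ^ (n - 1) - Fintype.card F) / (Fintype.card F ^ 2 - 1) ≤ k) := by
  classical
  rw [← CfsgLib.Orth.minusQ_coe (n - 1) a b]
  intro k ρ hρ hk
  let S := CfsgLib.OrthDeg.minusFrame (F := F) n hn a b hab
  have hnt : ∃ g, ρ g ≠ 1 := by
    by_contra hcon
    push Not at hcon
    have := CfsgLib.CharBound.finrank_eq_one_of_trivial ρ hρ hcon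
    simp at this
    omega
  have := hρ
  have h := S.degree_or_exception ρ hnt (a := 1) le_rfl (fun h => absurd h (by norm_num))
    fun hd => by exact_mod_cast S.minus_bottom ρ hd
  rcases h with h | ⟨rfl, h2, -, h32, hd⟩
  · rw [Module.finrank_fintype_fun_eq_card, Fintype.card_fin] at h
    refine CfsgLib.OrthDeg.bound_div Fintype.one_lt_card (by omega) (Or.inr rfl) ?_ h
    push_cast [Nat.cast_sub (Nat.le_self_pow (show n - 1 ≠ 0 by omega) (Fintype.card F))]
    ring
  · exact absurd (S.minus_two_false ρ h2 h32 hd) id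

end Cfsg.Agent.S2346
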