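import Cfsg.Statements.S2347
import Cfsg.Agent.Lib.SpWeilDeg.Weil

set_option autoImplicit false
open Cfsg

namespace Cfsg.Agent.S2347

/-- Smallest degree of a non-linear irreducible complex representation of the symplectic group Sp_{2n} over a finite field of odd order q, n ≥ 2: every irreducible complex representation of degree at least 2 has degree at least (q^n − 1)/2, and there is an irreducible complex representation of exactly that degree (a Weil representation). -/
theorem result {F : Type*} [Field F] [Fintype F] [DecidableEq F] (n : ℕ) (hn : 2 ≤ n) (hodd : Odd (Fintype.card F)) :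
    (∀ (k : ℕ) (ρ : Representation ℂ (Matrix.symplecticGroup (Fin n) F) (Fin k → ℂ)), ρ.IsIrreducible → 2 ≤ k → (Fintype.card F ^ n - 1) / 2 ≤ k) ∧
    (∃ ρ : Representation ℂ (Matrix.symplecticGroup (Fin n) F) (Fin ((Fintype.card F ^ n - 1) / 2) → ℂ), ρ.IsIrreducible) := by
  refine ⟨fun k ρ hρ hk => ?_, ?_⟩
  · have h : ∃ g, ρ g ≠ 1 := by
      by_contra hcon
      push Not at hcon
      have := CfsgLib.CharBound.finrank_eq_one_of_trivial ρ hρ hcon
      simp at this
      omega
    simpa using CfsgLib.SpWeilDeg.degree_ge hn hodd ρ h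
  · have hd := CfsgLib.SpWeilDeg.finrank_odd (n := n) hodd
    let e : CfsgLib.SpWeilDeg.part n F (-1) ≃ₗ[ℂ] (Fin ((Fintype.card F ^ n - 1) / 2) → ℂ) :=
      LinearEquiv.ofFinrankEq _ _ (by rw [hd, Module.finrank_fintype_fun_eq_card, Fintype.card_fin])
    exact ⟨CfsgLib.Characters.transportRep (CfsgLib.SpWeilDeg.weilOdd hodd) e,
      CfsgLib.Characters.isIrreducible_of_equiv (CfsgLib.Characters.transportRepEquiv _ e)
        (CfsgLib.SpWeilDeg.weilOdd_irreducible hn hodd)⟩

end Cfsg.Agent.S2347
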