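import Cfsg.Statements.S2355
import Cfsg.Agent.Lib.Laws.Classical

set_option autoImplicit false
open Cfsg

namespace Cfsg.Agent.S2355

/-- A non-trivial law is satisfied by only finitely many finite simple groups that are alternating or classical, up to isomorphism: for every non-trivial element w of the free group on countably many generators there is a bound N such that every alternating group of degree ≥ 5 and every simple classical group (linear, symplectic, unitary or orthogonal, in this problem's sense) in which w is a law has order at most N. -/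
theorem result (w : FreeGroup ℕ) (hw : w ≠ 1) :
    ∃ N : ℕ, ∀ (G : Type*) [Group G] [Finite G],
      (Cfsg.IsAlternating G ∨ Cfsg.IsPSL G ∨ Cfsg.IsPSp G ∨ Cfsg.IsPSU G ∨ Cfsg.IsPOmegaOdd G ∨
          Cfsg.IsPOmegaPlus G ∨ Cfsg.IsPOmegaMinus G) →
      (∀ f : ℕ → G, FreeGroup.lift f w = 1) → Nat.card G ≤ N := by
  obtain ⟨N₀, hN₅, hA⟩ := CfsgLib.Laws.exists_alternating_bound w hw
  set Q₀ := CfsgLib.Laws.slBound w with hQ₀
  have hQ4 : 4 ≤ Q₀ := Nat.le_add_left 4 _
  refine ⟨CfsgLib.Laws.classBound N₀ Q₀, fun G _ _ hG hlaw => ?_⟩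
  -- `SL₂` over a large field and alternating groups of large degree
  have hS : ∀ (F : Type) [Field F] [Fintype F], Q₀ ≤ Fintype.card F →
      commutator (Matrix.SpecialLinearGroup (Fin 2) F) = ⊤ ∧
      ∃ f : ℕ → Matrix.SpecialLinearGroup (Fin 2) F,
        FreeGroup.lift f w ∉ Subgroup.center (Matrix.SpecialLinearGroup (Fin 2) F) := fun F _ _ h =>
    ⟨CfsgLib.Laws.sl_two_perfect (hQ4.trans h), CfsgLib.Laws.exists_sl_two_lift_not_central w hw F h⟩
  have hAlt : ∀ n, N₀ ≤ n → _ := fun n hn =>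
    CfsgLib.Laws.alternating_noncentral (w := w) (hN₅.trans hn) (hA n hn)
  rcases hG with ⟨n, -, ⟨e⟩⟩ | hG | hG | hG | hG | hG | hG
  · by_cases hn : N₀ ≤ n
    · obtain ⟨f, hf⟩ := hA n hn
      have he : FreeGroup.lift (fun i => e.symm (f i)) = e.symm.toMonoidHom.comp (FreeGroup.lift f) := by
        ext i; simp
      exact absurd (e.symm.injective (by rw [map_one]; exact (DFunLike.congr_fun he w).symm.trans (hlaw _))) hf
    · refine le_trans ?_ (Nat.le_add_right _ _)
      refine le_trans (Nat.card_le_card_of_injective (fun g => ((e g : alternatingGroup (Fin n)) : Equiv.Perm (Fin n)))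
        (Subtype.val_injective.comp e.injective)) ?_
      rw [Nat.card_perm, Nat.card_eq_fintype_card, Fintype.card_fin]
      exact Nat.factorial_le (by omega)
  · obtain ⟨F, _, _, m, hm, -, ⟨e⟩⟩ := hG
    by_cases hq : Q₀ ≤ Fintype.card F
    · exact (CfsgLib.Laws.false_of_law hlaw (hS F hq).2 (CfsgLib.Laws.slTwoEmbed F hm)
        (CfsgLib.Laws.slTwoEmbed_injective F hm) e).elim
    by_cases hn : N₀ ≤ m
    · exact (CfsgLib.Laws.false_of_law hlaw (hAlt m hn).2 (CfsgLib.Laws.altEmbed F m)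
        (CfsgLib.Laws.altEmbed_injective F m) e).elim
    refine CfsgLib.Laws.card_le_classBound (ι := Fin m) (by simp; omega) (by nlinarith)
      (fun g : Matrix.SpecialLinearGroup (Fin m) F => (g : Matrix (Fin m) (Fin m) F))
      Subtype.val_injective (fun g => e.symm (QuotientGroup.mk g))
      (e.symm.surjective.comp QuotientGroup.mk_surjective)
  · obtain ⟨F, _, _, m, hm, -, ⟨e⟩⟩ := hG
    by_cases hq : Q₀ ≤ Fintype.card F
    · refine (CfsgLib.Laws.false_of_law hlaw (hS F hq).2
        (CfsgLib.Laws.toSymplectic (CfsgLib.Laws.slTwoEmbed F hm)) ?_ e).elim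
      exact fun a b h => CfsgLib.Laws.hyp_injective (CfsgLib.Laws.slTwoEmbed_injective F hm) (congrArg Subtype.val h)
    by_cases hn : N₀ ≤ m
    · refine (CfsgLib.Laws.false_of_law hlaw (hAlt m hn).2
        (CfsgLib.Laws.toSymplectic (CfsgLib.Laws.altEmbed F m)) ?_ e).elim
      exact fun a b h => CfsgLib.Laws.hyp_injective (CfsgLib.Laws.altEmbed_injective F m) (congrArg Subtype.val h)
    refine CfsgLib.Laws.card_le_classBound (ι := Fin m ⊕ Fin m) (by simp; omega) (by nlinarith)
      (fun g : Matrix.symplecticGroup (Fin m) F => (g : Matrix (Fin m ⊕ Fin m) (Fin m ⊕ Fin m) F))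
      Subtype.val_injective (fun g => e.symm (QuotientGroup.mk g))
      (e.symm.surjective.comp QuotientGroup.mk_surjective)
  · obtain ⟨F, _, _, m, q, hF, hm, -, ⟨e⟩⟩ := hG
    by_cases hq : Q₀ + 1 ≤ q
    · obtain ⟨K, φ, hK, hφ, hmem⟩ := CfsgLib.Laws.exists_sl_two_hom_su hF (by omega) (by omega : 2 ≤ m)
      letI := Fintype.ofFinite K
      refine (CfsgLib.Laws.false_of_law hlaw (hS K (by rw [← Nat.card_eq_fintype_card]; omega)).2
        (φ.codRestrict (Cfsg.SU m F q) hmem) ?_ e).elim
      exact fun a b h => hφ (congrArg Subtype.val h)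
    by_cases hn : N₀ ≤ m
    · obtain ⟨σ, hσ⟩ := CfsgLib.Laws.exists_qFrobenius hF
      refine (CfsgLib.Laws.false_of_law hlaw (hAlt m hn).2
        ((CfsgLib.Laws.altEmbed F m).codRestrict (Cfsg.SU m F q)
          (CfsgLib.Laws.altEmbed_mem_su m q σ hσ)) ?_ e).elim
      exact fun a b h => CfsgLib.Laws.altEmbed_injective F m (congrArg Subtype.val h)
    refine CfsgLib.Laws.card_le_classBound (ι := Fin m) (by simp; omega)
      (by rw [hF]; exact Nat.pow_le_pow_left (by omega) 2)
      (fun g : Cfsg.SU m F q => ((g : Matrix.SpecialLinearGroup (Fin m) F) : Matrix (Fin m) (Fin m) F))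
      (Subtype.val_injective.comp Subtype.val_injective) (fun g => e.symm (QuotientGroup.mk g))
      (e.symm.surjective.comp QuotientGroup.mk_surjective)
  · obtain ⟨F, _, _, m, hm, -, ⟨e⟩⟩ := hG
    by_cases hq : Q₀ ≤ Fintype.card F
    · refine (CfsgLib.Laws.false_of_law hlaw (hS F hq).2
        (CfsgLib.Laws.toCommutator (hS F hq).1 (CfsgLib.Laws.toIsometry _
          (CfsgLib.Laws.hypOdd (CfsgLib.Laws.slTwoEmbed F (by omega : 2 ≤ m)))
          (CfsgLib.Laws.hypOdd_form _))) ?_ e).elim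
      exact CfsgLib.Laws.toCommutator_injective _ _ (CfsgLib.Laws.toIsometry_injective _ _ _
        (CfsgLib.Laws.hypOdd_injective (CfsgLib.Laws.slTwoEmbed_injective F _)))
    by_cases hn : N₀ ≤ m
    · refine (CfsgLib.Laws.false_of_law hlaw (hAlt m hn).2
        (CfsgLib.Laws.toCommutator (hAlt m hn).1 (CfsgLib.Laws.toIsometry _
          (CfsgLib.Laws.hypOdd (CfsgLib.Laws.altEmbed F m)) (CfsgLib.Laws.hypOdd_form _))) ?_ e).elim
      exact CfsgLib.Laws.toCommutator_injective _ _ (CfsgLib.Laws.toIsometry_injective _ _ _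
        (CfsgLib.Laws.hypOdd_injective (CfsgLib.Laws.altEmbed_injective F m)))
    refine CfsgLib.Laws.card_le_classBound (ι := Unit ⊕ (Fin m ⊕ Fin m)) (by simp; omega) (by nlinarith)
      (fun g : Cfsg.Omega F (Cfsg.quadFormOdd m F) => (g.1.1 : Matrix _ _ F))
      (fun a b h => Subtype.ext (Subtype.ext (Units.ext h))) (fun g => e.symm (QuotientGroup.mk g))
      (e.symm.surjective.comp QuotientGroup.mk_surjective)
  · obtain ⟨F, _, _, m, hm, ⟨e⟩⟩ := hG
    by_cases hq : Q₀ ≤ Fintype.card F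
    · refine (CfsgLib.Laws.false_of_law hlaw (hS F hq).2
        (CfsgLib.Laws.toCommutator (hS F hq).1 (CfsgLib.Laws.toIsometry _
          (CfsgLib.Laws.hyp (CfsgLib.Laws.slTwoEmbed F (by omega : 2 ≤ m)))
          (CfsgLib.Laws.hyp_plus _))) ?_ e).elim
      exact CfsgLib.Laws.toCommutator_injective _ _ (CfsgLib.Laws.toIsometry_injective _ _ _
        (CfsgLib.Laws.hyp_injective (CfsgLib.Laws.slTwoEmbed_injective F _)))
    by_cases hn : N₀ ≤ m
    · refine (CfsgLib.Laws.false_of_law hlaw (hAlt m hn).2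
        (CfsgLib.Laws.toCommutator (hAlt m hn).1 (CfsgLib.Laws.toIsometry _
          (CfsgLib.Laws.hyp (CfsgLib.Laws.altEmbed F m)) (CfsgLib.Laws.hyp_plus _))) ?_ e).elim
      exact CfsgLib.Laws.toCommutator_injective _ _ (CfsgLib.Laws.toIsometry_injective _ _ _
        (CfsgLib.Laws.hyp_injective (CfsgLib.Laws.altEmbed_injective F m)))
    refine CfsgLib.Laws.card_le_classBound (ι := Fin m ⊕ Fin m) (by simp; omega) (by nlinarith)
      (fun g : Cfsg.Omega F (Cfsg.quadFormPlus m F) => (g.1.1 : Matrix _ _ F))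
      (fun a b h => Subtype.ext (Subtype.ext (Units.ext h))) (fun g => e.symm (QuotientGroup.mk g))
      (e.symm.surjective.comp QuotientGroup.mk_surjective)
  · obtain ⟨F, _, _, m, a, b, hm, -, ⟨e⟩⟩ := hG
    by_cases hq : Q₀ ≤ Fintype.card F
    · refine (CfsgLib.Laws.false_of_law hlaw (hS F hq).2
        (CfsgLib.Laws.toCommutator (hS F hq).1 (CfsgLib.Laws.toIsometry _
          (CfsgLib.Laws.hypMinus (CfsgLib.Laws.slTwoEmbed F (by omega : 2 ≤ m - 1)))
          (fun g v => CfsgLib.Laws.hypMinus_form _ g a b v))) ?_ e).elim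
      exact CfsgLib.Laws.toCommutator_injective _ _ (CfsgLib.Laws.toIsometry_injective _ _ _
        (CfsgLib.Laws.hypMinus_injective (CfsgLib.Laws.slTwoEmbed_injective F _)))
    by_cases hn : N₀ ≤ m - 1
    · refine (CfsgLib.Laws.false_of_law hlaw (hAlt (m - 1) hn).2
        (CfsgLib.Laws.toCommutator (hAlt (m - 1) hn).1 (CfsgLib.Laws.toIsometry _
          (CfsgLib.Laws.hypMinus (CfsgLib.Laws.altEmbed F (m - 1)))
          (fun g v => CfsgLib.Laws.hypMinus_form _ g a b v))) ?_ e).elim
      exact CfsgLib.Laws.toCommutator_injective _ _ (CfsgLib.Laws.toIsometry_injective _ _ _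
        (CfsgLib.Laws.hypMinus_injective (CfsgLib.Laws.altEmbed_injective F (m - 1))))
    refine CfsgLib.Laws.card_le_classBound (ι := (Fin (m - 1) ⊕ Fin (m - 1)) ⊕ Fin 2) (by simp; omega)
      (by nlinarith)
      (fun g : Cfsg.Omega F (Cfsg.quadFormMinus (m - 1) F a b) => (g.1.1 : Matrix _ _ F))
      (fun a b h => Subtype.ext (Subtype.ext (Units.ext h))) (fun g => e.symm (QuotientGroup.mk g))
      (e.symm.surjective.comp QuotientGroup.mk_surjective)

end Cfsg.Agent.S2355
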