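import Cfsg.Statements.S2362
import Cfsg.Agent.Lib.SpecSp.Bound
import Cfsg.Agent.Lib.Spectrum.Basic
import Cfsg.Agent.Lib.Orth.OddInvolutions
import Cfsg.Agent.Lib.SpecOrth.TorusSign

set_option autoImplicit false
open Cfsg

namespace Cfsg.Agent.S2362

/-- Let F be a finite field of odd order and n ≥ 3. The simple orthogonal group PΩ(2n+1, F) (type B_n) and the projective symplectic group PSp(2n, F) (type C_n), which have the same order, do not have the same set of element orders. -/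
theorem result {F : Type*} [Field F] [Fintype F] (hodd : Odd (Fintype.card F)) (n : ℕ) (hn : 3 ≤ n) :
    Set.range (orderOf : Cfsg.POmega F (Cfsg.quadFormOdd n F) → ℕ) ≠ Set.range (orderOf : Cfsg.PSp n F → ℕ) := by
  classical
  obtain ⟨p, hp⟩ := CharP.exists F
  have hpp : p.Prime := (CharP.char_is_prime_or_zero F p).resolve_right (CharP.char_ne_zero_of_finite F p)
  have : Fact p.Prime := ⟨hpp⟩
  have h2 : (2 : F) ≠ 0 := by
    intro h0
    obtain ⟨f, -, hF⟩ := FiniteField.card F p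
    have h1 : p ∣ 2 := (CharP.cast_eq_zero_iff F p 2).1 (by exact_mod_cast h0)
    rw [hF, (Nat.prime_dvd_prime_iff_eq hpp Nat.prime_two).1 h1, Nat.odd_pow_iff f.ne_zero] at hodd
    exact absurd hodd (by decide)
  intro heq
  set M := Fintype.card F ^ (n - 1) + 1 with hM
  obtain ⟨g, hg⟩ := CfsgLib.SpecSp.exists_witness (n := n) p h2 (h := n - 1) (c := 1)
    (by omega) (by omega) (Or.inr rfl) (Or.inr (by simp; omega))
  have hcop : M.Coprime p := by
    rw [Nat.coprime_comm, hpp.coprime_iff_not_dvd]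
    intro h0
    obtain ⟨f, -, hF⟩ := FiniteField.card F p
    have h1 : p ∣ Fintype.card F ^ (n - 1) :=
      dvd_pow (hF ▸ dvd_pow_self _ f.ne_zero) (by omega)
    exact hpp.one_lt.ne' (Nat.dvd_one.1 ((Nat.dvd_add_right h1).1 h0))
  rw [pow_one, hcop.lcm_eq_mul, mul_comm] at hg
  obtain ⟨y, hy⟩ : p * M ∈ Set.range (orderOf : Cfsg.POmega F (Cfsg.quadFormOdd n F) → ℕ) := by
    rw [heq]
    exact CfsgLib.Spectrum.mem_range_orderOf_of_dvd ⟨g, rfl⟩ hg
  revert y
  rw [← Cfsg.Agent.Spinor57.qOdd_coe (F := F)]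
  intro y hy
  obtain ⟨⟨x, hx⟩, rfl⟩ := QuotientGroup.mk_surjective y
  apply CfsgLib.SpecOrth.no_order (Cfsg.Agent.Spinor57.qOdd_nondegenerate h2) h2 p
    (h := n - 1) (by omega) (by simp; omega) x hx
  rw [← hy, ← Subgroup.orderOf_mk x hx]
  refine (orderOf_injective (QuotientGroup.mk' _) ?_ _).symm
  rw [← MonoidHom.ker_eq_bot_iff, QuotientGroup.ker_mk']
  exact CfsgLib.OrthOddInv.center_omega_eq_bot h2 hn

end Cfsg.Agent.S2362
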