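import Cfsg.Statements.S2369
import Cfsg.Agent.Lib.LargeRee.StableParabolic

set_option autoImplicit false
open Cfsg

namespace Cfsg.Agent.S2369

/-- Let q = 2^(2m+1) with m ≥ 1 and let a, b be commuting elements of the large Ree group ²F₄(q) with a an involution. Then every prime divisor of the order of b divides q(q⁴ − 1). -/
theorem result {K : Type*} [Field K] [Fintype K] (m : ℕ) (hm : 1 ≤ m) (hK : Fintype.card K = 2 ^ (2 * m + 1))
    (a b : ↥(Cfsg.Lie.twistedF4 K (2 ^ m))) (ha : orderOf a = 2) (hab : Commute a b) :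
    (orderOf b).primeFactors ⊆ (2 ^ (2 * m + 1) * ((2 ^ (2 * m + 1)) ^ 4 - 1)).primeFactors := by
  obtain ⟨hchar, hn⟩ := CfsgLib.Twisted.setupF4 K hK
  intro s hs
  obtain ⟨hsp, hsb, -⟩ := Nat.mem_primeFactors.1 hs
  have ha' : orderOf (a : GL Cfsg.Lie.chevF4.Idx K) = 2 := by rw [Subgroup.orderOf_coe, ha]
  have hab' : Commute (a : GL Cfsg.Lie.chevF4.Idx K) b := congrArg Subtype.val hab
  have h := CfsgLib.LargeRee.StableParabolic.prime_dvd_of_commute K hn (a : GL Cfsg.Lie.chevF4.Idx K) b a.2 b.2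
    ha' hab' hsp (by rwa [Subgroup.orderOf_coe])
  rw [hK] at h
  refine Nat.mem_primeFactors.2 ⟨hsp, h, ?_⟩
  have h1 : 1 < (2 ^ (2 * m + 1)) ^ 4 := Nat.one_lt_pow (by norm_num) (Nat.one_lt_pow (by omega) (by norm_num))
  exact Nat.mul_ne_zero (by positivity) (by omega)

end Cfsg.Agent.S2369
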