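import Cfsg.Statements.S2370
import Cfsg.Agent.Lib.LargeRee.Module

set_option autoImplicit false
open Cfsg

namespace Cfsg.Agent.S2370

/-- Let q = 2^(2m+1) with m ≥ 1. Every element of 2-power order of the large Ree group ²F₄(q) has order at most 32. -/
theorem result {K : Type*} [Field K] [Fintype K] (m : ℕ) (hm : 1 ≤ m) (hK : Fintype.card K = 2 ^ (2 * m + 1))
    (x : ↥(Cfsg.Lie.twistedF4 K (2 ^ m))) (hx : ∃ j : ℕ, orderOf x = 2 ^ j) : orderOf x ≤ 32 := by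
  obtain ⟨j, hj⟩ := hx
  obtain ⟨p, hp⟩ := CharP.exists K
  obtain ⟨k, hpr, hk⟩ := FiniteField.card K p
  have h2 : p = 2 := (Nat.prime_dvd_prime_iff_eq hpr Nat.prime_two).mp
    (hpr.dvd_of_dvd_pow (hK ▸ hk ▸ dvd_pow_self p k.ne_zero))
  subst h2
  have h1 : ((x : GL Cfsg.Lie.chevF4.Idx K) : Matrix Cfsg.Lie.chevF4.Idx Cfsg.Lie.chevF4.Idx K) ^ 2 ^ j = 1 := by
    rw [← Units.val_pow_eq_pow_val, ← SubmonoidClass.coe_pow, ← hj, pow_orderOf_eq_one]
    rfl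
  have h32 := CfsgLib.LargeRee.pow_thirty_two_eq_one (CfsgLib.LargeRee.good_of_mem x.2) h1
  refine Nat.le_of_dvd (by norm_num) (orderOf_dvd_of_pow_eq_one ?_)
  refine Subtype.ext (Units.ext ?_)
  rw [SubmonoidClass.coe_pow, Units.val_pow_eq_pow_val, h32]
  rfl

end Cfsg.Agent.S2370
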