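import Cfsg.Statements.S2372
import Cfsg.Agent.Lib.CycTorus.Instance
import Cfsg.Agent.Lib.ChevField.Exceptional
import Cfsg.Agent.Lib.Coxeter.FiniteOrders

set_option autoImplicit false
open Cfsg CfsgLib.ChevStr CfsgLib.ChevField CfsgLib.CycTorus Polynomial

namespace Cfsg.Agent.S2372

theorem small : ∀ ℓ ∈ (8 : ℕ).primeFactors, ∀ b : ZMod (ℓ ^ 2),
    (cyclotomic 8 (ZMod (ℓ ^ 2))).eval b ≠ 0 := by
  intro ℓ hℓ b
  rw [show (8 : ℕ) = 2 ^ 3 from rfl, Nat.primeFactors_prime_pow (by norm_num) Nat.prime_two, Finset.mem_singleton] at hℓ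
  subst hℓ
  rw [← map_cyclotomic 8 (Int.castRingHom _), cyclotomic_eight]
  simp only [Polynomial.map_add, Polynomial.map_pow, map_X, Polynomial.map_one, eval_add, eval_pow, eval_X, eval_one]
  revert b
  decide +kernel

theorem card_weyl : Nat.card reflDataF4.weyl = 1152 :=
  (Nat.card_congr coxDataF4.equivWeyl.toEquiv).symm.trans CfsgLib.CoxeterFinite.f4_card

theorem card_group (K : Type*) [Field K] [Fintype K] :
    Nat.card ↥(Cfsg.Lie.chevF4.group K) =
      Fintype.card K ^ 24 * (([2, 6, 8, 12] : List ℕ).map fun i => Fintype.card K ^ i - 1).prod := by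
  have h := (coreF4 K).card_group_mul rfl (N := 24) (ncard_isPosRoot (by decide +kernel)) poincareF4
    (card_diagonalF4 K)
  rwa [one_mul] at h

theorem not_dvd_weyl {r : ℕ} (hr : r.Prime) (h : 8 ∣ r - 1) :
    ¬ r ∣ Nat.card reflDataF4.weyl := by
  rw [card_weyl, show (1152 : ℕ) = 2 ^ 7 * 3 ^ 2 from by norm_num]
  intro hd
  have hpow : ∀ a k : ℕ, 0 < a → a ≤ 3 → r ∣ a ^ k → r ≤ 3 := fun a k ha hle hd =>
    (Nat.le_of_dvd ha (hr.dvd_of_dvd_pow hd)).trans hle
  have hle : r ≤ 3 := by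
    rcases hr.dvd_mul.1 hd with hd | hd
    · exact hpow 2 _ (by norm_num) (by norm_num) hd
    · exact hpow 3 2 (by norm_num) (by norm_num) hd
  interval_cases r <;> first | omega | exact absurd hr (by norm_num)

/-- The group F₄(q) contains a cyclic subgroup of order q⁴ + 1 which is its own centralizer. -/
theorem result {F : Type*} [Field F] [Fintype F] (q : ℕ) (hF : Fintype.card F = q) :
    ∃ H : Subgroup ↥(Cfsg.Lie.chevF4.group F), IsCyclic ↥H ∧ Nat.card ↥H = q ^ 4 + 1 ∧
      Subgroup.centralizer (H : Set ↥(Cfsg.Lie.chevF4.group F)) = H := by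
  have hq2 : 2 ≤ q := hF ▸ Fintype.one_lt_card
  have hev : (cyclotomic 8 ℤ).eval (q : ℤ) = ((q ^ 4 + 1 : ℕ) : ℤ) := by
    rw [cyclotomic_eight]
    simp
  obtain ⟨H, hc, hcard, hcent⟩ := exists_self_centralizing (D := Cfsg.Lie.chevF4) (fun K _ => coreF4 K)
    invCartanF4 invCartanF4_spec (d := 8) (by norm_num)
    (by rw [show Cfsg.Lie.chevF4.rank = 4 by decide +kernel]; decide +kernel)
    (N₀ := 24) [2, 6, 8, 12] (by decide +kernel) (e := 8) (by decide) (by norm_num)
    (fun K _ _ => card_group K) (fun K _ r hr h => not_dvd_weyl hr h)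
    (fun K _ => by
      show ∀ i ∈ ([2, 6, 8, 12] : List ℕ), i ∣ Nat.card reflDataF4.weyl
      rw [card_weyl]; decide)
    small hF (by rw [← hF]; exact card_group F)
    (by
      rw [hev]
      exact_mod_cast (show 8 < q ^ 4 + 1 by
        have := Nat.pow_le_pow_left hq2 4; omega))
  exact ⟨H, hc, Int.ofNat.inj (hcard.trans hev), hcent⟩

end Cfsg.Agent.S2372
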