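import Cfsg.Statements.S2375
import Cfsg.Agent.Lib.CycTorus.Instance
import Cfsg.Agent.Lib.ChevField.Exceptional
import Cfsg.Agent.Lib.Coxeter.FiniteOrders

set_option autoImplicit false
open Cfsg CfsgLib.ChevStr CfsgLib.ChevField CfsgLib.CycTorus Polynomial

namespace Cfsg.Agent.S2375

theorem small : ∀ ℓ ∈ (30 : ℕ).primeFactors, ∀ b : ZMod (ℓ ^ 2),
    (cyclotomic 30 (ZMod (ℓ ^ 2))).eval b ≠ 0 := by
  intro ℓ hℓ b
  have h30 : (30 : ℕ).primeFactors = {2, 3, 5} := by
    rw [show (30 : ℕ) = 2 * 3 * 5 from rfl, Nat.primeFactors_mul (by norm_num) (by norm_num),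
      Nat.primeFactors_mul (by norm_num) (by norm_num), Nat.Prime.primeFactors (by norm_num),
      Nat.Prime.primeFactors (by norm_num), Nat.Prime.primeFactors (by norm_num)]
    rfl
  rw [h30] at hℓ
  simp only [Finset.mem_insert, Finset.mem_singleton] at hℓ
  rw [← map_cyclotomic 30 (Int.castRingHom _), cyclotomic_thirty]
  simp only [Polynomial.map_add, Polynomial.map_sub, Polynomial.map_pow, map_X, Polynomial.map_one, eval_add, eval_sub, eval_pow, eval_X, eval_one]
  revert b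
  rcases hℓ with rfl | rfl | rfl <;> decide +kernel

theorem card_weyl : Nat.card reflDataE8.weyl = 696729600 :=
  (Nat.card_congr coxDataE8.equivWeyl.toEquiv).symm.trans CfsgLib.CoxeterFinite.e8_card

theorem card_group (K : Type*) [Field K] [Fintype K] :
    Nat.card ↥(Cfsg.Lie.chevE8.group K) =
      Fintype.card K ^ 120 * (([2, 8, 12, 14, 18, 20, 24, 30] : List ℕ).map fun i => Fintype.card K ^ i - 1).prod := by
  have h := (coreE8 K).card_group_mul rfl (N := 120) (ncard_isPosRoot (by decide +kernel)) poincareE8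
    (card_diagonalE8 K)
  rwa [one_mul] at h

theorem not_dvd_weyl {r : ℕ} (hr : r.Prime) (h : 30 ∣ r - 1) :
    ¬ r ∣ Nat.card reflDataE8.weyl := by
  rw [card_weyl, show (696729600 : ℕ) = 2 ^ 14 * 3 ^ 5 * 5 ^ 2 * 7 from by norm_num]
  intro hd
  have hpow : ∀ a k : ℕ, 0 < a → a ≤ 7 → r ∣ a ^ k → r ≤ 7 := fun a k ha hle hd =>
    (Nat.le_of_dvd ha (hr.dvd_of_dvd_pow hd)).trans hle
  have hle : r ≤ 7 := by
    rcases hr.dvd_mul.1 hd with hd | hd
    · rcases hr.dvd_mul.1 hd with hd | hd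
      · rcases hr.dvd_mul.1 hd with hd | hd
        · exact hpow 2 14 (by norm_num) (by norm_num) hd
        · exact hpow 3 5 (by norm_num) (by norm_num) hd
      · exact hpow 5 2 (by norm_num) (by norm_num) hd
    · exact Nat.le_of_dvd (by norm_num) hd
  interval_cases r <;> first | omega | exact absurd hr (by norm_num)

/-- The group E₈(q) contains a cyclic subgroup of order q⁸ + q⁷ − q⁵ − q⁴ − q³ + q + 1 which is its own centralizer. -/
theorem result {F : Type*} [Field F] [Fintype F] (q : ℕ) (hF : Fintype.card F = q) :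
    ∃ H : Subgroup ↥(Cfsg.Lie.chevE8.group F), IsCyclic ↥H ∧ Nat.card ↥H = q ^ 8 + q ^ 7 - q ^ 5 - q ^ 4 - q ^ 3 + q + 1 ∧
      Subgroup.centralizer (H : Set ↥(Cfsg.Lie.chevE8.group F)) = H := by
  have hq2 : 2 ≤ q := hF ▸ Fintype.one_lt_card
  have hev : (cyclotomic 30 ℤ).eval (q : ℤ) = ((q ^ 8 + q ^ 7 - q ^ 5 - q ^ 4 - q ^ 3 + q + 1 : ℕ) : ℤ) := by
    rw [cyclotomic_thirty]
    simp only [eval_add, eval_sub, eval_pow, eval_X, eval_one]
    have h : q ^ 5 + q ^ 4 + q ^ 3 ≤ q ^ 7 := by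
      have h1 : q ^ 5 * 4 ≤ q ^ 7 := by
        calc q ^ 5 * 4 ≤ q ^ 5 * q ^ 2 := by gcongr; nlinarith
          _ = q ^ 7 := by ring
      have h2 : q ^ 4 ≤ q ^ 5 := Nat.pow_le_pow_right (by omega) (by norm_num)
      have h3 : q ^ 3 ≤ q ^ 5 := Nat.pow_le_pow_right (by omega) (by norm_num)
      omega
    rw [show q ^ 8 + q ^ 7 - q ^ 5 - q ^ 4 - q ^ 3 + q + 1 =
      q ^ 8 + (q ^ 7 - (q ^ 5 + q ^ 4 + q ^ 3)) + q + 1 by omega]
    push_cast [Nat.cast_sub h]
    ring
  obtain ⟨H, hc, hcard, hcent⟩ := exists_self_centralizing (D := Cfsg.Lie.chevE8) (fun K _ => coreE8 K)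
    invCartanE8 invCartanE8_spec (d := 30) (by norm_num)
    (by rw [show Cfsg.Lie.chevE8.rank = 8 by decide +kernel]; decide +kernel)
    (N₀ := 120) [2, 8, 12, 14, 18, 20, 24, 30] (by decide +kernel) (e := 30) (by decide) (by norm_num)
    (fun K _ _ => card_group K) (fun K _ r hr h => not_dvd_weyl hr h)
    (fun K _ => by
      show ∀ i ∈ ([2, 8, 12, 14, 18, 20, 24, 30] : List ℕ), i ∣ Nat.card reflDataE8.weyl
      rw [card_weyl]; decide)
    small hF (by rw [← hF]; exact card_group F)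
    (by
      rw [hev]
      exact_mod_cast (show 30 < q ^ 8 + q ^ 7 - q ^ 5 - q ^ 4 - q ^ 3 + q + 1 by
        have := Nat.pow_le_pow_left hq2 8
        have := Nat.pow_le_pow_left hq2 7
        have h1 : q ^ 5 * 4 ≤ q ^ 7 := by
          calc q ^ 5 * 4 ≤ q ^ 5 * q ^ 2 := by gcongr; nlinarith
            _ = q ^ 7 := by ring
        have h2 : q ^ 4 ≤ q ^ 5 := Nat.pow_le_pow_right (by omega) (by norm_num)
        have h3 : q ^ 3 ≤ q ^ 5 := Nat.pow_le_pow_right (by omega) (by norm_num)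
        omega))
  exact ⟨H, hc, Int.ofNat.inj (hcard.trans hev), hcent⟩

end Cfsg.Agent.S2375
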