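import Cfsg.Statements.S2376
import Cfsg.Agent.Lib.RegTorus.TrialityTorus

set_option autoImplicit false
open Cfsg

namespace Cfsg.Agent.S2376

/-- The group ³D₄(q) contains a cyclic subgroup of order (q³ − 1)(q + 1) which is its own centralizer. -/
theorem result {K : Type*} [Field K] [Fintype K] (q : ℕ) (hq : IsPrimePow q) (hK : Fintype.card K = q ^ 3) :
    ∃ H : Subgroup ↥(Cfsg.Lie.twistedD4 K q), IsCyclic ↥H ∧ Nat.card ↥H = (q ^ 3 - 1) * (q + 1) ∧
      Subgroup.centralizer (H : Set ↥(Cfsg.Lie.twistedD4 K q)) = H := by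
  obtain ⟨p, n, hp, hn, rfl⟩ := (isPrimePow_nat_iff q).1 hq
  have : Fact p.Prime := ⟨hp⟩
  obtain ⟨r, hr⟩ := CharP.exists K
  obtain ⟨m, hrp, hcard⟩ := FiniteField.card K r
  have hpr : p = r := by
    have h : p ∣ r ^ (m : ℕ) := by
      rw [← hcard, hK]
      exact dvd_pow (dvd_pow_self p hn.ne') (by norm_num)
    exact (Nat.prime_dvd_prime_iff_eq hp hrp).1 (hp.dvd_of_dvd_pow h)
  subst hpr
  exact CfsgLib.RegTorus.exists_cyclic_torus_D4 K p n (by rw [hK]; ring)
    (le_trans hp.two_le (Nat.le_self_pow hn.ne' p))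

end Cfsg.Agent.S2376
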