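import Cfsg.Statements.S2383
import Cfsg.Agent.Lib.SimpleCount.Main
import Cfsg.Agent.Lib.ChevStr.InstanceTables

set_option autoImplicit false
open Cfsg

namespace Cfsg.Agent.S2383

/-- Steinberg's count of semisimple classes in characteristic 2 for the types B₂, D₄, E₇, where the finite simply connected group has trivial centre and so coincides with the Chevalley group: for the Chevalley group of type B₂, D₄ or E₇ over a field with `q` elements of characteristic 2, the conjugacy classes of elements of odd order number exactly `q^l`, `l` the rank. -/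
theorem result {F : Type*} [Field F] [Fintype F] {q : ℕ} (hq : Fintype.card F = q) [CharP F 2]
    (D : Cfsg.Lie.ChevalleyDatum) (hD : D ∈ [Cfsg.Lie.chevB2, Cfsg.Lie.chevD4, Cfsg.Lie.chevE7]) :
    Nat.card {c : ConjClasses ↥(D.group F) // ∃ g : ↥(D.group F), ConjClasses.mk g = c ∧ Odd (orderOf g)} = q ^ D.rank := by
  haveI : Fact (Nat.Prime 2) := ⟨Nat.prime_two⟩
  have h2 : Nat.gcd (Fintype.card F - 1) 2 = 1 := by
    obtain ⟨n, -, hn⟩ := FiniteField.card F 2
    refine Nat.coprime_comm.1 ((Nat.prime_two.coprime_iff_not_dvd).2 fun h => ?_)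
    have h1 : 2 ∣ Fintype.card F := hn ▸ dvd_pow_self 2 n.pos.ne'
    have := Fintype.card_pos (α := F)
    omega
  have key : ∀ {D : Cfsg.Lie.ChevalleyDatum} (C : CfsgLib.ChevStr.ChevCore D F),
      Function.Injective (C.R.torus (F := F)) →
      Nat.card {c : ConjClasses ↥(D.group F) // ∃ g : ↥(D.group F),
        ConjClasses.mk g = c ∧ Odd (orderOf g)} = q ^ D.rank := by
    intro D C hinj
    rw [← hq, ← CfsgLib.SimpleCount.card_coprime_classes C 2 hinj]
    exact Nat.card_congr (Equiv.subtypeEquivRight fun c => exists_congr fun g =>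
      and_congr_right fun _ => (Nat.coprime_two_right).symm)
  simp only [List.mem_cons, List.not_mem_nil, or_false] at hD
  rcases hD with rfl | rfl | rfl
  · refine key (CfsgLib.ChevStr.coreB2 F)
      (CfsgLib.SimpleCount.torus_injective_of_gcd _ CfsgLib.ChevStr.smithB2 fun a => ?_)
    change Fin 2 at a
    fin_cases a <;> simp [h2]
  · refine key (CfsgLib.ChevStr.coreD4 F)
      (CfsgLib.SimpleCount.torus_injective_of_gcd _ CfsgLib.ChevStr.smithD4 fun a => ?_)
    change Fin 4 at a
    fin_cases a <;> simp [h2]
  · refine key (CfsgLib.ChevStr.coreE7 F)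
      (CfsgLib.SimpleCount.torus_injective_of_gcd _ CfsgLib.ChevStr.smithE7 fun a => ?_)
    change Fin 7 at a
    fin_cases a <;> simp [h2]

end Cfsg.Agent.S2383
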