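import Cfsg.Statements.S2394
-- import your own Cfsg.Agent.* helpers here

set_option autoImplicit false
open scoped MatrixGroups
open Cfsg

namespace Cfsg.Agent.S2394


open Matrix

section Count

variable {K : Type*} [Field K] {ι : Type*} [DecidableEq ι]

/-- Invert the coordinates in `U`. -/
def flipOn (U : Finset ι) (χ : ι → K) : ι → K := fun j => if j ∈ U then (χ j)⁻¹ else χ j

/-- A finite set of tuples closed under inverting one coordinate, with every coordinate somewhere
different from its inverse, has at least twice as many elements as there are coordinates. -/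
theorem card_ge (I : Finset ι) : ∀ Λ : Finset (ι → K),
    (∀ χ ∈ Λ, ∀ i ∈ I, flipOn {i} χ ∈ Λ) → (∀ i ∈ I, ∃ χ ∈ Λ, χ i ^ 2 ≠ 1 ∧ χ i ≠ 0) →
    (∀ χ ∈ Λ, ∀ i, χ i ≠ 0) → 2 * I.card ≤ Λ.card := by
  classical
  induction I using Finset.strongInduction with
  | _ I ih =>
    intro Λ hflip hact hne
    rcases I.eq_empty_or_nonempty with rfl | ⟨i, hi⟩
    · simp
    obtain ⟨χ, hχ, hχi, -⟩ := hact i hi
    set S := I.filter (fun j => χ j ^ 2 ≠ 1) with hS
    have hmem : ∀ U ⊆ S, flipOn U χ ∈ Λ := by
      intro U
      induction U using Finset.induction_on with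
      | empty =>
        intro _
        convert hχ using 1
        funext j
        simp [flipOn]
      | insert a U ha ihU =>
        intro hsub
        rw [Finset.insert_subset_iff] at hsub
        have := hflip _ (ihU hsub.2) a (Finset.mem_filter.1 hsub.1).1
        convert this using 1
        funext j
        by_cases hja : j = a
        · subst hja; simp [flipOn, ha]
        · simp [flipOn, hja]
    set O := S.powerset.image (fun U => flipOn U χ) with hO
    have hOcard : O.card = 2 ^ S.card := by
      rw [hO, Finset.card_image_of_injOn, Finset.card_powerset]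
      intro U hU V hV hUV
      simp only [Finset.mem_coe, Finset.mem_powerset] at hU hV
      ext j
      by_cases hjS : j ∈ S
      · have hj := congrFun hUV j
        have h0 := hne χ hχ j
        have h2 := (Finset.mem_filter.1 hjS).2
        simp only [flipOn] at hj
        by_cases hjU : j ∈ U <;> by_cases hjV : j ∈ V <;> simp [hjU, hjV] at hj ⊢
        · exact h2 (by rw [sq]; nth_rw 1 [← hj]; simp [h0])
        · exact h2 (by rw [sq]; nth_rw 1 [hj]; simp [h0])
      · exact ⟨fun h => absurd (hU h) hjS, fun h => absurd (hV h) hjS⟩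
    have hOsub : O ⊆ Λ := Finset.image_subset_iff.2 fun U hU => hmem U (Finset.mem_powerset.1 hU)
    have hOclosed : ∀ ψ ∈ O, ∀ j ∈ I, flipOn {j} ψ ∈ O := by
      intro ψ hψ j hj
      simp only [hO, Finset.mem_image, Finset.mem_powerset] at hψ ⊢
      obtain ⟨U, hU, rfl⟩ := hψ
      by_cases hjS : j ∈ S
      · by_cases hjU : j ∈ U
        · refine ⟨U.erase j, (Finset.erase_subset _ _).trans hU, funext fun x => ?_⟩
          by_cases hx : x = j
          · subst hx; simp [flipOn, hjU]
          · simp [flipOn, hx]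
        · refine ⟨insert j U, Finset.insert_subset_iff.2 ⟨hjS, hU⟩, funext fun x => ?_⟩
          by_cases hx : x = j
          · subst hx; simp [flipOn, hjU]
          · simp [flipOn, hx]
      · refine ⟨U, hU, funext fun x => ?_⟩
        by_cases hx : x = j
        · subst hx
          have hxU : x ∉ U := fun h => hjS (hU h)
          have h1 : χ x ^ 2 = 1 := by
            by_contra h; exact hjS (Finset.mem_filter.2 ⟨hj, h⟩)
          simp [flipOn, hxU]
          exact eq_inv_of_mul_eq_one_left (by rw [← sq, h1])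
        · simp [flipOn, hx]
    have hlt : I \ S ⊂ I := (Finset.ssubset_iff_of_subset Finset.sdiff_subset).2
      ⟨i, hi, fun h => (Finset.mem_sdiff.1 h).2 (Finset.mem_filter.2 ⟨hi, hχi⟩)⟩
    have hrec : 2 * (I \ S).card ≤ (Λ \ O).card := by
      refine ih _ hlt (Λ \ O) ?_ ?_ (fun ψ hψ => hne ψ (Finset.mem_sdiff.1 hψ).1)
      · intro ψ hψ j hj
        obtain ⟨hψΛ, hψO⟩ := Finset.mem_sdiff.1 hψ
        have hjI := (Finset.mem_sdiff.1 hj).1
        refine Finset.mem_sdiff.2 ⟨hflip ψ hψΛ j hjI, fun h => hψO ?_⟩
        have := hOclosed _ h j hjI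
        convert this using 1
        funext x
        by_cases hx : x = j <;> simp [flipOn, hx]
      · intro j hj
        obtain ⟨hjI, hjS⟩ := Finset.mem_sdiff.1 hj
        obtain ⟨ψ, hψ, hψj⟩ := hact j hjI
        refine ⟨ψ, Finset.mem_sdiff.2 ⟨hψ, fun h => ?_⟩, hψj⟩
        simp only [hO, Finset.mem_image, Finset.mem_powerset] at h
        obtain ⟨U, hU, rfl⟩ := h
        have hjU : j ∉ U := fun h => hjS (hU h)
        refine hjS (Finset.mem_filter.2 ⟨hjI, ?_⟩)
        simpa [flipOn, hjU] using hψj.1
    have h1 : O.card + (Λ \ O).card = Λ.card := by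
      rw [add_comm, Finset.card_sdiff_add_card_eq_card hOsub]
    have h2 : (I \ S).card + S.card = I.card :=
      Finset.card_sdiff_add_card_eq_card (Finset.filter_subset _ _)
    have h3 : 2 * S.card ≤ 2 ^ S.card := by
      generalize S.card = s
      induction s with
      | zero => simp
      | succ s _ =>
        have := Nat.lt_two_pow_self (n := s)
        rw [pow_succ]; omega
    omega

end Count

section Eigen

variable {K : Type*} [Field K] {V : Type*} [AddCommGroup V] [Module K V] {ι : Type*}

/-- Joint eigenvectors for distinct tuples of eigenvalues are linearly independent. -/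
theorem eq_zero_of_sum_eigen (A : ι → Module.End K V) (v : (ι → K) → V) (s : Finset (ι → K))
    (hv : ∀ χ ∈ s, v χ ≠ 0 ∧ ∀ i, A i (v χ) = χ i • v χ) :
    ∀ c : (ι → K) → K, ∑ χ ∈ s, c χ • v χ = 0 → ∀ χ ∈ s, c χ = 0 := by
  classical
  induction s using Finset.induction_on with
  | empty => simp
  | insert χ₁ s hχ₁ ih =>
    intro c hc
    have ih' := ih fun χ hχ => hv χ (Finset.mem_insert_of_mem hχ)
    have hs : ∀ χ ∈ s, c χ = 0 := by
      intro χ hχ
      obtain ⟨i, hi⟩ := Function.ne_iff.1 (ne_of_mem_of_not_mem hχ hχ₁)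
      have h1 : ∑ x ∈ s, (c x * (x i - χ₁ i)) • v x = 0 := by
        have h2 := congrArg (fun w => A i w - χ₁ i • w) hc
        simp only [Finset.sum_insert hχ₁, map_add, map_sum, smul_add, Finset.smul_sum, map_smul,
          map_zero, smul_zero, sub_zero, add_sub_add_comm, ← Finset.sum_sub_distrib] at h2
        rw [(hv χ₁ (Finset.mem_insert_self _ _)).2 i, smul_comm (χ₁ i) (c χ₁), sub_self, zero_add] at h2
        rw [← h2]
        refine Finset.sum_congr rfl fun x hx => ?_
        rw [(hv x (Finset.mem_insert_of_mem hx)).2 i, smul_smul, smul_smul, ← sub_smul]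
        congr 1
        ring
      simpa [sub_ne_zero.2 hi] using ih' _ h1 χ hχ
    intro χ hχ
    rw [Finset.sum_insert hχ₁, Finset.sum_eq_zero (fun x hx => by rw [hs x hx, zero_smul]), add_zero] at hc
    rcases Finset.mem_insert.1 hχ with rfl | hχ
    · exact (smul_eq_zero.1 hc).resolve_right (hv χ (Finset.mem_insert_self _ _)).1
    · exact hs χ hχ

/-- A finite set of tuples of eigenvalues of joint eigenvectors has at most `dim V` elements. -/
theorem card_le_finrank [FiniteDimensional K V] (A : ι → Module.End K V) (s : Finset (ι → K))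
    (hs : ∀ χ ∈ s, ∃ v : V, v ≠ 0 ∧ ∀ i, A i v = χ i • v) : s.card ≤ Module.finrank K V := by
  classical
  choose! v hv using hs
  have hli : LinearIndependent K (fun χ : s => v χ) := by
    rw [Fintype.linearIndependent_iff]
    intro g hg χ
    have := eq_zero_of_sum_eigen A v s hv (fun x => if h : x ∈ s then g ⟨x, h⟩ else 0)
      (by rw [← Finset.sum_coe_sort]; simpa using hg) χ χ.2
    simpa using this
  simpa using hli.fintype_card_le_finrank

variable [IsAlgClosed K] [FiniteDimensional K V]

/-- Commuting operators have a joint eigenvector extending a given eigenvalue of one of them. -/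
theorem exists_joint [Finite ι] (A : ι → Module.End K V) (hcomm : ∀ i j, A i * A j = A j * A i)
    (i : ι) (μ : K) (hμ : (A i).HasEigenvalue μ) :
    ∃ χ : ι → K, χ i = μ ∧ ∃ v : V, v ≠ 0 ∧ ∀ j, A j v = χ j • v := by
  classical
  have := Fintype.ofFinite ι
  suffices h : ∀ s : Finset ι, ∃ W : Submodule K V, W ≠ ⊥ ∧ (∀ j, ∀ w ∈ W, A j w ∈ W) ∧
      (∀ w ∈ W, A i w = μ • w) ∧ ∀ j ∈ s, ∃ a : K, ∀ w ∈ W, A j w = a • w by
    obtain ⟨W, hW, -, hWi, hWs⟩ := h Finset.univ
    obtain ⟨v, hv, hv0⟩ := Submodule.exists_mem_ne_zero_of_ne_bot hW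
    choose a ha using fun j => hWs j (Finset.mem_univ j)
    exact ⟨Function.update a i μ, by simp, v, hv0, fun j => by
      rcases eq_or_ne j i with rfl | hj
      · simpa using hWi v hv
      · simpa [hj] using ha j v hv⟩
  intro s
  induction s using Finset.induction_on with
  | empty =>
    refine ⟨(A i).eigenspace μ, hμ, fun j w hw => ?_, fun w hw => Module.End.mem_eigenspace_iff.1 hw,
      by simp⟩
    rw [Module.End.mem_eigenspace_iff] at hw ⊢
    rw [← Module.End.mul_apply, hcomm, Module.End.mul_apply, hw, map_smul]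
  | insert j s _ ih =>
    obtain ⟨W, hW, hinv, hWi, hWs⟩ := ih
    have : Nontrivial W := Submodule.nontrivial_iff_ne_bot.2 hW
    obtain ⟨a, ha⟩ := Module.End.exists_eigenvalue ((A j).restrict (hinv j))
    obtain ⟨w₀, hw₀⟩ := ha.exists_hasEigenvector
    refine ⟨W ⊓ (A j).eigenspace a, ?_, fun k w hw => ?_, fun w hw => hWi w hw.1, ?_⟩
    · intro h
      have hmem : (w₀ : V) ∈ W ⊓ (A j).eigenspace a :=
        ⟨w₀.2, Module.End.mem_eigenspace_iff.2 (congrArg Subtype.val hw₀.apply_eq_smul)⟩
      rw [h, Submodule.mem_bot] at hmem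
      exact hw₀.2 (Subtype.ext hmem)
    · refine ⟨hinv k w hw.1, ?_⟩
      rw [SetLike.mem_coe, Module.End.mem_eigenspace_iff,
        ← Module.End.mul_apply, hcomm, Module.End.mul_apply, Module.End.mem_eigenspace_iff.1 hw.2, map_smul]
    · intro k hk
      rcases Finset.mem_insert.1 hk with rfl | hk
      · exact ⟨a, fun w hw => Module.End.mem_eigenspace_iff.1 hw.2⟩
      · obtain ⟨b, hb⟩ := hWs k hk
        exact ⟨b, fun w hw => hb w hw.1⟩

/-- An operator of finite order prime to the characteristic with square different from 1 has an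
eigenvalue with square different from 1. -/
theorem exists_eigen_sq_ne_one (A : Module.End K V) {m : ℕ} (hm : (m : K) ≠ 0) (hA : A ^ m = 1)
    (hA2 : A ^ 2 ≠ 1) : ∃ μ : K, A.HasEigenvalue μ ∧ μ ^ 2 ≠ 1 := by
  by_contra h
  push Not at h
  apply hA2
  have hint : IsIntegral K A := Algebra.IsIntegral.isIntegral A
  have hm0 : 0 < m := Nat.pos_of_ne_zero fun h0 => hm (by simp [h0])
  have hdvd : minpoly K A ∣ Polynomial.X ^ m - Polynomial.C 1 := minpoly.dvd K A (by simp [hA])
  have hsep : (minpoly K A).Separable :=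
    (Polynomial.separable_X_pow_sub_C (1 : K) hm one_ne_zero).of_dvd hdvd
  have hle : (minpoly K A).roots ≤ (Polynomial.X ^ 2 - Polynomial.C (1 : K)).roots := by
    refine (Multiset.le_iff_subset (Polynomial.nodup_roots hsep)).2 fun μ hμ => ?_
    rw [Polynomial.mem_roots (Polynomial.X_pow_sub_C_ne_zero (by norm_num) _)]
    have hroot := (Polynomial.mem_roots (minpoly.ne_zero hint)).1 hμ
    simp [h μ (Module.End.hasEigenvalue_iff_isRoot.2 hroot)]
  have hdiv := (IsAlgClosed.splits (minpoly K A)).dvd_of_roots_le_roots (minpoly.ne_zero hint) hle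
  have h0 := Polynomial.aeval_eq_zero_of_dvd_aeval_eq_zero hdiv (minpoly.aeval K A)
  simpa [sub_eq_zero] using h0

end Eigen

section Embed

variable {F : Type*} [Field F] {n : ℕ}

/-- The block diagonal embedding of `n` copies of `SL₂` into `Sp_{2n}`. -/
noncomputable def sl2Pow : (Fin n → Matrix.SpecialLinearGroup (Fin 2) F) →*
    ↥(Matrix.symplecticGroup (Fin n) F) where
  toFun g := ⟨Matrix.fromBlocks (diagonal fun i => (g i).1 0 0) (diagonal fun i => (g i).1 0 1)
      (diagonal fun i => (g i).1 1 0) (diagonal fun i => (g i).1 1 1), by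
    rw [SymplecticGroup.mem_iff, Matrix.J, fromBlocks_transpose, fromBlocks_multiply,
      fromBlocks_multiply]
    have hdet : ∀ i, (g i).1 0 0 * (g i).1 1 1 - (g i).1 0 1 * (g i).1 1 0 = 1 := fun i => by
      have := (g i).2
      rwa [det_fin_two] at this
    simp only [diagonal_transpose, mul_zero, zero_mul, Matrix.mul_one, Matrix.mul_neg,
      Matrix.neg_mul, zero_add, add_zero, diagonal_mul_diagonal, diagonal_neg, diagonal_add]
    refine (Matrix.fromBlocks_inj).2 ⟨?_, ?_, ?_, ?_⟩
    · rw [← diagonal_zero]; congr 1; funext i; ring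
    · rw [← diagonal_one, diagonal_neg]; congr 1; funext i; linear_combination (-1 : F) * hdet i
    · rw [← diagonal_one]; congr 1; funext i; linear_combination hdet i
    · rw [← diagonal_zero]; congr 1; funext i; ring⟩
  map_one' := by
    refine Subtype.ext ?_
    simp
  map_mul' g h := by
    refine Subtype.ext ?_
    simp only [Submonoid.coe_mul, fromBlocks_multiply, diagonal_mul_diagonal, diagonal_add]
    congr 1 <;> congr 1 <;> funext i <;>
      simp [Matrix.mul_apply, Fin.sum_univ_two]

theorem sl2Pow_injective : Function.Injective (sl2Pow (F := F) (n := n)) := by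
  intro g h hgh
  obtain ⟨h00, h01, h10, h11⟩ := Matrix.fromBlocks_inj.1 (congrArg Subtype.val hgh)
  funext i
  apply Subtype.ext
  ext a b
  fin_cases a <;> fin_cases b
  · exact congrFun (diagonal_injective h00) i
  · exact congrFun (diagonal_injective h01) i
  · exact congrFun (diagonal_injective h10) i
  · exact congrFun (diagonal_injective h11) i

/-- A matrix of determinant one from its entries. -/
def mk2 (a b c d : F) (h : a * d - b * c = 1) : Matrix.SpecialLinearGroup (Fin 2) F :=
  ⟨!![a, b; c, d], by rw [det_fin_two_of]; exact h⟩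

theorem coe_mk2 (a b c d : F) (h : a * d - b * c = 1) :
    (mk2 a b c d h : Matrix (Fin 2) (Fin 2) F) = !![a, b; c, d] := rfl

/-- An element of order prime to the characteristic, not an involution, conjugate to its inverse. -/
theorem exists_inverted [Finite F] : ∃ (g h : Matrix.SpecialLinearGroup (Fin 2) F) (m : ℕ),
    (m : F) ≠ 0 ∧ g ^ m = 1 ∧ g ^ 2 ≠ 1 ∧ g * h = h * g⁻¹ := by
  by_cases h2 : (2 : F) = 0
  · refine ⟨mk2 0 1 1 1 (by linear_combination -h2), mk2 1 0 1 1 (by ring), 3, ?_, ?_, ?_, ?_⟩
    · intro h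
      push_cast at h
      exact one_ne_zero (α := F) (by linear_combination h - h2)
    · apply Subtype.ext
      rw [Matrix.SpecialLinearGroup.coe_pow, Matrix.SpecialLinearGroup.coe_one, coe_mk2]
      ext i j
      fin_cases i <;> fin_cases j <;> simp [pow_succ, Matrix.mul_apply, Fin.sum_univ_two] <;>
        linear_combination h2
    · intro h
      have h' := congrFun (congrFun (congrArg Subtype.val h) 0) 1
      rw [Matrix.SpecialLinearGroup.coe_pow, Matrix.SpecialLinearGroup.coe_one, coe_mk2] at h'
      simp [sq, Matrix.mul_apply, Fin.sum_univ_two] at h'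
    · apply Subtype.ext
      rw [Matrix.SpecialLinearGroup.coe_mul, Matrix.SpecialLinearGroup.coe_mul,
        Matrix.SpecialLinearGroup.coe_inv, coe_mk2, coe_mk2, adjugate_fin_two_of]
      ext i j
      fin_cases i <;> fin_cases j <;>
        simp [Matrix.mul_apply, Fin.sum_univ_two] <;> linear_combination h2
  · have := Fintype.ofFinite F
    obtain ⟨p, hp⟩ := CharP.exists F
    have : Fact p.Prime := ⟨CharP.char_is_prime F p⟩
    obtain ⟨a, b, hab⟩ := CharP.sq_add_sq F p (-1)
    push_cast at hab
    refine ⟨mk2 0 1 (-1) 0 (by ring), mk2 (a : F) b b (-a) (by linear_combination -hab), 4, ?_, ?_, ?_, ?_⟩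
    · intro h
      push_cast at h
      exact h2 (mul_self_eq_zero.1 (by linear_combination h))
    · apply Subtype.ext
      rw [Matrix.SpecialLinearGroup.coe_pow, Matrix.SpecialLinearGroup.coe_one, coe_mk2]
      ext i j
      fin_cases i <;> fin_cases j <;> simp [pow_succ, Matrix.mul_apply, Fin.sum_univ_two]
    · intro h
      have h' := congrFun (congrFun (congrArg Subtype.val h) 0) 0
      rw [Matrix.SpecialLinearGroup.coe_pow, Matrix.SpecialLinearGroup.coe_one, coe_mk2] at h'
      simp [sq, Matrix.mul_apply, Fin.sum_univ_two] at h'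
      exact h2 (by linear_combination -h')
    · apply Subtype.ext
      rw [Matrix.SpecialLinearGroup.coe_mul, Matrix.SpecialLinearGroup.coe_mul,
        Matrix.SpecialLinearGroup.coe_inv, coe_mk2, coe_mk2, adjugate_fin_two_of]
      ext i j
      fin_cases i <;> fin_cases j <;> simp [Matrix.mul_apply, Fin.sum_univ_two]

end Embed

/-- The smallest degree of a faithful representation of the symplectic group `Sp_{2n}(q)` over its own field `F_q` is `2n`: every injective homomorphism from `Sp_{2n}(F)` to `GL_d(F)`, `F` the field with `q` elements, has `d ≥ 2n`. -/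
theorem result {F : Type*} [Field F] [Fintype F] (n : ℕ) {d : ℕ}
    (ρ : ↥(Matrix.symplecticGroup (Fin n) F) →* GL (Fin d) F) (hρ : Function.Injective ρ) : 2 * n ≤ d := by
  classical
  let K := AlgebraicClosure F
  obtain ⟨g, h, m, hm, hgm, hg2, hconj⟩ := exists_inverted (F := F)
  let Φ : (Fin n → Matrix.SpecialLinearGroup (Fin 2) F) →* Module.End K (Fin d → K) :=
    (Matrix.toLinAlgEquiv' : Matrix (Fin d) (Fin d) K ≃ₐ[K] _).toMonoidHom.comp
      ((algebraMap F K).mapMatrix.toMonoidHom.comp ((Units.coeHom _).comp (ρ.comp sl2Pow)))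
  have hΦ : Function.Injective Φ := by
    intro x y hxy
    refine sl2Pow_injective (hρ (Units.ext ?_))
    exact Matrix.map_injective (algebraMap F K).injective
      ((Matrix.toLinAlgEquiv' : Matrix (Fin d) (Fin d) K ≃ₐ[K] _).injective hxy)
  let A : Fin n → Module.End K (Fin d → K) := fun i => Φ (Pi.mulSingle i g)
  have hcomm : ∀ i j, A i * A j = A j * A i := by
    intro i j
    rcases eq_or_ne i j with rfl | hij
    · rfl
    · simp only [A, ← map_mul]
      rw [(Pi.mulSingle_commute (f := fun _ : Fin n => Matrix.SpecialLinearGroup (Fin 2) F) hij g g).eq]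
  have hmK : (m : K) ≠ 0 := by
    rw [← map_natCast (algebraMap F K)]
    exact (map_ne_zero _).2 hm
  let P : (Fin n → K) → Prop := fun χ => ∃ v : Fin d → K, v ≠ 0 ∧ ∀ i, A i v = χ i • v
  have hfin : ∀ s : Finset (Fin n → K), (∀ χ ∈ s, P χ) → s.card ≤ d := fun s hs => by
    simpa using card_le_finrank A s hs
  have hne : ∀ χ, P χ → ∀ i, χ i ≠ 0 := by
    rintro χ ⟨v, hv0, hv⟩ i h0
    have h1 : Φ ((Pi.mulSingle i g)⁻¹) (A i v) = v := by
      simp [A, ← Module.End.mul_apply, ← map_mul]
    rw [hv i, h0, zero_smul, map_zero] at h1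
    exact hv0 h1.symm
  have hflip : ∀ χ, P χ → ∀ i, P (flipOn {i} χ) := by
    rintro χ ⟨v, hv0, hv⟩ i
    refine ⟨Φ (Pi.mulSingle i h) v, ?_, fun j => ?_⟩
    · intro h0
      refine hv0 ?_
      have h1 : Φ ((Pi.mulSingle i h)⁻¹) (Φ (Pi.mulSingle i h) v) = v := by
        simp [← Module.End.mul_apply, ← map_mul]
      rw [h0, map_zero] at h1
      exact h1.symm
    · rcases eq_or_ne j i with rfl | hij
      · have hinv : Φ ((Pi.mulSingle j g)⁻¹) v = (χ j)⁻¹ • v := by
          have h1 : Φ ((Pi.mulSingle j g)⁻¹) (A j v) = v := by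
            simp [A, ← Module.End.mul_apply, ← map_mul]
          rw [hv j, map_smul] at h1
          nth_rw 2 [← h1]
          rw [smul_smul, inv_mul_cancel₀ (hne χ ⟨v, hv0, hv⟩ j), one_smul]
        simp only [A, ← Module.End.mul_apply, ← map_mul]
        rw [← Pi.mulSingle_mul, hconj, Pi.mulSingle_mul, map_mul, Module.End.mul_apply, Pi.mulSingle_inv,
          hinv, map_smul]
        simp [flipOn]
      · simp only [A, ← Module.End.mul_apply, ← map_mul]
        rw [(Pi.mulSingle_commute (f := fun _ : Fin n => Matrix.SpecialLinearGroup (Fin 2) F) hij g h).eq, map_mul, Module.End.mul_apply]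
        have := hv j
        simp only [A] at this
        rw [this, map_smul]
        simp [flipOn, hij]
  have hact : ∀ i, ∃ χ, P χ ∧ χ i ^ 2 ≠ 1 := by
    intro i
    obtain ⟨μ, hμ, hμ2⟩ := exists_eigen_sq_ne_one (A i) hmK
      (by simp only [A, ← map_pow, ← Pi.mulSingle_pow, hgm, Pi.mulSingle_one, map_one])
      (by
        intro e
        simp only [A, ← map_pow, ← Pi.mulSingle_pow] at e
        rw [← map_one Φ] at e
        exact hg2 (by simpa using congrFun (hΦ e) i))
    obtain ⟨χ, hχi, hv⟩ := exists_joint A hcomm i μ hμ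
    exact ⟨χ, hv, by rwa [hχi]⟩
  have hPfin : {χ | P χ}.Finite := by
    by_contra hinf
    obtain ⟨s, hs, hcard⟩ := (Set.not_finite.1 hinf).exists_subset_card_eq (d + 1)
    have := hfin s fun χ hχ => hs (Finset.mem_coe.2 hχ)
    omega
  have hkey := card_ge (Finset.univ : Finset (Fin n)) hPfin.toFinset
    (fun χ hχ i _ => by simpa using hflip χ (by simpa using hχ) i)
    (fun i _ => by
      obtain ⟨χ, hχ, h2⟩ := hact i
      exact ⟨χ, by simpa using hχ, h2, hne χ hχ i⟩)
    (fun χ hχ i => hne χ (by simpa using hχ) i)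
  rw [Finset.card_univ, Fintype.card_fin] at hkey
  exact hkey.trans (hfin _ fun χ hχ => by simpa using hχ)

end Cfsg.Agent.S2394
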