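import Cfsg.Statements.S2399
import Cfsg.Agent.Lib.ChevCover.ProjLift

set_option autoImplicit false
open scoped MatrixGroups
open Cfsg

namespace Cfsg.Agent.S2399

/-- Projective representations in the natural characteristic lift: for each of the types G₂, B₂, D₄, F₄, E₆, E₇, E₈ over any field `K` (for types B₂ and G₂ the field must have more than two elements — the cases where the Chevalley group is not simple are set aside), every homomorphism from the Chevalley group to `PGL_n(L) = GL_n(L)/Z`, `L` a field of the same characteristic as `K`, lifts uniquely to a homomorphism from the group Δ presented by (R1), (R2) to `GL_n(L)`, compatibly with the projection Δ → Chevalley group sending x̄_r(t) to x_r(t). -/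
theorem result {K : Type*} [Field K] (D : Cfsg.Lie.ChevalleyDatum) (hD : D ∈ [Cfsg.Lie.chevG2, Cfsg.Lie.chevB2, Cfsg.Lie.chevD4, Cfsg.Lie.chevF4, Cfsg.Lie.chevE6, Cfsg.Lie.chevE7, Cfsg.Lie.chevE8]) (hK : D ∈ [Cfsg.Lie.chevB2, Cfsg.Lie.chevG2] → ∃ x : K, x ≠ 0 ∧ x ≠ 1)
    (θ : D.SteinbergCover K →* ↥(D.group K))
    (hθ : ∀ (r : ℕ) (t : K), r < D.nroots → ((θ (D.scGen K r t) : GL D.Idx K) : Matrix D.Idx D.Idx K) = D.x K r t)
    {L : Type*} [Field L] (hL : ringChar L = ringChar K) {n : ℕ}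
    (φ : ↥(D.group K) →* GL (Fin n) L ⧸ Subgroup.center (GL (Fin n) L)) :
    ∃! ψ : D.SteinbergCover K →* GL (Fin n) L, (QuotientGroup.mk' (Subgroup.center (GL (Fin n) L))).comp ψ = φ.comp θ := by
  obtain C := CfsgLib.ChevStr.chevCore hD K
  have hadj := CfsgLib.ChevCover.hasNeighbours hD
  have hperf : commutator (D.SteinbergCover K) = ⊤ ∧ CfsgLib.ChevCover.sepCheck D = true ∧
      CfsgLib.ChevCover.selfCheck D = true := by
    simp only [List.mem_cons, List.not_mem_nil, or_false] at hD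
    rcases hD with rfl | rfl | rfl | rfl | rfl | rfl | rfl
    · exact ⟨CfsgLib.SteinbergPerfect.perfect_of_cert _ (fun _ => hK (by simp))
        CfsgLib.SteinbergPerfect.check_G2, CfsgLib.ChevCover.sepCheckG2, CfsgLib.ChevCover.selfCheckG2⟩
    · exact ⟨CfsgLib.SteinbergPerfect.perfect_of_cert _ (fun _ => hK (by simp))
        CfsgLib.SteinbergPerfect.check_B2, CfsgLib.ChevCover.sepCheckB2, CfsgLib.ChevCover.selfCheckB2⟩
    · exact ⟨CfsgLib.SteinbergPerfect.perfect_of_cert _ (by simp)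
        CfsgLib.SteinbergPerfect.check_D4, CfsgLib.ChevCover.sepCheckD4, CfsgLib.ChevCover.selfCheckD4⟩
    · exact ⟨CfsgLib.SteinbergPerfect.perfect_of_cert _ (by simp)
        CfsgLib.SteinbergPerfect.check_F4, CfsgLib.ChevCover.sepCheckF4, CfsgLib.ChevCover.selfCheckF4⟩
    · exact ⟨CfsgLib.SteinbergPerfect.perfect_of_cert _ (by simp)
        CfsgLib.SteinbergPerfect.check_E6, CfsgLib.ChevCover.sepCheckE6, CfsgLib.ChevCover.selfCheckE6⟩
    · exact ⟨CfsgLib.SteinbergPerfect.perfect_of_cert _ (by simp)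
        CfsgLib.SteinbergPerfect.check_E7, CfsgLib.ChevCover.sepCheckE7, CfsgLib.ChevCover.selfCheckE7⟩
    · exact ⟨CfsgLib.SteinbergPerfect.perfect_of_cert _ (by simp)
        CfsgLib.SteinbergPerfect.check_E8, CfsgLib.ChevCover.sepCheckE8, CfsgLib.ChevCover.selfCheckE8⟩
  have hcentral : (QuotientGroup.mk' (Subgroup.center (GL (Fin n) L))).ker ≤
      Subgroup.center (GL (Fin n) L) := by rw [QuotientGroup.ker_mk']
  suffices h : ∃ ψ : D.SteinbergCover K →* GL (Fin n) L,
      (QuotientGroup.mk' (Subgroup.center (GL (Fin n) L))).comp ψ = φ.comp θ by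
    obtain ⟨ψ, hψ⟩ := h
    exact ⟨ψ, hψ, fun ψ' hψ' =>
      CfsgLib.ChevCover.hom_eq_of_central hperf.1 _ hcentral (hψ'.trans hψ.symm)⟩
  rcases CharP.char_is_prime_or_zero K (ringChar K) with hp | hp
  · haveI : CharP K (ringChar K) := ringChar.charP K
    haveI : CharP L (ringChar K) := hL ▸ ringChar.charP L
    exact CfsgLib.ChevCover.proj_lift C hperf.1 hp _
  · haveI : CharP K 0 := hp ▸ ringChar.charP K
    haveI : CharZero K := CharP.charP_to_charZero K
    obtain ⟨s, hs⟩ := Infinite.exists_subset_card_eq K 5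
    obtain ⟨ψ, hψ, -⟩ := CfsgLib.ChevCover.lift_unique C hadj ⟨s, by omega⟩ hperf.2.1 hperf.2.2
      hperf.1 _ (QuotientGroup.mk'_surjective _) hcentral (φ.comp θ)
    exact ⟨ψ, hψ⟩

end Cfsg.Agent.S2399
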