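import Cfsg.Statements.S2402
import Cfsg.Agent.Lib.SLTwoGen.Field

set_option autoImplicit false
open Cfsg

namespace Cfsg.Agent.S2402

/-- Explicit two-element generation of `PSL_{n+1}(K)` for a finite field `K` with more than three elements: let `k` generate the multiplicative group of `K`, `h = diag(k, k⁻¹, 1, …, 1)`, `x = 1 + E₁₂` (the elementary transvection) and `w` the monomial matrix with entries `1` in positions `(i, i+1)` and `(−1)^n` in position `(n+1, 1)`. Then `h` and `x·w` generate `SL_{n+1}(K)` modulo its centre: the subgroup they generate together with the centre is everything. -/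
theorem result {K : Type*} [Field K] [Fintype K] (hK : 3 < Fintype.card K) (n : ℕ) (hn : 1 ≤ n)
    (k : Kˣ) (hk : ∀ u : Kˣ, u ∈ Subgroup.zpowers k)
    (h x w : Matrix.SpecialLinearGroup (Fin (n + 1)) K)
    (hh : (h : Matrix (Fin (n + 1)) (Fin (n + 1)) K) =
      Matrix.diagonal (fun i => if i.val = 0 then (k : K) else if i.val = 1 then ((k⁻¹ : Kˣ) : K) else 1))
    (hx : (x : Matrix (Fin (n + 1)) (Fin (n + 1)) K) = Matrix.transvection (0 : Fin (n + 1)) (1 : Fin (n + 1)) 1)
    (hw : (w : Matrix (Fin (n + 1)) (Fin (n + 1)) K) =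
      Matrix.of (fun i j => if j.val = i.val + 1 then 1 else if i.val = n ∧ j.val = 0 then (-1) ^ n else 0)) :
    Subgroup.closure ({h, x * w} : Set (Matrix.SpecialLinearGroup (Fin (n + 1)) K)) ⊔
      Subgroup.center (Matrix.SpecialLinearGroup (Fin (n + 1)) K) = ⊤ := by
  set M := Subgroup.closure ({h, x * w} : Set (Matrix.SpecialLinearGroup (Fin (n + 1)) K)) ⊔
    Subgroup.center (Matrix.SpecialLinearGroup (Fin (n + 1)) K)
  have hhM : h ∈ M := Subgroup.mem_sup_left (Subgroup.subset_closure (by simp))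
  have hyM : x * w ∈ M := Subgroup.mem_sup_left (Subgroup.subset_closure (by simp))
  have h01 : (0 : Fin (n + 1)) ≠ 1 := by
    intro e
    have e' := congrArg Fin.val e
    rw [Fin.val_zero, Fin.val_one', Nat.mod_eq_of_lt (by omega)] at e'
    omega
  have hx' : x = Matrix.SpecialLinearGroup.transvection h01 (1 : K) := by
    apply Subtype.ext
    rw [hx, Matrix.SpecialLinearGroup.transvection_coe, Matrix.transvection]
  set D : Fin (n + 1) → K := fun i => if i.val = 0 then (k : K) else if i.val = 1 then ((k⁻¹ : Kˣ) : K) else 1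
    with hDdef
  have hD0 : D 0 = k := by simp [hDdef]
  have hD1 : D 1 = ((k⁻¹ : Kˣ) : K) := by
    have : (1 : Fin (n + 1)).val = 1 := by rw [Fin.val_one', Nat.mod_eq_of_lt (by omega)]
    show (if ((1 : Fin (n + 1)).val = 0) then (k : K) else if ((1 : Fin (n + 1)).val = 1) then ((k⁻¹ : Kˣ) : K) else 1) = _
    rw [if_neg (by omega), if_pos this]
  have hne : ∀ i, D i ≠ 0 := fun i => by
    simp only [hDdef]; split_ifs <;> first | exact Units.ne_zero _ | exact one_ne_zero
  have hk1 : (k : K) ^ 2 ≠ 1 := by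
    intro e
    have e' : k ^ 2 = 1 := Units.ext (by simpa using e)
    have hle := orderOf_le_of_pow_eq_one (by norm_num) e'
    rw [orderOf_eq_card_of_forall_mem_zpowers hk, Nat.card_units, Nat.card_eq_fintype_card] at hle
    omega
  -- conjugation by `h` multiplies the parameter in position (0, 1) by `k²`
  have hconj : ∀ c : K, h * Matrix.SpecialLinearGroup.transvection h01 c * h⁻¹ =
      Matrix.SpecialLinearGroup.transvection h01 ((k : K) ^ 2 * c) := fun c => by
    rw [CfsgLib.SLTwoGen.diag_conj_transvection hh h01 (hne 1), hD0, hD1]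
    congr 1
    simp [sq]
  -- the conjugate of `h` by `w` is diagonal
  have hz : ∀ a b : Fin (n + 1), a ≠ b → (↑(w * h * w⁻¹) : Matrix (Fin (n + 1)) (Fin (n + 1)) K) a b = 0 := by
    intro a b hab
    have e : (↑(w * h * w⁻¹) : Matrix (Fin (n + 1)) (Fin (n + 1)) K) =
        Matrix.diagonal (fun i => D (finRotate (n + 1) i)) := by
      have e2 : (w : Matrix (Fin (n + 1)) (Fin (n + 1)) K) * Matrix.diagonal D =
          Matrix.diagonal (fun i => D (finRotate (n + 1) i)) * (w : Matrix (Fin (n + 1)) (Fin (n + 1)) K) := by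
        ext i j
        rw [Matrix.mul_diagonal, Matrix.diagonal_mul, CfsgLib.SLTwoGen.cycleW_apply hw]
        by_cases hij : finRotate (n + 1) i = j
        · rw [if_pos hij, hij, mul_comm]
        · rw [if_neg hij, zero_mul, mul_zero]
      rw [Matrix.SpecialLinearGroup.coe_mul, Matrix.SpecialLinearGroup.coe_mul, hh, e2, mul_assoc,
        ← Matrix.SpecialLinearGroup.coe_mul, mul_inv_cancel, Matrix.SpecialLinearGroup.coe_one, mul_one]
    rw [e, Matrix.diagonal_apply_ne _ hab]
  obtain ⟨d, hd⟩ : ∃ d, d = w * h * w⁻¹ := ⟨_, rfl⟩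
  rw [← hd] at hz
  have hdd : (d : Matrix (Fin (n + 1)) (Fin (n + 1)) K) = Matrix.diagonal (fun i => (d : Matrix (Fin (n + 1)) (Fin (n + 1)) K) i i) := by
    ext a b
    by_cases hab : a = b
    · subst hab; simp
    · rw [hz a b hab, Matrix.diagonal_apply_ne _ hab]
  have hcomm : h * d = d * h := by
    refine Subtype.ext ?_
    rw [Matrix.SpecialLinearGroup.coe_mul, Matrix.SpecialLinearGroup.coe_mul, hh, hdd,
      Matrix.diagonal_mul_diagonal, Matrix.diagonal_mul_diagonal]
    simp [mul_comm]
  set e : Fin (n + 1) → K := fun i => (d : Matrix (Fin (n + 1)) (Fin (n + 1)) K) i i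
  have he : ∀ i, e i ≠ 0 := by
    intro i hi
    have := d.2
    rw [hdd, Matrix.det_diagonal, Finset.prod_eq_zero (Finset.mem_univ i) hi] at this
    exact zero_ne_one this
  have hconjd : ∀ c : K, d * Matrix.SpecialLinearGroup.transvection h01 c * d⁻¹ =
      Matrix.SpecialLinearGroup.transvection h01 (e 0 / e 1 * c) :=
    CfsgLib.SLTwoGen.diag_conj_transvection hdd h01 (he 1)
  set u := (x * w) * h * (x * w)⁻¹ with hu
  have huM : u ∈ M := M.mul_mem (M.mul_mem hyM hhM) (M.inv_mem hyM)
  have hu1 : u = Matrix.SpecialLinearGroup.transvection h01 (1 - e 0 / e 1) * d := by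
    have h1 : u = x * (d * x⁻¹ * d⁻¹) * d := by rw [hu, hd]; group
    rw [h1, hx', Matrix.SpecialLinearGroup.transvection_inv, hconjd,
      ← Matrix.SpecialLinearGroup.transvection_add]
    congr 2
    ring
  have hc1 : (1 : K) - e 0 / e 1 ≠ 0 := by
    -- otherwise the entries at positions 0 and 1 of the conjugate diagonal agree
    have ed : ∀ i, e i = D (finRotate (n + 1) i) := by
      intro i
      have e2 : (d : Matrix (Fin (n + 1)) (Fin (n + 1)) K) * (w : Matrix (Fin (n + 1)) (Fin (n + 1)) K) =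
          (w : Matrix (Fin (n + 1)) (Fin (n + 1)) K) * (h : Matrix (Fin (n + 1)) (Fin (n + 1)) K) := by
        rw [← Matrix.SpecialLinearGroup.coe_mul, ← Matrix.SpecialLinearGroup.coe_mul, hd, inv_mul_cancel_right]
      have e3 := congrFun (congrFun e2 i) (finRotate (n + 1) i)
      rw [hdd, hh, Matrix.mul_diagonal, Matrix.diagonal_mul, CfsgLib.SLTwoGen.cycleW_apply hw, if_pos rfl] at e3
      have hs : (if i = Fin.last n then ((-1 : K)) ^ n else 1) ≠ 0 := by split_ifs <;> simp
      exact mul_right_cancel₀ hs (e3.trans (mul_comm _ _))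
    intro hc
    have h10 : e 0 = e 1 := by
      rw [sub_eq_zero] at hc
      field_simp [he 1] at hc
      exact hc.symm
    rw [ed, ed, finRotate_apply, finRotate_apply, zero_add, hD1] at h10
    rcases eq_or_lt_of_le hn with rfl | hn2
    · rw [show ((1 : Fin 2) + 1) = 0 from rfl, hD0] at h10
      exact hk1 (by rw [sq]; nth_rw 2 [← h10]; simp)
    · have h2v : ((1 : Fin (n + 1)) + 1).val = 2 := by
        rw [Fin.val_add, Fin.val_one', Nat.mod_eq_of_lt (show 1 < n + 1 by omega), Nat.mod_eq_of_lt (by omega)]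
      have : D ((1 : Fin (n + 1)) + 1) = 1 := by
        show (if ((1 : Fin (n + 1)) + 1).val = 0 then (k : K) else if ((1 : Fin (n + 1)) + 1).val = 1 then ((k⁻¹ : Kˣ) : K) else 1) = _
        rw [if_neg (by omega), if_neg (by omega)]
      rw [this] at h10
      exact hk1 (by
        have : k = 1 := inv_eq_one.1 (Units.ext h10)
        simp [this])
  have hT : Matrix.SpecialLinearGroup.transvection h01 (((k : K) ^ 2 - 1) * (1 - e 0 / e 1)) ∈ M := by
    have h1 : h * u * h⁻¹ * u⁻¹ ∈ M :=
      M.mul_mem (M.mul_mem (M.mul_mem hhM huM) (M.inv_mem hhM)) (M.inv_mem huM)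
    set T := Matrix.SpecialLinearGroup.transvection h01 (1 - e 0 / e 1) with hTdef
    have h2 : h * u * h⁻¹ * u⁻¹ = (h * T * h⁻¹) * T⁻¹ := by
      rw [hu1, show h * (T * d) * h⁻¹ = h * T * h⁻¹ * (h * d * h⁻¹) by group, hcomm, mul_inv_cancel_right]
      group
    rw [h2, hTdef, hconj, Matrix.SpecialLinearGroup.transvection_inv, ← Matrix.SpecialLinearGroup.transvection_add] at h1
    convert h1 using 2
    ring
  have hall : CfsgLib.SLTwoGen.paramGroup M h01 = ⊤ := by
    refine CfsgLib.SLTwoGen.addSubgroup_eq_top_of_sq _ ((CfsgLib.SLTwoGen.mem_paramGroup h01 _).2 hT)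
      (mul_ne_zero (sub_ne_zero.2 hk1) hc1) fun a ha u => ?_
    rcases eq_or_ne u 0 with rfl | hu0
    · simp
    · obtain ⟨m, hm⟩ := mem_powers_iff_mem_zpowers.2 (hk (Units.mk0 u hu0))
      have hu' : u = (k : K) ^ m := by simpa using (congrArg Units.val hm).symm
      subst hu'
      clear hm hu0
      induction m with
      | zero => simpa using ha
      | succ m ih =>
        rw [CfsgLib.SLTwoGen.mem_paramGroup] at ih ⊢
        rw [show ((k : K) ^ (m + 1)) ^ 2 * a = (k : K) ^ 2 * (((k : K) ^ m) ^ 2 * a) by ring, ← hconj]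
        exact M.mul_mem (M.mul_mem hhM ih) (M.inv_mem hhM)
  have hall' : CfsgLib.SLTwoGen.AllIn M 0 1 := fun _ c =>
    (CfsgLib.SLTwoGen.mem_paramGroup h01 c).1 (hall ▸ AddSubgroup.mem_top c)
  refine CfsgLib.SLTwoGen.eq_top_of_cycleW hn hw M ?_ hall'
  have hxM : x ∈ M := by rw [hx']; exact hall' h01 1
  simpa using M.mul_mem (M.inv_mem hxM) hyM

end Cfsg.Agent.S2402
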