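import Cfsg.Statements.S2403
import Cfsg.Agent.Lib.SLTwoGen.Basic

set_option autoImplicit false
open Cfsg

namespace Cfsg.Agent.S2403

/-- Explicit two-element generation of `PSL_{n+1}(K)` over the fields with two or three elements: with `x = 1 + E₁₂` and `w` the monomial matrix with entries `1` in positions `(i, i+1)` and `(−1)^n` in position `(n+1, 1)`, the elements `x` and `w` generate `SL_{n+1}(K)` modulo its centre. -/
theorem result {K : Type*} [Field K] [Fintype K] (hK : Fintype.card K ≤ 3) (n : ℕ) (hn : 1 ≤ n)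
    (x w : Matrix.SpecialLinearGroup (Fin (n + 1)) K)
    (hx : (x : Matrix (Fin (n + 1)) (Fin (n + 1)) K) = Matrix.transvection (0 : Fin (n + 1)) (1 : Fin (n + 1)) 1)
    (hw : (w : Matrix (Fin (n + 1)) (Fin (n + 1)) K) =
      Matrix.of (fun i j => if j.val = i.val + 1 then 1 else if i.val = n ∧ j.val = 0 then (-1) ^ n else 0)) :
    Subgroup.closure ({x, w} : Set (Matrix.SpecialLinearGroup (Fin (n + 1)) K)) ⊔
      Subgroup.center (Matrix.SpecialLinearGroup (Fin (n + 1)) K) = ⊤ := by
  set M := Subgroup.closure ({x, w} : Set (Matrix.SpecialLinearGroup (Fin (n + 1)) K)) ⊔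
    Subgroup.center (Matrix.SpecialLinearGroup (Fin (n + 1)) K)
  have hxM : x ∈ M := Subgroup.mem_sup_left (Subgroup.subset_closure (by simp))
  have hwM : w ∈ M := Subgroup.mem_sup_left (Subgroup.subset_closure (by simp))
  refine CfsgLib.SLTwoGen.eq_top_of_cycleW hn hw M hwM fun h c => ?_
  have hx' : Matrix.SpecialLinearGroup.transvection h (1 : K) = x := by
    apply Subtype.ext
    rw [hx, Matrix.SpecialLinearGroup.transvection_coe, Matrix.transvection]
  have hc : c = 0 ∨ c = 1 ∨ c = -1 := by
    rcases eq_or_ne c 0 with h0 | h0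
    · exact Or.inl h0
    · have hcard := FiniteField.pow_card_sub_one_eq_one c h0
      have h2 := Fintype.one_lt_card (α := K)
      rcases (by omega : Fintype.card K = 2 ∨ Fintype.card K = 3) with hq | hq <;> rw [hq] at hcard
      · exact Or.inr (Or.inl (by simpa using hcard))
      · exact Or.inr (sq_eq_one_iff.1 hcard)
  rcases hc with rfl | rfl | rfl
  · rw [Matrix.SpecialLinearGroup.transvection_coeff_zero]; exact M.one_mem
  · rw [hx']; exact hxM
  · rw [← Matrix.SpecialLinearGroup.transvection_inv, hx']; exact M.inv_mem hxM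

end Cfsg.Agent.S2403
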