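import Cfsg.Statements.S2404
import Cfsg.Agent.Lib.SimpleCount.Main
import Cfsg.Agent.Lib.ChevStr.InstanceTables

set_option autoImplicit false
open Cfsg

namespace Cfsg.Agent.S2404

/-- Steinberg's count of semisimple classes for type E₆ when the finite simply connected group has trivial centre: over a field with `q` elements of characteristic `p` with `q ≢ 1 (mod 3)`, the simply connected group E₆(q) coincides with the Chevalley group, and the conjugacy classes of elements of order prime to `p` in the Chevalley group of type E₆ number exactly `q^6`. -/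
theorem result {F : Type*} [Field F] [Fintype F] {q : ℕ} (hq : Fintype.card F = q) (hq3 : q % 3 ≠ 1) (p : ℕ) [Fact p.Prime] [CharP F p] :
    Nat.card {c : ConjClasses ↥(Cfsg.Lie.chevE6.group F) // ∃ g : ↥(Cfsg.Lie.chevE6.group F), ConjClasses.mk g = c ∧ (orderOf g).Coprime p} = q ^ 6 := by
  have hinj : Function.Injective ((CfsgLib.ChevStr.coreE6 F).R.torus (F := F)) := by
    refine CfsgLib.SimpleCount.torus_injective_of_gcd _ CfsgLib.ChevStr.smithE6 fun a => ?_
    have h3 : Nat.gcd (q - 1) 3 = 1 := by
      have h1 : ¬ 3 ∣ q - 1 := by
        have : 0 < q := hq ▸ Fintype.card_pos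
        have : q ≠ 0 := by omega
        have := Fintype.one_lt_card (α := F)
        omega
      exact Nat.coprime_comm.1 ((Nat.prime_three.coprime_iff_not_dvd).2 h1)
    rw [hq]
    change Fin 6 at a
    fin_cases a <;> simp [h3]
  rw [CfsgLib.SimpleCount.card_coprime_classes (CfsgLib.ChevStr.coreE6 F) p hinj, hq]
  rfl

end Cfsg.Agent.S2404
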