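import Cfsg.Statements.S2405
import Cfsg.Agent.Lib.ChevGen.TwoGenTables
import Cfsg.Agent.Lib.ChevStr.RankOne

set_option autoImplicit false
open Cfsg CfsgLib CfsgLib.ChevGen CfsgLib.ChevStr

namespace Cfsg.Agent.S2405

/-- Each Chevalley group of type G₂, B₂, D₄, F₄, E₆, E₇ or E₈ over a finite field is generated by two of its elements (types B₂ and G₂ over the field with two elements, where the group is not simple, excepted). -/
theorem result {F : Type*} [Field F] [Finite F] (D : Cfsg.Lie.ChevalleyDatum) (hD : D ∈ [Cfsg.Lie.chevG2, Cfsg.Lie.chevB2, Cfsg.Lie.chevD4, Cfsg.Lie.chevF4, Cfsg.Lie.chevE6, Cfsg.Lie.chevE7, Cfsg.Lie.chevE8])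
    (hF : D ∈ [Cfsg.Lie.chevB2, Cfsg.Lie.chevG2] → ∃ x : F, x ≠ 0 ∧ x ≠ 1) :
    ∃ a b : ↥(D.group F), Subgroup.closure ({a, b} : Set ↥(D.group F)) = ⊤ := by
  classical
  have := Fintype.ofFinite F
  rcases Nat.lt_or_ge 2 (Fintype.card F) with h2 | h2
  · simp only [List.mem_cons, List.not_mem_nil, or_false] at hD
    rcases hD with rfl | rfl | rfl | rfl | rfl | rfl | rfl
    · obtain ⟨w, i, j, x, y, r', t, s, len, cert, h⟩ := genCheck_G2
      exact two_generated_of_genCheck (coreG2 F) h2 Chev.G2.cert.hv h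
    · obtain ⟨w, i, j, x, y, r', t, s, len, cert, h⟩ := genCheck_B2
      exact two_generated_of_genCheck (coreB2 F) h2 Chev.B2.cert.hv h
    · obtain ⟨w, i, j, x, y, r', t, s, len, cert, h⟩ := genCheck_D4
      exact two_generated_of_genCheck (coreD4 F) h2 Chev.D4.cert.hv h
    · obtain ⟨w, i, j, x, y, r', t, s, len, cert, h⟩ := genCheck_F4
      exact two_generated_of_genCheck (coreF4 F) h2 Chev.F4.cert.hv h
    · obtain ⟨w, i, j, x, y, r', t, s, len, cert, h⟩ := genCheck_E6
      exact two_generated_of_genCheck (coreE6 F) h2 Chev.E6.cert.hv h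
    · obtain ⟨w, i, j, x, y, r', t, s, len, cert, h⟩ := genCheck_E7
      exact two_generated_of_genCheck (coreE7 F) h2 Chev.E7.cert.hv h
    · obtain ⟨w, i, j, x, y, r', t, s, len, cert, h⟩ := genCheck_E8
      exact two_generated_of_genCheck (coreE8 F) h2 Chev.E8.cert.hv h
  · have hcard : Fintype.card F = 2 := le_antisymm h2 Fintype.one_lt_card
    have hex : ¬ ∃ x : F, x ≠ 0 ∧ x ≠ 1 := by
      rintro ⟨x, h0, h1⟩
      exact (eq_zero_or_one_of_card_two hcard x).elim h0 h1
    have hD' := hD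
    simp only [List.mem_cons, List.not_mem_nil, or_false] at hD'
    rcases hD' with rfl | rfl | rfl | rfl | rfl | rfl | rfl
    · exact absurd (hF (by simp)) hex
    · exact absurd (hF (by simp)) hex
    · obtain ⟨w, r, p, s, k, len, c1, c2, h⟩ := genCheckSix_D4
      exact two_generated_of_genCheckSix (coreD4 F) etaCheck_D4 hcard Chev.D4.cert.hv h
    · obtain ⟨w, r, p, s, k, len, c1, c2, h⟩ := genCheckSix_F4
      exact two_generated_of_genCheckSix (coreF4 F) etaCheck_F4 hcard Chev.F4.cert.hv h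
    · obtain ⟨w, r, len, c1, h⟩ := genCheckTwo_E6
      exact two_generated_of_genCheckTwo (coreE6 F) hcard Chev.E6.cert.hv h
    · obtain ⟨w, r, len, c1, h⟩ := genCheckTwo_E7
      exact two_generated_of_genCheckTwo (coreE7 F) hcard Chev.E7.cert.hv h
    · obtain ⟨w, r, len, c1, h⟩ := genCheckTwo_E8
      exact two_generated_of_genCheckTwo (coreE8 F) hcard Chev.E8.cert.hv h

end Cfsg.Agent.S2405
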