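import Cfsg.Statements.S2410
import Cfsg.Agent.Lib.SuzukiOvoid.Equiv

set_option autoImplicit false
open Cfsg

namespace Cfsg.Agent.S2410


open CfsgLib.SuzukiGroup in
/-- A torus generator and `u(1,0) j` generate the Suzuki group. -/
theorem sz_two_gen {F : Type*} [Field F] [Fintype F] [CharP F 2] {e : ℕ} (P : Params F e)
    (hq : 2 < Fintype.card F) :
    ∃ a b : Cfsg.Lie.Sz F e, Subgroup.closure ({a, b} : Set (Cfsg.Lie.Sz F e)) = ⊤ := by
  classical
  obtain ⟨k, hk⟩ := IsCyclic.exists_generator (α := Fˣ)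
  have hk1 : k ≠ 1 := by
    intro h
    subst h
    have hsub : Subsingleton Fˣ := ⟨fun x y => by
      have hx := hk x
      have hy := hk y
      simp only [Subgroup.zpowers_one_eq_bot, Subgroup.mem_bot] at hx hy
      rw [hx, hy]⟩
    have := Fintype.card_le_one_iff_subsingleton.2 hsub
    rw [← Nat.card_eq_fintype_card, Nat.card_units, Nat.card_eq_fintype_card] at this
    omega
  have hone : ∀ t : F, t ≠ 0 → P.θ t = t * t → t = 1 := by
    intro t ht h
    have h2 := P.sq t
    rw [h, map_mul, h] at h2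
    have h3 : t ^ 2 * (t ^ 2 - 1) = 0 := by linear_combination h2
    rcases mul_eq_zero.1 h3 with h4 | h4
    · exact absurd h4 (pow_ne_zero 2 ht)
    · grind
  let c : Fˣ → Fˣ := fun x => x * x * (Units.map (P.θ : F →* F) x)⁻¹
  have hc : ∀ x : Fˣ, (c x : F) = (x : F) * x / P.θ x := fun x => by simp [c, div_eq_mul_inv]
  have hcinj : Function.Injective c := by
    intro x y h
    have h' := congrArg Units.val h
    rw [hc, hc] at h'
    have hx : P.θ (x : F) ≠ 0 := by simp
    have hy : P.θ (y : F) ≠ 0 := by simp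
    have hyy : (y : F) ≠ 0 := y.ne_zero
    have := hone ((x : F) / y) (div_ne_zero x.ne_zero y.ne_zero) (by
      rw [map_div₀]
      field_simp at h' ⊢
      grind)
    exact Units.ext ((div_eq_one_iff_eq hyy).1 this)
  have hcsurj : Function.Surjective c := Finite.injective_iff_surjective.1 hcinj
  set y := uEl P 1 0 * jEl P with hy
  set H := Subgroup.closure ({dEl P k, y} : Set (Cfsg.Lie.Sz F e)) with hH
  have hyH : y ∈ H := Subgroup.subset_closure (by simp)
  have hkH : dEl P k ∈ H := Subgroup.subset_closure (by simp)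
  have hdH : ∀ x : Fˣ, dEl P x ∈ H := by
    intro x
    obtain ⟨i, hi⟩ := mem_powers_iff_mem_zpowers.2 (hk x)
    rw [← hi]
    clear hi
    induction i with
    | zero => simp [dEl_one, H.one_mem]
    | succ i ih => simp only [pow_succ] at ih ⊢; rw [← dEl_mul]; exact H.mul_mem ih hkH
  have hdinv : ∀ x : Fˣ, (dEl P x)⁻¹ = dEl P x⁻¹ := fun x =>
    inv_eq_of_mul_eq_one_right (by rw [dEl_mul, mul_inv_cancel, dEl_one])
  let a0 : F := 1 + (c k⁻¹ : F)
  have ha0 : a0 ≠ 0 := by
    intro h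
    have h1 : (c k⁻¹ : F) = ((1 : Fˣ) : F) := by simp only [a0] at h; rw [Units.val_one]; grind
    have h2 : c k⁻¹ = c 1 := by rw [Units.ext h1]; simp [c]
    exact hk1 (inv_eq_one.1 (hcinj h2))
  obtain ⟨b0, hb0⟩ : ∃ b0, uEl P a0 b0 ∈ H := by
    have hj : jEl P * dEl P k * (jEl P)⁻¹ = dEl P k⁻¹ := by rw [jEl_mul_dEl, mul_inv_cancel_right]
    have h1 : y * dEl P k * y⁻¹ * dEl P k = uEl P 1 0 * (dEl P k⁻¹ * uEl P 1 (0 + 1 * P.θ 1) * dEl P k) := by
      rw [← uEl_inv, hy, ← hj]
      group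
    have h2 : dEl P k⁻¹ * uEl P 1 (0 + 1 * P.θ 1) * dEl P k =
        uEl P ((c k⁻¹ : F)) (P.θ ((k⁻¹ : Fˣ) : F)) := by
      rw [dEl_mul_uEl, mul_assoc, dEl_mul, inv_mul_cancel, dEl_one, mul_one, hc]
      simp
    rw [h2, uEl_mul] at h1
    exact ⟨_, h1 ▸ H.mul_mem (H.mul_mem (H.mul_mem hyH hkH) (H.inv_mem hyH)) hkH⟩
  have hsome : ∀ a : F, ∃ b, uEl P a b ∈ H := by
    intro a
    rcases eq_or_ne a 0 with rfl | ha
    · exact ⟨0, by rw [uEl_zero]; exact H.one_mem⟩
    · obtain ⟨x, hx⟩ := hcsurj (Units.mk0 (a / a0) (div_ne_zero ha ha0))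
      refine ⟨P.θ x * b0, ?_⟩
      have h1 : dEl P x * uEl P a0 b0 * (dEl P x)⁻¹ = uEl P a (P.θ x * b0) := by
        rw [dEl_mul_uEl, mul_inv_cancel_right, ← hc, hx, Units.val_mk0, div_mul_cancel₀ a ha0]
      rw [← h1]
      exact H.mul_mem (H.mul_mem (hdH x) hb0) (H.inv_mem (hdH x))
  have hsq : Function.Surjective fun a : F => a * P.θ a := by
    refine Finite.injective_iff_surjective.1 fun s t h => ?_
    rcases eq_or_ne t 0 with rfl | ht
    · simp only [zero_mul] at h
      rcases mul_eq_zero.1 h with h1 | h1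
      · exact h1
      · exact P.θ.injective (by rw [h1, map_zero])
    · have hs : s ≠ 0 := by rintro rfl; simp [ht] at h
      have e : s / t * P.θ (s / t) = 1 := by
        rw [map_div₀, div_mul_div_comm, h, div_self]
        simp [ht]
      have e2 := congrArg P.θ e
      rw [map_mul, P.sq, map_one] at e2
      have hne : s / t ≠ 0 := div_ne_zero hs ht
      have e3 : (s / t) ^ 2 = s / t := by
        have : P.θ (s / t) = (s / t)⁻¹ := eq_inv_of_mul_eq_one_right e
        rw [this] at e2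
        field_simp at e2
        grind
      have : s / t = 1 := mul_left_cancel₀ hne (by rw [← sq, e3, mul_one])
      exact (div_eq_one_iff_eq ht).1 this
  have hz : ∀ b, uEl P 0 b ∈ H := by
    intro b
    obtain ⟨a, ha⟩ := hsq b
    obtain ⟨b', hb'⟩ := hsome a
    have h1 := H.mul_mem hb' hb'
    rw [uEl_mul] at h1
    convert h1 using 2
    · exact (CharTwo.add_self_eq_zero a).symm
    · simp only at ha
      rw [ha, CharTwo.add_self_eq_zero, zero_add]
  have hU : ∀ a b, uEl P a b ∈ H := by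
    intro a b
    obtain ⟨b', hb'⟩ := hsome a
    have h1 := H.mul_mem hb' (hz (b - b'))
    rw [uEl_mul] at h1
    simpa using h1
  have hjH : jEl P ∈ H := by
    have := H.mul_mem (H.inv_mem (hU 1 0)) hyH
    simpa [hy] using this
  refine ⟨dEl P k, y, ?_⟩
  rw [← hH, eq_top_iff]
  intro g _
  by_cases hg : g ∈ borel (F := F) (e := e)
  · obtain ⟨a, b, x, rfl⟩ := borel_form P hg
    exact H.mul_mem (hU a b) (hdH x)
  · obtain ⟨a, b, h, hh, rfl⟩ := bruhat P hg
    obtain ⟨a', b', x, rfl⟩ := borel_form P hh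
    exact H.mul_mem (H.mul_mem (hU a b) hjH) (H.mul_mem (hU a' b') (hdH x))

/-- The Suzuki group over the field with `2^(2m+1)` elements, `m ≥ 1` (realised as the stabiliser in `SL₄` of the Suzuki–Tits ovoid), is generated by two of its elements. -/
theorem result {F : Type*} [Field F] [Fintype F] {m : ℕ} (hm : 1 ≤ m) (hF : Fintype.card F = 2 ^ (2 * m + 1)) :
    ∃ a b : ↥(Cfsg.Sz F m), Subgroup.closure ({a, b} : Set ↥(Cfsg.Sz F m)) = ⊤ := by
  obtain ⟨hc, ⟨P⟩⟩ := CfsgLib.SuzukiGroup.exists_params hF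
  obtain ⟨a, b, hab⟩ := sz_two_gen P (by
    have : 2 ^ 1 < 2 ^ (2 * m + 1) := Nat.pow_lt_pow_right (by norm_num) (by omega)
    omega)
  obtain ⟨e⟩ := CfsgLib.SuzukiOvoid.nonempty_equiv hm hF
  refine ⟨e a, e b, ?_⟩
  have h := congrArg (Subgroup.map e.toMonoidHom) hab
  rw [MonoidHom.map_closure, Subgroup.map_top_of_surjective _ e.surjective] at h
  simpa [Set.image_pair] using h

end Cfsg.Agent.S2410
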