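import Cfsg.Statements.S2413
import Cfsg.Agent.Lib.TwoGen46.OrthOdd

set_option autoImplicit false
open Cfsg

namespace Cfsg.Agent.S2413

/-- `PΩ_{2m+1}(q)`, `m ≥ 2`, `q` odd, is generated by two of its elements. -/
theorem result {F : Type*} [Field F] [Fintype F] (hodd : Odd (Fintype.card F)) (m : ℕ) (hm : 2 ≤ m) :
    ∃ a b : Cfsg.POmega F (Cfsg.quadFormOdd m F), Subgroup.closure ({a, b} : Set (Cfsg.POmega F (Cfsg.quadFormOdd m F))) = ⊤ := by
  rw [← CfsgLib.POmega.oddQ_coe]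
  exact CfsgLib.TwoGen46.odd_two_gen (CfsgLib.POmega.two_ne_zero_of_odd hodd) hm

end Cfsg.Agent.S2413
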