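import Cfsg.Statements.S2416
import Cfsg.Agent.Lib.ChevGen.Monomial

set_option autoImplicit false
open scoped MatrixGroups
open Cfsg

namespace Cfsg.Agent.S2416

/-- A Chevalley group of type G₂, B₂, D₄, F₄, E₆, E₇ or E₈ over a finite field lies in (indeed equals) the subgroup generated by its monomial subgroup `N` and a single fundamental root subgroup `X_p`, where `p` is a short fundamental root if there are two root lengths (any fundamental root otherwise), provided the characteristic is not 2 for types B₂, F₄ and not 3 for type G₂ (and the field has more than two elements for B₂, G₂). -/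
theorem result {K : Type*} [Field K] [Finite K] (D : Cfsg.Lie.ChevalleyDatum) (hD : D ∈ [Cfsg.Lie.chevG2, Cfsg.Lie.chevB2, Cfsg.Lie.chevD4, Cfsg.Lie.chevF4, Cfsg.Lie.chevE6, Cfsg.Lie.chevE7, Cfsg.Lie.chevE8])
    (hK : D ∈ [Cfsg.Lie.chevB2, Cfsg.Lie.chevG2] → ∃ x : K, x ≠ 0 ∧ x ≠ 1)
    (h2 : D ∈ [Cfsg.Lie.chevB2, Cfsg.Lie.chevF4] → ringChar K ≠ 2) (h3 : D = Cfsg.Lie.chevG2 → ringChar K ≠ 3)
    (i : ℕ) (hi : i < D.rank) (hshort : D.isLong (D.simple i) = false) :
    D.group K ≤ D.monomialSubgroup K ⊔ D.rootSubgroup K (D.simple i) := by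
  classical
  obtain C := CfsgLib.ChevStr.chevCore hD K
  let M := D.monomialSubgroup K ⊔ D.rootSubgroup K (D.simple i)
  have hMi : ∀ t, C.xGL (D.simple i) t ∈ M := fun t =>
    Subgroup.mem_sup_right (C.mem_rootSubgroup.2 ⟨t, rfl⟩)
  have key : CfsgLib.ChevGen.lengthCheck D = true ∧ ∃ z : ℕ, (z : K) ≠ 0 ∧
      ((List.finRange D.rank).all (fun k => !D.isLong (D.simple k.val)) = true ∨
        CfsgLib.ChevGen.longCheck D z = true) := by
    have hne : ∀ p : ℕ, p.Prime → ringChar K ≠ p → (p : K) ≠ 0 := fun p hp hK h => by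
      haveI := ringChar.charP K
      have := (CharP.cast_eq_zero_iff K (ringChar K) p).1 h
      rcases (Nat.dvd_prime hp).1 this with h1 | h1
      · exact CharP.ringChar_ne_one h1
      · exact hK h1
    have hone : ((1 : ℕ) : K) ≠ 0 := by simp
    simp only [List.mem_cons, List.not_mem_nil, or_false] at hD
    rcases hD with rfl | rfl | rfl | rfl | rfl | rfl | rfl
    · exact ⟨CfsgLib.ChevGen.lengthCheckG2, 3, hne 3 Nat.prime_three (h3 rfl),
        Or.inr CfsgLib.ChevGen.longCheckG2⟩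
    · exact ⟨CfsgLib.ChevGen.lengthCheckB2, 2, hne 2 Nat.prime_two (h2 (by simp)),
        Or.inr CfsgLib.ChevGen.longCheckB2⟩
    · exact ⟨CfsgLib.ChevGen.lengthCheckD4, 1, hone, Or.inl CfsgLib.ChevGen.noLongD4⟩
    · exact ⟨CfsgLib.ChevGen.lengthCheckF4, 2, hne 2 Nat.prime_two (h2 (by simp)),
        Or.inr CfsgLib.ChevGen.longCheckF4⟩
    · exact ⟨CfsgLib.ChevGen.lengthCheckE6, 1, hone, Or.inl CfsgLib.ChevGen.noLongE6⟩
    · exact ⟨CfsgLib.ChevGen.lengthCheckE7, 1, hone, Or.inl CfsgLib.ChevGen.noLongE7⟩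
    · exact ⟨CfsgLib.ChevGen.lengthCheckE8, 1, hone, Or.inl CfsgLib.ChevGen.noLongE8⟩
  obtain ⟨hc, z, hz, hL⟩ := key
  exact CfsgLib.ChevGen.group_le_short C hc hz hL (M := M) le_sup_left ⟨i, hi⟩ hshort hMi

end Cfsg.Agent.S2416
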