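import Cfsg.Statements.S2425
import Cfsg.Agent.Lib.GLFlags.InvMoebius
import Cfsg.Agent.Lib.GLFlags.Labels

set_option autoImplicit false
open scoped MatrixGroups
open Cfsg

namespace Cfsg.Agent.S2425

open Finset CfsgLib.GLFlags CfsgLib.GLFlags.InvMoebius

variable {n : ℕ}

/-- Terms that occur. -/
abbrev Ok (κ : Equiv.Perm (Fin n)) : Prop := ∀ i : Fin n, (κ i).val ≤ 1 + i.val

/-- Increasing steps. -/
def steps (κ : Equiv.Perm (Fin n)) : Finset (Fin n) := univ.filter fun i => (κ i).val = i.val + 1

/-- Inner ends of the cycles. -/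
def bd (κ : Equiv.Perm (Fin n)) : Finset ℕ :=
  (univ.filter fun i : Fin n => (κ i).val ≤ i.val ∧ i.val + 1 < n).image fun i => i.val + 1

theorem closed {κ : Equiv.Perm (Fin n)} (h : Ok κ) {b : Fin n} (hb : κ b ≤ b) :
    (Iic b).image κ = Iic b := by
  refine Finset.eq_of_subset_of_card_le (fun x hx => ?_) (by rw [card_image_of_injective _ κ.injective])
  obtain ⟨i, hi, rfl⟩ := mem_image.mp hx
  rw [mem_Iic] at hi ⊢
  rcases hi.eq_or_lt with rfl | hlt
  · exact hb
  · rw [Fin.lt_def] at hlt
    rw [Fin.le_def]
    have := h i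
    omega

theorem sign_eq : ∀ (k : ℕ) {κ : Equiv.Perm (Fin n)}, Ok κ → (steps κ).card = k →
    ((Equiv.Perm.sign κ : ℤˣ) : ℤ) = (-1) ^ k := by
  intro k
  induction k with
  | zero =>
    intro κ h h0
    rw [card_eq_zero] at h0
    have hle : ∀ i, (κ i).val ≤ i.val := fun i => by
      have h1 : i ∉ steps κ := by simp [h0]
      simp [steps] at h1
      have := h i
      omega
    have : ∀ m, ∀ i : Fin n, i.val = m → κ i = i := by
      intro m
      induction m using Nat.strong_induction_on with
      | _ m ih =>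
        intro i hi
        rcases (hle i).lt_or_eq with hlt | heq
        · exact κ.injective (ih _ (hi ▸ hlt) (κ i) rfl)
        · exact Fin.ext heq
    rw [show κ = 1 from Equiv.ext fun i => this _ i rfl]
    simp
  | succ k ih =>
    intro κ h hk
    have hne : (steps κ).Nonempty := card_pos.mp (by omega)
    set i := (steps κ).max' hne with hi
    have him : i ∈ steps κ := max'_mem _ _
    have hi1 : (κ i).val = i.val + 1 := (mem_filter.mp him).2
    let j : Fin n := ⟨i.val + 1, hi1 ▸ (κ i).isLt⟩
    have hij : i ≠ j := fun e => by simp [j, Fin.ext_iff] at e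
    have hκi : κ i = j := Fin.ext hi1
    have hκj : (κ j).val ≤ i.val := by
      have h1 : j ∉ steps κ := fun hj => by
        have : j.val ≤ i.val := le_max' _ _ hj
        simp [j] at this
      simp [steps] at h1
      have hjv : j.val = i.val + 1 := rfl
      have h2 : (κ j).val ≠ i.val + 1 := fun e => hij (κ.injective (hκi.trans (Fin.ext e).symm))
      have := h j
      omega
    set κ' := κ * Equiv.swap i j with hκ'
    have e1 : κ' i = κ j := by simp [κ']
    have e2 : κ' j = j := by simp [κ', hκi]
    have e3 : ∀ t, t ≠ i → t ≠ j → κ' t = κ t := fun t a b => by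
      simp [κ', Equiv.swap_apply_of_ne_of_ne a b]
    have hok : Ok κ' := fun t => by
      by_cases a : t = i
      · subst a; rw [e1]; omega
      by_cases b : t = j
      · subst b; rw [e2]; omega
      rw [e3 t a b]; exact h t
    have hst : steps κ' = (steps κ).erase i := by
      ext t
      by_cases a : t = i
      · subst a
        simp [steps, e1]
        omega
      by_cases b : t = j
      · subst b
        simp [steps, e2]
        intro _
        simp [j] at hκj ⊢
        omega
      simp [steps, e3 t a b, a]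
    have := ih hok (by rw [hst, card_erase_of_mem him, hk]; omega)
    rw [hκ', Equiv.Perm.sign_mul, Equiv.Perm.sign_swap hij] at this
    rw [pow_succ, ← this]
    simp

theorem card_steps (hn : 0 < n) {κ : Equiv.Perm (Fin n)} (h : Ok κ) :
    (steps κ).card + (bd κ).card + 1 = n := by
  have h1 : (bd κ).card = (univ.filter fun i : Fin n => (κ i).val ≤ i.val ∧ i.val + 1 < n).card :=
    card_image_of_injective _ fun a b e => Fin.ext (by simpa using e)
  have h2 : (univ.filter fun i : Fin n => (κ i).val ≤ i.val ∧ i.val + 1 < n) =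
      (univ.filter fun i : Fin n => ¬ (κ i).val = i.val + 1).erase ⟨n - 1, by omega⟩ := by
    ext i
    have := h i
    have := i.isLt
    simp [Fin.ext_iff]
    omega
  have h3 : (⟨n - 1, by omega⟩ : Fin n) ∈ univ.filter fun i : Fin n => ¬ (κ i).val = i.val + 1 := by
    have := (κ ⟨n - 1, by omega⟩).isLt
    simp
    omega
  have h4 := card_filter_add_card_filter_not (s := (univ : Finset (Fin n))) (fun i => (κ i).val = i.val + 1)
  rw [card_univ, Fintype.card_fin] at h4
  have := card_pos.mpr ⟨_, h3⟩
  rw [h1, h2, card_erase_of_mem h3, steps]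
  omega

theorem bd_subset (κ : Equiv.Perm (Fin n)) : bd κ ⊆ Ioo 0 n := fun b hb => by
  simp [bd] at hb ⊢
  obtain ⟨i, ⟨-, hi⟩, rfl⟩ := hb
  omega

theorem bd_determines {κ κ' : Equiv.Perm (Fin n)} (h : Ok κ) (h' : Ok κ') (he : bd κ = bd κ') : κ = κ' := by
  have hmem : ∀ {κ : Equiv.Perm (Fin n)}, Ok κ → ∀ i : Fin n, i.val + 1 < n →
      ((κ i).val = i.val + 1 ↔ i.val + 1 ∉ bd κ) := by
    intro κ h i hi
    simp [bd]
    constructor
    · rintro e t ht - et
      have : t = i := Fin.ext (by omega)
      subst this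
      omega
    · intro hh
      by_contra hne
      have := h i
      exact hh i (by omega) hi rfl
  have hstep : ∀ i : Fin n, (κ i).val = i.val + 1 ↔ (κ' i).val = i.val + 1 := by
    intro i
    by_cases hi : i.val + 1 < n
    · rw [hmem h i hi, hmem h' i hi, he]
    · have := (κ i).isLt; have := (κ' i).isLt; constructor <;> intro <;> omega
  refine Equiv.ext fun i => ?_
  have : ∀ m, ∀ i : Fin n, i.val = m → κ i = κ' i := by
    intro m
    induction m using Nat.strong_induction_on with
    | _ m ih =>
      intro i hi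
      by_cases hs : (κ i).val = i.val + 1
      · exact Fin.ext (hs.trans ((hstep i).mp hs).symm)
      have hs' : ¬ (κ' i).val = i.val + 1 := fun e => hs ((hstep i).mpr e)
      have h1 : κ i ≤ i := by rw [Fin.le_def]; have := h i; omega
      have h2 : κ' i ≤ i := by rw [Fin.le_def]; have := h' i; omega
      have e := (closed h h1).trans (closed h' h2).symm
      have : κ i ∈ (Iic i).image κ' := e ▸ mem_image_of_mem κ (mem_Iic.mpr le_rfl)
      obtain ⟨t, ht, et⟩ := mem_image.mp this
      rcases (mem_Iic.mp ht).eq_or_lt with rfl | hlt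
      · exact et.symm
      · exact absurd (κ.injective ((ih _ (hi ▸ hlt) t rfl).trans et)) (ne_of_lt hlt)
  exact this _ i rfl

theorem exists_of_bd {S : Finset ℕ} (hS : S ⊆ Ioo 0 n) : ∃ κ : Equiv.Perm (Fin n), Ok κ ∧ bd κ = S := by
  classical
  let prev : Fin n → ℕ := fun i => ((insert 0 S).filter (· ≤ i.val)).max' ⟨0, by simp⟩
  have hprev : ∀ i, prev i ≤ i.val ∧ prev i ∈ insert 0 S ∧ ∀ a ∈ S, a ≤ i.val → a ≤ prev i := fun i => by
    have := max'_mem ((insert 0 S).filter (· ≤ i.val)) ⟨0, by simp⟩
    rw [mem_filter] at this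
    exact ⟨this.2, this.1, fun a ha hai => le_max' _ _ (by simp [ha, hai])⟩
  have hS' : ∀ a ∈ S, 0 < a ∧ a < n := fun a ha => by simpa using hS ha
  let f : Fin n → Fin n := fun i =>
    if h : i.val + 1 ∈ S ∨ i.val + 1 = n then ⟨prev i, lt_of_le_of_lt (hprev i).1 i.isLt⟩
    else ⟨i.val + 1, by have := i.isLt; omega⟩
  have hinj : Function.Injective f := by
    intro i j e
    by_contra hne
    wlog hlt : i.val < j.val generalizing i j
    · exact this e.symm (Ne.symm hne) (by have : i.val ≠ j.val := fun e => hne (Fin.ext e); omega)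
    have hij := hprev i
    have hjj := hprev j
    simp only [f] at e
    split_ifs at e with hi hj hj <;> simp [Fin.ext_iff] at e
    · have : i.val + 1 ∈ S := hi.resolve_right (by have := j.isLt; omega)
      have := hjj.2.2 _ this (by omega)
      omega
    · omega
    · rcases mem_insert.mp hjj.2.1 with h0 | h0
      · omega
      · exact hi (Or.inl (e ▸ h0))
    · omega
  refine ⟨Equiv.ofBijective f (Finite.injective_iff_bijective.mp hinj), fun i => ?_, ?_⟩
  · simp only [Equiv.ofBijective_apply, f]
    split_ifs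
    · have := (hprev i).1; simp; omega
    · simp
  · ext b
    simp only [bd, mem_image, mem_filter, mem_univ, true_and, Equiv.ofBijective_apply]
    constructor
    · rintro ⟨i, ⟨hle, hlt⟩, rfl⟩
      simp only [f] at hle
      split_ifs at hle with hi
      · exact hi.resolve_right (by omega)
      · simp at hle
    · intro hb
      have := hS' b hb
      refine ⟨⟨b - 1, by omega⟩, ⟨?_, by simp; omega⟩, by simp; omega⟩
      simp only [f]
      rw [dif_pos (Or.inl (by simpa [show b - 1 + 1 = b by omega] using hb))]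
      exact (hprev ⟨b - 1, by omega⟩).1

theorem psum_closed {κ : Equiv.Perm (Fin n)} (h : Ok κ) {t : Fin n} (ht : κ t ≤ t) :
    psum (fun i : Fin n => (fun _ => 1) i + i.val - (κ i).val) (t.val + 1) = t.val + 1 := by
  unfold psum
  rw [show (univ.filter fun k : Fin n => k.val < t.val + 1) = (Finset.Iic t : Finset (Fin n)) from
    Finset.ext fun k => by
      rw [mem_filter, Finset.mem_Iic, Fin.le_def]; exact ⟨fun h => Nat.lt_succ_iff.mp h.2, fun h => ⟨mem_univ _, Nat.lt_succ_iff.mpr h⟩⟩]
  rw [sum_tsub_distrib _ fun i _ => h i, sum_add_distrib]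
  have e : ∑ i ∈ Iic t, (κ i).val = ∑ i ∈ Iic t, i.val := by
    conv_rhs => rw [← closed h ht]
    rw [sum_image fun a _ b _ e => κ.injective e]
  rw [e, Nat.add_sub_cancel, ← card_eq_sum_ones, Fin.card_Iic]

theorem psum_mem {κ : Equiv.Perm (Fin n)} (h : Ok κ) : ∀ s ≤ n,
    psum (fun i : Fin n => (fun _ => 1) i + i.val - (κ i).val) s = 0 ∨
      psum (fun i : Fin n => (fun _ => 1) i + i.val - (κ i).val) s ∈ bd κ ∨
      psum (fun i : Fin n => (fun _ => 1) i + i.val - (κ i).val) s = n := by
  intro s
  induction s with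
  | zero => intro _; left; simp [psum]
  | succ s ih =>
    intro hs
    let t : Fin n := ⟨s, by omega⟩
    by_cases ht : κ t ≤ t
    · right
      rw [show s + 1 = t.val + 1 from rfl, psum_closed h ht]
      rcases (Nat.lt_or_ge (s + 1) n) with hlt | hge
      · left
        simp only [bd, mem_image, mem_filter, mem_univ, true_and]
        exact ⟨t, ⟨Fin.le_def.mp ht, hlt⟩, rfl⟩
      · right; simp [t]; omega
    · have e := psum_succ (fun i : Fin n => (fun _ => 1) i + i.val - (κ i).val) t
      have h1 := h t
      rw [Fin.le_def] at ht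
      rw [show s + 1 = t.val + 1 from rfl, e]
      simp only [t] at h1 ht ⊢
      rw [show 1 + s - (κ ⟨s, by omega⟩).val = 0 by omega, add_zero]
      exact ih (by omega)

variable {F : Type*} [Field F]

theorem mem_parabolic {κ : Equiv.Perm (Fin n)} (h : Ok κ) (g : GL (Fin n) F) :
    g ∈ Cfsg.parabolicGL n F (fun i : Fin n => (fun _ => 1) i + i.val - (κ i).val) ↔
      ∀ b ∈ bd κ, ∀ i j : Fin n, j.val < b → b ≤ i.val → (g : Matrix (Fin n) (Fin n) F) i j = 0 := by
  constructor
  · intro hg b hb i j hj hi
    refine hg ?_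
    simp only [bd, mem_image, mem_filter, mem_univ, true_and] at hb
    obtain ⟨t, ⟨ht, htn⟩, rfl⟩ := hb
    have e := psum_closed h (Fin.le_def.mpr ht)
    refine lt_of_lt_of_le ((compLabel_lt_iff _ j (s := t.val + 1) (by omega)).mpr (by rw [e]; omega)) ?_
    by_contra hlt
    push Not at hlt
    have := (compLabel_lt_iff _ i (s := t.val + 1) (by omega)).mp hlt
    rw [e] at this
    omega
  · intro hg i j hij
    have hi := compLabel_le (fun i : Fin n => (fun _ => 1) i + i.val - (κ i).val) i
    set s := compLabel (fun i : Fin n => (fun _ => 1) i + i.val - (κ i).val) i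
    have h1 := (compLabel_lt_iff _ j hi).mp hij
    have h2 : ¬ i.val < psum (fun i : Fin n => (fun _ => 1) i + i.val - (κ i).val) s := fun h' =>
      lt_irrefl _ ((compLabel_lt_iff _ i hi).mpr h')
    rcases psum_mem h s hi with e | e | e
    · omega
    · exact hg _ e i j h1 (by omega)
    · have := i.isLt; omega

/-- The standard subspaces. -/
def E (F : Type*) [Field F] {n : ℕ} (b : ℕ) : Submodule F (Fin n → F) where
  carrier := {v | ∀ i : Fin n, b ≤ i.val → v i = 0}
  add_mem' := fun hv hw i hi => by simp [hv i hi, hw i hi]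
  zero_mem' := fun i _ => rfl
  smul_mem' := fun c v hv i hi => by simp [hv i hi]

theorem finrank_E {b : ℕ} (hb : b ≤ n) : Module.finrank F (E F (n := n) b) = b := by
  let e : E F (n := n) b ≃ₗ[F] (Fin b → F) :=
    { toFun := fun v i => v.1 (Fin.castLE hb i)
      map_add' := fun v w => rfl
      map_smul' := fun c v => rfl
      invFun := fun w => ⟨fun j => if h : j.val < b then w ⟨j.val, h⟩ else 0, fun i hi => by
        show dite _ _ _ = (0 : F)
        rw [dif_neg (by omega)]⟩
      left_inv := fun v => by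
        refine Subtype.ext (funext fun j => ?_)
        show dite _ _ _ = _
        split_ifs with h
        · rfl
        · exact (v.2 j (by omega)).symm
      right_inv := fun w => by
        funext i
        simp }
  rw [e.finrank_eq, Module.finrank_fin_fun]

/-- The linear map of a matrix. -/
abbrev gl (g : GL (Fin n) F) : (Fin n → F) →ₗ[F] (Fin n → F) :=
  Matrix.toLin' (g : Matrix (Fin n) (Fin n) F)

theorem gl_mul (g h : GL (Fin n) F) : gl (g * h) = gl g ∘ₗ gl h := by
  simp [gl, Matrix.toLin'_mul]

theorem gl_injective (g : GL (Fin n) F) : Function.Injective (gl g) :=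
  Matrix.mulVec_injective_iff_isUnit.mpr g.isUnit

theorem finrank_map_gl (g : GL (Fin n) F) (W : Submodule F (Fin n → F)) :
    Module.finrank F (W.map (gl g)) = Module.finrank F W :=
  ((Submodule.equivMapOfInjective _ (gl_injective g) W).finrank_eq).symm

theorem mem_parabolic' {κ : Equiv.Perm (Fin n)} (h : Ok κ) (g : GL (Fin n) F) :
    g ∈ Cfsg.parabolicGL n F (fun i : Fin n => (fun _ => 1) i + i.val - (κ i).val) ↔
      ∀ b ∈ bd κ, (E F b).map (gl g) = E F (n := n) b := by
  rw [mem_parabolic h]
  constructor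
  · intro hg b hb
    refine Submodule.eq_of_le_of_finrank_eq ?_ (finrank_map_gl g _)
    rintro v ⟨w, hw, rfl⟩ i hi
    rw [gl, Matrix.toLin'_apply, Matrix.mulVec, dotProduct]
    refine sum_eq_zero fun j _ => ?_
    by_cases hj : j.val < b
    · rw [hg b hb i j hj hi, zero_mul]
    · rw [hw j (by omega), mul_zero]
  · intro hg b hb i j hj hi
    have hm : Pi.single j (1 : F) ∈ E F (n := n) b := fun k hk => by
      have : k ≠ j := fun e => by rw [e] at hk; omega
      simp [this]
    have h2 := (hg b hb).le (Submodule.mem_map_of_mem (f := gl g) hm) i hi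
    simpa [gl] using h2

variable [Fintype F]

/-- The flag of a matrix. -/
noncomputable def flag (S : Finset ℕ) (g : GL (Fin n) F) : Finset (Submodule F (Fin n → F)) := by
  classical exact S.image fun b => (E F b).map (gl g)

theorem flag_eq_iff {κ : Equiv.Perm (Fin n)} (h : Ok κ) (g g' : GL (Fin n) F) :
    flag (bd κ) g = flag (bd κ) g' ↔
      g⁻¹ * g' ∈ Cfsg.parabolicGL n F (fun i : Fin n => (fun _ => 1) i + i.val - (κ i).val) := by
  classical
  have hS : ∀ b ∈ bd κ, b ≤ n := fun b hb => by have := mem_Ioo.mp (bd_subset κ hb); omega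
  rw [mem_parabolic' h]
  have hb' : ∀ b, (E F (n := n) b).map (gl (g⁻¹ * g')) = E F b ↔ (E F b).map (gl g) = (E F b).map (gl g') := by
    intro b
    rw [← (Submodule.map_injective_of_injective (gl_injective g)).eq_iff, eq_comm, ← Submodule.map_comp,
      ← gl_mul, mul_inv_cancel_left]
  constructor
  · intro e b hb
    rw [hb']
    have hm : (E F b).map (gl g) ∈ flag (bd κ) g' := e ▸ mem_image_of_mem _ hb
    obtain ⟨b', hb1, hb2⟩ := mem_image.mp hm
    have := congrArg (fun W : Submodule F (Fin n → F) => Module.finrank F W) hb2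
    simp only [finrank_map_gl, finrank_E (hS _ hb), finrank_E (hS _ hb1)] at this
    subst this
    exact hb2.symm
  · intro e
    exact image_congr fun b hb => (hb' b).mp (e b hb)

theorem exists_adapted (L : Module.End F (Fin n → F)) {C : Finset (Submodule F (Fin n → F))}
    (hC : C ∈ chains L ⊤) : ∀ m ≤ n, ∃ v : Fin m → (Fin n → F), LinearIndependent F v ∧
      ∀ W ∈ C, ∀ i : Fin m, i.val < Module.finrank F W → v i ∈ W := by
  classical
  rw [mem_chains] at hC
  intro m
  induction m with
  | zero => intro _; exact ⟨Fin.elim0, linearIndependent_empty_type, fun W _ i => i.elim0⟩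
  | succ m ih =>
    intro hm
    obtain ⟨v, hv, hvm⟩ := ih (by omega)
    obtain ⟨W₀, hW₀, hmin⟩ : ∃ W₀ : Submodule F (Fin n → F), m < Module.finrank F W₀ ∧
        ∀ W ∈ C, m < Module.finrank F W → W₀ ≤ W := by
      by_cases hne : (C.filter fun W : Submodule F (Fin n → F) => m < Module.finrank F W).Nonempty
      · obtain ⟨W₀, hW₀, hmin⟩ := exists_minimal hne
        rw [mem_filter] at hW₀
        refine ⟨W₀, hW₀.2, fun W hW hmW => ?_⟩
        rcases hC.2.total hW₀.1 hW with h | h
        · exact h
        · exact hmin (mem_filter.mpr ⟨hW, hmW⟩) h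
      · exact ⟨⊤, by rw [finrank_top, Module.finrank_fin_fun]; omega, fun W hW hmW =>
          absurd ⟨W, mem_filter.mpr ⟨hW, hmW⟩⟩ hne⟩
    obtain ⟨x, hxW, hx⟩ : ∃ x ∈ W₀, x ∉ Submodule.span F (Set.range v) := by
      by_contra hcon
      push Not at hcon
      have h1 := Submodule.finrank_mono (show W₀ ≤ Submodule.span F (Set.range v) from hcon)
      rw [finrank_span_eq_card hv, Fintype.card_fin] at h1
      omega
    refine ⟨Fin.snoc v x, linearIndependent_fin_snoc.mpr ⟨hv, hx⟩, fun W hW i => ?_⟩
    refine Fin.lastCases ?_ (fun i => ?_) i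
    · intro hi
      rw [Fin.snoc_last]
      exact hmin W hW (by simpa using hi) hxW
    · intro hi
      rw [Fin.snoc_castSucc]
      exact hvm W hW i (by simpa using hi)

theorem inv_top (L : Module.End F (Fin n → F)) : Inv L ⊤ := fun _ _ => Submodule.mem_top

open scoped Classical in
theorem fixed_card {κ : Equiv.Perm (Fin n)} (h : Ok κ) (x : GL (Fin n) F) :
    Nat.card (MulAction.fixedBy
      (GL (Fin n) F ⧸ Cfsg.parabolicGL n F (fun i : Fin n => (fun _ => 1) i + i.val - (κ i).val)) x) =
      ((chains (gl x) ⊤).filter fun C =>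
        C.image (fun W : Submodule F (Fin n → F) => Module.finrank F W) = bd κ).card := by
  have hS : ∀ b ∈ bd κ, 0 < b ∧ b < n := fun b hb => mem_Ioo.mp (bd_subset κ hb)
  set P := Cfsg.parabolicGL n F (fun i : Fin n => (fun _ => 1) i + i.val - (κ i).val) with hP
  set T := (chains (gl x) ⊤).filter fun C =>
    C.image (fun W : Submodule F (Fin n → F) => Module.finrank F W) = bd κ with hT
  rw [← Nat.card_eq_finsetCard T]
  let Φ : GL (Fin n) F ⧸ P → Finset (Submodule F (Fin n → F)) :=
    Quotient.lift (flag (bd κ)) fun g g' hgg => (flag_eq_iff h g g').mpr (QuotientGroup.leftRel_apply.mp hgg)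
  have hΦ : ∀ g : GL (Fin n) F, Φ (QuotientGroup.mk g) = flag (bd κ) g := fun g => rfl
  have hfix : ∀ g : GL (Fin n) F, (QuotientGroup.mk g : GL (Fin n) F ⧸ P) ∈ MulAction.fixedBy _ x ↔
      ∀ b ∈ bd κ, (E F b).map (gl (x * g)) = (E F (n := n) b).map (gl g) := by
    intro g
    rw [MulAction.mem_fixedBy, MulAction.Quotient.smul_mk, QuotientGroup.eq, smul_eq_mul, mem_parabolic' h]
    refine forall₂_congr fun b _ => ?_
    rw [← (Submodule.map_injective_of_injective (gl_injective (x * g))).eq_iff, ← Submodule.map_comp,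
      ← gl_mul, mul_inv_cancel_left, eq_comm]
  have hinv : ∀ (g : GL (Fin n) F) (b : ℕ), (E F b).map (gl (x * g)) = (E F (n := n) b).map (gl g) ↔
      Inv (gl x) ((E F b).map (gl g)) := by
    intro g b
    rw [gl_mul, Submodule.map_comp]
    constructor
    · intro e v hv
      exact e.le (Submodule.mem_map_of_mem hv)
    · intro hi
      refine Submodule.eq_of_le_of_finrank_eq ?_ (finrank_map_gl x _)
      rintro v ⟨w, hw, rfl⟩
      exact hi w hw
  have hmem : ∀ g : GL (Fin n) F, (∀ b ∈ bd κ, Inv (gl x) ((E F b).map (gl g))) → flag (bd κ) g ∈ T := by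
    intro g hg
    rw [hT, mem_filter, mem_chains]
    refine ⟨⟨fun W hW => ?_, ?_⟩, ?_⟩
    · obtain ⟨b, hb, rfl⟩ := mem_image.mp hW
      refine ⟨hg b hb, fun e => ?_, lt_top_iff_ne_top.mpr fun e => ?_⟩
      · have := finrank_map_gl g (E F b)
        rw [e, finrank_bot, finrank_E (hS b hb).2.le] at this
        exact absurd this.symm (hS b hb).1.ne'
      · have := finrank_map_gl g (E F b)
        rw [e, finrank_top, Module.finrank_fin_fun, finrank_E (hS b hb).2.le] at this
        exact absurd this.symm (hS b hb).2.ne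
    · intro U hU W hW _
      obtain ⟨a, -, rfl⟩ := mem_image.mp (mem_coe.mp hU)
      obtain ⟨b, -, rfl⟩ := mem_image.mp (mem_coe.mp hW)
      rcases le_total a b with hab | hab
      · exact Or.inl (Submodule.map_mono fun v hv i hi => hv i (hab.trans hi))
      · exact Or.inr (Submodule.map_mono fun v hv i hi => hv i (hab.trans hi))
    · rw [flag, image_image]
      conv_rhs => rw [← image_id (s := bd κ)]
      exact image_congr fun b hb => by simp [finrank_map_gl, finrank_E (hS b hb).2.le]
  refine Nat.card_congr (Equiv.ofBijective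
    (fun y : MulAction.fixedBy (GL (Fin n) F ⧸ P) x => (⟨Φ y.1, ?_⟩ : T)) ⟨?_, ?_⟩)
  · obtain ⟨y, hy⟩ := y
    obtain ⟨g, rfl⟩ := QuotientGroup.mk_surjective y
    exact hmem g fun b hb => (hinv g b).mp ((hfix g).mp hy b hb)
  · rintro ⟨y, hy⟩ ⟨z, hz⟩ e
    obtain ⟨g, rfl⟩ := QuotientGroup.mk_surjective y
    obtain ⟨g', rfl⟩ := QuotientGroup.mk_surjective z
    exact Subtype.ext (QuotientGroup.eq.mpr ((flag_eq_iff h g g').mp (Subtype.ext_iff.mp e)))
  · rintro ⟨C, hC⟩
    rw [hT, mem_filter] at hC
    obtain ⟨v, hv, hvW⟩ := exists_adapted (gl x) hC.1 n le_rfl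
    let A : Matrix (Fin n) (Fin n) F := Matrix.of fun i j => v j i
    have hdet : A.det ≠ 0 := by
      rw [← isUnit_iff_ne_zero, ← Matrix.isUnit_iff_isUnit_det, ← Matrix.linearIndependent_cols_iff_isUnit]
      exact hv
    let g := Matrix.GeneralLinearGroup.mkOfDetNeZero A hdet
    have key : ∀ W ∈ C, (E F (n := n) (Module.finrank F W)).map (gl g) = W := by
      intro W hW
      have hWn : Module.finrank F W ≤ n := (Submodule.finrank_le W).trans_eq (Module.finrank_fin_fun F)
      refine Submodule.eq_of_le_of_finrank_eq ?_ (by rw [finrank_map_gl, finrank_E hWn])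
      rintro y ⟨w, hw, rfl⟩
      have : gl g w = ∑ j, w j • v j := by
        funext i
        simp [gl, g, A, Matrix.GeneralLinearGroup.mkOfDetNeZero, Matrix.mulVec, dotProduct, mul_comm]
      rw [this]
      refine W.sum_mem fun j _ => ?_
      by_cases hj : j.val < Module.finrank F W
      · exact W.smul_mem _ (hvW W hW j hj)
      · rw [hw j (by omega), zero_smul]; exact W.zero_mem
    have hflag : flag (bd κ) g = C := by
      rw [flag, ← hC.2, image_image]
      conv_rhs => rw [← image_id (s := C)]
      exact image_congr fun W hW => key W hW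
    refine ⟨⟨QuotientGroup.mk g, (hfix g).mpr fun b hb => (hinv g b).mpr ?_⟩, Subtype.ext ?_⟩
    · have : (E F b).map (gl g) ∈ C := hflag ▸ mem_image_of_mem _ hb
      exact ((mem_chains.mp hC.1).1 _ this).1
    · show Φ (QuotientGroup.mk g) = C
      rw [hΦ]; exact hflag

open scoped Classical in
theorem steinberg_eq (hn : 0 < n) (x : GL (Fin n) F) :
    Cfsg.unipotentCharacterGL n F (fun _ => 1) x = (((-1 : ℤ) ^ n * M (gl x) ⊤ : ℤ) : ℂ) := by
  have htop : (⊤ : Submodule F (Fin n → F)) ≠ ⊥ := by
    have : Nonempty (Fin n) := ⟨⟨0, hn⟩⟩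
    exact top_ne_bot
  rw [← sum_chains (gl x) _ ⊤ (inv_top _) htop rfl, mul_sum]
  have hmaps : ∀ C ∈ chains (gl x) ⊤,
      C.image (fun W : Submodule F (Fin n → F) => Module.finrank F W) ∈ (Ioo 0 n).powerset := by
    intro C hC
    rw [mem_powerset]
    intro b hb
    obtain ⟨W, hW, rfl⟩ := mem_image.mp hb
    obtain ⟨-, h1, h2⟩ := (mem_chains.mp hC).1 W hW
    rw [mem_Ioo]
    refine ⟨Nat.pos_of_ne_zero fun e => h1 (Submodule.finrank_eq_zero.mp e), ?_⟩
    have := Submodule.finrank_lt_finrank_of_lt h2
    rwa [finrank_top, Module.finrank_fin_fun] at this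
  rw [← sum_fiberwise_of_maps_to hmaps]
  push_cast
  rw [Cfsg.unipotentCharacterGL, ← sum_filter]
  refine sum_bij (fun κ _ => bd κ) (fun κ _ => mem_powerset.mpr (bd_subset κ))
    (fun κ hκ κ' hκ' e => bd_determines (mem_filter.mp hκ).2 (mem_filter.mp hκ').2 e) ?_ ?_
  · intro S hS
    obtain ⟨κ, hκ, e⟩ := exists_of_bd (mem_powerset.mp hS)
    exact ⟨κ, mem_filter.mpr ⟨mem_univ _, hκ⟩, e⟩
  · intro κ hκ
    have h : Ok κ := (mem_filter.mp hκ).2
    rw [Cfsg.fixedPointCharacter, fixed_card h x, sign_eq _ h rfl]
    rw [mul_comm, ← nsmul_eq_mul, ← sum_const]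
    refine sum_congr rfl fun C hC => ?_
    rw [mem_filter] at hC
    have hcard : C.card = (bd κ).card := by
      rw [← hC.2, card_image_of_injOn]
      intro U hU W hW e
      rcases (mem_chains.mp hC.1).2.total hU hW with h' | h'
      · exact Submodule.eq_of_le_of_finrank_eq h' e
      · exact (Submodule.eq_of_le_of_finrank_eq h' (Eq.symm e)).symm
    have hcnt := card_steps hn h
    rw [hcard]
    push_cast
    rw [← pow_add, show n + ((bd κ).card + 1) = (steps κ).card + 2 * ((bd κ).card + 1) by omega,
      pow_add, pow_mul]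
    simp

/-- Values of the Steinberg character of `GL_n(q)` (the partition-indexed character for `ν = (1,…,1)`, of degree `q^(n(n−1)/2)`) at elements of order prime to the characteristic: if the characteristic polynomial of such an element is `∏ f^(m_f)` over distinct monic irreducible `f`, the value is `∏_f (−1)^((deg f − 1) m_f) q^(deg f · m_f (m_f − 1)/2)`. (At elements of order divisible by the characteristic the value is 0; that is not part of this statement.) -/
theorem result {F : Type*} [Field F] [Fintype F] [DecidableEq F] {q : ℕ} (hq : Fintype.card F = q) (p : ℕ) [Fact p.Prime] [CharP F p]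
    {n : ℕ} (x : GL (Fin n) F) (hx : (orderOf x).Coprime p) :
    Cfsg.unipotentCharacterGL n F (fun _ => 1) x =
      ∏ f ∈ (UniqueFactorizationMonoid.normalizedFactors (x : Matrix (Fin n) (Fin n) F).charpoly).toFinset,
        (-1 : ℂ) ^ ((f.natDegree - 1) * (UniqueFactorizationMonoid.normalizedFactors (x : Matrix (Fin n) (Fin n) F).charpoly).count f) *
          (q : ℂ) ^ (f.natDegree * (UniqueFactorizationMonoid.normalizedFactors (x : Matrix (Fin n) (Fin n) F).charpoly).count f *
            ((UniqueFactorizationMonoid.normalizedFactors (x : Matrix (Fin n) (Fin n) F).charpoly).count f - 1) / 2) := by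
  subst hq
  rcases Nat.eq_zero_or_pos n with rfl | hn
  · rw [Cfsg.unipotentCharacterGL, Fintype.sum_eq_single (1 : Equiv.Perm (Fin 0)) (fun κ hκ => absurd (Subsingleton.elim κ 1) hκ),
      if_pos (fun i => i.elim0)]
    have : ∀ H : Subgroup (GL (Fin 0) F), Cfsg.fixedPointCharacter H x = 1 := fun H => by
      have : Subsingleton (GL (Fin 0) F ⧸ H) := Quotient.instSubsingletonQuotient _
      rw [Cfsg.fixedPointCharacter, Subsingleton.elim x 1]
      have : Nonempty (MulAction.fixedBy (GL (Fin 0) F ⧸ H) (1 : GL (Fin 0) F)) :=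
        ⟨⟨QuotientGroup.mk 1, by simp⟩⟩
      rw [Nat.card_of_subsingleton (Classical.arbitrary _), Nat.cast_one]
    rw [this]
    simp [Matrix.charpoly_isEmpty]
  have hN : (orderOf x : F) ≠ 0 := fun e => by
    rw [CharP.cast_eq_zero_iff F p] at e
    exact (Fact.out : p.Prime).not_dvd_one (hx.gcd_eq_one ▸ Nat.dvd_gcd e dvd_rfl)
  have hss : Module.End.IsSemisimple (gl x) := by
    refine Module.End.isSemisimple_of_squarefree_aeval_eq_zero
      (Polynomial.X_pow_sub_one_separable_iff.mpr hN).squarefree ?_
    rw [map_sub, map_pow, Polynomial.aeval_X, map_one, sub_eq_zero, gl, ← Matrix.toLin'_pow,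
      ← Units.val_pow_eq_pow_val, pow_orderOf_eq_one, Units.val_one, Matrix.toLin'_one]
    rfl
  rw [steinberg_eq hn, M_eq_formula hss _ ⊤ (inv_top _) rfl]
  have hcp : (res (gl x) (inv_top (gl x))).charpoly = (x : Matrix (Fin n) (Fin n) F).charpoly := by
    rw [← Matrix.charpoly_toLin', ← (Submodule.topEquiv (R := F) (M := Fin n → F)).charpoly_conj]
    congr 1
  rw [hcp]
  set P := (x : Matrix (Fin n) (Fin n) F).charpoly with hP
  set S := UniqueFactorizationMonoid.normalizedFactors P with hS
  have hdeg : n = ∑ f ∈ S.toFinset, S.count f * f.natDegree := by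
    have hP0 : P ≠ 0 := (Matrix.charpoly_monic _).ne_zero
    have hmon : ∀ f ∈ S, f.Monic := fun f hf => by
      have := UniqueFactorizationMonoid.normalize_normalized_factor f hf
      rw [← this]
      exact Polynomial.monic_normalize (UniqueFactorizationMonoid.irreducible_of_normalized_factor f hf).ne_zero
    have hprod : S.prod = P :=
      Polynomial.eq_of_monic_of_associated ((by simpa using Polynomial.monic_multiset_prod_of_monic S id hmon)) (Matrix.charpoly_monic _)
        (UniqueFactorizationMonoid.prod_normalizedFactors hP0)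
    have hd := Polynomial.natDegree_multiset_prod S (fun h0 => (hmon 0 h0).ne_zero rfl)
    rw [hprod, hP, Matrix.charpoly_natDegree_eq_dim, Fintype.card_fin, Finset.sum_multiset_map_count] at hd
    simpa using hd
  rw [InvMoebius.formula, ← hS]
  push_cast
  conv_lhs => rw [hdeg]
  rw [← Finset.prod_pow_eq_pow_sum, ← Finset.prod_mul_distrib]
  refine Finset.prod_congr rfl fun f hf => ?_
  have hd1 : 1 ≤ f.natDegree :=
    (UniqueFactorizationMonoid.irreducible_of_normalized_factor f (Multiset.mem_toFinset.mp hf)).natDegree_pos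
  rw [← mul_assoc, ← pow_add]
  congr 1
  rw [show S.count f * f.natDegree + S.count f = (f.natDegree - 1) * S.count f + 2 * S.count f by
    obtain ⟨d, hd⟩ := Nat.exists_eq_add_of_le hd1
    rw [hd, Nat.add_sub_cancel_left]; ring, pow_add, pow_mul (-1 : ℂ) 2]
  simp

end Cfsg.Agent.S2425
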