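import Cfsg.Statements.S2426
import Cfsg.Agent.Lib.RootGroups.SL2Steinberg
-- import your own Cfsg.Agent.* helpers here

set_option autoImplicit false
open Cfsg

namespace Cfsg.Agent.S2426

/-- The rank-one Steinberg presentation of `SL₂` over a finite field `K`: generators `x(t)`, `y(t)` (`t ∈ K`; the two opposite root subgroups) subject to additivity `x(t)x(u) = x(t+u)`, `y(t)y(u) = y(t+u)` and, with `w(t) = x(t) y(−t⁻¹) x(t)` and `w'(t) = y(t) x(−t⁻¹) y(t)` for `t ≠ 0`, the relations `w(t) x(u) w(t)⁻¹ = y(−t⁻² u)` and `w'(t) y(u) w'(t)⁻¹ = x(−t⁻² u)`, present `SL₂(K)`, with `x(t) ↦ (1 t; 0 1)` and `y(t) ↦ (1 0; t 1)`. -/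
theorem result {K : Type*} [Field K] [Finite K] :
    ∃ e : PresentedGroup
        ({g : FreeGroup (Bool × K) | ∃ (b : Bool) (t u : K), g = FreeGroup.of (b, t) * FreeGroup.of (b, u) * (FreeGroup.of (b, t + u))⁻¹} ∪
          {g | ∃ (b : Bool) (t u : K), t ≠ 0 ∧
            g = (FreeGroup.of (b, t) * FreeGroup.of (!b, -t⁻¹) * FreeGroup.of (b, t)) * FreeGroup.of (b, u) *
                  (FreeGroup.of (b, t) * FreeGroup.of (!b, -t⁻¹) * FreeGroup.of (b, t))⁻¹ * (FreeGroup.of (!b, -(t⁻¹ ^ 2 * u)))⁻¹})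
        ≃* Matrix.SpecialLinearGroup (Fin 2) K,
      (∀ t : K, ((e (PresentedGroup.of (true, t)) : Matrix (Fin 2) (Fin 2) K)) = !![1, t; 0, 1]) ∧
      (∀ t : K, ((e (PresentedGroup.of (false, t)) : Matrix (Fin 2) (Fin 2) K)) = !![1, 0; t, 1]) := by
  set rels : Set (FreeGroup (Bool × K)) :=
    {g : FreeGroup (Bool × K) | ∃ (b : Bool) (t u : K), g = FreeGroup.of (b, t) * FreeGroup.of (b, u) * (FreeGroup.of (b, t + u))⁻¹} ∪
      {g | ∃ (b : Bool) (t u : K), t ≠ 0 ∧
        g = (FreeGroup.of (b, t) * FreeGroup.of (!b, -t⁻¹) * FreeGroup.of (b, t)) * FreeGroup.of (b, u) *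
              (FreeGroup.of (b, t) * FreeGroup.of (!b, -t⁻¹) * FreeGroup.of (b, t))⁻¹ * (FreeGroup.of (!b, -(t⁻¹ ^ 2 * u)))⁻¹}
    with hrels
  set P : Bool → K → PresentedGroup rels := fun b t => PresentedGroup.of (b, t) with hP
  have hadd : ∀ b t u, P b (t + u) = P b t * P b u := fun b t u =>
    (mul_inv_eq_one.mp (PresentedGroup.one_of_mem (rels := rels) (Or.inl ⟨b, t, u, rfl⟩))).symm
  have hconj : ∀ b t u, t ≠ 0 →
      (P b t * P (!b) (-t⁻¹) * P b t) * P b u * (P b t * P (!b) (-t⁻¹) * P b t)⁻¹ =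
        P (!b) (-(t⁻¹ ^ 2 * u)) := fun b t u ht =>
    mul_inv_eq_one.mp (PresentedGroup.one_of_mem (rels := rels) (Or.inr ⟨b, t, u, ht, rfl⟩))
  let x : K → PresentedGroup rels := P true
  let y : K → PresentedGroup rels := fun s => P false (-s)
  have hyadd : ∀ s t, y (s + t) = y s * y t := fun s t => by
    simp only [y, neg_add, hadd]
  have hx0 : x 0 = 1 := by
    have := hadd true 0 0
    rwa [add_zero, left_eq_mul] at this
  have hy0 : y 0 = 1 := by
    have := hyadd 0 0
    rwa [add_zero, left_eq_mul] at this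
  have hxneg : ∀ t, x (-t) = (x t)⁻¹ := fun t =>
    eq_inv_of_mul_eq_one_left (by rw [← hadd, neg_add_cancel]; exact hx0)
  have hyneg : ∀ t, y (-t) = (y t)⁻¹ := fun t =>
    eq_inv_of_mul_eq_one_left (by rw [← hyadd, neg_add_cancel]; exact hy0)
  have hcx : ∀ t, t ≠ 0 → ∀ s,
      (x t * y t⁻¹ * x t) * x s * (x t * y t⁻¹ * x t)⁻¹ = y (s / t ^ 2) := fun t ht s => by
    have h := hconj true t s ht
    simp only [Bool.not_true] at h
    show (x t * P false (-t⁻¹) * x t) * x s * (x t * P false (-t⁻¹) * x t)⁻¹ = P false (-(s / t ^ 2))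
    rw [h, inv_pow, div_eq_inv_mul]
  have hcy : ∀ t, t ≠ 0 → ∀ s,
      (x t * y t⁻¹ * x t) * y s * (x t * y t⁻¹ * x t)⁻¹ = x (s * t ^ 2) := fun t ht s => by
    have h := hcx (-t) (neg_ne_zero.mpr ht) (s * t ^ 2)
    rw [neg_sq, mul_div_cancel_right₀ _ (pow_ne_zero 2 ht), inv_neg, hxneg, hyneg] at h
    rw [← h]
    group
  have r : CfsgLib.RootGroups.Steinberg.Rel x y := by
    refine ⟨hadd true, hyadd, fun t ht => ?_, hcx, hcy⟩
    have h1 := hcx t ht t
    have h2 := hcy t ht t⁻¹
    have e1 : t / t ^ 2 = t⁻¹ := by field_simp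
    have e2 : t⁻¹ * t ^ 2 = t := by field_simp
    rw [e1] at h1
    rw [e2] at h2
    calc x t * y t⁻¹ * x t
          = (x t * y t⁻¹ * x t * x t * (x t * y t⁻¹ * x t)⁻¹) *
            (x t * y t⁻¹ * x t * y t⁻¹ * (x t * y t⁻¹ * x t)⁻¹) *
            (x t * y t⁻¹ * x t * x t * (x t * y t⁻¹ * x t)⁻¹) := by group
        _ = _ := by rw [h1, h2]
  open CfsgLib.RootGroups.Steinberg in
  let f : Bool × K → Matrix.SpecialLinearGroup (Fin 2) K :=
    fun p => if p.1 then upper p.2 else lower (-p.2)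
  have hft : ∀ t, f (true, t) = CfsgLib.RootGroups.Steinberg.upper t := fun t => rfl
  have hff : ∀ t, f (false, t) = CfsgLib.RootGroups.Steinberg.lower (-t) := fun t => rfl
  have hf : ∀ g ∈ rels, FreeGroup.lift f g = 1 := by
    rintro g (⟨b, t, u, rfl⟩ | ⟨b, t, u, ht, rfl⟩)
    · simp only [map_mul, map_inv, FreeGroup.lift_apply_of, mul_inv_eq_one]
      cases b <;> simp only [hft, hff] <;> apply Matrix.SpecialLinearGroup.ext <;> intro i j <;>
        fin_cases i <;> fin_cases j <;>
        simp [CfsgLib.RootGroups.Steinberg.upper_val, CfsgLib.RootGroups.Steinberg.lower_val, CfsgLib.RootGroups.Steinberg.sl2_val_mul, CfsgLib.RootGroups.Steinberg.sl2_val_inv,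
          Matrix.mul_apply, Fin.sum_univ_two] <;> ring
    · simp only [map_mul, map_inv, FreeGroup.lift_apply_of, mul_inv_eq_one]
      rw [mul_inv_eq_iff_eq_mul]
      cases b <;> simp only [Bool.not_true, Bool.not_false, hft, hff] <;>
        apply Matrix.SpecialLinearGroup.ext <;> intro i j <;>
        fin_cases i <;> fin_cases j <;>
        simp [CfsgLib.RootGroups.Steinberg.upper_val, CfsgLib.RootGroups.Steinberg.lower_val, CfsgLib.RootGroups.Steinberg.sl2_val_mul, CfsgLib.RootGroups.Steinberg.sl2_val_inv,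
          Matrix.mul_apply, Fin.sum_univ_two] <;> field_simp <;> first | ring1 | simp
  let φ : PresentedGroup rels →* Matrix.SpecialLinearGroup (Fin 2) K := PresentedGroup.toGroup hf
  have hφx : ∀ t, φ (x t) = CfsgLib.RootGroups.Steinberg.upper t := fun t =>
    (PresentedGroup.toGroup.of hf).trans (hft t)
  have hφy : ∀ t, φ (y t) = CfsgLib.RootGroups.Steinberg.lower t := fun t =>
    (PresentedGroup.toGroup.of hf).trans (by rw [hff, neg_neg])
  have hleft : r.hom.comp φ = MonoidHom.id _ := by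
    refine PresentedGroup.ext fun p => ?_
    obtain ⟨_ | _, t⟩ := p
    · show r.hom (φ (PresentedGroup.of (false, t))) = PresentedGroup.of (false, t)
      have : (PresentedGroup.of (false, t) : PresentedGroup rels) = y (-t) := by
        simp [y, P]
      rw [this, hφy, r.hom_lower]
    · show r.hom (φ (x t)) = x t
      rw [hφx, r.hom_upper]
  have hright : φ.comp r.hom = MonoidHom.id _ := by
    refine MonoidHom.ext fun g => ?_
    show φ (CfsgLib.RootGroups.Steinberg.bruhat x y g) = g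
    have hdet := CfsgLib.RootGroups.Steinberg.sl2_det g
    by_cases hc : g.1 1 0 = 0
    · rw [CfsgLib.RootGroups.Steinberg.bruhat_of_zero g hc]
      rw [hc, mul_zero, sub_zero] at hdet
      have ha : g.1 0 0 ≠ 0 := left_ne_zero_of_mul_eq_one hdet
      simp only [CfsgLib.RootGroups.Steinberg.tor, CfsgLib.RootGroups.Steinberg.w, map_mul, map_inv,
        hφx, hφy]
      apply CfsgLib.RootGroups.Steinberg.sl2_ext <;>
        simp [Matrix.mul_apply, Fin.sum_univ_two, Matrix.adjugate_fin_two,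
          CfsgLib.RootGroups.Steinberg.upper_val, CfsgLib.RootGroups.Steinberg.lower_val, CfsgLib.RootGroups.Steinberg.sl2_val_mul, CfsgLib.RootGroups.Steinberg.sl2_val_inv, hc] <;>
        field_simp
      all_goals first
        | ring1
        | (left; ring1)
        | linear_combination hdet
        | linear_combination -hdet
    · rw [CfsgLib.RootGroups.Steinberg.bruhat_of_ne g hc]
      simp only [CfsgLib.RootGroups.Steinberg.w, map_mul, map_inv, hφx, hφy]
      apply CfsgLib.RootGroups.Steinberg.sl2_ext <;>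
        simp [Matrix.mul_apply, Fin.sum_univ_two,
          CfsgLib.RootGroups.Steinberg.upper_val, CfsgLib.RootGroups.Steinberg.lower_val, CfsgLib.RootGroups.Steinberg.sl2_val_mul, CfsgLib.RootGroups.Steinberg.sl2_val_inv] <;>
        field_simp
      all_goals first
        | ring1
        | (left; ring1)
        | linear_combination hdet
        | linear_combination -hdet
  refine ⟨MonoidHom.toMulEquiv φ r.hom hleft hright, fun t => ?_, fun t => ?_⟩
  · exact congrArg Subtype.val (hφx t)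
  · exact (congrArg Subtype.val ((PresentedGroup.toGroup.of hf).trans (hff t))).trans (by
      simp [CfsgLib.RootGroups.Steinberg.lower])

end Cfsg.Agent.S2426
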