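import Cfsg.Statements.S2428
import Cfsg.Agent.Lib.SL2Tori.Tori

set_option autoImplicit false
open Cfsg

namespace Cfsg.Agent.S2428

/-- Let F be a finite field with q elements, q odd, and let d be a diagonal element of SL₂ over F whose diagonal entry a has a² ≠ 1 (such d exist exactly when q > 3). Then the centraliser of d is precisely the diagonal subgroup T; the normaliser of T has order 2(q − 1) and exactly (q + 5)/2 conjugacy classes; and every element of that normaliser outside T has square equal to −1. -/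
theorem result {F : Type*} [Field F] [Fintype F] (hodd : Odd (Fintype.card F))
    (d : Matrix.SpecialLinearGroup (Fin 2) F) (hd01 : (d : Matrix (Fin 2) (Fin 2) F) 0 1 = 0) (hd10 : (d : Matrix (Fin 2) (Fin 2) F) 1 0 = 0) (hda : (d : Matrix (Fin 2) (Fin 2) F) 0 0 ^ 2 ≠ 1) :
    (∀ g : Matrix.SpecialLinearGroup (Fin 2) F, g ∈ Subgroup.centralizer ({d} : Set (Matrix.SpecialLinearGroup (Fin 2) F)) ↔ ((g : Matrix (Fin 2) (Fin 2) F) 0 1 = 0 ∧ (g : Matrix (Fin 2) (Fin 2) F) 1 0 = 0)) ∧
    Nat.card (Subgroup.normalizer ((Subgroup.centralizer ({d} : Set (Matrix.SpecialLinearGroup (Fin 2) F))) : Set (Matrix.SpecialLinearGroup (Fin 2) F))) = 2 * (Fintype.card F - 1) ∧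
    Nat.card (ConjClasses (Subgroup.normalizer ((Subgroup.centralizer ({d} : Set (Matrix.SpecialLinearGroup (Fin 2) F))) : Set (Matrix.SpecialLinearGroup (Fin 2) F)))) = (Fintype.card F + 5) / 2 ∧
    ∀ g : Matrix.SpecialLinearGroup (Fin 2) F, g ∈ Subgroup.normalizer ((Subgroup.centralizer ({d} : Set (Matrix.SpecialLinearGroup (Fin 2) F))) : Set (Matrix.SpecialLinearGroup (Fin 2) F)) →
      g ∉ Subgroup.centralizer ({d} : Set (Matrix.SpecialLinearGroup (Fin 2) F)) → ((g * g) : Matrix (Fin 2) (Fin 2) F) = -1 := by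
  have h5 : 5 ≤ Fintype.card F := by
    by_contra hlt
    have h1 := Fintype.one_lt_card (α := F)
    obtain ⟨k, hk⟩ := hodd
    have h3 : Fintype.card F = 3 := by omega
    have hd : ((d : Matrix (Fin 2) (Fin 2) F)).det = 1 := d.prop
    rw [Matrix.det_fin_two, hd01, zero_mul, sub_zero] at hd
    apply hda
    have h0 : (d : Matrix (Fin 2) (Fin 2) F) 0 0 ≠ 0 := left_ne_zero_of_mul_eq_one hd
    have h4 := FiniteField.pow_card_sub_one_eq_one _ h0
    rwa [h3] at h4
  obtain ⟨c, h, hh, T, hc⟩ := CfsgLib.SL2Tori.exists_split hodd h5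
  have hC : Subgroup.centralizer ({d} : Set (Matrix.SpecialLinearGroup (Fin 2) F)) = Subgroup.zpowers c := by
    refine T.centralizer_elt ((hc d).2 ⟨hd01, hd10⟩) ?_ ?_ <;> intro e <;> apply hda <;> rw [e] <;> simp
  rw [hC]
  refine ⟨hc, by rw [T.normalizer_card.1, hh]; ring, by rw [T.normalizer_card.2]; omega, fun g hg hg2 => T.sq_outside hg hg2⟩

end Cfsg.Agent.S2428
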