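import Cfsg.Statements.S2430
import Cfsg.Agent.Lib.SL2Tori.Sylow

set_option autoImplicit false
open Cfsg

namespace Cfsg.Agent.S2430

/-- Let F be a finite field with q elements, q odd, ℓ an odd prime, and P a Sylow ℓ-subgroup of SL₂ over F. If ℓ divides q − 1, the centraliser of P is cyclic of order q − 1 (a split torus) and the normaliser of P has order 2(q − 1); if ℓ divides q + 1, the centraliser of P is cyclic of order q + 1 (a non-split torus) and the normaliser of P has order 2(q + 1). -/
theorem result {F : Type*} [Field F] [Fintype F] (hodd : Odd (Fintype.card F)) (ℓ : ℕ) [Fact ℓ.Prime] (hℓ : ℓ ≠ 2)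
    (P : Sylow ℓ (Matrix.SpecialLinearGroup (Fin 2) F)) :
    (ℓ ∣ Fintype.card F - 1 →
      Nat.card (Subgroup.centralizer ((P : Subgroup (Matrix.SpecialLinearGroup (Fin 2) F)) : Set (Matrix.SpecialLinearGroup (Fin 2) F))) = Fintype.card F - 1 ∧
      IsCyclic (Subgroup.centralizer ((P : Subgroup (Matrix.SpecialLinearGroup (Fin 2) F)) : Set (Matrix.SpecialLinearGroup (Fin 2) F))) ∧
      Nat.card (Subgroup.normalizer ((P : Subgroup (Matrix.SpecialLinearGroup (Fin 2) F)) : Set (Matrix.SpecialLinearGroup (Fin 2) F))) = 2 * (Fintype.card F - 1)) ∧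
    (ℓ ∣ Fintype.card F + 1 →
      Nat.card (Subgroup.centralizer ((P : Subgroup (Matrix.SpecialLinearGroup (Fin 2) F)) : Set (Matrix.SpecialLinearGroup (Fin 2) F))) = Fintype.card F + 1 ∧
      IsCyclic (Subgroup.centralizer ((P : Subgroup (Matrix.SpecialLinearGroup (Fin 2) F)) : Set (Matrix.SpecialLinearGroup (Fin 2) F))) ∧
      Nat.card (Subgroup.normalizer ((P : Subgroup (Matrix.SpecialLinearGroup (Fin 2) F)) : Set (Matrix.SpecialLinearGroup (Fin 2) F))) = 2 * (Fintype.card F + 1)) := by
  have hl : ℓ.Prime := Fact.out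
  have hl3 : 3 ≤ ℓ := by have := hl.two_le; omega
  have hcard := CfsgLib.Schur.natCard_slTwo (F := F)
  have h1 := Fintype.one_lt_card (α := F)
  obtain ⟨k, hk⟩ := hodd
  refine ⟨fun h => ?_, fun h => ?_⟩
  · have h5 : 5 ≤ Fintype.card F := by
      have := Nat.le_of_dvd (by omega) h
      omega
    obtain ⟨c, m, hm, T, -⟩ := CfsgLib.SL2Tori.exists_split (F := F) ⟨k, hk⟩ h5
    have hnd : ¬ ℓ ∣ (Fintype.card F * (Fintype.card F + 1)) := by
      intro hd
      rcases hl.dvd_mul.1 hd with hd | hd
      · have := Nat.dvd_sub hd h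
        rw [show Fintype.card F - (Fintype.card F - 1) = 1 by omega] at this
        exact hl.not_dvd_one this
      · have := Nat.dvd_sub hd h
        rw [show Fintype.card F + 1 - (Fintype.card F - 1) = 2 by omega] at this
        exact absurd (Nat.le_of_dvd two_pos this) (by omega)
    obtain ⟨a, b, d⟩ := CfsgLib.SL2Tori.odd_sylow T hℓ (m := Fintype.card F * (Fintype.card F + 1)) (hm ▸ h)
      (by rw [hcard, ← hm]; ring) hnd P
    exact ⟨by omega, b, by omega⟩
  · obtain ⟨c, m, hm, T, -⟩ := CfsgLib.SL2Tori.exists_nonsplit (F := F) ⟨k, hk⟩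
    have hnd : ¬ ℓ ∣ (Fintype.card F * (Fintype.card F - 1)) := by
      intro hd
      rcases hl.dvd_mul.1 hd with hd | hd
      · exact hl.not_dvd_one ((Nat.dvd_add_right hd).1 h)
      · have := Nat.dvd_sub h hd
        rw [show Fintype.card F + 1 - (Fintype.card F - 1) = 2 by omega] at this
        exact absurd (Nat.le_of_dvd two_pos this) (by omega)
    obtain ⟨a, b, d⟩ := CfsgLib.SL2Tori.odd_sylow T hℓ (m := Fintype.card F * (Fintype.card F - 1)) (hm ▸ h)
      (by rw [hcard, ← hm]; ring) hnd P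
    exact ⟨by omega, b, by omega⟩

end Cfsg.Agent.S2430
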