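import Cfsg.Statements.S2434
import Cfsg.Agent.Lib.SL2Char.NonSplit

set_option autoImplicit false
open Cfsg

namespace Cfsg.Agent.S2434

/-- Let F be a finite field with q elements, q odd, and C a cyclic subgroup of order q + 1 of SL₂ over F (a non-split torus; it contains the centre). For every homomorphism θ from C to the non-zero complex numbers with θ² ≠ 1 there is an irreducible complex character χ of degree q − 1 such that χ(c) = −θ(c) − θ(c)⁻¹ for every non-central c in C, χ(zg) = θ(z)χ(g) for central z in C, χ vanishes at diagonal elements with entry a, a² ≠ 1, and χ takes the value −1 at every upper unitriangular element other than 1. Conversely every irreducible character of degree q − 1 has, for some such θ, the values −θ(c) − θ(c)⁻¹ at the non-central elements c of C (for q ≥ 5 these are exactly the cuspidal characters of degree q − 1). -/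
theorem result {F : Type*} [Field F] [Fintype F] (hodd : Odd (Fintype.card F))
    (C : Subgroup (Matrix.SpecialLinearGroup (Fin 2) F)) (hC : IsCyclic C) (hcard : Nat.card C = Fintype.card F + 1) :
    (∀ θ : C →* ℂˣ, (∃ c : C, θ c ^ 2 ≠ 1) →
      ∃ χ : Matrix.SpecialLinearGroup (Fin 2) F → ℂ, Cfsg.IsIrrCharacter (Matrix.SpecialLinearGroup (Fin 2) F) χ ∧ χ 1 = (Fintype.card F : ℂ) - 1 ∧
        (∀ c : C, (c : Matrix.SpecialLinearGroup (Fin 2) F) ∉ Subgroup.center (Matrix.SpecialLinearGroup (Fin 2) F) → χ c = -((θ c).val + (θ c)⁻¹.val)) ∧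
        (∀ c : C, (c : Matrix.SpecialLinearGroup (Fin 2) F) ∈ Subgroup.center (Matrix.SpecialLinearGroup (Fin 2) F) → ∀ g : Matrix.SpecialLinearGroup (Fin 2) F, χ ((c : Matrix.SpecialLinearGroup (Fin 2) F) * g) = (θ c).val * χ g) ∧
        (∀ g : Matrix.SpecialLinearGroup (Fin 2) F, (g : Matrix (Fin 2) (Fin 2) F) 0 1 = 0 → (g : Matrix (Fin 2) (Fin 2) F) 1 0 = 0 → (g : Matrix (Fin 2) (Fin 2) F) 0 0 ^ 2 ≠ 1 → χ g = 0) ∧
        (∀ g : Matrix.SpecialLinearGroup (Fin 2) F, (g : Matrix (Fin 2) (Fin 2) F) 1 0 = 0 → (g : Matrix (Fin 2) (Fin 2) F) 0 0 = 1 → (g : Matrix (Fin 2) (Fin 2) F) 1 1 = 1 → (g : Matrix (Fin 2) (Fin 2) F) 0 1 ≠ 0 → χ g = -1)) ∧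
    (∀ χ : Matrix.SpecialLinearGroup (Fin 2) F → ℂ, Cfsg.IsIrrCharacter (Matrix.SpecialLinearGroup (Fin 2) F) χ → χ 1 = (Fintype.card F : ℂ) - 1 →
      ∃ θ : C →* ℂˣ, (∃ c : C, θ c ^ 2 ≠ 1) ∧
        ∀ c : C, (c : Matrix.SpecialLinearGroup (Fin 2) F) ∉ Subgroup.center (Matrix.SpecialLinearGroup (Fin 2) F) → χ c = -((θ c).val + (θ c)⁻¹.val)) := by
  classical
  obtain ⟨c, h, D, rfl⟩ := CfsgLib.SL2Char.exists_dsData_of_cyclic hodd hC hcard
  obtain ⟨α₀, θ₀, η₁, η₂, χ₁, χ₂, T⟩ := CfsgLib.SL2Char.exists_table D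
  let G := Matrix.SpecialLinearGroup (Fin 2) F
  have hne : ∀ θ : Subgroup.zpowers c →* ℂˣ, (∃ x, θ x ^ 2 ≠ 1) ↔ θ ^ 2 ≠ 1 := by
    intro θ
    rw [← not_forall, not_iff_not]
    refine ⟨fun e => MonoidHom.ext fun x => by simpa using e x, fun e x => ?_⟩
    simpa using DFunLike.congr_fun e x
  have htor : ∀ (θ : Subgroup.zpowers c →* ℂˣ) (x : Subgroup.zpowers c),
      (x : G) ∉ Subgroup.center G →
      CfsgLib.SL2Char.dsFun D θ (x : G) = -((θ x).val + (θ x)⁻¹.val) := by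
    intro θ x hx
    rw [CfsgLib.SL2Char.mem_center_iff, not_or] at hx
    rw [CfsgLib.SL2Char.dsFun_torus θ x hx.1 hx.2, Units.val_inv_eq_inv_val]
  refine ⟨fun θ hθ => ?_, fun χ hχ hd => ?_⟩
  · rw [hne] at hθ
    let χ : Cfsg.IrrCharacter G := ⟨_, CfsgLib.SL2Char.isIrrCharacter_dsFun D hθ⟩
    refine ⟨_, χ.2, CfsgLib.SL2Char.dsFun_one D θ, htor θ, ?_, ?_, ?_⟩
    · rintro ⟨z, hz⟩ hzc g
      rcases CfsgLib.SL2Char.mem_center_iff.1 hzc with e | e <;> subst e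
      · rw [show (⟨1, hz⟩ : Subgroup.zpowers c) = 1 from rfl, map_one]
        simp
      · obtain ⟨s, -, hs⟩ := CfsgLib.Involutions.irr_central_involution_sign χ
          (CfsgLib.SL2Char.mem_center_iff.2 (Or.inr rfl)) (Subtype.ext (by simp) : (-1 : Matrix.SpecialLinearGroup (Fin 2) F) * -1 = 1)
        have h1 := hs 1
        rw [mul_one] at h1
        have hzs : (θ ⟨-1, hz⟩ : ℂ) = (s : ℂ) := by
          refine mul_right_cancel₀ (CfsgLib.Characters.irr_one_ne_zero χ) (Eq.trans ?_ h1)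
          show _ * CfsgLib.SL2Char.dsFun D θ 1 = CfsgLib.SL2Char.dsFun D θ (-1)
          rw [CfsgLib.SL2Char.dsFun_one, CfsgLib.SL2Char.dsFun_neg_one, mul_comm, CfsgLib.SL2Char.zsign_def]
        rw [hzs]
        exact hs g
    · intro g h01 h10 ha
      obtain ⟨a, ha', rfl⟩ := CfsgLib.SL2Char.exists_slDiag h01 h10
      rw [← ha'] at ha
      have hy := CfsgLib.SL2Char.bEl_hyp (0 : F) ha
      rw [← CfsgLib.SL2Char.slDiag_eq_bEl] at hy
      exact CfsgLib.SL2Char.ds_hyp D (CfsgLib.SL2Char.dsFun_spec D θ) hy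
    · intro g h10 h00 h11 h01
      show CfsgLib.SL2Char.dsFun D θ g = -1
      rw [CfsgLib.SL2Char.eq_bEl_one h10 h00 h11, CfsgLib.SL2Char.dsFun_uni D θ (Or.inl rfl) h01]
      simp
  · rcases T.deg_pred_cases ⟨χ, hχ⟩ hd with ⟨θ, hθ, e⟩ | ⟨h3, e⟩
    · refine ⟨θ, (hne θ).2 hθ, fun x hx => ?_⟩
      rw [show χ = CfsgLib.SL2Char.dsFun D θ from e]
      exact htor θ x hx
    · obtain ⟨⟨ψ, θ, hθ, -⟩⟩ : Nonempty {ψ : Cfsg.IrrCharacter G //
          ∃ θ : Subgroup.zpowers c →* ℂˣ, θ ^ 2 ≠ 1 ∧ (ψ : G → ℂ) = CfsgLib.SL2Char.dsFun D θ} := by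
        have := T.card_ds
        exact Nat.card_pos_iff.1 (Nat.pos_of_ne_zero fun h0 => by rw [h0] at this; omega) |>.1
      refine ⟨θ, (hne θ).2 hθ, fun x hx => ?_⟩
      have hx' := hx
      rw [CfsgLib.SL2Char.mem_center_iff, not_or] at hx'
      have hg := CfsgLib.SL2Char.noRoot_of_mem_torus D.torus D.noRoot x.2 hx'.1 hx'.2
      have hz : χ x = 0 := T.eta_noRoot (η := ⟨χ, hχ⟩) e hg
      rw [hz, ← htor θ x hx, T.dsFun_noRoot_three h3 hθ hg]

end Cfsg.Agent.S2434
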