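import Cfsg.Statements.S2435
import Cfsg.Agent.Lib.SL2Char.Values

set_option autoImplicit false
open Cfsg

namespace Cfsg.Agent.S2435

/-- Let F be a finite field with q elements, q odd and q ≥ 5, and χ an irreducible complex character of SL₂ over F. If χ has degree (q + 1)/2, then at a diagonal element with entry a, a² ≠ 1, χ takes the value 1 when a is a square in F and −1 otherwise. If χ has degree (q − 1)/2, then at an element g with no eigenvector in F² (so g has order dividing q + 1), χ takes the value −1 when g raised to the power (q + 1)/2 is the identity and the value 1 otherwise. -/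
theorem result {F : Type*} [Field F] [Fintype F] (hodd : Odd (Fintype.card F)) (hq : 5 ≤ Fintype.card F)
    (χ : Matrix.SpecialLinearGroup (Fin 2) F → ℂ) (hχ : Cfsg.IsIrrCharacter (Matrix.SpecialLinearGroup (Fin 2) F) χ) (g : Matrix.SpecialLinearGroup (Fin 2) F) :
    (χ 1 = (((Fintype.card F + 1) / 2 : ℕ) : ℂ) → (g : Matrix (Fin 2) (Fin 2) F) 0 1 = 0 → (g : Matrix (Fin 2) (Fin 2) F) 1 0 = 0 → (g : Matrix (Fin 2) (Fin 2) F) 0 0 ^ 2 ≠ 1 →
      (IsSquare ((g : Matrix (Fin 2) (Fin 2) F) 0 0) → χ g = 1) ∧ (¬ IsSquare ((g : Matrix (Fin 2) (Fin 2) F) 0 0) → χ g = -1)) ∧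
    (χ 1 = (((Fintype.card F - 1) / 2 : ℕ) : ℂ) → (∀ (c : F) (v : Fin 2 → F), v ≠ 0 → (g : Matrix (Fin 2) (Fin 2) F).mulVec v ≠ c • v) →
      (((g ^ ((Fintype.card F + 1) / 2)) : Matrix (Fin 2) (Fin 2) F) = 1 → χ g = -1) ∧ (((g ^ ((Fintype.card F + 1) / 2)) : Matrix (Fin 2) (Fin 2) F) ≠ 1 → χ g = 1)) := by
  classical
  obtain ⟨c, h, D⟩ := CfsgLib.SL2Char.exists_dsData hodd
  obtain ⟨α₀, θ₀, η₁, η₂, χ₁, χ₂, T⟩ := CfsgLib.SL2Char.exists_table D
  refine ⟨fun hd h01 h10 ha => ?_, fun hd hne => ?_⟩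
  · obtain ⟨a, ha', rfl⟩ := CfsgLib.SL2Char.exists_slDiag h01 h10
    rw [← ha'] at ha ⊢
    have hv : χ (CfsgLib.Schur.slDiag a) = α₀ (a : F) := T.eta_hyp ((T.deg_half_succ_iff hq ⟨χ, hχ⟩).1 hd) ha
    rw [hv]
    exact ⟨T.alpha0_of_isSquare a.ne_zero, T.alpha0_of_not_isSquare⟩
  · have hg := CfsgLib.SL2Tori.noRoot_of_noEig (CfsgLib.SL2Tori.two_ne_of_odd hodd) hne
    have hv : χ g = if g ^ h = 1 then -1 else 1 := T.chi_noRoot ((T.deg_half_pred_iff hq ⟨χ, hχ⟩).1 hd) hg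
    have hh : (Fintype.card F + 1) / 2 = h := by have := D.card_eq; omega
    rw [hv, hh, ← Matrix.SpecialLinearGroup.coe_pow]
    exact ⟨fun e => if_pos (Subtype.ext e), fun e => if_neg (fun e' => e (by rw [e']; simp))⟩

end Cfsg.Agent.S2435
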