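import Cfsg.Statements.S2436
import Cfsg.Agent.Lib.SL2Char.McKayLocal

set_option autoImplicit false
open Cfsg

namespace Cfsg.Agent.S2436

/-- Let F be a finite field with q elements, q odd, ℓ any prime and S a Sylow ℓ-subgroup of SL₂ over F with normaliser N. Then SL₂ and N have the same number of irreducible complex characters of degree not divisible by ℓ (the McKay equality holds for SL₂ over F at every prime). -/
theorem result {F : Type*} [Field F] [Fintype F] (hodd : Odd (Fintype.card F)) (ℓ : ℕ) [Fact ℓ.Prime] (S : Sylow ℓ (Matrix.SpecialLinearGroup (Fin 2) F)) :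
    Nat.card {χ : Cfsg.IrrCharacter (Matrix.SpecialLinearGroup (Fin 2) F) // ¬ ℓ ∣ Cfsg.charDegree (χ : Matrix.SpecialLinearGroup (Fin 2) F → ℂ)} =
      Nat.card {ψ : Cfsg.IrrCharacter (Subgroup.normalizer ((S : Subgroup (Matrix.SpecialLinearGroup (Fin 2) F)) : Set (Matrix.SpecialLinearGroup (Fin 2) F))) //
        ¬ ℓ ∣ Cfsg.charDegree (ψ : Subgroup.normalizer ((S : Subgroup (Matrix.SpecialLinearGroup (Fin 2) F)) : Set (Matrix.SpecialLinearGroup (Fin 2) F)) → ℂ)} := by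
  classical
  obtain ⟨c, h, D⟩ := CfsgLib.SL2Char.exists_dsData hodd
  obtain ⟨α₀, θ₀, η₁, η₂, χ₁, χ₂, T⟩ := CfsgLib.SL2Char.exists_table D
  let G := Matrix.SpecialLinearGroup (Fin 2) F
  show _ = CfsgLib.SL2Char.mckayCount ℓ (Subgroup.normalizer ((S : Subgroup G) : Set G))
  have hlhs := T.card_filter_degree (fun n => ¬ ℓ ∣ n)
  rw [hlhs]
  have hh := D.card_eq
  have hq3 := T.three_le
  have hl : ℓ.Prime := Fact.out
  obtain ⟨p, hp⟩ := CharP.exists F
  obtain ⟨n, hn⟩ := FiniteField.card F p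
  have : Fact p.Prime := ⟨hn.1⟩
  set q := Fintype.card F with hq
  by_cases hlp : ℓ = p
  · -- the defining characteristic
    subst hlp
    rw [CfsgLib.SL2Char.mckayCount_char ℓ hodd S]
    have hlq : ℓ ∣ q := hn.2 ▸ dvd_pow_self ℓ n.ne_zero
    have h1 : ¬ ℓ ∣ 1 := hl.not_dvd_one
    have a1 : ¬ ℓ ∣ q + 1 := fun hd => h1 ((Nat.dvd_add_right hlq).1 hd)
    have a2 : ¬ ℓ ∣ q - 1 := fun hd => h1 ((Nat.dvd_add_right hd).1 (by rwa [Nat.sub_add_cancel (by omega)]))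
    have a3 : ¬ ℓ ∣ (q + 1) / 2 := fun hd => a1 (hd.trans ⟨2, by omega⟩)
    have a4 : ¬ ℓ ∣ (q - 1) / 2 := fun hd => a2 (hd.trans ⟨2, by omega⟩)
    rw [if_pos h1, if_neg (not_not.2 hlq), if_pos a1, if_pos a2, if_pos a3, if_pos a4]
    omega
  have hlq : ¬ ℓ ∣ q := fun hd => hlp ((Nat.prime_dvd_prime_iff_eq hl hn.1).1 (hl.dvd_of_dvd_pow (hn.2 ▸ hd)))
  by_cases hl2 : ℓ = 2
  · subst hl2
    rw [CfsgLib.SL2Char.mckayCount_two hodd S]
    rw [Nat.odd_iff] at hodd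
    split_ifs <;> omega
  have hl3 : 3 ≤ ℓ := by have := hl.two_le; omega
  have hcard := CfsgLib.Schur.natCard_slTwo (F := F)
  rw [← hq] at hcard
  have hnot2 : ¬ ℓ ∣ 2 := fun hd => by have := Nat.le_of_dvd two_pos hd; omega
  by_cases hlm : ℓ ∣ q - 1
  · have hlp1 : ¬ ℓ ∣ q + 1 := fun hd => hnot2 (by
      have := Nat.dvd_sub hd hlm; rwa [show q + 1 - (q - 1) = 2 by omega] at this)
    have hq5 : 5 ≤ q := by have := Nat.le_of_dvd (by omega) hlm; omega
    obtain ⟨c', h', hh', T', -⟩ := CfsgLib.SL2Tori.exists_split (F := F) hodd hq5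
    rw [← hq] at hh'
    rw [CfsgLib.SL2Char.mckayCount_odd_sylow T' hl2 (m := q * (q + 1)) (hh' ▸ hlm)
      (by rw [hcard, ← hh']; ring) (fun hd => (hl.dvd_mul.1 hd).elim hlq hlp1) S]
    have a3 : ¬ ℓ ∣ (q + 1) / 2 := fun hd => hlp1 (hd.trans ⟨2, by omega⟩)
    have a4 : ℓ ∣ (q - 1) / 2 := (Nat.Coprime.dvd_of_dvd_mul_right
      ((Nat.coprime_primes hl Nat.prime_two).2 hl2) (show ℓ ∣ (q - 1) / 2 * 2 by
        rwa [show (q - 1) / 2 * 2 = q - 1 by omega]))
    rw [if_pos hl.not_dvd_one, if_pos hlq, if_pos hlp1, if_neg (not_not.2 hlm), if_pos a3, if_neg (not_not.2 a4)]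
    omega
  by_cases hlp1 : ℓ ∣ q + 1
  · rw [CfsgLib.SL2Char.mckayCount_odd_sylow D.torus hl2 (m := q * (q - 1)) (hh ▸ hlp1)
      (by rw [hcard, ← hh]; ring) (fun hd => (hl.dvd_mul.1 hd).elim hlq hlm) S]
    have a4 : ¬ ℓ ∣ (q - 1) / 2 := fun hd => hlm (hd.trans ⟨2, by omega⟩)
    have a3 : ℓ ∣ (q + 1) / 2 := (Nat.Coprime.dvd_of_dvd_mul_right
      ((Nat.coprime_primes hl Nat.prime_two).2 hl2) (show ℓ ∣ (q + 1) / 2 * 2 by
        rwa [show (q + 1) / 2 * 2 = q + 1 by omega]))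
    rw [if_pos hl.not_dvd_one, if_pos hlq, if_neg (not_not.2 hlp1), if_pos hlm, if_neg (not_not.2 a3), if_pos a4]
    omega
  · -- the prime does not divide the order
    have hnd : ¬ ℓ ∣ Nat.card G := by
      rw [hcard]
      intro hd
      rcases hl.dvd_mul.1 hd with h1 | h1
      · exact hlq h1
      · exact (hl.dvd_mul.1 h1).elim hlm hlp1
    have hS : (S : Subgroup G) = ⊥ := by
      rw [← Subgroup.card_eq_one, S.card_eq_multiplicity, Nat.factorization_eq_zero_of_not_dvd hnd, pow_zero]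
    have e : Subgroup.normalizer ((S : Subgroup G) : Set G) = ⊤ := by
      rw [hS]
      exact eq_top_iff.2 fun g _ => CfsgLib.SL2Tori.mem_normalizer_of_conj_mem fun x hx => by
        rw [Subgroup.mem_bot.1 hx]; simp
    rw [← hlhs, e, CfsgLib.SL2Char.mckayCount_congr ℓ Subgroup.topEquiv]
    rfl

end Cfsg.Agent.S2436
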