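import Cfsg.Statements.S2438
import Cfsg.Agent.Lib.SL2Char.Values

set_option autoImplicit false
open Cfsg

namespace Cfsg.Agent.S2438

/-- Let F be a finite field with q elements, q odd, q ≥ 5, U the upper unitriangular subgroup of SL₂ over F, and χ an irreducible complex character. The sum of the values of χ over U equals 2q, q, 0, q, 0 according as the degree of χ is q + 1, q, q − 1, (q + 1)/2, (q − 1)/2; so among these five degrees the sum vanishes exactly for the degrees q − 1 and (q − 1)/2, i.e. the irreducible characters of those two degrees are the ones whose restriction to U does not contain the trivial character (the cuspidal characters), while those of degree q + 1, q and (q + 1)/2 are not cuspidal. -/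
theorem result {F : Type*} [Field F] [Fintype F] [DecidableEq F] (hodd : Odd (Fintype.card F)) (hq : 5 ≤ Fintype.card F)
    (χ : Matrix.SpecialLinearGroup (Fin 2) F → ℂ) (hχ : Cfsg.IsIrrCharacter (Matrix.SpecialLinearGroup (Fin 2) F) χ) :
    (χ 1 = (Fintype.card F : ℂ) + 1 →
      (∑ g : Matrix.SpecialLinearGroup (Fin 2) F, if (g : Matrix (Fin 2) (Fin 2) F) 1 0 = 0 ∧ (g : Matrix (Fin 2) (Fin 2) F) 0 0 = 1 ∧ (g : Matrix (Fin 2) (Fin 2) F) 1 1 = 1 then χ g else 0) = 2 * (Fintype.card F : ℂ)) ∧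
    (χ 1 = (Fintype.card F : ℂ) →
      (∑ g : Matrix.SpecialLinearGroup (Fin 2) F, if (g : Matrix (Fin 2) (Fin 2) F) 1 0 = 0 ∧ (g : Matrix (Fin 2) (Fin 2) F) 0 0 = 1 ∧ (g : Matrix (Fin 2) (Fin 2) F) 1 1 = 1 then χ g else 0) = (Fintype.card F : ℂ)) ∧
    (χ 1 = (Fintype.card F : ℂ) - 1 →
      (∑ g : Matrix.SpecialLinearGroup (Fin 2) F, if (g : Matrix (Fin 2) (Fin 2) F) 1 0 = 0 ∧ (g : Matrix (Fin 2) (Fin 2) F) 0 0 = 1 ∧ (g : Matrix (Fin 2) (Fin 2) F) 1 1 = 1 then χ g else 0) = 0) ∧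
    (χ 1 = (((Fintype.card F + 1) / 2 : ℕ) : ℂ) →
      (∑ g : Matrix.SpecialLinearGroup (Fin 2) F, if (g : Matrix (Fin 2) (Fin 2) F) 1 0 = 0 ∧ (g : Matrix (Fin 2) (Fin 2) F) 0 0 = 1 ∧ (g : Matrix (Fin 2) (Fin 2) F) 1 1 = 1 then χ g else 0) = (Fintype.card F : ℂ)) ∧
    (χ 1 = (((Fintype.card F - 1) / 2 : ℕ) : ℂ) →
      (∑ g : Matrix.SpecialLinearGroup (Fin 2) F, if (g : Matrix (Fin 2) (Fin 2) F) 1 0 = 0 ∧ (g : Matrix (Fin 2) (Fin 2) F) 0 0 = 1 ∧ (g : Matrix (Fin 2) (Fin 2) F) 1 1 = 1 then χ g else 0) = 0) := by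
  classical
  obtain ⟨c, h, D⟩ := CfsgLib.SL2Char.exists_dsData hodd
  obtain ⟨α₀, θ₀, η₁, η₂, χ₁, χ₂, T⟩ := CfsgLib.SL2Char.exists_table D
  obtain ⟨ψ, rfl⟩ : ∃ ψ : Cfsg.IrrCharacter (Matrix.SpecialLinearGroup (Fin 2) F),
    (ψ : Matrix.SpecialLinearGroup (Fin 2) F → ℂ) = χ := ⟨⟨χ, hχ⟩, rfl⟩
  rw [CfsgLib.SL2Char.sum_unipotent]
  obtain ⟨e, he⟩ := CfsgLib.SL2Char.exists_nonsquare_unit hodd
  have hsw := T.swapped he
  have hdd := D.card_eq
  refine ⟨fun hd => ?_, fun hd => ?_, fun hd => ?_, fun hd => ?_, fun hd => ?_⟩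
  · obtain ⟨α, -, e'⟩ := (T.deg_succ_iff ψ).1 hd
    rw [e', CfsgLib.SL2Char.sum_uni_const (v := 1) (fun b hb => by
      rw [CfsgLib.SL2Char.ps_bEl_uni α (Or.inl rfl) hb]; simp), CfsgLib.SL2Char.ps_one]
    ring
  · rw [(T.deg_q_iff ψ).1 hd, CfsgLib.SL2Char.sum_uni_const (v := 0)
      (fun b hb => CfsgLib.SL2Char.steinberg_uni hb), CfsgLib.SL2Char.steinberg_one]
    ring
  · obtain ⟨θ, -, e'⟩ := (T.deg_pred_iff hq ψ).1 hd
    rw [e', CfsgLib.SL2Char.sum_uni_const (v := -1) (fun b hb => by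
      rw [CfsgLib.SL2Char.dsFun_uni D θ (Or.inl rfl) hb]; simp), CfsgLib.SL2Char.dsFun_one]
    ring
  · have hs := T.eta_uni_sum (b := (1 : F)) one_ne_zero
    have h2 : 2 * (((Fintype.card F + 1) / 2 : ℕ) : ℂ) = (Fintype.card F : ℂ) + 1 := by
      exact_mod_cast (show 2 * ((Fintype.card F + 1) / 2) = Fintype.card F + 1 by omega)
    rcases (T.deg_half_succ_iff hq ψ).1 hd with rfl | rfl
    · have := T.half_uni_sum he hsw.1
      rw [hs, hd] at this
      linear_combination this / 2 + h2 / 2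
    · have := T.half_uni_sum he (⟨hsw.1.ne.symm, hsw.1.map_right, hsw.1.map_left⟩ : CfsgLib.SL2Char.Swapped e ψ η₁)
      rw [add_comm (ψ.1 _), hs, hd] at this
      linear_combination this / 2 + h2 / 2
  · have hs := T.chi_uni_sum (b := (1 : F)) one_ne_zero
    have h2 : 2 * (((Fintype.card F - 1) / 2 : ℕ) : ℂ) + 1 = (Fintype.card F : ℂ) := by
      exact_mod_cast (show 2 * ((Fintype.card F - 1) / 2) + 1 = Fintype.card F by omega)
    rcases (T.deg_half_pred_iff hq ψ).1 hd with rfl | rfl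
    · have := T.half_uni_sum he hsw.2
      rw [hs, hd] at this
      linear_combination this / 2 + h2 / 2
    · have := T.half_uni_sum he (⟨hsw.2.ne.symm, hsw.2.map_right, hsw.2.map_left⟩ : CfsgLib.SL2Char.Swapped e ψ χ₁)
      rw [add_comm (ψ.1 _), hs, hd] at this
      linear_combination this / 2 + h2 / 2

end Cfsg.Agent.S2438
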