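import Cfsg.Statements.S2439
import Cfsg.Agent.Lib.SL2Char.Blocks

set_option autoImplicit false
open Cfsg

namespace Cfsg.Agent.S2439

/-- Let F be a finite field with q elements of odd characteristic p, and M a maximal ideal of the algebraic integers containing p. Then SL₂ over F has exactly three p-blocks relative to M: the irreducible character of degree q (the Steinberg character) alone; the other irreducible characters taking the same value at −1 as at 1 (the principal block); and the irreducible characters χ with χ(−1) = −χ(1). Every Sylow p-subgroup is a defect group of each of the last two blocks. -/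
theorem result {F : Type*} [Field F] [Fintype F] (p : ℕ) [Fact p.Prime] [CharP F p] (hp : p ≠ 2)
    (M : Ideal Cfsg.AlgInt) (hM : Cfsg.IsPModular p M) :
    (∀ B : Set (Cfsg.IrrCharacter (Matrix.SpecialLinearGroup (Fin 2) F)), Cfsg.IsPBlock M B ↔
      (B = {χ : Cfsg.IrrCharacter (Matrix.SpecialLinearGroup (Fin 2) F) | (χ : Matrix.SpecialLinearGroup (Fin 2) F → ℂ) 1 = (Fintype.card F : ℂ)} ∨
       B = {χ : Cfsg.IrrCharacter (Matrix.SpecialLinearGroup (Fin 2) F) | (χ : Matrix.SpecialLinearGroup (Fin 2) F → ℂ) (-1) = (χ : Matrix.SpecialLinearGroup (Fin 2) F → ℂ) 1 ∧ (χ : Matrix.SpecialLinearGroup (Fin 2) F → ℂ) 1 ≠ (Fintype.card F : ℂ)} ∨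
       B = {χ : Cfsg.IrrCharacter (Matrix.SpecialLinearGroup (Fin 2) F) | (χ : Matrix.SpecialLinearGroup (Fin 2) F → ℂ) (-1) = -(χ : Matrix.SpecialLinearGroup (Fin 2) F → ℂ) 1})) ∧
    Nat.card {B : Set (Cfsg.IrrCharacter (Matrix.SpecialLinearGroup (Fin 2) F)) // Cfsg.IsPBlock M B} = 3 ∧
    ∀ P : Sylow p (Matrix.SpecialLinearGroup (Fin 2) F),
      Cfsg.IsDefectGroup p M {χ : Cfsg.IrrCharacter (Matrix.SpecialLinearGroup (Fin 2) F) | (χ : Matrix.SpecialLinearGroup (Fin 2) F → ℂ) (-1) = (χ : Matrix.SpecialLinearGroup (Fin 2) F → ℂ) 1 ∧ (χ : Matrix.SpecialLinearGroup (Fin 2) F → ℂ) 1 ≠ (Fintype.card F : ℂ)} (P : Subgroup (Matrix.SpecialLinearGroup (Fin 2) F)) ∧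
      Cfsg.IsDefectGroup p M {χ : Cfsg.IrrCharacter (Matrix.SpecialLinearGroup (Fin 2) F) | (χ : Matrix.SpecialLinearGroup (Fin 2) F → ℂ) (-1) = -(χ : Matrix.SpecialLinearGroup (Fin 2) F → ℂ) 1} (P : Subgroup (Matrix.SpecialLinearGroup (Fin 2) F)) := by
  classical
  obtain ⟨c, h, D⟩ := CfsgLib.SL2Char.exists_dsData (CfsgLib.SL2Char.odd_card_of_char (F := F) hp)
  obtain ⟨α₀, θ₀, η₁, η₂, χ₁, χ₂, T⟩ := CfsgLib.SL2Char.exists_table D
  let G := Matrix.SpecialLinearGroup (Fin 2) F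
  set B1 : Set (Cfsg.IrrCharacter G) := {χ | (χ : G → ℂ) 1 = (Fintype.card F : ℂ)} with hB1
  set B2 : Set (Cfsg.IrrCharacter G) :=
    {χ | (χ : G → ℂ) (-1) = (χ : G → ℂ) 1 ∧ (χ : G → ℂ) 1 ≠ (Fintype.card F : ℂ)} with hB2
  set B3 : Set (Cfsg.IrrCharacter G) := {χ | (χ : G → ℂ) (-1) = -(χ : G → ℂ) 1} with hB3
  let st : Cfsg.IrrCharacter G := ⟨_, CfsgLib.SL2Char.isIrrCharacter_steinberg⟩
  let one : Cfsg.IrrCharacter G := ⟨fun _ => 1, CfsgLib.Characters.isIrrCharacter_one⟩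
  obtain ⟨f, hf⟩ := CfsgLib.SL2Char.exists_faithful_sign (F := F)
    (CfsgLib.SL2Tori.two_ne_of_odd (CfsgLib.SL2Char.odd_card_of_char (F := F) hp))
  have hst : st ∈ B1 := CfsgLib.SL2Char.steinberg_one
  have hone : one ∈ B2 := ⟨rfl, fun e => by
    have h1 : (1 : ℕ) = Fintype.card F := by exact_mod_cast (show (1 : ℂ) = _ from e)
    have := Fintype.one_lt_card (α := F)
    omega⟩
  have iff : ∀ B, Cfsg.IsPBlock M B ↔ (B = B1 ∨ B = B2 ∨ B = B3) := by
    intro B
    constructor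
    · rintro ⟨χ, rfl⟩
      by_cases h1 : (χ : G → ℂ) 1 = (Fintype.card F : ℂ)
      · exact Or.inl ((T.blockOf_eq hp hM χ).1 h1)
      rcases CfsgLib.SL2Char.sign_cases χ with hs | hs
      · exact Or.inr (Or.inl ((T.blockOf_eq hp hM χ).2.1 ⟨hs.1, h1⟩))
      · exact Or.inr (Or.inr ((T.blockOf_eq hp hM χ).2.2 hs.1))
    · rintro (rfl | rfl | rfl)
      · exact ⟨st, ((T.blockOf_eq hp hM st).1 hst).symm⟩
      · exact ⟨one, ((T.blockOf_eq hp hM one).2.1 hone).symm⟩
      · exact ⟨f, ((T.blockOf_eq hp hM f).2.2 hf).symm⟩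
  have hfne : (f : G → ℂ) 1 ≠ (Fintype.card F : ℂ) := fun h1 =>
    CfsgLib.SL2Char.sign_exclusive f (by rw [h1, (T.deg_q_iff f).1 h1, CfsgLib.SL2Char.steinberg_neg_one]) hf
  refine ⟨iff, ?_, ?_⟩
  · have n12 : B1 ≠ B2 := fun e => ((e ▸ hst : st ∈ B2)).2 hst
    have n13 : B1 ≠ B3 := fun e => hfne (e.symm ▸ (show f ∈ B3 from hf) : f ∈ B1)
    have n23 : B2 ≠ B3 := fun e => CfsgLib.SL2Char.sign_exclusive one rfl (e ▸ hone : one ∈ B3)
    refine (Nat.card_congr (Equiv.subtypeEquivRight (p := fun B => Cfsg.IsPBlock M B)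
      (q := fun B => B ∈ ({B1, B2, B3} : Set (Set (Cfsg.IrrCharacter G)))) fun B => by simp [iff])).trans
      ((Nat.card_coe_set_eq _).trans ?_)
    exact Set.ncard_eq_three.2 ⟨B1, B2, B3, n12, n13, n23, rfl⟩
  · intro P
    suffices key : ∀ B, Cfsg.IsPBlock M B → ∀ k ∈ B, ¬ p ∣ Cfsg.charDegree (k : G → ℂ) →
        Cfsg.IsDefectGroup p M B (P : Subgroup G) from
      ⟨key B2 ((iff _).2 (Or.inr (Or.inl rfl))) one hone (T.not_dvd_degree hp hone.2),
        key B3 ((iff _).2 (Or.inr (Or.inr rfl))) f hf (T.not_dvd_degree hp hfne)⟩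
    intro B hB k hk hd
    obtain ⟨g, hg⟩ := CfsgLib.Blocks.exists_isDefectClass hM hB
    obtain ⟨S⟩ : Nonempty (Sylow p (Subgroup.centralizer ({g} : Set G))) := inferInstance
    let D' : Subgroup G := (S : Subgroup (Subgroup.centralizer ({g} : Set G))).map
      (Subgroup.centralizer ({g} : Set G)).subtype
    have hD : Cfsg.IsDefectGroup p M B D' := ⟨g, hg, S, rfl⟩
    have hcard := CfsgLib.BlockCover.natCard_defect hM hB hD
    have h0 : (Cfsg.charDegree (k : G → ℂ)).factorization p = 0 := Nat.factorization_eq_zero_of_not_dvd hd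
    rw [CfsgLib.BlockCover.blockDefect_eq (p := p) hk (fun ψ _ => by rw [h0]; exact Nat.zero_le _), h0,
      Nat.sub_zero] at hcard
    obtain ⟨t, ht⟩ := MulAction.exists_smul_eq G (Sylow.ofCard D' hcard) P
    have hPt : (P : Subgroup G) = D'.map (MulAut.conj t).toMonoidHom := by
      rw [← ht]; rfl
    rw [hPt]
    exact CfsgLib.BlockCover.isDefectGroup_conj hM hB hD t

end Cfsg.Agent.S2439
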