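import Cfsg.Statements.S4538
import Cfsg.Agent.Lib.Blk4.SLFullDefect
import Cfsg.Agent.Lib.Blk4.SLDefectZero
import Cfsg.Agent.Lib.Blk4.SLSteinberg

set_option autoImplicit false
open Cfsg

namespace Cfsg.Agent.S4538

/-- Let F be a finite field of characteristic p and n ≥ 2. Relative to a maximal ideal M of the algebraic integers containing p, the group SL(n, F) has exactly one p-block of defect zero, and every other p-block has full defect (its defect equals the exponent of p in the order of the group, so its defect groups are Sylow p-subgroups). -/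
theorem result {F : Type*} [Field F] [Fintype F] (n : ℕ) (hn : 2 ≤ n) (p : ℕ) [Fact p.Prime] [CharP F p] (M : Ideal Cfsg.AlgInt) (hM : Cfsg.IsPModular p M) : Nat.card {B : Set (Cfsg.IrrCharacter (Matrix.SpecialLinearGroup (Fin n) F)) // Cfsg.IsPBlock M B ∧ Cfsg.blockDefect p B = 0} = 1 ∧ ∀ B : Set (Cfsg.IrrCharacter (Matrix.SpecialLinearGroup (Fin n) F)), Cfsg.IsPBlock M B → Cfsg.blockDefect p B = 0 ∨ Cfsg.blockDefect p B = (Nat.card (Matrix.SpecialLinearGroup (Fin n) F)).factorization p := by
  classical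
  letI := Fintype.ofFinite (Matrix.SpecialLinearGroup (Fin n) F)
  haveI := hM.2.1
  have hp : p.Prime := Fact.out
  refine ⟨le_antisymm ?_ ?_, fun B hB => CfsgLib.Blk4.SLBlocks.defect_zero_or_full p hM hB⟩
  · refine le_of_eq_of_le (Nat.card_congr (Equiv.subtypeEquivRight fun B => ?_))
      (CfsgLib.Blk4.SLBlocks.natCard_trivial_defect_le_one (F := F) (n := n) p hM)
    refine and_congr_right fun hB => ?_
    constructor
    · intro h
      obtain ⟨D, hD⟩ := CfsgLib.BrauerPairs.exists_defectGroup hM hB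
      have h1 := CfsgLib.BlockCover.natCard_defect hM hB hD
      rw [h, pow_zero] at h1
      rwa [Subgroup.card_eq_one.1 h1] at hD
    · intro hD
      have h1 := CfsgLib.BlockCover.natCard_defect hM hB hD
      rw [Subgroup.card_bot] at h1
      exact (Nat.pow_eq_one.1 h1.symm).resolve_left hp.ne_one
  · obtain ⟨ψ, hψ⟩ := CfsgLib.Blk4.SLBlocks.exists_full_degree (F := F) (n := n) p
    have hd := CfsgLib.CharCorr.charDegree_irr_dvd_card ψ
    have hd0 := CfsgLib.CharCorr.charDegree_irr_pos ψ
    have hnd : ¬ p ∣ Nat.card (Matrix.SpecialLinearGroup (Fin n) F) /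
        Cfsg.charDegree (ψ : Matrix.SpecialLinearGroup (Fin n) F → ℂ) := by
      intro h
      have h1 := hp.factorization_pos_of_dvd (Nat.div_pos (Nat.le_of_dvd Nat.card_pos hd) hd0).ne' h
      rw [Nat.factorization_div hd, Finsupp.tsub_apply, hψ, Nat.sub_self] at h1
      exact lt_irrefl 0 h1
    have hsing := (Cfsg.Agent.S0914.result p M hM ψ).1 hnd
    refine Nat.one_le_iff_ne_zero.2 (Nat.card_ne_zero.2 ⟨⟨⟨{ψ}, ⟨ψ, hsing.symm⟩, ?_⟩⟩, inferInstance⟩)
    rw [Cfsg.blockDefect, Set.image_singleton, csInf_singleton, hψ, Nat.sub_self]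

end Cfsg.Agent.S4538
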