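import Cfsg.Statements.S2440
import Cfsg.Agent.S0953
import Cfsg.Agent.S4538

set_option autoImplicit false
set_option linter.style.haveILetI false
open Cfsg
open scoped Matrix

namespace Cfsg.Agent.S2440

/-- For a prime p and n ≥ 2, the group SL_n over the field with p elements has exactly gcd(n, p − 1) + 1 p-blocks relative to any maximal ideal of the algebraic integers containing p, that is, one more than the order of its centre (only this total is asserted; it arises as the defect-zero block of the Steinberg character plus as many blocks of maximal defect as the order of the centre). -/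
theorem result (p : ℕ) [Fact p.Prime] (n : ℕ) (hn : 2 ≤ n) (M : Ideal Cfsg.AlgInt) (hM : Cfsg.IsPModular p M) :
    Nat.card {B : Set (Cfsg.IrrCharacter (Matrix.SpecialLinearGroup (Fin n) (ZMod p))) // Cfsg.IsPBlock M B} =
      Nat.gcd n (p - 1) + 1 := by
  classical
  have hp : p.Prime := Fact.out
  haveI := hM.2.1
  let G := Matrix.SpecialLinearGroup (Fin n) (ZMod p)
  letI : Fintype G := Fintype.ofFinite G
  obtain ⟨h0, hfull⟩ := Cfsg.Agent.S4538.result (F := ZMod p) n hn p M hM
  -- a flag with one proper member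
  let L : Submodule (ZMod p) (Fin n → ZMod p) := Submodule.span (ZMod p) {Pi.single (⟨0, by omega⟩ : Fin n) 1}
  have hL0 : ⊥ < L := bot_lt_iff_ne_bot.2 fun h => by
    rw [Submodule.span_singleton_eq_bot] at h
    simpa using congrFun h ⟨0, by omega⟩
  have hL1 : L < ⊤ := lt_top_iff_ne_top.2 fun h => by
    have h1 : Module.finrank (ZMod p) L = 1 := finrank_span_singleton (fun h => by
      simpa using congrFun h ⟨0, by omega⟩)
    rw [h, finrank_top, Module.finrank_fin_fun] at h1
    omega
  let V : Fin 3 → Submodule (ZMod p) (Fin n → ZMod p) := ![⊥, L, ⊤]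
  have hV : StrictMono V := Fin.strictMono_iff_lt_succ.2 fun i => by fin_cases i <;> simp [V, hL0, hL1]
  obtain ⟨P, hP⟩ := (CfsgLib.Blk4.SLBlocks.isPGroup_flagUnip (n := n) (F := ZMod p) (k := 1) p V hV.monotone rfl rfl).exists_le_sylow
  have hcP := Cfsg.Agent.S0953.result p M hM P
  -- full defect
  have hpos : 0 < (Nat.card G).factorization p := by
    refine hp.factorization_pos_of_dvd Nat.card_pos.ne' ?_
    have hne : (P : Subgroup G) ≠ ⊥ := fun hb => by
      let u : G := ⟨1 + Matrix.vecMulVec (Pi.single ⟨0, by omega⟩ 1) (Pi.single ⟨1, by omega⟩ 1),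
        CfsgLib.Blk4.SLBlocks.det_one_add_vecMulVec (by simp [Pi.single_apply, Fin.ext_iff])⟩
      have hu : u ∈ CfsgLib.Blk4.SLBlocks.flagUnip (k := 1) V hV.monotone := by
        intro i w hw
        show (1 + Matrix.vecMulVec _ _) *ᵥ w - w ∈ _
        rw [Matrix.add_mulVec, Matrix.one_mulVec, add_sub_cancel_left, Matrix.vecMulVec_mulVec,
          op_smul_eq_smul]
        fin_cases i
        · obtain ⟨a, rfl⟩ := Submodule.mem_span_singleton.1 (show w ∈ L from hw)
          simp
        · exact Submodule.smul_mem _ _ (Submodule.mem_span_singleton_self _)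
      have h1 := hP hu
      rw [hb, Subgroup.mem_bot] at h1
      have h2 := congrArg (fun g : G => (g : Matrix (Fin n) (Fin n) (ZMod p)) ⟨0, by omega⟩ ⟨1, by omega⟩) h1
      simp [u, Matrix.vecMulVec_apply, Fin.ext_iff] at h2
    have h1 : p ∣ Nat.card (P : Subgroup G) := by
      obtain ⟨k, hk⟩ := IsPGroup.iff_card.1 P.2
      rcases Nat.eq_zero_or_pos k with rfl | hk0
      · exact absurd (Subgroup.card_eq_one.1 (hk.trans (pow_zero p))) hne
      · exact hk ▸ dvd_pow_self p hk0.ne'
    exact h1.trans (Subgroup.card_subgroup_dvd_card _)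
  have hiff : ∀ B : Set (Cfsg.IrrCharacter G), Cfsg.IsPBlock M B →
      (Cfsg.IsDefectGroup p M B (P : Subgroup G) ↔ ¬ Cfsg.blockDefect p B = 0) := by
    intro B hB
    constructor
    · intro hD h
      have h1 := CfsgLib.BlockCover.natCard_defect hM hB hD
      rw [h, P.card_eq_multiplicity] at h1
      exact hpos.ne' (Nat.pow_right_injective hp.two_le h1)
    · intro h
      obtain ⟨D, hD⟩ := CfsgLib.BrauerPairs.exists_defectGroup hM hB
      have h1 := CfsgLib.BlockCover.natCard_defect hM hB hD
      rw [(hfull B hB).resolve_left h] at h1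
      obtain ⟨t, ht⟩ := MulAction.exists_smul_eq G (Sylow.ofCard D h1) P
      have h2 := congrArg (fun Q : Sylow p G => (Q : Subgroup G)) ht
      simp only [Sylow.coe_ofCard, Sylow.coe_subgroup_smul] at h2
      have h3 := CfsgLib.BlockCover.isDefectGroup_conj hM hB hD t
      rwa [← h2]
  -- the central classes
  have hmem : ∀ x : Subgroup.normalizer ((P : Subgroup G) : Set G), ¬ p ∣ orderOf x →
      (x : G) ∈ Subgroup.centralizer ((P : Subgroup G) : Set G) → (x : G) ∈ Subgroup.center G := by
    intro x hx hxc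
    refine CfsgLib.Blk4.SLBlocks.mem_center_of_centralizes (k := 1) p le_rfl V hV rfl
      (by rwa [Subgroup.orderOf_coe]) fun g hg => ?_
    exact (Subgroup.mem_centralizer_iff.1 hxc g (hP hg)).symm
  have hZle : Subgroup.center G ≤ Subgroup.normalizer ((P : Subgroup G) : Set G) :=
    (Subgroup.center_le_centralizer _).trans (Subgroup.centralizer_le_normalizer _)
  have hcard : Nat.card (Subgroup.center G) = Nat.gcd n (p - 1) := by
    rw [Nat.card_congr (Matrix.SpecialLinearGroup.center_equiv_rootsOfUnity (n := Fin n) (R := ZMod p)).toEquiv,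
      Fintype.card_fin, max_eq_left (by omega)]
    rw [Nat.gcd_comm, ← ZMod.card_units p, ← Nat.card_eq_fintype_card, ← IsCyclic.card_powMonoidHom_ker]
    rfl
  have hpZ : ∀ z ∈ Subgroup.center G, ¬ p ∣ orderOf z := fun z hz h => by
    have h1 : p ∣ Nat.gcd n (p - 1) := hcard ▸ h.trans (Subgroup.orderOf_dvd_natCard _ hz)
    have h2 := Nat.le_of_dvd (by have := hp.two_le; omega) (h1.trans (Nat.gcd_dvd_right _ _))
    have := hp.two_le
    omega
  let e : Subgroup.center G → {C : ConjClasses (Subgroup.normalizer ((P : Subgroup G) : Set G)) //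
      ∀ x : Subgroup.normalizer ((P : Subgroup G) : Set G), ConjClasses.mk x = C →
        ¬ p ∣ orderOf x ∧ (x : G) ∈ Subgroup.centralizer ((P : Subgroup G) : Set G)} := fun z =>
    ⟨ConjClasses.mk ⟨z, hZle z.2⟩, fun x hx => by
      obtain ⟨g, hg⟩ := isConj_iff.1 (ConjClasses.mk_eq_mk_iff_isConj.1 hx.symm)
      have hxz : x = ⟨z, hZle z.2⟩ := by
        rw [← hg]
        apply Subtype.ext
        show (g : G) * z * (g : G)⁻¹ = z
        rw [Subgroup.mem_center_iff.1 z.2, mul_inv_cancel_right]
      subst hxz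
      exact ⟨by rw [← Subgroup.orderOf_coe]; exact hpZ _ z.2, Subgroup.center_le_centralizer _ z.2⟩⟩
  have he : Function.Bijective e := by
    constructor
    · intro z z' h
      obtain ⟨g, hg⟩ := isConj_iff.1 (ConjClasses.mk_eq_mk_iff_isConj.1 (congrArg Subtype.val h))
      have h1 : (g : G) * z * (g : G)⁻¹ = z' := congrArg Subtype.val hg
      rw [Subgroup.mem_center_iff.1 z.2, mul_inv_cancel_right] at h1
      exact Subtype.ext h1
    · rintro ⟨C, hC⟩
      obtain ⟨x, rfl⟩ := ConjClasses.mk_surjective C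
      exact ⟨⟨x, hmem x (hC x rfl).1 (hC x rfl).2⟩, rfl⟩
  rw [← Nat.card_congr (Equiv.ofBijective e he), hcard] at hcP
  have hsum : Nat.card {B : Set (Cfsg.IrrCharacter G) // Cfsg.IsPBlock M B} =
      Nat.card {B : Set (Cfsg.IrrCharacter G) // Cfsg.IsPBlock M B ∧ Cfsg.blockDefect p B = 0} +
      Nat.card {B : Set (Cfsg.IrrCharacter G) // Cfsg.IsPBlock M B ∧ Cfsg.IsDefectGroup p M B (P : Subgroup G)} := by
    rw [← Nat.card_sum, ← Nat.card_congr (Equiv.sumCompl (fun B : {B : Set (Cfsg.IrrCharacter G) // Cfsg.IsPBlock M B} => Cfsg.blockDefect p B.1 = 0))]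
    exact Nat.card_congr (Equiv.sumCongr
      (Equiv.subtypeSubtypeEquivSubtypeInter (fun B => Cfsg.IsPBlock M B) fun B => Cfsg.blockDefect p B = 0)
      ((Equiv.subtypeSubtypeEquivSubtypeInter (fun B => Cfsg.IsPBlock M B) fun B => ¬ Cfsg.blockDefect p B = 0).trans
        (Equiv.subtypeEquivRight fun B => and_congr_right fun hB => (hiff B hB).symm)))
  rw [hsum, h0, hcP, add_comm]

end Cfsg.Agent.S2440
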