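import Cfsg.Statements.S2442
import Cfsg.Agent.Lib.GLCusp.Main
-- import your own Cfsg.Agent.* helpers here

set_option autoImplicit false
open scoped MatrixGroups
open Cfsg

namespace Cfsg.Agent.S2442

open Classical in
/-- Let F be a finite field with q elements and n ≥ 2. Call a complex character χ of GL_n over F cuspidal when, for every 0 < m < n, the sum of χ over the subgroup of matrices that agree with the identity outside the upper right m × (n − m) block vanishes (the restriction of χ to the unipotent radical of each maximal standard parabolic subgroup contains no principal constituent). Then GL_n has at least φ(qⁿ − 1)/n distinct cuspidal irreducible characters of degree (q − 1)(q² − 1)⋯(q^(n−1) − 1), φ being Euler's function (in particular at least one). -/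
theorem result {F : Type*} [Field F] [Fintype F] [DecidableEq F] (n : ℕ) (hn : 2 ≤ n) :
    Nat.totient (Fintype.card F ^ n - 1) / n ≤
      Nat.card {χ : Cfsg.IrrCharacter (GL (Fin n) F) //
        (χ : GL (Fin n) F → ℂ) 1 = ∏ i ∈ Finset.Ico 1 n, ((Fintype.card F : ℂ) ^ i - 1) ∧
        ∀ m : ℕ, 0 < m → m < n →
          (∑ g : GL (Fin n) F,
            if (∀ i j : Fin n, ¬ (i.val < m ∧ m ≤ j.val) → (g : Matrix (Fin n) (Fin n) F) i j = (1 : Matrix (Fin n) (Fin n) F) i j)
            then (χ : GL (Fin n) F → ℂ) g else 0) = 0} := by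
  refine le_trans (CfsgLib.GLCusp.totient_le_card_cusp (F := F) (n := n) (by omega)) ?_
  have key : ∀ (χ : CfsgLib.GLCusp.Cusp F n) (m : ℕ), 0 < m → m < n →
      (∑ g : GL (Fin n) F,
        if (∀ i j : Fin n, ¬ (i.val < m ∧ m ≤ j.val) → (g : Matrix (Fin n) (Fin n) F) i j = (1 : Matrix (Fin n) (Fin n) F) i j)
        then (χ.1 : GL (Fin n) F → ℂ) g else 0) = 0 := by
    intro χ m hm hmn
    set s : Finset (Fin n) := Finset.univ.filter fun i => (i : ℕ) < m with hs
    have h := χ.2.2 s ⟨⟨0, by omega⟩, by simp [hs, hm]⟩ (fun he => by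
      have := Finset.eq_univ_iff_forall.mp he ⟨m, hmn⟩
      simp [hs] at this) 1
    simp only [one_mul] at h
    have hiff : ∀ g : GL (Fin n) F,
        (∀ i j : Fin n, ¬ (i.val < m ∧ m ≤ j.val) → (g : Matrix (Fin n) (Fin n) F) i j = (1 : Matrix (Fin n) (Fin n) F) i j) ↔
          g ∈ CfsgLib.GLCusp.patGroup (CfsgLib.GLCusp.splitPat s) := fun g => by
      simp [CfsgLib.GLCusp.mem_patGroup, CfsgLib.GLCusp.splitPat, hs]
    rw [← Finset.sum_filter]
    rw [Finset.sum_subtype (p := fun g => g ∈ CfsgLib.GLCusp.patGroup (CfsgLib.GLCusp.splitPat s)) _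
      (fun g => by rw [Finset.mem_filter]; exact ⟨fun hh => (hiff g).mp hh.2, fun hh => ⟨Finset.mem_univ _, (hiff g).mpr hh⟩⟩)]
    exact h
  refine Nat.card_le_card_of_injective
    (fun χ : CfsgLib.GLCusp.Cusp F n => ⟨χ.1, CfsgLib.GLCusp.cusp_degree χ, key χ⟩) ?_
  intro χ χ' h
  simp only [Subtype.mk.injEq] at h
  exact Subtype.ext h

end Cfsg.Agent.S2442
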