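import Cfsg.Statements.S2450
import Cfsg.Agent.Lib.SpecLin.PSLTwoProduct

namespace Cfsg.Agent.S2450

open Matrix CfsgLib.SpecLin CfsgLib.SpecLin.SLTwo

/-- A lift of a conjugate in PSL has the same squared trace. -/
theorem trace_sq_eq_of_isConj {F : Type*} [Field F] {X Y : Matrix.SpecialLinearGroup (Fin 2) F}
    (h : IsConj (QuotientGroup.mk X : Matrix.ProjectiveSpecialLinearGroup (Fin 2) F) (QuotientGroup.mk Y)) :
    (Y : Matrix (Fin 2) (Fin 2) F).trace ^ 2 = (X : Matrix (Fin 2) (Fin 2) F).trace ^ 2 := by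
  obtain ⟨w, hw⟩ := isConj_iff.1 h
  obtain ⟨W, rfl⟩ := QuotientGroup.mk_surjective w
  rw [← QuotientGroup.mk_mul, ← QuotientGroup.mk_inv, ← QuotientGroup.mk_mul, QuotientGroup.eq] at hw
  obtain ⟨r, hr, hscal⟩ := Matrix.SpecialLinearGroup.mem_center_iff.1 hw
  set c : Matrix.SpecialLinearGroup (Fin 2) F := (W * X * W⁻¹)⁻¹ * Y with hc
  have hY : (Y : Matrix (Fin 2) (Fin 2) F) = r • ((W * X * W⁻¹ : Matrix.SpecialLinearGroup (Fin 2) F) :
      Matrix (Fin 2) (Fin 2) F) := by
    calc (Y : Matrix (Fin 2) (Fin 2) F) = ((W * X * W⁻¹) * c : Matrix.SpecialLinearGroup (Fin 2) F) := by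
          rw [hc, mul_inv_cancel_left]
      _ = _ := by rw [Matrix.SpecialLinearGroup.coe_mul, ← hscal, Matrix.scalar_apply, ← Matrix.smul_one_eq_diagonal, mul_smul_comm, mul_one]
  have htr : ((W * X * W⁻¹ : Matrix.SpecialLinearGroup (Fin 2) F) : Matrix (Fin 2) (Fin 2) F).trace =
      (X : Matrix (Fin 2) (Fin 2) F).trace := by
    rw [Matrix.SpecialLinearGroup.coe_mul, Matrix.SpecialLinearGroup.coe_mul, Matrix.trace_mul_comm,
      ← mul_assoc, ← Matrix.SpecialLinearGroup.coe_mul, inv_mul_cancel,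
      Matrix.SpecialLinearGroup.coe_one, one_mul]
  rw [hY, Matrix.trace_smul, htr, smul_eq_mul, mul_pow]
  simp [Fintype.card_fin] at hr
  rcases hr with rfl | rfl <;> simp

open Polynomial in
theorem result {F : Type*} [Field F] [Fintype F] (h4 : 4 ≤ Fintype.card F)
    (a b : Matrix.ProjectiveSpecialLinearGroup (Fin 2) F) (ha : a ≠ 1) (hb : b ≠ 1) (c : Matrix.ProjectiveSpecialLinearGroup (Fin 2) F) :
    {g : Matrix.ProjectiveSpecialLinearGroup (Fin 2) F | ∃ u v : Matrix.ProjectiveSpecialLinearGroup (Fin 2) F, g = (u * a * u⁻¹) * (v * b * v⁻¹)} ≠ {g | IsConj c g} := by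
  classical
  intro hset
  obtain ⟨A, rfl⟩ := QuotientGroup.mk_surjective a
  obtain ⟨B, rfl⟩ := QuotientGroup.mk_surjective b
  obtain ⟨C, rfl⟩ := QuotientGroup.mk_surjective c
  set κ := (C : Matrix (Fin 2) (Fin 2) F).trace ^ 2
  -- every product of conjugates has squared trace κ
  have hκ : ∀ W : Matrix.SpecialLinearGroup (Fin 2) F,
      ((A * (W * B * W⁻¹) : Matrix.SpecialLinearGroup (Fin 2) F) : Matrix (Fin 2) (Fin 2) F).trace ^ 2 = κ := by
    intro W
    apply trace_sq_eq_of_isConj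
    have : (QuotientGroup.mk (A * (W * B * W⁻¹)) : Matrix.ProjectiveSpecialLinearGroup (Fin 2) F) ∈
        {g | IsConj (QuotientGroup.mk C) g} := by
      rw [← hset]
      exact ⟨1, QuotientGroup.mk W, by simp⟩
    exact this
  obtain ⟨P, hP, hPA⟩ := similar_comp A.prop (not_scalar_of_mk_ne_one ha)
  set α := (A : Matrix (Fin 2) (Fin 2) F).trace
  have hPu : IsUnit P.det := hP.isUnit
  -- B conjugated by P
  set B₀ : Matrix (Fin 2) (Fin 2) F := P * (B : Matrix (Fin 2) (Fin 2) F) * P⁻¹ with hB₀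
  have hB₀ns : ∀ s : F, B₀ ≠ s • 1 := by
    refine Similar.not_scalar ⟨P, hP, ?_⟩ (not_scalar_of_mk_ne_one hb)
    rw [hB₀, mul_assoc, Matrix.nonsing_inv_mul P hPu, mul_one]
  have hκ' : ∀ S T : Matrix (Fin 2) (Fin 2) F, S.det = 1 → T * S = 1 →
      (comp α * (S * B₀ * T)).trace ^ 2 = κ := by
    intro S T hS hTS
    have hW : (P⁻¹ * S * P).det = 1 := by
      rw [det_mul, det_mul, hS, mul_one, Matrix.det_nonsing_inv, Ring.inverse_mul_cancel _ hPu]
    let W : Matrix.SpecialLinearGroup (Fin 2) F := ⟨P⁻¹ * S * P, hW⟩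
    have hWinv : ((W⁻¹ : Matrix.SpecialLinearGroup (Fin 2) F) : Matrix (Fin 2) (Fin 2) F) = P⁻¹ * T * P := by
      have hright : (W : Matrix (Fin 2) (Fin 2) F) * (P⁻¹ * T * P) = 1 := by
        change P⁻¹ * S * P * (P⁻¹ * T * P) = 1
        rw [mul_assoc (P⁻¹ * S) P, ← mul_assoc P, ← mul_assoc P, Matrix.mul_nonsing_inv P hPu, one_mul,
          mul_assoc P⁻¹ S, ← mul_assoc S, mul_eq_one_comm.1 hTS, one_mul, Matrix.nonsing_inv_mul P hPu]
      calc ((W⁻¹ : Matrix.SpecialLinearGroup (Fin 2) F) : Matrix (Fin 2) (Fin 2) F)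
          = (W⁻¹ : Matrix.SpecialLinearGroup (Fin 2) F) * ((W : Matrix (Fin 2) (Fin 2) F) * (P⁻¹ * T * P)) := by
            rw [hright, mul_one]
        _ = P⁻¹ * T * P := by
            rw [← mul_assoc, ← Matrix.SpecialLinearGroup.coe_mul, inv_mul_cancel,
              Matrix.SpecialLinearGroup.coe_one, one_mul]
    have := hκ W
    rw [Matrix.SpecialLinearGroup.coe_mul, Matrix.SpecialLinearGroup.coe_mul,
      Matrix.SpecialLinearGroup.coe_mul, hWinv] at this
    rw [← this]
    congr 1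
    change _ = ((A : Matrix (Fin 2) (Fin 2) F) * (P⁻¹ * S * P * B * (P⁻¹ * T * P))).trace
    have hA : (A : Matrix (Fin 2) (Fin 2) F) = P⁻¹ * comp α * P := by
      rw [mul_assoc, ← hPA, ← mul_assoc, Matrix.nonsing_inv_mul P hPu, one_mul]
    rw [hA, hB₀]
    simp only [mul_assoc]
    rw [Matrix.trace_mul_comm P⁻¹]
    simp only [mul_assoc]
    simp only [Matrix.mul_nonsing_inv_cancel_left _ _ hPu, Matrix.mul_nonsing_inv P hPu, mul_one]
  -- conjugate so that the lower left entry is non-zero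
  obtain ⟨S₀, T₀, hS₀, hTS₀, hz⟩ : ∃ S T : Matrix (Fin 2) (Fin 2) F,
      S.det = 1 ∧ T * S = 1 ∧ (S * B₀ * T) 1 0 ≠ 0 := by
    by_contra hn
    push Not at hn
    have h1 := hn 1 1 (by simp) (by simp)
    have h2 := hn !![0, -1; 1, 0] !![0, 1; -1, 0] (by simp [Matrix.det_fin_two]) (by
      ext i j; fin_cases i <;> fin_cases j <;> simp [Matrix.mul_apply])
    have h3 := hn !![1, 0; 1, 1] !![1, 0; -1, 1] (by simp [Matrix.det_fin_two]) (by
      ext i j; fin_cases i <;> fin_cases j <;> simp [Matrix.mul_apply])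
    simp [Matrix.mul_apply, Matrix.vecMul, dotProduct, Fin.sum_univ_two] at h1 h2 h3
    refine hB₀ns (B₀ 0 0) (Matrix.ext fun i j => ?_)
    fin_cases i <;> fin_cases j <;> simp [h1, h2]
    linear_combination -h3 + h1 - h2
  set B₁ := S₀ * B₀ * T₀ with hB₁
  -- the trace along a unipotent conjugation is a genuine quadratic
  let p : F[X] := Polynomial.C (-(B₁ 1 0)) * Polynomial.X ^ 2
    + Polynomial.C (B₁ 1 1 - B₁ 0 0 - α * B₁ 1 0) * Polynomial.X
    + Polynomial.C (B₁ 0 1 - B₁ 1 0 + α * B₁ 1 1)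
  have hp : ∀ s : F, (p.eval s) ^ 2 = κ := by
    intro s
    let U : Matrix (Fin 2) (Fin 2) F := !![1, s; 0, 1]
    let U' : Matrix (Fin 2) (Fin 2) F := !![1, -s; 0, 1]
    have := hκ' (U * S₀) (T₀ * U') (by rw [det_mul, hS₀, mul_one]; simp [U, Matrix.det_fin_two]) (by
      rw [mul_assoc, ← mul_assoc U', show U' * U = 1 by
        ext i j; fin_cases i <;> fin_cases j <;> simp [U, U', Matrix.mul_apply], one_mul, hTS₀])
    rw [show U * S₀ * B₀ * (T₀ * U') = U * B₁ * U' by rw [hB₁]; simp only [mul_assoc]] at this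
    rw [← this]
    congr 1
    simp [p, U, U', SLTwo.comp, Matrix.trace_fin_two, Matrix.mul_apply, Matrix.vecMul, dotProduct, Fin.sum_univ_two]
    ring
  have hdeg : p.natDegree = 2 := Polynomial.natDegree_quadratic (neg_ne_zero.2 hz)
  -- only q = 4 is left
  have hzero : p ^ 2 - Polynomial.C κ ≠ 0 := by
    intro h
    have := congrArg Polynomial.natDegree (sub_eq_zero.1 h)
    rw [Polynomial.natDegree_pow, hdeg, Polynomial.natDegree_C] at this
    omega
  have hle : Fintype.card F ≤ 4 := by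
    have hsub : (Finset.univ : Finset F).val ⊆ (p ^ 2 - Polynomial.C κ).roots := fun s _ => by
      rw [Polynomial.mem_roots hzero]; simp [hp]
    have := Polynomial.card_le_degree_of_subset_roots hsub
    rw [Finset.card_univ, Polynomial.natDegree_sub_C, Polynomial.natDegree_pow, hdeg] at this
    exact this
  have h2 : (2 : F) = 0 := by
    have h4' : Fintype.card F = 4 := by omega
    have := FiniteField.cast_card_eq_zero F
    rw [h4'] at this
    exact mul_self_eq_zero.1 (by rw [← this]; norm_num)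
  have hconst : ∀ s : F, p.eval s = p.eval 0 := fun s => by
    rcases sq_eq_sq_iff_eq_or_eq_neg.1 ((hp s).trans (hp 0).symm) with h | h
    · exact h
    · linear_combination h - p.eval 0 * h2
  have hsub : (Finset.univ : Finset F).val ⊆ (p - Polynomial.C (p.eval 0)).roots := fun s _ => by
    rw [Polynomial.mem_roots]
    · simp [hconst s]
    · intro h
      have := congrArg Polynomial.natDegree (sub_eq_zero.1 h)
      rw [hdeg, Polynomial.natDegree_C] at this
      omega
  have := Polynomial.card_le_degree_of_subset_roots hsub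
  rw [Finset.card_univ, Polynomial.natDegree_sub_C, hdeg] at this
  omega

end Cfsg.Agent.S2450
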