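import Cfsg.Statements.S2455
import Cfsg.Agent.Lib.SpecLin.PSLTwoProduct

namespace Cfsg.Agent.S2455

open Matrix CfsgLib.SpecLin CfsgLib.SpecLin.SLTwo

theorem result {F : Type*} [Field F] [Fintype F] (p : ℕ) [Fact p.Prime] [CharP F p] (hp : p ≠ 2) (h5 : 5 ≤ Fintype.card F)
    (x : Matrix.ProjectiveSpecialLinearGroup (Fin 2) F) (hx2 : 2 < orderOf x) (hxp : ¬ p ∣ orderOf x) : ∀ g : Matrix.ProjectiveSpecialLinearGroup (Fin 2) F, g ≠ 1 → ∃ u v : Matrix.ProjectiveSpecialLinearGroup (Fin 2) F, g = (u * x * u⁻¹) * (v * x * v⁻¹) := by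
  classical
  obtain ⟨X, rfl⟩ := QuotientGroup.mk_surjective x
  have h2 : (2 : F) ≠ 0 := Ring.two_ne_zero (by rw [ringChar.eq F p]; exact hp)
  have hx1 : (QuotientGroup.mk X : Matrix.ProjectiveSpecialLinearGroup (Fin 2) F) ≠ 1 := by
    intro h; rw [h, orderOf_one] at hx2; omega
  set a := (X : Matrix (Fin 2) (Fin 2) F).trace with ha_def
  have ha0 : a ≠ 0 := fun h => by
    have := Nat.le_of_dvd (by norm_num) (orderOf_dvd_of_pow_eq_one (sq_eq_one_of_trace_eq_zero h))
    omega
  have ha4 : a ^ 2 ≠ 4 := fun h => by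
    have hd : orderOf (QuotientGroup.mk X : Matrix.ProjectiveSpecialLinearGroup (Fin 2) F) ∣ p := by
      apply orderOf_dvd_of_pow_eq_one
      rw [← QuotientGroup.mk_pow, QuotientGroup.eq_one_iff]
      exact pow_char_mem_center p h
    rcases (Nat.dvd_prime (Fact.out : p.Prime)).1 hd with h1 | h1
    · omega
    · exact hxp (h1 ▸ dvd_rfl)
  intro g hg
  obtain ⟨Z, rfl, hZ2⟩ := exists_lift_trace_ne_two h2 g
  refine exists_product_of_point (Or.inr ha4) (not_scalar_of_mk_ne_one hx1) ha0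
    (not_scalar_of_mk_ne_one hg) ?_
  rw [← ha_def]
  set t := (Z : Matrix (Fin 2) (Fin 2) F).trace
  obtain ⟨x, s, hs⟩ : ∃ x s : F,
      (a - x * t) * (a - x * t) - 4 * (x * x - a * x + 1) = s * s := by
    by_cases ht : t = -2
    · refine ⟨-(a * a - 4) / (8 * a), 0, ?_⟩
      have h8 : (8 : F) ≠ 0 := by
        have := mul_ne_zero (mul_ne_zero h2 h2) h2
        norm_num at this ⊢
        exact this
      rw [ht]
      field_simp
      ring
    · have hA : t ^ 2 - 4 ≠ 0 := by
        intro h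
        rcases mul_eq_zero.1 (show (t - 2) * (t + 2) = 0 by linear_combination h) with h | h
        · exact hZ2 (sub_eq_zero.1 h)
        · exact ht (eq_neg_of_add_eq_zero_left h)
      obtain ⟨x, s, hxs⟩ := FiniteField.exists_root_sum_quadratic
        (f := Polynomial.C (t ^ 2 - 4) * Polynomial.X ^ 2 + Polynomial.C (2 * a * (2 - t)) * Polynomial.X
          + Polynomial.C (a ^ 2 - 4))
        (g := -(Polynomial.X ^ 2 : Polynomial F)) (Polynomial.degree_quadratic hA) (by simp)
        (odd_card h2)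
      refine ⟨x, s, ?_⟩
      simp at hxs
      linear_combination hxs
  refine ⟨x, (-(a - x * t) + s) / 2, ?_⟩
  field_simp
  linear_combination -hs

end Cfsg.Agent.S2455
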