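import Cfsg.Statements.S2456
import Cfsg.Agent.Lib.SpecLin.PSLTwoProduct

namespace Cfsg.Agent.S2456

open Matrix CfsgLib.SpecLin CfsgLib.SpecLin.SLTwo

theorem result {F : Type*} [Field F] [Fintype F] [CharP F 2] (h4 : 4 ≤ Fintype.card F)
    (x : Matrix.ProjectiveSpecialLinearGroup (Fin 2) F) (hx2 : 2 < orderOf x) (hxq : ¬ orderOf x ∣ Fintype.card F + 1) : ∀ g : Matrix.ProjectiveSpecialLinearGroup (Fin 2) F, g ≠ 1 → ∃ u v : Matrix.ProjectiveSpecialLinearGroup (Fin 2) F, g = (u * x * u⁻¹) * (v * x * v⁻¹) := by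
  classical
  obtain ⟨X, rfl⟩ := QuotientGroup.mk_surjective x
  have h2 : (2 : F) = 0 := by exact_mod_cast CharP.cast_eq_zero F 2
  have hx1 : (QuotientGroup.mk X : Matrix.ProjectiveSpecialLinearGroup (Fin 2) F) ≠ 1 := by
    intro h; rw [h, orderOf_one] at hx2; omega
  set a := (X : Matrix (Fin 2) (Fin 2) F).trace with ha_def
  have ha0 : a ≠ 0 := fun h => by
    have := Nat.le_of_dvd (by norm_num) (orderOf_dvd_of_pow_eq_one (sq_eq_one_of_trace_eq_zero h))
    omega
  obtain ⟨r, hr⟩ : ∃ r : F, r * r - a * r + 1 = 0 := by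
    by_contra hn
    push Not at hn
    refine hxq (orderOf_dvd_of_pow_eq_one ?_)
    rw [← QuotientGroup.mk_pow, pow_card_add_one_of_no_root hn, QuotientGroup.mk_one]
  intro g hg
  obtain ⟨Z, rfl⟩ := QuotientGroup.mk_surjective g
  refine exists_product_of_point (Or.inl h2) (not_scalar_of_mk_ne_one hx1) ha0
    (not_scalar_of_mk_ne_one hg) ?_
  rw [← ha_def]
  set t := (Z : Matrix (Fin 2) (Fin 2) F).trace
  rcases eq_or_ne t 0 with ht | ht
  · exact ⟨0, r, by rw [ht]; linear_combination hr + a * r * h2⟩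
  · obtain ⟨y, hy⟩ := exists_sq_of_char_two h2 ((a / t) * (a / t) - a * (a / t) + 1)
    refine ⟨a / t, y, ?_⟩
    have hat : a / t * t = a := div_mul_cancel₀ a ht
    linear_combination hy - y * hat + ((a / t) * (a / t) - a * (a / t) + 1) * h2

end Cfsg.Agent.S2456
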