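import Cfsg.Statements.S2459
import Cfsg.Agent.Lib.SpecLin.Sourour
import Cfsg.Agent.Lib.SpecLin.SingerThree
import Cfsg.Agent.Lib.SpecLin.PSLClass

namespace Cfsg.Agent.S2459

open Matrix CfsgLib.SpecLin

/-- Large fields: two conjugates of a split regular semisimple element. -/
theorem large {F : Type*} [Field F] [Fintype F] (p : ℕ) [Fact p.Prime] [CharP F p] (b : Fˣ)
    (hb : (b : F) ^ 2 ≠ 1) :
    ∃ x : Matrix.ProjectiveSpecialLinearGroup (Fin 3) F, ¬ p ∣ orderOf x ∧ ∀ g : Matrix.ProjectiveSpecialLinearGroup (Fin 3) F, g ≠ 1 → ∃ u v : Matrix.ProjectiveSpecialLinearGroup (Fin 3) F, g = (u * x * u⁻¹) * (v * x * v⁻¹) := by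
  classical
  let β : Fin 3 → F := ![1, b, (b⁻¹ : Fˣ)]
  have hb0 : (b : F) ≠ 0 := b.ne_zero
  have hβ0 : ∀ i, β i ≠ 0 := by intro i; fin_cases i <;> simp [β, hb0]
  have hβ : Function.Injective β := by
    have h1 : (b : F) ≠ 1 := fun h => hb (by simp [h])
    have h2 : (b : F) ≠ (b : F)⁻¹ := fun h => hb (by
      calc (b : F) ^ 2 = b * (b : F)⁻¹ := by rw [← h, sq]
        _ = 1 := mul_inv_cancel₀ hb0)
    intro i j hij
    fin_cases i <;> fin_cases j <;> simp_all [β, eq_comm]
  have hdetx : (Matrix.diagonal β).det = 1 := by simp [β, Fin.prod_univ_three, hb0]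
  let x : Matrix.SpecialLinearGroup (Fin 3) F := ⟨Matrix.diagonal β, hdetx⟩
  have hconj : ∀ T : Matrix (Fin 3) (Fin 3) F, T.det = 1 →
      (∃ R : Matrix (Fin 3) (Fin 3) F, R.det ≠ 0 ∧ R * T = (x : Matrix (Fin 3) (Fin 3) F) * R) →
      ∃ u : Matrix.SpecialLinearGroup (Fin 3) F, T = (u : Matrix (Fin 3) (Fin 3) F) * x * (u⁻¹ :) := by
    rintro T - ⟨R, hR, hRT⟩
    let δ : Matrix (Fin 3) (Fin 3) F := Matrix.diagonal ![R.det⁻¹, 1, 1]
    have hδ : (δ * R).det = 1 := by simp [δ, Fin.prod_univ_three, hR]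
    let w : Matrix.SpecialLinearGroup (Fin 3) F := ⟨δ * R, hδ⟩
    refine ⟨w⁻¹, ?_⟩
    have hw : (w : Matrix (Fin 3) (Fin 3) F) * T = (x : Matrix (Fin 3) (Fin 3) F) * w := by
      change δ * R * T = Matrix.diagonal β * (δ * R)
      change R * T = Matrix.diagonal β * R at hRT
      rw [mul_assoc, hRT, ← mul_assoc, ← mul_assoc]
      simp only [δ, diagonal_mul_diagonal, mul_comm]
    rw [inv_inv, mul_assoc, ← hw, ← mul_assoc, ← Matrix.SpecialLinearGroup.coe_mul,
      inv_mul_cancel, Matrix.SpecialLinearGroup.coe_one, one_mul]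
  refine ⟨QuotientGroup.mk x, fun hdvd => ?_, fun g hg => ?_⟩
  · have h1 : x ^ (Fintype.card F - 1) = 1 := by
      apply Subtype.ext
      rw [Matrix.SpecialLinearGroup.coe_pow, Matrix.SpecialLinearGroup.coe_one]
      change Matrix.diagonal β ^ (Fintype.card F - 1) = 1
      rw [Matrix.diagonal_pow, Matrix.diagonal_eq_one]
      funext i
      exact FiniteField.pow_card_sub_one_eq_one _ (hβ0 i)
    have h2 : orderOf (QuotientGroup.mk x : Matrix.ProjectiveSpecialLinearGroup (Fin 3) F) ∣
        Fintype.card F - 1 := by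
      apply orderOf_dvd_of_pow_eq_one
      rw [← QuotientGroup.mk_pow, h1, QuotientGroup.mk_one]
    have h3 : p ∣ Fintype.card F - 1 := hdvd.trans h2
    have h4 : p ∣ Fintype.card F := by
      rw [← CharP.cast_eq_zero_iff F p]; exact FiniteField.cast_card_eq_zero F
    have h5 : p ∣ 1 := by
      have := Nat.dvd_sub h4 h3
      rwa [Nat.sub_sub_self Fintype.card_pos] at this
    exact (Fact.out : p.Prime).one_lt.ne' (Nat.dvd_one.1 h5)
  · obtain ⟨Z, rfl⟩ := QuotientGroup.mk_surjective g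
    have hns := not_scalar_of_notMem_center (Z := Z) fun h => hg ((QuotientGroup.eq_one_iff Z).2 h)
    obtain ⟨L, U, ⟨P, hP, hPZ⟩, hL, hL1, hU, hU1⟩ :=
      exists_similar_lu (Z : Matrix (Fin 3) (Fin 3) F) (Or.inr hns) (by simp) (fun _ => 1) (by simp)
    let γ : Fin 3 → F := fun i => (β i)⁻¹
    have hM : Similar (L * Matrix.diagonal β) (Matrix.diagonal β) := by
      refine similar_diagonal_of_charpoly _ _ hβ ?_
      rw [← Matrix.charpoly_transpose, Matrix.charpoly_of_upperTriangular]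
      · simp [hL1]
      · intro i j hij
        simp [hL j i hij]
    have hN : Similar (Matrix.diagonal γ * U) (Matrix.diagonal β) := by
      refine similar_diagonal_of_charpoly _ _ hβ ?_
      rw [Matrix.charpoly_of_upperTriangular]
      · simp [hU1, γ, Fin.prod_univ_three, β]
        ring
      · intro i j hij
        simp [hU i j hij]
    refine psl_product_of_similar hP ?_ hconj hM hN
    rw [hPZ]
    congr 1
    rw [mul_assoc L, ← mul_assoc (Matrix.diagonal β), diagonal_mul_diagonal]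
    simp [γ, hβ0]

/-- The companion matrix of `X^3 - X - 1`. -/
def singer : Matrix (Fin 3) (Fin 3) (ZMod 3) := !![0, 0, 1; 1, 0, 1; 0, 1, 0]

theorem singer_det : singer.det = 1 := by decide +kernel

theorem singer_pow : singer ^ 13 = 1 := by decide +kernel

open SingerThree in
theorem singer_similar (M : Matrix (Fin 3) (Fin 3) (ZMod 3)) (hM : Ok M) (hdet : M.det = 1) :
    Similar singer M := by
  have h3 : (3 : ZMod 3) = 0 := by decide
  have hM' := hM
  simp only [Ok, trP, e2P] at hM'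
  obtain ⟨ht, he⟩ := hM'
  have hcp : M.charpoly = Polynomial.X ^ 3 - Polynomial.X - 1 := by
    rw [Matrix.det_fin_three] at hdet
    rw [Matrix.charpoly, Matrix.det_fin_three]
    simp [charmatrix_apply]
    have e1 := congrArg Polynomial.C ht
    have e2 := congrArg Polynomial.C he
    have e3 := congrArg Polynomial.C hdet
    have e4 := congrArg Polynomial.C h3
    simp only [map_add, map_mul, map_sub, map_one, map_zero, map_ofNat] at e1 e2 e3 e4
    linear_combination -(Polynomial.X : Polynomial (ZMod 3)) ^ 2 * e1 + Polynomial.X * e2 - e3 +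
      (Polynomial.X - Polynomial.X * (Polynomial.C (M 0 1) * Polynomial.C (M 1 0) +
        Polynomial.C (M 0 2) * Polynomial.C (M 2 0) + Polynomial.C (M 1 2) * Polynomial.C (M 2 1))) * e4
  have hirr : Irreducible M.charpoly := by
    rw [Polynomial.irreducible_iff_roots_eq_zero_of_degree_le_three]
    · rw [hcp, Multiset.eq_zero_iff_forall_notMem]
      intro a ha
      have := Polynomial.isRoot_of_mem_roots ha
      simp only [Polynomial.IsRoot, Polynomial.eval_sub, Polynomial.eval_pow, Polynomial.eval_X,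
        Polynomial.eval_one] at this
      exact (by decide : ∀ z : ZMod 3, z ^ 3 - z - 1 ≠ 0) a this
    · rw [M.charpoly_natDegree_eq_dim]; simp
    · rw [M.charpoly_natDegree_eq_dim]; simp
  let e : Fin 3 → ZMod 3 := Pi.single 0 1
  let P : Matrix (Fin 3) (Fin 3) (ZMod 3) := Matrix.of fun i j => ((M ^ (j : ℕ)) *ᵥ e) i
  have hCH := M.aeval_self_charpoly
  rw [hcp] at hCH
  simp only [map_sub, map_pow, Polynomial.aeval_X, map_one] at hCH
  have hM3 : M ^ 3 = M + 1 := by rw [← sub_eq_zero, ← hCH]; abel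
  have hPdet : P.det ≠ 0 := by
    intro h0
    obtain ⟨c, hc0, hc⟩ := Matrix.exists_mulVec_eq_zero_iff.2 h0
    let g : Polynomial (ZMod 3) := ∑ j : Fin 3, Polynomial.C (c j) * Polynomial.X ^ (j : ℕ)
    have hg : Polynomial.aeval M g *ᵥ e = 0 := by
      rw [← hc]
      funext i
      simp [g, P, Matrix.mulVec, dotProduct, Matrix.sum_apply, Fin.sum_univ_three, Matrix.algebraMap_matrix_apply,
        Matrix.mul_apply, Matrix.add_mulVec, e, Matrix.one_apply]
      fin_cases i <;> simp <;> ring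
    have hgdeg : ¬ M.charpoly ∣ g := by
      intro hd
      refine hc0 (funext fun j => ?_)
      have hdeg : g.natDegree ≤ 2 := by
        refine Polynomial.natDegree_sum_le_of_forall_le _ _ fun j _ => ?_
        exact (Polynomial.natDegree_C_mul_X_pow_le _ _).trans (by omega)
      have hg0 : g = 0 := by
        by_contra hne
        have := Polynomial.natDegree_le_of_dvd hd hne
        rw [M.charpoly_natDegree_eq_dim, Fintype.card_fin] at this
        omega
      have := congrArg (fun q => Polynomial.coeff q (j : ℕ)) hg0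
      simp [g, Polynomial.finsetSum_coeff, Fin.val_inj] at this
      exact this
    obtain ⟨a, b, hab⟩ := (hirr.coprime_iff_not_dvd.2 hgdeg)
    have := congrArg (fun q => Polynomial.aeval M q *ᵥ e) hab
    simp only [map_add, map_mul, M.aeval_self_charpoly, mul_zero, zero_add, map_one,
      ← Matrix.mulVec_mulVec, hg, Matrix.mulVec_zero, Matrix.one_mulVec] at this
    exact absurd (congrFun this 0) (by simp [e])
  refine ⟨P, hPdet, ?_⟩
  ext i j
  have hcol : ∀ (k : ℕ) (hk : k < 3), (M * P) i ⟨k, hk⟩ = ((M ^ (k + 1)) *ᵥ e) i := fun k hk => by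
    rw [pow_succ', ← Matrix.mulVec_mulVec]; rfl
  fin_cases j
  · rw [hcol 0 (by norm_num)]
    simp [singer, P, Matrix.mul_apply, Fin.sum_univ_three]
  · rw [hcol 1 (by norm_num)]
    simp [singer, P, Matrix.mul_apply, Fin.sum_univ_three]
  · rw [hcol 2 (by norm_num), hM3, Matrix.add_mulVec]
    simp [singer, P, Matrix.mul_apply, Fin.sum_univ_three]
    ring

theorem det_eq_one_of_ok {M : Matrix (Fin 3) (Fin 3) (ZMod 3)}
    (h : M * SingerThree.adjP M = 1) : M.det = 1 := by
  have h3 : (3 : ZMod 3) = 0 := by decide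
  have h00 := congrFun (congrFun h 0) 0
  simp [Matrix.mul_apply, Fin.sum_univ_three, SingerThree.adjP] at h00
  rw [Matrix.det_fin_three]
  linear_combination h00 - (M 0 0 * M 1 2 * M 2 1 + M 0 1 * M 1 0 * M 2 2 + M 0 2 * M 1 1 * M 2 0) * h3

theorem result {F : Type*} [Field F] [Fintype F] (p : ℕ) [Fact p.Prime] [CharP F p] (h3 : 3 ≤ Fintype.card F) :
    ∃ x : Matrix.ProjectiveSpecialLinearGroup (Fin 3) F, ¬ p ∣ orderOf x ∧ ∀ g : Matrix.ProjectiveSpecialLinearGroup (Fin 3) F, g ≠ 1 → ∃ u v : Matrix.ProjectiveSpecialLinearGroup (Fin 3) F, g = (u * x * u⁻¹) * (v * x * v⁻¹) := by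
  classical
  by_cases hb : ∃ b : Fˣ, (b : F) ^ 2 ≠ 1
  · obtain ⟨b, hb⟩ := hb
    exact large p b hb
  push Not at hb
  have hcard : Fintype.card F = 3 := by
    by_contra hne
    have hsub : (Finset.univ : Finset F) ⊆ {0, 1, -1} := by
      intro z _
      rcases eq_or_ne z 0 with rfl | hz
      · simp
      · rcases sq_eq_one_iff.1 (hb (Units.mk0 z hz)) with h | h <;> simp at h <;> simp [h]
    have := (Finset.card_le_card hsub).trans Finset.card_le_three
    rw [Finset.card_univ] at this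
    omega
  have hp3 : Fact (Nat.Prime 3) := ⟨Nat.prime_three⟩
  have hcp : CharP F 3 := charP_of_card_eq_prime hcard
  obtain rfl : p = 3 := CharP.eq F ‹_› hcp
  let φ : ZMod 3 ≃+* F := ZMod.ringEquiv F hcard
  have hsd : (singer.map φ).det = 1 := by
    rw [← RingEquiv.coe_toRingHom, ← RingHom.mapMatrix_apply, ← RingHom.map_det,
      singer_det, map_one]
  let x : Matrix.SpecialLinearGroup (Fin 3) F := ⟨singer.map φ, hsd⟩
  have hconj : ∀ T : Matrix (Fin 3) (Fin 3) F, T.det = 1 →
      (∃ R : Matrix (Fin 3) (Fin 3) F, R.det ≠ 0 ∧ R * T = (x : Matrix (Fin 3) (Fin 3) F) * R) →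
      ∃ u : Matrix.SpecialLinearGroup (Fin 3) F, T = (u : Matrix (Fin 3) (Fin 3) F) * x * (u⁻¹ :) := by
    rintro T - ⟨R, hR, hRT⟩
    have hd : (R.det • R).det = 1 := by
      rw [Matrix.det_smul, Fintype.card_fin]
      have := hb (Units.mk0 _ hR)
      calc R.det ^ 3 * R.det = (R.det ^ 2) ^ 2 := by ring
        _ = 1 := by simp at this; simp [this]
    let w : Matrix.SpecialLinearGroup (Fin 3) F := ⟨R.det • R, hd⟩
    refine ⟨w⁻¹, ?_⟩
    have hw : (w : Matrix (Fin 3) (Fin 3) F) * T = (x : Matrix (Fin 3) (Fin 3) F) * w := by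
      change (R.det • R) * T = (x : Matrix (Fin 3) (Fin 3) F) * (R.det • R)
      rw [Algebra.smul_mul_assoc, Algebra.mul_smul_comm, hRT]
    rw [inv_inv, mul_assoc, ← hw, ← mul_assoc, ← Matrix.SpecialLinearGroup.coe_mul,
      inv_mul_cancel, Matrix.SpecialLinearGroup.coe_one, one_mul]
  have hsim : ∀ M : Matrix (Fin 3) (Fin 3) (ZMod 3), SingerThree.Ok M → M.det = 1 →
      ∃ R : Matrix (Fin 3) (Fin 3) F, R.det ≠ 0 ∧ R * M.map φ = (x : Matrix (Fin 3) (Fin 3) F) * R := by
    intro M hM hd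
    obtain ⟨R, hR, hRM⟩ := (singer_similar M hM hd).symm
    refine ⟨R.map φ, ?_, ?_⟩
    · rw [← RingEquiv.coe_toRingHom, ← RingHom.mapMatrix_apply, ← RingHom.map_det]
      simpa using hR
    · rw [← RingEquiv.coe_toRingHom, ← Matrix.map_mul, hRM, Matrix.map_mul]; rfl
  refine ⟨QuotientGroup.mk x, fun hdvd => ?_, fun g hg => ?_⟩
  · have h1 : x ^ 13 = 1 := by
      apply Subtype.ext
      rw [Matrix.SpecialLinearGroup.coe_pow, Matrix.SpecialLinearGroup.coe_one]
      change (singer.map φ) ^ 13 = 1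
      rw [← RingEquiv.coe_toRingHom, ← RingHom.mapMatrix_apply, ← map_pow,
        singer_pow, map_one]
    have h2 : orderOf (QuotientGroup.mk x : Matrix.ProjectiveSpecialLinearGroup (Fin 3) F) ∣ 13 :=
      orderOf_dvd_of_pow_eq_one (by rw [← QuotientGroup.mk_pow, h1, QuotientGroup.mk_one])
    exact absurd (hdvd.trans h2) (by norm_num)
  · obtain ⟨Z, rfl⟩ := QuotientGroup.mk_surjective g
    have hns := not_scalar_of_notMem_center (Z := Z) fun h => hg ((QuotientGroup.eq_one_iff Z).2 h)
    obtain ⟨L, U, hsimZ, hL, hL1, hU, hU1⟩ :=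
      exists_similar_lu (Z : Matrix (Fin 3) (Fin 3) F) (Or.inr hns) (by simp) (fun _ => 1) (by simp)
    obtain ⟨P, hP, hPZ⟩ := hsimZ
    let a := φ.symm (L 1 0); let b := φ.symm (L 2 0); let c := φ.symm (L 2 1)
    let d := φ.symm (U 0 1); let e := φ.symm (U 0 2); let f := φ.symm (U 1 2)
    have hlu : (SingerThree.lu a b c d e f).map φ = L * U := by
      ext i j
      fin_cases i <;> fin_cases j <;>
        simp [SingerThree.lu, a, b, c, d, e, f, Matrix.mul_apply, Fin.sum_univ_three, hL, hL1, hU, hU1]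
    have hne : SingerThree.lu a b c d e f ≠ 1 := by
      intro h1
      rw [h1, Matrix.map_one _ (map_zero _) (map_one _)] at hlu
      refine (Similar.not_scalar ⟨P, hP, hPZ⟩ hns) 1 ?_
      rw [← hlu, one_smul]
    obtain ⟨M, N, hMok, hNok, hMd, hMN⟩ := SingerThree.exists_factor a b c d e f hne
    replace hMd := det_eq_one_of_ok hMd
    have hNd : N.det = 1 := by
      have h := congrArg Matrix.det hMN
      rw [det_mul, hMd, one_mul] at h
      rw [← h, SingerThree.lu, Matrix.det_fin_three]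
      simp
      ring
    refine psl_product_of_similar hP ?_ hconj (hsim M hMok hMd) (hsim N hNok hNd)
    rw [hPZ, ← hlu, hMN, ← RingEquiv.coe_toRingHom, Matrix.map_mul]

end Cfsg.Agent.S2459
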