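import Cfsg.Statements.S2462
import Cfsg.Agent.Lib.TwistSquare.D4Three
import Cfsg.Agent.Lib.SpecD4Two.Square.Main
-- import your own Cfsg.Agent.* helpers here

set_option autoImplicit false
open Cfsg

namespace Cfsg.Agent.S2462

/-- A form of Thompson's conjecture for the triality groups ³D₄(q) (covering the non-identity elements) with a semisimple class: for q a power of the prime p and K the field with q³ elements there is an element x of ³D₄(q) (realised over K) of order prime to p such that every non-identity element of ³D₄(q) is a product of two conjugates of x. -/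
theorem result {K : Type*} [Field K] [Fintype K] (p : ℕ) [Fact p.Prime] [CharP K p] (q : ℕ) (hq : IsPrimePow q) (hK : Fintype.card K = q ^ 3) :
    ∃ x : Cfsg.Lie.twistedD4 K q, ¬ p ∣ orderOf x ∧ ∀ g : Cfsg.Lie.twistedD4 K q, g ≠ 1 → ∃ u v : Cfsg.Lie.twistedD4 K q, g = (u * x * u⁻¹) * (v * x * v⁻¹) := by
  classical
  obtain ⟨p', n, hpK, rfl, hn, h2⟩ := CfsgLib.Twisted.setupD4 (K := K) hq hK
  obtain rfl : p = p' := ExpChar.eq (ExpChar.prime (Fact.out : p.Prime)) hpK
  have hp : p.Prime := Fact.out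
  have hn0 : n ≠ 0 := by rintro rfl; simp at h2
  by_cases hq4 : 4 ≤ p ^ n
  · obtain ⟨x, hx, hc⟩ := CfsgLib.TwistSquare.cover_regular hn h2 hq4
    refine ⟨x, fun hd => ?_, fun g _ => hc g⟩
    have h1 : p ∣ Fintype.card K - 1 := hd.trans (orderOf_dvd_of_pow_eq_one hx)
    have h2' : p ∣ Fintype.card K := by rw [hn]; exact dvd_mul_of_dvd_right (dvd_pow_self p hn0) _
    have h3 : Fintype.card K ≠ 0 := Fintype.card_ne_zero
    have := Nat.dvd_sub h2' h1
    rw [Nat.sub_sub_self (Nat.one_le_iff_ne_zero.2 h3)] at this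
    exact hp.not_dvd_one this
  have hle : p ≤ p ^ n := Nat.le_self_pow hn0 p
  have hn1 : n = 1 := by
    by_contra hne
    have : p ^ 2 ≤ p ^ n := Nat.pow_le_pow_right hp.pos (by omega)
    have : 4 ≤ p ^ 2 := by nlinarith [hp.two_le]
    omega
  subst hn1
  have h23 : p = 2 ∨ p = 3 := by
    have := hp.two_le
    have h4 : p < 4 := by simpa using Nat.lt_of_not_le hq4
    omega
  rcases h23 with rfl | rfl
  · have hK8 : Fintype.card K = 8 := by rw [hn]; norm_num
    obtain ⟨x, hx, hc⟩ := CfsgLib.SpecD4Two.Square.exists_square (K := K) hK8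
    rw [pow_one]
    exact ⟨x, by rw [hx]; norm_num, hc⟩
  · obtain ⟨x, hx, hc⟩ := CfsgLib.TwistSquare.cover_three (K := K) hn
    refine ⟨x, fun hd => ?_, fun g _ => hc g⟩
    exact absurd (hd.trans (orderOf_dvd_of_pow_eq_one hx)) (by norm_num)

end Cfsg.Agent.S2462
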