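import Cfsg.Statements.S2463
import Cfsg.Agent.Lib.LargeReeSquare.Main
import Cfsg.Agent.Lib.TitsSquare.Main
-- import your own Cfsg.Agent.* helpers here

set_option autoImplicit false
open Cfsg

namespace Cfsg.Agent.S2463

/-- A form of Thompson's conjecture for the simple groups of type ²F₄ (covering the non-identity elements) with a semisimple class: if M is a large Ree group ²F₄(2^(2m+1)) with m ≥ 1, or the Tits group, then there is an element x of M of odd order such that every non-identity element of M is a product of two conjugates of x. -/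
theorem result {M : Type*} [Group M] [Finite M] (hM : Cfsg.Lie.Iso2F4 M ∨ Cfsg.Lie.IsoTits M) :
    ∃ x : M, Odd (orderOf x) ∧ ∀ g : M, g ≠ 1 → ∃ u v : M, g = (u * x * u⁻¹) * (v * x * v⁻¹) := by
  have key : ∀ {G : Type} [Group G] (e : M ≃* G) (x : G), Odd (orderOf x) →
      (∀ g : G, g ≠ 1 → ∃ u v : G, g = (u * x * u⁻¹) * (v * x * v⁻¹)) →
      ∃ x : M, Odd (orderOf x) ∧
        ∀ g : M, g ≠ 1 → ∃ u v : M, g = (u * x * u⁻¹) * (v * x * v⁻¹) := by
    intro G _ e x hx hc
    refine ⟨e.symm x, by rwa [MulEquiv.orderOf_eq], fun g hg => ?_⟩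
    obtain ⟨u, v, h⟩ := hc (e g) fun h => hg (e.injective (by rw [h, map_one]))
    refine ⟨e.symm u, e.symm v, ?_⟩
    rw [← e.symm_apply_apply g, h]
    simp only [map_mul, map_inv]
  rcases hM with ⟨K, _, _, m, hm, hK, ⟨e⟩⟩ | hT
  · obtain ⟨hchar, hn⟩ := CfsgLib.Twisted.setupF4 K hK
    obtain ⟨x, hx, hc⟩ := CfsgLib.LargeReeSquare.cover (K := K) (m := m) hn hm
    exact key e x hx fun g _ => hc g
  · obtain ⟨e⟩ : Nonempty (M ≃* Cfsg.Lie.TitsGroup) := hT
    obtain ⟨x, hx, hc⟩ := CfsgLib.TitsSquare.cover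
    refine ⟨e.symm x, (orderOf_injective e.symm.toMonoidHom e.symm.injective x).symm ▸ hx,
      fun g hg => ?_⟩
    obtain ⟨u, v, h⟩ := hc (e g) fun h => hg (e.injective (h.trans (map_one e).symm))
    refine ⟨e.symm u, e.symm v, ?_⟩
    have h' := (e.symm_apply_apply g).symm.trans (congrArg e.symm h)
    simpa only [map_mul, map_inv] using h'

end Cfsg.Agent.S2463
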