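import Cfsg.Statements.S2466
import Mathlib
import Cfsg.Agent.Lib.Recog.PermSpectrum

set_option autoImplicit false
open Cfsg

namespace Cfsg.Agent.S2466

theorem exists_mem_dvd_of_prime_dvd_lcm {p : ℕ} (hp : p.Prime) {m : Multiset ℕ}
    (h : p ∣ m.lcm) : ∃ a ∈ m, p ∣ a := by
  induction m using Multiset.induction_on with
  | empty => simp at h; exact absurd h hp.one_lt.ne'
  | cons a t ih =>
    rw [Multiset.lcm_cons, lcm_eq_nat_lcm] at h
    rcases hp.dvd_mul.1 (h.trans (Nat.lcm_dvd_mul a t.lcm)) with h | h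
    · exact ⟨a, Multiset.mem_cons_self a t, h⟩
    · obtain ⟨b, hb, hpb⟩ := ih h
      exact ⟨b, Multiset.mem_cons_of_mem hb, hpb⟩

/-- Adjacency of odd primes in the prime graph of the alternating groups: let r ≠ s be odd primes at most n. The alternating group of degree n has an element of order r·s if and only if r + s ≤ n. -/
theorem result (n r s : ℕ) (hr : r.Prime) (hs : s.Prime) (hr2 : r ≠ 2) (hs2 : s ≠ 2) (hrs : r ≠ s) (hrn : r ≤ n) (hsn : s ≤ n) :
    (r * s ∈ Set.range (orderOf : alternatingGroup (Fin n) → ℕ)) ↔ r + s ≤ n := by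
  constructor
  · rintro ⟨g, hg⟩
    have hsum : (g : Equiv.Perm (Fin n)).cycleType.sum ≤ n := by
      rw [Equiv.Perm.sum_cycleType]
      exact (Finset.card_le_univ _).trans (Fintype.card_fin n).le
    have hlcm : (g : Equiv.Perm (Fin n)).cycleType.lcm = r * s := by
      rw [Equiv.Perm.lcm_cycleType, Subgroup.orderOf_coe, hg]
    obtain ⟨a, ha, hra⟩ := exists_mem_dvd_of_prime_dvd_lcm hr (hlcm ▸ dvd_mul_right r s)
    obtain ⟨b, hb, hsb⟩ := exists_mem_dvd_of_prime_dvd_lcm hs (hlcm ▸ dvd_mul_left s r)
    have ha2 := Equiv.Perm.two_le_of_mem_cycleType ha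
    have hb2 := Equiv.Perm.two_le_of_mem_cycleType hb
    obtain ⟨t, ht⟩ := Multiset.exists_cons_of_mem ha
    rw [ht, Multiset.sum_cons] at hsum
    by_cases hab : b = a
    · subst hab
      have h1 := Nat.le_of_dvd (by omega) ((Nat.Coprime.mul_dvd_of_dvd_of_dvd
        ((Nat.coprime_primes hr hs).2 hrs) hra hsb))
      have h2 : r + s ≤ r * s := Nat.add_le_mul hr.two_le hs.two_le
      omega
    · have hbt : b ∈ t := by
        rw [ht, Multiset.mem_cons] at hb
        exact hb.resolve_left hab
      have h1 := Nat.le_of_dvd (by omega) hra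
      have h2 := Nat.le_of_dvd (by omega) hsb
      have h3 := Multiset.le_sum_of_mem hbt
      omega
  · intro h
    have hev : (r + s + 2) % 2 = 0 := by
      have := hr.eq_two_or_odd.resolve_left hr2
      have := hs.eq_two_or_odd.resolve_left hs2
      omega
    have := CfsgLib.Recog.mem_range_orderOf_alternating (n := n) {r, s} (by simpa using h)
      (by intro a ha; simp at ha; rcases ha with rfl | rfl; exacts [hr.two_le, hs.two_le])
      (by simpa using hev)
    simpa [lcm_eq_nat_lcm, Nat.Coprime.lcm_eq_mul ((Nat.coprime_primes hr hs).2 hrs)] using this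

end Cfsg.Agent.S2466
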