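import Cfsg.Statements.S2467
import Mathlib
import Cfsg.Agent.S2466

set_option autoImplicit false
open Cfsg

namespace Cfsg.Agent.S2467

/-- Adjacency of 2 and an odd prime in the prime graph of the alternating groups: let r be an odd prime at most n, with n ≥ 4. The alternating group of degree n has an element of order 2r if and only if r + 4 ≤ n. -/
theorem result (n r : ℕ) (hn : 4 ≤ n) (hr : r.Prime) (hr2 : r ≠ 2) (hrn : r ≤ n) :
    (2 * r ∈ Set.range (orderOf : alternatingGroup (Fin n) → ℕ)) ↔ r + 4 ≤ n := by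
  constructor
  · rintro ⟨g, hg⟩
    have hsum : (g : Equiv.Perm (Fin n)).cycleType.sum ≤ n := by
      rw [Equiv.Perm.sum_cycleType]
      exact (Finset.card_le_univ _).trans (Fintype.card_fin n).le
    have hev : ((g : Equiv.Perm (Fin n)).cycleType.sum +
        Multiset.card (g : Equiv.Perm (Fin n)).cycleType) % 2 = 0 := by
      have hs := Equiv.Perm.sign_of_cycleType (g : Equiv.Perm (Fin n))
      rw [Equiv.Perm.mem_alternatingGroup.1 g.2] at hs
      exact Nat.even_iff.1 ((neg_one_pow_eq_one_iff_even (by decide)).1 hs.symm)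
    have hlcm : (g : Equiv.Perm (Fin n)).cycleType.lcm = 2 * r := by
      rw [Equiv.Perm.lcm_cycleType, Subgroup.orderOf_coe, hg]
    have hdvd : ∀ a ∈ (g : Equiv.Perm (Fin n)).cycleType, a ∣ 2 * r :=
      fun a ha => hlcm ▸ Multiset.dvd_lcm ha
    have htwo : ∀ a ∈ (g : Equiv.Perm (Fin n)).cycleType, 2 ≤ a :=
      fun a ha => Equiv.Perm.two_le_of_mem_cycleType ha
    obtain ⟨a, ha, hra⟩ := Cfsg.Agent.S2466.exists_mem_dvd_of_prime_dvd_lcm hr
      (hlcm ▸ dvd_mul_left r 2)
    obtain ⟨b, hb, hsb⟩ := Cfsg.Agent.S2466.exists_mem_dvd_of_prime_dvd_lcm Nat.prime_two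
      (hlcm ▸ dvd_mul_right 2 r)
    have ha2 := htwo a ha
    have hb2 := htwo b hb
    have hr3 := hr.two_le
    obtain ⟨t, ht⟩ := Multiset.exists_cons_of_mem ha
    rw [ht, Multiset.sum_cons, Multiset.card_cons] at hev
    rw [ht, Multiset.sum_cons] at hsum
    have h1 := Nat.le_of_dvd (by omega) hra
    by_cases haeven : a % 2 = 0
    · have hne : t ≠ 0 := by
        rintro rfl
        simp at hev
        omega
      obtain ⟨c, hc⟩ := Multiset.exists_mem_of_ne_zero hne
      have h3 := Multiset.le_sum_of_mem hc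
      have h4 := htwo c (ht ▸ Multiset.mem_cons_of_mem hc)
      have h5 : 2 * r ≤ a := Nat.le_of_dvd (by omega)
        (((Nat.coprime_primes Nat.prime_two hr).2 (Ne.symm hr2)).mul_dvd_of_dvd_of_dvd
          (Nat.dvd_of_mod_eq_zero haeven) hra)
      omega
    · have hbt : b ∈ t := by
        rw [ht, Multiset.mem_cons] at hb
        refine hb.resolve_left ?_
        rintro rfl
        omega
      obtain ⟨u, hu⟩ := Multiset.exists_cons_of_mem hbt
      rw [hu, Multiset.sum_cons, Multiset.card_cons] at hev
      rw [hu, Multiset.sum_cons] at hsum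
      have hbeven : b % 2 = 0 := Nat.mod_eq_zero_of_dvd hsb
      have hne : u ≠ 0 := by
        rintro rfl
        simp at hev
        omega
      obtain ⟨c, hc⟩ := Multiset.exists_mem_of_ne_zero hne
      have h3 := Multiset.le_sum_of_mem hc
      have h4 := htwo c (ht ▸ Multiset.mem_cons_of_mem (hu ▸ Multiset.mem_cons_of_mem hc))
      omega
  · intro h
    have hev : (r + 4 + 3) % 2 = 0 := by
      have := hr.eq_two_or_odd.resolve_left hr2
      omega
    have := CfsgLib.Recog.mem_range_orderOf_alternating (n := n) {r, 2, 2}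
      (by simp; omega)
      (by intro a ha; simp at ha; rcases ha with rfl | rfl; exacts [hr.two_le, le_rfl])
      (by simp; omega)
    simpa [lcm_eq_nat_lcm, Nat.Coprime.lcm_eq_mul ((Nat.coprime_primes hr Nat.prime_two).2 hr2),
      Nat.mul_comm r 2] using this

end Cfsg.Agent.S2467
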