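import Cfsg.Statements.S2468
import Mathlib
import Cfsg.Agent.Lib.SpecLin.PrimeGraph

set_option autoImplicit false
open Cfsg

namespace Cfsg.Agent.S2468

/-- Adjacency of two odd primes in the prime graph of PSL(n,q): let F be a finite field of characteristic p with q elements, n ≥ 2 with PSL(n,F) simple, and let r ≠ s be odd primes different from p dividing the order of PSL(n,F). Let k and l be the multiplicative orders of q modulo r and modulo s, and suppose 2 ≤ k ≤ l. Then PSL(n,F) has NO element of order r·s if and only if k + l > n and k does not divide l. -/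
theorem result {F : Type*} [Field F] [Fintype F] (p : ℕ) [Fact p.Prime] [CharP F p] (n : ℕ) (hn : 2 ≤ n) (hsmall : n = 2 → 4 ≤ Fintype.card F)
    (r s : ℕ) (hr : r.Prime) (hs : s.Prime) (hr2 : r ≠ 2) (hs2 : s ≠ 2) (hrp : r ≠ p) (hsp : s ≠ p) (hrs : r ≠ s)
    (hrG : r ∣ Nat.card (Matrix.ProjectiveSpecialLinearGroup (Fin n) F)) (hsG : s ∣ Nat.card (Matrix.ProjectiveSpecialLinearGroup (Fin n) F))
    (k l : ℕ) (hk : k = orderOf ((Fintype.card F : ℕ) : ZMod r)) (hl : l = orderOf ((Fintype.card F : ℕ) : ZMod s))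
    (h2k : 2 ≤ k) (hkl : k ≤ l) :
    (r * s ∉ Set.range (orderOf : Matrix.ProjectiveSpecialLinearGroup (Fin n) F → ℕ)) ↔ (n < k + l ∧ ¬ k ∣ l) := by
  classical
  have := Fact.mk hr
  have := Fact.mk hs
  have hk1 : orderOf ((Fintype.card F : ℕ) : ZMod r) ≠ 1 := by omega
  have hl1 : orderOf ((Fintype.card F : ℕ) : ZMod s) ≠ 1 := by omega
  have hln : l ≤ n := hl ▸ (CfsgLib.SpecLin.PrimeGraph.order_le (by omega) p hsp hsG).1
  have hcop : Nat.Coprime (r * s) (Fintype.card F - 1) :=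
    Nat.Coprime.mul_left
      ((Nat.Prime.coprime_iff_not_dvd hr).2 (CfsgLib.SpecLin.PrimeGraph.not_dvd_card_sub_one hk1))
      ((Nat.Prime.coprime_iff_not_dvd hs).2 (CfsgLib.SpecLin.PrimeGraph.not_dvd_card_sub_one hl1))
  have hcrs : Nat.Coprime r s := (Nat.coprime_primes hr hs).2 hrs
  rw [CfsgLib.SpecLin.PrimeGraph.exists_order_iff (by omega) hcop]
  constructor
  · intro hno
    refine ⟨?_, fun hdiv => ?_⟩
    · by_contra hle
      push Not at hle
      obtain ⟨A, hA, hAo⟩ := CfsgLib.SpecLin.PSLOrders.exists_singer (F := F) (d := k) (by omega)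
      obtain ⟨B, hB, hBo⟩ := CfsgLib.SpecLin.PSLOrders.exists_singer (F := F) (d := l) (by omega)
      obtain ⟨B', hB', hBo'⟩ :=
        CfsgLib.SpecLin.PrimeGraph.exists_block_det (show l ≤ n - k by omega) B hB
      obtain ⟨φ, hφ, hdet, -⟩ :=
        CfsgLib.SpecLin.PrimeGraph.exists_blocks (F := F) (show k + (n - k) = n by omega)
      let M : Matrix.SpecialLinearGroup (Fin n) F := ⟨φ (A, B'), by rw [hdet, hA, hB', mul_one]⟩
      have hd : r * s ∣ orderOf M := by
        rw [← CfsgLib.SpecLin.PrimeGraph.orderOf_coe M]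
        show r * s ∣ orderOf (φ (A, B'))
        rw [orderOf_injective φ hφ, Prod.orderOf, hAo, hBo', hBo]
        exact hcrs.mul_dvd_of_dvd_of_dvd
          ((CfsgLib.SpecLin.PrimeGraph.dvd_cyc hk1 (hk ▸ dvd_rfl)).trans (Nat.dvd_lcm_left _ _))
          ((CfsgLib.SpecLin.PrimeGraph.dvd_cyc hl1 (hl ▸ dvd_rfl)).trans (Nat.dvd_lcm_right _ _))
      obtain ⟨y, hy⟩ := CfsgLib.SpecLin.exists_orderOf_eq_of_dvd (orderOf_pos M).ne' hd
      exact hno ⟨y, (CfsgLib.SpecLin.PrimeGraph.orderOf_coe y).trans hy⟩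
    · obtain ⟨A, hA, hAo⟩ := CfsgLib.SpecLin.PSLOrders.exists_singer (F := F) (d := l) (by omega)
      obtain ⟨A', hA', hAo'⟩ := CfsgLib.SpecLin.PrimeGraph.exists_block_det hln A hA
      let M : Matrix.SpecialLinearGroup (Fin n) F := ⟨A', hA'⟩
      have hd : r * s ∣ orderOf M := by
        rw [← CfsgLib.SpecLin.PrimeGraph.orderOf_coe M]
        show r * s ∣ orderOf A'
        rw [hAo', hAo]
        exact hcrs.mul_dvd_of_dvd_of_dvd (CfsgLib.SpecLin.PrimeGraph.dvd_cyc hk1 (hk ▸ hdiv))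
          (CfsgLib.SpecLin.PrimeGraph.dvd_cyc hl1 (hl ▸ dvd_rfl))
      obtain ⟨y, hy⟩ := CfsgLib.SpecLin.exists_orderOf_eq_of_dvd (orderOf_pos M).ne' hd
      exact hno ⟨y, (CfsgLib.SpecLin.PrimeGraph.orderOf_coe y).trans hy⟩
  · rintro ⟨hlt, hndvd⟩ ⟨M, hM⟩
    set A := (M : Matrix (Fin n) (Fin n) F)
    have hrs0 : r * s ≠ 0 := Nat.mul_ne_zero hr.ne_zero hs.ne_zero
    have hpr : ¬ p ∣ r * s := by
      intro h
      rcases (Fact.out : p.Prime).dvd_mul.1 h with h | h
      · exact hrp ((Nat.prime_dvd_prime_iff_eq Fact.out hr).1 h).symm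
      · exact hsp ((Nat.prime_dvd_prime_iff_eq Fact.out hs).1 h).symm
    have hdvd : minpoly F A ∣ Polynomial.X ^ (r * s) - 1 := by
      rw [← Polynomial.C_1]
      exact CfsgLib.SpecLin.PrimeGraph.minpoly_dvd_of_pow
        (by rw [one_smul, ← hM, pow_orderOf_eq_one])
    have hsq : Squarefree (minpoly F A) :=
      ((Polynomial.X_pow_sub_one_separable_iff.2
        (fun h => hpr ((CharP.cast_eq_zero_iff F p _).1 h))).of_dvd hdvd).squarefree
    have hne : minpoly F A ≠ 0 := minpoly.ne_zero (Matrix.isIntegral A)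
    have hfac : ∀ a : ℕ, a ≠ 0 → a < r * s → ∃ g, Irreducible g ∧ g ∣ minpoly F A ∧
        ¬ g ∣ Polynomial.X ^ a - 1 := by
      intro a ha0 halt
      refine CfsgLib.SpecLin.PrimeGraph.exists_irreducible_not_dvd hne hsq fun h => ?_
      rw [← Polynomial.C_1] at h
      have h' := CfsgLib.SpecLin.PrimeGraph.pow_eq_of_minpoly_dvd h
      rw [one_smul] at h'
      exact absurd (Nat.le_of_dvd (Nat.pos_of_ne_zero ha0)
        (hM ▸ orderOf_dvd_of_pow_eq_one h')) (by omega)
    obtain ⟨g, hg, hgd, hgs⟩ := hfac s hs.ne_zero (lt_mul_left hs.pos hr.one_lt)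
    obtain ⟨g', hg', hgd', hgr⟩ := hfac r hr.ne_zero (lt_mul_right hr.pos hs.one_lt)
    obtain ⟨h1, -⟩ := CfsgLib.SpecLin.PrimeGraph.order_dvd_natDegree hg (r := r) (a := r * s) rfl
      (hgd.trans hdvd) hgs hrs0
    obtain ⟨h2, -⟩ := CfsgLib.SpecLin.PrimeGraph.order_dvd_natDegree hg' (r := s) (a := r * s)
      (Nat.mul_comm r s) (hgd'.trans hdvd) hgr hrs0
    rw [← hk] at h1
    rw [← hl] at h2
    have hn' := CfsgLib.SpecLin.PrimeGraph.natDegree_minpoly_le A
    by_cases hass : Associated g g'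
    · have hdeg : g'.natDegree = g.natDegree :=
        (Polynomial.natDegree_eq_of_degree_eq (Polynomial.degree_eq_degree_of_associated hass)).symm
      rw [hdeg] at h2
      have h3 := Nat.le_of_dvd hg.natDegree_pos h2
      have h4 := Polynomial.natDegree_le_of_dvd hgd hne
      obtain ⟨c, hc⟩ := h2
      have hc1 : c ≠ 1 := by rintro rfl; rw [mul_one] at hc; exact hndvd (hc ▸ h1)
      have hc0 : c ≠ 0 := by rintro rfl; rw [mul_zero] at hc; exact hg.natDegree_pos.ne' hc
      have : l * 2 ≤ g.natDegree := hc ▸ Nat.mul_le_mul_left l (by omega)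
      omega
    · have hco : IsCoprime g g' := (hg.coprime_iff_not_dvd).2 fun h => hass (hg.associated_of_dvd hg' h)
      have h4 := Polynomial.natDegree_le_of_dvd (hco.mul_dvd hgd hgd') hne
      rw [Polynomial.natDegree_mul hg.ne_zero hg'.ne_zero] at h4
      have h5 := Nat.le_of_dvd hg.natDegree_pos h1
      have h6 := Nat.le_of_dvd hg'.natDegree_pos h2
      omega

end Cfsg.Agent.S2468
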