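import Cfsg.Statements.S2469
import Mathlib
import Cfsg.Agent.Lib.SpecSp.PrimeGraph

set_option autoImplicit false
open Cfsg

namespace Cfsg.Agent.S2469

/-- Adjacency of two odd primes in the prime graph of PSp(2n,q): let F be a finite field of characteristic p with q elements, n ≥ 2 with PSp(2n,F) simple, and let r ≠ s be odd primes different from p dividing the order of PSp(2n,F). Let k, l be the multiplicative orders of q modulo r and s, put η(m) = m for odd m and η(m) = m/2 for even m, and suppose η(k) ≤ η(l). Then PSp(2n,F) has NO element of order r·s if and only if η(k) + η(l) > n and l/k is not an odd integer. -/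
theorem result {F : Type*} [Field F] [Fintype F] (p : ℕ) [Fact p.Prime] [CharP F p] (n : ℕ) (hn : 2 ≤ n) (hsmall : n = 2 → 3 ≤ Fintype.card F)
    (r s : ℕ) (hr : r.Prime) (hs : s.Prime) (hr2 : r ≠ 2) (hs2 : s ≠ 2) (hrp : r ≠ p) (hsp : s ≠ p) (hrs : r ≠ s)
    (hrG : r ∣ Nat.card (Cfsg.PSp n F)) (hsG : s ∣ Nat.card (Cfsg.PSp n F))
    (k l ηk ηl : ℕ) (hk : k = orderOf ((Fintype.card F : ℕ) : ZMod r)) (hl : l = orderOf ((Fintype.card F : ℕ) : ZMod s))
    (hηk : (Odd k ∧ ηk = k) ∨ (Even k ∧ 2 * ηk = k)) (hηl : (Odd l ∧ ηl = l) ∨ (Even l ∧ 2 * ηl = l)) (hkl : ηk ≤ ηl) :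
    (r * s ∉ Set.range (orderOf : Cfsg.PSp n F → ℕ)) ↔ (n < ηk + ηl ∧ ¬ ∃ t : ℕ, Odd t ∧ l = k * t) := by
  classical
  have := Fact.mk hr
  have := Fact.mk hs
  have hp : p.Prime := Fact.out
  obtain ⟨han, hk0⟩ := CfsgLib.SpecSp.PrimeGraph.eta_le (F := F) (r := r) p hrp hrG hk hηk
  obtain ⟨hbn, hl0⟩ := CfsgLib.SpecSp.PrimeGraph.eta_le (F := F) (r := s) p hsp hsG hl hηl
  have hcrs : Nat.Coprime r s := (Nat.coprime_primes hr hs).2 hrs
  have hcop : Nat.Coprime (r * s) (Nat.gcd 2 (Fintype.card F - 1)) := by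
    refine Nat.Coprime.mul_left ?_ ?_
    · exact hr.coprime_iff_not_dvd.2 fun h =>
        hr2 ((Nat.prime_dvd_prime_iff_eq hr Nat.prime_two).1 (h.trans (Nat.gcd_dvd_left _ _)))
    · exact hs.coprime_iff_not_dvd.2 fun h =>
        hs2 ((Nat.prime_dvd_prime_iff_eq hs Nat.prime_two).1 (h.trans (Nat.gcd_dvd_left _ _)))
  have hrs0 : ((r * s : ℕ) : F) ≠ 0 := fun h => by
    rcases hp.dvd_mul.1 ((CharP.cast_eq_zero_iff F p _).1 h) with h' | h'
    · exact hrp ((Nat.prime_dvd_prime_iff_eq hp hr).1 h').symm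
    · exact hsp ((Nat.prime_dvd_prime_iff_eq hp hs).1 h').symm
  have hrs1 : 1 ≤ r * s := Nat.mul_pos hr.pos hs.pos
  rw [CfsgLib.SpecSp.PrimeGraph.exists_order_iff (by omega) hcop]
  constructor
  · intro hno
    refine ⟨?_, ?_⟩
    · by_contra hle
      obtain ⟨T, hT, -⟩ := CfsgLib.SpecSp.PrimeGraph.exists_torus (F := F) hk hk0 hηk odd_one
      obtain ⟨U, hU, -⟩ := CfsgLib.SpecSp.PrimeGraph.exists_torus (F := F) hl hl0 hηl odd_one
      obtain ⟨M, hM⟩ := CfsgLib.SpecSp.PrimeGraph.exists_sum (n := n) (by omega) T U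
      exact hno ⟨M, hM ▸ hcrs.mul_dvd_of_dvd_of_dvd (hT.trans (Nat.dvd_lcm_left _ _))
        (hU.trans (Nat.dvd_lcm_right _ _))⟩
    · rintro ⟨t, ht, hlt⟩
      have hb : ηk * t = ηl := by
        rcases hηk with ⟨hko, rfl⟩ | ⟨hke, h2⟩
        · have hlo : Odd l := hlt ▸ hko.mul ht
          rcases hηl with ⟨-, rfl⟩ | ⟨hle, -⟩
          · exact hlt.symm
          · exact absurd hle (Nat.not_even_iff_odd.2 hlo)
        · have hle : Even l := hlt ▸ hke.mul_right t
          rcases hηl with ⟨hlo, -⟩ | ⟨-, h2'⟩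
          · exact absurd hle (Nat.not_even_iff_odd.2 hlo)
          · subst h2
            rw [mul_assoc] at hlt
            omega
      obtain ⟨T, hT, hTo⟩ := CfsgLib.SpecSp.PrimeGraph.exists_torus (F := F) hk hk0 hηk ht
      obtain ⟨U, hU, hUo⟩ := CfsgLib.SpecSp.PrimeGraph.exists_torus (F := F) hl hl0 hηl odd_one
      obtain ⟨M, hM⟩ := CfsgLib.SpecSp.PrimeGraph.exists_pad (n := n) (hb ▸ hbn) T
      have hUT : orderOf U = orderOf T := by
        have hiff : Odd l ↔ Odd k := by rw [hlt, Nat.odd_mul]; exact and_iff_left ht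
        rw [hTo, hUo, mul_one, hb]
        by_cases h : Odd k
        · rw [if_pos h, if_pos (hiff.2 h)]
        · rw [if_neg h, if_neg (fun h' => h (hiff.1 h'))]
      exact hno ⟨M, hM ▸ hcrs.mul_dvd_of_dvd_of_dvd hT (hUT ▸ hU)⟩
  · rintro ⟨hbig, hnt⟩ ⟨M₀, hM₀⟩
    obtain ⟨M, hM⟩ := CfsgLib.SpecLin.exists_orderOf_eq_of_dvd (orderOf_pos M₀).ne' hM₀
    have : Nonempty (Fin n) := ⟨⟨0, by omega⟩⟩
    have hμ : minpoly F M.1 ≠ 0 := minpoly.ne_zero (Matrix.isIntegral M.1)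
    have hf : Squarefree (Polynomial.X ^ (r * s) - Polynomial.C (1 : F)) :=
      (Polynomial.separable_X_pow_sub_C (1 : F) hrs0 one_ne_zero).squarefree
    rw [map_one] at hf
    have hd := CfsgLib.SpecSp.PrimeGraph.minpoly_dvd_X_pow_sub_one hM.dvd
    have hsq : Squarefree (minpoly F M.1) := hf.squarefree_of_dvd hd
    have hle := CfsgLib.SpecSp.PrimeGraph.natDegree_minpoly_le M
    have hnr : ¬ minpoly F M.1 ∣ Polynomial.X ^ r - 1 := fun h => by
      have h' := hM ▸ CfsgLib.SpecSp.PrimeGraph.orderOf_dvd_of_minpoly_dvd h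
      have := Nat.le_of_dvd hr.pos h'
      have := Nat.mul_le_mul_left r hs.two_le
      have := hr.pos
      omega
    have hns : ¬ minpoly F M.1 ∣ Polynomial.X ^ s - 1 := fun h => by
      have h' := hM ▸ CfsgLib.SpecSp.PrimeGraph.orderOf_dvd_of_minpoly_dvd h
      have := Nat.le_of_dvd hs.pos h'
      have := Nat.mul_le_mul_right s hr.two_le
      have := hs.pos
      omega
    obtain ⟨g₁, hg₁, hg₁μ, hg₁s⟩ :=
      CfsgLib.SpecLin.PrimeGraph.exists_irreducible_not_dvd hμ hsq hns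
    obtain ⟨g₂, hg₂, hg₂μ, hg₂r⟩ :=
      CfsgLib.SpecLin.PrimeGraph.exists_irreducible_not_dvd hμ hsq hnr
    by_cases hcommon : ∃ g : Polynomial F, Irreducible g ∧ g ∣ minpoly F M.1 ∧
        ¬ g ∣ Polynomial.X ^ r - 1 ∧ ¬ g ∣ Polynomial.X ^ s - 1
    · obtain ⟨g, hg, hgμ, hgr, hgs⟩ := hcommon
      have hgd := hgμ.trans hd
      obtain ⟨hkd, -⟩ := CfsgLib.SpecLin.PrimeGraph.order_dvd_natDegree hg rfl hgd hgs (by omega)
      obtain ⟨hld, -⟩ :=
        CfsgLib.SpecLin.PrimeGraph.order_dvd_natDegree hg (mul_comm r s) hgd hgr (by omega)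
      rw [← hk] at hkd
      rw [← hl] at hld
      have hd1 := hg.natDegree_pos
      by_cases hself : g ∣ g.reverse
      · obtain ⟨j, hj, hdj, hrj⟩ := CfsgLib.SpecSp.PrimeGraph.self_case hr hr2 rfl hrs1 hg hgd hgs hself
        obtain ⟨j', -, hdj', hsj⟩ :=
          CfsgLib.SpecSp.PrimeGraph.self_case hs hs2 (mul_comm r s) hrs1 hg hgd hgr hself
        obtain rfl : j = j' := by omega
        obtain ⟨hk1, hk2⟩ := CfsgLib.SpecSp.PrimeGraph.of_dvd_pow_add_one hk hr2 hrj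
        obtain ⟨hl1, hl2⟩ := CfsgLib.SpecSp.PrimeGraph.of_dvd_pow_add_one hl hs2 hsj
        have hke := CfsgLib.SpecSp.PrimeGraph.even_of_dvd_two_mul hk1 hk2
        have hle' := CfsgLib.SpecSp.PrimeGraph.even_of_dvd_two_mul hl1 hl2
        obtain ⟨-, hak⟩ := hηk.resolve_left fun h => (Nat.not_even_iff_odd.2 h.1) hke
        obtain ⟨-, hal⟩ := hηl.resolve_left fun h => (Nat.not_even_iff_odd.2 h.1) hle'
        subst hak
        subst hal
        obtain ⟨u, hu⟩ := (Nat.mul_dvd_mul_iff_left two_pos).1 hk1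
        obtain ⟨v, hv⟩ := (Nat.mul_dvd_mul_iff_left two_pos).1 hl1
        have hdeg := (Polynomial.natDegree_le_of_dvd hgμ hμ).trans hle
        have hv1 : v = 1 := by
          rcases v with _ | _ | v
          · omega
          · rfl
          · exfalso
            have : ηl * 2 ≤ j := hv ▸ Nat.mul_le_mul_left ηl (by omega)
            omega
        rw [hv1, mul_one] at hv
        refine hnt ⟨u, ?_, ?_⟩
        · rw [← Nat.not_even_iff_odd]
          rintro ⟨w, hw⟩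
          exact hk2 ⟨w, by rw [hu, hw]; ring⟩
        · rw [mul_assoc, ← hu, hv]
      · obtain ⟨hpair, hdeg⟩ := CfsgLib.SpecSp.PrimeGraph.pair_dvd (by omega) M hg hgμ hself
        have h2d := (Polynomial.natDegree_le_of_dvd hpair hμ).trans hle
        obtain ⟨v, hv⟩ := hld
        rcases hηl with ⟨hlo, rfl⟩ | ⟨hle', hb⟩
        · by_cases hv1 : v = 1
          · rw [hv1, mul_one] at hv
            rw [hv] at hkd
            obtain ⟨u, hu⟩ := hkd
            exact hnt ⟨u, (Nat.odd_mul.1 (hu ▸ hlo)).2, hu⟩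
          · have hv2 : 2 ≤ v := by
              rcases v with _ | _ | v
              · omega
              · exact absurd rfl hv1
              · omega
            have : ηl * 2 ≤ g.natDegree := hv ▸ Nat.mul_le_mul_left ηl hv2
            omega
        · have := Nat.le_of_dvd hd1 (Dvd.intro v hv.symm)
          omega
    · push Not at hcommon
      have hg₁r : g₁ ∣ Polynomial.X ^ r - 1 := by
        by_contra h
        exact hg₁s (hcommon g₁ hg₁ hg₁μ h)
      have hg₂s : g₂ ∣ Polynomial.X ^ s - 1 := hcommon g₂ hg₂ hg₂μ hg₂r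
      obtain ⟨P₁, hP₁, hd₁, -, hco⟩ := CfsgLib.SpecSp.PrimeGraph.eta_bound hr2 hk hηk rfl hrs1
        (by omega) M hg₁ hg₁μ (hg₁μ.trans hd) hg₁s
      obtain ⟨P₂, hP₂, hd₂, hP₂f, -⟩ := CfsgLib.SpecSp.PrimeGraph.eta_bound hs2 hl hηl (mul_comm r s)
        hrs1 (by omega) M hg₂ hg₂μ (hg₂μ.trans hd) hg₂r
      have hg₁0 := CfsgLib.SpecSp.PrimeGraph.coeff_zero_of_dvd_X_pow_sub_one hr.one_le hg₁r
      have hns₁ : ¬ g₁.reverse ∣ Polynomial.X ^ s - 1 := fun h => hg₁s (by
        have := CfsgLib.SpecSp.PrimeGraph.reverse_dvd_X_pow_sub_one h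
        rwa [CfsgLib.SpecSp.reverse_reverse_eq hg₁0] at this)
      have hcop12 : IsCoprime P₁ P₂ := (hco _ hg₁s hns₁).of_isCoprime_of_dvd_right
        (hP₂f _ hg₂s (CfsgLib.SpecSp.PrimeGraph.reverse_dvd_X_pow_sub_one hg₂s))
      have h12 := Polynomial.natDegree_le_of_dvd (hcop12.mul_dvd hP₁ hP₂) hμ
      rw [Polynomial.natDegree_mul (ne_zero_of_dvd_ne_zero hμ hP₁) (ne_zero_of_dvd_ne_zero hμ hP₂)] at h12
      omega

end Cfsg.Agent.S2469
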