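import Cfsg.Statements.S2470
import Mathlib
import Cfsg.Agent.Lib.SpecLin.PrimeGraph

set_option autoImplicit false
open Cfsg

namespace Cfsg.Agent.S2470

/-- Adjacency of an odd prime and the characteristic in the prime graph of PSL(n,q): let F be a finite field of characteristic p with q elements, n ≥ 2 with PSL(n,F) simple, and let r ≠ p be an odd prime dividing the order of PSL(n,F), with k the multiplicative order of q modulo r. Then PSL(n,F) has NO element of order r·p if and only if either k > n − 2, or n = 3, r = 3 and 3 divides q − 1 exactly once. -/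
theorem result {F : Type*} [Field F] [Fintype F] (p : ℕ) [Fact p.Prime] [CharP F p] (n : ℕ) (hn : 2 ≤ n) (hsmall : n = 2 → 4 ≤ Fintype.card F)
    (r : ℕ) (hr : r.Prime) (hr2 : r ≠ 2) (hrp : r ≠ p) (hrG : r ∣ Nat.card (Matrix.ProjectiveSpecialLinearGroup (Fin n) F))
    (k : ℕ) (hk : k = orderOf ((Fintype.card F : ℕ) : ZMod r)) :
    (r * p ∉ Set.range (orderOf : Matrix.ProjectiveSpecialLinearGroup (Fin n) F → ℕ)) ↔
      (n - 2 < k ∨ (n = 3 ∧ r = 3 ∧ 3 ∣ Fintype.card F - 1 ∧ ¬ 9 ∣ Fintype.card F - 1)) := by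
  classical
  have := Fact.mk hr
  have hp : p.Prime := Fact.out
  obtain ⟨hkn, hk0⟩ := CfsgLib.SpecLin.PrimeGraph.order_le (F := F) (r := r) (by omega : 1 ≤ n) p
    hrp hrG
  rw [← hk] at hkn hk0
  have hq1 : 1 < Fintype.card F := Fintype.one_lt_card
  have hpq : p ∣ Fintype.card F := by
    obtain ⟨f, -, hf⟩ := FiniteField.card F p
    exact hf ▸ dvd_pow_self p f.pos.ne'
  have hpq1 : ¬ p ∣ Fintype.card F - 1 := fun h => by
    have h' := Nat.dvd_sub hpq h
    rw [Nat.sub_sub_self (by omega : 1 ≤ Fintype.card F)] at h'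
    exact hp.one_lt.ne' (Nat.dvd_one.1 h')
  have hcrp : Nat.Coprime r p := (Nat.coprime_primes hr hp).2 hrp
  have hr0 : (r : F) ≠ 0 := fun h => hrp ((Nat.prime_dvd_prime_iff_eq hp hr).1
    ((CharP.cast_eq_zero_iff F p r).1 h)).symm
  constructor
  · intro hno
    by_contra hcon
    push Not at hcon
    obtain ⟨hk2, hex⟩ := hcon
    apply hno
    -- a Jordan block of size two
    let J : Matrix (Fin 2) (Fin 2) F := 1 + CfsgLib.RegUnip.shiftMat 2 F
    have hJd : J.det = 1 := CfsgLib.RegUnip.det_one_add_shiftMat 2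
    have hJo : p ∣ orderOf J := by
      simpa using CfsgLib.SpecLin.PSLOrders.regUnip_order (F := F) p (k := 2) (c := 1)
        (Or.inr (by norm_num))
    by_cases hk1 : k = 1
    · -- `r ∣ q - 1`
      have hrq : r ∣ Fintype.card F - 1 := by
        rw [← ZMod.natCast_eq_zero_iff, Nat.cast_sub (by omega : 1 ≤ Fintype.card F),
          orderOf_eq_one_iff.1 (hk.symm.trans hk1), Nat.cast_one, sub_self]
      obtain ⟨t, ht, htr⟩ : ∃ t : ℕ, t ∣ Fintype.card F - 1 ∧
          ∀ m : ℕ, (n = 3 → t ∣ 3 * m) → (n ≠ 3 → t ∣ m) → r ∣ m := by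
        by_cases h3 : n = 3 ∧ r = 3
        · refine ⟨9, hex h3.1 h3.2 (h3.2 ▸ hrq), fun m hm _ => ?_⟩
          have := hm h3.1
          rw [h3.2]
          omega
        · refine ⟨r, hrq, fun m hm hm' => ?_⟩
          by_cases hn3 : n = 3
          · exact (hr.dvd_mul.1 (hm hn3)).resolve_left fun h => h3 ⟨hn3,
              (Nat.prime_dvd_prime_iff_eq hr Nat.prime_three).1 h⟩
          · exact hm' hn3
      obtain ⟨ζ, hζ⟩ := IsCyclic.exists_generator (α := Fˣ)
      have hζo : orderOf ζ = Fintype.card F - 1 := by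
        rw [orderOf_eq_card_of_forall_mem_zpowers hζ, Nat.card_units, Nat.card_eq_fintype_card]
      obtain ⟨u, hu⟩ := CfsgLib.SpecLin.exists_orderOf_eq_of_dvd (orderOf_pos ζ).ne' (hζo ▸ ht)
      obtain ⟨φ, hφ, hdet, hscal⟩ :=
        CfsgLib.SpecLin.PrimeGraph.exists_blocks (F := F) (show 2 + (n - 2) = n by omega)
      let w : Fin (n - 2) → F := fun i => if (i : ℕ) = 0 then ((u⁻¹ : Fˣ) : F) ^ 2 else 1
      have hwd : (Matrix.diagonal w).det = ((u⁻¹ : Fˣ) : F) ^ 2 := by
        rw [Matrix.det_diagonal, Finset.prod_eq_single (⟨0, by omega⟩ : Fin (n - 2))]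
        · simp [w]
        · intro i _ hi
          simp only [w]
          rw [if_neg fun h => hi (Fin.ext h)]
        · simp
      let M : Matrix.SpecialLinearGroup (Fin n) F := ⟨φ ((u : F) • J, Matrix.diagonal w), by
        rw [hdet, hwd, Matrix.det_smul, hJd, Fintype.card_fin, mul_one, ← mul_pow,
          ← Units.val_mul, mul_inv_cancel, Units.val_one, one_pow]⟩
      set m := orderOf (QuotientGroup.mk M : Matrix.ProjectiveSpecialLinearGroup (Fin n) F) with hm
      have hc : M ^ m ∈ Subgroup.center _ := by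
        rw [← QuotientGroup.eq_one_iff, QuotientGroup.mk_pow, pow_orderOf_eq_one]
      obtain ⟨c, hc1, hcM⟩ := CfsgLib.SpecLin.PSLOrders.exists_scalar_of_mem_center hc
      rw [CfsgLib.SpecLin.PrimeGraph.mk_map_pow] at hcM
      change φ ((u : F) • J, Matrix.diagonal w) ^ m = c • 1 at hcM
      rw [← map_pow, ← hscal c] at hcM
      have hpair := hφ hcM
      simp only [Prod.pow_mk, Prod.mk.injEq, _root_.smul_pow] at hpair
      obtain ⟨hpJ, hpD⟩ := hpair
      have hum : ((u : F) ^ m) ≠ 0 := pow_ne_zero _ u.ne_zero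
      have hJs : J ^ m = (((u : F) ^ m)⁻¹ * c) • (1 : Matrix (Fin 2) (Fin 2) F) := by
        rw [mul_smul, ← hpJ, smul_smul, inv_mul_cancel₀ hum, one_smul]
      have hs1 := CfsgLib.SpecLin.PSLOrders.eq_one_of_regUnip_pow_eq_scalar (by norm_num) hJs
      have huc : (u : F) ^ m = c := by
        rw [inv_mul_eq_one₀ hum] at hs1
        exact hs1
      rw [hs1, one_smul] at hJs
      have hpm : p ∣ m := hJo.trans (orderOf_dvd_of_pow_eq_one hJs)
      rw [Matrix.diagonal_pow, Matrix.smul_one_eq_diagonal] at hpD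
      have hw0 := congrFun (Matrix.diagonal_injective hpD) ⟨0, by omega⟩
      simp only [Pi.pow_apply, w, ↓reduceIte] at hw0
      have hrm : r ∣ m := by
        refine htr m (fun _ => ?_) fun hn3 => ?_
        · rw [← hu]
          apply orderOf_dvd_of_pow_eq_one
          apply Units.ext
          rw [Units.val_pow_eq_pow_val, Units.val_one]
          rw [← huc, Units.val_inv_eq_inv_val] at hw0
          calc (u : F) ^ (3 * m) = ((u : F) ^ 2) ^ m * (u : F) ^ m := by rw [← pow_mul, ← pow_add]; ring_nf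
            _ = ((u : F) ^ 2) ^ m * ((((u : F))⁻¹) ^ 2) ^ m := by rw [hw0]
            _ = 1 := by rw [← mul_pow, ← mul_pow, mul_inv_cancel₀ u.ne_zero, one_pow, one_pow]
        · have hw1 := congrFun (Matrix.diagonal_injective hpD) ⟨1, by omega⟩
          simp only [Pi.pow_apply, w, one_ne_zero, if_false, one_pow] at hw1
          rw [← hu]
          apply orderOf_dvd_of_pow_eq_one
          apply Units.ext
          rw [Units.val_pow_eq_pow_val, Units.val_one, huc, ← hw1]
      exact CfsgLib.SpecLin.exists_orderOf_eq_of_dvd (orderOf_pos _).ne'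
        (hcrp.mul_dvd_of_dvd_of_dvd hrm hpm)
    · -- `k ≥ 2`
      obtain ⟨A, hA, hAo⟩ := CfsgLib.SpecLin.PSLOrders.exists_singer (F := F) (d := k) (by omega)
      obtain ⟨J', hJ', hJo'⟩ :=
        CfsgLib.SpecLin.PrimeGraph.exists_block_det (show 2 ≤ n - k by omega) J hJd
      obtain ⟨φ, hφ, hdet, hscal⟩ :=
        CfsgLib.SpecLin.PrimeGraph.exists_blocks (F := F) (show k + (n - k) = n by omega)
      let M : Matrix.SpecialLinearGroup (Fin n) F := ⟨φ (A, J'), by rw [hdet, hA, hJ', mul_one]⟩
      have hk1' : orderOf ((Fintype.card F : ℕ) : ZMod r) ≠ 1 := hk ▸ hk1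
      have hcop : Nat.Coprime (r * p) (Fintype.card F - 1) := Nat.Coprime.mul_left
        ((Nat.Prime.coprime_iff_not_dvd hr).2
          (CfsgLib.SpecLin.PrimeGraph.not_dvd_card_sub_one hk1'))
        ((Nat.Prime.coprime_iff_not_dvd hp).2 hpq1)
      have hd : r * p ∣ orderOf M := by
        rw [← CfsgLib.SpecLin.PrimeGraph.orderOf_coe M]
        show r * p ∣ orderOf (φ (A, J'))
        rw [orderOf_injective φ hφ, Prod.orderOf, hAo, hJo']
        exact hcrp.mul_dvd_of_dvd_of_dvd
          ((CfsgLib.SpecLin.PrimeGraph.dvd_cyc hk1' (hk ▸ dvd_rfl)).trans (Nat.dvd_lcm_left _ _))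
          (hJo.trans (Nat.dvd_lcm_right _ _))
      exact CfsgLib.SpecLin.exists_orderOf_eq_of_dvd (orderOf_pos _).ne'
        (CfsgLib.SpecLin.PrimeGraph.dvd_orderOf_mk (by omega) hcop hd)
  · rintro hcond ⟨x, hx⟩
    obtain ⟨M, rfl⟩ := QuotientGroup.mk_surjective x
    have hpow : ∀ (N : Matrix.SpecialLinearGroup (Fin n) F) (a : ℕ) (d : F),
        (N : Matrix (Fin n) (Fin n) F) ^ a = d • 1 →
          orderOf (QuotientGroup.mk N : Matrix.ProjectiveSpecialLinearGroup (Fin n) F) ∣ a :=
      fun N a d h => CfsgLib.SpecLin.PSLOrders.orderOf_mk_dvd_of_pow_eq_scalar h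
    have hnr : ¬ r * p ∣ r := fun h => by
      have := Nat.le_of_dvd hr.pos h
      nlinarith [hp.two_le, hr.two_le]
    have hnp : ¬ r * p ∣ p := fun h => by
      have := Nat.le_of_dvd hp.pos h
      nlinarith [hp.two_le, hr.two_le]
    by_cases hk1 : k = 1
    · -- `r ∣ q - 1`
      set A := (M : Matrix (Fin n) (Fin n) F) with hAdef
      have hc : M ^ (r * p) ∈ Subgroup.center _ := by
        rw [← QuotientGroup.eq_one_iff, QuotientGroup.mk_pow, ← hx, pow_orderOf_eq_one]
      obtain ⟨c, hc1, hcM⟩ := CfsgLib.SpecLin.PSLOrders.exists_scalar_of_mem_center hc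
      rw [CfsgLib.SpecLin.PrimeGraph.mk_map_pow] at hcM
      obtain ⟨c', rfl⟩ : ∃ c', c' ^ p = c := (bijective_frobenius F p).surjective c
      have hc0 : c' ≠ 0 := by
        rintro rfl
        rw [zero_pow hp.ne_zero, zero_pow (by omega : n ≠ 0)] at hc1
        exact zero_ne_one hc1
      have hμ : minpoly F A ≠ 0 := minpoly.ne_zero (Matrix.isIntegral A)
      have hsq : Squarefree (Polynomial.X ^ r - Polynomial.C c') :=
        (Polynomial.separable_X_pow_sub_C c' hr0 hc0).squarefree
      have hd : minpoly F A ∣ (Polynomial.X ^ r - Polynomial.C c') ^ p := by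
        rw [sub_pow_char, ← pow_mul, ← map_pow]
        exact CfsgLib.SpecLin.PrimeGraph.minpoly_dvd_of_pow hcM
      have hndvd : ¬ minpoly F A ∣ Polynomial.X ^ r - Polynomial.C c' := fun h =>
        hnr (hx ▸ hpow M r c' (CfsgLib.SpecLin.PrimeGraph.pow_eq_of_minpoly_dvd h))
      obtain ⟨g, hg, hgg⟩ := CfsgLib.SpecLin.PrimeGraph.exists_sq_dvd hd hndvd
      have hn' := CfsgLib.SpecLin.PrimeGraph.natDegree_minpoly_le A
      have hn3 : n ≤ 3 := by rcases hcond with h | ⟨h, -⟩ <;> omega
      have hgd := Polynomial.natDegree_le_of_dvd hgg hμ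
      rw [Polynomial.natDegree_mul hg.ne_zero hg.ne_zero] at hgd
      have hg1 : g.natDegree = 1 := by have := hg.natDegree_pos; omega
      obtain ⟨lam, hlam⟩ := Polynomial.exists_root_of_degree_eq_one
        (Polynomial.degree_eq_iff_natDegree_eq hg.ne_zero |>.2 hg1)
      have hLg : Polynomial.X - Polynomial.C lam ∣ g := Polynomial.dvd_iff_isRoot.2 hlam
      have hLL : (Polynomial.X - Polynomial.C lam) * (Polynomial.X - Polynomial.C lam) ∣ minpoly F A :=
        (mul_dvd_mul hLg hLg).trans hgg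
      have hLf : Polynomial.X - Polynomial.C lam ∣ Polynomial.X ^ r - Polynomial.C c' :=
        (Polynomial.prime_X_sub_C lam).dvd_of_dvd_pow ((dvd_of_mul_right_dvd hLL).trans hd)
      have hnL : ¬ minpoly F A ∣ (Polynomial.X - Polynomial.C lam) ^ p := by
        rw [sub_pow_char, ← map_pow]
        exact fun h => hnp (hx ▸ hpow M p _ (CfsgLib.SpecLin.PrimeGraph.pow_eq_of_minpoly_dvd h))
      obtain ⟨g1, hg1i, hg1d, hg1f, hg1L⟩ :=
        CfsgLib.SpecLin.PrimeGraph.exists_other hsq hμ hd hLf hnL
      have hco : IsCoprime ((Polynomial.X - Polynomial.C lam) * (Polynomial.X - Polynomial.C lam)) g1 := by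
        have h := (hg1i.coprime_iff_not_dvd).2 hg1L
        exact (h.mul_right h).symm
      have hdd := hco.mul_dvd hLL hg1d
      have hmul0 : (Polynomial.X - Polynomial.C lam) * (Polynomial.X - Polynomial.C lam) * g1 ≠ 0 :=
        mul_ne_zero (mul_ne_zero (Polynomial.X_sub_C_ne_zero lam) (Polynomial.X_sub_C_ne_zero lam))
          hg1i.ne_zero
      have hdeg := Polynomial.natDegree_le_of_dvd hdd hμ
      rw [Polynomial.natDegree_mul (mul_ne_zero (Polynomial.X_sub_C_ne_zero lam)
        (Polynomial.X_sub_C_ne_zero lam)) hg1i.ne_zero, Polynomial.natDegree_mul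
        (Polynomial.X_sub_C_ne_zero lam) (Polynomial.X_sub_C_ne_zero lam),
        Polynomial.natDegree_X_sub_C] at hdeg
      have hg1pos := hg1i.natDegree_pos
      have hn3' : n = 3 := by omega
      subst hn3'
      obtain h | ⟨-, hr3, h3, h9⟩ := hcond
      · omega
      subst hr3
      obtain ⟨nu, hnu⟩ := Polynomial.exists_root_of_degree_eq_one
        (Polynomial.degree_eq_iff_natDegree_eq hg1i.ne_zero |>.2 (show g1.natDegree = 1 by omega))
      have hNg : Polynomial.X - Polynomial.C nu ∣ g1 := Polynomial.dvd_iff_isRoot.2 hnu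
      have hne : nu ≠ lam := by
        rintro rfl
        exact hg1L ((Polynomial.irreducible_X_sub_C nu).associated_of_dvd hg1i hNg).symm.dvd
      have hchar : A.charpoly = (Polynomial.X - Polynomial.C lam) * (Polynomial.X - Polynomial.C lam) *
          (Polynomial.X - Polynomial.C nu) := by
        refine Polynomial.eq_of_monic_of_dvd_of_natDegree_le
          (((Polynomial.monic_X_sub_C lam).mul (Polynomial.monic_X_sub_C lam)).mul
            (Polynomial.monic_X_sub_C nu)) A.charpoly_monic ?_ ?_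
        · exact (mul_dvd_mul_left _ hNg).trans (hdd.trans (Matrix.minpoly_dvd_charpoly A))
        · rw [Matrix.charpoly_natDegree_eq_dim, Fintype.card_fin, Polynomial.natDegree_mul
            (mul_ne_zero (Polynomial.X_sub_C_ne_zero lam) (Polynomial.X_sub_C_ne_zero lam))
            (Polynomial.X_sub_C_ne_zero nu), Polynomial.natDegree_mul
            (Polynomial.X_sub_C_ne_zero lam) (Polynomial.X_sub_C_ne_zero lam),
            Polynomial.natDegree_X_sub_C, Polynomial.natDegree_X_sub_C]
      have hdet := Matrix.det_eq_sign_charpoly_coeff A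
      rw [show A.det = 1 from M.prop, hchar, Polynomial.coeff_zero_eq_eval_zero] at hdet
      simp at hdet
      have hl3 : lam ^ 3 = c' := by
        have := Polynomial.dvd_iff_isRoot.1 hLf
        simpa [sub_eq_zero] using this
      have hn3c : nu ^ 3 = c' := by
        have := Polynomial.dvd_iff_isRoot.1 (hNg.trans hg1f)
        simpa [sub_eq_zero] using this
      have hl0 : lam ≠ 0 := by rintro rfl; simp at hdet
      have h9' : lam ^ 9 = 1 := by
        have : (lam * lam * nu) ^ 3 = 1 := by rw [show lam * lam * nu = 1 by linear_combination -hdet, one_pow]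
        rw [mul_pow, mul_pow, hn3c, ← hl3] at this
        linear_combination this
      have hgcd : lam ^ Nat.gcd 9 (Fintype.card F - 1) = 1 :=
        pow_gcd_eq_one.2 ⟨h9', FiniteField.pow_card_sub_one_eq_one _ hl0⟩
      have hg3 : Nat.gcd 9 (Fintype.card F - 1) = 3 := by
        have h1 := Nat.gcd_dvd_left 9 (Fintype.card F - 1)
        have h2 := Nat.gcd_dvd_right 9 (Fintype.card F - 1)
        have h3' : 3 ∣ Nat.gcd 9 (Fintype.card F - 1) := Nat.dvd_gcd (by norm_num) h3
        have h4 := Nat.le_of_dvd (by norm_num) h1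
        have h5 : Nat.gcd 9 (Fintype.card F - 1) ≠ 9 := fun e => h9 (e ▸ h2)
        interval_cases hgd' : Nat.gcd 9 (Fintype.card F - 1) <;> omega
      rw [hg3] at hgcd
      apply hne
      have h1 : lam * lam * nu = lam * lam * lam := by
        rw [show lam * lam * nu = 1 by linear_combination -hdet]
        linear_combination -hgcd
      exact mul_left_cancel₀ (mul_ne_zero hl0 hl0) h1
    · -- `k ≥ 2`
      have hk1' : orderOf ((Fintype.card F : ℕ) : ZMod r) ≠ 1 := hk ▸ hk1
      have hcop : Nat.Coprime (r * p) (Fintype.card F - 1) := Nat.Coprime.mul_left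
        ((Nat.Prime.coprime_iff_not_dvd hr).2
          (CfsgLib.SpecLin.PrimeGraph.not_dvd_card_sub_one hk1'))
        ((Nat.Prime.coprime_iff_not_dvd hp).2 hpq1)
      have hnk : n - 2 < k := by
        rcases hcond with h | ⟨-, rfl, h3, -⟩
        · exact h
        · exact absurd h3 (CfsgLib.SpecLin.PrimeGraph.not_dvd_card_sub_one hk1')
      obtain ⟨N, hN⟩ := (CfsgLib.SpecLin.PrimeGraph.exists_order_iff (by omega) hcop).1 ⟨_, hx⟩
      set A := (N : Matrix (Fin n) (Fin n) F)
      have hμ : minpoly F A ≠ 0 := minpoly.ne_zero (Matrix.isIntegral A)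
      have hsq : Squarefree (Polynomial.X ^ r - Polynomial.C (1 : F)) :=
        (Polynomial.separable_X_pow_sub_C 1 hr0 one_ne_zero).squarefree
      have hd : minpoly F A ∣ (Polynomial.X ^ r - Polynomial.C (1 : F)) ^ p := by
        rw [sub_pow_char, ← pow_mul, ← map_pow, one_pow]
        exact CfsgLib.SpecLin.PrimeGraph.minpoly_dvd_of_pow
          (by rw [one_smul, ← hN, pow_orderOf_eq_one])
      have hndvd : ¬ minpoly F A ∣ Polynomial.X ^ r - Polynomial.C (1 : F) := fun h => by
        have h' := CfsgLib.SpecLin.PrimeGraph.pow_eq_of_minpoly_dvd h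
        rw [one_smul] at h'
        exact hnr (hN ▸ orderOf_dvd_of_pow_eq_one h')
      obtain ⟨g, hg, hgg⟩ := CfsgLib.SpecLin.PrimeGraph.exists_sq_dvd hd hndvd
      have hLf : Polynomial.X - Polynomial.C (1 : F) ∣ Polynomial.X ^ r - Polynomial.C (1 : F) :=
        Polynomial.dvd_iff_isRoot.2 (by simp)
      have hnL : ¬ minpoly F A ∣ (Polynomial.X - Polynomial.C (1 : F)) ^ p := by
        rw [sub_pow_char, ← map_pow, one_pow]
        intro h
        have h' := CfsgLib.SpecLin.PrimeGraph.pow_eq_of_minpoly_dvd h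
        rw [one_smul] at h'
        exact hnp (hN ▸ orderOf_dvd_of_pow_eq_one h')
      obtain ⟨g1, hg1i, hg1d, hg1f, hg1L⟩ :=
        CfsgLib.SpecLin.PrimeGraph.exists_other hsq hμ hd hLf hnL
      obtain ⟨hkd, -⟩ := CfsgLib.SpecLin.PrimeGraph.order_dvd_natDegree hg1i (r := r) (a := r) (b := 1)
        (Nat.mul_one r).symm (by rwa [← Polynomial.C_1]) (by rwa [pow_one, ← Polynomial.C_1]) hr.ne_zero
      rw [← hk] at hkd
      have hkle := Nat.le_of_dvd hg1i.natDegree_pos hkd
      have hn' := CfsgLib.SpecLin.PrimeGraph.natDegree_minpoly_le A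
      by_cases hass : Associated g g1
      · have hdeg : g.natDegree = g1.natDegree :=
          Polynomial.natDegree_eq_of_degree_eq (Polynomial.degree_eq_degree_of_associated hass)
        have h := Polynomial.natDegree_le_of_dvd hgg hμ
        rw [Polynomial.natDegree_mul hg.ne_zero hg.ne_zero] at h
        omega
      · have hc : IsCoprime g g1 := (hg.coprime_iff_not_dvd).2 fun h => hass (hg.associated_of_dvd hg1i h)
        have h := Polynomial.natDegree_le_of_dvd ((hc.mul_left hc).mul_dvd hgg hg1d) hμ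
        rw [Polynomial.natDegree_mul (mul_ne_zero hg.ne_zero hg.ne_zero) hg1i.ne_zero,
          Polynomial.natDegree_mul hg.ne_zero hg.ne_zero] at h
        have := hg.natDegree_pos
        omega

end Cfsg.Agent.S2470
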