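import Cfsg.Statements.S2471
import Cfsg.Agent.Lib.SpecLin.SLTwoTrace

namespace Cfsg.Agent.S2471

open Matrix CfsgLib.SpecLin.SLTwo

theorem result {F : Type*} [Field F] [Fintype F] (p : ℕ) [Fact p.Prime] [CharP F p] (hp : p ≠ 2) (h5 : 5 ≤ Fintype.card F) (g : Matrix.ProjectiveSpecialLinearGroup (Fin 2) F) :
    orderOf g ≠ 2 * p := by
  intro hg
  obtain ⟨X, rfl⟩ := QuotientGroup.mk_surjective g
  have hp3 : 3 ≤ p := by
    have := (Fact.out : p.Prime).two_le
    omega
  by_cases ht : (X : Matrix (Fin 2) (Fin 2) F).trace ^ 2 = 4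
  · have h := orderOf_dvd_of_pow_eq_one
      (show (QuotientGroup.mk X : Matrix.ProjectiveSpecialLinearGroup (Fin 2) F) ^ p = 1 by
        rw [← QuotientGroup.mk_pow, QuotientGroup.eq_one_iff]; exact pow_char_mem_center p ht)
    rw [hg] at h
    have := Nat.le_of_dvd (by omega) h
    omega
  · have h := orderOf_dvd_of_pow_eq_one
      (show (QuotientGroup.mk X : Matrix.ProjectiveSpecialLinearGroup (Fin 2) F) ^
          (Fintype.card F ^ 2 - 1) = 1 by
        rw [← QuotientGroup.mk_pow, pow_card_sq_sub_one ht, QuotientGroup.mk_one])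
    rw [hg] at h
    have h1 : p ∣ Fintype.card F ^ 2 - 1 := (dvd_mul_left p 2).trans h
    have h2 : p ∣ Fintype.card F ^ 2 :=
      dvd_pow ((CharP.cast_eq_zero_iff F p _).1 (FiniteField.cast_card_eq_zero F)) two_ne_zero
    have h3 := Nat.dvd_sub h2 h1
    rw [Nat.sub_sub_self (Nat.one_le_pow _ _ (by omega))] at h3
    have := Nat.le_of_dvd one_pos h3
    omega

end Cfsg.Agent.S2471
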