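import Cfsg.Statements.S2472
import Mathlib
import Cfsg.Agent.Lib.SpecSp.PrimeGraph

set_option autoImplicit false
open Cfsg

namespace Cfsg.Agent.S2472

/-- Adjacency of a prime and the characteristic in the prime graph of PSp(2n,q): let F be a finite field of characteristic p with q elements, n ≥ 2 with PSp(2n,F) simple, and let r ≠ p be an odd prime dividing the order of PSp(2n,F), with k the multiplicative order of q modulo r and η(k) = k for odd k, k/2 for even k. Then PSp(2n,F) has NO element of order r·p if and only if η(k) > n − 1. -/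
theorem result {F : Type*} [Field F] [Fintype F] (p : ℕ) [Fact p.Prime] [CharP F p] (n : ℕ) (hn : 2 ≤ n) (hsmall : n = 2 → 3 ≤ Fintype.card F)
    (r : ℕ) (hr : r.Prime) (hr2 : r ≠ 2) (hrp : r ≠ p) (hrG : r ∣ Nat.card (Cfsg.PSp n F))
    (k ηk : ℕ) (hk : k = orderOf ((Fintype.card F : ℕ) : ZMod r)) (hηk : (Odd k ∧ ηk = k) ∨ (Even k ∧ 2 * ηk = k)) :
    (r * p ∉ Set.range (orderOf : Cfsg.PSp n F → ℕ)) ↔ n - 1 < ηk := by
  classical
  have := Fact.mk hr
  have hp : p.Prime := Fact.out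
  obtain ⟨han, hk0⟩ := CfsgLib.SpecSp.PrimeGraph.eta_le (F := F) (r := r) p hrp hrG hk hηk
  have hr0 : (r : F) ≠ 0 := fun h => hrp ((Nat.prime_dvd_prime_iff_eq hp hr).1
    ((CharP.cast_eq_zero_iff F p r).1 h)).symm
  have hpq : p ∣ Fintype.card F := (CharP.cast_eq_zero_iff F p _).1 (FiniteField.cast_card_eq_zero F)
  have hcop : Nat.Coprime (r * p) (Nat.gcd 2 (Fintype.card F - 1)) := by
    refine Nat.Coprime.mul_left ?_ ?_
    · refine hr.coprime_iff_not_dvd.2 fun h => hr2 ?_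
      exact (Nat.prime_dvd_prime_iff_eq hr Nat.prime_two).1 (h.trans (Nat.gcd_dvd_left _ _))
    · refine hp.coprime_iff_not_dvd.2 fun h => ?_
      have h' := Nat.dvd_sub hpq (h.trans (Nat.gcd_dvd_right _ _))
      rw [Nat.sub_sub_self Fintype.card_pos] at h'
      exact hp.one_lt.ne' (Nat.dvd_one.1 h')
  rw [CfsgLib.SpecSp.PrimeGraph.exists_order_iff (by omega) hcop]
  constructor
  · intro hno
    by_contra hle
    obtain ⟨T, hT, -⟩ :=
      CfsgLib.SpecSp.PrimeGraph.exists_torus (F := F) hk hk0 hηk odd_one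
    obtain ⟨U, hU, -⟩ := CfsgLib.SpecSp.exists_regUnip_order (F := F) p (k := 1) (c := 1) le_rfl
      (Or.inr (by norm_num))
    obtain ⟨M, hM⟩ := CfsgLib.SpecSp.PrimeGraph.exists_sum (n := n) (by omega) T U
    refine hno ⟨M, hM ▸ ?_⟩
    exact ((Nat.coprime_primes hr hp).2 hrp).mul_dvd_of_dvd_of_dvd
      (hT.trans (Nat.dvd_lcm_left _ _)) (((pow_one p).symm.dvd.trans hU).trans (Nat.dvd_lcm_right _ _))
  · rintro hbig ⟨M₀, hM₀⟩
    obtain ⟨M, hM⟩ := CfsgLib.SpecLin.exists_orderOf_eq_of_dvd (orderOf_pos M₀).ne' hM₀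
    have : Nonempty (Fin n) := ⟨⟨0, by omega⟩⟩
    have hμ : minpoly F M.1 ≠ 0 := minpoly.ne_zero (Matrix.isIntegral M.1)
    have hsq : Squarefree (Polynomial.X ^ r - Polynomial.C (1 : F)) :=
      (Polynomial.separable_X_pow_sub_C (1 : F) hr0 one_ne_zero).squarefree
    rw [map_one] at hsq
    have hd : minpoly F M.1 ∣ (Polynomial.X ^ r - 1) ^ p := by
      rw [sub_pow_char, ← pow_mul, one_pow]
      exact CfsgLib.SpecSp.PrimeGraph.minpoly_dvd_X_pow_sub_one hM.dvd
    have hnL : ¬ minpoly F M.1 ∣ (Polynomial.X - 1) ^ p := fun h => by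
      rw [sub_pow_char, one_pow] at h
      have h' := hM ▸ CfsgLib.SpecSp.PrimeGraph.orderOf_dvd_of_minpoly_dvd h
      have := Nat.le_of_dvd hp.pos h'
      have := Nat.mul_le_mul_right p hr.two_le
      have := hp.pos
      omega
    have hLf : (Polynomial.X - 1 : Polynomial F) ∣ Polynomial.X ^ r - 1 := sub_one_dvd_pow_sub_one _ _
    obtain ⟨g, hg, hgμ, hgf, hgL⟩ :=
      CfsgLib.SpecLin.PrimeGraph.exists_other hsq hμ hd hLf hnL
    obtain ⟨P, hPμ, hPdeg, hPf, -⟩ :=
      CfsgLib.SpecSp.PrimeGraph.eta_bound hr2 hk hηk (mul_one r).symm hr.one_le (by omega) M hg hgμ hgf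
        (by rwa [pow_one])
    have hle := CfsgLib.SpecSp.PrimeGraph.natDegree_minpoly_le M
    have hass := Polynomial.associated_of_dvd_of_natDegree_le hPμ hμ (by omega)
    have h' := hM ▸ CfsgLib.SpecSp.PrimeGraph.orderOf_dvd_of_minpoly_dvd
      (hass.symm.dvd.trans (hPf _ hgf (CfsgLib.SpecSp.PrimeGraph.reverse_dvd_X_pow_sub_one hgf)))
    have := Nat.le_of_dvd hr.pos h'
    have := Nat.mul_le_mul_left r hp.two_le
    have := hr.pos
    omega

end Cfsg.Agent.S2472
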