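import Cfsg.Statements.S2474
import Cfsg.Agent.Lib.Orth.OddInvolutions
import Cfsg.Agent.Lib.SpecOrth.SameGraph

set_option autoImplicit false
open Cfsg

namespace Cfsg.Agent.S2474

/-- For q odd and n ≥ 3 the simple groups PΩ(2n+1,q) and PSp(2n,q) (which have the same order but different sets of element orders) have the same prime graph: for all distinct primes r, s, one of them has an element of order r·s if and only if the other does. -/
theorem result {F : Type*} [Field F] [Fintype F] (hodd : Odd (Fintype.card F)) (n : ℕ) (hn : 3 ≤ n) (r s : ℕ) (hr : r.Prime) (hs : s.Prime) (hrs : r ≠ s) :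
    (r * s ∈ Set.range (orderOf : Cfsg.POmega F (Cfsg.quadFormOdd n F) → ℕ)) ↔ (r * s ∈ Set.range (orderOf : Cfsg.PSp n F → ℕ)) := by
  classical
  have h2 : (2 : F) ≠ 0 := by
    intro h0
    obtain ⟨p, hp⟩ := CharP.exists F
    obtain ⟨f, hpp, hF⟩ := FiniteField.card F p
    have h1 : p ∣ 2 := (CharP.cast_eq_zero_iff F p 2).1 (by exact_mod_cast h0)
    rw [hF, (Nat.prime_dvd_prime_iff_eq hpp Nat.prime_two).1 h1, Nat.odd_pow_iff f.ne_zero] at hodd
    exact absurd hodd (by decide)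
  refine Iff.trans ?_ (CfsgLib.SpecOrth.same_graph h2 (by omega) hr hs hrs)
  rw [← Cfsg.Agent.Spinor57.qOdd_coe (F := F)]
  have hmk : ∀ y : commutator (CfsgLib.Orth.O (Cfsg.Agent.Spinor57.qOdd n F)),
      orderOf (QuotientGroup.mk y : _ ⧸ Subgroup.center _) = orderOf y.1 := fun y => by
    rw [← Subgroup.orderOf_mk y.1 y.2]
    refine orderOf_injective (QuotientGroup.mk' _) ?_ _
    rw [← MonoidHom.ker_eq_bot_iff, QuotientGroup.ker_mk']
    exact CfsgLib.OrthOddInv.center_omega_eq_bot h2 hn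
  constructor
  · rintro ⟨y, hy⟩
    obtain ⟨⟨x, hx⟩, rfl⟩ := QuotientGroup.mk_surjective y
    exact ⟨x, hx, (hmk ⟨x, hx⟩).symm.trans hy⟩
  · rintro ⟨x, hx, hxo⟩
    exact ⟨QuotientGroup.mk ⟨x, hx⟩, (hmk ⟨x, hx⟩).trans hxo⟩

end Cfsg.Agent.S2474
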