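import Cfsg.Statements.S2479
import Cfsg.Agent.Lib.SpecGL.SLClassBound
import Cfsg.Agent.Lib.SpecGL.SLClassLower

set_option autoImplicit false
open Cfsg

namespace Cfsg.Agent.S2479

/-- The number of conjugacy classes of SL(n,q): for F a finite field with q elements, the number k of conjugacy classes of SL(n,F) satisfies q^(n−1) < k and k ≤ (5/2)·q^(n−1) for n ≥ 2, and k ≤ q^(n−1) + 3q^(n−2) for n ≥ 3. -/
theorem result {F : Type*} [Field F] [Fintype F] (n : ℕ) (hn : 2 ≤ n) :
    Fintype.card F ^ (n - 1) < Nat.card (ConjClasses (Matrix.SpecialLinearGroup (Fin n) F)) ∧ 2 * Nat.card (ConjClasses (Matrix.SpecialLinearGroup (Fin n) F)) ≤ 5 * Fintype.card F ^ (n - 1) ∧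
      (3 ≤ n → Nat.card (ConjClasses (Matrix.SpecialLinearGroup (Fin n) F)) ≤ Fintype.card F ^ (n - 1) + 3 * Fintype.card F ^ (n - 2)) := by
  classical
  have hq : 2 ≤ Fintype.card F := Fintype.one_lt_card
  refine ⟨CfsgLib.SpecGL.pow_lt_card_sl_classes hn, ?_, fun h3 => ?_⟩
  · have h1 := (Nat.mul_le_mul_left 2 (CfsgLib.SpecGL.card_sl_classes_le (F := F) (n := n) (by omega))).trans
      (CfsgLib.SpecGL.weightCount_diag_le hq (by omega))
    refine Nat.le_of_mul_le_mul_left (c := Fintype.card F - 1) ?_ (by omega)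
    linarith
  · exact Nat.le_of_mul_le_mul_left ((CfsgLib.SpecGL.card_sl_classes_le (F := F) (n := n) (by omega)).trans
      (CfsgLib.SpecGL.weightCount_le hq h3)) (by omega)

end Cfsg.Agent.S2479
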