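import Cfsg.Statements.S2480
import Cfsg.Agent.Classical.SLBasic
import Cfsg.Agent.Lib.SpecGL.SLClassBound
import Cfsg.Agent.Lib.SpecGL.SLClassLower
import Cfsg.Agent.Lib.SpecGL.CentralQuotientClasses

set_option autoImplicit false
open Cfsg

namespace Cfsg.Agent.S2480

/-- The number of conjugacy classes of PSL(n,q): for F a finite field with q elements, n ≥ 2 and d = gcd(n, q − 1), the number k of conjugacy classes of PSL(n,F) satisfies q^(n−1) ≤ d·k ≤ q^(n−1) + 5q^(n−2). -/
theorem result {F : Type*} [Field F] [Fintype F] (n : ℕ) (hn : 2 ≤ n) :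
    Fintype.card F ^ (n - 1) ≤ Nat.gcd n (Fintype.card F - 1) * Nat.card (ConjClasses (Matrix.ProjectiveSpecialLinearGroup (Fin n) F)) ∧
      Nat.gcd n (Fintype.card F - 1) * Nat.card (ConjClasses (Matrix.ProjectiveSpecialLinearGroup (Fin n) F)) ≤ Fintype.card F ^ (n - 1) + 5 * Fintype.card F ^ (n - 2) := by
  classical
  have hq : 2 ≤ Fintype.card F := Fintype.one_lt_card
  haveI : Fintype (Subgroup.center (Matrix.SpecialLinearGroup (Fin n) F)) := Fintype.ofFinite _
  have hZ := Cfsg.Agent.Classical.card_center_sl (F := F) n (by omega)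
  have hlow := CfsgLib.CentralClasses.card_classes_le_mul (G := Matrix.SpecialLinearGroup (Fin n) F)
  have hsum := CfsgLib.CentralClasses.card_quotient_classes_mul (G := Matrix.SpecialLinearGroup (Fin n) F)
  rw [hZ] at hlow hsum
  refine ⟨(CfsgLib.SpecGL.pow_lt_card_sl_classes hn).le.trans hlow, hsum.le.trans ?_⟩
  set q := Fintype.card F with hqdef
  set d := Nat.gcd n (q - 1) with hd
  set fix : Subgroup.center (Matrix.SpecialLinearGroup (Fin n) F) → ℕ := fun z =>
    Nat.card {c : ConjClasses (Matrix.SpecialLinearGroup (Fin n) F) //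
      ConjClasses.mk ((z : Matrix.SpecialLinearGroup (Fin n) F) * c.out) = c} with hfixdef
  have hone : fix 1 ≤ Nat.card (ConjClasses (Matrix.SpecialLinearGroup (Fin n) F)) :=
    Nat.card_le_card_of_injective _ Subtype.val_injective
  have hsl := CfsgLib.SpecGL.card_sl_classes_le (F := F) (n := n) (by omega)
  have hoth : ∀ z, z ≠ 1 → ∃ m, 1 ≤ m ∧ 2 * m ≤ n ∧ 2 * fix z ≤ 5 * q ^ (m - 1) ∧ (m = 1 → fix z ≤ 1) := by
    intro z hz
    obtain ⟨ζ, hζn, hζz⟩ := Matrix.SpecialLinearGroup.mem_center_iff.1 z.2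
    rw [Fintype.card_fin] at hζn
    have hζ0 : ζ ≠ 0 := fun h => by
      rw [h, zero_pow (by omega)] at hζn
      exact zero_ne_one hζn
    obtain ⟨m, hm⟩ := orderOf_dvd_of_pow_eq_one hζn
    have hm1 : 1 ≤ m := Nat.pos_of_ne_zero fun h => by rw [h, mul_zero] at hm; omega
    have ho : 2 ≤ orderOf ζ := by
      by_contra hlt
      have hne : orderOf ζ ≠ 0 := fun h => by rw [h, zero_mul] at hm; omega
      have : ζ = 1 := orderOf_eq_one_iff.1 (by omega)
      refine hz (Subtype.ext (Subtype.ext ?_))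
      rw [← hζz, this, map_one]
      rfl
    have h2m : 2 * m ≤ n := (Nat.mul_le_mul_right m ho).trans hm.symm.le
    have hb := CfsgLib.SpecGL.card_gl_fixed_le (F := F) hζ0 hm hm1
      fun k hk => orderOf_dvd_of_pow_eq_one hk
    rw [CfsgLib.SpecGL.weightCount_stable q (by omega : m ≤ n)] at hb
    have hle : fix z ≤ Nat.card {c : ConjClasses (Matrix.SpecialLinearGroup (Fin n) F) //
        ∃ P : GL (Fin n) F, (P : Matrix (Fin n) (Fin n) F) * (c.out : Matrix (Fin n) (Fin n) F) =
          (ζ • (c.out : Matrix (Fin n) (Fin n) F)) * P} := by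
      refine Nat.card_le_card_of_injective (fun c => ⟨c.1, ?_⟩)
        fun a b hab => Subtype.ext (congrArg (fun y => y.1) hab)
      obtain ⟨P, hP⟩ := isConj_iff.1 (ConjClasses.mk_eq_mk_iff_isConj.1
        ((c.1.out_eq : ConjClasses.mk c.1.out = c.1).trans c.2.symm))
      refine ⟨Matrix.SpecialLinearGroup.toGL P, ?_⟩
      have := congrArg (fun M : Matrix.SpecialLinearGroup (Fin n) F => (M : Matrix (Fin n) (Fin n) F))
        (mul_inv_eq_iff_eq_mul.1 hP)
      simp only [Matrix.SpecialLinearGroup.coe_mul, ← hζz, ← Matrix.smul_eq_diagonal_mul,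
        Matrix.scalar_apply] at this ⊢
      simpa [Matrix.smul_eq_diagonal_mul] using this
    have hbz := (Nat.mul_le_mul_left (q - 1) hle).trans hb
    refine ⟨m, hm1, h2m, ?_, fun h1 => ?_⟩
    · have h1 := (Nat.mul_le_mul_left 2 hbz).trans (CfsgLib.SpecGL.weightCount_diag_le hq hm1)
      refine Nat.le_of_mul_le_mul_left (c := q - 1) ?_ (by omega)
      linarith
    · rw [h1, CfsgLib.SpecGL.weightCount_one_one] at hbz
      refine Nat.le_of_mul_le_mul_left (c := q - 1) ?_ (by omega)
      linarith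
  have hdq : d ≤ q - 1 := Nat.le_of_dvd (by omega) (Nat.gcd_dvd_right _ _)
  have hdn : d ≤ n := Nat.le_of_dvd (by omega) (Nat.gcd_dvd_left _ _)
  have hcard : (Finset.univ.erase (1 : Subgroup.center (Matrix.SpecialLinearGroup (Fin n) F))).card = d - 1 := by
    rw [Finset.card_erase_of_mem (Finset.mem_univ _), Finset.card_univ, ← Nat.card_eq_fintype_card, hZ]
  rw [← Finset.add_sum_erase Finset.univ fix (Finset.mem_univ 1)]
  change fix 1 + Finset.sum (Finset.univ.erase 1) fix ≤ _
  rcases (show n = 2 ∨ n = 3 ∨ 4 ≤ n by omega) with rfl | rfl | h4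
  · have hS : ∀ z ∈ Finset.univ.erase (1 : Subgroup.center (Matrix.SpecialLinearGroup (Fin 2) F)),
        fix z ≤ 1 := fun z hz => by
      obtain ⟨m, hm1, hm2, -, h1⟩ := hoth z (Finset.ne_of_mem_erase hz)
      exact h1 (by omega)
    have h := Finset.sum_le_card_nsmul _ fix _ hS
    rw [hcard, smul_eq_mul, mul_one] at h
    have hk : Nat.card (ConjClasses (Matrix.SpecialLinearGroup (Fin 2) F)) ≤ q + 4 :=
      Nat.le_of_mul_le_mul_left (hsl.trans (CfsgLib.SpecGL.weightCount_two_two hq).1) (by omega)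
    simp only [show 2 - 1 = 1 from rfl, show 2 - 2 = 0 from rfl, show 3 - 1 = 2 from rfl,
      show 3 - 2 = 1 from rfl, pow_one, pow_zero] at *
    omega
  · have hS : ∀ z ∈ Finset.univ.erase (1 : Subgroup.center (Matrix.SpecialLinearGroup (Fin 3) F)),
        fix z ≤ 1 := fun z hz => by
      obtain ⟨m, hm1, hm2, -, h1⟩ := hoth z (Finset.ne_of_mem_erase hz)
      exact h1 (by omega)
    have h := Finset.sum_le_card_nsmul _ fix _ hS
    rw [hcard, smul_eq_mul, mul_one] at h
    have hk : Nat.card (ConjClasses (Matrix.SpecialLinearGroup (Fin 3) F)) ≤ q ^ 2 + 3 * q := by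
      have := CfsgLib.SpecGL.weightCount_three hq
      exact Nat.le_of_mul_le_mul_left (hsl.trans this) (by omega)
    simp only [show 2 - 1 = 1 from rfl, show 2 - 2 = 0 from rfl, show 3 - 1 = 2 from rfl,
      show 3 - 2 = 1 from rfl, pow_one, pow_zero] at *
    omega
  · have hk : Nat.card (ConjClasses (Matrix.SpecialLinearGroup (Fin n) F)) ≤
        q ^ (n - 1) + 3 * q ^ (n - 2) :=
      Nat.le_of_mul_le_mul_left (hsl.trans (CfsgLib.SpecGL.weightCount_le hq (by omega))) (by omega)
    have hS : ∀ z ∈ Finset.univ.erase (1 : Subgroup.center (Matrix.SpecialLinearGroup (Fin n) F)),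
        2 * fix z ≤ 5 * q ^ (n / 2 - 1) := fun z hz => by
      obtain ⟨m, hm1, hm2, h2, -⟩ := hoth z (Finset.ne_of_mem_erase hz)
      exact h2.trans (Nat.mul_le_mul_left _ (Nat.pow_le_pow_right (by omega) (by omega)))
    have h := Finset.sum_le_card_nsmul _ _ _ hS
    rw [hcard, smul_eq_mul, ← Finset.mul_sum] at h
    change 2 * Finset.sum (Finset.univ.erase 1) fix ≤ _ at h
    have hrest : (d - 1) * (5 * q ^ (n / 2 - 1)) ≤ 4 * q ^ (n - 2) := by
      rcases Nat.eq_or_lt_of_le h4 with h4' | h5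
      · subst h4'
        have h5 : 5 * (d - 1) ≤ 4 * q := by omega
        calc (d - 1) * (5 * q ^ (4 / 2 - 1)) = 5 * (d - 1) * q := by norm_num; ring
          _ ≤ 4 * q * q := Nat.mul_le_mul_right _ h5
          _ = _ := by norm_num; ring
      · calc (d - 1) * (5 * q ^ (n / 2 - 1)) ≤ q * (4 * q * q ^ (n / 2 - 1)) := by
              refine Nat.mul_le_mul (by omega) (Nat.mul_le_mul_right _ (by omega))
          _ = 4 * q ^ (n / 2 - 1 + 2) := by rw [pow_add]; ring
          _ ≤ _ := Nat.mul_le_mul_left _ (Nat.pow_le_pow_right (by omega) (by omega))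
    omega

end Cfsg.Agent.S2480
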