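import Cfsg.Statements.S2482
import Cfsg.Agent.Lib.SpClassNum.Lower
import Cfsg.Agent.Lib.SpClassNum.ClassBound

set_option autoImplicit false
open Cfsg

namespace Cfsg.Agent.S2482

open Matrix CfsgLib.SpClassNum

theorem upper {F : Type*} [Field F] [Fintype F] (h2 : (2 : F) ≠ 0) (n : ℕ) :
    Nat.card (ConjClasses (Matrix.symplecticGroup (Fin n) F)) ≤ spCount (Fintype.card F) (n + n) (n + n) := by
  classical
  let ρ := Matrix.reindexAlgEquiv F F (finSumFinEquiv : Fin n ⊕ Fin n ≃ Fin (n + n))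
  have htr : ∀ X, (ρ X)ᵀ = ρ Xᵀ := fun X => rfl
  refine card_isometry_classes_le h2 (J := ρ (Matrix.J (Fin n) F)) ?_ ?_
    (fun c : ConjClasses (Matrix.symplecticGroup (Fin n) F) => ρ c.out.1) (fun c => ?_) fun c c' Z hZ hZA => ?_
  · rw [htr, Matrix.J_transpose, map_neg]
  · exact ((Matrix.isUnit_iff_isUnit_det _).2 (Matrix.isUnit_det_J (Fin n) F)).map ρ
  · rw [htr, ← map_mul, ← map_mul, SymplecticGroup.mem_iff'.1 c.out.2]
  · obtain ⟨W, rfl⟩ := ρ.surjective Z
    rw [htr, ← map_mul, ← map_mul] at hZ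
    rw [← map_mul, ← map_mul] at hZA
    have hW : W ∈ Matrix.symplecticGroup (Fin n) F := SymplecticGroup.mem_iff'.2 (ρ.injective hZ)
    rw [← c.out_eq, ← c'.out_eq]
    refine Quotient.sound (isConj_iff.2 ⟨⟨W, hW⟩, ?_⟩)
    rw [mul_inv_eq_iff_eq_mul]
    exact Subtype.ext (ρ.injective hZA)

/-- The number of conjugacy classes of Sp(2n,q), q odd: for F a finite field of odd order q and n ≥ 1, the number k of conjugacy classes of Sp(2n,F) satisfies q^n ≤ k ≤ 10.8·q^n. -/
theorem result {F : Type*} [Field F] [Fintype F] (hodd : Odd (Fintype.card F)) (n : ℕ) (hn : 1 ≤ n) :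
    Fintype.card F ^ n ≤ Nat.card (ConjClasses (Matrix.symplecticGroup (Fin n) F)) ∧ 5 * Nat.card (ConjClasses (Matrix.symplecticGroup (Fin n) F)) ≤ 54 * Fintype.card F ^ n := by
  have hq : 3 ≤ Fintype.card F := by
    have := Fintype.one_lt_card (α := F)
    obtain ⟨k, hk⟩ := hodd
    omega
  have h2 : (2 : F) ≠ 0 := by
    refine Ring.two_ne_zero fun h => ?_
    have := FiniteField.even_card_of_char_two h
    rw [Nat.odd_iff] at hodd
    omega
  refine ⟨pow_le_card_sp_classes hn, ?_⟩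
  refine le_trans (Nat.mul_le_mul_left 5 (upper h2 n)) ?_
  rw [← two_mul]
  exact spCount_final hq hn

end Cfsg.Agent.S2482
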