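import Cfsg.Statements.S2483
import Cfsg.Agent.Lib.SLCover.Central

set_option autoImplicit false
open Cfsg

namespace Cfsg.Agent.S2483

open Module Polynomial CfsgLib.SLCover

universe u

variable {F : Type u} [Field F] [Fintype F] [DecidableEq F] {n : ℕ}

/-- The endomorphism of a matrix of determinant one. -/
noncomputable def act : Matrix.SpecialLinearGroup (Fin n) F →* End F (Fin n → F) where
  toFun A := Matrix.toLinAlgEquiv' (A : Matrix (Fin n) (Fin n) F)
  map_one' := by simp
  map_mul' A B := by simp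

theorem act_injective : Function.Injective (act : Matrix.SpecialLinearGroup (Fin n) F →* _) :=
  fun _ _ h => Subtype.ext (Matrix.toLinAlgEquiv'.injective h)

theorem det_act (A : Matrix.SpecialLinearGroup (Fin n) F) : LinearMap.det (act A) = 1 :=
  (LinearMap.det_toLin' (A : Matrix (Fin n) (Fin n) F)).trans A.2

theorem exists_act (P : End F (Fin n → F)) (hP : LinearMap.det P = 1) :
    ∃ A : Matrix.SpecialLinearGroup (Fin n) F, act A = P := by
  refine ⟨⟨LinearMap.toMatrix' P, (LinearMap.det_toMatrix' P).trans hP⟩, ?_⟩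
  exact Matrix.toLin'_toMatrix' P

theorem mk_eq_one (A : Matrix.SpecialLinearGroup (Fin n) F) :
    (QuotientGroup.mk A : Matrix.ProjectiveSpecialLinearGroup (Fin n) F) = 1 ↔
      ∃ z : F, act A = z • 1 := by
  rw [QuotientGroup.eq_one_iff]
  constructor
  · intro h
    obtain ⟨r, -, hr⟩ := Matrix.SpecialLinearGroup.mem_center_iff.1 h
    refine ⟨r, ?_⟩
    show Matrix.toLinAlgEquiv' (A : Matrix (Fin n) (Fin n) F) = r • 1
    rw [← hr, Matrix.scalar_apply, ← Matrix.smul_one_eq_diagonal, map_smul, map_one]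
  · rintro ⟨z, hz⟩
    refine Subgroup.mem_center_iff.2 fun B => act_injective ?_
    rw [map_mul, map_mul, hz, mul_smul_comm, mul_one, smul_mul_assoc, one_mul]

theorem upper_bound (hq : 4 ≤ Fintype.card F) (hn : 3 ≤ n)
    (x : Matrix.ProjectiveSpecialLinearGroup (Fin n) F) (hx : x ≠ 1)
    (g : Matrix.ProjectiveSpecialLinearGroup (Fin n) F) :
    ∃ f : Fin n → Matrix.ProjectiveSpecialLinearGroup (Fin n) F,
      g = (List.ofFn fun i => f i * x * (f i)⁻¹).prod := by
  classical
  obtain ⟨A, rfl⟩ := QuotientGroup.mk_surjective x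
  obtain ⟨B, rfl⟩ := QuotientGroup.mk_surjective g
  have hA : NS (act A) := fun s hs => hx ((mk_eq_one A).2 ⟨s, hs⟩)
  have hfin : finrank F (Fin n → F) = n := finrank_fin_fun F
  obtain ⟨C, hC, hCB⟩ : ∃ C : Matrix.SpecialLinearGroup (Fin n) F,
      Prodn (act A) n (act C) ∧ (QuotientGroup.mk C : Matrix.ProjectiveSpecialLinearGroup (Fin n) F)
        = QuotientGroup.mk B := by
    by_cases hB : NS (act B)
    · exact ⟨B, nonscalar_cover hq hfin hn hA (det_act A) hB (det_act B), rfl⟩
    · simp only [NS, not_forall, not_not] at hB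
      obtain ⟨z, L, h1, h2, h3⟩ := central_cover hq hfin hn hA (det_act A)
      obtain ⟨C, hC⟩ := exists_act (z • (1 : End F (Fin n → F))) (by
        have hone : ∀ l : List (End F (Fin n → F)), (∀ y ∈ l, CjD 1 (act A) y) →
            LinearMap.det l.prod = 1 := by
          intro l
          induction l with
          | nil => simp
          | cons a l ih =>
            intro h
            rw [List.prod_cons, map_mul, ((h a (List.mem_cons_self ..)).cj one_ne_zero).det_eq,
              det_act, one_mul, ih fun y hy => h y (List.mem_cons_of_mem _ hy)]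
        rw [← h3]; exact hone L h2)
      exact ⟨C, hC ▸ ⟨L, h1, h2, h3⟩, ((mk_eq_one C).2 ⟨z, hC⟩).trans ((mk_eq_one B).2 hB).symm⟩
  obtain ⟨L, hlen, hL, hprod⟩ := hC
  have hP : ∀ i : Fin n, ∃ P : Matrix.SpecialLinearGroup (Fin n) F,
      act (P * A * P⁻¹) = L[i.val]'(by omega) := fun i => by
    obtain ⟨Q, hQd, hQ⟩ := hL _ (List.getElem_mem (by omega : i.val < L.length))
    obtain ⟨P, rfl⟩ := exists_act Q hQd
    refine ⟨P, ?_⟩
    rw [map_mul, map_mul, hQ, mul_assoc, ← map_mul, mul_inv_cancel, map_one, mul_one]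
  choose P hP using hP
  refine ⟨fun i => QuotientGroup.mk (P i), ?_⟩
  have hC' : C = (List.ofFn fun i => P i * A * (P i)⁻¹).prod := by
    refine act_injective ?_
    rw [map_list_prod, ← hprod, List.map_ofFn]
    congr 1
    refine List.ext_getElem (by simp [hlen]) fun i h1 h2 => ?_
    rw [List.getElem_ofFn]
    exact (hP ⟨i, hlen ▸ h1⟩).symm
  have hrhs := map_list_prod (QuotientGroup.mk' (Subgroup.center (Matrix.SpecialLinearGroup (Fin n) F)))
    (List.ofFn fun i => P i * A * (P i)⁻¹)
  rw [← hC', List.map_ofFn] at hrhs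
  rw [← hCB]
  simpa [Function.comp_def] using hrhs

theorem exists_no_root (m : ℕ) :
    ∃ f : F[X], f.Monic ∧ f.natDegree = m + 2 ∧ f.coeff 0 = (-1) ^ (m + 2) ∧
      ∀ t : F, f.eval t ≠ 0 := by
  classical
  set c : F := (-1) ^ (m + 2) with hc
  obtain ⟨a, ha⟩ := exists_scalar_avoid
    ((Finset.univ.erase (0 : F)).image fun t => -(t ^ (m + 2) + c) / t)
    (Finset.card_image_le.trans_lt (by
      rw [Finset.card_erase_of_mem (Finset.mem_univ _), Finset.card_univ]
      exact Nat.sub_lt Fintype.card_pos one_pos))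
  have hdeg : (C a * X + C c : F[X]).degree < ((m + 2 : ℕ) : WithBot ℕ) :=
    lt_of_le_of_lt degree_linear_le (by exact_mod_cast (show 1 < m + 2 by omega))
  refine ⟨X ^ (m + 2) + (C a * X + C c), monic_X_pow_add hdeg, ?_, by simp, fun t ht => ?_⟩
  · have h1 : (X ^ (m + 2) + (C a * X + C c) : F[X]).degree = ((m + 2 : ℕ) : WithBot ℕ) := by
      rw [degree_add_eq_left_of_degree_lt (by rw [degree_X_pow]; exact hdeg), degree_X_pow]
    exact natDegree_eq_of_degree_eq_some h1
  · simp only [eval_add, eval_mul, eval_pow, eval_X, eval_C] at ht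
    rcases eq_or_ne t 0 with rfl | h0
    · simp [hc] at ht
    · refine ha (Finset.mem_image.2 ⟨t, Finset.mem_erase.2 ⟨h0, Finset.mem_univ _⟩, ?_⟩)
      rw [div_eq_iff h0]
      linear_combination -ht

theorem lower_bound (hn : 3 ≤ n) :
    ∃ x : Matrix.ProjectiveSpecialLinearGroup (Fin n) F, x ≠ 1 ∧
      ∃ g : Matrix.ProjectiveSpecialLinearGroup (Fin n) F,
        ∀ f : Fin (n - 1) → Matrix.ProjectiveSpecialLinearGroup (Fin n) F,
          g ≠ (List.ofFn fun i => f i * x * (f i)⁻¹).prod := by
  classical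
  obtain ⟨m, rfl⟩ : ∃ m, n = m + 2 := ⟨n - 2, by omega⟩
  set b : Fin (m + 2) → F := Pi.single 0 1 with hb
  set β : (Fin (m + 2) → F) →ₗ[F] F := LinearMap.proj 1 with hβ
  have hβb : β b = 0 := by simp [hb, hβ]
  obtain ⟨T, hT⟩ := exists_act (LinearMap.transvection β b) (by
    rw [LinearMap.transvection.det, hβb, add_zero])
  refine ⟨QuotientGroup.mk T, fun h => ?_, ?_⟩
  · obtain ⟨z, hz⟩ := (mk_eq_one T).1 h
    rw [hT] at hz
    have h1 := congrFun (LinearMap.congr_fun hz (Pi.single 1 1)) 0
    simp [LinearMap.transvection.apply, hb, hβ] at h1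
  obtain ⟨f, hfm, hfd, hf0, hfr⟩ := exists_no_root (F := F) m
  obtain ⟨ρ, hgen, hchar⟩ := exists_rho (gen_comp (0 : Fin (m + 2) → F)) hfm
    (by rw [hfd, finrank_fin_fun])
  obtain ⟨G, hG⟩ := exists_act _ (show LinearMap.det
      (CfsgLib.SLComm.comp (0 : Fin (m + 2) → F) + ρ.smulRight (Pi.single 0 1)) = 1 by
    rw [LinearMap.det_eq_sign_charpoly_coeff, hchar, hf0, finrank_fin_fun, ← mul_pow]
    simp)
  refine ⟨QuotientGroup.mk G, fun φ hφ => ?_⟩
  choose P hP using fun i => QuotientGroup.mk_surjective (φ i)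
  set L := List.ofFn fun i => P i * T * (P i)⁻¹ with hL
  have hC : (QuotientGroup.mk (G⁻¹ * L.prod) :
      Matrix.ProjectiveSpecialLinearGroup (Fin (m + 2)) F) = 1 := by
    have h1 := map_list_prod (QuotientGroup.mk' (Subgroup.center (Matrix.SpecialLinearGroup (Fin (m + 2)) F))) L
    have h2 : (List.map (QuotientGroup.mk' (Subgroup.center
        (Matrix.SpecialLinearGroup (Fin (m + 2)) F))) L) = List.ofFn fun i => φ i * QuotientGroup.mk T * (φ i)⁻¹ := by
      rw [hL, List.map_ofFn]
      congr 1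
      funext i
      simp [Function.comp_def, ← hP]
    rw [h2, ← hφ] at h1
    rw [QuotientGroup.mk_mul, QuotientGroup.mk_inv]
    exact inv_mul_eq_one.2 h1.symm
  obtain ⟨z, hz⟩ := (mk_eq_one _).1 hC
  -- a common fixed vector of the conjugates
  let Φ : (Fin (m + 2) → F) →ₗ[F] (Fin (m + 2 - 1) → F) :=
    LinearMap.pi fun i => β ∘ₗ act (P i)⁻¹
  obtain ⟨v, hv, hv0⟩ := (LinearMap.ker Φ).exists_mem_ne_zero_of_ne_bot fun h => by
    have h1 := LinearMap.finrank_range_add_finrank_ker Φ
    have h2 := Submodule.finrank_le (LinearMap.range Φ)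
    rw [h, finrank_bot, finrank_fin_fun] at h1
    rw [finrank_fin_fun] at h2
    omega
  have hfix : ∀ i, act (P i * T * (P i)⁻¹) v = v := fun i => by
    have h1 : β (act (P i)⁻¹ v) = 0 := congrFun (LinearMap.mem_ker.1 hv) i
    rw [map_mul, map_mul, Module.End.mul_apply, Module.End.mul_apply, hT,
      LinearMap.transvection.apply, h1, zero_smul, add_zero, ← Module.End.mul_apply, ← map_mul,
      mul_inv_cancel, map_one, Module.End.one_apply]
  have hLv : ∀ l : List (Matrix.SpecialLinearGroup (Fin (m + 2)) F),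
      (∀ y ∈ l, act y v = v) → act l.prod v = v := by
    intro l
    induction l with
    | nil => simp
    | cons a l ih =>
      intro h
      rw [List.prod_cons, map_mul, Module.End.mul_apply, ih fun y hy => h y (List.mem_cons_of_mem _ hy),
        h a (List.mem_cons_self ..)]
  have hprodv : act L.prod v = v := hLv L fun y hy => by
    obtain ⟨i, rfl⟩ := List.mem_ofFn.1 hy
    exact hfix i
  have h3 := LinearMap.congr_fun hz v
  rw [map_mul, Module.End.mul_apply, hprodv] at h3
  have h4 := congrArg (act G) h3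
  rw [← Module.End.mul_apply, ← map_mul, mul_inv_cancel, map_one, Module.End.one_apply,
    LinearMap.smul_apply, Module.End.one_apply, map_smul] at h4
  have hz0 : z ≠ 0 := fun h => hv0 (by rw [h4, h, zero_smul])
  have hev : act G v = z⁻¹ • v := by
    conv_rhs => rw [h4]
    rw [smul_smul, inv_mul_cancel₀ hz0, one_smul]
  rw [hG] at hev
  have := (Module.End.hasEigenvalue_iff_isRoot_charpoly _ z⁻¹).1
    (Module.End.hasEigenvalue_of_hasEigenvector ⟨Module.End.mem_eigenspace_iff.2 hev, hv0⟩)
  rw [IsRoot, hchar] at this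
  exact hfr _ this

/-- The covering number of PSL(n,q) is n: let F be a finite field with q ≥ 4 elements and n ≥ 3. For every non-identity element x of PSL(n,F), every element of PSL(n,F) is a product of n conjugates of x; and for some non-identity x, some element is not a product of n − 1 conjugates of x. -/
theorem result {F : Type*} [Field F] [Fintype F] (h4 : 4 ≤ Fintype.card F) (n : ℕ) (hn : 3 ≤ n) :
    (∀ x : Matrix.ProjectiveSpecialLinearGroup (Fin n) F, x ≠ 1 → ∀ g : Matrix.ProjectiveSpecialLinearGroup (Fin n) F, ∃ f : Fin n → Matrix.ProjectiveSpecialLinearGroup (Fin n) F, g = (List.ofFn fun i => f i * x * (f i)⁻¹).prod) ∧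
    (∃ x : Matrix.ProjectiveSpecialLinearGroup (Fin n) F, x ≠ 1 ∧ ∃ g : Matrix.ProjectiveSpecialLinearGroup (Fin n) F, ∀ f : Fin (n - 1) → Matrix.ProjectiveSpecialLinearGroup (Fin n) F, g ≠ (List.ofFn fun i => f i * x * (f i)⁻¹).prod) := by
  classical
  exact ⟨fun x hx g => upper_bound h4 hn x hx g, lower_bound hn⟩

end Cfsg.Agent.S2483
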