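import Cfsg.Statements.S2485
import Mathlib

set_option autoImplicit false
open scoped Pointwise
open Cfsg

namespace Cfsg.Agent.S2485

open Matrix

variable {q : ℕ}

/-- The element `[0 -1; 1 0]`. -/
def J (q : ℕ) : Matrix (Fin 2) (Fin 2) (ZMod q) := !![0, -1; 1, 0]

/-- Matrices commuting with `J` up to sign. -/
def P (q : ℕ) : Subgroup (GL (Fin 2) (ZMod q)) where
  carrier := {M | (M : Matrix (Fin 2) (Fin 2) (ZMod q)) * J q = J q * M ∨
    (M : Matrix (Fin 2) (Fin 2) (ZMod q)) * J q = -(J q * M)}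
  one_mem' := by left; simp
  mul_mem' {a b} ha hb := by
    simp only [Set.mem_ofPred_eq, Units.val_mul] at *
    rcases ha with ha | ha <;> rcases hb with hb | hb
    · left; rw [mul_assoc, hb, ← mul_assoc, ha, mul_assoc]
    · right; rw [mul_assoc, hb, mul_neg, ← mul_assoc, ha, mul_assoc]
    · right; rw [mul_assoc, hb, ← mul_assoc, ha, neg_mul, mul_assoc]
    · left; rw [mul_assoc, hb, mul_neg, ← mul_assoc, ha, neg_mul, neg_neg, mul_assoc]
  inv_mem' {a} ha := by
    simp only [Set.mem_ofPred_eq] at *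
    rcases ha with ha | ha
    · exact Or.inl (Commute.units_inv_left ha)
    · right
      have h' : SemiconjBy (a : Matrix (Fin 2) (Fin 2) (ZMod q)) (J q) (-J q) := ha.trans (neg_mul _ _).symm
      have h2 := SemiconjBy.units_inv_symm_left h'
      rw [SemiconjBy, mul_neg] at h2
      rw [← neg_neg (((a⁻¹ : GL (Fin 2) (ZMod q)) : Matrix (Fin 2) (Fin 2) (ZMod q)) * J q), h2]

theorem two_ne_zero_zmod [Fact q.Prime] (hq : 3 ≤ q) : (2 : ZMod q) ≠ 0 := by
  have h : ((2 : ℕ) : ZMod q) ≠ 0 := by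
    rw [Ne, ZMod.natCast_eq_zero_iff]
    intro h
    have := Nat.le_of_dvd two_pos h
    omega
  simpa using h

theorem pow_two_pow_mem_center [Fact q.Prime] {k : ℕ} (hk : q + 1 = 2 ^ k) (hq : 7 ≤ q)
    {M : GL (Fin 2) (ZMod q)} (hM : M ∈ P q) :
    M ^ 2 ^ k ∈ Subgroup.center (GL (Fin 2) (ZMod q)) := by
  have h2 := two_ne_zero_zmod (q := q) (by omega)
  have hscal : ∀ (N : GL (Fin 2) (ZMod q)) (c : ZMod q),
      (N : Matrix (Fin 2) (Fin 2) (ZMod q)) = c • 1 → N ∈ Subgroup.center (GL (Fin 2) (ZMod q)) := by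
    intro N c hN
    refine Subgroup.mem_center_iff.2 fun w => Units.ext ?_
    rw [Units.val_mul, Units.val_mul, hN]
    simp
  set m := (M : Matrix (Fin 2) (Fin 2) (ZMod q))
  have hk3 : 3 ≤ k := by
    by_contra h
    have : 2 ^ k ≤ 2 ^ 2 := Nat.pow_le_pow_right two_pos (by omega)
    omega
  rcases hM with h | h
  · -- a rotation
    have hm : m = m 0 0 • 1 + m 1 0 • J q := by
      have h00 := congrFun (congrFun h 0) 0
      have h10 := congrFun (congrFun h 1) 0
      simp [J, Matrix.mul_apply, Matrix.vecMul, dotProduct, Fin.sum_univ_two] at h00 h10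
      ext i j
      fin_cases i <;> fin_cases j <;> simp [J, m]
      · linear_combination h00
      · linear_combination h10
    have hJ : J q * J q = -1 := by
      ext i j; fin_cases i <;> fin_cases j <;> simp [J, Matrix.mul_apply]
    have hodd : ∃ l, q = 4 * l + 3 := by
      obtain ⟨j, rfl⟩ : ∃ j, k = j + 2 := ⟨k - 2, by omega⟩
      rw [pow_add] at hk
      exact ⟨2 ^ j - 1, by omega⟩
    obtain ⟨l, hl⟩ := hodd
    have hJ2 : J q ^ 2 = -1 := by rw [sq, hJ]
    have hJq : J q ^ q = -J q := by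
      have h : ∀ N : ℕ, N = 2 * (2 * l + 1) + 1 → J q ^ N = -J q := by
        rintro N rfl
        rw [pow_succ, pow_mul, hJ2, Odd.neg_one_pow ⟨l, rfl⟩, neg_one_mul]
      exact h q (by omega)
    refine hscal _ (m 0 0 * m 0 0 + m 1 0 * m 1 0) ?_
    rw [Units.val_pow_eq_pow_val, ← hk, pow_succ]
    change m ^ q * m = _
    have hcomm : Commute (m 0 0 • (1 : Matrix (Fin 2) (Fin 2) (ZMod q))) (m 1 0 • J q) :=
      (Commute.one_left _).smul_left _ |>.smul_right _
    conv_lhs => rw [hm, add_pow_char_of_commute _ hcomm, smul_pow, smul_pow, one_pow, hJq, ZMod.pow_card, ZMod.pow_card]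
    ext i j
    fin_cases i <;> fin_cases j <;> simp [J, Matrix.mul_apply] <;> ring
  · -- a reflection
    have h00 := congrFun (congrFun h 0) 0
    have h10 := congrFun (congrFun h 1) 0
    simp [J, Matrix.mul_apply, Matrix.vecMul, dotProduct, Fin.sum_univ_two] at h00 h10
    have hsq : (m * m) = (m 0 0 * m 0 0 + m 0 1 * m 1 0) • 1 := by
      ext i j
      fin_cases i <;> fin_cases j <;> simp [Matrix.mul_apply, m]
      · linear_combination (M : Matrix (Fin 2) (Fin 2) (ZMod q)) 0 1 * h10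
      · linear_combination (M : Matrix (Fin 2) (Fin 2) (ZMod q)) 1 0 * h10
      · linear_combination ((M : Matrix (Fin 2) (Fin 2) (ZMod q)) 1 1 - (M : Matrix (Fin 2) (Fin 2) (ZMod q)) 0 0) * h10
    obtain ⟨j, rfl⟩ : ∃ j, k = j + 1 := ⟨k - 1, by omega⟩
    rw [pow_succ', pow_mul]
    exact Subgroup.pow_mem _ (hscal _ _ (by rw [sq, Units.val_mul]; exact hsq)) _

/-- Let q = 2^k − 1 ≥ 7 be a prime and let G = PGL(2,q), the general linear group of degree 2 over the field with q elements modulo its centre. Then any two Sylow 2-subgroups of G have a non-trivial intersection: for a Sylow 2-subgroup H and every x ∈ G, H ∩ H^x ≠ 1. -/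
theorem result {q k : ℕ} [Fact q.Prime] (hk : q + 1 = 2 ^ k) (hq : 7 ≤ q)
    (H : Sylow 2 (GL (Fin 2) (ZMod q) ⧸ Subgroup.center (GL (Fin 2) (ZMod q))))
    (x : GL (Fin 2) (ZMod q) ⧸ Subgroup.center (GL (Fin 2) (ZMod q))) :
    (H : Subgroup (GL (Fin 2) (ZMod q) ⧸ Subgroup.center (GL (Fin 2) (ZMod q)))) ⊓ MulAut.conj x • (H : Subgroup _) ≠ ⊥ := by
  classical
  have h2 := two_ne_zero_zmod (q := q) (by omega)
  obtain ⟨g₂, rfl⟩ := QuotientGroup.mk'_surjective (Subgroup.center (GL (Fin 2) (ZMod q))) x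
  set Z := Subgroup.center (GL (Fin 2) (ZMod q))
  let π := QuotientGroup.mk' Z
  have hP : IsPGroup 2 ((P q).map π) := by
    rintro ⟨_, M, hM, rfl⟩
    refine ⟨k, Subtype.ext ?_⟩
    rw [Subgroup.coe_pow, Subgroup.coe_one, ← map_pow]
    exact (QuotientGroup.eq_one_iff _).2 (pow_two_pow_mem_center hk hq hM)
  obtain ⟨S, hS⟩ := hP.exists_le_sylow
  obtain ⟨c, hc⟩ := MulAction.exists_smul_eq (GL (Fin 2) (ZMod q) ⧸ Z) S H
  obtain ⟨g₁, rfl⟩ := QuotientGroup.mk'_surjective Z c
  have hH : (H : Subgroup (GL (Fin 2) (ZMod q) ⧸ Z)) = MulAut.conj (π g₁) • (S : Subgroup _) := by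
    rw [← hc]; rfl
  -- `W` lies in `g P g⁻¹` as soon as it is traceless and orthogonal to `g J g⁻¹`
  let conjJ : GL (Fin 2) (ZMod q) → Matrix (Fin 2) (Fin 2) (ZMod q) := fun g =>
    (g : Matrix (Fin 2) (Fin 2) (ZMod q)) * J q * (g⁻¹ : GL (Fin 2) (ZMod q))
  have hmem : ∀ (g W : GL (Fin 2) (ZMod q)), (W : Matrix (Fin 2) (Fin 2) (ZMod q)).trace = 0 →
      ((W : Matrix (Fin 2) (Fin 2) (ZMod q)) * conjJ g).trace = 0 →
      π W ∈ MulAut.conj (π g) • (S : Subgroup (GL (Fin 2) (ZMod q) ⧸ Z)) := by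
    intro g W htW hWK
    have htK : (conjJ g).trace = 0 := by
      simp only [conjJ]
      rw [Matrix.trace_mul_comm, ← mul_assoc, ← Units.val_mul, inv_mul_cancel]
      simp [J, Matrix.trace_fin_two]
    have hanti : (W : Matrix (Fin 2) (Fin 2) (ZMod q)) * conjJ g = -(conjJ g * W) := by
      generalize conjJ g = K at htK hWK ⊢
      generalize (W : Matrix (Fin 2) (Fin 2) (ZMod q)) = V at htW hWK ⊢
      simp [Matrix.trace_fin_two, Matrix.mul_apply] at htW htK hWK
      ext i j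
      fin_cases i <;> fin_cases j <;> simp [Matrix.mul_apply]
      · linear_combination hWK + K 0 0 * htW - V 1 1 * htK
      · linear_combination K 0 1 * htW + V 0 1 * htK
      · linear_combination K 1 0 * htW + V 1 0 * htK
      · linear_combination hWK + V 1 1 * htK - K 0 0 * htW
    rw [Subgroup.mem_pointwise_smul_iff_inv_smul_mem, MulAut.smul_def, MulAut.conj_inv_apply]
    refine hS ⟨g⁻¹ * W * g, Or.inr ?_, by simp⟩
    have := congrArg (fun N => ((g⁻¹ : GL (Fin 2) (ZMod q)) : Matrix (Fin 2) (Fin 2) (ZMod q)) * N * g) hanti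
    simp only [conjJ, mul_neg, neg_mul] at this
    simp only [Units.val_mul]
    calc _ = ((g⁻¹ : GL (Fin 2) (ZMod q)) : Matrix (Fin 2) (Fin 2) (ZMod q)) *
          (W * ((g : Matrix (Fin 2) (Fin 2) (ZMod q)) * J q * (g⁻¹ : GL (Fin 2) (ZMod q)))) * g := by
            simp [mul_assoc]
      _ = _ := by rw [this]; simp [← mul_assoc]
  -- a common traceless invertible element
  obtain ⟨V, hV⟩ : ∃ V : Matrix (Fin 2) (Fin 2) (ZMod q), V.det ≠ 0 ∧ V.trace = 0 ∧
      (V * J q).trace = 0 ∧ (V * conjJ (g₁⁻¹ * g₂ * g₁)).trace = 0 := by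
    set K := conjJ (g₁⁻¹ * g₂ * g₁)
    have hsq : ∀ a b : ZMod q, a * a + b * b = 0 → a = 0 ∧ b = 0 := by
      intro a b h
      by_cases hb : b = 0
      · subst hb; simpa using h
      · exfalso
        have hmod : q % 4 = 3 := by
          obtain ⟨j, rfl⟩ : ∃ j, k = j + 2 := ⟨k - 2, by
            by_contra hlt
            have : 2 ^ k ≤ 2 ^ 1 := Nat.pow_le_pow_right two_pos (by omega)
            omega⟩
          rw [pow_add] at hk
          omega
        refine ZMod.exists_sq_eq_neg_one_iff.1 ⟨a / b, ?_⟩ hmod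
        field_simp
        linear_combination -h
    obtain ⟨a, b, hab, hK⟩ : ∃ a b : ZMod q, ¬(a = 0 ∧ b = 0) ∧
        a * (K 0 0 - K 1 1) + b * (K 0 1 + K 1 0) = 0 := by
      rcases eq_or_ne (K 0 1 + K 1 0) 0 with h | h
      · exact ⟨0, 1, by simp, by rw [h]; ring⟩
      · exact ⟨K 0 1 + K 1 0, -(K 0 0 - K 1 1), by simp [h], by ring⟩
    refine ⟨!![a, b; b, -a], ?_, by simp [Matrix.trace_fin_two], ?_, ?_⟩
    · rw [Matrix.det_fin_two]
      simp
      intro h
      exact hab (hsq a b (by linear_combination -h))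
    · simp [J, Matrix.trace_fin_two, Matrix.mul_apply]
    · simp [Matrix.trace_fin_two, Matrix.mul_apply, Matrix.vecMul, dotProduct, Fin.sum_univ_two]
      linear_combination hK
  let W : GL (Fin 2) (ZMod q) := g₁ * Matrix.GeneralLinearGroup.mkOfDetNeZero V hV.1 * g₁⁻¹
  have hW1 : (W : Matrix (Fin 2) (Fin 2) (ZMod q)).trace = 0 := by
    simp only [W, Units.val_mul]
    rw [Matrix.trace_mul_comm, ← mul_assoc, ← Units.val_mul, inv_mul_cancel, Units.val_one, one_mul]
    exact hV.2.1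
  have hW2 : ∀ g h : GL (Fin 2) (ZMod q), g₁⁻¹ * g = h →
      ((W : Matrix (Fin 2) (Fin 2) (ZMod q)) * conjJ g).trace = (V * conjJ h).trace := by
    rintro g h rfl
    simp only [W, conjJ, Units.val_mul, _root_.mul_inv_rev, inv_inv, mul_assoc]
    rw [Matrix.trace_mul_comm]
    simp only [mul_assoc]
    rfl
  intro hbot
  have hm1 : π W ∈ (H : Subgroup (GL (Fin 2) (ZMod q) ⧸ Z)) := by
    rw [hH]
    refine hmem g₁ W hW1 ?_
    rw [hW2 g₁ 1 (inv_mul_cancel g₁)]
    simpa [conjJ] using hV.2.2.1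
  have hm2 : π W ∈ MulAut.conj (π g₂) • (H : Subgroup (GL (Fin 2) (ZMod q) ⧸ Z)) := by
    rw [hH, smul_smul, ← map_mul, ← map_mul]
    refine hmem (g₂ * g₁) W hW1 ?_
    rw [hW2 (g₂ * g₁) (g₁⁻¹ * g₂ * g₁) (by group)]
    exact hV.2.2.2
  have h1 : π W = 1 := Subgroup.mem_bot.1 (hbot ▸ ⟨hm1, hm2⟩)
  have hWc : W ∈ Z := (QuotientGroup.eq_one_iff _).1 h1
  have hVc : Matrix.GeneralLinearGroup.mkOfDetNeZero V hV.1 = W := by
    have := Subgroup.mem_center_iff.1 hWc g₁
    calc _ = g₁⁻¹ * W * g₁ := by simp [W, mul_assoc]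
      _ = W := by rw [mul_assoc, ← this]; group
  obtain ⟨r, hr⟩ : ∃ r : (ZMod q)ˣ, Matrix.GeneralLinearGroup.scalar (Fin 2) r = W := by
    have : W ∈ Subgroup.center (GL (Fin 2) (ZMod q)) := hWc
    rw [Matrix.GeneralLinearGroup.center_eq_range_scalar] at this
    exact this
  have ht := hV.2.1
  have hV' : V = (Matrix.GeneralLinearGroup.scalar (Fin 2) r : Matrix (Fin 2) (Fin 2) (ZMod q)) := by
    rw [hr, ← hVc]; rfl
  rw [hV'] at ht
  simp [Matrix.GeneralLinearGroup.scalar, Matrix.trace_fin_two] at ht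
  exact h2 (by linear_combination ht)

end Cfsg.Agent.S2485
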