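import Cfsg.Statements.S2486
import Cfsg.Agent.Lib.InvChar.OppositeUnitriangular
-- import your own Cfsg.Agent.* helpers here

set_option autoImplicit false
open scoped Pointwise
open Cfsg

namespace Cfsg.Agent.S2486

open Subgroup CfsgLib.AutPSL CfsgLib.OppositeUni
open scoped Pointwise

/-- Let n ≥ 4 and let G be a finite group with a normal subgroup N of index 2 isomorphic to SL(n,2) and with trivial centralizer in G (so G is the extension of the simple group L_n(2) by its inverse-transpose automorphism, its full automorphism group). Then any two Sylow 2-subgroups of G have a non-trivial intersection: for a Sylow 2-subgroup H and every x ∈ G, H ∩ H^x ≠ 1. -/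
theorem result {G : Type*} [Group G] [Finite G] {n : ℕ} (hn : 4 ≤ n) (N : Subgroup G) [N.Normal]
    (e : N ≃* Matrix.SpecialLinearGroup (Fin n) (ZMod 2)) (hidx : N.index = 2)
    (hC : Subgroup.centralizer (N : Set G) = ⊥)
    (H : Sylow 2 G) (x : G) :
    (H : Subgroup G) ⊓ MulAut.conj x • (H : Subgroup G) ≠ ⊥ := by
  haveI : Fact (Nat.Prime 2) := ⟨Nat.prime_two⟩
  set P : Subgroup N := (H : Subgroup G).subgroupOf N with hPdef
  have hP2 : IsPGroup 2 P := H.isPGroup'.comap_subtype
  have hPidx : ¬ 2 ∣ P.index := by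
    intro h
    apply H.not_dvd_index
    have e1 : ((H : Subgroup G) ⊓ N).relIndex (H : Subgroup G) * (H : Subgroup G).index =
        ((H : Subgroup G) ⊓ N).index := relIndex_mul_index inf_le_left
    have e2 : ((H : Subgroup G) ⊓ N).relIndex N * N.index = ((H : Subgroup G) ⊓ N).index :=
      relIndex_mul_index inf_le_right
    rw [inf_relIndex_left] at e1
    rw [inf_relIndex_right, hidx, ← e1] at e2
    have h4 : 4 ∣ N.relIndex (H : Subgroup G) * (H : Subgroup G).index := by
      rw [← e2]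
      exact Nat.mul_dvd_mul_right h 2
    have h2 := relIndex_dvd_index_of_normal N (H : Subgroup G)
    rw [hidx] at h2
    rcases (Nat.dvd_prime Nat.prime_two).1 h2 with h1 | h1 <;> rw [h1] at h4 <;> omega
  -- choose the isomorphism so that `P` becomes the unitriangular group
  let T : Sylow 2 (Matrix.SpecialLinearGroup (Fin n) (ZMod 2)) :=
    isPGroup_uni.toSylow (not_dvd_index_uni (n := n) (F := ZMod 2) (p := 2) (by omega))
  have hPm : IsPGroup 2 (P.map e.toMonoidHom) := hP2.map _
  have hPmi : ¬ 2 ∣ (P.map e.toMonoidHom).index := by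
    show ¬ 2 ∣ (P.map (e : N →* Matrix.SpecialLinearGroup (Fin n) (ZMod 2))).index
    rwa [index_map_equiv]
  obtain ⟨c, hc⟩ := MulAction.exists_smul_eq (Matrix.SpecialLinearGroup (Fin n) (ZMod 2))
    (hPm.toSylow hPmi) T
  let E : N ≃* Matrix.SpecialLinearGroup (Fin n) (ZMod 2) := e.trans (MulAut.conj c)
  have hE : ∀ y : N, E y ∈ uni n (ZMod 2) ↔ (y : G) ∈ (H : Subgroup G) := by
    intro y
    have h : (T : Subgroup _) = MulAut.conj c • P.map e.toMonoidHom := by
      rw [← hc]; rfl
    show MulAut.conj c (e y) ∈ (T : Subgroup _) ↔ _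
    rw [h, ← MulAut.smul_def, smul_mem_pointwise_smul_iff, mem_map_equiv, e.symm_apply_apply]
    exact mem_subgroupOf
  -- an element of `H` outside `N`
  have hindex : ∀ a b : G, a ∉ N → b ∉ N → a⁻¹ * b ∈ N := fun a b ha hb => by
    rw [mul_mem_iff_of_index_two hidx, inv_mem_iff]
    exact iff_of_false ha hb
  obtain ⟨h0, hh0, hh0N⟩ : ∃ h0 ∈ (H : Subgroup G), h0 ∉ N := by
    by_contra hcon
    push Not at hcon
    have h1 := Subgroup.index_dvd_of_le (show (H : Subgroup G) ≤ N from hcon)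
    rw [hidx] at h1
    exact H.not_dvd_index h1
  intro hbot
  have hmemconj : ∀ a g : G, g ∈ MulAut.conj a • (H : Subgroup G) ↔ a⁻¹ * g * a ∈ (H : Subgroup G) := by
    intro a g
    rw [mem_pointwise_smul_iff_inv_smul_mem, ← map_inv, MulAut.smul_def, MulAut.conj_apply, inv_inv]
  -- move `x` into `N`
  obtain ⟨y, hyN, hy⟩ : ∃ y ∈ N, ∀ g : G, y⁻¹ * g * y ∈ (H : Subgroup G) →
      x⁻¹ * g * x ∈ (H : Subgroup G) := by
    by_cases hxN : x ∈ N
    · exact ⟨x, hxN, fun g h => h⟩
    · refine ⟨x * h0, ?_, fun g h => ?_⟩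
      · rw [mul_mem_iff_of_index_two hidx]; exact iff_of_false hxN hh0N
      · have := mul_mem (mul_mem hh0 h) (inv_mem hh0)
        simpa [mul_assoc] using this
  have htriv : ∀ g : G, g ∈ (H : Subgroup G) → y⁻¹ * g * y ∈ (H : Subgroup G) → g = 1 := by
    intro g hg hgy
    have : g ∈ (H : Subgroup G) ⊓ MulAut.conj x • (H : Subgroup G) :=
      Subgroup.mem_inf.2 ⟨hg, (hmemconj x g).2 (hy g hgy)⟩
    rwa [hbot, mem_bot] at this
  have hN : N.Normal := inferInstance
  set y' : N := ⟨y, hyN⟩ with hy'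
  set z : N := ⟨h0 * y * h0⁻¹, hN.conj_mem y hyN h0⟩ with hz
  have hYtriv : ∀ s ∈ uni n (ZMod 2), E y' * s * (E y')⁻¹ ∈ uni n (ZMod 2) → s = 1 := by
    intro s hs hs'
    obtain ⟨q, rfl⟩ := E.surjective s
    rw [← map_inv, ← map_mul, ← map_mul] at hs'
    rw [hE] at hs hs'
    have h1 := htriv (y * q * y⁻¹) hs' (by simpa [mul_assoc] using hs)
    have : (q : G) = 1 := by simpa [mul_assoc] using congrArg (fun g => y⁻¹ * g * y) h1
    rw [show q = 1 from Subtype.ext this, map_one]
  have hZtriv : ∀ s ∈ uni n (ZMod 2), E z * s * (E z)⁻¹ ∈ uni n (ZMod 2) → s = 1 := by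
    intro s hs hs'
    obtain ⟨q, rfl⟩ := E.surjective s
    rw [← map_inv, ← map_mul, ← map_mul] at hs'
    rw [hE] at hs hs'
    have hs'' : h0 * y * h0⁻¹ * q * (h0 * y * h0⁻¹)⁻¹ ∈ (H : Subgroup G) := hs'
    have h1 := htriv (y * (h0⁻¹ * q * h0) * y⁻¹)
      (by
        have := mul_mem (mul_mem (inv_mem hh0) hs'') hh0
        simpa [mul_assoc] using this)
      (by
        have := mul_mem (mul_mem (inv_mem hh0) hs) hh0
        simpa [mul_assoc] using this)
    have : (q : G) = 1 := by simpa [mul_assoc] using congrArg (fun g => h0 * (y⁻¹ * g * y) * h0⁻¹) h1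
    rw [show q = 1 from Subtype.ext this, map_one]
  obtain ⟨a, ha, haz⟩ := exists_conj (E y') (E z) hYtriv hZtriv
  obtain ⟨q, rfl⟩ := E.surjective a
  rw [← map_inv, ← map_mul, ← map_mul] at haz
  rw [hE] at ha haz
  have haz' : y⁻¹ * q * (h0 * y * h0⁻¹) ∈ (H : Subgroup G) := haz
  -- `g = q h0` fixes both Sylow subgroups
  have hgH : (q : G) * h0 ∈ (H : Subgroup G) := mul_mem ha hh0
  have hgy : y⁻¹ * ((q : G) * h0) * y ∈ (H : Subgroup G) := by
    have := mul_mem haz' hh0
    simpa [mul_assoc] using this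
  have h1 := htriv _ hgH hgy
  exact hh0N (by rw [eq_inv_of_mul_eq_one_right h1]; exact inv_mem q.2)

end Cfsg.Agent.S2486
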