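import Cfsg.Statements.S2487
import Cfsg.Agent.Lib.SpecLin.PlusFormTwo

set_option autoImplicit false
open scoped Pointwise
open Cfsg

namespace Cfsg.Agent.S2487

open Matrix CfsgLib.SpecLin.PlusFormTwo

theorem result {F : Type*} [Field F] [Fintype F] (hF : Fintype.card F = 2) {m : ℕ} (hm : 4 ≤ m)
    (H : Sylow 2 (Cfsg.isometryGroup F (Cfsg.quadFormPlus m F)))
    (x : Cfsg.isometryGroup F (Cfsg.quadFormPlus m F)) :
    (H : Subgroup (Cfsg.isometryGroup F (Cfsg.quadFormPlus m F))) ⊓ MulAut.conj x • (H : Subgroup _) ≠ ⊥ := by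
  classical
  have : Fact (Nat.Prime 2) := ⟨Nat.prime_two⟩
  have hchar : CharP F 2 := charP_of_card_eq_prime hF
  obtain ⟨k, rfl⟩ : ∃ k, m = k + 1 := ⟨m - 1, by omega⟩
  let act : Cfsg.isometryGroup F (Cfsg.quadFormPlus (k + 1) F) → V F (k + 1) →ₗ[F] V F (k + 1) :=
    fun g => Matrix.mulVecLin ((g : GL (Fin (k + 1) ⊕ Fin (k + 1)) F) : Matrix _ _ F)
  have hact_mul : ∀ g h v, act (g * h) v = act g (act h v) := fun g h v => by
    simp [act, Matrix.mulVec_mulVec]
  have hact_one : ∀ v, act 1 v = v := fun v => by simp [act]
  have hQ : ∀ g v, Cfsg.quadFormPlus (k + 1) F (act g v) = Cfsg.quadFormPlus (k + 1) F v := fun g v =>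
    g.2 v v
  have hpolar : ∀ g v w, polar (act g v) (act g w) = polar v w := fun g v w => by
    have h1 := quad_add (act g v) (act g w)
    rw [← map_add, hQ, hQ, hQ, quad_add] at h1
    linear_combination -h1
  have hcancel : ∀ g v, act g⁻¹ (act g v) = v := fun g v => by rw [← hact_mul, inv_mul_cancel, hact_one]
  -- the standard totally singular subspace
  let e : Fin k → V F (k + 1) := fun i => Pi.single (Sum.inl i.castSucc) 1
  let W₀ : Submodule F (V F (k + 1)) := Submodule.span F (Set.range e)
  have he : LinearIndependent F e := by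
    have h := (Pi.basisFun F (Fin (k + 1) ⊕ Fin (k + 1))).linearIndependent.comp
      (fun i : Fin k => Sum.inl i.castSucc) (fun a b h => by simpa using h)
    convert h using 1
    funext i
    simp [e]
  have hW₀d : Module.finrank F W₀ = k := by
    rw [finrank_span_eq_card he, Fintype.card_fin]
  have hW₀z : ∀ v ∈ W₀, (∀ i, v (Sum.inr i) = 0) ∧ v (Sum.inl (Fin.last k)) = 0 := by
    intro v hv
    induction hv using Submodule.span_induction with
    | mem y hy =>
      obtain ⟨i, rfl⟩ := hy
      refine ⟨fun j => by simp [e], ?_⟩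
      simp [e, Fin.castSucc_ne_last, eq_comm]
    | zero => simp
    | add a b _ _ ha hb => exact ⟨fun i => by simp [ha.1 i, hb.1 i], by simp [ha.2, hb.2]⟩
    | smul c a _ ha => exact ⟨fun i => by simp [ha.1 i], by simp [ha.2]⟩
  have hW₀ts : TotSing W₀ := fun v hv => by simp [Cfsg.quadFormPlus, (hW₀z v hv).1]
  have hW₀mem : ∀ v : V F (k + 1), (∀ i, v (Sum.inr i) = 0) → v (Sum.inl (Fin.last k)) = 0 → v ∈ W₀ := by
    intro v h1 h2
    have hv : v = ∑ i : Fin k, v (Sum.inl i.castSucc) • e i := by
      funext s
      rcases s with j | j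
      · refine Fin.lastCases ?_ (fun j => ?_) j
        · simp [e, h2, Finset.sum_apply, Pi.single_apply, (Fin.castSucc_ne_last _).symm]
        · simp [e, Finset.sum_apply, Pi.single_apply, Fin.castSucc_inj]
      · simp [e, h1, Finset.sum_apply]
    rw [hv]
    exact sum_mem fun i _ => Submodule.smul_mem _ _ (Submodule.subset_span ⟨i, rfl⟩)
  -- its pointwise fixer is a 2-group
  let K : Subgroup (Cfsg.isometryGroup F (Cfsg.quadFormPlus (k + 1) F)) :=
    { carrier := {g | ∀ v ∈ W₀, act g v = v}
      one_mem' := fun v _ => hact_one v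
      mul_mem' := fun {a b} ha hb v hv => by rw [hact_mul, hb v hv, ha v hv]
      inv_mem' := fun {a} ha v hv => by
        conv_lhs => rw [← ha v hv]
        rw [← hact_mul, inv_mul_cancel, hact_one] }
  have hK : IsPGroup 2 K := by
    rintro ⟨g, hg⟩
    refine ⟨3, Subtype.ext ?_⟩
    change g ^ 8 = 1
    let u : V F (k + 1) := Pi.single (Sum.inl (Fin.last k)) 1
    let w : V F (k + 1) := Pi.single (Sum.inr (Fin.last k)) 1
    have horth : ∀ h : Cfsg.isometryGroup F (Cfsg.quadFormPlus (k + 1) F), h ∈ K → ∀ v : V F (k + 1),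
        (∀ i : Fin k, v (Sum.inr i.castSucc) = 0) → ∀ i : Fin k, act h v (Sum.inr i.castSucc) = 0 := by
      intro h hh v hv i
      have hei : e i ∈ W₀ := Submodule.subset_span ⟨i, rfl⟩
      have := hpolar h v (e i)
      rw [hh _ hei, polar_single_inl, polar_single_inl, hv i] at this
      exact this
    -- a 2-group on the plane
    have hplane : ∀ z : V F (k + 1), z = u ∨ z = w → act (g * g) z - z ∈ W₀ := by
      intro z hz
      have hz0 : ∀ i : Fin k, z (Sum.inr i.castSucc) = 0 := fun i => by
        rcases hz with rfl | rfl <;> simp [u, w, (Fin.castSucc_ne_last _).symm]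
      have hzQ : Cfsg.quadFormPlus (k + 1) F z = 0 := by
        rcases hz with rfl | rfl <;> simp [Cfsg.quadFormPlus, u, w]
      have hval : ∀ c : F, c = 0 ∨ c = 1 := fun c => by
        rcases eq_or_ne c 0 with hc | hc
        · exact Or.inl hc
        · exact Or.inr (by simpa [hF] using FiniteField.pow_card_sub_one_eq_one _ hc)
      have hxy : ∀ t : V F (k + 1), (t = u ∨ t = w) →
          act g t - u ∈ W₀ ∨ act g t - w ∈ W₀ := by
        intro t ht
        have ht0 : ∀ i : Fin k, t (Sum.inr i.castSucc) = 0 := fun i => by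
          rcases ht with rfl | rfl <;> simp [u, w, (Fin.castSucc_ne_last _).symm]
        have h1 := horth g hg t ht0
        have htQ : Cfsg.quadFormPlus (k + 1) F t = 0 := by
          rcases ht with rfl | rfl <;> simp [Cfsg.quadFormPlus, u, w]
        have h2 := hQ g t
        rw [htQ, Cfsg.quadFormPlus, Fin.sum_univ_castSucc] at h2
        simp [h1] at h2
        have hne : act g t (Sum.inl (Fin.last k)) ≠ 0 ∨ act g t (Sum.inr (Fin.last k)) ≠ 0 := by
          by_contra hc
          push Not at hc
          have hmem : act g t ∈ W₀ := hW₀mem _ (fun i => Fin.lastCases hc.2 h1 i) hc.1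
          have hfix := hg _ hmem
          have htW : t ∈ W₀ := by
            have : act g⁻¹ (act g (act g t)) = act g⁻¹ (act g t) := by rw [hfix]
            rw [hcancel, hcancel] at this
            rwa [this] at hmem
          rcases ht with rfl | rfl
          · simpa [u] using (hW₀z _ htW).2
          · simpa [w] using (hW₀z _ htW).1 (Fin.last k)
        rcases hval (act g t (Sum.inl (Fin.last k))) with hx | hx <;>
          rcases hval (act g t (Sum.inr (Fin.last k))) with hy | hy
        · simp [hx, hy] at hne
        · refine Or.inr (hW₀mem _ (fun i => ?_) ?_)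
          · induction i using Fin.lastCases with
            | last => simp [hy, w]
            | cast i => simp [h1 i, w, (Fin.castSucc_ne_last _).symm]
          · simp [hx, w]
        · refine Or.inl (hW₀mem _ (fun i => ?_) ?_)
          · induction i using Fin.lastCases with
            | last => simp [hy, u]
            | cast i => simp [h1 i, u]
          · simp [hx, u]
        · simp [hx, hy] at h2
      have comb : ∀ t s, act g z - t ∈ W₀ → act g t - s ∈ W₀ → act (g * g) z - s ∈ W₀ := by
        intro t s h1 h2
        have : act (g * g) z - s = (act g z - t) + (act g t - s) := by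
          rw [hact_mul, show act g (act g z) = act g t + act g (act g z - t) by rw [← map_add]; congr 1; abel,
            hg _ h1]
          abel
        rw [this]; exact add_mem h1 h2
      have excl : ∀ s, (∀ i : Fin k, s (Sum.inr i.castSucc) = 0) →
          act g u - s ∈ W₀ → act g w - s ∈ W₀ → False := by
        intro s _ h1 h2
        have hd : act g (u - w) ∈ W₀ := by
          rw [map_sub, show act g u - act g w = (act g u - s) - (act g w - s) by abel]
          exact sub_mem h1 h2
        have hfix := hg _ hd
        have : act g⁻¹ (act g (act g (u - w))) = act g⁻¹ (act g (u - w)) := by rw [hfix]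
        rw [hcancel, hcancel] at this
        have hz2 := (hW₀z _ (this ▸ hd)).2
        rw [Pi.sub_apply] at hz2
        simp [u, w] at hz2
      rcases hxy u (Or.inl rfl) with hu | hu <;> rcases hxy w (Or.inr rfl) with hw | hw
      · exact (excl u (fun i => by simp [u]) hu hw).elim
      · rcases hz with rfl | rfl
        · exact comb u u hu hu
        · exact comb w w hw hw
      · rcases hz with rfl | rfl
        · exact comb w u hu hw
        · exact comb u w hw hu
      · exact (excl w (fun i => by simp [w, (Fin.castSucc_ne_last _).symm]) hu hw).elim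
    set h := g * g with hh
    have hhK : h ∈ K := mul_mem hg hg
    let N : V F (k + 1) →ₗ[F] V F (k + 1) := act h - LinearMap.id
    have hN1 : ∀ v ∈ W₀, N v = 0 := fun v hv => by simp [N, hhK v hv]
    have hN2 : ∀ v : V F (k + 1), (∀ i : Fin k, v (Sum.inr i.castSucc) = 0) → N v ∈ W₀ := by
      intro v hv
      have hv' : v - v (Sum.inl (Fin.last k)) • u - v (Sum.inr (Fin.last k)) • w ∈ W₀ := by
        refine hW₀mem _ (fun i => ?_) ?_
        · induction i using Fin.lastCases with
          | last => simp [u, w]
          | cast i => simp [u, w, hv i, (Fin.castSucc_ne_last _).symm]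
        · simp [u, w]
      have := hN1 _ hv'
      rw [map_sub, map_sub, map_smul, map_smul, sub_sub, sub_eq_zero] at this
      rw [this]
      exact add_mem (Submodule.smul_mem _ _ (hplane u (Or.inl rfl)))
        (Submodule.smul_mem _ _ (hplane w (Or.inr rfl)))
    have hN3 : ∀ v : V F (k + 1), ∀ i : Fin k, N v (Sum.inr i.castSucc) = 0 := by
      intro v i
      have hei : e i ∈ W₀ := Submodule.subset_span ⟨i, rfl⟩
      have := hpolar h v (e i)
      rw [hhK _ hei, polar_single_inl, polar_single_inl] at this
      simp [N, this]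
    have hN : ∀ v, N (N (N v)) = 0 := fun v => hN1 _ (hN2 _ (hN3 v))
    have h4 : ∀ v, act (h ^ 4) v = v := fun v => by
      have hexp : ∀ v, act h v = v + N v := fun v => by simp [N]
      rw [show h ^ 4 = (h * h) * (h * h) by rw [pow_succ, pow_succ, pow_succ, pow_one]; group]
      have h2 : ∀ v, act (h * h) v = v + N (N v) := fun v => by
        rw [hact_mul, hexp, hexp v, map_add]
        calc v + N v + (N v + N (N v)) = v + (N v + N v) + N (N v) := by abel
          _ = v + N (N v) := by
            rw [show N v + N v = 0 from funext fun s => CharTwo.add_self_eq_zero _, add_zero]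
      rw [hact_mul, h2, h2 v, map_add, hN v]
      rw [map_add, map_zero, add_zero]
      calc v + N (N v) + N (N v) = v + (N (N v) + N (N v)) := by abel
        _ = v := by
          rw [show N (N v) + N (N v) = 0 from funext fun s => CharTwo.add_self_eq_zero _, add_zero]
    have hfin : h ^ 4 = 1 := by
      apply Subtype.ext
      apply Units.ext
      refine Matrix.toLin'.injective (LinearMap.ext fun v => ?_)
      have := h4 v
      simp [act] at this
      simp only [Matrix.toLin'_apply, Units.val_one, SubmonoidClass.coe_pow, Units.val_pow_eq_pow_val,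
        OneMemClass.coe_one, Matrix.one_mulVec]
      exact this
    rw [show g ^ 8 = h ^ 4 by rw [hh, ← sq, ← pow_mul], hfin]
  obtain ⟨P, hP⟩ := hK.exists_le_sylow
  obtain ⟨c, hc⟩ := MulAction.exists_smul_eq (Cfsg.isometryGroup F (Cfsg.quadFormPlus (k + 1) F)) P H
  -- both Sylow groups contain the fixer of a totally singular subspace
  have key : ∀ d : Cfsg.isometryGroup F (Cfsg.quadFormPlus (k + 1) F), ∀ g,
      (∀ v ∈ W₀.map (act d), act g v = v) → g ∈ MulAut.conj d • (P : Subgroup _) := by
    intro d g hg
    rw [Subgroup.mem_pointwise_smul_iff_inv_smul_mem]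
    refine hP ?_
    change ∀ v ∈ W₀, act ((MulAut.conj d)⁻¹ • g) v = v
    intro v hv
    rw [MulAut.smul_def, MulAut.conj_inv_apply, hact_mul, hact_mul,
      hg _ (Submodule.mem_map_of_mem hv), ← hact_mul, inv_mul_cancel, hact_one]
  have hts : ∀ d, TotSing (W₀.map (act d)) ∧ Module.finrank F ↥(W₀.map (act d)) + 1 = k + 1 := by
    intro d
    refine ⟨?_, ?_⟩
    · rintro _ ⟨v, hv, rfl⟩
      rw [hQ]; exact hW₀ts v hv
    · have hinj : Function.Injective (act d) := fun a b hab => by
        have := congrArg (act d⁻¹) hab
        rwa [← hact_mul, ← hact_mul, inv_mul_cancel, hact_one, hact_one] at this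
      rw [← (Submodule.equivMapOfInjective _ hinj W₀).finrank_eq, hW₀d]
  obtain ⟨g, hg1, hgW, hgW'⟩ := exists_common_fixer hF _ _ (hts c).1 (hts (x * c)).1 (hts c).2
    (hts (x * c)).2
  have hH : (H : Subgroup (Cfsg.isometryGroup F (Cfsg.quadFormPlus (k + 1) F))) =
      MulAut.conj c • (P : Subgroup _) := by
    rw [← hc]; rfl
  intro hbot
  have hm1 : g ∈ (H : Subgroup (Cfsg.isometryGroup F (Cfsg.quadFormPlus (k + 1) F))) := by
    rw [hH]; exact key c g hgW
  have hm2 : g ∈ MulAut.conj x • (H : Subgroup (Cfsg.isometryGroup F (Cfsg.quadFormPlus (k + 1) F))) := by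
    rw [hH, smul_smul, ← map_mul]; exact key (x * c) g hgW'
  exact hg1 ((Subgroup.mem_bot).1 (hbot ▸ ⟨hm1, hm2⟩))

end Cfsg.Agent.S2487
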