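import Cfsg.Statements.S2488
import Cfsg.Agent.Lib.OddOrder.PuigSeries
-- import your own Cfsg.Agent.* helpers here

set_option autoImplicit false
open scoped Pointwise
open Cfsg

namespace Cfsg.Agent.S2488

open Equiv Subgroup
open scoped Pointwise

/-- The representative involution of `A₆`. -/
def z0 : alternatingGroup (Fin 6) :=
  ⟨swap 0 1 * swap 2 3, Perm.mem_alternatingGroup.2 (by decide)⟩

theorem order_cases : ∀ a : alternatingGroup (Fin 6),
    ∃ k ∈ [1, 2, 3, 4, 5], a ^ k = 1 := by decide +kernel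

theorem centralizer_count :
    (Finset.univ.filter fun a : alternatingGroup (Fin 6) => a * z0 = z0 * a).card = 8 := by
  decide +kernel

theorem class_count : ∀ k ∈ [1, 2, 3, 4, 5],
    (Finset.univ.filter fun a : alternatingGroup (Fin 6) => a * a = 1 ∧ (z0 * a) ^ k = 1).card ≤ 31 := by
  decide +kernel

/-- All involutions of `A₆` are conjugate to `z0` in `S₆`. -/
theorem exists_conj_z0 {a : alternatingGroup (Fin 6)} (ha : a * a = 1) (hne : a ≠ 1) :
    ∃ f : alternatingGroup (Fin 6) ≃* alternatingGroup (Fin 6), f a = z0 := by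
  have hne' : (a : Perm (Fin 6)) ≠ 1 := fun h => hne (Subtype.ext h)
  have ho : orderOf (a : Perm (Fin 6)) = 2 :=
    (orderOf_eq_prime_iff (p := 2) (hp := ⟨Nat.prime_two⟩)).2
      ⟨by rw [sq]; exact congrArg Subtype.val ha, hne'⟩
  obtain ⟨k, hk⟩ := Perm.cycleType_prime_order (ho ▸ Nat.prime_two)
  rw [ho] at hk
  have hsum : (a : Perm (Fin 6)).cycleType.sum ≤ 6 := by
    rw [Perm.sum_cycleType]; exact Finset.card_le_univ _
  have hs : Perm.sign (a : Perm (Fin 6)) = 1 := Perm.mem_alternatingGroup.1 a.2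
  rw [Perm.sign_of_cycleType, hk] at hs
  rw [hk] at hsum
  simp only [Multiset.sum_replicate, Multiset.card_replicate, smul_eq_mul] at hsum hs
  obtain rfl : k = 1 := by
    rcases (show k = 0 ∨ k = 1 ∨ k = 2 by omega) with rfl | rfl | rfl
    · exact absurd hs (by decide)
    · rfl
    · exact absurd hs (by decide)
  have hz : (z0 : Perm (Fin 6)).cycleType = Multiset.replicate 2 2 := by
    have hd : Perm.Disjoint (swap (0 : Fin 6) 1) (swap 2 3) := fun a => by fin_cases a <;> decide
    show (swap (0 : Fin 6) 1 * swap 2 3).cycleType = _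
    rw [hd.cycleType_mul, (Perm.swap_isSwap_iff.2 (by decide)).isCycle.cycleType,
      (Perm.swap_isSwap_iff.2 (by decide)).isCycle.cycleType, Perm.support_swap (by decide),
      Perm.support_swap (by decide)]
    rfl
  obtain ⟨c, hc⟩ := isConj_iff.1 (Perm.isConj_iff_cycleType_eq.2 (hk.trans hz.symm))
  refine ⟨MulAut.conjNormal c, Subtype.ext ?_⟩
  rw [MulAut.conjNormal_apply]
  exact hc

/-- Let G be a finite group with a normal subgroup N of index 4 isomorphic to the alternating group of degree 6 and with trivial centralizer in G (so G is the full automorphism group of A₆). Then any two Sylow 2-subgroups of G have a non-trivial intersection: for a Sylow 2-subgroup H and every x ∈ G, H ∩ H^x ≠ 1. -/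
theorem result {G : Type*} [Group G] [Finite G] (N : Subgroup G) [N.Normal]
    (e : N ≃* alternatingGroup (Fin 6)) (hidx : N.index = 4)
    (hC : Subgroup.centralizer (N : Set G) = ⊥)
    (H : Sylow 2 G) (x : G) :
    (H : Subgroup G) ⊓ MulAut.conj x • (H : Subgroup G) ≠ ⊥ := by
  haveI : Fact (Nat.Prime 2) := ⟨Nat.prime_two⟩
  have hNc : Nat.card N = 360 := by
    rw [Nat.card_congr e.toEquiv, nat_card_alternatingGroup, Nat.card_fin]
    rfl
  have hG : Nat.card G = 2 ^ 5 * 45 := by
    rw [← N.card_mul_index, hidx, hNc]; rfl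
  have hH : Nat.card (H : Subgroup G) = 32 := by
    rw [H.card_eq_multiplicity, hG, Nat.factorization_mul (by norm_num) (by norm_num), Finsupp.add_apply,
      Nat.Prime.factorization_pow Nat.prime_two, Finsupp.single_eq_same,
      Nat.factorization_eq_zero_of_not_dvd (show ¬ 2 ∣ 45 by decide)]
    rfl
  -- a central involution of `H` inside `N`
  have hHN : (H : Subgroup G) ⊓ N ≠ ⊥ := by
    intro h
    have hinj : Function.Injective ((QuotientGroup.mk' N).comp (H : Subgroup G).subtype) := by
      rw [← MonoidHom.ker_eq_bot_iff, eq_bot_iff]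
      intro y hy
      have : (y : G) ∈ (H : Subgroup G) ⊓ N :=
        ⟨y.2, (QuotientGroup.eq_one_iff (y : G)).1 hy⟩
      rw [h, mem_bot] at this
      exact mem_bot.2 (Subtype.ext this)
    have := Nat.card_le_card_of_injective _ hinj
    rw [hH, ← Subgroup.index_eq_card, hidx] at this
    omega
  haveI : Group.IsNilpotent (H : Subgroup G) := H.isPGroup'.isNilpotent
  have hne : N.subgroupOf (H : Subgroup G) ≠ ⊥ := by
    rw [Ne, subgroupOf_eq_bot, disjoint_iff, inf_comm]
    exact hHN
  obtain ⟨⟨w, hw⟩, hw0⟩ := Subgroup.ne_bot_iff_exists_ne_one.1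
    (CfsgLib.OddOrder.PuigSeries.inf_center_ne_bot (N.subgroupOf (H : Subgroup G)) hne)
  have hw1 : w ≠ 1 := fun h => hw0 (Subtype.ext h)
  obtain ⟨j, hj⟩ := IsPGroup.iff_orderOf.1 H.isPGroup' w
  obtain ⟨i, rfl⟩ : ∃ i, j = i + 1 := by
    rcases j with _ | i
    · exact absurd (orderOf_eq_one_iff.1 (by rw [hj, pow_zero])) hw1
    · exact ⟨i, rfl⟩
  set z := w ^ 2 ^ i with hzdef
  have hzmem : z ∈ Subgroup.center (H : Subgroup G) ⊓ N.subgroupOf (H : Subgroup G) := pow_mem hw _
  have hz1 : z ≠ 1 := fun h => by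
    have := Nat.le_of_dvd (Nat.two_pow_pos i) (orderOf_dvd_of_pow_eq_one h)
    rw [hj, pow_succ] at this
    have := Nat.two_pow_pos i
    omega
  have hzz : z * z = 1 := by
    rw [hzdef, ← pow_add, ← two_mul, ← pow_succ', ← hj, pow_orderOf_eq_one]
  let zN : N := ⟨(z : G), hzmem.2⟩
  have hzG : (z : G) * z = 1 := congrArg (fun a : (H : Subgroup G) => (a : G)) hzz
  have hzN2 : zN * zN = 1 := Subtype.ext hzG
  have hzN1 : zN ≠ 1 := fun h => hz1 (Subtype.ext (congrArg (fun a : N => (a : G)) h :))
  obtain ⟨f, hf⟩ := exists_conj_z0 (a := e zN) (by rw [← map_mul, hzN2, map_one])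
    (fun h => hzN1 (e.injective (h.trans (map_one e).symm)))
  let e' : N ≃* alternatingGroup (Fin 6) := e.trans f
  have he' : e' zN = z0 := hf
  -- the centralizer of `z` is `H`
  have hHC : ∀ g : G, g ∈ (H : Subgroup G) → g * z.1 = z.1 * g := fun g hg =>
    congrArg Subtype.val (mem_center_iff.1 hzmem.1 ⟨g, hg⟩)
  have hCeq : (H : Subgroup G) = centralizer {(z : G)} := by
    refine eq_of_le_of_card_ge (fun g hg => mem_centralizer_singleton_iff.2 (hHC g hg)) ?_
    rw [hH]
    have h1 : Nat.card (N.subgroupOf (centralizer {(z : G)})) ≤ 8 := by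
      rw [← centralizer_count, ← Fintype.card_subtype, ← Nat.card_eq_fintype_card]
      refine Nat.card_le_card_of_injective (fun y => ⟨e' ⟨y.1.1, y.2⟩, ?_⟩) ?_
      · rw [← he', ← map_mul, ← map_mul]
        exact congrArg e' (Subtype.ext (mem_centralizer_singleton_iff.1 y.1.2))
      · intro a b h
        have := congrArg Subtype.val (e'.injective (congrArg Subtype.val h))
        exact Subtype.ext (Subtype.ext this)
    have h2 : (N.subgroupOf (centralizer {(z : G)})).index ≤ 4 := by
      rw [← hidx, ← relIndex]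
      exact Nat.le_of_dvd (by rw [hidx]; norm_num) (relIndex_dvd_index_of_normal N _)
    rw [← (N.subgroupOf (centralizer {(z : G)})).card_mul_index]
    calc Nat.card (N.subgroupOf (centralizer {(z : G)})) * (N.subgroupOf (centralizer {(z : G)})).index
        ≤ 8 * 4 := Nat.mul_le_mul h1 h2
      _ = 32 := rfl
  intro hbot
  have hconj : ∀ g : G, g * (x * z.1 * x⁻¹) = x * z.1 * x⁻¹ * g → g ∈ MulAut.conj x • (H : Subgroup G) := by
    intro g hg
    rw [mem_pointwise_smul_iff_inv_smul_mem, ← map_inv, MulAut.smul_def, MulAut.conj_apply, inv_inv,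
      hCeq, mem_centralizer_singleton_iff]
    have := congrArg (fun a => x⁻¹ * a * x) hg
    simpa [mul_assoc] using this
  -- conjugating `x z x⁻¹` by `H` gives 32 involutions in one class
  let t : N := ⟨x * z.1 * x⁻¹, ‹N.Normal›.conj_mem _ hzmem.2 x⟩
  obtain ⟨k, hk, hkt⟩ := order_cases (e' (zN * t))
  have hkt' : (zN * t) ^ k = 1 := e'.injective (by rw [map_pow, map_one]; exact hkt)
  have htt : t * t = 1 := by
    refine Subtype.ext ?_
    show x * z.1 * x⁻¹ * (x * z.1 * x⁻¹) = 1
    have : z.1 * z.1 = (1 : G) := congrArg Subtype.val hzz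
    calc x * z.1 * x⁻¹ * (x * z.1 * x⁻¹) = x * (z.1 * z.1) * x⁻¹ := by group
      _ = 1 := by rw [this, mul_one, mul_inv_cancel]
  have hle : 32 ≤ (Finset.univ.filter fun a : alternatingGroup (Fin 6) =>
      a * a = 1 ∧ (z0 * a) ^ k = 1).card := by
    rw [← hH, ← Fintype.card_subtype, ← Nat.card_eq_fintype_card]
    refine Nat.card_le_card_of_injective (fun h => ⟨e' (MulAut.conjNormal (h : G) t), ?_, ?_⟩) ?_
    · rw [← map_mul, ← map_mul, htt, map_one, map_one]
    · have hzfix : MulAut.conjNormal (h : G) zN = zN := Subtype.ext (by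
        rw [MulAut.conjNormal_apply]
        show (h : G) * z.1 * (h : G)⁻¹ = z.1
        rw [hHC _ h.2, mul_inv_cancel_right])
      have : (zN * MulAut.conjNormal (h : G) t) ^ k = 1 := by
        rw [show zN * MulAut.conjNormal (h : G) t = MulAut.conjNormal (h : G) (zN * t) by
          rw [map_mul, hzfix], ← map_pow, hkt', map_one]
      rw [← he', ← map_mul, ← map_pow, this, map_one]
    · intro a b hab
      have h1 : (a : G) * (x * z.1 * x⁻¹) * (a : G)⁻¹ = (b : G) * (x * z.1 * x⁻¹) * (b : G)⁻¹ := by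
        have := congrArg Subtype.val (e'.injective (congrArg Subtype.val hab))
        rwa [MulAut.conjNormal_apply, MulAut.conjNormal_apply] at this
      have h2 : ((b : G)⁻¹ * a) ∈ (H : Subgroup G) ⊓ MulAut.conj x • (H : Subgroup G) := by
        refine Subgroup.mem_inf.2 ⟨mul_mem (inv_mem b.2) a.2, hconj _ ?_⟩
        have := congrArg (fun q => (b : G)⁻¹ * q * (a : G)) h1
        simpa [mul_assoc] using this
      rw [hbot, mem_bot] at h2
      exact Subtype.ext (inv_mul_eq_one.1 h2).symm
  have := class_count k hk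
  omega

end Cfsg.Agent.S2488
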