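import Cfsg.Statements.S2493
import Mathlib
import Cfsg.Agent.Lib.SpecAlt.Decompose
import Cfsg.Agent.Lib.SpecAlt.DoubleCover

set_option autoImplicit false
open Cfsg
open scoped commutatorElement

namespace Cfsg.Agent.S2493

/-- Let n ≥ 5 and let G be a finite perfect group whose centre has order 2 with G/Z(G) isomorphic to the alternating group of degree n (the double cover of the alternating group). Then every element of G is a commutator. -/
theorem result {G : Type*} [Group G] [Finite G] (hperf : commutator G = ⊤) {n : ℕ} (hn : 5 ≤ n)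
    (hZ : Nat.card (Subgroup.center G) = 2) (e : G ⧸ Subgroup.center G ≃* alternatingGroup (Fin n))
    (g : G) :
    ∃ a b : G, a * b * a⁻¹ * b⁻¹ = g := by
  classical
  let π : G →* Equiv.Perm (Fin n) :=
    (alternatingGroup (Fin n)).subtype.comp (e.toMonoidHom.comp (QuotientGroup.mk' (Subgroup.center G)))
  have hker : π.ker = Subgroup.center G := by
    ext x
    simp [π, MonoidHom.mem_ker]
  have hcov : CfsgLib.SpecAlt.IsCover π := by
    refine ⟨hker.le, hperf, ?_, by rw [hker]; exact hZ, hker.ge⟩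
    ext p
    refine ⟨fun ⟨x, hx⟩ => hx ▸ SetLike.coe_mem _, fun hp => ?_⟩
    obtain ⟨x, hx⟩ := QuotientGroup.mk'_surjective _ (e.symm ⟨p, hp⟩)
    exact ⟨x, by
      simp only [π, MonoidHom.comp_apply, MulEquiv.coe_toMonoidHom, hx, MulEquiv.apply_symm_apply]
      rfl⟩
  have hπg : Equiv.Perm.sign (π g) = 1 := Equiv.Perm.mem_alternatingGroup.1 (SetLike.coe_mem _)
  obtain ⟨β, hβ, hcount, hct⟩ := CfsgLib.SpecAlt.exists_shape (π g) hπg (by simpa using hn)
  -- two transpositions in `β`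
  obtain ⟨s, τ, rfl, hsτ, hs, -, hs2, hpt, -⟩ :=
    CfsgLib.SpecAlt.exists_factor (l := 2) (Multiset.count_pos.1 (by omega : 0 < β.cycleType.count 2))
  rw [hpt, Multiset.count_cons_self] at hcount
  obtain ⟨t, r, rfl, htr, ht, -, ht2, -, -⟩ :=
    CfsgLib.SpecAlt.exists_factor (l := 2) (Multiset.count_pos.1 (by omega : 0 < τ.cycleType.count 2))
  obtain ⟨a, b, hab, rfl⟩ := Equiv.Perm.card_support_eq_two.1 hs2
  obtain ⟨c, d, hcd, rfl⟩ := Equiv.Perm.card_support_eq_two.1 ht2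
  rw [Equiv.Perm.disjoint_iff_disjoint_support, htr.support_mul, Finset.disjoint_union_right,
    Equiv.Perm.support_swap hab, Equiv.Perm.support_swap hcd] at hsτ
  rw [Equiv.Perm.disjoint_iff_disjoint_support, Equiv.Perm.support_swap hcd] at htr
  simp only [Finset.disjoint_insert_left, Finset.disjoint_singleton_left, Finset.mem_insert,
    Finset.mem_singleton, not_or] at hsτ htr
  obtain ⟨⟨⟨hac, had⟩, hbc, hbd⟩, har, hbr⟩ := hsτ
  obtain ⟨hcr, hdr⟩ := htr
  -- the conjugating element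
  obtain ⟨σ, hσ⟩ := isConj_iff.1 (Equiv.Perm.isConj_of_cycleType_eq hct.symm)
  set β := Equiv.swap a b * (Equiv.swap c d * r) with hβdef
  obtain ⟨σ', hσs, hσ'⟩ : ∃ σ' : Equiv.Perm (Fin n), Equiv.Perm.sign σ' = 1 ∧ σ' * β * σ'⁻¹ = π g * β := by
    rcases Int.units_eq_one_or (Equiv.Perm.sign σ) with h | h
    · exact ⟨σ, h, hσ⟩
    · refine ⟨σ * Equiv.swap a b, by rw [map_mul, h, Equiv.Perm.sign_swap hab]; rfl, ?_⟩
      have hcomm : Commute (Equiv.swap a b) (Equiv.swap c d * r) := by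
        apply Equiv.Perm.Disjoint.commute
        apply Equiv.Perm.Disjoint.mul_right
        · rw [Equiv.Perm.disjoint_iff_disjoint_support, Equiv.Perm.support_swap hab,
            Equiv.Perm.support_swap hcd]
          simp [Ne.symm hac, Ne.symm had, Ne.symm hbc, Ne.symm hbd]
        · rw [Equiv.Perm.disjoint_iff_disjoint_support, Equiv.Perm.support_swap hab]
          simp [har, hbr]
      rw [← hσ, mul_inv_rev, Equiv.swap_inv]
      calc σ * Equiv.swap a b * β * (Equiv.swap a b * σ⁻¹)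
          = σ * (Equiv.swap a b * β * Equiv.swap a b) * σ⁻¹ := by simp only [mul_assoc]
        _ = σ * β * σ⁻¹ := by
          rw [hβdef, show Equiv.swap a b * (Equiv.swap a b * (Equiv.swap c d * r)) * Equiv.swap a b =
            (Equiv.swap a b * Equiv.swap a b) * ((Equiv.swap c d * r) * Equiv.swap a b) by
            simp only [mul_assoc], Equiv.swap_mul_self, one_mul, hcomm.eq]
  obtain ⟨A, hA⟩ := hcov.exists_lift hσs
  have hsdt : Equiv.Perm.sign (CfsgLib.AltMult.dt a b c d) = 1 := by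
    rw [map_mul, Equiv.Perm.sign_swap hab, Equiv.Perm.sign_swap hcd]; rfl
  have hsdt' : Equiv.Perm.sign (CfsgLib.AltMult.dt a c b d) = 1 := by
    rw [map_mul, Equiv.Perm.sign_swap hac, Equiv.Perm.sign_swap hbd]; rfl
  have hsr : Equiv.Perm.sign r = 1 := by
    rw [hβdef, ← mul_assoc, map_mul, hsdt, one_mul] at hβ
    exact hβ
  obtain ⟨v, hv⟩ := hcov.exists_lift hsdt
  obtain ⟨R, hR⟩ := hcov.exists_lift hsr
  obtain ⟨T, hT⟩ := hcov.exists_lift hsdt'
  set B := v * R with hBdef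
  have hB : π B = β := by rw [hBdef, map_mul, hv, hR, hβdef, mul_assoc]
  have hTR : Commute T R := by
    refine hcov.commute_of_disjoint ?_
    rw [hT, hR]
    intro x
    by_cases hx : r x = x
    · exact Or.inr hx
    · left
      have hne : ∀ y, y ∉ r.support → x ≠ y := fun y hy e => hy (e ▸ Equiv.Perm.mem_support.2 hx)
      rw [Equiv.Perm.mul_apply, Equiv.swap_apply_of_ne_of_ne (hne b hbr) (hne d hdr),
        Equiv.swap_apply_of_ne_of_ne (hne a har) (hne c hcr)]
  have hz : ⁅T, B⁆ = ⁅T, v⁆ := by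
    rw [hBdef, commutatorElement_def, commutatorElement_def, mul_inv_rev]
    calc T * (v * R) * T⁻¹ * (R⁻¹ * v⁻¹) = T * v * (R * T⁻¹) * (R⁻¹ * v⁻¹) := by simp only [mul_assoc]
      _ = T * v * (T⁻¹ * R) * (R⁻¹ * v⁻¹) := by rw [hTR.inv_left.eq]
      _ = T * v * T⁻¹ * v⁻¹ := by group
  have hz1 : ⁅T, B⁆ ≠ 1 := hz ▸ hcov.anticomm hn hab hcd hac had hbc hbd hv hT
  have hzk : ⁅T, B⁆ ∈ π.ker := by
    rw [hz]
    refine CfsgLib.AltMult.com_mem ?_
    rw [hT, hv]
    refine Equiv.ext fun z => ?_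
    simp only [CfsgLib.AltMult.dt, Equiv.Perm.mul_apply, Equiv.swap_apply_def]
    grind
  have hAB : π (A * B * A⁻¹ * B⁻¹) = π g := by
    rw [map_mul, map_mul, map_mul, map_inv, map_inv, hA, hB, hσ', mul_inv_cancel_right]
  have hk : (A * B * A⁻¹ * B⁻¹)⁻¹ * g ∈ π.ker := by
    rw [MonoidHom.mem_ker, map_mul, map_inv, hAB, inv_mul_cancel]
  by_cases h1 : (A * B * A⁻¹ * B⁻¹)⁻¹ * g = 1
  · exact ⟨A, B, eq_of_inv_mul_eq_one h1⟩
  · refine ⟨A * T, B, ?_⟩
    have hzc : Commute ⁅T, B⁆ A⁻¹ := CfsgLib.Schur.ker_commute hcov.central hzk _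
    calc A * T * B * (A * T)⁻¹ * B⁻¹ = A * (⁅T, B⁆ * (B * A⁻¹ * B⁻¹)) := by
          rw [commutatorElement_def]; group
      _ = (A * B * A⁻¹ * B⁻¹) * ⁅T, B⁆ := by
          rw [(CfsgLib.Schur.ker_commute hcov.central hzk (B * A⁻¹ * B⁻¹)).eq]
          simp only [mul_assoc]
      _ = g := by
          rw [hcov.ker_eq_of_ne hzk hk hz1 h1, mul_inv_cancel_left]

end Cfsg.Agent.S2493
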