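import Cfsg.Statements.S2495
import Mathlib
import Cfsg.Agent.Lib.SpecLin.PrimeGraph
import Cfsg.Agent.Lib.NumberTheory.Zsigmondy

set_option autoImplicit false
open Cfsg

namespace Cfsg.Agent.S2495

/-- Let q be an odd prime power, n ≥ 4 even, and L = PSL(n,q). Then L has an element of order q^(n/2) + 1 if and only if the 2-part of n exceeds the 2-part of q − 1. -/
theorem result {F : Type*} [Field F] [Fintype F] {q : ℕ} (hF : Fintype.card F = q) (hodd : Odd q)
    {n : ℕ} (hn : 4 ≤ n) (heven : Even n) :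
    (∃ g : Matrix.ProjectiveSpecialLinearGroup (Fin n) F, orderOf g = q ^ (n / 2) + 1) ↔
      padicValNat 2 (q - 1) < padicValNat 2 n := by
  classical
  subst hF
  obtain ⟨m, rfl⟩ := heven
  have hm2 : 2 ≤ m := by omega
  rw [show (m + m) / 2 = m by omega]
  have hq1 : 1 < Fintype.card F := Fintype.one_lt_card
  set q := Fintype.card F with hqdef
  set d := Nat.gcd (m + m) (q - 1) with hddef
  have hd0 : 0 < d := Nat.gcd_pos_of_pos_left _ (by omega)
  have hdq : d ∣ q - 1 := Nat.gcd_dvd_right _ _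
  -- `d` divides `1 + q + ⋯ + q^(m-1)` iff it divides `m`
  have hcyc : (d ∣ CfsgLib.SpecLin.PSLOrders.cyc q m) ↔ d ∣ m := by
    rw [← ZMod.natCast_eq_zero_iff, ← ZMod.natCast_eq_zero_iff]
    have hq : ((q : ℕ) : ZMod d) = 1 := by
      have h1 : ((q - 1 : ℕ) : ZMod d) = 0 := (ZMod.natCast_eq_zero_iff _ _).2 hdq
      rw [← Nat.sub_add_cancel hq1.le, Nat.cast_add, h1, zero_add, Nat.cast_one]
    simp [CfsgLib.SpecLin.PSLOrders.cyc, hq]
  -- the arithmetic condition
  have hcond : d ∣ m ↔ padicValNat 2 (q - 1) < padicValNat 2 (m + m) := by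
    have hmm : padicValNat 2 (m + m) = padicValNat 2 m + 1 := by
      rw [← two_mul, padicValNat.mul (by norm_num) (by omega), padicValNat.self (by norm_num),
        add_comm]
    rw [hmm, Nat.lt_succ_iff]
    have h2q : 2 ^ padicValNat 2 (q - 1) ∣ q - 1 := pow_padicValNat_dvd
    have h2m : 2 ^ padicValNat 2 m ∣ m := pow_padicValNat_dvd
    constructor
    · intro h
      by_contra hlt
      push Not at hlt
      have h1 : 2 ^ (padicValNat 2 m + 1) ∣ d :=
        Nat.dvd_gcd (by rw [← two_mul, pow_succ']; exact Nat.mul_dvd_mul_left 2 h2m)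
          ((pow_dvd_pow 2 hlt).trans h2q)
      exact pow_succ_padicValNat_not_dvd (p := 2) (n := m) (by omega) (h1.trans h)
    · intro hle
      obtain ⟨a, u, hu, hdu⟩ := Nat.exists_eq_pow_mul_and_not_dvd hd0.ne' 2 (by norm_num)
      have hud : u ∣ m + m := (hdu ▸ dvd_mul_left u _ : u ∣ d).trans (Nat.gcd_dvd_left _ _)
      rw [← two_mul] at hud
      have hu' : u ∣ m :=
        (((Nat.Prime.coprime_iff_not_dvd Nat.prime_two).2 hu).symm).dvd_of_dvd_mul_left hud
      have ha : 2 ^ a ∣ q - 1 := (hdu ▸ dvd_mul_right _ u : 2 ^ a ∣ d).trans hdq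
      have ha' : a ≤ padicValNat 2 (q - 1) :=
        (padicValNat_dvd_iff_le (by omega : q - 1 ≠ 0)).1 ha
      rw [hdu]
      exact (((Nat.Prime.coprime_iff_not_dvd Nat.prime_two).2 hu).pow_left a).mul_dvd_of_dvd_of_dvd
        ((pow_dvd_pow 2 (ha'.trans hle)).trans h2m) hu'
  have hsplit : CfsgLib.SpecLin.PSLOrders.cyc q (m + m) =
      CfsgLib.SpecLin.PSLOrders.cyc q m * (q ^ m + 1) := by
    rw [CfsgLib.SpecLin.PSLOrders.cyc, Finset.sum_range_add, CfsgLib.SpecLin.PSLOrders.cyc,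
      Finset.sum_congr rfl (fun x _ => pow_add q m x), ← Finset.mul_sum]
    ring
  rw [← hcond, ← hcyc]
  constructor
  · rintro ⟨g, hg⟩
    obtain ⟨M, rfl⟩ := QuotientGroup.mk_surjective g
    have hq2 : q ≠ 2 := by rintro h; rw [h] at hodd; exact absurd hodd (by decide)
    obtain ⟨r, hr⟩ := CfsgLib.NumberTheory.exists_isPPD_of_two_lt (a := q) (n := m + m) hq1 (by omega)
      (fun h => hq2 h.1)
    have := Fact.mk hr.1
    have hord := hr.orderOf_eq hq1.le (by omega)
    have hrN : r ∣ q ^ m + 1 := by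
      have h : r ∣ (q ^ m - 1) * (q ^ m + 1) := by
        have h' := hr.2.1
        rwa [pow_add, show q ^ m * q ^ m - 1 = (q ^ m - 1) * (q ^ m + 1) by
          rw [mul_comm (q ^ m - 1), ← Nat.sq_sub_sq, sq, sq, mul_one]] at h'
      exact (hr.1.dvd_mul.1 h).resolve_left (hr.2.2 m (by omega) (by omega))
    set A := (M : Matrix (Fin (m + m)) (Fin (m + m)) F)
    set o := orderOf M with ho
    have hNo : q ^ m + 1 ∣ o := hg ▸ orderOf_map_dvd (QuotientGroup.mk' _) M
    have hoN : o ∣ (q ^ m + 1) * (q - 1) := by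
      apply orderOf_dvd_of_pow_eq_one
      rw [pow_mul]
      apply CfsgLib.SpecLin.PrimeGraph.center_pow_card_sub_one _ (by omega)
      rw [← QuotientGroup.eq_one_iff, QuotientGroup.mk_pow, ← hg, pow_orderOf_eq_one]
    obtain ⟨p, hp⟩ := CharP.exists F
    obtain ⟨f, hfp, hf⟩ := FiniteField.card F p
    have := Fact.mk hfp
    have hpo : ¬ p ∣ o := fun h => by
      have hpq : p ∣ q := by rw [hqdef, hf]; exact dvd_pow_self p f.pos.ne'
      have hone : ∀ {a : ℕ}, p ∣ a + 1 → p ∣ a → False := fun {a} h1 h2 =>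
        hfp.one_lt.ne' (Nat.dvd_one.1 ((Nat.dvd_add_right h2).1 h1))
      rcases hfp.dvd_mul.1 (h.trans hoN) with h | h
      · exact hone h (dvd_pow hpq (by omega))
      · exact hone (a := q - 1) (by rwa [Nat.sub_add_cancel hq1.le]) h
    have ho0 : o ≠ 0 := (orderOf_pos M).ne'
    have hoA : orderOf A = o := CfsgLib.SpecLin.PrimeGraph.orderOf_coe M
    have hdvd : minpoly F A ∣ Polynomial.X ^ o - 1 := by
      rw [← Polynomial.C_1]
      exact CfsgLib.SpecLin.PrimeGraph.minpoly_dvd_of_pow (by rw [one_smul, ← hoA, pow_orderOf_eq_one])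
    have hsq : Squarefree (minpoly F A) :=
      ((Polynomial.X_pow_sub_one_separable_iff.2
        (fun h => hpo ((CharP.cast_eq_zero_iff F p _).1 h))).of_dvd hdvd).squarefree
    have hne : minpoly F A ≠ 0 := minpoly.ne_zero (Matrix.isIntegral A)
    have hro : r ∣ o := hrN.trans hNo
    obtain ⟨φ, hφi, hφd, hφn⟩ := CfsgLib.SpecLin.PrimeGraph.exists_irreducible_not_dvd
      (f := Polynomial.X ^ (o / r) - 1) hne hsq fun h => by
        rw [← Polynomial.C_1] at h
        have h' := CfsgLib.SpecLin.PrimeGraph.pow_eq_of_minpoly_dvd h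
        rw [one_smul] at h'
        have h1 := orderOf_dvd_of_pow_eq_one h'
        rw [hoA] at h1
        have hpos : 0 < o / r := Nat.div_pos (Nat.le_of_dvd (by omega) hro) hr.1.pos
        have := Nat.le_of_dvd hpos h1
        have := Nat.div_lt_self (n := o) (k := r) (by omega) hr.1.one_lt
        omega
    obtain ⟨hdeg, -⟩ := CfsgLib.SpecLin.PrimeGraph.order_dvd_natDegree hφi (r := r) (a := o)
      (b := o / r) (Nat.mul_div_cancel' hro).symm (hφd.trans hdvd) hφn ho0
    rw [hord] at hdeg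
    have hdegle := (Polynomial.natDegree_le_of_dvd hφd hne)
    have hle := CfsgLib.SpecLin.PrimeGraph.natDegree_minpoly_le A
    have hpos := Nat.le_of_dvd hφi.natDegree_pos hdeg
    obtain ⟨ψ, hψm, hψ⟩ : ∃ ψ : Polynomial F, ψ.Monic ∧ Associated φ ψ :=
      ⟨_, Polynomial.monic_mul_leadingCoeff_inv hφi.ne_zero,
        (associated_mul_unit_right φ _ (Polynomial.isUnit_C.2 (IsUnit.mk0 _
          (inv_ne_zero (Polynomial.leadingCoeff_ne_zero.2 hφi.ne_zero)))))⟩
    have hψd : ψ.natDegree = φ.natDegree :=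
      (Polynomial.natDegree_eq_of_degree_eq (Polynomial.degree_eq_degree_of_associated hψ)).symm
    have hchar : A.charpoly = ψ := by
      refine Polynomial.eq_of_monic_of_dvd_of_natDegree_le hψm A.charpoly_monic
        ((hψ.symm.dvd.trans hφd).trans (Matrix.minpoly_dvd_charpoly A)) ?_
      rw [Matrix.charpoly_natDegree_eq_dim, Fintype.card_fin, hψd]
      omega
    have := Fact.mk (hψ.irreducible hφi)
    have hN' := CfsgLib.SpecLin.PSLOrders.root_pow_cyc_eq_one (M := M) hψm (by omega) hchar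
    obtain ⟨ν, hν⟩ := CfsgLib.SpecLin.PSLOrders.exists_dvd_X_pow_sub_C (φ := ψ)
      (k := CfsgLib.SpecLin.PSLOrders.cyc q (m + m) / d) (by
        have h1 : CfsgLib.SpecLin.PSLOrders.cyc q (m + m) / d * (q - 1) =
            CfsgLib.SpecLin.PSLOrders.cyc q (m + m) * ((q - 1) / d) := by
          rw [Nat.div_mul_right_comm (CfsgLib.SpecLin.PSLOrders.gcd_dvd_cyc _ _ hq1.le),
            Nat.mul_div_assoc _ hdq]
        rw [← hqdef, h1, pow_mul, hN', one_pow])
    have hb := CfsgLib.SpecLin.PSLOrders.orderOf_mk_dvd_of_primary p (c := 0) (e := 1) (M := M)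
      (by rw [pow_one, ← hchar, Matrix.aeval_self_charpoly]) hν (by simp)
    rw [hg, pow_zero, mul_one] at hb
    obtain ⟨c, hc⟩ := hb
    have hdc : d ∣ CfsgLib.SpecLin.PSLOrders.cyc q (m + m) :=
      CfsgLib.SpecLin.PSLOrders.gcd_dvd_cyc _ _ hq1.le
    have h1 : CfsgLib.SpecLin.PSLOrders.cyc q m * (q ^ m + 1) = c * d * (q ^ m + 1) := by
      rw [← hsplit]
      conv_lhs => rw [← Nat.div_mul_cancel hdc]
      rw [hc]; ring
    exact ⟨c, (Nat.eq_of_mul_eq_mul_right (by positivity) h1).trans (mul_comm c d)⟩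
  · intro hdm
    obtain ⟨g, hg⟩ := CfsgLib.SpecLin.PSLOrders.exists_mk_singer (F := F) (n := m + m) (by omega)
    refine CfsgLib.SpecLin.exists_orderOf_eq_of_dvd (orderOf_pos g).ne' (dvd_trans ?_ hg)
    rw [← hqdef, ← hddef, hsplit, mul_comm, Nat.mul_div_assoc _ hdm]
    exact dvd_mul_right _ _

end Cfsg.Agent.S2495
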