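import Cfsg.Statements.S2496
import Mathlib
import Cfsg.Agent.Lib.SpecUnitary.Split
import Cfsg.Agent.Lib.NumberTheory.Zsigmondy
import Cfsg.Agent.Lib.SpecSp.PrimeGraph

set_option autoImplicit false
open Cfsg
open Matrix

namespace Cfsg.Agent.S2496

/-- Let q be an odd prime power, n ≥ 4 even, and U = PSU(n,q) (realised over the field with q² elements). Then U has an element of order q^(n/2) + (−1)^(n/2) — that is, q^(n/2) + 1 when n/2 is even and q^(n/2) − 1 when n/2 is odd — if and only if the 2-part of n exceeds the 2-part of q + 1. -/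
theorem result {F : Type*} [Field F] [Fintype F] {q : ℕ} (hF : Fintype.card F = q ^ 2) (hodd : Odd q)
    {n : ℕ} (hn : 4 ≤ n) (heven : Even n) :
    (∃ g : Cfsg.PSU n F q, orderOf g = if Even (n / 2) then q ^ (n / 2) + 1 else q ^ (n / 2) - 1) ↔
      padicValNat 2 (q + 1) < padicValNat 2 n := by
  classical
  obtain ⟨m, rfl⟩ := heven
  have hm2 : 2 ≤ m := by omega
  rw [show (m + m) / 2 = m by omega]
  have hq1 : 1 < q := CfsgLib.UnitaryEmbed.q_gt_one hF
  have hq3 : 3 ≤ q := by obtain ⟨c, hc⟩ := hodd; omega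
  obtain ⟨τ, hτ, hτne, hτ2⟩ := CfsgLib.UnitaryEmbed.exists_conj hF
  set N := if Even m then q ^ m + 1 else q ^ m - 1 with hN
  set d := Nat.gcd (m + m) (q + 1) with hddef
  have hd0 : 0 < d := Nat.gcd_pos_of_pos_right _ (by omega)
  have hdq : d ∣ q + 1 := Nat.gcd_dvd_right _ _
  have hdF : d ∣ Fintype.card F - 1 := by
    rw [hF, show q ^ 2 - 1 = (q + 1) * (q - 1) by rw [← Nat.sq_sub_sq, one_pow]]
    exact hdq.mul_right _
  have hqm : 1 ≤ q ^ m := Nat.one_le_pow _ _ (by omega)
  have hqm2 : 3 ≤ q ^ m := le_trans hq3 (Nat.le_self_pow (by omega) _)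
  -- the complementary factor `W = (q^m - (-1)^m)/(q+1)`
  obtain ⟨W, hW, hWd⟩ : ∃ W : ℕ, (W * (q + 1) = if Even m then q ^ m - 1 else q ^ m + 1) ∧
      (d ∣ W ↔ d ∣ m) := by
    set Wz : ℤ := ∑ i ∈ Finset.range m, (q : ℤ) ^ i * (-1) ^ (m - 1 - i) with hWz
    have hgeo : Wz * ((q : ℤ) + 1) = (q : ℤ) ^ m - (-1) ^ m := by
      rw [← geom_sum₂_mul (q : ℤ) (-1) m, sub_neg_eq_add]
    have hpos : 0 ≤ Wz := by
      refine nonneg_of_mul_nonneg_left (a := Wz) (b := (q : ℤ) + 1) ?_ (by positivity)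
      rw [hgeo]
      rcases neg_one_pow_eq_or ℤ m with h | h <;> rw [h] <;>
        linarith [(by exact_mod_cast hqm : (1 : ℤ) ≤ (q : ℤ) ^ m)]
    refine ⟨Wz.toNat, ?_, ?_⟩
    · apply Nat.cast_injective (R := ℤ)
      rw [Nat.cast_mul, Int.toNat_of_nonneg hpos, Nat.cast_add, Nat.cast_one, hgeo]
      split_ifs with h
      · rw [h.neg_one_pow, Nat.cast_sub hqm]; push_cast; ring
      · rw [(Nat.not_even_iff_odd.1 h).neg_one_pow]; push_cast; ring
    · rw [← ZMod.natCast_eq_zero_iff, ← ZMod.natCast_eq_zero_iff, ← Int.cast_natCast (R := ZMod d) Wz.toNat,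
        Int.toNat_of_nonneg hpos]
      have hqd : ((q : ℕ) : ZMod d) = -1 := by
        have h1 : ((q + 1 : ℕ) : ZMod d) = 0 := (ZMod.natCast_eq_zero_iff _ _).2 hdq
        push_cast at h1
        exact eq_neg_of_add_eq_zero_left h1
      have hcast : (Wz : ZMod d) = (m : ZMod d) * (-1) ^ (m - 1) := by
        simp only [hWz, Int.cast_sum, Int.cast_mul, Int.cast_pow, Int.cast_natCast, hqd, Int.cast_neg,
          Int.cast_one, ← pow_add]
        rw [Finset.sum_congr rfl fun i hi => by rw [Nat.add_sub_cancel' (by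
          rw [Finset.mem_range] at hi; omega : i ≤ m - 1)], Finset.sum_const, Finset.card_range,
          nsmul_eq_mul]
      rw [hcast]
      rcases neg_one_pow_eq_or (ZMod d) (m - 1) with h | h <;> simp [h]
  have hNW : N * W * (q + 1) = (q ^ 2) ^ m - 1 := by
    rw [mul_assoc, hW, ← pow_mul, mul_comm 2, pow_mul, ← one_pow 2, Nat.sq_sub_sq, hN]
    split_ifs <;> simp only [one_pow] <;> ring
  have hN0 : 2 ≤ N := by rw [hN]; split_ifs <;> omega
  -- the arithmetic condition
  have hcond : d ∣ m ↔ padicValNat 2 (q + 1) < padicValNat 2 (m + m) := by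
    have hmm : padicValNat 2 (m + m) = padicValNat 2 m + 1 := by
      rw [← two_mul, padicValNat.mul (by norm_num) (by omega), padicValNat.self (by norm_num),
        add_comm]
    rw [hmm, Nat.lt_succ_iff]
    have h2q : 2 ^ padicValNat 2 (q + 1) ∣ q + 1 := pow_padicValNat_dvd
    have h2m : 2 ^ padicValNat 2 m ∣ m := pow_padicValNat_dvd
    constructor
    · intro h
      by_contra hlt
      push Not at hlt
      have h1 : 2 ^ (padicValNat 2 m + 1) ∣ d :=
        Nat.dvd_gcd (by rw [← two_mul, pow_succ']; exact Nat.mul_dvd_mul_left 2 h2m)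
          ((pow_dvd_pow 2 hlt).trans h2q)
      exact pow_succ_padicValNat_not_dvd (p := 2) (n := m) (by omega) (h1.trans h)
    · intro hle
      obtain ⟨a, u, hu, hdu⟩ := Nat.exists_eq_pow_mul_and_not_dvd hd0.ne' 2 (by norm_num)
      have hud : u ∣ m + m := (hdu ▸ dvd_mul_left u _ : u ∣ d).trans (Nat.gcd_dvd_left _ _)
      rw [← two_mul] at hud
      have hu' : u ∣ m :=
        (((Nat.Prime.coprime_iff_not_dvd Nat.prime_two).2 hu).symm).dvd_of_dvd_mul_left hud
      have ha : 2 ^ a ∣ q + 1 := (hdu ▸ dvd_mul_right _ u : 2 ^ a ∣ d).trans hdq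
      have ha' : a ≤ padicValNat 2 (q + 1) := (padicValNat_dvd_iff_le (by omega : q + 1 ≠ 0)).1 ha
      rw [hdu]
      exact (((Nat.Prime.coprime_iff_not_dvd Nat.prime_two).2 hu).pow_left a).mul_dvd_of_dvd_of_dvd
        ((pow_dvd_pow 2 (ha'.trans hle)).trans h2m) hu'
  -- scalars
  have hscalar : ∀ (X : Cfsg.SU (m + m) F q) (c : F),
      X.1.1 = c • (1 : Matrix (Fin (m + m)) (Fin (m + m)) F) → X ∈ Subgroup.center _ := by
    intro X c hc
    rw [Subgroup.mem_center_iff]
    intro Y
    apply Subtype.ext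
    apply Subtype.ext
    change Y.1.1 * X.1.1 = X.1.1 * Y.1.1
    rw [hc, Algebra.mul_smul_comm, mul_one, smul_mul_assoc, one_mul]
  have hcenter : ∀ Z : Cfsg.SU (m + m) F q, Z ∈ Subgroup.center _ → ∃ c : F,
      Z.1.1 = c • (1 : Matrix (Fin (m + m)) (Fin (m + m)) F) ∧ c ^ (q + 1) = 1 ∧ c ^ d = 1 := by
    intro Z hZ
    let i₀ : Fin (m + m) := ⟨0, by omega⟩
    have hsc := CfsgLib.ClassicalGroups.center_SU_scalar hF ⟨Z, hZ⟩
    have hc : Z.1.1 = Z.1.1 i₀ i₀ • (1 : Matrix (Fin (m + m)) (Fin (m + m)) F) := by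
      ext k l
      by_cases hkl : k = l
      · subst hkl
        simpa using (hsc k i₀).2
      · simpa [hkl] using (hsc k l).1 hkl
    have hh := Z.2 (Pi.single i₀ 1) (Pi.single i₀ 1)
    change Cfsg.hermForm _ F q (Z.1.1 *ᵥ _) (Z.1.1 *ᵥ _) = _ at hh
    rw [hc, Matrix.smul_mulVec, Matrix.one_mulVec] at hh
    simp only [Cfsg.hermForm, Pi.smul_apply, smul_eq_mul, mul_pow] at hh
    rw [Finset.sum_eq_single i₀ (fun j _ hj => by simp [hj]) (by simp),
      Finset.sum_eq_single i₀ (fun j _ hj => by simp [hj]) (by simp)] at hh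
    simp only [Pi.single_eq_same, one_pow, mul_one] at hh
    rw [← pow_succ'] at hh
    refine ⟨_, hc, hh, ?_⟩
    have hdet := Z.1.2
    rw [hc, Matrix.det_smul, Matrix.det_one, mul_one, Fintype.card_fin] at hdet
    exact pow_gcd_eq_one.2 ⟨hdet, hh⟩
  rw [← hcond, ← hWd]
  constructor
  · rintro ⟨g, hg⟩
    obtain ⟨M, rfl⟩ := QuotientGroup.mk_surjective g
    set o := orderOf M with ho
    have hNo : N ∣ o := hg ▸ orderOf_map_dvd (QuotientGroup.mk' _) M
    have hoN : o ∣ N * (q + 1) := by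
      apply orderOf_dvd_of_pow_eq_one
      rw [pow_mul]
      obtain ⟨c, hc, hc1, -⟩ := hcenter (M ^ N) (by
        rw [← QuotientGroup.eq_one_iff, QuotientGroup.mk_pow, ← hg, pow_orderOf_eq_one])
      apply Subtype.ext
      apply Subtype.ext
      rw [SubmonoidClass.coe_pow, Matrix.SpecialLinearGroup.coe_pow, hc, _root_.smul_pow, one_pow, hc1,
        one_smul]
      rfl
    obtain ⟨p, hp⟩ := CharP.exists F
    obtain ⟨f, hfp, hf⟩ := FiniteField.card F p
    have := Fact.mk hfp
    have hpo : ¬ p ∣ o := fun h => by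
      have hpq : p ∣ q := hfp.dvd_of_dvd_pow (n := 2) (by rw [← hF, hf]; exact dvd_pow_self p f.pos.ne')
      have hone : ∀ {a : ℕ}, p ∣ a + 1 → p ∣ a → False := fun {a} h1 h2 =>
        hfp.one_lt.ne' (Nat.dvd_one.1 ((Nat.dvd_add_right h2).1 h1))
      rcases hfp.dvd_mul.1 (h.trans hoN) with h | h
      · rw [hN] at h
        split_ifs at h
        · exact hone h (dvd_pow hpq (by omega))
        · exact hone (a := q ^ m - 1) (by rw [Nat.sub_add_cancel hqm]; exact dvd_pow hpq (by omega)) h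
      · exact hone h hpq
    -- a primitive prime divisor
    obtain ⟨r, hr, hrN, hord, hno⟩ : ∃ r : ℕ, r.Prime ∧ r ∣ N ∧
        orderOf ((q ^ 2 : ℕ) : ZMod r) = m ∧ ∀ i, ¬ r ∣ q ^ (2 * i + 1) + 1 := by
      have hq2 : q ≠ 2 := by omega
      by_cases hev : Even m
      · obtain ⟨r, hr⟩ := CfsgLib.NumberTheory.exists_isPPD_of_two_lt (a := q) (n := m + m) hq1
          (by omega) (fun h => hq2 h.1)
        have := Fact.mk hr.1
        have hx := hr.orderOf_eq hq1.le (by omega)
        refine ⟨r, hr.1, ?_, ?_, fun i hi => ?_⟩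
        · rw [hN, if_pos hev]
          have h : r ∣ (q ^ m - 1) * (q ^ m + 1) := by
            have h' := hr.2.1
            rwa [pow_add, show q ^ m * q ^ m - 1 = (q ^ m - 1) * (q ^ m + 1) by
              rw [mul_comm (q ^ m - 1), ← Nat.sq_sub_sq, sq, sq, mul_one]] at h'
          exact (hr.1.dvd_mul.1 h).resolve_left (hr.2.2 m (by omega) (by omega))
        · rw [Nat.cast_pow, orderOf_pow_of_dvd two_ne_zero (by rw [hx]; exact ⟨m, by ring⟩), hx]
          omega
        · have h1 : ((q : ℕ) : ZMod r) ^ (2 * i + 1) = -1 := by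
            rw [← ZMod.natCast_eq_zero_iff, Nat.cast_add, Nat.cast_pow, Nat.cast_one] at hi
            exact eq_neg_of_add_eq_zero_left hi
          have h2 : m + m ∣ 2 * (2 * i + 1) := hx ▸ orderOf_dvd_of_pow_eq_one (by
            rw [mul_comm, pow_mul, h1, neg_one_sq])
          rw [← two_mul, Nat.mul_dvd_mul_iff_left two_pos] at h2
          exact Nat.not_even_two_mul_add_one i (even_iff_two_dvd.2 (hev.two_dvd.trans h2))
      · have hodd' := Nat.not_even_iff_odd.1 hev
        obtain ⟨r, hr⟩ := CfsgLib.NumberTheory.exists_isPPD_of_two_lt (a := q) (n := m) hq1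
          (by obtain ⟨c, hc⟩ := hodd'; omega) (fun h => hq2 h.1)
        have := Fact.mk hr.1
        have hx := hr.orderOf_eq hq1.le (by omega)
        refine ⟨r, hr.1, ?_, ?_, fun i hi => ?_⟩
        · rw [hN, if_neg hev]; exact hr.2.1
        · rw [Nat.cast_pow, Nat.Coprime.orderOf_pow (by rw [hx]; exact Nat.coprime_two_right.2 hodd'), hx]
        · have h1 : ((q : ℕ) : ZMod r) ^ (2 * i + 1) = -1 := by
            rw [← ZMod.natCast_eq_zero_iff, Nat.cast_add, Nat.cast_pow, Nat.cast_one] at hi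
            exact eq_neg_of_add_eq_zero_left hi
          have h2 : m ∣ 2 * (2 * i + 1) := hx ▸ orderOf_dvd_of_pow_eq_one (by
            rw [mul_comm, pow_mul, h1, neg_one_sq])
          have h3 : ((q : ℕ) : ZMod r) ^ (2 * i + 1) = 1 := orderOf_dvd_iff_pow_eq_one.1
            (hx ▸ (Nat.coprime_two_right.2 hodd').dvd_mul_left.1 h2)
          have hr2 : r ≠ 2 := by
            rintro rfl
            have : orderOf ((q : ℕ) : ZMod 2) = 1 := by
              rw [orderOf_eq_one_iff]
              exact ZMod.natCast_eq_one_iff_odd.2 hodd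
            omega
          have : Fact (2 < r) := ⟨by have := hr.1.two_le; omega⟩
          exact ZMod.neg_one_ne_one (h1.symm.trans h3)
    have := Fact.mk hr
    set A := M.1.1 with hAdef
    have hA : Aᵀ * A.map τ = 1 :=
      CfsgLib.UnitaryEmbed.gu_transpose_mul τ hτ (⟨M.1.toGL, M.2⟩ : ↥(Cfsg.GU (m + m) F q))
    have ho0 : o ≠ 0 := (orderOf_pos M).ne'
    have hoA : orderOf A = o :=
      (CfsgLib.SpecLin.PrimeGraph.orderOf_coe M.1).trans
        (orderOf_injective (Cfsg.SU (m + m) F q).subtype Subtype.val_injective M)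
    have hdvd : minpoly F A ∣ Polynomial.X ^ o - 1 := by
      rw [← Polynomial.C_1]
      exact CfsgLib.SpecLin.PrimeGraph.minpoly_dvd_of_pow (by rw [one_smul, ← hoA, pow_orderOf_eq_one])
    have hsq : Squarefree (minpoly F A) :=
      ((Polynomial.X_pow_sub_one_separable_iff.2
        (fun h => hpo ((CharP.cast_eq_zero_iff F p _).1 h))).of_dvd hdvd).squarefree
    have hne : minpoly F A ≠ 0 := minpoly.ne_zero (Matrix.isIntegral A)
    have hro : r ∣ o := hrN.trans hNo
    obtain ⟨φ, hφi, hφd, hφn⟩ := CfsgLib.SpecLin.PrimeGraph.exists_irreducible_not_dvd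
      (f := Polynomial.X ^ (o / r) - 1) hne hsq fun h => by
        rw [← Polynomial.C_1] at h
        have h' := CfsgLib.SpecLin.PrimeGraph.pow_eq_of_minpoly_dvd h
        rw [one_smul] at h'
        have h1 := orderOf_dvd_of_pow_eq_one h'
        rw [hoA] at h1
        have hpos : 0 < o / r := Nat.div_pos (Nat.le_of_dvd (by omega) hro) hr.pos
        have := Nat.le_of_dvd hpos h1
        have := Nat.div_lt_self (n := o) (k := r) (by omega) hr.one_lt
        omega
    obtain ⟨ψ, hψm, hψ⟩ : ∃ ψ : Polynomial F, ψ.Monic ∧ Associated φ ψ :=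
      ⟨_, Polynomial.monic_mul_leadingCoeff_inv hφi.ne_zero,
        (associated_mul_unit_right φ _ (Polynomial.isUnit_C.2 (IsUnit.mk0 _
          (inv_ne_zero (Polynomial.leadingCoeff_ne_zero.2 hφi.ne_zero)))))⟩
    have hψi := hψ.irreducible hφi
    have hψd : ψ ∣ minpoly F A := hψ.symm.dvd.trans hφd
    have hψn : ¬ ψ ∣ Polynomial.X ^ (o / r) - 1 := fun h => hφn (hψ.dvd.trans h)
    obtain ⟨hdeg, -⟩ := CfsgLib.SpecLin.PrimeGraph.order_dvd_natDegree hψi (r := r) (a := o)
      (b := o / r) (Nat.mul_div_cancel' hro).symm (hψd.trans hdvd) hψn ho0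
    rw [hF, hord] at hdeg
    have hψ0 : ψ.coeff 0 ≠ 0 :=
      CfsgLib.SpecSp.PrimeGraph.coeff_zero_of_dvd_X_pow_sub_one (by omega) (hψd.trans hdvd)
    have hμ0 : (minpoly F A).coeff 0 ≠ 0 :=
      CfsgLib.SpecSp.PrimeGraph.coeff_zero_of_dvd_X_pow_sub_one (by omega) hdvd
    have hμrev : ((minpoly F A).map τ).reverse ∣ minpoly F A := by
      refine (Polynomial.associated_of_dvd_of_natDegree_le
        (minpoly.dvd F A (CfsgLib.SpecUnitary.aeval_conj_reverse hA (minpoly.aeval F A))) ?_ ?_).symm.dvd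
      · rw [Ne, Polynomial.reverse_eq_zero, Polynomial.map_eq_zero]; exact hne
      · rw [CfsgLib.SpecSp.natDegree_reverse_eq (by rw [Polynomial.coeff_map]; simpa using hμ0),
          Polynomial.natDegree_map]
    have hψrev : (ψ.map τ).reverse ∣ minpoly F A := by
      refine dvd_trans ?_ hμrev
      obtain ⟨c, hc⟩ := hψd
      rw [hc, Polynomial.map_mul, Polynomial.reverse_mul_of_domain]
      exact dvd_mul_right _ _
    have hns : ¬ ψ ∣ (ψ.map τ).reverse :=
      CfsgLib.SpecUnitary.not_dvd_conj_reverse hF hτ hψi hψ0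
        (CfsgLib.SpecSp.PrimeGraph.prime_dvd_orderOf_root hr (Nat.mul_div_cancel' hro).symm
          (hψd.trans hdvd) hψn) hno
    have hprod := (hψi.coprime_iff_not_dvd.2 hns).mul_dvd hψd hψrev
    have hψτ0 : (ψ.map τ).coeff 0 ≠ 0 := by rw [Polynomial.coeff_map]; simpa using hψ0
    have hdprod : (ψ * (ψ.map τ).reverse).natDegree = ψ.natDegree + ψ.natDegree := by
      rw [Polynomial.natDegree_mul hψi.ne_zero (by
          rw [Ne, Polynomial.reverse_eq_zero, Polynomial.map_eq_zero]; exact hψi.ne_zero),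
        CfsgLib.SpecSp.natDegree_reverse_eq hψτ0, Polynomial.natDegree_map]
    have hle := CfsgLib.SpecLin.PrimeGraph.natDegree_minpoly_le A
    have hdle := Polynomial.natDegree_le_of_dvd hprod hne
    have hpos := Nat.le_of_dvd hψi.natDegree_pos hdeg
    have hdm : ψ.natDegree = m := by omega
    -- the characteristic polynomial and the norm of the root
    have hchar : Associated (ψ * (ψ.map τ).reverse) A.charpoly :=
      Polynomial.associated_of_dvd_of_natDegree_le (hprod.trans (Matrix.minpoly_dvd_charpoly A))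
        A.charpoly_monic.ne_zero (by rw [Matrix.charpoly_natDegree_eq_dim, Fintype.card_fin, hdprod]; omega)
    obtain ⟨u, hu⟩ := hchar
    obtain ⟨c₀, -, hc₀⟩ := Polynomial.isUnit_iff.1 u.isUnit
    rw [← hc₀] at hu
    have hfix : ψ.coeff 0 ^ q = ψ.coeff 0 := by
      have h1 := Matrix.det_eq_sign_charpoly_coeff A
      rw [show A.det = 1 from M.1.2, Fintype.card_fin, Even.neg_one_pow ⟨m, rfl⟩, one_mul,
        ← hu, Polynomial.mul_coeff_zero, Polynomial.mul_coeff_zero, Polynomial.coeff_zero_reverse,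
        (hψm.map τ).leadingCoeff, mul_one, Polynomial.coeff_C_zero] at h1
      have h2 := A.charpoly_monic.leadingCoeff
      rw [← hu, Polynomial.leadingCoeff_mul, Polynomial.leadingCoeff_mul, hψm.leadingCoeff,
        Polynomial.leadingCoeff_C, Polynomial.reverse_leadingCoeff, one_mul] at h2
      have h3 : (ψ.map τ).trailingCoeff = (ψ.map τ).coeff 0 := by
        rw [Polynomial.trailingCoeff, Polynomial.natTrailingDegree_eq_zero.2 (Or.inr hψτ0)]
      rw [h3, Polynomial.coeff_map, hτ] at h2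
      refine mul_right_cancel₀ (b := c₀) ?_ (h2.trans h1)
      rintro rfl
      simp at h2
    have := Fact.mk hψi
    let pb := AdjoinRoot.powerBasis hψi.ne_zero
    have : Module.Finite F (AdjoinRoot ψ) := pb.finite
    have : Finite (AdjoinRoot ψ) := Module.finite_of_finite F
    set ρ := AdjoinRoot.root ψ with hρdef
    have hKd : d ∣ N * W := by
      have h1 : d ∣ CfsgLib.SpecLin.PSLOrders.cyc (q ^ 2) m * (q - 1) := by
        have : ((CfsgLib.SpecLin.PSLOrders.cyc (q ^ 2) m * (q - 1) : ℕ) : ZMod d) = 0 := by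
          have hqd : ((q : ℕ) : ZMod d) = -1 := by
            have h1 : ((q + 1 : ℕ) : ZMod d) = 0 := (ZMod.natCast_eq_zero_iff _ _).2 hdq
            push_cast at h1
            exact eq_neg_of_add_eq_zero_left h1
          have h2m : ((m + m : ℕ) : ZMod d) = 0 := (ZMod.natCast_eq_zero_iff _ _).2 (Nat.gcd_dvd_left _ _)
          push_cast at h2m
          simp only [CfsgLib.SpecLin.PSLOrders.cyc, Nat.cast_mul, Nat.cast_sum, Nat.cast_pow,
            Nat.cast_sub hq1.le, hqd, Nat.cast_one, neg_one_sq, one_pow, Finset.sum_const,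
            Finset.card_range, nsmul_eq_mul, mul_one]
          linear_combination -h2m
        exact (ZMod.natCast_eq_zero_iff _ _).1 this
      have h2 : CfsgLib.SpecLin.PSLOrders.cyc (q ^ 2) m * (q - 1) = N * W := by
        have h := CfsgLib.SpecLin.PSLOrders.cyc_mul (q ^ 2) m (Nat.one_le_pow _ _ (by omega))
        rw [← hNW, show q ^ 2 - 1 = (q - 1) * (q + 1) by
          rw [mul_comm, ← Nat.sq_sub_sq, one_pow], ← mul_assoc] at h
        exact Nat.eq_of_mul_eq_mul_right (by omega) h
      exact h2 ▸ h1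
    have hρK : ρ ^ (N * W) = 1 := by
      have h := FiniteField.algebraMap_norm_eq_pow_sum (K := F) (L := AdjoinRoot ψ) (x := ρ)
      rw [show Module.finrank F (AdjoinRoot ψ) = m by
        rw [pb.finrank, AdjoinRoot.powerBasis_dim, hdm], Nat.card_eq_fintype_card, hF] at h
      have hn1 : Algebra.norm F ρ ^ (q - 1) = 1 := by
        have h1 := Algebra.PowerBasis.norm_gen_eq_coeff_zero_minpoly pb
        rw [AdjoinRoot.powerBasis_gen, AdjoinRoot.powerBasis_dim, AdjoinRoot.minpoly_root hψi.ne_zero,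
          hψm.leadingCoeff, inv_one, map_one, mul_one] at h1
        obtain ⟨c, hc⟩ := hodd
        have hev : Even (q - 1) := ⟨c, by omega⟩
        rw [h1, mul_pow, ← pow_mul, (hev.mul_left _).neg_one_pow, one_mul]
        refine mul_right_cancel₀ hψ0 ?_
        rw [← pow_succ, Nat.sub_add_cancel hq1.le, hfix, one_mul]
      have h2 := congrArg (· ^ (q - 1)) h
      simp only [← map_pow, hn1, map_one, ← pow_mul] at h2
      rw [show N * W = CfsgLib.SpecLin.PSLOrders.cyc (q ^ 2) m * (q - 1) by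
        refine (Nat.eq_of_mul_eq_mul_right (show 0 < q + 1 by omega) ?_).symm
        rw [hNW, mul_assoc, show (q - 1) * (q + 1) = q ^ 2 - 1 by
            rw [mul_comm, ← Nat.sq_sub_sq, one_pow],
          CfsgLib.SpecLin.PSLOrders.cyc_mul _ _ (Nat.one_le_pow _ _ (by omega))]]
      simp only [CfsgLib.SpecLin.PSLOrders.cyc, ← pow_mul]
      exact h2.symm
    set K := N * W / d with hK
    obtain ⟨c, hc⟩ := CfsgLib.SpecLin.PSLOrders.mem_range_of_pow_card (F := F) (x := ρ ^ K) (by
      conv_lhs => rw [← Nat.sub_add_cancel (Fintype.card_pos (α := F))]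
      rw [Nat.succ_eq_add_one, zero_add, pow_succ]
      obtain ⟨e, he⟩ := hdF
      rw [← pow_mul, he, ← mul_assoc, hK, Nat.div_mul_cancel hKd, pow_mul, hρK, one_pow, one_mul])
    have hcd : c ^ (q + 1) = 1 := by
      obtain ⟨e, he⟩ := hdq
      refine (algebraMap F (AdjoinRoot ψ)).injective ?_
      rw [map_pow, hc, map_one, ← pow_mul, he, ← mul_assoc, hK, Nat.div_mul_cancel hKd, pow_mul, hρK,
        one_pow]
    have hψK : ψ ∣ Polynomial.X ^ K - Polynomial.C c := by
      rw [← AdjoinRoot.mk_eq_zero, map_sub, map_pow, AdjoinRoot.mk_X, AdjoinRoot.mk_C, ← hρdef, ← hc,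
        AdjoinRoot.algebraMap_eq, sub_self]
    have hψK' : (ψ.map τ).reverse ∣ Polynomial.X ^ K - Polynomial.C c := by
      obtain ⟨w, hw⟩ := hψK
      have hc0 : c ≠ 0 := by rintro rfl; simp at hcd
      have hrev : ((Polynomial.X ^ K - Polynomial.C c).map τ).reverse =
          Polynomial.C (-(c ^ q)) * (Polynomial.X ^ K - Polynomial.C c) := by
        rw [Polynomial.map_sub, Polynomial.map_pow, Polynomial.map_X, Polynomial.map_C, hτ,
          Polynomial.reverse, Polynomial.natDegree_X_pow_sub_C, Polynomial.reflect_sub,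
          Polynomial.reflect_C, show (Polynomial.X : Polynomial F) ^ K =
            Polynomial.C 1 * Polynomial.X ^ K by rw [map_one, one_mul], Polynomial.reflect_C_mul_X_pow,
          Polynomial.revAt_le le_rfl, Nat.sub_self, pow_zero, map_one, one_mul, map_neg, mul_sub,
          one_mul]
        rw [neg_mul, neg_mul, ← Polynomial.C_mul, ← pow_succ, hcd, map_one]
        ring
      have h5 : (ψ.map τ).reverse ∣ Polynomial.C (-(c ^ q)) * (Polynomial.X ^ K - Polynomial.C c) := by
        rw [← hrev, hw, Polynomial.map_mul, Polynomial.reverse_mul_of_domain]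
        exact dvd_mul_right _ _
      exact (Polynomial.isUnit_C.2 (IsUnit.mk0 _ (neg_ne_zero.2 (pow_ne_zero _ hc0)))).dvd_mul_left.1 h5
    have hμassoc := Polynomial.associated_of_dvd_of_natDegree_le hprod hne (by omega)
    have hpowA := CfsgLib.SpecLin.PrimeGraph.pow_eq_of_minpoly_dvd
      (hμassoc.symm.dvd.trans ((hψi.coprime_iff_not_dvd.2 hns).mul_dvd hψK hψK'))
    have hmem : M ^ K ∈ Subgroup.center _ := hscalar _ c (by
      rw [SubmonoidClass.coe_pow, Matrix.SpecialLinearGroup.coe_pow]; exact hpowA)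
    have hNK : N ∣ K := by
      rw [← hg]
      exact orderOf_dvd_of_pow_eq_one (by rw [← QuotientGroup.mk_pow, QuotientGroup.eq_one_iff]; exact hmem)
    obtain ⟨w, hw⟩ := hNK
    refine ⟨w, ?_⟩
    apply Nat.eq_of_mul_eq_mul_left (show 0 < N by omega)
    rw [← Nat.div_mul_cancel hKd, ← hK, hw]
    ring
  · rintro ⟨w, hw⟩
    obtain ⟨p, hp⟩ := CharP.exists F
    have : Fact p.Prime := ⟨CharP.char_is_prime F p⟩
    have : NeZero m := ⟨by omega⟩
    let K := FiniteField.Extension F p m
    have : Finite K := Module.finite_of_finite F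
    obtain ⟨f, hf, hfdet⟩ :=
      CfsgLib.SpecLin.exists_unitsHom_of_extension F K (FiniteField.finrank_extension F p m)
    obtain ⟨g, hg⟩ := IsCyclic.exists_generator (α := Kˣ)
    have hgo : orderOf g = N * W * (q + 1) := by
      rw [orderOf_eq_card_of_forall_mem_zpowers hg, Nat.card_units, FiniteField.natCard_extension,
        Nat.card_eq_fintype_card, hF, hNW]
    set A := f (g ^ (q + 1)) with hAdef
    have hAo : orderOf A = N * W := by
      rw [hAdef, orderOf_injective f hf, orderOf_pow' g (by omega), hgo, Nat.gcd_mul_left_left,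
        Nat.mul_div_cancel _ (by omega)]
    have hAdet : A.det ≠ 0 := by
      rw [hAdef, hfdet]
      exact Algebra.norm_ne_zero_iff.2 (Units.ne_zero _)
    have hAfix : A.det ^ q = A.det := by
      rw [hAdef, hfdet, Units.val_pow_eq_pow_val, map_pow]
      set z := Algebra.norm F (g : K)
      have hz : z ^ (q ^ 2) = z := hF ▸ FiniteField.pow_card z
      calc (z ^ (q + 1)) ^ q = z ^ (q ^ 2) * z ^ q := by ring
        _ = z ^ (q + 1) := by rw [hz]; ring
    set B : Matrix (Fin m) (Fin m) F := ((A.map τ)ᵀ)⁻¹ with hB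
    have hTdet : IsUnit ((A.map τ)ᵀ).det := by
      rw [Matrix.det_transpose, ← RingHom.mapMatrix_apply, ← RingHom.map_det, isUnit_iff_ne_zero]
      exact (map_ne_zero τ).2 hAdet
    have hAB : (A.map τ)ᵀ * B = 1 := Matrix.mul_nonsing_inv _ hTdet
    obtain ⟨Φ, hΦ, hΦdet, hΦc, hΦiso⟩ := CfsgLib.SpecUnitary.exists_split hF hτ hτne hτ2 m
    have hdet1 : (Φ (A, B)).det = 1 := by
      have h := congrArg Matrix.det hAB
      rw [Matrix.det_mul, Matrix.det_transpose, ← RingHom.mapMatrix_apply, ← RingHom.map_det, hτ, hAfix,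
        Matrix.det_one] at h
      rw [hΦdet, h]
    let M : Cfsg.SU (m + m) F q :=
      ⟨(⟨Φ (A, B), hdet1⟩ : Matrix.SpecialLinearGroup (Fin (m + m)) F), hΦiso A B hAB⟩
    refine CfsgLib.SpecLin.exists_orderOf_eq_of_dvd
      (orderOf_pos (QuotientGroup.mk M : Cfsg.PSU (m + m) F q)).ne' ?_
    set o := orderOf (QuotientGroup.mk M : Cfsg.PSU (m + m) F q)
    obtain ⟨c, hc, -, hcd⟩ := hcenter (M ^ o) (by
      rw [← QuotientGroup.eq_one_iff, QuotientGroup.mk_pow, pow_orderOf_eq_one])
    rw [SubmonoidClass.coe_pow, Matrix.SpecialLinearGroup.coe_pow] at hc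
    change Φ (A, B) ^ o = c • 1 at hc
    rw [← map_pow, ← hΦc] at hc
    have h1 : A ^ o = c • (1 : Matrix (Fin m) (Fin m) F) := congrArg Prod.fst (hΦ hc)
    have h2 : orderOf A ∣ o * d := orderOf_dvd_of_pow_eq_one (by
      rw [pow_mul, h1, _root_.smul_pow, one_pow, hcd, one_smul])
    rw [hAo, hw, show N * (d * w) = N * w * d by ring] at h2
    exact (dvd_mul_right N w).trans (Nat.dvd_of_mul_dvd_mul_right hd0 h2)

end Cfsg.Agent.S2496
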