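import Cfsg.Statements.S2503
import Cfsg.Agent.Lib.SpecLin.SLTwoTrace
import Cfsg.Agent.Lib.SpecLin.FieldEmbed

namespace Cfsg.Agent.S2503

open Matrix CfsgLib.SpecLin CfsgLib.SpecLin.SLTwo

variable {F : Type*} [Field F] [Fintype F]

theorem result {F : Type*} [Field F] [Fintype F]
    (h2 : 2 ∣ Fintype.card F) (h4 : 4 ≤ Fintype.card F) :
    ∃ A B : Subgroup (Matrix.ProjectiveSpecialLinearGroup (Fin 2) F),
      IsCyclic A ∧ Nat.card A = Fintype.card F + 1 ∧ IsMulCommutative B ∧ (∀ b ∈ B, b * b = 1) ∧
        Nat.card B = Fintype.card F ∧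
        ∀ g : Matrix.ProjectiveSpecialLinearGroup (Fin 2) F, ∃ a ∈ A, ∃ b ∈ B, ∃ c ∈ A, g = a * b * c := by
  classical
  have h20 : (2 : F) = 0 := by
    by_contra h
    have := odd_card h
    omega
  have hc : CharP F 2 := CharTwo.of_one_ne_zero_of_two_eq_zero one_ne_zero h20
  have hfact : Fact (Nat.Prime 2) := ⟨Nat.prime_two⟩
  -- an irreducible `X² + X + w`
  obtain ⟨w, hw⟩ : ∃ w : F, ∀ z : F, z * z + z + w ≠ 0 := by
    by_contra hn
    push Not at hn
    have hsurj : Function.Surjective (fun z : F => z * z + z) := fun d => by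
      obtain ⟨z, hz⟩ := hn d
      exact ⟨z, by linear_combination hz - d * h20⟩
    have := (Finite.injective_iff_surjective.2 hsurj) (a₁ := 0) (a₂ := 1) (by
      simp only; linear_combination -h20)
    exact zero_ne_one this
  -- the non-split torus
  let mat : F → F → Matrix (Fin 2) (Fin 2) F := fun x y => !![x, w * y; y, x + y]
  have hdet : ∀ x y, (mat x y).det = x * x + x * y + w * y * y := fun x y => by
    simp [mat, Matrix.det_fin_two]
    linear_combination -(w * y * y) * h20
  have haniso : ∀ x y, (mat x y).det = 0 → x = 0 ∧ y = 0 := fun x y h => by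
    rw [hdet] at h
    rcases eq_or_ne y 0 with rfl | hy
    · simpa using h
    · refine absurd ?_ (hw (x / y))
      field_simp
      linear_combination h
  have hmul : ∀ x y x' y', mat x y * mat x' y' = mat (x * x' + w * y * y') (x * y' + y * x' + y * y') := by
    intro x y x' y'
    ext i j
    fin_cases i <;> fin_cases j <;> simp [mat, Matrix.mul_apply] <;> ring
  let T : Subgroup (Matrix.SpecialLinearGroup (Fin 2) F) :=
    { carrier := {M | ∃ x y, (M : Matrix (Fin 2) (Fin 2) F) = mat x y}
      one_mem' := ⟨1, 0, by ext i j; fin_cases i <;> fin_cases j <;> simp [mat]⟩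
      mul_mem' := fun {a b} ha hb => by
        obtain ⟨x, y, ha⟩ := ha
        obtain ⟨x', y', hb⟩ := hb
        exact ⟨_, _, by rw [Matrix.SpecialLinearGroup.coe_mul, ha, hb, hmul]⟩
      inv_mem' := fun {a} ha => by
        obtain ⟨x, y, ha⟩ := ha
        refine ⟨x + y, y, ?_⟩
        rw [Matrix.SpecialLinearGroup.coe_inv, ha, Matrix.adjugate_fin_two]
        ext i j
        fin_cases i <;> fin_cases j <;> simp [mat, CharTwo.neg_eq]
        linear_combination -y * h20 }
  -- as a subgroup of a field
  let f : Polynomial F := Polynomial.X ^ 2 + Polynomial.X + Polynomial.C w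
  have hdeg : f.natDegree = 2 := by simp only [f]; compute_degree!
  have hirr : Irreducible f := by
    rw [Polynomial.irreducible_iff_roots_eq_zero_of_degree_le_three (by omega) (by omega),
      Multiset.eq_zero_iff_forall_notMem]
    intro a ha
    have := Polynomial.isRoot_of_mem_roots ha
    simp [f] at this
    exact hw a (by rw [← this]; ring)
  have hfirr : Fact (Irreducible f) := ⟨hirr⟩
  let r := AdjoinRoot.root f
  let ι : F →+* AdjoinRoot f := AdjoinRoot.of f
  have hrr : r * r = r + ι w := by
    have := AdjoinRoot.eval₂_root f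
    simp [f, Polynomial.eval₂_add] at this
    have h2K : (2 : AdjoinRoot f) = 0 := by rw [← map_ofNat ι, h20, map_zero]
    linear_combination this - (r + ι w) * h2K
  let φ : T →* AdjoinRoot f :=
    { toFun := fun M => ι ((M.1 : Matrix (Fin 2) (Fin 2) F) 0 0) + ι ((M.1 : Matrix (Fin 2) (Fin 2) F) 1 0) * r
      map_one' := by simp
      map_mul' := fun M N => by
        obtain ⟨x, y, hM⟩ := M.2
        obtain ⟨x', y', hN⟩ := N.2
        rw [Subgroup.coe_mul, Matrix.SpecialLinearGroup.coe_mul, hM, hN, hmul]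
        simp [mat]
        linear_combination -(ι y * ι y') * hrr }
  have hφ : Function.Injective φ := by
    intro M N h
    obtain ⟨x, y, hM⟩ := M.2
    obtain ⟨x', y', hN⟩ := N.2
    have h' : ι x + ι y * r = ι x' + ι y' * r := by
      have h0 : ι ((M.1 : Matrix (Fin 2) (Fin 2) F) 0 0) + ι ((M.1 : Matrix (Fin 2) (Fin 2) F) 1 0) * r =
          ι ((N.1 : Matrix (Fin 2) (Fin 2) F) 0 0) + ι ((N.1 : Matrix (Fin 2) (Fin 2) F) 1 0) * r := h
      simpa [hM, hN, mat] using h0
    have hlin : (Polynomial.C (x - x') + Polynomial.C (y - y') * Polynomial.X : Polynomial F) = 0 := by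
      by_contra hne
      have hd : f ∣ Polynomial.C (x - x') + Polynomial.C (y - y') * Polynomial.X := by
        rw [← AdjoinRoot.mk_eq_zero]
        simp only [map_add, map_mul, AdjoinRoot.mk_C, AdjoinRoot.mk_X]
        change ι (x - x') + ι (y - y') * r = 0
        rw [map_sub, map_sub]
        linear_combination h'
      have := Polynomial.natDegree_le_of_dvd hd hne
      have h1 : (Polynomial.C (x - x') + Polynomial.C (y - y') * Polynomial.X).natDegree ≤ 1 := by
        compute_degree
      omega
    have hx := congrArg (fun P => Polynomial.coeff P 0) hlin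
    have hy := congrArg (fun P => Polynomial.coeff P 1) hlin
    simp [sub_eq_zero] at hx hy
    apply Subtype.ext
    apply Subtype.ext
    rw [hM, hN, hx, hy]
  have hcycT : IsCyclic T := isCyclic_of_subgroup_isDomain φ hφ
  have hcenter : ∀ M : Matrix.SpecialLinearGroup (Fin 2) F,
      (QuotientGroup.mk M : Matrix.ProjectiveSpecialLinearGroup (Fin 2) F) = 1 → M = 1 := fun M h => by
    rw [QuotientGroup.eq_one_iff, mem_center_iff'] at h
    apply Subtype.ext
    rcases h with h | h <;> rw [h] <;> simp [CharTwo.neg_eq]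
  let π := QuotientGroup.mk' (Subgroup.center (Matrix.SpecialLinearGroup (Fin 2) F))
  have hπ : Function.Injective π := (injective_iff_map_eq_one π).2 hcenter
  -- cardinality of the torus: the norm form takes each value equally often
  have hTcard : Nat.card T = Fintype.card F + 1 := by
    let ψ : T × Fˣ → {v : F × F // v ≠ 0} := fun z =>
      ⟨((z.2 : F) * (z.1.1 : Matrix (Fin 2) (Fin 2) F) 0 0, (z.2 : F) * (z.1.1 : Matrix (Fin 2) (Fin 2) F) 1 0),
        fun h => by
          obtain ⟨x, y, hM⟩ := z.1.2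
          simp [hM, mat, z.2.ne_zero] at h
          have h1 := z.1.1.prop
          rw [hM, hdet, h.1, h.2] at h1
          simp at h1⟩
    have hψ : Function.Bijective ψ := by
      constructor
      · rintro ⟨M, s⟩ ⟨N, s'⟩ h
        obtain ⟨x, y, hM⟩ := M.2
        obtain ⟨x', y', hN⟩ := N.2
        simp [ψ, hM, hN, mat] at h
        have h1 := M.1.prop
        have h2 := N.1.prop
        rw [hM, hdet] at h1
        rw [hN, hdet] at h2
        have hss : s = s' := by
          have hsq : (s : F) ^ 2 = (s' : F) ^ 2 := by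
            linear_combination -(s : F) ^ 2 * h1 + (s' : F) ^ 2 * h2 +
              ((s : F) * x + s' * x' + s * y) * h.1 + ((s' : F) * x' + w * s * y + w * s' * y') * h.2
          rcases sq_eq_sq_iff_eq_or_eq_neg.1 hsq with h | h
          · exact Units.ext h
          · exact Units.ext (by rwa [CharTwo.neg_eq] at h)
        subst hss
        simp [s.ne_zero] at h
        refine Prod.ext (Subtype.ext (Subtype.ext ?_)) rfl
        rw [hM, hN, h.1, h.2]
      · rintro ⟨⟨x, y⟩, hv⟩
        have hne : (mat x y).det ≠ 0 := fun h => by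
          obtain ⟨rfl, rfl⟩ := haniso x y h
          exact hv rfl
        obtain ⟨s, hs⟩ := exists_sq_of_char_two h20 (mat x y).det
        have hs0 : s ≠ 0 := by rintro rfl; simp at hs; exact hne hs.symm
        have hd1 : (mat (x / s) (y / s)).det = 1 := by
          rw [hdet] at hs ⊢
          field_simp
          linear_combination -hs
        refine ⟨(⟨⟨mat (x / s) (y / s), hd1⟩, x / s, y / s, rfl⟩, Units.mk0 s hs0), ?_⟩
        apply Subtype.ext
        simp [ψ, mat, mul_div_cancel₀ _ hs0]
    have h := Nat.card_congr (Equiv.ofBijective ψ hψ)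
    rw [Nat.card_prod, Nat.card_units, Nat.card_eq_fintype_card (α := F),
      Nat.card_eq_fintype_card (α := {v : F × F // v ≠ 0}), Fintype.card_subtype_compl,
      Fintype.card_prod, Fintype.card_subtype_eq] at h
    have h1 : Fintype.card F * Fintype.card F - 1 = (Fintype.card F + 1) * (Fintype.card F - 1) := by
      have := Nat.sq_sub_sq (Fintype.card F) 1
      simpa [sq] using this
    rw [h1] at h
    exact Nat.eq_of_mul_eq_mul_right (by omega) h
  let uni : Multiplicative F →* Matrix.SpecialLinearGroup (Fin 2) F :=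
    { toFun := fun s => ⟨!![1, s.toAdd; 0, 1], by simp [Matrix.det_fin_two]⟩
      map_one' := by
        apply Subtype.ext
        ext i j; fin_cases i <;> fin_cases j <;> simp
      map_mul' := fun a b => by
        apply Subtype.ext
        change !![(1 : F), (a * b).toAdd; 0, 1] = !![1, a.toAdd; 0, 1] * !![1, b.toAdd; 0, 1]
        ext i j; fin_cases i <;> fin_cases j <;> simp [Matrix.mul_apply, add_comm] }
  have huni : Function.Injective uni := fun a b h => by
    have := congrFun (congrFun (congrArg (fun M : Matrix.SpecialLinearGroup (Fin 2) F =>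
      (M : Matrix (Fin 2) (Fin 2) F)) h) 0) 1
    exact Multiplicative.toAdd.injective this
  refine ⟨T.map π, (π.comp uni).range, ?_, ?_, ?_, ?_, ?_, fun g => ?_⟩
  · exact (T.equivMapOfInjective π hπ).isCyclic.1 hcycT
  · rw [← Nat.card_congr (T.equivMapOfInjective π hπ).toEquiv, hTcard]
  · exact ⟨⟨fun a b => by
      obtain ⟨_, x, rfl⟩ := a
      obtain ⟨_, y, rfl⟩ := b
      apply Subtype.ext
      change π (uni x) * π (uni y) = π (uni y) * π (uni x)
      rw [← map_mul, ← map_mul, ← map_mul, ← map_mul, mul_comm]⟩⟩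
  · rintro _ ⟨x, rfl⟩
    rw [← map_mul, show x * x = 1 by
      apply Multiplicative.toAdd.injective
      simpa using CharTwo.add_self_eq_zero x.toAdd, map_one]
  · rw [← Nat.card_congr (MonoidHom.ofInjective (f := π.comp uni) (hπ.comp huni)).toEquiv,
      Nat.card_congr Multiplicative.toAdd, Nat.card_eq_fintype_card]
  · obtain ⟨G, rfl⟩ := QuotientGroup.mk_surjective g
    set M := (G : Matrix (Fin 2) (Fin 2) F) with hM
    -- right factor making the trace zero
    obtain ⟨e, he, htr⟩ : ∃ e : Matrix.SpecialLinearGroup (Fin 2) F, e ∈ T ∧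
        ((G * e : Matrix.SpecialLinearGroup (Fin 2) F) : Matrix (Fin 2) (Fin 2) F).trace = 0 := by
      obtain ⟨x, y, hxy, hlin⟩ : ∃ x y : F, ¬(x = 0 ∧ y = 0) ∧ (M * mat x y).trace = 0 := by
        have h : ∀ x y, (M * mat x y).trace = (M 0 0 + M 1 1) * x + (M 0 1 + w * M 1 0 + M 1 1) * y := by
          intro x y
          simp [mat, Matrix.trace_fin_two, Matrix.mul_apply]
          ring
        rcases eq_or_ne (M 0 0 + M 1 1) 0 with h0 | h0
        · exact ⟨1, 0, by simp, by rw [h, h0]; ring⟩
        · exact ⟨-(M 0 1 + w * M 1 0 + M 1 1) / (M 0 0 + M 1 1), 1, by simp,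
            by rw [h]; field_simp; ring⟩
      have hne : (mat x y).det ≠ 0 := fun h => hxy (haniso x y h)
      obtain ⟨s, hs⟩ := exists_sq_of_char_two h20 (mat x y).det
      have hs0 : s ≠ 0 := by rintro rfl; simp at hs; exact hne hs.symm
      have hd1 : (mat (x / s) (y / s)).det = 1 := by
        rw [hdet] at hs ⊢
        field_simp
        linear_combination -hs
      refine ⟨⟨_, hd1⟩, ⟨_, _, rfl⟩, ?_⟩
      change (M * mat (x / s) (y / s)).trace = 0
      have hsm : mat (x / s) (y / s) = s⁻¹ • mat x y := by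
        ext i j
        fin_cases i <;> fin_cases j <;> simp [mat] <;> ring
      rw [hsm, Matrix.mul_smul, Matrix.trace_smul, hlin, smul_zero]
    set N := G * e
    have hNsq : (N : Matrix (Fin 2) (Fin 2) F) * N = 1 := by
      rw [sq_eq _ N.prop, htr, zero_smul, zero_sub, CharTwo.neg_eq]
    -- a fixed line of `N` moved to the first coordinate line by the torus
    obtain ⟨d, hd, hd0⟩ : ∃ d : Matrix.SpecialLinearGroup (Fin 2) F, d ∈ T ∧
        ((d⁻¹ * N * d : Matrix.SpecialLinearGroup (Fin 2) F) : Matrix (Fin 2) (Fin 2) F) 1 0 = 0 := by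
      have hN00 : (N : Matrix (Fin 2) (Fin 2) F) 1 1 = (N : Matrix (Fin 2) (Fin 2) F) 0 0 := by
        rw [Matrix.trace_fin_two] at htr
        linear_combination htr - (N : Matrix (Fin 2) (Fin 2) F) 0 0 * h20
      obtain ⟨x, y, hxy, hlin⟩ : ∃ x y : F, ¬(x = 0 ∧ y = 0) ∧
          (N : Matrix (Fin 2) (Fin 2) F) 1 0 * (x * x) + (N : Matrix (Fin 2) (Fin 2) F) 0 1 * (y * y) = 0 := by
        rcases eq_or_ne ((N : Matrix (Fin 2) (Fin 2) F) 1 0) 0 with h0 | h0
        · exact ⟨1, 0, by simp, by rw [h0]; ring⟩
        · obtain ⟨x, hx⟩ := exists_sq_of_char_two h20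
            (-(N : Matrix (Fin 2) (Fin 2) F) 0 1 / (N : Matrix (Fin 2) (Fin 2) F) 1 0)
          refine ⟨x, 1, by simp, ?_⟩
          rw [← sq, hx]; field_simp; ring
      have hne : (mat x y).det ≠ 0 := fun h => hxy (haniso x y h)
      obtain ⟨s, hs⟩ := exists_sq_of_char_two h20 (mat x y).det
      have hs0 : s ≠ 0 := by rintro rfl; simp at hs; exact hne hs.symm
      have hd1 : (mat (x / s) (y / s)).det = 1 := by
        rw [hdet] at hs ⊢
        field_simp
        linear_combination -hs
      refine ⟨⟨_, hd1⟩, ⟨_, _, rfl⟩, ?_⟩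
      change ((mat (x / s) (y / s)).adjugate * (N : Matrix (Fin 2) (Fin 2) F) * mat (x / s) (y / s)) 1 0 = 0
      rw [Matrix.adjugate_fin_two]
      simp [mat, Matrix.mul_apply, Matrix.vecMul, dotProduct, Fin.sum_univ_two, hN00]
      field_simp
      linear_combination hlin - (N : Matrix (Fin 2) (Fin 2) F) 0 1 * y * y * h20
    set U := d⁻¹ * N * d with hU
    have hUsq : (U : Matrix (Fin 2) (Fin 2) F) * U = 1 := by
      rw [← Matrix.SpecialLinearGroup.coe_mul, hU, show d⁻¹ * N * d * (d⁻¹ * N * d) = d⁻¹ * (N * N) * d by group]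
      have : N * N = 1 := Subtype.ext (by rw [Matrix.SpecialLinearGroup.coe_mul, hNsq]; simp)
      rw [this, mul_one, inv_mul_cancel]; simp
    have h00 : (U : Matrix (Fin 2) (Fin 2) F) 0 0 = 1 := by
      have := congrFun (congrFun hUsq 0) 0
      simp [Matrix.mul_apply, hd0] at this
      rcases mul_self_eq_one_iff.1 this with h | h
      · exact h
      · rw [h, CharTwo.neg_eq]
    have h11 : (U : Matrix (Fin 2) (Fin 2) F) 1 1 = 1 := by
      have := congrFun (congrFun hUsq 1) 1
      simp [Matrix.mul_apply, hd0] at this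
      rcases mul_self_eq_one_iff.1 this with h | h
      · exact h
      · rw [h, CharTwo.neg_eq]
    have hUuni : uni (Multiplicative.ofAdd ((U : Matrix (Fin 2) (Fin 2) F) 0 1)) = U := by
      apply Subtype.ext
      change !![(1 : F), (U : Matrix (Fin 2) (Fin 2) F) 0 1; 0, 1] = (U : Matrix (Fin 2) (Fin 2) F)
      ext i j
      fin_cases i <;> fin_cases j <;> simp [h00, h11, hd0]
    refine ⟨π d, ⟨d, hd, rfl⟩, π U, ⟨_, congrArg π hUuni⟩, π (d⁻¹ * e⁻¹),
      ⟨_, mul_mem (inv_mem hd) (inv_mem he), rfl⟩, ?_⟩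
    rw [← map_mul, ← map_mul]
    change π G = _
    congr 1
    rw [hU, show d * (d⁻¹ * N * d) * (d⁻¹ * e⁻¹) = N * e⁻¹ by group]
    simp [N]

end Cfsg.Agent.S2503
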