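import Cfsg.Statements.S2506
import Mathlib
import Cfsg.Agent.Lib.AbelianPerm.Examples

set_option autoImplicit false
open scoped Pointwise
open Cfsg

namespace Cfsg.Agent.S2506

/-- In the alternating group of any degree, any two abelian subgroups of the largest possible order (among abelian subgroups) are conjugate. -/
theorem result (n : ℕ)
    (A B : Subgroup (alternatingGroup (Fin n))) (hA : IsMulCommutative A) (hB : IsMulCommutative B)
    (hAmax : ∀ C : Subgroup (alternatingGroup (Fin n)), IsMulCommutative C → Nat.card C ≤ Nat.card A)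
    (hBmax : ∀ C : Subgroup (alternatingGroup (Fin n)), IsMulCommutative C → Nat.card C ≤ Nat.card B) :
    ∃ g : alternatingGroup (Fin n), B = MulAut.conj g • A := by
  classical
  have hcard : Nat.card A = Nat.card B := le_antisymm (hBmax A hA) (hAmax B hB)
  by_cases h3 : n < 3
  · have : Subsingleton (alternatingGroup (Fin n)) := by
      rw [← Finite.card_le_one_iff_subsingleton, Nat.card_eq_fintype_card]
      interval_cases n <;> decide
    exact ⟨1, Subsingleton.elim _ _⟩
  obtain ⟨⟨C, hC, hCn⟩, hub⟩ := CfsgLib.AbelianPerm.isGreatest_alternating n (by omega)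
  have hA' : Nat.card A = CfsgLib.AbelianPerm.maxProdNoTwo n :=
    le_antisymm (hub ⟨A, hA, rfl⟩) (hCn ▸ hAmax C hC)
  by_cases h5 : n = 5
  · subst h5
    have : Fact (Nat.Prime 5) := ⟨by norm_num⟩
    have h60 : Nat.card (alternatingGroup (Fin 5)) = 60 := by
      rw [nat_card_alternatingGroup, Nat.card_fin]; rfl
    have hfac : (Nat.card (alternatingGroup (Fin 5))).factorization 5 = 1 := by
      rw [h60, show 60 = 5 * 12 by norm_num, Nat.factorization_mul (by norm_num) (by norm_num),
        Finsupp.add_apply, (by norm_num : Nat.Prime 5).factorization_self,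
        Nat.factorization_eq_zero_of_not_dvd (by norm_num : ¬ 5 ∣ 12)]
    have hP : ∀ K : Subgroup (alternatingGroup (Fin 5)), Nat.card K = 5 →
        ∃ P : Sylow 5 (alternatingGroup (Fin 5)), (P : Subgroup _) = K := fun K hK =>
      ⟨Sylow.ofCard K (by rw [hfac, hK, pow_one]), rfl⟩
    obtain ⟨P, rfl⟩ := hP A hA'
    obtain ⟨Q, rfl⟩ := hP B (hcard ▸ hA')
    obtain ⟨g, hg⟩ := MulAction.exists_smul_eq (alternatingGroup (Fin 5)) P Q
    exact ⟨g, by rw [← hg]; rfl⟩
  obtain ⟨a1, a2, a3⟩ := CfsgLib.AbelianPerm.map_subtype_comm hA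
  obtain ⟨b1, b2, b3⟩ := CfsgLib.AbelianPerm.map_subtype_comm hB
  have := Fintype.ofFinite (CfsgLib.AbelianPerm.Orb (A.map (alternatingGroup (Fin n)).subtype))
  have := Fintype.ofFinite (CfsgLib.AbelianPerm.Orb (B.map (alternatingGroup (Fin n)).subtype))
  have heqA := (CfsgLib.AbelianPerm.even_bound a1 a2 (by rw [Fintype.card_fin]; omega)).2
    (by rw [Fintype.card_fin, a3, hA'])
  have heqB := (CfsgLib.AbelianPerm.even_bound b1 b2 (by rw [Fintype.card_fin]; omega)).2
    (by rw [Fintype.card_fin, b3, ← hcard, hA'])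
  have hsA := CfsgLib.AbelianPerm.parts_of_maximiser _ (by omega) h5
    ((CfsgLib.AbelianPerm.sum_size _).trans (Fintype.card_fin n))
    (CfsgLib.AbelianPerm.size_ne_two a1 a2 heqA) (by rw [← heqA, a3, hA'])
  have hsB := CfsgLib.AbelianPerm.parts_of_maximiser _ (by omega) h5
    ((CfsgLib.AbelianPerm.sum_size _).trans (Fintype.card_fin n))
    (CfsgLib.AbelianPerm.size_ne_two b1 b2 heqB) (by rw [← heqB, b3, ← hcard, hA'])
  obtain ⟨π, hπ, hiff⟩ := CfsgLib.AbelianPerm.exists_conj a1 b1 a2 b2 heqA heqB hsA hsB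
    (by rw [a3, b3, hcard])
  refine ⟨⟨π, hπ⟩, Subgroup.ext fun g => ?_⟩
  have hg := hiff ((⟨π, hπ⟩⁻¹ * g * ⟨π, hπ⟩ : alternatingGroup (Fin n)) : Equiv.Perm (Fin n))
  rw [Subgroup.mem_pointwise_smul_iff_inv_smul_mem, MulAut.smul_def, MulAut.inv_def,
    MulAut.conj_symm_apply]
  have hmem : ∀ (K : Subgroup (alternatingGroup (Fin n))) (x : alternatingGroup (Fin n)),
      (x : Equiv.Perm (Fin n)) ∈ K.map (alternatingGroup (Fin n)).subtype ↔ x ∈ K := fun K x =>
    Subgroup.mem_map_iff_mem (Subgroup.subtype_injective _)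
  rw [hmem] at hg
  rw [hg, ← hmem B g]
  simp [mul_assoc]

end Cfsg.Agent.S2506
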