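import Cfsg.Statements.S2510
import Cfsg.Agent.Lib.SpecLin.PSLOrders
import Cfsg.Agent.Lib.SpecLin.OrderBasics

set_option autoImplicit false
open Cfsg

namespace Cfsg.Agent.S2510

open CfsgLib.SpecLin

variable {G A : Type*} [Group G] [Finite G] [Group A] [Finite A]

/-- An element order divisible by `a` and by the prime `r` gives one equal to `lcm a r`. -/
theorem exists_lcm_order {r a : ℕ} {h : G} (ha : Nat.lcm r a ∣ orderOf h) :
    ∃ y : G, orderOf y = Nat.lcm r a :=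
  exists_orderOf_eq_of_dvd (orderOf_pos h).ne' ha

theorem exists_gcd_order (M : ℕ) {M₀ : ℕ} {h : G} (ha : M₀ ∣ orderOf h) :
    ∃ y : G, orderOf y = Nat.gcd M M₀ :=
  exists_orderOf_eq_of_dvd (orderOf_pos h).ne' ((Nat.gcd_dvd_right M M₀).trans ha)

theorem gcd_lcm_of_dvd {M M₀ P₀ : ℕ} (h : M ∣ Nat.lcm M₀ P₀) :
    Nat.lcm (Nat.gcd M M₀) (Nat.gcd M P₀) = M := by
  have := gcd_finset_lcm (Finset.univ : Finset (Fin 2)) ![M₀, P₀] M
  simp only [Finset.univ_fin2, Finset.lcm_insert, Finset.lcm_singleton, Matrix.cons_val_zero,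
    Matrix.cons_val_one, Matrix.cons_val_fin_one, lcm_eq_nat_lcm, normalize_eq] at this
  rw [← this, Nat.gcd_eq_left h]

theorem orderOf_eq_one_or_prime {r : ℕ} (hr : r.Prime) (hA : ∀ x : A, x ^ r = 1) (x : A) :
    orderOf x = 1 ∨ orderOf x = r :=
  (Nat.dvd_prime hr).1 (orderOf_dvd_of_pow_eq_one (hA x))

/-- Three factors absorb `r`. -/
theorem range_three {r M₀ P₀ : ℕ} (hr : r.Prime) (hA : ∀ x : A, x ^ r = 1)
    (hclass : ∀ g : G, (∃ h : G, Nat.lcm r (orderOf g) ∣ orderOf h) ∨ orderOf g ∣ M₀ ∨ orderOf g ∣ P₀)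
    (hM : ∃ h : G, M₀ ∣ orderOf h) (hP : ∃ h : G, P₀ ∣ orderOf h) (hR : ∃ h : G, orderOf h = r) :
    Set.range (orderOf : G × G × G × A → ℕ) = Set.range (orderOf : G × G × G → ℕ) := by
  apply Set.Subset.antisymm
  · rintro _ ⟨⟨g₁, g₂, g₃, x⟩, rfl⟩
    simp only [Prod.orderOf_mk]
    rcases orderOf_eq_one_or_prime hr hA x with hx | hx
    · exact ⟨(g₁, g₂, g₃), by simp [Prod.orderOf_mk, hx]⟩
    rw [hx]
    rcases hclass g₁ with ⟨h, hh⟩ | h1
    · obtain ⟨y, hy⟩ := exists_lcm_order hh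
      refine ⟨(y, g₂, g₃), ?_⟩
      simp only [Prod.orderOf_mk, hy]
      ac_rfl
    rcases hclass g₂ with ⟨h, hh⟩ | h2
    · obtain ⟨y, hy⟩ := exists_lcm_order hh
      refine ⟨(g₁, y, g₃), ?_⟩
      simp only [Prod.orderOf_mk, hy]
      ac_rfl
    rcases hclass g₃ with ⟨h, hh⟩ | h3
    · obtain ⟨y, hy⟩ := exists_lcm_order hh
      refine ⟨(g₁, g₂, y), ?_⟩
      simp only [Prod.orderOf_mk, hy]
      ac_rfl
    have key : ∀ {o : ℕ}, o ∣ M₀ ∨ o ∣ P₀ → o ∣ Nat.lcm M₀ P₀ := fun ho =>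
      ho.elim (fun h => h.trans (Nat.dvd_lcm_left _ _)) (fun h => h.trans (Nat.dvd_lcm_right _ _))
    set M := Nat.lcm (orderOf g₁) (Nat.lcm (orderOf g₂) (orderOf g₃))
    have hMd : M ∣ Nat.lcm M₀ P₀ := Nat.lcm_dvd (key h1) (Nat.lcm_dvd (key h2) (key h3))
    obtain ⟨h₀, hh₀⟩ := hM
    obtain ⟨u₀, hu₀⟩ := hP
    obtain ⟨w, hw⟩ := hR
    obtain ⟨y₁, hy₁⟩ := exists_gcd_order M hh₀
    obtain ⟨y₂, hy₂⟩ := exists_gcd_order M hu₀
    refine ⟨(y₁, y₂, w), ?_⟩
    simp only [Prod.orderOf_mk, hy₁, hy₂, hw]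
    rw [← Nat.lcm_assoc, gcd_lcm_of_dvd hMd]
    simp only [M]
    ac_rfl
  · rintro _ ⟨⟨g₁, g₂, g₃⟩, rfl⟩
    exact ⟨(g₁, g₂, g₃, 1), by simp [Prod.orderOf_mk]⟩

/-- Two factors absorb `r` when every element is extendable or divides one bound. -/
theorem range_two {r M₀ : ℕ} (hr : r.Prime) (hA : ∀ x : A, x ^ r = 1)
    (hclass : ∀ g : G, (∃ h : G, Nat.lcm r (orderOf g) ∣ orderOf h) ∨ orderOf g ∣ M₀)
    (hM : ∃ h : G, M₀ ∣ orderOf h) (hR : ∃ h : G, orderOf h = r) :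
    Set.range (orderOf : G × G × A → ℕ) = Set.range (orderOf : G × G → ℕ) := by
  apply Set.Subset.antisymm
  · rintro _ ⟨⟨g₁, g₂, x⟩, rfl⟩
    simp only [Prod.orderOf_mk]
    rcases orderOf_eq_one_or_prime hr hA x with hx | hx
    · exact ⟨(g₁, g₂), by simp [Prod.orderOf_mk, hx]⟩
    rw [hx]
    rcases hclass g₁ with ⟨h, hh⟩ | h1
    · obtain ⟨y, hy⟩ := exists_lcm_order hh
      refine ⟨(y, g₂), ?_⟩
      simp only [Prod.orderOf_mk, hy]
      ac_rfl
    rcases hclass g₂ with ⟨h, hh⟩ | h2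
    · obtain ⟨y, hy⟩ := exists_lcm_order hh
      refine ⟨(g₁, y), ?_⟩
      simp only [Prod.orderOf_mk, hy]
      ac_rfl
    set M := Nat.lcm (orderOf g₁) (orderOf g₂)
    have hMd : M ∣ M₀ := Nat.lcm_dvd h1 h2
    obtain ⟨h₀, hh₀⟩ := hM
    obtain ⟨w, hw⟩ := hR
    obtain ⟨y₁, hy₁⟩ := exists_gcd_order M hh₀
    refine ⟨(y₁, w), ?_⟩
    simp only [Prod.orderOf_mk, hy₁, hw]
    rw [Nat.gcd_eq_left hMd]
    simp only [M]
    ac_rfl
  · rintro _ ⟨⟨g₁, g₂⟩, rfl⟩
    exact ⟨(g₁, g₂, 1), by simp [Prod.orderOf_mk]⟩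

/-- Let F be a finite field with q = p^a elements, n ≥ 2 (with q ≥ 4 when n = 2), L = PSL(n, F), and let r be a prime dividing q − 1 and not dividing n. Then for every m the direct product L × L × L × (ℤ/r)^m has the same set of element orders as L × L × L; and if n − 1 ≠ p^j for every j ≥ 0 (so never when n = 2, since 1 = p^0), then already L × L × (ℤ/r)^m has the same set of element orders as L × L. -/
theorem result {F : Type*} [Field F] [Fintype F] (p a n r m : ℕ) (hp : p.Prime) (ha : 1 ≤ a) (hF : Fintype.card F = p ^ a)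
    (hn : 2 ≤ n) (hn2 : n = 2 → 4 ≤ Fintype.card F) (hr : r.Prime) (hrq : r ∣ Fintype.card F - 1) (hrn : ¬ r ∣ n) :
    Set.range (orderOf : Matrix.ProjectiveSpecialLinearGroup (Fin n) F × Matrix.ProjectiveSpecialLinearGroup (Fin n) F × Matrix.ProjectiveSpecialLinearGroup (Fin n) F × Multiplicative (Fin m → ZMod r) → ℕ) =
      Set.range (orderOf : Matrix.ProjectiveSpecialLinearGroup (Fin n) F × Matrix.ProjectiveSpecialLinearGroup (Fin n) F × Matrix.ProjectiveSpecialLinearGroup (Fin n) F → ℕ) ∧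
    ((¬ ∃ j : ℕ, n - 1 = p ^ j) →
      Set.range (orderOf : Matrix.ProjectiveSpecialLinearGroup (Fin n) F × Matrix.ProjectiveSpecialLinearGroup (Fin n) F × Multiplicative (Fin m → ZMod r) → ℕ) =
        Set.range (orderOf : Matrix.ProjectiveSpecialLinearGroup (Fin n) F × Matrix.ProjectiveSpecialLinearGroup (Fin n) F → ℕ)) := by
  classical
  have : Fact p.Prime := ⟨hp⟩
  have : Fact r.Prime := ⟨hr⟩
  have hchar : CharP F p := by
    obtain ⟨p', hp'⟩ := CharP.exists F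
    have hp'prime : p'.Prime := CharP.char_is_prime F p'
    obtain ⟨k, -, hk⟩ := FiniteField.card F p'
    have hk' : p ^ a = p' ^ (k : ℕ) := hF.symm.trans hk
    have hdvd : p ∣ p' ^ (k : ℕ) := hk' ▸ dvd_pow_self p (by omega)
    rw [(Nat.prime_dvd_prime_iff_eq hp hp'prime).1 (hp.dvd_of_dvd_pow hdvd)]
    exact hp'
  obtain ⟨ζ, hζ⟩ : ∃ ζ : Fˣ, orderOf ζ = r := by
    obtain ⟨g, hg⟩ := IsCyclic.exists_generator (α := Fˣ)
    refine exists_orderOf_eq_of_dvd (orderOf_pos g).ne' ?_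
    rw [orderOf_eq_card_of_forall_mem_zpowers hg, Nat.card_units, Nat.card_eq_fintype_card]
    exact hrq
  have hA : ∀ x : Multiplicative (Fin m → ZMod r), x ^ r = 1 := fun x => by
    apply Multiplicative.toAdd.injective
    funext i
    simp
  -- a commuting element outside the centre makes an element extendable
  have hext : ∀ Y Z : Matrix.SpecialLinearGroup (Fin n) F, Z ^ r = 1 →
      Z ∉ Subgroup.center (Matrix.SpecialLinearGroup (Fin n) F) → Commute Y Z →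
      ∃ h : Matrix.ProjectiveSpecialLinearGroup (Fin n) F,
        Nat.lcm r (orderOf (QuotientGroup.mk Y : Matrix.ProjectiveSpecialLinearGroup (Fin n) F)) ∣ orderOf h := by
    intro Y Z hZ hZc hcomm
    set o := orderOf (QuotientGroup.mk Y : Matrix.ProjectiveSpecialLinearGroup (Fin n) F)
    by_cases hro : r ∣ o
    · exact ⟨_, Nat.lcm_dvd hro dvd_rfl⟩
    have hz : orderOf (QuotientGroup.mk Z : Matrix.ProjectiveSpecialLinearGroup (Fin n) F) = r := by
      refine orderOf_eq_prime ?_ fun h => hZc ((QuotientGroup.eq_one_iff Z).1 h)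
      rw [← QuotientGroup.mk_pow, hZ, QuotientGroup.mk_one]
    have hc : Commute (QuotientGroup.mk Y : Matrix.ProjectiveSpecialLinearGroup (Fin n) F)
        (QuotientGroup.mk Z) := hcomm.map (QuotientGroup.mk' _)
    have hcop : Nat.Coprime o r := (hr.coprime_iff_not_dvd.2 hro).symm
    refine ⟨(QuotientGroup.mk Y : Matrix.ProjectiveSpecialLinearGroup (Fin n) F) * QuotientGroup.mk Z, ?_⟩
    rw [hc.orderOf_mul_eq_mul_orderOf_of_coprime (by rw [hz]; exact hcop), hz]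
    exact Nat.lcm_dvd (dvd_mul_left _ _) (dvd_mul_right _ _)
  have hR : ∃ h : Matrix.ProjectiveSpecialLinearGroup (Fin n) F, orderOf h = r := by
    obtain ⟨Y, Z, -, hZ, hZc, -⟩ :=
      PSLOrders.exists_block_witness (n := n) p (d := 1) (k := n - 1) (c := 0) le_rfl (by omega)
        (by omega) (Or.inl rfl) hζ hrn
    refine ⟨QuotientGroup.mk Z, orderOf_eq_prime ?_ fun h => hZc ((QuotientGroup.eq_one_iff Z).1 h)⟩
    rw [← QuotientGroup.mk_pow, hZ, QuotientGroup.mk_one]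
  have hM := PSLOrders.exists_mk_singer (F := F) (n := n) (by omega)
  have hclass := fun g => PSLOrders.classify (F := F) (n := n) p hn hζ hrn g
  refine ⟨?_, fun hnj => range_two hr hA (fun g => ?_) hM hR⟩
  · by_cases hj : ∃ j : ℕ, n - 1 = p ^ j
    · obtain ⟨j, hj⟩ := hj
      refine range_three (P₀ := p ^ (j + 1)) hr hA (fun g => ?_) hM ?_ hR
      · rcases hclass g with ⟨Y, Z, hY, hZ, hZc, hc⟩ | h | ⟨j', hj', hg⟩
        · obtain ⟨h, hh⟩ := hext Y Z hZ hZc hc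
          exact Or.inl ⟨h, (Nat.lcm_dvd (Nat.dvd_lcm_left _ _) (hY.trans (Nat.dvd_lcm_right _ _))).trans hh⟩
        · exact Or.inr (Or.inl h)
        · rw [Nat.pow_right_injective hp.two_le (hj.symm.trans hj')]
          exact Or.inr (Or.inr hg)
      · refine ⟨QuotientGroup.mk (CfsgLib.RegUnip.regUnip n F), ?_⟩
        set o := orderOf (QuotientGroup.mk (CfsgLib.RegUnip.regUnip n F) :
          Matrix.ProjectiveSpecialLinearGroup (Fin n) F)
        have h1 : CfsgLib.RegUnip.regUnip n F ^ o ∈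
            Subgroup.center (Matrix.SpecialLinearGroup (Fin n) F) := by
          rw [← QuotientGroup.eq_one_iff, QuotientGroup.mk_pow, pow_orderOf_eq_one]
        obtain ⟨s, -, hs⟩ := PSLOrders.exists_scalar_of_mem_center h1
        rw [Matrix.SpecialLinearGroup.coe_pow, CfsgLib.RegUnip.regUnip_val] at hs
        rw [PSLOrders.eq_one_of_regUnip_pow_eq_scalar (by omega) hs, one_smul] at hs
        exact (PSLOrders.regUnip_order (F := F) p (k := n) (c := j + 1)
          (Or.inr (by rw [Nat.add_sub_cancel]; omega))).trans (orderOf_dvd_of_pow_eq_one hs)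
    · refine range_three (P₀ := 1) hr hA (fun g => ?_) hM ⟨1, one_dvd _⟩ hR
      rcases hclass g with ⟨Y, Z, hY, hZ, hZc, hc⟩ | h | ⟨j', hj', -⟩
      · obtain ⟨h, hh⟩ := hext Y Z hZ hZc hc
        exact Or.inl ⟨h, (Nat.lcm_dvd (Nat.dvd_lcm_left _ _) (hY.trans (Nat.dvd_lcm_right _ _))).trans hh⟩
      · exact Or.inr (Or.inl h)
      · exact absurd ⟨j', hj'⟩ hj
  · rcases hclass g with ⟨Y, Z, hY, hZ, hZc, hc⟩ | h | ⟨j', hj', -⟩
    · obtain ⟨h, hh⟩ := hext Y Z hZ hZc hc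
      exact Or.inl ⟨h, (Nat.lcm_dvd (Nat.dvd_lcm_left _ _) (hY.trans (Nat.dvd_lcm_right _ _))).trans hh⟩
    · exact Or.inr h
    · exact absurd ⟨j', hj'⟩ hnj

end Cfsg.Agent.S2510
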