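import Cfsg.Statements.S2511
import Cfsg.Agent.S2510
import Cfsg.Agent.Lib.SpecUnitary.PSUClassify

set_option autoImplicit false
open Cfsg

namespace Cfsg.Agent.S2511

/-- Let F be a finite field with q² elements, q = p^a, n ≥ 3 with (n, q) ≠ (3, 2), L = PSU(n, q) realised over F, and let r be a prime dividing q + 1 and not dividing n. Then for every m the direct product L × L × L × (ℤ/r)^m has the same set of element orders as L × L × L; and if n − 1 is not a power of p, then already L × L × (ℤ/r)^m has the same set of element orders as L × L. -/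
theorem result {F : Type*} [Field F] [Fintype F] (p a n q r m : ℕ) (hp : p.Prime) (ha : 1 ≤ a) (hq : q = p ^ a) (hF : Fintype.card F = q ^ 2)
    (hn : 3 ≤ n) (hn3 : ¬ (n = 3 ∧ q = 2)) (hr : r.Prime) (hrq : r ∣ q + 1) (hrn : ¬ r ∣ n) :
    Set.range (orderOf : Cfsg.PSU n F q × Cfsg.PSU n F q × Cfsg.PSU n F q × Multiplicative (Fin m → ZMod r) → ℕ) = Set.range (orderOf : Cfsg.PSU n F q × Cfsg.PSU n F q × Cfsg.PSU n F q → ℕ) ∧
    ((¬ ∃ j : ℕ, n - 1 = p ^ j) →
      Set.range (orderOf : Cfsg.PSU n F q × Cfsg.PSU n F q × Multiplicative (Fin m → ZMod r) → ℕ) = Set.range (orderOf : Cfsg.PSU n F q × Cfsg.PSU n F q → ℕ)) := by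
  classical
  have : Fact p.Prime := ⟨hp⟩
  have hdvd : p ∣ q := hq ▸ dvd_pow_self p (by omega)
  have hchar : CharP F p := by
    obtain ⟨p', hp'⟩ := CharP.exists F
    have hp'prime : p'.Prime := CharP.char_is_prime F p'
    obtain ⟨k, -, hk⟩ := FiniteField.card F p'
    have hd : p ∣ p' ^ (k : ℕ) := hk ▸ hF ▸ dvd_pow hdvd two_ne_zero
    rw [(Nat.prime_dvd_prime_iff_eq hp hp'prime).1 (hp.dvd_of_dvd_pow hd)]
    exact hp'
  have : Fact r.Prime := ⟨hr⟩
  have hA : ∀ x : Multiplicative (Fin m → ZMod r), x ^ r = 1 := fun x => by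
    apply Multiplicative.toAdd.injective
    funext i
    simp
  have hclass := fun g : Cfsg.PSU n F q => CfsgLib.PSUTwist.classify hF p (by omega) hr hrq hrn g
  have hR := CfsgLib.PSUTwist.exists_order_r (n := n) hF p (by omega) hr hrq hrn
  have hM := CfsgLib.PSUTwist.exists_singer (n := n) hF p (by omega)
  constructor
  · by_cases hj : ∃ j : ℕ, n - 1 = p ^ j
    · obtain ⟨j, hj⟩ := hj
      refine Cfsg.Agent.S2510.range_three (P₀ := p ^ (j + 1)) hr hA (fun g => ?_) hM
        (CfsgLib.PSUTwist.exists_unipotent hF p (by omega) (Or.inr (by rw [Nat.add_sub_cancel]; omega))) hR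
      rcases hclass g with h | h | ⟨j', hj', hg⟩
      · exact Or.inl h
      · exact Or.inr (Or.inl h)
      · rw [Nat.pow_right_injective hp.two_le (hj.symm.trans hj')]
        exact Or.inr (Or.inr hg)
    · refine Cfsg.Agent.S2510.range_three (P₀ := 1) hr hA (fun g => ?_) hM ⟨1, one_dvd _⟩ hR
      rcases hclass g with h | h | ⟨j', hj', -⟩
      · exact Or.inl h
      · exact Or.inr (Or.inl h)
      · exact absurd ⟨j', hj'⟩ hj
  · intro hnj
    refine Cfsg.Agent.S2510.range_two hr hA (fun g => ?_) hM hR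
    rcases hclass g with h | h | ⟨j', hj', -⟩
    · exact Or.inl h
    · exact Or.inr h
    · exact absurd ⟨j', hj'⟩ hnj

end Cfsg.Agent.S2511
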