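import Cfsg.Statements.S2512
import Cfsg.Agent.S2510
import Cfsg.Agent.Lib.SpecSp.Bound

set_option autoImplicit false
open Cfsg

namespace Cfsg.Agent.S2512

/-- Let F be a finite field of odd order q = p^a, n ≥ 2 (with q ≥ 3 automatic), and L = PSp(2n, F). Then for every m the direct product L × L × L × (ℤ/2)^m has the same set of element orders as L × L × L; and if 2n − 1 is not a power of p, then already L × L × (ℤ/2)^m has the same set of element orders as L × L. -/
theorem result {F : Type*} [Field F] [Fintype F] (p a n m : ℕ) (hp : p.Prime) (ha : 1 ≤ a) (hF : Fintype.card F = p ^ a) (hodd : Odd (Fintype.card F))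
    (hn : 2 ≤ n) :
    Set.range (orderOf : Cfsg.PSp n F × Cfsg.PSp n F × Cfsg.PSp n F × Multiplicative (Fin m → ZMod 2) → ℕ) = Set.range (orderOf : Cfsg.PSp n F × Cfsg.PSp n F × Cfsg.PSp n F → ℕ) ∧
    ((¬ ∃ j : ℕ, 2 * n - 1 = p ^ j) →
      Set.range (orderOf : Cfsg.PSp n F × Cfsg.PSp n F × Multiplicative (Fin m → ZMod 2) → ℕ) = Set.range (orderOf : Cfsg.PSp n F × Cfsg.PSp n F → ℕ)) := by
  classical
  have : Fact p.Prime := ⟨hp⟩
  have hchar : CharP F p := by
    obtain ⟨p', hp'⟩ := CharP.exists F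
    have hp'prime : p'.Prime := CharP.char_is_prime F p'
    obtain ⟨k, -, hk⟩ := FiniteField.card F p'
    have hk' : p ^ a = p' ^ (k : ℕ) := hF.symm.trans hk
    have hdvd : p ∣ p' ^ (k : ℕ) := hk' ▸ dvd_pow_self p (by omega)
    rw [(Nat.prime_dvd_prime_iff_eq hp hp'prime).1 (hp.dvd_of_dvd_pow hdvd)]
    exact hp'
  have hp2 : p ≠ 2 := by
    rintro rfl
    obtain ⟨c, hc⟩ := hodd
    have : 2 ∣ Fintype.card F := hF ▸ dvd_pow_self 2 (by omega)
    omega
  have h2 : (2 : F) ≠ 0 := Ring.two_ne_zero (by rw [ringChar.eq F p]; exact hp2)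
  obtain ⟨c, hc⟩ : Odd (Fintype.card F ^ n) := hodd.pow
  set M₀ := if Even c then (Fintype.card F ^ n + 1) / 2 else (Fintype.card F ^ n - 1) / 2 with hM₀
  have hM : ∀ N, (N = Fintype.card F ^ n - 1 ∨ N = Fintype.card F ^ n + 1) → 2 ∣ N / 2 ∨ N / 2 = M₀ := by
    intro N hN
    rw [hM₀]
    rcases hN with rfl | rfl <;> split_ifs with he <;> rw [Nat.even_iff] at he <;> omega
  have hM0 : ∃ g : Cfsg.PSp n F, M₀ ∣ orderOf g := by
    rw [hM₀]
    split_ifs
    · exact CfsgLib.SpecSp.exists_top_torus h2 (by omega) (Or.inr rfl)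
    · exact CfsgLib.SpecSp.exists_top_torus h2 (by omega) (Or.inl rfl)
  have hA : ∀ x : Multiplicative (Fin m → ZMod 2), x ^ 2 = 1 := fun x => by
    apply Multiplicative.toAdd.injective
    funext i
    simp
    exact Or.inl (by decide)
  have hR : ∃ g : Cfsg.PSp n F, orderOf g = 2 := by
    obtain ⟨g, hg⟩ := CfsgLib.SpecSp.exists_witness p h2 (n := n) (h := 1) (c := 0) le_rfl (by omega)
      (Or.inl rfl) (Or.inl rfl)
    refine CfsgLib.SpecLin.exists_orderOf_eq_of_dvd (orderOf_pos g).ne' (dvd_trans ?_ hg)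
    refine dvd_trans ?_ (Nat.dvd_lcm_left _ _)
    obtain ⟨d, hd⟩ := hodd
    exact ⟨d, by rw [pow_one, hd]; omega⟩
  have hclass := fun g => CfsgLib.SpecSp.classify p h2 hn hM g
  refine ⟨?_, fun hnj => Cfsg.Agent.S2510.range_two Nat.prime_two hA (fun g => ?_) hM0 hR⟩
  · by_cases hj : ∃ j : ℕ, 2 * n - 1 = p ^ j
    · obtain ⟨j, hj⟩ := hj
      refine Cfsg.Agent.S2510.range_three (P₀ := p ^ (j + 1)) Nat.prime_two hA (fun g => ?_) hM0 ?_ hR
      · rcases hclass g with h | h | ⟨j', hj', hg⟩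
        · exact Or.inl h
        · exact Or.inr (Or.inl h)
        · rw [Nat.pow_right_injective hp.two_le (hj.symm.trans hj')]
          exact Or.inr (Or.inr hg)
      · exact CfsgLib.SpecSp.exists_unipotent p (by omega) (Or.inr (by rw [Nat.add_sub_cancel]; omega))
    · refine Cfsg.Agent.S2510.range_three (P₀ := 1) Nat.prime_two hA (fun g => ?_) hM0 ⟨1, one_dvd _⟩ hR
      rcases hclass g with h | h | ⟨j', hj', -⟩
      · exact Or.inl h
      · exact Or.inr (Or.inl h)
      · exact absurd ⟨j', hj'⟩ hj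
  · rcases hclass g with h | h | ⟨j', hj', -⟩
    · exact Or.inl h
    · exact Or.inr h
    · exact absurd ⟨j', hj'⟩ hnj

end Cfsg.Agent.S2512
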