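import Cfsg.Statements.S2513
import Cfsg.Agent.Classical.SLBasic
import Cfsg.Agent.Lib.SpecLin.SemisimpleOrder
import Cfsg.Agent.Lib.SpecLin.OrderBasics
import Cfsg.Agent.Lib.SpecLin.FieldEmbed

namespace Cfsg.Agent.S2513

open CfsgLib.SpecLin

/-- The spectrum of a power of a finite group stabilises as soon as there is room for elements
covering the odd part and one 2-element. -/
theorem range_orderOf_pi {G : Type*} [Group G] [Finite G] {s k k0 : ℕ} (a : Fin s → ℕ)
    (ha : ∀ j, ∃ x : G, orderOf x = a j)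
    (hodd : ∀ x : G, Odd (orderOf x) → orderOf x ∣ Finset.univ.lcm a) (hs : s + 1 ≤ k0) (hk : k0 ≤ k) :
    Set.range (orderOf : (Fin k → G) → ℕ) = Set.range (orderOf : (Fin k0 → G) → ℕ) := by
  classical
  apply Set.Subset.antisymm
  · rintro _ ⟨x, rfl⟩
    set m := orderOf x with hm
    have hm0 : m ≠ 0 := (orderOf_pos x).ne'
    set e := m.factorization 2
    set o := m / 2 ^ e
    have hmo : 2 ^ e * o = m := Nat.ordProj_mul_ordCompl_eq_self m 2
    have ho : Odd o := by
      rw [← Nat.not_even_iff_odd, even_iff_two_dvd]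
      exact Nat.not_dvd_ordCompl Nat.prime_two hm0
    have hml : m = Finset.univ.lcm fun i => orderOf (x i) := Pi.orderOf x
    -- the odd part
    have hoL : o ∣ Finset.univ.lcm a := by
      have h1 : o ∣ Finset.univ.lcm fun i => Nat.gcd o (orderOf (x i)) := by
        rw [← gcd_finset_lcm, ← hml]
        exact Nat.dvd_gcd dvd_rfl ⟨2 ^ e, by rw [mul_comm, hmo]⟩
      refine h1.trans (Finset.lcm_dvd fun i _ => ?_)
      obtain ⟨y, hy⟩ := exists_orderOf_eq_of_dvd (orderOf_pos (x i)).ne'
        (Nat.gcd_dvd_right o (orderOf (x i)))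
      rw [← hy]
      exact hodd y (hy ▸ ho.of_dvd_nat (Nat.gcd_dvd_left _ _))
    -- the two part
    obtain ⟨i, hi⟩ : ∃ i, 2 ^ e = Nat.gcd (2 ^ e) (orderOf (x i)) ∨ e = 0 := by
      rcases eq_or_ne e 0 with he | he
      · rcases Nat.eq_zero_or_pos k with hk0 | hk0
        · omega
        · exact ⟨⟨0, hk0⟩, Or.inr he⟩
      by_contra hne
      push Not at hne
      have h2 : 2 ^ e ∣ Finset.univ.lcm fun i => Nat.gcd (2 ^ e) (orderOf (x i)) := by
        rw [← gcd_finset_lcm, ← hml]
        exact Nat.dvd_gcd dvd_rfl ⟨o, hmo.symm⟩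
      have h3 : (Finset.univ.lcm fun i => Nat.gcd (2 ^ e) (orderOf (x i))) ∣ 2 ^ (e - 1) := by
        refine Finset.lcm_dvd fun i _ => ?_
        obtain ⟨j, hj, hjeq⟩ := (Nat.dvd_prime_pow Nat.prime_two).1
          (Nat.gcd_dvd_left (2 ^ e) (orderOf (x i)))
        rw [hjeq]
        refine Nat.pow_dvd_pow 2 ?_
        by_contra hlt
        have : j = e := by omega
        exact (hne i).1 (by rw [hjeq, this])
      have := (Nat.pow_dvd_pow_iff_le_right (x := 2) (by norm_num)).1 (h2.trans h3)
      omega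
    have htwo : ∃ z : G, orderOf z = 2 ^ e := by
      rcases hi with hi | he
      · exact exists_orderOf_eq_of_dvd (orderOf_pos (x i)).ne'
          (hi ▸ Nat.gcd_dvd_right _ _)
      · exact ⟨1, by rw [he]; simp⟩
    obtain ⟨z, hz⟩ := htwo
    have hy : ∀ j, ∃ y : G, orderOf y = Nat.gcd o (a j) := fun j => by
      obtain ⟨w, hw⟩ := ha j
      exact exists_orderOf_eq_of_dvd (orderOf_pos w).ne' (hw ▸ Nat.gcd_dvd_right _ _)
    choose y hy using hy
    refine ⟨fun i => if h : (i : ℕ) < s then y ⟨i, h⟩ else if (i : ℕ) = s then z else 1, ?_⟩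
    rw [Pi.orderOf]
    apply Nat.dvd_antisymm
    · refine Finset.lcm_dvd fun i _ => ?_
      split_ifs with h h'
      · rw [hy]
        exact (Nat.gcd_dvd_left _ _).trans ⟨2 ^ e, by rw [mul_comm, hmo]⟩
      · rw [hz]
        exact ⟨o, hmo.symm⟩
      · simp
    · rw [← hmo]
      have hcop : (2 ^ e).Coprime o := Nat.Coprime.pow_left _ (Nat.coprime_two_left.2 ho)
      refine hcop.mul_dvd_of_dvd_of_dvd ?_ ?_
      · have := Finset.dvd_lcm (s := (Finset.univ : Finset (Fin k0)))
          (f := fun i => orderOf (if h : (i : ℕ) < s then y ⟨i, h⟩ else if (i : ℕ) = s then z else 1))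
          (Finset.mem_univ ⟨s, by omega⟩)
        simpa [hz] using this
      · have h1 : o ∣ Finset.univ.lcm fun j => Nat.gcd o (a j) := by
          rw [← gcd_finset_lcm]
          exact Nat.dvd_gcd dvd_rfl hoL
        refine h1.trans (Finset.lcm_dvd fun j _ => ?_)
        have := Finset.dvd_lcm (s := (Finset.univ : Finset (Fin k0)))
          (f := fun i => orderOf (if h : (i : ℕ) < s then y ⟨i, h⟩ else if (i : ℕ) = s then z else 1))
          (Finset.mem_univ ⟨j, by omega⟩)
        simpa [hy] using this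
  · rintro _ ⟨x, rfl⟩
    refine ⟨fun i => if h : (i : ℕ) < k0 then x ⟨i, h⟩ else 1, ?_⟩
    rw [Pi.orderOf, Pi.orderOf]
    apply Nat.dvd_antisymm
    · refine Finset.lcm_dvd fun i _ => ?_
      split_ifs with h
      · exact Finset.dvd_lcm (f := fun i => orderOf (x i)) (Finset.mem_univ _)
      · simp
    · refine Finset.lcm_dvd fun i _ => ?_
      have := Finset.dvd_lcm (s := (Finset.univ : Finset (Fin k)))
        (f := fun i => orderOf (if h : (i : ℕ) < k0 then x ⟨i, h⟩ else 1))
        (Finset.mem_univ (Fin.castLE hk i))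
      simpa using this

theorem exists_sl_orderOf {F : Type*} [Field F] [Fintype F] (hF : Fintype.card F = 2) {n d : ℕ}
    (hd : 1 ≤ d) (hdn : d ≤ n) :
    ∃ g : Matrix.SpecialLinearGroup (Fin n) F, orderOf g = 2 ^ d - 1 := by
  have : Fact (Nat.Prime 2) := ⟨Nat.prime_two⟩
  obtain ⟨_⟩ : Nonempty (CharP F 2) := ⟨charP_of_card_eq_prime hF⟩
  let K := GaloisField 2 d
  letI : Algebra F K := (RingHom.comp (algebraMap (ZMod 2) K) (ZMod.ringEquiv F hF).symm.toRingHom).toAlgebra
  have hfin : Module.Finite F K := Module.Finite.of_finite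
  have hKcard : Nat.card K = 2 ^ d := GaloisField.card 2 d (by omega)
  have hrank : Module.finrank F K = d := by
    have h := Module.natCard_eq_pow_finrank (K := F) (V := K)
    rw [hKcard, Nat.card_eq_fintype_card, hF] at h
    exact (Nat.pow_right_injective le_rfl h).symm
  obtain ⟨f, hf, -⟩ := exists_unitsHom_of_extension F K hrank
  obtain ⟨a, ha⟩ := IsCyclic.exists_generator (α := Kˣ)
  have hao : orderOf a = 2 ^ d - 1 := by
    rw [orderOf_eq_card_of_forall_mem_zpowers ha, Nat.card_units, hKcard]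
  have hdet : (blockEmbed F hdn (f a)).det = 1 := by
    have hne : (blockEmbed F hdn (f a)).det ≠ 0 := by
      have := ((Units.map (blockEmbed F hdn)).comp
        (MonoidHom.toHomUnits f) a).isUnit.map Matrix.detMonoidHom
      simpa using this.ne_zero
    have := FiniteField.pow_card_sub_one_eq_one _ hne
    simpa [hF] using this
  refine ⟨⟨blockEmbed F hdn (f a), hdet⟩, ?_⟩
  rw [← hao, ← orderOf_injective f hf a,
    ← orderOf_injective (blockEmbed F hdn) (blockEmbed_injective F hdn) (f a)]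
  exact (orderOf_injective
    ((Units.coeHom (Matrix (Fin n) (Fin n) F)).comp Matrix.SpecialLinearGroup.toGL)
    (Units.val_injective.comp Matrix.SpecialLinearGroup.toGL_injective)
    ⟨blockEmbed F hdn (f a), hdet⟩).symm

theorem result {F : Type*} [Field F] [Fintype F] (hF : Fintype.card F = 2) (n k : ℕ) (hn : 2 ≤ n) (hk : (n + 3) / 2 ≤ k) :
    Set.range (orderOf : (Fin k → Matrix.ProjectiveSpecialLinearGroup (Fin n) F) → ℕ) = Set.range (orderOf : (Fin ((n + 3) / 2) → Matrix.ProjectiveSpecialLinearGroup (Fin n) F) → ℕ) := by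
  classical
  have : Fact (Nat.Prime 2) := ⟨Nat.prime_two⟩
  have hcp : CharP F 2 := charP_of_card_eq_prime hF
  have hcen : Subgroup.center (Matrix.SpecialLinearGroup (Fin n) F) = ⊥ := by
    apply Subgroup.eq_bot_of_card_eq
    rw [Cfsg.Agent.Classical.card_center_sl n (by omega), hF]
    simp
  let e : Matrix.ProjectiveSpecialLinearGroup (Fin n) F ≃* Matrix.SpecialLinearGroup (Fin n) F :=
    (QuotientGroup.quotientMulEquivOfEq hcen).trans QuotientGroup.quotientBot
  refine range_orderOf_pi (s := n - n / 2) (fun j => 2 ^ (n / 2 + 1 + j) - 1) (fun j => ?_)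
    (fun x hx => ?_) (by omega) hk
  · obtain ⟨g, hg⟩ := exists_sl_orderOf hF (n := n) (d := n / 2 + 1 + j) (by omega) (by omega)
    exact ⟨e.symm g, by rw [MulEquiv.orderOf_eq, hg]⟩
  · rw [← e.orderOf_eq x] at hx ⊢
    set g := e x
    rw [orderOf_dvd_iff_pow_eq_one]
    apply Subtype.ext
    rw [Matrix.SpecialLinearGroup.coe_pow, Matrix.SpecialLinearGroup.coe_one]
    refine semisimple_pow_eq_one _ (m := orderOf g) ?_ ?_ fun d hd1 hdn => ?_
    · rw [Ne, CharP.cast_eq_zero_iff F 2]
      exact fun h => Nat.not_even_iff_odd.2 hx (even_iff_two_dvd.2 h)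
    · rw [← Matrix.SpecialLinearGroup.coe_pow, pow_orderOf_eq_one, Matrix.SpecialLinearGroup.coe_one]
    · rw [hF]
      -- d has a multiple in (n/2, n]
      have hmul : ∃ c, 1 ≤ c ∧ n / 2 < c * d ∧ c * d ≤ n := by
        have h1 : n / d * d ≤ n := Nat.div_mul_le_self n d
        have h2 : n < (n / d + 1) * d := by
          rw [add_mul, one_mul]; exact Nat.lt_div_mul_add (by omega)
        refine ⟨n / d, Nat.div_pos hdn (by omega), ?_, h1⟩
        have h3 : 1 * d ≤ n / d * d := Nat.mul_le_mul_right d (Nat.div_pos hdn (by omega))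
        rw [add_mul, one_mul] at h2
        omega
      obtain ⟨c, -, hc1, hc2⟩ := hmul
      have := Finset.dvd_lcm (s := (Finset.univ : Finset (Fin (n - n / 2))))
        (f := fun j : Fin (n - n / 2) => 2 ^ (n / 2 + 1 + (j : ℕ)) - 1)
        (Finset.mem_univ ⟨c * d - (n / 2 + 1), by omega⟩)
      refine dvd_trans ?_ this
      rw [show n / 2 + 1 + (c * d - (n / 2 + 1)) = d * c by rw [mul_comm d c]; omega, pow_mul]
      exact Nat.sub_one_dvd_pow_sub_one _ _

end Cfsg.Agent.S2513
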