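import Cfsg.Statements.S2514
-- import your own Cfsg.Agent.* helpers here

set_option autoImplicit false
open Cfsg

namespace Cfsg.Agent.S2514

theorem exists_max_order {G : Type*} [Group G] [Finite G] (x : G) :
    ∃ y : G, orderOf x ∣ orderOf y ∧ ∀ z : G, orderOf y ∣ orderOf z → orderOf z = orderOf y := by
  obtain ⟨y, hy, hmax⟩ := Set.Finite.exists_maximalFor (fun y : G => orderOf y)
    {y : G | orderOf x ∣ orderOf y} (Set.toFinite _) ⟨x, dvd_rfl⟩
  refine ⟨y, hy, fun z hz => ?_⟩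
  have hle : orderOf y ≤ orderOf z := Nat.le_of_dvd (orderOf_pos z) hz
  exact le_antisymm (hmax (show orderOf x ∣ orderOf z from dvd_trans hy hz) hle) hle

theorem exists_order_of_dvd {G : Type*} [Group G] [Finite G] (y : G) {d : ℕ}
    (hd : d ∣ orderOf y) : ∃ z : G, orderOf z = d :=
  ⟨y ^ (orderOf y / d), orderOf_pow_orderOf_div (orderOf_pos y).ne' hd⟩

theorem pow_eq_one_congr {G H : Type*} [Monoid G] [Monoid H] {x : G} {y : H}
    (h : orderOf x = orderOf y) (n : ℕ) : x ^ n = 1 ↔ y ^ n = 1 :=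
  orderOf_eq_orderOf_iff.1 h n


/-- For a finite group X write μ(X) for the set of element orders of X that are maximal under divisibility. Let G and H be finite groups and k ≥ 1 such that μ(H) ⊆ μ(G) and μ(G) has fewer than k elements outside μ(H). Then the direct product of k copies of G has the same set of element orders as the direct product of k − 1 copies of G with H. -/
theorem result {G H : Type*} [Group G] [Finite G] [Group H] [Finite H] (k : ℕ) (hk : 1 ≤ k)
    (hsub : {n : ℕ | n ∈ Set.range (orderOf : H → ℕ) ∧ ∀ m ∈ Set.range (orderOf : H → ℕ), n ∣ m → m = n} ⊆ {n : ℕ | n ∈ Set.range (orderOf : G → ℕ) ∧ ∀ m ∈ Set.range (orderOf : G → ℕ), n ∣ m → m = n})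
    (hfew : ({n : ℕ | n ∈ Set.range (orderOf : G → ℕ) ∧ ∀ m ∈ Set.range (orderOf : G → ℕ), n ∣ m → m = n} \ {n : ℕ | n ∈ Set.range (orderOf : H → ℕ) ∧ ∀ m ∈ Set.range (orderOf : H → ℕ), n ∣ m → m = n}).ncard < k) :
    Set.range (orderOf : (Fin k → G) → ℕ) = Set.range (orderOf : (Fin (k - 1) → G) × H → ℕ) := by
  obtain ⟨s, rfl⟩ : ∃ s, k = s + 1 := ⟨k - 1, by omega⟩
  rw [Nat.add_sub_cancel]
  ext n
  constructor
  · rintro ⟨f, rfl⟩
    choose m hm hmax using fun i => exists_max_order (f i)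
    have hmem : ∀ i, orderOf (m i) ∈ {n : ℕ | n ∈ Set.range (orderOf : G → ℕ) ∧
        ∀ l ∈ Set.range (orderOf : G → ℕ), n ∣ l → l = n} :=
      fun i => ⟨⟨m i, rfl⟩, by rintro l ⟨z, rfl⟩ h; exact hmax i z h⟩
    by_cases hH : ∃ i, orderOf (m i) ∈ {n : ℕ | n ∈ Set.range (orderOf : H → ℕ) ∧
        ∀ l ∈ Set.range (orderOf : H → ℕ), n ∣ l → l = n}
    · obtain ⟨i, ⟨h, hh⟩, -⟩ := hH
      obtain ⟨h', hh'⟩ := exists_order_of_dvd h (hh ▸ hm i)
      refine ⟨(fun a => f (i.succAbove a), h'), ?_⟩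
      rw [orderOf_eq_orderOf_iff]
      intro j
      simp only [Prod.ext_iff, Prod.pow_fst, Prod.pow_snd, Prod.fst_one, Prod.snd_one, funext_iff,
        Pi.pow_apply, Pi.one_apply, pow_eq_one_congr hh' j, Fin.forall_iff_succAbove i (P := fun a => f a ^ j = 1)]
      exact and_comm
    · have hfin : ({n : ℕ | n ∈ Set.range (orderOf : G → ℕ) ∧ ∀ l ∈ Set.range (orderOf : G → ℕ), n ∣ l → l = n} \ {n : ℕ | n ∈ Set.range (orderOf : H → ℕ) ∧ ∀ l ∈ Set.range (orderOf : H → ℕ), n ∣ l → l = n}).Finite :=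
        (Set.finite_range (orderOf : G → ℕ)).subset fun x hx => hx.1.1
      obtain ⟨i, -, i', -, hne, heq⟩ :=
        Finset.exists_ne_map_eq_of_card_lt_of_maps_to (f := fun i : Fin (s + 1) => orderOf (m i))
          (s := Finset.univ) (t := hfin.toFinset)
          (by rw [← Set.ncard_eq_toFinset_card _ hfin]; simpa using hfew)
          (fun i _ => hfin.mem_toFinset.2 ⟨hmem i, fun h => hH ⟨i, h⟩⟩)
      obtain ⟨z, hz⟩ := exists_order_of_dvd (m i)
        (Nat.lcm_dvd (hm i) (heq ▸ hm i' : orderOf (f i') ∣ orderOf (m i)))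
      refine ⟨(fun a => Function.update f i z (i'.succAbove a), 1), ?_⟩
      rw [orderOf_eq_orderOf_iff]
      intro j
      have hz' : z ^ j = 1 ↔ f i ^ j = 1 ∧ f i' ^ j = 1 := by
        simp only [← orderOf_dvd_iff_pow_eq_one, hz, Nat.lcm_dvd_iff]
      simp only [Prod.ext_iff, Prod.pow_fst, Prod.pow_snd, Prod.fst_one, Prod.snd_one, funext_iff,
        Pi.pow_apply, Pi.one_apply, one_pow, and_true]
      constructor
      · intro h a
        obtain ⟨b, hb⟩ := Fin.exists_succAbove_eq hne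
        have hzz := h b
        rw [hb, Function.update_self] at hzz
        by_cases ha' : a = i'
        · subst ha'; exact (hz'.1 hzz).2
        obtain ⟨b, rfl⟩ := Fin.exists_succAbove_eq ha'
        by_cases ha : i'.succAbove b = i
        · rw [ha]; exact (hz'.1 hzz).1
        simpa [Function.update_of_ne ha] using h b
      · intro h b
        by_cases ha : i'.succAbove b = i
        · rw [ha, Function.update_self]; exact hz'.2 ⟨h i, h i'⟩
        · rw [Function.update_of_ne ha]; exact h _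
  · rintro ⟨⟨f, h⟩, rfl⟩
    obtain ⟨y, hy, hmax⟩ := exists_max_order h
    obtain ⟨⟨g, hg⟩, -⟩ := hsub (show orderOf y ∈ _ from ⟨⟨y, rfl⟩, by
      rintro l ⟨z, rfl⟩ hl; exact hmax z hl⟩)
    obtain ⟨z, hz⟩ := exists_order_of_dvd g (hg ▸ hy : orderOf h ∣ orderOf g)
    refine ⟨Fin.snoc f z, ?_⟩
    rw [orderOf_eq_orderOf_iff]
    intro j
    simp only [Prod.ext_iff, Prod.pow_fst, Prod.pow_snd, Prod.fst_one, Prod.snd_one, funext_iff,
      Pi.pow_apply, Pi.one_apply, Fin.forall_fin_succ', Fin.snoc_castSucc, Fin.snoc_last,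
      pow_eq_one_congr hz j]

end Cfsg.Agent.S2514
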