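import Cfsg.Statements.S2515
import Cfsg.Agent.Lib.KnownSimple.TwistedTensor

set_option autoImplicit false
open Cfsg

namespace Cfsg.Agent.S2515

/-- Let q = 3^α with α ≥ 3 odd. There is a finite group H having a non-trivial normal 3-subgroup and whose element orders maximal under divisibility are exactly 6, 9, q − 1 and (q + 1)/2. -/
theorem result (α : ℕ) (hα : 3 ≤ α) (hodd : Odd α) :
    ∃ (H : Type) (_ : Group H) (_ : Fintype H), (∃ P : Subgroup H, P.Normal ∧ P ≠ ⊥ ∧ IsPGroup 3 ↥P) ∧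
      {n : ℕ | n ∈ Set.range (orderOf : H → ℕ) ∧ ∀ m ∈ Set.range (orderOf : H → ℕ), n ∣ m → m = n} = ({6, 9, 3 ^ α - 1, (3 ^ α + 1) / 2} : Set ℕ) := by
  classical
  have hα0 : α ≠ 0 := by omega
  let F := GaloisField 3 α
  have : Fintype F := Fintype.ofFinite F
  set q := 3 ^ α with hqdef
  have hq : Fintype.card F = q := by
    rw [← Nat.card_eq_fintype_card]; exact GaloisField.card 3 α hα0
  have hq3 : 3 ∣ q := dvd_pow_self 3 hα0
  have h27 : 27 ≤ q := le_trans (by norm_num) (Nat.pow_le_pow_right (by norm_num : 1 ≤ 3) hα)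
  have h4 : q % 4 = 3 := by
    obtain ⟨k, hk⟩ := hodd
    rw [hqdef, hk, pow_succ, pow_mul, Nat.mul_mod, Nat.pow_mod]
    norm_num
  have : Finite (CfsgLib.KnownSimple.TwistedTensor.Ext F) :=
    Finite.of_equiv _ SemidirectProduct.equivProd.symm
  refine ⟨CfsgLib.KnownSimple.TwistedTensor.Ext F, inferInstance, Fintype.ofFinite _,
    CfsgLib.KnownSimple.TwistedTensor.normal_three F, ?_⟩
  obtain ⟨x6, h6⟩ := CfsgLib.KnownSimple.TwistedTensor.exists_order_six (F := F)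
  obtain ⟨x9, h9⟩ := CfsgLib.KnownSimple.TwistedTensor.exists_order_nine (F := F)
  obtain ⟨xp, hp⟩ := CfsgLib.KnownSimple.TwistedTensor.exists_order_pred hq h4
  obtain ⟨xh, hh⟩ := CfsgLib.KnownSimple.TwistedTensor.exists_order_half hq h4
  have hdvd := CfsgLib.KnownSimple.TwistedTensor.orders_dvd hq h4
  have hex : ∀ M ∈ ({6, 9, q - 1, (q + 1) / 2} : Set ℕ),
      ∃ x : CfsgLib.KnownSimple.TwistedTensor.Ext F, orderOf x = M := by
    rintro M (rfl | rfl | rfl | rfl)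
    exacts [⟨x6, h6⟩, ⟨x9, h9⟩, ⟨xp, hp⟩, ⟨xh, hh⟩]
  have hsucc : ∀ y : CfsgLib.KnownSimple.TwistedTensor.Ext F,
      ∃ M ∈ ({6, 9, q - 1, (q + 1) / 2} : Set ℕ), orderOf y ∣ M := by
    intro y
    rcases hdvd y with h | h | h | h <;> exact ⟨_, by simp, h⟩
  have h3p : ¬ 3 ∣ q - 1 := by omega
  have h3h : ¬ 3 ∣ (q + 1) / 2 := fun h => by
    have h' : 3 ∣ q + 1 :=
      (h.mul_right 2).trans (by rw [Nat.div_mul_cancel (by omega : 2 ∣ q + 1)])
    omega
  have hanti : ∀ M ∈ ({6, 9, q - 1, (q + 1) / 2} : Set ℕ), ∀ N ∈ ({6, 9, q - 1, (q + 1) / 2} : Set ℕ),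
      M ∣ N → M = N := by
    rintro M (rfl | rfl | rfl | rfl) N (rfl | rfl | rfl | rfl) h <;> try rfl
    all_goals exfalso
    · norm_num at h
    · exact h3p ((show 3 ∣ 6 by norm_num).trans h)
    · exact h3h ((show 3 ∣ 6 by norm_num).trans h)
    · norm_num at h
    · exact h3p ((show 3 ∣ 9 by norm_num).trans h)
    · exact h3h ((show 3 ∣ 9 by norm_num).trans h)
    · have := Nat.le_of_dvd (by norm_num) h; omega
    · have := Nat.le_of_dvd (by norm_num) h; omega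
    · have := Nat.le_of_dvd (by omega) h; omega
    · have := Nat.le_of_dvd (by norm_num) h; omega
    · have := Nat.le_of_dvd (by norm_num) h; omega
    · obtain ⟨c, hc⟩ := h
      have hc2 : c < 2 := by
        by_contra hc2
        have := Nat.mul_le_mul_left ((q + 1) / 2) (not_lt.1 hc2)
        omega
      interval_cases c <;> omega
  ext n
  constructor
  · rintro ⟨⟨y, rfl⟩, hmax⟩
    obtain ⟨M, hM, hd⟩ := hsucc y
    obtain ⟨x, hx⟩ := hex M hM
    rw [← hmax M ⟨x, hx⟩ hd]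
    exact hM
  · intro hn
    obtain ⟨x, hx⟩ := hex n hn
    refine ⟨⟨x, hx⟩, ?_⟩
    rintro m ⟨y, rfl⟩ hd
    obtain ⟨M, hM, hdM⟩ := hsucc y
    exact Nat.dvd_antisymm (hanti n hn M hM (hd.trans hdM) ▸ hdM) hd

end Cfsg.Agent.S2515
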