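import Cfsg.Statements.S2516
-- import your own Cfsg.Agent.* helpers here

set_option autoImplicit false
open Cfsg

namespace Cfsg.Agent.S2516

/-- Let F be a field of characteristic p > 0, V a non-zero finite-dimensional F-vector space, G a finite group and ρ a representation of G on V; form the semidirect product V ⋊ G. For g ∈ G of order k, the coset Vg contains an element of order pk if and only if the minimal polynomial of ρ(g) does not divide 1 + X + ⋯ + X^(k−1). -/
theorem result {F : Type*} [Field F] (p : ℕ) [Fact p.Prime] [CharP F p] {V : Type*} [AddCommGroup V] [Module F V] [FiniteDimensional F V] [Nontrivial V]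
    {G : Type*} [Group G] [Finite G] (ρ : Representation F G V) (g : G) :
    (∃ x : Multiplicative V ⋊[(MulAutMultiplicative V).symm.toMonoidHom.comp
        ((DistribMulAction.toAddAut ((V →ₗ[F] V)ˣ) V).comp ρ.asGroupHom)] G,
        x.right = g ∧ orderOf x = p * orderOf g) ↔
      ¬ (minpoly F (ρ g) ∣ ∑ i ∈ Finset.range (orderOf g), (Polynomial.X : Polynomial F) ^ i) := by
  classical
  set φ : G →* MulAut (Multiplicative V) := (MulAutMultiplicative V).symm.toMonoidHom.comp
        ((DistribMulAction.toAddAut ((V →ₗ[F] V)ˣ) V).comp ρ.asGroupHom) with hφ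
  have hact : ∀ (h : G) (v : V), φ h (Multiplicative.ofAdd v) = Multiplicative.ofAdd (ρ h v) := by
    intro h v; rfl
  set n := orderOf g with hn
  have hnpos : 0 < n := orderOf_pos g
  have hpow : ∀ (v : V) (k : ℕ),
      (SemidirectProduct.mk (Multiplicative.ofAdd v) g : Multiplicative V ⋊[φ] G) ^ k =
        ⟨Multiplicative.ofAdd ((∑ i ∈ Finset.range k, (ρ g) ^ i) v), g ^ k⟩ := by
    intro v k
    induction k with
    | zero => simp only [pow_zero, Finset.range_zero, Finset.sum_empty, LinearMap.zero_apply]; rfl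
    | succ k ih =>
      rw [pow_succ, ih, SemidirectProduct.mul_def]
      simp only [hact]
      simp only [map_pow, ← ofAdd_add, Finset.sum_range_succ, LinearMap.add_apply, pow_succ]
  have key : Polynomial.aeval (ρ g) (∑ i ∈ Finset.range n, (Polynomial.X : Polynomial F) ^ i) =
      ∑ i ∈ Finset.range n, (ρ g) ^ i := by simp
  rw [minpoly.dvd_iff, key]
  constructor
  · rintro ⟨⟨a, h⟩, hr, ho⟩ h0
    simp only at hr
    subst hr
    have h1 := hpow (Multiplicative.toAdd a) n
    rw [ofAdd_toAdd, h0, LinearMap.zero_apply, ofAdd_zero, hn, pow_orderOf_eq_one] at h1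
    have hd : orderOf (SemidirectProduct.mk a h : Multiplicative V ⋊[φ] G) ∣ n :=
      orderOf_dvd_of_pow_eq_one h1
    rw [ho] at hd
    have := Nat.le_of_dvd hnpos hd
    have h2 := (Fact.out : p.Prime).two_le
    nlinarith
  · intro hne
    obtain ⟨v, hv⟩ : ∃ v, (∑ i ∈ Finset.range n, (ρ g) ^ i) v ≠ 0 := by
      by_contra hc
      push_neg at hc
      exact hne (LinearMap.ext hc)
    refine ⟨⟨Multiplicative.ofAdd v, g⟩, rfl, ?_⟩
    set x : Multiplicative V ⋊[φ] G := ⟨Multiplicative.ofAdd v, g⟩ with hx
    have hdvd : n ∣ orderOf x := by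
      simpa using orderOf_map_dvd (SemidirectProduct.rightHom (φ := φ)) x
    obtain ⟨k, hk⟩ := hdvd
    have hxn : x ^ n = SemidirectProduct.inl (Multiplicative.ofAdd ((∑ i ∈ Finset.range n, (ρ g) ^ i) v)) := by
      rw [hx, hpow, hn, pow_orderOf_eq_one]; rfl
    set w := (∑ i ∈ Finset.range n, (ρ g) ^ i) v
    have hwp : orderOf (x ^ n) = p := by
      rw [hxn, orderOf_injective _ SemidirectProduct.inl_injective, orderOf_ofAdd_eq_addOrderOf]
      apply addOrderOf_eq_prime _ hv
      rw [← Nat.cast_smul_eq_nsmul F p w, CharP.cast_eq_zero, zero_smul]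
    have hk' : orderOf x / n = p := by
      rw [← hwp, orderOf_pow' _ hnpos.ne', Nat.gcd_eq_right ⟨k, hk⟩]
    rw [hk, Nat.mul_div_cancel_left _ hnpos] at hk'
    rw [hk, hk', mul_comm]

end Cfsg.Agent.S2516
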