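import Cfsg.Statements.S2517
import Cfsg.Agent.Lib.Recog.OmegaNine.Witness
import Cfsg.Agent.Lib.Orth.OddInvolutions

set_option autoImplicit false
open Cfsg

namespace Cfsg.Agent.S2517

open CfsgLib.Orth CfsgLib.Recog.OmegaNine Matrix in
theorem det_minus {F : Type*} [Field F] [Fintype F] [DecidableEq F] (h2 : (2 : F) ≠ 0) (a b : F)
    (hab : ∀ z₁ z₂ : F, z₁ ^ 2 + a * z₁ * z₂ + b * z₂ ^ 2 = 0 → z₁ = 0 ∧ z₂ = 0) :
    ¬ IsSquare (CfsgLib.QuadFin.gram ⇑(minusQ 3 F a b)).det := by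
  have h : CfsgLib.QuadFin.gram ⇑(minusQ 3 F a b) =
      fromBlocks (CfsgLib.QuadFin.gram ⇑(plusQ 3 F)) 0 0 !![2, a; a, 2 * b] := by
    ext (i | i) (j | j)
    · simp [CfsgLib.QuadFin.gram, polar_minusQ, polar_plusQ, Pi.single_apply]
    · fin_cases j <;> simp [CfsgLib.QuadFin.gram, polar_minusQ, Pi.single_apply]
    · fin_cases i <;> simp [CfsgLib.QuadFin.gram, polar_minusQ, Pi.single_apply]
    · fin_cases i <;> fin_cases j <;>
        simp [CfsgLib.QuadFin.gram, polar_minusQ, Pi.single_apply]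
  rw [h, det_fromBlocks_zero₂₁, det_plusQ, det_fin_two_of]
  rintro ⟨r, hr⟩
  refine not_isSquare_neg_disc h2 hab ⟨r / 2, ?_⟩
  rw [show (4 : F) = 2 * 2 by norm_num]
  field_simp
  linear_combination hr


/-- Let F be a finite field of odd order q, let Ω₉ be the simple orthogonal group PΩ(9, F), and let Ω₈⁻ be the commutator subgroup of the isometry group of a minus-type non-singular quadratic form on V = F⁸ (the simple group PΩ⁻(8, F), acting on its natural module V). Then Ω₉ and the semidirect product V ⋊ Ω₈⁻ have exactly the same set of element orders. -/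
theorem result {F : Type*} [Field F] [Fintype F] (hF : Odd (Fintype.card F)) (a b : F)
    (hab : ∀ z₁ z₂ : F, z₁ ^ 2 + a * z₁ * z₂ + b * z₂ ^ 2 = 0 → z₁ = 0 ∧ z₂ = 0) :
    Set.range (orderOf : Cfsg.POmega F (Cfsg.quadFormOdd 4 F) → ℕ) =
      Set.range (orderOf :
        (Multiplicative (((Fin 3 ⊕ Fin 3) ⊕ Fin 2) → F)) ⋊[
          (MulAutMultiplicative (((Fin 3 ⊕ Fin 3) ⊕ Fin 2) → F)).symm.toMonoidHom.comp
           ((DistribMulAction.toAddAut (LinearMap.GeneralLinearGroup F (((Fin 3 ⊕ Fin 3) ⊕ Fin 2) → F))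
              (((Fin 3 ⊕ Fin 3) ⊕ Fin 2) → F)).comp
            (Matrix.GeneralLinearGroup.toLin.toMonoidHom.comp
              ((Cfsg.isometryGroup F (Cfsg.quadFormMinus 3 F a b)).subtype.comp
                (Cfsg.Omega F (Cfsg.quadFormMinus 3 F a b)).subtype)))]
          ↥(Cfsg.Omega F (Cfsg.quadFormMinus 3 F a b)) → ℕ) := by
  classical
  have h2 : (2 : F) ≠ 0 := by
    intro h
    have : CharP F 2 := CharTwo.of_one_ne_zero_of_two_eq_zero one_ne_zero h
    have h' := FiniteField.even_card_of_char_two (F := F) (ringChar.eq F 2)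
    rw [Nat.odd_iff] at hF
    omega
  have key : ∀ (f : ((Fin 3 ⊕ Fin 3) ⊕ Fin 2 → F) → F),
      ⇑(CfsgLib.Orth.minusQ 3 F a b) = f →
      ∀ (f' : (Unit ⊕ (Fin 4 ⊕ Fin 4) → F) → F), ⇑(Cfsg.Agent.Spinor57.qOdd 4 F) = f' →
      ∀ (φ : Cfsg.Omega F f →* MulAut (Multiplicative ((Fin 3 ⊕ Fin 3) ⊕ Fin 2 → F))),
        (∀ g v, φ g (Multiplicative.ofAdd v) = Multiplicative.ofAdd
          (((g.1.1 : Matrix.GeneralLinearGroup ((Fin 3 ⊕ Fin 3) ⊕ Fin 2) F) :
            Matrix ((Fin 3 ⊕ Fin 3) ⊕ Fin 2) ((Fin 3 ⊕ Fin 3) ⊕ Fin 2) F).mulVec v)) →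
        Set.range (orderOf : Cfsg.POmega F f' → ℕ) = Set.range (orderOf :
          Multiplicative ((Fin 3 ⊕ Fin 3) ⊕ Fin 2 → F) ⋊[φ] Cfsg.Omega F f → ℕ) := by
    rintro f rfl f' rfl φ hφ
    rw [← CfsgLib.Recog.OmegaNine.range_orderOf_eq hφ (CfsgLib.Orth.minusQ_nondegenerate h2 hab) h2
      (by simp) (det_minus h2 a b hab) (Cfsg.Agent.Spinor57.qOdd_nondegenerate h2 (m := 4)) (by simp)]
    let e := (QuotientGroup.quotientMulEquivOfEq
      (CfsgLib.OrthOddInv.center_omega_eq_bot (F := F) h2 (m := 4) (by norm_num))).trans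
      QuotientGroup.quotientBot
    ext n
    constructor
    · rintro ⟨x, rfl⟩; exact ⟨e x, orderOf_injective e.toMonoidHom e.injective x⟩
    · rintro ⟨x, rfl⟩; exact ⟨e.symm x, orderOf_injective e.symm.toMonoidHom e.symm.injective x⟩
  exact key _ (CfsgLib.Orth.minusQ_coe 3 a b) _ Cfsg.Agent.Spinor57.qOdd_coe _ fun g v => rfl

end Cfsg.Agent.S2517
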