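import Cfsg.Statements.S2518
import Cfsg.Agent.Lib.KnownSimple.GTwoThree.Main
import Cfsg.Agent.Lib.KnownSimple.GTwoThree.PSLThirteen

set_option autoImplicit false
open Cfsg

namespace Cfsg.Agent.S2518

/-- Let F₃ be the field with 3 elements and F₁₃ the field with 13 elements. The Chevalley group G₂(F₃) and PSL(2, F₁₃) have the same prime graph: the same prime divisors of their orders, and for distinct primes r, s an element of order rs in one iff in the other. -/
theorem result {F : Type*} [Field F] [Fintype F] (hF : Fintype.card F = 3) {E : Type*} [Field E] [Fintype E] (hE : Fintype.card E = 13) :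
    ((∀ r : ℕ, r.Prime → (r ∣ Nat.card ↥(Cfsg.Lie.chevG2.group F) ↔ r ∣ Nat.card (Matrix.ProjectiveSpecialLinearGroup (Fin 2) E))) ∧
      (∀ r s : ℕ, r.Prime → s.Prime → r ≠ s → ((∃ x : ↥(Cfsg.Lie.chevG2.group F), orderOf x = r * s) ↔ (∃ y : (Matrix.ProjectiveSpecialLinearGroup (Fin 2) E), orderOf y = r * s)))) := by
  obtain ⟨eG⟩ := CfsgLib.KnownSimple.GTwoThree.exists_equiv hF
  obtain ⟨eP⟩ := CfsgLib.KnownSimple.GTwoThree.exists_psl_equiv hE
  have hG : Nat.card ↥(Cfsg.Lie.chevG2.group F) = 4245696 :=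
    (Nat.card_congr eG.toEquiv).trans CfsgLib.KnownSimple.GTwoThree.card_G23
  have hP : Nat.card (Matrix.ProjectiveSpecialLinearGroup (Fin 2) E) = 1092 :=
    CfsgLib.KnownSimple.GTwoThree.card_psl13 hE
  have hprimes : ∀ r : ℕ, r.Prime → (r ∣ 4245696 ↔ r ∣ 1092) := by
    intro r hr
    have key : ∀ a b : ℕ, r ∣ a * b ↔ r ∣ a ∨ r ∣ b := fun _ _ => hr.dvd_mul
    have hpw : ∀ a k : ℕ, k ≠ 0 → (r ∣ a ^ k ↔ r ∣ a) := fun a k hk =>
      ⟨hr.dvd_of_dvd_pow, fun h => h.trans (dvd_pow_self a hk)⟩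
    rw [show (4245696 : ℕ) = 2 ^ 6 * 3 ^ 6 * 7 * 13 by norm_num,
      show (1092 : ℕ) = 2 ^ 2 * 3 ^ 1 * 7 * 13 by norm_num, key, key, key, key, key, key,
      hpw 2 6 (by norm_num), hpw 3 6 (by norm_num), hpw 2 2 (by norm_num), hpw 3 1 (by norm_num)]
  refine ⟨fun r hr => by rw [hG, hP]; exact hprimes r hr, fun r s hr hs hrs => ?_⟩
  have mem : ∀ r : ℕ, r.Prime → r ∣ 4245696 → r = 2 ∨ r = 3 ∨ r = 7 ∨ r = 13 := by
    intro r hr h
    rw [show (4245696 : ℕ) = 2 ^ 6 * 3 ^ 6 * 7 * 13 by norm_num] at h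
    rcases hr.dvd_mul.1 h with h | h
    · rcases hr.dvd_mul.1 h with h | h
      · rcases hr.dvd_mul.1 h with h | h
        · exact Or.inl ((Nat.prime_dvd_prime_iff_eq hr Nat.prime_two).1 (hr.dvd_of_dvd_pow h))
        · exact Or.inr (Or.inl ((Nat.prime_dvd_prime_iff_eq hr Nat.prime_three).1 (hr.dvd_of_dvd_pow h)))
      · exact Or.inr (Or.inr (Or.inl ((Nat.prime_dvd_prime_iff_eq hr (by norm_num)).1 h)))
    · exact Or.inr (Or.inr (Or.inr ((Nat.prime_dvd_prime_iff_eq hr (by norm_num)).1 h)))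
  constructor
  · rintro ⟨x, hx⟩
    have hy : orderOf (eG x) = r * s := (eG.orderOf_eq x).trans hx
    have hrG : r ∣ 4245696 := hG ▸ (dvd_mul_right r s).trans (hx ▸ orderOf_dvd_natCard x)
    have hsG : s ∣ 4245696 := hG ▸ (dvd_mul_left s r).trans (hx ▸ orderOf_dvd_natCard x)
    have h7r : r ≠ 7 := fun e => hs.ne_one
      (CfsgLib.KnownSimple.GTwoThree.no_order_seven_mul (hy.trans (by rw [e])))
    have h13r : r ≠ 13 := fun e => hs.ne_one
      (CfsgLib.KnownSimple.GTwoThree.no_order_thirteen_mul (hy.trans (by rw [e])))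
    have h7s : s ≠ 7 := fun e => hr.ne_one
      (CfsgLib.KnownSimple.GTwoThree.no_order_seven_mul (hy.trans (by rw [e, mul_comm])))
    have h13s : s ≠ 13 := fun e => hr.ne_one
      (CfsgLib.KnownSimple.GTwoThree.no_order_thirteen_mul (hy.trans (by rw [e, mul_comm])))
    obtain ⟨y, hy6⟩ := CfsgLib.KnownSimple.GTwoThree.exists_psl_six
    have h6 : r * s = 6 := by
      rcases mem r hr hrG with rfl | rfl | rfl | rfl <;> rcases mem s hs hsG with rfl | rfl | rfl | rfl <;>
        simp_all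
    exact ⟨eP.symm y, by rw [eP.symm.orderOf_eq, hy6, h6]⟩
  · rintro ⟨y, hy⟩
    have hz : orderOf (eP y) = r * s := (eP.orderOf_eq y).trans hy
    have h6 : r * s = 6 := by
      rcases CfsgLib.KnownSimple.GTwoThree.psl13_orders (eP y) with h | h | h <;> rw [hz] at h
      · have hr6 : r ∣ 2 * 3 := (dvd_mul_right r s).trans h
        have hs6 : s ∣ 2 * 3 := (dvd_mul_left s r).trans h
        rcases hr.dvd_mul.1 hr6 with h1 | h1 <;>
          rw [Nat.prime_dvd_prime_iff_eq hr (by norm_num)] at h1 <;>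
          rcases hs.dvd_mul.1 hs6 with h2 | h2 <;>
          rw [Nat.prime_dvd_prime_iff_eq hs (by norm_num)] at h2 <;> subst h1 h2 <;> simp_all
      · exact absurd (((Nat.prime_dvd_prime_iff_eq hr (by norm_num)).1 ((dvd_mul_right r s).trans h)).trans
          ((Nat.prime_dvd_prime_iff_eq hs (by norm_num)).1 ((dvd_mul_left s r).trans h)).symm) hrs
      · exact absurd (((Nat.prime_dvd_prime_iff_eq hr (by norm_num)).1 ((dvd_mul_right r s).trans h)).trans
          ((Nat.prime_dvd_prime_iff_eq hs (by norm_num)).1 ((dvd_mul_left s r).trans h)).symm) hrs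
    refine ⟨eG.symm (CfsgLib.KnownSimple.GTwoThree.elt CfsgLib.KnownSimple.GTwoThree.word6), ?_⟩
    rw [eG.symm.orderOf_eq, CfsgLib.KnownSimple.GTwoThree.orderOf_elt6, h6]

end Cfsg.Agent.S2518
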