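import Cfsg.Statements.S2519
import Cfsg.Agent.Lib.GTwoSpec.Witness

set_option autoImplicit false
open Cfsg CfsgLib.G2Spec

namespace Cfsg.Agent.S2519

theorem not_dvd_between {a b : ℕ} (h1 : a < b) (h2 : b < 2 * a) : ¬ a ∣ b := by
  rintro ⟨k, rfl⟩
  rcases Nat.lt_or_ge k 2 with hk | hk
  · interval_cases k <;> omega
  · have := Nat.mul_le_mul_left a hk
    omega

/-- The allowed numbers form an antichain. -/
theorem antichain {p n : ℕ} (hp : p.Prime) (hp2 : p ≠ 2) (hn : n ≠ 0) (h5 : 5 ≤ p ^ n) {x y : ℕ}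
    (hx : x ∈ allowed p (p ^ n)) (hy : y ∈ allowed p (p ^ n)) (hd : x ∣ y) : x = y := by
  obtain ⟨q, hq⟩ : ∃ q, q = p ^ n := ⟨_, rfl⟩
  rw [← hq] at hx hy h5
  have hpq : p ∣ q := hq ▸ dvd_pow_self p hn
  have hpp := hp.two_le
  have hsq : q ^ 2 = q * q := pow_two q
  have h5q : 5 * q ≤ q * q := Nat.mul_le_mul_right q h5
  have hpqq : p ∣ q * q := hpq.mul_right q
  have n1 : ¬ p ∣ q + 1 := fun h => hp.not_dvd_one ((Nat.dvd_add_right hpq).1 h)
  have n2 : ¬ p ∣ q - 1 := fun h => hp.not_dvd_one (by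
    have := Nat.dvd_sub hpq h; rwa [show q - (q - 1) = 1 by omega] at this)
  have n3 : ¬ p ∣ q ^ 2 - 1 := fun h => hp.not_dvd_one (by
    have := Nat.dvd_sub hpqq h; rwa [show q * q - (q ^ 2 - 1) = 1 by omega] at this)
  have n4 : ¬ p ∣ q ^ 2 + q + 1 := fun h => hp.not_dvd_one
    ((Nat.dvd_add_right (show p ∣ q ^ 2 + q from Nat.dvd_add (hsq ▸ hpqq) hpq)).1 h)
  have n5 : ¬ p ∣ q ^ 2 - q + 1 := fun h => hp.not_dvd_one
    ((Nat.dvd_add_right (show p ∣ q ^ 2 - q from Nat.dvd_sub (hsq ▸ hpqq) hpq)).1 h)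
  have cp : ∀ {m z : ℕ}, ¬ p ∣ m → m ∣ p * z → m ∣ z := fun hm h =>
    (hp.coprime_iff_not_dvd.2 hm).symm.dvd_of_dvd_mul_left h
  have hle : ∀ {m z : ℕ}, 0 < z → z < m → ¬ m ∣ z := fun h0 h h' => absurd (Nat.le_of_dvd h0 h') (by omega)
  have e1 : ∀ k, p ∣ p * k := fun k => dvd_mul_right p k
  have eB : q ^ 2 - 1 = (q - 1) * (q + 1) := by
    rw [← one_pow (M := ℕ) 2, Nat.sq_sub_sq, one_pow, mul_comm]
  have b1 : ¬ q ^ 2 - 1 ∣ q ^ 2 + q + 1 := not_dvd_between (by omega) (by omega)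
  have b2 : ¬ q ^ 2 - 1 ∣ q ^ 2 - q + 1 := hle (by omega) (by omega)
  have c1 : ¬ q ^ 2 + q + 1 ∣ q ^ 2 - 1 := hle (by omega) (by omega)
  have c2 : ¬ q ^ 2 + q + 1 ∣ q ^ 2 - q + 1 := hle (by omega) (by omega)
  have c3 : ¬ q ^ 2 - q + 1 ∣ q ^ 2 - 1 := not_dvd_between (by omega) (by omega)
  have c4 : ¬ q ^ 2 - q + 1 ∣ q ^ 2 + q + 1 := not_dvd_between (by omega) (by omega)
  have a1 : ¬ p * (q + 1) ∣ p * (q - 1) := fun h =>
    hle (by omega) (by omega) (Nat.dvd_of_mul_dvd_mul_left hp.pos h)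
  have a2 : ¬ p * (q - 1) ∣ p * (q + 1) := fun h => by
    have := Nat.dvd_sub (Nat.dvd_of_mul_dvd_mul_left hp.pos h) dvd_rfl
    rw [show q + 1 - (q - 1) = 2 by omega] at this
    exact hle (by norm_num) (by omega) this
  have big : ∀ {z : ℕ}, z = p * (q + 1) ∨ z = p * (q - 1) ∨ z = p ^ 2 →
      ∀ {m : ℕ}, m = q ^ 2 - 1 ∨ m = q ^ 2 + q + 1 ∨ m = q ^ 2 - q + 1 → ¬ m ∣ z ∧ ¬ z ∣ m := fun {z} hz {m} hm => by
    have hnm : ¬ p ∣ m := by rcases hm with rfl | rfl | rfl <;> assumption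
    refine ⟨fun h => ?_, fun h => hnm ((?_ : p ∣ z).trans h)⟩
    · rcases hz with rfl | rfl | rfl
      · have := Nat.le_of_dvd (by omega) (cp hnm h); omega
      · have := Nat.le_of_dvd (by omega) (cp hnm h); omega
      · rw [pow_two] at h
        have := Nat.le_of_dvd (by norm_num) (cp hnm (by rw [mul_one]; exact cp hnm h : m ∣ p * 1))
        omega
    · rcases hz with rfl | rfl | rfl
      exacts [e1 _, e1 _, dvd_pow_self p two_ne_zero]
  have d1 : ∀ {k : ℕ}, ¬ p ∣ k → ¬ p ^ 2 ∣ p * k := fun hk h => by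
    rw [pow_two] at h
    exact hk (Nat.dvd_of_mul_dvd_mul_left hp.pos h)
  have d2 : ∀ {k : ℕ}, 4 ≤ k → ¬ p ∣ k → ¬ p * k ∣ p ^ 2 := fun h4 hk h => by
    rw [pow_two] at h
    have := Nat.dvd_of_mul_dvd_mul_left hp.pos h
    rcases (Nat.dvd_prime hp).1 this with h' | h'
    · omega
    · exact hk (h' ▸ dvd_rfl)
  unfold allowed at hx hy
  rw [if_neg hp2] at hx hy
  have hx' : x = p * (q + 1) ∨ x = p * (q - 1) ∨ x = q ^ 2 - 1 ∨ x = q ^ 2 + q + 1 ∨ x = q ^ 2 - q + 1 ∨ x = p ^ 2 := by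
    rcases hx with (h | h | h | h | h) | h
    any_goals tauto
    split_ifs at h
    · exact Or.inr (Or.inr (Or.inr (Or.inr (Or.inr h))))
    · exact absurd h (Set.notMem_empty _)
  have hy' : y = p * (q + 1) ∨ y = p * (q - 1) ∨ y = q ^ 2 - 1 ∨ y = q ^ 2 + q + 1 ∨ y = q ^ 2 - q + 1 ∨ y = p ^ 2 := by
    rcases hy with (h | h | h | h | h) | h
    any_goals tauto
    split_ifs at h
    · exact Or.inr (Or.inr (Or.inr (Or.inr (Or.inr h))))
    · exact absurd h (Set.notMem_empty _)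
  rcases hx' with rfl | rfl | rfl | rfl | rfl | rfl <;> rcases hy' with rfl | rfl | rfl | rfl | rfl | rfl <;>
    first
      | rfl
      | exact absurd hd a1 | exact absurd hd a2 | exact absurd hd b1 | exact absurd hd b2
      | exact absurd hd c1 | exact absurd hd c2 | exact absurd hd c3 | exact absurd hd c4
      | exact absurd hd (d1 n1) | exact absurd hd (d1 n2)
      | exact absurd hd (d2 (by omega) n1) | exact absurd hd (d2 (by omega) n2)
      | exact absurd hd (big (by tauto) (by tauto)).1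
      | exact absurd hd (big (by tauto) (by tauto)).2

/-- Let F be a finite field of odd order q = p^a ≥ 5. The element orders of the Chevalley group G₂(F) that are maximal under divisibility are exactly p(q + 1), p(q − 1), q² − 1, q² + q + 1, q² − q + 1, together with p² when p is 3 or 5. -/
theorem result {F : Type*} [Field F] [Fintype F] (p a : ℕ) (hp : p.Prime) (hp2 : p ≠ 2) (ha : 1 ≤ a) (hF : Fintype.card F = p ^ a) (hq5 : 5 ≤ Fintype.card F) :
    {n : ℕ | n ∈ Set.range (orderOf : ↥(Cfsg.Lie.chevG2.group F) → ℕ) ∧ ∀ m ∈ Set.range (orderOf : ↥(Cfsg.Lie.chevG2.group F) → ℕ), n ∣ m → m = n} =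
      ({p * (p ^ a + 1), p * (p ^ a - 1), p ^ (2 * a) - 1, p ^ (2 * a) + p ^ a + 1, p ^ (2 * a) - p ^ a + 1} : Set ℕ) ∪
        (if p = 3 ∨ p = 5 then ({p ^ 2} : Set ℕ) else ∅) := by
  have : Fact p.Prime := ⟨hp⟩
  have : CharP F p := charP_of_card_eq_prime_pow (f := a) hF
  have hset : allowed p (Fintype.card F) = ({p * (p ^ a + 1), p * (p ^ a - 1), p ^ (2 * a) - 1,
      p ^ (2 * a) + p ^ a + 1, p ^ (2 * a) - p ^ a + 1} : Set ℕ) ∪
        (if p = 3 ∨ p = 5 then ({p ^ 2} : Set ℕ) else ∅) := by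
    rw [allowed, if_neg hp2, hF, ← pow_mul, mul_comm a 2]
  have h3 : 3 ≤ Fintype.card F := by omega
  rw [← hset]
  refine Set.Subset.antisymm (maximal_subset hF (by omega) h3) fun x hx => ⟨allowed_subset h3 hx, ?_⟩
  rintro m ⟨g, rfl⟩ hdvd
  obtain ⟨N, hN, hmN⟩ := exists_allowed hF (by omega) g
  have e : x = N := antichain hp hp2 (by omega) (by omega) (hF ▸ hx) (hF ▸ hN) (hdvd.trans hmN)
  exact Nat.dvd_antisymm (e ▸ hmN) hdvd

end Cfsg.Agent.S2519
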