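import Cfsg.Statements.S2521
-- import your own Cfsg.Agent.* helpers here

set_option autoImplicit false
open Cfsg

namespace Cfsg.Agent.S2521

/-- Let B be a finite group that is the semidirect product of a nilpotent normal subgroup U by an abelian subgroup T (U ∩ T = 1, UT = B), and let t ∈ T have centralizer exactly T. Then every element of the coset tU is conjugate to t in B: for each u ∈ U there is b ∈ B with b t b⁻¹ = t u. -/
theorem result {B : Type*} [Group B] [Finite B] (U T : Subgroup B) [U.Normal] (hU : Group.IsNilpotent ↥U) (hT : IsMulCommutative ↥T)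
    (hcompl : Subgroup.IsComplement' U T) (t : B) (ht : t ∈ T) (hreg : Subgroup.centralizer ({t} : Set B) = T) (u : B) (hu : u ∈ U) :
    ∃ b : B, b * t * b⁻¹ = t * u := by
  set f : ↥U → ↥U := fun v => ⟨t⁻¹ * (v : B) * t * (v : B)⁻¹, by
    have h := Subgroup.Normal.conj_mem (inferInstance : U.Normal) (v : B) v.2 t⁻¹
    rw [inv_inv] at h
    exact U.mul_mem h (U.inv_mem v.2)⟩ with hf
  have inj : Function.Injective f := by
    rintro ⟨a, ha⟩ ⟨c, hc⟩ h
    have h' : t⁻¹ * a * t * a⁻¹ = t⁻¹ * c * t * c⁻¹ := Subtype.ext_iff.1 h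
    have hcomm : c⁻¹ * a * t = t * (c⁻¹ * a) := by
      have h1 : a * t * a⁻¹ = c * t * c⁻¹ := by
        simpa [mul_assoc] using congrArg (t * ·) h'
      calc c⁻¹ * a * t = c⁻¹ * (a * t * a⁻¹) * a := by group
        _ = c⁻¹ * (c * t * c⁻¹) * a := by rw [h1]
        _ = t * (c⁻¹ * a) := by group
    have hmemT : c⁻¹ * a ∈ T := by
      rw [← hreg, Subgroup.mem_centralizer_iff]
      rintro x rfl
      exact hcomm.symm
    have : c⁻¹ * a = 1 :=
      Subgroup.disjoint_def.1 hcompl.disjoint (U.mul_mem (U.inv_mem hc) ha) hmemT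
    exact Subtype.ext (inv_mul_eq_one.1 this).symm
  obtain ⟨v, hv⟩ := (Finite.injective_iff_surjective.1 inj) ⟨u, hu⟩
  refine ⟨v, ?_⟩
  have := Subtype.ext_iff.1 hv
  simp only [hf] at this
  rw [← this]
  group

end Cfsg.Agent.S2521
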