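import Cfsg.Statements.S2522
import Cfsg.Agent.Lib.TwoJordan.Step

set_option autoImplicit false
open Cfsg

namespace Cfsg.Agent.S2522

open Module CfsgLib.TwoJordan in
theorem conj_of_regular {K : Type*} [Field K] {n : ℕ} (B : End K (Fin (n + 1) → K))
    (h0 : (B - 1) ^ (n + 1) = 0) (h1 : (B - 1) ^ n ≠ 0) (J : Matrix (Fin (n + 1)) (Fin (n + 1)) K)
    (hJ : ∀ i j, J i j = if i = j then 1 else if j.val = i.val + 1 then 1 else 0) :
    ∃ x : GL (Fin (n + 1)) K, LinearMap.toMatrix' B =
      (x : Matrix (Fin (n + 1)) (Fin (n + 1)) K) * J * ((x⁻¹ : GL (Fin (n + 1)) K) : Matrix (Fin (n + 1)) (Fin (n + 1)) K) := by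
  set N := B - 1 with hN
  obtain ⟨z, hz⟩ : ∃ z, (N ^ n) z ≠ 0 := by
    by_contra h
    push Not at h
    exact h1 (LinearMap.ext h)
  let w : Fin (n + 1) → (Fin (n + 1) → K) := fun i => (N ^ (n - i.val)) z
  have hli : LinearIndependent K w := by
    rw [Fintype.linearIndependent_iff]
    intro g hg
    have key : ∀ d : ℕ, ∀ i : Fin (n + 1), n - i.val = d → g i = 0 := by
      intro d
      induction d using Nat.strongRecOn with
      | ind d ihd =>
        intro i hi
        have h2 := congrArg (N ^ i.val) hg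
        rw [map_sum, map_zero, Finset.sum_eq_single i ?_ (fun h => absurd (Finset.mem_univ i) h)] at h2
        · rw [map_smul, ← Module.End.mul_apply, ← pow_add, Nat.add_sub_cancel' (by omega)] at h2
          exact (smul_eq_zero.1 h2).resolve_right hz
        · intro j _ hji
          rcases lt_or_gt_of_ne (fun e => hji (Fin.ext e) : j.val ≠ i.val) with hlt | hgt
          · rw [map_smul, ← Module.End.mul_apply, ← pow_add,
              show i.val + (n - j.val) = (n + 1) + (i.val + (n - j.val) - (n + 1)) by omega, pow_add, h0,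
              zero_mul, LinearMap.zero_apply, smul_zero]
          · rw [ihd (n - j.val) (by omega) j rfl, zero_smul, map_zero]
    exact fun i => key _ i rfl
  let b := basisOfLinearIndependentOfCardEqFinrank hli (by simp)
  have hb : ∀ i, b i = (N ^ (n - i.val)) z := fun i => by simp [b, w]
  have hBb : LinearMap.toMatrix b b B = J := by
    ext i j
    rw [LinearMap.toMatrix_apply, hJ]
    have hB : B (b j) = b j + N (b j) := by rw [hN]; simp
    by_cases hj : j.val = 0
    · have : N (b j) = 0 := by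
        rw [hb, ← Module.End.mul_apply, ← pow_succ', hj, Nat.sub_zero, h0]
        rfl
      rw [hB, this, add_zero, Basis.repr_self, Finsupp.single_apply]
      have e : ¬ j.val = i.val + 1 := by omega
      simp [e, eq_comm]
    · have : N (b j) = b ⟨j.val - 1, by omega⟩ := by
        rw [hb, hb, ← Module.End.mul_apply, ← pow_succ']
        congr 2
        show n - j.val + 1 = n - (j.val - 1)
        omega
      rw [hB, this, map_add, Basis.repr_self, Basis.repr_self, Finsupp.add_apply, Finsupp.single_apply,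
        Finsupp.single_apply]
      simp only [Fin.ext_iff]
      split_ifs <;> first | omega | simp
  let std := Pi.basisFun K (Fin (n + 1))
  refine ⟨⟨std.toMatrix b, b.toMatrix std, std.toMatrix_mul_toMatrix_flip b,
    b.toMatrix_mul_toMatrix_flip std⟩, ?_⟩
  show _ = std.toMatrix b * J * b.toMatrix std
  rw [← hBb, basis_toMatrix_mul_linearMap_toMatrix_mul_basis_toMatrix, ← LinearMap.toMatrix_eq_toMatrix']

/-- Let K be a field with at least four elements (finite or infinite), n ≥ 3, and J ∈ GL(n, K) the regular unipotent matrix (ones on the diagonal and the superdiagonal, zeros elsewhere). Then every non-scalar g ∈ GL(n, K) with det g = 1 is a product of two GL(n, K)-conjugates of J. -/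
theorem result {K : Type*} [Field K] (hK : 4 ≤ Cardinal.mk K) (n : ℕ) (hn : 3 ≤ n) (J g : GL (Fin n) K)
    (hJ : ∀ i j : Fin n, (J : Matrix (Fin n) (Fin n) K) i j = if i = j then 1 else if j.val = i.val + 1 then 1 else 0)
    (hg : ¬ ∃ c : K, (g : Matrix (Fin n) (Fin n) K) = c • (1 : Matrix (Fin n) (Fin n) K))
    (hdet : (g : Matrix (Fin n) (Fin n) K).det = 1) :
    ∃ x y : GL (Fin n) K, g = (x * J * x⁻¹) * (y * J * y⁻¹) := by
  open Module CfsgLib.TwoJordan in
  obtain ⟨m, rfl⟩ : ∃ m, n = m + 1 := ⟨n - 1, by omega⟩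
  set A : End K (Fin (m + 1) → K) := Matrix.toLin' (g : Matrix (Fin (m + 1)) (Fin (m + 1)) K) with hA
  have hV : finrank K (Fin (m + 1) → K) = m + 1 := by simp
  have hdetA : LinearMap.det A = 1 := by rw [hA, LinearMap.det_toLin', hdet]
  obtain ⟨B, C, hBC, hB0, hC0, hB, hC⟩ : ∃ B C : End K (Fin (m + 1) → K), A = B * C ∧
      (B - 1) ^ (m + 1) = 0 ∧ (C - 1) ^ (m + 1) = 0 ∧ (B - 1) ^ m ≠ 0 ∧ (C - 1) ^ m ≠ 0 := by
    by_cases hu : IsNilpotent (A - 1)
    · exact unip_split hK m hV A hu
    have hns : ∀ s : K, A ≠ s • 1 := fun s h => hg ⟨s, by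
      have h2 := congrArg LinearMap.toMatrix' h
      rw [hA, LinearMap.toMatrix'_toLin', map_smul] at h2
      simpa [Module.End.one_eq_id] using h2⟩
    obtain ⟨B, C, h1, h2, h3, h4, w, h5⟩ := split_of_good hK m hV A hdetA (Or.inr ⟨hu, hns⟩)
      (Pi.single 0 1) (by simp) (LinearMap.proj 0) (fun h => by
        simpa using LinearMap.congr_fun h (Pi.single 0 1))
    exact ⟨B, C, h1, h2, h3, fun h => h4 (by rw [h, zero_smul]), fun h => h5 (by rw [h, zero_smul, map_zero])⟩
  obtain ⟨x, hx⟩ := conj_of_regular B hB0 hB _ hJ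
  obtain ⟨y, hy⟩ := conj_of_regular C hC0 hC _ hJ
  refine ⟨x, y, Units.ext ?_⟩
  have h2 := congrArg LinearMap.toMatrix' hBC
  rw [hA, LinearMap.toMatrix'_toLin', LinearMap.toMatrix'_mul, hx, hy] at h2
  simpa using h2

end Cfsg.Agent.S2522
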