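import Cfsg.Statements.S2531
-- import your own Cfsg.Agent.* helpers here

set_option autoImplicit false
open Cfsg

namespace Cfsg.Agent.S2531

/-- The affine chart `v 0 = 1` of projective space. -/
theorem chart_bijective {F : Type*} [Field F] {n : ℕ} (i : Fin n) :
    Function.Bijective (fun v : {v : Fin n → F // v i = 1} =>
      (⟨Projectivization.mk F v.1 (fun h => one_ne_zero (α := F) (by rw [← v.2, h]; rfl)), by
        obtain ⟨a, ha⟩ := Projectivization.exists_smul_eq_mk_rep F v.1
          (fun h => one_ne_zero (α := F) (by rw [← v.2, h]; rfl))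
        rw [← ha, Pi.smul_apply, v.2]
        exact Units.ne_zero a ∘ (by simp [Units.smul_def])⟩ :
        {x : Projectivization F (Fin n → F) // x.rep i ≠ 0})) := by
  constructor
  · rintro ⟨v, hv⟩ ⟨w, hw⟩ h
    obtain ⟨a, ha⟩ := (Projectivization.mk_eq_mk_iff F _ _ _ _).1 (Subtype.ext_iff.1 h)
    have h1 := congrFun ha i
    simp only [Pi.smul_apply] at h1
    rw [hv, hw] at h1
    have ha1 : (a : F) = 1 := by simpa [Units.smul_def] using h1
    apply Subtype.ext
    rw [← ha, Units.smul_def, ha1, one_smul]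
  · rintro ⟨x, hx⟩
    refine ⟨⟨(x.rep i)⁻¹ • x.rep, by simp [hx]⟩, Subtype.ext ?_⟩
    exact ((Projectivization.mk_eq_mk_iff' F _ _ _ x.rep_nonzero).2 ⟨_, rfl⟩).trans x.mk_rep

theorem rep_zero_iff {F : Type*} [Field F] {n : ℕ} (i : Fin n) {v : Fin n → F} (hv : v ≠ 0) :
    (Projectivization.mk F v hv).rep i = 0 ↔ v i = 0 := by
  obtain ⟨a, ha⟩ := Projectivization.exists_smul_eq_mk_rep F v hv
  rw [← ha, Pi.smul_apply, Units.smul_def, smul_eq_mul, mul_eq_zero]
  simp

theorem dvd_card_addKer {A B : Type*} [AddCommGroup A] [Finite A] [AddCommGroup B] [Finite B]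
    {p k : ℕ} (hp : p.Prime) (hA : Nat.card A = p ^ k) (hlt : Nat.card B < Nat.card A)
    (θ : A →+ B) : p ∣ Nat.card θ.ker := by
  obtain ⟨j, -, hj⟩ := (Nat.dvd_prime_pow hp).1 (hA ▸ AddSubgroup.card_addSubgroup_dvd_card θ.ker)
  rcases j with _ | j
  · exfalso
    rw [pow_zero] at hj
    have hinj : Function.Injective θ := by
      rw [← θ.ker_eq_bot_iff, ← AddSubgroup.card_eq_one, hj]
    exact absurd (Nat.card_le_card_of_injective _ hinj) (not_le.2 hlt)
  · rw [hj, pow_succ]
    exact dvd_mul_left _ _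

theorem dvd_card_fibre {A B : Type*} [AddCommGroup A] [Finite A] [AddCommGroup B] [Finite B]
    {p k : ℕ} (hp : p.Prime) (hA : Nat.card A = p ^ k) (hlt : Nat.card B < Nat.card A)
    (θ : A →+ B) (b : B) : p ∣ Nat.card {a : A // θ a = b} := by
  by_cases h : ∃ a, θ a = b
  · obtain ⟨a₀, rfl⟩ := h
    have e : θ.ker ≃ {a : A // θ a = θ a₀} :=
      { toFun := fun x => ⟨x.1 + a₀, by rw [map_add, (AddMonoidHom.mem_ker).1 x.2, zero_add]⟩
        invFun := fun a => ⟨a.1 - a₀, by rw [AddMonoidHom.mem_ker, map_sub, a.2, sub_self]⟩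
        left_inv := fun x => by simp
        right_inv := fun x => by simp }
    rw [← Nat.card_congr e]
    exact dvd_card_addKer hp hA hlt θ
  · haveI : IsEmpty {a : A // θ a = b} := ⟨fun a => h ⟨a.1, a.2⟩⟩
    simp

/-- Let `F` be a finite field and `n ≥ 3`. No set of permutations of the points of the projective space of `Fⁿ`, each induced by an invertible semilinear transformation of `Fⁿ` (so a subset of the full projective semilinear group), is sharply 2-transitive on the points: it is impossible that for all pairs of distinct points `(a, b)` and `(c, d)` exactly one member of the set sends `a` to `c` and `b` to `d`. -/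
theorem result {F : Type*} [Field F] [Finite F]
    (n : ℕ) (hn : 3 ≤ n) (S : Set (Equiv.Perm (Projectivization F (Fin n → F))))
    (hS : ∀ s ∈ S, ∃ (σ : F ≃+* F) (f : (Fin n → F) →ₛₗ[(σ : F →+* F)] (Fin n → F)) (hf : Function.Injective f),
      ∀ x, s x = Projectivization.map f hf x) :
    ¬ (∀ a b c d : Projectivization F (Fin n → F), a ≠ b → c ≠ d →
        ∃! s, s ∈ S ∧ s a = c ∧ s b = d) := by
  classical
  intro hsharp
  haveI : NeZero n := ⟨by omega⟩
  haveI := Fintype.ofFinite F
  obtain ⟨p, hpchar⟩ := CharP.exists F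
  haveI := hpchar
  obtain ⟨e, hp, hcard⟩ := FiniteField.card F p
  haveI : Fact p.Prime := ⟨hp⟩
  have hq : Nat.card F = p ^ (e : ℕ) := by rw [Nat.card_eq_fintype_card, hcard]
  have hV : Nat.card (Fin n → F) = p ^ ((e : ℕ) * n) := by
    rw [Nat.card_fun, Nat.card_fin, hq, ← pow_mul]
  have hq1 : 1 < Nat.card F := Finite.one_lt_card
  let Pt := Projectivization F (Fin n → F)
  haveI : Fintype Pt := Fintype.ofFinite _
  let P₀ : Pt := Projectivization.mk F (Pi.single 0 1) (by
    intro h; simpa using congrFun h 0)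
  have hP₀ : P₀.rep 0 ≠ 0 := by
    rw [Ne, rep_zero_iff]; simp
  let X : Finset Pt := Finset.univ.filter (fun x => x.rep 0 = 0)
  let Z : Finset Pt := Finset.univ.filter (fun x => x.rep 0 ≠ 0)
  have hZ : p ∣ Z.card := by
    have : Z.card = Nat.card {v : Fin n → F // v 0 = 1} := by
      rw [Nat.card_congr (Equiv.ofBijective _ (chart_bijective (0 : Fin n))),
        Nat.card_eq_fintype_card, Fintype.card_subtype]
    rw [this]
    refine dvd_card_fibre hp hV ?_ (Pi.evalAddMonoidHom (fun _ : Fin n => F) 0) 1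
    rw [Nat.card_fun, Nat.card_fin]
    calc Nat.card F = Nat.card F ^ 1 := (pow_one _).symm
      _ < Nat.card F ^ n := Nat.pow_lt_pow_right hq1 (by omega)
  have hX : (X.card : ZMod p) = 1 := by
    have htot : X.card + Z.card = Nat.card Pt := by
      rw [Finset.card_filter_add_card_filter_not, Nat.card_eq_fintype_card, Finset.card_univ]
    have h2 : Nat.card (Fin n → F) = Nat.card Pt * (Nat.card F - 1) + 1 :=
      Projectivization.card' F (Fin n → F)
    have h3 := congrArg (Nat.cast (R := ZMod p)) h2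
    rw [hV, hq, Nat.cast_add, Nat.cast_mul, Nat.cast_pow,
      Nat.cast_sub (Nat.one_le_pow _ _ hp.pos), Nat.cast_pow, ZMod.natCast_self,
      zero_pow (by positivity), zero_pow (PNat.ne_zero e), ← htot, Nat.cast_add,
      (ZMod.natCast_eq_zero_iff _ _).2 hZ] at h3
    push_cast at h3
    linear_combination h3
  let B : Finset (Pt × Pt) := X.image (fun b => (P₀, b))
  let C : Finset (Pt × Pt) := (Z.erase P₀).image (fun b => (P₀, b))
  have hB : ∀ b ∈ B, b.1 ≠ b.2 := by
    intro b hb
    obtain ⟨x, hx, rfl⟩ := Finset.mem_image.1 hb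
    intro h
    simp only at h
    exact hP₀ (h ▸ (Finset.mem_filter.1 hx).2)
  have hC : ∀ c ∈ C, c.1 ≠ c.2 := by
    intro c hc
    obtain ⟨x, hx, rfl⟩ := Finset.mem_image.1 hc
    exact (Finset.mem_erase.1 hx).1.symm
  haveI : Fintype S := Fintype.ofFinite _
  have hcount : ∀ b ∈ B, ∀ c ∈ C,
      (Finset.univ.filter (fun s : S => ((s.1 b.1, s.1 b.2) : Pt × Pt) = c)).card = 1 := by
    intro b hb c hc
    obtain ⟨s, ⟨hsS, h1, h2⟩, huniq⟩ := hsharp b.1 b.2 c.1 c.2 (hB b hb) (hC c hc)
    rw [Finset.card_eq_one]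
    refine ⟨⟨s, hsS⟩, ?_⟩
    ext t
    simp only [Finset.mem_filter, Finset.mem_univ, true_and, Finset.mem_singleton]
    constructor
    · intro ht
      exact Subtype.ext (huniq t.1 ⟨t.2, congrArg Prod.fst ht, congrArg Prod.snd ht⟩)
    · rintro rfl; exact Prod.ext h1 h2
  have htot : ∑ s : S, (B.filter (fun b => ((s.1 b.1, s.1 b.2) : Pt × Pt) ∈ C)).card
      = B.card * C.card := by
    calc _ = ∑ s : S, ∑ b ∈ B, ∑ c ∈ C, (if ((s.1 b.1, s.1 b.2) : Pt × Pt) = c then 1 else 0) := by
          refine Finset.sum_congr rfl fun s _ => ?_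
          rw [Finset.card_filter]
          exact Finset.sum_congr rfl fun b _ => by rw [Finset.sum_ite_eq]
      _ = ∑ b ∈ B, ∑ c ∈ C, (Finset.univ.filter (fun s : S => ((s.1 b.1, s.1 b.2) : Pt × Pt) = c)).card := by
          rw [Finset.sum_comm]
          refine Finset.sum_congr rfl fun b _ => ?_
          rw [Finset.sum_comm]
          exact Finset.sum_congr rfl fun c _ => (Finset.card_filter _ _).symm
      _ = ∑ b ∈ B, ∑ c ∈ C, 1 :=
          Finset.sum_congr rfl fun b hb => Finset.sum_congr rfl fun c hc => hcount b hb c hc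
      _ = B.card * C.card := by simp
  have hzero : ∀ s : S, p ∣ (B.filter (fun b => ((s.1 b.1, s.1 b.2) : Pt × Pt) ∈ C)).card := by
    intro s
    obtain ⟨σ, f, hf, hsf⟩ := hS s.1 s.2
    have hBf : (B.filter (fun b => ((s.1 b.1, s.1 b.2) : Pt × Pt) ∈ C)).card =
        (X.filter (fun x => ((s.1 P₀, s.1 x) : Pt × Pt) ∈ C)).card := by
      rw [Finset.filter_image, Finset.card_image_of_injective _ (fun a b h => (Prod.ext_iff.1 h).2)]
    rw [hBf]
    by_cases hP : s.1 P₀ = P₀
    · have hmem : X.filter (fun x => ((s.1 P₀, s.1 x) : Pt × Pt) ∈ C) =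
          X.filter (fun x => (s.1 x).rep 0 ≠ 0) := by
        apply Finset.filter_congr
        intro x hx
        constructor
        · intro h
          obtain ⟨y, hy, hy'⟩ := Finset.mem_image.1 h
          have hy2 : y = s.1 x := (Prod.ext_iff.1 hy').2
          rw [← hy2]
          exact (Finset.mem_filter.1 (Finset.mem_erase.1 hy).2).2
        · intro h
          refine Finset.mem_image.2 ⟨s.1 x, Finset.mem_erase.2 ⟨?_, by simp [Z, h]⟩, by rw [hP]⟩
          intro h'
          have hxP : x = P₀ := s.1.injective (h'.trans hP.symm)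
          exact hP₀ (hxP ▸ (Finset.mem_filter.1 hx).2)
      rw [hmem]
      have hfbij : Function.Bijective f := Finite.injective_iff_bijective.1 hf
      let fe : (Fin n → F) ≃+ (Fin n → F) := AddEquiv.ofBijective f.toAddMonoidHom hfbij
      let θ : (Fin n → F) →+ F × F :=
        ((Pi.evalAddMonoidHom (fun _ : Fin n => F) 0).comp fe.symm.toAddMonoidHom).prod
          (Pi.evalAddMonoidHom (fun _ : Fin n => F) 0)
      have hlt : Nat.card (F × F) < Nat.card (Fin n → F) := by
        rw [Nat.card_prod, Nat.card_fun, Nat.card_fin, ← pow_two]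
        exact Nat.pow_lt_pow_right hq1 (by omega)
      have hdvd := dvd_card_fibre hp hV hlt θ (0, 1)
      have hsymm : ∀ (v : Fin n → F) (hv : v ≠ 0), (s.1.symm (Projectivization.mk F v hv)).rep 0 = 0
          ↔ fe.symm v 0 = 0 := by
        intro v hv
        have hw : fe.symm v ≠ 0 := fun h => hv (by simpa using congrArg fe h)
        have : s.1.symm (Projectivization.mk F v hv) = Projectivization.mk F (fe.symm v) hw := by
          rw [Equiv.symm_apply_eq, hsf, Projectivization.map_mk]
          congr 1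
          exact (fe.apply_symm_apply v).symm
        rw [this, rep_zero_iff]
      suffices h : (X.filter (fun x => (s.1 x).rep 0 ≠ 0)).card =
          Nat.card {v : Fin n → F // θ v = (0, 1)} by rw [h]; exact hdvd
      rw [← Fintype.card_coe, ← Nat.card_eq_fintype_card]
      symm
      refine Nat.card_congr ?_
      calc {v : Fin n → F // θ v = (0, 1)}
          ≃ {v : {v : Fin n → F // v 0 = 1} // fe.symm v.1 0 = 0} :=
            { toFun := fun v => ⟨⟨v.1, (Prod.ext_iff.1 v.2).2⟩, (Prod.ext_iff.1 v.2).1⟩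
              invFun := fun v => ⟨v.1.1, Prod.ext v.2 v.1.2⟩
              left_inv := fun v => rfl
              right_inv := fun v => rfl }
        _ ≃ {y : {y : Pt // y.rep 0 ≠ 0} // (s.1.symm y.1).rep 0 = 0} :=
            Equiv.subtypeEquiv (Equiv.ofBijective _ (chart_bijective (0 : Fin n)))
              (fun v => (hsymm _ _).symm)
        _ ≃ {x // x ∈ X.filter (fun x => (s.1 x).rep 0 ≠ 0)} :=
            { toFun := fun y => ⟨s.1.symm y.1.1, by simpa [X] using And.intro y.2 y.1.2⟩
              invFun := fun x => ⟨⟨s.1 x.1, (Finset.mem_filter.1 x.2).2⟩, by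
                have h := (Finset.mem_filter.1 x.2).1
                simpa [X] using h⟩
              left_inv := fun y => Subtype.ext (Subtype.ext (s.1.apply_symm_apply y.1.1))
              right_inv := fun x => Subtype.ext (s.1.symm_apply_apply x.1) }
    · have : X.filter (fun x => ((s.1 P₀, s.1 x) : Pt × Pt) ∈ C) = ∅ := by
        rw [Finset.filter_eq_empty_iff]
        intro x _ h
        obtain ⟨y, -, hy'⟩ := Finset.mem_image.1 h
        exact hP (Prod.ext_iff.1 hy').1.symm
      simp [this]
  have hdvd : p ∣ B.card * C.card := htot ▸ Finset.dvd_sum (fun s _ => hzero s)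
  have hP₀Z : P₀ ∈ Z := by simp [Z, hP₀]
  have hBc : B.card = X.card := Finset.card_image_of_injective _ (fun a b h => (Prod.ext_iff.1 h).2)
  have hCc : C.card = Z.card - 1 := by
    rw [Finset.card_image_of_injective _ (fun a b h => (Prod.ext_iff.1 h).2),
      Finset.card_erase_of_mem hP₀Z]
  rw [← ZMod.natCast_eq_zero_iff, hBc, hCc, Nat.cast_mul,
    Nat.cast_sub (Finset.card_pos.2 ⟨P₀, hP₀Z⟩), hX, (ZMod.natCast_eq_zero_iff _ _).2 hZ] at hdvd
  simp at hdvd

end Cfsg.Agent.S2531
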