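import Cfsg.Statements.S2532
-- import your own Cfsg.Agent.* helpers here

set_option autoImplicit false
open Cfsg

namespace Cfsg.Agent.S2532

open MulAction in
/-- Enough orbits give `r` orbits of the same type. -/
theorem exists_similar_orbits {H α : Type*} [Group H] [Finite H] [Finite α] [MulAction H α] (r : ℕ)
    (h : Nat.card H * (2 ^ Nat.card H * r) + 1 ≤ Nat.card α) :
    ∃ (S : Subgroup H) (x : Fin r → α), (∀ i, stabilizer H (x i) = S) ∧
      ∀ i j (g : H), g • x i = x j → i = j := by
  classical
  haveI := Fintype.ofFinite H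
  haveI := Fintype.ofFinite α
  let O := Quotient (orbitRel H α)
  haveI : Fintype O := Fintype.ofFinite _
  let rep : O → α := Quotient.out
  have hsurj : Function.Surjective (fun p : H × O => p.1 • rep p.2) := by
    intro a
    have := Quotient.mk_out (s := orbitRel H α) a
    obtain ⟨g, hg⟩ := (orbitRel_apply.1 this)
    exact ⟨(g⁻¹, Quotient.mk _ a), by simpa [rep] using (inv_smul_eq_iff.2 hg.symm)⟩
  have hO : 2 ^ Nat.card H * r < Nat.card O := by
    have := Nat.card_le_card_of_surjective _ hsurj
    rw [Nat.card_prod] at this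
    by_contra hlt
    have := Nat.mul_le_mul_left (Nat.card H) (not_lt.1 hlt)
    omega
  let T : O → Set H := fun o => (stabilizer H (rep o) : Set H)
  obtain ⟨S₀, -, hS₀⟩ : ∃ S₀ ∈ (Finset.univ : Finset (Set H)),
      r < (Finset.univ.filter (fun o => T o = S₀)).card := by
    apply Finset.exists_lt_card_fiber_of_mul_lt_card_of_maps_to (fun o _ => Finset.mem_univ _)
    rw [Finset.card_univ, Finset.card_univ, Fintype.card_set, ← Nat.card_eq_fintype_card,
      ← Nat.card_eq_fintype_card]
    exact hO
  obtain ⟨o₀, ho₀⟩ := Finset.card_pos.1 (lt_of_le_of_lt (Nat.zero_le r) hS₀)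
  let F : Fin r → O := fun i =>
    ((Finset.univ.filter (fun o => T o = S₀)).equivFin.symm ⟨i.1, lt_trans i.2 hS₀⟩).1
  have hF : ∀ i, T (F i) = S₀ := fun i =>
    (Finset.mem_filter.1 ((Finset.univ.filter (fun o => T o = S₀)).equivFin.symm
      ⟨i.1, lt_trans i.2 hS₀⟩).2).2
  have hinj : Function.Injective F := by
    intro i j hij
    have := (Finset.univ.filter (fun o => T o = S₀)).equivFin.symm.injective (Subtype.ext hij)
    exact Fin.ext (by simpa using this)
  refine ⟨stabilizer H (rep o₀), fun i => rep (F i), fun i => ?_, fun i j g hg => hinj ?_⟩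
  · exact SetLike.coe_injective ((hF i).trans (Finset.mem_filter.1 ho₀).2.symm)
  · have he : (Quotient.mk (orbitRel H α) (rep (F j))) = Quotient.mk (orbitRel H α) (rep (F i)) :=
      Quotient.sound (orbitRel_apply.2 ⟨g, hg⟩)
    simpa [rep] using he.symm

open MulAction in
theorem exists_commuting_hom {H α : Type*} [Group H] [MulAction H α] {r : ℕ} (S : Subgroup H)
    (x : Fin r → α) (hS : ∀ i, stabilizer H (x i) = S) (hx : ∀ i j (g : H), g • x i = x j → i = j) :
    ∃ Θ : Equiv.Perm (Fin r) →* Equiv.Perm α, Function.Injective Θ ∧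
      ∀ π (h : H) a, Θ π (h • a) = h • Θ π a := by
  classical
  let ι : (H ⧸ S) × Fin r → α := fun p => Quotient.liftOn' p.1 (fun h => h • x p.2) (by
    intro a b hab
    rw [QuotientGroup.leftRel_apply, ← hS p.2, mem_stabilizer_iff, mul_smul, inv_smul_eq_iff] at hab
    exact hab.symm)
  have hι : ∀ (h : H) i, ι (QuotientGroup.mk h, i) = h • x i := fun h i => rfl
  have hinj : Function.Injective ι := by
    rintro ⟨q, i⟩ ⟨q', j⟩ he
    induction q using QuotientGroup.induction_on with | _ a => ?_
    induction q' using QuotientGroup.induction_on with | _ b => ?_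
    rw [hι, hι] at he
    have hij : i = j := hx i j (b⁻¹ * a) (by rw [mul_smul, he, inv_smul_smul])
    subst hij
    refine Prod.ext ?_ rfl
    rw [QuotientGroup.eq, ← hS i, mem_stabilizer_iff, mul_smul, ← he, inv_smul_smul]
  let P : Equiv.Perm (Fin r) →* Equiv.Perm ((H ⧸ S) × Fin r) :=
    { toFun := fun π => Equiv.prodCongr (Equiv.refl _) π
      map_one' := rfl
      map_mul' := fun _ _ => rfl }
  let e : ((H ⧸ S) × Fin r) ↪ α := ⟨ι, hinj⟩
  refine ⟨(Equiv.Perm.viaEmbeddingHom e).comp P, ?_, ?_⟩
  · apply (Equiv.Perm.viaEmbeddingHom_injective e).comp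
    intro π π' hp
    ext i
    have := congrArg (fun σ : Equiv.Perm ((H ⧸ S) × Fin r) => (σ (QuotientGroup.mk 1, i)).2) hp
    exact congrArg Fin.val this
  · intro π h a
    show (P π).viaEmbedding e (h • a) = h • (P π).viaEmbedding e a
    by_cases ha : a ∈ Set.range e
    · obtain ⟨⟨q, i⟩, rfl⟩ := ha
      induction q using QuotientGroup.induction_on with | _ b => ?_
      have h1 : h • e (QuotientGroup.mk b, i) = e (QuotientGroup.mk (h * b), i) := by
        show h • b • x i = (h * b) • x i
        rw [mul_smul]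
      rw [h1, Equiv.Perm.viaEmbedding_apply, Equiv.Perm.viaEmbedding_apply]
      show (h * b) • x (π i) = h • b • x (π i)
      rw [mul_smul]
    · have ha' : h • a ∉ Set.range e := by
        rintro ⟨⟨q, i⟩, hq⟩
        induction q using QuotientGroup.induction_on with | _ b => ?_
        exact ha ⟨(QuotientGroup.mk (h⁻¹ * b), i), by
          show (h⁻¹ * b) • x i = a
          rw [mul_smul, inv_smul_eq_iff]; exact hq⟩
      rw [Equiv.Perm.viaEmbedding_apply_of_notMem _ _ _ ha,
        Equiv.Perm.viaEmbedding_apply_of_notMem _ _ _ ha']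

/-- There is a function `f` of two natural-number arguments such that, whenever `m ≥ f(n, r)`, every subgroup of order `n` of the alternating group of degree `m` centralizes some subgroup of that alternating group isomorphic to the alternating group of degree `r`. -/
theorem result :
    ∃ f : ℕ → ℕ → ℕ, ∀ (m r : ℕ) (H : Subgroup ↥(alternatingGroup (Fin m))), f (Nat.card H) r ≤ m →
      ∃ K : Subgroup ↥(alternatingGroup (Fin m)), Nonempty (↥K ≃* ↥(alternatingGroup (Fin r))) ∧
        K ≤ Subgroup.centralizer (H : Set ↥(alternatingGroup (Fin m))) := by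
  refine ⟨fun n r => n * (2 ^ n * r) + 1, fun m r H hm => ?_⟩
  obtain ⟨S, x, hS, hx⟩ := exists_similar_orbits (H := ↥H) (α := Fin m) r (by simpa using hm)
  obtain ⟨Θ, hΘ, hcomm⟩ := exists_commuting_hom S x hS hx
  have halt : ∀ π ∈ alternatingGroup (Fin r), Θ π ∈ alternatingGroup (Fin m) := by
    intro π hπ
    rw [← Equiv.Perm.closure_three_cycles_eq_alternating] at hπ
    have hle : Subgroup.closure {σ : Equiv.Perm (Fin r) | σ.IsThreeCycle} ≤
        (alternatingGroup (Fin m)).comap Θ := by
      rw [Subgroup.closure_le]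
      intro σ hσ
      rw [SetLike.mem_coe, Subgroup.mem_comap, Equiv.Perm.mem_alternatingGroup]
      have h3 : (Equiv.Perm.sign (Θ σ)) ^ 3 = 1 := by
        rw [← map_pow, ← map_pow, ← hσ.orderOf, pow_orderOf_eq_one, map_one, map_one]
      rcases Int.units_eq_one_or (Equiv.Perm.sign (Θ σ)) with h | h
      · exact h
      · rw [h] at h3; exact absurd h3 (by decide)
    exact hle hπ
  let φ : ↥(alternatingGroup (Fin r)) →* ↥(alternatingGroup (Fin m)) :=
    (Θ.comp (alternatingGroup (Fin r)).subtype).codRestrict _ (fun π => halt π.1 π.2)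
  have hφ : Function.Injective φ := fun a b hab => Subtype.ext (hΘ (Subtype.ext_iff.1 hab))
  refine ⟨φ.range, ⟨(MonoidHom.ofInjective hφ).symm⟩, ?_⟩
  rintro _ ⟨π, rfl⟩
  rw [Subgroup.mem_centralizer_iff]
  intro h hh
  apply Subtype.ext
  apply Equiv.ext
  intro a
  exact (hcomm π.1 ⟨h, hh⟩ a).symm

end Cfsg.Agent.S2532
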