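import Cfsg.Statements.S2533
-- import your own Cfsg.Agent.* helpers here

set_option autoImplicit false
open Cfsg

namespace Cfsg.Agent.S2533

open Matrix

variable (p : ℕ) [Fact p.Prime]

/-- The elementary abelian group of order `p ^ 3`. -/
abbrev E := Fin 3 → ZMod p

/-- `±1` acting on `E`. -/
def nu : ℤˣ →* MulAut (Multiplicative (E p)) :=
  (MulAutMultiplicative (E p)).symm.toMonoidHom.comp (DistribMulAction.toAddAut ℤˣ (E p))

/-- The group of order `2 p ^ 3`. -/
abbrev Hgrp := Multiplicative (E p) ⋊[nu p] ℤˣ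

/-- Superdiagonal shift. -/
def shiftMat (m : ℕ) : Matrix (Fin m) (Fin m) (ZMod p) :=
  Matrix.of fun i j => if i.val + 1 = j.val then 1 else 0

variable {p}

/-- The lower left block. -/
def blockN (m : ℕ) (e : E p) : Matrix (Fin m) (Fin m) (ZMod p) :=
  e 0 • 1 + e 1 • shiftMat p m + e 2 • (shiftMat p m)ᵀ

theorem blockN_add (m : ℕ) (e e' : E p) : blockN m (e + e') = blockN m e + blockN m e' := by
  simp only [blockN, Pi.add_apply, add_smul]; abel

theorem blockN_units (m : ℕ) (u : ℤˣ) (e : E p) :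
    blockN m (u • e) = ((u : ℤ) : ZMod p) • blockN m e := by
  simp only [blockN, Pi.smul_apply, Units.smul_def, zsmul_eq_mul, smul_add, smul_smul]

theorem blockN_eq_zero {m : ℕ} (hm : 2 ≤ m) {e : E p} (h : blockN m e = 0) : e = 0 := by
  have h00 := congrFun (congrFun h ⟨0, by omega⟩) ⟨0, by omega⟩
  have h01 := congrFun (congrFun h ⟨0, by omega⟩) ⟨1, by omega⟩
  have h10 := congrFun (congrFun h ⟨1, by omega⟩) ⟨0, by omega⟩
  simp [blockN, shiftMat, Matrix.one_apply, Fin.ext_iff] at h00 h01 h10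
  funext i
  fin_cases i <;> assumption

theorem scalar_of_commute {m : ℕ} (hm : 0 < m) (a : Matrix (Fin m) (Fin m) (ZMod p))
    (h1 : a * shiftMat p m = shiftMat p m * a) (h2 : a * (shiftMat p m)ᵀ = (shiftMat p m)ᵀ * a) :
    a = a ⟨0, hm⟩ ⟨0, hm⟩ • 1 := by
  have L : ∀ i j : Fin m, (a * shiftMat p m) i j =
      if h : 0 < j.val then a i ⟨j.val - 1, by omega⟩ else 0 := by
    intro i j
    simp only [Matrix.mul_apply, shiftMat, Matrix.of_apply, mul_ite, mul_one, mul_zero]
    split_ifs with h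
    · rw [Finset.sum_eq_single (⟨j.val - 1, by omega⟩ : Fin m)]
      · rw [if_pos (by simp only; omega)]
      · intro k _ hk
        rw [if_neg (fun h' => hk (Fin.ext (by simp only; omega)))]
      · simp
    · exact Finset.sum_eq_zero fun k _ => if_neg (by omega)
  have R : ∀ i j : Fin m, (shiftMat p m * a) i j =
      if h : i.val + 1 < m then a ⟨i.val + 1, h⟩ j else 0 := by
    intro i j
    simp only [Matrix.mul_apply, shiftMat, Matrix.of_apply, ite_mul, one_mul, zero_mul]
    split_ifs with h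
    · rw [Finset.sum_eq_single (⟨i.val + 1, h⟩ : Fin m)]
      · simp
      · intro k _ hk
        rw [if_neg (fun h' => hk (Fin.ext h'.symm))]
      · simp
    · exact Finset.sum_eq_zero fun k _ => if_neg (by omega)
  have shift : ∀ i j : ℕ, ∀ (hi : i + 1 < m) (hj : j + 1 < m),
      a ⟨i + 1, hi⟩ ⟨j + 1, hj⟩ = a ⟨i, by omega⟩ ⟨j, by omega⟩ := by
    intro i j hi hj
    have h := congrFun (congrFun h1 ⟨i, by omega⟩) ⟨j + 1, hj⟩
    rw [L, R, dif_pos (by simp), dif_pos hi] at h
    simpa using h.symm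
  have low : ∀ i : ℕ, ∀ hi : i + 1 < m, a ⟨i + 1, hi⟩ ⟨0, hm⟩ = 0 := by
    intro i hi
    have h := congrFun (congrFun h1 ⟨i, by omega⟩) ⟨0, hm⟩
    rw [L, R, dif_neg (by simp), dif_pos hi] at h
    exact h.symm
  have high : ∀ j : ℕ, ∀ hj : j + 1 < m, a ⟨0, hm⟩ ⟨j + 1, hj⟩ = 0 := by
    intro j hj
    have h := congrFun (congrFun h2 ⟨0, hm⟩) ⟨j, by omega⟩
    simp only [Matrix.mul_apply, Matrix.transpose_apply, shiftMat, Matrix.of_apply, mul_ite,
      mul_one, mul_zero, ite_mul, one_mul, zero_mul] at h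
    rw [Finset.sum_eq_single (⟨j + 1, hj⟩ : Fin m), Finset.sum_eq_zero] at h
    · simpa using h
    · intro k _
      rw [if_neg (by simp)]
    · intro k _ hk
      rw [if_neg (fun h' => hk (Fin.ext (by simpa using h'.symm)))]
    · simp
  have key : ∀ i j : ℕ, ∀ (hi : i < m) (hj : j < m),
      a ⟨i, hi⟩ ⟨j, hj⟩ = if i = j then a ⟨0, hm⟩ ⟨0, hm⟩ else 0 := by
    intro i
    induction i with
    | zero =>
      intro j hi hj
      rcases j with _ | j
      · simp
      · rw [high j hj, if_neg (by omega)]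
    | succ i ih =>
      intro j hi hj
      rcases j with _ | j
      · rw [low i hi, if_neg (by omega)]
      · rw [shift i j hi hj, ih j (by omega) (by omega)]
        simp
  ext ⟨i, hi⟩ ⟨j, hj⟩
  rw [key i j hi hj]
  simp [Matrix.one_apply, Fin.ext_iff]

/-- The translations. -/
def unip (m : ℕ) : Multiplicative (E p) →* Matrix.SpecialLinearGroup (Fin m ⊕ Fin m) (ZMod p) where
  toFun e := ⟨fromBlocks 1 0 (blockN m e.toAdd) 1, by simp [det_fromBlocks_zero₁₂]⟩
  map_one' := by
    apply Subtype.ext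
    show fromBlocks 1 0 (blockN m (0 : E p)) 1 = 1
    simp [blockN]
  map_mul' e e' := by
    apply Subtype.ext
    show fromBlocks 1 0 (blockN m (e.toAdd + e'.toAdd)) 1 =
      fromBlocks 1 0 (blockN m e.toAdd) 1 * fromBlocks 1 0 (blockN m e'.toAdd) 1
    simp [fromBlocks_multiply, blockN_add]

/-- The sign. -/
def sgnMat {m : ℕ} (hm : Even m) : ℤˣ →* Matrix.SpecialLinearGroup (Fin m ⊕ Fin m) (ZMod p) where
  toFun u := ⟨fromBlocks 1 0 0 (((u : ℤ) : ZMod p) • 1), by
    rw [det_fromBlocks_zero₁₂, det_one, one_mul, det_smul, det_one, mul_one, Fintype.card_fin]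
    obtain ⟨k, rfl⟩ := hm
    rcases Int.units_eq_one_or u with rfl | rfl <;> simp [← two_mul, pow_mul]⟩
  map_one' := Subtype.ext (by simp)
  map_mul' u v := by
    apply Subtype.ext
    show fromBlocks 1 0 0 ((((u * v : ℤˣ) : ℤ) : ZMod p) • 1) =
      fromBlocks 1 0 0 (((u : ℤ) : ZMod p) • 1) * fromBlocks 1 0 0 (((v : ℤ) : ZMod p) • 1)
    simp [fromBlocks_multiply, smul_smul, mul_comm]

/-- The representation. -/
def repH {m : ℕ} (hm : Even m) : Hgrp p →* Matrix.SpecialLinearGroup (Fin m ⊕ Fin m) (ZMod p) :=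
  SemidirectProduct.lift (unip m) (sgnMat hm) fun u => by
    apply MonoidHom.ext
    intro e
    have hu : (sgnMat (p := p) hm u)⁻¹ = sgnMat hm u := by
      rw [← map_inv]; congr 1; exact Int.units_inv_eq_self u
    apply Subtype.ext
    show fromBlocks 1 0 (blockN m (u • e.toAdd)) 1 =
      ((sgnMat hm u * unip m e * (sgnMat hm u)⁻¹ : Matrix.SpecialLinearGroup (Fin m ⊕ Fin m) (ZMod p)) : Matrix (Fin m ⊕ Fin m) (Fin m ⊕ Fin m) (ZMod p))
    rw [hu, Matrix.SpecialLinearGroup.coe_mul, Matrix.SpecialLinearGroup.coe_mul]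
    show _ = fromBlocks 1 0 0 (((u : ℤ) : ZMod p) • 1) * fromBlocks 1 0 (blockN m e.toAdd) 1 *
      fromBlocks 1 0 0 (((u : ℤ) : ZMod p) • 1)
    rcases Int.units_eq_one_or u with rfl | rfl <;>
      simp [fromBlocks_multiply, blockN_units]
    simpa using blockN_units m (-1) e.toAdd

theorem repH_coe {m : ℕ} (hm : Even m) (x : Hgrp p) :
    ((repH hm x : Matrix.SpecialLinearGroup _ _) : Matrix (Fin m ⊕ Fin m) (Fin m ⊕ Fin m) (ZMod p)) =
      fromBlocks 1 0 (blockN m x.left.toAdd) (((x.right : ℤ) : ZMod p) • 1) := by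
  show fromBlocks 1 0 (blockN m x.left.toAdd) 1 * fromBlocks 1 0 0 (((x.right : ℤ) : ZMod p) • 1) = _
  simp [fromBlocks_multiply]

theorem center_scalar {ι : Type} [Fintype ι] [DecidableEq ι] {A : Matrix.SpecialLinearGroup ι (ZMod p)}
    (h : A ∈ Subgroup.center _) : ∃ r : ZMod p, (A : Matrix ι ι (ZMod p)) = r • 1 := by
  obtain ⟨r, -, hr⟩ := Matrix.SpecialLinearGroup.mem_center_iff.1 h
  exact ⟨r, by rw [← hr, Matrix.scalar_apply, Matrix.smul_one_eq_diagonal]⟩

theorem blocks_smul_one {m : ℕ} (r : ZMod p) :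
    r • (1 : Matrix (Fin m ⊕ Fin m) (Fin m ⊕ Fin m) (ZMod p)) =
      fromBlocks (r • 1) 0 0 (r • 1) := by
  rw [← fromBlocks_one, fromBlocks_smul, smul_zero]

theorem smul_one_inj {m : ℕ} (hm : 0 < m) {r s : ZMod p}
    (h : r • (1 : Matrix (Fin m) (Fin m) (ZMod p)) = s • 1) : r = s := by
  simpa using congrFun (congrFun h ⟨0, hm⟩) ⟨0, hm⟩

theorem core (hp : p ≠ 2) {m : ℕ} (hm : Even m) (hm2 : 2 ≤ m) :
    ∃ φ : Hgrp p →* ProjectiveSpecialLinearGroup (Fin m ⊕ Fin m) (ZMod p),
      Function.Injective φ ∧ Subgroup.centralizer (φ.range : Set (Matrix.ProjectiveSpecialLinearGroup (Fin m ⊕ Fin m) (ZMod p))) = ⊥ := by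
  have h2 : (2 : ZMod p) ≠ 0 := by
    rw [show (2 : ZMod p) = ((2 : ℕ) : ZMod p) by norm_num, Ne, ZMod.natCast_eq_zero_iff]
    exact fun h => hp ((Nat.prime_dvd_prime_iff_eq Fact.out Nat.prime_two).1 h)
  have hm0 : 0 < m := by omega
  refine ⟨(QuotientGroup.mk' _).comp (repH hm), ?_, ?_⟩
  · rw [injective_iff_map_eq_one]
    intro x hx
    obtain ⟨r, hr⟩ := center_scalar ((QuotientGroup.eq_one_iff _).1 hx)
    rw [repH_coe, blocks_smul_one, fromBlocks_inj] at hr
    obtain ⟨h11, -, h21, h22⟩ := hr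
    have hr1 : r = 1 := smul_one_inj hm0 (by rw [← h11, one_smul])
    have hu : ((x.right : ℤ) : ZMod p) = 1 := (smul_one_inj hm0 h22).trans hr1
    have hright : x.right = 1 := by
      rcases Int.units_eq_one_or x.right with h | h
      · exact h
      · rw [h] at hu
        exfalso
        apply h2
        push_cast at hu
        linear_combination -hu
    exact SemidirectProduct.ext (Multiplicative.toAdd.injective (by simpa using blockN_eq_zero hm2 h21))
      hright
  · rw [eq_bot_iff]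
    intro y hy
    obtain ⟨g, rfl⟩ := QuotientGroup.mk_surjective y
    rw [Subgroup.mem_bot, QuotientGroup.eq_one_iff]
    have key : ∀ x : Hgrp p, ∃ k : ZMod p,
        (g : Matrix (Fin m ⊕ Fin m) (Fin m ⊕ Fin m) (ZMod p)) * (repH hm x : Matrix.SpecialLinearGroup _ _).1 =
          k • ((repH hm x : Matrix.SpecialLinearGroup _ _).1 * (g : Matrix (Fin m ⊕ Fin m) (Fin m ⊕ Fin m) (ZMod p))) := by
      intro x
      have hcomm := Subgroup.mem_centralizer_iff.1 hy _ ⟨x, rfl⟩
      have hmem : (repH hm x * g)⁻¹ * (g * repH hm x) ∈ Subgroup.center _ := QuotientGroup.eq.1 hcomm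
      obtain ⟨k, hk⟩ := center_scalar hmem
      refine ⟨k, ?_⟩
      have h : g * repH hm x = (repH hm x * g) * ((repH hm x * g)⁻¹ * (g * repH hm x)) := by group
      have h' := congrArg (fun A : Matrix.SpecialLinearGroup _ _ => (A : Matrix (Fin m ⊕ Fin m) (Fin m ⊕ Fin m) (ZMod p))) h
      simp only [Matrix.SpecialLinearGroup.coe_mul] at h' hk
      rw [hk, Matrix.mul_smul, Matrix.mul_one] at h'
      exact h'
    set a := (g : Matrix (Fin m ⊕ Fin m) (Fin m ⊕ Fin m) (ZMod p)).toBlocks₁₁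
    set b := (g : Matrix (Fin m ⊕ Fin m) (Fin m ⊕ Fin m) (ZMod p)).toBlocks₁₂
    set c := (g : Matrix (Fin m ⊕ Fin m) (Fin m ⊕ Fin m) (ZMod p)).toBlocks₂₁
    set d := (g : Matrix (Fin m ⊕ Fin m) (Fin m ⊕ Fin m) (ZMod p)).toBlocks₂₂
    have hg : (g : Matrix (Fin m ⊕ Fin m) (Fin m ⊕ Fin m) (ZMod p)) = fromBlocks a b c d := (fromBlocks_toBlocks _).symm
    have hanz : a ≠ 0 ∨ b ≠ 0 := by
      by_contra h
      push Not at h
      have hdet := g.2
      rw [show g.1 = fromBlocks a b c d from hg, h.1, h.2, det_fromBlocks_zero₁₂,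
        @det_zero _ _ _ _ _ ⟨⟨0, hm0⟩⟩, zero_mul] at hdet
      exact zero_ne_one hdet
    have key1 : ∀ e : E p, ∃ k : ZMod p, a + b * blockN m e = k • a ∧ b = k • b ∧
        c + d * blockN m e = k • (blockN m e * a + c) ∧ d = k • (blockN m e * b + d) := by
      intro e
      obtain ⟨k, hk⟩ := key ⟨Multiplicative.ofAdd e, 1⟩
      refine ⟨k, ?_⟩
      rw [repH_coe, hg] at hk
      simpa [fromBlocks_multiply, fromBlocks_smul, fromBlocks_inj] using hk
    obtain ⟨k, hk1, hk2, -, -⟩ := key1 (Pi.single 0 1)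
    have hN1 : blockN m (Pi.single 0 1 : E p) = 1 := by simp [blockN]
    rw [hN1, mul_one] at hk1
    have hb : b = 0 := by
      by_cases hk : k = 1
      · rw [hk, one_smul] at hk1; simpa using hk1
      · have : (1 - k) • b = 0 := by rw [sub_smul, one_smul, ← hk2, sub_self]
        exact (smul_eq_zero.1 this).resolve_left (sub_ne_zero.2 (Ne.symm hk))
    have ha : a ≠ 0 := by rcases hanz with h | h <;> [exact h; exact absurd hb h]
    have hcommN : ∀ e : E p, d * blockN m e = blockN m e * a := by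
      intro e
      obtain ⟨k, h1, -, h3, -⟩ := key1 e
      rw [hb, zero_mul, add_zero] at h1
      have : (1 - k) • a = 0 := by rw [sub_smul, one_smul, ← h1, sub_self]
      rw [show k = 1 from (sub_eq_zero.1 ((smul_eq_zero.1 this).resolve_right ha)).symm, one_smul,
        add_comm (blockN m e * a)] at h3
      exact add_left_cancel h3
    have hda : d = a := by simpa [hN1] using hcommN (Pi.single 0 1)
    have hscal : a = a ⟨0, hm0⟩ ⟨0, hm0⟩ • 1 := by
      apply scalar_of_commute hm0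
      · simpa [blockN, hda] using hcommN (Pi.single 1 1)
      · simpa [blockN, hda] using hcommN (Pi.single 2 1)
    have hc : c = 0 := by
      obtain ⟨k, hk⟩ := key ⟨1, -1⟩
      rw [repH_coe, hg, hb, hda] at hk
      simp [fromBlocks_multiply, fromBlocks_smul, fromBlocks_inj, blockN] at hk
      obtain ⟨h1, h3, -⟩ := hk
      have : (1 - k) • a = 0 := by rw [sub_smul, one_smul, ← h1, sub_self]
      rw [show k = 1 from (sub_eq_zero.1 ((smul_eq_zero.1 this).resolve_right ha)).symm] at h3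
      have : (2 : ZMod p) • c = 0 := by
        rw [two_smul]
        nth_rewrite 1 [h3]
        simp
      exact (smul_eq_zero.1 this).resolve_left h2
    have hg' : (g : Matrix (Fin m ⊕ Fin m) (Fin m ⊕ Fin m) (ZMod p)) = a ⟨0, hm0⟩ ⟨0, hm0⟩ • 1 := by
      rw [hg, hb, hc, hda, blocks_smul_one, ← hscal]
    rw [Matrix.SpecialLinearGroup.mem_center_iff]
    refine ⟨a ⟨0, hm0⟩ ⟨0, hm0⟩, ?_, ?_⟩
    · have hdet := g.2
      rwa [show g.1 = _ from hg', det_smul, det_one, mul_one] at hdet
    · rw [hg', Matrix.scalar_apply, Matrix.smul_one_eq_diagonal]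

theorem centerMap {G K : Type*} [Group G] [Group K] (e : G ≃* K) :
    (Subgroup.center G).map e.toMonoidHom = Subgroup.center K := by
  ext x
  rw [Subgroup.mem_map_equiv, Subgroup.mem_center_iff, Subgroup.mem_center_iff]
  constructor
  · intro h y
    apply e.symm.injective
    rw [map_mul, map_mul]
    exact h (e.symm y)
  · intro h y
    have := congrArg e.symm (h (e y))
    simpa using this

/-- Reindexing `SL`. -/
def slReindex {ι κ : Type} [Fintype ι] [DecidableEq ι] [Fintype κ] [DecidableEq κ] (e : ι ≃ κ) :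
    Matrix.SpecialLinearGroup ι (ZMod p) ≃* Matrix.SpecialLinearGroup κ (ZMod p) where
  toFun A := ⟨reindex e e A.1, by rw [det_reindex_self]; exact A.2⟩
  invFun A := ⟨reindex e.symm e.symm A.1, by rw [det_reindex_self]; exact A.2⟩
  left_inv A := Subtype.ext (by simp)
  right_inv A := Subtype.ext (by simp)
  map_mul' A B := Subtype.ext (submatrix_mul_equiv (A : Matrix ι ι (ZMod p)) (B : Matrix ι ι (ZMod p)) _ e.symm _).symm


/-- For every odd prime `p` there is a finite group `H` of order `2p³` which, for infinitely many `n`, embeds in the projective special linear group `PSL(n, p)` as a subgroup with trivial centralizer. -/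
theorem result
    (p : ℕ) [Fact p.Prime] (hp : p ≠ 2) :
    ∃ (H : Type) (_ : Group H) (_ : Finite H), Nat.card H = 2 * p ^ 3 ∧
      ∀ N : ℕ, ∃ n, N ≤ n ∧ ∃ φ : H →* Matrix.ProjectiveSpecialLinearGroup (Fin n) (ZMod p),
        Function.Injective φ ∧ Subgroup.centralizer (φ.range : Set (Matrix.ProjectiveSpecialLinearGroup (Fin n) (ZMod p))) = ⊥ := by
  refine ⟨Hgrp p, inferInstance, Finite.of_equiv _ SemidirectProduct.equivProd.symm, ?_, fun N => ?_⟩
  · rw [SemidirectProduct.card, Nat.card_eq_fintype_card, Nat.card_eq_fintype_card,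
      Fintype.card_multiplicative, Fintype.card_fun, ZMod.card, Fintype.card_fin,
      Fintype.card_units_int]
    ring
  · obtain ⟨φ, hinj, hcen⟩ := core (p := p) hp (m := 2 * (N + 1)) ⟨N + 1, by ring⟩ (by omega)
    let e : Matrix.ProjectiveSpecialLinearGroup (Fin (2 * (N + 1)) ⊕ Fin (2 * (N + 1))) (ZMod p) ≃*
        Matrix.ProjectiveSpecialLinearGroup (Fin (4 * (N + 1))) (ZMod p) :=
      QuotientGroup.congr _ _ (slReindex (finSumFinEquiv.trans (finCongr (by ring))))
        (centerMap _)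
    refine ⟨4 * (N + 1), by omega, e.toMonoidHom.comp φ, e.injective.comp hinj, ?_⟩
    rw [eq_bot_iff]
    intro y hy
    have : e.symm y ∈ Subgroup.centralizer (φ.range : Set (Matrix.ProjectiveSpecialLinearGroup (Fin (2 * (N + 1)) ⊕ Fin (2 * (N + 1))) (ZMod p))) := by
      rw [Subgroup.mem_centralizer_iff]
      rintro _ ⟨x, rfl⟩
      apply e.injective
      rw [map_mul, map_mul, e.apply_symm_apply]
      exact Subgroup.mem_centralizer_iff.1 hy _ ⟨x, rfl⟩
    rw [hcen, Subgroup.mem_bot] at this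
    rw [Subgroup.mem_bot]
    simpa using congrArg e this

end Cfsg.Agent.S2533
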