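import Cfsg.Statements.S2534
import Cfsg.Agent.Lib.HallSym.Apply

set_option autoImplicit false
set_option synthInstance.maxSize 4000
open Cfsg

namespace Cfsg.Agent.S2534

open CfsgLib.HallSym Equiv Equiv.Perm

/-- An involution moving six points. -/
def iota (n : ℕ) : Perm (Fin (n + 7)) := swap 0 1 * swap 2 3 * swap 4 5

/-- Three even permutations commuting with `iota`. -/
def gen (n : ℕ) : Fin 3 → Perm (Fin (n + 7)) :=
  ![swap 0 1 * swap 2 3, swap 2 3 * swap 4 5, (swap 0 2 * swap 2 4) * (swap 1 3 * swap 3 5)]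

theorem gen_comm : ∀ n < 2, ∀ i : Fin 3, ∀ y, gen n i (iota n y) = iota n (gen n i y) := by
  decide +kernel

theorem gen_breaks : ∀ n < 2, ∀ s ∈ (Finset.univ : Finset (Fin (n + 7))).powersetCard 4, ∃ i : Fin 3,
    ¬ (∀ y, gen n i y ∈ s ↔ y ∈ s) ∧ (n = 0 ∨ ¬ ∀ y, gen n i y ∈ s ↔ y ∉ s) := by
  decide +kernel

theorem iota_type : ∀ n < 2, (iota n).cycleType = {2, 2, 2} := by
  intro n hn
  have hd : ∀ a b c d : Fin (n + 7), a ≠ c → a ≠ d → b ≠ c → b ≠ d →
      Perm.Disjoint (swap a b) (swap c d) := fun a b c d h1 h2 h3 h4 y => by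
    by_cases h5 : y = a ∨ y = b
    · exact Or.inr (swap_apply_of_ne_of_ne (by rintro rfl; rcases h5 with h5 | h5 <;> simp_all) (by rintro rfl; rcases h5 with h5 | h5 <;> simp_all))
    · exact Or.inl (swap_apply_of_ne_of_ne (fun e => h5 (Or.inl e)) (fun e => h5 (Or.inr e)))
  have d1 : Perm.Disjoint (swap (0 : Fin (n + 7)) 1) (swap 2 3) := by
    apply hd <;> interval_cases n <;> decide
  have d2 : Perm.Disjoint (swap (0 : Fin (n + 7)) 1 * swap 2 3) (swap 4 5) := by
    refine Perm.Disjoint.mul_left ?_ ?_ <;> apply hd <;> interval_cases n <;> decide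
  have ne : (0 : Fin (n + 7)) ≠ 1 ∧ (2 : Fin (n + 7)) ≠ 3 ∧ (4 : Fin (n + 7)) ≠ 5 := by
    interval_cases n <;> decide
  have ht : ∀ x y : Fin (n + 7), x ≠ y → (swap x y).cycleType = {2} := fun x y hxy => by
    rw [(isCycle_swap hxy).cycleType, card_support_swap hxy]
  rw [iota, d2.cycleType_mul, d1.cycleType_mul, ht _ _ ne.1, ht _ _ ne.2.1, ht _ _ ne.2.2]
  rfl

theorem gen_mem (n : ℕ) (hn : n < 2) (i : Fin 3) :
    gen n i ∈ alternatingGroup (Fin (n + 7)) ⊓ Subgroup.centralizer {iota n} := by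
  refine ⟨mem_alternatingGroup.2 ?_,
    Subgroup.mem_centralizer_singleton_iff.2 (Equiv.ext fun y => gen_comm n hn i y)⟩
  interval_cases n <;> fin_cases i <;> simp [gen]

/-- A `π`-subgroup lying in no standard Hall subgroup. -/
theorem exists_bad {n : ℕ} {π : Set ℕ} (hT : T π n) {a : ℕ} {pr : Bool} (hstd : Std π n a pr) :
    ∃ V : Subgroup (Perm (Fin n)), V ≤ alternatingGroup (Fin n) ∧
      (∀ p : ℕ, p.Prime → p ∣ Nat.card V → p ∈ π) ∧
      ∀ R : Finset (Fin n), R.card = a → ¬ V ≤ stdK pr R := by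
  have h5 := hT.five_le
  rcases hstd with ⟨hn, hiff, ha, rfl⟩ | ⟨rfl, hiff, ha, rfl⟩ | ⟨rfl, hiff, ha, rfl⟩
  · obtain ⟨S, -, hS⟩ := Finset.exists_subset_card_eq (s := (Finset.univ : Finset (Fin n))) (n := 2)
      (by simp; omega)
    refine ⟨alternatingGroup (Fin n) ⊓ stdK false S, inf_le_left, fun p hp hd => ?_, fun R hR hle => ?_⟩
    · have h1 := hd.trans (Subgroup.card_dvd_of_le inf_le_right)
      rw [card_stdK_false, hS, Fintype.card_fin] at h1
      have : p ≤ n - 2 := by
        rcases hp.dvd_mul.1 h1 with h2 | h2 <;> have := hp.dvd_factorial.1 h2 <;> omega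
      exact (hiff p hp (by omega)).2 (by omega)
    · obtain ⟨z, hz⟩ : Rᶜ.Nonempty := Finset.card_pos.1 (by rw [Finset.card_compl, hR, Fintype.card_fin]; omega)
      have hfix : ∀ g : Perm (Fin n), g ∈ alternatingGroup (Fin n) → g ∈ stdK false S → g z = z := by
        intro g hgA hgS
        have h1 := mem_stdK_false.1 (hle ⟨hgA, hgS⟩)
        have h2 : g z ∈ Rᶜ := by
          rw [Finset.mem_compl, h1]; exact Finset.mem_compl.1 hz
        exact Finset.card_le_one.1 (by rw [Finset.card_compl, hR, Fintype.card_fin]; omega) _ h2 _ hz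
      have hsw : ∀ x y : Fin n, (x ∈ S ↔ y ∈ S) → swap x y ∈ stdK false S := by
        intro x y hxy
        rw [mem_stdK_false]
        intro w
        rw [swap_apply_def]
        split_ifs <;> simp_all
      by_cases hzS : z ∈ S
      · obtain ⟨w, hw⟩ : (S.erase z).Nonempty := Finset.card_pos.1 (by rw [Finset.card_erase_of_mem hzS]; omega)
        obtain ⟨c, hc, d, hd, hcd⟩ : ∃ c ∈ Sᶜ, ∃ d ∈ Sᶜ, c ≠ d :=
          Finset.one_lt_card.1 (by rw [Finset.card_compl, hS, Fintype.card_fin]; omega)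
        simp only [Finset.mem_compl] at hc hd
        obtain ⟨hwz, hwS⟩ := Finset.mem_erase.1 hw
        have := hfix (swap z w * swap c d)
          (mem_alternatingGroup.2 (by rw [map_mul, sign_swap (Ne.symm hwz), sign_swap hcd]; rfl))
          ((stdK false S).mul_mem (hsw _ _ (by simp [hzS, hwS])) (hsw _ _ (by simp [hc, hd])))
        rw [Perm.mul_apply, swap_apply_of_ne_of_ne (fun e : z = c => hc (e ▸ hzS))
          (fun e : z = d => hd (e ▸ hzS)), swap_apply_left] at this
        exact hwz this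
      · obtain ⟨w, hw, w', hw', hne⟩ : ∃ w ∈ Sᶜ.erase z, ∃ w' ∈ Sᶜ.erase z, w ≠ w' :=
          Finset.one_lt_card.1 (by
            rw [Finset.card_erase_of_mem (Finset.mem_compl.2 hzS), Finset.card_compl, hS, Fintype.card_fin]
            omega)
        simp only [Finset.mem_erase, Finset.mem_compl] at hw hw'
        have := hfix (swap z w * swap w w')
          (mem_alternatingGroup.2 (by rw [map_mul, sign_swap (Ne.symm hw.1), sign_swap hne]; rfl))
          ((stdK false S).mul_mem (hsw _ _ (by simp [hzS, hw.2])) (hsw _ _ (by simp [hw.2, hw'.2])))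
        rw [Perm.mul_apply, swap_apply_of_ne_of_ne (Ne.symm hw.1) (Ne.symm hw'.1), swap_apply_left] at this
        exact hw.1 this
  all_goals
    refine ⟨alternatingGroup _ ⊓ Subgroup.centralizer ({iota _} : Set (Perm _)), inf_le_left,
      fun p hp hd => ?_, fun R hR hle => ?_⟩
    · have h1 := hd.trans (Subgroup.card_dvd_of_le inf_le_right)
      rw [nat_card_centralizer, iota_type _ (by norm_num)] at h1
      have h2 : p ∣ 2 ^ 5 * 3 := h1.trans (by decide)
      rcases hp.dvd_mul.1 h2 with h | h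
      · obtain rfl := (Nat.prime_dvd_prime_iff_eq hp Nat.prime_two).1 (hp.dvd_of_dvd_pow h)
        exact (hiff 2 hp (by norm_num)).2 (Or.inl rfl)
      · obtain rfl := (Nat.prime_dvd_prime_iff_eq hp Nat.prime_three).1 h
        exact (hiff 3 hp (by norm_num)).2 (Or.inr rfl)
    · obtain ⟨i, h1, h2⟩ := gen_breaks _ (by norm_num) R
        (Finset.mem_powersetCard.2 ⟨Finset.subset_univ _, hR.trans ha⟩)
      rcases hle (gen_mem _ (by norm_num) i) with h3 | ⟨hpr, h3⟩
      · exact h1 h3
      · simp_all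

/-- For `n ≥ 5` and a set of primes `π`, the alternating group of degree `n` satisfies the full Sylow analogue for `π` (its maximal `π`-subgroups are pairwise conjugate; for a finite group this says Hall `π`-subgroups exist, are all conjugate, and contain every `π`-subgroup up to conjugacy) if and only if either at most one prime of `π` divides its order or every prime dividing its order lies in `π`. -/
theorem result (n : ℕ) (hn : 5 ≤ n) (π : Set ℕ) :
    Cfsg.IsDPiGroup π ↥(alternatingGroup (Fin n)) ↔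
      ((∀ r s : ℕ, r.Prime → s.Prime → r ∈ π → s ∈ π → r ∣ Nat.card ↥(alternatingGroup (Fin n)) → s ∣ Nat.card ↥(alternatingGroup (Fin n)) → r = s) ∨
        ∀ r : ℕ, r.Prime → r ∣ Nat.card ↥(alternatingGroup (Fin n)) → r ∈ π) := by
  constructor
  · intro hD
    by_contra hc
    have hT : T π n := by_contra fun hT => hc (triv_of_not_T hT _)
    have hA : Par (alternatingGroup (Fin n)) := Or.inr rfl
    obtain ⟨a, pr, hstd⟩ := (exists_hall_sub_iff hT hA).1 (cpi_of_dpi hD).1
    obtain ⟨V, hVA, hVπ, hV⟩ := exists_bad hT hstd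
    obtain ⟨M, hle, hM⟩ := exists_maximal (π := π) (K := V.subgroupOf (alternatingGroup (Fin n)))
      (fun p hp hd => hVπ p hp (by
        rwa [Nat.card_congr (Subgroup.subgroupOfEquivOfLe hVA).toEquiv] at hd))
    obtain ⟨a', pr', R, hstd', hR, e⟩ :=
      (hall_iff hT hA).1 (isPiHall_iff_map.1 (hall_of_dpi hD hM))
    obtain ⟨rfl, rfl⟩ := std_unique hT hstd hstd'
    refine hV R hR fun g hg => ?_
    have hmem : g ∈ Subgroup.map (alternatingGroup (Fin n)).subtype M :=
      ⟨⟨g, hVA hg⟩, hle hg, rfl⟩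
    rw [e] at hmem
    exact hmem.2
  · exact dpi_of_triv

end Cfsg.Agent.S2534
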