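import Cfsg.Statements.S2535
import Cfsg.Agent.Lib.HallSym.Apply

set_option autoImplicit false
open Cfsg

namespace Cfsg.Agent.S2535

open CfsgLib.HallSym Equiv Equiv.Perm

/-- For every `n` and every set of primes `π`, the following are equivalent for the symmetric group `S` of degree `n` and its alternating subgroup `A`: `S` has a Hall `π`-subgroup; `S` has a Hall `π`-subgroup and all of them are conjugate; `A` has a Hall `π`-subgroup; `A` has a Hall `π`-subgroup and all of them are conjugate. -/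
theorem result (n : ℕ) (π : Set ℕ) :
    (Cfsg.IsEPiGroup π (Equiv.Perm (Fin n)) ↔ Cfsg.IsCPiGroup π (Equiv.Perm (Fin n))) ∧
    (Cfsg.IsEPiGroup π (Equiv.Perm (Fin n)) ↔ Cfsg.IsEPiGroup π ↥(alternatingGroup (Fin n))) ∧
    (Cfsg.IsEPiGroup π ↥(alternatingGroup (Fin n)) ↔ Cfsg.IsCPiGroup π ↥(alternatingGroup (Fin n))) := by
  by_cases hT : T π n
  · have hA : Par (alternatingGroup (Fin n)) := Or.inr rfl
    exact ⟨⟨cpi_perm hT, fun h => h.1⟩,
      (exists_hall_perm_iff hT).trans (exists_hall_sub_iff hT hA).symm,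
      ⟨cpi_sub hT hA, fun h => h.1⟩⟩
  · have h1 := cpi_of_dpi (dpi_of_triv (triv_perm_of_not_T hT))
    have h2 := cpi_of_dpi (dpi_of_triv (triv_of_not_T hT (alternatingGroup (Fin n))))
    exact ⟨⟨fun _ => h1, fun h => h.1⟩, ⟨fun _ => h2.1, fun _ => h1.1⟩, ⟨fun _ => h2, fun h => h.1⟩⟩

end Cfsg.Agent.S2535
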