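import Cfsg.Statements.S2537
import Cfsg.Agent.Lib.PSL2.Dickson
import Cfsg.Agent.Lib.PSL2.KleinPsl
import Cfsg.Agent.Lib.PSL2.Dihedral
import Cfsg.Agent.Lib.PSL2.MinimalSimple
import Cfsg.Agent.Lib.Hall.Pi

set_option autoImplicit false
open Cfsg

namespace Cfsg.Agent.S2537

open CfsgLib.PSL2

theorem not_dvd_index {G : Type*} [Group G] [Finite G] {H : Subgroup G} {q a c : ℕ} {r : ℕ}
    (hr : r.Prime) (hG : 2 * Nat.card G = q * (q ^ 2 - 1)) (hc : r ^ a ∣ c) (hH : 2 * Nat.card H = c)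
    (hq : ¬ r ∣ q) (ha : (q ^ 2 - 1).factorization r = a) (hne : q ^ 2 - 1 ≠ 0) : ¬ r ∣ H.index := by
  intro h
  have hd : r ^ (a + 1) ∣ q * (q ^ 2 - 1) := by
    rw [← hG, ← H.card_mul_index, ← mul_assoc, hH, pow_succ]
    exact mul_dvd_mul hc h
  have := ((hr.coprime_iff_not_dvd.2 hq).pow_left (a + 1)).dvd_of_dvd_mul_left hd
  rw [hr.pow_dvd_iff_le_factorization hne, ha] at this
  omega

theorem hall_of_card {G : Type*} [Group G] [Finite G] {H : Subgroup G} {q a b : ℕ}
    (hG : 2 * Nat.card G = q * (q ^ 2 - 1)) (h2 : ¬ 2 ∣ q) (h3 : ¬ 3 ∣ q) (hne : q ^ 2 - 1 ≠ 0)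
    (ha : (q ^ 2 - 1).factorization 2 = a) (hb : (q ^ 2 - 1).factorization 3 = b)
    (hH : 2 * Nat.card H = 2 ^ a * 3 ^ b) : Cfsg.IsPiHall ({2, 3} : Set ℕ) H := by
  refine ⟨fun r hr hrd => ?_, fun r hr hrp => ?_⟩
  · have hd : r ∣ 2 ^ a * 3 ^ b := hH ▸ hrd.mul_left 2
    rcases hr.dvd_mul.1 hd with h | h
    · exact Or.inl ((Nat.prime_dvd_prime_iff_eq hr Nat.prime_two).1 (hr.dvd_of_dvd_pow h))
    · exact Or.inr ((Nat.prime_dvd_prime_iff_eq hr Nat.prime_three).1 (hr.dvd_of_dvd_pow h))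
  · rcases hrp with rfl | rfl
    · exact not_dvd_index hr hG (dvd_mul_right _ _) hH h2 ha hne
    · exact not_dvd_index hr hG (dvd_mul_left _ _) hH h3 hb hne

theorem card_of_hall {G : Type*} [Group G] [Finite G] {H : Subgroup G} {q a b : ℕ}
    (hG : 2 * Nat.card G = q * (q ^ 2 - 1)) (h2 : ¬ 2 ∣ q) (h3 : ¬ 3 ∣ q) (hne : q ^ 2 - 1 ≠ 0)
    (ha : (q ^ 2 - 1).factorization 2 = a) (hb : (q ^ 2 - 1).factorization 3 = b)
    (hH : Cfsg.IsPiHall ({2, 3} : Set ℕ) H) : 2 * Nat.card H = 2 ^ a * 3 ^ b := by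
  have hN0 : 2 * Nat.card H ≠ 0 := by have := Nat.card_pos (α := H); omega
  have hsupp : ∀ r : ℕ, r.Prime → r ∣ 2 * Nat.card H → r = 2 ∨ r = 3 := by
    intro r hr hd
    rcases hr.dvd_mul.1 hd with h | h
    · exact Or.inl ((Nat.prime_dvd_prime_iff_eq hr Nat.prime_two).1 h)
    · exact hH.1 r hr h
  have hco : (2 * Nat.card H).Coprime q := by
    rw [Nat.coprime_iff_gcd_eq_one]
    by_contra hg
    obtain ⟨r, hr, hrd⟩ := Nat.exists_prime_and_dvd hg
    rcases hsupp r hr (hrd.trans (Nat.gcd_dvd_left _ _)) with rfl | rfl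
    · exact h2 (hrd.trans (Nat.gcd_dvd_right _ _))
    · exact h3 (hrd.trans (Nat.gcd_dvd_right _ _))
  have hd : 2 * Nat.card H ∣ q ^ 2 - 1 :=
    hco.dvd_of_dvd_mul_left ⟨H.index, by rw [← hG, mul_assoc, H.card_mul_index]⟩
  have hge : ∀ r : ℕ, r.Prime → r ∈ ({2, 3} : Set ℕ) → ∀ e : ℕ,
      (q ^ 2 - 1).factorization r = e → r ^ e ∣ 2 * Nat.card H := by
    intro r hr hrp e he
    have h : r ^ e ∣ 2 * Nat.card H * H.index := by
      rw [mul_assoc, H.card_mul_index, hG]
      exact (he ▸ Nat.ordProj_dvd _ _).mul_left q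
    exact ((hr.coprime_iff_not_dvd.2 (hH.2 r hr hrp)).pow_left e).dvd_of_dvd_mul_right h
  refine Nat.dvd_antisymm ?_ ?_
  · have hP : (2 : ℕ) ^ a * 3 ^ b ≠ 0 := by positivity
    refine (Nat.factorization_le_iff_dvd hN0 hP).1 fun r => ?_
    by_cases hr : r.Prime
    · by_cases hrd : r ∣ 2 * Nat.card H
      · have hle := (Nat.factorization_le_iff_dvd hN0 hne).2 hd r
        rw [Nat.factorization_mul (a := 2 ^ a) (b := 3 ^ b) (by positivity) (by positivity),
          Nat.prime_two.factorization_pow,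
          Nat.prime_three.factorization_pow, Finsupp.add_apply]
        rcases hsupp r hr hrd with rfl | rfl <;> simp_all
      · rw [Nat.factorization_eq_zero_of_not_dvd hrd]
        exact Nat.zero_le _
    · rw [Nat.factorization_eq_zero_of_not_prime _ hr]
      exact Nat.zero_le _
  · exact Nat.Coprime.mul_dvd_of_dvd_of_dvd (Nat.Coprime.pow _ _ (by norm_num))
      (hge 2 Nat.prime_two (Or.inl rfl) a ha) (hge 3 Nat.prime_three (Or.inr rfl) b hb)

theorem exists_dihedral {F : Type*} [Field F] [Fintype F] [DecidableEq F] {p : ℕ} [Fact p.Prime]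
    [CharP F p] {e : ℕ} (he : e = Fintype.card F - 1 ∨ e = Fintype.card F + 1) :
    ∃ N : Subgroup (Matrix.ProjectiveSpecialLinearGroup (Fin 2) F),
      Nat.card N = 2 * (e / Nat.gcd 2 (Fintype.card F - 1)) ∧ Group.IsSolvable N := by
  classical
  let L := AlgebraicClosure F
  let ι := algebraMap F L
  have : CharP L p := charP_of_injective_ringHom ι.injective p
  obtain ⟨Φ, hΦ⟩ := exists_frob (F := F) (L := L) p
  obtain ⟨x, y, h⟩ : ∃ x y, IsPair ι Φ x y e := by
    rcases he with rfl | rfl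
    · exact exists_isPair_split
    · exact exists_isPair_nonsplit hΦ
  obtain ⟨hc, ⟨f⟩⟩ := pslPair_dihedral hΦ h
  have := isSolvable_dihedral (e / Nat.gcd 2 (Fintype.card F - 1))
  exact ⟨_, hc, solvable_of_solvable_injective (f := f.toMonoidHom) f.injective⟩

/-- Let `F` be a finite field with `q` elements of characteristic `p ≥ 5`, and `ε = 1` if `q ≡ 1 (mod 4)`, `ε = -1` otherwise. Then `PSL(2, F)` has a Hall `{2, 3}`-subgroup if and only if `3` divides `q − ε`, or the `{2,3}`-part of `q² − 1` is 24, or the `{2,3}`-part of `q² − 1` is 48 (the `{2,3}`-part of `m` being the largest divisor of `m` with no prime factor other than 2 and 3). -/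
theorem result {F : Type*} [Field F] [Fintype F] {p : ℕ} [Fact p.Prime] [CharP F p]
    (hp : 5 ≤ p) (q : ℕ) (hq : Fintype.card F = q) :
    (∃ H : Subgroup (Matrix.ProjectiveSpecialLinearGroup (Fin 2) F), Cfsg.IsPiHall ({2, 3} : Set ℕ) H) ↔
      (3 ∣ q - 1 ∧ q % 4 = 1) ∨ (3 ∣ q + 1 ∧ q % 4 = 3) ∨
        2 ^ (q ^ 2 - 1).factorization 2 * 3 ^ (q ^ 2 - 1).factorization 3 = 24 ∨
        2 ^ (q ^ 2 - 1).factorization 2 * 3 ^ (q ^ 2 - 1).factorization 3 = 48 := by
  classical
  subst hq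
  set q := Fintype.card F with hqdef
  have hq1 : 1 < q := Fintype.one_lt_card
  obtain ⟨n, -, hn⟩ := FiniteField.card F p
  have hqn : q = p ^ (n : ℕ) := hn
  have hp' : p.Prime := Fact.out
  have h2 : ¬ 2 ∣ q := fun h => by
    rw [hqn] at h
    have := (Nat.prime_dvd_prime_iff_eq Nat.prime_two hp').1 (Nat.prime_two.dvd_of_dvd_pow h)
    omega
  have h3 : ¬ 3 ∣ q := fun h => by
    rw [hqn] at h
    have := (Nat.prime_dvd_prime_iff_eq Nat.prime_three hp').1 (Nat.prime_three.dvd_of_dvd_pow h)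
    omega
  have hodd : Odd q := Nat.odd_iff.2 (by omega)
  have hgcd : Nat.gcd 2 (q - 1) = 2 := gcd_eq_two hodd
  have hsq : q ^ 2 - 1 = (q + 1) * (q - 1) := by
    rw [show (1 : ℕ) = 1 ^ 2 from rfl, Nat.sq_sub_sq, one_pow]
  have hne : q ^ 2 - 1 ≠ 0 := by
    rw [hsq]; exact Nat.mul_ne_zero (by omega) (by omega)
  have hG : 2 * Nat.card (Matrix.ProjectiveSpecialLinearGroup (Fin 2) F) = q * (q ^ 2 - 1) := by
    have h := card_psl (F := F)
    rw [← hqdef, hgcd] at h
    rw [h, hsq]; ring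
  set a := (q ^ 2 - 1).factorization 2 with ha
  set b := (q ^ 2 - 1).factorization 3 with hb
  have hb1 : 1 ≤ b := by
    refine (Nat.prime_three.pow_dvd_iff_le_factorization hne).1 ?_
    rw [pow_one, hsq]
    rcases (by omega : q % 3 = 1 ∨ q % 3 = 2) with h | h
    · exact (show 3 ∣ q - 1 by omega).mul_left _
    · exact (show 3 ∣ q + 1 by omega).mul_right _
  have ha3 : 3 ≤ a := by
    refine (Nat.prime_two.pow_dvd_iff_le_factorization hne).1 ?_
    rw [hsq]
    rcases (by omega : q % 4 = 1 ∨ q % 4 = 3) with h | h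
    · exact Nat.mul_dvd_mul (a := 2) (c := 4) (show 2 ∣ q + 1 by omega) (show 4 ∣ q - 1 by omega)
    · exact Nat.mul_dvd_mul (a := 4) (c := 2) (show 4 ∣ q + 1 by omega) (show 2 ∣ q - 1 by omega)
  have hexact : 2 ^ (a + 1) ∣ q ^ 2 - 1 → False := fun h => by
    have := (Nat.prime_two.pow_dvd_iff_le_factorization hne).1 h
    omega
  have hhalf : ∀ m, m = q - 1 ∨ m = q + 1 → 2 ^ a ∣ m → False := by
    intro m hm h
    refine hexact ?_
    rw [hsq, pow_succ]
    rcases hm with rfl | rfl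
    · rw [mul_comm (q + 1)]
      exact Nat.mul_dvd_mul h (by omega)
    · exact Nat.mul_dvd_mul h (by omega)
  constructor
  · rintro ⟨H, hH⟩
    have hc := card_of_hall hG h2 h3 hne ha.symm hb.symm hH
    rcases dickson_psl p H with ⟨x, hx⟩ | ⟨k, hk, hk'⟩ | ⟨⟨e⟩⟩ | ⟨⟨e⟩⟩ | ⟨⟨e⟩⟩ | ⟨S, -, hS⟩
    · exfalso
      have hle : H ≤ pslPointStab x := fun g hg => hx g hg
      have hd := Nat.mul_dvd_mul_left 2 (Subgroup.card_dvd_of_le hle)
      have hst := card_pslPointStab (F := F) x
      rw [← hqdef, hgcd] at hst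
      rw [hst, hc] at hd
      refine hhalf (q - 1) (Or.inl rfl) ?_
      exact ((Nat.prime_two.coprime_iff_not_dvd.2 h2).pow_left a).dvd_of_dvd_mul_left
        ((dvd_mul_right _ _).trans hd)
    · rw [← hqdef, hgcd] at hk
      have h2k : 2 * k ∣ q + 1 ∨ 2 * k ∣ q - 1 := hk.imp
        (fun h => Nat.mul_dvd_of_dvd_div (by omega) h) (fun h => Nat.mul_dvd_of_dvd_div (by omega) h)
      rcases hk' with ⟨-, hcard⟩ | ⟨⟨e⟩⟩
      · exfalso
        rw [hcard] at hc
        rcases h2k with h | h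
        · exact hhalf _ (Or.inr rfl) ((dvd_mul_right _ _).trans (hc ▸ h))
        · exact hhalf _ (Or.inl rfl) ((dvd_mul_right _ _).trans (hc ▸ h))
      · rw [Nat.card_congr e.toEquiv, DihedralGroup.nat_card] at hc
        have h4 : 4 ∣ 2 * k := by
          have h8 : (2 : ℕ) ^ 3 ∣ 2 * (2 * k) :=
            hc ▸ (pow_dvd_pow 2 ha3).mul_right _
          omega
        have h3k : 3 ∣ 2 * k := by
          have h3' : (3 : ℕ) ∣ 2 * (2 * k) := hc ▸ (dvd_pow_self 3 (by omega)).mul_left _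
          omega
        rcases h2k with h | h
        · have := h4.trans h
          exact Or.inr (Or.inl ⟨h3k.trans h, by omega⟩)
        · have := h4.trans h
          exact Or.inl ⟨h3k.trans h, by omega⟩
    · rw [Nat.card_congr e.toEquiv, card_alt_four] at hc
      exact Or.inr (Or.inr (Or.inl hc.symm))
    · rw [Nat.card_congr e.toEquiv, Nat.card_perm, Nat.card_fin] at hc
      exact Or.inr (Or.inr (Or.inr hc.symm))
    · exfalso
      rw [Nat.card_congr e.toEquiv, nat_card_alternatingGroup, Nat.card_fin] at hc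
      have h5 : 5 ∣ 2 ^ a * 3 ^ b := hc ▸ (show 5 ∣ 2 * (Nat.factorial 5 / 2) by decide)
      have h5' : Nat.Prime 5 := by norm_num
      rcases h5'.dvd_mul.1 h5 with h | h
      · exact absurd ((Nat.prime_dvd_prime_iff_eq h5' Nat.prime_two).1 (h5'.dvd_of_dvd_pow h)) (by norm_num)
      · exact absurd ((Nat.prime_dvd_prime_iff_eq h5' Nat.prime_three).1 (h5'.dvd_of_dvd_pow h)) (by norm_num)
    · exfalso
      have hpdvd : p ∣ 2 * Nat.card H := by
        have : Fintype S := Fintype.ofFinite S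
        have : DecidableEq S := Classical.decEq S
        obtain ⟨m, -, hm⟩ := FiniteField.card S p
        have hpS : p ∣ Fintype.card S := hm ▸ dvd_pow_self p m.ne_zero
        rcases hS with ⟨⟨e⟩⟩ | ⟨⟨e⟩⟩
        · rw [Nat.card_congr e.toEquiv]
          have h := card_psl (F := S)
          have hd : p ∣ Nat.gcd 2 (Fintype.card S - 1) *
              Nat.card (Matrix.ProjectiveSpecialLinearGroup (Fin 2) S) := by
            rw [h]; exact (hpS.mul_right _).mul_left _
          rcases hp'.dvd_mul.1 hd with hd | hd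
          · have := Nat.le_of_dvd (by norm_num) (hd.trans (Nat.gcd_dvd_left _ _)); omega
          · exact hd.mul_left 2
        · rw [Nat.card_congr e.toEquiv, card_pgl]
          exact ((hpS.mul_right _).mul_left _).mul_left 2
      rw [hc] at hpdvd
      rcases hp'.dvd_mul.1 hpdvd with h | h
      · have := (Nat.prime_dvd_prime_iff_eq hp' Nat.prime_two).1 (hp'.dvd_of_dvd_pow h); omega
      · have := (Nat.prime_dvd_prime_iff_eq hp' Nat.prime_three).1 (hp'.dvd_of_dvd_pow h); omega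
  · intro hcond
    have key : ∀ e o : ℕ, (e = q - 1 ∧ o = q + 1 ∨ e = q + 1 ∧ o = q - 1) → 4 ∣ e → 3 ∣ e →
        ∃ H : Subgroup (Matrix.ProjectiveSpecialLinearGroup (Fin 2) F),
          Cfsg.IsPiHall ({2, 3} : Set ℕ) H := by
      intro e o heo h4 h3e
      obtain ⟨N, hN, hsol⟩ := exists_dihedral (F := F) (p := p) (e := e)
        (heo.imp (fun h => h.1) fun h => h.1)
      rw [← hqdef, hgcd, Nat.mul_div_cancel' (by omega)] at hN
      have hidx : 2 * N.index = q * o := by
        have h := hG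
        rw [← N.card_mul_index, hN, hsq] at h
        refine Nat.eq_of_mul_eq_mul_left (show 0 < e by omega) ?_
        calc e * (2 * N.index) = 2 * (e * N.index) := by ring
          _ = q * ((q + 1) * (q - 1)) := h
          _ = e * (q * o) := by rcases heo with ⟨rfl, rfl⟩ | ⟨rfl, rfl⟩ <;> ring
      obtain ⟨P, hP⟩ := CfsgLib.Hall.exists_isPiHall (G := N) ({2, 3} : Set ℕ)
      refine ⟨P.map N.subtype, ?_, ?_⟩
      · intro r hr hrd
        rw [Subgroup.card_subtype] at hrd
        exact hP.1 r hr hrd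
      · intro r hr hrp hrd
        rw [Subgroup.index_map_subtype] at hrd
        rcases hr.dvd_mul.1 hrd with h | h
        · exact hP.2 r hr hrp h
        · have hqo : r ∣ q * o := hidx ▸ h.mul_left 2
          rcases hrp with rfl | rfl
          · obtain ⟨c, hc⟩ := h
            have h4' : 2 ^ 2 ∣ q * o := ⟨c, by rw [← hidx, hc]; ring⟩
            have := ((Nat.prime_two.coprime_iff_not_dvd.2 h2).pow_left 2).dvd_of_dvd_mul_left h4'
            omega
          · have := (hr.dvd_mul.1 hqo).resolve_left h3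
            omega
    rcases hcond with ⟨h3', h4⟩ | ⟨h3', h4⟩ | h24 | h48
    · exact key (q - 1) (q + 1) (Or.inl ⟨rfl, rfl⟩) (by omega) h3'
    · exact key (q + 1) (q - 1) (Or.inr ⟨rfl, rfl⟩) (by omega) h3'
    · obtain ⟨H, ⟨e⟩⟩ := exists_alt_four_psl (F := F) (two_ne_zero_of_odd hodd)
      refine ⟨H, hall_of_card hG h2 h3 hne ha.symm hb.symm ?_⟩
      rw [Nat.card_congr e.toEquiv, card_alt_four, h24]
    · have h16 : 16 ∣ q ^ 2 - 1 := by
        have hpos : 4 ≤ a := by
          by_contra hcon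
          have ha' : a = 3 := by omega
          rw [ha'] at h48
          have hb' : 3 ^ b = 6 := by omega
          rcases b with _ | _ | b
          · simp at hb'
          · simp at hb'
          · rw [pow_succ, pow_succ] at hb'
            omega
        exact ((Nat.prime_two.pow_dvd_iff_le_factorization hne).2 (ha ▸ hpos) : 2 ^ 4 ∣ q ^ 2 - 1)
      have hsq2 : IsSquare (2 : F) := by
        rw [FiniteField.isSquare_two_iff, ← hqdef]
        have hm : q ^ 2 % 16 = 1 := by
          have := Nat.one_le_pow 2 q (by omega)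
          omega
        have hm2 : q ^ 2 % 16 = (q % 16) ^ 2 % 16 := Nat.pow_mod _ _ _
        constructor <;> intro h8 <;>
          (rcases (by omega : q % 16 = 3 ∨ q % 16 = 5 ∨ q % 16 = 11 ∨ q % 16 = 13) with h | h | h | h <;>
            (rw [h] at hm2; omega))
      obtain ⟨H, ⟨e⟩⟩ := exists_symm_four_psl (F := F) (two_ne_zero_of_odd hodd) hsq2
      refine ⟨H, hall_of_card hG h2 h3 hne ha.symm hb.symm ?_⟩
      rw [Nat.card_congr e.toEquiv, Nat.card_perm, Nat.card_fin, h48]
      rfl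

end Cfsg.Agent.S2537
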