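import Cfsg.Statements.S2538
import Cfsg.Agent.Lib.HallSym.Apply

set_option autoImplicit false
open Cfsg

namespace Cfsg.Agent.S2538

open CfsgLib.HallSym Equiv Equiv.Perm

/-- For every `n` and every set of primes `π`, a subgroup of the alternating group of degree `n` is a Hall `π`-subgroup of it if and only if it is the intersection with the alternating group of some Hall `π`-subgroup of the symmetric group of degree `n`. -/
theorem result (n : ℕ) (π : Set ℕ)
    (M : Subgroup ↥(alternatingGroup (Fin n))) :
    Cfsg.IsPiHall π M ↔ ∃ M₀ : Subgroup (Equiv.Perm (Fin n)), Cfsg.IsPiHall π M₀ ∧ M = M₀.subgroupOf (alternatingGroup (Fin n)) := by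
  have hAidx : (alternatingGroup (Fin n)).index ∣ 2 := by
    rcases Nat.lt_or_ge n 2 with h | h
    · have : Subsingleton (Fin n) := Fintype.card_le_one_iff_subsingleton.1 (by simp; omega)
      have e : (alternatingGroup (Fin n)) = ⊤ := eq_top_iff.2 fun g _ => by
        rw [Subsingleton.elim g 1]; exact (alternatingGroup (Fin n)).one_mem
      rw [e, Subgroup.index_top]; exact one_dvd _
    · have : Nontrivial (Fin n) := Fin.nontrivial_iff_two_le.2 h
      exact dvd_of_eq alternatingGroup.index_eq_two
  have hidx : (M.map (alternatingGroup (Fin n)).subtype).index = M.index * (alternatingGroup (Fin n)).index := Subgroup.index_map_subtype M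
  have hcard : Nat.card (M.map (alternatingGroup (Fin n)).subtype) = Nat.card M :=
    Subgroup.card_map_of_injective (alternatingGroup (Fin n)).subtype_injective
  have hcomap : (M.map (alternatingGroup (Fin n)).subtype).subgroupOf (alternatingGroup (Fin n)) = M := by
    rw [Subgroup.subgroupOf, Subgroup.comap_map_eq_self_of_injective (alternatingGroup (Fin n)).subtype_injective]
  constructor
  · intro hM
    by_cases hT : T π n
    · obtain ⟨a, pr, R, hstd, hR, e⟩ := (hall_iff hT (Or.inr rfl)).1 (isPiHall_iff_map.1 hM)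
      refine ⟨stdK pr R, stdK_hall hstd hR, ?_⟩
      rw [← hcomap, e]
      exact Subgroup.inf_subgroupOf_left _ _
    by_cases h2 : 2 ∈ π
    swap
    · refine ⟨M.map (alternatingGroup (Fin n)).subtype, ⟨fun p hp hd => hM.1 p hp (hcard ▸ hd), fun p hp hpπ hd => ?_⟩,
        hcomap.symm⟩
      rw [hidx] at hd
      rcases hp.dvd_mul.1 hd with hd | hd
      · exact hM.2 p hp hpπ hd
      · exact h2 ((Nat.prime_dvd_prime_iff_eq hp Nat.prime_two).1 (hd.trans hAidx) ▸ hpπ)
    rcases triv_perm_of_not_T hT with h | h
    · have : Fact (Nat.Prime 2) := ⟨Nat.prime_two⟩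
      have h2n : ∀ q : ℕ, q.Prime → q ∈ π → q ∣ Nat.card (Perm (Fin n)) → q = 2 := by
        intro q hq hqπ hqd
        by_cases hd : 2 ∣ Nat.card (Perm (Fin n))
        · exact h q 2 hq Nat.prime_two hqπ h2 hqd hd
        · rw [Nat.card_perm, Nat.card_fin] at hd hqd
          exact absurd (Nat.prime_two.dvd_factorial.2 (hq.two_le.trans (hq.dvd_factorial.1 hqd))) hd
      have hMp : IsPGroup 2 (M.map (alternatingGroup (Fin n)).subtype) :=
        IsPGroup.of_card (Nat.eq_prime_pow_of_unique_prime_dvd Nat.card_pos.ne' fun {q} hq hqd =>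
          h2n q hq (hM.1 q hq (hcard ▸ hqd)) (hqd.trans (M.map (alternatingGroup (Fin n)).subtype).card_subgroup_dvd_card))
      obtain ⟨P, hP⟩ := hMp.exists_le_sylow
      have hPπ : ∀ p : ℕ, p.Prime → p ∣ Nat.card (P : Subgroup (Perm (Fin n))) → p ∈ π := by
        intro p hp hd
        obtain ⟨k, hk⟩ := P.isPGroup'.exists_card_eq
        rw [hk] at hd
        rwa [(Nat.prime_dvd_prime_iff_eq hp Nat.prime_two).1 (hp.dvd_of_dvd_pow hd)]
      refine ⟨P, ⟨hPπ, fun p hp hpπ hd => ?_⟩, ?_⟩
      · have e := h2n p hp hpπ (hd.trans (Subgroup.index_dvd_card _))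
        subst e
        exact P.not_dvd_index hd
      · refine hall_eq_of_pi (isPiHallOf_top.2 hM) le_top ?_ fun p hp hd => hPπ p hp (hd.trans ?_)
        · rw [← hcomap]; exact fun x hx => hP hx
        · rw [← Subgroup.card_map_of_injective (alternatingGroup (Fin n)).subtype_injective]
          exact Subgroup.card_dvd_of_le (by rw [Subgroup.subgroupOf_map_subtype]; exact inf_le_left)
    · refine ⟨⊤, ⟨fun p hp hd => h p hp (by rwa [Subgroup.card_top] at hd), fun p hp _ hd => ?_⟩, ?_⟩
      · rw [Subgroup.index_top] at hd; exact hp.not_dvd_one hd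
      · refine (hall_eq_of_pi (isPiHallOf_top.2 hM) le_top le_top fun p hp hd => h p hp ?_).trans ?_
        · rw [Subgroup.card_top] at hd
          exact hd.trans (alternatingGroup (Fin n)).card_subgroup_dvd_card
        · simp
  · rintro ⟨M₀, hM₀, rfl⟩
    refine ⟨fun p hp hd => hM₀.1 p hp (hd.trans ?_), fun p hp hpπ hd => hM₀.2 p hp hpπ (hd.trans ?_)⟩
    · rw [← Subgroup.card_map_of_injective (alternatingGroup (Fin n)).subtype_injective]
      exact Subgroup.card_dvd_of_le (by rw [Subgroup.subgroupOf_map_subtype]; exact inf_le_left)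
    · show M₀.relIndex (alternatingGroup (Fin n)) ∣ M₀.index
      have e1 := Subgroup.relIndex_mul_index (inf_le_right (a := alternatingGroup (Fin n)) (b := M₀))
      have e2 := Subgroup.relIndex_mul_index (inf_le_left (a := alternatingGroup (Fin n)) (b := M₀))
      rw [Subgroup.inf_relIndex_right] at e1
      rw [Subgroup.inf_relIndex_left, ← e1] at e2
      have hr : (alternatingGroup (Fin n)).relIndex M₀ ∣ 2 := (Subgroup.relIndex_dvd_index_of_normal _ _).trans hAidx
      have h0 : (alternatingGroup (Fin n)).index ≠ 0 := Subgroup.index_ne_zero_of_finite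
      rcases (Nat.dvd_prime Nat.prime_two).1 hr with hr1 | hr2
      · rw [hr1, one_mul] at e2
        exact ⟨_, e2.symm⟩
      · have h3 : (alternatingGroup (Fin n)).index = 2 := Nat.dvd_antisymm hAidx (hr2 ▸ Subgroup.relIndex_dvd_index_of_normal _ _)
        rw [hr2, h3] at e2
        exact dvd_of_eq (by omega)

end Cfsg.Agent.S2538
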