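import Cfsg.Statements.S2540
import Cfsg.Agent.Classical.SLGen

set_option autoImplicit false
open Cfsg
open scoped commutatorElement

namespace Cfsg.Agent.S2540

theorem commutator_le_ker {G K : Type*} [Group G] [Group K] (f : G →* K)
    (h : ∀ a b, f a * f b = f b * f a) : commutator G ≤ f.ker := by
  rw [commutator_def, Subgroup.commutator_le]
  intro a _ b _
  rw [MonoidHom.mem_ker, map_commutatorElement, commutatorElement_eq_one_iff_mul_comm]
  exact h a b

theorem range_scalar_to_smul {F : Type*} [Field F] {n : ℕ} {A : Matrix (Fin n) (Fin n) F}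
    (h : A ∈ Set.range (Matrix.scalar (Fin n))) :
    ∃ c : F, A = c • (1 : Matrix (Fin n) (Fin n) F) := by
  obtain ⟨c, rfl⟩ := h
  exact ⟨c, by rw [Matrix.scalar_apply, Matrix.smul_one_eq_diagonal]⟩


/-- Let F be a finite field and n ≥ 1, excluding the case n = 2 with #F ≤ 3. A subgroup of GL_n(F) that is normalized by every element of SL_n(F) either consists of scalar matrices or contains SL_n(F). -/
theorem result {F : Type*} [Field F] [Fintype F] (n : ℕ) (hn : 1 ≤ n) (hex : ¬ (n = 2 ∧ Fintype.card F ≤ 3)) (G : Subgroup (Matrix.GeneralLinearGroup (Fin n) F)) (hG : ∀ s : Matrix.SpecialLinearGroup (Fin n) F, ∀ g ∈ G, (Matrix.SpecialLinearGroup.toGL s) * g * (Matrix.SpecialLinearGroup.toGL s)⁻¹ ∈ G) : (∀ g ∈ G, ∃ c : F, (g : Matrix (Fin n) (Fin n) F) = c • (1 : Matrix (Fin n) (Fin n) F)) ∨ (Matrix.SpecialLinearGroup.toGL : Matrix.SpecialLinearGroup (Fin n) F →* _).range ≤ G := by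
  classical
  rcases Nat.lt_or_ge n 2 with h1 | h2
  · left
    intro g _
    obtain rfl : n = 1 := by omega
    refine ⟨(g : Matrix (Fin 1) (Fin 1) F) 0 0, ?_⟩
    ext i j
    rw [Subsingleton.elim i 0, Subsingleton.elim j 0]
    simp
  have hps : commutator (Matrix.SpecialLinearGroup (Fin n) F) = ⊤ ∧
      IsSimpleGroup (Matrix.ProjectiveSpecialLinearGroup (Fin n) F) := by
    rcases eq_or_lt_of_le h2 with rfl | h3
    · have h4 : 4 ≤ Nat.card F := by
        rw [Nat.card_eq_fintype_card]
        by_contra h; exact hex ⟨rfl, by omega⟩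
      refine ⟨?_, Matrix.ProjectiveSpecialLinearGroup.rank_two_simple h4⟩
      obtain ⟨x, hx⟩ : IsCyclic Fˣ := inferInstance
      refine Matrix.SL2.commutator_eq_top (a := (x : F)) (Units.ne_zero x) fun h => ?_
      have h' : orderOf x ≤ 2 := orderOf_le_of_pow_eq_one zero_lt_two (Units.ext (by simpa using h))
      rw [orderOf_eq_card_of_forall_mem_zpowers hx, Nat.card_units] at h'
      omega
    · exact ⟨Classical.sl_commutator_eq_top (by simp; omega),
        Classical.psl_isSimpleGroup (by simp; omega)⟩
  obtain ⟨hperf, hsimple⟩ := hps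
  let N : Subgroup (Matrix.SpecialLinearGroup (Fin n) F) := G.comap Matrix.SpecialLinearGroup.toGL
  haveI hN : N.Normal := ⟨fun g hg s => by
    simpa [N, map_mul, map_inv] using hG s _ hg⟩
  let π := QuotientGroup.mk' (Subgroup.center (Matrix.SpecialLinearGroup (Fin n) F))
  haveI : (N.map π).Normal := Subgroup.Normal.map hN π (QuotientGroup.mk'_surjective _)
  rcases this.eq_bot_or_eq_top with hbot | htop
  · left
    intro g hg
    rw [Subgroup.map_eq_bot_iff, QuotientGroup.ker_mk'] at hbot
    have hdet : ∀ s : Matrix.SpecialLinearGroup (Fin n) F,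
        ∃ z ∈ Subgroup.center (Matrix.SpecialLinearGroup (Fin n) F),
          Matrix.SpecialLinearGroup.toGL z =
            Matrix.SpecialLinearGroup.toGL s * g * (Matrix.SpecialLinearGroup.toGL s)⁻¹ * g⁻¹ := by
      intro s
      have hd : (Matrix.SpecialLinearGroup.toGL s * g * (Matrix.SpecialLinearGroup.toGL s)⁻¹ * g⁻¹).det = 1 := by
        simp [map_mul, map_inv, mul_comm]
      obtain ⟨z, hz⟩ : ∃ z : Matrix.SpecialLinearGroup (Fin n) F, Matrix.SpecialLinearGroup.toGL z =
          Matrix.SpecialLinearGroup.toGL s * g * (Matrix.SpecialLinearGroup.toGL s)⁻¹ * g⁻¹ :=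
        ⟨⟨_, congrArg Units.val hd⟩, Units.ext rfl⟩
      refine ⟨z, hbot ?_, hz⟩
      show Matrix.SpecialLinearGroup.toGL z ∈ G
      rw [hz]
      exact G.mul_mem (hG s g hg) (G.inv_mem hg)
    choose f hfc hf using hdet
    have hcentral : ∀ s (a : GL (Fin n) F),
        Commute a (Matrix.SpecialLinearGroup.toGL (f s)) := by
      intro s a
      obtain ⟨r, -, hr⟩ := Matrix.SpecialLinearGroup.mem_center_iff.1 (hfc s)
      apply Units.ext
      show (a : Matrix (Fin n) (Fin n) F) * (f s : Matrix (Fin n) (Fin n) F) =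
        (f s : Matrix (Fin n) (Fin n) F) * a
      rw [← hr]
      exact ((Matrix.scalar_commute r (fun y => Commute.all r y) (a : Matrix (Fin n) (Fin n) F)).eq).symm
    let fh : Matrix.SpecialLinearGroup (Fin n) F →*
        Subgroup.center (Matrix.SpecialLinearGroup (Fin n) F) :=
      MonoidHom.mk' (fun s => ⟨f s, hfc s⟩) fun s t => by
        apply Subtype.ext
        apply Matrix.SpecialLinearGroup.toGL_injective
        rw [Subgroup.coe_mul, map_mul, (hcentral t (Matrix.SpecialLinearGroup.toGL (f s))).eq]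
        show Matrix.SpecialLinearGroup.toGL (f (s * t)) = _
        calc Matrix.SpecialLinearGroup.toGL (f (s * t))
            = Matrix.SpecialLinearGroup.toGL s * Matrix.SpecialLinearGroup.toGL (f t) *
              (Matrix.SpecialLinearGroup.toGL s)⁻¹ * Matrix.SpecialLinearGroup.toGL (f s) := by
              rw [hf, hf, hf, map_mul]; group
          _ = _ := by rw [(hcentral t (Matrix.SpecialLinearGroup.toGL s)).eq]; group
    have htriv : ∀ s, f s = 1 := by
      intro s
      have h : s ∈ fh.ker := by
        have hle : commutator (Matrix.SpecialLinearGroup (Fin n) F) ≤ fh.ker :=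
          commutator_le_ker fh fun a b => Subtype.ext (Subgroup.mem_center_iff.1 (fh b).2 _)
        exact hle (hperf ▸ Subgroup.mem_top s)
      exact congrArg Subtype.val (MonoidHom.mem_ker.1 h)
    refine range_scalar_to_smul ?_
    apply Matrix.mem_range_scalar_of_commute_transvectionStruct
    intro t
    have h := hf t.toSpecialLinearGroup
    rw [htriv, map_one, eq_comm, mul_inv_eq_one, mul_inv_eq_iff_eq_mul] at h
    exact congrArg Units.val h
  · right
    rintro _ ⟨s, rfl⟩
    have hNZ : N ⊔ Subgroup.center _ = ⊤ := by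
      rw [← QuotientGroup.ker_mk' (Subgroup.center (Matrix.SpecialLinearGroup (Fin n) F)),
        ← Subgroup.comap_map_eq, htop, Subgroup.comap_top]
    have hle : commutator (Matrix.SpecialLinearGroup (Fin n) F) ≤ N := by
      rw [← QuotientGroup.ker_mk' N]
      refine commutator_le_ker _ fun a b => ?_
      have ha : a ∈ N ⊔ Subgroup.center _ := by rw [hNZ]; exact Subgroup.mem_top a
      obtain ⟨x, hx, z, hz, rfl⟩ :=
        (Subgroup.mem_sup_of_normal_left (s := N) (t := Subgroup.center _)).1 ha
      rw [map_mul, show QuotientGroup.mk' N x = 1 from (QuotientGroup.eq_one_iff x).2 hx,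
        one_mul, ← map_mul, ← map_mul, Subgroup.mem_center_iff.1 hz b]
    exact hle (hperf ▸ Subgroup.mem_top s)

end Cfsg.Agent.S2540
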