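import Cfsg.Statements.S2541
-- import your own Cfsg.Agent.* helpers here

set_option autoImplicit false
open Cfsg

namespace Cfsg.Agent.S2541

/-- Let F be a field with 9 elements. The symmetric group S_6 is not isomorphic to PGL_2(F) (although both have index-2 subgroups isomorphic to A_6). -/
theorem result {F : Type*} [Field F] [Fintype F] (hF : Fintype.card F = 9) : ¬ Nonempty (Equiv.Perm (Fin 6) ≃* Matrix.ProjGenLinGroup (Fin 2) F) := by
  rintro ⟨e⟩
  classical
  obtain ⟨w, hw⟩ := IsCyclic.exists_ofOrder_eq_natCard (α := Fˣ)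
  rw [Nat.card_units, Nat.card_eq_fintype_card, hF] at hw
  let φ : Fˣ →* Matrix.GeneralLinearGroup (Fin 2) F :=
    MonoidHom.toHomUnits
      { toFun := fun a => Matrix.diagonal ![(a : F), 1]
        map_one' := by ext i j; fin_cases i <;> fin_cases j <;> simp
        map_mul' := fun a b => by
          rw [Matrix.diagonal_mul_diagonal]
          ext i j; fin_cases i <;> fin_cases j <;> simp }
  let ψ : Fˣ →* Matrix.ProjGenLinGroup (Fin 2) F :=
    (QuotientGroup.mk' (Subgroup.center (Matrix.GeneralLinearGroup (Fin 2) F))).comp φ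
  have hψ : Function.Injective ψ := by
    rw [injective_iff_map_eq_one]
    intro a ha
    have hc : φ a ∈ Subgroup.center (Matrix.GeneralLinearGroup (Fin 2) F) :=
      (QuotientGroup.eq_one_iff _).1 ha
    have hcomm := Subgroup.mem_center_iff.1 hc
      ⟨!![1, 1; 0, 1], !![1, -1; 0, 1], by simp [Matrix.one_fin_two],
        by simp [Matrix.one_fin_two]⟩
    have h01 := congrArg (fun g : Matrix.GeneralLinearGroup (Fin 2) F =>
      (g : Matrix (Fin 2) (Fin 2) F) 0 1) hcomm
    simp [φ, Matrix.mul_apply, Fin.sum_univ_two, Matrix.diagonal] at h01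
    exact Units.ext h01.symm
  have h8 : orderOf (e.symm (ψ w)) = 8 := by
    rw [MulEquiv.orderOf_eq, orderOf_injective ψ hψ, hw]
  have h60 : ∀ g : Equiv.Perm (Fin 6), g ^ 60 = 1 := by
    intro g
    apply orderOf_dvd_iff_pow_eq_one.1
    rw [← Equiv.Perm.lcm_cycleType, Multiset.lcm_dvd]
    intro a ha
    have hle : a ≤ 6 := by
      refine le_trans (Multiset.le_sum_of_mem ha) ?_
      rw [Equiv.Perm.sum_cycleType]
      simpa using g.support.card_le_univ
    have h2 : 2 ≤ a := Equiv.Perm.two_le_of_mem_cycleType ha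
    interval_cases a <;> norm_num
  have := h8 ▸ orderOf_dvd_of_pow_eq_one (h60 (e.symm (ψ w)))
  norm_num at this

end Cfsg.Agent.S2541
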