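import Cfsg.Statements.S2542
import Cfsg.Agent.Lib.KnownSimple.PSLEleven

set_option autoImplicit false
open Cfsg

namespace Cfsg.Agent.S2542
open CfsgLib.KnownSimple.PSLEleven

/-- Two double cosets give a doubly transitive coset action. -/
theorem two_pretransitive_of_double_coset {G : Type*} [Group G] (M : Subgroup G) (r : G) (hr : r ∉ M)
    (h : ∀ g, g ∉ M → ∃ m ∈ M, g⁻¹ * (m * r) ∈ M) :
    MulAction.IsMultiplyPretransitive G (G ⧸ M) 2 := by
  have key : ∀ a b : G ⧸ M, a ≠ b → ∃ g : G, g • ((1 : G) : G ⧸ M) = a ∧ g • ((r : G) : G ⧸ M) = b := by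
    intro a b hab
    obtain ⟨x, rfl⟩ := QuotientGroup.mk_surjective a
    obtain ⟨y, rfl⟩ := QuotientGroup.mk_surjective b
    have hxy : x⁻¹ * y ∉ M := fun h' => hab (QuotientGroup.eq.2 h')
    obtain ⟨m, hm, hm'⟩ := h _ hxy
    refine ⟨x * m, ?_, ?_⟩
    · rw [MulAction.Quotient.smul_mk, QuotientGroup.eq]
      simpa using M.inv_mem hm
    · rw [MulAction.Quotient.smul_mk, QuotientGroup.eq]
      have := M.inv_mem hm'
      simpa [mul_assoc] using this
  rw [MulAction.is_two_pretransitive_iff]
  intro a b c d hab hcd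
  obtain ⟨g, hga, hgb⟩ := key a b hab
  obtain ⟨k, hkc, hkd⟩ := key c d hcd
  exact ⟨k * g⁻¹, by rw [mul_smul, ← hga, inv_smul_smul, hkc], by rw [mul_smul, ← hgb, inv_smul_smul, hkd]⟩

/-- Let F be a field with 11 elements. PSL_2(F) has a subgroup H of index 11 isomorphic to the alternating group A_5, and the action of PSL_2(F) on the cosets of H is 2-transitive (of degree 11). -/
theorem result {F : Type*} [Field F] [Fintype F] (hF : Fintype.card F = 11) : ∃ H : Subgroup (Matrix.ProjectiveSpecialLinearGroup (Fin 2) F), H.index = 11 ∧ Nonempty (H ≃* alternatingGroup (Fin 5)) ∧ MulAction.IsMultiplyPretransitive (Matrix.ProjectiveSpecialLinearGroup (Fin 2) F) ((Matrix.ProjectiveSpecialLinearGroup (Fin 2) F) ⧸ H) 2 := by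
  let e := modelEquiv hF
  let eH : ↥(H.comap e.toMonoidHom) ≃* ↥H :=
    { toFun := fun x => ⟨e x.1, x.2⟩
      invFun := fun y => ⟨e.symm y.1, by
        show e (e.symm y.1) ∈ H
        rw [e.apply_symm_apply]; exact y.2⟩
      left_inv := fun x => Subtype.ext (e.symm_apply_apply x.1)
      right_inv := fun y => Subtype.ext (e.apply_symm_apply y.1)
      map_mul' := fun x y => Subtype.ext (map_mul e x.1 y.1) }
  refine ⟨H.comap e.toMonoidHom, ?_, ⟨eH.trans H_equiv⟩, ?_⟩
  · rw [Subgroup.index_comap_of_surjective H (f := e.toMonoidHom) e.surjective]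
    exact index_of_card_sixty ((Nat.card_congr H_equiv.toEquiv).trans card_A5)
  · apply two_pretransitive_of_double_coset (H.comap e.toMonoidHom) (e.symm (ofCode r0))
    · intro h
      apply ofCode_r0_notMem
      simpa using h
    · intro g hg
      obtain ⟨h, hh, hgh⟩ := double_coset (e g) hg
      refine ⟨e.symm h, by simpa using hh, ?_⟩
      show e (g⁻¹ * (e.symm h * e.symm (ofCode r0))) ∈ H
      rw [map_mul, map_mul, map_inv, e.apply_symm_apply, e.apply_symm_apply]
      exact hgh

end Cfsg.Agent.S2542
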