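import Cfsg.Statements.S2543
import Cfsg.Agent.Lib.KnownSimple.PSLEleven

set_option autoImplicit false
open scoped Pointwise
open Cfsg

namespace Cfsg.Agent.S2543
open CfsgLib.KnownSimple.PSLEleven

theorem conj_map_injective {M : Subgroup P11} (hM : Nat.card M = 60) {a b : P11}
    (h : M.map (MulAut.conj a).toMonoidHom = M.map (MulAut.conj b).toMonoidHom) : a⁻¹ * b ∈ M := by
  have hn : a⁻¹ * b ∈ Subgroup.normalizer (M : Set P11) := by
    rw [Subgroup.mem_normalizer_iff]
    intro x
    have := SetLike.ext_iff.1 h (b * x * b⁻¹)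
    simp only [Subgroup.mem_map_equiv, MulAut.conj_symm_apply] at this
    have e1 : a⁻¹ * (b * x * b⁻¹) * a = a⁻¹ * b * x * (a⁻¹ * b)⁻¹ := by group
    have e2 : b⁻¹ * (b * x * b⁻¹) * b = x := by group
    rw [e1, e2] at this
    exact this.symm
  rwa [normalizer_eq hM] at hn

/-- The conjugates of a subgroup, indexed by cosets. -/
noncomputable def conjOfCoset (M : Subgroup P11) : P11 ⧸ M → Subgroup P11 := fun q =>
  M.map (MulAut.conj q.out).toMonoidHom

theorem conjOfCoset_mk (M : Subgroup P11) (g : P11) :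
    conjOfCoset M (g : P11 ⧸ M) = M.map (MulAut.conj g).toMonoidHom := by
  obtain ⟨m, hm⟩ := QuotientGroup.mk_out_eq_mul M g
  unfold conjOfCoset
  rw [hm]
  ext x
  simp only [Subgroup.mem_map_equiv, MulAut.conj_symm_apply]
  have e1 : (g * m)⁻¹ * x * (g * m) = (m : P11)⁻¹ * (g⁻¹ * x * g) * m := by group
  rw [e1]
  constructor
  · intro h
    have := M.mul_mem (M.mul_mem m.2 h) (M.inv_mem m.2)
    simpa [mul_assoc] using this
  · intro h
    exact M.mul_mem (M.mul_mem (M.inv_mem m.2) h) m.2

theorem count_A5 :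
    Nat.card {L : Subgroup P11 // Nonempty (L ≃* alternatingGroup (Fin 5))} = 22 := by
  have hH : Nat.card H = 60 := (Nat.card_congr H_equiv.toEquiv).trans card_A5
  have hK : Nat.card K = 60 := (Nat.card_congr K_equiv.toEquiv).trans card_A5
  have hmem : ∀ (M : Subgroup P11), Nonempty (M ≃* alternatingGroup (Fin 5)) → ∀ q,
      Nonempty (conjOfCoset M q ≃* alternatingGroup (Fin 5)) := fun M ⟨f⟩ q =>
    ⟨((MulAut.conj q.out).subgroupMap M).symm.trans f⟩
  let Φ : (P11 ⧸ H) ⊕ (P11 ⧸ K) → {L : Subgroup P11 // Nonempty (L ≃* alternatingGroup (Fin 5))} :=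
    Sum.elim (fun q => ⟨conjOfCoset H q, hmem H ⟨H_equiv⟩ q⟩)
      (fun q => ⟨conjOfCoset K q, hmem K ⟨K_equiv⟩ q⟩)
  have hinj : ∀ (M : Subgroup P11), Nat.card M = 60 → Function.Injective (conjOfCoset M) := by
    intro M hM a b h
    obtain ⟨a, rfl⟩ := QuotientGroup.mk_surjective a
    obtain ⟨b, rfl⟩ := QuotientGroup.mk_surjective b
    rw [conjOfCoset_mk, conjOfCoset_mk] at h
    exact QuotientGroup.eq.2 (conj_map_injective hM h)
  have hne : ∀ a b, conjOfCoset H a ≠ conjOfCoset K b := by
    intro a b h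
    obtain ⟨a, rfl⟩ := QuotientGroup.mk_surjective a
    obtain ⟨b, rfl⟩ := QuotientGroup.mk_surjective b
    rw [conjOfCoset_mk, conjOfCoset_mk] at h
    apply not_conj (b⁻¹ * a)
    have h2 := congrArg (Subgroup.map (MulAut.conj b⁻¹).toMonoidHom) h
    rw [Subgroup.map_map, Subgroup.map_map] at h2
    convert h2 using 1
    · congr 1
      exact MonoidHom.ext fun x => by simp [mul_assoc]
    · conv_lhs => rw [← Subgroup.map_id K]
      congr 1
      exact MonoidHom.ext fun x => by simp [mul_assoc]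
  have hbij : Function.Bijective Φ := by
    refine ⟨?_, ?_⟩
    · rintro (a | a) (b | b) h <;> have h' := congrArg Subtype.val h
      · exact congrArg Sum.inl (hinj H hH h')
      · exact absurd h' (hne a b)
      · exact absurd h'.symm (hne b a)
      · exact congrArg Sum.inr (hinj K hK h')
    · rintro ⟨L, ⟨f⟩⟩
      obtain ⟨g, hg⟩ := subgroup_conj_to_H_or_K L f
      have hL : ∀ M : Subgroup P11, L.map (MulAut.conj g).toMonoidHom = M →
          conjOfCoset M (g⁻¹ : P11) = L := by
        rintro M rfl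
        rw [conjOfCoset_mk, Subgroup.map_map]
        conv_rhs => rw [← Subgroup.map_id L]
        congr 1
        exact MonoidHom.ext fun x => by simp [mul_assoc]
      rcases hg with hg | hg
      · exact ⟨Sum.inl (g⁻¹ : P11), Subtype.ext (hL H hg)⟩
      · exact ⟨Sum.inr (g⁻¹ : P11), Subtype.ext (hL K hg)⟩
  haveI : Finite P11 := Nat.finite_of_card_ne_zero (by rw [card_P11]; norm_num)
  rw [← Nat.card_congr (Equiv.ofBijective Φ hbij), Nat.card_sum, ← Subgroup.index_eq_card,
    ← Subgroup.index_eq_card, index_of_card_sixty hH, index_of_card_sixty hK]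

/-- Let F be a field with 11 elements. PSL_2(F) has exactly 22 subgroups isomorphic to the alternating group A_5, and they form two conjugacy classes: there are two such subgroups that are not conjugate, and every such subgroup is conjugate to one of these two. -/
theorem result {F : Type*} [Field F] [Fintype F] (hF : Fintype.card F = 11) : Nat.card {H : Subgroup (Matrix.ProjectiveSpecialLinearGroup (Fin 2) F) // Nonempty (H ≃* alternatingGroup (Fin 5))} = 22 ∧ ∃ H K : Subgroup (Matrix.ProjectiveSpecialLinearGroup (Fin 2) F), Nonempty (H ≃* alternatingGroup (Fin 5)) ∧ Nonempty (K ≃* alternatingGroup (Fin 5)) ∧ (∀ g : Matrix.ProjectiveSpecialLinearGroup (Fin 2) F, MulAut.conj g • H ≠ K) ∧ ∀ L : Subgroup (Matrix.ProjectiveSpecialLinearGroup (Fin 2) F), Nonempty (L ≃* alternatingGroup (Fin 5)) → ∃ g : Matrix.ProjectiveSpecialLinearGroup (Fin 2) F, MulAut.conj g • L = H ∨ MulAut.conj g • L = K := by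
  classical
  let e := modelEquiv hF
  let ψ : Subgroup (Matrix.ProjectiveSpecialLinearGroup (Fin 2) F) ≃o Subgroup P11 := e.mapSubgroup
  have hψ : ∀ L : Subgroup (Matrix.ProjectiveSpecialLinearGroup (Fin 2) F), Nonempty (L ≃* alternatingGroup (Fin 5)) ↔ Nonempty (ψ L ≃* alternatingGroup (Fin 5)) :=
    fun L => ⟨fun ⟨f⟩ => ⟨(e.subgroupMap L).symm.trans f⟩, fun ⟨f⟩ => ⟨(e.subgroupMap L).trans f⟩⟩
  constructor
  · rw [Nat.card_congr (ψ.toEquiv.subtypeEquiv (q := fun L : Subgroup P11 => Nonempty (L ≃* alternatingGroup (Fin 5)))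
      (fun L => hψ L))]
    exact count_A5
  · have hconj : ∀ g L, ψ (MulAut.conj g • L) = (ψ L).map (MulAut.conj (e g)).toMonoidHom := by
      intro g L
      show (L.map (MulAut.conj g).toMonoidHom).map e.toMonoidHom =
        (L.map e.toMonoidHom).map (MulAut.conj (e g)).toMonoidHom
      rw [Subgroup.map_map, Subgroup.map_map]
      congr 1
      exact MonoidHom.ext fun x => by simp
    refine ⟨ψ.symm H, ψ.symm K, (hψ _).2 (by rw [ψ.apply_symm_apply]; exact ⟨H_equiv⟩),
      (hψ _).2 (by rw [ψ.apply_symm_apply]; exact ⟨K_equiv⟩), ?_, ?_⟩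
    · intro g hg
      have h := congrArg ψ hg
      rw [hconj, ψ.apply_symm_apply, ψ.apply_symm_apply] at h
      exact not_conj _ h
    · intro L hL
      obtain ⟨f⟩ := (hψ L).1 hL
      obtain ⟨g, hg⟩ := subgroup_conj_to_H_or_K _ f
      refine ⟨e.symm g, ?_⟩
      rcases hg with hg | hg
      · left; apply ψ.injective; rw [hconj, ψ.apply_symm_apply, e.apply_symm_apply, hg]
      · right; apply ψ.injective; rw [hconj, ψ.apply_symm_apply, e.apply_symm_apply, hg]

end Cfsg.Agent.S2543
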