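import Cfsg.Statements.S2544
import Cfsg.Agent.Lib.Blk4.SLSteinberg
import Cfsg.Agent.Lib.Blk4.SLFullDefect
import Cfsg.Agent.Lib.Blocks.DefectZeroVanish
import Cfsg.Agent.Lib.Characters.Monomial

set_option autoImplicit false
set_option linter.style.haveILetI false
open Cfsg

namespace Cfsg.Agent.S2544

/-- Let F be a finite field of characteristic p and consider the projective special linear group PSL_n(F) with n ≥ 2. This group has an irreducible complex character χ whose degree equals the order of a Sylow p-subgroup (namely q^(n(n−1)/2) when #F = q) and whose restriction to any Sylow p-subgroup P is the regular character of P: χ vanishes on the non-identity elements of P. (This is the Steinberg character.) -/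
theorem result {F : Type*} [Field F] [Fintype F] (p : ℕ) [Fact p.Prime] [CharP F p] (n : ℕ) (hn : 2 ≤ n) : ∃ χ : Matrix.ProjectiveSpecialLinearGroup (Fin n) F → ℂ, Cfsg.IsIrrCharacter (Matrix.ProjectiveSpecialLinearGroup (Fin n) F) χ ∧ ∀ P : Sylow p (Matrix.ProjectiveSpecialLinearGroup (Fin n) F), χ 1 = Nat.card P ∧ ∀ x : Matrix.ProjectiveSpecialLinearGroup (Fin n) F, x ∈ P → x ≠ 1 → χ x = 0 := by
  classical
  have hp : p.Prime := Fact.out
  let G := GL (Fin n) F
  letI : Fintype G := Fintype.ofFinite G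
  let χ : Cfsg.IrrCharacter G := ⟨_, CfsgLib.GLFlags.isIrrCharacter_unipotent (F := F) (n := n) (ν := fun _ => 1)
    monotone_const (by simp)⟩
  set q := Fintype.card F with hq
  have hχ1 : (χ : G → ℂ) 1 = ((q ^ (n * (n - 1) / 2) : ℕ) : ℂ) := CfsgLib.Blk4.SLBlocks.steinberg_degree
  let S := Matrix.SpecialLinearGroup (Fin n) F
  letI : Fintype S := Fintype.ofFinite S
  let f : S →* G := Matrix.SpecialLinearGroup.toGL
  have hrange : f.range = (Matrix.GeneralLinearGroup.det (n := Fin n) (R := F)).ker := by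
    ext g
    rw [MonoidHom.mem_ker]
    constructor
    · rintro ⟨s, rfl⟩
      exact Units.ext s.2
    · intro hg
      exact ⟨⟨(g : Matrix (Fin n) (Fin n) F), congrArg Units.val hg⟩, Units.ext rfl⟩
  haveI : f.range.Normal := hrange ▸ MonoidHom.normal_ker _
  letI : Fintype f.range := Fintype.ofFinite _
  obtain ⟨θ, hθ⟩ := CfsgLib.BlockCover.exists_constituent f.range χ
  obtain ⟨k, hk, hkdvd⟩ := CfsgLib.Ramified.degree_ratio_dvd_index f.range χ.2 θ.2 hθ
  obtain ⟨d, hd0, hd⟩ := CfsgLib.Characters.irr_exists_degree θ.2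
  have hidx : ¬ p ∣ f.range.index := by
    rw [hrange, Subgroup.index_ker]
    intro h
    have h2 : p ∣ q - 1 := by
      refine h.trans ((Subgroup.card_subgroup_dvd_card _).trans ?_)
      rw [Nat.card_units, Nat.card_eq_fintype_card]
    obtain ⟨e, -, he⟩ := FiniteField.card F p
    have h3 : p ∣ q := (hq.trans he) ▸ dvd_pow_self p e.ne_zero
    have := Nat.dvd_sub h3 h2
    rw [Nat.sub_sub_self Fintype.card_pos] at this
    exact hp.not_dvd_one this
  have hkd : q ^ (n * (n - 1) / 2) = k * d := by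
    rw [hχ1, hd] at hk
    exact_mod_cast hk
  have hk1 : k = 1 := by
    obtain ⟨e, -, he⟩ := FiniteField.card F p
    have h1 : k ∣ p ^ ((e : ℕ) * (n * (n - 1) / 2)) := by rw [pow_mul, ← he, ← hq, hkd]; exact dvd_mul_right _ _
    obtain ⟨i, -, hi⟩ := (Nat.dvd_prime_pow hp).1 h1
    rcases Nat.eq_zero_or_pos i with rfl | hi0
    · simpa using hi
    · exact absurd ((hi ▸ dvd_pow_self p hi0.ne' : p ∣ k).trans hkdvd) hidx
  rw [hk1, one_mul] at hkd
  let ψ : Cfsg.IrrCharacter S :=
    ⟨_, CfsgLib.Clifford.isIrrCharacter_pullback θ.2 f.rangeRestrict f.rangeRestrict_surjective⟩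
  obtain ⟨m, ρ, hρ, hchar⟩ := ψ.2
  haveI := hρ
  have hψ1 : (ψ : S → ℂ) 1 = (d : ℂ) := by
    show (θ : f.range → ℂ) (f.rangeRestrict 1) = _
    rw [map_one, hd]
  have hm : (Module.finrank ℂ (Fin m → ℂ) : ℂ) = (d : ℂ) := by
    rw [← hψ1, ← hchar, Representation.char_one]
  have hker : ∀ z ∈ Subgroup.center S, ρ z = 1 := by
    intro z hz
    obtain ⟨c, hc⟩ := CfsgLib.CharScalar.center_scalar ρ hz
    have h1 : ρ.character z = ρ.character 1 := by
      rw [hchar]
      show (ψ : S → ℂ) z = (ψ : S → ℂ) 1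
      show (θ : f.range → ℂ) (f.rangeRestrict z) = (θ : f.range → ℂ) (f.rangeRestrict 1)
      rw [map_one]
      refine CfsgLib.CharMonomial.constituent_eq_degree
        (CfsgLib.Clifford.isCharacter_subtype (CfsgLib.Characters.isCharacter_of_irr χ.2) f.range) hθ ?_
      obtain ⟨a, -, ha⟩ := Matrix.SpecialLinearGroup.mem_center_iff.1 hz
      have hfz : ∀ w : G, f z * w = w * f z := fun w => Units.ext (by
        show (z : Matrix (Fin n) (Fin n) F) * (w : Matrix (Fin n) (Fin n) F) = (w : Matrix (Fin n) (Fin n) F) * z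
        rw [← ha]
        exact (Matrix.scalar_commute a (fun r => mul_comm a r) _).eq)
      show Cfsg.unipotentCharacterGL n F (fun _ => 1) (f z) = Cfsg.unipotentCharacterGL n F (fun _ => 1) 1
      refine Finset.sum_congr rfl fun κ _ => ?_
      split_ifs
      swap
      · rfl
      refine congrArg (_ * ·) ?_
      have hmem : ∀ ν : Fin n → ℕ, f z ∈ Cfsg.parabolicGL n F ν := fun ν i j hij => by
        show (z : Matrix (Fin n) (Fin n) F) i j = 0
        rw [← ha, Matrix.scalar_apply, Matrix.diagonal_apply_ne]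
        rintro rfl
        exact absurd hij (by simp)
      show (Nat.card _ : ℂ) = (Nat.card _ : ℂ)
      refine congrArg Nat.cast (congrArg (fun T : Set _ => Nat.card T) (Set.ext fun x => ?_))
      induction x using QuotientGroup.induction_on with
      | _ y =>
        simp only [MulAction.mem_fixedBy, one_smul, iff_true]
        rw [MulAction.Quotient.smul_mk, smul_eq_mul, hfz y]
        exact QuotientGroup.mk_mul_of_mem _ (hmem _)
    rw [Representation.char_one, Representation.character, hc, CfsgLib.CharScalar.trace_smul_one] at h1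
    have hne : (Module.finrank ℂ (Fin m → ℂ) : ℂ) ≠ 0 := by
      rw [hm]; exact Nat.cast_ne_zero.2 hd0.ne'
    rw [mul_left_eq_self₀] at h1
    rw [hc, h1.resolve_right hne, one_smul]
  let σ : Representation ℂ (Matrix.ProjectiveSpecialLinearGroup (Fin n) F) (Fin m → ℂ) :=
    QuotientGroup.lift (Subgroup.center S) ρ hker
  have hσ : ∀ s : S, σ (QuotientGroup.mk s) = ρ s := fun s => rfl
  have hσirr : σ.IsIrreducible := by
    rw [CfsgLib.Characters.isIrreducible_iff] at hρ ⊢
    exact ⟨hρ.1, fun U hU => hρ.2 U fun g v hv => by rw [← hσ]; exact hU _ v hv⟩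
  refine ⟨σ.character, ⟨m, σ, hσirr, rfl⟩, fun P => ?_⟩
  have hσχ : ∀ s : S, σ.character (QuotientGroup.mk s) = (ψ : S → ℂ) s := fun s => by
    rw [← hchar]; rfl
  have hfac : (Nat.card S).factorization p = (Nat.card G).factorization p := by
    rw [← Subgroup.card_mul_index f.range, Nat.factorization_mul Nat.card_pos.ne' Subgroup.index_ne_zero_of_finite,
      Finsupp.add_apply, Nat.factorization_eq_zero_of_not_dvd hidx, add_zero,
      Nat.card_congr (MonoidHom.ofInjective (f := f) Matrix.SpecialLinearGroup.toGL_injective).toEquiv.symm]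
  have hdeg : d = p ^ (Nat.card S).factorization p := by
    rw [hfac, ← hkd, ← CfsgLib.ClassicalGroups.factorization_card_gl (F := F) p n]
  have hZ : ¬ p ∣ Nat.card (Subgroup.center S) := by
    intro h
    obtain ⟨⟨z, hz⟩, hzo⟩ := exists_prime_orderOf_dvd_card' p h
    rw [← Subgroup.orderOf_coe] at hzo
    obtain ⟨a, ha1, ha⟩ := Matrix.SpecialLinearGroup.mem_center_iff.1 hz
    haveI : Nonempty (Fin n) := ⟨⟨0, by omega⟩⟩
    have hzp : (z : Matrix (Fin n) (Fin n) F) ^ p = 1 := by
      rw [← Matrix.SpecialLinearGroup.coe_pow, ← hzo, pow_orderOf_eq_one]; rfl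
    rw [← ha, ← map_pow, ← map_one (Matrix.scalar (Fin n) (α := F))] at hzp
    have hap : a ^ p = 1 := Matrix.scalar_inj.1 hzp
    have ha' : a = 1 := sub_eq_zero.1 (eq_zero_of_pow_eq_zero (n := p) (by rw [sub_pow_char (p := p), hap, one_pow, sub_self]))
    have hz1 : z = 1 := Subtype.ext (by rw [← ha, ha', map_one]; rfl)
    simp only [hz1, orderOf_one] at hzo
    exact hp.one_lt.ne hzo
  constructor
  · rw [← QuotientGroup.mk_one, hσχ, hψ1, hdeg, P.card_eq_multiplicity]
    have hPS : (Nat.card S).factorization p =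
        (Nat.card (Matrix.ProjectiveSpecialLinearGroup (Fin n) F)).factorization p := by
      rw [← Subgroup.card_mul_index (Subgroup.center S), Nat.factorization_mul Nat.card_pos.ne' Subgroup.index_ne_zero_of_finite,
        Finsupp.add_apply, Nat.factorization_eq_zero_of_not_dvd hZ, zero_add]
      rfl
    rw [hPS]
  · intro x hx hx1
    obtain ⟨s, rfl⟩ := QuotientGroup.mk_surjective x
    rw [hσχ]
    refine CfsgLib.DefectZeroVanish.vanish_of_defect_zero (p := p) ψ ?_ ?_
    · have : Cfsg.charDegree (ψ : S → ℂ) = d := by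
        show ⌊((ψ : S → ℂ) 1).re⌋₊ = d
        rw [hψ1, Complex.natCast_re, Nat.floor_natCast]
      rw [this, hdeg]
    · obtain ⟨i, hi⟩ := (IsPGroup.iff_orderOf.1 P.2) ⟨_, hx⟩
      rw [← Subgroup.orderOf_coe] at hi
      rcases Nat.eq_zero_or_pos i with rfl | hi0
      · exact absurd (orderOf_eq_one_iff.1 (hi.trans (pow_zero p))) hx1
      · exact ((hi ▸ dvd_pow_self p hi0.ne').trans (orderOf_map_dvd (QuotientGroup.mk' (Subgroup.center S)) s))

end Cfsg.Agent.S2544
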