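import Cfsg.Statements.S2550
import Cfsg.Agent.Classical.SLBasic

set_option autoImplicit false
open Cfsg

namespace Cfsg.Agent.S2550

open Matrix

/-- An element of order `6` of `SL_4(2)`. -/
def sixElt : Matrix.SpecialLinearGroup (Fin 4) (ZMod 2) :=
  ⟨!![0, 1, 0, 0; 1, 1, 0, 0; 0, 0, 1, 1; 0, 0, 0, 1], by decide +kernel⟩

theorem orderOf_sixElt : orderOf sixElt = 6 := by
  rw [orderOf_eq_iff (by norm_num)]
  refine ⟨by decide +kernel, fun m hm hm0 => ?_⟩
  interval_cases m <;> decide +kernel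

theorem exists_order_six {F : Type*} [Field F] [Fintype F] (hF : Fintype.card F = 2) :
    ∃ x : Matrix.ProjectiveSpecialLinearGroup (Fin 4) F, orderOf x = 6 := by
  let e : ZMod 2 ≃+* F := ZMod.ringEquivOfPrime F Nat.prime_two hF
  let φ := Matrix.SpecialLinearGroup.map (n := Fin 4) e.toRingHom
  have hφ : Function.Injective φ := by
    intro a b h
    apply Subtype.ext
    ext i j
    exact e.injective (congrArg (fun M : Matrix.SpecialLinearGroup (Fin 4) F => M.1 i j) h)
  refine ⟨QuotientGroup.mk (φ sixElt), ?_⟩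
  have hc : Subgroup.center (Matrix.SpecialLinearGroup (Fin 4) F) = ⊥ := by
    rw [← Subgroup.card_eq_one, Classical.card_center_sl 4 (by norm_num), hF]
    norm_num
  have hinj : Function.Injective
      (QuotientGroup.mk' (Subgroup.center (Matrix.SpecialLinearGroup (Fin 4) F))) := by
    rw [← MonoidHom.ker_eq_bot_iff, QuotientGroup.ker_mk', hc]
  exact (orderOf_injective _ hinj _).trans ((orderOf_injective _ hφ _).trans orderOf_sixElt)

theorem commute_invol_three {K : Type*} [Field K] [CharP K 2] (h3 : ∀ x : K, x ≠ 0 → x ^ 3 = 1)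
    (N B : Matrix (Fin 3) (Fin 3) K) (hN : N ≠ 0) (hN2 : N * N = 0) (hc : Commute N B)
    (hB : B.det = 1) (r : K) (hr : B ^ 3 = r • 1) :
    ∃ t : K, B = t • 1 := by
  classical
  obtain ⟨w, hw⟩ : ∃ w, N *ᵥ w ≠ 0 := by
    by_contra h
    push Not at h
    exact hN (Matrix.ext_of_mulVec_single fun i => by rw [h, zero_mulVec])
  set u := N *ᵥ w with hu
  obtain ⟨v, hv, hvu⟩ : ∃ v, N *ᵥ v = 0 ∧ v ∉ Submodule.span K {u} := by
    by_contra h
    push Not at h
    have hle : LinearMap.ker N.toLin' ≤ Submodule.span K {u} := fun v hv => h v hv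
    have h1 := Submodule.finrank_mono hle
    rw [finrank_span_singleton hw] at h1
    have h2 : LinearMap.range N.toLin' ≤ LinearMap.ker N.toLin' := by
      rintro _ ⟨x, rfl⟩
      rw [LinearMap.mem_ker, Matrix.toLin'_apply, Matrix.toLin'_apply, mulVec_mulVec, hN2, zero_mulVec]
    have h3 := Submodule.finrank_mono h2
    have h4 := LinearMap.finrank_range_add_finrank_ker N.toLin'
    rw [Module.finrank_fin_fun] at h4
    omega
  let P : Matrix (Fin 3) (Fin 3) K := Matrix.of fun i j => (![u, v, w] : Fin 3 → Fin 3 → K) j i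
  have hNu : N *ᵥ u = 0 := by rw [hu, mulVec_mulVec, hN2, zero_mulVec]
  have hP : IsUnit P := by
    rw [← Matrix.mulVec_injective_iff_isUnit]
    intro a b hab
    have h0 : P *ᵥ (a - b) = 0 := by rw [mulVec_sub, hab, sub_self]
    set c := a - b with hcdef
    have hPc : c 0 • u + c 1 • v + c 2 • w = 0 := by
      rw [← h0]
      ext i
      simp [P, mulVec, dotProduct, Fin.sum_univ_three, mul_comm]
    have h2 : c 2 = 0 := by
      have := congrArg (N *ᵥ ·) hPc
      simp only [mulVec_add, mulVec_smul, hNu, hv, smul_zero, zero_add, mulVec_zero, ← hu] at this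
      exact (smul_eq_zero.1 this).resolve_right hw
    rw [h2, zero_smul, add_zero] at hPc
    have h1 : c 1 = 0 := by
      by_contra h1
      apply hvu
      rw [Submodule.mem_span_singleton]
      refine ⟨-(c 1)⁻¹ * c 0, ?_⟩
      have hh : c 1 • v = -(c 0 • u) := eq_neg_of_add_eq_zero_right hPc
      rw [mul_smul, ← inv_smul_smul₀ h1 v, hh, smul_neg, neg_smul]
    rw [h1, zero_smul, add_zero] at hPc
    have h0' : c 0 = 0 := (smul_eq_zero.1 hPc).resolve_right hw
    rw [← sub_eq_zero]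
    funext i
    fin_cases i <;> assumption
  obtain ⟨U, hU⟩ := hP
  have hNP : N * P = P * single 0 2 1 := by
    ext i j
    have h : (N * P) i j = (N *ᵥ (![u, v, w] : Fin 3 → Fin 3 → K) j) i := rfl
    rw [h]
    fin_cases j <;>
      simp [hNu, hv, ← hu, P, Matrix.mul_apply, Fin.sum_univ_three, Matrix.single_apply]
  set B' : Matrix (Fin 3) (Fin 3) K := ((U⁻¹ : (Matrix (Fin 3) (Fin 3) K)ˣ) : Matrix _ _ K) * B * P with hB'
  have hS : single 0 2 1 * B' = B' * single 0 2 1 := by
    rw [hB', ← hU] at *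
    rw [mul_assoc _ B, mul_assoc _ (B * _), mul_assoc B, ← hNP, ← mul_assoc B, ← hc.eq, mul_assoc N,
      ← mul_assoc (single (0 : Fin 3) 2 (1 : K))]
    have : single (0 : Fin 3) 2 (1 : K) * ((U⁻¹ : (Matrix (Fin 3) (Fin 3) K)ˣ) : Matrix _ _ K) =
        ((U⁻¹ : (Matrix (Fin 3) (Fin 3) K)ˣ) : Matrix _ _ K) * N := by
      rw [Units.eq_inv_mul_iff_mul_eq, ← mul_assoc, ← hNP, mul_assoc, Units.mul_inv, mul_one]
    rw [this, mul_assoc]
  have e10 := congrFun (congrFun hS 1) 2
  have e00 := congrFun (congrFun hS 0) 2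
  have e20 := congrFun (congrFun hS 2) 2
  have e21 := congrFun (congrFun hS 0) 1
  simp [Matrix.mul_apply, Fin.sum_univ_three, Matrix.single_apply] at e10 e00 e20 e21
  have hdet : B'.det = 1 := by
    rw [hB', ← hU, Matrix.det_mul, Matrix.det_mul, mul_comm, ← mul_assoc, ← Matrix.det_mul,
      Units.mul_inv, Matrix.det_one, one_mul, hB]
  have hpow : B' ^ 3 = r • 1 := by
    rw [hB', ← hU, Units.conj_pow', hr, Matrix.mul_smul, Matrix.smul_mul, mul_one, Units.inv_mul]
  rw [Matrix.det_fin_three] at hdet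
  have z10 : B' 1 0 = 0 := by first | exact e10 | exact e10.symm
  have z20 : B' 2 0 = 0 := by first | exact e20 | exact e20.symm
  have z21 : B' 2 1 = 0 := by first | exact e21 | exact e21.symm
  rw [z10, z20, z21, e00] at hdet
  have hl : B' 0 0 ≠ 0 := by
    intro h; rw [h] at hdet; simp at hdet
  have hμ : B' 1 1 = B' 0 0 := by
    have := h3 _ hl
    linear_combination (B' 0 0) * hdet - (B' 1 1) * this
  set N' := B' - B' 0 0 • (1 : Matrix (Fin 3) (Fin 3) K) with hN'
  have hN'3 : N' * N' * N' = 0 := by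
    ext i j
    fin_cases i <;> fin_cases j <;>
      simp [hN', Matrix.mul_apply, Fin.sum_univ_three, Matrix.one_apply, z10, z20, z21, hμ, e00]
  have hcl : Commute B' (B' 0 0 • (1 : Matrix (Fin 3) (Fin 3) K)) :=
    (Commute.one_right B').smul_right _
  have h4 : B' ^ 4 = B' 0 0 • 1 := by
    haveI : CharP (Matrix (Fin 3) (Fin 3) K) 2 := inferInstance
    have h2 : ∀ {X Y : Matrix (Fin 3) (Fin 3) K}, Commute X Y → (X - Y) ^ (2 ^ 2) = X ^ (2 ^ 2) - Y ^ (2 ^ 2) :=
      fun h => sub_pow_char_pow_of_commute _ _ h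
    have := h2 hcl
    rw [← hN', show (2 : ℕ) ^ 2 = 4 from rfl, pow_succ, pow_succ, pow_two, hN'3, zero_mul, eq_comm,
      sub_eq_zero] at this
    rw [this, smul_pow, one_pow]
    congr 1
    rw [show 4 = 3 + 1 from rfl, pow_succ, h3 _ hl, one_mul]
  have hr0 : r ≠ 0 := by
    rintro rfl
    rw [zero_smul] at hpow
    rw [pow_succ, hpow, zero_mul] at h4
    exact hl (by simpa using (congrFun (congrFun h4.symm 0) 0))
  rw [pow_succ, hpow, Matrix.smul_mul, one_mul] at h4
  have hsc : B' = (r⁻¹ * B' 0 0) • 1 := by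
    conv_lhs => rw [← inv_smul_smul₀ hr0 B', h4, smul_smul]
  clear_value B'
  generalize r⁻¹ * B' 0 0 = t at hsc
  refine ⟨t, ?_⟩
  have := congrArg (fun M => (U : Matrix (Fin 3) (Fin 3) K) * M * ((U⁻¹ : (Matrix (Fin 3) (Fin 3) K)ˣ) : Matrix _ _ K)) hsc
  rw [hB', ← hU] at this
  simpa [mul_assoc, Units.mul_inv, Units.mul_inv_cancel_left] using this

theorem no_order_six {K : Type*} [Field K] [Fintype K] (hK : Fintype.card K = 4)
    (x : Matrix.ProjectiveSpecialLinearGroup (Fin 3) K) : orderOf x ≠ 6 := by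
  intro hx
  haveI : CharP K 2 := charP_of_card_eq_prime_pow (f := 2) (by rw [← Nat.card_eq_fintype_card] at hK; simpa using hK)
  have h3 : ∀ a : K, a ≠ 0 → a ^ 3 = 1 := fun a ha => by
    have := FiniteField.pow_card_sub_one_eq_one a ha
    rwa [hK] at this
  obtain ⟨X, rfl⟩ := QuotientGroup.mk_surjective x
  have hcz : ∀ Z : Matrix.SpecialLinearGroup (Fin 3) K, Z ∈ Subgroup.center _ →
      ∃ r : K, r ^ 3 = 1 ∧ (Z : Matrix (Fin 3) (Fin 3) K) = r • 1 := by
    intro Z hZ
    obtain ⟨r, hr, hr'⟩ := Matrix.SpecialLinearGroup.mem_center_iff.1 hZ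
    exact ⟨r, by simpa using hr, by rw [← hr', Matrix.scalar_apply, Matrix.smul_one_eq_diagonal]⟩
  have hpow : ∀ k, (X ^ k) ∈ Subgroup.center _ ↔ 6 ∣ k := by
    intro k
    rw [← QuotientGroup.eq_one_iff, QuotientGroup.mk_pow, ← hx, orderOf_dvd_iff_pow_eq_one]
  obtain ⟨z, hz, hz'⟩ := hcz _ ((hpow 6).2 dvd_rfl)
  have hz6 : (X : Matrix (Fin 3) (Fin 3) K) ^ 6 = z • 1 := by
    rw [← hz', Matrix.SpecialLinearGroup.coe_pow]
  set A := z • (X : Matrix (Fin 3) (Fin 3) K) ^ 3 with hA
  set B := (X : Matrix (Fin 3) (Fin 3) K) ^ 2 with hB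
  have hA2 : A * A = 1 := by
    rw [hA, Matrix.smul_mul, Matrix.mul_smul, ← pow_add, hz6, smul_smul, smul_smul, ← pow_two, ← pow_succ, hz,
      one_smul]
  by_cases hA1 : A = 1
  · have hz0 : z ≠ 0 := by rintro rfl; simp at hz
    have h6 : X ^ 3 ∈ Subgroup.center _ := by
      rw [Matrix.SpecialLinearGroup.mem_center_iff]
      refine ⟨z⁻¹, by rw [Fintype.card_fin, inv_pow, hz, inv_one], ?_⟩
      rw [Matrix.scalar_apply, ← Matrix.smul_one_eq_diagonal, ← hA1, hA, inv_smul_smul₀ hz0,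
        Matrix.SpecialLinearGroup.coe_pow]
    exact absurd ((hpow 3).1 h6) (by norm_num)
  have hN2 : (A - 1) * (A - 1) = 0 := by
    haveI : CharP (Matrix (Fin 3) (Fin 3) K) 2 := inferInstance
    rw [← pow_two, sub_pow_char_of_commute _ (Commute.one_right A), pow_two, hA2, one_pow, sub_self]
  have hcomm : Commute (A - 1) B :=
    ((((Commute.refl (X : Matrix (Fin 3) (Fin 3) K)).pow_pow 3 2).smul_left z).sub_left
      (Commute.one_left B))
  obtain ⟨t, ht⟩ := commute_invol_three h3 (A - 1) B (sub_ne_zero.2 hA1) hN2 hcomm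
    (by rw [hB, Matrix.det_pow, X.2, one_pow]) z (by rw [hB, ← pow_mul, hz6])
  have h2 : X ^ 2 ∈ Subgroup.center _ := by
    rw [Matrix.SpecialLinearGroup.mem_center_iff]
    refine ⟨t, ?_, ?_⟩
    · have := congrArg Matrix.det ht
      rw [hB, Matrix.det_pow, X.2, one_pow, Matrix.det_smul, Matrix.det_one, mul_one] at this
      exact this.symm
    · rw [Matrix.scalar_apply, ← Matrix.smul_one_eq_diagonal, ← ht, hB,
        Matrix.SpecialLinearGroup.coe_pow]
  exact absurd ((hpow 2).1 h2) (by norm_num)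


/-- Let F be a field with 2 elements and K a field with 4 elements. PSL_4(F) and PSL_3(K) have the same order (20160) but are not isomorphic. -/
theorem result {F K : Type*} [Field F] [Fintype F] [Field K] [Fintype K] (hF : Fintype.card F = 2) (hK : Fintype.card K = 4) : Nat.card (Matrix.ProjectiveSpecialLinearGroup (Fin 4) F) = Nat.card (Matrix.ProjectiveSpecialLinearGroup (Fin 3) K) ∧ ¬ Nonempty (Matrix.ProjectiveSpecialLinearGroup (Fin 4) F ≃* Matrix.ProjectiveSpecialLinearGroup (Fin 3) K) := by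
  refine ⟨?_, fun ⟨e⟩ => ?_⟩
  · have h1 := Classical.card_psl_mul (F := F) 4 (by norm_num)
    have h2 := Classical.card_psl_mul (F := K) 3 (by norm_num)
    rw [hF] at h1
    rw [hK] at h2
    simp [Fin.prod_univ_succ] at h1 h2
    omega
  · obtain ⟨x, hx⟩ := exists_order_six hF
    exact no_order_six hK (e x) ((e.orderOf_eq x).trans hx)

end Cfsg.Agent.S2550
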