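import Cfsg.Statements.S2551
import Cfsg.Agent.Lib.KnownSimple.GLFourTwo

set_option autoImplicit false
open Cfsg

namespace Cfsg.Agent.S2551

open MulAction

/-- A transitive action on `15` points with a rank-three obstruction is doubly transitive. -/
theorem two_trans_fifteen {H X : Type*} [Group H] [MulAction H X] [Fintype X] [DecidableEq X]
    (hX : Fintype.card X = 15) [IsPretransitive H X] (t : H) (ht : t * t = 1) (x₀ : X)
    (hx₀ : t • x₀ ≠ x₀)
    (h7 : ∀ v : X, ∃ g : H, g • v = v ∧ orderOf g = 7 ∧ ∀ x, g • x = x → x = v)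
    (v w v' w' : X) (hvw : v ≠ w) (hvw' : v' ≠ w') :
    ∃ g : H, g • v = v' ∧ g • w = w' := by
  classical
  let R : Finset (X × X) := Finset.univ.filter fun p => ∃ g : H, g • v = p.1 ∧ g • w = p.2
  have hR : ∀ p, p ∈ R ↔ ∃ g : H, g • v = p.1 ∧ g • w = p.2 := fun p => by simp [R]
  let O : Finset X := Finset.univ.filter fun y => ∃ g : H, g • v = v ∧ g • w = y
  have hO : ∀ y, y ∈ O ↔ ∃ g : H, g • v = v ∧ g • w = y := fun y => by simp [O]
  have hcard : R.card = 15 * O.card := by
    rw [Finset.card_eq_sum_card_fiberwise (f := Prod.fst) (t := Finset.univ) (fun _ _ => Finset.mem_univ _),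
      Finset.sum_const_nat (m := O.card), Finset.card_univ, hX]
    intro x _
    obtain ⟨g, rfl⟩ := exists_smul_eq H v x
    refine (Finset.card_nbij (fun y => (g • v, g • y)) ?_ ?_ ?_).symm
    · intro y hy
      obtain ⟨k, hk1, hk2⟩ := (hO y).1 hy
      exact Finset.mem_filter.2 ⟨(hR _).2 ⟨g * k, by rw [mul_smul, hk1], by rw [mul_smul, hk2]⟩, rfl⟩
    · intro a _ b _ hab
      exact smul_left_cancel g (Prod.ext_iff.1 hab).2
    · intro p hp
      obtain ⟨hp1, hp2⟩ := Finset.mem_filter.1 hp
      obtain ⟨k, hk1, hk2⟩ := (hR p).1 hp1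
      refine ⟨g⁻¹ • p.2, (hO _).2 ⟨g⁻¹ * k, ?_, by rw [mul_smul, hk2]⟩, ?_⟩
      · rw [mul_smul, hk1, hp2, inv_smul_smul]
      · exact Prod.ext hp2.symm (smul_inv_smul g p.2)
  have hOv : v ∉ O := by
    intro h
    obtain ⟨g, hg1, hg2⟩ := (hO v).1 h
    exact hvw (smul_left_cancel g (hg1.trans hg2.symm))
  have hdiv : 7 ∣ O.card := by
    obtain ⟨g, hgv, hg7, hgfix⟩ := h7 v
    haveI : Fact (Nat.Prime 7) := ⟨by norm_num⟩
    have hmem : ∀ y, y ∈ O → g • y ∈ O := fun y hy => by
      obtain ⟨k, hk1, hk2⟩ := (hO y).1 hy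
      exact (hO _).2 ⟨g * k, by rw [mul_smul, hk1, hgv], by rw [mul_smul, hk2]⟩
    let σ : Equiv.Perm O := Equiv.ofBijective (fun y => ⟨g • y.1, hmem _ y.2⟩)
      (Finite.injective_iff_bijective.1 fun a b h => Subtype.ext (smul_left_cancel g (Subtype.ext_iff.1 h)))
    have hpow : ∀ (n : ℕ) (y : O), ((σ ^ n) y).1 = g ^ n • y.1 := by
      intro n
      induction n with
      | zero => intro y; simp
      | succ n ih =>
        intro y
        rw [pow_succ', Equiv.Perm.mul_apply, pow_succ', mul_smul, ← ih]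
        rfl
    have h1 : σ ^ (7 ^ 1) = 1 := by
      ext y
      rw [pow_one, hpow, ← hg7, pow_orderOf_eq_one, one_smul]; rfl
    have h2 := Equiv.Perm.card_compl_support_modEq h1
    have h3 : σ.supportᶜ = ∅ := by
      rw [Finset.eq_empty_iff_forall_notMem]
      intro y hy
      rw [Finset.mem_compl, Equiv.Perm.notMem_support] at hy
      exact hOv (hgfix y.1 (Subtype.ext_iff.1 hy) ▸ y.2)
    rw [h3, Finset.card_empty, Fintype.card_coe] at h2
    exact Nat.modEq_zero_iff_dvd.1 h2.symm
  have hle : O.card ≤ 14 := by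
    have h := Finset.card_le_univ (insert v O)
    rw [Finset.card_insert_of_notMem hOv, hX] at h
    omega
  have hpos : 0 < O.card := Finset.card_pos.2 ⟨w, (hO w).2 ⟨1, one_smul _ _, one_smul _ _⟩⟩
  obtain ⟨k, hk⟩ := hdiv
  rcases (show O.card = 7 ∨ O.card = 14 by omega) with h | h
  · exfalso
    rw [h] at hcard
    have hirr : ∀ p ∈ R, p.1 ≠ p.2 := by
      intro p hp
      obtain ⟨g, hg1, hg2⟩ := (hR p).1 hp
      rw [← hg1, ← hg2]
      exact fun h' => hvw (smul_left_cancel g h')
    have hclosed : ∀ (g : H) (p : X × X), p ∈ R → (g • p.1, g • p.2) ∈ R := by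
      intro g p hp
      obtain ⟨k, hk1, hk2⟩ := (hR p).1 hp
      exact (hR _).2 ⟨g * k, by rw [mul_smul, hk1], by rw [mul_smul, hk2]⟩
    by_cases hsym : (w, v) ∈ R
    · obtain ⟨g, hg1, hg2⟩ := (hR _).1 hsym
      simp only at hg1 hg2
      have hswap : ∀ p ∈ R, p.swap ∈ R := by
        intro p hp
        obtain ⟨k, hk1, hk2⟩ := (hR p).1 hp
        exact (hR _).2 ⟨k * g, by rw [mul_smul, hg1]; exact hk2, by rw [mul_smul, hg2]; exact hk1⟩
      let e := Fintype.equivFin X
      let R₁ := R.filter fun p => e p.1 < e p.2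
      have hsplit : R = R₁ ∪ R₁.image Prod.swap := by
        ext p
        simp only [R₁, Finset.mem_union, Finset.mem_filter, Finset.mem_image]
        constructor
        · intro hp
          rcases lt_trichotomy (e p.1) (e p.2) with h' | h' | h'
          · exact Or.inl ⟨hp, h'⟩
          · exact absurd (e.injective h') (hirr p hp)
          · exact Or.inr ⟨p.swap, ⟨hswap p hp, h'⟩, p.swap_swap⟩
        · rintro (⟨hp, -⟩ | ⟨q, ⟨hq, -⟩, rfl⟩)
          · exact hp
          · exact hswap q hq
      have hdis : Disjoint R₁ (R₁.image Prod.swap) := by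
        rw [Finset.disjoint_left]
        intro p hp hp'
        obtain ⟨q, hq, rfl⟩ := Finset.mem_image.1 hp'
        exact lt_asymm (Finset.mem_filter.1 hp).2 (Finset.mem_filter.1 hq).2
      rw [hsplit, Finset.card_union_of_disjoint hdis,
        Finset.card_image_of_injective _ Prod.swap_injective] at hcard
      omega
    · have hdis : Disjoint R (R.image Prod.swap) := by
        rw [Finset.disjoint_left]
        intro p hp hp'
        obtain ⟨q, hq, rfl⟩ := Finset.mem_image.1 hp'
        obtain ⟨k, hk1, hk2⟩ := (hR q).1 hq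
        obtain ⟨l, hl1, hl2⟩ := (hR q.swap).1 hp
        refine hsym ((hR _).2 ⟨k⁻¹ * l, ?_, ?_⟩)
        · show (k⁻¹ * l) • v = w
          rw [mul_smul, hl1]; exact inv_smul_eq_iff.2 hk2.symm
        · show (k⁻¹ * l) • w = v
          rw [mul_smul, hl2]; exact inv_smul_eq_iff.2 hk1.symm
      have hsub : R ∪ R.image Prod.swap ⊆ (Finset.univ : Finset X).offDiag := by
        intro p hp
        rw [Finset.mem_offDiag]
        refine ⟨Finset.mem_univ _, Finset.mem_univ _, ?_⟩
        rcases Finset.mem_union.1 hp with h' | h'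
        · exact hirr p h'
        · obtain ⟨q, hq, rfl⟩ := Finset.mem_image.1 h'
          exact (hirr q hq).symm
      have hfull := Finset.eq_of_subset_of_card_le hsub (by
        rw [Finset.offDiag_card, Finset.card_univ, hX, Finset.card_union_of_disjoint hdis,
          Finset.card_image_of_injective _ Prod.swap_injective]
        omega)
      have hx : (x₀, t • x₀) ∈ R ∪ R.image Prod.swap := by
        rw [hfull, Finset.mem_offDiag]
        exact ⟨Finset.mem_univ _, Finset.mem_univ _, Ne.symm hx₀⟩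
      have htt : t • t • x₀ = x₀ := by rw [← mul_smul, ht, one_smul]
      have key : ∀ p ∈ R, (t • p.1, t • p.2) ≠ p.swap := by
        intro p hp h'
        exact Finset.disjoint_left.1 hdis (h' ▸ hclosed t p hp) (Finset.mem_image.2 ⟨p, hp, rfl⟩)
      rcases Finset.mem_union.1 hx with h' | h'
      · exact key _ h' (Prod.ext rfl htt)
      · obtain ⟨q, hq, hqe⟩ := Finset.mem_image.1 h'
        have hq1 : q.2 = x₀ := (Prod.ext_iff.1 hqe).1
        have hq2 : q.1 = t • x₀ := (Prod.ext_iff.1 hqe).2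
        exact key _ hq (Prod.ext (by rw [hq2, htt]; exact hq1.symm) (by rw [hq1]; exact hq2.symm))
  · have hall : insert v O = Finset.univ := Finset.eq_univ_of_card _ (by
      rw [Finset.card_insert_of_notMem hOv, hX, h])
    obtain ⟨g, rfl⟩ := exists_smul_eq H v v'
    have : g⁻¹ • w' ∈ insert v O := hall ▸ Finset.mem_univ _
    rcases Finset.mem_insert.1 this with h' | h'
    · exact absurd (by rw [← h', smul_inv_smul]) hvw'
    · obtain ⟨k, hk1, hk2⟩ := (hO _).1 h'
      exact ⟨g * k, by rw [mul_smul, hk1], by rw [mul_smul, hk2, smul_inv_smul]⟩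

theorem alt_seven_facts : ∃ a b c : alternatingGroup (Fin 7), orderOf a = 2 ∧ orderOf b = 5 ∧ orderOf c = 7 := by
  haveI : Fact (Nat.Prime 2) := ⟨Nat.prime_two⟩
  haveI : Fact (Nat.Prime 5) := ⟨by norm_num⟩
  haveI : Fact (Nat.Prime 7) := ⟨by norm_num⟩
  have h : Nat.card (alternatingGroup (Fin 7)) = 2520 := by
    rw [nat_card_alternatingGroup]; simp [Nat.factorial]
  obtain ⟨a, ha⟩ := exists_prime_orderOf_dvd_card' (G := alternatingGroup (Fin 7)) 2 (by rw [h]; norm_num)
  obtain ⟨b, hb⟩ := exists_prime_orderOf_dvd_card' (G := alternatingGroup (Fin 7)) 5 (by rw [h]; norm_num)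
  obtain ⟨c, hc⟩ := exists_prime_orderOf_dvd_card' (G := alternatingGroup (Fin 7)) 7 (by rw [h]; norm_num)
  exact ⟨a, b, c, ha, hb, hc⟩

/-- Extending permutations of `Fin 7` to `Fin 8`. -/
noncomputable def altSevenToEight : alternatingGroup (Fin 7) →* alternatingGroup (Fin 8) :=
  ((Equiv.Perm.viaEmbeddingHom (Fin.castSuccEmb (n := 7))).comp
    (alternatingGroup (Fin 7)).subtype).codRestrict _ fun π => by
      rw [Equiv.Perm.mem_alternatingGroup]
      show Equiv.Perm.sign (π.1.viaEmbedding _) = 1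
      unfold Equiv.Perm.viaEmbedding
      rw [Equiv.Perm.sign_extendDomain]
      exact π.2

theorem altSevenToEight_injective : Function.Injective altSevenToEight := fun a b h =>
  Subtype.ext (Equiv.Perm.viaEmbeddingHom_injective _ (Subtype.ext_iff.1 h))

theorem fixed_count {F : Type*} [Field F] [Fintype F] (hF : Fintype.card F = 2) {p : ℕ} [Fact p.Prime]
    (g : Matrix.GeneralLinearGroup (Fin 4) F) (hg : orderOf g = p) :
    ∃ d : ℕ, d ≤ 3 ∧ 2 ^ d ≡ 16 [MOD p] ∧
      ∀ S : Finset (Fin 4 → F), (∀ u ∈ S, (g : Matrix (Fin 4) (Fin 4) F).mulVec u = u) → S.card ≤ 2 ^ d := by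
  classical
  let W : AddSubgroup (Fin 4 → F) :=
    { carrier := {u | (g : Matrix (Fin 4) (Fin 4) F).mulVec u = u}
      add_mem' := fun {x y} hx hy => (Matrix.mulVec_add _ x y).trans (congrArg₂ (· + ·) hx hy)
      zero_mem' := Matrix.mulVec_zero _
      neg_mem' := fun {x} hx => (Matrix.mulVec_neg x _).trans (congrArg Neg.neg hx) }
  have hV : Nat.card (Fin 4 → F) = 2 ^ 4 := by
    rw [Nat.card_fun, Nat.card_fin, Nat.card_eq_fintype_card, hF]
  obtain ⟨d, hd4, hd⟩ := (Nat.dvd_prime_pow Nat.prime_two).1 (hV ▸ AddSubgroup.card_addSubgroup_dvd_card W)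
  have hS : ∀ S : Finset (Fin 4 → F), (∀ u ∈ S, (g : Matrix (Fin 4) (Fin 4) F).mulVec u = u) →
      S.card ≤ 2 ^ d := by
    intro S hS
    rw [← hd, ← Nat.card_eq_finsetCard S]
    exact Nat.card_le_card_of_injective (fun u => (⟨u.1, hS u.1 u.2⟩ : W))
      fun a b h => Subtype.ext (congrArg (fun x : W => x.1) h)
  refine ⟨d, ?_, ?_, hS⟩
  · by_contra hlt
    obtain rfl : d = 4 := by omega
    have hW : W = ⊤ := AddSubgroup.eq_top_of_card_eq W (hd.trans hV.symm)
    have h1 : g = 1 := by
      apply Units.ext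
      refine Matrix.ext_of_mulVec_single fun i => ?_
      have hm : (Pi.single i 1 : Fin 4 → F) ∈ W := hW ▸ AddSubgroup.mem_top _
      rw [Units.val_one, Matrix.one_mulVec]
      exact hm
    rw [h1, orderOf_one] at hg
    exact (Fact.out : p.Prime).one_lt.ne hg
  · let act := (g : Matrix (Fin 4) (Fin 4) F).mulVec
    have hpow : ∀ (k : ℕ) u, act^[k] u = ((g ^ k : Matrix.GeneralLinearGroup (Fin 4) F) : Matrix (Fin 4) (Fin 4) F).mulVec u := by
      intro k
      induction k with
      | zero => intro u; simp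
      | succ k ih => intro u; rw [Function.iterate_succ_apply', ih, pow_succ', Units.val_mul, ← Matrix.mulVec_mulVec]
    let σ : Equiv.Perm (Fin 4 → F) := Equiv.ofBijective act
      (Finite.injective_iff_bijective.1 (Matrix.mulVec_injective_iff_isUnit.2 g.isUnit))
    have h1 : σ ^ (p ^ 1) = 1 := by
      ext1 u
      rw [pow_one, Equiv.Perm.coe_pow]
      show act^[p] u = u
      rw [hpow, ← hg, pow_orderOf_eq_one, Units.val_one, Matrix.one_mulVec]
    have h2 := Equiv.Perm.card_compl_support_modEq h1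
    rw [← Nat.card_eq_fintype_card, hV] at h2
    have h3 : σ.supportᶜ.card = 2 ^ d := by
      rw [← hd, ← Nat.card_eq_finsetCard]
      refine Nat.card_congr (Equiv.subtypeEquivRight fun u => ?_)
      rw [Finset.mem_compl, Equiv.Perm.notMem_support]
      rfl
    rwa [h3] at h2

theorem fixed_one {F : Type*} [Field F] [Fintype F] (hF : Fintype.card F = 2)
    (g : Matrix.GeneralLinearGroup (Fin 4) F) (u : Fin 4 → F) (hu : u ≠ 0)
    (hgu : (g : Matrix (Fin 4) (Fin 4) F).mulVec u = u) : orderOf g ≠ 5 := by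
  classical
  intro hg
  haveI : Fact (Nat.Prime 5) := ⟨by norm_num⟩
  obtain ⟨d, hd, hmod, hS⟩ := fixed_count hF g hg
  have := hS {0, u} (by intro x hx; rcases Finset.mem_insert.1 hx with rfl | hx
                        · exact Matrix.mulVec_zero _
                        · rw [Finset.mem_singleton] at hx; subst hx; exact hgu)
  rw [Finset.card_pair (Ne.symm hu)] at this
  unfold Nat.ModEq at hmod
  interval_cases d <;> omega

theorem fixed_two {F : Type*} [Field F] [Fintype F] (hF : Fintype.card F = 2)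
    (g : Matrix.GeneralLinearGroup (Fin 4) F) (u u' : Fin 4 → F) (hu : u ≠ 0) (hu' : u' ≠ 0) (hne : u ≠ u')
    (hgu : (g : Matrix (Fin 4) (Fin 4) F).mulVec u = u)
    (hgu' : (g : Matrix (Fin 4) (Fin 4) F).mulVec u' = u') : orderOf g ≠ 7 := by
  classical
  intro hg
  haveI : Fact (Nat.Prime 7) := ⟨by norm_num⟩
  obtain ⟨d, hd, hmod, hS⟩ := fixed_count hF g hg
  have := hS {0, u, u'} (by intro x hx; simp only [Finset.mem_insert, Finset.mem_singleton] at hx
                            rcases hx with rfl | rfl | rfl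
                            · exact Matrix.mulVec_zero _
                            · exact hgu
                            · exact hgu')
  rw [Finset.card_eq_three.2 ⟨0, u, u', Ne.symm hu, Ne.symm hu', hne, rfl⟩] at this
  unfold Nat.ModEq at hmod
  interval_cases d <;> omega

/-- `GL_4` over isomorphic fields. -/
def glMapEquiv {F : Type*} [CommRing F] (e : F ≃+* ZMod 2) :
    Matrix.GeneralLinearGroup (Fin 4) F ≃* GL (Fin 4) (ZMod 2) :=
  Units.mapEquiv (e.mapMatrix.toMulEquiv)

open Matrix in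
theorem main_two {F : Type*} [Field F] [Fintype F] (hF : Fintype.card F = 2)
    (H : Subgroup (Matrix.GeneralLinearGroup (Fin 4) F)) (e : H ≃* alternatingGroup (Fin 7))
    (v w v' w' : Fin 4 → F) (hv : v ≠ 0) (hw : w ≠ 0) (hvw : v ≠ w) (hv' : v' ≠ 0) (hw' : w' ≠ 0)
    (hvw' : v' ≠ w') :
    ∃ g ∈ H, (g : Matrix (Fin 4) (Fin 4) F).mulVec v = v' ∧ (g : Matrix (Fin 4) (Fin 4) F).mulVec w = w' := by
  classical
  let X := {u : Fin 4 → F // u ≠ 0}
  letI act : MulAction H X :=
    { smul := fun g u => ⟨(g.1 : Matrix (Fin 4) (Fin 4) F).mulVec u.1, fun h => u.2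
        ((Matrix.mulVec_injective_iff_isUnit.2 g.1.isUnit) (h.trans (Matrix.mulVec_zero _).symm))⟩
      one_smul := fun u => Subtype.ext (Matrix.one_mulVec _)
      mul_smul := fun g k u => Subtype.ext (by
        show ((g * k : H).1 : Matrix (Fin 4) (Fin 4) F).mulVec u.1 =
          (g.1 : Matrix (Fin 4) (Fin 4) F).mulVec ((k.1 : Matrix (Fin 4) (Fin 4) F).mulVec u.1)
        simp [Matrix.mulVec_mulVec]) }
  have hX : Fintype.card X = 15 := by
    have h := Fintype.card_subtype_compl (fun u : Fin 4 → F => u = 0)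
    rw [Fintype.card_subtype_eq, Fintype.card_fun, hF, Fintype.card_fin] at h
    simpa [X] using h
  -- stabilizers in the whole group
  have hone : ∀ (g : Matrix.GeneralLinearGroup (Fin 4) F) (u : Fin 4 → F), u ≠ 0 →
      (g : Matrix (Fin 4) (Fin 4) F).mulVec u = u → orderOf g ≠ 5 := fun g u hu hgu => fixed_one hF g u hu hgu
  have htwo : ∀ (g : Matrix.GeneralLinearGroup (Fin 4) F) (u u' : Fin 4 → F), u ≠ 0 → u' ≠ 0 → u ≠ u' →
      (g : Matrix (Fin 4) (Fin 4) F).mulVec u = u → (g : Matrix (Fin 4) (Fin 4) F).mulVec u' = u' →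
      orderOf g ≠ 7 := fun g u u' a b c d f => fixed_two hF g u u' a b c d f
  obtain ⟨a, b, c, ha, hb, hc⟩ := alt_seven_facts
  have hord : ∀ x, orderOf ((e.symm x : H) : Matrix.GeneralLinearGroup (Fin 4) F) = orderOf x := fun x =>
    (Subgroup.orderOf_coe _).trans (e.symm.orderOf_eq x)
  have hfix5 : ∀ u : X, e.symm b • u ≠ u := fun u h =>
    hone _ u.1 u.2 (congrArg Subtype.val h) ((hord b).trans hb)
  have hfix7 : ∀ u u' : X, e.symm c • u = u → e.symm c • u' = u' → u = u' := by
    intro u u' h h'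
    by_contra hne
    exact htwo _ u.1 u'.1 u.2 u'.2 (fun h'' => hne (Subtype.ext h'')) (congrArg Subtype.val h)
      (congrArg Subtype.val h') ((hord c).trans hc)
  let σ := MulAction.toPerm (α := H) (β := X) (e.symm c)
  let τ := MulAction.toPerm (α := H) (β := X) (e.symm b)
  haveI : Fact (Nat.Prime 5) := ⟨by norm_num⟩
  haveI : Fact (Nat.Prime 7) := ⟨by norm_num⟩
  have hpowperm : ∀ (g : H) (k : ℕ), MulAction.toPerm (α := H) (β := X) g ^ k =
      MulAction.toPerm (α := H) (β := X) (g ^ k) := fun g k => (map_pow (MulAction.toPermHom H X) g k).symm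
  have hσ : σ ^ (7 ^ 1) = 1 := by
    rw [hpowperm, pow_one, show e.symm c ^ 7 = 1 by rw [← map_pow, orderOf_dvd_iff_pow_eq_one.1 hc.dvd, map_one]]
    exact map_one (MulAction.toPermHom H X)
  have hσfix : ∃ u₀ : X, e.symm c • u₀ = u₀ := by
    have h := Equiv.Perm.card_compl_support_modEq hσ
    rw [hX] at h
    by_contra hne
    push Not at hne
    have : σ.supportᶜ = ∅ := by
      rw [Finset.eq_empty_iff_forall_notMem]
      intro u hu
      rw [Finset.mem_compl, Equiv.Perm.notMem_support] at hu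
      exact hne u hu
    rw [this, Finset.card_empty] at h
    revert h; decide
  obtain ⟨u₀, hu₀⟩ := hσfix
  haveI : IsPretransitive H X := by
    have horb : ∀ u : X, Finset.univ.filter (fun y => y ∈ orbit H u) = Finset.univ := by
      intro u
      set T := Finset.univ.filter (fun y => y ∈ orbit H u) with hT
      have hmem : ∀ (g : H) y, y ∈ T → g • y ∈ T := fun g y hy => by
        rw [hT, Finset.mem_filter] at hy ⊢
        obtain ⟨k, rfl⟩ := hy.2
        exact ⟨Finset.mem_univ _, g * k, mul_smul _ _ _⟩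
      have modeq : ∀ (g : H) (p : ℕ) [Fact p.Prime], g ^ p = 1 →
          (T.filter (fun y => g • y = y)).card ≡ T.card [MOD p] := by
        intro g p _ hg
        let ρ : Equiv.Perm T := Equiv.ofBijective (fun y => ⟨g • y.1, hmem g _ y.2⟩)
          (Finite.injective_iff_bijective.1 fun x y h => Subtype.ext (smul_left_cancel g (Subtype.ext_iff.1 h)))
        have hρ : ∀ (n : ℕ) (y : T), ((ρ ^ n) y).1 = g ^ n • y.1 := by
          intro n
          induction n with
          | zero => intro y; simp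
          | succ n ih =>
            intro y
            rw [pow_succ', Equiv.Perm.mul_apply, pow_succ', mul_smul, ← ih]
            rfl
        have h1 : ρ ^ (p ^ 1) = 1 := by ext y; rw [pow_one, hρ, hg, one_smul]; rfl
        have h2 := Equiv.Perm.card_compl_support_modEq h1
        rw [Fintype.card_coe] at h2
        convert h2 using 1
        refine Finset.card_bij (fun y hy => ⟨y, (Finset.mem_filter.1 hy).1⟩) ?_ ?_ ?_
        · intro y hy
          rw [Finset.mem_compl, Equiv.Perm.notMem_support]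
          exact Subtype.ext (Finset.mem_filter.1 hy).2
        · intro x _ y _ h; exact congrArg Subtype.val h
        · intro y hy
          rw [Finset.mem_compl, Equiv.Perm.notMem_support] at hy
          exact ⟨y.1, Finset.mem_filter.2 ⟨y.2, congrArg Subtype.val hy⟩, rfl⟩
      have h5 := modeq (e.symm b) 5 (by rw [← map_pow, ← hb, pow_orderOf_eq_one, map_one])
      rw [show T.filter (fun y => e.symm b • y = y) = ∅ from Finset.filter_eq_empty_iff.2 fun y _ => hfix5 y,
        Finset.card_empty] at h5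
      have h7 := modeq (e.symm c) 7 (by rw [← map_pow, orderOf_dvd_iff_pow_eq_one.1 hc.dvd, map_one])
      have hle1 : (T.filter (fun y => e.symm c • y = y)).card ≤ 1 :=
        Finset.card_le_one.2 fun x hx y hy => hfix7 x y (Finset.mem_filter.1 hx).2 (Finset.mem_filter.1 hy).2
      have hle15 : T.card ≤ 15 := hX ▸ Finset.card_le_univ T
      have hpos : 0 < T.card := Finset.card_pos.2 ⟨u, by simp [hT]⟩
      apply Finset.eq_univ_of_card
      rw [hX]
      obtain ⟨n, hn, hn'⟩ : ∃ n, n ≤ 1 ∧ n ≡ T.card [MOD 7] := ⟨_, hle1, by convert h7⟩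
      unfold Nat.ModEq at h5 hn'
      generalize T.card = t at h5 hn' hle15 hpos ⊢
      interval_cases t <;> interval_cases n <;> omega
    exact ⟨fun x y => by
      have := horb x ▸ Finset.mem_univ y
      exact (Finset.mem_filter.1 this).2⟩
  obtain ⟨x₀, hx₀⟩ : ∃ x₀ : X, e.symm a • x₀ ≠ x₀ := by
    by_contra h
    push Not at h
    have h1 : ((e.symm a : H) : Matrix.GeneralLinearGroup (Fin 4) F) = 1 := by
      apply Units.ext
      refine Matrix.ext_of_mulVec_single fun i => ?_
      rw [Units.val_one, Matrix.one_mulVec]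
      exact congrArg Subtype.val (h ⟨Pi.single i 1, by simp⟩)
    have := hord a
    rw [h1, orderOf_one, ha] at this
    exact absurd this (by norm_num)
  have h7' : ∀ u : X, ∃ g : H, g • u = u ∧ orderOf g = 7 ∧ ∀ x, g • x = x → x = u := by
    intro u
    obtain ⟨k, rfl⟩ := exists_smul_eq H u₀ u
    refine ⟨k * e.symm c * k⁻¹, ?_, ?_, fun x hx => ?_⟩
    · rw [mul_smul, mul_smul, inv_smul_smul, hu₀]
    · rw [← MulAut.conj_apply, MulEquiv.orderOf_eq, e.symm.orderOf_eq, hc]
    · have : e.symm c • (k⁻¹ • x) = k⁻¹ • x := by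
        rw [mul_smul, mul_smul] at hx
        exact eq_inv_smul_iff.2 hx
      exact inv_smul_eq_iff.1 (hfix7 _ _ this hu₀)
  obtain ⟨g, hg1, hg2⟩ := two_trans_fifteen (H := H) hX (e.symm a)
    (by rw [← map_mul, ← pow_two, ← ha, pow_orderOf_eq_one, map_one]) x₀ hx₀ h7'
    ⟨v, hv⟩ ⟨w, hw⟩ ⟨v', hv'⟩ ⟨w', hw'⟩ (fun h => hvw (congrArg Subtype.val h))
    (fun h => hvw' (congrArg Subtype.val h))
  exact ⟨g.1, g.2, congrArg Subtype.val hg1, congrArg Subtype.val hg2⟩

/-- Let F be the field with 2 elements. GL_4(F) (≅ A_8) has a subgroup isomorphic to the alternating group A_7, and every such subgroup acts 2-transitively on the 15 non-zero vectors of F⁴: any ordered pair of distinct non-zero vectors is carried to any other by some element of the subgroup. -/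
theorem result {F : Type*} [Field F] [Fintype F] (hF : Fintype.card F = 2) : (∃ H : Subgroup (Matrix.GeneralLinearGroup (Fin 4) F), Nonempty (H ≃* alternatingGroup (Fin 7))) ∧ ∀ H : Subgroup (Matrix.GeneralLinearGroup (Fin 4) F), Nonempty (H ≃* alternatingGroup (Fin 7)) → ∀ v w v' w' : Fin 4 → F, v ≠ 0 → w ≠ 0 → v ≠ w → v' ≠ 0 → w' ≠ 0 → v' ≠ w' → ∃ g ∈ H, (g : Matrix (Fin 4) (Fin 4) F).mulVec v = v' ∧ (g : Matrix (Fin 4) (Fin 4) F).mulVec w = w' := by
  obtain ⟨f⟩ : Nonempty (Matrix.GeneralLinearGroup (Fin 4) F ≃* alternatingGroup (Fin 8)) :=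
    ⟨(glMapEquiv (ZMod.ringEquivOfPrime F Nat.prime_two hF).symm).trans
      CfsgLib.KnownSimple.GLFourTwo.glFourTwoEquivAlt⟩
  have hinj : Function.Injective (f.symm.toMonoidHom.comp altSevenToEight) :=
    f.symm.injective.comp altSevenToEight_injective
  exact ⟨⟨_, ⟨(MonoidHom.ofInjective hinj).symm⟩⟩,
    fun H ⟨e⟩ v w v' w' hv hw hvw hv' hw' hvw' => main_two hF H e v w v' w' hv hw hvw hv' hw' hvw'⟩

end Cfsg.Agent.S2551
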