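import Cfsg.Statements.S2552
-- import your own Cfsg.Agent.* helpers here

set_option autoImplicit false
open Cfsg

namespace Cfsg.Agent.S2552

/-- Let F be a finite field and n ≥ 1. For every k, the special linear group SL_n(F) acts transitively on the set of k-dimensional subspaces of F^n: any two subspaces of the same dimension are carried onto each other by some matrix of determinant 1. -/
theorem result {F : Type*} [Field F] [Fintype F] (n : ℕ) (hn : 1 ≤ n) (U₁ U₂ : Submodule F (Fin n → F)) (h : Module.finrank F U₁ = Module.finrank F U₂) : ∃ g : Matrix.SpecialLinearGroup (Fin n) F, U₁.map ((Matrix.SpecialLinearGroup.toLin' g : (Fin n → F) ≃ₗ[F] (Fin n → F)) : (Fin n → F) →ₗ[F] (Fin n → F)) = U₂ := by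
  classical
  obtain ⟨e₁⟩ : Nonempty (U₁ ≃ₗ[F] U₂) := ⟨LinearEquiv.ofFinrankEq _ _ h⟩
  obtain ⟨C₁, hC₁⟩ := U₁.exists_isCompl
  obtain ⟨C₂, hC₂⟩ := U₂.exists_isCompl
  have hC : Module.finrank F C₁ = Module.finrank F C₂ := by
    have h1 := Submodule.finrank_add_eq_of_isCompl hC₁
    have h2 := Submodule.finrank_add_eq_of_isCompl hC₂
    omega
  let f : (Fin n → F) ≃ₗ[F] (Fin n → F) :=
    (Submodule.prodEquivOfIsCompl U₁ C₁ hC₁).symm ≪≫ₗ
      (e₁.prodCongr (LinearEquiv.ofFinrankEq _ _ hC)) ≪≫ₗ Submodule.prodEquivOfIsCompl U₂ C₂ hC₂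
  have hf : ∀ x ∈ U₁, f x ∈ U₂ := by
    intro x hx
    have := Submodule.prodEquivOfIsCompl_symm_apply_left U₁ C₁ hC₁ ⟨x, hx⟩
    simp only [f, LinearEquiv.trans_apply]
    rw [this]
    simp [Submodule.coe_prodEquivOfIsCompl']
  obtain ⟨d, hdU, hddet⟩ : ∃ d : (Fin n → F) ≃ₗ[F] (Fin n → F),
      (∀ y ∈ U₂, d y ∈ U₂) ∧ LinearMap.det (d : (Fin n → F) →ₗ[F] (Fin n → F)) =
        (LinearMap.det (f : (Fin n → F) →ₗ[F] (Fin n → F)))⁻¹ := by
    set c : Fˣ := (LinearEquiv.det f)⁻¹
    let b := (Module.finBasis F U₂).prod (Module.finBasis F C₂) |>.map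
      (Submodule.prodEquivOfIsCompl U₂ C₂ hC₂)
    have hne : Nonempty (Fin (Module.finrank F U₂) ⊕ Fin (Module.finrank F C₂)) := by
      rw [← Fintype.card_pos_iff, Fintype.card_sum, Fintype.card_fin, Fintype.card_fin,
        Submodule.finrank_add_eq_of_isCompl hC₂, Module.finrank_fin_fun]
      omega
    obtain ⟨k⟩ := hne
    let w : _ → Fˣ := fun j => if j = k then c else 1
    refine ⟨b.equiv (b.unitsSMul w) (Equiv.refl _), ?_, ?_⟩
    · intro y hy
      let d : (Fin n → F) →ₗ[F] (Fin n → F) :=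
        (b.equiv (b.unitsSMul w) (Equiv.refl _)).toLinearMap
      have hle : Submodule.map U₂.subtype ⊤ ≤ Submodule.comap d U₂ := by
        rw [← (Module.finBasis F U₂).span_eq, Submodule.map_span, Submodule.span_le]
        rintro _ ⟨_, ⟨i, rfl⟩, rfl⟩
        have hb : (U₂.subtype (Module.finBasis F U₂ i)) = b (Sum.inl i) := by
          simp [b]
        rw [SetLike.mem_coe, Submodule.mem_comap, hb]
        simp only [d, LinearEquiv.coe_coe, Module.Basis.equiv_apply, Equiv.refl_apply,
          Module.Basis.unitsSMul_apply]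
        rw [← hb]
        exact U₂.smul_mem _ (Module.finBasis F U₂ i).2
      exact hle ⟨⟨y, hy⟩, trivial, rfl⟩
    · rw [← LinearMap.det_toMatrix b]
      have : LinearMap.toMatrix b b (b.equiv (b.unitsSMul w) (Equiv.refl _)).toLinearMap =
          Matrix.diagonal (fun j => (w j : F)) := by
        ext i j
        rcases eq_or_ne i j with rfl | hij
        · simp [LinearMap.toMatrix_apply, Module.Basis.unitsSMul_apply, Units.smul_def]
        · simp [LinearMap.toMatrix_apply, Module.Basis.unitsSMul_apply, hij, hij.symm, Units.smul_def]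
      rw [this, Matrix.det_diagonal, Fintype.prod_eq_single k]
      · simp [w, c]
      · intro j hj; simp [w, hj]
  let g' : (Fin n → F) →ₗ[F] (Fin n → F) := d.toLinearMap ∘ₗ f.toLinearMap
  have hdet : LinearMap.det g' = 1 := by
    rw [LinearMap.det_comp, hddet, inv_mul_cancel₀]
    exact (LinearEquiv.isUnit_det' f).ne_zero
  refine ⟨⟨LinearMap.toMatrix' g', by rw [LinearMap.det_toMatrix', hdet]⟩, ?_⟩
  refine Submodule.eq_of_le_of_finrank_eq ?_ ?_
  · rintro _ ⟨x, hx, rfl⟩
    show Matrix.toLin' (LinearMap.toMatrix' g') x ∈ U₂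
    rw [Matrix.toLin'_toMatrix']
    exact hdU _ (hf x hx)
  · rw [LinearEquiv.finrank_map_eq, h]

end Cfsg.Agent.S2552
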