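import Cfsg.Statements.S2553
import Cfsg.Agent.Lib.KnownSimple.AEight.Main
import Cfsg.Agent.Lib.KnownSimple.GLFourTwo

set_option autoImplicit false
open Cfsg

namespace Cfsg.Agent.S2553

/-- Let H be a nontrivial subgroup of GL(4,2) (a group isomorphic to the alternating group of degree 8) whose largest normal 2-subgroup and largest normal subgroup of odd order are both trivial. Then H is isomorphic to an alternating group of degree n for some 5 ≤ n ≤ 8, to the symmetric group of degree 5 or 6, or to GL(3,2). -/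
theorem result (H : Subgroup (GL (Fin 4) (ZMod 2))) (hH : H ≠ ⊥) (hO : Cfsg.pPrimeCore 2 ↥H = ⊥) (hO2 : Cfsg.pCore 2 ↥H = ⊥) :
    (∃ n : ℕ, 5 ≤ n ∧ n ≤ 8 ∧ Nonempty (↥H ≃* alternatingGroup (Fin n))) ∨
    Nonempty (↥H ≃* Equiv.Perm (Fin 5)) ∨ Nonempty (↥H ≃* Equiv.Perm (Fin 6)) ∨ Nonempty (↥H ≃* GL (Fin 3) (ZMod 2)) := by
  classical
  let f : GL (Fin 4) (ZMod 2) →* Equiv.Perm (Fin 8) :=
    (alternatingGroup (Fin 8)).subtype.comp
      CfsgLib.KnownSimple.GLFourTwo.glFourTwoEquivAlt.toMonoidHom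
  have hf : Function.Injective f :=
    Subtype.val_injective.comp CfsgLib.KnownSimple.GLFourTwo.glFourTwoEquivAlt.injective
  let e : H ≃* H.map f := H.equivMapOfInjective f hf
  have hle : H.map f ≤ alternatingGroup (Fin 8) := by
    rintro _ ⟨g, -, rfl⟩
    exact (CfsgLib.KnownSimple.GLFourTwo.glFourTwoEquivAlt g).2
  have hne : H.map f ≠ ⊥ := fun h => hH ((Subgroup.map_eq_bot_iff_of_injective _ hf).1 h)
  exact (CfsgLib.KnownSimple.AEight.good_of_cores hle hne
    (CfsgLib.PCore.pCore_eq_bot_of_equiv e hO2)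
    (CfsgLib.PCore.pPrimeCore_eq_bot_of_equiv e hO)).isListed.congr e

end Cfsg.Agent.S2553
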