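import Cfsg.Statements.S2556
import Cfsg.Agent.Lib.SuzukiGroup.SylowAut

set_option autoImplicit false
open Cfsg

namespace Cfsg.Agent.S2556

/-- Let S be a Sylow 2-subgroup of the Suzuki group Sz(q), q = 2ⁿ with n = 2m + 1 ≥ 3 (realised as 4 × 4 matrices over the field with q elements). Then the largest normal 2-subgroup of the automorphism group of S is elementary abelian of order 2^(n²), and the automorphism group of S has order 2^(n²) · n · (q − 1). -/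
theorem result {S : Type*} [Group S] [Finite S] (m : ℕ) (hm : 1 ≤ m)
    {F : Type*} [Field F] [Fintype F] (hF : Fintype.card F = 2 ^ (2 * m + 1))
    (P : Sylow 2 ↥(Cfsg.Lie.Sz F (2 ^ (m + 1)))) (hS : Nonempty (S ≃* ↥(P : Subgroup ↥(Cfsg.Lie.Sz F (2 ^ (m + 1)))))) :
    Cfsg.IsElementaryAbelian 2 (Cfsg.pCore 2 (MulAut S)) ∧ Nat.card ↥(Cfsg.pCore 2 (MulAut S)) = 2 ^ ((2 * m + 1) ^ 2) ∧
      Nat.card (MulAut S) = 2 ^ ((2 * m + 1) ^ 2) * ((2 * m + 1) * (2 ^ (2 * m + 1) - 1)) := by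
  haveI : Fact (Nat.Prime 2) := ⟨Nat.prime_two⟩
  obtain ⟨hchar, ⟨Q⟩⟩ := CfsgLib.SuzukiGroup.exists_params hF
  haveI := hchar
  obtain ⟨e⟩ := hS
  let e' : S ≃* ↥(CfsgLib.SuzukiGroup.unip Q) :=
    e.trans (Sylow.equiv P (CfsgLib.SuzukiGroup.sylowTwo Q))
  let ψ : MulAut S ≃* MulAut ↥(CfsgLib.SuzukiGroup.unip Q) := MulAut.congr e'
  obtain ⟨h1, h2⟩ := CfsgLib.SuzukiGroup.aut_unip Q hF
  set K := ((CfsgLib.SuzukiGroup.quotAct Q).comp ψ.toMonoidHom).ker with hK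
  have hiff : ∀ α, α ∈ K ↔ ψ α ∈ (CfsgLib.SuzukiGroup.quotAct Q).ker := fun α => Iff.rfl
  have hcard : Nat.card K = 2 ^ ((2 * m + 1) ^ 2) := by
    rw [← h2]
    exact Nat.card_congr (Equiv.subtypeEquiv ψ.toEquiv hiff)
  have htot : Nat.card (MulAut S) =
      2 ^ ((2 * m + 1) ^ 2) * ((2 * m + 1) * (2 ^ (2 * m + 1) - 1)) :=
    (Nat.card_congr ψ.toEquiv).trans h1
  have hidx : ¬ 2 ∣ K.index := by
    have h := K.card_mul_index
    rw [htot, hcard] at h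
    rw [Nat.eq_of_mul_eq_mul_left (pow_pos two_pos _) h, Nat.Prime.dvd_mul Nat.prime_two]
    have := pow_succ 2 (2 * m)
    have := Nat.one_le_two_pow (n := 2 * m)
    omega
  have hcore : Cfsg.pCore 2 (MulAut S) = K :=
    CfsgLib.SuzukiGroup.eq_pCore inferInstance (IsPGroup.of_card hcard) hidx
  obtain ⟨hc, hp⟩ := CfsgLib.SuzukiGroup.ker_elementary Q
  refine ⟨?_, by rw [hcore, hcard], htot⟩
  rw [hcore]
  refine ⟨⟨⟨fun a b => Subtype.ext (ψ.injective ?_)⟩⟩, fun a ha => ψ.injective ?_⟩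
  · simp only [Subgroup.coe_mul, map_mul]
    exact congrArg Subtype.val (hc.1.1 ⟨_, (hiff _).1 a.2⟩ ⟨_, (hiff _).1 b.2⟩)
  · rw [map_pow, map_one]
    exact hp _ ((hiff a).1 ha)

end Cfsg.Agent.S2556
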