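import Cfsg.Statements.S2557
import Cfsg.Agent.Lib.SpClassNum.Lower
import Cfsg.Agent.Lib.CharTwoClassNum.ClassBound

set_option autoImplicit false
open Cfsg

namespace Cfsg.Agent.S2557

open Matrix CfsgLib.CharTwoClassNum

theorem symp_upper {F : Type*} [Field F] [CharP F 2] [Fintype F] (n : ℕ) :
    (Nat.card (ConjClasses (Matrix.symplecticGroup (Fin n) F)) : ℝ) ≤ (Fintype.card F : ℝ) ^ n * (76 / 5) := by
  classical
  let e : Fin n ⊕ Fin n ≃ Fin (n + n) := finSumFinEquiv
  let ρ := Matrix.reindexAlgEquiv F F e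
  have htr : ∀ X, (ρ X)ᵀ = ρ Xᵀ := fun X => rfl
  have halt : ∀ v, v ⬝ᵥ ρ (Matrix.J (Fin n) F) *ᵥ v = 0 := fun v => by
    have h : ρ (Matrix.J (Fin n) F) *ᵥ v = (Matrix.J (Fin n) F *ᵥ (v ∘ e)) ∘ e.symm := by
      simp [ρ, Matrix.submatrix_mulVec_equiv]
    rw [h, ← comp_equiv_dotProduct_comp_equiv _ _ e, Function.comp_assoc, Equiv.symm_comp_self, Function.comp_id]
    generalize v ∘ e = w
    rw [← Sum.elim_comp_inl_inr w, Matrix.J, Matrix.fromBlocks_mulVec, sumElim_dotProduct_sumElim]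
    simp [Matrix.neg_mulVec, dotProduct_comm (w ∘ Sum.inl)]
  obtain ⟨T, hT, hle⟩ := card_classes_le (F := F) (o := false) (n := n) (qf := fun _ => 0) rfl halt
    (((Matrix.isUnit_iff_isUnit_det _).2 (Matrix.isUnit_det_J (Fin n) F)).map ρ) (fun h => by simp at h)
    (fun h => by simp at h) (fun h => by simp at h)
    (fun c : ConjClasses (Matrix.symplecticGroup (Fin n) F) => ρ c.out.1)
    (fun c => by rw [htr, ← map_mul, ← map_mul, SymplecticGroup.mem_iff'.1 c.out.2]) (fun h => by simp at h)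
    fun c c' Z hZ _ hZA => by
      obtain ⟨W, rfl⟩ := ρ.surjective Z
      rw [htr, ← map_mul, ← map_mul] at hZ
      rw [← map_mul, ← map_mul] at hZA
      have hW : W ∈ Matrix.symplecticGroup (Fin n) F := SymplecticGroup.mem_iff'.2 (ρ.injective hZ)
      rw [← c.out_eq, ← c'.out_eq]
      refine Quotient.sound (isConj_iff.2 ⟨⟨W, hW⟩, ?_⟩)
      rw [mul_inv_eq_iff_eq_mul]
      exact Subtype.ext (ρ.injective hZA)
  exact hle.trans (mul_le_mul_of_nonneg_left (symp_sum_le fun t ht => (hT t ht).1) (by positivity))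

/-- The number of conjugacy classes of Sp(2n,q), q even: for F a finite field of even order q and n ≥ 1, the number k of conjugacy classes of Sp(2n,F) satisfies q^n ≤ k ≤ 15.2·q^n. -/
theorem result {F : Type*} [Field F] [Fintype F] (heven : Even (Fintype.card F)) (n : ℕ) (hn : 1 ≤ n) :
    Fintype.card F ^ n ≤ Nat.card (ConjClasses (Matrix.symplecticGroup (Fin n) F)) ∧
      5 * Nat.card (ConjClasses (Matrix.symplecticGroup (Fin n) F)) ≤ 76 * Fintype.card F ^ n := by
  have h2 : ringChar F = 2 := FiniteField.even_card_iff_char_two.2 (Nat.even_iff.1 heven)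
  haveI : CharP F 2 := h2 ▸ ringChar.charP F
  refine ⟨CfsgLib.SpClassNum.pow_le_card_sp_classes hn, ?_⟩
  have h := symp_upper (F := F) n
  have h' : ((5 * Nat.card (ConjClasses (Matrix.symplecticGroup (Fin n) F)) : ℕ) : ℝ) ≤
      ((76 * Fintype.card F ^ n : ℕ) : ℝ) := by
    push_cast; linarith
  exact_mod_cast h'

end Cfsg.Agent.S2557
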