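import Cfsg.Statements.S2559
import Cfsg.Agent.Lib.CharTwoClassNum.OrthClasses

set_option autoImplicit false
open Cfsg

namespace Cfsg.Agent.S2559

open CfsgLib.CharTwoClassNum

/-- The number of conjugacy classes of the full orthogonal groups O⁺(2n,q) and O⁻(2n,q), q even, 2n ≥ 4: for F a finite field of even order q and n ≥ 2, the number k of conjugacy classes of the isometry group of the hyperbolic quadratic form Σ xᵢyᵢ on F^{2n}, and likewise of the elliptic form Σ xᵢyᵢ + (z₁² + a z₁z₂ + b z₂²) with anisotropic binary part, satisfies q^n/2 ≤ k ≤ 15·q^n. -/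
theorem result {F : Type*} [Field F] [Fintype F] (heven : Even (Fintype.card F)) (n : ℕ) (hn : 2 ≤ n) (a b : F) (hab : ∀ z₁ z₂ : F, z₁ ^ 2 + a * z₁ * z₂ + b * z₂ ^ 2 = 0 → z₁ = 0 ∧ z₂ = 0) :
    (Fintype.card F ^ n ≤ 2 * Nat.card (ConjClasses ↥(Cfsg.isometryGroup F (Cfsg.quadFormPlus n F))) ∧
      Nat.card (ConjClasses ↥(Cfsg.isometryGroup F (Cfsg.quadFormPlus n F))) ≤ 15 * Fintype.card F ^ n) ∧
    (Fintype.card F ^ n ≤ 2 * Nat.card (ConjClasses ↥(Cfsg.isometryGroup F (Cfsg.quadFormMinus (n - 1) F a b))) ∧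
      Nat.card (ConjClasses ↥(Cfsg.isometryGroup F (Cfsg.quadFormMinus (n - 1) F a b))) ≤ 15 * Fintype.card F ^ n) := by
  have h2 : ringChar F = 2 := FiniteField.even_card_iff_char_two.2 (Nat.even_iff.1 heven)
  haveI : CharP F 2 := h2 ▸ ringChar.charP F
  have ha : a ≠ 0 := by
    rintro rfl
    obtain ⟨s, hs⟩ := exists_sqrt b
    refine one_ne_zero (hab s 1 ?_).2
    rw [hs]
    simp [CharTwo.add_self_eq_zero]
  have hcls : cls (1 * b / a ^ 2) = true := by
    by_contra h
    rw [Bool.not_eq_true] at h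
    obtain ⟨c, hc⟩ := cls_eq_false.1 h
    refine one_ne_zero (hab (a * c) 1 ?_).2
    rw [show b = (1 * b / a ^ 2) * a ^ 2 by field_simp, ← hc]
    linear_combination (a ^ 2 * (c ^ 2 + c)) * CharTwo.two_eq_zero (R := F)
  have hP : QuadSign _ (quadFormPlus n F) false := quadSign_hyperbolic (F := F) n
  have hM0 := (quadSign_hyperbolic (F := F) (n - 1)).sum (quadSign_binary 1 a b ha)
  rw [hcls, Bool.false_xor] at hM0
  have hM : QuadSign (Matrix.fromBlocks (Matrix.fromBlocks 0 1 1 0) 0 0 !![0, a; a, 0])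
      (quadFormMinus (n - 1) F a b) true := by
    convert hM0 using 1
    funext v
    simp [quadFormMinus]
  have hcP : Fintype.card (Fin n ⊕ Fin n) = n + n := by simp
  have hcM : Fintype.card ((Fin (n - 1) ⊕ Fin (n - 1)) ⊕ Fin 2) = n + n := by simp; omega
  exact ⟨⟨lower_classes hn hcP hP, upper_classes hcP hP⟩, lower_classes hn hcM hM, upper_classes hcM hM⟩

end Cfsg.Agent.S2559
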