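import Cfsg.Statements.S2561
import Cfsg.Agent.Lib.KnownSimple.QuadTwo

set_option autoImplicit false
open Cfsg

namespace Cfsg.Agent.S2561
open CfsgLib.KnownSimple.QuadTwo

/-- Fix the non-singular alternating form on the 2m-dimensional space over the field of two elements obtained by polarizing the plus-type form Σ xᵢyᵢ (m ≥ 1). The functions q on the space with q(u + v) = q(u) + q(v) + f(u, v) (the quadratic forms polarizing to f) number 2^(2m); each is equivalent under an invertible linear map either to the plus-type form or to the minus-type form Σ xᵢyᵢ + (z₁² + z₁z₂ + z₂²); and those of plus type number 2^(2m−1) + 2^(m−1), those of minus type 2^(2m−1) − 2^(m−1). -/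
theorem result (m : ℕ) (hm : 1 ≤ m) :
    Nat.card {q : (Fin m ⊕ Fin m → ZMod 2) → ZMod 2 // (∀ u v : (Fin m ⊕ Fin m → ZMod 2), q (u + v) = q u + q v + (Cfsg.quadFormPlus m (ZMod 2) (u + v) - Cfsg.quadFormPlus m (ZMod 2) u - Cfsg.quadFormPlus m (ZMod 2) v))} = 2 ^ (2 * m) ∧
    (∀ q : (Fin m ⊕ Fin m → ZMod 2) → ZMod 2, (∀ u v : (Fin m ⊕ Fin m → ZMod 2), q (u + v) = q u + q v + (Cfsg.quadFormPlus m (ZMod 2) (u + v) - Cfsg.quadFormPlus m (ZMod 2) u - Cfsg.quadFormPlus m (ZMod 2) v)) →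
      (∃ g : (Fin m ⊕ Fin m → ZMod 2) ≃ₗ[ZMod 2] (Fin m ⊕ Fin m → ZMod 2), ∀ v, q v = Cfsg.quadFormPlus m (ZMod 2) (g v)) ∨
      (∃ g : (Fin m ⊕ Fin m → ZMod 2) ≃ₗ[ZMod 2] ((Fin (m - 1) ⊕ Fin (m - 1)) ⊕ Fin 2 → ZMod 2), ∀ v, q v = Cfsg.quadFormMinus (m - 1) (ZMod 2) 1 1 (g v))) ∧
    Nat.card {q : (Fin m ⊕ Fin m → ZMod 2) → ZMod 2 // (∀ u v : (Fin m ⊕ Fin m → ZMod 2), q (u + v) = q u + q v + (Cfsg.quadFormPlus m (ZMod 2) (u + v) - Cfsg.quadFormPlus m (ZMod 2) u - Cfsg.quadFormPlus m (ZMod 2) v)) ∧ ∃ g : (Fin m ⊕ Fin m → ZMod 2) ≃ₗ[ZMod 2] (Fin m ⊕ Fin m → ZMod 2), ∀ v, q v = Cfsg.quadFormPlus m (ZMod 2) (g v)} = 2 ^ (2 * m - 1) + 2 ^ (m - 1) ∧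
    Nat.card {q : (Fin m ⊕ Fin m → ZMod 2) → ZMod 2 // (∀ u v : (Fin m ⊕ Fin m → ZMod 2), q (u + v) = q u + q v + (Cfsg.quadFormPlus m (ZMod 2) (u + v) - Cfsg.quadFormPlus m (ZMod 2) u - Cfsg.quadFormPlus m (ZMod 2) v)) ∧ ∃ g : (Fin m ⊕ Fin m → ZMod 2) ≃ₗ[ZMod 2] ((Fin (m - 1) ⊕ Fin (m - 1)) ⊕ Fin 2 → ZMod 2), ∀ v, q v = Cfsg.quadFormMinus (m - 1) (ZMod 2) 1 1 (g v)} = 2 ^ (2 * m - 1) - 2 ^ (m - 1) := by
  obtain ⟨k, rfl⟩ : ∃ k, m = k + 1 := ⟨m - 1, by omega⟩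
  have plus_iff : ∀ w : V (k + 1), (∃ g : V (k + 1) ≃ₗ[ZMod 2] V (k + 1),
      ∀ v, Q (k + 1) v + B (k + 1) v w = Q (k + 1) (g v)) ↔ Q (k + 1) w = 0 := by
    intro w
    constructor
    · rintro ⟨g, hg⟩
      have h := gauss_equiv g.toEquiv hg
      rw [gauss_shift, gauss_Q] at h
      by_contra hw
      rw [zeq_one hw, chi, if_neg one_ne_zero] at h
      have : (0 : ℤ) < 2 ^ (k + 1) := by positivity
      linarith
    · intro hw
      exact ⟨transvection w, shift_equiv_of_singular (q := Q (k + 1))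
        (fun u v => by ring) hw⟩
  have minus_iff : ∀ w : V (k + 1), (∃ g : V (k + 1) ≃ₗ[ZMod 2] W k,
      ∀ v, Q (k + 1) v + B (k + 1) v w = quadFormMinus k (ZMod 2) 1 1 (g v)) ↔
        Q (k + 1) w ≠ 0 := by
    intro w
    constructor
    · rintro ⟨g, hg⟩ hw
      have h := gauss_equiv g.toEquiv hg
      rw [gauss_shift, gauss_minus, hw, chi, if_pos rfl, one_mul] at h
      have : (0 : ℤ) < 2 ^ (k + 1) := by positivity
      linarith
    · exact fun hw => shift_equiv_of_nonsingular k (zeq_one hw)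
  have hk : k + 1 - 1 = k := rfl
  refine ⟨?_, ?_, ?_, ?_⟩
  · rw [← Nat.card_congr (shiftEquiv (k + 1))]
    simp [Nat.card_eq_fintype_card, two_mul]
  · intro q hq
    obtain ⟨w, rfl⟩ := HasPolar.exists_shift (m := k + 1) hq
    by_cases hw : Q (k + 1) w = 0
    · exact Or.inl ((plus_iff w).2 hw)
    · exact Or.inr ((minus_iff w).2 hw)
  · rw [← (card_zeros (k + 1) hm).1]
    refine Nat.card_congr (Equiv.symm ?_)
    exact ((shiftEquiv (k + 1)).subtypeEquiv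
      (q := fun q => ∃ g : V (k + 1) ≃ₗ[ZMod 2] V (k + 1), ∀ v, q.1 v = Q (k + 1) (g v))
      (fun w => (plus_iff w).symm)).trans
      (Equiv.subtypeSubtypeEquivSubtypeInter _
        (fun q : V (k + 1) → ZMod 2 => ∃ g : V (k + 1) ≃ₗ[ZMod 2] V (k + 1), ∀ v, q v = Q (k + 1) (g v)))
  · rw [← (card_zeros (k + 1) hm).2]
    refine Nat.card_congr (Equiv.symm ?_)
    exact ((shiftEquiv (k + 1)).subtypeEquiv
      (q := fun q => ∃ g : V (k + 1) ≃ₗ[ZMod 2] W k, ∀ v, q.1 v = quadFormMinus k (ZMod 2) 1 1 (g v))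
      (fun w => (minus_iff w).symm)).trans
      (Equiv.subtypeSubtypeEquivSubtypeInter _
        (fun q : V (k + 1) → ZMod 2 => ∃ g : V (k + 1) ≃ₗ[ZMod 2] W k, ∀ v, q v = quadFormMinus k (ZMod 2) 1 1 (g v)))

end Cfsg.Agent.S2561
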