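import Cfsg.Statements.S2562
import Cfsg.Agent.Lib.KnownSimple.QuadTwo

set_option autoImplicit false
open Cfsg

namespace Cfsg.Agent.S2562
open CfsgLib.KnownSimple.QuadTwo

/-- Witt indices over the field of two elements, m ≥ 1: for the plus-type form Σ xᵢyᵢ in dimension 2m some m-dimensional subspace is totally singular and no totally singular subspace has larger dimension; for the minus-type form Σ xᵢyᵢ + (z₁² + z₁z₂ + z₂²) in dimension 2m the maximal dimension of a totally singular subspace is m − 1. -/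
theorem result (m : ℕ) (hm : 1 ≤ m) :
    (∃ U : Submodule (ZMod 2) (Fin m ⊕ Fin m → ZMod 2), (∀ u ∈ U, Cfsg.quadFormPlus m (ZMod 2) u = 0) ∧ Module.finrank (ZMod 2) ↥U = m) ∧
    (∀ U : Submodule (ZMod 2) (Fin m ⊕ Fin m → ZMod 2), (∀ u ∈ U, Cfsg.quadFormPlus m (ZMod 2) u = 0) → Module.finrank (ZMod 2) ↥U ≤ m) ∧
    (∃ U : Submodule (ZMod 2) ((Fin (m - 1) ⊕ Fin (m - 1)) ⊕ Fin 2 → ZMod 2), (∀ u ∈ U, Cfsg.quadFormMinus (m - 1) (ZMod 2) 1 1 u = 0) ∧ Module.finrank (ZMod 2) ↥U = m - 1) ∧
    (∀ U : Submodule (ZMod 2) ((Fin (m - 1) ⊕ Fin (m - 1)) ⊕ Fin 2 → ZMod 2), (∀ u ∈ U, Cfsg.quadFormMinus (m - 1) (ZMod 2) 1 1 u = 0) → Module.finrank (ZMod 2) ↥U ≤ m - 1) := by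
  obtain ⟨k, rfl⟩ : ∃ k, m = k + 1 := ⟨m - 1, by omega⟩
  obtain ⟨i₀⟩ : Nonempty (Fin (k + 1)) := inferInstance
  have hpol : HasPolar (Q (k + 1)) := fun u v => by ring
  refine ⟨?_, ?_, ?_, ?_⟩
  · let f : (Fin (k + 1) → ZMod 2) →ₗ[ZMod 2] V (k + 1) :=
      { toFun := fun x => Sum.elim x 0
        map_add' := fun x y => by ext (i | i) <;> simp
        map_smul' := fun c x => by ext (i | i) <;> simp }
    refine ⟨LinearMap.range f, ?_, ?_⟩
    · rintro _ ⟨x, rfl⟩
      simp [f, quadFormPlus]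
    · rw [LinearMap.finrank_range_of_inj (fun x y h => funext fun i => congrFun h (.inl i))]
      simp
  · intro U hU
    exact Nat.le_of_mul_le_mul_left (singular_subspace_bound hpol hU).1 (by norm_num)
  · show ∃ U : Submodule (ZMod 2) (W k), _ ∧ Module.finrank (ZMod 2) ↥U = k
    let f : (Fin k → ZMod 2) →ₗ[ZMod 2] W k :=
      { toFun := fun x => Sum.elim (Sum.elim x 0) 0
        map_add' := fun x y => by ext ((i | i) | i) <;> simp
        map_smul' := fun c x => by ext ((i | i) | i) <;> simp }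
    refine ⟨LinearMap.range f, ?_, ?_⟩
    · rintro _ ⟨x, rfl⟩
      simp [f, quadFormMinus]
    · rw [LinearMap.finrank_range_of_inj (fun x y h => funext fun i => congrFun h (.inl (.inl i)))]
      simp
  · intro U hU
    set w : V (k + 1) := Pi.single (.inl i₀) 1 + Pi.single (.inr i₀) 1 with hw
    have hQw : Q (k + 1) w = 1 := by
      simp [hw, quadFormPlus, Pi.single_apply]
    obtain ⟨g, hg⟩ := shift_equiv_of_nonsingular k hQw
    by_contra hlt
    rw [not_le] at hlt
    have h := singular_subspace_bound (hasPolar_shift w) (U := U.comap g.toLinearMap)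
      (fun u hu => (hg u).trans (hU _ hu))
    have hr : Module.finrank (ZMod 2) (U.comap g.toLinearMap) = Module.finrank (ZMod 2) U := by
      have hmap : (U.comap g.toLinearMap).map g.toLinearMap = U :=
        Submodule.map_comap_eq_of_surjective g.surjective U
      conv_rhs => rw [← hmap]
      exact (LinearEquiv.finrank_map_eq g _).symm
    have hpos := h.2 (by rw [hr]; omega)
    rw [gauss_shift, hQw, chi, if_neg one_ne_zero] at hpos
    have : (0 : ℤ) < 2 ^ (k + 1) := by positivity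
    linarith

end Cfsg.Agent.S2562
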