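import Cfsg.Statements.S2564
import Cfsg.Agent.Lib.KnownSimple.QuadTwo

set_option autoImplicit false
open Cfsg

namespace Cfsg.Agent.S2564
open CfsgLib.KnownSimple.QuadTwo

/-- On the 2m-dimensional space over the field of two elements (m ≥ 1) let f be the alternating form obtained by polarizing the plus-type form Σ xᵢyᵢ, and let q be any quadratic form polarizing to f. For a vector w, the function q + f(·, w) again polarizes to f, and it is equivalent to q under an invertible linear map (that is, has the same type) if and only if q(w) = 0. -/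
theorem result (m : ℕ) (hm : 1 ≤ m) (q : (Fin m ⊕ Fin m → ZMod 2) → ZMod 2) (hq : (∀ u v : (Fin m ⊕ Fin m → ZMod 2), q (u + v) = q u + q v + (Cfsg.quadFormPlus m (ZMod 2) (u + v) - Cfsg.quadFormPlus m (ZMod 2) u - Cfsg.quadFormPlus m (ZMod 2) v))) (w : (Fin m ⊕ Fin m → ZMod 2)) :
    (∀ u v : (Fin m ⊕ Fin m → ZMod 2), (q (u + v) + (Cfsg.quadFormPlus m (ZMod 2) (u + v + w) - Cfsg.quadFormPlus m (ZMod 2) (u + v) - Cfsg.quadFormPlus m (ZMod 2) w)) =
        (q u + (Cfsg.quadFormPlus m (ZMod 2) (u + w) - Cfsg.quadFormPlus m (ZMod 2) u - Cfsg.quadFormPlus m (ZMod 2) w)) + (q v + (Cfsg.quadFormPlus m (ZMod 2) (v + w) - Cfsg.quadFormPlus m (ZMod 2) v - Cfsg.quadFormPlus m (ZMod 2) w)) +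
        (Cfsg.quadFormPlus m (ZMod 2) (u + v) - Cfsg.quadFormPlus m (ZMod 2) u - Cfsg.quadFormPlus m (ZMod 2) v)) ∧
    ((∃ g : (Fin m ⊕ Fin m → ZMod 2) ≃ₗ[ZMod 2] (Fin m ⊕ Fin m → ZMod 2), ∀ v, q v + (Cfsg.quadFormPlus m (ZMod 2) (v + w) - Cfsg.quadFormPlus m (ZMod 2) v - Cfsg.quadFormPlus m (ZMod 2) w) = q (g v)) ↔ q w = 0) := by
  constructor
  · intro u v
    have h := HasPolar.add' (m := m) hq u v
    simp only [polar_eq, map_add, LinearMap.add_apply, h]
    ring
  · simp only [polar_eq]
    constructor
    · rintro ⟨g, hg⟩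
      obtain ⟨w', rfl⟩ := HasPolar.exists_shift (m := m) hq
      have h := gauss_equiv (q := fun v => Q m v + B m v w' + B m v w)
        (q' := fun v => Q m v + B m v w') g.toEquiv hg
      have h1 : (fun v => Q m v + B m v w' + B m v w) = fun v => Q m v + B m v (w' + w) := by
        funext v; rw [map_add, add_assoc]
      rw [h1, gauss_shift, gauss_shift, Q_add] at h
      have h2 : chi (Q m w' + Q m w + B m w' w) = chi (Q m w') :=
        mul_right_cancel₀ (by positivity) h
      have h3 : Q m w + B m w w' = 0 := by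
        rw [B_comm]
        by_contra hne
        rw [add_assoc, chi_add, zeq_one hne] at h2
        have : chi (Q m w') = 0 := by
          have : chi 1 = -1 := rfl
          rw [this] at h2
          linarith
        unfold chi at this
        split_ifs at this <;> omega
      exact h3
    · intro hw
      exact ⟨transvection w, shift_equiv_of_singular hq hw⟩

end Cfsg.Agent.S2564
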