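import Cfsg.Statements.S2565
import Cfsg.Agent.Lib.KnownSimple.GLFourTwo

set_option autoImplicit false
open Cfsg
open scoped commutatorElement

namespace Cfsg.Agent.S2565
open CfsgLib.KnownSimple.GLFourTwo

theorem commutator_perm_eight : commutator (Equiv.Perm (Fin 8)) = alternatingGroup (Fin 8) := by
  refine le_antisymm (Abelianization.commutator_subset_ker Equiv.Perm.sign) ?_
  have h := (alternatingGroup.isSimpleGroup (α := Fin 8) (by simp))
  have hperf : Subgroup.map (alternatingGroup (Fin 8)).subtype (commutator (alternatingGroup (Fin 8))) =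
      alternatingGroup (Fin 8) := by
    rcases (inferInstance : (commutator (alternatingGroup (Fin 8))).Normal).eq_bot_or_eq_top with h0 | h0
    · exfalso
      have hc : ∀ a b : alternatingGroup (Fin 8), ⁅a, b⁆ = 1 := fun a b =>
        Subgroup.mem_bot.1 (h0 ▸ Subgroup.commutator_mem_commutator (Subgroup.mem_top a) (Subgroup.mem_top b))
      have := hc ⟨Equiv.swap 0 1 * Equiv.swap 1 2, by rw [Equiv.Perm.mem_alternatingGroup]; decide⟩
        ⟨Equiv.swap 1 2 * Equiv.swap 2 3, by rw [Equiv.Perm.mem_alternatingGroup]; decide⟩
      revert this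
      rw [commutatorElement_def]
      decide +kernel
    · rw [h0, ← MonoidHom.range_eq_map, Subgroup.range_subtype]
  rw [← hperf, commutator_def, Subgroup.map_commutator]
  exact Subgroup.commutator_mono le_top le_top

/-- The commutator subgroup of the full orthogonal group of the plus-type form Σ xᵢyᵢ in dimension 6 over the field of two elements (the group Ω⁺₆(2), of index 2) is isomorphic to the alternating group of degree 8. -/
theorem result :
    (Cfsg.Omega (ZMod 2) (Cfsg.quadFormPlus 3 (ZMod 2))).index = 2 ∧
    Nonempty (↥(Cfsg.Omega (ZMod 2) (Cfsg.quadFormPlus 3 (ZMod 2))) ≃* alternatingGroup (Fin 8)) := by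
  have hmap : (alternatingGroup (Fin 8)).map symEightEquiv.toMonoidHom =
      Cfsg.Omega (ZMod 2) (Cfsg.quadFormPlus 3 (ZMod 2)) := by
    rw [← commutator_perm_eight, commutator_def, Subgroup.map_commutator,
      Subgroup.map_top_of_surjective symEightEquiv.toMonoidHom symEightEquiv.surjective]
    rfl
  constructor
  · rw [← hmap, Subgroup.index_map_of_bijective symEightEquiv.bijective]
    exact alternatingGroup.index_eq_two
  · exact ⟨((symEightEquiv.subgroupMap (alternatingGroup (Fin 8))).trans
      (MulEquiv.subgroupCongr hmap)).symm⟩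

end Cfsg.Agent.S2565
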