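import Cfsg.Statements.S2566
import Cfsg.Agent.Lib.KnownSimple.QuadTwo

set_option autoImplicit false
open Cfsg

namespace Cfsg.Agent.S2566

open CfsgLib.KnownSimple.QuadTwo

abbrev I4 := Fin 2 ⊕ Fin 2
abbrev Mat4 := Matrix I4 I4 (ZMod 2)

/-- The matrix of the polar form. -/
def Jm : Mat4 := Matrix.fromBlocks 0 1 1 0

/-- Column conditions for an isometry. -/
def Good (M : Mat4) : Prop :=
  (∀ a, Q 2 (fun i => M i a) = 0) ∧ Jm * (Matrix.transpose M * Jm * M) = 1

instance instDecidableGood : DecidablePred Good := fun M => by unfold Good; infer_instance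

theorem col_eq (M : Mat4) (a : I4) : (fun i => M i a) = M.mulVec (Pi.single a 1) := by
  funext i
  simp [Matrix.mulVec_single]

theorem B_eq (u v : V 2) : B 2 u v = dotProduct u (Jm.mulVec v) := by
  simp [B_apply, dotProduct, Matrix.mulVec, Jm, Fintype.sum_sum_type, Fin.sum_univ_two, Matrix.fromBlocks,
    Matrix.one_apply]
  ring

theorem good_iff_preserves (M : Mat4) : Good M ↔ ∀ v, Q 2 (M.mulVec v) = Q 2 v := by
  have hJ : Jm * Jm = 1 := by decide +kernel
  have hB : ∀ u v, B 2 (M.mulVec u) (M.mulVec v) =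
      dotProduct u ((Matrix.transpose M * Jm * M).mulVec v) := by
    intro u v
    rw [B_eq, ← Matrix.vecMul_transpose, ← Matrix.dotProduct_mulVec, Matrix.mulVec_mulVec,
      Matrix.mulVec_mulVec, mul_assoc]
  constructor
  · rintro ⟨h1, h2⟩ v
    have h3 : Matrix.transpose M * Jm * M = Jm := by
      calc Matrix.transpose M * Jm * M = (Jm * Jm) * (Matrix.transpose M * Jm * M) := by rw [hJ, one_mul]
        _ = Jm := by rw [mul_assoc, h2, mul_one]
    have key : ∀ s : Finset I4, ∀ c : I4 → ZMod 2,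
        Q 2 (M.mulVec (∑ a ∈ s, c a • Pi.single a 1)) = Q 2 (∑ a ∈ s, c a • Pi.single a 1) := by
      intro s c
      induction s using Finset.induction with
      | empty => simp [quadFormPlus]
      | insert a s ha ih =>
        rw [Finset.sum_insert ha, Matrix.mulVec_add, Q_add, Q_add, ih, hB, h3, ← B_eq,
          Matrix.mulVec_smul, Q_smul, Q_smul, ← col_eq, h1]
        congr 2
        have : ∀ b : I4, Q 2 (Pi.single b 1) = 0 := by decide
        rw [this]
    rw [pi_eq_sum_univ' v]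
    exact key _ _
  · intro h
    have hQ0 : ∀ a : I4, Q 2 (Pi.single a 1) = 0 := by decide
    refine ⟨fun a => by rw [col_eq, h, hQ0], ?_⟩
    have h3 : Matrix.transpose M * Jm * M = Jm := by
      apply Matrix.ext
      intro a b
      have h1 := hB (Pi.single a 1) (Pi.single b 1)
      have h2 : B 2 (M.mulVec (Pi.single a 1)) (M.mulVec (Pi.single b 1)) =
          B 2 (Pi.single a 1) (Pi.single b 1) := by
        rw [← polar_eq, ← polar_eq, ← Matrix.mulVec_add, h, h, h]
      rw [h2, B_eq] at h1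
      simpa using h1.symm
    rw [h3, hJ]

/-- Build an isometry from a good matrix. -/
def ofGood (M : Mat4) (h : Good M) : ↥(Cfsg.isometryGroup (ZMod 2) (Cfsg.quadFormPlus 2 (ZMod 2))) :=
  ⟨⟨M, Jm * Matrix.transpose M * Jm,
      mul_eq_one_comm.1 (by rw [mul_assoc, mul_assoc, ← mul_assoc _ Jm M]; exact h.2),
      by rw [mul_assoc, mul_assoc, ← mul_assoc _ Jm M]; exact h.2⟩,
    fun u _ => (good_iff_preserves M).1 h u⟩

/-- Isometries are good matrices. -/
def isoEquiv : ↥(Cfsg.isometryGroup (ZMod 2) (Cfsg.quadFormPlus 2 (ZMod 2))) ≃ {M : Mat4 // Good M} where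
  toFun g := ⟨g.1.1, (good_iff_preserves _).2 fun v => g.2 v v⟩
  invFun M := ofGood M.1 M.2
  left_inv g := Subtype.ext (Units.ext rfl)
  right_inv M := rfl

/-- A matrix from its four columns. -/
def colsMat (a b c d : V 2) : Mat4 := Matrix.of fun i j => Sum.elim ![a, b] ![c, d] j i

/-- The singular vectors. -/
abbrev Sing := {v : V 2 // Q 2 v = 0}

/-- Good matrices are hyperbolic frames. -/
def frameEquiv : {M : Mat4 // Good M} ≃
    (Σ a : Sing, Σ c : {c : Sing // B 2 a.1 c.1 = 1}, Σ b : {b : Sing // B 2 a.1 b.1 = 0 ∧ B 2 c.1.1 b.1 = 0},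
      {d : Sing // B 2 a.1 d.1 = 0 ∧ B 2 c.1.1 d.1 = 0 ∧ B 2 b.1.1 d.1 = 1}) where
  toFun M :=
    have hh : ∀ x y : I4, B 2 (fun i => M.1 i x) (fun i => M.1 i y) = B 2 (Pi.single x 1) (Pi.single y 1) := by
      intro x y
      rw [col_eq, col_eq, ← polar_eq, ← polar_eq, ← Matrix.mulVec_add,
        (good_iff_preserves _).1 M.2, (good_iff_preserves _).1 M.2, (good_iff_preserves _).1 M.2]
    ⟨⟨fun i => M.1 i (.inl 0), M.2.1 _⟩,
      ⟨⟨fun i => M.1 i (.inr 0), M.2.1 _⟩, (hh _ _).trans (by decide)⟩,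
      ⟨⟨fun i => M.1 i (.inl 1), M.2.1 _⟩, (hh _ _).trans (by decide), (hh _ _).trans (by decide)⟩,
      ⟨⟨fun i => M.1 i (.inr 1), M.2.1 _⟩, (hh _ _).trans (by decide), (hh _ _).trans (by decide),
        (hh _ _).trans (by decide)⟩⟩
  invFun p := ⟨colsMat p.1.1 p.2.2.1.1.1 p.2.1.1.1 p.2.2.2.1.1, by
    obtain ⟨⟨a, ha⟩, ⟨⟨c, hc⟩, hac⟩, ⟨⟨b, hb⟩, hab, hcb⟩, ⟨⟨d, hd⟩, had, hcd, hbd⟩⟩ := p
    refine ⟨?_, ?_⟩
    · rintro (i | i) <;> fin_cases i <;> assumption
    · have hJ : Jm * Jm = 1 := by decide +kernel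
      suffices h : Matrix.transpose (colsMat a b c d) * Jm * colsMat a b c d = Jm by rw [h, hJ]
      have key : ∀ x y : I4, (Matrix.transpose (colsMat a b c d) * Jm * colsMat a b c d) x y =
          B 2 (Sum.elim ![a, b] ![c, d] x) (Sum.elim ![a, b] ![c, d] y) := by
        intro x y
        rw [B_eq, Matrix.mul_assoc]
        rfl
      apply Matrix.ext
      intro x y
      rw [key]
      simp only at hac hab hcb had hcd hbd
      have hself := @B_self 2
      have hca := (B_comm c a).trans hac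
      have hba := (B_comm b a).trans hab
      have hbc := (B_comm b c).trans hcb
      have hda := (B_comm d a).trans had
      have hdc := (B_comm d c).trans hcd
      have hdb := (B_comm d b).trans hbd
      rcases x with x | x <;> rcases y with y | y <;> fin_cases x <;> fin_cases y <;>
        simp [Jm, Matrix.one_apply, hself, *]⟩
  left_inv M := by
    apply Subtype.ext
    ext i (j | j) <;> fin_cases j <;> rfl
  right_inv p := rfl

/-- The nonzero vectors of `F_2^2`. -/
def vec3 : Fin 3 → Fin 2 → ZMod 2 := ![![1, 0], ![0, 1], ![1, 1]]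

/-- The natural representation of `Sym 3`. -/
def perm2 (π : Equiv.Perm (Fin 3)) : Matrix (Fin 2) (Fin 2) (ZMod 2) :=
  Matrix.of fun i j => vec3 (π (Fin.castSucc j)) i

/-- Coordinates of `2 × 2` matrices with determinant as quadratic form. -/
def coord : I4 → Fin 2 × Fin 2 := Sum.elim ![(0, 0), (0, 1)] ![(1, 1), (1, 0)]

/-- `X ↦ P X R^T`. -/
def tensor (P R : Matrix (Fin 2) (Fin 2) (ZMod 2)) : Mat4 :=
  Matrix.of fun a b => P (coord a).1 (coord b).1 * R (coord a).2 (coord b).2

theorem left_good : ∀ π, Good (tensor (perm2 π) 1) := by decide +kernel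
theorem right_good : ∀ π, Good (tensor 1 (perm2 π)) := by decide +kernel
theorem left_mul : ∀ π ρ, tensor (perm2 (π * ρ)) 1 = tensor (perm2 π) 1 * tensor (perm2 ρ) 1 := by
  decide +kernel
theorem right_mul : ∀ π ρ, tensor 1 (perm2 (π * ρ)) = tensor 1 (perm2 π) * tensor 1 (perm2 ρ) := by
  decide +kernel
theorem comm_table : ∀ π ρ, tensor (perm2 π) 1 * tensor 1 (perm2 ρ) = tensor 1 (perm2 ρ) * tensor (perm2 π) 1 ∧
    (tensor (perm2 π) 1 * tensor 1 (perm2 ρ) = 1 → π = 1 ∧ ρ = 1) := by
  decide +kernel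

/-- Transposition. -/
def swapM : Mat4 := Matrix.of fun a b =>
  if coord a = Prod.swap (coord b) then 1 else 0

theorem swap_good : Good swapM ∧ ∀ π, swapM * tensor (perm2 π) 1 = tensor 1 (perm2 π) * swapM := by
  decide +kernel

/-- `X ↦ P X`. -/
def leftHom : Equiv.Perm (Fin 3) →* ↥(Cfsg.isometryGroup (ZMod 2) (Cfsg.quadFormPlus 2 (ZMod 2))) :=
  MonoidHom.mk' (fun π => ofGood _ (left_good π)) fun π ρ => Subtype.ext (Units.ext (left_mul π ρ))

/-- `X ↦ X R^T`. -/
def rightHom : Equiv.Perm (Fin 3) →* ↥(Cfsg.isometryGroup (ZMod 2) (Cfsg.quadFormPlus 2 (ZMod 2))) :=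
  MonoidHom.mk' (fun π => ofGood _ (right_good π)) fun π ρ => Subtype.ext (Units.ext (right_mul π ρ))

theorem card_iso : Nat.card ↥(Cfsg.isometryGroup (ZMod 2) (Cfsg.quadFormPlus 2 (ZMod 2))) = 72 := by
  rw [Nat.card_congr (isoEquiv.trans frameEquiv), Nat.card_eq_fintype_card]
  simp only [Fintype.card_sigma, Fintype.card_subtype]
  decide +kernel

/-- The full orthogonal group of the plus-type form x₁y₁ + x₂y₂ in dimension 4 over the field of two elements has order 72 and is isomorphic to the wreath product of the symmetric group of degree 3 by a group of order 2: it has a normal subgroup isomorphic to the direct product of two symmetric groups of degree 3, of index 2, whose two direct factors are interchanged by conjugation by some element. -/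
theorem result :
    Nat.card ↥(Cfsg.isometryGroup (ZMod 2) (Cfsg.quadFormPlus 2 (ZMod 2))) = 72 ∧
    ∃ (A B : Subgroup ↥(Cfsg.isometryGroup (ZMod 2) (Cfsg.quadFormPlus 2 (ZMod 2)))),
      Nonempty (↥A ≃* Equiv.Perm (Fin 3)) ∧ Nonempty (↥B ≃* Equiv.Perm (Fin 3)) ∧ A ⊓ B = ⊥ ∧ (∀ a ∈ A, ∀ b ∈ B, a * b = b * a) ∧
      (A ⊔ B).index = 2 ∧ ∃ g : ↥(Cfsg.isometryGroup (ZMod 2) (Cfsg.quadFormPlus 2 (ZMod 2))), A.map (MulAut.conj g).toMonoidHom = B := by
  have hcomm : ∀ π ρ, Commute (leftHom π) (rightHom ρ) := fun π ρ =>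
    Subtype.ext (Units.ext (comm_table π ρ).1)
  let f := leftHom.noncommCoprod rightHom hcomm
  have hf : Function.Injective f := by
    rw [injective_iff_map_eq_one]
    rintro ⟨π, ρ⟩ h
    obtain ⟨rfl, rfl⟩ := (comm_table π ρ).2 (congrArg (fun g => g.1.1) h)
    rfl
  have hfl : ∀ π, f (π, 1) = leftHom π := fun π => by simp [f]
  have hfr : ∀ π, f (1, π) = rightHom π := fun π => by simp [f]
  have hl : Function.Injective leftHom := fun a b h => by
    have := @hf (a, 1) (b, 1) (by rw [hfl, hfl, h]); simpa using this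
  have hr : Function.Injective rightHom := fun a b h => by
    have := @hf (1, a) (1, b) (by rw [hfr, hfr, h]); simpa using this
  refine ⟨card_iso, leftHom.range, rightHom.range, ⟨(MonoidHom.ofInjective hl).symm⟩,
    ⟨(MonoidHom.ofInjective hr).symm⟩, ?_, ?_, ?_, ofGood swapM swap_good.1, ?_⟩
  · rw [eq_bot_iff]
    rintro _ ⟨⟨π, rfl⟩, ⟨ρ, hρ⟩⟩
    have := @hf (π, 1) (1, ρ) (by rw [hfl, hfr, hρ])
    rw [Prod.mk.injEq] at this
    rw [Subgroup.mem_bot, this.1, map_one]
  · rintro _ ⟨π, rfl⟩ _ ⟨ρ, rfl⟩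
    exact hcomm π ρ
  · rw [← MonoidHom.noncommCoprod_range (comm := hcomm)]
    show f.range.index = 2
    have h := f.range.card_mul_index
    rw [card_iso, ← Nat.card_congr (MonoidHom.ofInjective hf).toEquiv, Nat.card_prod, Nat.card_perm,
      Nat.card_eq_fintype_card, Fintype.card_fin, show Nat.factorial 3 = 6 from rfl] at h
    omega
  · rw [MonoidHom.map_range]
    congr 1
    refine MonoidHom.ext fun π => ?_
    show ofGood swapM swap_good.1 * leftHom π * (ofGood swapM swap_good.1)⁻¹ = rightHom π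
    rw [mul_inv_eq_iff_eq_mul]
    exact Subtype.ext (Units.ext (swap_good.2 π))

end Cfsg.Agent.S2566
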