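import Cfsg.Statements.S2567
-- import your own Cfsg.Agent.* helpers here

set_option autoImplicit false
open Cfsg

namespace Cfsg.Agent.S2567

/-- Lifting elements of prime order from PGL to GL: let F be a finite field with q elements, r a prime not dividing q − 1, and x an element of order r in GL_n(F) modulo its centre (the scalar matrices). Then x has exactly one preimage in GL_n(F) of order r. -/
theorem result {F : Type*} [Field F] [Fintype F] {q n r : ℕ} (hF : Fintype.card F = q) (hr : r.Prime) (hdiv : ¬ r ∣ q - 1) (x : GL (Fin n) F ⧸ Subgroup.center (GL (Fin n) F)) (hx : orderOf x = r) : ∃! g : GL (Fin n) F, (QuotientGroup.mk g : GL (Fin n) F ⧸ Subgroup.center (GL (Fin n) F)) = x ∧ orderOf g = r := by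
  subst hF
  have hnat : (Nat.card (Subgroup.center (GL (Fin n) F))).Coprime r := by
    rw [Nat.coprime_comm, hr.coprime_iff_not_dvd]
    intro hd
    rcases n.eq_zero_or_pos with rfl | hn
    · have : Subsingleton (GL (Fin 0) F) := inferInstance
      rw [Nat.card_unique] at hd
      exact hr.one_lt.ne' (Nat.dvd_one.1 hd)
    · haveI : Nonempty (Fin n) := ⟨⟨0, hn⟩⟩
      apply hdiv
      have hc : Nat.card (Subgroup.center (GL (Fin n) F)) ∣ Nat.card Fˣ := by
        rw [Matrix.GeneralLinearGroup.center_eq_range_scalar]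
        exact Subgroup.card_range_dvd _
      rw [Nat.card_units, Nat.card_eq_fintype_card (α := F)] at hc
      exact dvd_trans hd hc
  obtain ⟨g₀, rfl⟩ := QuotientGroup.mk_surjective x
  have hxr : g₀ ^ r ∈ Subgroup.center (GL (Fin n) F) := by
    rw [← QuotientGroup.eq_one_iff, QuotientGroup.mk_pow, ← hx, pow_orderOf_eq_one]
  obtain ⟨z, hz⟩ := (powCoprime hnat).surjective ⟨g₀ ^ r, hxr⟩⁻¹
  have hz' : (z : GL (Fin n) F) ^ r = (g₀ ^ r)⁻¹ := by
    have := congrArg Subtype.val hz
    simpa using this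
  have hzc : ∀ a : GL (Fin n) F, Commute a (z : GL (Fin n) F) :=
    fun a => Subgroup.mem_center_iff.1 z.2 a
  refine ⟨g₀ * z, ⟨?_, ?_⟩, ?_⟩
  · rw [QuotientGroup.mk_mul, (QuotientGroup.eq_one_iff _).2 z.2, mul_one]
  · haveI : Fact r.Prime := ⟨hr⟩
    apply orderOf_eq_prime
    · rw [(hzc g₀).mul_pow, hz', mul_inv_cancel]
    · intro h
      have h' : (QuotientGroup.mk (g₀ * z) : GL (Fin n) F ⧸ Subgroup.center (GL (Fin n) F)) = 1 := by
        rw [h, QuotientGroup.mk_one]
      rw [QuotientGroup.mk_mul, (QuotientGroup.eq_one_iff _).2 z.2, mul_one] at h'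
      rw [h', orderOf_one] at hx
      exact hr.one_lt.ne hx
  · rintro g ⟨hg, hgr⟩
    obtain ⟨c, hc, rfl⟩ : ∃ c ∈ Subgroup.center (GL (Fin n) F), g = g₀ * c :=
      ⟨g₀⁻¹ * g, QuotientGroup.eq.1 hg.symm, by group⟩
    have hcr : (⟨c, hc⟩ : Subgroup.center (GL (Fin n) F)) ^ r = ⟨g₀ ^ r, hxr⟩⁻¹ := by
      apply Subtype.ext
      have h1 : (g₀ * c) ^ r = 1 := hgr ▸ pow_orderOf_eq_one _
      have hcc : Commute g₀ c := Subgroup.mem_center_iff.1 hc g₀
      rw [hcc.mul_pow] at h1
      simpa using (eq_inv_of_mul_eq_one_right h1)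
    have := (powCoprime hnat).injective (show (powCoprime hnat) ⟨c, hc⟩ = (powCoprime hnat) z by
      rw [hz]; exact hcr)
    rw [← this]

end Cfsg.Agent.S2567
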