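import Cfsg.Statements.S2568
import Cfsg.Agent.Lib.PrimeClasses.Realise
import Cfsg.Agent.Lib.PrimeClasses.Count
-- import your own Cfsg.Agent.* helpers here

set_option autoImplicit false
open Cfsg

namespace Cfsg.Agent.S2568

open CfsgLib.PrimeClasses

/-- Number of conjugacy classes of elements of a given prime order r, coprime to the characteristic, in GL_n(q): if i is the multiplicative order of q modulo r and t = (r − 1)/i, the classes correspond to the non-zero t-tuples of natural numbers (a_1, …, a_t) with i(a_1 + ⋯ + a_t) ≤ n (a_j is the multiplicity of the j-th Frobenius orbit of nontrivial r-th roots of unity among the eigenvalues), so there are exactly C(⌊n/i⌋ + t, t) − 1 of them. -/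
theorem result {F : Type*} [Field F] [Fintype F] {p q : ℕ} [Fact p.Prime] [CharP F p] (hF : Fintype.card F = q) (n r i t : ℕ) (hr : r.Prime) (hrp : r ≠ p) (hi : i = orderOf (q : ZMod r)) (ht : t * i = r - 1) : Nat.card {C : ConjClasses (GL (Fin n) F) // ∃ g : GL (Fin n) F, ConjClasses.mk g = C ∧ orderOf g = r} = Nat.choose (n / i + t) t - 1 := by
  classical
  have : Fact r.Prime := ⟨hr⟩
  have hrK : (r : F) ≠ 0 := by
    rw [Ne, CharP.cast_eq_zero_iff F p]
    exact fun h => hrp ((Nat.prime_dvd_prime_iff_eq Fact.out hr).1 h).symm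
  obtain ⟨ζ, hζ, hgen⟩ := exists_root hrK
  subst hF
  let inv : GL (Fin n) F → Orbits hrK → ℕ := fun g => orbitMult hζ hrK (g : Matrix (Fin n) (Fin n) F)
  have hpow : ∀ g : GL (Fin n) F, orderOf g = r → (g : Matrix (Fin n) (Fin n) F) ^ r = 1 :=
    fun g hg => by
      rw [← Units.val_pow_eq_pow_val, orderOf_dvd_iff_pow_eq_one.1 (dvd_of_eq hg), Units.val_one]
  rw [card_classes (fun g : GL (Fin n) F => orderOf g = r) inv
    (fun c => c ≠ 0 ∧ i * ∑ ω, c ω ≤ n) ?_ ?_ ?_ ?_, card_ne_zero_weight_le]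
  · have ht' : Fintype.card (Orbits hrK) = t := by
      have h := card_orbits hrK
      rw [← hi, ← ht] at h
      exact Nat.eq_of_mul_eq_mul_right (hi ▸ orbit_size_pos hrK) h
    rw [ht']
  · exact hi ▸ orbit_size_pos hrK
  · intro x y hx hxy
    obtain ⟨g, rfl⟩ := isConj_iff.1 hxy
    exact (orbitMult_conj hζ hrK g _).symm
  · intro x y hx hy h
    obtain ⟨g, hg⟩ := exists_conj_of_orbitMult hζ hgen hrK (hpow x hx) (hpow y hy) h
    exact isConj_iff.2 ⟨g, mul_inv_eq_iff_eq_mul.2 (Units.ext hg)⟩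
  · intro x hx
    refine ⟨fun h => ?_, ?_⟩
    · have h1 : x = 1 := Units.ext (eq_one_of_orbitMult hζ hrK (hpow x hx) h)
      rw [h1, orderOf_one] at hx
      exact hr.one_lt.ne hx
    · have h := weight_orbitMult_le hζ hrK (hpow x hx)
      rw [Fintype.card_fin] at h
      exact hi ▸ h
  · rintro c ⟨hc0, hc⟩
    obtain ⟨X, hX, hXc⟩ := exists_GL_realise hζ hrK c n (hi ▸ hc)
    obtain ⟨g, rfl⟩ : ∃ g : GL (Fin n) F, (g : Matrix (Fin n) (Fin n) F) = X :=
      ⟨(IsUnit.of_pow_eq_one hX hr.ne_zero).unit, IsUnit.unit_spec _⟩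
    refine ⟨g, orderOf_eq_prime (Units.ext hX) fun h => hc0 ?_, hXc⟩
    rw [← hXc, h, Units.val_one, orbitMult_one]

end Cfsg.Agent.S2568
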