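import Cfsg.Statements.S2570
import Cfsg.Agent.Helper57UnipClass

set_option autoImplicit false
open Cfsg

namespace Cfsg.Agent.S2570

/-- Number of conjugacy classes of elements of order p in GL_n over a finite field of characteristic p: they correspond to the Jordan types, that is, to the partitions of n with all parts at most p other than the partition into ones, so there are (number of partitions of n with parts ≤ p) − 1 of them. -/
theorem result {F : Type*} [Field F] [Fintype F] {p : ℕ} [Fact p.Prime] [CharP F p] (n : ℕ) : Nat.card {C : ConjClasses (GL (Fin n) F) // ∃ g : GL (Fin n) F, ConjClasses.mk g = C ∧ orderOf g = p} = (Finset.univ.filter (fun μ : Nat.Partition n => ∀ a ∈ μ.parts, a ≤ p)).card - 1 := by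
  classical
  let G := GL (Fin n) F
  let S : Finset (Nat.Partition n) := Finset.univ.filter (fun μ : Nat.Partition n => ∀ a ∈ μ.parts, a ≤ p)
  have hp : p.Prime := Fact.out
  have key : ∀ (g : GL (Fin n) F) (μ : Multiset ℕ),
      (∀ k, Module.finrank F (LinearMap.range (Jordan57.nilPart g ^ k)) = CfsgLib.RankProfile.partProfile μ k) →
      ∀ k, (Jordan57.nilPart g ^ k = 0 ↔ ∀ a ∈ μ, a ≤ k) := by
    intro g μ h k
    rw [← Jordan57.partProfile_eq_zero_iff, ← h k, Submodule.finrank_eq_zero, LinearMap.range_eq_bot]
  let ones : Nat.Partition n :=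
    { parts := Multiset.replicate n 1
      parts_pos := fun h => by rw [Multiset.eq_of_mem_replicate h]; exact one_pos
      parts_sum := by simp }
  have hones : ones ∈ S := by
    simp only [S, Finset.mem_filter, Finset.mem_univ, true_and]
    intro a ha
    rw [Multiset.eq_of_mem_replicate ha]
    exact hp.one_le
  have honesiff : ∀ μ : Nat.Partition n, (∀ a ∈ μ.parts, a ≤ 1) ↔ μ = ones := by
    intro μ
    constructor
    · intro h
      apply Nat.Partition.ext
      have h1 : μ.parts = Multiset.replicate (Multiset.card μ.parts) 1 :=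
        Multiset.eq_replicate_card.2 fun a ha => le_antisymm (h a ha) (μ.parts_pos ha)
      have h2 := μ.parts_sum
      rw [h1, Multiset.sum_replicate, smul_eq_mul, mul_one] at h2
      rw [h1, h2]
    · rintro rfl a ha
      rw [Multiset.eq_of_mem_replicate ha]
  choose u hu hprof using fun μ : Nat.Partition n =>
    Jordan57.exists_unip_of_parts (F := F) μ.parts μ.parts_sum
  have hord : ∀ μ ∈ S.erase ones, orderOf (u μ) = p := by
    intro μ hμ
    rw [Finset.mem_erase, Finset.mem_filter] at hμ
    refine orderOf_eq_prime ((Jordan57.pow_eq_one_iff_nilPart (u μ)).2 ((key _ _ (hprof μ) p).2 hμ.2.2)) ?_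
    intro h1
    rw [← Jordan57.nilPart_eq_zero_iff, ← pow_one (Jordan57.nilPart (u μ)), key _ _ (hprof μ) 1, honesiff] at h1
    exact hμ.1 h1
  let Φ : {μ // μ ∈ S.erase ones} → {C : ConjClasses (GL (Fin n) F) // ∃ g : GL (Fin n) F, ConjClasses.mk g = C ∧ orderOf g = p} :=
    fun μ => ⟨ConjClasses.mk (u μ.1), u μ.1, rfl, hord μ.1 μ.2⟩
  have hΦ : Function.Bijective Φ := by
    constructor
    · intro μ ν h
      have hc : IsConj (u μ.1) (u ν.1) := ConjClasses.mk_eq_mk_iff_isConj.1 (congrArg Subtype.val h)
      obtain ⟨c, hc⟩ := isConj_iff.1 hc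
      apply Subtype.ext
      apply Nat.Partition.ext
      refine Jordan57.parts_eq_of_profile (fun a ha => μ.1.parts_pos ha) (fun a ha => ν.1.parts_pos ha) fun k => ?_
      rw [← hprof, ← hprof, ← hc, Jordan57.nilPart_conj]
    · rintro ⟨C, g, rfl, hg⟩
      have hnp : Jordan57.nilPart g ^ p = 0 :=
        (Jordan57.pow_eq_one_iff_nilPart g).1 (by rw [← hg]; exact pow_orderOf_eq_one g)
      obtain ⟨C'⟩ := Jordan57.exists_chains ⟨p, hnp⟩
      have hsum : C'.parts.sum = n := by
        rw [← CfsgLib.RankProfile.partProfile_zero, ← C'.finrank_range_pow, pow_zero, Module.End.one_eq_id,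
          LinearMap.range_id, finrank_top, Module.finrank_fin_fun]
      let μ : Nat.Partition n :=
        { parts := C'.parts, parts_pos := fun ha => C'.parts_pos _ ha, parts_sum := hsum }
      have hμ : μ ∈ S.erase ones := by
        rw [Finset.mem_erase, Finset.mem_filter]
        refine ⟨fun h1 => ?_, Finset.mem_univ _, (key g _ C'.finrank_range_pow p).1 hnp⟩
        have h2 := (key g _ C'.finrank_range_pow 1).2 ((honesiff μ).2 h1)
        rw [pow_one, Jordan57.nilPart_eq_zero_iff] at h2
        rw [h2, orderOf_one] at hg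
        exact hp.one_lt.ne hg
      refine ⟨⟨μ, hμ⟩, Subtype.ext (ConjClasses.mk_eq_mk_iff_isConj.2 ?_)⟩
      exact Jordan57.isConj_of_profile (hu μ) ⟨p, hnp⟩ fun k => by rw [hprof, C'.finrank_range_pow]
  rw [← Nat.card_congr (Equiv.ofBijective Φ hΦ), Nat.card_eq_fintype_card, Fintype.card_coe,
    Finset.card_erase_of_mem hones]

end Cfsg.Agent.S2570
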