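import Cfsg.Statements.S2571
import Cfsg.Agent.Helper57RegNilp

set_option autoImplicit false
open Cfsg

namespace Cfsg.Agent.S2571

/-- Centraliser of a regular unipotent element in GL_n(q): if u is an invertible n × n matrix over the field with q elements, n ≥ 1, with (u − 1)^n = 0 and rank(u − 1) = n − 1 (a single unipotent Jordan block), then its centraliser in GL_n(q) has order (q − 1) q^(n−1). -/
theorem result {F : Type*} [Field F] [Fintype F] {q n : ℕ} (hF : Fintype.card F = q) (hn : 1 ≤ n) (u : GL (Fin n) F) (hnil : ((u : Matrix (Fin n) (Fin n) F) - 1) ^ n = 0) (hreg : ((u : Matrix (Fin n) (Fin n) F) - 1).rank = n - 1) : Nat.card ↥(Subgroup.centralizer ({u} : Set (GL (Fin n) F))) = (q - 1) * q ^ (n - 1) := by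
  have hq : Nat.card F = q := by rw [Nat.card_eq_fintype_card, hF]
  let N : Matrix (Fin n) (Fin n) F := (u : Matrix (Fin n) (Fin n) F) - 1
  let f : Module.End F (Fin n → F) := Matrix.mulVecLin N
  have hn' : Module.finrank F (Fin n → F) = n := by simp
  have hf : f ^ n = 0 := by
    rw [← RegNilp.mulVecLin_pow, hnil, Matrix.mulVecLin_zero]
  have hker : Module.finrank F (LinearMap.ker f) = 1 :=
    RegNilp.finrank_ker_of_rank _ (by simpa using hreg) (by simpa using hn)
  obtain ⟨e, he⟩ := RegNilp.exists_pow_pred_ne hn' hn hker.le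
  have hcomm : ∀ g : GL (Fin n) F, g ∈ Subgroup.centralizer ({u} : Set (GL (Fin n) F)) →
      ∀ i v, (g : Matrix (Fin n) (Fin n) F).mulVec ((f ^ i) v) = (f ^ i) ((g : Matrix (Fin n) (Fin n) F).mulVec v) := by
    intro g hg i v
    have h1 : Commute (g : Matrix (Fin n) (Fin n) F) N :=
      Commute.sub_right
        ((congrArg Units.val (Subgroup.mem_centralizer_singleton_iff.1 hg) : _))
        (Commute.one_right _)
    rw [← RegNilp.mulVecLin_pow, Matrix.mulVecLin_apply, Matrix.mulVecLin_apply,
      Matrix.mulVec_mulVec, Matrix.mulVec_mulVec, (h1.pow_right i).eq]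
  let K := LinearMap.ker (f ^ (n - 1))
  let Φ : ↥(Subgroup.centralizer ({u} : Set (GL (Fin n) F))) → {v : Fin n → F // v ∉ K} :=
    fun g => ⟨((g : GL (Fin n) F) : Matrix (Fin n) (Fin n) F).mulVec e, by
      intro h
      rw [LinearMap.mem_ker, ← hcomm g g.2] at h
      exact he (Matrix.mulVec_injective_iff_isUnit.2 (g : GL (Fin n) F).isUnit
        (h.trans (Matrix.mulVec_zero _).symm))⟩
  have hΦ : Function.Bijective Φ := by
    constructor
    · intro g g' h
      have h' : ((g : GL (Fin n) F) : Matrix (Fin n) (Fin n) F).mulVec e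
          = ((g' : GL (Fin n) F) : Matrix (Fin n) (Fin n) F).mulVec e := congrArg Subtype.val h
      apply Subtype.ext
      apply Units.ext
      apply Matrix.toLin'.injective
      refine (RegNilp.orbitBasis hn' hf he hn).ext fun i => ?_
      rw [RegNilp.orbitBasis_apply, Matrix.toLin'_apply, Matrix.toLin'_apply,
        hcomm g g.2, hcomm g' g'.2, h']
    · rintro ⟨v, hv⟩
      obtain ⟨T, hT, hc⟩ := RegNilp.exists_intertwine hn' hn hf he hf v
      have hb := RegNilp.intertwine_bijective hn' hn hf he hn' hf hv hT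
      let M := LinearMap.toMatrix' T
      have hM : IsUnit M := by
        rw [← Matrix.mulVec_injective_iff_isUnit]
        intro x y h
        apply hb.1
        simpa [M, LinearMap.toMatrix'_mulVec] using h
      have hMN : M * N = N * M := by
        have h1 := congrArg LinearMap.toMatrix' hc
        rw [LinearMap.toMatrix'_comp, LinearMap.toMatrix'_comp] at h1
        simpa [f, ← Matrix.toLin'_apply', LinearMap.toMatrix'_toLin'] using h1
      refine ⟨⟨hM.unit, Subgroup.mem_centralizer_singleton_iff.2 (Units.ext ?_)⟩, Subtype.ext ?_⟩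
      · simpa [Units.val_mul, N, mul_sub, sub_mul] using hMN
      · have := hT 0
        simpa [Φ, M, LinearMap.toMatrix'_mulVec] using this
  rw [Nat.card_congr (Equiv.ofBijective Φ hΦ)]
  have hK : Module.finrank F K = n - 1 := by
    refine le_antisymm (RegNilp.finrank_ker_pow_le f hker.le _) ?_
    have hle : LinearMap.range f ≤ K := by
      rintro _ ⟨v, rfl⟩
      rw [LinearMap.mem_ker, ← Module.End.mul_apply, ← pow_succ, Nat.sub_add_cancel hn, hf]
      rfl
    exact le_of_eq_of_le hreg.symm (Submodule.finrank_mono hle)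
  classical
  have hc : Nat.card {v : Fin n → F // v ∉ K} = q ^ n - q ^ (n - 1) := by
    rw [Nat.card_eq_fintype_card, Fintype.card_subtype_compl, ← Nat.card_eq_fintype_card,
      ← Nat.card_eq_fintype_card, Nat.card_fun, Nat.card_eq_fintype_card (α := Fin n), Fintype.card_fin,
      hq]
    congr 1
    rw [← hq, ← hK]
    exact Module.natCard_eq_pow_finrank
  rw [hc, Nat.sub_mul, one_mul, ← pow_succ', Nat.sub_add_cancel hn]

end Cfsg.Agent.S2571
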