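import Cfsg.Statements.S2572
import Cfsg.Agent.Helper57Transvec

set_option autoImplicit false
open Cfsg

namespace Cfsg.Agent.S2572

/-- Centraliser of a transvection in GL_n(q), n ≥ 2: if t − 1 has rank one and square zero, the centraliser of t in GL_n(q) has order q^(2n−3) (q − 1) |GL_(n−2)(q)| (a group of order q^(2n−3) extended by GL_1(q) × GL_(n−2)(q)). -/
theorem result {F : Type*} [Field F] [Fintype F] {q n : ℕ} (hF : Fintype.card F = q) (hn : 2 ≤ n) (t : GL (Fin n) F) (ht : Cfsg.IsTransvection (t : Matrix (Fin n) (Fin n) F)) : Nat.card ↥(Subgroup.centralizer ({t} : Set (GL (Fin n) F))) = q ^ (2 * n - 3) * (q - 1) * ∏ i : Fin (n - 2), (q ^ (n - 2) - q ^ (i : ℕ)) := by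
  classical
  obtain ⟨p, hp⟩ := Transvec57.exists_pair ht
  have hmem : ∀ g : GL (Fin n) F, g ∈ Subgroup.centralizer ({t} : Set (GL (Fin n) F)) ↔
      Matrix.vecMulVec ((g : Matrix (Fin n) (Fin n) F).mulVec p.1.1) p.1.2
        = Matrix.vecMulVec p.1.1 (Matrix.vecMul p.1.2 (g : Matrix (Fin n) (Fin n) F)) := by
    intro g
    rw [Subgroup.mem_centralizer_singleton_iff, Units.ext_iff, Units.val_mul, Units.val_mul, hp]
    simp only [mul_add, add_mul, mul_one, one_mul, Matrix.mul_vecMulVec, Matrix.vecMulVec_mul,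
      add_right_inj]
  have hscal : ∀ g : GL (Fin n) F, g ∈ Subgroup.centralizer ({t} : Set (GL (Fin n) F)) →
      ∃ c : Fˣ, (g : Matrix (Fin n) (Fin n) F).mulVec p.1.1 = (c : F) • p.1.1 ∧
        Matrix.vecMul p.1.2 (g : Matrix (Fin n) (Fin n) F) = (c : F) • p.1.2 := by
    intro g hg
    have h := (hmem g).1 hg
    obtain ⟨j, hj⟩ := Function.ne_iff.1 p.2.2.1
    obtain ⟨i, hi⟩ := Function.ne_iff.1 p.2.1
    let c : F := Matrix.vecMul p.1.2 (g : Matrix (Fin n) (Fin n) F) j / p.1.2 j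
    have h1 : (g : Matrix (Fin n) (Fin n) F).mulVec p.1.1 = c • p.1.1 := by
      funext k
      have hk := congrFun (congrFun h k) j
      simp only [Matrix.vecMulVec_apply] at hk
      simp only [c, Pi.smul_apply, smul_eq_mul]
      field_simp [show p.1.2 j ≠ 0 from hj]
      linear_combination hk
    have hc : c ≠ 0 := fun h0 => p.2.1 (Matrix.mulVec_injective_iff_isUnit.2 g.isUnit
      (by rw [h1, h0, zero_smul, Matrix.mulVec_zero]))
    refine ⟨Units.mk0 c hc, h1, funext fun k => ?_⟩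
    have hk := congrFun (congrFun h i) k
    rw [h1] at hk
    simp only [Matrix.vecMulVec_apply, Pi.smul_apply, smul_eq_mul] at hk
    simp only [Units.val_mk0, Pi.smul_apply, smul_eq_mul]
    exact mul_left_cancel₀ (show p.1.1 i ≠ 0 from hi) (by linear_combination -hk)
  let S : Type _ := {g : GL (Fin n) F //
    (g : Matrix (Fin n) (Fin n) F).mulVec p.1.1 = p.1.1 ∧
      Matrix.vecMul p.1.2 (g : Matrix (Fin n) (Fin n) F) = p.1.2}
  let sc : Fˣ → GL (Fin n) F := Units.map (Matrix.scalar (Fin n) : F →+* Matrix (Fin n) (Fin n) F).toMonoidHom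
  have hsc : ∀ (c : Fˣ) (g : GL (Fin n) F), ((sc c * g : GL (Fin n) F) : Matrix (Fin n) (Fin n) F)
      = (c : F) • (g : Matrix (Fin n) (Fin n) F) := by
    intro c g
    simp only [sc, Units.val_mul, Units.coe_map]
    show Matrix.scalar (Fin n) (c : F) * _ = _
    rw [Matrix.scalar_apply, ← Matrix.smul_eq_diagonal_mul]
  let Φ : Fˣ × S → ↥(Subgroup.centralizer ({t} : Set (GL (Fin n) F))) := fun cg =>
    ⟨sc cg.1 * cg.2.1, (hmem _).2 (by
      rw [hsc, Matrix.smul_mulVec, Matrix.vecMul_smul, cg.2.2.1, cg.2.2.2, Matrix.smul_vecMulVec,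
        Matrix.vecMulVec_smul])⟩
  have hΦ : Function.Bijective Φ := by
    constructor
    · rintro ⟨c, g⟩ ⟨c', g'⟩ h
      have h' : sc c * g.1 = sc c' * g'.1 := congrArg Subtype.val h
      have h1 := congrArg (fun x : GL (Fin n) F => (x : Matrix (Fin n) (Fin n) F).mulVec p.1.1) h'
      simp only [hsc, Matrix.smul_mulVec, g.2.1, g'.2.1] at h1
      obtain rfl : c = c' := Units.ext (smul_left_injective F p.2.1 h1)
      rw [mul_right_inj] at h'
      exact Prod.ext rfl (Subtype.ext h')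
    · rintro ⟨g, hg⟩
      obtain ⟨c, h1, h2⟩ := hscal g hg
      refine ⟨(c, ⟨sc c⁻¹ * g, ?_, ?_⟩), Subtype.ext ?_⟩
      · rw [hsc, Matrix.smul_mulVec, h1, smul_smul, Units.inv_mul, one_smul]
      · rw [hsc, Matrix.vecMul_smul, h2, smul_smul, Units.inv_mul, one_smul]
      · show sc c * (sc c⁻¹ * g) = g
        rw [← mul_assoc, ← map_mul, mul_inv_cancel, map_one, one_mul]
  rw [← Nat.card_congr (Equiv.ofBijective Φ hΦ), Nat.card_prod, Nat.card_units,
    Nat.card_eq_fintype_card (α := F), hF]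
  let act : GL (Fin n) F → Transvec57.Pair n F := fun g =>
    ⟨((g : Matrix (Fin n) (Fin n) F).mulVec p.1.1,
      Matrix.vecMul p.1.2 ((g⁻¹ : GL (Fin n) F) : Matrix (Fin n) (Fin n) F)),
      fun h => p.2.1 (Matrix.mulVec_injective_iff_isUnit.2 g.isUnit (h.trans (Matrix.mulVec_zero _).symm)),
      fun h => p.2.2.1 (Matrix.vecMul_injective_iff_isUnit.2 (g⁻¹).isUnit (h.trans (Matrix.zero_vecMul _).symm)),
      by rw [← Matrix.dotProduct_mulVec, Matrix.mulVec_mulVec, ← Units.val_mul, inv_mul_cancel,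
          Units.val_one, Matrix.one_mulVec, p.2.2.2]⟩
  have hfib : ∀ p', Nat.card {g // act g = p'} = Nat.card S := by
    intro p'
    obtain ⟨g₀, hg1, hg2⟩ := Transvec57.exists_map p p'
    refine Nat.card_congr ((Equiv.mulLeft g₀⁻¹).subtypeEquiv fun g => ?_)
    simp only [Equiv.coe_mulLeft, Subtype.ext_iff, Prod.ext_iff, act]
    have hinv : ∀ x : GL (Fin n) F, (x : Matrix (Fin n) (Fin n) F) * ((x⁻¹ : GL (Fin n) F) : Matrix (Fin n) (Fin n) F) = 1 := fun x => x.mul_inv
    have hinv' : ∀ x : GL (Fin n) F, ((x⁻¹ : GL (Fin n) F) : Matrix (Fin n) (Fin n) F) * (x : Matrix (Fin n) (Fin n) F) = 1 := fun x => x.inv_mul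
    have hk1 : ((g₀⁻¹ : GL (Fin n) F) : Matrix (Fin n) (Fin n) F).mulVec p'.1.1 = p.1.1 := by
      rw [← hg1, Matrix.mulVec_mulVec, hinv', Matrix.one_mulVec]
    have hk2 : Matrix.vecMul p.1.2 ((g₀⁻¹ : GL (Fin n) F) : Matrix (Fin n) (Fin n) F) = p'.1.2 := by
      rw [← hg2, Matrix.vecMul_vecMul, hinv, Matrix.vecMul_one]
    simp only [Units.val_mul, ← Matrix.mulVec_mulVec, ← Matrix.vecMul_vecMul, hk2]
    constructor
    · rintro ⟨h1, h2⟩
      exact ⟨by rw [h1, hk1], by rw [← h2, Matrix.vecMul_vecMul, hinv', Matrix.vecMul_one]⟩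
    · rintro ⟨h1, h2⟩
      refine ⟨?_, by conv_lhs => rw [← h2]
                     rw [Matrix.vecMul_vecMul, hinv, Matrix.vecMul_one]⟩
      apply Matrix.mulVec_injective_iff_isUnit.2 (g₀⁻¹).isUnit
      rw [hk1]; exact h1
  have hGL : Nat.card (GL (Fin n) F) = Nat.card (Transvec57.Pair n F) * Nat.card S := by
    rw [← Nat.card_congr (Equiv.sigmaFiberEquiv act), Nat.card_sigma, Finset.sum_congr rfl (fun p' _ => hfib p'),
      Finset.sum_const, Finset.card_univ, smul_eq_mul, Nat.card_eq_fintype_card (α := Transvec57.Pair n F)]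
  have hpairs : Nat.card (Transvec57.Pair n F) = (q ^ n - 1) * (q ^ (n - 1) - 1) := by
    have e : Transvec57.Pair n F ≃
        Σ a : {a : Fin n → F // a ≠ 0}, {b : LinearMap.ker (dotProductBilin F F a.1) // b ≠ 0} :=
      { toFun := fun x => ⟨⟨x.1.1, x.2.1⟩, ⟨⟨x.1.2, by
            show dotProduct x.1.1 x.1.2 = 0
            rw [dotProduct_comm]; exact x.2.2.2⟩, fun h => x.2.2.1 (congrArg Subtype.val h)⟩⟩
        invFun := fun x => ⟨(x.1.1, x.2.1.1), x.1.2, fun h => x.2.2 (Subtype.ext h), by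
            rw [dotProduct_comm]; exact x.2.1.2⟩
        left_inv := fun x => rfl
        right_inv := fun x => rfl }
    rw [Nat.card_congr e, Nat.card_sigma]
    have hk : ∀ a : {a : Fin n → F // a ≠ 0},
        Nat.card {b : LinearMap.ker (dotProductBilin F F a.1) // b ≠ 0} = q ^ (n - 1) - 1 := by
      intro a
      rw [Nat.card_eq_fintype_card, Fintype.card_subtype_compl, Fintype.card_subtype_eq]
      congr 1
      rw [← Nat.card_eq_fintype_card, Module.natCard_eq_pow_finrank (K := F), Nat.card_eq_fintype_card, hF]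
      congr 1
      have hne : (dotProductBilin F F a.1 : (Fin n → F) →ₗ[F] F) ≠ 0 := fun h =>
        a.2 (dotProduct_eq_zero_iff.1 fun w => LinearMap.congr_fun h w)
      have h1 := (dotProductBilin F F a.1).finrank_range_add_finrank_ker
      rw [LinearMap.range_eq_top.2 (LinearMap.surjective hne), finrank_top, Module.finrank_self,
        Module.finrank_fin_fun] at h1
      omega
    rw [Finset.sum_congr rfl (fun a _ => hk a), Finset.sum_const, Finset.card_univ, smul_eq_mul,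
      Fintype.card_subtype_compl, Fintype.card_subtype_eq, Fintype.card_fun, Fintype.card_fin, hF]
  obtain ⟨k, rfl⟩ : ∃ k, n = k + 2 := ⟨n - 2, by omega⟩
  have hprod : ∀ m, ∏ i : Fin (m + 1), (q ^ (m + 1) - q ^ (i : ℕ))
      = (q ^ (m + 1) - 1) * (q ^ m * ∏ i : Fin m, (q ^ m - q ^ (i : ℕ))) := by
    intro m
    have h : ∀ i : Fin m, q ^ (m + 1) - q ^ ((i.succ : Fin (m + 1)) : ℕ) = q * (q ^ m - q ^ (i : ℕ)) := by
      intro i
      rw [Fin.val_succ, pow_succ', pow_succ', Nat.mul_sub]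
    rw [Fin.prod_univ_succ, Finset.prod_congr rfl (fun i _ => h i), Finset.prod_mul_distrib,
      Finset.prod_const, Finset.card_univ, Fintype.card_fin, Fin.val_zero, pow_zero]
  rw [Matrix.card_GL_field, hF, hpairs, hprod, hprod, Nat.add_sub_cancel (n := k + 1) (m := 1)] at hGL
  have hq1 : 1 < q := hF ▸ Fintype.one_lt_card
  have hpos : 0 < (q ^ (k + 2) - 1) * (q ^ (k + 1) - 1) :=
    Nat.mul_pos (Nat.sub_pos_of_lt (Nat.one_lt_pow (by omega) hq1))
      (Nat.sub_pos_of_lt (Nat.one_lt_pow (by omega) hq1))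
  have hS : Nat.card S = q ^ (k + 1) * (q ^ k * ∏ i : Fin k, (q ^ k - q ^ (i : ℕ))) := by
    refine Nat.eq_of_mul_eq_mul_left hpos (hGL.symm.trans ?_)
    ring
  rw [hS, show 2 * (k + 2) - 3 = (k + 1) + k by omega, pow_add q (k + 1) k, Nat.add_sub_cancel]
  ring

end Cfsg.Agent.S2572
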