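import Cfsg.Statements.S2574
import Cfsg.Agent.Helper57RegNilp
import Cfsg.Agent.Helper57Symp

set_option autoImplicit false
open Cfsg

namespace Cfsg.Agent.S2574

/-- A regular unipotent element of the symplectic group has totally isotropic small invariant subspaces: over a finite field, if u ∈ Sp_2m(F) satisfies (u − 1)^(2m) = 0 and rank(u − 1) = 2m − 1, and W is a u-invariant subspace with 2 dim W ≤ 2m, then the alternating form vanishes identically on W. -/
theorem result {F : Type*} [Field F] [Finite F] {m : ℕ} (u : Matrix.symplecticGroup (Fin m) F) (hnil : ((u : Matrix (Fin m ⊕ Fin m) (Fin m ⊕ Fin m) F) - 1) ^ (2 * m) = 0) (hreg : ((u : Matrix (Fin m ⊕ Fin m) (Fin m ⊕ Fin m) F) - 1).rank = 2 * m - 1) (W : Submodule F (Fin m ⊕ Fin m → F)) (hW : ∀ v ∈ W, (u : Matrix (Fin m ⊕ Fin m) (Fin m ⊕ Fin m) F).mulVec v ∈ W) (hdim : 2 * Module.finrank F W ≤ 2 * m) : ∀ v ∈ W, ∀ w ∈ W, Cfsg.sympForm m F v w = 0 := by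
  obtain ⟨A, hA⟩ := u
  dsimp only at hnil hreg hW
  let f : Module.End F (Fin m ⊕ Fin m → F) := Matrix.mulVecLin (A - 1)
  have hf : f ^ (2 * m) = 0 := by
    rw [← RegNilp.mulVecLin_pow, hnil, Matrix.mulVecLin_zero]
  have h1 : Module.finrank F (LinearMap.ker f) ≤ 1 := by
    rcases Nat.eq_zero_or_pos m with h | h
    · subst h
      exact le_trans (Submodule.finrank_le _) (by simp)
    · exact le_of_eq (RegNilp.finrank_ker_of_rank _
        (by rw [hreg, Fintype.card_sum, Fintype.card_fin]; omega) (by simp; omega))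
  have hinv : ∀ W' : Submodule F (Fin m ⊕ Fin m → F), (∀ v ∈ W', A.mulVec v ∈ W') →
      ∀ v ∈ W', f v ∈ W' := by
    intro W' h v hv
    simp only [f, Matrix.mulVecLin_apply, Matrix.sub_mulVec, Matrix.one_mulVec]
    exact W'.sub_mem (h v hv) hv
  have hsurj : ∀ w ∈ W, ∃ w' ∈ W, A.mulVec w' = w := by
    intro w hw
    have hinj : Function.Injective (Matrix.mulVecLin A) := Matrix.mulVec_injective_iff_isUnit.2
      ((Matrix.isUnit_iff_isUnit_det _).2 (SymplecticGroup.symplectic_det hA))
    obtain ⟨⟨w', hw'⟩, he⟩ := (LinearMap.injective_iff_surjective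
      (f := (Matrix.mulVecLin A).restrict hW)).1
      (fun x y h => Subtype.ext (hinj (congrArg Subtype.val h))) ⟨w, hw⟩
    exact ⟨w', hw', congrArg Subtype.val he⟩
  have hperp : ∀ v ∈ (Symp57.sB m F).orthogonal W, A.mulVec v ∈ (Symp57.sB m F).orthogonal W := by
    intro v hv
    rw [LinearMap.BilinForm.mem_orthogonal_iff] at hv ⊢
    intro w hw
    obtain ⟨w', hw', rfl⟩ := hsurj w hw
    have := hv w' hw'
    rw [Symp57.sB_apply] at this ⊢
    rwa [Symp57.sympForm_invariant hA]
  have hdimP := LinearMap.BilinForm.finrank_orthogonal (B := Symp57.sB m F) Symp57.sB_nondegenerate W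
  rw [Module.finrank_fintype_fun_eq_card, Fintype.card_sum, Fintype.card_fin] at hdimP
  have hle := RegNilp.invariant_mono ⟨_, hf⟩ h1 (hinv W hW) (hinv _ hperp) (by omega)
  intro v hv w hw
  have := LinearMap.BilinForm.mem_orthogonal_iff.1 (hle hw) v hv
  rwa [Symp57.sB_apply] at this

end Cfsg.Agent.S2574
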