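import Cfsg.Statements.S2576
import Cfsg.Agent.Helper57TwoPower

set_option autoImplicit false
open Cfsg

namespace Cfsg.Agent.S2576

/-- Which involutions of PGL_2m(q) coming from a scalar of the quadratic extension field lie in PSL_2m(q), q odd: let μ generate the Sylow 2-subgroup of the multiplicative group of the field with q elements (μ has order the 2-part of q − 1) and let t be the block-diagonal matrix with m diagonal blocks [[0, 1], [μ, 0]] (so t² is the scalar μ and t is an involution modulo scalars). Then some non-zero scalar multiple of t has determinant one if and only if q ≡ 3 (mod 4) or the 2-part of q − 1 is less than the 2-part of 2m. -/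
theorem result {F : Type*} [Field F] [Fintype F] {q : ℕ} (hF : Fintype.card F = q) (hq : Odd q) {m : ℕ} (hm : 1 ≤ m) (μ : F) (hμ : orderOf μ = 2 ^ padicValNat 2 (q - 1)) : (∃ c : F, c ≠ 0 ∧ (c • Matrix.blockDiagonal (fun _ : Fin m => !![(0 : F), 1; μ, 0])).det = 1) ↔ (q % 4 = 3 ∨ padicValNat 2 (q - 1) < padicValNat 2 (2 * m)) := by
  have hdet : ∀ c : F, (c • Matrix.blockDiagonal (fun _ : Fin m => !![(0 : F), 1; μ, 0])).det
      = ((-1 : F) * (c ^ 2 * μ)) ^ m := by
    intro c
    rw [Matrix.det_smul, Matrix.det_blockDiagonal, Finset.prod_const, Finset.card_univ,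
      Fintype.card_prod, Fintype.card_fin, Fintype.card_fin, Matrix.det_fin_two_of, pow_mul,
      ← mul_pow]
    congr 1
    ring
  simp only [hdet]
  have hq2 : 3 ≤ q := by
    have h : 2 ≤ q := hF ▸ Fintype.one_lt_card
    rcases hq with ⟨k, rfl⟩
    omega
  have hm0 : m ≠ 0 := by omega
  have h2m : padicValNat 2 (2 * m) = padicValNat 2 m + 1 := by
    rw [padicValNat.mul two_ne_zero hm0, padicValNat_self, add_comm]
  rw [h2m, Nat.lt_succ_iff]
  by_cases h3 : q % 4 = 3
  · simp only [h3, true_or, iff_true]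
    have hb : padicValNat 2 (q - 1) = 1 := by
      refine le_antisymm ?_ ((padicValNat_dvd_iff_le (p := 2) (by omega)).1 ⟨(q - 1) / 2, by omega⟩)
      by_contra hcon
      have h4 : 2 ^ 2 ∣ q - 1 := (padicValNat_dvd_iff_le (by omega)).2 (by omega)
      omega
    rw [hb, pow_one, orderOf_eq_iff two_pos] at hμ
    have hμ1 : μ = -1 := (sq_eq_one_iff.1 hμ.1).resolve_left fun h => hμ.2 1 one_lt_two one_pos (by rw [h, pow_one])
    exact ⟨1, one_ne_zero, by rw [hμ1]; simp⟩
  · simp only [h3, false_or]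
    have hμ0 : μ ≠ 0 := by
      rintro rfl
      rw [orderOf_zero] at hμ
      exact (pow_ne_zero _ two_ne_zero) hμ.symm
    constructor
    · rintro ⟨c, hc0, hc⟩
      have hd : Even ((q - 1) / 2) := by
        rcases hq with ⟨k, rfl⟩
        rw [Nat.even_iff]; omega
      have hz : ((-1 : F) * (c ^ 2 * μ)) ^ ((q - 1) / 2) = -1 := by
        rw [mul_pow, hd.neg_one_pow, one_mul, mul_pow, ← pow_mul,
          Nat.mul_div_cancel' (by obtain ⟨k, rfl⟩ := hq; exact ⟨k, by omega⟩),
          TwoPower57.neg_one_pow_half hF hq hμ, ← hF,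
          FiniteField.pow_card_sub_one_eq_one c hc0, one_mul]
      generalize hzd : (-1 : F) * (c ^ 2 * μ) = z at hc hz
      obtain ⟨r, hr, hqr⟩ := TwoPower57.exists_eq_two_pow_mul_odd (n := q - 1) (by omega)
      obtain ⟨a, ha⟩ : ∃ a, padicValNat 2 (q - 1) = a + 1 :=
        ⟨_, (Nat.sub_add_cancel ((padicValNat_dvd_iff_le (p := 2) (by omega)).1
          (by obtain ⟨k, rfl⟩ := hq; exact ⟨k, by omega⟩))).symm⟩
      rw [ha] at hqr
      have ho : orderOf (z ^ r) = 2 ^ (a + 1) := by
        refine orderOf_eq_prime_pow ?_ ?_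
        · rw [← pow_mul, show r * 2 ^ a = (q - 1) / 2 by rw [hqr, pow_succ, mul_comm (2 ^ a) 2, mul_assoc, Nat.mul_div_cancel_left _ two_pos, mul_comm], hz]
          exact TwoPower57.neg_one_ne_one hF hq
        · rw [← pow_mul, mul_comm, ← hqr,
            show q - 1 = (q - 1) / 2 * 2 by obtain ⟨k, rfl⟩ := hq; omega, pow_mul, hz, neg_one_sq]
      have hd2 : 2 ^ (a + 1) ∣ m := ho ▸ (orderOf_dvd_of_pow_eq_one (by
        rw [← pow_mul, mul_comm, pow_mul, hc, one_pow]))
      rw [ha]
      exact (padicValNat_dvd_iff_le hm0).1 hd2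
    · intro hle
      have hd : orderOf μ ∣ m := hμ ▸ (padicValNat_dvd_iff_le hm0).2 hle
      have he : Even m := by
        refine even_iff_two_dvd.2 (dvd_trans ?_ hd)
        rw [hμ]
        exact dvd_pow_self 2 (by
          have := (padicValNat_dvd_iff_le (p := 2) (a := q - 1) (n := 1) (by omega)).1 (by obtain ⟨k, rfl⟩ := hq; exact ⟨k, by omega⟩)
          omega)
      refine ⟨1, one_ne_zero, ?_⟩
      rw [mul_pow, he.neg_one_pow, one_mul, one_pow, one_mul]
      exact orderOf_dvd_iff_pow_eq_one.1 hd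

end Cfsg.Agent.S2576
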