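import Cfsg.Statements.S2578
import Cfsg.Agent.Helper57RegUnipClass
import Cfsg.Agent.Lib.RegUnip.Jordan

set_option autoImplicit false
open Cfsg

namespace Cfsg.Agent.S2578

/-- Regular unipotent classes of SL_n(q): for n ≥ 2 over the field with q elements, the matrices u of determinant one with (u − 1)^n = 0 and rank(u − 1) = n − 1 form a single GL_n(q)-class which splits into exactly gcd(n, q − 1) conjugacy classes of SL_n(q). -/
theorem result {F : Type*} [Field F] [Fintype F] {q : ℕ} (hF : Fintype.card F = q) {n : ℕ} (hn : 2 ≤ n) : Nat.card {C : ConjClasses (Matrix.SpecialLinearGroup (Fin n) F) // ∃ u : Matrix.SpecialLinearGroup (Fin n) F, ConjClasses.mk u = C ∧ ((u : Matrix (Fin n) (Fin n) F) - 1) ^ n = 0 ∧ ((u : Matrix (Fin n) (Fin n) F) - 1).rank = n - 1} = Nat.gcd n (q - 1) := by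
  classical
  let u0 := CfsgLib.RegUnip.regUnip n F
  let N0 : Matrix (Fin n) (Fin n) F := (u0 : Matrix (Fin n) (Fin n) F) - 1
  have hn0 : 1 ≤ n := by omega
  have hN0 : N0 ^ n = 0 := by
    simp only [N0, u0, CfsgLib.RegUnip.regUnip_val, add_sub_cancel_left]
    exact CfsgLib.RegUnip.shiftMat_pow_eq_zero n
  have hf0 : (Matrix.mulVecLin N0 : Module.End F (Fin n → F)) ^ n = 0 := by
    rw [← RegNilp.mulVecLin_pow, hN0, Matrix.mulVecLin_zero]
  have hr0 : N0.rank = n - 1 := by
    obtain ⟨e, he⟩ : ∃ e, ((Matrix.mulVecLin N0 : Module.End F (Fin n → F)) ^ (n - 1)) e ≠ 0 := by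
      by_contra h
      push Not at h
      refine (CfsgLib.RegUnip.regUnip_isRegular (F := F) n (by omega)).2 ?_
      apply Matrix.toLin'.injective
      rw [map_zero]
      refine LinearMap.ext fun v => ?_
      rw [Matrix.toLin'_apply, LinearMap.zero_apply, ← Matrix.mulVecLin_apply, RegNilp.mulVecLin_pow]
      exact h v
    exact RegNilp.finrank_range_of_cyclic (Module.finrank_fin_fun F) hn0 hf0 he
  have hex : ∀ u : (Matrix.SpecialLinearGroup (Fin n) F), ((u : Matrix (Fin n) (Fin n) F) - 1) ^ n = 0 →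
      ((u : Matrix (Fin n) (Fin n) F) - 1).rank = n - 1 →
      ∃ g : GL (Fin n) F, (g : Matrix (Fin n) (Fin n) F) * N0 * ((g⁻¹ : GL (Fin n) F) : Matrix (Fin n) (Fin n) F)
        = (u : Matrix (Fin n) (Fin n) F) - 1 := by
    intro u hu hru
    set N : Matrix (Fin n) (Fin n) F := (u : Matrix (Fin n) (Fin n) F) - 1
    have hfn : (Matrix.mulVecLin N : Module.End F (Fin n → F)) ^ n = 0 := by
      rw [← RegNilp.mulVecLin_pow, hu, Matrix.mulVecLin_zero]
    obtain ⟨T, hT⟩ := RegNilp.exists_conj (Module.finrank_fin_fun F) hn0 hf0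
      (le_of_eq (RegNilp.finrank_ker_of_rank _ (by simpa using hr0) (by simpa using hn0)))
      (Module.finrank_fin_fun F) hfn
      (le_of_eq (RegNilp.finrank_ker_of_rank _ (by simpa using hru) (by simpa using hn0)))
    have hM : IsUnit (LinearMap.toMatrix' T.toLinearMap) := by
      rw [← Matrix.mulVec_injective_iff_isUnit]
      intro x y h
      apply T.injective
      simpa [LinearMap.toMatrix'_mulVec] using h
    refine ⟨hM.unit, ?_⟩
    have h1 := congrArg LinearMap.toMatrix' hT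
    rw [LinearMap.toMatrix'_comp, LinearMap.toMatrix'_comp, ← Matrix.toLin'_apply', ← Matrix.toLin'_apply',
      LinearMap.toMatrix'_toLin', LinearMap.toMatrix'_toLin'] at h1
    have h2 : LinearMap.toMatrix' T.toLinearMap * ((hM.unit⁻¹ : GL (Fin n) F) : Matrix (Fin n) (Fin n) F) = 1 :=
      hM.unit.mul_inv
    rw [IsUnit.unit_spec, h1, Matrix.mul_assoc, h2, mul_one]
  let cj : GL (Fin n) F → Matrix.SpecialLinearGroup (Fin n) F := fun g =>
    ⟨(g : Matrix (Fin n) (Fin n) F) * (u0 : Matrix (Fin n) (Fin n) F) * ((g⁻¹ : GL (Fin n) F) : Matrix (Fin n) (Fin n) F),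
      by rw [Matrix.det_units_conj]; exact u0.2⟩
  let cl : GL (Fin n) F → ConjClasses (Matrix.SpecialLinearGroup (Fin n) F) := fun g => ConjClasses.mk (cj g)
  let R : Subgroup Fˣ := (powMonoidHom n : Fˣ →* Fˣ).range
  have hcl : ∀ g g' : GL (Fin n) F, cl g = cl g' ↔
      (QuotientGroup.mk (Matrix.GeneralLinearGroup.det g) : Fˣ ⧸ R) = QuotientGroup.mk (Matrix.GeneralLinearGroup.det g') := by
    intro g g'
    rw [QuotientGroup.eq]
    show ConjClasses.mk (cj g) = ConjClasses.mk (cj g') ↔ _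
    rw [ConjClasses.mk_eq_mk_iff_isConj]
    constructor
    · intro h
      obtain ⟨s, hs⟩ := isConj_iff.1 h
      have hs' : s * cj g = cj g' * s := mul_inv_eq_iff_eq_mul.1 hs
      let S : GL (Fin n) F := Matrix.SpecialLinearGroup.toGL s
      have hmat : (S : Matrix (Fin n) (Fin n) F) * ((g : Matrix (Fin n) (Fin n) F) * (u0 : Matrix (Fin n) (Fin n) F) * ((g⁻¹ : GL (Fin n) F) : Matrix (Fin n) (Fin n) F))
          = ((g' : Matrix (Fin n) (Fin n) F) * (u0 : Matrix (Fin n) (Fin n) F) * ((g'⁻¹ : GL (Fin n) F) : Matrix (Fin n) (Fin n) F)) * (S : Matrix (Fin n) (Fin n) F) :=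
        congrArg Subtype.val hs'
      let U0 : GL (Fin n) F := Matrix.SpecialLinearGroup.toGL u0
      have hgl : S * (g * U0 * g⁻¹) = (g' * U0 * g'⁻¹) * S := Units.ext hmat
      have hk : (g'⁻¹ * S * g) * U0 = U0 * (g'⁻¹ * S * g) := by
        have h1 := congrArg (fun x => g'⁻¹ * x * g) hgl
        simpa [mul_assoc] using h1
      have hkN : Commute ((g'⁻¹ * S * g : GL (Fin n) F) : Matrix (Fin n) (Fin n) F) N0 :=
        Commute.sub_right (congrArg Units.val hk : _) (Commute.one_right _)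
      obtain ⟨c, hc⟩ := RegNilp.det_of_commute hn0 hN0 hr0 hkN
      have hc0 : c ≠ 0 := by
        rintro rfl
        rw [zero_pow (by omega : n ≠ 0)] at hc
        exact ((Matrix.isUnit_iff_isUnit_det _).1 (g'⁻¹ * S * g).isUnit).ne_zero hc
      have hd : Matrix.GeneralLinearGroup.det (g'⁻¹ * S * g) = (Units.mk0 c hc0) ^ n := Units.ext hc
      have hS : Matrix.GeneralLinearGroup.det S = 1 := Units.ext s.2
      rw [map_mul, map_mul, map_inv, hS, mul_one] at hd
      refine ⟨(Units.mk0 c hc0)⁻¹, ?_⟩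
      rw [powMonoidHom_apply, inv_pow, ← hd, _root_.mul_inv_rev, inv_inv]
    · rintro ⟨c, hc⟩
      rw [powMonoidHom_apply] at hc
      let Z : GL (Fin n) F := ⟨Matrix.scalar (Fin n) (c : F), Matrix.scalar (Fin n) ((c⁻¹ : Fˣ) : F),
        by rw [← map_mul, ← Units.val_mul, mul_inv_cancel, Units.val_one, map_one],
        by rw [← map_mul, ← Units.val_mul, inv_mul_cancel, Units.val_one, map_one]⟩
      let k : GL (Fin n) F := g' * g⁻¹ * Z⁻¹
      have hk : (k : Matrix (Fin n) (Fin n) F).det = 1 := by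
        have hZ : Matrix.GeneralLinearGroup.det Z = c ^ n := Units.ext (by
          show (Matrix.scalar (Fin n) (c : F)).det = _
          rw [Matrix.scalar_apply, Matrix.det_diagonal, Finset.prod_const, Finset.card_univ, Fintype.card_fin]
          simp)
        have h1 : Matrix.GeneralLinearGroup.det k = 1 := by
          simp only [k, map_mul, map_inv, hZ, hc]
          simp [mul_comm, mul_left_comm, mul_assoc]
        exact congrArg Units.val h1
      obtain ⟨K, hK⟩ : ∃ K : Matrix.SpecialLinearGroup (Fin n) F,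
          (K : Matrix (Fin n) (Fin n) F) = (k : Matrix (Fin n) (Fin n) F) := ⟨⟨_, hk⟩, rfl⟩
      refine isConj_iff.2 ⟨K, ?_⟩
      rw [mul_inv_eq_iff_eq_mul]
      apply Subtype.ext
      have hz : ∀ x : GL (Fin n) F, Z⁻¹ * x = x * Z⁻¹ := fun x => by
        apply Units.ext
        exact (Matrix.scalar_commute ((c⁻¹ : Fˣ) : F) (fun r => Commute.all _ _) (x : Matrix (Fin n) (Fin n) F)).eq
      have hgl : k * (g * Matrix.SpecialLinearGroup.toGL u0 * g⁻¹)
          = (g' * Matrix.SpecialLinearGroup.toGL u0 * g'⁻¹) * k := by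
        simp only [k]
        rw [mul_assoc (g' * g⁻¹), hz, ← mul_assoc, ← mul_assoc, ← mul_assoc, ← mul_assoc,
          inv_mul_cancel_right]
        group
      rw [Matrix.SpecialLinearGroup.coe_mul, Matrix.SpecialLinearGroup.coe_mul, hK]
      exact congrArg Units.val hgl
  let δ : Fˣ → GL (Fin n) F := fun t =>
    ⟨Matrix.diagonal (fun k : Fin n => if k = ⟨0, by omega⟩ then (t : F) else 1),
      Matrix.diagonal (fun k : Fin n => if k = ⟨0, by omega⟩ then ((t⁻¹ : Fˣ) : F) else 1),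
      by rw [Matrix.diagonal_mul_diagonal, ← Matrix.diagonal_one]; congr 1; funext k; split_ifs <;> simp,
      by rw [Matrix.diagonal_mul_diagonal, ← Matrix.diagonal_one]; congr 1; funext k; split_ifs <;> simp⟩
  have hδ : ∀ t, Matrix.GeneralLinearGroup.det (δ t) = t := fun t => Units.ext (by
    show (Matrix.diagonal fun k : Fin n => if k = ⟨0, by omega⟩ then (t : F) else 1).det = t
    rw [Matrix.det_diagonal, Finset.prod_eq_single (⟨0, by omega⟩ : Fin n) (fun b _ hb => if_neg hb) (by simp),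
      if_pos rfl])
  let P : ConjClasses (Matrix.SpecialLinearGroup (Fin n) F) → Prop := fun C => ∃ u : (Matrix.SpecialLinearGroup (Fin n) F), ConjClasses.mk u = C ∧
    ((u : Matrix (Fin n) (Fin n) F) - 1) ^ n = 0 ∧ ((u : Matrix (Fin n) (Fin n) F) - 1).rank = n - 1
  have hconjsub : ∀ g : GL (Fin n) F,
      (g : Matrix (Fin n) (Fin n) F) * (u0 : Matrix (Fin n) (Fin n) F) * ((g⁻¹ : GL (Fin n) F) : Matrix (Fin n) (Fin n) F) - 1
        = (g : Matrix (Fin n) (Fin n) F) * N0 * ((g⁻¹ : GL (Fin n) F) : Matrix (Fin n) (Fin n) F) := fun g => by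
    simp only [N0, mul_sub, sub_mul, mul_one, ← Units.val_mul, mul_inv_cancel, Units.val_one]
  have hmem : ∀ g, P (cl g) := by
    intro g
    refine ⟨_, rfl, ?_, ?_⟩
    · show ((g : Matrix (Fin n) (Fin n) F) * (u0 : Matrix (Fin n) (Fin n) F) * ((g⁻¹ : GL (Fin n) F) : Matrix (Fin n) (Fin n) F) - 1) ^ n = 0
      rw [hconjsub, Units.conj_pow, hN0, mul_zero, zero_mul]
    · show ((g : Matrix (Fin n) (Fin n) F) * (u0 : Matrix (Fin n) (Fin n) F) * ((g⁻¹ : GL (Fin n) F) : Matrix (Fin n) (Fin n) F) - 1).rank = n - 1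
      rw [hconjsub, Matrix.rank_mul_eq_left_of_isUnit_det _ _ ((Matrix.isUnit_iff_isUnit_det _).1 (g⁻¹).isUnit),
        Matrix.rank_mul_eq_right_of_isUnit_det _ _ ((Matrix.isUnit_iff_isUnit_det _).1 g.isUnit), hr0]
  let Φ : Fˣ ⧸ R → {C : ConjClasses (Matrix.SpecialLinearGroup (Fin n) F) // P C} := Quotient.lift (fun t => ⟨cl (δ t), hmem _⟩)
    (fun a b hab => Subtype.ext ((hcl _ _).2 (by rw [hδ, hδ]; exact Quotient.sound hab)))
  have hΦ : Function.Bijective Φ := by
    constructor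
    · intro x y h
      obtain ⟨a, rfl⟩ := QuotientGroup.mk_surjective x
      obtain ⟨b, rfl⟩ := QuotientGroup.mk_surjective y
      have h1 := (hcl _ _).1 (congrArg Subtype.val h : cl (δ a) = cl (δ b))
      rwa [hδ, hδ] at h1
    · rintro ⟨C, u, rfl, hu, hru⟩
      obtain ⟨g, hg⟩ := hex u hu hru
      refine ⟨QuotientGroup.mk (Matrix.GeneralLinearGroup.det g), Subtype.ext ?_⟩
      show cl (δ (Matrix.GeneralLinearGroup.det g)) = ConjClasses.mk u
      rw [(hcl _ g).2 (by rw [hδ])]
      refine congrArg ConjClasses.mk (Subtype.ext ?_)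
      show (g : Matrix (Fin n) (Fin n) F) * (u0 : Matrix (Fin n) (Fin n) F) * ((g⁻¹ : GL (Fin n) F) : Matrix (Fin n) (Fin n) F) = (u : Matrix (Fin n) (Fin n) F)
      exact sub_left_inj.1 ((hconjsub g).trans hg)
  refine (Nat.card_congr (Equiv.ofBijective Φ hΦ)).symm.trans ?_
  rw [← Subgroup.index_eq_card, IsCyclic.index_powMonoidHom_range, Nat.card_units,
    Nat.card_eq_fintype_card, hF, Nat.gcd_comm]

end Cfsg.Agent.S2578
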