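import Cfsg.Statements.S2579
import Cfsg.Agent.Helper57Transvec

set_option autoImplicit false
open Cfsg

namespace Cfsg.Agent.S2579

/-- In SL_n(F) with n ≥ 3, over a finite field F, any two transvections (matrices t with t − 1 of rank one and square zero) are conjugate by an element of SL_n(F). -/
theorem result {F : Type*} [Field F] [Finite F] {n : ℕ} (hn : 3 ≤ n) (s t : Matrix.SpecialLinearGroup (Fin n) F) (hs : Cfsg.IsTransvection (s : Matrix (Fin n) (Fin n) F)) (ht : Cfsg.IsTransvection (t : Matrix (Fin n) (Fin n) F)) : IsConj s t := by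
  obtain ⟨p, hp⟩ := Transvec57.exists_pair hs
  obtain ⟨p', hp'⟩ := Transvec57.exists_pair ht
  obtain ⟨g, hg1, hg2⟩ := Transvec57.exists_map p p'
  let N : Matrix (Fin n) (Fin n) F := (g : Matrix (Fin n) (Fin n) F)
  let ψ' : (Fin n → F) →ₗ[F] F := dotProductBilin F F p'.1.2
  have hker : 2 ≤ Module.finrank F (LinearMap.ker ψ') := by
    have h1 := ψ'.finrank_range_add_finrank_ker
    have h2 : Module.finrank F (LinearMap.range ψ') ≤ 1 :=
      (Submodule.finrank_le _).trans (le_of_eq (Module.finrank_self F))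
    rw [Module.finrank_fin_fun] at h1
    omega
  obtain ⟨y, hy, hya⟩ : ∃ y ∈ LinearMap.ker ψ', y ∉ Submodule.span F {p'.1.1} := by
    by_contra hcon
    push Not at hcon
    have h := Submodule.finrank_mono (fun y hy => hcon y hy : LinearMap.ker ψ' ≤ Submodule.span F {p'.1.1})
    rw [finrank_span_singleton p'.2.1] at h
    omega
  obtain ⟨χ, hχy, hχa⟩ := Submodule.exists_dual_map_eq_bot_of_notMem hya inferInstance
  let w : Fin n → F := fun i => χ (Pi.single i 1) / χ y
  have hw : ∀ x : Fin n → F, dotProduct w x = χ x / χ y := by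
    intro x
    conv_rhs => rw [pi_eq_sum_univ' x, map_sum, Finset.sum_div]
    exact Finset.sum_congr rfl fun i _ => by rw [map_smul, smul_eq_mul]; ring
  have hwa : dotProduct w p'.1.1 = 0 := by
    rw [hw]
    have : χ p'.1.1 ∈ Submodule.map χ (Submodule.span F {p'.1.1}) :=
      Submodule.mem_map_of_mem (Submodule.mem_span_singleton_self _)
    rw [hχa, Submodule.mem_bot] at this
    rw [this, zero_div]
  have hwy : dotProduct w y = 1 := by rw [hw, div_self hχy]
  let d : F := N.det
  have hd : d ≠ 0 := ((Matrix.isUnit_iff_isUnit_det _).1 g.isUnit).ne_zero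
  let D : Matrix (Fin n) (Fin n) F := 1 + Matrix.vecMulVec ((d⁻¹ - 1) • y) w
  have hD : D.det = d⁻¹ := by
    simp only [D]
    rw [Matrix.vecMulVec_eq Unit, Matrix.det_one_add_replicateCol_mul_replicateRow, dotProduct_smul,
      hwy, smul_eq_mul, mul_one]
    ring
  have hy' : dotProduct p'.1.2 y = 0 := hy
  have hcomm : D * (1 + Matrix.vecMulVec p'.1.1 p'.1.2) = (1 + Matrix.vecMulVec p'.1.1 p'.1.2) * D := by
    simp only [D, mul_add, add_mul, mul_one, one_mul, Matrix.vecMulVec_mul_vecMulVec, hwa,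
      dotProduct_smul, hy', smul_zero, zero_smul, Matrix.zero_vecMulVec, Matrix.vecMulVec_zero, add_zero]
    abel
  let c : Matrix.SpecialLinearGroup (Fin n) F := ⟨D * N, by rw [Matrix.det_mul, hD]; exact inv_mul_cancel₀ hd⟩
  refine ⟨toUnits c, ?_⟩
  show c * s = t * c
  apply Subtype.ext
  show D * N * (s : Matrix (Fin n) (Fin n) F) = (t : Matrix (Fin n) (Fin n) F) * (D * N)
  rw [hp, hp', mul_assoc, Transvec57.conj_of_map hg1 hg2, ← mul_assoc, hcomm, mul_assoc]

end Cfsg.Agent.S2579
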