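import Cfsg.Statements.S2585


set_option autoImplicit false
open Cfsg

namespace Cfsg.Agent.S2585

/-- Over a finite field of characteristic two every element of the symplectic group is orthogonal for a suitable quadratic form: for each A in Sp_2m(F) there is a quadratic form Q on F^(2m) whose polar form is the alternating form defining Sp_2m(F) (so Q is non-degenerate) and which A preserves. Equivalently, for m ≥ 1, Sp_2m(F) is the union of the conjugates of its two orthogonal subgroups O⁺_2m(F) and O⁻_2m(F). -/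
theorem result {F : Type*} [Field F] [Fintype F] [CharP F 2] {m : ℕ} (A : Matrix.symplecticGroup (Fin m) F) : ∃ Q : QuadraticForm F (Fin m ⊕ Fin m → F), (∀ u v : Fin m ⊕ Fin m → F, QuadraticMap.polar ⇑Q u v = Cfsg.sympForm m F u v) ∧ ∀ v : Fin m ⊕ Fin m → F, Q ((A : Matrix (Fin m ⊕ Fin m) (Fin m ⊕ Fin m) F).mulVec v) = Q v := by
  obtain ⟨A, hA⟩ := A
  let Q0 : QuadraticForm F (Fin m ⊕ Fin m → F) :=
    ∑ i : Fin m, QuadraticMap.linMulLin (LinearMap.proj (Sum.inl i)) (LinearMap.proj (Sum.inr i))
  have hQ0 : ∀ v, Q0 v = ∑ i : Fin m, v (Sum.inl i) * v (Sum.inr i) := fun v => by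
    simp [Q0, QuadraticMap.sum_apply]
  have hform : ∀ u v, Cfsg.sympForm m F u v =
      ∑ i : Fin m, (u (Sum.inl i) * v (Sum.inr i) + u (Sum.inr i) * v (Sum.inl i)) := by
    intro u v
    simp only [Cfsg.sympForm, dotProduct, Matrix.mulVec, Matrix.J, Fintype.sum_sum_type,
      Matrix.fromBlocks_apply₁₁, Matrix.fromBlocks_apply₁₂, Matrix.fromBlocks_apply₂₁,
      Matrix.fromBlocks_apply₂₂, Matrix.zero_apply, Matrix.neg_apply, Matrix.one_apply]
    simp only [zero_mul, neg_mul, ite_mul, one_mul, Finset.sum_const_zero, zero_add, add_zero,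
      Finset.sum_neg_distrib, Finset.sum_ite_eq, Finset.mem_univ, if_true, CharTwo.neg_eq]
    rw [Finset.sum_add_distrib]
  have hpol : ∀ u v, QuadraticMap.polar ⇑Q0 u v = Cfsg.sympForm m F u v := fun u v => by
    simp only [QuadraticMap.polar, hQ0, hform, Pi.add_apply, ← Finset.sum_sub_distrib]
    exact Finset.sum_congr rfl fun i _ => by ring
  have hA' : ∀ u v, Cfsg.sympForm m F (A.mulVec u) (A.mulVec v) = Cfsg.sympForm m F u v := by
    intro u v
    have h1 : A.transpose * Matrix.J (Fin m) F * A = Matrix.J (Fin m) F :=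
      SymplecticGroup.mem_iff'.1 hA
    rw [Cfsg.sympForm, Cfsg.sympForm, Matrix.mulVec_mulVec, Matrix.dotProduct_mulVec,
      Matrix.dotProduct_mulVec, ← Matrix.vecMul_transpose, Matrix.vecMul_vecMul, ← Matrix.mul_assoc, h1]
  haveI : Fact (Nat.Prime 2) := ⟨Nat.prime_two⟩
  have hadd : ∀ u v, Q0 (A.mulVec (u + v)) + Q0 (u + v)
      = (Q0 (A.mulVec u) + Q0 u) + (Q0 (A.mulVec v) + Q0 v) := by
    intro u v
    rw [Matrix.mulVec_add, QuadraticMap.map_add Q0, QuadraticMap.map_add Q0, hpol, hpol, hA']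
    linear_combination CharTwo.add_self_eq_zero (Cfsg.sympForm m F u v)
  let r := frobeniusEquiv F 2
  let α : (Fin m ⊕ Fin m → F) →ₗ[F] F :=
    { toFun := fun v => r.symm (Q0 (A.mulVec v) + Q0 v)
      map_add' := fun u v => by rw [hadd, map_add]
      map_smul' := fun c v => by
        rw [Matrix.mulVec_smul, QuadraticMap.map_smul, QuadraticMap.map_smul, ← smul_add,
          smul_eq_mul, map_mul, RingHom.id_apply, smul_eq_mul]
        congr 1
        apply r.injective
        rw [RingEquiv.apply_symm_apply]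
        simp [r, frobeniusEquiv_apply, frobenius_def, pow_two] }
  let T : (Fin m ⊕ Fin m → F) →ₗ[F] (Fin m ⊕ Fin m → F) := Matrix.mulVecLin A - 1
  have hker : LinearMap.ker T ≤ LinearMap.ker α := by
    intro v hv
    have : A.mulVec v = v := by simpa [T, sub_eq_zero] using hv
    simp [α, this, CharTwo.add_self_eq_zero]
  let g : LinearMap.range T →ₗ[F] F :=
    ((LinearMap.ker T).liftQ α hker).comp (T.quotKerEquivRange.symm.toLinearMap)
  obtain ⟨l, hl⟩ := LinearMap.exists_extend g
  have hlT : ∀ v, l (T v) = α v := by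
    intro v
    have h1 := LinearMap.congr_fun hl ⟨T v, LinearMap.mem_range_self T v⟩
    simpa [g] using h1
  refine ⟨Q0 + QuadraticMap.linMulLin l l, fun u v => ?_, fun v => ?_⟩
  · rw [← hpol]
    simp only [QuadraticMap.polar, QuadraticMap.add_apply, QuadraticMap.linMulLin_apply, map_add]
    linear_combination CharTwo.add_self_eq_zero (l u * l v)
  · change Q0 (A.mulVec v) + l (A.mulVec v) * l (A.mulVec v) = Q0 v + l v * l v
    have h1 : l (A.mulVec v) + l v = α v := by
      rw [← hlT, ← CharTwo.sub_eq_add, ← map_sub]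
      rfl
    have h2 : α v * α v = Q0 (A.mulVec v) + Q0 v := by
      rw [← pow_two]
      exact r.apply_symm_apply _
    rw [← CharTwo.add_eq_zero]
    linear_combination (-1 : F) * h2 - (l (A.mulVec v) + l v + α v) * h1
      + CharTwo.add_self_eq_zero (α v * α v) + 2 * CharTwo.add_self_eq_zero (l (A.mulVec v) * l v)
      + (-(l (A.mulVec v) * l v) + l (A.mulVec v) ^ 2 + l v ^ 2 - α v ^ 2) * (CharTwo.two_eq_zero (R := F))

end Cfsg.Agent.S2585
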