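import Cfsg.Statements.S2589
import Cfsg.Agent.Helper57SpSemisimple

set_option autoImplicit false
open Cfsg

namespace Cfsg.Agent.S2589

/-- Two semisimple elements of the finite symplectic group Sp_2m(F) (elements of order prime to the characteristic) are conjugate in Sp_2m(F) if and only if they are conjugate in GL_2m(F). -/
theorem result {F : Type*} [Field F] [Fintype F] {p : ℕ} [Fact p.Prime] [CharP F p] {m : ℕ} (A B : Matrix.symplecticGroup (Fin m) F) (hA : (orderOf A).Coprime p) : IsConj A B ↔ IsConj (A : Matrix (Fin m ⊕ Fin m) (Fin m ⊕ Fin m) F) (B : Matrix (Fin m ⊕ Fin m) (Fin m ⊕ Fin m) F) := by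
  refine ⟨fun h => MonoidHom.map_isConj (Submonoid.subtype (Matrix.symplecticGroup (Fin m) F)) h, fun h => ?_⟩
  have hr : ((orderOf A : ℕ) : F) ≠ 0 := by
    rw [Ne, CharP.cast_eq_zero_iff F p]
    intro hd
    exact (Fact.out : p.Prime).ne_one ((Nat.dvd_one).1 (hA.gcd_eq_one ▸ Nat.dvd_gcd hd dvd_rfl))
  obtain ⟨c, hc⟩ := h
  exact Cfsg.Agent.SpSemisimple57.sp_isConj_of_similar hr A B (pow_orderOf_eq_one A) c hc

end Cfsg.Agent.S2589
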