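import Cfsg.Statements.S2590
import Cfsg.Agent.Lib.IsomConj.Classical

set_option autoImplicit false
open Cfsg

namespace Cfsg.Agent.S2590

/-- Two semisimple elements of odd order of a finite orthogonal group (isometry group of a quadratic form on F^n with non-degenerate polar form, F finite of characteristic p; the elements have odd order prime to p) are conjugate in the orthogonal group if and only if they are conjugate in GL_n(F). -/
theorem result {F : Type*} [Field F] [Fintype F] {p : ℕ} [Fact p.Prime] [CharP F p] {n : ℕ} (Q : QuadraticForm F (Fin n → F)) (hQ : (QuadraticMap.polarBilin Q).Nondegenerate) (A B : ↥(Cfsg.isometryGroup F ⇑Q)) (hodd : Odd (orderOf A)) (hA : (orderOf A).Coprime p) : IsConj A B ↔ IsConj ((A : Matrix.GeneralLinearGroup (Fin n) F) : Matrix (Fin n) (Fin n) F) ((B : Matrix.GeneralLinearGroup (Fin n) F) : Matrix (Fin n) (Fin n) F) := by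
  refine ⟨fun h => MonoidHom.map_isConj ((Units.coeHom (Matrix (Fin n) (Fin n) F)).comp (Cfsg.isometryGroup F ⇑Q).subtype) h, fun h => ?_⟩
  have hr : ((orderOf A : ℕ) : F) ≠ 0 := by
    rw [Ne, CharP.cast_eq_zero_iff F p]
    intro hd
    exact (Fact.out : p.Prime).ne_one ((Nat.dvd_one).1 (hA.gcd_eq_one ▸ Nat.dvd_gcd hd dvd_rfl))
  refine CfsgLib.IsomConj.O_isConj_of_similar Q hQ hodd hr A B (pow_orderOf_eq_one A) ?_
  obtain ⟨c, hc⟩ := h
  exact ⟨toUnits c, Units.ext hc⟩

end Cfsg.Agent.S2590
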