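import Cfsg.Statements.S2594
import Cfsg.Agent.Lib.Sp.Card
import Cfsg.Agent.Lib.Sp.Group

set_option autoImplicit false
open Cfsg

namespace Cfsg.Agent.S2594

open CfsgLib Matrix in
theorem exists_eq_tmat {F : Type*} [Field F] {m : ℕ} (t : Matrix.symplecticGroup (Fin m) F)
    (ht : ((t : Matrix (Fin m ⊕ Fin m) (Fin m ⊕ Fin m) F) - 1).rank = 1) :
    ∃ v c, v ≠ 0 ∧ c ≠ 0 ∧ t = Sp.tmat v c := by
  obtain ⟨v, hv, hspan⟩ := (finrank_eq_one_iff' (K := F)
    (V := LinearMap.range ((t : Matrix (Fin m ⊕ Fin m) (Fin m ⊕ Fin m) F) - 1).mulVecLin)).1 ht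
  have hv0 : (v : Fin m ⊕ Fin m → F) ≠ 0 := fun h => hv (Subtype.ext h)
  have hd : ∀ x, ∃ l : F, t.1 *ᵥ x = x + l • (v : Fin m ⊕ Fin m → F) := fun x => by
    obtain ⟨l, hl⟩ := hspan ⟨_, LinearMap.mem_range_self _ x⟩
    refine ⟨l, ?_⟩
    have h : l • (v : Fin m ⊕ Fin m → F) = t.1 *ᵥ x - x := by
      have := congrArg Subtype.val hl
      simpa [sub_mulVec] using this
    rw [h, add_sub_cancel]
  choose l hl using hd
  obtain ⟨y, hy⟩ := Sp.exists_pair_one hv0
  have key : ∀ x, l x = -l y * Cfsg.sympForm m F x v := by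
    intro x
    have h := Sp.sympForm_mulVec t x y
    have hvv := Sp.sympForm_self (v : Fin m ⊕ Fin m → F)
    simp only [hl] at h
    simp only [← Sp.sympBilin_apply] at h hvv hy ⊢
    simp only [map_add, map_smul, LinearMap.add_apply, LinearMap.smul_apply, smul_eq_mul, hvv, hy] at h
    linear_combination h
  refine ⟨v, -l y, hv0, ?_, ?_⟩
  · intro h0
    have h1 : (t : Matrix (Fin m ⊕ Fin m) (Fin m ⊕ Fin m) F) - 1 = 0 := by
      refine Matrix.ext_of_mulVec_single fun i => ?_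
      rw [sub_mulVec, one_mulVec, hl, key, h0, zero_mul, zero_smul, add_zero, sub_self, zero_mulVec]
    rw [h1, Matrix.rank_zero] at ht
    exact zero_ne_one ht
  · refine Subtype.ext (Matrix.ext_of_mulVec_single fun i => ?_)
    show t.1 *ᵥ _ = Cfsg.sympTransvection m _ _ *ᵥ _
    rw [hl, Sp.sympTransvection_mulVec, key]

open CfsgLib Matrix in
theorem centralizer_tmat {F : Type*} [Field F] [CharP F 2] {m : ℕ} {v : Fin m ⊕ Fin m → F} {c : F}
    (hv : v ≠ 0) (hc : c ≠ 0) :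
    Subgroup.centralizer ({Sp.tmat v c} : Set (symplecticGroup (Fin m) F)) = Sp.tupleStab ![v] := by
  ext A
  rw [Subgroup.mem_centralizer_singleton_iff]
  constructor
  · intro h i
    fin_cases i
    show A.1 *ᵥ v = v
    have h' : Sp.tmat (A.1 *ᵥ v) c = Sp.tmat v c := by rw [← Sp.conj_tmat, h, mul_inv_cancel_right]
    obtain ⟨y, hy⟩ := Sp.exists_pair_one hv
    have hy' : Cfsg.sympForm m F y v = -1 := by rw [Sp.sympForm_flip v y, hy]
    have h2 : ∀ x, (c * Cfsg.sympForm m F x (A.1 *ᵥ v)) • (A.1 *ᵥ v) = (c * Cfsg.sympForm m F x v) • v := fun x => by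
      have := congrArg (fun B : symplecticGroup (Fin m) F => B.1 *ᵥ x) h'
      simpa [Sp.tmat, Sp.sympTransvection_mulVec] using this
    set a := Cfsg.sympForm m F y (A.1 *ᵥ v) with ha
    have h3 : a • (A.1 *ᵥ v) = -v := by
      have := h2 y
      rw [hy', mul_neg, mul_one, neg_smul, mul_smul, ← ha, ← smul_neg] at this
      exact smul_right_injective _ hc this
    have h4 : a * a = 1 := by
      have := congrArg (fun w => Sp.sympBilin m F y w) h3
      simp only [map_smul, map_neg, Sp.sympBilin_apply, smul_eq_mul, hy', ← ha, neg_neg] at this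
      exact this
    have h5 : a = 1 := by
      rcases mul_self_eq_one_iff.1 h4 with h | h
      · exact h
      · rw [h, CharTwo.neg_eq]
    rw [h5, one_smul] at h3
    rw [h3, show -v = v from funext fun i => CharTwo.neg_eq _]
  · intro h
    have h0 : A.1 *ᵥ v = v := h 0
    rw [← mul_inv_eq_iff_eq_mul, Sp.conj_tmat, h0]


/-- Over a finite field with q elements, q even, an element t of Sp_2m(F) with rank(t − 1) = 1 (a symplectic transvection) has centraliser in Sp_2m(F) of order q^(2m−1) · |Sp_(2m−2)(q)| = q^(2m−1) · q^((m−1)²) · Π_(i=1)^(m−1) (q^(2i) − 1). -/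
theorem result {F : Type*} [Field F] [Fintype F] [CharP F 2] {q : ℕ} (hF : Fintype.card F = q) {m : ℕ} (hm : 1 ≤ m) (t : Matrix.symplecticGroup (Fin m) F) (ht : ((t : Matrix (Fin m ⊕ Fin m) (Fin m ⊕ Fin m) F) - 1).rank = 1) : Nat.card ↥(Subgroup.centralizer ({t} : Set ↥(Matrix.symplecticGroup (Fin m) F))) = q ^ (2 * m - 1) * (q ^ ((m - 1) ^ 2) * ∏ i : Fin (m - 1), (q ^ (2 * ((i : ℕ) + 1)) - 1)) := by
  classical
  obtain ⟨v, c, hv, hc, rfl⟩ := exists_eq_tmat t ht
  rw [centralizer_tmat hv hc]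
  have hx : (![v] : Fin 1 → Fin m ⊕ Fin m → F) ∈ CfsgLib.Sp.isoTuples m F 1 :=
    ⟨LinearIndependent.of_subsingleton 0 hv, fun i j => by
      fin_cases i; fin_cases j; exact CfsgLib.Sp.sympForm_self v⟩
  have h := CfsgLib.Sp.card_eq_isoTuples_mul hx
  rw [CfsgLib.Sp.card_symplecticGroup hF, CfsgLib.Sp.card_isoTuples hF, Finset.prod_range_one] at h
  obtain ⟨k, rfl⟩ : ∃ k, m = k + 1 := ⟨m - 1, by omega⟩
  rw [Finset.prod_range_succ, Nat.sub_zero, pow_zero] at h
  simp only [Nat.add_sub_cancel]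
  rw [← Fin.prod_univ_eq_prod_range (fun i => q ^ (2 * (i + 1)) - 1) k] at h
  have hq : 1 < q := hF ▸ Fintype.one_lt_card
  have hpos : 0 < q ^ (2 * (k + 1)) - 1 := by
    have : 1 < q ^ (2 * (k + 1)) := Nat.one_lt_pow (by omega) hq
    omega
  refine Nat.eq_of_mul_eq_mul_left hpos ?_
  rw [← h, ← mul_assoc (q ^ _) (q ^ _), ← pow_add, show 2 * (k + 1) - 1 + k ^ 2 = (k + 1) ^ 2 by
    rw [show 2 * (k + 1) - 1 = 2 * k + 1 by omega]; ring]
  generalize q ^ (2 * (k + 1)) - 1 = Q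
  simp only [mul_comm, mul_left_comm]
  rfl

end Cfsg.Agent.S2594
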