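import Cfsg.Statements.S2599


set_option autoImplicit false
open Cfsg

namespace Cfsg.Agent.S2599

/-- An irreducible invariant subspace of a semisimple isometry is non-degenerate or totally singular: let Q be a quadratic form on F^n (F finite of characteristic p) with non-degenerate polar form f, x an isometry of Q of order prime to p, and U a non-zero x-invariant subspace containing no x-invariant subspace other than 0 and U. Then U meets its f-orthogonal trivially, or Q vanishes on U, or p = 2, U is a line spanned by a non-singular vector and x fixes U pointwise. -/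
theorem result {F : Type*} [Field F] [Fintype F] {p : ℕ} [Fact p.Prime] [CharP F p] {n : ℕ} (Q : QuadraticForm F (Fin n → F)) (hQ : (QuadraticMap.polarBilin Q).Nondegenerate) (x : ↥(Cfsg.isometryGroup F ⇑Q)) (hx : (orderOf x).Coprime p) (U : Submodule F (Fin n → F)) (hU0 : U ≠ ⊥) (hUx : ∀ u ∈ U, ((x : Matrix.GeneralLinearGroup (Fin n) F) : Matrix (Fin n) (Fin n) F).mulVec u ∈ U) (hirr : ∀ W : Submodule F (Fin n → F), W ≤ U → (∀ w ∈ W, ((x : Matrix.GeneralLinearGroup (Fin n) F) : Matrix (Fin n) (Fin n) F).mulVec w ∈ W) → W = ⊥ ∨ W = U) : U ⊓ LinearMap.BilinForm.orthogonal (QuadraticMap.polarBilin Q) U = ⊥ ∨ (∀ u ∈ U, Q u = 0) ∨ (p = 2 ∧ Module.finrank F U = 1 ∧ (∃ u ∈ U, Q u ≠ 0) ∧ ∀ u ∈ U, ((x : Matrix.GeneralLinearGroup (Fin n) F) : Matrix (Fin n) (Fin n) F).mulVec u = u) := by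
  obtain ⟨⟨g, hg⟩, rfl⟩ : ∃ g, x = g := ⟨x, rfl⟩
  dsimp only at hUx hirr ⊢
  let M : Matrix (Fin n) (Fin n) F := g
  have hQM : ∀ v, Q (M.mulVec v) = Q v := fun v => hg v v
  let B : LinearMap.BilinForm F (Fin n → F) := QuadraticMap.polarBilin Q
  have hBM : ∀ u v, B (M.mulVec u) (M.mulVec v) = B u v := by
    intro u v
    simp only [B, QuadraticMap.polarBilin_apply_apply, QuadraticMap.polar, ← Matrix.mulVec_add, hQM]
  have hsurj : ∀ w ∈ U, ∃ w' ∈ U, M.mulVec w' = w := by
    intro w hw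
    have hinj : Function.Injective (Matrix.mulVecLin M) :=
      Matrix.mulVec_injective_iff_isUnit.2 g.isUnit
    obtain ⟨⟨w', hw'⟩, he⟩ := (LinearMap.injective_iff_surjective
      (f := (Matrix.mulVecLin M).restrict hUx)).1
      (fun x y h => Subtype.ext (hinj (congrArg Subtype.val h))) ⟨w, hw⟩
    exact ⟨w', hw', congrArg Subtype.val he⟩
  rcases hirr (U ⊓ B.orthogonal U) inf_le_left (by
    intro w hw
    refine ⟨hUx w hw.1, ?_⟩
    intro u hu
    obtain ⟨u', hu', rfl⟩ := hsurj u hu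
    show B (M.mulVec u') (M.mulVec w) = 0
    rw [hBM]
    exact hw.2 u' hu') with h | h
  · exact Or.inl h
  right
  have hiso : ∀ u ∈ U, ∀ v ∈ U, B u v = 0 := fun u hu v hv => (inf_eq_left.1 h hv) u hu
  have hself : ∀ u ∈ U, (2 : F) * Q u = 0 := fun u hu => by
    rw [← hiso u hu u hu, QuadraticMap.polarBilin_apply_apply, QuadraticMap.polar_self]
    simp [two_mul, two_smul]
  by_cases hp : p = 2
  · subst hp

    have hadd : ∀ u ∈ U, ∀ v ∈ U, Q (u + v) = Q u + Q v := fun u hu v hv => by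
      rw [QuadraticMap.map_add Q, ← QuadraticMap.polarBilin_apply_apply, hiso u hu v hv, add_zero]
    let K : Submodule F (Fin n → F) :=
      { carrier := {u | u ∈ U ∧ Q u = 0}
        add_mem' := fun {u v} hu hv => ⟨U.add_mem hu.1 hv.1, by rw [hadd u hu.1 v hv.1, hu.2, hv.2, add_zero]⟩
        zero_mem' := ⟨U.zero_mem, map_zero Q⟩
        smul_mem' := fun c u hu => ⟨U.smul_mem c hu.1, by rw [QuadraticMap.map_smul, hu.2, smul_zero]⟩ }
    rcases hirr K (fun u hu => hu.1) (fun w hw => ⟨hUx w hw.1, (hQM w).trans hw.2⟩) with hK | hK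
    · right
      obtain ⟨u, hu, hu0⟩ := Submodule.exists_mem_ne_zero_of_ne_bot hU0
      have hQ0 : ∀ v ∈ U, Q v = 0 → v = 0 := fun v hv h0 => by
        have : v ∈ K := ⟨hv, h0⟩
        rwa [hK, Submodule.mem_bot] at this
      have hmul : ∀ v ∈ U, ∃ c : F, c * c * Q u = Q v ∧ c • u = v := by
        intro v hv
        have hQu : Q u ≠ 0 := fun h0 => hu0 (hQ0 u hu h0)
        obtain ⟨c, hc⟩ := isSquare_of_charTwo' (Q v / Q u)
        have hc' : c * c * Q u = Q v := by rw [← hc, div_mul_cancel₀ _ hQu]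
        refine ⟨c, hc', ?_⟩
        have h1 := hQ0 (c • u + v) (U.add_mem (U.smul_mem c hu) hv) (by
          rw [hadd _ (U.smul_mem c hu) v hv, QuadraticMap.map_smul, smul_eq_mul, hc',
            CharTwo.add_self_eq_zero])
        have h2 := eq_neg_of_add_eq_zero_left h1
        rw [h2]
        funext i
        exact CharTwo.neg_eq _
      refine ⟨rfl, ?_, ⟨u, hu, fun h0 => hu0 (hQ0 u hu h0)⟩, fun v hv => ?_⟩
      · refine finrank_eq_one (⟨u, hu⟩ : U) (fun h => hu0 (congrArg Subtype.val h)) ?_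
        rintro ⟨v, hv⟩
        obtain ⟨c, -, hc⟩ := hmul v hv
        exact ⟨c, Subtype.ext hc⟩
      · have hz : M.mulVec v + v = 0 := hQ0 _ (U.add_mem (hUx v hv) hv) (by
          rw [hadd _ (hUx v hv) v hv, hQM, CharTwo.add_self_eq_zero])
        rw [eq_neg_of_add_eq_zero_left hz]
        funext i
        exact CharTwo.neg_eq _
    · left
      intro u hu
      rw [← hK] at hu
      exact hu.2
  · left
    intro u hu
    have h2 : (2 : F) ≠ 0 := Ring.two_ne_zero (by rwa [ringChar.eq F p])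
    exact (mul_eq_zero.1 (hself u hu)).resolve_left h2

end Cfsg.Agent.S2599
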