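import Cfsg.Statements.S2601
import Cfsg.Agent.Lib.AutPSL.OutPSL

set_option autoImplicit false
open Cfsg CfsgLib.AutPSL

namespace Cfsg.Agent.S2601

/-- Structure of the outer automorphism group of PSL_n(q), n ≥ 3, q = p^f: it has a normal cyclic subgroup of order gcd(n, q − 1) (the diagonal automorphisms) whose quotient is the direct product of a cyclic group of order f (field automorphisms) and a group of order 2 (the inverse-transpose graph automorphism). -/
theorem result {F : Type*} [Field F] [Fintype F] {p f n : ℕ} [Fact p.Prime] (hf : 1 ≤ f) (hF : Fintype.card F = p ^ f) (hn : 3 ≤ n) : ∃ φ : Cfsg.Out (Matrix.ProjectiveSpecialLinearGroup (Fin n) F) →* Multiplicative (ZMod f × ZMod 2), Function.Surjective φ ∧ IsCyclic φ.ker ∧ Nat.card φ.ker = Nat.gcd n (p ^ f - 1) := by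
  obtain ⟨e⟩ := nonempty_ringAut_equiv hF
  haveI := conjAut_range_normal (F := F) (n := n) (by omega)
  let ι2 : Multiplicative (ZMod 2) →* MulAut (Matrix.ProjectiveSpecialLinearGroup (Fin n) F) :=
    { toFun := fun x => if x = 1 then 1 else iotaAut
      map_one' := if_pos rfl
      map_mul' := fun a b => by
        have hc : ∀ z : Multiplicative (ZMod 2), z = 1 ∨ z = Multiplicative.ofAdd 1 := by decide
        rcases hc a with rfl | rfl <;> rcases hc b with rfl | rfl
        · simp
        · simp
        · simp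
        · rw [if_neg (by decide : ¬ Multiplicative.ofAdd (1 : ZMod 2) = 1), iotaAut_sq,
            if_pos (by decide : Multiplicative.ofAdd (1 : ZMod 2) * Multiplicative.ofAdd 1 = 1)] }
  let Φ : (F ≃+* F) × Multiplicative (ZMod 2) →* MulAut (Matrix.ProjectiveSpecialLinearGroup (Fin n) F) :=
    MonoidHom.noncommCoprod fieldAut ι2 (fun σ x => by
      show Commute (fieldAut σ) (if x = 1 then 1 else iotaAut)
      split_ifs
      · exact Commute.one_right _
      · exact (iotaAut_mul_fieldAut σ).symm)
  obtain ⟨φ, hφ, hker⟩ := exists_out_hom (conjAut : GL (Fin n) F →* _).range inn_le_range Φ (by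
      rintro ⟨σ, x⟩ ⟨g, hg⟩
      have hΦ : Φ (σ, x) = fieldAut σ * (if x = 1 then 1 else iotaAut) := rfl
      by_cases hx : x = 1
      · subst hx
        rw [hΦ, if_pos rfl, mul_one] at hg
        have := (eq_one_of_conj_field (by omega) (g := g⁻¹) (σ := σ) (by rw [map_inv, hg, inv_mul_cancel])).2
        rw [this]
        rfl
      · exfalso
        rw [hΦ, if_neg hx] at hg
        exact ne_one_of_conj_field_iota hn g⁻¹ σ (by rw [map_inv, hg, mul_assoc, inv_mul_cancel])) (by
      intro β
      obtain ⟨g, σ, rfl | rfl⟩ := aut_psl_structure (by omega) β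
      · exact ⟨conjAut g, ⟨g, rfl⟩, (σ, 1), by
          show _ = conjAut g * (fieldAut σ * (if (1 : Multiplicative (ZMod 2)) = 1 then 1 else iotaAut))
          rw [if_pos rfl, mul_one]⟩
      · exact ⟨conjAut g, ⟨g, rfl⟩, (σ, Multiplicative.ofAdd 1), by
          show _ = conjAut g * (fieldAut σ * (if Multiplicative.ofAdd (1 : ZMod 2) = 1 then 1 else iotaAut))
          rw [if_neg (by decide : ¬ Multiplicative.ofAdd (1 : ZMod 2) = 1), mul_assoc]⟩)
  obtain ⟨hcyc, hcard⟩ := diag_image (n := n) (F := F) (by omega)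
  let e2 : (F ≃+* F) × Multiplicative (ZMod 2) ≃* Multiplicative (ZMod f × ZMod 2) :=
    (e.prodCongr (MulEquiv.refl _)).trans (MulEquiv.prodMultiplicative (ZMod f) (ZMod 2)).symm
  refine ⟨e2.toMonoidHom.comp φ, e2.surjective.comp hφ, ?_⟩
  have hk : (e2.toMonoidHom.comp φ).ker = φ.ker := by
    ext x
    simp [MonoidHom.mem_ker]
  rw [hk, hker, ← hF]
  exact ⟨hcyc, hcard⟩

end Cfsg.Agent.S2601
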