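import Cfsg.Statements.S2609
import Cfsg.Agent.Helper57Spinor

set_option autoImplicit false
open Cfsg

namespace Cfsg.Agent.S2609

/-- Spinor norm criterion for Ω over a finite field of odd order: let Q be a quadratic form on F^n, n ≥ 2, with non-degenerate polar form, and let g be an isometry written as a product of reflections in non-singular vectors v_1, …, v_k. Then g lies in Ω (the commutator subgroup of the orthogonal group) if and only if k is even and Q(v_1)⋯Q(v_k) is a square; in particular, for g of determinant one, whether that product is a square does not depend on the chosen factorisation (it is the spinor norm of g). -/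
theorem result {F : Type*} [Field F] [Fintype F] (h2 : (2 : F) ≠ 0) {n : ℕ} (hn : 2 ≤ n) (Q : QuadraticForm F (Fin n → F)) (hQ : (QuadraticMap.polarBilin Q).Nondegenerate) (g : ↥(Cfsg.isometryGroup F ⇑Q)) (vs : List (Fin n → F)) (hvs : ∀ v ∈ vs, Q v ≠ 0) (hg : ((g : Matrix.GeneralLinearGroup (Fin n) F) : Matrix (Fin n) (Fin n) F) = (vs.map (fun v => Cfsg.reflectionMatrix ⇑Q v)).prod) : g ∈ Cfsg.Omega F ⇑Q ↔ (Even vs.length ∧ IsSquare (vs.map (fun v => Q v)).prod) := by
  classical
  obtain ⟨d, hd⟩ := CfsgLib.OrthOmega.exists_not_square h2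
  have hlist : ∀ l : List (Fin n → F), (((l.map (CfsgLib.Orth.refl Q)).prod : CfsgLib.Orth.O Q) :
      Matrix.GeneralLinearGroup (Fin n) F).val = (l.map (fun v => Cfsg.reflectionMatrix ⇑Q v)).prod := by
    intro l
    induction l with
    | nil => simp
    | cons v l ih =>
      simp only [List.map_cons, List.prod_cons, Subgroup.coe_mul, Units.val_mul, ih]
      congr 1
      exact CfsgLib.Orth.coe_refl Q v
  have hg' : g = (vs.map (CfsgLib.Orth.refl Q)).prod := by
    apply Subtype.ext
    apply Units.ext
    rw [hg]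
    exact (hlist vs).symm
  obtain ⟨-, h⟩ := Spinor57.chiPair_prod_refl (Q := Q) h2 hd vs hvs
  rw [CfsgLib.OrthOmega.mem_omega_odd hQ h2 hd, hg', h, Prod.ext_iff]
  simp only [Prod.fst_one, Prod.snd_one]
  constructor
  · rintro ⟨h1, h3⟩
    rw [h3, mul_one] at h1
    exact ⟨neg_one_pow_eq_one_iff_even (by decide) |>.1 h1, (Spinor57.sqSign_eq_one_iff _).1 h3⟩
  · rintro ⟨h1, h3⟩
    rw [(Spinor57.sqSign_eq_one_iff _).2 h3, h1.neg_one_pow]
    exact ⟨rfl, rfl⟩

end Cfsg.Agent.S2609
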