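import Cfsg.Statements.S2610
import Cfsg.Agent.Helper57Spinor

set_option autoImplicit false
open Cfsg

namespace Cfsg.Agent.S2610

/-- For a quadratic form Q on F^n with non-degenerate polar form, F finite of odd order and n ≥ 2 even, the isometry −1 lies in Ω (the commutator subgroup of the orthogonal group) if and only if the discriminant of Q (the determinant of the Gram matrix of its polar form) is a square. -/
theorem result {F : Type*} [Field F] [Fintype F] (h2 : (2 : F) ≠ 0) {n : ℕ} (hn : 2 ≤ n) (he : Even n) (Q : QuadraticForm F (Fin n → F)) (hQ : (QuadraticMap.polarBilin Q).Nondegenerate) : (∃ g : ↥(Cfsg.isometryGroup F ⇑Q), g ∈ Cfsg.Omega F ⇑Q ∧ ((g : Matrix.GeneralLinearGroup (Fin n) F) : Matrix (Fin n) (Fin n) F) = -1) ↔ IsSquare (Matrix.of (fun i j : Fin n => QuadraticMap.polar ⇑Q (Pi.single i 1) (Pi.single j 1))).det := by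
  classical
  obtain ⟨d, hd⟩ := CfsgLib.OrthOmega.exists_not_square h2
  let B : LinearMap.BilinForm F (Fin n → F) := QuadraticMap.polarBilin Q
  have hB : ∀ x y, B x y = QuadraticMap.polar ⇑Q x y := fun x y => rfl
  haveI : Invertible (2 : F) := invertibleOfNonzero h2
  have hsymm : LinearMap.IsSymm B := ⟨fun x y => by simp [hB, QuadraticMap.polar_comm Q x y]⟩
  obtain ⟨v, hv⟩ := LinearMap.BilinForm.exists_orthogonal_basis hsymm
  let e := Fin.castOrderIso (Module.finrank_fin_fun F (n := n)) |>.toEquiv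
  let w := v.reindex e
  have ho : ∀ i j, i ≠ j → QuadraticMap.polar ⇑Q (w i) (w j) = 0 := by
    intro i j hij
    rw [Module.Basis.reindex_apply, Module.Basis.reindex_apply, ← hB]
    exact hv (e.symm.injective.ne hij)
  let s := Pi.basisFun F (Fin n)
  have hM : Matrix.of (fun i j : Fin n => QuadraticMap.polar ⇑Q (Pi.single i 1) (Pi.single j 1))
      = LinearMap.BilinForm.toMatrix s B := by
    ext i j
    rw [Matrix.of_apply, LinearMap.BilinForm.toMatrix_apply, hB, Pi.basisFun_apply, Pi.basisFun_apply]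
  have hD : LinearMap.BilinForm.toMatrix w B = Matrix.diagonal fun i => 2 * Q (w i) := by
    ext i j
    rw [LinearMap.BilinForm.toMatrix_apply, hB]
    by_cases h : i = j
    · subst h
      rw [Matrix.diagonal_apply_eq, CfsgLib.Orth.polar_self']
    · rw [Matrix.diagonal_apply_ne _ h, ho i j h]
  have hP : (w.toMatrix s).det ≠ 0 := by
    refine IsUnit.ne_zero (IsUnit.of_mul_eq_one (s.toMatrix w).det ?_)
    rw [← Matrix.det_mul, Module.Basis.toMatrix_mul_toMatrix_flip, Matrix.det_one]
  have hMdet : (LinearMap.BilinForm.toMatrix s B).det = (w.toMatrix s).det ^ 2 * (2 ^ n * ∏ i, Q (w i)) := by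
    rw [← LinearMap.BilinForm.toMatrix_mul_basis_toMatrix w s B, Matrix.det_mul, Matrix.det_mul,
      Matrix.det_transpose, hD, Matrix.det_diagonal, Finset.prod_mul_distrib, Finset.prod_const,
      Finset.card_univ, Fintype.card_fin]
    ring
  have hQw : ∀ i, Q (w i) ≠ 0 := by
    intro i h0
    refine Module.Basis.ne_zero w i (hQ.1 (w i) fun x => ?_)
    suffices hz : B (w i) = 0 from LinearMap.congr_fun hz x
    refine w.ext fun j => ?_
    rw [hB, LinearMap.zero_apply]
    by_cases h : i = j
    · subst h; rw [CfsgLib.Orth.polar_self', h0, mul_zero]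
    · exact ho i j h
  have hiff := CfsgLib.Orth.neg_one_mem_iff hQ h2 hd (fun i => w i) hQw ho rfl
  rw [Cfsg.Omega]
  refine hiff.trans ?_
  rw [Spinor57.prod_pair Finset.univ (fun i => Q (w i)) (fun i _ => hQw i), Finset.card_univ,
    Fintype.card_fin, he.neg_one_pow, one_mul, Prod.ext_iff, Prod.fst_one, Prod.snd_one, and_self,
    Spinor57.sqSign_eq_one_iff, hM, hMdet]
  have h4 : IsSquare ((w.toMatrix s).det ^ 2 * 2 ^ n) := by
    obtain ⟨k, hk⟩ := he
    exact ⟨(w.toMatrix s).det * 2 ^ k, by rw [show (2 : F) ^ n = 2 ^ k * 2 ^ k by rw [← pow_add, ← hk]]; ring⟩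
  rw [← mul_assoc]
  constructor
  · exact fun h => h4.mul h
  · intro h
    have := h.div h4
    rwa [mul_div_assoc, mul_comm, div_mul_cancel₀ _ (mul_ne_zero (pow_ne_zero _ hP) (pow_ne_zero _ h2))] at this

end Cfsg.Agent.S2610
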