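import Cfsg.Statements.S2612
import Cfsg.Agent.Helper57Levi

set_option autoImplicit false
open Cfsg

namespace Cfsg.Agent.S2612

/-- For the hyperbolic quadratic form Σ x_i y_i on F^(2m) (F finite, m ≥ 1, excluding m = 2 over the field of two elements), Ω⁺_2m(F) (the commutator subgroup of the orthogonal group) contains an element interchanging the two complementary maximal totally singular subspaces {y = 0} and {x = 0} if and only if m is even (dimension divisible by 4). -/
theorem result {F : Type*} [Field F] [Fintype F] {m : ℕ} (hm : 1 ≤ m) (h : Fintype.card F ≠ 2 ∨ m ≠ 2) : (∃ g : ↥(Cfsg.isometryGroup F (Cfsg.quadFormPlus m F)), g ∈ Cfsg.Omega F (Cfsg.quadFormPlus m F) ∧ (∀ v : Fin m ⊕ Fin m → F, (∀ i, v (Sum.inr i) = 0) → ∀ i, (((g : Matrix.GeneralLinearGroup (Fin m ⊕ Fin m) F) : Matrix (Fin m ⊕ Fin m) (Fin m ⊕ Fin m) F).mulVec v) (Sum.inl i) = 0) ∧ (∀ v : Fin m ⊕ Fin m → F, (∀ i, v (Sum.inl i) = 0) → ∀ i, (((g : Matrix.GeneralLinearGroup (Fin m ⊕ Fin m) F) : Matrix (Fin m ⊕ Fin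 m) (Fin m ⊕ Fin m) F).mulVec v) (Sum.inr i) = 0)) ↔ Even m := by
  rw [← CfsgLib.Orth.plusQ_coe]
  constructor
  · rintro ⟨g, hg, h1, h2'⟩
    obtain ⟨A, rfl⟩ := Levi57.exists_levi_of_interchange g h1 h2'
    by_cases h2 : (2 : F) = 0
    · have := CfsgLib.OrthOmega.charP_two_of_two_eq_zero h2
      have hA := (Levi57.levi_mem_iff hm h A).2 (isSquare_of_charTwo' _)
      exact (Levi57.swap_dvd h).1 ((Subgroup.mul_mem_cancel_right _ hA).1 hg)
    · classical
      have hdet : ∀ x : CfsgLib.Orth.O (CfsgLib.Orth.plusQ m F),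
          x ∈ Cfsg.Omega F ⇑(CfsgLib.Orth.plusQ m F) → CfsgLib.Orth.detHom (CfsgLib.Orth.plusQ m F) x = 1 :=
        fun x hx => (Abelianization.commutator_subset_ker _ hx : _)
      have h3 := hdet _ hg
      rw [map_mul] at h3
      have h4 : CfsgLib.Orth.detHom (CfsgLib.Orth.plusQ m F) (Levi57.levi m F A) = 1 := by
        apply Units.ext
        show ((Levi57.levi m F A : GL (Fin m ⊕ Fin m) F) : Matrix (Fin m ⊕ Fin m) (Fin m ⊕ Fin m) F).det = 1
        rw [Levi57.levi_coe, Matrix.det_fromBlocks_zero₂₁, Matrix.det_transpose, Matrix.det_nonsing_inv,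
          Ring.inverse_eq_inv']
        exact mul_inv_cancel₀ ((Matrix.isUnit_iff_isUnit_det _).1 A.isUnit).ne_zero
      rw [h4, mul_one, Levi57.swap_eq_prod, map_list_prod, List.map_map,
        show (⇑(CfsgLib.Orth.detHom (CfsgLib.Orth.plusQ m F)) ∘
            fun i => CfsgLib.Orth.refl (CfsgLib.Orth.plusQ m F) (Levi57.wv i)) = fun _ => (-1 : Fˣ) from
          funext fun i => CfsgLib.Orth.detHom_refl (by rw [Levi57.Q_pair]; exact neg_ne_zero.2 one_ne_zero),
        List.map_const', List.prod_replicate, List.length_finRange] at h3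
      rcases Nat.even_or_odd m with he | ho
      · exact he
      · exfalso
        rw [ho.neg_one_pow] at h3
        have h5 := congrArg Units.val h3
        rw [Units.val_neg, Units.val_one] at h5
        exact h2 (by linear_combination -h5)
  · intro he
    refine ⟨Levi57.swapO m F, (Levi57.swap_dvd h).2 he, fun v hv i => ?_, fun v hv i => ?_⟩
    · show CfsgLib.Orth.app (Levi57.swapO m F) v (Sum.inl i) = 0
      rw [Levi57.app_swapO]
      exact hv i
    · show CfsgLib.Orth.app (Levi57.swapO m F) v (Sum.inr i) = 0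
      rw [Levi57.app_swapO]
      exact hv i

end Cfsg.Agent.S2612
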