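import Cfsg.Statements.S2613
import Cfsg.Agent.Helper57Spinor

set_option autoImplicit false
open Cfsg

namespace Cfsg.Agent.S2613

/-- For the hyperbolic form Σ x_j y_j on F^(2m), F finite with q elements, q odd, and 1 ≤ i ≤ m: the involution negating the first i hyperbolic pairs (x_j, y_j ↦ −x_j, −y_j for j < i) and fixing the rest lies in Ω⁺_2m(q) (commutator subgroup of the orthogonal group) if and only if q^i ≡ 1 (mod 4); its (−1)-eigenspace is a hyperbolic 2i-space. -/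
theorem result {F : Type*} [Field F] [Fintype F] {q : ℕ} (hF : Fintype.card F = q) (hq : Odd q) {m : ℕ} (i : ℕ) (hi : 1 ≤ i) (him : i ≤ m) : (∃ g : ↥(Cfsg.isometryGroup F (Cfsg.quadFormPlus m F)), g ∈ Cfsg.Omega F (Cfsg.quadFormPlus m F) ∧ ((g : Matrix.GeneralLinearGroup (Fin m ⊕ Fin m) F) : Matrix (Fin m ⊕ Fin m) (Fin m ⊕ Fin m) F) = Matrix.diagonal (fun k : Fin m ⊕ Fin m => if (Sum.elim (fun j : Fin m => (j : ℕ)) (fun j : Fin m => (j : ℕ)) k) < i then (-1 : F) else 1)) ↔ q ^ i % 4 = 1 := by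
  rw [← CfsgLib.Orth.plusQ_coe]
  refine Spinor57.pairs_involution_mem_iff (CfsgLib.Orth.plusQ_nondegenerate m) hF hq
    (fun j : Fin i => Sum.inl (Fin.castLE him j)) (fun j : Fin i => Sum.inr (Fin.castLE him j)) _
    (fun j => ?_) (fun j => ?_) (fun j l => ?_) (fun j l => ?_) (fun j l => ?_) (fun j => ?_) (fun j => ?_)
    (fun k h1 h2 => ?_)
  · simp [CfsgLib.Orth.plusQ_coe, Cfsg.quadFormPlus, Pi.single_apply]
  · simp [CfsgLib.Orth.plusQ_coe, Cfsg.quadFormPlus, Pi.single_apply]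
  · simp [CfsgLib.Orth.polar_plusQ, Pi.single_apply, Fin.castLE_inj, eq_comm]
  · simp [CfsgLib.Orth.polar_plusQ, Pi.single_apply]
  · simp [CfsgLib.Orth.polar_plusQ, Pi.single_apply]
  · simp
  · simp
  · rcases k with a | a
    · refine ⟨if_neg fun ha => h1 ⟨_, ha⟩ rfl, fun j => ?_⟩
      have hne : a ≠ Fin.castLE him j := fun e => h1 j (by rw [e])
      simp [CfsgLib.Orth.polar_plusQ, Pi.single_apply, hne, Ne.symm hne]
    · refine ⟨if_neg fun ha => h2 ⟨_, ha⟩ rfl, fun j => ?_⟩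
      have hne : a ≠ Fin.castLE him j := fun e => h2 j (by rw [e])
      simp [CfsgLib.Orth.polar_plusQ, Pi.single_apply, hne, Ne.symm hne]

end Cfsg.Agent.S2613
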