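import Cfsg.Statements.S2614
import Cfsg.Agent.Helper57Spinor

set_option autoImplicit false
open Cfsg

namespace Cfsg.Agent.S2614

/-- For the form x_0² + Σ x_j y_j on F^(2m+1), F finite with q elements, q odd, and 1 ≤ i ≤ m: the involution of determinant one negating the first i hyperbolic pairs (and fixing x_0 and the other pairs) lies in Ω_(2m+1)(q) (commutator subgroup of the orthogonal group) if and only if q^i ≡ 1 (mod 4); its (−1)-eigenspace is a hyperbolic 2i-space. -/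
theorem result {F : Type*} [Field F] [Fintype F] {q : ℕ} (hF : Fintype.card F = q) (hq : Odd q) {m : ℕ} (i : ℕ) (hi : 1 ≤ i) (him : i ≤ m) : (∃ g : ↥(Cfsg.isometryGroup F (Cfsg.quadFormOdd m F)), g ∈ Cfsg.Omega F (Cfsg.quadFormOdd m F) ∧ ((g : Matrix.GeneralLinearGroup (Unit ⊕ (Fin m ⊕ Fin m)) F) : Matrix (Unit ⊕ (Fin m ⊕ Fin m)) (Unit ⊕ (Fin m ⊕ Fin m)) F) = Matrix.diagonal (fun k : Unit ⊕ (Fin m ⊕ Fin m) => if (Sum.elim (fun _ : Unit => i) (Sum.elim (fun j : Fin m => (j : ℕ)) (fun j : Fin m => (j : ℕ))) k) < i then (-1 : F) else 1)) ↔ q ^ i % 4 = 1 := by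
  rw [← Spinor57.qOdd_coe]
  refine Spinor57.pairs_involution_mem_iff (Spinor57.qOdd_nondegenerate (Spinor57.two_ne_zero_of_odd hF hq)) hF hq
    (fun j : Fin i => Sum.inr (Sum.inl (Fin.castLE him j))) (fun j : Fin i => Sum.inr (Sum.inr (Fin.castLE him j))) _
    (fun j => ?_) (fun j => ?_) (fun j l => ?_) (fun j l => ?_) (fun j l => ?_) (fun j => ?_) (fun j => ?_)
    (fun k h1 h2 => ?_)
  · simp [Spinor57.qOdd_coe, Cfsg.quadFormOdd, Pi.single_apply]
  · simp [Spinor57.qOdd_coe, Cfsg.quadFormOdd, Pi.single_apply]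
  · simp [Spinor57.polar_qOdd, Pi.single_apply, Fin.castLE_inj, eq_comm]
  · simp [Spinor57.polar_qOdd, Pi.single_apply]
  · simp [Spinor57.polar_qOdd, Pi.single_apply]
  · simp
  · simp
  · rcases k with u | a | a
    · exact ⟨if_neg (lt_irrefl i), fun j => by simp [Spinor57.polar_qOdd, Pi.single_apply]⟩
    · refine ⟨if_neg fun ha => h1 ⟨_, ha⟩ rfl, fun j => ?_⟩
      have hne : a ≠ Fin.castLE him j := fun e => h1 j (by rw [e])
      simp [Spinor57.polar_qOdd, Pi.single_apply, hne, Ne.symm hne]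
    · refine ⟨if_neg fun ha => h2 ⟨_, ha⟩ rfl, fun j => ?_⟩
      have hne : a ≠ Fin.castLE him j := fun e => h2 j (by rw [e])
      simp [Spinor57.polar_qOdd, Pi.single_apply, hne, Ne.symm hne]

end Cfsg.Agent.S2614
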