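import Cfsg.Statements.S2615
import Cfsg.Agent.Helper57Spinor

set_option autoImplicit false
open Cfsg

namespace Cfsg.Agent.S2615

/-- For an elliptic form Σ_(j<m−1) x_j y_j + (z₁² + a z₁z₂ + b z₂²) (anisotropic binary part) on F^(2m), F finite with q elements, q odd, and 1 ≤ i ≤ m − 1: the involution negating the first i hyperbolic pairs and fixing the rest lies in Ω⁻_2m(q) (commutator subgroup of the orthogonal group) if and only if q^i ≡ 1 (mod 4). -/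
theorem result {F : Type*} [Field F] [Fintype F] {q : ℕ} (hF : Fintype.card F = q) (hq : Odd q) {m : ℕ} (a b : F) (hab : ∀ z₁ z₂ : F, z₁ ^ 2 + a * z₁ * z₂ + b * z₂ ^ 2 = 0 → z₁ = 0 ∧ z₂ = 0) (i : ℕ) (hi : 1 ≤ i) (him : i + 1 ≤ m) : (∃ g : ↥(Cfsg.isometryGroup F (Cfsg.quadFormMinus (m - 1) F a b)), g ∈ Cfsg.Omega F (Cfsg.quadFormMinus (m - 1) F a b) ∧ ((g : Matrix.GeneralLinearGroup ((Fin (m - 1) ⊕ Fin (m - 1)) ⊕ Fin 2) F) : Matrix ((Fin (m - 1) ⊕ Fin (m - 1)) ⊕ Fin 2) ((Fin (m - 1) ⊕ Fin (m - 1)) ⊕ Fin 2) F) = Matrix.diagonal (fun k : (Fin (m - 1) ⊕ Fin (m - 1)) ⊕ Fin 2 => if (Sum.elim (Sum.elim (fun j : Fin (m - 1) => (j : ℕ)) (fun j : Fin (m - 1) => (j : ℕ))) (fun _ : Fin 2 => i) k) < i then (-1 : F) else 1)) ↔ q ^ i % 4 = 1 := by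
  have hi' : i ≤ m - 1 := by omega
  rw [← CfsgLib.Orth.minusQ_coe]
  refine Spinor57.pairs_involution_mem_iff (CfsgLib.Orth.minusQ_nondegenerate (Spinor57.two_ne_zero_of_odd hF hq) hab) hF hq
    (fun j : Fin i => Sum.inl (Sum.inl (Fin.castLE hi' j))) (fun j : Fin i => Sum.inl (Sum.inr (Fin.castLE hi' j))) _
    (fun j => ?_) (fun j => ?_) (fun j l => ?_) (fun j l => ?_) (fun j l => ?_) (fun j => ?_) (fun j => ?_)
    (fun k h1 h2 => ?_)
  · simp [CfsgLib.Orth.minusQ_coe, Cfsg.quadFormMinus, Pi.single_apply]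
  · simp [CfsgLib.Orth.minusQ_coe, Cfsg.quadFormMinus, Pi.single_apply]
  · simp [CfsgLib.Orth.polar_minusQ, Pi.single_apply, Fin.castLE_inj, eq_comm]
  · simp [CfsgLib.Orth.polar_minusQ, Pi.single_apply]
  · simp [CfsgLib.Orth.polar_minusQ, Pi.single_apply]
  · simp
  · simp
  · rcases k with (a' | a') | z
    · refine ⟨if_neg fun ha => h1 ⟨_, ha⟩ rfl, fun j => ?_⟩
      have hne : a' ≠ Fin.castLE hi' j := fun e => h1 j (by rw [e])
      simp [CfsgLib.Orth.polar_minusQ, Pi.single_apply, hne, Ne.symm hne]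
    · refine ⟨if_neg fun ha => h2 ⟨_, ha⟩ rfl, fun j => ?_⟩
      have hne : a' ≠ Fin.castLE hi' j := fun e => h2 j (by rw [e])
      simp [CfsgLib.Orth.polar_minusQ, Pi.single_apply, hne, Ne.symm hne]
    · exact ⟨if_neg (lt_irrefl i), fun j => by simp [CfsgLib.Orth.polar_minusQ, Pi.single_apply]⟩

end Cfsg.Agent.S2615
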