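import Cfsg.Statements.S2616
import Cfsg.Agent.Helper57WittBasis

set_option autoImplicit false
open Cfsg

namespace Cfsg.Agent.S2616

/-- Standard bases of a non-degenerate quadratic space of even dimension 2m over a finite field: either there is a hyperbolic basis e_i, f_i (Q(e_i) = Q(f_i) = 0, B(e_i, f_j) = δ_ij, the e's pairwise orthogonal and the f's pairwise orthogonal, B the polar form), or there is an elliptic basis: hyperbolic pairs e_i, f_i for i < m − 1 together with x, y orthogonal to them with Q(x) = 1, B(x, y) = 1, Q(y) = ζ where t² + t + ζ has no root in the field. -/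
theorem result {F V : Type*} [Field F] [Finite F] [AddCommGroup V] [Module F V] [FiniteDimensional F V] {m : ℕ} (hm : 1 ≤ m) (hV : Module.finrank F V = 2 * m) (Q : QuadraticForm F V) (hQ : (QuadraticMap.polarBilin Q).Nondegenerate) : (∃ b : Module.Basis (Fin m ⊕ Fin m) F V, (∀ i, Q (b (Sum.inl i)) = 0 ∧ Q (b (Sum.inr i)) = 0) ∧ (∀ i j, QuadraticMap.polar ⇑Q (b (Sum.inl i)) (b (Sum.inr j)) = if i = j then 1 else 0) ∧ (∀ i j, QuadraticMap.polar ⇑Q (b (Sum.inl i)) (b (Sum.inl j)) = 0 ∧ QuadraticMap.polar ⇑Q (b (Sum.inr i)) (b (Sum.inr j)) = 0)) ∨ (∃ (b : Module.Basis ((Fin (m - 1) ⊕ Fin (m - 1)) ⊕ Fin 2) F V) (ζ : F), (∀ t : F, t ^ 2 + t + ζ ≠ 0) ∧ (∀ i, Q (b (Sum.inl (Sum.inl i))) = 0 ∧ Q (b (Sum.inl (Sum.inr i))) = 0) ∧ (∀ i j, QuadraticMap.polar ⇑Q (b (Sum.inl (Sum.inl i))) (b (Sum.inl (Sum.inr j))) = if i = j then 1 else 0) ∧ (∀ i j, QuadraticMap.polar ⇑Q (b (Sum.inl (Sum.inl i))) (b (Sum.inl (Sum.inl j))) = 0 ∧ QuadraticMap.polar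 ⇑Q (b (Sum.inl (Sum.inr i))) (b (Sum.inl (Sum.inr j))) = 0) ∧ (∀ i (k : Fin 2), QuadraticMap.polar ⇑Q (b (Sum.inl (Sum.inl i))) (b (Sum.inr k)) = 0 ∧ QuadraticMap.polar ⇑Q (b (Sum.inl (Sum.inr i))) (b (Sum.inr k)) = 0) ∧ Q (b (Sum.inr 0)) = 1 ∧ QuadraticMap.polar ⇑Q (b (Sum.inr 0)) (b (Sum.inr 1)) = 1 ∧ Q (b (Sum.inr 1)) = ζ) := by
  obtain ⟨S⟩ := WittBasis57.exists_split Q ⊤ (WittBasis57.nondeg_top Q hQ)
  have hdim := S.dim
  rw [finrank_top, hV] at hdim
  have h2 := WittBasis57.finrank_le_two Q S.aniso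
  rcases (by omega : Module.finrank F S.U = 0 ∨ Module.finrank F S.U = 2) with hU | hU
  · left
    obtain rfl : S.k = m := by omega
    have hli := (WittBasis57.split_indep Q S (u := fun i : Fin 0 => i.elim0)
      linearIndependent_empty_type (fun i => i.elim0)).comp _ Sum.inl_injective
    haveI : Nonempty (Fin S.k) := ⟨⟨0, hm⟩⟩
    let b := basisOfLinearIndependentOfCardEqFinrank hli (by simp [hV]; omega)
    have hb : ∀ i, b i = Sum.elim S.e S.f i := fun i => by simp [b]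
    refine ⟨b, fun i => ⟨?_, ?_⟩, fun i j => ?_, fun i j => ⟨?_, ?_⟩⟩ <;>
      simp only [hb, Sum.elim_inl, Sum.elim_inr, ← QuadraticMap.polarBilin_apply_apply]
    · exact S.Qe i
    · exact S.Qf i
    · exact S.ef i j
    · exact S.ee i j
    · exact S.ff i j
  · right
    obtain ⟨x, hx, y, hy, hQx, hxy, hli₂, hnr⟩ := WittBasis57.exists_plane_basis Q hU S.nd S.aniso
    have hk : S.k = m - 1 := by omega
    have hmem : ∀ i, ![x, y] i ∈ S.U := fun i => by fin_cases i <;> assumption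
    have hli := (WittBasis57.split_indep Q S hli₂ hmem).comp _
      (Equiv.sumCongr (Equiv.sumCongr (finCongr hk.symm) (finCongr hk.symm)) (Equiv.refl (Fin 2))).injective
    let b := basisOfLinearIndependentOfCardEqFinrank hli (by simp [hV]; omega)
    have hb : ∀ i, b i = Sum.elim (Sum.elim S.e S.f) ![x, y]
        (Equiv.sumCongr (Equiv.sumCongr (finCongr hk.symm) (finCongr hk.symm)) (Equiv.refl (Fin 2)) i) :=
      fun i => by simp [b]
    refine ⟨b, Q y, hnr, fun i => ⟨?_, ?_⟩, fun i j => ?_, fun i j => ⟨?_, ?_⟩,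
      fun i k => ⟨?_, ?_⟩, ?_, ?_, ?_⟩ <;>
      simp only [hb, Equiv.sumCongr_apply, Sum.map_inl, Sum.map_inr, Sum.elim_inl, Sum.elim_inr,
        Equiv.refl_apply, ← QuadraticMap.polarBilin_apply_apply]
    · exact S.Qe _
    · exact S.Qf _
    · rw [S.ef]
      simp
    · exact S.ee _ _
    · exact S.ff _ _
    · exact S.eU _ _ (hmem k)
    · exact S.fU _ _ (hmem k)
    · exact hQx
    · exact hxy
    · rfl

end Cfsg.Agent.S2616
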