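import Cfsg.Statements.S2619


set_option autoImplicit false
open Cfsg

namespace Cfsg.Agent.S2619

/-- Over a finite field of characteristic two, given an alternating bilinear form B on a finite-dimensional space, a basis (v_i) and scalars (λ_i), there is exactly one quadratic form whose polar form is B and whose value at each v_i is λ_i. -/
theorem result {F V ι : Type*} [Field F] [Finite F] [CharP F 2] [AddCommGroup V] [Module F V] [Fintype ι] (b : Module.Basis ι F V) (B : LinearMap.BilinForm F V) (hB : B.IsAlt) (c : ι → F) : ∃! Q : QuadraticForm F V, QuadraticMap.polarBilin Q = B ∧ ∀ i, Q (b i) = c i := by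
  classical
  haveI := LinearOrder.lift' (Fintype.equivFin ι) (Fintype.equivFin ι).injective
  let C : LinearMap.BilinForm F V := b.constr F fun i => b.constr F fun j =>
    if i < j then B (b i) (b j) else if i = j then c i else 0
  have hC : ∀ i j, C (b i) (b j) = if i < j then B (b i) (b j) else if i = j then c i else 0 := by
    intro i j
    rw [show C (b i) = _ from b.constr_basis F _ i, b.constr_basis]
  refine ⟨C.toQuadraticMap, ⟨?_, fun i => ?_⟩, ?_⟩
  · refine b.ext fun i => b.ext fun j => ?_
    rw [QuadraticMap.polarBilin_apply_apply, LinearMap.BilinMap.polar_toQuadraticMap, hC, hC]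
    rcases lt_trichotomy i j with h | h | h
    · rw [if_pos h, if_neg (not_lt.2 h.le), if_neg h.ne', add_zero]
    · subst h
      rw [if_neg (lt_irrefl _), if_pos rfl, CharTwo.add_self_eq_zero, hB (b i)]
    · rw [if_pos h, if_neg (not_lt.2 h.le), if_neg h.ne', zero_add, ← hB.neg_eq (b i) (b j),
        CharTwo.neg_eq]
  · rw [LinearMap.BilinMap.toQuadraticMap_apply, hC]
    simp
  · rintro Q ⟨h1, h2⟩
    ext x
    have hpol : ∀ i j, QuadraticMap.polar ⇑Q (b i) (b j) = B (b i) (b j) := fun i j => by
      rw [← h1]; rfl
    have hpolC : ∀ i j, QuadraticMap.polar ⇑C.toQuadraticMap (b i) (b j) = C (b i) (b j) + C (b j) (b i) :=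
      fun i j => LinearMap.BilinMap.polar_toQuadraticMap _ _
    rw [← Q.toQuadraticMap_toBilin b, ← C.toQuadraticMap.toQuadraticMap_toBilin b]
    congr 2
    refine b.ext fun i => b.ext fun j => ?_
    rw [QuadraticMap.toBilin_apply, QuadraticMap.toBilin_apply, h2, hpol, hpolC, hC, hC,
      LinearMap.BilinMap.toQuadraticMap_apply, hC]
    rcases lt_trichotomy i j with h | h | h
    · simp [h, h.ne, h.ne', not_lt.2 h.le]
    · subst h; simp
    · simp [h.ne, h.ne', not_lt.2 h.le]

end Cfsg.Agent.S2619
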