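import Cfsg.Statements.S2620
import Cfsg.Agent.Helper57Forms

set_option autoImplicit false
open Cfsg

namespace Cfsg.Agent.S2620

/-- Discriminant of the hyperbolic quadratic form Σ_(i<m) x_i y_i over a field with q elements, q odd, m ≥ 1: the determinant of the Gram matrix of its polar form in any basis is a square if and only if m(q − 1)/2 is even (equivalently q^m ≡ 1 (mod 4)). -/
theorem result {F : Type*} [Field F] [Fintype F] {q : ℕ} (hF : Fintype.card F = q) (hq : Odd q) {m : ℕ} (hm : 1 ≤ m) {ι : Type*} [Fintype ι] [DecidableEq ι] (b : Module.Basis ι F (Fin m ⊕ Fin m → F)) : IsSquare (Matrix.of (fun i j : ι => QuadraticMap.polar (Cfsg.quadFormPlus m F) (b i) (b j))).det ↔ Even (m * (q - 1) / 2) := by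
  obtain ⟨c, hc, hdet⟩ := Forms57.det_gram_plus b
  rw [hdet]
  have hev : Even (m * (q - 1) / 2) ↔ Even m ∨ q % 4 ≠ 3 := by
    obtain ⟨k, rfl⟩ := hq
    rw [show m * (2 * k + 1 - 1) / 2 = m * k by
      rw [show 2 * k + 1 - 1 = k * 2 by omega, ← mul_assoc, Nat.mul_div_cancel _ two_pos], Nat.even_mul]
    apply or_congr_right
    rw [Nat.even_iff]
    omega
  rw [hev]
  have hiff : IsSquare ((-1 : F) ^ m * c ^ 2) ↔ IsSquare ((-1 : F) ^ m) := by
    constructor
    · rintro ⟨x, hx⟩
      exact ⟨x / c, by field_simp; linear_combination hx⟩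
    · exact fun h => h.mul (IsSquare.sq c)
  rw [hiff]
  rcases Nat.even_or_odd m with he | ho
  · simp [he, he.neg_one_pow]
  · rw [ho.neg_one_pow, FiniteField.isSquare_neg_one_iff, hF]
    simp [Nat.not_even_iff_odd.2 ho]

end Cfsg.Agent.S2620
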