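import Cfsg.Statements.S2621

set_option autoImplicit false
open Cfsg

namespace Cfsg.Agent.S2621

open Matrix

/-- Gram matrix of the elliptic form. -/
def gramMinus (k : ℕ) {F : Type*} [Field F] (a c : F) :
    Matrix ((Fin k ⊕ Fin k) ⊕ Fin 2) ((Fin k ⊕ Fin k) ⊕ Fin 2) F :=
  fromBlocks (fromBlocks 0 1 1 0) 0 0 !![2, a; a, 2 * c]

theorem det_swap_blocks (k : ℕ) (F : Type*) [Field F] :
    (fromBlocks (0 : Matrix (Fin k) (Fin k) F) (1 : Matrix (Fin k) (Fin k) F)
      (1 : Matrix (Fin k) (Fin k) F) (0 : Matrix (Fin k) (Fin k) F)).det = (-1) ^ k := by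
  have h : fromBlocks (1 : (Matrix (Fin k) (Fin k) F)) (1 : (Matrix (Fin k) (Fin k) F)) (0 : (Matrix (Fin k) (Fin k) F)) (1 : (Matrix (Fin k) (Fin k) F)) *
      fromBlocks (0 : (Matrix (Fin k) (Fin k) F)) (1 : (Matrix (Fin k) (Fin k) F)) (1 : (Matrix (Fin k) (Fin k) F)) (0 : (Matrix (Fin k) (Fin k) F)) =
      fromBlocks (1 : (Matrix (Fin k) (Fin k) F)) (1 : (Matrix (Fin k) (Fin k) F)) (1 : (Matrix (Fin k) (Fin k) F)) (0 : (Matrix (Fin k) (Fin k) F)) := by
    rw [fromBlocks_multiply]; simp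
  have h' := congrArg Matrix.det h
  rw [det_mul, det_fromBlocks_zero₂₁, det_fromBlocks_one₁₁] at h'
  simpa [det_neg] using h'

theorem det_gramMinus (k : ℕ) {F : Type*} [Field F] (a c : F) :
    (gramMinus k a c).det = (-1) ^ k * (4 * c - a ^ 2) := by
  rw [gramMinus, det_fromBlocks_zero₂₁, det_swap_blocks, det_fin_two_of]
  ring

theorem two_ne_zero' {F : Type*} [Field F] [Fintype F] {q : ℕ} (hF : Fintype.card F = q)
    (hq : Odd q) : (2 : F) ≠ 0 := by
  intro h2
  obtain ⟨j, hj⟩ := hq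
  have hc : ((q : ℕ) : F) = 0 := by rw [← hF]; exact Nat.cast_card_eq_zero F
  rw [hj, Nat.cast_add, Nat.cast_mul, Nat.cast_one, Nat.cast_ofNat, h2, zero_mul, zero_add] at hc
  exact one_ne_zero hc

theorem square_criterion {F : Type*} [Field F] [Fintype F] {q : ℕ} (hF : Fintype.card F = q)
    (hq : Odd q) (m : ℕ) (d e : F) (hd : d ≠ 0) (he : ¬ IsSquare e) :
    IsSquare (d ^ 2 * ((-1) ^ m * e)) ↔ ¬ Even (m * (q - 1) / 2) := by
  classical
  have h2 : ringChar F ≠ 2 := by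
    intro h
    apply two_ne_zero' hF hq
    exact_mod_cast (ringChar.spec F 2).2 (by rw [h])
  have he0 : e ≠ 0 := by rintro rfl; exact he (IsSquare.zero)
  have hm : ((-1 : F)) ^ m ≠ 0 := pow_ne_zero _ (neg_ne_zero.2 one_ne_zero)
  rw [← quadraticChar_one_iff_isSquare
      (mul_ne_zero (pow_ne_zero 2 hd) (mul_ne_zero hm he0)), map_mul, map_mul, map_pow, map_pow,
    quadraticChar_sq_one hd, quadraticChar_neg_one_iff_not_isSquare.2 he,
    quadraticChar_neg_one h2, hF, ZMod.χ₄_eq_neg_one_pow (Nat.odd_iff.1 hq), ← pow_mul]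
  have hmq : m * (q - 1) / 2 = q / 2 * m := by
    obtain ⟨j, hj⟩ := hq
    subst hj
    rw [Nat.add_sub_cancel, mul_left_comm, Nat.mul_div_cancel_left _ two_pos, mul_comm m]
    congr 1; omega
  rw [hmq]
  rcases Nat.even_or_odd (q / 2 * m) with h | h
  · simp [h.neg_one_pow, h]
  · simp [h.neg_one_pow, Nat.not_even_iff_odd.2 h]


/-- Discriminant of an elliptic quadratic form Σ_(i<m−1) x_i y_i + z₁² + a z₁z₂ + c z₂² (binary part anisotropic) in dimension 2m over a field with q elements, q odd, m ≥ 1: the determinant of the Gram matrix of its polar form in any basis is a square if and only if m(q − 1)/2 is odd (equivalently q^m ≡ 3 (mod 4)). -/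
theorem result {F : Type*} [Field F] [Fintype F] {q : ℕ} (hF : Fintype.card F = q) (hq : Odd q) {m : ℕ} (hm : 1 ≤ m) (a c : F) (hac : ∀ z₁ z₂ : F, z₁ ^ 2 + a * z₁ * z₂ + c * z₂ ^ 2 = 0 → z₁ = 0 ∧ z₂ = 0) {ι : Type*} [Fintype ι] [DecidableEq ι] (b : Module.Basis ι F ((Fin (m - 1) ⊕ Fin (m - 1)) ⊕ Fin 2 → F)) : IsSquare (Matrix.of (fun i j : ι => QuadraticMap.polar (Cfsg.quadFormMinus (m - 1) F a c) (b i) (b j))).det ↔ ¬ Even (m * (q - 1) / 2) := by
  classical
  let P := Pi.basisFun F ((Fin (m - 1) ⊕ Fin (m - 1)) ⊕ Fin 2)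
  let B := Matrix.toBilin P (gramMinus (m - 1) a c)
  have hB : ∀ u v, QuadraticMap.polar (Cfsg.quadFormMinus (m - 1) F a c) u v = B u v := by
    intro u v
    simp [B, P, Matrix.toBilin_apply, gramMinus, Fintype.sum_sum_type, Fin.sum_univ_two,
      QuadraticMap.polar, Cfsg.quadFormMinus, Matrix.one_apply, add_mul, mul_add,
      Finset.sum_add_distrib, mul_ite, ite_mul]
    have e : ∀ x : Fin (m - 1), v (Sum.inl (Sum.inl x)) * u (Sum.inl (Sum.inr x)) =
        u (Sum.inl (Sum.inr x)) * v (Sum.inl (Sum.inl x)) := fun x => mul_comm _ _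
    simp only [e]
    ring
  simp_rw [hB]
  let eι := b.indexEquiv P
  have hM : Matrix.of (fun i j : ι => B (b i) (b j)) =
      (LinearMap.BilinForm.toMatrix (b.reindex eι) B).submatrix eι eι := by
    ext i j
    simp [LinearMap.BilinForm.toMatrix_apply]
  rw [hM, Matrix.det_submatrix_equiv_self,
    ← LinearMap.BilinForm.toMatrix_mul_basis_toMatrix P (b.reindex eι) B, Matrix.det_mul,
    Matrix.det_mul, Matrix.det_transpose]
  have hPB : LinearMap.BilinForm.toMatrix P B = gramMinus (m - 1) a c :=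
    LinearMap.BilinForm.toMatrix_toBilin P _
  rw [hPB, det_gramMinus]
  have hd : (P.toMatrix (b.reindex eι)).det ≠ 0 := by
    rw [← Module.Basis.det_apply]
    exact (P.isUnit_det (b.reindex eι)).ne_zero
  generalize (P.toMatrix (b.reindex eι)).det = d at hd
  have hdisc : ¬ IsSquare (a ^ 2 - 4 * c) := by
    rintro ⟨s, hs⟩
    have h2 : (2 : F) ≠ 0 := two_ne_zero' hF hq
    have := (hac ((-a + s) / 2) 1 (by field_simp; linear_combination -hs)).2
    exact one_ne_zero this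
  obtain ⟨k, rfl⟩ : ∃ k, m = k + 1 := ⟨m - 1, by omega⟩
  have hd2 : d * ((-1) ^ (k + 1 - 1) * (4 * c - a ^ 2)) * d =
      d ^ 2 * ((-1) ^ (k + 1) * (a ^ 2 - 4 * c)) := by
    rw [Nat.add_sub_cancel, pow_succ]; ring
  rw [hd2]
  exact square_criterion hF hq (k + 1) d _ hd hdisc

end Cfsg.Agent.S2621
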