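import Cfsg.Statements.S2622

set_option autoImplicit false
open Cfsg

namespace Cfsg.Agent.S2622

theorem exists_orthonormal {F : Type*} [Field F] [Finite F] [CharP F 2] :
    ∀ (n : ℕ) {V : Type*} [AddCommGroup V] [Module F V] [FiniteDimensional F V]
      (B : LinearMap.BilinForm F V), B.IsSymm → B.Nondegenerate → Module.finrank F V = n →
      (∃ v : V, B v v ≠ 0) → ∃ v : Fin n → V, ∀ i j, B (v i) (v j) = if i = j then 1 else 0 := by
  intro n
  induction n with
  | zero =>
    intros; exact ⟨fun i => i.elim0, fun i => i.elim0⟩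
  | succ n ih =>
    intro V _ _ _ B hS hB hV hna
    have : Fintype F := Fintype.ofFinite F
    have hsym : ∀ x y, B x y = B y x := fun x y => hS.eq x y
    have key : ∀ u : V, B u u = 1 → ∀ w, B u w = 0 → B w w ≠ 0 →
        ∃ v : Fin (n + 1) → V, ∀ i j, B (v i) (v j) = if i = j then 1 else 0 := by
      intro u hu w huw hww
      have hc := LinearMap.BilinForm.isCompl_span_singleton_orthogonal (B := B) (x := u)
        (by rw [hu]; exact one_ne_zero)
      set W := B.orthogonal (F ∙ u) with hW
      have hmem : ∀ x : V, x ∈ W ↔ B u x = 0 := by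
        intro x
        rw [hW, LinearMap.BilinForm.mem_orthogonal_iff]
        constructor
        · intro h; exact h u (Submodule.mem_span_singleton_self u)
        · intro h y hy
          obtain ⟨r, rfl⟩ := Submodule.mem_span_singleton.1 hy
          simp [h]
      have hrank : Module.finrank F W = n := by
        have h1 := Submodule.finrank_add_eq_of_isCompl hc
        rw [finrank_span_singleton (by rintro rfl; simp at hu), hV] at h1
        omega
      have hnd : (B.restrict W).Nondegenerate := by
        have hs : (B.restrict W).IsSymm := ⟨fun x y => hsym x y⟩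
        refine (LinearMap.IsRefl.nondegenerate_iff_separatingLeft hs.isRefl).2 ?_
        intro x hx
        apply Subtype.ext
        refine hB.1 x.1 fun y => ?_
        obtain ⟨y1, hy1, y2, hy2, rfl⟩ := Submodule.mem_sup.1
          (hc.sup_eq_top ▸ Submodule.mem_top : y ∈ (F ∙ u) ⊔ W)
        obtain ⟨r, rfl⟩ := Submodule.mem_span_singleton.1 hy1
        have h2 := (hmem _).1 x.2
        rw [hsym] at h2
        have h3 : B x.1 y2 = 0 := hx ⟨y2, hy2⟩
        simp [h2, h3]
      obtain ⟨v, hv⟩ := ih (B.restrict W) ⟨fun x y => hsym x y⟩ hnd hrank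
        ⟨⟨w, (hmem w).2 huw⟩, hww⟩
      refine ⟨Fin.cons u (fun i => (v i : V)), ?_⟩
      intro i j
      refine Fin.cases ?_ (fun i => ?_) i <;> refine Fin.cases ?_ (fun j => ?_) j
      · simpa using hu
      · simpa [eq_comm (a := (0 : Fin (n+1))), Fin.succ_ne_zero] using (hmem _).1 (v j).2
      · have := (hmem _).1 (v i).2
        rw [hsym] at this
        simpa [Fin.succ_ne_zero] using this
      · simpa using hv i j
    obtain ⟨v₀, hv₀⟩ := hna
    obtain ⟨s, hs⟩ := FiniteField.isSquare_of_char_two (ringChar.eq F 2) (B v₀ v₀)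
    have hs0 : s ≠ 0 := by rintro rfl; simp at hs; exact hv₀ hs
    obtain ⟨u, hu⟩ : ∃ u, B u u = 1 := ⟨s⁻¹ • v₀, by simp [hs]; field_simp⟩
    by_cases hw : ∃ w, B u w = 0 ∧ B w w ≠ 0
    · obtain ⟨w, hw1, hw2⟩ := hw
      exact key u hu w hw1 hw2
    push Not at hw
    rcases Nat.eq_zero_or_pos n with hn | hn
    · subst hn
      exact ⟨fun _ => u, fun i j => by simp [Fin.fin_one_eq_zero i, Fin.fin_one_eq_zero j, hu]⟩
    have htwo : (2 : F) = 0 := CharTwo.two_eq_zero
    obtain ⟨e, he, he0⟩ : ∃ e, B u e = 0 ∧ e ≠ 0 := by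
      by_contra h
      push Not at h
      have hinj : Function.Injective (B u) := by
        rw [← LinearMap.ker_eq_bot, LinearMap.ker_eq_bot']
        exact h
      have := LinearMap.finrank_le_finrank_of_injective hinj
      rw [hV, Module.finrank_self] at this
      omega
    have hee := hw e he
    obtain ⟨g, hg⟩ : ∃ g, B e g ≠ 0 := by
      by_contra h
      push Not at h
      exact he0 (hB.1 e h)
    obtain ⟨f, hf1, hf2⟩ : ∃ f, B u f = 0 ∧ B e f = 1 := by
      refine ⟨(B e g)⁻¹ • (g - B u g • u), ?_, ?_⟩
      · simp [hu]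
      · simp only [map_smul, map_sub, smul_eq_mul]
        rw [hsym e u, he]; field_simp; ring
    have hff := hw f hf1
    have heu : B e u = 0 := by rw [hsym, he]
    have hfu : B f u = 0 := by rw [hsym, hf1]
    refine key (u + e) ?_ (f + u) ?_ ?_
    · simp [hu, he, heu, hee]
    · simp [hu, hf1, hf2, heu]
      linear_combination htwo
    · simp [hu, hff, hf1, hfu]


/-- Over a finite field of characteristic two, a non-degenerate symmetric bilinear form that is not alternating (some vector v has B(v, v) ≠ 0) admits an orthonormal basis. -/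
theorem result {F V : Type*} [Field F] [Finite F] [CharP F 2] [AddCommGroup V] [Module F V] [FiniteDimensional F V] {n : ℕ} (hV : Module.finrank F V = n) (B : LinearMap.BilinForm F V) (hS : B.IsSymm) (hB : B.Nondegenerate) (hna : ∃ v : V, B v v ≠ 0) : ∃ b : Module.Basis (Fin n) F V, ∀ i j, B (b i) (b j) = if i = j then 1 else 0 := by
  classical
  obtain ⟨v, hv⟩ := exists_orthonormal n B hS hB hV hna
  have hli : LinearIndependent F v := by
    rw [Fintype.linearIndependent_iff]
    intro g hg i
    have := congrArg (B (v i)) hg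
    simpa [hv] using this
  refine ⟨(basisOfLinearIndependentOfCardEqFinrank' v hli (by simp [hV])), ?_⟩
  simpa using hv

end Cfsg.Agent.S2622
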