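import Cfsg.Statements.S2624
import Cfsg.Agent.Lib.QuadFin.Gram

set_option autoImplicit false
open Cfsg

namespace Cfsg.Agent.S2624

/-- For a quadratic form Q on F^n with non-degenerate polar form, F finite and n ≥ 2 even, every non-zero scalar c is the multiplier of some similarity: there is an invertible linear map g with Q(g v) = c·Q(v) for all v. -/
theorem result {F : Type*} [Field F] [Fintype F] {n : ℕ} (hn : 2 ≤ n) (he : Even n) (Q : QuadraticForm F (Fin n → F)) (hQ : (QuadraticMap.polarBilin Q).Nondegenerate) (c : F) (hc : c ≠ 0) : ∃ g : (Fin n → F) ≃ₗ[F] (Fin n → F), ∀ v, Q (g v) = c * Q v := by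
  classical
  by_cases hsq : IsSquare c
  · obtain ⟨d, hd⟩ := hsq
    have hd0 : d ≠ 0 := by rintro rfl; exact hc (by simpa using hd)
    exact ⟨LinearEquiv.smulOfUnit (Units.mk0 d hd0), fun v => by
      change Q (d • v) = c * Q v
      rw [QuadraticMap.map_smul, hd, smul_eq_mul]⟩
  have h2 : (2 : F) ≠ 0 := by
    intro h
    have : ringChar F = 2 := by
      have hdvd : ringChar F ∣ 2 := (ringChar.spec F 2).1 (by exact_mod_cast h)
      exact (Nat.prime_two.eq_one_or_self_of_dvd _ hdvd).resolve_left (CharP.ringChar_ne_one)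
    exact hsq (FiniteField.isSquare_of_char_two this c)
  have hn2 : (c • Q).polarBilin.Nondegenerate := by
    have hh : ∀ x y, (c • Q).polarBilin x y = c * Q.polarBilin x y := fun x y => by
      simp [QuadraticMap.polar, mul_sub]
    constructor
    · intro x hx
      refine hQ.1 x fun y => ?_
      have := hx y
      rw [hh] at this
      exact (mul_eq_zero.1 this).resolve_left hc
    · intro x hx
      refine hQ.2 x fun y => ?_
      have := hx y
      rw [hh] at this
      exact (mul_eq_zero.1 this).resolve_left hc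
  obtain ⟨g, hg⟩ := (CfsgLib.QuadFin.equiv_iff_isSquare h2 (c • Q) Q hn2 hQ).2 (by
    have : (⇑(c • Q) : (Fin n → F) → F) = fun v => c * Q v := rfl
    rw [this, CfsgLib.QuadFin.gram_det_smul, Fintype.card_fin]
    obtain ⟨k, rfl⟩ := he
    exact ⟨c ^ k * (CfsgLib.QuadFin.gram ⇑Q).det, by ring⟩)
  exact ⟨g, fun v => by rw [hg]; rfl⟩

end Cfsg.Agent.S2624
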