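import Cfsg.Statements.S2628
import Cfsg.Agent.Lib.OrthOmega.Invariant

set_option autoImplicit false
open Cfsg

namespace Cfsg.Agent.S2628

open CfsgLib.OrthOmega CfsgLib.Orth

theorem coe_diag {F : Type*} [Field F] [Fintype F] {k : ℕ} (Q : QuadraticForm F (Fin k → F))
    (g : O Q) : (((inlHom Q Q g * inrHom Q Q g : O (sumQ Q Q)) : GL (Fin k ⊕ Fin k) F) :
      Matrix (Fin k ⊕ Fin k) (Fin k ⊕ Fin k) F) =
    Matrix.fromBlocks ((g : GL (Fin k) F) : Matrix (Fin k) (Fin k) F) 0 0
      ((g : GL (Fin k) F) : Matrix (Fin k) (Fin k) F) := by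
  change Matrix.fromBlocks ((g : GL (Fin k) F) : Matrix (Fin k) (Fin k) F) 0 0 (1 : Matrix (Fin k) (Fin k) F) *
    Matrix.fromBlocks (1 : Matrix (Fin k) (Fin k) F) 0 0 ((g : GL (Fin k) F) : Matrix (Fin k) (Fin k) F) = _
  rw [Matrix.fromBlocks_multiply]
  simp

theorem finrank_fix_diag {F : Type*} [Field F] [Fintype F] {k : ℕ} (Q : QuadraticForm F (Fin k → F))
    (g : O Q) :
    Module.finrank F (fixS (inlHom Q Q g * inrHom Q Q g)) = 2 * Module.finrank F (fixS g) := by
  classical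
  have hval : ∀ x, app (inlHom Q Q g * inrHom Q Q g) x =
      Sum.elim (app g (x ∘ Sum.inl)) (app g (x ∘ Sum.inr)) := fun x => by
    rw [app_mul, app_inrHom, app_inlHom]; simp
  let e : fixS (inlHom Q Q g * inrHom Q Q g) ≃ₗ[F] (fixS g × fixS g) :=
    { toFun := fun x => (⟨x.1 ∘ Sum.inl, mem_fixS.2 (by
          have h := congrArg (· ∘ Sum.inl) ((hval x.1).symm.trans (mem_fixS.1 x.2))
          simpa using h)⟩, ⟨x.1 ∘ Sum.inr, mem_fixS.2 (by
          have h := congrArg (· ∘ Sum.inr) ((hval x.1).symm.trans (mem_fixS.1 x.2))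
          simpa using h)⟩)
      map_add' := fun x y => rfl
      map_smul' := fun c x => rfl
      invFun := fun p => ⟨Sum.elim p.1.1 p.2.1, mem_fixS.2 (by
        rw [hval]; simp [mem_fixS.1 p.1.2, mem_fixS.1 p.2.2])⟩
      left_inv := fun x => Subtype.ext (Sum.elim_comp_inl_inr x.1)
      right_inv := fun p => rfl }
  rw [e.finrank_eq, Module.finrank_prod, two_mul]


/-- For the orthogonal direct sum Q ⊕ Q of two copies of a quadratic form Q with non-degenerate polar form on F^k (F finite), every isometry g of Q acting diagonally, diag(g, g), lies in Ω(Q ⊕ Q), the commutator subgroup of the orthogonal group of Q ⊕ Q. (Excluded: k = 2 over the field of two elements, where Q ⊕ Q is the hyperbolic 4-space whose orthogonal group's commutator subgroup is smaller than the group usually called Ω.) -/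
theorem result {F : Type*} [Field F] [Fintype F] {k : ℕ} (h : Fintype.card F ≠ 2 ∨ k ≠ 2) (Q : QuadraticForm F (Fin k → F)) (hQ : (QuadraticMap.polarBilin Q).Nondegenerate) (g : ↥(Cfsg.isometryGroup F ⇑Q)) : ∃ x : ↥(Cfsg.isometryGroup F (fun v : Fin k ⊕ Fin k → F => Q (v ∘ Sum.inl) + Q (v ∘ Sum.inr))), x ∈ Cfsg.Omega F (fun v : Fin k ⊕ Fin k → F => Q (v ∘ Sum.inl) + Q (v ∘ Sum.inr)) ∧ ((x : Matrix.GeneralLinearGroup (Fin k ⊕ Fin k) F) : Matrix (Fin k ⊕ Fin k) (Fin k ⊕ Fin k) F) = Matrix.fromBlocks ((g : Matrix.GeneralLinearGroup (Fin k) F) : Matrix (Fin k) (Fin k) F) 0 0 ((g : Matrix.GeneralLinearGroup (Fin k) F) : Matrix (Fin k) (Fin k) F) := by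
  classical
  have hs := sumQ_nondegenerate Q Q hQ hQ
  by_cases h2 : (2 : F) = 0
  · have : CharP F 2 := charP_two_of_two_eq_zero h2
    have hgen := CfsgLib.Orth.reflClosure_eq_top hs (gen_cond (F := F) (n := Fintype.card (Fin k ⊕ Fin k))
      (h.imp_right fun hk => by simp only [Fintype.card_sum, Fintype.card_fin]; omega))
    refine ⟨inlHom Q Q g * inrHom Q Q g, ?_, coe_diag Q g⟩
    have := (mem_omega_two hs hgen (inlHom Q Q g * inrHom Q Q g)).2
    refine this ?_
    change CfsgLib.Orth.dickson (inlHom Q Q g * inrHom Q Q g) = 1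
    rw [CfsgLib.Orth.dickson, finrank_fix_diag, Fintype.card_sum, Fintype.card_fin]
    exact Even.neg_one_pow ⟨k - Module.finrank F (CfsgLib.Orth.fixS g), by omega⟩
  · have key := mul_mem_omega (f := inlHom Q Q) (f' := inrHom Q Q) hQ hs (Or.inl fun hF => h2 (by
      have h0 : ((Fintype.card F : ℕ) : F) = 0 := Nat.cast_card_eq_zero F
      rw [hF] at h0; exact_mod_cast h0)) (reflMap_inl Q Q) (reflMap_inr Q Q) g
    exact ⟨_, key, coe_diag Q g⟩

end Cfsg.Agent.S2628
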