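import Cfsg.Statements.S2629
import Cfsg.Agent.Lib.OrthOmega.Classes

set_option autoImplicit false
open Cfsg

namespace Cfsg.Agent.S2629

open CfsgLib.OrthOmega CfsgLib.Orth QuadraticMap


theorem std_singular {F : Type*} [Field F] [Fintype F] (m : ℕ) :
    Module.finrank F (LinearMap.ker (LinearMap.funLeft F F (Sum.inr : Fin m → Fin m ⊕ Fin m))) = m ∧
    ∀ u ∈ LinearMap.ker (LinearMap.funLeft F F (Sum.inr : Fin m → Fin m ⊕ Fin m)),
      hypQuad m F u = 0 := by
  refine ⟨?_, ?_⟩
  · have h := LinearMap.finrank_range_add_finrank_ker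
      (LinearMap.funLeft F F (Sum.inr : Fin m → Fin m ⊕ Fin m))
    rw [LinearMap.range_eq_top.2 (LinearMap.funLeft_surjective_of_injective F F _ Sum.inr_injective),
      finrank_top, Module.finrank_fintype_fun_eq_card, Module.finrank_fintype_fun_eq_card,
      Fintype.card_sum, Fintype.card_fin] at h
    omega
  · intro u hu
    rw [coe_hypQuad]
    refine Finset.sum_eq_zero fun i _ => ?_
    have : u (Sum.inr i) = 0 := congrFun hu i
    simp [this]


theorem aux {F : Type*} [Field F] [Fintype F] (h2 : (2 : F) ≠ 0) {m : ℕ} (hm : 1 ≤ m) (hco : ⇑(hypQuad m F) = Cfsg.quadFormPlus m F) (g : ↥(Cfsg.isometryGroup F (Cfsg.quadFormPlus m F))) : Even (m - Module.finrank F ↥(LinearMap.ker (LinearMap.funLeft F F (Sum.inr : Fin m → Fin m ⊕ Fin m)) ⊓ (LinearMap.ker (LinearMap.funLeft F F (Sum.inr : Fin m → Fin m ⊕ Fin m))).map (Matrix.mulVecLin ((g : Matrix.GeneralLinearGroup (Fin m ⊕ Fin m) F) : Matrix (Fin m ⊕ Fin m) (Fin m ⊕ Fin m) F)))) ↔ ((g : Matrix.GeneralLinearGroup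 (Fin m ⊕ Fin m) F) : Matrix (Fin m ⊕ Fin m) (Fin m ⊕ Fin m) F).det = 1 := by
  classical
  revert g
  rw [← hco]
  intro g
  obtain ⟨hd, hs⟩ := std_singular (F := F) m
  have hQ := hypQuad_nondegenerate (F := F) m
  have hgen := odd_gen hQ h2
  have key := classSign_app hQ hgen (by simp [two_mul]) hd hs g
  refine classSign_eq_one_iff.symm.trans ?_
  refine (Iff.of_eq (congrArg (· = (1 : ℤˣ)) key)).trans ?_
  have hd1 := detHom_eq_cast hQ hgen g
  have hv : ((detHom (hypQuad m F) g : Fˣ) : F) =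
      ((g : Matrix.GeneralLinearGroup (Fin m ⊕ Fin m) F) : Matrix (Fin m ⊕ Fin m) (Fin m ⊕ Fin m) F).det := rfl
  rcases Int.units_eq_one_or (dicksonHom hQ hgen g) with h | h
  · rw [h] at hd1 ⊢
    simp only [true_iff]
    rw [← hv, hd1]; simp
  · rw [h] at hd1 ⊢
    refine iff_of_false (by decide) ?_
    rw [← hv, hd1]
    intro h1
    apply h2
    have : (-1 : F) = 1 := by simpa using h1
    linear_combination -this


/-- For the hyperbolic form Σ x_i y_i on F^(2m) over a finite field of odd order (m ≥ 1), an isometry g preserves the class of the maximal totally singular subspace U₀ = {y = 0} (that is, m − dim(U₀ ∩ gU₀) is even) if and only if det g = 1: the stabiliser of each of the two classes of maximal totally singular subspaces is SO. -/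
theorem result {F : Type*} [Field F] [Fintype F] (h2 : (2 : F) ≠ 0) {m : ℕ} (hm : 1 ≤ m) (g : ↥(Cfsg.isometryGroup F (Cfsg.quadFormPlus m F))) : Even (m - Module.finrank F ↥(LinearMap.ker (LinearMap.funLeft F F (Sum.inr : Fin m → Fin m ⊕ Fin m)) ⊓ (LinearMap.ker (LinearMap.funLeft F F (Sum.inr : Fin m → Fin m ⊕ Fin m))).map (Matrix.mulVecLin ((g : Matrix.GeneralLinearGroup (Fin m ⊕ Fin m) F) : Matrix (Fin m ⊕ Fin m) (Fin m ⊕ Fin m) F)))) ↔ ((g : Matrix.GeneralLinearGroup (Fin m ⊕ Fin m) F) : Matrix (Fin m ⊕ Fin m) (Fin m ⊕ Fin m) F).det = 1 := by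
  exact aux h2 hm (coe_hypQuad m) g

end Cfsg.Agent.S2629
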