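import Cfsg.Statements.S2630
import Cfsg.Agent.Lib.OrthOmega.Classes

set_option autoImplicit false
open Cfsg

namespace Cfsg.Agent.S2630

open CfsgLib.OrthOmega CfsgLib.Orth QuadraticMap


theorem std_singular {F : Type*} [Field F] [Fintype F] (m : ℕ) :
    Module.finrank F (LinearMap.ker (LinearMap.funLeft F F (Sum.inr : Fin m → Fin m ⊕ Fin m))) = m ∧
    ∀ u ∈ LinearMap.ker (LinearMap.funLeft F F (Sum.inr : Fin m → Fin m ⊕ Fin m)),
      hypQuad m F u = 0 := by
  refine ⟨?_, ?_⟩
  · have h := LinearMap.finrank_range_add_finrank_ker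
      (LinearMap.funLeft F F (Sum.inr : Fin m → Fin m ⊕ Fin m))
    rw [LinearMap.range_eq_top.2 (LinearMap.funLeft_surjective_of_injective F F _ Sum.inr_injective),
      finrank_top, Module.finrank_fintype_fun_eq_card, Module.finrank_fintype_fun_eq_card,
      Fintype.card_sum, Fintype.card_fin] at h
    omega
  · intro u hu
    rw [coe_hypQuad]
    refine Finset.sum_eq_zero fun i _ => ?_
    have : u (Sum.inr i) = 0 := congrFun hu i
    simp [this]


theorem aux {F : Type*} [Field F] [Fintype F] [CharP F 2] {m : ℕ}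
    (hQ : (hypQuad m F).polarBilin.Nondegenerate) (hgen : reflClosure (hypQuad m F) = ⊤)
    (hco : ∀ v, hypQuad m F v = Cfsg.quadFormPlus m F v)
    (g : ↥(Cfsg.isometryGroup F (Cfsg.quadFormPlus m F))) :
    Even (m - Module.finrank F ↥(LinearMap.ker (LinearMap.funLeft F F (Sum.inr : Fin m → Fin m ⊕ Fin m)) ⊓
      (LinearMap.ker (LinearMap.funLeft F F (Sum.inr : Fin m → Fin m ⊕ Fin m))).map
        (Matrix.mulVecLin ((g : Matrix.GeneralLinearGroup (Fin m ⊕ Fin m) F) :
          Matrix (Fin m ⊕ Fin m) (Fin m ⊕ Fin m) F)))) ↔ g ∈ Cfsg.Omega F (Cfsg.quadFormPlus m F) := by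
  revert g
  rw [← funext hco]
  intro g
  obtain ⟨hd, hs⟩ := std_singular (F := F) m
  rw [mem_omega_two hQ hgen, ← classSign_app hQ hgen (by simp [two_mul]) hd hs g]
  exact classSign_eq_one_iff.symm


/-- For the hyperbolic form Σ x_i y_i on F^(2m) over a finite field of characteristic two (m ≥ 1, excluding m = 2 over the field of two elements), an isometry g preserves the class of the maximal totally singular subspace U₀ = {y = 0} (m − dim(U₀ ∩ gU₀) even) if and only if g lies in Ω (the commutator subgroup of the orthogonal group): the stabiliser of each class is Ω. -/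
theorem result {F : Type*} [Field F] [Fintype F] [CharP F 2] {m : ℕ} (hm : 1 ≤ m) (h : Fintype.card F ≠ 2 ∨ m ≠ 2) (g : ↥(Cfsg.isometryGroup F (Cfsg.quadFormPlus m F))) : Even (m - Module.finrank F ↥(LinearMap.ker (LinearMap.funLeft F F (Sum.inr : Fin m → Fin m ⊕ Fin m)) ⊓ (LinearMap.ker (LinearMap.funLeft F F (Sum.inr : Fin m → Fin m ⊕ Fin m))).map (Matrix.mulVecLin ((g : Matrix.GeneralLinearGroup (Fin m ⊕ Fin m) F) : Matrix (Fin m ⊕ Fin m) (Fin m ⊕ Fin m) F)))) ↔ g ∈ Cfsg.Omega F (Cfsg.quadFormPlus m F) := by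
  classical
  have hQ := hypQuad_nondegenerate (F := F) m
  have hgen : reflClosure (hypQuad m F) = ⊤ := reflClosure_eq_top hQ (gen_cond (F := F)
    (h.imp_right fun hm2 => by simp only [Fintype.card_sum, Fintype.card_fin]; omega))
  exact aux hQ hgen (fun v => (congrFun (coe_hypQuad m) v)) g

end Cfsg.Agent.S2630
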