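import Cfsg.Statements.S2631
import Cfsg.Agent.Lib.OrthOmega.Classes

set_option autoImplicit false
open Cfsg

namespace Cfsg.Agent.S2631

open CfsgLib.OrthOmega CfsgLib.Orth QuadraticMap


theorem aux {F : Type*} [Field F] [Fintype F] {m : ℕ} (hm : 1 ≤ m)
    (h : Fintype.card F ≠ 2 ∨ m ≠ 2) (hco : ⇑(hypQuad m F) = Cfsg.quadFormPlus m F)
    (U W : Submodule F (Fin m ⊕ Fin m → F)) (hU : Module.finrank F U = m)
    (hW : Module.finrank F W = m) (hU0 : ∀ u ∈ U, Cfsg.quadFormPlus m F u = 0)
    (hW0 : ∀ w ∈ W, Cfsg.quadFormPlus m F w = 0) (he : Even (m - Module.finrank F ↥(U ⊓ W))) :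
    ∃ g : ↥(Cfsg.isometryGroup F (Cfsg.quadFormPlus m F)), g ∈ Cfsg.Omega F (Cfsg.quadFormPlus m F) ∧
      U.map (Matrix.mulVecLin ((g : Matrix.GeneralLinearGroup (Fin m ⊕ Fin m) F) :
        Matrix (Fin m ⊕ Fin m) (Fin m ⊕ Fin m) F)) = W := by
  classical
  revert hU0 hW0
  rw [← hco]
  intro hU0 hW0
  have hQ := hypQuad_nondegenerate (F := F) m
  have hgen : reflClosure (hypQuad m F) = ⊤ := reflClosure_eq_top hQ (gen_cond (F := F)
    (h.imp_right fun hm2 => by simp only [Fintype.card_sum, Fintype.card_fin]; omega))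
  obtain ⟨g, hg⟩ := exists_map_eq hQ U W (LinearEquiv.ofFinrankEq U W (hU.trans hW.symm))
    fun u => (hW0 _ (LinearEquiv.ofFinrankEq U W (hU.trans hW.symm) u).2).trans (hU0 _ u.2).symm
  have hdk : dicksonHom hQ hgen g = 1 := by
    rw [← classSign_app hQ hgen (by simp [two_mul]) hU hU0 g, hg, classSign_eq_one_iff]
    exact he
  by_cases h2 : (2 : F) = 0
  · have : CharP F 2 := charP_two_of_two_eq_zero h2
    exact ⟨g, (mem_omega_two hQ hgen g).2 hdk, hg⟩
  · obtain ⟨d, hd⟩ := exists_not_square h2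
    have hne : U ≠ ⊥ := by
      rintro rfl
      rw [finrank_bot] at hU
      omega
    obtain ⟨k, hk, hkχ⟩ := exists_stab_hyperbolic hQ h2 hd U hU0 hne
    have heq : chi (hypQuad m F) 1 g = chi (hypQuad m F) d g := by
      have h1 := detHom_eq hQ h2 hd g
      rw [detHom_eq_cast hQ hgen, hdk, map_one] at h1
      rcases Int.units_eq_one_or (chi (hypQuad m F) 1 g) with e1 | e1 <;>
        rcases Int.units_eq_one_or (chi (hypQuad m F) d g) with e2 | e2 <;>
        rw [e1, e2] at h1 ⊢
      all_goals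
        exfalso
        apply h2
        have h3 : (1 : F) = -1 := by simpa using congrArg Units.val h1
        linear_combination h3
    rcases Int.units_eq_one_or (chi (hypQuad m F) 1 g) with e1 | e1
    · refine ⟨g, (mem_omega_odd hQ h2 hd g).2 ?_, hg⟩
      rw [chiPair, MonoidHom.prod_apply, ← heq, e1]; rfl
    · refine ⟨g * k, (mem_omega_odd hQ h2 hd _).2 ?_, ?_⟩
      · rw [map_mul, hkχ, chiPair, MonoidHom.prod_apply, ← heq, e1]; rfl
      · exact (map_app_mul U g k).trans (by rw [map_eq_self hk, hg])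


/-- For the hyperbolic form Σ x_i y_i on F^(2m) over a finite field (m ≥ 1, excluding m = 2 over the field of two elements), Ω (the commutator subgroup of the orthogonal group) acts transitively on each of the two classes of maximal totally singular subspaces: if U and W are m-dimensional totally singular subspaces with m − dim(U ∩ W) even, some element of Ω carries U to W. -/
theorem result {F : Type*} [Field F] [Fintype F] {m : ℕ} (hm : 1 ≤ m) (h : Fintype.card F ≠ 2 ∨ m ≠ 2) (U W : Submodule F (Fin m ⊕ Fin m → F)) (hU : Module.finrank F U = m) (hW : Module.finrank F W = m) (hU0 : ∀ u ∈ U, Cfsg.quadFormPlus m F u = 0) (hW0 : ∀ w ∈ W, Cfsg.quadFormPlus m F w = 0) (he : Even (m - Module.finrank F ↥(U ⊓ W))) : ∃ g : ↥(Cfsg.isometryGroup F (Cfsg.quadFormPlus m F)), g ∈ Cfsg.Omega F (Cfsg.quadFormPlus m F) ∧ U.map (Matrix.mulVecLin ((g : Matrix.GeneralLinearGroup (Fin m ⊕ Fin m) F) : Matrix (Fin m ⊕ Fin m) (Fin m ⊕ Fin m) F)) = W := by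
  classical
  exact aux hm h (funext fun v => congrFun (coe_hypQuad m) v) U W hU hW hU0 hW0 he

end Cfsg.Agent.S2631
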