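import Cfsg.Statements.S2632
import Cfsg.Agent.Lib.OrthOmega.Classes

set_option autoImplicit false
open Cfsg

namespace Cfsg.Agent.S2632

open CfsgLib.OrthOmega CfsgLib.Orth QuadraticMap


/-- Ω is transitive on non-degenerate subspaces of each isometry type: for a quadratic form Q on F^n, n ≥ 3, with non-degenerate polar form (F finite; excluding dimension 4 over the field of two elements), if U and W are subspaces on which the polar form is non-degenerate and there is a Q-preserving linear isomorphism U → W, then some element of Ω (the commutator subgroup of the orthogonal group) carries U to W. (In dimension 2 this fails: Ω can be {±1}, which fixes every line.) -/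
theorem result {F : Type*} [Field F] [Fintype F] {n : ℕ} (hn : 3 ≤ n) (h : Fintype.card F ≠ 2 ∨ n ≠ 4) (Q : QuadraticForm F (Fin n → F)) (hQ : (QuadraticMap.polarBilin Q).Nondegenerate) (U W : Submodule F (Fin n → F)) (hU : U ⊓ LinearMap.BilinForm.orthogonal (QuadraticMap.polarBilin Q) U = ⊥) (hW : W ⊓ LinearMap.BilinForm.orthogonal (QuadraticMap.polarBilin Q) W = ⊥) (e : U ≃ₗ[F] W) (he : ∀ u : U, Q (e u : Fin n → F) = Q (u : Fin n → F)) : ∃ g : ↥(Cfsg.isometryGroup F ⇑Q), g ∈ Cfsg.Omega F ⇑Q ∧ U.map (Matrix.mulVecLin ((g : Matrix.GeneralLinearGroup (Fin n) F) : Matrix (Fin n) (Fin n) F)) = W := by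
  classical
  obtain ⟨g, hg⟩ := exists_map_eq hQ U W e he
  have hpol : ∀ x y, QuadraticMap.polarBilin Q x y = polar Q x y := fun x y => rfl
  set U' := LinearMap.BilinForm.orthogonal (QuadraticMap.polarBilin Q) U with hU'
  have hU'' : LinearMap.BilinForm.orthogonal (QuadraticMap.polarBilin Q) U' = U :=
    LinearMap.BilinForm.orthogonal_orthogonal hQ (polarBilin_isRefl hQ) U
  have hXU : ∀ x ∈ U, (∀ y ∈ U, polar Q x y = 0) → x = 0 := fun x hx hxy => by
    have : x ∈ U ⊓ U' := ⟨hx, LinearMap.BilinForm.mem_orthogonal_iff.2 fun y hy => by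
      rw [hpol, polar_comm]; exact hxy y hy⟩
    rwa [hU, Submodule.mem_bot] at this
  have hXU' : ∀ x ∈ U', (∀ y ∈ U', polar Q x y = 0) → x = 0 := fun x hx hxy => by
    have hxU : x ∈ LinearMap.BilinForm.orthogonal (QuadraticMap.polarBilin Q) U' :=
      LinearMap.BilinForm.mem_orthogonal_iff.2 fun y hy => by
        rw [hpol, polar_comm]; exact hxy y hy
    rw [hU''] at hxU
    have : x ∈ U ⊓ U' := ⟨hxU, hx⟩
    rwa [hU, Submodule.mem_bot] at this
  have hfr := LinearMap.BilinForm.finrank_orthogonal hQ U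
  rw [← hU', Module.finrank_fintype_fun_eq_card, Fintype.card_fin] at hfr
  obtain ⟨X, hXs, hXn, hXd⟩ : ∃ X : Submodule F (Fin n → F),
      (∀ v ∈ X, v ∈ U ∨ ∀ x ∈ U, polar Q x v = 0) ∧
      (∀ x ∈ X, (∀ y ∈ X, polar Q x y = 0) → x = 0) ∧ 2 ≤ Module.finrank F X := by
    by_cases h2U : 2 ≤ Module.finrank F U
    · exact ⟨U, fun v hv => Or.inl hv, hXU, h2U⟩
    · exact ⟨U', fun v hv => Or.inr fun x hx => LinearMap.BilinForm.mem_orthogonal_iff.1 hv x hx,
        hXU', by omega⟩
  by_cases h2 : (2 : F) = 0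
  · have : CharP F 2 := charP_two_of_two_eq_zero h2
    obtain ⟨v, hvX, hv⟩ := exists_anisotropic_sub X hXn (by omega)
    obtain ⟨k, hk, hkm⟩ := exists_omega_map_two hQ
      (reflClosure_eq_top hQ (gen_cond (F := F) (h.imp_right fun h4 => by simpa using h4))) hg hv
      (hXs v hvX)
    exact ⟨k, hk, hkm⟩
  · obtain ⟨d, hd⟩ := exists_not_square h2
    obtain ⟨a, haX, ha⟩ := exists_value_sub h2 X hXn hXd (one_ne_zero : (1 : F) ≠ 0)
    obtain ⟨b, hbX, hb⟩ := exists_value_sub h2 X hXn hXd (ne_zero_of_not_isSquare h2 hd)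
    have hca := chiPair_refl h2 hd (Q := Q) (v := a) (by rw [ha]; exact one_ne_zero)
    have hcb := chiPair_refl h2 hd (Q := Q) (v := b) (by rw [hb]; exact ne_zero_of_not_isSquare h2 hd)
    rw [if_pos (by rw [ha]; exact IsSquare.one)] at hca
    rw [if_neg (by rw [hb]; exact hd)] at hcb
    obtain ⟨k, hk, hkm⟩ := exists_omega_map_odd hQ h2 hd hg (refl_mem_stab (hXs a haX))
      (refl_mem_stab (hXs b hbX)) (by rw [hca]; decide) (by rw [hcb]; decide)
      (by rw [hca, hcb]; decide)
    exact ⟨k, hk, hkm⟩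

end Cfsg.Agent.S2632
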