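import Cfsg.Statements.S2633
import Cfsg.Agent.Lib.OrthOmega.Classes

set_option autoImplicit false
open Cfsg

namespace Cfsg.Agent.S2633

open CfsgLib.OrthOmega CfsgLib.Orth QuadraticMap


/-- Ω is transitive on totally singular subspaces of each dimension less than half the dimension: for a quadratic form Q on F^n with non-degenerate polar form (F finite; excluding dimension 4 over the field of two elements), if U and W are subspaces of the same dimension k with 2k < n on which Q vanishes, then some element of Ω (the commutator subgroup of the orthogonal group) carries U to W. -/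
theorem result {F : Type*} [Field F] [Fintype F] {n : ℕ} (h : Fintype.card F ≠ 2 ∨ n ≠ 4) (Q : QuadraticForm F (Fin n → F)) (hQ : (QuadraticMap.polarBilin Q).Nondegenerate) (U W : Submodule F (Fin n → F)) {k : ℕ} (hk : 2 * k < n) (hU : Module.finrank F U = k) (hW : Module.finrank F W = k) (hU0 : ∀ u ∈ U, Q u = 0) (hW0 : ∀ w ∈ W, Q w = 0) : ∃ g : ↥(Cfsg.isometryGroup F ⇑Q), g ∈ Cfsg.Omega F ⇑Q ∧ U.map (Matrix.mulVecLin ((g : Matrix.GeneralLinearGroup (Fin n) F) : Matrix (Fin n) (Fin n) F)) = W := by
  classical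
  obtain ⟨g, hg⟩ := exists_map_eq hQ U W (LinearEquiv.ofFinrankEq U W (hU.trans hW.symm))
    fun u => (hW0 _ (LinearEquiv.ofFinrankEq U W (hU.trans hW.symm) u).2).trans (hU0 _ u.2).symm
  rcases Nat.eq_zero_or_pos k with hk0 | hk0
  · subst hk0
    have hUb := Submodule.finrank_eq_zero.1 hU
    have hWb := Submodule.finrank_eq_zero.1 hW
    exact ⟨1, Subgroup.one_mem _, by rw [hUb, hWb, Submodule.map_bot]⟩
  obtain ⟨v, hv, hvU⟩ := exists_anisotropic_ortho hQ U (by simpa [hU] using hk)
  by_cases h2 : (2 : F) = 0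
  · have : CharP F 2 := charP_two_of_two_eq_zero h2
    obtain ⟨k', hk', hkm⟩ := exists_omega_map_two hQ
      (reflClosure_eq_top hQ (gen_cond (F := F) (h.imp_right fun h4 => by simpa using h4))) hg hv
      (Or.inr hvU)
    exact ⟨k', hk', hkm⟩
  · obtain ⟨d, hd⟩ := exists_not_square h2
    have hne : U ≠ ⊥ := by
      rintro rfl
      rw [finrank_bot] at hU
      omega
    obtain ⟨b, hb, hbχ⟩ := exists_stab_hyperbolic hQ h2 hd U hU0 hne
    have hca := chiPair_refl h2 hd (Q := Q) (v := v) hv
    obtain ⟨k', hk', hkm⟩ := exists_omega_map_odd hQ h2 hd hg (refl_mem_stab (Or.inr hvU)) hb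
      (by rw [hca]; split_ifs <;> decide) (by rw [hbχ]; decide)
      (by rw [hca, hbχ]; split_ifs <;> decide)
    exact ⟨k', hk', hkm⟩

end Cfsg.Agent.S2633
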