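import Cfsg.Statements.S2634
import Cfsg.Agent.Lib.OrthOmega.Classes

set_option autoImplicit false
open Cfsg

namespace Cfsg.Agent.S2634

open CfsgLib.OrthOmega CfsgLib.Orth QuadraticMap


/-- Over a finite field of characteristic two, Ω (the commutator subgroup of the orthogonal group of a quadratic form Q on F^n with non-degenerate polar form; excluding dimension 4 over the field of two elements) acts transitively on the non-singular 1-spaces: for u, v with Q(u) ≠ 0 and Q(v) ≠ 0 some element of Ω carries the line through u to the line through v. -/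
theorem result {F : Type*} [Field F] [Fintype F] [CharP F 2] {n : ℕ} (h : Fintype.card F ≠ 2 ∨ n ≠ 4) (Q : QuadraticForm F (Fin n → F)) (hQ : (QuadraticMap.polarBilin Q).Nondegenerate) (u v : Fin n → F) (hu : Q u ≠ 0) (hv : Q v ≠ 0) : ∃ g : ↥(Cfsg.isometryGroup F ⇑Q), g ∈ Cfsg.Omega F ⇑Q ∧ (F ∙ ((g : Matrix.GeneralLinearGroup (Fin n) F) : Matrix (Fin n) (Fin n) F).mulVec u) = F ∙ v := by
  classical
  obtain ⟨t, ht⟩ := FiniteField.isSquare_of_char_two (ringChar.eq F 2) (Q v / Q u)
  have ht0 : t ≠ 0 := fun h0 => div_ne_zero hv hu (by rw [ht, h0, mul_zero])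
  have hQt : Q (t • u) = Q v := by
    rw [QuadraticMap.map_smul, ← ht, smul_eq_mul, div_mul_cancel₀ _ hu]
  have hu0 : u ≠ 0 := fun h0 => hu (by rw [h0, QuadraticMap.map_zero])
  have hv0 : v ≠ 0 := fun h0 => hv (by rw [h0, QuadraticMap.map_zero])
  obtain ⟨g₀, hg₀, hgu⟩ := CfsgLib.Forms.quad_witt_family Q hQ (fun _ : Fin 1 => t • u)
    (fun _ : Fin 1 => v) (linearIndependent_unique_iff.2 (smul_ne_zero ht0 hu0))
    (linearIndependent_unique_iff.2 hv0) (fun _ => hQt)
    (fun _ _ => by rw [QuadraticMap.polar_self, QuadraticMap.polar_self, hQt])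
  have hg : (F ∙ u).map (app (ofEquiv g₀ hg₀)) = F ∙ v := by
    rw [Submodule.map_span, Set.image_singleton, app_ofEquiv]
    have e : g₀ u = t⁻¹ • v := by
      rw [show v = g₀ (t • u) from (hgu 0).symm, map_smul, inv_smul_smul₀ ht0]
    rw [e]
    exact Submodule.span_singleton_smul_eq (IsUnit.mk0 _ (inv_ne_zero ht0)) v
  obtain ⟨k, hk, hkm⟩ := exists_omega_map_two hQ
    (reflClosure_eq_top hQ (gen_cond (F := F) (h.imp_right fun h4 => by simpa using h4))) hg hu
    (Or.inl (Submodule.mem_span_singleton_self u))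
  refine ⟨k, hk, ?_⟩
  rw [Submodule.map_span, Set.image_singleton] at hkm
  exact hkm

end Cfsg.Agent.S2634
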