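import Cfsg.Statements.S2635
import Cfsg.Agent.Lib.OrthOmega.Classes

set_option autoImplicit false
open Cfsg

namespace Cfsg.Agent.S2635

open CfsgLib.OrthOmega CfsgLib.Orth QuadraticMap


theorem pairs {F : Type*} [Field F] [Fintype F] {n : ℕ} {Q : QuadraticForm F (Fin n → F)}
    (hQ : Q.polarBilin.Nondegenerate) (hgen : reflClosure Q = ⊤) (g : O Q) :
    (g ∈ Subgroup.closure {g : ↥(Cfsg.isometryGroup F ⇑Q) | ∃ u v : Fin n → F, Q u ≠ 0 ∧ Q v ≠ 0 ∧
        ((g : Matrix.GeneralLinearGroup (Fin n) F) : Matrix (Fin n) (Fin n) F) =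
          Cfsg.reflectionMatrix ⇑Q u * Cfsg.reflectionMatrix ⇑Q v} ∧ dicksonHom hQ hgen g = 1) ∨
    (dicksonHom hQ hgen g = -1 ∧ ∃ u, Q u ≠ 0 ∧ refl Q u * g ∈
      Subgroup.closure {g : ↥(Cfsg.isometryGroup F ⇑Q) | ∃ u v : Fin n → F, Q u ≠ 0 ∧ Q v ≠ 0 ∧
        ((g : Matrix.GeneralLinearGroup (Fin n) F) : Matrix (Fin n) (Fin n) F) =
          Cfsg.reflectionMatrix ⇑Q u * Cfsg.reflectionMatrix ⇑Q v}) := by
  set H : Subgroup (O Q) := Subgroup.closure {g : ↥(Cfsg.isometryGroup F ⇑Q) | ∃ u v : Fin n → F,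
    Q u ≠ 0 ∧ Q v ≠ 0 ∧ ((g : Matrix.GeneralLinearGroup (Fin n) F) : Matrix (Fin n) (Fin n) F) =
      Cfsg.reflectionMatrix ⇑Q u * Cfsg.reflectionMatrix ⇑Q v} with hH
  have hpair : ∀ u v, Q u ≠ 0 → Q v ≠ 0 → refl Q u * refl Q v ∈ H := fun u v hu hv =>
    Subgroup.subset_closure ⟨u, v, hu, hv, by rw [← coe_refl, ← coe_refl]; rfl⟩
  have step : ∀ v y, ((y ∈ H ∧ dicksonHom hQ hgen y = 1) ∨
      (dicksonHom hQ hgen y = -1 ∧ ∃ u, Q u ≠ 0 ∧ refl Q u * y ∈ H)) →
      ((refl Q v * y ∈ H ∧ dicksonHom hQ hgen (refl Q v * y) = 1) ∨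
      (dicksonHom hQ hgen (refl Q v * y) = -1 ∧ ∃ u, Q u ≠ 0 ∧ refl Q u * (refl Q v * y) ∈ H)) := by
    intro v y ih
    rcases eq_or_ne (Q v) 0 with hv | hv
    · rwa [refl_eq_one hv, one_mul]
    rcases ih with ⟨h1, h2⟩ | ⟨h1, u, hu, h2⟩
    · exact Or.inr ⟨by rw [map_mul, h2, mul_one, dicksonHom_refl hQ hgen hv], v, hv,
        by rw [← mul_assoc, refl_mul_self, one_mul]; exact h1⟩
    · refine Or.inl ⟨?_, by rw [map_mul, h1, dicksonHom_refl hQ hgen hv]; decide⟩
      have : refl Q v * y = (refl Q v * refl Q u) * (refl Q u * y) := by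
        rw [mul_assoc, ← mul_assoc (refl Q u) (refl Q u) y, refl_mul_self, one_mul]
      rw [this]; exact mul_mem (hpair v u hv hu) h2
  have hg : g ∈ reflClosure Q := by rw [hgen]; trivial
  induction hg using Subgroup.closure_induction_left with
  | one => exact Or.inl ⟨H.one_mem, map_one _⟩
  | mul_left x hx y _ ih =>
    obtain ⟨v, rfl⟩ := hx
    exact step v y ih
  | inv_mul_cancel x hx y _ ih =>
    obtain ⟨v, rfl⟩ := hx
    rw [refl_inv]
    exact step v y ih


/-- Over a finite field of characteristic two, for a quadratic form Q on F^n with non-degenerate polar form, n ≥ 2, other than dimension 4 over the field of two elements, Ω (the commutator subgroup of the orthogonal group) is exactly the subgroup generated by the products of two reflections (orthogonal transvections) x ↦ x − Q(v)⁻¹ f(x, v) v, Q(v) ≠ 0: the products of an even number of reflections. -/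
theorem result {F : Type*} [Field F] [Fintype F] [CharP F 2] {n : ℕ} (hn : 2 ≤ n) (h : Fintype.card F ≠ 2 ∨ n ≠ 4) (Q : QuadraticForm F (Fin n → F)) (hQ : (QuadraticMap.polarBilin Q).Nondegenerate) : Cfsg.Omega F ⇑Q = Subgroup.closure {g : ↥(Cfsg.isometryGroup F ⇑Q) | ∃ u v : Fin n → F, Q u ≠ 0 ∧ Q v ≠ 0 ∧ ((g : Matrix.GeneralLinearGroup (Fin n) F) : Matrix (Fin n) (Fin n) F) = Cfsg.reflectionMatrix ⇑Q u * Cfsg.reflectionMatrix ⇑Q v} := by
  classical
  have hgen := reflClosure_eq_top hQ (gen_cond (F := F) (n := Fintype.card (Fin n))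
    (h.imp_right fun h4 => by simpa using h4))
  apply le_antisymm
  · intro g hg
    rw [mem_omega_two hQ hgen] at hg
    rcases pairs hQ hgen g with ⟨h1, h2'⟩ | ⟨h1, -⟩
    · exact h1
    · exfalso; rw [hg] at h1; exact absurd h1 (by decide)
  · rw [Subgroup.closure_le]
    rintro g ⟨u, v, hu, hv, hg⟩
    have : g = refl Q u * refl Q v := by
      apply Subtype.ext; apply Units.ext
      rw [hg, ← coe_refl, ← coe_refl]; rfl
    rw [this, SetLike.mem_coe, mem_omega_two hQ hgen, map_mul, dicksonHom_refl hQ hgen hu,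
      dicksonHom_refl hQ hgen hv]
    decide

end Cfsg.Agent.S2635
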