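import Cfsg.Statements.S2636

set_option autoImplicit false
open Cfsg

namespace Cfsg.Agent.S2636

theorem exists_fixed {F : Type*} [Field F] [Fintype F] {q₀ r : ℕ} (hF : Fintype.card F = q₀ ^ r)
    (hr : r.Prime) (σ : F ≃+* F) (hσ : orderOf σ = r) :
    ∃ S : Subfield F, Nat.card S = q₀ ∧ ∀ x, x ∈ S ↔ σ x = x := by
  classical
  let G : Subgroup (RingAut F) := Subgroup.zpowers σ
  haveI : Finite G := Nat.finite_of_card_ne_zero (by
    rw [Nat.card_zpowers, hσ]; exact hr.ne_zero)
  haveI : Fintype G := Fintype.ofFinite _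
  haveI : FaithfulSMul G F := ⟨fun {a b} h => Subtype.ext (RingEquiv.ext h)⟩
  refine ⟨FixedPoints.subfield G F, ?_, ?_⟩
  · have h := Module.natCard_eq_pow_finrank (K := FixedPoints.subfield G F) (V := F)
    rw [FixedPoints.finrank_eq_card G F, ← Nat.card_eq_fintype_card, Nat.card_zpowers, hσ,
      Nat.card_eq_fintype_card (α := F), hF] at h
    exact (Nat.pow_left_injective hr.ne_zero h).symm
  · intro x
    constructor
    · intro h; exact h ⟨σ, Subgroup.mem_zpowers σ⟩
    · intro h g
      have h' : g.1 ∈ MulAction.stabilizer (RingAut F) x :=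
        Subgroup.zpowers_le.2 (show σ ∈ MulAction.stabilizer (RingAut F) x from h) g.2
      exact h'

/-- Scaling an invertible matrix by a unit. -/
def scale {R : Type*} [CommRing R] {n : ℕ} (u : Rˣ) (g : GL (Fin n) R) : GL (Fin n) R where
  val := (u : R) • (g : Matrix (Fin n) (Fin n) R)
  inv := ((u⁻¹ : Rˣ) : R) • ((g⁻¹ : GL (Fin n) R) : Matrix (Fin n) (Fin n) R)
  val_inv := by rw [Matrix.smul_mul, Matrix.mul_smul, smul_smul, Units.mul_inv, Units.mul_inv,
    one_smul]
  inv_val := by rw [Matrix.smul_mul, Matrix.mul_smul, smul_smul, Units.inv_mul, Units.inv_mul,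
    one_smul]

theorem card_key {F : Type*} [Field F] [Fintype F] {n : ℕ} (hn : 1 ≤ n) (σ : F ≃+* F)
    (S : Subfield F) (hmem : ∀ x, x ∈ S ↔ σ x = x) :
    Nat.card {g : GL (Fin n) F // ∃ c : F, c ≠ 0 ∧
        (g : Matrix (Fin n) (Fin n) F).map σ = c • (g : Matrix (Fin n) (Fin n) F)} * Nat.card Sˣ =
      Nat.card Fˣ * Nat.card (GL (Fin n) S) := by
  classical
  rw [← Nat.card_prod, ← Nat.card_prod]
  let T := {g : GL (Fin n) F // ∃ c : F, c ≠ 0 ∧
        (g : Matrix (Fin n) (Fin n) F).map σ = c • (g : Matrix (Fin n) (Fin n) F)}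
  let ι : S →+* F := S.subtype
  have hex : ∀ g : T, ∃ a : Fˣ, ∃ h : GL (Fin n) S,
      (g.1 : Matrix (Fin n) (Fin n) F) = (a : F) • (h : Matrix (Fin n) (Fin n) S).map ι := by
    rintro ⟨g, c, hc0, hc⟩
    obtain ⟨i, j, hij⟩ : ∃ i j, (g : Matrix (Fin n) (Fin n) F) i j ≠ 0 := by
      by_contra h
      push Not at h
      haveI : Nonempty (Fin n) := ⟨⟨0, hn⟩⟩
      exact g.ne_zero (Matrix.ext h)
    set a := (g : Matrix (Fin n) (Fin n) F) i j with ha
    have hσe : ∀ k l, σ ((g : Matrix (Fin n) (Fin n) F) k l) =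
        c * (g : Matrix (Fin n) (Fin n) F) k l := fun k l => congrFun (congrFun hc k) l
    let h : Matrix (Fin n) (Fin n) S := fun k l =>
      ⟨(g : Matrix (Fin n) (Fin n) F) k l / a, (hmem _).2 (by
        rw [map_div₀, hσe, ha, hσe, mul_div_mul_left _ _ hc0])⟩
    have hh : (g : Matrix (Fin n) (Fin n) F) = a • h.map ι := by
      ext k l
      change _ = a * ((g : Matrix (Fin n) (Fin n) F) k l / a)
      rw [mul_div_cancel₀ _ hij]
    have hdet : h.det ≠ 0 := by
      intro h0
      have := congrArg Matrix.det hh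
      rw [Matrix.det_smul, ← RingHom.mapMatrix_apply, ← RingHom.map_det, h0, map_zero,
        mul_zero] at this
      exact (Matrix.GeneralLinearGroup.det_ne_zero g) this
    exact ⟨Units.mk0 a hij, Matrix.GeneralLinearGroup.mkOfDetNeZero h hdet, hh⟩
  choose a h hah using hex
  refine Nat.card_congr (Equiv.ofBijective (fun p : T × Sˣ =>
    (a p.1 * Units.map ι.toMonoidHom p.2,
      scale p.2⁻¹ (h p.1))) ⟨?_, ?_⟩)
  · rintro ⟨g, μ⟩ ⟨g', μ'⟩ hgg
    obtain ⟨h1, h2⟩ := Prod.mk.injEq .. ▸ hgg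
    have hg : g = g' := by
      apply Subtype.ext; apply Units.ext
      rw [hah g, hah g']
      have h1' : (a g : F) * (μ : S) = (a g' : F) * (μ' : S) := congrArg Units.val h1
      ext k l
      have h2' : ((μ⁻¹ : Sˣ) : S) * (h g : Matrix (Fin n) (Fin n) S) k l =
          ((μ'⁻¹ : Sˣ) : S) * (h g' : Matrix (Fin n) (Fin n) S) k l := by
        exact congrArg (fun y : GL (Fin n) S => (y : Matrix (Fin n) (Fin n) S) k l) h2
      have h2'' := congrArg ι h2'
      simp only [map_mul, map_units_inv] at h2''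
      simp only [Matrix.smul_apply, Matrix.map_apply, smul_eq_mul]
      have e1 : ι (μ : S) ≠ 0 := by simp [ι]
      have e2 : ι (μ' : S) ≠ 0 := by simp [ι]
      field_simp at h2''
      apply mul_right_cancel₀ e2
      have h1'' : (a g : F) * ι (μ : S) = (a g' : F) * ι (μ' : S) := h1'
      linear_combination (a g : F) * h2'' + ι ((h g' : Matrix (Fin n) (Fin n) S) k l) * h1''
    subst hg
    have : Units.map ι.toMonoidHom μ = Units.map ι.toMonoidHom μ' := mul_left_cancel h1
    exact Prod.ext rfl (Units.map_injective ι.injective this)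
  · rintro ⟨b, k⟩
    have hdet : ((b : F) • (k : Matrix (Fin n) (Fin n) S).map ι).det ≠ 0 := by
      rw [Matrix.det_smul, ← RingHom.mapMatrix_apply, ← RingHom.map_det]
      exact mul_ne_zero (pow_ne_zero _ b.ne_zero)
        ((map_ne_zero ι).2 (Matrix.GeneralLinearGroup.det_ne_zero k))
    let g : T := ⟨Matrix.GeneralLinearGroup.mkOfDetNeZero _ hdet, σ b / b,
      div_ne_zero ((map_ne_zero σ).2 b.ne_zero) b.ne_zero, by
        ext i j
        change σ ((b : F) * ι ((k : Matrix (Fin n) (Fin n) S) i j)) =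
          σ b / b * ((b : F) * ι ((k : Matrix (Fin n) (Fin n) S) i j))
        rw [map_mul, show σ (ι ((k : Matrix (Fin n) (Fin n) S) i j)) =
          ι ((k : Matrix (Fin n) (Fin n) S) i j) from (hmem _).1 ((k : Matrix (Fin n) (Fin n) S) i j).2]
        field_simp⟩
    have hg : (a g : F) • (h g : Matrix (Fin n) (Fin n) S).map ι =
        (b : F) • (k : Matrix (Fin n) (Fin n) S).map ι := (hah g).symm
    obtain ⟨i, j, hij⟩ : ∃ i j, (h g : Matrix (Fin n) (Fin n) S) i j ≠ 0 := by
      by_contra hc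
      push Not at hc
      haveI : Nonempty (Fin n) := ⟨⟨0, hn⟩⟩
      exact (h g).ne_zero (Matrix.ext hc)
    have e : ∀ i j, (a g : F) * ι ((h g : Matrix (Fin n) (Fin n) S) i j) =
        (b : F) * ι ((k : Matrix (Fin n) (Fin n) S) i j) := fun i j => congrFun (congrFun hg i) j
    have hk : (k : Matrix (Fin n) (Fin n) S) i j ≠ 0 := by
      intro h0
      have := e i j
      rw [h0, map_zero, mul_zero] at this
      exact (mul_ne_zero (a g).ne_zero ((map_ne_zero ι).2 hij)) this
    set w : S := (h g : Matrix (Fin n) (Fin n) S) i j / (k : Matrix (Fin n) (Fin n) S) i j with hw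
    have hw0 : w ≠ 0 := div_ne_zero hij hk
    have hk' : ι ((k : Matrix (Fin n) (Fin n) S) i j) ≠ 0 := (map_ne_zero ι).2 hk
    have hb : (a g : F) * ι w = b := by
      rw [hw, map_div₀]; field_simp; linear_combination e i j
    refine ⟨(g, Units.mk0 w hw0), Prod.ext (Units.ext hb) (Units.ext (Matrix.ext fun k' l => ?_))⟩
    change ((Units.mk0 w hw0)⁻¹ : Sˣ).1 * (h g : Matrix (Fin n) (Fin n) S) k' l = _
    apply ι.injective
    rw [map_mul, map_units_inv]
    have : ι ((Units.mk0 w hw0 : Sˣ) : S) ≠ 0 := (map_ne_zero ι).2 hw0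
    simp only [Units.val_mk0] at this ⊢
    field_simp
    apply mul_left_cancel₀ (a g).ne_zero
    linear_combination e k' l - ι ((k : Matrix (Fin n) (Fin n) S) k' l) * hb


/-- Centraliser of a field automorphism in PGL_n: let F be the field with q = q₀^r elements, σ a field automorphism of F of prime order r (so its fixed field has q₀ elements) and n ≥ 1. The invertible matrices g whose entrywise image under σ is a scalar multiple of g — those whose coset modulo scalars is fixed by σ — number (q − 1)/(q₀ − 1) · |GL_n(q₀)|; equivalently the centraliser in PGL_n(q) of the induced automorphism has the order of PGL_n(q₀). -/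
theorem result {F : Type*} [Field F] [Fintype F] {q₀ r n : ℕ} (hr : r.Prime) (hn : 1 ≤ n) (hF : Fintype.card F = q₀ ^ r) (σ : F ≃+* F) (hσ : orderOf σ = r) : Nat.card {g : GL (Fin n) F // ∃ c : F, c ≠ 0 ∧ (g : Matrix (Fin n) (Fin n) F).map σ = c • (g : Matrix (Fin n) (Fin n) F)} = (q₀ ^ r - 1) / (q₀ - 1) * ∏ i : Fin n, (q₀ ^ n - q₀ ^ (i : ℕ)) := by
  classical
  obtain ⟨S₀, hS₀, hmem⟩ := exists_fixed hF hr σ hσ
  haveI : Fintype S₀ := Fintype.ofFinite _
  have hq0 : 1 < q₀ := by
    rw [← hS₀, Nat.card_eq_fintype_card]; exact Fintype.one_lt_card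
  have key := card_key hn σ S₀ hmem
  simp only [Nat.card_units, Matrix.card_GL_field, ← Nat.card_eq_fintype_card, hS₀] at key
  rw [Nat.card_eq_fintype_card (α := F), hF] at key
  obtain ⟨d, hd⟩ : q₀ - 1 ∣ q₀ ^ r - 1 := by
    simpa using Nat.sub_dvd_pow_sub_pow q₀ 1 r
  rw [hd] at key ⊢
  rw [Nat.mul_div_cancel_left d (by omega)]
  apply Nat.eq_of_mul_eq_mul_right (show 0 < q₀ - 1 by omega)
  rw [key]; ring

end Cfsg.Agent.S2636
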