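import Cfsg.Statements.S2637
import Cfsg.Agent.Lib.UnitaryEmbed.HermSpace
import Cfsg.Agent.Lib.ClassicalGroups.HermGroup
import Cfsg.Agent.Lib.Sp.Group

set_option autoImplicit false
open Cfsg

namespace Cfsg.Agent.S2637

open Polynomial Matrix CfsgLib.UnitaryEmbed

theorem exists_equiv.{u} {F : Type u} [Field F] [Fintype F] {q m : ℕ} (hF : Fintype.card F = q)
    (hq : q % 3 = 2) (x : Matrix.symplecticGroup (Fin m) F)
    (hx : (x : Matrix (Fin m ⊕ Fin m) (Fin m ⊕ Fin m) F) ^ 2 + x + 1 = 0) :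
    ∃ (K : Type u) (_ : Field K) (_ : Fintype K), Fintype.card K = q ^ 2 ∧
      Nonempty (↥(Subgroup.centralizer ({x} : Set ↥(Matrix.symplecticGroup (Fin m) F))) ≃* ↥(Cfsg.GU m K q)) := by
  classical
  let g : F[X] := X ^ 2 + X + C 1
  have hg2 : g.natDegree = 2 := by simp only [g]; compute_degree!
  have h3 : (3 : F) ≠ 0 := by
    intro h
    obtain ⟨p, hp⟩ := CharP.exists F
    obtain ⟨f, hp', hFp⟩ := FiniteField.card F p
    have h3' : ((3 : ℕ) : F) = 0 := by exact_mod_cast h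
    have := (CharP.cast_eq_zero_iff F p 3).1 h3'
    rw [Nat.prime_dvd_prime_iff_eq hp' Nat.prime_three] at this
    subst this
    rw [hF] at hFp
    have : 3 ∣ q := hFp ▸ dvd_pow_self 3 f.ne_zero
    omega
  have hroot : ∀ z, ¬ g.IsRoot z := by
    intro z hz
    have hz' : z ^ 2 + z + 1 = 0 := by simpa [g] using hz
    have hz0 : z ≠ 0 := by rintro rfl; simp at hz'
    have hz3 : z ^ 3 = 1 := by linear_combination (z - 1) * hz'
    have hz1 : Units.mk0 z hz0 ≠ 1 := by
      intro h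
      have : z = 1 := congrArg Units.val h
      subst this
      exact h3 (by linear_combination hz')
    have : Fact (Nat.Prime 3) := ⟨Nat.prime_three⟩
    have ho : orderOf (Units.mk0 z hz0) = 3 := orderOf_eq_prime (Units.ext (by simpa using hz3)) hz1
    have hd := orderOf_dvd_natCard (Units.mk0 z hz0)
    rw [ho, Nat.card_units, Nat.card_eq_fintype_card, hF] at hd
    omega
  have hirr : Irreducible g := by
    refine (irreducible_iff_roots_eq_zero_of_degree_le_three (by omega) (by omega)).2 ?_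
    exact Multiset.eq_zero_of_forall_notMem fun z hz =>
      hroot z ((mem_roots (ne_zero_of_natDegree_gt (n := 1) (by omega))).1 hz)
  have : Fact (Irreducible g) := ⟨hirr⟩
  have : FiniteDimensional F (AdjoinRoot g) := (AdjoinRoot.powerBasis hirr.ne_zero).finite
  have : Finite (AdjoinRoot g) := Module.finite_of_finite F
  let iK : Fintype (AdjoinRoot g) := Fintype.ofFinite _
  have hcard : Fintype.card (AdjoinRoot g) = q ^ 2 := by
    rw [Module.card_eq_pow_finrank (K := F), hF, (AdjoinRoot.powerBasis hirr.ne_zero).finrank,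
      AdjoinRoot.powerBasis_dim, hg2]
  refine ⟨AdjoinRoot g, inferInstance, iK, hcard, ?_⟩
  obtain ⟨τ, hτ, hτne, hτ2⟩ := exists_conj hcard
  set ι : F →+* AdjoinRoot g := AdjoinRoot.of g with hι
  have hιτ : ∀ a, τ (ι a) = ι a := fun a => by rw [hτ, ← map_pow, ← hF, FiniteField.pow_card]
  set ω := AdjoinRoot.root g with hωdef
  have hω : ω ^ 2 + ω + 1 = 0 := by
    have h := AdjoinRoot.eval₂_root g
    simpa [g] using h
  have hτω : τ ω = ω ^ 2 := by
    have hω3 : ω ^ 3 = 1 := by linear_combination (ω - 1) * hω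
    rw [hτ, ← Nat.div_add_mod q 3, hq, pow_add, pow_mul, hω3, one_pow, one_mul]
  have hω1 : ω - ω ^ 2 ≠ 0 := by
    intro h
    have hh : (3 : AdjoinRoot g) = 0 := by
      linear_combination (4 - (2 * ω + 1)) * hω - (2 * ω + 1) * h
    exact h3 (ι.injective (by rw [map_ofNat, map_zero]; exact hh))
  let A : Module.End F (Fin m ⊕ Fin m → F) :=
    Matrix.toLinAlgEquiv' (x : Matrix (Fin m ⊕ Fin m) (Fin m ⊕ Fin m) F)
  have hA : A ^ 2 + A + 1 = 0 := by
    have := congrArg Matrix.toLinAlgEquiv' hx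
    simpa [A] using this
  let ψ : AdjoinRoot g →ₐ[F] Module.End F (Fin m ⊕ Fin m → F) :=
    Ideal.Quotient.liftₐ (Ideal.span {g}) (aeval A) (by
      intro P hP
      obtain ⟨w, rfl⟩ := Ideal.mem_span_singleton.1 hP
      rw [map_mul, show aeval A g = 0 by simpa [g] using hA, zero_mul])
  have hψω : ψ ω = A := by
    rw [hωdef, ← AdjoinRoot.mk_X]
    exact aeval_X A
  let inst : Module (AdjoinRoot g) (Fin m ⊕ Fin m → F) := Module.compHom _ ψ.toRingHom
  have hsmul : ∀ (c : AdjoinRoot g) v, c • v = ψ c v := fun _ _ => rfl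
  have hsι : ∀ (a : F) (v : Fin m ⊕ Fin m → F), ι a • v = a • v := fun a v => by
    rw [hsmul, hι, show AdjoinRoot.of g a = algebraMap F (AdjoinRoot g) a from rfl, AlgHom.commutes]
    rfl
  have hsω : ∀ v, ω • v = (x : Matrix (Fin m ⊕ Fin m) (Fin m ⊕ Fin m) F) *ᵥ v := fun v => by
    rw [hsmul, hψω]; rfl
  have : FiniteDimensional (AdjoinRoot g) (Fin m ⊕ Fin m → F) := Module.Finite.of_finite
  have hfr : Module.finrank (AdjoinRoot g) (Fin m ⊕ Fin m → F) = m := by
    have h := Module.card_eq_pow_finrank (K := AdjoinRoot g) (V := Fin m ⊕ Fin m → F)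
    rw [hcard, Fintype.card_fun, hF, Fintype.card_sum, Fintype.card_fin, ← pow_mul] at h
    have := Nat.pow_right_injective (hF ▸ Fintype.one_lt_card : 1 < q) h
    omega
  -- decomposition of scalars
  have hdec : ∀ c : AdjoinRoot g, ∃ a b : F, c = ι a + ι b * ω := by
    intro c
    obtain ⟨P, rfl⟩ := AdjoinRoot.mk_surjective c
    induction P using Polynomial.induction_on with
    | C a => exact ⟨a, 0, by simp [hι]⟩
    | add P Q hP hQ =>
      obtain ⟨a, b, h⟩ := hP
      obtain ⟨a', b', h'⟩ := hQ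
      exact ⟨a + a', b + b', by rw [map_add, h, h', map_add, map_add]; ring⟩
    | monomial k a h =>
      obtain ⟨a', b', h⟩ := h
      refine ⟨-b', a' - b', ?_⟩
      rw [pow_succ, ← mul_assoc, map_mul, h, AdjoinRoot.mk_X, ← hωdef, map_neg, map_sub]
      linear_combination (ι b') * hω
  have hx2 : ∀ v, (x : Matrix (Fin m ⊕ Fin m) (Fin m ⊕ Fin m) F) *ᵥ
      ((x : Matrix (Fin m ⊕ Fin m) (Fin m ⊕ Fin m) F) *ᵥ v) =
      -((x : Matrix (Fin m ⊕ Fin m) (Fin m ⊕ Fin m) F) *ᵥ v) - v := by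
    intro v
    have := congrArg (fun M => M *ᵥ v) hx
    simp only [add_mulVec, one_mulVec, zero_mulVec, sq, ← mulVec_mulVec] at this
    rw [← sub_eq_zero, ← this]; abel
  let b := CfsgLib.Sp.sympBilin m F
  have hbx : ∀ u v, b ((x : Matrix (Fin m ⊕ Fin m) (Fin m ⊕ Fin m) F) *ᵥ u) ((x : Matrix (Fin m ⊕ Fin m) (Fin m ⊕ Fin m) F) *ᵥ v) = b u v := fun u v => by
    simp only [b, CfsgLib.Sp.sympBilin_apply, CfsgLib.Sp.sympForm_mulVec]
  let xv : (Fin m ⊕ Fin m → F) → (Fin m ⊕ Fin m → F) := fun v =>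
    (x : Matrix (Fin m ⊕ Fin m) (Fin m ⊕ Fin m) F) *ᵥ v
  let H : (Fin m ⊕ Fin m → F) → (Fin m ⊕ Fin m → F) → AdjoinRoot g :=
    fun u v => ι (b (xv u) v) - ω ^ 2 * ι (b u v)
  have hbflip : ∀ u v, b v u = -b u v := fun u v => by
    simp only [b, CfsgLib.Sp.sympBilin_apply]; exact CfsgLib.Sp.sympForm_flip u v
  have hHω : ∀ u v, H (ω • u) v = ω * H u v := by
    intro u v
    simp only [H, hsω, xv, hx2, map_sub, map_neg, LinearMap.sub_apply, LinearMap.neg_apply]
    linear_combination (-ι (b (xv u) v) + (ω - 1) * ι (b u v)) * hω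
  have hHadd : ∀ u u' v, H (u + u') v = H u v + H u' v := by
    intro u u' v
    simp only [H, xv, mulVec_add, map_add, LinearMap.add_apply]; ring
  have hHι : ∀ a u v, H (ι a • u) v = ι a * H u v := by
    intro a u v
    simp only [H, xv, hsι, mulVec_smul, map_smul, LinearMap.smul_apply, smul_eq_mul, map_mul]; ring
  have hHsmul : ∀ c u v, H (c • u) v = c * H u v := by
    intro c u v
    obtain ⟨a, b', rfl⟩ := hdec c
    rw [add_smul, mul_smul, hHadd, hHι, hHι, hHω]; ring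
  have hHsym : ∀ u v, τ (H u v) = H v u := by
    intro u v
    have hk : b u (xv v) = -b (xv u) v - b u v := by
      have h := hbx (xv u) v
      rw [show (x : Matrix (Fin m ⊕ Fin m) (Fin m ⊕ Fin m) F) *ᵥ xv u = -xv u - u from hx2 u, map_sub, map_neg,
        LinearMap.sub_apply, LinearMap.neg_apply] at h
      have h' := hbx u v
      simp only [xv] at h h' ⊢
      linear_combination -h - h'
    simp only [H, map_sub, map_mul, map_pow, hιτ, hτω]
    rw [hbflip u (xv v) |> fun h => (show b (xv v) u = -b u (xv v) from h), hk, hbflip u v]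
    simp only [map_neg, map_sub]
    linear_combination (-(ω ^ 2 - ω + 1) * ι (b u v)) * hω + 0
  let B : (Fin m ⊕ Fin m → F) →ₛₗ[τ] (Fin m ⊕ Fin m → F) →ₗ[AdjoinRoot g] AdjoinRoot g :=
    LinearMap.mk₂'ₛₗ τ (RingHom.id _) (fun v u => H u v)
      (fun v v' u => by rw [← hHsym, hHadd, map_add, hHsym, hHsym])
      (fun c v u => by rw [← hHsym, hHsmul, map_mul, hHsym, smul_eq_mul])
      (fun v u u' => hHadd u u' v)
      (fun c v u => by rw [hHsmul, smul_eq_mul, RingHom.id_apply])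
  have hdiff : ∀ u v, ι (b u v) * (ω - ω ^ 2) = H u v - H v u := by
    intro u v
    rw [← hHsym u v]
    simp only [H, map_sub, map_mul, map_pow, hιτ, hτω]
    linear_combination (-(ω ^ 2 - ω) * ι (b u v)) * hω
  have hB : B.SeparatingLeft := by
    intro v hv
    refine CfsgLib.Sp.sympBilin_separatingLeft v fun u => ι.injective ?_
    have h1 : H u v = 0 := hv u
    have h2 := hdiff v u
    rw [← hHsym u v, h1, map_zero, sub_zero] at h2
    rw [map_zero]
    exact (mul_eq_zero.1 h2).resolve_right hω1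
  obtain ⟨e, he⟩ := exists_std_equiv hcard τ hτ hτne hτ2 B (fun u v => hHsym v u) hB hfr
  have hlin : ∀ y : ↥(Subgroup.centralizer ({x} : Set ↥(Matrix.symplecticGroup (Fin m) F))),
      ∀ (c : AdjoinRoot g) v, ((y : Matrix.symplecticGroup (Fin m) F) : Matrix (Fin m ⊕ Fin m) (Fin m ⊕ Fin m) F) *ᵥ (c • v) =
        c • (((y : Matrix.symplecticGroup (Fin m) F) : Matrix (Fin m ⊕ Fin m) (Fin m ⊕ Fin m) F) *ᵥ v) := by
    intro y c v
    obtain ⟨a, b', rfl⟩ := hdec c
    have hc : ((y : Matrix.symplecticGroup (Fin m) F) : Matrix (Fin m ⊕ Fin m) (Fin m ⊕ Fin m) F) * (x : Matrix (Fin m ⊕ Fin m) (Fin m ⊕ Fin m) F) =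
        (x : Matrix (Fin m ⊕ Fin m) (Fin m ⊕ Fin m) F) * ((y : Matrix.symplecticGroup (Fin m) F) : Matrix (Fin m ⊕ Fin m) (Fin m ⊕ Fin m) F) :=
      congrArg Subtype.val (Subgroup.mem_centralizer_singleton_iff.1 y.2)
    simp only [add_smul, mul_smul, hsι, hsω, mulVec_add, mulVec_smul, mulVec_mulVec, hc]
  let L : ↥(Subgroup.centralizer ({x} : Set ↥(Matrix.symplecticGroup (Fin m) F))) →
      ((Fin m → AdjoinRoot g) →ₗ[AdjoinRoot g] (Fin m → AdjoinRoot g)) := fun y =>
    e.symm.toLinearMap ∘ₗ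
      ({ toFun := fun v => ((y : Matrix.symplecticGroup (Fin m) F) : Matrix (Fin m ⊕ Fin m) (Fin m ⊕ Fin m) F) *ᵥ v
         map_add' := fun u v => mulVec_add _ u v
         map_smul' := hlin y } : (Fin m ⊕ Fin m → F) →ₗ[AdjoinRoot g] (Fin m ⊕ Fin m → F)) ∘ₗ
      e.toLinearMap
  have hLe : ∀ y v, e (L y v) = ((y : Matrix.symplecticGroup (Fin m) F) : Matrix (Fin m ⊕ Fin m) (Fin m ⊕ Fin m) F) *ᵥ e v :=
    fun y v => e.apply_symm_apply _
  have hmulv : ∀ y v, LinearMap.toMatrix' (L y) *ᵥ v = L y v := fun y v =>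
    LinearMap.toMatrix'_mulVec _ _
  have hmul : ∀ y z, LinearMap.toMatrix' (L (y * z)) =
      LinearMap.toMatrix' (L y) * LinearMap.toMatrix' (L z) := fun y z =>
    Matrix.ext_iff_mulVec.2 fun v => e.injective (by
      rw [hmulv, hLe, ← mulVec_mulVec, hmulv, hmulv, hLe, hLe, mulVec_mulVec]; rfl)
  have hone : LinearMap.toMatrix' (L 1) = 1 :=
    Matrix.ext_iff_mulVec.2 fun v => e.injective (by
      rw [hmulv, hLe, one_mulVec]; exact one_mulVec _)
  let ψ₀ : ↥(Subgroup.centralizer ({x} : Set ↥(Matrix.symplecticGroup (Fin m) F))) →*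
      Matrix (Fin m) (Fin m) (AdjoinRoot g) :=
    { toFun := fun y => LinearMap.toMatrix' (L y), map_one' := hone, map_mul' := hmul }
  let φ₀ := ψ₀.toHomUnits
  have hφmem : ∀ y, φ₀ y ∈ Cfsg.GU m (AdjoinRoot g) q := by
    intro y u v
    simp only [Units.coeHom_apply]
    change Cfsg.hermForm m _ q (LinearMap.toMatrix' (L y) *ᵥ u) (LinearMap.toMatrix' (L y) *ᵥ v) = _
    rw [hmulv, hmulv, ← he, ← he, hLe, hLe]
    change H _ _ = H _ _
    have hxy : ∀ w, xv (((y : Matrix.symplecticGroup (Fin m) F) : Matrix (Fin m ⊕ Fin m) (Fin m ⊕ Fin m) F) *ᵥ w) =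
        ((y : Matrix.symplecticGroup (Fin m) F) : Matrix (Fin m ⊕ Fin m) (Fin m ⊕ Fin m) F) *ᵥ xv w := by
      intro w
      have := hlin y ω w
      rw [hsω, hsω] at this
      exact this.symm
    simp only [H, hxy, b, CfsgLib.Sp.sympBilin_apply, CfsgLib.Sp.sympForm_mulVec]
  let φ := φ₀.codRestrict _ hφmem
  refine ⟨MulEquiv.ofBijective φ ⟨?_, ?_⟩⟩
  · intro y z hyz
    apply Subtype.ext; apply Subtype.ext
    refine Matrix.ext_iff_mulVec.2 fun w => ?_
    obtain ⟨v, rfl⟩ := e.surjective w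
    rw [← hLe, ← hLe, ← hmulv, ← hmulv]
    have h : LinearMap.toMatrix' (L y) = LinearMap.toMatrix' (L z) :=
      congrArg Units.val (congrArg Subtype.val hyz)
    rw [h]
  · intro G
    let T : (Fin m ⊕ Fin m → F) →ₗ[F] (Fin m ⊕ Fin m → F) :=
      { toFun := fun v => e (((G : GL (Fin m) (AdjoinRoot g)) : Matrix _ _ _) *ᵥ e.symm v)
        map_add' := fun u v => by rw [map_add, mulVec_add, map_add]
        map_smul' := fun a v => by
          simp only [RingHom.id_apply, ← hsι, map_smul, mulVec_smul] }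
    let M := LinearMap.toMatrix' T
    have hM : ∀ v, M *ᵥ v = e (((G : GL (Fin m) (AdjoinRoot g)) : Matrix _ _ _) *ᵥ e.symm v) :=
      fun v => LinearMap.toMatrix'_mulVec T v
    have hH : ∀ u v, H (M *ᵥ u) (M *ᵥ v) = H u v := fun u v => by
      rw [hM, hM]
      change B (e _) (e _) = B v u
      rw [he]
      have h := G.2 (e.symm u) (e.symm v)
      simp only [Units.coeHom_apply] at h
      rw [h, ← he, e.apply_symm_apply, e.apply_symm_apply]
    have hMsp : M ∈ Matrix.symplecticGroup (Fin m) F := by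
      rw [CfsgLib.Sp.mem_symplecticGroup_iff]
      intro u v
      apply ι.injective
      apply mul_right_cancel₀ hω1
      have h1 := hdiff (M *ᵥ u) (M *ᵥ v)
      have h2 := hdiff u v
      rw [hH, hH, ← h2] at h1
      simpa [b, CfsgLib.Sp.sympBilin_apply] using h1
    have hcomm : M * (x : Matrix (Fin m ⊕ Fin m) (Fin m ⊕ Fin m) F) = (x : Matrix (Fin m ⊕ Fin m) (Fin m ⊕ Fin m) F) * M :=
      Matrix.ext_iff_mulVec.2 fun v => by
        rw [← mulVec_mulVec, ← mulVec_mulVec, ← hsω, ← hsω, hM, hM, map_smul, mulVec_smul, map_smul]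
    refine ⟨⟨⟨M, hMsp⟩, Subgroup.mem_centralizer_singleton_iff.2 (Subtype.ext hcomm)⟩, ?_⟩
    apply Subtype.ext; apply Units.ext
    refine Matrix.ext_iff_mulVec.2 fun v => e.injective ?_
    change e (LinearMap.toMatrix' (L _) *ᵥ v) = _
    rw [hmulv, hLe]
    change M *ᵥ e v = _
    rw [hM, e.symm_apply_apply]


/-- Centraliser of a fixed-point-free element of order three in Sp_2m(q) when q ≡ 2 (mod 3): if x ∈ Sp_2m(F) (|F| = q, m ≥ 1) satisfies x³ = 1 and x − 1 is invertible, then its centraliser in Sp_2m(F) has the order of the unitary group GU_m(q), namely q^(m(m−1)/2) Π_(i=1)^m (q^i − (−1)^i) (x lies in the centre of a subgroup GU_m(q) of Sp_2m(q)). -/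
theorem result {F : Type*} [Field F] [Fintype F] {q : ℕ} (hF : Fintype.card F = q) (hq : q % 3 = 2) {m : ℕ} (hm : 1 ≤ m) (x : Matrix.symplecticGroup (Fin m) F) (hx3 : x ^ 3 = 1) (hfpf : IsUnit ((x : Matrix (Fin m ⊕ Fin m) (Fin m ⊕ Fin m) F) - 1)) : (Nat.card ↥(Subgroup.centralizer ({x} : Set ↥(Matrix.symplecticGroup (Fin m) F))) : ℤ) = (q : ℤ) ^ (m * (m - 1) / 2) * ∏ i : Fin m, ((q : ℤ) ^ ((i : ℕ) + 1) - (-1) ^ ((i : ℕ) + 1)) := by
  classical
  have h2 : ((x : Matrix (Fin m ⊕ Fin m) (Fin m ⊕ Fin m) F)) ^ 2 + x + 1 = 0 := by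
    have h3 : ((x : Matrix (Fin m ⊕ Fin m) (Fin m ⊕ Fin m) F)) ^ 3 = 1 := congrArg Subtype.val hx3
    refine hfpf.mul_left_cancel ?_
    rw [mul_zero]
    calc ((x : Matrix (Fin m ⊕ Fin m) (Fin m ⊕ Fin m) F) - 1) *
          ((x : Matrix (Fin m ⊕ Fin m) (Fin m ⊕ Fin m) F) ^ 2 + x + 1)
        = (x : Matrix (Fin m ⊕ Fin m) (Fin m ⊕ Fin m) F) ^ 3 - 1 := by noncomm_ring
      _ = 0 := by rw [h3, sub_self]
  obtain ⟨K, i1, i2, hK, ⟨e⟩⟩ := exists_equiv hF hq x h2
  rw [Nat.card_congr e.toEquiv, CfsgLib.ClassicalGroups.card_GU hK m, Nat.cast_mul, Nat.cast_pow,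
    Nat.cast_prod, ← Fin.prod_univ_eq_prod_range]
  congr 1
  refine Finset.prod_congr rfl fun i _ => ?_
  have h1 : 1 ≤ q ^ ((i : ℕ) + 1) := Nat.one_le_pow _ _ (hF ▸ Fintype.card_pos)
  rcases Nat.even_or_odd (i : ℕ) with h | h
  · rw [if_pos h, (Even.add_one h).neg_one_pow]; push_cast; ring
  · rw [if_neg (Nat.not_even_iff_odd.2 h), (Odd.add_one h).neg_one_pow, Nat.cast_sub h1]
    push_cast; ring

end Cfsg.Agent.S2637
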