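import Cfsg.Statements.S2638

set_option autoImplicit false
open Cfsg

namespace Cfsg.Agent.S2638

open Polynomial Matrix


/-- If an element x of GL_n(q), n ≥ 1, has prime order r and the multiplicative order of q modulo r is n (r is a primitive prime divisor of q^n − 1, so x acts irreducibly), then the centraliser of x in GL_n(q) is cyclic of order q^n − 1 (the multiplicative group of the field with q^n elements, a Singer cycle). -/
theorem result {F : Type*} [Field F] [Fintype F] {p q : ℕ} [Fact p.Prime] [CharP F p] (hF : Fintype.card F = q) {n r : ℕ} (hn : 1 ≤ n) (hr : r.Prime) (hrp : r ≠ p) (hi : orderOf (q : ZMod r) = n) (x : GL (Fin n) F) (hx : orderOf x = r) : IsCyclic ↥(Subgroup.centralizer ({x} : Set (GL (Fin n) F))) ∧ Nat.card ↥(Subgroup.centralizer ({x} : Set (GL (Fin n) F))) = q ^ n - 1 := by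
  classical
  haveI : Fact r.Prime := ⟨hr⟩
  have hAr : ((x : Matrix (Fin n) (Fin n) F)) ^ r = 1 := by
    rw [← Units.val_pow_eq_pow_val, ← hx, pow_orderOf_eq_one, Units.val_one]
  have hA1 : (x : Matrix (Fin n) (Fin n) F) ≠ 1 := by
    intro h
    have hx1 : x = 1 := Units.ext h
    rw [hx1, orderOf_one] at hx
    exact hr.one_lt.ne hx
  have hrF : (r : F) ≠ 0 := by
    rw [Ne, CharP.cast_eq_zero_iff F p r,
      Nat.prime_dvd_prime_iff_eq (Fact.out : p.Prime) hr]
    exact hrp.symm
  have hint : IsIntegral F (x : Matrix (Fin n) (Fin n) F) := Matrix.isIntegral _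
  have hμ : minpoly F (x : Matrix (Fin n) (Fin n) F) ∣ X ^ r - 1 :=
    minpoly.dvd _ _ (by simp [hAr])
  obtain ⟨g, hgm, hgi, hgd, hg1⟩ : ∃ g : F[X], g.Monic ∧ Irreducible g ∧
      g ∣ minpoly F (x : Matrix (Fin n) (Fin n) F) ∧ g ≠ X - C 1 := by
    by_contra h
    push Not at h
    have hsq : Squarefree (minpoly F (x : Matrix (Fin n) (Fin n) F)) :=
      (X_pow_sub_one_separable_iff.2 hrF).squarefree.squarefree_of_dvd hμ
    have : Nontrivial (Matrix (Fin n) (Fin n) F) :=
      ⟨⟨_, _, hA1⟩⟩
    have fac : ∀ P : F[X], ¬IsUnit P → P ∣ minpoly F (x : Matrix (Fin n) (Fin n) F) →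
        X - C 1 ∣ P := by
      intro P hP hPd
      have hP0 : P ≠ 0 := ne_zero_of_dvd_ne_zero (minpoly.ne_zero hint) hPd
      obtain ⟨g, hgi, hgP⟩ := WfDvdMonoid.exists_irreducible_factor hP hP0
      have e := h (normalize g) (monic_normalize hgi.ne_zero)
        ((normalize_associated g).symm.irreducible hgi)
        ((normalize_dvd_iff.2 hgP).trans hPd)
      rw [← e]; exact normalize_dvd_iff.2 hgP
    obtain ⟨u, hu⟩ := fac _ (minpoly.not_isUnit F _) dvd_rfl
    by_cases huu : IsUnit u
    · have hu' : minpoly F (x : Matrix (Fin n) (Fin n) F) = X - C 1 :=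
        eq_of_monic_of_associated (minpoly.monic hint) (monic_X_sub_C 1)
          (hu ▸ associated_mul_unit_left _ _ huu)
      have := minpoly.aeval F (x : Matrix (Fin n) (Fin n) F)
      rw [hu'] at this
      simp [sub_eq_zero] at this
      exact hA1 (Units.val_eq_one.2 this)
    · obtain ⟨w, hw⟩ := fac u huu ⟨X - C 1, by rw [hu, mul_comm]⟩
      exact not_isUnit_X_sub_C 1 (hsq (X - C 1) ⟨w, by rw [hu, hw, mul_assoc]⟩)
  haveI : Fact (Irreducible g) := ⟨hgi⟩
  haveI : FiniteDimensional F (AdjoinRoot g) :=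
    (AdjoinRoot.powerBasis hgi.ne_zero).finite
  haveI : Finite (AdjoinRoot g) := Module.finite_of_finite F
  haveI : Fintype (AdjoinRoot g) := Fintype.ofFinite _
  have hcard : Nat.card (AdjoinRoot g) = q ^ g.natDegree := by
    rw [Module.natCard_eq_pow_finrank (K := F), Nat.card_eq_fintype_card, hF,
      (AdjoinRoot.powerBasis hgi.ne_zero).finrank, AdjoinRoot.powerBasis_dim]
  have hθr : (AdjoinRoot.root g) ^ r = 1 := by
    rw [← AdjoinRoot.mk_X, ← map_pow, ← map_one (AdjoinRoot.mk g), AdjoinRoot.mk_eq_mk]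
    exact hgd.trans hμ
  have hθ1 : AdjoinRoot.root g ≠ 1 := by
    intro h
    apply hg1
    rw [← AdjoinRoot.mk_X, ← map_one (AdjoinRoot.mk g), AdjoinRoot.mk_eq_mk, ← C_1] at h
    exact eq_of_monic_of_associated hgm (monic_X_sub_C 1)
      (hgi.associated_of_dvd (irreducible_X_sub_C 1) h)
  have hdvd : n ∣ g.natDegree := by
    rw [← hi]
    apply orderOf_dvd_of_pow_eq_one
    let θ : (AdjoinRoot g)ˣ := Units.ofPowEqOne _ r hθr hr.ne_zero
    have hθ : orderOf θ = r := by
      refine orderOf_eq_prime (Units.ext ?_) ?_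
      · simpa [θ] using hθr
      · intro h; exact hθ1 (by simpa [θ] using congrArg Units.val h)
    have h2 := orderOf_dvd_natCard θ
    rw [hθ, Nat.card_units, hcard] at h2
    have h1 : 1 ≤ q ^ g.natDegree := Nat.one_le_pow _ _ (hF ▸ Fintype.card_pos)
    have h3 : ((q ^ g.natDegree - 1 : ℕ) : ZMod r) = 0 := (ZMod.natCast_eq_zero_iff _ r).2 (by
      simpa using h2) |> fun h => by simpa using h
    rw [Nat.cast_sub h1, sub_eq_zero] at h3
    simpa using h3
  have hle : g.natDegree ≤ n := by
    refine (natDegree_le_of_dvd hgd (minpoly.ne_zero hint)).trans ?_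
    refine (natDegree_le_of_dvd (Matrix.minpoly_dvd_charpoly _) (Matrix.charpoly_monic _).ne_zero).trans ?_
    rw [Matrix.charpoly_natDegree_eq_dim, Fintype.card_fin]
  have hdeg : g.natDegree = n :=
    le_antisymm hle (Nat.le_of_dvd hgi.natDegree_pos hdvd)
  have hgμ : minpoly F (x : Matrix (Fin n) (Fin n) F) = g := by
    refine eq_of_monic_of_dvd_of_natDegree_le hgm (minpoly.monic hint) hgd ?_
    rw [hdeg]
    refine (natDegree_le_of_dvd (Matrix.minpoly_dvd_charpoly _) (Matrix.charpoly_monic _).ne_zero).trans ?_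
    rw [Matrix.charpoly_natDegree_eq_dim, Fintype.card_fin]
  let ψ : AdjoinRoot g →ₐ[F] Matrix (Fin n) (Fin n) F :=
    Ideal.Quotient.liftₐ (Ideal.span {g}) (aeval (x : Matrix (Fin n) (Fin n) F)) (by
      intro P hP
      obtain ⟨w, rfl⟩ := Ideal.mem_span_singleton.1 hP
      rw [map_mul, ← hgμ, minpoly.aeval, zero_mul])
  have hψmk : ∀ P, ψ (AdjoinRoot.mk g P) = aeval (x : Matrix (Fin n) (Fin n) F) P := fun P => rfl
  let φ : (AdjoinRoot g)ˣ →* GL (Fin n) F := Units.map ψ.toRingHom.toMonoidHom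
  haveI : NeZero n := ⟨by omega⟩
  let E : AdjoinRoot g →ₗ[F] (Fin n → F) :=
    { toFun := fun l => ψ l *ᵥ Pi.single 0 1
      map_add' := fun a b => by rw [map_add, add_mulVec]
      map_smul' := fun a b => by rw [map_smul, smul_mulVec, RingHom.id_apply] }
  have hE : Function.Injective E := by
    rw [← LinearMap.ker_eq_bot, LinearMap.ker_eq_bot']
    intro l hl
    by_contra hl0
    have h2 : ψ l⁻¹ *ᵥ (ψ l *ᵥ Pi.single 0 1) = Pi.single 0 1 := by
      rw [mulVec_mulVec, ← map_mul, inv_mul_cancel₀ hl0, map_one, one_mulVec]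
    change ψ l *ᵥ Pi.single 0 1 = 0 at hl
    rw [hl, mulVec_zero] at h2
    simpa using congrFun h2 0
  have hEs : Function.Surjective E := by
    refine (LinearMap.injective_iff_surjective_of_finrank_eq_finrank ?_).1 hE
    rw [(AdjoinRoot.powerBasis hgi.ne_zero).finrank, AdjoinRoot.powerBasis_dim, hdeg]; simp
  have hφ : Function.Injective φ := by
    intro a b h
    exact Units.ext (RingHom.injective ψ.toRingHom (congrArg Units.val h))
  have hrange : φ.range = Subgroup.centralizer {x} := by
    apply le_antisymm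
    · rintro _ ⟨l, rfl⟩
      rw [Subgroup.mem_centralizer_singleton_iff]
      refine Units.ext ?_
      change ψ l * (x : Matrix (Fin n) (Fin n) F) = (x : Matrix (Fin n) (Fin n) F) * ψ l
      have e : (x : Matrix (Fin n) (Fin n) F) = ψ (AdjoinRoot.mk g X) := by rw [hψmk, aeval_X]
      rw [e, ← map_mul, ← map_mul, mul_comm]
    · intro y hy
      have hyA : Commute (y : Matrix (Fin n) (Fin n) F) x :=
        congrArg Units.val (Subgroup.mem_centralizer_singleton_iff.1 hy)
      have hcomm : ∀ l, Commute (y : Matrix (Fin n) (Fin n) F) (ψ l) := by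
        intro l
        obtain ⟨P, rfl⟩ := AdjoinRoot.mk_surjective l
        rw [hψmk]
        induction P using Polynomial.induction_on' with
        | add a b ha hb => rw [map_add]; exact ha.add_right hb
        | monomial k c =>
          rw [aeval_monomial, ← Algebra.smul_def]
          exact (hyA.pow_right k).smul_right c
      obtain ⟨l, hl⟩ := hEs ((y : Matrix (Fin n) (Fin n) F) *ᵥ Pi.single 0 1)
      change ψ l *ᵥ Pi.single 0 1 = _ at hl
      have hyl : (y : Matrix (Fin n) (Fin n) F) = ψ l := by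
        refine Matrix.ext_iff_mulVec.2 ?_
        intro v
        obtain ⟨a, rfl⟩ := hEs v
        change _ *ᵥ (ψ a *ᵥ _) = _ *ᵥ (ψ a *ᵥ _)
        rw [mulVec_mulVec, (hcomm a).eq, ← mulVec_mulVec, ← hl, mulVec_mulVec, mulVec_mulVec,
          ← map_mul, ← map_mul, mul_comm]
      have hl0 : l ≠ 0 := by
        rintro rfl
        rw [map_zero] at hyl
        exact y.ne_zero hyl
      exact ⟨Units.mk0 l hl0, Units.ext hyl.symm⟩
  let e := (MonoidHom.ofInjective hφ).trans (MulEquiv.subgroupCongr hrange)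
  refine ⟨MulEquiv.isCyclic e |>.1 inferInstance, ?_⟩
  rw [← Nat.card_congr e.toEquiv, Nat.card_units, hcard, hdeg]

end Cfsg.Agent.S2638
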