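import Cfsg.Statements.S2640
import Cfsg.Agent.Lib.UnitaryEmbed.Realify

set_option autoImplicit false
open Cfsg

namespace Cfsg.Agent.S2640

open CfsgLib.UnitaryEmbed


/-- For m even, the unitary group GU_m(q) (over the field with q² elements) embeds in the orthogonal group O⁺_2m(q) of the hyperbolic form Σ x_i y_i over the field with q elements (there is an injective homomorphism). -/
theorem result {K F : Type*} [Field K] [Fintype K] [Field F] [Fintype F] {q : ℕ} (hK : Fintype.card K = q ^ 2) (hF : Fintype.card F = q) (m : ℕ) (hm : Even m) : ∃ φ : ↥(Cfsg.GU m K q) →* ↥(Cfsg.isometryGroup F (Cfsg.quadFormPlus m F)), Function.Injective φ := by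
  classical
  obtain ⟨k, rfl⟩ := hm
  obtain ⟨ι, -⟩ := exists_ringHom hK hF
  obtain ⟨t, u, w, c, c', hpair⟩ := exists_pair_params hK hF ι
  refine exists_orth_hom hK hF ι (by simp only [Fintype.card_sum, Fintype.card_fin]; omega)
    (fun v j => Sum.elim
      (fun i : Fin k => pairFst ι t u w (v (.inl (finSumFinEquiv (.inl i))))
        (v (.inl (finSumFinEquiv (.inr i)))) (v (.inr (finSumFinEquiv (.inl i))))
        (v (.inr (finSumFinEquiv (.inr i)))))
      (fun i : Fin k => pairSnd ι t u w c c' (v (.inl (finSumFinEquiv (.inl i))))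
        (v (.inl (finSumFinEquiv (.inr i)))) (v (.inr (finSumFinEquiv (.inl i))))
        (v (.inr (finSumFinEquiv (.inr i))))) (finSumFinEquiv.symm j))
    (Cfsg.quadFormPlus (k + k) F) ?_ ?_ ?_ ?_
  · intro x y; funext j
    obtain ⟨s, rfl⟩ := finSumFinEquiv.surjective j
    rcases s with i | i <;>
      simp [pairFst, pairSnd, -finSumFinEquiv_apply_left, -finSumFinEquiv_apply_right] <;> ring
  · intro r x; funext j
    obtain ⟨s, rfl⟩ := finSumFinEquiv.surjective j
    rcases s with i | i <;>
      simp [pairFst, pairSnd, -finSumFinEquiv_apply_left, -finSumFinEquiv_apply_right] <;> ring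
  · intro v
    simp only [Cfsg.quadFormPlus, Cfsg.hermForm]
    rw [← finSumFinEquiv.sum_comp, ← finSumFinEquiv.sum_comp, Fintype.sum_sum_type,
      Fintype.sum_sum_type, ← Finset.sum_add_distrib, ← Finset.sum_add_distrib, map_sum]
    refine Finset.sum_congr rfl fun i _ => ?_
    simp only [Equiv.symm_apply_apply, Sum.elim_inl, Sum.elim_inr]
    exact (hpair _ _ _ _).symm
  · intro v hv
    funext s
    have h0 := hv 0
    simp [Cfsg.quadFormPlus] at h0
    rcases s with i | i
    · have h := hv (Pi.single (.inr i) 1)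
      simpa [Cfsg.quadFormPlus, mul_add, Finset.sum_add_distrib, h0, Pi.single_apply] using h
    · have h := hv (Pi.single (.inl i) 1)
      simpa [Cfsg.quadFormPlus, add_mul, Finset.sum_add_distrib, h0, Pi.single_apply] using h

end Cfsg.Agent.S2640
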