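import Cfsg.Statements.S2641
import Cfsg.Agent.Lib.UnitaryEmbed.Realify

set_option autoImplicit false
open Cfsg

namespace Cfsg.Agent.S2641

open CfsgLib.UnitaryEmbed

theorem aux {K F : Type*} [Field K] [Fintype K] [Field F] [Fintype F] {q : ℕ}
    (hK : Fintype.card K = q ^ 2) (hF : Fintype.card F = q) (k : ℕ) (a b : F)
    (hab : ∀ z₁ z₂ : F, z₁ ^ 2 + a * z₁ * z₂ + b * z₂ ^ 2 = 0 → z₁ = 0 ∧ z₂ = 0) :
    ∃ φ : ↥(Cfsg.GU (k + k + 1) K q) →* ↥(Cfsg.isometryGroup F (Cfsg.quadFormMinus (k + k) F a b)),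
      Function.Injective φ := by
  classical
  obtain ⟨ι, -⟩ := exists_ringHom hK hF
  obtain ⟨t, u, w, c, c', hpair⟩ := exists_pair_params hK hF ι
  obtain ⟨θ, -, hθa, hθb⟩ := exists_quadratic_root hK hF ι a b hab
  obtain ⟨τ, hτ⟩ := exists_frob hF ι
  refine exists_orth_hom hK hF ι (by simp only [Fintype.card_sum, Fintype.card_fin]; omega)
    (fun v => Fin.snoc (α := fun _ => K) (fun j => Sum.elim
      (fun i : Fin k => pairFst ι t u w (v (.inl (.inl (finSumFinEquiv (.inl i)))))
        (v (.inl (.inl (finSumFinEquiv (.inr i))))) (v (.inl (.inr (finSumFinEquiv (.inl i)))))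
        (v (.inl (.inr (finSumFinEquiv (.inr i))))))
      (fun i : Fin k => pairSnd ι t u w c c' (v (.inl (.inl (finSumFinEquiv (.inl i)))))
        (v (.inl (.inl (finSumFinEquiv (.inr i))))) (v (.inl (.inr (finSumFinEquiv (.inl i)))))
        (v (.inl (.inr (finSumFinEquiv (.inr i)))))) (finSumFinEquiv.symm j))
      (ι (v (.inr 0)) + θ * ι (v (.inr 1))))
    (Cfsg.quadFormMinus (k + k) F a b) ?_ ?_ ?_ ?_
  · intro x y; funext j
    refine Fin.lastCases ?_ (fun j => ?_) j
    · simp; ring
    · obtain ⟨s, rfl⟩ := finSumFinEquiv.surjective j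
      simp only [Pi.add_apply, Fin.snoc_castSucc, Equiv.symm_apply_apply]
      rcases s with i | i <;> simp only [Sum.elim_inl, Sum.elim_inr, pairFst, pairSnd, map_add] <;>
        ring
  · intro r x; funext j
    refine Fin.lastCases ?_ (fun j => ?_) j
    · simp; ring
    · obtain ⟨s, rfl⟩ := finSumFinEquiv.surjective j
      simp only [Pi.smul_apply, smul_eq_mul, Fin.snoc_castSucc, Equiv.symm_apply_apply]
      rcases s with i | i <;> simp only [Sum.elim_inl, Sum.elim_inr, pairFst, pairSnd, map_mul] <;>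
        ring
  · intro v
    simp only [Cfsg.quadFormMinus, Cfsg.hermForm, Fin.sum_univ_castSucc, Fin.snoc_castSucc,
      Fin.snoc_last, map_add]
    congr 1
    · rw [← finSumFinEquiv.sum_comp, ← finSumFinEquiv.sum_comp, Fintype.sum_sum_type,
        Fintype.sum_sum_type, ← Finset.sum_add_distrib, ← Finset.sum_add_distrib, map_sum]
      refine Finset.sum_congr rfl fun i _ => ?_
      simp only [Equiv.symm_apply_apply, Sum.elim_inl, Sum.elim_inr]
      exact (hpair _ _ _ _).symm
    · simp only [← hτ, map_add, map_mul, map_pow]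
      simp only [hτ, iota_pow hF, ← hθa, ← hθb]
      ring
  · intro v hv
    have h0 := hv 0
    simp [Cfsg.quadFormMinus] at h0
    have hi : ∀ s, v (.inl s) = 0 := by
      intro s
      rcases s with i | i
      · have h := hv (Pi.single (.inl (.inr i)) 1)
        simp [Cfsg.quadFormMinus, mul_add, Finset.sum_add_distrib, Pi.single_apply] at h
        linear_combination h - h0
      · have h := hv (Pi.single (.inl (.inl i)) 1)
        simp [Cfsg.quadFormMinus, add_mul, Finset.sum_add_distrib, Pi.single_apply] at h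
        linear_combination h - h0
    simp [hi] at h0
    obtain ⟨h1, h2⟩ := hab _ _ h0
    funext s
    rcases s with s | s
    · exact hi s
    · fin_cases s <;> assumption


/-- For m odd, the unitary group GU_m(q) (over the field with q² elements) embeds in the orthogonal group O⁻_2m(q) of an elliptic form (Σ_(i<m−1) x_i y_i plus an anisotropic binary form) over the field with q elements (there is an injective homomorphism). -/
theorem result {K F : Type*} [Field K] [Fintype K] [Field F] [Fintype F] {q : ℕ} (hK : Fintype.card K = q ^ 2) (hF : Fintype.card F = q) (m : ℕ) (hm : Odd m) (a b : F) (hab : ∀ z₁ z₂ : F, z₁ ^ 2 + a * z₁ * z₂ + b * z₂ ^ 2 = 0 → z₁ = 0 ∧ z₂ = 0) : ∃ φ : ↥(Cfsg.GU m K q) →* ↥(Cfsg.isometryGroup F (Cfsg.quadFormMinus (m - 1) F a b)), Function.Injective φ := by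
  obtain ⟨k, rfl⟩ : ∃ k, m = k + k + 1 := by
    obtain ⟨k, hk⟩ := hm
    exact ⟨k, by omega⟩
  exact aux hK hF k a b hab

end Cfsg.Agent.S2641
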