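import Cfsg.Statements.S2642
import Cfsg.Agent.Lib.UnitaryUnip.SelfAdjoint
import Cfsg.Agent.S2570
-- import your own Cfsg.Agent.* helpers here

set_option autoImplicit false
open Cfsg

namespace Cfsg.Agent.S2642

/-- Number of conjugacy classes of elements of order p in the general unitary group GU_n(q), q a power of p: every unipotent Jordan type occurs and the classes correspond to the partitions of n with all parts at most p other than the all-ones partition, exactly as in GL_n; so there are (number of partitions of n with parts ≤ p) − 1 classes. -/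
theorem result {K : Type*} [Field K] [Fintype K] {p q n : ℕ} [Fact p.Prime] [CharP K p] (hK : Fintype.card K = q ^ 2) : Nat.card {C : ConjClasses ↥(Cfsg.GU n K q) // ∃ g : ↥(Cfsg.GU n K q), ConjClasses.mk g = C ∧ orderOf g = p} = (Finset.univ.filter (fun μ : Nat.Partition n => ∀ a ∈ μ.parts, a ≤ p)).card - 1 := by
  classical
  have hp : p.Prime := Fact.out
  let G := GL (Fin n) K
  have hnil : ∀ g : GL (Fin n) K, orderOf g = p → IsNilpotent ((g : Matrix (Fin n) (Fin n) K) - 1) := by
    intro g hg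
    rcases Nat.eq_zero_or_pos n with h0 | h0
    · subst h0
      exact ⟨1, Subsingleton.elim _ _⟩
    haveI : NeZero n := ⟨h0.ne'⟩
    haveI : CharP (Matrix (Fin n) (Fin n) K) p := charP_of_injective_algebraMap (algebraMap K _).injective p
    refine ⟨p, ?_⟩
    rw [sub_pow_char_of_commute p (Commute.one_right _), one_pow, ← Units.val_pow_eq_pow_val,
      orderOf_dvd_iff_pow_eq_one.1 (dvd_of_eq hg), Units.val_one, sub_self]
  rw [← Cfsg.Agent.S2570.result (F := K) (p := p) n]
  let f : {C : ConjClasses ↥(Cfsg.GU n K q) // ∃ g : ↥(Cfsg.GU n K q), ConjClasses.mk g = C ∧ orderOf g = p} →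
      {C : ConjClasses (GL (Fin n) K) // ∃ g : GL (Fin n) K, ConjClasses.mk g = C ∧ orderOf g = p} :=
    fun C => ⟨ConjClasses.map (Cfsg.GU n K q).subtype C.1, by
      obtain ⟨g, hg, hg'⟩ := C.2
      exact ⟨g, by rw [← hg]; rfl, by rw [Subgroup.orderOf_coe, hg']⟩⟩
  refine Nat.card_eq_of_bijective f ⟨fun C D h => ?_, fun D => ?_⟩
  · obtain ⟨C, x, rfl, hx⟩ := C
    obtain ⟨D, y, rfl, hy⟩ := D
    exact Subtype.ext (ConjClasses.mk_eq_mk_iff_isConj.2 (CfsgLib.IsomConj.GU_isConj_of_similar hK x y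
      (ConjClasses.mk_eq_mk_iff_isConj.1 (congrArg Subtype.val h))))
  · obtain ⟨D, g, rfl, hg⟩ := D
    obtain ⟨x, hx⟩ := CfsgLib.UnitaryUnip.exists_GU_isConj hK g (hnil g hg)
    obtain ⟨k, hk⟩ := isConj_iff.1 hx
    refine ⟨⟨ConjClasses.mk x, x, rfl, ?_⟩, Subtype.ext (ConjClasses.mk_eq_mk_iff_isConj.2 hx)⟩
    rw [← Subgroup.orderOf_coe, ← hg, ← hk, ← MulAut.conj_apply, MulEquiv.orderOf_eq]

end Cfsg.Agent.S2642
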