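import Cfsg.Statements.S2643
import Cfsg.Agent.Lib.UnitaryUnip.Regular
import Cfsg.Agent.Lib.PrimeClasses.Projective
-- import your own Cfsg.Agent.* helpers here

set_option autoImplicit false
open Cfsg

namespace Cfsg.Agent.S2643

set_option maxHeartbeats 1000000 in
/-- Regular unipotent classes of SU_n(q), n ≥ 2: the elements u of the special unitary group (isometries of Σ u_i v_i^q of determinant one over the field with q² elements) with (u − 1)^n = 0 and rank(u − 1) = n − 1 form exactly gcd(n, q + 1) conjugacy classes of SU_n(q). -/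
theorem result {K : Type*} [Field K] [Fintype K] {q n : ℕ} (hK : Fintype.card K = q ^ 2) (hn : 2 ≤ n) : Nat.card {C : ConjClasses ↥(Cfsg.SU n K q) // ∃ u : ↥(Cfsg.SU n K q), ConjClasses.mk u = C ∧ (((u : GL (Fin n) K) : Matrix (Fin n) (Fin n) K) - 1) ^ n = 0 ∧ (((u : GL (Fin n) K) : Matrix (Fin n) (Fin n) K) - 1).rank = n - 1} = Nat.gcd n (q + 1) := by
  classical
  obtain ⟨p, hp⟩ := CharP.exists K
  obtain ⟨f, hp', -⟩ := FiniteField.card K p
  have : Fact p.Prime := ⟨hp'⟩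
  have hn1 : 1 ≤ n := by omega
  obtain ⟨τ, hτq, -, -⟩ := CfsgLib.UnitaryEmbed.exists_conj hK
  let μ : Subgroup Kˣ := (powMonoidHom (q + 1) : Kˣ →* Kˣ).ker
  let detμ : ↥(Cfsg.GU n K q) →* μ :=
    (Matrix.GeneralLinearGroup.det.comp (Cfsg.GU n K q).subtype).codRestrict μ fun g =>
      Units.ext (by
        rw [powMonoidHom_apply, Units.val_pow_eq_pow_val, Units.val_one]
        exact CfsgLib.UnitaryEmbed.gu_det_norm τ hτq g)
  let P : ↥(Cfsg.GU n K q) → Prop := fun g =>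
    ((((g : GL (Fin n) K) : Matrix (Fin n) (Fin n) K) - 1) ^ n = 0) ∧
      ((((g : GL (Fin n) K) : Matrix (Fin n) (Fin n) K) - 1).rank = n - 1)
  obtain ⟨g₀, hg₀, hg₀p⟩ := Jordan57.exists_unip_of_parts (F := K) (n := n) {n} (Multiset.sum_singleton n)
  obtain ⟨x₀, hx₀⟩ := CfsgLib.UnitaryUnip.exists_GU_isConj hK g₀ (by
    obtain ⟨j, hj⟩ := hg₀
    refine ⟨j, Matrix.toLin'.injective ?_⟩
    rw [Matrix.toLin'_apply', ← Jordan57.nilPart_pow, hj, map_zero])
  have hx₀P : P x₀ := by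
    obtain ⟨c, hc⟩ := isConj_iff.1 hx₀.symm
    have hk : ∀ j, ((((x₀ : GL (Fin n) K) : Matrix (Fin n) (Fin n) K) - 1) ^ j).rank = n - j := fun j => by
      have := Jordan57.nilPart_conj g₀ c j
      rw [hc, hg₀p, Jordan57.nilPart_pow] at this
      exact this.trans (by simp [CfsgLib.RankProfile.partProfile])
    refine ⟨?_, by simpa using hk 1⟩
    have h := hk n
    rw [Nat.sub_self, Matrix.rank] at h
    have h' := LinearMap.range_eq_bot.1 (Submodule.finrank_eq_zero.1 h)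
    exact Matrix.toLin'.injective (by rw [Matrix.toLin'_apply', h', map_zero])
  have hsim : ∀ g, P g → ∃ h : ↥(Cfsg.GU n K q), h * x₀ * h⁻¹ = g := fun g hg => by
    obtain ⟨c, hc⟩ := CfsgLib.UnitaryUnip.regular_similar hn1 hx₀P.1 hx₀P.2 hg.1 hg.2
    refine isConj_iff.1 (CfsgLib.IsomConj.GU_isConj_of_similar hK x₀ g (isConj_iff.2 ⟨c, ?_⟩))
    refine mul_inv_eq_iff_eq_mul.2 (Units.ext ?_)
    rw [mul_sub, sub_mul, mul_one, one_mul, sub_left_inj] at hc
    exact hc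
  let tr : ↥(Cfsg.GU n K q) → μ ⧸ (powMonoidHom n : μ →* μ).range := fun g => QuotientGroup.mk (detμ g)
  have hcent : ∀ k : ↥(Cfsg.GU n K q), k * x₀ * k⁻¹ = x₀ → tr k = 1 := fun k hk => by
    rw [mul_inv_eq_iff_eq_mul] at hk
    have hk' : Commute ((k : GL (Fin n) K) : Matrix (Fin n) (Fin n) K)
        (((x₀ : GL (Fin n) K) : Matrix (Fin n) (Fin n) K) - 1) :=
      (show Commute _ _ from congrArg (fun z : ↥(Cfsg.GU n K q) =>
        ((z : GL (Fin n) K) : Matrix (Fin n) (Fin n) K)) hk).sub_right (Commute.one_right _)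
    obtain ⟨c, s, hs, hdet⟩ := CfsgLib.UnitaryUnip.exists_of_commute_regular (p := p) hn1 hx₀P.1 hx₀P.2 hk'
    have hc : c ^ (q + 1) = 1 := by
      have h := (k ^ p ^ s).2 (Pi.single ⟨0, hn1⟩ 1) (Pi.single ⟨0, hn1⟩ 1)
      rw [SubgroupClass.coe_pow, map_pow,
        show (Units.coeHom (Matrix (Fin n) (Fin n) K)) (k : GL (Fin n) K) =
          ((k : GL (Fin n) K) : Matrix (Fin n) (Fin n) K) from rfl, hs, Matrix.smul_mulVec,
        Matrix.one_mulVec] at h
      have hq : q ≠ 0 := (Nat.zero_lt_of_lt (CfsgLib.UnitaryEmbed.q_gt_one hK)).ne'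
      simp [Cfsg.hermForm, Pi.single_apply, ite_pow, zero_pow hq] at h
      rw [← pow_succ', ← pow_mul, mul_comm, pow_mul] at h
      have h3 : (c ^ (q + 1) - 1) ^ p ^ s = 0 := by rw [sub_pow_char_pow, h, one_pow, sub_self]
      exact sub_eq_zero.1 (eq_zero_of_pow_eq_zero h3)
    have hc0 : c ≠ 0 := fun h => by rw [h, zero_pow (by omega)] at hc; exact zero_ne_one hc
    refine (QuotientGroup.eq_one_iff _).2 ⟨⟨Units.mk0 c hc0, Units.ext (by simpa using hc)⟩,
      Subtype.ext (Units.ext ?_)⟩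
    show c ^ n = ((k : GL (Fin n) K) : Matrix (Fin n) (Fin n) K).det
    rw [hdet]
  let toG : ↥(Cfsg.SU n K q) → ↥(Cfsg.GU n K q) := fun u =>
    ⟨Matrix.SpecialLinearGroup.toGL (u : Matrix.SpecialLinearGroup (Fin n) K), fun a b => u.2 a b⟩
  let ofG : (g : ↥(Cfsg.GU n K q)) → ((g : GL (Fin n) K) : Matrix (Fin n) (Fin n) K).det = 1 →
      ↥(Cfsg.SU n K q) := fun g h =>
    ⟨⟨((g : GL (Fin n) K) : Matrix (Fin n) (Fin n) K), h⟩, fun a b => g.2 a b⟩
  have hto : ∀ g h, toG (ofG g h) = g := fun g h => Subtype.ext (Units.ext rfl)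
  have hinj : Function.Injective toG := fun a b h =>
    Subtype.ext (Subtype.ext (congrArg (fun z : ↥(Cfsg.GU n K q) =>
      ((z : GL (Fin n) K) : Matrix (Fin n) (Fin n) K)) h))
  have htomul : ∀ a b, toG (a * b) = toG a * toG b := fun a b => Subtype.ext (Units.ext rfl)
  let toGh : ↥(Cfsg.SU n K q) →* ↥(Cfsg.GU n K q) := MonoidHom.mk' toG htomul
  let inv : ↥(Cfsg.SU n K q) → μ ⧸ (powMonoidHom n : μ →* μ).range := fun u =>
    if h : ∃ g, g * x₀ * g⁻¹ = toG u then tr h.choose else 1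
  have hinv : ∀ u g, g * x₀ * g⁻¹ = toG u → inv u = tr g := fun u g hg => by
    have h : ∃ g, g * x₀ * g⁻¹ = toG u := ⟨g, hg⟩
    simp only [inv, dif_pos h]
    have h2 := hcent (g⁻¹ * h.choose) (by
      calc g⁻¹ * h.choose * x₀ * (g⁻¹ * h.choose)⁻¹ = g⁻¹ * (h.choose * x₀ * h.choose⁻¹) * g := by
            simp [mul_assoc]
        _ = _ := by rw [h.choose_spec, ← hg]; simp [mul_assoc])
    simp only [tr, map_mul, map_inv, QuotientGroup.mk_mul, QuotientGroup.mk_inv, inv_mul_eq_one] at h2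
    exact h2.symm
  rw [CfsgLib.PrimeClasses.card_classes (fun u : ↥(Cfsg.SU n K q) => P (toG u)) inv (fun _ => True)
    ?_ ?_ (fun _ _ => trivial) ?_]
  · rw [Nat.card_congr (Equiv.subtypeUnivEquiv fun _ => trivial), ← Subgroup.index_eq_card,
      IsCyclic.index_powMonoidHom_range, IsCyclic.card_powMonoidHom_ker, Nat.card_units,
      Nat.card_eq_fintype_card, hK,
      Nat.gcd_eq_right (show q + 1 ∣ q ^ 2 - 1 from ⟨q - 1, by simp [← Nat.sq_sub_sq]⟩), Nat.gcd_comm]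
  · intro u v hu huv
    obtain ⟨s, rfl⟩ := isConj_iff.1 huv
    obtain ⟨g, hg⟩ := hsim _ hu
    have hs1 : detμ (toG s) = 1 :=
      Subtype.ext (Units.ext (s : Matrix.SpecialLinearGroup (Fin n) K).2)
    rw [hinv u g hg, hinv _ (toG s * g) (by
      show _ = toGh (s * u * s⁻¹)
      rw [map_mul, map_mul, map_inv, show toGh u = toG u from rfl, ← hg]
      simp [toGh, mul_assoc])]
    simp only [tr, map_mul, hs1, one_mul]
  · intro u v hu hv h
    obtain ⟨g, hg⟩ := hsim _ hu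
    obtain ⟨k, hk⟩ := hsim _ hv
    rw [hinv u g hg, hinv v k hk] at h
    obtain ⟨d, hd⟩ := QuotientGroup.eq.1 h
    have hd' : (d : Kˣ) ^ n = ((detμ g : μ) : Kˣ)⁻¹ * (detμ k : μ) := congrArg Subtype.val hd
    have hsmem : CfsgLib.PrimeClasses.scGL ((d : Kˣ)⁻¹) ∈ Cfsg.GU n K q := fun a b => by
      have h1 : (((d : Kˣ)⁻¹ : Kˣ) : K) ^ (q + 1) = 1 := by
        rw [← Units.val_pow_eq_pow_val, inv_pow, show (d : Kˣ) ^ (q + 1) = 1 from d.2, inv_one, Units.val_one]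
      rw [show (Units.coeHom (Matrix (Fin n) (Fin n) K)) (CfsgLib.PrimeClasses.scGL ((d : Kˣ)⁻¹)) =
          (((d : Kˣ)⁻¹ : Kˣ) : K) • 1 from CfsgLib.PrimeClasses.coe_scGL _, Matrix.smul_mulVec,
        Matrix.smul_mulVec, Matrix.one_mulVec, Matrix.one_mulVec]
      unfold Cfsg.hermForm
      refine Finset.sum_congr rfl fun i _ => ?_
      simp only [Pi.smul_apply, smul_eq_mul, mul_pow]
      linear_combination a i * b i ^ q * h1
    let S : ↥(Cfsg.GU n K q) := k * ⟨_, hsmem⟩ * g⁻¹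
    have hdetU : ∀ z : ↥(Cfsg.GU n K q),
        ((detμ z : μ) : Kˣ) = Matrix.GeneralLinearGroup.det (z : GL (Fin n) K) := fun z => rfl
    have hsdet : ((detμ S : μ) : Kˣ) = 1 := by
      have hsc : ((detμ ⟨_, hsmem⟩ : μ) : Kˣ) = ((d : Kˣ)⁻¹) ^ n := Units.ext (by
        rw [hdetU]
        show ((CfsgLib.PrimeClasses.scGL ((d : Kˣ)⁻¹) : GL (Fin n) K) : Matrix (Fin n) (Fin n) K).det = _
        rw [CfsgLib.PrimeClasses.coe_scGL, Matrix.det_smul, Matrix.det_one, mul_one, Fintype.card_fin,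
          Units.val_pow_eq_pow_val])
      rw [show S = k * ⟨_, hsmem⟩ * g⁻¹ from rfl, map_mul detμ, map_mul detμ, map_inv detμ, Subgroup.coe_mul,
        Subgroup.coe_mul, Subgroup.coe_inv, hsc, inv_pow, hd', _root_.mul_inv_rev, inv_inv,
        mul_inv_cancel_left, mul_inv_cancel]
    refine isConj_iff.2 ⟨ofG S (congrArg Units.val hsdet), hinj ?_⟩
    show toGh _ = _
    rw [map_mul, map_mul, map_inv, show toGh u = toG u from rfl,
      show toGh (ofG S (congrArg Units.val hsdet)) = S from hto _ _, ← hg, ← hk]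
    have hc : ∀ w : ↥(Cfsg.GU n K q), (⟨_, hsmem⟩ : ↥(Cfsg.GU n K q)) * w = w * ⟨_, hsmem⟩ := fun w =>
      Subtype.ext (CfsgLib.PrimeClasses.scGL_comm _ _)
    simp only [S, _root_.mul_inv_rev, inv_inv, mul_assoc, inv_mul_cancel_left]
    rw [← mul_assoc (⟨_, hsmem⟩ : ↥(Cfsg.GU n K q)) x₀, hc x₀, mul_assoc, mul_inv_cancel_left]
  · intro b _
    obtain ⟨c, rfl⟩ := QuotientGroup.mk_surjective b
    obtain ⟨g, hg, -⟩ := CfsgLib.UnitaryEmbed.exists_quasiReflection hK (Pi.single ⟨0, hn1⟩ 1)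
      (by
        have hq : q ≠ 0 := (Nat.zero_lt_of_lt (CfsgLib.UnitaryEmbed.q_gt_one hK)).ne'
        simp [Cfsg.hermForm, Pi.single_apply, ite_pow, zero_pow hq])
      ((c : Kˣ) : K) (by rw [← Units.val_pow_eq_pow_val, show (c : Kˣ) ^ (q + 1) = 1 from c.2, Units.val_one])
    have hPg : P (g * x₀ * g⁻¹) := by
      have e : (((g * x₀ * g⁻¹ : ↥(Cfsg.GU n K q)) : GL (Fin n) K) : Matrix (Fin n) (Fin n) K) - 1 =
          ((g : GL (Fin n) K) : Matrix (Fin n) (Fin n) K) *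
            (((x₀ : GL (Fin n) K) : Matrix (Fin n) (Fin n) K) - 1) *
            (((g : GL (Fin n) K)⁻¹ : GL (Fin n) K) : Matrix (Fin n) (Fin n) K) := by
        simp [mul_sub, sub_mul]
      refine ⟨?_, ?_⟩
      · rw [e, Units.conj_pow, hx₀P.1, Matrix.mul_zero, Matrix.zero_mul]
      · rw [e, Matrix.rank_mul_eq_left_of_isUnit_det _ _ ((Matrix.isUnit_iff_isUnit_det _).1 ((g : GL (Fin n) K)⁻¹).isUnit),
          Matrix.rank_mul_eq_right_of_isUnit_det _ _ ((Matrix.isUnit_iff_isUnit_det _).1 (g : GL (Fin n) K).isUnit)]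
        exact hx₀P.2
    have hdet1 : (((g * x₀ * g⁻¹ : ↥(Cfsg.GU n K q)) : GL (Fin n) K) : Matrix (Fin n) (Fin n) K).det = 1 :=
      CfsgLib.UnitaryUnip.det_eq_one_of_unipotent (p := p) ⟨n, hPg.1⟩
    refine ⟨ofG _ hdet1, by rw [hto]; exact hPg, ?_⟩
    rw [hinv _ g (hto _ _).symm]
    show QuotientGroup.mk (detμ g) = QuotientGroup.mk c
    exact congrArg _ (Subtype.ext (Units.ext hg))

end Cfsg.Agent.S2643
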