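import Cfsg.Statements.S2644
import Cfsg.Agent.Lib.UnitaryEmbed.Herm

set_option autoImplicit false
open Cfsg

namespace Cfsg.Agent.S2644

open CfsgLib.UnitaryEmbed Matrix

theorem transvection_data {K : Type*} [Field K] {n q : ℕ} (τ : K →+* K) (hτ : ∀ x, τ x = x ^ q)
    (hτne : τ ≠ RingHom.id K) (hτ2 : ∀ x, τ (τ x) = x) (T : Matrix (Fin n) (Fin n) K)
    (hT : ∀ x y, hermSesq n τ (T *ᵥ x) (T *ᵥ y) = hermSesq n τ x y) (hs : Cfsg.IsTransvection T) :
    ∃ (c : K) (v : Fin n → K), c ≠ 0 ∧ v ≠ 0 ∧ τ c = -c ∧ hermSesq n τ v v = 0 ∧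
      ∀ x, T *ᵥ x = x + (c * hermSesq n τ v x) • v := by
  obtain ⟨h1, h2⟩ := hs
  obtain ⟨v, hv, hspan⟩ := finrank_eq_one_iff'.1 h1
  have hphi : ∀ x, ∃ a : K, (T - 1) *ᵥ x = a • (v : Fin n → K) := fun x => by
    obtain ⟨a, ha⟩ := hspan ⟨(T - 1) *ᵥ x, ⟨x, rfl⟩⟩
    exact ⟨a, (congrArg Subtype.val ha).symm⟩
  have hv0 : (v : Fin n → K) ≠ 0 := fun h => hv (Subtype.ext h)
  choose φ hφ using hphi
  have hφv : φ v = 0 := by
    obtain ⟨x, hx⟩ := v.2
    rw [mulVecLin_apply] at hx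
    have h0 : (T - 1) *ᵥ (v : Fin n → K) = 0 := by rw [← hx, mulVec_mulVec, h2, zero_mulVec]
    have := hφ v
    rw [h0, eq_comm, smul_eq_zero] at this
    exact this.resolve_right hv0
  have hTx : ∀ x, T *ᵥ x = x + φ x • (v : Fin n → K) := fun x => by
    rw [← hφ, sub_mulVec, one_mulVec]; abel
  have key : ∀ x y, φ y * hermSesq n τ x v + τ (φ x) * hermSesq n τ v y +
      τ (φ x) * φ y * hermSesq n τ v v = 0 := by
    intro x y
    have h := hT x y
    rw [hTx, hTx] at h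
    simp only [map_add, map_smulₛₗ, LinearMap.add_apply, LinearMap.smul_apply, smul_eq_mul,
      RingHom.id_apply] at h
    linear_combination h
  obtain ⟨y₀, hy₀⟩ : ∃ y₀, hermSesq n τ (v : Fin n → K) y₀ = 1 := by
    by_contra hc
    push Not at hc
    refine hv0 (hermSesq_separatingLeft τ _ fun y => ?_)
    by_contra h
    exact hc ((hermSesq n τ (v : Fin n → K) y)⁻¹ • y) (by rw [map_smul, smul_eq_mul, inv_mul_cancel₀ h])
  have hvv : hermSesq n τ (v : Fin n → K) v = 0 := by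
    by_contra hvv
    have hzero : ∀ y, φ y = 0 := fun y => by
      have h := key v y
      rw [hφv, map_zero] at h
      simpa [hvv] using h
    apply hv
    obtain ⟨x, hx⟩ := v.2
    apply Subtype.ext
    rw [← hx, mulVecLin_apply, hφ, hzero, zero_smul]; rfl
  have hy₀' : hermSesq n τ y₀ (v : Fin n → K) = 1 := by
    rw [← hermSesq_symm τ hτ2, hy₀, map_one]
  have hφy : ∀ y, φ y = -τ (φ y₀) * hermSesq n τ v y := fun y => by
    have h := key y₀ y
    rw [hvv, hy₀'] at h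
    linear_combination h
  have hc0 : φ y₀ = -τ (φ y₀) := by simpa [hy₀] using hφy y₀
  refine ⟨φ y₀, v, ?_, hv0, by linear_combination hc0, hvv, fun x => by rw [hTx, hφy x, ← hc0]⟩
  intro h0
  apply hv
  obtain ⟨x, hx⟩ := v.2
  apply Subtype.ext
  rw [← hx, mulVecLin_apply, hφ, hφy, h0, map_zero]; simp

theorem exists_anisotropic {K : Type*} [Field K] {n : ℕ} (hn : 3 ≤ n) (τ : K →+* K)
    (hτne : τ ≠ RingHom.id K) (hτ2 : ∀ x, τ (τ x) = x) (v : Fin n → K) (hv : v ≠ 0) :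
    ∃ u, hermSesq n τ u u ≠ 0 ∧ hermSesq n τ u v = 0 := by
  by_contra hcon
  push Not at hcon
  have hS := hermSesq_symm (n := n) τ hτ2
  set W := LinearMap.ker (hermSesq n τ v) with hW
  have hmem : ∀ x, x ∈ W ↔ hermSesq n τ v x = 0 := fun x => Iff.rfl
  have hiso : ∀ x ∈ W, hermSesq n τ x x = 0 := fun x hx => by
    by_contra h
    exact hcon x h (by rw [← hS, (hmem x).1 hx, map_zero])
  obtain ⟨l, hl⟩ : ∃ l, τ l ≠ l := by
    by_contra h
    push Not at h
    exact hτne (RingHom.ext h)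
  have hperp : ∀ x ∈ W, ∀ y ∈ W, hermSesq n τ x y = 0 := by
    intro x hx y hy
    have h1 := hiso _ (W.add_mem hx hy)
    have h2 := hiso _ (W.add_mem (W.smul_mem l hx) hy)
    simp only [map_add, map_smulₛₗ, LinearMap.add_apply, LinearMap.smul_apply, smul_eq_mul,
      RingHom.id_apply, hiso x hx, hiso y hy] at h1 h2
    have h3 : (τ l - l) * hermSesq n τ x y = 0 := by linear_combination h2 - l * h1
    exact (mul_eq_zero.1 h3).resolve_left (sub_ne_zero.2 hl)
  have hWv : W ≤ K ∙ v := by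
    intro x hx
    have hspan : hermSesq n τ x ∈ Submodule.span K (Set.range fun _ : Unit => hermSesq n τ v) := by
      refine mem_span_of_iInf_ker_le_ker fun y hy => ?_
      rw [Submodule.mem_iInf] at hy
      exact hperp x hx y (hy ())
    rw [Set.range_const, Submodule.mem_span_singleton] at hspan
    obtain ⟨b, hb⟩ := hspan
    rw [Submodule.mem_span_singleton]
    refine ⟨τ b, (sub_eq_zero.1 (hermSesq_separatingLeft τ _ fun y => ?_)).symm⟩
    rw [map_sub, map_smulₛₗ, hτ2, hb, sub_self]; rfl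
  have h1 := Submodule.finrank_mono hWv
  rw [finrank_span_singleton hv] at h1
  have h2 := LinearMap.finrank_range_add_finrank_ker (hermSesq n τ v)
  have h3 := Submodule.finrank_le (LinearMap.range (hermSesq n τ v))
  rw [Module.finrank_self] at h3
  rw [Module.finrank_fintype_fun_eq_card, Fintype.card_fin, ← hW] at h2
  omega


/-- In the special unitary group SU_n(q) with n ≥ 3 (isometries of Σ u_i v_i^q of determinant one over the field with q² elements), any two transvections (elements t with t − 1 of rank one and square zero) are conjugate. -/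
theorem result {K : Type*} [Field K] [Fintype K] {q n : ℕ} (hK : Fintype.card K = q ^ 2) (hn : 3 ≤ n) (s t : ↥(Cfsg.SU n K q)) (hs : Cfsg.IsTransvection (((s : GL (Fin n) K) : Matrix (Fin n) (Fin n) K))) (ht : Cfsg.IsTransvection (((t : GL (Fin n) K) : Matrix (Fin n) (Fin n) K))) : IsConj s t := by
  classical
  obtain ⟨τ, hτ, hτne, hτ2⟩ := exists_conj hK
  have hdat : ∀ s : ↥(Cfsg.SU n K q), Cfsg.IsTransvection (((s : GL (Fin n) K) : Matrix (Fin n) (Fin n) K)) →
      ∃ (c : K) (v : Fin n → K), c ≠ 0 ∧ v ≠ 0 ∧ τ c = -c ∧ hermSesq n τ v v = 0 ∧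
        ∀ x, ((s : GL (Fin n) K) : Matrix (Fin n) (Fin n) K) *ᵥ x =
          x + (c * hermSesq n τ v x) • v := by
    intro s hs
    refine transvection_data τ hτ hτne hτ2 _ ?_ hs
    intro x y
    rw [hermSesq_apply τ hτ, hermSesq_apply τ hτ]
    exact s.2 y x
  obtain ⟨c, v, hc, hv, hτc, hvv, hsx⟩ := hdat s hs
  obtain ⟨d, w, hd, hw, hτd, hww, htx⟩ := hdat t ht
  -- rescale `w` so that the two parameters agree
  obtain ⟨l, hl⟩ := exists_norm hK (d / c) (by
    rw [← hτ, map_div₀, hτd, hτc, neg_div_neg_eq])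
  have hl0 : l ≠ 0 := by
    rintro rfl
    rw [zero_pow (by omega)] at hl
    exact div_ne_zero hd hc hl.symm
  have hS : ∀ a b, τ (hermSesq n τ a b) = hermSesq n τ b a := hermSesq_symm τ hτ2
  have hww' : hermSesq n τ (l • w) (l • w) = 0 := by simp [map_smulₛₗ, hww]
  obtain ⟨g₀, hg₀, hg₀v⟩ := CfsgLib.Forms.herm_witt_family (hermSesq n τ) hτne hτ2 hS
    (hermSesq_separatingLeft τ) (fun _ : Fin 1 => v) (fun _ : Fin 1 => l • w)
    (linearIndependent_unique_iff.2 hv) (linearIndependent_unique_iff.2 (smul_ne_zero hl0 hw))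
    (fun _ _ => by rw [hvv, hww'])
  have hg₀' : ∀ a b, Cfsg.hermForm n K q (g₀ a) (g₀ b) = Cfsg.hermForm n K q a b := fun a b => by
    rw [← hermSesq_apply τ hτ, ← hermSesq_apply τ hτ, hg₀]
  let G₀ := toGU g₀ hg₀'
  obtain ⟨u, hu, huv⟩ := exists_anisotropic hn τ hτne hτ2 (l • w) (smul_ne_zero hl0 hw)
  rw [hermSesq_apply τ hτ] at hu
  set δ := ((G₀ : GL (Fin n) K) : Matrix (Fin n) (Fin n) K).det with hδ
  have hδ1 : δ ^ (q + 1) = 1 := gu_det_norm τ hτ G₀
  obtain ⟨R, hRdet, hRfix⟩ := exists_quasiReflection hK u hu δ⁻¹ (by rw [inv_pow, hδ1, inv_one])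
  let g : ↥(Cfsg.GU n K q) := R * G₀
  set M := ((g : GL (Fin n) K) : Matrix (Fin n) (Fin n) K) with hMdef
  have hMdet : M.det = 1 := by
    have : M = ((R : GL (Fin n) K) : Matrix (Fin n) (Fin n) K) *
        ((G₀ : GL (Fin n) K) : Matrix (Fin n) (Fin n) K) := rfl
    rw [this, det_mul, hRdet, ← hδ, inv_mul_cancel₀]
    intro h0; rw [h0, zero_pow (by omega)] at hδ1; exact zero_ne_one hδ1
  have hMv : M *ᵥ v = l • w := by
    have : M = ((R : GL (Fin n) K) : Matrix (Fin n) (Fin n) K) *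
        ((G₀ : GL (Fin n) K) : Matrix (Fin n) (Fin n) K) := rfl
    rw [this, ← mulVec_mulVec, toGU_mulVec, show g₀ v = l • w from hg₀v 0]
    exact hRfix _ (by rw [← hermSesq_apply τ hτ]; exact huv)
  let γ : ↥(Cfsg.SU n K q) := ⟨⟨M, hMdet⟩, fun a b => g.2 a b⟩
  refine isConj_iff.2 ⟨γ, mul_inv_eq_of_eq_mul ?_⟩
  apply Subtype.ext; apply Subtype.ext
  refine Matrix.ext_iff_mulVec.2 fun x => ?_
  change (M * ((s : GL (Fin n) K) : Matrix (Fin n) (Fin n) K)) *ᵥ x =
    (((t : GL (Fin n) K) : Matrix (Fin n) (Fin n) K) * M) *ᵥ x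
  rw [← mulVec_mulVec, ← mulVec_mulVec, hsx, htx, mulVec_add, mulVec_smul, hMv]
  have h := g.2 x v
  simp only [Units.coeHom_apply, ← hMdef, hMv, ← hermSesq_apply τ hτ, map_smulₛₗ,
    LinearMap.smul_apply, smul_eq_mul] at h
  rw [smul_smul]
  congr 2
  rw [← h]
  have hl' : c * (l * τ l) = d := by
    rw [hτ, ← pow_succ', hl, mul_div_cancel₀ _ hc]
  linear_combination (hermSesq n τ w (M *ᵥ x)) * hl'

end Cfsg.Agent.S2644
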