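import Cfsg.Statements.S2645
import Cfsg.Agent.Lib.PrimeClasses.Symplectic
-- import your own Cfsg.Agent.* helpers here

set_option autoImplicit false
open Cfsg

namespace Cfsg.Agent.S2645

open CfsgLib.PrimeClasses CfsgLib.IsomConj

/-- Number of conjugacy classes of elements of odd prime order r, r different from the characteristic, in the symplectic group Sp_2m(q): let i be the multiplicative order of q modulo r and t = (r − 1)/i. If i is odd the eigenvalue orbits pair off (Λ ≠ Λ⁻¹) and the classes correspond to the non-zero (t/2)-tuples (a_j) with 2i Σ a_j ≤ 2m, giving C(⌊m/i⌋ + t/2, t/2) − 1 classes; if i is even (Λ = Λ⁻¹) they correspond to the non-zero t-tuples with i Σ a_j ≤ 2m, giving C(⌊2m/i⌋ + t, t) − 1 classes. -/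
theorem result {F : Type*} [Field F] [Fintype F] {p q : ℕ} [Fact p.Prime] [CharP F p] (hF : Fintype.card F = q) (m r i t : ℕ) (hr : r.Prime) (hr2 : r ≠ 2) (hrp : r ≠ p) (hi : i = orderOf (q : ZMod r)) (ht : t * i = r - 1) : Nat.card {C : ConjClasses ↥(Matrix.symplecticGroup (Fin m) F) // ∃ g : Matrix.symplecticGroup (Fin m) F, ConjClasses.mk g = C ∧ orderOf g = r} = if Odd i then Nat.choose (m / i + t / 2) (t / 2) - 1 else Nat.choose (2 * m / i + t) t - 1 := by
  classical
  have : Fact r.Prime := ⟨hr⟩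
  have hrK : (r : F) ≠ 0 := by
    rw [Ne, CharP.cast_eq_zero_iff F p]
    exact fun h => hrp ((Nat.prime_dvd_prime_iff_eq Fact.out hr).1 h).symm
  obtain ⟨ζ, hζ, hgen⟩ := exists_root hrK
  subst hF
  have hipos : 0 < i := hi ▸ orbit_size_pos hrK
  have ht' : Fintype.card (Orbits hrK) = t := by
    have h := card_orbits hrK
    rw [← hi, ← ht] at h
    exact Nat.eq_of_mul_eq_mul_right hipos h
  have hrodd : Odd r := hr.odd_of_ne_two hr2
  have hev := orb_neg_one_eq_one_iff hrK hr2
  rw [← hi] at hev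
  have hpow : ∀ g : Matrix.symplecticGroup (Fin m) F, orderOf g = r → g.1 ^ r = 1 := fun g hg => by
    rw [← SubmonoidClass.coe_pow, orderOf_dvd_iff_pow_eq_one.1 (dvd_of_eq hg), Submonoid.coe_one]
  let V : (Orbits hrK → ℕ) → Prop := fun c => c ≠ 0 ∧ IsSym (orb hrK (-1)) c ∧ i * ∑ ω, c ω ≤ 2 * m
  rw [card_classes (fun g : Matrix.symplecticGroup (Fin m) F => orderOf g = r)
    (fun g => orbitMult hζ hrK g.1) V ?_ ?_ ?_ ?_]
  · by_cases hodd : Odd i
    · rw [if_pos hodd, ← ht', ← Nat.mul_div_mul_left m i two_pos]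
      exact card_sym_weight_le (orb_neg_one_sq hrK)
        (fun h => Nat.not_even_iff_odd.2 hodd (hev.1 h)) hipos (2 * m)
    · rw [if_neg hodd, ← ht', ← card_ne_zero_weight_le _ hipos (2 * m)]
      refine Nat.card_congr (Equiv.subtypeEquivRight fun c => ?_)
      exact ⟨fun h => ⟨h.1, h.2.2⟩, fun h => ⟨h.1, fun ω => by
        rw [hev.2 (Nat.not_odd_iff_even.1 hodd), one_mul], h.2⟩⟩
  · intro x y hx hxy
    obtain ⟨g, rfl⟩ := isConj_iff.1 hxy
    exact (orbitMult_conj hζ hrK ⟨g.1, g⁻¹.1, by rw [← Submonoid.coe_mul, mul_inv_cancel]; rfl,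
      by rw [← Submonoid.coe_mul, inv_mul_cancel]; rfl⟩ x.1).symm
  · intro x y hx hy h
    obtain ⟨g, hg⟩ := exists_conj_of_orbitMult hζ hgen hrK (hpow x hx) (hpow y hy) h
    exact Sp_isConj_of_similar hrodd hrK x y (orderOf_dvd_iff_pow_eq_one.1 (dvd_of_eq hx)) g hg
  · intro x hx
    refine ⟨fun h => ?_, Sp_isSym hζ hrK (hpow x hx) x.2, ?_⟩
    · have h1 : x = 1 := Subtype.ext (eq_one_of_orbitMult hζ hrK (hpow x hx) h)
      rw [h1, orderOf_one] at hx
      exact hr.one_lt.ne hx
    · have h := weight_orbitMult_le hζ hrK (hpow x hx)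
      rw [Fintype.card_sum, Fintype.card_fin, ← hi] at h
      omega
  · rintro c ⟨hc0, hsym, hc⟩
    obtain ⟨X, hX, hXu, hXc⟩ : SpRealised hζ hrK m c := by
      by_cases hodd : Odd i
      · have he1 : orb hrK (-1) ≠ 1 := fun h => Nat.not_even_iff_odd.2 hodd (hev.1 h)
        have h2 : ∀ (d : Orbits hrK → ℕ), IsSym (orb hrK (-1)) d → ∀ n : ℕ, i * ∑ ω, d ω ≤ 2 * n →
            SpRealised hζ hrK n d := by
          intro d hd n hn
          rw [sum_sym (orb_neg_one_sq hrK) he1 hd] at hn
          have h1 := realise_induction (R := fun n (d : Orbits hrK ⧸ Subgroup.zpowers (orb hrK (-1)) → ℕ) =>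
            SpRealised hζ hrK n (fun ω => d (QuotientGroup.mk ω))) i (Sp_realised_zero hζ hrK)
            (fun a => ?_) (fun a a' e e' he he' => Sp_realised_add hζ hrK he he') (fun a => d a.out) n
            (by linarith)
          · have : (fun ω => d (QuotientGroup.mk ω : Orbits hrK ⧸ Subgroup.zpowers (orb hrK (-1))).out) = d :=
              funext fun ω => hd.out_eq ω
            exact this ▸ h1
          · rw [single_comp_mk (orb_neg_one_sq hrK) he1]
            exact hi ▸ Sp_realised_pair hζ hrK a.out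
        exact h2 c hsym m hc
      · have hev' : Even i := Nat.not_odd_iff_even.1 hodd
        obtain ⟨j, hj⟩ := hev'
        refine realise_induction (R := SpRealised hζ hrK) j (Sp_realised_zero hζ hrK)
          (fun ω => Sp_realised_single hζ hrK (by rw [← hi, hj, two_mul]) ω)
          (fun a a' d d' h h' => Sp_realised_add hζ hrK h h') c m ?_
        subst hj
        nlinarith
    refine ⟨⟨X, hXu⟩, orderOf_eq_prime (Subtype.ext (by rw [SubmonoidClass.coe_pow]; exact hX))
      fun h => hc0 ?_, hXc⟩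
    have hX1 : X = 1 := congrArg Subtype.val h
    rw [← hXc, hX1, orbitMult_one]

end Cfsg.Agent.S2645
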