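import Cfsg.Statements.S2646
import Cfsg.Agent.Lib.UnitaryUnip.BlockProduct
import Cfsg.Agent.Helper57CentCountJordan
import Cfsg.Agent.Lib.ClassicalGroups.HermGroup
-- import your own Cfsg.Agent.* helpers here

set_option autoImplicit false
open Cfsg

namespace Cfsg.Agent.S2646

open CfsgLib.UnitaryUnip

set_option maxHeartbeats 1000000 in
/-- Order of the centraliser in the general unitary group GU_n(q) of a unipotent element of given Jordan type: if u ∈ GU_n(q) (isometries of Σ u_i v_i^q over the field with q² elements) is similar to the unipotent matrix with a_i Jordan blocks of size i (all sizes at least 1), then its centraliser in GU_n(q) has order q^γ · Π_i |GU_(a_i)(q)| with γ = 2 Σ_(i<j) i a_i a_j + Σ_i (i − 1) a_i², the same exponent as in GL_n(q), where |GU_a(q)| = q^(a(a−1)/2) Π_(k=1)^a (q^k − (−1)^k). -/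
theorem result {K : Type*} [Field K] [Fintype K] {q n t : ℕ} (hK : Fintype.card K = q ^ 2) (d : Fin t → ℕ) (hd : ∀ k, 1 ≤ d k) (e : ((k : Fin t) × Fin (d k)) ≃ Fin n) (u : ↥(Cfsg.GU n K q)) (hu : IsConj (Matrix.reindex e e (Cfsg.jordanTypeMatrix d K)) ((u : GL (Fin n) K) : Matrix (Fin n) (Fin n) K)) : (Nat.card ↥(Subgroup.centralizer ({u} : Set ↥(Cfsg.GU n K q))) : ℤ) = (q : ℤ) ^ (2 * (∑ i ∈ Finset.range (Finset.univ.sup d + 1), ∑ j ∈ Finset.range (Finset.univ.sup d + 1), if i < j then i * (Finset.univ.filter (fun k : Fin t => d k = i)).card * (Finset.univ.filter (fun k : Fin t => d k = j)).card else 0) + ∑ i ∈ Finset.range (Finset.univ.sup d + 1), (i - 1) * (Finset.univ.filter (fun k : Fin t => d k = i)).card ^ 2) * ∏ i ∈ Finset.range (Finset.univ.sup d + 1), ((q : ℤ) ^ ((Finset.univ.filter (fun k : Fin t => d k = i)).card * ((Finset.univ.filter (fun k : Fin t => d k = i)).card - 1) / 2) * ∏ j : Fin (Finset.univ.filter (fun k : Fin t => d k = i)).card, ((q : ℤ) ^ ((j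 : ℕ) + 1) - (-1) ^ ((j : ℕ) + 1))) := by
  classical
  obtain ⟨τ, hτq, hne, hτ⟩ := CfsgLib.UnitaryEmbed.exists_conj hK
  have hq : 1 < q := CfsgLib.UnitaryEmbed.q_gt_one hK
  set γ := 2 * (∑ i ∈ Finset.range (Finset.univ.sup d + 1), ∑ j ∈ Finset.range (Finset.univ.sup d + 1), if i < j then i * (Finset.univ.filter (fun k : Fin t => d k = i)).card * (Finset.univ.filter (fun k : Fin t => d k = j)).card else 0) + ∑ i ∈ Finset.range (Finset.univ.sup d + 1), (i - 1) * (Finset.univ.filter (fun k : Fin t => d k = i)).card ^ 2 with hγ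
  have hM : ∀ k, d k < Finset.univ.sup d + 1 := fun k =>
    Nat.lt_succ_of_le (Finset.le_sup (Finset.mem_univ k))
  have hJ : Cfsg.jordanTypeMatrix d K = 1 + (jshift d : Matrix (Ix d) (Ix d) K) := by
    ext ⟨k, i⟩ ⟨l, j⟩
    rw [Matrix.add_apply, jshift_apply, shiftEntry, Cfsg.jordanTypeMatrix, Matrix.blockDiagonal'_apply']
    by_cases hkl : k = l
    · subst hkl
      simp only [dif_pos, cast_eq, Cfsg.jordanBlock, Matrix.of_apply, true_and, Matrix.one_apply,
        Sigma.mk.inj_iff, heq_eq_eq, Fin.ext_iff]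
      split_ifs with h1 h2 <;> first | omega | simp
    · simp [hkl]
  obtain ⟨N, hNpos, hUnits, hIso⟩ := card_shift_isometries (K := K) hd τ hτ hne
  -- the number of units determines the unipotent radical
  have hNγ : N = q ^ γ := by
    have h1 := Cfsg.Agent.Jordan57.card_gl_comm_jordan (F := K) d hd
    rw [hK, ← hγ] at h1
    have h2 : Nat.card {g : GL (Ix d) K // (g : Matrix (Ix d) (Ix d) K) * Cfsg.jordanTypeMatrix d K =
        Cfsg.jordanTypeMatrix d K * (g : Matrix (Ix d) (Ix d) K)} =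
        Nat.card {h : Matrix (Ix d) (Ix d) K // Commute h (jshift d) ∧ IsUnit h} := by
      have hiff : ∀ h : Matrix (Ix d) (Ix d) K,
          h * Cfsg.jordanTypeMatrix d K = Cfsg.jordanTypeMatrix d K * h ↔ Commute h (jshift d) := fun h => by
        rw [hJ, mul_add, add_mul, mul_one, one_mul, add_right_inj]
        rfl
      exact Nat.card_congr
        { toFun := fun g => ⟨g.1, (hiff _).1 g.2, g.1.isUnit⟩
          invFun := fun h => ⟨h.2.2.unit, by rw [IsUnit.unit_spec]; exact (hiff _).2 h.2.1⟩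
          left_inv := fun g => Subtype.ext (Units.ext rfl)
          right_inv := fun h => Subtype.ext rfl }
    rw [h2, hUnits, card_blockRing_pi hM _ (fun _ X => IsUnit X) (fun F => isUnit_blockOf hM F),
      Finset.prod_range] at h1
    simp only [card_isUnit_matrix, hK] at h1
    have hc : ∀ i : ℕ, Fintype.card {k : Fin t // d k = i} = (Finset.univ.filter (fun k : Fin t => d k = i)).card :=
      fun i => Fintype.card_subtype _
    have hpos : 0 < ∏ i : Fin (Finset.univ.sup d + 1),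
        ∏ j : Fin (Fintype.card {k : Fin t // d k = (i : ℕ)}),
          ((q ^ 2) ^ Fintype.card {k : Fin t // d k = (i : ℕ)} - (q ^ 2) ^ (j : ℕ)) :=
      Finset.prod_pos fun i _ => Finset.prod_pos fun j _ =>
        Nat.sub_pos_of_lt (Nat.pow_lt_pow_right (Nat.one_lt_pow two_ne_zero hq) j.isLt)
    refine Nat.pow_left_injective two_ne_zero (Nat.eq_of_mul_eq_mul_right hpos ?_)
    show N ^ 2 * _ = (q ^ γ) ^ 2 * _
    rw [h1, ← pow_mul, ← pow_mul, mul_comm 2 γ]
    congr 1
    refine Finset.prod_congr rfl fun i _ => ?_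
    rw [hc]
  -- a Hermitian model of the type, and its Cayley transform
  obtain ⟨a, ha, -⟩ := exists_conjT_mul_self τ hτ hne
    (IsUnit.of_mul_eq_one _ (revM_mul_self (K := K) (Equiv.refl (Ix d)))) (conjT_revM τ (Equiv.refl (Ix d)))
  let A : Matrix (Ix d) (Ix d) K := (a : Matrix (Ix d) (Ix d) K)
  let A' : Matrix (Ix d) (Ix d) K := (↑a⁻¹ : Matrix (Ix d) (Ix d) K)
  have hAA : A' * A = 1 := a.inv_mul
  have hAA' : A * A' = 1 := a.mul_inv
  let ρ := Matrix.reindexAlgEquiv K K e
  let ψ : Matrix (Ix d) (Ix d) K → Matrix (Fin n) (Fin n) K := fun h => ρ (A * h * A')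
  have hψmul : ∀ g h, ψ (g * h) = ψ g * ψ h := fun g h => by
    show ρ _ = ρ _ * ρ _
    rw [← map_mul]
    congr 1
    calc A * (g * h) * A' = A * g * (A' * A) * h * A' := by rw [hAA, mul_one]; simp only [Matrix.mul_assoc]
      _ = _ := by simp only [Matrix.mul_assoc]
  have hψinj : Function.Injective ψ := fun g h e' => by
    have h1 := congrArg (fun z => A' * z * A) (ρ.injective e')
    have h2 : ∀ z, A' * (A * z * A') * A = z := fun z => by
      calc A' * (A * z * A') * A = (A' * A) * z * (A' * A) := by simp only [Matrix.mul_assoc]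
        _ = z := by rw [hAA, one_mul, mul_one]
    simpa only [h2] using h1
  have hψsurj : Function.Surjective ψ := fun z => ⟨A' * ρ.symm z * A, by
    show ρ (A * (A' * ρ.symm z * A) * A') = z
    rw [show A * (A' * ρ.symm z * A) * A' = (A * A') * ρ.symm z * (A * A') by simp only [Matrix.mul_assoc],
      hAA', one_mul, mul_one, AlgEquiv.apply_symm_apply]⟩
  have hψone : ψ 1 = 1 := by
    show ρ _ = 1
    rw [mul_one, hAA', map_one]
  have hρT : ∀ z : Matrix (Ix d) (Ix d) K, conjT τ (ρ z) = ρ (conjT τ z) := fun z => rfl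
  have hψT : ∀ h, conjT τ (ψ h) = ψ (jstar d τ h) := fun h => by
    show conjT τ (ρ _) = ρ _
    rw [hρT]
    congr 1
    have h1 : conjT τ A' = A * jrev d := by
      have h2 : conjT τ A' * (conjT τ A * A) = A := by
        rw [← Matrix.mul_assoc, ← conjT_mul, hAA', conjT_one, one_mul]
      rw [show conjT τ A * A = jrev d from ha] at h2
      calc conjT τ A' = conjT τ A' * (jrev d * jrev d) := by rw [revM_mul_self, mul_one]
        _ = _ := by rw [← Matrix.mul_assoc, h2]
    have h3 : conjT τ A = jrev d * A' := by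
      calc conjT τ A = conjT τ A * (A * A') := by rw [hAA', mul_one]
        _ = _ := by rw [← Matrix.mul_assoc, show conjT τ A * A = jrev d from ha]
    rw [conjT_mul, conjT_mul, h1, h3]
    simp only [jstar, Matrix.mul_assoc]
  have hMnil : IsNilpotent (jshift d : Matrix (Ix d) (Ix d) K) :=
    isNilpotent_of_lead_eq_zero hd (Commute.refl _) (by
      ext k l
      simp only [lead, Matrix.of_apply, jshift_apply, shiftEntry]
      split_ifs with h1 h2 <;> first | rfl | exact absurd h2.2 (by simp))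
  let N₀ : Matrix (Fin n) (Fin n) K := ψ (jshift d)
  have hNτ : conjT τ N₀ = N₀ := by
    show conjT τ (ψ _) = ψ _
    rw [hψT]
    congr 1
    show jrev d * conjT τ (shiftM (Equiv.refl _) : Matrix (Ix d) (Ix d) K) * jrev d = _
    rw [Matrix.mul_assoc, ← revM_shiftM τ (Equiv.refl (Ix d)), ← Matrix.mul_assoc, revM_mul_self, one_mul]
  have hψpow : ∀ j : ℕ, ψ ((jshift d : Matrix (Ix d) (Ix d) K) ^ j) = N₀ ^ j := fun j => by
    induction j with
    | zero => rw [pow_zero, pow_zero, hψone]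
    | succ j ih => rw [pow_succ, pow_succ, hψmul, ih]
  have hN₀ : IsNilpotent N₀ := by
    obtain ⟨j, hj⟩ := hMnil
    refine ⟨j, ?_⟩
    rw [← hψpow, hj]
    show ρ _ = 0
    rw [Matrix.mul_zero, Matrix.zero_mul, map_zero]
  obtain ⟨x, hxnil, hxrank, hxcomm⟩ := exists_cayley hK τ hτq hτ hne hN₀ hNτ
  -- `u` is conjugate to it
  obtain ⟨c, hc⟩ := hu
  have hupow : ∀ j : ℕ, (((u : GL (Fin n) K) : Matrix (Fin n) (Fin n) K) - 1) ^ j =
      (c : Matrix (Fin n) (Fin n) K) * ρ ((jshift d : Matrix (Ix d) (Ix d) K) ^ j) * (↑c⁻¹ : Matrix (Fin n) (Fin n) K) := by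
    intro j
    rw [map_pow, ← Units.conj_pow]
    congr 1
    have h1 : ((u : GL (Fin n) K) : Matrix (Fin n) (Fin n) K) =
        (c : Matrix (Fin n) (Fin n) K) * (1 + ρ (jshift d)) * (↑c⁻¹ : Matrix (Fin n) (Fin n) K) := by
      rw [← map_one ρ, ← map_add, ← hJ]
      exact (Units.eq_mul_inv_iff_mul_eq c).2 hc.eq.symm
    rw [h1, mul_add, add_mul, mul_one, Units.mul_inv, add_sub_cancel_left]
  have hux : IsConj (x : GL (Fin n) K) (u : GL (Fin n) K) := by
    refine Cfsg.Agent.Jordan57.isConj_of_profile ?_ ?_ fun j => ?_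
    · obtain ⟨j, hj⟩ := hxnil
      exact ⟨j, by rw [Cfsg.Agent.Jordan57.nilPart_pow, hj, Matrix.mulVecLin_zero]⟩
    · obtain ⟨j, hj⟩ := hMnil
      exact ⟨j, by rw [Cfsg.Agent.Jordan57.nilPart_pow, hupow, hj, map_zero, Matrix.mul_zero, Matrix.zero_mul,
        Matrix.mulVecLin_zero]⟩
    · rw [Cfsg.Agent.Jordan57.nilPart_pow, Cfsg.Agent.Jordan57.nilPart_pow]
      show Matrix.rank _ = Matrix.rank _
      rw [hxrank, hupow, Matrix.rank_mul_eq_left_of_isUnit_det _ _ ((Matrix.isUnit_iff_isUnit_det _).1 (c⁻¹).isUnit),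
        Matrix.rank_mul_eq_right_of_isUnit_det _ _ ((Matrix.isUnit_iff_isUnit_det _).1 c.isUnit), ← hψpow]
      show (Matrix.reindex e e _).rank = (Matrix.reindex e e _).rank
      rw [Matrix.rank_reindex, Matrix.rank_reindex,
        Matrix.rank_mul_eq_left_of_isUnit_det _ _ ((Matrix.isUnit_iff_isUnit_det _).1 (a⁻¹).isUnit),
        Matrix.rank_mul_eq_right_of_isUnit_det _ _ ((Matrix.isUnit_iff_isUnit_det _).1 a.isUnit)]
  obtain ⟨k, hk⟩ := isConj_iff.1 (CfsgLib.IsomConj.GU_isConj_of_similar hK x u hux)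
  have hcent : Nat.card ↥(Subgroup.centralizer ({u} : Set ↥(Cfsg.GU n K q))) =
      Nat.card {h : Matrix (Ix d) (Ix d) K // Commute h (jshift d) ∧ jstar d τ h * h = 1} := by
    have hmemc : ∀ h : ↥(Cfsg.GU n K q), h ∈ Subgroup.centralizer ({u} : Set ↥(Cfsg.GU n K q)) ↔
        Commute ((MulAut.conj k).symm h) x := fun h => by
      rw [Subgroup.mem_centralizer_singleton_iff, ← hk]
      simp only [MulAut.conj_symm_apply, Commute, SemiconjBy]
      constructor
      · intro e'
        calc k⁻¹ * h * k * x = k⁻¹ * (h * (k * x * k⁻¹)) * k := by simp [mul_assoc]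
          _ = x * (k⁻¹ * h * k) := by rw [e']; simp [mul_assoc]
      · intro e'
        calc h * (k * x * k⁻¹) = k * (k⁻¹ * h * k * x) * k⁻¹ := by simp [mul_assoc]
          _ = k * x * k⁻¹ * h := by rw [e']; simp [mul_assoc]
    have hx' : ∀ g : ↥(Cfsg.GU n K q), Commute g x ↔
        Commute ((g : GL (Fin n) K) : Matrix (Fin n) (Fin n) K) N₀ := fun g => by
      rw [← hxcomm]
      exact ⟨fun h => congrArg (fun z : ↥(Cfsg.GU n K q) => ((z : GL (Fin n) K) : Matrix (Fin n) (Fin n) K)) h.eq,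
        fun h => Subtype.ext (Units.ext h.eq)⟩
    rw [Nat.card_congr (Equiv.subtypeEquiv (q := fun g => Commute g x) (MulAut.conj k).symm.toEquiv
      (fun h => hmemc h))]
    have hctr : ∀ z : Matrix (Fin n) (Fin n) K, CfsgLib.IsomConj.ctr q z = conjT τ z := fun z => by
      ext i j; exact (hτq _).symm
    have hiff : ∀ h, (jstar d τ h * h = 1 ↔ CfsgLib.IsomConj.ctr q (ψ h) * ψ h = 1) := fun h => by
      rw [hctr, hψT, ← hψmul, ← hψone, hψinj.eq_iff]
    have hcomm : ∀ h, Commute h (jshift d) ↔ Commute (ψ h) N₀ := fun h => by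
      show _ = _ ↔ ψ h * ψ _ = ψ _ * ψ h
      rw [← hψmul, ← hψmul, hψinj.eq_iff]
    refine (Nat.card_eq_of_bijective
      (fun h : {h : Matrix (Ix d) (Ix d) K // Commute h (jshift d) ∧ jstar d τ h * h = 1} =>
        (⟨⟨(IsUnit.of_mul_eq_one_right _ ((hiff h.1).1 h.2.2)).unit,
          (CfsgLib.IsomConj.mem_GU_iff_ctr hK).2 (by rw [IsUnit.unit_spec]; exact (hiff h.1).1 h.2.2)⟩,
          (hx' _).2 (by rw [IsUnit.unit_spec]; exact (hcomm h.1).1 h.2.1)⟩ :
          {g : ↥(Cfsg.GU n K q) // Commute g x})) ⟨fun g h e' => ?_, fun g => ?_⟩).symm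
    · refine Subtype.ext (hψinj ?_)
      have := congrArg (fun z : {g : ↥(Cfsg.GU n K q) // Commute g x} =>
        ((z.1 : GL (Fin n) K) : Matrix (Fin n) (Fin n) K)) e'
      simpa only [IsUnit.unit_spec] using this
    · obtain ⟨h, hh⟩ := hψsurj ((g.1 : GL (Fin n) K) : Matrix (Fin n) (Fin n) K)
      refine ⟨⟨h, (hcomm h).2 (by rw [hh]; exact (hx' _).1 g.2), (hiff h).2 (by
        rw [hh]; exact (CfsgLib.IsomConj.mem_GU_iff_ctr hK).1 g.1.2)⟩, Subtype.ext (Subtype.ext (Units.ext ?_))⟩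
      rw [IsUnit.unit_spec]
      exact hh
  rw [hcent, hIso, card_blockRing_pi hM _ (fun _ X => conjT τ X * X = 1) (fun F => by
    rw [conjT_blockOf, blockOf_mul, ← blockOf_one hM, (blockOf_injective hM).eq_iff, funext_iff]),
    hNγ, Finset.prod_range]
  push_cast
  congr 1
  refine Finset.prod_congr rfl fun i _ => ?_
  rw [card_isometry_conjT hK τ hτq, Fintype.card_subtype, CfsgLib.ClassicalGroups.card_GU hK,
    Finset.prod_range]
  push_cast
  congr 1
  refine Finset.prod_congr rfl fun j _ => ?_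
  rcases Nat.even_or_odd (j : ℕ) with he | ho
  · rw [if_pos he, (he.add_one).neg_one_pow]
    ring
  · rw [if_neg (Nat.not_even_iff_odd.2 ho), (ho.add_one).neg_one_pow, Nat.cast_sub (Nat.one_le_pow _ _ (by omega))]
    push_cast
    ring

end Cfsg.Agent.S2646
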