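import Cfsg.Statements.S2649
import Cfsg.Agent.Lib.Golay.Splitting.CodeCheck
import Cfsg.Agent.Lib.Golay.Splitting.Complement

set_option autoImplicit false
open Cfsg CfsgLib.Golay.Splitting

namespace Cfsg.Agent.S2649

/-- Extensions of the Mathieu group M₂₃ by its code module split. Let E be a finite group with a normal subgroup N, an isomorphism φ from E/N onto M₂₃ = `Spor.M23` (the stabiliser of the extra point `none` in M₂₄ acting on the 24 points `GolayPt`), and an injective additive homomorphism ψ from N onto the set of words of the binary Golay code `golayCode` that vanish at `none` (an 11-dimensional space over the field with two elements), such that conjugation by g ∈ E on N corresponds under ψ to the coordinate permutation w ↦ w ∘ σ⁻¹, σ the permutation φ(gN). Then N has a complement in E: some subgroup H meets N trivially and generates E together with N. (Equivalently, the second cohomology group of M₂₃ with coefficients in this module vanishes.) -/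
theorem result
    {E : Type*} [Group E] [Finite E] (N : Subgroup E) [hN : N.Normal]
    (φ : E ⧸ N ≃* ↥Cfsg.Spor.M23)
    (ψ : Additive ↥N →+ (Cfsg.GolayPt → ZMod 2)) (hinj : Function.Injective ψ)
    (hrange : ∀ w : Cfsg.GolayPt → ZMod 2, w ∈ Set.range ψ ↔ (w ∈ Cfsg.golayCode ∧ w none = 0))
    (hψ : ∀ (g : E) (n : ↥N),
      ψ (Additive.ofMul ⟨g * n * g⁻¹, hN.conj_mem n n.2 g⟩)
        = ψ (Additive.ofMul n) ∘ ⇑(((φ (QuotientGroup.mk g) : ↥Cfsg.Spor.M23) : Equiv.Perm Cfsg.GolayPt)⁻¹)) :
    ∃ H : Subgroup E, H ⊓ N = ⊥ ∧ H ⊔ N = ⊤ := by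
  let pr : E →* ↥Cfsg.Spor.M23 := φ.toMonoidHom.comp (QuotientGroup.mk' N)
  have hker : pr.ker = N := by
    ext e
    show φ (QuotientGroup.mk e) = 1 ↔ e ∈ N
    rw [map_eq_one_iff φ φ.injective, QuotientGroup.eq_one_iff]
  have hsplit : ∀ v : Vec, ∃ n : Additive ↥N, ψ n = wordOf v := fun v =>
    (hrange _).mpr (CfsgLib.Golay.Parker.mem_punctured.mp (wordOf_mem v))
  choose lift hlift using hsplit
  have hcoord : ∀ n : Additive ↥N, wordOf (coords (ψ n)) = ψ n := fun n =>
    wordOf_coords (CfsgLib.Golay.Parker.mem_punctured.mpr ((hrange _).mp ⟨n, rfl⟩))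
  have hkerif : ∀ e, pr e = 1 ↔ e ∈ N := fun e => by rw [← MonoidHom.mem_ker, hker]
  let K : Ctx actCode E :=
    { pr := pr
      surj := φ.surjective.comp (QuotientGroup.mk'_surjective N)
      emb := fun v => ((lift v).toMul : E)
      emb_add := fun v w => by
        have h : lift (v + w) = lift v + lift w := hinj (by simp [hlift])
        simp only [h]
        rfl
      emb_inj := fun v w h => by
        have h1 : lift v = lift w := Additive.toMul.injective (Subtype.ext h)
        rw [← coords_wordOf v, ← hlift, h1, hlift, coords_wordOf]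
      ker_iff := fun e => by
        rw [hkerif]
        refine ⟨fun he => ⟨coords (ψ (Additive.ofMul ⟨e, he⟩)), ?_⟩, fun ⟨v, hv⟩ => hv ▸ (lift v).toMul.2⟩
        have h : lift (coords (ψ (Additive.ofMul ⟨e, he⟩))) = Additive.ofMul ⟨e, he⟩ :=
          hinj (by rw [hlift, hcoord])
        rw [h]; rfl
      conj := fun e v => by
        have h1 := hψ e (lift v).toMul
        rw [ofMul_toMul, hlift] at h1
        have h2 : lift (actCode (pr e) v) =
            Additive.ofMul ⟨e * ((lift v).toMul : E) * e⁻¹, hN.conj_mem _ (lift v).toMul.2 e⟩ := hinj (by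
          rw [hlift, h1]
          exact wordOf_coords (act_punctured (wordOf_mem v)))
        rw [h2]; rfl }
  obtain ⟨x, z, hx, hz, h⟩ := exists_sylow_lifts CodeData.structB_cert CodeData.checkB_cert K
    (compatible_code CodeData.matB_cert)
  obtain ⟨H, h1, h2⟩ := K.exists_complement CodeData.structB_cert CodeData.checkB_cert hx (hz CodeData.base_cert) h
  exact ⟨H, hker ▸ h1, hker ▸ h2⟩

end Cfsg.Agent.S2649
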