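import Cfsg.Statements.S2669
import Cfsg.Agent.Lib.Shintani.Basic

set_option autoImplicit false
open Cfsg

namespace Cfsg.Agent.S2669

theorem pow_mem_of_stable {X : Type*} [Group X] (σ : MulAut X) (Y : Subgroup X)
    (hY : ∀ y : X, y ∈ Y ↔ σ y ∈ Y) (e : ℕ) (y : X) (hy : y ∈ Y) : (σ ^ e) y ∈ Y := by
  induction e with
  | zero => simpa using hy
  | succ d ih => rw [pow_succ', MulAut.mul_apply]; exact (hY _).1 ih

theorem card_pairs {A X : Type*} [Group X] (Y T : Subgroup X) (R : A → X → Prop) (P : A → Prop)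
    (_hTY : T ≤ Y) (hex : ∀ k, P k ↔ ∃ y ∈ Y, R k y)
    (hR : ∀ k, ∀ y ∈ Y, R k y → ∀ t : X, t ∈ T ↔ (y * t ∈ Y ∧ R k (y * t))) :
    Nat.card {p : A × X // p.2 ∈ Y ∧ R p.1 p.2} = Nat.card {k // P k} * Nat.card T := by
  classical
  choose f hf hfR using fun k : {k // P k} => (hex k.1).1 k.2
  rw [← Nat.card_prod]
  refine (Nat.card_congr (Equiv.ofBijective
    (fun p : {k // P k} × T =>
      (⟨(p.1.1, f p.1 * p.2), (hR p.1.1 _ (hf p.1) (hfR p.1) p.2).1 p.2.2⟩ :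
        {p : A × X // p.2 ∈ Y ∧ R p.1 p.2})) ⟨?_, ?_⟩)).symm
  · rintro ⟨k, t⟩ ⟨k', t'⟩ h
    simp only [Subtype.mk.injEq, Prod.mk.injEq] at h
    obtain rfl : k = k' := Subtype.ext h.1
    have h2 : (t : X) = t' := mul_left_cancel h.2
    rw [Subtype.ext h2]
  · rintro ⟨⟨k, y⟩, hy, hky⟩
    have hk : P k := (hex k).2 ⟨y, hy, hky⟩
    refine ⟨(⟨k, hk⟩, ⟨(f ⟨k, hk⟩)⁻¹ * y, (hR k _ (hf ⟨k, hk⟩) (hfR ⟨k, hk⟩) _).2 ?_⟩), ?_⟩
    · simpa using And.intro hy hky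
    · apply Subtype.ext; simp

theorem card_pairs_left {A X : Type*} [Group X] (Y T : Subgroup X) (R : A → X → Prop) (P : A → Prop)
    (_hTY : T ≤ Y) (hex : ∀ k, P k ↔ ∃ y ∈ Y, R k y)
    (hR : ∀ k, ∀ y ∈ Y, R k y → ∀ t : X, t ∈ T ↔ (t * y ∈ Y ∧ R k (t * y))) :
    Nat.card {p : A × X // p.2 ∈ Y ∧ R p.1 p.2} = Nat.card {k // P k} * Nat.card T := by
  rw [← card_pairs Y T (fun k y => R k y⁻¹) P _hTY]
  · refine Nat.card_congr (Equiv.subtypeEquiv ((Equiv.refl A).prodCongr (Equiv.inv X)) ?_)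
    intro p; simp
  · intro k
    rw [hex k]
    constructor
    · rintro ⟨y, hy, h⟩; exact ⟨y⁻¹, inv_mem hy, by simpa using h⟩
    · rintro ⟨y, hy, h⟩; exact ⟨y⁻¹, inv_mem hy, h⟩
  · intro k y hy h t
    rw [← inv_mem_iff (H := T), hR k y⁻¹ (inv_mem hy) h t⁻¹, mul_inv_rev, ← mul_inv_rev,
      inv_mem_iff]


/-- Shintani descent preserves numbers of fixed points on coset spaces (abstract form). Let `σ` be an automorphism of a group `X` and `e ≥ 1`; write `G` for the fixed points of `σᵉ` and `H` for the fixed points of `σ`, and assume `G` is finite. Let `Y` be a `σ`-stable subgroup of `X` on which the maps `a ↦ a σ(a)⁻¹` and `a ↦ a σᵉ(a)⁻¹` are surjective (as for a closed connected `σ`-stable subgroup of an algebraic group). Let `g ∈ G`, let `a ∈ X` satisfy `g = a σ(a)⁻¹` and put `x = σᵉ(a)⁻¹ a` (the Shintani image, an element of `H`). The element `g σ` of the semidirect product acts on the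 cosets of `Y ∩ G` in `G` by `k (Y ∩ G) ↦ g σ(k) (Y ∩ G)`, fixing that coset exactly when `k⁻¹ g σ(k) ∈ Y`; and `x` fixes the coset `h (Y ∩ H)` of `H` exactly when `h⁻¹ x h ∈ Y`. Then the two numbers of fixed cosets agree; in cross-multiplied form, `#{k ∈ G : k⁻¹ g σ(k) ∈ Y} · |Y ∩ H| = #{h ∈ H : h⁻¹ x h ∈ Y} · |Y ∩ G|`. -/
theorem result {X : Type*} [Group X] (σ : MulAut X) (e : ℕ) (he : 1 ≤ e)
    [Finite ↥((MulEquiv.toMonoidHom (σ ^ e)).eqLocus (MonoidHom.id X))]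
    (Y : Subgroup X) (hY : ∀ y : X, y ∈ Y ↔ σ y ∈ Y)
    (hYL : ∀ y ∈ Y, ∃ a ∈ Y, y = a * (σ a)⁻¹) (hYLe : ∀ y ∈ Y, ∃ a ∈ Y, y = a * ((σ ^ e) a)⁻¹)
    (g : X) (hg : g ∈ (MulEquiv.toMonoidHom (σ ^ e)).eqLocus (MonoidHom.id X)) (a : X) (ha : g = a * (σ a)⁻¹) :
    Nat.card {k : ↥((MulEquiv.toMonoidHom (σ ^ e)).eqLocus (MonoidHom.id X)) // (k : X)⁻¹ * g * σ k ∈ Y} *
        Nat.card ↥(Y ⊓ (MulEquiv.toMonoidHom σ).eqLocus (MonoidHom.id X)) =
      Nat.card {h : ↥((MulEquiv.toMonoidHom σ).eqLocus (MonoidHom.id X)) // (h : X)⁻¹ * (((σ ^ e) a)⁻¹ * a) * h ∈ Y} *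
        Nat.card ↥(Y ⊓ (MulEquiv.toMonoidHom (σ ^ e)).eqLocus (MonoidHom.id X)) := by
  classical
  let G := (MulEquiv.toMonoidHom (σ ^ e)).eqLocus (MonoidHom.id X)
  let H := (MulEquiv.toMonoidHom σ).eqLocus (MonoidHom.id X)
  have memH : ∀ z, z ∈ H ↔ σ z = z := fun _ => Iff.rfl
  have memG : ∀ z, z ∈ G ↔ (σ ^ e) z = z := fun _ => Iff.rfl
  subst ha
  let R1 : G → X → Prop := fun k y => σ (y⁻¹ * (k : X)⁻¹ * a) = y⁻¹ * (k : X)⁻¹ * a
  let R2 : H → X → Prop := fun h y =>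
    ((σ ^ e) y)⁻¹ * y = (h : X)⁻¹ * (((σ ^ e) a)⁻¹ * a) * h
  have L1 : Nat.card {p : G × X // p.2 ∈ Y ∧ R1 p.1 p.2} =
      Nat.card {k : G // (k : X)⁻¹ * (a * (σ a)⁻¹) * σ k ∈ Y} * Nat.card ↥(Y ⊓ H) := by
    refine card_pairs Y (Y ⊓ H) R1 _ inf_le_left ?_ ?_
    · intro k
      have key : ∀ y, R1 k y ↔ y * (σ y)⁻¹ = (k : X)⁻¹ * (a * (σ a)⁻¹) * σ k := by
        intro y
        rw [show σ k = (σ (k : X)⁻¹)⁻¹ by simp]
        exact (CfsgLib.Shintani.twisted_iff σ a y (k : X)⁻¹).symm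
      constructor
      · intro hk
        obtain ⟨y, hy, hye⟩ := hYL _ hk
        exact ⟨y, hy, (key y).2 hye.symm⟩
      · rintro ⟨y, hy, hR⟩
        rw [← (key y).1 hR]
        exact mul_mem hy (inv_mem ((hY y).1 hy))
    · intro k y hy h t
      simp only [R1, map_mul, map_inv, mul_inv_rev] at h ⊢
      rw [Subgroup.mem_inf, memH]
      constructor
      · rintro ⟨ht, hts⟩
        refine ⟨mul_mem hy ht, ?_⟩
        rw [hts]
        simp only [mul_assoc] at h ⊢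
        rw [h]
      · rintro ⟨ht, hts⟩
        refine ⟨by simpa using mul_mem (inv_mem hy) ht, ?_⟩
        simp only [mul_assoc] at h hts
        rw [h] at hts
        exact inv_injective (mul_right_cancel hts)
  have L2 : Nat.card {p : H × X // p.2 ∈ Y ∧ R2 p.1 p.2} =
      Nat.card {h : H // (h : X)⁻¹ * (((σ ^ e) a)⁻¹ * a) * h ∈ Y} * Nat.card ↥(Y ⊓ G) := by
    refine card_pairs_left Y (Y ⊓ G) R2 _ inf_le_left ?_ ?_
    · intro h
      constructor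
      · intro hh
        obtain ⟨y, hy, hye⟩ := hYLe _ (inv_mem hh)
        refine ⟨y⁻¹, inv_mem hy, ?_⟩
        simp only [R2]
        rw [← inv_inj, hye, map_inv]; group
      · rintro ⟨y, hy, hR⟩
        simp only [R2] at hR
        rw [← hR]
        refine mul_mem (inv_mem ?_) hy
        exact pow_mem_of_stable σ Y hY e y hy
    · intro h y hy hh t
      simp only [R2, map_mul, mul_inv_rev] at hh ⊢
      rw [Subgroup.mem_inf, memG]
      constructor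
      · rintro ⟨ht, hts⟩
        refine ⟨mul_mem ht hy, ?_⟩
        rw [hts, ← hh]; group
      · rintro ⟨ht, hts⟩
        refine ⟨by simpa using mul_mem ht (inv_mem hy), ?_⟩
        rw [← hh, mul_assoc, mul_left_cancel_iff, ← mul_assoc] at hts
        have h3 := mul_eq_right.1 hts
        exact (inv_mul_eq_one.1 h3)
  rw [← L1, ← L2]
  refine Nat.card_congr ⟨?_, ?_, ?_, ?_⟩
  · rintro ⟨⟨k, y⟩, hy, hR⟩
    refine ⟨(⟨a⁻¹ * k * y, ?_⟩, y), hy, ?_⟩
    · rw [memH]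
      have h1 : a⁻¹ * k * y = (y⁻¹ * (k : X)⁻¹ * a)⁻¹ := by group
      rw [h1, map_inv, hR]
    · have h2 := (CfsgLib.Shintani.conj_iff σ e a y (k : X)⁻¹ hR).1 (by
        rw [map_inv]; exact congrArg Inv.inv k.2)
      simp only [R2]
      rw [h2]; group
  · rintro ⟨⟨h, y⟩, hy, hR⟩
    have h1 : σ (y⁻¹ * (a * h * y⁻¹)⁻¹ * a) = y⁻¹ * (a * h * y⁻¹)⁻¹ * a := by
      have : y⁻¹ * (a * h * y⁻¹)⁻¹ * a = (h : X)⁻¹ := by group
      have hh2 : σ (h : X) = h := h.2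
      rw [this, map_inv, hh2]
    refine ⟨(⟨a * h * y⁻¹, ?_⟩, y), hy, h1⟩
    rw [memG]
    have h2 := (CfsgLib.Shintani.conj_iff σ e a y (a * h * y⁻¹)⁻¹ h1).2 (by
      simp only [R2] at hR
      rw [hR]; group)
    rw [map_inv, inv_inj] at h2
    exact h2
  · rintro ⟨⟨k, y⟩, hy, hR⟩
    apply Subtype.ext; apply Prod.ext
    · apply Subtype.ext; simp [mul_assoc]
    · rfl
  · rintro ⟨⟨h, y⟩, hy, hR⟩
    apply Subtype.ext; apply Prod.ext
    · apply Subtype.ext; simp [mul_assoc]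
    · rfl

end Cfsg.Agent.S2669
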