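import Cfsg.Statements.S2671
import Cfsg.Agent.Lib.PrimeClasses.Unitary
-- import your own Cfsg.Agent.* helpers here

set_option autoImplicit false
open Cfsg

namespace Cfsg.Agent.S2671

open CfsgLib.PrimeClasses CfsgLib.IsomConj

/-- Number of conjugacy classes of elements of odd prime order r in the general unitary group GU_n(q), for r not dividing q(q + 1): let i be the multiplicative order of q modulo r, b = i if i is odd and b = i/2 if i is even, and s = (r − 1)/b. If i ≢ 2 (mod 4) the eigenvalue orbits pair off into dual pairs of totally isotropic blocks and there are C(⌊n/(2b)⌋ + s/2, s/2) − 1 classes; if i ≡ 2 (mod 4) each orbit gives a non-degenerate block of dimension i/2 and there are C(⌊2n/i⌋ + s, s) − 1 classes. -/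
theorem result {K : Type*} [Field K] [Fintype K] {p q n r i b s : ℕ} [Fact p.Prime] [CharP K p] (hK : Fintype.card K = q ^ 2) (hr : r.Prime) (hr2 : r ≠ 2) (hrp : r ≠ p) (hi : i = orderOf (q : ZMod r)) (hi2 : i ≠ 2) (hb : b = if Odd i then i else i / 2) (hs : s * b = r - 1) : Nat.card {C : ConjClasses ↥(Cfsg.GU n K q) // ∃ g : ↥(Cfsg.GU n K q), ConjClasses.mk g = C ∧ orderOf g = r} = if i % 4 = 2 then Nat.choose (2 * n / i + s) s - 1 else Nat.choose (n / (2 * b) + s / 2) (s / 2) - 1 := by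
  classical
  have : Fact r.Prime := ⟨hr⟩
  have hrK : (r : K) ≠ 0 := by
    rw [Ne, CharP.cast_eq_zero_iff K p]
    exact fun h => hrp ((Nat.prime_dvd_prime_iff_eq Fact.out hr).1 h).symm
  obtain ⟨ζ, hζ, hgen⟩ := exists_root hrK
  have hsize : orderOf (Fintype.card K : ZMod r) = b := orbit_size_eq_b hK hrK hi hb
  have hbpos : 0 < b := hsize ▸ orbit_size_pos hrK
  have ht' : Fintype.card (Orbits hrK) = s := by
    have h := card_orbits hrK
    rw [hsize, ← hs] at h
    exact Nat.eq_of_mul_eq_mul_right hbpos h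
  let M : ↥(Cfsg.GU n K q) → Matrix (Fin n) (Fin n) K := fun g => ((g : GL (Fin n) K) : Matrix (Fin n) (Fin n) K)
  have hpow : ∀ g, orderOf g = r → (M g) ^ r = 1 := fun g hg => by
    show ((g : GL (Fin n) K) : Matrix (Fin n) (Fin n) K) ^ r = 1
    rw [← Units.val_pow_eq_pow_val, ← SubgroupClass.coe_pow, orderOf_dvd_iff_pow_eq_one.1 (dvd_of_eq hg)]
    rfl
  let V : (Orbits hrK → ℕ) → Prop := fun c => c ≠ 0 ∧ IsSym (gOrb hK hrK) c ∧ b * ∑ ω, c ω ≤ n
  rw [card_classes (fun g : ↥(Cfsg.GU n K q) => orderOf g = r) (fun g => orbitMult hζ hrK (M g)) V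
    ?_ ?_ ?_ ?_]
  · by_cases h4 : i % 4 = 2
    · have he : gOrb hK hrK = 1 := (gOrb_eq_one_iff hK hrK hr2 hi).2 h4
      rw [if_pos h4]
      have hib : 2 * b = i := by
        rw [hb, if_neg (Nat.not_odd_iff_even.2 ⟨i / 2, by omega⟩)]
        omega
      rw [← hib, Nat.mul_div_mul_left _ _ two_pos, ← ht', ← card_ne_zero_weight_le _ hbpos n]
      refine Nat.card_congr (Equiv.subtypeEquivRight fun c => ?_)
      exact ⟨fun h => ⟨h.1, h.2.2⟩, fun h => ⟨h.1, fun ω => by rw [he, one_mul], h.2⟩⟩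
    · rw [if_neg h4, ← ht']
      exact card_sym_weight_le (gOrb_sq hK hrK) (fun h => h4 ((gOrb_eq_one_iff hK hrK hr2 hi).1 h)) hbpos n
  · intro x y hx hxy
    obtain ⟨g, rfl⟩ := isConj_iff.1 hxy
    exact (orbitMult_conj hζ hrK (g : GL (Fin n) K) _).symm
  · intro x y hx hy h
    obtain ⟨g, hg⟩ := exists_conj_of_orbitMult hζ hgen hrK (hpow x hx) (hpow y hy) h
    exact GU_isConj_of_similar hK x y (isConj_iff.2 ⟨g, mul_inv_eq_iff_eq_mul.2 (Units.ext hg)⟩)
  · intro x hx
    refine ⟨fun h => ?_, GU_isSym hζ hK hrK (hpow x hx) ((mem_GU_iff_ctr hK).1 x.2), ?_⟩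
    · have h1 : x = 1 := Subtype.ext (Units.ext (eq_one_of_orbitMult hζ hrK (hpow x hx) h))
      rw [h1, orderOf_one] at hx
      exact hr.one_lt.ne hx
    · have h := weight_orbitMult_le hζ hrK (hpow x hx)
      rwa [hsize, Fintype.card_fin] at h
  · rintro c ⟨hc0, hsym, hc⟩
    obtain ⟨X, hX, hXu, hXc⟩ : GURealised hζ q hrK n c := by
      by_cases h4 : i % 4 = 2
      · have hbi : b = i / 2 := by rw [hb, if_neg (Nat.not_odd_iff_even.2 ⟨i / 2, by omega⟩)]
        refine realise_induction (R := GURealised hζ q hrK) b (GU_realised_zero hζ hK hrK) (fun ω => ?_)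
          (fun a a' d d' h h' => GU_realised_add hζ hK hrK h h') c n hc
        refine GU_realised_single hζ hK hrK hsize (by rw [hbi]; exact ⟨i / 4, by omega⟩) ?_ ω
        rw [← CharP.cast_eq_zero_iff (ZMod r) r, Nat.cast_add, Nat.cast_pow, Nat.cast_one, hbi,
          ← coe_sqrtUnit hK hrK, ← Units.val_pow_eq_pow_val,
          pow_half_eq_neg_one unit_sq_eq_one (by rw [hi, ← coe_sqrtUnit hK hrK, orderOf_units])
            ⟨i / 2, by omega⟩ (by omega), Units.val_neg, Units.val_one, neg_add_cancel]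
      · refine realise_sym_induction (R := GURealised hζ q hrK) b (gOrb_sq hK hrK)
          (fun h => h4 ((gOrb_eq_one_iff hK hrK hr2 hi).1 h)) (GU_realised_zero hζ hK hrK) (fun ω => ?_)
          (fun a a' d d' h h' => GU_realised_add hζ hK hrK h h') c hsym n hc
        exact hsize ▸ GU_realised_pair hζ hK hrK ω
    obtain ⟨g, rfl⟩ : ∃ g : GL (Fin n) K, (g : Matrix (Fin n) (Fin n) K) = X :=
      ⟨(IsUnit.of_pow_eq_one hX hr.ne_zero).unit, IsUnit.unit_spec _⟩
    refine ⟨⟨g, (mem_GU_iff_ctr hK).2 hXu⟩, orderOf_eq_prime (Subtype.ext (Units.ext hX)) fun h => hc0 ?_, hXc⟩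
    have hg1 : g = 1 := congrArg Subtype.val h
    rw [← hXc, hg1, Units.val_one, orbitMult_one]

end Cfsg.Agent.S2671
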