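import Cfsg.Statements.S2672
import Cfsg.Agent.Lib.PrimeClasses.Projective
import Cfsg.Agent.Lib.IsomConj.Unitary
-- import your own Cfsg.Agent.* helpers here

set_option autoImplicit false
open Cfsg

namespace Cfsg.Agent.S2672

/-- Number of conjugacy classes of elements of odd prime order r in PGU_n(q) = GU_n(q)/scalars (n ≥ 3) when r divides q + 1: as in the linear case with q − 1 replaced by q + 1, the classes correspond to the rotation orbits on r-tuples of eigenvalue multiplicities summing to n with every entry < n, plus r − 1 further classes when r divides n; in all (C(n+r−1, r−1) − r − [r ∣ n])/r + r·[r ∣ n]. -/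
theorem result {K : Type*} [Field K] [Fintype K] {q n r : ℕ} (hK : Fintype.card K = q ^ 2) (hn : 3 ≤ n) (hr : r.Prime) (hr2 : r ≠ 2) (hrq : r ∣ q + 1) : Nat.card {C : ConjClasses (↥(Cfsg.GU n K q) ⧸ Subgroup.center ↥(Cfsg.GU n K q)) // ∃ g : ↥(Cfsg.GU n K q) ⧸ Subgroup.center ↥(Cfsg.GU n K q), ConjClasses.mk g = C ∧ orderOf g = r} = (Nat.choose (n + r - 1) (r - 1) - r - (if r ∣ n then 1 else 0)) / r + r * (if r ∣ n then 1 else 0) := by
  classical
  have : Fact r.Prime := ⟨hr⟩
  have hq : 1 < q := CfsgLib.UnitaryEmbed.q_gt_one hK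
  refine CfsgLib.PrimeClasses.card_projective_classes (Cfsg.GU n K q).subtype Subtype.val_injective
    ((powMonoidHom (q + 1) : Kˣ →* Kˣ).ker) ?_ ?_
    (fun x y h => CfsgLib.IsomConj.GU_isConj_of_similar hK x y h) (by omega) ?_ ?_
  · intro σ d hd
    refine ⟨⟨CfsgLib.PrimeClasses.monomialGL σ d, fun u v => ?_⟩, rfl⟩
    have hmv : ∀ (w : Fin n → K) (a : Fin n),
        (Matrix.mulVec (CfsgLib.PrimeClasses.monomial' σ fun j => (d j : K)) w) (σ a) = d a * w a := by
      intro w a
      simp [Matrix.mulVec, dotProduct, CfsgLib.PrimeClasses.monomial', σ.injective.eq_iff]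
    show Cfsg.hermForm n K q (Matrix.mulVec (CfsgLib.PrimeClasses.monomial' σ fun j => (d j : K)) u)
      (Matrix.mulVec (CfsgLib.PrimeClasses.monomial' σ fun j => (d j : K)) v) = Cfsg.hermForm n K q u v
    unfold Cfsg.hermForm
    rw [← Equiv.sum_comp σ]
    refine Finset.sum_congr rfl fun a _ => ?_
    have h1 : ((d a : Kˣ) : K) ^ (q + 1) = 1 := by
      rw [← Units.val_pow_eq_pow_val, show (d a) ^ (q + 1) = 1 from hd a, Units.val_one]
    rw [hmv, hmv, mul_pow]
    linear_combination u a * v a ^ q * h1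
  · intro x c hx
    have hn0 : 0 < n := by omega
    have h := x.2 (Pi.single ⟨0, hn0⟩ 1) (Pi.single ⟨0, hn0⟩ 1)
    rw [show ((Units.coeHom (Matrix (Fin n) (Fin n) K)) (x : GL (Fin n) K)) = (c : K) • 1 from
      (congrArg Units.val hx).trans (CfsgLib.PrimeClasses.coe_scGL c), Matrix.smul_mulVec,
      Matrix.one_mulVec] at h
    simp [Cfsg.hermForm, Pi.single_apply, ite_pow, zero_pow (show q ≠ 0 by omega)] at h
    exact Units.ext (by rw [powMonoidHom_apply, Units.val_pow_eq_pow_val, pow_succ', h, Units.val_one])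
  · rw [IsCyclic.card_powMonoidHom_ker, Nat.card_units, Nat.card_eq_fintype_card, hK,
      Nat.gcd_eq_right]
    · exact hrq
    · exact ⟨q - 1, by simp [← Nat.sq_sub_sq]⟩
  · intro c hc w hw
    have hrq' : ¬ r ∣ q - 1 := fun h => by
      have h2 : r ∣ 2 := by
        have := Nat.dvd_sub hrq h
        rwa [show q + 1 - (q - 1) = 2 by omega] at this
      exact hr2 ((Nat.prime_dvd_prime_iff_eq hr Nat.prime_two).1 h2)
    have h1 : (w ^ (q + 1)) ^ r = 1 := by
      rw [← pow_mul, mul_comm, pow_mul, hw]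
      exact hc
    have h2 : (w ^ (q + 1)) ^ (q - 1) = 1 := by
      rw [← pow_mul, show (q + 1) * (q - 1) = q ^ 2 - 1 by simp [← Nat.sq_sub_sq], ← hK,
        ← Fintype.card_units, pow_card_eq_one]
    refine ⟨w, ?_, hw⟩
    have h3 : Nat.gcd r (q - 1) = 1 := hr.coprime_iff_not_dvd.2 hrq'
    have := pow_gcd_eq_one.2 ⟨h1, h2⟩
    rw [h3, pow_one] at this
    exact this

end Cfsg.Agent.S2672
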