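import Cfsg.Statements.S2673
import Cfsg.Agent.Lib.PrimeClasses.OrthRealise
-- import your own Cfsg.Agent.* helpers here

set_option autoImplicit false
open Cfsg

namespace Cfsg.Agent.S2673

open CfsgLib.PrimeClasses

/-- Number of conjugacy classes of elements of odd prime order r ≠ p in the orthogonal group O_(2m+1)(q) of x_0² + Σ x_j y_j, q odd: with i the multiplicative order of q mod r and t = (r − 1)/i, there are C(⌊m/i⌋ + t/2, t/2) − 1 classes if i is odd (dual pairs of totally singular i-blocks) and C(⌊(2m+1)/i⌋ + t, t) − 1 if i is even (elliptic i-blocks). -/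
theorem result {F : Type*} [Field F] [Fintype F] {p q : ℕ} [Fact p.Prime] [CharP F p] (hF : Fintype.card F = q) (hq : Odd q) (m r i t : ℕ) (hr : r.Prime) (hr2 : r ≠ 2) (hrp : r ≠ p) (hi : i = orderOf (q : ZMod r)) (ht : t * i = r - 1) : Nat.card {C : ConjClasses ↥(Cfsg.isometryGroup F (Cfsg.quadFormOdd m F)) // ∃ g : ↥(Cfsg.isometryGroup F (Cfsg.quadFormOdd m F)), ConjClasses.mk g = C ∧ orderOf g = r} = if Odd i then Nat.choose (m / i + t / 2) (t / 2) - 1 else Nat.choose ((2 * m + 1) / i + t) t - 1 := by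
  classical
  have : Fact r.Prime := ⟨hr⟩
  have hrK : (r : F) ≠ 0 := by
    rw [Ne, CharP.cast_eq_zero_iff F p]
    exact fun h => hrp ((Nat.prime_dvd_prime_iff_eq Fact.out hr).1 h).symm
  obtain ⟨ζ, hζ, hgen⟩ := exists_root hrK
  have hsize : orderOf (Fintype.card F : ZMod r) = i := by rw [hF, hi]
  have hipos : 0 < i := hsize ▸ orbit_size_pos hrK
  have ht' : Fintype.card (Orbits hrK) = t := by
    have h := card_orbits hrK
    rw [hsize, ← ht] at h
    exact Nat.eq_of_mul_eq_mul_right hipos h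
  have htpos : 0 < Fintype.card (Orbits hrK) := Fintype.card_pos
  have he2 : orb hrK (-1) = 1 ↔ Even i := by rw [orb_neg_one_eq_one_iff hrK hr2, hsize]
  have h2 : (2 : F) ≠ 0 := by
    intro h
    have : ringChar F = 2 := CharP.ringChar_of_prime_eq_zero Nat.prime_two (by exact_mod_cast h)
    have h' := FiniteField.even_card_of_char_two this
    rw [hF] at h'
    exact absurd (Nat.odd_iff.1 hq) (by omega)
  obtain ⟨B, hB⟩ := CfsgLib.ClassicalGroups.exists_isQuadPair_odd h2 m
  obtain ⟨a, c, hac⟩ := exists_anisotropic_binary (F := F)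
  by_cases hio : Odd i
  · have he : orb hrK (-1) ≠ 1 := fun h => Nat.not_even_iff_odd.2 hio (he2.1 h)
    rw [if_pos hio, card_O_classes hζ hrK hgen hr2 hB
      (fun d => d ≠ 0 ∧ IsSym (orb hrK (-1)) d ∧ i * ∑ ω, d ω ≤ 2 * m) ?_ ?_,
      card_sym_weight_le (orb_neg_one_sq hrK) he hipos, Nat.mul_div_mul_left _ _ two_pos, ht']
    · intro X hX hXQ h0
      have hs := O_isSym hζ hrK hB hX hXQ
      have := Fintype.ofFinite (Orbits hrK ⧸ Subgroup.zpowers (orb hrK (-1)))
      have h := weight_orbitMult_le hζ hrK hX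
      simp only [hsize, Fintype.card_sum, Fintype.card_unit, Fintype.card_fin] at h
      refine ⟨h0, hs, ?_⟩
      rw [sum_sym (orb_neg_one_sq hrK) he hs, mul_left_comm] at h ⊢
      omega
    · rintro d ⟨hd0, hd, hdm⟩
      exact ⟨hd0, (O_realise_plus hζ hrK he hd (hsize.symm ▸ hdm)).pad hζ (Cfsg.quadFormOdd 0 F)
        (plus_add_odd' (Nat.add_zero m))⟩
  · rw [Nat.not_odd_iff_even] at hio
    obtain ⟨j, hj⟩ := hio
    rw [if_neg (Nat.not_odd_iff_even.2 ⟨j, hj⟩), card_O_classes hζ hrK hgen hr2 hB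
      (fun d => d ≠ 0 ∧ i * ∑ ω, d ω ≤ 2 * m + 1) ?_ ?_,
      card_ne_zero_weight_le _ hipos, ht']
    · intro X hX hXQ h0
      have h := weight_orbitMult_le hζ hrK hX
      simp only [hsize, Fintype.card_sum, Fintype.card_unit, Fintype.card_fin] at h
      exact ⟨h0, by omega⟩
    · rintro d ⟨hd0, hdm⟩
      refine ⟨hd0, ?_⟩
      obtain ⟨hev, hod⟩ := O_realise_blocks hζ hrK hac (show _ = 2 * j by rw [hsize, hj, two_mul]) d
      have hle : (∑ ω, d ω) * j ≤ m := by
        rw [hj, ← two_mul, mul_assoc, mul_comm j] at hdm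
        omega
      rcases Nat.even_or_odd (∑ ω, d ω) with hN | hN
      · exact (hev hN).pad hζ (Cfsg.quadFormOdd (m - (∑ ω, d ω) * j) F) (plus_add_odd' (by omega))
      · have : 0 < (∑ ω, d ω) * j := Nat.mul_pos hN.pos (by omega)
        exact ((hod hN).pad hζ (compLine a c) (minus_add_compLine hac h2
          (show _ + 1 = (∑ ω, d ω) * j by omega))).pad hζ
          (Cfsg.quadFormPlus (m - (∑ ω, d ω) * j) F) (odd_add_plus' (by omega))

end Cfsg.Agent.S2673
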