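import Cfsg.Statements.S2674
import Cfsg.Agent.Lib.PrimeClasses.OrthRealise
-- import your own Cfsg.Agent.* helpers here

set_option autoImplicit false
open Cfsg

namespace Cfsg.Agent.S2674

open CfsgLib.PrimeClasses

/-- Number of conjugacy classes of elements of odd prime order r ≠ p in the orthogonal group O⁺_2m(q) of Σ x_j y_j (m ≥ 1): with i the multiplicative order of q mod r and t = (r − 1)/i — if i is odd, C(⌊m/i⌋ + t/2, t/2) − 1; if i is even, C(⌊2m/i⌋ + t, t) − 1 minus, when i divides 2m with odd quotient, the C(2m/i + t − 1, t − 1) tuples using the whole space (an odd number of elliptic i-blocks fills an elliptic, not a hyperbolic, space). -/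
theorem result {F : Type*} [Field F] [Fintype F] {p q : ℕ} [Fact p.Prime] [CharP F p] (hF : Fintype.card F = q) (m r i t : ℕ) (hm : 1 ≤ m) (hr : r.Prime) (hr2 : r ≠ 2) (hrp : r ≠ p) (hi : i = orderOf (q : ZMod r)) (ht : t * i = r - 1) : Nat.card {C : ConjClasses ↥(Cfsg.isometryGroup F (Cfsg.quadFormPlus m F)) // ∃ g : ↥(Cfsg.isometryGroup F (Cfsg.quadFormPlus m F)), ConjClasses.mk g = C ∧ orderOf g = r} = if Odd i then Nat.choose (m / i + t / 2) (t / 2) - 1 else Nat.choose (2 * m / i + t) t - 1 - (if i ∣ 2 * m ∧ Odd (2 * m / i) then Nat.choose (2 * m / i + t - 1) (t - 1) else 0) := by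
  classical
  have : Fact r.Prime := ⟨hr⟩
  have hrK : (r : F) ≠ 0 := by
    rw [Ne, CharP.cast_eq_zero_iff F p]
    exact fun h => hrp ((Nat.prime_dvd_prime_iff_eq Fact.out hr).1 h).symm
  obtain ⟨ζ, hζ, hgen⟩ := exists_root hrK
  have hsize : orderOf (Fintype.card F : ZMod r) = i := by rw [hF, hi]
  have hipos : 0 < i := hsize ▸ orbit_size_pos hrK
  have ht' : Fintype.card (Orbits hrK) = t := by
    have h := card_orbits hrK
    rw [hsize, ← ht] at h
    exact Nat.eq_of_mul_eq_mul_right hipos h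
  have htpos : 0 < Fintype.card (Orbits hrK) := Fintype.card_pos
  have he2 : orb hrK (-1) = 1 ↔ Even i := by rw [orb_neg_one_eq_one_iff hrK hr2, hsize]
  obtain ⟨B, hB⟩ := CfsgLib.ClassicalGroups.exists_isQuadPair_plus (F := F) m
  obtain ⟨a, c, hac⟩ := exists_anisotropic_binary (F := F)
  by_cases hio : Odd i
  · have he : orb hrK (-1) ≠ 1 := fun h => Nat.not_even_iff_odd.2 hio (he2.1 h)
    rw [if_pos hio, card_O_classes hζ hrK hgen hr2 hB
      (fun d => d ≠ 0 ∧ IsSym (orb hrK (-1)) d ∧ i * ∑ ω, d ω ≤ 2 * m) ?_ ?_,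
      card_sym_weight_le (orb_neg_one_sq hrK) he hipos, Nat.mul_div_mul_left _ _ two_pos, ht']
    · intro X hX hXQ h0
      have h := weight_orbitMult_le hζ hrK hX
      simp only [hsize, Fintype.card_sum, Fintype.card_fin] at h
      exact ⟨h0, O_isSym hζ hrK hB hX hXQ, by omega⟩
    · rintro d ⟨hd0, hd, hdm⟩
      exact ⟨hd0, O_realise_plus hζ hrK he hd (hsize.symm ▸ hdm)⟩
  · rw [Nat.not_odd_iff_even] at hio
    obtain ⟨j, hj⟩ := hio
    have hj' : orderOf (Fintype.card F : ZMod r) = 2 * j := by rw [hsize, hj, two_mul]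
    rw [if_neg (Nat.not_odd_iff_even.2 ⟨j, hj⟩), card_O_classes hζ hrK hgen hr2 hB
      (fun d => (d ≠ 0 ∧ i * ∑ ω, d ω ≤ 2 * m) ∧ ¬ (i * ∑ ω, d ω = 2 * m ∧ Odd (∑ ω, d ω))) ?_ ?_,
      card_exclude (fun d : Orbits hrK → ℕ => d ≠ 0 ∧ i * ∑ ω, d ω ≤ 2 * m)
        (fun d => i * ∑ ω, d ω = 2 * m ∧ Odd (∑ ω, d ω)) (2 * m)
        (fun d h => le_trans (Nat.le_mul_of_pos_left _ hipos) h.2)
        (fun d h => ⟨fun h0 => by simp [h0] at h, h.1.le⟩),
      card_ne_zero_weight_le _ hipos, ht']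
    · congr 1
      by_cases hd : i ∣ 2 * m ∧ Odd (2 * m / i)
      · rw [if_pos hd, ← ht', ← card_sum_eq _ _ htpos]
        refine Nat.card_congr (Equiv.subtypeEquivRight fun d => ⟨fun h => ?_, fun h => ?_⟩)
        · rw [← h.1, Nat.mul_div_cancel_left _ hipos]
        · rw [h, Nat.mul_div_cancel' hd.1]
          exact ⟨rfl, hd.2⟩
      · rw [if_neg hd]
        have : IsEmpty {d : Orbits hrK → ℕ // i * ∑ ω, d ω = 2 * m ∧ Odd (∑ ω, d ω)} :=
          ⟨fun d => hd ⟨⟨_, d.2.1.symm⟩, by rw [← d.2.1, Nat.mul_div_cancel_left _ hipos]; exact d.2.2⟩⟩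
        exact Nat.card_of_isEmpty
    · intro X hX hXQ h0
      have h := weight_orbitMult_le hζ hrK hX
      simp only [hsize, Fintype.card_sum, Fintype.card_fin] at h
      refine ⟨⟨h0, by omega⟩, fun ⟨hfull, hodd⟩ => ?_⟩
      have hmj : (∑ ω, orbitMult hζ hrK X ω) * j = m := by
        rw [hj, ← two_mul, mul_assoc, mul_comm j] at hfull
        omega
      refine not_both_types hζ hrK hac hgen hr2 hm (hsize.symm ▸ hfull) ⟨X, hX, hXQ, rfl⟩ ?_
      have h2 := (O_realise_blocks hζ hrK hac hj' (orbitMult hζ hrK X)).2 hodd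
      rwa [hmj] at h2
    · rintro d ⟨⟨hd0, hdm⟩, hnf⟩
      refine ⟨hd0, ?_⟩
      obtain ⟨hev, hod⟩ := O_realise_blocks hζ hrK hac hj' d
      have hle : (∑ ω, d ω) * j ≤ m ∧ (Odd (∑ ω, d ω) → (∑ ω, d ω) * j < m) := by
        have e : i * ∑ ω, d ω = 2 * ((∑ ω, d ω) * j) := by rw [hj]; ring
        rw [e] at hdm hnf
        exact ⟨by omega, fun h => lt_of_le_of_ne (by omega) fun h' => hnf ⟨by rw [h'], h⟩⟩
      rcases Nat.even_or_odd (∑ ω, d ω) with hN | hN
      · exact (hev hN).pad hζ (Cfsg.quadFormPlus (m - (∑ ω, d ω) * j) F) (plus_add_plus' (by omega))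
      · have : 0 < (∑ ω, d ω) * j := Nat.mul_pos hN.pos (by omega)
        have := hle.2 hN
        exact (hod hN).pad hζ (Cfsg.quadFormMinus (m - (∑ ω, d ω) * j - 1) F a c)
          (minus_add_minus' hac (by omega))

end Cfsg.Agent.S2674
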