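import Cfsg.Statements.S2676
import Cfsg.Agent.Lib.SympUnip.Classes
-- helpers: see Lib/SympUnip

set_option autoImplicit false
open Classical
open Cfsg

namespace Cfsg.Agent.S2676

set_option maxHeartbeats 1000000 in
/-- Number of conjugacy classes of elements of order p in Sp_2m(q), q a power of the odd prime p: the classes correspond to the signed partitions of 2m — partitions with all parts at most p in which every odd part has even multiplicity, each even part size that occurs carrying a sign — other than the all-ones partition; so the count is the sum over such partitions of 2^(number of distinct even parts), minus one. -/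
theorem result {F : Type*} [Field F] [Fintype F] {p : ℕ} [Fact p.Prime] [CharP F p] (hp : p ≠ 2) (m : ℕ) : Nat.card {C : ConjClasses ↥(Matrix.symplecticGroup (Fin m) F) // ∃ g : Matrix.symplecticGroup (Fin m) F, ConjClasses.mk g = C ∧ orderOf g = p} = (∑ μ ∈ Finset.univ.filter (fun μ : Nat.Partition (2 * m) => (∀ a ∈ μ.parts, a ≤ p) ∧ ∀ j : ℕ, Odd j → Even (μ.parts.count j)), 2 ^ ((μ.parts.toFinset.filter (fun j : ℕ => Even j)).card)) - 1 := by
  classical
  open CfsgLib.SympUnip in
  exact (by
    have hpp : p.Prime := Fact.out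
    have h2 : (2 : F) ≠ 0 := fun e => by
      have : (p : ℕ) ∣ 2 := (CharP.cast_eq_zero_iff F p 2).1 (by exact_mod_cast e)
      exact hp ((Nat.prime_dvd_prime_iff_eq hpp Nat.prime_two).1 this)
    let J : Matrix (Fin m ⊕ Fin m) (Fin m ⊕ Fin m) F := Matrix.J (Fin m) F
    let ones : Nat.Partition (2 * m) :=
      ⟨Multiset.replicate (2 * m) 1, fun hi => by rw [Multiset.eq_of_mem_replicate hi]; exact one_pos, by simp⟩
    have hones : ∀ μ : Nat.Partition (2 * m), μ = ones ↔ ∀ a ∈ μ.parts, a ≤ 1 := fun μ => by
      refine ⟨fun h a ha => ?_, fun h => Nat.Partition.ext ?_⟩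
      · subst h; exact (Multiset.eq_of_mem_replicate ha).le
      · have h1 : μ.parts = Multiset.replicate μ.parts.card 1 :=
          Multiset.eq_replicate_card.2 fun a ha => by have := h a ha; have := μ.parts_pos ha; omega
        have h3 := μ.parts_sum
        rw [h1, Multiset.sum_replicate, smul_eq_mul, mul_one] at h3
        show μ.parts = Multiset.replicate (2 * m) 1
        exact h1.trans (congrArg (fun k => Multiset.replicate k 1) h3)
    let P : Matrix.symplecticGroup (Fin m) F → Prop := fun x => orderOf x = p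
    have hP : ∀ x, P x ↔ (x.1 - 1) ^ p = 0 ∧ x.1 ≠ 1 := fun x => by
      show orderOf x = p ↔ _
      rw [orderOf_eq_prime_iff, ← pow_char_eq_one_iff, Subtype.ext_iff, ne_eq, Subtype.ext_iff]
      rfl
    have hunit : ∀ x, P x → IsUnit (x.1 + 1) := fun x hx => isUnit_add_one h2 ⟨p, ((hP x).1 hx).1⟩
    have hskew : ∀ x, P x → (cay x.1).transpose * J = -(J * cay x.1) := fun x hx =>
      cay_skew (hunit x hx) (SymplecticGroup.mem_iff'.1 x.2)
    have hnil : ∀ x, P x → IsNilpotent (cay x.1) := fun x hx =>
      ⟨p, (cay_pow_eq_zero_iff (hunit x hx) p).2 ((hP x).1 hx).1⟩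
    let inv : Matrix.symplecticGroup (Fin m) F → Nat.Partition (2 * m) × Finset ℕ := fun x =>
      if h : ∃ b, HasInv (cay x.1) b then h.choose else (ones, ∅)
    have hinv : ∀ x, P x → HasInv (cay x.1) (inv x) := fun x hx => by
      have h := exists_hasInv (hnil x hx)
      show HasInv _ (dite _ _ _)
      rw [dif_pos h]
      exact h.choose_spec
    let V : Nat.Partition (2 * m) × Finset ℕ → Prop := fun b =>
      ((∀ a ∈ b.1.parts, a ≤ p) ∧ ∀ j : ℕ, Odd j → Even (b.1.parts.count j)) ∧ b.1 ≠ ones ∧ b.2 ⊆ evenParts b.1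
    rw [show Nat.card {C : ConjClasses ↥(Matrix.symplecticGroup (Fin m) F) //
      ∃ g : Matrix.symplecticGroup (Fin m) F, ConjClasses.mk g = C ∧ orderOf g = p} = Nat.card {b // V b} from
      CfsgLib.PrimeClasses.card_classes P inv V ?_ ?_ ?_ ?_]
    · let T : Finset (Σ _ : Nat.Partition (2 * m), Finset ℕ) :=
        ((Finset.univ.filter (fun μ : Nat.Partition (2 * m) =>
          (∀ a ∈ μ.parts, a ≤ p) ∧ ∀ j : ℕ, Odd j → Even (μ.parts.count j))).erase ones).sigma
          fun μ => (evenParts μ).powerset
      have e : {b // V b} ≃ {s // s ∈ T} :=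
        { toFun := fun b => ⟨⟨b.1.1, b.1.2⟩, by
            simp only [T, Finset.mem_sigma, Finset.mem_erase, Finset.mem_filter, Finset.mem_univ, true_and,
              Finset.mem_powerset]
            exact ⟨⟨b.2.2.1, b.2.1⟩, b.2.2.2⟩⟩
          invFun := fun s => ⟨(s.1.1, s.1.2), by
            have h := s.2
            simp only [T, Finset.mem_sigma, Finset.mem_erase, Finset.mem_filter, Finset.mem_univ, true_and,
              Finset.mem_powerset] at h
            exact ⟨h.1.2, h.1.1, h.2⟩⟩
          left_inv := fun _ => rfl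
          right_inv := fun _ => rfl }
      rw [Nat.card_congr e, Nat.card_eq_fintype_card, Fintype.card_coe, Finset.card_sigma]
      simp only [Finset.card_powerset]
      have hmem : ones ∈ Finset.univ.filter (fun μ : Nat.Partition (2 * m) =>
          (∀ a ∈ μ.parts, a ≤ p) ∧ ∀ j : ℕ, Odd j → Even (μ.parts.count j)) := by
        refine Finset.mem_filter.2 ⟨Finset.mem_univ _, fun a ha => ?_, fun j _ => ?_⟩
        · rw [Multiset.eq_of_mem_replicate ha]; exact hpp.one_lt.le
        · show Even ((Multiset.replicate (2 * m) 1).count j)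
          rw [Multiset.count_replicate]
          split_ifs
          · exact even_two_mul m
          · exact Even.zero
      rw [← Finset.sum_erase_add _ _ hmem]
      have he : (evenParts ones).card = 0 := by
        rw [Finset.card_eq_zero, evenParts, Finset.filter_eq_empty_iff]
        intro a ha
        rw [Multiset.eq_of_mem_replicate (Multiset.mem_toFinset.1 ha)]
        exact Nat.not_even_one
      unfold evenParts at he ⊢
      rw [he, pow_zero, Nat.add_sub_cancel]
    · intro x y hx hxy
      obtain ⟨c, rfl⟩ := isConj_iff.1 hxy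
      have hCD : c.1 * (c⁻¹).1 = 1 := congrArg Subtype.val (mul_inv_cancel c)
      have hDC : (c⁻¹).1 * c.1 = 1 := congrArg Subtype.val (inv_mul_cancel c)
      have hy : P (c * x * c⁻¹) := (orderOf_injective (MulAut.conj c).toMonoidHom (MulEquiv.injective _) x).trans hx
      have e : (c * x * c⁻¹).1 = c.1 * x.1 * (c⁻¹).1 := rfl
      have hk := hskew _ hy
      have hi := hinv _ hy
      have hj := (hinv x hx).conj hCD hDC (SymplecticGroup.mem_iff'.1 c.2)
      rw [e, (cay_conj (hunit x hx) hCD hDC).2] at hk hi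
      exact HasInv.eq hk hj hi
    · intro x y hx hy h
      obtain ⟨C, D, hCD, hDC, hC, hN⟩ :=
        exists_conj_of_hasInv (p := p) hp h2 (hskew x hx) (hskew y hy) (hinv x hx) (h ▸ hinv y hy)
      let c : Matrix.symplecticGroup (Fin m) F := ⟨C, SymplecticGroup.mem_iff'.2 hC⟩
      refine isConj_iff.2 ⟨c, Subtype.ext ?_⟩
      have hinvc : (c⁻¹).1 = D := by
        calc (c⁻¹).1 = (c⁻¹).1 * (C * D) := by rw [hCD, mul_one]
          _ = D := by
            rw [← mul_assoc, show (c⁻¹).1 * C = 1 from congrArg Subtype.val (inv_mul_cancel c), one_mul]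
      show C * x.1 * (c⁻¹).1 = y.1
      rw [hinvc]
      exact cay_injective h2 (cay_conj (hunit x hx) hCD hDC).1 (hunit y hy)
        (by rw [(cay_conj (hunit x hx) hCD hDC).2, hN])
    · intro x hx
      obtain ⟨hc, hs⟩ := (hinv x hx).valid h2 (hskew x hx)
      refine ⟨⟨((hinv x hx).pow_eq_zero_iff p).1 ((cay_pow_eq_zero_iff (hunit x hx) p).2 ((hP x).1 hx).1), hc⟩,
        fun h1 => ((hP x).1 hx).2 (sub_eq_zero.1 ?_), hs⟩
      have := ((hinv x hx).pow_eq_zero_iff 1).2 ((hones _).1 h1)
      simpa using (cay_pow_eq_zero_iff (hunit x hx) 1).1 this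
    · rintro b ⟨⟨hle, hc⟩, hne, hs⟩
      obtain ⟨N, hN, hNs, hI⟩ := exists_of_valid (F := F) h2 b hc hs
      obtain ⟨X, hX, hXu, hXN⟩ := exists_of_skew h2 hN hNs
      let x : Matrix.symplecticGroup (Fin m) F := ⟨X, SymplecticGroup.mem_iff'.2 hX⟩
      have hx : P x := (hP x).2 ⟨(cay_pow_eq_zero_iff hXu p).1 (by rw [hXN]; exact (hI.pow_eq_zero_iff p).2 hle),
        fun h1 => hne ((hones _).2 ((hI.pow_eq_zero_iff 1).1 (by
          rw [← hXN]; exact (cay_pow_eq_zero_iff hXu 1).2 (by rw [show X = 1 from h1, sub_self, pow_one]))))⟩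
      exact ⟨x, hx, (hinv x hx).eq (hskew x hx) (hXN.symm ▸ hI)⟩)

end Cfsg.Agent.S2676
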