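import Cfsg.Statements.S2677
import Cfsg.Agent.Lib.AutPSU.Lang

set_option autoImplicit false
open Cfsg CfsgLib.AutPSU CfsgLib.FieldGalois

namespace Cfsg.Agent.S2677

/-- Centraliser of a field automorphism of odd prime order in PGU_n(q): let q = q₀^r with r an odd prime, K the field with q² elements and σ a field automorphism of K of order r (fixed field of order q₀²). The elements g of GU_n(q) whose entrywise image under σ is a scalar multiple of g — those whose coset modulo the q + 1 unitary scalars is fixed by σ — number (q + 1)/(q₀ + 1) · |GU_n(q₀)|; equivalently the centraliser in PGU_n(q) of the induced automorphism has the order of PGU_n(q₀). -/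
theorem result {K : Type*} [Field K] [Fintype K] {q₀ q r n : ℕ} (hr : r.Prime) (hr2 : r ≠ 2) (hn : 1 ≤ n) (hq : q = q₀ ^ r) (hK : Fintype.card K = q ^ 2) (σ : K ≃+* K) (hσ : orderOf σ = r) : (Nat.card {g : ↥(Cfsg.GU n K q) // ∃ c : K, c ≠ 0 ∧ ((g : GL (Fin n) K) : Matrix (Fin n) (Fin n) K).map σ = c • ((g : GL (Fin n) K) : Matrix (Fin n) (Fin n) K)} : ℤ) = ((q + 1) / (q₀ + 1) : ℕ) * ((q₀ : ℤ) ^ (n * (n - 1) / 2) * ∏ i : Fin n, ((q₀ : ℤ) ^ ((i : ℕ) + 1) - (-1) ^ ((i : ℕ) + 1))) := by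
  have hodd : Odd (orderOf σ) := hσ ▸ hr.odd_of_ne_two hr2
  have hq0 : q = q₀ ^ orderOf σ := hσ ▸ hq
  have := Fintype.ofFinite (fixedSub σ)
  have hK0 : Fintype.card (fixedSub σ) = q₀ ^ 2 := by
    rw [← Nat.card_eq_fintype_card, natCard_fixed hK σ hq0]
  have hq2 := CfsgLib.ClassicalGroups.herm_two_le hK0
  rw [card_map_eq_smul hK hn hodd hq0 (fixedSub σ).subtype
    (fun y => ⟨fun h => ⟨⟨y, h⟩, rfl⟩, fun ⟨a, ha⟩ => ha ▸ a.2⟩),
    CfsgLib.ClassicalGroups.card_GU hK0]
  push_cast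
  congr 2
  rw [← Fin.prod_univ_eq_prod_range]
  refine Finset.prod_congr rfl fun i _ => ?_
  rcases Nat.even_or_odd (i : ℕ) with h | h
  · rw [if_pos h, h.add_one.neg_one_pow]
    push_cast; ring
  · rw [if_neg (Nat.not_even_iff_odd.mpr h), h.add_one.neg_one_pow,
      Nat.cast_sub (Nat.one_le_pow _ _ (by omega))]
    push_cast; ring

end Cfsg.Agent.S2677
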