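import Cfsg.Statements.S2682
import Cfsg.Agent.Lib.Sp.InvolSpCount

set_option autoImplicit false
open Cfsg

namespace Cfsg.Agent.S2682

/-- Centraliser order of an involution t of Sp_2m(q), q even, with s = rank(t − 1) even and f(v, tv) ≠ 0 for some v, f the symplectic form (type c_s): |C(t)| = q^(2ms − (3s² − 3s)/2 − 1) · |Sp_(s−2)(q)| · |Sp_(2m−2s)(q)|. -/
theorem result {F : Type*} [Field F] [Fintype F] [CharP F 2] {q : ℕ} (hF : Fintype.card F = q) {m s : ℕ} (t : Matrix.symplecticGroup (Fin m) F) (ht : t ^ 2 = 1) (hs : ((t : Matrix (Fin m ⊕ Fin m) (Fin m ⊕ Fin m) F) - 1).rank = s) (heven : Even s) (hna : ∃ v : Fin m ⊕ Fin m → F, Cfsg.sympForm m F v ((t : Matrix (Fin m ⊕ Fin m) (Fin m ⊕ Fin m) F).mulVec v) ≠ 0) : Nat.card ↥(Subgroup.centralizer ({t} : Set ↥(Matrix.symplecticGroup (Fin m) F))) = q ^ (2 * m * s - (3 * s ^ 2 - 3 * s) / 2 - 1) * ((q : ℕ) ^ (((s - 2) / 2) ^ 2) * ∏ i : Fin ((s - 2) /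 2), (q ^ (2 * ((i : ℕ) + 1)) - 1)) * ((q : ℕ) ^ ((m - s) ^ 2) * ∏ i : Fin (m - s), (q ^ (2 * ((i : ℕ) + 1)) - 1)) := by
  classical
  have hq : t * t = 1 := by rw [← pow_two]; exact ht
  rw [← CfsgLib.InvolCent.nil_range] at hs
  have hna' : ¬ (Cfsg.Agent.InvolForm57.spModel m F).IsAltAt t := fun h => by
    obtain ⟨v, hv⟩ := hna
    exact hv ((CfsgLib.InvolCent.altAt_iff t).1 h v)
  have hpos : 0 < s := by
    rw [← hs]
    refine (Cfsg.Agent.InvolForm57.spModel m F).rk_pos fun h => ?_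
    subst h
    obtain ⟨v, hv⟩ := hna
    exact hv ((CfsgLib.InvolCent.altAt_iff (1 : Matrix.symplecticGroup (Fin m) F)).1
      (fun x => by simp [Cfsg.Agent.InvolForm57.Model.nil]) v)
  obtain ⟨w, hw, -, hgw⟩ := (Cfsg.Agent.InvolForm57.spModel m F).normal_id hq hna'
  have hsm : s ≤ m := by
    rw [← hs, ← Fintype.card_fin ((Cfsg.Agent.InvolForm57.spModel m F).rk t)]
    exact Cfsg.Agent.InvolForm57.card_le_of_fam CfsgLib.Sp.sympBilin_nondegenerate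
      (by rw [Module.finrank_fintype_fun_eq_card, Fintype.card_sum, Fintype.card_fin, two_mul]) hw
  rw [CfsgLib.InvolCent.card_centralizer hF (π := id) (fun _ => rfl) 1 (fun i => if_pos rfl) hw hgw (s := s)
    (by rw [Fintype.card_fin, hs]), CfsgLib.InvolCent.permM_id]
  obtain ⟨r, hr⟩ : ∃ r, s = 2 * r + 2 := by
    obtain ⟨k, hk⟩ := heven
    exact ⟨k - 1, by omega⟩
  rw [(CfsgLib.InvolCent.card_iso_one hF).2 r (hs.trans hr), CfsgLib.InvolCent.card_sp_fin hF,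
    show (s - 2) / 2 = r by omega,
    ← mul_assoc (q ^ (2 * m * s - (3 * s ^ 2 - s) / 2)), ← pow_add]
  congr 2
  congr 1
  subst hr
  obtain ⟨j, rfl⟩ : ∃ j, m = j + (2 * r + 2) := ⟨m - (2 * r + 2), by omega⟩
  have h1 : (2 * r + 2) ^ 2 = 4 * (r * r) + 8 * r + 4 := by ring
  have h2 : 2 * (j + (2 * r + 2)) * (2 * r + 2) = 4 * (j * r) + 4 * j + 8 * (r * r) + 16 * r + 8 := by ring
  rw [h1, h2]
  omega

end Cfsg.Agent.S2682
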