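import Cfsg.Statements.S2683
import Cfsg.Agent.Lib.Orth.InvolOrthCount
-- import your own Cfsg.Agent.* helpers here

set_option autoImplicit false
open Cfsg

namespace Cfsg.Agent.S2683

/-- For the hyperbolic form Σ x_j y_j on F^(2m) over a finite field with q elements, q even (excluding m = 2 over the field of two elements), and an involution x of the orthogonal group with s = rank(x − 1) odd (type b_s; such x lie outside Ω): the elements of Ω (the commutator subgroup of the orthogonal group) commuting with x number q^(2m(s−1) − (3s² − 3s)/2) · |Sp_(s−1)(q)| · |Sp_(2m−2s)(q)|, where |Sp_2k(q)| = q^(k²) Π_(i=1)^k (q^(2i) − 1). -/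
theorem result {F : Type*} [Field F] [Fintype F] [CharP F 2] {q : ℕ} (hF : Fintype.card F = q) {m s : ℕ} (h : Fintype.card F ≠ 2 ∨ m ≠ 2) (x : ↥(Cfsg.isometryGroup F (Cfsg.quadFormPlus m F))) (hx : x ^ 2 = 1) (hs : (((x : Matrix.GeneralLinearGroup (Fin m ⊕ Fin m) F) : Matrix (Fin m ⊕ Fin m) (Fin m ⊕ Fin m) F) - 1).rank = s) (hodd : Odd s) : Nat.card {g : ↥(Cfsg.Omega F (Cfsg.quadFormPlus m F)) // (g : ↥(Cfsg.isometryGroup F (Cfsg.quadFormPlus m F))) * x = x * (g : ↥(Cfsg.isometryGroup F (Cfsg.quadFormPlus m F)))} = q ^ (2 * m * (s - 1) - (3 * s ^ 2 - 3 * s) / 2) * ((q : ℕ) ^ (((s - 1) / 2) ^ 2) * ∏ i : Fin ((s - 1) / 2), (q ^ (2 * ((i : ℕ) + 1)) - 1)) * ((q : ℕ) ^ ((m - s) ^ 2) * ∏ i : Fin (m - s), (q ^ (2 * ((i : ℕ) + 1)) - 1)) := by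
  classical
  revert h hx hs hodd
  revert x
  rw [← CfsgLib.Orth.plusQ_coe]
  intro x h hx hs hodd
  have hq : x * x = 1 := by rw [← pow_two]; exact hx
  have hgen := CfsgLib.InvolOrth.gen_plus (F := F) (m := m) h
  have hQ := CfsgLib.Orth.plusQ_nondegenerate (F := F) m
  have hι : Fintype.card (Fin m ⊕ Fin m) = 2 * m := by rw [Fintype.card_sum, Fintype.card_fin, two_mul]
  rw [← CfsgLib.InvolOrth.nil_range_orth] at hs
  obtain ⟨r, hr⟩ := hodd
  have hna : ¬ (Cfsg.Agent.InvolForm57.oModel (CfsgLib.Orth.plusQ m F) hQ).IsAltAt x := fun ha => by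
    obtain ⟨r', w, hr', -⟩ := (Cfsg.Agent.InvolForm57.oModel (CfsgLib.Orth.plusQ m F) hQ).normal_swap hq ha
    omega
  have hne : x ≠ 1 := fun h1 => hna fun v => by subst h1; simp [Cfsg.Agent.InvolForm57.Model.nil]
  obtain ⟨w, hw, -, hgw⟩ := (Cfsg.Agent.InvolForm57.oModel (CfsgLib.Orth.plusQ m F) hQ).normal_id hq hna
  revert w
  rw [show (Cfsg.Agent.InvolForm57.oModel (CfsgLib.Orth.plusQ m F) hQ).rk x = 2 * r + 1 by omega]
  intro w hw hgw
  obtain ⟨hsm, hC⟩ := CfsgLib.InvolOrth.card_centralizer_id hF hw hgw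
  have h2 := CfsgLib.InvolOrth.two_mul_omega_centralizer x
    (Cfsg.Agent.InvolForm57.exists_odd_centralizer hQ hgen hι hq hne (Or.inl hna)) hgen
  rw [hC] at h2
  refine (Nat.eq_of_mul_eq_mul_left two_pos h2).trans ?_
  subst hr
  rw [(CfsgLib.InvolCent.card_iso_one hF).1 r rfl, CfsgLib.InvolCent.card_sp_fin hF,
    show (2 * r + 1 - 1) / 2 = r by omega]
  obtain ⟨j, rfl⟩ : ∃ j, m = j + (2 * r + 1) := ⟨m - (2 * r + 1), by omega⟩
  rw [Nat.add_sub_cancel]
  have he : 2 * (j + (2 * r + 1)) * (2 * r + 1 - 1) - (3 * (2 * r + 1) ^ 2 - 3 * (2 * r + 1)) / 2 =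
      2 * (j * (2 * r)) + (2 * r + (2 * r).choose 2) := by
    have hc := CfsgLib.InvolCent.two_mul_choose_two (2 * r)
    rw [Nat.add_sub_cancel, show 2 * (j + (2 * r + 1)) * (2 * r) = 4 * (j * r) + 8 * (r * r) + 4 * r by ring,
      show (2 * r + 1) ^ 2 = 4 * (r * r) + 4 * r + 1 by ring, show j * (2 * r) = 2 * (j * r) by ring]
    rw [show 2 * r * (2 * r) = 4 * (r * r) by ring] at hc
    omega
  rw [he, pow_add q (j ^ 2)]
  ring

end Cfsg.Agent.S2683
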