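import Cfsg.Statements.S2685
import Cfsg.Agent.Lib.Orth.InvolOrthCount
-- import your own Cfsg.Agent.* helpers here

set_option autoImplicit false
open Cfsg

namespace Cfsg.Agent.S2685

/-- For the hyperbolic form Q = Σ x_j y_j on F^(2m) over a finite field with q elements, q even (excluding m = 2 over the field of two elements), and an involution x of the orthogonal group with s = rank(x − 1) even and Q not vanishing on the image of x − 1 (f(v, xv) ≠ 0 for some v, where f(u, w) = Q(u + w) − Q(u) − Q(w) is the bilinear form of Q; type c_s, which lies in Ω): its centraliser in Ω (the commutator subgroup of the orthogonal group) has order q^(2m(s−1) − (3s² − 5s)/2 − 1) · |Sp_(s−2)(q)| · |Sp_(2m−2s)(q)|. -/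
theorem result {F : Type*} [Field F] [Fintype F] [CharP F 2] {q : ℕ} (hF : Fintype.card F = q) {m s : ℕ} (h : Fintype.card F ≠ 2 ∨ m ≠ 2) (x : ↥(Cfsg.isometryGroup F (Cfsg.quadFormPlus m F))) (hx : x ^ 2 = 1) (hs : (((x : Matrix.GeneralLinearGroup (Fin m ⊕ Fin m) F) : Matrix (Fin m ⊕ Fin m) (Fin m ⊕ Fin m) F) - 1).rank = s) (heven : Even s) (hna : ∃ v : Fin m ⊕ Fin m → F, Cfsg.quadFormPlus m F ((((x : Matrix.GeneralLinearGroup (Fin m ⊕ Fin m) F) : Matrix (Fin m ⊕ Fin m) (Fin m ⊕ Fin m) F) - 1).mulVec v) ≠ 0) : Nat.card {g : ↥(Cfsg.Omega F (Cfsg.quadFormPlus m F)) // (g : ↥(Cfsg.isometryGroup F (Cfsg.quadFormPlus m F))) * x = x * (g : ↥(Cfsg.isometryGroup F (Cfsg.quadFormPlus m F)))} = q ^ (2 * m * (s - 1) - (3 * s ^ 2 - 5 * s) / 2 - 1) * ((q : ℕ) ^ (((s - 2) / 2) ^ 2) * ∏ i : Fin ((s - 2) / 2), (q ^ (2 * ((i : ℕ) + 1)) - 1)) * ((q : ℕ) ^ ((m - s) ^ 2) * ∏ i : Fin (m - s), (q ^ (2 * ((i : ℕ) + 1)) - 1)) :=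 by
  classical
  revert h hx hs heven hna
  revert x
  rw [← CfsgLib.Orth.plusQ_coe]
  intro x h hx hs heven hna
  have hq : x * x = 1 := by rw [← pow_two]; exact hx
  have hgen := CfsgLib.InvolOrth.gen_plus (F := F) (m := m) h
  have hQ := CfsgLib.Orth.plusQ_nondegenerate (F := F) m
  have hι : Fintype.card (Fin m ⊕ Fin m) = 2 * m := by rw [Fintype.card_sum, Fintype.card_fin, two_mul]
  rw [← CfsgLib.InvolOrth.nil_range_orth] at hs
  have hna' : ¬ (Cfsg.Agent.InvolForm57.oModel (CfsgLib.Orth.plusQ m F) hQ).IsAltAt x := fun ha => by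
    obtain ⟨v, hv⟩ := hna
    exact hv ((CfsgLib.InvolOrth.altAt_orth_iff hq).1 ha v)
  have hne : x ≠ 1 := fun h1 => hna' fun v => by subst h1; simp [Cfsg.Agent.InvolForm57.Model.nil]
  have hpos : 0 < s := hs ▸ (Cfsg.Agent.InvolForm57.oModel (CfsgLib.Orth.plusQ m F) hQ).rk_pos hne
  obtain ⟨r, hr⟩ : ∃ r, s = 2 * r + 1 + 1 := by
    obtain ⟨k, hk⟩ := heven
    exact ⟨k - 1, by omega⟩
  obtain ⟨w, hw, -, hgw⟩ := (Cfsg.Agent.InvolForm57.oModel (CfsgLib.Orth.plusQ m F) hQ).normal_id hq hna'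
  revert w
  rw [show (Cfsg.Agent.InvolForm57.oModel (CfsgLib.Orth.plusQ m F) hQ).rk x = 2 * r + 1 + 1 by omega]
  intro w hw hgw
  obtain ⟨hsm, hC⟩ := CfsgLib.InvolOrth.card_centralizer_id hF hw hgw
  have h2 := CfsgLib.InvolOrth.two_mul_omega_centralizer x
    (Cfsg.Agent.InvolForm57.exists_odd_centralizer hQ hgen hι hq hne (Or.inl hna')) hgen
  rw [hC] at h2
  refine (Nat.eq_of_mul_eq_mul_left two_pos h2).trans ?_
  subst hr
  rw [(CfsgLib.InvolCent.card_iso_one hF).2 r rfl, CfsgLib.InvolCent.card_sp_fin hF,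
    show (2 * r + 1 + 1 - 2) / 2 = r by omega]
  obtain ⟨j, rfl⟩ : ∃ j, m = j + (2 * r + 1 + 1) := ⟨m - (2 * r + 1 + 1), by omega⟩
  rw [Nat.add_sub_cancel]
  have he : 2 * (j + (2 * r + 1 + 1)) * (2 * r + 1 + 1 - 1) -
      (3 * (2 * r + 1 + 1) ^ 2 - 5 * (2 * r + 1 + 1)) / 2 - 1 =
      (2 * r + 1) + (2 * (j * (2 * r + 1)) + ((2 * r + 1) + (2 * r + 1).choose 2)) := by
    have hc := CfsgLib.InvolCent.two_mul_choose_two (2 * r + 1)
    rw [Nat.add_sub_cancel,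
      show 2 * (j + (2 * r + 1 + 1)) * (2 * r + 1) = 4 * (j * r) + 2 * j + 8 * (r * r) + 12 * r + 4 by ring,
      show (2 * r + 1 + 1) ^ 2 = 4 * (r * r) + 8 * r + 4 by ring,
      show j * (2 * r + 1) = 2 * (j * r) + j by ring]
    rw [show (2 * r + 1) * (2 * r + 1) = 4 * (r * r) + 4 * r + 1 by ring] at hc
    omega
  rw [he, pow_add q (j ^ 2), pow_add q (2 * r + 1)]
  ring

end Cfsg.Agent.S2685
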