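import Cfsg.Statements.S2686
import Cfsg.Agent.Lib.AutPSL.BalanceGraph

set_option autoImplicit false
open Cfsg CfsgLib.AutPSL CfsgLib.AutBalance CfsgLib.FieldGalois

namespace Cfsg.Agent.S2686

theorem conj_field_sq {n : ℕ} {F : Type*} [Field F] (g : GL (Fin n) F) (σ : F ≃+* F) :
    graphAut g σ * graphAut g σ = conjAut (g * glField σ (glIota g)) * fieldAut (σ * σ) := by
  show graphAut g σ * (conjAut g * (fieldAut σ * iotaAut)) = _
  rw [← mul_assoc, graph_mul_conj, mul_assoc, map_mul fieldAut]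
  congr 1
  calc fieldAut σ * iotaAut * (fieldAut σ * iotaAut)
      = fieldAut σ * (iotaAut * fieldAut σ) * iotaAut := by group
    _ = fieldAut σ * (fieldAut σ * iotaAut) * iotaAut := by rw [iotaAut_mul_fieldAut]
    _ = fieldAut σ * fieldAut σ * (iotaAut * iotaAut) := by group
    _ = _ := by rw [iotaAut_sq, mul_one]

/-- The field type. -/
theorem field_case {F : Type*} [Field F] [Fintype F] {n : ℕ} (hn : 2 ≤ n)
    (A : Subgroup (MulAut (PSLG n F))) (hinn : ∀ k : PSLG n F, MulAut.conj k ∈ A)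
    {p : ℕ} [Fact p.Prime] (hpF : (p : F) ≠ 0) (g : GL (Fin n) F) (σ : F ≃+* F)
    (hσ : orderOf σ = p) (hx : (conjAut g * fieldAut σ : MulAut (PSLG n F)) ^ p = 1) :
    pPrimeCore p ↥(A ⊓ Subgroup.centralizer {conjAut g * fieldAut σ}) ≠ ⊥ ↔
      Nat.Coprime p (Nat.card (fixedPts (conjAut g * fieldAut σ : MulAut (PSLG n F)))) := by
  have hp := (Fact.out : p.Prime)
  obtain ⟨k, hk⟩ := conj_of_pow_eq_one hn σ g (by rw [hσ]; exact hx)
  have hinj := pslConj_injective (F := F) hn
  set x : MulAut (PSLG n F) := conjAut g * fieldAut σ with hxdef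
  let e : fixedPts (fieldAut (n := n) σ) ≃* fixedPts x :=
    { toFun := fun y => ⟨conjAut k y.1, by
        show x (conjAut k y.1) = conjAut k y.1
        rw [hk, MulAut.mul_apply, MulAut.mul_apply, MulAut.inv_apply_self,
          show fieldAut σ y.1 = y.1 from y.2]⟩
      invFun := fun y => ⟨(conjAut k)⁻¹ y.1, by
        show fieldAut σ ((conjAut k)⁻¹ y.1) = (conjAut k)⁻¹ y.1
        apply (conjAut k).injective
        rw [MulAut.apply_inv_self]
        have h' := (DFunLike.congr_fun hk y.1).symm.trans y.2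
        rw [MulAut.mul_apply, MulAut.mul_apply] at h'
        exact h'⟩
      left_inv := fun y => Subtype.ext (MulAut.inv_apply_self _ _ _)
      right_inv := fun y => Subtype.ext (MulAut.apply_inv_self _ _ _)
      map_mul' := fun a b => Subtype.ext (map_mul (conjAut k) a.1 b.1) }
  have hroot : ∀ i j : Fin n, i ≠ j → ∀ a, σ a = a →
      rootEl (ev i) (ev j) a ∈ fixedPts (fieldAut (n := n) σ) := fun i j hij a ha => by
    show fieldAut σ (rootEl (ev i) (ev j) a) = rootEl (ev i) (ev j) a
    rw [fieldAut_rootEl_ev σ hij, ha]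
  constructor
  · intro h
    by_contra hcop
    apply h
    have hdvd : p ∣ Nat.card (fixedPts (fieldAut (n := n) σ)) := by
      rw [Nat.card_congr e.toEquiv]
      exact (hp.coprime_iff_not_dvd.not_left.mp hcop)
    refine core_eq_bot hinj A hinn x hx
      (CfsgLib.PCore.pPrimeCore_eq_bot_of_equiv e (core_fixedPts_field hn hpF σ hdvd)) ?_
    intro u hcomm hfix
    obtain ⟨τ, ⟨j, hj⟩, hτ⟩ := eq_field_of_fixes hn σ ((conjAut k)⁻¹ * u * conjAut k)
      fun i l hil a ha => by
        have h1 := hfix _ (e ⟨_, hroot i l hil a ha⟩).2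
        change u (conjAut k (rootEl (ev i) (ev l) a)) = conjAut k (rootEl (ev i) (ev l) a) at h1
        rw [MulAut.mul_apply, MulAut.mul_apply, h1, MulAut.inv_apply_self]
    refine ⟨j, ?_⟩
    show x ^ j = u
    have hj' : σ ^ j = τ := hj
    rw [hk, conj_zpow, ← map_zpow, hj', ← hτ]
    group
  · intro hcop
    refine core_ne_bot hinj A hinn x ?_ hcop
    set i : Fin n := ⟨0, by omega⟩
    set l : Fin n := ⟨1, by omega⟩
    have hil : i ≠ l := by simp [i, l]
    refine ⟨conjAut k (rootEl (ev i) (ev l) 1), fun h => ?_, (e ⟨_, hroot i l hil 1 (map_one σ)⟩).2⟩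
    exact rootEl_ne_one (by omega) (ev_ne_zero (F := F) i) (ev_ne_zero l) (ev_dot _ _ hil.symm)
      one_ne_zero ((map_eq_one_iff _ (conjAut k).injective).mp h)

/-- The graph and graph-field type. -/
theorem graph_case {F : Type*} [Field F] [Fintype F] {n : ℕ} (hn : 3 ≤ n)
    (A : Subgroup (MulAut (PSLG n F))) (hinn : ∀ k : PSLG n F, MulAut.conj k ∈ A)
    (h2 : (2 : F) ≠ 0) (g₀ : GL (Fin n) F) (σ : F ≃+* F)
    (hx : (graphAut g₀ σ : MulAut (PSLG n F)) ^ 2 = 1) :
    pPrimeCore 2 ↥(A ⊓ Subgroup.centralizer {graphAut g₀ σ}) = ⊥ := by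
  have hn2 : 2 ≤ n := by omega
  have h1 := hx
  rw [pow_two, conj_field_sq] at h1
  obtain ⟨hσσ, c, hc⟩ := eq_of_conj_field_eq_one hn2 h1
  have hinv : ∀ a, σ (σ a) = a := fun a => DFunLike.congr_fun hσσ a
  obtain ⟨g, hgx, hg⟩ : ∃ g : GL (Fin n) F, graphAut g₀ σ = graphAut g σ ∧
      ((g : Matrix (Fin n) (Fin n) F).transpose.map σ = g ∨
        (σ = 1 ∧ (g : Matrix (Fin n) (Fin n) F).transpose = -g)) := by
    by_cases hσ : σ = 1
    · subst hσ
      refine ⟨g₀, rfl, ?_⟩
      have hg : (g₀ : Matrix (Fin n) (Fin n) F) = (c : F) • (g₀ : Matrix (Fin n) (Fin n) F).transpose := by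
        have e : g₀ = Matrix.GeneralLinearGroup.scalar (Fin n) c * (glField 1 (glIota g₀))⁻¹ :=
          eq_mul_inv_of_mul_eq hc
        conv_lhs => rw [e]
        rw [Units.val_mul, ← map_inv, glField_coe, glIota_inv_coe, Matrix.GeneralLinearGroup.coe_scalar]
        ext a b
        simp [Matrix.diagonal_mul]
      have hgt : (g₀ : Matrix (Fin n) (Fin n) F).transpose = (c : F) • (g₀ : Matrix (Fin n) (Fin n) F) := by
        conv_lhs => rw [hg, Matrix.transpose_smul, Matrix.transpose_transpose]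
      have hcc : (c : F) * c = 1 := by
        by_contra hne
        have h3 : ((c : F) * c - 1) • (g₀ : Matrix (Fin n) (Fin n) F) = 0 := by
          rw [sub_smul, one_smul, ← smul_smul, ← hgt, ← hg, sub_self]
        have h4 := g₀.isUnit
        rw [(smul_eq_zero.mp h3).resolve_left (sub_ne_zero.mpr hne), isUnit_zero_iff] at h4
        exact zero_ne_one (congrFun (congrFun h4 ⟨0, by omega⟩) ⟨0, by omega⟩ |>.trans (by simp) :
          (0 : F) = 1)
      rcases mul_self_eq_one_iff.mp hcc with hc1 | hc1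
      · left
        ext a b
        have := congrFun (congrFun hgt a) b
        rw [hc1, one_smul] at this
        simpa using this
      · right
        exact ⟨rfl, by rw [hgt, hc1, neg_one_smul]⟩
    · have hσ2 : orderOf σ = 2 := orderOf_eq_prime (by rw [pow_two]; exact hσσ) hσ
      obtain ⟨k, hk⟩ := conj_of_sq_eq_one_zeta hσ2 hn2 g₀ hx
      refine ⟨hermOf σ k, ?_, Or.inl (hermOf_fixed hσ2 k)⟩
      show conjAut g₀ * _ = _
      rw [hk, mul_assoc, ← map_inv conjAut k, zeta_mul_conjAut, ← mul_assoc, ← map_mul]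
      rw [hermOf, show glIota k⁻¹ = (glIota k)⁻¹ from eq_inv_of_mul_eq_one_left (by
        rw [← glIota_mul, inv_mul_cancel]; apply Units.ext; rw [glIota_coe]; simp), map_inv]
  rw [hgx] at hx ⊢
  obtain ⟨hG, hC⟩ : pPrimeCore 2 (fixedPts (graphAut g σ)) = ⊥ ∧
      ∀ (h : GL (Fin n) F) (τ : F ≃+* F),
        conjAut h * fieldAut τ * graphAut g σ = graphAut g σ * (conjAut h * fieldAut τ) →
        (∀ k ∈ fixedPts (graphAut g σ), (conjAut h * fieldAut τ : MulAut (PSLG n F)) k = k) →
        conjAut h * fieldAut τ = 1 := by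
    rcases hg with hg | ⟨rfl, hg⟩
    · exact graph_data hn g σ hinv h2 hg
    · exact ⟨skew_core hn g h2 hg, fun h τ _ hfix =>
        skew_hC hn2 g h2 hg h τ fun s hs => hfix _ (mk_mem_fixedPts hn2 g 1 hs)⟩
  refine core_eq_bot (pslConj_injective hn2) A hinn _ hx hG fun u hcomm hfix => ?_
  obtain ⟨h, τ, rfl | rfl⟩ := aut_psl_structure hn2 u
  · rw [hC h τ hcomm hfix]
    exact one_mem _
  · set x := graphAut g σ with hxdef
    have e : conjAut h * fieldAut τ * iotaAut * x =
        conjAut (h * glField τ (glIota g)) * fieldAut (τ * σ) := by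
      rw [hxdef, map_mul fieldAut, map_mul conjAut]
      calc conjAut h * fieldAut τ * iotaAut * (conjAut g * (fieldAut σ * iotaAut))
          = conjAut h * fieldAut τ * (iotaAut * conjAut g) * (fieldAut σ * iotaAut) := by group
        _ = conjAut h * (fieldAut τ * conjAut (glIota g)) * (iotaAut * fieldAut σ) * iotaAut := by
            rw [iotaAut_mul_conjAut]; group
        _ = conjAut h * (conjAut (glField τ (glIota g)) * fieldAut τ) * (fieldAut σ * iotaAut) * iotaAut := by
            rw [fieldAut_mul_conjAut, iotaAut_mul_fieldAut]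
        _ = conjAut h * conjAut (glField τ (glIota g)) * (fieldAut τ * fieldAut σ) * (iotaAut * iotaAut) := by
            group
        _ = _ := by rw [iotaAut_sq, mul_one]
    have h1 := hC _ _ (by rw [← e, ← mul_assoc x, ← hcomm]) (fun k hk => by
      rw [← e, MulAut.mul_apply, show x k = k from hk]
      exact hfix k hk)
    rw [← e] at h1
    rw [eq_inv_of_mul_eq_one_left h1]
    exact inv_mem (Subgroup.mem_zpowers x)

/-- A criterion for the failure of local balance in almost simple groups with linear socle. Let F be a finite field of characteristic r and K = PSL_n(F) (n ≥ 2) simple. Let A be a group of automorphisms of K containing all inner automorphisms (an almost simple group with socle K), and β ∈ A an automorphism of prime order p ≠ r that is not inner-diagonal (not induced by conjugation by an invertible matrix). Then the largest normal subgroup of C_A(β) of order prime to p is nontrivial if and only if β is the composite of an inner-diagonal automorphism with the automorphism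 induced by a field automorphism applied entrywise (β is of field type) and p does not divide the number of fixed points of β on K. -/
theorem result
    (F : Type*) [Field F] [Fintype F] (r : ℕ) [Fact r.Prime] [CharP F r] (n : ℕ) (hn : 2 ≤ n)
    (hK : IsSimpleGroup (Matrix.ProjectiveSpecialLinearGroup (Fin n) F))
    (𝒢 : Subgroup (MulAut (Matrix.ProjectiveSpecialLinearGroup (Fin n) F))) (hinn : ∀ k : Matrix.ProjectiveSpecialLinearGroup (Fin n) F, MulAut.conj k ∈ 𝒢)
    (p : ℕ) [Fact p.Prime] (hpr : p ≠ r) (β : MulAut (Matrix.ProjectiveSpecialLinearGroup (Fin n) F)) (hβ : β ∈ 𝒢) (hord : orderOf β = p)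
    (hnot : ¬ Cfsg.IsInnerDiagonalAutPSL β) :
    Cfsg.pPrimeCore p ↥(𝒢 ⊓ Subgroup.centralizer {β}) ≠ ⊥ ↔
      ((∃ γ φ : MulAut (Matrix.ProjectiveSpecialLinearGroup (Fin n) F), Cfsg.IsInnerDiagonalAutPSL γ ∧ Cfsg.IsFieldAutPSL φ ∧ β = φ.trans γ) ∧
        Nat.Coprime p (Nat.card ↥(MonoidHom.eqLocus β.toMonoidHom (MonoidHom.id (Matrix.ProjectiveSpecialLinearGroup (Fin n) F))))) := by
  have hp := (Fact.out : p.Prime)
  have hpF : (p : F) ≠ 0 := fun h => hpr
    ((Nat.prime_dvd_prime_iff_eq (Fact.out : r.Prime) hp).mp ((CharP.cast_eq_zero_iff F r p).mp h)).symm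
  have hβp : β ^ p = 1 := hord ▸ pow_orderOf_eq_one β
  by_cases hform : ∃ (g : GL (Fin n) F) (σ : F ≃+* F), β = conjAut g * fieldAut σ
  · obtain ⟨g, σ, rfl⟩ := hform
    have hσ1 : σ ≠ 1 := fun h => hnot (isInnerDiagonal_iff.mpr ⟨g, by rw [h, map_one, mul_one]⟩)
    have hσ : orderOf σ = p := by
      refine orderOf_eq_prime ?_ hσ1
      rw [conj_field_pow] at hβp
      exact (eq_of_conj_field_eq_one hn hβp).1
    have hfc := field_case hn 𝒢 hinn hpF g σ hσ hβp
    constructor
    · exact fun h => ⟨⟨conjAut g, fieldAut σ, isInnerDiagonal_iff.mpr ⟨g, rfl⟩,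
        isFieldAut_iff.mpr ⟨σ, rfl⟩, rfl⟩, hfc.mp h⟩
    · exact fun h => hfc.mpr h.2
  · obtain ⟨g, σ, e | e⟩ := aut_psl_structure hn β
    · exact absurd ⟨g, σ, e⟩ hform
    have hn3 : 3 ≤ n := by
      by_contra h3
      obtain rfl : n = 2 := by omega
      obtain ⟨w, hw⟩ := iotaAut_two (F := F)
      exact hform ⟨g * glField σ w, σ, by
        rw [e, ← hw, mul_assoc, fieldAut_mul_conjAut, ← mul_assoc, ← map_mul]⟩
    have hx : β = graphAut g σ := by rw [e, graphAut, mul_assoc]
    have hp2 : p = 2 := by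
      by_contra hne
      obtain ⟨j, hj⟩ := hp.odd_of_ne_two hne
      have h1 : β = (β * β) ^ (j + 1) := by
        rw [← pow_two, ← pow_mul, show 2 * (j + 1) = p + 1 by omega, pow_succ, hβp, one_mul]
      rw [hx, conj_field_sq, conj_field_pow, ← hx] at h1
      exact hform ⟨_, _, h1⟩
    subst hp2
    have h2 : (2 : F) ≠ 0 := by exact_mod_cast hpF
    have hbot : Cfsg.pPrimeCore 2 ↥(𝒢 ⊓ Subgroup.centralizer {β}) = ⊥ := by
      subst hx
      exact graph_case hn3 𝒢 hinn h2 g σ hβp
    constructor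
    · exact fun h => absurd hbot h
    · rintro ⟨⟨γ, φ, hγ, hφ, hβφ⟩, -⟩
      obtain ⟨g', rfl⟩ := isInnerDiagonal_iff.mp hγ
      obtain ⟨σ', rfl⟩ := isFieldAut_iff.mp hφ
      exact absurd ⟨g', σ', hβφ⟩ hform

end Cfsg.Agent.S2686
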