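import Cfsg.Statements.S2687
import Cfsg.Agent.Lib.AutPSU.BalanceGraph
import Cfsg.Agent.Lib.AutPSU.Predicates
import Mathlib.GroupTheory.FixedPointFree

set_option autoImplicit false
open Cfsg Matrix CfsgLib.AutPSU CfsgLib.AutBalance CfsgLib.FieldGalois CfsgLib.ClassicalGroups

namespace Cfsg.Agent.S2687

/-- The case of odd order. -/
theorem odd_case {F : Type*} [Field F] [Fintype F] {q q0 m : ℕ} (hF : Fintype.card F = q ^ 2)
    (hm : 1 ≤ m) (hs : m = 1 → 3 ≤ q)
    (A : Subgroup (MulAut (PSUG (m + 2) F q))) (hinn : ∀ k : PSUG (m + 2) F q, MulAut.conj k ∈ A)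
    {p : ℕ} [Fact p.Prime] (hp2 : p ≠ 2) (hpF : (p : F) ≠ 0) (g : GUG (m + 2) F q) (σ : F ≃+* F)
    (hσ : orderOf σ = p) (hq0 : q = q0 ^ p)
    (hx : (conjU g * fieldU σ : MulAut (PSUG (m + 2) F q)) ^ p = 1) :
    pPrimeCore p ↥(A ⊓ Subgroup.centralizer {conjU g * fieldU σ}) ≠ ⊥ ↔
      Nat.Coprime p (Nat.card (fixedPts (conjU g * fieldU σ : MulAut (PSUG (m + 2) F q)))) := by
  classical
  have hp := (Fact.out : p.Prime)
  have hodd : Odd (orderOf σ) := hσ ▸ hp.odd_of_ne_two hp2
  have hq0' : q = q0 ^ orderOf σ := by rw [hσ]; exact hq0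
  obtain ⟨k, hk⟩ := conj_of_pow_eq_one hF hm hodd hq0' g (by rw [hσ]; exact hx)
  have hinj := psuConj_injective hF hm
  set x : MulAut (PSUG (m + 2) F q) := conjU g * fieldU σ with hxdef
  let e : fixedPts (fieldU (n := m + 2) (q := q) σ) ≃* fixedPts x :=
    { toFun := fun y => ⟨conjU k y.1, by
        show x (conjU k y.1) = conjU k y.1
        rw [hk, MulAut.mul_apply, MulAut.mul_apply, MulAut.inv_apply_self,
          show fieldU σ y.1 = y.1 from y.2]⟩
      invFun := fun y => ⟨(conjU k)⁻¹ y.1, by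
        show fieldU σ ((conjU k)⁻¹ y.1) = (conjU k)⁻¹ y.1
        apply (conjU k).injective
        rw [MulAut.apply_inv_self]
        have h' := (DFunLike.congr_fun hk y.1).symm.trans y.2
        rw [MulAut.mul_apply, MulAut.mul_apply] at h'
        exact h'⟩
      left_inv := fun y => Subtype.ext (MulAut.inv_apply_self _ _ _)
      right_inv := fun y => Subtype.ext (MulAut.apply_inv_self _ _ _)
      map_mul' := fun a b => Subtype.ext (map_mul (conjU k) a.1 b.1) }
  have hroot : ∀ (v : Vec (m + 2) F) (s : F), σ ∘ v = v → σ s = s → hh q v v = 0 → tau hF s = -s →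
      tel q v s ∈ fixedPts (fieldU (n := m + 2) (q := q) σ) := fun v s hv hs' hvv hsk => by
    show fieldU σ (tel q v s) = tel q v s
    rw [fieldU_tel hF σ hvv hsk, hv, hs']
  constructor
  · intro h
    by_contra hcop
    apply h
    have hdvd : p ∣ Nat.card (fixedPts (fieldU (n := m + 2) (q := q) σ)) := by
      rw [Nat.card_congr e.toEquiv]
      exact hp.coprime_iff_not_dvd.not_left.mp hcop
    refine core_eq_bot hinj A hinn x hx
      (CfsgLib.PCore.pPrimeCore_eq_bot_of_equiv e (core_fixedPts_field hF hm hs hpF hodd hq0' hdvd)) ?_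
    intro u hcomm hfix
    obtain ⟨τ, ⟨j, hj⟩, hτ⟩ := eq_field_of_fix_tel hF hm hs hodd hq0' ((conjU k)⁻¹ * u * conjU k)
      fun v s hv hs' hvv hsk => by
        have h1 := hfix _ (e ⟨_, hroot v s hv hs' hvv hsk⟩).2
        change u (conjU k (tel q v s)) = conjU k (tel q v s) at h1
        rw [MulAut.mul_apply, MulAut.mul_apply, h1, MulAut.inv_apply_self]
    refine ⟨j, ?_⟩
    show x ^ j = u
    have hj' : σ ^ j = τ := hj
    rw [hk, conj_zpow, ← map_zpow, hj', ← hτ]
    group
  · intro hcop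
    refine core_ne_bot hinj A hinn x ?_ hcop
    set K := fixedSub σ
    have : Fintype K := Fintype.ofFinite _
    have hK : Fintype.card K = q0 ^ 2 := by rw [← Nat.card_eq_fintype_card, natCard_fixed hF σ hq0']
    obtain ⟨fr⟩ := exists_frame hK m
    obtain ⟨s0, hs00, hs0⟩ := exists_skew hK
    let up : Vec (m + 2) K → Vec (m + 2) F := fun x i => (x i : F)
    have hvv : hh q (up fr.u) (up fr.u) = 0 := by
      have e1 : hh q (up fr.u) (up fr.u) = ((hh q0 fr.u fr.u : K) : F) := by
        simp only [hh, Cfsg.hermForm, AddSubmonoidClass.coe_finsetSum, MulMemClass.coe_mul,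
          SubmonoidClass.coe_pow]
        exact Finset.sum_congr rfl fun i _ => by rw [fixed_pow hF hodd hq0' (fr.u i).2]
      rw [e1, fr.huu]; rfl
    have hsk : tau hF (s0 : F) = -(s0 : F) := by
      have h1 := congrArg Subtype.val hs0
      rw [tau_apply, SubmonoidClass.coe_pow, NegMemClass.coe_neg] at h1
      rw [tau_apply, fixed_pow hF hodd hq0' s0.2]
      exact h1
    have hv0 : up fr.u ≠ 0 := fun h => u_ne_zero hK fr (funext fun i => Subtype.ext (congrFun h i))
    refine ⟨conjU k (tel q (up fr.u) (s0 : F)), fun h => ?_,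
      (e ⟨_, hroot _ _ (funext fun i => (fr.u i).2) s0.2 hvv hsk⟩).2⟩
    exact tel_ne_one hF hvv hv0 hsk (fun h => hs00 (Subtype.ext h))
      ((map_eq_one_iff _ (conjU k).injective).mp h)

/-- A criterion for the failure of local balance in almost simple groups with unitary socle. Let F be a finite field of characteristic r with q² elements and K = PSU_n(q) (n ≥ 3, the central quotient of the determinant-one isometries of the standard Hermitian form) simple. Let A be a group of automorphisms of K containing all inner automorphisms, and β ∈ A an automorphism of prime order p ≠ r that is not inner-diagonal (not induced by conjugation by a matrix of the general unitary group). Then the largest normal subgroup of C_A(β) of order prime to p is nontrivial if and only if β is the composite of an inner-diagonal automorphism with the automorphism induced by a field automorphism of F applied entrywise and p does not divide the number of fixed points of β on K. -/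
theorem result
    (F : Type*) [Field F] [Fintype F] (r : ℕ) [Fact r.Prime] [CharP F r] (q : ℕ) (hF : Fintype.card F = q ^ 2)
    (n : ℕ) (hn : 3 ≤ n) (hK : IsSimpleGroup (Cfsg.PSU n F q))
    (𝒢 : Subgroup (MulAut (Cfsg.PSU n F q))) (hinn : ∀ k : Cfsg.PSU n F q, MulAut.conj k ∈ 𝒢)
    (p : ℕ) [Fact p.Prime] (hpr : p ≠ r) (β : MulAut (Cfsg.PSU n F q)) (hβ : β ∈ 𝒢) (hord : orderOf β = p)
    (hnot : ¬ Cfsg.IsInnerDiagonalAutPSU β) :
    Cfsg.pPrimeCore p ↥(𝒢 ⊓ Subgroup.centralizer {β}) ≠ ⊥ ↔
      ((∃ γ φ : MulAut (Cfsg.PSU n F q), Cfsg.IsInnerDiagonalAutPSU γ ∧ (∃ σ : F ≃+* F, Cfsg.IsFieldAutPSUOf σ φ) ∧ β = φ.trans γ) ∧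
        Nat.Coprime p (Nat.card ↥(MonoidHom.eqLocus β.toMonoidHom (MonoidHom.id (Cfsg.PSU n F q))))) := by
  classical
  have hp := (Fact.out : p.Prime)
  have hrP := (Fact.out : r.Prime)
  have hpF : (p : F) ≠ 0 := fun h => hpr
    ((Nat.prime_dvd_prime_iff_eq hrP hp).mp ((CharP.cast_eq_zero_iff F r p).mp h)).symm
  obtain ⟨m, rfl⟩ : ∃ m, n = m + 2 := ⟨n - 2, by omega⟩
  have hm : 1 ≤ m := by omega
  obtain ⟨k, -, hk⟩ := FiniteField.card F r
  have hq1 : 1 < q := by
    have h := Fintype.one_lt_card (α := F)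
    rw [hF] at h
    by_contra hq
    interval_cases q <;> norm_num at h
  have hs : m = 1 → 3 ≤ q := by
    rintro rfl
    by_contra h3
    obtain rfl : q = 2 := by omega
    obtain ⟨N, hN, h9, -, ⟨e⟩⟩ := CfsgLib.PSUThree.exists_normal_nine (F := F) (by rw [hF]; norm_num)
    rcases hK.eq_bot_or_eq_top_of_normal N hN with h | h
    · rw [h, Subgroup.card_bot] at h9
      norm_num at h9
    · have h8 := Nat.card_congr e.toEquiv
      rw [Nat.card_eq_fintype_card (α := QuaternionGroup 2), QuaternionGroup.card, h] at h8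
      have : Nat.card (Cfsg.PSU 3 F 2 ⧸ (⊤ : Subgroup (Cfsg.PSU 3 F 2))) = 1 :=
        Subgroup.index_top
      omega
  obtain ⟨g, σ, rfl⟩ := aut_psu_structure hF hm hs β
  have hσ1 : σ ≠ 1 := fun h => hnot (isInnerDiagonal_iff.mpr ⟨g, by rw [h, map_one, mul_one]⟩)
  have hx : (conjU g * fieldU σ : MulAut (PSUG (m + 2) F q)) ^ p = 1 := hord ▸ pow_orderOf_eq_one _
  have hσ : orderOf σ = p := by
    refine orderOf_eq_prime ?_ hσ1
    have h := hx
    rw [conjU_fieldU_pow] at h
    exact field_eq_one_of_conjU hF hm (g := (gcocy σ g p)⁻¹)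
      (by rw [map_inv]; exact inv_eq_of_mul_eq_one_right h)
  have hmain : Cfsg.pPrimeCore p ↥(𝒢 ⊓ Subgroup.centralizer {conjU g * fieldU σ}) ≠ ⊥ ↔
      Nat.Coprime p (Nat.card (fixedPts (conjU g * fieldU σ : MulAut (PSUG (m + 2) F q)))) := by
    rcases eq_or_ne p 2 with rfl | hp2
    · have hσT : σ = tau hF := involution_unique hσ (orderOf_tau hF)
      subst hσT
      have h2 : (2 : F) ≠ 0 := by exact_mod_cast hpF
      obtain ⟨hcore, hC⟩ := tau_data hF hm hs h2 g hx
      have hinj := psuConj_injective hF hm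
      refine iff_of_false (fun h => h (core_eq_bot hinj 𝒢 hinn _ hx hcore hC)) fun hcop => ?_
      set β := (conjU g * fieldU (tau hF) : MulAut (PSUG (m + 2) F q))
      have htop : (⊤ : Subgroup (fixedPts β)) ≤ Cfsg.pPrimeCore 2 (fixedPts β) :=
        CfsgLib.PCore.le_pPrimeCore inferInstance (by rw [Subgroup.card_top]; exact hcop.symm)
      rw [hcore] at htop
      have hfpf : MonoidHom.FixedPointFree β := fun y hy => by
        have h : (⟨y, hy⟩ : fixedPts β) = 1 := Subgroup.mem_bot.mp (htop trivial)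
        exact congrArg Subtype.val h
      have hinv : Function.Involutive β := fun y => by
        have := DFunLike.congr_fun hx y
        rw [pow_two] at this
        exact this
      obtain ⟨y, hy⟩ := exists_ne (1 : PSUG (m + 2) F q)
      refine hy (hinj (MulEquiv.ext fun z => ?_))
      rw [map_one, MulAut.conj_apply, (hfpf.commute_all_of_involutive hinv y z).eq, mul_inv_cancel_right]
      rfl
    · have hdvd : p ∣ (k : ℕ) := hσ ▸ CfsgLib.FieldGalois.orderOf_dvd hk σ
      obtain ⟨f, -, hqf⟩ := (Nat.dvd_prime_pow hrP).mp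
        (show q ∣ r ^ (k : ℕ) by rw [← hk, hF]; exact dvd_pow_self q two_ne_zero)
      have hkf : (k : ℕ) = f * 2 := Nat.pow_right_injective hrP.two_le
        (show r ^ (k : ℕ) = r ^ (f * 2) by rw [← hk, hF, hqf, ← pow_mul])
      rw [hkf] at hdvd
      have hpf : p ∣ f := (((Nat.coprime_primes hp Nat.prime_two).mpr hp2).dvd_of_dvd_mul_right) hdvd
      exact odd_case (q0 := r ^ (f / p)) hF hm hs 𝒢 hinn hp2 hpF g σ hσ
        (by rw [← pow_mul, Nat.div_mul_cancel hpf, hqf]) hx
  exact ⟨fun h => ⟨⟨conjU g, fieldU σ, isInnerDiagonal_iff.mpr ⟨g, rfl⟩,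
    ⟨σ, isFieldAutOf_iff.mpr rfl⟩, rfl⟩, hmain.mp h⟩, fun h => hmain.mpr h.2⟩

end Cfsg.Agent.S2687
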