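import Cfsg.Statements.S2697
import Cfsg.Agent.Lib.AutPSL.GraphFieldUnitary

set_option autoImplicit false
open Cfsg CfsgLib.AutPSL CfsgLib.FieldGalois

namespace Cfsg.Agent.S2697

/-- Let T = PSL_n(F) be simple over a finite field (n ≥ 2; |F| ≥ 4 when n = 2) and let x be a field automorphism or a graph-field automorphism of T of prime order r. Then an element y of the coset Inndiag(T)·x (that is, y = δ x with δ in the inner-diagonal group, the image of PGL_n(F)) has order r if and only if y is conjugate to x by an element of Inndiag(T). -/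
theorem result {F : Type*} [Field F] [Fintype F] {p f : ℕ} [Fact p.Prime] (hF : Fintype.card F = p ^ f) (hf : 1 ≤ f) {n : ℕ} (hn : 2 ≤ n) (hs : n = 2 → 4 ≤ Fintype.card F) (x δ : MulAut (Matrix.ProjectiveSpecialLinearGroup (Fin n) F)) (hx : Cfsg.IsFieldAutClassPSL x ∨ Cfsg.IsGraphFieldAutClassPSL x) {r : ℕ} (hr : r.Prime) (hxr : orderOf x = r) (hδ : δ ∈ Cfsg.inndiagPSL n F) :
    orderOf (δ * x) = r ↔ Cfsg.IsConjUnder (Cfsg.inndiagPSL n F) x (δ * x) := by
  obtain ⟨g, rfl⟩ := mem_inndiag_iff.mp hδ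
  constructor
  · intro hy
    suffices h : ∃ (b k : GL (Fin n) F) (z : MulAut (PSLG n F)),
        x = conjAut b * z * (conjAut b)⁻¹ ∧ conjAut g * x = conjAut k * z * (conjAut k)⁻¹ by
      obtain ⟨b, k, z, hb, hk⟩ := h
      refine ⟨conjAut (k * b⁻¹), mem_inndiag_iff.mpr ⟨_, rfl⟩, ?_⟩
      rw [hk, hb, map_mul, map_inv]
      group
    rcases hx with hx | hx
    · obtain ⟨σ, b, -, hσ, hb⟩ := fieldClass_normal_form hn hx
      have e : conjAut g * x = conjAut (g * b * (glField σ b)⁻¹) * fieldAut σ := by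
        rw [hb, mul_assoc (conjAut b) (fieldAut σ), ← map_inv conjAut b, fieldAut_mul_conjAut,
          map_mul, map_mul, map_inv (glField σ)]
        group
      obtain ⟨k, hk⟩ := conj_of_pow_eq_one hn σ (g * b * (glField σ b)⁻¹)
        (by rw [← e, hσ, hxr, ← hy, pow_orderOf_eq_one])
      exact ⟨b, k, _, hb, e.trans hk⟩
    · obtain ⟨σ, b, hσ2, hx2, hb⟩ := graphFieldClass_normal_form hx (hxr.symm ▸ hr)
      have e : conjAut g * x =
          conjAut (g * b * glField σ (glIota b⁻¹)) * (fieldAut σ * iotaAut) := by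
        rw [hb, mul_assoc (conjAut b) (fieldAut σ * iotaAut), ← map_inv conjAut b, zeta_mul_conjAut,
          map_mul, map_mul]
        group
      obtain ⟨k, hk⟩ := conj_of_sq_eq_one_zeta hσ2 hn _
        (by rw [← e, ← hx2, hxr, ← hy, pow_orderOf_eq_one])
      exact ⟨b, k, _, hb, e.trans hk⟩
  · intro h
    rw [CfsgLib.Split.isConjUnder_orderOf h, hxr]

end Cfsg.Agent.S2697
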