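import Cfsg.Statements.S2698
import Cfsg.Agent.Lib.AutPSL.GraphFieldUnitary

set_option autoImplicit false
open Cfsg CfsgLib.AutPSL CfsgLib.FieldGalois

namespace Cfsg.Agent.S2698

/-- Let T = PSL_n(F) be simple over the field F with p^f elements (n ≥ 2; p^f ≥ 4 when n = 2), G = Inndiag(T) the image of PGL_n(F) in Aut(T), and x a field automorphism of T of prime order r. Then r divides f; the centralizer C_G(x) is isomorphic to PGL_n(F₀) for the subfield size |F₀| = p^(f/r); and the G-class of x is the union of exactly gcd(n, (p^f − 1)/(p^(f/r) − 1)) classes under conjugation by T (the inner automorphism group). -/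
theorem result {F : Type*} [Field F] [Fintype F] {p f : ℕ} [Fact p.Prime] (hF : Fintype.card F = p ^ f) (hf : 1 ≤ f) {n : ℕ} (hn : 2 ≤ n) (hs : n = 2 → 4 ≤ Fintype.card F) (x : MulAut (Matrix.ProjectiveSpecialLinearGroup (Fin n) F)) (hx : Cfsg.IsFieldAutClassPSL x) {r : ℕ} (hr : r.Prime) (hxr : orderOf x = r) (F₀ : Type*) [Field F₀] [Fintype F₀] (hF₀ : Fintype.card F₀ = p ^ (f / r)) :
    r ∣ f ∧ Nonempty (↥(Cfsg.inndiagPSL n F ⊓ Subgroup.centralizer {x}) ≃* Matrix.ProjGenLinGroup (Fin n) F₀) ∧ Cfsg.splitClassCount (Cfsg.inndiagPSL n F) (Cfsg.Inn (Matrix.ProjectiveSpecialLinearGroup (Fin n) F)) x = Nat.gcd n ((p ^ f - 1) / (p ^ (f / r) - 1)) := by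
  obtain ⟨σ, b, -, hσ, hb⟩ := fieldClass_normal_form hn hx
  rw [hxr] at hσ
  refine ⟨hσ ▸ orderOf_dvd hF σ, ?_, ?_⟩
  · have hcard : Nat.card F₀ = Nat.card (fixedSub σ) := by
      rw [card_fixed_of_orderOf hF σ, Nat.card_eq_fintype_card, hF₀, hσ]
    have := Fintype.ofFinite (fixedSub σ)
    rw [Nat.card_eq_fintype_card, Nat.card_eq_fintype_card] at hcard
    let e := FiniteField.ringEquivOfCardEq hcard
    obtain ⟨E⟩ := nonempty_centralizer_field_equiv hn σ ((fixedSub σ).subtype.comp e.toRingHom)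
      (fun y => ⟨fun h => ⟨e.symm ⟨y, h⟩, by simp⟩, fun ⟨a, ha⟩ => ha ▸ (e a).2⟩)
    refine ⟨MulEquiv.trans ?_ E⟩
    rw [hb]
    exact (CfsgLib.Split.centralizerConj (mem_inndiag_iff.mpr ⟨b, rfl⟩)).symm
  · rw [hb, CfsgLib.Split.splitClassCount_conj (mem_inndiag_iff.mpr ⟨b, rfl⟩),
      CfsgLib.Split.splitClassCount_eq_index (conjAut : GL (Fin n) F →* _)
        Matrix.GeneralLinearGroup.det
        (have : Nonempty (Fin n) := ⟨⟨0, by omega⟩⟩; Matrix.GeneralLinearGroup.det_surjective)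
        _ inndiag_eq_range inner_eq_map,
      det_centralizer_field hn σ, CfsgLib.Split.index_pow_sup, index_fixedUnits hF, hσ]

end Cfsg.Agent.S2698
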