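import Cfsg.Statements.S2699
import Cfsg.Agent.Lib.H82.GraphOdd
import Cfsg.Agent.Lib.H82.GraphTwoCent

set_option autoImplicit false
open Cfsg CfsgLib.AutPSL CfsgLib.GraphForms82 CfsgLib.OrthUnipotent

namespace Cfsg.Agent.S2699

/-- Let T = PSL_n(F) over the field with p^f elements with n ≥ 3 odd, n = 2m + 1, and G = Inndiag(T) the image of PGL_n(F). Every involutory graph automorphism γ of T (an inner-diagonal automorphism followed by inverse-transpose, of order 2) has centralizer C_G(γ) isomorphic to the projective conformal orthogonal group of the form x₀² + Σ xᵢ yᵢ in dimension n (for q even this group is isomorphic to Sp_{n−1}(q)), and any two involutory graph automorphisms are G-conjugate. -/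
theorem result {F : Type*} [Field F] [Fintype F] {p f : ℕ} [Fact p.Prime] (hF : Fintype.card F = p ^ f) (hf : 1 ≤ f) {n : ℕ} (hn : 3 ≤ n) {m : ℕ} (hnm : n = 2 * m + 1) (γ γ' : MulAut (Matrix.ProjectiveSpecialLinearGroup (Fin n) F)) (hγ : Cfsg.IsGraphAutClassPSL γ) (hγ2 : orderOf γ = 2) (hγ' : Cfsg.IsGraphAutClassPSL γ') (hγ'2 : orderOf γ' = 2) :
    Nonempty (↥(Cfsg.inndiagPSL n F ⊓ Subgroup.centralizer {γ}) ≃* Cfsg.PGO F (Cfsg.quadFormOdd m F)) ∧ Cfsg.IsConjUnder (Cfsg.inndiagPSL n F) γ γ' := by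
  have hn2 : 2 ≤ n := by omega
  obtain ⟨-, M, rfl⟩ := isGraphAut_iff.mp hγ
  obtain ⟨-, M', rfl⟩ := isGraphAut_iff.mp hγ'
  have hM := (gx_orderOf_two hn).mp hγ2
  have hM' := (gx_orderOf_two hn).mp hγ'2
  let e : Unit ⊕ (Fin m ⊕ Fin m) ≃ Fin n :=
    (Equiv.sumCongr finOneEquiv.symm finSumFinEquiv).trans (finSumFinEquiv.trans (finCongr (by omega)))
  by_cases h2 : (2 : F) = 0
  · haveI : CharP F 2 := CharTwo.of_one_ne_zero_of_two_eq_zero one_ne_zero h2
    have hsym : ∀ N : GL (Fin n) F, ((N : Matrix (Fin n) (Fin n) F).transpose = N ∨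
        (N : Matrix (Fin n) (Fin n) F).transpose = -(N : Matrix (Fin n) (Fin n) F)) →
        (N : Matrix (Fin n) (Fin n) F).transpose = N := fun N h => h.elim id fun h => by rw [h, matrix_neg]
    have key : ∀ N : GL (Fin n) F, (N : Matrix (Fin n) (Fin n) F).transpose = N →
        Cfsg.IsConjUnder (Cfsg.inndiagPSL n F) (gx N) (gx (bOddGL (F := F) e)) := by
      intro N hN
      obtain ⟨P, hP⟩ := odd_class e hN
      exact (isConj_gx_iff hn2).mpr ⟨P, 1, by rw [hP, Units.val_one, one_smul]⟩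
    exact ⟨centralizer_equiv_of_isConj (CfsgLib.Split.isConjUnder_symm (key M (hsym M hM)))
        (centralizer_bOdd hn2 e),
      CfsgLib.Split.isConjUnder_trans (key M (hsym M hM))
        (CfsgLib.Split.isConjUnder_symm (key M' (hsym M' hM')))⟩
  · have hodd : Odd n := ⟨m, by omega⟩
    have hMs := hM.resolve_right (not_skew_of_odd h2 hodd)
    have hMs' := hM'.resolve_right (not_skew_of_odd h2 hodd)
    exact ⟨centralizer_equiv_of_isConj
        (isConj_of_odd hn2 hodd h2 (gramGL_transpose (qf (odd_nondeg (F := F) m h2)) (qf_nondeg _) e) hMs)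
        (centralizer_gramGL hn2 h2 _ (qf_nondeg (odd_nondeg (F := F) m h2)) e),
      isConj_of_odd hn2 hodd h2 hMs hMs'⟩

end Cfsg.Agent.S2699
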