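import Cfsg.Statements.S2700
import Cfsg.Agent.Lib.H82.GraphOdd

set_option autoImplicit false
open Cfsg CfsgLib.AutPSL CfsgLib.GraphForms82 CfsgLib.OrthUnipotent

namespace Cfsg.Agent.S2700

/-- Let T = PSL_n(F) over a finite field of odd order with n = 2m ≥ 4 even, and G = Inndiag(T) the image of PGL_n(F). The involutory graph automorphisms of T fall into exactly three G-classes, with representatives γ₁, γ₂, γ₃ whose centralizers in G are isomorphic respectively to the projective conformal symplectic group PGSp_n(F), the projective conformal orthogonal group of the plus-type form Σ xᵢ yᵢ, and that of a minus-type form Σ xᵢ yᵢ + z₁² + a z₁ z₂ + b z₂² (anisotropic binary part) in dimension n. -/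
theorem result {F : Type*} [Field F] [Fintype F] (hodd : Odd (Fintype.card F)) {n m : ℕ} (hm : 2 ≤ m) (hnm : n = 2 * m) :
    ∃ (γ₁ γ₂ γ₃ : MulAut (Matrix.ProjectiveSpecialLinearGroup (Fin n) F)) (a b : F), (∀ z₁ z₂ : F, z₁ ^ 2 + a * z₁ * z₂ + b * z₂ ^ 2 = 0 → z₁ = 0 ∧ z₂ = 0) ∧ Cfsg.IsGraphAutClassPSL γ₁ ∧ orderOf γ₁ = 2 ∧ Cfsg.IsGraphAutClassPSL γ₂ ∧ orderOf γ₂ = 2 ∧ Cfsg.IsGraphAutClassPSL γ₃ ∧ orderOf γ₃ = 2 ∧ ¬ Cfsg.IsConjUnder (Cfsg.inndiagPSL n F) γ₁ γ₂ ∧ ¬ Cfsg.IsConjUnder (Cfsg.inndiagPSL n F) γ₁ γ₃ ∧ ¬ Cfsg.IsConjUnder (Cfsg.inndiagPSL n F) γ₂ γ₃ ∧ (∀ γ : MulAut (Matrix.ProjectiveSpecialLinearGroup (Fin n) F), Cfsg.IsGraphAutClassPSL γ → orderOf γ = 2 → Cfsg.IsConjUnder (Cfsg.inndiagPSL n F) γ₁ γ ∨ Cfsg.IsConjUnder (Cfsg.inndiagPSL n F) γ₂ γ ∨ Cfsg.IsConjUnder (Cfsg.inndiagPSL n F) γ₃ γ) ∧ Nonempty (↥(Cfsg.inndiagPSL n F ⊓ Subgroup.centralizer {γ₁}) ≃* Cfsg.PGSp m F) ∧ Nonempty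 (↥(Cfsg.inndiagPSL n F ⊓ Subgroup.centralizer {γ₂}) ≃* Cfsg.PGO F (Cfsg.quadFormPlus m F)) ∧ Nonempty (↥(Cfsg.inndiagPSL n F ⊓ Subgroup.centralizer {γ₃}) ≃* Cfsg.PGO F (Cfsg.quadFormMinus (m - 1) F a b)) := by
  obtain ⟨k, rfl⟩ : ∃ k, m = k + 1 := ⟨m - 1, by omega⟩
  have h2 : (2 : F) ≠ 0 := CfsgLib.KnownSimple51.OrthFamilies.two_ne_zero_of_odd hodd
  obtain ⟨a, b, hab⟩ := exists_anisotropic (F := F) h2
  let e : Fin (k + 1) ⊕ Fin (k + 1) ≃ Fin n := finSumFinEquiv.trans (finCongr (by omega))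
  let e' : (Fin k ⊕ Fin k) ⊕ Fin 2 ≃ Fin n :=
    (Equiv.sumCongr finSumFinEquiv (Equiv.refl _)).trans (finSumFinEquiv.trans (finCongr (by omega)))
  let M₂ := gramGL (qf (plus_nondeg (F := F) (k + 1))) (qf_nondeg _) e
  let M₃ := gramGL (qf (minus_nondeg k a b h2 hab)) (qf_nondeg _) e'
  have hn3 : 3 ≤ n := by omega
  have hn2 : 2 ≤ n := by omega
  have hne : Even n := ⟨k + 1, by omega⟩
  have s2 := gramGL_transpose (qf (plus_nondeg (F := F) (k + 1))) (qf_nondeg _) e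
  have s3 := gramGL_transpose (qf (minus_nondeg k a b h2 hab)) (qf_nondeg _) e'
  have hd : ¬ IsSquare ((M₂ : Matrix (Fin n) (Fin n) F).det * (M₃ : Matrix (Fin n) (Fin n) F).det) := by
    rw [gramGL_det, gramGL_det, qf_coe, qf_coe]
    exact not_isSquare_plus_minus h2 k a b hab
  have hskew : ∀ M : GL (Fin n) F, (M : Matrix (Fin n) (Fin n) F).transpose = M →
      ¬ Cfsg.IsConjUnder (Cfsg.inndiagPSL n F) (gx (jMat e)) (gx M) := by
    intro M hM h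
    obtain ⟨P, c, hP⟩ := (isConj_gx_iff hn2).mp h
    have h' := congrArg Matrix.transpose hP
    rw [Matrix.transpose_mul, Matrix.transpose_mul, Matrix.transpose_transpose, jMat_transpose,
      Matrix.neg_mul, Matrix.mul_neg, ← Matrix.mul_assoc, hP, Matrix.transpose_smul, hM] at h'
    have hM0 : (M : Matrix (Fin n) (Fin n) F) ≠ 0 := by
      intro h0
      haveI : Nonempty (Fin n) := ⟨⟨0, by omega⟩⟩
      exact ((Matrix.isUnit_iff_isUnit_det _).mp M.isUnit).ne_zero (by rw [h0, Matrix.det_zero])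
    rw [neg_eq_iff_add_eq_zero, ← add_smul, smul_eq_zero, or_iff_left hM0, ← two_mul] at h'
    exact c.ne_zero ((mul_eq_zero.mp h').resolve_left h2)
  refine ⟨gx (jMat e), gx M₂, gx M₃, a, b, hab, ?_⟩
  refine ⟨isGraphAut_iff.mpr ⟨hn3, _, rfl⟩, (gx_orderOf_two hn3).mpr (Or.inr (jMat_transpose e)),
    isGraphAut_iff.mpr ⟨hn3, _, rfl⟩, (gx_orderOf_two hn3).mpr (Or.inl s2),
    isGraphAut_iff.mpr ⟨hn3, _, rfl⟩, (gx_orderOf_two hn3).mpr (Or.inl s3),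
    hskew _ s2, hskew _ s3, ?_, ?_, centralizer_jMat hn2 e, ?_, ?_⟩
  · intro h
    obtain ⟨P, c, hP⟩ := (isConj_gx_iff hn2).mp h
    exact hd (isSquare_det_of_congr hne hP)
  · intro γ hγ hγ2
    obtain ⟨-, M, rfl⟩ := isGraphAut_iff.mp hγ
    rcases (gx_orderOf_two hn3).mp hγ2 with hM | hM
    · rcases isSquare_or (M : Matrix (Fin n) (Fin n) F).det hd with h | h
      · exact Or.inr (Or.inl (isConj_of_isSquare hn2 h2 s2 hM h))
      · exact Or.inr (Or.inr (isConj_of_isSquare hn2 h2 s3 hM h))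
    · obtain ⟨P, hP⟩ := exists_congr_alt e (M := M) (alt_of_skew h2 hM)
      refine Or.inl (CfsgLib.Split.isConjUnder_symm ((isConj_gx_iff hn2).mpr ⟨P, 1, ?_⟩))
      rw [hP, jMat_coe, Units.val_one, one_smul]
  · exact centralizer_gramGL hn2 h2 _ (qf_nondeg (plus_nondeg (F := F) (k + 1))) e
  · exact centralizer_gramGL hn2 h2 _ (qf_nondeg (minus_nondeg k a b h2 hab)) e'

end Cfsg.Agent.S2700
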