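import Cfsg.Statements.S2701
import Cfsg.Agent.Lib.H82.GraphTwoCent

set_option autoImplicit false
open Cfsg CfsgLib.AutPSL CfsgLib.GraphForms82

namespace Cfsg.Agent.S2701

/-- Let T = PSL_n(F) over a finite field of characteristic 2 with n = 2m ≥ 4 even, and G = Inndiag(T) the image of PGL_n(F). The involutory graph automorphisms of T fall into exactly two G-classes, with representatives γ₁ and γ₃ whose centralizers in G are isomorphic respectively to the symplectic group Sp_n(F) and to the centralizer in Sp_n(F) of a symplectic transvection. -/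
theorem result {F : Type*} [Field F] [Fintype F] [CharP F 2] {n m : ℕ} (hm : 2 ≤ m) (hnm : n = 2 * m) :
    ∃ (γ₁ γ₃ : MulAut (Matrix.ProjectiveSpecialLinearGroup (Fin n) F)) (t : ↥(Matrix.symplecticGroup (Fin m) F)), Cfsg.IsTransvection (t : Matrix (Fin m ⊕ Fin m) (Fin m ⊕ Fin m) F) ∧ Cfsg.IsGraphAutClassPSL γ₁ ∧ orderOf γ₁ = 2 ∧ Cfsg.IsGraphAutClassPSL γ₃ ∧ orderOf γ₃ = 2 ∧ ¬ Cfsg.IsConjUnder (Cfsg.inndiagPSL n F) γ₁ γ₃ ∧ (∀ γ : MulAut (Matrix.ProjectiveSpecialLinearGroup (Fin n) F), Cfsg.IsGraphAutClassPSL γ → orderOf γ = 2 → Cfsg.IsConjUnder (Cfsg.inndiagPSL n F) γ₁ γ ∨ Cfsg.IsConjUnder (Cfsg.inndiagPSL n F) γ₃ γ) ∧ Nonempty (↥(Cfsg.inndiagPSL n F ⊓ Subgroup.centralizer {γ₁}) ≃* ↥(Matrix.symplecticGroup (Fin m) F)) ∧ Nonempty (↥(Cfsg.inndiagPSL n F ⊓ Subgroup.centralizer {γ₃}) ≃* ↥(Subgroup.centralizer ({t} : Set ↥(Matrix.symplecticGroup (Fin m) F)))) := by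
  have hn3 : 3 ≤ n := by omega
  have hn2 : 2 ≤ n := by omega
  have : Finite F := Finite.of_fintype F
  let e : Fin m ⊕ Fin m ≃ Fin n := finSumFinEquiv.trans (finCongr (by omega))
  let i₀ : Fin m := ⟨0, by omega⟩
  have hJs : ((jMat (F := F) e : GL (Fin n) F) : Matrix (Fin n) (Fin n) F).transpose =
      (jMat (F := F) e : GL (Fin n) F) := by rw [jMat_transpose, matrix_neg]
  refine ⟨gx (jMat (F := F) e), gx (bEvenGL (F := F) e i₀), tMat i₀, tMat_isTransvection i₀,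
    isGraphAut_iff.mpr ⟨hn3, _, rfl⟩, (gx_orderOf_two hn3).mpr (Or.inl hJs),
    isGraphAut_iff.mpr ⟨hn3, _, rfl⟩, (gx_orderOf_two hn3).mpr (Or.inl (bEvenGL_transpose e i₀)),
    ?_, ?_, centralizer_alt hn2 (by omega) e, centralizer_bEven hn2 e i₀⟩
  · intro h
    obtain ⟨P, c, hP⟩ := (isConj_gx_iff hn2).mp h
    have h1 := bEvenGL_not_alt (F := F) e i₀
    obtain ⟨v, hv⟩ : ∃ v : Fin n → F, v = Pi.single (e (Sum.inl i₀)) 1 := ⟨_, rfl⟩
    rw [← hv] at h1
    have halt : ∀ w : Fin n → F, dotProduct w (Matrix.mulVec (jMat (F := F) e : GL (Fin n) F).1 w) = 0 := by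
      intro w
      have hd : ∀ i, dvec ((jMat (F := F) e : GL (Fin n) F) : Matrix (Fin n) (Fin n) F) i = 0 := fun i => by
        rw [dvec, jMat_coe]
        rcases hi : e.symm i with j | j <;> simp [Matrix.J, root, hi]
      rw [diag_sq hJs, show dvec ((jMat (F := F) e : GL (Fin n) F) : Matrix (Fin n) (Fin n) F) = 0 from funext hd,
        zero_dotProduct, zero_pow two_ne_zero]
    have h2 := halt (Matrix.mulVec (P : Matrix (Fin n) (Fin n) F) v)
    rw [bil_comp, hP, Matrix.smul_mulVec, dotProduct_smul, h1, smul_eq_mul, mul_one] at h2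
    exact c.ne_zero h2
  · intro γ hγ hγ2
    obtain ⟨-, M, rfl⟩ := isGraphAut_iff.mp hγ
    have hM : (M : Matrix (Fin n) (Fin n) F).transpose = M :=
      ((gx_orderOf_two hn3).mp hγ2).elim id fun h => by rw [h, matrix_neg]
    obtain ⟨P, hP | hP⟩ := even_classes e i₀ hM
    · exact Or.inl (CfsgLib.Split.isConjUnder_symm ((isConj_gx_iff hn2).mpr
        ⟨P, 1, by rw [hP, Units.val_one, one_smul]⟩))
    · exact Or.inr (CfsgLib.Split.isConjUnder_symm ((isConj_gx_iff hn2).mpr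
        ⟨P, 1, by rw [hP, Units.val_one, one_smul]⟩))

end Cfsg.Agent.S2701
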