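import Cfsg.Statements.S2702
import Cfsg.Agent.Lib.H82.GraphSplit

set_option autoImplicit false
open Cfsg CfsgLib.AutPSL CfsgLib.GraphForms82

namespace Cfsg.Agent.S2702

/-- Let T = PSL_n(F) over the field with q = p^f elements, n ≥ 3, G = Inndiag(T) the image of PGL_n(F), and γ an involutory graph automorphism of T. The G-class of γ is the union of exactly c T-classes, where: if n is even and q is odd, c = gcd(n/2, q − 1) when C_G(γ) is isomorphic to the projective conformal symplectic group PGSp_n(F) (symplectic type) and c = gcd(n, q − 1)/2 otherwise; and c = gcd(n, q − 1) when n is odd or q is even. -/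
theorem result {F : Type*} [Field F] [Fintype F] {p f : ℕ} [Fact p.Prime] (hF : Fintype.card F = p ^ f) (hf : 1 ≤ f) {n : ℕ} (hn : 3 ≤ n) (γ : MulAut (Matrix.ProjectiveSpecialLinearGroup (Fin n) F)) (hγ : Cfsg.IsGraphAutClassPSL γ) (hγ2 : orderOf γ = 2) :
    ((Even n ∧ Odd p ∧ Nonempty (↥(Cfsg.inndiagPSL n F ⊓ Subgroup.centralizer {γ}) ≃* Cfsg.PGSp (n / 2) F)) → Cfsg.splitClassCount (Cfsg.inndiagPSL n F) (Cfsg.Inn (Matrix.ProjectiveSpecialLinearGroup (Fin n) F)) γ = Nat.gcd (n / 2) (p ^ f - 1)) ∧ ((Even n ∧ Odd p ∧ ¬ Nonempty (↥(Cfsg.inndiagPSL n F ⊓ Subgroup.centralizer {γ}) ≃* Cfsg.PGSp (n / 2) F)) → Cfsg.splitClassCount (Cfsg.inndiagPSL n F) (Cfsg.Inn (Matrix.ProjectiveSpecialLinearGroup (Fin n) F)) γ = Nat.gcd n (p ^ f - 1) / 2) ∧ (¬ (Even n ∧ Odd p) → Cfsg.splitClassCount (Cfsg.inndiagPSL n F) (Cfsg.Inn (Matrix.ProjectiveSpecialLinearGroup (Fin n) F)) γ = Nat.gcd n (p ^ f - 1)) := by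
  have hn2 : 2 ≤ n := by omega
  obtain ⟨-, M, rfl⟩ := isGraphAut_iff.mp hγ
  have hM := (gx_orderOf_two hn).mp hγ2
  haveI : CharP F p := charP_of_card_eq_prime_pow hF
  rw [← hF]
  have hsplit : ∀ h : Even n ∧ Odd p, (2 : F) ≠ 0 ∧ n = 2 * (n / 2) := by
    rintro ⟨hne, hpo⟩
    refine ⟨fun h2 => ?_, ?_⟩
    · have hd : p ∣ 2 := (CharP.cast_eq_zero_iff F p 2).1 (by exact_mod_cast h2)
      have := (Nat.prime_dvd_prime_iff_eq Fact.out Nat.prime_two).1 hd
      subst this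
      exact absurd hpo (by decide)
    · have := Nat.even_iff.mp hne
      omega
  have hskew : ∀ h : Even n ∧ Odd p, (M : Matrix (Fin n) (Fin n) F).transpose =
      -(M : Matrix (Fin n) (Fin n) F) →
      ∃ e : Fin (n / 2) ⊕ Fin (n / 2) ≃ Fin n,
        Cfsg.IsConjUnder (Cfsg.inndiagPSL n F) (gx (jMat (F := F) e)) (gx M) := by
    intro h hs
    obtain ⟨h2, hnm⟩ := hsplit h
    let e : Fin (n / 2) ⊕ Fin (n / 2) ≃ Fin n := finSumFinEquiv.trans (finCongr (by omega))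
    obtain ⟨P, hP⟩ := exists_congr_alt e (M := M) (alt_of_skew h2 hs)
    refine ⟨e, CfsgLib.Split.isConjUnder_symm ((isConj_gx_iff hn2).mpr ⟨P, 1, ?_⟩)⟩
    rw [hP, jMat_coe, Units.val_one, one_smul]
  refine ⟨fun ⟨hne, hpo, hiso⟩ => ?_, fun ⟨hne, hpo, hiso⟩ => ?_, fun hnot => ?_⟩
  · obtain ⟨h2, hnm⟩ := hsplit ⟨hne, hpo⟩
    rcases hM with hs | hs
    · exact absurd hiso (not_equiv_PGSp h2 hn hnm hs)
    · obtain ⟨e, he⟩ := hskew ⟨hne, hpo⟩ hs
      rw [splitClassCount_of_isConj he, split_jMat hn2 hnm e]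
  · obtain ⟨h2, hnm⟩ := hsplit ⟨hne, hpo⟩
    rcases hM with hs | hs
    · exact split_sym hn2 h2 hnm hs
    · obtain ⟨e, he⟩ := hskew ⟨hne, hpo⟩ hs
      exact absurd (centralizer_equiv_of_isConj he (centralizer_jMat hn2 e)) hiso
  · refine split_of_det_pow hn2 M fun k hk => ?_
    rcases Nat.even_or_odd n with hne | hno
    · have hp2 : p = 2 := ((Fact.out : p.Prime).eq_two_or_odd').resolve_right fun hpo => hnot ⟨hne, hpo⟩
      subst hp2
      exact det_pow_of_charTwo hk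
    · exact det_pow_of_odd hno hk

end Cfsg.Agent.S2702
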