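import Cfsg.Statements.S2703
import Cfsg.Agent.Lib.H82.GraphOdd

set_option autoImplicit false
open Cfsg CfsgLib.AutPSL CfsgLib.GraphForms82 CfsgLib.OrthUnipotent

namespace Cfsg.Agent.S2703

/-- Let T = PSL_n(F) over the field with q elements, q odd, n = 2m ≥ 4 even, and ι the inverse-transpose automorphism. Its centralizer in G = Inndiag(T) (the image of PGL_n(F)) is isomorphic to the projective conformal orthogonal group of the plus-type form Σ xᵢ yᵢ in dimension n when n(q − 1)/4 is even, and to that of a minus-type form (Σ xᵢ yᵢ + z₁² + a z₁ z₂ + b z₂² with anisotropic binary part) when n(q − 1)/4 is odd. -/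
theorem result {F : Type*} [Field F] [Fintype F] (hodd : Odd (Fintype.card F)) {n m : ℕ} (hm : 2 ≤ m) (hnm : n = 2 * m) (ι : MulAut (Matrix.ProjectiveSpecialLinearGroup (Fin n) F)) (hι : Cfsg.IsInverseTransposeAutPSL ι) :
    (Even (n * (Fintype.card F - 1) / 4) → Nonempty (↥(Cfsg.inndiagPSL n F ⊓ Subgroup.centralizer {ι}) ≃* Cfsg.PGO F (Cfsg.quadFormPlus m F))) ∧ (¬ Even (n * (Fintype.card F - 1) / 4) → ∃ a b : F, (∀ z₁ z₂ : F, z₁ ^ 2 + a * z₁ * z₂ + b * z₂ ^ 2 = 0 → z₁ = 0 ∧ z₂ = 0) ∧ Nonempty (↥(Cfsg.inndiagPSL n F ⊓ Subgroup.centralizer {ι}) ≃* Cfsg.PGO F (Cfsg.quadFormMinus (m - 1) F a b))) := by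
  obtain ⟨k, rfl⟩ : ∃ k, m = k + 1 := ⟨m - 1, by omega⟩
  have h2 : (2 : F) ≠ 0 := CfsgLib.KnownSimple51.OrthFamilies.two_ne_zero_of_odd hodd
  have hn2 : 2 ≤ n := by omega
  rw [show ι = gx (1 : GL (Fin n) F) from (isInverseTranspose_iff.mp hι).trans gx_one.symm]
  have h1 : ((1 : GL (Fin n) F) : Matrix (Fin n) (Fin n) F).transpose = ((1 : GL (Fin n) F) : Matrix (Fin n) (Fin n) F) := by
    rw [Units.val_one, Matrix.transpose_one]
  let e : Fin (k + 1) ⊕ Fin (k + 1) ≃ Fin n := finSumFinEquiv.trans (finCongr (by omega))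
  let e' : (Fin k ⊕ Fin k) ⊕ Fin 2 ≃ Fin n :=
    (Equiv.sumCongr finSumFinEquiv (Equiv.refl _)).trans (finSumFinEquiv.trans (finCongr (by omega)))
  have s2 := gramGL_transpose (qf (plus_nondeg (F := F) (k + 1))) (qf_nondeg _) e
  have hpar : Even (n * (Fintype.card F - 1) / 4) ↔ IsSquare ((-1 : F) ^ (k + 1)) := by
    rw [CfsgLib.KnownSimple51.OrthFamilies.isSquare_neg_one_pow h2]
    obtain ⟨r, hr⟩ := hodd
    rw [hr, show 2 * r + 1 - 1 = 2 * r by omega,
      show n * (2 * r) / 4 = (k + 1) * r by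
        rw [hnm, show 2 * (k + 1) * (2 * r) = 4 * ((k + 1) * r) by ring, Nat.mul_div_cancel_left _ (by norm_num)],
      Nat.even_mul]
    rcases Nat.even_or_odd' (k + 1) with ⟨j, hj | hj⟩
    · refine iff_of_true (Or.inl ⟨j, by omega⟩) ?_
      rw [hj, pow_mul, Nat.pow_mod]
      have h4 : (2 * r + 1) ^ 2 % 4 = 1 := by
        rw [Nat.pow_mod]
        rcases (show (2 * r + 1) % 4 = 1 ∨ (2 * r + 1) % 4 = 3 by omega) with h | h <;> rw [h]
      rw [h4, one_pow, Nat.one_mod]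
    · have h4 : (2 * r + 1) ^ (k + 1) % 4 = (2 * r + 1) % 4 := by
        rw [hj, pow_succ, pow_mul, Nat.mul_mod, Nat.pow_mod]
        have h4 : (2 * r + 1) ^ 2 % 4 = 1 := by
          rw [Nat.pow_mod]
          rcases (show (2 * r + 1) % 4 = 1 ∨ (2 * r + 1) % 4 = 3 by omega) with h | h <;> rw [h]
        rw [h4, one_pow]
        simp
      rw [h4, Nat.even_iff, Nat.even_iff]
      omega
  have hne1 : ((-1 : F) ^ (k + 1)) ≠ 0 := pow_ne_zero _ (neg_ne_zero.mpr one_ne_zero)
  have key : IsSquare ((-1 : F) ^ (k + 1)) ↔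
      IsSquare ((CfsgLib.QuadFin.gram (Cfsg.quadFormPlus (k + 1) F)).det) := by
    obtain ⟨r, hr⟩ := plus_disc_det h2 (k + 1) (F := F)
    have hG : (CfsgLib.QuadFin.gram (Cfsg.quadFormPlus (k + 1) F)).det ≠ 0 := by
      have := CfsgLib.QuadFin.gram_det_ne_zero (qf (plus_nondeg (F := F) (k + 1))) (qf_nondeg _)
      rwa [qf_coe] at this
    constructor
    · intro h
      have := sq_trans (c := 1) hne1 ⟨r, hr⟩ (by rwa [mul_one])
      rwa [mul_one] at this
    · intro h
      have := sq_trans (a := (-1 : F) ^ (k + 1)) (c := 1) hG (by rw [mul_comm]; exact ⟨r, hr⟩) (by rwa [mul_one])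
      rwa [mul_one] at this
  constructor
  · intro hev
    refine centralizer_equiv_of_isConj (isConj_of_isSquare hn2 h2 s2 h1 ?_)
      (centralizer_gramGL hn2 h2 _ (qf_nondeg (plus_nondeg (F := F) (k + 1))) e)
    rw [Units.val_one, Matrix.det_one, one_mul, gramGL_det, qf_coe]
    exact key.mp (hpar.mp hev)
  · intro hev
    obtain ⟨a, b, hab⟩ := exists_anisotropic (F := F) h2
    refine ⟨a, b, hab, centralizer_equiv_of_isConj
      (isConj_of_isSquare hn2 h2 (gramGL_transpose (qf (minus_nondeg k a b h2 hab)) (qf_nondeg _) e') h1 ?_)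
      (centralizer_gramGL hn2 h2 _ (qf_nondeg (minus_nondeg k a b h2 hab)) e')⟩
    rw [Units.val_one, Matrix.det_one, one_mul, gramGL_det, qf_coe]
    rcases isSquare_or (1 : F) (not_isSquare_plus_minus h2 k a b hab) with h | h
    · rw [one_mul] at h
      exact absurd (hpar.mpr (key.mpr h)) hev
    · rwa [one_mul] at h

end Cfsg.Agent.S2703
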