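import Cfsg.Statements.S2705
import Cfsg.Agent.Lib.AutPSU.FieldClass

set_option autoImplicit false
open Cfsg CfsgLib.AutPSU CfsgLib.FieldGalois

namespace Cfsg.Agent.S2705

/-- Let T = PSU_n(q) be simple (n ≥ 3, (n, q) ≠ (3, 2), q = p^f), realised over the field F with q² elements, G = Inndiag(T) the image of PGU_n(q) in Aut(T), and x a field automorphism of T (conjugate to a standard field automorphism of odd order) of odd prime order r. Then r divides f; C_G(x) is isomorphic to PGU_n(q₀) with q₀ = p^(f/r), realised over a field F₀ with q₀² elements; and the G-class of x is the union of exactly gcd(n, (q + 1)/(q₀ + 1)) T-classes. -/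
theorem result {F : Type*} [Field F] [Fintype F] {p f q : ℕ} [Fact p.Prime] (hq : q = p ^ f) (hf : 1 ≤ f) (hF : Fintype.card F = q ^ 2) {n : ℕ} (hn : 3 ≤ n) (hs : ¬ (n = 3 ∧ q = 2)) (x : MulAut (Cfsg.PSU n F q)) (hx : Cfsg.IsFieldAutClassPSU x) {r : ℕ} (hr : r.Prime) (hro : Odd r) (hxr : orderOf x = r) (F₀ : Type*) [Field F₀] [Fintype F₀] (hF₀ : Fintype.card F₀ = p ^ (2 * (f / r))) :
    r ∣ f ∧ Nonempty (↥(Cfsg.inndiagPSU n F q ⊓ Subgroup.centralizer {x}) ≃* Cfsg.PGU n F₀ (p ^ (f / r))) ∧ Cfsg.splitClassCount (Cfsg.inndiagPSU n F q) (Cfsg.Inn (Cfsg.PSU n F q)) x = Nat.gcd n ((q + 1) / (p ^ (f / r) + 1)) := by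
  obtain ⟨m, rfl⟩ : ∃ m, n = m + 2 := ⟨n - 2, by omega⟩
  have hm : 1 ≤ m := by omega
  have h2 := CfsgLib.ClassicalGroups.herm_two_le hF
  have hs' : m = 1 → 3 ≤ q := fun h => by
    rcases Nat.lt_or_ge q 3 with h' | h'
    · exact absurd ⟨by omega, by omega⟩ hs
    · exact h'
  obtain ⟨α, σ, hodd, he, hord⟩ := fieldClass_normal_form hF hm hx
  rw [hxr] at hord
  have hdvd : r ∣ f := by
    have h := orderOf_dvd (p := p) (f := f * 2) (by rw [hF, hq, pow_mul]) σ
    rw [hord] at h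
    exact (Nat.Coprime.dvd_of_dvd_mul_right (Nat.coprime_two_right.mpr hro) h)
  set q0 := p ^ (f / r) with hq0def
  have hq0 : q = q0 ^ orderOf σ := by
    rw [hord, hq0def, ← pow_mul, Nat.div_mul_cancel hdvd, hq]
  have hnor := normal_inndiag hF hm hs'
  refine ⟨hdvd, ?_, ?_⟩
  · have hcard : Nat.card F₀ = Nat.card (fixedSub σ) := by
      rw [natCard_fixed hF σ hq0, Nat.card_eq_fintype_card, hF₀, hq0def, ← pow_mul, mul_comm 2]
    have := Fintype.ofFinite (fixedSub σ)
    rw [Nat.card_eq_fintype_card, Nat.card_eq_fintype_card] at hcard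
    let e := FiniteField.ringEquivOfCardEq hcard
    obtain ⟨E⟩ := nonempty_centralizer_field_equiv hF hm hodd hq0
      ((fixedSub σ).subtype.comp e.toRingHom)
      (fun y => ⟨fun h => ⟨e.symm ⟨y, h⟩, by simp⟩, fun ⟨a, ha⟩ => ha ▸ (e a).2⟩)
    obtain ⟨E1⟩ := CfsgLib.Split.nonempty_centralizer_map (H := Cfsg.inndiagPSU (m + 2) F q) α x
    rw [he] at E1
    exact ⟨E1.trans E⟩
  · rw [← CfsgLib.Split.splitClassCount_map α x, he,
      CfsgLib.Split.splitClassCount_eq_index (conjU : GUG (m + 2) F q →* _) (detU hF)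
        (detU_surjective hF (by omega)) _ inndiag_eq_range (inner_eq_map hF),
      det_centralizer hF hm hodd hq0, CfsgLib.Split.index_pow_sup, index_fixedNormOne hF hodd hq0]

end Cfsg.Agent.S2705
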