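import Cfsg.Statements.S2708
import Cfsg.Agent.Lib.AutPSU.GraphCorr
import Cfsg.Agent.S2701
-- import your own Cfsg.Agent.* helpers here

set_option autoImplicit false
open Cfsg

open CfsgLib.AutPSU.Graph

namespace Cfsg.Agent.S2708

/-- Let T = PSU_n(q) with n = 2m ≥ 4 even and q even, realised over the field F (of characteristic 2) with q² elements, and G = Inndiag(T) the image of PGU_n(q). The involutory graph automorphisms of T fall into exactly two G-classes, with representatives whose centralizers in G are isomorphic respectively to the symplectic group Sp_n(F₀) and to the centralizer in Sp_n(F₀) of a symplectic transvection, F₀ a field with q elements. -/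
theorem result {F : Type*} [Field F] [Fintype F] [CharP F 2] {q : ℕ} (hF : Fintype.card F = q ^ 2) {n m : ℕ} (hm : 2 ≤ m) (hnm : n = 2 * m) (F₀ : Type*) [Field F₀] [Fintype F₀] (hF₀ : Fintype.card F₀ = q) :
    ∃ (γ₁ γ₃ : MulAut (Cfsg.PSU n F q)) (t : ↥(Matrix.symplecticGroup (Fin m) F₀)), Cfsg.IsTransvection (t : Matrix (Fin m ⊕ Fin m) (Fin m ⊕ Fin m) F₀) ∧ Cfsg.IsGraphAutClassPSU γ₁ ∧ orderOf γ₁ = 2 ∧ Cfsg.IsGraphAutClassPSU γ₃ ∧ orderOf γ₃ = 2 ∧ ¬ Cfsg.IsConjUnder (Cfsg.inndiagPSU n F q) γ₁ γ₃ ∧ (∀ γ : MulAut (Cfsg.PSU n F q), Cfsg.IsGraphAutClassPSU γ → orderOf γ = 2 → Cfsg.IsConjUnder (Cfsg.inndiagPSU n F q) γ₁ γ ∨ Cfsg.IsConjUnder (Cfsg.inndiagPSU n F q) γ₃ γ) ∧ Nonempty (↥(Cfsg.inndiagPSU n F q ⊓ Subgroup.centralizer {γ₁}) ≃* ↥(Matrix.symplecticGroup (Fin m) F₀)) ∧ Nonempty (↥(Cfsg.inndiagPSU n F q ⊓ Subgroup.centralizer {γ₃}) ≃* ↥(Subgroup.centralizer ({t} : Set ↥(Matrix.symplecticGroup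 (Fin m) F₀)))) := by
  obtain ⟨k, rfl⟩ : ∃ k, n = k + 2 := ⟨n - 2, by omega⟩
  obtain ⟨e, he⟩ := exists_hom hF hF₀
  have : CharP F₀ 2 := e.charP_iff_charP 2 |>.mpr inferInstance
  obtain ⟨y₁, y₃, t, ht, g1, o1, g3, o3, n13, hall, c1, c3⟩ := Cfsg.Agent.S2701.result (F := F₀) hm hnm
  have hk : 1 ≤ k := by omega
  obtain ⟨x₁, ⟨D₁⟩⟩ := exists_datum' hF he hk g1 o1
  obtain ⟨x₃, ⟨D₃⟩⟩ := exists_datum' hF he hk g3 o3
  refine ⟨x₁, x₃, t, ht, D₁.graph_left hF hk, D₁.orderOf_left hF he hk, D₃.graph_left hF hk,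
    D₃.orderOf_left hF he hk, fun h => n13 ((isConjUnder_iff hF he D₁ D₃ hk).mp h), fun γ hγ hγ2 => ?_,
    nonempty_trans hF he hk D₁ c1, nonempty_trans hF he hk D₃ c3⟩
  obtain ⟨y, ⟨D⟩⟩ := exists_datum hF he hk hγ hγ2
  rcases hall y (D.graph_right hF hk) (D.orderOf_right hF he hk) with h | h
  · exact Or.inl ((isConjUnder_iff hF he D₁ D hk).mpr h)
  · exact Or.inr ((isConjUnder_iff hF he D₃ D hk).mpr h)

end Cfsg.Agent.S2708
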