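import Cfsg.Statements.S2709
import Cfsg.Agent.Lib.AutPSU.GraphSplit
-- import your own Cfsg.Agent.* helpers here

set_option autoImplicit false
open Cfsg

open CfsgLib.AutPSU.Graph CfsgLib.GraphForms82 Matrix

namespace Cfsg.Agent.S2709

/-- Let T = PSU_n(q) be simple (n ≥ 3, (n,q) ≠ (3,2), q = p^f), realised over the field F with q² elements, G = Inndiag(T) the image of PGU_n(q), and γ an involutory graph automorphism of T. The G-class of γ is the union of exactly c T-classes, where: if n is even and q is odd, c = gcd(n/2, q + 1) when C_G(γ) is isomorphic to PGSp_n(F₀) for a field F₀ with q elements (symplectic type) and c = gcd(n, q + 1)/2 otherwise; and c = gcd(n, q + 1) when n is odd or q is even. -/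
theorem result {F : Type*} [Field F] [Fintype F] {p f q : ℕ} [Fact p.Prime] (hq : q = p ^ f) (hf : 1 ≤ f) (hF : Fintype.card F = q ^ 2) {n : ℕ} (hn : 3 ≤ n) (hs : ¬ (n = 3 ∧ q = 2)) (F₀ : Type*) [Field F₀] [Fintype F₀] (hF₀ : Fintype.card F₀ = q) (γ : MulAut (Cfsg.PSU n F q)) (hγ : Cfsg.IsGraphAutClassPSU γ) (hγ2 : orderOf γ = 2) :
    ((Even n ∧ Odd q ∧ Nonempty (↥(Cfsg.inndiagPSU n F q ⊓ Subgroup.centralizer {γ}) ≃* Cfsg.PGSp (n / 2) F₀)) → Cfsg.splitClassCount (Cfsg.inndiagPSU n F q) (Cfsg.Inn (Cfsg.PSU n F q)) γ = Nat.gcd (n / 2) (q + 1)) ∧ ((Even n ∧ Odd q ∧ ¬ Nonempty (↥(Cfsg.inndiagPSU n F q ⊓ Subgroup.centralizer {γ}) ≃* Cfsg.PGSp (n / 2) F₀)) → Cfsg.splitClassCount (Cfsg.inndiagPSU n F q) (Cfsg.Inn (Cfsg.PSU n F q)) γ = Nat.gcd n (q + 1) / 2) ∧ (¬ (Even n ∧ Odd q) → Cfsg.splitClassCount (Cfsg.inndiagPSU n F q) (Cfsg.Inn (Cfsg.PSU n F q)) γ = Nat.gcd n (q + 1)) := by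
  classical
  obtain ⟨k, rfl⟩ : ∃ k, n = k + 2 := ⟨n - 2, by omega⟩
  have hk : 1 ≤ k := by omega
  obtain ⟨e, he⟩ := exists_hom hF hF₀
  obtain ⟨y, ⟨D⟩⟩ := exists_datum hF he hk hγ hγ2
  obtain ⟨M, hM, hy, hDM⟩ : ∃ M : GL (Fin (k + 2)) F₀, ((M : Matrix (Fin (k + 2)) (Fin (k + 2)) F₀)ᵀ = M ∨
      (M : Matrix (Fin (k + 2)) (Fin (k + 2)) F₀)ᵀ = -(M : Matrix (Fin (k + 2)) (Fin (k + 2)) F₀)) ∧ y = gx M ∧
        D.B = M :=
    ⟨D.B, D.transpose_B hF he, D.hγ', rfl⟩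
  have hq2 : (Even (k + 2) ∧ Odd q) → (2 : F₀) ≠ 0 := fun h =>
    CfsgLib.KnownSimple51.OrthFamilies.two_ne_zero_of_odd (hF₀ ▸ h.2)
  have hl : Even (k + 2) → k + 2 = 2 * ((k + 2) / 2) := fun h => by
    have := Nat.even_iff.mp h; omega
  have hsym : ∀ h : Even (k + 2) ∧ Odd q, (M : Matrix (Fin (k + 2)) (Fin (k + 2)) F₀)ᵀ = M →
      Cfsg.splitClassCount (Cfsg.inndiagPSU (k + 2) F q) (Cfsg.Inn (Cfsg.PSU (k + 2) F q)) γ =
        Nat.gcd (k + 2) (q + 1) / 2 := by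
    intro h hs
    have h2 := hq2 h
    have hM0 : (M : Matrix (Fin (k + 2)) (Fin (k + 2)) F₀).det ≠ 0 :=
      ((Matrix.isUnit_iff_isUnit_det _).mp M.isUnit).ne_zero
    let w : Fin (k + 2) → F₀ := Function.update 1 0 (M : Matrix (Fin (k + 2)) (Fin (k + 2)) F₀).det
    let W : GL (Fin (k + 2)) F₀ := Matrix.GeneralLinearGroup.mkOfDetNeZero (diagonal w)
      (by rw [det_diagonal, Finset.prod_update_of_mem (Finset.mem_univ _)]; simpa using hM0)
    have hWd : (W : Matrix (Fin (k + 2)) (Fin (k + 2)) F₀).det = (M : Matrix (Fin (k + 2)) (Fin (k + 2)) F₀).det := by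
      show (diagonal w).det = _
      rw [det_diagonal, Finset.prod_update_of_mem (Finset.mem_univ _)]; simp
    have hWt : (W : Matrix (Fin (k + 2)) (Fin (k + 2)) F₀)ᵀ = W := diagonal_transpose w
    have hc := isConj_of_isSquare (by omega) h2 hWt hs ⟨_, congrArg (· * _) hWd.symm⟩
    obtain ⟨x, D₀, hxB⟩ := exists_datum_eq hF he hk W (Or.inl hWt)
    have hx : Cfsg.IsConjUnder (Cfsg.inndiagPSU (k + 2) F q) x γ :=
      (isConjUnder_iff hF he D₀ D hk).mpr (hy ▸ hc)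
    obtain ⟨a, ha, rfl⟩ := hx
    rw [CfsgLib.Split.splitClassCount_conj ha]
    exact split_diag hF he hk h2 (hl h.1) D₀ (w := w) (by rw [hxB]; rfl)
  have hskew : ∀ h : Even (k + 2) ∧ Odd q, (M : Matrix (Fin (k + 2)) (Fin (k + 2)) F₀)ᵀ =
      -(M : Matrix (Fin (k + 2)) (Fin (k + 2)) F₀) →
      Cfsg.splitClassCount (Cfsg.inndiagPSU (k + 2) F q) (Cfsg.Inn (Cfsg.PSU (k + 2) F q)) γ =
          Nat.gcd ((k + 2) / 2) (q + 1) ∧
        Nonempty (↥(Cfsg.inndiagPSU (k + 2) F q ⊓ Subgroup.centralizer {γ}) ≃* Cfsg.PGSp ((k + 2) / 2) F₀) := by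
    intro h hs
    have h2 := hq2 h
    have hnm := hl h.1
    let ee : Fin ((k + 2) / 2) ⊕ Fin ((k + 2) / 2) ≃ Fin (k + 2) := finSumFinEquiv.trans (finCongr (by omega))
    obtain ⟨P, hP⟩ := exists_congr_alt ee (M := M) (alt_of_skew h2 hs)
    have hc : Cfsg.IsConjUnder (Cfsg.inndiagPSL (k + 2) F₀) (gx (jMat (F := F₀) ee)) (gx M) :=
      CfsgLib.Split.isConjUnder_symm ((isConj_gx_iff (by omega)).mpr
        ⟨P, 1, by rw [hP, jMat_coe, Units.val_one, one_smul]⟩)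
    refine ⟨?_, nonempty_trans hF he hk D ?_⟩
    · obtain ⟨x, D₀, hxB⟩ := exists_datum_eq hF he hk (jMat (F := F₀) ee) (Or.inr (jMat_transpose ee))
      have hx : Cfsg.IsConjUnder (Cfsg.inndiagPSU (k + 2) F q) x γ :=
        (isConjUnder_iff hF he D₀ D hk).mpr (hy ▸ hc)
      obtain ⟨a, ha, rfl⟩ := hx
      rw [CfsgLib.Split.splitClassCount_conj ha]
      exact split_jMat' hF he hk hnm ee D₀ (by rw [hxB])
    · rw [hy]
      exact centralizer_equiv_of_isConj hc (centralizer_jMat (by omega) ee)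
  refine ⟨fun ⟨hne, hqo, hiso⟩ => ?_, fun ⟨hne, hqo, hiso⟩ => ?_, fun hnot => ?_⟩
  · rcases hM with hs | hs
    · obtain ⟨E⟩ := hiso
      obtain ⟨E'⟩ := centralizer_iso hF he hk D
      exact absurd (hy ▸ ⟨E'.symm.trans E⟩) (not_equiv_PGSp (hq2 ⟨hne, hqo⟩) (by omega) (hl hne) hs)
    · exact (hskew ⟨hne, hqo⟩ hs).1
  · rcases hM with hs | hs
    · exact hsym ⟨hne, hqo⟩ hs
    · exact absurd (hskew ⟨hne, hqo⟩ hs).2 hiso
  · refine split_of_root hF he hk D fun A c hA => ?_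
    rw [hDM] at hA
    have h := congrArg Units.val (simGroup_det hA)
    rw [Units.val_pow_eq_pow_val, Units.val_pow_eq_pow_val, Matrix.GeneralLinearGroup.val_det_apply] at h
    rcases Nat.even_or_odd (k + 2) with hne | ⟨l, hl'⟩
    · have hpe : Even (Fintype.card F₀) := by
        rw [hF₀]; exact Nat.not_odd_iff_even.mp fun h => hnot ⟨hne, h⟩
      haveI : CharP F₀ 2 := ringChar.eq_iff.mp
        ((FiniteField.even_card_iff_char_two (F := F₀)).mpr (Nat.even_iff.mp hpe))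
      obtain ⟨r, hr⟩ : ∃ r : F₀, r ^ 2 = (c : F₀) := ⟨_, frobeniusEquiv_symm_pow_p F₀ 2 (c : F₀)⟩
      refine ⟨r, hr, CharTwo.sq_inj.mp ?_⟩
      rw [h, ← hr, ← pow_mul, ← pow_mul, mul_comm]
    · have hc0 : (c : F₀) ≠ 0 := c.ne_zero
      have hsq : ((A : Matrix (Fin (k + 2)) (Fin (k + 2)) F₀).det / (c : F₀) ^ l) ^ 2 = c := by
        rw [div_pow, h, ← pow_mul, div_eq_iff (pow_ne_zero _ hc0), ← pow_succ', show k + 2 = l * 2 + 1 by omega]
      refine ⟨_, hsq, ?_⟩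
      rw [show ((A : Matrix (Fin (k + 2)) (Fin (k + 2)) F₀).det / (c : F₀) ^ l) ^ (k + 2) =
          (((A : Matrix (Fin (k + 2)) (Fin (k + 2)) F₀).det / (c : F₀) ^ l) ^ 2) ^ l *
            ((A : Matrix (Fin (k + 2)) (Fin (k + 2)) F₀).det / (c : F₀) ^ l) by rw [← pow_mul, ← pow_succ, ← hl'],
        hsq, mul_div_cancel₀ _ (pow_ne_zero _ hc0)]

end Cfsg.Agent.S2709
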