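import Cfsg.Statements.S2711
import Cfsg.Agent.Lib.AutPSU.FieldClass

set_option autoImplicit false
open Cfsg CfsgLib.AutPSU CfsgLib.FieldGalois

namespace Cfsg.Agent.S2711

/-- Let T = PSU_n(q) be simple (n ≥ 3, (n,q) ≠ (3,2)), realised over the field F with q² elements, and let x be a field automorphism of T (conjugate to a standard field automorphism of odd order) of prime order r. Then an element y of the coset Inndiag(T)·x (y = δ x with δ in the image of PGU_n(q)) has order r if and only if y is conjugate to x by an element of Inndiag(T). (T has no graph-field automorphisms.) -/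
theorem result {F : Type*} [Field F] [Fintype F] {p f q : ℕ} [Fact p.Prime] (hq : q = p ^ f) (hf : 1 ≤ f) (hF : Fintype.card F = q ^ 2) {n : ℕ} (hn : 3 ≤ n) (hs : ¬ (n = 3 ∧ q = 2)) (x δ : MulAut (Cfsg.PSU n F q)) (hx : Cfsg.IsFieldAutClassPSU x) {r : ℕ} (hr : r.Prime) (hxr : orderOf x = r) (hδ : δ ∈ Cfsg.inndiagPSU n F q) :
    orderOf (δ * x) = r ↔ Cfsg.IsConjUnder (Cfsg.inndiagPSU n F q) x (δ * x) := by
  obtain ⟨m, rfl⟩ : ∃ m, n = m + 2 := ⟨n - 2, by omega⟩
  have hm : 1 ≤ m := by omega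
  have h2 := CfsgLib.ClassicalGroups.herm_two_le hF
  have hs' : m = 1 → 3 ≤ q := fun h => by
    rcases Nat.lt_or_ge q 3 with h' | h'
    · exact absurd ⟨by omega, by omega⟩ hs
    · exact h'
  obtain ⟨α, σ, hodd, he, hord⟩ := fieldClass_normal_form hF hm hx
  rw [hxr] at hord
  have hdvd : r ∣ f := by
    have h := orderOf_dvd (p := p) (f := f * 2) (by rw [hF, hq, pow_mul]) σ
    rw [hord] at h
    exact (Nat.Coprime.dvd_of_dvd_mul_right (Nat.coprime_two_right.mpr (hord ▸ hodd)) h)
  have hq0 : q = (p ^ (f / r)) ^ orderOf σ := by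
    rw [hord, ← pow_mul, Nat.div_mul_cancel hdvd, hq]
  have hnor := normal_inndiag hF hm hs'
  constructor
  · intro h
    obtain ⟨g, hg⟩ := mem_inndiag_iff.mp (hnor.conj_mem δ hδ α)
    have hy : α * (δ * x) * α⁻¹ = conjU g * fieldU σ := by rw [hg, ← he]; group
    obtain ⟨k, hk⟩ := conj_of_pow_eq_one hF hm hodd hq0 g (by
      rw [← hy, hord, ← h]
      have := pow_orderOf_eq_one (δ * x)
      rw [conj_pow, this]; group)
    rw [← CfsgLib.Split.isConjUnder_map α x (δ * x), he, hy]
    exact ⟨conjU k, mem_inndiag_iff.mpr ⟨k, rfl⟩, hk⟩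
  · intro h
    rw [CfsgLib.Split.isConjUnder_orderOf h, hxr]

end Cfsg.Agent.S2711
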