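import Cfsg.Statements.S2712
import Cfsg.Agent.Lib.AutPSp.Coset
import Cfsg.Agent.Lib.AutPSp.Transport
import Cfsg.Agent.Lib.AutPSL.GraphFieldUnitary

set_option autoImplicit false
open Cfsg CfsgLib.AutPSp CfsgLib.FieldGalois

namespace Cfsg.Agent.S2712

theorem geom_mod_two (a r : ℕ) (ha : Odd a) : (∑ i ∈ Finset.range r, a ^ i) % 2 = r % 2 := by
  induction r with
  | zero => simp
  | succ r ih =>
    have h := Nat.odd_iff.mp (ha.pow (n := r))
    rw [Finset.sum_range_succ]
    omega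

theorem gcd_two_index {p f r : ℕ} (hp : p.Prime) (hf : 1 ≤ f) (hr : r.Prime) (hrf : r ∣ f) :
    Nat.gcd 2 ((p ^ f - 1) / (p ^ (f / r) - 1)) = Nat.gcd (Nat.gcd 2 (p ^ f - 1)) r := by
  obtain ⟨j, rfl⟩ := hrf
  have hj : 1 ≤ j := Nat.pos_of_ne_zero fun h => by simp [h] at hf
  have ha : 2 ≤ p ^ j := le_trans hp.two_le (Nat.le_self_pow (by omega) p)
  rw [Nat.mul_div_cancel_left _ hr.pos, mul_comm r j, pow_mul,
    ← Nat.geomSum_eq ha r, Nat.gcd_rec 2 _]
  rcases Nat.even_or_odd (p ^ j) with hev | hodd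
  · have h0 : (∑ i ∈ Finset.range r, (p ^ j) ^ i) % 2 = 1 := by
      obtain ⟨k, rfl⟩ := Nat.exists_eq_succ_of_ne_zero hr.pos.ne'
      have hE : Even (∑ i ∈ Finset.range k, (p ^ j) ^ (i + 1)) :=
        Finset.even_sum _ fun i _ => hev.pow_of_ne_zero (by omega)
      have := Nat.even_iff.mp hE
      rw [Finset.sum_range_succ', pow_zero]
      omega
    have h1 : Odd ((p ^ j) ^ r - 1) := by
      obtain ⟨k, hk⟩ := hev.pow_of_ne_zero hr.pos.ne'
      have : 1 ≤ (p ^ j) ^ r := Nat.one_le_pow _ _ (by omega)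
      exact ⟨k - 1, by omega⟩
    have h2 : Nat.gcd 2 ((p ^ j) ^ r - 1) = 1 := Nat.coprime_two_left.mpr h1
    rw [h0, h2]
    simp
  · rw [geom_mod_two _ _ hodd]
    have h2 : Nat.gcd 2 ((p ^ j) ^ r - 1) = 2 := Nat.gcd_eq_left (by
      have := Nat.odd_iff.mp (hodd.pow (n := r))
      omega)
    rw [h2, Nat.gcd_rec 2 r]

/-- Let T = PSp_{2m}(F) be simple over the field F with p^f elements (m ≥ 2, (2m, |F|) ≠ (4, 2)), G = Inndiag(T) the image of the projective conformal symplectic group PGSp_{2m}(F), and x a field automorphism of T of prime order r. Then r divides f; C_G(x) is isomorphic to PGSp_{2m}(F₀) for a field F₀ with p^(f/r) elements; and the G-class of x is the union of exactly gcd(gcd(2, p^f − 1), r) T-classes. -/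
theorem result {F : Type*} [Field F] [Fintype F] {p f : ℕ} [Fact p.Prime] (hF : Fintype.card F = p ^ f) (hf : 1 ≤ f) {m : ℕ} (hm : 2 ≤ m) (hs : m = 2 → 3 ≤ Fintype.card F) (x : MulAut (Cfsg.PSp m F)) (hx : Cfsg.IsFieldAutClassPSp x) {r : ℕ} (hr : r.Prime) (hxr : orderOf x = r) (F₀ : Type*) [Field F₀] [Fintype F₀] (hF₀ : Fintype.card F₀ = p ^ (f / r)) :
    r ∣ f ∧ Nonempty (↥(Cfsg.inndiagPSp m F ⊓ Subgroup.centralizer {x}) ≃* Cfsg.PGSp m F₀) ∧ Cfsg.splitClassCount (Cfsg.inndiagPSp m F) (Cfsg.Inn (Cfsg.PSp m F)) x = Nat.gcd (Nat.gcd 2 (p ^ f - 1)) r := by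
  have hm1 : 1 ≤ m := le_trans one_le_two hm
  have hN := normal_inndiag (F := F) hm1
  obtain ⟨α, σ, -, hασ⟩ := hx
  rw [isStdField_iff] at hασ
  have hσ : orderOf σ = r := by
    rw [← orderOf_injective fieldS (fieldS_injective hm1) σ, ← hασ, ← hxr]
    exact orderOf_injective (MulAut.conj α).toMonoidHom (MulAut.conj α).injective x
  have hrf : r ∣ f := hσ ▸ orderOf_dvd hF σ
  refine ⟨hrf, ?_, ?_⟩
  · have hcard : Nat.card F₀ = Nat.card (fixedSub σ) := by
      rw [card_fixed_of_orderOf hF σ, Nat.card_eq_fintype_card, hF₀, hσ]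
    have := Fintype.ofFinite (fixedSub σ)
    rw [Nat.card_eq_fintype_card, Nat.card_eq_fintype_card] at hcard
    let e := FiniteField.ringEquivOfCardEq hcard
    obtain ⟨E⟩ := nonempty_centralizer_field_equiv hm1 σ ((fixedSub σ).subtype.comp e.toRingHom)
      (fun y => ⟨fun h => ⟨e.symm ⟨y, h⟩, by simp⟩, fun ⟨a, ha⟩ => ha ▸ (e a).2⟩)
    obtain ⟨T⟩ := CfsgLib.Split.nonempty_centralizer_map (H := Cfsg.inndiagPSp m F) α x
    rw [hασ] at T
    exact ⟨T.trans E⟩
  · rw [← CfsgLib.Split.splitClassCount_map α x, hασ]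
    set z : Fin m := ⟨0, hm1⟩
    have hsurj : Function.Surjective (multS (F := F) z) := fun u => by
      obtain ⟨d, -, hdf⟩ := exists_similitude
        (Sum.elim (fun i => (ee i : Vec m F)) (fun i => (u : F) • ff i)) u (by
          intro i j
          rcases i with i | i <;> rcases j with j | j <;>
            simp [form_smul_left, form_smul_right, form_ee_right, form_ff_right, Pi.single_apply])
      exact ⟨d, multS_eq z d hdf⟩
    rw [CfsgLib.Split.splitClassCount_eq_index (conjS : ↥(GSp m F) →* _) (multS z) hsurj _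
        inndiag_eq_range (inner_eq_map z),
      mult_centralizer_field z σ, CfsgLib.Split.index_pow_sup,
      CfsgLib.AutPSL.index_fixedUnits hF, hσ]
    exact gcd_two_index Fact.out hf hr hrf

end Cfsg.Agent.S2712
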