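import Cfsg.Statements.S2713
import Cfsg.Agent.Lib.AutPSp.Coset
import Cfsg.Agent.Lib.AutPSp.Transport

set_option autoImplicit false
open Cfsg CfsgLib.AutPSp CfsgLib.FieldGalois

namespace Cfsg.Agent.S2713

/-- Let T = PSp_{2m}(F) be simple over a finite field (m ≥ 2, (2m, |F|) ≠ (4, 2)) and let x be a field automorphism of T of prime order r. Then an element y of the coset Inndiag(T)·x (y = δ x with δ in the image of the projective conformal symplectic group) has order r if and only if y is conjugate to x by an element of Inndiag(T). -/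
theorem result {F : Type*} [Field F] [Fintype F] {m : ℕ} (hm : 2 ≤ m) (hs : m = 2 → 3 ≤ Fintype.card F) (x δ : MulAut (Cfsg.PSp m F)) (hx : Cfsg.IsFieldAutClassPSp x) {r : ℕ} (hr : r.Prime) (hxr : orderOf x = r) (hδ : δ ∈ Cfsg.inndiagPSp m F) :
    orderOf (δ * x) = r ↔ Cfsg.IsConjUnder (Cfsg.inndiagPSp m F) x (δ * x) := by
  have hm1 : 1 ≤ m := le_trans one_le_two hm
  have hN := normal_inndiag (F := F) hm1
  constructor
  · intro hy
    obtain ⟨α, σ, -, hασ⟩ := hx
    rw [isStdField_iff] at hασ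
    obtain ⟨g, hg⟩ := mem_inndiag_iff.mp (hN.conj_mem δ hδ α)
    have e : α * (δ * x) * α⁻¹ = conjS g * fieldS σ := by rw [hg, ← hασ]; group
    have hσ : orderOf σ = r := by
      rw [← orderOf_injective fieldS (fieldS_injective hm1) σ, ← hασ, ← hxr]
      exact orderOf_injective (MulAut.conj α).toMonoidHom (MulAut.conj α).injective x
    have hpow : (conjS g * fieldS σ) ^ orderOf σ = 1 := by
      rw [← e, hσ, conj_pow, ← hy, pow_orderOf_eq_one, mul_one, mul_inv_cancel]
    obtain ⟨k, hk⟩ := conj_of_pow_eq_one hm1 σ g hpow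
    rw [← CfsgLib.Split.isConjUnder_map α, e, hασ]
    exact ⟨conjS k, mem_inndiag_iff.mpr ⟨k, rfl⟩, hk⟩
  · intro h
    rw [CfsgLib.Split.isConjUnder_orderOf h, hxr]

end Cfsg.Agent.S2713
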