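import Cfsg.Statements.S2714
import Cfsg.Agent.Lib.AutPOmega.FieldOdd
import Cfsg.Agent.Lib.AutPOmega.FieldSquares

set_option autoImplicit false
open Cfsg

namespace Cfsg.Agent.S2714

open Cfsg.Agent.GammaO57 Cfsg.Agent.Spinor57 CfsgLib.FieldPOmega CfsgLib.FieldGalois in
theorem aux {F : Type*} [Field F] [Fintype F] {p f : ℕ} [Fact p.Prime]
    (hF : Fintype.card F = p ^ f) (h2 : (2 : F) ≠ 0) {m : ℕ} (hm : 3 ≤ m)
    (Qf : (Unit ⊕ (Fin m ⊕ Fin m) → F) → F) (hQf : Qf = ⇑(qOdd m F))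
    (hgamma : Cfsg.gammaPOmega F Qf = ⊤) (x : MulAut (Cfsg.POmega F Qf))
    (hx : Cfsg.IsFieldAutClassPOmega Qf x) {r : ℕ} (hr : r.Prime) (hxr : orderOf x = r)
    {F₀ : Type*} [Field F₀] [Fintype F₀] (hF₀ : Fintype.card F₀ = p ^ (f / r))
    (Qf₀ : (Unit ⊕ (Fin m ⊕ Fin m) → F₀) → F₀) (hQf₀ : Qf₀ = ⇑(qOdd m F₀)) :
    r ∣ f ∧ Nonempty (↥(Cfsg.autSubgroupOf (fun β => Cfsg.IsSimilarityInducedAutPOmega Qf β) ⊓
        Subgroup.centralizer {x}) ≃*
      ↥(Cfsg.autSubgroupOf (fun β => Cfsg.IsSimilarityInducedAutPOmega Qf₀ β))) ∧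
    (Odd r → Cfsg.splitClassCount (Cfsg.autSubgroupOf (fun β => Cfsg.IsSimilarityInducedAutPOmega Qf β))
      (Cfsg.Inn (Cfsg.POmega F Qf)) x = 1) ∧
    (r = 2 → Cfsg.splitClassCount (Cfsg.autSubgroupOf (fun β => Cfsg.IsSimilarityInducedAutPOmega Qf β))
      (Cfsg.Inn (Cfsg.POmega F Qf)) x = 2) := by
  classical
  subst hQf hQf₀
  obtain ⟨α, φ, σ, -, hφ, hαφ⟩ := hx
  rw [eq_gAut_of_field (qOdd_fixes σ) hφ] at hαφ
  have hσ : orderOf σ = r := by
    rw [← hxr, ← orderOf_injective (MulAut.conj α).toMonoidHom (MulAut.conj α).injective x,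
      show (MulAut.conj α).toMonoidHom x = gAut (qOdd m F) (fEl (qOdd_fixes σ)) from hαφ]
    exact orderOf_coset_iff.orderOf_eq_orderOf (m := m) h2 (by omega) σ
  obtain ⟨e, he⟩ := exists_fixed_hom (F₀ := F₀) hF σ (by rw [hσ]; exact hF₀)
  have h20 : (2 : F₀) ≠ 0 := fun h => h2 (by rw [← map_ofNat e, h, map_zero])
  rw [inndiag_eq h2, inndiag_eq h20]
  have hN := normal_range h2 hgamma
  refine ⟨hσ ▸ orderOf_dvd hF σ, ?_, ?_, ?_⟩
  · obtain ⟨T⟩ := CfsgLib.Split.nonempty_centralizer_map (H := (soAut m F).range) α x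
    rw [hαφ] at T
    obtain ⟨E⟩ := nonempty_centralizer_equiv (m := m) h2 (by omega) e he
    exact ⟨T.trans E⟩
  · intro hodd
    rw [← CfsgLib.Split.splitClassCount_map α x, hαφ]
    exact (splitCount h2 (by omega) e he).2 fun a => isSquare_of_odd h2 he (hσ.symm ▸ hodd)
  · intro hr2
    rw [← CfsgLib.Split.splitClassCount_map α x, hαφ]
    exact (splitCount h2 (by omega) e he).1 (isSquare_of_two h2 he (hσ.trans hr2))

/-- Let T = Ω_{2m+1}(F) (m ≥ 3, |F| = p^f odd; realised as PΩ of the form x₀² + Σ xᵢ yᵢ), G = Inndiag(T) the image of the conformal orthogonal group in Aut(T), and x a field automorphism of T of prime order r. Then r divides f; C_G(x) is isomorphic to Inndiag(Ω_{2m+1}(F₀)) for a field F₀ with p^(f/r) elements; and the G-class of x is a single T-class when r is odd and the union of exactly two T-classes when r = 2. -/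
theorem result {F : Type*} [Field F] [Fintype F] {p f : ℕ} [Fact p.Prime] (hF : Fintype.card F = p ^ f) (hf : 1 ≤ f) (hodd : Odd (Fintype.card F)) {m : ℕ} (hm : 3 ≤ m) (x : MulAut (Cfsg.POmega F (Cfsg.quadFormOdd m F))) (hx : Cfsg.IsFieldAutClassPOmega (Cfsg.quadFormOdd m F) x) {r : ℕ} (hr : r.Prime) (hxr : orderOf x = r) (F₀ : Type*) [Field F₀] [Fintype F₀] (hF₀ : Fintype.card F₀ = p ^ (f / r)) :
    r ∣ f ∧ Nonempty (↥(Cfsg.inndiagPOmegaOdd m F ⊓ Subgroup.centralizer {x}) ≃* ↥(Cfsg.inndiagPOmegaOdd m F₀)) ∧ (Odd r → Cfsg.splitClassCount (Cfsg.inndiagPOmegaOdd m F) (Cfsg.Inn (Cfsg.POmega F (Cfsg.quadFormOdd m F))) x = 1) ∧ (r = 2 → Cfsg.splitClassCount (Cfsg.inndiagPOmegaOdd m F) (Cfsg.Inn (Cfsg.POmega F (Cfsg.quadFormOdd m F))) x = 2) := by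
  exact aux hF (Cfsg.Agent.Spinor57.two_ne_zero_of_odd rfl hodd) hm _ Cfsg.Agent.Spinor57.qOdd_coe.symm
    (Cfsg.Agent.S2694.result hodd hm) x hx hr hxr hF₀ _ Cfsg.Agent.Spinor57.qOdd_coe.symm

end Cfsg.Agent.S2714
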