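import Cfsg.Statements.S2715
import Cfsg.Agent.Helper57PlusFieldAut

set_option autoImplicit false
open Cfsg

namespace Cfsg.Agent.S2715

open Cfsg.Agent.PlusField57 Cfsg.Agent.PlusFieldAut57 in
theorem aux {F : Type*} [Field F] [Fintype F] {p f : ℕ} [Fact p.Prime] (hF : Fintype.card F = p ^ f)
    {m : ℕ} (hm : 4 ≤ m) (Qf : (Fin m ⊕ Fin m → F) → F) (hQf : Qf = ⇑(CfsgLib.Orth.plusQ m F))
    (x : MulAut (Cfsg.POmega F Qf)) (hx : Cfsg.IsFieldAutClassPOmega Qf x) {r : ℕ} (hxr : orderOf x = r)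
    {F₀ : Type*} [Field F₀] [Fintype F₀] (hF₀ : Fintype.card F₀ = p ^ (f / r))
    (Qf₀ : (Fin m ⊕ Fin m → F₀) → F₀) (hQf₀ : Qf₀ = ⇑(CfsgLib.Orth.plusQ m F₀))
    (G : Subgroup (MulAut (Cfsg.POmega F Qf)))
    (hG : G = Cfsg.autSubgroupOf (fun β : Cfsg.POmega F Qf ≃* Cfsg.POmega F Qf =>
      ∃ g : GL (Fin m ⊕ Fin m) F, g ∈ Cfsg.Geo.quadSimilarityGroup (F := F) Qf ∧
        Cfsg.PreservesSingularClasses Qf (g : Matrix (Fin m ⊕ Fin m) (Fin m ⊕ Fin m) F) ∧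
        Cfsg.IsInducedBySemilinearPOmega Qf g (RingEquiv.refl F) β))
    (G₀ : Subgroup (MulAut (Cfsg.POmega F₀ Qf₀)))
    (hG₀ : G₀ = Cfsg.autSubgroupOf (fun β : Cfsg.POmega F₀ Qf₀ ≃* Cfsg.POmega F₀ Qf₀ =>
      ∃ g : GL (Fin m ⊕ Fin m) F₀, g ∈ Cfsg.Geo.quadSimilarityGroup (F := F₀) Qf₀ ∧
        Cfsg.PreservesSingularClasses Qf₀ (g : Matrix (Fin m ⊕ Fin m) (Fin m ⊕ Fin m) F₀) ∧
        Cfsg.IsInducedBySemilinearPOmega Qf₀ g (RingEquiv.refl F₀) β)) :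
    r ∣ f ∧ Nonempty (↥(G ⊓ Subgroup.centralizer {x}) ≃* ↥G₀) ∧
    ((Odd r ∨ p = 2) → Cfsg.splitClassCount G (Cfsg.Inn (Cfsg.POmega F Qf)) x = 1) ∧
    ((r = 2 ∧ p ≠ 2 ∧ Odd m ∧ p ^ (f / 2) % 4 = 1) →
      Cfsg.splitClassCount G (Cfsg.Inn (Cfsg.POmega F Qf)) x = 2) ∧
    ((r = 2 ∧ p ≠ 2 ∧ ¬ (Odd m ∧ p ^ (f / 2) % 4 = 1)) →
      Cfsg.splitClassCount G (Cfsg.Inn (Cfsg.POmega F Qf)) x = 4) := by
  subst hQf hQf₀
  rw [indAut_eq] at hG hG₀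
  subst hG hG₀
  exact field_main hm hF hx hxr hF₀

/-- Let T = PΩ⁺_{2m}(F) (m ≥ 4, |F| = p^f; the form Σ xᵢ yᵢ), G = Inndiag(T) the image of the class-preserving similarities in Aut(T), and x a field automorphism of T of prime order r. Then r divides f; C_G(x) is isomorphic to Inndiag(PΩ⁺_{2m}(F₀)) for a field F₀ with p^(f/r) elements; and the G-class of x is the union of exactly c T-classes, where c = 1 if r is odd or p = 2, and otherwise (r = 2, p odd) c = 2 when m is odd and p^(f/2) ≡ 1 (mod 4), and c = 4 in the remaining cases. -/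
theorem result {F : Type*} [Field F] [Fintype F] {p f : ℕ} [Fact p.Prime] (hF : Fintype.card F = p ^ f) (hf : 1 ≤ f) {m : ℕ} (hm : 4 ≤ m) (x : MulAut (Cfsg.POmega F (Cfsg.quadFormPlus m F))) (hx : Cfsg.IsFieldAutClassPOmega (Cfsg.quadFormPlus m F) x) {r : ℕ} (hr : r.Prime) (hxr : orderOf x = r) (F₀ : Type*) [Field F₀] [Fintype F₀] (hF₀ : Fintype.card F₀ = p ^ (f / r)) :
    r ∣ f ∧ Nonempty (↥(Cfsg.inndiagPOmegaPlus m F ⊓ Subgroup.centralizer {x}) ≃* ↥(Cfsg.inndiagPOmegaPlus m F₀)) ∧ ((Odd r ∨ p = 2) → Cfsg.splitClassCount (Cfsg.inndiagPOmegaPlus m F) (Cfsg.Inn (Cfsg.POmega F (Cfsg.quadFormPlus m F))) x = 1) ∧ ((r = 2 ∧ p ≠ 2 ∧ Odd m ∧ p ^ (f / 2) % 4 = 1) → Cfsg.splitClassCount (Cfsg.inndiagPOmegaPlus m F) (Cfsg.Inn (Cfsg.POmega F (Cfsg.quadFormPlus m F))) x = 2) ∧ ((r = 2 ∧ p ≠ 2 ∧ ¬ (Odd m ∧ p ^ (f / 2) % 4 = 1)) → Cfsg.splitClassCount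 (Cfsg.inndiagPOmegaPlus m F) (Cfsg.Inn (Cfsg.POmega F (Cfsg.quadFormPlus m F))) x = 4) := by
  exact aux hF hm _ (CfsgLib.Orth.plusQ_coe m).symm x hx hxr hF₀ _ (CfsgLib.Orth.plusQ_coe m).symm _ rfl _ rfl

end Cfsg.Agent.S2715
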