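import Cfsg.Statements.S2716
import Cfsg.Agent.Lib.AutPOmega.FieldMinusMain

set_option autoImplicit false
open Cfsg

namespace Cfsg.Agent.S2716

open Cfsg.Agent.GammaO57 CfsgLib.Orth CfsgLib.FieldPOmega in
theorem key {F₀ : Type*} [Field F₀] [Fintype F₀] {G : Type*} [Group G] (m : ℕ) (hm : 3 ≤ m)
    {a₀ b₀ : F₀} (hab₀ : Aniso a₀ b₀) (Q₀ : (MI m → F₀) → F₀) (hQ₀ : Q₀ = ⇑(minusQ m F₀ a₀ b₀))
    (E : Nonempty (G ≃* ↥((properSub m a₀ b₀).map (gAut (minusQ m F₀ a₀ b₀))))) :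
    Nonempty (G ≃* ↥(Cfsg.autSubgroupOf (fun β => ∃ g : Matrix.GeneralLinearGroup (MI m) F₀,
      g ∈ Cfsg.Geo.quadSimilarityGroup (F := F₀) Q₀ ∧
      Cfsg.PreservesSingularClassesMinus m a₀ b₀ (g : Matrix (MI m) (MI m) F₀) ∧
      Cfsg.IsInducedBySemilinearPOmega Q₀ g (RingEquiv.refl F₀) β))) := by
  subst hQ₀
  rw [inndiag_minus_eq (by omega) hab₀]
  exact E

set_option maxHeartbeats 1600000 in
open Cfsg.Agent.GammaO57 CfsgLib.Orth CfsgLib.FieldPOmega CfsgLib.FieldGalois in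
theorem aux {F : Type*} [Field F] [Fintype F] {p f : ℕ} [Fact p.Prime] (hF : Fintype.card F = p ^ f)
    {m : ℕ} (hm : 3 ≤ m) {a b a' b' : F} (hab : Aniso a b) (hab' : Aniso a' b')
    (Qf : (MI m → F) → F) (hQf : Qf = ⇑(minusQ m F a b))
    (Qf' : (MI m → F) → F) (hQf' : Qf' = ⇑(minusQ m F a' b'))
    (x : MulAut (Cfsg.POmega F Qf)) (ψ : Cfsg.POmega F Qf ≃* Cfsg.POmega F Qf') {σ : F ≃+* F}
    (ha : σ a' = a') (hb : σ b' = b') (hφ : Cfsg.IsFieldAutPOmegaOf Qf' σ ((ψ.symm.trans x).trans ψ))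
    {r : ℕ} (hxr : orderOf x = r) {F₀ : Type*} [Field F₀] [Fintype F₀]
    (hF₀ : Fintype.card F₀ = p ^ (f / r)) :
    Odd r ∧ r ∣ f ∧ (∃ a₀ b₀ : F₀, (∀ z₁ z₂ : F₀, z₁ ^ 2 + a₀ * z₁ * z₂ + b₀ * z₂ ^ 2 = 0 → z₁ = 0 ∧ z₂ = 0) ∧
      Nonempty (↥(Cfsg.autSubgroupOf (fun β => ∃ g : Matrix.GeneralLinearGroup (MI m) F,
          g ∈ Cfsg.Geo.quadSimilarityGroup (F := F) Qf ∧
          Cfsg.PreservesSingularClassesMinus m a b (g : Matrix (MI m) (MI m) F) ∧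
          Cfsg.IsInducedBySemilinearPOmega Qf g (RingEquiv.refl F) β) ⊓ Subgroup.centralizer {x}) ≃*
        ↥(Cfsg.inndiagPOmegaMinus m F₀ a₀ b₀))) ∧
    Cfsg.splitClassCount (Cfsg.autSubgroupOf (fun β => ∃ g : Matrix.GeneralLinearGroup (MI m) F,
        g ∈ Cfsg.Geo.quadSimilarityGroup (F := F) Qf ∧
        Cfsg.PreservesSingularClassesMinus m a b (g : Matrix (MI m) (MI m) F) ∧
        Cfsg.IsInducedBySemilinearPOmega Qf g (RingEquiv.refl F) β))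
      (Cfsg.Inn (Cfsg.POmega F Qf)) x = 1 := by
  subst hQf hQf'
  rw [inndiag_minus_eq (by omega) hab]
  have hφ' := eq_gAut_of_field (minus_fixes ha hb) hφ
  have hσ : orderOf σ = r := by
    rw [← hxr, ← orderOf_gAut_fEl (CfsgLib.POmega.minusQ_nondegenerate_any hab') (card_MI (by omega))
      (minusData (k := m) (by omega) a' b') (minus_fixes ha hb), ← hφ']
    exact MulEquiv.orderOf_eq (MulAut.congr ψ) x
  obtain ⟨e, he⟩ := exists_fixed_hom (F₀ := F₀) hF σ (by rw [hσ]; exact hF₀)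
  obtain ⟨a₀, rfl⟩ := (he a').1 ha
  obtain ⟨b₀, rfl⟩ := (he b').1 hb
  obtain ⟨⟨E⟩, hcount⟩ := minus_field_facts hm hab x e ψ hab' ha hb hφ' he
  have hab₀ := aniso_sub e hab'
  refine ⟨hσ ▸ odd_orderOf_of_aniso ha hb hab', hσ ▸ orderOf_dvd hF σ, ⟨a₀, b₀, hab₀, ?_⟩, hcount⟩
  have hi : Cfsg.inndiagPOmegaMinus m F₀ a₀ b₀ = Cfsg.autSubgroupOf
      (fun β => Cfsg.IsInnerDiagonalAutPOmegaMinus m a₀ b₀ β) := rfl
  rw [hi]
  exact key m hm hab₀ _ (minusQ_coe m a₀ b₀).symm ⟨E⟩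
/-- Let T = PΩ⁻_{2m+2}(F) (m ≥ 3, |F| = p^f; the form Σ xᵢ yᵢ + z₁² + a z₁ z₂ + b z₂² with anisotropic binary part), G = Inndiag(T), and x a field automorphism of T of prime order r. Then r is odd and divides f; C_G(x) is isomorphic to Inndiag(PΩ⁻_{2m+2}(F₀)) for a field F₀ with p^(f/r) elements and some anisotropic binary part over F₀; and the G-class of x is a single T-class. -/
theorem result {F : Type*} [Field F] [Fintype F] {p f : ℕ} [Fact p.Prime] (hF : Fintype.card F = p ^ f) (hf : 1 ≤ f) {m : ℕ} (hm : 3 ≤ m) (a b : F) (hab : (∀ z₁ z₂ : F, z₁ ^ 2 + a * z₁ * z₂ + b * z₂ ^ 2 = 0 → z₁ = 0 ∧ z₂ = 0)) (x : MulAut (Cfsg.POmega F (Cfsg.quadFormMinus m F a b))) (hx : Cfsg.IsFieldAutClassPOmegaMinus m x) {r : ℕ} (hr : r.Prime) (hxr : orderOf x = r) (F₀ : Type*) [Field F₀] [Fintype F₀] (hF₀ : Fintype.card F₀ = p ^ (f / r)) :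
    Odd r ∧ r ∣ f ∧ (∃ a₀ b₀ : F₀, (∀ z₁ z₂ : F₀, z₁ ^ 2 + a₀ * z₁ * z₂ + b₀ * z₂ ^ 2 = 0 → z₁ = 0 ∧ z₂ = 0) ∧ Nonempty (↥(Cfsg.inndiagPOmegaMinus m F a b ⊓ Subgroup.centralizer {x}) ≃* ↥(Cfsg.inndiagPOmegaMinus m F₀ a₀ b₀))) ∧ Cfsg.splitClassCount (Cfsg.inndiagPOmegaMinus m F a b) (Cfsg.Inn (Cfsg.POmega F (Cfsg.quadFormMinus m F a b))) x = 1 := by
  obtain ⟨a', b', ψ, σ, hab', -, ha, hb, hφ⟩ := hx
  exact aux hF hm hab hab' _ (CfsgLib.Orth.minusQ_coe m a b).symm _ (CfsgLib.Orth.minusQ_coe m a' b').symm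
    x ψ ha hb hφ hxr hF₀

end Cfsg.Agent.S2716
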