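import Cfsg.Statements.S2717
import Cfsg.Agent.Helper57GraphFieldAut

set_option autoImplicit false
open Cfsg

namespace Cfsg.Agent.S2717

open Cfsg.Agent.PlusField57 Cfsg.Agent.GraphFieldAut57 CfsgLib.Orth in
theorem aux {F : Type*} [Field F] [Fintype F] {p f : ℕ} [Fact p.Prime] (hF : Fintype.card F = p ^ f)
    {k : ℕ} (hk : 4 ≤ k) (Qf : (Fin (k + 1) ⊕ Fin (k + 1) → F) → F) (hQf : Qf = ⇑(plusQ (k + 1) F))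
    (x : MulAut (Cfsg.POmega F Qf))
    (hx : ∃ (α γ φ : MulAut (Cfsg.POmega F Qf)) (σ : F ≃+* F) (v : Fin (k + 1) ⊕ Fin (k + 1) → F)
        (r : GL (Fin (k + 1) ⊕ Fin (k + 1)) F),
      σ ≠ RingEquiv.refl F ∧ Qf v ≠ 0 ∧ (∀ i, σ (v i) = v i) ∧
      (r : Matrix (Fin (k + 1) ⊕ Fin (k + 1)) (Fin (k + 1) ⊕ Fin (k + 1)) F) = Cfsg.reflectionMatrix Qf v ∧
      Cfsg.IsInducedBySemilinearPOmega Qf r (RingEquiv.refl F) γ ∧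
      Cfsg.IsFieldAutPOmegaOf Qf σ φ ∧ α * x * α⁻¹ = γ * φ)
    (hx2 : orderOf x = 2) {F₀ : Type*} [Field F₀] [Fintype F₀] (hF₀ : Fintype.card F₀ = p ^ (f / 2))
    (G : Subgroup (MulAut (Cfsg.POmega F Qf)))
    (hG : G = Cfsg.autSubgroupOf (fun β : Cfsg.POmega F Qf ≃* Cfsg.POmega F Qf =>
      ∃ g : GL (Fin (k + 1) ⊕ Fin (k + 1)) F, g ∈ Cfsg.Geo.quadSimilarityGroup (F := F) Qf ∧
        Cfsg.PreservesSingularClasses Qf (g : Matrix (Fin (k + 1) ⊕ Fin (k + 1)) (Fin (k + 1) ⊕ Fin (k + 1)) F) ∧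
        Cfsg.IsInducedBySemilinearPOmega Qf g (RingEquiv.refl F) β)) :
    Even f ∧
    (∀ y : MulAut (Cfsg.POmega F Qf), (∃ (α γ φ : MulAut (Cfsg.POmega F Qf)) (σ : F ≃+* F)
        (v : Fin (k + 1) ⊕ Fin (k + 1) → F) (r : GL (Fin (k + 1) ⊕ Fin (k + 1)) F),
      σ ≠ RingEquiv.refl F ∧ Qf v ≠ 0 ∧ (∀ i, σ (v i) = v i) ∧
      (r : Matrix (Fin (k + 1) ⊕ Fin (k + 1)) (Fin (k + 1) ⊕ Fin (k + 1)) F) = Cfsg.reflectionMatrix Qf v ∧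
      Cfsg.IsInducedBySemilinearPOmega Qf r (RingEquiv.refl F) γ ∧
      Cfsg.IsFieldAutPOmegaOf Qf σ φ ∧ α * y * α⁻¹ = γ * φ) → orderOf y = 2 → Cfsg.IsConjUnder G x y) ∧
    (∃ a₀ b₀ : F₀, (∀ z₁ z₂ : F₀, z₁ ^ 2 + a₀ * z₁ * z₂ + b₀ * z₂ ^ 2 = 0 → z₁ = 0 ∧ z₂ = 0) ∧
      Nonempty (↥(G ⊓ Subgroup.centralizer {x}) ≃* ↥(Cfsg.inndiagPOmegaMinus k F₀ a₀ b₀))) ∧
    (p = 2 → Cfsg.splitClassCount G (Cfsg.Inn (Cfsg.POmega F Qf)) x = 1) ∧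
    ((p ≠ 2 ∧ Odd (k + 1) ∧ p ^ (f / 2) % 4 = 1) → Cfsg.splitClassCount G (Cfsg.Inn (Cfsg.POmega F Qf)) x = 4) ∧
    ((p ≠ 2 ∧ ¬ (Odd (k + 1) ∧ p ^ (f / 2) % 4 = 1)) →
      Cfsg.splitClassCount G (Cfsg.Inn (Cfsg.POmega F Qf)) x = 2) := by
  subst hQf
  rw [indAut_eq] at hG
  subst hG
  obtain ⟨h1, h2, ⟨ζ, hab, h3⟩, h4⟩ := gf_main hk hF hx hx2 hF₀
  refine ⟨h1, h2, ⟨1, ζ, hab, ?_⟩, h4⟩
  rw [minusQ_coe] at h3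
  exact h3

/-- Let T = PΩ⁺_{2m}(F) with m ≥ 5 (dimension 2m ≠ 8) and |F| = p^f, G = Inndiag(T), and x an involutory graph-field automorphism of T. Then f is even; any two involutory graph-field automorphisms of T are G-conjugate; C_G(x) is isomorphic to Inndiag(PΩ⁻_{2m}(F₀)) for a field F₀ with p^(f/2) elements (some anisotropic binary part over F₀); and the G-class of x is the union of exactly c T-classes with c = 1 if p = 2, c = 4 if p is odd, m is odd and p^(f/2) ≡ 1 (mod 4), and c = 2 otherwise. -/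
theorem result {F : Type*} [Field F] [Fintype F] {p f : ℕ} [Fact p.Prime] (hF : Fintype.card F = p ^ f) (hf : 1 ≤ f) {m : ℕ} (hm : 5 ≤ m) (x : MulAut (Cfsg.POmega F (Cfsg.quadFormPlus m F))) (hx : Cfsg.IsGraphFieldAutClassPOmegaPlus m x) (hx2 : orderOf x = 2) (F₀ : Type*) [Field F₀] [Fintype F₀] (hF₀ : Fintype.card F₀ = p ^ (f / 2)) :
    Even f ∧ (∀ y : MulAut (Cfsg.POmega F (Cfsg.quadFormPlus m F)), Cfsg.IsGraphFieldAutClassPOmegaPlus m y → orderOf y = 2 → Cfsg.IsConjUnder (Cfsg.inndiagPOmegaPlus m F) x y) ∧ (∃ a₀ b₀ : F₀, (∀ z₁ z₂ : F₀, z₁ ^ 2 + a₀ * z₁ * z₂ + b₀ * z₂ ^ 2 = 0 → z₁ = 0 ∧ z₂ = 0) ∧ Nonempty (↥(Cfsg.inndiagPOmegaPlus m F ⊓ Subgroup.centralizer {x}) ≃* ↥(Cfsg.inndiagPOmegaMinus (m - 1) F₀ a₀ b₀))) ∧ (p = 2 → Cfsg.splitClassCount (Cfsg.inndiagPOmegaPlus m F) (Cfsg.Inn (Cfsg.POmega F (Cfsg.quadFormPlus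 m F))) x = 1) ∧ ((p ≠ 2 ∧ Odd m ∧ p ^ (f / 2) % 4 = 1) → Cfsg.splitClassCount (Cfsg.inndiagPOmegaPlus m F) (Cfsg.Inn (Cfsg.POmega F (Cfsg.quadFormPlus m F))) x = 4) ∧ ((p ≠ 2 ∧ ¬ (Odd m ∧ p ^ (f / 2) % 4 = 1)) → Cfsg.splitClassCount (Cfsg.inndiagPOmegaPlus m F) (Cfsg.Inn (Cfsg.POmega F (Cfsg.quadFormPlus m F))) x = 2) := by
  obtain ⟨k, rfl⟩ : ∃ k, m = k + 1 := ⟨m - 1, by omega⟩
  exact aux hF (by omega) _ (CfsgLib.Orth.plusQ_coe _).symm x hx hx2 hF₀ _ rfl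

end Cfsg.Agent.S2717
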