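import Cfsg.Statements.S2718
import Cfsg.Agent.Lib.POmegaSim.GraphForms

set_option autoImplicit false
open Cfsg

namespace Cfsg.Agent.S2718

/-- Let T = PΩ⁺_{2m}(F) with m ≥ 4 and |F| = q odd, G = Inndiag(T), and γ an involutory graph automorphism of T induced by a similarity (one interchanging the two classes of maximal totally singular subspaces). Then the G-class of γ is either a single T-class or the union of exactly two T-classes, and it is the union of two unless m is odd and q ≡ 3 (mod 4). -/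
theorem result {F : Type*} [Field F] [Fintype F] (hodd : Odd (Fintype.card F)) {m : ℕ} (hm : 4 ≤ m) (γ : MulAut (Cfsg.POmega F (Cfsg.quadFormPlus m F))) (hγ : Cfsg.IsSimilarityGraphAutPOmegaPlus m γ) (hγ2 : orderOf γ = 2) :
    (Cfsg.splitClassCount (Cfsg.inndiagPOmegaPlus m F) (Cfsg.Inn (Cfsg.POmega F (Cfsg.quadFormPlus m F))) γ = 1 ∨ Cfsg.splitClassCount (Cfsg.inndiagPOmegaPlus m F) (Cfsg.Inn (Cfsg.POmega F (Cfsg.quadFormPlus m F))) γ = 2) ∧ (¬ (Odd m ∧ Fintype.card F % 4 = 3) → Cfsg.splitClassCount (Cfsg.inndiagPOmegaPlus m F) (Cfsg.Inn (Cfsg.POmega F (Cfsg.quadFormPlus m F))) γ = 2) := by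
  have h2 : (2 : F) ≠ 0 := Cfsg.Agent.Spinor57.two_ne_zero_of_odd rfl hodd
  have hn := CfsgLib.POmegaSim.plus_neg_mem (m := m) hodd
  have hγγ : γ * γ = 1 := (pow_two γ).symm.trans ((congrArg (γ ^ ·) hγ2.symm).trans (pow_orderOf_eq_one γ))
  have key := CfsgLib.POmegaSim.graph_split' (CfsgLib.POmegaSim.plusSim hm h2) (CfsgLib.Orth.plusQ_coe m)
    (fun g => Cfsg.PreservesSingularClasses (Cfsg.quadFormPlus m F) (g : Matrix (Fin m ⊕ Fin m) (Fin m ⊕ Fin m) F))
    (fun x => CfsgLib.POmegaSim.plus_preserves hm h2 x) (Cfsg.inndiagPOmegaPlus m F) rfl hγ hγγ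
  exact ⟨key.1, fun h => key.2 (Or.inl (hn.2 h))⟩

end Cfsg.Agent.S2718
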