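import Cfsg.Statements.S2719
import Cfsg.Agent.Lib.POmegaSim.GraphForms

set_option autoImplicit false
open Cfsg

namespace Cfsg.Agent.S2719

/-- Let T = PΩ⁻_{2m+2}(F) with m ≥ 3 and |F| = q odd (form with anisotropic binary part z₁² + a z₁ z₂ + b z₂²), G = Inndiag(T), and γ an involutory graph automorphism of T (an automorphism in the image of the semisimilarity group, not inner-diagonal, of order 2). Then the G-class of γ is either a single T-class or the union of exactly two T-classes, and it is the union of two unless m is even and q ≡ 1 (mod 4). -/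
theorem result {F : Type*} [Field F] [Fintype F] (hodd : Odd (Fintype.card F)) {m : ℕ} (hm : 3 ≤ m) (a b : F) (hab : (∀ z₁ z₂ : F, z₁ ^ 2 + a * z₁ * z₂ + b * z₂ ^ 2 = 0 → z₁ = 0 ∧ z₂ = 0)) (γ : MulAut (Cfsg.POmega F (Cfsg.quadFormMinus m F a b))) (hγ : Cfsg.IsGraphAutClassPOmegaMinus m a b γ) (hγ2 : orderOf γ = 2) :
    (Cfsg.splitClassCount (Cfsg.inndiagPOmegaMinus m F a b) (Cfsg.Inn (Cfsg.POmega F (Cfsg.quadFormMinus m F a b))) γ = 1 ∨ Cfsg.splitClassCount (Cfsg.inndiagPOmegaMinus m F a b) (Cfsg.Inn (Cfsg.POmega F (Cfsg.quadFormMinus m F a b))) γ = 2) ∧ (¬ (Even m ∧ Fintype.card F % 4 = 1) → Cfsg.splitClassCount (Cfsg.inndiagPOmegaMinus m F a b) (Cfsg.Inn (Cfsg.POmega F (Cfsg.quadFormMinus m F a b))) γ = 2) := by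
  have h2 : (2 : F) ≠ 0 := Cfsg.Agent.Spinor57.two_ne_zero_of_odd rfl hodd
  have hn := CfsgLib.POmegaSim.minus_neg_mem (k := m) hodd hab
  have hγγ : γ * γ = 1 := (pow_two γ).symm.trans ((congrArg (γ ^ ·) hγ2.symm).trans (pow_orderOf_eq_one γ))
  have key := CfsgLib.POmegaSim.graph_split_minus hm h2 hab (CfsgLib.Orth.minusQ_coe m a b)
    (Cfsg.inndiagPOmegaMinus m F a b) rfl hγ.1 hγ.2.1 hγγ
  refine ⟨key.1, fun h => key.2 ?_⟩
  rcases Nat.even_or_odd m with hm2 | hm2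
  · refine Or.inl (hn.2 ⟨hm2, ?_⟩)
    have h1 := Nat.odd_iff.1 hodd
    have h2' : Fintype.card F % 4 ≠ 1 := fun e => h ⟨hm2, e⟩
    omega
  · exact Or.inr hm2

end Cfsg.Agent.S2719
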