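import Cfsg.Statements.S2725
import Cfsg.Agent.Lib.POmegaSim.Inndiag

set_option autoImplicit false
open Cfsg

namespace Cfsg.Agent.S2725

/-- Let T = PΩ⁺_{2m}(F) with m ≥ 4 and |F| = q odd. The inner-diagonal group G = Inndiag(T) (image of the class-preserving similarities) taken modulo the inner automorphism group T is cyclic of order 2 when m is odd and q ≡ 3 (mod 4), cyclic of order 4 when m is odd and q ≡ 1 (mod 4), and elementary abelian of order 4 when m is even. -/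
theorem result {F : Type*} [Field F] [Fintype F] (hodd : Odd (Fintype.card F)) {m : ℕ} (hm : 4 ≤ m) :
    ((Odd m ∧ Fintype.card F % 4 = 3) → (∃ φ : ↥(Cfsg.inndiagPOmegaPlus m F) →* Multiplicative (ZMod 2), Function.Surjective φ ∧ φ.ker = (Cfsg.Inn (Cfsg.POmega F (Cfsg.quadFormPlus m F))).subgroupOf (Cfsg.inndiagPOmegaPlus m F))) ∧ ((Odd m ∧ Fintype.card F % 4 = 1) → (∃ φ : ↥(Cfsg.inndiagPOmegaPlus m F) →* Multiplicative (ZMod 4), Function.Surjective φ ∧ φ.ker = (Cfsg.Inn (Cfsg.POmega F (Cfsg.quadFormPlus m F))).subgroupOf (Cfsg.inndiagPOmegaPlus m F))) ∧ (Even m → (∃ φ : ↥(Cfsg.inndiagPOmegaPlus m F) →* Multiplicative (ZMod 2 × ZMod 2), Function.Surjective φ ∧ φ.ker = (Cfsg.Inn (Cfsg.POmega F (Cfsg.quadFormPlus m F))).subgroupOf (Cfsg.inndiagPOmegaPlus m F))) := by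
  have h2 : (2 : F) ≠ 0 := Cfsg.Agent.Spinor57.two_ne_zero_of_odd rfl hodd
  have hn := CfsgLib.POmegaSim.plus_neg_mem (m := m) hodd
  have key := CfsgLib.POmegaSim.inndiag_structure' (CfsgLib.POmegaSim.plusSim hm h2) (CfsgLib.Orth.plusQ_coe m)
    (fun g => Cfsg.PreservesSingularClasses (Cfsg.quadFormPlus m F) (g : Matrix (Fin m ⊕ Fin m) (Fin m ⊕ Fin m) F))
    (fun x => CfsgLib.POmegaSim.plus_preserves hm h2 x) (Cfsg.inndiagPOmegaPlus m F) rfl
  obtain ⟨k1, k2, k3⟩ := key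
  have hq : Fintype.card F % 2 = 1 := Nat.odd_iff.1 hodd
  refine ⟨fun h => k1 fun hh => hn.1 hh h, fun h => k2 (hn.2 fun hh => by omega) h.1, fun h => k3 (hn.2 fun hh => ?_) h⟩
  exact Nat.not_odd_iff_even.2 h hh.1

end Cfsg.Agent.S2725
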