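import Cfsg.Statements.S2730
import Cfsg.Agent.Lib.AutPSp.Balance

set_option autoImplicit false
open Cfsg CfsgLib.AutPSp CfsgLib.AutBalance

namespace Cfsg.Agent.S2730

theorem conj_injective {m : ℕ} {F : Type*} [Field F] (hm : 1 ≤ m) (hK : IsSimpleGroup (Cfsg.PSp m F)) :
    Function.Injective (MulAut.conj : PSpG m F →* MulAut (PSpG m F)) := by
  refine (injective_iff_map_eq_one _).mpr fun g hg => ?_
  rcases (inferInstance : (Subgroup.center (PSpG m F)).Normal).eq_bot_or_eq_top with h | h
  · have : g ∈ Subgroup.center (PSpG m F) := by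
      rw [Subgroup.mem_center_iff]
      intro y
      have := DFunLike.congr_fun hg y
      rw [MulAut.conj_apply, MulAut.one_apply, mul_inv_eq_iff_eq_mul] at this
      exact this.symm
    rw [h] at this
    exact Subgroup.mem_bot.mp this
  · exfalso
    set z : Fin m := ⟨0, by omega⟩
    have hc : Commute (tel (ee z : Vec m F) 1) (tel (ff z) 1) := by
      have : tel (ee z : Vec m F) 1 ∈ Subgroup.center (PSpG m F) := h ▸ Subgroup.mem_top _
      exact ((Subgroup.mem_center_iff.mp this) _).symm
    have := (commute_tel_iff (ee_ne_zero z) (ff_ne_zero z) one_ne_zero one_ne_zero).mp hc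
    simp [form_ff_right] at this

/-- A criterion for the failure of local balance in almost simple groups whose socle is a projective symplectic group PSp_{2m}(F) (m ≥ 2, (2m, |F|) ≠ (4, 2)). Let F be a finite field of characteristic r and K the (simple) group in question; let A be a group of automorphisms of K containing all inner automorphisms, and x ∈ A an automorphism of prime order p ≠ r that is not inner-diagonal (not induced by a conformal symplectic matrix). Then the largest normal subgroup of C_A(x) of order prime to p is nontrivial if and only if x is a field automorphism of K (conjugate under Aut(K) to a non-identity standard field automorphism) and p does not divide the number of fixed points of x on K. -/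
theorem result {F : Type*} [Field F] [Fintype F] {r : ℕ} [Fact r.Prime] [CharP F r] {m : ℕ} (hm : 2 ≤ m) (hs : m = 2 → 3 ≤ Fintype.card F) (hK : IsSimpleGroup (Cfsg.PSp m F)) (A : Subgroup (MulAut (Cfsg.PSp m F))) (hinn : ∀ k : Cfsg.PSp m F, MulAut.conj k ∈ A) {p : ℕ} [Fact p.Prime] (hpr : p ≠ r) (x : MulAut (Cfsg.PSp m F)) (hxA : x ∈ A) (hord : orderOf x = p) (hnot : ¬ Cfsg.IsInnerDiagonalAutPSp x) :
    Cfsg.pPrimeCore p ↥(A ⊓ Subgroup.centralizer {x}) ≠ ⊥ ↔ (Cfsg.IsFieldAutClassPSp x ∧ Nat.Coprime p (Nat.card ↥(MonoidHom.eqLocus x.toMonoidHom (MonoidHom.id (Cfsg.PSp m F))))) := by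
  have hp := (Fact.out : p.Prime)
  have hm1 : 1 ≤ m := by omega
  have hinj := conj_injective hm1 hK
  have hp2 : (2 : F) = 0 → p ≠ 2 := fun h2 e => hpr (by
    have : r ∣ 2 := (CharP.cast_eq_zero_iff F r 2).mp (by exact_mod_cast h2)
    rw [e, ((Nat.prime_dvd_prime_iff_eq (Fact.out : r.Prime) Nat.prime_two).mp this)])
  have hcase : ((2 : F) ≠ 0 ∨ 3 ≤ m) ∨ PresTel x := by
    by_cases h3 : 3 ≤ m
    · exact Or.inl (Or.inr h3)
    by_cases h2 : (2 : F) = 0
    · obtain rfl : m = 2 := by omega
      have : CharP F 2 := CharTwo.of_one_ne_zero_of_two_eq_zero one_ne_zero h2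
      exact Or.inr (presTel_of_odd (hp.odd_of_ne_two (hp2 h2)) (hord ▸ pow_orderOf_eq_one x))
    · exact Or.inl (Or.inl h2)
  obtain ⟨k, σ, hσ, hx⟩ := exists_field_conj hm1 hord hnot hcase
  have hfield : Cfsg.IsFieldAutClassPSp x := by
    refine ⟨(conjS k)⁻¹, σ, fun e => ?_, isStdField_iff.mpr ?_⟩
    · rw [show σ = 1 from e, orderOf_one] at hσ
      exact hp.one_lt.ne hσ
    · rw [hx]; group
  -- the fixed points of `x` and of `fieldS σ`
  let e : fixedPts (fieldS (m := m) σ) ≃* fixedPts x :=
    { toFun := fun y => ⟨conjS k y.1, by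
        show x (conjS k y.1) = conjS k y.1
        rw [hx, MulAut.mul_apply, MulAut.mul_apply, MulAut.inv_apply_self,
          show fieldS σ y.1 = y.1 from y.2]⟩
      invFun := fun y => ⟨(conjS k)⁻¹ y.1, by
        show fieldS σ ((conjS k)⁻¹ y.1) = (conjS k)⁻¹ y.1
        apply (conjS k).injective
        rw [MulAut.apply_inv_self]
        have h := y.2
        change x y.1 = y.1 at h
        have h' := (DFunLike.congr_fun hx y.1).symm.trans h
        rw [MulAut.mul_apply, MulAut.mul_apply] at h'
        exact h'⟩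
      left_inv := fun y => Subtype.ext (MulAut.inv_apply_self _ _ _)
      right_inv := fun y => Subtype.ext (MulAut.apply_inv_self _ _ _)
      map_mul' := fun a b => Subtype.ext (map_mul (conjS k) a.1 b.1) }
  constructor
  · intro h
    refine ⟨hfield, ?_⟩
    by_contra hcop
    apply h
    have hdvd : p ∣ Nat.card (fixedPts (fieldS (m := m) σ)) := by
      rw [Nat.card_congr e.toEquiv]
      exact (hp.coprime_iff_not_dvd.not_left.mp hcop)
    refine core_eq_bot hinj A hinn x (hord ▸ pow_orderOf_eq_one x)
      (CfsgLib.PCore.pPrimeCore_eq_bot_of_equiv e (core_fixedPts_eq_bot hm hp2 σ hinj hdvd)) ?_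
    intro n hcomm hfix
    have hn' : ∀ (v : Vec m F) (a : F), σ ∘ v = v → σ a = a →
        ((conjS k)⁻¹ * n * conjS k) (tel v a) = tel v a := by
      intro v a hv ha
      have hmem : tel v a ∈ fixedPts (fieldS (m := m) σ) := by
        show fieldS σ (tel v a) = tel v a
        rw [fieldS_tel, hv, ha]
      have h1 := hfix _ (e ⟨_, hmem⟩).2
      change n (conjS k (tel v a)) = conjS k (tel v a) at h1
      rw [MulAut.mul_apply, MulAut.mul_apply, h1, MulAut.inv_apply_self]
    obtain ⟨τ, ⟨j, rfl⟩, hτ⟩ := mem_zpowers_of_fix hm σ _ hn'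
    refine ⟨j, ?_⟩
    show x ^ j = n
    rw [hx, conj_zpow, ← map_zpow, ← hτ]
    group
  · rintro ⟨-, hcop⟩
    refine core_ne_bot hinj A hinn x ?_ hcop
    set z : Fin m := ⟨0, by omega⟩
    refine ⟨conjS k (tel (ee z) 1), fun h => tel_ne_one (ee_ne_zero (F := F) z) one_ne_zero
      ((map_eq_one_iff _ (conjS k).injective).mp h), ?_⟩
    rw [hx, MulAut.mul_apply, MulAut.mul_apply, MulAut.inv_apply_self, fieldS_tel, map_one,
      show σ ∘ (ee z : Vec m F) = ee z by funext l; simp [Pi.single_apply, apply_ite σ]]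

end Cfsg.Agent.S2730
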