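import Cfsg.Statements.S2731
import Cfsg.Agent.Lib.AutPOmega.OddField

set_option autoImplicit false
open Cfsg CfsgLib.AutPOmega CfsgLib.AutBalance

namespace Cfsg.Agent.S2731

/-- The criterion for the form as a quadratic map. -/
theorem main {F : Type*} [Field F] [Fintype F] (h2 : (2 : F) ≠ 0) {m : ℕ} (hm : 3 ≤ m)
    (A : Subgroup (MulAut (PG (Cfsg.Agent.Spinor57.qOdd m F)))) (hinn : ∀ k, MulAut.conj k ∈ A)
    {p : ℕ} [Fact p.Prime] (x : MulAut (PG (Cfsg.Agent.Spinor57.qOdd m F))) (hord : orderOf x = p)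
    (hnot : ¬ Cfsg.IsSimilarityInducedAutPOmega ⇑(Cfsg.Agent.Spinor57.qOdd m F) x) :
    Cfsg.pPrimeCore p ↥(A ⊓ Subgroup.centralizer {x}) ≠ ⊥ ↔
      (Cfsg.IsFieldAutClassPOmega ⇑(Cfsg.Agent.Spinor57.qOdd m F) x ∧
        Nat.Coprime p (Nat.card (fixedPts x))) := by
  classical
  have hp := (Fact.out : p.Prime)
  have hxp : x ^ p = 1 := hord ▸ pow_orderOf_eq_one x
  obtain ⟨σ, a, hσ, hxa⟩ := Odd.exists_conj_field h2 hm hp hxp hnot
  have hinj := (oddFrame F h2 m hm).conj_injective
  let e : fixedPts (Odd.fld (F := F) m σ) ≃* fixedPts x :=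
    { toFun := fun y => ⟨a y.1, by
        show x (a y.1) = a y.1
        rw [hxa, MulAut.mul_apply, MulAut.mul_apply, MulAut.inv_apply_self,
          show Odd.fld m σ y.1 = y.1 from y.2]⟩
      invFun := fun y => ⟨a⁻¹ y.1, by
        show Odd.fld m σ (a⁻¹ y.1) = a⁻¹ y.1
        apply a.injective
        rw [MulAut.apply_inv_self]
        have h' := (DFunLike.congr_fun hxa y.1).symm.trans y.2
        rw [MulAut.mul_apply, MulAut.mul_apply] at h'
        exact h'⟩
      left_inv := fun y => Subtype.ext (MulAut.inv_apply_self _ _ _)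
      right_inv := fun y => Subtype.ext (MulAut.apply_inv_self _ _ _)
      map_mul' := fun u v => Subtype.ext (map_mul a u.1 v.1) }
  have hfield : Cfsg.IsFieldAutClassPOmega ⇑(Cfsg.Agent.Spinor57.qOdd m F) x := by
    refine ⟨a⁻¹, Odd.fld m σ, σ, fun h => ?_, Odd.isFieldAutOf_fld σ, by rw [hxa]; group⟩
    rw [h, show (RingEquiv.refl F : F ≃+* F) = 1 from rfl, orderOf_one] at hσ
    exact hp.one_lt.ne hσ
  constructor
  · refine fun h => ⟨hfield, ?_⟩
    by_contra hcop
    apply h
    have hdvd : p ∣ Nat.card (fixedPts (Odd.fld (F := F) m σ)) := by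
      rw [Nat.card_congr e.toEquiv]
      exact hp.coprime_iff_not_dvd.not_left.mp hcop
    refine core_eq_bot hinj A hinn x hxp
      (CfsgLib.PCore.pPrimeCore_eq_bot_of_equiv e (Odd.core_fixedPts h2 hm σ hdvd)) ?_
    intro u _ hfix
    obtain ⟨τ, ⟨j, hj⟩, hτ⟩ := Odd.eq_field_of_fix h2 hm σ (a⁻¹ * u * a) fun k hk => by
      have h1 := hfix _ (e ⟨k, hk⟩).2
      change u (a k) = a k at h1
      rw [MulAut.mul_apply, MulAut.mul_apply, h1, MulAut.inv_apply_self]
    refine ⟨j, ?_⟩
    show x ^ j = u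
    have hj' : σ ^ j = τ := hj
    rw [hxa, conj_zpow, ← map_zpow, hj', ← hτ]
    group
  · rintro ⟨-, hcop⟩
    refine core_ne_bot hinj A hinn x ?_ hcop
    obtain ⟨k, hk1, hk⟩ := Odd.exists_fixed_ne_one h2 hm σ
    exact ⟨a k, fun h => hk1 ((map_eq_one_iff _ a.injective).mp h), (e ⟨k, hk⟩).2⟩

/-- A criterion for the failure of local balance in almost simple groups whose socle is an odd-dimensional orthogonal group Ω_{2m+1}(F) (m ≥ 3, |F| odd; the form x₀² + Σ xᵢ yᵢ). Let F be a finite field of characteristic r and K the (simple) group in question; let A be a group of automorphisms of K containing all inner automorphisms, and x ∈ A an automorphism of prime order p ≠ r that is not inner-diagonal (not induced by a similarity of the form). Then the largest normal subgroup of C_A(x) of order prime to p is nontrivial if and only if x is a field automorphism of K (conjugate under Aut(K) to a non-identity standard field automorphism) and p does not divide the number of fixed points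 of x on K. -/
theorem result {F : Type*} [Field F] [Fintype F] {r : ℕ} [Fact r.Prime] [CharP F r] (hodd : Odd (Fintype.card F)) {m : ℕ} (hm : 3 ≤ m) (hK : IsSimpleGroup (Cfsg.POmega F (Cfsg.quadFormOdd m F))) (A : Subgroup (MulAut (Cfsg.POmega F (Cfsg.quadFormOdd m F)))) (hinn : ∀ k : Cfsg.POmega F (Cfsg.quadFormOdd m F), MulAut.conj k ∈ A) {p : ℕ} [Fact p.Prime] (hpr : p ≠ r) (x : MulAut (Cfsg.POmega F (Cfsg.quadFormOdd m F))) (hxA : x ∈ A) (hord : orderOf x = p) (hnot : ¬ Cfsg.IsInnerDiagonalAutPOmegaOdd m x) :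
    Cfsg.pPrimeCore p ↥(A ⊓ Subgroup.centralizer {x}) ≠ ⊥ ↔ (Cfsg.IsFieldAutClassPOmega (Cfsg.quadFormOdd m F) x ∧ Nat.Coprime p (Nat.card ↥(MonoidHom.eqLocus x.toMonoidHom (MonoidHom.id (Cfsg.POmega F (Cfsg.quadFormOdd m F)))))) := by
  have h2 := CfsgLib.POmega.two_ne_zero_of_odd (F := F) hodd
  unfold Cfsg.IsInnerDiagonalAutPOmegaOdd at hnot
  revert A x
  rw [← Cfsg.Agent.Spinor57.qOdd_coe (m := m) (F := F)] at *
  intro A hinn x _ hord hnot
  exact main h2 hm A hinn x hord hnot

end Cfsg.Agent.S2731
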