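import Cfsg.Statements.S2732
import Cfsg.Agent.Lib.POmegaBalPlus.Main

set_option autoImplicit false
open Cfsg

namespace Cfsg.Agent.S2732

open CfsgLib.Orth CfsgLib.AutBalance CfsgLib.FieldPOmega Cfsg.Agent.PlusField57 Cfsg.Agent.GammaO57

theorem main {F : Type*} [Field F] [Fintype F] {r : ℕ} [Fact r.Prime] [CharP F r] {m : ℕ} (hm : 4 ≤ m)
    (Qf : (Fin m ⊕ Fin m → F) → F) (hQf : Qf = ⇑(plusQ m F)) (A : Subgroup (MulAut (Cfsg.POmega F Qf)))
    (hinn : ∀ k, MulAut.conj k ∈ A) {p : ℕ} [Fact p.Prime] (hpr : p ≠ r) (x : MulAut (Cfsg.POmega F Qf))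
    (hord : orderOf x = p)
    (hnot : ¬ ∃ g : GL (Fin m ⊕ Fin m) F, g ∈ Cfsg.Geo.quadSimilarityGroup (F := F) Qf ∧
      Cfsg.PreservesSingularClasses Qf (g : Matrix (Fin m ⊕ Fin m) (Fin m ⊕ Fin m) F) ∧
      Cfsg.IsInducedBySemilinearPOmega Qf g (RingEquiv.refl F) x) :
    Cfsg.pPrimeCore p ↥(A ⊓ Subgroup.centralizer {x}) ≠ ⊥ ↔
      (Cfsg.IsFieldAutClassPOmega Qf x ∧ Nat.Coprime p (Nat.card (fixedPts x))) := by
  subst hQf
  refine CfsgLib.POmegaBalPlus.plus_crit (r := r) hm hpr A hinn (hord ▸ pow_orderOf_eq_one x) fun hx => hnot ?_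
  obtain ⟨y, h1, h2, rfl⟩ := mem_indAut.1 hx
  obtain ⟨c, hc⟩ := y.2
  have hmem : SemidirectProduct.inl y.1.left ∈ semiGroup (plusQ m F) := by rw [inl_left h2]; exact y.2
  have hi := gAut_induced y
  rw [h2] at hi
  refine ⟨y.1.left, ⟨c, fun v => ?_⟩, (preserves_iff _ hmem).2 ?_, hi⟩
  · have h := hc v
    rw [semi, h2] at h
    exact h
  · rw [← h1]
    exact congrArg (psgn m F) (Subtype.ext (inl_left h2))

/-- A criterion for the failure of local balance in almost simple groups whose socle is a plus-type orthogonal group PΩ⁺_{2m}(F) (m ≥ 4; the form Σ xᵢ yᵢ). Let F be a finite field of characteristic r and K the (simple) group in question; let A be a group of automorphisms of K containing all inner automorphisms, and x ∈ A an automorphism of prime order p ≠ r that is not inner-diagonal (not induced by a similarity preserving the two classes of maximal totally singular subspaces). Then the largest normal subgroup of C_A(x) of order prime to p is nontrivial if and only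 if x is a field automorphism of K (conjugate under Aut(K) to a non-identity standard field automorphism) and p does not divide the number of fixed points of x on K. -/
theorem result {F : Type*} [Field F] [Fintype F] {r : ℕ} [Fact r.Prime] [CharP F r] {m : ℕ} (hm : 4 ≤ m) (hK : IsSimpleGroup (Cfsg.POmega F (Cfsg.quadFormPlus m F))) (A : Subgroup (MulAut (Cfsg.POmega F (Cfsg.quadFormPlus m F)))) (hinn : ∀ k : Cfsg.POmega F (Cfsg.quadFormPlus m F), MulAut.conj k ∈ A) {p : ℕ} [Fact p.Prime] (hpr : p ≠ r) (x : MulAut (Cfsg.POmega F (Cfsg.quadFormPlus m F))) (hxA : x ∈ A) (hord : orderOf x = p) (hnot : ¬ Cfsg.IsInnerDiagonalAutPOmegaPlus m x) :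
    Cfsg.pPrimeCore p ↥(A ⊓ Subgroup.centralizer {x}) ≠ ⊥ ↔ (Cfsg.IsFieldAutClassPOmega (Cfsg.quadFormPlus m F) x ∧ Nat.Coprime p (Nat.card ↥(MonoidHom.eqLocus x.toMonoidHom (MonoidHom.id (Cfsg.POmega F (Cfsg.quadFormPlus m F)))))) := by
  exact main hm _ (CfsgLib.Orth.plusQ_coe m).symm A hinn hpr x hord hnot

end Cfsg.Agent.S2732
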