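import Cfsg.Statements.S2733
import Cfsg.Agent.Lib.POmegaBal.GraphMain
import Cfsg.Agent.Lib.POmegaBal.FieldCore
import Cfsg.Agent.Lib.POmegaBal.FieldConj
import Cfsg.Agent.S2696

set_option autoImplicit false
open Cfsg

namespace Cfsg.Agent.S2733

open Matrix QuadraticMap CfsgLib.Orth CfsgLib.AutBalance Cfsg.Agent.GammaO57 CfsgLib.FieldPOmega CfsgLib.POmegaBal

/-- The fixed points correspond under an isomorphism. -/
def fixEquiv {X Y : Type*} [Group X] [Group Y] (ψ : X ≃* Y) (x : MulAut X) :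
    fixedPts x ≃* fixedPts (MulAut.congr ψ x) where
  toFun z := ⟨ψ z.1, by
    show ψ (x (ψ.symm (ψ z.1))) = ψ z.1
    rw [MulEquiv.symm_apply_apply, show x z.1 = z.1 from z.2]⟩
  invFun z := ⟨ψ.symm z.1, by
    show x (ψ.symm z.1) = ψ.symm z.1
    apply ψ.injective
    rw [MulEquiv.apply_symm_apply]
    exact z.2⟩
  left_inv z := Subtype.ext (ψ.symm_apply_apply _)
  right_inv z := Subtype.ext (ψ.apply_symm_apply _)
  map_mul' z w := Subtype.ext (map_mul ψ z.1 w.1)

/-- An automorphism induced by an improper similarity of square order two: the core is trivial. -/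
theorem graph_core {F : Type*} [Field F] [Fintype F] {m : ℕ} (hm : 3 ≤ m) {a b : F} (hab : Aniso a b)
    (hgamma : Cfsg.gammaPOmega F ⇑(minusQ m F a b) = ⊤)
    (A : Subgroup (MulAut (Cfsg.POmega F ⇑(minusQ m F a b)))) (hinn : ∀ k, MulAut.conj k ∈ A)
    (h2 : (2 : F) ≠ 0) (w : ↥(CfsgLib.POmegaSim.Sim (minusQ m F a b)))
    (hxp : CfsgLib.POmegaSim.act (minusQ m F a b) w ^ 2 = 1)
    (hn : ¬ Cfsg.PreservesSingularClassesMinus m a b (w.1 : Matrix (MI m) (MI m) F)) :
    Cfsg.pPrimeCore 2 ↥(A ⊓ Subgroup.centralizer {CfsgLib.POmegaSim.act (minusQ m F a b) w}) = ⊥ := by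
  have hs : (CfsgLib.POmegaSim.minusSim hm h2 hab).sgn w = -1 := (Int.units_eq_one_or _).resolve_left fun h =>
    hn ((CfsgLib.POmegaSim.minus_preserves hm h2 hab w).2 h)
  exact graph_balance (CfsgLib.POmegaSim.minusSim hm h2 hab) (show 4 ≤ m + 1 by omega) (gAut_surjective hgamma)
    A hinn hs (by rw [map_mul, ← pow_two, hxp])

/-- An involution is not a field automorphism. -/
theorem not_field {F : Type*} [Field F] [Fintype F] {m : ℕ} (hm : 3 ≤ m) {Qf : (MI m → F) → F}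
    {x : MulAut (Cfsg.POmega F Qf)} (hord : orderOf x = 2) :
    ¬ ∃ (a' b' : F) (ψ : Cfsg.POmega F Qf ≃* Cfsg.POmega F (Cfsg.quadFormMinus m F a' b')) (σ : F ≃+* F),
        (∀ z₁ z₂ : F, z₁ ^ 2 + a' * z₁ * z₂ + b' * z₂ ^ 2 = 0 → z₁ = 0 ∧ z₂ = 0) ∧
        σ ≠ RingEquiv.refl F ∧ σ a' = a' ∧ σ b' = b' ∧
        Cfsg.IsFieldAutPOmegaOf (Cfsg.quadFormMinus m F a' b') σ ((ψ.symm.trans x).trans ψ) := by
  rintro ⟨a', b', ψ, σ, hab', -, ha, hb, hφ⟩
  revert ψ
  rw [← CfsgLib.Orth.minusQ_coe]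
  intro ψ hφ
  have he : MulAut.congr ψ x = gAut (minusQ m F a' b') (fEl (minus_fixes ha hb)) :=
    eq_gAut_of_field (minus_fixes ha hb) hφ
  have hordσ : orderOf σ = 2 := by
    rw [← hord, ← orderOf_gAut_fEl (CfsgLib.POmega.minusQ_nondegenerate_any hab') (card_MI (k := m) (by omega))
      (minusData (k := m) (by omega) a' b') (minus_fixes ha hb), ← he]
    exact MulEquiv.orderOf_eq (MulAut.congr ψ) x
  have := odd_orderOf_of_aniso ha hb hab'
  rw [hordσ] at this
  exact absurd this (by decide)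

/-- The criterion at a conjugate of a standard field automorphism of odd prime order. -/
theorem field_crit {F : Type*} [Field F] [Fintype F] {m : ℕ} (hm : 3 ≤ m) {a' b' : F} (hab' : Aniso a' b')
    {σ : F ≃+* F} (ha : σ a' = a') (hb : σ b' = b') {p : ℕ} [Fact p.Prime] (hodd : Odd p) (hσp : σ ^ p = 1)
    (hgamma' : Cfsg.gammaPOmega F ⇑(minusQ m F a' b') = ⊤) {X : Type*} [Group X] [Finite X]
    (hinj : Function.Injective (MulAut.conj : X →* MulAut X)) (A : Subgroup (MulAut X))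
    (hinn : ∀ k, MulAut.conj k ∈ A) (x : MulAut X) (hxp : x ^ p = 1)
    (ψ : X ≃* Cfsg.POmega F ⇑(minusQ m F a' b'))
    (hψ : MulAut.congr ψ x = gAut (minusQ m F a' b') (fEl (minus_fixes ha hb))) :
    (Cfsg.pPrimeCore p ↥(A ⊓ Subgroup.centralizer {x}) ≠ ⊥ → Nat.Coprime p (Nat.card (fixedPts x))) ∧
      (Nat.Coprime p (Nat.card (fixedPts x)) → Cfsg.pPrimeCore p ↥(A ⊓ Subgroup.centralizer {x}) ≠ ⊥) := by
  have hp := (Fact.out : p.Prime)
  let e := fixEquiv ψ x
  refine ⟨fun h => ?_, fun hcop => ?_⟩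
  · by_contra hcop
    apply h
    have hdvd : p ∣ Nat.card (fixedPts (gAut (minusQ m F a' b') (fEl (minus_fixes ha hb)))) := by
      rw [← hψ, ← Nat.card_congr e.toEquiv]
      exact hp.coprime_iff_not_dvd.not_left.mp hcop
    have hcore := core_fixed hm (CfsgLib.POmega.minusQ_nondegenerate_any hab') ha hb
      (fun h => absurd (h ▸ hodd) (by decide)) hσp fun _ => hdvd
    rw [← hψ] at hcore
    refine core_eq_bot hinj A hinn x hxp (CfsgLib.PCore.pPrimeCore_eq_bot_of_equiv e.symm hcore) ?_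
    intro u _ hfix
    obtain ⟨y, hy⟩ := gAut_surjective hgamma' (MulAut.congr ψ u)
    obtain ⟨j, hj⟩ := eq_zpow_of_fix hm (CfsgLib.POmega.minusQ_nondegenerate_any hab') ha hb y fun v c hmem hv hc hvr hcr => by
      have hmem' := fEl_fix hm (CfsgLib.POmega.minusQ_nondegenerate_any hab') ha hb hv hc hvr hcr
      rw [← hψ] at hmem'
      have hk : u (ψ.symm _) = ψ.symm _ := hfix _ (e.symm ⟨_, hmem'⟩).2
      rw [hy]
      show ψ (u (ψ.symm _)) = _
      rw [hk]
      exact ψ.apply_symm_apply _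
    refine ⟨j, (MulAut.congr ψ).injective ?_⟩
    show MulAut.congr ψ (x ^ j) = _
    rw [map_zpow, hψ, ← hy]
    exact hj
  · refine core_ne_bot hinj A hinn x ?_ hcop
    obtain ⟨z, hz1, hz⟩ := exists_fixed_ne_one hm (CfsgLib.POmega.minusQ_nondegenerate_any hab') ha hb
    rw [← hψ] at hz
    refine ⟨ψ.symm z, fun h => hz1 ?_, (e.symm ⟨z, hz⟩).2⟩
    rw [← ψ.apply_symm_apply z, h, map_one]

/-- The criterion for the form as a quadratic map. -/
theorem main {F : Type*} [Field F] [Fintype F] {m : ℕ} (hm : 3 ≤ m) {a b : F} (hab : Aniso a b)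
    (Qf : (MI m → F) → F) (hQf : Qf = ⇑(minusQ m F a b)) (hgamma : Cfsg.gammaPOmega F Qf = ⊤)
    (hgamma' : ∀ a' b' : F, Aniso a' b' → Cfsg.gammaPOmega F ⇑(minusQ m F a' b') = ⊤)
    (A : Subgroup (MulAut (Cfsg.POmega F Qf))) (hinn : ∀ k, MulAut.conj k ∈ A)
    {p : ℕ} [Fact p.Prime] (h2p : p = 2 → (2 : F) ≠ 0) (x : MulAut (Cfsg.POmega F Qf)) (hord : orderOf x = p)
    (hnot : ¬ ∃ g : GL (MI m) F, g ∈ Cfsg.Geo.quadSimilarityGroup (F := F) Qf ∧
      Cfsg.PreservesSingularClassesMinus m a b (g : Matrix (MI m) (MI m) F) ∧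
      Cfsg.IsInducedBySemilinearPOmega Qf g (RingEquiv.refl F) x) :
    Cfsg.pPrimeCore p ↥(A ⊓ Subgroup.centralizer {x}) ≠ ⊥ ↔
      ((∃ (a' b' : F) (ψ : Cfsg.POmega F Qf ≃* Cfsg.POmega F (Cfsg.quadFormMinus m F a' b')) (σ : F ≃+* F),
          (∀ z₁ z₂ : F, z₁ ^ 2 + a' * z₁ * z₂ + b' * z₂ ^ 2 = 0 → z₁ = 0 ∧ z₂ = 0) ∧
          σ ≠ RingEquiv.refl F ∧ σ a' = a' ∧ σ b' = b' ∧
          Cfsg.IsFieldAutPOmegaOf (Cfsg.quadFormMinus m F a' b') σ ((ψ.symm.trans x).trans ψ)) ∧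
        Nat.Coprime p (Nat.card (fixedPts x))) := by
  classical
  subst hQf
  have hp := (Fact.out : p.Prime)
  have hxp : x ^ p = 1 := hord ▸ pow_orderOf_eq_one x
  have hQ : (minusQ m F a b).polarBilin.Nondegenerate := CfsgLib.POmega.minusQ_nondegenerate_any hab
  have hn : 5 ≤ Fintype.card (MI m) := card_MI (k := m) (by omega)
  have hinj := conj_injective_of_hyp hQ hn (minusData (k := m) (by omega) a b)
  have hnot' : ∀ y ∈ properSub m a b, gAut (minusQ m F a b) y ≠ x := by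
    intro y hy e
    have h1 := right_eq_one hy
    refine hnot ⟨y.1.left, ⟨Units.mk0 (mu y) (mu_ne y), fun v => ?_⟩,
      (singularClassesMinus_iff (by omega) hab y h1).2 hy, ?_⟩
    · have hs := mu_spec y v
      rw [Cfsg.Agent.GammaO57.semi, h1] at hs
      exact hs
    · have hi := gAut_induced y
      rw [h1] at hi
      rw [← e]
      exact hi
  rcases minus_cases hm hab hgamma hord hnot' h2p with
    ⟨hp2, g, hg, hind⟩ | ⟨hodd, a', b', σ, ha, hb, hab', ψ, hσ1, hσp, hψ⟩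
  · subst hp2
    have hx := CfsgLib.POmegaSim.induced_unique ⟨g, hg⟩ hind
    subst hx
    exact iff_of_false (fun h => h (graph_core hm hab hgamma A hinn (h2p rfl) ⟨g, hg⟩ hxp
      (fun hs => hnot ⟨g, hg, hs, hind⟩))) fun h => not_field hm hord h.1
  · have hfield : ∃ (a' b' : F) (ψ : Cfsg.POmega F ⇑(minusQ m F a b) ≃*
          Cfsg.POmega F (Cfsg.quadFormMinus m F a' b')) (σ : F ≃+* F),
        (∀ z₁ z₂ : F, z₁ ^ 2 + a' * z₁ * z₂ + b' * z₂ ^ 2 = 0 → z₁ = 0 ∧ z₂ = 0) ∧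
        σ ≠ RingEquiv.refl F ∧ σ a' = a' ∧ σ b' = b' ∧
        Cfsg.IsFieldAutPOmegaOf (Cfsg.quadFormMinus m F a' b') σ ((ψ.symm.trans x).trans ψ) := by
      have h : ∀ (Qf : (MI m → F) → F), Qf = ⇑(minusQ m F a' b') →
          ∃ ψ' : Cfsg.POmega F ⇑(minusQ m F a b) ≃* Cfsg.POmega F Qf,
            Cfsg.IsFieldAutPOmegaOf Qf σ ((ψ'.symm.trans x).trans ψ') := by
        rintro _ rfl
        refine ⟨ψ, ?_⟩
        show Cfsg.IsFieldAutPOmegaOf _ σ (MulAut.congr ψ x)
        rw [hψ]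
        exact isFieldAutOf_fEl ha hb
      obtain ⟨ψ', hψ'⟩ := h _ (CfsgLib.Orth.minusQ_coe m a' b').symm
      exact ⟨a', b', ψ', σ, hab', hσ1, ha, hb, hψ'⟩
    have hcrit := field_crit hm hab' ha hb hodd hσp (hgamma' a' b' hab') hinj A hinn x hxp ψ hψ
    exact ⟨fun h => ⟨hfield, hcrit.1 h⟩, fun h => hcrit.2 h.2⟩

/-- A criterion for the failure of local balance in almost simple groups whose socle is a minus-type orthogonal group PΩ⁻_{2m+2}(F) (m ≥ 3; the form Σ xᵢ yᵢ + z₁² + a z₁ z₂ + b z₂² with anisotropic binary part). Let F be a finite field of characteristic r and K the (simple) group in question; let A be a group of automorphisms of K containing all inner automorphisms, and x ∈ A an automorphism of prime order p ≠ r that is not inner-diagonal (not induced by a class-preserving similarity, classes read over a quadratic extension). Then the largest normal subgroup of C_A(x) of order prime to p is nontrivial if and only if x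 is a field automorphism of K (conjugate under Aut(K) to a non-identity standard field automorphism) and p does not divide the number of fixed points of x on K. -/
theorem result {F : Type*} [Field F] [Fintype F] {r : ℕ} [Fact r.Prime] [CharP F r] {m : ℕ} (hm : 3 ≤ m) (a b : F) (hab : (∀ z₁ z₂ : F, z₁ ^ 2 + a * z₁ * z₂ + b * z₂ ^ 2 = 0 → z₁ = 0 ∧ z₂ = 0)) (hK : IsSimpleGroup (Cfsg.POmega F (Cfsg.quadFormMinus m F a b))) (A : Subgroup (MulAut (Cfsg.POmega F (Cfsg.quadFormMinus m F a b)))) (hinn : ∀ k : Cfsg.POmega F (Cfsg.quadFormMinus m F a b), MulAut.conj k ∈ A) {p : ℕ} [Fact p.Prime] (hpr : p ≠ r) (x : MulAut (Cfsg.POmega F (Cfsg.quadFormMinus m F a b))) (hxA : x ∈ A) (hord : orderOf x = p) (hnot : ¬ Cfsg.IsInnerDiagonalAutPOmegaMinus m a b x) :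
    Cfsg.pPrimeCore p ↥(A ⊓ Subgroup.centralizer {x}) ≠ ⊥ ↔ (Cfsg.IsFieldAutClassPOmegaMinus m x ∧ Nat.Coprime p (Nat.card ↥(MonoidHom.eqLocus x.toMonoidHom (MonoidHom.id (Cfsg.POmega F (Cfsg.quadFormMinus m F a b)))))) := by
  refine main hm hab _ (CfsgLib.Orth.minusQ_coe m a b).symm (Cfsg.Agent.S2696.result hm a b hab)
    (fun a' b' h => by rw [CfsgLib.Orth.minusQ_coe]; exact Cfsg.Agent.S2696.result hm a' b' h) A hinn ?_ x hord hnot
  rintro rfl h0
  have h1 : ((2 : ℕ) : F) = 0 := by exact_mod_cast h0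
  rw [CharP.cast_eq_zero_iff F r] at h1
  exact hpr ((Nat.prime_dvd_prime_iff_eq (Fact.out) Nat.prime_two).mp h1).symm

end Cfsg.Agent.S2733
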