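import Cfsg.Statements.S2735
import Cfsg.Agent.Lib.AutPOmega.FieldOdd
import Cfsg.Agent.Lib.AutPOmega.FieldSquares

set_option autoImplicit false
open Cfsg

namespace Cfsg.Agent.S2735

open Cfsg.Agent.GammaO57 Cfsg.Agent.Spinor57 CfsgLib.FieldPOmega in
theorem aux {F : Type*} [Field F] [Fintype F] (h2 : (2 : F) ≠ 0) {m : ℕ} (hm : 3 ≤ m)
    (Qf : (Unit ⊕ (Fin m ⊕ Fin m) → F) → F) (hQf : Qf = ⇑(qOdd m F))
    (hgamma : Cfsg.gammaPOmega F Qf = ⊤) (x δ : MulAut (Cfsg.POmega F Qf))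
    (hx : Cfsg.IsFieldAutClassPOmega Qf x) {r : ℕ} (hxr : orderOf x = r)
    (hδ : δ ∈ Cfsg.autSubgroupOf (fun β => Cfsg.IsSimilarityInducedAutPOmega Qf β)) :
    orderOf (δ * x) = r ↔ Cfsg.IsConjUnder
      (Cfsg.autSubgroupOf (fun β => Cfsg.IsSimilarityInducedAutPOmega Qf β)) x (δ * x) := by
  classical
  subst hQf
  rw [inndiag_eq h2] at hδ ⊢
  exact orderOf_coset_iff h2 (by omega) hgamma x δ hx hxr hδ

/-- Let T = Ω_{2m+1}(F) (m ≥ 3, |F| odd) and x a field automorphism of T of prime order r. Then an element y of the coset Inndiag(T)·x (y = δ x with δ induced by a similarity of the form) has order r if and only if y is conjugate to x by an element of Inndiag(T). (T has no graph or graph-field automorphisms.) -/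
theorem result {F : Type*} [Field F] [Fintype F] (hodd : Odd (Fintype.card F)) {m : ℕ} (hm : 3 ≤ m) (x δ : MulAut (Cfsg.POmega F (Cfsg.quadFormOdd m F))) (hx : Cfsg.IsFieldAutClassPOmega (Cfsg.quadFormOdd m F) x) {r : ℕ} (hr : r.Prime) (hxr : orderOf x = r) (hδ : δ ∈ Cfsg.inndiagPOmegaOdd m F) :
    orderOf (δ * x) = r ↔ Cfsg.IsConjUnder (Cfsg.inndiagPOmegaOdd m F) x (δ * x) := by
  exact aux (Cfsg.Agent.Spinor57.two_ne_zero_of_odd rfl hodd) hm _ Cfsg.Agent.Spinor57.qOdd_coe.symm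
    (Cfsg.Agent.S2694.result hodd hm) x δ hx hxr hδ

end Cfsg.Agent.S2735
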