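import Cfsg.Statements.S2736
import Cfsg.Agent.Helper57PlusLang

set_option autoImplicit false
open Cfsg

namespace Cfsg.Agent.S2736

open Cfsg.Agent.PlusField57 in
theorem aux {F : Type*} [Field F] [Fintype F] {m : ℕ} (hm : 5 ≤ m) (Qf : (Fin m ⊕ Fin m → F) → F)
    (hQf : Qf = ⇑(CfsgLib.Orth.plusQ m F)) (x δ : MulAut (Cfsg.POmega F Qf))
    (hx : Cfsg.IsFieldAutClassPOmega Qf x ∨
      ∃ (α γ φ : MulAut (Cfsg.POmega F Qf)) (σ : F ≃+* F) (v : Fin m ⊕ Fin m → F)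
          (r : GL (Fin m ⊕ Fin m) F),
        σ ≠ RingEquiv.refl F ∧ Qf v ≠ 0 ∧ (∀ i, σ (v i) = v i) ∧
        (r : Matrix (Fin m ⊕ Fin m) (Fin m ⊕ Fin m) F) = Cfsg.reflectionMatrix Qf v ∧
        Cfsg.IsInducedBySemilinearPOmega Qf r (RingEquiv.refl F) γ ∧
        Cfsg.IsFieldAutPOmegaOf Qf σ φ ∧ α * x * α⁻¹ = γ * φ)
    {r : ℕ} (hr : r.Prime) (hxr : orderOf x = r)
    (hδ : δ ∈ Cfsg.autSubgroupOf (fun β : Cfsg.POmega F Qf ≃* Cfsg.POmega F Qf =>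
      ∃ g : GL (Fin m ⊕ Fin m) F, g ∈ Cfsg.Geo.quadSimilarityGroup (F := F) Qf ∧
        Cfsg.PreservesSingularClasses Qf (g : Matrix (Fin m ⊕ Fin m) (Fin m ⊕ Fin m) F) ∧
        Cfsg.IsInducedBySemilinearPOmega Qf g (RingEquiv.refl F) β)) :
    orderOf (δ * x) = r ↔ Cfsg.IsConjUnder (Cfsg.autSubgroupOf (fun β : Cfsg.POmega F Qf ≃* Cfsg.POmega F Qf =>
      ∃ g : GL (Fin m ⊕ Fin m) F, g ∈ Cfsg.Geo.quadSimilarityGroup (F := F) Qf ∧
        Cfsg.PreservesSingularClasses Qf (g : Matrix (Fin m ⊕ Fin m) (Fin m ⊕ Fin m) F) ∧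
        Cfsg.IsInducedBySemilinearPOmega Qf g (RingEquiv.refl F) β)) x (δ * x) := by
  subst hQf
  rw [indAut_eq] at hδ ⊢
  exact orderOf_coset_iff hm hx hr hxr hδ

/-- Let T = PΩ⁺_{2m}(F) with m ≥ 5 (dimension ≠ 8) and x a field automorphism or a graph-field automorphism of T of prime order r. Then an element y of the coset Inndiag(T)·x (y = δ x with δ induced by a class-preserving similarity) has order r if and only if y is conjugate to x by an element of Inndiag(T). -/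
theorem result {F : Type*} [Field F] [Fintype F] {m : ℕ} (hm : 5 ≤ m) (x δ : MulAut (Cfsg.POmega F (Cfsg.quadFormPlus m F))) (hx : Cfsg.IsFieldAutClassPOmega (Cfsg.quadFormPlus m F) x ∨ Cfsg.IsGraphFieldAutClassPOmegaPlus m x) {r : ℕ} (hr : r.Prime) (hxr : orderOf x = r) (hδ : δ ∈ Cfsg.inndiagPOmegaPlus m F) :
    orderOf (δ * x) = r ↔ Cfsg.IsConjUnder (Cfsg.inndiagPOmegaPlus m F) x (δ * x) := by
  exact aux hm _ (CfsgLib.Orth.plusQ_coe m).symm x δ hx hr hxr hδ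

end Cfsg.Agent.S2736
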