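import Cfsg.Statements.S2737
import Cfsg.Agent.Lib.AutPOmega.FieldMinusMain

set_option autoImplicit false
open Cfsg

namespace Cfsg.Agent.S2737

open Cfsg.Agent.GammaO57 CfsgLib.Orth CfsgLib.FieldPOmega in
theorem aux {F : Type*} [Field F] [Fintype F] {m : ℕ} (hm : 3 ≤ m) {a b a' b' : F}
    (hab : Aniso a b) (hab' : Aniso a' b')
    (Qf : (MI m → F) → F) (hQf : Qf = ⇑(minusQ m F a b))
    (Qf' : (MI m → F) → F) (hQf' : Qf' = ⇑(minusQ m F a' b'))
    (x δ : MulAut (Cfsg.POmega F Qf)) (ψ : Cfsg.POmega F Qf ≃* Cfsg.POmega F Qf') {σ : F ≃+* F}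
    (ha : σ a' = a') (hb : σ b' = b') (hφ : Cfsg.IsFieldAutPOmegaOf Qf' σ ((ψ.symm.trans x).trans ψ))
    {r : ℕ} (hxr : orderOf x = r)
    (hδ : δ ∈ Cfsg.autSubgroupOf (fun β => ∃ g : Matrix.GeneralLinearGroup (MI m) F,
      g ∈ Cfsg.Geo.quadSimilarityGroup (F := F) Qf ∧
      Cfsg.PreservesSingularClassesMinus m a b (g : Matrix (MI m) (MI m) F) ∧
      Cfsg.IsInducedBySemilinearPOmega Qf g (RingEquiv.refl F) β)) :
    orderOf (δ * x) = r ↔ Cfsg.IsConjUnder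
      (Cfsg.autSubgroupOf (fun β => ∃ g : Matrix.GeneralLinearGroup (MI m) F,
        g ∈ Cfsg.Geo.quadSimilarityGroup (F := F) Qf ∧
        Cfsg.PreservesSingularClassesMinus m a b (g : Matrix (MI m) (MI m) F) ∧
        Cfsg.IsInducedBySemilinearPOmega Qf g (RingEquiv.refl F) β)) x (δ * x) := by
  subst hQf hQf'
  rw [inndiag_minus_eq (by omega) hab] at hδ ⊢
  exact minus_field_coset hm hab x δ ψ hab' ha hb (eq_gAut_of_field (minus_fixes ha hb) hφ) hxr hδ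

/-- Let T = PΩ⁻_{2m+2}(F) (m ≥ 3; form with anisotropic binary part) and x a field automorphism of T of prime order r. Then an element y of the coset Inndiag(T)·x has order r if and only if y is conjugate to x by an element of Inndiag(T). (T has no graph-field automorphisms.) -/
theorem result {F : Type*} [Field F] [Fintype F] {m : ℕ} (hm : 3 ≤ m) (a b : F) (hab : (∀ z₁ z₂ : F, z₁ ^ 2 + a * z₁ * z₂ + b * z₂ ^ 2 = 0 → z₁ = 0 ∧ z₂ = 0)) (x δ : MulAut (Cfsg.POmega F (Cfsg.quadFormMinus m F a b))) (hx : Cfsg.IsFieldAutClassPOmegaMinus m x) {r : ℕ} (hr : r.Prime) (hxr : orderOf x = r) (hδ : δ ∈ Cfsg.inndiagPOmegaMinus m F a b) :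
    orderOf (δ * x) = r ↔ Cfsg.IsConjUnder (Cfsg.inndiagPOmegaMinus m F a b) x (δ * x) := by
  obtain ⟨a', b', ψ, σ, hab', -, ha, hb, hφ⟩ := hx
  exact aux hm hab hab' _ (CfsgLib.Orth.minusQ_coe m a b).symm _ (CfsgLib.Orth.minusQ_coe m a' b').symm
    x δ ψ ha hb hφ hxr hδ

end Cfsg.Agent.S2737
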