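import Cfsg.Statements.S2738
import Cfsg.Agent.KS59SL34

set_option autoImplicit false
open Cfsg

namespace Cfsg.Agent.S2738

open Matrix KS59

/-- The special linear group SL(3, 4) has centre of order 3 and does not split over it: no subgroup is a complement to the centre (so SL(3, 4) is a non-split central extension of PSL(3, 4) by a group of order 3). -/
theorem result (F : Type*) [Field F] [Fintype F] (hF : Fintype.card F = 4) : Nat.card ↥(Subgroup.center (Matrix.SpecialLinearGroup (Fin 3) F)) = 3 ∧ ¬ ∃ K : Subgroup (Matrix.SpecialLinearGroup (Fin 3) F), Subgroup.IsComplement' (Subgroup.center (Matrix.SpecialLinearGroup (Fin 3) F)) K := by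
  classical
  refine ⟨?_, ?_⟩
  · rw [Nat.card_congr Matrix.SpecialLinearGroup.center_equiv_rootsOfUnity.toEquiv]
    have htop : rootsOfUnity (max (Fintype.card (Fin 3)) 1) F = ⊤ := by
      rw [eq_top_iff]
      intro u _
      rw [mem_rootsOfUnity]
      ext
      simpa using pow_three_eq_one_of_card_four hF u.ne_zero
    rw [htop, Subgroup.card_top, Nat.card_units, Nat.card_eq_fintype_card, hF]
  · rintro ⟨K, hK⟩
    obtain ⟨w, hw1, hw3, hw⟩ := exists_omega_card_four hF
    have hdA : (Matrix.diagonal ![1, w, w ^ 2] : Matrix (Fin 3) (Fin 3) F).det = 1 := by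
      rw [Matrix.det_diagonal, Fin.prod_univ_three]
      simp; linear_combination hw3
    have hdB : (!![0, 0, 1; 1, 0, 0; 0, 1, 0] : Matrix (Fin 3) (Fin 3) F).det = 1 := by
      simp [Matrix.det_fin_three]
    have hdC : (Matrix.scalar (Fin 3) w : Matrix (Fin 3) (Fin 3) F).det = 1 := by
      rw [Matrix.scalar_apply, Matrix.det_diagonal]; simpa using hw3
    set A : SpecialLinearGroup (Fin 3) F := ⟨_, hdA⟩ with hA
    set B : SpecialLinearGroup (Fin 3) F := ⟨_, hdB⟩ with hB
    set C : SpecialLinearGroup (Fin 3) F := ⟨_, hdC⟩ with hC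
    have hCc : C ∈ Subgroup.center (SpecialLinearGroup (Fin 3) F) :=
      Matrix.SpecialLinearGroup.mem_center_iff.mpr ⟨w, by simpa using hw3, rfl⟩
    have hAB : A * B = C * (B * A) := by
      apply Subtype.ext
      show (Matrix.diagonal ![1, w, w ^ 2] : Matrix (Fin 3) (Fin 3) F) * !![0, 0, 1; 1, 0, 0; 0, 1, 0] =
        Matrix.scalar (Fin 3) w * (!![0, 0, 1; 1, 0, 0; 0, 1, 0] * Matrix.diagonal ![1, w, w ^ 2])
      ext i j
      fin_cases i <;> fin_cases j <;>
        simp [Matrix.scalar_apply, Matrix.mul_apply, Fin.sum_univ_three, Matrix.mul_diagonal, Matrix.diagonal_mul, Matrix.vecMul_diagonal] <;>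
        first | ring1 | linear_combination (-1 : F) * hw3 | linear_combination (1 : F) * hw3
    have hdec : ∀ g : SpecialLinearGroup (Fin 3) F, ∃ z ∈ Subgroup.center (SpecialLinearGroup (Fin 3) F),
        ∃ k ∈ K, g = z * k := by
      intro g
      obtain ⟨⟨z, k⟩, hzk⟩ := hK.2 g
      exact ⟨z, z.2, k, k.2, hzk.symm⟩
    obtain ⟨z₁, hz₁, k₁, hk₁, hAe⟩ := hdec A
    obtain ⟨z₂, hz₂, k₂, hk₂, hBe⟩ := hdec B
    have h1 : A * B = (z₁ * z₂) * (k₁ * k₂) := by
      rw [hAe, hBe]
      rw [mul_assoc z₁ k₁, ← mul_assoc k₁, Subgroup.mem_center_iff.mp hz₂ k₁]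
      group
    have h2 : B * A = (z₁ * z₂) * (k₂ * k₁) := by
      rw [hAe, hBe]
      rw [mul_assoc z₂ k₂, ← mul_assoc k₂, Subgroup.mem_center_iff.mp hz₁ k₂,
        Subgroup.mem_center_iff.mp hz₂ z₁]
      group
    have h3 : C = (k₁ * k₂) * (k₂ * k₁)⁻¹ := by
      have h4 : (z₁ * z₂) * (k₁ * k₂) = C * ((z₁ * z₂) * (k₂ * k₁)) := by rw [← h1, ← h2, hAB]
      have h5 : C * ((z₁ * z₂) * (k₂ * k₁)) = (z₁ * z₂) * (C * (k₂ * k₁)) := by
        rw [← mul_assoc, ← Subgroup.mem_center_iff.mp hCc (z₁ * z₂), mul_assoc]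
      rw [h5] at h4
      rw [mul_left_cancel h4]
      group
    have hCK : C ∈ K := h3 ▸ K.mul_mem (K.mul_mem hk₁ hk₂) (K.inv_mem (K.mul_mem hk₂ hk₁))
    have hC1 : C = 1 := by
      have := hK.disjoint
      exact Subgroup.disjoint_def.mp this hCc hCK
    have := congrArg (fun M : SpecialLinearGroup (Fin 3) F => (M : Matrix (Fin 3) (Fin 3) F) 0 0) hC1
    simp [hC] at this
    exact hw1 this

end Cfsg.Agent.S2738
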