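import Cfsg.Statements.S3863
import Mathlib.Data.Nat.Factorization.Basic
import Mathlib.Tactic.Group
import Mathlib.Tactic.Ring
import Mathlib.GroupTheory.Perm.Cycle.Type

set_option autoImplicit false
open Cfsg

namespace Cfsg.Agent.S3863

/-- Let x be an element of the finite group G that is conjugate to its inverse. Then some 2-element conjugates x to its inverse; if the conjugacy class of x has odd size then x ^ 2 = 1; and x lies in, and is conjugate to its inverse inside, every normal subgroup of odd index. -/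
theorem result {G : Type*} [Group G] [Finite G] (x : G) (hx : IsConj x x⁻¹) : (∃ t : G, (∃ j : ℕ, orderOf t = 2 ^ j) ∧ t * x * t⁻¹ = x⁻¹) ∧ (Odd (Subgroup.centralizer ({x} : Set G)).index → x ^ 2 = 1) ∧ ∀ (N : Subgroup G) [N.Normal], Odd N.index → ∃ hxN : x ∈ N, IsConj (⟨x, hxN⟩ : N) (⟨x, hxN⟩ : N)⁻¹ := by
  obtain ⟨c, hc⟩ := isConj_iff.mp hx
  -- powers of an inverting element invert or centralize
  have hodd : ∀ k : ℕ, c ^ (2 * k + 1) * x * (c ^ (2 * k + 1))⁻¹ = x⁻¹ := by
    intro k
    induction k with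
    | zero => simpa using hc
    | succ k ih =>
      have e : c ^ (2 * (k + 1) + 1) * x * (c ^ (2 * (k + 1) + 1))⁻¹
          = c * (c * (c ^ (2 * k + 1) * x * (c ^ (2 * k + 1))⁻¹) * c⁻¹) * c⁻¹ := by
        rw [show 2 * (k + 1) + 1 = 1 + (1 + (2 * k + 1)) by ring, pow_add, pow_add, pow_one]
        group
      have hc' : c * x⁻¹ * c⁻¹ = x := by
        have := congrArg (·⁻¹) hc
        simpa [mul_assoc] using this
      rw [e, ih, hc', hc]
  obtain ⟨j, m, hm, hcm⟩ := Nat.exists_eq_two_pow_mul_odd (orderOf_pos c).ne'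
  have hinv : ∃ t : G, (∃ j : ℕ, orderOf t = 2 ^ j) ∧ t * x * t⁻¹ = x⁻¹ := by
    obtain ⟨k, rfl⟩ := hm
    refine ⟨c ^ (2 * k + 1), ⟨j, ?_⟩, hodd k⟩
    rw [orderOf_pow, hcm, Nat.gcd_eq_right (dvd_mul_left _ _), Nat.mul_div_cancel _ (by omega)]
  refine ⟨hinv, fun h => ?_, fun N hN hNodd => ?_⟩
  · -- inversion permutes the odd number of conjugates of `x` without fixed point unless `x ^ 2 = 1`
    by_contra hx2
    haveI : Fact (Nat.Prime 2) := ⟨Nat.prime_two⟩
    set C := (ConjClasses.mk x).carrier with hC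
    have hmem : ∀ y, y ∈ C ↔ IsConj x y := fun y => by
      rw [hC, ConjClasses.mem_carrier_iff_mk_eq, ConjClasses.mk_eq_mk_iff_isConj, isConj_comm]
    have hstab : ∀ y : C, (y : G)⁻¹ ∈ C := by
      rintro ⟨y, hy⟩
      obtain ⟨a, ha⟩ := isConj_iff.mp ((hmem y).mp hy)
      exact (hmem _).mpr (hx.trans (isConj_iff.mpr ⟨a, show _ = y⁻¹ by rw [← ha]; group⟩))
    classical
    let e : Equiv.Perm C := ⟨fun y => ⟨_, hstab y⟩, fun y => ⟨_, hstab y⟩,
      fun y => Subtype.ext (inv_inv _), fun y => Subtype.ext (inv_inv _)⟩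
    haveI : Fintype C := Fintype.ofFinite _
    have hcard : Fintype.card C = (Subgroup.centralizer ({x} : Set G)).index := by
      rw [← Nat.card_eq_fintype_card, hC, ← ConjAct.orbit_eq_carrier_conjClasses,
        Nat.card_coe_set_eq, ← MulAction.index_stabilizer, ConjAct.stabilizer_eq_centralizer]
      rfl
    have he : e ^ 2 ^ 1 = 1 := by
      ext y
      simp [e, pow_succ]
    obtain ⟨y, hy⟩ := Equiv.Perm.exists_fixed_point_of_prime (p := 2)
      (by rw [hcard]; exact fun h' => Nat.not_even_iff_odd.mpr h (even_iff_two_dvd.mpr h')) he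
    obtain ⟨a, ha⟩ := isConj_iff.mp ((hmem _).mp y.2)
    have hy' : (y : G)⁻¹ = y := congrArg Subtype.val hy
    rw [← ha] at hy'
    apply hx2
    have := congrArg (fun z => a⁻¹ * z * a) hy'
    simp [mul_assoc] at this
    rw [pow_two]
    nth_rw 1 [← this]
    simp
  · obtain ⟨t, ⟨i, hi⟩, ht⟩ := hinv
    have hxN : x ∈ N := by
      -- the image of `t` is a 2-element of a group of odd order, hence trivial
      set f := QuotientGroup.mk' N
      have htN : f t = 1 := by
        rw [← orderOf_eq_one_iff]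
        apply Nat.eq_one_of_dvd_coprimes (a := 2 ^ i) (b := N.index)
        · exact Nat.Coprime.pow_left _ (Nat.coprime_two_left.mpr hNodd)
        · exact hi ▸ orderOf_map_dvd f t
        · exact Subgroup.index_eq_card N ▸ orderOf_dvd_natCard _
      have h2 : f x ^ 2 = 1 := by
        have := congrArg f ht
        rw [map_mul, map_mul, map_inv, map_inv, htN] at this
        simp at this
        rw [pow_two]
        nth_rw 1 [this]
        simp
      rw [← QuotientGroup.eq_one_iff, ← orderOf_eq_one_iff]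
      apply Nat.eq_one_of_dvd_coprimes (a := 2) (b := N.index)
      · exact Nat.coprime_two_left.mpr hNodd
      · exact orderOf_dvd_of_pow_eq_one h2
      · exact Subgroup.index_eq_card N ▸ orderOf_dvd_natCard _
    have htN : t ∈ N := by
      rw [← QuotientGroup.eq_one_iff, ← orderOf_eq_one_iff]
      apply Nat.eq_one_of_dvd_coprimes (a := 2 ^ i) (b := N.index)
      · exact Nat.Coprime.pow_left _ (Nat.coprime_two_left.mpr hNodd)
      · exact hi ▸ orderOf_map_dvd (QuotientGroup.mk' N) t
      · exact Subgroup.index_eq_card N ▸ orderOf_dvd_natCard _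
    exact ⟨hxN, isConj_iff.mpr ⟨⟨t, htN⟩, Subtype.ext ht⟩⟩

end Cfsg.Agent.S3863
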