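import Cfsg.Statements.S3861
import Cfsg.Agent.S3863
import Cfsg.Agent.Lib.Involutions.BaerSuzuki
import Cfsg.Agent.Lib.PCore.Basic
import Cfsg.Agent.Lib.Techniques.Basic
import Cfsg.Agent.Lib.Coprime.Basic

set_option autoImplicit false
open Cfsg

namespace Cfsg.Agent.S3861

/-- A finite group G has no non-identity element of odd order that is conjugate to its inverse if and only if the Sylow 2-subgroups of G are normal. -/
theorem result {G : Type*} [Group G] [Finite G] (P : Sylow 2 G) : (∀ x : G, x ≠ 1 → Odd (orderOf x) → ¬ IsConj x x⁻¹) ↔ (P : Subgroup G).Normal := by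
  haveI : Fact (Nat.Prime 2) := ⟨Nat.prime_two⟩
  refine ⟨fun h => ?_, fun hP x hx hodd hreal => ?_⟩
  · by_contra hnn
    set N := Cfsg.pCore 2 G with hN
    have hNp : IsPGroup 2 N := CfsgLib.PCore.pCore_isPGroup
    have hNP : N ≤ (P : Subgroup G) := hNp.le_sylow_of_normal P
    set q := QuotientGroup.mk' N
    have hcard : 2 ∣ Nat.card (G ⧸ N) := by
      by_contra hd
      apply hnn
      have hPN : (P : Subgroup G) ≤ N := by
        intro u hu
        rw [← QuotientGroup.eq_one_iff, ← orderOf_eq_one_iff]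
        obtain ⟨k, hk⟩ := P.2 ⟨u, hu⟩
        have hk' : u ^ 2 ^ k = 1 := congrArg Subtype.val hk
        refine Nat.eq_one_of_dvd_coprimes (a := 2 ^ k) (b := Nat.card (G ⧸ N)) ?_ ?_
          (orderOf_dvd_natCard _)
        · exact (Nat.prime_two.coprime_iff_not_dvd.mpr hd).pow_left k
        · exact orderOf_dvd_of_pow_eq_one (by rw [← QuotientGroup.mk_pow, hk']; rfl)
      rw [show (P : Subgroup G) = N from le_antisymm hPN hNP]
      infer_instance
    obtain ⟨t, ht⟩ := exists_prime_orderOf_dvd_card' 2 hcard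
    have ht2 : t * t = 1 := by
      have := pow_orderOf_eq_one t
      rwa [ht, pow_two] at this
    -- `t` lies in no normal 2-subgroup, so inverts an element of odd prime order
    obtain ⟨g, hg⟩ : ∃ g, ¬ IsPGroup 2 (Subgroup.closure ({t, g * t * g⁻¹} : Set (G ⧸ N))) := by
      by_contra! hall
      obtain ⟨M, hM, hMp, htM⟩ := CfsgLib.Involutions.exists_normal_isPGroup_of_mem hall
      haveI := hM
      have hMc : IsPGroup 2 (M.comap q) := by
        refine hMp.comap_of_ker_isPGroup q ?_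
        rwa [QuotientGroup.ker_mk']
      haveI : (M.comap q).Normal := hM.comap q
      have hle : M.comap q ≤ N := CfsgLib.PCore.le_pCore inferInstance hMc
      obtain ⟨t₀, rfl⟩ := QuotientGroup.mk'_surjective N t
      rw [show q t₀ = 1 from (QuotientGroup.eq_one_iff t₀).mpr (hle htM), orderOf_one] at ht
      omega
    set z := t * (g * t * g⁻¹)
    have hzt : t * z * t⁻¹ = z⁻¹ := by
      have : t⁻¹ = t := inv_eq_of_mul_eq_one_right ht2
      simp only [z, mul_inv_rev, inv_inv, this]
      rw [← mul_assoc t t, ht2, one_mul]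
      group
    obtain ⟨j, m, hm, hjm⟩ := Nat.exists_eq_two_pow_mul_odd (orderOf_pos z).ne'
    have hm1 : m ≠ 1 := by
      intro h1
      apply hg
      -- the dihedral group generated by the two involutions
      have htz : t ∈ Subgroup.normalizer (Subgroup.zpowers z : Set (G ⧸ N)) := by
        rw [← CfsgLib.Techniques.map_conj_eq_self_iff, MonoidHom.map_zpowers]
        change Subgroup.zpowers (t * z * t⁻¹) = _
        rw [hzt, Subgroup.zpowers_inv]
      refine IsPGroup.to_le ?_ (show Subgroup.closure {t, g * t * g⁻¹} ≤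
          Subgroup.zpowers t ⊔ Subgroup.zpowers z from ?_)
      · refine IsPGroup.to_sup_of_normal_right' ?_ ?_ ?_
        · exact IsPGroup.of_card (n := 1) (by rw [Nat.card_zpowers, ht, pow_one])
        · exact IsPGroup.of_card (n := j) (by rw [Nat.card_zpowers, hjm, h1, mul_one])
        · exact Subgroup.zpowers_le.mpr htz
      · rw [Subgroup.closure_le]
        rintro w (rfl | rfl)
        · exact Subgroup.mem_sup_left (Subgroup.mem_zpowers _)
        · have : g * t * g⁻¹ = t⁻¹ * z := by simp only [z]; group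
          rw [this]
          exact Subgroup.mul_mem_sup (inv_mem (Subgroup.mem_zpowers _)) (Subgroup.mem_zpowers _)
    obtain ⟨r, hr, hrm⟩ := Nat.exists_prime_and_dvd hm1
    haveI : Fact r.Prime := ⟨hr⟩
    have hrd : r ∣ orderOf z := hjm ▸ hrm.mul_left _
    have hr2 : r ≠ 2 := fun e => by
      obtain ⟨a, rfl⟩ := hm
      subst e
      omega
    set y := z ^ (orderOf z / r)
    have hy : orderOf y = r := orderOf_pow_orderOf_div (orderOf_pos z).ne' hrd
    have hty : t * y * t⁻¹ = y⁻¹ := by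
      simp only [y, ← conj_pow, hzt, inv_pow]
    -- lift `y` to an element of order `r`
    obtain ⟨x₀, hx₀⟩ := QuotientGroup.mk'_surjective N y
    obtain ⟨i, hi⟩ := IsPGroup.iff_card.mp hNp
    set x := x₀ ^ 2 ^ i
    have hx₀r : x₀ ^ r ∈ N := by
      rw [← QuotientGroup.eq_one_iff]
      change q (x₀ ^ r) = 1
      rw [map_pow, hx₀, ← hy, pow_orderOf_eq_one]
    have hxr : x ^ r = 1 := by
      rw [← pow_mul, mul_comm, pow_mul, ← hi]
      have := congrArg Subtype.val (pow_card_eq_one' (G := N) (x := ⟨x₀ ^ r, hx₀r⟩))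
      rwa [Subgroup.coe_pow, Subgroup.coe_one] at this
    have hcop : Nat.Coprime (2 ^ i) r :=
      ((Nat.coprime_primes Nat.prime_two hr).mpr (Ne.symm hr2)).pow_left i
    have hqx : q x = y ^ 2 ^ i := by rw [map_pow, hx₀]
    have hxo : orderOf x = r := by
      refine orderOf_eq_prime hxr fun e => ?_
      have h1 : y ^ 2 ^ i = 1 := by rw [← hqx, e, map_one]
      have h2 := orderOf_dvd_of_pow_eq_one h1
      rw [hy] at h2
      exact hr.ne_one (Nat.dvd_one.mp (hcop.symm.dvd_of_dvd_mul_left (m := 2 ^ i) (n := 1) (by simpa using h2)))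
    -- Frattini argument in `⟨x⟩ N`
    obtain ⟨t₀, rfl⟩ := QuotientGroup.mk'_surjective N t
    set Y := Subgroup.zpowers x ⊔ N
    have hYrel : ¬ r ∣ (Subgroup.zpowers x).relIndex Y := by
      intro hd'
      have hNn : Subgroup.zpowers x ≤ Subgroup.normalizer (N : Set G) := by
        rw [Subgroup.normalizer_eq_top_iff.mpr inferInstance]; exact le_top
      have h1 : (Subgroup.zpowers x).relIndex Y ∣ Nat.card N := by
        have e1 := Subgroup.relIndex_mul_relIndex (H := (⊥ : Subgroup G)) (K := Subgroup.zpowers x)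
          (L := Y) bot_le le_sup_left
        rw [Subgroup.relIndex_bot_left, Subgroup.relIndex_bot_left] at e1
        refine (Nat.mul_dvd_mul_iff_left (Nat.card_pos (α := ↥(Subgroup.zpowers x)))).mp ?_
        rw [e1]
        exact ⟨_, (CfsgLib.Coprime.card_sup_mul_card_inf hNn).symm⟩
      have h2 := hd'.trans h1
      rw [hi] at h2
      exact hr2 ((Nat.prime_dvd_prime_iff_eq hr Nat.prime_two).mp (hr.dvd_of_dvd_pow h2))
    have hzp : IsPGroup r (Subgroup.zpowers x) :=
      IsPGroup.of_card (n := 1) (by rw [Nat.card_zpowers, hxo, pow_one])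
    obtain ⟨u, hu, hle⟩ := CfsgLib.Techniques.exists_conj_le_sylow_of (X := Y) (p := r)
      (A := (Subgroup.zpowers x).map (MulAut.conj t₀).toMonoidHom) (S := Subgroup.zpowers x) (by
        rintro _ ⟨w, hw, rfl⟩
        obtain ⟨k, rfl⟩ := Subgroup.mem_zpowers_iff.mp hw
        rw [map_zpow]
        refine zpow_mem ?_ k
        change t₀ * x * t₀⁻¹ ∈ Y
        have h1 : q (t₀ * x * t₀⁻¹) = q x⁻¹ := by
          rw [map_mul, map_mul, map_inv, map_inv, hqx, ← conj_pow, hty, inv_pow]
        have h2 := QuotientGroup.eq.mp h1.symm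
        rw [inv_inv] at h2
        have h3 : t₀ * x * t₀⁻¹ = x⁻¹ * (x * (t₀ * x * t₀⁻¹)) := by group
        rw [h3]
        exact Subgroup.mul_mem_sup (inv_mem (Subgroup.mem_zpowers x)) h2)
      (CfsgLib.Techniques.isPGroup_map_conj hzp t₀) le_sup_left hzp hYrel
    have hconj : (u * t₀) * x * (u * t₀)⁻¹ ∈ Subgroup.zpowers x := by
      have := hle ⟨_, ⟨x, Subgroup.mem_zpowers x, rfl⟩, rfl⟩
      simpa [mul_assoc] using this
    obtain ⟨k, hk⟩ := Subgroup.mem_zpowers_iff.mp hconj
    have hqu : Commute (q u) (y ^ 2 ^ i) := by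
      have h1 : Y ≤ (Subgroup.centralizer {y ^ 2 ^ i}).comap q := by
        refine sup_le (Subgroup.zpowers_le.mpr ?_) (fun n hn => ?_)
        · simp [Subgroup.mem_centralizer_iff, hqx]
        · simp [Subgroup.mem_centralizer_iff, show q n = 1 from (QuotientGroup.eq_one_iff n).mpr hn]
      exact (Subgroup.mem_centralizer_iff.mp (h1 hu) _ rfl).symm
    refine h x (fun e => by rw [e, orderOf_one] at hxo; exact hr.ne_one hxo.symm)
      (hxo ▸ hr.odd_of_ne_two hr2) (isConj_iff.mpr ⟨u * t₀, ?_⟩)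
    have h1 := congrArg q hk
    have hqt : q t₀ * q x * (q t₀)⁻¹ = (q x)⁻¹ := by
      rw [hqx, ← conj_pow, hty, inv_pow]
    have h1' : q x ^ k = (q x)⁻¹ := by
      rw [map_zpow, map_mul, map_mul, map_inv, map_mul, mul_inv_rev] at h1
      calc q x ^ k = q u * (q t₀ * q x * (q t₀)⁻¹) * (q u)⁻¹ := by rw [h1]; group
        _ = _ := by rw [hqt, hqx, (hqu.inv_right).eq, mul_inv_cancel_right]
    have h2 : (orderOf (q x) : ℤ) ∣ k + 1 := by
      rw [orderOf_dvd_iff_zpow_eq_one, zpow_add_one, h1', inv_mul_cancel]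
    have h3 : orderOf (q x) = r := by
      rw [hqx, orderOf_pow' _ (pow_ne_zero _ two_ne_zero), hy, Nat.Coprime.gcd_eq_one hcop.symm,
        Nat.div_one]
    rw [h3, ← hxo, orderOf_dvd_iff_zpow_eq_one, zpow_add_one] at h2
    rw [← hk, eq_inv_iff_mul_eq_one]
    exact h2
  · obtain ⟨⟨c, ⟨j, hj⟩, hc⟩, -, -⟩ := Cfsg.Agent.S3863.result x hreal
    haveI := hP
    have hcP : c ∈ (P : Subgroup G) := by
      obtain ⟨S, hS⟩ := (IsPGroup.of_card (n := j)
        (by rw [Nat.card_zpowers, hj]) : IsPGroup 2 (Subgroup.zpowers c)).exists_le_sylow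
      haveI := Sylow.unique_of_normal P hP
      rw [Subsingleton.elim S P] at hS
      exact hS (Subgroup.mem_zpowers c)
    have h2 : x⁻¹ * x⁻¹ ∈ (P : Subgroup G) := by
      have := mul_mem hcP (hP.conj_mem _ (inv_mem hcP) x)
      have e : c * (x * c⁻¹ * x⁻¹) = x⁻¹ * x⁻¹ := by
        rw [← mul_assoc, ← mul_assoc, hc]
      rwa [e] at this
    obtain ⟨k, hk⟩ := P.2 ⟨_, h2⟩
    have hk' : (x⁻¹ * x⁻¹) ^ 2 ^ k = 1 := congrArg Subtype.val hk
    rw [← pow_two, ← pow_mul, inv_pow, inv_eq_one] at hk'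
    have hcop : Nat.Coprime (2 * 2 ^ k) (orderOf x) := by
      rw [← pow_succ']; exact (Nat.coprime_two_left.mpr hodd).pow_left _
    exact hx (orderOf_eq_one_iff.mp (hcop.symm.eq_one_of_dvd (orderOf_dvd_of_pow_eq_one hk')))

end Cfsg.Agent.S3861
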