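import Cfsg.Statements.S2756
import Cfsg.Agent.S3861
import Cfsg.Agent.Lib.LocalEven.InvFreeZJ

set_option autoImplicit false
open Cfsg

namespace Cfsg.Agent.S2756

open CfsgLib.LocalEven.Inversion

theorem twoClosed_iff {G : Type*} [Group G] [Finite G] :
    (∀ P : Sylow 2 G, (P : Subgroup G).Normal) ↔
      ∀ x : G, x ≠ 1 → Odd (orderOf x) → ¬ IsConj x x⁻¹ := by
  refine ⟨fun h => ?_, fun h P => (Cfsg.Agent.S3861.result P).1 h⟩
  obtain ⟨P⟩ : Nonempty (Sylow 2 G) := inferInstance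
  exact (Cfsg.Agent.S3861.result P).2 (h P)


/-- For a finite group G the following are equivalent: (a) G has a normal Sylow 2-subgroup; (b) for every odd prime q dividing the order of G and every Sylow q-subgroup T, the normalizer of Z(J(T)) has a normal Sylow 2-subgroup; (c) for every odd prime q and every Sylow q-subgroup T, no nonidentity element of T is inverted by an element of the normalizer of Z(J(T)). Here J(T) is the Thompson subgroup generated by the abelian subgroups of T of largest order. Stated as the two equivalences (a) ⇔ (b) and (a) ⇔ (c). -/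
theorem result {G : Type*} [Group G] [Finite G] : ((∀ P : Sylow 2 G, (P : Subgroup G).Normal) ↔ ∀ (q : ℕ) [Fact q.Prime], q ≠ 2 → q ∣ Nat.card G → ∀ T : Sylow q G, ∀ P : Sylow 2 ↥(Subgroup.normalizer (Cfsg.centerThompsonAOf (T : Subgroup G) : Set G)), (P : Subgroup ↥(Subgroup.normalizer (Cfsg.centerThompsonAOf (T : Subgroup G) : Set G))).Normal) ∧ ((∀ P : Sylow 2 G, (P : Subgroup G).Normal) ↔ ∀ (q : ℕ) [Fact q.Prime], q ≠ 2 → ∀ T : Sylow q G, ∀ x ∈ (T : Subgroup G), x ≠ 1 → ∀ g ∈ Subgroup.normalizer (Cfsg.centerThompsonAOf (T : Subgroup G) : Set G), g * x * g⁻¹ ≠ x⁻¹) := by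
  have hab : (∀ P : Sylow 2 G, (P : Subgroup G).Normal) → ∀ (q : ℕ) [Fact q.Prime],
      q ≠ 2 → q ∣ Nat.card G → ∀ T : Sylow q G,
      ∀ P : Sylow 2 ↥(Subgroup.normalizer (Cfsg.centerThompsonAOf (T : Subgroup G) : Set G)),
        (P : Subgroup ↥(Subgroup.normalizer (Cfsg.centerThompsonAOf (T : Subgroup G) : Set G))).Normal := by
    intro h q _ _ _ T
    refine twoClosed_iff.2 fun x hx hodd hc => twoClosed_iff.1 h (x : G)
      (fun e => hx (Subtype.ext e)) (by rwa [Subgroup.orderOf_coe]) ?_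
    obtain ⟨g, hg⟩ := isConj_iff.1 hc
    exact isConj_iff.2 ⟨(g : G), congrArg Subtype.val hg⟩
  have hbc : (∀ (q : ℕ) [Fact q.Prime], q ≠ 2 → q ∣ Nat.card G → ∀ T : Sylow q G,
      ∀ P : Sylow 2 ↥(Subgroup.normalizer (Cfsg.centerThompsonAOf (T : Subgroup G) : Set G)),
        (P : Subgroup ↥(Subgroup.normalizer (Cfsg.centerThompsonAOf (T : Subgroup G) : Set G))).Normal) →
      ∀ (q : ℕ) [Fact q.Prime], q ≠ 2 → ∀ T : Sylow q G, ∀ x ∈ (T : Subgroup G), x ≠ 1 →
      ∀ g ∈ Subgroup.normalizer (Cfsg.centerThompsonAOf (T : Subgroup G) : Set G), g * x * g⁻¹ ≠ x⁻¹ := by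
    intro h q _ hq T x hx hx1 g hg he
    obtain ⟨k, hk⟩ := (IsPGroup.iff_orderOf.1 T.2) ⟨x, hx⟩
    rw [Subgroup.orderOf_mk] at hk
    have hdvd : q ∣ Nat.card G := by
      refine dvd_trans ?_ (orderOf_dvd_natCard x)
      rw [hk]
      refine dvd_pow_self q fun h0 => hx1 ?_
      rw [h0, pow_zero] at hk
      exact orderOf_eq_one_iff.1 hk
    have hxN : x ∈ Subgroup.normalizer (Cfsg.centerThompsonAOf (T : Subgroup G) : Set G) := by
      rw [CfsgLib.PLocal.centerThompsonAOf_eq, ← CfsgLib.PLocal.zj_zero]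
      exact CfsgLib.PLocal.le_normalizer_zj 0 _ hx
    refine twoClosed_iff.1 (h q hq hdvd T) ⟨x, hxN⟩ (fun e => hx1 (congrArg Subtype.val e))
      (by rw [Subgroup.orderOf_mk]; exact odd_of_prime_pow hq ⟨k, hk⟩) ?_
    exact isConj_iff.2 ⟨⟨g, hg⟩, Subtype.ext he⟩
  have hca : (∀ (q : ℕ) [Fact q.Prime], q ≠ 2 → ∀ T : Sylow q G, ∀ x ∈ (T : Subgroup G), x ≠ 1 →
      ∀ g ∈ Subgroup.normalizer (Cfsg.centerThompsonAOf (T : Subgroup G) : Set G), g * x * g⁻¹ ≠ x⁻¹) →
      ∀ P : Sylow 2 G, (P : Subgroup G).Normal := by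
    intro h
    refine twoClosed_iff.2 fun x hx hodd hc => ?_
    obtain ⟨g, hg⟩ := isConj_iff.1 hc
    obtain ⟨q, hq, hqd⟩ := Nat.exists_prime_and_dvd (fun e => hx (orderOf_eq_one_iff.1 e))
    haveI : Fact q.Prime := ⟨hq⟩
    have hq2 : q ≠ 2 := fun e => Nat.not_even_iff_odd.2 hodd (even_iff_two_dvd.2 (e ▸ hqd))
    set y := x ^ (orderOf x / q) with hy
    have hyo : orderOf y = q := orderOf_pow_orderOf_div (orderOf_pos x).ne' hqd
    obtain ⟨T⟩ : Nonempty (Sylow q G) := inferInstance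
    have hfree : InvFree q (Subgroup.normalizer (CfsgLib.PLocal.zj 0 (T : Subgroup G) : Set G)) := by
      intro z hz w hw ⟨k, hk⟩ he
      by_contra hz1
      have hTN := CfsgLib.PLocal.le_normalizer_zj 0 (T : Subgroup G)
      obtain ⟨u, hu, hle⟩ := CfsgLib.Techniques.exists_conj_le_sylow_of (p := q)
        (Subgroup.zpowers_le.2 hz) (IsPGroup.of_card (n := k) (by rw [Nat.card_zpowers, hk])) hTN T.2
        (fun hd => T.not_dvd_index (hd.trans (Subgroup.relIndex_dvd_index_of_le hTN)))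
      have huz : u * z * u⁻¹ ∈ (T : Subgroup G) :=
        hle (CfsgLib.Techniques.conj_mem_map_conj u (Subgroup.mem_zpowers z))
      refine h q hq2 T _ huz (fun e => hz1 (by simpa using e)) (u * w * u⁻¹) ?_ ?_
      · rw [CfsgLib.PLocal.centerThompsonAOf_eq, ← CfsgLib.PLocal.zj_zero]
        exact Subgroup.mul_mem _ (Subgroup.mul_mem _ hu hw) (Subgroup.inv_mem _ hu)
      · calc u * w * u⁻¹ * (u * z * u⁻¹) * (u * w * u⁻¹)⁻¹ = u * (w * z * w⁻¹) * u⁻¹ := by group
          _ = _ := by rw [he]; group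
    have h1 := invFree_of_normalizer_zj hq2 T hfree y trivial g trivial ⟨1, by rw [hyo, pow_one]⟩
      (by rw [hy, ← conj_pow, hg, inv_pow])
    rw [h1, orderOf_one] at hyo
    exact hq.ne_one hyo.symm
  exact ⟨⟨fun h q _ => hab h q, fun h => hca fun q _ => hbc (fun q _ => h q) q⟩,
    ⟨fun h q _ => hbc (fun q _ => hab h q) q, fun h => hca fun q _ => h q⟩⟩

end Cfsg.Agent.S2756
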