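import Cfsg.Statements.S2760
import Cfsg.Agent.Lib.LocalEven.CharP

set_option autoImplicit false
open Cfsg
open CfsgLib.LocalEvenCharP

namespace Cfsg.Agent.S2760

/-- Let G be a finite group with C_G(O₂(G)) ≤ O₂(G) and H a subgroup of G such that H is normal in G, or the subgroup O²(H) generated by the elements of H of odd order is normal in G. Then C_H(O₂(H)) ≤ O₂(H). -/
theorem result {G : Type*} [Group G] [Finite G] (hchar : Subgroup.centralizer (Cfsg.pCore 2 G : Set G) ≤ Cfsg.pCore 2 G) (H : Subgroup G) (hH : H.Normal ∨ ((Cfsg.pResidual 2 ↥H).map H.subtype).Normal) : Subgroup.centralizer (Cfsg.pCore 2 ↥H : Set ↥H) ≤ Cfsg.pCore 2 ↥H := by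
  have hG : IsCharP 2 G := hchar
  rcases hH with hH | hR
  · exact hG.of_isSubnormal hH.isSubnormal
  · have hRc := hG.of_isSubnormal hR.isSubnormal
    set R := (Cfsg.pResidual 2 ↥H).map H.subtype with hRdef
    have hRH : R ≤ H := Subgroup.map_subtype_le _
    refine isCharP_subgroup fun c hcH hc hcent => ?_
    have hcR : c ∈ R :=
      ⟨⟨c, hcH⟩, Subgroup.subset_closure (by rwa [Set.mem_setOf_eq, Subgroup.orderOf_mk]), rfl⟩
    refine hRc.eq_one_subgroup hcR hc fun x hx => hcent x ?_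
    refine le_pCoreOf ((CfsgLib.LocalEvenCharP.pCoreOf_le 2 R).trans hRH) ?_ (isPGroup_pCoreOf 2 R) hx
    intro h hh
    rw [Subgroup.mem_normalizer_iff]
    have hstab : ∀ (g : G), g ∈ H → ∀ y ∈ Cfsg.pCoreOf 2 R, g * y * g⁻¹ ∈ Cfsg.pCoreOf 2 R := by
      intro g hg y hy
      have hle : (Cfsg.pCoreOf 2 R).map (MulAut.conj g).toMonoidHom ≤ Cfsg.pCoreOf 2 R := by
        refine le_pCoreOf ?_ ?_ ((isPGroup_pCoreOf 2 R).map _)
        · rintro _ ⟨z, hz, rfl⟩
          exact hR.conj_mem z (CfsgLib.LocalEvenCharP.pCoreOf_le 2 R hz) g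
        · intro r hr
          rw [Subgroup.mem_normalizer_iff]
          intro z
          have hr' : g⁻¹ * r * g ∈ R := by simpa using hR.conj_mem r hr g⁻¹
          have := le_normalizer_pCoreOf 2 R hr'
          constructor
          · rintro ⟨w, hw, rfl⟩
            refine ⟨g⁻¹ * r * g * w * (g⁻¹ * r * g)⁻¹, (Subgroup.mem_normalizer_iff.1 this w).1 hw, ?_⟩
            simp [mul_assoc]
          · rintro ⟨w, hw, hwz⟩
            refine ⟨(g⁻¹ * r * g)⁻¹ * w * (g⁻¹ * r * g), (Subgroup.mem_normalizer_iff''.1 this w).1 hw, ?_⟩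
            have h2 : g * w * g⁻¹ = r * z * r⁻¹ := hwz
            show g * _ * g⁻¹ = z
            calc g * ((g⁻¹ * r * g)⁻¹ * w * (g⁻¹ * r * g)) * g⁻¹ = r⁻¹ * (g * w * g⁻¹) * r := by group
              _ = z := by rw [h2]; group
      exact hle ⟨y, hy, rfl⟩
    intro y
    refine ⟨hstab h hh y, fun hy => ?_⟩
    have := hstab h⁻¹ (inv_mem hh) _ hy
    simpa [mul_assoc] using this

end Cfsg.Agent.S2760
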