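import Cfsg.Statements.S2762
import Cfsg.Agent.Lib.LocalEven.Qd

set_option autoImplicit false
open Cfsg
open CfsgLib.LocalEven

namespace Cfsg.Agent.S2762

/-- Structure of Qd over a finite field F of characteristic p (the affine subgroup of SL₃(F)): its largest normal p-subgroup is the group of translations (matrices with upper-left block the identity), the block-diagonal matrices form a complement isomorphic to SL₂(F), and the translation subgroup is a natural SL₂(F)-module for that complement. -/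
theorem result {F : Type*} [Field F] [Fintype F] {p : ℕ} [Fact p.Prime] [CharP F p] : (∀ M : ↥(Cfsg.qdOver F), M ∈ Cfsg.pCore p ↥(Cfsg.qdOver F) ↔ ((M : Matrix.SpecialLinearGroup (Fin 3) F) : Matrix (Fin 3) (Fin 3) F) 0 0 = 1 ∧ ((M : Matrix.SpecialLinearGroup (Fin 3) F) : Matrix (Fin 3) (Fin 3) F) 0 1 = 0 ∧ ((M : Matrix.SpecialLinearGroup (Fin 3) F) : Matrix (Fin 3) (Fin 3) F) 1 0 = 0 ∧ ((M : Matrix.SpecialLinearGroup (Fin 3) F) : Matrix (Fin 3) (Fin 3) F) 1 1 = 1) ∧ ∃ K : Subgroup ↥(Cfsg.qdOver F), (∀ M : ↥(Cfsg.qdOver F), M ∈ K ↔ ((M : Matrix.SpecialLinearGroup (Fin 3) F) : Matrix (Fin 3) (Fin 3) F) 0 2 = 0 ∧ ((M : Matrix.SpecialLinearGroup (Fin 3) F) : Matrix (Fin 3) (Fin 3) F) 1 2 = 0) ∧ K ⊓ Cfsg.pCore p ↥(Cfsg.qdOver F) = ⊥ ∧ K ⊔ Cfsg.pCore p ↥(Cfsg.qdOver F) = ⊤ ∧ Nonempty (↥K ≃* Matrix.SpecialLinearGroup (Fin 2) F) ∧ Cfsg.IsNaturalSL2Module F (Cfsg.pCore p ↥(Cfsg.qdOver F)) K := by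
  have hc : Cfsg.pCore p ↥(Cfsg.qdOver F) = (Qd.block (F := F)).ker := Qd.pCore_qdOver
  refine ⟨fun M => by rw [hc]; exact Qd.mem_ker_block_iff, ?_⟩
  let K : Subgroup ↥(Cfsg.qdOver F) :=
    { carrier := {M | Qd.shift M = 0}
      one_mem' := Qd.shift_one
      mul_mem' := fun {a b} (ha : Qd.shift a = 0) (hb : Qd.shift b = 0) =>
        show Qd.shift (a * b) = 0 by rw [Qd.shift_mul, ha, hb]; simp
      inv_mem' := fun {a} (ha : Qd.shift a = 0) =>
        show Qd.shift a⁻¹ = 0 by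
          have h := Qd.shift_mul a⁻¹ a
          rw [inv_mul_cancel, Qd.shift_one, ha, Matrix.mulVec_zero, zero_add] at h
          exact h.symm }
  have hK : ∀ M, M ∈ K ↔ Qd.shift M = 0 := fun M => Iff.rfl
  refine ⟨K, fun M => ?_, ?_, ?_, ?_, ?_⟩
  · rw [hK, funext_iff, Fin.forall_fin_two]
    simp [Qd.shift]
  · rw [hc, Subgroup.eq_bot_iff_forall]
    rintro M ⟨h1, h2⟩
    refine Qd.ext_block_shift ?_ (((hK M).1 h1).trans Qd.shift_one.symm)
    rw [MonoidHom.mem_ker.1 h2, map_one]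
  · rw [hc, eq_top_iff]
    intro M _
    have hk : Qd.mkQd (Qd.block M) 0 ∈ K := (hK _).2 (Qd.shift_mkQd _ _)
    have ht : (Qd.mkQd (Qd.block M) 0)⁻¹ * M ∈ (Qd.block (F := F)).ker := by
      rw [MonoidHom.mem_ker, map_mul, map_inv, Qd.block_mkQd, inv_mul_cancel]
    simpa using Subgroup.mul_mem_sup hk ht
  · refine ⟨MulEquiv.ofBijective ((Qd.block (F := F)).comp K.subtype) ⟨?_, ?_⟩⟩
    · intro a b hab
      exact Subtype.ext (Qd.ext_block_shift hab (((hK _).1 a.2).trans ((hK _).1 b.2).symm))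
    · intro A
      exact ⟨⟨Qd.mkQd A 0, (hK _).2 (Qd.shift_mkQd _ _)⟩, Qd.block_mkQd A 0⟩
  · rw [hc]
    refine ⟨Subgroup.normalizer_eq_top (H := (Qd.block (F := F)).ker) ▸ le_top, ?_⟩
    let ψ : Additive ↥(Qd.block (F := F)).ker ≃+ (Fin 2 → F) :=
      { toFun := fun v => Qd.shift (Additive.toMul v).1
        invFun := fun t => Additive.ofMul ⟨Qd.mkQd 1 t, by simp [MonoidHom.mem_ker]⟩
        left_inv := fun v => by
          apply congrArg Additive.ofMul
          exact Subtype.ext (Qd.ext_block_shift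
            (by rw [Qd.block_mkQd]; exact (MonoidHom.mem_ker.1 (Additive.toMul v).2).symm)
            (Qd.shift_mkQd _ _))
        right_inv := fun t => Qd.shift_mkQd _ _
        map_add' := fun a b => (Qd.shift_mul_ker (Additive.toMul a).2).trans (add_comm _ _) }
    refine ⟨(Qd.block (F := F)).comp K.subtype, ψ, ?_, ?_, ?_⟩
    · intro A
      exact ⟨⟨Qd.mkQd A 0, (hK _).2 (Qd.shift_mkQd _ _)⟩, Qd.block_mkQd A 0⟩
    · ext l
      rw [MonoidHom.mem_ker, Subgroup.mem_subgroupOf, Subgroup.mem_centralizer_iff]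
      constructor
      · intro h v hv
        have h1 : (l : ↥(Cfsg.qdOver F)) = 1 :=
          Qd.ext_block_shift (by rw [map_one]; exact h) (((hK _).1 l.2).trans Qd.shift_one.symm)
        rw [h1, mul_one, one_mul]
      · intro h
        apply Subtype.ext
        apply Matrix.ext_of_mulVec_single
        intro i
        have h1 := congrArg Qd.shift (h (Qd.mkQd 1 (Pi.single i 1))
          (by simp [MonoidHom.mem_ker]))
        rw [Qd.shift_mul, Qd.shift_mul, (hK _).1 l.2, Qd.shift_mkQd, Matrix.mulVec_zero,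
          zero_add, add_zero] at h1
        rw [MonoidHom.comp_apply, Subgroup.coe_subtype, Matrix.SpecialLinearGroup.coe_one,
          Matrix.one_mulVec]
        exact h1.symm
    · intro l v
      have hmem := (MonoidHom.normal_ker (Qd.block (F := F))).conj_mem v.1 v.2 l.1
      refine ⟨⟨_, hmem⟩, rfl, ?_⟩
      have hinv : Qd.shift ((l : ↥(Cfsg.qdOver F)))⁻¹ = 0 := (hK _).1 (inv_mem l.2)
      show Qd.shift ((l : ↥(Cfsg.qdOver F)) * v.1 * (l : ↥(Cfsg.qdOver F))⁻¹) =
        (Qd.block l.1).1.mulVec (Qd.shift v.1)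
      rw [Qd.shift_mul, hinv, Matrix.mulVec_zero, zero_add, Qd.shift_mul, (hK _).1 l.2, add_zero]

end Cfsg.Agent.S2762
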