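import Cfsg.Statements.S2763
import Cfsg.Agent.Lib.LocalEven.Qd
import Cfsg.Agent.Lib.LocalEven.NaturalSL2

set_option autoImplicit false
open Cfsg Matrix
open scoped MatrixGroups Pointwise

namespace Cfsg.Agent.S2763

open CfsgLib.LocalEven CfsgLib.LocalEven.Qd CfsgLib.LocalEven.SLTwoProduct CfsgLib.ClassicalGroups
  CfsgLib.LocalEven.NaturalSL2

variable {p : ℕ} [Fact p.Prime]

/-- The standard Sylow subgroup: the elements with unitriangular block. -/
def stdSyl : Subgroup ↥(qdOver (ZMod p)) := (slUni : Subgroup SL(2, ZMod p)).comap block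

theorem mem_stdSyl {M : ↥(qdOver (ZMod p))} : M ∈ stdSyl ↔ ∃ t, block M = uni t := mem_slUni_iff

theorem uni_add (s t : ZMod p) : uni s * uni t = uni (s + t) := by
  apply Subtype.ext
  rw [Matrix.SpecialLinearGroup.coe_mul]
  ext i j
  fin_cases i <;> fin_cases j <;> simp [uni, add_comm]

/-- The flip of the unitriangular group. -/
def flipFun (M : ↥(qdOver (ZMod p))) : ↥(qdOver (ZMod p)) :=
  mkQd (uni (-(shift M 1))) ![(block M).1 0 1 * shift M 1 - shift M 0, -((block M).1 0 1)]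

theorem flipFun_mem (M : ↥(qdOver (ZMod p))) : flipFun M ∈ stdSyl :=
  mem_stdSyl.2 ⟨_, block_mkQd _ _⟩

theorem flipFun_mul {M N : ↥(qdOver (ZMod p))} (hM : M ∈ stdSyl) (hN : N ∈ stdSyl) :
    flipFun (M * N) = flipFun M * flipFun N := by
  obtain ⟨s, hs⟩ := mem_stdSyl.1 hM
  obtain ⟨t, ht⟩ := mem_stdSyl.1 hN
  refine ext_block_shift ?_ ?_
  · rw [map_mul, flipFun, flipFun, flipFun, block_mkQd, block_mkQd, block_mkQd, uni_add, shift_mul, hs,
      uni_mulVec]
    congr 1
    simp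
  · rw [shift_mul (flipFun M) (flipFun N), flipFun, flipFun, flipFun, shift_mkQd, shift_mkQd, shift_mkQd,
      block_mkQd, map_mul, hs, ht, uni_add, shift_mul, hs, uni_mulVec, uni_mulVec]
    funext i
    fin_cases i <;> simp [uni] <;> ring

theorem flipFun_flipFun {M : ↥(qdOver (ZMod p))} (hM : M ∈ stdSyl) : flipFun (flipFun M) = M := by
  obtain ⟨s, hs⟩ := mem_stdSyl.1 hM
  refine ext_block_shift ?_ ?_
  · rw [flipFun, flipFun, shift_mkQd, block_mkQd, hs]; simp [uni]; rfl
  · rw [flipFun, flipFun, shift_mkQd, block_mkQd, shift_mkQd, hs]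
    funext i
    fin_cases i <;> simp [uni]
    ring

/-- The flip as an automorphism. -/
def flip : ↥(stdSyl (p := p)) ≃* ↥(stdSyl (p := p)) where
  toFun M := ⟨flipFun M.1, flipFun_mem M.1⟩
  invFun M := ⟨flipFun M.1, flipFun_mem M.1⟩
  left_inv M := Subtype.ext (flipFun_flipFun M.2)
  right_inv M := Subtype.ext (flipFun_flipFun M.2)
  map_mul' M N := Subtype.ext (flipFun_mul M.2 N.2)

theorem comap_map_sylow (S : Sylow p ↥(qdOver (ZMod p))) :
    (((S : Subgroup ↥(qdOver (ZMod p))).map block).comap block) = S :=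
  Subgroup.comap_map_eq_self (by
    rw [← pCore_qdOver (p := p)]; exact pCore_le_sylow S)

theorem eq_ker_of_normal {N : Subgroup ↥(qdOver (ZMod p))} (hN : N.Normal) (hp : IsPGroup p N)
    (h1 : N ≠ ⊥) : N = (block (F := ZMod p)).ker := by
  have hle : N ≤ (block (F := ZMod p)).ker := by
    rw [← pCore_qdOver (p := p)]; exact le_sSup ⟨hN, hp⟩
  refine le_antisymm hle ?_
  let W : Set (Fin 2 → ZMod p) := {v | ∃ a ∈ N, shift a = v}
  have hact : ∀ (A : SL(2, ZMod p)) (v : Fin 2 → ZMod p), v ∈ W → A.1 *ᵥ v ∈ W := by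
    rintro A _ ⟨a, ha, rfl⟩
    refine ⟨mkQd A 0 * a * (mkQd A 0)⁻¹, hN.conj_mem a ha _, ?_⟩
    have h := congrArg shift (show (mkQd A 0 * a * (mkQd A 0)⁻¹) * mkQd A 0 = mkQd A 0 * a by group)
    rw [shift_mul_ker (a := mkQd A 0 * a * (mkQd A 0)⁻¹) (hle (hN.conj_mem a ha _)), shift_mkQd,
      shift_mul (mkQd A 0) a, block_mkQd, shift_mkQd, zero_add, add_zero] at h
    exact h
  have hadd : ∀ v w, v ∈ W → w ∈ W → v + w ∈ W := by
    rintro _ _ ⟨a, ha, rfl⟩ ⟨b, hb, rfl⟩
    exact ⟨b * a, N.mul_mem hb ha, shift_mul_ker (hle hb)⟩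
  have hneg : ∀ v, v ∈ W → -v ∈ W := by
    rintro _ ⟨a, ha, rfl⟩
    refine ⟨a⁻¹, N.inv_mem ha, ?_⟩
    have h := shift_mul_ker (b := a⁻¹) (hle ha)
    rw [mul_inv_cancel, shift_one] at h
    exact (neg_eq_of_add_eq_zero_left h.symm).symm
  obtain ⟨⟨a, ha⟩, ha1⟩ := Subgroup.ne_bot_iff_exists_ne_one.1 h1
  have hv : shift a ≠ 0 := fun h => ha1 (Subtype.ext (ext_block_shift
    ((MonoidHom.mem_ker.1 (hle ha)).trans (map_one _).symm) (h.trans shift_one.symm)))
  have hc : ∃ c : ZMod p, c ≠ 0 ∧ ![c, 0] ∈ W := by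
    by_cases hv1 : shift a 1 = 0
    · refine ⟨shift a 0, fun h => hv (funext fun i => by fin_cases i <;> simp [h, hv1]), a, ha, ?_⟩
      funext i; fin_cases i <;> simp [hv1]
    · refine ⟨shift a 1, hv1, ?_⟩
      have h := hadd _ _ (hact (uni 1) _ ⟨a, ha, rfl⟩) (hneg _ ⟨a, ha, rfl⟩)
      rw [uni_mulVec] at h
      convert h using 1
      funext i; fin_cases i <;> simp
  obtain ⟨c, hc0, hcW⟩ := hc
  have hline : ∀ x : ZMod p, ![x, 0] ∈ W := by
    intro x
    rcases eq_or_ne x 0 with rfl | hx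
    · refine ⟨1, N.one_mem, ?_⟩
      rw [shift_one]; funext i; fin_cases i <;> simp
    · have h := hact (dia (Units.mk0 _ (div_ne_zero hx hc0))) _ hcW
      rw [dia_mulVec] at h
      simpa [hc0] using h
  intro b hb
  obtain ⟨b', hb', hbb⟩ : shift b ∈ W := by
    have h1 := hact ⟨!![0, -1; 1, 0], by simp [Matrix.det_fin_two]⟩ _ (hline (shift b 1))
    have h2 := hadd _ _ (hline (shift b 0)) h1
    convert h2 using 1
    funext i; fin_cases i <;> simp [Matrix.mulVec, dotProduct, Fin.sum_univ_two]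
  rwa [ext_block_shift (a := b) (b := b')
    ((MonoidHom.mem_ker.1 hb).trans (MonoidHom.mem_ker.1 (hle hb')).symm) hbb.symm]

theorem flip_val (M : ↥(stdSyl (p := p))) : ((flip M : ↥(stdSyl (p := p))) : ↥(qdOver (ZMod p))) = flipFun M.1 :=
  rfl

theorem char_transport {A B : Type*} [Group A] [Group B] {T : Subgroup A} (hT : T.Characteristic) (e : A ≃* B)
    (f : B ≃* B) {x : A} (hx : x ∈ T) : e.symm (f (e x)) ∈ T :=
  (Subgroup.characteristic_iff_comap_eq.1 hT ((e.trans f).trans e.symm)).ge hx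

theorem main (S : Sylow p ↥(qdOver (ZMod p))) (T : Subgroup ↥(S : Subgroup ↥(qdOver (ZMod p))))
    (hT : T ≠ ⊥) (hTc : T.Characteristic) :
    Subgroup.normalizer ((T.map (S : Subgroup ↥(qdOver (ZMod p))).subtype : Subgroup ↥(qdOver (ZMod p))) :
        Set ↥(qdOver (ZMod p))) =
      Subgroup.normalizer ((S : Subgroup ↥(qdOver (ZMod p))) : Set ↥(qdOver (ZMod p))) ∧
    Subgroup.normalizer ((S : Subgroup ↥(qdOver (ZMod p))) : Set ↥(qdOver (ZMod p))) ≠ ⊤ := by
  set T' := T.map (S : Subgroup ↥(qdOver (ZMod p))).subtype with hT'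
  set P : Sylow p SL(2, ZMod p) := S.mapSurjective block_surjective with hP
  have hne : Subgroup.normalizer ((S : Subgroup ↥(qdOver (ZMod p))) : Set ↥(qdOver (ZMod p))) ≠ ⊤ := by
    intro h
    have hn : (P : Subgroup SL(2, ZMod p)).Normal :=
      (Subgroup.normalizer_eq_top_iff.1 h).map _ block_surjective
    have hbot := pGroup_normal_sl2_eq_bot hn P.2
    have hcard := P.card_eq_multiplicity
    rw [factorization_card_sl_two, ZMod.card, hbot, Subgroup.card_bot] at hcard
    exact (Fact.out : p.Prime).ne_one hcard.symm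
  have hchar : Subgroup.normalizer ((S : Subgroup ↥(qdOver (ZMod p))) : Set ↥(qdOver (ZMod p))) ≤
      Subgroup.normalizer (T' : Set ↥(qdOver (ZMod p))) := by
    intro g hg
    refine mem_normalizer_of_map_conj_eq ?_
    let c : MulAut ↥(S : Subgroup ↥(qdOver (ZMod p))) :=
      ((MulAut.conj g).subgroupMap (S : Subgroup ↥(qdOver (ZMod p)))).trans
        (MulEquiv.subgroupCongr (map_conj_eq_self hg))
    have hfix := Subgroup.characteristic_iff_map_eq.1 hTc c
    conv_rhs => rw [hT', ← hfix]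
    rw [hT', Subgroup.map_map, Subgroup.map_map]
    rfl
  refine ⟨le_antisymm (fun g hg => ?_) hchar, hne⟩
  by_contra hgS
  have hkS : (block (F := ZMod p)).ker ≤ S := by rw [← pCore_qdOver (p := p)]; exact pCore_le_sylow S
  set Q : Sylow p SL(2, ZMod p) := (g • S).mapSurjective block_surjective with hQ
  have hPQ : P ≠ Q := by
    intro h
    apply hgS
    refine mem_normalizer_of_map_conj_eq ?_
    have h' : (S : Subgroup ↥(qdOver (ZMod p))).map block = ((g • S : Sylow p _) : Subgroup _).map block :=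
      congrArg (fun X : Sylow p SL(2, ZMod p) => (X : Subgroup SL(2, ZMod p))) h
    calc (S : Subgroup ↥(qdOver (ZMod p))).map (MulAut.conj g).toMonoidHom
        = ((g • S : Sylow p _) : Subgroup _) := rfl
      _ = _ := by rw [← comap_map_sylow (g • S), ← h', comap_map_sylow]
  have hST : (S : Subgroup ↥(qdOver (ZMod p))) ≤ Subgroup.normalizer (T' : Set ↥(qdOver (ZMod p))) :=
    Subgroup.le_normalizer.trans hchar
  have hgST : ((g • S : Sylow p _) : Subgroup ↥(qdOver (ZMod p))) ≤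
      Subgroup.normalizer (T' : Set ↥(qdOver (ZMod p))) := by
    rintro x ⟨y, hy, rfl⟩
    exact (Subgroup.normalizer _).mul_mem ((Subgroup.normalizer _).mul_mem hg (hST hy))
      ((Subgroup.normalizer _).inv_mem hg)
  have htop : Subgroup.normalizer (T' : Set ↥(qdOver (ZMod p))) = ⊤ := by
    rw [eq_top_iff, ← Subgroup.comap_map_eq_self (hkS.trans hST)]
    refine le_of_eq_of_le (Subgroup.comap_top _).symm (Subgroup.comap_mono ?_)
    rw [← sylow_sup_eq_top_sl_two p P Q hPQ]
    exact sup_le (Subgroup.map_mono hST) (Subgroup.map_mono hgST)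
  have hker : T' = (block (F := ZMod p)).ker :=
    eq_ker_of_normal (Subgroup.normalizer_eq_top_iff.1 htop) ((S.2.to_le (Subgroup.map_subtype_le _)))
      (fun h => hT ((Subgroup.map_eq_bot_iff_of_injective _ (Subgroup.subtype_injective _)).1 h))
  obtain ⟨h, hh⟩ := MulAction.exists_smul_eq SL(2, ZMod p) P (slUniSylow p)
  obtain ⟨k, rfl⟩ := block_surjective h
  have hmap : (S : Subgroup ↥(qdOver (ZMod p))).map (MulAut.conj k).toMonoidHom = stdSyl := by
    show ((k • S : Sylow p ↥(qdOver (ZMod p))) : Subgroup ↥(qdOver (ZMod p))) = _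
    rw [← comap_map_sylow (k • S), stdSyl]
    congr 1
    rw [show (slUni : Subgroup SL(2, ZMod p)) = ((slUniSylow p : Sylow p SL(2, ZMod p)) : Subgroup _) from rfl,
      ← hh]
    show ((S : Subgroup _).map (MulAut.conj k).toMonoidHom).map block =
      ((S : Subgroup _).map block).map (MulAut.conj (block k)).toMonoidHom
    rw [Subgroup.map_map, Subgroup.map_map]
    congr 1
    ext1 x
    simp
  let e : ↥(S : Subgroup ↥(qdOver (ZMod p))) ≃* ↥(stdSyl (p := p)) :=
    ((MulAut.conj k).subgroupMap (S : Subgroup ↥(qdOver (ZMod p)))).trans (MulEquiv.subgroupCongr hmap)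
  let u : ↥(stdSyl (p := p)) := ⟨mkQd 1 ![0, 1], mem_stdSyl.2 ⟨0, by rw [block_mkQd, uni_zero]⟩⟩
  have hu : block (u : ↥(qdOver (ZMod p))) = 1 := block_mkQd _ _
  have hmemT : ∀ s : ↥(S : Subgroup ↥(qdOver (ZMod p))), s ∈ T ↔ block (e s : ↥(qdOver (ZMod p))) = 1 := by
    intro s
    have h1 : (e s : ↥(qdOver (ZMod p))) = k * s * k⁻¹ := rfl
    rw [h1, map_mul, map_mul, map_inv, conj_eq_one_iff, ← MonoidHom.mem_ker, ← hker, hT']
    exact ⟨fun hs => ⟨s, hs, rfl⟩, fun ⟨y, hy, hys⟩ => Subtype.ext hys ▸ hy⟩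
  have hsT : e.symm u ∈ T := (hmemT _).2 (by rw [e.apply_symm_apply]; exact hu)
  have hflip := (hmemT _).1 (char_transport hTc e flip hsT)
  rw [e.apply_symm_apply, e.apply_symm_apply, flip_val] at hflip
  refine uni_ne_one (F := ZMod p) (t := -1) (by simp) (Eq.trans ?_ hflip)
  rw [show ((u : ↥(stdSyl (p := p))) : ↥(qdOver (ZMod p))) = mkQd 1 ![0, 1] from rfl, flipFun, block_mkQd,
    shift_mkQd]
  simp

/-- In the group Qd(p) (p prime; the natural semidirect product of an elementary abelian group of order p² by SL₂(p)), the normalizer of every nontrivial characteristic subgroup of a Sylow p-subgroup S equals the normalizer of S, which is a proper subgroup; in particular no such characteristic subgroup is normal. -/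
theorem result {p : ℕ} [Fact p.Prime] (S : Sylow p ↥(Cfsg.qd p)) (T : Subgroup ↥(S : Subgroup ↥(Cfsg.qd p))) (hT : T ≠ ⊥) (hTc : T.Characteristic) : Subgroup.normalizer ((T.map (S : Subgroup ↥(Cfsg.qd p)).subtype : Subgroup ↥(Cfsg.qd p)) : Set ↥(Cfsg.qd p)) = Subgroup.normalizer ((S : Subgroup ↥(Cfsg.qd p)) : Set ↥(Cfsg.qd p)) ∧ Subgroup.normalizer ((S : Subgroup ↥(Cfsg.qd p)) : Set ↥(Cfsg.qd p)) ≠ ⊤ :=
  main S T hT hTc

end Cfsg.Agent.S2763
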