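import Cfsg.Statements.S2766
-- import your own Cfsg.Agent.* helpers here

import Cfsg.Agent.Lib.LocalEven.QdSplit
import Cfsg.Agent.Lib.LocalEven.QdComplement
import Cfsg.Agent.Lib.PushingUp.Chief

set_option autoImplicit false
open Cfsg
open scoped commutatorElement

namespace Cfsg.Agent.S2766

/-- Let p ≥ 5 be prime and G a maximal p-local subgroup of a finite group H (G is the normalizer of a nontrivial p-subgroup and lies in no other such normalizer). Suppose C_G(O_p(G)) ≤ O_p(G), G/K ≅ PSL₂(p^n) for some normal K and n ≥ 1, a Sylow p-subgroup S of G lies in exactly one maximal subgroup of G, and N_H(S) is not contained in G. Then G = G₀ × E for subgroups G₀ ≅ Qd(p^n) (the natural semidirect product of the plane over the field with p^n elements by SL₂) and E an elementary abelian p-group. -/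
theorem result {H : Type*} [Group H] [Finite H] {p : ℕ} [Fact p.Prime] (hp : 5 ≤ p) (G : Subgroup H) (hloc : ∃ R : Subgroup H, IsPGroup p ↥R ∧ R ≠ ⊥ ∧ G = Subgroup.normalizer (R : Set H)) (hmax : ∀ R : Subgroup H, IsPGroup p ↥R → R ≠ ⊥ → G ≤ Subgroup.normalizer (R : Set H) → Subgroup.normalizer (R : Set H) = G) (S : Sylow p ↥G) (hE₁ : Subgroup.centralizer (Cfsg.pCore p ↥G : Set ↥G) ≤ Cfsg.pCore p ↥G) (hE₂ : ∃! M : Subgroup ↥G, IsCoatom M ∧ (S : Subgroup ↥G) ≤ M) (K : Subgroup ↥G) [K.Normal] (F : Type) [Field F] [Fintype F] (n : ℕ) (hn : 1 ≤ n) (hF : Fintype.card F = p ^ n) (hE₃ : Nonempty (↥G ⧸ K ≃* Matrix.ProjectiveSpecialLinearGroup (Fin 2) F)) (hN : ¬ Subgroup.normalizer (((S : Subgroup ↥G).map G.subtype : Subgroup H) : Set H) ≤ G) : ∃ G₀ E : Subgroup H, Cfsg.IsInternalDirectProduct G₀ E G ∧ Cfsg.IsElementaryAbelian p E ∧ Nonempty (↥G₀ ≃* ↥(Cfsg.qdOver F)) := by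
  haveI : CharP F p := charP_of_card_eq_prime_pow hF
  obtain ⟨x, hxS, hxG⟩ := SetLike.not_le_iff_exists.1 hN
  -- the pushing-up hypothesis
  have hd : ∀ T : Subgroup ↥(S : Subgroup ↥G), T ≠ ⊥ → T.Characteristic →
      ¬ (T.map (S : Subgroup ↥G).subtype).Normal := by
    intro T hT hTc hTn
    refine hxG ?_
    have e := hmax ((T.map (S : Subgroup ↥G).subtype).map G.subtype) (((S.2.to_subgroup T).map _).map _) ?_ ?_
    · rw [← e, Subgroup.map_map]
      refine CfsgLib.LocalEven.QdSplit.normalizer_map_of_char (G.subtype.comp (S : Subgroup ↥G).subtype)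
        (fun a b h => Subtype.ext (Subtype.ext h)) T x ?_
      rwa [MonoidHom.range_comp, Subgroup.range_subtype]
    · rw [Ne, Subgroup.map_eq_bot_iff_of_injective _ G.subtype_injective,
        Subgroup.map_eq_bot_iff_of_injective _ (S : Subgroup ↥G).subtype_injective]
      exact hT
    · intro g hg
      refine CfsgLib.LocalEven.QdSplit.mem_normalizer_of_conj ?_
      rintro _ ⟨a, ha, rfl⟩
      exact ⟨_, hTn.conj_mem a ha ⟨g, hg⟩, rfl⟩
  have hE := CfsgLib.PushingUp.situation_mk S hE₁ hE₂ K inferInstance F n hF hE₃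
  obtain ⟨e⟩ := hE₃
  obtain ⟨pr'⟩ := CfsgLib.PushingUp.exists_proj S rfl K n hn hF e
  rcases CfsgLib.PushingUp.pushing_up hE (CfsgLib.PushingUp.hd_of_characteristic hd) pr' with h | h
  swap
  · have := h.1; omega
  obtain ⟨h1, -, -, h4, -⟩ := id h
  obtain ⟨d, hSd⟩ := CfsgLib.LocalEven.QdSplit.exists_data hp S h
  have hCS : d.C ≤ (S : Subgroup ↥G) := fun c hc => CfsgLib.PCore.pCore_le_sylow S hc.1
  have hTbot : Cfsg.pCore p ↥G ≠ ⊥ := by
    intro h0
    obtain ⟨v, hv, hvx⟩ := d.co_surj ![1, 0]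
    have hv1 : v = 1 := by
      have := d.V_le hv.1
      rwa [h0, Subgroup.mem_bot] at this
    rw [hv1, (d.co_eq_zero (one_mem _)).2 (one_mem _)] at hvx
    simpa using congrFun hvx 0
  -- the derived group of `C` is central
  have hDcen : ⁅d.C, d.C⁆ ≤ Subgroup.center ↥G := by
    intro z hz
    have hzC : z ∈ d.C := Subgroup.commutator_le.2 (fun a ha b hb => by
      rw [commutatorElement_def]; exact mul_mem (mul_mem (mul_mem ha hb) (inv_mem ha)) (inv_mem hb)) hz
    have hzS : d.C ≤ Subgroup.centralizer ({z} : Set ↥G) := by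
      intro c hc
      refine Subgroup.mem_centralizer_iff.2 fun w hw => ?_
      rw [Set.mem_singleton_iff.1 hw]
      have hb : ⁅⁅d.C, d.C⁆, d.C⁆ = ⊥ := by
        refine le_bot_iff.1 (le_trans ?_ h1.le)
        show _ ≤ (S : Subgroup ↥G).lowerCentralSeries 2
        rw [Subgroup.lowerCentralSeries_succ, Subgroup.lowerCentralSeries_succ, Subgroup.lowerCentralSeries_zero]
        exact Subgroup.commutator_mono (Subgroup.commutator_mono hCS hCS) hCS
      exact commutatorElement_eq_one_iff_mul_comm.1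
        ((Subgroup.eq_bot_iff_forall _).1 hb _ (Subgroup.commutator_mem_commutator hz hc))
    have : (⊤ : Subgroup ↥G) ≤ Subgroup.centralizer ({z} : Set ↥G) := by
      rw [← d.G₀_sup_C]
      refine sup_le (fun g hg => Subgroup.mem_centralizer_iff.2 fun w hw => ?_) hzS
      rw [Set.mem_singleton_iff.1 hw, d.G₀_comm hg hzC]
    exact Subgroup.mem_center_iff.2 fun g =>
      (Subgroup.mem_centralizer_iff.1 (this (Subgroup.mem_top g)) z rfl).symm
  have hinj := G.subtype_injective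
  have hdc : ⁅d.C.map G.subtype, d.C.map G.subtype⁆ = (⁅d.C, d.C⁆).map G.subtype :=
    (Subgroup.map_commutator _ _ _).symm
  have hDT : IsPGroup p ↥(⁅d.C, d.C⁆) := IsPGroup.to_le CfsgLib.PCore.pCore_isPGroup
    ((Subgroup.commutator_le.2 fun a ha b hb => by
      rw [commutatorElement_def]; exact mul_mem (mul_mem (mul_mem ha hb) (inv_mem ha)) (inv_mem hb)).trans
      (inf_le_left : d.C ≤ Cfsg.pCore p ↥G))
  have hcentH : ∀ z ∈ ⁅d.C.map G.subtype, d.C.map G.subtype⁆, ∀ g ∈ G, g * z = z * g := by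
    rw [hdc]
    rintro _ ⟨z, hz, rfl⟩ g hg
    exact congrArg Subtype.val (Subgroup.mem_center_iff.1 (hDcen hz) ⟨g, hg⟩)
  have hD : ⁅d.C.map G.subtype, d.C.map G.subtype⁆ = ⊥ := by
    refine CfsgLib.LocalEven.QdSplit.complement_comm ((d.S₀ (S : Subgroup ↥G)).map G.subtype) _ ?_ ?_ ?_ x ?_
      (G.subtype d.i) ?_ ?_ ?_ ?_ ?_
    · rintro _ ⟨s, hs, rfl⟩ _ ⟨c, hc, rfl⟩
      exact congrArg Subtype.val (d.G₀_comm hs.2 hc)
    · rw [← Subgroup.map_inf _ _ _ hinj, eq_bot_iff, ← Subgroup.map_bot G.subtype]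
      refine Subgroup.map_mono ?_
      rw [← d.G₀_inf_C]
      exact inf_le_inf_right _ inf_le_right
    · rintro _ ⟨s, hs, rfl⟩ ⟨_, ⟨t, ht, rfl⟩, hne⟩ l hl
      rw [← Subgroup.map_commutator] at hl
      obtain ⟨l, hl, rfl⟩ := hl
      obtain ⟨u, hu, rfl⟩ := d.full hSd hs ⟨t, ht, fun h => hne (congrArg Subtype.val h)⟩ hl
      exact ⟨_, ⟨u, hu, rfl⟩, (map_commutatorElement _ _ _).symm⟩
    · rw [← Subgroup.map_sup, d.sylow_split hCS]
      exact hxS
    · rintro _ ⟨c, hc, rfl⟩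
      exact congrArg Subtype.val (d.mem_C.1 hc).2
    · rw [← Subgroup.map_commutator]
      rintro _ ⟨l, hl, rfl⟩
      refine ⟨d.i * l * d.i⁻¹, ?_, by simp⟩
      rw [(d.commutator_mem_V₀ hSd hl).2]
      exact inv_mem hl
    · rw [← Subgroup.map_commutator]
      intro hne
      obtain ⟨l, hl, hl1⟩ : ∃ l ∈ ⁅d.S₀ (S : Subgroup ↥G), d.S₀ (S : Subgroup ↥G)⁆, l ≠ 1 := by
        by_contra hcon
        push Not at hcon
        exact hne (by rw [(Subgroup.eq_bot_iff_forall _).2 hcon, Subgroup.map_bot])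
      refine ⟨_, ⟨l, hl, rfl⟩, fun hc => hl1 ?_⟩
      have hv := d.commutator_mem_V₀ hSd hl
      refine d.eq_one_of_sq (d.V_le hv.1) (mul_eq_one_iff_eq_inv.2 ?_)
      have h2 := hv.2
      rw [show d.i * l = l * d.i from Subtype.ext hc, mul_inv_cancel_right] at h2
      exact h2
    · intro _ z hz hw
      by_contra hz1
      have hw1 : x * z * x⁻¹ ≠ 1 := by simpa using hz1
      have hGw : G ≤ Subgroup.centralizer ({x * z * x⁻¹} : Set H) := fun g hg =>
        Subgroup.mem_centralizer_iff.2 fun v hv => by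
          rw [Set.mem_singleton_iff.1 hv]; exact (hcentH _ hw g hg).symm
      have hnz : Subgroup.centralizer ({x * z * x⁻¹} : Set H) ≤
          Subgroup.normalizer (Subgroup.zpowers (x * z * x⁻¹) : Set H) := fun g hg =>
        CfsgLib.LocalEven.QdSplit.mem_normalizer_of_conj fun a ha => by
          obtain ⟨k, rfl⟩ := Subgroup.mem_zpowers_iff.1 ha
          have hc : Commute g (x * z * x⁻¹) := (Subgroup.mem_centralizer_iff.1 hg _ rfl).symm
          rw [(hc.zpow_right k).eq, mul_inv_cancel_right]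
          exact ha
      have hpw : IsPGroup p ↥(Subgroup.zpowers (x * z * x⁻¹)) := by
        refine IsPGroup.to_le (hDT.map G.subtype) ?_
        rw [← hdc, Subgroup.zpowers_le]
        exact hw
      have e := hmax _ hpw (by simpa using hw1) (hGw.trans hnz)
      have hxGx : ∀ g ∈ G, x * g * x⁻¹ ∈ G := by
        intro g hg
        refine e.le (hnz (Subgroup.mem_centralizer_iff.2 fun v hv => ?_))
        rw [Set.mem_singleton_iff.1 hv]
        calc x * z * x⁻¹ * (x * g * x⁻¹) = x * (z * g) * x⁻¹ := by group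
          _ = _ := by rw [← hcentH z hz g hg]; group
      refine hxG ?_
      rw [← hmax ((Cfsg.pCore p ↥G).map G.subtype) (CfsgLib.PCore.pCore_isPGroup.map _)
        (by rwa [Ne, Subgroup.map_eq_bot_iff_of_injective _ hinj]) ?_]
      · refine CfsgLib.LocalEven.QdSplit.normalizer_map_of_char G.subtype hinj _ x ?_
        rw [Subgroup.range_subtype]
        exact CfsgLib.LocalEven.QdSplit.mem_normalizer_of_conj hxGx
      · intro g hg
        refine CfsgLib.LocalEven.QdSplit.mem_normalizer_of_conj ?_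
        rintro _ ⟨a, ha, rfl⟩
        exact ⟨_, (Cfsg.pCore_normal p ↥G).conj_mem a ha ⟨g, hg⟩, rfl⟩
    · intro hne g hg z hz
      refine hcentH z hz g ?_
      rw [← hmax _ ?_ hne ?_]
      · exact hg
      · rw [hdc]; exact hDT.map _
      · exact fun a ha => CfsgLib.LocalEven.QdSplit.mem_normalizer_of_conj fun b hb => by
          rw [hcentH b hb a ha, mul_inv_cancel_right]; exact hb
  refine ⟨d.G₀.map G.subtype, d.C.map G.subtype, ⟨?_, ?_, ?_, ?_, ?_⟩, ⟨⟨⟨?_⟩⟩, ?_⟩, ?_⟩
  · exact Subgroup.map_subtype_le _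
  · exact Subgroup.map_subtype_le _
  · rintro _ ⟨a, ha, rfl⟩ _ ⟨b, hb, rfl⟩
    exact congrArg Subtype.val (d.G₀_comm ha hb)
  · rw [← Subgroup.map_inf _ _ _ hinj, d.G₀_inf_C, Subgroup.map_bot]
  · rw [← Subgroup.map_sup, d.G₀_sup_C, ← MonoidHom.range_eq_map, Subgroup.range_subtype]
  · intro a b
    exact Subtype.ext (commutatorElement_eq_one_iff_mul_comm.1
      ((Subgroup.eq_bot_iff_forall _).1 hD _ (Subgroup.commutator_mem_commutator a.2 b.2)))
  · rintro _ ⟨c, hc, rfl⟩
    have h5 := Monoid.pow_exponent_eq_one (⟨c, hCS hc⟩ : ↥(S : Subgroup ↥G))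
    rw [h4 (by omega)] at h5
    exact congrArg (fun y : ↥(S : Subgroup ↥G) => ((y : ↥G) : H)) h5
  · obtain ⟨f⟩ := d.nonempty_iso
    exact ⟨(d.G₀.equivMapOfInjective G.subtype hinj).symm.trans f⟩

end Cfsg.Agent.S2766
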