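import Cfsg.Statements.S2768
import Cfsg.Agent.Lib.PushingUp.Offender

set_option autoImplicit false
open Cfsg CfsgLib.PushingUp
open scoped commutatorElement

namespace Cfsg.Agent.S2768

/-- Let G be a finite group and p a prime with C_G(O_p(G)) ≤ O_p(G), such that a Sylow p-subgroup S lies in exactly one maximal subgroup of G and G/K ≅ PSL₂(p^n) for some normal K and n ≥ 1. Put J̃(S) = C_S(Z(J(S))), where J(S) is generated by the abelian subgroups of S of largest order. If Z(S) is not normal in G, then J̃(S) is a Sylow p-subgroup of its normal closure ⟨J̃(S)^G⟩. -/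
theorem result {G : Type*} [Group G] [Finite G] {p : ℕ} [Fact p.Prime] (S : Sylow p G) (hE₁ : Subgroup.centralizer (Cfsg.pCore p G : Set G) ≤ Cfsg.pCore p G) (hE₂ : ∃! M : Subgroup G, IsCoatom M ∧ (S : Subgroup G) ≤ M) (K : Subgroup G) [K.Normal] (F : Type) [Field F] [Fintype F] (n : ℕ) (hn : 1 ≤ n) (hF : Fintype.card F = p ^ n) (hE₃ : Nonempty (G ⧸ K ≃* Matrix.ProjectiveSpecialLinearGroup (Fin 2) F)) (hZ : ¬ ((S : Subgroup G) ⊓ Subgroup.centralizer ((S : Subgroup G) : Set G)).Normal) : ∃ P : Sylow p ↥(Subgroup.normalClosure (((S : Subgroup G) ⊓ Subgroup.centralizer (Cfsg.centerThompsonAOf (S : Subgroup G) : Set G)) : Set G)), (P : Subgroup ↥(Subgroup.normalClosure (((S : Subgroup G) ⊓ Subgroup.centralizer (Cfsg.centerThompsonAOf (S : Subgroup G) : Set G)) : Set G))) = (((S : Subgroup G) ⊓ Subgroup.centralizer (Cfsg.centerThompsonAOf (S : Subgroup G) : Set G))).subgroupOf (Subgroup.normalClosure (((S : Subgroup G) ⊓ Subgroup.centralizer (Cfsg.centerThompsonAOf (S : Subgroup G) : Set G)) :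 Set G)) := by
  have hE := situation_mk S hE₁ hE₂ K inferInstance F n hF hE₃
  have hc : ¬ (S : Subgroup G) ⊓ Subgroup.centralizer ((S : Subgroup G) : Set G) ≤ Subgroup.center G :=
    fun h => hZ (normal_of_le_center h)
  set J := (S : Subgroup G) ⊓ Subgroup.centralizer (Cfsg.centerThompsonAOf (S : Subgroup G) : Set G)
  have key : Subgroup.normalClosure (J : Set G) ⊓ (S : Subgroup G) = J := by
    refine le_antisymm ?_ (le_inf Subgroup.subset_normalClosure inf_le_left)
    by_cases hJT : thompsonSubgroupAOf (S : Subgroup G) ≤ pCore p G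
    · haveI : J.Normal := thompson_le_core_normal hE hc hJT
      exact inf_le_left.trans (Subgroup.normalClosure_le_normal le_rfl)
    obtain ⟨A, hA, hAT⟩ : ∃ A, IsLargeIn (S : Subgroup G) A ∧ ¬ A ≤ pCore p G := by
      by_contra hno
      push Not at hno
      exact hJT (thompson_le hno)
    obtain ⟨W₀, hW₀, hW₀W, hWle, -, -⟩ := exists_split hE hc hA hAT
    haveI := hW₀
    have h1 : Subgroup.normalClosure (J : Set G) ≤ Subgroup.centralizer (W₀ : Set G) :=
      Subgroup.normalClosure_le_normal (inf_le_right.trans (Subgroup.centralizer_le (SetLike.coe_subset_coe.2 hW₀W)))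
    intro x hx
    refine ⟨hx.2, ?_⟩
    suffices h : Cfsg.centerThompsonAOf (S : Subgroup G) ≤ Subgroup.centralizer ({x} : Set G) from
      Subgroup.mem_centralizer_iff.2 fun y hy => Subgroup.mem_centralizer_singleton_iff.1 (h hy)
    refine hWle.trans (sup_le ?_ ?_)
    · exact fun z hz => Subgroup.mem_centralizer_singleton_iff.2 (Subgroup.mem_centralizer_iff.1 hz.2 x hx.2).symm
    · exact fun z hz => Subgroup.mem_centralizer_singleton_iff.2 (Subgroup.mem_centralizer_iff.1 (h1 hx.1) z hz)
  obtain ⟨P, hP⟩ := CfsgLib.SubJoin.exists_sylow_subnormal S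
    (Subgroup.normalClosure_normal (s := (J : Set G))).isSubnormal
  refine ⟨P, hP.trans ?_⟩
  ext ⟨x, hx⟩
  exact ⟨fun h => key.le ⟨hx, h⟩, fun h => h.1⟩

end Cfsg.Agent.S2768
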