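import Cfsg.Statements.S2769
import Cfsg.Agent.Lib.PushingUp.Offender

set_option autoImplicit false
open Cfsg CfsgLib.PushingUp
open scoped commutatorElement

namespace Cfsg.Agent.S2769

/-- Let G be a finite group and p a prime with C_G(O_p(G)) ≤ O_p(G), S a Sylow p-subgroup lying in exactly one maximal subgroup of G, and G/K ≅ PSL₂(p^n) for some normal K and n ≥ 1. Let J(S) be generated by the abelian subgroups of S of largest order. If [Z(J(S)), S] ≠ 1, then either [Z(J(S)), S] ∩ Z(S) is normal in G or C_S(Z(J(S))) is normal in G. -/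
theorem result {G : Type*} [Group G] [Finite G] {p : ℕ} [Fact p.Prime] (S : Sylow p G) (hE₁ : Subgroup.centralizer (Cfsg.pCore p G : Set G) ≤ Cfsg.pCore p G) (hE₂ : ∃! M : Subgroup G, IsCoatom M ∧ (S : Subgroup G) ≤ M) (K : Subgroup G) [K.Normal] (F : Type) [Field F] [Fintype F] (n : ℕ) (hn : 1 ≤ n) (hF : Fintype.card F = p ^ n) (hE₃ : Nonempty (G ⧸ K ≃* Matrix.ProjectiveSpecialLinearGroup (Fin 2) F)) (h : ⁅(Cfsg.centerThompsonAOf (S : Subgroup G)), (S : Subgroup G)⁆ ≠ ⊥) : (⁅(Cfsg.centerThompsonAOf (S : Subgroup G)), (S : Subgroup G)⁆ ⊓ ((S : Subgroup G) ⊓ Subgroup.centralizer ((S : Subgroup G) : Set G))).Normal ∨ (((S : Subgroup G) ⊓ Subgroup.centralizer (Cfsg.centerThompsonAOf (S : Subgroup G) : Set G))).Normal := by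
  have hE := situation_mk S hE₁ hE₂ K inferInstance F n hF hE₃
  by_cases hc : (S : Subgroup G) ⊓ Subgroup.centralizer ((S : Subgroup G) : Set G) ≤ Subgroup.center G
  · exact Or.inl (normal_of_le_center (inf_le_right.trans hc))
  by_cases hJT : thompsonSubgroupAOf (S : Subgroup G) ≤ pCore p G
  · exact Or.inr (thompson_le_core_normal hE hc hJT)
  obtain ⟨A, hA, hAT⟩ : ∃ A, IsLargeIn (S : Subgroup G) A ∧ ¬ A ≤ pCore p G := by
    by_contra hno
    push Not at hno
    exact hJT (thompson_le hno)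
  obtain ⟨W₀, hW₀, hW₀W, hWle, hW₀Z, -⟩ := exists_split hE hc hA hAT
  have hcomm : ⁅Cfsg.centerThompsonAOf (S : Subgroup G), (S : Subgroup G)⁆ ≤ W₀ := by
    rw [Subgroup.commutator_le]
    intro y hy s hs
    obtain ⟨f, hf, x, hx, rfl⟩ := Subgroup.mem_sup_of_normal_right.1 (hWle hy)
    have hfs := Subgroup.mem_centralizer_iff.1 hf.2 s hs
    have e : ⁅f * x, s⁆ = (f * x * f⁻¹) * (f * (s * x⁻¹ * s⁻¹) * f⁻¹) := by
      calc ⁅f * x, s⁆ = f * x * s * x⁻¹ * (s⁻¹ * (s * f⁻¹)) * s⁻¹ := by rw [commutatorElement_def]; group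
        _ = f * x * s * x⁻¹ * (s⁻¹ * (f⁻¹ * s)) * s⁻¹ := by
            rw [show s * f⁻¹ = f⁻¹ * s from (Commute.inv_right (show Commute s f from hfs)).eq]
        _ = _ := by group
    rw [e]
    exact W₀.mul_mem (hW₀.conj_mem x hx f) (hW₀.conj_mem _ (hW₀.conj_mem _ (W₀.inv_mem hx) s) f)
  refine Or.inl (normal_of_le_center fun y hy => hW₀Z ⟨hcomm hy.1, hy.2.2⟩)

end Cfsg.Agent.S2769
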