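import Cfsg.Statements.S2772
import Cfsg.Agent.Lib.Recognition.SubdegThree.Main
import Cfsg.Agent.Lib.PLocal.OffenderSquare
import Cfsg.Agent.Lib.PCore.Basic
import Cfsg.Agent.Lib.Techniques.Basic

set_option autoImplicit false
open Cfsg

namespace Cfsg.Agent.S2772

open CfsgLib.PLocal DihedralGroup

/-- An element of order two of a dihedral group of twice odd prime order is a reflection. -/
theorem exists_sr {q : ℕ} [Fact q.Prime] (hq2 : q ≠ 2) {d : DihedralGroup q} (h1 : d ≠ 1)
    (h2 : d * d = 1) : ∃ i, d = sr i := by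
  cases d with
  | r i =>
    exfalso
    rw [r_mul_r, ← r_zero] at h2
    injection h2 with h2
    rw [← two_mul, mul_eq_zero] at h2
    rcases h2 with h | h
    · rw [show (2 : ZMod q) = ((2 : ℕ) : ZMod q) by norm_num, ZMod.natCast_eq_zero_iff] at h
      exact hq2 ((Nat.prime_dvd_prime_iff_eq (Fact.out) Nat.prime_two).1 h)
    · exact h1 (by rw [h, r_zero])
  | sr i => exact ⟨i, rfl⟩

/-- A centralizer of a subgroup of index at most two gives at most four for two conjugates. -/
theorem relIndex_conj_le {X : Type*} [Group X] [Finite X] (V : Subgroup X) [V.Normal] (a g : X)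
    (h : (V ⊓ Subgroup.centralizer {a}).relIndex V ≤ 2) :
    (V ⊓ Subgroup.centralizer {a} ⊓ (V ⊓ Subgroup.centralizer {g * a * g⁻¹})).relIndex V ≤ 4 := by
  have hmap : (V ⊓ Subgroup.centralizer {a}).map (MulAut.conj g).toMonoidHom =
      V ⊓ Subgroup.centralizer {g * a * g⁻¹} := by
    ext x
    simp only [CfsgLib.Techniques.mem_map_conj, Subgroup.mem_inf, Subgroup.mem_centralizer_singleton_iff]
    refine and_congr ⟨fun hx => ?_, fun hx => ?_⟩ ⟨fun hx => ?_, fun hx => ?_⟩
    · simpa [mul_assoc] using (inferInstance : V.Normal).conj_mem _ hx g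
    · simpa [mul_assoc] using (inferInstance : V.Normal).conj_mem x hx g⁻¹
    · calc x * (g * a * g⁻¹) = g * ((g⁻¹ * x * g) * a) * g⁻¹ := by group
        _ = _ := by rw [hx]; group
    · calc g⁻¹ * x * g * a = g⁻¹ * (x * (g * a * g⁻¹)) * g := by group
        _ = _ := by rw [hx]; group
  have hV : V.map (MulAut.conj g).toMonoidHom = V :=
    CfsgLib.Techniques.map_conj_eq_self_iff.2 (by rw [Subgroup.normalizer_eq_top V]; trivial)
  have h2 : (V ⊓ Subgroup.centralizer {g * a * g⁻¹}).relIndex V ≤ 2 := by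
    rw [← hmap]
    have h' := Subgroup.relIndex_map_map_of_injective (V ⊓ Subgroup.centralizer {a}) V
      (f := (MulAut.conj g).toMonoidHom) (MulAut.conj g).injective
    rw [hV] at h'
    exact h'.le.trans h
  exact Subgroup.relIndex_inf_le.trans ((Nat.mul_le_mul h h2).trans (by norm_num))


/-- Sims' Theorem in local form: let H be a finite non-abelian simple group and G a maximal subgroup of H with C_G(O₂(G)) ≤ O₂(G), such that N_H(S) is not contained in G for a Sylow 2-subgroup S of G and G/O₂(G) is dihedral of order 2q for a prime q. Then G is isomorphic to the symmetric group of degree 4 or to its direct product with a group of order 2. -/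
theorem result {H : Type*} [Group H] [Finite H] [IsSimpleGroup H] (hna : ¬ IsMulCommutative H) (G : Subgroup H) (hG : IsCoatom G) (hchar : Subgroup.centralizer (Cfsg.pCore 2 ↥G : Set ↥G) ≤ Cfsg.pCore 2 ↥G) (S : Sylow 2 ↥G) (hN : ¬ Subgroup.normalizer (((S : Subgroup ↥G).map G.subtype : Subgroup H) : Set H) ≤ G) (q : ℕ) (hq : q.Prime) (hD : Nonempty (↥G ⧸ Cfsg.pCore 2 ↥G ≃* DihedralGroup q)) : Nonempty (↥G ≃* Equiv.Perm (Fin 4)) ∨ Nonempty (↥G ≃* Equiv.Perm (Fin 4) × Multiplicative (ZMod 2)) := by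
  classical
  haveI : Fact (Nat.Prime 2) := ⟨Nat.prime_two⟩
  haveI : Fact q.Prime := ⟨hq⟩
  haveI : NeZero q := ⟨hq.ne_zero⟩
  set Q := Cfsg.pCore 2 ↥G with hQ
  haveI : Q.Normal := Cfsg.pCore_normal 2 ↥G
  have hQp : IsPGroup 2 Q := CfsgLib.PCore.pCore_isPGroup
  have hQS : Q ≤ (S : Subgroup ↥G) := CfsgLib.PCore.pCore_le_sylow S
  obtain ⟨e⟩ := hD
  set π : ↥G →* DihedralGroup q := e.toMonoidHom.comp (QuotientGroup.mk' Q) with hπ
  have hπs : Function.Surjective π := e.surjective.comp (QuotientGroup.mk'_surjective Q)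
  have hπk : ∀ y, π y = 1 ↔ y ∈ Q := fun y => by
    rw [hπ, MonoidHom.comp_apply, MulEquiv.coe_toMonoidHom, EmbeddingLike.map_eq_one_iff,
      QuotientGroup.mk'_apply, QuotientGroup.eq_one_iff]
  have hcard : Nat.card (↥G ⧸ Q) = 2 * q := by rw [Nat.card_congr e.toEquiv, DihedralGroup.nat_card]
  have hnot2 : ¬ IsPGroup 2 ↥G := by
    intro h
    have h1 := CfsgLib.PCore.pCore_eq_self_of_isPGroup h
    rw [← hQ] at h1
    have : Nat.card (↥G ⧸ Q) = 1 := by
      rw [← Subgroup.index_eq_card, h1, Subgroup.index_top]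
    have := hq.two_le
    omega
  have hq2 : q ≠ 2 := by
    rintro rfl
    refine hnot2 fun y => ?_
    obtain ⟨k, hk⟩ := hQp ⟨y ^ Q.index, Subgroup.pow_index_mem Q y⟩
    refine ⟨2 + k, ?_⟩
    have h1 := congrArg Subtype.val hk
    change (y ^ Q.index) ^ 2 ^ k = 1 at h1
    rw [Subgroup.index_eq_card, hcard, ← pow_mul] at h1
    rw [pow_add]
    exact h1
  have hQne : Q ≠ ⊥ := by
    intro h
    refine hnot2 fun y => ⟨0, ?_⟩
    have h1 : y ∈ Q := hchar (by
      rw [h]
      refine Subgroup.mem_centralizer_iff.2 fun z hz => ?_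
      rw [SetLike.mem_coe, Subgroup.mem_bot] at hz
      rw [hz, one_mul, mul_one])
    rw [h, Subgroup.mem_bot] at h1
    rw [h1, one_pow]
  obtain ⟨n₀, hn₀, hn₀G⟩ := SetLike.not_le_iff_exists.1 hN
  set S' := (S : Subgroup ↥G).map G.subtype with hS'
  have hnorm : ∀ K : Subgroup ↥G, K.Normal →
      n₀ ∈ Subgroup.normalizer ((K.map G.subtype : Subgroup H) : Set H) → K = ⊥ := by
    intro K hK hn
    have hGle : G ≤ Subgroup.normalizer ((K.map G.subtype : Subgroup H) : Set H) := by
      have h := Subgroup.le_normalizer_map (H := K) G.subtype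
      rw [Subgroup.normalizer_eq_top_iff.2 hK, ← MonoidHom.range_eq_map, Subgroup.range_subtype] at h
      exact h
    rcases eq_or_lt_of_le hGle with h | h
    · exact absurd (h ▸ hn) hn₀G
    haveI := Subgroup.normalizer_eq_top_iff.1 (hG.2 _ h)
    rcases IsSimpleGroup.eq_bot_or_eq_top_of_normal _ this with h1 | h1
    · exact (Subgroup.map_eq_bot_iff_of_injective K G.subtype_injective).1 h1
    · exact absurd (top_le_iff.1 (h1 ▸ Subgroup.map_subtype_le K)) hG.1
  have hq3 : q = 3 := by
    by_contra hq3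
    -- an elementary abelian subgroup of largest order outside `Q`
    obtain ⟨A, hA, hAQ⟩ : ∃ A, IsMaxElemIn 2 (S : Subgroup ↥G) A ∧ ¬ A ≤ Q := by
      by_contra! h
      have hJQ : thompson 2 (S : Subgroup ↥G) ≤ Q := thompson_le_iff.2 h
      have hJn : (thompson 2 (S : Subgroup ↥G)).Normal := by
        rw [← thompson_eq_of_le hQS hJQ, ← Subgroup.normalizer_eq_top_iff, eq_top_iff,
          ← Subgroup.normalizer_eq_top Q]
        exact normalizer_le_normalizer_thompson 2 Q
      have hJ := hnorm _ hJn (by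
        rw [← thompson_map G.subtype_injective]
        exact normalizer_le_normalizer_thompson 2 S' hn₀)
      haveI : Nontrivial Q := (Subgroup.nontrivial_iff_ne_bot Q).2 hQne
      obtain ⟨k, hk0, hk⟩ := (IsPGroup.nontrivial_iff_card hQp).1 inferInstance
      obtain ⟨z, hz⟩ := exists_prime_orderOf_dvd_card' (G := Q) 2 (hk ▸ dvd_pow_self 2 hk0.ne')
      have hze : Cfsg.IsElementaryAbelian 2 (Subgroup.zpowers (z : ↥G)) :=
        Subgroup.zpowers_eq_closure (z : ↥G) ▸ elemAb_closure
          (by rintro _ rfl _ rfl; rfl)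
          (by rintro _ rfl; exact hz ▸ Subgroup.orderOf_coe z ▸ pow_orderOf_eq_one _)
      obtain ⟨A₀, hA₀⟩ := exists_isMaxElemIn 2 (S : Subgroup ↥G)
      have h2 := hA₀.2.2 _ (Subgroup.zpowers_le.2 (hQS z.2)) hze
      rw [Nat.card_zpowers, Subgroup.orderOf_coe, hz] at h2
      have h3 : Nat.card A₀ ≤ Nat.card (⊥ : Subgroup ↥G) :=
        Nat.le_of_dvd Nat.card_pos (Subgroup.card_dvd_of_le (hA₀.le_thompson.trans hJ.le))
      rw [Subgroup.card_bot] at h3
      omega
    obtain ⟨a, haA, haQ⟩ := SetLike.not_le_iff_exists.1 hAQ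
    have ha2 : a * a = 1 := by rw [← pow_two]; exact hA.elem.2 a haA
    obtain ⟨i, hi⟩ := exists_sr hq2 (d := π a) (fun h => haQ ((hπk a).1 h))
      (by rw [← map_mul, ha2, map_one])
    obtain ⟨x₀, hx₀⟩ := hπs (r 1)
    set y := a * (x₀ * a * x₀⁻¹)⁻¹ with hy
    have hπy : π y = r (-2) := by
      rw [hy, map_mul, map_inv, map_mul, map_mul, map_inv, hi, hx₀, inv_r, r_mul_sr, sr_mul_r,
        inv_sr, sr_mul_sr]
      ring_nf
    -- the centre of `S`
    set Z₀ := (S : Subgroup ↥G) ⊓ Subgroup.centralizer ((S : Subgroup ↥G) : Set ↥G) with hZ₀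
    haveI : IsMulCommutative Z₀ := isMulCommutative_of_forall fun u hu v hv =>
      (Subgroup.mem_centralizer_iff.1 hv.2 u hu.1)
    set Z := Cfsg.omegaOne 2 Z₀ with hZ
    have hZmap : Z₀.map G.subtype = S' ⊓ Subgroup.centralizer (S' : Set H) := by
      ext z
      constructor
      · rintro ⟨z, hz, rfl⟩
        refine ⟨⟨z, hz.1, rfl⟩, Subgroup.mem_centralizer_iff.2 ?_⟩
        rintro _ ⟨s, hs, rfl⟩
        exact congrArg Subtype.val (Subgroup.mem_centralizer_iff.1 hz.2 s hs)
      · rintro ⟨⟨z, hz, rfl⟩, hc⟩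
        exact ⟨z, ⟨hz, Subgroup.mem_centralizer_iff.2 fun s hs =>
          Subtype.ext (Subgroup.mem_centralizer_iff.1 hc s ⟨s, hs, rfl⟩)⟩, rfl⟩
    have hZne : Z ≠ ⊥ := by
      have hSne : (S : Subgroup ↥G) ≠ ⊥ := fun h => hQne (le_bot_iff.1 (h ▸ hQS))
      haveI : Nontrivial (S : Subgroup ↥G) := (Subgroup.nontrivial_iff_ne_bot _).2 hSne
      haveI := S.2.center_nontrivial
      obtain ⟨k, hk0, hk⟩ := (IsPGroup.nontrivial_iff_card (S.2.to_subgroup (Subgroup.center _))).1
        inferInstance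
      obtain ⟨z, hz⟩ := exists_prime_orderOf_dvd_card' (G := Subgroup.center (S : Subgroup ↥G)) 2
        (hk ▸ dvd_pow_self 2 hk0.ne')
      intro h
      have hmem : ((z : (S : Subgroup ↥G)) : ↥G) ∈ Z := mem_omegaOne
        ⟨SetLike.coe_mem _, Subgroup.mem_centralizer_iff.2 fun s hs =>
          congrArg Subtype.val (Subgroup.mem_center_iff.1 z.2 ⟨s, hs⟩)⟩
        (by
          have h := pow_orderOf_eq_one ((z : (S : Subgroup ↥G)) : ↥G)
          rwa [Subgroup.orderOf_coe, Subgroup.orderOf_coe, hz] at h)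
      rw [h, Subgroup.mem_bot] at hmem
      rw [← Subgroup.orderOf_coe, ← Subgroup.orderOf_coe, hmem, orderOf_one] at hz
      omega
    refine hZne (hnorm Z ?_ ?_)
    swap
    · rw [hZ, ← omegaOne_map G.subtype_injective, hZmap]
      exact normalizer_le_normalizer_omegaOne 2 _ (CfsgLib.Techniques.mem_normalizer_inf hn₀
        (CfsgLib.Techniques.normalizer_le_normalizer_centralizer S' hn₀))
    have hZle : Z ≤ Z₀ := omegaOne_le 2 Z₀
    have hZQ : Z ≤ Subgroup.centralizer (Q : Set ↥G) :=
      (hZle.trans inf_le_right).trans (Subgroup.centralizer_le (SetLike.coe_subset_coe.2 hQS))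
    set V := Subgroup.normalClosure (Z : Set ↥G) with hV
    have hVc : V ≤ Subgroup.centralizer (Q : Set ↥G) := Subgroup.normalClosure_le_normal hZQ
    have hVQ : V ≤ Q := hVc.trans hchar
    haveI : IsMulCommutative V := isMulCommutative_of_forall fun u hu v hv =>
      (Subgroup.mem_centralizer_iff.1 (hVc hv) u (hVQ hu))
    have hVe : Cfsg.IsElementaryAbelian 2 V := by
      have hle : V ≤ Cfsg.omegaOne 2 V := by
        refine (Subgroup.closure_le _).2 fun w hw => ?_
        obtain ⟨z, hz, hc⟩ := Group.mem_conjugatesOfSet_iff.1 hw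
        obtain ⟨g, rfl⟩ := isConj_iff.1 hc
        refine mem_omegaOne (Subgroup.subset_closure hw) ?_
        rw [conj_pow, (omegaOne_elemAb 2 Z₀).2 z hz]; group
      exact elemAb_of_le (omegaOne_elemAb 2 V) hle
    -- `|V : C_V(a)| ≤ 2`
    have himg : Nat.card ((S : Subgroup ↥G).map π) ≤ 2 := by
      obtain ⟨k, hk⟩ := IsPGroup.iff_card.1 (S.2.map π)
      have h1 : 2 ^ k ∣ 2 * q := by
        rw [← hk, ← DihedralGroup.nat_card (n := q)]; exact Subgroup.card_subgroup_dvd_card _
      rw [hk]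
      rcases Nat.lt_or_ge k 2 with h | h
      · interval_cases k <;> norm_num
      · exfalso
        have h4 : 2 * 2 ∣ 2 * q := dvd_trans (by rw [← pow_two]; exact pow_dvd_pow 2 h) h1
        exact hq2 ((Nat.prime_dvd_prime_iff_eq Nat.prime_two hq).1
          ((Nat.mul_dvd_mul_iff_left two_pos).1 h4)).symm
    have hAidx : Nat.card A ≤ 2 * Nat.card (A ⊓ Q : Subgroup ↥G) := by
      have h1 := Subgroup.card_mul_index ((A ⊓ Q).subgroupOf A)
      rw [Nat.card_congr (Subgroup.subgroupOfEquivOfLe inf_le_left).toEquiv] at h1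
      have h2 : ((A ⊓ Q).subgroupOf A) = (π.comp A.subtype).ker := by
        ext w
        simp only [Subgroup.mem_subgroupOf, Subgroup.mem_inf, MonoidHom.mem_ker, MonoidHom.comp_apply,
          Subgroup.coe_subtype, hπk, SetLike.coe_mem, true_and]
      rw [h2, Subgroup.index_ker, MonoidHom.range_comp, Subgroup.range_subtype] at h1
      rw [← h1, mul_comm]
      exact Nat.mul_le_mul_right _ ((Nat.le_of_dvd Nat.card_pos
        (Subgroup.card_dvd_of_le (Subgroup.map_mono hA.le))).trans himg)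
    have hbound : (V ⊓ Subgroup.centralizer {a}).relIndex V ≤ 2 := by
      haveI := hA.elem.1
      have hcl : Cfsg.IsElementaryAbelian 2 (V ⊔ (A ⊓ Q) : Subgroup ↥G) := by
        exact elemAb_sup hVe (elemAb_of_le hA.elem inf_le_left)
          (fun u hu v hv => Subgroup.mem_centralizer_iff.1 (hVc hu) v hv.2)
      have h1 := hA.2.2 _ (sup_le (hVQ.trans hQS) (inf_le_left.trans hA.le)) hcl
      have h2 := CfsgLib.Coprime.card_sup_mul_card_inf (H := V) (N := A ⊓ Q)
        (hVc.trans ((Subgroup.centralizer_le (fun _ h => h.2)).trans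
          (Subgroup.centralizer_le_normalizer _)))
      have h3 : (A ⊓ Q) ⊓ V ≤ V ⊓ Subgroup.centralizer {a} := fun w hw =>
        ⟨hw.2, Subgroup.mem_centralizer_singleton_iff.2 (setLike_mul_comm hw.1.1 haA)⟩
      refine le_trans (Nat.le_of_dvd (Nat.pos_of_ne_zero Subgroup.index_ne_zero_of_finite)
        (Subgroup.relIndex_dvd_of_le_left V h3)) ?_
      have h4 : Nat.card ↥((A ⊓ Q) ⊓ V) * ((A ⊓ Q) ⊓ V).relIndex V = Nat.card V := by
        have := Subgroup.relIndex_mul_relIndex (⊥ : Subgroup ↥G) ((A ⊓ Q) ⊓ V) V bot_le inf_le_right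
        simpa [Subgroup.relIndex_bot_left] using this
      have hpos : 0 < Nat.card ↥((A ⊓ Q) ⊓ V) := Nat.card_pos
      have hpos' : 0 < Nat.card (A ⊓ Q : Subgroup ↥G) := Nat.card_pos
      have e1 : Nat.card ↥(V ⊔ (A ⊓ Q)) * Nat.card ↥((A ⊓ Q) ⊓ V) =
          Nat.card V * Nat.card (A ⊓ Q : Subgroup ↥G) := by
        first
          | exact h2
          | (rw [h2]; ring)
          | (rw [inf_comm (A ⊓ Q) V]; exact h2)
          | (rw [inf_comm (A ⊓ Q) V, h2]; ring)
      rw [← h4] at e1
      have e2 : Nat.card ↥(V ⊔ (A ⊓ Q)) =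
          ((A ⊓ Q) ⊓ V).relIndex V * Nat.card (A ⊓ Q : Subgroup ↥G) :=
        Nat.eq_of_mul_eq_mul_left hpos (by linarith [e1])
      rw [e2] at h1
      exact Nat.le_of_mul_le_mul_right (h1.trans hAidx) hpos'
    -- an element of order `q` centralizing `V`
    obtain ⟨j, m, hm, hjm⟩ := Nat.exists_eq_two_pow_mul_odd (orderOf_pos y).ne'
    set u := y ^ 2 ^ j with hu
    have huo : orderOf u = m := by
      rw [hu, orderOf_pow_of_dvd (pow_ne_zero _ two_ne_zero) (hjm ▸ Dvd.intro m rfl), hjm,
        Nat.mul_div_cancel_left _ (pow_pos two_pos j)]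
    have hπu : π u ≠ 1 := by
      rw [hu, map_pow, hπy]
      intro h
      have h1 : orderOf (r (-2 : ZMod q)) ∣ 2 ^ j := orderOf_dvd_of_pow_eq_one h
      have h2 : orderOf (r (-2 : ZMod q)) = q := by
        have h0 : (-2 : ZMod q) ≠ 0 := by
          intro h
          have h' : ((2 : ℕ) : ZMod q) = 0 := by push_cast; linear_combination -h
          rw [ZMod.natCast_eq_zero_iff] at h'
          exact hq2 ((Nat.prime_dvd_prime_iff_eq hq Nat.prime_two).1 h')
        refine orderOf_eq_prime ?_ ?_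
        · rw [r_pow, ZMod.natCast_self, mul_zero, r_zero]
        · rw [← r_zero]
          exact fun h => h0 (by injection h)
      rw [h2] at h1
      exact hq2 ((Nat.prime_dvd_prime_iff_eq hq Nat.prime_two).1 (hq.dvd_of_dvd_pow h1))
    have huq : u ^ q = 1 := by
      have h1 : u ^ q ∈ Q := by
        rw [← hπk, map_pow, hu, map_pow, hπy, ← pow_mul, mul_comm, pow_mul, r_pow, ZMod.natCast_self,
          mul_zero, r_zero, one_pow]
      obtain ⟨k, hk⟩ := hQp ⟨_, h1⟩
      refine orderOf_eq_one_iff.1 (Nat.eq_one_of_dvd_coprimes (a := m) (b := 2 ^ k) ?_ ?_ ?_)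
      · exact (Nat.coprime_two_right.2 hm).pow_right k
      · rw [← huo]; exact orderOf_pow_dvd q
      · exact orderOf_dvd_of_pow_eq_one (congrArg Subtype.val hk)
    have huV : u ∈ Subgroup.centralizer (V : Set ↥G) := by
      refine centralizes_of_index_le_four V
        (V ⊓ Subgroup.centralizer {a} ⊓ (V ⊓ Subgroup.centralizer {x₀ * a * x₀⁻¹})) hVe
        (inf_le_left.trans inf_le_left) (relIndex_conj_le V a x₀ hbound)
        (by rw [Subgroup.normalizer_eq_top V]; trivial) (huo ▸ hm) ?_ ?_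
      · intro h3
        have h5 := h3.trans (orderOf_dvd_of_pow_eq_one huq)
        exact hq3 ((Nat.prime_dvd_prime_iff_eq Nat.prime_three hq).1 h5).symm
      · intro w hw
        have h1 : Commute w a := Subgroup.mem_centralizer_singleton_iff.1 hw.1.2
        have h2 : Commute w (x₀ * a * x₀⁻¹) := Subgroup.mem_centralizer_singleton_iff.1 hw.2.2
        exact ((h1.mul_right h2.inv_right).pow_right _).eq.symm
    -- `Z` is central
    have htop : (S : Subgroup ↥G) ⊔ Subgroup.zpowers u = ⊤ := by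
      set K := (S : Subgroup ↥G) ⊔ Subgroup.zpowers u with hK
      have hQK : Q ≤ K := hQS.trans le_sup_left
      have hKc : K.map π = ⊤ := by
        refine Subgroup.eq_top_of_le_card _ ?_
        rw [DihedralGroup.nat_card]
        have hmemK : ∀ w ∈ K, π w ∈ K.map π := fun w hw => Subgroup.mem_map_of_mem π hw
        have h2 : 2 ∣ Nat.card (K.map π) := by
          have : orderOf (π a) = 2 := by rw [hi, orderOf_sr]
          refine this.symm.dvd.trans ?_
          rw [← Subgroup.orderOf_mk _ (hmemK a (le_sup_left (a := (S : Subgroup ↥G)) (hA.le haA)))]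
          exact orderOf_dvd_natCard _
        have hqd : q ∣ Nat.card (K.map π) := by
          have : orderOf (π u) = q := orderOf_eq_prime (by rw [← map_pow, huq, map_one]) hπu
          refine this.symm.dvd.trans ?_
          rw [← Subgroup.orderOf_mk _ (hmemK u (Subgroup.mem_sup_right (Subgroup.mem_zpowers u)))]
          exact orderOf_dvd_natCard _
        exact Nat.le_of_dvd Nat.card_pos
          (((Nat.coprime_primes Nat.prime_two hq).2 (Ne.symm hq2)).mul_dvd_of_dvd_of_dvd h2 hqd)
      rw [eq_top_iff]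
      intro w _
      obtain ⟨k, hk, hkw⟩ : π w ∈ K.map π := hKc ▸ Subgroup.mem_top _
      have : k⁻¹ * w ∈ Q := by rw [← hπk, map_mul, map_inv, hkw, inv_mul_cancel]
      simpa using K.mul_mem hk (hQK this)
    refine ⟨fun z hz g => ?_⟩
    have hc : g ∈ Subgroup.centralizer ({z} : Set ↥G) := by
      refine (sup_le ?_ (Subgroup.zpowers_le.2 ?_) : (S : Subgroup ↥G) ⊔ Subgroup.zpowers u ≤ _)
        (htop ▸ Subgroup.mem_top g)
      · exact fun s hs => Subgroup.mem_centralizer_singleton_iff.2
          (Subgroup.mem_centralizer_iff.1 (hZle hz).2 s hs)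
      · exact Subgroup.mem_centralizer_singleton_iff.2
          (Subgroup.mem_centralizer_iff.1 huV z (Subgroup.subset_normalClosure hz)).symm
    rw [Subgroup.mem_centralizer_singleton_iff.1 hc, mul_inv_cancel_right]
    exact hz
  subst hq3
  have hSidx : (S : Subgroup ↥G).index = 3 := by
    have h1 : (S : Subgroup ↥G).index ∣ 2 * 3 := by
      rw [← hcard]; exact Subgroup.index_dvd_of_le hQS
    have h2 : ¬ 2 ∣ (S : Subgroup ↥G).index := S.not_dvd_index
    rcases (Nat.dvd_prime Nat.prime_three).1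
      (((Nat.prime_two.coprime_iff_not_dvd).2 h2).symm.dvd_of_dvd_mul_left h1) with h | h
    · exact absurd (IsPGroup.of_equiv (show IsPGroup 2 ↥(⊤ : Subgroup ↥G) by
        rw [← Subgroup.index_eq_one.1 h]; exact S.2) Subgroup.topEquiv) hnot2
    · exact h
  have hD' : CfsgLib.Recognition.SubdegThree.Data G S' n₀ := by
    refine ⟨hG, ?_, Subgroup.map_subtype_le _, ?_, hn₀, hn₀G, S.2.map _⟩
    · haveI := Subgroup.normalCore_normal G
      rcases IsSimpleGroup.eq_bot_or_eq_top_of_normal _ (Subgroup.normalCore_normal G) with h | h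
      · exact h
      · exact absurd (top_le_iff.1 (h ▸ Subgroup.normalCore_le G)) hG.1
    · show (S'.subgroupOf G).index = 3
      rw [hS', Subgroup.subgroupOf, Subgroup.comap_map_eq_self_of_injective G.subtype_injective]
      exact hSidx
  have hcG : Nat.card ↥G = 6 * Nat.card Q := by
    rw [Subgroup.card_eq_card_quotient_mul_card_subgroup Q, hcard]
  rcases hD'.five_cases with h | h | h | h | h
  · exfalso
    obtain ⟨f⟩ := h
    have := Nat.card_congr f.toEquiv
    rw [hcG, Nat.card_congr Multiplicative.toAdd, Nat.card_zmod] at this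
    omega
  · exfalso
    obtain ⟨f⟩ := h
    have h6 := Nat.card_congr f.toEquiv
    rw [hcG, Nat.card_perm, Nat.card_fin] at h6
    rw [show Nat.factorial 3 = 6 from rfl] at h6
    exact hQne (Subgroup.card_eq_one.1 (by omega))
  · exfalso
    obtain ⟨f⟩ := h
    have h12 := Nat.card_congr f.toEquiv
    rw [hcG, DihedralGroup.nat_card] at h12
    have h2 : Nat.card Q = 2 := by omega
    have hcen : Subgroup.centralizer (Q : Set ↥G) = ⊤ := by
      rw [eq_top_iff]
      intro g _
      refine Subgroup.mem_centralizer_iff.2 fun z hz => ?_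
      by_cases hz1 : z = 1
      · rw [hz1, one_mul, mul_one]
      obtain ⟨u, -, huniq⟩ := (Nat.card_eq_two_iff' (1 : Q)).1 h2
      have hu : (⟨g * z * g⁻¹, (inferInstance : Q.Normal).conj_mem z hz g⟩ : Q) = ⟨z, hz⟩ :=
        (huniq _ (fun h => hz1 (conj_eq_one_iff.1 (congrArg Subtype.val h)))).trans
          (huniq _ (fun h => hz1 (congrArg Subtype.val h))).symm
      have hu' : g * z * g⁻¹ = z := congrArg Subtype.val hu
      exact (mul_inv_eq_iff_eq_mul.1 hu').symm
    have hQtop : Q = ⊤ := top_le_iff.1 (hcen ▸ hchar)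
    rw [hQtop, Subgroup.card_top, hcG] at h2
    omega
  · exact Or.inl h
  · exact Or.inr h

end Cfsg.Agent.S2772
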