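import Cfsg.Statements.S2773
import Cfsg.Agent.Lib.Techniques.TwoFunctor.Control

set_option autoImplicit false
set_option linter.style.haveILetI false
universe u
open Cfsg

namespace Cfsg.Agent.S2773

open CfsgLib.TwoFunctor CfsgLib.Techniques CfsgLib.Techniques.Fusion Subgroup
open scoped commutatorElement

theorem product_of_target {G : Type u} [Group G] [Finite G] (P : Sylow 3 G) (g : G) :
    g ∈ (P : Subgroup G) ⊓ _root_.commutator G ↔
      ∃ a ∈ (P : Subgroup G) ⊓ ⁅centralizer (((P : Subgroup G) ⊓ centralizer ((P : Subgroup G) : Set G) : Subgroup G) : Set G),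
          centralizer (((P : Subgroup G) ⊓ centralizer ((P : Subgroup G) : Set G) : Subgroup G) : Set G)⁆,
        ∃ b ∈ (P : Subgroup G) ⊓ ⁅normalizer ((inducedFunctor (G := G) (kFun.{u} 3) (P : Subgroup G) : Subgroup G) : Set G),
          normalizer ((inducedFunctor (G := G) (kFun.{u} 3) (P : Subgroup G) : Subgroup G) : Set G)⁆, g = a * b := by
  haveI : Fact (Nat.Prime 3) := ⟨Nat.prime_three⟩
  set Z := (P : Subgroup G) ⊓ centralizer ((P : Subgroup G) : Set G)
  set C := centralizer (Z : Set G)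
  set NK := normalizer ((inducedFunctor (G := G) (kFun.{u} 3) (P : Subgroup G) : Subgroup G) : Set G)
  set A := (P : Subgroup G) ⊓ ⁅C, C⁆
  set B := (P : Subgroup G) ⊓ ⁅NK, NK⁆
  have hle : ∀ H : Subgroup G, ⁅H, H⁆ ≤ _root_.commutator G := fun H => by
    rw [_root_.commutator_def]; exact commutator_mono le_top le_top
  refine ⟨fun hg => ?_, ?_⟩
  swap
  · rintro ⟨a, ha, b, hb, rfl⟩
    exact mul_mem (inf_le_inf_left _ (hle C) ha) (inf_le_inf_left _ (hle NK) hb)
  have hPC : (P : Subgroup G) ≤ C := fun x hx =>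
    mem_centralizer_iff.2 fun z hz => (mem_centralizer_iff.1 hz.2 x hx).symm
  have htc := transCtrl_twoF (p := 3) (by decide) (Nat.card G) G rfl P hg
  have hsup : transferTarget (twoF.{u} 3) (P : Subgroup G) ≤ A ⊔ B := by
    refine iSup₂_le fun M hM => ?_
    obtain ⟨W, hW, rfl⟩ := hM
    rcases hW with rfl | rfl
    swap
    · exact le_sup_right
    simp only [inducedFunctor_center]
    set N := normalizer (Z : Set G)
    have hCN : C ≤ N := centralizer_le_normalizer _
    refine inf_commutator_le_of_focalIn (hPC.trans hCN) P.2 (not_dvd_relIndex_sylow P (hPC.trans hCN)) ?_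
    intro D x hx hD hxD a ha
    have hP' : (P : Subgroup G).map (MulAut.conj x).toMonoidHom ≤ C := by
      rintro _ ⟨y, hy, rfl⟩
      refine mem_centralizer_iff.2 fun z hz => ?_
      have hz' : x⁻¹ * z * x ∈ Z := by
        have := (mem_normalizer_iff.1 (inv_mem hx) z).1 hz
        simpa using this
      have e := mem_centralizer_iff.1 (hPC hy) _ hz'
      show z * (x * y * x⁻¹) = x * y * x⁻¹ * z
      calc z * (x * y * x⁻¹) = x * ((x⁻¹ * z * x) * y) * x⁻¹ := by group
        _ = x * (y * (x⁻¹ * z * x)) * x⁻¹ := by rw [e]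
        _ = _ := by group
    obtain ⟨c, hc, hcx⟩ := exists_conj_eq_sylow_of (p := 3) hP' (P.2.map _)
      (not_dvd_relIndex_sylow (x • P) hP')
      hPC P.2 (not_dvd_relIndex_sylow P hPC)
    set n := c * x with hn
    have hnP : n ∈ normalizer ((P : Subgroup G) : Set G) := by
      rw [mem_normalizer_iff_map_conj_eq, hn]
      conv_rhs => rw [← hcx, Subgroup.map_map]
      congr 1
      exact MonoidHom.ext fun y => by simp [mul_assoc]
    have hnK : n ∈ NK :=
      normalizer_le_normalizer_inducedFunctor (p := 3) (isCharPFunctor_kFun) P.2 hnP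
    have haP : a ∈ (P : Subgroup G) := hD ha
    have hy : n * a * n⁻¹ ∈ (P : Subgroup G) := (mem_normalizer_iff.1 hnP a).1 haP
    have hxa : x * a * x⁻¹ ∈ (P : Subgroup G) := hxD (conj_mem_map_conj x ha)
    have e : x * a * x⁻¹ * a⁻¹ =
        (x * a * x⁻¹ * (n * a * n⁻¹)⁻¹) * (n * a * n⁻¹ * a⁻¹) := by group
    rw [e]
    refine mul_mem_sup (mem_inf.2 ⟨mul_mem hxa (inv_mem hy), ?_⟩) (mem_inf.2 ⟨mul_mem hy (inv_mem haP), ?_⟩)
    · have : x * a * x⁻¹ * (n * a * n⁻¹)⁻¹ = ⁅c⁻¹, n * a * n⁻¹⁆ := by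
        rw [commutatorElement_def, hn]; group
      rw [this]
      exact commutator_mem_commutator (inv_mem hc) (hPC hy)
    · rw [← commutatorElement_def]
      exact commutator_mem_commutator hnK (normalizer_le_normalizer_inducedFunctor (p := 3)
        (isCharPFunctor_kFun) P.2 (le_normalizer haP))
  have hmem := hsup htc
  rw [sup_comm] at hmem
  have hBA : B ≤ normalizer (A : Set G) := fun b hb => mem_normalizer_inf (le_normalizer hb.1) (by
    have := (le_normalizer (hPC hb.1) : b ∈ normalizer (C : Set G))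
    rw [mem_normalizer_iff_map_conj_eq] at this ⊢
    rw [map_commutator, this])
  obtain ⟨b, hb, a, ha, rfl⟩ := CfsgLib.Coprime.exists_mul_of_mem_sup hBA hmem
  exact ⟨b * a * b⁻¹, (mem_normalizer_iff.1 (hBA hb) a).1 ha, b, hb, by group⟩

/-- For every nontrivial finite 3-group S there is a nontrivial characteristic subgroup K of S such that, in every finite group G containing S as a Sylow 3-subgroup, S ∩ G' is the product of S ∩ (C_G(Z(S)))' and S ∩ (N_G(K))' (derived subgroups; product taken elementwise). -/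
theorem result {S : Type u} [Group S] [Finite S] [Nontrivial S] (hS : IsPGroup 3 S) : ∃ K : Subgroup S, K ≠ ⊥ ∧ K.Characteristic ∧ ∀ (G : Type u) [Group G] [Finite G] (τ : S →* G), Function.Injective τ → (∃ P : Sylow 3 G, (P : Subgroup G) = τ.range) → ∀ g : G, g ∈ τ.range ⊓ commutator G ↔ ∃ a ∈ τ.range ⊓ ⁅Subgroup.centralizer ((τ.range ⊓ Subgroup.centralizer (τ.range : Set G) : Subgroup G) : Set G), Subgroup.centralizer ((τ.range ⊓ Subgroup.centralizer (τ.range : Set G) : Subgroup G) : Set G)⁆, ∃ b ∈ τ.range ⊓ ⁅Subgroup.normalizer ((K.map τ : Subgroup G) : Set G), Subgroup.normalizer ((K.map τ : Subgroup G) : Set G)⁆, g = a * b := by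
  haveI : Fact (Nat.Prime 3) := ⟨Nat.prime_three⟩
  refine ⟨kFun.{u} 3 S, (isCharPFunctor_kFun (p := 3)).1 S hS inferInstance, kFun_characteristic (p := 3), ?_⟩
  intro G _ _ τ hτ hP g
  obtain ⟨P, hP⟩ := hP
  have e : inducedFunctor (G := G) (kFun.{u} 3) (P : Subgroup G) = (kFun.{u} 3 S).map τ := by
    rw [hP, MonoidHom.range_eq_map,
      inducedFunctor_map_injective (p := 3) isCharPFunctor_kFun τ hτ (hS.to_subgroup ⊤)]
    congr 1
    exact (isCharPFunctor_kFun (p := 3)).2 _ S (hS.to_subgroup ⊤) Subgroup.topEquiv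
  rw [← hP, ← e]
  exact product_of_target P g

end Cfsg.Agent.S2773
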