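import Cfsg.Statements.S2774
import Cfsg.Agent.Lib.Techniques.CharTransfer.Main

set_option autoImplicit false
open Cfsg

namespace Cfsg.Agent.S2774

/-- Let p be an odd prime and S a nontrivial Sylow p-subgroup of a finite group G. Then S ∩ G' is generated by the subgroups S ∩ (N_G(K))' as K ranges over the nontrivial characteristic subgroups of S (derived subgroups of the normalizers). -/
theorem result {G : Type*} [Group G] [Finite G] {p : ℕ} [Fact p.Prime] (hp : p ≠ 2) (S : Sylow p G) (hS : (S : Subgroup G) ≠ ⊥) : (S : Subgroup G) ⊓ commutator G = ⨆ K : {K : Subgroup ↥(S : Subgroup G) // K ≠ ⊥ ∧ K.Characteristic}, (S : Subgroup G) ⊓ ⁅Subgroup.normalizer ((((K : Subgroup ↥(S : Subgroup G))).map (S : Subgroup G).subtype : Subgroup G) : Set G), Subgroup.normalizer ((((K : Subgroup ↥(S : Subgroup G))).map (S : Subgroup G).subtype : Subgroup G) : Set G)⁆ := by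
  refine le_antisymm ?_ (iSup_le fun K => inf_le_inf_left _ ?_)
  · refine le_trans
      (CfsgLib.CharTransfer.transCtrl_allFunctors ((Fact.out : p.Prime).odd_of_ne_two hp) _ G rfl S) ?_
    refine iSup₂_le fun M hM => ?_
    obtain ⟨W, hW, rfl⟩ := hM
    have hWp : Cfsg.IsCharPFunctor p W := hW
    have hne : W ↥(S : Subgroup G) ≠ ⊥ :=
      hWp.1 _ S.2 ((Subgroup.nontrivial_iff_ne_bot _).2 hS)
    have hc : (W ↥(S : Subgroup G)).Characteristic :=
      Subgroup.characteristic_iff_map_eq.2 fun φ => hWp.2 _ _ S.2 φ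
    exact le_iSup_of_le ⟨W ↥(S : Subgroup G), hne, hc⟩ le_rfl
  · rw [_root_.commutator_def]
    exact Subgroup.commutator_mono le_top le_top

end Cfsg.Agent.S2774
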