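import Cfsg.Statements.S2779
import Cfsg.Agent.Lib.LocalEven.NaturalSL2

set_option autoImplicit false
open Cfsg

namespace Cfsg.Agent.S2779

open CfsgLib.LocalEven.NaturalSL2 CfsgLib.LocalEven.SLTwoProduct

/-- Let L act on the elementary abelian p-group V (inside a finite group, by conjugation, faithfully) as SL₂(F) on its natural module, F a field with p^n elements, and let S be a Sylow p-subgroup of L. Then [V, S, S] = 1; |V| = p^(2n) and |C_V(S)| = p^n; and for every nonidentity s ∈ S and every v ∈ V outside C_V(S): C_V(s) = C_V(S) = [V, S] = [V, s] = the subgroup generated by the commutators [v, t], t ∈ S. -/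
theorem result {G : Type*} [Group G] [Finite G] {p : ℕ} [Fact p.Prime] {F : Type*} [Field F] [Fintype F] (n : ℕ) (hF : Fintype.card F = p ^ n) (V L : Subgroup G) (hnat : Cfsg.IsNaturalSL2Module F V L) (hf : L ⊓ Subgroup.centralizer (V : Set G) = ⊥) (S : Sylow p ↥L) (T : Subgroup G) (hT : T = ((S : Subgroup ↥L).map L.subtype)) : ⁅⁅V, T⁆, T⁆ = ⊥ ∧ Nat.card V = p ^ (2 * n) ∧ Nat.card ↥(V ⊓ Subgroup.centralizer ((T : Subgroup G) : Set G)) = p ^ n ∧ ∀ s ∈ T, s ≠ 1 → (V ⊓ Subgroup.centralizer ({s} : Set G)) = (V ⊓ Subgroup.centralizer ((T : Subgroup G) : Set G)) ∧ ⁅V, T⁆ = (V ⊓ Subgroup.centralizer ((T : Subgroup G) : Set G)) ∧ ⁅V, Subgroup.zpowers s⁆ = (V ⊓ Subgroup.centralizer ((T : Subgroup G) : Set G)) ∧ ∀ v ∈ V, v ∉ Subgroup.centralizer (T : Set G) → Subgroup.closure {x : G | ∃ t ∈ T, x = v * t * v⁻¹ * t⁻¹} = (V ⊓ Subgroup.centralizer ((T : Subgroup G) : Set G)) := by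
  obtain ⟨c⟩ := exists_coords hF hnat hf S hT
  refine ⟨?_, by rw [c.card_V, hF, ← pow_mul, mul_comm], by rw [c.card_fixed, hF], fun s hs hs1 => ?_⟩
  · rw [Subgroup.commutator_eq_bot_iff_le_centralizer]
    exact c.commutator_le.trans inf_le_right
  have hVs : V ⊓ Subgroup.centralizer (T : Set G) ≤ ⁅V, Subgroup.zpowers s⁆ := by
    refine c.le_of_commutators fun x => ?_
    obtain ⟨t, ht, ht0⟩ := c.exists_uni hs
    obtain ⟨v, hv⟩ := c.φ_bij.2 ![0, -x / t]
    obtain ⟨w, hw, hw'⟩ := c.comm_mem (l := ⟨s, c.T_le hs⟩) (v := v)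
    refine ⟨w, ?_, ?_⟩
    · rw [hw]
      exact Subgroup.commutator_mem_commutator v.2 (Subgroup.mem_zpowers s)
    · rw [hw', ht, hv, uni_mulVec]
      ext i
      fin_cases i <;> simp
      field_simp [ht0 hs1]
  have hzT : Subgroup.zpowers s ≤ T := Subgroup.zpowers_le.2 hs
  refine ⟨?_, le_antisymm c.commutator_le (hVs.trans (Subgroup.commutator_mono le_rfl hzT)),
    le_antisymm ((Subgroup.commutator_mono le_rfl hzT).trans c.commutator_le) hVs, fun v hv hv1 => ?_⟩
  · ext v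
    simp only [Subgroup.mem_inf, and_congr_right_iff]
    intro hv
    rw [c.mem_fixedT_iff (v := ⟨v, hv⟩), Subgroup.mem_centralizer_singleton_iff,
      ← c.mem_fixed_iff hs hs1]
    exact ⟨fun h => h.symm, fun h => h.symm⟩
  · refine le_antisymm ((Subgroup.closure_le _).2 ?_) ?_
    · rintro x ⟨t, ht, rfl⟩
      exact c.commutator_le (Subgroup.commutator_mem_commutator hv ht)
    · have h1 : c.φ ⟨v, hv⟩ 1 ≠ 0 := fun h => hv1 ((c.mem_fixedT_iff (v := ⟨v, hv⟩)).2 h)
      refine c.le_of_commutators fun x => ?_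
      obtain ⟨l, hl, hl'⟩ := c.exists_mem_T (-x / c.φ ⟨v, hv⟩ 1)
      obtain ⟨w, hw, hw'⟩ := c.comm_mem (l := l) (v := ⟨v, hv⟩)
      refine ⟨w, Subgroup.subset_closure ⟨l, hl, hw⟩, ?_⟩
      rw [hw', hl', uni_mulVec]
      ext i
      fin_cases i <;> simp
      field_simp

end Cfsg.Agent.S2779
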