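import Cfsg.Statements.S2780
import Cfsg.Agent.Lib.LocalEven.NaturalSL2

set_option autoImplicit false
open Cfsg

namespace Cfsg.Agent.S2780

open CfsgLib.LocalEven CfsgLib.LocalEven.NaturalSL2 CfsgLib.LocalEven.SLTwoProduct

/-- Let L act on the elementary abelian p-group V (inside a finite group, faithfully) as SL₂(F) on its natural module, F a field with p^n elements, S a Sylow p-subgroup of L. Then: for every g ∈ L not normalizing S, V is the internal direct product of C_V(S) and C_V(gSg⁻¹); every nonidentity element of L of order prime to p acts on V without nonidentity fixed points; and C_V(S) and V/C_V(S) are irreducible for N_L(S): the only N_L(S)-invariant subgroups of C_V(S) are 1 and C_V(S), and the only N_L(S)-invariant subgroups between C_V(S) and V are those two. -/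
theorem result {G : Type*} [Group G] [Finite G] {p : ℕ} [Fact p.Prime] {F : Type*} [Field F] [Fintype F] (n : ℕ) (hF : Fintype.card F = p ^ n) (V L : Subgroup G) (hnat : Cfsg.IsNaturalSL2Module F V L) (hf : L ⊓ Subgroup.centralizer (V : Set G) = ⊥) (S : Sylow p ↥L) (T : Subgroup G) (hT : T = ((S : Subgroup ↥L).map L.subtype)) : (∀ g ∈ L, g ∉ Subgroup.normalizer (T : Set G) → Cfsg.IsInternalDirectProduct (V ⊓ Subgroup.centralizer ((T : Subgroup G) : Set G)) (V ⊓ Subgroup.centralizer ((T.map (MulAut.conj g).toMonoidHom : Subgroup G) : Set G)) V) ∧ (∀ x ∈ L, x ≠ 1 → (orderOf x).Coprime p → (V ⊓ Subgroup.centralizer ({x} : Set G)) = ⊥) ∧ (∀ U : Subgroup G, U ≤ (V ⊓ Subgroup.centralizer ((T : Subgroup G) : Set G)) → L ⊓ Subgroup.normalizer (T : Set G) ≤ Subgroup.normalizer (U : Set G) → U = ⊥ ∨ U = (V ⊓ Subgroup.centralizer ((T : Subgroup G) : Set G))) ∧ (∀ U : Subgroup G, (V ⊓ Subgroup.centralizer ((T :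 Subgroup G) : Set G)) ≤ U → U ≤ V → L ⊓ Subgroup.normalizer (T : Set G) ≤ Subgroup.normalizer (U : Set G) → U = (V ⊓ Subgroup.centralizer ((T : Subgroup G) : Set G)) ∨ U = V) := by
  obtain ⟨c⟩ := exists_coords hF hnat hf S hT
  have := PSLTwoModule.charP_of_card (p := p) hF
  have hLV : L ≤ Subgroup.normalizer (V : Set G) := hnat.1
  have hnormT : ∀ l : L, (c.ρ l).1 1 0 = 0 → (l : G) ∈ Subgroup.normalizer (T : Set G) := by
    intro l hl
    refine Subgroup.mem_normalizer_iff.2 fun x => ?_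
    have hn := Subgroup.mem_normalizer_iff.1 (mem_normalizer_slUni hl)
    constructor
    · intro hx
      have h := (hn (c.ρ ⟨x, c.T_le hx⟩)).1 ((c.mem_T ⟨x, c.T_le hx⟩).1 hx)
      rw [← map_inv, ← map_mul, ← map_mul] at h
      exact (c.mem_T _).2 h
    · intro hx
      have hxL : x ∈ L := by
        have := L.mul_mem (L.mul_mem (L.inv_mem l.2) (c.T_le hx)) l.2
        simpa [mul_assoc] using this
      refine (c.mem_T ⟨x, hxL⟩).2 ((hn _).2 ?_)
      rw [← map_inv, ← map_mul, ← map_mul]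
      exact (c.mem_T _).1 hx
  have hdia : ∀ (U : Subgroup G), L ⊓ Subgroup.normalizer (T : Set G) ≤ Subgroup.normalizer (U : Set G) →
      ∀ (a : Fˣ) (v : V), (v : G) ∈ U → ∃ w : V, (w : G) ∈ U ∧ c.φ w = (dia a).1.mulVec (c.φ v) := by
    intro U hU a v hv
    obtain ⟨l, hl⟩ := c.ρ_bij.2 (dia a)
    obtain ⟨w, hw, hw'⟩ := c.act l v
    have hlU : (l : G) ∈ Subgroup.normalizer (U : Set G) :=
      hU ⟨l.2, hnormT l (by rw [hl]; simp [dia])⟩
    exact ⟨w, by rw [hw]; exact (Subgroup.mem_normalizer_iff.1 hlU _).1 hv, by rw [hw', hl]⟩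
  refine ⟨?_, ?_, ?_, ?_⟩
  · intro g hg hgn
    have h10 : (c.ρ ⟨g, hg⟩).1 1 0 ≠ 0 := fun h => hgn (hnormT ⟨g, hg⟩ h)
    set A := c.ρ ⟨g, hg⟩ with hA
    have hB : V ⊓ Subgroup.centralizer ((T.map (MulAut.conj g).toMonoidHom : Subgroup G) : Set G) =
        (V ⊓ Subgroup.centralizer (T : Set G)).map (MulAut.conj g).toMonoidHom := by
      rw [Subgroup.map_inf _ _ _ (MulAut.conj g).injective, map_conj_eq_self (hLV hg),
        map_centralizer_conj]
    refine ⟨inf_le_left, inf_le_left, fun a ha b hb => ?_, ?_, le_antisymm (sup_le inf_le_left inf_le_left) ?_⟩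
    · have hab : IsMulCommutative V := ⟨⟨fun u v => c.φ_bij.1 (by rw [c.φ_mul, c.φ_mul, add_comm])⟩⟩
      exact congrArg Subtype.val (mul_comm' (⟨a, ha.1⟩ : V) ⟨b, hb.1⟩)
    · rw [eq_bot_iff]
      rintro x ⟨hx, hx'⟩
      rw [hB] at hx'
      obtain ⟨y, hy, hyx⟩ := hx'
      obtain ⟨w, hw, hw'⟩ := c.act ⟨g, hg⟩ ⟨y, hy.1⟩
      have hy0 : c.φ ⟨y, hy.1⟩ 1 = 0 := (c.mem_fixedT_iff (v := ⟨y, hy.1⟩)).1 hy.2
      obtain rfl : w = ⟨x, hx.1⟩ := Subtype.ext (by rw [hw]; exact hyx)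
      have hx0 : c.φ ⟨x, hx.1⟩ 1 = 0 := (c.mem_fixedT_iff (v := ⟨x, hx.1⟩)).1 hx.2
      rw [hw'] at hx0
      simp [Matrix.mulVec, dotProduct, Fin.sum_univ_two, hy0, ← hA, h10] at hx0
      have hy1 : (⟨y, hy.1⟩ : V) = 1 := c.φ_bij.1 (by
        rw [c.φ_one]; ext i; fin_cases i <;> simp [hy0, hx0])
      rw [Subgroup.mem_bot, ← hyx, show y = 1 from congrArg Subtype.val hy1, map_one]
    · intro x hx
      set w0 := c.φ ⟨x, hx⟩ with hw0
      obtain ⟨y, hy⟩ := c.φ_bij.2 ![w0 1 / A.1 1 0, 0]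
      obtain ⟨z, hz, hz'⟩ := c.act ⟨g, hg⟩ y
      obtain ⟨u, hu⟩ := c.φ_bij.2 ![w0 0 - A.1 0 0 * (w0 1 / A.1 1 0), 0]
      have hxuz : (⟨x, hx⟩ : V) = u * z := c.φ_bij.1 (by
        rw [c.φ_mul, hu, hz', hy, ← hw0, ← hA]
        ext i
        fin_cases i <;> simp [Matrix.mulVec, dotProduct, Fin.sum_univ_two]
        field_simp)
      rw [show x = (u : G) * (z : G) from congrArg Subtype.val hxuz]
      refine Subgroup.mul_mem_sup ⟨u.2, (c.mem_fixedT_iff).2 (by simp [hu])⟩ ?_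
      rw [hB, hz]
      exact ⟨y, ⟨y.2, (c.mem_fixedT_iff).2 (by simp [hy])⟩, rfl⟩
  · intro x hx hx1 hco
    rw [eq_bot_iff]
    rintro v ⟨hv, hv'⟩
    rw [Subgroup.mem_bot]
    by_contra hv1
    have hfix : (c.ρ ⟨x, hx⟩).1.mulVec (c.φ ⟨v, hv⟩) = c.φ ⟨v, hv⟩ :=
      (c.fix_iff (l := ⟨x, hx⟩) (v := ⟨v, hv⟩)).1 (Subgroup.mem_centralizer_singleton_iff.1 hv').symm
    have hne : c.φ ⟨v, hv⟩ ≠ 0 := fun h => hv1 (congrArg Subtype.val (c.φ_bij.1 (h.trans c.φ_one.symm)))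
    have hord : (orderOf (c.ρ ⟨x, hx⟩)).Coprime p := by
      rw [orderOf_injective c.ρ c.ρ_bij.1, Subgroup.orderOf_mk]; exact hco
    have h1 := eq_one_of_fixed hord hne hfix
    exact hx1 (congrArg Subtype.val (c.ρ_bij.1 (h1.trans (map_one c.ρ).symm)))
  · intro U hUle hU
    refine (eq_or_ne U ⊥).imp id fun hne => le_antisymm hUle (c.le_of_commutators fun x => ?_)
    obtain ⟨⟨u, hu⟩, hu'⟩ := Subgroup.ne_bot_iff_exists_ne_one.1 hne
    have hu1 : u ≠ 1 := fun h => hu' (Subtype.ext h)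
    have huV : u ∈ V := (hUle hu).1
    have hu10 : c.φ ⟨u, huV⟩ 1 = 0 := (c.mem_fixedT_iff (v := ⟨u, huV⟩)).1 (hUle hu).2
    have hu00 : c.φ ⟨u, huV⟩ 0 ≠ 0 := fun h => hu1 (congrArg Subtype.val
      (c.φ_bij.1 (a₁ := ⟨u, huV⟩) (a₂ := 1) (by rw [c.φ_one]; ext i; fin_cases i <;> simp [h, hu10])))
    rcases eq_or_ne x 0 with rfl | hx0
    · exact ⟨1, U.one_mem, by rw [c.φ_one]; ext i; fin_cases i <;> simp⟩
    obtain ⟨w, hw, hw'⟩ := hdia U hU (Units.mk0 _ (div_ne_zero hx0 hu00)) ⟨u, huV⟩ hu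
    exact ⟨w, hw, by rw [hw', dia_mulVec]; ext i; fin_cases i <;> simp [hu10, hu00]⟩
  · intro U hleU hUV hU
    refine (eq_or_ne U _).imp id fun hne => le_antisymm hUV ?_
    obtain ⟨u, hu, hu'⟩ : ∃ u ∈ U, u ∉ V ⊓ Subgroup.centralizer (T : Set G) :=
      Set.not_subset.1 fun h => hne (le_antisymm h hleU)
    have hu1 : c.φ ⟨u, hUV hu⟩ 1 ≠ 0 := fun h =>
      hu' ⟨hUV hu, (c.mem_fixedT_iff (v := ⟨u, hUV hu⟩)).2 h⟩
    intro v hv
    have hfix : ∀ y : V, c.φ y 1 = 0 → (y : G) ∈ U := fun y hy => hleU ⟨y.2, c.mem_fixedT_iff.2 hy⟩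
    rcases eq_or_ne (c.φ ⟨v, hv⟩ 1) 0 with hv1 | hv1
    · exact hfix _ hv1
    obtain ⟨w, hw, hw'⟩ := hdia U hU (Units.mk0 _ (div_ne_zero hu1 hv1)) ⟨u, hUV hu⟩ hu
    have h : ((⟨v, hv⟩ * w⁻¹ : V) : G) ∈ U := hfix _ (by
      rw [c.φ_mul, c.φ_inv, hw', dia_mulVec]; simp [hu1])
    have := U.mul_mem h hw
    simpa using this

end Cfsg.Agent.S2780
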