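import Cfsg.Statements.S2781
import Cfsg.Agent.Lib.LocalEven.SylowIn
import Cfsg.Agent.Lib.LocalEven.Trace

set_option autoImplicit false
open Cfsg

namespace Cfsg.Agent.S2781

open CfsgLib.LocalEven

/-- Let H act faithfully by conjugation on the elementary abelian p-subgroup V of a finite group, let O^p(H) be the subgroup of H generated by its elements of order prime to p, and T a Sylow p-subgroup of O^p(H). If V is generated by the H-conjugates of C_V(T) (V is the smallest H-invariant subgroup containing C_V(T)), then V = [V, O^p(H)]·C_V(O^p(H)). -/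
theorem result {G : Type*} [Group G] [Finite G] {p : ℕ} [Fact p.Prime] (V H : Subgroup G) (hV : Cfsg.IsElementaryAbelian p V) (hHV : H ≤ Subgroup.normalizer (V : Set G)) (hf : H ⊓ Subgroup.centralizer (V : Set G) = ⊥) (R : Subgroup G) (hR : R = (Cfsg.pResidual p ↥H).map H.subtype) (S : Sylow p ↥R) (T : Subgroup G) (hT : T = ((S : Subgroup ↥R).map R.subtype)) (hgen : ∀ W : Subgroup G, H ≤ Subgroup.normalizer (W : Set G) → (V ⊓ Subgroup.centralizer ((T : Subgroup G) : Set G)) ≤ W → V ≤ W) : ⁅V, R⁆ ⊔ (V ⊓ Subgroup.centralizer ((R : Subgroup G) : Set G)) = V := by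
  have hRH : R ≤ H := hR.trans_le (Subgroup.map_subtype_le _)
  have hRV : R ≤ Subgroup.normalizer (V : Set G) := hRH.trans hHV
  have hle : ⁅V, R⁆ ≤ V := by
    rw [Subgroup.commutator_le]
    intro v hv r hr
    rw [commutatorElement_def, mul_assoc, mul_assoc, ← mul_assoc r]
    exact V.mul_mem hv ((Subgroup.mem_normalizer_iff.1 (hRV hr) v⁻¹).1 (V.inv_mem hv))
  have hTR : T ≤ R := hT.trans_le (Subgroup.map_subtype_le _)
  have hidx : (T.relIndex R).Coprime p := by
    have h : T.subgroupOf R = (S : Subgroup ↥R) := by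
      rw [hT, Subgroup.subgroupOf, Subgroup.comap_map_eq_self_of_injective R.subtype_injective]
    rw [Subgroup.relIndex, h, Nat.coprime_comm]
    exact (Fact.out : p.Prime).coprime_iff_not_dvd.2 S.not_dvd_index
  refine le_antisymm (sup_le hle inf_le_left) (hgen _ ?_ ?_)
  · intro h hh
    refine mem_normalizer_of_map_conj_eq ?_
    have hR' : h ∈ Subgroup.normalizer (R : Set G) := by
      refine Subgroup.mem_normalizer_iff.2 fun x => ?_
      have key : ∀ g ∈ H, ∀ y ∈ R, g * y * g⁻¹ ∈ R := by
        intro g hg y hy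
        rw [hR] at hy ⊢
        obtain ⟨z, hz, rfl⟩ := hy
        have hsub : (Cfsg.pResidual p ↥H) ≤ (Cfsg.pResidual p ↥H).comap (MulAut.conj (⟨g, hg⟩ : H)).toMonoidHom := by
          rw [Cfsg.pResidual, Subgroup.closure_le]
          intro w hw
          refine Subgroup.subset_closure ?_
          show Nat.Coprime (orderOf ((MulAut.conj (⟨g, hg⟩ : H)) w)) p
          rw [MulEquiv.orderOf_eq]; exact hw
        exact ⟨_, hsub hz, rfl⟩
      refine ⟨fun hx => key h hh x hx, fun hx => ?_⟩
      have := key h⁻¹ (H.inv_mem hh) _ hx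
      simpa [mul_assoc] using this
    rw [Subgroup.map_sup, Subgroup.map_commutator, Subgroup.map_inf _ _ _ (MulAut.conj h).injective,
      map_centralizer_conj, map_conj_eq_self (hHV hh), map_conj_eq_self hR']
  · rintro v ⟨hv, hv'⟩
    haveI : IsMulCommutative V := hV.1
    obtain ⟨c, hc, w, hw, rfl⟩ :=
      CfsgLib.Trace.exists_fixed_mul_commutator hRV hTR hV.2 hidx hv hv'
    rw [sup_comm]
    exact Subgroup.mul_mem_sup hc hw.1.1

end Cfsg.Agent.S2781
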