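import Cfsg.Statements.S2787
import Cfsg.Agent.Lib.LocalEven.NoQuadratic
import Cfsg.Agent.Lib.LocalEven.PSLTwoUnipotentInvolution
import Cfsg.Agent.S1152

set_option autoImplicit false
open Cfsg

namespace Cfsg.Agent.S2787

open scoped MatrixGroups commutatorElement

/-- No subgroup of a group with elementary abelian Sylow 2-subgroups maps onto `SL(2, 3)`. -/
theorem no_sl2_three {X : Type*} [Group X] [Finite X]
    (hS : ∀ S : Sylow 2 X, ∀ x ∈ S, x * x = 1) (M : Subgroup X) (f : M →* SL(2, ZMod 3)) :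
    ¬ Function.Surjective f := by
  intro hf
  haveI : Fact (Nat.Prime 2) := ⟨Nat.prime_two⟩
  let u : SL(2, ZMod 3) := ⟨!![0, 1; -1, 0], by decide⟩
  have hu : orderOf u = 2 ^ (1 + 1) := orderOf_eq_prime_pow (by decide) (by decide)
  obtain ⟨x, hx, i, hi⟩ := CfsgLib.LocalEven.FaithfulModule.exists_lift_prime_pow f hf Nat.prime_two hu
  obtain ⟨S, hxS⟩ := (IsPGroup.of_card (p := 2) (G := Subgroup.zpowers (x : X)) (n := i)
    (by rw [Nat.card_zpowers, Subgroup.orderOf_coe, hi])).exists_le_sylow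
  have h2 : x ^ 2 = 1 := Subtype.ext (by
    rw [Subgroup.coe_pow, pow_two, Subgroup.coe_one]
    exact hS S x (hxS (Subgroup.mem_zpowers _)))
  have h3 := congrArg f h2
  rw [map_pow, map_one, hx] at h3
  have h4 := orderOf_dvd_of_pow_eq_one h3
  rw [hu] at h4
  exact absurd (Nat.le_of_dvd two_pos h4) (by norm_num)

/-- Let p be a prime and let H act by conjugation on the elementary abelian p-subgroup V of a finite group, irreducibly (no H-invariant subgroups of V other than 1 and V) and nontrivially, and suppose H/C_H(V) is isomorphic to PSL₂(F) for a field F with p^n elements, p^n odd, or p = 3 and H/C_H(V) is isomorphic to a Ree group ²G₂(3^(2m+1)), m ≥ 1. Then no subgroup A of H acting nontrivially on V acts quadratically: [V, A, A] = 1 forces [V, A] = 1. -/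
theorem result {G : Type*} [Group G] [Finite G] {p : ℕ} [Fact p.Prime] (V H : Subgroup G) (hV : Cfsg.IsElementaryAbelian p V) (hHV : H ≤ Subgroup.normalizer (V : Set G)) (hirr : ∀ U : Subgroup G, U ≤ V → H ≤ Subgroup.normalizer (U : Set G) → U = ⊥ ∨ U = V) (hnt : ¬ H ≤ Subgroup.centralizer (V : Set G)) [hn : ((Subgroup.centralizer (V : Set G)).subgroupOf H).Normal] (hq : (∃ (F : Type) (_ : Field F) (_ : Fintype F) (n : ℕ), Fintype.card F = p ^ n ∧ Odd (Fintype.card F) ∧ Nonempty (↥H ⧸ (Subgroup.centralizer (V : Set G)).subgroupOf H ≃* Matrix.ProjectiveSpecialLinearGroup (Fin 2) F)) ∨ (p = 3 ∧ Cfsg.Lie.IsoRee (↥H ⧸ (Subgroup.centralizer (V : Set G)).subgroupOf H))) (A : Subgroup G) (hA : A ≤ H) (hquad : ⁅⁅V, A⁆, A⁆ = ⊥) : ⁅V, A⁆ = ⊥ := by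
  by_contra hne
  obtain ⟨a, haA, hac⟩ : ∃ a ∈ A, a ∉ Subgroup.centralizer (V : Set G) := by
    by_contra! h
    exact hne (Subgroup.commutator_eq_bot_iff_le_centralizer.2 (Subgroup.le_centralizer_iff.1 h))
  have haz : Subgroup.zpowers a ≤ A := Subgroup.zpowers_le.2 haA
  have hq' : ⁅⁅V, Subgroup.zpowers a⁆, Subgroup.zpowers a⁆ = ⊥ := le_bot_iff.1
    ((Subgroup.commutator_mono (Subgroup.commutator_mono le_rfl haz) haz).trans hquad.le)
  rcases hq with ⟨F, iF, iFF, n, hn', hodd, ⟨e⟩⟩ | ⟨rfl, hree⟩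
  · have hp2 : p ≠ 2 := by
      rintro rfl
      rw [hn'] at hodd
      rcases Nat.eq_zero_or_pos n with rfl | h0
      · have := Fintype.one_lt_card (α := F)
        omega
      · exact (Nat.not_even_iff_odd.2 hodd) (Nat.even_pow.2 ⟨even_two, h0.ne'⟩)
    haveI : CharP F p := charP_of_card_eq_prime_pow hn'
    obtain ⟨h1, hp, ⟨z, hz, hzc⟩, -⟩ :=
      CfsgLib.LocalEven.NoQuadratic.of_quadratic hp2 V H hV hHV hirr (hA haA) hac hq'
    refine CfsgLib.LocalEven.PSLTwo.not_commute_involution (p := p) hp2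
      (c := e (QuotientGroup.mk ⟨a, hA haA⟩)) (z := e z) ?_ ?_ ?_ ?_
    · rw [← map_pow, hp, map_one]
    · exact fun h => h1 (e.injective (h.trans (map_one e).symm))
    · rw [MulEquiv.orderOf_eq, hz]
    · rw [← map_mul, ← map_mul, hzc]
  · obtain ⟨-, -, -, M, f, hf⟩ :=
      CfsgLib.LocalEven.NoQuadratic.of_quadratic (by decide) V H hV hHV hirr (hA haA) hac hq'
    refine no_sl2_three ?_ M f hf
    obtain ⟨K, _, _, m, -, hK, ⟨e⟩⟩ := hree
    obtain ⟨_, hn⟩ := CfsgLib.Twisted.setupG2 K hK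
    have hmem := CfsgLib.SmallRee.invol_mem_H1 hn
    intro S x hx
    haveI : Fact (Nat.Prime 2) := ⟨Nat.prime_two⟩
    have h8 := (S1152.result hK ⟨CfsgLib.SmallRee.invol K m, (Subgroup.mem_inf.1 hmem).2⟩
      (Subgroup.mem_inf.1 hmem).1 (fun h => CfsgLib.SmallRee.invol_ne_one (congrArg Subtype.val h))
      (Subtype.ext CfsgLib.SmallRee.invol_mul_self)).2
    obtain ⟨T, hT⟩ := (S.2.map e.toMonoidHom).exists_le_sylow
    exact e.injective (by
      rw [map_mul, map_one]
      exact (h8 T).2 (e x) (hT (Subgroup.mem_map_of_mem _ hx)))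

end Cfsg.Agent.S2787
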