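import Cfsg.Statements.S2788
import Cfsg.Agent.Lib.LocalEven.PSLTwoModule

set_option autoImplicit false
open Cfsg

namespace Cfsg.Agent.S2788

/-- Let H act faithfully by conjugation on the elementary abelian p-subgroup V of a finite group with H ≅ SL₂(F), F a field with p^n elements, S a Sylow p-subgroup of H, and A ≤ S a subgroup of order at least 3 acting quadratically on V ([V, A, A] = 1). Then |V/C_V(a)| ≥ p^n for every nonidentity a ∈ A. -/
theorem result {G : Type*} [Group G] [Finite G] {p : ℕ} [Fact p.Prime] (V H : Subgroup G) (hV : Cfsg.IsElementaryAbelian p V) (hHV : H ≤ Subgroup.normalizer (V : Set G)) (hf : H ⊓ Subgroup.centralizer (V : Set G) = ⊥) {F : Type*} [Field F] [Fintype F] (n : ℕ) (hF : Fintype.card F = p ^ n) (hiso : Nonempty (↥H ≃* Matrix.SpecialLinearGroup (Fin 2) F)) (S : Sylow p ↥H) (T : Subgroup G) (hT : T = ((S : Subgroup ↥H).map H.subtype)) (A : Subgroup G) (hA : A ≤ T) (hA3 : 3 ≤ Nat.card A) (hquad : ⁅⁅V, A⁆, A⁆ = ⊥) : ∀ a ∈ A, a ≠ 1 → p ^ n ≤ ((V ⊓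 Subgroup.centralizer ({a} : Set G))).relIndex V := by
  intro a ha ha1
  obtain ⟨e⟩ := hiso
  have hTH : T ≤ H := by rw [hT]; exact Subgroup.map_subtype_le _
  have haH : a ∈ H := hTH (hA ha)
  rcases Nat.lt_or_ge n 2 with hn | hn
  · interval_cases n
    · have h1 := Fintype.one_lt_card (α := F)
      rw [hF, pow_zero] at h1
      omega
    · obtain ⟨k, hk⟩ := IsPGroup.iff_card.1
        (CfsgLib.LocalEven.PSLTwoModule.isPGroup_of_isElementaryAbelian hV)
      obtain ⟨j, -, hj⟩ := (Nat.dvd_prime_pow (Fact.out : p.Prime)).1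
        ((Subgroup.relIndex_dvd_card (V ⊓ Subgroup.centralizer ({a} : Set G)) V).trans hk.dvd)
      rw [hj]
      refine Nat.pow_le_pow_right (Fact.out : p.Prime).pos ?_
      by_contra hlt
      have hj0 : j = 0 := by omega
      rw [hj0, pow_zero, Subgroup.relIndex_eq_one] at hj
      have hc : a ∈ H ⊓ Subgroup.centralizer (V : Set G) := by
        refine ⟨haH, Subgroup.mem_centralizer_iff.2 fun v hv => ?_⟩
        exact Subgroup.mem_centralizer_singleton_iff.1 (hj hv).2
      rw [hf, Subgroup.mem_bot] at hc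
      exact ha1 hc
  · have hTp : IsPGroup p T := by rw [hT]; exact S.2.map _
    obtain ⟨i, hi⟩ := (IsPGroup.iff_orderOf.1 hTp) ⟨a, hA ha⟩
    rw [Subgroup.orderOf_mk] at hi
    have h := CfsgLib.LocalEven.PSLTwoModule.idx_sq_bound (p := p) hV hHV hf hF hn
      (MonoidHom.id _) Function.surjective_id (by simp [MonoidHom.ker_id]) e.toMonoidHom e.surjective
      ⟨a, haH⟩ (fun h => ha1 (congrArg Subtype.val (e.injective (h.trans (map_one e).symm))))
      (by rw [Subgroup.orderOf_mk]; exact hi)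
    exact (Nat.pow_le_pow_iff_left two_ne_zero).1 h

end Cfsg.Agent.S2788
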