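import Cfsg.Statements.S2794
-- import your own Cfsg.Agent.* helpers here

import Cfsg.Agent.Lib.LocalEven.QdNotControl
import Cfsg.Agent.Lib.LocalEvenSix.QdControl
import Cfsg.Agent.Lib.LocalEven.InvolvesFour

set_option autoImplicit false
open Cfsg
open scoped commutatorElement

namespace Cfsg.Agent.S2794

/-- For an odd prime p and a finite group G, the group Qd(p) is not involved in G if and only if in every section K/R of G, for every Sylow p-subgroup S* of K/R, the centre of J(S*) (J generated by the abelian subgroups of largest order) controls strong fusion in K/R. -/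
theorem result {G : Type*} [Group G] [Finite G] {p : ℕ} [Fact p.Prime] (hp : p ≠ 2) : ¬ Cfsg.Involves ↥(Cfsg.qd p) G ↔ ∀ (K R : Subgroup G) [hR : (R.subgroupOf K).Normal], ∀ T : Sylow p (K ⧸ R.subgroupOf K), Cfsg.ControlsStrongFusion p (Cfsg.centerThompsonAOf (T : Subgroup (K ⧸ R.subgroupOf K))) := by
  constructor
  · intro hqd K R hR T
    have hX : ¬ Cfsg.Involves ↥(Cfsg.qd p) (K ⧸ R.subgroupOf K) := fun h =>
      hqd (CfsgLib.LocalEven.Involved.involves_of_subgroup
        (CfsgLib.LocalEven.Involved.involves_of_surjective (QuotientGroup.mk' (R.subgroupOf K))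
          (QuotientGroup.mk'_surjective _) h))
    refine ⟨T, ?_, fun A hA => ⟨hA, fun g hg => ?_⟩⟩
    · rw [CfsgLib.PLocal.centerThompsonAOf_eq]
      exact CfsgLib.PLocal.centerJ_le 0 _
    · obtain ⟨n, hn, h⟩ := CfsgLib.LocalEvenSix.QdControl.ctrl_of_not_involves (e := 0) hp
        (Or.inl rfl) hX T (T : Subgroup _) ⟨le_rfl, fun x _ g h => h⟩
        (Subgroup.closure A) ((Subgroup.closure_le _).mpr hA) g
        (by rw [MonoidHom.map_closure, Subgroup.closure_le]; exact hg)
      rw [CfsgLib.PLocal.centerThompsonAOf_eq, ← CfsgLib.PLocal.zj_zero]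
      exact ⟨n, hn, fun a ha => h a (Subgroup.subset_closure ha)⟩
  · rintro h ⟨K, R, hR, ⟨e⟩⟩
    exact CfsgLib.LocalEven.QdNotControl.not_controls_of_equiv e default (@h K R hR default)

end Cfsg.Agent.S2794
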