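import Cfsg.Statements.S2796
-- import your own Cfsg.Agent.* helpers here

import Cfsg.Agent.S2753
import Cfsg.Agent.S1997
import Cfsg.Agent.Lib.LocalEven.JHatBasic
import Cfsg.Agent.Lib.Techniques.SFourControl
import Cfsg.Agent.Lib.LocalEven.InvolvesFour

set_option autoImplicit false
universe u
open Cfsg
open scoped commutatorElement

namespace Cfsg.Agent.S2796

/-- Let G be a finite group in which the symmetric group of degree 4 is not involved, such that for every section K/R of G with C(O₂(K/R)) ≤ O₂(K/R) every non-abelian composition factor of K/R is a Suzuki group Sz(2^(2n+1)) or PSL₂ over a field with 3^(2n+1) elements. Let S be a Sylow 2-subgroup, J_e(S) the subgroup generated by its elementary abelian subgroups of largest order, and A the normal closure of Ω₁(Z(S)) in N_G(J_e(S)). Then A is an elementary abelian subgroup of S, strongly closed in S with respect to G, and A controls strong fusion in G. -/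
theorem result {G : Type u} [Group G] [Finite G] (hfree : ¬ Cfsg.Involves (Equiv.Perm (Fin 4)) G) (hsec : ∀ (K R : Subgroup G) [hR : (R.subgroupOf K).Normal], Subgroup.centralizer (Cfsg.pCore 2 (K ⧸ R.subgroupOf K) : Set (K ⧸ R.subgroupOf K)) ≤ Cfsg.pCore 2 (K ⧸ R.subgroupOf K) → Cfsg.IsCompositionKGroupWith Cfsg.IsSuzukiOrPSL2OddPowerThree (K ⧸ R.subgroupOf K)) (S : Sylow 2 G) (N : Subgroup G) (hN : N = Subgroup.normalizer (Cfsg.thompsonSubgroupOf 2 (S : Subgroup G) : Set G)) (A : Subgroup G) (hA : A = (Subgroup.normalClosure (((Cfsg.omegaOne 2 ((S : Subgroup G) ⊓ Subgroup.centralizer ((S : Subgroup G) : Set G))).subgroupOf N : Subgroup ↥N) : Set ↥N)).map N.subtype) : A ≤ S ∧ Cfsg.IsElementaryAbelian 2 A ∧ Cfsg.IsStronglyClosed A (S : Subgroup G) ∧ Cfsg.ControlsStrongFusion 2 A := by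
  haveI : Fact (Nat.Prime 2) := ⟨Nat.prime_two⟩
  refine Cfsg.Agent.S1997.result S CfsgLib.Techniques.SFourControl.jFun CfsgLib.LocalEven.JHat.zJHat
    CfsgLib.Techniques.SFourControl.isCharPFunctor_jFun CfsgLib.LocalEven.JHat.isCharPFunctor_zJHat
    (fun K R hR hconstr T => ?_) ?_ N hN A hA
  · have hfree' : ¬ Cfsg.Involves (Equiv.Perm (Fin 4)) (↥K ⧸ R.subgroupOf K) := fun h =>
      hfree (CfsgLib.LocalEven.Involved.involves_of_subgroup
        (CfsgLib.LocalEven.Involved.involves_of_surjective (QuotientGroup.mk' (R.subgroupOf K))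
          (QuotientGroup.mk'_surjective _) h))
    obtain ⟨f1, f2, f3⟩ := Cfsg.Agent.S2753.result hconstr hfree' (hsec K R hconstr) T
    have hle := Subgroup.centralizer_le (SetLike.coe_subset_coe.2
      (CfsgLib.PLocal.omegaOne_le 2 ((T : Subgroup (↥K ⧸ R.subgroupOf K)) ⊓
        Subgroup.centralizer ((T : Subgroup (↥K ⧸ R.subgroupOf K)) : Set (↥K ⧸ R.subgroupOf K)))))
    have hN2 : Subgroup.normalizer (((Cfsg.jHat ↥(T : Subgroup (↥K ⧸ R.subgroupOf K))).map
          (T : Subgroup (↥K ⧸ R.subgroupOf K)).subtype : Subgroup (↥K ⧸ R.subgroupOf K)) :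
            Set (↥K ⧸ R.subgroupOf K)) ≤
        Subgroup.normalizer ((Cfsg.inducedFunctor CfsgLib.LocalEven.JHat.zJHat
          (T : Subgroup (↥K ⧸ R.subgroupOf K)) : Subgroup (↥K ⧸ R.subgroupOf K)) :
            Set (↥K ⧸ R.subgroupOf K)) := by
      intro g hg
      rw [CfsgLib.LocalEven.JHat.inducedFunctor_zJHat]
      refine CfsgLib.PLocal.normalizer_le_normalizer_omegaOne 2 _ ?_
      rw [Subgroup.mem_normalizer_iff_map_conj_eq,
        CfsgLib.LocalEven.JHat.map_inf_centralizer (MulEquiv.injective _),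
        CfsgLib.PLocal.map_conj_eq_of_mem_normalizer hg]
    refine ⟨fun x => ?_, fun x => ?_, fun x => ?_⟩
    · obtain ⟨c, hc, n, hn, rfl⟩ := f1 x
      exact ⟨c, hle hc, n, hn, rfl⟩
    · obtain ⟨c, hc, n, hn, rfl⟩ := f2 x
      exact ⟨c, hle hc, n, hN2 hn, rfl⟩
    · obtain ⟨c, hc, n, hn, hx⟩ := f3 x⁻¹
      refine ⟨n⁻¹, inv_mem hn, c⁻¹, inv_mem ?_, by rw [← mul_inv_rev, ← hx, inv_inv]⟩
      rw [CfsgLib.LocalEven.JHat.inducedFunctor_zJHat]
      exact Subgroup.centralizer_le_normalizer _ hc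
  · refine le_inf ?_ (CfsgLib.LocalEven.JHat.omegaOne_inf_centralizer_le_zJHat _)
    rw [CfsgLib.Techniques.SFourControl.inducedFunctor_jFun, CfsgLib.PLocal.thompsonSubgroupOf_eq]
    exact (CfsgLib.PLocal.omegaOne_inf_centralizer_le 2 _).trans
      ((CfsgLib.PLocal.omegaOne_le 2 _).trans inf_le_left)

end Cfsg.Agent.S2796
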