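import Cfsg.Statements.S2803
-- import your own Cfsg.Agent.* helpers here

import Cfsg.Agent.Lib.LocalEven.PReducedSub

set_option autoImplicit false
open Cfsg
open scoped commutatorElement

namespace Cfsg.Agent.S2803

/-- Let L be a finite group and p a prime with C_L(O_p(L)) ≤ O_p(L), T a Sylow p-subgroup, and Y the largest p-reduced normal subgroup of L. Put T_L = C_T(Y) and L_T = N_L(T_L). Then L = L_T · C_L(Y) (elementwise), T_L = O_p(L_T), and Y = Ω₁(Z(T_L)). -/
theorem result {L : Type*} [Group L] [Finite L] {p : ℕ} [Fact p.Prime] (hchar : Subgroup.centralizer (Cfsg.pCore p L : Set L) ≤ Cfsg.pCore p L) (T : Sylow p L) (Y : Subgroup L) (hY : (Cfsg.IsPReducedNormal p Y ∧ ∀ V : Subgroup L, Cfsg.IsPReducedNormal p V → V ≤ Y)) (TL : Subgroup L) (hTL : TL = (T : Subgroup L) ⊓ Subgroup.centralizer (Y : Set L)) : (∀ g : L, ∃ a ∈ Subgroup.normalizer (TL : Set L), ∃ c ∈ Subgroup.centralizer (Y : Set L), g = a * c) ∧ (Cfsg.pCore p ↥(Subgroup.normalizer (TL : Set L))).map (Subgroup.normalizer (TL : Set L)).subtype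 = TL ∧ Y = Cfsg.omegaOne p (TL ⊓ Subgroup.centralizer (TL : Set L)) := by
  haveI : Y.Normal := hY.1.1
  have hYeq := CfsgLib.PRed.eq_largestPReduced hY.1 hY.2
  subst hTL
  refine ⟨fun g => ?_, ?_, ?_⟩
  · have hg : g ∈ Subgroup.normalizer (((T : Subgroup L) ⊓ Subgroup.centralizer (Y : Set L) : Subgroup L) : Set L) ⊔
        Subgroup.centralizer (Y : Set L) := by
      rw [CfsgLib.PRed.normalizer_sup_centralizer_eq_top T]; trivial
    obtain ⟨a, ha, c, hc, h⟩ := Subgroup.mem_sup_of_normal_right.mp hg
    exact ⟨a, ha, c, hc, h.symm⟩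
  · set TL := (T : Subgroup L) ⊓ Subgroup.centralizer (Y : Set L) with hTL
    set R := Subgroup.normalizer (TL : Set L) with hR
    refine le_antisymm ?_ ?_
    · -- the image of O_p(R) in L/C(Y) is normal, hence trivial
      have hQp : IsPGroup p ↥((Cfsg.pCore p ↥R).map R.subtype) :=
        CfsgLib.PRed.pCore_isPGroup.map _
      have hQR : R ≤ Subgroup.normalizer (((Cfsg.pCore p ↥R).map R.subtype : Subgroup L) : Set L) := by
        haveI := CfsgLib.PRed.pCore_normal (p := p) (G := ↥R)
        rw [← Subgroup.normal_subgroupOf_iff_le_normalizer (Subgroup.map_subtype_le _),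
          Subgroup.subgroupOf, Subgroup.comap_map_eq_self_of_injective R.subtype_injective]
        infer_instance
      have hQC : (Cfsg.pCore p ↥R).map R.subtype ≤ Subgroup.centralizer (Y : Set L) := by
        have hn : (((Cfsg.pCore p ↥R).map R.subtype) ⊔ Subgroup.centralizer (Y : Set L)).Normal := by
          rw [← Subgroup.normalizer_eq_top_iff, eq_top_iff,
            ← CfsgLib.PRed.normalizer_sup_centralizer_eq_top T (Y := Y), sup_le_iff]
          refine ⟨hQR.trans (Subgroup.normalizer_le_normalizer_sup_of_normalizer_le_left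
            Subgroup.le_normalizer_of_normal), ?_⟩
          exact le_sup_right.trans Subgroup.le_normalizer
        refine le_sup_left.trans ((CfsgLib.PRed.isPReducedNormal_iff.mp hY.1).2.2 _ hn ?_)
        intro x hx
        obtain ⟨a, ha, c, hc, rfl⟩ := Subgroup.mem_sup_of_normal_right.mp hx
        obtain ⟨k, hk⟩ := hQp.exists_pow_pow_eq_one ⟨a, ha⟩
        refine ⟨k, ?_⟩
        have ha1 : a ^ p ^ k = 1 := by simpa [Subtype.ext_iff] using hk
        rw [← QuotientGroup.eq_one_iff, QuotientGroup.mk_pow, QuotientGroup.mk_mul,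
          (QuotientGroup.eq_one_iff c).mpr hc, mul_one, ← QuotientGroup.mk_pow, ha1]
        rfl
      intro x hx
      refine ⟨?_, hQC hx⟩
      obtain ⟨P, hP⟩ := CfsgLib.PRed.exists_sylow_inf_normal T (Subgroup.centralizer (Y : Set L))
      have hmax : ((Cfsg.pCore p ↥R).map R.subtype).subgroupOf (Subgroup.centralizer (Y : Set L)) ≤
          (P : Subgroup ↥(Subgroup.centralizer (Y : Set L))) := by
        have hn : ((Cfsg.pCore p ↥R).map R.subtype).subgroupOf (Subgroup.centralizer (Y : Set L)) ≤
            Subgroup.normalizer ((P : Subgroup ↥(Subgroup.centralizer (Y : Set L))) : Set ↥(Subgroup.centralizer (Y : Set L))) := by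
          intro z hz
          have hz' : (z : L) ∈ R := Subgroup.map_subtype_le _ hz
          rw [hP, Subgroup.mem_normalizer_iff]
          intro y
          have h := Subgroup.mem_normalizer_iff.mp hz' (y : L)
          exact ⟨fun hy => (h.mp ⟨hy, y.2⟩).1, fun hy => (h.mpr ⟨hy, (z * y * z⁻¹).2⟩).1⟩
        exact le_sup_left.trans (P.is_maximal'
          (IsPGroup.to_sup_of_normal_right' hQp.comap_subtype P.2 hn) le_sup_right).le
      have := hmax (x := ⟨x, hQC hx⟩) hx
      rw [hP] at this
      exact this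
    · have hle : TL ≤ R := Subgroup.le_normalizer
      intro x hx
      have hn : (TL.subgroupOf R).Normal := Subgroup.normal_subgroupOf_of_le_normalizer le_rfl
      exact ⟨⟨x, hle hx⟩, CfsgLib.PRed.le_pCore hn
        ((T.2.to_le inf_le_left).comap_subtype) hx, rfl⟩
  · rw [hYeq]
    exact CfsgLib.PRed.largest_eq_omegaZ hchar T

end Cfsg.Agent.S2803
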