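import Cfsg.Statements.S2804
-- import your own Cfsg.Agent.* helpers here

import Cfsg.Agent.Lib.LocalEven.PReducedSubnormal

set_option autoImplicit false
open Cfsg
open scoped commutatorElement

namespace Cfsg.Agent.S2804

/-- Let L be a finite group and p a prime with C_L(O_p(L)) ≤ O_p(L), V a p-reduced normal subgroup of L and K a subnormal subgroup of L. Then [V, O^p(K)] is contained in K and is a p-reduced normal subgroup of K, where O^p(K) is the subgroup of K generated by its elements of order prime to p. -/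
theorem result {L : Type*} [Group L] [Finite L] {p : ℕ} [Fact p.Prime] (hchar : Subgroup.centralizer (Cfsg.pCore p L : Set L) ≤ Cfsg.pCore p L) (V : Subgroup L) (hV : Cfsg.IsPReducedNormal p V) (K : Subgroup L) (hK : K.IsSubnormal) : ⁅V, (Cfsg.pResidual p ↥K).map K.subtype⁆ ≤ K ∧ Cfsg.IsPReducedNormal p ((⁅V, (Cfsg.pResidual p ↥K).map K.subtype⁆).subgroupOf K) := by
  haveI := hV.1
  have hWK := CfsgLib.PRed.commutator_pResidual_le hV.1 hV.2.1 hK
  have hKW : K ≤ Subgroup.normalizer ((⁅V, (Cfsg.pResidual p ↥K).map K.subtype⁆ : Subgroup L) : Set L) :=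
    (le_inf Subgroup.le_normalizer_of_normal (CfsgLib.PRed.le_normalizer_pResidual_map K)).trans
      (CfsgLib.PRed.normalizer_inf_le_normalizer_commutator _ _)
  have hWV : ⁅V, (Cfsg.pResidual p ↥K).map K.subtype⁆ ≤ V := Subgroup.commutator_le_left _ _
  exact ⟨hWK, (CfsgLib.PRed.isPReducedNormal_subgroupOf_iff hWK).mpr
    ⟨hKW, CfsgLib.PRed.isElemAb_mono hV.2.1 hWV,
      (CfsgLib.PRed.centralizer_eq_of_commutator_le hV hK hKW hWV le_rfl).2⟩⟩

end Cfsg.Agent.S2804
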