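import Cfsg.Statements.S2806
-- import your own Cfsg.Agent.* helpers here

import Cfsg.Agent.Lib.LocalEven.Kieler
import Cfsg.Agent.Lib.LocalEven.SubnormalJoin

set_option autoImplicit false
open Cfsg
open scoped commutatorElement

namespace Cfsg.Agent.S2806

/-- Let H be a finite group of local characteristic p, T a Sylow p-subgroup, and L₁, L₂ subnormal subgroups of H generating the subgroup L. Then the point stabilizer of L with respect to T ∩ L is generated by the point stabilizers of L₁ and L₂ with respect to T ∩ L₁ and T ∩ L₂ (point stabilizer of X w.r.t. R: the subgroup generated by the p-elements of X centralizing Ω₁(Z(R))). -/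
theorem result {H : Type*} [Group H] [Finite H] {p : ℕ} [Fact p.Prime] (hH : Cfsg.IsOfLocalCharacteristic p H) (T : Sylow p H) (L₁ L₂ : Subgroup H) (h₁ : L₁.IsSubnormal) (h₂ : L₂.IsSubnormal) : Cfsg.pointStabilizer p (L₁ ⊔ L₂) ((T : Subgroup H) ⊓ (L₁ ⊔ L₂)) = Cfsg.pointStabilizer p L₁ ((T : Subgroup H) ⊓ L₁) ⊔ Cfsg.pointStabilizer p L₂ ((T : Subgroup H) ⊓ L₂) := by
  have hp : p.Prime := Fact.out
  have hTne : (T : Subgroup H) ≠ ⊥ := T.ne_bot_of_dvd_card hH.1
  have hZne : ∀ A : Subgroup H, IsPGroup p A → A ≠ ⊥ → CfsgLib.PRed.omegaZ p A ≠ ⊥ := by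
    intro A hA hne h0
    obtain ⟨a, ha, ha1, hac⟩ := CfsgLib.PRed.exists_fixed_ne_one hA hA Subgroup.le_normalizer hne
    obtain ⟨k, hk⟩ := (IsPGroup.iff_orderOf.mp hA) ⟨a, ha⟩
    have hk' : orderOf a = p ^ k := by simpa using hk
    have hk0 : k ≠ 0 := fun h => ha1 (orderOf_eq_one_iff.mp (by rw [hk', h, pow_zero]))
    obtain ⟨j, rfl⟩ := Nat.exists_eq_succ_of_ne_zero hk0
    have hb : a ^ p ^ j ∈ CfsgLib.PRed.omegaZ p A := CfsgLib.PRed.mem_omegaZ.mpr
      ⟨A.pow_mem ha _, Subgroup.pow_mem _ hac _, by rw [← pow_mul, ← pow_succ, ← hk', pow_orderOf_eq_one]⟩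
    rw [h0, Subgroup.mem_bot] at hb
    have hd := orderOf_dvd_of_pow_eq_one hb
    rw [hk', Nat.pow_dvd_pow_iff_le_right hp.one_lt] at hd
    omega
  have hlocal : ∀ R : Subgroup H, IsPGroup p R → R ≠ ⊥ → ∀ U : Subgroup H, U.IsSubnormal →
      Subgroup.centralizer (Cfsg.pCore p ↥(U ⊓ Subgroup.normalizer (R : Set H)) :
          Set ↥(U ⊓ Subgroup.normalizer (R : Set H))) ≤
        Cfsg.pCore p ↥(U ⊓ Subgroup.normalizer (R : Set H)) := by
    intro R hR hR1 U hU
    set N := Subgroup.normalizer (R : Set H)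
    obtain ⟨S⟩ : Nonempty (Sylow p ↥N) := inferInstance
    have h := (CfsgLib.PRed.kieler_subnormal (hH.2 R hR hR1) S (L := U.subgroupOf N) hU.subgroupOf).1
    let e : ↥(U.subgroupOf N) ≃* ↥(U ⊓ N) :=
      { toFun := fun x => ⟨(x : N), x.2, (x : N).2⟩
        invFun := fun x => ⟨⟨x, x.2.2⟩, x.2.1⟩
        left_inv := fun x => rfl
        right_inv := fun x => rfl
        map_mul' := fun x y => rfl }
    intro y hy
    have hy' : e.symm y ∈ Cfsg.pCore p ↥(U.subgroupOf N) := h (Subgroup.mem_centralizer_iff.mpr fun q hq =>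
      e.injective (by
        rw [map_mul, map_mul, e.apply_symm_apply]
        exact Subgroup.mem_centralizer_iff.mp hy (e q)
          (CfsgLib.PRed.pCore_map_le e.toMonoidHom e.surjective (Subgroup.mem_map_of_mem _ hq))))
    simpa using CfsgLib.PRed.pCore_map_le e.toMonoidHom e.surjective (Subgroup.mem_map_of_mem _ hy')
  set Z := CfsgLib.PRed.omegaZ p (T : Subgroup H) with hZ
  have hZp : IsPGroup p Z := T.2.to_le (CfsgLib.PRed.omegaZ_le _)
  -- Kieler: `L ∩ C(Z) = L ∩ C(Z_L)` when `T ∩ L ≠ 1`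
  have hK : ∀ L : Subgroup H, L.IsSubnormal → (T : Subgroup H) ⊓ L ≠ ⊥ →
      L ⊓ Subgroup.centralizer (CfsgLib.PRed.omegaZ p ((T : Subgroup H) ⊓ L) : Set H) =
        L ⊓ Subgroup.centralizer (Z : Set H) := by
    intro L hL hne
    refine le_antisymm ?_ ?_
    · induction hL with
      | top => rw [inf_top_eq]
      | step U V hle hV hUn ih =>
        rintro x ⟨hxU, hxC⟩
        set R := CfsgLib.PRed.omegaZ p ((T : Subgroup H) ⊓ U) with hR
        have hRp : IsPGroup p R := (T.2.to_le inf_le_left).to_le (CfsgLib.PRed.omegaZ_le _)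
        set N := Subgroup.normalizer (R : Set H) with hN
        have hc := hlocal R hRp (hZne _ (T.2.to_le inf_le_left) hne) V hV
        obtain ⟨P, hP⟩ := CfsgLib.SubJoin.exists_sylow_subnormal T hV
        have hUV : V ≤ Subgroup.normalizer (U : Set H) :=
          (Subgroup.normal_subgroupOf_iff_le_normalizer hle).mp hUn
        have hTN : (T : Subgroup H) ⊓ V ≤ N := by
          refine le_trans ?_ (CfsgLib.PRed.normalizer_le_normalizer_omegaZ _)
          exact (le_inf (inf_le_left.trans Subgroup.le_normalizer) (inf_le_right.trans hUV)).trans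
            (CfsgLib.PRed.normalizer_inf_le_normalizer_inf _ _)
        let T' : Sylow p ↥(V ⊓ N) := ((T.2.to_le (show (T : Subgroup H) ⊓ V ≤ _ from inf_le_left)).comap_subtype
          (K := V ⊓ N)).toSylow (fun hd => P.not_dvd_index (hd.trans (by
            rw [hP]
            show ((T : Subgroup H) ⊓ V).relIndex (V ⊓ N) ∣ (T : Subgroup H).relIndex V
            rw [← Subgroup.inf_relIndex_right (T : Subgroup H) V]
            exact Dvd.intro _ (Subgroup.relIndex_mul_relIndex ((T : Subgroup H) ⊓ V) (V ⊓ N) V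
              (le_inf inf_le_right hTN) inf_le_left))))
        haveI : (U.subgroupOf (V ⊓ N)).Normal :=
          Subgroup.normal_subgroupOf_of_le_normalizer (inf_le_left.trans hUV)
        have hk := congrArg (Subgroup.map (V ⊓ N).subtype)
          (CfsgLib.PRed.kieler_normal hc T' (U.subgroupOf (V ⊓ N)))
        rw [IsPGroup.toSylow_coe, Subgroup.map_inf _ _ _ (V ⊓ N).subtype_injective,
          Subgroup.map_inf _ _ _ (V ⊓ N).subtype_injective, CfsgLib.PRed.map_centralizer_subtype,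
          CfsgLib.PRed.map_centralizer_subtype, CfsgLib.PRed.omegaZ_map, CfsgLib.PRed.omegaZ_map,
          Subgroup.map_inf _ _ _ (V ⊓ N).subtype_injective, Subgroup.subgroupOf_map_subtype,
          Subgroup.map_comap_eq, Subgroup.range_subtype] at hk
        have e1 : (V ⊓ N) ⊓ ((T : Subgroup H) ⊓ V) = (T : Subgroup H) ⊓ V :=
          inf_eq_right.mpr (le_inf inf_le_right hTN)
        have e2 : (T : Subgroup H) ⊓ V ⊓ (U ⊓ (V ⊓ N)) = (T : Subgroup H) ⊓ U := by
          refine le_antisymm (le_inf (inf_le_left.trans inf_le_left) (inf_le_right.trans inf_le_left))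
            (le_inf (inf_le_inf_left _ hle) (le_inf inf_le_right (le_inf (inf_le_right.trans hle) ?_)))
          exact (inf_le_inf_left _ hle).trans hTN
        rw [e1, e2] at hk
        have hxN : x ∈ V ⊓ N := ⟨hle hxU, Subgroup.centralizer_le_normalizer _ hxC⟩
        have hx' := hk.ge ⟨⟨hxU, hxN⟩, ⟨hxN, hxC⟩⟩
        have hneV : (T : Subgroup H) ⊓ V ≠ ⊥ := fun h => hne (le_bot_iff.mp (h ▸ inf_le_inf_left _ hle))
        exact ⟨hxU, (ih hneV ⟨hle hxU, hx'.2.2⟩).2⟩
    · set N := Subgroup.normalizer (Z : Set H) with hN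
      have hTN : (T : Subgroup H) ≤ N :=
        Subgroup.le_normalizer.trans (CfsgLib.PRed.normalizer_le_normalizer_omegaZ _)
      have hc := hH.2 Z hZp (hZne _ T.2 hTne)
      have hk := congrArg (Subgroup.map N.subtype)
        (CfsgLib.PRed.kieler_subnormal hc (T.subtype hTN) (L := L.subgroupOf N) hL.subgroupOf).2.2
      rw [Subgroup.map_inf _ _ _ N.subtype_injective, Subgroup.map_inf _ _ _ N.subtype_injective,
        CfsgLib.PRed.map_centralizer_subtype, CfsgLib.PRed.map_centralizer_subtype,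
        CfsgLib.PRed.omegaZ_map, CfsgLib.PRed.omegaZ_map, Subgroup.map_inf _ _ _ N.subtype_injective,
        CfsgLib.PRed.map_sylow_subtype, Subgroup.subgroupOf_map_subtype] at hk
      rintro x ⟨hxL, hxC⟩
      have hxN : x ∈ N := Subgroup.centralizer_le_normalizer _ hxC
      have hx' := hk.le ⟨⟨hxL, hxN⟩, ⟨hxN, hxC⟩⟩
      have e : (T : Subgroup H) ⊓ (L ⊓ N) = (T : Subgroup H) ⊓ L := by
        rw [← inf_assoc]; exact inf_eq_left.mpr (inf_le_left.trans hTN)
      rw [e] at hx'
      exact ⟨hxL, hx'.2.2⟩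
  -- all three point stabilizers are generated by `p`-elements centralizing `Z`
  let E : Subgroup H → Subgroup H := fun L =>
    Subgroup.closure {x : H | x ∈ L ⊓ Subgroup.centralizer (Z : Set H) ∧ ∃ k : ℕ, orderOf x = p ^ k}
  have hP : ∀ L : Subgroup H, L.IsSubnormal →
      Cfsg.pointStabilizer p L ((T : Subgroup H) ⊓ L) = E L := by
    intro L hL
    show Subgroup.closure _ = Subgroup.closure _
    congr 1
    ext x
    refine and_congr_left fun ⟨k, hk⟩ => ?_
    by_cases hne : (T : Subgroup H) ⊓ L = ⊥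
    · have h1 : x ∈ L → x = 1 := by
        intro hxL
        obtain ⟨P, hP⟩ := CfsgLib.SubJoin.exists_sylow_subnormal T hL
        have hx : IsPGroup p ↥((Subgroup.zpowers x).subgroupOf L) :=
          (IsPGroup.of_card_dvd_pow (n := k) (by rw [Nat.card_zpowers, hk])).comap_subtype
        obtain ⟨Q, hQ⟩ := hx.exists_le_sylow
        obtain ⟨g, hg⟩ := MulAction.exists_smul_eq L P Q
        have hPbot : (P : Subgroup ↥L) = ⊥ := by
          rw [hP, Subgroup.subgroupOf_eq_bot, disjoint_iff, hne]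
        have hcard : Nat.card (Q : Subgroup ↥L) = 1 := by
          rw [← Subgroup.card_eq_one.mpr hPbot, Q.card_eq_multiplicity, P.card_eq_multiplicity]
        have hm := hQ (x := ⟨x, hxL⟩) (Subgroup.mem_zpowers x)
        rw [Subgroup.card_eq_one.mp hcard, Subgroup.mem_bot] at hm
        exact congrArg Subtype.val hm
      constructor
      · intro hx; rw [h1 hx.1]; exact Subgroup.one_mem _
      · intro hx; rw [h1 hx.1]; exact Subgroup.one_mem _
    · exact SetLike.ext_iff.mp (hK L hL hne) x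
  have hjs := CfsgLib.Structure.isSubnormal_sup h₁ h₂
  rw [hP _ hjs, hP _ h₁, hP _ h₂]
  set C := Subgroup.centralizer (Z : Set H) with hC
  have hmono : ∀ A B : Subgroup H, A ≤ B → E A ≤ E B := fun A B hAB =>
    Subgroup.closure_mono fun x hx => ⟨⟨hAB hx.1.1, hx.1.2⟩, hx.2⟩
  refine le_antisymm ?_ (sup_le (hmono _ _ le_sup_left) (hmono _ _ le_sup_right))
  have hTC : (T : Subgroup H) ≤ C :=
    Subgroup.le_centralizer_iff.mp (CfsgLib.PRed.omegaZ_le_centralizer _)
  have hEle : ∀ A : Subgroup H, E A ≤ A ⊓ C := fun A => (Subgroup.closure_le _).mpr fun x hx => hx.1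
  -- `E A` is subnormal in `C`
  have hEsub : ∀ A : Subgroup H, A.IsSubnormal → ((E A).subgroupOf C).IsSubnormal := by
    intro A hA
    refine Subgroup.IsSubnormal.step _ (A.subgroupOf C) ?_ hA.subgroupOf ?_
    · exact fun y hy => (hEle A hy).1
    · refine ⟨fun y hy g => ?_⟩
      simp only [Subgroup.mem_subgroupOf] at hy ⊢
      have hg : ((g : C) : H) ∈ Subgroup.normalizer (E A : Set H) := by
        refine CfsgLib.PRed.mem_normalizer_of_conj_mem ?_
        intro z hz
        have hle : E A ≤ (E A).comap (MulAut.conj ((g : C) : H)).toMonoidHom := by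
          refine (Subgroup.closure_le _).mpr fun w hw => Subgroup.subset_closure ⟨?_, ?_⟩
          · have hgA : ((g : C) : H) ∈ A ⊓ C := ⟨g.2, (g : C).2⟩
            exact Subgroup.mul_mem _ (Subgroup.mul_mem _ hgA hw.1) (Subgroup.inv_mem _ hgA)
          · obtain ⟨k, hk⟩ := hw.2
            exact ⟨k, by rw [← hk]; exact orderOf_injective (MulAut.conj ((g : C) : H)).toMonoidHom (MulAut.conj ((g : C) : H)).injective w⟩
        exact hle hz
      exact (Subgroup.mem_normalizer_iff.mp hg _).mp hy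
  have hTsub : (T : Subgroup H) ⊓ (L₁ ⊔ L₂) ≤ E L₁ ⊔ E L₂ := by
    rw [CfsgLib.SubJoin.inf_sup_eq T h₁ h₂]
    refine sup_le_sup ?_ ?_ <;>
    · rintro x ⟨hxT, hxL⟩
      obtain ⟨k, hk⟩ := (IsPGroup.iff_orderOf.mp T.2) ⟨x, hxT⟩
      exact Subgroup.subset_closure ⟨⟨hxL, hTC hxT⟩, k, by simpa using hk⟩
  refine (Subgroup.closure_le _).mpr ?_
  rintro x ⟨⟨hxL, hxC⟩, k, hk⟩
  set W : Subgroup ↥C := (L₁ ⊔ L₂).subgroupOf C with hW
  have hsub : (((E L₁).subgroupOf C) ⊔ ((E L₂).subgroupOf C)).IsSubnormal :=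
    CfsgLib.Structure.isSubnormal_sup (hEsub _ h₁) (hEsub _ h₂)
  rw [← Subgroup.subgroupOf_sup ((hEle L₁).trans inf_le_right) ((hEle L₂).trans inf_le_right)] at hsub
  obtain ⟨PW, hP'⟩ := CfsgLib.SubJoin.exists_sylow_subnormal (T.subtype hTC)
    (A := W) hjs.subgroupOf
  have key : ∀ S : Subgroup ↥C, S.IsSubnormal → (E L₁ ⊔ E L₂).subgroupOf C ≤ S →
      (⟨x, hxC⟩ : C) ∈ S := by
    intro S hS
    induction hS with
    | top => intros; trivial
    | step U V hle _ hUn ih =>
      intro hEU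
      have hxV := ih (hEU.trans hle)
      haveI := hUn
      have h1 : (⟨⟨x, hxC⟩, hxV⟩ : V) ^ (U.subgroupOf V).index ∈ U.subgroupOf V :=
        Subgroup.pow_index_mem _ _
      have h2 : (⟨x, hxC⟩ : C) ^ U.relIndex V ∈ U ⊓ W :=
        ⟨by simpa [Subgroup.mem_subgroupOf, Subgroup.relIndex] using h1, W.pow_mem hxL _⟩
      -- the index of `U ∩ W` in `V ∩ W` is prime to `p`
      have h3 : (⟨x, hxC⟩ : C) ^ (U ⊓ W).relIndex (V ⊓ W) ∈ U := by
        haveI : ((U ⊓ W).subgroupOf (V ⊓ W)).Normal :=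
          Subgroup.normal_subgroupOf_of_le_normalizer
            ((le_inf (inf_le_left.trans ((Subgroup.normal_subgroupOf_iff_le_normalizer hle).mp hUn))
              (inf_le_right.trans Subgroup.le_normalizer)).trans
              (CfsgLib.PRed.normalizer_inf_le_normalizer_inf _ _))
        have h := Subgroup.pow_index_mem ((U ⊓ W).subgroupOf (V ⊓ W)) (⟨⟨x, hxC⟩, hxV, hxL⟩ : ↥(V ⊓ W))
        simp only [Subgroup.mem_subgroupOf, SubgroupClass.coe_pow] at h
        exact h.1
      have hco : ¬ p ∣ (U ⊓ W).relIndex (V ⊓ W) := by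
        intro hd
        refine PW.not_dvd_index (hd.trans ?_)
        rw [hP', Sylow.coe_subtype]
        show _ ∣ ((T : Subgroup H).subgroupOf C).relIndex W
        have hle' : (T : Subgroup H).subgroupOf C ⊓ W ≤ U ⊓ W :=
          le_inf (fun y hy => hEU (hTsub ⟨hy.1, hy.2⟩)) inf_le_right
        rw [← Subgroup.inf_relIndex_right ((T : Subgroup H).subgroupOf C) W,
          ← Subgroup.relIndex_mul_relIndex _ (U ⊓ W) W hle' inf_le_right,
          ← Subgroup.relIndex_mul_relIndex (U ⊓ W) (V ⊓ W) W (inf_le_inf_right W hle) inf_le_right]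
        exact dvd_mul_of_dvd_right (Dvd.intro _ rfl) _
      obtain ⟨m, hm⟩ := exists_pow_eq_self_of_coprime (x := (⟨x, hxC⟩ : C))
        (n := (U ⊓ W).relIndex (V ⊓ W)) (by
          rw [← Subgroup.orderOf_coe, Subtype.coe_mk, hk]
          exact ((hp.coprime_iff_not_dvd.mpr hco).pow_left k).symm)
      rw [← hm]
      exact U.pow_mem h3 m
  exact key _ hsub le_rfl

end Cfsg.Agent.S2806
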