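import Cfsg.Statements.S2808
import Cfsg.Agent.Lib.PushingUp.Family.Pairs
-- import your own Cfsg.Agent.* helpers here

set_option autoImplicit false
universe u
open Cfsg

namespace Cfsg.Agent.S2808

/-- Let p be a prime and S a finite p-group with J(S) generated by the abelian subgroups of largest order, Z(J(S)) its centre and J̃(S) = C_S(Z(J(S))). Put S₀ = [Φ(S), S]·Φ(Φ(S)) if p = 2, S₀ = [[Φ(S), S], S]·Φ(Φ(S)) if p = 3, and S₀ = [Φ(S), S]·℧¹(S) if p > 3. If [Z(J(S)), S] ≠ 1 or S₀ ≠ 1, then S has nontrivial characteristic subgroups S₁ ≤ Z(S) and S₂ ≤ J̃(S), with S₂ characteristic in J̃(S), such that in every finite group G containing S as a Sylow p-subgroup with C_G(O_p(G)) ≤ O_p(G), S in exactly one maximal subgroup of G, and G/K ≅ PSL₂(p^n) for some normal K and n ≥ 1, at least one of S₁, S₂ is normal. -/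
theorem result {S : Type u} [Group S] [Finite S] {p : ℕ} [Fact p.Prime] (hS : IsPGroup p S) (S₀ : Subgroup S) (hS₀ : S₀ = if p = 2 then ⁅frattini S, (⊤ : Subgroup S)⁆ ⊔ (frattini ↥(frattini S)).map (frattini S).subtype else if p = 3 then ⁅⁅frattini S, (⊤ : Subgroup S)⁆, (⊤ : Subgroup S)⁆ ⊔ (frattini ↥(frattini S)).map (frattini S).subtype else ⁅frattini S, (⊤ : Subgroup S)⁆ ⊔ Cfsg.powerClosure p 1 (⊤ : Subgroup S)) (h : ⁅Cfsg.thompsonSubgroupA S ⊓ Subgroup.centralizer (Cfsg.thompsonSubgroupA S : Set S), (⊤ : Subgroup S)⁆ ≠ ⊥ ∨ S₀ ≠ ⊥) : ∃ S₁ S₂ : Subgroup S, S₁ ≠ ⊥ ∧ S₂ ≠ ⊥ ∧ S₁.Characteristic ∧ S₂.Characteristic ∧ S₁ ≤ Subgroup.center S ∧ S₂ ≤ Subgroup.centralizer ((Cfsg.thompsonSubgroupA S ⊓ Subgroup.centralizer (Cfsg.thompsonSubgroupA S : Set S) : Subgroup S) : Set S) ∧ (S₂.subgroupOf (Subgroup.centralizer ((Cfsg.thompsonSubgroupA S ⊓ Subgroup.centralizer (Cfsg.thompsonSubgroupA S : Set S) : Subgroup S) : Set S))).Characteristic ∧ ∀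 (G : Type u) [Group G] [Finite G] (τ : S →* G), Function.Injective τ → (∃ P : Sylow p G, (P : Subgroup G) = τ.range) → Subgroup.centralizer (Cfsg.pCore p G : Set G) ≤ Cfsg.pCore p G → (∃! M : Subgroup G, IsCoatom M ∧ τ.range ≤ M) → (∃ (K : Subgroup G) (_ : K.Normal) (F : Type) (_ : Field F) (_ : Fintype F) (n : ℕ), 1 ≤ n ∧ Fintype.card F = p ^ n ∧ Nonempty (G ⧸ K ≃* Matrix.ProjectiveSpecialLinearGroup (Fin 2) F)) → (S₁.map τ).Normal ∨ (S₂.map τ).Normal := by
  rcases subsingleton_or_nontrivial S with hsub | hnt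
  · rcases h with h | h <;> exact absurd (Subsingleton.elim _ _) h
  have hexc : ¬ CfsgLib.PushingUp.Family.Exc p S := by
    rintro ⟨-, hJ, -, hΦ, hp2, hp3, hp5, -⟩
    rcases h with h | h
    · refine h (Subgroup.commutator_eq_bot_iff_le_centralizer.2 ?_)
      rw [hJ]
      exact inf_le_right
    refine h ?_
    have hΦ2 : (frattini ↥(frattini S)).map (frattini S).subtype = ⊥ := by
      rw [Subgroup.map_eq_bot_iff_of_injective _ (Subgroup.subtype_injective _), eq_bot_iff]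
      haveI := hΦ.1
      refine CfsgLib.PGroup.frattini_le_of (p := p) ⊥ ?_ fun x => ?_
      · rw [commutator_def, Subgroup.commutator_le]
        intro a _ b _
        exact Subgroup.mem_bot.2 (commutatorElement_eq_one_iff_mul_comm.2 (mul_comm' a b))
      · exact Subgroup.mem_bot.2 (Subtype.ext (by simpa using hΦ.2 x x.2))
    rw [hS₀, hΦ2]
    split_ifs with e2 e3
    · rw [sup_bot_eq, Subgroup.commutator_eq_bot_iff_le_centralizer, Subgroup.coe_top, Subgroup.centralizer_univ]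
      exact hp2 e2
    · rw [sup_bot_eq, Subgroup.commutator_eq_bot_iff_le_centralizer, Subgroup.coe_top, Subgroup.centralizer_univ,
        Subgroup.commutator_le]
      intro a ha b _
      rw [← Subgroup.upperCentralSeries_one]
      exact Subgroup.mem_upperCentralSeries_succ_iff.1 (hp3 e3 ha) b
    · have h5 : 3 < p := by have := (Fact.out : p.Prime).two_le; omega
      obtain ⟨hz, hexp⟩ := hp5 h5
      rw [sup_eq_bot_iff, Subgroup.commutator_eq_bot_iff_le_centralizer, Subgroup.coe_top, Subgroup.centralizer_univ]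
      refine ⟨hz, ?_⟩
      rw [Cfsg.powerClosure, Subgroup.closure_eq_bot_iff]
      rintro _ ⟨x, -, rfl⟩
      rw [pow_one, ← hexp]
      exact Monoid.pow_exponent_eq_one x
  obtain ⟨S₁, S₂, h1, h2, h3, h4, h5, h6, h7, -, hgood⟩ :=
    CfsgLib.PushingUp.Family.pair_exists hS hexc
  refine ⟨S₁, S₂, h1, h2, h3, h4, h5, h6, h7, fun G _ _ τ hτ hP hC hM hK => hgood G τ hτ ?_⟩
  obtain ⟨K, hKn, F, hFf, hFt, n, -, hn, he⟩ := hK
  obtain ⟨P, hP⟩ := hP
  rw [← hP] at hM ⊢
  exact CfsgLib.PushingUp.situation_mk P hC hM K hKn F n hn he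

end Cfsg.Agent.S2808
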