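import Cfsg.Statements.S2809
-- import your own Cfsg.Agent.* helpers here

import Cfsg.Agent.Lib.LocalEven.PReduced

set_option autoImplicit false
open Cfsg
open scoped commutatorElement

namespace Cfsg.Agent.S2809

/-- Let H be a finite group, p a prime, R a p-subgroup of H with C_H(R) ≤ R, and L a subgroup of N_H(R) acting nilpotently on R (some iterated commutator [R, L, …, L] is trivial). Then L is a p-group. -/
theorem result {H : Type*} [Group H] [Finite H] {p : ℕ} [Fact p.Prime] (R : Subgroup H) (hR : IsPGroup p ↥R) (hC : Subgroup.centralizer (R : Set H) ≤ R) (L : Subgroup H) (hL : L ≤ Subgroup.normalizer (R : Set H)) (hnil : ∃ n : ℕ, Cfsg.iterCommutator R L n = ⊥) : IsPGroup p ↥L := by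
  obtain ⟨n, hn⟩ := hnil
  refine CfsgLib.PRed.isPGroup_of_coprime L fun x hx hxp => ?_
  have hle : ∀ i, Cfsg.iterCommutator R L i ≤ R := by
    intro i
    induction i with
    | zero => exact le_rfl
    | succ i ih =>
      exact (Subgroup.commutator_mono ih le_rfl).trans
        (Subgroup.le_normalizer_iff_commutator_le_left.mp hL)
  have hall : ∀ i, i ≤ n → ∀ r ∈ Cfsg.iterCommutator R L (n - i), Commute r x := by
    intro i
    induction i with
    | zero =>
      intro _ r hr
      rw [Nat.sub_zero, hn, Subgroup.mem_bot] at hr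
      subst hr
      exact Commute.one_left x
    | succ i ih =>
      intro hi r hr
      have hc : ⁅r, x⁆ ∈ Cfsg.iterCommutator R L (n - i) := by
        rw [show n - i = (n - (i + 1)) + 1 by omega]
        exact Subgroup.commutator_mem_commutator hr hx
      exact CfsgLib.PRed.commute_of_coprime hR hxp (hle _ hc) (ih (by omega) _ hc)
  refine CfsgLib.PRed.eq_one_of_coprime hR hxp (hC (Subgroup.mem_centralizer_iff.mpr fun r hr => ?_))
  exact hall n le_rfl r (by rw [Nat.sub_self]; exact hr)

end Cfsg.Agent.S2809
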