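import Cfsg.Statements.S2810
-- import your own Cfsg.Agent.* helpers here

import Cfsg.Agent.Lib.LocalEven.PReduced

set_option autoImplicit false
open Cfsg
open scoped commutatorElement

namespace Cfsg.Agent.S2810

/-- Let H be a finite group of characteristic p and L a subgroup of H centralizing every factor of some H-invariant chain 1 = A₀ ≤ A₁ ≤ … ≤ Aₙ = O_p(H) of normal subgroups (that is, [A_{i+1}, L] ≤ Aᵢ for each i). Then L ≤ O_p(H). -/
theorem result {H : Type*} [Group H] [Finite H] {p : ℕ} [Fact p.Prime] (hchar : Subgroup.centralizer (Cfsg.pCore p H : Set H) ≤ Cfsg.pCore p H) (L : Subgroup H) (n : ℕ) (A : Fin (n + 1) → Subgroup H) (h0 : A 0 = ⊥) (hn : A (Fin.last n) = Cfsg.pCore p H) (hmono : Monotone A) (hnorm : ∀ i, (A i).Normal) (hcent : ∀ i : Fin n, ⁅A i.succ, L⁆ ≤ A i.castSucc) : L ≤ Cfsg.pCore p H := by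
  have hp' := CfsgLib.PRed.pCore_isPGroup (p := p) (G := H)
  -- a p'-element stabilizing the chain is trivial
  have key : ∀ x : H, (∀ i : Fin n, ∀ a ∈ A i.succ, ⁅a, x⁆ ∈ A i.castSucc) →
      (orderOf x).Coprime p → x = 1 := by
    intro x hx hxp
    have hQ : ∀ i : Fin (n + 1), ∀ a ∈ A i, Commute a x := by
      intro i
      induction i using Fin.induction with
      | zero =>
        intro a ha
        rw [h0, Subgroup.mem_bot] at ha
        subst ha
        exact Commute.one_left x
      | succ i ih =>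
        intro r hr
        have hc := hx i r hr
        exact CfsgLib.PRed.commute_of_coprime hp' hxp (hn ▸ hmono (Fin.le_last _) hc) (ih _ hc)
    refine CfsgLib.PRed.eq_one_of_coprime hp' hxp (hchar (Subgroup.mem_centralizer_iff.mpr ?_))
    intro r hr
    exact hQ (Fin.last n) r (hn ▸ hr)
  -- the normal subgroup of elements stabilizing the chain
  let N : Subgroup H := ⨅ i : Fin n,
    haveI := hnorm i.castSucc
    Cfsg.sectionKernel (A i.succ) (A i.castSucc)
  have hmemN : ∀ g : H, g ∈ N ↔ ∀ i : Fin n, ∀ a ∈ A i.succ, ⁅a, g⁆ ∈ A i.castSucc := by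
    intro g
    simp only [N, Subgroup.mem_iInf]
    refine forall_congr' fun i => ?_
    haveI := hnorm i.castSucc
    rw [Cfsg.sectionKernel, Subgroup.mem_comap, Subgroup.mem_centralizer_iff]
    simp only [SetLike.mem_coe, Subgroup.mem_map, forall_exists_index, and_imp,
      forall_apply_eq_imp_iff₂]
    refine forall₂_congr fun a _ => ?_
    rw [← commutatorElement_eq_one_iff_mul_comm, ← map_commutatorElement, QuotientGroup.mk'_apply,
      QuotientGroup.eq_one_iff]
  have hNn : N.Normal := by
    refine ⟨fun g hg c => (hmemN _).mpr fun i a ha => ?_⟩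
    have h1 := (hmemN g).mp hg i (c⁻¹ * a * c⁻¹⁻¹) ((hnorm i.succ).conj_mem a ha c⁻¹)
    have h2 := (hnorm i.castSucc).conj_mem _ h1 c
    rw [conjugate_commutatorElement] at h2
    convert h2 using 2
    group
  have hLN : L ≤ N := fun g hg => (hmemN g).mpr fun i a ha =>
    hcent i (Subgroup.commutator_mem_commutator ha hg)
  exact hLN.trans (CfsgLib.PRed.le_pCore hNn
    (CfsgLib.PRed.isPGroup_of_coprime N fun x hx => key x ((hmemN x).mp hx)))

end Cfsg.Agent.S2810
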