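import Cfsg.Statements.S2812
-- import your own Cfsg.Agent.* helpers here

import Cfsg.Agent.Lib.LocalEven.FStarCoprime
import Mathlib.GroupTheory.Abelianization.Finite
import Mathlib.GroupTheory.Frattini

set_option autoImplicit false
open Cfsg
open scoped commutatorElement

namespace Cfsg.Agent.S2812

/-- Let H be a subgroup of the finite group G with O_p(H) = 1, Y a p-subgroup of G normalizing H, and L a subgroup of the generalized Fitting subgroup F*(H) that is subnormal in H and normalized by Y. Then L = [L, Y]·C_L(Y) and [L, Y] = [L, Y, Y]. -/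
theorem result {G : Type*} [Group G] [Finite G] {p : ℕ} [Fact p.Prime] (H : Subgroup G) (hO : Cfsg.pCore p ↥H = ⊥) (Y : Subgroup G) (hY : IsPGroup p ↥Y) (hYH : Y ≤ Subgroup.normalizer (H : Set G)) (L : Subgroup G) (hLF : L ≤ (Cfsg.generalizedFittingSubgroup ↥H).map H.subtype) (hLsn : (L.subgroupOf H).IsSubnormal) (hYL : Y ≤ Subgroup.normalizer (L : Set G)) : ⁅L, Y⁆ ⊔ (L ⊓ Subgroup.centralizer (Y : Set G)) = L ∧ ⁅L, Y⁆ = ⁅⁅L, Y⁆, Y⁆ := by
  -- `L` inside `H`
  have hLH : L ≤ H := hLF.trans (Subgroup.map_subtype_le _)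
  have hLF' : L.subgroupOf H ≤ Cfsg.generalizedFittingSubgroup ↥H := fun x hx => by
    obtain ⟨y, hy, hyx⟩ := hLF hx
    rwa [← H.subtype_injective hyx]
  obtain ⟨hF, hO'⟩ := CfsgLib.FStarCop.good_of_isSubnormal hO hLsn hLF'
  have hgood : CfsgLib.FStarCop.Good p L := by
    refine ⟨?_, ?_⟩
    · exact CfsgLib.Components39.generalizedFitting_eq_top_of_equiv (Subgroup.subgroupOfEquivOfLe hLH) hF
    · have h := CfsgLib.PRed.pCore_map_le (p := p) (Subgroup.subgroupOfEquivOfLe hLH).symm.toMonoidHom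
        (Subgroup.subgroupOfEquivOfLe hLH).symm.surjective
      rw [hO', le_bot_iff] at h
      exact (Subgroup.map_eq_bot_iff_of_injective _ (Subgroup.subgroupOfEquivOfLe hLH).symm.injective).mp h
  exact ⟨CfsgLib.FStarCop.commutator_sup_centralizer hgood hY hYL,
    (CfsgLib.FStarCop.commutator_commutator_eq hgood hY hYL).symm⟩

end Cfsg.Agent.S2812
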