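import Cfsg.Statements.S2813
-- import your own Cfsg.Agent.* helpers here

import Cfsg.Agent.Lib.LocalEven.PReducedSub

set_option autoImplicit false
open Cfsg
open scoped commutatorElement

namespace Cfsg.Agent.S2813

/-- Let K be a subgroup of the finite group H with O_p(K) = 1 and Y a p-subgroup of N_H(K) with [K, Y, Y] = 1. Then [K, Y] = 1. -/
theorem result {H : Type*} [Group H] [Finite H] {p : ℕ} [Fact p.Prime] (K : Subgroup H) (hO : Cfsg.pCore p ↥K = ⊥) (Y : Subgroup H) (hY : IsPGroup p ↥Y) (hYK : Y ≤ Subgroup.normalizer (K : Set H)) (hq : ⁅⁅K, Y⁆, Y⁆ = ⊥) : ⁅K, Y⁆ = ⊥ := by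
  have hn : ⁅K, Y⁆ ≤ K := Subgroup.le_normalizer_iff_commutator_le_left.mp hYK
  have hyc : ∀ a ∈ ⁅K, Y⁆, ∀ y ∈ Y, Commute a y := fun a ha y hy =>
    commutatorElement_eq_one_iff_commute.mp
      (Subgroup.mem_bot.mp (hq ▸ Subgroup.commutator_mem_commutator ha hy))
  have hKn : K ≤ Subgroup.normalizer (⁅K, Y⁆ : Subgroup H) := Subgroup.normalizer_commutator_ge_left K Y
  -- `[K,Y]` is abelian
  have hab : IsMulCommutative ↥⁅K, Y⁆ := by
    rw [← Subgroup.le_centralizer_iff_isMulCommutative, Subgroup.commutator_le]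
    intro k hk y hy
    rw [Subgroup.mem_centralizer_iff]
    intro a ha
    have ha' : k⁻¹ * a * k ∈ ⁅K, Y⁆ := by
      simpa using (Subgroup.mem_normalizer_iff.mp (inv_mem (hKn hk)) a).mp ha
    have h1 : Commute (k⁻¹ * a * k) y := hyc _ ha' y hy
    have h2 : Commute a (k * y * k⁻¹) := by
      unfold Commute SemiconjBy at h1 ⊢
      calc a * (k * y * k⁻¹) = k * ((k⁻¹ * a * k) * y) * k⁻¹ := by group
        _ = k * (y * (k⁻¹ * a * k)) * k⁻¹ := by rw [h1]
        _ = k * y * k⁻¹ * a := by group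
    have h3 : Commute a ⁅k, y⁆ := by
      rw [show ⁅k, y⁆ = k * y * k⁻¹ * y⁻¹ from rfl]
      exact h2.mul_right (hyc a ha y hy).inv_right
    exact h3.eq
  -- its `p`-part is trivial
  have hA : ∀ a ∈ ⁅K, Y⁆, ∀ m : ℕ, a ^ p ^ m = 1 → a = 1 := by
    intro a ha m hm
    have hcc := Subgroup.le_centralizer_iff_isMulCommutative.mpr hab
    let P : Subgroup ↥K :=
      { carrier := {z | (z : H) ∈ ⁅K, Y⁆ ∧ ∃ j : ℕ, (z : H) ^ p ^ j = 1}
        one_mem' := ⟨Subgroup.one_mem _, 0, by simp⟩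
        mul_mem' := by
          rintro x y ⟨hx, i, hi⟩ ⟨hy, j, hj⟩
          refine ⟨Subgroup.mul_mem _ hx hy, i + j, ?_⟩
          have hc : Commute (x : H) (y : H) := hcc hy x hx
          rw [Subgroup.coe_mul, hc.mul_pow, pow_add, pow_mul, hi, one_pow, one_mul, mul_comm,
            pow_mul, hj, one_pow]
        inv_mem' := by
          rintro x ⟨hx, i, hi⟩
          refine ⟨Subgroup.inv_mem _ hx, i, ?_⟩
          rw [Subgroup.coe_inv, inv_pow, hi, inv_one] }
    have hPn : P.Normal := by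
      refine ⟨fun z hz g => ⟨?_, hz.2.choose, ?_⟩⟩
      · exact (Subgroup.mem_normalizer_iff.mp (hKn g.2) _).mp hz.1
      · rw [Subgroup.coe_mul, Subgroup.coe_mul, Subgroup.coe_inv, conj_pow, hz.2.choose_spec,
          mul_one, mul_inv_cancel]
    have hPp : IsPGroup p P := isPGroup_iff_pow_pow_eq_one.mpr fun z =>
      ⟨z.2.2.choose, Subtype.ext (Subtype.ext (by simpa using z.2.2.choose_spec))⟩
    have hle := CfsgLib.PRed.le_pCore hPn hPp
    rw [hO] at hle
    have h1 := Subgroup.mem_bot.mp (hle (x := ⟨a, hn ha⟩) ⟨ha, m, hm⟩)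
    exact congrArg Subtype.val h1
  rw [Subgroup.commutator_eq_bot_iff_le_centralizer]
  intro k hk
  rw [Subgroup.mem_centralizer_iff]
  intro y hy
  obtain ⟨m, hm⟩ := (isPGroup_iff_pow_pow_eq_one.mp hY) ⟨y, hy⟩
  have hm' : y ^ p ^ m = 1 := by simpa [Subtype.ext_iff] using hm
  have hc := Subgroup.commutator_mem_commutator hk hy
  have e1 : k * y ^ p ^ m * k⁻¹ = ⁅k, y⁆ ^ p ^ m * y ^ p ^ m := by
    rw [← conj_pow, show k * y * k⁻¹ = ⁅k, y⁆ * y by group, (hyc _ hc y hy).mul_pow]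
  rw [hm', mul_one, mul_inv_cancel, mul_one] at e1
  exact (commutatorElement_eq_one_iff_mul_comm.mp (hA _ hc m e1.symm)).symm

end Cfsg.Agent.S2813
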