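import Cfsg.Statements.S2814
-- import your own Cfsg.Agent.* helpers here

import Cfsg.Agent.Lib.LocalEven.PIrreducible
import Cfsg.Agent.Lib.Structure.NilpotentSubnormal

set_option autoImplicit false
open Cfsg
open scoped commutatorElement

namespace Cfsg.Agent.S2814

/-- Let A be a subgroup of the finite group H and K the subnormal closure of A (intersection of the subnormal subgroups containing A). Then K is the normal closure of A inside K and N_H(A) ≤ N_H(K); K = A·O^p(K), O^p(K) being generated by the elements of K of order prime to p; and if A is a p-group, O^p(K) = [O^p(K), A]. -/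
theorem result {H : Type*} [Group H] [Finite H] {p : ℕ} [Fact p.Prime] (A : Subgroup H) (K : Subgroup H) (hK : K = Cfsg.subnormalClosure A) : (Subgroup.normalClosure ((A.subgroupOf K : Subgroup ↥K) : Set ↥K)).map K.subtype = K ∧ Subgroup.normalizer (A : Set H) ≤ Subgroup.normalizer (K : Set H) ∧ A ⊔ (Cfsg.pResidual p ↥K).map K.subtype = K ∧ (IsPGroup p ↥A → ⁅(Cfsg.pResidual p ↥K).map K.subtype, A⁆ = (Cfsg.pResidual p ↥K).map K.subtype) := by
  have hsub : ∀ s : Set (Subgroup H), (∀ S ∈ s, S.IsSubnormal) → (sInf s).IsSubnormal := by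
    intro s hs
    refine Set.Finite.induction_on_subset _ (Set.toFinite s) ?_ fun {a t} ha _ _ ih => ?_
    · rw [sInf_empty]; exact Subgroup.IsSubnormal.top
    · rw [sInf_insert]; exact (hs a ha).inf ih
  have hAK : A ≤ K := hK ▸ le_sInf fun S hS => hS.1
  have hKsn : K.IsSubnormal := hK ▸ hsub _ fun S hS => hS.2
  have hmin : ∀ S : Subgroup H, A ≤ S → S.IsSubnormal → K ≤ S := fun S h1 h2 => hK ▸ sInf_le ⟨h1, h2⟩
  set N0 := Subgroup.normalClosure ((A.subgroupOf K : Subgroup ↥K) : Set ↥K) with hN0
  have h1 : N0.map K.subtype = K :=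
    le_antisymm (Subgroup.map_subtype_le _) (hmin _
      (fun a ha => ⟨⟨a, hAK ha⟩, Subgroup.subset_normalClosure ha, rfl⟩)
      (Subgroup.IsSubnormal.trans' Subgroup.normalClosure_normal.isSubnormal hKsn))
  set O := (Cfsg.pResidual p ↥K).map K.subtype with hO
  haveI hOn := CfsgLib.PRed.pResidual_normal (p := p) (G := ↥K)
  -- overgroups of `O^p(K)` are subnormal
  have h3 : A ⊔ O = K := by
    refine le_antisymm (sup_le hAK (Subgroup.map_subtype_le _)) (hmin _ le_sup_left ?_)
    set X : Subgroup ↥K := A.subgroupOf K ⊔ Cfsg.pResidual p ↥K with hX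
    have hXs : X.IsSubnormal := by
      haveI := (CfsgLib.PRed.isPGroup_quotient_pResidual (p := p) (G := ↥K)).isNilpotent
      have h := (CfsgLib.Structure.isSubnormal_of_isNilpotent
        (X.map (QuotientGroup.mk' (Cfsg.pResidual p ↥K)))).comap (QuotientGroup.mk' (Cfsg.pResidual p ↥K))
      rwa [Subgroup.comap_map_eq_self (by rw [QuotientGroup.ker_mk']; exact le_sup_right)] at h
    have := Subgroup.IsSubnormal.trans' hXs hKsn
    rwa [hX, Subgroup.map_sup, Subgroup.map_subgroupOf_eq_of_le hAK] at this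
  refine ⟨h1, ?_, h3, fun hAp => ?_⟩
  · intro g hg
    have hgA : A.map (MulAut.conj g⁻¹).toMonoidHom = A :=
      Subgroup.mem_normalizer_iff_map_conj_eq.mp (inv_mem hg)
    refine CfsgLib.PRed.mem_normalizer_of_conj_mem fun x hx => ?_
    have hle := hmin (K.map (MulAut.conj g⁻¹).toMonoidHom) (hgA ▸ Subgroup.map_mono hAK)
      (hKsn.map (MulAut.conj g⁻¹).surjective)
    obtain ⟨y, hy, rfl⟩ := hle hx
    show g * (g⁻¹ * y * g⁻¹⁻¹) * g⁻¹ ∈ K
    rwa [show g * (g⁻¹ * y * g⁻¹⁻¹) * g⁻¹ = y by group]
  · set A' := A.subgroupOf K with hA'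
    set O' := Cfsg.pResidual p ↥K with hO'
    set R := ⁅O', A'⁆ with hR
    suffices hle : O' ≤ R by
      have heq : ⁅O', A'⁆ = O' := le_antisymm (Subgroup.commutator_le_left _ _) hle
      have := congrArg (Subgroup.map K.subtype) heq
      rwa [Subgroup.map_commutator, Subgroup.map_subgroupOf_eq_of_le hAK] at this
    have htop : A' ⊔ O' = ⊤ := Subgroup.map_injective K.subtype_injective (by
      rw [Subgroup.map_sup, Subgroup.map_subgroupOf_eq_of_le hAK, h3, ← MonoidHom.range_eq_map,
        Subgroup.range_subtype])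
    haveI hRn : R.Normal := by
      rw [← Subgroup.normalizer_eq_top_iff, eq_top_iff, ← htop]
      exact sup_le (Subgroup.normalizer_commutator_ge_right _ _) (Subgroup.normalizer_commutator_ge_left _ _)
    haveI hARn : (A' ⊔ R).Normal := by
      rw [← Subgroup.normalizer_eq_top_iff, eq_top_iff, ← htop]
      refine sup_le (le_sup_left.trans Subgroup.le_normalizer) fun k hk =>
        CfsgLib.PRed.mem_normalizer_of_conj_mem fun x hx => ?_
      have hle : A' ⊔ R ≤ (A' ⊔ R).comap (MulAut.conj k).toMonoidHom := by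
        refine sup_le (fun a ha => ?_) (fun r hr => Subgroup.mem_sup_right (hRn.conj_mem r hr k))
        show k * a * k⁻¹ ∈ A' ⊔ R
        rw [show k * a * k⁻¹ = ⁅k, a⁆ * a by group]
        exact Subgroup.mul_mem _ (Subgroup.mem_sup_right (Subgroup.commutator_mem_commutator hk ha))
          (Subgroup.mem_sup_left ha)
      exact hle hx
    have hN0top : N0 = ⊤ := Subgroup.map_injective K.subtype_injective (by
      rw [h1, ← MonoidHom.range_eq_map, Subgroup.range_subtype])
    have : (⊤ : Subgroup ↥K) ≤ R ⊔ A' := by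
      rw [← hN0top, sup_comm]
      exact Subgroup.normalClosure_le_normal fun a ha => Subgroup.mem_sup_left ha
    exact CfsgLib.PIrr.pResidual_le_of_pResidual_le_sup hAp.comap_subtype (le_top.trans this)

end Cfsg.Agent.S2814
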