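import Cfsg.Statements.S2815
-- import your own Cfsg.Agent.* helpers here

import Cfsg.Agent.Lib.LocalEven.PIrreducible
import Cfsg.Prelude.Def_Local

set_option autoImplicit false
open Cfsg
open scoped commutatorElement

namespace Cfsg.Agent.S2815

/-- Let H be a finite group and p a prime dividing its order with O_p(H) = 1, and suppose K = O^p(H) (generated by the elements of order prime to p) is quasisimple. Then K = F*(H); for every nontrivial p-subgroup Y of H, K = [K, Y] and K lies in the subgroup generated by the K-conjugates of Y; every normal subgroup of H not containing K has order prime to p; and H is p-irreducible. -/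
theorem result {H : Type*} [Group H] [Finite H] {p : ℕ} [Fact p.Prime] (hp : p ∣ Nat.card H) (hO : Cfsg.pCore p H = ⊥) (hq : Cfsg.IsQuasisimple ↥(Cfsg.pResidual p H)) : Cfsg.pResidual p H = Cfsg.generalizedFittingSubgroup H ∧ (∀ Y : Subgroup H, IsPGroup p ↥Y → Y ≠ ⊥ → ⁅Cfsg.pResidual p H, Y⁆ = Cfsg.pResidual p H ∧ Cfsg.pResidual p H ≤ ⨆ k : ↥(Cfsg.pResidual p H), Y.map (MulAut.conj (k : H)).toMonoidHom) ∧ (∀ C : Subgroup H, C.Normal → ¬ Cfsg.pResidual p H ≤ C → (Nat.card ↥C).Coprime p) ∧ Cfsg.IsPIrreducible p H := by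
  have hp' : p.Prime := Fact.out
  set K := Cfsg.pResidual p H with hK
  haveI hKn : K.Normal := CfsgLib.PRed.pResidual_normal
  obtain ⟨hperf, hsimp⟩ := hq
  haveI := hsimp
  set Z : Subgroup H := (Subgroup.center ↥K).map K.subtype with hZ
  have hZK : Z ≤ K := Subgroup.map_subtype_le _
  have hKK : ⁅K, K⁆ = K := by
    rw [← Subgroup.map_subtype_commutator, Group.isPerfect_def.mp hperf, ← MonoidHom.range_eq_map,
      Subgroup.range_subtype]
  have hKne : ¬ K ≤ Z := by
    intro h
    haveI : Subsingleton (↥K ⧸ Subgroup.center ↥K) :=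
      QuotientGroup.subsingleton_iff.mpr (top_le_iff.mp fun x _ => (Subgroup.mem_map_iff_mem K.subtype_injective).mp (h x.2))
    exact false_of_nontrivial_of_subsingleton (↥K ⧸ Subgroup.center ↥K)
  have hZc : ⁅K, Z⁆ = ⊥ := by
    rw [Subgroup.commutator_eq_bot_iff_le_centralizer]
    intro k hk
    rw [Subgroup.mem_centralizer_iff]
    rintro _ ⟨z, hz, rfl⟩
    exact (congrArg Subtype.val (Subgroup.mem_center_iff.mp hz ⟨k, hk⟩)).symm
  -- subgroups of `K` normalized by `K`
  have hdich : ∀ X : Subgroup H, X ≤ K → K ≤ Subgroup.normalizer (X : Set H) → X = K ∨ X ≤ Z := by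
    intro X hX hn
    haveI : (X.subgroupOf K).Normal := Subgroup.normal_subgroupOf_of_le_normalizer hn
    rcases ((inferInstance : (X.subgroupOf K).Normal).map (QuotientGroup.mk' (Subgroup.center ↥K))
        (QuotientGroup.mk'_surjective _)).eq_bot_or_eq_top with h | h
    · right
      rw [Subgroup.map_eq_bot_iff, QuotientGroup.ker_mk'] at h
      exact fun x hx => ⟨⟨x, hX hx⟩, h hx, rfl⟩
    · left
      refine le_antisymm hX ?_
      have htop : X.subgroupOf K ⊔ Subgroup.center ↥K = ⊤ := by
        rw [← QuotientGroup.ker_mk' (Subgroup.center ↥K), ← Subgroup.comap_map_eq, h, Subgroup.comap_top]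
      have hc : ⁅(⊤ : Subgroup ↥K), ⊤⁆ ≤ X.subgroupOf K := by
        rw [Subgroup.commutator_le]
        intro a _ b _
        obtain ⟨x, hx, z, hz, rfl⟩ := Subgroup.mem_sup_of_normal_left.mp (htop ▸ Subgroup.mem_top a)
        obtain ⟨y, hy, w, hw, rfl⟩ := Subgroup.mem_sup_of_normal_left.mp (htop ▸ Subgroup.mem_top b)
        have h1 : ⁅x * z, y * w⁆ = ⁅x, y⁆ := by
          have hzc := Subgroup.mem_center_iff.mp hz
          have hwc := Subgroup.mem_center_iff.mp hw
          have e1 : ⁅z, y * w⁆ = 1 := commutatorElement_eq_one_iff_mul_comm.mpr (hzc _).symm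
          have e2 : ⁅x, w⁆ = 1 := commutatorElement_eq_one_iff_mul_comm.mpr (hwc _)
          rw [commutatorElement_mul_left_eq_conj_mul, e1, commutatorElement_mul_right_eq_mul_conj, e2]
          group
        rw [h1]
        exact (X.subgroupOf K).mul_mem ((X.subgroupOf K).mul_mem ((X.subgroupOf K).mul_mem hx hy)
          ((X.subgroupOf K).inv_mem hx)) ((X.subgroupOf K).inv_mem hy)
      rw [← commutator_def, Group.isPerfect_def.mp hperf] at hc
      exact fun x hx => hc (x := ⟨x, hx⟩) trivial
  -- anything moving `K` only into `Z` centralizes it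
  have hcent : ∀ C : Subgroup H, ⁅K, C⁆ ≤ Z → ⁅K, C⁆ = ⊥ := by
    intro C hC
    have h1 : ⁅⁅C, K⁆, K⁆ = ⊥ := le_bot_iff.mp <| by
      rw [← hZc, Subgroup.commutator_comm K Z, Subgroup.commutator_comm C K]
      exact Subgroup.commutator_mono hC le_rfl
    have h2 : ⁅⁅K, C⁆, K⁆ = ⊥ := by rwa [Subgroup.commutator_comm K C]
    have := Subgroup.commutator_commutator_eq_bot_of_rotate h2 h1
    rwa [hKK] at this
  -- subgroups centralizing `K` have order prime to `p`
  have hCK : ∀ x ∈ Subgroup.centralizer (K : Set H), ∀ k : ℕ, x ^ p ^ k = 1 → x = 1 := by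
    set C := Subgroup.centralizer (K : Set H) with hC
    have hCKZ : C ⊓ K ≤ Z := fun x hx =>
      ⟨⟨x, hx.2⟩, Subgroup.mem_center_iff.mpr fun y => Subtype.ext (Subgroup.mem_centralizer_iff.mp hx.1 y y.2), rfl⟩
    have hnil : Group.IsNilpotent ↥C := by
      have hp2 : IsPGroup p (↥C ⧸ K.subgroupOf C) := by
        rw [isPGroup_iff_pow_pow_eq_one]
        intro q
        obtain ⟨x, rfl⟩ := QuotientGroup.mk_surjective q
        obtain ⟨k, hk⟩ := CfsgLib.PRed.exists_pow_pow_mem_pResidual (p := p) (x : H)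
        exact ⟨k, by rw [← QuotientGroup.mk_pow, QuotientGroup.eq_one_iff, Subgroup.mem_subgroupOf]; simpa using hk⟩
      haveI := hp2.isNilpotent
      refine Subgroup.isNilpotent_of_ker_le_center (QuotientGroup.mk' (K.subgroupOf C)) ?_
      rw [QuotientGroup.ker_mk']
      intro x hx
      exact Subgroup.mem_center_iff.mpr fun y => Subtype.ext (Subgroup.mem_centralizer_iff.mp y.2 _ hx).symm
    intro x hx k hk
    obtain ⟨S, hS⟩ : ∃ S : Sylow p ↥C, (⟨x, hx⟩ : C) ∈ (S : Subgroup ↥C) := by
      have hz : IsPGroup p (Subgroup.zpowers (⟨x, hx⟩ : C)) :=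
        IsPGroup.of_card_dvd_pow (n := k) (by
          rw [Nat.card_zpowers]; exact orderOf_dvd_of_pow_eq_one (Subtype.ext (by simpa using hk)))
      obtain ⟨S, hS⟩ := hz.exists_le_sylow
      exact ⟨S, hS (Subgroup.mem_zpowers _)⟩
    haveI := hnil
    have hSn : (S : Subgroup ↥C).Normal := (IsPGroup.to_le (H := (S : Subgroup ↥C)) S.2 le_rfl) |> fun _ =>
      Sylow.normal_of_normalizerCondition Group.normalizerCondition_of_isNilpotent S
    haveI := S.characteristic_of_normal hSn
    have hle := CfsgLib.PRed.le_pCore (ConjAct.normal_of_characteristic_of_normal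
      (H := C) (K := (S : Subgroup ↥C))) (S.2.map C.subtype) ⟨⟨x, hx⟩, hS, rfl⟩
    rwa [hO, Subgroup.mem_bot] at hle
  have hnot : ∀ C : Subgroup H, C.Normal → ¬ K ≤ C → ¬ p ∣ Nat.card C := by
    intro C hC hKC hd
    haveI := hC
    have hc : ⁅K, C⁆ = ⊥ := by
      refine hcent C ?_
      have h1 : ⁅K, C⁆ ≤ C ⊓ K := le_inf (Subgroup.commutator_le_right _ _) (Subgroup.commutator_le_left _ _)
      rcases hdich (C ⊓ K) inf_le_right Subgroup.le_normalizer_of_normal with h | h
      · exact absurd (h ▸ inf_le_left) hKC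
      · exact h1.trans h
    obtain ⟨x, hx⟩ := exists_prime_orderOf_dvd_card' p hd
    have h1 : (x : H) = 1 := hCK x
      (Subgroup.le_centralizer_iff.mp (Subgroup.commutator_eq_bot_iff_le_centralizer.mp hc) x.2) 1
      (by rw [pow_one, ← hx, ← Subgroup.orderOf_coe, pow_orderOf_eq_one])
    rw [← Subgroup.orderOf_coe, h1, orderOf_one] at hx
    exact hp'.one_lt.ne hx
  refine ⟨?_, fun Y hY hY1 => ?_, fun C hC hKC => ?_, ?_, fun N hN hncl => ?_⟩
  · refine le_antisymm ?_ (sup_le (sSup_le ?_) (sSup_le ?_))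
    · have hcomp : Cfsg.IsComponent K := ⟨hKn.isSubnormal, hperf, hsimp⟩
      exact le_trans (le_sSup (s := {L : Subgroup H | Cfsg.IsComponent L}) hcomp) le_sup_left
    · rintro L ⟨hLs, hLp, -⟩
      -- a perfect group with `p`-quotient
      have h1 : Cfsg.pResidual p ↥L = ⊤ := by
        by_contra hne
        haveI := CfsgLib.PRed.pResidual_normal (p := p) (G := ↥L)
        haveI : Nontrivial (↥L ⧸ Cfsg.pResidual p ↥L) :=
          not_subsingleton_iff_nontrivial.mp fun h => hne (QuotientGroup.subsingleton_iff.mp h)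
        haveI := (CfsgLib.PRed.isPGroup_quotient_pResidual (p := p) (G := ↥L)).isNilpotent
        haveI := hLp
        exact (Group.IsPerfect.not_isNilpotent (↥L ⧸ Cfsg.pResidual p ↥L)) inferInstance
      have h2 := congrArg (Subgroup.map L.subtype) h1
      rw [← MonoidHom.range_eq_map, Subgroup.range_subtype] at h2
      rw [← h2]
      exact CfsgLib.PRed.pResidual_map_le L.subtype
    · rintro F ⟨hFn, hFnil⟩
      refine fun x hx => CfsgLib.PRed.mem_pResidual ?_
      by_contra hco
      have hd : p ∣ orderOf x := by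
        by_contra h; exact hco ((hp'.coprime_iff_not_dvd.mpr h).symm)
      have hdF : p ∣ Nat.card F := hd.trans (by
        have := orderOf_dvd_natCard (⟨x, hx⟩ : F)
        rwa [← Subgroup.orderOf_coe] at this)
      obtain ⟨S⟩ : Nonempty (Sylow p ↥F) := inferInstance
      haveI := hFnil
      have hSn := Sylow.normal_of_normalizerCondition (Group.normalizerCondition_of_isNilpotent (G := ↥F)) S
      haveI := S.characteristic_of_normal hSn
      haveI := hFn
      have hle := CfsgLib.PRed.le_pCore (ConjAct.normal_of_characteristic_of_normal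
        (H := F) (K := (S : Subgroup ↥F))) (S.2.map F.subtype)
      rw [hO, le_bot_iff, Subgroup.map_eq_bot_iff_of_injective _ F.subtype_injective] at hle
      exact S.ne_bot_of_dvd_card hdF hle
  · have hnY : K ≤ Subgroup.normalizer ((⁅K, Y⁆ : Subgroup H) : Set H) := Subgroup.normalizer_commutator_ge_left _ _
    have hKY : ⁅K, Y⁆ = K := by
      refine (hdich _ (Subgroup.commutator_le_left _ _) hnY).resolve_right fun h => hY1 ?_
      have hYC : Y ≤ Subgroup.centralizer (K : Set H) :=
        Subgroup.le_centralizer_iff.mp (Subgroup.commutator_eq_bot_iff_le_centralizer.mp (hcent Y h))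
      rw [eq_bot_iff]
      intro y hy
      obtain ⟨k, hk⟩ := hY.exists_pow_pow_eq_one ⟨y, hy⟩
      exact hCK y (hYC hy) k (by simpa [Subtype.ext_iff] using hk)
    refine ⟨hKY, ?_⟩
    conv_lhs => rw [← hKY]
    rw [Subgroup.commutator_le]
    intro k hk y hy
    rw [commutatorElement_def]
    refine Subgroup.mul_mem _ (Subgroup.mem_iSup_of_mem ⟨k, hk⟩ ⟨y, hy, rfl⟩)
      (Subgroup.mem_iSup_of_mem (1 : ↥K) ⟨y⁻¹, Y.inv_mem hy, ?_⟩)
    simp
  · exact (hp'.coprime_iff_not_dvd.mpr (hnot C hC hKC)).symm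
  · intro h
    obtain ⟨T⟩ : Nonempty (Sylow p H) := inferInstance
    have := CfsgLib.PRed.le_pCore (h T) T.2
    rw [hO, le_bot_iff] at this
    exact T.ne_bot_of_dvd_card hp this
  · by_contra hKN
    refine hncl fun P => ?_
    haveI := hN
    have hnd := hnot N hN hKN
    have : (P : Subgroup ↥N) = ⊥ := by
      obtain ⟨n, hn⟩ := IsPGroup.iff_card.mp P.2
      rcases n with _ | n
      · exact Subgroup.card_eq_one.mp (by simpa using hn)
      · exact absurd ((dvd_pow_self p n.succ_ne_zero).trans (hn ▸ Subgroup.card_subgroup_dvd_card _)) hnd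
    rw [this]
    infer_instance

end Cfsg.Agent.S2815
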