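import Cfsg.Statements.S2816
-- import your own Cfsg.Agent.* helpers here

import Cfsg.Agent.Lib.LocalEven.FStarCoprime
import Mathlib.GroupTheory.Abelianization.Finite
import Mathlib.GroupTheory.Frattini

set_option autoImplicit false
open Cfsg
open scoped commutatorElement

namespace Cfsg.Agent.S2816

/-- Let H be a finite group and p a prime with O_p(H) = 1, and Y a p-subgroup of H. Then for every subnormal subgroup K of H containing Y, [F*(H), Y] = [F*(K), Y] = [F*(K), Y, Y]; and if Y₀ ≤ Y with [F*(H), Y, Y₀] = 1 then Y₀ = 1 (in particular [F*(H), Y] = 1 forces Y = 1). -/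
theorem result {H : Type*} [Group H] [Finite H] {p : ℕ} [Fact p.Prime] (hO : Cfsg.pCore p H = ⊥) (Y : Subgroup H) (hY : IsPGroup p ↥Y) : (∀ K : Subgroup H, K.IsSubnormal → Y ≤ K → ⁅Cfsg.generalizedFittingSubgroup H, Y⁆ = ⁅(Cfsg.generalizedFittingSubgroup ↥K).map K.subtype, Y⁆ ∧ ⁅(Cfsg.generalizedFittingSubgroup ↥K).map K.subtype, Y⁆ = ⁅⁅(Cfsg.generalizedFittingSubgroup ↥K).map K.subtype, Y⁆, Y⁆) ∧ (∀ Y₀ : Subgroup H, Y₀ ≤ Y → ⁅⁅Cfsg.generalizedFittingSubgroup H, Y⁆, Y₀⁆ = ⊥ → Y₀ = ⊥) := by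
  have hFn := CfsgLib.Components.generalizedFitting_normal (G := H)
  have hgood := CfsgLib.FStarCop.good_fstar (p := p) hO
  set F := Cfsg.generalizedFittingSubgroup H
  have hYF : ∀ Z : Subgroup H, Z ≤ Subgroup.normalizer (F : Set H) := fun Z =>
    haveI := hFn
    Subgroup.le_normalizer_of_normal
  have hWW : ⁅⁅F, Y⁆, Y⁆ = ⁅F, Y⁆ := CfsgLib.FStarCop.commutator_commutator_eq hgood hY (hYF Y)
  refine ⟨fun K hK hYK => ?_, fun Y₀ hY₀ h => ?_⟩
  · have hWK : ⁅F, Y⁆ ≤ K := CfsgLib.FStarCop.commutator_le_of_isSubnormal hK hYK hWW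
    have heq : ⁅F, Y⁆ = ⁅(Cfsg.generalizedFittingSubgroup ↥K).map K.subtype, Y⁆ := by
      rw [CfsgLib.FStarCop.fstar_inf_subnormal hK]
      refine le_antisymm (hWW.ge.trans (Subgroup.commutator_mono (le_inf ?_ hWK) le_rfl))
        (Subgroup.commutator_mono inf_le_left le_rfl)
      exact CfsgLib.Coprime.commutator_le_of_normalizes (hYF Y)
    exact ⟨heq, by rw [← heq, hWW]⟩
  · have hY₀p : IsPGroup p ↥Y₀ := hY.to_le hY₀
    refine CfsgLib.FStarCop.eq_bot_of_centralizes_fstar hO hY₀p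
      (CfsgLib.FStarCop.commutator_eq_bot hgood hY₀p (hYF Y₀) (le_bot_iff.mp ?_))
    rw [← h]
    exact Subgroup.commutator_mono (Subgroup.commutator_mono le_rfl hY₀) le_rfl

end Cfsg.Agent.S2816
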