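import Cfsg.Statements.S2817
-- import your own Cfsg.Agent.* helpers here

import Cfsg.Agent.Lib.LocalEven.FStarCoprime
import Mathlib.GroupTheory.Abelianization.Finite
import Mathlib.GroupTheory.Frattini

set_option autoImplicit false
open Cfsg
open scoped commutatorElement

namespace Cfsg.Agent.S2817

/-- Let H be a finite group and p a prime with O_p(H) = 1, Q a p-subgroup of H, L = [F*(H), Q], and F the largest normal subgroup of F*(H) centralized by Q (a normal subgroup of F*(H) centralized by Q and containing every such). Then F = C_{F*(H)}(LQ); L = [L, Q]; L ∩ F ≤ Φ(L); every p-subgroup B of N_H(Q) with [L, B] ≤ F satisfies [L, B] = 1; and C_H(FL) has order prime to p. -/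
theorem result {H : Type*} [Group H] [Finite H] {p : ℕ} [Fact p.Prime] (hO : Cfsg.pCore p H = ⊥) (Q : Subgroup H) (hQ : IsPGroup p ↥Q) (L : Subgroup H) (hL : L = ⁅Cfsg.generalizedFittingSubgroup H, Q⁆) (F : Subgroup H) (hF : F ≤ Cfsg.generalizedFittingSubgroup H ∧ Cfsg.generalizedFittingSubgroup H ≤ Subgroup.normalizer (F : Set H) ∧ Q ≤ Subgroup.centralizer (F : Set H) ∧ ∀ N : Subgroup H, N ≤ Cfsg.generalizedFittingSubgroup H → Cfsg.generalizedFittingSubgroup H ≤ Subgroup.normalizer (N : Set H) → Q ≤ Subgroup.centralizer (N : Set H) → N ≤ F) : F = Cfsg.generalizedFittingSubgroup H ⊓ Subgroup.centralizer ((L ⊔ Q : Subgroup H) : Set H) ∧ ⁅L, Q⁆ = L ∧ L ⊓ F ≤ (frattini ↥L).map L.subtype ∧ (∀ B : Subgroup H, IsPGroup p ↥B → B ≤ Subgroup.normalizer (Q : Set H) → ⁅L, B⁆ ≤ F → ⁅L, B⁆ = ⊥) ∧ (Nat.card ↥(Subgroup.centralizer ((F ⊔ L : Subgroup H) : Set H))).Coprime p := by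
  set FS := Cfsg.generalizedFittingSubgroup H with hFS
  haveI hFSn : FS.Normal := CfsgLib.Components.generalizedFitting_normal
  obtain ⟨hFle, hFnorm, hFQ, hFmax⟩ := hF
  have hgood : CfsgLib.FStarCop.Good p FS := CfsgLib.FStarCop.good_fstar hO
  have hsup : L ⊔ (FS ⊓ Subgroup.centralizer (Q : Set H)) = FS :=
    hL ▸ CfsgLib.FStarCop.commutator_sup_centralizer hgood hQ Subgroup.le_normalizer_of_normal
  have hLQ : ⁅L, Q⁆ = L :=
    hL ▸ CfsgLib.FStarCop.commutator_commutator_eq hgood hQ Subgroup.le_normalizer_of_normal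
  have hLle : L ≤ FS := hL ▸ Subgroup.commutator_le_left _ _
  have hQL : Q ≤ Subgroup.normalizer (L : Set H) := hL ▸ Subgroup.normalizer_commutator_ge_right _ _
  have hFL : FS ≤ Subgroup.normalizer (L : Set H) := hL ▸ Subgroup.normalizer_commutator_ge_left _ _
  have hLsn : L.IsSubnormal :=
    Subgroup.IsSubnormal.step _ _ hLle hFSn.isSubnormal ((Subgroup.normal_subgroupOf_iff_le_normalizer hLle).mpr hFL)
  have hLgood : CfsgLib.FStarCop.Good p L := CfsgLib.FStarCop.good_of_isSubnormal hO hLsn hLle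
  have hFcQ : ⁅Q, F⁆ = ⊥ := Subgroup.commutator_eq_bot_iff_le_centralizer.mpr hFQ
  have hFcL : ⁅L, F⁆ = ⊥ := by
    rw [hL]
    refine Subgroup.commutator_commutator_eq_bot_of_rotate ?_ ?_
    · rw [hFcQ, Subgroup.commutator_bot_left]
    · have h1 : ⁅F, FS⁆ ≤ F :=
        (Subgroup.commutator_comm F FS).le.trans (CfsgLib.Coprime.commutator_le_of_normalizes (K := F) hFnorm |>.trans' (Subgroup.commutator_comm FS F).le)
      exact le_bot_iff.mp ((Subgroup.commutator_mono h1 le_rfl).trans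
        (by rw [Subgroup.commutator_comm, hFcQ]))
  have hLcF : L ≤ Subgroup.centralizer (F : Set H) := Subgroup.commutator_eq_bot_iff_le_centralizer.mp hFcL
  have hF1 : F = FS ⊓ Subgroup.centralizer ((L ⊔ Q : Subgroup H) : Set H) := by
    refine le_antisymm (le_inf hFle (Subgroup.le_centralizer_iff.mp (sup_le hLcF hFQ))) ?_
    refine hFmax _ inf_le_left ?_ (Subgroup.le_centralizer_iff.mp (inf_le_right.trans
      (Subgroup.centralizer_le (SetLike.coe_subset_coe.mpr le_sup_right))))
    have hn : FS ≤ Subgroup.normalizer ((L ⊔ Q : Subgroup H) : Set H) := by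
      refine le_of_eq_of_le hsup.symm (sup_le ?_ ?_)
      · exact le_sup_left.trans Subgroup.le_normalizer
      · refine Subgroup.le_normalizer_iff.2 fun c hc x hx => ?_
        have hsub : L ⊔ Q ≤ (L ⊔ Q).comap (MulAut.conj c).toMonoidHom := by
          refine sup_le (fun l hl => Subgroup.mem_sup_left ?_) (fun q hq => Subgroup.mem_sup_right ?_)
          · exact ((Subgroup.mem_normalizer_iff.mp (hFL hc.1)) l).mp hl
          · show c * q * c⁻¹ ∈ Q
            rw [← Subgroup.mem_centralizer_iff.mp hc.2 q hq, mul_inv_cancel_right]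
            exact hq
        exact hsub hx
    refine Subgroup.le_normalizer_iff.2 fun c hc x hx => ⟨hFSn.conj_mem x hx.1 c, ?_⟩
    refine Subgroup.mem_centralizer_iff.mpr ?_
    intro y hy
    have hy' : c⁻¹ * y * c ∈ L ⊔ Q := by
      simpa using ((Subgroup.mem_normalizer_iff.mp (hn (FS.inv_mem hc))) y).mp hy
    have h := Subgroup.mem_centralizer_iff.mp hx.2 _ hy'
    calc y * (c * x * c⁻¹) = c * (c⁻¹ * y * c * x) * c⁻¹ := by group
      _ = c * (x * (c⁻¹ * y * c)) * c⁻¹ := by rw [h]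
      _ = c * x * c⁻¹ * y := by group
  have hZcent : ∀ z ∈ L ⊓ F, ∀ l ∈ L, l * z = z * l := fun z hz l hl =>
    (Subgroup.mem_centralizer_iff.mp (hLcF hl) z hz.2).symm
  refine ⟨hF1, hLQ, ?_, ?_, ?_⟩
  · -- `L ∩ F ≤ Φ(L)`
    have key : ∀ z ∈ L ⊓ F, ∀ hz : z ∈ L, (⟨z, hz⟩ : ↥L) ∈ commutator ↥L := by
      intro z hz hzL
      letI := Fintype.ofFinite ↥Q
      have hconj : ∀ (q : ↥Q) (l : ↥L), (q : H) * (l : H) * (q : H)⁻¹ ∈ L := fun q l =>
        (Subgroup.mem_normalizer_iff.mp (hQL q.2) l).mp l.2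
      let φ : ↥Q → ↥L →* ↥L := fun q =>
        { toFun := fun l => ⟨(q : H) * (l : H) * (q : H)⁻¹, hconj q l⟩
          map_one' := Subtype.ext (by simp)
          map_mul' := fun a b => Subtype.ext (by simp [mul_assoc]) }
      let f : ↥L →* Abelianization ↥L :=
        { toFun := fun l => ∏ q : ↥Q, Abelianization.of (φ q l)
          map_one' := by simp
          map_mul' := fun a b => by simp [Finset.prod_mul_distrib] }
      have hinv : ∀ (q₀ : ↥Q) (l : ↥L), f (φ q₀ l) = f l := fun q₀ l =>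
        Fintype.prod_equiv (Equiv.mulRight q₀) _ _ fun q =>
          congrArg Abelianization.of (Subtype.ext (by simp [φ, mul_assoc]))
      have hf : ∀ x (hx : x ∈ L), f ⟨x, hx⟩ = 1 := by
        intro x hx
        have hx' : x ∈ ⁅L, Q⁆ := by rw [hLQ]; exact hx
        rw [Subgroup.commutator_def] at hx'
        have hgen : ∀ y ∈ Subgroup.closure {g | ∃ g₁ ∈ L, ∃ g₂ ∈ Q, ⁅g₁, g₂⁆ = g}, ∃ hy : y ∈ L, f ⟨y, hy⟩ = 1 := by
          intro y hy
          induction hy using Subgroup.closure_induction with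
          | mem y hy =>
            obtain ⟨l, hl, q, hq, rfl⟩ := hy
            have hmem : ⁅l, q⁆ ∈ L := CfsgLib.Coprime.commutator_le_of_normalizes hQL
              (Subgroup.commutator_mem_commutator hl hq)
            refine ⟨hmem, ?_⟩
            have e : (⟨⁅l, q⁆, hmem⟩ : ↥L) = ⟨l, hl⟩ * φ ⟨q, hq⟩ ⟨l⁻¹, L.inv_mem hl⟩ :=
              Subtype.ext (by simp [φ, commutatorElement_def, mul_assoc])
            rw [e, map_mul, hinv, ← map_mul]
            rw [show (⟨l, hl⟩ : ↥L) * ⟨l⁻¹, L.inv_mem hl⟩ = 1 from Subtype.ext (mul_inv_cancel l), map_one]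
          | one => exact ⟨L.one_mem, map_one f⟩
          | mul a b _ _ ha hb =>
            obtain ⟨ha, ha'⟩ := ha
            obtain ⟨hb, hb'⟩ := hb
            refine ⟨L.mul_mem ha hb, ?_⟩
            rw [show (⟨a * b, L.mul_mem ha hb⟩ : ↥L) = ⟨a, ha⟩ * ⟨b, hb⟩ from rfl, map_mul, ha', hb', one_mul]
          | inv a _ ha =>
            obtain ⟨ha, ha'⟩ := ha
            refine ⟨L.inv_mem ha, ?_⟩
            rw [show (⟨a⁻¹, L.inv_mem ha⟩ : ↥L) = (⟨a, ha⟩)⁻¹ from rfl, map_inv, ha', inv_one]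
        exact (hgen x hx').2
      have h1 : Abelianization.of (⟨z, hzL⟩ : ↥L) ^ Nat.card ↥Q = 1 := by
        rw [← hf z hzL]
        show _ = ∏ q : ↥Q, Abelianization.of (φ q ⟨z, hzL⟩)
        rw [Finset.prod_congr rfl fun q _ => congrArg Abelianization.of (show φ q ⟨z, hzL⟩ = ⟨z, hzL⟩ from
          Subtype.ext (by
            show (q : H) * z * (q : H)⁻¹ = z
            rw [← Subgroup.mem_centralizer_iff.mp (hFQ q.2) z hz.2, mul_inv_cancel_right])),
          Finset.prod_const, Finset.card_univ, Nat.card_eq_fintype_card]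
      obtain ⟨hLF, hLO⟩ := hLgood
      have hsurj : (Cfsg.fittingSubgroup ↥L).map (Abelianization.of (G := ↥L)) = ⊤ := by
        have hall : (Cfsg.generalizedFittingSubgroup ↥L).map (Abelianization.of (G := ↥L)) = ⊤ := by
          rw [hLF]
          exact Subgroup.map_top_of_surjective _ (fun x => QuotientGroup.mk_surjective x)
        rw [Cfsg.generalizedFittingSubgroup, Subgroup.map_sup] at hall
        have hbot : (Cfsg.layer ↥L).map (Abelianization.of (G := ↥L)) = ⊥ := by
          rw [Subgroup.map_eq_bot_iff, Abelianization.ker_of, ← CfsgLib.Components.commutator_layer_self (G := ↥L),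
            commutator_def]
          exact Subgroup.commutator_mono le_top le_top
        rwa [hbot, bot_sup_eq] at hall
      have hcop : (Nat.card (Abelianization ↥L)).Coprime p := by
        refine Nat.Coprime.coprime_dvd_left ?_ (CfsgLib.FStarCop.coprime_card_fitting hLO)
        rw [← Subgroup.card_top (G := Abelianization ↥L), ← hsurj]
        exact Subgroup.card_map_dvd _ _
      obtain ⟨n, hn⟩ := IsPGroup.iff_card.mp hQ
      have h2 : Abelianization.of (⟨z, hzL⟩ : ↥L) = 1 := by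
        have h3 := pow_gcd_eq_one.mpr ⟨h1, pow_card_eq_one' (x := Abelianization.of (⟨z, hzL⟩ : ↥L))⟩
        rwa [hn, Nat.Coprime.gcd_eq_one (hcop.symm.pow_left n), pow_one] at h3
      rwa [← MonoidHom.mem_ker, Abelianization.ker_of] at h2
    intro z hz
    refine ⟨⟨z, hz.1⟩, ?_, rfl⟩
    show (⟨z, hz.1⟩ : ↥L) ∈ frattini ↥L
    simp only [frattini, Order.radical, Subgroup.mem_iInf]
    intro M hM
    by_contra hzM
    have hzc : (⟨z, hz.1⟩ : ↥L) ∈ Subgroup.center ↥L :=
      Subgroup.mem_center_iff.mpr fun l => Subtype.ext (hZcent z hz l l.2)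
    have hMn : M.Normal := by
      refine Subgroup.normalizer_eq_top_iff.mp (hM.2 _ (lt_of_le_of_ne Subgroup.le_normalizer fun h => hzM ?_))
      exact h ▸ Subgroup.center_le_normalizer _ hzc
    have htop : Subgroup.center ↥L ⊔ M = ⊤ :=
      hM.2 _ (right_lt_sup.mpr fun h => hzM (h hzc))
    refine hzM ?_
    refine (?_ : commutator ↥L ≤ M) (key z hz hz.1)
    rw [commutator_def, Subgroup.commutator_le]
    intro a _ b _
    obtain ⟨x, hx, m, hm, rfl⟩ := Subgroup.mem_sup_of_normal_left.1 (htop ▸ Subgroup.mem_top a : a ∈ Subgroup.center ↥L ⊔ M)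
    rw [commutatorElement_mul_left_eq_conj_mul,
      commutatorElement_eq_one_iff_mul_comm.mpr (Subgroup.mem_center_iff.mp hx b).symm, mul_one]
    refine hMn.conj_mem _ ?_ x
    rw [commutatorElement_def]
    have := hMn.conj_mem _ (M.inv_mem hm) b
    simpa [mul_assoc] using M.mul_mem hm this
  · intro B hB hBQ hBF
    have hnLL : ∀ X : Subgroup H, X ≤ Subgroup.normalizer (Q : Set H) → X ≤ Subgroup.normalizer (L : Set H) := by
      intro X hX
      refine Subgroup.le_normalizer_iff.2 fun x hx l hl => ?_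
      have hsub : ⁅FS, Q⁆ ≤ L.comap (MulAut.conj x).toMonoidHom := by
        rw [Subgroup.commutator_le]
        intro a ha q hq
        show (MulAut.conj x) ⁅a, q⁆ ∈ L
        rw [map_commutatorElement, hL]
        exact Subgroup.commutator_mem_commutator (hFSn.conj_mem a ha x)
          ((Subgroup.mem_normalizer_iff.mp (hX hx) q).mp hq)
      rw [hL] at hl
      exact hsub hl
    have hBL := hnLL B hBQ
    set Q₀ := ⁅B, Q⁆ with hQ₀
    have hQ₀Q : Q₀ ≤ Q := by
      rw [hQ₀, Subgroup.commutator_comm]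
      exact CfsgLib.Coprime.commutator_le_of_normalizes hBQ
    have hLB : ⁅L, B⁆ ≤ L ⊓ F := le_inf (CfsgLib.Coprime.commutator_le_of_normalizes hBL) hBF
    -- the subgroup acting trivially on `L` modulo `L ⊓ F`
    have hQ₀Z : ⁅L, Q₀⁆ ≤ L ⊓ F := by
      refine Subgroup.commutator_le.mpr ?_
      intro l hl t ht
      suffices h : ∀ t ∈ Subgroup.closure {g | ∃ b ∈ B, ∃ q ∈ Q, ⁅b, q⁆ = g}, ∀ l ∈ L, ⁅l, t⁆ ∈ L ⊓ F by
        rw [hQ₀, Subgroup.commutator_def] at ht
        exact h t ht l hl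
      have hconjF : ∀ x ∈ Q, ∀ z ∈ L ⊓ F, x * z * x⁻¹ ∈ L ⊓ F := by
        intro x hx z hz
        rw [show x * z * x⁻¹ = z by rw [← Subgroup.mem_centralizer_iff.mp (hFQ hx) z hz.2, mul_inv_cancel_right]]
        exact hz
      intro t ht
      induction ht using Subgroup.closure_induction with
      | mem t ht =>
        obtain ⟨b, hb, q, hq, rfl⟩ := ht
        intro l hl
        have hq' : b * q⁻¹ * b⁻¹ ∈ Q := (Subgroup.mem_normalizer_iff.mp (hBQ hb) _).mp (Q.inv_mem hq)
        -- `⁅b, q⁆ = b * c` with `c` a conjugate of `b⁻¹` under `Q`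
        have h1 : ∀ l ∈ L, ⁅l, q * b⁻¹ * q⁻¹⁆ ∈ L ⊓ F := by
          intro l hl
          have hl' : q⁻¹ * l * q ∈ L := by
            simpa using (Subgroup.mem_normalizer_iff.mp (hQL (Q.inv_mem hq)) l).mp hl
          have := hconjF q hq _ (hLB (Subgroup.commutator_mem_commutator hl' (B.inv_mem hb)))
          have e : q * ⁅q⁻¹ * l * q, b⁻¹⁆ * q⁻¹ = ⁅l, q * b⁻¹ * q⁻¹⁆ := by
            simp only [commutatorElement_def]; group
          rwa [e] at this
        have hbb := hLB (Subgroup.commutator_mem_commutator hl hb)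
        have hc := h1 l hl
        have hcb : b * ⁅l, q * b⁻¹ * q⁻¹⁆ * b⁻¹ ∈ L ⊓ F := by
          -- `b` maps `⁅l, c⁆` into itself modulo `L ⊓ F`
          have h2 := hLB (Subgroup.commutator_mem_commutator hc.1 hb)
          have h3 := (L ⊓ F).mul_mem ((L ⊓ F).inv_mem h2) hc
          have e : (⁅⁅l, q * b⁻¹ * q⁻¹⁆, b⁆)⁻¹ * ⁅l, q * b⁻¹ * q⁻¹⁆ = b * ⁅l, q * b⁻¹ * q⁻¹⁆ * b⁻¹ := by
            simp only [commutatorElement_def]; group
          rwa [e] at h3
        have e : ⁅l, ⁅b, q⁆⁆ = ⁅l, b⁆ * (b * ⁅l, q * b⁻¹ * q⁻¹⁆ * b⁻¹) := by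
          simp only [commutatorElement_def]; group
        rw [e]
        exact (L ⊓ F).mul_mem hbb hcb
      | one => intro l _; rw [commutatorElement_one_right]; exact one_mem _
      | mul a b ha _ iha ihb =>
        intro l hl
        have haQ : a ∈ Q := hQ₀Q (by rw [hQ₀, Subgroup.commutator_def]; exact ha)
        rw [commutatorElement_mul_right_eq_mul_conj, mul_assoc, mul_assoc, ← mul_assoc a]
        exact (L ⊓ F).mul_mem (iha l hl) (hconjF a haQ _ (ihb l hl))
      | inv a ha iha =>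
        intro l hl
        have haQ : a ∈ Q := hQ₀Q (by rw [hQ₀, Subgroup.commutator_def]; exact ha)
        have hz := iha l hl
        have e : ⁅l, a⁻¹⁆ = a⁻¹ * (⁅l, a⁆)⁻¹ * a⁻¹⁻¹ := by simp only [commutatorElement_def]; group
        rw [e]
        exact hconjF a⁻¹ (Q.inv_mem haQ) _ ((L ⊓ F).inv_mem hz)
    have hQ₀L : ⁅L, Q₀⁆ = ⊥ := by
      refine CfsgLib.FStarCop.commutator_eq_bot hLgood (hQ.to_le hQ₀Q) (hQ₀Q.trans hQL) (le_bot_iff.mp ?_)
      rw [← hFcQ, Subgroup.commutator_comm Q F]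
      exact Subgroup.commutator_mono (hQ₀Z.trans inf_le_right) hQ₀Q
    have h1 : ⁅⁅B, Q⁆, L⁆ = ⊥ := by rw [Subgroup.commutator_comm, ← hQ₀, hQ₀L]
    have h2 : ⁅⁅L, B⁆, Q⁆ = ⊥ := le_bot_iff.mp <| by
      rw [← hFcQ, Subgroup.commutator_comm Q F]
      exact Subgroup.commutator_mono (hLB.trans inf_le_right) le_rfl
    have h3 := Subgroup.commutator_commutator_eq_bot_of_rotate h2 h1
    rwa [Subgroup.commutator_comm Q L, hLQ] at h3
  · rw [Nat.coprime_comm, (Fact.out : p.Prime).coprime_iff_not_dvd]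
    intro hd
    obtain ⟨⟨x, hxC⟩, hx⟩ := exists_prime_orderOf_dvd_card' p hd
    rw [Subgroup.orderOf_mk] at hx
    set B := Subgroup.zpowers x with hBdef
    have hBp : IsPGroup p ↥B := IsPGroup.of_card (n := 1) (by rw [Nat.card_zpowers, hx, pow_one])
    have hBc : B ≤ Subgroup.centralizer ((F ⊔ L : Subgroup H) : Set H) := Subgroup.zpowers_le.mpr hxC
    have hBne : B ≠ ⊥ := by
      rw [hBdef, Ne, Subgroup.zpowers_eq_bot]
      rintro rfl
      rw [orderOf_one] at hx
      exact (Fact.out : p.Prime).ne_one hx.symm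
    refine hBne (CfsgLib.FStarCop.eq_bot_of_centralizes_fstar hO hBp
      (CfsgLib.FStarCop.commutator_eq_bot hgood hBp Subgroup.le_normalizer_of_normal ?_))
    set R := ⁅FS, B⁆ with hR
    have hBL : ⁅B, L⁆ = ⊥ := Subgroup.commutator_eq_bot_iff_le_centralizer.mpr
      (hBc.trans (Subgroup.centralizer_le (SetLike.coe_subset_coe.mpr le_sup_right)))
    have hBF : ⁅B, F⁆ = ⊥ := Subgroup.commutator_eq_bot_iff_le_centralizer.mpr
      (hBc.trans (Subgroup.centralizer_le (SetLike.coe_subset_coe.mpr le_sup_left)))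
    have hRL : ⁅R, L⁆ = ⊥ := by
      refine Subgroup.commutator_commutator_eq_bot_of_rotate ?_ (le_bot_iff.mp ?_)
      · rw [hBL, Subgroup.commutator_bot_left]
      · rw [← hBL, Subgroup.commutator_comm B L]
        exact Subgroup.commutator_mono
          (by rw [Subgroup.commutator_comm]; exact CfsgLib.Coprime.commutator_le_of_normalizes hFL |>.trans' (le_of_eq (Subgroup.commutator_comm _ _))) le_rfl
    -- `V` is the centralizer of `L` in `F*(H)`
    set V := FS ⊓ Subgroup.centralizer (L : Set H) with hV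
    have hRV : R ≤ V := le_inf (CfsgLib.Coprime.commutator_le_of_normalizes Subgroup.le_normalizer_of_normal)
      (Subgroup.commutator_eq_bot_iff_le_centralizer.mp hRL)
    have hVn : ∀ X : Subgroup H, X ≤ Subgroup.normalizer (L : Set H) → X ≤ Subgroup.normalizer (V : Set H) := by
      intro X hX
      refine Subgroup.le_normalizer_iff.2 fun c hc y hy => ⟨hFSn.conj_mem y hy.1 c, ?_⟩
      refine Subgroup.mem_centralizer_iff.mpr ?_
      intro l hl
      have hl' : c⁻¹ * l * c ∈ L := by simpa using (Subgroup.mem_normalizer_iff.mp (inv_mem (hX hc)) l).mp hl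
      have h := Subgroup.mem_centralizer_iff.mp hy.2 _ hl'
      calc l * (c * y * c⁻¹) = c * (c⁻¹ * l * c * y) * c⁻¹ := by group
        _ = c * (y * (c⁻¹ * l * c)) * c⁻¹ := by rw [h]
        _ = c * y * c⁻¹ * l := by group
    have hVsn : V.IsSubnormal := Subgroup.IsSubnormal.step _ _ inf_le_left hFSn.isSubnormal
      ((Subgroup.normal_subgroupOf_iff_le_normalizer inf_le_left).mpr (hVn FS hFL))
    have hVsup := CfsgLib.FStarCop.commutator_sup_centralizer
      (CfsgLib.FStarCop.good_of_isSubnormal hO hVsn inf_le_left) hQ (hVn Q hQL)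
    have hVLF : V ≤ L ⊔ F := by
      refine hVsup.ge.trans (sup_le_sup (hL ▸ Subgroup.commutator_mono inf_le_left le_rfl) ?_)
      rw [hF1]
      refine le_inf (inf_le_left.trans inf_le_left) ?_
      exact Subgroup.le_centralizer_iff.mp (sup_le
        (Subgroup.le_centralizer_iff.mp (inf_le_left.trans inf_le_right))
        (Subgroup.le_centralizer_iff.mp inf_le_right))
    have hBcV : B ≤ Subgroup.centralizer (V : Set H) :=
      hBc.trans (Subgroup.centralizer_le (SetLike.coe_subset_coe.mpr (hVLF.trans (sup_comm L F).le)))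
    rw [← le_bot_iff]
    refine (Subgroup.commutator_mono hRV le_rfl).trans ?_
    rw [Subgroup.commutator_comm, Subgroup.commutator_eq_bot_iff_le_centralizer.mpr hBcV]

end Cfsg.Agent.S2817
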