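import Cfsg.Statements.S2818
-- import your own Cfsg.Agent.* helpers here

import Cfsg.Agent.Lib.LocalEven.PReducedSubnormal
import Cfsg.Agent.Lib.PGroup.Frattini

set_option autoImplicit false
open Cfsg
open scoped commutatorElement

namespace Cfsg.Agent.S2818

/-- Let P be a finite p-subgroup of a group G and H a subgroup of N_G(P) with [P, H] ≤ Ω₁(Z(P)) (the elements of order dividing p in the centre of P). Then H centralizes the Frattini subgroup of P. -/
theorem result {G : Type*} [Group G] [Finite G] {p : ℕ} [Fact p.Prime] (P : Subgroup G) (hP : IsPGroup p ↥P) (H : Subgroup G) (hH : H ≤ Subgroup.normalizer (P : Set G)) (h : ⁅P, H⁆ ≤ Cfsg.omegaOne p (P ⊓ Subgroup.centralizer (P : Set G))) : ⁅(frattini ↥P).map P.subtype, H⁆ = ⊥ := by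
  have hmem : ∀ x ∈ P, ∀ h' ∈ H, ⁅h', x⁆ ∈ P ∧ ⁅h', x⁆ ∈ Subgroup.centralizer (P : Set G) ∧
      ⁅h', x⁆ ^ p = 1 := by
    intro x hx h' hh'
    refine CfsgLib.PRed.mem_omegaOne_inf_centralizer.mp (h ?_)
    rw [Subgroup.commutator_comm]
    exact Subgroup.commutator_mem_commutator hh' hx
  rw [Subgroup.commutator_eq_bot_iff_le_centralizer]
  rintro _ ⟨x, hx, rfl⟩
  rw [Subgroup.mem_centralizer_iff]
  intro h' hh'
  -- the homomorphism `x ↦ [h',x]` kills the Frattini subgroup
  let Z : Subgroup G := Cfsg.omegaOne p (P ⊓ Subgroup.centralizer (P : Set G))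
  let φ : ↥P →* ↥Z :=
    { toFun := fun y => ⟨⁅h', (y : G)⁆, CfsgLib.PRed.mem_omegaOne_inf_centralizer.mpr (hmem y y.2 h' hh')⟩
      map_one' := Subtype.ext (by simp)
      map_mul' := fun a b => Subtype.ext (by
        simp only [Subgroup.coe_mul]
        rw [commutatorElement_mul_right_eq_mul_conj]
        have h1 : Commute (a : G) ⁅h', (b : G)⁆ :=
          Subgroup.mem_centralizer_iff.mp (hmem b b.2 h' hh').2.1 a a.2
        rw [mul_assoc ⁅h', (a : G)⁆, h1.eq]
        group) }
  have hker : frattini ↥P ≤ φ.ker := by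
    have hZ := CfsgLib.PRed.isElemAb_omegaOne_inf_centralizer (p := p) P
    refine CfsgLib.PGroup.frattini_le_of (p := p) φ.ker ?_ fun y => Subtype.ext ?_
    · rw [commutator_def, Subgroup.commutator_le]
      intro a _ b _
      rw [MonoidHom.mem_ker, map_commutatorElement, commutatorElement_eq_one_iff_mul_comm]
      exact Subtype.ext ((CfsgLib.PRed.le_centralizer_self hZ.1) (φ b).2 _ (φ a).2)
    · rw [map_pow]
      exact hZ.2 _ (φ y).2
  have := congrArg Subtype.val (MonoidHom.mem_ker.mp (hker hx))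
  exact commutatorElement_eq_one_iff_mul_comm.mp this

end Cfsg.Agent.S2818
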