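import Cfsg.Statements.S2819
-- import your own Cfsg.Agent.* helpers here

import Cfsg.Agent.Lib.LocalEven.PReducedSubnormal
import Cfsg.Agent.Lib.PGroup.Frattini

set_option autoImplicit false
open Cfsg
open scoped commutatorElement

namespace Cfsg.Agent.S2819

/-- Let P be a finite p-subgroup of a group G, H a subgroup of N_G(P), and Y a subgroup of H centralizing the derived subgroup P' such that [P, Y] is elementary abelian. Then O^p(⟨Y^H⟩), the subgroup of the normal closure of Y in H generated by its elements of order prime to p, centralizes the Frattini subgroup of P. -/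
theorem result {G : Type*} [Group G] [Finite G] {p : ℕ} [Fact p.Prime] (P : Subgroup G) (hP : IsPGroup p ↥P) (H : Subgroup G) (hH : H ≤ Subgroup.normalizer (P : Set G)) (Y : Subgroup G) (hYH : Y ≤ H) (hYc : Y ≤ Subgroup.centralizer ((⁅P, P⁆ : Subgroup G) : Set G)) (hel : Cfsg.IsElementaryAbelian p ⁅P, Y⁆) (NY : Subgroup G) (hNY : NY = (Subgroup.normalClosure ((Y.subgroupOf H : Subgroup ↥H) : Set ↥H)).map H.subtype) : (Cfsg.pResidual p ↥NY).map NY.subtype ≤ Subgroup.centralizer (((frattini ↥P).map P.subtype : Subgroup G) : Set G) := by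
  subst hNY
  set D : Subgroup G := ⁅P, P⁆ with hD
  set F := (frattini ↥P).map P.subtype with hF
  have hDP : D ≤ P := P.commutator_le_self
  have hHD : H ≤ Subgroup.normalizer (D : Set G) :=
    (le_inf hH hH).trans (CfsgLib.PRed.normalizer_inf_le_normalizer_commutator P P)
  have hPD : P ≤ Subgroup.normalizer (D : Set G) :=
    (le_inf Subgroup.le_normalizer Subgroup.le_normalizer).trans
      (CfsgLib.PRed.normalizer_inf_le_normalizer_commutator P P)
  have hHF : H ≤ Subgroup.normalizer (F : Set G) := by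
    intro g hg
    let e : MulAut P := Subgroup.normalizerMonoidHom P ⟨g, hH hg⟩
    have he : (frattini ↥P).map e.toMonoidHom = frattini ↥P :=
      Subgroup.characteristic_iff_map_eq.mp inferInstance e
    refine CfsgLib.PRed.mem_normalizer_of_conj_mem ?_
    rintro _ ⟨x, hx, rfl⟩
    exact ⟨e x, he.le (Subgroup.mem_map_of_mem _ hx), rfl⟩
  -- `Y` centralizes `Φ(P)/P'`
  have hY : ∀ y ∈ Y, ∀ x ∈ F, ⁅y, x⁆ ∈ D := by
    intro y hy
    have hyP : y ∈ Subgroup.normalizer (P : Set G) := hH (hYH hy)
    have hyD : y ∈ Subgroup.normalizer (D : Set G) := hHD (hYH hy)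
    have hcP : ∀ x ∈ P, ⁅y, x⁆ ∈ P := fun x hx =>
      P.mul_mem ((Subgroup.mem_normalizer_iff.mp hyP x).mp hx) (P.inv_mem hx)
    let N : Subgroup ↥P :=
      { carrier := {x | ⁅y, (x : G)⁆ ∈ D}
        one_mem' := by simp
        mul_mem' := by
          intro a b ha hb
          simp only [Set.mem_ofPred_eq, Subgroup.coe_mul, commutatorElement_mul_right_eq_mul_conj] at *
          rw [mul_assoc, mul_assoc, ← mul_assoc (a : G)]
          exact D.mul_mem ha ((Subgroup.mem_normalizer_iff.mp (hPD a.2) _).mp hb)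
        inv_mem' := by
          intro a ha
          simp only [Set.mem_ofPred_eq, Subgroup.coe_inv, commutatorElement_inv_right] at *
          rw [← commutatorElement_inv]
          simpa using (Subgroup.mem_normalizer_iff.mp (inv_mem (hPD a.2)) _).mp (D.inv_mem ha) }
    have hN : frattini ↥P ≤ N := by
      refine CfsgLib.PGroup.frattini_le_of (p := p) N ?_ fun x => ?_
      · rw [commutator_def, Subgroup.commutator_le]
        intro a _ b _
        show ⁅y, ((⁅a, b⁆ : P) : G)⁆ ∈ D
        have hab : ((⁅a, b⁆ : P) : G) ∈ D := by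
          rw [show ((⁅a, b⁆ : P) : G) = ⁅(a : G), (b : G)⁆ from map_commutatorElement P.subtype a b]
          exact Subgroup.commutator_mem_commutator a.2 b.2
        exact D.mul_mem ((Subgroup.mem_normalizer_iff.mp hyD _).mp hab) (D.inv_mem hab)
      · show ⁅y, ((x ^ p : P) : G)⁆ ∈ D
        rw [SubgroupClass.coe_pow]
        have hn : ∀ n : ℕ, ∃ d ∈ D, ⁅y, (x : G) ^ n⁆ = ⁅y, (x : G)⁆ ^ n * d := by
          intro n
          induction n with
          | zero => exact ⟨1, D.one_mem, by simp⟩
          | succ n ih =>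
            obtain ⟨d, hd, he⟩ := ih
            rw [pow_succ (x : G), commutatorElement_mul_right_eq_mul_conj, he]
            set c := ⁅y, (x : G)⁆ with hc
            have hcP' : c ∈ P := hcP x x.2
            have h1 : ⁅(x : G) ^ n, c⁆ ∈ D :=
              Subgroup.commutator_mem_commutator (P.pow_mem x.2 n) hcP'
            have hcD : c ∈ Subgroup.normalizer (D : Set G) := hPD hcP'
            refine ⟨c⁻¹ * (d * ⁅(x : G) ^ n, c⁆) * c, by
              simpa using (Subgroup.mem_normalizer_iff.mp (inv_mem hcD) _).mp (D.mul_mem hd h1), ?_⟩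
            rw [pow_succ c, commutatorElement_def ((x : G) ^ n) c]
            group
        obtain ⟨d, hd, he⟩ := hn p
        have h1 : ⁅y, (x : G)⁆ ^ p = 1 := hel.2 _ (by
          rw [Subgroup.commutator_comm]
          exact Subgroup.commutator_mem_commutator hy x.2)
        rw [he, h1, one_mul]
        exact hd
    rintro _ ⟨x, hx, rfl⟩
    exact hN hx
  let U : Subgroup ↥H :=
    { carrier := {g | (g : G) ∈ Subgroup.centralizer (D : Set G) ∧ ∀ x ∈ F, ⁅(g : G), x⁆ ∈ D}
      one_mem' := ⟨Subgroup.one_mem _, fun x _ => by simp⟩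
      mul_mem' := by
        rintro a b ⟨ha1, ha⟩ ⟨hb1, hb⟩
        refine ⟨Subgroup.mul_mem _ ha1 hb1, fun x hx => ?_⟩
        rw [Subgroup.coe_mul, commutatorElement_mul_left_eq_conj_mul]
        exact D.mul_mem ((Subgroup.mem_normalizer_iff.mp (hHD a.2) _).mp (hb x hx)) (ha x hx)
      inv_mem' := by
        rintro a ⟨ha1, ha⟩
        refine ⟨Subgroup.inv_mem _ ha1, fun x hx => ?_⟩
        rw [Subgroup.coe_inv, commutatorElement_inv_left, ← commutatorElement_inv]
        simpa using (Subgroup.mem_normalizer_iff.mp (inv_mem (hHD a.2)) _).mp (D.inv_mem (ha x hx)) }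
  have hUn : U.Normal := by
    refine ⟨fun g hg c => ⟨?_, fun x hx => ?_⟩⟩
    · exact (Subgroup.mem_normalizer_iff.mp
        (CfsgLib.PRed.normalizer_le_normalizer_centralizer D (hHD c.2)) _).mp hg.1
    · have hx' : (c : G)⁻¹ * x * (c : G) ∈ F := by
        simpa using (Subgroup.mem_normalizer_iff.mp (inv_mem (hHF c.2)) _).mp hx
      have h2 := (Subgroup.mem_normalizer_iff.mp (hHD c.2) _).mp (hg.2 _ hx')
      rw [conjugate_commutatorElement] at h2
      simpa [mul_assoc] using h2
  have hYU : (Subgroup.normalClosure ((Y.subgroupOf H : Subgroup ↥H) : Set ↥H)) ≤ U :=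
    haveI := hUn
    Subgroup.normalClosure_le_normal fun g hg => ⟨hYc hg, hY g hg⟩
  rw [CfsgLib.PRed.pResidual_map_subtype_eq, Subgroup.closure_le]
  rintro g ⟨hg, hgp⟩
  obtain ⟨g', hg', rfl⟩ := hg
  obtain ⟨h1, h2⟩ := hYU hg'
  rw [SetLike.mem_coe, Subgroup.mem_centralizer_iff]
  intro x hx
  have h3 : ⁅x, (g' : G)⁆ ∈ D := by rw [← commutatorElement_inv]; exact D.inv_mem (h2 x hx)
  exact CfsgLib.PRed.commute_of_coprime hP hgp (hDP h3)
    (Subgroup.mem_centralizer_iff.mp h1 _ h3)

end Cfsg.Agent.S2819
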