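import Cfsg.Statements.S2820
-- import your own Cfsg.Agent.* helpers here

import Cfsg.Agent.Lib.LocalEven.PReducedSubnormal

set_option autoImplicit false
open Cfsg
open scoped commutatorElement

namespace Cfsg.Agent.S2820

/-- Let A and B be subnormal subgroups of the finite group H with A a p-group and B = O^p(B) (B generated by its elements of order prime to p). Then A normalizes B and B = O^p(AB), the subgroup of ⟨A, B⟩ generated by its elements of order prime to p. -/
theorem result {H : Type*} [Group H] [Finite H] {p : ℕ} [Fact p.Prime] (A B : Subgroup H) (hA : A.IsSubnormal) (hB : B.IsSubnormal) (hAp : IsPGroup p ↥A) (hBres : (Cfsg.pResidual p ↥B).map B.subtype = B) : A ≤ Subgroup.normalizer (B : Set H) ∧ (Cfsg.pResidual p ↥(A ⊔ B)).map (A ⊔ B).subtype = B := by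
  have hAQ : A ≤ Cfsg.pCore p H := CfsgLib.PRed.le_pCore_of_isSubnormal hA hAp
  haveI hQn := CfsgLib.PRed.pCore_normal (p := p) (G := H)
  have hBel : ∀ K : Subgroup H, B ≤ K → B ≤ (Cfsg.pResidual p ↥K).map K.subtype := by
    intro K hK
    calc B = (Cfsg.pResidual p ↥B).map B.subtype := hBres.symm
      _ = ((Cfsg.pResidual p ↥B).map (Subgroup.inclusion hK)).map K.subtype := by
          rw [Subgroup.map_map]; rfl
      _ ≤ _ := Subgroup.map_mono (CfsgLib.PRed.pResidual_map_le _)
  -- `B = O^p(K)` whenever `B ≤ K ≤ B O_p(H)`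
  have main : ∀ K : Subgroup H, B ≤ K → K ≤ B ⊔ Cfsg.pCore p H →
      (Cfsg.pResidual p ↥K).map K.subtype = B := by
    intro K h1 h2
    refine le_antisymm ?_ (hBel K h1)
    rw [CfsgLib.PRed.pResidual_map_subtype_eq, Subgroup.closure_le]
    rintro x ⟨hx, hxp⟩
    -- descend along a subnormal series of `B`
    have key : ∀ S : Subgroup H, S.IsSubnormal → B ≤ S →
        ∀ x ∈ B ⊔ Cfsg.pCore p H, (orderOf x).Coprime p → x ∈ S := by
      intro S hS
      induction hS with
      | top => intros; trivial
      | step U V hle hV hN ih =>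
        intro hBU x hx hxp
        have hxV : x ∈ V := ih (hBU.trans hle) x hx hxp
        have hn : V ≤ Subgroup.normalizer (U : Set H) :=
          (Subgroup.normal_subgroupOf_iff_le_normalizer hle).mp hN
        obtain ⟨b, hb, q, hq, rfl⟩ :=
          CfsgLib.PRed.exists_mul_of_mem_sup Subgroup.le_normalizer_of_normal hx
        have hqV : q ∈ V := by simpa using V.mul_mem (V.inv_mem (hle (hBU hb))) hxV
        obtain ⟨k, hk⟩ := CfsgLib.PRed.pCore_isPGroup.exists_pow_pow_eq_one
          (⟨q, hq⟩ : Cfsg.pCore p H)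
        have hqk : q ^ p ^ k = 1 := by simpa [Subtype.ext_iff] using hk
        haveI := hN
        have h1 : (⟨b * q, hxV⟩ : V) ^ p ^ k ∈ U.subgroupOf V := by
          rw [← QuotientGroup.eq_one_iff, QuotientGroup.mk_pow,
            show (⟨b * q, hxV⟩ : V) = ⟨b, hle (hBU hb)⟩ * ⟨q, hqV⟩ from rfl, QuotientGroup.mk_mul,
            (QuotientGroup.eq_one_iff (⟨b, hle (hBU hb)⟩ : V)).mpr (show b ∈ U from hBU hb),
            one_mul, ← QuotientGroup.mk_pow,
            show (⟨q, hqV⟩ : V) ^ p ^ k = 1 from Subtype.ext (by simpa using hqk)]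
          rfl
        exact CfsgLib.PRed.mem_of_pow_pow_mem hxp (by simpa [Subgroup.mem_subgroupOf] using h1)
    exact key B hB le_rfl x (h2 hx) hxp
  have hres := main (A ⊔ B) le_sup_right (sup_le (hAQ.trans le_sup_right) le_sup_left)
  refine ⟨?_, hres⟩
  have := CfsgLib.PRed.le_normalizer_pResidual_map (p := p) (A ⊔ B)
  rw [hres] at this
  exact le_sup_left.trans this

end Cfsg.Agent.S2820
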