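import Cfsg.Statements.S2823
-- import your own Cfsg.Agent.* helpers here

import Cfsg.Agent.Lib.LocalEven.Kieler

set_option autoImplicit false
open Cfsg
open scoped commutatorElement

namespace Cfsg.Agent.S2823

/-- Let H be a finite group, p a prime, T a Sylow p-subgroup and L a subgroup of characteristic p containing T; let Z_L be the subgroup generated by the Ω₁(Z(S)) over the Sylow p-subgroups S of L and O^p(L) the subgroup generated by the elements of L of order prime to p. Then Z_L = Ω₁(Z(L))·[Z_L, O^p(L)] and [Z_L, L] = [Z_L, O^p(L)]. -/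
theorem result {H : Type*} [Group H] [Finite H] {p : ℕ} [Fact p.Prime] (T : Sylow p H) (L : Subgroup H) (hTL : (T : Subgroup H) ≤ L) (hL : Subgroup.centralizer (Cfsg.pCore p ↥L : Set ↥L) ≤ Cfsg.pCore p ↥L) : Cfsg.sylowCenterClosure p L = (Cfsg.omegaOne p (L ⊓ Subgroup.centralizer ((L : Subgroup H) : Set H))) ⊔ ⁅Cfsg.sylowCenterClosure p L, (Cfsg.pResidual p ↥L).map L.subtype⁆ ∧ ⁅Cfsg.sylowCenterClosure p L, L⁆ = ⁅Cfsg.sylowCenterClosure p L, (Cfsg.pResidual p ↥L).map L.subtype⁆ := by
  -- the statement inside `↥L`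
  haveI hKn := CfsgLib.PRed.pResidual_normal (p := p) (G := ↥L)
  let T' : Sylow p ↥L := T.subtype hTL
  set Z' : Subgroup ↥L := ⨆ S : Sylow p ↥L, CfsgLib.PRed.omegaZ p (S : Subgroup ↥L) with hZ'
  set W : Subgroup ↥L := ⁅Z', Cfsg.pResidual p ↥L⁆ with hW
  haveI hZn : Z'.Normal := by
    refine ⟨fun x hx g => ?_⟩
    have hle : Z' ≤ Z'.comap (MulAut.conj g).toMonoidHom := by
      refine iSup_le fun S => ?_
      intro y hy
      refine Subgroup.mem_iSup_of_mem (g • S) ?_
      obtain ⟨h1, h2, h3⟩ := CfsgLib.PRed.mem_omegaZ.mp hy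
      refine CfsgLib.PRed.mem_omegaZ.mpr ⟨⟨y, h1, rfl⟩, ?_,
        show ((MulAut.conj g) y) ^ p = 1 by rw [← map_pow, h3, map_one]⟩
      rw [Subgroup.mem_centralizer_iff]
      rintro _ ⟨s, hs, rfl⟩
      show MulAut.conj g s * MulAut.conj g y = MulAut.conj g y * MulAut.conj g s
      rw [← map_mul, ← map_mul, Subgroup.mem_centralizer_iff.mp h2 s hs]
    exact hle hx
  have hWZ : W ≤ Z' := Subgroup.commutator_le_left _ _
  haveI hWn : W.Normal := inferInstance
  have hZY : Z' ≤ Cfsg.largestPReduced p ↥L :=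
    iSup_le fun S => CfsgLib.PRed.omegaZ_sylow_le_largest hL S
  have hZe : Cfsg.IsElementaryAbelian p Z' :=
    CfsgLib.PRed.isElemAb_mono CfsgLib.PRed.largestPReduced_spec.2.1 hZY
  haveI hZc : IsMulCommutative ↥Z' := hZe.1
  have hgen : ∀ S : Sylow p ↥L, ∀ v ∈ CfsgLib.PRed.omegaZ p (S : Subgroup ↥L),
      ∀ g : ↥L, ⁅v, g⁆ ∈ W := by
    intro S v hv g
    have hvZ : v ∈ Z' := Subgroup.mem_iSup_of_mem S hv
    have hcl : (S : Subgroup ↥L) ⊔ Cfsg.pResidual p ↥L ≤
        (Subgroup.centralizer ({(v : ↥L ⧸ W)} : Set (↥L ⧸ W))).comap (QuotientGroup.mk' W) := by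
      refine sup_le (fun s hs => ?_) (fun k hk => ?_)
      · rw [Subgroup.mem_comap, Subgroup.mem_centralizer_singleton_iff, QuotientGroup.mk'_apply,
          ← QuotientGroup.mk_mul, ← QuotientGroup.mk_mul,
          Subgroup.mem_centralizer_iff.mp (CfsgLib.PRed.omegaZ_le_centralizer _ hv) s hs]
      · rw [Subgroup.mem_comap, Subgroup.mem_centralizer_singleton_iff, QuotientGroup.mk'_apply]
        refine (commutatorElement_eq_one_iff_mul_comm.mp ?_).symm
        rw [← QuotientGroup.mk'_apply, ← QuotientGroup.mk'_apply, ← map_commutatorElement,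
          QuotientGroup.mk'_apply, QuotientGroup.eq_one_iff]
        exact Subgroup.commutator_mem_commutator hvZ hk
    rw [CfsgLib.PRed.sylow_sup_pResidual S] at hcl
    have h := Subgroup.mem_centralizer_singleton_iff.mp (hcl (Subgroup.mem_top g))
    rw [← QuotientGroup.eq_one_iff, ← QuotientGroup.mk'_apply, map_commutatorElement]
    exact commutatorElement_eq_one_iff_mul_comm.mpr h.symm
  have hB : ⁅Z', (⊤ : Subgroup ↥L)⁆ = W := by
    refine le_antisymm ?_ (Subgroup.commutator_mono le_rfl le_top)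
    have hmap : Z'.map (QuotientGroup.mk' W) ≤ Subgroup.center (↥L ⧸ W) := by
      rw [Subgroup.map_le_iff_le_comap]
      refine iSup_le fun S v hv => ?_
      rw [Subgroup.mem_comap, Subgroup.mem_center_iff]
      intro q
      obtain ⟨g, rfl⟩ := QuotientGroup.mk'_surjective W q
      refine (commutatorElement_eq_one_iff_mul_comm.mp ?_).symm
      rw [← map_commutatorElement, QuotientGroup.mk'_apply, QuotientGroup.eq_one_iff]
      exact hgen S v hv g
    rw [Subgroup.commutator_le]
    intro z hz g _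
    rw [← QuotientGroup.eq_one_iff, ← QuotientGroup.mk'_apply, map_commutatorElement,
      commutatorElement_eq_one_iff_mul_comm]
    exact (Subgroup.mem_center_iff.mp (hmap ⟨z, hz, rfl⟩) _).symm
  have hA : Z' = CfsgLib.PRed.omegaZ p (⊤ : Subgroup ↥L) ⊔ W := by
    refine le_antisymm (iSup_le fun S v hv => ?_) (sup_le (fun x hx => ?_) hWZ)
    · obtain ⟨hvS, hvC, hvp⟩ := CfsgLib.PRed.mem_omegaZ.mp hv
      obtain ⟨c, ⟨hcZ, hcC⟩, w, ⟨⟨hw, -⟩, -⟩, hvw⟩ :=
        CfsgLib.Trace.exists_fixed_mul_commutator (V := Z') (K := (⊤ : Subgroup ↥L))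
          Subgroup.le_normalizer_of_normal (S := (S : Subgroup ↥L)) le_top hZe.2
          (by
            rw [Subgroup.relIndex_top_right]
            exact (((Fact.out : p.Prime).coprime_iff_not_dvd).mpr S.not_dvd_index).symm)
          (Subgroup.mem_iSup_of_mem S hv) hvC
      rw [hB] at hw
      rw [hvw]
      exact Subgroup.mul_mem_sup
        (CfsgLib.PRed.mem_omegaZ.mpr ⟨Subgroup.mem_top c, hcC, hZe.2 c hcZ⟩) hw
    · obtain ⟨-, hxC, hxp⟩ := CfsgLib.PRed.mem_omegaZ.mp hx
      have hn : (Subgroup.zpowers x).Normal :=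
        ⟨fun y hy g => by
          obtain ⟨i, rfl⟩ := Subgroup.mem_zpowers_iff.mp hy
          have hc : Commute g (x ^ i) :=
            (Subgroup.mem_centralizer_iff.mp hxC g (Subgroup.mem_top g) :
              g * x = x * g) |> fun h => (show Commute g x from h).zpow_right i
          rw [hc.eq, mul_inv_cancel_right]
          exact ⟨i, rfl⟩⟩
      have hxT : x ∈ (T' : Subgroup ↥L) :=
        CfsgLib.PRed.pCore_le_sylow T' (CfsgLib.PRed.le_pCore hn
          (IsPGroup.of_card_dvd_pow (n := 1) (by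
            rw [Nat.card_zpowers, pow_one]; exact orderOf_dvd_of_pow_eq_one hxp))
          (Subgroup.mem_zpowers x))
      exact Subgroup.mem_iSup_of_mem T' (CfsgLib.PRed.mem_omegaZ.mpr
        ⟨hxT, Subgroup.centralizer_le (Set.subset_univ _) (by simpa using hxC), hxp⟩)
  have e1 : Cfsg.sylowCenterClosure p L = Z'.map L.subtype := by
    rw [hZ', Subgroup.map_iSup]
    simp only [CfsgLib.PRed.omegaZ_map]
    rfl
  have e2 : (⊤ : Subgroup ↥L).map L.subtype = L := by
    rw [← MonoidHom.range_eq_map, Subgroup.range_subtype]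
  constructor
  · rw [e1, ← Subgroup.map_commutator, hA]
    conv_lhs => rw [Subgroup.map_sup, CfsgLib.PRed.omegaZ_map, e2]
    rw [← hA]
    rfl
  · rw [e1, ← Subgroup.map_commutator]
    conv_lhs => rw [show ⁅Z'.map L.subtype, L⁆ = ⁅Z'.map L.subtype, (⊤ : Subgroup ↥L).map L.subtype⁆ by rw [e2]]
    rw [← Subgroup.map_commutator, hB]

end Cfsg.Agent.S2823
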