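import Cfsg.Statements.S2824
-- import your own Cfsg.Agent.* helpers here

import Cfsg.Agent.Lib.LocalEven.PReducedSub

set_option autoImplicit false
open Cfsg
open scoped commutatorElement

namespace Cfsg.Agent.S2824

/-- Let H be a finite group, p a prime, T a Sylow p-subgroup, L and M subgroups of characteristic p containing T, Y_L the largest p-reduced normal subgroup of L and T₀ = C_T(Y_L). If M·C_H(Y_L) = L·C_H(Y_L), then L* := N_M(T₀) has Y_{L*} = Y_L and L·C_H(Y_L) = L*·C_H(Y_L). -/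
theorem result {H : Type*} [Group H] [Finite H] {p : ℕ} [Fact p.Prime] (T : Sylow p H) (L M : Subgroup H) (hTL : (T : Subgroup H) ≤ L) (hTM : (T : Subgroup H) ≤ M) (hL : Subgroup.centralizer (Cfsg.pCore p ↥L : Set ↥L) ≤ Cfsg.pCore p ↥L) (hM : Subgroup.centralizer (Cfsg.pCore p ↥M : Set ↥M) ≤ Cfsg.pCore p ↥M) (T₀ : Subgroup H) (hT₀ : T₀ = (T : Subgroup H) ⊓ Subgroup.centralizer (((Cfsg.largestPReducedOf p L) : Subgroup H) : Set H)) (hfac : M ⊔ Subgroup.centralizer (((Cfsg.largestPReducedOf p L) : Subgroup H) : Set H) = L ⊔ Subgroup.centralizer (((Cfsg.largestPReducedOf p L) : Subgroup H) : Set H)) (Ls : Subgroup H) (hLs : Ls = M ⊓ Subgroup.normalizer ((T₀ : Subgroup H) : Set H)) : (Cfsg.largestPReducedOf p Ls) = (Cfsg.largestPReducedOf p L) ∧ L ⊔ Subgroup.centralizer (((Cfsg.largestPReducedOf p L) : Subgroup H) : Set H) = Ls ⊔ Subgroup.centralizer (((Cfsg.largestPReducedOf p L) : Subgroup H) : Set H) := by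
  set Y := Cfsg.largestPReducedOf p L with hY
  obtain ⟨hLY, hYe, hLr⟩ := CfsgLib.PRed.largestPReducedOf_spec (p := p) L
  rw [← hY] at hLY hYe hLr
  have hcn := CfsgLib.PRed.normalizer_le_normalizer_centralizer Y
  have hYT : Y ≤ T₀ := hT₀ ▸ CfsgLib.PRed.largestPReducedOf_le_sylow T hTL
  have hYM : Y ≤ M := (hYT.trans (hT₀.le.trans inf_le_left)).trans hTM
  have hMY : M ≤ Subgroup.normalizer (Y : Set H) :=
    le_sup_left.trans (hfac.le.trans (sup_le hLY (Subgroup.centralizer_le_normalizer _)))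
  have hsM : M ≤ Ls ⊔ Subgroup.centralizer (Y : Set H) := by
    rw [hLs, hT₀]
    exact CfsgLib.PRed.le_inf_normalizer_sup_centralizer T hTM hYM hMY
  have hLsM : Ls ≤ M := hLs.le.trans inf_le_left
  have heq : L ⊔ Subgroup.centralizer (Y : Set H) = Ls ⊔ Subgroup.centralizer (Y : Set H) :=
    le_antisymm (hfac.ge.trans (sup_le hsM le_sup_right)) ((sup_le_sup_right hLsM _).trans hfac.le)
  refine ⟨le_antisymm ?_ ?_, heq⟩
  · -- the largest one for `Ls` lies in `Ω₁Z(T₀)`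
    have hTT : (T : Subgroup H) ≤ Ls := by
      intro t ht
      rw [hLs, hT₀]
      refine ⟨hTM ht, CfsgLib.PRed.mem_normalizer_of_conj_mem fun x hx => ⟨?_, ?_⟩⟩
      · exact (T : Subgroup H).mul_mem ((T : Subgroup H).mul_mem ht hx.1) ((T : Subgroup H).inv_mem ht)
      · exact (Subgroup.mem_normalizer_iff.mp (hcn (hMY (hTM ht))) x).mp hx.2
    have hT₀s : T₀ ≤ Ls := (hT₀.le.trans inf_le_left).trans hTT
    have hT₀Q : T₀ ≤ Cfsg.pCoreOf p Ls := by
      intro x hx
      refine ⟨⟨x, hT₀s hx⟩, CfsgLib.PRed.le_pCore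
        (Subgroup.normal_subgroupOf_of_le_normalizer (hLs.le.trans inf_le_right))
        ((T.2.to_le (hT₀.le.trans inf_le_left)).comap_subtype) hx, rfl⟩
    have hX := CfsgLib.PRed.largestPReducedOf_le_sylow T hTT
    have hT₀X : T₀ ≤ Subgroup.centralizer (Cfsg.largestPReducedOf p Ls : Set H) :=
      hT₀Q.trans ((CfsgLib.PRed.pCoreOf_le_sylow_inf_centralizer T hTT).trans inf_le_right)
    intro x hx
    rw [hY, CfsgLib.PRed.largestPReducedOf_eq_omegaZ T hTL hL, ← hY, ← hT₀]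
    have hxc : x ∈ Subgroup.centralizer (T₀ : Set H) := Subgroup.le_centralizer_iff.mp hT₀X hx
    refine CfsgLib.PRed.mem_omegaZ.mpr ⟨?_, hxc,
      (CfsgLib.PRed.largestPReducedOf_spec Ls).2.1.2 x hx⟩
    rw [hT₀]
    exact ⟨(hX hx).1, Subgroup.centralizer_le (SetLike.coe_subset_coe.mpr hYT) hxc⟩
  · exact CfsgLib.PRed.le_largestPReducedOf
      (hYT.trans ((hT₀.le.trans inf_le_left).trans (by
        intro t ht
        rw [hLs, hT₀]
        refine ⟨hTM ht, CfsgLib.PRed.mem_normalizer_of_conj_mem fun x hx => ⟨?_, ?_⟩⟩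
        · exact (T : Subgroup H).mul_mem ((T : Subgroup H).mul_mem ht hx.1) ((T : Subgroup H).inv_mem ht)
        · exact (Subgroup.mem_normalizer_iff.mp (hcn (hMY (hTM ht))) x).mp hx.2)))
      (hLsM.trans hMY) hYe
      (CfsgLib.PRed.noPIn_of_sup_eq ((hLsM.trans hMY).trans hcn) (hLY.trans hcn) heq.symm hLr)

end Cfsg.Agent.S2824
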