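import Cfsg.Statements.S2825
-- import your own Cfsg.Agent.* helpers here

import Cfsg.Agent.Lib.LocalEven.PReducedSubnormal

set_option autoImplicit false
open Cfsg
open scoped commutatorElement

namespace Cfsg.Agent.S2825

/-- Let L be a subnormal subgroup of the finite group H, p a prime, Y_H and Y_L the largest p-reduced normal subgroups. Then Y_H ∩ L = Y_H ∩ Y_L and this subgroup is a p-reduced normal subgroup of L; C_L(Y_L) = C_L(Y_H) = C_L(Y_H ∩ L); and if O^p(H) ≤ L, then [Y_L, L] = 1 if and only if [Y_H, H] = 1. -/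
theorem result {H : Type*} [Group H] [Finite H] {p : ℕ} [Fact p.Prime] (L : Subgroup H) (hL : L.IsSubnormal) : Cfsg.largestPReduced p H ⊓ L = Cfsg.largestPReduced p H ⊓ (Cfsg.largestPReducedOf p L) ∧ Cfsg.IsPReducedNormal p ((Cfsg.largestPReduced p H ⊓ L).subgroupOf L) ∧ L ⊓ Subgroup.centralizer ((Cfsg.largestPReducedOf p L : Subgroup H) : Set H) = L ⊓ Subgroup.centralizer (Cfsg.largestPReduced p H : Set H) ∧ L ⊓ Subgroup.centralizer (Cfsg.largestPReduced p H : Set H) = L ⊓ Subgroup.centralizer ((Cfsg.largestPReduced p H ⊓ L : Subgroup H) : Set H) ∧ (Cfsg.pResidual p H ≤ L → (⁅(Cfsg.largestPReducedOf p L), L⁆ = ⊥ ↔ ⁅Cfsg.largestPReduced p H, (⊤ : Subgroup H)⁆ = ⊥)) := by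
  have hV := CfsgLib.PRed.largestPReduced_spec (p := p) (G := H)
  haveI := hV.1
  set V := Cfsg.largestPReduced p H with hVdef
  have hWn : L ≤ Subgroup.normalizer ((V ⊓ L : Subgroup H) : Set H) :=
    (le_inf Subgroup.le_normalizer_of_normal Subgroup.le_normalizer).trans
      (CfsgLib.PRed.normalizer_inf_le_normalizer_inf _ _)
  have hc : ⁅V, (Cfsg.pResidual p ↥L).map L.subtype⁆ ≤ V ⊓ L :=
    le_inf (Subgroup.commutator_le_left _ _) (CfsgLib.PRed.commutator_pResidual_le hV.1 hV.2.1 hL)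
  obtain ⟨hCW, hWr⟩ := CfsgLib.PRed.centralizer_eq_of_commutator_le hV hL hWn inf_le_left hc
  have hWe := CfsgLib.PRed.isElemAb_mono hV.2.1 (inf_le_left : V ⊓ L ≤ V)
  have hWY : V ⊓ L ≤ Cfsg.largestPReducedOf p L :=
    CfsgLib.PRed.le_largestPReducedOf inf_le_right hWn hWe hWr
  have hCY : L ⊓ Subgroup.centralizer (Cfsg.largestPReducedOf p L : Set H) =
      L ⊓ Subgroup.centralizer (V : Set H) :=
    le_antisymm ((inf_le_inf_left L (Subgroup.centralizer_le (SetLike.coe_subset_coe.mpr hWY))).trans hCW.le)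
      (le_inf inf_le_left (CfsgLib.PRed.centralizer_largest_le_of_isSubnormal hL))
  refine ⟨le_antisymm (le_inf inf_le_left hWY) (le_inf inf_le_left
      (inf_le_right.trans (CfsgLib.PRed.largestPReducedOf_le L))),
    (CfsgLib.PRed.isPReducedNormal_subgroupOf_iff inf_le_right).mpr ⟨hWn, hWe, hWr⟩,
    hCY, hCW.symm, fun hres => ?_⟩
  rw [Subgroup.commutator_comm, Subgroup.commutator_eq_bot_iff_le_centralizer,
    Subgroup.commutator_comm V, Subgroup.commutator_eq_bot_iff_le_centralizer]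
  constructor
  · intro h
    have hLV : L ≤ Subgroup.centralizer (V : Set H) :=
      (le_inf le_rfl h).trans (hCY.le.trans inf_le_right)
    refine (CfsgLib.PRed.isPReducedNormal_iff.mp hV).2.2 ⊤ inferInstance fun x _ => ?_
    obtain ⟨k, hk⟩ := CfsgLib.PRed.exists_pow_pow_mem_pResidual (p := p) x
    exact ⟨k, hLV (hres hk)⟩
  · intro h
    exact (le_inf le_rfl (le_top.trans h)).trans (hCY.ge.trans inf_le_right)

end Cfsg.Agent.S2825
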