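import Cfsg.Statements.S2826
-- import your own Cfsg.Agent.* helpers here

import Cfsg.Agent.Lib.LocalEven.PReducedSubnormal
import Cfsg.Agent.Lib.LocalEven.Trace

set_option autoImplicit false
open Cfsg
open scoped commutatorElement

namespace Cfsg.Agent.S2826

/-- Let H be a finite group of characteristic p, T a Sylow p-subgroup, and V a normal elementary abelian p-subgroup of H containing Ω₁(Z(T)). Then C_H(Ω₁(Z(T))) = C_H([V, O^p(H)] ∩ Ω₁(Z(T))), O^p(H) being generated by the elements of order prime to p. -/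
theorem result {H : Type*} [Group H] [Finite H] {p : ℕ} [Fact p.Prime] (hH : Subgroup.centralizer (Cfsg.pCore p H : Set H) ≤ Cfsg.pCore p H) (T : Sylow p H) (V : Subgroup H) [V.Normal] (hV : Cfsg.IsElementaryAbelian p V) (hZV : (Cfsg.omegaOne p ((T : Subgroup H) ⊓ Subgroup.centralizer (((T : Subgroup H) : Subgroup H) : Set H))) ≤ V) : Subgroup.centralizer ((Cfsg.omegaOne p ((T : Subgroup H) ⊓ Subgroup.centralizer (((T : Subgroup H) : Subgroup H) : Set H))) : Set H) = Subgroup.centralizer (((⁅V, Cfsg.pResidual p H⁆ ⊓ (Cfsg.omegaOne p ((T : Subgroup H) ⊓ Subgroup.centralizer (((T : Subgroup H) : Subgroup H) : Set H)))) : Subgroup H) : Set H) := by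
  haveI hKn := CfsgLib.PRed.pResidual_normal (p := p) (G := H)
  have hp : p.Prime := Fact.out
  haveI hc : IsMulCommutative ↥V := hV.1
  have hVT : V ≤ (T : Subgroup H) := (CfsgLib.PRed.isPGroup_of_isElemAb hV).le_sylow_of_normal T
  set K := Cfsg.pResidual p H with hKdef
  set Z := Cfsg.omegaOne p ((T : Subgroup H) ⊓ Subgroup.centralizer ((T : Subgroup H) : Set H)) with hZ
  refine le_antisymm (Subgroup.centralizer_le (SetLike.coe_subset_coe.mpr inf_le_right)) ?_
  intro x hx
  rw [Subgroup.mem_centralizer_iff]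
  intro v hv
  obtain ⟨P, hP⟩ := CfsgLib.PRed.exists_sylow_inf_normal T K
  have hco : (((T : Subgroup H) ⊓ K).relIndex K).Coprime p := by
    refine ((hp.coprime_iff_not_dvd).mpr ?_).symm
    have h := P.not_dvd_index
    rw [hP] at h
    rwa [Subgroup.inf_relIndex_right]
  obtain ⟨hvT, hvC, hvp⟩ := CfsgLib.PRed.mem_omegaOne_inf_centralizer.mp hv
  obtain ⟨c, ⟨hcV, hcK⟩, hcT, w, ⟨⟨hw1, hwV⟩, -⟩, hvw⟩ :=
    CfsgLib.Trace.exists_fixed_mul_commutator_equivariant (V := V) (K := K)
      Subgroup.le_normalizer_of_normal (S := (T : Subgroup H) ⊓ K) inf_le_right hV.2 hco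
      (hZV hv) (Subgroup.centralizer_le (SetLike.coe_subset_coe.mpr inf_le_left) hvC)
  have hTn : ∀ t ∈ (T : Subgroup H), Commute t c := fun t ht =>
    hcT t ⟨⟨Subgroup.le_normalizer_of_normal ht, Subgroup.le_normalizer_of_normal ht⟩,
      CfsgLib.PRed.normalizer_inf_le_normalizer_inf _ _
        ⟨Subgroup.le_normalizer ht, Subgroup.le_normalizer_of_normal ht⟩⟩
      (Subgroup.mem_centralizer_iff.mp hvC t ht)
  have hcx : Commute x c := by
    have hall : (T : Subgroup H) ⊔ K ≤ Subgroup.centralizer ({c} : Set H) :=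
      sup_le (fun t ht => Subgroup.mem_centralizer_singleton_iff.mpr (hTn t ht))
        (fun k hk => Subgroup.mem_centralizer_singleton_iff.mpr
          (Subgroup.mem_centralizer_iff.mp hcK k hk))
    rw [CfsgLib.PRed.sylow_sup_pResidual T] at hall
    exact Subgroup.mem_centralizer_singleton_iff.mp (hall (Subgroup.mem_top x))
  have hwc : ∀ t ∈ (T : Subgroup H), Commute t w := by
    intro t ht
    rw [show w = c⁻¹ * v by rw [hvw]; group]
    exact (hTn t ht).inv_right.mul_right (Subgroup.mem_centralizer_iff.mp hvC t ht)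
  have hwZ : w ∈ Z :=
    CfsgLib.PRed.mem_omegaOne_inf_centralizer.mpr
      ⟨hVT hwV, Subgroup.mem_centralizer_iff.mpr hwc, hV.2 w hwV⟩
  have hwx : Commute w x := Subgroup.mem_centralizer_iff.mp hx w ⟨hw1, hwZ⟩
  rw [hvw]
  exact hcx.symm.mul_left hwx

end Cfsg.Agent.S2826
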