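import Cfsg.Statements.S2827
-- import your own Cfsg.Agent.* helpers here

import Cfsg.Agent.Lib.LocalEven.PIrreducible
import Cfsg.Agent.Lib.LocalEven.PReducedSubnormal

set_option autoImplicit false
open Cfsg
open scoped commutatorElement

namespace Cfsg.Agent.S2827

/-- Let H be a finite p-irreducible group (not p-closed, and O^p(H) lies in every normal subgroup that is not p-closed) and T a Sylow p-subgroup. Then H is generated by the conjugates of T and H = H'·T; O^p(H) ≤ H'; and for every normal subgroup Y of T not contained in O_p(H), O^p(H) = [O^p(H), Y] and O^p(H) is contained in the normal closure of Y in H. -/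
theorem result {H : Type*} [Group H] [Finite H] {p : ℕ} [Fact p.Prime] (hH : Cfsg.IsPIrreducible p H) (T : Sylow p H) : Subgroup.normalClosure ((T : Subgroup H) : Set H) = ⊤ ∧ commutator H ⊔ (T : Subgroup H) = ⊤ ∧ Cfsg.pResidual p H ≤ commutator H ∧ ∀ Y : Subgroup H, Y ≤ (T : Subgroup H) → (T : Subgroup H) ≤ Subgroup.normalizer (Y : Set H) → ¬ Y ≤ Cfsg.pCore p H → ⁅Cfsg.pResidual p H, Y⁆ = Cfsg.pResidual p H ∧ Cfsg.pResidual p H ≤ Subgroup.normalClosure (Y : Set H) := by
  obtain ⟨hnc, hN⟩ := (CfsgLib.PIrr.isPIrreducible_iff T).mp hH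
  haveI hKn := CfsgLib.PRed.pResidual_normal (p := p) (G := H)
  haveI hQn := CfsgLib.PRed.pCore_normal (p := p) (G := H)
  set N := Subgroup.normalClosure ((T : Subgroup H) : Set H) with hNdef
  have hTN : (T : Subgroup H) ≤ N := Subgroup.subset_normalClosure
  have hK : Cfsg.pResidual p H ≤ N :=
    hN N Subgroup.normalClosure_normal (by rwa [inf_eq_left.mpr hTN])
  have h1 : N = ⊤ :=
    top_le_iff.mp ((CfsgLib.PRed.sylow_sup_pResidual T).ge.trans (sup_le hTN hK))
  have h2 : commutator H ⊔ (T : Subgroup H) = ⊤ := by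
    haveI : (commutator H ⊔ (T : Subgroup H)).Normal := Subgroup.Normal.of_commutator_le H le_sup_left
    exact top_le_iff.mp (h1.ge.trans (Subgroup.normalClosure_le_normal (SetLike.coe_subset_coe.mpr le_sup_right)))
  refine ⟨h1, h2, CfsgLib.PIrr.pResidual_le_of_sup_eq_top T.2 h2, fun Y hYT hTY hYQ => ?_⟩
  have hKY : Cfsg.pResidual p H ≤ Subgroup.normalClosure (Y : Set H) :=
    hN _ Subgroup.normalClosure_normal fun h => hYQ ((le_inf hYT Subgroup.subset_normalClosure).trans h)
  refine ⟨le_antisymm (Subgroup.commutator_le_left _ _) ?_, hKY⟩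
  set R := ⁅Cfsg.pResidual p H, Y⁆ with hR
  have hTR : (T : Subgroup H) ≤ Subgroup.normalizer (R : Set H) :=
    (le_inf Subgroup.le_normalizer_of_normal hTY).trans
      (CfsgLib.PRed.normalizer_inf_le_normalizer_commutator _ _)
  haveI hRn : R.Normal := by
    rw [← Subgroup.normalizer_eq_top_iff, eq_top_iff, ← CfsgLib.PRed.sylow_sup_pResidual T]
    exact sup_le hTR (Subgroup.normalizer_commutator_ge_left _ _)
  have hYRn : (Y ⊔ R).Normal := by
    rw [← Subgroup.normalizer_eq_top_iff, eq_top_iff, ← CfsgLib.PRed.sylow_sup_pResidual T]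
    refine sup_le (hTY.trans (Subgroup.normalizer_le_normalizer_sup_of_normalizer_le_left
      Subgroup.le_normalizer_of_normal)) fun k hk => ?_
    refine CfsgLib.PRed.mem_normalizer_of_conj_mem fun x hx => ?_
    have hle : Y ⊔ R ≤ (Y ⊔ R).comap (MulAut.conj k).toMonoidHom := by
      refine sup_le (fun y hy => ?_) (fun r hr => Subgroup.mem_sup_right (hRn.conj_mem r hr k))
      show k * y * k⁻¹ ∈ Y ⊔ R
      have hky : k * y * k⁻¹ * y⁻¹ ∈ R := Subgroup.commutator_mem_commutator hk hy
      have := mul_mem (Subgroup.mem_sup_right hky : _ ∈ Y ⊔ R) (Subgroup.mem_sup_left hy)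
      rwa [inv_mul_cancel_right] at this
    exact hle hx
  haveI := hYRn
  refine CfsgLib.PIrr.pResidual_le_of_pResidual_le_sup (T.2.to_le hYT) ?_
  rw [sup_comm]
  exact hKY.trans (Subgroup.normalClosure_le_normal (fun y hy => Subgroup.mem_sup_left hy))

end Cfsg.Agent.S2827
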