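import Cfsg.Statements.S2828
-- import your own Cfsg.Agent.* helpers here

import Cfsg.Agent.Lib.LocalEven.PIrreducible
import Cfsg.Agent.Lib.LocalEven.PReducedSubnormal

set_option autoImplicit false
open Cfsg
open scoped commutatorElement

namespace Cfsg.Agent.S2828

/-- Let H be a finite group, p a prime and D a normal p-subgroup of H. Then H is p-irreducible if and only if H/D is p-irreducible, and H is strongly p-irreducible if and only if H/D is strongly p-irreducible. -/
theorem result {H : Type*} [Group H] [Finite H] {p : ℕ} [Fact p.Prime] (D : Subgroup H) [D.Normal] (hD : IsPGroup p ↥D) : (Cfsg.IsPIrreducible p H ↔ Cfsg.IsPIrreducible p (H ⧸ D)) ∧ (Cfsg.IsStronglyPIrreducible p H ↔ Cfsg.IsStronglyPIrreducible p (H ⧸ D)) := by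
  obtain ⟨T⟩ : Nonempty (Sylow p H) := inferInstance
  set f := QuotientGroup.mk' D with hf
  have hs : Function.Surjective f := QuotientGroup.mk'_surjective D
  let T' : Sylow p (H ⧸ D) := T.mapSurjective hs
  have hT' : (T' : Subgroup (H ⧸ D)) = (T : Subgroup H).map f := rfl
  haveI := CfsgLib.PRed.pCore_normal (p := p) (G := H)
  have hDT : D ≤ (T : Subgroup H) := hD.le_sylow_of_normal T
  have hDQ : D ≤ Cfsg.pCore p H := CfsgLib.PRed.le_pCore inferInstance hD
  have hker : f.ker = D := QuotientGroup.ker_mk' D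
  have hQ : ∀ X : Subgroup H, X.map f ≤ Cfsg.pCore p (H ⧸ D) ↔ X ≤ Cfsg.pCore p H := by
    intro X
    rw [Subgroup.map_le_iff_le_comap, CfsgLib.PIrr.comap_pCore_quotient hD]
  have hK : ∀ X : Subgroup (H ⧸ D), Cfsg.pResidual p (H ⧸ D) ≤ X ↔
      Cfsg.pResidual p H ≤ X.comap f := by
    intro X
    rw [← CfsgLib.PIrr.map_pResidual f hs, Subgroup.map_le_iff_le_comap]
  have hKsup : ∀ N : Subgroup H, N.Normal → Cfsg.pResidual p H ≤ N ⊔ D → Cfsg.pResidual p H ≤ N :=
    fun N hN h => haveI := hN; CfsgLib.PIrr.pResidual_le_of_pResidual_le_sup hD h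
  have hnc : Cfsg.IsPClosed p H ↔ Cfsg.IsPClosed p (H ⧸ D) := by
    rw [CfsgLib.PIrr.isPClosed_iff T, CfsgLib.PIrr.isPClosed_iff T', hT', hQ]
  have hcomap : ∀ N : Subgroup H, (N.map f).comap f = N ⊔ D := fun N => by
    rw [Subgroup.comap_map_eq, hker]
  constructor
  · rw [CfsgLib.PIrr.isPIrreducible_iff T, CfsgLib.PIrr.isPIrreducible_iff T', hT', hQ]
    refine and_congr_right fun _ => ⟨fun h N' hN' hnot => ?_, fun h N hN hnot => ?_⟩
    · refine (hK N').mpr (h _ (hN'.comap f) fun hle => hnot ?_)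
      rintro _ ⟨⟨t, ht, rfl⟩, hx⟩
      exact (hQ _).mpr hle (Subgroup.mem_map_of_mem f (show t ∈ (T : Subgroup H) ⊓ N'.comap f from ⟨ht, hx⟩))
    · refine hKsup N hN ?_
      rw [← hcomap]
      refine (hK _).mp (h _ (hN.map f hs) fun hle => hnot ?_)
      refine (inf_le_inf_left _ (le_sup_left : N ≤ N ⊔ D)).trans ?_
      rw [← hcomap, ← hQ]
      rintro _ ⟨t, ht, rfl⟩
      exact hle ⟨Subgroup.mem_map_of_mem f ht.1, ht.2⟩
  · haveI := CfsgLib.PRed.pCore_normal (p := p) (G := H ⧸ D)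
    have hcom : ∀ N : Subgroup H, ⁅N.map f, (⊤ : Subgroup (H ⧸ D))⁆ ≤ Cfsg.pCore p (H ⧸ D) ↔
        ⁅N, (⊤ : Subgroup H)⁆ ≤ Cfsg.pCore p H := by
      intro N
      rw [← Subgroup.map_top_of_surjective f hs, ← Subgroup.map_commutator, hQ]
    rw [Cfsg.IsStronglyPIrreducible, Cfsg.IsStronglyPIrreducible, hnc]
    refine and_congr_right fun _ => ⟨fun h N' hN' hnot => ?_, fun h N hN hnot => ?_⟩
    · refine (hK N').mpr (h _ (hN'.comap f) fun hle => hnot ?_)
      rw [← Subgroup.map_comap_eq_self_of_surjective hs N', hcom]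
      exact hle
    · refine hKsup N hN ?_
      rw [← hcomap]
      exact (hK _).mp (h _ (hN.map f hs) fun hle => hnot ((hcom N).mp hle))

end Cfsg.Agent.S2828
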