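import Cfsg.Statements.S2829
-- import your own Cfsg.Agent.* helpers here

import Cfsg.Agent.Lib.LocalEven.PIrreducible
import Cfsg.Agent.Lib.LocalEven.PReducedSubnormal

set_option autoImplicit false
open Cfsg
open scoped commutatorElement

namespace Cfsg.Agent.S2829

/-- Every strongly p-irreducible finite group is p-irreducible. -/
theorem result {H : Type*} [Group H] [Finite H] {p : ℕ} [Fact p.Prime] (hH : Cfsg.IsStronglyPIrreducible p H) : Cfsg.IsPIrreducible p H := by
  refine ⟨hH.1, fun N hN hnc => hH.2 N hN fun hle => hnc ?_⟩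
  haveI := hN
  obtain ⟨T⟩ : Nonempty (Sylow p H) := inferInstance
  intro P
  obtain ⟨P₀, hP₀⟩ := CfsgLib.PRed.exists_sylow_inf_normal T N
  have hn : (P₀ : Subgroup ↥N).Normal := by
    refine ⟨fun x hx g => ?_⟩
    rw [hP₀, Subgroup.mem_subgroupOf] at hx ⊢
    have h1 : ⁅(g : H), (x : H)⁆ ∈ (T : Subgroup H) := by
      refine CfsgLib.PRed.pCore_le_sylow T (hle ?_)
      exact Subgroup.commutator_mem_commutator g.2 (Subgroup.mem_top _)
    have h2 := (T : Subgroup H).mul_mem h1 hx
    rwa [commutatorElement_def, inv_mul_cancel_right] at h2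
  exact (CfsgLib.PIrr.isPClosed_iff P₀).mpr (CfsgLib.PRed.le_pCore hn P₀.2) P

end Cfsg.Agent.S2829
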