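import Cfsg.Statements.S2830
-- import your own Cfsg.Agent.* helpers here

import Cfsg.Agent.Lib.LocalEven.PIrreducible
import Cfsg.Agent.Lib.LocalEven.PReducedSubnormal

set_option autoImplicit false
open Cfsg
open scoped commutatorElement

namespace Cfsg.Agent.S2830

/-- Let H act by conjugation on the elementary abelian p-subgroup V of a finite group G (H ≤ N(V)), with H p-irreducible and O^p(H) not centralizing V. Then C_H(V) is p-closed and C_T(V) ≤ O_p(H) for every p-subgroup T of H. If in addition O_p(H) centralizes V, then C_T(V) = T ∩ O_p(H) for every p-subgroup T of H, and V is p-reduced for H: O_p(H/C_H(V)) = 1. -/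
theorem result {G : Type*} [Group G] [Finite G] {p : ℕ} [Fact p.Prime] (V H : Subgroup G) (hV : Cfsg.IsElementaryAbelian p V) (hHV : H ≤ Subgroup.normalizer (V : Set G)) (hH : Cfsg.IsPIrreducible p ↥H) (hnc : ¬ (Cfsg.pResidual p ↥H).map H.subtype ≤ Subgroup.centralizer (V : Set G)) [hn : ((Subgroup.centralizer (V : Set G)).subgroupOf H).Normal] : Cfsg.IsPClosed p ↥(H ⊓ Subgroup.centralizer (V : Set G)) ∧ (∀ T : Subgroup G, T ≤ H → IsPGroup p ↥T → T ⊓ Subgroup.centralizer (V : Set G) ≤ Cfsg.pCoreOf p H) ∧ (Cfsg.pCoreOf p H ≤ Subgroup.centralizer (V : Set G) → (∀ T : Subgroup G, T ≤ H → IsPGroup p ↥T → T ⊓ Subgroup.centralizer (V : Set G) = T ⊓ Cfsg.pCoreOf p H) ∧ Cfsg.pCore p (↥H ⧸ (Subgroup.centralizer (V : Set G)).subgroupOf H) = ⊥) := by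
  set C' := (Subgroup.centralizer (V : Set G)).subgroupOf H with hC'
  have hnc' : ¬ Cfsg.pResidual p ↥H ≤ C' := fun h => hnc (Subgroup.map_le_iff_le_comap.mpr h)
  have hclosed : Cfsg.IsPClosed p ↥C' := by
    by_contra h
    exact hnc' (hH.2 C' hn h)
  refine ⟨?_, ?_, fun hQC => ⟨?_, ?_⟩⟩
  · let e : ↥C' ≃* ↥(H ⊓ Subgroup.centralizer (V : Set G)) :=
      { toFun := fun x => ⟨(x : H), (x : H).2, x.2⟩
        invFun := fun x => ⟨⟨x, x.2.1⟩, x.2.2⟩
        left_inv := fun x => rfl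
        right_inv := fun x => rfl
        map_mul' := fun x y => rfl }
    exact CfsgLib.PIrr.isPClosed_congr e hclosed
  · intro T hTH hT x hx
    exact ⟨⟨x, hTH hx.1⟩, CfsgLib.PIrr.le_pCore_of_le_isPClosed hclosed
      (P := (T ⊓ Subgroup.centralizer (V : Set G)).subgroupOf H)
      ((hT.to_le inf_le_left).comap_subtype) (fun y hy => hy.2) hx, rfl⟩
  · intro T hTH hT
    refine le_antisymm (le_inf inf_le_left ?_) (inf_le_inf_left T hQC)
    intro x hx
    exact ⟨⟨x, hTH hx.1⟩, CfsgLib.PIrr.le_pCore_of_le_isPClosed hclosed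
      (P := (T ⊓ Subgroup.centralizer (V : Set G)).subgroupOf H)
      ((hT.to_le inf_le_left).comap_subtype) (fun y hy => hy.2) hx, rfl⟩
  · rw [CfsgLib.PRed.noPAbove_iff]
    intro D hD hDp
    haveI := hD
    obtain ⟨S⟩ : Nonempty (Sylow p ↥H) := inferInstance
    have hQ : Cfsg.pCore p ↥H ≤ C' := fun y hy => hQC ⟨y, hy, rfl⟩
    by_cases hcl : Cfsg.IsPClosed p ↥D
    · exact (CfsgLib.PRed.le_sup_sylow_inf S D hDp).trans
        (sup_le le_rfl (((CfsgLib.PIrr.isPClosed_normal_iff S D).mp hcl).trans hQ))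
    · refine absurd ((Subgroup.closure_le C').mpr fun y hy => ?_) hnc'
      obtain ⟨k, hk⟩ := hDp y (hH.2 D hD hcl (CfsgLib.PRed.mem_pResidual hy))
      exact CfsgLib.PRed.mem_of_pow_pow_mem hy hk

end Cfsg.Agent.S2830
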