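import Cfsg.Statements.S2831
-- import your own Cfsg.Agent.* helpers here

import Cfsg.Agent.Lib.LocalEven.PIrreducible
import Cfsg.Agent.Lib.LocalEven.PReducedSubnormal

set_option autoImplicit false
open Cfsg
open scoped commutatorElement

namespace Cfsg.Agent.S2831

/-- Let H be a finite group with Sylow p-subgroup T such that H is T-minimal (H is generated by the conjugates of T and T lies in exactly one maximal subgroup of H). Then H is p-irreducible: H is not p-closed and O^p(H) lies in every normal subgroup of H that is not p-closed. -/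
theorem result {H : Type*} [Group H] [Finite H] {p : ℕ} [Fact p.Prime] (T : Sylow p H) (hmin : Cfsg.IsMinimalOver (T : Subgroup H)) : Cfsg.IsPIrreducible p H := by
  obtain ⟨hgen, M, ⟨hMc, hTM⟩, huniq⟩ := hmin
  have hM : ∀ X : Subgroup H, (T : Subgroup H) ≤ X → X ≠ ⊤ → X ≤ M := by
    intro X hTX hX
    obtain ⟨W, hW, hXW⟩ := (eq_top_or_exists_le_coatom X).resolve_left hX
    exact huniq W ⟨hW, hTX.trans hXW⟩ ▸ hXW
  rw [CfsgLib.PIrr.isPIrreducible_iff T]
  haveI := CfsgLib.PRed.pCore_normal (p := p) (G := H)
  constructor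
  · intro hle
    have h1 : Subgroup.normalClosure ((T : Subgroup H) : Set H) ≤ Cfsg.pCore p H :=
      Subgroup.normalClosure_le_normal hle
    rw [hgen] at h1
    exact hMc.1 (top_le_iff.mp ((h1.trans (CfsgLib.PRed.pCore_le_sylow T)).trans hTM))
  · intro N hN hnot
    haveI := hN
    set P := (T : Subgroup H) ⊓ N with hP
    have hTR : (T : Subgroup H) ≤ Subgroup.normalizer (P : Set H) :=
      (le_inf Subgroup.le_normalizer Subgroup.le_normalizer_of_normal).trans
        (CfsgLib.PRed.normalizer_inf_le_normalizer_inf _ _)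
    have hR : Subgroup.normalizer (P : Set H) ≠ ⊤ := fun h => hnot
      (CfsgLib.PRed.le_pCore (Subgroup.normalizer_eq_top_iff.mp h) (T.2.to_le inf_le_left))
    refine CfsgLib.PIrr.pResidual_le_of_sup_eq_top T.2 (by_contra fun hne => hMc.1 ?_)
    obtain ⟨P₀, hP₀⟩ := CfsgLib.PRed.exists_sylow_inf_normal T N
    have hfr := Sylow.normalizer_sup_eq_top P₀
    rw [hP₀, Subgroup.subgroupOf_map_subtype] at hfr
    exact top_le_iff.mp (hfr.ge.trans
      (sup_le (hM _ hTR hR) (le_sup_left.trans (hM _ le_sup_right hne))))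

end Cfsg.Agent.S2831
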