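import Cfsg.Statements.S2832
-- import your own Cfsg.Agent.* helpers here

import Cfsg.Agent.Lib.LocalEven.PIrreducible
import Cfsg.Agent.Lib.LocalEven.PReducedSubnormal

set_option autoImplicit false
open Cfsg
open scoped commutatorElement

namespace Cfsg.Agent.S2832

/-- Let H be a finite group with Sylow p-subgroup T such that H is T-minimal (generated by the conjugates of T, with T in exactly one maximal subgroup), and let N be a normal subgroup of H. Then either H/N is a p-group or H/N is minimal over the image of T in the same sense. -/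
theorem result {H : Type*} [Group H] [Finite H] {p : ℕ} [Fact p.Prime] (T : Sylow p H) (hmin : Cfsg.IsMinimalOver (T : Subgroup H)) (N : Subgroup H) [N.Normal] : IsPGroup p (H ⧸ N) ∨ Cfsg.IsMinimalOver ((T : Subgroup H).map (QuotientGroup.mk' N)) := by
  set f := QuotientGroup.mk' N with hf
  have hs : Function.Surjective f := QuotientGroup.mk'_surjective N
  by_cases htop : N ⊔ (T : Subgroup H) = ⊤
  · left
    rw [isPGroup_iff_pow_pow_eq_one]
    intro y
    obtain ⟨x, rfl⟩ := QuotientGroup.mk_surjective y
    obtain ⟨k, hk⟩ := CfsgLib.PRed.exists_pow_pow_mem_pResidual (p := p) x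
    refine ⟨k, ?_⟩
    rw [← QuotientGroup.mk_pow, QuotientGroup.eq_one_iff]
    exact CfsgLib.PIrr.pResidual_le_of_sup_eq_top T.2 htop hk
  right
  obtain ⟨hgen, M, ⟨hMc, hTM⟩, huniq⟩ := hmin
  obtain ⟨W, hW, hle⟩ := (eq_top_or_exists_le_coatom _).resolve_left htop
  have hWM : W = M := huniq W ⟨hW, le_sup_right.trans hle⟩
  subst hWM
  have hker : f.ker ≤ W := by rw [QuotientGroup.ker_mk']; exact le_sup_left.trans hle
  have hcomap : (W.map f).comap f = W := Subgroup.comap_map_eq_self hker
  refine ⟨?_, W.map f, ⟨⟨?_, ?_⟩, Subgroup.map_mono hTM⟩, ?_⟩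
  · rw [Subgroup.coe_map, ← Subgroup.map_normalClosure _ f hs, hgen,
      Subgroup.map_top_of_surjective f hs]
  · intro h
    rw [h, Subgroup.comap_top] at hcomap
    exact hMc.1 hcomap.symm
  · intro X hX
    have hlt : W < X.comap f := by
      rw [← hcomap]
      exact (Subgroup.comap_lt_comap_of_surjective hs).mpr hX
    rw [← Subgroup.map_comap_eq_self_of_surjective hs X, hMc.2 _ hlt,
      Subgroup.map_top_of_surjective f hs]
  · rintro X ⟨hX, hTX⟩
    have hco : IsCoatom (X.comap f) := by
      refine ⟨fun h => hX.1 ?_, fun Y hY => ?_⟩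
      · rw [← Subgroup.map_comap_eq_self_of_surjective hs X, h, Subgroup.map_top_of_surjective f hs]
      · have hkY : f.ker ≤ Y := (Subgroup.ker_le_comap _ _).trans hY.le
        have hlt : X < Y.map f := by
          refine lt_of_le_of_ne ?_ fun h => hY.ne ?_
          · rw [← Subgroup.map_comap_eq_self_of_surjective hs X]
            exact Subgroup.map_mono hY.le
          · rw [h, Subgroup.comap_map_eq_self hkY]
        rw [← Subgroup.comap_map_eq_self hkY, hX.2 _ hlt, Subgroup.comap_top]
    rw [← huniq _ ⟨hco, Subgroup.map_le_iff_le_comap.mp hTX⟩,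
      Subgroup.map_comap_eq_self_of_surjective hs]

end Cfsg.Agent.S2832
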