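import Cfsg.Statements.S2833
-- import your own Cfsg.Agent.* helpers here

import Cfsg.Agent.Lib.LocalEven.PReducedBasic

set_option autoImplicit false
open Cfsg
open scoped commutatorElement

namespace Cfsg.Agent.S2833

/-- Let V be a subgroup of a finite group G normalized by the subgroup L, let X ≤ L and g ∈ L with [V, X, X] = 1 and L generated by X and gXg⁻¹. Put W = [V, L]. Then W = [V, X]·[V, gXg⁻¹], C_W(X) = [V, X], and C_W(L) = [V, X] ∩ [V, gXg⁻¹]. -/
theorem result {G : Type*} [Group G] [Finite G] (V L : Subgroup G) (hLV : L ≤ Subgroup.normalizer (V : Set G)) (X : Subgroup G) (hX : X ≤ L) (g : G) (hg : g ∈ L) (hq : ⁅⁅V, X⁆, X⁆ = ⊥) (hgen : X ⊔ X.map (MulAut.conj g).toMonoidHom = L) (W : Subgroup G) (hW : W = ⁅V, L⁆) : ⁅V, X⁆ ⊔ ⁅V, X.map (MulAut.conj g).toMonoidHom⁆ = W ∧ W ⊓ Subgroup.centralizer (X : Set G) = ⁅V, X⁆ ∧ W ⊓ Subgroup.centralizer (L : Set G) = ⁅V, X⁆ ⊓ ⁅V, X.map (MulAut.conj g).toMonoidHom⁆ := by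
  subst hW
  set c := (MulAut.conj g).toMonoidHom with hc
  set Y := X.map c with hY
  set A := ⁅V, X⁆ with hA
  set B := ⁅V, Y⁆ with hB
  have hXV : X ≤ Subgroup.normalizer (V : Set G) := hX.trans hLV
  have hYL : Y ≤ L := hgen ▸ le_sup_right
  have hYV : Y ≤ Subgroup.normalizer (V : Set G) := hYL.trans hLV
  have hgV : V.map c = V := Subgroup.mem_normalizer_iff_map_conj_eq.mp (hLV hg)
  have hAB : A.map c = B := by rw [hA, hB, hY, Subgroup.map_commutator, hgV]
  have hqY : ⁅B, Y⁆ = ⊥ := by rw [← hAB, hY, ← Subgroup.map_commutator, hq, Subgroup.map_bot]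
  have hAV : A ≤ V := Subgroup.le_normalizer_iff_commutator_le_left.mp hXV
  have hBV : B ≤ V := Subgroup.le_normalizer_iff_commutator_le_left.mp hYV
  have hVA : V ≤ Subgroup.normalizer (A : Set G) := Subgroup.normalizer_commutator_ge_left _ _
  have hVB : V ≤ Subgroup.normalizer (B : Set G) := Subgroup.normalizer_commutator_ge_left _ _
  have hAX : A ≤ Subgroup.centralizer (X : Set G) := Subgroup.commutator_eq_bot_iff_le_centralizer.mp hq
  have hBY : B ≤ Subgroup.centralizer (Y : Set G) := Subgroup.commutator_eq_bot_iff_le_centralizer.mp hqY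
  have hVAB : V ≤ Subgroup.normalizer ((A ⊔ B : Subgroup G) : Set G) := by
    intro v hv
    refine CfsgLib.PRed.mem_normalizer_of_conj_mem fun z hz => ?_
    have hle : A ⊔ B ≤ (A ⊔ B).comap (MulAut.conj v).toMonoidHom :=
      sup_le (fun a ha => Subgroup.mem_sup_left ((Subgroup.mem_normalizer_iff.mp (hVA hv) a).mp ha))
        (fun b hb => Subgroup.mem_sup_right ((Subgroup.mem_normalizer_iff.mp (hVB hv) b).mp hb))
    exact hle hz
  have hconj : ∀ Z : Subgroup G, ⁅V, Z⁆ ≤ A ⊔ B → Z ≤ Subgroup.normalizer (V : Set G) →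
      Z ≤ Subgroup.normalizer ((A ⊔ B : Subgroup G) : Set G) := by
    intro Z hZ hZV z hz
    refine CfsgLib.PRed.mem_normalizer_of_conj_mem fun w hw => ?_
    have hwV : w ∈ V := (sup_le hAV hBV) hw
    have h1 : ⁅z, w⁆ ∈ A ⊔ B := by
      refine hZ ?_
      rw [Subgroup.commutator_comm]
      exact Subgroup.commutator_mem_commutator hz hwV
    rw [show z * w * z⁻¹ = ⁅z, w⁆ * w by group]
    exact Subgroup.mul_mem _ h1 hw
  have hLAB : L ≤ Subgroup.normalizer ((A ⊔ B : Subgroup G) : Set G) := by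
    rw [← hgen]
    exact sup_le (hconj X le_sup_left hXV) (hconj Y le_sup_right hYV)
  have hW : ⁅V, L⁆ = A ⊔ B := by
    refine le_antisymm ?_ (sup_le (Subgroup.commutator_mono le_rfl hX) (Subgroup.commutator_mono le_rfl hYL))
    rw [Subgroup.commutator_le]
    intro v hv l hl
    rw [← hgen, Subgroup.sup_eq_closure] at hl
    induction hl using Subgroup.closure_induction generalizing v with
    | mem x hx =>
      rcases hx with h | h
      · exact Subgroup.mem_sup_left (Subgroup.commutator_mem_commutator hv h)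
      · exact Subgroup.mem_sup_right (Subgroup.commutator_mem_commutator hv h)
    | one => simp
    | mul a b ha _ iha ihb =>
      rw [commutatorElement_mul_right_eq_mul_conj, mul_assoc, mul_assoc, ← mul_assoc a]
      have haL : a ∈ L := by rw [← hgen, Subgroup.sup_eq_closure]; exact ha
      exact Subgroup.mul_mem _ (iha v hv) ((Subgroup.mem_normalizer_iff.mp (hLAB haL) _).mp (ihb v hv))
    | inv a ha iha =>
      rw [commutatorElement_inv_right, ← commutatorElement_inv]
      have haL : a ∈ L := by rw [← hgen, Subgroup.sup_eq_closure]; exact ha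
      simpa using (Subgroup.mem_normalizer_iff.mp (inv_mem (hLAB haL)) _).mp
        (Subgroup.inv_mem _ (iha v hv))
  have hgen' : L ≤ Subgroup.centralizer ((A ⊓ B : Subgroup G) : Set G) := by
    rw [← hgen]
    exact sup_le
      ((Subgroup.le_centralizer_iff.mp hAX).trans (Subgroup.centralizer_le (SetLike.coe_subset_coe.mpr inf_le_left)))
      ((Subgroup.le_centralizer_iff.mp hBY).trans (Subgroup.centralizer_le (SetLike.coe_subset_coe.mpr inf_le_right)))
  have hfix : ∀ z : G, z ∈ Subgroup.centralizer (X : Set G) → z ∈ Subgroup.centralizer (Y : Set G) →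
      g⁻¹ * z * g = z ∧ g * z * g⁻¹ = z := by
    intro z hzX hzY
    have hle : L ≤ Subgroup.centralizer ({z} : Set G) := by
      rw [← hgen]
      exact sup_le (fun x hx => Subgroup.mem_centralizer_singleton_iff.mpr (Subgroup.mem_centralizer_iff.mp hzX x hx))
        (fun x hx => Subgroup.mem_centralizer_singleton_iff.mpr (Subgroup.mem_centralizer_iff.mp hzY x hx))
    have hzg : g * z = z * g := Subgroup.mem_centralizer_singleton_iff.mp (hle hg)
    exact ⟨by rw [mul_assoc, ← hzg, inv_mul_cancel_left], by rw [hzg, mul_inv_cancel_right]⟩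
  refine ⟨hW.symm, ?_, ?_⟩
  · refine le_antisymm ?_ (le_inf (hW ▸ le_sup_left) hAX)
    rintro w ⟨hwW, hwC⟩
    rw [hW] at hwW
    obtain ⟨a, ha, b, hb, rfl⟩ :=
      CfsgLib.PRed.exists_mul_of_mem_sup (D := A) (C := B) (hAV.trans hVB) hwW
    have hbX : b ∈ Subgroup.centralizer (X : Set G) := by
      simpa using Subgroup.mul_mem _ (Subgroup.inv_mem _ (hAX ha)) hwC
    refine A.mul_mem ha ?_
    have hb' := hb
    rw [← hAB] at hb'
    obtain ⟨b', hb', hbe⟩ := hb'
    have hbe' : g * b' * g⁻¹ = b := hbe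
    have h1 := (hfix b hbX (hBY hb)).1
    rw [← hbe'] at h1 ⊢
    rw [show g⁻¹ * (g * b' * g⁻¹) * g = b' by group] at h1
    exact h1 ▸ hb'
  · refine le_antisymm ?_ (le_inf ((inf_le_left).trans (hW ▸ le_sup_left)) (Subgroup.le_centralizer_iff.mp hgen'))
    rintro w ⟨hwW, hwC⟩
    have hwX : w ∈ Subgroup.centralizer (X : Set G) := Subgroup.centralizer_le (SetLike.coe_subset_coe.mpr hX) hwC
    have hwY : w ∈ Subgroup.centralizer (Y : Set G) := Subgroup.centralizer_le (SetLike.coe_subset_coe.mpr hYL) hwC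
    rw [hW] at hwW
    obtain ⟨a, ha, b, hb, rfl⟩ :=
      CfsgLib.PRed.exists_mul_of_mem_sup (D := A) (C := B) (hAV.trans hVB) hwW
    have hbX : b ∈ Subgroup.centralizer (X : Set G) := by
      simpa using Subgroup.mul_mem _ (Subgroup.inv_mem _ (hAX ha)) hwX
    have haY : a ∈ Subgroup.centralizer (Y : Set G) := by
      simpa using Subgroup.mul_mem _ hwY (Subgroup.inv_mem _ (hBY hb))
    have h1 := (hfix b hbX (hBY hb)).1
    have h2 := (hfix a (hAX ha) haY).2
    have hbA : b ∈ A := by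
      have hb' := hb
      rw [← hAB] at hb'
      obtain ⟨b', hb', hbe⟩ := hb'
      have hbe' : g * b' * g⁻¹ = b := hbe
      rw [← hbe'] at h1 ⊢
      rw [show g⁻¹ * (g * b' * g⁻¹) * g = b' by group] at h1
      exact h1 ▸ hb'
    have haB : a ∈ B := by
      rw [← hAB, ← h2]
      exact ⟨a, ha, rfl⟩
    exact ⟨A.mul_mem ha hbA, B.mul_mem haB hb⟩

end Cfsg.Agent.S2833
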