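import Cfsg.Statements.S2834
-- import your own Cfsg.Agent.* helpers here

import Cfsg.Agent.Lib.LocalEven.LLemma

set_option autoImplicit false
open Cfsg
open scoped commutatorElement

namespace Cfsg.Agent.S2834

/-- The L-Lemma: let H be a finite group with Sylow p-subgroup T such that H is T-minimal (generated by the conjugates of T, T in exactly one maximal subgroup M), and let A ≤ T with A not contained in O_p(H). Then there is a subgroup L of H containing A·O_p(H) such that (a) A·O_p(L) lies in exactly one maximal subgroup L₀ of L, and L₀ = L ∩ gMg⁻¹ for some g ∈ H; (b) L = ⟨A, xAx⁻¹⟩·O_p(L) for every x ∈ L outside L₀. -/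
theorem result {H : Type*} [Group H] [Finite H] {p : ℕ} [Fact p.Prime] (T : Sylow p H) (hmin : Cfsg.IsMinimalOver (T : Subgroup H)) (M : Subgroup H) (hM : IsCoatom M ∧ (T : Subgroup H) ≤ M) (A : Subgroup H) (hAT : A ≤ (T : Subgroup H)) (hA : ¬ A ≤ Cfsg.pCore p H) : ∃ L : Subgroup H, A ⊔ Cfsg.pCore p H ≤ L ∧ ∃ L₀ : Subgroup H, A ⊔ (Cfsg.pCoreOf p L) ≤ L₀ ∧ L₀ < L ∧ (∀ X : Subgroup H, A ⊔ (Cfsg.pCoreOf p L) ≤ X → X < L → X ≤ L₀) ∧ (∃ g : H, L₀ = L ⊓ ((M : Subgroup H).map (MulAut.conj (g : H)).toMonoidHom)) ∧ ∀ x ∈ L, x ∉ L₀ → (A ⊔ ((A : Subgroup H).map (MulAut.conj (x : H)).toMonoidHom)) ⊔ (Cfsg.pCoreOf p L) = L := by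
  have hT : (T : Subgroup H) ≤ M := hM.2
  have hnc := hmin
  have htop : Cfsg.pCoreOf p (⊤ : Subgroup H) = Cfsg.pCore p H := by
    refine le_antisymm (CfsgLib.PRed.le_pCore ?_ (CfsgLib.LLemma.pCoreOf_isPGroup _)) (CfsgLib.LLemma.le_pCoreOf le_top ?_ CfsgLib.PRed.pCore_isPGroup)
    · exact Subgroup.normalizer_eq_top_iff.mp (top_le_iff.mp (CfsgLib.LLemma.le_normalizer_pCoreOf ⊤))
    · haveI := CfsgLib.PRed.pCore_normal (p := p) (G := H)
      exact Subgroup.le_normalizer_of_normal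
  have hG : CfsgLib.LLemma.Good p (⊤ : Subgroup H) M (T : Subgroup H) := by
    refine ⟨lt_top_iff_ne_top.mpr hM.1.1, hT, T.2, fun P' _ hP' hle => T.3 hP' hle,
      fun X hTX hX => CfsgLib.YMin.le_of_ne_top hM.1 hT hnc hTX hX.ne, fun x _ hx => ?_⟩
    rw [← CfsgLib.YMin.normalizer_eq hM.1 hT hnc]
    refine CfsgLib.PRed.mem_normalizer_of_conj_mem fun z hz => ?_
    exact hx.le ⟨z, hz, rfl⟩
  obtain ⟨L, -, hAL, L₀, h1, h2, h3, ⟨g, -, h4⟩, h5⟩ :=
    CfsgLib.LLemma.main (Nat.card (⊤ : Subgroup H)) ⊤ M T A le_rfl hG hAT (by rwa [htop])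
  exact ⟨L, htop ▸ hAL, L₀, h1, h2, h3, ⟨g, h4⟩, h5⟩

end Cfsg.Agent.S2834
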