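import Cfsg.Statements.S2836
-- import your own Cfsg.Agent.* helpers here

import Cfsg.Agent.Lib.LocalEven.YMinimal
import Mathlib.GroupTheory.Nilpotent

set_option autoImplicit false
open Cfsg
open scoped commutatorElement

namespace Cfsg.Agent.S2836

/-- Let L be a finite group, L₀ a maximal subgroup, T a Sylow p-subgroup of L₀, Y ≤ T, and suppose L is Y-minimal. Let D be the intersection of the conjugates of L₀ (the core of L₀). Then D contains O_p(L) and D/O_p(L) is the Frattini subgroup of L/O_p(L), so D is p-closed; and every normal subgroup N of L contained in L₀ is p-closed with N/O_p(N) a nilpotent group of order prime to p. -/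
theorem result {L : Type*} [Group L] [Finite L] {p : ℕ} [Fact p.Prime] (L₀ : Subgroup L) (hL₀ : IsCoatom L₀) (T : Sylow p ↥L₀) (Y : Subgroup L) (hYT : Y ≤ (T : Subgroup ↥L₀).map L₀.subtype) (hmin : Cfsg.IsMinimalOver Y) : (Cfsg.pCore p L ≤ L₀.normalCore ∧ (L₀.normalCore).map (QuotientGroup.mk' (Cfsg.pCore p L)) = frattini (L ⧸ Cfsg.pCore p L) ∧ Cfsg.IsPClosed p ↥(L₀.normalCore)) ∧ ∀ (N : Subgroup L) [N.Normal], N ≤ L₀ → Cfsg.IsPClosed p ↥N ∧ Group.IsNilpotent (↥N ⧸ Cfsg.pCore p ↥N) ∧ (Nat.card (↥N ⧸ Cfsg.pCore p ↥N)).Coprime p := by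
  haveI hOn : (Cfsg.pCore p L).Normal := CfsgLib.PRed.pCore_normal
  have hO := CfsgLib.YMin.pCore_le hL₀ hmin hYT
  have hfr := CfsgLib.YMin.map_normalCore_eq_frattini hL₀ hmin hYT
  refine ⟨⟨Subgroup.normal_le_normalCore.mpr hO, hfr,
    fun S => (CfsgLib.YMin.sylow_le_pCore hL₀ hmin hYT L₀.normalCore_le S).1⟩, ?_⟩
  intro N hNn hN
  obtain ⟨S⟩ : Nonempty (Sylow p ↥N) := inferInstance
  obtain ⟨hSn, hSO⟩ := CfsgLib.YMin.sylow_le_pCore hL₀ hmin hYT hN S
  have hcore : Cfsg.pCore p ↥N = (S : Subgroup ↥N) :=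
    le_antisymm (CfsgLib.PRed.pCore_le_sylow S) (CfsgLib.PRed.le_pCore hSn S.2)
  haveI hcn : (Cfsg.pCore p ↥N).Normal := CfsgLib.PRed.pCore_normal
  refine ⟨fun S' => (CfsgLib.YMin.sylow_le_pCore hL₀ hmin hYT hN S').1, ?_, ?_⟩
  · haveI := frattini_nilpotent (G := L ⧸ Cfsg.pCore p L)
    have hND : N ≤ L₀.normalCore := Subgroup.normal_le_normalCore.mpr hN
    let f : ↥N →* ↥(frattini (L ⧸ Cfsg.pCore p L)) :=
      ((QuotientGroup.mk' (Cfsg.pCore p L)).comp N.subtype).codRestrict _
        fun x => hfr ▸ ⟨(x : L), hND x.2, rfl⟩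
    have hker : f.ker = Cfsg.pCore p ↥N := by
      ext x
      rw [MonoidHom.mem_ker]
      constructor
      · intro hx
        have hxO : (x : L) ∈ Cfsg.pCore p L := by
          simpa [f, Subtype.ext_iff, QuotientGroup.eq_one_iff] using hx
        have hn : ((Cfsg.pCore p L).subgroupOf N).Normal := Subgroup.Normal.subgroupOf hOn N
        exact CfsgLib.PRed.le_pCore hn (CfsgLib.PRed.pCore_isPGroup.comap_subtype) hxO
      · intro hx
        rw [hcore] at hx
        simpa [f, Subtype.ext_iff, QuotientGroup.eq_one_iff] using hSO ⟨x, hx, rfl⟩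
    refine Subgroup.isNilpotent_of_ker_le_center (QuotientGroup.kerLift f |>.comp
      (QuotientGroup.quotientMulEquivOfEq hker.symm).toMonoidHom) ?_
    intro x hx
    have : x = 1 := by
      have h1 := QuotientGroup.kerLift_injective f
        (show (QuotientGroup.kerLift f) ((QuotientGroup.quotientMulEquivOfEq hker.symm) x) =
          (QuotientGroup.kerLift f) 1 by rw [map_one]; exact hx)
      exact (QuotientGroup.quotientMulEquivOfEq hker.symm).injective (by rw [h1, map_one])
    rw [this]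
    exact one_mem _
  · rw [← Subgroup.index_eq_card, hcore]
    exact ((Fact.out : p.Prime).coprime_iff_not_dvd.mpr S.not_dvd_index).symm

end Cfsg.Agent.S2836
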