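import Cfsg.Statements.S2837
-- import your own Cfsg.Agent.* helpers here

import Cfsg.Agent.Lib.LocalEven.YMinimal
import Cfsg.Agent.Lib.PGroup.Frattini

set_option autoImplicit false
open Cfsg
open scoped commutatorElement

namespace Cfsg.Agent.S2837

/-- Let L be a finite group of characteristic p, L₀ a maximal subgroup, Y an elementary abelian p-subgroup of L₀ with L Y-minimal and O_p(L) ≤ N_L(Y). Put A = the normal closure of O_p(L) ∩ Y in L. Then for every g ∈ L outside L₀: Φ(A) = A' = [A ∩ Y, A] = [A ∩ Y, A ∩ gYg⁻¹] ≤ C_Y(L), and Y ∩ gYg⁻¹ = (A ∩ Y) ∩ (A ∩ gYg⁻¹) = C_Y(L) = C_A(L). -/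
theorem result {L : Type*} [Group L] [Finite L] {p : ℕ} [Fact p.Prime] (hchar : Subgroup.centralizer (Cfsg.pCore p L : Set L) ≤ Cfsg.pCore p L) (L₀ : Subgroup L) (hL₀ : IsCoatom L₀) (Y : Subgroup L) (hYL₀ : Y ≤ L₀) (hYel : Cfsg.IsElementaryAbelian p Y) (hmin : Cfsg.IsMinimalOver Y) (hOY : Cfsg.pCore p L ≤ Subgroup.normalizer (Y : Set L)) (A : Subgroup L) (hA : A = Subgroup.normalClosure (((Cfsg.pCore p L ⊓ Y : Subgroup L)) : Set L)) (g : L) (hg : g ∉ L₀) : (frattini ↥A).map A.subtype = ⁅A, A⁆ ∧ ⁅A, A⁆ = ⁅A ⊓ Y, A⁆ ∧ ⁅A ⊓ Y, A⁆ = ⁅A ⊓ Y, A ⊓ Y.map (MulAut.conj g).toMonoidHom⁆ ∧ ⁅A ⊓ Y, A⁆ ≤ Y ⊓ Subgroup.center L ∧ Y ⊓ Y.map (MulAut.conj g).toMonoidHom = Y ⊓ Subgroup.center L ∧ (A ⊓ Y) ⊓ (A ⊓ Y.map (MulAut.conj g).toMonoidHom) = Y ⊓ Subgroup.center L ∧ A ⊓ Subgroup.center L = Y ⊓ Subgroup.center L := by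
  haveI hOn : (Cfsg.pCore p L).Normal := CfsgLib.PRed.pCore_normal
  have hOp : IsPGroup p ↥(Cfsg.pCore p L) := CfsgLib.PRed.pCore_isPGroup
  set O := Cfsg.pCore p L with hOdef
  obtain ⟨hYc, hYe⟩ := hYel
  set Y' := Y.map (MulAut.conj g).toMonoidHom with hY'
  set B := O ⊓ Y with hB
  set B' := B.map (MulAut.conj g).toMonoidHom with hB'
  have htop : Y ⊔ Y' = ⊤ := CfsgLib.YMin.sup_conj_eq_top hL₀ hYL₀ hmin hg
  have hinter : Y ⊓ Y' = Y ⊓ Subgroup.center L := CfsgLib.YMin.inf_conj_eq_of_comm hL₀ hYL₀ hmin hYc hg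
  have hOmap : O.map (MulAut.conj g).toMonoidHom = O := by
    refine Subgroup.eq_of_le_of_card_ge ?_ (le_of_eq (Subgroup.card_map_of_injective (MulEquiv.injective _)).symm)
    rintro _ ⟨x, hx, rfl⟩
    exact hOn.conj_mem x hx g
  have hB'eq : B' = O ⊓ Y' := by
    rw [hB', hB, Subgroup.map_inf _ _ _ (MulEquiv.injective _), hOmap]
  have hOY' : O ≤ Subgroup.normalizer (Y' : Set L) := by
    rw [← hOmap, hY', ← Subgroup.map_normalizer_eq_of_bijective Y (f := (MulAut.conj g).toMonoidHom)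
      (MulAut.conj g).bijective]
    exact Subgroup.map_mono hOY
  -- conjugation facts
  have hBB' : ∀ {U V : Subgroup L}, (O ≤ Subgroup.normalizer (U : Set L)) → V ≤ U →
      ∀ v ∈ V, ∀ x ∈ O, x * v * x⁻¹ * v⁻¹ ∈ O ⊓ U := by
    intro U V hU hV v hv x hx
    refine ⟨?_, U.mul_mem (((Subgroup.mem_normalizer_iff).mp (hU hx) v).mp (hV hv)) (U.inv_mem (hV hv))⟩
    have h1 : v * x⁻¹ * v⁻¹ ∈ O := hOn.conj_mem _ (O.inv_mem hx) v
    simpa [mul_assoc] using O.mul_mem hx h1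
  have hgen : ∀ {U : Subgroup L}, (O ≤ Subgroup.normalizer (U : Set L)) → IsMulCommutative ↥U →
      ∀ {W : Subgroup L}, W ≤ O → O ⊓ U ≤ W → U ≤ Subgroup.normalizer (W : Set L) := by
    intro U hU _ W hW hUW u hu
    refine CfsgLib.PRed.mem_normalizer_of_conj_mem fun w hw => ?_
    have h1 := hBB' hU le_rfl u hu w (hW hw)
    have h2 : u * w * u⁻¹ = (w * u * w⁻¹ * u⁻¹)⁻¹ * w := by group
    rw [h2]
    exact W.mul_mem (W.inv_mem (hUW h1)) hw
  have hY'c : IsMulCommutative ↥Y' := by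
    refine ⟨⟨fun ⟨a, x, hx, ha⟩ ⟨b, y, hy, hb⟩ => Subtype.ext ?_⟩⟩
    show a * b = b * a
    rw [← ha, ← hb, ← map_mul, ← map_mul]
    exact congrArg _ (congrArg Subtype.val (hYc.is_comm.comm ⟨x, hx⟩ ⟨y, hy⟩))
  have hWO : B ⊔ B' ≤ O := sup_le inf_le_left (hB'eq ▸ inf_le_left)
  have hWn : (B ⊔ B').Normal := by
    refine Subgroup.normalizer_eq_top_iff.mp (top_le_iff.mp (htop ▸ sup_le ?_ ?_))
    · exact hgen hOY hYc hWO le_sup_left
    · exact hgen hOY' hY'c hWO (hB'eq ▸ le_sup_right)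
  have hAeq : A = B ⊔ B' := by
    haveI := hWn
    rw [hA]
    refine le_antisymm (Subgroup.normalClosure_le_normal fun x hx => Subgroup.mem_sup_left hx) (sup_le ?_ ?_)
    · exact Subgroup.le_normalClosure
    · rintro _ ⟨x, hx, rfl⟩
      exact Subgroup.normalClosure_normal.conj_mem x (Subgroup.le_normalClosure hx) g
  have hAY : A ⊓ Y = B := by
    refine le_antisymm (fun x hx => ⟨hWO (hAeq ▸ hx.1), hx.2⟩) fun x hx => ⟨?_, hx.2⟩
    rw [hAeq]; exact Subgroup.mem_sup_left hx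
  have hAY' : A ⊓ Y' = B' := by
    rw [hB'eq]
    refine le_antisymm (fun x hx => ⟨hWO (hAeq ▸ hx.1), hx.2⟩) fun x hx => ⟨?_, hx.2⟩
    rw [hAeq, hB'eq]; exact Subgroup.mem_sup_right hx
  set Z := Y ⊓ Subgroup.center L with hZ
  have hZO : Z ≤ O := fun z hz =>
    hchar (Subgroup.mem_centralizer_iff.mpr fun x _ => Subgroup.mem_center_iff.mp hz.2 x)
  have hZB : Z ≤ B := fun z hz => ⟨hZO hz, hz.1⟩
  have hBBZ : B ⊓ B' = Z := by
    refine le_antisymm (fun x hx => hinter.le ⟨hx.1.2, (hB'eq.le hx.2).2⟩) fun z hz => ⟨hZB hz, ?_⟩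
    rw [hB'eq]
    exact ⟨hZO hz, (hinter.ge hz).2⟩
  -- the commutator of the two halves
  have hcomm : ⁅B, B'⁆ ≤ Z := by
    rw [← hBBZ, Subgroup.commutator_le]
    intro b hb c hc
    have hc' : c ∈ O ⊓ Y' := hB'eq.le hc
    constructor
    · have h1 := hBB' hOY le_rfl b hb.2 c hc'.1
      have h2 : ⁅b, c⁆ = (c * b * c⁻¹ * b⁻¹)⁻¹ := by rw [commutatorElement_def]; group
      rw [h2]
      exact (O ⊓ Y).inv_mem h1
    · rw [hB'eq, commutatorElement_def]
      exact hBB' hOY' le_rfl c hc'.2 b hb.1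
  have hCn : (⁅B, B'⁆).Normal := by
    refine ⟨fun x hx y => ?_⟩
    rwa [show y * x * y⁻¹ = x by rw [Subgroup.mem_center_iff.mp (hcomm hx).2 y, mul_inv_cancel_right]]
  have hBA : B ≤ A := hAeq ▸ le_sup_left
  have hB'A : B' ≤ A := hAeq ▸ le_sup_right
  have hAA : ⁅A, A⁆ ≤ ⁅B, B'⁆ := by
    haveI := hCn
    set π := QuotientGroup.mk' ⁅B, B'⁆
    have hk : (⁅A, A⁆).map π = ⊥ := by
      rw [Subgroup.map_commutator, Subgroup.commutator_eq_bot_iff_le_centralizer]
      have h1 : ∀ x ∈ B, ∀ y ∈ B', π x * π y = π y * π x := fun x hx y hy => by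
        rw [← commutatorElement_eq_one_iff_mul_comm, ← map_commutatorElement]
        exact (QuotientGroup.eq_one_iff _).mpr (Subgroup.commutator_mem_commutator hx hy)
      have e : A.map π = B.map π ⊔ B'.map π := by rw [hAeq, Subgroup.map_sup]
      have cB : ∀ x ∈ B, ∀ y ∈ B, π x * π y = π y * π x := fun x hx y hy => by
        rw [← map_mul, ← map_mul]
        exact congrArg π (congrArg Subtype.val (hYc.is_comm.comm ⟨x, hx.2⟩ ⟨y, hy.2⟩))
      have cB' : ∀ x ∈ B', ∀ y ∈ B', π x * π y = π y * π x := fun x hx y hy => by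
        rw [← map_mul, ← map_mul]
        exact congrArg π (congrArg Subtype.val (hY'c.is_comm.comm ⟨x, (hB'eq.le hx).2⟩ ⟨y, (hB'eq.le hy).2⟩))
      rw [e, sup_le_iff]
      constructor <;> rw [Subgroup.le_centralizer_iff, sup_le_iff] <;> constructor
      · rintro _ ⟨x, hx, rfl⟩
        rw [Subgroup.mem_centralizer_iff]
        rintro _ ⟨y, hy, rfl⟩
        exact cB y hy x hx
      · rintro _ ⟨x, hx, rfl⟩
        rw [Subgroup.mem_centralizer_iff]
        rintro _ ⟨y, hy, rfl⟩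
        exact h1 y hy x hx
      · rintro _ ⟨x, hx, rfl⟩
        rw [Subgroup.mem_centralizer_iff]
        rintro _ ⟨y, hy, rfl⟩
        exact (h1 x hx y hy).symm
      · rintro _ ⟨x, hx, rfl⟩
        rw [Subgroup.mem_centralizer_iff]
        rintro _ ⟨y, hy, rfl⟩
        exact cB' y hy x hx
    rwa [Subgroup.map_eq_bot_iff, QuotientGroup.ker_mk'] at hk
  have hAp : IsPGroup p ↥A := hOp.to_le (hAeq ▸ hWO)
  have hphi : (frattini ↥A).map A.subtype ≤ ⁅A, A⁆ := by
    refine Subgroup.map_le_iff_le_comap.mpr (CfsgLib.PGroup.frattini_le_of (p := p) _ ?_ ?_)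
    · rw [← Subgroup.map_le_iff_le_comap, Subgroup.map_subtype_commutator]
    · intro a
      show (a : L) ^ p ∈ ⁅A, A⁆
      haveI hn : (⁅A, A⁆).Normal := by
        haveI : A.Normal := by rw [hA]; exact Subgroup.normalClosure_normal
        exact Subgroup.commutator_normal A A
      set π := QuotientGroup.mk' ⁅A, A⁆
      have hab : ∀ x ∈ A, ∀ y ∈ A, Commute (π x) (π y) := fun x hx y hy => by
        show _ * _ = _ * _
        rw [← commutatorElement_eq_one_iff_mul_comm, ← map_commutatorElement]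
        exact (QuotientGroup.eq_one_iff _).mpr (Subgroup.commutator_mem_commutator hx hy)
      have hB1 : ∀ x ∈ B ⊔ B', x ∈ A ∧ π x ^ p = 1 := by
        intro x hx
        rw [Subgroup.sup_eq_closure] at hx
        induction hx using Subgroup.closure_induction with
        | mem y hy =>
          rcases hy with hy | hy
          · exact ⟨hBA hy, by rw [← map_pow, hYe y hy.2, map_one]⟩
          · refine ⟨hB'A hy, ?_⟩
            obtain ⟨z, hz, rfl⟩ := (hB'eq.le hy).2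
            rw [← map_pow, ← map_pow, hYe z hz, map_one, map_one]
        | one => exact ⟨A.one_mem, by rw [map_one, one_pow]⟩
        | mul y z _ _ hy hz =>
          exact ⟨A.mul_mem hy.1 hz.1, by rw [map_mul, (hab y hy.1 z hz.1).mul_pow, hy.2, hz.2, one_mul]⟩
        | inv y _ hy => exact ⟨A.inv_mem hy.1, by rw [map_inv, inv_pow, hy.2, inv_one]⟩
      have h1 := (hB1 (a : L) (hAeq.le a.2)).2
      rw [← map_pow] at h1
      exact (QuotientGroup.eq_one_iff _).mp h1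
  refine ⟨le_antisymm hphi ?_, ?_, ?_, ?_, hinter, ?_, ?_⟩
  · rw [← Subgroup.map_subtype_commutator]
    exact Subgroup.map_mono (CfsgLib.PGroup.commutator_le_frattini hAp)
  · rw [hAY]
    exact le_antisymm (hAA.trans (Subgroup.commutator_mono le_rfl hB'A)) (Subgroup.commutator_mono hBA le_rfl)
  · rw [hAY, hAY']
    exact le_antisymm ((Subgroup.commutator_mono hBA le_rfl).trans hAA) (Subgroup.commutator_mono le_rfl hB'A)
  · rw [hAY]
    exact ((Subgroup.commutator_mono hBA le_rfl).trans hAA).trans hcomm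
  · rw [hAY, hAY']
    exact hBBZ
  · refine le_antisymm ?_ fun z hz => ⟨hBA (hZB hz), hz.2⟩
    rintro x ⟨hxA, hxZ⟩
    have hxW : x ∈ B ⊔ B' := hAeq ▸ hxA
    have hnorm : B' ≤ Subgroup.normalizer (B : Set L) := fun c hc =>
      CfsgLib.PRed.mem_normalizer_of_conj_mem fun b hb =>
        ⟨hOn.conj_mem b hb.1 c, (Subgroup.mem_normalizer_iff.mp (hOY (hB'eq.le hc).1) b).mp hb.2⟩
    rw [sup_comm] at hxW
    obtain ⟨c, hc, b, hb, hcb⟩ := CfsgLib.PRed.exists_mul_of_mem_sup hnorm hxW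
    have hcy : c = x * b⁻¹ := by rw [← hcb, mul_inv_cancel_right]
    have hcz : c ∈ Subgroup.center L := by
      have h1 : Y ≤ Subgroup.centralizer {c} := fun y hy => by
        rw [Subgroup.mem_centralizer_singleton_iff, hcy]
        have e1 : y * b⁻¹ = b⁻¹ * y :=
          congrArg Subtype.val (hYc.is_comm.comm ⟨y, hy⟩ ⟨b⁻¹, Y.inv_mem hb.2⟩)
        rw [← mul_assoc, Subgroup.mem_center_iff.mp hxZ y, mul_assoc, e1, ← mul_assoc]
      have h2 : Y' ≤ Subgroup.centralizer {c} := fun y hy => by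
        rw [Subgroup.mem_centralizer_singleton_iff]
        exact congrArg Subtype.val (hY'c.is_comm.comm ⟨y, hy⟩ ⟨c, (hB'eq.le hc).2⟩)
      refine Subgroup.mem_center_iff.mpr fun y => ?_
      have h3 := (sup_le h1 h2) (htop ▸ Subgroup.mem_top y)
      rwa [Subgroup.mem_centralizer_singleton_iff] at h3
    have hcZ : c ∈ Y := by
      obtain ⟨z, hz, hzc⟩ := (hB'eq.le hc).2
      have hzc' : g * z * g⁻¹ = c := hzc
      have : z = c := by
        have h1 : z = g⁻¹ * c * g := by rw [← hzc']; group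
        rw [h1, mul_assoc, ← Subgroup.mem_center_iff.mp hcz g, inv_mul_cancel_left]
      exact this ▸ hz
    exact ⟨hcb ▸ Y.mul_mem hcZ hb.2, hxZ⟩

end Cfsg.Agent.S2837
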