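import Cfsg.Statements.S2838
-- import your own Cfsg.Agent.* helpers here

import Cfsg.Agent.Lib.LocalEven.WeaklyClosed

set_option autoImplicit false
open Cfsg
open scoped commutatorElement

namespace Cfsg.Agent.S2838

/-- For a nontrivial p-subgroup Q of a finite group H the following are equivalent: Q is a weakly closed subgroup (it is the only H-conjugate of itself inside some Sylow p-subgroup containing it); Q = P for every conjugate P of Q with [Q, P] ≤ Q ∩ P; Q is normal in N_H(R) for every p-subgroup R of H containing Q. -/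
theorem result {H : Type*} [Group H] [Finite H] {p : ℕ} [Fact p.Prime] (Q : Subgroup H) (hQp : IsPGroup p ↥Q) (hQ1 : Q ≠ ⊥) : (Cfsg.IsWeaklyClosedSubgroup p Q ↔ ∀ g : H, ⁅Q, ((Q : Subgroup H).map (MulAut.conj (g : H)).toMonoidHom)⁆ ≤ Q ⊓ ((Q : Subgroup H).map (MulAut.conj (g : H)).toMonoidHom) → ((Q : Subgroup H).map (MulAut.conj (g : H)).toMonoidHom) = Q) ∧ (Cfsg.IsWeaklyClosedSubgroup p Q ↔ ∀ R : Subgroup H, IsPGroup p ↥R → Q ≤ R → Subgroup.normalizer ((R : Subgroup H) : Set H) ≤ Subgroup.normalizer ((Q : Subgroup H) : Set H)) := by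
  open CfsgLib.WClosed in
  have h12 : Cfsg.IsWeaklyClosedSubgroup p Q → ∀ g : H, ⁅Q, cj g Q⁆ ≤ Q ⊓ cj g Q → cj g Q = Q := by
    intro h g hc
    have hn : cj g Q ≤ Subgroup.normalizer (Q : Set H) :=
      Subgroup.le_normalizer_iff_commutator_le_left.mpr (hc.trans inf_le_left)
    exact eq_of_isPGroup h (IsPGroup.to_sup_of_normal_right' (hQp.map _) hQp hn) le_sup_right
      le_sup_left
  open CfsgLib.WClosed in
  have h23 : (∀ g : H, ⁅Q, cj g Q⁆ ≤ Q ⊓ cj g Q → cj g Q = Q) →
      ∀ R : Subgroup H, IsPGroup p ↥R → Q ≤ R →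
        Subgroup.normalizer (R : Set H) ≤ Subgroup.normalizer (Q : Set H) := by
    intro h R hR hQR
    have hcomm : ∀ P : Subgroup H, P ≤ Subgroup.normalizer (Q : Set H) →
        Q ≤ Subgroup.normalizer (P : Set H) → ⁅Q, P⁆ ≤ Q ⊓ P := fun P h1 h2 =>
      le_inf (Subgroup.le_normalizer_iff_commutator_le_left.mp h1)
        (Subgroup.le_normalizer_iff_commutator_le_right.mp h2)
    have hnormal : R ≤ Subgroup.normalizer (Q : Set H) := by
      by_contra hne
      set N := (Subgroup.normalizer (Q : Set H)).subgroupOf R with hN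
      have hNtop : N < ⊤ := lt_top_iff_ne_top.mpr fun h0 => hne fun x hx =>
        (h0.ge (Subgroup.mem_top ⟨x, hx⟩) : _)
      haveI := hR.isNilpotent
      obtain ⟨r, hr, hrN⟩ :=
        SetLike.exists_of_lt (Group.normalizerCondition_of_isNilpotent (G := ↥R) N hNtop)
      refine hrN ((cj_eq_iff).mp (h r (hcomm _ ?_ ?_)) : _)
      · rintro _ ⟨q, hq, rfl⟩
        exact (Subgroup.mem_normalizer_iff.mp hr (⟨q, hQR hq⟩ : R)).mp (Subgroup.le_normalizer hq)
      · intro q hq
        have h1 : r⁻¹ * ⟨q, hQR hq⟩ * r ∈ N := by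
          simpa using (Subgroup.mem_normalizer_iff.mp (inv_mem hr) (⟨q, hQR hq⟩ : R)).mp
            (Subgroup.le_normalizer hq)
        rw [← cj_eq_iff, cj_cj]
        have h2 : cj ((r : H)⁻¹ * q * r) Q = Q := cj_eq_iff.mpr h1
        have h3 := congrArg (cj (r : H)) h2
        rwa [cj_cj, show (r : H) * ((r : H)⁻¹ * q * r) = q * r by group] at h3
    intro n hn
    refine cj_eq_iff.mp (h n (hcomm _ ?_ ?_))
    · exact ((cj_mono hQR).trans (cj_eq_iff.mpr hn).le).trans hnormal
    · have hRn : R ≤ Subgroup.normalizer (cj n Q : Set H) := by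
        intro x hx
        have hx' : n⁻¹ * x * n ∈ Subgroup.normalizer (Q : Set H) := hnormal (by
          simpa using (Subgroup.mem_normalizer_iff.mp (inv_mem hn) x).mp hx)
        rw [← cj_eq_iff, cj_cj]
        have h3 := congrArg (cj n) (cj_eq_iff.mpr hx')
        rwa [cj_cj, show n * (n⁻¹ * x * n) = x * n by group] at h3
      exact hQR.trans hRn
  open CfsgLib.WClosed in
  have h31 : (∀ R : Subgroup H, IsPGroup p ↥R → Q ≤ R →
      Subgroup.normalizer (R : Set H) ≤ Subgroup.normalizer (Q : Set H)) →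
        Cfsg.IsWeaklyClosedSubgroup p Q := by
    intro h
    obtain ⟨T, hQT⟩ := hQp.exists_le_sylow
    refine ⟨T, hQT, fun g hg => ?_⟩
    have hTn : (T : Subgroup H) ≤ Subgroup.normalizer (Q : Set H) :=
      Subgroup.le_normalizer.trans (h _ T.2 hQT)
    have h1 : cj g⁻¹ (T : Subgroup H) ≤ Subgroup.normalizer (Q : Set H) :=
      Subgroup.le_normalizer.trans (h _ (T.2.map _) (cj_le_iff.mp hg))
    have h1' : ((g⁻¹ • T : Sylow p H) : Subgroup H) ≤ Subgroup.normalizer (Q : Set H) := h1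
    obtain ⟨n, hn⟩ := MulAction.exists_smul_eq (Subgroup.normalizer (Q : Set H))
      ((g⁻¹ • T).subtype h1') (T.subtype hTn)
    rw [Sylow.smul_subtype] at hn
    have hTT := Sylow.subtype_injective hn
    replace hTT : ((n : H) * g⁻¹) • T = T := (mul_smul _ _ _).trans hTT
    rw [Sylow.smul_eq_iff_mem_normalizer] at hTT
    have h2 := cj_eq_iff.mpr (h _ T.2 hQT hTT)
    rw [← cj_cj] at h2
    have h3 : cj g⁻¹ Q = Q := by
      have h4 := congrArg (cj (n : H)⁻¹) h2
      rwa [cj_cj, inv_mul_cancel, cj_one, cj_eq_iff.mpr (inv_mem n.2)] at h4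
    have h5 := congrArg (cj g) h3
    rw [cj_cj, mul_inv_cancel, cj_one] at h5
    exact h5.symm
  exact ⟨⟨h12, fun h => h31 (h23 h)⟩, ⟨fun h => h23 (h12 h), h31⟩⟩

end Cfsg.Agent.S2838
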