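import Cfsg.Statements.S2839
-- import your own Cfsg.Agent.* helpers here

import Cfsg.Agent.Lib.LocalEven.WeaklyClosed

set_option autoImplicit false
open Cfsg
open scoped commutatorElement

namespace Cfsg.Agent.S2839

/-- Let Q be a nontrivial p-subgroup of the finite group H that is a weakly closed subgroup, K a subgroup containing Q and N a normal subgroup of H. Then Q is a weakly closed subgroup of K; every H-conjugate of Q contained in K is a K-conjugate of Q; N_K(Q) contains a Sylow p-subgroup of K; N = N_N(Q)·O^p(N); and QN/N is a weakly closed subgroup of H/N. -/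
theorem result {H : Type*} [Group H] [Finite H] {p : ℕ} [Fact p.Prime] (Q : Subgroup H) (hQp : IsPGroup p ↥Q) (hQ1 : Q ≠ ⊥) (hwc : Cfsg.IsWeaklyClosedSubgroup p Q) (K : Subgroup H) (hQK : Q ≤ K) (N' : Subgroup H) [N'.Normal] : Cfsg.IsWeaklyClosedSubgroup p (Q.subgroupOf K) ∧ (∀ g : H, ((Q : Subgroup H).map (MulAut.conj (g : H)).toMonoidHom) ≤ K → ∃ k ∈ K, ((Q : Subgroup H).map (MulAut.conj (g : H)).toMonoidHom) = ((Q : Subgroup H).map (MulAut.conj (k : H)).toMonoidHom)) ∧ Cfsg.IsParabolic p ((Subgroup.normalizer ((Q : Subgroup H) : Set H)).subgroupOf K) ∧ (N' ⊓ Subgroup.normalizer ((Q : Subgroup H) : Set H)) ⊔ (Cfsg.pResidual p ↥N').map N'.subtype = N' ∧ Cfsg.IsWeaklyClosedSubgroup p (Q.map (QuotientGroup.mk' N')) := by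
  obtain ⟨T, hQT, huniq⟩ := hwc
  have hwc : Cfsg.IsWeaklyClosedSubgroup p Q := ⟨T, hQT, huniq⟩
  obtain ⟨S, hS⟩ := CfsgLib.WClosed.exists_sylow_of_le hQp hQK
  haveI hOn := CfsgLib.PRed.pResidual_normal (p := p) (G := ↥N')
  refine ⟨⟨S, fun x hx => ?_, fun k hk => ?_⟩,
    fun g hg => CfsgLib.WClosed.exists_eq_cj hwc hQp hQK hg, ⟨S, fun x hx => ?_⟩, ?_, ?_⟩
  · obtain ⟨y, hy, he⟩ := hS hx
    rwa [← Subtype.ext he]
  · have hmap : ((Q.subgroupOf K).map (MulAut.conj k).toMonoidHom).map K.subtype =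
        CfsgLib.WClosed.cj (k : H) Q := by
      rw [Subgroup.map_map]
      ext x
      constructor
      · rintro ⟨y, hy, rfl⟩
        exact ⟨y, hy, rfl⟩
      · rintro ⟨y, hy, rfl⟩
        exact ⟨⟨y, hQK hy⟩, hy, rfl⟩
    have h1 : CfsgLib.WClosed.cj (k : H) Q ≤ (S : Subgroup ↥K).map K.subtype := by
      rw [← hmap]; exact Subgroup.map_mono hk
    have h2 := CfsgLib.WClosed.eq_of_isPGroup hwc (S.2.map _) hS h1
    rw [← hmap] at h2
    refine Subgroup.map_injective K.subtype_injective ?_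
    rw [h2, Subgroup.map_subgroupOf_eq_of_le hQK]
  · exact CfsgLib.WClosed.normalizer_le hwc (S.2.map K.subtype) hS
      (Subgroup.le_normalizer (Subgroup.mem_map_of_mem K.subtype hx))
  · refine le_antisymm (sup_le inf_le_left (Subgroup.map_subtype_le _)) ?_
    obtain ⟨P, hP⟩ := CfsgLib.PRed.exists_sylow_inf_normal T N'
    have h := congrArg (Subgroup.map N'.subtype) (CfsgLib.PRed.sylow_sup_pResidual P)
    rw [Subgroup.map_sup, hP, Subgroup.subgroupOf_map_subtype, ← MonoidHom.range_eq_map,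
      Subgroup.range_subtype] at h
    refine h.ge.trans (sup_le_sup_right (le_inf inf_le_right (inf_le_left.trans ?_)) _)
    exact Subgroup.le_normalizer.trans (CfsgLib.WClosed.normalizer_le hwc T.2 hQT)
  · set f := QuotientGroup.mk' N' with hf
    have hs : Function.Surjective f := QuotientGroup.mk'_surjective N'
    refine ⟨T.mapSurjective hs, Subgroup.map_mono hQT, fun y hy => ?_⟩
    obtain ⟨g, rfl⟩ := hs y
    have hcj : ∀ g : H, (Q.map f).map (MulAut.conj (f g)).toMonoidHom =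
        (CfsgLib.WClosed.cj g Q).map f := by
      intro g
      rw [CfsgLib.WClosed.cj, Subgroup.map_map, Subgroup.map_map]
      congr 1
    rw [hcj] at hy ⊢
    have hK : CfsgLib.WClosed.cj g Q ≤ (T : Subgroup H) ⊔ N' := by
      have := Subgroup.map_le_iff_le_comap.mp hy
      rwa [show ((T.mapSurjective hs : Sylow p (H ⧸ N')) : Subgroup (H ⧸ N')) =
        (T : Subgroup H).map f from rfl, Subgroup.comap_map_eq, QuotientGroup.ker_mk'] at this
    obtain ⟨k, hk, he⟩ := CfsgLib.WClosed.exists_eq_cj hwc hQp (hQT.trans le_sup_left) hK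
    rw [he, ← hcj]
    obtain ⟨t, ht, n, hn, rfl⟩ := Subgroup.mem_sup_of_normal_right.mp hk
    rw [map_mul, show f n = 1 from (QuotientGroup.eq_one_iff n).mpr hn, mul_one, hcj,
      CfsgLib.WClosed.cj_eq_iff.mpr
        (CfsgLib.WClosed.normalizer_le hwc T.2 hQT (Subgroup.le_normalizer ht))]

end Cfsg.Agent.S2839
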