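import Cfsg.Statements.S2840
-- import your own Cfsg.Agent.* helpers here

import Cfsg.Agent.Lib.LocalEven.WeaklyClosed

set_option autoImplicit false
open Cfsg
open scoped commutatorElement

namespace Cfsg.Agent.S2840

/-- Let Q be a nontrivial p-subgroup of the finite group H that is a weakly closed subgroup and K a subgroup containing Q; let K° be the weak closure of Q in K (generated by the H-conjugates of Q inside K). Then K° is generated by the K-conjugates of Q, and K° is the subnormal closure of Q in K. -/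
theorem result {H : Type*} [Group H] [Finite H] {p : ℕ} [Fact p.Prime] (Q : Subgroup H) (hQp : IsPGroup p ↥Q) (hQ1 : Q ≠ ⊥) (hwc : Cfsg.IsWeaklyClosedSubgroup p Q) (K : Subgroup H) (hQK : Q ≤ K) (Kc : Subgroup H) (hKc : Kc = Cfsg.weakClosure Q K) : Kc = ⨆ k : ↥K, ((Q : Subgroup H).map (MulAut.conj ((k : H) : H)).toMonoidHom) ∧ Kc = (Cfsg.subnormalClosure (Q.subgroupOf K)).map K.subtype := by
  subst hKc
  have h1 : Cfsg.weakClosure Q K =
      ⨆ k : ↥K, CfsgLib.WClosed.cj (k : H) Q := by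
    refine le_antisymm (iSup_le fun g => ?_) (iSup_le fun k => ?_)
    · obtain ⟨k, hk, he⟩ := CfsgLib.WClosed.exists_eq_cj hwc hQp hQK g.2
      show CfsgLib.WClosed.cj (g : H) Q ≤ _
      rw [he]
      exact le_iSup (fun k : ↥K => CfsgLib.WClosed.cj (k : H) Q) ⟨k, hk⟩
    · exact le_iSup (fun g : {g : H // Q.map (MulAut.conj g).toMonoidHom ≤ K} =>
        Q.map (MulAut.conj (g : H)).toMonoidHom) ⟨k, by
          rintro _ ⟨x, hx, rfl⟩
          exact K.mul_mem (K.mul_mem k.2 (hQK hx)) (K.inv_mem k.2)⟩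
  refine ⟨h1, le_antisymm ?_ ?_⟩
  · rw [h1, iSup_le_iff]
    intro k
    -- every subnormal subgroup over `Q` contains all conjugates
    have key : ∀ S : Subgroup ↥K, S.IsSubnormal → Q.subgroupOf K ≤ S →
        CfsgLib.WClosed.cj (k : H) Q ≤ S.map K.subtype := by
      intro S hS
      induction hS with
      | top =>
        intro _
        rw [← MonoidHom.range_eq_map, Subgroup.range_subtype]
        rintro _ ⟨x, hx, rfl⟩
        exact K.mul_mem (K.mul_mem k.2 (hQK hx)) (K.inv_mem k.2)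
      | step U V hle _ hN ih =>
        intro hQU
        have hQU' : Q ≤ U.map K.subtype := fun x hx => ⟨⟨x, hQK hx⟩, hQU hx, rfl⟩
        obtain ⟨v, hv, he⟩ := CfsgLib.WClosed.exists_eq_cj hwc hQp
          (hQU'.trans (Subgroup.map_mono hle)) (ih (hQU.trans hle))
        rw [he]
        have hn : V.map K.subtype ≤ Subgroup.normalizer ((U.map K.subtype : Subgroup H) : Set H) :=
          (Subgroup.map_mono ((Subgroup.normal_subgroupOf_iff_le_normalizer hle).mp hN)).trans
            (Subgroup.le_normalizer_map _)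
        rintro _ ⟨x, hx, rfl⟩
        exact (Subgroup.mem_normalizer_iff.mp (hn hv) x).mp (hQU' hx)
    rintro _ ⟨x, hx, rfl⟩
    have hxK : (k : H) * x * (k : H)⁻¹ ∈ K := K.mul_mem (K.mul_mem k.2 (hQK hx)) (K.inv_mem k.2)
    refine ⟨⟨_, hxK⟩, Subgroup.mem_sInf.mpr fun S hS => ?_, rfl⟩
    obtain ⟨y, hy, he⟩ := key S hS.2 hS.1 ⟨x, hx, rfl⟩
    exact (Subtype.ext he : y = ⟨_, hxK⟩) ▸ hy
  · refine (Subgroup.map_mono (sInf_le (s := {S : Subgroup ↥K | Q.subgroupOf K ≤ S ∧ S.IsSubnormal})
      ⟨Subgroup.subset_normalClosure, (Subgroup.normalClosure_normal).isSubnormal⟩)).trans ?_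
    rw [h1, Subgroup.map_le_iff_le_comap, Subgroup.normalClosure, Subgroup.closure_le]
    intro y hy
    obtain ⟨x, hx, hc⟩ := Group.mem_conjugatesOfSet_iff.mp hy
    obtain ⟨g, rfl⟩ := isConj_iff.mp hc
    exact Subgroup.mem_iSup_of_mem g ⟨(x : H), hx, rfl⟩

end Cfsg.Agent.S2840
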