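import Cfsg.Statements.S2841
-- import your own Cfsg.Agent.* helpers here

import Cfsg.Agent.Lib.LocalEven.WeaklyClosed

set_option autoImplicit false
open Cfsg
open scoped commutatorElement

namespace Cfsg.Agent.S2841

/-- Let Q be a nontrivial p-subgroup of the finite group H that is a weakly closed subgroup and N a normal subgroup of H. Then N = N_N(Q)·[N, Q] and [N, Q] = (Q ∩ [N, Q])·[N, Q, Q]. -/
theorem result {H : Type*} [Group H] [Finite H] {p : ℕ} [Fact p.Prime] (Q : Subgroup H) (hQp : IsPGroup p ↥Q) (hQ1 : Q ≠ ⊥) (hwc : Cfsg.IsWeaklyClosedSubgroup p Q) (N' : Subgroup H) [N'.Normal] : (∀ n : H, n ∈ N' → ∃ a ∈ N' ⊓ Subgroup.normalizer ((Q : Subgroup H) : Set H), ∃ b ∈ ⁅N', Q⁆, n = a * b) ∧ (∀ c : H, c ∈ ⁅N', Q⁆ → ∃ a ∈ Q ⊓ ⁅N', Q⁆, ∃ b ∈ ⁅⁅N', Q⁆, Q⁆, c = a * b) := by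
  have hQN : Q ≤ Subgroup.normalizer (N' : Set H) := Subgroup.le_normalizer_of_normal
  refine ⟨fun n hn => CfsgLib.WClosed.exists_normalizer_mul_commutator hwc hQp hQN hn, ?_⟩
  set M := ⁅N', Q⁆ with hM
  set R := ⁅M, Q⁆ with hR
  have hMN : M ≤ N' := Subgroup.commutator_le_left _ _
  have hQM : Q ≤ Subgroup.normalizer (M : Set H) := Subgroup.normalizer_commutator_ge_right _ _
  have hRM : R ≤ M := Subgroup.le_normalizer_iff_commutator_le_left.mp hQM
  have hQR : Q ≤ Subgroup.normalizer (R : Set H) := Subgroup.normalizer_commutator_ge_right _ _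
  have hle : M ≤ (Q ⊓ M) ⊔ R := by
    rw [hM, Subgroup.commutator_le]
    intro n hn q hq
    obtain ⟨a, ⟨haN, haQ⟩, b, hb, rfl⟩ :=
      CfsgLib.WClosed.exists_normalizer_mul_commutator hwc hQp hQN hn
    rw [commutatorElement_mul_left_eq_conj_mul]
    refine Subgroup.mul_mem _ (Subgroup.mem_sup_right ?_) (Subgroup.mem_sup_left
      ⟨?_, Subgroup.commutator_mem_commutator haN hq⟩)
    · have haR : a ∈ Subgroup.normalizer (R : Set H) :=
        CfsgLib.PRed.normalizer_inf_le_normalizer_commutator M Q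
          ⟨Subgroup.normalizer_commutator_ge_left N' Q haN, haQ⟩
      exact (Subgroup.mem_normalizer_iff.mp haR _).mp (Subgroup.commutator_mem_commutator hb hq)
    · exact Q.mul_mem ((Subgroup.mem_normalizer_iff.mp haQ q).mp hq) (Q.inv_mem hq)
  intro c hc
  obtain ⟨a, ha, b, hb, hab⟩ :=
    CfsgLib.PRed.exists_mul_of_mem_sup (inf_le_left.trans hQR) (hle hc)
  exact ⟨a, ha, b, hb, hab.symm⟩

end Cfsg.Agent.S2841
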