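import Cfsg.Statements.S2842
import Cfsg.Agent.Lib.Large.Basic

set_option autoImplicit false
open Cfsg

namespace Cfsg.Agent.S2842

open Cfsg Subgroup CfsgLib.Large
open scoped commutatorElement

theorem aux {H : Type*} [Group H] [Finite H] {p : ℕ} [Fact p.Prime] {Q L D : Subgroup H}
    (hwc : IsWeaklyClosedSubgroup p Q) (hQL : Q ≤ L)
    (hD : centralizer (pCore p ↥D : Set ↥D) ≤ pCore p ↥D) (hQD : Q ≤ D)
    (hED : centralizer ((Q ⊓ pCoreOf p L : Subgroup H) : Set H) ≤ D) :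
    centralizer (pCoreOf p L : Set H) ≤ normalizer (Q : Set H) := by
  have hQ := wc_isPGroup hwc
  set R := pCoreOf p L with hR
  set C := centralizer (R : Set H) with hCdef
  set E := centralizer ((Q ⊓ R : Subgroup H) : Set H) with hEdef
  have hQR : Q ≤ normalizer (R : Set H) := hQL.trans (le_normalizer_pCoreOf L)
  have hRQ : R ≤ normalizer (Q : Set H) :=
    wc_normalizer_of_isPGroup_sup hwc (isPGroup_pCoreOf L) hQR
  have hEchar : centralizer (pCore p ↥E : Set ↥E) ≤ pCore p ↥E := by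
    have h := charP_centralizer hD (A := Q ⊓ R) hQ.to_inf_left
      (inf_le_left.trans (hQD.trans (le_normalizer_pCoreOf D)))
    rwa [inf_eq_right.2 hED] at h
  have hQE : Q ≤ normalizer (E : Set H) := ((le_inf le_normalizer hQR).trans
    normalizer_le_normalizer_inf).trans (normalizer_le_normalizer_centralizer _)
  have hRE : R ≤ normalizer (E : Set H) := ((le_inf hRQ le_normalizer).trans
    normalizer_le_normalizer_inf).trans (normalizer_le_normalizer_centralizer _)
  have hCE : C ≤ E := centralizer_le inf_le_right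
  set P := pCoreOf p E with hP
  have hQP : Q ≤ normalizer (P : Set H) := hQE.trans (normalizer_le_normalizer_pCoreOf E)
  have hRP : R ≤ normalizer (P : Set H) := hRE.trans (normalizer_le_normalizer_pCoreOf E)
  have hPQ : P ≤ normalizer (Q : Set H) :=
    wc_normalizer_of_isPGroup_sup hwc (isPGroup_pCoreOf E) hQP
  have hCP : C ≤ normalizer (P : Set H) := hCE.trans (le_normalizer_pCoreOf E)
  have hLC : L ≤ normalizer (C : Set H) :=
    (le_normalizer_pCoreOf L).trans (normalizer_le_normalizer_centralizer _)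
  set T := P ⊓ C with hT
  have hQT : Q ≤ normalizer (T : Set H) :=
    (le_inf hQP (hQL.trans hLC)).trans normalizer_le_normalizer_inf
  have hCT : C ≤ normalizer (T : Set H) :=
    (le_inf hCP le_normalizer).trans normalizer_le_normalizer_inf
  have hCR : C ≤ normalizer (R : Set H) := centralizer_le_normalizer R
  have hkey : ∀ y ∈ T, y ∈ Q → y ∈ R := by
    intro y hy hyQ
    have h1 : P ⊓ (L ⊓ C) ≤ pCoreOf p (L ⊓ C) :=
      inf_le_pCoreOf (isPGroup_pCoreOf E) (inf_le_right.trans hCP)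
    have h2 : pCoreOf p (L ⊓ C) ≤ R :=
      le_pCoreOf ((pCoreOf_le _).trans inf_le_left)
        (((le_inf le_normalizer hLC).trans normalizer_le_normalizer_inf).trans
          (normalizer_le_normalizer_pCoreOf _)) (isPGroup_pCoreOf _)
    exact h2 (h1 ⟨hy.1, hQL hyQ, hy.2⟩)
  let S : Subgroup H :=
    { carrier := {g | g ∈ normalizer (T : Set H) ∧ g ∈ normalizer (R : Set H) ∧
        ∀ a ∈ T, a⁻¹ * (g * a * g⁻¹) ∈ R}
      one_mem' := ⟨one_mem _, one_mem _, fun a _ => by simp⟩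
      mul_mem' := by
        rintro g h ⟨g1, g2, g3⟩ ⟨h1, h2, h3⟩
        refine ⟨mul_mem g1 h1, mul_mem g2 h2, fun a ha => ?_⟩
        have := mul_mem (g3 a ha) (conj_mem_of_normalizer g2 (h3 a ha))
        simpa [mul_assoc] using this
      inv_mem' := by
        rintro g ⟨g1, g2, g3⟩
        refine ⟨inv_mem g1, inv_mem g2, fun a ha => ?_⟩
        have ha' : g⁻¹ * a * g ∈ T := by simpa using conj_mem_of_normalizer (inv_mem g1) ha
        have h1 := inv_mem (g3 _ ha')
        simpa [mul_assoc] using h1 }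
  have hQS : ∀ q ∈ Q, q ∈ S := fun q hq => ⟨hQT hq, hQR hq, fun a ha => by
    refine hkey _ (mul_mem (inv_mem ha) (conj_mem_of_normalizer (hQT hq) ha)) ?_
    rw [show a⁻¹ * (q * a * q⁻¹) = (a⁻¹ * q * a) * q⁻¹ by group]
    refine mul_mem ?_ (inv_mem hq)
    simpa using conj_mem_of_normalizer (inv_mem (hPQ ha.1)) hq⟩
  have hCS : ∀ c ∈ C, ∀ g ∈ S, c * g * c⁻¹ ∈ S := by
    rintro c hc g ⟨g1, g2, g3⟩
    refine ⟨mul_mem (mul_mem (hCT hc) g1) (inv_mem (hCT hc)),
      mul_mem (mul_mem (hCR hc) g2) (inv_mem (hCR hc)), fun a ha => ?_⟩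
    have ha' : c⁻¹ * a * c ∈ T := by simpa using conj_mem_of_normalizer (inv_mem (hCT hc)) ha
    have h1 := conj_mem_of_normalizer (hCR hc) (g3 _ ha')
    simpa [mul_assoc] using h1
  have hKC : ⁅Q, C⁆ ≤ C := by
    refine commutator_le.2 fun q hq c hc => ?_
    rw [show ⁅q, c⁆ = (q * c * q⁻¹) * c⁻¹ by group]
    exact mul_mem (conj_mem_of_normalizer (hLC (hQL hq)) hc) (inv_mem hc)
  have hKS : ⁅Q, C⁆ ≤ S := by
    refine commutator_le.2 fun q hq c hc => ?_
    rw [show ⁅q, c⁆ = q * (c * q⁻¹ * c⁻¹) by group]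
    exact mul_mem (hQS q hq) (hCS c hc _ (hQS _ (inv_mem hq)))
  have hKp : IsPGroup p (⁅Q, C⁆ : Subgroup H) := by
    refine isPGroup_of_coprime_eq_one fun x hx hc => ?_
    have hxC : x ∈ C := hKC hx
    have hxR : ∀ b ∈ R, x * b = b * x := fun b hb => (hxC b hb).symm
    have h1 : ∀ b ∈ T, x * b = b * x :=
      commute_of_stabilizes (isPGroup_pCoreOf L) hc hxR (hKS hx).2.2
    exact eq_one_of_charP hEchar (hCE hxC) hc
      (commute_of_commute_centralizer (isPGroup_pCoreOf E) (isPGroup_pCoreOf L) hRP hc (hCP hxC)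
        hxR h1)
  have hQK : Q ≤ normalizer ((⁅Q, C⁆ : Subgroup H) : Set H) := fun q hq => by
    rw [mem_normalizer_iff_cj, map_commutator, cj_eq_of_mem_normalizer (le_normalizer hq),
      cj_eq_of_mem_normalizer (hLC (hQL hq))]
  intro c hc
  refine mem_normalizer_iff_cj.2 (wc_eq_of_le hwc (isPGroup_sup hQ hKp hQK) le_sup_left
    (cj_le_iff.2 fun q hq => ?_))
  rw [show c * q * c⁻¹ = ⁅q, c⁆⁻¹ * q by group]
  exact mul_mem ((le_sup_right : ⁅Q, C⁆ ≤ Q ⊔ ⁅Q, C⁆)
    (inv_mem (commutator_mem_commutator hq hc))) ((le_sup_left : Q ≤ Q ⊔ ⁅Q, C⁆) hq)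

/-- Let Q be a nontrivial p-subgroup of the finite group H that is a weakly closed subgroup with C_H(Q) ≤ Q, and Q ≤ L ≤ H. Suppose H has characteristic p, or more generally that C_H(y) has characteristic p for some nonidentity y ∈ C_{O_p(L)}(Q). Then [Q, C_H(O_p(L))] ≤ Q ∩ O_p(L), C_H(O_p(L)) is a p-group, and L has characteristic p. -/
theorem result {H : Type*} [Group H] [Finite H] {p : ℕ} [Fact p.Prime] (Q : Subgroup H) (hQp : IsPGroup p ↥Q) (hQ1 : Q ≠ ⊥) (hwc : Cfsg.IsWeaklyClosedSubgroup p Q) (hCQ : Subgroup.centralizer ((Q : Subgroup H) : Set H) ≤ Q) (L : Subgroup H) (hQL : Q ≤ L) (hyp : Subgroup.centralizer (Cfsg.pCore p H : Set H) ≤ Cfsg.pCore p H ∨ ∃ y : H, y ≠ 1 ∧ y ∈ (Cfsg.pCoreOf p L) ⊓ Subgroup.centralizer ((Q : Subgroup H) : Set H) ∧ Subgroup.centralizer (Cfsg.pCore p ↥(Subgroup.centralizer ({y} : Set H)) : Set ↥(Subgroup.centralizer ({y} : Set H))) ≤ Cfsg.pCore p ↥(Subgroup.centralizer ({y} : Set H))) : ⁅Q, Subgroup.centralizer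 (((Cfsg.pCoreOf p L) : Subgroup H) : Set H)⁆ ≤ Q ⊓ (Cfsg.pCoreOf p L) ∧ IsPGroup p ↥(Subgroup.centralizer (((Cfsg.pCoreOf p L) : Subgroup H) : Set H)) ∧ Subgroup.centralizer (Cfsg.pCore p ↥L : Set ↥L) ≤ Cfsg.pCore p ↥L := by
  have hC : centralizer (Cfsg.pCoreOf p L : Set H) ≤ normalizer (Q : Set H) := by
    rcases hyp with h | ⟨y, -, hy, h⟩
    · refine aux (D := ⊤) hwc hQL ?_ le_top le_top
      refine charP_of_forall fun x _ hc hcent => ?_
      refine eq_one_of_mem_pgroup CfsgLib.PCore.pCore_isPGroup (h fun b hb => ?_) hc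
      exact (hcent b (le_pCoreOf le_top (fun g _ => mem_normalizer_of_conj_mem fun z hz =>
        (pCore_normal p H).conj_mem z hz g) CfsgLib.PCore.pCore_isPGroup hb)).symm
    · refine aux hwc hQL h ?_ (centralizer_le ?_)
      · exact centralizer_singleton_le_iff.2 fun k hk => (hy.2 k hk).symm
      · rintro z rfl
        exact ⟨hCQ hy.2, hy.1⟩
  exact ⟨commutator_centralizer_pCoreOf_le hQp hQL hC,
    isPGroup_centralizer_pCoreOf hQp hQL hCQ hC,
    charP_of_isPGroup_centralizer (isPGroup_centralizer_pCoreOf hQp hQL hCQ hC)⟩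

end Cfsg.Agent.S2842
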