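import Cfsg.Statements.S2843
import Cfsg.Agent.Lib.Large.Basic

set_option autoImplicit false
open Cfsg

namespace Cfsg.Agent.S2843

open Cfsg Subgroup CfsgLib.Large
open scoped commutatorElement

/-- Let Q be a nontrivial large p-subgroup of the finite group H, Q ≤ L ≤ H, and Y a nontrivial p-subgroup of H normalized by L. Let L° be the weak closure of Q in L (generated by the conjugates of Q inside L). Then L° equals the weak closure of Q in L·C_H(Y), and [L°, C_H(Y)] ≤ O_p(L°); in particular C_H(Y) normalizes L°. -/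
theorem result {H : Type*} [Group H] [Finite H] {p : ℕ} [Fact p.Prime] (Q : Subgroup H) (hQp : IsPGroup p ↥Q) (hQ1 : Q ≠ ⊥) (hL : Cfsg.IsLarge Q) (L : Subgroup H) (hQL : Q ≤ L) (Y : Subgroup H) (hYp : IsPGroup p ↥Y) (hY1 : Y ≠ ⊥) (hLY : L ≤ Subgroup.normalizer ((Y : Subgroup H) : Set H)) : Cfsg.weakClosure Q L = Cfsg.weakClosure Q (L ⊔ Subgroup.centralizer ((Y : Subgroup H) : Set H)) ∧ ⁅Cfsg.weakClosure Q L, Subgroup.centralizer ((Y : Subgroup H) : Set H)⁆ ≤ (Cfsg.pCoreOf p (Cfsg.weakClosure Q L)) ∧ Subgroup.centralizer ((Y : Subgroup H) : Set H) ≤ Subgroup.normalizer (((Cfsg.weakClosure Q L) : Subgroup H) : Set H) := by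
  set C := centralizer (Y : Set H) with hC
  have hwc := large_wc hL hQp hQ1
  have hQC : C ≤ normalizer (Q : Set H) :=
    large_centralizer_normalizes hL hQp hYp hY1 (hQL.trans hLY)
  have hLC : L ≤ normalizer (C : Set H) := hLY.trans (normalizer_le_normalizer_centralizer _)
  have heach : ∀ g : H, Q.map (MulAut.conj g).toMonoidHom ≤ L →
      C ≤ normalizer ((Q.map (MulAut.conj g).toMonoidHom : Subgroup H) : Set H) := fun g hg =>
    large_centralizer_normalizes (isLarge_cj hL g) (isPGroup_cj hQp g) hYp hY1 (hg.trans hLY)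
  have hCN : C ≤ normalizer (weakClosure Q L : Set H) := by
    intro c hc
    refine mem_normalizer_of_conj_mem (cj_le_iff.1 ?_)
    simp only [weakClosure, Subgroup.map_iSup]
    exact iSup_mono fun g => (cj_eq_of_mem_normalizer (heach g.1 g.2 hc)).le
  refine ⟨large_weakClosure_sup hL hQp hQ1 hYp hY1 hQL hLY, ?_, hCN⟩
  · set W := weakClosure Q L with hW
    have hWC : W ≤ normalizer (C : Set H) := (weakClosure_le_self Q L).trans hLC
    have hstep : ∀ g : H, ∀ (hg : Q.map (MulAut.conj g).toMonoidHom ≤ L),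
        ∀ q ∈ Q.map (MulAut.conj g).toMonoidHom, ∀ c ∈ C, ⁅q, c⁆ ∈ pCoreOf p W := by
      intro g hg q hq c hc
      set Q' := Q.map (MulAut.conj g).toMonoidHom with hQ'
      have h1 : ⁅q, c⁆ ∈ Q' ⊓ C := by
        refine Subgroup.mem_inf.2 ⟨?_, ?_⟩
        · rw [show ⁅q, c⁆ = q * (c * q⁻¹ * c⁻¹) by group]
          exact mul_mem hq (conj_mem_of_normalizer (heach g hg hc) (inv_mem hq))
        · rw [show ⁅q, c⁆ = (q * c * q⁻¹) * c⁻¹ by group]
          exact mul_mem (conj_mem_of_normalizer (hLC (hg hq)) hc) (inv_mem hc)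
      have h2 : Q' ⊓ C ≤ pCoreOf p (W ⊓ C) :=
        le_pCoreOf (inf_le_inf_right _ (cj_le_weakClosure hg))
          ((le_inf (inf_le_right.trans (heach g hg)) (inf_le_right.trans le_normalizer)).trans
            normalizer_le_normalizer_inf) (isPGroup_cj hQp g).to_inf_left
      exact le_pCoreOf ((pCoreOf_le _).trans inf_le_left)
        (((le_inf le_normalizer hWC).trans normalizer_le_normalizer_inf).trans
          (normalizer_le_normalizer_pCoreOf _)) (isPGroup_pCoreOf _) (h2 h1)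
    let S : Subgroup H :=
      { carrier := {w | w ∈ W ∧ ∀ c ∈ C, ⁅w, c⁆ ∈ pCoreOf p W}
        one_mem' := ⟨one_mem _, fun c _ => by simp⟩
        mul_mem' := by
          rintro a b ⟨ha, ha'⟩ ⟨hb, hb'⟩
          refine ⟨mul_mem ha hb, fun c hc => ?_⟩
          rw [show ⁅a * b, c⁆ = a * ⁅b, c⁆ * a⁻¹ * ⁅a, c⁆ by group]
          exact mul_mem (conj_mem_of_normalizer (le_normalizer_pCoreOf W ha) (hb' c hc)) (ha' c hc)
        inv_mem' := by
          rintro a ⟨ha, ha'⟩
          refine ⟨inv_mem ha, fun c hc => ?_⟩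
          rw [show ⁅a⁻¹, c⁆ = a⁻¹ * ⁅a, c⁆⁻¹ * a by group]
          simpa using conj_mem_of_normalizer
            (le_normalizer_pCoreOf W (inv_mem ha)) (inv_mem (ha' c hc)) }
    have hWS : W ≤ S := weakClosure_le fun g hg q hq =>
      ⟨cj_le_weakClosure hg hq, hstep g hg q hq⟩
    exact commutator_le.2 fun w hw c hc => (hWS hw).2 c hc

end Cfsg.Agent.S2843
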