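import Cfsg.Statements.S2844
import Cfsg.Agent.Lib.Large.Basic

set_option autoImplicit false
open Cfsg

namespace Cfsg.Agent.S2844

open Cfsg Subgroup CfsgLib.Large

/-- Let Q be a nontrivial large p-subgroup of the finite group H and Q• = O_p(N_H(Q)). Then for every g ∈ H outside N_H(Q): C_H(Q) ∩ C_H(gQg⁻¹) = 1, C_H(Q•) ∩ C_H(gQ•g⁻¹) = 1, Z(Q) ∩ Z(gQg⁻¹) = 1 and Z(Q•) ∩ Z(gQ•g⁻¹) = 1; moreover N_H(Q) = N_H(Q•) and Q• is large in H. -/
theorem result {H : Type*} [Group H] [Finite H] {p : ℕ} [Fact p.Prime] (Q : Subgroup H) (hQp : IsPGroup p ↥Q) (hQ1 : Q ≠ ⊥) (hL : Cfsg.IsLarge Q) (Qb : Subgroup H) (hQb : Qb = Cfsg.largeBullet p Q) : (∀ g : H, g ∉ Subgroup.normalizer ((Q : Subgroup H) : Set H) → Subgroup.centralizer ((Q : Subgroup H) : Set H) ⊓ Subgroup.centralizer ((((Q : Subgroup H).map (MulAut.conj (g : H)).toMonoidHom) : Subgroup H) : Set H) = ⊥ ∧ Subgroup.centralizer ((Qb : Subgroup H) : Set H)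 ⊓ Subgroup.centralizer ((((Qb : Subgroup H).map (MulAut.conj (g : H)).toMonoidHom) : Subgroup H) : Set H) = ⊥ ∧ (Q ⊓ Subgroup.centralizer ((Q : Subgroup H) : Set H)) ⊓ (((Q : Subgroup H).map (MulAut.conj (g : H)).toMonoidHom) ⊓ Subgroup.centralizer ((((Q : Subgroup H).map (MulAut.conj (g : H)).toMonoidHom) : Subgroup H) : Set H)) = ⊥ ∧ (Qb ⊓ Subgroup.centralizer ((Qb : Subgroup H) : Set H)) ⊓ (((Qb : Subgroup H).map (MulAut.conj (g : H)).toMonoidHom) ⊓ Subgroup.centralizer ((((Qb : Subgroup H).map (MulAut.conj (g : H)).toMonoidHom) : Subgroup H) : Set H)) = ⊥) ∧ Subgroup.normalizer ((Q : Subgroup H) : Set H) = Subgroup.normalizer ((Qb : Subgroup H) : Set H) ∧ Cfsg.IsLarge Qb := by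
  have hwc := large_wc hL hQp hQ1
  have hQQb : Q ≤ Qb := hQb ▸ le_pCoreOf le_normalizer le_rfl hQp
  have hN : normalizer (Q : Set H) = normalizer (Qb : Set H) := by
    refine le_antisymm ?_ fun g hg => ?_
    · rw [hQb]; exact le_normalizer_pCoreOf _
    · refine mem_normalizer_iff_cj.2 (wc_eq_of_le hwc (P := Qb) ?_ hQQb
        ((map_mono hQQb).trans_eq (cj_eq_of_mem_normalizer hg)))
      rw [hQb]; exact isPGroup_pCoreOf _
  have hLb : IsLarge Qb := ⟨(centralizer_le hQQb).trans (hL.1.trans hQQb),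
    fun U hU hU1 => hN ▸ hL.2 U (hU.trans (centralizer_le hQQb)) hU1⟩
  refine ⟨fun g hg => ?_, hN, hLb⟩
  have h1 := large_disjoint hL hQp hQ1 hg
  have h2 := large_disjoint hLb (hQb ▸ isPGroup_pCoreOf _ : IsPGroup p Qb)
    (fun e => hQ1 (le_bot_iff.1 (e ▸ hQQb))) (g := g) (hN ▸ hg)
  exact ⟨h1, h2, le_bot_iff.1 ((inf_le_inf inf_le_right inf_le_right).trans_eq h1),
    le_bot_iff.1 ((inf_le_inf inf_le_right inf_le_right).trans_eq h2)⟩

end Cfsg.Agent.S2844
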