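import Cfsg.Statements.S2845
import Cfsg.Agent.Lib.Large.Basic

set_option autoImplicit false
open Cfsg

namespace Cfsg.Agent.S2845

open Cfsg Subgroup CfsgLib.Large

/-- Let Q be a nontrivial large p-subgroup of the finite group H. Then for every subgroup L ≥ Q with O_p(L) ≠ 1, C_H(O_p(L)) is a p-group and L has characteristic p, and either the weak closure L° of Q in L equals Q or C_H(L°) = 1; for every subgroup R of H containing a Sylow p-subgroup of H with O_p(R) ≠ 1, C_H(O_p(R)) ≤ O_p(R); and H has parabolic characteristic p. -/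
theorem result {H : Type*} [Group H] [Finite H] {p : ℕ} [Fact p.Prime] (Q : Subgroup H) (hQp : IsPGroup p ↥Q) (hQ1 : Q ≠ ⊥) (hL : Cfsg.IsLarge Q) : (∀ L : Subgroup H, Q ≤ L → Cfsg.pCore p ↥L ≠ ⊥ → IsPGroup p ↥(Subgroup.centralizer (((Cfsg.pCoreOf p L) : Subgroup H) : Set H)) ∧ Subgroup.centralizer (Cfsg.pCore p ↥L : Set ↥L) ≤ Cfsg.pCore p ↥L ∧ (Cfsg.weakClosure Q L = Q ∨ Subgroup.centralizer (((Cfsg.weakClosure Q L) : Subgroup H) : Set H) = ⊥)) ∧ (∀ R : Subgroup H, Cfsg.IsParabolic p R → Cfsg.pCore p ↥R ≠ ⊥ → Subgroup.centralizer (((Cfsg.pCoreOf p R) : Subgroup H) : Set H) ≤ (Cfsg.pCoreOf p R)) ∧ Cfsg.IsOfParabolicCharacteristic p H := by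
  refine ⟨fun L hQL hne => ?_, fun R hR hne => ?_, large_parabolic_characteristic hL hQp⟩
  · have hR : Cfsg.pCoreOf p L ≠ ⊥ := fun e =>
      hne ((Subgroup.map_eq_bot_iff_of_injective _ L.subtype_injective).1 e)
    have hp := large_isPGroup_centralizer hL hQp hQL hR
    refine ⟨hp, charP_of_isPGroup_centralizer hp, ?_⟩
    by_contra hh
    push Not at hh
    obtain ⟨h1, h2⟩ := hh
    refine h1 (le_antisymm (weakClosure_le fun g hg => ?_) (le_weakClosure hQL))
    have h3 : Q.map (MulAut.conj g).toMonoidHom ≤ normalizer (Q : Set H) :=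
      ((cj_le_weakClosure hg).trans (le_centralizer_iff.1 le_rfl)).trans
        (large_centralizer_le hL (centralizer_le (le_weakClosure hQL)) h2)
    exact (wc_eq_of_le (large_wc hL hQp hQ1) (isPGroup_sup (isPGroup_cj hQp g) hQp h3) le_sup_right
      le_sup_left).le
  · exact large_centralizer_le_of_parabolic hL hQp hR fun e =>
      hne ((Subgroup.map_eq_bot_iff_of_injective _ R.subtype_injective).1 e)

end Cfsg.Agent.S2845
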