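import Cfsg.Statements.S2846
import Cfsg.Agent.Lib.Large.Exists

set_option autoImplicit false
open Cfsg

namespace Cfsg.Agent.S2846

open Cfsg Subgroup CfsgLib.Large

/-- Let Q be a nontrivial large p-subgroup of the finite group H, S a Sylow p-subgroup containing Q, and L a subgroup containing S with O_p(L) ≠ 1 and C_H(O_p(L)) ≤ O_p(L). Then there are a subgroup M containing S having the basic property (M ∈ 𝔐_H, writing Y_X for the largest p-reduced normal subgroup of X and 𝓛_H for the set of subgroups X with O_p(X) ≠ 1 and C_H(O_p(X)) ≤ O_p(X): M ∈ 𝓛_H, M·C_H(Y_M) is the only maximal member of 𝓛_H containing M and its largest p-reduced normal subgroup is again Y_M, C_M(Y_M) is p-closed, and the image of C_M(Y_M) in M/O_p(M) lies in the Frattini subgroup of M/O_p(M)) and a subgroup L* with S ≤ L* ≤ M, O_p(L*) ≠ 1, C_H(O_p(L*)) ≤ O_p(L*), such that L·C_H(Y_L) = L*·C_H(Y_L), the weak closures of Q in L and in L* agree and lie in that of M, and Y_L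 = Y_{L*} ≤ Y_M. If moreover Q is not normal in L, then Q is normal in neither L* nor M. -/
theorem result {H : Type*} [Group H] [Finite H] {p : ℕ} [Fact p.Prime] (Q : Subgroup H) (hQp : IsPGroup p ↥Q) (hQ1 : Q ≠ ⊥) (hLg : Cfsg.IsLarge Q) (S : Sylow p H) (hQS : Q ≤ (S : Subgroup H)) (L : Subgroup H) (hSL : (S : Subgroup H) ≤ L) (hL : L ∈ Cfsg.charPSubgroups p H) : ∃ M Ls : Subgroup H, (S : Subgroup H) ≤ M ∧ Cfsg.IsInFrakM p M ∧ (S : Subgroup H) ≤ Ls ∧ Ls ≤ M ∧ Ls ∈ Cfsg.charPSubgroups p H ∧ L ⊔ Subgroup.centralizer (((Cfsg.largestPReducedOf p L) : Subgroup H) : Set H) = Ls ⊔ Subgroup.centralizer (((Cfsg.largestPReducedOf p L) : Subgroup H) : Set H) ∧ Cfsg.weakClosure Q L = Cfsg.weakClosure Q Ls ∧ Cfsg.weakClosure Q Ls ≤ Cfsg.weakClosure Q M ∧ (Cfsg.largestPReducedOf p L) = (Cfsg.largestPReducedOf p Ls) ∧ (Cfsg.largestPReducedOf p Ls) ≤ (Cfsg.largestPReducedOf p M) ∧ (¬ L ≤ Subgroup.normalizer ((Q : Subgroup H) : Set H) → ¬ Ls ≤ Subgroup.normalizer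 ((Q : Subgroup H) : Set H) ∧ ¬ M ≤ Subgroup.normalizer ((Q : Subgroup H) : Set H)) := by
  obtain ⟨M, Ls, h1, h2, h3, h4, h5, h6, h7, h8⟩ :=
    exists_frakM (large_parabolic_characteristic hLg hQp) hSL hL
  have hY1 : Cfsg.largestPReducedOf p L ≠ ⊥ := largest_ne_bot hSL hL
  have hwc := large_wc hLg hQp hQ1
  have hW : weakClosure Q L = weakClosure Q Ls := by
    rw [large_weakClosure_sup hLg hQp hQ1 (isPGroup_largest L) hY1 (hQS.trans hSL) (red_largest L).2.1,
      h8]
    refine (large_weakClosure_sup hLg hQp hQ1 (isPGroup_largest L) hY1 (hQS.trans h3) ?_).symm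
    rw [h6]; exact (red_largest Ls).2.1
  refine ⟨M, Ls, h1, h2, h3, h4, h5, h8, hW, weakClosure_mono Q h4, h6, h6 ▸ h7, fun hn => ?_⟩
  have hLs : ¬ Ls ≤ normalizer (Q : Set H) := by
    intro hLs
    refine hn ?_
    rw [weakClosure_eq_self hwc (hQS.trans h3) hLs] at hW
    calc L ≤ normalizer (L : Set H) := le_normalizer
      _ ≤ normalizer (weakClosure Q L : Set H) := normalizer_le_normalizer_weakClosure Q L
      _ = normalizer (Q : Set H) := by rw [hW]
  exact ⟨hLs, fun hM => hLs (h4.trans hM)⟩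

end Cfsg.Agent.S2846
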