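import Cfsg.Statements.S2848
import Cfsg.Agent.Lib.Large.FrakM

set_option autoImplicit false
open Cfsg

namespace Cfsg.Agent.S2848

open Cfsg Subgroup CfsgLib.Large

/-- Standing hypotheses: G a finite group, S a Sylow p-subgroup, Q a nontrivial large p-subgroup of G contained in S (C_G(Q) ≤ Q and N_G(U) ≤ N_G(Q) for all nontrivial U ≤ C_G(Q)), and M a subgroup containing S with the basic property (M ∈ 𝔐_G(S)); Y_M denotes the largest p-reduced normal subgroup of M and M† = M·C_G(Y_M). Then O_p(M) is a weakly closed subgroup of M† (for p): it is the only M†-conjugate of itself inside some Sylow p-subgroup of M† containing it. -/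
theorem result {G : Type*} [Group G] [Finite G] {p : ℕ} [Fact p.Prime] (S : Sylow p G) (Q : Subgroup G) (hQp : IsPGroup p ↥Q) (hQ1 : Q ≠ ⊥) (hQS : Q ≤ (S : Subgroup G)) (hQ : Cfsg.IsLarge Q) (M : Subgroup G) (hSM : (S : Subgroup G) ≤ M) (hM : Cfsg.IsInFrakM p M) : Cfsg.IsWeaklyClosedSubgroup p (((Cfsg.pCoreOf p M)).subgroupOf (M ⊔ Subgroup.centralizer (((Cfsg.largestPReducedOf p M) : Subgroup G) : Set G))) := by
  set Y := Cfsg.largestPReducedOf p M with hY
  set C := centralizer (Y : Set G) with hC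
  have hSd : (S : Subgroup G) ≤ M ⊔ C := hSM.trans le_sup_left
  have hR : Cfsg.pCoreOf p M = (S : Subgroup G) ⊓ C := frakM_pCoreOf hSM hM
  refine ⟨S.subtype hSd, fun x hx => ?_, fun g hg => ?_⟩
  · exact (hR.le hx).1
  · refine Subgroup.eq_of_le_of_card_ge ?_ (Subgroup.card_map_of_injective (MulAut.conj g).injective).ge
    intro x hx
    have hxS : x ∈ (S.subtype hSd : Subgroup ↥(M ⊔ C)) := hg hx
    obtain ⟨y, hy, rfl⟩ := hx
    have hgN : (g : G) ∈ normalizer (Y : Set G) :=
      sup_le (red_largest M).2.1 (centralizer_le_normalizer Y) g.2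
    rw [mem_subgroupOf, hR]
    exact ⟨hxS, conj_mem_centralizer_of_normalizer hgN (hR.le hy).2⟩

end Cfsg.Agent.S2848
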