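import Cfsg.Statements.S2849
import Cfsg.Agent.Lib.Large.FrakM

set_option autoImplicit false
open Cfsg

namespace Cfsg.Agent.S2849

open Cfsg Subgroup CfsgLib.Large
open scoped commutatorElement

/-- Standing hypotheses: G a finite group, S a Sylow p-subgroup, Q a nontrivial large p-subgroup of G contained in S (C_G(Q) ≤ Q and N_G(U) ≤ N_G(Q) for all nontrivial U ≤ C_G(Q)), and M a subgroup containing S with the basic property (M ∈ 𝔐_G(S)); Y_M denotes the largest p-reduced normal subgroup of M and M† = M·C_G(Y_M). Suppose Y_M is asymmetric in G. Then for every subgroup R with Y_M ≤ R ≤ M†, the normal closure of Y_M in N_G(R) is elementary abelian. -/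
theorem result {G : Type*} [Group G] [Finite G] {p : ℕ} [Fact p.Prime] (S : Sylow p G) (Q : Subgroup G) (hQp : IsPGroup p ↥Q) (hQ1 : Q ≠ ⊥) (hQS : Q ≤ (S : Subgroup G)) (hQ : Cfsg.IsLarge Q) (M : Subgroup G) (hSM : (S : Subgroup G) ≤ M) (hM : Cfsg.IsInFrakM p M) (hasym : ¬ Cfsg.IsSymmetricIn (Cfsg.largestPReducedOf p M)) (R : Subgroup G) (hYR : (Cfsg.largestPReducedOf p M) ≤ R) (hRM : R ≤ (M ⊔ Subgroup.centralizer (((Cfsg.largestPReducedOf p M) : Subgroup G) : Set G))) : Cfsg.IsElementaryAbelian p ((Subgroup.normalClosure ((((Cfsg.largestPReducedOf p M)).subgroupOf (Subgroup.normalizer ((R : Subgroup G) : Set G)) : Subgroup ↥(Subgroup.normalizer ((R : Subgroup G) : Set G))) : Set ↥(Subgroup.normalizer ((R : Subgroup G) : Set G)))).map (Subgroup.normalizer ((R : Subgroup G) : Set G)).subtype) := by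
  set Y := Cfsg.largestPReducedOf p M with hY
  set N := normalizer (R : Set G) with hN
  have hRY : R ≤ normalizer (Y : Set G) :=
    hRM.trans (sup_le (red_largest M).2.1 (centralizer_le_normalizer Y))
  -- conjugates of `Y` under `N` commute with `Y`
  have hcomm : ∀ n ∈ N, Y.map (MulAut.conj n).toMonoidHom ≤ centralizer (Y : Set G) := by
    intro n hn
    set Y' := Y.map (MulAut.conj n).toMonoidHom with hY'
    have hY'R : Y' ≤ R := (map_mono hYR).trans_eq (cj_eq_of_mem_normalizer hn)
    have hRY' : R ≤ normalizer (Y' : Set G) := by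
      rw [← cj_eq_of_mem_normalizer hn, hY',
        ← Subgroup.map_equiv_normalizer_eq Y (MulAut.conj n)]
      exact map_mono hRY
    have hle : ⁅Y, Y'⁆ ≤ Y ⊓ Y' := by
      refine commutator_le.2 fun a ha b hb => Subgroup.mem_inf.2 ⟨?_, ?_⟩
      · rw [show ⁅a, b⁆ = a * (b * a⁻¹ * b⁻¹) by group]
        exact mul_mem ha (conj_mem_of_normalizer (hRY (hY'R hb)) (inv_mem ha))
      · rw [show ⁅a, b⁆ = (a * b * a⁻¹) * b⁻¹ by group]
        exact mul_mem (conj_mem_of_normalizer (hRY' (hYR ha)) hb) (inv_mem hb)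
    by_contra hne
    refine hasym ⟨n, fun e => hne ?_, hle⟩
    exact le_centralizer_iff.1 (Subgroup.commutator_eq_bot_iff_le_centralizer.1 e)
  set V : Subgroup G := ⨆ n : ↥N, Y.map (MulAut.conj (n : G)).toMonoidHom with hV
  have hVc : V ≤ centralizer (V : Set G) := by
    refine iSup_le fun n => le_centralizer_iff.1 (iSup_le fun m => ?_)
    have h1 := map_mono (f := (MulAut.conj (n : G)).toMonoidHom)
      (hcomm ((n : G)⁻¹ * m) (mul_mem (inv_mem n.2) m.2))
    rwa [cj_cj, mul_inv_cancel_left, ← centralizer_cj] at h1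
  have hVp : V ≤ centreP p V := iSup_le fun n x hx =>
    ⟨⟨le_iSup (fun n : ↥N => Y.map (MulAut.conj (n : G)).toMonoidHom) n hx,
      hVc (le_iSup (fun n : ↥N => Y.map (MulAut.conj (n : G)).toMonoidHom) n hx)⟩, by
      obtain ⟨y, hy, rfl⟩ := hx
      rw [← map_pow, (red_largest M).2.2.1.2 y hy, map_one]⟩
  refine isElementaryAbelian_of_le_centreP (K := V) (le_trans ?_ hVp)
  rw [Subgroup.map_le_iff_le_comap]
  have : (V.comap N.subtype).Normal := by
    refine ⟨fun a ha b => ?_⟩
    have hb : (b : G) ∈ normalizer (V : Set G) := by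
      refine mem_normalizer_of_conj_mem (cj_le_iff.1 ?_)
      simp only [hV, Subgroup.map_iSup, cj_cj]
      exact iSup_le fun m => le_iSup_of_le ⟨(b : G) * m, mul_mem b.2 m.2⟩ le_rfl
    exact mem_comap.2 (by simpa using conj_mem_of_normalizer hb ha)
  refine Subgroup.normalClosure_le_normal fun y hy => ?_
  exact le_iSup (fun n : ↥N => Y.map (MulAut.conj (n : G)).toMonoidHom) 1
    (by simpa using ((cj_one Y).ge hy))

end Cfsg.Agent.S2849
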