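import Cfsg.Statements.S2850
import Cfsg.Agent.Lib.Large.Asym

set_option autoImplicit false
open Cfsg

namespace Cfsg.Agent.S2850

open Cfsg Subgroup CfsgLib.Large

/-- Standing hypotheses: G a finite group, S a Sylow p-subgroup, Q a nontrivial large p-subgroup of G contained in S (C_G(Q) ≤ Q and N_G(U) ≤ N_G(Q) for all nontrivial U ≤ C_G(Q)), and M a subgroup containing S with the basic property (M ∈ 𝔐_G(S)); Y_M denotes the largest p-reduced normal subgroup of M and M† = M·C_G(Y_M). Suppose Y_M is asymmetric in G. Then N_G(L) ≤ N_G(O_p(M)) ≤ M† for every p-subgroup L containing O_p(M); O_p(M) is a weakly closed subgroup of G; for every subgroup L containing O_p(M), L ∩ M† contains a Sylow p-subgroup of L; and two elements of Y_M conjugate in G are conjugate in M. -/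
theorem result {G : Type*} [Group G] [Finite G] {p : ℕ} [Fact p.Prime] (S : Sylow p G) (Q : Subgroup G) (hQp : IsPGroup p ↥Q) (hQ1 : Q ≠ ⊥) (hQS : Q ≤ (S : Subgroup G)) (hQ : Cfsg.IsLarge Q) (M : Subgroup G) (hSM : (S : Subgroup G) ≤ M) (hM : Cfsg.IsInFrakM p M) (hasym : ¬ Cfsg.IsSymmetricIn (Cfsg.largestPReducedOf p M)) : (∀ L : Subgroup G, IsPGroup p ↥L → (Cfsg.pCoreOf p M) ≤ L → Subgroup.normalizer ((L : Subgroup G) : Set G) ≤ Subgroup.normalizer (((Cfsg.pCoreOf p M) : Subgroup G) : Set G) ∧ Subgroup.normalizer (((Cfsg.pCoreOf p M) : Subgroup G) : Set G) ≤ (M ⊔ Subgroup.centralizer (((Cfsg.largestPReducedOf p M) : Subgroup G) : Set G))) ∧ Cfsg.IsWeaklyClosedSubgroup p (Cfsg.pCoreOf p M) ∧ (∀ L : Subgroup G, (Cfsg.pCoreOf p M) ≤ L → Cfsg.IsParabolic p ((L ⊓ (M ⊔ Subgroup.centralizer (((Cfsg.largestPReducedOf p M) : Subgroup G) : Set G))).subgroupOf L)) ∧ (∀ x ∈ (Cfsg.largestPReducedOf p M), ∀ g : G, g * x * g⁻¹ ∈ (Cfsg.largestPReducedOf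 p M) → ∃ m ∈ M, m * x * m⁻¹ = g * x * g⁻¹) := by
  have hG := large_parabolic_characteristic hQ hQp
  set Y := Cfsg.largestPReducedOf p M with hY
  set R := Cfsg.pCoreOf p M with hR
  have hNR : normalizer (R : Set G) ≤ M ⊔ centralizer (Y : Set G) :=
    (frakM_normalizer_pCoreOf_le hSM hM).trans (frakM_normalizer hG hSM hM).le
  have hwc := asym_wc hG hSM hM hasym
  refine ⟨fun L hL hRL => ⟨asym_normalizer_le hG hSM hM hasym hL hRL, hNR⟩, hwc, fun L hRL => ?_,
    fun x hx g hg => ?_⟩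
  · obtain ⟨P, hP⟩ :=
      ((isPGroup_pCoreOf (p := p) M).comap_of_injective L.subtype L.subtype_injective).exists_le_sylow
    refine ⟨P, fun z hz => mem_subgroupOf.2 ⟨z.2, hNR ?_⟩⟩
    exact asym_le_normalizer hG hSM hM hasym (P.2.map L.subtype)
      (fun r hr => ⟨⟨r, hRL hr⟩, hP (mem_subgroupOf.2 hr), rfl⟩) ⟨z, hz, rfl⟩
  · have hRc : ∀ y ∈ Y, R ≤ centralizer {y} := fun y hy r hr =>
      mem_centralizer_singleton_iff.2 ((pCoreOf_le_centralizer_largest M hr) y hy).symm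
    have h2 : R.map (MulAut.conj g⁻¹).toMonoidHom ≤ centralizer {x} := by
      rintro _ ⟨r, hr, rfl⟩
      refine mem_centralizer_singleton_iff.2 ?_
      have e := mem_centralizer_singleton_iff.1 (hRc _ hg hr)
      show g⁻¹ * r * g⁻¹⁻¹ * x = x * (g⁻¹ * r * g⁻¹⁻¹)
      calc g⁻¹ * r * g⁻¹⁻¹ * x = g⁻¹ * (r * (g * x * g⁻¹)) * g := by group
        _ = g⁻¹ * ((g * x * g⁻¹) * r) * g := by rw [e]
        _ = x * (g⁻¹ * r * g⁻¹⁻¹) := by group
    obtain ⟨k, hk, hgk⟩ := wc_exists_mem hwc (hRc x hx) h2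
    have hn : g * k ∈ M ⊔ centralizer (Y : Set G) := hNR (mem_normalizer_iff_cj.2 (by
      rw [← cj_cj, ← hgk, cj_cj, mul_inv_cancel, cj_one]))
    have hn' : g * k ∈ (↑(M ⊔ centralizer (Y : Set G)) : Set G) := hn
    rw [coe_mul_of_left_le_normalizer_right M _
      ((red_largest M).2.1.trans (normalizer_le_normalizer_centralizer _))] at hn'
    obtain ⟨m, hm, c, hc, hmc⟩ := hn'
    refine ⟨m, hm, ?_⟩
    have hkx : k * x * k⁻¹ = x := by
      rw [mem_centralizer_singleton_iff.1 hk, mul_inv_cancel_right]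
    have hcx : c * x * c⁻¹ = x := by rw [← hc x hx, mul_inv_cancel_right]
    calc m * x * m⁻¹ = m * (c * x * c⁻¹) * m⁻¹ := by rw [hcx]
      _ = m * c * x * (m * c)⁻¹ := by group
      _ = g * k * x * (g * k)⁻¹ := by rw [show m * c = g * k from hmc]
      _ = g * (k * x * k⁻¹) * g⁻¹ := by group
      _ = g * x * g⁻¹ := by rw [hkx]

end Cfsg.Agent.S2850
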