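import Cfsg.Statements.S2851
import Cfsg.Agent.Lib.Large.Asym
import Cfsg.Agent.Lib.Components.FStar

set_option autoImplicit false
open Cfsg

namespace Cfsg.Agent.S2851

open Cfsg Subgroup CfsgLib.Large
open scoped commutatorElement

private theorem eq_bot_of_normalized {X : Type*} [Group X] [Finite X] {p : ℕ}
    (hX : pCore p X = ⊥) {A : Subgroup X} (hA : IsPGroup p A)
    (hn : generalizedFittingSubgroup X ≤ normalizer (A : Set X)) : A = ⊥ := by
  set N := generalizedFittingSubgroup X with hN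
  haveI hNn : N.Normal := CfsgLib.Components.generalizedFitting_normal
  have h1 : A ⊓ N = ⊥ := by
    have h2 : A ⊓ N ≤ pCoreOf p N := le_pCoreOf inf_le_right
      ((le_inf hn le_normalizer).trans normalizer_le_normalizer_inf) hA.to_inf_left
    refine le_bot_iff.1 (h2.trans ?_)
    rw [← hX]
    refine CfsgLib.PCore.le_pCore ⟨fun a ha b => ?_⟩ (isPGroup_pCoreOf N)
    refine conj_mem_of_normalizer (normalizer_le_normalizer_pCoreOf N ?_) ha
    simp [Subgroup.normalizer_eq_top]
  have h3 : ⁅A, N⁆ ≤ A ⊓ N := by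
    refine le_inf (commutator_le.2 fun a ha b hb => ?_) (commutator_le_right A N)
    rw [show ⁅a, b⁆ = a * (b * a⁻¹ * b⁻¹) by group]
    exact mul_mem ha (conj_mem_of_normalizer (hn hb) (inv_mem ha))
  rw [h1, le_bot_iff, commutator_eq_bot_iff_le_centralizer] at h3
  exact le_bot_iff.1 ((le_inf le_rfl (h3.trans CfsgLib.Components.centralizer_generalizedFitting_le)).trans
    h1.le)

private theorem le_centralizer_of_normalized {G : Type*} [Group G] [Finite G] {p : ℕ}
    {D C : Subgroup G} (hCD : C ≤ D) [(C.subgroupOf D).Normal]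
    (hX : pCore p (↥D ⧸ C.subgroupOf D) = ⊥) {P : Subgroup G} (hP : IsPGroup p P) (hPD : P ≤ D)
    (hn : ((generalizedFittingSubgroup (↥D ⧸ C.subgroupOf D)).comap
      (QuotientGroup.mk' (C.subgroupOf D))).map D.subtype ≤ normalizer ((P ⊔ C : Subgroup G) : Set G)) :
    P ≤ C := by
  set f := QuotientGroup.mk' (C.subgroupOf D) with hf
  have h1 : ((P ⊔ C).subgroupOf D).map f = (P.subgroupOf D).map f := by
    rw [subgroupOf_sup hPD hCD, Subgroup.map_sup, QuotientGroup.map_mk'_self, sup_bot_eq]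
  have hA := eq_bot_of_normalized hX (A := (P.subgroupOf D).map f)
    ((hP.comap_of_injective _ D.subtype_injective).map f) (by
    intro z hz
    obtain ⟨d, rfl⟩ := QuotientGroup.mk'_surjective _ z
    rw [← h1]
    refine mem_normalizer_of_conj_mem ?_
    rintro _ ⟨a, ha, rfl⟩
    refine ⟨d * a * d⁻¹, ?_, by simp [hf]⟩
    exact mem_subgroupOf.2 (conj_mem_of_normalizer (hn ⟨d, hz, rfl⟩) (mem_subgroupOf.1 ha)))
  rw [Subgroup.map_eq_bot_iff, QuotientGroup.ker_mk'] at hA
  exact fun x hx => mem_subgroupOf.1 (hA (x := ⟨x, hPD hx⟩) hx)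

/-- Standing hypotheses: G a finite group, S a Sylow p-subgroup, Q a nontrivial large p-subgroup of G contained in S, M a subgroup containing S with the basic property (M ∈ 𝔐_G(S)); Y_M the largest p-reduced normal subgroup of M and M† = M·C_G(Y_M). Let F be the preimage in M† of the generalized Fitting subgroup of M†/C_{M†}(Y_M). If Y_M is asymmetric in G and H is a subgroup of characteristic p containing F, then Y_M ≤ Y_H. -/
theorem result {G : Type*} [Group G] [Finite G] {p : ℕ} [Fact p.Prime] (S : Sylow p G) (Q : Subgroup G) (hQp : IsPGroup p ↥Q) (hQ1 : Q ≠ ⊥) (hQS : Q ≤ (S : Subgroup G)) (hQ : Cfsg.IsLarge Q) (M : Subgroup G) (hSM : (S : Subgroup G) ≤ M) (hM : Cfsg.IsInFrakM p M) (hasym : ¬ Cfsg.IsSymmetricIn (Cfsg.largestPReducedOf p M)) [hn : ((Subgroup.centralizer (((Cfsg.largestPReducedOf p M) : Subgroup G) : Set G)).subgroupOf (M ⊔ Subgroup.centralizer (((Cfsg.largestPReducedOf p M) : Subgroup G) : Set G))).Normal] (F : Subgroup G) (hF : F = ((Cfsg.generalizedFittingSubgroup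 (↥(M ⊔ Subgroup.centralizer (((Cfsg.largestPReducedOf p M) : Subgroup G) : Set G)) ⧸ (Subgroup.centralizer (((Cfsg.largestPReducedOf p M) : Subgroup G) : Set G)).subgroupOf (M ⊔ Subgroup.centralizer (((Cfsg.largestPReducedOf p M) : Subgroup G) : Set G)))).comap (QuotientGroup.mk' ((Subgroup.centralizer (((Cfsg.largestPReducedOf p M) : Subgroup G) : Set G)).subgroupOf (M ⊔ Subgroup.centralizer (((Cfsg.largestPReducedOf p M) : Subgroup G) : Set G))))).map ((M ⊔ Subgroup.centralizer (((Cfsg.largestPReducedOf p M) : Subgroup G) : Set G))).subtype) (H : Subgroup G) (hFH : F ≤ H) (hH : Subgroup.centralizer (Cfsg.pCore p ↥H : Set ↥H) ≤ Cfsg.pCore p ↥H) : (Cfsg.largestPReducedOf p M) ≤ Cfsg.largestPReducedOf p H := by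
  have hG := large_parabolic_characteristic hQ hQp
  set Y := Cfsg.largestPReducedOf p M with hY
  set R := Cfsg.pCoreOf p M with hR
  set C := centralizer (Y : Set G) with hC
  have hCD : C ≤ M ⊔ C := le_sup_right
  have hDY : M ⊔ C ≤ normalizer (Y : Set G) :=
    sup_le (red_largest M).2.1 (centralizer_le_normalizer Y)
  have hDC : M ⊔ C ≤ normalizer (C : Set G) := hDY.trans (normalizer_le_normalizer_centralizer Y)
  have hX : pCore p (↥(M ⊔ C) ⧸ C.subgroupOf (M ⊔ C)) = ⊥ := by
    have hYD : Y ≤ M ⊔ C := (red_largest M).1.trans le_sup_left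
    have hred : Red p (M ⊔ C) Y := by
      have h := red_largest (p := p) (M ⊔ C)
      rwa [← hM.2.2.2.1] at h
    obtain ⟨-, -, hn', hcore⟩ := (red_iff hYD).2 hred
    revert hn' hcore
    rw [centralizer_subgroupOf hYD, inf_comm, inf_subgroupOf_right]
    intro _ h
    exact h
  have hFD : F ≤ M ⊔ C := hF.le.trans (map_subtype_le _)
  have hCF : C ≤ F := fun c hc => by
    rw [hF]
    refine ⟨⟨c, hCD hc⟩, mem_comap.2 ?_, rfl⟩
    rw [QuotientGroup.mk'_apply, (QuotientGroup.eq_one_iff (⟨c, hCD hc⟩ : ↥(M ⊔ C))).2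
      (mem_subgroupOf.2 hc)]
    exact one_mem _
  have hRC : R ≤ C := pCoreOf_le_centralizer_largest M
  have hCH : C ≤ H := hCF.trans hFH
  have hRH : R ≤ H := hRC.trans hCH
  have hNR : normalizer (R : Set G) ≤ M ⊔ C :=
    (frakM_normalizer_pCoreOf_le hSM hM).trans (frakM_normalizer hG hSM hM).le
  obtain ⟨T, hT⟩ :=
    ((isPGroup_pCoreOf (p := p) M).comap_of_injective H.subtype H.subtype_injective).exists_le_sylow
  have hTN : (T : Subgroup ↥H).map H.subtype ≤ normalizer (R : Set G) :=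
    asym_le_normalizer hG hSM hM hasym (T.2.map _) fun r hr =>
      ⟨⟨r, hRH hr⟩, hT (mem_subgroupOf.2 hr), rfl⟩
  have hOT : pCoreOf p H ≤ (T : Subgroup ↥H).map H.subtype :=
    map_mono (le_sup_right.trans_eq (T.3
      (IsPGroup.to_sup_of_normal_right T.2 (CfsgLib.PCore.pCore_isPGroup (p := p) (G := ↥H))) le_sup_left))
  have hO : pCoreOf p H ≤ R := by
    refine frakM_le_pCoreOf hSM hM (isPGroup_pCoreOf H) ?_ (hOT.trans hTN)
    exact le_centralizer_of_normalized hCD hX (isPGroup_pCoreOf H) ((hOT.trans hTN).trans hNR)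
      (hF ▸ le_normalizer_sup (hFH.trans (le_normalizer_pCoreOf H)) (hFD.trans hDC))
  have hYZ : Y ≤ centreP p (pCoreOf p H) := by
    have h1 : Y ≤ centralizer (pCoreOf p H : Set G) := le_centralizer_iff.1 (hO.trans hRC)
    intro y hy
    refine ⟨⟨?_, h1 hy⟩, (red_largest M).2.2.1.2 y hy⟩
    have h2 : (⟨y, hRH (largest_le_pCoreOf M hy)⟩ : ↥H) ∈ pCore p ↥H :=
      hH fun z hz => Subtype.ext (h1 hy _ ⟨z, hz, rfl⟩)
    exact ⟨_, h2, rfl⟩
  set V : Subgroup G := ⨆ m : ↥H, Y.map (MulAut.conj (m : G)).toMonoidHom with hV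
  have hVR : V ≤ centreP p (pCoreOf p H) := iSup_le fun m =>
    (map_mono hYZ).trans_eq (cj_eq_of_mem_normalizer
      (normalizer_le_normalizer_centreP _ (le_normalizer_pCoreOf H m.2)))
  have hYV : Y ≤ V := le_iSup_of_le (1 : ↥H) (by rw [OneMemClass.coe_one, cj_one])
  have hHV : H ≤ normalizer (V : Set G) := by
    intro m hm
    refine mem_normalizer_of_conj_mem (cj_le_iff.1 ?_)
    simp only [hV, Subgroup.map_iSup, cj_cj]
    exact iSup_le fun n => le_iSup_of_le ⟨m * n, mul_mem hm n.2⟩ le_rfl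
  suffices hred : Red p H V from hYV.trans (red_le hred)
  refine ⟨hVR.trans ((centreP_le _).trans (pCoreOf_le H)), hHV,
    isElementaryAbelian_of_le_centreP hVR, fun P hP hPH hPn => ?_⟩
  set CV := H ⊓ centralizer (V : Set G) with hCV
  set K := P ⊔ CV with hK
  obtain ⟨T', hT'⟩ :=
    (hP.comap_of_injective H.subtype H.subtype_injective).exists_le_sylow
  obtain ⟨h, hh⟩ := MulAction.exists_smul_eq ↥H T' T
  have hconj : P.map (MulAut.conj (h : G)).toMonoidHom ≤ (T : Subgroup ↥H).map H.subtype := by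
    rintro _ ⟨x, hx, rfl⟩
    refine ⟨h * ⟨x, hPH hx⟩ * h⁻¹, ?_, rfl⟩
    rw [← hh, ← sylow_cj_eq]
    exact ⟨⟨x, hPH hx⟩, hT' (mem_subgroupOf.2 hx), rfl⟩
  have hKeq : P.map (MulAut.conj (h : G)).toMonoidHom ⊔ CV = K := by
    have e1 := cj_eq_of_mem_normalizer (hPn h.2)
    rwa [Subgroup.map_sup, cj_eq_of_mem_normalizer (le_normalizer_inf_centralizer hHV h.2)] at e1
  have hCVC : CV ≤ C := inf_le_right.trans (centralizer_le hYV)
  have hP' : P.map (MulAut.conj (h : G)).toMonoidHom ≤ C := by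
    refine le_centralizer_of_normalized hCD hX (hP.map _) (hconj.trans (hTN.trans hNR)) (hF ▸ ?_)
    have e : P.map (MulAut.conj (h : G)).toMonoidHom ⊔ C = K ⊔ C := by
      rw [← hKeq, sup_assoc, sup_eq_right.2 hCVC]
    rw [e]
    exact le_normalizer_sup (hFH.trans hPn) (hFD.trans hDC)
  have hKY : K ≤ centralizer (Y : Set G) := hKeq ▸ sup_le hP' hCVC
  refine le_trans le_sup_left (le_centralizer_iff.1 ?_ : K ≤ centralizer (V : Set G))
  refine iSup_le fun m => le_centralizer_iff.1 ?_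
  rw [centralizer_cj]
  calc K = K.map (MulAut.conj (m : G)).toMonoidHom := (cj_eq_of_mem_normalizer (hPn m.2)).symm
    _ ≤ _ := map_mono hKY

end Cfsg.Agent.S2851
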