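import Cfsg.Statements.S2852
import Cfsg.Agent.Lib.Large.FrakH
import Cfsg.Agent.Lib.Large.CharP

set_option autoImplicit false
open Cfsg

namespace Cfsg.Agent.S2852

open Cfsg Subgroup CfsgLib.Large

/-- Standing hypotheses: G a finite group, S a Sylow p-subgroup, Q a nontrivial large p-subgroup of G contained in S, M a subgroup containing S with the basic property (M ∈ 𝔐_G(S)); Y_M the largest p-reduced normal subgroup of M. If Y_M is char-p-tall and asymmetric in G, then some subgroup H of G lies in ℌ_G(O_p(M)): H has characteristic p, O_p(M) ≤ H, Y_M ≰ O_p(H), and Y_M ≤ O_p(P) for every proper subgroup P of H containing O_p(M). -/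
theorem result {G : Type*} [Group G] [Finite G] {p : ℕ} [Fact p.Prime] (S : Sylow p G) (Q : Subgroup G) (hQp : IsPGroup p ↥Q) (hQ1 : Q ≠ ⊥) (hQS : Q ≤ (S : Subgroup G)) (hQ : Cfsg.IsLarge Q) (M : Subgroup G) (hSM : (S : Subgroup G) ≤ M) (hM : Cfsg.IsInFrakM p M) (htall : Cfsg.IsCharPTall p (Cfsg.largestPReducedOf p M)) (hasym : ¬ Cfsg.IsSymmetricIn (Cfsg.largestPReducedOf p M)) : ∃ H : Subgroup G, Cfsg.IsInFrakH p M H := by
  have hG := large_parabolic_characteristic hQ hQp
  obtain ⟨T, L, hTL, hL, hYL⟩ := htall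
  obtain ⟨c, hc, hcT⟩ := frakM_exists_conj hSM hM T
  set Y := Cfsg.largestPReducedOf p M with hY
  set R := Cfsg.pCoreOf p M with hR
  set K := L.map (MulAut.conj c).toMonoidHom with hK
  have hRK : R ≤ K := hcT.symm.le.trans (map_mono hTL)
  have hcY : Y.map (MulAut.conj c).toMonoidHom = Y :=
    cj_eq_of_mem_normalizer (centralizer_le_normalizer Y hc)
  have hpc : pCoreOf p K ≤ (pCoreOf p L).map (MulAut.conj c).toMonoidHom := by
    have hle : (pCoreOf p K).map (MulAut.conj c⁻¹).toMonoidHom ≤ pCoreOf p L := by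
      refine le_pCoreOf ((map_mono (pCoreOf_le K)).trans_eq (by rw [hK, cj_cj, inv_mul_cancel, cj_one]))
        ?_ ((isPGroup_pCoreOf K).map _)
      rw [← normalizer_cj]
      calc L = K.map (MulAut.conj c⁻¹).toMonoidHom := by rw [hK, cj_cj, inv_mul_cancel, cj_one]
        _ ≤ _ := map_mono (le_normalizer_pCoreOf K)
    calc pCoreOf p K = ((pCoreOf p K).map (MulAut.conj c⁻¹).toMonoidHom).map
          (MulAut.conj c).toMonoidHom := by rw [cj_cj, mul_inv_cancel, cj_one]
      _ ≤ _ := map_mono hle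
  have hYK : ¬ Y ≤ pCoreOf p K := fun h => hYL (by
    have h2 := h.trans hpc
    rw [← hcY] at h2
    exact (Subgroup.map_le_map_iff_of_injective (MulAut.conj c).injective).1 h2)
  obtain ⟨H, hH⟩ := (Set.toFinite {P : Subgroup G | R ≤ P ∧ P ≤ K ∧ ¬ Y ≤ pCoreOf p P}).exists_minimal
    ⟨K, hRK, le_rfl, hYK⟩
  obtain ⟨hRH, hHK, hYH⟩ := hH.prop
  have hmin : ∀ P : Subgroup G, R ≤ P → P < H → Y ≤ pCoreOf p P := fun P h1 h2 => by
    by_contra h3
    exact h2.not_ge (hH.2 ⟨h1, h2.le.trans hHK, h3⟩ h2.le)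
  exact ⟨H, charP_of_normalClosure hG hSM hM hasym hRH hHK
    (normalClosure_eq_of_minimal hRH hYH hmin) (charP_cj c hL), hRH, hYH, hmin⟩

end Cfsg.Agent.S2852
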