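import Cfsg.Statements.S2853
import Cfsg.Agent.Lib.Large.FrakH

set_option autoImplicit false
open Cfsg

namespace Cfsg.Agent.S2853

open Cfsg Subgroup CfsgLib.Large

/-- Standing hypotheses: G a finite group, S a Sylow p-subgroup, Q a nontrivial large p-subgroup of G contained in S, M a subgroup containing S with the basic property (M ∈ 𝔐_G(S)); Y_M the largest p-reduced normal subgroup of M and M† = M·C_G(Y_M). Suppose Y_M is char-p-tall and asymmetric in G and H ∈ ℌ_G(O_p(M)). Then every Sylow p-subgroup of H ∩ M† is a Sylow p-subgroup of H; O_p(H) normalizes O_p(M) and Y_M; O^p(H) = [O^p(H), Y_M] and H = O^p(H)·O_p(M); O^p(H)·Y_M is the normal closure of Y_M in H; and H is the normal closure of O_p(M) in H. Here O^p(H) is the subgroup generated by the elements of H of order prime to p. -/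
theorem result {G : Type*} [Group G] [Finite G] {p : ℕ} [Fact p.Prime] (S : Sylow p G) (Q : Subgroup G) (hQp : IsPGroup p ↥Q) (hQ1 : Q ≠ ⊥) (hQS : Q ≤ (S : Subgroup G)) (hQ : Cfsg.IsLarge Q) (M : Subgroup G) (hSM : (S : Subgroup G) ≤ M) (hM : Cfsg.IsInFrakM p M) (htall : Cfsg.IsCharPTall p (Cfsg.largestPReducedOf p M)) (hasym : ¬ Cfsg.IsSymmetricIn (Cfsg.largestPReducedOf p M)) (H : Subgroup G) (hH : Cfsg.IsInFrakH p M H) (R : Subgroup G) (hR : R = (Cfsg.pResidual p ↥H).map H.subtype) : (∀ T : Sylow p ↥(H ⊓ (M ⊔ Subgroup.centralizer (((Cfsg.largestPReducedOf p M) : Subgroup G) : Set G))), ∃ P : Sylow p ↥H, ((P : Subgroup ↥H).map H.subtype) = (T : Subgroup ↥(H ⊓ (M ⊔ Subgroup.centralizer (((Cfsg.largestPReducedOf p M) : Subgroup G) : Set G)))).map (H ⊓ (M ⊔ Subgroup.centralizer (((Cfsg.largestPReducedOf p M) : Subgroup G) : Set G))).subtype) ∧ Cfsg.pCoreOf p H ≤ Subgroup.normalizer (((Cfsg.pCoreOf p M) : Subgroup G) : Set G) ⊓ Subgroup.normalizer (((Cfsg.largestPReducedOf p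 M) : Subgroup G) : Set G) ∧ ⁅R, (Cfsg.largestPReducedOf p M)⁆ = R ∧ R ⊔ (Cfsg.pCoreOf p M) = H ∧ R ⊔ (Cfsg.largestPReducedOf p M) = (Subgroup.normalClosure ((((Cfsg.largestPReducedOf p M)).subgroupOf H : Subgroup ↥H) : Set ↥H)).map H.subtype ∧ (Subgroup.normalClosure ((((Cfsg.pCoreOf p M)).subgroupOf H : Subgroup ↥H) : Set ↥H)).map H.subtype = H := by
  have hG := large_parabolic_characteristic hQ hQp
  set Y := Cfsg.largestPReducedOf p M with hY
  set RM := Cfsg.pCoreOf p M with hRM
  have hRH : RM ≤ H := hH.2.1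
  have hYH : Y ≤ H := (largest_le_pCoreOf M).trans hRH
  have hNR : normalizer (RM : Set G) ≤ M ⊔ centralizer (Y : Set G) :=
    (frakM_normalizer_pCoreOf_le hSM hM).trans (frakM_normalizer hG hSM hM).le
  have hON := pCoreOf_le_normalizer_of_asym hG hSM hM hasym hRH
  obtain ⟨h1, h2, h3⟩ := frakH_residual hH
  refine ⟨?_, le_inf hON (hON.trans (frakM_normalizer_pCoreOf_le hSM hM)), ?_, ?_, ?_,
    frakH_normalClosure hH⟩
  · set J := H ⊓ (M ⊔ centralizer (Y : Set G)) with hJ
    intro T
    obtain ⟨P0, hP0⟩ :=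
      ((isPGroup_pCoreOf (p := p) M).comap_of_injective H.subtype H.subtype_injective).exists_le_sylow
    have hP0J : (P0 : Subgroup ↥H).map H.subtype ≤ J := le_inf (map_subtype_le _)
      ((asym_le_normalizer hG hSM hM hasym (P0.2.map H.subtype)
        (fun r hr => ⟨⟨r, hRH hr⟩, hP0 (mem_subgroupOf.2 hr), rfl⟩)).trans hNR)
    obtain ⟨T0, hT0⟩ :=
      ((P0.2.map H.subtype).comap_of_injective J.subtype J.subtype_injective).exists_le_sylow
    set T' := (T : Subgroup ↥J).map J.subtype with hT'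
    have hT'H : T' ≤ H := (map_subtype_le _).trans inf_le_left
    obtain ⟨P, hP⟩ :=
      ((T.2.map J.subtype).comap_of_injective H.subtype H.subtype_injective).exists_le_sylow
    have hle : T' ≤ (P : Subgroup ↥H).map H.subtype :=
      fun x hx => ⟨⟨x, hT'H hx⟩, hP (mem_subgroupOf.2 hx), rfl⟩
    refine ⟨P, (Subgroup.eq_of_le_of_card_ge hle ?_).symm⟩
    rw [Subgroup.card_map_of_injective H.subtype_injective, P.card_eq_multiplicity,
      ← P0.card_eq_multiplicity, ← Subgroup.card_map_of_injective H.subtype_injective,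
      Subgroup.card_map_of_injective J.subtype_injective, T.card_eq_multiplicity,
      ← T0.card_eq_multiplicity,
      ← Nat.card_congr (Subgroup.subgroupOfEquivOfLe hP0J).toEquiv]
    exact Nat.le_of_dvd Nat.card_pos (Subgroup.card_dvd_of_le hT0)
  · rw [hR]
    conv_lhs => rw [show Y = (Y.subgroupOf H).map H.subtype by
      rw [subgroupOf_map_subtype, inf_eq_left.2 hYH]]
    rw [← Subgroup.map_commutator, h2]
  · have := congrArg (Subgroup.map H.subtype) h1
    rwa [Subgroup.map_sup, subgroupOf_map_subtype, inf_eq_left.2 hRH, ← MonoidHom.range_eq_map,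
      range_subtype, ← hR] at this
  · rw [← h3, Subgroup.map_sup, subgroupOf_map_subtype, inf_eq_left.2 hYH, ← hR]

end Cfsg.Agent.S2853
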