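import Cfsg.Statements.S2854
import Cfsg.Agent.Lib.Large.FrakH
import Cfsg.Agent.Lib.LocalEven.PIrreducible

set_option autoImplicit false
open Cfsg

namespace Cfsg.Agent.S2854

open Cfsg Subgroup CfsgLib.Large

/-- Standing hypotheses: G a finite group, S a Sylow p-subgroup, Q a nontrivial large p-subgroup of G contained in S, M a subgroup containing S with the basic property (M ∈ 𝔐_G(S)); Y_M the largest p-reduced normal subgroup of M and M† = M·C_G(Y_M). Suppose Y_M is asymmetric in G, H ∈ ℌ_G(O_p(M)), and H ≤ N_G(gQg⁻¹) for some g ∈ G. Then gQg⁻¹ ≤ O_p(H·gQg⁻¹) ≤ N_G(O_p(M)) ≤ N_G(Y_M) = M†; H is normal in H·gQg⁻¹ with O^p(H) = O^p(H·gQg⁻¹); and H·gQg⁻¹ is p-irreducible. -/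
theorem result {G : Type*} [Group G] [Finite G] {p : ℕ} [Fact p.Prime] (S : Sylow p G) (Q : Subgroup G) (hQp : IsPGroup p ↥Q) (hQ1 : Q ≠ ⊥) (hQS : Q ≤ (S : Subgroup G)) (hQ : Cfsg.IsLarge Q) (M : Subgroup G) (hSM : (S : Subgroup G) ≤ M) (hM : Cfsg.IsInFrakM p M) (hasym : ¬ Cfsg.IsSymmetricIn (Cfsg.largestPReducedOf p M)) (H : Subgroup G) (hH : Cfsg.IsInFrakH p M H) (g : G) (hHQ : H ≤ Subgroup.normalizer ((((Q : Subgroup G).map (MulAut.conj (g : G)).toMonoidHom) : Subgroup G) : Set G)) : ((Q : Subgroup G).map (MulAut.conj (g : G)).toMonoidHom) ≤ Cfsg.pCoreOf p (H ⊔ ((Q : Subgroup G).map (MulAut.conj (g : G)).toMonoidHom)) ∧ Cfsg.pCoreOf p (H ⊔ ((Q : Subgroup G).map (MulAut.conj (g : G)).toMonoidHom)) ≤ Subgroup.normalizer (((Cfsg.pCoreOf p M) : Subgroup G) : Set G) ∧ Subgroup.normalizer (((Cfsg.pCoreOf p M) : Subgroup G) : Set G) ≤ Subgroup.normalizer (((Cfsg.largestPReducedOf p M) : Subgroup G) : Set G) ∧ Subgroup.normalizer (((Cfsg.largestPReducedOf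 p M) : Subgroup G) : Set G) = (M ⊔ Subgroup.centralizer (((Cfsg.largestPReducedOf p M) : Subgroup G) : Set G)) ∧ (H.subgroupOf (H ⊔ ((Q : Subgroup G).map (MulAut.conj (g : G)).toMonoidHom))).Normal ∧ (Cfsg.pResidual p ↥H).map H.subtype = (Cfsg.pResidual p ↥(H ⊔ ((Q : Subgroup G).map (MulAut.conj (g : G)).toMonoidHom))).map (H ⊔ ((Q : Subgroup G).map (MulAut.conj (g : G)).toMonoidHom)).subtype ∧ Cfsg.IsPIrreducible p ↥(H ⊔ ((Q : Subgroup G).map (MulAut.conj (g : G)).toMonoidHom)) := by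
  have hG := large_parabolic_characteristic hQ hQp
  set Y := Cfsg.largestPReducedOf p M with hY
  set R := Cfsg.pCoreOf p M with hR
  set Q' := Q.map (MulAut.conj g).toMonoidHom with hQ'
  set X := H ⊔ Q' with hX
  have hHX : H ≤ X := le_sup_left
  have hQX : Q' ≤ X := le_sup_right
  have hRH : R ≤ H := hH.2.1
  have hQ'p : IsPGroup p Q' := isPGroup_cj hQp g
  have hXQ : X ≤ normalizer (Q' : Set G) := sup_le hHQ le_normalizer
  have hQO : Q' ≤ pCoreOf p X := le_pCoreOf hQX hXQ hQ'p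
  have hON : pCoreOf p X ≤ normalizer (R : Set G) :=
    pCoreOf_le_normalizer_of_asym hG hSM hM hasym (hRH.trans hHX)
  have hQN : Q' ≤ normalizer (R : Set G) := hQO.trans hON
  -- `H` is normal
  have hHn : X ≤ normalizer (H : Set G) := by
    refine sup_le le_normalizer (fun q hq => mem_normalizer_of_conj_mem ?_)
    have hK : H ≤ ⨅ q : ↥Q', (H.comap (MulAut.conj (q : G)).toMonoidHom ⊓ H) := by
      refine le_of_normalClosure_eq (frakH_normalClosure hH) (le_iInf fun q r hr =>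
        ⟨hRH (conj_mem_of_normalizer (hQN q.2) hr), hRH hr⟩) (fun k hk h hh => ?_)
      simp only [Subgroup.mem_iInf] at hk ⊢
      intro q
      have hq' : h⁻¹ * q * h ∈ Q' := by simpa using conj_mem_of_normalizer (inv_mem (hHQ hh)) q.2
      refine Subgroup.mem_inf.2 ⟨?_, mul_mem (mul_mem hh (hk q).2) (inv_mem hh)⟩
      show (q : G) * (h * k * h⁻¹) * (q : G)⁻¹ ∈ H
      have h1 : (h⁻¹ * q * h) * k * (h⁻¹ * q * h)⁻¹ ∈ H := (hk ⟨_, hq'⟩).1
      rw [show (q : G) * (h * k * h⁻¹) * (q : G)⁻¹ =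
        h * ((h⁻¹ * q * h) * k * (h⁻¹ * q * h)⁻¹) * h⁻¹ by group]
      exact mul_mem (mul_mem hh h1) (inv_mem hh)
    intro x hx
    have := hK hx
    simp only [Subgroup.mem_iInf] at this
    exact (this ⟨q, hq⟩).1
  haveI hH'n : (H.subgroupOf X).Normal :=
    ⟨fun a ha b => mem_subgroupOf.2 (conj_mem_of_normalizer (hHn b.2) ha)⟩
  set H' := H.subgroupOf X with hH'
  set Q'' := Q'.subgroupOf X with hQ''
  haveI hQ''n : Q''.Normal :=
    ⟨fun a ha b => mem_subgroupOf.2 (conj_mem_of_normalizer (hXQ b.2) ha)⟩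
  have hQ''p : IsPGroup p Q'' := hQ'p.comap_of_injective X.subtype X.subtype_injective
  have htop : H' ⊔ Q'' = ⊤ := by
    rw [hH', hQ'', ← subgroupOf_sup hHX hQX, subgroupOf_self]
  set ι := Subgroup.inclusion hHX with hι
  have hιr : ι.range = H' := by rw [hι, inclusion_range]
  have hresH' : pResidual p ↥X ≤ H' := CfsgLib.PIrr.pResidual_le_of_sup_eq_top hQ''p htop
  have hres : (pResidual p ↥H).map ι = pResidual p ↥X := by
    refine le_antisymm (CfsgLib.PRed.pResidual_map_le ι) ((closure_le _).2 fun x hx => ?_)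
    obtain ⟨y, rfl⟩ := hιr.ge (hresH' (CfsgLib.PRed.mem_pResidual hx))
    refine ⟨y, CfsgLib.PRed.mem_pResidual ?_, rfl⟩
    have hx' : (orderOf (ι y)).Coprime p := hx
    rwa [orderOf_injective ι (inclusion_injective hHX)] at hx'
  haveI := pCore_normal p ↥H
  haveI := pCore_normal p ↥X
  have hcore : (pCore p ↥H).map ι ≤ pCore p ↥X := by
    have h1 : pCoreOf p H ≤ pCoreOf p X := le_pCoreOf ((pCoreOf_le H).trans hHX)
      (hHn.trans (normalizer_le_normalizer_pCoreOf H)) (isPGroup_pCoreOf H)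
    rintro _ ⟨y, hy, rfl⟩
    rw [← subgroupOf_pCoreOf, mem_subgroupOf]
    exact h1 ⟨y, hy, rfl⟩
  refine ⟨hQO, hON, frakM_normalizer_pCoreOf_le hSM hM, frakM_normalizer hG hSM hM, hH'n, ?_, ?_, ?_⟩
  · rw [← hres, Subgroup.map_map]
    rfl
  · -- not `p`-closed
    intro hcl
    refine hH.2.2.1 ((largest_le_pCoreOf M).trans ?_)
    obtain ⟨T, hT⟩ := (((isPGroup_pCoreOf (p := p) M)).comap_of_injective X.subtype
      X.subtype_injective).exists_le_sylow
    have h1 : R ≤ pCoreOf p X := by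
      intro r hr
      exact ⟨⟨r, hHX (hRH hr)⟩, (CfsgLib.PIrr.isPClosed_iff T).1 hcl (hT (mem_subgroupOf.2 hr)), rfl⟩
    exact (le_inf h1 hRH).trans (inf_le_pCoreOf (isPGroup_pCoreOf X) (hHX.trans (le_normalizer_pCoreOf X)))
  · intro N hN hncl
    haveI : (N ⊔ Q'').Normal := inferInstance
    set N1 := N ⊔ Q'' with hN1
    set N0 := N1.comap ι with hN0
    rcases frakH_normal_dichotomy hH N0 with hle | hall
    · refine CfsgLib.PIrr.pResidual_le_of_pResidual_le_sup hQ''p ?_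
      rw [← hres]
      exact map_le_iff_le_comap.2 hle
    · refine absurd ?_ hncl
      obtain ⟨T⟩ := (inferInstance : Nonempty (Sylow p ↥X))
      rw [CfsgLib.PIrr.isPClosed_normal_iff T]
      have hQT : Q'' ≤ (T : Subgroup ↥X) :=
        le_sup_right.trans_eq (T.3 (T.2.to_sup_of_normal_right hQ''p) le_sup_left)
      intro x hx
      obtain ⟨hxT, hxN⟩ := Subgroup.mem_inf.1 hx
      obtain ⟨a, ha, b, hb, rfl⟩ := Subgroup.mem_sup_of_normal_right.1 (htop ▸ Subgroup.mem_top x)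
      obtain ⟨y, rfl⟩ := hιr.ge ha
      have hbO : b ∈ pCore p ↥X := CfsgLib.PCore.le_pCore hQ''n hQ''p hb
      refine mul_mem (hcore ⟨y, ?_, rfl⟩) hbO
      refine hall ((T : Subgroup ↥X).comap ι ⊓ N0)
        ((T.2.comap_of_injective ι (inclusion_injective hHX)).to_inf_left) inf_le_right
        (Subgroup.mem_inf.2 ⟨?_, ?_⟩)
      · have := mul_mem hxT (inv_mem (hQT hb))
        rwa [mul_inv_cancel_right] at this
      · have := mul_mem ((le_sup_left : N ≤ N1) hxN) (inv_mem ((le_sup_right : Q'' ≤ N1) hb))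
        rwa [mul_inv_cancel_right] at this

end Cfsg.Agent.S2854
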