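import Cfsg.Statements.S2855
import Cfsg.Agent.Lib.Large.Family
import Cfsg.Agent.Lib.PCore.Basic

set_option autoImplicit false
open Cfsg

namespace Cfsg.Agent.S2855

open Cfsg Subgroup CfsgLib.Large CfsgLib.Large.Family

private theorem map_cj_hom {A B : Type*} [Group A] [Group B] (f : A →* B) (E : Subgroup A) (h : A) :
    (E.map (MulAut.conj h).toMonoidHom).map f = (E.map f).map (MulAut.conj (f h)).toMonoidHom := by
  rw [Subgroup.map_map, Subgroup.map_map]
  congr 1
  ext x
  simp

private theorem W_map_of_surjective {A B : Type*} [Group A] [Group B] [Finite A] {p : ℕ}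
    [Fact p.Prime] (f : A →* B) (E : Subgroup A) : (W p E).map f = W p (E.map f) := by
  rw [W, W, ← CfsgLib.PIrr.map_pResidual (f.subgroupMap E) (f.subgroupMap_surjective E),
    Subgroup.map_map, Subgroup.map_map]
  rfl

/-- Let H be a finite group, p a prime, and 𝒦 a nonempty set of subgroups of H permuted transitively by conjugation, with R the subgroup generated by the members of 𝒦. Suppose O^p(H) ≤ R, each E ∈ 𝒦 has E·O_p(H) normal in R·O_p(H), and each E ∈ 𝒦 is p-minimal (generated by the conjugates of a Sylow p-subgroup T_E of E, with T_E in exactly one maximal subgroup of E). Then H is p-minimal in the same sense. If instead each E ∈ 𝒦 is strongly p-irreducible, then H is p-irreducible and, for E, K ∈ 𝒦, either O^p(E·O_p(H)) = O^p(K·O_p(H)) or [E, K] ≤ O_p(H). -/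
theorem result {H : Type*} [Group H] [Finite H] {p : ℕ} [Fact p.Prime] (𝒦 : Set (Subgroup H)) (hne : 𝒦.Nonempty) (hinv : ∀ h : H, ∀ E ∈ 𝒦, E.map (MulAut.conj h).toMonoidHom ∈ 𝒦) (htr : ∀ E ∈ 𝒦, ∀ K ∈ 𝒦, ∃ h : H, K = E.map (MulAut.conj h).toMonoidHom) (hres : Cfsg.pResidual p H ≤ sSup 𝒦) (hnorm : ∀ E ∈ 𝒦, sSup 𝒦 ⊔ Cfsg.pCore p H ≤ Subgroup.normalizer ((E ⊔ Cfsg.pCore p H : Subgroup H) : Set H)) : ((∀ E ∈ 𝒦, ∀ T : Sylow p ↥E, Cfsg.IsMinimalOver (T : Subgroup ↥E)) → ∀ T : Sylow p H, Cfsg.IsMinimalOver (T : Subgroup H)) ∧ ((∀ E ∈ 𝒦, Cfsg.IsStronglyPIrreducible p ↥E) → Cfsg.IsPIrreducible p H ∧ ∀ E ∈ 𝒦, ∀ K ∈ 𝒦, (Cfsg.pResidual p ↥(E ⊔ Cfsg.pCore p H)).map (E ⊔ Cfsg.pCore p H).subtype = (Cfsg.pResidual p ↥(K ⊔ Cfsg.pCore p H)).map (K ⊔ Cfsg.pCore p H).subtype ∨ ⁅E, K⁆ ≤ Cfsg.pCore p H) := by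
  classical
  haveI := Cfsg.pCore_normal p H
  set D := Cfsg.pCore p H with hD
  set f := QuotientGroup.mk' D with hf
  have hfs : Function.Surjective f := QuotientGroup.mk'_surjective D
  have hker : f.ker = D := QuotientGroup.ker_mk' D
  have hDp : IsPGroup p D := CfsgLib.PCore.pCore_isPGroup
  set 𝒳 := (fun E : Subgroup H => E.map f) '' 𝒦 with h𝒳
  have hsup : (sSup 𝒦).map f ≤ sSup 𝒳 := map_le_iff_le_comap.2 (sSup_le fun E hE =>
    map_le_iff_le_comap.1 (le_sSup ⟨E, hE, rfl⟩))
  have hsup' : sSup 𝒳 ≤ (sSup 𝒦).map f := sSup_le (by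
    rintro _ ⟨E, hE, rfl⟩; exact map_mono (le_sSup hE))
  have hFam : Fam p 𝒳 :=
    { core := CfsgLib.PCore.pCore_quotient_pCore
      ne := hne.image _
      inv := by
        rintro x _ ⟨E, hE, rfl⟩
        obtain ⟨h, rfl⟩ := hfs x
        exact ⟨_, hinv h E hE, map_cj_hom f E h⟩
      trans := by
        rintro _ ⟨E, hE, rfl⟩ _ ⟨K, hK, rfl⟩
        obtain ⟨h, rfl⟩ := htr E hE K hK
        exact ⟨f h, map_cj_hom f E h⟩
      res := by
        rw [← CfsgLib.PIrr.map_pResidual f hfs]
        exact (map_mono hres).trans hsup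
      norm := by
        rintro _ ⟨E, hE, rfl⟩
        refine hsup'.trans ((map_mono (le_sup_left.trans (hnorm E hE))).trans ((le_normalizer_map f).trans ?_))
        rw [Subgroup.map_sup, (Subgroup.map_eq_bot_iff (f := f) D).2 hker.ge, sup_bot_eq] }
  have hDle : ∀ T : Sylow p H, D ≤ (T : Subgroup H) := fun T =>
    le_sup_right.trans_eq (T.3 (T.2.to_sup_of_normal_right hDp) le_sup_left)
  constructor
  · intro hmin T
    set T' : Sylow p (H ⧸ D) := T.mapSurjective hfs with hT'
    have hT'c : (T' : Subgroup (H ⧸ D)) = (T : Subgroup H).map f := rfl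
    have hmain := hFam.isMinimalOver T' (fun Ē hĒ => ?good) (fun Ē hĒ => ?gen)
    case good =>
      obtain ⟨E, hE, rfl⟩ := hĒ
      obtain ⟨P', hP'⟩ := hFam.exists_sylow T' (E := E.map f) ⟨E, hE, rfl⟩
      set g := f.subgroupMap E with hg
      have hgs : Function.Surjective g := f.subgroupMap_surjective E
      obtain ⟨P, hP⟩ := Sylow.mapSurjective_surjective hgs p P'
      have hPc : (P : Subgroup ↥E).map g = (P' : Subgroup ↥(E.map f)) := by rw [← hP]; rfl
      have hkerp : IsPGroup p g.ker := hDp.comap_of_injective E.subtype E.subtype_injective |>.to_le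
        (fun x hx => mem_subgroupOf.2 (hker.le (show f (x : H) = 1 from congrArg Subtype.val hx)))
      have hkerP : g.ker ≤ (P : Subgroup ↥E) :=
        le_sup_right.trans_eq (P.3 (P.2.to_sup_of_normal_right hkerp) le_sup_left)
      obtain ⟨hclo, Mx, ⟨hMx, hPMx⟩, huniq⟩ := hmin E hE P
      refine ⟨(Mx.map g).map (E.map f).subtype, ⟨?_, ?_, ?_⟩, ?_⟩
      · show (T' : Subgroup (H ⧸ D)) ⊓ E.map f ≤ _
        rw [← hP', ← hPc]
        exact map_mono (map_mono hPMx)
      · refine lt_of_le_of_ne (map_subtype_le _) fun e => hMx.1 ?_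
        have h1 : Mx.map g = ⊤ := map_injective (E.map f).subtype_injective (by
          rw [← MonoidHom.range_eq_map, range_subtype]; exact e)
        have h2 := congrArg (Subgroup.comap g) h1
        rwa [Subgroup.comap_map_eq, Subgroup.comap_top, sup_eq_left.2 (hkerP.trans hPMx)] at h2
      · intro Y hY1 hY2
        set Y0 := (Y.subgroupOf (E.map f)).comap g with hY0
        have hne : Y0 ≠ ⊤ := fun e => hY2.ne (le_antisymm hY2.le (subgroupOf_eq_top.1
          (Subgroup.comap_injective hgs (e.trans (Subgroup.comap_top g).symm))))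
        obtain ⟨Z, hZ, hYZ⟩ := (eq_top_or_exists_le_coatom Y0).resolve_left hne
        have hPY : (P : Subgroup ↥E) ≤ Y0 := fun x hx => mem_subgroupOf.2 (hY1 (hP'.le
          ⟨g x, hPc.le ⟨x, hx, rfl⟩, rfl⟩))
        have hZM := huniq Z ⟨hZ, hPY.trans hYZ⟩
        intro y hy
        obtain ⟨x, hx⟩ := hgs ⟨y, hY2.le hy⟩
        exact ⟨g x, ⟨x, hZM ▸ hYZ (mem_comap.2 (hx ▸ mem_subgroupOf.2 hy)), rfl⟩, by rw [hx]; rfl⟩
      · intro hn
        haveI hMn : Mx.Normal := by
          have h1 : ((Mx.map g).map (E.map f).subtype).subgroupOf (E.map f) = Mx.map g :=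
            comap_map_eq_self_of_injective (E.map f).subtype_injective _
          have h2 : (((Mx.map g).map (E.map f).subtype).subgroupOf (E.map f)).Normal :=
            ⟨fun a ha b => mem_subgroupOf.2 (conj_mem_of_normalizer (hn b.2) ha)⟩
          rw [h1] at h2
          have h3 := h2.comap g
          rwa [Subgroup.comap_map_eq, sup_eq_left.2 (hkerP.trans hPMx)] at h3
        exact hMx.1 (top_le_iff.1 (hclo.ge.trans (normalClosure_le_normal hPMx)))
    case gen =>
      obtain ⟨E, hE, rfl⟩ := hĒ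
      obtain ⟨P⟩ := (inferInstance : Nonempty (Sylow p ↥E))
      set N := (normalClosure ((T' : Subgroup (H ⧸ D)) : Set (H ⧸ D))).comap (f.comp E.subtype) with hN
      haveI : N.Normal := normalClosure_normal.comap _
      have h1 : (P : Subgroup ↥E) ≤ N := by
        obtain ⟨a, ha⟩ := exists_conj_sylow T' ((P.2.map E.subtype).map f)
        intro x hx
        obtain ⟨t, ht, e⟩ := ha (⟨_, ⟨x, hx, rfl⟩, rfl⟩ :
          f (x : H) ∈ ((P : Subgroup ↥E).map E.subtype).map f)
        refine mem_comap.2 ?_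
        show f (x : H) ∈ _
        rw [← e]
        exact normalClosure_normal.conj_mem t (subset_normalClosure ht) a
      rintro _ ⟨x, hx, rfl⟩
      have h2 : (⟨x, hx⟩ : ↥E) ∈ N :=
        (((hmin E hE P).1.ge.trans (normalClosure_le_normal h1)) (mem_top _))
      exact h2
    obtain ⟨hcl, K, ⟨hK, hTK⟩, huniq⟩ := hmain
    have hkerT : f.ker ≤ (T : Subgroup H) := hker.le.trans (hDle T)
    refine ⟨?_, K.comap f, ⟨⟨?_, ?_⟩, ?_⟩, ?_⟩
    · have h1 : (normalClosure ((T : Subgroup H) : Set H)).map f = ⊤ := by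
        rw [Subgroup.map_normalClosure _ f hfs, ← Subgroup.coe_map, ← hT'c]
        exact hcl
      have h2 := congrArg (Subgroup.comap f) h1
      rwa [Subgroup.comap_map_eq, Subgroup.comap_top, sup_eq_left.2 (hkerT.trans le_normalClosure)] at h2
    · exact fun e => hK.1 (Subgroup.comap_injective hfs (e.trans (Subgroup.comap_top f).symm))
    · intro Z hZ
      have hkZ : f.ker ≤ Z := (hkerT.trans (map_le_iff_le_comap.1 (hT'c.ge.trans hTK))).trans hZ.le
      have h1 := hK.2 (Z.map f) ((Subgroup.comap_lt_comap_of_surjective hfs).1 (by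
        rwa [Subgroup.comap_map_eq, sup_eq_left.2 hkZ]))
      have h2 := congrArg (Subgroup.comap f) h1
      rwa [Subgroup.comap_map_eq, Subgroup.comap_top, sup_eq_left.2 hkZ] at h2
    · exact map_le_iff_le_comap.1 (hT'c.ge.trans hTK)
    · rintro M ⟨hM, hTM⟩
      have hkM : f.ker ≤ M := hkerT.trans hTM
      have hM' : IsCoatom (M.map f) := by
        refine ⟨fun e => hM.1 ?_, fun Z hZ => ?_⟩
        · have h2 := congrArg (Subgroup.comap f) e
          rwa [Subgroup.comap_map_eq, Subgroup.comap_top, sup_eq_left.2 hkM] at h2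
        · have h1 := (Subgroup.comap_lt_comap_of_surjective hfs).2 hZ
          rw [Subgroup.comap_map_eq, sup_eq_left.2 hkM] at h1
          exact Subgroup.comap_injective hfs ((hM.2 _ h1).trans (Subgroup.comap_top f).symm)
      rw [← huniq _ ⟨hM', hT'c.le.trans (map_mono hTM)⟩, Subgroup.comap_map_eq, sup_eq_left.2 hkM]
  · intro hstr
    have hs : ∀ Ē ∈ 𝒳, Str p Ē := by
      rintro _ ⟨E, hE, rfl⟩
      set g := f.subgroupMap E with hg
      have hgs : Function.Surjective g := f.subgroupMap_surjective E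
      haveI := Cfsg.pCore_normal p ↥E
      have hkerp : IsPGroup p g.ker := hDp.comap_of_injective E.subtype E.subtype_injective |>.to_le
        (fun x hx => mem_subgroupOf.2 (hker.le (show f (x : H) = 1 from congrArg Subtype.val hx)))
      have himg : ∀ x ∈ pCore p ↥E, g x = 1 := by
        have h1 : ((pCore p ↥E).map g).map (E.map f).subtype = ⊥ := by
          refine hFam.eq_bot (E := E.map f) ⟨E, hE, rfl⟩ (map_subtype_le _) (fun x hx => ?_)
            ((CfsgLib.PCore.pCore_isPGroup.map g).map _)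
          refine mem_normalizer_of_conj_mem ?_
          rintro _ ⟨z, hz, rfl⟩
          exact ⟨⟨x, hx⟩ * z * ⟨x, hx⟩⁻¹,
            ((Cfsg.pCore_normal p ↥E).map g hgs).conj_mem z hz ⟨x, hx⟩, rfl⟩
        rw [Subgroup.map_eq_bot_iff_of_injective _ (E.map f).subtype_injective] at h1
        exact fun x hx => (Subgroup.eq_bot_iff_forall _).1 h1 _ ⟨x, hx, rfl⟩
      refine ⟨fun hcl => (hstr E hE).1 ?_, fun Z hZE hZn => ?_⟩
      · obtain ⟨P⟩ := (inferInstance : Nonempty (Sylow p ↥E))
        rw [CfsgLib.PIrr.isPClosed_iff (P.mapSurjective hgs)] at hcl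
        rw [CfsgLib.PIrr.isPClosed_iff P]
        have h1 : (pCore p ↥(E.map f)).map (E.map f).subtype = ⊥ :=
          hFam.eq_bot (E := E.map f) ⟨E, hE, rfl⟩ (map_subtype_le _) (le_normalizer_pCoreOf _)
            (isPGroup_pCoreOf _)
        rw [Subgroup.map_eq_bot_iff_of_injective _ (E.map f).subtype_injective] at h1
        have h2 : (P : Subgroup ↥E) ≤ g.ker := fun x hx =>
          (Subgroup.eq_bot_iff_forall _).1 h1 _ (hcl ⟨x, hx, rfl⟩)
        exact h2.trans (CfsgLib.PCore.le_pCore (MonoidHom.normal_ker g) hkerp)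
      · set Z' := (Z.subgroupOf (E.map f)).comap g with hZ'
        haveI : Z'.Normal := Subgroup.Normal.comap
          ⟨fun a ha b => mem_subgroupOf.2 (conj_mem_of_normalizer (hZn b.2) ha)⟩ g
        by_cases hc : ⁅Z', (⊤ : Subgroup ↥E)⁆ ≤ pCore p ↥E
        · left
          refine (Subgroup.eq_bot_iff_forall _).2 fun x hx => ?_
          have hle : ⁅Z, E.map f⁆ ≤ (⊥ : Subgroup (H ⧸ D)) := commutator_le.2 fun z hz e he => by
            obtain ⟨z', hz'⟩ := hgs ⟨z, hZE hz⟩
            obtain ⟨e', he'⟩ := hgs ⟨e, he⟩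
            have h3 := himg _ (hc (commutator_mem_commutator
              (show z' ∈ Z' from mem_comap.2 (hz' ▸ mem_subgroupOf.2 hz)) (mem_top e')))
            rw [map_commutatorElement, hz', he'] at h3
            exact Subgroup.mem_bot.2 (congrArg Subtype.val h3)
          exact Subgroup.mem_bot.1 (hle hx)
        · right
          have h1 := (hstr E hE).2 Z' inferInstance hc
          rw [W, ← CfsgLib.PIrr.map_pResidual g hgs]
          rintro _ ⟨_, ⟨x, hx, rfl⟩, rfl⟩
          exact mem_subgroupOf.1 (mem_comap.1 (h1 hx))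
    obtain ⟨T⟩ := (inferInstance : Nonempty (Sylow p H))
    have hirr := hFam.isPIrreducible hs
    rw [CfsgLib.PIrr.isPIrreducible_iff (T.mapSurjective hfs), hFam.core] at hirr
    refine ⟨?_, fun E hE K hK => ?_⟩
    · rw [CfsgLib.PIrr.isPIrreducible_iff T]
      refine ⟨fun hTD => hirr.1 ?_, fun N hN hTN => ?_⟩
      · exact ((Subgroup.map_eq_bot_iff (f := f) _).2 (hTD.trans hker.ge)).le
      · haveI := hN
        refine CfsgLib.PIrr.pResidual_le_of_pResidual_le_sup hDp ?_
        have h1 := hirr.2 (N.map f) (hN.map f hfs) (fun hle => hTN fun x hx => hker.le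
          (MonoidHom.mem_ker.2 (Subgroup.mem_bot.1 (hle
            ⟨⟨x, (Subgroup.mem_inf.1 hx).1, rfl⟩, ⟨x, (Subgroup.mem_inf.1 hx).2, rfl⟩⟩))))
        rw [← CfsgLib.PIrr.map_pResidual f hfs, map_le_iff_le_comap, Subgroup.comap_map_eq, hker] at h1
        exact h1
    · rcases hFam.dichotomy hs (E := E.map f) (K := K.map f) ⟨E, hE, rfl⟩ ⟨K, hK, rfl⟩ with heq | hbot
      · left
        have he : ∀ A : Subgroup H, (A ⊔ D).map f = A.map f := fun A => by
          rw [Subgroup.map_sup, (Subgroup.map_eq_bot_iff (f := f) D).2 hker.ge, sup_bot_eq]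
        have key : ∀ A B : Subgroup H, W p (A.map f) = W p (B.map f) → W p (A ⊔ D) ≤ W p (B ⊔ D) := by
          intro A B hAB
          refine W_le_of_forall fun x hx hc => mem_W ?_ hc
          have h1 : f x ∈ W p (B.map f) := hAB ▸ (by
            rw [← he A, ← W_map_of_surjective]; exact ⟨x, mem_W hx hc, rfl⟩)
          obtain ⟨b, hb, hbx⟩ := W_le _ h1
          have h2 : b⁻¹ * x ∈ D := hker.le (MonoidHom.mem_ker.2 (by rw [map_mul, map_inv, hbx, inv_mul_cancel]))
          simpa using mul_mem ((le_sup_left : B ≤ B ⊔ D) hb) ((le_sup_right : D ≤ B ⊔ D) h2)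
        exact le_antisymm (key E K heq) (key K E heq.symm)
      · right
        rw [← Subgroup.map_commutator, Subgroup.map_eq_bot_iff, hker] at hbot
        exact hbot

end Cfsg.Agent.S2855
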