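import Cfsg.Statements.S2856
import Cfsg.Agent.Lib.Large.VIter

set_option autoImplicit false
open Cfsg

namespace Cfsg.Agent.S2856

open Cfsg CfsgLib.LocalEven CfsgLib.Large.VIter

/-- Let (M₁, M₂) be an amalgam pair in X satisfying the rank-two standing hypothesis (characteristic p, the normalizers in M₁ and in M₂ of a Sylow p-subgroup of M₁ ∩ M₂ equal and contained in M₁ ∩ M₂, and strongly p-embedded residues), λ a vertex of the coset graph, L_λ the subgroup of its stabilizer generated by the p-elements, Q_λ = O_p of the stabilizer, O^p(L_λ) the subgroup of L_λ generated by its elements of order prime to p, and V_λ^{(k)} the subgroup generated by the Z_μ over the vertices μ at distance at most k from λ (Z_μ being generated by the Ω₁(Z(S)), S a Sylow p-subgroup of the stabilizer of μ). If n ≥ 1 and V_λ^{(n)} ≤ Q_λ, then O^p(L_λ) does not centralize V_λ^{(n)}/[V_λ^{(n)}, Q_λ], that is, [V_λ^{(n)}, O^p(L_λ)] is not contained in [V_λ^{(n)}, Q_λ]. -/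
theorem result {X : Type*} [Group X] {p : ℕ} [Fact p.Prime] (M₁ M₂ : Subgroup X) (h : Cfsg.IsSpeAmalgamPair p M₁ M₂) (lam : Cfsg.CosetVertex M₁ M₂) (n : ℕ) (hn : 1 ≤ n) (V : Subgroup X) (hV : V = Cfsg.vertexVIter p M₁ M₂ n lam) (hVQ : V ≤ Cfsg.vertexQ p lam) : ¬ ⁅V, ((Cfsg.pResidual p ↥(Cfsg.pElementClosure p (MulAction.stabilizer X lam))).map (Cfsg.pElementClosure p (MulAction.stabilizer X lam)).subtype)⁆ ≤ ⁅V, Cfsg.vertexQ p lam⁆ := by
  subst hV
  obtain ⟨m, rfl⟩ : ∃ m, n = m + 1 := ⟨n - 1, by omega⟩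
  obtain ⟨μ, hμ⟩ := exists_adj lam
  have hc := CharPPair.connected h.1
  have hfin := CharPPair.finite_stab h.1 lam
  intro hR
  set U := vertexVIter p M₁ M₂ m μ with hUdef
  set V := vertexVIter p M₁ M₂ (m + 1) lam with hVdef
  set Q := vertexQ p lam with hQdef
  have hUV : U ≤ V := vIter_le hc (by rw [SimpleGraph.dist_eq_one_iff_adj.2 hμ]; omega)
  have hQn : MulAction.stabilizer X lam ≤ Subgroup.normalizer (Q : Set X) :=
    CfsgLib.LocalEven.le_normalizer_pCoreOf p _
  have hVn := stabilizer_le_normalizer_vIter (p := p) hc (m + 1) lam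
  have hVQV : ⁅V, Q⁆ ≤ V := Subgroup.commutator_le.2 fun v hv q hq => by
    rw [commutatorElement_def, mul_assoc, mul_assoc]
    refine mul_mem hv ?_
    rw [← mul_assoc]
    exact CfsgLib.Large.conj_mem_of_normalizer (hVn (CfsgLib.LocalEven.pCoreOf_le p _ hq)) (inv_mem hv)
  haveI : Finite ↥Q := finite_of_le (CfsgLib.LocalEven.pCoreOf_le p _)
  have hQμ : Q ≤ MulAction.stabilizer X μ :=
    (CharPPair.vertexQ_le_nk h.1 lam).trans (nk_le_stab_neighbour hμ)
  have hn : MulAction.stabilizer X lam ⊓ MulAction.stabilizer X μ ≤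
      Subgroup.normalizer ((U ⊔ ⁅V, Q⁆ : Subgroup X) : Set X) := by
    intro g hg
    obtain ⟨hg1, hg2⟩ := Subgroup.mem_inf.1 hg
    rw [CfsgLib.Large.mem_normalizer_iff_cj, Subgroup.map_sup, Subgroup.map_commutator,
      CfsgLib.Large.cj_eq_of_mem_normalizer (stabilizer_le_normalizer_vIter hc m μ hg2),
      CfsgLib.Large.cj_eq_of_mem_normalizer (hVn hg1),
      CfsgLib.Large.cj_eq_of_mem_normalizer (hQn hg1)]
  refine vIter_ne h hμ hVQ (le_of_le_sup_commutator
    (CfsgLib.LocalEven.isPGroup_pCoreOf _) hVQ hUV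
    (hQμ.trans (stabilizer_le_normalizer_vIter hc m μ)) ?_)
  exact vIter_le_of_commutator h hμ m _ le_sup_left hn (hR.trans le_sup_right) (sup_le hUV hVQV)

end Cfsg.Agent.S2856
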