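import Cfsg.Statements.S2859
import Cfsg.Agent.Lib.Large.WcFactor

set_option autoImplicit false
open Cfsg

namespace Cfsg.Agent.S2859

/-- Let Q be a nontrivial p-subgroup of the finite group H that is a weakly closed subgroup, H° the weak closure of Q in H (generated by the conjugates of Q) and H_∘ = O^p(H°). Suppose H₁, H₂ are normal subgroups of H° with H° = H₁H₂ and [H₁, H₂] ≤ N_H(Q), and put Kᵢ = O^p of the weak closure of Q in HᵢQ. Then for i = 1, 2: Kᵢ = [Kᵢ, Q] = [Kᵢ, Hᵢ] ≤ Hᵢ′ and Kᵢ is normal in H°; H_∘ = K₁K₂; and [K₁, K₂] ≤ O_p(H°). -/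
theorem result {G : Type*} [Group G] [Finite G] {p : ℕ} [Fact p.Prime] (Q : Subgroup G) (hQp : IsPGroup p ↥Q) (hQ1 : Q ≠ ⊥) (hwc : Cfsg.IsWeaklyClosedSubgroup p Q) (Hc : Subgroup G) (hHc : Hc = Cfsg.weakClosure Q ⊤) (H₁ H₂ : Subgroup G) (hn₁ : H₁ ≤ Hc ∧ Hc ≤ Subgroup.normalizer ((H₁ : Subgroup G) : Set G)) (hn₂ : H₂ ≤ Hc ∧ Hc ≤ Subgroup.normalizer ((H₂ : Subgroup G) : Set G)) (hprod : H₁ ⊔ H₂ = Hc) (hcomm : ⁅H₁, H₂⁆ ≤ Subgroup.normalizer ((Q : Subgroup G) : Set G)) (K₁ K₂ : Subgroup G) (hK₁ : K₁ = ((Cfsg.pResidual p ↥(Cfsg.weakClosure Q (H₁ ⊔ Q))).map ((Cfsg.weakClosure Q (H₁ ⊔ Q))).subtype)) (hK₂ : K₂ = ((Cfsg.pResidual p ↥(Cfsg.weakClosure Q (H₂ ⊔ Q))).map ((Cfsg.weakClosure Q (H₂ ⊔ Q))).subtype)) : (⁅K₁, Q⁆ = K₁ ∧ ⁅K₁, H₁⁆ = K₁ ∧ K₁ ≤ ⁅H₁, H₁⁆ ∧ Hc ≤ Subgroup.normalizer ((K₁ : Subgroup G) : Set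 G)) ∧ (⁅K₂, Q⁆ = K₂ ∧ ⁅K₂, H₂⁆ = K₂ ∧ K₂ ≤ ⁅H₂, H₂⁆ ∧ Hc ≤ Subgroup.normalizer ((K₂ : Subgroup G) : Set G)) ∧ K₁ ⊔ K₂ = ((Cfsg.pResidual p ↥Hc).map (Hc).subtype) ∧ ⁅K₁, K₂⁆ ≤ (Cfsg.pCoreOf p Hc) := by
  obtain ⟨a1, b1, c1, d1, e1, f1, g1⟩ := CfsgLib.Large.WcFactor.factor hwc hHc hn₁.1 hn₁.2 hn₂.1
    hn₂.2 hprod hcomm
  obtain ⟨a2, b2, c2, d2, e2, f2, g2⟩ := CfsgLib.Large.WcFactor.factor hwc hHc hn₂.1 hn₂.2 hn₁.1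
    hn₁.2 (by rw [sup_comm]; exact hprod) (by rw [Subgroup.commutator_comm]; exact hcomm)
  change K₁ = CfsgLib.SubJoin.resOf p (Cfsg.weakClosure Q (H₁ ⊔ Q)) at hK₁
  change K₂ = CfsgLib.SubJoin.resOf p (Cfsg.weakClosure Q (H₂ ⊔ Q)) at hK₂
  subst hK₁ hK₂
  refine ⟨⟨a1, b1, c1, d1⟩, ⟨a2, b2, c2, d2⟩, le_antisymm (sup_le ?_ ?_) ?_,
    (Subgroup.commutator_mono le_rfl e2).trans f1⟩
  · rw [← CfsgLib.SubJoin.resOf_resOf p]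
    exact CfsgLib.SubJoin.resOf_mono (e1.trans hn₁.1)
  · rw [← CfsgLib.SubJoin.resOf_resOf p]
    exact CfsgLib.SubJoin.resOf_mono (e2.trans hn₂.1)
  · set K₁ := CfsgLib.SubJoin.resOf p (Cfsg.weakClosure Q (H₁ ⊔ Q))
    set K₂ := CfsgLib.SubJoin.resOf p (Cfsg.weakClosure Q (H₂ ⊔ Q))
    have hQc : Q ≤ Hc := hHc ▸ CfsgLib.Large.le_weakClosure le_top
    have hn : Hc ≤ Subgroup.normalizer ((K₁ ⊔ K₂ ⊔ Q : Subgroup G) : Set G) := by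
      conv_lhs => rw [← hprod]
      refine sup_le ?_ ?_
      · rw [show K₁ ⊔ K₂ ⊔ Q = K₂ ⊔ (K₁ ⊔ Q) by ac_rfl]
        exact CfsgLib.Large.le_normalizer_sup (hn₁.1.trans d2) g1
      · rw [show K₁ ⊔ K₂ ⊔ Q = K₁ ⊔ (K₂ ⊔ Q) by ac_rfl]
        exact CfsgLib.Large.le_normalizer_sup (hn₂.1.trans d1) g2
    refine CfsgLib.Large.WcFactor.resOf_le_of_le_sup hQp
      (hQc.trans (CfsgLib.Large.le_normalizer_sup d1 d2)) ?_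
    rw [hHc]
    refine CfsgLib.Large.weakClosure_le fun g _ => ?_
    have hg : Q.map (MulAut.conj g).toMonoidHom ≤ Hc := hHc ▸ CfsgLib.Large.cj_le_weakClosure le_top
    obtain ⟨k, hk, hkg⟩ := CfsgLib.Large.wc_exists_mem hwc hQc hg
    rw [hkg]
    exact (Subgroup.map_mono le_sup_right).trans_eq (CfsgLib.Large.cj_eq_of_mem_normalizer (hn hk))

end Cfsg.Agent.S2859
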