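import Cfsg.Statements.S2861
import Cfsg.Agent.Lib.Large.FrakL

set_option autoImplicit false
open Cfsg

namespace Cfsg.Agent.S2861

open Cfsg Subgroup CfsgLib.Large

/-- Standing hypotheses: G a finite group, S a Sylow p-subgroup, Q a nontrivial large p-subgroup of G contained in S, M a subgroup containing S with the basic property (M ∈ 𝔐_G(S)); Y_M the largest p-reduced normal subgroup of M and M† = M·C_G(Y_M). Let L ∈ 𝔏_G(Y_M) (L ∈ 𝔏_G(Y_M): Y_M ≤ L; O_p(L) is the normal closure in L of Y_M ∩ O_p(L) and normalizes Y_M; L is Y_M-minimal of characteristic p with N_L(Y_M) its unique maximal subgroup over Y_M; and L/O_p(L) ≅ SL₂(q) with q = |Y_M : Y_M ∩ O_p(L)|, or p = 2 and L/O_p(L) is a Suzuki group Sz(q) or dihedral of order 2r, r an odd prime) and A = O_p(L). Then Y_M·A/A is the unique nontrivial elementary abelian normal p-subgroup of N_L(Y_M)/A. -/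
theorem result {G : Type*} [Group G] [Finite G] {p : ℕ} [Fact p.Prime] (S : Sylow p G) (Q : Subgroup G) (hQp : IsPGroup p ↥Q) (hQ1 : Q ≠ ⊥) (hQS : Q ≤ (S : Subgroup G)) (hQ : Cfsg.IsLarge Q) (M : Subgroup G) (hSM : (S : Subgroup G) ≤ M) (hM : Cfsg.IsInFrakM p M) (L : Subgroup G) (hL : Cfsg.IsInFrakL p M L) (NL : Subgroup G) (hNL : NL = L ⊓ Subgroup.normalizer (((Cfsg.largestPReducedOf p M) : Subgroup G) : Set G)) [hn : (((Cfsg.pCoreOf p L)).subgroupOf NL).Normal] : let Ybar : Subgroup (↥NL ⧸ ((Cfsg.pCoreOf p L)).subgroupOf NL) := (((Cfsg.largestPReducedOf p M)).subgroupOf NL).map (QuotientGroup.mk' (((Cfsg.pCoreOf p L)).subgroupOf NL)); Ybar ≠ ⊥ ∧ Ybar.Normal ∧ Cfsg.IsElementaryAbelian p Ybar ∧ ∀ (V : Subgroup (↥NL ⧸ ((Cfsg.pCoreOf p L)).subgroupOf NL)), V.Normal → Cfsg.IsElementaryAbelian p V → V ≠ ⊥ → V = Ybar := by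
  intro Ybar
  have hd := FrakL.frakL_data hL
  set Y := largestPReducedOf p M with hY
  set Y' := Y.subgroupOf L with hY'
  set E := Y'.map (QuotientGroup.mk' (pCore p ↥L)) with hE
  have hNLL : NL ≤ L := hNL ▸ inf_le_left
  have hYL : Y ≤ L := hL.1
  have hYNL : Y ≤ NL := hNL ▸ le_inf hYL le_normalizer
  let φ : ↥NL →* ↥L ⧸ pCore p ↥L :=
    (QuotientGroup.mk' (pCore p ↥L)).comp (Subgroup.inclusion hNLL)
  have hker : φ.ker = (pCoreOf p L).subgroupOf NL := by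
    ext x
    rw [MonoidHom.mem_ker, mem_subgroupOf]
    show QuotientGroup.mk' (pCore p ↥L) (Subgroup.inclusion hNLL x) = 1 ↔ _
    rw [← FrakL.mem_pCore_iff]
    exact ⟨fun h => ⟨_, h, rfl⟩, fun ⟨z, hz, hzx⟩ => (Subtype.ext hzx : z = Subgroup.inclusion hNLL x) ▸ hz⟩
  let ψ := QuotientGroup.lift ((pCoreOf p L).subgroupOf NL) φ hker.ge
  have hψ : Function.Injective ψ := by
    rw [← MonoidHom.ker_eq_bot_iff, Subgroup.eq_bot_iff_forall]
    intro x hx
    obtain ⟨z, rfl⟩ := QuotientGroup.mk'_surjective _ x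
    exact (QuotientGroup.eq_one_iff z).2 (hker.le hx)
  have hψE : Ybar.map ψ = E := by
    ext q
    constructor
    · rintro ⟨_, ⟨y, hy, rfl⟩, rfl⟩
      exact ⟨Subgroup.inclusion hNLL y, hy, rfl⟩
    · rintro ⟨y, hy, rfl⟩
      exact ⟨QuotientGroup.mk' _ ⟨y, hYNL hy⟩, ⟨_, hy, rfl⟩, rfl⟩
  haveI hYn : (Y.subgroupOf NL).Normal :=
    normal_subgroupOf_of_le_normalizer (hNL ▸ inf_le_right)
  have hYbn : Ybar.Normal := Subgroup.Normal.map hYn _ (QuotientGroup.mk'_surjective _)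
  have hexp : ∀ x ∈ Ybar, x ^ p = 1 := by
    rintro _ ⟨y, hy, rfl⟩
    rw [← map_pow, show y ^ p = 1 from Subtype.ext (by simpa using (red_largest (p := p) M).2.2.1.2 _ hy),
      map_one]
  have hne : E ≠ ⊥ := fun e => hd.mk_ne e
  have hel : IsElementaryAbelian p Ybar := ⟨⟨⟨by
    rintro ⟨_, a, ha, rfl⟩ ⟨_, b, hb, rfl⟩
    refine Subtype.ext ?_
    show QuotientGroup.mk' _ a * QuotientGroup.mk' _ b = QuotientGroup.mk' _ b * QuotientGroup.mk' _ a
    rw [← map_mul, ← map_mul]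
    refine congrArg _ (Subtype.ext ?_)
    exact show (a : G) * b = b * a from
      congrArg Subtype.val ((red_largest (p := p) M).2.2.1.1.is_comm.comm (⟨a, ha⟩ : ↥Y) ⟨b, hb⟩)⟩⟩,
    hexp⟩
  have hNimg : normalizer (E : Set (↥L ⧸ pCore p ↥L)) ≤ ψ.range := by
    intro q hq
    obtain ⟨x, rfl⟩ := QuotientGroup.mk'_surjective _ q
    have h1 := hd.maxSub ((normalizer (E : Set (↥L ⧸ pCore p ↥L))).comap (QuotientGroup.mk' _))
      (fun y hy => (le_normalizer : E ≤ normalizer (E : Set (↥L ⧸ pCore p ↥L))) ⟨y, hy, rfl⟩)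
      (fun e => hd.mk_normalizer_ne (eq_top_iff.2 fun z _ => by
        obtain ⟨z, rfl⟩ := QuotientGroup.mk'_surjective _ z
        exact e.ge (mem_top z))) hq
    have hx : (x : G) ∈ NL := by
      rw [hNL]
      refine Subgroup.mem_inf.2 ⟨x.2, mem_normalizer_of_conj_mem fun y hy => ?_⟩
      have h2 : x * (⟨y, hYL hy⟩ : ↥L) * x⁻¹ ∈ Y' := conj_mem_of_normalizer h1 hy
      exact h2
    exact ⟨QuotientGroup.mk' _ ⟨x, hx⟩, rfl⟩
  refine ⟨fun e => hne (by rw [← hψE, e, Subgroup.map_bot]), hYbn, hel, fun V hV hVel hV1 => ?_⟩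
  refine Subgroup.map_injective hψ ?_
  rw [hψE]
  have hrange : ψ.range ≤ normalizer (E : Set (↥L ⧸ pCore p ↥L)) := by
    rintro _ ⟨n, rfl⟩
    rw [← hψE]
    exact le_normalizer_map _ ⟨n, by rw [normalizer_eq_top]; exact mem_top n, rfl⟩
  refine hd.good.irr _ ?_ (fun e => hV1 (Subgroup.map_injective hψ (e.trans (Subgroup.map_bot ψ).symm))) ?_
  · rintro _ ⟨v, hv, rfl⟩
    exact hd.good.max _ (by rw [← map_pow, hVel.2 v hv, map_one]) (hrange ⟨v, rfl⟩)
  · intro q hq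
    obtain ⟨n, rfl⟩ := hNimg hq
    exact le_normalizer_map _ ⟨n, by rw [normalizer_eq_top]; exact mem_top n, rfl⟩

end Cfsg.Agent.S2861
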