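import Cfsg.Statements.S2862
import Cfsg.Agent.Lib.Large.LLemma

set_option autoImplicit false
open Cfsg

namespace Cfsg.Agent.S2862

open Cfsg Subgroup CfsgLib.Large
open scoped commutatorElement

set_option maxHeartbeats 1000000

/-- Standing hypotheses: G a finite group, S a Sylow p-subgroup, Q a nontrivial large p-subgroup of G contained in S, M a subgroup containing S with the basic property (M ∈ 𝔐_G(S)); Y_M the largest p-reduced normal subgroup of M and M† = M·C_G(Y_M). Suppose Y_M is char-p-tall and asymmetric in G, H ∈ ℌ_G(O_p(M)), and L is minimal among the subgroups of H containing Y_M with Y_M ≰ O_p(L). Then H = ⟨L, O_p(M)⟩ = ⟨hY_Mh⁻¹, O_p(M)⟩ for every h ∈ L outside N_L(Y_M); L is Y_M-minimal and of characteristic p, with N_L(Y_M) the unique maximal subgroup of L containing Y_M; [V, O^p(L)] ≠ 1 for every noncentral chief factor V/W of H inside O_p(H) (that is, O^p(L) does not act trivially on V/W); and the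 normal closure of O_p(L) ∩ Y_M in L lies in O_p(H). -/
theorem result {G : Type*} [Group G] [Finite G] {p : ℕ} [Fact p.Prime] (S : Sylow p G) (Q : Subgroup G) (hQp : IsPGroup p ↥Q) (hQ1 : Q ≠ ⊥) (hQS : Q ≤ (S : Subgroup G)) (hQ : Cfsg.IsLarge Q) (M : Subgroup G) (hSM : (S : Subgroup G) ≤ M) (hM : Cfsg.IsInFrakM p M) (htall : Cfsg.IsCharPTall p (Cfsg.largestPReducedOf p M)) (hasym : ¬ Cfsg.IsSymmetricIn (Cfsg.largestPReducedOf p M)) (H : Subgroup G) (hH : Cfsg.IsInFrakH p M H) (L : Subgroup G) (hLH : L ≤ H) (hYL : (Cfsg.largestPReducedOf p M) ≤ L) (hYO : ¬ (Cfsg.largestPReducedOf p M) ≤ (Cfsg.pCoreOf p L)) (hmin : ∀ L' : Subgroup G, L' ≤ L → (Cfsg.largestPReducedOf p M) ≤ L' → ¬ (Cfsg.largestPReducedOf p M) ≤ (Cfsg.pCoreOf p L') → L' = L) : (L ⊔ (Cfsg.pCoreOf p M) = H ∧ ∀ h ∈ L, h ∉ Subgroup.normalizer (((Cfsg.largestPReducedOf p M) : Subgroup G) : Set G) → (((Cfsg.largestPReducedOf p M) : Subgroup G).map (MulAut.conj (h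 : G)).toMonoidHom) ⊔ (Cfsg.pCoreOf p M) = H) ∧ (Cfsg.IsMinimalOver (((Cfsg.largestPReducedOf p M)).subgroupOf L) ∧ Subgroup.centralizer (Cfsg.pCore p ↥L : Set ↥L) ≤ Cfsg.pCore p ↥L ∧ L ⊓ Subgroup.normalizer (((Cfsg.largestPReducedOf p M) : Subgroup G) : Set G) < L ∧ ∀ X : Subgroup G, (Cfsg.largestPReducedOf p M) ≤ X → X < L → X ≤ L ⊓ Subgroup.normalizer (((Cfsg.largestPReducedOf p M) : Subgroup G) : Set G)) ∧ (∀ V W' : Subgroup G, V ≤ (Cfsg.pCoreOf p H) → H ≤ Subgroup.normalizer ((V : Subgroup G) : Set G) → H ≤ Subgroup.normalizer ((W' : Subgroup G) : Set G) → W' < V → (∀ Z' : Subgroup G, H ≤ Subgroup.normalizer ((Z' : Subgroup G) : Set G) → W' ≤ Z' → Z' ≤ V → Z' = W' ∨ Z' = V) → ¬ ⁅V, H⁆ ≤ W' → ¬ ⁅V, ((Cfsg.pResidual p ↥L).map (L).subtype)⁆ ≤ W') ∧ (Subgroup.normalClosure (((((Cfsg.pCoreOf p L) ⊓ (Cfsg.largestPReducedOf p M)).subgroupOf L : Subgroup ↥L)) : Set ↥L)).map L.subtype ≤ (Cfsg.pCoreOf p H) := by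
  have hG := large_parabolic_characteristic hQ hQp
  set Y := Cfsg.largestPReducedOf p M with hYdef
  set R := Cfsg.pCoreOf p M with hRdef
  set O := Cfsg.pCoreOf p H with hOdef
  have hRH : R ≤ H := hH.2.1
  have hYR : Y ≤ R := largest_le_pCoreOf M
  have hYH : Y ≤ H := hYR.trans hRH
  have hRY : R ≤ centralizer (Y : Set G) := pCoreOf_le_centralizer_largest M
  have hYp : IsPGroup p Y := isPGroup_largest M
  have hRp : IsPGroup p R := isPGroup_pCoreOf M
  have hOp : IsPGroup p O := isPGroup_pCoreOf H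
  have hYab : Y ≤ centralizer (Y : Set G) := hYR.trans hRY
  have hON : O ≤ normalizer (R : Set G) := pCoreOf_le_normalizer_of_asym hG hSM hM hasym hRH
  have hOY : O ≤ normalizer (Y : Set G) := hON.trans (frakM_normalizer_pCoreOf_le hSM hM)
  have hHO : H ≤ normalizer (O : Set G) := le_normalizer_pCoreOf H
  obtain ⟨h, hh, y0, hy0, hgen⟩ := LLemma.exists_generator hYL hYO hYp hmin
  have hLnp : ¬ IsPGroup p L := LLemma.not_isPGroup hYL hYO
  have hcl : ∀ K : Subgroup G, Y ≤ K → (∀ l ∈ L, ∀ k ∈ K, l * k * l⁻¹ ∈ K) → L ≤ K :=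
    fun K hK hK' => LLemma.le_of_normalized hYL hYO hmin hK hK'
  have hcjH : ∀ l ∈ H, Y.map (MulAut.conj l).toMonoidHom ≤ H := fun l hl =>
    cj_le_iff.2 fun y hy => mul_mem (mul_mem hl (hYH hy)) (inv_mem hl)
  have hcjL : ∀ l ∈ L, Y.map (MulAut.conj l).toMonoidHom ≤ L := fun l hl =>
    cj_le_iff.2 fun y hy => mul_mem (mul_mem hl (hYL hy)) (inv_mem hl)
  -- two conjugates of `Y` not generating a `p`-group generate `H` together with `R`
  have hHgen : ∀ l ∈ L, ¬ IsPGroup p (Y ⊔ Y.map (MulAut.conj l).toMonoidHom : Subgroup G) →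
      Y.map (MulAut.conj l).toMonoidHom ⊔ R = H := by
    intro l hl hnp
    have hKH : Y.map (MulAut.conj l).toMonoidHom ⊔ R ≤ H := sup_le (hcjH l (hLH hl)) hRH
    by_contra hne
    have hYK := hH.2.2.2 _ le_sup_right (lt_of_le_of_ne hKH hne)
    refine hnp ((isPGroup_sup (hYp.map (MulAut.conj l).toMonoidHom) (isPGroup_pCoreOf _)
      (le_sup_left.trans (le_normalizer_pCoreOf _))).to_le (sup_le (hYK.trans le_sup_right) le_sup_left))
  have hYY : ¬ IsPGroup p (Y ⊔ Y.map (MulAut.conj h).toMonoidHom : Subgroup G) := fun hp =>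
    hLnp (hp.to_le (hgen.ge.trans (sup_le le_sup_left ((zpowers_le.2 hy0).trans le_sup_right))))
  have hHh := hHgen h hh hYY
  have hZ : ∀ z ∈ Y, z ∈ Y.map (MulAut.conj h).toMonoidHom → ∀ x ∈ H, z * x = x * z := by
    intro z hz hz'
    refine centralizer_singleton_le_iff.1 (hHh.ge.trans (sup_le ?_ ?_))
    · refine centralizer_singleton_le_iff.2 ?_
      obtain ⟨a, ha, rfl⟩ := hz'
      rintro _ ⟨b, hb, rfl⟩
      rw [← map_mul, ← map_mul, hYab hb a ha]
    · exact centralizer_singleton_le_iff.2 fun r hr => hRY hr z hz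
  have D0 : LLemma.Data p H O Y L h y0 :=
    ⟨pCoreOf_le H, hHO, hOp, hH.1, rfl, hYab, hOY, hYL, hLH, hh, hy0, hgen, hcl, hZ⟩
  set V0 := (Y ⊓ O) ⊔ (Y.map (MulAut.conj h).toMonoidHom ⊓ O) with hV0
  have hV0O : V0 ≤ O := sup_le inf_le_right inf_le_right
  set D := Y ⊓ O with hD
  set E := O ⊓ centralizer (Y : Set G) with hE
  have hDE : D ≤ E := le_inf inf_le_right (inf_le_left.trans hYab)
  have hON_D : O ≤ normalizer (D : Set G) := (le_inf hOY le_normalizer).trans normalizer_le_normalizer_inf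
  have hON_E : O ≤ normalizer (E : Set G) := (le_inf le_normalizer
    (hOY.trans (normalizer_le_normalizer_centralizer Y))).trans normalizer_le_normalizer_inf
  have hRN_E : R ≤ normalizer (E : Set G) := (le_inf (hRH.trans hHO)
    ((hRY.trans (centralizer_le_normalizer Y)).trans (normalizer_le_normalizer_centralizer Y))).trans
    normalizer_le_normalizer_inf
  have hRD : R ≤ centralizer (D : Set G) := hRY.trans (centralizer_le inf_le_left)
  have hRN_D : R ≤ normalizer (D : Set G) := hRD.trans (centralizer_le_normalizer D)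
  have hRQ : ∀ r ∈ R, ∀ q ∈ O, q⁻¹ * (r * q * r⁻¹) ∈ E := by
    intro r hr q hq
    refine Subgroup.mem_inf.2 ⟨mul_mem (inv_mem hq) (conj_mem_of_normalizer (hHO (hRH hr)) hq), hRY ?_⟩
    rw [show q⁻¹ * (r * q * r⁻¹) = (q⁻¹ * r * q⁻¹⁻¹) * r⁻¹ by group]
    exact mul_mem (conj_mem_of_normalizer (hON (inv_mem hq)) hr) (inv_mem hr)
  -- an element of `L` moving `Y` to a conjugate commuting with it normalizes `R`
  have hkey : ∀ g ∈ L, Y.map (MulAut.conj g).toMonoidHom ≤ centralizer (Y : Set G) →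
      g ∈ normalizer (R : Set G) := by
    intro g hg hcomm
    have hgD : g ∈ normalizer (D : Set G) := mem_normalizer_of_conj_mem fun d hd =>
      D0.mem_D_of_commute (conj_mem_of_normalizer (D0.le_normalizer_V0 hg)
        ((le_sup_left : Y ⊓ O ≤ V0) hd))
        fun y hy => (hcomm ⟨d, hd.1, rfl⟩ y hy).symm
    have hgC : ∀ e ∈ E, ∃ d ∈ D, ∃ c ∈ E, g * c = c * g ∧ e = d * c := by
      intro e he
      obtain ⟨d, hd, hc⟩ := D0.decomp he.1 fun y hy => (he.2 y hy).symm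
      exact ⟨d, hd, d⁻¹ * e, mul_mem (inv_mem (hDE hd)) he, (hc g hg).symm, by group⟩
    have hgE : g ∈ normalizer (E : Set G) := mem_normalizer_of_conj_mem fun e he => by
      obtain ⟨d, hd, c, hc, hgc, rfl⟩ := hgC e he
      rw [show g * (d * c) * g⁻¹ = (g * d * g⁻¹) * (g * c * g⁻¹) by group, hgc, mul_inv_cancel_right]
      exact mul_mem (hDE (conj_mem_of_normalizer hgD hd)) hc
    set A0 := H ⊓ centralizer (D : Set G) ⊓ actKer O E ⊓ actKer E D with hA0
    have hA0p : IsPGroup p A0 := isPGroup_of_coprime_eq_one fun x hx hc => by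
      obtain ⟨⟨⟨hxH, hxD⟩, hxO⟩, hxE⟩ := hx
      refine eq_one_of_charP hH.1 hxH hc ?_
      refine commute_of_stabilizes (hOp.to_le inf_le_left) hc ?_ (mem_actKer.1 hxO).2.2
      exact commute_of_stabilizes (hOp.to_le inf_le_right) hc (fun b hb => (hxD b hb).symm)
        (mem_actKer.1 hxE).2.2
    have hRA0 : R ≤ normalizer (A0 : Set G) := fun r hr => mem_normalizer_of_conj_mem fun x hx =>
      mem_inf.2 ⟨mem_inf.2 ⟨mem_inf.2 ⟨mul_mem (mul_mem (hRH hr) hx.1.1.1) (inv_mem (hRH hr)),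
        conj_mem_centralizer_of_normalizer (hRN_D hr) hx.1.1.2⟩,
        conj_mem_actKer hx.1.2 (hHO (hRH hr)) (hRN_E hr)⟩,
        conj_mem_actKer hx.2 (hRN_E hr) (hRN_D hr)⟩
    refine asym_eq_of_le hG hSM hM hasym (isPGroup_sup hRp hA0p hRA0) le_sup_left (cj_le_iff.2 ?_)
    intro r hr
    set r' := g * r * g⁻¹ with hr'
    have hgH : g ∈ H := hLH hg
    have hr'H : r' ∈ H := mul_mem (mul_mem hgH (hRH hr)) (inv_mem hgH)
    have hrO : r ∈ actKer O E := ⟨hHO (hRH hr), hRN_E hr, hRQ r hr⟩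
    have hr'O : r' ∈ actKer O E := conj_mem_actKer hrO (hHO hgH) hgE
    have hr'D : r' ∈ centralizer (D : Set G) := conj_mem_centralizer_of_normalizer hgD (hRD hr)
    suffices hx : r⁻¹ * r' ∈ A0 by
      rw [show r' = r * (r⁻¹ * r') by group]
      exact mul_mem_sup hr hx
    have hx1 : r⁻¹ * r' ∈ H ⊓ centralizer (D : Set G) :=
      mem_inf.2 ⟨mul_mem (inv_mem (hRH hr)) hr'H, mul_mem (inv_mem (hRD hr)) hr'D⟩
    refine mem_inf.2 ⟨mem_inf.2 ⟨hx1, mul_mem (inv_mem hrO) hr'O⟩,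
      mem_actKer.2 ⟨mul_mem (inv_mem (hRN_E hr))
        (mul_mem (mul_mem hgE (hRN_E hr)) (inv_mem hgE)),
      (centralizer_le_normalizer D) hx1.2, ?_⟩⟩
    intro e he
    obtain ⟨d, hd, c, hc, hgc, rfl⟩ := hgC e he
    obtain ⟨d1, hd1, c', -, hgc', hrc⟩ := hgC _ (conj_mem_of_normalizer (hRN_E hr) hc)
    have hd2 : g * d1 * g⁻¹ * d1⁻¹ ∈ D := mul_mem (conj_mem_of_normalizer hgD hd1) (inv_mem hd1)
    have h1 : r' * c * r'⁻¹ = g * d1 * g⁻¹ * d1⁻¹ * (r * c * r⁻¹) := by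
      have hgc2 : g⁻¹ * c * g = c := by rw [mul_assoc, ← hgc, inv_mul_cancel_left]
      calc r' * c * r'⁻¹ = g * (r * (g⁻¹ * c * g) * r⁻¹) * g⁻¹ := by rw [hr']; group
        _ = g * (d1 * c') * g⁻¹ := by rw [hgc2, hrc]
        _ = (g * d1 * g⁻¹) * ((g * c') * g⁻¹) := by group
        _ = (g * d1 * g⁻¹) * c' := by rw [hgc', mul_inv_cancel_right]
        _ = g * d1 * g⁻¹ * d1⁻¹ * (d1 * c') := by group
        _ = g * d1 * g⁻¹ * d1⁻¹ * (r * c * r⁻¹) := by rw [hrc]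
    have hxd : (r⁻¹ * r') * d * (r⁻¹ * r')⁻¹ = d := by rw [← hx1.2 d hd, mul_inv_cancel_right]
    have hrd : r⁻¹ * (g * d1 * g⁻¹ * d1⁻¹) * r = g * d1 * g⁻¹ * d1⁻¹ := by
      rw [mul_assoc, hRD hr _ hd2, inv_mul_cancel_left]
    have hxc : (r⁻¹ * r') * c * (r⁻¹ * r')⁻¹ = g * d1 * g⁻¹ * d1⁻¹ * c := by
      calc (r⁻¹ * r') * c * (r⁻¹ * r')⁻¹ = r⁻¹ * (r' * c * r'⁻¹) * r := by group
        _ = r⁻¹ * (g * d1 * g⁻¹ * d1⁻¹ * (r * c * r⁻¹)) * r := by rw [h1]
        _ = (r⁻¹ * (g * d1 * g⁻¹ * d1⁻¹) * r) * c := by group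
        _ = _ := by rw [hrd]
    rw [show (r⁻¹ * r') * (d * c) * (r⁻¹ * r')⁻¹ = ((r⁻¹ * r') * d * (r⁻¹ * r')⁻¹) *
      ((r⁻¹ * r') * c * (r⁻¹ * r')⁻¹) by group, hxd, hxc,
      show (d * c)⁻¹ * (d * (g * d1 * g⁻¹ * d1⁻¹ * c)) = c⁻¹ * (g * d1 * g⁻¹ * d1⁻¹) * c⁻¹⁻¹ by group]
    exact conj_mem_of_normalizer (hON_D (inv_mem hc.1)) hd2
  have hnorm : ∀ g ∈ L, Y.map (MulAut.conj g).toMonoidHom ≤ normalizer (Y : Set G) →
      Y.map (MulAut.conj g⁻¹).toMonoidHom ≤ normalizer (Y : Set G) → g ∈ normalizer (Y : Set G) :=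
    fun g hg h1 h2 => frakM_normalizer_pCoreOf_le hSM hM
      (hkey g hg (asym_commute hasym h1 (le_normalizer_cj h2)))
  -- `p`-subgroups of `L` containing `Y` normalize it
  have hP : ∀ P : Subgroup G, IsPGroup p P → P ≤ L → Y ≤ P → P ≤ normalizer (Y : Set G) := by
    intro P hPp hPL hYP
    by_contra hne
    set D1 := P ⊓ normalizer (Y : Set G) with hD1
    have hlt : D1 < P := lt_of_le_of_ne inf_le_left fun e => hne (inf_eq_left.1 e)
    obtain ⟨x, hx, hxD⟩ := SetLike.exists_of_lt (lt_inf_normalizer hPp hlt)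
    have hYD : Y ≤ D1 := le_inf hYP le_normalizer
    have key : ∀ z ∈ normalizer (D1 : Set G),
        Y.map (MulAut.conj z).toMonoidHom ≤ normalizer (Y : Set G) := fun z hz =>
      ((map_mono hYD).trans_eq (cj_eq_of_mem_normalizer hz)).trans inf_le_right
    exact hxD ⟨hx.1, hnorm x (hPL hx.1) (key x hx.2) (key x⁻¹ (inv_mem hx.2))⟩
  have hprop : ∀ X : Subgroup G, Y ≤ X → X < L → X ≤ normalizer (Y : Set G) := by
    intro X hYX hXL
    have hYP : Y ≤ pCoreOf p X := by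
      by_contra h'
      exact hXL.ne (hmin X hXL.le hYX h')
    have key : ∀ z ∈ X, Y.map (MulAut.conj z).toMonoidHom ≤ normalizer (Y : Set G) := fun z hz =>
      ((map_mono hYP).trans_eq (cj_eq_of_mem_normalizer (le_normalizer_pCoreOf X hz))).trans
        (hP _ (isPGroup_pCoreOf X) ((pCoreOf_le X).trans hXL.le) hYP)
    exact fun x hx => hnorm x (hXL.le hx) (key x hx) (key x⁻¹ (inv_mem hx))
  have hLNY : ¬ L ≤ normalizer (Y : Set G) := fun hle => hYO (le_pCoreOf hYL hle hYp)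
  have hlt0 : L ⊓ normalizer (Y : Set G) < L :=
    lt_of_le_of_ne inf_le_left fun e => hLNY (inf_eq_left.1 e)
  have hnotp : ∀ g ∈ L, g ∉ normalizer (Y : Set G) →
      ¬ IsPGroup p (Y ⊔ Y.map (MulAut.conj g).toMonoidHom : Subgroup G) := by
    intro g hg hgN hp
    have key : ∀ z ∈ L, IsPGroup p (Y ⊔ Y.map (MulAut.conj z).toMonoidHom : Subgroup G) →
        Y.map (MulAut.conj z).toMonoidHom ≤ normalizer (Y : Set G) := fun z hz hzp =>
      le_sup_right.trans (hP _ hzp (sup_le hYL (hcjL z hz)) le_sup_left)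
    refine hgN (hnorm g hg (key g hg hp) (key g⁻¹ (inv_mem hg) ?_))
    have h1 := hp.map (MulAut.conj g⁻¹).toMonoidHom
    rwa [Subgroup.map_sup, cj_inv_cj, sup_comm] at h1
  -- `O_p(L)` normalizes `Y` and `Y^h`
  have hPY : pCoreOf p L ≤ normalizer (Y : Set G) :=
    le_sup_right.trans (hP _ (isPGroup_sup hYp (isPGroup_pCoreOf L)
      (hYL.trans (le_normalizer_pCoreOf L))) (sup_le hYL (pCoreOf_le L)) le_sup_left)
  have hPY' : pCoreOf p L ≤
      normalizer ((Y.map (MulAut.conj h).toMonoidHom : Subgroup G) : Set G) :=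
    le_normalizer_cj ((cj_eq_of_mem_normalizer (inv_mem (le_normalizer_pCoreOf L hh))).le.trans hPY)
  refine ⟨⟨le_antisymm (sup_le hLH hRH) (hHh.ge.trans (sup_le_sup_right (hcjL h hh) R)),
    fun g hg hgN => hHgen g hg (hnotp g hg hgN)⟩, ⟨⟨?_, ?_⟩, ?_, hlt0,
    fun X hYX hXL => le_inf hXL.le (hprop X hYX hXL)⟩, ?_, ?_⟩
  · -- `⟨Y^L⟩ = L`
    refine map_injective L.subtype_injective (le_antisymm ?_ ?_)
    · rw [← MonoidHom.range_eq_map, range_subtype]; exact map_subtype_le _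
    · rw [← MonoidHom.range_eq_map, range_subtype]
      refine hcl _ (fun y hy => ⟨⟨y, hYL hy⟩, subset_normalClosure (mem_subgroupOf.2 hy), rfl⟩) ?_
      rintro l hl _ ⟨k, hk, rfl⟩
      exact ⟨⟨l, hl⟩ * k * ⟨l, hl⟩⁻¹, normalClosure_normal.conj_mem k hk ⟨l, hl⟩, rfl⟩
  · -- the unique maximal subgroup over `Y`
    have hmax : ∀ X : Subgroup ↥L, Y.subgroupOf L ≤ X → X ≠ ⊤ →
        X ≤ (normalizer (Y : Set G)).subgroupOf L := by
      intro X hX hne x hx
      refine mem_subgroupOf.2 (hprop (X.map L.subtype)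
        (fun y hy => ⟨⟨y, hYL hy⟩, hX (mem_subgroupOf.2 hy), rfl⟩)
        (lt_of_le_of_ne (map_subtype_le _) fun e => hne (map_injective L.subtype_injective
          (by rw [← MonoidHom.range_eq_map, range_subtype]; exact e))) ⟨x, hx, rfl⟩)
    have hM0 : IsCoatom ((normalizer (Y : Set G)).subgroupOf L) := by
      refine ⟨fun e => hLNY (subgroupOf_eq_top.1 e), fun X hX => ?_⟩
      by_contra hne
      exact hX.not_ge (hmax X (le_trans (fun y hy => mem_subgroupOf.2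
        ((le_normalizer : Y ≤ _) (mem_subgroupOf.1 hy))) hX.le) hne)
    refine ⟨_, ⟨hM0, fun y hy => mem_subgroupOf.2 ((le_normalizer : Y ≤ _) (mem_subgroupOf.1 hy))⟩,
      fun X hX => ?_⟩
    by_contra hne
    exact hM0.1 (hX.1.2 _ (lt_of_le_of_ne (hmax X hX.2 hX.1.1) hne))
  · -- characteristic `p`
    have hV0L : V0 ≤ L := sup_le (inf_le_left.trans hYL) (inf_le_left.trans (hcjL h hh))
    have hV0P : V0 ≤ pCoreOf p L := le_pCoreOf hV0L D0.le_normalizer_V0 (hOp.to_le hV0O)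
    have hact : L ≤ actKer O V0 := by
      refine D0.le_sup_cj.trans (sup_le (fun y hy => mem_actKer.2 ⟨hHO (hYH hy),
        D0.le_normalizer_V0 (hYL hy), fun q hq => ?_⟩) (fun y hy => mem_actKer.2
          ⟨hHO (hcjH h (hLH hh) hy), D0.le_normalizer_V0 (hcjL h hh hy), fun q hq => ?_⟩))
      · rw [show q⁻¹ * (y * q * y⁻¹) = q⁻¹ * y * q⁻¹⁻¹ * y⁻¹ by group]
        exact (le_sup_left : Y ⊓ O ≤ V0) (D0.comm_mem_left (inv_mem hq) hy)
      · rw [show q⁻¹ * (y * q * y⁻¹) = q⁻¹ * y * q⁻¹⁻¹ * y⁻¹ by group]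
        exact (le_sup_right : _ ≤ V0) (D0.comm_mem (hLH hh) (inv_mem hq) hy)
    exact charP_of_forall fun x hx hc hcent => eq_one_of_charP hH.1 (hLH hx) hc
      (commute_of_stabilizes (hOp.to_le hV0O) hc (fun b hb => hcent b (hV0P hb))
        (mem_actKer.1 (hact hx)).2.2)
  · -- chief factors
    intro V W hVO hHV hHW hWV hchief hnc hle
    refine hnc ?_
    set Res := (Cfsg.pResidual p ↥L).map L.subtype with hRes
    haveI : (Cfsg.pResidual p ↥L).Normal := CfsgLib.PRed.pResidual_normal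
    have htop := sup_eq_top_of_normalClosure (N := Cfsg.pResidual p ↥L) (A := Y.subgroupOf L)
      (p := p) CfsgLib.PRed.isPGroup_quotient_pResidual (top_le_iff.1 fun x _ => by
        have h1 : L ≤ (normalClosure ((Y.subgroupOf L : Subgroup ↥L) : Set ↥L)).map L.subtype := by
          refine hcl _ (fun y hy => ⟨⟨y, hYL hy⟩, subset_normalClosure (mem_subgroupOf.2 hy), rfl⟩) ?_
          rintro l hl _ ⟨k, hk, rfl⟩
          exact ⟨⟨l, hl⟩ * k * ⟨l, hl⟩⁻¹, normalClosure_normal.conj_mem k hk ⟨l, hl⟩, rfl⟩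
        obtain ⟨z, hz, e⟩ := h1 x.2
        exact L.subtype_injective e ▸ hz)
    have hLRes : L ≤ Res ⊔ Y := by
      have h1 := congrArg (Subgroup.map L.subtype) htop
      rw [Subgroup.map_sup, subgroupOf_map_subtype, inf_eq_left.2 hYL, ← MonoidHom.range_eq_map,
        range_subtype] at h1
      exact h1.ge
    have hResA : Res ≤ actKer V W := fun x hx => mem_actKer.2
      ⟨hHV (hLH (map_subtype_le _ hx)), hHW (hLH (map_subtype_le _ hx)), fun a ha => by
        rw [show a⁻¹ * (x * a * x⁻¹) = ⁅a⁻¹, x⁆ by group]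
        exact hle (commutator_mem_commutator (inv_mem ha) hx)⟩
    set A := actKer V W ⊓ H with hA
    have hHAR : H ≤ A ⊔ R := by
      refine hHh.ge.trans (sup_le ?_ le_sup_right)
      exact ((hcjL h hh).trans hLRes).trans (sup_le
        ((le_inf hResA ((map_subtype_le _).trans hLH)).trans le_sup_left) (hYR.trans le_sup_right))
    have hVH : V ≤ H := hVO.trans (pCoreOf_le H)
    let U : Subgroup G :=
      { carrier := {v | v ∈ V ∧ ∀ r ∈ R, v⁻¹ * (r * v * r⁻¹) ∈ W}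
        one_mem' := ⟨one_mem _, fun r _ => by simp⟩
        mul_mem' := by
          rintro a b ⟨ha, ha'⟩ ⟨hb, hb'⟩
          refine ⟨mul_mem ha hb, fun r hr => ?_⟩
          rw [show (a * b)⁻¹ * (r * (a * b) * r⁻¹) =
            (b⁻¹ * (a⁻¹ * (r * a * r⁻¹)) * b⁻¹⁻¹) * (b⁻¹ * (r * b * r⁻¹)) by group]
          exact mul_mem (conj_mem_of_normalizer (hHW (inv_mem (hVH hb))) (ha' r hr)) (hb' r hr)
        inv_mem' := by
          rintro a ⟨ha, ha'⟩
          refine ⟨inv_mem ha, fun r hr => ?_⟩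
          rw [show a⁻¹⁻¹ * (r * a⁻¹ * r⁻¹) = a * (a⁻¹ * (r * a * r⁻¹))⁻¹ * a⁻¹ by group]
          exact conj_mem_of_normalizer (hHW (hVH ha)) (inv_mem (ha' r hr)) }
    have hUV : U ≤ V := fun v hv => hv.1
    have hWU : W ≤ U := fun w hw => ⟨hWV.le hw, fun r hr =>
      mul_mem (inv_mem hw) (conj_mem_of_normalizer (hHW (hRH hr)) hw)⟩
    have hact : H ≤ actKer U W := by
      refine hHAR.trans (sup_le (fun x hx => ?_) (fun x hx => ?_))
      · have key : ∀ v ∈ U, v⁻¹ * (x * v * x⁻¹) ∈ W := fun v hv => (mem_actKer.1 hx.1).2.2 v hv.1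
        refine mem_actKer.2 ⟨mem_normalizer_of_conj_mem fun v hv => ?_, hHW hx.2, key⟩
        rw [show x * v * x⁻¹ = v * (v⁻¹ * (x * v * x⁻¹)) by group]
        exact mul_mem hv (hWU (key v hv))
      · refine mem_actKer.2 ⟨mem_normalizer_of_conj_mem fun v hv => ?_, hHW (hRH hx),
          fun v hv => hv.2 x hx⟩
        rw [show x * v * x⁻¹ = v * (v⁻¹ * (x * v * x⁻¹)) by group]
        exact mul_mem hv (hWU (hv.2 x hx))
    have hUW : U ≠ W := by
      intro hUW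
      set N := normalizer (W : Set G) with hN
      haveI : (W.subgroupOf N).Normal :=
        ⟨fun a ha b => mem_subgroupOf.2 (conj_mem_of_normalizer b.2 (mem_subgroupOf.1 ha))⟩
      set f := QuotientGroup.mk' (W.subgroupOf N) with hf
      have hVN : V ≤ N := hVH.trans hHW
      have hRN : R ≤ N := hRH.trans hHW
      set Vb := (V.subgroupOf N).map f with hVb
      set Rb := (R.subgroupOf N).map f with hRb
      have hVb1 : Vb ≠ ⊥ := fun e => hWV.not_ge fun v hv => by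
        have h1 : f ⟨v, hVN hv⟩ ∈ Vb := ⟨⟨v, hVN hv⟩, mem_subgroupOf.2 hv, rfl⟩
        rw [e, mem_bot, hf, QuotientGroup.mk'_apply, QuotientGroup.eq_one_iff] at h1
        exact mem_subgroupOf.1 h1
      have hVbp : IsPGroup p Vb :=
        ((hOp.to_le hVO).comap_of_injective N.subtype N.subtype_injective).map f
      have hRbp : IsPGroup p Rb :=
        (hRp.comap_of_injective N.subtype N.subtype_injective).map f
      have hRV : Rb ≤ normalizer (Vb : Set (↥N ⧸ W.subgroupOf N)) := by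
        rintro _ ⟨r, hr, rfl⟩
        refine mem_normalizer_of_conj_mem ?_
        rintro _ ⟨v, hv, rfl⟩
        exact ⟨r * v * r⁻¹, mem_subgroupOf.2 (conj_mem_of_normalizer (hHV (hRH (mem_subgroupOf.1 hr)))
          (mem_subgroupOf.1 hv)), by simp⟩
      refine inf_centralizer_ne_bot hVbp hRbp hVb1 hRV (eq_bot_iff.2 ?_)
      rintro _ ⟨⟨v, hv, rfl⟩, hvC⟩
      have hvU : (v : G) ∈ U := by
        refine ⟨mem_subgroupOf.1 hv, fun r hr => ?_⟩
        have h1 := hvC (f ⟨r, hRN hr⟩) ⟨⟨r, hRN hr⟩, mem_subgroupOf.2 hr, rfl⟩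
        have h2 : f (v⁻¹ * (⟨r, hRN hr⟩ * v * ⟨r, hRN hr⟩⁻¹)) = 1 := by
          rw [map_mul, map_mul, map_mul, map_inv, map_inv, h1, mul_inv_cancel_right, inv_mul_cancel]
        exact mem_subgroupOf.1 ((QuotientGroup.eq_one_iff _).1 h2)
      rw [hUW] at hvU
      exact mem_bot.2 ((QuotientGroup.eq_one_iff v).2 (mem_subgroupOf.2 hvU))
    have hHU : H ≤ normalizer (U : Set G) := fun x hx => (mem_actKer.1 (hact hx)).1
    have hUeq : U = V := (hchief U hHU hWU hUV).resolve_left hUW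
    refine commutator_le.2 fun v hv x hx => ?_
    rw [show ⁅v, x⁆ = v⁻¹⁻¹ * (x * v⁻¹ * x⁻¹) by group]
    exact (mem_actKer.1 (hact hx)).2.2 v⁻¹ (by rw [hUeq]; exact inv_mem hv)
  · -- `O_p(L) ⊓ Y ≤ O_p(H)`
    set Y' := Y.map (MulAut.conj h).toMonoidHom with hY'
    set D' := Y' ⊓ O with hD'
    set Q1 := E ⊔ D' with hQ1def
    have hQ1O : Q1 ≤ O := sup_le inf_le_left inf_le_right
    have hkeyQ : ∀ x ∈ H, (∀ q ∈ O, q⁻¹ * (x * q * x⁻¹) ∈ Q1) → x ∈ actKer O Q1 := by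
      intro x hx hc
      refine mem_actKer.2 ⟨hHO hx, mem_normalizer_of_conj_mem fun q hq => ?_, hc⟩
      rw [show x * q * x⁻¹ = q * (q⁻¹ * (x * q * x⁻¹)) by group]
      exact mul_mem hq (hc q (hQ1O hq))
    have hHQ1 : H ≤ actKer O Q1 := by
      refine hHh.ge.trans (sup_le (fun y hy => hkeyQ y (hcjH h (hLH hh) hy) fun q hq => ?_)
        (fun r hr => hkeyQ r (hRH hr) fun q hq => (le_sup_left : E ≤ Q1) (hRQ r hr q hq)))
      rw [show q⁻¹ * (y * q * y⁻¹) = q⁻¹ * y * q⁻¹⁻¹ * y⁻¹ by group]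
      exact (le_sup_right : _ ≤ Q1) (D0.comm_mem (hLH hh) (inv_mem hq) hy)
    have hHQ1N : H ≤ normalizer (Q1 : Set G) := fun x hx => (mem_actKer.1 (hHQ1 hx)).2.1
    set Z := Y ⊓ Y' ⊓ O with hZdef
    have hHZ : H ≤ centralizer (Z : Set G) := fun x hx z hz => hZ z hz.1.1 hz.1.2 x hx
    set A1 := H ⊓ actKer Q1 Z with hA1
    have hA1p : IsPGroup p A1 := isPGroup_of_coprime_eq_one fun x hx hc => by
      refine eq_one_of_charP hH.1 hx.1 hc ?_
      refine commute_of_stabilizes (hOp.to_le hQ1O) hc ?_ (mem_actKer.1 (hHQ1 hx.1)).2.2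
      exact commute_of_stabilizes (hOp.to_le inf_le_right) hc (fun b hb => ((hHZ hx.1) b hb).symm)
        (mem_actKer.1 hx.2).2.2
    have hA1O : A1 ≤ O := le_pCoreOf inf_le_left (fun x hx => mem_normalizer_of_conj_mem fun a ha =>
      mem_inf.2 ⟨mul_mem (mul_mem hx ha.1) (inv_mem hx),
        conj_mem_actKer ha.2 (hHQ1N hx) (centralizer_le_normalizer Z (hHZ hx))⟩) hA1p
    have hY1 : pCoreOf p L ⊓ Y ≤ O := fun a ha => hA1O ⟨hYH ha.2, by
      refine mem_actKer.2 ⟨hHQ1N (hYH ha.2), centralizer_le_normalizer Z (hHZ (hYH ha.2)), ?_⟩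
      intro q hq
      have hn : D' ≤ normalizer (E : Set G) := inf_le_right.trans hON_E
      have hq' : q ∈ (↑(E ⊔ D') : Set G) := hq
      rw [coe_mul_of_right_le_normalizer_left _ _ hn] at hq'
      obtain ⟨e, he, w, hw, rfl⟩ := hq'
      have h1 : a * e * a⁻¹ = e := by rw [he.2 a ha.2, mul_inv_cancel_right]
      rw [show (e * w)⁻¹ * (a * (e * w) * a⁻¹) = w⁻¹ * e⁻¹ * (a * e * a⁻¹) * (a * w * a⁻¹) by group,
        h1, inv_mul_cancel_right]
      refine Subgroup.mem_inf.2 ⟨Subgroup.mem_inf.2 ⟨?_, ?_⟩,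
        mul_mem (inv_mem hw.2) (D0.conj_mem_O (hYH ha.2) hw.2)⟩
      · rw [show w⁻¹ * (a * w * a⁻¹) = (w⁻¹ * a * w⁻¹⁻¹) * a⁻¹ by group]
        exact mul_mem (conj_mem_of_normalizer (hOY (inv_mem hw.2)) ha.2) (inv_mem ha.2)
      · exact mul_mem (inv_mem hw.1) (conj_mem_of_normalizer (hPY' ha.1) hw.1)⟩
    haveI : (O.subgroupOf L).Normal :=
      ⟨fun a ha b => mem_subgroupOf.2 (D0.conj_mem_O (hLH b.2) (mem_subgroupOf.1 ha))⟩
    refine map_le_iff_le_comap.2 (normalClosure_le_normal (N := O.subgroupOf L) ?_)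
    exact fun a ha => mem_subgroupOf.2 (hY1 (mem_subgroupOf.1 ha))

end Cfsg.Agent.S2862
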