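import Cfsg.Statements.S2864
import Cfsg.Agent.Lib.Large.FrakM
import Cfsg.Agent.Lib.Large.Action

set_option autoImplicit false
open Cfsg

namespace Cfsg.Agent.S2864

open Cfsg Subgroup CfsgLib.Large
open scoped commutatorElement

/-- Standing hypotheses: G a finite group, S a Sylow p-subgroup, Q a nontrivial large p-subgroup of G contained in S, M a subgroup containing S with the basic property (M ∈ 𝔐_G(S)); Y_M the largest p-reduced normal subgroup of M and M† = M·C_G(Y_M). Let I be a nontrivial normal p-subgroup of M and Y ≤ O_p(M†); let L be a subgroup of G containing Y and A a normal p-subgroup of L with I ≤ A ≤ M. If [Y, A] ≤ [I, A], then Y ≤ O_p(L). -/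
theorem result {G : Type*} [Group G] [Finite G] {p : ℕ} [Fact p.Prime] (S : Sylow p G) (Q : Subgroup G) (hQp : IsPGroup p ↥Q) (hQ1 : Q ≠ ⊥) (hQS : Q ≤ (S : Subgroup G)) (hQ : Cfsg.IsLarge Q) (M : Subgroup G) (hSM : (S : Subgroup G) ≤ M) (hM : Cfsg.IsInFrakM p M) (I : Subgroup G) (hI1 : I ≠ ⊥) (hIp : IsPGroup p ↥I) (hIM : I ≤ M ∧ M ≤ Subgroup.normalizer ((I : Subgroup G) : Set G)) (Y : Subgroup G) (hY : Y ≤ (Cfsg.pCoreOf p (M ⊔ Subgroup.centralizer (((Cfsg.largestPReducedOf p M) : Subgroup G) : Set G)))) (L : Subgroup G) (hYL : Y ≤ L) (A : Subgroup G) (hAp : IsPGroup p ↥A) (hAL : A ≤ L ∧ L ≤ Subgroup.normalizer ((A : Subgroup G) : Set G)) (hIA : I ≤ A) (hAM : A ≤ M) (hc : ⁅Y, A⁆ ≤ ⁅I, A⁆) : Y ≤ (Cfsg.pCoreOf p L) := by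
  set Md := M ⊔ centralizer (Cfsg.largestPReducedOf p M : Set G) with hMd
  have hpar := large_parabolic_characteristic hQ hQp
  -- `N(I)` lies in the unique maximal member over `M`
  have hNI : normalizer (I : Set G) ≤ Md := by
    have hIO : I ≤ pCoreOf p (normalizer (I : Set G)) := le_pCoreOf le_normalizer le_rfl hIp
    have hmem : normalizer (I : Set G) ∈ charPSubgroups p G := by
      rw [charP_mem_iff]
      refine ⟨fun e => hI1 (le_bot_iff.1 (e ▸ hIO)), ?_⟩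
      exact (le_inf ((centralizer_le hIO).trans (centralizer_le_normalizer I)) le_rfl).trans
        ((CfsgLib.Large.charP_iff _).1 (hpar I hIp hI1 ⟨S, hSM.trans hIM.2⟩))
    obtain ⟨X, hX, hXmax⟩ := Set.exists_max_image
      {X | X ∈ charPSubgroups p G ∧ normalizer (I : Set G) ≤ X} (fun X => Nat.card ↥X)
      (Set.toFinite _) ⟨_, hmem, le_rfl⟩
    have hXm : X ∈ maxCharPSubgroups p G := ⟨hX.1, fun X' hX' hle =>
      (Subgroup.eq_of_le_of_card_ge hle (hXmax X' ⟨hX', hX.2.trans hle⟩)).symm⟩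
    exact hX.2.trans (hM.2.2.1 X hXm (hIM.2.trans hX.2)).le
  set C := L ⊓ centralizer (A : Set G) with hC
  have hCMd : C ≤ Md :=
    inf_le_right.trans ((centralizer_le hIA).trans ((centralizer_le_normalizer I).trans hNI))
  have hLC : L ≤ normalizer (C : Set G) := le_normalizer_inf_centralizer hAL.2
  set C0 := pCoreOf p C with hC0
  have hLC0 : L ≤ normalizer (C0 : Set G) := hLC.trans (normalizer_le_normalizer_pCoreOf C)
  set D := L ⊓ actKer A ⁅A, A⁆ ⊓ actKer C C0 with hD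
  have hLD : ∀ l ∈ L, ∀ d ∈ D, l * d * l⁻¹ ∈ D := fun l hl d hd => Subgroup.mem_inf.2
    ⟨Subgroup.mem_inf.2 ⟨mul_mem (mul_mem hl hd.1.1) (inv_mem hl),
      conj_mem_actKer hd.1.2 (hAL.2 hl) (mem_normalizer_iff_cj.2 (by
        rw [map_commutator, cj_eq_of_mem_normalizer (hAL.2 hl)]))⟩,
      conj_mem_actKer hd.2 (hLC hl) (hLC0 hl)⟩
  have hYp : IsPGroup p Y := (isPGroup_pCoreOf Md).to_le hY
  have hYMd : Y ≤ normalizer (pCoreOf p Md : Set G) :=
    hY.trans ((pCoreOf_le Md).trans (le_normalizer_pCoreOf Md))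
  have hYD : Y ≤ D := by
    intro y hy
    refine Subgroup.mem_inf.2 ⟨Subgroup.mem_inf.2 ⟨hYL hy, hAL.2 (hYL hy), ?_, fun a ha => ?_⟩,
      hLC (hYL hy), hLC0 (hYL hy), fun c hcC => ?_⟩
    · rw [mem_normalizer_iff_cj, map_commutator, cj_eq_of_mem_normalizer (hAL.2 (hYL hy))]
    · rw [show a⁻¹ * (y * a * y⁻¹) = a⁻¹ * ⁅y, a⁆ * a by group]
      have h1 : ⁅y, a⁆ ∈ ⁅A, A⁆ :=
        commutator_mono hIA le_rfl (hc (commutator_mem_commutator hy ha))
      simpa using conj_mem_of_normalizer ((show a⁻¹ ∈ normalizer ((⁅A, A⁆ : Subgroup G) : Set G) from mem_normalizer_iff_cj.2 (by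
        rw [map_commutator, cj_eq_of_mem_normalizer (le_normalizer (inv_mem ha))]))) h1
    · refine inf_le_pCoreOf (P := pCoreOf p Md) (isPGroup_pCoreOf Md)
        (hCMd.trans (le_normalizer_pCoreOf Md)) (Subgroup.mem_inf.2 ⟨?_, ?_⟩)
      · rw [show c⁻¹ * (y * c * y⁻¹) = (c⁻¹ * y * c) * y⁻¹ by group]
        refine mul_mem ?_ (inv_mem (hY hy))
        simpa using conj_mem_of_normalizer (le_normalizer_pCoreOf Md (hCMd (inv_mem hcC))) (hY hy)
      · exact mul_mem (inv_mem hcC) (conj_mem_of_normalizer (hLC (hYL hy)) hcC)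
  have hC0D : C0 ≤ D := by
    intro x hx
    have hxC : x ∈ C := pCoreOf_le C hx
    refine Subgroup.mem_inf.2 ⟨Subgroup.mem_inf.2 ⟨hxC.1, hAL.2 hxC.1, ?_, fun a ha => ?_⟩,
      hLC hxC.1, hLC0 hxC.1, fun c hc => ?_⟩
    · rw [mem_normalizer_iff_cj, map_commutator, cj_eq_of_mem_normalizer (hAL.2 hxC.1)]
    · rw [show a⁻¹ * (x * a * x⁻¹) = 1 by rw [← hxC.2 a ha]; group]
      exact one_mem _
    · rw [show c⁻¹ * (x * c * x⁻¹) = (c⁻¹ * x * c) * x⁻¹ by group]
      refine mul_mem ?_ (inv_mem hx)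
      simpa using conj_mem_of_normalizer (le_normalizer_pCoreOf C (inv_mem hc)) hx
  obtain ⟨T⟩ := (inferInstance : Nonempty (Sylow p ↥D))
  set TG := (T : Subgroup ↥D).map D.subtype with hTG
  have hC0T : C0 ≤ TG := by
    intro x hx
    have hn : (C0.subgroupOf D).Normal :=
      ⟨fun a ha b => mem_subgroupOf.2 (conj_mem_of_normalizer (hLC0 b.2.1.1) ha)⟩
    have h1 : C0.subgroupOf D ≤ T := le_sup_left.trans_eq (T.3
      (IsPGroup.to_sup_of_normal_left ((isPGroup_pCoreOf C).comap_of_injective _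
        D.subtype_injective) T.2) le_sup_right)
    exact ⟨⟨x, hC0D hx⟩, h1 hx, rfl⟩
  set U := D ⊓ normalizer (TG : Set G) with hU
  have hUD : U = D := by
    refine card_eq_factor T U inf_le_left (le_inf (map_subtype_le _) le_normalizer) fun x hx hxp => ?_
    have hxC : x ∈ C := ⟨hx.1.1, fun a ha =>
      (commute_of_actKer_commutator hAp hxp hx.1.2 a ha).symm⟩
    refine ⟨hx, mem_normalizer_of_conj_mem fun t ht => ?_⟩
    have htD : t ∈ D := map_subtype_le _ ht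
    have h1 := hC0T ((mem_actKer.1 htD.2).2.2 x hxC)
    have h2 : x * t * x⁻¹ = x * (x⁻¹ * (t * x * t⁻¹))⁻¹ * x⁻¹ * t := by group
    have h3 : x * (x⁻¹ * (t * x * t⁻¹))⁻¹ * x⁻¹ ∈ C0 :=
      conj_mem_of_normalizer (le_normalizer_pCoreOf C hxC)
        (inv_mem ((mem_actKer.1 htD.2).2.2 x hxC))
    rw [h2]
    exact mul_mem (hC0T h3) ht
  have hTn : (T : Subgroup ↥D).Normal := ⟨fun a ha b => by
    have h1 := conj_mem_of_normalizer (hUD.ge b.2).2 (show (a : G) ∈ TG from ⟨a, ha, rfl⟩)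
    obtain ⟨y, hy, hye⟩ := h1
    have h2 : y = b * a * b⁻¹ := Subtype.ext hye
    rwa [← h2]⟩
  have hTD : TG ≤ pCoreOf p D := fun x ⟨y, hy, hyx⟩ =>
    ⟨y, CfsgLib.PCore.le_pCore hTn T.2 hy, hyx⟩
  have hYT : Y ≤ TG := by
    have := hTn
    intro y hy
    exact ⟨⟨y, hYD hy⟩, (le_sup_left.trans_eq (T.3 (IsPGroup.to_sup_of_normal_right
      (hYp.comap_of_injective D.subtype D.subtype_injective) T.2) le_sup_right)) hy, rfl⟩
  refine (hYT.trans hTD).trans (le_pCoreOf ((pCoreOf_le D).trans (inf_le_left.trans inf_le_left)) ?_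
    (isPGroup_pCoreOf D))
  exact (show L ≤ normalizer (D : Set G) from fun l hl => mem_normalizer_of_conj_mem (hLD l hl)).trans
    (normalizer_le_normalizer_pCoreOf D)

end Cfsg.Agent.S2864
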