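import Cfsg.Statements.S2872

set_option autoImplicit false
open Cfsg
open scoped commutatorElement Pointwise

namespace Cfsg.Agent.S2872

/-- Let S be a Sylow 2-subgroup of the finite group G. Then G has a proper normal subgroup of 2-power index (O²(G) ≠ G), or Ω₁(Z(S)) is contained in the Frattini subgroup of S, or N_G(S) acts nontrivially on Ω₁(Z(S)) by conjugation. -/
theorem result {G : Type*} [Group G] [Finite G] (S : Sylow 2 G) : Cfsg.pResidual 2 G ≠ ⊤ ∨ Cfsg.omegaOne 2 ((S : Subgroup G) ⊓ Subgroup.centralizer ((S : Subgroup G) : Set G)) ≤ (frattini ↥(S : Subgroup G)).map (S : Subgroup G).subtype ∨ ∃ g ∈ Subgroup.normalizer ((S : Subgroup G) : Set G), ∃ z ∈ Cfsg.omegaOne 2 ((S : Subgroup G) ⊓ Subgroup.centralizer ((S : Subgroup G) : Set G)), g * z * g⁻¹ ≠ z := by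
  classical
  haveI : Fact (Nat.Prime 2) := ⟨Nat.prime_two⟩
  by_contra hne
  push Not at hne
  obtain ⟨hres, hle, hfix⟩ := hne
  obtain ⟨z, hzS, hz2, hzF⟩ : ∃ z, z ∈ (S : Subgroup G) ⊓ Subgroup.centralizer ((S : Subgroup G) : Set G) ∧
      z ^ 2 = 1 ∧ z ∉ (frattini ↥(S : Subgroup G)).map (S : Subgroup G).subtype := by
    by_contra hall
    push Not at hall
    exact hle ((Subgroup.closure_le _).mpr fun z hz => hall z hz.1 hz.2)
  have hzc : ∀ s ∈ (S : Subgroup G), s * z = z * s := fun s hs => Subgroup.mem_centralizer_iff.mp hzS.2 s hs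
  obtain ⟨M, hM, hzM⟩ : ∃ M : Subgroup ↥(S : Subgroup G), IsCoatom M ∧ (⟨z, hzS.1⟩ : ↥(S : Subgroup G)) ∉ M := by
    by_contra hall
    push Not at hall
    refine hzF ⟨⟨z, hzS.1⟩, ?_, rfl⟩
    simp only [frattini, Order.radical, Subgroup.mem_iInf, SetLike.mem_coe]
    exact fun M hM => hall M hM
  haveI : Group.IsNilpotent ↥(S : Subgroup G) := S.isPGroup'.isNilpotent
  haveI hMn : M.Normal := Subgroup.NormalizerCondition.normal_of_coatom M Group.normalizerCondition_of_isNilpotent hM
  have hcardQ : Nat.card (↥(S : Subgroup G) ⧸ M) = 2 := by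
    obtain ⟨n, hn⟩ := IsPGroup.iff_card.mp (S.isPGroup'.to_quotient M)
    have h0 : n ≠ 0 := by
      rintro rfl
      exact hM.1 (Subgroup.index_eq_one.mp (by rw [Subgroup.index_eq_card, hn, pow_zero]))
    obtain ⟨n, rfl⟩ := Nat.exists_eq_succ_of_ne_zero h0
    obtain ⟨a, ha⟩ := exists_prime_orderOf_dvd_card' (G := ↥(S : Subgroup G) ⧸ M) 2 (by rw [hn]; exact dvd_pow_self 2 n.succ_ne_zero)
    haveI hnil := (S.isPGroup'.to_quotient M).isNilpotent
    have htop : Subgroup.zpowers a = ⊤ := by
      by_contra hne'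
      have h1 : M ≤ (Subgroup.zpowers a).comap (QuotientGroup.mk' M) := fun x hx => by
        rw [Subgroup.mem_comap, QuotientGroup.mk'_apply, (QuotientGroup.eq_one_iff x).mpr hx]
        exact one_mem _
      rcases hM.le_iff.mp h1 with h2 | h2
      · exact hne' (Subgroup.comap_injective (QuotientGroup.mk'_surjective M) (h2.trans (Subgroup.comap_top _).symm))
      · obtain ⟨x, hx⟩ := QuotientGroup.mk'_surjective M a
        have h3 : x ∈ M := h2 ▸ (show x ∈ (Subgroup.zpowers a).comap (QuotientGroup.mk' M) by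
          rw [Subgroup.mem_comap, hx]; exact Subgroup.mem_zpowers a)
        have h4 : a = 1 := by rw [← hx]; exact (QuotientGroup.eq_one_iff x).mpr h3
        rw [h4, orderOf_one] at ha
        omega
    rw [← Subgroup.card_top, ← htop, Nat.card_zpowers, ha]
  haveI : IsCyclic (↥(S : Subgroup G) ⧸ M) := isCyclic_of_prime_card hcardQ
  letI : CommGroup (↥(S : Subgroup G) ⧸ M) := IsCyclic.commGroup
  set ψ : ↥(S : Subgroup G) →* (↥(S : Subgroup G) ⧸ M) := QuotientGroup.mk' M with hψ
  set m := ψ ⟨z, hzS.1⟩ with hm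
  have hm1 : m ≠ 1 := fun e => hzM ((QuotientGroup.eq_one_iff _).mp e)
  have htwo : ∀ a : ↥(S : Subgroup G) ⧸ M, a = 1 ∨ a = m := by
    intro a
    by_contra hall
    push Not at hall
    haveI := Fintype.ofFinite (↥(S : Subgroup G) ⧸ M)
    have h1 := Finset.card_le_univ ({1, m, a} : Finset (↥(S : Subgroup G) ⧸ M))
    rw [Finset.card_eq_three.mpr ⟨1, m, a, Ne.symm hm1, Ne.symm hall.1, Ne.symm hall.2, rfl⟩,
      ← Nat.card_eq_fintype_card, hcardQ] at h1
    omega
  -- the transfer is trivial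
  have htr : MonoidHom.transfer ψ z = 1 := by
    have hker : Cfsg.pResidual 2 G ≤ (MonoidHom.transfer ψ).ker := by
      rw [Cfsg.pResidual, Subgroup.closure_le]
      intro g hg
      have h1 : orderOf (MonoidHom.transfer ψ g) ∣ 1 := by
        rw [← hg.gcd_eq_one]
        refine Nat.dvd_gcd (orderOf_map_dvd _ g) ?_
        conv_rhs => rw [← hcardQ]
        exact orderOf_dvd_natCard _
      exact orderOf_eq_one_iff.mp (Nat.dvd_one.mp h1)
    exact hker (by rw [hres]; exact Subgroup.mem_top z)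
  -- the value at a coset
  let F : G ⧸ (S : Subgroup G) → ↥(S : Subgroup G) ⧸ M := fun c =>
    if h : c.out⁻¹ * z * c.out ∈ (S : Subgroup G) then ψ ⟨_, h⟩ else 1
  have hFeq : ∀ x : G, ∀ h : x⁻¹ * z * x ∈ (S : Subgroup G), F (x : G ⧸ (S : Subgroup G)) = ψ ⟨_, h⟩ := by
    intro x h
    obtain ⟨⟨s, hs⟩, hso⟩ := QuotientGroup.mk_out_eq_mul (S : Subgroup G) x
    have h' : (x : G ⧸ (S : Subgroup G)).out⁻¹ * z * (x : G ⧸ (S : Subgroup G)).out ∈ (S : Subgroup G) := by
      have := mul_mem (mul_mem (inv_mem hs) h) hs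
      rw [hso]
      simpa [mul_assoc] using this
    simp only [F, dif_pos h']
    have e : (⟨_, h'⟩ : ↥(S : Subgroup G)) = ⟨s, hs⟩⁻¹ * ⟨_, h⟩ * ⟨s, hs⟩ := Subtype.ext (by simp [hso, mul_assoc])
    rw [e, map_mul, map_mul, map_inv, mul_comm (ψ ⟨s, hs⟩)⁻¹, mul_assoc, inv_mul_cancel, mul_one]
  have hmemfix : ∀ x : G, z • (x : G ⧸ (S : Subgroup G)) = x → x⁻¹ * z * x ∈ (S : Subgroup G) := by
    intro x h
    rw [MulAction.Quotient.smul_coe, QuotientGroup.eq] at h
    have := inv_mem h
    simpa [mul_assoc] using this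
  -- fixed cosets with value `m`
  let T : Set (G ⧸ (S : Subgroup G)) := {c | z • c = c ∧ F c = m}
  have hTinv : ∀ s ∈ (S : Subgroup G), ∀ c ∈ T, s • c ∈ T := by
    intro s hs c
    induction c using QuotientGroup.induction_on with
    | H x =>
      rintro ⟨h1, h2⟩
      have h3 : z • (s • (x : G ⧸ (S : Subgroup G))) = s • (x : G ⧸ (S : Subgroup G)) := by
        rw [← mul_smul, ← hzc s hs, mul_smul, h1]
      have hx := hmemfix x h1
      have hsx : (s * x)⁻¹ * z * (s * x) = x⁻¹ * z * x := by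
        calc (s * x)⁻¹ * z * (s * x) = x⁻¹ * (s⁻¹ * (z * s)) * x := by group
          _ = x⁻¹ * z * x := by rw [← hzc s hs]; group
      refine ⟨h3, ?_⟩
      rw [MulAction.Quotient.smul_coe, smul_eq_mul, hFeq _ (hsx ▸ hx), ← h2, hFeq x hx]
      exact congrArg ψ (Subtype.ext hsx)
  let TA : SubMulAction ↥(S : Subgroup G) (G ⧸ (S : Subgroup G)) :=
    { carrier := T
      smul_mem' := fun s c hc => hTinv s s.2 c hc }
  have hfixmem : ∀ c ∈ MulAction.fixedPoints ↥(S : Subgroup G) (G ⧸ (S : Subgroup G)), c ∈ T := by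
    intro c
    induction c using QuotientGroup.induction_on with
    | H x =>
      intro hc
      have hxN : x ∈ Subgroup.normalizer ((S : Subgroup G) : Set G) :=
        (Sylow.mem_fixedPoints_mul_left_cosets_iff_mem_normalizer).mp hc
      have hz' : z ∈ Cfsg.omegaOne 2 ((S : Subgroup G) ⊓ Subgroup.centralizer ((S : Subgroup G) : Set G)) :=
        Subgroup.subset_closure ⟨hzS, hz2⟩
      have hxz : x⁻¹ * z * x = z := by
        have := hfix x⁻¹ (inv_mem hxN) z hz'
        rwa [inv_inv] at this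
      have hxS : x⁻¹ * z * x ∈ (S : Subgroup G) := by rw [hxz]; exact hzS.1
      refine ⟨hc ⟨z, hzS.1⟩, ?_⟩
      rw [hFeq x hxS]
      exact congrArg ψ (Subtype.ext hxz)
  have hTodd : Odd (Nat.card ↥T) := by
    have h1 := S.isPGroup'.card_modEq_card_fixedPoints (↥TA)
    have h2 := S.isPGroup'.card_modEq_card_fixedPoints (G ⧸ (S : Subgroup G))
    have h3 : Nat.card (MulAction.fixedPoints ↥(S : Subgroup G) ↥TA) =
        Nat.card (MulAction.fixedPoints ↥(S : Subgroup G) (G ⧸ (S : Subgroup G))) :=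
      Nat.card_congr
        { toFun := fun c => ⟨c.1.1, fun s => congrArg Subtype.val (c.2 s)⟩
          invFun := fun c => ⟨⟨c.1, hfixmem c.1 c.2⟩, fun s => Subtype.ext (c.2 s)⟩
          left_inv := fun c => rfl
          right_inv := fun c => rfl }
    have h4 : ¬ 2 ∣ Nat.card (G ⧸ (S : Subgroup G)) := S.not_dvd_index
    rw [h3] at h1
    have h5 : Nat.card ↥T ≡ Nat.card (G ⧸ (S : Subgroup G)) [MOD 2] := h1.trans h2.symm
    rw [Nat.odd_iff, h5]
    omega
  -- evaluate the transfer
  haveI := Fintype.ofFinite (G ⧸ (S : Subgroup G))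
  haveI := Fintype.ofFinite (Quotient (MulAction.orbitRel (Subgroup.zpowers z) (G ⧸ (S : Subgroup G))))
  rw [MonoidHom.transfer_eq_prod_quotient_orbitRel_zpowers_quot] at htr
  have hz' : z * z = 1 := by rw [← pow_two]; exact hz2
  have hper : ∀ c : G ⧸ (S : Subgroup G), z • c ≠ c → Function.minimalPeriod (z • ·) c = 2 := fun c hc => by
    refine Function.minimalPeriod_eq_prime ?_ hc
    show (z • ·)^[2] c = c
    show z • z • c = c
    rw [← mul_smul, hz', one_smul]
  have horb : ∀ c : G ⧸ (S : Subgroup G), z • c = c → ∀ d : G ⧸ (S : Subgroup G),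
      MulAction.orbitRel (Subgroup.zpowers z) (G ⧸ (S : Subgroup G)) d c → d = c := by
    intro c hc d hd
    obtain ⟨⟨g, k, hk⟩, hg⟩ := hd
    rw [← hg]
    show g • c = c
    rw [← hk]
    have h1 : z ∈ MulAction.stabilizer G c := hc
    exact zpow_mem h1 k
  have key : ∏ c ∈ Finset.univ.filter (fun c : G ⧸ (S : Subgroup G) => z • c = c), F c = 1 := by
    refine Eq.trans (Eq.symm ?_) htr
    rw [← Finset.prod_filter_mul_prod_filter_not Finset.univ
      (fun q : Quotient (MulAction.orbitRel (Subgroup.zpowers z) (G ⧸ (S : Subgroup G))) => z • q.out = q.out)]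
    rw [Finset.prod_eq_one (s := Finset.univ.filter (fun q : Quotient (MulAction.orbitRel (Subgroup.zpowers z)
      (G ⧸ (S : Subgroup G))) => ¬ z • q.out = q.out)) (fun q hq => ?_), mul_one]
    · refine Finset.prod_bij' (fun q _ => q.out) (fun c _ => Quotient.mk _ c) ?_ ?_ ?_ ?_ ?_
      · intro q hq
        simp only [Finset.mem_filter, Finset.mem_univ, true_and] at hq ⊢
        exact hq
      · intro c hc
        simp only [Finset.mem_filter, Finset.mem_univ, true_and] at hc ⊢
        rw [horb c hc _ (Quotient.mk_out (s := MulAction.orbitRel (Subgroup.zpowers z) (G ⧸ (S : Subgroup G))) c)]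
        exact hc
      · exact fun q _ => Quotient.out_eq q
      · intro c hc
        simp only [Finset.mem_filter, Finset.mem_univ, true_and] at hc
        exact horb c hc _ (Quotient.mk_out (s := MulAction.orbitRel (Subgroup.zpowers z) (G ⧸ (S : Subgroup G))) c)
      · intro q hq
        simp only [Finset.mem_filter, Finset.mem_univ, true_and] at hq
        have hp1 : Function.minimalPeriod (z • ·) q.out = 1 := Function.minimalPeriod_eq_one_iff_isFixedPt.mpr hq
        have hq' : z • (q.out.out : G ⧸ (S : Subgroup G)) = q.out.out := by rw [QuotientGroup.out_eq']; exact hq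
        conv_rhs => rw [← QuotientGroup.out_eq' q.out]
        rw [hFeq _ (hmemfix _ hq')]
        congr 1
        exact Subtype.ext (by simp [hp1])
    · simp only [Finset.mem_filter, Finset.mem_univ, true_and] at hq
      have hp2 := hper q.out hq
      rw [← map_one ψ]
      congr 1
      exact Subtype.ext (by simp [hp2, hz2])
  rw [← Finset.prod_filter_mul_prod_filter_not _ (fun c => F c = m), Finset.prod_eq_one
    (s := ((Finset.univ.filter (fun c : G ⧸ (S : Subgroup G) => z • c = c)).filter (fun c => ¬ F c = m)))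
    (fun c hc => (htwo (F c)).resolve_right (Finset.mem_filter.mp hc).2), mul_one,
    Finset.prod_congr rfl (fun c hc => (Finset.mem_filter.mp hc).2), Finset.prod_const] at key
  have hcardT : ((Finset.univ.filter (fun c : G ⧸ (S : Subgroup G) => z • c = c)).filter (fun c => F c = m)).card
      = Nat.card ↥T := by
    rw [Nat.card_eq_card_toFinset]
    congr 1
    ext c
    simp [T]
  rw [hcardT] at key
  obtain ⟨j, hj⟩ := hTodd
  rw [hj, pow_succ, pow_mul, (show m ^ 2 = 1 by have := (pow_card_eq_one' : m ^ Nat.card (↥(S : Subgroup G) ⧸ M) = 1); rwa [hcardQ] at this), one_pow, one_mul] at key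
  exact hm1 key

end Cfsg.Agent.S2872
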