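import Cfsg.Statements.S2873
import Cfsg.Agent.Lib.Techniques.Basic
import Cfsg.Agent.Lib.Coprime.Action
import Cfsg.Agent.Lib.PCore.Basic
import Cfsg.Agent.Lib.PLocal5.Quadratic

set_option autoImplicit false
open Cfsg

namespace Cfsg.Agent.S2873

/-- Let G be a finite group and r an odd prime such that G ⧸ O₂(G) is dihedral of order 2r, and let R be a Sylow r-subgroup of G with C_{O₂(G)}(R) = 1. Then N_G(R) is dihedral of order 2r; for any involution a of N_G(R), every involution of G outside O₂(G) is conjugate to a; and |C_{O₂(G)}(a)|² = |O₂(G)|. -/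
theorem result {G : Type*} [Group G] [Finite G] {r : ℕ} [Fact r.Prime] (hr : r ≠ 2) [hN : (Cfsg.pCore 2 G).Normal] (hquot : Nonempty (G ⧸ Cfsg.pCore 2 G ≃* DihedralGroup r)) (R : Sylow r G) (hC : Cfsg.pCore 2 G ⊓ Subgroup.centralizer ((R : Subgroup G) : Set G) = ⊥) : Nonempty (↥(Subgroup.normalizer ((R : Subgroup G) : Set G)) ≃* DihedralGroup r) ∧ ∀ a : G, a ∈ Subgroup.normalizer ((R : Subgroup G) : Set G) → orderOf a = 2 → (∀ b : G, orderOf b = 2 → b ∉ Cfsg.pCore 2 G → ∃ g : G, g * a * g⁻¹ = b) ∧ Nat.card ↥(Cfsg.pCore 2 G ⊓ Subgroup.centralizer ({a} : Set G)) ^ 2 = Nat.card ↥(Cfsg.pCore 2 G) := by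
  obtain ⟨φ⟩ := hquot
  have hrp : r.Prime := Fact.out
  set O := Cfsg.pCore 2 G with hO
  set N := Subgroup.normalizer ((R : Subgroup G) : Set G) with hNdef
  haveI h2 : Fact (Nat.Prime 2) := ⟨Nat.prime_two⟩
  have hG : Nat.card G = Nat.card O * (2 * r) := by
    rw [← Subgroup.card_mul_index O, Subgroup.index, Nat.card_congr φ.toEquiv, DihedralGroup.nat_card]
  have hrO : ¬ r ∣ Nat.card O := by
    obtain ⟨k, hk⟩ := IsPGroup.iff_card.1 (CfsgLib.PCore.pCore_isPGroup (p := 2) (G := G))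
    rw [hk]
    exact fun h => hr ((Nat.prime_dvd_prime_iff_eq hrp Nat.prime_two).1 (hrp.dvd_of_dvd_pow h))
  have hR : Nat.card (R : Subgroup G) = r := by
    have hd : r ∣ Nat.card (R : Subgroup G) :=
      R.dvd_card_of_dvd_card (hG ▸ dvd_mul_of_dvd_right (dvd_mul_left r 2) _)
    obtain ⟨k, hk⟩ := IsPGroup.iff_card.1 R.isPGroup'
    have hdvd := (R : Subgroup G).card_subgroup_dvd_card
    rw [hk, hG] at hdvd
    have hcop : Nat.Coprime (r ^ k) (Nat.card O * 2) := by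
      refine Nat.Coprime.pow_left _ ((Nat.Prime.coprime_iff_not_dvd hrp).2 fun h => ?_)
      rcases hrp.dvd_mul.1 h with h | h
      · exact hrO h
      · exact hr ((Nat.prime_dvd_prime_iff_eq hrp Nat.prime_two).1 h)
    rw [← mul_assoc] at hdvd
    have h1 := hcop.dvd_of_dvd_mul_left hdvd
    rw [hk] at hd ⊢
    exact Nat.dvd_antisymm h1 hd
  have hinfO : (R : Subgroup G) ⊓ O = ⊥ := by
    refine Subgroup.inf_eq_bot_of_coprime ?_
    rw [hR]
    exact (Nat.Prime.coprime_iff_not_dvd hrp).2 hrO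
  have hNO : N ⊓ O = ⊥ := by
    refine le_bot_iff.1 (le_trans ?_ hC.le)
    rintro x ⟨hxN, hxO⟩
    refine ⟨hxO, Subgroup.mem_centralizer_iff.2 fun y hy => ?_⟩
    have hm : x * y * x⁻¹ * y⁻¹ ∈ (R : Subgroup G) ⊓ O :=
      ⟨(R : Subgroup G).mul_mem (CfsgLib.Coprime.mem_normalizer_conj hxN hy) ((R : Subgroup G).inv_mem hy), by
        rw [mul_assoc, mul_assoc]
        exact mul_mem hxO (by rw [← mul_assoc]; exact hN.conj_mem _ (inv_mem hxO) y)⟩
    rw [hinfO, Subgroup.mem_bot, mul_inv_eq_one, mul_inv_eq_iff_eq_mul] at hm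
    exact hm.symm
  have hsup : O ⊔ N = ⊤ := by
    set L := O ⊔ (R : Subgroup G) with hL
    have hLn : L.Normal := by
      refine Subgroup.normal_of_index_eq_two (Nat.eq_of_mul_eq_mul_left (Nat.card_pos (α := L)) ?_)
      have hc := CfsgLib.Coprime.card_sup_mul_card_inf (H := (R : Subgroup G)) (N := O)
        (by rw [Subgroup.normalizer_eq_top]; exact le_top)
      rw [inf_comm, hinfO, Subgroup.card_bot, mul_one, hR, sup_comm, ← hL] at hc
      rw [Subgroup.card_mul_index, hG, hc]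
      ring
    haveI := hLn
    have h := CfsgLib.Techniques.sup_normalizer_inf_eq_top R L
    rw [inf_eq_left.2 (le_sup_right : (R : Subgroup G) ≤ L)] at h
    rw [eq_top_iff, ← h]
    exact sup_le (sup_le le_sup_left (Subgroup.le_normalizer.trans le_sup_right)) le_sup_right
  set θ : N →* G ⧸ O := (QuotientGroup.mk' O).comp N.subtype
  have hθ : Function.Bijective θ := by
    refine ⟨(injective_iff_map_eq_one θ).2 fun n hn => Subtype.ext ?_, fun q => ?_⟩
    · have : (n : G) ∈ N ⊓ O := ⟨n.2, (QuotientGroup.eq_one_iff _).1 hn⟩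
      rwa [hNO, Subgroup.mem_bot] at this
    · obtain ⟨g, rfl⟩ := QuotientGroup.mk'_surjective O q
      obtain ⟨o, ho, n, hn, rfl⟩ := Subgroup.mem_sup_of_normal_left.1 (hsup.ge (Subgroup.mem_top g))
      refine ⟨⟨n, hn⟩, ?_⟩
      show QuotientGroup.mk' O n = QuotientGroup.mk' O (o * n)
      rw [map_mul, show QuotientGroup.mk' O o = 1 from (QuotientGroup.eq_one_iff o).2 ho, one_mul]
  set ψ : N ≃* DihedralGroup r := (MulEquiv.ofBijective θ hθ).trans φ
  refine ⟨⟨ψ⟩, fun a haN ha => ?_⟩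
  haveI : NeZero r := ⟨hrp.ne_zero⟩
  have hrefl : ∀ n : N, (n : G) ^ 2 = 1 → n ≠ 1 → ∃ i, ψ n = DihedralGroup.sr i := by
    intro n hn hn1
    rcases hc : ψ n with i | i
    · refine absurd ?_ hn1
      have h1 : orderOf (ψ n) ∣ 2 := orderOf_dvd_of_pow_eq_one
        (by rw [← map_pow, show n ^ 2 = 1 from Subtype.ext hn, map_one])
      have h2 : orderOf (ψ n) ∣ r := orderOf_dvd_of_pow_eq_one (by
        rw [hc, DihedralGroup.r_pow]
        simp)
      have h3 := Nat.eq_one_of_dvd_coprimes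
        ((Nat.coprime_primes Nat.prime_two hrp).2 (Ne.symm hr)) h1 h2
      rw [orderOf_eq_one_iff, map_eq_one_iff ψ ψ.injective] at h3
      exact h3
    · exact ⟨i, rfl⟩
  obtain ⟨i, hi⟩ := hrefl ⟨a, haN⟩ (ha ▸ pow_orderOf_eq_one a) fun h => by
    rw [show a = 1 from congrArg Subtype.val h, orderOf_one] at ha
    norm_num at ha
  -- a generator of `R`
  obtain ⟨ρ, hρR, hρ1⟩ : ∃ ρ ∈ (R : Subgroup G), ρ ≠ 1 :=
    (Subgroup.bot_or_exists_ne_one _).resolve_left fun h => hrp.ne_one (by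
      rw [← hR, h, Subgroup.card_bot])
  have hzρ : Subgroup.zpowers ρ = (R : Subgroup G) := by
    refine Subgroup.eq_of_le_of_card_ge (Subgroup.zpowers_le.2 hρR) ?_
    have hd := Subgroup.card_dvd_of_le (Subgroup.zpowers_le.2 hρR)
    rw [hR] at hd ⊢
    rcases (Nat.dvd_prime hrp).1 hd with h | h
    · exact absurd (Subgroup.zpowers_eq_bot.1 (Subgroup.card_eq_one.1 h)) hρ1
    · exact h.ge
  have hρN : ρ ∈ N := Subgroup.le_normalizer hρR
  obtain ⟨j, hj⟩ : ∃ j, ψ ⟨ρ, hρN⟩ = DihedralGroup.r j := by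
    rcases hc : ψ ⟨ρ, hρN⟩ with j | j
    · exact ⟨j, rfl⟩
    · refine absurd ?_ hρ1
      have h1 : ρ ^ 2 = 1 := by
        have : (⟨ρ, hρN⟩ : N) ^ 2 = 1 :=
          ψ.injective (by rw [map_pow, hc, pow_two, DihedralGroup.sr_mul_self, map_one])
        exact congrArg Subtype.val this
      have h2 : ρ ^ r = 1 := by
        have := pow_card_eq_one' (x := (⟨ρ, hρR⟩ : (R : Subgroup G)))
        rw [hR] at this
        exact congrArg Subtype.val this
      have := pow_gcd_eq_one.2 ⟨h1, h2⟩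
      rwa [((Nat.coprime_primes Nat.prime_two hrp).2 (Ne.symm hr)).gcd_eq_one, pow_one] at this
  set a' := a * ρ with ha'
  have ha'N : a' ∈ N := mul_mem haN hρN
  have ha'2 : a' * a' = 1 := by
    have : (⟨a, haN⟩ : N) * ⟨ρ, hρN⟩ * (⟨a, haN⟩ * ⟨ρ, hρN⟩) = 1 :=
      ψ.injective (by
        rw [map_mul, map_mul, hi, hj, DihedralGroup.sr_mul_r, DihedralGroup.sr_mul_self, map_one])
    exact congrArg Subtype.val this
  have ha2 : a * a = 1 := by rw [← pow_two, ← ha, pow_orderOf_eq_one]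
  -- every element of `O ρ` is conjugate to `ρ` under `O`
  have hsurj : ∀ x ∈ O, ∃ y ∈ O, y * ρ * y⁻¹ = x * ρ := by
    intro x hx
    let f : O → O := fun y => ⟨(y : G) * (ρ * (y : G)⁻¹ * ρ⁻¹),
      mul_mem y.2 (hN.conj_mem _ (inv_mem y.2) ρ)⟩
    have hinj : Function.Injective f := by
      intro y z hyz
      have h1 : (y : G) * (ρ * (y : G)⁻¹ * ρ⁻¹) = (z : G) * (ρ * (z : G)⁻¹ * ρ⁻¹) :=
        congrArg Subtype.val hyz
      have h2 : ((z : G)⁻¹ * y) * ρ = ρ * ((z : G)⁻¹ * y) := by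
        have h := congrArg (fun g => (z : G)⁻¹ * g * ρ * (y : G)) h1
        simpa [mul_assoc] using h
      have hm : (z : G)⁻¹ * y ∈ O ⊓ Subgroup.centralizer ((R : Subgroup G) : Set G) := by
        refine ⟨O.mul_mem (O.inv_mem z.2) y.2, ?_⟩
        rw [← hzρ]
        exact CfsgLib.Quadratic.mem_centralizer_zpowers.2 h2.symm
      rw [hC, Subgroup.mem_bot, inv_mul_eq_one] at hm
      exact Subtype.ext hm.symm
    obtain ⟨y, hy⟩ := (Finite.injective_iff_surjective.1 hinj) ⟨x, hx⟩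
    refine ⟨y, y.2, ?_⟩
    have h : (y : G) * (ρ * (y : G)⁻¹ * ρ⁻¹) = x := congrArg Subtype.val hy
    rw [← h]; group
  -- elements of a reflection coset inverting `ρ`
  have hfix : ∀ b c : G, b * b = 1 → c * c = 1 → b * a⁻¹ ∈ O → b * c = ρ → b = a := by
    intro b c hb hc hbO hbc
    have hinv : b * ρ * b⁻¹ = ρ⁻¹ := by
      rw [← hbc, ← mul_assoc, hb, one_mul, mul_inv_rev, inv_eq_of_mul_eq_one_right hb,
        inv_eq_of_mul_eq_one_right hc]
    have hbN : b ∈ N := by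
      rw [hNdef, Subgroup.mem_normalizer_iff_map_conj_eq, ← hzρ, MonoidHom.map_zpowers]
      show Subgroup.zpowers (b * ρ * b⁻¹) = _
      rw [hinv, Subgroup.zpowers_inv]
    have hm : b * a⁻¹ ∈ N ⊓ O := ⟨N.mul_mem hbN (N.inv_mem haN), hbO⟩
    rwa [hNO, Subgroup.mem_bot, mul_inv_eq_one] at hm
  set Ia := {x : O // (x * a : G) * (x * a) = 1}
  set Ib := {x : O // (x * a' : G) * (x * a') = 1}
  have hmem : ∀ (x z : O), (x : G) * a * ((z : G) * a') * ρ⁻¹ ∈ O := by
    intro x z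
    have : (x : G) * a * ((z : G) * a') * ρ⁻¹ = x * (a * z * a⁻¹) * (a * a) := by
      rw [ha']; group
    rw [this, ha2, mul_one]
    exact mul_mem x.2 (hN.conj_mem _ z.2 a)
  -- the pairs correspond to the elements of `O ρ`
  have hkey : ∀ x : O, (x * a : G) * (x * a) = 1 → ∀ z : O, (z * a' : G) * (z * a') = 1 →
      ∀ y ∈ O, y * ρ * y⁻¹ = (x : G) * a * ((z : G) * a') →
        (x : G) * a = y * a * y⁻¹ ∧ (z : G) * a' = y * a' * y⁻¹ := by
    intro x hx z hz y hy he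
    have h1 : y⁻¹ * ((x : G) * a) * y = a := by
      refine hfix _ (y⁻¹ * ((z : G) * a') * y) ?_ ?_ ?_ ?_
      · rw [show y⁻¹ * ((x : G) * a) * y * (y⁻¹ * ((x : G) * a) * y) =
          y⁻¹ * (((x : G) * a) * ((x : G) * a)) * y by group, hx]; group
      · rw [show y⁻¹ * ((z : G) * a') * y * (y⁻¹ * ((z : G) * a') * y) =
          y⁻¹ * (((z : G) * a') * ((z : G) * a')) * y by group, hz]; group
      · rw [show y⁻¹ * ((x : G) * a) * y * a⁻¹ = y⁻¹ * x * (a * y * a⁻¹) by group]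
        exact mul_mem (mul_mem (inv_mem hy) x.2) (hN.conj_mem _ hy a)
      · rw [show y⁻¹ * ((x : G) * a) * y * (y⁻¹ * ((z : G) * a') * y) =
          y⁻¹ * ((x : G) * a * ((z : G) * a')) * y by group, ← he]; group
    have hxa : (x : G) * a = y * a * y⁻¹ := by
      conv_rhs => rw [← h1]
      group
    refine ⟨hxa, ?_⟩
    have hρ' : ρ = a * a' := by rw [ha', ← mul_assoc, ha2, one_mul]
    refine mul_left_cancel (a := (x : G) * a) ?_
    rw [← he, hxa, hρ']
    group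
  have hP : Nat.card Ia * Nat.card Ib = Nat.card O := by
    rw [← Nat.card_prod]
    refine Nat.card_eq_of_bijective (fun w : Ia × Ib =>
      (⟨((w.1.1 : O) : G) * a * (((w.2.1 : O) : G) * a') * ρ⁻¹, hmem _ _⟩ : O)) ⟨?_, ?_⟩
    · rintro ⟨x, z⟩ ⟨x', z'⟩ h
      have h' : ((x.1 : O) : G) * a * (((z.1 : O) : G) * a') =
          ((x'.1 : O) : G) * a * (((z'.1 : O) : G) * a') :=
        mul_right_cancel (congrArg Subtype.val h)
      obtain ⟨y, hy, he⟩ := hsurj _ (hmem x.1 z.1)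
      rw [inv_mul_cancel_right] at he
      obtain ⟨e1, e2⟩ := hkey _ x.2 _ z.2 y hy he
      obtain ⟨e1', e2'⟩ := hkey _ x'.2 _ z'.2 y hy (he.trans h')
      exact Prod.ext (Subtype.ext (Subtype.ext (mul_right_cancel (e1.trans e1'.symm))))
        (Subtype.ext (Subtype.ext (mul_right_cancel (e2.trans e2'.symm))))
    · intro w
      obtain ⟨y, hy, he⟩ := hsurj w w.2
      refine ⟨⟨⟨⟨y * (a * y⁻¹ * a⁻¹), mul_mem hy (hN.conj_mem _ (inv_mem hy) a)⟩, ?_⟩,
        ⟨⟨y * (a' * y⁻¹ * a'⁻¹), mul_mem hy (hN.conj_mem _ (inv_mem hy) a')⟩, ?_⟩⟩, Subtype.ext ?_⟩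
      · show y * (a * y⁻¹ * a⁻¹) * a * (y * (a * y⁻¹ * a⁻¹) * a) = 1
        rw [show y * (a * y⁻¹ * a⁻¹) * a * (y * (a * y⁻¹ * a⁻¹) * a) = y * (a * a) * y⁻¹ by group,
          ha2]
        group
      · show y * (a' * y⁻¹ * a'⁻¹) * a' * (y * (a' * y⁻¹ * a'⁻¹) * a') = 1
        rw [show y * (a' * y⁻¹ * a'⁻¹) * a' * (y * (a' * y⁻¹ * a'⁻¹) * a') =
          y * (a' * a') * y⁻¹ by group, ha'2]
        group
      · show y * (a * y⁻¹ * a⁻¹) * a * (y * (a' * y⁻¹ * a'⁻¹) * a') * ρ⁻¹ = w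
        rw [show y * (a * y⁻¹ * a⁻¹) * a * (y * (a' * y⁻¹ * a'⁻¹) * a') * ρ⁻¹ =
          y * (a * a') * y⁻¹ * ρ⁻¹ by group, ha', ← mul_assoc a a ρ, ha2, one_mul, he,
          mul_inv_cancel_right]
  -- every involution of `O a` is conjugate to `a` under `O`
  have hconj : ∀ x : Ia, ∃ y ∈ O, ((x.1 : O) : G) * a = y * a * y⁻¹ := by
    intro x
    obtain ⟨y, hy, he⟩ := hsurj _ (hmem x.1 1)
    rw [inv_mul_cancel_right] at he
    exact ⟨y, hy, (hkey _ x.2 1 (by simp [ha'2]) y hy he).1⟩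
  obtain ⟨t, htN, htO⟩ : ∃ t ∈ N, t * a * t⁻¹ = a' := by
    have hz : ∀ n : N, n ≠ 1 → n * n = 1 → ∃ S : Sylow 2 N, (S : Subgroup N) = Subgroup.zpowers n := by
      intro n hn1 hn2
      have hord : orderOf n = 2 := orderOf_eq_prime (by rw [pow_two, hn2]) hn1
      have hp : IsPGroup 2 (Subgroup.zpowers n) :=
        IsPGroup.of_card (n := 1) (by rw [Nat.card_zpowers, hord, pow_one])
      refine ⟨hp.toSylow ?_, rfl⟩
      have h := Subgroup.card_mul_index (Subgroup.zpowers n)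
      rw [Nat.card_zpowers, hord, Nat.card_congr ψ.toEquiv, DihedralGroup.nat_card] at h
      rw [Nat.eq_of_mul_eq_mul_left (by norm_num) h]
      exact fun h => hr ((Nat.prime_dvd_prime_iff_eq Nat.prime_two hrp).1 h).symm
    obtain ⟨S, hS⟩ := hz ⟨a, haN⟩ (fun h => by
      rw [show a = 1 from congrArg Subtype.val h, orderOf_one] at ha
      norm_num at ha) (Subtype.ext ha2)
    obtain ⟨S', hS'⟩ := hz ⟨a', ha'N⟩ (fun h => by
      have h' : a * ρ = 1 := congrArg Subtype.val h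
      have ha1 : a = ρ⁻¹ := eq_inv_of_mul_eq_one_left h'
      have hρ2 : ρ⁻¹ * ρ⁻¹ = 1 := ha1 ▸ ha2
      rw [← mul_inv_rev, inv_eq_one] at hρ2
      have h2 : ρ ^ r = 1 := by
        have := pow_card_eq_one' (x := (⟨ρ, hρR⟩ : (R : Subgroup G)))
        rw [hR] at this
        exact congrArg Subtype.val this
      have := pow_gcd_eq_one.2 ⟨(pow_two ρ).trans hρ2, h2⟩
      rw [((Nat.coprime_primes Nat.prime_two hrp).2 (Ne.symm hr)).gcd_eq_one, pow_one] at this
      exact hρ1 this) (Subtype.ext ha'2)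
    obtain ⟨n, hn⟩ := MulAction.exists_smul_eq N S S'
    refine ⟨n, n.2, ?_⟩
    have h1 : n * ⟨a, haN⟩ * n⁻¹ ∈ (S' : Subgroup N) := by
      rw [← hn, Sylow.coe_subgroup_smul]
      exact ⟨⟨a, haN⟩, hS.ge (Subgroup.mem_zpowers _), rfl⟩
    rw [hS', Subgroup.mem_zpowers_iff] at h1
    obtain ⟨k, hk⟩ := h1
    have hk' : a' ^ k = (n : G) * a * (n : G)⁻¹ := congrArg Subtype.val hk
    rcases Int.even_or_odd k with ⟨m, rfl⟩ | ⟨m, rfl⟩
    · exfalso
      rw [← two_mul, zpow_mul, zpow_two, ha'2, one_zpow] at hk'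
      have : a = 1 := by
        have h := congrArg (fun g => (n : G)⁻¹ * g * (n : G)) hk'
        simpa [mul_assoc] using h.symm
      rw [this, orderOf_one] at ha
      norm_num at ha
    · rw [zpow_add, zpow_mul, zpow_two, ha'2, one_zpow, one_mul, zpow_one] at hk'
      exact hk'.symm
  have hIab : Nat.card Ia = Nat.card Ib := by
    refine Nat.card_congr (Equiv.subtypeEquiv
      ((MulAut.conjNormal t : O ≃* O).toEquiv) fun x => ?_)
    show _ ↔ (((MulAut.conjNormal t x : O) : G) * a') * (((MulAut.conjNormal t x : O) : G) * a') = 1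
    rw [MulAut.conjNormal_apply, ← htO, show t * (x : G) * t⁻¹ * (t * a * t⁻¹) *
      (t * (x : G) * t⁻¹ * (t * a * t⁻¹)) = t * ((x : G) * a * ((x : G) * a)) * t⁻¹ by group,
      conj_eq_one_iff]
  have hcard : Nat.card Ia * Nat.card ↥(O ⊓ Subgroup.centralizer ({a} : Set G)) = Nat.card O := by
    set K := (Subgroup.centralizer ({a} : Set G)).subgroupOf O
    have hK : Nat.card K = Nat.card ↥(O ⊓ Subgroup.centralizer ({a} : Set G)) := by
      rw [← Subgroup.card_map_of_injective O.subtype_injective, Subgroup.subgroupOf_map_subtype,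
        inf_comm]
    rw [← hK, ← Subgroup.index_mul_card K, Subgroup.index]
    congr 1
    refine (Nat.card_eq_of_bijective (Quotient.lift (fun y : O =>
      (⟨⟨(y : G) * (a * (y : G)⁻¹ * a⁻¹), mul_mem y.2 (hN.conj_mem _ (inv_mem y.2) a)⟩, by
        show (y : G) * (a * (y : G)⁻¹ * a⁻¹) * a * ((y : G) * (a * (y : G)⁻¹ * a⁻¹) * a) = 1
        rw [show (y : G) * (a * (y : G)⁻¹ * a⁻¹) * a * ((y : G) * (a * (y : G)⁻¹ * a⁻¹) * a) =
          (y : G) * (a * a) * (y : G)⁻¹ by group, ha2]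
        group⟩ : Ia)) ?_) ⟨?_, ?_⟩).symm
    · intro y z hyz
      have hm : y⁻¹ * z ∈ K := QuotientGroup.leftRel_apply.1 hyz
      rw [Subgroup.mem_subgroupOf, Subgroup.mem_centralizer_singleton_iff] at hm
      refine Subtype.ext (Subtype.ext ?_)
      show (y : G) * (a * (y : G)⁻¹ * a⁻¹) = (z : G) * (a * (z : G)⁻¹ * a⁻¹)
      have hm' : (y : G)⁻¹ * z * a = a * ((y : G)⁻¹ * z) := hm
      have h := congrArg (fun g => (y : G) * g * (z : G)⁻¹ * a⁻¹) hm'
      simpa [mul_assoc] using h.symm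
    · rintro ⟨y⟩ ⟨z⟩ h
      have h' : (y : G) * (a * (y : G)⁻¹ * a⁻¹) = (z : G) * (a * (z : G)⁻¹ * a⁻¹) :=
        congrArg (fun w : Ia => ((w.1 : O) : G)) h
      refine Quotient.sound ((QuotientGroup.leftRel_apply).2 ?_)
      show y⁻¹ * z ∈ K
      rw [Subgroup.mem_subgroupOf, Subgroup.mem_centralizer_singleton_iff]
      show (y : G)⁻¹ * z * a = a * ((y : G)⁻¹ * z)
      have h1 := congrArg (fun g => (y : G)⁻¹ * g * a * (z : G)) h'
      simpa [mul_assoc] using h1.symm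
    · intro x
      obtain ⟨y, hy, he⟩ := hconj x
      refine ⟨Quotient.mk'' ⟨y, hy⟩, Subtype.ext (Subtype.ext ?_)⟩
      show y * (a * y⁻¹ * a⁻¹) = ((x.1 : O) : G)
      refine mul_right_cancel (b := a) ?_
      rw [he]; group
  refine ⟨fun b hb hbO => ?_, ?_⟩
  · obtain ⟨o, ho, n, hn, hbe⟩ := Subgroup.mem_sup_of_normal_left.1 (hsup.ge (Subgroup.mem_top b))
    have hb2 : b * b = 1 := by rw [← pow_two, ← hb, pow_orderOf_eq_one]
    have hn2 : (⟨n, hn⟩ : N) * ⟨n, hn⟩ = 1 := hθ.1 (by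
      rw [map_mul, map_one]
      show QuotientGroup.mk' O n * QuotientGroup.mk' O n = 1
      have : QuotientGroup.mk' O n = QuotientGroup.mk' O b := by
        rw [← hbe, map_mul, show QuotientGroup.mk' O o = 1 from (QuotientGroup.eq_one_iff o).2 ho,
          one_mul]
      rw [this, ← map_mul, hb2, map_one])
    have hn1 : (⟨n, hn⟩ : N) ≠ 1 := fun h => hbO (by
      rw [← hbe, show n = 1 from congrArg Subtype.val h, mul_one]; exact ho)
    obtain ⟨k, hk⟩ := hrefl ⟨n, hn⟩ ((pow_two n).trans (congrArg Subtype.val hn2)) hn1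
    -- `n` is conjugate to `a` in `N`
    obtain ⟨m, hm⟩ : ∃ m : N, m * ⟨a, haN⟩ * m⁻¹ = ⟨n, hn⟩ := by
      have h2 : IsUnit (2 : ZMod r) := by
        rw [show (2 : ZMod r) = ((2 : ℕ) : ZMod r) by norm_num, ZMod.isUnit_iff_coprime]
        exact (Nat.coprime_primes Nat.prime_two hrp).2 (Ne.symm hr)
      obtain ⟨u, hu⟩ := h2
      refine ⟨ψ.symm (DihedralGroup.r (↑u⁻¹ * (i - k))), ψ.injective ?_⟩
      rw [map_mul, map_mul, map_inv, MulEquiv.apply_symm_apply, hi, hk, DihedralGroup.inv_r,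
        DihedralGroup.r_mul_sr, DihedralGroup.sr_mul_r]
      congr 1
      have h2u : (2 : ZMod r) * ↑u⁻¹ = 1 := by rw [← hu, Units.mul_inv]
      linear_combination (k - i) * h2u
    have hm' : (m : G) * a * (m : G)⁻¹ = n := congrArg Subtype.val hm
    have hx : (m : G)⁻¹ * o * (m : G) ∈ O := by
      simpa using hN.conj_mem _ ho (m : G)⁻¹
    obtain ⟨y, hy, he⟩ := hconj ⟨⟨_, hx⟩, by
      show (m : G)⁻¹ * o * (m : G) * a * ((m : G)⁻¹ * o * (m : G) * a) = 1
      rw [show (m : G)⁻¹ * o * (m : G) * a * ((m : G)⁻¹ * o * (m : G) * a) =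
        (m : G)⁻¹ * (o * ((m : G) * a * (m : G)⁻¹) * (o * ((m : G) * a * (m : G)⁻¹))) * m by group,
        hm', hbe, hb2]
      group⟩
    refine ⟨(m : G) * y, ?_⟩
    have he' : (m : G)⁻¹ * o * (m : G) * a = y * a * y⁻¹ := he
    rw [show (m : G) * y * a * ((m : G) * y)⁻¹ = (m : G) * (y * a * y⁻¹) * (m : G)⁻¹ by group, ← he',
      ← hbe, ← hm']
    group
  · rw [hIab] at hP
    rw [hIab] at hcard
    have hpos : 0 < Nat.card Ib := Nat.pos_of_ne_zero fun h => by
      rw [h, zero_mul] at hP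
      exact Nat.card_pos.ne hP
    rw [pow_two, Nat.eq_of_mul_eq_mul_left hpos (hcard.trans hP.symm), hP]

end Cfsg.Agent.S2873
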