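import Cfsg.Statements.S2874
import Cfsg.Agent.Lib.Large.Tools

set_option autoImplicit false
open Cfsg

namespace Cfsg.Agent.S2874

open Cfsg Subgroup Matrix

private abbrev M2 (k : ℕ) := Matrix (Fin 2) (Fin 2) (ZMod (2 ^ k))

private def CM (k : ℕ) : M2 k := !![0, -1; 1, -1]

private theorem CM_cube (k : ℕ) : CM k * (CM k * CM k) = 1 := by
  ext i j
  fin_cases i <;> fin_cases j <;> simp [CM, Matrix.mul_apply, Fin.sum_univ_two]

private def orb {R : Type*} [CommRing R] (C Y : Matrix (Fin 2) (Fin 2) R) :=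
  Y + C * Y * (C * C) + C * C * Y * C

private theorem f2_inv : ∀ M : Matrix (Fin 2) (Fin 2) (ZMod 2), M * M = 1 →
    M * (!![0, 1; 1, 1] * M * (!![0, 1; 1, 1] * !![0, 1; 1, 1])) *
      (!![0, 1; 1, 1] * !![0, 1; 1, 1] * M * !![0, 1; 1, 1]) = 1 → M = 1 := by decide +kernel

private theorem f2_idem : ∀ M : Matrix (Fin 2) (Fin 2) (ZMod 2), M + M * M = 0 →
    orb (R := ZMod 2) !![0, 1; 1, 1] M = 0 → M = 0 := by decide +kernel

private theorem f2_card :
    (Finset.univ.filter fun M : Matrix (Fin 2) (Fin 2) (ZMod 2) =>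
      orb (R := ZMod 2) !![0, 1; 1, 1] M = 0).card = 4 := by decide +kernel

private theorem f2_fix : ∀ M : Matrix (Fin 2) (Fin 2) (ZMod 2), M * M * M = 1 → M ≠ 1 →
    M * M + M + 1 = 0 ∧ M 1 0 = 1 := by decide +kernel

private theorem a4_facts : (∀ x c : ↥(alternatingGroup (Fin 4)), x * x = 1 → c * c * c = 1 → c ≠ 1 →
      x * (c * x * c⁻¹) * (c * c * x * (c * c)⁻¹) = 1) ∧
    (∃ c : ↥(alternatingGroup (Fin 4)), c * c * c = 1 ∧ c ≠ 1) ∧
    (Finset.univ.filter fun x : ↥(alternatingGroup (Fin 4)) => x * x = 1).card = 4 ∧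
    Fintype.card ↥(alternatingGroup (Fin 4)) = 12 := by decide +kernel

variable (k : ℕ)

private def red (hk : 1 ≤ k) : ZMod (2 ^ k) →+* ZMod 2 :=
  ZMod.castHom (dvd_pow_self 2 (by omega)) (ZMod 2)

private theorem red_eq_zero (hk : 1 ≤ k) (x : ZMod (2 ^ k)) : red k hk x = 0 ↔ ∃ y, x = 2 * y := by
  constructor
  · intro h
    obtain ⟨n, rfl⟩ := ZMod.natCast_zmod_surjective x
    rw [red, map_natCast, ZMod.natCast_eq_zero_iff_even] at h
    obtain ⟨m, rfl⟩ := h
    exact ⟨m, by push_cast; ring⟩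
  · rintro ⟨y, rfl⟩
    rw [map_mul, map_ofNat]
    exact mul_eq_zero_of_left (by decide) _

private theorem pow_mul_eq_zero (hk : 1 ≤ k) {j : ℕ} (hj : j < k) {x : ZMod (2 ^ k)}
    (h : (2 : ZMod (2 ^ k)) ^ j * x = 0) : red k hk x = 0 := by
  obtain ⟨n, rfl⟩ := ZMod.natCast_zmod_surjective x
  have h1 : ((2 ^ j * n : ℕ) : ZMod (2 ^ k)) = 0 := by push_cast; exact h
  rw [ZMod.natCast_eq_zero_iff] at h1
  rw [red, map_natCast, ZMod.natCast_eq_zero_iff_even, even_iff_two_dvd]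
  have h2 : 2 ^ j * 2 ∣ 2 ^ j * n := (pow_succ 2 j).symm.dvd.trans ((pow_dvd_pow 2 hj).trans h1)
  exact Nat.dvd_of_mul_dvd_mul_left (Nat.two_pow_pos j) h2

private theorem top_dep (hk : 1 ≤ k) {x y : ZMod (2 ^ k)} (h : red k hk x = red k hk y) :
    (2 : ZMod (2 ^ k)) ^ (k - 1) * x = 2 ^ (k - 1) * y := by
  obtain ⟨z, hz⟩ := (red_eq_zero k hk (x - y)).1 (by rw [map_sub, h, sub_self])
  rw [← sub_eq_zero, ← mul_sub, hz, ← mul_assoc, ← pow_succ, Nat.sub_add_cancel hk,
    show ((2 : ZMod (2 ^ k)) ^ k) = ((2 ^ k : ℕ) : ZMod (2 ^ k)) by push_cast; rfl,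
    ZMod.natCast_self, zero_mul]

private theorem redm_eq_zero (hk : 1 ≤ k) (Y : M2 k) :
    (red k hk).mapMatrix Y = 0 ↔ ∃ Z : M2 k, Y = (2 : ZMod (2 ^ k)) • Z := by
  constructor
  · intro h
    choose z hz using fun i j => (red_eq_zero k hk (Y i j)).1 (congrFun (congrFun h i) j)
    exact ⟨Matrix.of z, by ext i j; simp [← hz]⟩
  · rintro ⟨Z, rfl⟩
    ext i j
    exact (red_eq_zero k hk _).2 ⟨Z i j, rfl⟩

private theorem smul_zero_imp (hk : 1 ≤ k) {j : ℕ} (hj : j < k) {Y : M2 k}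
    (h : (2 : ZMod (2 ^ k)) ^ j • Y = 0) : (red k hk).mapMatrix Y = 0 := by
  ext i l
  exact pow_mul_eq_zero k hk hj (by simpa using congrFun (congrFun h i) l)

private theorem red_CM (hk : 1 ≤ k) : (red k hk).mapMatrix (CM k) = !![0, 1; 1, 1] := by
  ext i j
  fin_cases i <;> fin_cases j <;> simp [CM]

private theorem red_orb (hk : 1 ≤ k) (Y : M2 k) :
    (red k hk).mapMatrix (orb (CM k) Y) = orb !![0, 1; 1, 1] ((red k hk).mapMatrix Y) := by
  simp only [orb, map_add, map_mul, red_CM]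

private theorem triple {R A : Type*} [CommRing R] [Ring A] [Algebra R A] (c : R) (X Y Z : A) :
    (1 + c • X) * (1 + c • Y) * (1 + c • Z) =
      1 + c • (X + Y + Z + c • (X * Y + X * Z + Y * Z + c • (X * Y * Z))) := by
  simp only [mul_add, add_mul, mul_one, one_mul, smul_mul_assoc, mul_smul_comm, smul_add, smul_smul]
  abel

/-- an involution `a` with `a · a^C · a^(C²) = 1` -/
private theorem level (hk : 2 ≤ k) (a : M2 k) (ha2 : a * a = 1)
    (habc : a * (CM k * a * (CM k * CM k)) * (CM k * CM k * a * CM k) = 1) :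
    ∃ Y : M2 k, a = 1 + (2 : ZMod (2 ^ k)) ^ (k - 1) • Y ∧
      orb !![0, 1; 1, 1] ((red k (by omega)).mapMatrix Y) = 0 := by
  have hk1 : 1 ≤ k := by omega
  set φ := (red k hk1).mapMatrix (m := Fin 2) with hφ
  have hexp : ∀ (j : ℕ) (Y : M2 k), a = 1 + (2 : ZMod (2 ^ k)) ^ j • Y →
      a * a = 1 + (2 : ZMod (2 ^ k)) ^ (j + 1) • Y + (2 : ZMod (2 ^ k)) ^ (2 * j) • (Y * Y) ∧
      ∃ T : M2 k, a * (CM k * a * (CM k * CM k)) * (CM k * CM k * a * CM k) =
        1 + (2 : ZMod (2 ^ k)) ^ j • (orb (CM k) Y + (2 : ZMod (2 ^ k)) ^ j • T) := by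
    intro j Y hY
    have c3 := CM_cube k
    have c3' : CM k * CM k * CM k = 1 := by rw [mul_assoc, c3]
    have e1 : CM k * a * (CM k * CM k) =
        1 + (2 : ZMod (2 ^ k)) ^ j • (CM k * Y * (CM k * CM k)) := by
      rw [hY, mul_add, add_mul, mul_one, c3, mul_smul_comm, smul_mul_assoc]
    have e2 : CM k * CM k * a * CM k = 1 + (2 : ZMod (2 ^ k)) ^ j • (CM k * CM k * Y * CM k) := by
      rw [hY, mul_add, add_mul, mul_one, c3', mul_smul_comm, smul_mul_assoc]
    refine ⟨?_, Y * (CM k * Y * (CM k * CM k)) + Y * (CM k * CM k * Y * CM k) +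
      CM k * Y * (CM k * CM k) * (CM k * CM k * Y * CM k) + (2 : ZMod (2 ^ k)) ^ j •
        (Y * (CM k * Y * (CM k * CM k)) * (CM k * CM k * Y * CM k)), ?_⟩
    · rw [hY]
      simp only [mul_add, add_mul, mul_one, one_mul, smul_mul_assoc, mul_smul_comm, smul_add, smul_smul]
      rw [← pow_add, ← two_mul, pow_succ', mul_smul, two_smul]
      abel
    · rw [e1, e2, hY, orb]
      exact triple (R := ZMod (2 ^ k)) (A := M2 k) ((2 : ZMod (2 ^ k)) ^ j) Y
        (CM k * Y * (CM k * CM k)) (CM k * CM k * Y * CM k)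
  have hA1 : φ a = 1 := by
    refine f2_inv _ (by rw [← map_mul, ha2, map_one]) ?_
    have h := congrArg φ habc
    simp only [map_mul, map_one, hφ, red_CM] at h
    exact h
  have horb : ∀ (j : ℕ) (Y : M2 k), 1 ≤ j → j < k → a = 1 + (2 : ZMod (2 ^ k)) ^ j • Y →
      orb !![0, 1; 1, 1] (φ Y) = 0 := by
    intro j Y h1 h2 hY
    obtain ⟨T, hT⟩ := (hexp j Y hY).2
    rw [habc, left_eq_add] at hT
    have h3 := smul_zero_imp k hk1 h2 hT
    rw [map_add, red_orb] at h3
    have h4 : φ ((2 : ZMod (2 ^ k)) ^ j • T) = 0 := (redm_eq_zero k hk1 _).2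
      ⟨(2 : ZMod (2 ^ k)) ^ (j - 1) • T, by rw [smul_smul, ← pow_succ', Nat.sub_add_cancel h1]⟩
    rwa [show (red k hk1).mapMatrix ((2 : ZMod (2 ^ k)) ^ j • T) = 0 from h4, add_zero] at h3
  have main : ∀ j, 1 ≤ j → j ≤ k - 1 → ∃ Y : M2 k, a = 1 + (2 : ZMod (2 ^ k)) ^ j • Y := by
    intro j h1
    induction j, h1 using Nat.le_induction with
    | base =>
      intro _
      obtain ⟨Z, hZ⟩ := (redm_eq_zero k hk1 (a - 1)).1 (by
        rw [map_sub, map_one, show (red k hk1).mapMatrix a = 1 from hA1, sub_self])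
      exact ⟨Z, by rw [pow_one, ← hZ, add_sub_cancel]⟩
    | succ j hj ih =>
      intro hjk
      obtain ⟨Y, hY⟩ := ih (by omega)
      suffices h : φ Y = 0 by
        obtain ⟨Z, hZ⟩ := (redm_eq_zero k hk1 Y).1 h
        exact ⟨Z, by rw [hY, hZ, smul_smul, ← pow_succ]⟩
      have h1 := (hexp j Y hY).1
      rw [ha2, add_assoc, left_eq_add] at h1
      rcases Nat.lt_or_ge j 2 with hj2 | hj2
      · obtain rfl : j = 1 := by omega
        rw [show 2 * 1 = 1 + 1 by rfl, ← smul_add] at h1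
        have h2 := smul_zero_imp k hk1 (by omega) h1
        rw [map_add, map_mul] at h2
        exact f2_idem _ h2 (horb 1 Y le_rfl (by omega) hY)
      · rw [show 2 * j = (j + 1) + (j - 1) by omega, pow_add _ (j + 1), mul_smul, ← smul_add] at h1
        have h2 := smul_zero_imp k hk1 (by omega) h1
        have h4 : φ ((2 : ZMod (2 ^ k)) ^ (j - 1) • (Y * Y)) = 0 := (redm_eq_zero k hk1 _).2
          ⟨(2 : ZMod (2 ^ k)) ^ (j - 2) • (Y * Y), by
            rw [smul_smul, ← pow_succ']; congr 2; omega⟩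
        rwa [map_add, show (red k hk1).mapMatrix ((2 : ZMod (2 ^ k)) ^ (j - 1) • (Y * Y)) = 0 from h4,
          add_zero] at h2
  obtain ⟨Y, hY⟩ := main (k - 1) (by omega) le_rfl
  exact ⟨Y, hY, horb (k - 1) Y (by omega) (by omega) hY⟩

/-- the four-group belonging to `C` -/
private def fourSet : Set (M2 k) :=
  {a | ∃ (h : 1 ≤ k) (Y : M2 k), a = 1 + (2 : ZMod (2 ^ k)) ^ (k - 1) • Y ∧
    orb !![0, 1; 1, 1] ((red k h).mapMatrix Y) = 0}

private theorem fourSet_card (hk : 1 ≤ k) : (fourSet k).ncard ≤ 4 := by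
  classical
  have hsurj : ∀ X : Matrix (Fin 2) (Fin 2) (ZMod 2), ∃ Y : M2 k, (red k hk).mapMatrix Y = X := by
    intro X
    refine ⟨X.map fun x => ((x.val : ℕ) : ZMod (2 ^ k)), ?_⟩
    ext i j
    simp [red]
  choose s hs using hsurj
  have hsub : fourSet k ⊆ (fun X => 1 + (2 : ZMod (2 ^ k)) ^ (k - 1) • s X) ''
      ((Finset.univ.filter fun M : Matrix (Fin 2) (Fin 2) (ZMod 2) =>
        orb (R := ZMod 2) !![0, 1; 1, 1] M = 0) : Set (Matrix (Fin 2) (Fin 2) (ZMod 2))) := by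
    rintro a ⟨h, Y, rfl, hY⟩
    refine ⟨(red k h).mapMatrix Y, by simpa using hY, ?_⟩
    refine congrArg (1 + ·) ?_
    ext i j
    exact top_dep k h (congrFun (congrFun (hs ((red k h).mapMatrix Y)) i) j)
  refine (Set.ncard_le_ncard hsub (Set.toFinite _)).trans
    (le_trans (Set.ncard_image_le (Set.toFinite _)) ?_)
  rw [Set.ncard_coe_finset, f2_card]

private theorem exists_conj_C (hk : 2 ≤ k) (H : Subgroup (GL (Fin 2) (ZMod (2 ^ k))))
    (h : Nonempty (↥H ≃* ↥(alternatingGroup (Fin 4)))) :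
    ∃ g C₀ : GL (Fin 2) (ZMod (2 ^ k)), (C₀ : M2 k) = CM k ∧
      g⁻¹ * C₀ * g ∈ H ∧
      ∀ x : GL (Fin 2) (ZMod (2 ^ k)), x ∈ H → x * x = 1 →
        ((g * x * g⁻¹ : GL (Fin 2) (ZMod (2 ^ k))) : M2 k) ∈ fourSet k := by
  obtain ⟨e⟩ := h
  obtain ⟨hrel, ⟨c, hc3, hc1⟩, -, -⟩ := a4_facts
  set w : ↥H := e.symm c with hw
  have hk1 : 1 ≤ k := by omega
  set φ := (red k hk1).mapMatrix (m := Fin 2) with hφ
  set W : M2 k := ((w : GL (Fin 2) (ZMod (2 ^ k))) : M2 k) with hW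
  have hw3 : w * w * w = 1 := by rw [hw, ← map_mul, ← map_mul, hc3, map_one]
  have hW3 : W * W * W = 1 := congrArg (fun z : ↥H => ((z : GL (Fin 2) (ZMod (2 ^ k))) : M2 k)) hw3
  have hker : φ W ≠ 1 := by
    intro h1
    obtain ⟨Z, hZ⟩ := (redm_eq_zero k hk1 (W - 1)).1 (by
      rw [map_sub, map_one, show (red k hk1).mapMatrix W = 1 from h1, sub_self])
    have e1 : (W * W + W + 1) * (W - 1) = 0 := by
      rw [add_mul, add_mul, mul_sub, mul_sub, mul_one, mul_one, hW3, one_mul]; abel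
    have hu : IsUnit (W * W + W + 1) := by
      rw [Matrix.isUnit_iff_isUnit_det]
      by_contra hnu
      have hd : red k hk1 (W * W + W + 1).det = 0 := by
        rcases (by decide : ∀ z : ZMod 2, z = 0 ∨ z = 1) (red k hk1 (W * W + W + 1).det) with hz | hz
        · exact hz
        · exfalso
          apply hnu
          obtain ⟨n, hn⟩ := ZMod.natCast_zmod_surjective (W * W + W + 1).det
          rw [← hn, red, map_natCast, ZMod.natCast_eq_one_iff_odd] at hz
          rw [← hn, ZMod.isUnit_iff_coprime]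
          exact Nat.Coprime.pow_right _ (Nat.coprime_two_right.2 hz)
      rw [RingHom.map_det, map_add, map_add, map_mul, map_one,
        show (red k hk1).mapMatrix W = 1 from h1] at hd
      revert hd
      simp [Matrix.det_fin_two]
      decide
    have e2 : W = 1 := sub_eq_zero.1 (hu.mul_right_eq_zero.1 e1)
    apply hc1
    have e3 : w = 1 := Subtype.ext (Units.ext e2)
    rw [hw] at e3
    simpa using congrArg e e3
  obtain ⟨hf1, hf2⟩ := f2_fix (φ W) (by rw [← map_mul, ← map_mul, hW3, map_one]) hker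
  -- `W² + W + 1 = 0`
  have hW1 : W * W + W + 1 = 0 := by
    have e1 : (W - 1) * (W * W + W + 1) = 0 := by
      rw [sub_mul, one_mul, mul_add, mul_add, mul_one, ← mul_assoc, hW3]; abel
    have hu : IsUnit (W - 1) := by
      rw [Matrix.isUnit_iff_isUnit_det]
      obtain ⟨n, hn⟩ := ZMod.natCast_zmod_surjective (W - 1).det
      rw [← hn, ZMod.isUnit_iff_coprime]
      refine Nat.Coprime.pow_right _ (Nat.coprime_two_right.2 (ZMod.natCast_eq_one_iff_odd.1 ?_))
      have h5 : red k hk1 ((n : ℕ) : ZMod (2 ^ k)) = (φ W - 1).det := by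
        rw [hn, RingHom.map_det, map_sub, map_one]
      rw [red, map_natCast] at h5
      rw [h5]
      exact (by decide +kernel : ∀ M : Matrix (Fin 2) (Fin 2) (ZMod 2),
        M * M + M + 1 = 0 → (M - 1).det = 1) _ hf1
    exact hu.mul_right_eq_zero.1 e1
  set P : M2 k := !![1, W 0 0; 0, W 1 0] with hP
  have hPu : IsUnit P := by
    rw [Matrix.isUnit_iff_isUnit_det]
    obtain ⟨n, hn⟩ := ZMod.natCast_zmod_surjective (W 1 0)
    have : P.det = (n : ZMod (2 ^ k)) := by rw [hn, hP]; simp [Matrix.det_fin_two]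
    rw [this, ZMod.isUnit_iff_coprime]
    refine Nat.Coprime.pow_right _ (Nat.coprime_two_right.2 (ZMod.natCast_eq_one_iff_odd.1 ?_))
    have h5 : red k hk1 ((n : ℕ) : ZMod (2 ^ k)) = φ W 1 0 := by rw [hn]; rfl
    rw [red, map_natCast] at h5
    rw [h5, hf2]
  have hWP : W * P = P * CM k := by
    have a00 := congrFun (congrFun hW1 0) 0
    have a10 := congrFun (congrFun hW1 1) 0
    simp [Matrix.mul_apply, Fin.sum_univ_two] at a00 a10
    ext i j
    fin_cases i <;> fin_cases j <;> simp [hP, CM, Matrix.mul_apply, Fin.sum_univ_two]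
    · linear_combination a00
    · linear_combination a10
  obtain ⟨C₀, hC₀⟩ : ∃ C : GL (Fin 2) (ZMod (2 ^ k)),
      C = hPu.unit⁻¹ * (w : GL (Fin 2) (ZMod (2 ^ k))) * hPu.unit := ⟨_, rfl⟩
  have hC₀' : (C₀ : M2 k) = CM k := by
    rw [hC₀, Units.val_mul, Units.val_mul, IsUnit.unit_spec, mul_assoc, ← hW, hWP, ← mul_assoc,
      IsUnit.val_inv_mul, one_mul]
  refine ⟨hPu.unit⁻¹, C₀, hC₀', ?_, fun x hxH hx => ?_⟩
  · rw [hC₀, inv_inv]
    simp [mul_assoc]
  rw [inv_inv]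
  set y : GL (Fin 2) (ZMod (2 ^ k)) := hPu.unit⁻¹ * x * hPu.unit with hy
  have hx' : (⟨x, hxH⟩ : ↥H) * ⟨x, hxH⟩ = 1 := Subtype.ext hx
  have h9 := hrel (e ⟨x, hxH⟩) c (by rw [← map_mul, hx', map_one]) hc3 hc1
  rw [show c = e w by rw [hw, MulEquiv.apply_symm_apply]] at h9
  simp only [← map_mul, ← map_inv] at h9
  have h10 := congrArg Subtype.val (e.injective (h9.trans (map_one e).symm))
  simp only [Subgroup.coe_mul, InvMemClass.coe_inv, OneMemClass.coe_one] at h10
  have hC3 : C₀ * (C₀ * C₀) = 1 := Units.ext (by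
    rw [Units.val_mul, Units.val_mul, hC₀', Units.val_one, CM_cube])
  have hy2 : y * y = 1 := by
    calc y * y = hPu.unit⁻¹ * (x * x) * hPu.unit := by rw [hy]; group
      _ = 1 := by rw [hx]; group
  have hyrel : y * (C₀ * y * (C₀ * C₀)) * (C₀ * C₀ * y * C₀) = 1 := by
    have e1 : C₀ * C₀ = C₀⁻¹ := eq_inv_of_mul_eq_one_right hC3
    rw [show (C₀ * C₀ * y * C₀ : GL (Fin 2) (ZMod (2 ^ k))) = C₀ * C₀ * y * (C₀ * C₀)⁻¹ by
      rw [e1, inv_inv]]
    rw [show C₀ * y * (C₀ * C₀) = C₀ * y * C₀⁻¹ by rw [e1]]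
    calc _ = hPu.unit⁻¹ * (x * ((w : GL (Fin 2) (ZMod (2 ^ k))) * x * (w : GL (Fin 2) (ZMod (2 ^ k)))⁻¹)
          * ((w : GL (Fin 2) (ZMod (2 ^ k))) * w * x * ((w : GL (Fin 2) (ZMod (2 ^ k))) * w)⁻¹)) *
            hPu.unit := by rw [hy, hC₀]; group
      _ = 1 := by rw [h10]; group
  obtain ⟨Y, hY1, hY2⟩ := level k hk (y : M2 k) (by rw [← Units.val_mul, hy2, Units.val_one]) (by
    have h := congrArg Units.val hyrel
    simpa [Units.val_mul, hC₀'] using h)
  exact ⟨hk1, Y, hY1, hY2⟩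

private theorem twelve {H : Subgroup (GL (Fin 2) (ZMod (2 ^ k)))} (hk : 2 ≤ k)
    (h : Nonempty (↥H ≃* ↥(alternatingGroup (Fin 4)))) :
    ∃ g C₀ : GL (Fin 2) (ZMod (2 ^ k)), (C₀ : M2 k) = CM k ∧
      H.map (MulAut.conj g).toMonoidHom =
        Subgroup.closure (insert C₀ {a : GL (Fin 2) (ZMod (2 ^ k)) | (a : M2 k) ∈ fourSet k}) := by
  classical
  obtain ⟨g, C₀, hC₀, hC, hV⟩ := exists_conj_C k hk H h
  obtain ⟨e⟩ := h
  obtain ⟨-, -, h4, h12⟩ := a4_facts
  haveI : NeZero (2 ^ k) := ⟨by positivity⟩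
  set K := H.map (MulAut.conj g).toMonoidHom with hK
  set S : Set (GL (Fin 2) (ZMod (2 ^ k))) := {a | (a : M2 k) ∈ fourSet k} with hS
  have hcK : Nat.card K = 12 := by
    rw [hK, Subgroup.card_map_of_injective (MulAut.conj g).injective, Nat.card_congr e.toEquiv,
      Nat.card_eq_fintype_card, h12]
  set T : Set (GL (Fin 2) (ZMod (2 ^ k))) :=
    (fun x : ↥(alternatingGroup (Fin 4)) => g * (e.symm x : GL (Fin 2) (ZMod (2 ^ k))) * g⁻¹) ''
      ((Finset.univ.filter fun x : ↥(alternatingGroup (Fin 4)) => x * x = 1) :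
        Set ↥(alternatingGroup (Fin 4))) with hT
  have hinj : Function.Injective
      (fun x : ↥(alternatingGroup (Fin 4)) => g * (e.symm x : GL (Fin 2) (ZMod (2 ^ k))) * g⁻¹) :=
    fun a b hab => e.symm.injective (Subtype.ext (by simpa using hab))
  have hTcard : T.ncard = 4 := by
    rw [hT, Set.ncard_image_of_injective _ hinj, Set.ncard_coe_finset, h4]
  have hT2 : ∀ a ∈ T, a * a = 1 ∧ a ∈ K ∧ a ∈ S := by
    rintro _ ⟨x, hx, rfl⟩
    simp only [Finset.coe_filter, Finset.mem_univ, true_and, Set.mem_setOf_eq] at hx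
    have h2 : (e.symm x : GL (Fin 2) (ZMod (2 ^ k))) * e.symm x = 1 := by
      rw [← Subgroup.coe_mul, ← map_mul, hx, map_one]; rfl
    refine ⟨?_, ⟨_, (e.symm x).2, rfl⟩, hV _ (e.symm x).2 h2⟩
    calc _ = g * ((e.symm x : GL (Fin 2) (ZMod (2 ^ k))) * e.symm x) * g⁻¹ := by group
      _ = 1 := by rw [h2]; group
  have hST : S = T := by
    refine (Set.eq_of_subset_of_ncard_le (fun a ha => (hT2 a ha).2.2) ?_ (Set.toFinite _)).symm
    rw [hTcard]
    refine le_trans ?_ (fourSet_card k (by omega))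
    exact Set.ncard_le_ncard_of_injOn (fun a => (a : M2 k)) (fun a ha => ha)
      (fun a _ b _ hab => Units.ext hab) (Set.toFinite _)
  have hCK : C₀ ∈ K := ⟨_, hC, by simp [mul_assoc]⟩
  refine ⟨g, C₀, hC₀, le_antisymm ?_ ((Subgroup.closure_le K).2 ?_)⟩
  swap
  · rintro a (rfl | ha)
    · exact hCK
    · rw [hST] at ha; exact (hT2 a ha).2.1
  set D := Subgroup.closure (insert C₀ S)
  have hDK : D ≤ K := (Subgroup.closure_le K).2 (by
    rintro a (rfl | ha)
    · exact hCK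
    · exact (hT2 a (hST ▸ ha)).2.1)
  refine (Subgroup.eq_of_le_of_card_ge hDK ?_).ge
  have hd12 : Nat.card D ∣ 12 := hcK ▸ Subgroup.card_dvd_of_le hDK
  have h3 : 3 ∣ Nat.card D := by
    have hCne : C₀ ≠ 1 := fun e1 => by
      have h0 : CM k = 1 := hC₀ ▸ congrArg (fun z : GL (Fin 2) (ZMod (2 ^ k)) => (z : M2 k)) e1
      have h := congrFun (congrFun h0 0) 0
      simp [CM] at h
      have : Fact (1 < 2 ^ k) := ⟨Nat.one_lt_two_pow (by omega)⟩
      exact zero_ne_one h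
    have ho : orderOf C₀ = 3 := orderOf_eq_prime (hp := ⟨Nat.prime_three⟩) (Units.ext (by
      rw [pow_three, Units.val_mul, Units.val_mul, hC₀, CM_cube, Units.val_one])) hCne
    rw [← ho]
    exact (Subgroup.orderOf_coe (⟨C₀, Subgroup.subset_closure (Set.mem_insert _ _)⟩ : ↥D)).symm ▸
      orderOf_dvd_natCard _
  have h4' : 4 ≤ (Finset.univ.filter fun x : ↥D => x * x = 1).card := by
    rw [← hTcard, ← Set.ncard_coe_finset]
    refine Set.ncard_le_ncard_of_injOn (fun a => if h : a ∈ D then (⟨a, h⟩ : ↥D) else 1) ?_ ?_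
      (Set.toFinite _)
    · intro a ha
      have haD : a ∈ D := Subgroup.subset_closure (Set.mem_insert_of_mem _ (hST ▸ ha))
      simp only [haD, dif_pos, Finset.coe_filter, Finset.mem_univ, true_and, Set.mem_setOf_eq]
      exact Subtype.ext (hT2 a ha).1
    · intro a ha b hb hab
      have haD : a ∈ D := Subgroup.subset_closure (Set.mem_insert_of_mem _ (hST ▸ ha))
      have hbD : b ∈ D := Subgroup.subset_closure (Set.mem_insert_of_mem _ (hST ▸ hb))
      simp only [haD, hbD, dif_pos] at hab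
      exact congrArg Subtype.val hab
  have h5 : 4 < Nat.card D ∨ Nat.card D = 4 := by
    have := h4'.trans (Finset.card_le_univ _)
    rw [← Nat.card_eq_fintype_card] at this
    omega
  rw [hcK]
  rcases h5 with h6 | h6
  · by_contra hlt
    push Not at hlt
    have h6' : Nat.card D = 6 := by
      generalize Nat.card D = n at hd12 h6 hlt h3
      interval_cases n <;> omega
    haveI : Fact (Nat.Prime 2) := ⟨Nat.prime_two⟩
    have h7 : (Nat.card D).factorization 2 = 1 := by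
      rw [h6', show (6 : ℕ) = 2 * 3 by rfl, Nat.factorization_mul two_ne_zero three_ne_zero]
      simp [Nat.Prime.factorization, Nat.prime_two, Nat.prime_three]
    -- a group of order 6 has no four commuting elements of exponent two
    have hclosed : ∀ a ∈ T, ∀ b ∈ T, a * b = b * a := by
      rintro _ ⟨x, hx, rfl⟩ _ ⟨y, hy, rfl⟩
      simp only [Finset.coe_filter, Finset.mem_univ, true_and, Set.mem_setOf_eq] at hx hy
      have hxy := (by decide +kernel : ∀ a b : ↥(alternatingGroup (Fin 4)),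
        a * a = 1 → b * b = 1 → a * b = b * a) x y hx hy
      calc _ = g * ((e.symm x : GL (Fin 2) (ZMod (2 ^ k))) * e.symm y) * g⁻¹ := by group
        _ = g * ((e.symm y : GL (Fin 2) (ZMod (2 ^ k))) * e.symm x) * g⁻¹ := by
          rw [← Subgroup.coe_mul, ← map_mul, hxy, map_mul, Subgroup.coe_mul]
        _ = _ := by group
    let V : Subgroup (GL (Fin 2) (ZMod (2 ^ k))) := Subgroup.closure T
    have hVD : V ≤ D := (Subgroup.closure_le D).2 fun a ha => Subgroup.subset_closure (Set.mem_insert_of_mem _ (hST ▸ ha))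
    have hVab : ∀ a ∈ V, ∀ b ∈ V, a * b = b * a := fun a ha b hb => by
      have h8 : V ≤ centralizer (V : Set (GL (Fin 2) (ZMod (2 ^ k)))) := by
        refine (Subgroup.closure_le _).2 fun a ha => ?_
        rw [SetLike.mem_coe, Subgroup.centralizer_closure]
        exact fun b hb => hclosed b hb a ha
      exact (h8 hb a ha)
    have hVp : IsPGroup 2 V := by
      intro v
      refine ⟨1, Subtype.ext ?_⟩
      show (v : GL (Fin 2) (ZMod (2 ^ k))) ^ (2 ^ 1) = 1
      rw [pow_one]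
      refine Subgroup.closure_induction (p := fun a _ => a ^ 2 = 1) (fun a ha => ?_) (one_pow 2)
        (fun a b ha hb h1 h2 => ?_) (fun a _ h1 => by rw [inv_pow, h1, inv_one]) v.2
      · rw [pow_two]; exact (hT2 a ha).1
      · rw [(show Commute a b from hVab a ha b hb).mul_pow, h1, h2, one_mul]
    obtain ⟨n, hn⟩ := IsPGroup.iff_card.1 hVp
    have h9 : Nat.card V ∣ 6 := h6' ▸ Subgroup.card_dvd_of_le hVD
    have h10 : 4 ≤ Nat.card V := by
      rw [← hTcard, ← Nat.card_coe_set_eq]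
      exact Nat.card_le_card_of_injective (fun a => (⟨a.1, Subgroup.subset_closure a.2⟩ : ↥V))
        fun a b hab => Subtype.ext (congrArg Subtype.val hab :)
    rw [hn] at h9 h10
    have : 2 ^ 2 ∣ 2 ^ n := pow_dvd_pow 2 (by
      by_contra hc
      interval_cases n <;> simp at h10)
    exact absurd (this.trans h9) (by decide)
  · omega

/-- For k ≥ 2, any two subgroups of GL₂(ℤ/2ᵏℤ) (the automorphism group of the homocyclic group ℤ/2ᵏ × ℤ/2ᵏ) that are isomorphic to the alternating group of degree 4 are conjugate. -/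
theorem result (k : ℕ) (hk : 2 ≤ k) (H₁ H₂ : Subgroup (GL (Fin 2) (ZMod (2 ^ k)))) (h₁ : Nonempty (↥H₁ ≃* ↥(alternatingGroup (Fin 4)))) (h₂ : Nonempty (↥H₂ ≃* ↥(alternatingGroup (Fin 4)))) : ∃ g : GL (Fin 2) (ZMod (2 ^ k)), H₂ = H₁.map (MulAut.conj g).toMonoidHom := by
  obtain ⟨g₁, C₁, hC₁, e₁⟩ := twelve k hk h₁
  obtain ⟨g₂, C₂, hC₂, e₂⟩ := twelve k hk h₂
  obtain rfl : C₁ = C₂ := Units.ext (hC₁.trans hC₂.symm)
  refine ⟨g₂⁻¹ * g₁, ?_⟩
  rw [← CfsgLib.Large.cj_cj, e₁, ← e₂, CfsgLib.Large.cj_inv_cj]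

end Cfsg.Agent.S2874
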