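import Cfsg.Statements.S2879
import Cfsg.Agent.Lib.Large.SLTwoThree
import Cfsg.Agent.Lib.InvChar.SolvableTwo
import Cfsg.Agent.Lib.TwoGroups.Semidihedral
import Cfsg.Agent.Lib.OddOrder.PiCore
import Cfsg.Agent.Lib.Large.Basic
import Cfsg.Agent.Lib.LocalEven.SylowIn

set_option autoImplicit false
open Cfsg

namespace Cfsg.Agent.S2879

open Cfsg Subgroup CfsgLib.Large

private theorem cyclic_mem {G : Type*} [Group G] [Finite G] {R : Subgroup G} [IsCyclic ↥R] {x y : G}
    (hx : x ∈ R) (hy : y ∈ R) (h : orderOf x ∣ orderOf y) : x ∈ zpowers y := by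
  classical
  haveI := Fintype.ofFinite ↥R
  set y' : ↥R := ⟨y, hy⟩ with hy'
  have hn : 0 < orderOf y' := orderOf_pos y'
  have hle := IsCyclic.card_pow_eq_one_le (α := ↥R) hn
  set S1 := (zpowers y' : Set ↥R).toFinset with hS1
  have hsub : S1 ⊆ Finset.univ.filter fun a : ↥R => a ^ orderOf y' = 1 := by
    intro a ha
    rw [hS1, Set.mem_toFinset, SetLike.mem_coe, mem_zpowers_iff] at ha
    obtain ⟨i, rfl⟩ := ha
    simp only [Finset.mem_filter, Finset.mem_univ, true_and]
    rw [← zpow_natCast, ← zpow_mul, mul_comm, zpow_mul, zpow_natCast, pow_orderOf_eq_one, one_zpow]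
  have hc : S1.card = orderOf y' := by
    rw [hS1, Set.toFinset_card, ← Nat.card_eq_fintype_card]
    exact Nat.card_zpowers y'
  have heq := Finset.eq_of_subset_of_card_le hsub (hle.trans hc.ge)
  have hxm : (⟨x, hx⟩ : ↥R) ∈ Finset.univ.filter fun a : ↥R => a ^ orderOf y' = 1 := by
    simp only [Finset.mem_filter, Finset.mem_univ, true_and]
    refine orderOf_dvd_iff_pow_eq_one.1 ?_
    rw [← Subgroup.orderOf_coe, ← Subgroup.orderOf_coe y']
    exact h
  rw [← heq, hS1, Set.mem_toFinset, SetLike.mem_coe, mem_zpowers_iff] at hxm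
  obtain ⟨i, hi⟩ := hxm
  exact mem_zpowers_iff.2 ⟨i, by simpa using congrArg Subtype.val hi⟩

set_option maxHeartbeats 2000000 in
/-- the core: `F = O₂(G)` and an element of odd order acting on it non-trivially -/
private theorem core {G : Type*} [Group G] [Finite G] (T R F : Subgroup G) (hFn : F.Normal)
    (hF2 : IsPGroup 2 F) (hCF : centralizer (F : Set G) ≤ F) (hFT : F ≤ T) (hRT : R ≤ T)
    [IsCyclic ↥R]
    (hidx : ∀ x ∈ T, ∀ y ∈ T, x ∉ R → y ∉ R → x * y ∈ R)
    (hout : ∀ x ∈ T, x ∉ R → x ^ 4 = 1)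
    (hcen : T ⊓ centralizer (T : Set G) ≤ R) (hZn : (T ⊓ centralizer (T : Set G)).Normal)
    (hpar : ∀ n ∈ R, n ^ 4 = 1 → ∀ w ∈ T, w ∉ R → w ^ 2 ≠ 1 → (n * w) ^ 2 ≠ 1)
    {g : G} (hg : Odd (orderOf g)) (hgF : ¬ ∀ x ∈ F, g * x = x * g) :
    ∃ U : Subgroup G, U.Normal ∧ Nonempty (↥U ≃* Matrix.SpecialLinearGroup (Fin 2) (ZMod 3)) := by
  classical
  have hRn : ∀ t ∈ T, ∀ x ∈ R, t * x * t⁻¹ ∈ R := by
    intro t ht x hx
    by_cases htR : t ∈ R
    · exact mul_mem (mul_mem htR hx) (inv_mem htR)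
    · exact hidx _ (mul_mem ht (hRT hx)) _ (inv_mem ht)
        (fun e => htR (by simpa using mul_mem e (inv_mem hx))) (fun e => htR (by simpa using inv_mem e))
  have huni : ∀ u ∈ R, ∀ v ∈ R, u ^ 2 = 1 → v ^ 2 = 1 → u ≠ 1 → v ≠ 1 → u = v := by
    intro u hu v hv hu2 hv2 hu1 hv1
    have ho : orderOf u = 2 := orderOf_eq_prime (hp := ⟨Nat.prime_two⟩) hu2 hu1
    have ho' : orderOf v = 2 := orderOf_eq_prime (hp := ⟨Nat.prime_two⟩) hv2 hv1
    obtain ⟨i, hi⟩ := mem_zpowers_iff.1 (cyclic_mem hu hv (by rw [ho, ho']))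
    rcases Int.even_or_odd i with ⟨j, rfl⟩ | ⟨j, rfl⟩
    · exfalso; apply hu1
      rw [← hi, ← two_mul, zpow_mul, show ((2 : ℤ)) = ((2 : ℕ) : ℤ) from rfl, zpow_natCast, hv2, one_zpow]
    · rw [← hi, zpow_add, zpow_mul, show ((2 : ℤ)) = ((2 : ℕ) : ℤ) from rfl, zpow_natCast, hv2,
        one_zpow, one_mul, zpow_one]
  have hconj2 : ∀ (t u : G), u ^ 2 = 1 → (t * u * t⁻¹) ^ 2 = 1 := fun t u hu => by
    rw [conj_pow, hu, mul_one, mul_inv_cancel]
  have hsqcen : ∀ u ∈ R, u ^ 2 = 1 → u ∈ T ⊓ centralizer (T : Set G) := by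
    intro u hu hu2
    refine Subgroup.mem_inf.2 ⟨hRT hu, fun t ht => ?_⟩
    by_cases hu1 : u = 1
    · simp [hu1]
    · have h := huni _ (hRn t ht u hu) u hu (hconj2 t u hu2) hu2
        (fun e => hu1 (conj_eq_one_iff.1 e)) hu1
      exact (mul_inv_eq_iff_eq_mul.1 h)
  have hcyc : ∀ (g' u : G), Odd (orderOf g') → u ∈ F → g' * u * g'⁻¹ ∈ zpowers u →
      g' * u = u * g' := by
    intro g' u hg' hu hm
    refine CfsgLib.InvChar.commute_of_odd_of_cyclic hg' (zpowers u) (hF2.to_le (zpowers_le.2 hu)) ?_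
      (mem_zpowers u)
    refine mem_normalizer_of_conj_mem fun z hz => ?_
    obtain ⟨i, rfl⟩ := mem_zpowers_iff.1 hz
    rw [← conj_zpow]
    exact zpow_mem hm i
  have hsqodd : ∀ (g' u : G), Odd (orderOf g') → g' * g' * u = u * (g' * g') → g' * u = u * g' := by
    intro g' u hg' h
    obtain ⟨k, hk⟩ := hg'
    have hd : g' = (g' * g') ^ (k + 1) := by
      rw [← pow_two, ← pow_mul, show 2 * (k + 1) = (2 * k + 1) + 1 by ring, pow_succ, ← hk,
        pow_orderOf_eq_one, one_mul]
    rw [hd]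
    exact (show Commute (g' * g') u from h).pow_left (k + 1)
  -- an element of `F ∩ R` moved out of `R`
  obtain ⟨a, haF, haR, hbR⟩ : ∃ a ∈ F, a ∈ R ∧ g * a * g⁻¹ ∉ R := by
    by_contra hc
    push Not at hc
    apply hgF
    haveI : IsCyclic ↥(F ⊓ R : Subgroup G) := Subgroup.isCyclic_of_le inf_le_right
    have hN : ∀ x ∈ F ⊓ R, g * x = x * g := fun x hx =>
      CfsgLib.InvChar.commute_of_odd_of_cyclic hg (F ⊓ R) (hF2.to_le inf_le_left)
        (mem_normalizer_of_conj_mem fun y hy => Subgroup.mem_inf.2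
          ⟨hFn.conj_mem y (Subgroup.mem_inf.1 hy).1 g,
            hc y (Subgroup.mem_inf.1 hy).1 (Subgroup.mem_inf.1 hy).2⟩) hx
    intro w hw
    by_cases hwR : w ∈ R
    · exact hN w (Subgroup.mem_inf.2 ⟨hw, hwR⟩)
    have hgwF : g * w * g⁻¹ ∈ F := hFn.conj_mem w hw g
    have hgwR : g * w * g⁻¹ ∉ R := by
      intro e
      apply hwR
      have h1 : ∀ n : ℕ, g ^ (n + 1) * w * (g ^ (n + 1))⁻¹ = g * w * g⁻¹ := by
        intro n
        induction n with
        | zero => simp
        | succ n ih =>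
          rw [pow_succ' g (n + 1), mul_inv_rev]
          calc g * g ^ (n + 1) * w * ((g ^ (n + 1))⁻¹ * g⁻¹)
              = g * (g ^ (n + 1) * w * (g ^ (n + 1))⁻¹) * g⁻¹ := by group
            _ = g * (g * w * g⁻¹) * g⁻¹ := by rw [ih]
            _ = g * w * g⁻¹ := by
              rw [hN _ (Subgroup.mem_inf.2 ⟨hgwF, e⟩), mul_inv_cancel_right]
      obtain ⟨m, hm⟩ : ∃ m, orderOf g = m + 1 := ⟨orderOf g - 1, by have := orderOf_pos g; omega⟩
      have h2 := h1 m
      rw [← hm, pow_orderOf_eq_one, one_mul, inv_one, mul_one] at h2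
      rw [h2]; exact e
    have hrR : w⁻¹ * (g * w * g⁻¹) ∈ F ⊓ R := Subgroup.mem_inf.2
      ⟨mul_mem (inv_mem hw) hgwF,
        hidx _ (inv_mem (hFT hw)) _ (hFT hgwF) (fun e => hwR (by simpa using inv_mem e)) hgwR⟩
    refine CfsgLib.InvChar.commute_of_odd_of_chain hg ?_ (hN _ hrR) (by group)
    obtain ⟨k, hk⟩ := hF2 ⟨_, (Subgroup.mem_inf.1 hrR).1⟩
    exact ⟨k, congrArg Subtype.val hk⟩
  obtain ⟨b, hb⟩ : ∃ b, b = g * a * g⁻¹ := ⟨_, rfl⟩
  have hbF : b ∈ F := hb ▸ hFn.conj_mem a haF g
  rw [← hb] at hbR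
  have hb4 : b ^ 4 = 1 := hout b (hFT hbF) hbR
  have ha4 : a ^ 4 = 1 := by
    have : g * a ^ 4 * g⁻¹ = 1 := by rw [← conj_pow, ← hb, hb4]
    exact conj_eq_one_iff.1 this
  have ha2 : a ^ 2 ≠ 1 := fun e => hbR (hb ▸ hcen (hZn.conj_mem a (hsqcen a haR e) g))
  set c := a ^ 2 with hc
  have hc2 : c ^ 2 = 1 := by rw [hc, ← pow_mul, ha4]
  have hcR : c ∈ R := pow_mem haR 2
  have hcF : c ∈ F := pow_mem haF 2
  have hgc : g * c * g⁻¹ = c := by
    refine huni _ (hcen (hZn.conj_mem c (hsqcen c hcR hc2) g)) c hcR (hconj2 g c hc2) hc2 ?_ ha2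
    intro e
    exact ha2 (conj_eq_one_iff.1 e)
  have hbb : b * b = c := by rw [← pow_two, hb, conj_pow, ← hc, hgc]
  have hca : a * a = c := (pow_two a).symm
  have hac : a * c = c * a := ((Commute.refl a).pow_right 2).eq
  have hbc : b * c = c * b := by rw [← hbb]; exact (mul_assoc b b b).symm
  have hcc : c * c = 1 := by rw [← pow_two, hc2]
  have hsq : ∀ u : G, u * u = c → u * c = c * u → u * c * (u * c) = c := fun u hu hcu => by
    calc u * c * (u * c) = u * (c * u) * c := by simp only [mul_assoc]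
      _ = u * u * (c * c) := by rw [← hcu]; simp only [mul_assoc]
      _ = c := by rw [hu, hcc, mul_one]
  have hN : ∀ x ∈ F, x ∈ R → x = 1 ∨ x = a ∨ x = c ∨ x = a * c := by
    intro x hxF hxR
    have ho : orderOf a = 4 := orderOf_eq_prime_pow (hp := ⟨Nat.prime_two⟩) (n := 1)
      (by simpa using ha2) (by simpa using ha4)
    have hx4 : x ^ 4 = 1 := by
      by_contra hx4
      obtain ⟨k, hk⟩ := (IsPGroup.iff_orderOf (p := 2)).1 hF2 ⟨x, hxF⟩
      rw [← Subgroup.orderOf_coe] at hk
      have h3 : 3 ≤ k := by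
        by_contra hk3
        refine hx4 (orderOf_dvd_iff_pow_eq_one.1 ?_)
        rw [hk, show (4 : ℕ) = 2 ^ 2 by norm_num]
        exact pow_dvd_pow 2 (by omega)
      obtain ⟨i, hi⟩ := mem_zpowers_iff.1 (cyclic_mem haR hxR (by
        rw [ho, hk, show (4 : ℕ) = 2 ^ 2 by norm_num]; exact pow_dvd_pow 2 (by omega)))
      have hgxR : g * x * g⁻¹ ∈ R := by
        by_contra hgxR
        have := hout _ (hFT (hFn.conj_mem x hxF g)) hgxR
        rw [conj_pow] at this
        exact hx4 (conj_eq_one_iff.1 this)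
      apply hbR
      rw [hb, ← hi, ← conj_zpow]
      exact zpow_mem hgxR i
    obtain ⟨i, hi⟩ := mem_zpowers_iff.1 (cyclic_mem hxR haR (by
      rw [ho]; exact orderOf_dvd_of_pow_eq_one hx4))
    rw [← zpow_mod_orderOf, ho] at hi
    have h0 := Int.emod_nonneg i (show ((4 : ℕ) : ℤ) ≠ 0 by norm_num)
    have h4 := Int.emod_lt_of_pos i (show (0 : ℤ) < ((4 : ℕ) : ℤ) by norm_num)
    obtain ⟨j, hj⟩ := Int.eq_ofNat_of_zero_le h0
    rw [hj, zpow_natCast] at hi
    have : j < 4 := by omega
    interval_cases j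
    · exact Or.inl (by simpa using hi.symm)
    · exact Or.inr (Or.inl (by simpa using hi.symm))
    · exact Or.inr (Or.inr (Or.inl hi.symm))
    · exact Or.inr (Or.inr (Or.inr (by rw [← hi, hc, ← pow_succ'])))
  have hab2 : a * b * (a * b) = c := by
    have hR' : a * b ∉ R := fun e => hbR (by simpa using mul_mem (inv_mem haR) e)
    have hF' := mul_mem haF hbF
    have h1 := hout _ (hFT hF') hR'
    have h2 := hpar a haR ha4 b (hFT hbF) hbR (by rw [pow_two, hbb]; exact ha2)
    rw [← pow_two]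
    refine huni _ (by rw [pow_two]; exact hidx _ (hFT hF') _ (hFT hF') hR' hR') c hcR ?_ hc2 h2 ha2
    rw [← pow_mul]; exact h1
  have hba : b * a = a * b * c := by
    calc b * a = a⁻¹ * (a * b * (a * b)) * b⁻¹ := by group
      _ = a⁻¹ * (b * b) * b⁻¹ := by rw [hab2, hbb]
      _ = a⁻¹ * b := by group
      _ = a * c * b := by
        rw [show a⁻¹ = a * c from inv_eq_of_mul_eq_one_right (by rw [← mul_assoc, hca, hcc])]
      _ = a * b * c := by rw [mul_assoc, ← hbc, ← mul_assoc]
  have cls : ∀ v ∈ F, (v = 1 ∨ v = c) ∨ (v = a ∨ v = a * c) ∨ (v = b ∨ v = b * c) ∨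
      (v = a * b ∨ v = a * b * c) := by
    intro v hv
    by_cases hvR : v ∈ R
    · rcases hN v hv hvR with h | h | h | h
      · exact Or.inl (Or.inl h)
      · exact Or.inr (Or.inl (Or.inl h))
      · exact Or.inl (Or.inr h)
      · exact Or.inr (Or.inl (Or.inr h))
    · have h1 : v * b⁻¹ ∈ R := hidx _ (hFT hv) _ (inv_mem (hFT hbF)) hvR (fun e => hbR (by simpa using inv_mem e))
      rcases hN _ (mul_mem hv (inv_mem hbF)) h1 with h | h | h | h <;>
        rw [mul_inv_eq_iff_eq_mul] at h
      · exact Or.inr (Or.inr (Or.inl (Or.inl (by simpa using h))))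
      · exact Or.inr (Or.inr (Or.inr (Or.inl h)))
      · exact Or.inr (Or.inr (Or.inl (Or.inr (by rw [h, hbc]))))
      · exact Or.inr (Or.inr (Or.inr (Or.inr (by rw [h, mul_assoc, ← hbc, ← mul_assoc]))))
  have hcall : ∀ v ∈ F, c * v = v * c := by
    intro v hv
    exact ((Subgroup.mem_inf.1 (hsqcen c hcR hc2)).2 v (hFT hv)).symm
  -- no odd element stabilises `⟨u⟩` and moves `v` outside, etc.
  have elim : ∀ (g' u v : G), Odd (orderOf g') → u ∈ F → v ∈ F → g' * u * g'⁻¹ = v →
      v ∉ zpowers u → g' * v * g'⁻¹ ∉ zpowers u ∧ g' * v * g'⁻¹ ∉ zpowers v := by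
    intro g' u v hg' hu hv huv hne
    refine ⟨fun e => hne ?_, fun e => hne ?_⟩
    · have h1 : g' * g' * u * (g' * g')⁻¹ ∈ zpowers u := by
        rw [show g' * g' * u * (g' * g')⁻¹ = g' * (g' * u * g'⁻¹) * g'⁻¹ by group, huv]; exact e
      have h2 := hcyc (g' * g') u (by
        rw [← pow_two]
        exact hg'.of_dvd_nat (orderOf_pow_dvd 2)) hu h1
      rw [← huv, hsqodd g' u hg' h2, mul_inv_cancel_right]
      exact mem_zpowers u
    · have h1 := hcyc g' v hg' hv e
      have h3 : g' * v * g'⁻¹ = g' * u * g'⁻¹ := by rw [huv, h1, mul_inv_cancel_right]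
      have h4 : v = u := by simpa using h3
      rw [h4]; exact mem_zpowers _
  have hzc : ∀ u : G, u * u = c → ∀ v, (v = 1 ∨ v = c) ∨ (v = u ∨ v = u * c) → v ∈ zpowers u := by
    intro u hu v hv
    have hcz : c ∈ zpowers u := hu ▸ mul_mem (mem_zpowers u) (mem_zpowers u)
    rcases hv with (e | e) | (e | e) <;> rw [e]
    · exact one_mem _
    · exact hcz
    · exact mem_zpowers u
    · exact mul_mem (mem_zpowers u) hcz
  have hzu : ∀ u : G, u * u = c → ∀ v ∈ zpowers u, v = 1 ∨ v = c ∨ v = u ∨ v = u * c := by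
    intro u hu v hv
    have hu4 : u ^ 4 = 1 := by rw [show (4 : ℕ) = 2 + 2 from rfl, pow_add, pow_two, hu, hcc]
    obtain ⟨i, rfl⟩ := mem_zpowers_iff.1 hv
    rw [← Int.emod_add_mul_ediv i 4, zpow_add, zpow_mul, show ((4 : ℤ)) = ((4 : ℕ) : ℤ) from rfl,
      zpow_natCast, hu4, one_zpow, mul_one]
    have h0 := Int.emod_nonneg i (show ((4 : ℕ) : ℤ) ≠ 0 by norm_num)
    have h4 := Int.emod_lt_of_pos i (show (0 : ℤ) < ((4 : ℕ) : ℤ) by norm_num)
    obtain ⟨j, hj⟩ := Int.eq_ofNat_of_zero_le h0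
    rw [hj, zpow_natCast]
    have : j < 4 := by omega
    interval_cases j
    · exact Or.inl (pow_zero u)
    · exact Or.inr (Or.inr (Or.inl (pow_one u)))
    · exact Or.inr (Or.inl (by rw [pow_two, hu]))
    · exact Or.inr (Or.inr (Or.inr (by rw [pow_succ', pow_two, hu])))
  have hb_notin : b ∉ zpowers a := fun e => hbR ((zpowers_le.2 haR) e)
  have hgb : g * b * g⁻¹ = a * b ∨ g * b * g⁻¹ = a * b * c := by
    obtain ⟨h1, h2⟩ := elim g a b hg haF hbF hb.symm hb_notin
    rcases cls _ (hFn.conj_mem b hbF g) with h | h | h | h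
    · exact absurd (hzc a hca _ (Or.inl h)) h1
    · exact absurd (hzc a hca _ (Or.inr h)) h1
    · exact absurd (hzc b hbb _ (Or.inr h)) h2
    · exact h
  obtain ⟨I, J, hI, hJ, hgI, hgJ, hII, hJJ, hJI, hgen⟩ : ∃ I J : G, I ∈ F ∧ J ∈ F ∧
      g * I * g⁻¹ = J ∧ g * J * g⁻¹ = I * J ∧ I * I = c ∧ J * J = c ∧ J * I = I * J * c ∧
      (∀ H : Subgroup G, I ∈ H → J ∈ H → F ≤ H) := by
    have hfull : ∀ H : Subgroup G, a ∈ H → b ∈ H → F ≤ H := by
      intro H ha hb v hv
      have hcH : c ∈ H := hca ▸ mul_mem ha ha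
      rcases cls v hv with (rfl | rfl) | (rfl | rfl) | (rfl | rfl) | (rfl | rfl)
      exacts [one_mem _, hcH, ha, mul_mem ha hcH, hb, mul_mem hb hcH, mul_mem ha hb,
        mul_mem (mul_mem ha hb) hcH]
    rcases hgb with h | h
    · exact ⟨a, b, haF, hbF, hb.symm, h, hca, hbb, hba, hfull⟩
    · refine ⟨a * c, b * c, mul_mem haF hcF, mul_mem hbF hcF, ?_, ?_, ?_, ?_, ?_, fun H h1 h2 => ?_⟩
      · rw [conj_mul.symm, ← hb, hgc]
      · rw [conj_mul.symm, h, hgc]
        calc a * b * c * c = a * b := by rw [mul_assoc, hcc, mul_one]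
          _ = a * b * (c * c) := by rw [hcc, mul_one]
          _ = a * (b * c) * c := by simp only [mul_assoc]
          _ = a * (c * b) * c := by rw [hbc]
          _ = a * c * (b * c) := by simp only [mul_assoc]
      · exact hsq a hca hac
      · exact hsq b hbb hbc
      · calc b * c * (a * c) = b * a * (c * c) := by
              rw [← mul_assoc, mul_assoc b c a, ← hac, ← mul_assoc, mul_assoc]
          _ = a * b * c := by rw [hcc, mul_one, hba]
          _ = a * b * c * (c * c) := by rw [hcc, mul_one]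
          _ = a * c * (b * c) * c := by
              rw [← mul_assoc (a * c), mul_assoc a c b, ← hbc, ← mul_assoc a b c]
              simp only [mul_assoc]
      · have hcH : c ∈ H := by
          exact hsq a hca hac ▸ mul_mem h1 h1
        refine hfull H ?_ ?_
        · simpa using mul_mem h1 (inv_mem hcH)
        · simpa using mul_mem h2 (inv_mem hcH)
  have hg3 : g ^ 3 = 1 := by
    have hIJ : g * (I * J) * g⁻¹ = I := by
      rw [conj_mul.symm, hgI, hgJ, ← mul_assoc, hJI, mul_assoc (I * J) c J, hcall J hJ,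
        ← mul_assoc, mul_assoc I J J, hJJ, mul_assoc, hcc, mul_one]
    have h3 : ∀ v, g ^ 3 * v * (g ^ 3)⁻¹ = g * (g * (g * v * g⁻¹) * g⁻¹) * g⁻¹ := fun v => by
      rw [pow_succ, pow_two]; group
    have hcent : g ^ 3 ∈ centralizer (F : Set G) := by
      have : F ≤ centralizer {g ^ 3} := hgen _
        (mem_centralizer_singleton_iff.2 (mul_inv_eq_iff_eq_mul.1 (show g ^ 3 * I * (g ^ 3)⁻¹ = I by
          rw [h3, hgI, hgJ, hIJ])).symm)
        (mem_centralizer_singleton_iff.2 (mul_inv_eq_iff_eq_mul.1 (show g ^ 3 * J * (g ^ 3)⁻¹ = J by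
          rw [h3, hgJ, hIJ, hgI])).symm)
      intro v hv
      exact mem_centralizer_singleton_iff.1 (this hv)
    haveI : Fact (Nat.Prime 2) := ⟨Nat.prime_two⟩
    exact eq_one_of_mem_pgroup hF2 (hCF hcent)
      (Nat.coprime_two_right.2 (hg.of_dvd_nat (orderOf_pow_dvd 3)))
  have hg1 : g ≠ 1 := fun e => hgF fun x _ => by simp [e]
  have ho3 : orderOf g = 3 := orderOf_eq_prime (hp := ⟨Nat.prime_three⟩) hg3 hg1
  set U := F ⊔ zpowers g with hU
  have hgU : g ∈ U := (le_sup_right : zpowers g ≤ U) (mem_zpowers g)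
  have hFU : F ≤ U := le_sup_left
  refine ⟨U, ?_, ?_⟩
  · -- normality
    have step : ∀ W : G, Odd (orderOf W) → (W * a * W⁻¹ = b ∨ W * a * W⁻¹ = b * c) → W ∈ U := by
      intro W hW hWa
      set y := W * a * W⁻¹ with hy
      have hyF : y ∈ F := hFn.conj_mem a haF W
      have hyR : y ∉ R := by
        rcases hWa with e | e <;> rw [e]
        · exact hbR
        · exact fun e' => hbR (by simpa using mul_mem e' (inv_mem hcR))
      have hyy : y * y = c := by
        rcases hWa with e | e <;> rw [e]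
        · exact hbb
        · exact hsq b hbb hbc
      obtain ⟨h1, h2⟩ := elim W a y hW haF hyF rfl (fun e => hyR (zpowers_le.2 haR e))
      have hWc : W * c * W⁻¹ = c := by
        calc W * c * W⁻¹ = W * (a * a) * W⁻¹ := by rw [hca]
          _ = y * y := by rw [hy]; group
          _ = c := hyy
      have hWy : W * y * W⁻¹ = a * b ∨ W * y * W⁻¹ = a * b * c := by
        rcases cls _ (hFn.conj_mem y hyF W) with h | h | h | h
        · exact absurd (hzc a hca _ (Or.inl h)) h1
        · exact absurd (hzc a hca _ (Or.inr h)) h1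
        · refine absurd (hzc y hyy _ (Or.inr ?_)) h2
          rcases hWa with e | e <;> rcases h with h | h
          · exact Or.inl (h.trans e.symm)
          · exact Or.inr (by rw [h, e])
          · exact Or.inr (by rw [h, e, mul_assoc, hcc, mul_one])
          · exact Or.inl (h.trans e.symm)
        · exact h
      have hWb : W * b * W⁻¹ = a * b ∨ W * b * W⁻¹ = a * b * c := by
        rcases hWa with e | e
        · rwa [e] at hWy
        · have hbe : W * b * W⁻¹ = W * y * W⁻¹ * c := by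
            calc W * b * W⁻¹ = W * (y * c) * W⁻¹ := by rw [e, mul_assoc b c c, hcc, mul_one]
              _ = W * y * W⁻¹ * (W * c * W⁻¹) := by group
              _ = W * y * W⁻¹ * c := by rw [hWc]
          rcases hWy with h | h
          · exact Or.inr (by rw [hbe, h])
          · exact Or.inl (by rw [hbe, h, mul_assoc, hcc, mul_one])
      obtain ⟨h, hh⟩ : ∃ h, h = g⁻¹ * W := ⟨_, rfl⟩
      have hgci : g⁻¹ * c * g = c := by
        calc g⁻¹ * c * g = g⁻¹ * (g * c * g⁻¹) * g := by rw [hgc]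
          _ = c := by group
      have hha : h * a * h⁻¹ = a ∨ h * a * h⁻¹ = a * c := by
        rw [hh, show g⁻¹ * W * a * (g⁻¹ * W)⁻¹ = g⁻¹ * y * g by rw [hy]; group]
        rcases hWa with e | e <;> rw [e, hb]
        · left; group
        · right
          calc g⁻¹ * (g * a * g⁻¹ * c) * g = a * (g⁻¹ * c * g) := by group
            _ = a * c := by rw [hgci]
      have hhb : h * b * h⁻¹ = b ∨ h * b * h⁻¹ = b * c := by
        rw [hh, show g⁻¹ * W * b * (g⁻¹ * W)⁻¹ = g⁻¹ * (W * b * W⁻¹) * g by group]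
        have e1 : g⁻¹ * (g * b * g⁻¹) * g = b := by group
        have e2 : g⁻¹ * (g * b * g⁻¹ * c) * g = b * c := by
          calc g⁻¹ * (g * b * g⁻¹ * c) * g = b * (g⁻¹ * c * g) := by group
            _ = b * c := by rw [hgci]
        rcases hgb with q | q <;> rcases hWb with r | r <;> rw [r] <;> rw [q] at e1 e2
        · exact Or.inl e1
        · exact Or.inr e2
        · rw [mul_assoc (a * b) c c, hcc, mul_one] at e2; exact Or.inr e2
        · exact Or.inl e1
      have hab_a : b * a * b⁻¹ = a * c := by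
        rw [hba, mul_assoc a b c, hbc, ← mul_assoc, mul_inv_cancel_right]
      have hab_b : a * b * a⁻¹ = b * c := by
        calc a * b * a⁻¹ = b * a * c * a⁻¹ := by
              rw [hba, mul_assoc (a * b) c c, hcc, mul_one]
          _ = b * (a * c) * a⁻¹ := by group
          _ = b * c := by rw [hac, ← mul_assoc, mul_inv_cancel_right]
      have hhc : h * c * h⁻¹ = c := by
        rw [hh, show g⁻¹ * W * c * (g⁻¹ * W)⁻¹ = g⁻¹ * (W * c * W⁻¹) * g by group, hWc, hgci]
      obtain ⟨f, hf, hfa, hfb⟩ : ∃ f ∈ F, h * f * a * (h * f)⁻¹ = a ∧ h * f * b * (h * f)⁻¹ = b := by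
        have key : ∀ f v : G, h * f * v * (h * f)⁻¹ = h * (f * v * f⁻¹) * h⁻¹ := fun f v => by group
        rcases hha with p1 | p1 <;> rcases hhb with q1 | q1
        · exact ⟨1, one_mem _, by simpa using p1, by simpa using q1⟩
        · refine ⟨a, haF, ?_, ?_⟩ <;> rw [key]
          · rw [mul_inv_cancel_right, p1]
          · rw [hab_b, ← conj_mul, q1, hhc, mul_assoc, hcc, mul_one]
        · refine ⟨b, hbF, ?_, ?_⟩ <;> rw [key]
          · rw [hab_a, ← conj_mul, p1, hhc, mul_assoc, hcc, mul_one]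
          · rw [mul_inv_cancel_right, q1]
        · refine ⟨a * b, mul_mem haF hbF, ?_, ?_⟩ <;> rw [key]
          · have haca : a * (a * c) * a⁻¹ = a * c := by
              rw [show a * (a * c) = a * c * a by rw [mul_assoc, ← hac], mul_inv_cancel_right]
            rw [show a * b * a * (a * b)⁻¹ = a * (b * a * b⁻¹) * a⁻¹ by group, hab_a, haca,
              ← conj_mul, p1, hhc, mul_assoc, hcc, mul_one]
          · rw [show a * b * b * (a * b)⁻¹ = a * b * a⁻¹ by group, hab_b, ← conj_mul, q1, hhc,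
              mul_assoc, hcc, mul_one]
      have hcF' : h * f ∈ centralizer (F : Set G) := by
        have hle : F ≤ centralizer {h * f} := by
          intro v hv
          have m1 : a ∈ centralizer {h * f} :=
            mem_centralizer_singleton_iff.2 (mul_inv_eq_iff_eq_mul.1 hfa).symm
          have m2 : b ∈ centralizer {h * f} :=
            mem_centralizer_singleton_iff.2 (mul_inv_eq_iff_eq_mul.1 hfb).symm
          have m3 : c ∈ centralizer {h * f} := hca ▸ mul_mem m1 m1
          rcases cls v hv with (rfl | rfl) | (rfl | rfl) | (rfl | rfl) | (rfl | rfl)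
          exacts [one_mem _, m3, m1, mul_mem m1 m3, m2, mul_mem m2 m3, mul_mem m1 m2,
            mul_mem (mul_mem m1 m2) m3]
        exact fun v hv => mem_centralizer_singleton_iff.1 (hle hv)
      have hW2 := mul_mem hgU (hFU (mul_mem (hCF hcF') (inv_mem hf)))
      rwa [hh, show g * (g⁻¹ * W * f * f⁻¹) = W by group] at hW2
    refine ⟨fun u hu h => ?_⟩
    have hWU : h * g * h⁻¹ ∈ U := by
      obtain ⟨W, hW⟩ : ∃ W, W = h * g * h⁻¹ := ⟨_, rfl⟩
      rw [← hW]
      have hW3 : W ^ 3 = 1 := by rw [hW, conj_pow, hg3, mul_one, mul_inv_cancel]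
      have hWo : Odd (orderOf W) := by
        have hd := orderOf_dvd_of_pow_eq_one hW3
        exact (show Odd 3 by decide).of_dvd_nat hd
      have hWc : W * c * W⁻¹ = c := by
        refine huni _ (hcen (hZn.conj_mem c (hsqcen c hcR hc2) W)) c hcR (hconj2 W c hc2) hc2 ?_ ha2
        intro e
        exact ha2 (conj_eq_one_iff.1 e)
      rcases cls _ (hFn.conj_mem a haF W) with e | e | e | e
      · exfalso
        rcases e with e | e
        · exact ha2 (by
            have : a = 1 := conj_eq_one_iff.1 e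
            rw [hc, this, one_pow])
        · apply ha2
          have h1 : a = c := by
            have := congrArg (fun z => W⁻¹ * z * W) (e.trans hWc.symm)
            simpa [mul_assoc] using this
          exact hc.trans ((congrArg (· ^ 2) h1).trans hc2)
      · exfalso
        have hWa : W * a = a * W := hcyc W a hWo haF (hzc a hca _ (Or.inr e))
        have hWb : W * b = b * W := by
          have hWa' : W * a * W⁻¹ = a := by rw [hWa, mul_inv_cancel_right]
          have hnotA : ∀ v, v ∈ zpowers a → W * b * W⁻¹ ≠ v := by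
            intro v hv e'
            refine hb_notin ?_
            obtain ⟨i, rfl⟩ := mem_zpowers_iff.1 hv
            have h5 : W * b * W⁻¹ = W * a ^ i * W⁻¹ := by rw [e', ← conj_zpow, hWa']
            have h6 : b = a ^ i := by simpa using h5
            exact mem_zpowers_iff.2 ⟨i, h6.symm⟩
          rcases cls _ (hFn.conj_mem b hbF W) with e' | e' | e' | e'
          · exact absurd rfl (hnotA _ (hzc a hca _ (Or.inl e')))
          · exact absurd rfl (hnotA _ (hzc a hca _ (Or.inr e')))
          · exact hcyc W b hWo hbF (hzc b hbb _ (Or.inr e'))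
          · refine hsqodd W b hWo (hcyc (W * W) b (by
              rw [← pow_two]; exact hWo.of_dvd_nat (orderOf_pow_dvd 2)) hbF ?_)
            rw [show W * W * b * (W * W)⁻¹ = W * (W * b * W⁻¹) * W⁻¹ by group]
            have hcb : c ∈ zpowers b := hzc b hbb c (Or.inl (Or.inr rfl))
            have hWb' : W * (a * b) * W⁻¹ ∈ zpowers b := by
              rw [← conj_mul, hWa']
              rcases e' with e' | e' <;> rw [e']
              · rw [← mul_assoc, hca]; exact mul_mem hcb (mem_zpowers b)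
              · rw [← mul_assoc, ← mul_assoc, hca]; exact mul_mem (mul_mem hcb (mem_zpowers b)) hcb
            rcases e' with e' | e' <;> rw [e']
            · exact hWb'
            · rw [← conj_mul, hWc]; exact mul_mem hWb' hcb
        have hWC : W ∈ centralizer (F : Set G) := by
          intro v hv
          rcases cls v hv with (rfl | rfl) | (rfl | rfl) | (rfl | rfl) | (rfl | rfl)
          · simp
          · exact (mul_inv_eq_iff_eq_mul.1 hWc).symm
          · exact hWa.symm
          · exact ((show Commute W a from hWa).mul_right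
              (show Commute W c from mul_inv_eq_iff_eq_mul.1 hWc)).eq.symm
          · exact hWb.symm
          · exact ((show Commute W b from hWb).mul_right
              (show Commute W c from mul_inv_eq_iff_eq_mul.1 hWc)).eq.symm
          · exact ((show Commute W a from hWa).mul_right hWb).eq.symm
          · exact (((show Commute W a from hWa).mul_right hWb).mul_right
              (show Commute W c from mul_inv_eq_iff_eq_mul.1 hWc)).eq.symm
        haveI : Fact (Nat.Prime 2) := ⟨Nat.prime_two⟩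
        have hW1 := eq_one_of_mem_pgroup hF2 (hCF hWC) (Nat.coprime_two_right.2 hWo)
        exact hg1 (conj_eq_one_iff.1 (hW ▸ hW1))
      · exact step W hWo e
      · -- then `W²` moves `a` to `b`
        set y := W * a * W⁻¹ with hy
        have hyF : y ∈ F := hFn.conj_mem a haF W
        have hyR : y ∉ R := by
          rcases e with e | e <;> rw [e]
          · exact fun e' => hbR (by simpa using mul_mem (inv_mem haR) e')
          · exact fun e' => hbR (by simpa [mul_assoc] using mul_mem (mul_mem (inv_mem haR) e') (inv_mem hcR))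
        obtain ⟨h1, h2⟩ := elim W a y hWo haF hyF rfl (fun e' => hyR (zpowers_le.2 haR e'))
        have hyy : y * y = c := by rw [hy, conj_mul, hca, hWc]
        have h22 : W ^ 2 * a * (W ^ 2)⁻¹ = W * y * W⁻¹ := by rw [pow_two, hy]; group
        have hW4 : W = (W ^ 2) ^ 2 := by rw [← pow_mul, pow_succ, hW3, one_mul]
        rw [hW4]
        refine pow_mem (step (W ^ 2) (hWo.of_dvd_nat (orderOf_pow_dvd 2)) ?_) 2
        rw [h22]
        rcases cls _ (hFn.conj_mem y hyF W) with e' | e' | e' | e'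
        · exact absurd (hzc a hca _ (Or.inl e')) h1
        · exact absurd (hzc a hca _ (Or.inr e')) h1
        · exact e'
        · refine absurd (hzc y hyy _ (Or.inr ?_)) h2
          rcases e with e | e <;> rcases e' with e' | e'
          · exact Or.inl (e'.trans e.symm)
          · exact Or.inr (by rw [e', e])
          · exact Or.inr (by rw [e', e, mul_assoc (a * b) c c, hcc, mul_one])
          · exact Or.inl (e'.trans e.symm)
    have hle : U ≤ U.comap (MulAut.conj h).toMonoidHom := sup_le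
      (fun v hv => hFU (hFn.conj_mem v hv h)) (zpowers_le.2 hWU)
    exact hle hu
  · -- `U ≅ SL₂(3)`
    have hcard : Nat.card ↥U = 24 := by
      haveI := hFn
      have hdis : F ⊓ zpowers g = ⊥ := ?_
      · rw [hU, sup_comm, CfsgLib.OddOrder.card_sup_of_normal (zpowers g) F]
        have hFc : Nat.card ↥F = 8 := by
          have hset : (F : Set G) = {1, c, a, a * c, b, b * c, a * b, a * b * c} := by
            ext v
            simp only [SetLike.mem_coe, Set.mem_insert_iff, Set.mem_singleton_iff]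
            refine ⟨fun hv => by have := cls v hv; tauto, ?_⟩
            rintro (rfl | rfl | rfl | rfl | rfl | rfl | rfl | rfl)
            exacts [one_mem _, hcF, haF, mul_mem haF hcF, hbF, mul_mem hbF hcF, mul_mem haF hbF,
              mul_mem (mul_mem haF hbF) hcF]
          have hN4 : [1, c, a, a * c].Nodup := by
            have h1 : a ≠ 1 := fun e => ha2 (by rw [hc, e, one_pow])
            have h2 : a ≠ c := fun e => ha2 (hc.trans ((congrArg (· ^ 2) e).trans hc2))
            simp only [List.nodup_cons, List.mem_cons, List.not_mem_nil, or_false, not_or,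
              List.nodup_nil, and_true, not_false_eq_true]
            exact ⟨⟨Ne.symm ha2, Ne.symm h1, fun e => h2 (mul_right_cancel (e.symm.trans hcc.symm))⟩,
              ⟨h2.symm, fun e => h1 (mul_right_cancel (e.symm.trans (one_mul c).symm))⟩,
              fun e => ha2 (mul_left_cancel ((mul_one a).trans e)).symm⟩
          have hall : [1, c, a, a * c, b, b * c, a * b, a * b * c].Nodup := by
            have hout' : ∀ x ∈ [1, c, a, a * c], ∀ y ∈ [b, b * c, a * b, a * b * c], x ≠ y := by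
              intro x hx y hy e
              simp only [List.mem_cons, List.not_mem_nil, or_false] at hx hy
              have hxR : x ∈ R := by
                rcases hx with rfl | rfl | rfl | rfl
                exacts [one_mem _, hcR, haR, mul_mem haR hcR]
              subst e
              apply hbR
              rcases hy with rfl | rfl | rfl | rfl
              · exact hxR
              · simpa using mul_mem hxR (inv_mem hcR)
              · simpa using mul_mem (inv_mem haR) hxR
              · simpa [mul_assoc] using mul_mem (mul_mem (inv_mem haR) hxR) (inv_mem hcR)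
            rw [show [1, c, a, a * c, b, b * c, a * b, a * b * c] =
              [1, c, a, a * c] ++ [1 * b, c * b, a * b, a * c * b] by
                simp [hbc, mul_assoc], List.nodup_append]
            refine ⟨hN4, (List.nodup_map_iff (f := (· * b)) (mul_left_injective b)).2 hN4, ?_⟩
            intro x hx y hy
            refine hout' x hx y ?_
            simpa [hbc, mul_assoc] using hy
          rw [← SetLike.coe_sort_coe, Nat.card_coe_set_eq, hset]
          have := (List.toFinset_card_of_nodup hall)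
          rw [← Set.ncard_coe_finset] at this
          simpa [Set.insert_comm] using this
        have h5 : F.relIndex (zpowers g) = 3 := by
          rw [← Subgroup.inf_relIndex_right, hdis, Subgroup.relIndex_bot_left, Nat.card_zpowers, ho3]
        rw [hFc, h5]
      · rw [Subgroup.eq_bot_iff_forall]
        intro x hx
        obtain ⟨h1, h2⟩ := Subgroup.mem_inf.1 hx
        haveI : Fact (Nat.Prime 2) := ⟨Nat.prime_two⟩
        refine eq_one_of_mem_pgroup hF2 h1 (Nat.coprime_two_right.2 ?_)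
        obtain ⟨i, rfl⟩ := mem_zpowers_iff.1 h2
        refine (show Odd 3 by decide).of_dvd_nat (orderOf_dvd_of_pow_eq_one ?_)
        rw [← zpow_natCast, ← zpow_mul, mul_comm, zpow_mul, zpow_natCast, hg3, one_zpow]
    refine SLTwoThree.nonempty_equiv (U := ↥U) (I := ⟨I, hFU hI⟩) (J := ⟨J, hFU hJ⟩) (W := ⟨g, hgU⟩)
      ?_ hcard ?_
    · refine ⟨Subtype.ext ?_, Subtype.ext ?_, Subtype.ext ?_, Subtype.ext hg3, Subtype.ext ?_, Subtype.ext ?_⟩
      · show I ^ 4 = 1
        rw [show (4 : ℕ) = 2 + 2 from rfl, pow_add, pow_two, hII, hcc]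
      · show J * J = I ^ 2
        rw [pow_two, hII, hJJ]
      · show J * I = I ^ 3 * J
        rw [hJI, pow_succ', pow_two, hII, mul_assoc, mul_assoc, hcall J hJ]
      · show g * I = J * g
        exact mul_inv_eq_iff_eq_mul.1 hgI
      · show g * J = I * J * g
        exact mul_inv_eq_iff_eq_mul.1 hgJ
    · intro H h1 h2 h3
      rw [eq_top_iff]
      intro x _
      have hle : U ≤ H.map U.subtype := sup_le (hgen _ ⟨_, h1, rfl⟩ ⟨_, h2, rfl⟩)
        (zpowers_le.2 ⟨_, h3, rfl⟩)
      obtain ⟨x', hx', hxx⟩ := hle x.2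
      rwa [← U.subtype_injective hxx]

/-- Let G be a finite solvable group with O(G) = 1 whose Sylow 2-subgroup T is dihedral of order at least 8 or semidihedral, with G ≠ T and Z(T) normal in G. Then G has a normal subgroup isomorphic to SL₂(3). -/
theorem result {G : Type*} [Group G] [Finite G] (hsol : IsSolvable G) (hO : Cfsg.oddCore G = ⊥) (T : Sylow 2 G) (hT : (∃ n : ℕ, 4 ≤ n ∧ Nonempty (↥(T : Subgroup G) ≃* DihedralGroup n)) ∨ Cfsg.IsQuasiDihedral ↥(T : Subgroup G)) (hne : (T : Subgroup G) ≠ ⊤) (hZ : ((T : Subgroup G) ⊓ Subgroup.centralizer ((T : Subgroup G) : Set G)).Normal) : ∃ U : Subgroup G, U.Normal ∧ Nonempty (↥U ≃* Matrix.SpecialLinearGroup (Fin 2) (ZMod 3)) := by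
  classical
  haveI : Fact (Nat.Prime 2) := ⟨Nat.prime_two⟩
  haveI : Group.IsSolvable G := hsol
  set F := pCore 2 G with hF
  have hFn : F.Normal := inferInstance
  have hF2 : IsPGroup 2 ↥F := CfsgLib.PCore.pCore_isPGroup
  have hCF : centralizer (F : Set G) ≤ F := CfsgLib.InvChar.centralizer_pCore_le hO
  obtain ⟨g, hg, hgF⟩ : ∃ g : G, Odd (orderOf g) ∧ ¬ ∀ x ∈ F, g * x = x * g := by
    by_contra hc
    push Not at hc
    have h := CfsgLib.InvChar.isPGroup_two_of_odd_centralize hO hc
    exact hne (T.3 (h.of_equiv (Subgroup.topEquiv (G := G)).symm) le_top).symm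
  have hFT : F ≤ (T : Subgroup G) := CfsgLib.LocalEven.pCore_le_sylow T
  rcases hT with ⟨n, hn, ⟨e⟩⟩ | hQD
  · -- dihedral
    let R : Subgroup G := (zpowers (e.symm (DihedralGroup.r 1))).map (T : Subgroup G).subtype
    haveI : IsCyclic ↥(zpowers (e.symm (DihedralGroup.r 1))) := inferInstance
    haveI : IsCyclic ↥R := by
      show IsCyclic ↥((zpowers (e.symm (DihedralGroup.r 1))).map (T : Subgroup G).subtype)
      rw [MonoidHom.map_zpowers]; infer_instance
    have hmem : ∀ x (hx : x ∈ (T : Subgroup G)), x ∈ R ↔ ∃ i, e ⟨x, hx⟩ = DihedralGroup.r i := by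
      intro x hx
      constructor
      · rintro ⟨y, hy, hyx⟩
        obtain ⟨k, rfl⟩ := mem_zpowers_iff.1 hy
        refine ⟨(k : ZMod n), ?_⟩
        rw [show (⟨x, hx⟩ : ↥(T : Subgroup G)) = e.symm (DihedralGroup.r 1) ^ k from Subtype.ext hyx.symm,
          map_zpow, MulEquiv.apply_symm_apply, DihedralGroup.r_one_zpow]
      · rintro ⟨i, hi⟩
        obtain ⟨k, rfl⟩ := ZMod.intCast_surjective i
        refine ⟨e.symm (DihedralGroup.r 1) ^ k, zpow_mem (mem_zpowers _) k, ?_⟩
        rw [← map_zpow, DihedralGroup.r_one_zpow, ← hi, MulEquiv.symm_apply_apply]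
        rfl
    have hsr : ∀ x (hx : x ∈ (T : Subgroup G)), x ∉ R → ∃ i, e ⟨x, hx⟩ = DihedralGroup.sr i := by
      intro x hx hxR
      rcases hq : e ⟨x, hx⟩ with i | i
      · exact absurd ((hmem x hx).2 ⟨i, hq⟩) hxR
      · exact ⟨i, rfl⟩
    refine core (T : Subgroup G) R F hFn hF2 hCF hFT (map_subtype_le _) ?_ ?_ ?_ hZ ?_ hg hgF
    · intro x hx y hy hxR hyR
      obtain ⟨i, hi⟩ := hsr x hx hxR
      obtain ⟨j, hj⟩ := hsr y hy hyR
      refine (hmem _ (mul_mem hx hy)).2 ⟨j - i, ?_⟩
      rw [show (⟨x * y, mul_mem hx hy⟩ : ↥(T : Subgroup G)) = ⟨x, hx⟩ * ⟨y, hy⟩ from rfl, map_mul, hi, hj,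
        DihedralGroup.sr_mul_sr]
    · intro x hx hxR
      obtain ⟨i, hi⟩ := hsr x hx hxR
      have h2 : (⟨x, hx⟩ : ↥(T : Subgroup G)) ^ 2 = 1 := e.injective (by
        rw [map_pow, map_one, hi, pow_two, DihedralGroup.sr_mul_self])
      have h3 : x ^ 2 = 1 := congrArg Subtype.val h2
      rw [show (4 : ℕ) = 2 * 2 from rfl, pow_mul, h3, one_pow]
    · intro x hx
      obtain ⟨hxT, hxC⟩ := Subgroup.mem_inf.1 hx
      by_contra hxR
      obtain ⟨i, hi⟩ := hsr x hxT hxR
      have h1 : ⟨x, hxT⟩ * e.symm (DihedralGroup.r 1) = e.symm (DihedralGroup.r 1) * ⟨x, hxT⟩ :=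
        Subtype.ext (hxC _ (e.symm (DihedralGroup.r 1)).2).symm
      have h2 := congrArg e h1
      rw [map_mul, map_mul, MulEquiv.apply_symm_apply, hi, DihedralGroup.sr_mul_r,
        DihedralGroup.r_mul_sr, DihedralGroup.sr.injEq, ← sub_eq_zero] at h2
      have h3 : ((2 : ℕ) : ZMod n) = 0 := by push_cast; rw [← h2]; ring
      rw [ZMod.natCast_eq_zero_iff] at h3
      have := Nat.le_of_dvd two_pos h3
      omega
    · intro m _ _ w hw hwR hw2
      obtain ⟨i, hi⟩ := hsr w hw hwR
      have h2 : (⟨w, hw⟩ : ↥(T : Subgroup G)) ^ 2 = 1 := e.injective (by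
        rw [map_pow, map_one, hi, pow_two, DihedralGroup.sr_mul_self])
      exact absurd (congrArg Subtype.val h2) hw2
  · -- semidihedral
    obtain ⟨r, x, y, h⟩ := CfsgLib.TwoGroups.SD.exists_sd hQD
    let R : Subgroup G := (zpowers x).map (T : Subgroup G).subtype
    haveI : IsCyclic ↥R := by
      show IsCyclic ↥((zpowers x).map (T : Subgroup G).subtype)
      rw [MonoidHom.map_zpowers]; infer_instance
    have hsplit : ∀ z (hz : z ∈ (T : Subgroup G)), z ∉ R →
        ∃ k : ℤ, (⟨z, hz⟩ : ↥(T : Subgroup G)) = x ^ k * y := by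
      intro z hz hzR
      obtain ⟨k, hk | hk⟩ := h.gen ⟨z, hz⟩
      · exact absurd ⟨x ^ k, zpow_mem (mem_zpowers x) k, congrArg Subtype.val hk.symm⟩ hzR
      · exact ⟨k, hk⟩
    refine core (T : Subgroup G) R F hFn hF2 hCF hFT (map_subtype_le _) ?_ ?_ ?_ hZ ?_ hg hgF
    · intro u hu v hv huR hvR
      obtain ⟨i, hi⟩ := hsplit u hu huR
      obtain ⟨j, hj⟩ := hsplit v hv hvR
      refine ⟨⟨u, hu⟩ * ⟨v, hv⟩, ?_, rfl⟩
      rw [hi, hj, mul_assoc, ← mul_assoc y, CfsgLib.TwoGroups.SD.y_mul h, mul_assoc (x ^ _) y y,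
        CfsgLib.TwoGroups.SD.yy h, mul_one]
      exact mul_mem (zpow_mem (mem_zpowers x) _) (zpow_mem (mem_zpowers x) _)
    · intro u hu huR
      obtain ⟨i, hi⟩ := hsplit u hu huR
      have h4 : (⟨u, hu⟩ : ↥(T : Subgroup G)) ^ 4 = 1 := by
        rw [hi, show (4 : ℕ) = 2 * 2 from rfl, pow_mul, CfsgLib.TwoGroups.SD.xy_sq h,
          pow_two, ← zpow_add, CfsgLib.TwoGroups.SD.zpow_x_eq_one h]
        exact ⟨i, by ring⟩
      exact congrArg Subtype.val h4
    · intro u hu
      obtain ⟨huT, huC⟩ := Subgroup.mem_inf.1 hu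
      by_contra huR
      obtain ⟨i, hi⟩ := hsplit u huT huR
      have h1 : (⟨u, huT⟩ : ↥(T : Subgroup G)) * x = x * ⟨u, huT⟩ := Subtype.ext (huC _ x.2).symm
      have h2 : Commute x y := by
        rw [hi] at h1
        refine (mul_left_cancel (a := x ^ i) ?_).symm
        rw [← mul_assoc, h1, ← mul_assoc, ← mul_assoc,
          ((Commute.refl x).zpow_right i).eq]
      have h3 := (CfsgLib.TwoGroups.SD.commute_pow_y h (k := 1)).1 (by rwa [zpow_one])
      have := CfsgLib.TwoGroups.SD.r_pos h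
      have h4 := Int.le_of_dvd one_pos h3
      omega
    · rintro _ ⟨m', hm', rfl⟩ hm4 w hw hwR hw2 hmw
      obtain ⟨i, hi⟩ := hsplit w hw hwR
      obtain ⟨k, rfl⟩ := mem_zpowers_iff.1 hm'
      have hm4' : (x ^ k) ^ 4 = 1 := Subtype.ext hm4
      rw [← zpow_natCast, ← zpow_mul, CfsgLib.TwoGroups.SD.zpow_x_eq_one h] at hm4'
      have hmw' : (x ^ k * ⟨w, hw⟩) ^ 2 = 1 := Subtype.ext hmw
      rw [hi, ← mul_assoc, ← zpow_add, CfsgLib.TwoGroups.SD.xy_sq h,
        CfsgLib.TwoGroups.SD.zpow_x_eq_one h] at hmw'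
      apply hw2
      have : (⟨w, hw⟩ : ↥(T : Subgroup G)) ^ 2 = 1 := by
        rw [hi, CfsgLib.TwoGroups.SD.xy_sq h, CfsgLib.TwoGroups.SD.zpow_x_eq_one h]
        obtain ⟨s, hs⟩ := hm4'
        obtain ⟨q, hq⟩ := hmw'
        exact ⟨q - s * r, by push_cast at hs ⊢; linear_combination hq - (r : ℤ) * hs⟩
      exact congrArg Subtype.val this

end Cfsg.Agent.S2879
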