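import Cfsg.Statements.S2881
import Cfsg.Agent.Lib.Large.PlusType

set_option autoImplicit false
open Cfsg

namespace Cfsg.Agent.S2881

open Cfsg Subgroup
open scoped Classical

/-- Let E be an extraspecial 2-group of order 2^(2m+1) of plus type (containing an elementary abelian subgroup of order 2^(m+1)), and let ω be an automorphism of E of order 5 whose fixed points are exactly the centre of E. Then m is divisible by 4. -/
theorem result {E : Type*} [Group E] [Finite E] (m : ℕ) (hm : 1 ≤ m) (hE : Cfsg.IsExtraspecial 2 E) (hcard : Nat.card E = 2 ^ (2 * m + 1)) (hplus : ∃ A : Subgroup E, Cfsg.IsElementaryAbelian 2 A ∧ Nat.card A = 2 ^ (m + 1)) (ω : E ≃* E) (hω : orderOf ω = 5) (hfix : ∀ x : E, ω x = x ↔ x ∈ Subgroup.center E) : 4 ∣ m := by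
  obtain ⟨A, hA, hAc⟩ := hplus
  have hcount := CfsgLib.Large.PlusType.card_orderOf_four m hE hcard A hA hAc
  have : Fact (Nat.Prime 5) := ⟨by norm_num⟩
  let σ : Equiv.Perm {x : E // orderOf x = 4} :=
    ω.toEquiv.subtypeEquiv fun x => by simp [MulEquiv.orderOf_eq]
  have hσ : ∀ (n : ℕ) (x : {x : E // orderOf x = 4}), (((σ ^ n) x : {x : E // orderOf x = 4}) : E) = (ω ^ n) (x : E) := by
    intro n
    induction n with
    | zero => intro x; rfl
    | succ n ih =>
      intro x
      rw [pow_succ', pow_succ', Equiv.Perm.mul_apply, MulAut.mul_apply]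
      show ω ((σ ^ n) x : E) = _
      rw [ih]
  have hσ5 : σ ^ 5 = 1 := by
    ext x
    rw [hσ, ← hω, pow_orderOf_eq_one]
    rfl
  have hp : IsPGroup 5 (zpowers σ) := by
    rintro ⟨g, hg⟩
    obtain ⟨k, rfl⟩ := mem_zpowers_iff.1 hg
    refine ⟨1, Subtype.ext ?_⟩
    simp only [pow_one, SubmonoidClass.mk_pow, OneMemClass.coe_one]
    rw [← zpow_natCast, ← zpow_mul, mul_comm, zpow_mul, zpow_natCast, hσ5, one_zpow]
  have hfix : IsEmpty (MulAction.fixedPoints ↥(zpowers σ) {x : E // orderOf x = 4}) := by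
    refine ⟨fun ⟨x, hx⟩ => ?_⟩
    have h1 : ω (x : E) = x := congrArg Subtype.val (hx ⟨σ, mem_zpowers σ⟩)
    have h2 : orderOf (x : E) ∣ 2 := orderOf_dvd_of_pow_eq_one
      (have : Fact (Nat.Prime 2) := ⟨Nat.prime_two⟩
       CfsgLib.PGroup.extraspecial_center_pow_eq_one hE ((hfix x).1 h1))
    rw [x.2] at h2
    norm_num at h2
  have hd := hp.card_modEq_card_fixedPoints {x : E // orderOf x = 4}
  rw [Nat.card_of_isEmpty (α := MulAction.fixedPoints _ _), hcount, Nat.modEq_zero_iff_dvd,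
    two_mul, pow_add, show 2 ^ m * 2 ^ m - 2 ^ m = 2 ^ m * (2 ^ m - 1) by rw [Nat.mul_sub, mul_one],
    (show Nat.Prime 5 by norm_num).dvd_mul] at hd
  rcases hd with hd | hd
  · exact absurd ((show Nat.Prime 5 by norm_num).dvd_of_dvd_pow hd) (by norm_num)
  · have h2 : 2 ^ m % 5 = 1 := by
      have := Nat.one_le_two_pow (n := m)
      omega
    rw [← Nat.div_add_mod m 4, pow_add, pow_mul, Nat.mul_mod, Nat.pow_mod] at h2
    norm_num at h2
    have h3 : m % 4 < 4 := Nat.mod_lt _ (by norm_num)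
    generalize hr : m % 4 = r at h2 h3
    interval_cases r <;> simp at h2
    exact Nat.dvd_of_mod_eq_zero hr

end Cfsg.Agent.S2881
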