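import Cfsg.Statements.S2882
import Cfsg.Agent.Lib.Large.M24SelfNorm

set_option autoImplicit false
open Cfsg

namespace Cfsg.Agent.S2882

/-- In the Mathieu group of degree 24 (realised as the automorphism group of the extended binary Golay code) every Sylow 2-subgroup is self-normalizing. -/
theorem result (S : Sylow 2 ↥Cfsg.M24) : Subgroup.normalizer ((S : Subgroup ↥Cfsg.M24) : Set ↥Cfsg.M24) = (S : Subgroup ↥Cfsg.M24) := by
  haveI : Fact (Nat.Prime 2) := ⟨Nat.prime_two⟩
  obtain ⟨P, hP, hN⟩ := CfsgLib.Large.M24SelfNorm.normalizer_eq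
  have hidx : ¬ 2 ∣ P.index := by
    have h := P.card_mul_index
    have hc : Nat.card ↥Cfsg.M24 = 244823040 := CfsgLib.Golay.natCard_M24
    rw [hP, hc] at h
    omega
  set T := (IsPGroup.of_card hP).toSylow hidx
  obtain ⟨g, rfl⟩ := MulAction.exists_smul_eq ↥Cfsg.M24 T S
  refine (Subgroup.eq_of_le_of_card_ge Subgroup.le_normalizer ?_).symm
  rw [Sylow.coe_subgroup_smul]
  show Nat.card (Subgroup.normalizer (P.map (MulAut.conj g).toMonoidHom : Set ↥Cfsg.M24)) ≤
    Nat.card (P.map (MulAut.conj g).toMonoidHom : Subgroup ↥Cfsg.M24)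
  rw [← Subgroup.map_equiv_normalizer_eq P (MulAut.conj g), hN]

end Cfsg.Agent.S2882
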