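import Cfsg.Statements.S2896
import Cfsg.Agent.Lib.Large.CharP

set_option autoImplicit false
open Cfsg

namespace Cfsg.Agent.S2896

open Cfsg Subgroup CfsgLib.Large CfsgLib.Components

/-- Let p be a prime dividing the order of the finite group G, S a Sylow p-subgroup of G and X a subgroup of S. (i) If some nontrivial element z of the centre of X has F*(C_G(z)) = O_p(C_G(z)), then F*(N_G(X)) = O_p(N_G(X)). (ii) G has parabolic characteristic p if and only if F*(C_G(z)) = O_p(C_G(z)) for every nontrivial z ∈ Ω₁(Z(S)). (iii) If F*(C_G(z)) = O_p(C_G(z)) for every element z of S of order p, then G has local characteristic p. -/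
theorem result {G : Type*} [Group G] [Finite G] {p : ℕ} [Fact p.Prime] (hdiv : p ∣ Nat.card G) (S : Sylow p G) (X : Subgroup G) (hX : X ≤ (S : Subgroup G)) : (∀ z : G, z ≠ 1 → z ∈ X → (∀ x ∈ X, x * z = z * x) → Cfsg.generalizedFittingSubgroup ↥(Subgroup.centralizer ({z} : Set G)) = Cfsg.pCore p ↥(Subgroup.centralizer ({z} : Set G)) → Cfsg.generalizedFittingSubgroup ↥(Subgroup.normalizer (X : Set G)) = Cfsg.pCore p ↥(Subgroup.normalizer (X : Set G))) ∧ (Cfsg.IsOfParabolicCharacteristic p G ↔ ∀ z : G, z ≠ 1 → z ∈ Cfsg.omegaOne p ((S : Subgroup G) ⊓ Subgroup.centralizer ((S : Subgroup G) : Set G)) → Cfsg.generalizedFittingSubgroup ↥(Subgroup.centralizer ({z} : Set G)) = Cfsg.pCore p ↥(Subgroup.centralizer ({z} : Set G))) ∧ ((∀ z : G, z ∈ (S : Subgroup G) → orderOf z = p → Cfsg.generalizedFittingSubgroup ↥(Subgroup.centralizer ({z} : Set G)) = Cfsg.pCore p ↥(Subgroup.centralizer ({z} : Set G))) → Cfsg.IsOfLocalCharacteristic p G) := by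
  refine ⟨fun z _ hz hzc h => ?_, ⟨fun hG z hz1 hz => ?_, fun h => ?_⟩, fun h => ⟨hdiv, fun T hT hT1 => ?_⟩⟩
  · exact generalizedFitting_eq_pCore_of_centralizer_le p (charP_normalizer_of_central
      (S.2.to_le hX) hz hzc (centralizer_pCore_le_of_generalizedFitting_eq h))
  · have hz' := omegaOne_le p _ hz
    exact generalizedFitting_eq_pCore_of_centralizer_le p (charP_centralizer_of_parabolic hG S hz1
      hz'.1 (centralizer_singleton_le_iff.2 fun k hk => (hz'.2 k hk).symm))
  · exact parabolic_of_centralizers S fun z hzp hz => centralizer_pCore_le_of_generalizedFitting_eq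
      (h z (ne_one_of_orderOf_eq hzp) (mem_omegaOne_of_orderOf hz hzp))
  · obtain ⟨z, hz, hzp, hzc⟩ := exists_central_of_ne_bot hT hT1
    obtain ⟨g, hg⟩ := exists_conj_sylow S (isPGroup_zpowers_of_orderOf hzp)
    obtain ⟨s, hs, hsz⟩ := hg (mem_zpowers z)
    have hsp : orderOf s = p := by
      rw [← hzp, ← hsz]
      exact (orderOf_injective (MulAut.conj g).toMonoidHom (MulAut.conj g).injective s).symm
    have hc := charP_cj g (centralizer_pCore_le_of_generalizedFitting_eq (h s hs hsp))
    rw [← centralizer_singleton_cj, show g * s * g⁻¹ = z from hsz] at hc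
    exact charP_normalizer_of_central hT hz
      (fun x hx => (centralizer_singleton_le_iff.1 hzc x hx).symm) hc

end Cfsg.Agent.S2896
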