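import Cfsg.Statements.S2897
import Cfsg.Agent.Lib.Large.CharP

set_option autoImplicit false
open Cfsg

namespace Cfsg.Agent.S2897

open Cfsg Subgroup CfsgLib.Large

/-- Let p be a prime dividing the order of the finite group G, suppose G has parabolic characteristic p, let S be a Sylow p-subgroup of G and G₁ a normal subgroup of G. If Ω₁(Z(S ∩ G₁)) is nontrivial and contained in Ω₁(Z(S)), then G₁ has parabolic characteristic p. -/
theorem result {G : Type*} [Group G] [Finite G] {p : ℕ} [Fact p.Prime] (hdiv : p ∣ Nat.card G) (hG : Cfsg.IsOfParabolicCharacteristic p G) (S : Sylow p G) (G₁ : Subgroup G) [G₁.Normal] (hne : Cfsg.omegaOne p (((S : Subgroup G) ⊓ G₁) ⊓ Subgroup.centralizer (((S : Subgroup G) ⊓ G₁ : Subgroup G) : Set G)) ≠ ⊥) (hle : Cfsg.omegaOne p (((S : Subgroup G) ⊓ G₁) ⊓ Subgroup.centralizer (((S : Subgroup G) ⊓ G₁ : Subgroup G) : Set G)) ≤ Cfsg.omegaOne p ((S : Subgroup G) ⊓ Subgroup.centralizer ((S : Subgroup G) : Set G))) : Cfsg.IsOfParabolicCharacteristic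 p ↥G₁ := by
  set S1 := (S : Subgroup G) ⊓ G₁ with hS1
  obtain ⟨T, hT⟩ : ∃ T : Sylow p ↥G₁, (T : Subgroup ↥G₁).map G₁.subtype = S1 := by
    obtain ⟨T, hT⟩ := (S.2.to_inf_left.comap_of_injective G₁.subtype G₁.subtype_injective :
      IsPGroup p (S1.subgroupOf G₁)).exists_le_sylow
    refine ⟨T, (Subgroup.eq_of_le_of_card_ge (show S1 ≤ (T : Subgroup ↥G₁).map G₁.subtype from
      fun x hx => ⟨⟨x, hx.2⟩, hT hx, rfl⟩) ?_).symm⟩
    obtain ⟨a, ha⟩ := exists_conj_sylow S (T.2.map G₁.subtype)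
    have h1 : (T : Subgroup ↥G₁).map G₁.subtype ≤ S1.map (MulAut.conj a).toMonoidHom := fun x hx =>
      mem_cj.2 ⟨mem_cj.1 (ha hx), by
        simpa using (Normal.conj_mem (H := G₁) ‹_› x (map_subtype_le _ hx) a⁻¹)⟩
    exact (Nat.le_of_dvd Nat.card_pos (card_dvd_of_le h1)).trans_eq
      (Subgroup.card_map_of_injective (MulAut.conj a).injective)
  refine parabolic_of_centralizers T fun z hzp hz => ?_
  have hzp' : orderOf (z : G) = p := by rw [Subgroup.orderOf_coe]; exact hzp
  have hz1 : (z : G) ∈ omegaOne p (S1 ⊓ centralizer (S1 : Set G)) := by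
    refine mem_omegaOne_of_orderOf (Subgroup.mem_inf.2 ⟨hT.le ⟨z, hz.1, rfl⟩, ?_⟩) hzp'
    intro a ha
    obtain ⟨b, hb, rfl⟩ := hT.ge ha
    exact congrArg Subtype.val (hz.2 b hb)
  have hz2 := omegaOne_le p _ (hle hz1)
  have hc := charP_centralizer_of_parabolic hG S (ne_one_of_orderOf_eq hzp') hz2.1
    (centralizer_singleton_le_iff.2 fun k hk => (hz2.2 k hk).symm)
  have hN := charP_of_normal hc (inf_le_right : G₁ ⊓ centralizer ({(z : G)} : Set G) ≤ _)
    ((le_inf (by rw [normalizer_eq_top]; exact le_top) le_normalizer).trans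
      normalizer_le_normalizer_inf)
  have e : centralizer ({z} : Set ↥G₁) = (G₁ ⊓ centralizer ({(z : G)} : Set G)).subgroupOf G₁ := by
    ext y
    constructor
    · intro hy
      exact ⟨y.2, mem_centralizer_singleton_iff.2 (congrArg Subtype.val (mem_centralizer_singleton_iff.1 hy))⟩
    · intro hy
      exact mem_centralizer_singleton_iff.2 (Subtype.ext (mem_centralizer_singleton_iff.1 hy.2))
  rw [e]
  exact (charP_subgroupOf inf_le_left).2 hN

end Cfsg.Agent.S2897
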