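import Cfsg.Statements.S2898
import Cfsg.Agent.Lib.Large.CharP

set_option autoImplicit false
open Cfsg

namespace Cfsg.Agent.S2898

open Cfsg Subgroup CfsgLib.Large

/-- Let G be a finite group of even order with parabolic characteristic 2. If the centre of G ⧸ O(G) is trivial, then O(G) = 1. -/
theorem result {G : Type*} [Group G] [Finite G] (h2 : 2 ∣ Nat.card G) (hG : Cfsg.IsOfParabolicCharacteristic 2 G) [hN : (Cfsg.oddCore G).Normal] (hZ : Subgroup.center (G ⧸ Cfsg.oddCore G) = ⊥) : Cfsg.oddCore G = ⊥ := by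
  have : Fact (Nat.Prime 2) := ⟨Nat.prime_two⟩
  set W := Cfsg.oddCore G with hWdef
  have hWc : (Nat.card W).Coprime 2 := CfsgLib.PCore.pPrimeCore_coprime
  have hodd : ∀ w ∈ W, w ^ 2 = 1 → w = 1 := fun w hw h => by
    refine orderOf_eq_one_iff.1 (Nat.Coprime.eq_one_of_dvd ?_ (orderOf_dvd_of_pow_eq_one h))
    exact Nat.Coprime.coprime_dvd_left ((Subgroup.orderOf_coe (⟨w, hw⟩ : ↥W)).symm ▸ orderOf_dvd_natCard (⟨w, hw⟩ : ↥W) : orderOf w ∣ Nat.card W) hWc
  by_contra hW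
  obtain ⟨S⟩ := (inferInstance : Nonempty (Sylow 2 G))
  have hS1 : (S : Subgroup G) ≠ ⊥ := S.ne_bot_of_dvd_card h2
  -- a central involution of `S` inverts `W`
  have hinv : ∀ z : G, orderOf z = 2 → z ∈ (S : Subgroup G) →
      (S : Subgroup G) ≤ centralizer ({z} : Set G) → ∀ w ∈ W, z * w * z⁻¹ = w⁻¹ := by
    intro z hz hzS hzc
    have hC := charP_centralizer_of_parabolic hG S (ne_one_of_orderOf_eq hz) hzS hzc
    have hfree : ∀ w ∈ W, z * w = w * z → w = 1 := by
      intro w hw hzw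
      have h1 := CfsgLib.PCore.pPrimeCore_subgroupOf_le (p := 2) (centralizer ({z} : Set G))
        (show (⟨w, mem_centralizer_singleton_iff.2 hzw.symm⟩ : ↥(centralizer ({z} : Set G))) ∈
          (pPrimeCore 2 G).subgroupOf (centralizer ({z} : Set G)) from hw)
      rw [CfsgLib.Components.pPrimeCore_eq_bot_of_centralizer_le hC, mem_bot] at h1
      exact congrArg Subtype.val h1
    have hz2 : z * z = 1 := by rw [← pow_two, ← hz, pow_orderOf_eq_one]
    have hzinv : z⁻¹ = z := inv_eq_of_mul_eq_one_left hz2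
    let f : ↥W → ↥W := fun w => ⟨(w : G)⁻¹ * (z * w * z⁻¹),
      mul_mem (inv_mem w.2) (hN.conj_mem w w.2 z)⟩
    have hf : Function.Injective f := by
      intro a b hab
      have h1 : (a : G)⁻¹ * (z * a * z⁻¹) = (b : G)⁻¹ * (z * b * z⁻¹) := congrArg Subtype.val hab
      have h3 : (b : G) * (a : G)⁻¹ * z = z * ((b : G) * (a : G)⁻¹) := by
        calc (b : G) * (a : G)⁻¹ * z
            = b * ((a : G)⁻¹ * (z * a * z⁻¹)) * (z * (a : G)⁻¹) := by group
          _ = b * ((b : G)⁻¹ * (z * b * z⁻¹)) * (z * (a : G)⁻¹) := by rw [h1]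
          _ = z * ((b : G) * (a : G)⁻¹) := by group
      exact (Subtype.ext (mul_inv_eq_one.1 (hfree _ (mul_mem b.2 (inv_mem a.2)) h3.symm))).symm
    intro v hv
    obtain ⟨u, hu⟩ := (Finite.injective_iff_surjective.1 hf) ⟨v, hv⟩
    have hu' : (u : G)⁻¹ * (z * u * z⁻¹) = v := congrArg Subtype.val hu
    rw [← hu', hzinv]
    calc z * ((u : G)⁻¹ * (z * u * z)) * z = z * (u : G)⁻¹ * z * u * (z * z) := by group
      _ = z * (u : G)⁻¹ * z⁻¹ * u := by rw [hz2, mul_one, hzinv]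
      _ = ((u : G)⁻¹ * (z * u * z⁻¹))⁻¹ := by group
      _ = ((u : G)⁻¹ * (z * u * z))⁻¹ := by rw [hzinv]
  obtain ⟨z, hzS, hz, hzc⟩ := exists_central_of_ne_bot S.2 hS1
  have hzW : ∀ w ∈ W, z * w * z⁻¹ = w⁻¹ := hinv z hz hzS hzc
  set D := centralizer (W : Set G) with hD
  have hWab : W ≤ D := by
    intro a ha b hb
    have h1 := hzW _ (mul_mem hb ha)
    rw [show z * (b * a) * z⁻¹ = (z * b * z⁻¹) * (z * a * z⁻¹) by group, hzW b hb, hzW a ha] at h1
    calc b * a = (b * a)⁻¹⁻¹ := (inv_inv _).symm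
      _ = (b⁻¹ * a⁻¹)⁻¹ := by rw [h1]
      _ = a * b := by group
  -- `D` has odd order
  have hDodd : ¬ 2 ∣ Nat.card D := by
    intro hd
    obtain ⟨d, hdd⟩ := exists_prime_orderOf_dvd_card' (G := ↥D) 2 hd
    have hd2 : orderOf (d : G) = 2 := by rw [Subgroup.orderOf_coe]; exact hdd
    obtain ⟨a, ha⟩ := exists_conj_sylow S (isPGroup_zpowers_of_orderOf hd2)
    obtain ⟨t, ht, htd⟩ := ha (mem_zpowers (d : G))
    have hDn : D.Normal := inferInstance
    have htD : t ∈ D := by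
      have h3 := hDn.conj_mem (d : G) d.2 a⁻¹
      rw [← htd] at h3
      simpa [mul_assoc] using h3
    have hne : (S : Subgroup G) ⊓ D ≠ ⊥ := fun e => by
      have h4 : t ∈ (S : Subgroup G) ⊓ D := ⟨ht, htD⟩
      rw [e, mem_bot] at h4
      rw [h4, map_one] at htd
      exact ne_one_of_orderOf_eq hd2 htd.symm
    obtain ⟨z', hz', hz'2⟩ := exists_orderOf_eq_of_ne_bot (p := 2)
      ((S.2.to_inf_left).to_inf_left : IsPGroup 2
        ((S : Subgroup G) ⊓ D ⊓ centralizer ((S : Subgroup G) : Set G) : Subgroup G))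
      (inf_centralizer_ne_bot S.2.to_inf_left S.2 hne
        ((le_inf le_normalizer (by rw [normalizer_eq_top]; exact le_top)).trans
          normalizer_le_normalizer_inf))
    refine hW ((Subgroup.eq_bot_iff_forall _).2 fun w hw => hodd w hw ?_)
    have h5 := hinv z' hz'2 hz'.1.1 (centralizer_singleton_le_iff.2 fun k hk => (hz'.2 k hk).symm) w hw
    rw [show z' * w * z'⁻¹ = w by rw [← hz'.1.2 w hw, mul_inv_cancel_right]] at h5
    rw [pow_two]
    nth_rw 2 [h5]
    exact mul_inv_cancel w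
  have hDW : D = W := le_antisymm (CfsgLib.PCore.le_pPrimeCore_of_not_dvd inferInstance hDodd) hWab
  -- the image of `z` is central in `G / W`
  have hzbar : QuotientGroup.mk' W z ∈ center (G ⧸ W) := by
    rw [mem_center_iff]
    intro q
    obtain ⟨g, rfl⟩ := QuotientGroup.mk'_surjective W q
    rw [← map_mul, ← map_mul, QuotientGroup.mk'_apply, QuotientGroup.mk'_apply, QuotientGroup.eq]
    have key : z⁻¹ * (g⁻¹ * z * g) ∈ D := by
      intro w hw
      have hgw : g * w * g⁻¹ ∈ W := hN.conj_mem w hw g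
      have h6 : (g⁻¹ * z * g) * w * (g⁻¹ * z * g)⁻¹ = w⁻¹ := by
        calc _ = g⁻¹ * (z * (g * w * g⁻¹) * z⁻¹) * g := by group
          _ = g⁻¹ * (g * w * g⁻¹)⁻¹ * g := by rw [hzW _ hgw]
          _ = w⁻¹ := by group
      have h7 : z⁻¹ * w⁻¹ * z = w := by
        rw [← hzW w hw]; group
      calc w * (z⁻¹ * (g⁻¹ * z * g)) = z⁻¹ * w⁻¹ * z * z⁻¹ * (g⁻¹ * z * g) := by rw [h7]; group
        _ = z⁻¹ * ((g⁻¹ * z * g) * w * (g⁻¹ * z * g)⁻¹) * (g⁻¹ * z * g) := by rw [h6]; group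
        _ = z⁻¹ * (g⁻¹ * z * g) * w := by group
    rw [hDW] at key
    have h9 : (g * z)⁻¹ * (z * g) = z⁻¹ * (g⁻¹ * z * g) := by group
    rw [h9]; exact key
  rw [hZ, mem_bot, QuotientGroup.mk'_apply, QuotientGroup.eq_one_iff] at hzbar
  exact ne_one_of_orderOf_eq hz (hodd z hzbar (by rw [← hz, pow_orderOf_eq_one]))

end Cfsg.Agent.S2898
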