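import Cfsg.Statements.S2905
import Cfsg.Agent.Lib.LocalEven.PMinimal
import Cfsg.Agent.Lib.Structure.Subnormal
import Cfsg.Agent.Lib.Solvable.Fitting

set_option autoImplicit false
open Cfsg CfsgLib.PMinimal63

namespace Cfsg.Agent.S2905

/-- Let P be a finite p-minimal group (a Sylow p-subgroup S is not normal and lies in a unique maximal subgroup M of P) and let F be the normal core of M. Then: every subnormal subgroup N of P contained in M satisfies N ∩ S ≤ O_p(P); if O^p(P) has a normal Sylow p-subgroup then the order of P has at most two prime divisors; every normal subgroup N of P either contains O^p(P) or is contained in F; and O^p(P)F ⧸ F is a minimal normal subgroup of P ⧸ F. -/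
theorem result {P : Type*} [Group P] [Finite P] {p : ℕ} [Fact p.Prime] (hP : Cfsg.IsPMinimal p P) (S : Sylow p P) (M : Subgroup P) (hM : IsCoatom M) (hSM : (S : Subgroup P) ≤ M) [hF : M.normalCore.Normal] : (∀ N : Subgroup P, N.IsSubnormal → N ≤ M → N ⊓ (S : Subgroup P) ≤ Cfsg.pCore p P) ∧ ((∀ T : Sylow p ↥(Cfsg.pResidual p P), (T : Subgroup ↥(Cfsg.pResidual p P)).Normal) → (Nat.card P).primeFactors.card ≤ 2) ∧ (∀ N : Subgroup P, N.Normal → Cfsg.pResidual p P ≤ N ∨ N ≤ M.normalCore) ∧ (∀ N : Subgroup P, N.Normal → M.normalCore ≤ N → N ≤ Cfsg.pResidual p P ⊔ M.normalCore → N = M.normalCore ∨ N = Cfsg.pResidual p P ⊔ M.normalCore) ∧ M.normalCore < Cfsg.pResidual p P ⊔ M.normalCore := by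
  haveI := CfsgLib.Transfer.pResidual_normal (G := P) (p := p)
  refine ⟨fun N hN hNM => ?_, fun hT => ?_, fun N hN => pResidual_le_or_le_core hP S hM hSM N hN,
    fun N hN hFN hN' => ?_, core_lt hP S hM hSM⟩
  · exact (inf_le_inf_right _ (subnormal_le_normalCore hM hN hNM)).trans
      (core_inf_le_pCore hP S hM hSM)
  · set K := Cfsg.pResidual p P with hK
    by_contra hcard
    obtain ⟨j, hj⟩ := CfsgLib.Transfer.pResidual_index_eq_pow (G := P) (p := p)
    set T : Sylow p K := default
    set T' := (T : Subgroup K).map K.subtype with hT'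
    haveI : (T : Subgroup K).Characteristic := Sylow.characteristic_of_normal T (hT T)
    haveI hT'n : T'.Normal := ConjAct.normal_of_characteristic_of_normal
    refine hM.1 (CfsgLib.Fitting.eq_top_of_forall_sylow_le fun q hq hqP => ?_)
    by_cases hqp : q = p
    · subst hqp; exact ⟨S, hSM⟩
    haveI : Fact q.Prime := ⟨hq⟩
    let Q : Sylow q K := default
    set Qm := (Q : Subgroup K).map K.subtype with hQm
    have hQmidx : ¬ q ∣ Qm.index := by
      rw [hQm, Subgroup.index_map_subtype, hj]
      intro h
      rcases hq.dvd_mul.1 h with h | h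
      · exact Q.not_dvd_index h
      · exact hqp ((Nat.prime_dvd_prime_iff_eq hq Fact.out).1 (hq.dvd_of_dvd_pow h))
    let Q' : Sylow q P := (Q.isPGroup'.map K.subtype).toSylow hQmidx
    set N := Subgroup.normalizer (Qm : Set P) with hN
    have hNK : N ⊔ K = ⊤ := Sylow.normalizer_sup_eq_top Q
    let R : Sylow p N := default
    set V := (R : Subgroup N).map N.subtype ⊔ T' with hV
    have hVp : IsPGroup p V := (R.isPGroup'.map _).to_sup_of_normal_right (T.isPGroup'.map _)
    have hVK : V ⊔ K = ⊤ := by
      set π := (QuotientGroup.mk' K).comp N.subtype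
      have hπ : Function.Surjective π := by
        intro x
        obtain ⟨g, rfl⟩ := QuotientGroup.mk'_surjective K x
        have hg : g ∈ ((N ⊔ K : Subgroup P) : Set P) := by rw [hNK]; trivial
        rw [Subgroup.mul_normal] at hg
        obtain ⟨n, hn, k, hk, rfl⟩ := hg
        refine ⟨⟨n, hn⟩, ?_⟩
        have hk' : QuotientGroup.mk' K k = 1 := (QuotientGroup.eq_one_iff k).2 hk
        rw [map_mul, hk', mul_one]
        rfl
      have hR : (R.mapSurjective hπ : Subgroup (P ⧸ K)) = ⊤ :=
        ((R.mapSurjective hπ).is_maximal' ((CfsgLib.Transfer.isPGroup_quotient_of_pResidual_le K le_rfl).to_subgroup ⊤) le_top).symm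
      rw [Sylow.coe_mapSurjective, ← Subgroup.map_map] at hR
      rw [eq_top_iff]
      intro g _
      obtain ⟨r, hr, e⟩ := hR.ge (Subgroup.mem_top (QuotientGroup.mk' K g))
      have h1 : r⁻¹ * g ∈ K := QuotientGroup.eq.1 e
      have h2 := mul_mem (Subgroup.mem_sup_left (T := K) (Subgroup.mem_sup_left (T := T') hr))
        (Subgroup.mem_sup_right (S := V) h1)
      simpa using h2
    have hVidx : ¬ p ∣ V.index := by
      intro h
      have e : V.index = V.relIndex K := by
        rw [← Subgroup.relIndex_top_right V, ← hVK, relIndex_sup_right_normal]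
      rw [e] at h
      refine T.not_dvd_index (h.trans ?_)
      rw [← Subgroup.comap_map_eq_self_of_injective K.subtype_injective (T : Subgroup K)]
      exact Subgroup.relIndex_dvd_of_le_left K le_sup_right
    set X := V ⊔ Qm with hX
    have hVN : V ≤ Subgroup.normalizer ((T' ⊔ Qm : Subgroup P) : Set P) := by
      refine sup_le ((Subgroup.map_subtype_le _).trans ?_) (le_sup_left.trans Subgroup.le_normalizer)
      exact CfsgLib.Structure.le_normalizer_sup_of_le
        (le_of_le_of_eq le_top (Subgroup.normalizer_eq_top_iff.2 hT'n).symm) le_rfl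
    have hXne : X ≠ ⊤ := by
      intro htop
      obtain ⟨r, hr, hrne⟩ : ∃ r ∈ (Nat.card P).primeFactors, r ∉ ({p, q} : Finset ℕ) := by
        by_contra hc
        push Not at hc
        exact hcard ((Finset.card_le_card hc).trans Finset.card_le_two)
      simp only [Finset.mem_insert, Finset.mem_singleton, not_or] at hrne
      obtain ⟨hr1, hr2, -⟩ := Nat.mem_primeFactors.1 hr
      have hX' : X = (T' ⊔ Qm) ⊔ V := by
        rw [hX]
        exact le_antisymm (sup_le le_sup_right (le_sup_of_le_left le_sup_right))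
          (sup_le (sup_le (le_sup_of_le_left le_sup_right) le_sup_right) le_sup_left)
      have hd1 : Nat.card X ∣ Nat.card ↥(T' ⊔ Qm) * Nat.card V := by
        rw [hX']; exact CfsgLib.Structure.card_sup_dvd_mul hVN
      have hd2 : Nat.card ↥(T' ⊔ Qm) ∣ Nat.card T' * Nat.card Qm :=
        CfsgLib.Structure.card_sup_dvd_mul
          (le_of_le_of_eq le_top (Subgroup.normalizer_eq_top_iff.2 hT'n).symm)
      have hr3 : r ∣ Nat.card T' * Nat.card Qm * Nat.card V := by
        refine dvd_trans ?_ (hd1.trans (mul_dvd_mul hd2 dvd_rfl))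
        rw [htop, Subgroup.card_top]; exact hr2
      obtain ⟨a, ha⟩ := (T.isPGroup'.map K.subtype).exists_card_eq
      obtain ⟨b, hb⟩ := (Q.isPGroup'.map K.subtype).exists_card_eq
      obtain ⟨c, hc⟩ := hVp.exists_card_eq
      rw [hT', ha, hQm, hb, hc] at hr3
      rcases hr1.dvd_mul.1 hr3 with h | h
      · rcases hr1.dvd_mul.1 h with h | h
        · exact hrne.1 ((Nat.prime_dvd_prime_iff_eq hr1 Fact.out).1 (hr1.dvd_of_dvd_pow h))
        · exact hrne.2 ((Nat.prime_dvd_prime_iff_eq hr1 hq).1 (hr1.dvd_of_dvd_pow h))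
      · exact hrne.1 ((Nat.prime_dvd_prime_iff_eq hr1 Fact.out).1 (hr1.dvd_of_dvd_pow h))
    obtain ⟨g, hg⟩ := MulAction.exists_smul_eq P (hVp.toSylow hVidx) S
    have hXg : X.map (MulAut.conj g).toMonoidHom ≤ M := by
      refine le_of_ne_top hP S hM hSM ?_ ?_
      · rw [← hg]
        intro x hx
        obtain ⟨v, hv, rfl⟩ := hx
        exact ⟨v, Subgroup.mem_sup_left (T := Qm) hv, rfl⟩
      · intro h
        refine hXne (Subgroup.map_injective (f := (MulAut.conj g).toMonoidHom) (MulEquiv.injective (MulAut.conj g)) ?_)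
        exact h.trans (Subgroup.map_top_of_surjective _ (MulEquiv.surjective _)).symm
    refine ⟨g • Q', ?_⟩
    intro x hx
    refine hXg ?_
    obtain ⟨v, hv, rfl⟩ := hx
    exact ⟨v, Subgroup.mem_sup_right (S := V) hv, rfl⟩
  · rcases pResidual_le_or_le_core hP S hM hSM N hN with h | h
    · exact Or.inr (le_antisymm hN' (sup_le h hFN))
    · exact Or.inl (le_antisymm h hFN)

end Cfsg.Agent.S2905
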