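import Cfsg.Statements.S2906
import Cfsg.Agent.S2905
import Cfsg.Agent.Lib.LocalEven.PMinimal
import Cfsg.Agent.Lib.Structure.Subnormal
import Cfsg.Agent.Lib.Components.FStar
import Cfsg.Agent.Lib.PCore.Basic

set_option autoImplicit false
open Cfsg CfsgLib.PMinimal63
open scoped commutatorElement

namespace Cfsg.Agent.S2906

/-- Let P be a finite p-minimal group with O_p(P) = 1, S a Sylow p-subgroup of P and K a component of P. Then O^p(P) = F*(P) = E(P) is generated by the S-conjugates of K, and the subgroup K·N_S(K) is again p-minimal. -/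
theorem result {P : Type*} [Group P] [Finite P] {p : ℕ} [Fact p.Prime] (hP : Cfsg.IsPMinimal p P) (hOp : Cfsg.pCore p P = ⊥) (S : Sylow p P) (K : Subgroup P) (hK : Cfsg.IsComponent K) : Cfsg.pResidual p P = Cfsg.generalizedFittingSubgroup P ∧ Cfsg.generalizedFittingSubgroup P = Cfsg.layer P ∧ Cfsg.layer P = ⨆ s : ↥(S : Subgroup P), K.map (MulAut.conj (s : P)).toMonoidHom ∧ Cfsg.IsPMinimal p ↥(K ⊔ ((S : Subgroup P) ⊓ Subgroup.normalizer (K : Set P))) := by
  haveI := CfsgLib.Transfer.pResidual_normal (G := P) (p := p)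
  obtain ⟨M, ⟨hM, hSM⟩, -⟩ := (hP S).2
  set F := M.normalCore with hF
  haveI hFn : F.Normal := M.normalCore_normal
  have hSF : F ⊓ (S : Subgroup P) = ⊥ := le_bot_iff.1 (hOp ▸ core_inf_le_pCore hP S hM hSM)
  have hpF : ¬ p ∣ Nat.card F := by
    have e : (S : Subgroup P).relIndex F = Nat.card F := by
      rw [← Subgroup.inf_relIndex_right, inf_comm, hSF, Subgroup.relIndex_bot_left]
    exact fun h => S.not_dvd_index ((e ▸ h).trans
      (CfsgLib.IndexPowers.relIndex_dvd_index_of_isSubnormal hFn.isSubnormal _))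
  -- `F` is nilpotent
  have hFnil : Group.IsNilpotent F := by
    have hall : ∀ (q : ℕ) (_ : Fact q.Prime) (Q : Sylow q F), (Q : Subgroup F).Normal := by
      intro q _ Q
      set Qm := (Q : Subgroup F).map F.subtype
      set N := Subgroup.normalizer (Qm : Set P) with hN
      have hNF : N ⊔ F = ⊤ := Sylow.normalizer_sup_eq_top Q
      have hNidx : ¬ p ∣ N.index := by
        intro h
        refine hpF (h.trans ?_)
        rw [← Subgroup.relIndex_top_right N, ← hNF, relIndex_sup_right_normal]
        exact N.relIndex_dvd_card F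
      let R : Sylow p N := default
      have hRidx : ¬ p ∣ ((R : Subgroup N).map N.subtype).index := by
        rw [Subgroup.index_map_subtype]
        intro h
        rcases (Fact.out : p.Prime).dvd_mul.1 h with h | h
        · exact R.not_dvd_index h
        · exact hNidx h
      obtain ⟨g, hg⟩ := MulAction.exists_smul_eq P ((R.isPGroup'.map N.subtype).toSylow hRidx) S
      set Q' := Qm.map (MulAut.conj g).toMonoidHom with hQ'
      have hN' : Subgroup.normalizer (Q' : Set P) = N.map (MulAut.conj g).toMonoidHom := by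
        rw [hQ', hN]; exact (Subgroup.map_equiv_normalizer_eq Qm (MulAut.conj g)).symm
      have hSN' : (S : Subgroup P) ≤ Subgroup.normalizer (Q' : Set P) := by
        rw [hN', ← hg]
        intro x hx
        obtain ⟨v, hv, rfl⟩ := hx
        exact ⟨v, Subgroup.map_subtype_le _ hv, rfl⟩
      have hQ'n : Subgroup.normalizer (Q' : Set P) = ⊤ := by
        refine eq_top_of_not_le hP S hM hSM hSN' fun h => hM.1 (top_le_iff.1 ?_)
        have e := congrArg (Subgroup.map (MulAut.conj g).toMonoidHom) hNF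
        rw [Subgroup.map_sup, Subgroup.map_top_of_surjective _ (MulEquiv.surjective _), ← hN'] at e
        rw [← e]
        refine sup_le h (le_trans ?_ M.normalCore_le)
        rintro _ ⟨y, hy, rfl⟩
        exact hFn.conj_mem y hy g
      have hQn : N = ⊤ := by
        apply Subgroup.map_injective (f := (MulAut.conj g).toMonoidHom) (MulEquiv.injective _)
        rw [Subgroup.map_top_of_surjective _ (MulEquiv.surjective _), ← hN', hQ'n]
      have hQmn : Qm.Normal := Subgroup.normalizer_eq_top_iff.1 hQn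
      have : (Q : Subgroup F) = Qm.subgroupOf F :=
        (Subgroup.comap_map_eq_self_of_injective F.subtype_injective _).symm
      rw [this]
      infer_instance
    exact ((Group.isNilpotent_of_finite_tfae (G := F)).out 0 3).2 hall
  have hKF : ∀ L : Subgroup P, Cfsg.IsComponent L → ¬ L ≤ M := fun L hL h => by
    have h' := subnormal_le_normalCore hM hL.1 h
    haveI := hFnil
    exact CfsgLib.Components.component_not_isSolvable hL
      (Group.isSolvable_of_isSolvable_injective (Subgroup.inclusion_injective h'))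
  have hperf : ∀ L : Subgroup P, Cfsg.IsComponent L → L ≤ Cfsg.pResidual p P := by
    intro L hL
    haveI := hL.2.1
    set f := ((QuotientGroup.mk' (Cfsg.pResidual p P)).comp L.subtype).rangeRestrict
    haveI : Group.IsPerfect ((QuotientGroup.mk' (Cfsg.pResidual p P)).comp L.subtype).range :=
      Group.IsPerfect.ofSurjective (MonoidHom.rangeRestrict_surjective
        ((QuotientGroup.mk' (Cfsg.pResidual p P)).comp L.subtype))
    by_contra hcon
    obtain ⟨x, hx, hx'⟩ := SetLike.not_le_iff_exists.1 hcon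
    haveI : Nontrivial ((QuotientGroup.mk' (Cfsg.pResidual p P)).comp L.subtype).range :=
      ⟨⟨f ⟨x, hx⟩, 1, fun h => hx' ((QuotientGroup.eq_one_iff x).1 (congrArg Subtype.val h))⟩⟩
    haveI : Group.IsNilpotent ((QuotientGroup.mk' (Cfsg.pResidual p P)).comp L.subtype).range :=
      ((CfsgLib.Transfer.isPGroup_quotient_of_pResidual_le _ le_rfl).to_subgroup _).isNilpotent
    exact Group.IsPerfect.not_isSolvable
      ((QuotientGroup.mk' (Cfsg.pResidual p P)).comp L.subtype).range inferInstance
  haveI : (Cfsg.layer P).Normal := inferInstance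
  have hE : Cfsg.pResidual p P = Cfsg.layer P := by
    refine le_antisymm ((pResidual_le_or_le_core hP S hM hSM _ inferInstance).resolve_right ?_)
      (sSup_le hperf)
    exact fun h => hKF K hK ((CfsgLib.Components.component_le_layer hK).trans (h.trans M.normalCore_le))
  have hFit : Cfsg.fittingSubgroup P ≤ Cfsg.pResidual p P := by
    rcases pResidual_le_or_le_core hP S hM hSM _ CfsgLib.Fitting.fitting_normal with h | h
    · exfalso
      haveI := CfsgLib.Components.fitting_isSolvable (G := P)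
      exact CfsgLib.Components.component_not_isSolvable hK
        (Group.isSolvable_of_isSolvable_injective (Subgroup.inclusion_injective ((hperf K hK).trans h)))
    · intro x hx
      exact CfsgLib.Transfer.mem_pResidual
        (((Fact.out : p.Prime).coprime_iff_not_dvd.2 fun h' =>
          hpF (h'.trans (Subgroup.orderOf_dvd_natCard _ (h hx))))).symm
  have hFstar : Cfsg.generalizedFittingSubgroup P = Cfsg.layer P := by
    rw [Cfsg.generalizedFittingSubgroup, sup_eq_left]
    exact hFit.trans hE.le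
  -- the conjugates of `K` under `S`
  set L := ⨆ s : ↥(S : Subgroup P), K.map (MulAut.conj (s : P)).toMonoidHom with hL
  have hLE : L ≤ Cfsg.layer P := iSup_le fun s =>
    CfsgLib.Components.component_le_layer (CfsgLib.Components.isComponent_conj _ hK)
  have hcc : ∀ a b : P, (K.map (MulAut.conj b).toMonoidHom).map (MulAut.conj a).toMonoidHom =
      K.map (MulAut.conj (a * b)).toMonoidHom := by
    intro a b
    rw [Subgroup.map_map]
    congr 1
    ext x
    simp [mul_assoc]
  have hK1 : K ≤ L := by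
    refine le_iSup_of_le (1 : ↥(S : Subgroup P)) ?_
    intro x hx
    exact ⟨x, hx, by simp⟩
  have hLS : (S : Subgroup P) ≤ Subgroup.normalizer (L : Set P) := by
    have key : ∀ s : ↥(S : Subgroup P), L.map (MulAut.conj (s : P)).toMonoidHom ≤ L := by
      intro s
      rw [hL, Subgroup.map_iSup]
      exact iSup_le fun t => by rw [hcc]; exact le_iSup_of_le (s * t) le_rfl
    intro s hs
    rw [Subgroup.mem_normalizer_iff]
    refine fun x => ⟨fun h => key ⟨s, hs⟩ ⟨x, h, rfl⟩, fun h => ?_⟩
    have := key ⟨s, hs⟩⁻¹ ⟨_, h, rfl⟩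
    simpa [mul_assoc] using this
  haveI hLn : L.Normal := by
    refine Subgroup.normalizer_eq_top_iff.1 (top_le_iff.1 ?_)
    rw [← CfsgLib.Transfer.sylow_sup_pResidual S]
    refine sup_le hLS ?_
    rw [hE]
    intro g hg
    rw [Subgroup.mem_normalizer_iff]
    have hfix : ∀ a ∈ Cfsg.layer P, ∀ x ∈ L, a * x * a⁻¹ ∈ L := by
      intro a ha
      have : L.map (MulAut.conj a).toMonoidHom ≤ L := by
        rw [hL, Subgroup.map_iSup]
        refine iSup_le fun t => le_iSup_of_le t ?_
        rintro _ ⟨y, hy, rfl⟩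
        exact (Subgroup.mem_normalizer_iff.1 (CfsgLib.Components.layer_le_normalizer_component
          (CfsgLib.Components.isComponent_conj _ hK) ha) y).1 hy
      exact fun x hx => this ⟨x, hx, rfl⟩
    refine fun x => ⟨hfix g hg x, fun h => ?_⟩
    simpa [mul_assoc] using hfix g⁻¹ (inv_mem hg) _ h
  have hEL : Cfsg.layer P = L := by
    refine le_antisymm ?_ hLE
    rw [← hE]
    exact (pResidual_le_or_le_core hP S hM hSM L hLn).resolve_right
      fun h => hKF K hK (hK1.trans (h.trans M.normalCore_le))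
  refine ⟨hE.trans hFstar.symm, hFstar, hEL, ?_⟩
  -- the subgroup `X`
  set S₀ := (S : Subgroup P) ⊓ Subgroup.normalizer (K : Set P) with hS₀
  set X := K ⊔ S₀ with hX
  have hKX : K ≤ X := le_sup_left
  have hS₀X : S₀ ≤ X := le_sup_right
  have hXK : X ≤ Subgroup.normalizer (K : Set P) := sup_le Subgroup.le_normalizer inf_le_right
  haveI hKn' : (K.subgroupOf X).Normal :=
    (Subgroup.normal_subgroupOf_iff_le_normalizer hKX).2 hXK
  have hidx : ¬ p ∣ (S₀.subgroupOf X).index := by
    intro h
    refine S.not_dvd_index (dvd_trans ?_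
      (CfsgLib.IndexPowers.relIndex_dvd_index_of_isSubnormal hK.1 (S : Subgroup P)))
    have e1 : S₀.subgroupOf X ⊔ K.subgroupOf X = ⊤ := by
      rw [hX, sup_comm K S₀]
      exact CfsgLib.Structure.subgroupOf_sup_subgroupOf
    rw [← Subgroup.relIndex_top_right (S₀.subgroupOf X), ← e1, relIndex_sup_right_normal,
      Subgroup.relIndex_subgroupOf hKX, hS₀] at h
    have e2 : ((S : Subgroup P) ⊓ Subgroup.normalizer (K : Set P)).relIndex K =
        (S : Subgroup P).relIndex K := by
      rw [← Subgroup.inf_relIndex_right, inf_assoc, inf_eq_right.2 Subgroup.le_normalizer,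
        Subgroup.inf_relIndex_right]
    rwa [e2] at h
  let T₀ : Sylow p X := ((S.isPGroup'.to_le inf_le_left).comap_of_injective X.subtype
    X.subtype_injective).toSylow hidx
  have hbelow : ∀ Y : Subgroup P, S₀ ≤ Y → Y ≤ X → ¬ K ≤ Y → Y ≤ M := by
    intro Y hSY hYX hKY
    have hS₀M : S₀ ≤ M := inf_le_left.trans hSM
    suffices hYK : Y ⊓ K ≤ M by
      intro y hy
      have hy' : y ∈ ((S₀ ⊔ K : Subgroup P) : Set P) := by rw [sup_comm]; exact hYX hy
      rw [Subgroup.coe_mul_of_left_le_normalizer_right S₀ K inf_le_right] at hy'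
      obtain ⟨s, hs, k, hk, rfl⟩ := hy'
      refine M.mul_mem (hS₀M hs) (hYK ⟨?_, hk⟩)
      simpa using Y.mul_mem (Y.inv_mem (hSY hs)) hy
    set D := ⨆ s : ↥(S : Subgroup P), (Y ⊓ K).map (MulAut.conj (s : P)).toMonoidHom with hD
    have hD1 : Y ⊓ K ≤ D := le_iSup_of_le (1 : ↥(S : Subgroup P)) (fun x hx => ⟨x, hx, by simp⟩)
    have hDS : (S : Subgroup P) ≤ Subgroup.normalizer (D : Set P) := by
      have key : ∀ s : ↥(S : Subgroup P), D.map (MulAut.conj (s : P)).toMonoidHom ≤ D := by
        intro s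
        rw [hD, Subgroup.map_iSup]
        refine iSup_le fun t => le_iSup_of_le (s * t) ?_
        rintro _ ⟨_, ⟨y, hy, rfl⟩, rfl⟩
        exact ⟨y, hy, by simp [mul_assoc]⟩
      intro s hs
      rw [Subgroup.mem_normalizer_iff]
      refine fun x => ⟨fun h => key ⟨s, hs⟩ ⟨x, h, rfl⟩, fun h => ?_⟩
      have := key ⟨s, hs⟩⁻¹ ⟨_, h, rfl⟩
      simpa [mul_assoc] using this
    by_contra hcon
    have htop : (S : Subgroup P) ⊔ D = ⊤ := eq_top_of_not_le hP S hM hSM le_sup_left
      fun h => hcon (hD1.trans (le_sup_right.trans h))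
    have hDn : D.Normal := by
      refine Subgroup.normalizer_eq_top_iff.1 (top_le_iff.1 ?_)
      rw [← htop]
      exact sup_le hDS Subgroup.le_normalizer
    have hKD : K ≤ D := (hperf K hK).trans ((pResidual_le_or_le_core hP S hM hSM D hDn).resolve_right
      fun h => hcon (hD1.trans (h.trans M.normalCore_le)))
    set C := Subgroup.centralizer (K : Set P) with hC
    have hCn : C ≤ Subgroup.normalizer ((Y ⊓ K : Subgroup P) : Set P) :=
      (Subgroup.centralizer_le (show ((Y ⊓ K : Subgroup P) : Set P) ⊆ (K : Set P) from fun x hx => hx.2)).trans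
        (Subgroup.centralizer_le_normalizer _)
    have hDle : D ≤ C ⊔ (Y ⊓ K) := by
      refine iSup_le fun s => ?_
      by_cases hs : (s : P) ∈ Subgroup.normalizer (K : Set P)
      · refine le_trans ?_ le_sup_right
        rintro _ ⟨y, hy, rfl⟩
        exact ⟨Y.mul_mem (Y.mul_mem (hSY ⟨s.2, hs⟩) hy.1) (Y.inv_mem (hSY ⟨s.2, hs⟩)),
          (Subgroup.mem_normalizer_iff.1 hs y).1 hy.2⟩
      · refine le_trans ?_ le_sup_left
        refine (Subgroup.map_mono inf_le_right).trans ?_
        refine CfsgLib.Components.le_centralizer_of_commutator_eq_bot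
          (CfsgLib.Components.commutator_components_eq_bot
            (CfsgLib.Components.isComponent_conj _ hK) hK fun e => hs ?_)
        exact Subgroup.mem_normalizer_iff_map_conj_eq.2 e
    have hK2 : ∀ k ∈ K, ∃ y ∈ Y ⊓ K, ∃ c ∈ C, k = c * y ∧ c ∈ K := by
      intro k hk
      have h : k ∈ ((C ⊔ (Y ⊓ K) : Subgroup P) : Set P) := hDle (hKD hk)
      rw [Subgroup.coe_mul_of_left_le_normalizer_right C (Y ⊓ K) hCn] at h
      obtain ⟨c, hc, y, hy, rfl⟩ := h
      refine ⟨y, hy, c, hc, rfl, ?_⟩
      simpa using K.mul_mem hk (K.inv_mem hy.2)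
    refine hKY ?_
    rw [← CfsgLib.Components.component_commutator_self hK, Subgroup.commutator_le]
    intro a ha b hb
    obtain ⟨y, hy, c, hc, rfl, hcK⟩ := hK2 a ha
    obtain ⟨z, hz, d, hd, rfl, hdK⟩ := hK2 b hb
    have cc : ∀ u ∈ K, Commute c u := fun u hu => (Subgroup.mem_centralizer_iff.1 hc u hu).symm
    have dd : ∀ u ∈ K, Commute d u := fun u hu => (Subgroup.mem_centralizer_iff.1 hd u hu).symm
    have e : ⁅c * y, d * z⁆ = ⁅y, z⁆ := by
      simp only [commutatorElement_def]
      calc c * y * (d * z) * (c * y)⁻¹ * (d * z)⁻¹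
          = c * y * d * z * y⁻¹ * c⁻¹ * z⁻¹ * d⁻¹ := by group
        _ = c * y * (d * (z * y⁻¹)) * (c⁻¹ * z⁻¹) * d⁻¹ := by group
        _ = c * y * ((z * y⁻¹) * d) * (z⁻¹ * c⁻¹) * d⁻¹ := by
            rw [(dd _ (K.mul_mem hz.2 (K.inv_mem hy.2))).eq, ((cc _ (K.inv_mem hz.2)).inv_left).eq]
        _ = c * (y * z * y⁻¹) * (d * z⁻¹) * c⁻¹ * d⁻¹ := by group
        _ = c * (y * z * y⁻¹) * (z⁻¹ * d) * c⁻¹ * d⁻¹ := by rw [(dd _ (K.inv_mem hz.2)).eq]
        _ = (c * (y * z * y⁻¹ * z⁻¹)) * (d * c⁻¹) * d⁻¹ := by group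
        _ = ((y * z * y⁻¹ * z⁻¹) * c) * (c⁻¹ * d) * d⁻¹ := by
            rw [(cc _ (K.mul_mem (K.mul_mem (K.mul_mem hy.2 hz.2) (K.inv_mem hy.2))
              (K.inv_mem hz.2))).eq, ((cc _ hdK).inv_left).eq]
        _ = y * z * y⁻¹ * z⁻¹ := by group
    rw [e]
    exact Y.mul_mem (Y.mul_mem (Y.mul_mem hy.1 hz.1) (Y.inv_mem hy.1)) (Y.inv_mem hz.1)
  have hnn : ¬ (T₀ : Subgroup X).Normal := by
    intro hn
    have hKS : K ≤ Subgroup.normalizer (S₀ : Set P) :=
      hKX.trans ((Subgroup.normal_subgroupOf_iff_le_normalizer hS₀X).1 hn)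
    have hn' : (((S : Subgroup P) ⊓ K).subgroupOf K).Normal := by
      rw [Subgroup.normal_subgroupOf_iff_le_normalizer inf_le_right]
      intro k hk
      rw [Subgroup.mem_normalizer_iff]
      intro x
      have h1 := Subgroup.mem_normalizer_iff.1 (hKS hk) x
      have h2 := Subgroup.mem_normalizer_iff.1 (Subgroup.le_normalizer hk) x
      constructor
      · intro hx
        exact ⟨(h1.1 ⟨hx.1, Subgroup.le_normalizer hx.2⟩).1, h2.1 hx.2⟩
      · intro hx
        exact ⟨(h1.2 ⟨hx.1, Subgroup.le_normalizer hx.2⟩).1, h2.2 hx.2⟩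
    have hbot : (S : Subgroup P) ⊓ K = ⊥ := le_bot_iff.1 (hOp ▸
      CfsgLib.PCore.le_pCore_of_isSubnormal (Subgroup.IsSubnormal.step _ _ inf_le_right hK.1 hn')
        (S.isPGroup'.to_le inf_le_left))
    have hpK : ¬ p ∣ Nat.card K := by
      have e : (S : Subgroup P).relIndex K = Nat.card K := by
        rw [← Subgroup.inf_relIndex_right, hbot, Subgroup.relIndex_bot_left]
      exact fun h => S.not_dvd_index ((e ▸ h).trans
        (CfsgLib.IndexPowers.relIndex_dvd_index_of_isSubnormal hK.1 _))
    have hK' : K ≤ Cfsg.pPrimeCore p P :=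
      CfsgLib.PCore.le_pPrimeCore_of_isSubnormal hK.1 (CfsgLib.PCore.coprime_of_not_dvd_card hpK)
    have hR' : Cfsg.pResidual p P ≤ Cfsg.pPrimeCore p P := by
      rw [hE, hEL, hL]
      refine iSup_le fun s => ?_
      rintro _ ⟨y, hy, rfl⟩
      exact (inferInstance : (Cfsg.pPrimeCore p P).Normal).conj_mem y (hK' hy) _
    have hpR : ¬ p ∣ Nat.card (Cfsg.pResidual p P) := fun h =>
      CfsgLib.PCore.not_dvd_card_pPrimeCore (h.trans (Subgroup.card_dvd_of_le hR'))
    have h2 := (Cfsg.Agent.S2905.result hP S M hM hSM).2.1 (fun T => by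
      have hb : (T : Subgroup (Cfsg.pResidual p P)) = ⊥ := by
        obtain ⟨n, hn⟩ := T.isPGroup'.exists_card_eq
        rcases Nat.eq_zero_or_pos n with h0 | h0
        · exact Subgroup.eq_bot_of_card_eq _ (by rw [hn, h0, pow_zero])
        · exact absurd ((hn ▸ dvd_pow_self p h0.ne').trans (Subgroup.card_subgroup_dvd_card _)) hpR
      rw [hb]; infer_instance)
    haveI := CfsgLib.Components.quasisimple_nontrivial hK.2
    obtain ⟨q, hq, hqK⟩ := Nat.exists_prime_and_dvd (Finite.one_lt_card (α := K)).ne'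
    haveI : Fact q.Prime := ⟨hq⟩
    have hqp : q ≠ p := fun e => hpK (e ▸ hqK)
    have hKq : IsPGroup q K := by
      refine IsPGroup.of_card (n := (Nat.card K).primeFactorsList.length) ?_
      have hsub : ∀ r, r.Prime → r ∣ Nat.card K → r = q := by
        intro r hr hrK
        by_contra hrq
        have hrp : r ≠ p := fun e => hpK (e ▸ hrK)
        have hpP : p ∣ Nat.card P := by
          have hne : (S : Subgroup P) ≠ ⊥ := fun e => (hP S).1 (by rw [e]; infer_instance)
          obtain ⟨n, hn⟩ := S.isPGroup'.exists_card_eq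
          rcases Nat.eq_zero_or_pos n with h0 | h0
          · exact absurd (Subgroup.eq_bot_of_card_eq _ (by rw [hn, h0, pow_zero])) hne
          · exact (hn ▸ dvd_pow_self p h0.ne').trans (Subgroup.card_subgroup_dvd_card _)
        have hsub : ({p, q, r} : Finset ℕ) ⊆ (Nat.card P).primeFactors := by
          intro t ht
          simp only [Finset.mem_insert, Finset.mem_singleton] at ht
          rcases ht with rfl | rfl | rfl
          · exact Nat.mem_primeFactors.2 ⟨Fact.out, hpP, Nat.card_pos.ne'⟩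
          · exact Nat.mem_primeFactors.2 ⟨hq, hqK.trans (Subgroup.card_subgroup_dvd_card _), Nat.card_pos.ne'⟩
          · exact Nat.mem_primeFactors.2 ⟨hr, hrK.trans (Subgroup.card_subgroup_dvd_card _), Nat.card_pos.ne'⟩
        have h3 : ({p, q, r} : Finset ℕ).card = 3 :=
          Finset.card_eq_three.2 ⟨p, q, r, hqp.symm, hrp.symm, Ne.symm hrq, rfl⟩
        have := Finset.card_le_card hsub
        omega
      exact Nat.eq_prime_pow_of_unique_prime_dvd Nat.card_pos.ne' (fun {r} hr hrd => hsub r hr hrd)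
    haveI : Group.IsNilpotent K := hKq.isNilpotent
    exact CfsgLib.Components.component_not_isSolvable hK inferInstance
  -- `X` is `p`-minimal
  set M' := M.subgroupOf X with hM'
  have hM'1 : M' ≠ ⊤ := by
    rw [Ne, hM', Subgroup.subgroupOf_eq_top]
    exact fun h => hKF K hK (hKX.trans h)
  have hmax : ∀ Y : Subgroup X, (T₀ : Subgroup X) ≤ Y → Y ≠ ⊤ → Y ≤ M' := by
    intro Y hY hYne
    have h := hbelow (Y.map X.subtype) (fun x hx => ⟨⟨x, hS₀X hx⟩, hY hx, rfl⟩)
      (Subgroup.map_subtype_le _) (fun hKY => hYne (eq_top_iff.2 fun x _ => by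
        obtain ⟨y, hy, e⟩ := sup_le hKY
          (fun z hz => ⟨⟨z, hS₀X hz⟩, hY hz, rfl⟩ : S₀ ≤ Y.map X.subtype) x.2
        rwa [show y = x from Subtype.ext e] at hy))
    exact fun y hy => h ⟨y, hy, rfl⟩
  have hT₀M : (T₀ : Subgroup X) ≤ M' := fun x hx => hSM hx.1
  intro T
  obtain ⟨x, hx⟩ := MulAction.exists_smul_eq X T₀ T
  have hTe : (T : Subgroup X) = (T₀ : Subgroup X).map (MulAut.conj x).toMonoidHom := by rw [← hx]; rfl
  set e := MulAut.conj x
  refine ⟨fun hn => hnn ?_, M'.map e.toMonoidHom, ⟨⟨?_, ?_⟩, ?_⟩, ?_⟩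
  · have := hn.comap e.toMonoidHom
    rwa [hTe, Subgroup.comap_map_eq_self_of_injective (MulEquiv.injective e)] at this
  · intro h
    exact hM'1 (Subgroup.map_injective (f := e.toMonoidHom) (MulEquiv.injective e)
      (h.trans (Subgroup.map_top_of_surjective _ (MulEquiv.surjective e)).symm))
  · intro Y hY
    by_contra hne
    have h1 : (T₀ : Subgroup X) ≤ Y.comap e.toMonoidHom :=
      Subgroup.map_le_iff_le_comap.1 ((Subgroup.map_mono hT₀M).trans hY.le)
    have h2 := hmax _ h1 (fun h => hne (by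
      rw [← Subgroup.map_comap_eq_self_of_surjective (f := e.toMonoidHom) (MulEquiv.surjective e) Y]
      rw [show Y.comap e.toMonoidHom = ⊤ from h]
      exact Subgroup.map_top_of_surjective _ (MulEquiv.surjective e)))
    refine hY.not_ge ?_
    rw [← Subgroup.map_comap_eq_self_of_surjective (f := e.toMonoidHom) (MulEquiv.surjective e) Y]
    exact Subgroup.map_mono h2
  · rw [hTe]; exact Subgroup.map_mono hT₀M
  · rintro Y ⟨hYc, hYT⟩
    have h1 : (T₀ : Subgroup X) ≤ Y.comap e.toMonoidHom := by
      rw [← Subgroup.map_le_iff_le_comap, ← hTe]; exact hYT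
    have h2 := hmax _ h1 (fun h => hYc.1 (by
      rw [← Subgroup.map_comap_eq_self_of_surjective (f := e.toMonoidHom) (MulEquiv.surjective e) Y]
      rw [show Y.comap e.toMonoidHom = ⊤ from h]
      exact Subgroup.map_top_of_surjective _ (MulEquiv.surjective e)))
    have h3 : Y ≤ M'.map e.toMonoidHom := by
      rw [← Subgroup.map_comap_eq_self_of_surjective (f := e.toMonoidHom) (MulEquiv.surjective e) Y]
      exact Subgroup.map_mono h2
    by_contra hne
    refine hM'1 (Subgroup.map_injective (f := e.toMonoidHom) (MulEquiv.injective e) ?_)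
    rw [hYc.2 _ (lt_of_le_of_ne h3 hne)]
    exact (Subgroup.map_top_of_surjective _ (MulEquiv.surjective e)).symm

end Cfsg.Agent.S2906
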