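import Cfsg.Statements.S2907


set_option autoImplicit false
open Cfsg

namespace Cfsg.Agent.S2907

/-- Let X be a finite semi-extraspecial p-group and x an element of X outside the centre. Then the index of C_X(x) in X equals the order of Z(X), and the commutators [x, y], y ∈ X, form exactly the centre Z(X). -/
theorem result {X : Type*} [Group X] [Finite X] {p : ℕ} [Fact p.Prime] (hX : Cfsg.IsSemiExtraspecial p X) (x : X) (hx : x ∉ Subgroup.center X) : (Subgroup.centralizer ({x} : Set X)).index = Nat.card ↥(Subgroup.center X) ∧ {z : X | ∃ y : X, z = x * y * x⁻¹ * y⁻¹} = (Subgroup.center X : Set X) := by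
  set Z := Subgroup.center X with hZ
  obtain ⟨⟨hp, -, hcomm⟩, hext⟩ := hX
  have hmem : ∀ y : X, x * y * x⁻¹ * y⁻¹ ∈ Z := fun y => by
    rw [hZ, ← hcomm]
    exact Subgroup.commutator_mem_commutator (Subgroup.mem_top x) (Subgroup.mem_top y)
  let φ : X →* Z := MonoidHom.mk' (fun y => ⟨x * y * x⁻¹ * y⁻¹, hmem y⟩) fun a b => by
    refine Subtype.ext ?_
    have h := Subgroup.mem_center_iff.1 (hmem b) a
    simp only [Subgroup.coe_mul]
    calc x * (a * b) * x⁻¹ * (a * b)⁻¹
        = (x * a * x⁻¹) * (x * b * x⁻¹ * b⁻¹) * a⁻¹ := by group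
      _ = (x * a * x⁻¹ * a⁻¹) * (a * (x * b * x⁻¹ * b⁻¹)) * a⁻¹ := by group
      _ = (x * a * x⁻¹ * a⁻¹) * (x * b * x⁻¹ * b⁻¹) := by rw [h]; group
  have hsurj : φ.range = ⊤ := by
    by_contra hne
    obtain ⟨Y', hY', hle⟩ := (IsCoatomic.eq_top_or_exists_le_coatom φ.range).resolve_left hne
    set Y := Y'.map Z.subtype with hY
    have hYZ : Y ≤ Z := Subgroup.map_subtype_le _
    have hsub : Y.subgroupOf Z = Y' :=
      Subgroup.comap_map_eq_self_of_injective Z.subtype_injective _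
    obtain ⟨hYn, hE⟩ := hext Y hYZ (hsub.symm ▸ hY')
    set π := QuotientGroup.mk' Y
    have hker : ∀ {a : X}, π a = 1 ↔ a ∈ Y := fun {a} => QuotientGroup.eq_one_iff a
    have hxc : π x ∈ Subgroup.center (X ⧸ Y) := by
      rw [Subgroup.mem_center_iff]
      intro b
      obtain ⟨y, rfl⟩ := QuotientGroup.mk'_surjective Y b
      have h1 : π (x * y * x⁻¹ * y⁻¹) = 1 := hker.2 ⟨_, hle ⟨y, rfl⟩, rfl⟩
      simp only [map_mul, map_inv, mul_inv_eq_iff_eq_mul, one_mul] at h1
      exact h1.symm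
    obtain ⟨z, hzY'⟩ : ∃ z : Z, z ∉ Y' := by
      by_contra h
      rw [not_exists_not] at h
      exact hY'.1 (eq_top_iff.2 fun z _ => h z)
    have hzY : (z : X) ∉ Y := fun h => hzY' (hsub ▸ Subgroup.mem_subgroupOf.2 h)
    have hzc : π (z : X) ∈ Subgroup.center (X ⧸ Y) := by
      rw [Subgroup.mem_center_iff]
      intro b
      obtain ⟨y, rfl⟩ := QuotientGroup.mk'_surjective Y b
      change π y * π (z : X) = π (z : X) * π y
      rw [← map_mul, ← map_mul, Subgroup.mem_center_iff.1 z.2 y]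
    have hgen := zpowers_eq_top_of_prime_card (p := p) hE.2
      (g := ⟨π (z : X), hzc⟩) (fun h => hzY (hker.1 (congrArg Subtype.val h)))
    obtain ⟨k, hk⟩ := Subgroup.mem_zpowers_iff.1
      (hgen.ge (Subgroup.mem_top (⟨π x, hxc⟩ : Subgroup.center (X ⧸ Y))))
    have hk' : π (z : X) ^ k = π x := by simpa using congrArg Subtype.val hk
    have h3 : ((z : X) ^ k)⁻¹ * x ∈ Y := hker.1 (by rw [map_mul, map_inv, map_zpow, hk', inv_mul_cancel])
    exact hx (by simpa using mul_mem (zpow_mem z.2 k) (hYZ h3))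
  have hkerφ : φ.ker = Subgroup.centralizer ({x} : Set X) := by
    ext y
    rw [MonoidHom.mem_ker, Subgroup.mem_centralizer_singleton_iff, ← Subtype.val_inj]
    change x * y * x⁻¹ * y⁻¹ = 1 ↔ _
    rw [mul_inv_eq_one, mul_inv_eq_iff_eq_mul]
    exact eq_comm
  refine ⟨?_, ?_⟩
  · rw [← hkerφ, Subgroup.index_ker, hsurj]
    exact Subgroup.card_top
  · ext z
    constructor
    · rintro ⟨y, rfl⟩; exact hmem y
    · intro hz
      obtain ⟨y, hy⟩ : (⟨z, hz⟩ : Z) ∈ φ.range := hsurj ▸ Subgroup.mem_top _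
      exact ⟨y, (congrArg Subtype.val hy).symm⟩

end Cfsg.Agent.S2907
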