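import Cfsg.Statements.S2908
import Cfsg.Agent.Lib.Coprime.Commutator
import Cfsg.Agent.Lib.LocalEven.CharP

set_option autoImplicit false
open Cfsg
open scoped commutatorElement

namespace Cfsg.Agent.S2908

/-- Let P be a p-subgroup of a finite group, normalized by a p-subgroup A and by a subgroup B of order prime to p that commutes elementwise with A. If [P, B] ≤ [P, A], then B centralizes P. -/
theorem result {G : Type*} [Group G] [Finite G] {p : ℕ} [Fact p.Prime] (P A B : Subgroup G) (hP : IsPGroup p ↥P) (hA : IsPGroup p ↥A) (hB : ¬ p ∣ Nat.card ↥B) (hnA : A ≤ Subgroup.normalizer (P : Set G)) (hnB : B ≤ Subgroup.normalizer (P : Set G)) (hAB : ⁅A, B⁆ = ⊥) (hcomm : ⁅P, B⁆ ≤ ⁅P, A⁆) : ⁅P, B⁆ = ⊥ := by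
  have hBcop : ∀ b ∈ B, (orderOf b).Coprime p := fun b hb =>
    Nat.Coprime.coprime_dvd_left (Subgroup.orderOf_dvd_natCard _ hb)
      ((Nat.Prime.coprime_iff_not_dvd Fact.out).2 hB).symm
  set H : Subgroup G := A ⊔ P with hH
  have hHp : IsPGroup p H := hA.to_sup_of_normal_right' hP hnA
  have hBA : ∀ a ∈ A, ∀ b ∈ B, a * b = b * a := fun a ha b hb =>
    (Subgroup.mem_centralizer_iff.1 (Subgroup.commutator_eq_bot_iff_le_centralizer.1 hAB ha) b hb).symm
  -- `N` runs down to `⊥`
  have key : ∀ n : ℕ, ∀ N : Subgroup G, Nat.card N = n → N ≤ P →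
      H ≤ Subgroup.normalizer (N : Set G) → B ≤ Subgroup.normalizer (N : Set G) →
      ⁅P, B⁆ ≤ N → ⁅P, B⁆ = ⊥ := by
    intro n
    induction n using Nat.strong_induction_on with
    | _ n ih =>
      intro N hn hNP hHN hBN hle
      by_cases hN : N = ⊥
      · exact le_bot_iff.1 (hN ▸ hle)
      have hNH : IsPGroup p N := hP.to_le hNP
      have hlt : ⁅N, H⁆ < N := CfsgLib.Coprime.commutator_lt_of_isPGroup hNH hHp hHN hN
      set M := ⁅N, H⁆ with hM
      have hconjH : ∀ g ∈ B, ∀ h ∈ H, g * h * g⁻¹ ∈ H := by
        intro g hg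
        suffices H ≤ H.comap (MulAut.conj g).toMonoidHom from fun h hh => this hh
        refine sup_le (fun a ha => ?_) fun x hx => ?_
        · change g * a * g⁻¹ ∈ H
          rw [← hBA a ha g hg, mul_inv_cancel_right]
          exact le_sup_left (b := P) ha
        · exact le_sup_right (a := A) ((Subgroup.mem_normalizer_iff.1 (hnB hg) x).1 hx)
      have hHM : H ≤ Subgroup.normalizer (M : Set G) :=
        CfsgLib.Coprime.le_normalizer_commutator_right N H
      have hBM : B ≤ Subgroup.normalizer (M : Set G) := by
        have hm : ∀ g ∈ B, M ≤ M.comap (MulAut.conj g).toMonoidHom := by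
          intro g hg
          rw [hM, Subgroup.commutator_le]
          intro x hx h hh
          change g * ⁅x, h⁆ * g⁻¹ ∈ ⁅N, H⁆
          have e : g * ⁅x, h⁆ * g⁻¹ = ⁅g * x * g⁻¹, g * h * g⁻¹⁆ := by
            simp only [commutatorElement_def]; group
          rw [e]
          exact Subgroup.commutator_mem_commutator ((Subgroup.mem_normalizer_iff.1 (hBN hg) x).1 hx)
            (hconjH g hg h hh)
        intro g hg
        rw [Subgroup.mem_normalizer_iff]
        refine fun x => ⟨fun hx => hm g hg hx, fun hx => ?_⟩
        have := hm g⁻¹ (B.inv_mem hg) hx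
        simpa [mul_assoc] using this
      refine ih _ ?_ M rfl (hlt.le.trans hNP) hHM hBM ?_
      · rw [← hn]
        exact lt_of_le_of_ne (Subgroup.card_le_of_le hlt.le)
          fun e => hlt.ne (Subgroup.eq_of_le_of_card_ge hlt.le e.ge)
      · -- work modulo `M`
        set J : Subgroup G := Subgroup.normalizer (M : Set G) with hJ
        haveI hMJ : (M.subgroupOf J).Normal :=
          (Subgroup.normal_subgroupOf_iff_le_normalizer (hlt.le.trans ((le_sup_right.trans hHM).trans' hNP))).2 le_rfl
        have hbr : ∀ s t : J, ((⁅s, t⁆ : J) : G) = ⁅(s : G), (t : G)⁆ := fun s t =>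
          map_commutatorElement J.subtype s t
        set π := QuotientGroup.mk' (M.subgroupOf J)
        have hPJ : P ≤ J := le_sup_right.trans hHM
        have hAJ : A ≤ J := le_sup_left.trans hHM
        have h0 : ∀ {j : J}, π j = 1 ↔ (j : G) ∈ M := fun {j} =>
          (QuotientGroup.eq_one_iff j).trans Subgroup.mem_subgroupOf
        have hcent : ∀ (z : J), (z : G) ∈ N → ∀ h : J, (h : G) ∈ H → Commute (π z) (π h) := by
          intro z hz h hh
          have h1 : π ⁅z, h⁆ = 1 :=
            h0.2 (by simpa [hM, hbr] using Subgroup.commutator_mem_commutator hz hh)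
          rw [map_commutatorElement, commutatorElement_eq_one_iff_commute] at h1
          exact h1
        rw [Subgroup.commutator_le]
        intro x hx b hb
        have hbJ : b ∈ J := hBM hb
        set xj : J := ⟨x, hPJ hx⟩
        set bj : J := ⟨b, hbJ⟩
        -- `b` centralizes the image of `[P, A]`
        have hPA : ∀ w : J, (w : G) ∈ ⁅P, A⁆ → Commute (π bj) (π w) := by
          set Cb : Subgroup G :=
            ((Subgroup.centralizer ({π bj} : Set (↥J ⧸ M.subgroupOf J))).comap π).map J.subtype
          suffices ⁅P, A⁆ ≤ Cb by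
            intro w hw
            obtain ⟨w', hw', e⟩ := this hw
            obtain rfl : w' = w := Subtype.ext e
            exact (Subgroup.mem_centralizer_singleton_iff.1 hw').symm
          rw [Subgroup.commutator_le]
          intro u hu a ha
          set uj : J := ⟨u, hPJ hu⟩
          set aj : J := ⟨a, hAJ ha⟩
          refine ⟨⁅uj, aj⁆, ?_, by simp [uj, aj, hbr]⟩
          rw [Subgroup.coe_comap, Set.mem_preimage, SetLike.mem_coe,
            Subgroup.mem_centralizer_singleton_iff, map_commutatorElement]
          have hba : Commute (π bj) (π aj) := by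
            refine (show Commute bj aj from Subtype.ext ?_).map π
            exact (hBA a ha b hb).symm
          -- `n = [u, b]` is central in the image of `H`
          have hn' : ((⁅uj, bj⁆ : J) : G) ∈ N := hle (by
            simpa [uj, bj, hbr] using Subgroup.commutator_mem_commutator hu hb)
          set c := π ⁅uj, bj⁆ with hc
          have hca : Commute c (π aj) := hcent _ hn' aj (le_sup_left (b := P) ha)
          have hcu : Commute c (π uj) := hcent _ hn' uj (le_sup_right (a := A) hu)
          have e1 : π bj * π uj * (π bj)⁻¹ = c⁻¹ * π uj := by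
            rw [hc, map_commutatorElement, commutatorElement_def]; group
          have e2 : π bj * ⁅π uj, π aj⁆ * (π bj)⁻¹ = ⁅π uj, π aj⁆ := by
            calc π bj * ⁅π uj, π aj⁆ * (π bj)⁻¹
                = ⁅π bj * π uj * (π bj)⁻¹, π bj * π aj * (π bj)⁻¹⁆ := by
                  simp only [commutatorElement_def]; group
              _ = ⁅c⁻¹ * π uj, π aj⁆ := by rw [e1, hba.eq, mul_inv_cancel_right]
              _ = ⁅π uj, π aj⁆ := by
                  simp only [commutatorElement_def]
                  calc c⁻¹ * π uj * π aj * (c⁻¹ * π uj)⁻¹ * (π aj)⁻¹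
                      = (c⁻¹ * π uj) * ((π aj * (π uj)⁻¹) * c) * (π aj)⁻¹ := by group
                    _ = (c⁻¹ * π uj) * (c * (π aj * (π uj)⁻¹)) * (π aj)⁻¹ := by
                        rw [(hca.mul_right hcu.inv_right).eq]
                    _ = c⁻¹ * (π uj * c) * (π aj * (π uj)⁻¹ * (π aj)⁻¹) := by group
                    _ = c⁻¹ * (c * π uj) * (π aj * (π uj)⁻¹ * (π aj)⁻¹) := by rw [hcu.eq]
                    _ = _ := by group
          exact (mul_inv_eq_iff_eq_mul.1 e2).symm
        have hxb : ((⁅xj, bj⁆ : J) : G) ∈ ⁅P, B⁆ := by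
          simpa [xj, bj, hbr] using Subgroup.commutator_mem_commutator hx hb
        set c := π ⁅xj, bj⁆ with hc
        have hbc : Commute (π bj) c := hPA _ (hcomm hxb)
        have hcR : c ∈ (P.subgroupOf J).map π :=
          ⟨⁅xj, bj⁆, hNP (hle hxb), rfl⟩
        have e1 : π bj * π xj * (π bj)⁻¹ = c⁻¹ * π xj := by
          rw [hc, map_commutatorElement, commutatorElement_def]; group
        have hc1 : c⁻¹ = 1 := CfsgLib.LocalEvenCharP.eq_one_of_conj_eq
          ((hP.comap_of_injective J.subtype J.subtype_injective).map π)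
          (Nat.Coprime.coprime_dvd_left (orderOf_map_dvd π bj)
            (by rw [Subgroup.orderOf_mk]; exact hBcop b hb))
          (inv_mem hcR) hbc.inv_right.eq e1
        have := h0.1 (inv_eq_one.1 hc1)
        simpa [xj, bj, hbr] using this
  refine key _ P rfl le_rfl (sup_le hnA Subgroup.le_normalizer) hnB ?_
  exact CfsgLib.Coprime.commutator_le_of_normalizes hnB

end Cfsg.Agent.S2908
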