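import Cfsg.Statements.S2909
import Cfsg.Agent.S2908
import Cfsg.Agent.Lib.LocalEven.CharP
import Cfsg.Agent.Lib.Coprime.Commutator
import Cfsg.Agent.Lib.Tech46.CoprimeGen

set_option autoImplicit false
open Cfsg
open scoped commutatorElement

namespace Cfsg.Agent.S2909

/-- Let p be a prime, E a normal p-subgroup of the finite group G, and U a non-cyclic elementary abelian p-subgroup of G such that either C_E(U) = C_E(u) for every nontrivial u ∈ U, or [E, U] = [E, ⟨u⟩] for every nontrivial u ∈ U. If R is a subgroup of order prime to p normalized by U, then [R, U] centralizes E. -/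
theorem result {G : Type*} [Group G] [Finite G] {p : ℕ} [Fact p.Prime] (E : Subgroup G) [E.Normal] (hE : IsPGroup p ↥E) (U : Subgroup G) (hU : Cfsg.IsElementaryAbelian p U) (hnc : ¬ IsCyclic ↥U) (hcond : (∀ u ∈ U, u ≠ 1 → E ⊓ Subgroup.centralizer (U : Set G) = E ⊓ Subgroup.centralizer ({u} : Set G)) ∨ (∀ u ∈ U, u ≠ 1 → ⁅E, U⁆ = ⁅E, Subgroup.zpowers u⁆)) (R : Subgroup G) (hR : ¬ p ∣ Nat.card ↥R) (hRU : U ≤ Subgroup.normalizer (R : Set G)) : ⁅R, U⁆ ≤ Subgroup.centralizer (E : Set G) := by
  obtain ⟨hUc, hUp⟩ := hU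
  have hUcomm : ∀ a ∈ U, ∀ b ∈ U, a * b = b * a := fun a ha b hb =>
    congrArg Subtype.val (hUc.is_comm.comm (⟨a, ha⟩ : U) ⟨b, hb⟩)
  set π := QuotientGroup.mk' (Subgroup.centralizer (E : Set G)) with hπ
  set Y : Subgroup G := (Subgroup.centralizer (U.map π : Set (G ⧸ Subgroup.centralizer (E : Set G)))).comap π
  have hY : ∀ x : G, x ∈ Y ↔ ∀ w ∈ U, ⁅x, w⁆ ∈ Subgroup.centralizer (E : Set G) := by
    intro x
    have key : ∀ w, (⁅x, w⁆ ∈ Subgroup.centralizer (E : Set G) ↔ π x * π w = π w * π x) := by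
      intro w
      rw [← QuotientGroup.eq_one_iff]
      change π ⁅x, w⁆ = 1 ↔ _
      rw [map_commutatorElement, commutatorElement_eq_one_iff_commute]
      rfl
    simp only [key]
    exact ⟨fun h w hw => (Subgroup.mem_centralizer_iff.1 h _ ⟨w, hw, rfl⟩).symm,
      fun h => Subgroup.mem_centralizer_iff.2 (by rintro _ ⟨w, hw, rfl⟩; exact (h w hw).symm)⟩
  suffices hRY : R ≤ Y by
    rw [Subgroup.commutator_le]
    exact fun x hx w hw => (hY x).1 (hRY hx) w hw
  refine CfsgLib.Tech46.le_of_centralizers_corank_one ⟨hUc, hUp⟩ R Y hR hRU ?_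
  intro B' hB'U hcard
  obtain ⟨u, huB, hu1⟩ : ∃ u ∈ B', u ≠ 1 := by
    by_contra hcon
    push Not at hcon
    have hb : B' = ⊥ := (Subgroup.eq_bot_iff_forall _).2 hcon
    rw [hb, Subgroup.card_bot, mul_one] at hcard
    have hUpg : IsPGroup p U := fun a => ⟨1, Subtype.ext (by simpa using hUp a a.2)⟩
    obtain ⟨n, hn⟩ := hUpg.exists_card_eq
    have hn1 : n ≤ 1 := by
      rw [hn] at hcard
      exact (Nat.pow_le_pow_iff_right (Nat.Prime.one_lt Fact.out)).1 (by simpa using hcard)
    interval_cases n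
    · exact hnc (by
        haveI : Subsingleton U := (Nat.card_eq_one_iff_unique.1 (by simpa using hn)).1
        infer_instance)
    · exact hnc (isCyclic_of_prime_card (p := p) (by simpa using hn))
  intro x hx
  have huU : u ∈ U := hB'U huB
  have hxu : x * u = u * x := (Subgroup.mem_centralizer_iff.1 hx.2 u huB).symm
  rw [hY]
  intro w hw
  set y := ⁅x, w⁆ with hy
  have hyR : y ∈ R := by
    have h := R.mul_mem hx.1 ((Subgroup.mem_normalizer_iff.1 (hRU hw) x⁻¹).1 (R.inv_mem hx.1))
    rw [hy, commutatorElement_def]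
    simpa [mul_assoc] using h
  have hycop : (orderOf y).Coprime p := ((Nat.Prime.coprime_iff_not_dvd Fact.out).2
    fun h => hR (h.trans (Subgroup.orderOf_dvd_natCard _ hyR))).symm
  have hEn : ∀ g : G, g ∈ Subgroup.normalizer (E : Set G) := fun g => by
    rw [Subgroup.normalizer_eq_top_iff.2 inferInstance]; trivial
  have hyu : y * u = u * y := by
    have h1 : Commute x u := hxu
    have h2 : Commute w u := hUcomm w hw u huU
    rw [hy, commutatorElement_def]
    exact (((h1.mul_left h2).mul_left h1.inv_left).mul_left h2.inv_left).eq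
  have hzu : ∀ a ∈ Subgroup.zpowers u, y * a = a * y := by
    rintro _ ⟨k, rfl⟩
    exact (show Commute y u from hyu).zpow_right k
  have hAp : IsPGroup p (Subgroup.zpowers u) := fun a => ⟨1, Subtype.ext (by
    simpa using hUp a ((Subgroup.zpowers_le.2 huU) a.2))⟩
  rcases hcond with hc | hc
  · rw [Subgroup.mem_centralizer_iff]
    intro e he
    refine (CfsgLib.LocalEvenCharP.commute_of_fixes_centralizer hE hAp (fun a _ => hEn a) hycop
      (hEn y) hzu ?_ e he).symm
    intro e he hfix
    have h1 : e ∈ E ⊓ Subgroup.centralizer (U : Set G) := by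
      rw [hc u huU hu1]
      exact ⟨he, Subgroup.mem_centralizer_singleton_iff.2 (hfix u (Subgroup.mem_zpowers u)).symm⟩
    have h2 : x⁻¹ * e * x ∈ E ⊓ Subgroup.centralizer (U : Set G) := by
      rw [hc u huU hu1]
      refine ⟨by simpa using Subgroup.Normal.conj_mem inferInstance e he x⁻¹,
        Subgroup.mem_centralizer_singleton_iff.2 ?_⟩
      have hue : u * e = e * u := hfix u (Subgroup.mem_zpowers u)
      have hxu' : x⁻¹ * u = u * x⁻¹ := (show Commute x u from hxu).inv_left.eq
      calc x⁻¹ * e * x * u = x⁻¹ * (e * u) * x := by rw [mul_assoc _ x u, hxu]; group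
        _ = (x⁻¹ * u) * (e * x) := by rw [← hue]; group
        _ = u * (x⁻¹ * e * x) := by rw [hxu']; group
    have hwe : w * e = e * w := Subgroup.mem_centralizer_iff.1 h1.2 w hw
    have hwe' : w * (x⁻¹ * e * x) = (x⁻¹ * e * x) * w := Subgroup.mem_centralizer_iff.1 h2.2 w hw
    rw [hy, commutatorElement_def]
    calc x * w * x⁻¹ * w⁻¹ * e = x * w * x⁻¹ * (w⁻¹ * (e * w)) * w⁻¹ := by group
      _ = x * (w * (x⁻¹ * e * x)) * x⁻¹ * w⁻¹ := by rw [← hwe]; group
      _ = e * (x * w * x⁻¹ * w⁻¹) := by rw [hwe']; group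
  · set D := ⁅E, U⁆ with hD
    have hDu : D = ⁅E, Subgroup.zpowers u⁆ := hc u huU hu1
    have hnE : ∀ g ∈ E, g ∈ Subgroup.normalizer (D : Set G) :=
      fun g hg => CfsgLib.Coprime.le_normalizer_commutator_left E U hg
    have hnU : ∀ g ∈ U, g ∈ Subgroup.normalizer (D : Set G) :=
      fun g hg => CfsgLib.Coprime.le_normalizer_commutator_right E U hg
    have hnx : ∀ g : G, g * u = u * g → ∀ d ∈ D, g * d * g⁻¹ ∈ D := by
      intro g hg
      suffices D ≤ D.comap (MulAut.conj g).toMonoidHom from fun d hd => this hd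
      rw [hDu, Subgroup.commutator_le]
      intro e he a ha
      change g * ⁅e, a⁆ * g⁻¹ ∈ ⁅E, Subgroup.zpowers u⁆
      have e1 : g * ⁅e, a⁆ * g⁻¹ = ⁅g * e * g⁻¹, g * a * g⁻¹⁆ := by
        simp only [commutatorElement_def]; group
      rw [e1]
      refine Subgroup.commutator_mem_commutator (Subgroup.Normal.conj_mem inferInstance e he g) ?_
      obtain ⟨k, rfl⟩ := ha
      have h := ((show Commute g u from hg).zpow_right k).eq
      simp [h]
    have hnw : ∀ d ∈ D, ∀ g ∈ U, g * d * g⁻¹ ∈ D := fun d hd g hg =>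
      (Subgroup.mem_normalizer_iff.1 (hnU g hg) d).1 hd
    have hwD : ∀ e ∈ E, ∀ g ∈ U, g * e * g⁻¹ * e⁻¹ ∈ D := by
      intro e he g hg
      have := D.inv_mem (Subgroup.commutator_mem_commutator he hg)
      simpa [commutatorElement_def, mul_assoc] using this
    have hyD : ∀ e ∈ E, y * e * y⁻¹ * e⁻¹ ∈ D := by
      intro e he
      have h1 : w⁻¹ * e * w * e⁻¹ ∈ D := by simpa using hwD e he w⁻¹ (U.inv_mem hw)
      set d1 := w⁻¹ * e * w * e⁻¹ with hd1
      have hxi : x⁻¹ * u = u * x⁻¹ := (show Commute x u from hxu).inv_left.eq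
      have h2 : x⁻¹ * d1 * x ∈ D := by simpa using hnx x⁻¹ hxi d1 h1
      have he' : x⁻¹ * e * x ∈ E := by simpa using Subgroup.Normal.conj_mem inferInstance e he x⁻¹
      have h3 : w * (x⁻¹ * d1 * x) * w⁻¹ * (w * (x⁻¹ * e * x) * w⁻¹ * (x⁻¹ * e * x)⁻¹) ∈ D :=
        D.mul_mem (hnw _ h2 w hw) (hwD _ he' w hw)
      have h4 := hnx x hxu _ h3
      convert h4 using 1
      rw [hd1, hy, commutatorElement_def]; group
    have hyn : ∀ d ∈ D, y * d * y⁻¹ ∈ D := hnx y hyu
    have hypow : ∀ n : ℕ, ∀ e ∈ E, y ^ n * e * (y ^ n)⁻¹ * e⁻¹ ∈ D := by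
      intro n
      induction n with
      | zero => intro e _; simp
      | succ n ih =>
        intro e he
        have h := D.mul_mem (hyn _ (ih e he)) (hyD e he)
        convert h using 1
        rw [pow_succ']; group
    have hres := Cfsg.Agent.S2908.result E (Subgroup.zpowers u) (Subgroup.zpowers y) hE hAp
      (by rw [Nat.card_zpowers]; exact (Nat.Prime.coprime_iff_not_dvd Fact.out).1 hycop.symm)
      (fun a _ => hEn a) (fun a _ => hEn a)
      (by
        rw [Subgroup.commutator_eq_bot_iff_le_centralizer]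
        intro a ha
        rw [Subgroup.mem_centralizer_iff]
        rintro _ ⟨j, rfl⟩
        exact ((show Commute y a from hzu a ha).zpow_left j).eq)
      (by
        rw [← hc u huU hu1, Subgroup.commutator_le]
        intro e he b hb
        obtain ⟨n, rfl⟩ := (mem_powers_iff_mem_zpowers.2 hb)
        have := D.inv_mem (hypow n e he)
        simpa [commutatorElement_def, mul_assoc] using this)
    rw [Subgroup.mem_centralizer_iff]
    intro e he
    exact (Subgroup.mem_centralizer_iff.1
      (Subgroup.commutator_eq_bot_iff_le_centralizer.1 hres he) y (Subgroup.mem_zpowers y)).symm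

end Cfsg.Agent.S2909
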