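import Cfsg.Statements.S2910
import Cfsg.Agent.Lib.Transfer.NormalComplement
import Cfsg.Agent.Lib.OddOrder41.FixOmega

set_option autoImplicit false
open Cfsg

namespace Cfsg.Agent.S2910

/-- Let p be an odd prime dividing the order of the finite group G and P a Sylow p-subgroup of G. If Ω₁(P) (generated by the elements of order dividing p) is contained in the centre of G, then G has a normal p-complement. In particular, if G is quasisimple then Ω₁(P) is not central in G. -/
theorem result {G : Type*} [Group G] [Finite G] {p : ℕ} [Fact p.Prime] (hp : p ≠ 2) (hdiv : p ∣ Nat.card G) (P : Sylow p G) (hZ : Cfsg.omegaOne p (P : Subgroup G) ≤ Subgroup.center G) : Cfsg.HasNormalPComplement p G ∧ ¬ Cfsg.IsQuasisimple G := by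
  have hnc : Cfsg.HasNormalPComplement p G := by
    refine CfsgLib.Transfer.hasNormalPComplement_of_frobeniusCond
      (CfsgLib.Transfer.frobeniusCond_of_le_sylow P ?_)
    intro Q hQ g hg hcop
    rw [Subgroup.mem_centralizer_iff]
    intro x hx
    refine (CfsgLib.OddOrder41.fixes_of_fixes_exponent_p hp g hcop _ Q rfl (P.isPGroup'.to_le hQ)
      (fun y hy => (Subgroup.mem_normalizer_iff.1 hg y).1 hy) ?_ x hx).symm
    intro y hy hy1
    exact Subgroup.mem_center_iff.1 (hZ (Subgroup.subset_closure ⟨hQ hy, hy1⟩)) g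
  refine ⟨hnc, fun hq => ?_⟩
  have h1 := CfsgLib.Transfer.hasNormalPComplement_iff.1 hnc
  haveI := CfsgLib.Transfer.pResidual_normal (G := G) (p := p)
  have hR : Cfsg.pResidual p G = ⊤ := by
    by_contra hne
    haveI := hq.1
    haveI : Group.IsPerfect (G ⧸ Cfsg.pResidual p G) :=
      Group.IsPerfect.ofSurjective (QuotientGroup.mk'_surjective (Cfsg.pResidual p G))
    haveI : Nontrivial (G ⧸ Cfsg.pResidual p G) := QuotientGroup.nontrivial_iff.2 hne
    haveI : Group.IsNilpotent (G ⧸ Cfsg.pResidual p G) :=
      (CfsgLib.Transfer.isPGroup_quotient_of_pResidual_le _ le_rfl).isNilpotent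
    exact Group.IsPerfect.not_isSolvable (G ⧸ Cfsg.pResidual p G) inferInstance
  exact h1 (by rw [hR, Subgroup.card_top]; exact hdiv)

end Cfsg.Agent.S2910
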