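import Cfsg.Statements.S2912
import Cfsg.Agent.Lib.PGroup.Extraspecial

set_option autoImplicit false
open Cfsg

namespace Cfsg.Agent.S2912

open Subgroup Finset
open scoped commutatorElement

universe u v

theorem eq_zero_of_nsmul {M : Type*} [AddCommGroup M] {a b : ℕ} [Fact a.Prime] [Fact b.Prime]
    (hab : a ≠ b) {m : M} (h1 : a • m = 0) (h2 : b • m = 0) : m = 0 := by
  rw [← AddMonoid.addOrderOf_eq_one_iff]
  exact Nat.eq_one_of_dvd_coprimes ((Nat.coprime_primes Fact.out Fact.out).mpr hab)
    (addOrderOf_dvd_of_nsmul_eq_zero h1) (addOrderOf_dvd_of_nsmul_eq_zero h2)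

theorem card_eq_pow {M : Type*} [AddCommGroup M] [Finite M] {r : ℕ} [Fact r.Prime]
    (h : ∀ m : M, r • m = 0) : ∃ d, Nat.card M = r ^ d := by
  refine ⟨_, Nat.eq_prime_pow_of_unique_prime_dvd Nat.card_pos.ne' fun {q} hq hqd => ?_⟩
  haveI : Fact q.Prime := ⟨hq⟩
  obtain ⟨m, hm⟩ := exists_prime_addOrderOf_dvd_card' q hqd
  exact (Nat.prime_dvd_prime_iff_eq hq Fact.out).mp (hm ▸ addOrderOf_dvd_of_nsmul_eq_zero (h m))

/-- An invariant subgroup inherits the action. -/
def restrictRep {F M : Type*} [Monoid F] [AddCommGroup M] (ρ : F →* AddMonoid.End M)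
    (N : AddSubgroup M) (h : ∀ f : F, ∀ m ∈ N, ρ f m ∈ N) : F →* AddMonoid.End N where
  toFun f :=
    { toFun := fun m => ⟨ρ f m, h f m m.2⟩
      map_zero' := Subtype.ext (map_zero (ρ f))
      map_add' := fun a b => Subtype.ext (map_add (ρ f) (a : M) b) }
  map_one' := by
    refine AddMonoidHom.ext fun m => Subtype.ext ?_
    show ρ 1 (m : M) = m
    rw [map_one]; rfl
  map_mul' f g := by
    refine AddMonoidHom.ext fun m => Subtype.ext ?_
    show ρ (f * g) (m : M) = ρ f (ρ g m)
    rw [map_mul]; rfl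

theorem index_centralizer_le {F : Type*} [Group F] [Finite F] {z : F} {p : ℕ}
    (hcomm : ∀ x y : F, ⁅x, y⁆ ∈ zpowers z) (hcardz : Nat.card (zpowers z) = p) (x : F)
    (hzc : z ∈ Subgroup.center F) : (Subgroup.centralizer ({x} : Set F)).index ≤ p := by
  let φ : F →* zpowers z :=
    MonoidHom.mk' (fun g => (⟨⁅g, x⁆, hcomm g x⟩ : zpowers z)) fun g h => Subtype.ext
      (CfsgLib.PGroup.commutatorElement_mul_left_of_central g h x (zpowers_le.mpr hzc (hcomm h x)))
  have hker : φ.ker = Subgroup.centralizer ({x} : Set F) := by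
    ext g
    rw [MonoidHom.mem_ker, Subgroup.mem_centralizer_singleton_iff, ← commutatorElement_eq_one_iff_mul_comm]
    exact ⟨fun h => congrArg Subtype.val h, fun h => Subtype.ext h⟩
  rw [← hker, Subgroup.index_ker, ← hcardz]
  exact Nat.le_of_dvd Nat.card_pos (Subgroup.card_subgroup_dvd_card _)

theorem centralizer_pair {F : Type*} [Group F] [Finite F] {z : F} {p : ℕ} [Fact p.Prime]
    (hcomm : ∀ x y : F, ⁅x, y⁆ ∈ zpowers z) (hcardz : Nat.card (zpowers z) = p)
    (hzc : z ∈ Subgroup.center F) (x y : F) (hy : x * y ≠ y * x) :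
    Nat.card (Subgroup.centralizer ({x} : Set F) ⊓ Subgroup.centralizer ({y} : Set F) : Subgroup F) * p ^ 2 = Nat.card F ∧
      (Subgroup.centralizer ({x} : Set F) ⊓ Subgroup.centralizer ({y} : Set F)) ⊔ Subgroup.closure ({x, y} : Set F) = ⊤ := by
  have hcen : ∀ a b : F, ⁅a, b⁆ ∈ Subgroup.center F := fun a b => zpowers_le.mpr hzc (hcomm a b)
  have hp : p.Prime := Fact.out
  let φ : F →* zpowers z × zpowers z :=
    MonoidHom.mk' (fun g => ((⟨⁅g, x⁆, hcomm g x⟩ : zpowers z), (⟨⁅g, y⁆, hcomm g y⟩ : zpowers z)))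
      fun g h => Prod.ext
        (Subtype.ext (CfsgLib.PGroup.commutatorElement_mul_left_of_central g h x (hcen h x)))
        (Subtype.ext (CfsgLib.PGroup.commutatorElement_mul_left_of_central g h y (hcen h y)))
  have hker : φ.ker = Subgroup.centralizer ({x} : Set F) ⊓ Subgroup.centralizer ({y} : Set F) := by
    ext g
    rw [MonoidHom.mem_ker, Subgroup.mem_inf, Subgroup.mem_centralizer_singleton_iff,
      Subgroup.mem_centralizer_singleton_iff, ← commutatorElement_eq_one_iff_mul_comm,
      ← commutatorElement_eq_one_iff_mul_comm]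
    exact ⟨fun h => ⟨congrArg (fun q => (q.1 : F)) h, congrArg (fun q => (q.2 : F)) h⟩,
      fun h => Prod.ext (Subtype.ext h.1) (Subtype.ext h.2)⟩
  have hgen : ∀ e ∈ zpowers z, e ≠ 1 → ∀ d ∈ zpowers z, d ∈ zpowers e := by
    intro e he hne d hd
    haveI : Fact (Nat.card (zpowers z)).Prime := ⟨hcardz.symm ▸ hp⟩
    have h := Subgroup.eq_bot_or_eq_top_of_prime_card ((zpowers e).subgroupOf (zpowers z))
    rcases h with h | h
    · refine absurd ?_ hne
      have : (⟨e, he⟩ : zpowers z) ∈ (⊥ : Subgroup (zpowers z)) := h ▸ mem_zpowers e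
      exact congrArg Subtype.val (Subgroup.mem_bot.mp this)
    · exact (h ▸ Subgroup.mem_top (⟨d, hd⟩ : zpowers z) :
        (⟨d, hd⟩ : zpowers z) ∈ (zpowers e).subgroupOf (zpowers z))
  have hxy : ⁅x, y⁆ ≠ 1 := fun h => hy (commutatorElement_eq_one_iff_mul_comm.mp h)
  have hyx : ⁅y, x⁆ ≠ 1 := fun h => hy (commutatorElement_eq_one_iff_mul_comm.mp h).symm
  have himg : (Subgroup.closure ({x, y} : Set F)).map φ = ⊤ := by
    refine top_unique fun q _ => ?_
    obtain ⟨i, hi⟩ := Subgroup.mem_zpowers_iff.mp (hgen _ (hcomm y x) hyx _ q.1.2)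
    obtain ⟨j, hj⟩ := Subgroup.mem_zpowers_iff.mp (hgen _ (hcomm x y) hxy _ q.2.2)
    have hx' : x ∈ Subgroup.closure ({x, y} : Set F) := Subgroup.subset_closure (by simp)
    have hy' : y ∈ Subgroup.closure ({x, y} : Set F) := Subgroup.subset_closure (by simp)
    refine ⟨y ^ i * x ^ j, mul_mem (zpow_mem hy' i) (zpow_mem hx' j), ?_⟩
    rw [map_mul, map_zpow, map_zpow]
    refine Prod.ext (Subtype.ext ?_) (Subtype.ext ?_)
    · show ⁅y, x⁆ ^ i * ⁅x, x⁆ ^ j = q.1.1
      rw [commutatorElement_self, one_zpow, mul_one, hi]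
    · show ⁅y, y⁆ ^ i * ⁅x, y⁆ ^ j = q.2.1
      rw [commutatorElement_self, one_zpow, one_mul, hj]
  refine ⟨?_, ?_⟩
  · have hidx : φ.ker.index = p ^ 2 := by
      rw [Subgroup.index_ker, show φ.range = ⊤ from top_unique (himg ▸ Subgroup.map_le_range φ _),
        Subgroup.card_top, Nat.card_prod, hcardz, pow_two]
    rw [← hidx, ← hker, Subgroup.card_mul_index]
  · rw [← hker, sup_comm, ← Subgroup.comap_map_eq, himg, Subgroup.comap_top]

theorem bound {p r : ℕ} [Fact p.Prime] [Fact r.Prime] (n : ℕ)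
    (hmin : ∀ k : ℕ, 1 ≤ k → p ∣ r ^ k - 1 → n ≤ k) (hdiv : p ∣ r ^ n - 1) (hn : 1 ≤ n) (hpr : p ≠ r) :
    ∀ (w : ℕ) (F : Type u) [Group F] [Finite F] (M : Type v) [AddCommGroup M] [Finite M] [Nontrivial M]
      (ρ : F →* AddMonoid.End M) (z : F), Nat.card F = p ^ (2 * w + 1) → z ∈ Subgroup.center F →
      z ^ p = 1 → z ≠ 1 → (∀ x y : F, ⁅x, y⁆ ∈ zpowers z) → (∀ x : F, x ^ p ∈ zpowers z) →
      (∀ x ∈ Subgroup.center F, x ∈ zpowers z) → (∀ m : M, r • m = 0) →
      (∀ m : M, ρ z m = m → m = 0) → r ^ (n * p ^ w) ≤ Nat.card M := by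
  intro w
  induction w with
  | zero =>
    intro F _ _ M _ _ _ ρ z hcard _ hzp hz1 _ _ _ hexp hfpf
    rw [pow_zero, mul_one]
    letI : MulAction F M :=
      { smul := fun f m => ρ f m
        one_smul := fun m => by show ρ 1 m = m; rw [map_one]; rfl
        mul_smul := fun f g m => by show ρ (f * g) m = ρ f (ρ g m); rw [map_mul]; rfl }
    have h := (IsPGroup.of_card hcard).card_modEq_card_fixedPoints M
    have hfixed : MulAction.fixedPoints F M = {(0 : M)} := by
      ext m
      refine ⟨fun hm => hfpf m (hm z), ?_⟩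
      rintro rfl f
      exact map_zero (ρ f)
    rw [hfixed, Nat.card_eq_fintype_card (α := ({(0 : M)} : Set M))] at h
    simp only [Set.card_singleton] at h
    obtain ⟨d, hd⟩ := card_eq_pow hexp
    have hd1 : 1 ≤ d := by
      by_contra h0
      have h1 := Finite.one_lt_card (α := M)
      rw [hd, show d = 0 by omega, pow_zero] at h1
      omega
    rw [hd] at h ⊢
    exact Nat.pow_le_pow_right (Fact.out : r.Prime).pos
      (hmin d hd1 ((Nat.modEq_iff_dvd' (Nat.one_le_pow _ _ (Fact.out : r.Prime).pos)).mp h.symm))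
  | succ w ih =>
    intro F _ _ M _ _ _ ρ z hcard hzc hzp hz1 hcomm hpow hcent hexp hfpf
    have hp : p.Prime := Fact.out
    have hzord : orderOf z = p := orderOf_eq_prime hzp hz1
    have hcardz : Nat.card (zpowers z) = p := by rw [Nat.card_zpowers, hzord]
    have hcen : ∀ x y : F, ⁅x, y⁆ ∈ Subgroup.center F := fun x y =>
      zpowers_le.mpr hzc (hcomm x y)
    have hfpfi : ∀ e : ℕ, ¬ p ∣ e → ∀ m : M, ρ (z ^ e) m = m → m = 0 := by
      intro e he m hm
      obtain ⟨k, hk⟩ := Nat.exists_mul_mod_eq_one_of_coprime ((hp.coprime_iff_not_dvd.mpr he).symm) hp.one_lt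
      have hk' : (z ^ e) ^ k = z := by
        rw [← pow_mul, ← pow_mod_orderOf, hzord, hk.2, pow_one]
      refine hfpf m ?_
      have : ∀ i : ℕ, ρ ((z ^ e) ^ i) m = m := by
        intro i
        induction i with
        | zero => rw [pow_zero, map_one]; rfl
        | succ i ih => rw [pow_succ, map_mul]; show ρ _ (ρ _ m) = m; rw [hm, ih]
      have := this k
      rwa [hk'] at this
    -- an element of order `p` outside the centre, or the quaternion case
    by_cases hQ : ∃ x : F, x ∉ zpowers z ∧ x ^ p = 1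
    swap
    · push Not at hQ
      have hbig : Nat.card (zpowers z) < Nat.card F := by
        rw [hcardz, hcard]
        calc p = p ^ 1 := (pow_one p).symm
          _ < _ := Nat.pow_lt_pow_right hp.one_lt (by omega)
      obtain ⟨x, hx⟩ : ∃ x : F, x ∉ zpowers z := by
        by_contra! hall
        rw [show zpowers z = ⊤ from top_unique fun x _ => hall x, Subgroup.card_top] at hbig
        omega
      obtain ⟨y, hy⟩ : ∃ y : F, x * y ≠ y * x := by
        by_contra! hall
        exact hx (hcent x (Subgroup.mem_center_iff.mpr fun y => (hall y).symm))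
      have hgen : ∀ e ∈ zpowers z, e ≠ 1 → zpowers e = zpowers z := fun e he hne =>
        Subgroup.eq_of_le_of_card_ge (zpowers_le.mpr he) (by
          rw [hcardz, Nat.card_zpowers, orderOf_eq_prime (p := p) ?_ hne]
          obtain ⟨k, rfl⟩ := he
          show (z ^ k) ^ p = 1
          rw [← zpow_natCast, ← zpow_mul, mul_comm, zpow_mul, zpow_natCast, hzp, one_zpow])
      have hnot : ∀ a ∉ zpowers z, zpowers (a ^ p) = zpowers z := fun a ha =>
        hgen _ (hpow a) (hQ a ha)
      have hp2 : p = 2 := by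
        by_contra hne
        have hyz : y ∉ zpowers z := fun h => hy
          ((Subgroup.mem_center_iff.mp (zpowers_le.mpr hzc h)) x)
        obtain ⟨k, hk⟩ := Subgroup.mem_zpowers_iff.mp ((hnot x hx).symm ▸ hpow y : y ^ p ∈ zpowers (x ^ p))
        have hnm : x ^ (-k) * y ∉ zpowers z := by
          intro h
          apply hy
          obtain ⟨e, he⟩ := Subgroup.mem_zpowers_iff.mp h
          have hcz : Commute x (z ^ e) := Subgroup.mem_center_iff.mp (zpow_mem hzc e) x
          rw [show y = x ^ k * z ^ e by rw [he]; group]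
          exact ((Commute.refl x).zpow_right k).mul_right hcz |>.eq
        refine hQ _ hnm ?_
        rw [CfsgLib.PGroup.mul_pow_odd_of_central (hp.odd_of_ne_two hne) (hcen _ _) ?_]
        · rw [← hk, ← zpow_natCast (x ^ (-k)), ← zpow_mul, ← zpow_natCast x p, ← zpow_mul, ← zpow_add]
          rw [show -k * (p : ℤ) + (p : ℤ) * k = 0 by ring, zpow_zero]
        · obtain ⟨e, he⟩ := Subgroup.mem_zpowers_iff.mp (hcomm y (x ^ (-k)))
          rw [← he, ← zpow_natCast, ← zpow_mul, mul_comm, zpow_mul, zpow_natCast, hzp, one_zpow]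
      subst hp2
      have hsq : ∀ a ∉ zpowers z, a ^ 2 = z := fun a ha => by
        obtain ⟨k, hk⟩ := Subgroup.mem_zpowers_iff.mp (hpow a)
        rcases Int.even_or_odd k with ⟨l, rfl⟩ | ⟨l, rfl⟩
        · exact absurd (by rw [← hk, ← two_mul, zpow_mul,
            show z ^ (2 : ℤ) = 1 from (zpow_natCast z 2).trans hzp, one_zpow]) (hQ a ha)
        · rw [← hk, zpow_add, zpow_mul, show z ^ (2 : ℤ) = 1 from (zpow_natCast z 2).trans hzp,
            one_zpow, one_mul, zpow_one]
      obtain rfl : w = 0 := by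
        by_contra hw
        set C := Subgroup.centralizer ({x} : Set F)
        have hidx := index_centralizer_le hcomm hcardz x hzc
        have h1 := C.card_mul_index
        rw [hcard] at h1
        have h2 : Nat.card (zpowers x) ≤ 2 ^ 2 := by
          rw [Nat.card_zpowers]
          exact orderOf_le_of_pow_eq_one (by norm_num) (by rw [pow_two 2, pow_mul, hsq x hx, hzp])
        have h3 : 2 ^ 5 ≤ 2 ^ (2 * (w + 1) + 1) := Nat.pow_le_pow_right (by norm_num) (by omega)
        obtain ⟨u, huC, hux⟩ : ∃ u ∈ C, u ∉ zpowers x := by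
          by_contra! hle
          have := Nat.le_of_dvd Nat.card_pos (Subgroup.card_dvd_of_le (show C ≤ zpowers x from hle))
          nlinarith
        have hzx : zpowers z ≤ zpowers x := zpowers_le.mpr (hsq x hx ▸ pow_mem (mem_zpowers x) 2)
        have huz : u ∉ zpowers z := fun h => hux (hzx h)
        have hxu : Commute x u := (Subgroup.mem_centralizer_singleton_iff.mp huC).symm
        refine hQ (x * u) (fun h => hux ?_) ?_
        · have := mul_mem (inv_mem (mem_zpowers x)) (hzx h)
          rwa [inv_mul_cancel_left] at this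
        · rw [hxu.mul_pow, hsq x hx, hsq u huz, ← pow_two, hzp]
      obtain rfl : n = 1 := by
        refine le_antisymm (hmin 1 le_rfl ?_) hn
        rw [pow_one]
        obtain ⟨k, hk⟩ := (Fact.out : r.Prime).odd_of_ne_two (Ne.symm hpr)
        exact ⟨k, by omega⟩
      obtain ⟨d, hd⟩ := card_eq_pow hexp
      rw [hd]
      refine Nat.pow_le_pow_right (Fact.out : r.Prime).pos ?_
      by_contra hlt
      have hd1 : d = 1 := by
        have h1 := Finite.one_lt_card (α := M)
        rw [hd] at h1
        rcases d with _ | d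
        · simp at h1
        · simp at hlt; omega
      subst hd1
      haveI : IsAddCyclic M := isAddCyclic_of_prime_card (p := r) (by rw [hd, pow_one])
      obtain ⟨g, hg⟩ := IsAddCyclic.exists_generator (α := M)
      have hsc : ∀ f : F, ∃ k : ℤ, ∀ m : M, ρ f m = k • m := fun f => by
        obtain ⟨k, hk⟩ := AddSubgroup.mem_zmultiples_iff.mp (hg (ρ f g))
        refine ⟨k, fun m => ?_⟩
        obtain ⟨l, rfl⟩ := AddSubgroup.mem_zmultiples_iff.mp (hg m)
        rw [map_zsmul, ← hk, smul_comm]
      have hce : ρ ⁅x, y⁆ = 1 := by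
        have hab : ∀ a b : F, ρ a * ρ b = ρ b * ρ a := fun a b => by
          obtain ⟨k, hk⟩ := hsc a
          obtain ⟨l, hl⟩ := hsc b
          refine AddMonoidHom.ext fun m => ?_
          show ρ a (ρ b m) = ρ b (ρ a m)
          rw [hk, hl, hl, hk, smul_comm]
        rw [commutatorElement_def, map_mul, map_mul, map_mul, hab x y, mul_assoc (ρ y), ← map_mul ρ x,
          mul_inv_cancel, map_one, mul_one, ← map_mul, mul_inv_cancel, map_one]
      have hne : ⁅x, y⁆ ≠ 1 := fun h => hy (commutatorElement_eq_one_iff_mul_comm.mp h)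
      obtain ⟨k, hk⟩ := Subgroup.mem_zpowers_iff.mp
        ((hgen _ (hcomm x y) hne).symm ▸ mem_zpowers z : z ∈ zpowers ⁅x, y⁆)
      obtain ⟨m, hm⟩ := exists_ne (0 : M)
      apply hm (hfpf m ?_)
      have hu : IsUnit (ρ ⁅x, y⁆) := by rw [hce]; exact isUnit_one
      obtain ⟨j, hj⟩ : ∃ j : ℕ, z = ⁅x, y⁆ ^ j := by
        obtain ⟨j, hj⟩ := (mem_powers_iff_mem_zpowers.mpr ⟨k, hk⟩ : z ∈ Submonoid.powers ⁅x, y⁆)
        exact ⟨j, hj.symm⟩
      rw [hj, map_pow, hce, one_pow]
      rfl
    obtain ⟨x, hx, hxp⟩ := hQ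
    obtain ⟨y, hy⟩ : ∃ y : F, x * y ≠ y * x := by
      by_contra! hall
      exact hx (hcent x (Subgroup.mem_center_iff.mpr fun y => (hall y).symm))
    -- the fixed points of `x z^i`
    set a : AddMonoid.End M := ρ z with ha
    set b : AddMonoid.End M := ρ x with hb
    let C : ℕ → AddSubgroup M := fun i =>
      AddMonoidHom.eqLocus ((ρ (x * z ^ i) : AddMonoid.End M) : M →+ M) (AddMonoidHom.id M)
    have hmemC : ∀ i m, m ∈ C i ↔ ρ (x * z ^ i) m = m := fun i m => Iff.rfl
    let N : F → AddMonoid.End M := fun u => ∑ j ∈ range p, ρ (u ^ j)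
    have hNap : ∀ u m, N u m = ∑ j ∈ range p, ρ (u ^ j) m := fun u m =>
      AddMonoidHom.finsetSum_apply _ _ _
    have hxz : Commute x z := Subgroup.mem_center_iff.mp hzc x
    have hNfix : ∀ u : F, u ^ p = 1 → ∀ m, ρ u (N u m) = N u m := by
      intro u hu m
      rw [hNap, map_sum]
      calc ∑ j ∈ range p, ρ u (ρ (u ^ j) m) = ∑ j ∈ range p, ρ (u ^ (j + 1)) m := by
            refine Finset.sum_congr rfl fun j _ => ?_
            rw [pow_succ', map_mul]; rfl
        _ = _ := by
            have h1 := Finset.sum_range_succ' (fun j => ρ (u ^ j) m) p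
            rw [Finset.sum_range_succ, hu, pow_zero] at h1
            exact (add_right_cancel h1).symm
    have hNz : ∀ e : ℕ, ¬ p ∣ e → ∀ m, N (z ^ e) m = 0 := fun e he m =>
      hfpfi e he _ (hNfix (z ^ e) (by rw [← pow_mul, mul_comm, pow_mul, hzp, one_pow]) m)
    have hup : ∀ i, (x * z ^ i) ^ p = 1 := fun i => by
      rw [(hxz.pow_right i).mul_pow, hxp, one_mul, ← pow_mul, mul_comm, pow_mul, hzp, one_pow]
    have hNC : ∀ i k : ℕ, i < p → k < p → ∀ c ∈ C i, N (x * z ^ k) c = if k = i then p • c else 0 := by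
      intro i k hi hk c hc
      have hpowj : ∀ j : ℕ, ρ ((x * z ^ k) ^ j) c = ρ ((z ^ (k + p - i)) ^ j) c := by
        have hbase : x * z ^ k = z ^ (k + p - i) * (x * z ^ i) := by
          rw [← mul_assoc, ← (hxz.pow_right _).eq, mul_assoc, ← pow_add,
            show k + p - i + i = k + p by omega, pow_add, hzp, mul_one]
        have hcz : Commute (z ^ (k + p - i)) (x * z ^ i) :=
          ((hxz.pow_right _).symm).mul_right ((Commute.refl z).pow_pow _ _)
        have hap : ∀ f g : F, ρ (f * g) c = ρ f (ρ g c) := fun f g => by rw [map_mul]; rfl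
        have hap' : ∀ f g : F, ∀ d : M, ρ f (ρ g d) = ρ (f * g) d := fun f g d => by rw [map_mul]; rfl
        intro j
        induction j with
        | zero => simp
        | succ j ih =>
          rw [pow_succ', hap, ih, hap', hbase, mul_assoc, ← ((hcz.pow_left j)).eq, ← mul_assoc,
            ← pow_succ', hap, (hmemC i c).mp hc]
      rw [hNap, Finset.sum_congr rfl fun j _ => hpowj j, ← hNap]
      split_ifs with hki
      · subst hki
        rw [hNap]
        simp [show k + p - k = p by omega, hzp, Finset.sum_const]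
      · refine hNz _ (fun hd => hki ?_) c
        have h1 : (k + p - i) = p := by
          obtain ⟨q, hq⟩ := hd
          rcases q with _ | _ | q <;> nlinarith [Nat.sub_add_cancel (show i ≤ k + p by omega)]
        omega
    have hspan : ∀ m : M, ∑ i ∈ range p, N (x * z ^ i) m = p • m := by
      intro m
      calc ∑ i ∈ range p, N (x * z ^ i) m
          = ∑ j ∈ range p, ∑ i ∈ range p, ρ ((x * z ^ i) ^ j) m := by
            simp only [hNap]; exact Finset.sum_comm
        _ = ∑ j ∈ range p, ρ (x ^ j) (N (z ^ j) m) := by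
            refine Finset.sum_congr rfl fun j _ => ?_
            rw [hNap, map_sum]
            refine Finset.sum_congr rfl fun i _ => ?_
            rw [(hxz.pow_right i).mul_pow, ← pow_mul, ← pow_mul, mul_comm i j, map_mul]
            rfl
        _ = p • m := by
            rw [Finset.sum_eq_single 0 (fun j hj hj0 => by
              rw [hNz j (fun hd => hj0 (Nat.eq_zero_of_dvd_of_lt hd (Finset.mem_range.mp hj))) m,
                map_zero]) (fun h => absurd (Finset.mem_range.mpr hp.pos) h)]
            rw [hNap]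
            simp
    -- the fixed-point subgroups are permuted by `y`
    obtain ⟨s, hs, hsp⟩ : ∃ s : ℕ, ⁅y, x⁆ = z ^ s ∧ ¬ p ∣ s := by
      obtain ⟨s, hs⟩ : ⁅y, x⁆ ∈ Submonoid.powers z := mem_powers_iff_mem_zpowers.mpr (hcomm y x)
      refine ⟨s, hs.symm, fun hd => hy ?_⟩
      have : ⁅y, x⁆ = 1 := by
        obtain ⟨q, rfl⟩ := hd
        rw [← hs]
        show z ^ (p * q) = 1
        rw [pow_mul, hzp, one_pow]
      exact (commutatorElement_eq_one_iff_mul_comm.mp this).symm
    have hmove : ∀ i j : ℕ, ∃ f : F, ∀ c ∈ C i, ρ f c ∈ C j := by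
      intro i j
      obtain ⟨e, -, he⟩ := Nat.exists_mul_mod_eq_one_of_coprime ((hp.coprime_iff_not_dvd.mpr hsp).symm) hp.one_lt
      set t := e * (j + i * (p - 1)) with ht
      refine ⟨y ^ t, fun c hc => ?_⟩
      have hyz : Commute (y ^ t) z := Subgroup.mem_center_iff.mp hzc _
      have hconj : y ^ t * (x * z ^ i) = x * z ^ j * y ^ t := by
        rw [← mul_assoc, CfsgLib.PGroup.pow_mul_eq_commutator_pow_mul (hcen y x) t, hs, ← pow_mul]
        have h3 : (z ^ (s * t) * (x * y ^ t)) * z ^ i = x * (z ^ (s * t) * z ^ i) * y ^ t := by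
          rw [mul_assoc, mul_assoc x (y ^ t), (hyz.pow_right i).eq, ← mul_assoc x, ← mul_assoc,
            ← mul_assoc, ← (hxz.pow_right _).eq, mul_assoc x]
        rw [h3, ← pow_add]
        congr 2
        rw [← pow_mod_orderOf, ← pow_mod_orderOf z j, hzord]
        congr 1
        have h4 : s * t + i ≡ (j + i * (p - 1)) + i [MOD p] := by
          refine Nat.ModEq.add_right _ ?_
          rw [ht, ← mul_assoc]
          conv_rhs => rw [← one_mul (j + i * (p - 1))]
          exact Nat.ModEq.mul_right _ (by rw [Nat.ModEq, he, Nat.one_mod_eq_one.mpr hp.ne_one])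
        refine h4.trans ?_
        rw [Nat.ModEq, add_assoc, show i * (p - 1) + i = i * p by
          rw [← Nat.mul_succ, Nat.succ_eq_add_one, Nat.sub_add_cancel hp.one_le],
          Nat.add_mul_mod_self_right]
      rw [hmemC]
      show (ρ (x * z ^ j) * ρ (y ^ t)) c = _
      rw [← map_mul, ← hconj, map_mul]
      show ρ _ (ρ _ c) = _
      rw [(hmemC i c).mp hc]
    have hinj : ∀ (f : F), Function.Injective (ρ f) := fun f u v h => by
      have := congrArg (ρ f⁻¹) h
      change (ρ f⁻¹ * ρ f) u = (ρ f⁻¹ * ρ f) v at this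
      rwa [← map_mul, inv_mul_cancel, map_one] at this
    have hC0 : C 0 ≠ ⊥ := by
      intro hbot
      obtain ⟨m, hm⟩ := exists_ne (0 : M)
      apply hm
      refine eq_zero_of_nsmul hpr ?_ (hexp m)
      rw [← hspan m]
      refine Finset.sum_eq_zero fun i _ => ?_
      obtain ⟨f, hf⟩ := hmove i 0
      have h1 := hf _ ((hmemC i _).mpr (hNfix _ (hup i) m))
      rw [hbot, AddSubgroup.mem_bot] at h1
      exact hinj f (by rw [h1, map_zero])
    have hcount : Nat.card (C 0) ^ p ≤ Nat.card M := by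
      choose f hf using fun i : Fin p => hmove 0 i
      let Φ : (Fin p → C 0) → M := fun c => ∑ i, ρ (f i) (c i : M)
      have hΦ : Function.Injective Φ := by
        intro c c' hcc
        funext k
        have h1 : ∀ d : Fin p → C 0, N (x * z ^ (k : ℕ)) (Φ d) = p • ρ (f k) (d k : M) := by
          intro d
          rw [map_sum, Finset.sum_eq_single k]
          · rw [hNC k k k.2 k.2 _ (hf k _ (d k).2), if_pos rfl]
          · intro i _ hik
            rw [hNC i k i.2 k.2 _ (hf i _ (d i).2), if_neg fun h => hik (Fin.ext h.symm)]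
          · intro h; exact absurd (Finset.mem_univ k) h
        have h2 := (h1 c).symm.trans ((congrArg _ hcc).trans (h1 c'))
        rw [← sub_eq_zero, ← nsmul_sub] at h2
        exact Subtype.ext (hinj (f k) (sub_eq_zero.mp (eq_zero_of_nsmul hpr h2 (hexp _))))
      calc Nat.card (C 0) ^ p = Nat.card (Fin p → C 0) := by rw [Nat.card_fun, Nat.card_fin]
        _ ≤ _ := Nat.card_le_card_of_injective Φ hΦ
    -- the smaller group
    let F₁ : Subgroup F := Subgroup.centralizer ({x} : Set F) ⊓ Subgroup.centralizer ({y} : Set F)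
    have hzF : z ∈ F₁ := Subgroup.mem_inf.mpr
      ⟨Subgroup.mem_centralizer_singleton_iff.mpr ((Subgroup.mem_center_iff.mp hzc x).symm),
        Subgroup.mem_centralizer_singleton_iff.mpr ((Subgroup.mem_center_iff.mp hzc y).symm)⟩
    obtain ⟨hF₁card, hgenF⟩ := centralizer_pair hcomm hcardz hzc x y hy
    have hF₁c : Nat.card F₁ = p ^ (2 * w + 1) := by
      rw [hcard, show 2 * (w + 1) + 1 = 2 * w + 1 + 2 by ring, pow_add] at hF₁card
      exact Nat.eq_of_mul_eq_mul_right (pow_pos hp.pos 2) hF₁card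
    have hC0inv : ∀ g : F₁, ∀ m ∈ C 0, (ρ.comp F₁.subtype) g m ∈ C 0 := by
      intro g m hm
      rw [hmemC, pow_zero, mul_one] at hm ⊢
      show (ρ x * ρ (g : F)) m = ρ (g : F) m
      rw [← map_mul, ← (Subgroup.mem_centralizer_singleton_iff.mp g.2.1 : (g : F) * x = x * g), map_mul]
      show ρ _ (ρ x m) = _
      rw [hm]
    haveI : Nontrivial (C 0) := (AddSubgroup.nontrivial_iff_ne_bot _).mpr hC0
    have hcast : ∀ e : F₁, (e : F) ∈ zpowers z → e ∈ zpowers (⟨z, hzF⟩ : F₁) := by
      intro e he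
      obtain ⟨k, hk⟩ := he
      exact ⟨k, Subtype.ext hk⟩
    have h := ih F₁ (C 0) (restrictRep (ρ.comp F₁.subtype) (C 0) hC0inv) ⟨z, hzF⟩ hF₁c
      (Subgroup.mem_center_iff.mpr fun g => Subtype.ext (Subgroup.mem_center_iff.mp hzc g))
      (Subtype.ext (by simpa using hzp)) (fun h => hz1 (congrArg Subtype.val h))
      (fun u v => hcast _ (hcomm (u : F) v)) (fun u => hcast _ (by simpa using hpow (u : F))) ?_
      (fun m => Subtype.ext (hexp m)) (fun m hm => Subtype.ext (hfpf _ (congrArg Subtype.val hm)))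
    · refine le_trans ?_ hcount
      rw [show n * p ^ (w + 1) = n * p ^ w * p by ring, pow_mul]
      exact Nat.pow_le_pow_left h p
    · intro g hg
      refine hcast g (hcent _ (Subgroup.mem_center_iff.mpr fun f => ?_))
      have hall : (⊤ : Subgroup F) ≤ Subgroup.centralizer ({(g : F)} : Set F) := by
        rw [← hgenF]
        refine sup_le (fun u hu => ?_) (Subgroup.closure_le _ |>.mpr ?_)
        · exact Subgroup.mem_centralizer_singleton_iff.mpr
            (congrArg Subtype.val (Subgroup.mem_center_iff.mp hg ⟨u, hu⟩))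
        · rintro u (rfl | rfl)
          · exact Subgroup.mem_centralizer_singleton_iff.mpr
              (Subgroup.mem_centralizer_singleton_iff.mp g.2.1).symm
          · exact Subgroup.mem_centralizer_singleton_iff.mpr
              (Subgroup.mem_centralizer_singleton_iff.mp g.2.2).symm
      exact Subgroup.mem_centralizer_singleton_iff.mp (hall (Subgroup.mem_top f))
/-- Let p and r be distinct primes, let E be an extraspecial subgroup of order p^(2w+1) of a finite group, and let A be an elementary abelian r-subgroup normalized by E on which E acts faithfully (C_E(A) = 1). If n ≥ 1 is least with p dividing rⁿ − 1 (the smallest dimension of a faithful representation of a group of order p over the field with r elements), then the order of A is at least r^(n·p^w). -/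
theorem result {G : Type*} [Group G] [Finite G] {p r : ℕ} [Fact p.Prime] [hr : Fact r.Prime] (hpr : p ≠ r) (E A : Subgroup G) (w : ℕ) (hE : Cfsg.IsExtraspecial p ↥E) (hEcard : Nat.card ↥E = p ^ (2 * w + 1)) (hA : Cfsg.IsElementaryAbelian r A) (hnorm : E ≤ Subgroup.normalizer (A : Set G)) (hfaith : E ⊓ Subgroup.centralizer (A : Set G) = ⊥) (n : ℕ) (hn : 1 ≤ n) (hdiv : p ∣ r ^ n - 1) (hmin : ∀ k : ℕ, 1 ≤ k → p ∣ r ^ k - 1 → n ≤ k) : r ^ (n * p ^ w) ≤ Nat.card ↥A := by
  haveI : Fact p.Prime := inferInstance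
  have hp : p.Prime := Fact.out
  haveI := hA.1
  obtain ⟨z, hzc, hz1⟩ : ∃ z ∈ Subgroup.center E, z ≠ 1 := by
    have h : 1 < Nat.card (Subgroup.center E) := hE.2 ▸ hp.one_lt
    haveI := Finite.one_lt_card_iff_nontrivial.mp h
    obtain ⟨⟨z, hz⟩, hne⟩ := exists_ne (1 : Subgroup.center E)
    exact ⟨z, hz, fun hh => hne (Subtype.ext hh)⟩
  have hzp : zpowers z = Subgroup.center E := by
    refine Subgroup.eq_of_le_of_card_ge (zpowers_le.mpr hzc) ?_
    rw [hE.2, Nat.card_zpowers, orderOf_eq_prime
      (CfsgLib.PGroup.extraspecial_center_pow_eq_one hE hzc) hz1]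
  have hconj : ∀ (f : E) (a : A), (f : G) * a * (f : G)⁻¹ ∈ A := fun f a =>
    (Subgroup.mem_normalizer_iff.mp (hnorm f.2) a).mp a.2
  letI : CommGroup A := { (inferInstance : Group A) with mul_comm := mul_comm' }
  let ρ : E →* AddMonoid.End (Additive A) :=
    { toFun := fun f =>
        { toFun := fun a => Additive.ofMul ⟨_, hconj f a.toMul⟩
          map_zero' := Additive.toMul.injective (Subtype.ext (by show (f : G) * ((1 : A) : G) * (f : G)⁻¹ = ((1 : A) : G); simp))
          map_add' := fun a b => Additive.toMul.injective (Subtype.ext (by simp [mul_assoc])) }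
      map_one' := by
        refine AddMonoidHom.ext fun a => Additive.toMul.injective (Subtype.ext ?_)
        show ((1 : E) : G) * (a.toMul : G) * ((1 : E) : G)⁻¹ = (a.toMul : G)
        simp
      map_mul' := fun f g => by
        refine AddMonoidHom.ext fun a => Additive.toMul.injective (Subtype.ext ?_)
        show ((f * g : E) : G) * (a.toMul : G) * ((f * g : E) : G)⁻¹ = (f : G) * ((g : G) * (a.toMul : G) * (g : G)⁻¹) * (f : G)⁻¹
        simp [mul_assoc] }
  -- `z` moves some element
  obtain ⟨a₀, ha₀⟩ : ∃ a : Additive A, ρ z a ≠ a := by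
    by_contra! h
    apply hz1
    have hmem : (z : G) ∈ E ⊓ Subgroup.centralizer (A : Set G) := by
      refine Subgroup.mem_inf.mpr ⟨z.2, ?_⟩
      rw [Subgroup.mem_centralizer_iff]
      intro a ha
      have h1 : (z : G) * a * (z : G)⁻¹ = a :=
        congrArg (fun b : Additive A => ((b.toMul : A) : G)) (h (Additive.ofMul ⟨a, ha⟩))
      exact (mul_inv_eq_iff_eq_mul.mp h1).symm
    rw [hfaith, Subgroup.mem_bot] at hmem
    exact Subtype.ext hmem
  let M₁ : AddSubgroup (Additive A) := ((ρ z - 1 : AddMonoid.End (Additive A)) : Additive A →+ Additive A).range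
  have hM₁inv : ∀ f : E, ∀ m ∈ M₁, ρ f m ∈ M₁ := by
    rintro f _ ⟨m, rfl⟩
    refine ⟨ρ f m, ?_⟩
    show ρ z (ρ f m) - ρ f m = ρ f (ρ z m - m)
    rw [map_sub]
    congr 1
    show (ρ z * ρ f) m = (ρ f * ρ z) m
    rw [← map_mul, ← map_mul, (Subgroup.mem_center_iff.mp hzc f)]
  have hexp : ∀ m : Additive A, r • m = 0 := fun m => by
    have := hA.2 _ (m.toMul).2
    exact Additive.toMul.injective (Subtype.ext (by simpa [toMul_nsmul] using this))
  have hz' : z ^ p = 1 := CfsgLib.PGroup.extraspecial_center_pow_eq_one hE hzc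
  have hfix : ∀ m : M₁, ρ z m = (m : Additive A) → m = 0 := by
    rintro ⟨_, b, rfl⟩ hm
    set c := ρ z b - b with hc
    have hmz : ρ z c = c := hm
    have hi : ∀ i : ℕ, ρ (z ^ i) b = b + i • c := by
      intro i
      induction i with
      | zero => simp
      | succ i ih =>
        rw [pow_succ', map_mul]
        show ρ z (ρ (z ^ i) b) = _
        rw [ih, map_add, map_nsmul, hmz, show ρ z b = b + c by rw [hc]; abel, succ_nsmul]
        abel
    have h2 := hi p
    rw [hz', map_one] at h2
    exact Subtype.ext (eq_zero_of_nsmul hpr (left_eq_add.mp h2) (hexp c))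
  haveI : Nontrivial M₁ := by
    refine ⟨⟨⟨ρ z a₀ - a₀, a₀, rfl⟩, 0, fun h => ha₀ ?_⟩⟩
    exact sub_eq_zero.mp (congrArg Subtype.val h)
  let ρ₁ : E →* AddMonoid.End M₁ := restrictRep ρ M₁ hM₁inv
  have key := bound n hmin hdiv hn hpr w E M₁ ρ₁ z hEcard hzc hz' hz1
    (fun x y => hzp ▸ CfsgLib.PGroup.extraspecial_comm_mem_center hE x y)
    (fun x => hzp ▸ CfsgLib.PGroup.extraspecial_pow_mem_center hE x)
    (fun x hx => hzp ▸ hx) (fun m => Subtype.ext (hexp m))
    (fun m hm => hfix m (congrArg Subtype.val hm))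
  exact key.trans ((Nat.card_le_card_of_injective _ Subtype.val_injective).trans
    (le_of_eq (Nat.card_congr Additive.toMul)))
end Cfsg.Agent.S2912
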