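import Cfsg.Statements.S2917
import Cfsg.Agent.Lib.GTwoTwoLocal.HalfOf
import Cfsg.Agent.Lib.GTwoTwoLocal.ThreeLocal
import Cfsg.Agent.Classical.SLGen
import Cfsg.Agent.Classical.SLBasic

set_option autoImplicit false
open Cfsg

namespace Cfsg.Agent.S2917

open CfsgLib.GTwoTwoLocal Model
open CfsgLib.GL23 (Ct mem_Ct)

theorem sl_centre : ∀ x : Fin 24, (∀ y : Fin 24, tab x y = tab y x) → (x : ℕ) = 0 ∨ (x : ℕ) = 1 := by
  decide +kernel

theorem eight_cube : toSL 8 ^ 3 = 1 :=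
  (evalPow_eq_zero (by norm_num) 3).1 (by decide +kernel)

theorem central_eq {p : SL} (h : ∀ q : SL, p * q = q * p) : p = 1 ∨ p = toSL 1 := by
  obtain ⟨x, hx, rfl⟩ := exists_number p
  rcases sl_centre ⟨x, hx⟩ (fun y => toSL_injective (tab_lt hx y.2) (tab_lt y.2 hx) (by
    rw [toSL_tab hx y.2, toSL_tab y.2 hx]; exact h _)) with e | e
  · left; rw [show x = 0 from e, toSL_zero]
  · right; rw [show x = 1 from e]

/-- Elements of order three generate `SL(2, 3)`. -/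
theorem sl_induction {P : SL → Prop} (h1 : P 1) (hmul : ∀ a b, P a → P b → P (a * b))
    (h3 : ∀ a : SL, a ^ 3 = 1 → P a) (a : SL) : P a := by
  obtain ⟨x, hx, rfl⟩ := exists_number a
  rw [← word_spec hx, (toSL_evalW (by norm_num) (by norm_num) _).2]
  have key : ∀ (w : List Bool) (g : SL), P g →
      P (w.foldl (fun g b => g * if b then toSL 8 else toSL 12) g) := by
    intro w
    induction w with
    | nil => exact fun g hg => hg
    | cons b w ih =>
      intro g hg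
      refine ih _ (hmul _ _ hg ?_)
      cases b
      · exact h3 _ t12_cube
      · exact h3 _ eight_cube
  exact key _ 1 h1

theorem card_sl32 : Nat.card (Matrix.SpecialLinearGroup (Fin 3) (ZMod 2)) = 168 := by
  have h := Cfsg.Agent.Classical.card_sl_mul (F := ZMod 2) 3 (by norm_num)
  rw [Fin.prod_univ_three, ZMod.card] at h
  simp only [Fin.val_zero, Fin.val_one, Fin.val_two] at h
  omega

theorem isSimple_sl32 : IsSimpleGroup (Matrix.SpecialLinearGroup (Fin 3) (ZMod 2)) := by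
  have hsim := Cfsg.Agent.Classical.psl_isSimpleGroup (F := ZMod 2) (ι := Fin 3) (by norm_num)
  have hc : Subgroup.center (Matrix.SpecialLinearGroup (Fin 3) (ZMod 2)) = ⊥ := by
    apply Subgroup.eq_bot_of_card_eq
    rw [Cfsg.Agent.Classical.card_center_sl 3 (by norm_num), ZMod.card]
    rfl
  let e : Matrix.SpecialLinearGroup (Fin 3) (ZMod 2) ≃* Matrix.ProjectiveSpecialLinearGroup (Fin 3) (ZMod 2) :=
    ((QuotientGroup.quotientBot).symm).trans (QuotientGroup.quotientMulEquivOfEq hc.symm)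
  exact e.isSimpleGroup


/-- Let G be a finite group with subgroups H and M such that: H has normal subgroups H₁, H₂ both isomorphic to SL₂(3) with H₁ ∩ H₂ = Z(H₁) = Z(H₂), the product H₁H₂ has index 2 in H, and H = C_G(H₁ ∩ H₂); and M ⧸ O₂(M) ≅ SL₃(2) with O₂(M) elementary abelian of order 8 containing Z(H₁). Then G is isomorphic to the Chevalley group G₂(3). -/
theorem result {G : Type*} [Group G] [Finite G] (H H₁ H₂ M : Subgroup G) (h1 : H₁ ≤ H) (h2 : H₂ ≤ H) (hn1 : (H₁.subgroupOf H).Normal) (hn2 : (H₂.subgroupOf H).Normal) (hiso1 : Nonempty (↥H₁ ≃* Matrix.SpecialLinearGroup (Fin 2) (ZMod 3))) (hiso2 : Nonempty (↥H₂ ≃* Matrix.SpecialLinearGroup (Fin 2) (ZMod 3))) (hidx : (H₁ ⊔ H₂).relIndex H = 2) (hint1 : H₁ ⊓ H₂ = H₁ ⊓ Subgroup.centralizer (H₁ : Set G)) (hint2 : H₁ ⊓ H₂ = H₂ ⊓ Subgroup.centralizer (H₂ : Set G)) (hHC : H = Subgroup.centralizer ((H₁ ⊓ H₂ : Subgroup G) : Set G)) [hOM : (Cfsg.pCore 2 ↥M).Normal] (hM : Nonempty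 ((↥M ⧸ Cfsg.pCore 2 ↥M) ≃* Matrix.SpecialLinearGroup (Fin 3) (ZMod 2))) (hOel : Cfsg.IsElementaryAbelian 2 (Cfsg.pCore 2 ↥M)) (hOcard : Nat.card ↥(Cfsg.pCore 2 ↥M) = 8) (hZin : H₁ ⊓ H₂ ≤ (Cfsg.pCore 2 ↥M).map M.subtype) : ∃ (F : Type) (_ : Field F) (_ : Fintype F), Fintype.card F = 3 ∧ Nonempty (G ≃* ↥(Cfsg.Lie.chevG2.group F)) := by
  classical
  obtain ⟨e1⟩ := hiso1
  obtain ⟨e2⟩ := hiso2
  obtain ⟨eM⟩ := hM
  let ι₁ : SL →* G := H₁.subtype.comp e1.symm.toMonoidHom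
  let ι₂ : SL →* G := H₂.subtype.comp e2.symm.toMonoidHom
  have inj₁ : Function.Injective ι₁ := H₁.subtype_injective.comp e1.symm.injective
  have inj₂ : Function.Injective ι₂ := H₂.subtype_injective.comp e2.symm.injective
  have m₁ : ∀ a, ι₁ a ∈ H₁ := fun a => (e1.symm a).2
  have m₂ : ∀ a, ι₂ a ∈ H₂ := fun a => (e2.symm a).2
  have s₁ : ∀ w ∈ H₁, ∃ a, ι₁ a = w := fun w hw => ⟨e1 ⟨w, hw⟩, by simp [ι₁]⟩
  have s₂ : ∀ w ∈ H₂, ∃ a, ι₂ a = w := fun w hw => ⟨e2 ⟨w, hw⟩, by simp [ι₂]⟩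
  obtain ⟨z, hzdef⟩ : ∃ z, z = ι₁ (toSL 1) := ⟨_, rfl⟩
  have hzI : z ∈ H₁ ⊓ H₂ := by
    rw [hint1, Subgroup.mem_inf, hzdef]
    refine ⟨m₁ _, Subgroup.mem_centralizer_iff.2 fun w hw => ?_⟩
    obtain ⟨a, rfl⟩ := s₁ w hw
    rw [← map_mul, ← map_mul, neg_comm]
  have hI : ∀ w ∈ H₁ ⊓ H₂, w = 1 ∨ w = z := by
    intro w hw
    have hc := hw
    rw [hint1] at hc
    obtain ⟨a, rfl⟩ := s₁ w hw.1
    rcases central_eq (p := a) (fun q => inj₁ (by
      rw [map_mul, map_mul]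
      exact (Subgroup.mem_centralizer_iff.1 hc.2 _ (m₁ q)).symm)) with e | e
    · left; rw [e, map_one]
    · right; rw [e, hzdef]
  have hz1 : z ≠ 1 := fun e => neg_facts.2 (inj₁ (by rw [← hzdef, e, map_one]))
  have hz2 : z * z = 1 := by rw [hzdef, ← map_mul, neg_facts.1, map_one]
  have hzord : orderOf z = 2 := by
    have : Fact (Nat.Prime 2) := ⟨Nat.prime_two⟩
    exact orderOf_eq_prime (by rw [pow_two, hz2]) hz1
  have hn2' : ι₂ (toSL 1) = z := by
    refine (hI _ ?_).resolve_left (fun e => neg_facts.2 (inj₂ (by rw [e, map_one])))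
    rw [hint2]
    refine ⟨m₂ _, Subgroup.mem_centralizer_iff.2 fun w hw => ?_⟩
    obtain ⟨a, rfl⟩ := s₂ w hw
    rw [← map_mul, ← map_mul, neg_comm]
  have hcent : H = Ct z := by
    rw [hHC]
    refine le_antisymm (fun g hg => mem_Ct.2 (Subgroup.mem_centralizer_iff.1 hg z hzI).symm) ?_
    intro g hg
    refine Subgroup.mem_centralizer_iff.2 fun w hw => ?_
    rcases hI w hw with rfl | rfl
    · rw [one_mul, mul_one]
    · exact (mem_Ct.1 hg).symm
  have nn₁ : ∀ x ∈ H, ∀ w ∈ H₁, x * w * x⁻¹ ∈ H₁ := fun x hx w hw =>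
    hn1.conj_mem ⟨w, h1 hw⟩ hw ⟨x, hx⟩
  have nn₂ : ∀ x ∈ H, ∀ w ∈ H₂, x * w * x⁻¹ ∈ H₂ := fun x hx w hw =>
    hn2.conj_mem ⟨w, h2 hw⟩ hw ⟨x, hx⟩
  have hcomm : ∀ a b, Commute (ι₁ a) (ι₂ b) := by
    intro a b
    refine sl_induction (P := fun a => Commute (ι₁ a) (ι₂ b)) ?_ ?_ ?_ a
    · rw [map_one]; exact Commute.one_left _
    · intro p q hp hq; rw [map_mul]; exact hp.mul_left hq
    · intro p hp
      have hw : ι₁ p * ι₂ b * (ι₁ p)⁻¹ * (ι₂ b)⁻¹ ∈ H₁ ⊓ H₂ :=
        ⟨by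
          have := H₁.mul_mem (m₁ p) (nn₁ _ (h2 (m₂ b)) _ (H₁.inv_mem (m₁ p)))
          rwa [← mul_assoc, ← mul_assoc] at this,
         H₂.mul_mem (nn₂ _ (h1 (m₁ p)) _ (m₂ b)) (H₂.inv_mem (m₂ b))⟩
      rcases hI _ hw with e | e
      · exact mul_inv_eq_iff_eq_mul.1 (by rwa [mul_inv_eq_one] at e)
      · exfalso
        -- conjugation by an element of order three multiplies by `z`, so thrice gives `z = 1`
        have hconj : ι₁ p * ι₂ b * (ι₁ p)⁻¹ = z * ι₂ b := by rw [← e]; group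
        have hpz : ι₁ p * z * (ι₁ p)⁻¹ = z := by
          rw [hzdef, ← map_mul, ← neg_comm, map_mul, mul_inv_cancel_right]
        have h3 : ι₁ p * ι₁ p * ι₁ p = 1 := by
          rw [← map_mul, ← map_mul, show p * p * p = 1 by rw [← hp, pow_succ, pow_two], map_one]
        have h4 : ι₁ p * (ι₁ p * (z * ι₂ b) * (ι₁ p)⁻¹) * (ι₁ p)⁻¹ = ι₂ b := by
          rw [← hconj]
          calc _ = (ι₁ p * ι₁ p * ι₁ p) * ι₂ b * (ι₁ p * ι₁ p * ι₁ p)⁻¹ := by group
            _ = _ := by rw [h3]; group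
        have h5 : ∀ y, ι₁ p * (z * y) * (ι₁ p)⁻¹ = z * (ι₁ p * y * (ι₁ p)⁻¹) := fun y => by
          calc ι₁ p * (z * y) * (ι₁ p)⁻¹ = (ι₁ p * z * (ι₁ p)⁻¹) * (ι₁ p * y * (ι₁ p)⁻¹) := by group
            _ = _ := by rw [hpz]
        rw [h5, hconj, h5, h5, hconj, ← mul_assoc z z, hz2, one_mul] at h4
        exact hz1 (mul_eq_right.1 h4)
  have hinter : ∀ a b, ι₁ a = ι₂ b → a = 1 ∨ a = toSL 1 := by
    intro a b hab
    rcases hI (ι₁ a) ⟨m₁ a, hab ▸ m₂ b⟩ with e | e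
    · exact Or.inl (inj₁ (e.trans (map_one _).symm))
    · exact Or.inr (inj₁ (e.trans hzdef))
  have hct : Nat.card (Ct z) = 576 := by
    have hK : Nat.card (H₁ ⊔ H₂ : Subgroup G) = 288 := by
      let φ : SL × SL →* G := ι₁.noncommCoprod ι₂ hcomm
      have hr : φ.range = H₁ ⊔ H₂ := by
        refine le_antisymm ?_ (sup_le (fun w hw => ?_) fun w hw => ?_)
        · rintro _ ⟨⟨a, b⟩, rfl⟩
          exact mul_mem (Subgroup.mem_sup_left (m₁ a)) (Subgroup.mem_sup_right (m₂ b))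
        · obtain ⟨a, rfl⟩ := s₁ w hw
          exact ⟨(a, 1), by simp [φ]⟩
        · obtain ⟨b, rfl⟩ := s₂ w hw
          exact ⟨(1, b), by simp [φ]⟩
      have hker : φ.ker = Subgroup.zpowers ((toSL 1, toSL 1) : SL × SL) := by
        refine le_antisymm (fun q hq => ?_) ?_
        · obtain ⟨a, b⟩ := q
          have hq' : ι₁ a * ι₂ b = 1 := hq
          have hab : ι₁ a = ι₂ b⁻¹ := by rw [map_inv]; exact eq_inv_of_mul_eq_one_left hq'
          rcases hinter _ _ hab with e | e <;> subst e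
          · rw [map_one, one_mul] at hq'
            rw [inj₂ (hq'.trans (map_one _).symm)]
            exact one_mem _
          · have : b = toSL 1 := inj₂ (by
              rw [hn2', eq_inv_of_mul_eq_one_right hq', ← hzdef, inv_eq_of_mul_eq_one_right hz2])
            rw [this]
            exact Subgroup.mem_zpowers _
        · rw [Subgroup.zpowers_le, MonoidHom.mem_ker]
          show ι₁ (toSL 1) * ι₂ (toSL 1) = 1
          rw [← hzdef, hn2', hz2]
      have hk2 : Nat.card φ.ker = 2 := by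
        have : Fact (Nat.Prime 2) := ⟨Nat.prime_two⟩
        rw [hker, Nat.card_zpowers]
        exact orderOf_eq_prime (by rw [pow_two, Prod.mk_mul_mk, neg_facts.1]; rfl)
          (fun e => neg_facts.2 (congrArg Prod.fst e))
      have h := φ.ker.card_mul_index
      rw [Subgroup.index_ker, hr, hk2, Nat.card_prod, Cfg.card_SL] at h
      omega
    have h := (((H₁ ⊔ H₂).subgroupOf H)).card_mul_index
    rw [Nat.card_congr (Subgroup.subgroupOfEquivOfLe (sup_le h1 h2)).toEquiv, hK] at h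
    rw [show ((H₁ ⊔ H₂).subgroupOf H).index = 2 from hidx] at h
    rw [← hcent]
    omega
  have hcardE : Nat.card ((Cfsg.pCore 2 ↥M).map M.subtype) = 8 := by
    rw [Subgroup.card_subtype]; exact hOcard
  have hcardM : Nat.card M = 1344 := by
    rw [Subgroup.card_eq_card_quotient_mul_card_subgroup (Cfsg.pCore 2 ↥M), hOcard,
      Nat.card_congr eM.toEquiv, card_sl32]
  have hzE : z ∈ (Cfsg.pCore 2 ↥M).map M.subtype := hZin hzI
  have hself : ∀ m ∈ M, (∀ e ∈ (Cfsg.pCore 2 ↥M).map M.subtype, Commute m e) →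
      m ∈ (Cfsg.pCore 2 ↥M).map M.subtype := by
    intro m hm hme
    let C : Subgroup M := Subgroup.centralizer (Cfsg.pCore 2 ↥M : Set M)
    have hC : C.Normal := inferInstance
    have hle : Cfsg.pCore 2 ↥M ≤ C := fun u hu => Subgroup.mem_centralizer_iff.2 fun v hv => by
      have := hOel.1
      exact congrArg Subtype.val (this.is_comm.comm (⟨v, hv⟩ : Cfsg.pCore 2 ↥M) ⟨u, hu⟩)
    have hmC : (⟨m, hm⟩ : M) ∈ C := Subgroup.mem_centralizer_iff.2 fun v hv =>
      Subtype.ext (hme v ⟨v, hv, rfl⟩).eq.symm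
    have hsim : IsSimpleGroup (↥M ⧸ Cfsg.pCore 2 ↥M) := by
      have := isSimple_sl32
      exact eM.isSimpleGroup
    rcases (hC.map (QuotientGroup.mk' (Cfsg.pCore 2 ↥M))
      (QuotientGroup.mk'_surjective _)).eq_bot_or_eq_top with e | e
    · rw [Subgroup.map_eq_bot_iff, QuotientGroup.ker_mk'] at e
      exact ⟨⟨m, hm⟩, e hmC, rfl⟩
    · exfalso
      have htop : C = ⊤ := by
        have h' := congrArg (Subgroup.comap (QuotientGroup.mk' (Cfsg.pCore 2 ↥M))) e
        rwa [Subgroup.comap_map_eq, QuotientGroup.ker_mk', sup_eq_left.2 hle, Subgroup.comap_top] at h'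
      obtain ⟨zM, hzO, hzM⟩ := hzE
      have hMle : M ≤ Ct z := fun g hg => by
        have hgC : (⟨g, hg⟩ : M) ∈ C := htop ▸ Subgroup.mem_top _
        have := congrArg Subtype.val (Subgroup.mem_centralizer_iff.1 hgC zM hzO)
        rw [← hzM]
        exact mem_Ct.2 this.symm
      have := Subgroup.card_dvd_of_le hMle
      rw [hcardM, hct] at this
      norm_num at this
  let c : Cfg G :=
    { z := z
      hz := hzord
      ι₁ := ι₁
      ι₂ := ι₂
      inj₁ := inj₁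
      inj₂ := inj₂
      neg₁ := hzdef.symm
      neg₂ := hn2'
      comm := hcomm
      inter := hinter
      normal₁ := fun x hx a => by
        obtain ⟨a', ha'⟩ := s₁ _ (nn₁ x (hcent ▸ hx) _ (m₁ a))
        exact ⟨a', ha'.symm⟩
      normal₂ := fun x hx a => by
        obtain ⟨a', ha'⟩ := s₂ _ (nn₂ x (hcent ▸ hx) _ (m₂ a))
        exact ⟨a', ha'.symm⟩
      card_ct := hct
      M := M
      E := (Cfsg.pCore 2 ↥M).map M.subtype
      E_le := Subgroup.map_subtype_le _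
      card_E := hcardE
      sq_E := by
        rintro _ ⟨u, hu, rfl⟩
        rw [← map_mul, ← pow_two, hOel.2 u hu, map_one]
      conj_E := by
        rintro g hg _ ⟨u, hu, rfl⟩
        exact ⟨⟨g, hg⟩ * u * ⟨g, hg⟩⁻¹, hOM.conj_mem u hu ⟨g, hg⟩, rfl⟩
      z_mem := hzE
      card_M := hcardM
      self_cent := hself }
  obtain ⟨T⟩ := exists_three c
  exact T.exists_chev

end Cfsg.Agent.S2917
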