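import Cfsg.Statements.S2924
import Cfsg.Agent.Lib.LocalEven.CharP
import Cfsg.Agent.Lib.Components.FStar
import Cfsg.Agent.Lib.PCore.Basic
import Cfsg.Agent.Lib.Solvable.Fitting

set_option autoImplicit false
open Cfsg

namespace Cfsg.Agent.S2924
open CfsgLib.LocalEvenCharP

variable {X : Type*} [Group X] [Finite X]

/-- `O(C(a))` inside `X`. -/
def th (a : X) : Subgroup X :=
  (Cfsg.oddCore ↥(Subgroup.centralizer ({a} : Set X))).map
    (Subgroup.centralizer ({a} : Set X)).subtype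

theorem th_le (a : X) : th a ≤ Subgroup.centralizer ({a} : Set X) := Subgroup.map_subtype_le _

theorem th_coprime (a : X) : (Nat.card (th a)).Coprime 2 := by
  rw [th, Subgroup.card_map_of_injective (Subgroup.subtype_injective _)]
  exact CfsgLib.PCore.pPrimeCore_coprime

theorem th_odd {a x : X} (hx : x ∈ th a) : (orderOf x).Coprime 2 :=
  (th_coprime a).coprime_dvd_left (Subgroup.orderOf_dvd_natCard _ hx)

theorem th_conj_mem {a g x : X} (hg : g ∈ Subgroup.centralizer ({a} : Set X)) (hx : x ∈ th a) :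
    g * x * g⁻¹ ∈ th a := by
  obtain ⟨y, hy, rfl⟩ := hx
  exact ⟨⟨g, hg⟩ * y * ⟨g, hg⟩⁻¹, (Cfsg.pPrimeCore_normal 2 _).conj_mem y hy _, rfl⟩

theorem mem_th_iff {a x : X} (hxa : x ∈ Subgroup.centralizer ({a} : Set X)) :
    (⟨x, hxa⟩ : Subgroup.centralizer ({a} : Set X)) ∈
      Cfsg.oddCore ↥(Subgroup.centralizer ({a} : Set X)) ↔ x ∈ th a := by
  constructor
  · exact fun h => ⟨_, h, rfl⟩
  · rintro ⟨y, hy, rfl⟩
    exact hy

theorem le_th {a : X} {N : Subgroup X} (hN : N ≤ Subgroup.centralizer ({a} : Set X))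
    (hn : Subgroup.centralizer ({a} : Set X) ≤ Subgroup.normalizer (N : Set X))
    (hc : (Nat.card N).Coprime 2) : N ≤ th a := by
  intro x hx
  refine (mem_th_iff (hN hx)).1 (CfsgLib.PCore.le_pPrimeCore
    ((Subgroup.normal_subgroupOf_iff_le_normalizer hN).2 hn) ?_ hx)
  rwa [Nat.card_congr (Subgroup.subgroupOfEquivOfLe hN).toEquiv]

/-- An element of `O(C(a))` fixing `O₂(M)` pointwise as soon as it fixes the `a`-fixed points. -/
theorem commute_pCoreOf {a x : X} (hx : x ∈ th a) (ha : a ^ 2 = 1) {M : Subgroup X}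
    (haM : a ∈ Subgroup.normalizer (Cfsg.pCoreOf 2 M : Set X))
    (hxM : x ∈ Subgroup.normalizer (Cfsg.pCoreOf 2 M : Set X)) :
    ∀ r ∈ Cfsg.pCoreOf 2 M, x * r = r * x := by
  haveI : Fact (Nat.Prime 2) := ⟨Nat.prime_two⟩
  have hA : IsPGroup 2 (Subgroup.zpowers a) := by
    rintro ⟨y, k, rfl⟩
    refine ⟨1, Subtype.ext ?_⟩
    change (a ^ k) ^ (2 ^ 1) = 1
    rw [← zpow_natCast, ← zpow_mul, mul_comm, zpow_mul, pow_one]
    norm_num [ha]
  have hxa : Commute x a := Subgroup.mem_centralizer_singleton_iff.1 (th_le a hx)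
  refine commute_of_fixes_centralizer (isPGroup_pCoreOf 2 M) hA ?_ (th_odd hx) hxM ?_ ?_
  · rwa [Subgroup.zpowers_le]
  · rintro _ ⟨k, rfl⟩
    exact hxa.zpow_right k
  · intro r hr hra
    have hrc : r ∈ Subgroup.centralizer ({a} : Set X) :=
      Subgroup.mem_centralizer_singleton_iff.2 (hra a (Subgroup.mem_zpowers a)).symm
    have h1 : x * r * x⁻¹ * r⁻¹ ∈ th a := by
      have := (th a).mul_mem hx (th_conj_mem hrc ((th a).inv_mem hx))
      simpa [mul_assoc] using this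
    have h2 : x * r * x⁻¹ * r⁻¹ ∈ Cfsg.pCoreOf 2 M :=
      mul_mem ((Subgroup.mem_normalizer_iff.1 hxM r).1 hr) (inv_mem hr)
    have h3 := eq_one_of_coprime_of_mem (isPGroup_pCoreOf 2 M) h2 (th_odd h1)
    rwa [mul_inv_eq_one, mul_inv_eq_iff_eq_mul] at h3

theorem conj_eq_inv_of_fixed_free {z : X} {N : Subgroup X} (hz : z ^ 2 = 1)
    (hn : z ∈ Subgroup.normalizer (N : Set X))
    (hfree : ∀ x ∈ N, z * x = x * z → x = 1) {x : X} (hx : x ∈ N) : z * x * z⁻¹ = x⁻¹ := by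
  let φ : N →* N :=
    MonoidHom.mk' (fun y => ⟨z * y * z⁻¹, (Subgroup.mem_normalizer_iff.1 hn y).1 y.2⟩)
      fun a b => Subtype.ext (by simp [mul_assoc])
  have h1 : MonoidHom.FixedPointFree φ := fun y hy =>
    Subtype.ext (hfree y y.2 (mul_inv_eq_iff_eq_mul.1 (congrArg Subtype.val hy)))
  have h2 : Function.Involutive φ := fun y => Subtype.ext (by
    change z * (z * (y : X) * z⁻¹) * z⁻¹ = y
    calc z * (z * (y : X) * z⁻¹) * z⁻¹ = (z * z) * y * (z * z)⁻¹ := by group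
      _ = y := by rw [← sq, hz]; simp)
  exact congrArg Subtype.val (congrFun (h1.coe_eq_inv_of_involutive h2) ⟨x, hx⟩)

theorem mem_of_sq_mem {C : Subgroup X} {x : X} (hx : (orderOf x).Coprime 2) (h : x ^ 2 ∈ C) :
    x ∈ C := by
  obtain ⟨k, hk⟩ := exists_pow_eq_self_of_coprime hx.symm
  rw [← hk]
  exact pow_mem h k

/-- Balance. -/
theorem balance {z a b x : X} (hz : z ^ 2 = 1) (ha : a ^ 2 = 1) (hab : a * b = b * a)
    (hzb : z * b = b * z) (hinv : ∀ e, e = a ∨ e = b → ∀ y ∈ th e, z * y * z⁻¹ = y⁻¹)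
    (hlayer : Cfsg.layer ↥(Subgroup.centralizer ({b} : Set X)) = ⊥) (hx : x ∈ th a)
    (hxb : x * b = b * x) : x ∈ th b := by
  haveI : Fact (Nat.Prime 2) := ⟨Nat.prime_two⟩
  set H := Subgroup.centralizer ({b} : Set X) with hH
  have hxH : x ∈ H := Subgroup.mem_centralizer_singleton_iff.2 hxb
  have haH : a ∈ H := Subgroup.mem_centralizer_singleton_iff.2 hab
  have hzH : z ∈ H := Subgroup.mem_centralizer_singleton_iff.2 hzb
  have hO : ∀ o ∈ th b, x * o = o * x := by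
    intro o ho
    have hsq : x ^ 2 ∈ Subgroup.centralizer ({o} : Set X) := by
      have ho' : x⁻¹ * o⁻¹ * x ∈ th b := by
        simpa using th_conj_mem (H.inv_mem hxH) ((th b).inv_mem ho)
      have e1 : (x * x) * o * (x * x)⁻¹ = o := by
        have hzz : z⁻¹ = z := inv_eq_of_mul_eq_one_right (by rw [← sq, hz])
        have k1 : z * o * z⁻¹ = o⁻¹ := hinv b (Or.inr rfl) o ho
        have k2 : z * (x⁻¹ * o⁻¹ * x) * z⁻¹ = (x⁻¹ * o⁻¹ * x)⁻¹ := hinv b (Or.inr rfl) _ ho'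
        have k3 : z * x * z⁻¹ = x⁻¹ := hinv a (Or.inl rfl) x hx
        have k4 : (z * x * z⁻¹)⁻¹ * (z * o⁻¹ * z⁻¹) * (z * x * z⁻¹) = (x⁻¹ * o⁻¹ * x)⁻¹ := by
          rw [← k2]; group
        have k5 : z * o⁻¹ * z⁻¹ = o := by
          have h := congrArg (·⁻¹) k1
          simpa [mul_assoc] using h
        rw [k3, k5] at k4
        calc x * x * o * (x * x)⁻¹ = x * ((x⁻¹)⁻¹ * o * x⁻¹) * x⁻¹ := by group
          _ = x * (x⁻¹ * o⁻¹ * x)⁻¹ * x⁻¹ := by rw [k4]
          _ = o := by group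
      rw [Subgroup.mem_centralizer_singleton_iff, sq]
      exact mul_inv_eq_iff_eq_mul.1 e1
    exact Subgroup.mem_centralizer_singleton_iff.1 (mem_of_sq_mem (th_odd hx) hsq)
  have hP : ∀ r ∈ Cfsg.pCoreOf 2 H, x * r = r * x :=
    commute_pCoreOf hx ha (le_normalizer_pCoreOf 2 H haH) (le_normalizer_pCoreOf 2 H hxH)
  set xH : H := ⟨x, hxH⟩ with hxH'
  have hF : Cfsg.fittingSubgroup H ≤ Subgroup.centralizer ({xH} : Set H) := by
    rw [CfsgLib.Fitting.fitting_eq_iSup_pCore]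
    refine iSup_le fun q y hy => Subgroup.mem_centralizer_singleton_iff.2 (Subtype.ext ?_)
    by_cases hq : (q : ℕ) = 2
    · exact (hP y ⟨y, by rwa [hq] at hy, rfl⟩).symm
    · refine (hO y ((mem_th_iff y.2).1 (?_ : y ∈ Cfsg.oddCore H))).symm
      haveI : Fact (Nat.Prime q) := ⟨(Nat.mem_primeFactors.1 q.2).1⟩
      refine CfsgLib.PCore.le_pPrimeCore (Cfsg.pCore_normal _ _) ?_ hy
      obtain ⟨n, hn⟩ := (isPGroup_pCore (q : ℕ) H).exists_card_eq
      rw [hn]
      exact Nat.Coprime.pow_left _ ((Nat.coprime_primes Fact.out Nat.prime_two).2 hq)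
  have hxF : xH ∈ Cfsg.fittingSubgroup H := by
    refine CfsgLib.Components.centralizer_generalizedFitting_le_fitting ?_
    rw [Cfsg.generalizedFittingSubgroup, hlayer, bot_sup_eq, Subgroup.mem_centralizer_iff]
    exact fun y hy => Subgroup.mem_centralizer_singleton_iff.1 (hF hy)
  set π := QuotientGroup.mk' (Cfsg.oddCore H)
  have hle : Cfsg.fittingSubgroup H ≤ Cfsg.pCore 2 H ⊔ Cfsg.oddCore H := by
    rw [CfsgLib.Fitting.fitting_eq_iSup_pCore]
    refine iSup_le fun q => ?_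
    by_cases hq : (q : ℕ) = 2
    · rw [hq]; exact le_sup_left
    · refine le_trans ?_ le_sup_right
      haveI : Fact (Nat.Prime q) := ⟨(Nat.mem_primeFactors.1 q.2).1⟩
      refine CfsgLib.PCore.le_pPrimeCore (Cfsg.pCore_normal _ _) ?_
      obtain ⟨n, hn⟩ := (isPGroup_pCore (q : ℕ) H).exists_card_eq
      rw [hn]
      exact Nat.Coprime.pow_left _ ((Nat.coprime_primes Fact.out Nat.prime_two).2 hq)
  have hπ : π xH ∈ (Cfsg.pCore 2 H).map π := by
    have := Subgroup.mem_map_of_mem π (hle hxF)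
    rwa [Subgroup.map_sup, QuotientGroup.map_mk'_self, sup_bot_eq] at this
  have h1 : π xH = 1 := eq_one_of_coprime_of_mem ((isPGroup_pCore 2 H).map π) hπ
    (Nat.Coprime.coprime_dvd_left (orderOf_map_dvd π xH)
      (by rw [hxH', Subgroup.orderOf_mk]; exact th_odd hx))
  exact (mem_th_iff hxH).1 ((QuotientGroup.eq_one_iff _).1 h1)

/-- An element of an abelian odd-order subgroup is generated by fixed points of the three
involutions of a four-group. -/
theorem th_le_sup {N : Subgroup X} (hab : ∀ x ∈ N, ∀ y ∈ N, x * y = y * x)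
    (hodd : (Nat.card N).Coprime 2) {s t : X} (hs : s ^ 2 = 1) (ht : t ^ 2 = 1)
    (hst : s * t = t * s) (hsN : s ∈ Subgroup.normalizer (N : Set X))
    (htN : t ∈ Subgroup.normalizer (N : Set X)) (T : Subgroup X)
    (hS : ∀ u ∈ N, s * u = u * s → u ∈ T) (hT : ∀ u ∈ N, t * u = u * t → u ∈ T)
    (hST : ∀ u ∈ N, (s * t) * u = u * (s * t) → u ∈ T) : N ≤ T := by
  intro x hx
  have cN : ∀ g ∈ Subgroup.normalizer (N : Set X), ∀ u ∈ N, g * u * g⁻¹ ∈ N :=
    fun g hg u hu => (Subgroup.mem_normalizer_iff.1 hg u).1 hu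
  -- symmetrisation
  have fix : ∀ g ∈ Subgroup.normalizer (N : Set X), g ^ 2 = 1 → ∀ u ∈ N,
      g * (u * (g * u * g⁻¹)) = (u * (g * u * g⁻¹)) * g := by
    intro g hg hg2 u hu
    calc g * (u * (g * u * g⁻¹)) = (g * u * g⁻¹) * (g ^ 2 * u * (g ^ 2)⁻¹) * g := by group
      _ = (g * u * g⁻¹) * u * g := by rw [hg2]; simp
      _ = (u * (g * u * g⁻¹)) * g := by rw [hab _ (cN g hg u hu) u hu]
  have hstN := Subgroup.mul_mem _ hsN htN
  have hst2 : (s * t) ^ 2 = 1 := by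
    rw [(show Commute s t from hst).mul_pow, hs, ht, one_mul]
  have w2 : x * (s * x * s⁻¹) ∈ T := hS _ (N.mul_mem hx (cN s hsN x hx)) (fix s hsN hs x hx)
  have w3 : x * (t * x * t⁻¹) ∈ T := hT _ (N.mul_mem hx (cN t htN x hx)) (fix t htN ht x hx)
  set u := s * x * s⁻¹ with hu
  have huN : u ∈ N := cN s hsN x hx
  have e : (s * t) * u * (s * t)⁻¹ = t * x * t⁻¹ := by
    calc (s * t) * u * (s * t)⁻¹ = (t * s) * u * (t * s)⁻¹ := by rw [hst]
      _ = t * ((s * s) * x * (s * s)⁻¹) * t⁻¹ := by rw [hu]; group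
      _ = t * x * t⁻¹ := by rw [← sq, hs]; simp
  have w4 : u * (t * x * t⁻¹) ∈ T := by
    rw [← e]; exact hST _ (N.mul_mem huN (cN _ hstN u huN)) (fix _ hstN hst2 u huN)
  have key : x ^ 2 ∈ T := by
    have h := T.mul_mem (T.mul_mem w2 w3) (T.inv_mem w4)
    have e2 : (x * u) * (x * (t * x * t⁻¹)) * (u * (t * x * t⁻¹))⁻¹ = x ^ 2 := by
      set v := t * x * t⁻¹
      have hv : v ∈ N := cN t htN x hx
      have h1 : (x * u) * (x * v) = (x * x) * (u * v) := by
        calc (x * u) * (x * v) = x * (u * x) * v := by group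
          _ = x * (x * u) * v := by rw [hab u huN x hx]
          _ = _ := by group
      rw [h1, sq]; group
    rwa [e2] at h
  exact mem_of_sq_mem (hodd.coprime_dvd_left (Subgroup.orderOf_dvd_natCard _ hx)) key

theorem main {Y : Subgroup X} (hY : Cfsg.IsElementaryAbelian 2 Y) (h8 : 8 ≤ Nat.card Y)
    (hE : ∀ x ∈ Y, x ≠ 1 → Cfsg.layer ↥(Subgroup.centralizer ({x} : Set X)) = ⊥) {z : X}
    (hzY : z ∈ Y)
    (hzc : IsCharP 2 ↥(Subgroup.centralizer ({z} : Set X))) :
    Odd (Nat.card ↥(⨆ y : {y : X // y ∈ Y ∧ y ≠ 1}, th (y : X))) := by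
  haveI : Fact (Nat.Prime 2) := ⟨Nat.prime_two⟩
  obtain ⟨hYc, hY2⟩ := hY
  have hYcomm : ∀ a ∈ Y, ∀ b ∈ Y, a * b = b * a := fun a ha b hb =>
    congrArg Subtype.val (hYc.is_comm.comm (⟨a, ha⟩ : Y) ⟨b, hb⟩)
  have hYn : ∀ a ∈ Y, ∀ b ∈ Y, b ∈ Subgroup.centralizer ({a} : Set X) := fun a ha b hb =>
    Subgroup.mem_centralizer_singleton_iff.2 (hYcomm b hb a ha)
  have hnorm : ∀ a ∈ Y, ∀ b ∈ Y, b ∈ Subgroup.normalizer (th a : Set X) := by
    intro a ha b hb
    rw [Subgroup.mem_normalizer_iff]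
    refine fun x => ⟨th_conj_mem (hYn a ha b hb), fun h => ?_⟩
    simpa [mul_assoc] using th_conj_mem (inv_mem (hYn a ha b hb)) h
  have hinv : ∀ a ∈ Y, ∀ x ∈ th a, z * x * z⁻¹ = x⁻¹ := by
    intro a ha x hx
    refine conj_eq_inv_of_fixed_free (hY2 z hzY) (hnorm a ha z hzY) ?_ hx
    intro y hy hzy
    have hyH : y ∈ Subgroup.centralizer ({z} : Set X) :=
      Subgroup.mem_centralizer_singleton_iff.2 hzy.symm
    exact hzc.eq_one_subgroup hyH (th_odd hy) (commute_pCoreOf hy (hY2 a ha)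
      (le_normalizer_pCoreOf 2 _ (hYn z hzY a ha)) (le_normalizer_pCoreOf 2 _ hyH))
  have hthab : ∀ a ∈ Y, ∀ x ∈ th a, ∀ y ∈ th a, x * y = y * x := by
    intro a ha x hx y hy
    have h := hinv a ha _ ((th a).mul_mem hx hy)
    have : (z * x * z⁻¹) * (z * y * z⁻¹) = (x * y)⁻¹ := by rw [← h]; group
    rw [hinv a ha x hx, hinv a ha y hy, ← mul_inv_rev, inv_inj] at this
    exact this.symm
  have hbal : ∀ a ∈ Y, ∀ b ∈ Y, b ≠ 1 → ∀ x ∈ th a, x * b = b * x → x ∈ th b :=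
    fun a ha b hb hb1 x hx hxb => balance (hY2 z hzY) (hY2 a ha) (hYcomm a ha b hb)
      (hYcomm z hzY b hb)
      (fun e he => by rcases he with rfl | rfl; exacts [hinv _ ha, hinv _ hb])
      (hE b hb hb1) hx hxb
  obtain ⟨Y₀, hY₀c, hY₀Y⟩ : ∃ Y₀ : Subgroup X, Nat.card Y₀ = 8 ∧ Y₀ ≤ Y := by
    have hYp : IsPGroup 2 Y := fun y => ⟨1, Subtype.ext (by simpa using hY2 y y.2)⟩
    obtain ⟨K, hK⟩ := Sylow.exists_subgroup_card_pow_prime_of_le_card (n := 3) Nat.prime_two hYp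
      (by simpa using h8)
    exact ⟨K.map Y.subtype, by rw [Subgroup.card_map_of_injective Y.subtype_injective, hK]; rfl,
      Subgroup.map_subtype_le _⟩
  haveI : Fintype Y₀ := Fintype.ofFinite _
  have hmem : ∀ y : Y₀, (y : X) ∈ Y := fun y => hY₀Y y.2
  have hsq : ∀ y : Y₀, y * y = 1 := fun y => Subtype.ext (by simpa [sq] using hY2 y (hmem y))
  set I := {y : Y₀ // y ≠ 1}
  set W₀ : Subgroup X := ⨆ e : I, th ((e : Y₀) : X) with hW₀
  have hW₀le : ∀ b : Y₀, b ≠ 1 → th (b : X) ≤ W₀ := fun b hb =>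
    le_iSup (fun e : I => th ((e : Y₀) : X)) ⟨b, hb⟩
  have hne : ∀ b : Y₀, b ≠ 1 → (b : X) ≠ 1 := fun b hb h => hb (Subtype.ext h)
  have hcardY : 4 < Fintype.card Y₀ := by rw [← Nat.card_eq_fintype_card, hY₀c]; norm_num
  have h48 : ∀ a : Y₀, ∃ b c : Y₀, b ≠ 1 ∧ c ≠ 1 ∧ b * c ≠ 1 ∧ b ≠ a ∧ c ≠ a ∧ b * c ≠ a := by
    classical
    intro a
    have h2 : ({1, a} : Finset Y₀).card < Fintype.card Y₀ :=
      lt_of_le_of_lt (Finset.card_insert_le _ _) (by simp; omega)
    obtain ⟨b, -, hb⟩ := Finset.exists_mem_notMem_of_card_lt_card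
      (s := ({1, a} : Finset Y₀)) (t := Finset.univ) h2
    have h4 : ({1, a, b, a * b} : Finset Y₀).card < Fintype.card Y₀ :=
      lt_of_le_of_lt ((Finset.card_insert_le _ _).trans (Nat.succ_le_succ
        ((Finset.card_insert_le _ _).trans (Nat.succ_le_succ (Finset.card_insert_le _ _)))))
        (by simp; omega)
    obtain ⟨c, -, hc⟩ := Finset.exists_mem_notMem_of_card_lt_card
      (s := ({1, a, b, a * b} : Finset Y₀)) (t := Finset.univ) h4
    simp only [Finset.mem_insert, Finset.mem_singleton, not_or] at hb hc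
    refine ⟨b, c, hb.1, hc.1, fun h => hc.2.2.1 ?_, hb.2, hc.2.1, fun h => hc.2.2.2 ?_⟩
    · calc c = b * b * c := by rw [hsq, one_mul]
        _ = b := by rw [mul_assoc, h, mul_one]
    · calc c = b * b * c := by rw [hsq, one_mul]
        _ = b * a := by rw [mul_assoc, h]
        _ = a * b := Subtype.ext (hYcomm b (hmem b) a (hmem a))
  -- every `th a` lies in `W₀`
  have hWW : ∀ a ∈ Y, th a ≤ W₀ := by
    intro a ha
    obtain ⟨b, c, hb, hc, hbc, -⟩ := h48 1
    exact th_le_sup (hthab a ha) (th_coprime a) (hY2 b (hmem b)) (hY2 c (hmem c))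
      (hYcomm b (hmem b) c (hmem c)) (hnorm a ha b (hmem b)) (hnorm a ha c (hmem c)) W₀
      (fun u hu h => hW₀le b hb (hbal a ha b (hmem b) (hne b hb) u hu h.symm))
      (fun u hu h => hW₀le c hc (hbal a ha c (hmem c) (hne c hc) u hu h.symm))
      (fun u hu h => hW₀le (b * c) hbc
        (hbal a ha _ (hmem (b * c)) (hne _ hbc) u hu h.symm))
  -- `W₀` is abelian
  have hcomm : ∀ a d : Y₀, a ≠ 1 → d ≠ 1 → ∀ x ∈ th (a : X), ∀ y ∈ th (d : X), x * y = y * x := by
    classical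
    intro a d ha hd x hx y hy
    obtain ⟨b₁, c₁, hb₁, hc₁, hbc₁, hb₁a, hc₁a, hbc₁a⟩ := h48 a
    obtain ⟨b₂, c₂, hb₂, hc₂, hbc₂, hb₂d, hc₂d, hbc₂d⟩ := h48 d
    -- it suffices to treat elements centralized by four-groups through `a` and `d`
    have pair : ∀ b : Y₀, b ≠ 1 → b ≠ a → ∀ b' : Y₀, b' ≠ 1 → b' ≠ d →
        ∀ u ∈ th (a : X), (b : X) * u = u * b → ∀ v ∈ th (d : X), (b' : X) * v = v * b' →
          u * v = v * u := by
      intro b hb hba b' hb' hb'd u hu hub v hv hvb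
      have hau : ∀ e ∈ ({1, a, b} : Finset Y₀), (e : X) * u = u * (e : X) := by
        intro e he
        simp only [Finset.mem_insert, Finset.mem_singleton] at he
        rcases he with rfl | rfl | rfl
        · simp
        · exact (Subgroup.mem_centralizer_singleton_iff.1 (th_le _ hu)).symm
        · exact hub
      have hdv : ∀ e ∈ ({1, d, b'} : Finset Y₀), (e : X) * v = v * (e : X) := by
        intro e he
        simp only [Finset.mem_insert, Finset.mem_singleton] at he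
        rcases he with rfl | rfl | rfl
        · simp
        · exact (Subgroup.mem_centralizer_singleton_iff.1 (th_le _ hv)).symm
        · exact hvb
      have hcA : ({1, a, b} : Finset Y₀).card = 3 :=
        Finset.card_eq_three.2 ⟨1, a, b, ha.symm, hb.symm, hba.symm, rfl⟩
      have hcB : ({1, d, b'} : Finset Y₀).card = 3 :=
        Finset.card_eq_three.2 ⟨1, d, b', hd.symm, hb'.symm, hb'd.symm, rfl⟩
      obtain ⟨⟨p₁, q₁⟩, h₁, ⟨p₂, q₂⟩, h₂, hne12, heq⟩ :=
        Finset.exists_ne_map_eq_of_card_lt_of_maps_to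
          (s := ({1, a, b} : Finset Y₀) ×ˢ ({1, d, b'} : Finset Y₀)) (t := Finset.univ)
          (f := fun q : Y₀ × Y₀ => q.1 * q.2)
          (by rw [Finset.card_product, hcA, hcB, Finset.card_univ, ← Nat.card_eq_fintype_card, hY₀c]
              norm_num)
          (fun _ _ => Finset.mem_univ _)
      rw [Finset.mem_product] at h₁ h₂
      have hpq : p₂⁻¹ * p₁ = q₂ * q₁⁻¹ := by
        calc p₂⁻¹ * p₁ = p₂⁻¹ * (p₁ * q₁) * q₁⁻¹ := by group
          _ = p₂⁻¹ * (p₂ * q₂) * q₁⁻¹ := by rw [show p₁ * q₁ = p₂ * q₂ from heq]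
          _ = q₂ * q₁⁻¹ := by group
      have he1 : p₂⁻¹ * p₁ ≠ 1 := by
        intro h
        refine hne12 (Prod.ext ((inv_mul_eq_one.1 h).symm) ?_)
        exact (mul_inv_eq_one.1 (hpq ▸ h)).symm
      have hue : Commute ((p₂⁻¹ * p₁ : Y₀) : X) u := by
        rw [Subgroup.coe_mul, Subgroup.coe_inv]
        exact (show Commute (p₂ : X) u from hau _ h₂.1).inv_left.mul_left (hau _ h₁.1)
      have hve : Commute ((p₂⁻¹ * p₁ : Y₀) : X) v := by
        rw [hpq, Subgroup.coe_mul, Subgroup.coe_inv]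
        exact (show Commute (q₂ : X) v from hdv _ h₂.2).mul_left
          (show Commute (q₁ : X) v from hdv _ h₁.2).inv_left
      exact hthab _ (hmem _) u
        (hbal _ (hmem a) _ (hmem _) (hne _ he1) u hu hue.eq.symm) v
        (hbal _ (hmem d) _ (hmem _) (hne _ he1) v hv hve.eq.symm)
    -- generation
    have step : ∀ b' : Y₀, b' ≠ 1 → b' ≠ d → ∀ v ∈ th (d : X), (b' : X) * v = v * b' →
        th (a : X) ≤ Subgroup.centralizer ({v} : Set X) := by
      intro b' hb' hb'd v hv hvb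
      refine th_le_sup (hthab _ (hmem a)) (th_coprime _) (hY2 b₁ (hmem b₁)) (hY2 c₁ (hmem c₁))
        (hYcomm b₁ (hmem b₁) c₁ (hmem c₁)) (hnorm _ (hmem a) b₁ (hmem b₁))
        (hnorm _ (hmem a) c₁ (hmem c₁)) _ ?_ ?_ ?_
      · exact fun u hu h => Subgroup.mem_centralizer_singleton_iff.2
          (pair b₁ hb₁ hb₁a b' hb' hb'd u hu h v hv hvb)
      · exact fun u hu h => Subgroup.mem_centralizer_singleton_iff.2
          (pair c₁ hc₁ hc₁a b' hb' hb'd u hu h v hv hvb)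
      · exact fun u hu h => Subgroup.mem_centralizer_singleton_iff.2
          (pair (b₁ * c₁) hbc₁ hbc₁a b' hb' hb'd u hu h v hv hvb)
    have hd' : th (d : X) ≤ Subgroup.centralizer ({x} : Set X) := by
      refine th_le_sup (hthab _ (hmem d)) (th_coprime _) (hY2 b₂ (hmem b₂)) (hY2 c₂ (hmem c₂))
        (hYcomm b₂ (hmem b₂) c₂ (hmem c₂)) (hnorm _ (hmem d) b₂ (hmem b₂))
        (hnorm _ (hmem d) c₂ (hmem c₂)) _ ?_ ?_ ?_
      · exact fun v hv h => Subgroup.mem_centralizer_singleton_iff.2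
          (Subgroup.mem_centralizer_singleton_iff.1 (step b₂ hb₂ hb₂d v hv h hx)).symm
      · exact fun v hv h => Subgroup.mem_centralizer_singleton_iff.2
          (Subgroup.mem_centralizer_singleton_iff.1 (step c₂ hc₂ hc₂d v hv h hx)).symm
      · exact fun v hv h => Subgroup.mem_centralizer_singleton_iff.2
          (Subgroup.mem_centralizer_singleton_iff.1 (step (b₂ * c₂) hbc₂ hbc₂d v hv h hx)).symm
    exact (Subgroup.mem_centralizer_singleton_iff.1 (hd' hy)).symm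
  set S : Set X := ⋃ e : I, (th ((e : Y₀) : X) : Set X) with hS
  have hW₀S : W₀ = Subgroup.closure S := by
    rw [hS, Subgroup.closure_iUnion]; simp [hW₀]
  have hSc : ∀ x ∈ S, ∀ y ∈ S, x * y = y * x := by
    simp only [hS, Set.mem_iUnion]
    rintro x ⟨e, hx⟩ y ⟨f, hy⟩
    exact hcomm e.1 f.1 e.2 f.2 x hx y hy
  have hWc : ∀ x ∈ W₀, ∀ y ∈ W₀, x * y = y * x := by
    have h1 : S ⊆ Subgroup.centralizer S := fun x hx =>
      Subgroup.mem_centralizer_iff.2 fun y hy => hSc y hy x hx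
    have h2 : W₀ ≤ Subgroup.centralizer S := hW₀S ▸ (Subgroup.closure_le _).2 h1
    intro x hx y hy
    have h3 : S ⊆ Subgroup.centralizer ({x} : Set X) := fun t ht =>
      Subgroup.mem_centralizer_singleton_iff.2 (Subgroup.mem_centralizer_iff.1 (h2 hx) t ht)
    exact (Subgroup.mem_centralizer_singleton_iff.1
      ((Subgroup.closure_le _).2 h3 (hW₀S ▸ hy))).symm
  have hWodd : ∀ x ∈ W₀, (orderOf x).Coprime 2 := by
    intro x hx
    have hall : ∀ t ∈ Subgroup.closure S, (orderOf t).Coprime 2 := by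
      intro t ht
      induction ht using Subgroup.closure_induction with
      | mem t ht =>
        simp only [hS, Set.mem_iUnion] at ht
        exact th_odd ht.choose_spec
      | one => simp
      | mul u v hu hv ihu ihv =>
        have hc : Commute u v := hWc u (hW₀S ▸ hu) v (hW₀S ▸ hv)
        exact Nat.Coprime.coprime_dvd_left
          (hc.orderOf_mul_dvd_lcm.trans (Nat.lcm_dvd_mul _ _)) (ihu.mul_left ihv)
      | inv u _ ih => rwa [orderOf_inv]
    exact hall x (hW₀S ▸ hx)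
  rw [← Nat.not_even_iff_odd, even_iff_two_dvd]
  intro hdvd
  obtain ⟨w, hw⟩ := exists_prime_orderOf_dvd_card' 2 hdvd
  have hle : (⨆ y : {y : X // y ∈ Y ∧ y ≠ 1}, th (y : X)) ≤ W₀ :=
    iSup_le fun y => hWW y.1 y.2.1
  have hwW : (w : X) ∈ W₀ := hle w.2
  have hord : orderOf (w : X) = 2 := (Subgroup.orderOf_coe w).trans hw
  have hcop := hWodd (w : X) hwW
  rw [hord] at hcop
  exact absurd hcop (by decide)

/-- Let X be a finite group and Y an elementary abelian 2-subgroup of X of order at least 8 such that C_X(x) has no components (E(C_X(x)) = 1) for every nontrivial x ∈ Y, and F*(C_X(z)) = O₂(C_X(z)) for some nontrivial z ∈ Y. Then the subgroup generated by the cores O(C_X(y)), y ∈ Y nontrivial, has odd order and is normalized by N_X(Y). -/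
theorem result {X : Type*} [Group X] [Finite X] (Y : Subgroup X) (hY : Cfsg.IsElementaryAbelian 2 Y) (h8 : 8 ≤ Nat.card ↥Y) (hE : ∀ x ∈ Y, x ≠ 1 → Cfsg.layer ↥(Subgroup.centralizer ({x} : Set X)) = ⊥) (hz : ∃ z ∈ Y, z ≠ 1 ∧ Cfsg.generalizedFittingSubgroup ↥(Subgroup.centralizer ({z} : Set X)) = Cfsg.pCore 2 ↥(Subgroup.centralizer ({z} : Set X))) : Odd (Nat.card ↥(⨆ y : {y : X // y ∈ Y ∧ y ≠ 1}, (Cfsg.oddCore ↥(Subgroup.centralizer ({(y : X)} : Set X))).map (Subgroup.centralizer ({(y : X)} : Set X)).subtype)) ∧ Subgroup.normalizer (Y : Set X) ≤ Subgroup.normalizer ((⨆ y : {y : X // y ∈ Y ∧ y ≠ 1}, (Cfsg.oddCore ↥(Subgroup.centralizer ({(y : X)} : Set X))).map (Subgroup.centralizer ({(y : X)} : Set X)).subtype : Subgroup X) : Set X) := by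
  haveI : Fact (Nat.Prime 2) := ⟨Nat.prime_two⟩
  obtain ⟨z, hzY, hz1, hz⟩ := hz
  have hzc : CfsgLib.LocalEvenCharP.IsCharP 2 ↥(Subgroup.centralizer ({z} : Set X)) :=
    CfsgLib.Components.centralizer_pCore_le_of_generalizedFitting_eq hz
  refine ⟨main hY h8 hE hzY hzc, ?_⟩
  intro g hg
  have key : ∀ g ∈ Subgroup.normalizer (Y : Set X),
      (⨆ y : {y : X // y ∈ Y ∧ y ≠ 1}, th (y : X)).map (MulAut.conj g).toMonoidHom ≤
        ⨆ y : {y : X // y ∈ Y ∧ y ≠ 1}, th (y : X) := by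
    intro g hg
    rw [Subgroup.map_iSup]
    refine iSup_le fun y => ?_
    have hy' : g * (y : X) * g⁻¹ ∈ Y ∧ g * (y : X) * g⁻¹ ≠ 1 :=
      ⟨(Subgroup.mem_normalizer_iff.1 hg _).1 y.2.1, fun h => y.2.2 (conj_eq_one_iff.1 h)⟩
    have hcent' : ∀ t : X, t ∈ Subgroup.centralizer ({g * (y : X) * g⁻¹} : Set X) ↔
        g⁻¹ * t * g ∈ Subgroup.centralizer ({(y : X)} : Set X) := by
      intro t
      simp only [Subgroup.mem_centralizer_singleton_iff]
      constructor
      · intro h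
        calc g⁻¹ * t * g * y = g⁻¹ * (t * (g * y * g⁻¹)) * g := by group
          _ = g⁻¹ * ((g * y * g⁻¹) * t) * g := by rw [h]
          _ = y * (g⁻¹ * t * g) := by group
      · intro h
        calc t * (g * y * g⁻¹) = g * (g⁻¹ * t * g * y) * g⁻¹ := by group
          _ = g * (y * (g⁻¹ * t * g)) * g⁻¹ := by rw [h]
          _ = g * y * g⁻¹ * t := by group
    refine le_iSup_of_le (⟨g * (y : X) * g⁻¹, hy'⟩ : {y : X // y ∈ Y ∧ y ≠ 1}) ?_
    refine le_th ?_ ?_ ?_
    · rintro _ ⟨t, ht, rfl⟩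
      exact (hcent' _).2 (by simpa [mul_assoc] using th_le _ ht)
    · have hmem : ∀ c ∈ Subgroup.centralizer ({g * (y : X) * g⁻¹} : Set X),
          ∀ t ∈ (th (y : X)).map (MulAut.conj g).toMonoidHom,
            c * t * c⁻¹ ∈ (th (y : X)).map (MulAut.conj g).toMonoidHom := by
        rintro c hc _ ⟨t, ht, rfl⟩
        refine ⟨_, th_conj_mem ((hcent' c).1 hc) ht, ?_⟩
        simp [mul_assoc]
      intro c hc
      rw [Subgroup.mem_normalizer_iff]
      refine fun t => ⟨hmem c hc t, fun h => ?_⟩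
      simpa [mul_assoc] using hmem c⁻¹ (inv_mem hc) _ h
    · rw [Subgroup.card_map_of_injective (MulEquiv.injective _)]
      exact th_coprime _
  rw [Subgroup.mem_normalizer_iff]
  intro x
  refine ⟨fun h => key g hg ⟨x, h, rfl⟩, fun h => ?_⟩
  have h2 := key g⁻¹ (inv_mem hg) ⟨_, h, rfl⟩
  simpa [mul_assoc, th] using h2

end Cfsg.Agent.S2924
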