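import Cfsg.Statements.S2925
import Cfsg.Agent.Lib.Components.Basic
import Cfsg.Agent.Lib.Structure.IndexPowers

set_option autoImplicit false
open Cfsg

namespace Cfsg.Agent.S2925

/-- Let K be a component of the finite group X and T a Sylow 2-subgroup of X. If some abelian normal subgroup Y of T does not normalize K, then K ⧸ Z(K) has abelian Sylow 2-subgroups. -/
theorem result {X : Type*} [Group X] [Finite X] (K : Subgroup X) (hK : Cfsg.IsComponent K) (T : Sylow 2 X) (Y : Subgroup X) (hYT : Y ≤ (T : Subgroup X)) (hYn : (Y.subgroupOf (T : Subgroup X)).Normal) (hYab : IsMulCommutative ↥Y) (hnot : ¬ Y ≤ Subgroup.normalizer (K : Set X)) (P : Sylow 2 (↥K ⧸ Subgroup.center ↥K)) : IsMulCommutative ↥(P : Subgroup (↥K ⧸ Subgroup.center ↥K)) := by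
  haveI : Fact (Nat.Prime 2) := ⟨Nat.prime_two⟩
  obtain ⟨y, hy, hyK⟩ := SetLike.not_le_iff_exists.1 hnot
  set K' := K.map (MulAut.conj y).toMonoidHom with hK'
  have hne : K ≠ K' := by
    intro h
    refine hyK (Subgroup.mem_normalizer_iff_map_conj_eq.2 ?_)
    exact h.symm
  have hKK' : ∀ a ∈ K, ∀ b ∈ K', a * b = b * a := fun a ha b hb =>
    CfsgLib.Components.commute_of_commutator_eq_bot
      (CfsgLib.Components.commutator_components_eq_bot hK
        (CfsgLib.Components.isComponent_conj y hK) hne) ha hb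
  set Q : Subgroup K := (T : Subgroup X).subgroupOf K with hQdef
  have hQ : IsPGroup 2 Q := T.isPGroup'.comap_of_injective K.subtype K.subtype_injective
  have hQidx : ¬ 2 ∣ Q.index := by
    intro h
    exact T.not_dvd_index
      (h.trans (CfsgLib.IndexPowers.relIndex_dvd_index_of_isSubnormal hK.1 (T : Subgroup X)))
  set P₀ : Sylow 2 (↥K ⧸ Subgroup.center ↥K) :=
    (hQ.toSylow hQidx).mapSurjective (QuotientGroup.mk'_surjective (Subgroup.center ↥K))
  obtain ⟨g, rfl⟩ := MulAction.exists_smul_eq (↥K ⧸ Subgroup.center ↥K) P₀ P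
  have hab : ∀ a ∈ (P₀ : Subgroup (↥K ⧸ Subgroup.center ↥K)),
      ∀ b ∈ (P₀ : Subgroup (↥K ⧸ Subgroup.center ↥K)), a * b = b * a := by
    rintro _ ⟨q, hq, rfl⟩ _ ⟨r, hr, rfl⟩
    have hY : ∀ s : K, (s : X) ∈ (T : Subgroup X) → (s : X)⁻¹ * (y * s * y⁻¹) ∈ Y := by
      intro s hs
      have h1 := (Subgroup.normal_subgroupOf_iff_le_normalizer hYT).1 hYn hs
      have h2 := Y.mul_mem ((Subgroup.mem_normalizer_iff''.1 h1 y).1 hy) (Y.inv_mem hy)
      simpa [mul_assoc] using h2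
    have hcomm : ((q : X)⁻¹ * (y * q * y⁻¹)) * ((r : X)⁻¹ * (y * r * y⁻¹)) =
        ((r : X)⁻¹ * (y * r * y⁻¹)) * ((q : X)⁻¹ * (y * q * y⁻¹)) :=
      congrArg Subtype.val (hYab.is_comm.comm (⟨_, hY q hq⟩ : Y) ⟨_, hY r hr⟩)
    set q' := y * (q : X) * y⁻¹ with hq'
    set r' := y * (r : X) * y⁻¹ with hr'
    have hq'K : q' ∈ K' := ⟨q, q.2, rfl⟩
    have hr'K : r' ∈ K' := ⟨r, r.2, rfl⟩
    have e1 : (q : X)⁻¹ * (r : X)⁻¹ * (q' * r') = (r : X)⁻¹ * (q : X)⁻¹ * (r' * q') := by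
      calc (q : X)⁻¹ * (r : X)⁻¹ * (q' * r') = (q : X)⁻¹ * ((r : X)⁻¹ * q') * r' := by group
        _ = (q : X)⁻¹ * (q' * (r : X)⁻¹) * r' := by
            rw [hKK' _ (K.inv_mem r.2) _ hq'K]
        _ = ((r : X)⁻¹ * r') * ((q : X)⁻¹ * q') := by rw [← hcomm]; group
        _ = (r : X)⁻¹ * (r' * (q : X)⁻¹) * q' := by group
        _ = (r : X)⁻¹ * ((q : X)⁻¹ * r') * q' := by
            rw [hKK' _ (K.inv_mem q.2) _ hr'K]
        _ = (r : X)⁻¹ * (q : X)⁻¹ * (r' * q') := by group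
    have e2 : (q : X) * r * (q : X)⁻¹ * (r : X)⁻¹ ∈ K' := by
      have h : (q : X) * r * (q : X)⁻¹ * (r : X)⁻¹ = (r' * q') * (q' * r')⁻¹ := by
        calc (q : X) * r * (q : X)⁻¹ * (r : X)⁻¹
            = (q : X) * r * ((q : X)⁻¹ * (r : X)⁻¹ * (q' * r')) * (q' * r')⁻¹ := by group
          _ = (r' * q') * (q' * r')⁻¹ := by rw [e1]; group
      rw [h]
      exact K'.mul_mem (K'.mul_mem hr'K hq'K) (K'.inv_mem (K'.mul_mem hq'K hr'K))
    have hz : q * r * q⁻¹ * r⁻¹ ∈ Subgroup.center K := by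
      rw [Subgroup.mem_center_iff]
      intro k
      exact Subtype.ext (hKK' k k.2 _ e2)
    have h3 := (QuotientGroup.eq_one_iff _).2 hz
    change QuotientGroup.mk' (Subgroup.center K) (q * r * q⁻¹ * r⁻¹) = 1 at h3
    simpa [mul_inv_eq_iff_eq_mul] using h3
  refine ⟨⟨fun a b => Subtype.ext ?_⟩⟩
  obtain ⟨a', ha', ha⟩ := a.2
  obtain ⟨b', hb', hb⟩ := b.2
  change (a : ↥K ⧸ Subgroup.center ↥K) * b = b * a
  rw [← ha, ← hb]
  change MulAut.conj g a' * MulAut.conj g b' = MulAut.conj g b' * MulAut.conj g a'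
  rw [← map_mul, ← map_mul, hab a' ha' b' hb']

end Cfsg.Agent.S2925
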