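import Cfsg.Statements.S2928
import Cfsg.Agent.Lib.LocalEven.AltOvergroup.Main
import Cfsg.Agent.Lib.Components.FStar

set_option autoImplicit false
open Cfsg

namespace Cfsg.Agent.S2928
theorem generalizedFitting_core {α : Type*} [Fintype α] [DecidableEq α] (H : Subgroup (Equiv.Perm α))
    (hF : Cfsg.IsQuasisimple ↥(Cfsg.generalizedFittingSubgroup ↥H)) :
    ∃ K : Subgroup (Equiv.Perm α), CfsgLib.LocalEven.AltOvergroup.Core H K ∧
      Nonempty (↥(Cfsg.generalizedFittingSubgroup ↥H) ≃* ↥K) := by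
  set K₀ := Cfsg.generalizedFittingSubgroup ↥H with hK₀
  haveI hn : K₀.Normal := CfsgLib.Components.generalizedFitting_normal
  have e₀ : ↥K₀ ≃* ↥(K₀.map H.subtype) := K₀.equivMapOfInjective _ H.subtype_injective
  refine ⟨K₀.map H.subtype, ⟨Subgroup.map_subtype_le _, ?_,
    CfsgLib.Components.isQuasisimple_of_mulEquiv hF e₀, ?_⟩, ⟨e₀⟩⟩
  · rintro h hh _ ⟨k, hk, rfl⟩
    exact ⟨⟨h, hh⟩ * k * ⟨h, hh⟩⁻¹, hn.conj_mem k hk _, rfl⟩
  · exact fun z hz hc => ⟨⟨z, hz⟩, CfsgLib.Components.centralizer_generalizedFitting_le (G := ↥H)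
      (Subgroup.mem_centralizer_iff.2 fun k hk => Subtype.ext (hc k ⟨k, hk, rfl⟩)), rfl⟩

/-- Let n ≥ 8 and let H be a subgroup of the symmetric group of degree n whose generalized Fitting subgroup F*(H) is quasisimple. If H contains a Sylow 2-subgroup of the alternating group of degree n, then F*(H) is isomorphic to an alternating group of degree m for some m ∈ {n − 3, n − 2, n − 1, n}. -/
theorem result (n : ℕ) (hn : 8 ≤ n) (H : Subgroup (Equiv.Perm (Fin n))) (hF : Cfsg.IsQuasisimple ↥(Cfsg.generalizedFittingSubgroup ↥H)) (hS : ∃ P : Sylow 2 ↥(alternatingGroup (Fin n)), ((P : Subgroup ↥(alternatingGroup (Fin n))).map (alternatingGroup (Fin n)).subtype) ≤ H) : ∃ m : ℕ, (m = n - 3 ∨ m = n - 2 ∨ m = n - 1 ∨ m = n) ∧ Nonempty (↥(Cfsg.generalizedFittingSubgroup ↥H) ≃* ↥(alternatingGroup (Fin m))) := by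
  obtain ⟨P, hP⟩ := hS
  obtain ⟨K, c, ⟨e⟩⟩ := generalizedFitting_core H hF
  obtain ⟨O, hO, ⟨e'⟩⟩ := CfsgLib.LocalEven.AltOvergroup.main c P hP (by simpa using hn)
  have hle : O.card ≤ n := by simpa using O.card_le_univ
  rw [Fintype.card_fin] at hO
  exact ⟨O.card, by omega, ⟨(e.trans e').trans (Equiv.altCongrHom O.equivFin)⟩⟩

end Cfsg.Agent.S2928
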