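import Cfsg.Statements.S2929
import Cfsg.Agent.Lib.ThreeCycles.Components

set_option autoImplicit false
open Cfsg

namespace Cfsg.Agent.S2929
open CfsgLib.ThreeCycles Equiv in
theorem covered {n : ℕ} {H : Subgroup (Perm (Fin n))} (P : Sylow 3 (Perm (Fin n)))
    (hP : (P : Subgroup (Perm (Fin n))) ≤ H) :
    ∃ S : Finset (Fin n), 3 * (n / 3) = S.card ∧
      ∀ z ∈ S, ∃ σ ∈ H, σ.IsThreeCycle ∧ z ∈ σ.support := by
  classical
  haveI : Fact (Nat.Prime 3) := ⟨Nat.prime_three⟩
  obtain ⟨e⟩ : Nonempty (Fin (n / 3) × Fin 3 ↪ Fin n) :=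
    Function.Embedding.nonempty_of_card_le (by
      simp only [Fintype.card_prod, Fintype.card_fin]; omega)
  set σ : Fin (n / 3) → Perm (Fin n) := fun i => cyc (e (i, 0)) (e (i, 1)) (e (i, 2)) with hσ
  have hne : ∀ i, ∀ u v : Fin 3, u ≠ v → e (i, u) ≠ e (i, v) := fun i u v h he =>
    h (Prod.ext_iff.1 (e.injective he)).2
  have h3 : ∀ i, (σ i).IsThreeCycle := fun i =>
    isThreeCycle_cyc (hne i _ _ (by decide)) (hne i _ _ (by decide)) (hne i _ _ (by decide))
  have hsupp : ∀ i, (σ i).support ⊆ {e (i, 0), e (i, 1), e (i, 2)} := fun i => support_cyc_subset _ _ _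
  have hcomm : ∀ i j, σ i * σ j = σ j * σ i := by
    intro i j
    by_cases hij : i = j
    · rw [hij]
    refine (Perm.disjoint_iff_disjoint_support.2 ?_).commute.eq
    refine Finset.disjoint_of_subset_left (hsupp i) (Finset.disjoint_of_subset_right (hsupp j) ?_)
    simp only [Finset.disjoint_left, Finset.mem_insert, Finset.mem_singleton]
    rintro z (rfl | rfl | rfl) (h | h | h) <;> exact hij (Prod.ext_iff.1 (e.injective h)).1
  haveI := Subgroup.isMulCommutative_closure (k := Set.range σ)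
    (by rintro _ ⟨i, rfl⟩ _ ⟨j, rfl⟩; exact hcomm i j)
  have hE : IsPGroup 3 ↥(Subgroup.closure (Set.range σ)) := by
    rintro ⟨y, hy⟩
    refine ⟨1, Subtype.ext ?_⟩
    show y ^ 3 ^ 1 = 1
    rw [pow_one]
    induction hy using Subgroup.closure_induction with
    | mem y hy =>
      obtain ⟨i, rfl⟩ := hy
      rw [← (h3 i).orderOf, pow_orderOf_eq_one]
    | one => exact one_pow 3
    | mul a b ha hb e1 e2 =>
      rw [(show Commute a b from setLike_mul_comm ha hb).mul_pow, e1, e2, one_mul]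
    | inv a _ e1 => rw [inv_pow, e1, inv_one]
  obtain ⟨Q, hQ⟩ := hE.exists_le_sylow
  obtain ⟨g, hg⟩ := MulAction.exists_smul_eq (Perm (Fin n)) Q P
  refine ⟨(Finset.univ : Finset (Fin (n / 3) × Fin 3)).map (e.trans g.toEmbedding), ?_, ?_⟩
  · rw [Finset.card_map, Finset.card_univ, Fintype.card_prod, Fintype.card_fin, Fintype.card_fin,
      mul_comm]
  intro z hz
  obtain ⟨⟨i, u⟩, -, rfl⟩ := Finset.mem_map.1 hz
  refine ⟨g * σ i * g⁻¹, hP ?_, ?_, ?_⟩
  · rw [← hg, Sylow.coe_subgroup_smul]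
    exact ⟨σ i, hQ (Subgroup.subset_closure ⟨i, rfl⟩), rfl⟩
  · show (g * σ i * g⁻¹).cycleType = {3}
    rw [Perm.cycleType_conj]; exact h3 i
  · rw [Perm.mem_support]
    show g (σ i (g⁻¹ (g (e (i, u))))) ≠ g (e (i, u))
    rw [Perm.inv_def, Equiv.symm_apply_apply]
    refine fun he => ?_
    have he' := g.injective he
    fin_cases u
    · exact hne i _ _ (by decide) ((cyc_apply_left (hne i _ _ (by decide)) (hne i _ _ (by decide))).symm.trans he')
    · exact hne i _ _ (by decide) ((cyc_apply_mid (hne i _ _ (by decide)) (hne i _ _ (by decide))).symm.trans he')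
    · exact hne i _ _ (by decide) (cyc_apply_right.symm.trans he')


/-- Let n ≥ 5 and let H be a subgroup of the symmetric group of degree n whose generalized Fitting subgroup F*(H) is quasisimple. If H contains a Sylow 3-subgroup of the symmetric group, then F*(H) is isomorphic to an alternating group of degree m for some m ∈ {n − 2, n − 1, n}. -/
theorem result (n : ℕ) (hn : 5 ≤ n) (H : Subgroup (Equiv.Perm (Fin n))) (hF : Cfsg.IsQuasisimple ↥(Cfsg.generalizedFittingSubgroup ↥H)) (hS : ∃ P : Sylow 3 (Equiv.Perm (Fin n)), (P : Subgroup (Equiv.Perm (Fin n))) ≤ H) : ∃ m : ℕ, (m = n - 2 ∨ m = n - 1 ∨ m = n) ∧ Nonempty (↥(Cfsg.generalizedFittingSubgroup ↥H) ≃* ↥(alternatingGroup (Fin m))) := by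
  obtain ⟨P, hP⟩ := hS
  obtain ⟨S, hc, hmem⟩ := covered P hP
  obtain ⟨m, h1, h2, e⟩ := CfsgLib.ThreeCycles.main H hF S hmem (Finset.card_pos.1 (by omega))
  exact ⟨m, by omega, e⟩

end Cfsg.Agent.S2929
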