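import Cfsg.Statements.S2930
import Cfsg.Agent.Lib.ThreeCycles.PMinimal
import Cfsg.Agent.Lib.Schur.AutAlternatingSix
import Cfsg.Agent.Lib.Components.FStar

set_option autoImplicit false
open Cfsg

namespace Cfsg.Agent.S2930
open CfsgLib.ThreeCycles in
theorem not_pMinimal_of_splits {X : Type*} [Group X] [Finite X] {α : Type*} [Fintype α]
    [DecidableEq α] (e : X ≃* ↥(alternatingGroup α)) (h : Splits α) :
    ¬ Cfsg.IsPMinimal 3 X := by
  intro hX
  haveI : Fact (Nat.Prime 3) := ⟨Nat.prime_three⟩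
  obtain ⟨S, X₁, X₂, h1, h2, n1, n2, hgen⟩ := h
  set T := (S.subtype (sylow_le_alt S)).mapSurjective (f := e.symm.toMonoidHom) e.symm.surjective
  obtain ⟨-, M, ⟨hM, -⟩, huniq⟩ := hX T
  set f : X →* Equiv.Perm α := (alternatingGroup α).subtype.comp e.toMonoidHom with hf
  have hin : ∀ Y : Subgroup (Equiv.Perm α), (S : Subgroup (Equiv.Perm α)) ≤ Y →
      ¬ alternatingGroup α ≤ Y → Y.comap f ≤ M := by
    intro Y hSY hY
    have hle : (T : Subgroup X) ≤ Y.comap f := by
      rintro _ ⟨s, hs, rfl⟩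
      show ((e (e.symm s) : ↥(alternatingGroup α)) : Equiv.Perm α) ∈ Y
      rw [e.apply_symm_apply]
      exact hSY hs
    rcases IsCoatomic.eq_top_or_exists_le_coatom (Y.comap f) with htop | ⟨M', hM', hle'⟩
    · refine absurd (fun a ha => ?_) hY
      have := (htop ▸ Subgroup.mem_top (e.symm ⟨a, ha⟩) : e.symm ⟨a, ha⟩ ∈ Y.comap f)
      simpa [hf] using this
    · exact hle'.trans (huniq M' ⟨hM', hle.trans hle'⟩).le
  refine hM.1 (eq_top_iff.2 fun x _ => ?_)
  have hJ : alternatingGroup α ≤ M.map f := by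
    refine hgen.trans (sup_le ?_ ?_)
    · intro a ha
      exact ⟨e.symm ⟨a, ha.2⟩, hin X₁ h1 n1 (by simpa [hf] using ha.1), by simp [hf]⟩
    · intro a ha
      exact ⟨e.symm ⟨a, ha.2⟩, hin X₂ h2 n2 (by simpa [hf] using ha.1), by simp [hf]⟩
  obtain ⟨m, hm, hmx⟩ := hJ (e x).2
  rwa [show m = x from e.injective (Subtype.ext hmx)] at hm

theorem fstar_eq_top {X : Type*} [Group X] [Finite X] (hX : Cfsg.IsPMinimal 3 X) {n : ℕ}
    (hn : 5 ≤ n) (e : ↥(Cfsg.generalizedFittingSubgroup X) ≃* ↥(alternatingGroup (Fin n))) :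
    Cfsg.generalizedFittingSubgroup X = ⊤ := by
  haveI : Fact (Nat.Prime 3) := ⟨Nat.prime_three⟩
  set K := Cfsg.generalizedFittingSubgroup X with hK
  haveI : K.Normal := CfsgLib.Components.generalizedFitting_normal
  obtain ⟨S⟩ : Nonempty (Sylow 3 X) := inferInstance
  have hSK : (S : Subgroup X) ≤ K := by
    intro s hs
    obtain ⟨k, hk⟩ := S.2 ⟨s, hs⟩
    have hs3 : s ^ 3 ^ k = 1 := congrArg Subtype.val hk
    set φ : MulAut ↥(alternatingGroup (Fin n)) :=
      MulAut.congr e (MulAut.conjNormal s) with hφ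
    have hφm : φ ^ 3 ^ k = 1 := by
      rw [hφ, ← map_pow, ← map_pow, hs3, map_one, map_one]
    have hodd : Odd (3 ^ k) := (show Odd 3 by decide).pow
    obtain ⟨σ, hσ⟩ : ∃ σ : Equiv.Perm (Fin n), MulAut.conjNormal σ = φ := by
      by_cases h6 : n = 6
      · subst h6
        exact CfsgLib.Schur.conjNormal_range_of_odd_six hodd hφm
      · exact (CfsgLib.Schur.conjNormal_bijective (by omega) h6).2 φ
    have ha : σ ^ (3 ^ k + 1) ∈ alternatingGroup (Fin n) := by
      rw [Equiv.Perm.mem_alternatingGroup, map_pow]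
      rcases Int.units_eq_one_or (Equiv.Perm.sign σ) with h | h <;> rw [h]
      · exact one_pow _
      · exact (Nat.even_add_one.2 (Nat.not_even_iff_odd.2 hodd)).neg_one_pow
    have hσ' : MulAut.conjNormal (σ ^ (3 ^ k + 1)) = φ := by
      rw [map_pow, hσ, pow_succ, hφm, one_mul]
    set a : ↥(alternatingGroup (Fin n)) := ⟨_, ha⟩
    set u : X := ((e.symm a : ↥K) : X) with hu
    have hc : u⁻¹ * s ∈ Subgroup.centralizer (K : Set X) := by
      refine Subgroup.mem_centralizer_iff.2 fun y hy => ?_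
      have h1 : φ (e ⟨y, hy⟩) = a * e ⟨y, hy⟩ * a⁻¹ := by
        rw [← hσ']
        refine Subtype.ext ?_
        rw [MulAut.conjNormal_apply]
        rfl
      have h2 : φ (e ⟨y, hy⟩) = e (MulAut.conjNormal s ⟨y, hy⟩) := by
        simp [hφ, MulAut.congr]
      rw [h2, ← e.apply_symm_apply a, ← map_inv, ← map_mul, ← map_mul] at h1
      have h3 := congrArg Subtype.val (e.injective h1)
      rw [MulAut.conjNormal_apply] at h3
      simp only [Subgroup.coe_mul, Subgroup.coe_inv] at h3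
      calc y * (u⁻¹ * s) = u⁻¹ * (u * y * u⁻¹) * s := by group
        _ = u⁻¹ * (s * y * s⁻¹) * s := by rw [h3]
        _ = u⁻¹ * s * y := by group
    have h4 := CfsgLib.Components.centralizer_generalizedFitting_le hc
    have h5 := K.mul_mem (e.symm a).2 h4
    rwa [← hu, mul_inv_cancel_left] at h5
  by_contra hne
  obtain ⟨hnn, M, ⟨hM, -⟩, huniq⟩ := hX S
  rcases IsCoatomic.eq_top_or_exists_le_coatom K with h | ⟨M₁, hM₁, h1⟩
  · exact hne h
  have e1 : M₁ = M := huniq M₁ ⟨hM₁, hSK.trans h1⟩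
  rcases IsCoatomic.eq_top_or_exists_le_coatom
      (Subgroup.normalizer ((S : Subgroup X) : Set X)) with h | ⟨M₂, hM₂, h2⟩
  · exact hnn (Subgroup.normalizer_eq_top_iff.1 h)
  have e2 : M₂ = M := huniq M₂ ⟨hM₂, Subgroup.le_normalizer.trans h2⟩
  have h3 := Sylow.normalizer_sup_eq_top (S.subtype hSK)
  rw [Sylow.coe_subtype, Subgroup.map_subgroupOf_eq_of_le hSK] at h3
  exact hM.1 (eq_top_iff.2 (h3.ge.trans (sup_le (h2.trans e2.le) (h1.trans e1.le))))


/-- Let X be a finite 3-minimal group (a Sylow 3-subgroup is not normal and lies in a unique maximal subgroup) whose generalized Fitting subgroup is isomorphic to an alternating group of degree n ≥ 5. Then X = F*(X), and n = 6, n = 9, or n = 3ᵃ + 1 for some a ≥ 2. -/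
theorem result {X : Type*} [Group X] [Finite X] (hX : Cfsg.IsPMinimal 3 X) (n : ℕ) (hn : 5 ≤ n) (hF : Nonempty (↥(Cfsg.generalizedFittingSubgroup X) ≃* ↥(alternatingGroup (Fin n)))) : Cfsg.generalizedFittingSubgroup X = ⊤ ∧ (n = 6 ∨ n = 9 ∨ ∃ a : ℕ, 2 ≤ a ∧ n = 3 ^ a + 1) := by
  obtain ⟨e⟩ := hF
  have htop := fstar_eq_top hX hn e
  refine ⟨htop, ?_⟩
  by_contra hcon
  push Not at hcon
  obtain ⟨h6, h9, hpow⟩ := hcon
  have e' : X ≃* ↥(alternatingGroup (Fin n)) :=
    (Subgroup.topEquiv.symm.trans (MulEquiv.subgroupCongr htop.symm)).trans e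
  by_cases hmod : n % 3 = 0
  · obtain ⟨k, rfl⟩ := Nat.dvd_of_mod_eq_zero hmod
    by_cases hk : ∃ c, k = 3 ^ c
    · obtain ⟨c, rfl⟩ := hk
      obtain ⟨d, rfl⟩ : ∃ d, c = d + 2 := ⟨c - 2, by
        rcases Nat.lt_or_ge c 2 with h | h
        · interval_cases c <;> simp_all
        · omega⟩
      have hd : 1 ≤ 3 ^ d := Nat.one_le_pow _ _ (by norm_num)
      refine not_pMinimal_of_splits
        (e'.trans (Equiv.altCongrHom (β := (Fin (3 ^ (d + 1)) × ZMod 3) × ZMod 3)
          (Fintype.equivFinOfCardEq (by simp [pow_succ]; ring)).symm))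
        (CfsgLib.ThreeCycles.splits_of_transitive (by
          rw [Fintype.card_fin, pow_succ]; omega)) hX
    · refine not_pMinimal_of_splits
        (e'.trans (Equiv.altCongrHom (β := Fin k × ZMod 3)
          (Fintype.equivFinOfCardEq (by simp; ring)).symm))
        (CfsgLib.ThreeCycles.splits_of_intransitive (by rw [Fintype.card_fin]; omega)
          (by rwa [Fintype.card_fin])) hX
  · refine not_pMinimal_of_splits e' (CfsgLib.ThreeCycles.splits_of_mod_ne
      (by rwa [Fintype.card_fin]) (by rwa [Fintype.card_fin]) ?_) hX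
    rw [Fintype.card_fin]
    rintro ⟨a, ha, rfl⟩
    exact hpow a ha rfl

end Cfsg.Agent.S2930
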