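import Cfsg.Statements.S2931
import Cfsg.Agent.Lib.LocalEven.SylowIso.QuatWreath
import Cfsg.Agent.Lib.LocalEven.SylowIso.DihWreath
import Cfsg.Agent.Lib.Sp.Card
import Cfsg.Agent.Lib.ClassicalGroups.OrthCard

set_option autoImplicit false
open Cfsg
open scoped Matrix

namespace Cfsg.Agent.S2931
open CfsgLib.LocalEven.SylowIso in
theorem sylow_symm_ortho (K : Type) [Field K] [Fintype K] (hK : Fintype.card K = 2) (a b : K)
    (hab : ∀ z₁ z₂ : K, z₁ ^ 2 + a * z₁ * z₂ + b * z₂ ^ 2 = 0 → z₁ = 0 ∧ z₂ = 0)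
    (P' : Sylow 2 (Equiv.Perm (Fin 8)))
    (Q' : Sylow 2 ↥(Cfsg.isometryGroup K (Cfsg.quadFormMinus 2 K a b))) :
    Nonempty (↥(P' : Subgroup (Equiv.Perm (Fin 8))) ≃*
      ↥(Q' : Subgroup ↥(Cfsg.isometryGroup K (Cfsg.quadFormMinus 2 K a b)))) := by
  haveI : Fact (Nat.Prime 2) := ⟨Nat.prime_two⟩
  have e : ZMod 2 ≃+* K := ZMod.ringEquivOfPrime K Nat.prime_two hK
  have hz2 : ∀ y : ZMod 2, y = 0 ∨ y = 1 := Fin.forall_fin_two.2 ⟨Or.inl rfl, Or.inr rfl⟩
  have hcases : ∀ x : K, x = 0 ∨ x = 1 := by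
    intro x
    obtain ⟨y, rfl⟩ := e.surjective x
    rcases hz2 y with rfl | rfl
    · exact Or.inl (map_zero e)
    · exact Or.inr (map_one e)
  have hb : b = 1 := (hcases b).resolve_left fun h => by
    simpa using (hab 0 1 (by simp [h])).2
  have ha : a = 1 := (hcases a).resolve_left fun h => by
    have h2 : (1 : K) + 1 = 0 := by
      rw [← map_one e, ← map_add, show (1 : ZMod 2) + 1 = 0 from rfl, map_zero]
    simpa using (hab 1 1 (by simp [h, hb, h2])).1
  subst ha hb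
  let ix : Fin 6 ≃ ((Fin 2 ⊕ Fin 2) ⊕ Fin 2) :=
    (finSumFinEquiv (m := 4) (n := 2)).symm.trans
      (Equiv.sumCongr (finSumFinEquiv (m := 2) (n := 2)).symm (Equiv.refl _))
  let M : Matrix (Fin 6) (Fin 6) (ZMod 2) →* Matrix ((Fin 2 ⊕ Fin 2) ⊕ Fin 2) ((Fin 2 ⊕ Fin 2) ⊕ Fin 2) K :=
    { toFun := fun A => Matrix.reindex ix ix (A.map e)
      map_one' := by simp
      map_mul' := fun A B => by simp [Matrix.map_mul] }
  have hM : Function.Injective M := fun A B h =>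
    Matrix.map_injective e.injective ((Matrix.reindex ix ix).injective h)
  let g : DW →* Matrix.GeneralLinearGroup ((Fin 2 ⊕ Fin 2) ⊕ Fin 2) K := (Units.map M).comp dwGL
  have hginj : Function.Injective g := (Units.map_injective hM).comp dwGL_injective
  have hQq : ∀ v : (Fin 2 ⊕ Fin 2) ⊕ Fin 2 → K,
      Cfsg.quadFormMinus 2 K 1 1 v = e (qSix fun i => e.symm (v (ix i))) := by
    intro v
    simp only [qSix, map_add, map_mul, map_pow, RingEquiv.apply_symm_apply, Cfsg.quadFormMinus,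
      Fin.sum_univ_two, one_mul]
    rfl
  have hg : ∀ w, g w ∈ Cfsg.isometryGroup K (Cfsg.quadFormMinus 2 K 1 1) := by
    intro w u _
    show Cfsg.quadFormMinus 2 K 1 1 (M (dwGL w : Matrix (Fin 6) (Fin 6) (ZMod 2)) *ᵥ u) =
      Cfsg.quadFormMinus 2 K 1 1 u
    rw [hQq, hQq, ← qSix_dwGL w (fun i => e.symm (u (ix i)))]
    congr 2
    funext i
    show e.symm ((Matrix.reindex ix ix ((dwGL w : Matrix (Fin 6) (Fin 6) (ZMod 2)).map e) *ᵥ u) (ix i)) = _
    rw [Matrix.reindex_apply, Matrix.submatrix_mulVec_equiv]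
    simp [Matrix.mulVec, dotProduct, map_sum, map_mul]
  haveI : Finite DW := Nat.finite_of_card_ne_zero (by rw [card_dw]; norm_num)
  let f₁ : DW →* Equiv.Perm (Fin 8) :=
    (Fintype.equivFinOfCardEq (by simp : Fintype.card (ZMod 4 × ZMod 2) = 8)).permCongrHom.toMonoidHom.comp dwPerm
  have hf₁ : Function.Injective f₁ := fun x y h => dwPerm_injective
    ((Fintype.equivFinOfCardEq (by simp : Fintype.card (ZMod 4 × ZMod 2) = 8)).permCongrHom.injective h)
  let f₂ := g.codRestrict _ hg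
  have hf₂ : Function.Injective f₂ := fun x y h => hginj (congrArg Subtype.val h)
  have hc₁ : Nat.card ↥f₁.range = 2 ^ 7 := by
    rw [← Nat.card_congr (MonoidHom.ofInjective hf₁).toEquiv, card_dw]; norm_num
  have hc₂ : Nat.card ↥f₂.range = 2 ^ 7 := by
    rw [← Nat.card_congr (MonoidHom.ofInjective hf₂).toEquiv, card_dw]; norm_num
  obtain ⟨e₁⟩ := sylow_two_equiv_range f₁ hc₁ (o := 315) (by decide)
    (by rw [Nat.card_eq_fintype_card, Fintype.card_perm, Fintype.card_fin]; decide) P'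
  obtain ⟨e₂⟩ := sylow_two_equiv_range f₂ hc₂ (o := 405) (by decide)
    (by rw [CfsgLib.ClassicalGroups.card_isometry_minus hab, hK]; decide) Q'
  exact ⟨(e₁.trans (MonoidHom.ofInjective hf₁).symm).trans ((MonoidHom.ofInjective hf₂).trans e₂.symm)⟩

open CfsgLib.LocalEven.SylowIso in
theorem sylow_alt_symplectic (F : Type) [Field F] [Fintype F] (hF : Fintype.card F = 3)
    (P : Sylow 2 ↥(alternatingGroup (Fin 8))) (Q : Sylow 2 (Cfsg.PSp 2 F)) :
    Nonempty (↥(P : Subgroup ↥(alternatingGroup (Fin 8))) ≃* ↥(Q : Subgroup (Cfsg.PSp 2 F))) := by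
  have e : ZMod 3 ≃+* F := ZMod.ringEquivOfPrime F Nat.prime_three hF
  haveI : Finite ↥(Matrix.symplecticGroup (Fin 2) F) := Subtype.finite
  have hJ : (Matrix.J (Fin 2) (ZMod 3)).map e = Matrix.J (Fin 2) F := by
    ext i j
    rcases i with i | i <;> rcases j with j | j <;>
      simp [Matrix.J, Matrix.map_apply, Matrix.one_apply, apply_ite e]
  have hmem : ∀ A : ↥(Matrix.symplecticGroup (Fin 2) (ZMod 3)),
      (A : Matrix (Fin 2 ⊕ Fin 2) (Fin 2 ⊕ Fin 2) (ZMod 3)).map e ∈ Matrix.symplecticGroup (Fin 2) F := by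
    intro A
    rw [SymplecticGroup.mem_iff, ← hJ, ← Matrix.transpose_map, ← Matrix.map_mul, ← Matrix.map_mul,
      SymplecticGroup.mem_iff.1 A.2]
  let ι : ↥(Matrix.symplecticGroup (Fin 2) (ZMod 3)) →* ↥(Matrix.symplecticGroup (Fin 2) F) :=
    { toFun := fun A => ⟨_, hmem A⟩
      map_one' := Subtype.ext (Matrix.map_one e (map_zero e) (map_one e))
      map_mul' := fun A B => Subtype.ext Matrix.map_mul }
  let f₂ : QW →* Cfsg.PSp 2 F := (QuotientGroup.mk' _).comp (ι.comp qwSp)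
  let ε : CfsgLib.LocalEven.SylowIso.Qu ≃ Fin 8 := Fintype.equivFinOfCardEq QuaternionGroup.card
  let f₁ : QW →* ↥(alternatingGroup (Fin 8)) := (Equiv.altCongrHom ε).toMonoidHom.comp qwAlt
  have hk₁ : f₁.ker = qwAlt.ker := by
    ext w
    simp [f₁, MonoidHom.mem_ker]
  have hk₂ : f₂.ker = qwAlt.ker := by
    ext w
    have hme : ∀ A B : Matrix (Fin 2 ⊕ Fin 2) (Fin 2 ⊕ Fin 2) (ZMod 3), A.map e = B.map e ↔ A = B :=
      fun A B => ⟨fun h => Matrix.map_injective e.injective h, fun h => h ▸ rfl⟩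
    have hneg : (-1 : Matrix (Fin 2 ⊕ Fin 2) (Fin 2 ⊕ Fin 2) F) =
        (-1 : Matrix (Fin 2 ⊕ Fin 2) (Fin 2 ⊕ Fin 2) (ZMod 3)).map e := by
      ext i j
      simp [Matrix.map_apply, Matrix.one_apply, apply_ite e]
    rw [mem_qwAlt_ker, MonoidHom.mem_ker]
    show QuotientGroup.mk' (Subgroup.center _) (ι (qwSp w)) = 1 ↔ _
    rw [QuotientGroup.mk'_apply, QuotientGroup.eq_one_iff, CfsgLib.Sp.mem_center_iff]
    show ((qwSp w : Matrix (Fin 2 ⊕ Fin 2) (Fin 2 ⊕ Fin 2) (ZMod 3)).map e = 1 ∨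
      (qwSp w : Matrix (Fin 2 ⊕ Fin 2) (Fin 2 ⊕ Fin 2) (ZMod 3)).map e = -1) ↔ _
    rw [hneg, ← Matrix.map_one e (map_zero e) (map_one e), hme, hme, qwSp_coe]
    exact qwSp_center_aux w.left w.right
  haveI : Finite QW := Nat.finite_of_card_ne_zero (by rw [card_qw]; norm_num)
  have hc : ∀ (G : Type) [Group G] [Finite G] (f : QW →* G), f.ker = qwAlt.ker → Nat.card ↥f.range = 2 ^ 6 := by
    intro G _ _ f hf
    have := card_range f
    rw [hf, card_qwAlt_ker, card_qw] at this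
    omega
  obtain ⟨e₁⟩ := sylow_two_equiv_range f₁ (hc _ f₁ hk₁) (o := 315) (by decide)
    (by
      have h := two_mul_nat_card_alternatingGroup (α := Fin 8)
      rw [Nat.card_perm, Nat.card_fin, show Nat.factorial 8 = 40320 by decide] at h
      omega) P
  obtain ⟨e₂⟩ := sylow_two_equiv_range f₂ (hc _ f₂ hk₂) (o := 405) (by decide)
    (by
      have h := CfsgLib.Sp.card_psp (m := 2) hF (by norm_num)
      simp [Finset.prod_range_succ] at h
      omega) Q
  obtain ⟨e₃⟩ := range_equiv_of_ker_eq f₁ f₂ (hk₁.trans hk₂.symm)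
  exact ⟨(e₁.trans e₃).trans e₂.symm⟩

/-- The Sylow 2-subgroups of the alternating group of degree 8 and of PSp₄(3) are isomorphic, and so are the Sylow 2-subgroups of the symmetric group of degree 8 and of the full isometry group of a non-degenerate quadratic form of minus type in dimension 6 over the field with 2 elements. -/
theorem result (F : Type) [Field F] [Fintype F] (hF : Fintype.card F = 3) (K : Type) [Field K] [Fintype K] (hK : Fintype.card K = 2) (a b : K) (hab : ∀ z₁ z₂ : K, z₁ ^ 2 + a * z₁ * z₂ + b * z₂ ^ 2 = 0 → z₁ = 0 ∧ z₂ = 0) (P : Sylow 2 ↥(alternatingGroup (Fin 8))) (Q : Sylow 2 (Cfsg.PSp 2 F)) (P' : Sylow 2 (Equiv.Perm (Fin 8))) (Q' : Sylow 2 ↥(Cfsg.isometryGroup K (Cfsg.quadFormMinus 2 K a b))) : Nonempty (↥(P : Subgroup ↥(alternatingGroup (Fin 8))) ≃* ↥(Q : Subgroup (Cfsg.PSp 2 F))) ∧ Nonempty (↥(P' : Subgroup (Equiv.Perm (Fin 8))) ≃* ↥(Q' : Subgroup ↥(Cfsg.isometryGroup K (Cfsg.quadFormMinus 2 K a b))))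 := by
  exact ⟨sylow_alt_symplectic F hF P Q, sylow_symm_ortho K hK a b hab P' Q'⟩

end Cfsg.Agent.S2931
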