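import Cfsg.Statements.S2932
import Cfsg.Agent.Lib.NaturalGL.Four
-- import your own Cfsg.Agent.* helpers here

set_option autoImplicit false
open Cfsg
open scoped MatrixGroups

namespace Cfsg.Agent.S2932

/-- Let p be a prime. Inside a finite ambient group let V be an elementary abelian p-subgroup and G a subgroup normalizing V and acting faithfully on it (G ∩ C(V) = 1), and let L ≤ G act on V as SL₂(F) on its natural module, F a finite field of characteristic p, with L ≅ SL₂(F). If every Sylow p-subgroup of N_G(L) is a Sylow p-subgroup of G, then either L is normal in G, or F has 4 elements and G is isomorphic to the alternating group of degree 7. -/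
theorem result {X : Type*} [Group X] [Finite X] {p : ℕ} [Fact p.Prime] (F : Type) [Field F] [Fintype F] [CharP F p] (V G L : Subgroup X) (hV : Cfsg.IsElementaryAbelian p V) (hGV : G ≤ Subgroup.normalizer (V : Set X)) (hfaith : G ⊓ Subgroup.centralizer (V : Set X) = ⊥) (hLG : L ≤ G) (hnat : Cfsg.IsNaturalSL2Module F V L) (hLiso : Nonempty (↥L ≃* Matrix.SpecialLinearGroup (Fin 2) F)) (hSyl : ∀ S : Sylow p ↥(G ⊓ Subgroup.normalizer (L : Set X)), ∀ P : Sylow p ↥G, Nat.card S = Nat.card P) : (L.subgroupOf G).Normal ∨ (Fintype.card F = 4 ∧ Nonempty (↥G ≃* ↥(alternatingGroup (Fin 7)))) := by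
  classical
  obtain ⟨⟨n, hn0⟩, hp, hF⟩ := FiniteField.card F p
  simp only [PNat.mk_coe] at hF
  have hf : L ⊓ Subgroup.centralizer (V : Set X) = ⊥ :=
    le_bot_iff.1 ((inf_le_inf_right _ hLG).trans hfaith.le)
  let S0 : Sylow p L := default
  obtain ⟨c⟩ := CfsgLib.LocalEven.NaturalSL2.exists_coords hF hnat hf S0 rfl
  set T : Subgroup X := (S0 : Subgroup L).map L.subtype with hT
  let eρ : L ≃* SL(2, F) := MulEquiv.ofBijective c.ρ c.ρ_bij
  let eV : V ≃ (Fin 2 → F) := Equiv.ofBijective c.φ c.φ_bij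
  have hmem : ∀ (g : G) (v : V), (g : X) * v * (g : X)⁻¹ ∈ V := fun g v =>
    (Subgroup.mem_normalizer_iff.1 (hGV g.2) _).1 v.2
  have hadd : ∀ w w' : Fin 2 → F, eV.symm (w + w') = eV.symm w * eV.symm w' := fun w w' => by
    apply eV.injective
    rw [Equiv.apply_symm_apply]
    show w + w' = c.φ _
    rw [c.φ_mul]
    show w + w' = eV (eV.symm w) + eV (eV.symm w')
    rw [Equiv.apply_symm_apply, Equiv.apply_symm_apply]
  let ρ : G →* AddMonoid.End (Fin 2 → F) :=
    { toFun := fun g => AddMonoidHom.mk' (fun w => c.φ ⟨_, hmem g (eV.symm w)⟩) fun w w' => by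
        rw [← c.φ_mul]
        congr 1
        apply Subtype.ext
        simp [hadd, mul_assoc]
      map_one' := by
        refine DFunLike.ext _ _ fun w => ?_
        show c.φ _ = w
        conv_rhs => rw [← eV.apply_symm_apply w]
        show c.φ _ = c.φ _
        congr 1
        exact Subtype.ext (by simp)
      map_mul' := fun g h => by
        refine DFunLike.ext _ _ fun w => ?_
        show c.φ _ = c.φ ⟨_, hmem g (eV.symm (eV ⟨_, hmem h (eV.symm w)⟩))⟩
        congr 1
        apply Subtype.ext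
        simp [mul_assoc] }
  have hρ : Function.Injective ρ := by
    rw [← MonoidHom.ker_eq_bot_iff, eq_bot_iff]
    intro g hg
    rw [Subgroup.mem_bot]
    have hgC : (g : X) ∈ G ⊓ Subgroup.centralizer (V : Set X) := by
      refine ⟨g.2, Subgroup.mem_centralizer_iff.2 fun x hx => ?_⟩
      have h := DFunLike.congr_fun (MonoidHom.mem_ker.1 hg) (eV ⟨x, hx⟩)
      have h' : c.φ ⟨_, hmem g (eV.symm (eV ⟨x, hx⟩))⟩ = c.φ ⟨x, hx⟩ := h
      have h2 := congrArg Subtype.val (c.φ_bij.1 h')
      simp only [Equiv.symm_apply_apply] at h2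
      exact (mul_inv_eq_iff_eq_mul.1 h2).symm
    rw [hfaith, Subgroup.mem_bot] at hgC
    exact Subtype.ext hgC
  let φ : SL(2, F) →* G := (Subgroup.inclusion hLG).comp eρ.symm.toMonoidHom
  have hφact : ∀ (A : SL(2, F)) (w : Fin 2 → F), ρ (φ A) w = A.1.mulVec w := fun A w => by
    obtain ⟨v, hv, hv'⟩ := c.act (eρ.symm A) (eV.symm w)
    have h1 : c.ρ (eρ.symm A) = A := eρ.apply_symm_apply A
    have h2 : c.φ (eV.symm w) = w := eV.apply_symm_apply w
    rw [h1, h2] at hv'
    show c.φ _ = _
    rw [← hv']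
    congr 1
    exact Subtype.ext hv.symm
  have hrange : φ.range = L.subgroupOf G := by
    ext x
    constructor
    · rintro ⟨A, rfl⟩
      exact (eρ.symm A).2
    · intro hx
      exact ⟨eρ ⟨(x : X), hx⟩, Subtype.ext (by simp [φ])⟩
  let M : Subgroup X := G ⊓ Subgroup.normalizer (L : Set X)
  have hTM : T ≤ M := c.T_le.trans (le_inf hLG Subgroup.le_normalizer)
  have hTp : IsPGroup p (T.subgroupOf M) :=
    (S0.2.map L.subtype).of_equiv (Subgroup.subgroupOfEquivOfLe hTM).symm
  obtain ⟨S, hS⟩ := hTp.exists_le_sylow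
  let Sg : Subgroup G := (S : Subgroup M).map (Subgroup.inclusion (inf_le_left : M ≤ G))
  have hSg : Nat.card Sg = p ^ (Nat.card G).factorization p := by
    rw [← Nat.card_congr ((S : Subgroup M).equivMapOfInjective _ (Subgroup.inclusion_injective _)).toEquiv,
      hSyl S default, Sylow.card_eq_multiplicity]
  let s : CfsgLib.NaturalGL.Setup p F G :=
    { ρ := ρ
      inj := hρ
      φ := φ
      φ_act := hφact
      P := Sylow.ofCard Sg hSg
      P0_le := by
        rintro _ ⟨A, hA, rfl⟩
        have hAT : ((eρ.symm A : L) : X) ∈ T := (c.mem_T _).2 (by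
          rw [show c.ρ (eρ.symm A) = A from eρ.apply_symm_apply A]; exact hA)
        exact ⟨⟨_, hTM hAT⟩, hS hAT, Subtype.ext rfl⟩
      P_le := by
        rintro _ ⟨⟨x, hx⟩, -, rfl⟩
        rw [hrange, Subgroup.mem_normalizer_iff]
        intro y
        exact Subgroup.mem_normalizer_iff.1 hx.2 (y : X) }
  by_cases h4 : p ^ n = 4
  · obtain rfl : p = 2 := by
      have h2 : p ∣ 2 ^ 2 := (show (2 : ℕ) ^ 2 = p ^ n by rw [h4]; rfl) ▸ dvd_pow_self p hn0.ne'
      exact (Nat.prime_dvd_prime_iff_eq hp Nat.prime_two).1 (hp.dvd_of_dvd_pow h2)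
    rcases s.normal_or_alt_seven (hF.trans h4) with h | h
    · exact Or.inl (hrange ▸ h)
    · exact Or.inr ⟨hF.trans h4, h⟩
  · exact Or.inl (hrange ▸ s.normal_of_ne_four hF h4)

end Cfsg.Agent.S2932
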