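import Cfsg.Statements.S2933
import Cfsg.Agent.Lib.LocalEven.FixedFours.Uni
import Cfsg.Agent.Lib.LocalEven.FixedFours.Conj
import Cfsg.Agent.S1237

set_option autoImplicit false
open Cfsg

namespace Cfsg.Agent.S2933
theorem main {T : Type*} [Group T] [Finite T] {V : Subgroup T} {ρ τ : MulAut T}
    (h : CfsgLib.LocalEven.FixedFours.TV V ρ τ) :
    (Nat.card T = 16 ∧ ∀ x : T, x ^ 2 = 1) ∨
      (∃ n : ℕ, 1 ≤ n ∧ Nonempty (T ≃* Multiplicative (ZMod (2 ^ n)) × Multiplicative (ZMod (2 ^ n)))) ∨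
      (∃ (F : Type) (_ : Field F) (_ : Fintype F), Fintype.card F = 4 ∧ ∀ P : Sylow 2 (Matrix.ProjectiveSpecialLinearGroup (Fin 3) F), Nonempty (T ≃* ↥(P : Subgroup (Matrix.ProjectiveSpecialLinearGroup (Fin 3) F)))) ∨
      (∃ (F : Type) (_ : Field F) (_ : Fintype F), Fintype.card F = 16 ∧ ∀ P : Sylow 2 (Cfsg.PSU 3 F 4), Nonempty (T ≃* ↥(P : Subgroup (Cfsg.PSU 3 F 4)))) := by
  haveI : Fact (Nat.Prime 2) := ⟨Nat.prime_two⟩
  by_cases hinv : ∀ x : T, x * x = 1 → x ∈ V
  · have hyp : Cfsg.Agent.S1237.Hyp T V ρ :=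
      { isP := h.isP
        card := h.card
        cen := h.cen
        sq := fun v hv => by rw [pow_two]; exact h.sq v hv
        mem := fun x hx => hinv x (by rwa [← pow_two])
        fpf := h.fpf
        ord := ⟨1, MulEquiv.ext fun x => by simp [pow_succ, h.rho3]⟩ }
    rcases hyp.classify with ⟨n, hn, ⟨e⟩⟩ | ⟨x, y, a, b, z, w, hr⟩
    · exact Or.inr (Or.inl ⟨n, hn, ⟨e.trans (MulEquiv.prodMultiplicative _ _)⟩⟩)
    · letI := Fintype.ofFinite (GaloisField 2 4)
      have hF : Fintype.card (GaloisField 2 4) = 16 := by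
        rw [← Nat.card_eq_fintype_card, GaloisField.card 2 4 (by norm_num)]; norm_num
      refine Or.inr (Or.inr (Or.inr ⟨GaloisField 2 4, inferInstance, inferInstance, hF, fun P => ?_⟩))
      obtain ⟨x', y', a', b', z', w', h'⟩ := Cfsg.Agent.S1237.sylow_rel hF P
      exact Cfsg.Agent.S1237.rel_equiv hr h'
  push Not at hinv
  obtain ⟨x, hx, hxV⟩ := hinv
  by_cases hab : ∀ a b : T, a * b = b * a
  · rcases h.abelian_cases hab with h' | ⟨h16, hexp⟩
    · exact absurd (h' x hx) hxV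
    · exact Or.inl ⟨h16, fun a => by rw [pow_two]; exact hexp a⟩
  letI := Fintype.ofFinite (GaloisField 2 2)
  have hF : Fintype.card (GaloisField 2 2) = 4 := by
    rw [← Nat.card_eq_fintype_card, GaloisField.card 2 2 (by norm_num)]; norm_num
  refine Or.inr (Or.inr (Or.inl ⟨GaloisField 2 2, inferInstance, inferInstance, hF, fun P => ?_⟩))
  obtain ⟨e⟩ := h.nonempty_uni_equiv hF hab hx hxV
  obtain ⟨e'⟩ := CfsgLib.InvCharThree.uni_equiv_sylow_psl (n := 2) (by norm_num) hF P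
  exact ⟨e.trans e'⟩

/-- Let T be a 2-subgroup of a finite group G, V ≤ Z(T) a four-group, and t, ρ ∈ N_G(V) ∩ N_G(T) elements of order 2 and 3 with t commuting with ρ and with V. If [V, ρ] = V and C_T(t) = V, then T is elementary abelian of order 16, or homocyclic of rank 2 (ℤ/2ⁿ × ℤ/2ⁿ for some n ≥ 1), or isomorphic to a Sylow 2-subgroup of PSL₃(4) or of PSU₃(4). -/
theorem result {G : Type*} [Group G] [Finite G] (T V : Subgroup G) (hT : IsPGroup 2 ↥T) (hVT : V ≤ T ⊓ Subgroup.centralizer (T : Set G)) (hV : Nat.card ↥V = 4 ∧ ∀ v ∈ V, v ^ 2 = 1) (t ρ : G) (ht : orderOf t = 2) (hρ : orderOf ρ = 3) (htn : t ∈ Subgroup.normalizer (V : Set G) ⊓ Subgroup.normalizer (T : Set G)) (hρn : ρ ∈ Subgroup.normalizer (V : Set G) ⊓ Subgroup.normalizer (T : Set G)) (htρ : t * ρ = ρ * t) (htV : t ∈ Subgroup.centralizer (V : Set G)) (hVρ : ⁅V, Subgroup.zpowers ρ⁆ = V) (hCt : T ⊓ Subgroup.centralizer ({t} : Set G) = V) : (Nat.card ↥T = 16 ∧ ∀ x ∈ T, x ^ 2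 = 1) ∨ (∃ n : ℕ, 1 ≤ n ∧ Nonempty (↥T ≃* Multiplicative (ZMod (2 ^ n)) × Multiplicative (ZMod (2 ^ n)))) ∨ (∃ (F : Type) (_ : Field F) (_ : Fintype F), Fintype.card F = 4 ∧ ∀ P : Sylow 2 (Matrix.ProjectiveSpecialLinearGroup (Fin 3) F), Nonempty (↥T ≃* ↥(P : Subgroup (Matrix.ProjectiveSpecialLinearGroup (Fin 3) F)))) ∨ (∃ (F : Type) (_ : Field F) (_ : Fintype F), Fintype.card F = 16 ∧ ∀ P : Sylow 2 (Cfsg.PSU 3 F 4), Nonempty (↥T ≃* ↥(P : Subgroup (Cfsg.PSU 3 F 4)))) := by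
  haveI : Fact (Nat.Prime 2) := ⟨Nat.prime_two⟩
  have hVle : V ≤ T := hVT.trans inf_le_left
  set ρ' : MulAut ↥T := CfsgLib.LocalEven.FixedFours.conjRestrict hρn.2 with hρ'
  set τ' : MulAut ↥T := CfsgLib.LocalEven.FixedFours.conjRestrict htn.2 with hτ'
  have hρa : ∀ x : ↥T, ((ρ' x : ↥T) : G) = ρ * (x : G) * ρ⁻¹ := fun _ => rfl
  have hτa : ∀ x : ↥T, ((τ' x : ↥T) : G) = t * (x : G) * t⁻¹ := fun _ => rfl
  have hρ3 : ρ * ρ * ρ = 1 := by
    have := pow_orderOf_eq_one ρ
    rwa [hρ, pow_succ, pow_two] at this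
  have ht2 : t * t = 1 := by
    have := pow_orderOf_eq_one t
    rwa [ht, pow_two] at this
  have htv : ∀ v ∈ V, t * v * t⁻¹ = v := fun v hv => by
    rw [← Subgroup.mem_centralizer_iff.1 htV v hv, mul_inv_cancel_right]
  have hmain := main (T := ↥T) (V := V.subgroupOf T) (ρ := ρ') (τ := τ')
    { isP := hT
      card := by rw [Nat.card_congr (Subgroup.subgroupOfEquivOfLe hVle).toEquiv]; exact hV.1
      cen := fun v hv => Subgroup.mem_center_iff.2 fun z =>
        Subtype.ext (Subgroup.mem_centralizer_iff.1 (hVT hv).2 z z.2)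
      sq := fun v hv => Subtype.ext (by rw [Subgroup.coe_mul, ← pow_two]; exact hV.2 v hv)
      rho_mem := fun v hv => by
        rw [Subgroup.mem_subgroupOf, hρa]
        exact (Subgroup.mem_normalizer_iff.1 hρn.1 _).1 hv
      rho3 := fun x => Subtype.ext (by
        rw [hρa, hρa, hρa]
        calc ρ * (ρ * (ρ * (x : G) * ρ⁻¹) * ρ⁻¹) * ρ⁻¹ = (ρ * ρ * ρ) * (x : G) * (ρ * ρ * ρ)⁻¹ := by group
          _ = x := by rw [hρ3, one_mul, inv_one, mul_one])
      tau2 := fun x => Subtype.ext (by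
        rw [hτa, hτa]
        calc t * (t * (x : G) * t⁻¹) * t⁻¹ = (t * t) * (x : G) * (t * t)⁻¹ := by group
          _ = x := by rw [ht2, one_mul, inv_one, mul_one])
      comm := fun x => Subtype.ext (by
        rw [hτa, hρa, hρa, hτa]
        calc t * (ρ * (x : G) * ρ⁻¹) * t⁻¹ = (t * ρ) * (x : G) * (t * ρ)⁻¹ := by group
          _ = ρ * (t * (x : G) * t⁻¹) * ρ⁻¹ := by rw [htρ]; group)
      fix := fun x => by
        constructor
        · intro e
          have h1 : t * (x : G) * t⁻¹ = x := congrArg Subtype.val e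
          have h2 : (x : G) ∈ T ⊓ Subgroup.centralizer ({t} : Set G) := by
            refine ⟨x.2, Subgroup.mem_centralizer_singleton_iff.2 ?_⟩
            calc (x : G) * t = t * (x : G) * t⁻¹ * t := by rw [h1]
              _ = t * (x : G) := by group
          rw [hCt] at h2
          exact h2
        · intro hx
          exact Subtype.ext (htv _ hx)
      fpf := fun v hv e => by
        have h1 : ρ * (v : G) * ρ⁻¹ = v := congrArg Subtype.val e
        -- the commutators with `ρ` are trivial on a fixed point, so `V` would be smaller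
        by_contra hne
        refine (?_ : ¬ ⁅V, Subgroup.zpowers ρ⁆ = V) hVρ
        intro hVρ'
        have hvV : (v : G) ∈ V := hv
        have hcl : ⁅V, Subgroup.zpowers ρ⁆ ≤ Subgroup.zpowers (v : G) := by
          exact CfsgLib.LocalEven.FixedFours.commutator_le_of_fixed hV hρn.1 hvV
            (fun h' => hne (Subtype.ext h')) h1
        rw [hVρ'] at hcl
        have h4 := Subgroup.card_le_of_le hcl
        rw [hV.1, Nat.card_zpowers] at h4
        have := orderOf_le_of_pow_eq_one (by norm_num) (hV.2 _ hvV)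
        omega }
  rcases hmain with ⟨h16, hexp⟩ | h | h | h
  · exact Or.inl ⟨h16, fun x hx => congrArg Subtype.val (hexp ⟨x, hx⟩)⟩
  · exact Or.inr (Or.inl h)
  · exact Or.inr (Or.inr (Or.inl h))
  · exact Or.inr (Or.inr (Or.inr h))

end Cfsg.Agent.S2933
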