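import Cfsg.Statements.S2934
import Cfsg.Agent.Lib.TwoGroups.WreathedAut
import Cfsg.Agent.Lib.TwoGroups.OneInvolution
import Cfsg.Agent.Lib.Fusion.DihedralTop
import Cfsg.Agent.Lib.Solvable.CoprimeGeneration
import Cfsg.Agent.Lib.Coprime.Action
import Cfsg.Agent.Lib.PGroup.Frattini
import Cfsg.Agent.Lib.Coprime.Basic

set_option autoImplicit false
open Cfsg

namespace Cfsg.Agent.S2934

open Subgroup
open scoped commutatorElement

variable {W : Type*} [Group W] [Finite W]

/-- fixed points -/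
def Cx (e : MulAut W) : Subgroup W where
  carrier := {x | e x = x}
  one_mem' := map_one e
  mul_mem' := fun {a b} (ha : e a = a) (hb : e b = b) => by
    show e (a * b) = a * b
    rw [map_mul, ha, hb]
  inv_mem' := fun {a} (ha : e a = a) => by
    show e a⁻¹ = a⁻¹
    rw [map_inv, ha]

omit [Finite W] in
theorem mem_Cx {e : MulAut W} {x : W} : x ∈ Cx e ↔ e x = x := Iff.rfl

theorem fix_of_pow_two {φ : MulAut W} (hφ : Odd (orderOf φ)) {y : W} (h : φ (φ y) = y) : φ y = y := by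
  obtain ⟨k, hk⟩ := hφ
  have h2 : ∀ j : ℕ, (φ ^ (2 * j)) y = y := by
    intro j
    induction j with
    | zero => rfl
    | succ j ih =>
      rw [Nat.mul_succ, pow_add, MulAut.mul_apply, pow_two, MulAut.mul_apply, h, ih]
  have h1 : (φ ^ (2 * k + 1)) y = y := by rw [← hk, pow_orderOf_eq_one]; rfl
  rw [pow_succ', MulAut.mul_apply, h2] at h1
  exact h1

/-- the three moves of an odd automorphism on `Q / ⟨z⟩`, `Q ≅ Q₈`. -/
theorem cases4 {Q : Subgroup W} {z : W} (hW : IsPGroup 2 W) (hzQ : z ∈ Q) (hz : orderOf z = 2)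
    (h8 : Nat.card Q = 8) {φ : MulAut W} (hφ : Odd (orderOf φ)) (hinv : ∀ x ∈ Q, φ x ∈ Q)
    (hz' : φ z = z) {y : W} (hy : y ∈ Q) (hyz : y ∉ zpowers z) (hmove : φ y ≠ y) {g : W} (hg : g ∈ Q) :
    g ∈ zpowers z ∨ y⁻¹ * g ∈ zpowers z ∨ (φ y)⁻¹ * g ∈ zpowers z ∨ (φ (φ y))⁻¹ * g ∈ zpowers z := by
  classical
  set Z0 := zpowers z
  have hZfix : ∀ u ∈ Z0, φ u = u := by
    rintro _ ⟨i, rfl⟩; show φ (z ^ i) = z ^ i; rw [map_zpow, hz']
  have hq : ∀ x : W, φ x * x⁻¹ ∈ Z0 → φ x = x := fun x h =>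
    CfsgLib.TwoGroups.OddAut.fixed_of_quot hW hφ (hZfix _ h)
  have hsymm : ∀ a b : W, a⁻¹ * b ∈ Z0 → b⁻¹ * a ∈ Z0 := fun a b h => by simpa using inv_mem h
  have hne1 : ∀ w : W, φ w ∈ Z0 → w ∈ Z0 := fun w h => by
    have := φ.injective (hZfix _ h)
    rwa [this] at h
  have hd1 : (φ y)⁻¹ * y ∉ Z0 := by
    intro h
    refine hmove ?_
    have h2 := hZfix _ h
    rw [map_mul, map_inv] at h2
    have e1 : φ (φ y) = φ y * (((φ y)⁻¹ * y))⁻¹ := by rw [← h2]; group
    have e2 : φ y = y * ((φ y)⁻¹ * y)⁻¹ := by group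
    have key : ∀ j : ℕ, (φ ^ j) y = y * (((φ y)⁻¹ * y)⁻¹) ^ j := by
      intro j
      induction j with
      | zero => simp
      | succ j ih =>
        rw [pow_succ', MulAut.mul_apply, ih, map_mul, map_pow, map_inv, hZfix _ h, pow_succ',
          ← mul_assoc, ← e2]
    have h3 := key (orderOf φ)
    rw [pow_orderOf_eq_one, MulAut.one_apply] at h3
    have h4 := left_eq_mul.1 h3
    obtain ⟨k, hk⟩ := hW (((φ y)⁻¹ * y)⁻¹)
    have h5 : orderOf (((φ y)⁻¹ * y)⁻¹) ∣ Nat.gcd (orderOf φ) (2 ^ k) :=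
      Nat.dvd_gcd (orderOf_dvd_of_pow_eq_one h4) (orderOf_dvd_of_pow_eq_one hk)
    have hc : (orderOf φ).Coprime (2 ^ k) :=
      Nat.Coprime.pow_right k (by rw [Nat.coprime_two_right]; exact hφ)
    rw [hc.gcd_eq_one, Nat.dvd_one, orderOf_eq_one_iff] at h5
    rw [e2, h5, mul_one]
  have hd2 : (φ (φ y))⁻¹ * φ y ∉ Z0 := fun h => hd1 (hne1 _ (by rwa [map_mul, map_inv]))
  have hd3 : (φ (φ y))⁻¹ * y ∉ Z0 := by
    intro h
    refine hmove (fix_of_pow_two hφ ?_)
    have key : ∀ j : ℕ, ((φ * φ) ^ j) y = y * (((φ (φ y))⁻¹ * y)⁻¹) ^ j := by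
      intro j
      induction j with
      | zero => simp
      | succ j ih =>
        have e2 : φ (φ y) = y * ((φ (φ y))⁻¹ * y)⁻¹ := by group
        rw [pow_succ', MulAut.mul_apply, ih, MulAut.mul_apply, map_mul, map_mul, map_pow, map_pow,
          map_inv, hZfix _ h, map_inv, hZfix _ h, pow_succ', ← mul_assoc, ← e2]
    have h3 := key (orderOf φ)
    rw [← pow_two, ← pow_mul, mul_comm, pow_mul, pow_orderOf_eq_one, one_pow, MulAut.one_apply] at h3
    obtain ⟨k, hk⟩ := hW (((φ (φ y))⁻¹ * y)⁻¹)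
    have h5 : orderOf (((φ (φ y))⁻¹ * y)⁻¹) ∣ Nat.gcd (orderOf φ) (2 ^ k) :=
      Nat.dvd_gcd (orderOf_dvd_of_pow_eq_one (left_eq_mul.1 h3)) (orderOf_dvd_of_pow_eq_one hk)
    have hc : (orderOf φ).Coprime (2 ^ k) :=
      Nat.Coprime.pow_right k (by rw [Nat.coprime_two_right]; exact hφ)
    rw [hc.gcd_eq_one, Nat.dvd_one, orderOf_eq_one_iff, inv_eq_one] at h5
    exact (inv_mul_eq_one.1 h5)
  let r : Fin 4 → Q := ![1, ⟨y, hy⟩, ⟨φ y, hinv _ hy⟩, ⟨φ (φ y), hinv _ (hinv _ hy)⟩]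
  let F : Fin 4 × ↥Z0 → Q := fun v => r v.1 * ⟨(v.2 : W), zpowers_le.2 hzQ v.2.2⟩
  have hFi : Function.Injective F := by
    rintro ⟨i, a⟩ ⟨j, b⟩ h
    have hij : ((r j : W))⁻¹ * (r i : W) ∈ Z0 := by
      have h' : (r i : W) * a = (r j : W) * b := congrArg Subtype.val h
      have e : ((r j : W))⁻¹ * (r i : W) = (b : W) * (a : W)⁻¹ := by
        rw [eq_mul_inv_iff_mul_eq, mul_assoc, h', inv_mul_cancel_left]
      rw [e]; exact mul_mem b.2 (inv_mem a.2)
    have : i = j := by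
      have a1 : φ y ∉ Z0 := fun h => hyz (hne1 _ h)
      have a2 : φ (φ y) ∉ Z0 := fun h => a1 (hne1 _ h)
      fin_cases i <;> fin_cases j <;> simp [r] at hij <;>
        (first | rfl | exact absurd hij hyz | exact absurd hij a1 | exact absurd hij a2 | exact absurd (hsymm _ _ hij) hd1 | exact absurd hij hd1 | exact absurd (hsymm _ _ hij) hd2 | exact absurd hij hd2 | exact absurd (hsymm _ _ hij) hd3 | exact absurd hij hd3)
    subst this
    have h'' : r i * (⟨(a : W), zpowers_le.2 hzQ a.2⟩ : ↥Q) = r i * ⟨(b : W), zpowers_le.2 hzQ b.2⟩ := h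
    have h3 := mul_left_cancel h''
    exact Prod.ext rfl (Subtype.ext (Subtype.mk.inj h3))
  obtain ⟨⟨i, a⟩, hia⟩ := ((Nat.bijective_iff_injective_and_card F).2 ⟨hFi, by
    rw [Nat.card_prod, Nat.card_zpowers, hz, h8, Nat.card_fin]⟩).2 ⟨g, hg⟩
  have hg' : (r i : W)⁻¹ * g ∈ Z0 := by
    rw [← show (r i : W) * a = g from congrArg Subtype.val hia, inv_mul_cancel_left]; exact a.2
  fin_cases i <;> simp [r] at hg' <;> tauto

/-- an invariant subgroup of `Q` reaching outside `⟨z⟩` is everything -/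
theorem le_of_invariant {Q : Subgroup W} {z : W} (hW : IsPGroup 2 W) (hzQ : z ∈ Q) (hz : orderOf z = 2)
    (h8 : Nat.card Q = 8) {φ : MulAut W} (hφ : Odd (orderOf φ)) (hinv : ∀ x ∈ Q, φ x ∈ Q)
    (hz' : φ z = z) {y : W} (hy : y ∈ Q) (hyz : y ∉ zpowers z) (hmove : φ y ≠ y) {R : Subgroup W}
    (hzR : z ∈ R) (hyR : y ∈ R) (h1 : φ y ∈ R) (h2 : φ (φ y) ∈ R) : Q ≤ R := by
  intro g hg
  rcases cases4 hW hzQ hz h8 hφ hinv hz' hy hyz hmove hg with h | h | h | h
  · exact zpowers_le.2 hzR h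
  · simpa using mul_mem hyR (zpowers_le.2 hzR h)
  · simpa using mul_mem h1 (zpowers_le.2 hzR h)
  · simpa using mul_mem h2 (zpowers_le.2 hzR h)

/-- a fixed point outside `⟨z⟩` makes an odd automorphism trivial on `Q`. -/
theorem fix_all {Q : Subgroup W} {z : W} (hW : IsPGroup 2 W) (hzQ : z ∈ Q) (hz : orderOf z = 2)
    (h8 : Nat.card Q = 8) {φ : MulAut W} (hφ : Odd (orderOf φ)) (hinv : ∀ x ∈ Q, φ x ∈ Q)
    (hz' : φ z = z) {y : W} (hy : y ∈ Q) (hyz : y ∉ zpowers z) (hfx : φ y = y) :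
    ∀ x ∈ Q, φ x = x := by
  intro x hx
  by_cases hxz : x ∈ zpowers z
  · obtain ⟨i, rfl⟩ := hxz
    show φ (z ^ i) = z ^ i
    rw [map_zpow, hz']
  by_contra hmove
  have hZfix : ∀ u ∈ zpowers z, φ u = u := by
    rintro _ ⟨i, rfl⟩; show φ (z ^ i) = z ^ i; rw [map_zpow, hz']
  rcases cases4 hW hzQ hz h8 hφ hinv hz' hx hxz hmove hy with h | h | h | h
  · exact hyz h
  · refine hmove ?_
    have h2 := hZfix _ h
    rw [map_mul, map_inv, hfx, mul_left_inj, inv_inj] at h2
    exact h2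
  · refine hmove (φ.injective ?_)
    have h2 := hZfix _ h
    rw [map_mul, map_inv, hfx, mul_left_inj, inv_inj] at h2
    exact h2
  · refine hmove (φ.injective (φ.injective ?_))
    have h2 := hZfix _ h
    rw [map_mul, map_inv, hfx, mul_left_inj, inv_inj] at h2
    exact h2

/-- an invariant 2-subgroup with a unique involution and a nontrivial odd automorphism -/
theorem card_eight {Q : Subgroup W} (hW : IsPGroup 2 W)
    (hu : ∀ a b : ↥Q, orderOf a = 2 → orderOf b = 2 → a = b) {φ : MulAut W} (hφ : Odd (orderOf φ))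
    (hinv : ∀ x ∈ Q, φ x ∈ Q) (hmove : ∃ x ∈ Q, φ x ≠ x) :
    Nat.card Q = 8 ∧ ¬ IsMulCommutative Q := by
  have hnc : ¬ IsCyclic Q := by
    intro hc
    obtain ⟨x, hx, hne⟩ := hmove
    exact hne (CfsgLib.TwoGroups.OddAut.fixed_subgroup hW hφ Q hinv x hx)
  have hna : ¬ IsMulCommutative Q := by
    intro h
    obtain ⟨x, -, hx⟩ := CfsgLib.TwoGroups.OneInvolution.exists_generator (hW.to_subgroup Q) hu ⊤
      ⟨⟨fun a b => Subtype.ext (h.is_comm.comm a.1 b.1)⟩⟩
    exact hnc ⟨⟨x, fun a => hx.le (mem_top a)⟩⟩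
  refine ⟨?_, hna⟩
  obtain h | ⟨k, hk1, ⟨e⟩⟩ :=
    CfsgLib.TwoGroups.OneInvolution.isCyclic_or_quaternion (hW.to_subgroup Q) hu
  · exact absurd h hnc
  have hk : k = 1 := by
    by_contra hne
    have hbij : Function.Bijective (fun x : ↥Q => (⟨φ x, hinv _ x.2⟩ : ↥Q)) :=
      Finite.injective_iff_bijective.1 fun a b h =>
        Subtype.ext (φ.injective (congrArg Subtype.val h))
    let ψh : ↥Q →* ↥Q :=
      { toFun := fun x => ⟨φ x, hinv _ x.2⟩
        map_one' := Subtype.ext (map_one φ)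
        map_mul' := fun a b => Subtype.ext (map_mul φ (a : W) (b : W)) }
    let ψ : MulAut ↥Q := MulEquiv.ofBijective ψh hbij
    have hpw : ∀ j : ℕ, ∀ x : ↥Q, (((ψ ^ j) x : ↥Q) : W) = (φ ^ j) x := by
      intro j
      induction j with
      | zero => intro x; rfl
      | succ j ih =>
        intro x
        rw [pow_succ', pow_succ', MulAut.mul_apply, MulAut.mul_apply, ← ih]
        rfl
    set ψ' := MulAut.congr e ψ
    have h1 : ψ' ^ orderOf φ = 1 := by
      rw [← map_pow, show ψ ^ orderOf φ = 1 from MulEquiv.ext fun x => Subtype.ext (by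
        rw [hpw, pow_orderOf_eq_one]; rfl), map_one]
    obtain ⟨a, ha⟩ := CfsgLib.Fusion.isPGroup_mulAut_quaternion k (by omega) ψ'
    have h5 : orderOf ψ' ∣ Nat.gcd (orderOf φ) (2 ^ a) :=
      Nat.dvd_gcd (orderOf_dvd_of_pow_eq_one h1) (orderOf_dvd_of_pow_eq_one ha)
    have hc : (orderOf φ).Coprime (2 ^ a) :=
      Nat.Coprime.pow_right a (by rw [Nat.coprime_two_right]; exact hφ)
    rw [hc.gcd_eq_one, Nat.dvd_one, orderOf_eq_one_iff] at h5
    have h6 : ψ = 1 := (MulAut.congr e).injective (h5.trans (map_one _).symm)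
    obtain ⟨x, hx, hne⟩ := hmove
    exact hne (congrArg Subtype.val (DFunLike.congr_fun h6 (⟨x, hx⟩ : ↥Q)))
  subst hk
  rw [Nat.card_congr e.toEquiv, Nat.card_eq_fintype_card, QuaternionGroup.card]
  norm_num

/-- generation of an invariant subgroup by fixed points -/
theorem le_of_fixed_le {p : ℕ} [Fact p.Prime] (hp : p ≠ 2) (hW : IsPGroup 2 W)
    (E : Subgroup (MulAut W)) (hE : IsPGroup p ↥E) (hab : IsMulCommutative ↥E) (hnc : ¬ IsCyclic ↥E)
    (R : Subgroup W) (hR : ∀ f ∈ E, ∀ x ∈ R, f x ∈ R) (L : Subgroup W)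
    (hL : ∀ e ∈ E, e ≠ 1 → R ⊓ Cx e ≤ L) : R ≤ L := by
  have := Fact.mk Nat.prime_two
  have : Finite (MulAut W) := Finite.of_injective (fun φ : MulAut W => (φ : W → W))
    DFunLike.coe_injective
  have : Finite (W ⋊[E.subtype] ↥E) := Finite.of_equiv _ SemidirectProduct.equivProd.symm
  let A : Subgroup (W ⋊[E.subtype] ↥E) := (SemidirectProduct.inr : ↥E →* _).range
  let K : Subgroup (W ⋊[E.subtype] ↥E) := R.map SemidirectProduct.inl
  have eA : ↥E ≃* ↥A := MonoidHom.ofInjective SemidirectProduct.inr_injective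
  have : IsMulCommutative A := ⟨⟨fun a b => eA.symm.injective (by
    rw [map_mul, map_mul]; exact hab.is_comm.comm _ _)⟩⟩
  have hA : ¬ IsCyclic A := fun h => hnc (isCyclic_of_surjective eA.symm eA.symm.surjective)
  have hAK : A ≤ normalizer (K : Set (W ⋊[E.subtype] ↥E)) := by
    rintro _ ⟨f, rfl⟩
    refine CfsgLib.Coprime.mem_normalizer_of_forall_conj ?_
    rintro _ ⟨x, hx, rfl⟩
    rw [← map_inv, ← SemidirectProduct.inl_aut]
    exact mem_map_of_mem _ (hR f f.2 x hx)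
  have hcop : (Nat.card A).Coprime (Nat.card K) := by
    obtain ⟨a, ha⟩ := IsPGroup.iff_card.1 hE
    obtain ⟨b, hb⟩ := IsPGroup.iff_card.1 (hW.to_subgroup R)
    rw [← Nat.card_congr eA.toEquiv, ha, card_map_of_injective SemidirectProduct.inl_injective, hb]
    exact Nat.Coprime.pow _ _ ((Nat.coprime_primes (Fact.out) Nat.prime_two).2 hp)
  have hgen := CfsgLib.CoprimeGeneration.iSup_centralizer_eq A K hA hAK hcop
  intro x hx
  have h1 : K ≤ L.map SemidirectProduct.inl := by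
    rw [← hgen]
    refine iSup₂_le fun a ha => ?_
    obtain ⟨⟨f, rfl⟩, hf1⟩ := ha
    rintro y ⟨hyK, hyc⟩
    obtain ⟨w, hw, rfl⟩ := hyK
    refine mem_map_of_mem _ (hL f f.2 (fun h => hf1 (by rw [show f = 1 from Subtype.ext h, map_one]))
      ⟨hw, ?_⟩)
    show (f : MulAut W) w = w
    refine SemidirectProduct.inl_injective (φ := E.subtype) ?_
    have h2 := mem_centralizer_singleton_iff.1 hyc
    rw [show (f : MulAut W) w = E.subtype f w from rfl, SemidirectProduct.inl_aut, ← h2,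
      mul_assoc, ← map_mul, mul_inv_cancel, map_one, mul_one]
  obtain ⟨l, hl, hlx⟩ := h1 (mem_map_of_mem _ hx)
  rwa [← SemidirectProduct.inl_injective hlx]

/-- Let p be an odd prime, W a finite 2-group and E a non-cyclic abelian p-subgroup of Aut(W) such that, for every nontrivial e ∈ E, the fixed points of e in W contain at most one involution. Then E has order 9, W is extraspecial of order 2⁵, 2⁷ or 2⁹, and the common fixed points of E in W form exactly the centre Z(W). -/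
theorem result {W : Type*} [Group W] [Finite W] (hW : IsPGroup 2 W) {p : ℕ} [Fact p.Prime] (hp : p ≠ 2) (E : Subgroup (MulAut W)) (hE : IsPGroup p ↥E) (hab : IsMulCommutative ↥E) (hnc : ¬ IsCyclic ↥E) (hfix : ∀ e ∈ E, e ≠ 1 → ∀ x y : W, orderOf x = 2 → orderOf y = 2 → e x = x → e y = y → x = y) : Nat.card ↥E = 9 ∧ Cfsg.IsExtraspecial 2 W ∧ (Nat.card W = 2 ^ 5 ∨ Nat.card W = 2 ^ 7 ∨ Nat.card W = 2 ^ 9) ∧ {x : W | ∀ e ∈ E, e x = x} = (Subgroup.center W : Set W) := by
  classical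
  have := Fact.mk Nat.prime_two
  have : Finite (MulAut W) := Finite.of_injective (fun φ : MulAut W => (φ : W → W))
    DFunLike.coe_injective
  have hodd : ∀ f ∈ E, Odd (orderOf f) := fun f hf => by
    obtain ⟨k, hk⟩ := hE ⟨f, hf⟩
    have h1 : f ^ p ^ k = 1 := congrArg Subtype.val hk
    exact Odd.of_dvd_nat ((Nat.Prime.odd_of_ne_two Fact.out hp).pow) (orderOf_dvd_of_pow_eq_one h1)
  have hgen := le_of_fixed_le hp hW E hE hab hnc
  have hinvC : ∀ e ∈ E, ∀ f ∈ E, ∀ x ∈ Cx e, f x ∈ Cx e := by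
    intro e he f hf x hx
    show e (f x) = f x
    have h : e * f = f * e := congrArg Subtype.val (hab.is_comm.comm (⟨e, he⟩ : ↥E) ⟨f, hf⟩)
    rw [← MulAut.mul_apply, h, MulAut.mul_apply, mem_Cx.1 hx]
  have hu : ∀ e ∈ E, e ≠ 1 → ∀ a b : ↥(Cx e), orderOf a = 2 → orderOf b = 2 → a = b :=
    fun e he he1 a b ha hb => Subtype.ext (hfix e he he1 a b (by rw [Subgroup.orderOf_coe]; exact ha)
      (by rw [Subgroup.orderOf_coe]; exact hb) a.2 b.2)
  have hne : ∃ e0 ∈ E, e0 ≠ 1 ∧ ∃ f ∈ E, ∃ x ∈ Cx e0, f x ≠ x := by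
    by_contra h
    push Not at h
    refine hnc ?_
    have : Subsingleton ↥E := ⟨fun a b => by
      have hall : ∀ c : ↥E, c = 1 := fun c => Subtype.ext (MulEquiv.ext fun x => by
        have h1 : (⊤ : Subgroup W) ≤ Cx (c : MulAut W) :=
          hgen ⊤ (fun _ _ _ _ => mem_top _) _ fun e he he1 x hx => h e he he1 c c.2 x hx.2
        exact h1 (mem_top x))
      rw [hall a, hall b]⟩
    infer_instance
  obtain ⟨e0, he0, he01, f0, hf0, x0, hx0, hmove0⟩ := hne
  obtain ⟨h80, -⟩ := card_eight hW (hu e0 he0 he01) (hodd f0 hf0) (hinvC e0 he0 f0 hf0) ⟨x0, hx0, hmove0⟩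
  obtain ⟨z', hz'⟩ := exists_prime_orderOf_dvd_card' (G := ↥(Cx e0)) 2 (by rw [h80]; norm_num)
  set z : W := (z' : W) with hzdef
  have hz : orderOf z = 2 := by rw [hzdef, Subgroup.orderOf_coe, hz']
  have hzC : z ∈ Cx e0 := z'.2
  have hzf : ∀ f ∈ E, f z = z := fun f hf =>
    hfix e0 he0 he01 (f z) z (by rw [MulEquiv.orderOf_eq, hz]) hz (hinvC e0 he0 f hf z hzC) hzC
  set Z0 := zpowers z with hZ0
  have hzmem : z ∈ Z0 := mem_zpowers z
  have hZcases : ∀ u ∈ Z0, u = 1 ∨ u = z := by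
    rintro _ ⟨i, rfl⟩
    obtain ⟨j, rfl⟩ | ⟨j, rfl⟩ := Int.even_or_odd i
    · left; show z ^ (j + j) = 1
      rw [← two_mul, zpow_mul, zpow_ofNat, ← hz, pow_orderOf_eq_one, one_zpow]
    · right; show z ^ (2 * j + 1) = z
      rw [zpow_add_one, zpow_mul, zpow_ofNat, ← hz, pow_orderOf_eq_one, one_zpow, one_mul]
  have hzin : ∀ e ∈ E, z ∈ Cx e := fun e he => hzf e he
  have hcase : ∀ e ∈ E, e ≠ 1 → Cx e ≤ Z0 ∨ (Nat.card (Cx e) = 8 ∧ ¬ IsMulCommutative (Cx e) ∧
      ∀ y ∈ Cx e, y ∉ Z0 → ∃ f ∈ E, f y ≠ y) := by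
    intro e he he1
    by_cases h : ∀ f ∈ E, ∀ x ∈ Cx e, f x = x
    · left
      intro x hx
      by_contra hxz
      exact hmove0 (fix_all hW hzC hz h80 (hodd f0 hf0) (hinvC e0 he0 f0 hf0) (hzf f0 hf0)
        (h e0 he0 x hx) hxz (h f0 hf0 x hx) x0 hx0)
    · right
      push Not at h
      obtain ⟨f, hf, x, hx, hfx⟩ := h
      obtain ⟨h8, hna⟩ := card_eight hW (hu e he he1) (hodd f hf) (hinvC e he f hf) ⟨x, hx, hfx⟩
      exact ⟨h8, hna, fun y hy hyz => ⟨f, hf, fun hfy => hfx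
        (fix_all hW (hzin e he) hz h8 (hodd f hf) (hinvC e he f hf) (hzf f hf) hy hyz hfy x hx)⟩⟩
  let isQ : Subgroup W → Prop := fun Q => ∃ e ∈ E, e ≠ 1 ∧ Q = Cx e ∧ Nat.card Q = 8
  have hQz : ∀ Q, isQ Q → z ∈ Q := fun Q ⟨e, he, _, hQ, _⟩ => hQ ▸ hzin e he
  have hQinv : ∀ Q, isQ Q → ∀ f ∈ E, ∀ x ∈ Q, f x ∈ Q := fun Q ⟨e, he, _, hQ, _⟩ f hf => by
    subst hQ; exact hinvC e he f hf
  have hQnot : ∀ Q, isQ Q → ¬ Q ≤ Z0 := fun Q ⟨e, he, _, hQ, h8⟩ h => by
    have := Subgroup.card_le_of_le h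
    rw [h8, hZ0, Nat.card_zpowers, hz] at this; omega
  have hQstep : ∀ Q, isQ Q → ∀ y ∈ Q, y ∉ Z0 → ∀ R : Subgroup W, z ∈ R →
      (∀ f ∈ E, f y ∈ R) → Q ≤ R := by
    intro Q hQ y hy hyz R hzR hR
    obtain ⟨e, he, he1, rfl, h8⟩ := id hQ
    obtain h | ⟨-, -, hmv⟩ := hcase e he he1
    · exact absurd h (hQnot _ hQ)
    obtain ⟨f, hf, hfy⟩ := hmv y hy hyz
    refine le_of_invariant hW (hQz _ hQ) hz h8 (hodd f hf) (hQinv _ hQ f hf) (hzf f hf) hy hyz hfy hzR
      (hR 1 (one_mem E)) (hR f hf) ?_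
    rw [← MulAut.mul_apply]; exact hR _ (mul_mem hf hf)
  have hQna : ∀ Q, isQ Q → ¬ Q ≤ centralizer (Q : Set W) := fun Q hQ hcen => by
    obtain ⟨e, he, he1, rfl, h8⟩ := id hQ
    obtain h | ⟨-, hna, -⟩ := hcase e he he1
    · exact hQnot _ hQ h
    exact hna ⟨⟨fun a b => Subtype.ext (hcen b.2 a a.2)⟩⟩
  have hQker : ∀ Q, isQ Q → ∀ g ∈ E, g ≠ 1 → ∀ y ∈ Q, y ∉ Z0 → g y = y → Cx g = Q := by
    intro Q hQ g hg hg1 y hy hyz hgy
    obtain ⟨e, he, he1, rfl, h8⟩ := id hQ
    have hle : Cx e ≤ Cx g := fix_all hW (hQz _ hQ) hz h8 (hodd g hg) (hQinv _ hQ g hg) (hzf g hg) hy hyz hgy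
    obtain h | ⟨h8', -, -⟩ := hcase g hg hg1
    · exact absurd (hle.trans h) (hQnot _ hQ)
    exact (Subgroup.eq_of_le_of_card_ge hle (by rw [h8', h8])).symm
  -- exponent 3
  have hcube : ∀ f ∈ E, f ^ 3 = 1 := by
    intro f hf
    refine MulEquiv.ext fun x => ?_
    refine hgen ⊤ (fun _ _ _ _ => mem_top _) (Cx (f ^ 3)) (fun e he he1 => ?_) (mem_top x)
    rintro y ⟨-, hy⟩
    show (f ^ 3) y = y
    by_cases hyz : y ∈ Z0
    · rcases hZcases y hyz with rfl | rfl
      · exact map_one _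
      · exact hzf _ (pow_mem hf 3)
    obtain h | ⟨h8, -, -⟩ := hcase e he he1
    · exact absurd (h hy) hyz
    by_cases hfy : f y = y
    · simp [pow_succ, hfy]
    have h3 : (f ^ 3) y = f (f (f y)) := rfl
    rw [h3]
    have hq : ∀ u ∈ Z0, f u = u := fun u hu => by
      rcases hZcases u hu with rfl | rfl
      · exact map_one _
      · exact hzf f hf
    have hmem : f (f (f y)) ∈ Cx e := hinvC e he f hf _ (hinvC e he f hf _ (hinvC e he f hf y hy))
    rcases cases4 hW (hzin e he) hz h8 (hodd f hf) (hinvC e he f hf) (hzf f hf) hy hyz hfy hmem with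
      h | h | h | h
    · exact absurd (by
        have h1 := f.injective (hq _ h); rw [h1] at h
        have h2 := f.injective (hq _ h); rw [h2] at h
        have h3 := f.injective (hq _ h); rwa [h3] at h) hyz
    · have h1 : (f ^ 3) y * y⁻¹ ∈ Z0 := by
        rcases hZcases _ h with e1 | e1
        · rw [inv_mul_eq_one] at e1; rw [h3, ← e1, mul_inv_cancel]; exact one_mem _
        · rw [inv_mul_eq_iff_eq_mul] at e1
          have hyz' : y * z = z * y := by
            have h1 : y * z * y⁻¹ = z := hfix e he he1 (y * z * y⁻¹) z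
              (by rw [show y * z * y⁻¹ = MulAut.conj y z from rfl, MulEquiv.orderOf_eq, hz]) hz
              (mul_mem (mul_mem hy (hzin e he)) (inv_mem hy) : y * z * y⁻¹ ∈ Cx e) (hzin e he)
            exact mul_inv_eq_iff_eq_mul.1 h1
          rw [h3, e1, hyz', mul_inv_cancel_right]; exact hzmem
      refine CfsgLib.TwoGroups.OddAut.fixed_of_quot hW (hodd _ (pow_mem hf 3)) ?_
      rcases hZcases _ h1 with e1 | e1 <;> rw [e1]
      · exact map_one _
      · exact hzf _ (pow_mem hf 3)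
    · exfalso
      refine hfy (fix_of_pow_two (hodd f hf) ?_)
      have h1 : y⁻¹ * f (f y) ∈ Z0 := by
        have := hq _ h
        rw [show (f y)⁻¹ * f (f (f y)) = f (y⁻¹ * f (f y)) by rw [map_mul, map_inv]] at h this
        have h1 := f.injective this
        rwa [h1] at h
      have hyf : ((f * f) y) * y⁻¹ ∈ Z0 := by
        rcases hZcases _ h1 with e1 | e1
        · rw [inv_mul_eq_one] at e1; show f (f y) * y⁻¹ ∈ Z0; rw [← e1, mul_inv_cancel]; exact one_mem _
        · rw [inv_mul_eq_iff_eq_mul] at e1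
          have hyz' : y * z * y⁻¹ = z := hfix e he he1 (y * z * y⁻¹) z
              (by rw [show y * z * y⁻¹ = MulAut.conj y z from rfl, MulEquiv.orderOf_eq, hz]) hz
              (mul_mem (mul_mem hy (hzin e he)) (inv_mem hy) : y * z * y⁻¹ ∈ Cx e) (hzin e he)
          show f (f y) * y⁻¹ ∈ Z0
          rw [e1, hyz']; exact hzmem
      refine CfsgLib.TwoGroups.OddAut.fixed_of_quot hW (hodd _ (mul_mem hf hf)) ?_
      rcases hZcases _ hyf with e1 | e1 <;> rw [e1]
      · exact map_one _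
      · exact hzf _ (mul_mem hf hf)
    · exfalso
      have h1 : (f (f y))⁻¹ * f (f (f y)) = f (f (y⁻¹ * f y)) := by rw [map_mul, map_mul, map_inv, map_inv]
      rw [h1] at h
      have h2 := f.injective (hq _ h); rw [h2] at h
      have h3 := f.injective (hq _ h); rw [h3] at h
      rcases hZcases _ h with e1 | e1
      · exact hfy (inv_mul_eq_one.1 e1).symm
      · rw [inv_mul_eq_iff_eq_mul] at e1
        have hyz' : y * z * y⁻¹ = z := hfix e he he1 (y * z * y⁻¹) z
            (by rw [show y * z * y⁻¹ = MulAut.conj y z from rfl, MulEquiv.orderOf_eq, hz]) hz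
            (mul_mem (mul_mem hy (hzin e he)) (inv_mem hy) : y * z * y⁻¹ ∈ Cx e) (hzin e he)
        refine hfy (CfsgLib.TwoGroups.OddAut.fixed_of_quot hW (hodd f hf) ?_)
        rw [e1, hyz']; exact hzf f hf
  have hp3 : p = 3 := by
    have hf01 : f0 ≠ 1 := fun h => hmove0 (by rw [h]; rfl)
    obtain ⟨k, hk⟩ := hE ⟨f0, hf0⟩
    have h1 : orderOf f0 ∣ p ^ k := orderOf_dvd_of_pow_eq_one (congrArg Subtype.val hk)
    have h2 : orderOf f0 = 3 := ((Nat.dvd_prime Nat.prime_three).1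
      (orderOf_dvd_of_pow_eq_one (hcube f0 hf0))).resolve_left (fun h => hf01 (orderOf_eq_one_iff.1 h))
    rw [h2] at h1
    exact ((Nat.prime_dvd_prime_iff_eq Nat.prime_three Fact.out).1
      (Nat.prime_three.dvd_of_dvd_pow h1)).symm
  subst hp3
  -- two distinct quaternion groups
  have hQ0 : isQ (Cx e0) := ⟨e0, he0, he01, rfl, h80⟩
  obtain ⟨Q1, hQ1, hQ10⟩ : ∃ Q1, isQ Q1 ∧ Q1 ≠ Cx e0 := by
    by_contra h
    push Not at h
    refine he01 (MulEquiv.ext fun x => ?_)
    refine hgen ⊤ (fun _ _ _ _ => mem_top _) (Cx e0) (fun e he he1 => ?_) (mem_top x)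
    obtain h' | ⟨h8, -, -⟩ := hcase e he he1
    · exact inf_le_right.trans (h'.trans (zpowers_le.2 hzC))
    · exact inf_le_right.trans (h _ ⟨e, he, he1, rfl, h8⟩).le
  have hcard : Nat.card ↥E = 9 := by
    obtain ⟨y0, hy0, hy0z⟩ := SetLike.not_le_iff_exists.1 (hQnot _ hQ0)
    obtain ⟨y1, hy1, hy1z⟩ := SetLike.not_le_iff_exists.1 (hQnot _ hQ1)
    have hmv : ∀ Q, isQ Q → ∀ y ∈ Q, y ∉ Z0 → ∃ φ ∈ E, ∀ g : ↥E, ∃ i : Fin 3,
        ((φ ^ (i : ℕ)) y)⁻¹ * (g : MulAut W) y ∈ Z0 := by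
      intro Q hQ y hy hyz
      obtain ⟨e, he, he1, rfl, h8⟩ := id hQ
      obtain h | ⟨-, -, hm⟩ := hcase e he he1
      · exact absurd (h hy) hyz
      obtain ⟨φ, hφ, hφy⟩ := hm y hy hyz
      refine ⟨φ, hφ, fun g => ?_⟩
      rcases cases4 hW (hzin e he) hz h8 (hodd φ hφ) (hinvC e he φ hφ) (hzf φ hφ) hy hyz hφy
        (hinvC e he g g.2 y hy) with h | h | h | h
      · exfalso
        rcases hZcases _ h with h' | h'
        · exact hyz (by rw [(g : MulAut W).injective (h'.trans (map_one _).symm)]; exact one_mem _)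
        · exact hyz (by rw [(g : MulAut W).injective (h'.trans (hzf g g.2).symm)]; exact hzmem)
      · exact ⟨0, h⟩
      · exact ⟨1, by simpa using h⟩
      · exact ⟨2, h⟩
    obtain ⟨φ0, -, hc0⟩ := hmv _ hQ0 y0 hy0 hy0z
    obtain ⟨φ1, -, hc1⟩ := hmv _ hQ1 y1 hy1 hy1z
    choose c0 hc0 using hc0
    choose c1 hc1 using hc1
    have hinj : Function.Injective (fun g : ↥E => (c0 g, c1 g)) := by
      intro g g' h
      obtain ⟨h0, h1⟩ := Prod.ext_iff.1 h
      by_contra hne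
      set d : MulAut W := ((g : MulAut W))⁻¹ * (g' : MulAut W) with hd
      have hdE : d ∈ E := mul_mem (inv_mem g.2) g'.2
      have hd1 : d ≠ 1 := fun hd1 => hne (Subtype.ext (inv_mul_eq_one.1 hd1))
      have key : ∀ y a : W, a⁻¹ * (g : MulAut W) y ∈ Z0 → a⁻¹ * (g' : MulAut W) y ∈ Z0 →
          y⁻¹ * d y ∈ Z0 := by
        intro y a ha ha'
        have h3 : ((g : MulAut W) y)⁻¹ * (g' : MulAut W) y ∈ Z0 := by
          simpa [mul_assoc] using mul_mem (inv_mem ha) ha'
        have h4 : (g : MulAut W) (y⁻¹ * d y) ∈ Z0 := by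
          rw [map_mul, map_inv, hd, MulAut.mul_apply, MulAut.apply_inv_self]; exact h3
        rcases hZcases _ h4 with h' | h'
        · rw [(g : MulAut W).injective (h'.trans (map_one _).symm)]; exact one_mem _
        · rw [(g : MulAut W).injective (h'.trans (hzf g g.2).symm)]; exact hzmem
      have key2 : ∀ Q, isQ Q → ∀ y ∈ Q, y ∉ Z0 → y⁻¹ * d y ∈ Z0 → Cx d = Q := by
        intro Q hQ y hy hyz hd2
        refine hQker Q hQ d hdE hd1 y hy hyz ?_
        refine CfsgLib.TwoGroups.OddAut.fixed_of_quot hW (hodd d hdE) ?_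
        obtain ⟨e, he, he1, rfl, h8⟩ := id hQ
        have hyz' : y * z * y⁻¹ = z := hfix e he he1 (y * z * y⁻¹) z
            (by rw [show y * z * y⁻¹ = MulAut.conj y z from rfl, MulEquiv.orderOf_eq, hz]) hz
            (mul_mem (mul_mem hy (hzin e he)) (inv_mem hy) : y * z * y⁻¹ ∈ Cx e) (hzin e he)
        rcases hZcases _ hd2 with h' | h'
        · rw [inv_mul_eq_one] at h'; rw [← h', mul_inv_cancel]; exact map_one _
        · rw [inv_mul_eq_iff_eq_mul] at h'; rw [h', hyz']; exact hzf d hdE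
      refine hQ10 ?_
      rw [← key2 _ hQ1 y1 hy1 hy1z (key y1 _ (hc1 g) ((show c1 g = c1 g' from h1) ▸ hc1 g')),
        key2 _ hQ0 y0 hy0 hy0z (key y0 _ (hc0 g) ((show c0 g = c0 g' from h0) ▸ hc0 g'))]
    have hle := Nat.card_le_card_of_injective _ hinj
    simp only [Nat.card_prod, Nat.card_fin] at hle
    obtain ⟨k, hk⟩ := IsPGroup.iff_card.1 hE
    rcases k with _ | _ | _ | k
    · have := (Nat.card_eq_one_iff_unique.1 (by simpa using hk : Nat.card ↥E = 1)).1
      exact (hnc inferInstance).elim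
    · exact absurd (isCyclic_of_prime_card (by simpa using hk)) hnc
    · simpa using hk
    · exfalso
      have : 3 ^ 3 ≤ 3 ^ (k + 1 + 1 + 1) := Nat.pow_le_pow_right (by norm_num) (by omega)
      omega
  -- z is central
  have hzc : ∀ w : W, z * w = w * z := by
    intro w
    refine mem_centralizer_singleton_iff.1 (hgen ⊤ (fun _ _ _ _ => mem_top _) (centralizer {z})
      (fun e he he1 y hy => mem_centralizer_singleton_iff.2 ?_) (mem_top w)) |>.symm
    have hyz' : y * z * y⁻¹ = z := hfix e he he1 (y * z * y⁻¹) z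
        (by rw [show y * z * y⁻¹ = MulAut.conj y z from rfl, MulEquiv.orderOf_eq, hz]) hz
        (mul_mem (mul_mem hy.2 (hzin e he)) (inv_mem hy.2) : y * z * y⁻¹ ∈ Cx e) (hzin e he)
    exact mul_inv_eq_iff_eq_mul.1 hyz'
  have hZn : Z0.Normal := ⟨fun u hu g => by
    rcases hZcases u hu with rfl | rfl
    · simp [one_mem]
    · rw [← hzc g, mul_inv_cancel_right]; exact hzmem⟩
  let q := QuotientGroup.mk' Z0
  -- distinct quaternion groups commute
  have hcomm : ∀ n : ℕ, ∀ R : Subgroup W, Nat.card R ≤ n → (∀ f ∈ E, ∀ x ∈ R, f x ∈ R) → ∀ Q Q', isQ Q →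
      isQ Q' → Q ≠ Q' → Q ≤ R → Q' ≤ R → Q ≤ centralizer (Q' : Set W) := by
    intro n
    induction n with
    | zero => intro R hR; have := Nat.card_pos (α := R); omega
    | succ n ih =>
    intro R hRn hR Q Q' hQ hQ' hne hQR hQ'R
    set Z1 := R ⊓ (centralizer (R.map q : Set (W ⧸ Z0))).comap q with hZ1
    have hqE : ∀ f ∈ E, ∀ a b : W, q a = q b → q (f a) = q (f b) := by
      intro f hf a b h
      rw [QuotientGroup.mk'_apply, QuotientGroup.mk'_apply, QuotientGroup.eq] at h ⊢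
      rw [← map_inv, ← map_mul]
      rcases hZcases _ h with h' | h' <;> rw [h']
      · rw [map_one]; exact one_mem _
      · rw [hzf f hf]; exact hzmem
    have hZ1inv : ∀ f ∈ E, ∀ x ∈ Z1, f x ∈ Z1 := by
      intro f hf x hx
      refine ⟨hR f hf x hx.1, ?_⟩
      rintro _ ⟨r, hr, rfl⟩
      have hr' := hR f⁻¹ (inv_mem hf) r hr
      have h : q (f⁻¹ r * x) = q (x * f⁻¹ r) := by
        rw [map_mul, map_mul]; exact hx.2 _ (mem_map_of_mem q hr')
      have := hqE f hf _ _ h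
      rwa [map_mul, map_mul, map_mul, map_mul, MulAut.apply_inv_self] at this
    obtain ⟨Q2, hQ2, hQ2Z⟩ : ∃ Q2, isQ Q2 ∧ Q2 ≤ Z1 := by
      by_contra hno
      push Not at hno
      have hle : Z1 ≤ Z0 := hgen Z1 hZ1inv Z0 fun e he he1 => by
        obtain h | ⟨h8, -, -⟩ := hcase e he he1
        · exact inf_le_right.trans h
        rintro y ⟨hy1, hy2⟩
        by_contra hyz
        have hQe : isQ (Cx e) := ⟨e, he, he1, rfl, h8⟩
        exact hno _ hQe (hQstep _ hQe y hy2 hyz Z1 ⟨hQR (hQz _ hQ), by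
          rintro _ ⟨r, -, rfl⟩
          rw [show q z = 1 from (QuotientGroup.eq_one_iff z).2 hzmem, mul_one, one_mul]⟩
          fun f hf => hZ1inv f hf y hy1)
      have hRq : R.map q ≠ ⊥ := fun h => hQnot _ hQ (hQR.trans (by
        rw [Subgroup.map_eq_bot_iff, QuotientGroup.ker_mk'] at h; exact h))
      have : Nontrivial ↥(R.map q) := (nontrivial_iff_ne_bot _).2 hRq
      have := ((hW.to_subgroup R).map q).center_nontrivial
      obtain ⟨c, hc⟩ := exists_ne (1 : ↥(Subgroup.center ↥(R.map q)))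
      obtain ⟨w, hw, hwc⟩ := mem_map.1 c.1.2
      refine hc (Subtype.ext (Subtype.ext ?_))
      show (c.1 : W ⧸ Z0) = 1
      rw [← hwc]
      refine (QuotientGroup.eq_one_iff w).2 (hle ⟨hw, ?_⟩)
      intro u hu
      rw [hwc]
      exact congrArg Subtype.val (Subgroup.mem_center_iff.1 c.2 ⟨u, hu⟩)
    have hcen : ∀ Q3, isQ Q3 → Q3 ≠ Q2 → Q3 ≤ R → Q3 ≤ centralizer (Q2 : Set W) := by
      intro Q3 hQ3 h32 h3R y hy x hx
      obtain ⟨e, he, he1, rfl, h8⟩ := id hQ2
      have hval : ∀ v ∈ Q3, ⁅x, v⁆ ∈ Z0 := fun v hv => (QuotientGroup.eq_one_iff _).1 (by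
        show q ⁅x, v⁆ = 1
        rw [map_commutatorElement, commutatorElement_eq_one_iff_mul_comm]
        exact ((hQ2Z hx).2 _ (mem_map_of_mem q (h3R hv))).symm)
      have hefix : ∀ v ∈ Q3, ⁅x, e v⁆ = ⁅x, v⁆ := fun v hv => by
        have h1 : e ⁅x, v⁆ = ⁅x, v⁆ := by
          rcases hZcases _ (hval v hv) with h | h <;> rw [h]
          · exact map_one _
          · exact hzf e he
        rwa [map_commutatorElement, mem_Cx.1 hx] at h1
      have hmul : ∀ a ∈ Q3, ∀ b : W, ⁅x, a * b⁆ = ⁅x, a⁆ * ⁅x, b⁆ → True := fun _ _ _ _ => trivial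
      obtain ⟨e3, he3, he31, rfl, h83⟩ := id hQ3
      by_cases hyz : y ∈ Z0
      · rcases hZcases y hyz with rfl | rfl
        · simp
        · exact (hzc x).symm
      by_contra hne1
      have hey : e y ≠ y := fun h => h32 ((hQker _ hQ3 e he he1 y hy hyz h).symm)
      have hz1 : ∀ v ∈ Cx e3, ⁅x, v⁆ = z → ∀ w ∈ Cx e3, ⁅x, w⁆ = z → ⁅x, v * w⁆ = 1 := by
        intro v hv hxv w hw hxw
        calc ⁅x, v * w⁆ = ⁅x, v⁆ * (v * ⁅x, w⁆ * v⁻¹) := by group
          _ = z * z := by rw [hxv, hxw, ← hzc v, mul_inv_cancel_right]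
          _ = 1 := by rw [← pow_two, ← hz, pow_orderOf_eq_one]
      have hxy : ⁅x, y⁆ = z := (hZcases _ (hval y hy)).resolve_left fun h =>
        hne1 (commutatorElement_eq_one_iff_mul_comm.1 h)
      have he3i := hinvC e3 he3 e he
      have hxy1 : ⁅x, e y⁆ = z := (hefix y hy).trans hxy
      have hxy2 : ⁅x, e (e y)⁆ = z := (hefix _ (he3i y hy)).trans hxy1
      have hprod := hz1 y hy hxy (e y) (he3i y hy) hxy1
      have hzx : ∀ u ∈ Z0, ∀ v : W, ⁅x, v * u⁆ = ⁅x, v⁆ := by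
        intro u hu v
        rcases hZcases u hu with rfl | rfl
        · rw [mul_one]
        · calc ⁅x, v * z⁆ = x * v * (z * x⁻¹ * z⁻¹) * v⁻¹ := by group
            _ = ⁅x, v⁆ := by rw [hzc x⁻¹, mul_inv_cancel_right, commutatorElement_def]
      rcases cases4 hW (hzin e3 he3) hz h83 (hodd e he) he3i (hzf e he) hy hyz hey
        (mul_mem hy (he3i y hy)) with h | h | h | h
      · -- `e y ∈ y⁻¹ Z0`
        rcases hZcases _ h with h' | h'
        · refine hey (fix_of_pow_two (hodd e he) ?_)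
          have h5 : e y = y⁻¹ := eq_inv_of_mul_eq_one_right h'
          rw [h5, map_inv, h5, inv_inv]
        · refine hey (fix_of_pow_two (hodd e he) ?_)
          have h5 : e y = y⁻¹ * z := eq_inv_mul_of_mul_eq h'
          rw [h5, map_mul, map_inv, h5, hzf e he, mul_inv_rev, inv_inv, mul_assoc, ← hzc y,
            inv_mul_cancel_left]
      · rw [inv_mul_cancel_left] at h
        rcases hZcases _ h with h' | h'
        · exact hyz (e.injective (h'.trans (map_one e).symm) ▸ one_mem _)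
        · exact hyz (e.injective (h'.trans (hzf e he).symm) ▸ hzmem)
      · have h4 := hzx _ h (e y)
        rw [mul_inv_cancel_left, hprod, hxy1] at h4
        exact absurd hz (by rw [← h4, orderOf_one]; norm_num)
      · have h4 := hzx _ h (e (e y))
        rw [mul_inv_cancel_left, hprod, hxy2] at h4
        exact absurd hz (by rw [← h4, orderOf_one]; norm_num)
    by_cases h2 : Q' = Q2
    · subst h2; exact hcen Q hQ hne hQR
    by_cases h1 : Q = Q2
    · subst h1; exact le_centralizer_iff.1 (hcen Q' hQ' h2 hQ'R)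
    let R' : Subgroup W := ⨆ Q3 : {Q3 : Subgroup W // isQ Q3 ∧ Q3 ≠ Q2 ∧ Q3 ≤ R}, Q3.1
    have hR'R : R' ≤ R := iSup_le fun Q3 => Q3.2.2.2
    have hR'C : R' ≤ centralizer (Q2 : Set W) := iSup_le fun Q3 => hcen _ Q3.2.1 Q3.2.2.1 Q3.2.2.2
    have hlt : Nat.card R' < Nat.card R := by
      refine lt_of_le_of_ne (Subgroup.card_le_of_le hR'R) fun h => hQna _ hQ2 ?_
      have he' := Subgroup.eq_of_le_of_card_ge hR'R h.ge
      exact ((hQ2Z.trans inf_le_left).trans he'.ge).trans hR'C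
    refine ih R' (by omega) ?_ Q Q' hQ hQ' hne
      (le_iSup (fun Q3 : {Q3 : Subgroup W // isQ Q3 ∧ Q3 ≠ Q2 ∧ Q3 ≤ R} => Q3.1) ⟨Q, hQ, h1, hQR⟩)
      (le_iSup (fun Q3 : {Q3 : Subgroup W // isQ Q3 ∧ Q3 ≠ Q2 ∧ Q3 ≤ R} => Q3.1) ⟨Q', hQ', h2, hQ'R⟩)
    intro f hf x hx
    have hle : R' ≤ R'.comap f.toMonoidHom := iSup_le fun Q3 y hy =>
      le_iSup (fun Q3 : {Q3 : Subgroup W // isQ Q3 ∧ Q3 ≠ Q2 ∧ Q3 ≤ R} => Q3.1) Q3 (hQinv _ Q3.2.1 f hf y hy)
    exact hle hx
  have hcommW : ∀ Q Q', isQ Q → isQ Q' → Q ≠ Q' → Q ≤ centralizer (Q' : Set W) := fun Q Q' h h' hne =>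
    hcomm _ ⊤ le_rfl (fun _ _ _ _ => mem_top _) Q Q' h h' hne le_top le_top
  have hcenter : Subgroup.center W = Z0 := by
    refine le_antisymm ?_ (zpowers_le.2 (Subgroup.mem_center_iff.2 fun g => (hzc g).symm))
    refine hgen (Subgroup.center W) (fun f _ x hx => Subgroup.mem_center_iff.2 fun g => ?_) Z0
      fun e he he1 => ?_
    · rw [← MulAut.apply_inv_self W f g, ← map_mul, ← map_mul, Subgroup.mem_center_iff.1 hx]
    obtain h | ⟨h8, -, -⟩ := hcase e he he1
    · exact inf_le_right.trans h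
    rintro y ⟨hy1, hy2⟩
    by_contra hyz
    have hQe : isQ (Cx e) := ⟨e, he, he1, rfl, h8⟩
    refine hQna _ hQe ((hQstep _ hQe y hy2 hyz (Subgroup.center W)
      (Subgroup.mem_center_iff.2 fun g => (hzc g).symm) fun f hf => Subgroup.mem_center_iff.2 fun g => ?_).trans
      (center_le_centralizer _))
    rw [← MulAut.apply_inv_self W f g, ← map_mul, ← map_mul, Subgroup.mem_center_iff.1 hy1]
  have hsq : ∀ Q, isQ Q → ∀ a ∈ Q, a * a ∈ Z0 := by
    intro Q hQ a ha
    by_cases haz : a ∈ Z0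
    · exact mul_mem haz haz
    obtain ⟨e, he, he1, rfl, h8⟩ := id hQ
    obtain h | ⟨-, hna, hm⟩ := hcase e he he1
    · exact absurd (h ha) haz
    obtain ⟨φ, hφ, hφa⟩ := hm a ha haz
    have hzint : ∀ u ∈ Z0, φ u = u := fun u hu => by
      rcases hZcases u hu with rfl | rfl
      · exact map_one _
      · exact hzf φ hφ
    have hRc : zpowers a ⊔ Z0 ≤ centralizer ((zpowers a ⊔ Z0 : Subgroup W) : Set W) := by
      refine le_centralizer_iff.1 (sup_le (zpowers_le.2 ?_) (zpowers_le.2 fun g _ => (hzc g).symm))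
      exact le_centralizer_iff.1 (sup_le (zpowers_le.2 fun g hg => by
        obtain ⟨i, rfl⟩ := hg; exact ((Commute.refl a).zpow_left i).eq)
        (zpowers_le.2 fun g _ => (hzc g).symm)) (mem_zpowers a)
    have habs : ∀ R : Subgroup W, R = zpowers a ⊔ Z0 → Cx e ≤ R → False := fun R hR hle =>
      hQna _ ⟨e, he, he1, rfl, h8⟩ ((hle.trans (hR.le.trans hRc)).trans (centralizer_le (hR ▸ hle)))
    rcases cases4 hW (hzin e he) hz h8 (hodd φ hφ) (hinvC e he φ hφ) (hzf φ hφ) ha haz hφa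
      (mul_mem ha ha) with h | h | h | h
    · exact h
    · rw [inv_mul_cancel_left] at h; exact absurd h haz
    · exfalso
      set R := zpowers a ⊔ Z0 with hR
      have ha' : a ∈ R := (le_sup_left : zpowers a ≤ R) (mem_zpowers a)
      have h1 : φ a ∈ R := by
        have := mul_mem (mul_mem ha' ha') (inv_mem ((le_sup_right : Z0 ≤ R) h))
        simpa [mul_assoc] using this
      have h2 : φ (φ a) ∈ R := by
        have e1 : φ (φ a) = φ a * φ a * (φ ((φ a)⁻¹ * (a * a)))⁻¹ := by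
          simp [mul_assoc]
        rw [e1, hzint _ h]
        exact mul_mem (mul_mem h1 h1) (inv_mem ((le_sup_right : Z0 ≤ R) h))
      exact habs R rfl (le_of_invariant hW (hzin e he) hz h8 (hodd φ hφ) (hinvC e he φ hφ) (hzf φ hφ) ha haz
        hφa ((le_sup_right : Z0 ≤ R) hzmem) ha' h1 h2)
    · exfalso
      set R := zpowers a ⊔ Z0 with hR
      have ha' : a ∈ R := (le_sup_left : zpowers a ≤ R) (mem_zpowers a)
      have h2 : φ (φ a) ∈ R := by
        have := mul_mem (mul_mem ha' ha') (inv_mem ((le_sup_right : Z0 ≤ R) h))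
        simpa [mul_assoc] using this
      have h1 : φ a ∈ R := by
        -- apply `φ²` once more: `φ⁴ a = φ a`
        have h3a : φ (φ (φ a)) = a := DFunLike.congr_fun (hcube φ hφ) a
        have e1 : φ a = φ (φ a) * φ (φ a) * (φ (φ ((φ (φ a))⁻¹ * (a * a))))⁻¹ := by
          simp [mul_assoc, h3a]
        rw [e1, hzint _ h, hzint _ h]
        exact mul_mem (mul_mem h2 h2) (inv_mem ((le_sup_right : Z0 ≤ R) h))
      exact habs R rfl (le_of_invariant hW (hzin e he) hz h8 (hodd φ hφ) (hinvC e he φ hφ) (hzf φ hφ) ha haz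
        hφa ((le_sup_right : Z0 ≤ R) hzmem) ha' h1 h2)
  have hinQ : ∀ e ∈ E, e ≠ 1 → Cx e ≤ Z0 ∨ isQ (Cx e) := fun e he he1 =>
    (hcase e he he1).imp id fun h => ⟨e, he, he1, rfl, h.1⟩
  have hqq : ∀ w : W, q w * q w = 1 ∧ ∀ v : W, q w * q v = q v * q w := by
    have hcom : ∀ Q, isQ Q → ∀ a ∈ Q, ∀ b : W, q a * q b = q b * q a := by
      intro Q hQ a ha b
      refine mem_centralizer_singleton_iff.1 (show q b ∈ centralizer {q a} from
        hgen ⊤ (fun _ _ _ _ => mem_top _) ((centralizer {q a}).comap q) (fun e he he1 => ?_) (mem_top b))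
        |>.symm
      rintro c ⟨-, hc⟩
      refine mem_centralizer_singleton_iff.2 ?_
      by_cases hcz : c ∈ Z0
      · rw [show q c = 1 from (QuotientGroup.eq_one_iff c).2 hcz, one_mul, mul_one]
      have hQe := (hinQ e he he1).resolve_left fun h => hcz (h hc)
      by_cases heq : Cx e = Q
      · have hz1 : ∀ w ∈ Q, q w * q w = 1 := fun w hw => by
          rw [← map_mul]; exact (QuotientGroup.eq_one_iff _).2 (hsq Q hQ w hw)
        have hcQ : c ∈ Q := heq ▸ hc
        have h3 := hz1 _ (mul_mem hcQ ha)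
        rw [map_mul] at h3
        calc q c * q a = (q c * q a)⁻¹ := eq_inv_of_mul_eq_one_left h3
          _ = q a * q c := by
            rw [mul_inv_rev, inv_eq_of_mul_eq_one_right (hz1 a ha), inv_eq_of_mul_eq_one_right (hz1 c hcQ)]
      · rw [← map_mul, ← map_mul, (hcommW (Cx e) Q hQe hQ heq hc a ha)]
    have hall : ∀ w v : W, q w * q v = q v * q w := by
      intro w v
      refine mem_centralizer_singleton_iff.1 (show q w ∈ centralizer {q v} from
        hgen ⊤ (fun _ _ _ _ => mem_top _) ((centralizer {q v}).comap q) (fun e he he1 => ?_) (mem_top w))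
      rintro c ⟨-, hc⟩
      refine mem_centralizer_singleton_iff.2 ?_
      by_cases hcz : c ∈ Z0
      · rw [show q c = 1 from (QuotientGroup.eq_one_iff c).2 hcz, one_mul, mul_one]
      exact hcom _ ((hinQ e he he1).resolve_left fun h => hcz (h hc)) c hc v
    let D : Subgroup W :=
      { carrier := {w | q w * q w = 1}
        one_mem' := by simp
        mul_mem' := fun {a b} (ha : q a * q a = 1) (hb : q b * q b = 1) => by
          show q (a * b) * q (a * b) = 1
          rw [map_mul, mul_assoc, ← mul_assoc (q b), hall b a, mul_assoc, hb, mul_one, ha]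
        inv_mem' := fun {a} (ha : q a * q a = 1) => by
          show q a⁻¹ * q a⁻¹ = 1
          rw [map_inv, ← mul_inv_rev, ha, inv_one] }
    refine fun w => ⟨hgen ⊤ (fun _ _ _ _ => mem_top _) D (fun e he he1 => ?_) (mem_top w), hall w⟩
    rintro c ⟨-, hc⟩
    show q c * q c = 1
    by_cases hcz : c ∈ Z0
    · rw [show q c = 1 from (QuotientGroup.eq_one_iff c).2 hcz, one_mul]
    rw [← map_mul]
    exact (QuotientGroup.eq_one_iff _).2 (hsq _ ((hinQ e he he1).resolve_left fun h => hcz (h hc)) c hc)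
  have hcle : commutator W ≤ Z0 := by
    rw [_root_.commutator_def, commutator_le]
    intro a _ b _
    refine (QuotientGroup.eq_one_iff _).1 ?_
    show q ⁅a, b⁆ = 1
    rw [map_commutatorElement, commutatorElement_eq_one_iff_mul_comm]
    exact (hqq a).2 b
  have hzcomm : Z0 ≤ commutator W := by
    refine zpowers_le.2 ?_
    by_contra hzn
    refine hQna _ hQ0 fun a ha b hb => ?_
    have h := commutator_mem_commutator (mem_top b) (mem_top a)
    rcases hZcases _ (hcle h) with h' | h'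
    · exact commutatorElement_eq_one_iff_mul_comm.1 h'
    · exact absurd (h' ▸ h) hzn
  have hcommeq := le_antisymm hcle hzcomm
  have hfr : frattini W = Z0 := le_antisymm
    (CfsgLib.PGroup.frattini_le_of (p := 2) Z0 hcle fun x => (QuotientGroup.eq_one_iff _).1
      (show q (x ^ 2) = 1 by rw [map_pow, pow_two]; exact (hqq x).1))
    (hzcomm.trans (CfsgLib.PGroup.commutator_le_frattini hW))
  have hspec : Cfsg.IsExtraspecial 2 W := ⟨⟨hW, by rw [hfr, hcenter], by rw [hcommeq, hcenter]⟩,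
    by rw [hcenter, hZ0, Nat.card_zpowers, hz]⟩
  -- the order of W
  have : Finite {Q // isQ Q} := inferInstance
  cases nonempty_fintype {Q // isQ Q}
  have hsize : ∀ S : Finset {Q // isQ Q},
      Nat.card (Z0 ⊔ ⨆ Q ∈ S, (Q : Subgroup W) : Subgroup W) = 2 * 4 ^ S.card := by
    intro S
    induction S using Finset.induction_on with
    | empty =>
      have hb : (Z0 ⊔ ⨆ Q ∈ (∅ : Finset {Q // isQ Q}), (Q : Subgroup W) : Subgroup W) = Z0 := by simp
      rw [hb, hZ0, Nat.card_zpowers, hz]; simp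
    | @insert a S ha ih =>
      set R := Z0 ⊔ ⨆ Q ∈ S, (Q : Subgroup W) with hRdef
      have hsplit : (Z0 ⊔ ⨆ Q ∈ insert a S, (Q : Subgroup W) : Subgroup W) = (a : Subgroup W) ⊔ R := by
        rw [Finset.iSup_insert, sup_left_comm]
      have hRc : R ≤ centralizer ((a : Subgroup W) : Set W) := by
        refine sup_le (zpowers_le.2 fun g _ => (hzc g).symm) (iSup₂_le fun Q hQS => ?_)
        exact hcommW _ _ Q.2 a.2 fun h => ha (Subtype.ext h ▸ hQS)
      have hinf : (a : Subgroup W) ⊓ R = Z0 := by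
        refine le_antisymm ?_ (le_inf (zpowers_le.2 (hQz _ a.2)) le_sup_left)
        rintro y ⟨hy, hyR⟩
        by_contra hyz
        refine hQna _ a.2 ((hQstep _ a.2 y hy hyz (centralizer ((a : Subgroup W) : Set W))
          (fun g _ => (hzc g).symm) fun f hf g hg => ?_))
        have h := congrArg f (hRc hyR (f⁻¹ g) (hQinv _ a.2 f⁻¹ (inv_mem hf) g hg))
        rwa [map_mul, map_mul, MulAut.apply_inv_self] at h
      have hn : (a : Subgroup W) ≤ normalizer (R : Set W) :=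
        (le_centralizer_iff.1 hRc).trans fun g hg => mem_normalizer_iff.2 fun x => by
          constructor
          · intro hx; rw [← hg x hx, mul_inv_cancel_right]; exact hx
          · intro hx
            have h := hg _ hx
            have : g * x * g⁻¹ = x := by
              have h1 : g * x * g⁻¹ * g = g * (g * x * g⁻¹) := h
              rw [inv_mul_cancel_right] at h1
              exact (mul_left_cancel h1).symm
            rwa [this] at hx
      obtain ⟨e, he, he1, -, h8⟩ := a.2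
      have h := CfsgLib.Coprime.card_sup_mul_card_inf hn
      rw [inf_comm, hinf, h8, ih, hZ0, Nat.card_zpowers, hz] at h
      rw [hsplit, Finset.card_insert_of_notMem ha, pow_succ]
      omega
  have htop : (Z0 ⊔ ⨆ Q ∈ (Finset.univ : Finset {Q // isQ Q}), (Q : Subgroup W) : Subgroup W) = ⊤ := by
    refine top_le_iff.1 (hgen ⊤ (fun _ _ _ _ => mem_top _) _ fun e he he1 => ?_)
    rcases hinQ e he he1 with h | h
    · exact inf_le_right.trans (h.trans le_sup_left)
    · exact inf_le_right.trans (le_sup_of_le_right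
        (le_iSup₂_of_le (⟨Cx e, h⟩ : {Q // isQ Q}) (Finset.mem_univ _) le_rfl))
  have hW' : Nat.card W = 2 * 4 ^ Fintype.card {Q // isQ Q} := by
    rw [← Subgroup.card_top (G := W), ← htop, hsize, Finset.card_univ]
  have hm2 : 2 ≤ Fintype.card {Q // isQ Q} := by
    refine le_trans ?_ (Finset.card_le_univ ({⟨_, hQ0⟩, ⟨_, hQ1⟩} : Finset {Q // isQ Q}))
    rw [Finset.card_pair (fun h => hQ10 (congrArg Subtype.val h).symm)]
  have hm4 : Fintype.card {Q // isQ Q} ≤ 4 := by
    have hch : ∀ Q : {Q // isQ Q}, ∃ e : {g : ↥E // g ≠ 1}, Cx ((e.1 : ↥E) : MulAut W) = Q.1 ∧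
        Cx (((e.1 * e.1 : ↥E)) : MulAut W) = Q.1 ∧ (e.1 * e.1 : ↥E) ≠ 1 ∧ e.1 * e.1 ≠ e.1 := by
      rintro ⟨Q, e, he, he1, rfl, h8⟩
      have he3 : e * e * e = 1 := by have := hcube e he; rwa [pow_succ, pow_two] at this
      refine ⟨⟨⟨e, he⟩, fun h => he1 (congrArg Subtype.val h)⟩, rfl, ?_, ?_, ?_⟩
      · show Cx (e * e) = Cx e
        refine le_antisymm (fun x hx => ?_) fun x hx => ?_
        · exact fix_of_pow_two (hodd e he) hx
        · show e (e x) = x
          rw [mem_Cx.1 hx, mem_Cx.1 hx]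
      · intro h
        have h' : e * e = 1 := congrArg Subtype.val h
        rw [h', one_mul] at he3; exact he1 he3
      · intro h; exact he1 (mul_eq_left.1 (congrArg Subtype.val h : e * e = e))
    choose g hg1 hg2 hg3 hg4 using hch
    let F : {Q // isQ Q} × Bool → {g : ↥E // g ≠ 1} := fun v =>
      if v.2 then g v.1 else ⟨(g v.1).1 * (g v.1).1, hg3 v.1⟩
    have hFQ : ∀ v, Cx (((F v).1 : ↥E) : MulAut W) = v.1.1 := by
      rintro ⟨Q, _ | _⟩
      · exact hg2 Q
      · exact hg1 Q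
    have hFi : Function.Injective F := by
      rintro ⟨Q, a⟩ ⟨Q', b⟩ h
      have hQQ : Q = Q' := Subtype.ext (((hFQ (Q, a)).symm.trans (by rw [h])).trans (hFQ (Q', b)))
      subst hQQ
      rcases a <;> rcases b <;> simp [F] at h ⊢
      · exact hg4 Q (congrArg Subtype.val h)
      · exact hg4 Q (congrArg Subtype.val h).symm
    have h := Nat.card_le_card_of_injective F hFi
    have hE8 : Nat.card {g : ↥E // g ≠ 1} = 8 := by
      cases nonempty_fintype ↥E
      rw [Nat.card_eq_fintype_card, Fintype.card_subtype_compl, Fintype.card_subtype_eq,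
        ← Nat.card_eq_fintype_card, hcard]
    rw [hE8, Nat.card_prod, Nat.card_eq_fintype_card, Nat.card_eq_fintype_card, Fintype.card_bool] at h
    omega
  refine ⟨hcard, hspec, ?_, ?_⟩
  · rw [hW']
    interval_cases Fintype.card {Q // isQ Q} <;> norm_num
  · rw [hcenter]
    ext x
    constructor
    · intro hx
      by_contra hxz
      exact hmove0 (fix_all hW hzC hz h80 (hodd f0 hf0) (hinvC e0 he0 f0 hf0) (hzf f0 hf0)
        (hx e0 he0) hxz (hx f0 hf0) x0 hx0)
    · intro hx e he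
      rcases hZcases x hx with rfl | rfl
      · exact map_one e
      · exact hzf e he

end Cfsg.Agent.S2934
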