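import Cfsg.Statements.S2939
import Cfsg.Agent.Lib.LocalEven.SylowControl

set_option autoImplicit false
open Cfsg CfsgLib.SylowControl

namespace Cfsg.Agent.S2939

/-- Let p be a prime dividing the order of the finite group G and 𝓕 a family of subgroups of G closed under conjugation, with conjugates taken as X^g = g⁻¹Xg. Then 𝓕 controls Sylow p-intersections in G (any two distinct Sylow p-subgroups S and T with S ∩ T ≠ 1 are joined by a chain S = S₀, S₁, …, Sₙ = T of Sylow p-subgroups where, for each i, some member Xᵢ of 𝓕 meets both S_{i-1} and Sᵢ in Sylow p-subgroups of Xᵢ, satisfies S ∩ T ≤ Sᵢ ∩ Xᵢ, and contains an element xᵢ with Sᵢ^{xᵢ} = S_{i-1}) if and only if 𝓕 strongly controls p-fusion in G (whenever A is a subset of a Sylow p-subgroup S, A contains an element other than 1, and A^g ⊆ S, the element g factorises as g = y₁⋯yₙy with y ∈ N_G(S) and each yᵢ in a member Yᵢ of 𝓕 that meets S in a Sylow p-subgroup of Yᵢ, with A^{y₁⋯yᵢ} ⊆ S ∩ Yᵢ for each i). -/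
theorem result {G : Type*} [Group G] [Finite G] {p : ℕ} [Fact p.Prime] (hdiv : p ∣ Nat.card G) (𝓕 : Set (Subgroup G)) (h𝓕 : Cfsg.IsNormalSet 𝓕) : Cfsg.ControlsSylowIntersections p 𝓕 ↔ Cfsg.FamilyStronglyControlsFusion p 𝓕 := by
  constructor
  · intro hc S A g hA hA1 hgA
    obtain ⟨a, haA, ha1⟩ := hA1
    set T := conjSylow g⁻¹ S with hT
    have hmem : ∀ b ∈ A, b ∈ (T : Subgroup G) := by
      intro b hb
      rw [hT, coe_conjSylow, mem_conjRight, inv_inv]
      exact hgA ⟨b, hb, rfl⟩
    by_cases hST : S = T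
    · refine ⟨0, Fin.elim0, Fin.elim0, g, ?_, fun i => i.elim0, by simp, fun i => i.elim0⟩
      have h : g⁻¹ ∈ Subgroup.normalizer ((S : Subgroup G) : Set G) :=
        mem_normalizer_iff_conjRight.2 (congrArg (fun s : Sylow p G => (s : Subgroup G)) hST).symm
      simpa using inv_mem h
    have hne : (S : Subgroup G) ⊓ (T : Subgroup G) ≠ ⊥ := fun h =>
      ha1 ((Subgroup.eq_bot_iff_forall _).1 h a ⟨hA haA, hmem a haA⟩)
    obtain ⟨n, c, X, x, h0, hn, hi⟩ := hc S T hST hne
    let xx : ℕ → G := fun j => if h : j < n then x ⟨j, h⟩ else 1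
    let w : ℕ → G := fun j => Nat.rec 1 (fun k acc => xx k * acc) j
    have hw0 : w 0 = 1 := rfl
    have hws : ∀ i : Fin n, w (i.val + 1) = x i * w i.val := fun i => by
      change xx i.val * w i.val = _
      simp [xx, i.isLt]
    let y : Fin n → G := fun i => (w i.val)⁻¹ * x i * w i.val
    have hprod : ∀ j ≤ n, ((List.ofFn y).take j).prod = w j := by
      intro j
      induction j with
      | zero => intro _; simp [hw0]
      | succ j ih =>
        intro hj
        rw [List.prod_take_succ _ _ (by simpa using hj), List.getElem_ofFn, ih (by omega),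
          hws ⟨j, by omega⟩]
        simp only [y]
        group
    have hcw : ∀ i : Fin (n + 1), Cfsg.subgroupConjRight (w i.val) (c i : Subgroup G) =
        (S : Subgroup G) := by
      intro i
      induction i using Fin.induction with
      | zero => simp [hw0, h0, conjRight_one]
      | succ i ih =>
        rw [Fin.val_succ, hws, conjRight_mul, (hi i).2.2.2.1]
        exact ih
    have hall : (List.ofFn y).prod = w n := by
      rw [← hprod n le_rfl, List.take_of_length_le (by simp)]
    refine ⟨n, fun i => Cfsg.subgroupConjRight (w i.val) (X i), y, (w n)⁻¹ * g, ?_, ?_, ?_, ?_⟩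
    · have h := hcw (Fin.last n)
      rw [hn, Fin.val_last, hT, coe_conjSylow, ← conjRight_mul] at h
      have h2 := inv_mem (mem_normalizer_iff_conjRight.2 h)
      simpa using h2
    · intro i
      refine ⟨?_, ?_⟩
      · have h := sylowMembers_conjRight h𝓕 (w i.val) (c i.castSucc) (hi i).1
        rwa [show Cfsg.subgroupConjRight (w i.val) (c i.castSucc : Subgroup G) = (S : Subgroup G)
          from hcw i.castSucc] at h
      · rw [mem_conjRight]
        simpa [y, mul_assoc] using (hi i).2.2.1
    · rw [hall]; group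
    · intro i
      rw [hprod _ i.isLt]
      rintro _ ⟨b, hb, rfl⟩
      obtain ⟨h5, h6⟩ := (hi i).2.2.2.2 ⟨hA hb, hmem b hb⟩
      refine ⟨?_, ?_⟩
      · change (w (i.val + 1))⁻¹ * b * w (i.val + 1) ∈ (S : Subgroup G)
        rw [← hcw i.succ, Fin.val_succ, mem_conjRight,
          show w (i.val + 1) * ((w (i.val + 1))⁻¹ * b * w (i.val + 1)) * (w (i.val + 1))⁻¹ = b by group]
        exact h5
      · rw [SetLike.mem_coe, mem_conjRight, hws]
        have h7 := (X i).mul_mem ((X i).mul_mem ((X i).inv_mem (hi i).2.2.1) h6) (hi i).2.2.1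
        simpa [mul_assoc] using h7
  · intro hc S T hST hne
    obtain ⟨h₀, hh₀⟩ := exists_conjRight_eq T S
    set g := h₀ with hg
    obtain ⟨z, hz⟩ := Subgroup.ne_bot_iff_exists_ne_one.1 hne
    set a : G := (z : G)
    have ha : a ∈ (((S : Subgroup G) ⊓ (T : Subgroup G) : Subgroup G) : Set G) := z.2
    have ha1 : a ≠ 1 := fun h => hz (Subtype.ext h)
    obtain ⟨n, Y, y, y₀, hy₀, hY, hgy, hA⟩ := hc S
      (((S : Subgroup G) ⊓ (T : Subgroup G) : Subgroup G) : Set G) g
      (fun b hb => hb.1) ⟨a, ha, ha1⟩ (by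
        rintro _ ⟨b, hb, rfl⟩
        change g⁻¹ * b * g ∈ (S : Subgroup G)
        rw [← hh₀, mem_conjRight, show g * (g⁻¹ * b * g) * g⁻¹ = b by group]
        exact hb.2)
    let w : ℕ → G := fun j => ((List.ofFn y).take j).prod
    have hws : ∀ i : Fin n, w (i.val + 1) = w i.val * y i := by
      intro i
      simp only [w]
      rw [List.prod_take_succ _ _ (by simp), List.getElem_ofFn]
    have hwn : w n = (List.ofFn y).prod := by
      simp only [w]; rw [List.take_of_length_le (by simp)]
    have hT : (T : Subgroup G) = Cfsg.subgroupConjRight (w n)⁻¹ (S : Subgroup G) := by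
      have h : Cfsg.subgroupConjRight g (T : Subgroup G) = (S : Subgroup G) := hh₀
      have h2 : Cfsg.subgroupConjRight g⁻¹ (S : Subgroup G) = (T : Subgroup G) := by
        rw [← h, conjRight_inv_conjRight]
      rw [← h2, hgy, mul_inv_rev, hwn, conjRight_mul,
        mem_normalizer_iff_conjRight.1 (inv_mem hy₀)]
    refine ⟨n, fun i => conjSylow (w i.val)⁻¹ S,
      fun i => Cfsg.subgroupConjRight (w i.val)⁻¹ (Y i),
      fun i => w i.val * y i * (w i.val)⁻¹, ?_, ?_, ?_⟩
    · exact Sylow.ext (by simp [w, conjRight_one])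
    · exact Sylow.ext (by rw [coe_conjSylow, Fin.val_last, hT])
    · intro i
      have hYs : Cfsg.subgroupConjRight (w (i.val + 1))⁻¹ (Y i) =
          Cfsg.subgroupConjRight (w i.val)⁻¹ (Y i) := by
        rw [hws, mul_inv_rev, conjRight_mul, conjRight_eq_self_of_mem ((Y i).inv_mem (hY i).2)]
      refine ⟨?_, ?_, ?_, ?_, ?_⟩
      · exact sylowMembers_conjRight h𝓕 _ S (hY i).1
      · simp only [Fin.val_succ, coe_conjSylow]
        rw [← hYs]
        exact sylowMembers_conjRight h𝓕 _ S (hY i).1
      · rw [mem_conjRight]; simpa [mul_assoc] using (hY i).2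
      · simp only [Fin.val_succ, coe_conjSylow, Fin.val_castSucc]
        rw [← conjRight_mul, hws]
        congr 1
        group
      · simp only [Fin.val_succ, coe_conjSylow]
        rw [← hYs, ← conjRight_inf]
        intro b hb
        rw [mem_conjRight, inv_inv]
        exact hA i ⟨b, hb, rfl⟩

end Cfsg.Agent.S2939
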