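import Cfsg.Statements.S2940
import Cfsg.Agent.Lib.LocalEven.SylowControl

set_option autoImplicit false
open Cfsg CfsgLib.SylowControl

namespace Cfsg.Agent.S2940

/-- Let S be a Sylow p-subgroup of the finite group G and G₁, G₂ subgroups containing S with G = G₁G₂. Then for every g ∈ G there is a Sylow p-subgroup U of G with S ∩ S^g ≤ U ≤ G₁ ∩ G₂^g (conjugates taken as X^g = g⁻¹Xg). -/
theorem result {G : Type*} [Group G] [Finite G] {p : ℕ} [Fact p.Prime] (S : Sylow p G) (G₁ G₂ : Subgroup G) (h1 : (S : Subgroup G) ≤ G₁) (h2 : (S : Subgroup G) ≤ G₂) (hfact : ∀ g : G, ∃ g₁ ∈ G₁, ∃ g₂ ∈ G₂, g = g₁ * g₂) (g : G) : ∃ U : Sylow p G, (S : Subgroup G) ⊓ Cfsg.subgroupConjRight g (S : Subgroup G) ≤ (U : Subgroup G) ∧ (U : Subgroup G) ≤ G₁ ⊓ Cfsg.subgroupConjRight g G₂ := by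
  set W := (S : Subgroup G) ⊓ Cfsg.subgroupConjRight g (S : Subgroup G) with hW
  set I := G₁ ⊓ Cfsg.subgroupConjRight g G₂ with hI
  obtain ⟨g₁, hg₁, g₂, hg₂, hg⟩ := hfact g⁻¹
  -- `g = g₂⁻¹ * g₁⁻¹`
  have hS' : Cfsg.subgroupConjRight g₁⁻¹ (S : Subgroup G) ≤ I := by
    refine le_inf ?_ ?_
    · exact (conjRight_mono h1).trans (conjRight_eq_self_of_mem (G₁.inv_mem hg₁)).le
    · have : g = g₂⁻¹ * g₁⁻¹ := by rw [← mul_inv_rev, ← hg, inv_inv]
      rw [this, conjRight_mul, conjRight_eq_self_of_mem (G₂.inv_mem hg₂)]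
      exact conjRight_mono h2
  have hWI : W ≤ I := inf_le_inf h1 (conjRight_mono h2)
  set P := conjSylow g₁⁻¹ S
  obtain ⟨Q, hQ⟩ := (S.isPGroup'.to_le (inf_le_left (b := Cfsg.subgroupConjRight g (S : Subgroup G)))
    |>.comap_of_injective I.subtype I.subtype_injective).exists_le_sylow
  obtain ⟨i, hi⟩ := MulAction.exists_smul_eq I (P.subtype hS') Q
  refine ⟨(i : G) • P, ?_, ?_⟩
  · intro w hw
    have hwQ : (⟨w, hWI hw⟩ : I) ∈ (Q : Subgroup I) := hQ hw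
    rw [← hi, Sylow.smul_subtype hS'] at hwQ
    exact hwQ
  · intro w hw
    rw [Sylow.coe_subgroup_smul, Subgroup.mem_pointwise_smul_iff_inv_smul_mem] at hw
    have h3 := I.mul_mem (I.mul_mem i.2 (hS' hw)) (I.inv_mem i.2)
    simpa [MulAut.smul_def, mul_assoc] using h3

end Cfsg.Agent.S2940
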