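import Cfsg.Statements.S2941
import Cfsg.Agent.Lib.LocalEven.CharP
import Cfsg.Agent.Lib.Coprime.Commutator

set_option autoImplicit false
open Cfsg
open scoped commutatorElement

namespace Cfsg.Agent.S2941

/-- Let G be a finite group of characteristic 2 type in which every 2-local subgroup is solvable and the centralizer of Ω₁(Z(S)) lies in N_G(S) for every Sylow 2-subgroup S, and let T be a nontrivial 2-subgroup and K a J(T)-component (J the Thompson subgroup generated by the elementary abelian 2-subgroups of largest order). If a subgroup Q is normalized by ⟨K, J(T)⟩ and normalizes J(T), then Q normalizes K. -/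
theorem result {G : Type*} [Group G] [Finite G] (hL : Cfsg.IsCharacteristicTwoType G) (hN : ∀ N : Subgroup G, Cfsg.IsTwoLocal N → Group.IsSolvable ↥N)
    (hZ : ∀ S : Sylow 2 G, Subgroup.centralizer (Cfsg.omegaCenterOf (S : Subgroup G) : Set G) ≤ Subgroup.normalizer ((S : Subgroup G) : Set G)) (T : Subgroup G) (hT : IsPGroup 2 ↥T) (hT1 : T ≠ ⊥) (K : Subgroup G) (hK : Cfsg.IsJComponent T K)
    (Q : Subgroup G) (hQ1 : K ⊔ Cfsg.thompsonSubgroupOf 2 T ≤ Subgroup.normalizer (Q : Set G)) (hQ2 : Q ≤ Subgroup.normalizer (Cfsg.thompsonSubgroupOf 2 T : Set G)) :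
    Q ≤ Subgroup.normalizer (K : Set G) := by
  haveI : Fact (Nat.Prime 2) := ⟨Nat.prime_two⟩
  set J := Cfsg.thompsonSubgroupOf 2 T with hJ
  obtain ⟨hgen, hKJ, -⟩ := hK
  set X := K ⊔ J with hX
  have hJK : J ≤ Subgroup.normalizer (K : Set G) := by
    conv_rhs => rw [← hKJ]
    exact CfsgLib.Coprime.le_normalizer_commutator_right K J
  have hXK : X ≤ Subgroup.normalizer (K : Set G) := sup_le Subgroup.le_normalizer hJK
  have hJp : IsPGroup 2 J := hT.to_le (Subgroup.map_subtype_le _)
  have hconj : ∀ q ∈ Q, X ≤ X.comap (MulAut.conj q).toMonoidHom := by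
    intro q hq
    refine sup_le ?_ fun j hj =>
      (le_sup_right (a := K)) ((Subgroup.mem_normalizer_iff.1 (hQ2 hq) j).1 hj)
    calc K = ⁅K, J⁆ := hKJ.symm
      _ ≤ X.comap (MulAut.conj q).toMonoidHom := by
        rw [Subgroup.commutator_le]
        intro k hk j hj
        have hkX : k ∈ X := le_sup_left (b := J) hk
        set q' := k⁻¹ * q * k with hq'
        have hq'Q : q' ∈ Q := (Subgroup.mem_normalizer_iff''.1 (hQ1 hkX) q).1 hq
        have h1 : k * (q' * j * q'⁻¹) * k⁻¹ ∈ X :=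
          X.mul_mem (X.mul_mem hkX
            (le_sup_right (a := K) ((Subgroup.mem_normalizer_iff.1 (hQ2 hq'Q) j).1 hj)))
            (X.inv_mem hkX)
        have h2 : q * j⁻¹ * q⁻¹ ∈ X := le_sup_right (a := K)
          ((Subgroup.mem_normalizer_iff.1 (hQ2 hq) j⁻¹).1 (J.inv_mem hj))
        have h3 := X.mul_mem h1 h2
        change q * ⁅k, j⁆ * q⁻¹ ∈ X
        convert h3 using 1
        rw [hq', commutatorElement_def]; group
  -- odd elements of `X` lie in `K`
  have hodd : ∀ x ∈ X, Odd (orderOf x) → x ∈ K := by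
    intro x hx hox
    haveI : (K.subgroupOf X).Normal :=
      (Subgroup.normal_subgroupOf_iff_le_normalizer le_sup_left).2 hXK
    have hx' : x ∈ ((J ⊔ K : Subgroup G) : Set G) := by rw [sup_comm]; exact hx
    rw [Subgroup.coe_mul_of_left_le_normalizer_right J K hJK] at hx'
    obtain ⟨j, hj, k, hk, hjk⟩ := hx'
    set π := QuotientGroup.mk' (K.subgroupOf X)
    have hkk : π ⟨k, le_sup_left (b := J) hk⟩ = 1 :=
      (QuotientGroup.eq_one_iff _).2 hk
    have h1 : π ⟨x, hx⟩ ∈ (J.subgroupOf X).map π := by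
      refine ⟨⟨j, le_sup_right (a := K) hj⟩, hj, ?_⟩
      have e : (⟨x, hx⟩ : X) = ⟨j, le_sup_right (a := K) hj⟩ * ⟨k, le_sup_left (b := J) hk⟩ :=
        Subtype.ext hjk.symm
      rw [e, map_mul, hkk, mul_one]
    have h2 : π ⟨x, hx⟩ = 1 := CfsgLib.LocalEvenCharP.eq_one_of_coprime_of_mem
      ((hJp.comap_of_injective X.subtype X.subtype_injective).map π) h1
      (Nat.Coprime.coprime_dvd_left (orderOf_map_dvd π _)
        (by rw [Subgroup.orderOf_mk]; exact hox.coprime_two_right))
    exact Subgroup.mem_subgroupOf.1 ((QuotientGroup.eq_one_iff (⟨x, hx⟩ : X)).1 h2)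
  have hmem : ∀ q ∈ Q, K ≤ K.comap (MulAut.conj q).toMonoidHom := by
    intro q hq
    conv_lhs => rw [← hgen]
    rw [Subgroup.closure_le]
    rintro x ⟨hxK, hxo⟩
    change q * x * q⁻¹ ∈ K
    refine hodd _ (hconj q hq (le_sup_left (b := J) hxK)) ?_
    rwa [show q * x * q⁻¹ = MulAut.conj q x from rfl, MulEquiv.orderOf_eq]
  intro q hq
  rw [Subgroup.mem_normalizer_iff]
  refine fun x => ⟨fun h => hmem q hq h, fun h => ?_⟩
  simpa [mul_assoc] using hmem q⁻¹ (Q.inv_mem hq) h

end Cfsg.Agent.S2941
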