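import Cfsg.Statements.S2944
import Cfsg.Agent.Lib.LocalEven.JComp.Setting

set_option autoImplicit false
open Cfsg

namespace Cfsg.Agent.S2944

/-- Let G be a finite group of characteristic 2 type in which every 2-local subgroup is solvable and the centralizer of Ω₁(Z(S)) lies in N_G(S) for every Sylow 2-subgroup S, and let T be a nontrivial 2-subgroup (below, J is the Thompson subgroup generated by the elementary abelian 2-subgroups of largest order) and K a J(T)-component such that J(T) is the Thompson subgroup of every Sylow 2-subgroup of N_G(W_K) containing J(T), where W_K = [Ω₁(Z(O₂(K))), K]. Then N_G(K) = N_G(W_K), and K is a J(Tᵍ)-component for every conjugate Tᵍ of T with J(Tᵍ) ≤ N_G(W_K). -/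
theorem result {G : Type*} [Group G] [Finite G] (hL : Cfsg.IsCharacteristicTwoType G) (hN : ∀ N : Subgroup G, Cfsg.IsTwoLocal N → Group.IsSolvable ↥N)
    (hZ : ∀ S : Sylow 2 G, Subgroup.centralizer (Cfsg.omegaCenterOf (S : Subgroup G) : Set G) ≤ Subgroup.normalizer ((S : Subgroup G) : Set G)) (T : Subgroup G) (hT : IsPGroup 2 ↥T) (hT1 : T ≠ ⊥) (K : Subgroup G) (hK : K ∈ Cfsg.jComponentsZero T) :
    Subgroup.normalizer (K : Set G) = Subgroup.normalizer (Cfsg.wOf K : Set G) ∧
      ∀ g : G, Cfsg.thompsonSubgroupOf 2 (T.map (MulAut.conj g).toMonoidHom) ≤ Subgroup.normalizer (Cfsg.wOf K : Set G) →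
        Cfsg.IsJComponent (T.map (MulAut.conj g).toMonoidHom) K := by
  haveI : Fact (Nat.Prime 2) := ⟨Nat.prime_two⟩
  obtain ⟨hKc, hzero⟩ := hK
  set J := Cfsg.thompsonSubgroupOf 2 T with hJ
  set N := Subgroup.normalizer (Cfsg.wOf K : Set G) with hNdef
  have hNloc := CfsgLib.JComp.isTwoLocal_normalizer_wOf hKc
  have hKN : K ≤ N := CfsgLib.JComp.component_le_normalizer_wOf K
  have hJK : J ≤ Subgroup.normalizer (K : Set G) := by
    conv_rhs => rw [← hKc.2.1]
    exact CfsgLib.Coprime.le_normalizer_commutator_right K J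
  have hJN : J ≤ N := hJK.trans (CfsgLib.JComp.normalizer_le_normalizer_wOf K)
  obtain ⟨T₀, hT₀, hJT₀⟩ := CfsgLib.JComp.exists_sylowIn_ge hJN (hT.to_le (CfsgLib.JComp.jOf_le T))
  have hJ₀ : Cfsg.thompsonSubgroupOf 2 T₀ = J := hzero T₀ hJT₀ hT₀
  have hnot : ¬ N ≤ Subgroup.normalizer (Cfsg.thompsonSubgroupOf 2 T₀ : Set G) := fun hle =>
    CfsgLib.JComp.component_not_le hT hKc (by rw [← hJ, ← hJ₀]; exact hKN.trans hle)
  have h := CfsgLib.JComp.Over.mk' hN hZ (CfsgLib.JComp.mem_jOvergroups hL hNloc hT₀ hnot)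
  obtain ⟨x, hx, hKx⟩ :=
    h.exists_line_of_component (CfsgLib.JComp.isJComponent_congr hJ₀.symm hKc) hKN
  have hW := h.wOf_kOf hx
  rw [← hKx] at hW
  obtain ⟨⟨z, hz⟩, hz1⟩ := Subgroup.ne_bot_iff_exists_ne_one.1
    (show Cfsg.wOf K ≠ ⊥ from fun e => by
      have := hKc.2.2.2.2.1
      rw [e, Subgroup.card_bot] at this
      norm_num at this)
  have hz' : z ≠ 1 := fun e => hz1 (Subtype.ext e)
  have hnorm : N ≤ Subgroup.normalizer (K : Set G) := by
    intro g hg
    rw [hKx]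
    exact h.mem_normalizer_kOf hx hg (h.fixes_of_meet hx hg (hW ▸ hz) hz'
      (hW ▸ (Subgroup.mem_normalizer_iff.1 hg z).1 hz))
  refine ⟨le_antisymm (CfsgLib.JComp.normalizer_le_normalizer_wOf K) hnorm, fun g hgN => ?_⟩
  set T' := T.map (MulAut.conj g).toMonoidHom with hT'
  set P := Cfsg.thompsonSubgroupOf 2 T' with hP
  have hPp : IsPGroup 2 P := (hT.map _).to_le (CfsgLib.JComp.jOf_le T')
  obtain ⟨n, hn, hnP⟩ := CfsgLib.JComp.exists_conj_le hT₀ hgN hPp
  -- the conjugate of `P` is `J(T₀) = J`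
  have hPconj : P.map (MulAut.conj n).toMonoidHom = J := by
    rw [hP, hT', CfsgLib.JComp.jOf_conj, Subgroup.map_map] at hnP ⊢
    set e := (MulAut.conj n).toMonoidHom.comp (MulAut.conj g).toMonoidHom with he
    have he' : e = (MulAut.conj (n * g)).toMonoidHom := by
      ext y; simp [he, mul_assoc]
    rw [he'] at hnP ⊢
    rw [← CfsgLib.JComp.jOf_conj] at hnP ⊢
    have ha : Cfsg.maxElemAbelianOrder T₀ = Cfsg.maxElemAbelianOrder T := by
      rw [← CfsgLib.JComp.maxElemAbelianOrder_jOf T₀, hJ₀, hJ,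
        CfsgLib.JComp.maxElemAbelianOrder_jOf]
    obtain ⟨A, hA⟩ := CfsgLib.PLocal.exists_isMaxElemIn 2 T
    have hA' := (CfsgLib.PLocal.isMaxElemIn_map_iff
      (f := (MulAut.conj (n * g)).toMonoidHom) (MulAut.conj (n * g)).injective).2 hA
    have ha' : Cfsg.maxElemAbelianOrder (T.map (MulAut.conj (n * g)).toMonoidHom) =
        Cfsg.maxElemAbelianOrder T := by
      rw [CfsgLib.JComp.maxElemAbelianOrder_eq hA, CfsgLib.JComp.maxElemAbelianOrder_eq hA',
        Subgroup.card_map_of_injective (MulAut.conj (n * g)).injective]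
    have h1 := CfsgLib.JComp.jOf_mono hnP
      (by rw [CfsgLib.JComp.maxElemAbelianOrder_jOf, ha, ha'])
    rw [CfsgLib.JComp.jOf_jOf, hJ₀] at h1
    refine Subgroup.eq_of_le_of_card_ge h1 ?_
    rw [CfsgLib.JComp.jOf_conj, Subgroup.card_map_of_injective (MulAut.conj (n * g)).injective, hJ]
  have hnK : K.map (MulAut.conj n).toMonoidHom = K :=
    Subgroup.mem_normalizer_iff_map_conj_eq.1 (hnorm hn)
  obtain ⟨h1, h2, h3, h4, h5⟩ := hKc
  refine ⟨h1, ?_, h3, fun S hS hPS => ?_, h5⟩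
  · apply Subgroup.map_injective (f := (MulAut.conj n).toMonoidHom) (MulAut.conj n).injective
    rw [Subgroup.map_commutator, hnK, ← hP, hPconj, h2]
  · apply Subgroup.map_injective (f := (MulAut.conj n).toMonoidHom) (MulAut.conj n).injective
    rw [← CfsgLib.JComp.jOf_conj, ← hP, hPconj]
    refine h4 _ ?_ (hPconj.ge.trans (Subgroup.map_mono hPS))
    have e : (K ⊔ P).map (MulAut.conj n).toMonoidHom = K ⊔ J := by
      rw [Subgroup.map_sup, hnK, hPconj]
    refine ⟨(Subgroup.map_mono hS.1).trans e.le, hS.2.1.map _, ?_⟩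
    rw [← e, Subgroup.relIndex_map_map_of_injective _ _ (MulAut.conj n).injective]
    exact hS.2.2

end Cfsg.Agent.S2944
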