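import Cfsg.Statements.S2945
import Cfsg.Agent.S2944
import Cfsg.Agent.Lib.LocalEven.JComp.Split
import Cfsg.Agent.Lib.PCore.Basic

set_option autoImplicit false
open Cfsg

namespace Cfsg.Agent.S2945
open CfsgLib.PLocal CfsgLib.JComp
open scoped commutatorElement

section
variable {G : Type*} [Group G]

/-- If `j` commutes with its conjugate by `k` modulo `R`, then `[k, j]` lies in `K R`. -/
theorem comm_mem_sup {X K R : Subgroup G} (hKX : K ≤ X) (hsn : (K.subgroupOf X).IsSubnormal)
    (hRX : R ≤ X) (hRn : X ≤ Subgroup.normalizer (R : Set G)) {k j : G} (hk : k ∈ K)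
    (hk3 : k * k * k = 1) (hj : j ∈ X) (hj2 : j * j = 1)
    (hc : j * (k * j * k⁻¹) * (j * (k * j * k⁻¹)) ∈ R) : k * j * k⁻¹ * j ∈ K ⊔ R := by
  have hR0n : (R.subgroupOf X).Normal := (Subgroup.normal_subgroupOf_iff_le_normalizer hRX).2 hRn
  have key : ∀ H : Subgroup X, H.IsSubnormal → (⟨k, hKX hk⟩ : X) ∈ H →
      (⟨k, hKX hk⟩ : X) * ⟨j, hj⟩ * (⟨k, hKX hk⟩ : X)⁻¹ * ⟨j, hj⟩ ∈ H ⊔ R.subgroupOf X := by
    intro H hH hkH
    induction hH with
    | top => exact Subgroup.mem_sup_left (Subgroup.mem_top _)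
    | step H M hle _ hN ih =>
      have hMN : M ⊔ R.subgroupOf X ≤
          Subgroup.normalizer ((H ⊔ R.subgroupOf X : Subgroup X) : Set X) := by
        refine sup_le (fun m hm => ?_) (le_sup_right.trans Subgroup.le_normalizer)
        have e1 : H.map (MulAut.conj m).toMonoidHom = H := Subgroup.mem_normalizer_iff_map_conj_eq.1
          ((Subgroup.normal_subgroupOf_iff_le_normalizer hle).1 hN hm)
        have e2 : (R.subgroupOf X).map (MulAut.conj m).toMonoidHom = R.subgroupOf X :=
          Subgroup.mem_normalizer_iff_map_conj_eq.1 (Subgroup.normalizer_eq_top (H := R.subgroupOf X) ▸ Subgroup.mem_top m)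
        refine Subgroup.mem_normalizer_iff_map_conj_eq.2 ?_
        change (H ⊔ R.subgroupOf X).map (MulAut.conj m).toMonoidHom = H ⊔ R.subgroupOf X
        rw [Subgroup.map_sup, e1, e2]
      set k' : X := ⟨k, hKX hk⟩
      set j' : X := ⟨j, hj⟩
      set S := H ⊔ R.subgroupOf X
      set c : X := j' * (k' * j' * k'⁻¹) * (j' * (k' * j' * k'⁻¹))
      have hj2' : j'⁻¹ = j' := inv_eq_of_mul_eq_one_right (Subtype.ext hj2)
      have hkS : k' ∈ S := Subgroup.mem_sup_left hkH
      have h1 : k' * (k' * j' * k'⁻¹ * j') * k'⁻¹ * (k' * j' * k'⁻¹ * j')⁻¹ ∈ S := by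
        have h := (Subgroup.mem_normalizer_iff.1 (hMN (ih (hle hkH))) k'⁻¹).1 (S.inv_mem hkS)
        have := S.mul_mem hkS h
        convert this using 1
        group
      have hcS : c ∈ S := Subgroup.mem_sup_right hc
      have h2 : k' * k' * j' * k'⁻¹ * k'⁻¹ * j' ∈ S := by
        have e : k' * k' * j' * k'⁻¹ * k'⁻¹ * j' =
            k' * (k' * j' * k'⁻¹ * j') * k'⁻¹ * (k' * j' * k'⁻¹ * j')⁻¹ * c⁻¹ := by
          have hjj : ∀ x : X, j' * (j' * x) = x := fun x => by
            rw [← mul_assoc, show j' * j' = 1 from Subtype.ext hj2, one_mul]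
          simp only [c, mul_inv_rev, inv_inv, hj2', hjj, mul_assoc, inv_mul_cancel_left,
            mul_inv_cancel_left]
        rw [e]; exact S.mul_mem h1 (S.inv_mem hcS)
      have e : k' * j' * k'⁻¹ * j' =
          k'⁻¹ * (k' * k' * j' * k'⁻¹ * k'⁻¹ * j') * k' * (k' * k' * j' * k'⁻¹ * k'⁻¹ * j') := by
        have h3 : k' * k' * k' = 1 := Subtype.ext hk3
        have h6 : k'⁻¹ * k'⁻¹ * k'⁻¹ = 1 := by
          rw [← mul_inv_rev, ← mul_inv_rev, ← mul_assoc, h3, inv_one]
        have hjj : j' * j' = 1 := Subtype.ext hj2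
        symm
        calc _ = k' * j' * k'⁻¹ * k'⁻¹ * j' * (k' * k' * k') * j' * k'⁻¹ * k'⁻¹ * j' := by group
          _ = k' * j' * k'⁻¹ * k'⁻¹ * (j' * j') * k'⁻¹ * k'⁻¹ * j' := by rw [h3]; group
          _ = k' * j' * (k'⁻¹ * k'⁻¹ * k'⁻¹) * k'⁻¹ * j' := by rw [hjj]; group
          _ = _ := by rw [h6, mul_one]
      rw [e]
      exact S.mul_mem (S.mul_mem (S.mul_mem (S.inv_mem hkS) h2) hkS) h2
  have h := Subgroup.mem_map_of_mem X.subtype (key _ hsn hk)
  rw [Subgroup.map_sup, Subgroup.subgroupOf_map_subtype, Subgroup.subgroupOf_map_subtype] at h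
  exact (sup_le_sup inf_le_left inf_le_left : (K ⊓ X) ⊔ (R ⊓ X) ≤ K ⊔ R) h

end


/-- Let G be a finite group of characteristic 2 type in which every 2-local subgroup is solvable and the centralizer of Ω₁(Z(S)) lies in N_G(S) for every Sylow 2-subgroup S, and let T be a nontrivial 2-subgroup (below, J is the Thompson subgroup generated by the elementary abelian 2-subgroups of largest order), L a subgroup in which T is a Sylow 2-subgroup with J(T) not contained in O₂(L) and C_G(O₂(L)) ≤ O₂(L), and K ≤ L a subgroup that is subnormal in ⟨K, J(T)⟩. If for some conjugate Tᵍ of T, K is a J(Tᵍ)-component with J(Tᵍ) the Thompson subgroup of every Sylow 2-subgroup of N_G(W_K) containing J(Tᵍ) (W_K = [Ω₁(Z(O₂(K))), K]), then K is a J(T)-component. -/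
theorem result {G : Type*} [Group G] [Finite G] (hL : Cfsg.IsCharacteristicTwoType G) (hN : ∀ N : Subgroup G, Cfsg.IsTwoLocal N → Group.IsSolvable ↥N)
    (hZ : ∀ S : Sylow 2 G, Subgroup.centralizer (Cfsg.omegaCenterOf (S : Subgroup G) : Set G) ≤ Subgroup.normalizer ((S : Subgroup G) : Set G)) (T : Subgroup G) (hT : IsPGroup 2 ↥T) (hT1 : T ≠ ⊥) (L : Subgroup G) (hLT : L ∈ Cfsg.jOvergroups T)
    (K : Subgroup G) (hKL : K ≤ L) (hKsn : (K.subgroupOf (K ⊔ Cfsg.thompsonSubgroupOf 2 T)).IsSubnormal)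
    (g : G) (hKg : K ∈ Cfsg.jComponentsZero (T.map (MulAut.conj g).toMonoidHom)) : Cfsg.IsJComponent T K := by
  haveI : Fact (Nat.Prime 2) := ⟨Nat.prime_two⟩
  obtain ⟨hKc, hzero⟩ := id hKg
  set T' := T.map (MulAut.conj g).toMonoidHom with hT'
  have hT'p : IsPGroup 2 T' := hT.map _
  have hT'1 : T' ≠ ⊥ := fun e => hT1 <| by
    rwa [hT', Subgroup.map_eq_bot_iff_of_injective T (MulAut.conj g).injective] at e
  obtain ⟨hgen, -, hidx, -, hW4, hW2⟩ := id hKc
  obtain ⟨k, hd⟩ := exists_fourData hgen hidx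
  set J := Cfsg.thompsonSubgroupOf 2 T with hJdef
  set W := Cfsg.wOf K with hWdef
  suffices hJW : J ≤ Subgroup.normalizer (W : Set G) by
    have e : T'.map (MulAut.conj g⁻¹).toMonoidHom = T :=
      CfsgLib.LocalEven.map_conj_inv_map_conj T g
    have h := (Cfsg.Agent.S2944.result hL hN hZ T' hT'p hT'1 K hKg).2 g⁻¹ (by rw [e]; exact hJW)
    rwa [e] at h
  set X := K ⊔ J with hXdef
  have h := Over.mk' hN hZ hLT
  have hV := exp2_vOf L
  have hXL : X ≤ L := sup_le hKL h.J_le
  set R := Cfsg.pCoreOf 2 X with hR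
  have hRX : R ≤ X := CfsgLib.LocalEvenCharP.pCoreOf_le 2 X
  have hRp : IsPGroup 2 R := CfsgLib.LocalEvenCharP.isPGroup_pCoreOf 2 X
  have hRn : X ≤ Subgroup.normalizer (R : Set G) := CfsgLib.LocalEvenCharP.le_normalizer_pCoreOf 2 X
  set QK := Cfsg.pCoreOf 2 K with hQK
  have hkX : k ∈ X := Subgroup.mem_sup_left hd.mem
  have hWne : W ≠ ⊥ := fun e => by rw [e, Subgroup.card_bot] at hW4; norm_num at hW4
  have hQKR : QK ≤ R := by
    have hle : QK ≤ K := CfsgLib.LocalEvenCharP.pCoreOf_le 2 K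
    have h1 : (QK.subgroupOf X).IsSubnormal := by
      refine Subgroup.IsSubnormal.trans (K := K.subgroupOf X) (fun x hx => hle hx) ?_ hKsn
      refine Subgroup.Normal.isSubnormal ((Subgroup.normal_subgroupOf_iff_le_normalizer
        (H := QK.subgroupOf X) (K := K.subgroupOf X) fun x hx => hle hx).2 fun x hx => ?_)
      rw [Subgroup.mem_normalizer_iff]
      exact fun y => Subgroup.mem_normalizer_iff.1
        (CfsgLib.LocalEvenCharP.le_normalizer_pCoreOf 2 K hx) (y : G)
    have h2 := CfsgLib.PCore.le_pCore_of_isSubnormal (p := 2) h1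
      ((CfsgLib.LocalEvenCharP.isPGroup_pCoreOf 2 K).comap_of_injective X.subtype
        X.subtype_injective)
    exact fun x hx => ⟨⟨x, Subgroup.mem_sup_left (hle hx)⟩, h2 hx, rfl⟩
  -- a normal 2-subgroup of `X` centralizes `W`
  have hRK : R ≤ Subgroup.normalizer (K : Set G) :=
    le_normalizer_of_isSubnormal le_sup_left hKsn (oddClosure_eq_of_closure hgen) hRX hRn hRp
  have hRW : ∀ r ∈ R, ∀ u ∈ W, r * u = u * r :=
    centralizes_four hW4 hW2 (hd.norm hd.mem) (hRn hkX) hd.fpf hRp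
      (hRK.trans (normalizer_le_normalizer_wOf K))
  have hRW' : R ≤ Subgroup.normalizer (W : Set G) := hRK.trans (normalizer_le_normalizer_wOf K)
  have hcoreR : X ⊓ Cfsg.pCoreOf 2 L ≤ R := by
    refine CfsgLib.LocalEvenCharP.le_pCoreOf inf_le_left (Subgroup.le_normalizer_iff.2
      fun y hy x hx => ⟨X.mul_mem (X.mul_mem hy hx.1) (X.inv_mem hy), ?_⟩)
      (h.isPGroup_core.to_le inf_le_right)
    exact (Subgroup.mem_normalizer_iff.1 (Over.core_normal (L := L) (hXL hy)) x).1 hx.2
  have hVX : vOf L ≤ X := h.vOf_le_J.trans le_sup_right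
  have hVR : vOf L ≤ R := (le_inf hVX h.vOf_le_core).trans hcoreR
  have hWK : W ≤ K :=
    (hd.le_omega.trans (omegaCenterOf_le _)).trans (CfsgLib.LocalEvenCharP.pCoreOf_le 2 K)
  have hWC : W ≤ cOf L := fun u hu => ⟨hKL (hWK hu),
    Subgroup.mem_centralizer_iff.2 fun v hv => hRW v (hVR hv) u hu⟩
  have hWQ : W ≤ Cfsg.pCoreOf 2 L := fun u hu =>
    h.two_mem_core (hWC hu) (m := 1) (by rw [pow_one, pow_two]; exact hW2 u hu)
  have hJC : ∀ x ∈ J, x ∈ cOf L → x ∈ R := fun x hx hc =>
    hcoreR ⟨Subgroup.mem_sup_right hx, h.cOf_inf_T ⟨hc, jOf_le T hx⟩⟩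
  set ψ := act L ⟨k, hKL hd.mem⟩ with hψ
  have hk3 : k * k * k = 1 := by
    have := pow_orderOf_eq_one k
    rwa [hd.ord, pow_succ, pow_two] at this
  have hψ3 : ψ * ψ * ψ = 1 := by
    rw [hψ, ← map_mul, ← map_mul]
    convert map_one (act L) using 2
    exact Subtype.ext hk3
  -- it suffices to treat good transvections
  have hgood : ∀ a, JGood T L a →
      ∃ j : L, (j : G) ∈ J ∧ act L j = a ∧ (j : G) ∈ Subgroup.normalizer (W : Set G) := by
    rintro a ⟨ha, A, hA, j, hjA, rfl⟩
    have hAJ : A ≤ J := hA.le_thompson.trans (jOf_eq T).ge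
    refine ⟨j, hAJ hjA, rfl, ?_⟩
    set a := act L j with hadef
    obtain ⟨-, hat, x, hxf, hxl, hax⟩ := ha
    have hjX : (j : G) ∈ X := Subgroup.mem_sup_right (hAJ hjA)
    have hj2 : (j : G) * j = 1 := elemAb_sq hA.2.1 hjA
    set j' : L := ⟨k, hKL hd.mem⟩ * j * (⟨k, hKL hd.mem⟩ : L)⁻¹ with hj'
    have hj'X : (j' : G) ∈ X := X.mul_mem (X.mul_mem hkX hjX) (X.inv_mem hkX)
    have ha' : act L j' = ψ * a * ψ⁻¹ := by rw [hj', map_mul, map_mul, map_inv]
    have hψH : ψ ∈ Hbar L := ⟨_, rfl⟩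
    by_cases hcomm : a * (ψ * a * ψ⁻¹) = ψ * a * ψ⁻¹ * a
    · -- commuting conjugates: `j` centralizes `W`
      have hc : (j : G) * j' * ((j : G) * j') ∈ R := by
        set c : L := j * j' * (j * j') with hcdef
        have hcC : (c : G) ∈ cOf L := by
          rw [← act_eq_one_iff L c, hcdef, map_mul, map_mul, ha', ← hadef]
          calc a * (ψ * a * ψ⁻¹) * (a * (ψ * a * ψ⁻¹))
              = a * (ψ * a * ψ⁻¹) * (ψ * a * ψ⁻¹ * a) := by rw [← hcomm]
            _ = a * (ψ * (a * a) * ψ⁻¹) * a := by group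
            _ = 1 := by rw [hat.1, mul_one, mul_inv_cancel, mul_one, hat.1]
        refine hcoreR ⟨X.mul_mem (X.mul_mem hjX hj'X) (X.mul_mem hjX hj'X), ?_⟩
        have h1 : ⁅(c : G), (j : G)⁆ ∈ Cfsg.pCoreOf 2 L := h.comm_cOf_T hcC (jOf_le T (hAJ hjA))
        have hjinv : (j : G)⁻¹ = j := inv_eq_of_mul_eq_one_right hj2
        have hj'inv : (j' : G)⁻¹ = j' := by
          rw [hj']; simp [hjinv, mul_assoc]
        have hcj : ⁅(c : G), (j : G)⁆ = (c : G) * c := by
          have e : (j : G) * (c : G)⁻¹ * (j : G) = c := by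
            have hjj : ∀ y : G, (j : G) * ((j : G) * y) = y := fun y => by
              rw [← mul_assoc, hj2, one_mul]
            rw [hcdef]
            simp only [Subgroup.coe_mul, mul_inv_rev, hjinv, hj'inv, mul_assoc, hjj, hj2, mul_one]
          rw [commutatorElement_def, hjinv]
          calc (c : G) * j * (c : G)⁻¹ * j = c * (j * (c : G)⁻¹ * j) := by group
            _ = c * c := by rw [e]
        rw [hcj] at h1
        obtain ⟨m, hm⟩ := h.isPGroup_core ⟨_, h1⟩
        exact h.two_mem_core hcC (m := m + 1) (by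
          rw [pow_succ', pow_mul, pow_two]; exact congrArg Subtype.val hm)
      have he : k * j * k⁻¹ * j ∈ R := by
        have h1 := comm_mem_sup (X := X) (K := K) le_sup_left hKsn hRX hRn hd.mem hk3 hjX hj2 hc
        rw [← SetLike.mem_coe, Subgroup.coe_mul_of_left_le_normalizer_right K R
          (le_sup_left.trans hRn)] at h1
        obtain ⟨y, hy, r, hr, hyr⟩ := h1
        obtain ⟨i, hi, hiq⟩ := hd.split y hy
        have hr' : (k ^ i)⁻¹ * (k * j * k⁻¹ * j) ∈ R := by
          rw [← show y * r = k * j * k⁻¹ * j from hyr, ← mul_assoc]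
          exact R.mul_mem (hQKR hiq) hr
        have hsq : (k * j * k⁻¹ * j) * (k * j * k⁻¹ * j) ∈ R := by
          have h2 := (Subgroup.mem_normalizer_iff.1 (hRn hjX) _).1 hc
          rw [show ((j' : L) : G) = k * j * k⁻¹ from rfl, inv_eq_of_mul_eq_one_right hj2] at h2
          convert h2 using 1
          have hjj : ∀ y : G, (j : G) * ((j : G) * y) = y := fun y => by
            rw [← mul_assoc, hj2, one_mul]
          simp only [mul_assoc, hjj]
        have hi2 : (k ^ i) * (k ^ i) ∈ R := by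
          set e := k * (j : G) * k⁻¹ * j
          have h3 := R.mul_mem ((Subgroup.mem_normalizer_iff.1 (hRn (pow_mem hkX i)) _).1 hr') hr'
          have h4 := R.mul_mem ((Subgroup.mem_normalizer_iff''.1 (hRn (pow_mem hkX i)) _).1
            hr') hr'
          have h5 := R.mul_mem hsq (R.inv_mem h4)
          convert (Subgroup.mem_normalizer_iff.1 (hRn (pow_mem hkX i)) _).1
            ((Subgroup.mem_normalizer_iff.1 (hRn (pow_mem hkX i)) _).1 h5) using 1
          group
        have hi0 : i = 0 := by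
          have h3 : k ^ i * k ^ i = 1 := CfsgLib.LocalEvenCharP.eq_one_of_coprime_of_mem hRp hi2 (by
            rw [← pow_add]
            refine Nat.Coprime.coprime_dvd_left (orderOf_pow_dvd (i + i)) ?_
            rw [hd.ord]; norm_num)
          rw [← pow_add] at h3
          have := orderOf_dvd_of_pow_eq_one h3
          rw [hd.ord] at this
          omega
        simpa [hi0] using hr'
      have hju : ∀ u ∈ W, (j' : G) * u * (j' : G)⁻¹ = j * u * (j : G)⁻¹ := by
        intro u hu
        have he' : (j : G)⁻¹ * (k * j * k⁻¹) ∈ R := by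
          have := (Subgroup.mem_normalizer_iff''.1 (hRn hjX) _).1 he
          rwa [show (j : G)⁻¹ * (k * j * k⁻¹ * j) * j = (j : G)⁻¹ * (k * j * k⁻¹) by
            rw [mul_assoc, mul_assoc _ (j : G) (j : G), hj2, mul_one]] at this
        have h1 := hRW _ he' u hu
        change k * j * k⁻¹ * u * (k * j * k⁻¹)⁻¹ = _
        calc k * j * k⁻¹ * u * (k * j * k⁻¹)⁻¹
            = j * (((j : G)⁻¹ * (k * j * k⁻¹)) * u * ((j : G)⁻¹ * (k * j * k⁻¹))⁻¹) * (j : G)⁻¹ := by
              group
          _ = _ := by rw [h1]; group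
      -- `u ↦ [u, j]` on `W`
      have hA'T : ((A ⊓ cOf L) ⊔ vOf L) ≤ T :=
        sup_le (inf_le_left.trans hA.1) h.vOf_le_T
      have hdec : ∀ u ∈ W, ∃ v : ↥(vOf L), (j : G) * u * (j : G)⁻¹ * u = ((dv a v : ↥(vOf L)) : G) := by
        intro u hu
        have hmax := (h.offender hA).2
        have hcen : ∀ y ∈ (A ⊓ cOf L) ⊔ vOf L, y * u = u * y := by
          intro y hy
          refine hRW y ?_ u hu
          refine (sup_le (le_inf ((inf_le_left.trans hAJ).trans le_sup_right) fun y hy =>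
            h.cOf_inf_T ⟨hy.2, hA.1 hy.1⟩) (le_inf hVX h.vOf_le_core) : _ ≤ X ⊓ Cfsg.pCoreOf 2 L).trans
            hcoreR hy
        have hu' : u ∈ (A ⊓ cOf L) ⊔ vOf L :=
          hmax.mem_of_centralizes (h.core_le (hWQ hu)) (by rw [pow_two]; exact hW2 u hu) hcen
        rw [← SetLike.mem_coe, Subgroup.coe_mul_of_left_le_normalizer_right _ (vOf L)
          ((inf_le_right.trans inf_le_left).trans (le_normalizer_vOf L))] at hu'
        obtain ⟨c, hc, v, hv, rfl⟩ := hu'
        refine ⟨⟨v, hv⟩, ?_⟩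
        rw [dv_apply, Subgroup.coe_mul, hadef, act_apply]
        have hjc : (j : G) * c = c * j := elemAb_commute hA.2.1 hjA hc.1
        have hcv : ∀ y ∈ vOf L, c * y = y * c := fun y hy =>
          (Subgroup.mem_centralizer_iff.1 hc.2.2 y hy).symm
        have hcc : c * c = 1 := elemAb_sq hA.2.1 hc.1
        change (j : G) * (c * v) * (j : G)⁻¹ * (c * v) = j * v * (j : G)⁻¹ * v
        have hjv : (j : G) * v * (j : G)⁻¹ ∈ vOf L :=
          (Subgroup.mem_normalizer_iff.1 (le_normalizer_vOf L j.2) v).1 hv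
        calc (j : G) * (c * v) * (j : G)⁻¹ * (c * v)
            = (j * c) * v * (j : G)⁻¹ * c * v := by group
          _ = c * ((j : G) * v * (j : G)⁻¹) * c * v := by rw [hjc]; group
          _ = ((j : G) * v * (j : G)⁻¹) * (c * c) * v := by rw [hcv _ hjv]; group
          _ = _ := by rw [hcc, mul_one]
      have hmvW : ∀ u ∈ W, ∃ w ∈ mv a, (j : G) * u * (j : G)⁻¹ * u = (w : G) ∧
          ∃ w' ∈ mv a, (j : G) * (k⁻¹ * u * k) * (j : G)⁻¹ * (k⁻¹ * u * k) = (w' : G) ∧ ψ w' = w := by
        intro u hu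
        obtain ⟨v, hv⟩ := hdec u hu
        obtain ⟨v', hv'⟩ := hdec _ ((Subgroup.mem_normalizer_iff''.1 (hd.norm hd.mem) u).1 hu)
        refine ⟨_, dv_mem_mv a v, hv, _, dv_mem_mv a v', hv', Subtype.ext ?_⟩
        rw [hψ, act_apply, ← hv', ← hv]
        change k * (j * (k⁻¹ * u * k) * (j : G)⁻¹ * (k⁻¹ * u * k)) * k⁻¹ = _
        rw [← hju u hu]
        change _ = k * j * k⁻¹ * u * (k * j * k⁻¹)⁻¹ * u
        group
      suffices hall : ∀ u ∈ W, (j : G) * u * (j : G)⁻¹ = u by
        exact CfsgLib.Coprime.mem_normalizer_of_forall_conj fun u hu => by rw [hall u hu]; exact hu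
      by_contra hcon
      push Not at hcon
      obtain ⟨u₀, hu₀, hne⟩ := hcon
      obtain ⟨z, hz⟩ := (Nat.card_eq_two_iff' (1 : mv a)).1 hat.2
      have hzu : ∀ w ∈ mv a, w ≠ 1 → w = (z : ↥(vOf L)) := fun w hw hw1 =>
        congrArg Subtype.val (hz.2 ⟨w, hw⟩ fun e => hw1 (congrArg Subtype.val e))
      have hψz : ∀ w ∈ mv a, ψ w = w := by
        obtain ⟨w, hw, hwe, w', hw', -, hww⟩ := hmvW u₀ hu₀
        have hw1 : w ≠ 1 := fun e => hne (by
          rw [e, Subgroup.coe_one, mul_eq_one_iff_eq_inv] at hwe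
          rw [hwe, inv_eq_of_mul_eq_one_right (hW2 u₀ hu₀)])
        have hw1' : w' ≠ 1 := fun e => hw1 (by rw [← hww, e, map_one])
        rw [hzu w hw hw1, hzu w' hw' hw1'] at hww
        intro y hy
        rcases eq_or_ne y 1 with rfl | hy1
        · exact map_one ψ
        · rw [hzu y hy hy1, hww]
      -- `j` centralizes `u k⁻¹uk` for all `u ∈ W`
      have hfx : ∀ u ∈ W, (j : G) * (u * (k⁻¹ * u * k)) * (j : G)⁻¹ = u * (k⁻¹ * u * k) := by
        intro u hu
        set u' := k⁻¹ * u * k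
        have hu' : u' ∈ W := (Subgroup.mem_normalizer_iff''.1 (hd.norm hd.mem) u).1 hu
        obtain ⟨w, hw, hwe, w', hw', hwe', hww⟩ := hmvW u hu
        rw [hψz w' hw'] at hww
        rw [hww] at hwe'
        have e1 : (j : G) * u * (j : G)⁻¹ = (w : G) * u := by
          rw [← hwe, mul_assoc _ u u, hW2 u hu, mul_one]
        have e2 : (j : G) * u' * (j : G)⁻¹ = (w : G) * u' := by
          rw [← hwe', mul_assoc _ u' u', hW2 u' hu', mul_one]
        calc (j : G) * (u * u') * (j : G)⁻¹ = (j * u * (j : G)⁻¹) * (j * u' * (j : G)⁻¹) := by group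
          _ = (w : G) * (u * (w : G)) * u' := by rw [e1, e2]; group
          _ = (w : G) * ((w : G) * u) * u' := by rw [← hRW _ (hVR w.2) u hu]
          _ = ((w * w : ↥(vOf L)) : G) * (u * u') := by rw [Subgroup.coe_mul]; group
          _ = u * u' := by rw [hV w, Subgroup.coe_one, one_mul]
      have hWe : Cfsg.IsElementaryAbelian 2 W := elemAb_of_le (omegaCenterOf_elemAb _) hd.le_omega
      let f : W → W := fun u => ⟨(u : G) * (k⁻¹ * u * k),
        W.mul_mem u.2 ((Subgroup.mem_normalizer_iff''.1 (hd.norm hd.mem) _).1 u.2)⟩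
      have hf : Function.Injective f := by
        intro u v e
        have e' : (u : G) * (k⁻¹ * u * k) = (v : G) * (k⁻¹ * v * k) := congrArg Subtype.val e
        have hv' : k⁻¹ * (v : G) * k ∈ W :=
          (Subgroup.mem_normalizer_iff''.1 (hd.norm hd.mem) _).1 v.2
        have hp : k⁻¹ * ((u : G) * v) * k = (u : G) * v := by
          calc k⁻¹ * ((u : G) * v) * k = ((u : G) * u) * ((k⁻¹ * u * k) * (k⁻¹ * v * k)) := by
                rw [hW2 _ u.2]; group
            _ = (u : G) * ((u : G) * (k⁻¹ * u * k)) * (k⁻¹ * v * k) := by group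
            _ = (u : G) * v * ((k⁻¹ * v * k) * (k⁻¹ * v * k)) := by rw [e']; group
            _ = (u : G) * v := by rw [hW2 _ hv', mul_one]
        have h1 := hd.fpf _ (W.mul_mem u.2 v.2) (by
          conv_lhs => rw [← hp]
          group)
        refine Subtype.ext ?_
        rw [mul_eq_one_iff_eq_inv] at h1
        rw [h1, inv_eq_of_mul_eq_one_right (hW2 _ v.2)]
      obtain ⟨u, hu⟩ := Finite.injective_iff_surjective.1 hf ⟨u₀, hu₀⟩
      refine hne ?_
      rw [← show (u : G) * (k⁻¹ * u * k) = u₀ from congrArg Subtype.val hu]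
      exact hfx u u.2
    · -- `k` inverts nothing: it acts fixed point freely on the four-group of the line
      have hkx : ψ * x = x * ψ := by
        have hx'f : ψ * x * ψ⁻¹ ∈ fit (Hbar L) := conj_mem_fit hψH hxf
        have hinv' : ψ * a * ψ⁻¹ * (ψ * x * ψ⁻¹) * (ψ * a * ψ⁻¹)⁻¹ = (ψ * x * ψ⁻¹)⁻¹ := by
          calc _ = ψ * (a * x * a⁻¹) * ψ⁻¹ := by group
            _ = _ := by rw [hax]; group
        rcases fixes_line hV (show a ∈ Hbar L from ⟨j, rfl⟩) hat hx'f (hxl.conj ψ) with h1 | h1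
        · exact absurd (transv_comm hV (hat.conj ψ) hat.1 (hxl.conj ψ) hinv'
            (mul_inv_eq_iff_eq_mul.1 h1)).symm hcomm
        have hcx := lines_comm hV hx'f hxf (hxl.conj ψ) hxl
        rcases mem_zpowers_three hxl (line_unique hV hat hxl (hxl.conj ψ) hcx hax h1) with h2 | h2 | h2
        · exact absurd h2 (hxl.conj ψ).ne_one
        · exact mul_inv_eq_iff_eq_mul.1 h2
        · exfalso
          have e1 : ψ * x⁻¹ * ψ⁻¹ = x := by
            rw [show ψ * x⁻¹ * ψ⁻¹ = (ψ * x * ψ⁻¹)⁻¹ by group, h2, inv_inv]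
          have h3 : ψ * ψ * ψ * x * (ψ * ψ * ψ)⁻¹ = x⁻¹ := by
            calc _ = ψ * (ψ * (ψ * x * ψ⁻¹) * ψ⁻¹) * ψ⁻¹ := by group
              _ = ψ * x * ψ⁻¹ := by rw [h2, e1, h2]
              _ = _ := h2
          rw [hψ3, one_mul, inv_one, mul_one] at h3
          exact hxl.ne_one (by
            have := hxl.cube
            nth_rewrite 2 [h3] at this
            rwa [mul_inv_cancel, one_mul] at this)
      set y := ψ * a * ψ⁻¹ * a⁻¹ with hy
      have hyz : y = x ∨ y = x⁻¹ := by
        rcases mem_zpowers_three hxl (conj_good_mem hV hat hxl hax hkx) with h1 | h1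
        · exact absurd (by rw [mul_inv_eq_one.1 h1]) hcomm
        · exact h1
      have hyx : ∀ v, y v = v → x v = v := by
        intro v hv
        rcases hyz with h1 | h1
        · rwa [← h1]
        · rw [h1] at hv
          conv_lhs => rw [← hv]
          exact MulAut.apply_inv_self ..
      obtain ⟨-, -, haU⟩ := inverts_mv hV hat hxl hax
      set U := (mv x).map (vOf L).subtype with hU
      have hU4 : Nat.card U = 4 := by
        rw [hU, Subgroup.card_map_of_injective (vOf L).subtype_injective]; exact hxl.2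
      set e : L := j' * j⁻¹ with he
      have hae : act L e = y := by rw [he, map_mul, map_inv, ha', hy]
      have heX : (e : G) ∈ X := X.mul_mem hj'X (X.inv_mem hjX)
      have hUn : ∀ l : L, act L l * x = x * act L l → (l : G) ∈ Subgroup.normalizer (U : Set G) := by
        intro l hl
        refine CfsgLib.Coprime.mem_normalizer_of_forall_conj ?_
        rintro _ ⟨v, hv, rfl⟩
        exact ⟨act L l v, apply_mem_mv hl hv, rfl⟩
      have hRU : ∀ r ∈ R, ∀ u ∈ U, r * u = u * r := by
        refine centralizes_four (k := (e : G)) hU4 ?_ (hUn e ?_) (hRn heX) ?_ hRp ?_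
        · rintro _ ⟨v, -, rfl⟩
          exact congrArg Subtype.val (hV v)
        · rw [hae]; rcases hyz with h1 | h1 <;> rw [h1]; group
        · rintro _ ⟨v, hv, rfl⟩ hfix
          have : y v = v := Subtype.ext (by rw [← hae, act_apply]; exact hfix)
          rw [eq_one_of_mem_mv_fx hV hxl.odd hv (hyx v this)]
          rfl
        · intro r hr
          refine hUn ⟨r, hXL (hRX hr)⟩ ?_
          set ρ := act L ⟨r, hXL (hRX hr)⟩ with hρ
          have hq : (e : G) * r * (e : G)⁻¹ * r⁻¹ ∈ R :=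
            R.mul_mem ((Subgroup.mem_normalizer_iff.1 (hRn heX) r).1 hr) (R.inv_mem hr)
          set q : L := e * ⟨r, hXL (hRX hr)⟩ * e⁻¹ * (⟨r, hXL (hRX hr)⟩ : L)⁻¹
          have hqe : act L q = y * ρ * y⁻¹ * ρ⁻¹ := by
            simp only [q, map_mul, map_inv, hae, ← hρ]
          have hyf : y ∈ fit (Hbar L) := by
            rcases hyz with h1 | h1 <;> rw [h1]
            exacts [hxf, inv_mem hxf]
          have hqf : act L q ∈ fit (Hbar L) := by
            rw [hqe, show y * ρ * y⁻¹ * ρ⁻¹ = y * (ρ * y⁻¹ * ρ⁻¹) by group]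
            refine mul_mem hyf ?_
            exact conj_mem_fit ⟨_, rfl⟩ (inv_mem hyf)
          obtain ⟨m, hm⟩ := hRp ⟨_, hq⟩
          have hq1 : act L q = 1 := by
            have hdvd : orderOf (act L q) ∣ 2 ^ m := orderOf_dvd_of_pow_eq_one (by
              rw [← map_pow, show q ^ 2 ^ m = 1 from Subtype.ext (show ((e : G) * r * (e : G)⁻¹ * r⁻¹) ^ 2 ^ m = 1 by
                  simpa using congrArg Subtype.val hm),
                map_one])
            have hodd : Odd (orderOf (act L q)) :=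
              (fit_odd h.noTwoCore).of_dvd_nat (Subgroup.orderOf_dvd_natCard _ hqf)
            rw [← orderOf_eq_one_iff]
            exact Nat.eq_one_of_dvd_coprimes ((Nat.coprime_two_right.2 hodd).pow_right m) dvd_rfl hdvd
          rw [hqe, mul_inv_eq_one, mul_inv_eq_iff_eq_mul] at hq1
          rcases hyz with h1 | h1 <;> rw [h1] at hq1
          · exact hq1.symm
          · exact (Commute.inv_left_iff.1 hq1).eq.symm
      -- `ψ` is fixed point free on the four-group
      have hψfree : ∀ v ∈ mv x, ψ v = v → v = 1 := by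
        intro v hv hpv
        by_contra hv1
        obtain ⟨h1, h2, h3, -⟩ := hxl.exists_cycle hV hv hv1
        have hall : ∀ w ∈ mv x, ψ w = w := by
          intro w hw
          have hpxv : ψ (x v) = x v := by rw [← MulAut.mul_apply, hkx, MulAut.mul_apply, hpv]
          rcases four_cases hV hxl.2 hv h1 hv1 h2 h3 hw with rfl | rfl | rfl | rfl
          exacts [map_one ψ, hpv, hpxv, by rw [map_mul, hpv, hpxv]]
        refine hv1 (eq_one_of_mem_mv_fx hV hxl.odd hv (hyx v ?_))
        have hav : a v ∈ mv x := haU v hv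
        have hψi : ∀ w ∈ mv x, ψ⁻¹ w = w := fun w hw => by
          conv_lhs => rw [← hall w hw]
          exact MulAut.inv_apply_self ..
        have ha1 : a⁻¹ = a := inv_eq_of_mul_eq_one_right hat.1
        have haa : a (a v) = v := by rw [← MulAut.mul_apply, hat.1, MulAut.one_apply]
        rw [hy, MulAut.mul_apply, MulAut.mul_apply, MulAut.mul_apply, ha1, hψi _ hav, haa, hpv]
      have hVK : vOf L ≤ Subgroup.normalizer (K : Set G) := hVR.trans hRK
      have hUgen : ∀ u ∈ U, ∃ v ∈ mv x, u = k * v * k⁻¹ * (v : G)⁻¹ := by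
        rintro _ ⟨w, hw, rfl⟩
        let f : mv x → mv x := fun v => ⟨dv ψ v,
          mul_mem (apply_mem_mv hkx v.2) v.2⟩
        have hf : Function.Injective f := by
          intro v v' e
          have e' : dv ψ (v : ↥(vOf L)) = dv ψ v' := congrArg Subtype.val e
          have h1 : dv ψ ((v : ↥(vOf L)) * v') = 1 := by rw [map_mul, e', hV]
          have h2 := hψfree _ (mul_mem v.2 v'.2) ((dv_eq_one_iff hV).1 h1)
          refine Subtype.ext ?_
          calc (v : ↥(vOf L)) = v * (v' * v') := by rw [hV, mul_one]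
            _ = v' := by rw [← mul_assoc, h2, one_mul]
        obtain ⟨v, hv⟩ := Finite.injective_iff_surjective.1 hf ⟨w, hw⟩
        refine ⟨v, v.2, ?_⟩
        rw [← show dv ψ (v : ↥(vOf L)) = w from congrArg Subtype.val hv]
        show ((dv ψ (v : ↥(vOf L)) : ↥(vOf L)) : G) = _
        rw [dv_apply, Subgroup.coe_mul, hψ, act_apply]
        have : ((v : ↥(vOf L)) : G)⁻¹ = ((v : ↥(vOf L)) : G) :=
          inv_eq_of_mul_eq_one_right (congrArg Subtype.val (hV _))
        rw [this]
      have hUV : U ≤ vOf L := Subgroup.map_subtype_le _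
      have hUK : U ≤ K := fun u hu => by
        obtain ⟨v, -, rfl⟩ := hUgen u hu
        rw [mul_assoc, mul_assoc]
        refine K.mul_mem hd.mem ?_
        rw [← mul_assoc]
        exact (Subgroup.mem_normalizer_iff.1 (hVK (v : ↥(vOf L)).2) _).1 (K.inv_mem hd.mem)
      have hVKQ : K ⊓ vOf L ≤ QK := CfsgLib.LocalEvenCharP.le_pCoreOf inf_le_left
        (Subgroup.le_normalizer_iff.2 fun y hy z hz => ⟨K.mul_mem (K.mul_mem hy hz.1) (K.inv_mem hy),
          (Subgroup.mem_normalizer_iff.1 (le_normalizer_vOf L (hKL hy)) z).1 hz.2⟩)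
        ((hRp.to_le hVR).to_le inf_le_right)
      have hUomega : ∀ u ∈ U, u ∈ Cfsg.omegaCenterOf QK := fun u hu =>
        mem_omegaCenterOf (hVKQ ⟨hUK hu, hUV hu⟩)
          (congrArg Subtype.val (hV ⟨u, hUV hu⟩)) fun y hy => hRU y (hQKR hy) u hu
      have hUW : U ≤ W := fun u hu => by
        obtain ⟨v, hv, rfl⟩ := hUgen u hu
        have h1 : ⁅((v : ↥(vOf L)) : G), k⁆ ∈ W :=
          Subgroup.commutator_mem_commutator (hUomega _ ⟨v, hv, rfl⟩) hd.mem
        have h2 := W.inv_mem h1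
        rwa [commutatorElement_def, mul_inv_rev, mul_inv_rev, mul_inv_rev, inv_inv, inv_inv,
          ← mul_assoc, ← mul_assoc] at h2
      have hUeq : U = W := Subgroup.eq_of_le_of_card_ge hUW (by rw [hU4, hW4])
      rw [← hUeq]
      refine CfsgLib.Coprime.mem_normalizer_of_forall_conj ?_
      rintro _ ⟨v, hv, rfl⟩
      exact ⟨a v, haU v hv, rfl⟩
  set P := J ⊓ Subgroup.normalizer (W : Set G) with hP
  have himg : img L J ≤ img L P := by
    rw [h.img_J, Subgroup.closure_le]
    intro a ha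
    obtain ⟨j, hj, hja, hjn⟩ := hgood a ha
    exact ⟨j, ⟨hj, hjn⟩, hja⟩
  intro x hx
  obtain ⟨p, hp, hpe⟩ := himg (show act L ⟨x, h.J_le hx⟩ ∈ img L J from ⟨_, hx, rfl⟩)
  have hp' : (p : G) ∈ P := hp
  have hc : (p : G)⁻¹ * x ∈ cOf L :=
    (act_eq_one_iff L (p⁻¹ * ⟨x, h.J_le hx⟩)).1 (by rw [map_mul, map_inv, hpe, inv_mul_cancel])
  have hxp := mul_mem hp'.2 (hRW' (hJC _ (J.mul_mem (J.inv_mem hp'.1) hx) hc))
  rwa [mul_inv_cancel_left] at hxp

end Cfsg.Agent.S2945
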