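import Cfsg.Statements.S2951
import Cfsg.Agent.Lib.LocalEven.JComp.PairStructure

set_option autoImplicit false
open Cfsg

namespace Cfsg.Agent.S2951
open CfsgLib.JComp in
theorem third {G : Type*} [Group G] [Finite G] {T K K' L L' : Subgroup G} (hz : ZN G)
    (h : Above T K L) (h' : Above T K' L') (hne : L' ≠ L) (hT : T ≤ L) (S : Sylow 2 G)
    (hTS : T ≤ (S : Subgroup G)) (hlt : T ≠ (S : Subgroup G)) {Z₀ : Subgroup G}
    (hZ₀ : Z₀ = Cfsg.omegaCenterOf (Cfsg.thompsonSubgroupOf 2 T)) (h4 : Nat.card ↥Z₀ = 4) :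
    (L ⊓ Subgroup.centralizer (Z₀ : Set G)).relIndex (Subgroup.normalizer (Z₀ : Set G)) = 2 := by
  haveI : Fact (Nat.Prime 2) := ⟨Nat.prime_two⟩
  obtain ⟨M, F, -, -⟩ := h.exists_frame
  have hO := h.over_T hT
  have hω : Cfsg.omegaCenterOf T = Z₀ := hZ₀ ▸ h.omega_eq h' hne hT
  obtain ⟨-, -, -, e⟩ := F.split h.comp
  rw [← hZ₀, h4] at e
  obtain ⟨c, hc, hc1⟩ : ∃ c ∈ cz T K, c ≠ 1 := by
    by_contra hcon
    push Not at hcon
    rw [(Subgroup.eq_bot_iff_forall _).2 hcon, Subgroup.card_bot] at e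
    omega
  have hcZ : c ∈ Z₀ := hZ₀ ▸ hc.1
  have hel : Cfsg.IsElementaryAbelian 2 Z₀ := hZ₀ ▸ omegaCenterOf_elemAb _
  -- `⟨K, T⟩` centralizes `c`
  have hPc : K ⊔ T ≤ Subgroup.centralizer ({c} : Set G) := by
    refine sup_le (fun y hy => Subgroup.mem_centralizer_singleton_iff.2
      (Subgroup.mem_centralizer_iff.1 hc.2 y hy)) fun y hy => Subgroup.mem_centralizer_singleton_iff.2 ?_
    exact omegaCenterOf_comm T (hω.ge hcZ) hy
  have hCL : Subgroup.centralizer (Z₀ : Set G) ≤ L := by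
    intro x hx
    have hxc : x ∈ Subgroup.centralizer ({c} : Set G) :=
      Subgroup.mem_centralizer_singleton_iff.2 (Subgroup.mem_centralizer_iff.1 hx c hcZ).symm
    have hle : Subgroup.centralizer ({c} : Set G) ≤
        Subgroup.normalizer (Subgroup.zpowers c : Set G) := by
      refine le_trans ?_ (Subgroup.centralizer_le_normalizer _)
      rw [Subgroup.zpowers_eq_closure, Subgroup.centralizer_closure]
    have hco : orderOf c = 2 := orderOf_eq_prime (by rw [pow_two]; exact CfsgLib.JComp.elemAb_sq hel hcZ) hc1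
    exact h.le_of_local ⟨Subgroup.zpowers c, IsPGroup.of_card (n := 1)
        (by rw [Nat.card_zpowers, hco, pow_one]), fun e => hc1 (Subgroup.zpowers_eq_bot.1 e), rfl⟩
      (((sup_le_sup_left (jOf_le T) K).trans hPc).trans hle) (hle hxc)
  -- an element of `N_S(T)` outside `T`
  obtain ⟨t, htS, ht', htn⟩ :=
    CfsgLib.LocalEvenCharP.exists_mem_normalizer_not_mem S.isPGroup' hTS hlt
  have htZ : t ∈ Subgroup.normalizer (Z₀ : Set G) := by
    rw [hZ₀]
    exact CfsgLib.LocalEven.mem_normalizer_of_map_conj_eq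
      (omega_conj_self (normalizer_le_normalizer_jOf T htn))
  have htC : t ∉ Subgroup.centralizer (Z₀ : Set G) := fun hh => ht'
    (mem_of_mem_normalizer hO.syl (hCL hh) htn (S.isPGroup'.to_le (Subgroup.zpowers_le.2 htS)))
  -- the involution of `Z(S)`
  have hSne : (S : Subgroup G) ≠ ⊥ := fun e => F.ne_bot (le_bot_iff.1 (hTS.trans e.le))
  obtain ⟨z, hzS, hz1⟩ : ∃ z ∈ Cfsg.omegaCenterOf (S : Subgroup G), z ≠ 1 := by
    by_contra hcon
    push Not at hcon
    exact omegaCenterOf_sylow_ne_bot S.isPGroup' hSne ((Subgroup.eq_bot_iff_forall _).2 hcon)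
  have hzZ : z ∈ Z₀ := hω ▸ omega_sylow_le hTS hO hzS
  have htz : t * z = z * t := omegaCenterOf_comm _ hzS htS
  -- no element of `N(Z₀)` maps `c` to `z`
  have hno : ∀ g : G, g * c * g⁻¹ ≠ z := by
    intro g hg
    set T₂ := (S : Subgroup G).map (MulAut.conj g⁻¹).toMonoidHom with hT₂
    have hZ1 : Cfsg.omegaCenterOf (S : Subgroup G) = Subgroup.zpowers z := by
      by_contra hne1
      have hle : Cfsg.omegaCenterOf (S : Subgroup G) ≤ Z₀ := hω ▸ omega_sylow_le hTS hO
      have hzo : orderOf z = 2 := orderOf_eq_prime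
        (by rw [pow_two]; exact CfsgLib.JComp.elemAb_sq hel hzZ) hz1
      have hlt2 : 2 < Nat.card ↥(Cfsg.omegaCenterOf (S : Subgroup G)) := by
        by_contra hle2
        exact hne1 (Subgroup.eq_of_le_of_card_ge (Subgroup.zpowers_le.2 hzS)
          (by rw [Nat.card_zpowers, hzo]; omega)).symm
      have hdvd := Subgroup.card_dvd_of_le hle
      rw [h4] at hdvd
      have hle4 := Nat.le_of_dvd (by norm_num) hdvd
      interval_cases hcd : Nat.card ↥(Cfsg.omegaCenterOf (S : Subgroup G))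
      · omega
      · have heq := Subgroup.eq_of_le_of_card_ge hle (by rw [h4, hcd])
        exact htC (Subgroup.mem_centralizer_iff.2 fun u hu =>
          (omegaCenterOf_comm _ (heq.ge hu) htS).symm)
    have hPn : K ⊔ T ≤ Subgroup.normalizer (T₂ : Set G) := by
      intro x hx
      rw [hT₂, normalizer_conj]
      refine ⟨g * x * g⁻¹, ?_, by simp [mul_assoc]⟩
      refine hz.zc S ?_
      rw [hZ1, Subgroup.zpowers_eq_closure, Subgroup.centralizer_closure,
        Subgroup.mem_centralizer_singleton_iff, ← hg]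
      have h1 := Subgroup.mem_centralizer_singleton_iff.1 (hPc hx)
      calc g * x * g⁻¹ * (g * c * g⁻¹) = g * (x * c) * g⁻¹ := by group
        _ = g * (c * x) * g⁻¹ := by rw [h1]
        _ = g * c * g⁻¹ * (g * x * g⁻¹) := by group
    have hTT₂ : T ≤ T₂ := by
      obtain ⟨S₂, hS₂⟩ :=
        (F.pgroup.to_sup_of_normal_right' (S.isPGroup'.map _) (le_sup_right.trans hPn)).exists_le_sylow
      have h15 : T₂ = S₂ := by
        refine Subgroup.eq_of_le_of_card_ge (le_sup_right.trans hS₂) ?_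
        rw [hT₂, Subgroup.card_map_of_injective (MulAut.conj g⁻¹).injective,
          Sylow.card_eq_multiplicity, Sylow.card_eq_multiplicity]
      exact le_sup_left.trans (hS₂.trans h15.ge)
    have gd := h.good h' hne hT
    obtain ⟨u, huT, huE⟩ := gd.core_ne
    refine huE (CfsgLib.LocalEvenCharP.le_pCoreOf (inf_le_left : (K ⊔ T) ⊓ T₂ ≤ K ⊔ T) ?_
      ((S.isPGroup'.map _).to_le inf_le_right) ⟨le_sup_right (a := K) huT, hTT₂ huT⟩)
    intro x hx
    refine CfsgLib.LocalEven.mem_normalizer_of_map_conj_eq ?_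
    rw [Subgroup.map_inf _ _ _ (MulAut.conj x).injective,
      CfsgLib.LocalEven.map_conj_eq_self (Subgroup.le_normalizer hx),
      CfsgLib.LocalEven.map_conj_eq_self (hPn hx)]
  have hcz : c ≠ z := fun e => hno 1 (by rw [e]; simp)
  have hz2 : z * z = 1 := CfsgLib.JComp.elemAb_sq hel hzZ
  have hzc1 : z * c ≠ 1 := fun e => hcz (mul_left_cancel (e.trans hz2.symm))
  have hsub : ({1, z, c, z * c} : Set G) ⊆ Z₀ := by
    rintro y (rfl | rfl | rfl | rfl)
    exacts [Z₀.one_mem, hzZ, hcZ, Z₀.mul_mem hzZ hcZ]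
  have hn4 : ({1, z, c, z * c} : Set G).ncard = 4 := by
    rw [Set.ncard_insert_of_notMem (by simp [hz1.symm, hc1.symm, hzc1.symm]),
      Set.ncard_insert_of_notMem (by simp [hcz.symm, hc1]),
      Set.ncard_pair (fun e => hz1 (right_eq_mul.1 e))]
  have heq := Set.eq_of_subset_of_ncard_le hsub (by rw [hn4, ← Nat.card_coe_set_eq]; exact h4.le)
  have hcases : ∀ u ∈ Z₀, u = 1 ∨ u = z ∨ u = c ∨ u = z * c := fun u hu => by
    have : u ∈ ({1, z, c, z * c} : Set G) := heq ▸ hu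
    simpa using this
  have hconj : ∀ g ∈ Subgroup.normalizer (Z₀ : Set G), ∀ u ∈ Z₀, g * u * g⁻¹ ∈ Z₀ :=
    fun g hg u hu => (Subgroup.mem_normalizer_iff.1 hg u).1 hu
  have htc : t * c * t⁻¹ = z * c := by
    rcases hcases _ (hconj t htZ c hcZ) with e | e | e | e
    · exact absurd (conj_eq_one_iff.1 e) hc1
    · exact absurd e (hno t)
    · refine absurd (Subgroup.mem_centralizer_iff.2 fun u hu => ?_) htC
      rcases hcases u hu with rfl | rfl | rfl | rfl
      · simp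
      · exact htz.symm
      · exact (mul_inv_eq_iff_eq_mul.1 e).symm
      · rw [mul_assoc, ← mul_inv_eq_iff_eq_mul.1 e, ← mul_assoc, ← htz, mul_assoc]
    · exact e
  have hfz : ∀ g ∈ Subgroup.normalizer (Z₀ : Set G), g * z * g⁻¹ = z := by
    intro g hg
    rcases hcases _ (hconj g hg z hzZ) with e | e | e | e
    · exact absurd (conj_eq_one_iff.1 e) hz1
    · exact e
    · exact absurd (by rw [← e]; group) (hno g⁻¹)
    · refine absurd ?_ (hno (g⁻¹ * t))
      calc g⁻¹ * t * c * (g⁻¹ * t)⁻¹ = g⁻¹ * (t * c * t⁻¹) * g := by group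
        _ = z := by rw [htc, ← e]; group
  refine Subgroup.index_eq_two_iff.2 ⟨⟨t, htZ⟩, fun ⟨g, hg⟩ => ?_⟩
  have hmem : ∀ x ∈ Subgroup.normalizer (Z₀ : Set G),
      x ∈ L ⊓ Subgroup.centralizer (Z₀ : Set G) ↔ x * c * x⁻¹ = c := by
    intro x hx
    refine ⟨fun hh => by rw [← Subgroup.mem_centralizer_iff.1 hh.2 c hcZ, mul_inv_cancel_right],
      fun hh => ?_⟩
    have hxC : x ∈ Subgroup.centralizer (Z₀ : Set G) := by
      refine Subgroup.mem_centralizer_iff.2 fun u hu => ?_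
      have hxz := mul_inv_eq_iff_eq_mul.1 (hfz x hx)
      have hxc := mul_inv_eq_iff_eq_mul.1 hh
      rcases hcases u hu with rfl | rfl | rfl | rfl
      · simp
      · exact hxz.symm
      · exact hxc.symm
      · rw [mul_assoc, ← hxc, ← mul_assoc, ← hxz, mul_assoc]
    exact ⟨hCL hxC, hxC⟩
  by_cases hgc : g * c * g⁻¹ = c
  · refine Or.inr ⟨(hmem g hg).2 hgc, fun hh => ?_⟩
    have h1 := (hmem _ (mul_mem hg htZ)).1 hh
    rw [show g * t * c * (g * t)⁻¹ = (g * z * g⁻¹) * (g * c * g⁻¹) by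
      calc g * t * c * (g * t)⁻¹ = g * (t * c * t⁻¹) * g⁻¹ := by group
        _ = (g * z * g⁻¹) * (g * c * g⁻¹) := by rw [htc]; group, hfz g hg, hgc] at h1
    exact hz1 (mul_eq_right.1 h1)
  · refine Or.inl ⟨(hmem _ (mul_mem hg htZ)).2 ?_, fun hh => hgc ((hmem g hg).1 hh)⟩
    have hgc' : g * c * g⁻¹ = z * c := by
      rcases hcases _ (hconj g hg c hcZ) with e | e | e | e
      · exact absurd (conj_eq_one_iff.1 e) hc1
      · exact absurd e (hno g)
      · exact absurd e hgc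
      · exact e
    calc g * t * c * (g * t)⁻¹ = g * (t * c * t⁻¹) * g⁻¹ := by group
      _ = (g * z * g⁻¹) * (g * c * g⁻¹) := by rw [htc]; group
      _ = z * z * c := by rw [hfz g hg, hgc', mul_assoc]
      _ = c := by rw [hz2, one_mul]


/-- Let G be a finite group of characteristic 2 type in which every 2-local subgroup is solvable and the centralizer of Ω₁(Z(S)) lies in N_G(S) for every Sylow 2-subgroup S; suppose O₂(G) = 1, fix a Sylow 2-subgroup S and a 2-local subgroup M containing N_G(J(S)) (J the Thompson subgroup generated by the elementary abelian 2-subgroups of largest order), and put Z = Ω₁(Z(S)). Let T ≤ S be maximal (for the order of a largest elementary abelian subgroup, then the order of J(T), then the order of T) among the nontrivial 2-subgroups of M lying in a 2-local subgroup not inside M, K a J(T)-component not contained in M with J(T) the Thompson subgroup of every Sylow 2-subgroup of N_G(W_K) containing J(T), and O₂(⟨K,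 T⟩) ≠ 1, L a maximal 2-local subgroup containing ⟨K, J(T)⟩ (there is only one), and Z₀ = Ω₁(Z(J(T))). Then Z₀ ∩ W_K ≠ 1, and one of: Z = Z₀ has order 2; Z = Z₀ has order 4 and T = S; Ω₁(Z(T)) = Z₀ has order 4 and C_L(Z₀) has index 2 in N_G(Z₀). -/
theorem result {G : Type*} [Group G] [Finite G] (hL : Cfsg.IsCharacteristicTwoType G) (hN : ∀ N : Subgroup G, Cfsg.IsTwoLocal N → Group.IsSolvable ↥N)
    (hZ : ∀ S : Sylow 2 G, Subgroup.centralizer (Cfsg.omegaCenterOf (S : Subgroup G) : Set G) ≤ Subgroup.normalizer ((S : Subgroup G) : Set G)) (hO : Cfsg.pCore 2 G = ⊥) (S : Sylow 2 G) (M : Subgroup G) (hM : Cfsg.IsTwoLocal M)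
    (hMJ : Subgroup.normalizer (Cfsg.thompsonSubgroupOf 2 (S : Subgroup G) : Set G) ≤ M) (T : Subgroup G) (hT : T ∈ Cfsg.maxStraddlingTwoSubgroups M)
    (hTS : T ≤ (S : Subgroup G)) (K : Subgroup G) (hK : K ∈ Cfsg.jComponentsOutside M T)
    (L : Subgroup G) (hLmax : Cfsg.IsMaximalTwoLocal L) (hKL : K ⊔ Cfsg.thompsonSubgroupOf 2 T ≤ L)
    (Z Z₀ : Subgroup G) (hZdef : Z = Cfsg.omegaCenterOf (S : Subgroup G)) (hZ₀ : Z₀ = Cfsg.omegaCenterOf (Cfsg.thompsonSubgroupOf 2 T)) :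
    Z₀ ⊓ Cfsg.wOf K ≠ ⊥ ∧
      ((Z = Z₀ ∧ Nat.card ↥Z₀ = 2) ∨ (Z = Z₀ ∧ Nat.card ↥Z₀ = 4 ∧ T = (S : Subgroup G)) ∨
        (Cfsg.omegaCenterOf T = Z₀ ∧ Nat.card ↥Z₀ = 4 ∧
          (L ⊓ Subgroup.centralizer (Z₀ : Set G)).relIndex (Subgroup.normalizer (Z₀ : Set G)) = 2)) := by
  have F : CfsgLib.JComp.Frame T M := ⟨⟨hL, hN, hZ⟩, hT, S, hMJ⟩
  obtain ⟨L₀, h, hTL⟩ := F.outside hK
  obtain rfl : L = L₀ := h.uniq L hLmax hKL
  obtain ⟨K', L', h', hne⟩ := CfsgLib.JComp.exists_other_above F hM hO L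
  obtain ⟨h2, -, -, hcard⟩ := F.split h.comp
  have h4 := h.card_le_four h' hne.symm
  have hω := h.omega_eq h' hne hTL
  subst hZdef hZ₀
  refine ⟨fun e => ?_, ?_⟩
  · rw [e, Subgroup.card_bot] at h2
    norm_num at h2
  by_cases hc : Nat.card ↥(Cfsg.omegaCenterOf (Cfsg.thompsonSubgroupOf 2 T)) = 2
  · refine Or.inl ⟨?_, hc⟩
    have hle := (CfsgLib.JComp.omega_sylow_le hTS (h.over_T hTL)).trans hω.le
    refine Subgroup.eq_of_le_of_card_ge hle ?_
    rw [hc]
    have := CfsgLib.JComp.omegaCenterOf_sylow_ne_bot S.isPGroup'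
      (fun e => F.ne_bot (le_bot_iff.1 (hTS.trans e.le)))
    exact (Subgroup.one_lt_card_iff_ne_bot _).2 this
  have hc4 : Nat.card ↥(Cfsg.omegaCenterOf (Cfsg.thompsonSubgroupOf 2 T)) = 4 := by
    have : 0 < Nat.card ↥(CfsgLib.JComp.cz T K) := Nat.card_pos
    omega
  by_cases hTe : T = (S : Subgroup G)
  · exact Or.inr (Or.inl ⟨hTe ▸ hω, hc4, hTe⟩)
  · exact Or.inr (Or.inr ⟨hω, hc4, third ⟨hL, hN, hZ⟩ h h' hne hTL S hTS hTe rfl hc4⟩)

end Cfsg.Agent.S2951
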