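import Cfsg.Statements.S2955
import Cfsg.Agent.Lib.LocalEven.SylowControl

set_option autoImplicit false
open Cfsg CfsgLib.SylowControl

namespace Cfsg.Agent.S2955

/-- Let p be a prime dividing the order of the finite group G and 𝓕 a conjugation-closed family of subgroups that controls Sylow p-intersections in G. Suppose the Sylow p-subgroups of G are chain-connected: any two of them are joined by a chain of Sylow p-subgroups, consecutive ones distinct with nontrivial intersection, all containing the intersection of the two ends (equivalently, the graph on the Sylow p-subgroups whose edges are the distinct pairs meeting nontrivially is connected). Then for every Sylow p-subgroup S, G is generated by N_G(S) together with the members of 𝓕 that meet S in a Sylow p-subgroup of themselves. -/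
theorem result {G : Type*} [Group G] [Finite G] (p : ℕ) [Fact p.Prime] (hdiv : p ∣ Nat.card G)
    (𝓕 : Set (Subgroup G)) (h𝓕 : Cfsg.IsNormalSet 𝓕) (hc : Cfsg.ControlsSylowIntersections p 𝓕)
    (hconn : Cfsg.IsSylowChainConnected p G) (S : Sylow p G) :
    (⨆ X ∈ Cfsg.sylowMembers p 𝓕 (S : Subgroup G), X) ⊔ Subgroup.normalizer ((S : Subgroup G) : Set G) = ⊤ := by
  set M := (⨆ X ∈ Cfsg.sylowMembers p 𝓕 (S : Subgroup G), X) ⊔
    Subgroup.normalizer ((S : Subgroup G) : Set G) with hM
  have hXM : ∀ X ∈ Cfsg.sylowMembers p 𝓕 (S : Subgroup G), X ≤ M := fun X hX =>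
    (le_iSup₂ (f := fun X _ => X) X hX).trans le_sup_left
  rw [eq_top_iff]
  intro g _
  obtain ⟨n, c, h0, hn, -, hadj⟩ := hconn S (conjSylow g S)
  have key : ∀ i : Fin (n + 1), ∃ m ∈ M,
      (c i : Subgroup G) = Cfsg.subgroupConjRight m (S : Subgroup G) := by
    intro i
    induction i using Fin.induction with
    | zero => exact ⟨1, M.one_mem, by rw [h0, conjRight_one]⟩
    | succ i ih =>
      exact Linked.exists_conj_mem h𝓕 hXM (controls_linked hc (hadj i).2 le_rfl) ih
  obtain ⟨m, hm, hm'⟩ := key (Fin.last n)
  rw [hn, coe_conjSylow] at hm'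
  have h : g * m⁻¹ ∈ Subgroup.normalizer ((S : Subgroup G) : Set G) := by
    rw [mem_normalizer_iff_conjRight, conjRight_mul, hm', conjRight_inv_conjRight]
  have := M.mul_mem ((le_sup_right : _ ≤ M) h) hm
  simpa [mul_assoc] using this

end Cfsg.Agent.S2955
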