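import Cfsg.Statements.S2956
import Cfsg.Agent.Lib.LocalEven.SylowControl

set_option autoImplicit false
open Cfsg CfsgLib.SylowControl

namespace Cfsg.Agent.S2956

section Helpers
variable {G : Type*} [Group G] [Finite G] {p : ℕ} [Fact p.Prime] {f : Subgroup G → Set (Subgroup G)}

/-- The functor family together with the singular maximal `p`-locals. -/
def fam (p : ℕ) (f : Subgroup G → Set (Subgroup G)) : Set (Subgroup G) :=
  Cfsg.functorFamily p f ⊤ ∪ {M | Cfsg.IsMaximalPLocal p M ∧ ¬ Cfsg.IsFunctorRegular p f M}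

theorem exists_maximal {L : Subgroup G} (h : Cfsg.IsPLocal p L) :
    ∃ M, L ≤ M ∧ Cfsg.IsMaximalPLocal p M := by
  obtain ⟨M, hLM, hM⟩ := ({N : Subgroup G | Cfsg.IsPLocal p N} : Set (Subgroup G)).toFinite.exists_le_maximal h
  exact ⟨M, hLM, hM.1, fun N hN hMN => (hM.eq_of_le hN hMN).symm⟩

variable (hf : Cfsg.IsNormalizerFunctor p f)
  (hf1 : ∀ P : Subgroup G, IsPGroup p ↥P → P ≠ ⊥ → ∀ F ∈ f P, F ≠ ⊥)
include hf hf1

/-- The inner induction: `IH` is the statement for larger intersections. -/
theorem link_in_local (W : Subgroup G) (hW : W ≠ ⊥)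
    (IH : ∀ (A B : Sylow p G) (U : Subgroup G), W ≤ U → Nat.card W < Nat.card U →
      U ≤ (A : Subgroup G) → U ≤ (B : Subgroup G) → Linked p (fam p f) W A B) :
    ∀ (n : ℕ) (M : Subgroup G), Cfsg.IsMaximalPLocal p M →
      (∀ P : Sylow p M, Nat.card G - Nat.card (P : Subgroup M) ≤ n) →
      ∀ (S' T' : Sylow p G) (U₁ U₂ : Subgroup G),
        W ≤ U₁ → Nat.card W < Nat.card U₁ → U₁ ≤ (S' : Subgroup G) ⊓ M →
        W ≤ U₂ → Nat.card W < Nat.card U₂ → U₂ ≤ (T' : Subgroup G) ⊓ M →
        Linked p (fam p f) W S' T' := by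
  intro n
  induction n using Nat.strong_induction_on with
  | _ n ih =>
  intro M hM hn S' T' U₁ U₂ hW1 hc1 hU1 hW2 hc2 hU2
  -- Sylow subgroups of `M` and their liftings
  have hlift : ∀ c : Sylow p M, ∃ C : Sylow p G,
      (c : Subgroup M).map M.subtype ≤ (C : Subgroup G) := fun c =>
    (c.isPGroup'.map M.subtype).exists_le_sylow
  choose L hL using hlift
  have hup : ∀ (R : Sylow p G) (U : Subgroup G), U ≤ (R : Subgroup G) ⊓ M →
      ∃ c : Sylow p M, U ≤ (c : Subgroup M).map M.subtype := by
    intro R U hU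
    obtain ⟨c, hc⟩ :=
      ((R.isPGroup'.to_le (hU.trans inf_le_left)).comap_of_injective M.subtype
        M.subtype_injective).exists_le_sylow
    exact ⟨c, fun u hu => ⟨⟨u, (hU hu).2⟩, hc hu, rfl⟩⟩
  obtain ⟨S₁, hS₁⟩ := hup S' U₁ hU1
  obtain ⟨T₁, hT₁⟩ := hup T' U₂ hU2
  have e1 := IH S' (L S₁) U₁ hW1 hc1 (hU1.trans inf_le_left) (hS₁.trans (hL S₁))
  have e2 := IH (L T₁) T' U₂ hW2 hc2 (hT₁.trans (hL T₁)) (hU2.trans inf_le_left)
  suffices Linked p (fam p f) W (L S₁) (L T₁) from (e1.trans this).trans e2
  by_cases hreg : Cfsg.IsFunctorRegular p f M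
  · -- the regular case
    have hWS : W.subgroupOf M ≤ (S₁ : Subgroup M) := by
      intro w hw
      obtain ⟨w', hw', e⟩ := hS₁ (hW1 hw)
      obtain rfl : w' = w := Subtype.ext e
      exact hw'
    have hWT : W.subgroupOf M ≤ (T₁ : Subgroup M) := by
      intro w hw
      obtain ⟨w', hw', e⟩ := hT₁ (hW2 hw)
      obtain rfl : w' = w := Subtype.ext e
      exact hw'
    have hWM : W ≤ M := hW1.trans (hU1.trans inf_le_right)
    have hne : (S₁ : Subgroup M) ⊓ (T₁ : Subgroup M) ≠ ⊥ := fun h => hW (by
      have : W.subgroupOf M = ⊥ := le_bot_iff.1 (h ▸ le_inf hWS hWT)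
      rwa [Subgroup.subgroupOf_eq_bot, disjoint_iff, inf_eq_left.2 hWM] at this)
    have hchain := controls_linked (W := W.subgroupOf M) hreg hne (le_inf hWS hWT)
    have aux : ∀ d : Sylow p M, Linked p ((fun X : Subgroup G => X.subgroupOf M) '' Cfsg.functorFamily p f M) (W.subgroupOf M) S₁ d →
        W.subgroupOf M ≤ (d : Subgroup M) ∧ Linked p (fam p f) W (L S₁) (L d) := by
      intro d hd
      induction hd with
      | refl => exact ⟨hWS, .refl⟩
      | @tail c d _ hcd ihc =>
        obtain ⟨X, x, h1, h2, h3, h4, h5⟩ := hcd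
        refine ⟨h5.trans inf_le_left, ihc.2.trans ?_⟩
        rw [mem_sylowMembers_iff] at h1 h2
        obtain ⟨⟨_, ⟨P, F, hF, rfl⟩, rfl⟩, h1⟩ := h1
        have hnP := ((hf _ (P.isPGroup'.map M.subtype)).1 F hF)
        have hPX : (P : Subgroup M) ≤
            (M ⊓ Subgroup.normalizer (F : Set G)).subgroupOf M := fun y hy =>
          ⟨y.2, hnP.2 (Subgroup.le_normalizer ⟨y, hy, rfl⟩)⟩
        have hcX := sylow_le_of_relIndex c P hPX h1
        have hdX := sylow_le_of_relIndex d P hPX h2.2
        have hcN : (c : Subgroup M).map M.subtype ≤ Subgroup.normalizer (F : Set G) :=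
          Subgroup.map_le_iff_le_comap.2 fun y hy => (hcX hy).2
        have hdN : (d : Subgroup M).map M.subtype ≤ Subgroup.normalizer (F : Set G) :=
          Subgroup.map_le_iff_le_comap.2 fun y hy => (hdX hy).2
        have hWc : W ≤ (c : Subgroup M).map M.subtype := fun w hw => ⟨⟨w, hWM hw⟩, ihc.1 hw, rfl⟩
        have hWd : W ≤ (d : Subgroup M).map M.subtype :=
          fun w hw => ⟨⟨w, hWM hw⟩, (h5 hw).1, rfl⟩
        have hcard : ∀ q : Sylow p M, Nat.card ↥((q : Subgroup M).map M.subtype) =
            Nat.card (P : Subgroup M) := fun q => by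
          rw [Subgroup.card_map_of_injective M.subtype_injective]
          exact q.card_eq_multiplicity.trans P.card_eq_multiplicity.symm
        have hWlt : ∀ q : Sylow p M, Nat.card W < Nat.card ↥((q : Subgroup M).map M.subtype) := by
          intro q
          rw [hcard, ← hcard S₁]
          exact hc1.trans_le (Subgroup.card_le_of_le hS₁)
        obtain ⟨Pt, hPt⟩ := (P.isPGroup'.map M.subtype).exists_le_sylow
        by_cases hfull : (P : Subgroup M).map M.subtype = (Pt : Subgroup G)
        · -- the Sylow subgroups of `M` are Sylow subgroups of `G`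
          have hLq : ∀ q : Sylow p M, ((L q : Sylow p G) : Subgroup G) =
              (q : Subgroup M).map M.subtype := by
            intro q
            refine (Subgroup.eq_of_le_of_card_ge (hL q) ?_).symm
            rw [hcard, ← hcard P, hfull]
            exact le_of_eq ((L q).card_eq_multiplicity.trans Pt.card_eq_multiplicity.symm)
          have hFam : Subgroup.normalizer (F : Set G) ∈ fam p f :=
            Or.inl (mem_functorFamily_top (P := Pt) (hfull ▸ hF))
          refine Relation.ReflTransGen.single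
            ⟨Subgroup.normalizer (F : Set G), (x : G), ?_, ?_, h3.2, ?_, ?_⟩
          · rw [mem_sylowMembers_iff]
            exact ⟨hFam, fun h => (L c).not_dvd_index
              (h.trans (Subgroup.relIndex_dvd_index_of_le (hLq c ▸ hcN)))⟩
          · rw [mem_sylowMembers_iff]
            exact ⟨hFam, fun h => (L d).not_dvd_index
              (h.trans (Subgroup.relIndex_dvd_index_of_le (hLq d ▸ hdN)))⟩
          · rw [hLq, hLq, ← map_conjRight_subtype, h4]
          · rw [hLq]
            exact le_inf hWd (hWd.trans hdN)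
        · -- a larger `p`-local
          have hF0 : F ≠ ⊥ := by
            refine hf1 _ (P.isPGroup'.map M.subtype) ?_ F hF
            intro h
            have := hWlt P
            rw [h, Subgroup.card_bot] at this
            exact absurd this (Nat.not_lt.2 Nat.card_pos)
          obtain ⟨M', hNM, hM'⟩ := exists_maximal (p := p)
            (⟨F, (P.isPGroup'.map M.subtype).to_le hnP.1, hF0, rfl⟩ :
              Cfsg.IsPLocal p (Subgroup.normalizer (F : Set G)))
          have hbig : ∀ Q : Sylow p M', Nat.card (P : Subgroup M) < Nat.card (Q : Subgroup M') := by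
            intro Q
            rw [← hcard P]
            refine (card_lt_inf_normalizer Pt hPt hfull).trans_le ?_
            set V := (Pt : Subgroup G) ⊓
              Subgroup.normalizer ((P : Subgroup M).map M.subtype : Set G)
            have hV : V ≤ M' := inf_le_right.trans (hnP.2.trans hNM)
            obtain ⟨Q', hQ'⟩ := ((Pt.isPGroup'.to_le (inf_le_left : V ≤ _)).comap_of_injective
              M'.subtype M'.subtype_injective).exists_le_sylow
            rw [Q.card_eq_multiplicity, ← Q'.card_eq_multiplicity,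
              ← Nat.card_congr (Subgroup.subgroupOfEquivOfLe hV).toEquiv]
            exact Subgroup.card_le_of_le hQ'
          let Q₀ : Sylow p M' := default
          have h0 := hn P
          have h0' := hbig Q₀
          have h0'' : Nat.card (Q₀ : Subgroup M') ≤ Nat.card G :=
            (Subgroup.card_le_card_group _).trans (Subgroup.card_le_card_group _)
          refine ih (Nat.card G - Nat.card (Q₀ : Subgroup M')) (by omega) M' hM'
            (fun Q => by rw [Q.card_eq_multiplicity, Q₀.card_eq_multiplicity]) (L c) (L d)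
            _ _ hWc (hWlt c) (le_inf (hL c) (hcN.trans hNM))
            hWd (hWlt d) (le_inf (hL d) (hdN.trans hNM))
    exact (aux T₁ hchain).2
  · -- a singular member of the family
    have hMf : M ∈ fam p f := Or.inr ⟨hM, hreg⟩
    obtain ⟨m, hm⟩ := exists_conjRight_eq T₁ S₁
    set C := conjSylow (m : G)⁻¹ (L S₁) with hC
    have hCT : (T₁ : Subgroup M).map M.subtype ≤ (C : Subgroup G) := by
      have h := congrArg (Subgroup.map M.subtype) hm
      rw [map_conjRight_subtype] at h
      rw [hC, coe_conjSylow, ← conjRight_inv_conjRight (m : G) ((T₁ : Subgroup M).map M.subtype), h]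
      exact conjRight_mono (hL S₁)
    have hmem : ∀ (R : Sylow p G) (q : Sylow p M), (q : Subgroup M).map M.subtype ≤ (R : Subgroup G) →
        M ∈ Cfsg.sylowMembers p (fam p f) (R : Subgroup G) := by
      intro R q hq
      rw [mem_sylowMembers_iff]
      refine ⟨hMf, fun h => q.not_dvd_index (h.trans ?_)⟩
      refine Subgroup.index_dvd_of_le (H := (q : Subgroup M)) (K := (R : Subgroup G).subgroupOf M) ?_
      exact fun y hy => hq ⟨y, hy, rfl⟩
    have e3 : Linked p (fam p f) W (L S₁) C := Relation.ReflTransGen.single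
      ⟨M, (m : G), hmem _ S₁ (hL S₁), hmem _ T₁ hCT, m.2,
        by rw [hC, coe_conjSylow, conjRight_conjRight_inv],
        le_inf (hW2.trans (hT₁.trans hCT)) (hW2.trans (hU2.trans inf_le_right))⟩
    exact e3.trans (IH C (L T₁) U₂ hW2 hc2 (hT₁.trans hCT) (hT₁.trans (hL T₁)))

theorem main : Cfsg.ControlsSylowIntersections p (fam p f) := by
  suffices key : ∀ (n : ℕ) (S T : Sylow p G), (S : Subgroup G) ⊓ (T : Subgroup G) ≠ ⊥ →
      Nat.card G - Nat.card ↥((S : Subgroup G) ⊓ (T : Subgroup G)) = n →
      Linked p (fam p f) ((S : Subgroup G) ⊓ (T : Subgroup G)) S T from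
    controls_of_linked fun S T _ hi => key _ S T hi rfl
  intro n
  induction n using Nat.strong_induction_on with
  | _ n ih =>
  intro S T hi hn
  by_cases hST : S = T
  · subst hST; exact .refl
  set W := (S : Subgroup G) ⊓ (T : Subgroup G) with hW
  have IH : ∀ (A B : Sylow p G) (U : Subgroup G), W ≤ U → Nat.card W < Nat.card U →
      U ≤ (A : Subgroup G) → U ≤ (B : Subgroup G) → Linked p (fam p f) W A B := by
    intro A B U hWU hlt hA hB
    have hle : U ≤ (A : Subgroup G) ⊓ (B : Subgroup G) := le_inf hA hB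
    have h1 := Subgroup.card_le_of_le hle
    have h2 := Subgroup.card_le_card_group ((A : Subgroup G) ⊓ (B : Subgroup G))
    have hne : (A : Subgroup G) ⊓ (B : Subgroup G) ≠ ⊥ :=
      fun h => hi (le_bot_iff.1 (h ▸ hWU.trans hle))
    exact (ih _ (by omega) A B hne rfl).mono (hWU.trans hle)
  have hWp : IsPGroup p W := S.isPGroup'.to_le inf_le_left
  obtain ⟨M, hNM, hM⟩ := exists_maximal (p := p)
    (⟨W, hWp, hi, rfl⟩ : Cfsg.IsPLocal p (Subgroup.normalizer (W : Set G)))
  have hS : W ≠ (S : Subgroup G) := fun h => hST (Sylow.ext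
    (S.is_maximal' T.isPGroup' (inf_eq_left.1 h)).symm)
  have hT : W ≠ (T : Subgroup G) := fun h => hST (Sylow.ext
    (T.is_maximal' S.isPGroup' (inf_eq_right.1 h)))
  exact link_in_local hf hf1 W hi IH (Nat.card G) M hM (fun P => Nat.sub_le _ _) S T
    ((S : Subgroup G) ⊓ Subgroup.normalizer (W : Set G))
    ((T : Subgroup G) ⊓ Subgroup.normalizer (W : Set G))
    (le_inf inf_le_left Subgroup.le_normalizer) (card_lt_inf_normalizer S inf_le_left hS)
    (inf_le_inf_left _ hNM)
    (le_inf inf_le_right Subgroup.le_normalizer) (card_lt_inf_normalizer T inf_le_right hT)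
    (inf_le_inf_left _ hNM)

end Helpers

/-- Let p be a prime dividing the order of the finite group G, and f an assignment to every p-subgroup P of a set f(P) of subgroups of P, each normalized by N_G(P), compatible with conjugation, such that for P ≠ 1 the members of f(P) are nontrivial. Let 𝓕 be the family of the normalizers N_G(F) of the members F of f(S) over the Sylow p-subgroups S of G, and 𝓕' the family of the maximal p-local subgroups M of G that are singular for f (the corresponding family of normalizers inside M does not control Sylow p-intersections in M). Then 𝓕 ∪ 𝓕' controls Sylow p-intersections in G. -/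
theorem result {G : Type*} [Group G] [Finite G] (p : ℕ) [Fact p.Prime] (hdiv : p ∣ Nat.card G)
    (f : Subgroup G → Set (Subgroup G)) (hf : Cfsg.IsNormalizerFunctor p f)
    (hf1 : ∀ P : Subgroup G, IsPGroup p ↥P → P ≠ ⊥ → ∀ F ∈ f P, F ≠ ⊥)
    (𝓕 𝓕' : Set (Subgroup G)) (h𝓕 : 𝓕 = Cfsg.functorFamily p f ⊤)
    (h𝓕' : 𝓕' = {M | Cfsg.IsMaximalPLocal p M ∧ ¬ Cfsg.IsFunctorRegular p f M}) :
    Cfsg.ControlsSylowIntersections p (𝓕 ∪ 𝓕') := by
  subst h𝓕 h𝓕'
  exact main hf hf1

end Cfsg.Agent.S2956
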