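import Cfsg.Statements.S2957
import Cfsg.Agent.Lib.LocalEven.SylowControl
import Cfsg.Agent.S2940

set_option autoImplicit false
open Cfsg CfsgLib.SylowControl

namespace Cfsg.Agent.S2957

section Helpers
variable {G : Type*} [Group G] [Finite G] {p : ℕ} [Fact p.Prime] {f : Subgroup G → Set (Subgroup G)}

theorem top_normal (hf : Cfsg.IsNormalizerFunctor p f) :
    Cfsg.IsNormalSet (Cfsg.functorFamily p f ⊤) := by
  rintro _ ⟨P, F, hF, rfl⟩ g
  set Pt : Sylow p G := Sylow.ofCard ((P : Subgroup (⊤ : Subgroup G)).map (⊤ : Subgroup G).subtype)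
    (by rw [Subgroup.card_map_of_injective (Subgroup.subtype_injective _), P.card_eq_multiplicity,
      Subgroup.card_top])
  rw [top_inf_eq, ← normalizer_conjRight]
  refine mem_functorFamily_top (P := conjSylow g Pt) ?_
  rw [coe_conjSylow, Cfsg.subgroupConjRight, Cfsg.subgroupConjRight]
  rw [(hf (Pt : Subgroup G) Pt.isPGroup').2 g⁻¹]
  exact ⟨F, hF, rfl⟩

/-- Regularity of `M ⊇ S` gives links in `G`. -/
theorem linked_of_regular (hf : Cfsg.IsNormalizerFunctor p f) {M : Subgroup G} (S₀ : Sylow p G)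
    (hS₀ : (S₀ : Subgroup G) ≤ M) (hr : Cfsg.IsFunctorRegular p f M) (A B : Sylow p G)
    (hA : (A : Subgroup G) ≤ M) (hB : (B : Subgroup G) ≤ M) {W : Subgroup G} (hW : W ≠ ⊥)
    (hWA : W ≤ (A : Subgroup G)) (hWB : W ≤ (B : Subgroup G)) :
    Linked p (Cfsg.functorFamily p f ⊤) W A B := by
  have hWM : W ≤ M := hWA.trans hA
  have hcardM : ∀ c : Sylow p M,
      Nat.card ↥((c : Subgroup M).map M.subtype) = p ^ (Nat.card G).factorization p := fun c => by
    rw [Subgroup.card_map_of_injective M.subtype_injective, c.card_eq_multiplicity,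
      ← (S₀.subtype hS₀).card_eq_multiplicity, Sylow.coe_subtype,
      Nat.card_congr (Subgroup.subgroupOfEquivOfLe hS₀).toEquiv, S₀.card_eq_multiplicity]
  let L : Sylow p M → Sylow p G := fun c => Sylow.ofCard _ (hcardM c)
  have hL : ∀ c : Sylow p M, (L c : Subgroup G) = (c : Subgroup M).map M.subtype := fun _ => rfl
  have hLA : L (A.subtype hA) = A := Sylow.ext (by
    rw [hL, Sylow.coe_subtype, Subgroup.map_subgroupOf_eq_of_le hA])
  have hLB : L (B.subtype hB) = B := Sylow.ext (by
    rw [hL, Sylow.coe_subtype, Subgroup.map_subgroupOf_eq_of_le hB])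
  have hWA' : W.subgroupOf M ≤ ((A.subtype hA : Sylow p M) : Subgroup M) := fun w hw => hWA hw
  have hWB' : W.subgroupOf M ≤ ((B.subtype hB : Sylow p M) : Subgroup M) := fun w hw => hWB hw
  have hne : ((A.subtype hA : Sylow p M) : Subgroup M) ⊓ (B.subtype hB : Sylow p M) ≠ ⊥ :=
    fun h => hW (by
      have : W.subgroupOf M = ⊥ := le_bot_iff.1 (h ▸ le_inf hWA' hWB')
      rwa [Subgroup.subgroupOf_eq_bot, disjoint_iff, inf_eq_left.2 hWM] at this)
  have hchain := controls_linked (W := W.subgroupOf M) hr hne (le_inf hWA' hWB')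
  have aux : ∀ d : Sylow p M, Linked p ((fun X : Subgroup G => X.subgroupOf M) ''
      Cfsg.functorFamily p f M) (W.subgroupOf M) (A.subtype hA) d →
      Linked p (Cfsg.functorFamily p f ⊤) W (L (A.subtype hA)) (L d) := by
    intro d hd
    induction hd with
    | refl => exact .refl
    | @tail c d _ hcd ihc =>
      obtain ⟨X, x, h1, h2, h3, h4, h5⟩ := hcd
      refine ihc.tail ?_
      rw [mem_sylowMembers_iff] at h1 h2
      obtain ⟨⟨_, ⟨P, F, hF, rfl⟩, rfl⟩, h1⟩ := h1
      have hnP := ((hf _ (P.isPGroup'.map M.subtype)).1 F hF)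
      have hPX : (P : Subgroup M) ≤
          (M ⊓ Subgroup.normalizer (F : Set G)).subgroupOf M := fun y hy =>
        ⟨y.2, hnP.2 (Subgroup.le_normalizer ⟨y, hy, rfl⟩)⟩
      have hcX := sylow_le_of_relIndex c P hPX h1
      have hdX := sylow_le_of_relIndex d P hPX h2.2
      have hcN : (L c : Subgroup G) ≤ Subgroup.normalizer (F : Set G) := by
        rw [hL]; exact Subgroup.map_le_iff_le_comap.2 fun y hy => (hcX hy).2
      have hdN : (L d : Subgroup G) ≤ Subgroup.normalizer (F : Set G) := by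
        rw [hL]; exact Subgroup.map_le_iff_le_comap.2 fun y hy => (hdX hy).2
      have hFam : Subgroup.normalizer (F : Set G) ∈ Cfsg.functorFamily p f ⊤ :=
        mem_functorFamily_top (P := L P) hF
      refine ⟨Subgroup.normalizer (F : Set G), (x : G), ?_, ?_, h3.2, ?_, ?_⟩
      · rw [mem_sylowMembers_iff]
        exact ⟨hFam, fun h => (L c).not_dvd_index (h.trans (Subgroup.relIndex_dvd_index_of_le hcN))⟩
      · rw [mem_sylowMembers_iff]
        exact ⟨hFam, fun h => (L d).not_dvd_index (h.trans (Subgroup.relIndex_dvd_index_of_le hdN))⟩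
      · rw [hL, hL, ← map_conjRight_subtype, h4]
      · have hWd : W ≤ (L d : Subgroup G) := fun w hw => ⟨⟨w, hWM hw⟩, (h5 hw).1, rfl⟩
        exact le_inf hWd (hWd.trans hdN)
  have := aux _ hchain
  rwa [hLA, hLB] at this

/-- Transfer of links in `G` to the whole group seen as a subgroup. -/
theorem regular_top (h : ∀ S T : Sylow p G, S ≠ T → (S : Subgroup G) ⊓ (T : Subgroup G) ≠ ⊥ →
      Linked p (Cfsg.functorFamily p f ⊤) ((S : Subgroup G) ⊓ (T : Subgroup G)) S T) :
    Cfsg.IsFunctorRegular p f ⊤ := by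
  refine controls_of_linked fun c d hne hi => ?_
  let up : Sylow p (⊤ : Subgroup G) → Sylow p G := fun c =>
    Sylow.ofCard ((c : Subgroup (⊤ : Subgroup G)).map (⊤ : Subgroup G).subtype)
      (by rw [Subgroup.card_map_of_injective (Subgroup.subtype_injective _), c.card_eq_multiplicity,
        Subgroup.card_top])
  let down : Sylow p G → Sylow p (⊤ : Subgroup G) := fun C => C.subtype le_top
  have hdu : ∀ c, down (up c) = c := fun c => Sylow.ext (by
    change ((c : Subgroup (⊤ : Subgroup G)).map (⊤ : Subgroup G).subtype).subgroupOf ⊤ = _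
    exact Subgroup.comap_map_eq_self_of_injective (Subgroup.subtype_injective _) _)
  have hinj : ((c : Subgroup (⊤ : Subgroup G)) ⊓ d).map (⊤ : Subgroup G).subtype =
      (up c : Subgroup G) ⊓ (up d : Subgroup G) :=
    Subgroup.map_inf _ _ _ (Subgroup.subtype_injective _)
  have hL := h (up c) (up d) (fun e => hne (by rw [← hdu c, ← hdu d, e])) (fun e => hi (by
    apply Subgroup.map_injective (Subgroup.subtype_injective (⊤ : Subgroup G))
    rw [hinj, e, Subgroup.map_bot]))
  have aux : ∀ D : Sylow p G, Linked p (Cfsg.functorFamily p f ⊤)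
      ((up c : Subgroup G) ⊓ (up d : Subgroup G)) (up c) D →
      Linked p ((fun X : Subgroup G => X.subgroupOf ⊤) '' Cfsg.functorFamily p f ⊤)
        ((c : Subgroup (⊤ : Subgroup G)) ⊓ d) (down (up c)) (down D) := by
    intro D hD
    induction hD with
    | refl => exact .refl
    | @tail C D _ hCD ih =>
      obtain ⟨X, x, h1, h2, h3, h4, h5⟩ := hCD
      refine ih.tail ⟨X.subgroupOf ⊤, ⟨x, Subgroup.mem_top x⟩, ?_, ?_, h3, ?_, ?_⟩
      · rw [mem_sylowMembers_iff] at h1 ⊢
        refine ⟨⟨X, h1.1, rfl⟩, ?_⟩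
        rw [Sylow.coe_subtype, Subgroup.relIndex_subgroupOf le_top]
        exact h1.2
      · rw [mem_sylowMembers_iff] at h2 ⊢
        refine ⟨⟨X, h2.1, rfl⟩, ?_⟩
        rw [Sylow.coe_subtype, Subgroup.relIndex_subgroupOf le_top]
        exact h2.2
      · apply Subgroup.map_injective (Subgroup.subtype_injective (⊤ : Subgroup G))
        rw [map_conjRight_subtype]
        simp only [down, Sylow.coe_subtype, Subgroup.map_subgroupOf_eq_of_le le_top]
        exact h4
      · intro w hw
        exact h5 (hinj ▸ Subgroup.mem_map_of_mem _ hw)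
  have := aux _ hL
  rwa [hdu, hdu] at this

end Helpers

/-- Let p be a prime dividing the order of the finite group G, f an equivariant assignment of a set of subgroups f(P) of P to every p-subgroup P, each normalized by N_G(P), and S a Sylow p-subgroup. If G = G₁G₂ for subgroups G₁, G₂ both containing S and both regular for f (in each Gᵢ, the family of normalizers in Gᵢ of the members of f(P), P a Sylow p-subgroup of Gᵢ, controls Sylow p-intersections), then G itself is regular for f. -/
theorem result {G : Type*} [Group G] [Finite G] (p : ℕ) [Fact p.Prime] (hdiv : p ∣ Nat.card G)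
    (f : Subgroup G → Set (Subgroup G)) (hf : Cfsg.IsNormalizerFunctor p f) (S : Sylow p G)
    (G₁ G₂ : Subgroup G) (h₁ : (S : Subgroup G) ≤ G₁) (h₂ : (S : Subgroup G) ≤ G₂)
    (hprod : ∀ g : G, ∃ g₁ ∈ G₁, ∃ g₂ ∈ G₂, g = g₁ * g₂)
    (hr₁ : Cfsg.IsFunctorRegular p f G₁) (hr₂ : Cfsg.IsFunctorRegular p f G₂) :
    Cfsg.IsFunctorRegular p f ⊤ := by
  refine regular_top fun A B _ hi => ?_
  have hnorm := top_normal hf
  -- move `A` to `S`
  obtain ⟨h, hh⟩ := exists_conjRight_eq A S
  have hA : conjSylow h A = S := Sylow.ext hh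
  set B' := conjSylow h B with hB'
  obtain ⟨g, hg⟩ := exists_conjRight_eq S B'
  set W := (S : Subgroup G) ⊓ (B' : Subgroup G) with hW
  have hWeq : Cfsg.subgroupConjRight h ((A : Subgroup G) ⊓ (B : Subgroup G)) = W := by
    rw [conjRight_inf, hh, hW, hB', coe_conjSylow]
  have hW0 : W ≠ ⊥ := hWeq ▸ conjRight_ne_bot h hi
  obtain ⟨U, hU1, hU2⟩ := Cfsg.Agent.S2940.result S G₁ G₂ h₁ h₂ hprod g
  rw [hg] at hU1
  have e1 : Linked p (Cfsg.functorFamily p f ⊤) W S U :=
    linked_of_regular hf S h₁ hr₁ S U h₁ (hU2.trans inf_le_left) hW0 inf_le_left hU1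
  have e2 : Linked p (Cfsg.functorFamily p f ⊤) W U B' := by
    set W' := Cfsg.subgroupConjRight g⁻¹ W
    have hB2 : conjSylow g⁻¹ B' = S := Sylow.ext (by
      rw [coe_conjSylow, ← hg, conjRight_inv_conjRight])
    have hUG : (conjSylow g⁻¹ U : Subgroup G) ≤ G₂ := by
      rw [coe_conjSylow]
      exact (conjRight_mono (hU2.trans inf_le_right)).trans (conjRight_inv_conjRight g G₂).le
    have := linked_of_regular hf S h₂ hr₂ (conjSylow g⁻¹ U) S hUG h₂
      (conjRight_ne_bot g⁻¹ hW0 : W' ≠ ⊥) (by rw [coe_conjSylow]; exact conjRight_mono hU1)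
      (by rw [← hB2, coe_conjSylow]; exact conjRight_mono inf_le_right)
    have h2 := this.conj hnorm g
    rw [show Cfsg.subgroupConjRight g W' = W from conjRight_conjRight_inv g W] at h2
    have eU : conjSylow g (conjSylow g⁻¹ U) = U := Sylow.ext (by simp [conjRight_conjRight_inv])
    have eS : conjSylow g S = B' := Sylow.ext (by rw [coe_conjSylow, hg])
    rwa [eU, eS] at h2
  have e3 := Linked.conj hnorm h⁻¹ (e1.trans e2)
  have eW : Cfsg.subgroupConjRight h⁻¹ W = (A : Subgroup G) ⊓ (B : Subgroup G) := by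
    rw [← hWeq, conjRight_inv_conjRight]
  have eA : conjSylow h⁻¹ S = A := Sylow.ext (by rw [coe_conjSylow, ← hh, conjRight_inv_conjRight])
  have eB : conjSylow h⁻¹ B' = B :=
    Sylow.ext (by rw [coe_conjSylow, hB', coe_conjSylow, conjRight_inv_conjRight])
  rwa [eW, eA, eB] at e3

end Cfsg.Agent.S2957
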