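import Cfsg.Statements.S2958


set_option autoImplicit false
open Cfsg

namespace Cfsg.Agent.S2958

/-- Let X, A, B be subgroups of a group G such that G is generated by the conjugates of X and every conjugate of X is contained in A or in B. Then A = G or B = G. -/
theorem result {G : Type*} [Group G] (X A B : Subgroup G) (hgen : (⨆ g : G, X.map (MulAut.conj g).toMonoidHom) = ⊤) (hcover : ∀ g : G, X.map (MulAut.conj g).toMonoidHom ≤ A ∨ X.map (MulAut.conj g).toMonoidHom ≤ B) : A = ⊤ ∨ B = ⊤ := by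
  by_contra hne
  rw [not_or] at hne
  obtain ⟨hA, hB⟩ := hne
  set c : G → Subgroup G := fun g => X.map (MulAut.conj g).toMonoidHom with hc
  set N : Subgroup G := ⨆ g : {g : G // ¬ c g ≤ A}, c g with hN
  have hNB : N ≤ B := iSup_le fun g => (hcover g.1).resolve_left g.2
  obtain ⟨g₀, hg₀⟩ : ∃ g, ¬ c g ≤ A := by
    by_contra h
    rw [not_exists_not] at h
    exact hA (top_le_iff.1 (hgen ▸ iSup_le h))
  have hmul : ∀ a g : G, (c g).map (MulAut.conj a).toMonoidHom = c (a * g) := by
    intro a g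
    rw [hc]
    simp only [Subgroup.map_map]
    congr 1
    ext x
    simp [mul_assoc]
  have hnorm : ∀ h : G, c h ≤ Subgroup.normalizer (N : Set G) := by
    intro h
    by_cases hh : c h ≤ A
    · have key : ∀ a ∈ c h, ∀ x ∈ N, a * x * a⁻¹ ∈ N := by
        intro a ha x hx
        have hle : N.map (MulAut.conj a).toMonoidHom ≤ N := by
          rw [hN, Subgroup.map_iSup]
          refine iSup_le fun g => ?_
          rw [hmul]
          refine le_iSup_of_le ⟨a * g, fun hag => g.2 ?_⟩ le_rfl
          intro y hy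
          have hy' : a * y * a⁻¹ ∈ c (a * g) := by
            rw [← hmul]; exact ⟨y, hy, rfl⟩
          have := A.mul_mem (A.mul_mem (A.inv_mem (hh ha)) (hag hy')) (hh ha)
          simpa [mul_assoc] using this
        exact hle ⟨x, hx, rfl⟩
      intro a ha
      rw [Subgroup.mem_normalizer_iff]
      intro x
      refine ⟨key a ha x, fun hx => ?_⟩
      simpa [mul_assoc] using key a⁻¹ (inv_mem ha) _ hx
    · exact (le_iSup (fun g : {g : G // ¬ c g ≤ A} => c g) ⟨h, hh⟩).trans Subgroup.le_normalizer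
  have hNn : N.Normal :=
    Subgroup.normalizer_eq_top_iff.1 (top_le_iff.1 (hgen ▸ iSup_le hnorm))
  refine hB (top_le_iff.1 ?_)
  rw [← hgen]
  refine iSup_le fun g => le_trans ?_ hNB
  intro y hy
  obtain ⟨x, hx, rfl⟩ := hy
  have h0 : g₀ * x * g₀⁻¹ ∈ N :=
    le_iSup (fun g : {g : G // ¬ c g ≤ A} => c g) ⟨g₀, hg₀⟩ ⟨x, hx, rfl⟩
  have := hNn.conj_mem _ h0 (g * g₀⁻¹)
  simpa [mul_assoc] using this

end Cfsg.Agent.S2958
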