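import Cfsg.Statements.S2961
import Cfsg.Agent.Lib.LocalEven.CharP

set_option autoImplicit false
open Cfsg CfsgLib.LocalEvenCharP

namespace Cfsg.Agent.S2961

/-- Let G be a finite group of characteristic p (C_G(O_p(G)) ≤ O_p(G)), p prime, T a Sylow p-subgroup of G and Q a normal subgroup of T with C_T(Q) ≤ Q. Then every subgroup L of G containing Q has characteristic p: C_L(O_p(L)) ≤ O_p(L). -/
theorem result {G : Type*} [Group G] [Finite G] {p : ℕ} [Fact p.Prime] (hG : Subgroup.centralizer (Cfsg.pCore p G : Set G) ≤ Cfsg.pCore p G) (T : Sylow p G) (Q : Subgroup G) (hQT : Q ≤ (T : Subgroup G)) (hQn : (T : Subgroup G) ≤ Subgroup.normalizer (Q : Set G)) (hC : (T : Subgroup G) ⊓ Subgroup.centralizer (Q : Set G) ≤ Q) (L : Subgroup G) (hQL : Q ≤ L) : Subgroup.centralizer (Cfsg.pCore p ↥L : Set ↥L) ≤ Cfsg.pCore p ↥L := by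
  have hCQ := IsCharP.centralizer_le_of_sylow hG T hQT hQn hC
  refine isCharP_subgroup fun c₀ hc₀L hc₀ hcent₀ => ?_
  set R := Cfsg.pCore p G with hR
  have hRn : ∀ g : G, g ∈ Subgroup.normalizer (R : Set G) := fun g => by
    rw [Subgroup.normalizer_eq_top_iff.2 (Cfsg.pCore_normal p G)]; trivial
  set K := L ⊓ Subgroup.centralizer (Cfsg.pCoreOf p L : Set G) with hK
  set D := R ⊓ L with hDdef
  have hnormL : ∀ l ∈ L, ∀ x ∈ D, l * x * l⁻¹ ∈ D := fun l hl x hx =>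
    ⟨(Cfsg.pCore_normal p G).conj_mem x hx.1 l, L.mul_mem (L.mul_mem hl hx.2) (L.inv_mem hl)⟩
  have hDle : D ≤ Cfsg.pCoreOf p L := by
    refine le_pCoreOf inf_le_right ?_ ((isPGroup_pCore p G).to_le inf_le_left)
    intro l hl
    rw [Subgroup.mem_normalizer_iff]
    intro x
    exact and_congr ((Subgroup.mem_normalizer_iff.1 (hRn l)) x)
      ((Subgroup.mem_normalizer_iff.1 (Subgroup.le_normalizer hl)) x)
  have hKn : ∀ l ∈ L, ∀ k ∈ K, l * k * l⁻¹ ∈ K := by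
    intro l hl k hk
    refine ⟨L.mul_mem (L.mul_mem hl hk.1) (L.inv_mem hl), Subgroup.mem_centralizer_iff.2 ?_⟩
    intro z hz
    have h1 := Subgroup.mem_centralizer_iff.1 hk.2 _
      ((Subgroup.mem_normalizer_iff''.1 (le_normalizer_pCoreOf p L hl) z).1 hz)
    calc z * (l * k * l⁻¹) = l * ((l⁻¹ * z * l) * k) * l⁻¹ := by group
      _ = l * (k * (l⁻¹ * z * l)) * l⁻¹ := by rw [h1]
      _ = l * k * l⁻¹ * z := by group
  -- `x` is moved by elements of `Q` only inside `D`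
  have hRQ : ∀ x ∈ R, ∀ q ∈ Q, q * x * q⁻¹ * x⁻¹ ∈ D := by
    intro x hx q hq
    refine ⟨R.mul_mem ((Cfsg.pCore_normal p G).conj_mem x hx q) (R.inv_mem hx), hQL ?_⟩
    have hxT : x ∈ (T : Subgroup G) :=
      (le_sup_right.trans (T.is_maximal' (T.isPGroup'.to_sup_of_normal_right
        (isPGroup_pCore p G)) le_sup_left).le) hx
    have h2 := Q.mul_mem hq ((Subgroup.mem_normalizer_iff.1 (hQn hxT) q⁻¹).1 (Q.inv_mem hq))
    simpa [mul_assoc] using h2
  have hcD : ∀ k ∈ K, ∀ d ∈ D, k * d = d * k := fun k hk d hd =>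
    (Subgroup.mem_centralizer_iff.1 hk.2 d (hDle hd)).symm
  set W := Subgroup.closure {w : G | ∃ k ∈ K, ∃ q ∈ Q, k * q * k⁻¹ * q⁻¹ = w} with hW
  have hgen : ∀ k ∈ K, ∀ q ∈ Q, ∀ x ∈ R,
      (k * q * k⁻¹ * q⁻¹) * x * (k * q * k⁻¹ * q⁻¹)⁻¹ * x⁻¹ ∈ D := by
    intro k hk q hq x hx
    have hu : k⁻¹ * (q⁻¹ * x * q) * k ∈ R := by
      simpa using (Cfsg.pCore_normal p G).conj_mem _
        ((Cfsg.pCore_normal p G).conj_mem x hx q⁻¹) k⁻¹
    have h1 : q⁻¹ * x * q * x⁻¹ ∈ D := by simpa using hRQ x hx q⁻¹ (Q.inv_mem hq)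
    set u := k⁻¹ * (q⁻¹ * x * q) * k
    have h2 := hRQ u hu q hq
    set d₁ := q⁻¹ * x * q * x⁻¹
    set d₂ := q * u * q⁻¹ * u⁻¹
    have h3 : k⁻¹ * (q⁻¹ * x * q) * k = d₁ * (k⁻¹ * x * k) := by
      have h := hcD k hk d₁ h1
      calc k⁻¹ * (q⁻¹ * x * q) * k = k⁻¹ * (d₁ * x) * k := by simp only [d₁]; group
        _ = (k⁻¹ * (d₁ * k)) * (k⁻¹ * x * k) := by group
        _ = d₁ * (k⁻¹ * x * k) := by rw [← h]; group
    have h4 : (k * q * k⁻¹ * q⁻¹) * x * (k * q * k⁻¹ * q⁻¹)⁻¹ = (d₂ * d₁) * x := by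
      calc (k * q * k⁻¹ * q⁻¹) * x * (k * q * k⁻¹ * q⁻¹)⁻¹ = k * (d₂ * u) * k⁻¹ := by
            simp only [d₂, u]; group
        _ = k * (d₂ * (d₁ * (k⁻¹ * x * k))) * k⁻¹ := by
            rw [show u = d₁ * (k⁻¹ * x * k) from h3]
        _ = (k * (d₂ * d₁)) * k⁻¹ * x := by group
        _ = (d₂ * d₁) * x := by rw [hcD k hk _ (D.mul_mem h2 h1)]; group
    rw [h4, mul_inv_cancel_right]
    exact D.mul_mem h2 h1
  have hWK : W ≤ K := by
    rw [hW, Subgroup.closure_le]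
    rintro w ⟨k, hk, q, hq, rfl⟩
    have := K.mul_mem hk (hKn q (hQL hq) k⁻¹ (K.inv_mem hk))
    simpa [mul_assoc] using this
  have hWR : ∀ w ∈ W, ∀ x ∈ R, w * x * w⁻¹ * x⁻¹ ∈ D := by
    intro w hw
    induction hw using Subgroup.closure_induction with
    | mem w hw => obtain ⟨k, hk, q, hq, rfl⟩ := hw; exact hgen k hk q hq
    | one => intro x _; simpa using D.one_mem
    | mul a b ha hb iha ihb =>
      intro x hx
      have h1 := D.mul_mem (iha _ ((Cfsg.pCore_normal p G).conj_mem x hx b)) (ihb x hx)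
      simpa [mul_assoc] using h1
    | inv a ha iha =>
      intro x hx
      have h1 := D.inv_mem (iha (a⁻¹ * x * a)
        (by simpa using (Cfsg.pCore_normal p G).conj_mem x hx a⁻¹))
      simpa [mul_assoc] using h1
  have hWp : IsPGroup p W := isPGroup_of_forall_coprime fun w hw hcop => by
    refine IsCharP.eq_one hG hcop fun x hx => ?_
    have h := hWR w hw x hx
    have h3 := eq_one_of_conj_eq (isPGroup_pCore p G) hcop h.1 (hcD w (hWK hw) _ h) (x := x)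
      (by group)
    rwa [mul_inv_eq_one, mul_inv_eq_iff_eq_mul] at h3
  have hKW : ∀ k ∈ K, k ∈ Subgroup.normalizer (W : Set G) := by
    intro k hk
    rw [Subgroup.mem_normalizer_iff]
    have hmem : ∀ a ∈ K, ∀ w ∈ W, a * w * a⁻¹ ∈ W := by
      intro a ha w hw
      induction hw using Subgroup.closure_induction with
      | mem w hw =>
        obtain ⟨b, hb, q, hq, rfl⟩ := hw
        have h1 : (a * b) * q * (a * b)⁻¹ * q⁻¹ ∈ W :=
          Subgroup.subset_closure ⟨a * b, K.mul_mem ha hb, q, hq, rfl⟩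
        have h2 : a * q * a⁻¹ * q⁻¹ ∈ W := Subgroup.subset_closure ⟨a, ha, q, hq, rfl⟩
        have h3 := W.mul_mem h1 (W.inv_mem h2)
        simpa [mul_assoc] using h3
      | one => simp
      | mul x y _ _ ihx ihy => simpa [mul_assoc] using W.mul_mem ihx ihy
      | inv x _ ih => simpa [mul_assoc] using W.inv_mem ih
    intro w
    refine ⟨hmem k hk w, fun h => ?_⟩
    simpa [mul_assoc] using hmem k⁻¹ (K.inv_mem hk) _ h
  have hWcore : W ≤ Cfsg.pCoreOf p K := le_pCoreOf hWK hKW hWp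
  have hKcore : Cfsg.pCoreOf p K ≤ Cfsg.pCoreOf p L := by
    refine le_pCoreOf ((pCoreOf_le p K).trans inf_le_left) ?_ (isPGroup_pCoreOf p K)
    have hKL : L ≤ Subgroup.normalizer (K : Set G) := by
      intro l hl
      rw [Subgroup.mem_normalizer_iff]
      intro k
      refine ⟨hKn l hl k, fun h => ?_⟩
      simpa [mul_assoc] using hKn l⁻¹ (L.inv_mem hl) _ h
    intro l hl
    rw [Subgroup.mem_normalizer_iff]
    have hmem : ∀ a ∈ L, ∀ z ∈ Cfsg.pCoreOf p K, a * z * a⁻¹ ∈ Cfsg.pCoreOf p K := by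
      intro a ha
      have h1 : (Cfsg.pCoreOf p K).map (MulAut.conj a).toMonoidHom ≤ Cfsg.pCoreOf p K := by
        refine le_pCoreOf ?_ ?_ ((isPGroup_pCoreOf p K).map _)
        · rintro _ ⟨z, hz, rfl⟩
          exact (Subgroup.mem_normalizer_iff.1 (hKL ha) z).1 (pCoreOf_le p K hz)
        · intro b hb
          rw [Subgroup.mem_normalizer_iff]
          have hb' : a⁻¹ * b * a ∈ K := (Subgroup.mem_normalizer_iff''.1 (hKL ha) b).1 hb
          intro z
          have h2 := Subgroup.mem_normalizer_iff.1 (le_normalizer_pCoreOf p K hb') (a⁻¹ * z * a)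
          have e1 : ∀ y : G, y ∈ (Cfsg.pCoreOf p K).map (MulAut.conj a).toMonoidHom ↔
              a⁻¹ * y * a ∈ Cfsg.pCoreOf p K := fun y => by
            rw [Subgroup.mem_map_equiv]; rfl
          rw [e1, e1, h2]
          simp [mul_assoc]
      exact fun z hz => h1 ⟨z, hz, rfl⟩
    intro z
    refine ⟨hmem l hl z, fun h => ?_⟩
    simpa [mul_assoc] using hmem l⁻¹ (L.inv_mem hl) _ h
  have hc₀K : c₀ ∈ K :=
    ⟨hc₀L, Subgroup.mem_centralizer_iff.2 fun x hx => (hcent₀ x hx).symm⟩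
  refine eq_one_of_coprime_of_mem (T.isPGroup'.to_le hQT) (hCQ ?_) hc₀
  refine Subgroup.mem_centralizer_iff.2 fun q hq => ?_
  have hy : c₀ * q * c₀⁻¹ * q⁻¹ ∈ W := Subgroup.subset_closure ⟨c₀, hc₀K, q, hq, rfl⟩
  have h4 := eq_one_of_conj_eq (isPGroup_pCoreOf p L) hc₀ (hKcore (hWcore hy))
    (hcent₀ _ (hKcore (hWcore hy))) (x := q) (by group)
  rw [mul_inv_eq_one, mul_inv_eq_iff_eq_mul] at h4
  exact h4.symm

end Cfsg.Agent.S2961
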