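import Cfsg.Statements.S2963
import Mathlib

set_option autoImplicit false
open Cfsg

namespace Cfsg.Agent.S2963

lemma odd_choose_two_pow (a : ℕ) {m : ℕ} (hle : 2 ^ a ≤ m) (hlt : m < 2 ^ (a + 1)) : Odd (m.choose (2 ^ a)) := by
  haveI : Fact (Nat.Prime 2) := ⟨Nat.prime_two⟩
  induction a generalizing m with
  | zero =>
    have : m = 1 := by simp at hle hlt; omega
    subst this
    decide
  | succ a ih =>
    have h := Choose.choose_modEq_choose_mod_mul_choose_div_nat (p := 2) (n := m) (k := 2 ^ (a + 1))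
    rw [show (2 : ℕ) ^ (a + 1) % 2 = 0 by simp [pow_succ], show (2 : ℕ) ^ (a + 1) / 2 = 2 ^ a by simp [pow_succ],
      Nat.choose_zero_right, one_mul] at h
    have h2 : Odd ((m / 2).choose (2 ^ a)) := ih (by rw [pow_succ] at hle; omega) (by rw [pow_succ 2 (a + 1)] at hlt; omega)
    rw [Nat.odd_iff] at h2 ⊢
    exact Eq.trans (show _ % 2 = _ % 2 from h) h2

lemma exists_perm_pair {n : ℕ} (x : Fin n) (s t : Finset (Fin n)) (hs : x ∉ s) (ht : x ∉ t) (hc : s.card = t.card) :
    ∃ g : Equiv.Perm (Fin n), g x = x ∧ s.map g.toEmbedding = t := by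
  classical
  let e := Finset.equivOfCardEq hc
  let e1 : {y // y ∈ s ∨ y = x} → Fin n := fun y => if h : (y : Fin n) ∈ s then (e ⟨y, h⟩ : Fin n) else x
  have he1 : Function.Injective e1 := by
    rintro ⟨y, hy⟩ ⟨z, hz⟩ h
    simp only [e1] at h
    by_cases h1 : y ∈ s <;> by_cases h2 : z ∈ s <;> simp only [h1, h2, dite_true, dite_false] at h
    · exact Subtype.ext (by simpa using e.injective (Subtype.ext h))
    · exact absurd (h ▸ (e ⟨y, h1⟩).2) ht
    · exact absurd (h ▸ (e ⟨z, h2⟩).2) ht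
    · exact Subtype.ext ((hy.resolve_left h1).trans (hz.resolve_left h2).symm)
  obtain ⟨g, hg⟩ := Equiv.Perm.exists_extending_pair (fun y : {y // y ∈ s ∨ y = x} => (y : Fin n)) e1
    Subtype.val_injective he1
  refine ⟨g, ?_, Finset.eq_of_subset_of_card_le ?_ (by rw [Finset.card_map, hc])⟩
  · have := hg ⟨x, Or.inr rfl⟩
    simpa [e1, hs] using this
  · intro z hz
    obtain ⟨y, hy, rfl⟩ := Finset.mem_map.1 hz
    have := hg ⟨y, Or.inl hy⟩
    simp only [Function.comp_apply, e1, dif_pos hy] at this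
    show g y ∈ t
    rw [this]; exact (e ⟨y, hy⟩).2

lemma exists_sylow_le {G : Type*} [Group G] [Finite G] (L : Subgroup G) (h : Odd L.index) :
    ∃ S : Sylow 2 G, (S : Subgroup G) ≤ L := by
  haveI : Fact (Nat.Prime 2) := ⟨Nat.prime_two⟩
  obtain ⟨T⟩ := (inferInstance : Nonempty (Sylow 2 ↥L))
  obtain ⟨S, hS⟩ := (T.2.map L.subtype).exists_le_sylow
  refine ⟨S, ?_⟩
  have h1 : ¬ 2 ∣ ((T : Subgroup ↥L).map L.subtype).index := by
    rw [Subgroup.index_map_subtype, Nat.two_dvd_ne_zero, Nat.mul_mod, Nat.two_dvd_ne_zero.1 T.not_dvd_index,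
      Nat.odd_iff.1 h]
  rw [(IsPGroup.toSylow (T.2.map L.subtype) h1).3 S.2 hS]
  exact Subgroup.map_subtype_le _

/-- Let n be odd. If the symmetric group of degree n is a minimal parabolic group for the prime 2, that is, a Sylow 2-subgroup is not normal and lies in exactly one maximal subgroup, then n = 2^m + 1 for some natural number m. -/
theorem result (n : ℕ) (hn : Odd n) (h : Cfsg.IsPMinimal 2 (Equiv.Perm (Fin n))) : ∃ m : ℕ, n = 2 ^ m + 1 := by
  classical
  by_cases h1 : n = 1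
  · subst h1
    exfalso
    obtain ⟨S⟩ := (inferInstance : Nonempty (Sylow 2 (Equiv.Perm (Fin 1))))
    refine (h S).1 ⟨fun a ha g => ?_⟩
    rw [Subsingleton.elim (g * a * g⁻¹) a]; exact ha
  obtain ⟨j, hj⟩ := hn
  by_contra hnot
  push Not at hnot
  -- a proper binary digit of `n - 1`
  set a := Nat.log 2 (n - 1) with ha
  have hn1 : n - 1 ≠ 0 := by omega
  have hle : 2 ^ a ≤ n - 1 := Nat.pow_log_le_self 2 hn1
  have hlt : n - 1 < 2 ^ (a + 1) := Nat.lt_pow_succ_log_self (by norm_num) _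
  have hne : 2 ^ a ≠ n - 1 := fun e => hnot a (by omega)
  haveI : Fact (Nat.Prime 2) := ⟨Nat.prime_two⟩
  have hodd : Odd ((n - 1).choose (2 ^ a)) :=
    odd_choose_two_pow a hle hlt
  -- the point, the subset, and the subgroup of odd index
  let x : Fin n := ⟨0, by omega⟩
  obtain ⟨K, hKsub, hKc⟩ := Finset.exists_subset_card_eq
    (s := Finset.univ.erase x) (n := 2 ^ a) (by simpa using hle)
  have hxK : x ∉ K := fun h => Finset.notMem_erase x _ (hKsub h)
  set A : Subgroup (Equiv.Perm (Fin n)) := MulAction.stabilizer _ x with hA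
  have htrans : MulAction.IsPretransitive (Equiv.Perm (Fin n)) (Fin n) :=
    ⟨fun u v => ⟨Equiv.swap u v, Equiv.swap_apply_left u v⟩⟩
  have hAidx : A.index = n := by
    rw [hA, MulAction.index_stabilizer_of_transitive, Nat.card_fin]
  letI : MulAction ↥A {s : Finset (Fin n) // x ∉ s ∧ s.card = 2 ^ a} :=
    { smul := fun g s => ⟨s.1.map (g : Equiv.Perm (Fin n)).toEmbedding, fun hx => by
          obtain ⟨y, hy, hyx⟩ := Finset.mem_map.1 hx
          have hg : (g : Equiv.Perm (Fin n)) x = x := g.2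
          exact s.2.1 ((g : Equiv.Perm (Fin n)).injective (hyx.trans hg.symm) ▸ hy),
        by rw [Finset.card_map]; exact s.2.2⟩
      one_smul := fun s => Subtype.ext (Finset.map_refl)
      mul_smul := fun g g' s => Subtype.ext (by
        show s.1.map _ = (s.1.map _).map _
        rw [Finset.map_map]; rfl) }
  have htr2 : MulAction.IsPretransitive ↥A {s : Finset (Fin n) // x ∉ s ∧ s.card = 2 ^ a} := by
    refine ⟨fun s t => ?_⟩
    obtain ⟨g₀, hg₀⟩ := exists_perm_pair x s.1 t.1 s.2.1 t.2.1 (s.2.2.trans t.2.2.symm)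
    exact ⟨⟨g₀, hg₀.1⟩, Subtype.ext hg₀.2⟩
  set L' := MulAction.stabilizer ↥A (⟨K, hxK, hKc⟩ : {s : Finset (Fin n) // x ∉ s ∧ s.card = 2 ^ a})
  set L := L'.map A.subtype with hL
  have hLidx : Odd L.index := by
    have : L'.index = (n - 1).choose (2 ^ a) := by
      rw [MulAction.index_stabilizer_of_transitive, Nat.card_eq_fintype_card, Fintype.card_subtype,
        show (Finset.univ.filter fun s : Finset (Fin n) => x ∉ s ∧ s.card = 2 ^ a) =
          Finset.powersetCard (2 ^ a) (Finset.univ.erase x) from ?_, Finset.card_powersetCard,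
        Finset.card_erase_of_mem (Finset.mem_univ x), Finset.card_univ, Fintype.card_fin]
      ext s; simp [Finset.mem_powersetCard, Finset.subset_erase]
    rw [hL, Subgroup.index_map_subtype, this, hAidx]
    exact hodd.mul ⟨j, hj⟩
  obtain ⟨S, hS⟩ := exists_sylow_le L hLidx
  obtain ⟨M, ⟨hM, hSM⟩, huniq⟩ := (h S).2
  have hsub : ∀ B : Subgroup (Equiv.Perm (Fin n)), B ≠ ⊤ → (S : Subgroup (Equiv.Perm (Fin n))) ≤ B → B ≤ M := by
    intro B hB hSB
    obtain ⟨C, hC, hBC⟩ := (eq_top_or_exists_le_coatom B).resolve_left hB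
    exact hBC.trans (huniq C ⟨hC, hSB.trans hBC⟩).le
  obtain ⟨k, hk⟩ : ∃ k, k ∈ K := Finset.card_pos.1 (by rw [hKc]; positivity) |>.exists_mem
  obtain ⟨z, hz, hzx⟩ : ∃ z, z ∉ K ∧ z ≠ x := by
    by_contra h'
    push Not at h'
    have : (Finset.univ : Finset (Fin n)) ⊆ insert x K := fun y _ =>
      Finset.mem_insert.2 ((em (y ∈ K)).symm.imp_left fun hy => h' y hy)
    have := Finset.card_le_card this
    rw [Finset.card_univ, Fintype.card_fin, Finset.card_insert_of_notMem hxK, hKc] at this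
    omega
  set B : Subgroup (Equiv.Perm (Fin n)) :=
    { carrier := {g | ∀ y, g y ∈ K ↔ y ∈ K}
      one_mem' := fun y => Iff.rfl
      mul_mem' := fun {g g'} hg hg' y => (hg (g' y)).trans (hg' y)
      inv_mem' := fun {g} hg y => by simpa using (hg (g⁻¹ y)).symm }
  have hAtop : A ≠ ⊤ := fun e => by
    have : A.index = 1 := e ▸ Subgroup.index_top
    omega
  have hBtop : B ≠ ⊤ := fun e => by
    have : Equiv.swap k z ∈ B := e ▸ Subgroup.mem_top _
    exact hz ((this k).2 hk |> fun hh => by rwa [Equiv.swap_apply_left] at hh)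
  have hLA : L ≤ A := Subgroup.map_subtype_le _
  have hLB : L ≤ B := by
    rintro _ ⟨g, hg, rfl⟩ y
    have e : K.map (g : Equiv.Perm (Fin n)).toEmbedding = K := congrArg Subtype.val hg
    have h2 := Finset.mem_map' (g : Equiv.Perm (Fin n)).toEmbedding (s := K) (a := y)
    rw [e] at h2
    exact h2
  have hswap : Equiv.swap x z ∈ M := hsub B hBtop (hS.trans hLB) (fun y => by
    rcases eq_or_ne y x with rfl | hyx
    · simp [Equiv.swap_apply_left, hz, hxK]
    rcases eq_or_ne y z with rfl | hyz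
    · simp [Equiv.swap_apply_right, hz, hxK]
    · rw [Equiv.swap_apply_of_ne_of_ne hyx hyz])
  apply hM.1
  rw [eq_top_iff]
  intro g _
  by_cases hg : g x = x
  · exact hsub A hAtop (hS.trans hLA) hg
  · have hs : Equiv.swap z (g x) ∈ M := hsub A hAtop (hS.trans hLA) (Equiv.swap_apply_of_ne_of_ne hzx.symm (Ne.symm hg))
    have hA' : (Equiv.swap z (g x) * Equiv.swap x z)⁻¹ * g ∈ M := hsub A hAtop (hS.trans hLA) (by
      show ((Equiv.swap z (g x) * Equiv.swap x z)⁻¹ * g) x = x
      simp [Equiv.Perm.mul_apply, mul_inv_rev, Equiv.swap_inv])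
    have h3 := M.mul_mem (M.mul_mem hs hswap) hA'
    rwa [mul_inv_cancel_left] at h3

end Cfsg.Agent.S2963
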