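import Cfsg.Statements.S2968
import Cfsg.Agent.Lib.Isolated.Basic

set_option autoImplicit false
open Cfsg

namespace Cfsg.Agent.S2968

/-- Let G be a finite group, p a prime, P a Sylow p-subgroup of G and x ∈ P an element of p-power order which is isolated in G (the only conjugate of x commuting with x is x itself). Then x lies in the centre of P, and the subgroup generated by x is both strongly closed and weakly closed in P with respect to G. -/
theorem result {G : Type*} [Group G] [Finite G] {p : ℕ} [Fact p.Prime] (P : Sylow p G) (x : G) (hxP : x ∈ (P : Subgroup G)) (hx : ∃ k : ℕ, orderOf x = p ^ k) (hiso : Cfsg.IsIsolated x) : x ∈ (P : Subgroup G) ⊓ Subgroup.centralizer ((P : Subgroup G) : Set G) ∧ Cfsg.IsStronglyClosed (Subgroup.zpowers x) (P : Subgroup G) ∧ Cfsg.IsWeaklyClosed (Subgroup.zpowers x) (P : Subgroup G) := by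
  have hc : ∀ r ∈ (P : Subgroup G), Commute x r := fun r hr =>
    CfsgLib.Isolated.commute_of_mem_pSubgroup hiso P.2 hxP hr
  have hs : Cfsg.IsStronglyClosed (Subgroup.zpowers x) (P : Subgroup G) := by
    refine ⟨(Subgroup.zpowers_le).2 hxP, ?_⟩
    rintro _ ⟨k, rfl⟩ g hg
    exact ⟨k, (CfsgLib.Isolated.conj_zpow_eq_of_commute hx hiso k g (hc _ hg)).symm⟩
  refine ⟨⟨hxP, Subgroup.mem_centralizer_iff.2 fun r hr => (hc r hr).eq.symm⟩, hs, hs.1, fun g hg => ?_⟩
  refine Subgroup.eq_of_le_of_card_ge ?_ (le_of_eq (Subgroup.card_map_of_injective (MulEquiv.injective _)).symm)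
  rintro _ ⟨y, hy, rfl⟩
  exact hs.2 y hy g (hg ⟨y, hy, rfl⟩)

end Cfsg.Agent.S2968
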