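import Cfsg.Statements.S2970
import Cfsg.Agent.Lib.Isolated.Basic

set_option autoImplicit false
open Cfsg

namespace Cfsg.Agent.S2970

/-- Let G be a finite group, p a prime and x ∈ G an element of p-power order which is isolated in G. Then the image of x in any quotient G ⧸ N is isolated in G ⧸ N; and if x ≠ 1 and the Sylow p-subgroups of G are cyclic, then G has a normal p-complement. -/
theorem result {G : Type*} [Group G] [Finite G] {p : ℕ} [Fact p.Prime] (x : G) (hx : ∃ k : ℕ, orderOf x = p ^ k) (hiso : Cfsg.IsIsolated x) : (∀ (N : Subgroup G) [N.Normal], Cfsg.IsIsolated (QuotientGroup.mk x : G ⧸ N)) ∧ (x ≠ 1 → (∀ P : Sylow p G, IsCyclic ↥(P : Subgroup G)) → Cfsg.HasNormalPComplement p G) := by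
  refine ⟨fun N _ => CfsgLib.Isolated.isolated_quotient hx hiso N, fun hx1 hcyc => ?_⟩
  obtain ⟨P, hP⟩ := (CfsgLib.Isolated.isPGroup_zpowers_of_orderOf hx).exists_le_sylow
  have hxP : x ∈ (P : Subgroup G) := hP (Subgroup.mem_zpowers x)
  have := hcyc P
  have hNC : Subgroup.normalizer (P : Set G) ≤ Subgroup.centralizer ((P : Subgroup G) : Set G) := by
    intro g hg
    have hgx : Commute g x := Subgroup.mem_centralizer_singleton_iff.1
      (CfsgLib.Isolated.normalizer_le_centralizer hiso P.2 hxP hg)
    set K := (Subgroup.centralizer ((P : Subgroup G) : Set G)).subgroupOf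
      (Subgroup.normalizer ((P : Subgroup G) : Set G))
    have hPK : (P : Subgroup G).subgroupOf (Subgroup.normalizer ((P : Subgroup G) : Set G)) ≤ K := by
      intro q hq
      exact Subgroup.mem_centralizer_iff.2 fun r hr => by
        obtain ⟨u, hu⟩ := IsCyclic.exists_generator (α := ↥(P : Subgroup G))
        obtain ⟨i, hi⟩ := hu ⟨r, hr⟩
        obtain ⟨j, hj⟩ := hu ⟨(q : G), hq⟩
        have e1 : (u : G) ^ i = r := by simpa using congrArg Subtype.val hi
        have e2 : (u : G) ^ j = (q : G) := by simpa using congrArg Subtype.val hj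
        rw [Subgroup.coe_subtype, ← e1, ← e2]
        exact Commute.zpow_zpow_self _ _ _
    have hKn : K.Normal := by
      refine ⟨fun c hc m => Subgroup.mem_centralizer_iff.2 fun r hr => ?_⟩
      have h1 : (m : G)⁻¹ * r * (m : G) ∈ (P : Subgroup G) := by
        have := (Subgroup.mem_normalizer_iff.1 m.2 ((m : G)⁻¹ * r * (m : G))).2 (by simp only [mul_assoc, mul_inv_cancel_left, mul_inv_cancel, mul_one]; exact hr)
        exact this
      have h2 := Subgroup.mem_centralizer_iff.1 (Subgroup.mem_subgroupOf.1 hc) _ h1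
      push_cast
      calc r * ((m : G) * c * (m : G)⁻¹) = m * ((m : G)⁻¹ * r * m * c) * (m : G)⁻¹ := by group
        _ = m * (c * ((m : G)⁻¹ * r * m)) * (m : G)⁻¹ := by rw [h2]
        _ = m * c * (m : G)⁻¹ * r := by group
    have hdvd : ¬ p ∣ K.index := fun h => (P.not_dvd_index) <| h.trans <| by
      refine (Subgroup.index_dvd_of_le hPK).trans ?_
      exact Dvd.intro _ (Subgroup.relIndex_mul_index Subgroup.le_normalizer)
    refine CfsgLib.Isolated.centralizes_cyclic P.2 hg hxP hx1 hgx (m := K.index)
      ((Nat.Prime.coprime_iff_not_dvd Fact.out).2 hdvd).symm ?_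
    have := K.pow_index_mem (⟨g, hg⟩ : Subgroup.normalizer ((P : Subgroup G) : Set G))
    simpa [K, Subgroup.mem_subgroupOf] using this
  exact ⟨P, (MonoidHom.transferSylow P hNC).ker, inferInstance,
    MonoidHom.ker_transferSylow_isComplement' P hNC⟩

end Cfsg.Agent.S2970
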