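import Cfsg.Statements.S2971
import Cfsg.Agent.S2970
import Cfsg.Agent.Lib.Isolated.RankOne
import Cfsg.Agent.Lib.PCore.Basic

set_option autoImplicit false
open Cfsg

namespace Cfsg.Agent.S2971

/-- Let G be a finite group and p an odd prime such that G has p-rank at most 1 (no elementary abelian subgroup of order p²). If x ∈ G is an isolated element of order p, then x is central modulo the largest normal subgroup of G of order prime to p. -/
theorem result {G : Type*} [Group G] [Finite G] {p : ℕ} [Fact p.Prime] (hp : p ≠ 2) (hrk : Cfsg.PRankLE p 1 G) (x : G) (hx : orderOf x = p) (hiso : Cfsg.IsIsolated x) : Cfsg.InZStar p x := by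
  have hxo : ∃ k : ℕ, orderOf x = p ^ k := ⟨1, by rw [pow_one, hx]⟩
  have hcyc : ∀ P : Sylow p G, IsCyclic ↥(P : Subgroup G) := fun P =>
    CfsgLib.Isolated.isCyclic_of_small_abelian hp P.2 fun A hA hA2 => by
      have := hrk (A.map (P : Subgroup G).subtype) inferInstance (by
        rintro _ ⟨a, ha, rfl⟩; rw [← map_pow, hA2 a ha, map_one])
      rwa [Subgroup.card_subtype, pow_one] at this
  obtain ⟨P, N, hN, hc⟩ := (Cfsg.Agent.S2970.result x hxo hiso).2
    (fun h => (Fact.out : p.Prime).ne_one (by rw [← hx, h, orderOf_one])) hcyc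
  have hNp : N ≤ Cfsg.pPrimeCore p G := CfsgLib.PCore.le_pPrimeCore_of_not_dvd hN (by
    have h1 : (P : Subgroup G).index = Nat.card N := hc.index_eq_card
    rw [← h1]
    exact P.not_dvd_index)
  intro g
  apply hNp
  rw [← QuotientGroup.eq_one_iff, QuotientGroup.mk_mul, QuotientGroup.mk_mul, QuotientGroup.mk_mul,
    QuotientGroup.mk_inv, QuotientGroup.mk_inv]
  have hcomm : ∀ u : G ⧸ N, ∃ q ∈ (P : Subgroup G), (q : G ⧸ N) = u := by
    intro u
    obtain ⟨a, rfl⟩ := QuotientGroup.mk_surjective u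
    obtain ⟨⟨⟨n, hn⟩, ⟨q, hq⟩⟩, e, -⟩ := hc.existsUnique a
    refine ⟨q, hq, ?_⟩
    rw [← show n * q = a from e, QuotientGroup.mk_mul, (QuotientGroup.eq_one_iff n).2 hn, one_mul]
  obtain ⟨a, ha, hga⟩ := hcomm g
  obtain ⟨b, hb, hxb⟩ := hcomm x
  have hP := hcyc P
  have hab : a * b = b * a := congrArg Subtype.val
    ((IsCyclic.isMulCommutative (α := ↥(P : Subgroup G))).is_comm.comm ⟨a, ha⟩ ⟨b, hb⟩)
  have h2 : Commute (g : G ⧸ N) (x : G ⧸ N) := by
    rw [← hga, ← hxb]
    show (a : G ⧸ N) * b = b * a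
    rw [← QuotientGroup.mk_mul, hab, QuotientGroup.mk_mul]
  rw [h2.eq, mul_inv_cancel_right, mul_inv_cancel]

end Cfsg.Agent.S2971
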