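import Cfsg.Statements.S2972
import Cfsg.Agent.Lib.Isolated.Minimal
import Cfsg.Agent.Lib.Structure.MinimalNormal

set_option autoImplicit false
open Cfsg

namespace Cfsg.Agent.S2972

/-- Let G be a finite group, p a prime and x ∈ G an isolated element of order p (the only conjugate of x commuting with x is x) which is not central modulo the largest normal subgroup of order prime to p, while x is central modulo the largest normal subgroup of order prime to p in every proper subgroup containing x, and the image of x is so in every quotient of G by a nontrivial normal subgroup (a minimal counterexample to the Z*_p statement). Then the derived subgroup G' is a non-abelian simple group and G = G'⟨x⟩. -/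
theorem result {G : Type*} [Group G] [Finite G] {p : ℕ} [Fact p.Prime] (x : G) (hx : orderOf x = p) (hiso : Cfsg.IsIsolated x) (hnz : ¬ Cfsg.InZStar p x) (hmin : ∀ (H : Subgroup G) (hxH : x ∈ H), H ≠ ⊤ → Cfsg.InZStar p (⟨x, hxH⟩ : ↥H)) (hquot : ∀ (N : Subgroup G) [N.Normal], N ≠ ⊥ → Cfsg.InZStar p (QuotientGroup.mk x : G ⧸ N)) : IsSimpleGroup ↥(commutator G) ∧ ¬ IsMulCommutative ↥(commutator G) ∧ commutator G ⊔ Subgroup.zpowers x = ⊤ := by
  have hxo : ∃ k : ℕ, orderOf x = p ^ k := ⟨1, by rw [pow_one, hx]⟩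
  have hc' := CfsgLib.Isolated.pPrimeCore_eq_bot_of_minimal hnz hquot
  have hc := CfsgLib.Isolated.pCore_eq_bot_of_minimal hxo hiso hnz hquot
  set L := commutator G with hL
  have hxc : ¬ ∀ g : G, g * x * g⁻¹ = x := fun h => hnz (CfsgLib.Isolated.inZStar_of_central h)
  have hL1 : L ≠ ⊥ := fun h => hxc fun g => by
    have h1 : g * x * g⁻¹ * x⁻¹ ∈ L := by
      rw [hL, commutator_def]
      exact Subgroup.commutator_mem_commutator (Subgroup.mem_top g) (Subgroup.mem_top x)
    rw [h, Subgroup.mem_bot] at h1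
    exact mul_inv_eq_one.1 h1
  have hsup : ∀ N : Subgroup G, N.Normal → N ≠ ⊥ → N ⊔ Subgroup.zpowers x = ⊤ := fun N _ hN =>
    CfsgLib.Isolated.sup_zpowers_eq_top_of_minimal hxo hiso hnz hmin hquot N hN
  have hmin' : ∀ N : Subgroup G, N.Normal → N ≠ ⊥ → L ≤ N := by
    intro N hNn hN
    rw [hL, commutator_def, Subgroup.commutator_le]
    intro g _ g' _
    have hrep : ∀ u : G, ∃ i : ℤ, (u : G ⧸ N) = (x : G ⧸ N) ^ i := by
      intro u
      have hu : u ∈ N ⊔ Subgroup.zpowers x := (hsup N hNn hN) ▸ Subgroup.mem_top u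
      rw [← SetLike.mem_coe, Subgroup.normal_mul, Set.mem_mul] at hu
      obtain ⟨n, hn, y, ⟨i, rfl⟩, rfl⟩ := hu
      exact ⟨i, by rw [QuotientGroup.mk_mul, (QuotientGroup.eq_one_iff n).2 hn, one_mul, QuotientGroup.mk_zpow]⟩
    obtain ⟨i, hi⟩ := hrep g
    obtain ⟨j, hj⟩ := hrep g'
    rw [← QuotientGroup.eq_one_iff, commutatorElement_def]
    rw [QuotientGroup.mk_mul, QuotientGroup.mk_mul, QuotientGroup.mk_mul, QuotientGroup.mk_inv,
      QuotientGroup.mk_inv, hi, hj, (Commute.zpow_zpow_self (x : G ⧸ N) i j).eq]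
    group
  have hnab : ¬ IsMulCommutative ↥L := fun h => hL1 (CfsgLib.Isolated.eq_bot_of_abelian_normal hc hc' L h)
  refine ⟨?_, hnab, hsup L inferInstance hL1⟩
  have hLn : L.Normal := inferInstance
  have : Nontrivial ↥L := (Subgroup.nontrivial_iff_ne_bot L).2 hL1
  let e : ↥L ≃* ↥L := MulAut.conjNormal x
  have key : ∀ S : Subgroup ↥L, CfsgLib.Structure.IsMinNormal S → S = ⊤ := by
    intro S hS
    by_cases hxS : x ∈ Subgroup.normalizer ((S.map L.subtype : Subgroup G) : Set G)
    · have hn : (S.map L.subtype).Normal := by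
        rw [← Subgroup.normalizer_eq_top_iff, eq_top_iff, ← hsup L hLn hL1]
        refine sup_le ?_ ((Subgroup.zpowers_le).2 hxS)
        have := hS.normal
        exact (Subgroup.normal_subgroupOf_iff_le_normalizer (Subgroup.map_subtype_le S)).1
          (by rw [Subgroup.subgroupOf, Subgroup.comap_map_eq_self_of_injective L.subtype_injective]; infer_instance)
      refine top_le_iff.1 fun a _ => ?_
      obtain ⟨b, hb, hba⟩ := hmin' _ hn (fun h => hS.ne_bot
        ((Subgroup.map_eq_bot_iff_of_injective _ L.subtype_injective).1 h)) a.2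
      rwa [← show b = a from Subtype.ext hba]
    exfalso
    set S' := S.map L.subtype with hS'
    have hS'L : S' ≤ L := Subgroup.map_subtype_le S
    -- an element of order `p` in `S`
    obtain ⟨u₀, hu₀⟩ := exists_prime_orderOf_dvd_card' p (G := ↥S) (by
      by_contra hd
      have := hS.normal
      have h1 := CfsgLib.PCore.le_pPrimeCore_of_not_dvd (p := p) (hS.normal) hd
      have h2 : Cfsg.pPrimeCore p ↥L = ⊥ := (Subgroup.map_eq_bot_iff_of_injective _ L.subtype_injective).1
        (by rw [CfsgLib.PCore.map_pPrimeCore_subtype_of_normal, hc', inf_bot_eq])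
      exact hS.ne_bot (le_bot_iff.1 (h2 ▸ h1)))
    set u : G := ((u₀ : ↥L) : G) with hu
    have huS : u ∈ S' := ⟨_, u₀.2, rfl⟩
    have huL : u ∈ L := hS'L huS
    have hup : u ^ p = 1 := by
      have := pow_orderOf_eq_one u₀
      rw [hu₀] at this
      exact congrArg (fun z : ↥S => (((z : ↥L)) : G)) this
    have hu1 : u ≠ 1 := fun h => (Fact.out : p.Prime).ne_one (by
      rw [← hu₀, show u₀ = 1 from Subtype.ext (Subtype.ext h), orderOf_one])
    have hxp : x ^ p = 1 := hx ▸ pow_orderOf_eq_one x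
    -- conjugates of `u` by powers of `x`
    let c : ℤ → G := fun i => x ^ i * u * (x ^ i)⁻¹
    have hcL : ∀ i, c i ∈ L := fun i => hLn.conj_mem u huL _
    have hcS : ∀ i : ℤ, ¬ (p : ℤ) ∣ i → ∀ s ∈ S', Commute s (c i) := by
      intro i hi s hs
      set T := S.map (MulAut.conjNormal (x ^ i) : ↥L ≃* ↥L).toMonoidHom with hT
      have hT' : CfsgLib.Structure.IsMinNormal T := hS.map_equiv _
      have hne : S ≠ T := by
        intro h
        have hx' : x ^ i ∈ Subgroup.normalizer (S' : Set G) := by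
          refine Subgroup.mem_normalizer_iff_map_conj_eq.2 ?_
          show S'.map (MulAut.conj (x ^ i)).toMonoidHom = S'
          rw [hS']
          conv_rhs => rw [h, hT]
          rw [Subgroup.map_map, Subgroup.map_map]
          congr 1
        obtain ⟨a, b, hab⟩ := ((Nat.prime_iff_prime_int.1 Fact.out).coprime_iff_not_dvd).2 hi
        apply hxS
        have e1 : x = (x ^ i) ^ b := by
          rw [← zpow_mul, mul_comm]
          conv_lhs => rw [← zpow_one x, ← hab, zpow_add, mul_comm a, zpow_mul, zpow_natCast, hxp, one_zpow, one_mul]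
        rw [e1]
        exact Subgroup.zpow_mem _ hx' b
      obtain ⟨s₀, hs₀, rfl⟩ := hs
      have hmem : (⟨c i, hcL i⟩ : ↥L) ∈ T := ⟨(u₀ : ↥L), u₀.2, Subtype.ext (MulAut.conjNormal_apply (x ^ i) (u₀ : ↥L))⟩
      exact Commute.map (hS.commute hT' hne s₀ hs₀ _ hmem) L.subtype
    have hcc : ∀ i, Commute u (c i) := by
      intro i
      by_cases hi : (p : ℤ) ∣ i
      · obtain ⟨m, rfl⟩ := hi
        have : x ^ ((p : ℤ) * m) = 1 := by rw [zpow_mul, zpow_natCast, hxp, one_zpow]
        simp only [c, this, one_mul, inv_one, mul_one]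
        exact Commute.refl u
      · exact hcS i hi u huS
    let A := Subgroup.closure (Set.range c)
    have hccc : ∀ i j, Commute (c i) (c j) := by
      intro i j
      have h1 := (hcc (j - i)).map (MulAut.conj (x ^ i)).toMonoidHom
      have e1 : (MulAut.conj (x ^ i)).toMonoidHom (c (j - i)) = c j := by
        show x ^ i * (x ^ (j - i) * u * (x ^ (j - i))⁻¹) * (x ^ i)⁻¹ = x ^ j * u * (x ^ j)⁻¹
        group
      rw [e1] at h1
      exact h1
    have hAc : ∀ a ∈ A, ∀ b ∈ A, Commute a b := by
      intro a ha b hb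
      have hAle : A ≤ Subgroup.centralizer (Set.range c) := (Subgroup.closure_le _).2 (by
        rintro _ ⟨i, rfl⟩
        exact Subgroup.mem_centralizer_iff.2 (by rintro _ ⟨j, rfl⟩; exact (hccc j i).eq))
      have hb' : A ≤ Subgroup.centralizer {a} := (Subgroup.closure_le _).2 (fun z hz =>
        Subgroup.mem_centralizer_singleton_iff.2 ((Subgroup.mem_centralizer_iff.1 (hAle ha) z hz)))
      exact (Subgroup.mem_centralizer_singleton_iff.1 (hb' hb)).symm
    have huA : u ∈ A := Subgroup.subset_closure ⟨0, by simp [c]⟩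
    have hxA : ∀ a ∈ A, x * a * x⁻¹ ∈ A := by
      intro a ha
      have : A ≤ A.comap (MulAut.conj x).toMonoidHom := (Subgroup.closure_le _).2 (by
        rintro _ ⟨i, rfl⟩
        refine Subgroup.subset_closure ⟨1 + i, ?_⟩
        show x ^ (1 + i) * u * (x ^ (1 + i))⁻¹ = x * (x ^ i * u * (x ^ i)⁻¹) * x⁻¹
        group)
      exact this ha
    -- the partial norms of `u`
    let N' : ℕ → G := fun k => Nat.rec 1 (fun _ r => u * (x * r * x⁻¹)) k
    have hN'A : ∀ k, N' k ∈ A := by
      intro k
      induction k with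
      | zero => exact A.one_mem
      | succ k ih => exact A.mul_mem huA (hxA _ ih)
    -- each partial norm is a power of `u` times an element of the form `[a, x]`
    have hN'd : ∀ k : ℕ, ∃ a ∈ A, N' k = u ^ k * (a * (x * a * x⁻¹)⁻¹) := by
      intro k
      induction k with
      | zero => exact ⟨1, A.one_mem, by simp [N']⟩
      | succ k ih =>
        obtain ⟨a, ha, he⟩ := ih
        refine ⟨(u ^ k)⁻¹ * (x * a * x⁻¹), A.mul_mem (A.inv_mem (A.pow_mem huA k)) (hxA a ha), ?_⟩
        show u * (x * N' k * x⁻¹) = _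
        rw [he]
        set b := x * a * x⁻¹ with hb
        have hbA : b ∈ A := hxA a ha
        have e1 : x * (u ^ k * (a * b⁻¹)) * x⁻¹ = (x * u ^ k * x⁻¹) * (b * (x * b * x⁻¹)⁻¹) := by
          rw [hb]; group
        have e2 : x * ((u ^ k)⁻¹ * b) * x⁻¹ = (x * u ^ k * x⁻¹)⁻¹ * (x * b * x⁻¹) := by group
        rw [e1, e2]
        set w := x * u ^ k * x⁻¹ with hwdef
        have hw : w ∈ A := hxA _ (A.pow_mem huA k)
        have hbb : (x * b * x⁻¹)⁻¹ ∈ A := A.inv_mem (hxA _ hbA)
        set bb := x * b * x⁻¹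
        have c1 : Commute w (b * bb⁻¹) := hAc _ hw _ (A.mul_mem hbA hbb)
        rw [c1.eq]
        group
    have hN'x : ∀ k : ℕ, k < p → ∀ j : ℤ, 1 ≤ j → j + k ≤ p →
        ∀ s ∈ S', Commute s (x ^ j * N' k * (x ^ j)⁻¹) := by
      intro k
      induction k with
      | zero => intro _ j _ _ s _; simp [N']
      | succ k ih =>
        intro hk j hj hjk s hs
        have h1 := ih (by omega) (j + 1) (by omega) (by push_cast at hjk ⊢; omega) s hs
        have h2 := hcS j (fun hd => by
          have := Int.le_of_dvd (by omega) hd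
          push_cast at hjk; omega) s hs
        have e : x ^ j * N' (k + 1) * (x ^ j)⁻¹ = c j * (x ^ (j + 1) * N' k * (x ^ (j + 1))⁻¹) := by
          show x ^ j * (u * (x * N' k * x⁻¹)) * (x ^ j)⁻¹ = x ^ j * u * (x ^ j)⁻¹ * _
          group
        rw [e]
        exact h2.mul_right h1
    obtain ⟨q, hq⟩ : ∃ q, p = q + 1 := Nat.exists_eq_succ_of_ne_zero (Fact.out : p.Prime).ne_zero
    have hfix : x * N' p * x⁻¹ = N' p := by
      -- the full norm commutes with `x`
      have hform : ∀ k : ℕ, N' k = (u * x) ^ k * (x ^ k)⁻¹ := by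
        intro k
        induction k with
        | zero => simp [N']
        | succ k ih =>
          show u * (x * N' k * x⁻¹) = _
          rw [ih, pow_succ' (u * x), pow_succ x]
          group
      have e0 : N' p = (u * x) ^ p := by rw [hform, hxp, inv_one, mul_one]
      have e1 : u⁻¹ * N' p * u = x * N' p * x⁻¹ := by
        rw [e0]
        calc u⁻¹ * (u * x) ^ p * u = u⁻¹ * ((u * x) ^ p * (u * x)) * x⁻¹ := by group
          _ = u⁻¹ * ((u * x) * (u * x) ^ p) * x⁻¹ := by rw [(Commute.pow_self (u * x) p).eq]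
          _ = _ := by simp [mul_assoc]
      rw [← e1, mul_assoc, (hAc _ (hN'A p) _ huA).eq, inv_mul_cancel_left]
    obtain ⟨a, -, ha⟩ := hN'd p
    rw [hup, one_mul] at ha
    have hax : a * x * a⁻¹ = N' p * x := by rw [ha]; group
    have hN1 : N' p = 1 := by
      have := hiso a (by rw [hax]; exact Commute.mul_right (show Commute x (N' p) from mul_inv_eq_iff_eq_mul.1 hfix) (Commute.refl x))
      rw [hax] at this
      simpa using this
    have hrest : ∀ s ∈ S', Commute s (x * N' q * x⁻¹) := fun s hs => by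
      have := hN'x q (by omega) 1 le_rfl (by rw [hq]; push_cast; omega) s hs
      simpa using this
    have hcen : ∀ s ∈ S', Commute s u := by
      intro s hs
      have e : u = (x * N' q * x⁻¹)⁻¹ := by
        rw [hq] at hN1
        exact eq_inv_of_mul_eq_one_left hN1
      rw [e]; exact (hrest s hs).inv_right
    -- `u` is in the centre of `S`, which is trivial
    set Z := S' ⊓ Subgroup.centralizer (S' : Set G) with hZ
    have hZL : (Z.subgroupOf L).Normal := by
      refine ⟨fun z hz m => ?_⟩
      have hSn := hS.normal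
      have hconj : ∀ m : ↥L, ∀ y ∈ S', (m : G) * y * (m : G)⁻¹ ∈ S' := by
        rintro m _ ⟨y, hy, rfl⟩
        exact ⟨m * y * m⁻¹, hSn.conj_mem y hy m, rfl⟩
      refine ⟨hconj m _ hz.1, Subgroup.mem_centralizer_iff.2 fun y hy => ?_⟩
      have hy' := hconj m⁻¹ y hy
      have h := Subgroup.mem_centralizer_iff.1 hz.2 _ hy'
      simp only [Subgroup.coe_subtype, Subgroup.coe_inv, inv_inv] at h ⊢
      simp only [Subgroup.coe_mul, Subgroup.coe_inv]
      calc y * ((m : G) * z * (m : G)⁻¹) = m * ((m : G)⁻¹ * y * m * z) * (m : G)⁻¹ := by group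
        _ = m * ((z : G) * ((m : G)⁻¹ * y * m)) * (m : G)⁻¹ := by rw [h]
        _ = _ := by group
    have hZb : Z.subgroupOf L = ⊥ := CfsgLib.Isolated.eq_bot_of_abelian_normal
      (p := p) ((Subgroup.map_eq_bot_iff_of_injective _ L.subtype_injective).1
        (by rw [CfsgLib.PCore.map_pCore_subtype_of_normal, hc, inf_bot_eq]))
      ((Subgroup.map_eq_bot_iff_of_injective _ L.subtype_injective).1
        (by rw [CfsgLib.PCore.map_pPrimeCore_subtype_of_normal, hc', inf_bot_eq]))
      _ ⟨⟨fun a b => Subtype.ext (Subtype.ext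
        (Subgroup.mem_centralizer_iff.1 b.2.2 _ a.2.1))⟩⟩
    have hmem : (⟨u, huL⟩ : ↥L) ∈ Z.subgroupOf L :=
      ⟨huS, Subgroup.mem_centralizer_iff.2 fun s hs => (hcen s hs).eq⟩
    rw [hZb, Subgroup.mem_bot, Subtype.ext_iff] at hmem
    exact hu1 hmem
  refine ⟨fun N hN => or_iff_not_imp_left.2 fun hN' => ?_⟩
  obtain ⟨S, hS, hSN⟩ := CfsgLib.Structure.exists_isMinNormal_le hN hN'
  exact top_le_iff.1 (key S hS ▸ hSN)

end Cfsg.Agent.S2972
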