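import Cfsg.Statements.S2975
import Cfsg.Agent.Lib.Isolated.InvariantSylow
import Cfsg.Agent.Lib.Isolated.LocalCentral
import Cfsg.Agent.Lib.Generation.MaxTransfer

set_option autoImplicit false
open Cfsg

namespace Cfsg.Agent.S2975

/-- Let G be a finite group, p a prime and x ∈ G an isolated element of order p (the only conjugate of x commuting with x is x) which is not central modulo the largest normal subgroup of order prime to p, while x is central modulo the largest normal subgroup of order prime to p in every proper subgroup containing x, and the image of x is so in every quotient of G by a nontrivial normal subgroup (a minimal counterexample to the Z*_p statement). Then for every prime q, every q-subgroup of G that is normalized by x and maximal among the q-subgroups normalized by x is either trivial or a Sylow q-subgroup of G; and C_G(x) permutes the x-invariant Sylow q-subgroups of G transitively by conjugation. -/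
theorem result {G : Type*} [Group G] [Finite G] {p : ℕ} [Fact p.Prime] (x : G) (hx : orderOf x = p) (hiso : Cfsg.IsIsolated x) (hnz : ¬ Cfsg.InZStar p x) (hmin : ∀ (H : Subgroup G) (hxH : x ∈ H), H ≠ ⊤ → Cfsg.InZStar p (⟨x, hxH⟩ : ↥H)) (hquot : ∀ (N : Subgroup G) [N.Normal], N ≠ ⊥ → Cfsg.InZStar p (QuotientGroup.mk x : G ⧸ N)) (q : ℕ) [Fact q.Prime] : (∀ Q : Subgroup G, IsPGroup q ↥Q → x ∈ Subgroup.normalizer (Q : Set G) → (∀ R : Subgroup G, IsPGroup q ↥R → x ∈ Subgroup.normalizer (R : Set G) → Q ≤ R → R = Q) → Q = ⊥ ∨ ∃ S : Sylow q G, (S : Subgroup G) = Q) ∧ (∀ S₁ S₂ : Sylow q G, x ∈ Subgroup.normalizer ((S₁ : Subgroup G) : Set G) → x ∈ Subgroup.normalizer ((S₂ : Subgroup G) : Set G) → ∃ c ∈ Subgroup.centralizer ({x} : Set G), (S₁ : Subgroup G).map (MulAut.conj c).toMonoidHom = (S₂ : Subgroup G)) := by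
  have hxo : ∃ k : ℕ, orderOf x = p ^ k := ⟨1, by rw [pow_one, hx]⟩
  constructor
  · intro Q hQ hxQ hmax
    rcases eq_or_ne q p with rfl | hqp
    · right
      have h1 : IsPGroup q ↥(Q ⊔ Subgroup.zpowers x) :=
        hQ.to_sup_of_normal_left' (CfsgLib.Isolated.isPGroup_zpowers_of_orderOf hxo) ((Subgroup.zpowers_le).2 hxQ)
      have hxmem : x ∈ Q := by
        have h2 := hmax _ h1 (Subgroup.le_normalizer (Subgroup.mem_sup_right (Subgroup.mem_zpowers x))) le_sup_left
        rw [← h2]; exact Subgroup.mem_sup_right (Subgroup.mem_zpowers x)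
      obtain ⟨S, hS⟩ := hQ.exists_le_sylow
      exact ⟨S, hmax S S.2 (Subgroup.le_normalizer (hS hxmem)) hS⟩
    by_cases hQ1 : Q = ⊥
    · exact Or.inl hQ1
    right
    set H := Subgroup.normalizer (Q : Set G) with hH
    have hHtop : H ≠ ⊤ := by
      intro h
      apply hQ1
      have hn : Q.Normal := Subgroup.normalizer_eq_top_iff.1 h
      obtain ⟨n, hn'⟩ := hQ.exists_card_eq
      have h1 := CfsgLib.PCore.le_pPrimeCore (p := p) hn (hn' ▸
        Nat.Coprime.pow_left n ((Nat.coprime_primes Fact.out Fact.out).2 hqp))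
      rwa [CfsgLib.Isolated.pPrimeCore_eq_bot_of_minimal hnz hquot, le_bot_iff] at h1
    have hzH := hmin H hxQ hHtop
    obtain ⟨R, hR⟩ := CfsgLib.Isolated.exists_invariant_sylow (p := p) (q := q) hqp (⟨x, hxQ⟩ : ↥H)
      (by obtain ⟨k, hk⟩ := hxo; exact ⟨k, by rw [Subgroup.orderOf_mk, hk]⟩)
      (fun g hg => Subtype.ext (hiso g (Commute.map hg H.subtype))) hzH
    have hQR : Q.subgroupOf H ≤ (R : Subgroup ↥H) := by
      have : (Q.subgroupOf H).Normal := Subgroup.normal_in_normalizer
      exact (CfsgLib.PCore.le_pCore (p := q) (N := Q.subgroupOf H) this hQ.comap_subtype).trans (CfsgLib.PCore.pCore_le_sylow R)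
    set R' := (R : Subgroup ↥H).map H.subtype with hR'
    have hQR' : Q ≤ R' := by
      rw [← Subgroup.map_subgroupOf_eq_of_le (Subgroup.le_normalizer : Q ≤ H)]
      exact Subgroup.map_mono hQR
    have hxR : x ∈ Subgroup.normalizer (R' : Set G) :=
      Subgroup.le_normalizer_map H.subtype ⟨⟨x, hxQ⟩, hR, rfl⟩
    have hRQ : R' = Q := hmax R' (R.2.map _) hxR hQR'
    -- `Q` is a Sylow subgroup of its normalizer, hence of `G`
    obtain ⟨S, hS⟩ := hQ.exists_le_sylow
    refine ⟨S, ?_⟩
    by_contra hne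
    have h1 := CfsgLib.Isolated.lt_inf_normalizer S.2 (lt_of_le_of_ne hS (Ne.symm hne))
    refine h1.ne (le_antisymm h1.le ?_)
    have h2 : IsPGroup q ↥(((S : Subgroup G) ⊓ H).subgroupOf H) := (S.2.to_le inf_le_left).comap_subtype
    have h3 := R.3 h2 ?_
    · intro z hz
      rw [← hRQ, hR']
      exact ⟨⟨z, hz.2⟩, h3 ▸ (show (⟨z, hz.2⟩ : ↥H) ∈ ((S : Subgroup G) ⊓ H).subgroupOf H from hz), rfl⟩
    · intro z hz
      have : (z : G) ∈ Q := hRQ ▸ (show (z : G) ∈ R' from ⟨z, hz, rfl⟩)
      exact ⟨hS this, z.2⟩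
  · intro S₁ S₂ h1 h2
    obtain ⟨g, hg⟩ := MulAction.exists_smul_eq G S₁ S₂
    have hmap : (S₁ : Subgroup G).map (MulAut.conj g).toMonoidHom = (S₂ : Subgroup G) := by
      rw [← hg, Sylow.coe_subgroup_smul]; rfl
    have hgx : g * x * g⁻¹ ∈ Subgroup.normalizer ((S₂ : Subgroup G) : Set G) := by
      rw [← hmap]
      exact Subgroup.le_normalizer_map (MulAut.conj g).toMonoidHom ⟨x, h1, rfl⟩
    obtain ⟨h, hh, hhx⟩ := CfsgLib.Isolated.exists_conj_eq hxo hiso h2 hgx
    refine ⟨h * g, Subgroup.mem_centralizer_singleton_iff.2 (mul_inv_eq_iff_eq_mul.1 hhx), ?_⟩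
    rw [← CfsgLib.Generation.map_conj_map_conj, hmap]
    exact Subgroup.mem_normalizer_iff_map_conj_eq.1 hh

end Cfsg.Agent.S2975
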