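import Cfsg.Statements.S2976
import Cfsg.Agent.Lib.ThreeCentSuz.Main
import Cfsg.Agent.Lib.ThreeFree.Main

set_option autoImplicit false
open Cfsg

namespace Cfsg.Agent.S2976

/-- Let G be a finite group, K a component of G whose order is not divisible by 3, and y ∈ G an element of order 3 whose centralizer C_G(y) is solvable. Then K ⧸ Z(K) is isomorphic to the Suzuki group over the field with 8 elements and y normalizes K. If moreover O₂(G) = 1, then K is simple. -/
theorem result {G : Type*} [Group G] [Finite G] (K : Subgroup G) (hK : Cfsg.IsComponent K) (h3 : ¬ 3 ∣ Nat.card ↥K) (y : G) (hy : orderOf y = 3) (hsol : Group.IsSolvable ↥(Subgroup.centralizer ({y} : Set G))) : (∃ (F : Type) (_ : Field F) (_ : Fintype F), Fintype.card F = 8 ∧ Nonempty (↥K ⧸ Subgroup.center ↥K ≃* ↥(Cfsg.Lie.Sz F 4))) ∧ y ∈ Subgroup.normalizer (K : Set G) ∧ (Cfsg.pCore 2 G = ⊥ → IsSimpleGroup ↥K) := by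
  exact CfsgLib.ThreeCentSuz.main CfsgLib.ThreeFree.threeFreeSimple K hK h3 y hy hsol

end Cfsg.Agent.S2976
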