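import Cfsg.Statements.S2981
import Cfsg.Agent.Lib.LocalEven.CStarMin.Offender
import Cfsg.Agent.Lib.LocalEven.CStarMin.Generated
import Cfsg.Agent.Lib.LocalEven.CStarMin.Translate

set_option autoImplicit false
open Cfsg

namespace Cfsg.Agent.S2981

open CfsgLib.LocalEven.PGV CfsgLib.LocalEven.OffenderSL2 CfsgLib.LocalEven.MinPar CfsgLib.LocalEven.CStarMin
open CfsgLib.PLocal
open scoped IsMulCommutative

/-- The local C**(G,T)-Theorem for minimal parabolic groups. Let G be a finite p-minimal group (a Sylow p-subgroup T is not normal and lies in exactly one maximal subgroup) of characteristic p (C_G(O_p(G)) ≤ O_p(G)), and suppose G ≠ C**(G,T), the subgroup generated by C_G(Ω₁(Z(T))) and N_G(J(T)) (J(T) generated by the elementary abelian p-subgroups of T of largest order). Put V = Ω₁(Z(O_p(G))) and C = C_G(V). Then there are subgroups E₁, …, E_r of G containing C such that: J(G)TC = G and the E_i C/C form an internal direct product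 equal to J(G)C/C; any two of the E_i are conjugate by an element of T; V = C_V(⟨E_i⟩)·∏[V, E_i] with [V, E_i, E_j] = 1 for i ≠ j; for some n ≥ 1, each E_i/C is isomorphic to SL₂(pⁿ), or p = 2 and to the symmetric group of degree 2ⁿ + 1; and E_i acts on [V, E_i]/C_{[V,E_i]}(E_i) as the natural two-dimensional SL₂(pⁿ)-module, respectively as the symmetric group of degree 2ⁿ+1 on its even-weight permutation module. -/
theorem result {G : Type*} [Group G] [Finite G] {p : ℕ} [Fact p.Prime] (hmin : Cfsg.IsPMinimal p G) (hG : Subgroup.centralizer (Cfsg.pCore p G : Set G) ≤ Cfsg.pCore p G) (T : Sylow p G) (hne : Cfsg.cStarStarOf p (T : Subgroup G) ≠ ⊤) : ∃ (r : ℕ) (E : Fin r → Subgroup G), (∀ i, Subgroup.centralizer (Cfsg.omegaOneCenter p (Cfsg.pCore p G) : Set G) ≤ E i) ∧ Cfsg.thompsonSubgroup p G ⊔ (T : Subgroup G) ⊔ Subgroup.centralizer (Cfsg.omegaOneCenter p (Cfsg.pCore p G) : Set G) = ⊤ ∧ (⨆ i, E i) = Cfsg.thompsonSubgroup p G ⊔ Subgroup.centralizer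 (Cfsg.omegaOneCenter p (Cfsg.pCore p G) : Set G) ∧ (∀ i j, i ≠ j → ⁅E i, E j⁆ ≤ Subgroup.centralizer (Cfsg.omegaOneCenter p (Cfsg.pCore p G) : Set G)) ∧ (∀ i, E i ⊓ (⨆ j ∈ {j | j ≠ i}, E j) ≤ Subgroup.centralizer (Cfsg.omegaOneCenter p (Cfsg.pCore p G) : Set G)) ∧ (∀ i j, ∃ t ∈ (T : Subgroup G), (E i).map (MulAut.conj t).toMonoidHom = E j) ∧ (Cfsg.omegaOneCenter p (Cfsg.pCore p G) ⊓ Subgroup.centralizer ((⨆ i, E i : Subgroup G) : Set G)) ⊔ (⨆ i, ⁅Cfsg.omegaOneCenter p (Cfsg.pCore p G), E i⁆) = Cfsg.omegaOneCenter p (Cfsg.pCore p G) ∧ (∀ i j, i ≠ j → ⁅⁅Cfsg.omegaOneCenter p (Cfsg.pCore p G), E i⁆, E j⁆ = ⊥) ∧ ∀ i, ∃ n : ℕ, 1 ≤ n ∧ ((∃ (F : Type) (_ : Field F) (_ : Fintype F), Fintype.card F = p ^ n ∧ (∃ _ : ((Subgroup.centralizer (Cfsg.omegaOneCenter p (Cfsg.pCore p G) : Set G)).subgroupOf (E i)).Normal, Nonempty (↥(E i) ⧸ (Subgroup.centralizer (Cfsg.omegaOneCenter p (Cfsg.pCore p G) : Set G)).subgroupOf (E i) ≃* Matrix.SpecialLinearGroup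 (Fin 2) F)) ∧ Cfsg.ActsAsSL2OnSection F ⊤ (E i) ⁅Cfsg.omegaOneCenter p (Cfsg.pCore p G), E i⁆ (⁅Cfsg.omegaOneCenter p (Cfsg.pCore p G), E i⁆ ⊓ Subgroup.centralizer ((E i : Subgroup G) : Set G))) ∨ (p = 2 ∧ (∃ _ : ((Subgroup.centralizer (Cfsg.omegaOneCenter p (Cfsg.pCore p G) : Set G)).subgroupOf (E i)).Normal, Nonempty (↥(E i) ⧸ (Subgroup.centralizer (Cfsg.omegaOneCenter p (Cfsg.pCore p G) : Set G)).subgroupOf (E i) ≃* Equiv.Perm (Fin (2 ^ n + 1)))) ∧ Cfsg.ActsAsOddPermModuleOnSection (2 ^ n + 1) ⊤ (E i) ⁅Cfsg.omegaOneCenter p (Cfsg.pCore p G), E i⁆ (⁅Cfsg.omegaOneCenter p (Cfsg.pCore p G), E i⁆ ⊓ Subgroup.centralizer ((E i : Subgroup G) : Set G)))) := by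
  classical
  obtain ⟨M, hR⟩ := exists_red hmin hG T hne
  set V := Cfsg.omegaOneCenter p (Cfsg.pCore p G) with hV
  set π := act V with hπ
  have h := minPar hR
  have hker : π.ker = Subgroup.centralizer (V : Set G) := ker_act V
  obtain ⟨A₀, hA₀max, -, hA₀ne⟩ := exists_max_moving hR
  obtain ⟨A₁, hA₁⟩ := exists_off hR
  obtain ⟨r, E, hE, hF, hd⟩ := exists_decomp' h hA₁
  have hJ : Cfsg.thompsonSubgroup p G = thompson p (⊤ : Subgroup G) :=
    congrArg sSup (setOf_isMaxElemIn_top (G := G) p).symm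
  have hJn : (thompson p (⊤ : Subgroup G)).Normal := by
    rw [← Subgroup.normalizer_eq_top_iff, eq_top_iff]
    exact le_normalizer_thompson p (⊤ : Subgroup G)
  -- the image of the Thompson subgroup is the product of the components
  set N := (thompson p (⊤ : Subgroup G)).map π with hNdef
  have hle : N ≤ ⨆ i, E i := by
    rw [hNdef, Subgroup.map_le_iff_le_comap, thompson_le_iff]
    intro A hA
    rw [← Subgroup.map_le_iff_le_comap]
    exact le_iSup_of_offender h hE hF hd (elemAb_map π hA.elem) (Subgroup.map_le_range π A) (card_le_of_max hA)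
  have hge : (⨆ i, E i) ≤ N := by
    obtain ⟨B, hBA, hB⟩ := exists_off_le (P := π.range) (Subgroup.map_le_range π A₀)
      (elemAb_map π hA₀max.elem) hA₀ne (card_le_of_max hA₀max)
    refine components_le h hE hF hd ?_ hB (hBA.trans (Subgroup.map_mono hA₀max.le_thompson))
    rintro _ ⟨g, rfl⟩ _ ⟨x, hx, rfl⟩
    exact ⟨g * x * g⁻¹, hJn.conj_mem x hx g, by simp; rfl⟩
  have hNE : N = ⨆ i, E i := le_antisymm hle hge
  set E' : Fin r → Subgroup G := fun i => (E i).comap π with hE'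
  have hkle : ∀ i, π.ker ≤ E' i := fun i => MonoidHom.ker_le_comap π (E i)
  have hmapE : ∀ i, (E' i).map π = E i := fun i => Subgroup.map_comap_eq_self (hE.le i)
  have hsupE : (⨆ i, E' i) = (⨆ i, E i).comap π := by
    have h1 : ((⨆ i, E' i).map π).comap π = (⨆ i, E' i) ⊔ π.ker := Subgroup.comap_map_eq π _
    rw [sup_eq_left.2 ((hkle ⟨0, hE.pos⟩).trans (le_iSup E' _)), Subgroup.map_iSup] at h1
    simp only [hmapE] at h1
    exact h1.symm
  have hsupJ : (⨆ i, E' i) = Cfsg.thompsonSubgroup p G ⊔ Subgroup.centralizer (V : Set G) := by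
    rw [hsupE, ← hNE, hNdef, Subgroup.comap_map_eq, hker, hJ]
  refine ⟨r, E', fun i => hker ▸ hkle i, ?_, hsupJ, fun i j hij => ?_, fun i => ?_, fun i j => ?_,
    span_eq hE, fun i j hij => kill_eq hE hij, fun i => exists_model hE i⟩
  · have h1 : (thompson p (⊤ : Subgroup G) ⊔ (T : Subgroup G)).map π = π.range := by
      rw [Subgroup.map_sup, ← hNdef, hNE]
      exact hE.gen
    have h2 := Subgroup.comap_map_eq π (thompson p (⊤ : Subgroup G) ⊔ (T : Subgroup G))
    rw [h1, MonoidHom.range_eq_map, Subgroup.comap_map_eq, top_sup_eq, hker] at h2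
    rw [hJ]
    exact h2.symm
  · rw [← hker, Subgroup.commutator_le]
    intro a ha b hb
    rw [MonoidHom.mem_ker, map_commutatorElement, commutatorElement_eq_one_iff_commute]
    exact hE.comm i j hij _ ha _ hb
  · intro x hx
    rw [← hker, MonoidHom.mem_ker, ← Subgroup.mem_bot, ← hE.disj i]
    refine ⟨hx.1, ?_⟩
    have h1 : (⨆ j ∈ {j | j ≠ i}, E' j) ≤ (⨆ j ∈ {j | j ≠ i}, E j).comap π :=
      iSup₂_le fun j hj => Subgroup.comap_mono (le_iSup₂_of_le j hj le_rfl)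
    exact h1 hx.2
  · obtain ⟨_, ⟨t, ht, rfl⟩, e⟩ := hE.conj i j
    refine ⟨t, ht, ?_⟩
    have h1 : ((E' i).map (MulAut.conj t).toMonoidHom).map π = E j := by
      rw [map_cj, hmapE, e]
    have h2 : π.ker ≤ (E' i).map (MulAut.conj t).toMonoidHom := fun x hx =>
      ⟨t⁻¹ * x * t, hkle i ((π.normal_ker).conj_mem' x hx t), by simp [mul_assoc]⟩
    have h3 := Subgroup.comap_map_eq π ((E' i).map (MulAut.conj t).toMonoidHom)
    rw [h1, sup_eq_left.2 h2] at h3
    exact h3.symm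

end Cfsg.Agent.S2981
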