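import Cfsg.Statements.S2989
import Cfsg.Agent.Lib.PushingUp.CentrallyLarge
import Cfsg.Agent.Lib.PGroup.Frattini
import Cfsg.Agent.S3007
-- import your own Cfsg.Agent.* helpers here

set_option autoImplicit false
open Cfsg CfsgLib.ChermakDelgado CfsgLib.PushingUp

namespace Cfsg.Agent.S2989

section Aux

variable {H : Type*} [Group H] [Finite H] {p : ℕ}

private theorem mem_omega {U : Subgroup H} (hU : U ≤ Subgroup.centralizer (U : Set H)) {x : H} :
    x ∈ omegaOne p U ↔ x ∈ U ∧ x ^ p = 1 := by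
  refine ⟨fun h => ?_, fun h => Subgroup.subset_closure h⟩
  let K : Subgroup H :=
    { carrier := {x | x ∈ U ∧ x ^ p = 1}
      one_mem' := ⟨U.one_mem, one_pow p⟩
      mul_mem' := fun {a b} ha hb => ⟨U.mul_mem ha.1 hb.1, by
        rw [(mem_centralizer_commute (hU ha.1) hb.1).mul_pow, ha.2, hb.2, mul_one]⟩
      inv_mem' := fun {a} ha => ⟨U.inv_mem ha.1, by rw [inv_pow, ha.2, inv_one]⟩ }
  exact (Subgroup.closure_le K).2 (fun y hy => hy) h

private theorem omega_le (U : Subgroup H) : omegaOne p U ≤ U :=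
  (Subgroup.closure_le U).2 fun _ hy => hy.1

private theorem omegaCenter_eq {X : Subgroup H} (hX : IsMinimalCentrallyLarge X) :
    omegaOneCenter p X = omegaOne p (Subgroup.centralizer (X : Set H)) := by
  rw [omegaOneCenter, inf_eq_right.2 (cl_le hX.1)]

private theorem le_maxOmega {X : Subgroup H} (hX : IsMinimalCentrallyLarge X) :
    Nat.card (omegaOneCenter p X) ≤ maxOmegaCenterOfMinimalCL p H := by
  refine le_csSup ?_ ⟨X, hX, rfl⟩
  refine ⟨Nat.card H, ?_⟩
  rintro k ⟨Q, -, rfl⟩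
  exact Subgroup.card_le_card_group _

private theorem exists_maxOmega (p : ℕ) (H : Type*) [Group H] [Finite H] :
    ∃ X : Subgroup H, IsMinimalCentrallyLarge X ∧
      Nat.card (omegaOneCenter p X) = maxOmegaCenterOfMinimalCL p H := by
  obtain ⟨X, hX⟩ := exists_minimalCL (G := H)
  exact Nat.sSup_mem (s := {k : ℕ | ∃ Q : Subgroup H, IsMinimalCentrallyLarge Q ∧ Nat.card ↥(omegaOneCenter p Q) = k})
    ⟨_, X, hX, rfl⟩ ⟨Nat.card H, by rintro k ⟨Q, -, rfl⟩; exact Subgroup.card_le_card_group _⟩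

variable [Fact p.Prime]

private theorem frattini_map_le (hH : IsPGroup p H) (X : Subgroup H) (N : Subgroup H)
    (hc : ⁅X, X⁆ ≤ N) (hpow : ∀ x ∈ X, x ^ p ∈ N) : (frattini ↥X).map X.subtype ≤ N := by
  rw [Subgroup.map_le_iff_le_comap]
  refine CfsgLib.PGroup.frattini_le_of (p := p) _ ?_ (fun x => hpow x x.2)
  rw [← Subgroup.map_le_iff_le_comap, commutator_def, Subgroup.map_commutator, ← MonoidHom.range_eq_map,
    Subgroup.range_subtype]
  exact hc

private theorem mem_frattini_map (hH : IsPGroup p H) (X : Subgroup H) :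
    ⁅X, X⁆ ≤ (frattini ↥X).map X.subtype ∧ ∀ x ∈ X, x ^ p ∈ (frattini ↥X).map X.subtype := by
  refine ⟨?_, fun x hx => ⟨⟨x, hx⟩ ^ p, CfsgLib.PGroup.pow_mem_frattini (hH.to_subgroup X) _, rfl⟩⟩
  have := Subgroup.map_mono (f := X.subtype) (CfsgLib.PGroup.commutator_le_frattini (hH.to_subgroup X))
  rwa [commutator_def, Subgroup.map_commutator, ← MonoidHom.range_eq_map, Subgroup.range_subtype] at this

end Aux


/-- Let G be a finite group and S a Sylow p-subgroup of G in the basic pushing-up situation (G ≠ 1, C_G(O_p(G)) ≤ O_p(G), S lies in a unique maximal subgroup of G, and some quotient of G is isomorphic to PSL₂ over a field of order a power of p), and suppose that S centralizes Z(J(S)), where J(S) is generated by the abelian subgroups of S of largest order (that is, J̃(S) = C_S(Z(J(S))) = S). Call a subgroup R of S centrally large if |R|·|Z(R)| is as large as possible among subgroups of S, and let S_Φ be the subgroup generated by the Frattini subgroups Φ(Q) of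 those minimal centrally large subgroups Q of S whose Ω₁(Z(Q)) has the largest order among minimal centrally large subgroups. Then Z(S) or S_Φ is normal in G; and if S_Φ = 1, the minimal centrally large subgroups of S are exactly the abelian subgroups of S of largest order, and at least one of them is elementary abelian. -/
theorem result {G : Type*} [Group G] [Finite G] {p : ℕ} [Fact p.Prime] (S : Subgroup G) (hE : Cfsg.IsPushingUpSituation p S) (hJ : S ≤ Subgroup.centralizer (Cfsg.centerThompsonAOf S : Set G)) : ((S ⊓ Subgroup.centralizer (S : Set G)).Normal ∨ ((Cfsg.frattiniOfMinimalCLJoin p ↥S).map S.subtype).Normal) ∧ (Cfsg.frattiniOfMinimalCLJoin p ↥S = ⊥ → (∀ Q : Subgroup ↥S, Cfsg.IsMinimalCentrallyLarge Q ↔ Q ∈ Cfsg.maxAbelianSubgroups ↥S) ∧ ∃ A ∈ Cfsg.maxAbelianSubgroups ↥S, Cfsg.IsElementaryAbelian p A) := by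
  have hp := (Fact.out : p.Prime)
  have hSp := isPGroup_self hE
  set mz := maxOmegaCenterOfMinimalCL p ↥S with hmz
  have hcomm : ∀ X Y : Subgroup ↥S, IsMinimalCentrallyLarge X → IsMinimalCentrallyLarge Y → ⁅X, X⁆ = ⁅Y, Y⁆ := by
    intro X Y hX hY
    rw [commutator_eq_commutator_inf hX hY.1, commutator_eq_commutator_inf hY hX.1, inf_comm]
  refine ⟨?_, fun hΦ => ?_⟩
  swap
  · obtain ⟨X, hX, hXm⟩ := exists_maxOmega p ↥S
    have hbot : ∀ y, y ∈ (frattini ↥X).map X.subtype → y = 1 := fun y hy => by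
      have h : y ∈ Cfsg.frattiniOfMinimalCLJoin p ↥S :=
        (le_iSup (fun Q : {Q : Subgroup ↥S // IsMinimalCentrallyLarge Q ∧
          Nat.card ↥(omegaOneCenter p Q) = maxOmegaCenterOfMinimalCL p ↥S} =>
          (frattini ↥(Q : Subgroup ↥S)).map (Q : Subgroup ↥S).subtype) ⟨X, hX, hXm⟩) hy
      rwa [hΦ, Subgroup.mem_bot] at h
    have hab : IsMulCommutative ↥X := (comm_iff X).2 (Subgroup.commutator_eq_bot_iff_le_centralizer.1
      ((Subgroup.eq_bot_iff_forall _).2 fun y hy => hbot y ((mem_frattini_map hSp X).1 hy)))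
    have hiff := (Cfsg.Agent.S3007.result ↥S hSp X X hX hX).2.2.2.2 hab
    exact ⟨hiff, X, (hiff X).1 hX, hab, fun a ha => hbot _ ((mem_frattini_map hSp X).2 a ha)⟩
  set Z := S ⊓ Subgroup.centralizer (S : Set G) with hZ
  by_cases hnc : Z ≤ Subgroup.center G
  · exact Or.inl ⟨fun n hn g => by
      rw [Subgroup.mem_center_iff.1 (hnc hn) g, mul_inv_cancel_right]; exact hn⟩
  right
  have hZS : Z ≤ S := inf_le_left
  have hZc : Z ≤ Subgroup.centralizer (S : Set G) := inf_le_right
  obtain ⟨Q⟩ := exists_quot hE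
  obtain ⟨P, hP⟩ := exists_sylow_eq hE
  obtain ⟨hVT, hTV⟩ := closure_facts hE hZS hZc
  obtain ⟨hlU, hCU, hcU, hncf, hVeq⟩ := large_closure hE hZS hZc hnc hJ Q P hP
  set V := Subgroup.normalClosure (Z : Set G) with hV
  have hVp : IsPGroup p V := hSp.to_le (hVT.trans (pCore_le hE))
  have hVab : V ≤ Subgroup.centralizer (V : Set G) := hVT.trans hTV
  have hgen : V ≤ Subgroup.normalClosure (fix V P : Set G) := Subgroup.normalClosure_mono fun z hz =>
    ⟨Subgroup.subset_normalClosure hz, by rw [hP]; exact hZc hz⟩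
  set Vs := Subgroup.center ↥S ⊔ V.subgroupOf S
  set Ts := coreIn p S
  -- elements of order p in V
  set OV := omegaOne p V with hOV
  have hOVn : OV.Normal := ⟨fun n hn g => by
    rw [hOV, mem_omega hVab] at hn ⊢
    exact ⟨Subgroup.normalClosure_normal.conj_mem n hn.1 g, by rw [conj_pow, hn.2, mul_one, mul_inv_cancel]⟩⟩
  have hOVV : OV ≤ V := omega_le V
  have hncO : ¬ fix OV P ≤ Subgroup.center G := by
    obtain ⟨y, hy, hyZ, hyp⟩ := exists_fix_pow_eq_one hE Q hVp hVab P hncf hVeq hgen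
    exact fun h => hyZ (h ⟨(mem_omega hVab).2 ⟨hy.1, hyp⟩, hy.2⟩)
  have hqO := mul_card_fix_le hE Q (W := OV) (hVp.to_le hOVV) P hncO
  -- bound on the image in the quotient
  have himg : ∀ Y : Subgroup ↥S, Nat.card Y ≤ Nat.card ↥(Y ⊓ Ts) * Q.q := by
    intro Y
    let f : ↥Y →* Q.X := Q.φ.comp (S.subtype.comp Y.subtype)
    rw [← Subgroup.card_mul_index f.ker, Subgroup.index_ker]
    refine Nat.mul_le_mul ?_ ?_
    · refine Nat.card_le_card_of_injective (fun x => (⟨(x : ↥Y), (x : ↥Y).2, inf_ker_le hE Q P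
        ⟨by rw [hP]; exact ((x : ↥Y) : ↥S).2, x.2⟩⟩ : ↥(Y ⊓ Ts))) ?_
      intro x y e
      have e' : ((x : ↥Y) : ↥S) = ((y : ↥Y) : ↥S) := congrArg (fun z : ↥(Y ⊓ Ts) => (z : ↥S)) e
      exact Subtype.ext (Subtype.ext e')
    · rw [← Q.card_map P]
      refine Subgroup.card_le_of_le ?_
      rintro _ ⟨x, rfl⟩
      exact ⟨_, by rw [hP]; exact ((x : ↥Y) : ↥S).2, rfl⟩
  -- replacement
  have hrep : ∀ X : Subgroup ↥S, IsMinimalCentrallyLarge X → Nat.card (omegaOneCenter p X) = mz →
      ∃ Y : Subgroup ↥S, IsMinimalCentrallyLarge Y ∧ Nat.card (omegaOneCenter p Y) = mz ∧ Y ≤ Ts ∧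
        (frattini ↥X).map X.subtype ≤ (frattini ↥Y).map Y.subtype := by
    intro X hX hXm
    by_cases hXT : X ≤ Ts
    · exact ⟨X, hX, hXm, hXT, le_rfl⟩
    obtain ⟨q₀, hq₀, hq₀T⟩ := SetLike.not_le_iff_exists.1 hXT
    set U := Subgroup.centralizer (X : Set ↥S) with hU
    have hUl := (large_centralizer (cl_large hX.1)).1
    have hUc := cl_centralizer_comm hX.1
    have hTl : IsCentralizerLarge Ts := hCU ▸ (large_centralizer hlU).1
    set W := (U ⊓ Ts) ⊔ Vs with hW
    have hWl : IsCentralizerLarge W := large_sup (large_inf hUl hTl) hlU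
    have hWc : W ≤ Subgroup.centralizer (W : Set ↥S) :=
      comm_sup (inf_le_left.trans (hUc.trans (cent_mono inf_le_left))) hcU (inf_le_right.trans hCU.ge)
    obtain ⟨W', hW', hWW'⟩ := exists_maxAbelianLarge_ge hWl hWc
    set Y := Subgroup.centralizer (W' : Set ↥S) with hY
    have hYm := minimalCL_of_maxAbelianLarge hW'
    have hYT : Y ≤ Ts := (cent_mono (le_sup_right.trans hWW')).trans hCU.le
    have hCY : Subgroup.centralizer (Y : Set ↥S) = W' := (large_centralizer hW'.1).2
    set A := omegaOne p U ⊓ Ts with hA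
    set B := OV.subgroupOf S with hB
    have hBc : A ≤ Subgroup.normalizer (B : Set ↥S) := by
      refine le_trans ?_ (Subgroup.centralizer_le_normalizer _)
      intro a ha
      refine Subgroup.mem_centralizer_iff.2 fun b hb => Subtype.ext ?_
      exact Subgroup.mem_centralizer_iff.1 (hTV ha.2) b (hOVV hb)
    have e1 := CfsgLib.Coprime.card_sup_mul_card_inf hBc
    have hinf : Nat.card ↥(B ⊓ A) ≤ Nat.card (fix OV P) := by
      refine Nat.card_le_card_of_injective (fun x => (⟨(((x : ↥(B ⊓ A)) : ↥S) : G), x.2.1, ?_⟩ : ↥(fix OV P))) ?_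
      · refine (mem_fix_of_commute hE Q hVp hVab P hncf hVeq hgen (R := P) (x := (q₀ : G))
          (w := ((x : ↥S) : G)) (by rw [hP]; exact q₀.2) ?_ (hOVV x.2.1) ?_).2
        · exact fun h => hq₀T (inf_ker_le hE Q P ⟨by rw [hP]; exact q₀.2, h⟩)
        · have h := congrArg Subtype.val (Subgroup.mem_centralizer_iff.1 (omega_le U x.2.2.1) q₀ hq₀)
          simp only [Subgroup.coe_mul] at h
          rw [h, mul_inv_cancel_right, mul_inv_cancel]
          exact Subgroup.one_mem _
      · intro x y e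
        exact Subtype.ext (Subtype.ext (congrArg Subtype.val e :))
    have hBcard : Nat.card B = Nat.card OV :=
      CfsgLib.Coprime.card_subgroupOf (hOVV.trans (hVT.trans (pCore_le hE)))
    have hAB : A ⊔ B ≤ omegaOne p W' := by
      refine sup_le (fun a ha => ?_) (fun b hb => ?_)
      · rw [mem_omega hW'.2.1]
        exact ⟨hWW' (Subgroup.mem_sup_left ⟨omega_le U ha.1, ha.2⟩), ((mem_omega hUc).1 ha.1).2⟩
      · rw [mem_omega hW'.2.1]
        refine ⟨hWW' (Subgroup.mem_sup_right (Subgroup.mem_sup_right (hOVV hb))), Subtype.ext ?_⟩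
        exact ((mem_omega hVab).1 hb).2
    have hge : Q.q * Nat.card A ≤ Nat.card ↥(A ⊔ B) := by
      refine Nat.le_of_mul_le_mul_right ?_ (Nat.card_pos (α := ↥(B ⊓ A)))
      rw [e1, hBcard]
      calc Q.q * Nat.card A * Nat.card ↥(B ⊓ A) ≤ Q.q * Nat.card A * Nat.card (fix OV P) :=
            Nat.mul_le_mul_left _ hinf
        _ = Nat.card A * (Q.q * Nat.card (fix OV P)) := by ring
        _ ≤ _ := Nat.mul_le_mul_left _ hqO
    have hUA : Nat.card (omegaOne p U) ≤ Nat.card A * Q.q := himg _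
    have hYle : Nat.card (omegaOne p W') ≤ mz := by
      have := le_maxOmega (p := p) hYm
      rwa [omegaCenter_eq hYm, hCY] at this
    have hABle := card_le_of_le' hAB
    have hUm : Nat.card (omegaOne p U) = mz := by rw [← omegaCenter_eq hX]; exact hXm
    have hqA : Nat.card (omegaOne p U) = Nat.card A * Q.q := by
      refine le_antisymm hUA ?_
      rw [hUm, mul_comm]
      omega
    refine ⟨Y, hYm, ?_, hYT, ?_⟩
    · rw [omegaCenter_eq hYm, hCY]
      refine le_antisymm hYle ?_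
      rw [← hUm, hqA, mul_comm]
      omega
    -- `U` is generated by `U ∩ T` and its elements of order p
    have hUn : U ⊓ Ts ≤ Subgroup.normalizer (omegaOne p U : Set ↥S) := inf_le_left.trans
      ((hUc.trans (cent_mono (omega_le U))).trans (Subgroup.centralizer_le_normalizer _))
    have e2 := CfsgLib.Coprime.card_sup_mul_card_inf hUn
    rw [show omegaOne p U ⊓ (U ⊓ Ts) = A by rw [← inf_assoc, inf_eq_left.2 (omega_le U)], hqA] at e2
    have hUdec : (U ⊓ Ts) ⊔ omegaOne p U = U := by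
      refine Subgroup.eq_of_le_of_card_ge (sup_le inf_le_left (omega_le U)) ((himg U).trans (le_of_eq ?_))
      exact (Nat.eq_of_mul_eq_mul_right (Nat.card_pos (α := A)) (e2.trans (by ring))).symm
    obtain ⟨hΦc, hΦp⟩ := mem_frattini_map hSp Y
    refine frattini_map_le hSp X _ ((hcomm X Y hX hYm).le.trans hΦc) fun x hx => ?_
    have hXY := minimalCL_decomp hX hYm.1
    obtain ⟨a, ha, u, hu, rfl⟩ := CfsgLib.Coprime.exists_mul_of_mem_sup (H := X ⊓ Y) (N := U)
      ((inf_le_left.trans (le_centralizer_centralizer X)).trans (Subgroup.centralizer_le_normalizer _))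
      (hXY.ge hx)
    obtain ⟨t, ht, w, hw, rfl⟩ := CfsgLib.Coprime.exists_mul_of_mem_sup hUn (hUdec.ge hu)
    have c1 : Commute a (t * w) :=
      (mem_centralizer_commute (A := X) hu ha.1).symm
    have c2 : Commute t w := mem_centralizer_commute (hUc ht.1) (omega_le U hw)
    rw [c1.mul_pow, c2.mul_pow, ((mem_omega hUc).1 hw).2, mul_one]
    refine Subgroup.mul_mem _ (hΦp a ha.2) (hΦp t ?_)
    have htW : t ∈ W' := hWW' (Subgroup.mem_sup_left ht)
    exact hW'.2.1 htW
  refine normal_of_conj_le fun g => ?_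
  rw [Cfsg.frattiniOfMinimalCLJoin, Subgroup.map_iSup, Subgroup.map_iSup]
  refine iSup_le fun ⟨X, hX, hXm⟩ => ?_
  obtain ⟨Y, hY, hYm, hYT, hle⟩ := hrep X hX hXm
  refine (Subgroup.map_mono (Subgroup.map_mono hle)).trans ?_
  obtain ⟨hgY, hgC⟩ := minimalCL_cjS hE hY hYT g
  have hCT : Subgroup.centralizer (Y : Set ↥S) ≤ Ts := (cl_le hY.1).trans hYT
  have hgm : Nat.card (omegaOneCenter p (cjS g Y)) = mz := by
    refine le_antisymm (le_maxOmega hgY) ?_
    rw [← hYm, omegaCenter_eq hY, omegaCenter_eq hgY, ← card_cjS hE ((omega_le _).trans hCT) g]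
    refine card_le_of_le' ?_
    rintro ⟨_, hyS⟩ ⟨_, ⟨y, hy, rfl⟩, rfl⟩
    obtain ⟨hyC, hyp⟩ := (mem_omega (cl_centralizer_comm hY.1)).1 hy
    refine (mem_omega (cl_centralizer_comm hgY.1)).2 ⟨hgC ▸ mem_cjS hyC hyS, Subtype.ext ?_⟩
    show (g * (y : G) * g⁻¹) ^ p = 1
    rw [conj_pow, show (y : G) ^ p = 1 from congrArg Subtype.val hyp, mul_one, mul_inv_cancel]
  refine le_iSup_of_le ⟨cjS g Y, hgY, hgm⟩ ?_
  rw [Subgroup.map_le_iff_le_comap, Subgroup.map_le_iff_le_comap]
  obtain ⟨hΦc, hΦp⟩ := mem_frattini_map hSp (cjS g Y)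
  refine frattini_map_le hSp Y _ ?_ fun x hx => ?_
  · rw [← Subgroup.map_le_iff_le_comap, ← Subgroup.map_le_iff_le_comap]
    refine le_trans (le_of_eq ?_) (Subgroup.map_mono hΦc)
    rw [Subgroup.map_commutator, Subgroup.map_commutator, Subgroup.map_commutator, map_cjS hE hYT]
  · obtain ⟨hgS, hgx⟩ := exists_cjS hE hYT g hx
    refine ⟨_, hΦp _ hgx, ?_⟩
    show (g * (x : G) * g⁻¹) ^ p = g * ((x ^ p : ↥S) : G) * g⁻¹
    rw [conj_pow, SubgroupClass.coe_pow]

end Cfsg.Agent.S2989
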