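import Cfsg.Statements.S2998
import Cfsg.Agent.Lib.Isolated.LocalCentral

set_option autoImplicit false
open Cfsg

namespace Cfsg.Agent.S2998

/-- Let G be a finite group, p a prime, P a Sylow p-subgroup of G and x ∈ P an element such that N_G(R) ≤ C_G(x) for every nontrivial subgroup R of P. Then P ≤ C_G(x); every G-conjugate of x lying in P equals x (so g ∈ C_G(x) whenever g x g⁻¹ ∈ P); and for every normal subgroup N of G, the image of x in G ⧸ N has the same property with respect to the image of P: the normalizer of every nontrivial subgroup of the image of P centralizes the image of x. -/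
theorem result {G : Type*} [Group G] [Finite G] {p : ℕ} [Fact p.Prime] (P : Sylow p G) (x : G) (hxP : x ∈ (P : Subgroup G)) (hlc : ∀ R : Subgroup G, R ≤ (P : Subgroup G) → R ≠ ⊥ → Subgroup.normalizer (R : Set G) ≤ Subgroup.centralizer ({x} : Set G)) : (P : Subgroup G) ≤ Subgroup.centralizer ({x} : Set G) ∧ (∀ g : G, g * x * g⁻¹ ∈ (P : Subgroup G) → g * x * g⁻¹ = x) ∧ ∀ (N : Subgroup G) [N.Normal], ∀ R : Subgroup (G ⧸ N), R ≤ (P : Subgroup G).map (QuotientGroup.mk' N) → R ≠ ⊥ → Subgroup.normalizer (R : Set (G ⧸ N)) ≤ Subgroup.centralizer ({(QuotientGroup.mk x : G ⧸ N)} : Set (G ⧸ N)) := by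
  have hC : ∀ g : G, (P : Subgroup G) ⊓ ((g • P : Sylow p G) : Subgroup G) ≠ ⊥ → Commute g x :=
    fun g hg => Subgroup.mem_centralizer_singleton_iff.1
      (CfsgLib.Isolated.locallyCentral_mem_centralizer P x hlc g hg)
  have hPC : (P : Subgroup G) ≤ Subgroup.centralizer ({x} : Set G) := by
    by_cases h : (P : Subgroup G) = ⊥
    · rw [h]; exact bot_le
    · exact Subgroup.le_normalizer.trans (hlc _ le_rfl h)
  refine ⟨hPC, fun g hg => ?_, fun N _ R hRP hR => ?_⟩
  · by_cases hx1 : x = 1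
    · simp [hx1]
    · refine mul_inv_eq_iff_eq_mul.2 (hC g fun h => hx1 ?_).eq
      have h1 : g * x * g⁻¹ ∈ (P : Subgroup G) ⊓ ((g • P : Sylow p G) : Subgroup G) :=
        ⟨hg, by rw [Sylow.coe_subgroup_smul]; exact ⟨x, hxP, rfl⟩⟩
      rw [h, Subgroup.mem_bot] at h1
      simpa using h1
  intro q hq
  obtain ⟨g, rfl⟩ := QuotientGroup.mk_surjective q
  set X := R.comap (QuotientGroup.mk' N) with hX
  set D := (P : Subgroup G) ⊓ X with hD
  have hD1 : D ≠ ⊥ := fun h => hR <| (Subgroup.eq_bot_iff_forall _).2 fun r hr => by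
    obtain ⟨a, ha, rfl⟩ := hRP hr
    have h1 : a ∈ D := ⟨ha, hr⟩
    rw [h, Subgroup.mem_bot] at h1
    simp [h1]
  have hgX : ∀ y, y ∈ X ↔ g * y * g⁻¹ ∈ X := fun y => by
    simp only [hX, Subgroup.mem_comap, map_mul, map_inv]
    exact Subgroup.mem_normalizer_iff.1 hq _
  obtain ⟨S, hS⟩ := ((P.2.to_le (inf_le_left (b := X))).comap_subtype (K := X)).exists_le_sylow
  let S' : Subgroup G := (S : Subgroup X).map X.subtype
  have hDS : D ≤ S' := fun y hy => ⟨⟨y, hy.2⟩, hS (show y ∈ D from hy), rfl⟩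
  obtain ⟨Q, hQ⟩ := (S.2.map X.subtype).exists_le_sylow
  obtain ⟨c, rfl⟩ := MulAction.exists_smul_eq G P Q
  have hc : Commute c x := hC c fun h => hD1 (le_bot_iff.1 (h ▸ le_inf inf_le_left (hDS.trans hQ)))
  have hS1 : S' ≠ ⊥ := fun h => hD1 (le_bot_iff.1 (h ▸ hDS))
  have hNS : ∀ u, u ∈ Subgroup.normalizer (S' : Set G) → Commute u x := by
    intro u hu
    set T := S'.map (MulAut.conj c⁻¹).toMonoidHom with hT
    have h1 : T ≤ (P : Subgroup G) := by
      rintro _ ⟨y, hy, rfl⟩
      have := hQ hy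
      rw [Sylow.coe_subgroup_smul] at this
      obtain ⟨z, hz, rfl⟩ := this
      show c⁻¹ * (c * z * c⁻¹) * c⁻¹⁻¹ ∈ _; simp only [mul_assoc, inv_mul_cancel_left, inv_inv, inv_mul_cancel, mul_one]; exact hz
    have h2 : T ≠ ⊥ := by
      rw [hT, ne_eq, Subgroup.map_eq_bot_iff_of_injective _ (MulEquiv.injective _)]; exact hS1
    have h3 : c⁻¹ * u * c ∈ Subgroup.normalizer (T : Set G) := by
      have := Subgroup.le_normalizer_map (MulAut.conj c⁻¹).toMonoidHom (Subgroup.mem_map_of_mem _ hu)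
      simpa [hT] using this
    have h4 : Commute (c⁻¹ * u * c) x := Subgroup.mem_centralizer_singleton_iff.1 (hlc T h1 h2 h3)
    simpa [mul_assoc] using (hc.mul_left h4).mul_left hc.inv_left
  -- Frattini argument inside the preimage of `R`
  obtain ⟨n, hnX, hn⟩ : ∃ n ∈ X, n * g ∈ Subgroup.normalizer (S' : Set G) := by
    let e : X ≃* X :=
      { toFun := fun y => ⟨g * y * g⁻¹, (hgX y).1 y.2⟩
        invFun := fun y => ⟨g⁻¹ * y * g, (hgX _).2 (by simpa [mul_assoc] using y.2)⟩
        left_inv := fun y => Subtype.ext (by simp [mul_assoc])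
        right_inv := fun y => Subtype.ext (by simp [mul_assoc])
        map_mul' := fun y z => Subtype.ext (by simp [mul_assoc]) }
    obtain ⟨n, hn⟩ := MulAction.exists_smul_eq (↥X) (S.comapOfInjective e.symm.toMonoidHom
      e.symm.injective (by rw [MonoidHom.range_eq_top_of_surjective e.symm.toMonoidHom e.symm.surjective]; exact le_top)) S
    refine ⟨n, n.2, Subgroup.mem_normalizer_iff_map_conj_eq.2
      (Subgroup.eq_of_le_of_card_ge ?_ (le_of_eq (Subgroup.card_map_of_injective (MulEquiv.injective _)).symm))⟩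
    rintro _ ⟨_, ⟨y, hy, rfl⟩, rfl⟩
    refine ⟨n * e y * n⁻¹, ?_, by simp [e, mul_assoc]⟩
    rw [SetLike.mem_coe, ← hn, Sylow.coe_subgroup_smul]
    exact ⟨e y, by simpa using hy, by simp⟩
  have hnC : Commute (QuotientGroup.mk' N n) (QuotientGroup.mk' N x) := by
    obtain ⟨a, ha, hae⟩ := hRP (show QuotientGroup.mk' N n ∈ R from hnX)
    rw [← hae]
    exact Commute.map (Subgroup.mem_centralizer_singleton_iff.1 (hPC ha)) _
  rw [Subgroup.mem_centralizer_singleton_iff]
  have h := hnC.inv_left.mul_left ((hNS _ hn).map (QuotientGroup.mk' N))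
  rw [map_mul, inv_mul_cancel_left] at h
  exact h.eq

end Cfsg.Agent.S2998
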