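import Cfsg.Statements.S2999
import Cfsg.Agent.Lib.LocalEven.OffenderSL2.Coords

set_option autoImplicit false
open Cfsg

namespace Cfsg.Agent.S2999

open CfsgLib.LocalEven.PGV CfsgLib.LocalEven.OffenderSL2
open scoped MatrixGroups IsMulCommutative

/-- Conjugation on a normalised subgroup, as endomorphisms of its additive copy. -/
def conjEnd {G : Type*} [Group G] (V P : Subgroup G) (hPV : P ≤ Subgroup.normalizer (V : Set G)) :
    ↥P →* AddMonoid.End (Additive ↥V) where
  toFun g :=
    { toFun := fun v => Additive.ofMul ⟨(g : G) * (v.toMul : G) * (g : G)⁻¹,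
        (Subgroup.mem_normalizer_iff.1 (hPV g.2) _).1 v.toMul.2⟩
      map_zero' := congrArg Additive.ofMul (Subtype.ext (by simp))
      map_add' := fun a b => congrArg Additive.ofMul (Subtype.ext (by simp [mul_assoc])) }
  map_one' := AddMonoidHom.ext fun v => Additive.toMul.injective (Subtype.ext (by
    show (1 : G) * (v.toMul : G) * (1 : G)⁻¹ = (v.toMul : G)
    simp))
  map_mul' a b := AddMonoidHom.ext fun v => Additive.toMul.injective (Subtype.ext (by
    show _ = (a : G) * ((b : G) * (v.toMul : G) * (b : G)⁻¹) * (a : G)⁻¹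
    simp [mul_assoc]))

/-- A copy of `Fin n` without instances. -/
def Fld (n : ℕ) : Type := Fin n

variable {G : Type*} [Group G] {V P : Subgroup G} [IsMulCommutative ↥V] (hPV : P ≤ Subgroup.normalizer (V : Set G))

/-- The action as automorphisms. -/
def act : ↥P →* Γ (Additive ↥V) := (conjEnd V P hPV).toHomUnits

theorem act_apply (g : ↥P) (v : Additive ↥V) :
    (((act hPV g • v : Additive ↥V).toMul : ↥V) : G) = (g : G) * (v.toMul : G) * (g : G)⁻¹ := rfl

theorem act_fix_iff (g : ↥P) (v : Additive ↥V) :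
    act hPV g • v = v ↔ (g : G) * (v.toMul : G) = (v.toMul : G) * (g : G) := by
  constructor
  · intro h
    have e := act_apply hPV g v
    rw [h] at e
    exact mul_inv_eq_iff_eq_mul.1 e.symm
  · intro h
    apply Additive.toMul.injective
    apply Subtype.ext
    rw [act_apply, h, mul_inv_cancel_right]

theorem mem_fix_map {B : Subgroup G} (hB : B ≤ P) (v : Additive ↥V) :
    v ∈ fix ((B.subgroupOf P).map (act hPV)) ↔ (v.toMul : G) ∈ V ⊓ Subgroup.centralizer (B : Set G) := by
  constructor
  · exact fun h => ⟨v.toMul.2, fun b hb => (act_fix_iff hPV ⟨b, hB hb⟩ v).1 (h _ ⟨⟨b, hB hb⟩, hb, rfl⟩)⟩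
  · rintro ⟨-, h⟩ _ ⟨b, hb, rfl⟩
    exact (act_fix_iff hPV b v).2 (h b hb)

theorem card_fix_map {B : Subgroup G} (hB : B ≤ P) :
    Nat.card (fix ((B.subgroupOf P).map (act hPV))) = Nat.card ↥(V ⊓ Subgroup.centralizer (B : Set G)) :=
  Nat.card_congr
    { toFun := fun v => ⟨((v : Additive ↥V).toMul : G), (mem_fix_map hPV hB _).1 v.2⟩
      invFun := fun v => ⟨Additive.ofMul ⟨v, v.2.1⟩, (mem_fix_map hPV hB _).2 v.2⟩
      left_inv := fun _ => rfl
      right_inv := fun _ => rfl }

/-- Let p be a prime and let P and V be subgroups of a finite group with V elementary abelian, P normalizing V and acting faithfully on it (P ∩ C(V) = 1). Suppose P is p-minimal (a Sylow p-subgroup T of P is not normal and lies in a unique maximal subgroup M of P) and A ≤ T is an elementary abelian subgroup such that: |V/C_V(A)| ≤ |A| while |A₀|·|C_V(A₀)| < |A|·|C_V(A)| for every nontrivial proper subgroup A₀ of A; [C_V(T), P] ≠ 1; and P = ⟨A, xAx⁻¹⟩ for every x ∈ P outside M. Then, with q = |A|, there is a field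 F with q elements such that P ≅ SL₂(F), C_V(A) = [V, A]·C_V(P), and P acts on V/C_V(P) as SL₂(F) on its natural two-dimensional module. -/
theorem result {G : Type*} [Group G] [Finite G] {p : ℕ} [Fact p.Prime] (V P : Subgroup G) (hV : Cfsg.IsElementaryAbelian p V) (hPV : P ≤ Subgroup.normalizer (V : Set G)) (hfaith : P ⊓ Subgroup.centralizer (V : Set G) = ⊥) (hmin : Cfsg.IsPMinimal p ↥P) (T : Sylow p ↥P) (M : Subgroup ↥P) (hM : IsCoatom M) (hTM : (T : Subgroup ↥P) ≤ M) (A : Subgroup G) (hAT : A ≤ ((T : Subgroup ↥P).map P.subtype)) (hAel : Cfsg.IsElementaryAbelian p A) (hi : Nat.card ↥V ≤ Nat.card ↥A * Nat.card ↥(V ⊓ Subgroup.centralizer ((A : Subgroup G) : Set G)) ∧ ∀ A₀ : Subgroup G, A₀ ≤ A → A₀ ≠ ⊥ → A₀ ≠ A → Nat.card ↥A₀ * Nat.card ↥(V ⊓ Subgroup.centralizer ((A₀ : Subgroup G) : Set G)) < Nat.card ↥A * Nat.card ↥(V ⊓ Subgroup.centralizer ((A : Subgroup G) : Set G))) (hii : ⁅(V ⊓ Subgroup.centralizer ((((T : Subgroup ↥P).map P.subtype) : Subgroup G) : Set G)), P⁆ ≠ ⊥) (hiii : ∀ x : ↥P, x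 ∉ M → A ⊔ A.map (MulAut.conj (x : G)).toMonoidHom = P) : ∃ (F : Type) (_ : Field F) (_ : Fintype F), Fintype.card F = Nat.card ↥A ∧ Nonempty (↥P ≃* Matrix.SpecialLinearGroup (Fin 2) F) ∧ (V ⊓ Subgroup.centralizer ((A : Subgroup G) : Set G)) = ⁅V, A⁆ ⊔ (V ⊓ Subgroup.centralizer ((P : Subgroup G) : Set G)) ∧ Cfsg.ActsAsSL2OnSection F ⊤ P V (V ⊓ Subgroup.centralizer ((P : Subgroup G) : Set G)) := by
  classical
  have hAP : A ≤ P := hAT.trans (Subgroup.map_subtype_le _)
  haveI : IsMulCommutative ↥V := hV.1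
  let π := act hPV
  have hπ : Function.Injective π := by
    refine (injective_iff_map_eq_one π).2 fun g hg => ?_
    have hmem : (g : G) ∈ P ⊓ Subgroup.centralizer (V : Set G) := ⟨g.2, fun v hv =>
      ((act_fix_iff hPV g (Additive.ofMul ⟨v, hv⟩)).1 (by
        show π g • _ = _
        rw [hg, one_smul])).symm⟩
    rw [hfaith] at hmem
    exact Subtype.ext (Subgroup.mem_bot.1 hmem)
  have hcard : ∀ H : Subgroup ↥P, Nat.card (H.map π) = Nat.card H := fun H =>
    (Nat.card_congr (H.equivMapOfInjective π hπ).toEquiv).symm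
  have hcardG : ∀ B : Subgroup G, B ≤ P → Nat.card ((B.subgroupOf P).map π) = Nat.card B := fun B hB => by
    rw [hcard]; exact Nat.card_congr (Subgroup.subgroupOfEquivOfLe hB).toEquiv
  have hfixP : ∀ v : Additive ↥V, v ∈ fix π.range ↔ (v.toMul : G) ∈ V ⊓ Subgroup.centralizer (P : Set G) := by
    intro v
    rw [← mem_fix_map hPV le_rfl, Subgroup.subgroupOf_self, ← MonoidHom.range_eq_map]
  have hAT' : A.subgroupOf P ≤ (T : Subgroup ↥P) := fun a ha => by
    obtain ⟨t, ht, e⟩ := hAT ha
    rwa [← (Subtype.ext e : t = a)]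
  have hS : Setup p π.range (M.map π) ((T : Subgroup ↥P).map π) ((A.subgroupOf P).map π) :=
    { hp := fun w => Additive.toMul.injective (Subtype.ext (by
        rw [toMul_nsmul, Subgroup.coe_pow]; exact hV.2 _ w.toMul.2))
      AT := Subgroup.map_mono hAT'
      TM := Subgroup.map_mono hTM
      MP := Subgroup.map_le_range π M
      ne := fun e => hM.1 (Subgroup.map_injective hπ (by rw [e, MonoidHom.range_eq_map]))
      el := by
        refine ⟨⟨⟨?_⟩⟩, ?_⟩
        · rintro ⟨_, a, ha, rfl⟩ ⟨_, b, hb, rfl⟩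
          apply Subtype.ext
          show π a * π b = π b * π a
          rw [← map_mul, ← map_mul]
          exact congrArg π (Subtype.ext (congrArg Subtype.val (hAel.1.is_comm.comm ⟨a, ha⟩ ⟨b, hb⟩) : _))
        · rintro _ ⟨a, ha, rfl⟩
          rw [← map_pow, ← map_one π]
          exact congrArg π (Subtype.ext (hAel.2 _ ha))
      hT := T.2.map π
      syl := fun R hR hRp => by
        set R₀ := R.comap π with hR₀
        have hR₀M : R₀ ≤ M := fun x hx => by
          obtain ⟨y, hy, e⟩ := hR hx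
          rwa [← hπ e]
        have hR₀p : IsPGroup p ↥(R₀.subgroupOf M) :=
          (hRp.comap_of_injective π hπ).comap_of_injective M.subtype M.subtype_injective
        obtain ⟨Q, hQ⟩ := hR₀p.exists_le_sylow
        obtain ⟨m, hm⟩ := MulAction.exists_smul_eq ↥M (T.subtype hTM) Q
        refine ⟨π m, ⟨m, m.2, rfl⟩, fun x hx => ?_⟩
        obtain ⟨y, -, rfl⟩ := hR hx
        have hy : (⟨y, hR₀M hx⟩ : ↥M) ∈ (Q : Subgroup ↥M) := hQ hx
        rw [← hm, Sylow.smul_def, Sylow.pointwise_smul_def, Subgroup.mem_pointwise_smul_iff_inv_smul_mem] at hy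
        refine mem_cj.2 ⟨(m : ↥P)⁻¹ * y * (m : ↥P), ?_, by rw [map_mul, map_mul, map_inv]⟩
        show _ ∈ (T : Subgroup ↥P)
        simpa [Sylow.coe_subtype, Subgroup.mem_subgroupOf, MulAut.smul_def] using hy
      off := by
        rw [hcardG A hAP, card_fix_map hPV hAP]
        exact hi.1
      strict := fun B hB hB1 hBA => by
        obtain ⟨B₀, rfl⟩ : ∃ B₀ : Subgroup ↥P, B₀.map π = B :=
          ⟨B.comap π, Subgroup.map_comap_eq_self (hB.trans (Subgroup.map_le_range π _))⟩
        have hle : B₀ ≤ A.subgroupOf P := (Subgroup.map_le_map_iff_of_injective hπ).1 hB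
        have hB' : B₀.map P.subtype ≤ A := Subgroup.map_le_iff_le_comap.2 hle
        have hBP : B₀.map P.subtype ≤ P := Subgroup.map_subtype_le _
        have e : (B₀.map P.subtype).subgroupOf P = B₀ := Subgroup.comap_map_eq_self_of_injective P.subtype_injective _
        have h1 := hi.2 _ hB' (fun h => hB1 (by
            rw [← e, h, Subgroup.bot_subgroupOf, Subgroup.map_bot]))
          (fun h => hBA (by rw [← e, h]))
        rw [← card_fix_map hPV hBP, ← card_fix_map hPV hAP, e, ← hcardG A hAP, ← hcardG _ hBP, e] at h1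
        exact h1
      vec := by
        obtain ⟨v, hv, x, hx, hvx⟩ : ∃ v ∈ V ⊓ Subgroup.centralizer ((((T : Subgroup ↥P).map P.subtype) :
            Subgroup G) : Set G), ∃ x ∈ P, x * v ≠ v * x := by
          by_contra hcon
          push Not at hcon
          exact hii (Subgroup.commutator_eq_bot_iff_le_centralizer.2 fun v hv x hx => hcon v hv x hx)
        refine ⟨Additive.ofMul ⟨v, hv.1⟩, ?_, fun h => hvx ((hfixP _).1 h |>.2 x hx), ?_⟩
        · rintro _ ⟨t, ht, rfl⟩
          exact (act_fix_iff hPV t _).2 (hv.2 _ ⟨t, ht, rfl⟩)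
        · rintro _ ⟨g, rfl⟩ hg
          let X : Subgroup ↥P := (Subgroup.centralizer ({v} : Set G)).comap P.subtype
          have hgX : g ∈ X := Subgroup.mem_centralizer_singleton_iff.2 ((act_fix_iff hPV g _).1 hg)
          have hTX : (T : Subgroup ↥P) ≤ X := fun t ht =>
            Subgroup.mem_centralizer_singleton_iff.2 (hv.2 _ ⟨t, ht, rfl⟩)
          have hXtop : X ≠ ⊤ := fun h => hvx
            (Subgroup.mem_centralizer_singleton_iff.1 (show (⟨x, hx⟩ : ↥P) ∈ X from h ▸ Subgroup.mem_top _))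
          obtain ⟨M', hM', hXM'⟩ := (eq_top_or_exists_le_coatom X).resolve_left hXtop
          have e : M' = M := (hmin T).2.unique ⟨hM', hTX.trans hXM'⟩ ⟨hM, hTM⟩
          exact ⟨g, e ▸ hXM' hgX, rfl⟩
      gen := by
        rintro _ ⟨x, rfl⟩ hxM
        have hxM' : x ∉ M := fun h => hxM ⟨x, h, rfl⟩
        have e := hiii x hxM'
        have e' : A.subgroupOf P ⊔ (A.subgroupOf P).map (MulAut.conj x).toMonoidHom = ⊤ := by
          refine Subgroup.map_injective P.subtype_injective ?_
          rw [Subgroup.map_sup, Subgroup.map_map, ← MonoidHom.range_eq_map, Subgroup.range_subtype,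
            show P.subtype.comp (MulAut.conj x).toMonoidHom = ((MulAut.conj (x : G)).toMonoidHom).comp P.subtype
              from MonoidHom.ext fun y => rfl,
            ← Subgroup.map_map, Subgroup.map_subgroupOf_eq_of_le hAP]
          exact e
        rw [MonoidHom.range_eq_map, ← e', Subgroup.map_sup]
        congr 1
        rw [cj, Subgroup.map_map, Subgroup.map_map]
        congr 1
        exact MonoidHom.ext fun y => by simp }
  obtain ⟨F, iF, fF, ρ, ψ, hFc, hψs, hψ0, hρ, hcom⟩ := hS.exists_coords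
  let e : Fld (Fintype.card F) ≃ F := (Fintype.equivFin F).symm
  letI : Field (Fld (Fintype.card F)) := e.field
  letI : Fintype (Fld (Fintype.card F)) := Fintype.ofEquiv F e.symm
  let r : F ≃+* Fld (Fintype.card F) := (Equiv.ringEquiv e).symm
  let σ : SL(2, F) ≃* SL(2, Fld (Fintype.card F)) :=
    { toFun := Matrix.SpecialLinearGroup.map r.toRingHom
      invFun := Matrix.SpecialLinearGroup.map r.symm.toRingHom
      left_inv := fun g => by ext i j; simp
      right_inv := fun g => by ext i j; simp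
      map_mul' := map_mul _ }
  let ι : ↥P ≃* SL(2, Fld (Fintype.card F)) := ((MonoidHom.ofInjective hπ).trans ρ).trans σ
  refine ⟨Fld (Fintype.card F), inferInstance, inferInstance, ?_, ⟨ι⟩, ?_, hPV, inf_le_left, ?_⟩
  · rw [Fintype.card_congr e, hFc, hcardG A hAP]
  · refine le_antisymm (fun v hv => ?_) (sup_le ?_ ?_)
    · have h1 : Additive.ofMul (⟨v, hv.1⟩ : ↥V) ∈ fix ((A.subgroupOf P).map π) := (mem_fix_map hPV hAP _).2 hv
      rw [hcom] at h1
      obtain ⟨a, ha, b, hb, hab⟩ := AddSubgroup.mem_sup.1 h1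
      have hb' := (hfixP b).1 hb
      have ha' : (a.toMul : G) ∈ ⁅V, A⁆ := by
        let S : AddSubgroup (Additive ↥V) :=
          { carrier := {w | (w.toMul : G) ∈ ⁅V, A⁆}
            zero_mem' := by
              show ((1 : ↥V) : G) ∈ ⁅V, A⁆
              exact one_mem _
            add_mem' := fun {x y} hx hy => by
              show ((x.toMul * y.toMul : ↥V) : G) ∈ ⁅V, A⁆
              rw [Subgroup.coe_mul]; exact mul_mem hx hy
            neg_mem' := fun {x} hx => by
              show ((x.toMul⁻¹ : ↥V) : G) ∈ ⁅V, A⁆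
              rw [InvMemClass.coe_inv]; exact inv_mem hx }
        refine (iSup₂_le (a := S) ?_ : comA _ ≤ S) ha
        rintro _ ⟨g, hg, rfl⟩ _ ⟨w, rfl⟩
        show ((((π g) • w - w : Additive ↥V).toMul : ↥V) : G) ∈ ⁅V, A⁆
        rw [toMul_sub, div_eq_mul_inv, Subgroup.coe_mul, InvMemClass.coe_inv, act_apply,
          Subgroup.commutator_comm]
        exact Subgroup.commutator_mem_commutator hg w.toMul.2
      have e1 : v = (a.toMul : G) * (b.toMul : G) := by
        rw [← Subgroup.coe_mul, ← toMul_add, hab]; rfl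
      rw [e1]
      exact mul_mem (Subgroup.mem_sup_left ha') (Subgroup.mem_sup_right hb')
    · rw [Subgroup.commutator_comm, Subgroup.commutator_le]
      intro a ha v hv
      have h1 := hS.sub_mem_fix (a := π ⟨a, hAP ha⟩) ⟨⟨a, hAP ha⟩, ha, rfl⟩ (Additive.ofMul ⟨v, hv⟩)
      have h2 := (mem_fix_map hPV hAP _).1 h1
      rw [toMul_sub, div_eq_mul_inv, Subgroup.coe_mul, InvMemClass.coe_inv, act_apply] at h2
      exact h2
    · exact inf_le_inf le_rfl (Subgroup.centralizer_le hAP)
  let ψ' : ↥V →* Multiplicative (Fin 2 → Fld (Fintype.card F)) :=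
    { toFun := fun u => Multiplicative.ofAdd fun i => r (ψ (Additive.ofMul u) i)
      map_one' := by ext i; simp
      map_mul' := fun u v => by ext i; simp }
  refine ⟨ι.toMonoidHom, ψ', MonoidHom.range_eq_top.2 ι.surjective, fun x => ?_, fun u => ?_, fun g u => ?_⟩
  · obtain ⟨w, hw⟩ := hψs fun i => r.symm (Multiplicative.toAdd x i)
    refine ⟨w.toMul, Multiplicative.toAdd.injective (funext fun i => ?_)⟩
    show r (ψ w i) = _
    rw [hw, r.apply_symm_apply]
  · refine Iff.trans ?_ ((hψ0 (Additive.ofMul u)).trans (hfixP _))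
    exact ⟨fun h => funext fun i => r.injective ((congrFun (congrArg Multiplicative.toAdd h) i).trans (map_zero r).symm),
      fun h => Multiplicative.toAdd.injective (funext fun i => by
        show r (ψ (Additive.ofMul u) i) = 0
        rw [h]; exact map_zero r)⟩
  · refine ⟨(π g • Additive.ofMul u).toMul, act_apply hPV g _, funext fun i => ?_⟩
    show r (ψ (π g • Additive.ofMul u) i) = _
    rw [show π g = ((MonoidHom.ofInjective hπ g : π.range) : Γ (Additive ↥V)) from rfl, hρ]
    exact RingHom.map_mulVec r.toRingHom _ _ i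

end Cfsg.Agent.S2999
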