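import Cfsg.Statements.S3000
import Cfsg.Agent.Lib.LocalEven.MinPar.Bridge

set_option autoImplicit false
open Cfsg

namespace Cfsg.Agent.S3000

open CfsgLib.LocalEven.PGV CfsgLib.LocalEven.OffenderSL2 CfsgLib.LocalEven.MinPar
open CfsgLib.LocalEven.MinPar.Bridge
open scoped MatrixGroups IsMulCommutative

/-- A copy of `Fin n` without instances. -/
def Fld (n : ℕ) : Type := Fin n

variable {G : Type*} [Group G] {V : Subgroup G} [IsMulCommutative ↥V]

/-- The subgroup of `V` of an additive subgroup of its additive copy. -/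
def toG (U : AddSubgroup (Additive ↥V)) : Subgroup G where
  carrier := {g | ∃ u ∈ U, ((u.toMul : ↥V) : G) = g}
  one_mem' := ⟨0, zero_mem U, by simp⟩
  mul_mem' := by
    rintro _ _ ⟨a, ha, rfl⟩ ⟨b, hb, rfl⟩
    exact ⟨a + b, add_mem ha hb, by rw [toMul_add, Subgroup.coe_mul]⟩
  inv_mem' := by
    rintro _ ⟨a, ha, rfl⟩
    exact ⟨-a, neg_mem ha, by rw [toMul_neg, InvMemClass.coe_inv]⟩

theorem toG_le (U : AddSubgroup (Additive ↥V)) : toG U ≤ V := by
  rintro _ ⟨u, -, rfl⟩
  exact u.toMul.2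

theorem mem_toG {U : AddSubgroup (Additive ↥V)} {u : Additive ↥V} (hu : u ∈ U) :
    ((u.toMul : ↥V) : G) ∈ toG U := ⟨u, hu, rfl⟩

theorem of_mem_toG {U : AddSubgroup (Additive ↥V)} {g : G} (hg : g ∈ toG U) (hgV : g ∈ V) :
    Additive.ofMul (⟨g, hgV⟩ : ↥V) ∈ U := by
  obtain ⟨u, hu, rfl⟩ := hg
  exact hu

/-- Let p be a prime and let P and V be subgroups of a finite group with V elementary abelian, P normalizing V and acting faithfully on it (P ∩ C(V) = 1). Suppose P is p-minimal (a Sylow p-subgroup T of P is not normal and lies in a unique maximal subgroup M of P), O_p(P) = 1, C_P(C_V(T)) ≤ M, and P has a best offender on V: a subgroup A not centralizing V, with A/C_A(V) elementary abelian, such that |B|·|C_V(B)| ≤ |A|·|C_V(A)| for every subgroup B of A. Then there are subgroups E₁, …, E_r of P (r ≥ 1), pairwise commuting and forming with T a product P = (E₁ × ⋯ × E_r)T (internal direct product of the E_i), any two of which are conjugate by an element of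 T, such that V = C_V(E₁⋯E_r)·∏[V, E_i] with [V, E_i, E_j] = 1 for i ≠ j, and for each i there is n ≥ 1 with either E_i ≅ SL₂(pⁿ) acting on [V, E_i]/C_{[V,E_i]}(E_i) as on its natural two-dimensional module, or p = 2 and E_i isomorphic to the symmetric group of degree 2ⁿ + 1 acting on [V, E_i]/C_{[V,E_i]}(E_i) as on its even-weight permutation module. -/
theorem result {G : Type*} [Group G] [Finite G] {p : ℕ} [Fact p.Prime] (V P : Subgroup G) (hV : Cfsg.IsElementaryAbelian p V) (hPV : P ≤ Subgroup.normalizer (V : Set G)) (hfaith : P ⊓ Subgroup.centralizer (V : Set G) = ⊥) (hmin : Cfsg.IsPMinimal p ↥P) (T : Sylow p ↥P) (M : Subgroup ↥P) (hM : IsCoatom M) (hTM : (T : Subgroup ↥P) ≤ M) (hOp : Cfsg.pCore p ↥P = ⊥) (hoff : ∃ A : Subgroup G, A ≤ P ∧ ¬ A ≤ Subgroup.centralizer (V : Set G) ∧ Cfsg.IsBestOffenderOn p V A) (hCT : P ⊓ Subgroup.centralizer ((V ⊓ Subgroup.centralizer ((((T : Subgroup ↥P).map P.subtype) : Subgroup G) : Set G)) : Set G) ≤ M.map P.subtype) :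 ∃ (r : ℕ) (E : Fin r → Subgroup G), 1 ≤ r ∧ (∀ i, E i ≤ P) ∧ (∀ i j, i ≠ j → ⁅E i, E j⁆ = ⊥) ∧ (∀ i, E i ⊓ (⨆ j ∈ {j | j ≠ i}, E j) = ⊥) ∧ (⨆ i, E i) ⊔ ((T : Subgroup ↥P).map P.subtype) = P ∧ (∀ i j, ∃ t ∈ ((T : Subgroup ↥P).map P.subtype), (E i).map (MulAut.conj t).toMonoidHom = E j) ∧ (V ⊓ Subgroup.centralizer (((⨆ i, E i) : Subgroup G) : Set G)) ⊔ (⨆ i, ⁅V, E i⁆) = V ∧ (∀ i j, i ≠ j → ⁅⁅V, E i⁆, E j⁆ = ⊥) ∧ ∀ i, ∃ n : ℕ, 1 ≤ n ∧ ((∃ (F : Type) (_ : Field F) (_ : Fintype F), Fintype.card F = p ^ n ∧ Nonempty (↥(E i) ≃* Matrix.SpecialLinearGroup (Fin 2) F) ∧ Cfsg.ActsAsSL2OnSection F ⊤ (E i) ⁅V, E i⁆ (⁅V, E i⁆ ⊓ Subgroup.centralizer ((E i : Subgroup G) : Set G))) ∨ (p = 2 ∧ Nonempty (↥(E i) ≃* Equiv.Perm (Fin (2 ^ n + 1))) ∧ Cfsg.ActsAsOddPermModuleOnSection (2 ^ n + 1) ⊤ (E i) ⁅V, E i⁆ (⁅V, E i⁆ ⊓ Subgroup.centralizer ((E i : Subgroup G) : Set G)))) := by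
  classical
  haveI : IsMulCommutative ↥V := hV.1
  set π := act hPV with hπdef
  have hπ : Function.Injective π := act_injective hPV hfaith
  haveI : Finite (Additive ↥V) := Finite.of_equiv _ Additive.ofMul
  set P' : Subgroup (Γ (Additive ↥V)) := π.range with hP'
  -- the hypotheses of the theorem
  have hvec : ∃ v ∈ fix ((T : Subgroup ↥P).map π), v ∉ fix P' := by
    by_contra hcon
    push Not at hcon
    refine hM.1 (top_le_iff.1 fun g _ => ?_)
    have hg : (g : G) ∈ M.map P.subtype := hCT ⟨g.2, fun v hv => ?_⟩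
    · obtain ⟨y, hy, e⟩ := hg
      rwa [← (Subtype.ext e : y = g)]
    · have h1 : Additive.ofMul (⟨v, hv.1⟩ : ↥V) ∈ fix ((T : Subgroup ↥P).map π) := by
        rintro _ ⟨t, ht, rfl⟩
        exact (act_fix_iff hPV t _).2 (hv.2 _ ⟨t, ht, rfl⟩)
      exact ((act_fix_iff hPV g _).1 (hcon _ h1 _ ⟨g, rfl⟩)).symm
  have h := minPar_of_hom π hπ (hp_additive hV) hmin hOp T hM hTM hvec
  obtain ⟨A, hAP, hA1, hA⟩ := hoff
  obtain ⟨hel, hne, hoff', -⟩ := exists_offender hPV hfaith hAP hA1 hA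
  obtain ⟨A₀, -, hA₀⟩ := exists_off (P := P') (Subgroup.map_le_range π _) hel hne hoff'
  obtain ⟨r, E, hE, -⟩ := h.exists_decomp hA₀
  -- translation
  set E' : Fin r → Subgroup G := fun i => ((E i).comap π).map P.subtype with hE'
  have hEmap : ∀ i, ((E i).comap π).map π = E i := fun i => Subgroup.map_comap_eq_self (hE.le i)
  have hE'P : ∀ i, E' i ≤ P := fun i => Subgroup.map_subtype_le _
  have hmemE : ∀ i (g : G), g ∈ E' i → ∃ hg : g ∈ P, π ⟨g, hg⟩ ∈ E i := by
    rintro i _ ⟨y, hy, rfl⟩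
    exact ⟨y.2, hy⟩
  have hsup : (⨆ i, E' i) = (⨆ i, (E i).comap π).map P.subtype := (Subgroup.map_iSup _ _).symm
  have hfix : ∀ (X : Subgroup (Γ (Additive ↥V))) (hX : X ≤ P') (v : Additive ↥V),
      v ∈ fix X ↔ (v.toMul : G) ∈ V ⊓ Subgroup.centralizer (((X.comap π).map P.subtype : Subgroup G) : Set G) := by
    intro X hX v
    rw [← mem_fix_map hPV (Subgroup.map_subtype_le _),
      show ((X.comap π).map P.subtype).subgroupOf P = X.comap π from
        Subgroup.comap_map_eq_self_of_injective P.subtype_injective _, Subgroup.map_comap_eq_self hX]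
  have hcom : ∀ i, ⁅V, E' i⁆ = toG (comA (E i)) := by
    intro i
    refine le_antisymm ?_ ?_
    · rw [Subgroup.commutator_comm, Subgroup.commutator_le]
      intro g hg v hv
      obtain ⟨hgP, hgE⟩ := hmemE i g hg
      refine ⟨π ⟨g, hgP⟩ • Additive.ofMul (⟨v, hv⟩ : ↥V) - Additive.ofMul ⟨v, hv⟩,
        AddSubgroup.mem_iSup_of_mem _ (AddSubgroup.mem_iSup_of_mem hgE (com_mem _ _)), ?_⟩
      rw [toMul_sub, div_eq_mul_inv, Subgroup.coe_mul, InvMemClass.coe_inv, act_apply,
        commutatorElement_def]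
      rfl
    · let S : AddSubgroup (Additive ↥V) :=
        { carrier := {w | (w.toMul : G) ∈ ⁅V, E' i⁆}
          zero_mem' := by
            show ((1 : ↥V) : G) ∈ ⁅V, E' i⁆
            exact one_mem _
          add_mem' := fun {x y} hx hy => by
            show ((x.toMul * y.toMul : ↥V) : G) ∈ ⁅V, E' i⁆
            rw [Subgroup.coe_mul]; exact mul_mem hx hy
          neg_mem' := fun {x} hx => by
            show ((x.toMul⁻¹ : ↥V) : G) ∈ ⁅V, E' i⁆
            rw [InvMemClass.coe_inv]; exact inv_mem hx }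
      have hle : comA (E i) ≤ S := by
        refine iSup₂_le fun g hg => ?_
        rintro _ ⟨w, rfl⟩
        obtain ⟨g₀, rfl⟩ := hE.le i hg
        show (((π g₀ • w - w : Additive ↥V).toMul : ↥V) : G) ∈ ⁅V, E' i⁆
        rw [toMul_sub, div_eq_mul_inv, Subgroup.coe_mul, InvMemClass.coe_inv, act_apply,
          Subgroup.commutator_comm]
        exact Subgroup.commutator_mem_commutator ⟨g₀, hg, rfl⟩ w.toMul.2
      rintro _ ⟨u, hu, rfl⟩
      exact hle hu
  -- the commutator part and the fixed points of each subgroup span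
  have hsplit : ∀ i, comA (E i) ⊔ fix (E i) = ⊤ := fun i => top_le_iff.1 (by
    rw [← hE.span]
    refine sup_le ((fix_mono (le_iSup E i)).trans le_sup_right) (iSup_le fun j => ?_)
    by_cases hji : j = i
    · subst hji; exact le_sup_left
    · exact (hE.kill j i hji).trans le_sup_right)
  have hnormU : ∀ i, E' i ≤ Subgroup.normalizer ((⁅V, E' i⁆ : Subgroup G) : Set G) := by
    intro i g hg
    rw [hcom]
    refine Subgroup.mem_normalizer_iff.2 fun v => ?_
    have key : ∀ g ∈ E' i, ∀ v ∈ toG (comA (E i)), g * v * g⁻¹ ∈ toG (comA (E i)) := by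
      intro g hg v hv
      obtain ⟨hgP, hgE⟩ := hmemE i g hg
      obtain ⟨u, hu, rfl⟩ := hv
      refine ⟨π ⟨g, hgP⟩ • u, ?_, act_apply hPV _ u⟩
      have hc : comA (E i) ≤ (comA (E i)).comap (DistribSMul.toAddMonoidHom _ (π ⟨g, hgP⟩)) := by
        refine iSup₂_le fun b hb => ?_
        rintro _ ⟨w, rfl⟩
        show π ⟨g, hgP⟩ • (b • w - w) ∈ comA (E i)
        have e : π ⟨g, hgP⟩ • (b • w - w) =
            (π ⟨g, hgP⟩ * b * (π ⟨g, hgP⟩)⁻¹) • (π ⟨g, hgP⟩ • w) - π ⟨g, hgP⟩ • w := by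
          rw [smul_sub, mul_smul, mul_smul, inv_smul_smul]
        rw [e]
        exact AddSubgroup.mem_iSup_of_mem _ (AddSubgroup.mem_iSup_of_mem
          (mul_mem (mul_mem hgE hb) (inv_mem hgE)) (com_mem _ _))
      exact hc hu
    refine ⟨key g hg v, fun hv => ?_⟩
    have := key g⁻¹ (inv_mem hg) _ hv
    simpa [mul_assoc] using this
  refine ⟨r, E', hE.pos, hE'P, fun i j hij => ?_, fun i => ?_, ?_, fun i j => ?_, ?_, fun i j hij => ?_,
    fun i => ?_⟩
  · rw [Subgroup.commutator_eq_bot_iff_le_centralizer]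
    intro a ha b hb
    obtain ⟨haP, haE⟩ := hmemE i a ha
    obtain ⟨hbP, hbE⟩ := hmemE j b hb
    have e := (hE.comm i j hij _ haE _ hbE).eq
    rw [← map_mul, ← map_mul] at e
    exact (congrArg Subtype.val (hπ e)).symm
  · have h1 : (E i).comap π ⊓ (⨆ j ∈ {j | j ≠ i}, (E j).comap π) = ⊥ := by
      refine Subgroup.map_injective hπ ?_
      rw [Subgroup.map_inf _ _ _ hπ, Subgroup.map_bot, hEmap]
      simp only [Subgroup.map_iSup, hEmap]
      exact hE.disj i
    have h2 := congrArg (Subgroup.map P.subtype) h1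
    rw [Subgroup.map_inf _ _ _ P.subtype_injective, Subgroup.map_bot] at h2
    simp only [Subgroup.map_iSup] at h2
    exact h2
  · rw [hsup, ← Subgroup.map_sup]
    have h1 : (⨆ i, (E i).comap π) ⊔ (T : Subgroup ↥P) = ⊤ := by
      refine Subgroup.map_injective hπ ?_
      rw [Subgroup.map_sup, Subgroup.map_iSup, ← MonoidHom.range_eq_map]
      simp only [hEmap]
      exact hE.gen
    rw [h1, ← MonoidHom.range_eq_map, Subgroup.range_subtype]
  · obtain ⟨_, ⟨t, ht, rfl⟩, e⟩ := hE.conj i j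
    refine ⟨t, ⟨t, ht, rfl⟩, ?_⟩
    have h1 : ((E i).comap π).map (MulAut.conj t).toMonoidHom = (E j).comap π := by
      refine Subgroup.map_injective hπ ?_
      rw [hEmap, Subgroup.map_map, ← e, cj]
      conv_rhs => rw [← hEmap i, Subgroup.map_map]
      congr 1
      exact MonoidHom.ext fun y => by simp
    show (((E i).comap π).map P.subtype).map _ = ((E j).comap π).map P.subtype
    rw [← h1, Subgroup.map_map, Subgroup.map_map]
    rfl
  · refine le_antisymm (sup_le inf_le_left (iSup_le fun i => by rw [hcom]; exact toG_le _)) fun v hv => ?_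
    obtain ⟨z, hz, y, hy, e⟩ := AddSubgroup.mem_sup.1
      (hE.span ▸ AddSubgroup.mem_top (Additive.ofMul (⟨v, hv⟩ : ↥V)))
    have e1 : v = (z.toMul : G) * (y.toMul : G) := by
      rw [← Subgroup.coe_mul, ← toMul_add, e]; rfl
    rw [e1]
    refine mul_mem (Subgroup.mem_sup_left ?_) (Subgroup.mem_sup_right ?_)
    · have h1 := (hfix _ (iSup_le hE.le) z).1 hz
      refine ⟨h1.1, Subgroup.centralizer_le ?_ h1.2⟩
      rw [hsup]
      exact Subgroup.map_mono (iSup_le fun i => Subgroup.comap_mono (le_iSup E i))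
    · let S : AddSubgroup (Additive ↥V) :=
        { carrier := {w | (w.toMul : G) ∈ ⨆ i, ⁅V, E' i⁆}
          zero_mem' := by
            show ((1 : ↥V) : G) ∈ ⨆ i, ⁅V, E' i⁆
            exact one_mem _
          add_mem' := fun {x y} hx hy => by
            show ((x.toMul * y.toMul : ↥V) : G) ∈ ⨆ i, ⁅V, E' i⁆
            rw [Subgroup.coe_mul]; exact mul_mem hx hy
          neg_mem' := fun {x} hx => by
            show ((x.toMul⁻¹ : ↥V) : G) ∈ ⨆ i, ⁅V, E' i⁆
            rw [InvMemClass.coe_inv]; exact inv_mem hx }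
      refine (iSup_le fun i u hu => ?_ : (⨆ i, comA (E i)) ≤ S) hy
      exact Subgroup.mem_iSup_of_mem i (hcom i ▸ mem_toG hu)
  · rw [Subgroup.commutator_eq_bot_iff_le_centralizer, hcom]
    rintro _ ⟨u, hu, rfl⟩
    exact ((hfix _ (hE.le j) u).1 (hE.kill i j hij hu)).2
  · have hker : ∀ (u : ↥⁅V, E' i⁆) (huV : (u : G) ∈ V),
        Additive.ofMul (⟨u, huV⟩ : ↥V) ∈ fix (E i) ↔
          (u : G) ∈ ⁅V, E' i⁆ ⊓ Subgroup.centralizer ((E' i : Subgroup G) : Set G) := fun u huV =>
      ⟨fun h1 => ⟨u.2, ((hfix _ (hE.le i) _).1 h1).2⟩, fun h1 => (hfix _ (hE.le i) _).2 ⟨huV, h1.2⟩⟩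
    have hUV : ∀ u : ↥⁅V, E' i⁆, (u : G) ∈ V := fun u => toG_le _ ((hcom i).le u.2)
    let incl : ↥⁅V, E' i⁆ → Additive ↥V := fun u => Additive.ofMul ⟨(u : G), hUV u⟩
    let ι : ↥(E' i) ≃* ↥(E i) :=
      (((E i).comap π).equivMapOfInjective P.subtype P.subtype_injective).symm.trans
        ((((E i).comap π).equivMapOfInjective π hπ).trans (MulEquiv.subgroupCongr (hEmap i)))
    have hι : ∀ (e : ↥(E' i)), ((ι e : ↥(E i)) : Γ (Additive ↥V)) = π ⟨(e : G), hE'P i e.2⟩ := by
      intro e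
      have h1 : (((((E i).comap π).equivMapOfInjective P.subtype P.subtype_injective).symm e : ↥((E i).comap π)) : ↥P) =
          ⟨(e : G), hE'P i e.2⟩ := by
        refine Subtype.ext ?_
        have := congrArg Subtype.val
          ((((E i).comap π).equivMapOfInjective P.subtype P.subtype_injective).apply_symm_apply e)
        exact this
      show π _ = _
      exact congrArg π h1
    have hact : ∀ (e : ↥(E' i)) (u : ↥⁅V, E' i⁆), ∃ w : ↥⁅V, E' i⁆,
        (w : G) = (e : G) * (u : G) * (e : G)⁻¹ ∧ incl w = ((ι e : ↥(E i)) : Γ (Additive ↥V)) • incl u := by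
      intro e u
      refine ⟨⟨_, (Subgroup.mem_normalizer_iff.1 (hnormU i e.2) _).1 u.2⟩, rfl, ?_⟩
      apply Additive.toMul.injective
      apply Subtype.ext
      rw [hι, act_apply]
      rfl
    have hdecomp : ∀ w, ∃ u : ↥⁅V, E' i⁆, w - incl u ∈ fix (E i) := by
      intro w
      obtain ⟨a, ha, b, hb, rfl⟩ := AddSubgroup.mem_sup.1 (hsplit i ▸ AddSubgroup.mem_top w)
      refine ⟨⟨_, (hcom i).symm.le (mem_toG ha)⟩, ?_⟩
      show a + b - a ∈ fix (E i)
      rwa [add_sub_cancel_left]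
    rcases hE.model i with ⟨F, iF, fF, n, ρ, ψ, hn, hFc, hψs, hψ0, hρ⟩ | ⟨hp2, n, ρ, ψ, hn, hψe, hψs, hψ0, hρ⟩
    · let e : Fld (Fintype.card F) ≃ F := (Fintype.equivFin F).symm
      letI : Field (Fld (Fintype.card F)) := e.field
      letI : Fintype (Fld (Fintype.card F)) := Fintype.ofEquiv F e.symm
      let rr : F ≃+* Fld (Fintype.card F) := (Equiv.ringEquiv e).symm
      let σ : SL(2, F) ≃* SL(2, Fld (Fintype.card F)) :=
        { toFun := Matrix.SpecialLinearGroup.map rr.toRingHom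
          invFun := Matrix.SpecialLinearGroup.map rr.symm.toRingHom
          left_inv := fun g => by ext a b; simp
          right_inv := fun g => by ext a b; simp
          map_mul' := map_mul _ }
      let ρ' : ↥(E' i) ≃* SL(2, Fld (Fintype.card F)) := (ι.trans ρ).trans σ
      refine ⟨n, hn, Or.inl ⟨Fld (Fintype.card F), inferInstance, inferInstance,
        (Fintype.card_congr e).trans hFc, ⟨ρ'⟩, hnormU i, inf_le_left, ?_⟩⟩
      let ψ' : ↥⁅V, E' i⁆ →* Multiplicative (Fin 2 → Fld (Fintype.card F)) :=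
        { toFun := fun u => Multiplicative.ofAdd fun a => rr (ψ (incl u) a)
          map_one' := by
            ext a
            show rr (ψ (incl 1) a) = 0
            rw [show incl 1 = 0 from rfl, map_zero]
            exact map_zero rr
          map_mul' := fun u v => by
            ext a
            show rr (ψ (incl (u * v)) a) = rr (ψ (incl u) a) + rr (ψ (incl v) a)
            rw [show incl (u * v) = incl u + incl v from rfl, map_add, Pi.add_apply, map_add] }
      refine ⟨ρ'.toMonoidHom, ψ', MonoidHom.range_eq_top.2 ρ'.surjective, fun x => ?_, fun u => ?_, fun g u => ?_⟩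
      · obtain ⟨w, hw⟩ := hψs fun a => rr.symm (Multiplicative.toAdd x a)
        obtain ⟨u, hu0⟩ := hdecomp w
        have hu := (hψ0 _).2 hu0
        rw [map_sub, sub_eq_zero] at hu
        replace hu := hu.symm.trans hw
        refine ⟨u, Multiplicative.toAdd.injective (funext fun a => ?_)⟩
        show rr (ψ (incl u) a) = _
        rw [hu, rr.apply_symm_apply]
      · rw [← hker u (hUV u), ← hψ0]
        exact ⟨fun h => funext fun a => rr.injective ((congrFun (congrArg Multiplicative.toAdd h) a).trans (map_zero rr).symm),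
          fun h => Multiplicative.toAdd.injective (funext fun a => by
            show rr (ψ (incl u) a) = 0
            rw [h]; exact map_zero rr)⟩
      · obtain ⟨w, hw, hw'⟩ := hact g u
        refine ⟨w, hw, funext fun a => ?_⟩
        show rr (ψ (incl w) a) = _
        rw [hw', hρ]
        exact RingHom.map_mulVec rr.toRingHom _ _ a
    · let ρ' : ↥(E' i) ≃* Equiv.Perm (Fin (2 ^ n + 1)) := ι.trans ρ
      refine ⟨n, hn, Or.inr ⟨hp2, ⟨ρ'⟩, hnormU i, inf_le_left, ?_⟩⟩
      let ψ' : ↥⁅V, E' i⁆ →* Multiplicative (Fin (2 ^ n + 1) → ZMod 2) :=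
        { toFun := fun u => Multiplicative.ofAdd (ψ (incl u))
          map_one' := by rw [show incl 1 = 0 from rfl, map_zero]; rfl
          map_mul' := fun u v => by rw [show incl (u * v) = incl u + incl v from rfl, map_add]; rfl }
      refine ⟨ρ'.toMonoidHom, ψ', MonoidHom.range_eq_top.2 ρ'.surjective, fun u => hψe _, fun v hv => ?_,
        fun u => ?_, fun g u => ?_⟩
      · obtain ⟨w, hw⟩ := hψs v hv
        obtain ⟨u, hu0⟩ := hdecomp w
        have hu := (hψ0 _).2 hu0
        rw [map_sub, sub_eq_zero] at hu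
        replace hu := hu.symm.trans hw
        exact ⟨u, hu⟩
      · rw [← hker u (hUV u), ← hψ0]
        exact Iff.rfl
      · obtain ⟨w, hw, hw'⟩ := hact g u
        refine ⟨w, hw, fun a => ?_⟩
        show ψ (incl w) a = _
        rw [hw', hρ]
        rfl


end Cfsg.Agent.S3000
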