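import Cfsg.Statements.S3001
import Cfsg.Agent.Lib.LocalEven.MinPar.Moves

set_option autoImplicit false
open Cfsg

namespace Cfsg.Agent.S3001

open CfsgLib.LocalEven.PGV CfsgLib.LocalEven.MinPar
open scoped IsMulCommutative

/-- Let p be a prime and let P and V be subgroups of a finite group with V elementary abelian, P normalizing V and acting faithfully on it (P ∩ C(V) = 1). Suppose P is p-minimal (a Sylow p-subgroup is not normal and lies in a unique maximal subgroup), O_p(P) = 1, and P has a best offender on V (a subgroup A not centralizing V, with A/C_A(V) elementary abelian and |B|·|C_V(B)| ≤ |A|·|C_V(A)| for every B ≤ A). Then [C_V(T), P] ≠ 1 for every Sylow p-subgroup T of P. -/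
theorem result {G : Type*} [Group G] [Finite G] {p : ℕ} [Fact p.Prime] (V P : Subgroup G) (hV : Cfsg.IsElementaryAbelian p V) (hPV : P ≤ Subgroup.normalizer (V : Set G)) (hfaith : P ⊓ Subgroup.centralizer (V : Set G) = ⊥) (hmin : Cfsg.IsPMinimal p ↥P) (hOp : Cfsg.pCore p ↥P = ⊥) (hoff : ∃ A : Subgroup G, A ≤ P ∧ ¬ A ≤ Subgroup.centralizer (V : Set G) ∧ Cfsg.IsBestOffenderOn p V A) (T : Sylow p ↥P) : ⁅(V ⊓ Subgroup.centralizer ((((T : Subgroup ↥P).map P.subtype) : Subgroup G) : Set G)), P⁆ ≠ ⊥ := by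
  haveI : IsMulCommutative ↥V := hV.1
  intro hbot
  obtain ⟨A, hAP, hA1, hA⟩ := hoff
  obtain ⟨hel, hne, hle, hbest⟩ := Bridge.exists_offender hPV hfaith hAP hA1 hA
  obtain ⟨v, hv, hv'⟩ := exists_moved (Bridge.act hPV) (Bridge.act_injective hPV hfaith)
    (Bridge.hp_additive hV) hmin hOp T (Subgroup.map_le_range _ _) hel hne hle hbest
  refine hv' ?_
  rintro _ ⟨g, rfl⟩
  have hT : v ∈ fix ((((T : Subgroup ↥P).map P.subtype).subgroupOf P).map (Bridge.act hPV)) := by
    rw [Subgroup.subgroupOf, Subgroup.comap_map_eq_self_of_injective P.subtype_injective]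
    exact hv
  exact (Bridge.act_fix_iff hPV g v).2 ((Subgroup.commutator_eq_bot_iff_le_centralizer.1 hbot
    ((Bridge.mem_fix_map hPV (Subgroup.map_subtype_le _) v).1 hT)) g g.2)

end Cfsg.Agent.S3001
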