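import Cfsg.Statements.S3003
import Cfsg.Agent.Lib.Generation.Coprime

set_option autoImplicit false
open Cfsg

namespace Cfsg.Agent.S3003

/-- Let G be a finite group, p a prime and Q a large p-subgroup of G: C_G(Q) ≤ Q and N_G(U) ≤ N_G(Q) for every nontrivial subgroup U of C_G(Q). Let Q ≤ G₁ ≤ G, let R be a subgroup of order prime to p normalized by G₁, and let U ≤ G₁ be a p-subgroup. If U contains a nontrivial element which is G₁-conjugate to an element of Z(Q), then C_R(U) = 1. In particular, if U is elementary abelian of order at least p² and every maximal subgroup of U contains a nontrivial element G₁-conjugate into Z(Q), then R = 1. -/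
theorem result {G : Type*} [Group G] [Finite G] {p : ℕ} [Fact p.Prime] (Q : Subgroup G) (hQp : IsPGroup p ↥Q) (hlarge : Cfsg.IsLarge Q) (G₁ : Subgroup G) (hQG : Q ≤ G₁) (R : Subgroup G) (hR : (Nat.card ↥R).Coprime p) (hGR : G₁ ≤ Subgroup.normalizer (R : Set G)) (U : Subgroup G) (hUG : U ≤ G₁) (hUp : IsPGroup p ↥U) : ((∃ x ∈ U, x ≠ 1 ∧ ∃ g ∈ G₁, g * x * g⁻¹ ∈ Q ⊓ Subgroup.centralizer (Q : Set G)) → R ⊓ Subgroup.centralizer (U : Set G) = ⊥) ∧ (Cfsg.IsElementaryAbelian p U → p ^ 2 ≤ Nat.card ↥U → (∀ U₀ : Subgroup G, U₀ ≤ U → IsCoatom (U₀.subgroupOf U) → ∃ x ∈ U₀, x ≠ 1 ∧ ∃ g ∈ G₁, g * x * g⁻¹ ∈ Q ⊓ Subgroup.centralizer (Q : Set G)) → R = ⊥) := by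
  have ha : ∀ W : Subgroup G, W ≤ G₁ → (∃ x ∈ W, x ≠ 1 ∧ ∃ g ∈ G₁, g * x * g⁻¹ ∈ Q ⊓ Subgroup.centralizer (Q : Set G)) →
      R ⊓ Subgroup.centralizer (W : Set G) = ⊥ := by
    rintro W - ⟨x, hxW, hx1, g, hg, hzQ, hzC⟩
    refine (Subgroup.eq_bot_iff_forall _).2 fun r hr => ?_
    set z := g * x * g⁻¹ with hz
    set r' := g * r * g⁻¹ with hr'
    have hr'R : r' ∈ R := (Subgroup.mem_normalizer_iff.1 (hGR hg) r).1 hr.1
    have hz1 : z ≠ 1 := fun h => hx1 (by simpa [hz] using h)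
    have hcomm : Commute r' z := by
      have h := Subgroup.mem_centralizer_iff.1 hr.2 x hxW
      show g * r * g⁻¹ * (g * x * g⁻¹) = g * x * g⁻¹ * (g * r * g⁻¹)
      calc g * r * g⁻¹ * (g * x * g⁻¹) = g * (r * x) * g⁻¹ := by group
        _ = g * (x * r) * g⁻¹ := by rw [h]
        _ = _ := by group
    have hnQ : r' ∈ Subgroup.normalizer (Q : Set G) := by
      refine hlarge.2 (Subgroup.zpowers z) ((Subgroup.zpowers_le).2 hzC) (Subgroup.zpowers_ne_bot.2 hz1) ?_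
      refine Subgroup.mem_normalizer_iff_map_conj_eq.2 ?_
      have e : r' * z * r'⁻¹ = z := by rw [hcomm.eq, mul_inv_cancel_right]
      show (Subgroup.zpowers z).map (MulAut.conj r').toMonoidHom = _
      rw [MonoidHom.map_zpowers]
      exact congrArg Subgroup.zpowers e
    obtain ⟨n, hn⟩ := hQp.exists_card_eq
    have hQR : ∀ y ∈ Q, y ∈ R → y = 1 := fun y hy hy' => orderOf_eq_one_iff.1
      (Nat.eq_one_of_dvd_coprimes (hR.symm.pow_left n) (hn ▸ Subgroup.orderOf_dvd_natCard Q hy)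
        (Subgroup.orderOf_dvd_natCard R hy'))
    have hr'C : r' ∈ Subgroup.centralizer (Q : Set G) := Subgroup.mem_centralizer_iff.2 fun q hq => by
      have h1 : r' * q * r'⁻¹ * q⁻¹ ∈ Q := Q.mul_mem ((Subgroup.mem_normalizer_iff.1 hnQ q).1 hq) (Q.inv_mem hq)
      have h2 : r' * (q * r'⁻¹ * q⁻¹) ∈ R :=
        R.mul_mem hr'R ((Subgroup.mem_normalizer_iff.1 (hGR (hQG hq)) _).1 (R.inv_mem hr'R))
      have h3 := hQR _ h1 (by simpa [mul_assoc] using h2)
      rw [mul_inv_eq_one, mul_inv_eq_iff_eq_mul] at h3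
      exact h3.symm
    have := hQR r' (hlarge.1 hr'C) hr'R
    simpa [hr'] using this
  refine ⟨ha U hUG, fun hel hcard hhyp => ?_⟩
  by_contra hR1
  have hU1 : U ≠ ⊥ := fun h => by
    rw [h, Subgroup.card_bot] at hcard
    nlinarith [(Fact.out : p.Prime).two_le]
  obtain ⟨U₀, hU₀, hco, hne⟩ := CfsgLib.Generation.exists_coatom_fixed hel.1 hel.2 hU1 (hUG.trans hGR) hR hR1
  exact hne (ha U₀ (hU₀.trans hUG) (hhyp U₀ hU₀ hco))

end Cfsg.Agent.S3003
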