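import Cfsg.Statements.S3006
import Cfsg.Agent.Lib.ChermakDelgado.Basic

set_option autoImplicit false
open scoped Pointwise
open Cfsg

namespace Cfsg.Agent.S3006

/-- Let P be a finite p-group, Q a centrally large subgroup of P (|Q|·|Z(Q)| maximal among subgroups of P) and A an abelian subgroup of P of largest order. Then QA = AQ is a centrally large subgroup of P, C_{QA}(Q ∩ A) = Z(Q)·A, and the subgroup generated by all centrally large subgroups of P contains C_P(Z(J(P))), where J(P) is generated by the abelian subgroups of largest order. -/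
theorem result {p : ℕ} [Fact p.Prime] (P : Type*) [Group P] [Finite P] (hP : IsPGroup p P) (Q A : Subgroup P) (hQ : Cfsg.IsCentrallyLarge Q) (hA : A ∈ Cfsg.maxAbelianSubgroups P) : ((Q ⊔ A : Subgroup P) : Set P) = (Q : Set P) * (A : Set P) ∧ Cfsg.IsCentrallyLarge (Q ⊔ A) ∧ (Q ⊔ A) ⊓ Subgroup.centralizer ((Q ⊓ A : Subgroup P) : Set P) = (Q ⊓ Subgroup.centralizer (Q : Set P)) ⊔ A ∧ (((Q ⊓ Subgroup.centralizer (Q : Set P)) ⊔ A : Subgroup P) : Set P) = ((Q ⊓ Subgroup.centralizer (Q : Set P)) : Set P) * (A : Set P) ∧ Subgroup.centralizer ((Cfsg.thompsonSubgroupA P ⊓ Subgroup.centralizer (Cfsg.thompsonSubgroupA P : Set P) : Subgroup P) : Set P) ≤ Cfsg.centrallyLargeJoin P := by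
  obtain ⟨hcl, hset, hcard, hBmax⟩ := CfsgLib.ChermakDelgado.maxAb_sup hQ hA
  have hZQ := CfsgLib.ChermakDelgado.cl_le hQ
  rw [inf_eq_right.2 hZQ]
  have hIA : Subgroup.centralizer (Q : Set P) ⊔ A ≤ (Q ⊔ A) ⊓ Subgroup.centralizer ((Q ⊓ A : Subgroup P) : Set P) := by
    refine sup_le (le_inf (hZQ.trans le_sup_left) (CfsgLib.ChermakDelgado.cent_mono inf_le_left))
      (le_inf le_sup_right ((CfsgLib.ChermakDelgado.comm_of_maxAb hA).trans (CfsgLib.ChermakDelgado.cent_mono inf_le_right)))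
  have hQAZ : Q ⊓ A ≤ Subgroup.centralizer ((Subgroup.centralizer (Q : Set P) : Subgroup P) : Set P) :=
    inf_le_left.trans (CfsgLib.ChermakDelgado.le_centralizer_centralizer Q)
  have key : ∀ g ∈ (Q ⊔ A) ⊓ Subgroup.centralizer ((Q ⊓ A : Subgroup P) : Set P),
      ∃ z ∈ Subgroup.centralizer (Q : Set P), ∃ a ∈ A, g = z * a := by
    rintro g ⟨hg, hgc⟩
    replace hg : g ∈ ((Q ⊔ A : Subgroup P) : Set P) := hg
    rw [hset, Set.mem_mul] at hg
    obtain ⟨q, hq, a, ha, rfl⟩ := hg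
    have haC : a ∈ Subgroup.centralizer ((Q ⊓ A : Subgroup P) : Set P) :=
      CfsgLib.ChermakDelgado.cent_mono inf_le_right (CfsgLib.ChermakDelgado.comm_of_maxAb hA ha)
    have hq' : q ∈ Subgroup.centralizer ((Q ⊓ A : Subgroup P) : Set P) := by
      simpa using Subgroup.mul_mem _ hgc (Subgroup.inv_mem _ haC)
    have hqB : q ∈ (Q ⊓ A) ⊔ Subgroup.centralizer (Q : Set P) := by
      rw [← CfsgLib.ChermakDelgado.centralizer_maxAb hBmax, CfsgLib.ChermakDelgado.centralizer_sup]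
      exact ⟨hq', CfsgLib.ChermakDelgado.le_centralizer_centralizer Q hq⟩
    rw [sup_comm] at hqB
    obtain ⟨z, hz, y, hy, rfl⟩ := CfsgLib.Coprime.exists_mul_of_mem_sup
      ((Subgroup.le_centralizer_iff.1 hQAZ).trans (Subgroup.centralizer_le_normalizer _)) hqB
    exact ⟨z, hz, y * a, A.mul_mem hy.2 ha, mul_assoc z y a⟩
  refine ⟨hset, hcl, le_antisymm (fun g hg => ?_) hIA, Set.Subset.antisymm (fun g hg => ?_) ?_, ?_⟩
  · obtain ⟨z, hz, a, ha, rfl⟩ := key g hg
    exact Subgroup.mul_mem_sup hz ha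
  · obtain ⟨z, hz, a, ha, rfl⟩ := key g (hIA hg)
    exact ⟨z, ⟨hZQ hz, hz⟩, a, ha, rfl⟩
  · rintro _ ⟨z, hz, a, ha, rfl⟩
    exact Subgroup.mul_mem_sup hz.2 ha
  · refine (CfsgLib.ChermakDelgado.centralizer_center_thompson_le hQ).trans (sup_le (le_sSup hQ) ?_)
    refine sSup_le fun A' hA' => le_sup_right.trans (le_sSup (?_ : Cfsg.IsCentrallyLarge (Q ⊔ A')))
    exact (CfsgLib.ChermakDelgado.maxAb_sup hQ hA').1

end Cfsg.Agent.S3006
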