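import Cfsg.Statements.S3008
import Cfsg.Agent.Lib.ChermakDelgado.Invariant
-- import your own Cfsg.Agent.* helpers here

set_option autoImplicit false
open Cfsg CfsgLib.ChermakDelgado

namespace Cfsg.Agent.S3008

/-- Let P be a finite p-group, with J(P) generated by its abelian subgroups of largest order and J̃(P) = C_P(Z(J(P))); call R ≤ P centrally large if |R|·|Z(R)| is as large as possible, and let P_MCL be generated by the minimal centrally large subgroups. Then: for every centrally large Q, Q·J(P) ⊇ J̃(P); some minimal centrally large subgroup of P is normalized by both J(P) and P_MCL; if P = J(P) and d(P)² = |P|·|Z(P)|, where d(P) is the largest order of an abelian subgroup, then every minimal centrally large subgroup of P is abelian; and if every minimal centrally large subgroup is abelian then J̃(P) = J(P). -/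
theorem result {p : ℕ} [Fact p.Prime] (P : Type*) [Group P] [Finite P] (hP : IsPGroup p P) : (∀ Q : Subgroup P, Cfsg.IsCentrallyLarge Q → Subgroup.centralizer ((Cfsg.thompsonSubgroupA P ⊓ Subgroup.centralizer (Cfsg.thompsonSubgroupA P : Set P) : Subgroup P) : Set P) ≤ Q ⊔ Cfsg.thompsonSubgroupA P) ∧ (∃ Q : Subgroup P, Cfsg.IsMinimalCentrallyLarge Q ∧ Cfsg.thompsonSubgroupA P ≤ Subgroup.normalizer (Q : Set P) ∧ Cfsg.minimalCentrallyLargeJoin P ≤ Subgroup.normalizer (Q : Set P)) ∧ (Cfsg.thompsonSubgroupA P = ⊤ → (∀ A ∈ Cfsg.maxAbelianSubgroups P, Nat.card ↥A ^ 2 = Nat.card P * Nat.card ↥(Subgroup.center P)) → ∀ Q : Subgroup P, Cfsg.IsMinimalCentrallyLarge Q → IsMulCommutative ↥Q) ∧ ((∀ Q : Subgroup P, Cfsg.IsMinimalCentrallyLarge Q → IsMulCommutative ↥Q) → Subgroup.centralizer ((Cfsg.thompsonSubgroupA P ⊓ Subgroup.centralizer (Cfsg.thompsonSubgroupA P : Set P) : Subgroup P) : Set P) = Cfsg.thompsonSubgroupA P) := by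
  have habel_iff : ∀ {X Y : Subgroup P}, IsMinimalCentrallyLarge X → IsMinimalCentrallyLarge Y →
      IsMulCommutative X → IsMulCommutative Y := by
    intro X Y hX hY h
    rw [comm_iff, ← Subgroup.commutator_eq_bot_iff_le_centralizer] at h ⊢
    rw [commutator_eq_commutator_inf hY hX.1, inf_comm, ← commutator_eq_commutator_inf hX hY.1, h]
  refine ⟨fun Q hQ => centralizer_center_thompson_le hQ, exists_minimalCL_normalized hP, ?_, ?_⟩
  · intro hJ hsq Q hQ
    obtain ⟨A, hA⟩ := exists_maxAb (G := P)
    have hTcl : IsCentrallyLarge (⊤ : Subgroup P) := by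
      have := cl_sup_thompson hQ.1
      rwa [hJ, sup_top_eq] at this
    have hAl : IsCentralizerLarge A := by
      refine large_of_ge (n := Nat.card (⊤ : Subgroup P) * Nat.card (Subgroup.centralizer ((⊤ : Subgroup P) : Set P))) (cl_large hTcl) ?_
      rw [centralizer_maxAb hA, ← sq, hsq A hA, Subgroup.coe_top, Subgroup.centralizer_univ,
        Subgroup.card_top]
    obtain ⟨M, hM, hMA⟩ := exists_minimalCL_le ((centrallyLarge_iff A).2 ⟨hAl, (centralizer_maxAb hA).le.trans le_rfl⟩)
    exact habel_iff hM hQ ((comm_iff M).2 (hMA.trans ((comm_of_maxAb hA).trans (cent_mono hMA))))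
  · intro hall
    obtain ⟨Q, hQ⟩ := exists_minimalCL (G := P)
    have hQc : ∀ X : Subgroup P, IsMinimalCentrallyLarge X → Subgroup.centralizer (X : Set P) = X := fun X hX =>
      le_antisymm (cl_le hX.1) ((comm_iff X).1 (hall X hX))
    have hle : ∀ B : Subgroup P, IsMulCommutative B → Nat.card B ≤ Nat.card Q := by
      intro B hB
      have h1 := (Nat.mul_le_mul_left (Nat.card B) (card_le_of_le' ((comm_iff B).1 hB))).trans
        (le_maxCentralizerProduct B)
      rw [← show _ = Cfsg.maxCentralizerProduct P from cl_large hQ.1, hQc Q hQ] at h1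
      exact Nat.mul_self_le_mul_self_iff.1 h1
    have hJ : thompsonSubgroupA P = minimalCentrallyLargeJoin P := by
      refine le_antisymm (sSup_le fun A hA => le_sSup ?_) (sSup_le fun X hX => le_sSup ?_)
      · have hl : IsCentralizerLarge A := by
          refine large_of_ge (cl_large hQ.1) ?_
          rw [centralizer_maxAb hA, hQc Q hQ]
          exact Nat.mul_le_mul (hA.2 Q (hall Q hQ)) (hA.2 Q (hall Q hQ))
        obtain ⟨M, hM, hMA⟩ := exists_minimalCL_le ((centrallyLarge_iff A).2 ⟨hl, (centralizer_maxAb hA).le⟩)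
        have hMA' : M = A := Subgroup.eq_of_le_of_card_ge hMA ((minimalCL_card_eq hQ hM).1 ▸ hle A hA.1)
        exact hMA' ▸ hM
      · exact ⟨hall X hX, fun B hB => (minimalCL_card_eq hX hQ).1 ▸ hle B hB⟩
    have hJcl : IsCentrallyLarge (thompsonSubgroupA P) := hJ ▸ cl_minimalJoin
    rw [inf_eq_right.2 (cl_le hJcl)]
    exact (large_centralizer (cl_large hJcl)).2

end Cfsg.Agent.S3008
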