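import Cfsg.Statements.S3009
import Cfsg.Agent.Lib.LocalEven.NaturalRecognition
import Cfsg.Agent.Lib.ClassicalGroups.SLTwoSylow

set_option autoImplicit false
open Cfsg
open CfsgLib.LocalEven.NaturalRecognition CfsgLib.ClassicalGroups
open scoped MatrixGroups Pointwise commutatorElement

namespace Cfsg.Agent.S3009

theorem mem_slUni_iff_up {F : Type*} [Field F] {x : SL(2, F)} :
    x ∈ (slUni : Subgroup SL(2, F)) ↔ ∃ t : F, x = up t := by
  constructor
  · rintro ⟨h0, h1, h2⟩
    refine ⟨x.1 0 1, Subtype.ext ?_⟩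
    ext i j
    fin_cases i <;> fin_cases j
    · exact h0
    · rfl
    · exact h1
    · exact h2
  · rintro ⟨t, rfl⟩
    exact ⟨rfl, rfl, rfl⟩

/-- Let p be a prime and let G and V be subgroups of a finite group with V elementary abelian and normalized by G, and G isomorphic to SL₂(F) for a finite field F with pⁿ elements. Suppose G acts irreducibly and nontrivially on V by conjugation (no G-invariant subgroups of V other than 1 and V, and [V, G] ≠ 1), and let S be a Sylow p-subgroup of G and V₀ = C_V(S). If [V, S, S] = 1 or |V| ≤ |V₀|², then G acts on V as SL₂(F) on its natural two-dimensional module; in particular |V| = |F|². -/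
theorem result {X : Type*} [Group X] [Finite X] {p : ℕ} [Fact p.Prime] (G V : Subgroup X) (hV : Cfsg.IsElementaryAbelian p V) (hGV : G ≤ Subgroup.normalizer (V : Set X)) (F : Type) [Field F] [Fintype F] (n : ℕ) (hF : Fintype.card F = p ^ n) (hG : Nonempty (↥G ≃* Matrix.SpecialLinearGroup (Fin 2) F)) (hirr : ∀ U : Subgroup X, U ≤ V → G ≤ Subgroup.normalizer (U : Set X) → U = ⊥ ∨ U = V) (hnt : ⁅V, G⁆ ≠ ⊥) (S : Sylow p ↥G) (hyp : ⁅⁅V, (S : Subgroup ↥G).map G.subtype⁆, (S : Subgroup ↥G).map G.subtype⁆ = ⊥ ∨ Nat.card ↥V ≤ Nat.card ↥(V ⊓ Subgroup.centralizer (((S : Subgroup ↥G).map G.subtype : Subgroup X) : Set X)) ^ 2) : Cfsg.ActsAsSL2OnSection F ⊤ G V ⊥ := by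
  obtain ⟨e₀⟩ := hG
  have : CharP F p := charP_of_card_eq_prime_pow hF
  -- adapt the isomorphism to the Sylow subgroup
  obtain ⟨g, hg⟩ := MulAction.exists_smul_eq SL(2, F) (slUniSylow p)
    (S.mapSurjective (f := e₀.toMonoidHom) e₀.surjective)
  let e : ↥G ≃* SL(2, F) := e₀.trans (MulAut.conj g⁻¹)
  have hSe : ∀ y : ↥G, y ∈ S ↔ e y ∈ (slUni : Subgroup SL(2, F)) := by
    intro y
    have h1 : y ∈ S ↔ e₀ y ∈ S.mapSurjective (f := e₀.toMonoidHom) e₀.surjective :=
      (Subgroup.mem_map_iff_mem e₀.injective).symm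
    rw [h1, ← hg]
    show e₀ y ∈ MulAut.conj g • (slUni : Subgroup SL(2, F)) ↔ _
    rw [Subgroup.mem_pointwise_smul_iff_inv_smul_mem]
    simp [e]
  let f : SL(2, F) →* X := G.subtype.comp e.symm.toMonoidHom
  have hfG : ∀ y, f y ∈ G := fun y => (e.symm y).2
  have hfe : ∀ y : ↥G, f (e y) = y := fun y => by simp [f]
  have hSmem : ∀ x : X, x ∈ (S : Subgroup ↥G).map G.subtype ↔ ∃ t : F, f (up t) = x := by
    intro x
    constructor
    · rintro ⟨y, hy, rfl⟩
      obtain ⟨t, ht⟩ := mem_slUni_iff_up.1 ((hSe y).1 hy)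
      exact ⟨t, by rw [← ht, hfe]; rfl⟩
    · rintro ⟨t, rfl⟩
      exact ⟨e.symm (up t), (hSe _).2 (by rw [e.apply_symm_apply]; exact mem_slUni_iff_up.2 ⟨t, rfl⟩),
        rfl⟩
  -- the module
  let _ : CommGroup ↥V := { (inferInstance : Group ↥V) with mul_comm := hV.1.is_comm.comm }
  let fN : SL(2, F) →* ↥(Subgroup.normalizer (V : Set X)) := f.codRestrict _ fun y => hGV (hfG y)
  let φ : SL(2, F) →* MulAut ↥V := V.normalizerMonoidHom.comp fN
  let _ : DistribMulAction SL(2, F) (Additive ↥V) :=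
    { smul := fun y x => Additive.ofMul (φ y x.toMul)
      one_smul := fun x => by show Additive.ofMul (φ 1 x.toMul) = x; rw [map_one]; rfl
      mul_smul := fun y z x => by
        show Additive.ofMul (φ (y * z) x.toMul) = Additive.ofMul (φ y (φ z x.toMul))
        rw [map_mul]; rfl
      smul_zero := fun y => by
        show Additive.ofMul (φ y 1) = 0
        rw [map_one]; rfl
      smul_add := fun y a b => by
        show Additive.ofMul (φ y (a.toMul * b.toMul)) = _
        rw [map_mul]; rfl }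
  have hval : ∀ (y : SL(2, F)) (x : Additive ↥V),
      (((y • x).toMul : ↥V) : X) = f y * (x.toMul : X) * (f y)⁻¹ := fun y x => rfl
  have hexp : ∀ m : Additive ↥V, p • m = 0 := fun m => by
    apply Additive.toMul.injective
    rw [toMul_nsmul, toMul_zero]
    exact Subtype.ext (by rw [SubmonoidClass.coe_pow]; exact hV.2 _ m.toMul.2)
  have hirr' : ∀ W : AddSubgroup (Additive ↥V),
      (∀ y : SL(2, F), ∀ m ∈ W, y • m ∈ W) → W = ⊥ ∨ W = ⊤ := by
    intro W hW
    let U : Subgroup X := (AddSubgroup.toSubgroup' W).map V.subtype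
    have hU : G ≤ Subgroup.normalizer (U : Set X) := by
      have hconj : ∀ y ∈ G, ∀ x ∈ U, y * x * y⁻¹ ∈ U := by
        rintro y hy _ ⟨x, hx, rfl⟩
        refine ⟨(e ⟨y, hy⟩ • Additive.ofMul x).toMul, hW _ _ hx, ?_⟩
        show ((e ⟨y, hy⟩ • Additive.ofMul x).toMul : X) = _
        rw [hval, hfe]; rfl
      intro y hy
      rw [Subgroup.mem_normalizer_iff]
      refine fun x => ⟨hconj y hy x, fun hx => ?_⟩
      have := hconj y⁻¹ (inv_mem hy) _ hx
      simpa [mul_assoc] using this
    rcases hirr U (Subgroup.map_subtype_le _) hU with h | h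
    · left
      rw [eq_bot_iff]
      intro m hm
      have hmU : (m.toMul : X) ∈ U := ⟨m.toMul, hm, rfl⟩
      rw [h, Subgroup.mem_bot] at hmU
      exact AddSubgroup.mem_bot.2 (Additive.toMul.injective (Subtype.ext hmU))
    · right
      rw [eq_top_iff]
      intro m _
      obtain ⟨x, hx, hxm⟩ : (m.toMul : X) ∈ U := by rw [h]; exact m.toMul.2
      rw [Subtype.ext hxm] at hx
      exact hx
  have hnt' : ∃ (y : SL(2, F)) (m : Additive ↥V), y • m ≠ m := by
    by_contra hcon
    push Not at hcon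
    refine hnt (Subgroup.commutator_eq_bot_iff_le_centralizer.2 fun x hx => ?_)
    rw [Subgroup.mem_centralizer_iff]
    intro y hy
    have h := congrArg (fun m : Additive ↥V => (m.toMul : X))
      (hcon (e ⟨y, hy⟩) (Additive.ofMul ⟨x, hx⟩))
    change (((e ⟨y, hy⟩ • Additive.ofMul (⟨x, hx⟩ : ↥V)).toMul : ↥V) : X) = x at h
    rw [hval, hfe] at h
    exact mul_inv_eq_iff_eq_mul.1 h
  have hyp' : (∀ (s t : F) (m : Additive ↥V), up s • (up t • m - m) = up t • m - m) ∨
      Nat.card (Additive ↥V) ≤ Nat.card (fixUp F (Additive ↥V)) ^ 2 := by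
    rcases hyp with hq | hc
    · refine Or.inl fun s t m => ?_
      apply Additive.toMul.injective
      apply Subtype.ext
      have hd : ((up t • m - m).toMul : X) = ⁅f (up t), (m.toMul : X)⁆ := by
        rw [toMul_sub, div_eq_mul_inv, Subgroup.coe_mul, Subgroup.coe_inv, hval, commutatorElement_def]
      have hz : ((up t • m - m).toMul : X) ∈ ⁅V, (S : Subgroup ↥G).map G.subtype⁆ := by
        rw [hd, Subgroup.commutator_comm]
        exact Subgroup.commutator_mem_commutator ((hSmem _).2 ⟨t, rfl⟩) m.toMul.2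
      have hc1 := Subgroup.mem_centralizer_iff.1
        (Subgroup.commutator_eq_bot_iff_le_centralizer.1 hq hz) _ ((hSmem _).2 ⟨s, rfl⟩)
      rw [hval]
      exact mul_inv_eq_iff_eq_mul.2 hc1
    · refine Or.inr (hc.trans (le_of_eq ?_))
      congr 1
      refine Nat.card_congr
        { toFun := fun x => ⟨Additive.ofMul ⟨x.1, x.2.1⟩, fun t => Additive.toMul.injective (Subtype.ext ?_)⟩
          invFun := fun m => ⟨(m.1.toMul : X), m.1.toMul.2, fun u hu => ?_⟩
          left_inv := fun x => rfl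
          right_inv := fun m => rfl }
      · rw [hval]
        exact mul_inv_eq_iff_eq_mul.2 (x.2.2 _ ((hSmem _).2 ⟨t, rfl⟩))
      · obtain ⟨t, rfl⟩ := (hSmem u).1 hu
        have h := congrArg (fun m : Additive ↥V => (m.toMul : X)) (m.2 t)
        change (((up t • m.1).toMul : ↥V) : X) = (m.1.toMul : X) at h
        rw [hval] at h
        exact mul_inv_eq_iff_eq_mul.1 h
  obtain ⟨ψ, hψ⟩ := exists_equiv hexp hirr' hnt' hyp'
  refine ⟨hGV, bot_le, e.toMonoidHom,
    { toFun := fun u => Multiplicative.ofAdd (ψ (Additive.ofMul u))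
      map_one' := by rw [ofMul_one, map_zero, ofAdd_zero]
      map_mul' := fun a b => by rw [ofMul_mul, map_add, ofAdd_add] }, ?_, ?_, ?_, ?_⟩
  · exact MonoidHom.range_eq_top.2 e.surjective
  · intro v
    exact ⟨(ψ.symm (Multiplicative.toAdd v)).toMul, by simp⟩
  · intro u
    simp
  · intro y u
    refine ⟨(e y • Additive.ofMul u).toMul, ?_, ?_⟩
    · rw [hval, hfe]; rfl
    · simp [hψ]

end Cfsg.Agent.S3009
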