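import Cfsg.Statements.S3011
import Cfsg.Agent.Lib.Involutions.BaerSuzuki
import Cfsg.Agent.Lib.PCore.Basic
-- import your own Cfsg.Agent.* helpers here

set_option autoImplicit false
open Cfsg

namespace Cfsg.Agent.S3011

variable {G : Type*} [Group G] [Finite G]

omit [Finite G] in
private theorem eq_one_of_odd_of_eq_inv {h : G} (ho : Odd (orderOf h)) (he : h = h⁻¹) : h = 1 := by
  have h2 : h ^ 2 = 1 := by rw [pow_two]; nth_rewrite 1 [he]; exact inv_mul_cancel h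
  rcases (Nat.dvd_prime Nat.prime_two).1 (orderOf_dvd_of_pow_eq_one h2) with e | e
  · exact orderOf_eq_one_iff.1 e
  · rw [e] at ho; exact absurd ho (by decide)

omit [Finite G] in
private theorem commute_of_pow_four {h k : G} (ho : Odd (orderOf h)) (hc : Commute (h ^ 4) k) :
    Commute h k := by
  obtain ⟨m, hm⟩ := exists_pow_eq_self_of_coprime (x := h) (n := 4)
    (by rw [show (4 : ℕ) = 2 ^ 2 from rfl]; exact Nat.Coprime.pow_left 2 ho.coprime_two_left)
  exact hm ▸ hc.pow_left m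

/-- No vertex `a` inverts two nontrivial elements, one centralized by `b`, the other by `c = a b`. -/
private theorem key {V : Subgroup G} (hS : Cfsg.IsSidkiPair V) {a b c h k : G} (ha : a ∈ V)
    (hb : b ∈ V) (hcab : c = a * b) (habc : Commute a b)
    (hV : ∀ w ∈ V, w ≠ 1 → w = a ∨ w = b ∨ w = c) (hb2 : b * b = 1) (ha2 : a * a = 1)
    (ho : Odd (orderOf h)) (ko : Odd (orderOf k)) (hah : a * h * a⁻¹ = h⁻¹) (hbh : b * h = h * b)
    (hak : a * k * a⁻¹ = k⁻¹) (hck : c * k = k * c) : h = 1 ∨ k = 1 := by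
  have hch : c * h * c⁻¹ = h⁻¹ := by
    rw [hcab, show a * b * h * (a * b)⁻¹ = a * (b * h * b⁻¹) * a⁻¹ by group, hbh, mul_inv_cancel_right,
      hah]
  have hck' : c * k * c⁻¹ = k := by rw [hck, mul_inv_cancel_right]
  have hbk : b * k * b⁻¹ = k⁻¹ := by
    have hbc : b = a⁻¹ * c := by rw [hcab, inv_mul_cancel_left]
    have ha' : a⁻¹ = a := inv_eq_of_mul_eq_one_right ha2
    rw [hbc, show a⁻¹ * c * k * (a⁻¹ * c)⁻¹ = a⁻¹ * (c * k * c⁻¹) * a⁻¹⁻¹ by group, hck', ha', hak]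
  have hbh' : b * h * b⁻¹ = h := by rw [hbh, mul_inv_cancel_right]
  -- `h` and `k` commute
  have hcomm : k = 1 ∨ Commute h k := by
    have e : b * (h⁻¹ * k * h) * b⁻¹ = (h⁻¹ * k * h)⁻¹ := by
      rw [show b * (h⁻¹ * k * h) * b⁻¹ = (b * h * b⁻¹)⁻¹ * (b * k * b⁻¹) * (b * h * b⁻¹) by group, hbh', hbk]
      group
    have ho' : orderOf (h⁻¹ * k * h) = orderOf k := by
      have := CfsgLib.Involutions.orderOf_conj_eq h⁻¹ k
      rwa [inv_inv] at this
    obtain ⟨w, hw, hw1, hwy⟩ := hS _ b hb (ho' ▸ ko) e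
    have hwy' : w * (h⁻¹ * k * h) * w⁻¹ = h⁻¹ * k * h := by rw [hwy, mul_inv_cancel_right]
    rcases hV w hw hw1 with rfl | rfl | rfl
    · right
      refine commute_of_pow_four ho ?_
      rw [show w * (h⁻¹ * k * h) * w⁻¹ = (w * h * w⁻¹)⁻¹ * (w * k * w⁻¹) * (w * h * w⁻¹) by group,
        hah, hak, inv_inv] at hwy'
      -- `h k⁻¹ h⁻¹ = h⁻¹ k h`
      have e2 : h ^ 2 * k⁻¹ * (h ^ 2)⁻¹ = k := by
        rw [show h ^ 2 * k⁻¹ * (h ^ 2)⁻¹ = h * (h * k⁻¹ * h⁻¹) * h⁻¹ by simp [pow_two, mul_assoc], hwy']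
        group
      have e4 : h ^ 4 * k * (h ^ 4)⁻¹ = k := by
        have e3 : h ^ 2 * k * (h ^ 2)⁻¹ = k⁻¹ := by
          have := congrArg (·⁻¹) e2
          simpa [mul_assoc] using this
        rw [show h ^ 4 * k * (h ^ 4)⁻¹ = h ^ 2 * (h ^ 2 * k * (h ^ 2)⁻¹) * (h ^ 2)⁻¹ by
          rw [show 4 = 2 + 2 from rfl, pow_add]; group, e3, e2]
      exact mul_inv_eq_iff_eq_mul.1 e4
    · left
      rw [e] at hwy'
      have hy : h⁻¹ * k * h = 1 := eq_one_of_odd_of_eq_inv (ho' ▸ ko) hwy'.symm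
      calc k = h * (h⁻¹ * k * h) * h⁻¹ := by group
        _ = 1 := by rw [hy]; group
    · right
      refine commute_of_pow_four ho ?_
      rw [show w * (h⁻¹ * k * h) * w⁻¹ = (w * h * w⁻¹)⁻¹ * (w * k * w⁻¹) * (w * h * w⁻¹) by group,
        hch, hck', inv_inv] at hwy'
      have e2 : h ^ 2 * k * (h ^ 2)⁻¹ = k := by
        rw [show h ^ 2 * k * (h ^ 2)⁻¹ = h * (h * k * h⁻¹) * h⁻¹ by simp [pow_two, mul_assoc], hwy']
        group
      have hc2 : Commute (h ^ 2) k := mul_inv_eq_iff_eq_mul.1 e2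
      rw [show 4 = 2 * 2 from rfl, pow_mul]
      exact hc2.pow_left 2
  rcases hcomm with hk1 | hcomm
  · exact Or.inr hk1
  have hmo : Odd (orderOf (h * k)) :=
    (ho.mul ko).of_dvd_nat hcomm.orderOf_mul_dvd_mul_orderOf
  have hm : a * (h * k) * a⁻¹ = (h * k)⁻¹ := by
    rw [show a * (h * k) * a⁻¹ = (a * h * a⁻¹) * (a * k * a⁻¹) by group, hah, hak, ← mul_inv_rev, hcomm.eq]
  obtain ⟨w, hw, hw1, hwm⟩ := hS _ a ha hmo hm
  have hwm' : w * (h * k) * w⁻¹ = h * k := by rw [hwm, mul_inv_cancel_right]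
  rcases hV w hw hw1 with rfl | rfl | rfl
  · -- `h k = 1`
    rw [hm] at hwm'
    have h1 : h * k = 1 := eq_one_of_odd_of_eq_inv hmo hwm'.symm
    have hk' : k = h⁻¹ := eq_inv_of_mul_eq_one_right h1
    refine Or.inr (eq_one_of_odd_of_eq_inv ko ?_)
    calc k = b * k * b⁻¹ := by rw [hk', ← conj_inv, hbh']
      _ = k⁻¹ := hbk
  · rw [show w * (h * k) * w⁻¹ = (w * h * w⁻¹) * (w * k * w⁻¹) by group, hbh', hbk] at hwm'
    exact Or.inr (eq_one_of_odd_of_eq_inv ko (mul_left_cancel hwm').symm)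
  · rw [show w * (h * k) * w⁻¹ = (w * h * w⁻¹) * (w * k * w⁻¹) by group, hch, hck'] at hwm'
    exact Or.inl (eq_one_of_odd_of_eq_inv ho (mul_right_cancel hwm').symm)

private theorem exists_inverted {a : G} (ha : a ^ 2 = 1) (ha1 : a ≠ 1) (hO : a ∉ Cfsg.pCore 2 G) :
    ∃ h : G, h ≠ 1 ∧ Odd (orderOf h) ∧ a * h * a⁻¹ = h⁻¹ := by
  have := Fact.mk Nat.prime_two
  by_contra hno
  push Not at hno
  refine hO ?_
  have ha2 : orderOf a = 2 := orderOf_eq_prime ha ha1
  obtain ⟨N, hN, hNp, haN⟩ := CfsgLib.Involutions.exists_normal_isPGroup_of_mem (p := 2) (x := a) fun g => by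
    have hb : orderOf (g * a * g⁻¹) = 2 := by rw [CfsgLib.Involutions.orderOf_conj_eq, ha2]
    obtain ⟨k, m, hm, hkm⟩ := Nat.exists_eq_two_pow_mul_odd (orderOf_pos (a * (g * a * g⁻¹))).ne'
    refine CfsgLib.Involutions.isPGroup_two_closure_pair ha2 hb (k := k) ?_
    set x := a * (g * a * g⁻¹) with hx
    have ho : orderOf (x ^ 2 ^ k) = m := by
      rw [orderOf_pow, hkm, Nat.gcd_eq_right (Dvd.intro m rfl), Nat.mul_div_cancel_left m (Nat.two_pow_pos k)]
    have h1 : x ^ 2 ^ k = 1 := by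
      by_contra hne
      exact hno _ hne (ho ▸ hm) (CfsgLib.Involutions.inverts_pow (CfsgLib.Involutions.left_inverts_prod ha2 hb) _)
    rw [h1, orderOf_one] at ho
    rw [hkm, ← ho, mul_one]
  exact CfsgLib.PCore.le_pCore hN hNp haN


/-- Let G be a finite group and V a nontrivial elementary abelian 2-subgroup of G of order at most 4 such that, whenever an element of V inverts an element h of G of odd order, some nontrivial element of V commutes with h. Then V meets O₂(G) nontrivially. (The case of order at most 4 has a short argument from the Baer–Suzuki theorem.) -/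
theorem result {G : Type*} [Group G] [Finite G] (V : Subgroup G) (hV : Cfsg.IsElementaryAbelian 2 V) (hV1 : V ≠ ⊥) (hS : Cfsg.IsSidkiPair V) (h4 : Nat.card V ≤ 4) : V ⊓ Cfsg.pCore 2 G ≠ ⊥ := by
  intro hbot
  have hO : ∀ v ∈ V, v ≠ 1 → ∃ h : G, h ≠ 1 ∧ Odd (orderOf h) ∧ v * h * v⁻¹ = h⁻¹ := fun v hv hv1 =>
    exists_inverted (hV.2 v hv) hv1 fun h => hv1 (Subgroup.mem_bot.1 (hbot ▸ ⟨hv, h⟩))
  have hsep : ∀ v h w : G, v * h * v⁻¹ = h⁻¹ → Odd (orderOf h) → h ≠ 1 → w * h = h * w → w ≠ v := by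
    rintro v h w hvh ho h1 hwh rfl
    refine h1 (eq_one_of_odd_of_eq_inv ho ?_)
    rw [← hvh, hwh, mul_inv_cancel_right]
  obtain ⟨a, ha, ha1⟩ := (Subgroup.ne_bot_iff_exists_ne_one.1 hV1) |> fun ⟨x, hx⟩ =>
    (⟨x, x.2, fun h => hx (Subtype.ext h)⟩ : ∃ a, a ∈ V ∧ a ≠ 1)
  obtain ⟨h, h1, ho, hah⟩ := hO a ha ha1
  obtain ⟨b, hb, hb1, hbh⟩ := hS h a ha ho hah
  have hba : b ≠ a := hsep a h b hah ho h1 hbh
  have hcomm : Commute a b := congrArg Subtype.val (hV.1.1.comm (⟨a, ha⟩ : ↥V) ⟨b, hb⟩)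
  have hsq : ∀ v ∈ V, v * v = 1 := fun v hv => by rw [← pow_two]; exact hV.2 v hv
  have hab1 : a * b ≠ 1 := fun e => hba (by
    rw [← inv_eq_of_mul_eq_one_right e, inv_eq_of_mul_eq_one_right (hsq a ha)])
  have hall : ∀ w ∈ V, w ≠ 1 → w = a ∨ w = b ∨ w = a * b := by
    classical
    intro w hw hw1
    by_contra hne
    push Not at hne
    obtain ⟨n1, n2, n3⟩ := hne
    have nab : a ≠ a * b := fun e => hb1 (left_eq_mul.1 e)
    have nbb : b ≠ a * b := fun e => ha1 (right_eq_mul.1 e)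
    have h5 : ({1, a, b, a * b, w} : Finset G).card = 5 := by
      rw [Finset.card_insert_of_notMem, Finset.card_insert_of_notMem, Finset.card_insert_of_notMem,
        Finset.card_insert_of_notMem, Finset.card_singleton] <;>
        simp only [Finset.mem_insert, Finset.mem_singleton, not_or]
      · exact Ne.symm n3
      · exact ⟨nbb, Ne.symm n2⟩
      · exact ⟨Ne.symm hba, nab, Ne.symm n1⟩
      · exact ⟨Ne.symm ha1, Ne.symm hb1, Ne.symm hab1, Ne.symm hw1⟩
    have hle : ({1, a, b, a * b, w} : Finset G).card ≤ Nat.card V := by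
      rw [← Nat.card_eq_finsetCard]
      refine Nat.card_le_card_of_injective (fun x => (⟨x.1, ?_⟩ : ↥V)) fun x y h => Subtype.ext (congrArg Subtype.val h :)
      have hx := x.2
      simp only [Finset.mem_insert, Finset.mem_singleton] at hx
      rcases hx with e | e | e | e | e <;> rw [e]
      exacts [V.one_mem, ha, hb, V.mul_mem ha hb, hw]
    omega
  obtain ⟨k, k1, ko, hbk⟩ := hO b hb hb1
  obtain ⟨d, hd, hd1, hdk⟩ := hS k b hb ko hbk
  have hdb : d ≠ b := hsep b k d hbk ko k1 hdk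
  have hbh' : b * h * b⁻¹ = h := by rw [hbh, mul_inv_cancel_right]
  rcases hall d hd hd1 with rfl | rfl | rfl
  · -- base vertex `d * b`
    have e1 : d * b * h * (d * b)⁻¹ = h⁻¹ := by
      rw [show d * b * h * (d * b)⁻¹ = d * (b * h * b⁻¹) * d⁻¹ by group, hbh', hah]
    have e2 : d * b * k * (d * b)⁻¹ = k⁻¹ := by
      rw [show d * b * k * (d * b)⁻¹ = d * (b * k * b⁻¹) * d⁻¹ by group, hbk, ← conj_inv, hdk,
        mul_inv_cancel_right]
    have e3 : d = d * b * b := by rw [mul_assoc, hsq b hb, mul_one]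
    rcases key hS (a := d * b) (b := b) (c := d) (h := h) (k := k) (V.mul_mem ha hb) hb e3
      (hcomm.mul_left (Commute.refl b)) (fun w hw hw1 => by rcases hall w hw hw1 with e | e | e <;> simp [e])
      (hsq b hb) (hsq _ (V.mul_mem ha hb)) ho ko e1 hbh e2 hdk with e | e
    exacts [h1 e, k1 e]
  · exact hdb rfl
  · have e2 : a * k * a⁻¹ = k⁻¹ := by
      have hb' : b⁻¹ = b := inv_eq_of_mul_eq_one_right (hsq b hb)
      have hk2 : b * k⁻¹ * b⁻¹ = k := by rw [← conj_inv, hbk, inv_inv]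
      calc a * k * a⁻¹ = a * (b * k⁻¹ * b⁻¹) * a⁻¹ := by rw [hk2]
        _ = (a * b) * k⁻¹ * (a * b)⁻¹ := by group
        _ = k⁻¹ := by rw [← conj_inv, hdk, mul_inv_cancel_right]
    rcases key hS ha hb rfl hcomm hall (hsq b hb) (hsq a ha) ho ko hah hbh e2 hdk with e | e
    exacts [h1 e, k1 e]

end Cfsg.Agent.S3011
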