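import Cfsg.Statements.S3012
-- import your own Cfsg.Agent.* helpers here

set_option autoImplicit false
open Cfsg

namespace Cfsg.Agent.S3012

/-- Let G be a finite group, V a nontrivial elementary abelian 2-subgroup of G satisfying the Sidki pair condition (every odd-order element inverted by an element of V commutes with a nontrivial element of V), and K a normal subgroup of G with V ∩ K = 1. Then the image of V in G/K satisfies the Sidki pair condition in G/K. -/
theorem result {G : Type*} [Group G] [Finite G] (V K : Subgroup G) [K.Normal] (hV : Cfsg.IsElementaryAbelian 2 V) (hV1 : V ≠ ⊥) (hS : Cfsg.IsSidkiPair V) (hVK : V ⊓ K = ⊥) : Cfsg.IsSidkiPair (V.map (QuotientGroup.mk' K)) := by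
  intro hbar vbar hvbar hodd hinv
  obtain ⟨v, hv, rfl⟩ := hvbar
  obtain ⟨k, rfl⟩ := QuotientGroup.mk'_surjective K hbar
  set π := QuotientGroup.mk' K
  have hv2 : v * v = 1 := by simpa [pow_two] using hV.2 v hv
  have hvi : v⁻¹ = v := inv_eq_of_mul_eq_one_right hv2
  -- a lift inverted by `v`
  set y := k⁻¹ * v * k * v with hy
  have hy1 : v * y * v⁻¹ = y⁻¹ := by
    simp only [hy, mul_inv_rev, hvi, inv_inv, mul_assoc, hv2, mul_one]
  have hπy : π y = π k⁻¹ * π k⁻¹ := by
    calc π y = π k⁻¹ * (π v * π k * (π v)⁻¹) := by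
          simp only [hy, map_mul, map_inv, mul_assoc]
          rw [← map_inv π v, hvi]
      _ = _ := by rw [hinv, map_inv]
  -- pass to a power of odd order with image `π k`
  obtain ⟨j, hj⟩ : ∃ j : ℤ, π (y ^ j) = π k := by
    obtain ⟨m, hm⟩ := hodd
    refine ⟨(m : ℤ), ?_⟩
    have h1 : (π k) ^ (2 * (m : ℤ) + 1) = 1 := by
      have := pow_orderOf_eq_one (π k)
      rw [hm, ← zpow_natCast] at this
      simpa using this
    rw [map_zpow, hπy, map_inv, ← zpow_neg_one, ← zpow_add, ← zpow_mul]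
    rw [show (-1 + -1 : ℤ) * m = 1 - (2 * (m : ℤ) + 1) by ring, zpow_sub, h1, inv_one, mul_one, zpow_one]
  set z := y ^ j with hz
  have hz1 : v * z * v⁻¹ = z⁻¹ := by rw [hz, ← conj_zpow, hy1, inv_zpow]
  obtain ⟨a, c, hc, hzc⟩ := Nat.exists_eq_two_pow_mul_odd (orderOf_pos z).ne'
  obtain ⟨d, hd⟩ := exists_pow_eq_self_of_coprime (x := π k) (n := 2 ^ a)
    (hodd.coprime_two_left.pow_left a)
  set u := (z ^ (2 ^ a)) ^ d with hu
  have hu1 : v * u * v⁻¹ = u⁻¹ := by rw [hu, ← pow_mul, ← conj_pow, hz1, inv_pow]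
  have hu2 : Odd (orderOf u) := by
    have h1 : orderOf (z ^ (2 ^ a)) = c := by
      rw [orderOf_pow' z (by positivity), hzc, Nat.gcd_eq_right (dvd_mul_right _ _)]
      exact Nat.mul_div_cancel_left _ (by positivity)
    exact Odd.of_dvd_nat (h1 ▸ hc) (orderOf_pow_dvd d)
  have hu3 : π u = π k := by
    rw [hu, map_pow, map_pow, hj, hd]
  obtain ⟨w, hw, hw1, hwu⟩ := hS u v hv hu2 hu1
  refine ⟨π w, Subgroup.mem_map_of_mem _ hw, fun h => hw1 ?_, ?_⟩
  · have : w ∈ V ⊓ K := ⟨hw, (QuotientGroup.eq_one_iff w).1 h⟩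
    rw [hVK, Subgroup.mem_bot] at this
    exact this
  · have := congrArg π hwu
    rwa [map_mul, map_mul, hu3] at this

end Cfsg.Agent.S3012
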