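import Cfsg.Statements.S3013
-- import your own Cfsg.Agent.* helpers here

set_option autoImplicit false
open Cfsg

namespace Cfsg.Agent.S3013

/-- Let G be a finite group and V a nontrivial elementary abelian 2-subgroup of G satisfying the Sidki pair condition. Let v ∈ V and let x be an element of odd order inverted by v, and put C = C_G(v) ∩ C_G(x), the centralizer of the dihedral subgroup generated by v and x. Then C ∩ V is nontrivial and satisfies the Sidki pair condition inside C: every odd-order element of C inverted by an element of C ∩ V commutes with a nontrivial element of C ∩ V. -/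
theorem result {G : Type*} [Group G] [Finite G] (V : Subgroup G) (hV : Cfsg.IsElementaryAbelian 2 V) (hV1 : V ≠ ⊥) (hS : Cfsg.IsSidkiPair V) (v x : G) (hv : v ∈ V) (hx : Odd (orderOf x)) (hinv : v * x * v⁻¹ = x⁻¹) (C : Subgroup G) (hC : C = Subgroup.centralizer ({v} : Set G) ⊓ Subgroup.centralizer ({x} : Set G)) : C ⊓ V ≠ ⊥ ∧ Cfsg.IsSidkiPair ((C ⊓ V).subgroupOf C) := by
  have hab : ∀ a ∈ V, ∀ b ∈ V, Commute a b := fun a ha b hb =>
    congrArg Subtype.val (hV.1.is_comm.comm ⟨a, ha⟩ ⟨b, hb⟩)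
  subst hC
  set C := Subgroup.centralizer ({v} : Set G) ⊓ Subgroup.centralizer ({x} : Set G) with hC
  have hmem : ∀ w, w ∈ C ↔ Commute w v ∧ Commute w x := fun w => by
    simp only [hC, Subgroup.mem_inf, Subgroup.mem_centralizer_singleton_iff]; rfl
  refine ⟨fun h => ?_, ?_⟩
  · obtain ⟨w, hw, hw1, hwx⟩ := hS x v hv hx hinv
    have h1 : w ∈ C ⊓ V := ⟨(hmem w).2 ⟨hab w hw v hv, hwx⟩, hw⟩
    rw [h, Subgroup.mem_bot] at h1
    exact hw1 h1
  rintro ⟨h, hhC⟩ ⟨v', hv'C⟩ hv' hodd hinv'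
  obtain ⟨hhv, hhx⟩ := (hmem h).1 hhC
  obtain ⟨hvv, hvx⟩ := (hmem v').1 hv'C
  have hv'V : v' ∈ V := hv'.2
  have hinv2 : v' * h * v'⁻¹ = h⁻¹ := by simpa using congrArg Subtype.val hinv'
  have hodd' : Odd (orderOf h) := by simpa using hodd
  have hxh : Odd (orderOf (h * x)) := by
    obtain ⟨d, hd⟩ := dvd_trans (Commute.orderOf_mul_dvd_mul_orderOf hhx) dvd_rfl
    exact (Nat.odd_mul.1 (hd ▸ (hodd'.mul hx))).1
  have e1 : v' * x * v'⁻¹ = x := by rw [hvx.eq, mul_inv_cancel_right]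
  have e2 : v * h * v⁻¹ = h := by rw [← hhv.eq, mul_inv_cancel_right]
  obtain ⟨w, hw, hw1, hwc⟩ := hS (h * x) (v * v') (V.mul_mem hv hv'V) hxh <| by
    calc v * v' * (h * x) * (v * v')⁻¹
        = (v * (v' * h * v'⁻¹) * v⁻¹) * (v * (v' * x * v'⁻¹) * v⁻¹) := by group
      _ = (v * h * v⁻¹)⁻¹ * (v * x * v⁻¹) := by rw [hinv2, e1]; group
      _ = (h * x)⁻¹ := by rw [e2, hinv, ← mul_inv_rev, (hhx.symm).eq]
  have hwv : Commute w v := hab w hw v hv
  have h1 : Commute w (h * x⁻¹) := by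
    have := Commute.mul_right (Commute.mul_right hwv hwc) hwv.inv_right
    have e : v * (h * x) * v⁻¹ = h * x⁻¹ := by
      calc v * (h * x) * v⁻¹ = (v * h * v⁻¹) * (v * x * v⁻¹) := by group
        _ = h * x⁻¹ := by rw [e2, hinv]
    rwa [e] at this
  have h2 : Commute w (x ^ 2) := by
    have := Commute.mul_right h1.inv_right hwc
    simpa [pow_two, mul_assoc] using this
  have hwx : Commute w x := by
    obtain ⟨m, hm⟩ := exists_pow_eq_self_of_coprime (x := x) (n := 2) hx.coprime_two_left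
    exact hm ▸ h2.pow_right m
  have hwh : Commute w h := by
    simpa using Commute.mul_right (show Commute w (h * x) from hwc) hwx.inv_right
  refine ⟨⟨w, (hmem w).2 ⟨hwv, hwx⟩⟩, ⟨(hmem w).2 ⟨hwv, hwx⟩, hw⟩, fun h => hw1 (congrArg Subtype.val h), ?_⟩
  exact Subtype.ext hwh.eq

end Cfsg.Agent.S3013
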