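import Cfsg.Statements.S3014
import Cfsg.Agent.Lib.Generation.MaxTransfer

set_option autoImplicit false
open Cfsg

namespace Cfsg.Agent.S3014

/-- Let G be a finite group and H ≤ M ≤ G subgroups such that for every g ∈ G the subgroup generated by H and g H g⁻¹ meets M exactly in H. If H is a maximal subgroup of M and M is a maximal subgroup of G, then the normal closure of H in G meets M exactly in H. -/
theorem result {G : Type*} [Group G] [Finite G] (H M : Subgroup G) (hHM : H ≤ M) (hcl : ∀ g : G, (H ⊔ H.map (MulAut.conj g).toMonoidHom) ⊓ M = H) (hmaxH : IsCoatom (H.subgroupOf M)) (hmaxM : IsCoatom M) : Subgroup.normalClosure (H : Set G) ⊓ M = H := by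
  have hconj : ∀ g : G, H.map (MulAut.conj g).toMonoidHom ≤ M → g ∈ Subgroup.normalizer (H : Set G) := by
    intro g hle
    refine Subgroup.mem_normalizer_iff_map_conj_eq.2 (Subgroup.eq_of_le_of_card_ge ?_
      (le_of_eq (Subgroup.card_map_of_injective (MulEquiv.injective _)).symm))
    have h := hcl g
    rw [inf_eq_left.2 (sup_le hHM hle)] at h
    exact le_sup_right.trans (le_of_eq h)
  have hnorm : M ≤ Subgroup.normalizer (H : Set G) := fun g hg => hconj g <| by
    rintro _ ⟨y, hy, rfl⟩
    exact M.mul_mem (M.mul_mem hg (hHM hy)) (M.inv_mem hg)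
  have hHn : (H.subgroupOf M).Normal := Subgroup.normal_subgroupOf_of_le_normalizer hnorm
  set N := Subgroup.normalClosure (H : Set G) with hN
  have hHN : H ≤ N := Subgroup.le_normalClosure
  rcases hmaxH.le_iff.1 (show H.subgroupOf M ≤ N.subgroupOf M from Subgroup.comap_mono hHN) with h | h
  rotate_left
  · refine le_antisymm ?_ (le_inf hHN hHM)
    intro y hy
    have : (⟨y, hy.2⟩ : M) ∈ H.subgroupOf M := h ▸ (show (⟨y, hy.2⟩ : M) ∈ N.subgroupOf M from hy.1)
    exact this
  · exfalso
    have hMN : M ≤ N := Subgroup.subgroupOf_eq_top.1 h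
    rcases hmaxM.le_iff.1 hMN with h1 | h1
    · exact CfsgLib.Generation.normalClosure_ne_top hHM hHn
        (CfsgLib.Generation.relIndex_prime_of_isCoatom hHn hmaxH) hmaxM (fun g _ => hcl g) h1
    · have hn : H.Normal := by
        rw [← Subgroup.normalizer_eq_top_iff, eq_top_iff]
        exact fun g _ => hconj g (h1 ▸ (Subgroup.map_mono hHN).trans (le_of_eq
          (Subgroup.mem_normalizer_iff_map_conj_eq.1 (Subgroup.normalizer_eq_top (H := N) ▸ Subgroup.mem_top g))))
      exact hmaxH.1 (Subgroup.subgroupOf_eq_top.2 (hMN.trans (Subgroup.normalClosure_le_normal (subset_refl _))))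

end Cfsg.Agent.S3014
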