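import Cfsg.Statements.S3015
import Cfsg.Agent.Lib.Generation.MaxTransfer
import Cfsg.Agent.Lib.Isolated.Basic
import Cfsg.Agent.Lib.Isolated.LocalCentral

set_option autoImplicit false
open Cfsg

namespace Cfsg.Agent.S3015

/-- A finite simple non-abelian group has no maximal subgroup of prime order equal to its own normalizer. -/
lemma no_bot {G : Type*} [Group G] [Finite G] [IsSimpleGroup G] {M : Subgroup G} (hmax : IsCoatom M)
    (hNM : ∀ g, M.map (MulAut.conj g).toMonoidHom = M → g ∈ M) (hp : (Nat.card M).Prime) : False := by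
  have : Fact (Nat.card M).Prime := ⟨hp⟩
  obtain ⟨P, hP⟩ := (IsPGroup.of_card (G := M) (p := Nat.card M) (n := 1) (pow_one _).symm).exists_le_sylow
  have hPM : (P : Subgroup G) = M := by
    by_contra h
    have h1 := CfsgLib.Isolated.lt_inf_normalizer P.2 (lt_of_le_of_ne hP (Ne.symm h))
    obtain ⟨z, hz, hzM⟩ := SetLike.exists_of_lt h1
    exact hzM (hNM z (Subgroup.mem_normalizer_iff_map_conj_eq.1 hz.2))
  have hcyc : IsCyclic M := isCyclic_of_prime_card rfl
  have hnc : Subgroup.normalizer (P : Set G) ≤ Subgroup.centralizer ((P : Subgroup G) : Set G) := by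
    intro g hg
    have hgM : g ∈ M := hNM g (hPM ▸ Subgroup.mem_normalizer_iff_map_conj_eq.1 hg)
    refine Subgroup.mem_centralizer_iff.2 fun r hr => ?_
    have hrM : r ∈ M := hPM ▸ hr
    have : IsMulCommutative M := IsCyclic.isMulCommutative
    exact congrArg Subtype.val (mul_comm' (⟨r, hrM⟩ : M) ⟨g, hgM⟩)
  have hc := MonoidHom.ker_transferSylow_isComplement' P hnc
  rcases (MonoidHom.normal_ker (MonoidHom.transferSylow P hnc)).eq_bot_or_eq_top with h | h
  · have h1 : (P : Subgroup G) = ⊤ := Subgroup.isComplement'_bot_left.1 (h ▸ hc)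
    exact hmax.1 (hPM ▸ h1)
  · have h1 : (P : Subgroup G) = ⊥ := Subgroup.isComplement'_top_left.1 (h ▸ hc)
    have h2 : Nat.card M = 1 := by rw [← hPM, h1, Subgroup.card_bot]
    exact hp.ne_one h2

/-- Let G be a finite non-abelian simple group, M a maximal subgroup of G and H a normal subgroup of M of prime index in M. Then G is generated by H together with one of its conjugates. -/
theorem result {G : Type*} [Group G] [Finite G] [IsSimpleGroup G] (hG : ¬ IsMulCommutative G) (M H : Subgroup G) (hmaxM : IsCoatom M) (hHM : H ≤ M) (hHn : (H.subgroupOf M).Normal) (hidx : (H.relIndex M).Prime) : ∃ g : G, H ⊔ H.map (MulAut.conj g).toMonoidHom = ⊤ := by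
  by_contra hno
  push Not at hno
  set q := H.relIndex M with hqdef
  have hHne : H ≠ M := fun h => hidx.ne_one (by rw [hqdef, h, Subgroup.relIndex_self])
  have hMne : M ≠ ⊥ := fun h => hHne (le_antisymm hHM (h ▸ bot_le))
  have hnormH : M ≤ Subgroup.normalizer (H : Set G) := Subgroup.le_normalizer_of_normal_subgroupOf hHM
  have hNM : ∀ g, M.map (MulAut.conj g).toMonoidHom = M → g ∈ M := by
    intro g hg
    rcases hmaxM.le_iff.1 (Subgroup.le_normalizer (H := M)) with h | h
    · rw [Subgroup.normalizer_eq_top_iff] at h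
      exact (hmaxM.1 (h.eq_bot_or_eq_top.resolve_left hMne)).elim
    · exact h ▸ Subgroup.mem_normalizer_iff_map_conj_eq.2 hg
  -- the only bad conjugates of `H` are those lying in `M`
  have hcl : ∀ g : G, ¬ H.map (MulAut.conj g).toMonoidHom ≤ M →
      (H ⊔ H.map (MulAut.conj g).toMonoidHom) ⊓ M = H := by
    intro g hg
    set L := H ⊔ H.map (MulAut.conj g).toMonoidHom
    have hH1 : H ≤ L ⊓ M := le_inf le_sup_left hHM
    rcases hidx.eq_one_or_self_of_dvd _ (Subgroup.relIndex_dvd_of_le_left M hH1) with h | h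
    · exfalso
      have hML : M ≤ L := (Subgroup.relIndex_eq_one.1 h).trans inf_le_left
      rcases hmaxM.le_iff.1 hML with h1 | h1
      · exact hno g h1
      · exact hg (le_sup_right.trans h1.le)
    · have h2 := Subgroup.relIndex_mul_relIndex H (L ⊓ M) M hH1 inf_le_right
      rw [h] at h2
      exact le_antisymm (Subgroup.relIndex_eq_one.1 ((mul_eq_right₀ hidx.ne_zero).1 h2)) hH1
  by_cases hH0 : H = ⊥
  · subst hH0
    have := CfsgLib.Generation.normalClosure_ne_top hHM hHn hidx hmaxM
      (fun g _ => by rw [Subgroup.map_bot, sup_bot_eq, bot_inf_eq])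
    clear hcl
    obtain ⟨a, b, hab⟩ : ∃ a b : G, a * b ≠ b * a := by
      by_contra h
      push Not at h
      exact hG ⟨⟨h⟩⟩
    have h := hno 1
    have : Fact (Nat.card M).Prime := ⟨by rwa [hqdef, Subgroup.relIndex_bot_left] at hidx⟩
    exact no_bot (G := G) hmaxM hNM this.out
  have hclos : Subgroup.normalClosure (H : Set G) = ⊤ :=
    (Subgroup.normalClosure_normal.eq_bot_or_eq_top).resolve_left
      fun h => hH0 (le_bot_iff.1 (h ▸ Subgroup.le_normalClosure))
  have hNH : ∀ g, g ∈ Subgroup.normalizer (H : Set G) → g ∈ M := by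
    rcases hmaxM.le_iff.1 hnormH with h | h
    · rw [Subgroup.normalizer_eq_top_iff] at h
      rcases h.eq_bot_or_eq_top with h1 | h1
      · exact absurd h1 hH0
      · exact absurd (le_antisymm hHM (h1 ▸ le_top)) hHne
    · exact fun g hg => h ▸ hg
  apply CfsgLib.Generation.normalClosure_ne_top hHM hHn hidx hmaxM ?_ hclos
  intro g hgM
  refine hcl g fun hle => ?_
  -- exclude a conjugate `H' ≤ M` of `H` with `g ∉ M`
  have : Fact q.Prime := ⟨hidx⟩
  obtain ⟨Q⟩ := (inferInstance : Nonempty (Sylow q ↥M))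
  set QG := (Q : Subgroup ↥M).map M.subtype with hQG
  have hQM : QG ≤ M := Subgroup.map_subtype_le _
  obtain ⟨a, ha⟩ := (Q.2).exists_card_eq
  have hQc : Nat.card QG = q ^ a := by rw [hQG, Subgroup.card_subtype, ha]
  have hcard : Nat.card H * q = Nat.card M := by
    rw [← Subgroup.relIndex_bot_left, ← Subgroup.relIndex_bot_left]
    exact Subgroup.relIndex_mul_relIndex ⊥ H M bot_le hHM
  have hnoQ : ∀ k : Subgroup G, QG ≤ k → Nat.card k ∣ Nat.card H → False := by
    intro k hk hd
    have h1 : q ^ a ∣ Nat.card H := hQc ▸ (Subgroup.card_dvd_of_le hk).trans hd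
    have h2 : q ^ (a + 1) ∣ Nat.card ↥M := by rw [pow_succ, ← hcard]; exact mul_dvd_mul_right h1 q
    have h3 := (hidx.pow_dvd_iff_le_factorization (Nat.card_pos (α := ↥M)).ne').1 h2
    rw [Q.card_eq_multiplicity] at ha
    have h4 := Nat.pow_right_injective hidx.two_le ha
    omega
  have hcardmap : ∀ k : G, Nat.card ↥(H.map (MulAut.conj k).toMonoidHom) = Nat.card H :=
    fun k => Subgroup.card_map_of_injective (MulEquiv.injective _)
  -- a conjugate of `M` containing a Sylow subgroup of `M` equals `M`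
  have hTI : ∀ k : G, QG ≤ M.map (MulAut.conj k).toMonoidHom → k ∈ M := by
    intro k hk
    by_contra hkM
    obtain ⟨t, ht, htH⟩ : ∃ t ∈ QG, t ∉ H := by
      by_contra h
      push Not at h
      exact hnoQ H h dvd_rfl
    set H' := H.map (MulAut.conj k).toMonoidHom with hH'
    by_cases hle' : H' ≤ M
    · -- then `M ∩ kMk⁻¹ = kHk⁻¹`
      refine hnoQ H' (le_trans (le_inf hQM hk) ?_) (hcardmap k).dvd
      intro y hy
      by_contra hyH
      set M' := M.map (MulAut.conj k).toMonoidHom
      have hH1 : H' ≤ M ⊓ M' := le_inf hle' (Subgroup.map_mono hHM)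
      have hidx' : H'.relIndex M' = q := Subgroup.relIndex_map_map_of_injective H M (MulEquiv.injective _)
      have hd := Subgroup.relIndex_mul_relIndex H' (M ⊓ M') M' hH1 inf_le_right
      rw [hidx'] at hd
      rcases hidx.eq_one_or_self_of_dvd _ (Dvd.intro_left _ hd) with h | h
      · have h5 : M' ≤ M := (Subgroup.relIndex_eq_one.1 h).trans inf_le_left
        exact hkM (hNM k (Subgroup.eq_of_le_of_card_ge h5
          (le_of_eq (Subgroup.card_map_of_injective (MulEquiv.injective _)).symm)))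
      · rw [h] at hd
        exact hyH (Subgroup.relIndex_eq_one.1 ((mul_eq_right₀ hidx.ne_zero).1 hd) hy)
    · set L := H ⊔ H' with hL
      have h1 := hcl k hle'
      have htn : ∀ x ∈ M.map (MulAut.conj k).toMonoidHom, x ∈ Subgroup.normalizer (H' : Set G) := by
        rintro _ ⟨y, hy, rfl⟩
        exact Subgroup.le_normalizer_map _ (Subgroup.mem_map_of_mem _ (hnormH hy))
      have htL : t ∈ Subgroup.normalizer (L : Set G) := by
        refine Subgroup.mem_normalizer_iff_map_conj_eq.2 ?_
        show L.map (MulAut.conj t).toMonoidHom = L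
        have e1 : H.map (MulAut.conj t).toMonoidHom = H :=
          Subgroup.mem_normalizer_iff_map_conj_eq.1 (hnormH (hQM ht))
        have e2 : H'.map (MulAut.conj t).toMonoidHom = H' :=
          Subgroup.mem_normalizer_iff_map_conj_eq.1 (htn t (hk ht))
        rw [hL, Subgroup.map_sup, e1, e2]
      have hH2 : H ≤ M ⊓ (L ⊔ Subgroup.zpowers t) := le_inf hHM (le_sup_left.trans le_sup_left)
      rcases hidx.eq_one_or_self_of_dvd _ (Subgroup.relIndex_dvd_of_le_left M hH2) with h | h
      · have h5 : M ≤ L ⊔ Subgroup.zpowers t := (Subgroup.relIndex_eq_one.1 h).trans inf_le_right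
        rcases hmaxM.le_iff.1 h5 with h6 | h6
        · have hn : L.Normal := by
            rw [← Subgroup.normalizer_eq_top_iff, eq_top_iff, ← h6]
            exact sup_le Subgroup.le_normalizer ((Subgroup.zpowers_le).2 htL)
          rcases hn.eq_bot_or_eq_top with h7 | h7
          · exact hH0 (le_bot_iff.1 (h7 ▸ le_sup_left))
          · exact hno k h7
        · exact hle' (le_sup_right.trans (le_sup_left.trans h6.le))
      · have h2 := Subgroup.relIndex_mul_relIndex H (M ⊓ (L ⊔ Subgroup.zpowers t)) M hH2 inf_le_left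
        rw [h] at h2
        exact htH (Subgroup.relIndex_eq_one.1 ((mul_eq_right₀ hidx.ne_zero).1 h2)
          ⟨hQM ht, Subgroup.mem_sup_right (Subgroup.mem_zpowers t)⟩)
  -- `Q` is a Sylow subgroup of `G`
  obtain ⟨R, hR⟩ := (Q.2.map M.subtype).exists_le_sylow
  change QG ≤ (R : Subgroup G) at hR
  have hnormQ : ∀ k ∈ Subgroup.normalizer (QG : Set G), k ∈ M := fun k hk => hTI k <| by
    calc QG = QG.map (MulAut.conj k).toMonoidHom := (Subgroup.mem_normalizer_iff_map_conj_eq.1 hk).symm
      _ ≤ _ := Subgroup.map_mono hQM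
  have hRQ : (R : Subgroup G) = QG := by
    by_contra h
    have h1 := CfsgLib.Isolated.lt_inf_normalizer R.2 (lt_of_le_of_ne hR (Ne.symm h))
    obtain ⟨z, hz, hzQ⟩ := SetLike.exists_of_lt h1
    have hle1 : (Q : Subgroup ↥M) ≤ ((R : Subgroup G)).comap M.subtype := fun y hy => hR ⟨y, hy, rfl⟩
    have h2 := Q.3 (R.2.comap_subtype) hle1
    exact hzQ ⟨⟨z, hnormQ z hz.2⟩, h2 ▸ (show z ∈ (R : Subgroup G) from hz.1), rfl⟩
  -- move a Sylow subgroup of `gHg⁻¹` into `Q`
  have hgN : ∀ m ∈ M, (H.map (MulAut.conj (m * g)).toMonoidHom) ≤ M := by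
    intro m hm
    rw [← CfsgLib.Generation.map_conj_map_conj]
    rintro _ ⟨y, hy, rfl⟩
    exact M.mul_mem (M.mul_mem hm (hle hy)) (M.inv_mem hm)
  obtain ⟨S₀⟩ := (inferInstance : Nonempty (Sylow q ↥H))
  set SG := (S₀ : Subgroup ↥H).map H.subtype with hSG
  obtain ⟨b, hb⟩ := (S₀.2).exists_card_eq
  have hSc : Nat.card SG = q ^ b := by rw [hSG, Subgroup.card_subtype, hb]
  have hab : a = b + 1 := by
    rw [Q.card_eq_multiplicity] at ha
    rw [S₀.card_eq_multiplicity] at hb
    have e := Nat.pow_right_injective hidx.two_le ha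
    have e' := Nat.pow_right_injective hidx.two_le hb
    rw [← e, ← e', ← hcard, Nat.factorization_mul (Nat.card_pos).ne' hidx.ne_zero,
      hidx.factorization]
    simp
  obtain ⟨c, hc, S₁, hS1, hS1M, hQS1, hcS1⟩ := CfsgLib.Isolated.exists_conj_into_common_pGroup
    (Q.2.map M.subtype) ((S₀.2.map H.subtype).map (MulAut.conj g).toMonoidHom) hQM
    (((Subgroup.map_mono (Subgroup.map_subtype_le _))).trans hle)
  have hS1Q : S₁ = QG := le_antisymm (hRQ ▸ (R.3 hS1 (hRQ ▸ hQS1)).le) hQS1
  set g' := c * g with hg'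
  have hg'M : g' ∉ M := fun h => hgM (by simpa [hg'] using M.mul_mem (M.inv_mem hc) h)
  set S' := SG.map (MulAut.conj g').toMonoidHom with hS'
  have hS'Q : S' ≤ QG := by
    rw [hS', hg', ← CfsgLib.Generation.map_conj_map_conj]
    rintro _ ⟨y, hy, rfl⟩
    exact hS1Q ▸ hcS1 y hy
  have hS'c : Nat.card S' = q ^ b := (Subgroup.card_map_of_injective (MulEquiv.injective _)).trans hSc
  -- both `Q ∩ H` and `S'` are normal in `Q`
  have hidx2 : ∀ X : Subgroup G, X ≤ QG → Nat.card X = q ^ b → QG ≤ Subgroup.normalizer (X : Set G) := by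
    intro X hX hXc
    have hri : X.relIndex QG = q := by
      have h := Subgroup.relIndex_mul_relIndex ⊥ X QG bot_le hX
      rw [Subgroup.relIndex_bot_left, Subgroup.relIndex_bot_left, hXc, hQc, hab, pow_succ] at h
      exact Nat.eq_of_mul_eq_mul_left (pow_pos hidx.pos b) h
    rcases eq_or_lt_of_le hX with h | h
    · exact h ▸ Subgroup.le_normalizer
    have h1 := CfsgLib.Isolated.lt_inf_normalizer (hRQ ▸ R.2) h
    rcases hidx.eq_one_or_self_of_dvd _ (hri ▸ Subgroup.relIndex_dvd_of_le_left QG h1.le) with h2 | h2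
    · exact (Subgroup.relIndex_eq_one.1 h2).trans inf_le_right
    · exfalso
      have h3 := Subgroup.relIndex_mul_relIndex X _ QG h1.le inf_le_left
      rw [h2, hri] at h3
      exact h1.not_ge (Subgroup.relIndex_eq_one.1 ((mul_eq_right₀ hidx.ne_zero).1 h3))
  obtain ⟨c₀, hc₀, S₂, hS2, -, hQS2, hc0S⟩ := CfsgLib.Isolated.exists_conj_into_common_pGroup
    (Q.2.map M.subtype) (S₀.2.map H.subtype) hQM ((Subgroup.map_subtype_le _).trans hHM)
  have hS2Q : S₂ = QG := le_antisymm (hRQ ▸ (R.3 hS2 (hRQ ▸ hQS2)).le) hQS2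
  set T := SG.map (MulAut.conj c₀).toMonoidHom with hT
  have hTQ : T ≤ QG := by
    rintro _ ⟨y, hy, rfl⟩
    exact hS2Q ▸ hc0S y hy
  have hTc : Nat.card T = q ^ b := (Subgroup.card_map_of_injective (MulEquiv.injective _)).trans hSc
  have hTH : T ≤ H := by
    rintro _ ⟨y, hy, rfl⟩
    exact (Subgroup.mem_normalizer_iff.1 (hnormH hc₀) y).1 (Subgroup.map_subtype_le _ hy)
  set h₀ := g' * c₀⁻¹ with hh₀
  have hTS : T.map (MulAut.conj h₀).toMonoidHom = S' := by
    rw [hT, hS', CfsgLib.Generation.map_conj_map_conj, hh₀, inv_mul_cancel_right]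
  -- Burnside: conjugate in the normalizer of `Q`
  have hn1 : QG ≤ Subgroup.normalizer (S' : Set G) := hidx2 S' hS'Q hS'c
  have hn2 : QG.map (MulAut.conj h₀).toMonoidHom ≤ Subgroup.normalizer (S' : Set G) := by
    rw [← hTS]
    exact (Subgroup.map_mono (hidx2 T hTQ hTc)).trans (Subgroup.le_normalizer_map _)
  obtain ⟨d, hd, S₃, hS3, -, hQS3, hdS⟩ := CfsgLib.Isolated.exists_conj_into_common_pGroup
    (Q.2.map M.subtype) ((Q.2.map M.subtype).map (MulAut.conj h₀).toMonoidHom) hn1 hn2
  have hS3Q : S₃ = QG := le_antisymm (hRQ ▸ (R.3 hS3 (hRQ ▸ hQS3)).le) hQS3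
  have hdh : d * h₀ ∈ M := by
    refine hnormQ _ (Subgroup.mem_normalizer_iff_map_conj_eq.2 (Subgroup.eq_of_le_of_card_ge ?_
      (le_of_eq (Subgroup.card_map_of_injective (MulEquiv.injective _)).symm)))
    show QG.map (MulAut.conj (d * h₀)).toMonoidHom ≤ QG
    rw [← CfsgLib.Generation.map_conj_map_conj]
    rintro _ ⟨y, hy, rfl⟩
    exact hS3Q ▸ hdS y hy
  have hS'H : S' ≤ H := by
    have h : S'.map (MulAut.conj d).toMonoidHom = S' := Subgroup.mem_normalizer_iff_map_conj_eq.1 hd
    have e : T.map (MulAut.conj (d * h₀)).toMonoidHom = S' := by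
      rw [← CfsgLib.Generation.map_conj_map_conj, hTS, h]
    rw [← e]
    exact (Subgroup.map_mono hTH).trans (le_of_eq (Subgroup.mem_normalizer_iff_map_conj_eq.1 (hnormH hdh)))
  -- compare orders
  set H' := H.map (MulAut.conj g').toMonoidHom with hH'
  have hne : H' ≠ H := fun h => hg'M (hNH _ (Subgroup.mem_normalizer_iff_map_conj_eq.2 h))
  have hgH' : H' ≤ M := hgN c hc
  have hdvd : Nat.card H' * (H'.relIndex M) = Nat.card M := by
    rw [← Subgroup.relIndex_bot_left, ← Subgroup.relIndex_bot_left]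
    exact Subgroup.relIndex_mul_relIndex ⊥ H' M bot_le hgH'
  have hD1 : S' ≤ H ⊓ H' := le_inf hS'H (Subgroup.map_mono (Subgroup.map_subtype_le _))
  have hd1 : H.relIndex H' ∣ q := by
    have : (H.subgroupOf M).Normal := hHn
    have h := Subgroup.relIndex_dvd_index_of_normal (H.subgroupOf M) (H'.subgroupOf M)
    rwa [Subgroup.relIndex_subgroupOf hgH'] at h
  rcases hidx.eq_one_or_self_of_dvd _ hd1 with h | h
  · exact hne (Subgroup.eq_of_le_of_card_ge (Subgroup.relIndex_eq_one.1 h) (hcardmap g').ge)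
  · have h1 : q ^ b * q ∣ Nat.card H' := by
      rw [← Subgroup.relIndex_bot_left, ← Subgroup.relIndex_mul_relIndex ⊥ (H ⊓ H') H' bot_le inf_le_right,
        Subgroup.inf_relIndex_right, h, Subgroup.relIndex_bot_left, ← hS'c]
      exact mul_dvd_mul_right (Subgroup.card_dvd_of_le hD1) q
    rw [hcardmap, ← pow_succ] at h1
    rw [S₀.card_eq_multiplicity] at hb
    have e' := Nat.pow_right_injective hidx.two_le hb
    have := (hidx.pow_dvd_iff_le_factorization (Nat.card_pos (α := ↥H)).ne').1 h1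
    omega

end Cfsg.Agent.S3015
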