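import Cfsg.Statements.S3021
import Cfsg.Agent.Lib.Isolated.LocalCentral

set_option autoImplicit false
open Cfsg

namespace Cfsg.Agent.S3021

/-- Let G be a finite group, p a prime and H a p-subgroup of G that is extremely closed (for every g, the subgroup generated by H and g H g⁻¹ meets N_G(H) exactly in H). Then every p-subgroup Q of G containing H has N_G(Q) ≤ N_G(H); in particular every Sylow p-subgroup P of G containing H normalizes H, and H is strongly closed in P with respect to G. -/
theorem result {G : Type*} [Group G] [Finite G] {p : ℕ} [Fact p.Prime] (H : Subgroup G) (hHp : IsPGroup p H) (hcl : Cfsg.IsExtremelyClosed H) : (∀ Q : Subgroup G, IsPGroup p Q → H ≤ Q → Subgroup.normalizer (Q : Set G) ≤ Subgroup.normalizer (H : Set G)) ∧ ∀ P : Sylow p G, H ≤ (P : Subgroup G) → (P : Subgroup G) ≤ Subgroup.normalizer (H : Set G) ∧ Cfsg.IsStronglyClosed H (P : Subgroup G) := by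
  have key : ∀ (Q : Subgroup G), IsPGroup p Q → H ≤ Q → ∀ g, H.map (MulAut.conj g).toMonoidHom ≤ Q →
      H.map (MulAut.conj g).toMonoidHom = H := by
    intro Q hQ hHQ g hgQ
    set T := H ⊔ H.map (MulAut.conj g).toMonoidHom with hT
    have hTp : IsPGroup p T := hQ.to_le (sup_le hHQ hgQ)
    have hTH : T = H := by
      by_contra h
      have h1 := CfsgLib.Isolated.lt_inf_normalizer hTp (lt_of_le_of_ne le_sup_left (Ne.symm h))
      exact h1.ne (hcl g).symm
    exact Subgroup.eq_of_le_of_card_ge (le_sup_right.trans hTH.le)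
      (le_of_eq (Subgroup.card_map_of_injective (MulEquiv.injective _)).symm)
  have hN : ∀ Q : Subgroup G, IsPGroup p Q → H ≤ Q → Subgroup.normalizer (Q : Set G) ≤ Subgroup.normalizer (H : Set G) := by
    intro Q hQ hHQ g hg
    exact Subgroup.mem_normalizer_iff_map_conj_eq.2
      (key Q hQ hHQ g ((Subgroup.map_mono hHQ).trans (Subgroup.mem_normalizer_iff_map_conj_eq.1 hg).le))
  refine ⟨hN, fun P hHP => ⟨Subgroup.le_normalizer.trans (hN _ P.2 hHP), hHP, fun x hx g hg => ?_⟩⟩
  have h1 : g * x * g⁻¹ ∈ (H ⊔ H.map (MulAut.conj g).toMonoidHom) ⊓ Subgroup.normalizer (H : Set G) :=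
    ⟨Subgroup.mem_sup_right ⟨x, hx, rfl⟩, Subgroup.le_normalizer.trans (hN _ P.2 hHP) hg⟩
  rwa [hcl g] at h1

end Cfsg.Agent.S3021
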