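import Cfsg.Statements.S3023
import Cfsg.Agent.Lib.LocalEven.CharP
import Cfsg.Agent.Lib.LocalEven.SubnormalJoin
import Cfsg.Agent.Lib.Large.Tools
-- import your own Cfsg.Agent.* helpers here

set_option autoImplicit false
open Cfsg

namespace Cfsg.Agent.S3023

open Pointwise

open CfsgLib.LocalEvenCharP in
private theorem isCharP_equiv {p : ℕ} [Fact p.Prime] {A B : Type*} [Group A] [Group B] [Finite A]
    (e : A ≃* B) (h : IsCharP p A) : IsCharP p B := by
  have := Finite.of_equiv A e.toEquiv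
  refine isCharP_of_forall fun c hc hcent => ?_
  have h0 : e.symm c = 1 := h.eq_one (by rwa [MulEquiv.orderOf_eq]) fun x hx => by
    have h1 := hcent (e x) (CfsgLib.PCore.map_pCore_equiv (p := p) e ▸ Subgroup.mem_map_of_mem _ hx)
    simpa using congrArg e.symm h1
  simpa using congrArg e h0


/-- Let p be a prime, G a finite group of parabolic characteristic p (every p-local subgroup containing a Sylow p-subgroup of G has characteristic p), S a Sylow p-subgroup of G and G₁ a subnormal subgroup of G. If the centre of S ∩ G₁ is nontrivial and contained in the centre of S, then G₁ has parabolic characteristic p. -/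
theorem result {G : Type*} [Group G] [Finite G] {p : ℕ} [Fact p.Prime] (hG : Cfsg.IsOfParabolicCharacteristic p G) (S : Sylow p G) (G₁ : Subgroup G) (hsn : G₁.IsSubnormal) (hne : ((S : Subgroup G) ⊓ G₁) ⊓ Subgroup.centralizer (((S : Subgroup G) ⊓ G₁ : Subgroup G) : Set G) ≠ ⊥) (hle : ((S : Subgroup G) ⊓ G₁) ⊓ Subgroup.centralizer (((S : Subgroup G) ⊓ G₁ : Subgroup G) : Set G) ≤ (S : Subgroup G) ⊓ Subgroup.centralizer ((S : Subgroup G) : Set G)) : Cfsg.IsOfParabolicCharacteristic p ↥G₁ := by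
  open CfsgLib.LocalEvenCharP in
  intro R hR hR1 hpar
  obtain ⟨P, hP⟩ := hpar
  set R' := R.map G₁.subtype with hR'
  set P' := (P : Subgroup ↥G₁).map G₁.subtype with hP'
  have hRP : R ≤ (P : Subgroup ↥G₁) :=
    le_sup_right.trans (P.is_maximal' (P.2.to_sup_of_normal_right' hR hP) le_sup_left).le
  have hR'P' : R' ≤ P' := Subgroup.map_mono hRP
  have hnP : P' ≤ Subgroup.normalizer (R' : Set G) :=
    (Subgroup.map_mono hP).trans (Subgroup.le_normalizer_map _)
  set B := R' ⊓ Subgroup.centralizer (P' : Set G) with hB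
  have hB1 : B ≠ ⊥ := CfsgLib.Large.inf_centralizer_ne_bot (hR.map _) (P.2.map _)
    (fun e => hR1 ((Subgroup.map_eq_bot_iff_of_injective _ G₁.subtype_injective).1 e)) hnP
  obtain ⟨P₁, hP₁⟩ := CfsgLib.SubJoin.exists_sylow_subnormal S hsn
  obtain ⟨g, hg⟩ := MulAction.exists_smul_eq ↥G₁ P₁ P
  have hmem : ∀ x : G, x ∈ (S : Subgroup G) → x ∈ G₁ → (g : G) * x * (g : G)⁻¹ ∈ P' := by
    intro x hxS hxG
    refine ⟨g * ⟨x, hxG⟩ * g⁻¹, ?_, rfl⟩
    rw [← hg]
    show g * ⟨x, hxG⟩ * g⁻¹ ∈ (MulAut.conj g) • (P₁ : Subgroup ↥G₁)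
    rw [Subgroup.mem_pointwise_smul_iff_inv_smul_mem]
    have : (MulAut.conj g)⁻¹ • (g * ⟨x, hxG⟩ * g⁻¹) = ⟨x, hxG⟩ := by simp [mul_assoc]
    rw [this, hP₁]
    exact hxS
  have hmem' : ∀ y ∈ P', (g : G)⁻¹ * y * g ∈ (S : Subgroup G) ⊓ G₁ := by
    rintro _ ⟨y, hy, rfl⟩
    rw [← hg] at hy
    have hy' : y ∈ (MulAut.conj g) • (P₁ : Subgroup ↥G₁) := hy
    rw [Subgroup.mem_pointwise_smul_iff_inv_smul_mem, hP₁] at hy'
    have e : ((MulAut.conj g)⁻¹ • y : ↥G₁) = g⁻¹ * y * g := by simp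
    rw [e] at hy'
    exact ⟨hy', (g⁻¹ * y * g).2⟩
  -- `B` is centralized by a Sylow subgroup of `G`
  have hBS : (((g : G) • S : Sylow p G) : Subgroup G) ≤ Subgroup.centralizer (B : Set G) := by
    intro s hs
    have hs' : (g : G)⁻¹ * s * g ∈ (S : Subgroup G) := by
      have : s ∈ (MulAut.conj (g : G)) • (S : Subgroup G) := hs
      rw [Subgroup.mem_pointwise_smul_iff_inv_smul_mem] at this
      simpa using this
    refine Subgroup.mem_centralizer_iff.2 fun b hb => ?_
    have hb0 : (g : G)⁻¹ * b * g ∈ (S : Subgroup G) ⊓ G₁ := hmem' b (hR'P' hb.1)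
    have hbz : (g : G)⁻¹ * b * g ∈ Subgroup.centralizer (((S : Subgroup G) ⊓ G₁ : Subgroup G) : Set G) := by
      refine Subgroup.mem_centralizer_iff.2 fun x hx => ?_
      have h := Subgroup.mem_centralizer_iff.1 hb.2 _ (hmem x hx.1 hx.2)
      calc x * ((g : G)⁻¹ * b * g) = (g : G)⁻¹ * ((g * x * (g : G)⁻¹) * b) * g := by group
        _ = _ := by rw [h]; group
    have h := Subgroup.mem_centralizer_iff.1 (hle ⟨hb0, hbz⟩).2 _ hs'
    calc b * s = (g : G) * (((g : G)⁻¹ * b * g) * ((g : G)⁻¹ * s * g)) * (g : G)⁻¹ := by group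
      _ = (g : G) * (((g : G)⁻¹ * s * g) * ((g : G)⁻¹ * b * g)) * (g : G)⁻¹ := by rw [h]
      _ = s * b := by group
  set C := Subgroup.centralizer (B : Set G) with hC
  have hN : IsCharP p ↥(Subgroup.normalizer (B : Set G)) :=
    hG B ((P.2.map _).to_le (inf_le_left.trans hR'P')) hB1
      ⟨(g : G) • S, hBS.trans (Subgroup.centralizer_le_normalizer _)⟩
  have hCc : IsCharP p ↥C := hN.of_normalized (Subgroup.centralizer_le_normalizer _)
    ((pCoreOf_le p _).trans ((Subgroup.normal_subgroupOf_iff_le_normalizer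
      (Subgroup.centralizer_le_normalizer _)).1 (Subgroup.normal_subgroupOf_centralizer_normalizer _)))
  -- the centralizer of `B` in `G₁`
  have hK : IsCharP p ↥(C.subgroupOf G₁) := by
    refine isCharP_equiv ((Subgroup.subgroupOfEquivOfLe (inf_le_right : G₁ ⊓ C ≤ C)).trans
      ((MulEquiv.subgroupCongr (inf_comm G₁ C)).trans
        (Subgroup.subgroupOfEquivOfLe (inf_le_right : C ⊓ G₁ ≤ G₁)).symm |>.trans
          (MulEquiv.subgroupCongr (Subgroup.inf_subgroupOf_right C G₁)))) ?_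
    rw [Subgroup.inf_subgroupOf_right]
    exact hCc.of_isSubnormal hsn.subgroupOf
  refine hK.of_centralizer_le hR ?_ ?_ (Subgroup.centralizer_le_normalizer _) ?_
    (Or.inl (le_pCoreOf Subgroup.le_normalizer le_rfl hR))
  · intro r hr
    refine Subgroup.mem_subgroupOf.2 (Subgroup.mem_centralizer_iff.2 fun b hb => ?_)
    exact (Subgroup.mem_centralizer_iff.1 hb.2 _ (hR'P' ⟨r, hr, rfl⟩)).symm
  · intro x hx
    refine Subgroup.mem_subgroupOf.2 (Subgroup.mem_centralizer_iff.2 fun b hb => ?_)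
    obtain ⟨r, hr, rfl⟩ := hb.1
    exact congrArg Subtype.val (Subgroup.mem_centralizer_iff.1 hx r hr)
  · exact (Subgroup.normal_subgroupOf_iff_le_normalizer (Subgroup.centralizer_le_normalizer _)).1
      (Subgroup.normal_subgroupOf_centralizer_normalizer _)

end Cfsg.Agent.S3023
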