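import Cfsg.Statements.S3025
import Cfsg.Agent.Lib.TwoGroups.OneInvolution
import Cfsg.Agent.Lib.ConstStab.Basic
-- import your own Cfsg.Agent.* helpers here

set_option autoImplicit false
open Cfsg

namespace Cfsg.Agent.S3025

/-- Let F be a finite group and H a nontrivial subgroup of F that is contained in every nontrivial subgroup of F which H normalizes. Then F has a nontrivial normal subgroup N contained in every nontrivial normal subgroup of F (a unique minimal normal subgroup), N is simple, and one of the following holds: C_F(N) = 1; or H = N has prime order p, C_F(N) is cyclic of order a power of p, and F/C_F(N) is cyclic of order dividing p − 1; or H = N has order 2, N is central in F, and F is a generalized quaternion group. -/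
theorem result {F : Type*} [Group F] [Finite F] (H : Subgroup F) (hH : H ≠ ⊥)
    (hmin : ∀ R : Subgroup F, R ≠ ⊥ → H ≤ Subgroup.normalizer (R : Set F) → H ≤ R) :
    ∃ N : Subgroup F, N.Normal ∧ N ≠ ⊥ ∧ (∀ M : Subgroup F, M.Normal → M ≠ ⊥ → N ≤ M) ∧ IsSimpleGroup ↥N ∧
      (Subgroup.centralizer (N : Set F) = ⊥ ∨
       (H = N ∧ (Nat.card N).Prime ∧ IsCyclic ↥(Subgroup.centralizer (N : Set F)) ∧
          (∃ k : ℕ, 1 ≤ k ∧ Nat.card ↥(Subgroup.centralizer (N : Set F)) = Nat.card N ^ k) ∧
          (∃ g : F, Subgroup.centralizer (N : Set F) ⊔ Subgroup.zpowers g = ⊤) ∧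
          (Subgroup.centralizer (N : Set F)).index ∣ Nat.card N - 1) ∨
       (H = N ∧ Nat.card N = 2 ∧ Subgroup.centralizer (N : Set F) = ⊤ ∧
          ∃ k : ℕ, 1 ≤ k ∧ Nonempty (F ≃* QuaternionGroup (2 ^ k)))) := by
  classical
  have hsub : ∀ M : Subgroup F, M.Normal → M ≠ ⊥ → H ≤ M := fun M hM hM1 =>
    hmin M hM1 (by rw [Subgroup.normalizer_eq_top_iff.2 hM]; exact le_top)
  set N : Subgroup F := ⨅ M : {M : Subgroup F // M.Normal ∧ M ≠ ⊥}, M.1 with hNdef
  have hHN : H ≤ N := le_iInf fun M => hsub M.1 M.2.1 M.2.2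
  have hNn : N.Normal := Subgroup.normal_iInf_normal fun M => M.2.1
  have hN1 : N ≠ ⊥ := fun h => hH (le_bot_iff.1 (h ▸ hHN))
  have hNle : ∀ M : Subgroup F, M.Normal → M ≠ ⊥ → N ≤ M := fun M hM hM1 => iInf_le (fun M : {M : Subgroup F // M.Normal ∧ M ≠ ⊥} => M.1) ⟨M, hM, hM1⟩
  have hsimp : IsSimpleGroup ↥N := by
    have : Nontrivial ↥N := (Subgroup.nontrivial_iff_ne_bot N).2 hN1
    refine ⟨fun K hK => (eq_or_ne K ⊥).imp_right fun hK1 => ?_⟩
    set K' := K.map N.subtype with hK'
    have hconj : ∀ g : F, H ≤ K'.map (MulAut.conj g).toMonoidHom := by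
      intro g
      refine hmin _ ?_ ?_
      · rw [ne_eq, Subgroup.map_eq_bot_iff_of_injective _ (MulEquiv.injective _), hK',
          Subgroup.map_eq_bot_iff_of_injective _ N.subtype_injective]
        exact hK1
      · refine hHN.trans ?_
        have h1 : N ≤ Subgroup.normalizer (K' : Set F) := by
          have := Subgroup.le_normalizer_map N.subtype (H := K)
          rw [Subgroup.normalizer_eq_top_iff.2 hK, ← MonoidHom.range_eq_map, Subgroup.range_subtype] at this
          exact this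
        have h2 := (Subgroup.map_mono (f := (MulAut.conj g).toMonoidHom) h1).trans (Subgroup.le_normalizer_map _)
        rwa [show N.map (MulAut.conj g).toMonoidHom = N from Subgroup.mem_normalizer_iff_map_conj_eq.1 (by rw [Subgroup.normalizer_eq_top_iff.2 hNn]; exact Subgroup.mem_top g)] at h2
    have hcore : H ≤ ⨅ g : F, K'.map (MulAut.conj g).toMonoidHom := le_iInf hconj
    set M := ⨅ g : F, K'.map (MulAut.conj g).toMonoidHom with hM
    have hMn : M.Normal := ⟨fun x hx h => by
      rw [hM, Subgroup.mem_iInf] at hx ⊢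
      intro g
      obtain ⟨y, hy, hyx⟩ := hx (h⁻¹ * g)
      refine ⟨y, hy, ?_⟩
      simp only [MulEquiv.coe_toMonoidHom, MulAut.conj_apply] at hyx ⊢
      rw [← hyx]; group⟩
    have hM1 : M ≠ ⊥ := fun h => hH (le_bot_iff.1 (h ▸ hcore))
    refine eq_top_iff.2 fun x _ => ?_
    have hx : (x : F) ∈ K'.map (MulAut.conj (1 : F)).toMonoidHom :=
      (iInf_le (fun g : F => K'.map (MulAut.conj g).toMonoidHom) 1 : M ≤ _) (hNle M hMn hM1 x.2)
    obtain ⟨y, ⟨z, hz, rfl⟩, hyx⟩ := hx
    have : z = x := Subtype.ext (by simpa using hyx)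
    exact this ▸ hz
  refine ⟨N, hNn, hN1, hNle, hsimp, ?_⟩
  set C := Subgroup.centralizer (N : Set F) with hC
  by_cases hC1 : C = ⊥
  · exact Or.inl hC1
  right
  have hCn : C.Normal := by rw [hC]; infer_instance
  have hNC : N ≤ C := hNle C hCn hC1
  have hNab : IsMulCommutative ↥N := ⟨⟨fun a b => Subtype.ext
    (Subgroup.mem_centralizer_iff.1 (hNC a.2) b b.2).symm⟩⟩
  open scoped IsMulCommutative in
  have hprime : (Nat.card ↥N).Prime := IsSimpleGroup.prime_card
  have hfp : Fact (Nat.card ↥N).Prime := ⟨hprime⟩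
  have hHNeq : H = N := by
    refine Subgroup.eq_of_le_of_card_ge hHN ?_
    have h1 : Nat.card H ∣ Nat.card N := Subgroup.card_dvd_of_le hHN
    rcases (Nat.dvd_prime hprime).1 h1 with h | h
    · exact absurd (Subgroup.card_eq_one.1 h) hH
    · exact h.ge
  -- every nontrivial subgroup of `C` contains `N`
  have hCsub : ∀ R : Subgroup F, R ≤ C → R ≠ ⊥ → N ≤ R := by
    intro R hR hR1
    rw [← hHNeq]
    refine hmin R hR1 (le_trans ?_ (Subgroup.centralizer_le_normalizer _))
    exact hHN.trans (Subgroup.le_centralizer_iff.1 hR)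
  have hgen : ∀ (q : ℕ), q.Prime → ∀ x : ↥C, orderOf x = q → q = Nat.card ↥N ∧ Subgroup.zpowers (x : F) = N := by
    intro q hq x hx
    have hxF : orderOf (x : F) = q := by rw [Subgroup.orderOf_coe, hx]
    have hle := hCsub (Subgroup.zpowers (x : F)) (Subgroup.zpowers_le.2 x.2) (by
      rw [ne_eq, Subgroup.zpowers_eq_bot]; intro h; rw [h, orderOf_one] at hxF; exact hq.one_lt.ne hxF)
    have hd := Subgroup.card_dvd_of_le hle
    rw [Nat.card_zpowers, hxF] at hd
    have he := ((Nat.dvd_prime hq).1 hd).resolve_left hprime.one_lt.ne'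
    exact ⟨he.symm, (Subgroup.eq_of_le_of_card_ge hle (by rw [Nat.card_zpowers, hxF, he])).symm⟩
  have hCp : IsPGroup (Nat.card ↥N) ↥C := by
    refine IsPGroup.of_card (n := (Nat.card ↥C).primeFactorsList.length) ?_
    refine Nat.eq_prime_pow_of_unique_prime_dvd Nat.card_pos.ne' fun {q} hq hqd => ?_
    have := Fact.mk hq
    obtain ⟨x, hx⟩ := exists_prime_orderOf_dvd_card' q hqd
    exact (hgen q hq x hx).1
  obtain ⟨k, hk⟩ := IsPGroup.iff_card.1 hCp
  have hk1 : 1 ≤ k := by
    rcases Nat.eq_zero_or_pos k with rfl | h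
    · exact absurd (Subgroup.card_eq_one.1 (by simpa using hk)) hC1
    · exact h
  by_cases hp2 : Nat.card ↥N = 2
  · -- the central case
    have hCtop : C = ⊤ := by
      refine eq_top_iff.2 fun g _ => Subgroup.mem_centralizer_iff.2 fun n hn => ?_
      have hc := hNn.conj_mem n hn g
      obtain ⟨z, -, hz⟩ := (Nat.card_eq_two_iff' (1 : ↥N)).1 hp2
      by_cases hn1 : n = 1
      · simp [hn1]
      · have h1 : (⟨n, hn⟩ : ↥N) = z := hz _ (fun h => hn1 (congrArg Subtype.val h))
        have h2 : (⟨g * n * g⁻¹, hc⟩ : ↥N) = z := hz _ (fun h => hn1 (by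
          have h' : g * n * g⁻¹ = 1 := congrArg Subtype.val h
          simpa using h'))
        have h3 : g * n * g⁻¹ = n := congrArg Subtype.val (h2.trans h1.symm)
        exact (mul_inv_eq_iff_eq_mul.1 h3).symm
    have hFp : IsPGroup 2 F := by
      rw [hp2, hCtop] at hCp
      exact hCp.of_equiv Subgroup.topEquiv
    have huniq : ∀ a b : F, orderOf a = 2 → orderOf b = 2 → a = b := by
      intro a b ha hb
      have ha' := (hgen 2 Nat.prime_two ⟨a, hCtop ▸ Subgroup.mem_top a⟩ (by rw [Subgroup.orderOf_mk, ha])).2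
      have hb' := (hgen 2 Nat.prime_two ⟨b, hCtop ▸ Subgroup.mem_top b⟩ (by rw [Subgroup.orderOf_mk, hb])).2
      obtain ⟨z, -, hz⟩ := (Nat.card_eq_two_iff' (1 : ↥N)).1 hp2
      have h1 := hz ⟨a, ha' ▸ Subgroup.mem_zpowers a⟩ (fun h => by
        have h' : a = 1 := congrArg Subtype.val h
        simp [h'] at ha)
      have h2 := hz ⟨b, hb' ▸ Subgroup.mem_zpowers b⟩ (fun h => by
        have h' : b = 1 := congrArg Subtype.val h
        simp [h'] at hb)
      exact congrArg Subtype.val (h1.trans h2.symm)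
    rcases CfsgLib.TwoGroups.OneInvolution.isCyclic_or_quaternion hFp huniq with hcyc | hq
    · exact Or.inl ⟨hHNeq, hprime, inferInstance, ⟨k, hk1, hk⟩, ⟨1, by simp [hCtop]⟩, by simp [hCtop]⟩
    · exact Or.inr ⟨hHNeq, hp2, hCtop, hq⟩
  left
  have hcyc : IsCyclic ↥C := by
    refine CfsgLib.ConstStab.isCyclic_of_unique_prime_subgroup hp2 hCp fun x y hx1 hxp hyp => ?_
    by_cases hy : y = 1
    · rw [hy]; exact Subgroup.one_mem _
    have h1 := (hgen _ hprime x (orderOf_eq_prime hxp hx1)).2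
    have h2 := (hgen _ hprime y (orderOf_eq_prime hyp hy)).2
    obtain ⟨i, hi⟩ := (show (y : F) ∈ Subgroup.zpowers (x : F) by rw [h1, ← h2]; exact Subgroup.mem_zpowers _)
    exact ⟨i, Subtype.ext (by simpa using hi)⟩
  set φ : F →* MulAut ↥N := MulAut.conjNormal with hφ
  have hker : φ.ker = C := by
    ext g
    rw [MonoidHom.mem_ker, hC, Subgroup.mem_centralizer_iff]
    constructor
    · intro h n hn
      have h1 := congrArg Subtype.val (DFunLike.congr_fun h ⟨n, hn⟩)
      simp only [hφ, MulAut.conjNormal_apply, MulAut.one_apply] at h1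
      exact (mul_inv_eq_iff_eq_mul.1 h1).symm
    · intro h
      refine MulEquiv.ext fun n => Subtype.ext ?_
      simp only [hφ, MulAut.conjNormal_apply, MulAut.one_apply]
      exact mul_inv_eq_iff_eq_mul.2 (h n n.2).symm
  have hNcyc : IsCyclic ↥N := isCyclic_of_prime_card rfl
  have hAcyc : IsCyclic (MulAut ↥N) := (IsCyclic.mulAutMulEquiv ↥N).isCyclic.2 inferInstance
  obtain ⟨⟨_, g, rfl⟩, hg⟩ := IsCyclic.exists_generator (α := φ.range)
  refine ⟨hHNeq, hprime, hcyc, ⟨k, hk1, hk⟩, ⟨g, eq_top_iff.2 fun f _ => ?_⟩, ?_⟩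
  · obtain ⟨i, hi⟩ := hg ⟨φ f, f, rfl⟩
    have h1 : φ g ^ i = φ f := congrArg Subtype.val hi
    have h2 : f * (g ^ i)⁻¹ ∈ C := by
      rw [← hker, MonoidHom.mem_ker, map_mul, map_inv, map_zpow, h1, mul_inv_cancel]
    have h3 := Subgroup.mul_mem_sup h2 (Subgroup.zpow_mem (Subgroup.zpowers g) (Subgroup.mem_zpowers g) i)
    rwa [inv_mul_cancel_right] at h3
  · rw [← hker, Subgroup.index_ker]
    refine (Subgroup.card_subgroup_dvd_card _).trans ?_
    rw [IsCyclic.card_mulAut, Nat.totient_prime hprime]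

end Cfsg.Agent.S3025
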