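import Cfsg.Statements.S3032
import Cfsg.Agent.Lib.LocalEvenSix.HSubgroup
import Cfsg.Agent.Lib.LocalEvenSix.PowerAut

set_option autoImplicit false
open Cfsg

namespace Cfsg.Agent.S3032

open Subgroup CfsgLib.LocalEvenSix

universe u

/-- The hypothesis on the Sylow subgroups of `E`. -/
def Hyp {G : Type u} [Group G] (E : Subgroup G) : Prop :=
  ∀ p : ℕ, p.Prime → ∀ P : Subgroup G, P ≤ E → IsPGroup p P → ¬ p ∣ P.relIndex E → ¬ IsCyclic P →
    ∃ d, 1 ≤ d ∧ p ^ d < Nat.card P ∧ SCAll (p ^ d) P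

variable {G : Type u} [Group G] [Finite G]

theorem card_mul_relIndex {A B : Subgroup G} (h : A ≤ B) :
    Nat.card A * A.relIndex B = Nat.card B := by
  have e := (A.subgroupOf B).card_mul_index
  rwa [← relIndex, Nat.card_congr (subgroupOfEquivOfLe h).toEquiv] at e

/-- A normal Sylow subgroup of `E` contains every `q`-element of `E`. -/
theorem mem_of_normalized {q : ℕ} [Fact q.Prime] {E Q : Subgroup G} (hQE : Q ≤ E)
    (hn : E ≤ normalizer (Q : Set G)) (hidx : ¬ q ∣ Q.relIndex E) {x : G} (hx : x ∈ E) {i : ℕ}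
    (hi : orderOf x = q ^ i) : x ∈ Q := by
  haveI : (Q.subgroupOf E).Normal := normal_subgroupOf_of_le_normalizer hn
  have h1 : (⟨x, hx⟩ : E) ^ (Q.subgroupOf E).index ∈ Q.subgroupOf E := pow_index_mem _ _
  rw [mem_subgroupOf] at h1
  simp only [coe_pow] at h1
  have hc : (orderOf x).Coprime (Q.subgroupOf E).index := by
    rw [hi]
    exact Nat.Coprime.pow_left _ (((Fact.out : q.Prime).coprime_iff_not_dvd).mpr hidx)
  have hz : zpowers (x ^ (Q.subgroupOf E).index) = zpowers x :=
    eq_of_le_of_card_ge (zpowers_le.mpr (pow_mem (mem_zpowers x) _)) (by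
      rw [Nat.card_zpowers, Nat.card_zpowers, Nat.Coprime.orderOf_pow hc])
  exact (zpowers_le.mpr h1) (hz ▸ mem_zpowers x)

/-- Sylow tower: the Sylow subgroup for the largest prime is normal in `E`. -/
theorem exists_sylow_normalised : ∀ (n : ℕ) (E : Subgroup G), Nat.card E = n → Hyp E →
    ∀ q : ℕ, q.Prime → (∀ r, r.Prime → r ∣ Nat.card E → r ≤ q) →
      ∃ Q : Subgroup G, Q ≤ E ∧ IsPGroup q Q ∧ ¬ q ∣ Q.relIndex E ∧ E ≤ normalizer (Q : Set G) := by
  intro n
  induction n using Nat.strong_induction_on with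
  | _ n ih =>
  intro E hn hyp q hq hmax
  haveI := Fact.mk hq
  by_cases hqE : ∀ r, r.Prime → r ∣ Nat.card E → r = q
  · refine ⟨E, le_rfl, ?_, by rw [relIndex_self]; exact hq.not_dvd_one, le_normalizer⟩
    exact IsPGroup.of_card (Nat.eq_prime_pow_of_unique_prime_dvd Nat.card_pos.ne'
      fun {d} hd hdd => hqE d hd hdd)
  push Not at hqE
  obtain ⟨r, hr, hrd, hrq⟩ := hqE
  have hE1 : Nat.card E ≠ 1 := fun h => hr.not_dvd_one (h ▸ hrd)
  let p := (Nat.card E).minFac
  have hp : p.Prime := Nat.minFac_prime hE1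
  have hmin : ∀ s : ℕ, s.Prime → s ∣ Nat.card E → p ≤ s := fun s hs hsd =>
    Nat.minFac_le_of_dvd hs.two_le hsd
  have hpq : p ≠ q := by
    intro h
    have h1 := hmin r hr hrd
    have h2 := hmax r hr hrd
    omega
  haveI := Fact.mk hp
  obtain ⟨P⟩ : Nonempty (Sylow p E) := inferInstance
  let P' := (P : Subgroup E).map E.subtype
  have hP'E : P' ≤ E := map_subtype_le _
  have hidx : ¬ p ∣ P'.relIndex E := by
    rw [relIndex, subgroupOf, comap_map_eq_self_of_injective E.subtype_injective]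
    exact P.not_dvd_index
  have hcard : Nat.card P' = Nat.card (P : Subgroup E) := card_map_of_injective E.subtype_injective
  have hcond : IsCyclic (P : Subgroup E) ∨ ∃ d : ℕ, 1 ≤ d ∧ p ^ d < Nat.card (P : Subgroup E) ∧
      SCAll (p ^ d) (P : Subgroup E) := by
    by_cases hc : IsCyclic P'
    · exact Or.inl (isCyclic_of_injective
        ((P : Subgroup E).equivMapOfInjective _ E.subtype_injective).toMonoidHom
        ((P : Subgroup E).equivMapOfInjective _ E.subtype_injective).injective)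
    · obtain ⟨d, hd, hdP, hsc⟩ := hyp p hp P' hP'E (P.isPGroup'.map _) hidx hc
      refine Or.inr ⟨d, hd, hcard ▸ hdP, fun F hF hFc x hx g hg => ?_⟩
      obtain ⟨y, hy, hye⟩ := hsc (F.map E.subtype) (map_mono hF)
        (by rw [card_map_of_injective E.subtype_injective]; exact hFc) x ⟨x, hx, rfl⟩ g
        ⟨g * x * g⁻¹, hg, by simp⟩
      rw [show g * x * g⁻¹ = y from Subtype.ext (by simpa using hye.symm)]
      exact hy
  obtain ⟨S, N, hN, hNS⟩ := hasNormalPComplement_of_scAll (G := E) hmin P hcond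
  have hNindex : N.index = Nat.card (S : Subgroup E) := hNS.symm.index_eq_card
  have hNcard : ¬ p ∣ Nat.card N := by
    rw [← hNS.index_eq_card]; exact S.not_dvd_index
  have hScard : Nat.card (S : Subgroup E) ≠ 1 := by
    intro h
    have := S.dvd_card_of_dvd_card (Nat.minFac_dvd (Nat.card E))
    rw [h] at this
    exact hp.not_dvd_one this
  obtain ⟨j, hj⟩ := S.isPGroup'.exists_card_eq
  let N' := N.map E.subtype
  have hN'E : N' ≤ E := map_subtype_le _
  have hN'c : Nat.card N' = Nat.card N := card_map_of_injective E.subtype_injective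
  have hN'i : N'.relIndex E = p ^ j := by
    rw [relIndex, subgroupOf, comap_map_eq_self_of_injective E.subtype_injective, hNindex, hj]
  have hlt : Nat.card N' < n := by
    rw [hN'c, ← hn, ← N.card_mul_index, hNindex]
    exact lt_mul_of_one_lt_right Nat.card_pos
      (lt_of_le_of_ne Nat.card_pos (Ne.symm hScard))
  have hN'h : Hyp N' := by
    intro s hs R hRN hR hRi hRc
    rcases eq_or_ne s p with rfl | hsp
    · exfalso
      apply hRc
      have : R = ⊥ := by
        obtain ⟨k, hk⟩ := hR.exists_card_eq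
        refine eq_bot_of_card_eq _ ?_
        rcases k with _ | k
        · simpa using hk
        · refine absurd ?_ hNcard
          rw [← hN'c]
          exact (dvd_pow_self p k.succ_ne_zero).trans (hk ▸ card_dvd_of_le hRN)
      subst this
      infer_instance
    · refine hyp s hs R (hRN.trans hN'E) hR ?_ hRc
      rw [← relIndex_mul_relIndex _ _ _ hRN hN'E, hN'i, hs.dvd_mul, not_or]
      exact ⟨hRi, fun h => hsp ((Nat.prime_dvd_prime_iff_eq hs hp).mp (hs.dvd_of_dvd_pow h))⟩
  obtain ⟨Q, hQN, hQ, hQi, hQn⟩ := ih _ hlt N' rfl hN'h q hq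
    (fun s hs hsd => hmax s hs (hsd.trans (card_dvd_of_le hN'E)))
  refine ⟨Q, hQN.trans hN'E, hQ, ?_, fun g hg => mem_normalizer_of_forall fun x hx => ?_⟩
  · rw [← relIndex_mul_relIndex _ _ _ hQN hN'E, hN'i, hq.dvd_mul, not_or]
    exact ⟨hQi, fun h => hpq ((Nat.prime_dvd_prime_iff_eq hq hp).mp (hq.dvd_of_dvd_pow h)).symm⟩
  · obtain ⟨y, hy, hyx⟩ := hQN hx
    obtain ⟨i, hi⟩ := IsPGroup.iff_orderOf.mp hQ ⟨x, hx⟩
    rw [Subgroup.orderOf_mk] at hi
    refine mem_of_normalized hQN hQn hQi ⟨_, hN.conj_mem y hy ⟨g, hg⟩, by simp [← hyx]⟩ (i := i) ?_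
    rw [← hi]
    exact (MulAut.conj g).orderOf_eq x

theorem main : ∀ (n : ℕ) {G : Type u} [Group G] [Finite G], Nat.card G = n →
    ∀ (E : Subgroup G) [E.Normal], Cfsg.IsSupersolvable (G ⧸ E) → Hyp E → Cfsg.IsSupersolvable G := by
  intro n
  induction n using Nat.strong_induction_on with
  | _ n ih =>
  intro G _ _ hn E _ hss hyp
  rcases eq_or_ne E ⊥ with hbot | hbot
  · subst hbot
    exact CfsgLib.Supersolvable.of_mulEquiv hss QuotientGroup.quotientBot
  have hEn : (E : Subgroup G).Normal := inferInstance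
  obtain ⟨q, hq, hqd, hqmax⟩ := CfsgLib.Supersolvable.exists_max_prime
    (Nat.lt_of_le_of_ne Nat.card_pos (fun h => hbot (eq_bot_of_card_eq E h.symm)))
  haveI := Fact.mk hq
  obtain ⟨Q, hQE, hQ, hQi, hQn⟩ := exists_sylow_normalised _ E rfl hyp q hq hqmax
  haveI hQnormal : Q.Normal := ⟨fun x hx g => by
    obtain ⟨i, hi⟩ := IsPGroup.iff_orderOf.mp hQ ⟨x, hx⟩
    rw [Subgroup.orderOf_mk] at hi
    refine mem_of_normalized hQE hQn hQi (hEn.conj_mem x (hQE hx) g) (i := i) ?_
    rw [← hi]
    exact (MulAut.conj g).orderOf_eq x⟩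
  have hQ1 : Q ≠ ⊥ := by
    intro h
    apply hQi
    rw [h, relIndex_bot_left]
    exact hqd
  set π := QuotientGroup.mk' Q
  have hπs : Function.Surjective π := QuotientGroup.mk'_surjective Q
  haveI : (E.map π).Normal := Subgroup.Normal.map inferInstance π hπs
  have hE'c : Nat.card (E.map π) = Q.relIndex E := by
    have h := index_ker (π.comp E.subtype)
    rw [MonoidHom.range_comp, range_subtype, ← MonoidHom.comap_ker, QuotientGroup.ker_mk'] at h
    exact h.symm
  have hyp' : Hyp (E.map π) := by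
    intro p hp P' hP'E hP' hP'i hP'c
    haveI := Fact.mk hp
    rcases eq_or_ne p q with rfl | hpq
    · exfalso
      apply hP'c
      have : P' = ⊥ := by
        obtain ⟨k, hk⟩ := hP'.exists_card_eq
        refine eq_bot_of_card_eq _ ?_
        rcases k with _ | k
        · simpa using hk
        · refine absurd ?_ hQi
          rw [← hE'c]
          exact (dvd_pow_self p k.succ_ne_zero).trans (hk ▸ card_dvd_of_le hP'E)
      subst this
      infer_instance
    let T := P'.comap π
    have hQT : Q ≤ T := by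
      refine le_trans (le_of_eq ?_) (ker_le_comap π P')
      exact (QuotientGroup.ker_mk' Q).symm
    have hTE : T ≤ E := by
      refine (comap_mono hP'E).trans (le_of_eq ?_)
      rw [comap_map_eq, QuotientGroup.ker_mk', sup_eq_left.mpr hQE]
    have hTc : Nat.card T = Nat.card Q * Nat.card P' := by
      have h := index_ker (π.comp T.subtype)
      rw [MonoidHom.range_comp, range_subtype, ← MonoidHom.comap_ker, QuotientGroup.ker_mk',
        map_comap_eq_self_of_surjective hπs] at h
      rw [← card_mul_relIndex hQT, ← h]; rfl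
    obtain ⟨b, hb⟩ := hP'.exists_card_eq
    obtain ⟨a, ha⟩ := hQ.exists_card_eq
    obtain ⟨S⟩ : Nonempty (Sylow p T) := inferInstance
    let P := (S : Subgroup T).map T.subtype
    have hPT : P ≤ T := map_subtype_le _
    have hPi : ¬ p ∣ P.relIndex T := by
      rw [relIndex, subgroupOf, comap_map_eq_self_of_injective T.subtype_injective]
      exact S.not_dvd_index
    have hP : IsPGroup p P := S.isPGroup'.map _
    have hpa : ¬ p ∣ Nat.card Q := by
      rw [ha]; exact fun h => hpq ((Nat.prime_dvd_prime_iff_eq hp hq).mp (hp.dvd_of_dvd_pow h))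
    have hPc : Nat.card P = p ^ b := by
      obtain ⟨c, hc⟩ := hP.exists_card_eq
      have h1 : p ^ c * P.relIndex T = p ^ b * Nat.card Q := by
        rw [← hc, card_mul_relIndex hPT, hTc, hb, mul_comm]
      have h2 : p ^ c ∣ p ^ b := (Nat.Coprime.pow_left c ((hp.coprime_iff_not_dvd).mpr hpa)).dvd_of_dvd_mul_right
        ⟨_, h1.symm⟩
      have h3 : p ^ b ∣ p ^ c := (Nat.Coprime.pow_left b ((hp.coprime_iff_not_dvd).mpr hPi)).dvd_of_dvd_mul_right
        ⟨_, h1⟩
      rw [hc, Nat.dvd_antisymm h2 h3]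
    have hPQ : ∀ z ∈ P, z ∈ Q → z = 1 := fun z hz hzQ => by
      have h1 := Subgroup.orderOf_dvd_natCard P hz
      have h2 := Subgroup.orderOf_dvd_natCard Q hzQ
      rw [hPc] at h1
      exact orderOf_eq_one_iff.mp (Nat.eq_one_of_dvd_coprimes
        (Nat.Coprime.pow_left b ((hp.coprime_iff_not_dvd).mpr hpa)) h1 h2)
    have hinj : Function.Injective (π.comp P.subtype) := by
      rw [injective_iff_map_eq_one]
      intro z hz
      exact Subtype.ext (hPQ _ z.2 ((QuotientGroup.eq_one_iff _).mp hz))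
    have hPmap : P.map π = P' := by
      refine eq_of_le_of_card_ge (map_le_iff_le_comap.mpr hPT) ?_
      rw [hb, ← hPc, Nat.card_congr (MonoidHom.ofInjective hinj).toEquiv,
        MonoidHom.range_comp, range_subtype]
    have hPE : ¬ p ∣ P.relIndex E := by
      rw [← relIndex_mul_relIndex _ _ _ hPT hTE, hp.dvd_mul, not_or]
      refine ⟨hPi, fun h => hP'i ?_⟩
      have h1 : Nat.card T * T.relIndex E = Nat.card T * P'.relIndex (E.map π) := by
        rw [card_mul_relIndex hTE, hTc, mul_assoc, card_mul_relIndex hP'E, hE'c, card_mul_relIndex hQE]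
      rwa [Nat.eq_of_mul_eq_mul_left Nat.card_pos h1] at h
    have hPnc : ¬ IsCyclic P := by
      intro h
      apply hP'c
      rw [← hPmap]
      exact isCyclic_of_surjective _ (π.subgroupMap_surjective P)
    obtain ⟨d, hd, hdP, hsc⟩ := hyp p hp P (hPT.trans hTE) hP hPE hPnc
    refine ⟨d, hd, by rw [hb, ← hPc]; exact hdP, fun F' hF' hFc x' hx' g' hg' => ?_⟩
    let F := P ⊓ F'.comap π
    have hFmap : F.map π = F' := by
      refine le_antisymm (map_le_iff_le_comap.mpr inf_le_right) fun z hz => ?_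
      rw [← hPmap] at hF'
      obtain ⟨w, hw, rfl⟩ := hF' hz
      exact ⟨w, ⟨hw, hz⟩, rfl⟩
    have hFc' : Nat.card F = Nat.card F' := by
      have hi : Function.Injective (π.comp F.subtype) := by
        rw [injective_iff_map_eq_one]
        intro z hz
        exact Subtype.ext (hPQ _ z.2.1 ((QuotientGroup.eq_one_iff _).mp hz))
      rw [Nat.card_congr (MonoidHom.ofInjective hi).toEquiv, MonoidHom.range_comp, range_subtype, hFmap]
    rw [← hFmap] at hx'
    obtain ⟨x, hx, rfl⟩ := hx'
    obtain ⟨g, rfl⟩ := hπs g'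
    have hy : g * x * g⁻¹ ∈ T := by simpa [T] using hg'
    have hyp2 : IsPGroup p (zpowers (⟨g * x * g⁻¹, hy⟩ : T)) := by
      obtain ⟨i, hi⟩ := IsPGroup.iff_orderOf.mp hP ⟨x, hx.1⟩
      rw [Subgroup.orderOf_mk] at hi
      refine IsPGroup.of_card (n := i) ?_
      rw [Nat.card_zpowers, Subgroup.orderOf_mk, ← hi]
      exact (MulAut.conj g).orderOf_eq x
    obtain ⟨S', hS'⟩ := hyp2.exists_le_sylow
    obtain ⟨t, rfl⟩ := MulAction.exists_smul_eq T S S'
    have hu : (t : G)⁻¹ * (g * x * g⁻¹) * t ∈ P := by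
      have h := hS' (mem_zpowers _)
      rw [Sylow.coe_subgroup_smul, Subgroup.mem_pointwise_smul_iff_inv_smul_mem] at h
      exact ⟨_, h, by simp [MulAut.smul_def]⟩
    have htQP : (t : G) ∈ Q ⊔ P := by
      have : Q ⊔ P = T := by
        have h0 := comap_map_eq (f := π) P
        rw [hPmap, QuotientGroup.ker_mk'] at h0
        rw [sup_comm]; exact h0.symm
      rw [this]; exact t.2
    obtain ⟨c, hc, u, hu', hcu⟩ := mem_sup_of_normal_left.mp htQP
    have hv : (c⁻¹ * g) * x * (c⁻¹ * g)⁻¹ ∈ P := by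
      rw [← hcu] at hu
      convert mul_mem (mul_mem hu' hu) (inv_mem hu') using 1
      group
    refine hFmap ▸ ⟨_, hsc F inf_le_left (hFc'.symm ▸ hFc) x hx (c⁻¹ * g) hv, ?_⟩
    simp [show π c = 1 from (QuotientGroup.eq_one_iff c).mpr hc]
  have hss' : Cfsg.IsSupersolvable (G ⧸ Q) :=
    ih _ (hn ▸ CfsgLib.Supersolvable.card_quotient_lt hQ1) rfl (E.map π)
      (CfsgLib.Supersolvable.of_mulEquiv hss (QuotientGroup.quotientQuotientEquivQuotient Q E hQE).symm)
      hyp'
  refine isSupersolvable_of_powComm_fix _ rfl q Q hQ (fun k hk hcop => ?_) hss'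
  refine powComm_centralizes Q hQ ?_ hk hcop
  by_cases hc : IsCyclic Q
  · exact Or.inl hc
  · obtain ⟨d, hd, hdQ, hsc⟩ := hyp q hq Q hQE hQ hQi hc
    exact Or.inr ⟨d, hd, hdQ, fun F hF hFc => ⟨fun x hx g =>
      hsc F hF hFc x hx g (hQnormal.conj_mem x (hF hx) g)⟩⟩


/-- Let G be a finite group and E a normal subgroup with G/E supersolvable. Suppose that for every prime p and every non-cyclic Sylow p-subgroup P of E there is a subgroup D of P with 1 < |D| < |P| such that every subgroup F of P of order |D|, and also every subgroup F of P of order 4 when |D| = 2, satisfies g F g⁻¹ ∩ N_G(F) ≤ F for all g ∈ G. Then G is supersolvable. -/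
theorem result {G : Type*} [Group G] [Finite G] (E : Subgroup G) [E.Normal] (hGE : Cfsg.IsSupersolvable (G ⧸ E))
    (h : ∀ (p : ℕ), p.Prime → ∀ P : Subgroup G, P ≤ E → IsPGroup p P → ¬ p ∣ P.relIndex E → ¬ IsCyclic ↥P →
      ∃ D : Subgroup G, D ≤ P ∧ 1 < Nat.card D ∧ Nat.card D < Nat.card P ∧
        ∀ F : Subgroup G, F ≤ P → (Nat.card F = Nat.card D ∨ (Nat.card D = 2 ∧ Nat.card F = 4)) →
          ∀ g : G, F.map (MulAut.conj g).toMonoidHom ⊓ Subgroup.normalizer (F : Set G) ≤ F) :
    Cfsg.IsSupersolvable G := by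
  refine main _ rfl E hGE fun p hp P hPE hP hPi hPc => ?_
  haveI := Fact.mk hp
  obtain ⟨D, hD, h1, h2, hF⟩ := h p hp P hPE hP hPi hPc
  obtain ⟨d, hd⟩ := (hP.to_le hD).exists_card_eq
  refine ⟨d, Nat.one_le_iff_ne_zero.mpr fun h0 => ?_, hd ▸ h2, fun F hFP hFc => ?_⟩
  · rw [hd, h0] at h1
    simp at h1
  · exact stronglyClosed_of_H hP hFP (hF F hFP (by rw [hd]; exact hFc))

end Cfsg.Agent.S3032
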