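import Cfsg.Statements.S3033
import Cfsg.Agent.Lib.LocalEvenSix.PairOrderModule
import Cfsg.Agent.Lib.PCore.Basic
import Cfsg.Agent.Lib.LocalEven.FaithfulModule
import Cfsg.Agent.Lib.Solvable.Supersolvable
import Cfsg.Agent.Lib.Solvable.CoreFreeMaximal
import Cfsg.Agent.Lib.Structure.MinimalNormal
import Cfsg.Agent.Lib.Transfer.NormalComplement
import Cfsg.Agent.S0579

set_option autoImplicit false
open Cfsg

namespace Cfsg.Agent.S3033

open Subgroup CfsgLib.LocalEvenSix.PairOrder

universe u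

/-- A supersolvable group has a normal `p`-complement for its smallest prime `p`. -/
theorem npc_of_supersolvable {p : ℕ} [hp : Fact p.Prime] (n : ℕ) : ∀ (H : Type u) [Group H] [Finite H],
    Nat.card H = n → Cfsg.IsSupersolvable H → (∀ q : ℕ, q.Prime → q ∣ Nat.card H → p ≤ q) →
    Cfsg.HasNormalPComplement p H := by
  induction n using Nat.strong_induction_on with
  | _ n ih =>
  intro H _ _ hn hH hmin
  by_cases hgt : ∃ q : ℕ, q.Prime ∧ q ∣ Nat.card H ∧ q ≠ p
  · obtain ⟨q, hq, hqd, hqp⟩ := hgt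
    obtain ⟨r, hr, hrd, hmax⟩ := CfsgLib.Supersolvable.exists_max_prime
      (lt_of_lt_of_le hq.one_lt (Nat.le_of_dvd Nat.card_pos hqd))
    have hrp : r ≠ p := fun h => hqp (le_antisymm (h ▸ hmax q hq hqd) (hmin q hq hqd))
    obtain ⟨M, hM, hMc⟩ := CfsgLib.Supersolvable.exists_normal_max_prime hH hr hrd hmax
    have hlt := CfsgLib.Supersolvable.card_quotient_lt (CfsgLib.Supersolvable.ne_bot_of_card_prime hr hMc)
    have h1 := CfsgLib.Transfer.hasNormalPComplement_iff.1 (ih _ (hn ▸ hlt) (H ⧸ M) rfl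
      (CfsgLib.Supersolvable.quotient hH M) fun s hs hsd => hmin s hs (hsd.trans (card_quotient_dvd_card M)))
    haveI := CfsgLib.Transfer.pResidual_normal (G := H ⧸ M) (p := p)
    set R := Cfsg.pResidual p (H ⧸ M)
    refine CfsgLib.Transfer.hasNormalPComplement_of_coprime (R.comap (QuotientGroup.mk' M)) ?_ ?_
    · rw [CfsgLib.PCore.card_comap_mk' M R, hMc]
      intro hd
      rcases hp.out.dvd_mul.1 hd with hd | hd
      all_goals first
        | exact h1 hd
        | exact hrp ((Nat.prime_dvd_prime_iff_eq hp.out hr).1 hd).symm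
    · intro g
      obtain ⟨h, rfl⟩ := QuotientGroup.mk_surjective g
      obtain ⟨k, hk⟩ := CfsgLib.Transfer.exists_pow_mem_pResidual (p := p) (QuotientGroup.mk' M h)
      refine ⟨k, ?_⟩
      rw [← QuotientGroup.mk_pow, QuotientGroup.eq_one_iff, mem_comap, map_pow]
      exact hk
  · push Not at hgt
    have hHp : IsPGroup p H := by
      refine IsPGroup.of_card (n := (Nat.card H).primeFactorsList.length) ?_
      exact Nat.eq_prime_pow_of_unique_prime_dvd Nat.card_pos.ne' fun {d} hd hdd => hgt d hd hdd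
    exact CfsgLib.Transfer.hasNormalPComplement_of_coprime ⊥
      (by rw [card_bot]; exact hp.out.not_dvd_one) (hHp.to_quotient _)

theorem pairCond_subgroup {G : Type u} [Group G] (h : PairCond G) (H : Subgroup G) : PairCond H := by
  intro p q hp hq hpq x g hx hg hd
  have h1 := h p q hp hq hpq x g (by simpa using hx) (by simpa using hg)
  refine h1 ?_
  convert hd using 1
  rw [← card_map_of_injective (f := H.subtype) H.subtype_injective, Subgroup.map_sup,
    MonoidHom.map_zpowers, MonoidHom.map_zpowers]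
  rfl

theorem pairCond_quotient {G : Type u} [Group G] [Finite G] (h : PairCond G) (N : Subgroup G)
    [N.Normal] : PairCond (G ⧸ N) := by
  rintro p q hp hq hpq x g ⟨a, ha⟩ ⟨b, hb⟩ hd
  obtain ⟨x', rfl, hx'⟩ := CfsgLib.LocalEven.FaithfulModule.exists_lift_prime_pow (QuotientGroup.mk' N)
    (QuotientGroup.mk'_surjective N) hp ha
  obtain ⟨g', rfl, hg'⟩ := CfsgLib.LocalEven.FaithfulModule.exists_lift_prime_pow (QuotientGroup.mk' N)
    (QuotientGroup.mk'_surjective N) hq hb
  refine h p q hp hq hpq x' g' hx' hg' (hd.trans ?_)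
  rw [← map_inv, ← map_mul, ← map_mul, ← MonoidHom.map_zpowers, ← MonoidHom.map_zpowers,
    ← Subgroup.map_sup]
  exact card_map_dvd _ _

/-- A supersolvable group has a self-centralizing normal abelian subgroup. -/
theorem exists_self_centralizing {H : Type u} [Group H] [Finite H] (hH : Cfsg.IsSupersolvable H) :
    ∃ A : Subgroup H, A.Normal ∧ IsMulCommutative A ∧ centralizer (A : Set H) ≤ A := by
  obtain ⟨A, hA⟩ := ({A : Subgroup H | A.Normal ∧ IsMulCommutative A}).toFinite.exists_maximal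
    ⟨⊥, inferInstance, inferInstance⟩
  obtain ⟨hAn, hAc⟩ := hA.prop
  refine ⟨A, hAn, hAc, ?_⟩
  haveI := hAn
  haveI := hAc
  by_contra hle
  set C := centralizer (A : Set H)
  haveI hCn : C.Normal := inferInstance
  have hne : C.map (QuotientGroup.mk' A) ≠ ⊥ := by
    rw [Ne, Subgroup.map_eq_bot_iff, QuotientGroup.ker_mk']; exact hle
  obtain ⟨r, B', hr, hB'n, hB'C, hB'c⟩ := Cfsg.Agent.S0579.exists_prime_normal_le
    (CfsgLib.Supersolvable.quotient hH A) (hCn.map _ (QuotientGroup.mk'_surjective A)) hne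
  haveI : IsCyclic B' := CfsgLib.Supersolvable.isCyclic_of_card_prime hr hB'c
  obtain ⟨⟨bb, hbb⟩, hgen⟩ := IsCyclic.exists_generator (α := B')
  obtain ⟨b, hbC, rfl⟩ := hB'C hbb
  set B := B'.comap (QuotientGroup.mk' A) with hB
  have hbA : ∀ a ∈ A, a * b = b * a := fun a ha => mem_centralizer_iff.1 hbC a ha
  have hBdec : ∀ z ∈ B, ∃ k : ℤ, ∃ a ∈ A, z = b ^ k * a := by
    intro z hz
    obtain ⟨k, hk⟩ := hgen ⟨QuotientGroup.mk' A z, hz⟩
    refine ⟨k, (b ^ k)⁻¹ * z, ?_, by group⟩
    have hk' := congrArg Subtype.val hk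
    simp only [SubgroupClass.coe_zpow] at hk'
    rw [← QuotientGroup.eq_one_iff, ← QuotientGroup.mk'_apply, map_mul, map_inv, map_zpow]
    rw [inv_mul_eq_one]
    exact hk'
  have hBc : IsMulCommutative B := by
    refine ⟨⟨fun u v => Subtype.ext ?_⟩⟩
    obtain ⟨i, a, ha, hu⟩ := hBdec u u.2
    obtain ⟨j, c, hc, hv⟩ := hBdec v v.2
    show (u : H) * v = v * u
    have h1 : Commute a c := congrArg Subtype.val (mul_comm' (⟨a, ha⟩ : A) ⟨c, hc⟩)
    have h2 : Commute a b := hbA a ha
    have h3 : Commute c b := hbA c hc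
    rw [hu, hv]
    exact (((Commute.refl b).zpow_zpow i j).mul_right (h3.zpow_right i).symm).mul_left
      ((h2.zpow_right j).mul_right h1)
  haveI : B.Normal := hB'n.comap _
  have hAB : A ≤ B := fun a ha => by
    rw [hB, mem_comap, QuotientGroup.mk'_apply, (QuotientGroup.eq_one_iff a).2 ha]; exact one_mem _
  have hBA : B ≤ A := hA.le_of_ge ⟨inferInstance, hBc⟩ hAB
  refine CfsgLib.Supersolvable.ne_bot_of_card_prime hr hB'c ((eq_bot_iff_forall _).2 fun z hz => ?_)
  obtain ⟨w, rfl⟩ := QuotientGroup.mk'_surjective A z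
  exact (QuotientGroup.eq_one_iff w).2 (hBA hz)

theorem main (n : ℕ) : ∀ (G : Type u) [Group G] [Finite G], Nat.card G = n → PairCond G →
    Cfsg.IsSupersolvable G := by
  induction n using Nat.strong_induction_on with
  | _ n ih =>
  intro G _ _ hn hG
  by_contra hns
  rcases subsingleton_or_nontrivial G with hs | hnt
  · exact hns CfsgLib.Supersolvable.of_subsingleton
  have hsub : ∀ H : Subgroup G, H ≠ ⊤ → Cfsg.IsSupersolvable H := fun H hH =>
    ih _ (hn ▸ (card_le_card_group H).lt_of_ne fun h => hH (eq_top_of_card_eq H h)) H rfl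
      (pairCond_subgroup hG H)
  have hquo : ∀ (N : Subgroup G) [N.Normal], N ≠ ⊥ → Cfsg.IsSupersolvable (G ⧸ N) := fun N _ hN =>
    ih _ (hn ▸ CfsgLib.Supersolvable.card_quotient_lt hN) (G ⧸ N) rfl (pairCond_quotient hG N)
  -- solvability
  haveI hsolv : Group.IsSolvable G := by
    set p := (Nat.card G).minFac
    have hp : p.Prime := Nat.minFac_prime (Finite.one_lt_card.ne')
    haveI := Fact.mk hp
    have hmin : ∀ q : ℕ, q.Prime → q ∣ Nat.card G → p ≤ q := fun q hq hqd =>
      Nat.minFac_le_of_dvd hq.two_le hqd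
    have aux : ∀ N : Subgroup G, N.Normal → N ≠ ⊥ → Group.IsSolvable N → Group.IsSolvable G :=
      fun N hN hNb hNs => by
        haveI := hN; haveI := hNs
        haveI := CfsgLib.Supersolvable.isSolvable (hquo N hNb)
        exact Group.isSolvable_of_ker_le_range N.subtype (QuotientGroup.mk' N) (by simp)
    by_cases hF : CfsgLib.Transfer.FrobeniusCond p G
    · have h1 := CfsgLib.Transfer.hasNormalPComplement_iff.1
        (CfsgLib.Transfer.hasNormalPComplement_of_frobeniusCond hF)
      haveI hRn := CfsgLib.Transfer.pResidual_normal (G := G) (p := p)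
      by_cases hRb : Cfsg.pResidual p G = ⊥
      · have hGp : IsPGroup p G := fun g => by
          obtain ⟨k, hk⟩ := CfsgLib.Transfer.exists_pow_mem_pResidual (p := p) g
          rw [hRb, mem_bot] at hk
          exact ⟨k, hk⟩
        haveI := hGp.isNilpotent
        infer_instance
      · refine aux _ hRn hRb (CfsgLib.Supersolvable.isSolvable (hsub _ fun h => h1 ?_))
        rw [h, card_top]
        exact Nat.minFac_dvd _
    · simp only [CfsgLib.Transfer.FrobeniusCond, not_forall] at hF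
      obtain ⟨Q, hQ, g, hg, hgc, hgC⟩ := hF
      have hQb : Q ≠ ⊥ := fun h => hgC (mem_centralizer_iff.2 fun v hv => by
        rw [SetLike.mem_coe, h, mem_bot] at hv; simp [hv])
      by_cases htop : normalizer (Q : Set G) = ⊤
      · haveI := hQ.isNilpotent
        exact aux Q (normalizer_eq_top_iff.1 htop) hQb inferInstance
      exfalso
      have hF' := CfsgLib.Transfer.frobeniusCond_of_hasNormalPComplement
        (npc_of_supersolvable (p := p) _ _ rfl (hsub _ htop) fun q hq hqd =>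
          hmin q hq (hqd.trans (card_subgroup_dvd_card _)))
      have hgn : (⟨g, hg⟩ : normalizer (Q : Set G)) ∈
          normalizer ((Q.subgroupOf (normalizer (Q : Set G)) : Subgroup _) : Set _) := by
        rw [mem_normalizer_iff]
        intro z
        simp only [mem_subgroupOf, Subgroup.coe_mul, Subgroup.coe_inv]
        exact mem_normalizer_iff.1 hg z
      have h2 := mem_centralizer_iff.1 (hF' _ hQ.comap_subtype _ hgn (by rwa [orderOf_mk]))
      exact hgC (mem_centralizer_iff.2 fun v hv =>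
        congrArg Subtype.val (h2 ⟨v, le_normalizer hv⟩ hv))
  -- a minimal normal subgroup
  obtain ⟨N, hN⟩ := CfsgLib.Structure.exists_isMinNormal (G := G)
  have hNb := hN.1
  haveI hNn := hN.2.1
  haveI := (nontrivial_iff_ne_bot N).2 hNb
  have hNc : IsMulCommutative N := by
    rcases hN.2.2 _ (commutator_normal N N) (commutator_le_self N) with h | h
    · exact le_centralizer_iff_isMulCommutative.1 (commutator_eq_bot_iff_le_centralizer.1 h)
    · haveI : Group.IsPerfect N := Subgroup.isPerfect_iff.mpr h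
      exact absurd (inferInstance : Group.IsSolvable N) (Group.IsPerfect.not_isSolvable N)
  have hab : ∀ a ∈ N, ∀ b ∈ N, a * b = b * a := fun a ha b hb =>
    congrArg Subtype.val (hNc.is_comm.comm (⟨a, ha⟩ : N) ⟨b, hb⟩)
  obtain ⟨q, hq, -, hexp'⟩ := hN.exponent_prime hNc
  have hexp : ∀ a ∈ N, a ^ q = 1 := fun a ha => hexp' a ha
  haveI := Fact.mk hq
  -- a maximal subgroup avoiding `N`
  obtain ⟨M, hM, hNM⟩ : ∃ M : Subgroup G, IsCoatom M ∧ ¬ N ≤ M := by
    by_contra hc
    push Not at hc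
    refine hns (Cfsg.Agent.S0579.result fun M hM => ?_)
    have hker : (QuotientGroup.mk' N).ker ≤ M := by rw [QuotientGroup.ker_mk']; exact hc M hM
    have hcm : (M.map (QuotientGroup.mk' N)).comap (QuotientGroup.mk' N) = M := by
      rw [comap_map_eq, sup_eq_left.2 hker]
    have hco : IsCoatom (M.map (QuotientGroup.mk' N)) := by
      refine ⟨fun h => hM.1 (by rw [← hcm, h, comap_top]), fun L hL => ?_⟩
      have h1 : M < L.comap (QuotientGroup.mk' N) := by
        rw [← hcm]
        exact (comap_lt_comap_of_surjective (QuotientGroup.mk'_surjective N)).2 hL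
      rw [← map_comap_eq_self_of_surjective (QuotientGroup.mk'_surjective N) L, hM.2 _ h1,
        map_top_of_surjective _ (QuotientGroup.mk'_surjective N)]
    have h2 := CfsgLib.Supersolvable.prime_index_of_isCoatom (hquo N hNb) hco
    rwa [index_map_eq _ (QuotientGroup.mk'_surjective N) hker] at h2
  have hsup : M ⊔ N = ⊤ := hM.2 _ (lt_of_le_of_ne le_sup_left fun h => hNM (h ▸ le_sup_right))
  have hdec : ∀ g : G, ∃ m ∈ M, ∃ v ∈ N, g = m * v := fun g => by
    have hg : g ∈ ((M ⊔ N : Subgroup G) : Set G) := by rw [hsup]; trivial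
    rw [mul_normal] at hg
    obtain ⟨m, hm, v, hv, rfl⟩ := hg
    exact ⟨m, hm, v, hv, rfl⟩
  have hirr : ∀ U : Subgroup G, U ≤ N → U ≠ ⊥ → (∀ m ∈ M, ∀ u ∈ U, m * u * m⁻¹ ∈ U) → U = N := by
    intro U hU hUb hinv
    refine (hN.2.2 U ⟨fun u hu g => ?_⟩ hU).resolve_left hUb
    obtain ⟨m, hm, v, hv, rfl⟩ := hdec g
    rw [show m * v * u * (m * v)⁻¹ = m * (v * u * v⁻¹) * m⁻¹ by group, hab v hv u (hU hu),
      mul_inv_cancel_right]
    exact hinv m hm u hu
  have hinf : M ⊓ N = ⊥ := by
    by_contra h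
    exact hNM ((hirr _ inf_le_right h fun m hm u hu =>
      ⟨M.mul_mem (M.mul_mem hm hu.1) (M.inv_mem hm), hNn.conj_mem u hu.2 m⟩).ge.trans inf_le_left)
  have huniq : ∀ L : Subgroup G, L.Normal → L ≠ ⊥ → N ≤ L := by
    intro L hL hLb
    by_contra hle
    haveI := hL
    have hLN : L ⊓ N = ⊥ := by
      rcases hN.2.2 (L ⊓ N) inferInstance inf_le_right with h | h
      · exact h
      · exact absurd (h ▸ inf_le_left) hle
    refine hns (CfsgLib.Supersolvable.of_injective
      (CfsgLib.Supersolvable.prod (hquo L hLb) (hquo N hNb))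
      ((QuotientGroup.mk' L).prod (QuotientGroup.mk' N)) ?_)
    rw [injective_iff_map_eq_one]
    intro g hg
    have hg1 := congrArg Prod.fst hg
    have hg2 := congrArg Prod.snd hg
    simp only [MonoidHom.prod_apply, QuotientGroup.mk'_apply, QuotientGroup.eq_one_iff,
      Prod.fst_one, Prod.snd_one] at hg1 hg2
    exact mem_bot.1 (hLN ▸ (⟨hg1, hg2⟩ : g ∈ L ⊓ N))
  have hfaith : ∀ m ∈ M, (∀ v ∈ N, m * v = v * m) → m = 1 := by
    intro m hm hmc
    let K : Subgroup G := M ⊓ centralizer (N : Set G)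
    have hKn : K.Normal := ⟨fun k hk g => by
      obtain ⟨a, ha, v, hv, rfl⟩ := hdec g
      have h1 : v * k * v⁻¹ = k := by
        rw [mem_centralizer_iff.1 hk.2 v hv, mul_inv_cancel_right]
      rw [show a * v * k * (a * v)⁻¹ = a * (v * k * v⁻¹) * a⁻¹ by group, h1]
      exact ⟨M.mul_mem (M.mul_mem ha hk.1) (M.inv_mem ha),
        (inferInstance : (centralizer (N : Set G)).Normal).conj_mem k hk.2 a⟩⟩
    by_contra hm1
    refine hNM ((huniq K hKn fun h => hm1 ?_).trans inf_le_left)
    exact mem_bot.1 (h ▸ (⟨hm, mem_centralizer_iff.2 fun v hv => (hmc v hv).symm⟩ : m ∈ K))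
  have hMs : Cfsg.IsSupersolvable M := hsub M hM.1
  obtain ⟨A', hA'n, hA'c, hA'C⟩ := exists_self_centralizing hMs
  set A := A'.map M.subtype with hA
  have hAM : A ≤ M := map_subtype_le A'
  have hAab : ∀ a ∈ A, ∀ b ∈ A, a * b = b * a := by
    rintro _ ⟨a, ha, rfl⟩ _ ⟨b, hb, rfl⟩
    exact congrArg (fun z : A' => ((z : M) : G)) (mul_comm' (⟨a, ha⟩ : A') ⟨b, hb⟩)
  have hMA : ∀ m ∈ M, ∀ a ∈ A, m * a * m⁻¹ ∈ A := by
    rintro m hm _ ⟨a, ha, rfl⟩
    exact ⟨_, hA'n.conj_mem a ha ⟨m, hm⟩, rfl⟩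
  have hsc : ∀ m ∈ M, (∀ a ∈ A, m * a = a * m) → m ∈ A := fun m hm hmc =>
    ⟨⟨m, hm⟩, hA'C (mem_centralizer_iff.2 fun a ha =>
      Subtype.ext (hmc a ⟨a, ha, rfl⟩).symm), rfl⟩
  have hqA : ¬ q ∣ Nat.card A := by
    intro hd
    obtain ⟨a, ha⟩ := exists_prime_orderOf_dvd_card' (G := A) q hd
    let T : Subgroup G :=
      { carrier := {b | b ∈ A ∧ b ^ q = 1}
        one_mem' := ⟨one_mem A, one_pow q⟩
        mul_mem' := fun {b d} hb hd => ⟨mul_mem hb.1 hd.1, by
          rw [(show Commute b d from hAab b hb.1 d hd.1).mul_pow, hb.2, hd.2, one_mul]⟩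
        inv_mem' := fun {b} hb => ⟨inv_mem hb.1, by rw [inv_pow, hb.2, inv_one]⟩ }
    have hTn : T ≤ normalizer (N : Set G) := le_normalizer_of_normal
    have hQ : IsPGroup q (T ⊔ N : Subgroup G) :=
      IsPGroup.to_sup_of_normal_right'
        (fun b => ⟨1, Subtype.ext (by rw [pow_one]; exact b.2.2)⟩)
        (fun b => ⟨1, Subtype.ext (by simpa using hexp b b.2)⟩) hTn
    obtain ⟨z, hzN, hzc, hz1⟩ := CfsgLib.Techniques.KInf.exists_mem_center hQ
      (N.subgroupOf (T ⊔ N)) (fun h => hNb (by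
        rwa [subgroupOf_eq_bot, disjoint_iff, inf_eq_left.2 le_sup_right] at h))
    have hT : ∀ b ∈ T, b * (z : G) = z * b := fun b hb =>
      congrArg Subtype.val (mem_center_iff.1 hzc ⟨b, mem_sup_left hb⟩)
    have hU : N ⊓ centralizer (T : Set G) = N := by
      refine hirr _ inf_le_left (fun h => hz1 (Subtype.ext ?_)) fun m hm u hu =>
        ⟨hNn.conj_mem u hu.1 m, mem_centralizer_iff.2 fun b hb => ?_⟩
      · exact mem_bot.1 (h ▸ (⟨hzN, mem_centralizer_iff.2 fun b hb => hT b hb⟩ :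
          (z : G) ∈ N ⊓ centralizer (T : Set G)))
      · have hb' : m⁻¹ * b * m ∈ T := by
          refine ⟨by simpa using hMA m⁻¹ (inv_mem hm) b hb.1, ?_⟩
          rw [show m⁻¹ * b * m = m⁻¹ * b * m⁻¹⁻¹ by group, conj_pow, hb.2]; group
        calc b * (m * u * m⁻¹) = m * ((m⁻¹ * b * m) * u) * m⁻¹ := by group
          _ = m * (u * (m⁻¹ * b * m)) * m⁻¹ := by rw [mem_centralizer_iff.1 hu.2 _ hb']
          _ = m * u * m⁻¹ * b := by group
    have ha' : (a : G) ∈ T := ⟨a.2, by rw [← SubmonoidClass.coe_pow, ← ha, pow_orderOf_eq_one]; rfl⟩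
    have h1 := hfaith a (hAM a.2) fun v hv => by
      have hv' : v ∈ N ⊓ centralizer (T : Set G) := hU.symm ▸ hv
      exact mem_centralizer_iff.1 hv'.2 a ha'
    have h2 : a = 1 := Subtype.ext h1
    rw [h2, orderOf_one] at ha
    exact hq.ne_one ha.symm
  obtain ⟨v, hv, hv1, hvM⟩ :=
    exists_invariant_zpowers hab hG hq hexp hNb hAM hAab hMA hsc hqA hfaith hirr
  have hNe : zpowers v = N := hirr _ (zpowers_le.2 hv) (fun h => hv1 (zpowers_eq_bot.1 h))
    fun m hm u hu => by
      obtain ⟨i, rfl⟩ := hu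
      show m * v ^ i * m⁻¹ ∈ zpowers v
      rw [← conj_zpow]
      exact zpow_mem (hvM m hm) i
  haveI : IsCyclic N := hNe ▸ inferInstance
  exact hns (CfsgLib.Supersolvable.of_cyclic_normal_quotient N (hquo N hNb))

/-- Let G be a finite group such that for every pair of distinct primes p and q, every p-element x and every q-element g of G, the order of the subgroup generated by x and g x g⁻¹ is not divisible by q². Then G is supersolvable. -/
theorem result {G : Type*} [Group G] [Finite G]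
    (h : ∀ (p q : ℕ), p.Prime → q.Prime → p ≠ q → ∀ (x g : G), (∃ a : ℕ, orderOf x = p ^ a) → (∃ b : ℕ, orderOf g = q ^ b) →
      ¬ q ^ 2 ∣ Nat.card ↥(Subgroup.zpowers x ⊔ Subgroup.zpowers (g * x * g⁻¹))) :
    Cfsg.IsSupersolvable G := by
  exact main _ G rfl h

end Cfsg.Agent.S3033
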