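import Cfsg.Statements.S3036
import Cfsg.Agent.Lib.LocalEvenSix.Lattice
import Mathlib.GroupTheory.Subgroup.Simple
import Mathlib.Data.Set.Finite.Lemmas

set_option autoImplicit false
open Cfsg

namespace Cfsg.Agent.S3036

open Subgroup CfsgLib.LocalEvenSix

/-- The Chermak–Delgado measure. -/
noncomputable def cdm {G : Type*} [Group G] (A : Subgroup G) : ℕ :=
  Nat.card A * Nat.card ↥(centralizer (A : Set G))

theorem cdm_mul_le {G : Type*} [Group G] [Finite G] (A B : Subgroup G) :
    cdm A * cdm B ≤ cdm (A ⊔ B) * cdm (A ⊓ B) := by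
  have h1 := card_mul_card_le A B
  have h2 := card_centralizer_mul_le ⊤ A B
  simp only [top_inf_eq] at h2
  calc cdm A * cdm B = (Nat.card A * Nat.card B) *
        (Nat.card ↥(centralizer (A : Set G)) * Nat.card ↥(centralizer (B : Set G))) := by
        unfold cdm; ring
    _ ≤ _ := Nat.mul_le_mul h1 h2
    _ = _ := by unfold cdm; ring

theorem cdm_map {G : Type*} [Group G] [Finite G] (A : Subgroup G) (g : G) :
    cdm (A.map (MulAut.conj g).toMonoidHom) = cdm A := by
  unfold cdm
  rw [← centralizer_map_mulEquiv, card_map_of_injective (MulAut.conj g).injective,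
    card_map_of_injective (MulAut.conj g).injective]


/-- Let G be a finite non-abelian simple group and A a proper nontrivial subgroup of G. Then |G| > |A| · |C_G(A)|. In particular |G| > |A|² for every nontrivial abelian subgroup A of G. -/
theorem result {G : Type*} [Group G] [Finite G] [IsSimpleGroup G] (hG : ¬ IsMulCommutative G) (A : Subgroup G) (hA1 : A ≠ ⊥) (hA2 : A ≠ ⊤) : Nat.card A * Nat.card ↥(Subgroup.centralizer (A : Set G)) < Nat.card G := by
  classical
  obtain ⟨T, -, hT⟩ := Set.exists_max_image (Set.univ : Set (Subgroup G)) cdm (Set.toFinite _) ⟨⊤, trivial⟩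
  have hmax : ∀ X : Subgroup G, cdm X ≤ cdm T := fun X => hT X trivial
  set m := cdm T
  have hm0 : 0 < m := lt_of_lt_of_le (by unfold cdm; exact Nat.mul_pos Nat.card_pos Nat.card_pos) (hmax (⊥ : Subgroup G))
  have hsup : ∀ X Y : Subgroup G, cdm X = m → cdm Y = m → cdm (X ⊔ Y) = m ∧ cdm (X ⊓ Y) = m := by
    intro X Y hX hY
    have h := cdm_mul_le X Y
    rw [hX, hY] at h
    have a := hmax (X ⊔ Y)
    have b := hmax (X ⊓ Y)
    constructor
    · exact le_antisymm a (Nat.le_of_mul_le_mul_right (h.trans (Nat.mul_le_mul_left _ b)) hm0)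
    · exact le_antisymm b (Nat.le_of_mul_le_mul_left (h.trans (Nat.mul_le_mul_right _ a)) hm0)
  have hnormal : ∀ M : Subgroup G, (∀ g : G, M.map (MulAut.conj g).toMonoidHom ≤ M) → M.Normal :=
    fun M h => ⟨fun x hx g => h g ⟨x, hx, by simp⟩⟩
  have hZ : Nat.card ↥(centralizer ((⊤ : Subgroup G) : Set G)) = 1 := by
    rw [Subgroup.coe_top, centralizer_univ]
    rcases Subgroup.Normal.eq_bot_or_eq_top (H := center G) inferInstance with h | h
    · simp [h]
    · exact absurd (⟨⟨fun a b => (Subgroup.mem_center_iff.mp (h ▸ mem_top b) a)⟩⟩) hG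
  have htop : cdm (⊤ : Subgroup G) = Nat.card G := by
    rw [cdm, hZ, mul_one, Nat.card_congr topEquiv.toEquiv]
  have hbot : cdm (⊥ : Subgroup G) = Nat.card G := by
    have : centralizer ((⊥ : Subgroup G) : Set G) = ⊤ :=
      eq_top_iff.mpr fun x _ => mem_centralizer_iff.mpr (by simp)
    simp [cdm, this, Nat.card_congr topEquiv.toEquiv]
  have hm : m = Nat.card G := by
    obtain ⟨M, hM, hMmin⟩ := Set.exists_min_image {X : Subgroup G | cdm X = m}
      (fun X => Nat.card X) (Set.toFinite _) ⟨T, rfl⟩
    have hle : ∀ X : Subgroup G, cdm X = m → M ≤ X := fun X hX => by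
      have h := hMmin (M ⊓ X) (hsup M X hM hX).2
      exact inf_eq_left.mp (Subgroup.eq_of_le_of_card_ge inf_le_left h)
    have : M.Normal := hnormal M fun g => by
      have h1 := hle _ ((cdm_map M g).trans hM)
      exact (Subgroup.eq_of_le_of_card_ge h1
        (card_map_of_injective (MulAut.conj g).injective).le).ge
    rcases this.eq_bot_or_eq_top with h | h
    · rw [← hM, h, hbot]
    · rw [← hM, h, htop]
  show cdm A < Nat.card G
  refine lt_of_le_of_ne (hm ▸ hmax A) fun hA => ?_
  rw [← hm] at hA
  obtain ⟨M, ⟨hM, hMt, hMb⟩, hMmax⟩ := Set.exists_max_image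
    {X : Subgroup G | cdm X = m ∧ X ≠ ⊤ ∧ X ≠ ⊥} (fun X => Nat.card X) (Set.toFinite _)
    ⟨A, hA, hA2, hA1⟩
  have : M.Normal := hnormal M fun g => by
    set N := M.map (MulAut.conj g).toMonoidHom with hN
    have hNm : cdm N = m := (cdm_map M g).trans hM
    have hcardN : Nat.card N = Nat.card M := card_map_of_injective (MulAut.conj g).injective
    rcases eq_or_ne (M ⊔ N) ⊤ with htopS | htopS
    · exfalso
      have hi := (hsup M N hM hNm).2
      have hh := cdm_mul_le M N
      rw [htopS, htop] at hh
      -- all inequalities are equalities, so `|M| |N| = |G| |M ⊓ N|`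
      have h1 := card_mul_card_le M N
      rw [htopS, Nat.card_congr topEquiv.toEquiv] at h1
      have h2 := card_centralizer_mul_le ⊤ M N
      simp only [top_inf_eq, htopS, hZ, mul_one] at h2
      have heq : Nat.card M * Nat.card N = Nat.card G * Nat.card ↥(M ⊓ N) := by
        refine le_antisymm h1 (le_of_mul_le_mul_right ?_ (Nat.card_pos (α := ↥(centralizer ((M ⊓ N : Subgroup G) : Set G)))))
        calc Nat.card G * Nat.card ↥(M ⊓ N) * Nat.card ↥(centralizer ((M ⊓ N : Subgroup G) : Set G))
            = Nat.card G * cdm (M ⊓ N) := by rw [cdm]; ring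
          _ = cdm M * cdm N := by rw [hi, hM, hNm, hm]
          _ = Nat.card M * Nat.card N *
              (Nat.card ↥(centralizer (M : Set G)) * Nat.card ↥(centralizer (N : Set G))) := by
              rw [cdm, cdm]; ring
          _ ≤ _ := Nat.mul_le_mul_left _ h2
      have hrel : M.relIndex N = M.index := by
        have e1 := card_mul_relIndex' (inf_le_right : M ⊓ N ≤ N)
        rw [inf_relIndex_right] at e1
        have e2 := M.card_mul_index
        rw [← e1, ← e2] at heq
        have : Nat.card M * Nat.card ↥(M ⊓ N) * M.relIndex N = Nat.card M * Nat.card ↥(M ⊓ N) * M.index := by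
          rw [mul_assoc, heq]; ring
        exact Nat.eq_of_mul_eq_mul_left (Nat.mul_pos Nat.card_pos Nat.card_pos) this
      obtain ⟨n, hn, a, ha, hg⟩ := exists_mul_of_relIndex_eq_index M N hrel g
      obtain ⟨b, hb, rfl⟩ := hn
      have hg' : g = g * b * g⁻¹ * a := by simpa using hg
      have hga : g = a * b := by
        have h1 : b * g⁻¹ * a = 1 := by
          have := congrArg (g⁻¹ * ·) hg'
          simpa [mul_assoc] using this.symm
        calc g = a * (b * g⁻¹ * a)⁻¹ * b := by group
          _ = a * b := by rw [h1]; group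
      have hgM : g ∈ M := hga ▸ mul_mem ha hb
      have hNM : N ≤ M := by
        rintro _ ⟨x, hx, rfl⟩
        simpa using mul_mem (mul_mem hgM hx) (inv_mem hgM)
      rw [sup_eq_left.mpr hNM] at htopS
      exact hMt htopS
    · have hne : M ⊔ N ≠ ⊥ := fun h => hMb (le_bot_iff.mp (h ▸ le_sup_left))
      have := hMmax (M ⊔ N) ⟨(hsup M N hM hNm).1, htopS, hne⟩
      exact le_sup_right.trans (Subgroup.eq_of_le_of_card_ge le_sup_left this).ge
  rcases this.eq_bot_or_eq_top with h | h <;> contradiction

end Cfsg.Agent.S3036
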