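import Cfsg.Statements.S3037
import Cfsg.Agent.Lib.LocalEvenSix.Lattice
import Mathlib.Data.Set.Finite.Lemmas
import Mathlib.Analysis.SpecialFunctions.Pow.Real

set_option autoImplicit false
open Cfsg

namespace Cfsg.Agent.S3037

/-- Let V and G be subgroups of a finite group with V an elementary abelian p-group (p prime) on which G acts faithfully and irreducibly by conjugation: G normalizes V, G ∩ C(V) = 1, and the only subgroups of V normalized by G are 1 and V. If for some nontrivial subgroup A of G and some real α > 0 one has |V| ≤ |A|^α · |C_V(A)|, then |V| ≤ |G|^α. -/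
theorem result {X : Type*} [Group X] [Finite X] {p : ℕ} [Fact p.Prime] (V G : Subgroup X) (hV : Cfsg.IsElementaryAbelian p V)
    (hGV : G ≤ Subgroup.normalizer (V : Set X)) (hfaith : G ⊓ Subgroup.centralizer (V : Set X) = ⊥)
    (hirr : ∀ W : Subgroup X, W ≤ V → G ≤ Subgroup.normalizer (W : Set X) → W = ⊥ ∨ W = V)
    (A : Subgroup X) (hA : A ≤ G) (hA1 : A ≠ ⊥) (α : ℝ) (hα : 0 < α)
    (hbig : (Nat.card V : ℝ) ≤ (Nat.card A : ℝ) ^ α * (Nat.card ↥(V ⊓ Subgroup.centralizer (A : Set X)) : ℝ)) :
    (Nat.card V : ℝ) ≤ (Nat.card G : ℝ) ^ α := by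
  classical
  let f : Subgroup X → ℝ := fun B =>
    (Nat.card B : ℝ) ^ α * (Nat.card ↥(V ⊓ Subgroup.centralizer (B : Set X)) : ℝ)
  have hCbot : V ⊓ Subgroup.centralizer ((⊥ : Subgroup X) : Set X) = V :=
    inf_eq_left.mpr fun x _ => Subgroup.mem_centralizer_iff.mpr (by simp)
  have hfbot : f ⊥ = (Nat.card V : ℝ) := by
    simp only [f, hCbot, Subgroup.card_bot, Nat.cast_one, Real.one_rpow, one_mul]
  have hfpos : ∀ B, 0 < f B := fun B =>
    mul_pos (Real.rpow_pos_of_pos (by exact_mod_cast Nat.card_pos) _) (by exact_mod_cast Nat.card_pos)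
  have hmul : ∀ B C, f B * f C ≤ f (B ⊔ C) * f (B ⊓ C) := by
    intro B C
    have h1 : ((Nat.card B : ℝ) * Nat.card C) ≤ (Nat.card ↥(B ⊔ C) : ℝ) * Nat.card ↥(B ⊓ C) := by
      exact_mod_cast CfsgLib.LocalEvenSix.card_mul_card_le B C
    have h1' := Real.rpow_le_rpow (by positivity) h1 hα.le
    rw [Real.mul_rpow (by positivity) (by positivity), Real.mul_rpow (by positivity) (by positivity)] at h1'
    have h2 : ((Nat.card ↥(V ⊓ Subgroup.centralizer (B : Set X)) : ℝ) * Nat.card ↥(V ⊓ Subgroup.centralizer (C : Set X))) ≤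
        (Nat.card ↥(V ⊓ Subgroup.centralizer ((B ⊔ C : Subgroup X) : Set X)) : ℝ) *
          Nat.card ↥(V ⊓ Subgroup.centralizer ((B ⊓ C : Subgroup X) : Set X)) := by
      rw [mul_comm (Nat.card ↥(V ⊓ Subgroup.centralizer ((B ⊔ C : Subgroup X) : Set X)) : ℝ)]
      exact_mod_cast CfsgLib.LocalEvenSix.card_centralizer_mul_le V B C
    calc f B * f C = ((Nat.card B : ℝ) ^ α * (Nat.card C : ℝ) ^ α) *
          ((Nat.card ↥(V ⊓ Subgroup.centralizer (B : Set X)) : ℝ) * Nat.card ↥(V ⊓ Subgroup.centralizer (C : Set X))) := by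
          simp only [f]; ring
      _ ≤ _ := mul_le_mul h1' h2 (by positivity) (by positivity)
      _ = f (B ⊔ C) * f (B ⊓ C) := by simp only [f]; ring
  obtain ⟨T, hTG, hT⟩ := Set.exists_max_image {B : Subgroup X | B ≤ G} f (Set.toFinite _) ⟨A, hA⟩
  obtain ⟨M, ⟨hMG, hM⟩, hMmax⟩ := Set.exists_max_image {B : Subgroup X | B ≤ G ∧ f B = f T}
    (fun B => Nat.card B) (Set.toFinite _) ⟨T, hTG, rfl⟩
  have habs : ∀ B, B ≤ G → f B = f T → B ≤ M := by
    intro B hBG hB
    have h := hmul M B
    rw [hM, hB] at h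
    have a := hT (M ⊔ B) (sup_le hMG hBG)
    have b := hT (M ⊓ B) (inf_le_left.trans hMG)
    have heq : f (M ⊔ B) = f T := by
      refine le_antisymm a (le_of_mul_le_mul_right (h.trans ?_) (hfpos T))
      exact mul_le_mul_of_nonneg_left b (hfpos _).le
    have := hMmax (M ⊔ B) ⟨sup_le hMG hBG, heq⟩
    exact le_sup_right.trans (Subgroup.eq_of_le_of_card_ge le_sup_left this).ge
  have hVT : (Nat.card V : ℝ) ≤ f T := hbig.trans (hT A hA)
  have hM1 : M ≠ ⊥ := by
    intro h
    have hfA : f A = f T := by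
      refine le_antisymm (hT A hA) ?_
      rw [← hM, h, hfbot]; exact hbig
    exact hA1 (le_bot_iff.mp (h ▸ habs A hA hfA))
  have hnorm : ∀ g ∈ G, M.map (MulAut.conj g).toMonoidHom = M := by
    intro g hg
    have hc := Subgroup.card_map_of_injective (K := M) (f := (MulAut.conj g).toMonoidHom) (MulAut.conj g).injective
    refine Subgroup.eq_of_le_of_card_ge (habs _ ?_ ?_) hc.ge
    · rintro _ ⟨x, hx, rfl⟩
      simpa using mul_mem (mul_mem hg (hMG hx)) (inv_mem hg)
    · rw [← hM]
      have hV' : V.map (MulAut.conj g).toMonoidHom = V := by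
        ext y
        have := hGV hg
        rw [Subgroup.mem_normalizer_iff] at this
        constructor
        · rintro ⟨x, hx, rfl⟩
          exact (this x).mp hx
        · intro hy
          refine ⟨g⁻¹ * y * g, (this _).mpr (by simpa [mul_assoc] using hy), by simp [mul_assoc]⟩
      have hC : V ⊓ Subgroup.centralizer ((M.map (MulAut.conj g).toMonoidHom : Subgroup X) : Set X) =
          (V ⊓ Subgroup.centralizer (M : Set X)).map (MulAut.conj g).toMonoidHom := by
        rw [Subgroup.map_inf _ _ _ (MulAut.conj g).injective, hV',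
          CfsgLib.LocalEvenSix.centralizer_map_mulEquiv]
      simp only [f, hC]
      rw [Subgroup.card_map_of_injective (K := M) (f := (MulAut.conj g).toMonoidHom) (MulAut.conj g).injective,
        Subgroup.card_map_of_injective (K := V ⊓ Subgroup.centralizer (M : Set X))
          (f := (MulAut.conj g).toMonoidHom) (MulAut.conj g).injective]
  set W := V ⊓ Subgroup.centralizer (M : Set X) with hW
  have hWinv : G ≤ Subgroup.normalizer (W : Set X) := by
    intro g hg
    rw [Subgroup.mem_normalizer_iff]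
    intro n
    have hgV := (Subgroup.mem_normalizer_iff.mp (hGV hg)) n
    have hCM : n ∈ Subgroup.centralizer (M : Set X) ↔ g * n * g⁻¹ ∈ Subgroup.centralizer (M : Set X) := by
      conv_rhs => rw [← hnorm g hg, ← CfsgLib.LocalEvenSix.centralizer_map_mulEquiv]
      exact (Subgroup.mem_map_iff_mem (MulAut.conj g).injective).symm
    exact and_congr hgV hCM
  rcases hirr W inf_le_left hWinv with h | h
  · have hfM : f M = (Nat.card M : ℝ) ^ α := by
      simp only [f, ← hW, h, Subgroup.card_bot, Nat.cast_one, mul_one]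
    calc (Nat.card V : ℝ) ≤ (Nat.card M : ℝ) ^ α := by rw [← hfM, hM]; exact hVT
      _ ≤ (Nat.card G : ℝ) ^ α := Real.rpow_le_rpow (by positivity)
          (by exact_mod_cast Nat.le_of_dvd Nat.card_pos (Subgroup.card_dvd_of_le hMG)) hα.le
  · refine absurd (le_bot_iff.mp (hfaith ▸ le_inf hMG ?_)) hM1
    exact Subgroup.le_centralizer_iff.mp (h ▸ inf_le_right)

end Cfsg.Agent.S3037
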