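import Cfsg.Statements.S3049
import Cfsg.Agent.Lib.Isolated.Basic
import Cfsg.Agent.Lib.Components.ComponentAction
import Cfsg.Agent.Lib.Components.Balance
import Cfsg.Agent.Lib.Transfer.NormalComplement
import Cfsg.Agent.Lib.LocalEvenSix.FixSmall
import Cfsg.Agent.Lib.Structure.IndexPowers

set_option autoImplicit false
open Cfsg

namespace Cfsg.Agent.S3049

open Subgroup in
/-- A perfect group of order divisible by `p` in which `p`-elements of order `p` are fixed by the
`p'`-elements normalizing their `p`-subgroups does not exist (`p` odd). -/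
private theorem false_of_fixes_omega {K : Type*} [Group K] [Finite K] {p : ℕ} [Fact p.Prime]
    (hp : p ≠ 2) [Group.IsPerfect K] (hdvd : p ∣ Nat.card K) (P : Sylow p K)
    (h : ∀ u : K, u ∈ (P : Subgroup K) → u ^ p = 1 → ∀ g : K, g * u * g⁻¹ ∈ (P : Subgroup K) →
      g * u * g⁻¹ = u) : False := by
  have hF : CfsgLib.Transfer.FrobeniusCond p K := by
    refine CfsgLib.Transfer.frobeniusCond_of_le_sylow P fun Q hQ g hg hc => ?_
    have hinv : ∀ q ∈ Q, g * q * g⁻¹ ∈ Q := fun q hq => (mem_normalizer_iff.1 hg q).1 hq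
    have := CfsgLib.LocalEvenSix.fixes_of_fixes_small g hc (Nat.card Q) Q rfl (P.2.to_le hQ) hinv
      (fun q hq hq' => mul_inv_eq_iff_eq_mul.1
        (h q (hQ hq) (hq'.resolve_right fun h' => hp h'.1) g (hQ (hinv q hq))))
    exact mem_centralizer_iff.2 fun q hq => (this q hq).symm
  have h1 := CfsgLib.Transfer.hasNormalPComplement_iff.1
    (CfsgLib.Transfer.hasNormalPComplement_of_frobeniusCond hF)
  haveI := CfsgLib.Transfer.pResidual_normal (G := K) (p := p)
  have h2 : IsPGroup p (K ⧸ Cfsg.pResidual p K) :=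
    CfsgLib.Transfer.isPGroup_quotient_of_pResidual_le _ le_rfl
  by_cases htop : Cfsg.pResidual p K = ⊤
  · rw [htop, card_top] at h1
    exact h1 hdvd
  · haveI : Nontrivial (K ⧸ Cfsg.pResidual p K) := QuotientGroup.nontrivial_iff.2 htop
    haveI := Group.IsPerfect.ofSurjective (QuotientGroup.mk'_surjective (Cfsg.pResidual p K))
    exact Group.IsPerfect.not_isNilpotent _ h2.isNilpotent

open Subgroup in
/-- In `p`-rank two no component is centralized by an element of order `p` outside `⟨x⟩`. -/
private theorem false_of_centralized {G : Type*} [Group G] [Finite G] {p : ℕ} [hF : Fact p.Prime]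
    (hp : p ≠ 2) (hrank : Cfsg.PRankLE p 2 G) {x : G} (hx : orderOf x = p)
    (hiso : Cfsg.IsIsolated x) (P : Sylow p G) (hxP : x ∈ (P : Subgroup G)) {K : Subgroup G}
    (hK : Cfsg.IsComponent K) (hdvd : p ∣ Nat.card K) {z : G} (hz : orderOf z = p)
    (hxz : Commute x z) (hzK : ∀ k ∈ K, Commute z k) (hne : x ∉ zpowers z) : False := by
  obtain ⟨S, hS⟩ : ∃ S : Sylow p K, (S : Subgroup K) = (P : Subgroup G).subgroupOf K :=
    ⟨(P.2.comap_subtype (K := K)).toSylow fun hd => P.not_dvd_index
      (hd.trans (CfsgLib.IndexPowers.relIndex_dvd_index_of_isSubnormal hK.1 _)),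
      IsPGroup.toSylow_coe _ _⟩
  haveI := hK.2.1
  refine false_of_fixes_omega hp hdvd S fun u hu hup g hg => ?_
  rw [hS, mem_subgroupOf] at hu hg
  have hxu : Commute x (u : G) := CfsgLib.Isolated.commute_of_mem_pSubgroup hiso P.2 hxP hu
  set D : Subgroup G := closure {x, z} with hD
  set A : Subgroup G := closure {x, z, (u : G)} with hA
  have hcomm : ∀ a ∈ ({x, z, (u : G)} : Set G), ∀ b ∈ ({x, z, (u : G)} : Set G), a * b = b * a := by
    intro a ha b hb
    rcases ha with rfl | rfl | rfl <;> rcases hb with rfl | rfl | rfl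
    all_goals first
      | rfl
      | exact hxz.eq | exact hxz.eq.symm | exact hxu.eq | exact hxu.eq.symm
      | exact (hzK _ u.2).eq | exact (hzK _ u.2).eq.symm
  haveI hAc : IsMulCommutative A := Subgroup.isMulCommutative_closure hcomm
  have hAp : ∀ a ∈ A, a ^ p = 1 := by
    intro a ha
    induction ha using closure_induction with
    | mem y hy =>
      rcases hy with rfl | rfl | rfl
      · rw [← hx, pow_orderOf_eq_one]
      · rw [← hz, pow_orderOf_eq_one]
      · exact_mod_cast hup
    | one => exact one_pow p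
    | mul a b ha hb iha ihb =>
      have hab : Commute a b :=
        congrArg Subtype.val (mul_comm' (⟨a, ha⟩ : A) ⟨b, hb⟩)
      rw [hab.mul_pow, iha, ihb, one_mul]
    | inv a ha iha => rw [inv_pow, iha, inv_one]
  have hDA : D ≤ A := closure_mono (by
    intro a ha; rcases ha with rfl | rfl <;> simp)
  have hlt : zpowers z < D := by
    refine lt_of_le_of_ne ((zpowers_le).2 (subset_closure (by simp))) fun e => hne ?_
    rw [e]; exact subset_closure (by simp)
  have hDp : IsPGroup p D := fun d => ⟨1, Subtype.ext (by simpa using hAp d (hDA d.2))⟩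
  obtain ⟨n, hn⟩ := hDp.exists_card_eq
  have h2n : 2 ≤ n := by
    have h1 : Nat.card (zpowers z) < Nat.card D :=
      lt_of_le_of_ne (card_le_of_le hlt.le) fun e => hlt.ne (eq_of_le_of_card_ge hlt.le e.ge)
    rw [Nat.card_zpowers, hz, hn] at h1
    by_contra h
    have : p ^ n ≤ p ^ 1 := Nat.pow_le_pow_right hF.out.pos (by omega)
    rw [pow_one] at this
    omega
  have hAD : D = A := eq_of_le_of_card_ge hDA ((hrank A hAc hAp).trans
    (hn ▸ Nat.pow_le_pow_right hF.out.pos h2n))
  have huD : (u : G) ∈ D := hAD ▸ subset_closure (by simp)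
  obtain ⟨i, j, hij⟩ : ∃ i j : ℤ, x ^ i * z ^ j = (u : G) := by
    have hle : D ≤ zpowers x ⊔ zpowers z := by
      rw [hD, closure_le]
      rintro a (rfl | rfl)
      · exact mem_sup_left (mem_zpowers _)
      · exact mem_sup_right (mem_zpowers _)
    have hnorm : zpowers x ≤ normalizer (zpowers z : Set G) := by
      refine le_trans ?_ (centralizer_le_normalizer _)
      rw [zpowers_le, mem_centralizer_iff]
      rintro _ ⟨k, rfl⟩
      exact (hxz.zpow_right k).eq.symm
    have h3 := hle huD
    rw [← SetLike.mem_coe, coe_mul_of_left_le_normalizer_right _ _ hnorm] at h3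
    obtain ⟨_, ⟨i, rfl⟩, _, ⟨j, rfl⟩, h4⟩ := h3
    exact ⟨i, j, h4⟩
  apply Subtype.ext
  rw [Subgroup.coe_mul, Subgroup.coe_mul, Subgroup.coe_inv] at hg ⊢
  have hzg : (g : G) * z ^ j * (g : G)⁻¹ = z ^ j :=
    mul_inv_eq_iff_eq_mul.2 (((hzK _ g.2).symm.zpow_right j).eq)
  have h5 : (g : G) * x ^ i * (g : G)⁻¹ = (g : G) * u * (g : G)⁻¹ * (z ^ j)⁻¹ := by
    rw [← hij]
    conv_rhs => arg 2; rw [← hzg]
    group
  have h6 : Commute x ((g : G) * x ^ i * (g : G)⁻¹) := by
    rw [h5]
    exact (CfsgLib.Isolated.commute_of_mem_pSubgroup hiso P.2 hxP hg).mul_right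
      ((hxz.zpow_right j).inv_right)
  have h7 := CfsgLib.Isolated.conj_zpow_eq_of_commute ⟨1, by rw [hx, pow_one]⟩ hiso i (g : G) h6
  rw [← hij]
  calc (g : G) * (x ^ i * z ^ j) * (g : G)⁻¹
      = ((g : G) * x ^ i * (g : G)⁻¹) * ((g : G) * z ^ j * (g : G)⁻¹) := by group
    _ = x ^ i * z ^ j := by rw [h7, hzg]


/-- Let G be a finite group and p an odd prime with O_{p'}(G) = 1. Suppose that G has p-rank at most 2 (no elementary abelian subgroup of order p³) and that some element x of order p is isolated in G (no G-conjugate of x other than x commutes with x) and not central. Then the generalized Fitting subgroup F*(G) is a non-abelian simple group. Since O_{p'}(G) = 1, such an x is not central modulo O_{p'}(G): the hypotheses describe a counterexample to the Z*_p statement in p-rank at most 2. -/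
theorem result {G : Type*} [Group G] [Finite G] {p : ℕ} [Fact p.Prime] (hp : p ≠ 2) (hcore : Cfsg.pPrimeCore p G = ⊥)
    (hrank : Cfsg.PRankLE p 2 G) (x : G) (hx : orderOf x = p) (hiso : Cfsg.IsIsolated x) (hnc : x ∉ Subgroup.center G) :
    IsSimpleGroup ↥(Cfsg.generalizedFittingSubgroup G) ∧ ¬ IsMulCommutative ↥(Cfsg.generalizedFittingSubgroup G) := by
  obtain ⟨P, hP⟩ := (CfsgLib.Isolated.isPGroup_zpowers_of_orderOf
    (x := x) ⟨1, by rw [hx, pow_one]⟩).exists_le_sylow
  have hxP : x ∈ (P : Subgroup G) := hP (Subgroup.mem_zpowers x)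
  haveI hYn : (Cfsg.pCore p G).Normal := Subgroup.sSup_normal _ fun _ h => h.1
  have hYp := CfsgLib.PCore.pCore_isPGroup (p := p) (G := G)
  have hYP := CfsgLib.PCore.pCore_le_sylow P
  have hxY : x ∉ Cfsg.pCore p G := fun h => hnc (Subgroup.mem_center_iff.2 fun g =>
    mul_inv_eq_iff_eq_mul.1 (CfsgLib.Isolated.conj_eq_of_mem_pSubgroup hiso hYp h (hYn.conj_mem x h g)))
  have hxCY : x ∈ Subgroup.centralizer (Cfsg.pCore p G : Set G) :=
    Subgroup.mem_centralizer_iff.2 fun y hy =>
      (CfsgLib.Isolated.commute_of_mem_pSubgroup hiso P.2 hxP (hYP hy)).eq.symm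
  obtain ⟨K, hK⟩ : ∃ K : Subgroup G, Cfsg.IsComponent K := by
    by_contra h
    rw [not_exists] at h
    exact hxY (CfsgLib.Components.centralizer_pCore_le_of_no_component hcore h hxCY)
  have hdvd : ∀ L : Subgroup G, Cfsg.IsComponent L → p ∣ Nat.card L := fun L hL => by
    by_contra h
    have h1 := CfsgLib.PCore.le_pPrimeCore_of_isSubnormal hL.1
      (CfsgLib.PCore.coprime_of_not_dvd_card h)
    rw [hcore, le_bot_iff] at h1
    exact CfsgLib.Components.component_ne_bot hL h1
  have hY : Cfsg.pCore p G = ⊥ := by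
    by_contra h
    haveI := (Subgroup.nontrivial_iff_ne_bot _).2 h
    obtain ⟨k, hk0, hk⟩ := (IsPGroup.nontrivial_iff_card hYp).1 inferInstance
    obtain ⟨z, hz⟩ := exists_prime_orderOf_dvd_card' (G := Cfsg.pCore p G) p
      (hk ▸ dvd_pow_self p hk0.ne')
    refine false_of_centralized hp hrank hx hiso P hxP hK (hdvd K hK) (z := (z : G))
      (by rw [Subgroup.orderOf_coe, hz]) ((Subgroup.mem_centralizer_iff.1 hxCY z z.2).symm)
      (fun y hy => ?_) (fun hc => hxY (Subgroup.zpowers_le.2 z.2 hc))
    have h1 := CfsgLib.Components.layer_le_centralizer_fitting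
      (CfsgLib.Components.component_le_layer hK hy)
    exact Subgroup.mem_centralizer_iff.1 h1 z
      (CfsgLib.Fitting.pCore_le_fitting (Fact.out : p.Prime) z.2)
  have hcen : ∀ L : Subgroup G, Cfsg.IsComponent L →
      L ⊓ Subgroup.centralizer (L : Set G) = ⊥ := fun L hL =>
    le_bot_iff.1 (hY ▸ CfsgLib.Components.component_center_le_pCore hcore hL)
  have huniq : ∀ L : Subgroup G, Cfsg.IsComponent L → L = K := by
    intro L hL
    by_contra hne
    have hcomm := CfsgLib.Components.commutator_components_eq_bot hK hL (Ne.symm hne)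
    have hsy : ∀ M : Subgroup G, Cfsg.IsComponent M → ∃ y ∈ M, orderOf y = p ∧ Commute x y := by
      intro M hM
      obtain ⟨S, hS⟩ : ∃ S : Sylow p M, (S : Subgroup M) = (P : Subgroup G).subgroupOf M :=
        ⟨(P.2.comap_subtype (K := M)).toSylow fun hd => P.not_dvd_index
          (hd.trans (CfsgLib.IndexPowers.relIndex_dvd_index_of_isSubnormal hM.1 _)),
          IsPGroup.toSylow_coe _ _⟩
      obtain ⟨y, hy⟩ := exists_prime_orderOf_dvd_card' (G := (S : Subgroup M)) p
        (S.dvd_card_of_dvd_card (hdvd M hM))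
      refine ⟨((y : M) : G), (y : M).2, by rw [Subgroup.orderOf_coe, Subgroup.orderOf_coe, hy],
        CfsgLib.Isolated.commute_of_mem_pSubgroup hiso P.2 hxP ?_⟩
      exact (Subgroup.ext_iff.1 hS _).1 y.2
    obtain ⟨y, hy, hyo, hxy⟩ := hsy L hL
    obtain ⟨w, hw, hwo, hxw⟩ := hsy K hK
    by_cases hxz : x ∈ Subgroup.zpowers y
    · refine false_of_centralized hp hrank hx hiso P hxP hL (hdvd L hL) hwo hxw
        (fun k hk => CfsgLib.Components.commute_of_commutator_eq_bot hcomm hw hk) fun h => ?_
      have hxL : x ∈ L := Subgroup.zpowers_le.2 hy hxz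
      have hxK : x ∈ K := Subgroup.zpowers_le.2 hw h
      have : x ∈ L ⊓ Subgroup.centralizer (L : Set G) :=
        ⟨hxL, CfsgLib.Components.le_centralizer_of_commutator_eq_bot hcomm hxK⟩
      rw [hcen L hL, Subgroup.mem_bot] at this
      rw [this, orderOf_one] at hx
      exact (Fact.out : p.Prime).ne_one hx.symm
    · exact false_of_centralized hp hrank hx hiso P hxP hK (hdvd K hK) hyo hxy
        (fun k hk => (CfsgLib.Components.commute_of_commutator_eq_bot hcomm hk hy).symm) hxz
  have hF : Cfsg.generalizedFittingSubgroup G = K := by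
    rw [Cfsg.generalizedFittingSubgroup, CfsgLib.Components.fitting_eq_pCore_of_pPrimeCore_eq_bot hcore,
      hY, sup_bot_eq]
    exact le_antisymm (sSup_le fun L hL => (huniq L hL).le) (CfsgLib.Components.component_le_layer hK)
  rw [hF]
  refine ⟨?_, CfsgLib.Components.quasisimple_not_isMulCommutative hK.2⟩
  have hZ : Subgroup.center K = ⊥ :=
    Subgroup.map_injective K.subtype_injective
      (by rw [CfsgLib.Components.map_center_subtype, hcen K hK, Subgroup.map_bot])
  haveI := hK.2.2
  haveI := CfsgLib.Components.quasisimple_nontrivial hK.2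
  exact IsSimpleGroup.isSimpleGroup_of_surjective
    ((QuotientGroup.quotientMulEquivOfEq hZ).trans QuotientGroup.quotientBot).toMonoidHom
    ((QuotientGroup.quotientMulEquivOfEq hZ).trans QuotientGroup.quotientBot).surjective

end Cfsg.Agent.S3049
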