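import Cfsg.Statements.S3038
import Cfsg.Agent.S3049
import Cfsg.Agent.Lib.LocalEvenSix.IsoRankTwo.Main

set_option autoImplicit false
open Cfsg
open scoped commutatorElement

namespace Cfsg.Agent.S3038

/-- Let G be a finite group and p an odd prime with O_{p'}(G) = 1. Suppose that G has p-rank at most 2 and that some element x of order p is isolated in G and not central. Then F*(G) is a non-abelian simple group, and for every Sylow p-subgroup P of F*(G), either no conjugate of x lies in P and P is cyclic, or some conjugate of x lies in P and either P is extraspecial of order p³ and exponent p, or p = 3 and P has order 3^{2k+1} for some k ≥ 2 and is of maximal class (nilpotency class 2k). Since O_{p'}(G) = 1, such an x is not central modulo O_{p'}(G): the hypotheses describe a counterexample to the Z*_p statement in p-rank at most 2, and the conclusion records the structure it would have. -/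
theorem result {G : Type*} [Group G] [Finite G] {p : ℕ} [Fact p.Prime] (hp : p ≠ 2) (hcore : Cfsg.pPrimeCore p G = ⊥)
    (hrank : Cfsg.PRankLE p 2 G) (x : G) (hx : orderOf x = p) (hiso : Cfsg.IsIsolated x) (hnc : x ∉ Subgroup.center G) :
    IsSimpleGroup ↥(Cfsg.generalizedFittingSubgroup G) ∧ ¬ IsMulCommutative ↥(Cfsg.generalizedFittingSubgroup G) ∧
    ∀ P : Sylow p ↥(Cfsg.generalizedFittingSubgroup G),
      ((∀ g : G, g * x * g⁻¹ ∉ ((P : Subgroup ↥(Cfsg.generalizedFittingSubgroup G)).map (Cfsg.generalizedFittingSubgroup G).subtype)) ∧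
          IsCyclic ↥(P : Subgroup ↥(Cfsg.generalizedFittingSubgroup G))) ∨
      ((∃ g : G, g * x * g⁻¹ ∈ ((P : Subgroup ↥(Cfsg.generalizedFittingSubgroup G)).map (Cfsg.generalizedFittingSubgroup G).subtype)) ∧
        ((Cfsg.IsExtraspecial p ↥(P : Subgroup ↥(Cfsg.generalizedFittingSubgroup G)) ∧
            Nat.card (P : Subgroup ↥(Cfsg.generalizedFittingSubgroup G)) = p ^ 3 ∧
            ∀ y ∈ (P : Subgroup ↥(Cfsg.generalizedFittingSubgroup G)), y ^ p = 1) ∨
         (p = 3 ∧ ∃ k : ℕ, 2 ≤ k ∧ Nat.card (P : Subgroup ↥(Cfsg.generalizedFittingSubgroup G)) = 3 ^ (2 * k + 1) ∧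
            ∃ _ : Group.IsNilpotent ↥(P : Subgroup ↥(Cfsg.generalizedFittingSubgroup G)),
              Group.nilpotencyClass ↥(P : Subgroup ↥(Cfsg.generalizedFittingSubgroup G)) = 2 * k))) := by
  obtain ⟨hsimp, hna⟩ := Cfsg.Agent.S3049.result hp hcore hrank x hx hiso hnc
  set F := Cfsg.generalizedFittingSubgroup G with hF
  refine ⟨hsimp, hna, fun P => ?_⟩
  haveI := hsimp
  have hperf : commutator ↥F = ⊤ := by
    rcases (inferInstance : (commutator ↥F).Normal).eq_bot_or_eq_top with h | h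
    · exact absurd ⟨⟨fun a b => by
        rw [← commutatorElement_eq_one_iff_mul_comm, ← Subgroup.mem_bot, ← h]
        exact Subgroup.commutator_mem_commutator (Subgroup.mem_top a) (Subgroup.mem_top b)⟩⟩ hna
    · exact h
  have hrkF := CfsgLib.LocalEvenSix.IsoRankTwo.pRankLE_subgroup hrank F
  set R := (P : Subgroup ↥F).map F.subtype with hR
  have hRp : IsPGroup p R := P.2.map _
  have hisog : ∀ g : G, Cfsg.IsIsolated (g * x * g⁻¹) := by
    intro g h hc
    have e := hiso (g⁻¹ * h * g) (by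
      have := hc.map (MulAut.conj g⁻¹)
      simpa [mul_assoc] using this)
    calc h * (g * x * g⁻¹) * h⁻¹ = g * ((g⁻¹ * h * g) * x * (g⁻¹ * h * g)⁻¹) * g⁻¹ := by group
      _ = g * x * g⁻¹ := by rw [e]
  by_cases hex : ∃ g : G, g * x * g⁻¹ ∈ R
  · obtain ⟨g, hg⟩ := hex
    obtain ⟨y, hy, hyx⟩ := hg
    refine Or.inr ⟨⟨g, y, hy, hyx⟩, ?_⟩
    have hord : orderOf (⟨y, hy⟩ : (P : Subgroup ↥F)) = p := by
      rw [Subgroup.orderOf_mk, ← Subgroup.orderOf_coe, show ((y : ↥F) : G) = g * x * g⁻¹ from hyx]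
      rw [show g * x * g⁻¹ = MulAut.conj g x from rfl, MulEquiv.orderOf_eq, hx]
    refine CfsgLib.LocalEvenSix.IsoRankTwo.main hperf P hp hrkF ⟨y, hy⟩ hord fun h hh => ?_
    apply Subtype.ext
    have h1 : ((y : ↥F) : G) = g * x * g⁻¹ := hyx
    show (h : G) * ((y : ↥F) : G) * (h : G)⁻¹ = _
    rw [show (((⟨y, hy⟩ : (P : Subgroup ↥F)) : ↥F) : G) = g * x * g⁻¹ from hyx]
    refine CfsgLib.Isolated.conj_eq_of_mem_pSubgroup (hisog g) hRp ⟨y, hy, hyx⟩ ?_
    exact ⟨_, hh, by simp [← h1]⟩
  · push Not at hex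
    refine Or.inl ⟨hex, ?_⟩
    obtain ⟨T, hT⟩ := hRp.exists_le_sylow
    obtain ⟨T₀, hT₀⟩ := (CfsgLib.Isolated.isPGroup_zpowers_of_orderOf
      (x := x) ⟨1, by rw [hx, pow_one]⟩).exists_le_sylow
    obtain ⟨g, rfl⟩ := MulAction.exists_smul_eq G T₀ T
    have hxT : g * x * g⁻¹ ∈ ((g • T₀ : Sylow p G) : Subgroup G) := by
      rw [Sylow.coe_subgroup_smul]
      exact ⟨x, hT₀ (Subgroup.mem_zpowers x), rfl⟩
    set c := g * x * g⁻¹ with hc
    have hcc : ∀ r : (P : Subgroup ↥F), Commute c ((r : ↥F) : G) := fun r =>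
      CfsgLib.Isolated.commute_of_mem_pSubgroup (hisog g) (g • T₀).2 hxT (hT ⟨_, r.2, rfl⟩)
    have hco : c ^ p = 1 := by
      rw [hc, conj_pow, ← hx, pow_orderOf_eq_one]; simp
    refine CfsgLib.ConstStab.isCyclic_of_unique_prime_subgroup hp P.2 fun a b ha hap hbp => ?_
    have hne : (⊤ : Subgroup (P : Subgroup ↥F)) ≠ ⊥ := fun h => ha (by
      have := Subgroup.mem_top a
      rw [h, Subgroup.mem_bot] at this
      exact this)
    obtain ⟨Z, -, hZc, hZ⟩ := CfsgLib.OddOrder41.exists_central_order_p P.2 _ hne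
    haveI : Nontrivial Z := Finite.one_lt_card_iff_nontrivial.1 (hZ.symm ▸ (Fact.out : p.Prime).one_lt)
    obtain ⟨z, hz⟩ := exists_ne (1 : Z)
    have hzp : (z : (P : Subgroup ↥F)) ^ p = 1 := by
      have := pow_card_eq_one' (x := z)
      rw [hZ] at this
      exact congrArg Subtype.val this
    let ι : (P : Subgroup ↥F) →* G := F.subtype.comp (P : Subgroup ↥F).subtype
    have hι : Function.Injective ι := F.subtype_injective.comp (P : Subgroup ↥F).subtype_injective
    have hone : ∀ w : (P : Subgroup ↥F), w ^ p = 1 → w ∈ Subgroup.zpowers (z : (P : Subgroup ↥F)) := by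
      intro w hw
      by_contra hwz
      have hmem := CfsgLib.LocalEvenSix.IsoRankTwo.mem_closure_pair hrank
        (a := ι z) (b := ι w) (c := c)
        (by rw [← map_mul, ← map_mul, Subgroup.mem_center_iff.1 (hZc z.2) w])
        (hcc z).eq (hcc w).eq (by rw [← map_pow, hzp, map_one]) (by rw [← map_pow, hw, map_one]) hco
        (fun h => hz (Subtype.ext (hι (h.trans (map_one ι).symm))))
        (fun h => hwz (by
          obtain ⟨i, hi⟩ := Subgroup.mem_zpowers_iff.1 h
          rw [← map_zpow] at hi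
          exact Subgroup.mem_zpowers_iff.2 ⟨i, hι hi⟩))
      have hle : Subgroup.closure ({ι z, ι w} : Set G) ≤ R := by
        rw [Subgroup.closure_le]
        rintro u (rfl | rfl)
        · exact ⟨_, (z : (P : Subgroup ↥F)).2, rfl⟩
        · exact ⟨_, w.2, rfl⟩
      exact hex g (hle hmem)
    have e : Subgroup.zpowers a = Subgroup.zpowers (z : (P : Subgroup ↥F)) :=
      Subgroup.eq_of_le_of_card_ge (Subgroup.zpowers_le.2 (hone a hap)) (by
        rw [Nat.card_zpowers, Nat.card_zpowers, orderOf_eq_prime hap ha,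
          orderOf_eq_prime hzp fun h => hz (Subtype.ext h)])
    rw [e]; exact hone b hbp

end Cfsg.Agent.S3038
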