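import Cfsg.Statements.S3040
import Cfsg.Agent.Lib.FpfSymThree.Main

set_option autoImplicit false
open Cfsg

namespace Cfsg.Agent.S3040

/-- Let G be a finite group of even order coprime to 3, and let Σ be a group of automorphisms of G isomorphic to the symmetric group of degree 3 that is fixed-point-free (only the identity of G is fixed by every element of Σ). Then G is solvable, O_{2′,2}(G) (the preimage in G of O₂(G/O(G))) has odd index in G, and G = O_{2′,2}(G) C_G(σ) for every element σ of Σ of order 3; that is, O₂(G/O(G)) is a Sylow 2-subgroup of G/O(G) and G/O(G) = O₂(G/O(G)) C_{G/O(G)}(σ). -/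
theorem result {G : Type*} [Group G] [Finite G] (heven : 2 ∣ Nat.card G) (h3 : ¬ 3 ∣ Nat.card G)
    (Sig : Subgroup (MulAut G)) (hS3 : Nonempty (↥Sig ≃* Equiv.Perm (Fin 3))) (hfpf : ∀ g : G, (∀ σ ∈ Sig, σ g = g) → g = 1) :
    Group.IsSolvable G ∧ ¬ 2 ∣ (Cfsg.pPrimePCore 2 G).index ∧ ∀ σ ∈ Sig, orderOf σ = 3 →
      Cfsg.pPrimePCore 2 G ⊔ Subgroup.closure {g : G | σ g = g} = ⊤ := by
  obtain ⟨e⟩ := hS3
  haveI : Fact (Nat.Prime 3) := ⟨Nat.prime_three⟩
  set σ : MulAut G := ((e.symm (finRotate 3) : ↥Sig) : MulAut G) with hσdef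
  set τ : MulAut G := ((e.symm (Equiv.swap 0 1) : ↥Sig) : MulAut G) with hτdef
  have hrel1 : (finRotate 3 : Equiv.Perm (Fin 3)) ^ 3 = 1 := by decide
  have hrel2 : (Equiv.swap 0 1 : Equiv.Perm (Fin 3)) * Equiv.swap 0 1 = 1 := by decide
  have hrel3 : (Equiv.swap 0 1 : Equiv.Perm (Fin 3)) * finRotate 3 =
      finRotate 3 * finRotate 3 * Equiv.swap 0 1 := by decide
  have hgen : ∀ π : Equiv.Perm (Fin 3), π = 1 ∨ π = finRotate 3 ∨ π = finRotate 3 * finRotate 3 ∨
      π = Equiv.swap 0 1 ∨ π = finRotate 3 * Equiv.swap 0 1 ∨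
      π = finRotate 3 * finRotate 3 * Equiv.swap 0 1 := by decide
  have hσ3 : σ ^ 3 = 1 := by
    rw [hσdef, ← Subgroup.coe_pow, ← map_pow, hrel1, map_one, Subgroup.coe_one]
  have hττ : τ * τ = 1 := by
    rw [hτdef, ← Subgroup.coe_mul, ← map_mul, hrel2, map_one, Subgroup.coe_one]
  have hτσ : τ * σ = σ * σ * τ := by
    rw [hτdef, hσdef, ← Subgroup.coe_mul, ← map_mul, hrel3, map_mul, map_mul, Subgroup.coe_mul,
      Subgroup.coe_mul]
  have hfix : ∀ x, σ x = x → τ x = x → x = 1 := by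
    intro x hσx hτx
    refine hfpf x fun φ hφ => ?_
    obtain ⟨π, hπ⟩ := e.symm.surjective ⟨φ, hφ⟩
    have hφ' : φ = ((e.symm π : ↥Sig) : MulAut G) := by rw [hπ]
    rw [hφ']
    rcases hgen π with rfl | rfl | rfl | rfl | rfl | rfl <;>
      simp [map_mul, MulAut.mul_apply, ← hσdef, ← hτdef, hσx, hτx]
  have h : CfsgLib.FpfSymThree.Hyp σ τ :=
    ⟨hσ3, fun x => by rw [← MulAut.mul_apply, hττ, MulAut.one_apply],
      fun x => by rw [← MulAut.mul_apply, hτσ]; rfl, hfix, h3⟩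
  have hsolv := h.isSolvable
  obtain ⟨hodd, hab, -⟩ := h.fixed_inv
  have key : ∀ ρ : MulAut G, ρ ^ 3 = 1 → (∀ x, ρ x = x ↔ σ x = x) →
      Cfsg.pPrimePCore 2 G ⊔ Subgroup.closure {g : G | ρ g = g} = ⊤ := by
    intro ρ _ hiff
    have hset : {g : G | ρ g = g} = (CfsgLib.FpfSymThree.fixedSub σ : Set G) := Set.ext fun g => hiff g
    rw [hset, Subgroup.closure_eq]
    exact (CfsgLib.FpfSymThree.pPrimePCore_sup_fixedSub hσ3 h3 hodd hab).1
  refine ⟨hsolv, (CfsgLib.FpfSymThree.pPrimePCore_sup_fixedSub hσ3 h3 hodd hab).2, fun ρ hρ hord => ?_⟩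
  obtain ⟨π, hπ⟩ := e.symm.surjective ⟨ρ, hρ⟩
  have hρ' : ρ = ((e.symm π : ↥Sig) : MulAut G) := by rw [hπ]
  have hπord : orderOf π = 3 := by
    rw [← orderOf_injective e.symm.toMonoidHom e.symm.injective, ← Subgroup.orderOf_coe]
    show orderOf ((e.symm π : ↥Sig) : MulAut G) = 3
    rw [← hρ']; exact hord
  have h3rot : ∀ π : Equiv.Perm (Fin 3), π ^ 3 = 1 → π ≠ 1 →
      π = finRotate 3 ∨ π = finRotate 3 * finRotate 3 := by decide
  have hρ3 : ρ ^ 3 = 1 := hord ▸ pow_orderOf_eq_one ρ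
  rcases h3rot π (by simpa only [hπord] using pow_orderOf_eq_one π) (fun h1 => by rw [h1, orderOf_one] at hπord; omega)
    with rfl | rfl
  · exact key ρ hρ3 fun x => by rw [hρ']
  · refine key ρ hρ3 fun x => ?_
    rw [hρ', map_mul, Subgroup.coe_mul, ← hσdef, MulAut.mul_apply]
    exact ⟨fun hx => by
      conv_lhs => rw [← hx]
      exact CfsgLib.FpfSymThree.pow_three_apply hσ3 x, fun hx => by rw [hx, hx]⟩

end Cfsg.Agent.S3040
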