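import Cfsg.Statements.S3043
import Cfsg.Agent.Lib.LocalEven.TICount.Odd
import Cfsg.Agent.Lib.LocalEven.TICount.Affine
import Cfsg.Agent.Lib.LocalEven.TICount.Linear

set_option autoImplicit false
open Cfsg

namespace Cfsg.Agent.S3043

/-- Let M be a nontrivial subgroup of a finite group G meeting each of its other conjugates trivially, with N_G(M) = M · C_{N_G(M)}(z) for some involution z ∈ N_G(M), and with C_G(x) of odd order for every nontrivial x ∈ M. Then one of the following holds: M is normal in G; the number of involutions of G is at most |G : M|; G is isomorphic to PGL₂(F) or to PSL₂(F) for a finite field F with |F| = |M|, M is an elementary abelian p-group for the characteristic p of F, and |F| ≡ 1 (mod 4) in the PSL₂ case; G is isomorphic to PSL₂(F) with |F| = 2^e, e > 1, and M is cyclic of order 2^e + 1; or for some d ≥ 1, G has an elementary abelian normal subgroup of order 2^{2d} complemented by N_G(M), and N_G(M) is dihedral of order 2(2^d + 1). -/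
theorem result {G : Type*} [Group G] [Finite G] (M : Subgroup G) (hM1 : M ≠ ⊥)
    (hTI : ∀ g : G, M ⊓ M.map (MulAut.conj g).toMonoidHom ≠ ⊥ → M.map (MulAut.conj g).toMonoidHom = M)
    (z : G) (hz : orderOf z = 2) (hzN : z ∈ Subgroup.normalizer (M : Set G))
    (hfac : M ⊔ (Subgroup.normalizer (M : Set G) ⊓ Subgroup.centralizer ({z} : Set G)) = Subgroup.normalizer (M : Set G))
    (hodd : ∀ x ∈ M, x ≠ 1 → Odd (Nat.card ↥(Subgroup.centralizer ({x} : Set G)))) :
    M.Normal ∨
    Nat.card {g : G // orderOf g = 2} ≤ M.index ∨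
    (∃ (F : Type) (_ : Field F) (_ : Fintype F) (p : ℕ) (_ : Fact p.Prime) (_ : CharP F p), Fintype.card F = Nat.card M ∧ Cfsg.IsElementaryAbelian p M ∧
        (Nonempty (G ≃* (GL (Fin 2) F ⧸ Subgroup.center (GL (Fin 2) F))) ∨
         (Fintype.card F % 4 = 1 ∧ Nonempty (G ≃* Matrix.ProjectiveSpecialLinearGroup (Fin 2) F)))) ∨
    (∃ (F : Type) (_ : Field F) (_ : Fintype F) (e : ℕ), 1 < e ∧ Fintype.card F = 2 ^ e ∧ IsCyclic ↥M ∧ Nat.card M = 2 ^ e + 1 ∧
        Nonempty (G ≃* Matrix.ProjectiveSpecialLinearGroup (Fin 2) F)) ∨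
    (∃ (d : ℕ) (E : Subgroup G), 1 ≤ d ∧ E.Normal ∧ Cfsg.IsElementaryAbelian 2 E ∧ Nat.card E = 2 ^ (2 * d) ∧
        E ⊓ Subgroup.normalizer (M : Set G) = ⊥ ∧ E ⊔ Subgroup.normalizer (M : Set G) = ⊤ ∧
        Nonempty (↥(Subgroup.normalizer (M : Set G)) ≃* DihedralGroup (2 ^ d + 1))) := by
  classical
  by_cases hN : M.Normal
  · exact Or.inl hN
  by_cases hcount : Nat.card {g : G // orderOf g = 2} ≤ M.index
  · exact Or.inr (Or.inl hcount)
  have hH : CfsgLib.LocalEven.TICount.Hyp M z :=
    { hne := hM1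
      ti := fun g x hx hx1 hgx => by
        have hne : M ⊓ M.map (MulAut.conj g).toMonoidHom ≠ ⊥ := fun e => hx1 (by
          have h : g * x * g⁻¹ ∈ M ⊓ M.map (MulAut.conj g).toMonoidHom :=
            ⟨hgx, x, hx, rfl⟩
          rw [e, Subgroup.mem_bot, conj_eq_one_iff] at h
          exact h)
        have he := hTI g hne
        refine Subgroup.mem_normalizer_iff.2 fun n => ⟨fun hn => he ▸ ⟨n, hn, rfl⟩, fun hn => ?_⟩
        rw [← he] at hn
        obtain ⟨m, hm, hmn⟩ := hn
        have : m = n := mul_left_cancel (mul_right_cancel (show g * m * g⁻¹ = g * n * g⁻¹ from hmn))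
        exact this ▸ hm
      two := hz
      znorm := hzN
      fac := hfac
      noinv := fun x hx hx1 w hwx hww => by
        let w' : ↥(Subgroup.centralizer ({x} : Set G)) :=
          ⟨w, Subgroup.mem_centralizer_singleton_iff.2 hwx⟩
        have h2 : orderOf w' ∣ 2 :=
          orderOf_dvd_of_pow_eq_one (Subtype.ext (by rw [Subgroup.coe_pow, pow_two]; exact hww))
        exact congrArg Subtype.val (orderOf_eq_one_iff.mp (Nat.eq_one_of_dvd_coprimes
          (Nat.coprime_two_left.mpr (hodd x hx hx1)) h2 (orderOf_dvd_natCard w')))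
      notN := fun e => hN (Subgroup.normalizer_eq_top_iff.1 e)
      count := not_le.1 hcount }
  refine Or.inr (Or.inr ?_)
  by_cases hk : Nat.card (CfsgLib.LocalEven.TICount.Kz M z) = 2
  · obtain ⟨-, p, hp, hC, hm | hm⟩ := hH.two_case hk
    · exact Or.inr (Or.inr (hH.affine_case hk hp hC hm))
    · exact Or.inr (Or.inl (hH.linear_case hk hp hC hm))
  · exact Or.inl (hH.of_card_K_ne_two hk)

end Cfsg.Agent.S3043
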