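import Cfsg.Statements.S3044
import Cfsg.Agent.Lib.LocalEvenSix.IsolatedSetup

set_option autoImplicit false
open Cfsg

namespace Cfsg.Agent.S3044

/-- Let G be a finite group, p a prime, S a Sylow p-subgroup of G and P a p-minimal subgroup of G containing S (S is not normal in P and lies in exactly one maximal subgroup of P). Let L be the subgroup generated by N_G(S) and all p-minimal subgroups of G containing S other than P, and suppose P is isolated: O_p(L) is not contained in O_p(P). Put Y for the normal closure of O^p(P) in G. Then G = YL; P is again isolated in the subgroup YS (the subgroup L₀ generated by N_{YS}(S) and the p-minimal subgroups of YS containing S other than P has O_p(L₀) not contained in O_p(P)); and either Y = O^p(P), or p divides |Y/O_p(Y)|, Y/O_p(Y) is generated by its components (a central product of quasisimple groups), and S permutes these components transitively by conjugation. -/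
theorem result {G : Type*} [Group G] [Finite G] {p : ℕ} [Fact p.Prime] (S : Sylow p G) (P : Subgroup G) (hSP : (S : Subgroup G) ≤ P) (hPmin : Cfsg.IsPMinimal p ↥P)
    (L Y : Subgroup G)
    (hL : L = Subgroup.normalizer ((S : Subgroup G) : Set G) ⊔ ⨆ P' : {P' : Subgroup G // (S : Subgroup G) ≤ P' ∧ Cfsg.IsPMinimal p ↥P' ∧ P' ≠ P}, (P' : Subgroup G))
    (hiso : ¬ (Cfsg.pCore p ↥L).map L.subtype ≤ (Cfsg.pCore p ↥P).map P.subtype)
    (hY : Y = Subgroup.normalClosure (((Cfsg.pResidual p ↥P).map P.subtype : Subgroup G) : Set G)) :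
    Y ⊔ L = ⊤ ∧
    ¬ (Cfsg.pCore p ↥((Subgroup.normalizer ((S : Subgroup G) : Set G) ⊓ (Y ⊔ (S : Subgroup G))) ⊔
          ⨆ P' : {P' : Subgroup G // (S : Subgroup G) ≤ P' ∧ P' ≤ Y ⊔ (S : Subgroup G) ∧ Cfsg.IsPMinimal p ↥P' ∧ P' ≠ P}, (P' : Subgroup G))).map
        (Subgroup.subtype _) ≤ (Cfsg.pCore p ↥P).map P.subtype ∧
    ((Cfsg.pResidual p ↥P).map P.subtype = Y ∨
     ∃ _ : (Cfsg.pCore p ↥Y).Normal,
       p ∣ Nat.card (↥Y ⧸ Cfsg.pCore p ↥Y) ∧ Cfsg.layer (↥Y ⧸ Cfsg.pCore p ↥Y) = ⊤ ∧
       ∀ K₁ K₂ : Subgroup (↥Y ⧸ Cfsg.pCore p ↥Y), Cfsg.IsComponent K₁ → Cfsg.IsComponent K₂ →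
         ∃ s ∈ (S : Subgroup G), ((K₂.comap (QuotientGroup.mk' (Cfsg.pCore p ↥Y))).map Y.subtype) = (((K₁.comap (QuotientGroup.mk' (Cfsg.pCore p ↥Y))).map Y.subtype)).map (MulAut.conj s).toMonoidHom) := by
  have hL' : L = CfsgLib.LocalEvenSix.IsolatedMin.others S P := hL
  subst hL'
  subst hY
  set O := Cfsg.pCore p G with hO
  haveI hOn : O.Normal := Cfsg.pCore_normal p G
  set Y := Subgroup.normalClosure (((Cfsg.pResidual p ↥P).map P.subtype : Subgroup G) : Set G) with hYdef
  haveI hYn : Y.Normal := Subgroup.normalClosure_normal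
  have hctx := CfsgLib.LocalEvenSix.IsolatedMin.ctx (S := S) (P := P) hSP hiso
  refine ⟨?_, ?_, ?_⟩
  · refine top_le_iff.1 ((CfsgLib.LocalEvenSix.IsolatedMin.sup_others S P).ge.trans (sup_le ?_ le_sup_right))
    exact (CfsgLib.LocalEvenSix.IsolatedMin.res_sup_sylow S hSP).ge.trans
      (sup_le_sup Subgroup.le_normalClosure (CfsgLib.LocalEvenSix.IsolatedMin.sylow_le_others S P))
  · set L₀ := (Subgroup.normalizer ((S : Subgroup G) : Set G) ⊓ (Y ⊔ (S : Subgroup G))) ⊔
      ⨆ P' : {P' : Subgroup G // (S : Subgroup G) ≤ P' ∧ P' ≤ Y ⊔ (S : Subgroup G) ∧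
        Cfsg.IsPMinimal p ↥P' ∧ P' ≠ P}, (P' : Subgroup G) with hL₀
    have hle : L₀ ≤ CfsgLib.LocalEvenSix.IsolatedMin.others S P :=
      sup_le (inf_le_left.trans le_sup_left) (iSup_le fun P' =>
        le_sup_of_le_right (le_iSup_of_le ⟨P'.1, P'.2.1, P'.2.2.2.1, P'.2.2.2.2⟩ le_rfl))
    have hSL₀ : (S : Subgroup G) ≤ L₀ := (le_inf Subgroup.le_normalizer le_sup_right).trans le_sup_left
    exact fun h => hiso ((CfsgLib.LocalEvenCharP.le_pCoreOf
      ((CfsgLib.LocalEvenSix.IsolatedMin.pCoreOf_others_le S P).trans hSL₀)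
      (hle.trans (CfsgLib.LocalEvenCharP.le_normalizer_pCoreOf p _))
      (CfsgLib.LocalEvenCharP.isPGroup_pCoreOf p _)).trans h)
  · set π := QuotientGroup.mk' O with hπ
    set Yb := Y.map π with hYb
    by_cases hdvd : p ∣ Nat.card Yb
    swap
    · refine Or.inl (le_antisymm Subgroup.le_normalClosure ?_)
      set D := (Cfsg.pResidual p ↥P).map P.subtype with hD
      have hDY : D.map π = Y.map π := hctx.eq_of_prime_to hdvd
      have hYle : Y ≤ D ⊔ O := by
        have h := (Subgroup.map_le_map_iff' (f := π)).1 hDY.ge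
        rw [QuotientGroup.ker_mk'] at h
        exact le_sup_left.trans h
      have hOP : O ≤ P := (CfsgLib.LocalEvenSix.IsolatedMin.pCore_le_sylow S).trans hSP
      have hOD : O ≤ Subgroup.normalizer (D : Set G) :=
        hOP.trans (CfsgLib.LocalEvenSix.IsolatedMin.le_normalizer_res P)
      intro y hy
      rw [hYdef] at hy
      refine (Subgroup.closure_le _).2 ?_ hy
      intro z hz
      obtain ⟨d, hd, g, rfl⟩ : ∃ d ∈ (D : Set G), ∃ g : G, g * d * g⁻¹ = z := by
        obtain ⟨d, hd, hc⟩ := Group.mem_conjugatesOfSet_iff.1 hz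
        obtain ⟨g, hg⟩ := isConj_iff.1 hc
        exact ⟨d, hd, g, hg⟩
      -- the conjugate of `O^p(P)` lies in `D`
      have key : CfsgLib.LocalEvenSix.IsolatedMin.res p P ≤ D.comap (MulAut.conj g).toMonoidHom := by
        refine CfsgLib.LocalEvenSix.IsolatedMin.res_le_of_map_le P (O := O)
          (CfsgLib.LocalEvenCharP.isPGroup_pCore p G) ?_ ?_
        · intro x hx
          rw [Subgroup.mem_normalizer_iff]
          intro w
          simp only [Subgroup.mem_comap, map_mul, map_inv]
          exact (Subgroup.mem_normalizer_iff (H := D)).1 (hOD (hOn.conj_mem x hx g)) _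
        · intro x hx
          have hx' : g * x * g⁻¹ ∈ D ⊔ O :=
            hYle (hYn.conj_mem x (Subgroup.le_normalClosure hx) g)
          obtain ⟨o, ho, d', hd', he⟩ := CfsgLib.Techniques.exists_mul_of_mem_sup hOD (sup_comm D O ▸ hx')
          have e : x = (g⁻¹ * o * g) * (g⁻¹ * d' * g) := by
            rw [show (g⁻¹ * o * g) * (g⁻¹ * d' * g) = g⁻¹ * (o * d') * g by group, he]; group
          rw [e]
          refine mul_mem (Subgroup.mem_sup_right ?_) (Subgroup.mem_sup_left ?_)
          · simpa using hOn.conj_mem o ho g⁻¹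
          · show g * (g⁻¹ * d' * g) * g⁻¹ ∈ D
            rwa [show g * (g⁻¹ * d' * g) * g⁻¹ = d' by group]
      exact key hd
    · refine Or.inr ⟨Cfsg.pCore_normal p ↥Y, ?_⟩
      haveI := Cfsg.pCore_normal p ↥Y
      let φ : ↥Y →* Yb := π.subgroupMap Y
      have hφs : Function.Surjective φ := π.subgroupMap_surjective Y
      have hker : φ.ker = Cfsg.pCore p ↥Y := by
        ext y
        rw [MonoidHom.mem_ker, ← OneMemClass.coe_eq_one]
        show π (y : G) = 1 ↔ _
        rw [hπ, QuotientGroup.mk'_apply, QuotientGroup.eq_one_iff]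
        constructor
        · intro h
          exact CfsgLib.LocalEvenCharP.le_pCore (hOn.comap Y.subtype)
            ((CfsgLib.LocalEvenCharP.isPGroup_pCore p G).comap_of_injective _ Y.subtype_injective) h
        · intro h
          haveI : (Cfsg.pCore p ↥Y).Characteristic := CfsgLib.Fitting.pCore_characteristic p
          exact CfsgLib.LocalEvenCharP.le_pCore (N := (Cfsg.pCore p ↥Y).map Y.subtype) inferInstance
            ((CfsgLib.LocalEvenCharP.isPGroup_pCore p ↥Y).map _) ⟨y, h, rfl⟩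
      let e : ↥Y ⧸ Cfsg.pCore p ↥Y ≃* Yb :=
        (QuotientGroup.quotientMulEquivOfEq hker.symm).trans (QuotientGroup.quotientKerEquivOfSurjective φ hφs)
      have he : ∀ y : Y, e (QuotientGroup.mk' _ y) = φ y := fun y => rfl
      have hlay := hctx.layer_eq_top hdvd
      refine ⟨(Nat.card_congr e.toEquiv) ▸ hdvd, ?_, fun K₁ K₂ h₁ h₂ => ?_⟩
      · rw [← CfsgLib.Components.map_layer_equiv e.symm, hlay]
        exact Subgroup.map_top_of_surjective _ e.symm.surjective
      · obtain ⟨sb, ⟨s, hs, rfl⟩, hK⟩ := hctx.components_conj hlay _ _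
          (CfsgLib.Components.isComponent_map_equiv e h₁) (CfsgLib.Components.isComponent_map_equiv e h₂)
        refine ⟨s, hs, ?_⟩
        have hmem : ∀ (K : Subgroup (↥Y ⧸ Cfsg.pCore p ↥Y)) (x : G),
            x ∈ (K.comap (QuotientGroup.mk' (Cfsg.pCore p ↥Y))).map Y.subtype ↔
              x ∈ Y ∧ π x ∈ (K.map e.toMonoidHom).map Yb.subtype := by
          intro K x
          constructor
          · rintro ⟨y, hy, rfl⟩
            exact ⟨y.2, φ y, ⟨_, hy, he y⟩, rfl⟩
          · rintro ⟨hx, w, ⟨k, hk, rfl⟩, hw⟩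
            refine ⟨⟨x, hx⟩, ?_, rfl⟩
            show QuotientGroup.mk' _ (⟨x, hx⟩ : Y) ∈ K
            rwa [show QuotientGroup.mk' _ (⟨x, hx⟩ : Y) = k from e.injective ((he _).trans (Subtype.ext hw.symm))]
        ext x
        rw [CfsgLib.Techniques.mem_map_conj, hmem, hmem, hK, CfsgLib.Techniques.mem_map_conj]
        simp only [map_mul, map_inv]
        refine and_congr ⟨fun h => by simpa using hYn.conj_mem x h s⁻¹, fun h => ?_⟩ Iff.rfl
        simpa [mul_assoc] using hYn.conj_mem _ h s

end Cfsg.Agent.S3044
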