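import Cfsg.Statements.S3045
import Cfsg.Agent.Lib.LocalEvenSix.IsolatedLift

set_option autoImplicit false
open Cfsg

namespace Cfsg.Agent.S3045


open Subgroup CfsgLib.LocalEvenSix.IsolatedMin in
private theorem prime_to_nilpotent {G : Type*} [Group G] [Finite G] {p : ℕ} [Fact p.Prime]
    {S L D Y Q : Subgroup G} (h : Ctx p S L D Y Q) (hp' : ¬ p ∣ Nat.card Y) :
    (∃ t : ℕ, t.Prime ∧ t ≠ p ∧ IsPGroup t Y) ∧
      ∃ _ : Group.IsNilpotent Y, Group.nilpotencyClass Y ≤ 2 := by
  haveI := h.hY
  have hYne : Y ≠ ⊥ := fun e => h.hDL ((h.hDY.trans e.le).trans bot_le)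
  have hne : ⁅Y, Y⁆ ≠ Y := fun e =>
    hYne (eq_bot_of_commutator_self' (h.solvable_of_prime_to hp') e)
  obtain ⟨-, hc⟩ := h.central_of_lt inferInstance (commutator_le_self Y) hne
  have hcz : _root_.commutator Y ≤ center Y := by
    rw [_root_.commutator_def, commutator_le]
    intro a _ b _
    rw [mem_center_iff]
    intro z
    exact Subtype.ext (mem_centralizer_iff.1 (hc (commutator_mem_commutator a.2 b.2)) z z.2)
  haveI hab : IsMulCommutative (Y ⧸ center Y) :=
    Subgroup.Normal.quotient_commutative_iff_commutator_le.2 hcz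
  letI : CommGroup (Y ⧸ center Y) := { mul_comm := hab.is_comm.comm }
  haveI hnil : Group.IsNilpotent Y := Group.of_quotient_center_nilpotent inferInstance
  have hcl : Group.nilpotencyClass Y ≤ 2 :=
    le_trans (Group.nilpotencyClass_le_of_ker_le_center (QuotientGroup.mk' (center Y))
      (QuotientGroup.ker_mk' _).le) (Nat.succ_le_succ CommGroup.nilpotencyClass_le_one)
  refine ⟨?_, hnil, hcl⟩
  by_contra hno
  push Not at hno
  have hYL : ¬ Y ≤ L := fun e => h.hDL (h.hDY.trans e)
  refine hYL fun y hy => ?_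
  have htop : L.subgroupOf Y = ⊤ := by
    refine CfsgLib.Fitting.eq_top_of_forall_sylow_le fun r hr _ => ?_
    haveI : Fact r.Prime := ⟨hr⟩
    let T : Sylow r Y := default
    refine ⟨T, ?_⟩
    haveI := T.normal_of_normalizerCondition Group.normalizerCondition_of_isNilpotent
    haveI := T.characteristic_of_normal (G := Y) inferInstance
    intro t ht
    rw [mem_subgroupOf]
    refine (h.central_of_lt (N := (T : Subgroup Y).map Y.subtype) inferInstance (map_subtype_le _)
      fun e => ?_).1 ⟨t, ht, rfl⟩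
    have hY' : IsPGroup r Y := e ▸ T.2.map _
    by_cases hrp : r = p
    · subst hrp
      obtain ⟨n, hn⟩ := IsPGroup.iff_card.1 hY'
      rcases n with _ | n
      · rw [pow_zero] at hn; exact hYne (eq_bot_of_card_eq Y hn)
      · exact hp' (hn ▸ dvd_pow_self r n.succ_ne_zero)
    · exact hno r hr hrp hY'
  exact mem_subgroupOf.1 (htop ▸ mem_top (⟨y, hy⟩ : Y))

/-- Let G be a finite group, p a prime, S a Sylow p-subgroup of G and P a p-minimal subgroup of G containing S. Let L be the subgroup generated by N_G(S) and all p-minimal subgroups of G containing S other than P, and suppose O_p(L) is not contained in O_p(P). Put Y for the normal closure of O^p(P) in G. Then O^p(P) is contained in the preimage in G of F*(G/O_p(G)); and if Y is solvable, then Y = O^p(P) and Y/O_p(Y) is a t-group of nilpotency class at most 2 for some prime t ≠ p. -/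
theorem result {G : Type*} [Group G] [Finite G] {p : ℕ} [Fact p.Prime] (S : Sylow p G) (P : Subgroup G) (hSP : (S : Subgroup G) ≤ P) (hPmin : Cfsg.IsPMinimal p ↥P)
    (L Y : Subgroup G)
    (hL : L = Subgroup.normalizer ((S : Subgroup G) : Set G) ⊔ ⨆ P' : {P' : Subgroup G // (S : Subgroup G) ≤ P' ∧ Cfsg.IsPMinimal p ↥P' ∧ P' ≠ P}, (P' : Subgroup G))
    (hiso : ¬ (Cfsg.pCore p ↥L).map L.subtype ≤ (Cfsg.pCore p ↥P).map P.subtype)
    (hY : Y = Subgroup.normalClosure (((Cfsg.pResidual p ↥P).map P.subtype : Subgroup G) : Set G)) [hn : (Cfsg.pCore p G).Normal] :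
    (Cfsg.pResidual p ↥P).map P.subtype ≤ (Cfsg.generalizedFittingSubgroup (G ⧸ Cfsg.pCore p G)).comap (QuotientGroup.mk' (Cfsg.pCore p G)) ∧
    (Group.IsSolvable ↥Y → (Cfsg.pResidual p ↥P).map P.subtype = Y ∧
       ∃ _ : (Cfsg.pCore p ↥Y).Normal, ∃ t : ℕ, t.Prime ∧ t ≠ p ∧ IsPGroup t (↥Y ⧸ Cfsg.pCore p ↥Y) ∧
         ∃ _ : Group.IsNilpotent (↥Y ⧸ Cfsg.pCore p ↥Y), Group.nilpotencyClass (↥Y ⧸ Cfsg.pCore p ↥Y) ≤ 2) := by
  have hL' : L = CfsgLib.LocalEvenSix.IsolatedMin.others S P := hL
  subst hL'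
  subst hY
  set Y := Subgroup.normalClosure (((Cfsg.pResidual p ↥P).map P.subtype : Subgroup G) : Set G) with hYdef
  haveI hYn : Y.Normal := Subgroup.normalClosure_normal
  have hctx := CfsgLib.LocalEvenSix.IsolatedMin.ctx (S := S) (P := P) hSP hiso
  set π := QuotientGroup.mk' (Cfsg.pCore p G) with hπ
  set Yb := Y.map π with hYb
  haveI hYbn : Yb.Normal := hctx.hY
  refine ⟨?_, fun hsol => ?_⟩
  · refine Subgroup.le_normalClosure.trans (Subgroup.map_le_iff_le_comap.1 ?_)
    by_cases hdvd : p ∣ Nat.card Yb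
    · refine le_trans ?_ CfsgLib.Components.layer_le_generalizedFitting
      show Yb ≤ _
      rw [← Yb.range_subtype, MonoidHom.range_eq_map, ← hctx.layer_eq_top hdvd, Subgroup.map_le_iff_le_comap]
      exact sSup_le fun K hK => Subgroup.map_le_iff_le_comap.1 (CfsgLib.Components.component_le_layer
        (CfsgLib.Components.isComponent_map_subtype hYbn.isSubnormal hK))
    · exact le_trans (CfsgLib.Fitting.le_fitting hYbn (prime_to_nilpotent hctx hdvd).2.1)
        CfsgLib.Components.fitting_le_generalizedFitting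
  · have hdvd : ¬ p ∣ Nat.card Yb := by
      intro hd
      have hl := hctx.layer_eq_top hd
      haveI := hsol
      haveI : Group.IsSolvable Yb := Group.isSolvable_of_surjective (π.subgroupMap_surjective Y)
      have hbot : Cfsg.layer Yb = ⊥ := eq_bot_iff.2 (sSup_le fun K hK =>
        absurd (inferInstance : Group.IsSolvable K) (CfsgLib.Components.component_not_isSolvable hK))
      rw [hbot] at hl
      have hsub : Yb = ⊥ := by
        rw [Subgroup.eq_bot_iff_forall]
        intro x hx
        have h1 : (⟨x, hx⟩ : Yb) ∈ (⊥ : Subgroup Yb) := by rw [hl]; exact Subgroup.mem_top _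
        exact congrArg Subtype.val (Subgroup.mem_bot.1 h1)
      exact hctx.hDL ((hctx.hDY.trans hsub.le).trans bot_le)
    constructor
    · exact CfsgLib.LocalEvenSix.IsolatedMin.res_eq_closure S P hSP (hctx.eq_of_prime_to hdvd)
    refine ⟨Cfsg.pCore_normal p ↥Y, ?_⟩
    haveI := Cfsg.pCore_normal p ↥Y
    obtain ⟨⟨t, ht, htp, htg⟩, hnil, hcl⟩ := prime_to_nilpotent hctx hdvd
    obtain ⟨e⟩ := CfsgLib.LocalEvenSix.IsolatedMin.quotient_equiv (p := p) Y
    haveI := hnil
    refine ⟨t, ht, htp, htg.of_equiv e.symm, Group.nilpotent_of_mulEquiv e.symm, ?_⟩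
    exact le_trans (Group.nilpotencyClass_le_of_surjective e.symm.toMonoidHom e.symm.surjective) hcl

end Cfsg.Agent.S3045
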