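import Cfsg.Statements.S3048
import Cfsg.Agent.S3012
import Cfsg.Agent.S3013
import Cfsg.Agent.Lib.Components.FStar
import Cfsg.Agent.Lib.PCore.Basic

set_option autoImplicit false
universe u
open Cfsg

namespace Cfsg.Agent.S3048

open Subgroup
open scoped commutatorElement

/-- A nontrivial elementary abelian group satisfying the pair condition does not act fixed-point-freely
on an abelian normal subgroup of odd order. -/
theorem exists_centralizing_abelian {G : Type*} [Group G] [Finite G] (V N : Subgroup G) [N.Normal]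
    (hV : Cfsg.IsElementaryAbelian 2 V) (hV1 : V ≠ ⊥) (hS : Cfsg.IsSidkiPair V)
    (hab : ∀ a ∈ N, ∀ b ∈ N, a * b = b * a) (hodd : ∀ a ∈ N, Odd (orderOf a)) :
    ∃ w ∈ V, w ≠ 1 ∧ ∀ n ∈ N, w * n = n * w := by
  have hVc : ∀ a ∈ V, ∀ b ∈ V, Commute a b := fun a ha b hb =>
    congrArg Subtype.val (hV.1.is_comm.comm ⟨a, ha⟩ ⟨b, hb⟩)
  have hinv2 : ∀ a ∈ V, a⁻¹ = a := fun a ha =>
    inv_eq_of_mul_eq_one_right (by simpa [pow_two] using hV.2 a ha)
  have sqinj : ∀ a ∈ N, ∀ b : G, b * a ^ 2 * b⁻¹ = a ^ 2 → b * a * b⁻¹ = a := by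
    intro a ha b hb
    obtain ⟨m, hm⟩ := exists_pow_eq_self_of_coprime (x := a) (n := 2) (hodd a ha).coprime_two_left
    conv_lhs => rw [← hm]
    rw [← conj_pow, hb, hm]
  by_contra hcon
  push Not at hcon
  obtain ⟨v₀, hv₀⟩ := ((eq_bot_iff_forall V).not.1 hV1) |> fun h => not_forall.1 h
  obtain ⟨hv₀V, -⟩ := Classical.not_imp.1 hv₀
  let cent : G → Set G := fun h => {w | w ∈ V ∧ w * h = h * w}
  obtain ⟨h, ⟨hhN, v, hv, hvh⟩, hmin⟩ := Set.exists_min_image
    {h : G | h ∈ N ∧ ∃ v ∈ V, v * h * v⁻¹ = h⁻¹} (fun h => (cent h).ncard) (Set.toFinite _)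
    ⟨1, one_mem N, v₀, hv₀V, by simp⟩
  obtain ⟨w, hwV, hw1, hwh⟩ := hS h v hv (hodd h hhN) hvh
  obtain ⟨n, hnN, hwn⟩ := hcon w hwV hw1
  obtain ⟨n', hn'⟩ : ∃ x, x = n * (w * n * w⁻¹)⁻¹ := ⟨_, rfl⟩
  have hcn : ∀ g : G, ∀ a ∈ N, g * a * g⁻¹ ∈ N := fun g a ha => Normal.conj_mem ‹_› a ha g
  have hn'N : n' ∈ N := by rw [hn']; exact mul_mem hnN (inv_mem (hcn w n hnN))
  have hn'w : w * n' * w⁻¹ = n'⁻¹ := by
    calc w * n' * w⁻¹ = (w * n * w⁻¹) * (w * w) * n⁻¹ * (w * w)⁻¹ := by rw [hn']; group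
      _ = n'⁻¹ := by
        have h2 : w * w = 1 := by simpa [pow_two] using hV.2 w hwV
        rw [hn', h2]; group
  have hn'1 : n' ≠ 1 := fun e => hwn (mul_inv_eq_iff_eq_mul.1 (mul_inv_eq_one.1 (hn'.symm.trans e)).symm)
  -- a strictly better element
  suffices key : ∀ v' ∈ V, ∀ c ∈ N, v' * h * v'⁻¹ = h⁻¹ → v' * c * v'⁻¹ = c⁻¹ →
      w * c * w⁻¹ = c⁻¹ → c = 1 by
    have hv2 : v * v = 1 := by simpa [pow_two] using hV.2 v hv
    obtain ⟨m, hm⟩ : ∃ x, x = v * n' * v⁻¹ := ⟨_, rfl⟩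
    have hmN : m ∈ N := by rw [hm]; exact hcn v n' hn'N
    have hcm : Commute n' m := hab n' hn'N m hmN
    have hvm : v * m * v⁻¹ = n' := by
      calc v * m * v⁻¹ = (v * v) * n' * (v * v)⁻¹ := by rw [hm]; group
        _ = n' := by rw [hv2]; group
    have hwm : w * m * w⁻¹ = m⁻¹ := by
      calc w * m * w⁻¹ = (w * v) * n' * (w * v)⁻¹ := by rw [hm]; group
        _ = v * (w * n' * w⁻¹) * v⁻¹ := by rw [(hVc w hwV v hv).eq]; group
        _ = m⁻¹ := by rw [hn'w, hm]; group
    -- `n' m⁻¹` is inverted by `v`, `n' m` by `v w`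
    have h1 : n' * m⁻¹ = 1 := key v hv _ (mul_mem hn'N (inv_mem hmN)) hvh
      (by calc v * (n' * m⁻¹) * v⁻¹ = m * (v * m * v⁻¹)⁻¹ := by rw [hm]; group
            _ = (n' * m⁻¹)⁻¹ := by rw [hvm]; group)
      (by calc w * (n' * m⁻¹) * w⁻¹ = (w * n' * w⁻¹) * (w * m * w⁻¹)⁻¹ := by group
            _ = (n' * m⁻¹)⁻¹ := by rw [hn'w, hwm, inv_inv, mul_inv_rev, inv_inv, hcm.inv_left.eq])
    have h2 : n' * m = 1 := key (v * w) (mul_mem hv hwV) _ (mul_mem hn'N hmN)
      (by calc v * w * h * (v * w)⁻¹ = v * (w * h * w⁻¹) * v⁻¹ := by group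
            _ = h⁻¹ := by rw [hwh, mul_inv_cancel_right, hvh])
      (by calc v * w * (n' * m) * (v * w)⁻¹
              = (v * (w * n' * w⁻¹) * v⁻¹) * (v * (w * m * w⁻¹) * v⁻¹) := by group
            _ = (v * n' * v⁻¹)⁻¹ * (v * m * v⁻¹)⁻¹ := by rw [hn'w, hwm]; group
            _ = (n' * m)⁻¹ := by rw [← hm, hvm, mul_inv_rev])
      (by calc w * (n' * m) * w⁻¹ = (w * n' * w⁻¹) * (w * m * w⁻¹) := by group
            _ = (n' * m)⁻¹ := by rw [hn'w, hwm, mul_inv_rev, hcm.inv_inv.eq])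
    rw [← mul_inv_eq_one.1 h1] at h2
    refine hn'1 ?_
    obtain ⟨k, hk⟩ := exists_pow_eq_self_of_coprime (x := n') (n := 2) (hodd n' hn'N).coprime_two_left
    rw [← hk, pow_two, h2, one_pow]
  intro v' hv' c hc hv'h hv'c hwc
  by_contra hc1
  have hhc : Commute h c := hab h hhN c hc
  have hwh' : w * h * w⁻¹ = h := by rw [hwh, mul_inv_cancel_right]
  have hwhc : w * (h * c) * w⁻¹ = h * c⁻¹ := by
    calc w * (h * c) * w⁻¹ = (w * h * w⁻¹) * (w * c * w⁻¹) := by group
      _ = h * c⁻¹ := by rw [hwh', hwc]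
  have h1 := hmin (h * c) ⟨mul_mem hhN hc, v', hv', by
    calc v' * (h * c) * v'⁻¹ = (v' * h * v'⁻¹) * (v' * c * v'⁻¹) := by group
      _ = (h * c)⁻¹ := by rw [hv'h, hv'c, mul_inv_rev, hhc.inv_inv.eq]⟩
  refine absurd h1 (not_le.2 (Set.ncard_lt_ncard ?_ (Set.toFinite _)))
  refine ⟨fun x hx => ⟨hx.1, ?_⟩, fun hsub => ?_⟩
  · have e1 : x * (h * c) * x⁻¹ = h * c := by rw [hx.2, mul_inv_cancel_right]
    have e2 : x * (h * c⁻¹) * x⁻¹ = h * c⁻¹ := by
      rw [← hwhc]
      calc x * (w * (h * c) * w⁻¹) * x⁻¹ = (x * w) * (h * c) * (x * w)⁻¹ := by group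
        _ = w * (x * (h * c) * x⁻¹) * w⁻¹ := by rw [(hVc x hx.1 w hwV).eq]; group
        _ = _ := by rw [e1]
    have e3 : x * h ^ 2 * x⁻¹ = h ^ 2 := by
      have e4 : h ^ 2 = (h * c) * (h * c⁻¹) := by
        rw [mul_assoc, ← mul_assoc c, ← hhc.eq, mul_assoc, mul_inv_cancel, mul_one, pow_two]
      rw [e4]
      calc x * (h * c * (h * c⁻¹)) * x⁻¹ = (x * (h * c) * x⁻¹) * (x * (h * c⁻¹) * x⁻¹) := by group
        _ = _ := by rw [e1, e2]
    exact mul_inv_eq_iff_eq_mul.1 (sqinj h hhN x e3)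
  · have h2 : w * (h * c) = h * c * w := (hsub ⟨hwV, hwh⟩).2
    have h3 : h * c⁻¹ = h * c := by rw [← hwhc, h2, mul_inv_cancel_right]
    have h4 : c ^ 2 = 1 := by
      rw [pow_two]
      nth_rewrite 1 [← mul_left_cancel h3]
      exact inv_mul_cancel c
    obtain ⟨k, hk⟩ := exists_pow_eq_self_of_coprime (x := c) (n := 2) (hodd c hc).coprime_two_left
    exact hc1 (by rw [← hk, h4, one_pow])

variable {G : Type*} [Group G] [Finite G]

/-- The other components. -/
def others (L : Subgroup G) : Subgroup G := sSup {K : Subgroup G | Cfsg.IsComponent K ∧ K ≠ L}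

theorem commute_others {L : Subgroup G} (hL : Cfsg.IsComponent L) {a b : G} (ha : a ∈ L)
    (hb : b ∈ others L) : Commute a b :=
  CfsgLib.Components.commute_of_commutator_eq_bot (by
    rw [commutator_comm]
    exact CfsgLib.Components.commutator_sSup_eq_bot fun K hK =>
      CfsgLib.Components.commutator_components_eq_bot hK.1 hL hK.2) ha hb

theorem others_inter {L : Subgroup G} (hL : Cfsg.IsComponent L)
    (hZ : L ⊓ centralizer (L : Set G) = ⊥) {a : G} (ha : a ∈ L) (hb : a ∈ others L) : a = 1 := by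
  have : a ∈ L ⊓ centralizer (L : Set G) :=
    ⟨ha, mem_centralizer_iff.2 fun l hl => (commute_others hL hl hb).eq⟩
  rwa [hZ, mem_bot] at this

theorem mul_unique {L : Subgroup G} (hL : Cfsg.IsComponent L) (hZ : L ⊓ centralizer (L : Set G) = ⊥)
    {a a' b b' : G} (ha : a ∈ L) (ha' : a' ∈ L) (hb : b ∈ others L) (hb' : b' ∈ others L)
    (h : a * b = a' * b') : a = a' ∧ b = b' := by
  have h1 : a'⁻¹ * a = b' * b⁻¹ := by
    rw [eq_mul_inv_iff_mul_eq, mul_assoc, h, inv_mul_cancel_left]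
  have h2 : a = a' := (inv_mul_eq_one.1 (others_inter hL hZ (mul_mem (inv_mem ha') ha)
    (by rw [h1]; exact mul_mem hb' (inv_mem hb)))).symm
  subst h2
  exact ⟨rfl, mul_left_cancel h⟩

theorem exists_decomp {L : Subgroup G} (hL : Cfsg.IsComponent L) {g : G}
    (hg : g ∈ Cfsg.layer G) : ∃ a ∈ L, ∃ b ∈ others L, a * b = g := by
  have h : Cfsg.layer G ≤ L ⊔ others L := sSup_le fun K hK => by
    rcases eq_or_ne K L with rfl | hne
    · exact le_sup_left
    · exact (le_sSup (s := {K : Subgroup G | Cfsg.IsComponent K ∧ K ≠ L}) ⟨hK, hne⟩).trans le_sup_right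
  have hn : L ≤ normalizer (others L : Set G) := fun a ha =>
    centralizer_le_normalizer _ (mem_centralizer_iff.2 fun b hb => (commute_others hL ha hb).eq.symm)
  have := h hg
  rw [← SetLike.mem_coe, coe_mul_of_left_le_normalizer_right _ _ hn] at this
  obtain ⟨a, ha, b, hb, rfl⟩ := this
  exact ⟨a, ha, b, hb, rfl⟩

theorem map_others {L : Subgroup G} (g : G) {b : G} (hb : b ∈ others L) :
    g * b * g⁻¹ ∈ others (L.map (MulAut.conj g).toMonoidHom) := by
  have h : others L ≤ (others (L.map (MulAut.conj g).toMonoidHom)).comap (MulAut.conj g).toMonoidHom :=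
    sSup_le fun K hK => map_le_iff_le_comap.1 (le_sSup
      (s := {K' : Subgroup G | Cfsg.IsComponent K' ∧ K' ≠ L.map (MulAut.conj g).toMonoidHom})
      ⟨CfsgLib.Components.isComponent_conj g hK.1, fun e =>
        hK.2 (map_injective (MulAut.conj g).injective e)⟩)
  exact h hb


/-- Minimal counterexample reduction for the Sidki pair problem. Let G be a finite group and V a nontrivial elementary abelian 2-subgroup satisfying the Sidki pair condition with V ∩ O₂(G) = 1. Suppose that for every finite group H of smaller order, every nontrivial elementary abelian 2-subgroup W of H satisfying the Sidki pair condition meets O₂(H) nontrivially, and that the same holds in G for every such subgroup W of order smaller than that of V. Then the generalized Fitting subgroup F*(G) is a non-abelian simple group and G = V F*(G). -/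
theorem result {G : Type u} [Group G] [Finite G] (V : Subgroup G) (hV : Cfsg.IsElementaryAbelian 2 V) (hV1 : V ≠ ⊥) (hS : Cfsg.IsSidkiPair V) (hVO : V ⊓ Cfsg.pCore 2 G = ⊥) (hminG : ∀ (H : Type u) [Group H] [Finite H] (W : Subgroup H), Nat.card H < Nat.card G → Cfsg.IsElementaryAbelian 2 W → W ≠ ⊥ → Cfsg.IsSidkiPair W → W ⊓ Cfsg.pCore 2 H ≠ ⊥) (hminV : ∀ W : Subgroup G, Nat.card W < Nat.card V → Cfsg.IsElementaryAbelian 2 W → W ≠ ⊥ → Cfsg.IsSidkiPair W → W ⊓ Cfsg.pCore 2 G ≠ ⊥) : IsSimpleGroup ↥(Cfsg.generalizedFittingSubgroup G) ∧ ¬ IsMulCommutative ↥(Cfsg.generalizedFittingSubgroup G) ∧ V ⊔ Cfsg.generalizedFittingSubgroup G = ⊤ := by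
  haveI : Fact (Nat.Prime 2) := ⟨Nat.prime_two⟩
  haveI hOn : ∀ (K : Type u) [Group K] [Finite K], (Cfsg.pCore 2 K).Normal := fun K _ _ =>
    Subgroup.sSup_normal _ fun _ h => h.1
  have hVc : ∀ a ∈ V, ∀ b ∈ V, Commute a b := fun a ha b hb =>
    congrArg Subtype.val (hV.1.is_comm.comm ⟨a, ha⟩ ⟨b, hb⟩)
  -- quotients
  have quot : ∀ (K : Subgroup G) [K.Normal], K ≠ ⊥ → V ⊓ K = ⊥ →
      ∃ w ∈ V, w ≠ 1 ∧ QuotientGroup.mk' K w ∈ Cfsg.pCore 2 (G ⧸ K) := by
    intro K _ hK hVK
    haveI := hV.1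
    have hinj : ∀ v ∈ V, QuotientGroup.mk' K v = 1 → v = 1 := fun v hv h =>
      Subgroup.mem_bot.1 (hVK ▸ (⟨hv, (QuotientGroup.eq_one_iff v).1 h⟩ : v ∈ V ⊓ K))
    have h1 := hminG (G ⧸ K) (V.map (QuotientGroup.mk' K)) ?_ ⟨inferInstance, ?_⟩ ?_
      (Cfsg.Agent.S3012.result V K hV hV1 hS hVK)
    · obtain ⟨u, ⟨⟨w, hw, rfl⟩, hu⟩, hu1⟩ := (Subgroup.bot_or_exists_ne_one _).resolve_left h1
      exact ⟨w, hw, fun h => hu1 (by rw [h, map_one]), hu⟩
    · rw [Subgroup.card_eq_card_quotient_mul_card_subgroup K]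
      exact lt_mul_of_one_lt_right Nat.card_pos (K.one_lt_card_iff_ne_bot.2 hK)
    · rintro _ ⟨v, hv, rfl⟩
      rw [← map_pow, hV.2 v hv, map_one]
    · obtain ⟨v, hv, hv1⟩ := (Subgroup.bot_or_exists_ne_one V).resolve_left hV1
      exact fun h => hv1 (hinj v hv (Subgroup.mem_bot.1 (h ▸ Subgroup.mem_map_of_mem _ hv)))
  -- `O₂(G) = 1`
  have hO : Cfsg.pCore 2 G = ⊥ := by
    by_contra hne
    obtain ⟨w, hw, hw1, hu⟩ := quot _ hne hVO
    rw [CfsgLib.PCore.pCore_quotient_pCore, Subgroup.mem_bot, QuotientGroup.mk'_apply,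
      QuotientGroup.eq_one_iff] at hu
    exact hw1 (Subgroup.mem_bot.1 (hVO ▸ (⟨hw, hu⟩ : w ∈ V ⊓ Cfsg.pCore 2 G)))
  -- proper subgroups
  have subg : ∀ (C W : Subgroup G), C ≠ ⊤ → W ≤ C → W ≤ V → W ≠ ⊥ →
      Cfsg.IsSidkiPair (W.subgroupOf C) → ∃ t : C, (t : G) ∈ W ∧ t ≠ 1 ∧ t ∈ Cfsg.pCore 2 C := by
    intro C W hC hWC hWV hW1 hWS
    haveI := hV.1
    haveI : IsMulCommutative W := ⟨⟨fun a b => Subtype.ext (hVc a (hWV a.2) b (hWV b.2)).eq⟩⟩
    have h1 := hminG C (W.subgroupOf C)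
      ((Subgroup.card_le_card_group C).lt_of_ne fun e => hC (Subgroup.eq_top_of_card_eq C e))
      ⟨inferInstance, fun a ha => Subtype.ext (by
        simpa using hV.2 _ (hWV (Subgroup.mem_subgroupOf.1 ha)))⟩
      (fun h => hW1 (by
        rwa [Subgroup.subgroupOf_eq_bot, disjoint_iff, inf_eq_left.2 hWC] at h)) hWS
    obtain ⟨t, ⟨ht, ht'⟩, ht1⟩ := (Subgroup.bot_or_exists_ne_one _).resolve_left h1
    exact ⟨t, Subgroup.mem_subgroupOf.1 ht, ht1, ht'⟩
  have hnc : ∀ u ∈ V, u ≠ 1 → Subgroup.centralizer ({u} : Set G) ≠ ⊤ := by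
    intro u hu hu1 htop
    refine hu1 (Subgroup.mem_bot.1 (hO ▸ CfsgLib.PCore.le_pCore (N := Subgroup.zpowers u) ⟨fun z hz g => ?_⟩
      (fun z => ⟨1, ?_⟩) (Subgroup.mem_zpowers u)))
    · obtain ⟨i, rfl⟩ := hz
      have hg := Subgroup.mem_centralizer_singleton_iff.1 (htop ▸ Subgroup.mem_top g)
      show g * u ^ i * g⁻¹ ∈ _
      rw [(show Commute g u from hg).zpow_right i, mul_inv_cancel_right]
      exact zpow_mem (Subgroup.mem_zpowers u) i
    · apply Subtype.ext
      obtain ⟨i, hi⟩ := z.2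
      have h2 : (u ^ i) ^ 2 = 1 := by
        rw [← zpow_natCast, ← zpow_mul, mul_comm, zpow_mul, zpow_natCast, hV.2 u hu, one_zpow]
      simpa [← hi] using h2
  -- no element of `V` centralizes a nontrivial normal subgroup
  have hCN : ∀ (N : Subgroup G), N.Normal → N ≠ ⊥ → ∀ u ∈ V, (∀ n ∈ N, u * n = n * u) → u = 1 := by
    intro N hN hNb
    haveI := hN
    set M := Subgroup.centralizer (N : Set G) with hM
    haveI : M.Normal := inferInstance
    have hmemM : ∀ u : G, u ∈ M ↔ ∀ n ∈ N, u * n = n * u := fun u =>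
      Subgroup.mem_centralizer_iff.trans ⟨fun h n hn => (h n hn).symm, fun h n hn => (h n hn).symm⟩
    suffices hU : V ⊓ M = ⊥ from fun u hu hc => Subgroup.mem_bot.1 (hU ▸ ⟨hu, (hmemM u).2 hc⟩)
    by_contra hU
    by_cases hMt : M = ⊤
    · -- `N` is central of odd order
      have hNc : ∀ g : G, ∀ n ∈ N, g * n = n * g := fun g => (hmemM g).1 (hMt ▸ Subgroup.mem_top g)
      have hVN : V ⊓ N = ⊥ := by
        refine (Subgroup.eq_bot_iff_forall _).2 fun v hv => ?_
        by_contra hv1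
        refine hnc v hv.1 hv1 (top_le_iff.1 fun g _ => Subgroup.mem_centralizer_singleton_iff.2 ?_)
        exact hNc g v hv.2
      obtain ⟨w, hw, hw1, hwO⟩ := quot N hNb hVN
      haveI := hOn (G ⧸ N)
      set L := (Cfsg.pCore 2 (G ⧸ N)).comap (QuotientGroup.mk' N) with hL
      have hNL : N ≤ L := fun n hn => by
        rw [hL, Subgroup.mem_comap, QuotientGroup.mk'_apply, (QuotientGroup.eq_one_iff n).2 hn]
        exact one_mem _
      have hwp : IsPGroup 2 (Subgroup.zpowers (⟨w, hwO⟩ : L)) := by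
        refine IsPGroup.of_card (n := 1) ?_
        rw [Nat.card_zpowers, ← Subgroup.orderOf_coe, pow_one]
        exact orderOf_eq_prime (hV.2 w hw) hw1
      obtain ⟨S, hS'⟩ := hwp.exists_le_sylow
      haveI : (N.subgroupOf L).Normal := hN.subgroupOf L
      have hq : IsPGroup 2 (L ⧸ N.subgroupOf L) := by
        intro l
        obtain ⟨l, rfl⟩ := QuotientGroup.mk_surjective l
        obtain ⟨k, hk⟩ := CfsgLib.PCore.pCore_isPGroup (p := 2) (G := G ⧸ N) ⟨_, l.2⟩
        refine ⟨k, ?_⟩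
        rw [← QuotientGroup.mk_pow, QuotientGroup.eq_one_iff, Subgroup.mem_subgroupOf,
          SubgroupClass.coe_pow, ← QuotientGroup.eq_one_iff, QuotientGroup.mk_pow]
        exact congrArg Subtype.val hk
      have hsup : (S : Subgroup L) ⊔ N.subgroupOf L = ⊤ := by
        refine Subgroup.index_eq_one.1 ?_
        have h1 : ((S : Subgroup L) ⊔ N.subgroupOf L).index ∣ (N.subgroupOf L).index :=
          Subgroup.index_dvd_of_le le_sup_right
        have h2 : ((S : Subgroup L) ⊔ N.subgroupOf L).index ∣ (S : Subgroup L).index :=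
          Subgroup.index_dvd_of_le le_sup_left
        obtain ⟨k, hk⟩ := hq.exists_card_eq
        rw [← Subgroup.index_eq_card] at hk
        refine Nat.eq_one_of_dvd_coprimes ?_ (hk ▸ h1) h2
        exact ((Nat.prime_two.coprime_iff_not_dvd).2 S.not_dvd_index).pow_left k
      haveI hSn : (S : Subgroup L).Normal := by
        rw [← Subgroup.normalizer_eq_top_iff, eq_top_iff, ← hsup]
        refine sup_le Subgroup.le_normalizer (le_trans ?_ (Subgroup.centralizer_le_normalizer _))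
        intro n hn
        exact Subgroup.mem_centralizer_iff.2 fun s _ => Subtype.ext (hNc _ _ hn)
      have h2 : (S : Subgroup L).map L.subtype ≤ ⊥ := by
        rw [← hO]
        refine le_trans (Subgroup.map_mono (CfsgLib.PCore.le_pCore hSn S.isPGroup')) ?_
        rw [CfsgLib.PCore.map_pCore_subtype_of_normal]
        exact inf_le_right
      exact hw1 (Subgroup.mem_bot.1 (h2 ⟨_, hS' (Subgroup.mem_zpowers _), rfl⟩))
    · -- `V ⊓ M` satisfies the pair condition in `M`
      have hUS : Cfsg.IsSidkiPair ((V ⊓ M).subgroupOf M) := by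
        rintro h v hv hodd hinv
        rw [Subgroup.mem_subgroupOf] at hv
        have hinv' : (v : G) * h * (v : G)⁻¹ = (h : G)⁻¹ := congrArg Subtype.val hinv
        have hodd' : Odd (orderOf (h : G)) := by rwa [Subgroup.orderOf_coe]
        rcases eq_or_ne (v : G) 1 with hv1 | hv1
        · obtain ⟨w, hw, hw1⟩ := (Subgroup.bot_or_exists_ne_one _).resolve_left hU
          have hh : (h : G) = 1 := by
            rw [hv1, one_mul, inv_one, mul_one] at hinv'
            have h2 : (h : G) ^ 2 = 1 := by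
              rw [pow_two]; nth_rewrite 1 [hinv']; exact inv_mul_cancel _
            obtain ⟨k, hk⟩ := exists_pow_eq_self_of_coprime (x := (h : G)) (n := 2) hodd'.coprime_two_left
            rw [← hk, h2, one_pow]
          exact ⟨⟨w, hw.2⟩, hw, fun e => hw1 (congrArg Subtype.val e), Subtype.ext (by simp [hh])⟩
        obtain ⟨hC1, hC2⟩ := Cfsg.Agent.S3013.result V hV hV1 hS (v : G) (h : G) hv.1 hodd' hinv' _ rfl
        set C := Subgroup.centralizer ({(v : G)} : Set G) ⊓ Subgroup.centralizer ({(h : G)} : Set G)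
        have hNC : N ≤ C := fun n hn =>
          ⟨Subgroup.mem_centralizer_singleton_iff.2 ((hmemM _).1 v.2 n hn).symm,
            Subgroup.mem_centralizer_singleton_iff.2 ((hmemM _).1 h.2 n hn).symm⟩
        obtain ⟨t, ht, ht1, htO⟩ := subg C (C ⊓ V)
          (fun e => hnc _ hv.1 hv1 (top_le_iff.1 (e.ge.trans inf_le_left))) inf_le_left inf_le_right
          hC1 hC2
        have htN : ∀ n ∈ N, (t : G) * n = n * t := by
          intro n hn
          haveI := hN.subgroupOf C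
          haveI hOC := hOn C
          have h1 : (⁅t, (⟨n, hNC hn⟩ : C)⁆ : C) ∈ Cfsg.pCore 2 C ⊓ N.subgroupOf C :=
            Subgroup.commutator_le_inf _ _ (Subgroup.commutator_mem_commutator htO
              (show (⟨n, hNC hn⟩ : C) ∈ N.subgroupOf C from hn))
          have h2 : ((⁅t, (⟨n, hNC hn⟩ : C)⁆ : C) : G) ∈ Cfsg.pCore 2 G := by
            have hcN : ((⁅t, (⟨n, hNC hn⟩ : C)⁆ : C) : G) ∈ N := Subgroup.mem_subgroupOf.1 h1.2
            have hp : IsPGroup 2 (((Cfsg.pCore 2 C).map C.subtype).subgroupOf N) :=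
              (CfsgLib.PCore.pCore_isPGroup.map _).comap_subtype
            have hnn : (((Cfsg.pCore 2 C).map C.subtype).subgroupOf N).Normal := by
              refine ⟨fun z hz g => ?_⟩
              obtain ⟨c, hc, hcz⟩ := hz
              refine ⟨⟨g, hNC g.2⟩ * c * ⟨g, hNC g.2⟩⁻¹, hOC.conj_mem c hc _, ?_⟩
              simp only [map_mul, map_inv, Subgroup.coe_mul, Subgroup.coe_inv, hcz]
              rfl
            have h3 := Subgroup.map_mono (f := N.subtype) (CfsgLib.PCore.le_pCore hnn hp)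
              ⟨⟨_, hcN⟩, ⟨_, h1.1, rfl⟩, rfl⟩
            rw [CfsgLib.PCore.map_pCore_subtype_of_normal] at h3
            exact h3.2
          rw [hO, Subgroup.mem_bot] at h2
          exact commutatorElement_eq_one_iff_mul_comm.1 (show ⁅(t : G), n⁆ = 1 from h2)
        refine ⟨⟨t, (hmemM _).2 htN⟩, ⟨ht.2, (hmemM _).2 htN⟩,
          fun e => ht1 (Subtype.ext (by simpa using congrArg Subtype.val e)), Subtype.ext ?_⟩
        exact Subgroup.mem_centralizer_singleton_iff.1 t.2.2
      obtain ⟨t, ht, ht1, htO⟩ := subg M (V ⊓ M) hMt inf_le_right inf_le_left hU hUS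
      have h3 : (t : G) ∈ (Cfsg.pCore 2 M).map M.subtype := ⟨t, htO, rfl⟩
      rw [CfsgLib.PCore.map_pCore_subtype_of_normal, hO, inf_bot_eq, Subgroup.mem_bot] at h3
      exact ht1 (Subtype.ext h3)
  -- the Fitting subgroup is trivial
  have hF : Cfsg.fittingSubgroup G = ⊥ := by
    by_contra hne
    haveI := CfsgLib.Fitting.fitting_normal (G := G)
    haveI := CfsgLib.Fitting.fitting_isNilpotent (G := G)
    haveI := (Subgroup.nontrivial_iff_ne_bot _).2 hne
    set N := (Subgroup.center (Cfsg.fittingSubgroup G)).map (Cfsg.fittingSubgroup G).subtype with hN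
    have hNn : N.Normal := inferInstance
    have hNb : N ≠ ⊥ := by
      rw [hN, Ne, Subgroup.map_eq_bot_iff_of_injective _ (Subgroup.subtype_injective _)]
      exact Group.IsNilpotent.center_ne_bot _
    have hab : ∀ a ∈ N, ∀ b ∈ N, a * b = b * a := by
      rintro _ ⟨a, ha, rfl⟩ _ ⟨b, -, rfl⟩
      exact congrArg Subtype.val (Subgroup.mem_center_iff.1 ha b).symm
    have hodd : ∀ a ∈ N, Odd (orderOf a) := by
      intro a ha
      by_contra h
      have h2 : 2 ∣ orderOf a := (Nat.not_odd_iff_even.1 h).two_dvd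
      set b := a ^ (orderOf a / 2) with hb
      have hbo : orderOf b = 2 := orderOf_pow_orderOf_div (orderOf_pos a).ne' h2
      let T : Subgroup G :=
        { carrier := {z | z ∈ N ∧ z ^ 2 = 1}
          one_mem' := ⟨one_mem N, one_pow 2⟩
          mul_mem' := fun {x y} hx hy => ⟨mul_mem hx.1 hy.1, by
            rw [(show Commute x y from hab x hx.1 y hy.1).mul_pow, hx.2, hy.2, one_mul]⟩
          inv_mem' := fun {x} hx => ⟨inv_mem hx.1, by rw [inv_pow, hx.2, inv_one]⟩ }
      have hT : T.Normal := ⟨fun z hz g => ⟨hNn.conj_mem z hz.1 g, by rw [conj_pow, hz.2]; group⟩⟩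
      have hb' : b ∈ T := ⟨pow_mem ha _, by rw [← hbo, pow_orderOf_eq_one]⟩
      have := CfsgLib.PCore.le_pCore (p := 2) hT
        (fun z => ⟨1, Subtype.ext (by simpa using z.2.2)⟩) hb'
      rw [hO, Subgroup.mem_bot] at this
      rw [this, orderOf_one] at hbo
      exact absurd hbo (by decide)
    obtain ⟨w, hw, hw1, hwc⟩ := exists_centralizing_abelian V N hV hV1 hS hab hodd
    exact hw1 (hCN N hNn hNb w hw hwc)
  have hFS : Cfsg.generalizedFittingSubgroup G = Cfsg.layer G := by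
    rw [Cfsg.generalizedFittingSubgroup, hF, sup_bot_eq]
  have hCE : Subgroup.centralizer (Cfsg.layer G : Set G) = ⊥ :=
    le_bot_iff.1 (hF ▸ hFS ▸ CfsgLib.Components.centralizer_generalizedFitting_le_fitting)
  haveI hEn : (Cfsg.layer G).Normal := inferInstance
  have hEb : Cfsg.layer G ≠ ⊥ := by
    intro h
    obtain ⟨v, -, hv1⟩ := (Subgroup.bot_or_exists_ne_one V).resolve_left hV1
    have : v ∈ Subgroup.centralizer (Cfsg.layer G : Set G) :=
      Subgroup.mem_centralizer_iff.2 fun e he => by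
        rw [SetLike.mem_coe, h, Subgroup.mem_bot] at he; simp [he]
    exact hv1 (Subgroup.mem_bot.1 (hCE ▸ this))
  obtain ⟨L, hL⟩ : ∃ L : Subgroup G, Cfsg.IsComponent L := by
    by_contra h
    exact hEb (le_bot_iff.1 (sSup_le fun K hK => absurd ⟨K, hK⟩ h))
  -- `G = E V`
  have hGEV : V ⊔ Cfsg.layer G = ⊤ := by
    by_contra hne
    set H := V ⊔ Cfsg.layer G with hH
    have hVH : Cfsg.IsSidkiPair (V.subgroupOf H) := by
      rintro h v hv hodd hinv
      obtain ⟨w, hw, hw1, hwh⟩ := hS h v hv (by rwa [Subgroup.orderOf_coe])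
        (congrArg Subtype.val hinv)
      exact ⟨⟨w, Subgroup.mem_sup_left hw⟩, hw, fun e => hw1 (congrArg Subtype.val e), Subtype.ext hwh⟩
    obtain ⟨t, -, ht1, htO⟩ := subg H V hne le_sup_left le_rfl hV1 hVH
    haveI hE' : ((Cfsg.layer G).subgroupOf H).Normal := hEn.subgroupOf H
    haveI hOH := hOn H
    refine ht1 (Subtype.ext ?_)
    have : (t : G) ∈ Subgroup.centralizer (Cfsg.layer G : Set G) := by
      refine Subgroup.mem_centralizer_iff.2 fun e he => ?_
      let e' : H := ⟨e, Subgroup.mem_sup_right he⟩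
      have h1 : (⁅t, e'⁆ : H) ∈ Cfsg.pCore 2 H ⊓ (Cfsg.layer G).subgroupOf H :=
        Subgroup.commutator_le_inf _ _ (Subgroup.commutator_mem_commutator htO
          (show e' ∈ (Cfsg.layer G).subgroupOf H from he))
      have hk : IsPGroup 2 (((Cfsg.pCore 2 H).map H.subtype).subgroupOf (Cfsg.layer G)) :=
        (CfsgLib.PCore.pCore_isPGroup.map _).comap_subtype
      have hkn : (((Cfsg.pCore 2 H).map H.subtype).subgroupOf (Cfsg.layer G)).Normal := by
        refine ⟨fun z hz g => ?_⟩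
        obtain ⟨c, hc, hcz⟩ := hz
        refine ⟨⟨g, Subgroup.mem_sup_right g.2⟩ * c * ⟨g, Subgroup.mem_sup_right g.2⟩⁻¹,
          hOH.conj_mem c hc _, ?_⟩
        simp only [map_mul, map_inv, Subgroup.coe_mul, Subgroup.coe_inv, hcz]
        rfl
      have h3 := Subgroup.map_mono (f := (Cfsg.layer G).subtype) (CfsgLib.PCore.le_pCore hkn hk)
        ⟨⟨((⁅t, e'⁆ : H) : G), Subgroup.mem_subgroupOf.1 h1.2⟩, ⟨_, h1.1, rfl⟩, rfl⟩
      rw [CfsgLib.PCore.map_pCore_subtype_of_normal, hO, inf_bot_eq, Subgroup.mem_bot] at h3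
      exact (commutatorElement_eq_one_iff_mul_comm.1 (show ⁅(t : G), e⁆ = 1 from h3)).symm
    exact Subgroup.mem_bot.1 (hCE ▸ this)
  have hoddE : ∀ h : G, Odd (orderOf h) → h ∈ Cfsg.layer G := by
    intro h hh
    have hg : h ∈ ((V ⊔ Cfsg.layer G : Subgroup G) : Set G) := by rw [hGEV]; trivial
    rw [Subgroup.mul_normal] at hg
    obtain ⟨v, hv, e, he, hve⟩ := hg
    have h2 : h ^ 2 ∈ Cfsg.layer G := by
      have hv' : v⁻¹ = v := inv_eq_of_mul_eq_one_right (by simpa [pow_two] using hV.2 v hv)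
      rw [pow_two, ← hve, show v * e * (v * e) = (v * e * v⁻¹) * (v * v) * e by group]
      rw [show v * v = 1 by simpa [pow_two] using hV.2 v hv, mul_one]
      exact mul_mem (hEn.conj_mem e he v) he
    obtain ⟨k, hk⟩ := exists_pow_eq_self_of_coprime (x := h) (n := 2) hh.coprime_two_left
    exact hk ▸ pow_mem h2 k
  have hcen : ∀ K : Subgroup G, Cfsg.IsComponent K → K ⊓ Subgroup.centralizer (K : Set G) = ⊥ := by
    intro K hK
    refine le_bot_iff.1 (le_trans ?_ hCE.le)
    refine le_trans ?_ (show Cfsg.layer G ⊓ Subgroup.centralizer (Cfsg.layer G : Set G) ≤ _ from inf_le_right)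
    rw [CfsgLib.Components.center_layer_eq]
    exact le_iSup_of_le (⟨K, hK⟩ : {K : Subgroup G // Cfsg.IsComponent K}) le_rfl
  -- `V` is transitive on components
  set cj : G → Subgroup G → Subgroup G := fun g K => K.map (MulAut.conj g).toMonoidHom with hcj
  have cjmul : ∀ a b : G, ∀ K, cj a (cj b K) = cj (a * b) K := fun a b K => by
    simp only [hcj, Subgroup.map_map]
    congr 1
    ext x
    simp [mul_assoc]
  have cjE : ∀ e ∈ Cfsg.layer G, ∀ K, Cfsg.IsComponent K → cj e K = K := fun e he K hK =>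
    Subgroup.mem_normalizer_iff_map_conj_eq.1 (CfsgLib.Components.layer_le_normalizer_component hK he)
  have htr : ∀ K, Cfsg.IsComponent K → ∃ v ∈ V, cj v L = K := by
    intro K hK
    by_contra hKO
    set O : Set (Subgroup G) := {K' | ∃ v ∈ V, cj v L = K'}
    set O' : Set (Subgroup G) := {K' | Cfsg.IsComponent K' ∧ K' ∉ O}
    have hinvE : ∀ S : Set (Subgroup G), (∀ K' ∈ S, Cfsg.IsComponent K') →
        (∀ K' ∈ S, ∀ v ∈ V, cj v K' ∈ S) → (sSup S).Normal := by
      intro S hSc hSV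
      rw [← Subgroup.normalizer_eq_top_iff, eq_top_iff, ← hGEV, sup_le_iff]
      refine ⟨?_, ?_⟩
      · refine Subgroup.le_normalizer_iff.2 fun v hv z hz => ?_
        have h1 : sSup S ≤ (sSup S).comap (MulAut.conj v).toMonoidHom :=
          sSup_le fun K' hK' => Subgroup.map_le_iff_le_comap.1 (le_sSup (hSV K' hK' v hv))
        exact h1 hz
      · refine Subgroup.le_normalizer_iff.2 fun e he z hz => ?_
        have h1 : sSup S ≤ (sSup S).comap (MulAut.conj e).toMonoidHom :=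
          sSup_le fun K' hK' => Subgroup.map_le_iff_le_comap.1
            (by rw [show K'.map (MulAut.conj e).toMonoidHom = K' from cjE e he K' (hSc K' hK')]
                exact le_sSup hK')
        exact h1 hz
    have hOc : ∀ K' ∈ O, Cfsg.IsComponent K' := by
      rintro _ ⟨v, -, rfl⟩; exact CfsgLib.Components.isComponent_conj v hL
    have hOn' : (sSup O).Normal := hinvE O hOc (by
      rintro _ ⟨w, hw, rfl⟩ v hv; exact ⟨v * w, mul_mem hv hw, (cjmul v w L).symm⟩)
    have hO'n : (sSup O').Normal := hinvE O' (fun K' h => h.1) (by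
      rintro K' ⟨hK', hK'O⟩ v hv
      refine ⟨CfsgLib.Components.isComponent_conj v hK', ?_⟩
      rintro ⟨w, hw, e⟩
      refine hK'O ⟨v⁻¹ * w, mul_mem (inv_mem hv) hw, ?_⟩
      rw [← cjmul, e, cjmul, inv_mul_cancel]
      exact Subgroup.mem_normalizer_iff_map_conj_eq.1 (one_mem _))
    haveI := hOn'
    haveI := hO'n
    have hcomm : ⁅sSup O, sSup O'⁆ = ⊥ := by
      refine CfsgLib.Components.commutator_sSup_eq_bot fun A hA => ?_
      rw [Subgroup.commutator_comm]
      refine CfsgLib.Components.commutator_sSup_eq_bot fun B hB => ?_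
      exact CfsgLib.Components.commutator_components_eq_bot hB.1 (hOc A hA)
        (fun e => hB.2 (e ▸ hA))
    have hOb : sSup O ≠ ⊥ := fun e => CfsgLib.Components.component_ne_bot hL (le_bot_iff.1
      (e ▸ le_sSup (s := O) ⟨1, one_mem V, Subgroup.mem_normalizer_iff_map_conj_eq.1 (one_mem _)⟩))
    have hO'b : sSup O' ≠ ⊥ := fun e => CfsgLib.Components.component_ne_bot hK (le_bot_iff.1
      (e ▸ le_sSup (s := O') ⟨hK, hKO⟩))
    have hdis : sSup O ⊓ sSup O' = ⊥ := by
      refine le_bot_iff.1 (fun z hz => ?_)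
      have hsup : Cfsg.layer G ≤ sSup O ⊔ sSup O' := sSup_le fun A hA => by
        by_cases h : A ∈ O
        · exact (le_sSup h).trans le_sup_left
        · exact (le_sSup (s := O') ⟨hA, h⟩).trans le_sup_right
      rw [← hCE]
      refine Subgroup.centralizer_le (SetLike.coe_subset_coe.2 hsup) (Subgroup.mem_centralizer_iff.2 fun a ha => ?_)
      have hle : sSup O ⊔ sSup O' ≤ Subgroup.centralizer {z} := sup_le
        (fun a ha => Subgroup.mem_centralizer_singleton_iff.2
          (CfsgLib.Components.commute_of_commutator_eq_bot hcomm ha hz.2))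
        (fun a ha => Subgroup.mem_centralizer_singleton_iff.2
          (CfsgLib.Components.commute_of_commutator_eq_bot hcomm hz.1 ha).symm)
      exact Subgroup.mem_centralizer_singleton_iff.1 (hle ha)
    have hVK : V ⊓ sSup O = ⊥ := (Subgroup.eq_bot_iff_forall _).2 fun v hv =>
      hCN _ hO'n hO'b v hv.1 fun n hn => CfsgLib.Components.commute_of_commutator_eq_bot hcomm hv.2 hn
    obtain ⟨w, hw, hw1, hwO⟩ := quot _ hOb hVK
    haveI := hOn (G ⧸ sSup O)
    refine hw1 (hCN _ hO'n hO'b w hw fun n hn => ?_)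
    set X := (Cfsg.pCore 2 (G ⧸ sSup O)).comap (QuotientGroup.mk' (sSup O))
    haveI : X.Normal := Subgroup.Normal.comap inferInstance _
    have hX2 : IsPGroup 2 (X ⊓ sSup O' : Subgroup G) := by
      intro z
      obtain ⟨k, hk⟩ := CfsgLib.PCore.pCore_isPGroup (p := 2) (G := G ⧸ sSup O)
        ⟨_, Subgroup.mem_comap.1 z.2.1⟩
      refine ⟨k, Subtype.ext ?_⟩
      have h1 : (z : G) ^ 2 ^ k ∈ sSup O := by
        rw [← QuotientGroup.eq_one_iff, QuotientGroup.mk_pow]
        exact congrArg Subtype.val hk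
      exact Subgroup.mem_bot.1 (hdis ▸ (⟨h1, pow_mem z.2.2 _⟩ : (z : G) ^ 2 ^ k ∈ sSup O ⊓ sSup O'))
    have h1 : ⁅w, n⁆ ∈ Cfsg.pCore 2 G := CfsgLib.PCore.le_pCore inferInstance hX2
      (Subgroup.commutator_le_inf _ _ (Subgroup.commutator_mem_commutator (H₁ := X) (H₂ := sSup O') hwO hn))
    rw [hO, Subgroup.mem_bot] at h1
    exact commutatorElement_eq_one_iff_mul_comm.1 h1
  -- the stabilizer of a component
  set V₀ := V ⊓ Subgroup.normalizer (L : Set G) with hV₀
  have hV₀fix : ∀ v ∈ V, ∀ K, Cfsg.IsComponent K → (cj v K = K ↔ v ∈ V₀) := by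
    intro v hv K hK
    obtain ⟨u, hu, rfl⟩ := htr K hK
    rw [cjmul, (hVc v hv u hu).eq, ← cjmul]
    refine ⟨fun e => ⟨hv, Subgroup.mem_normalizer_iff_map_conj_eq.2
      (Subgroup.map_injective (MulAut.conj u).injective e)⟩, fun h => ?_⟩
    rw [show cj v L = L from Subgroup.mem_normalizer_iff_map_conj_eq.1 h.2]
  rw [hFS]
  suffices huniq : ∀ K, Cfsg.IsComponent K → K = L by
    have hEL : Cfsg.layer G = L :=
      le_antisymm (sSup_le fun K hK => (huniq K hK).le) (CfsgLib.Components.component_le_layer hL)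
    refine ⟨?_, ?_, hGEV⟩
    · rw [hEL]
      have hZ : Subgroup.center L = ⊥ := Subgroup.map_injective L.subtype_injective
        (by rw [CfsgLib.Components.map_center_subtype, hcen L hL, Subgroup.map_bot])
      haveI := hL.2.2
      haveI := CfsgLib.Components.quasisimple_nontrivial hL.2
      exact IsSimpleGroup.isSimpleGroup_of_surjective
        ((QuotientGroup.quotientMulEquivOfEq hZ).trans QuotientGroup.quotientBot).toMonoidHom
        ((QuotientGroup.quotientMulEquivOfEq hZ).trans QuotientGroup.quotientBot).surjective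
    · rw [hEL]; exact CfsgLib.Components.quasisimple_not_isMulCommutative hL.2
  intro K hK
  by_contra hKL
  obtain ⟨s, hs, hsL⟩ := htr K hK
  have hsV₀ : s ∉ V₀ := fun h => hKL (hsL ▸ (hV₀fix s hs L hL).2 h)
  have hV₀lt : Nat.card V₀ < Nat.card V :=
    (Subgroup.card_le_of_le inf_le_left).lt_of_ne fun e =>
      hsV₀ ((Subgroup.eq_of_le_of_card_ge (K := V) inf_le_left e.ge).ge hs)
  have hodd1 : ∀ a : G, Odd (orderOf a) → a⁻¹ = a → a = 1 := fun a ha he => by
    obtain ⟨k, hk⟩ := exists_pow_eq_self_of_coprime (x := a) (n := 2) ha.coprime_two_left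
    rw [← hk, pow_two]; nth_rewrite 1 [← he]; rw [inv_mul_cancel, one_pow]
  by_cases hV₀b : V₀ = ⊥
  · -- pair condition fails on `L × sL`
    obtain ⟨x, hxL, hxo, hx1⟩ : ∃ x ∈ L, Odd (orderOf x) ∧ x ≠ 1 := by
      by_contra hcon
      push Not at hcon
      have hL2 : IsPGroup 2 L := fun a => by
        obtain ⟨j, m, hm, ho⟩ := Nat.exists_eq_pow_mul_and_not_dvd (orderOf_pos (a : G)).ne' 2 (by decide)
        refine ⟨j, Subtype.ext (hcon _ (pow_mem a.2 _) ?_)⟩
        rw [SubgroupClass.coe_pow, orderOf_pow_of_dvd (by positivity) (ho ▸ dvd_mul_right _ _), ho,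
          Nat.mul_div_cancel_left _ (by positivity)]
        exact Nat.odd_iff.2 (by omega)
      haveI := hL2.isNilpotent
      exact CfsgLib.Components.component_not_isSolvable hL inferInstance
    have hs2 : s * s = 1 := by simpa [pow_two] using hV.2 s hs
    have hsxK : s * x⁻¹ * s⁻¹ ∈ K := hsL ▸ ⟨x⁻¹, inv_mem hxL, rfl⟩
    have hsxR : s * x⁻¹ * s⁻¹ ∈ others L := le_sSup
      (s := {K : Subgroup G | Cfsg.IsComponent K ∧ K ≠ L}) ⟨hK, hKL⟩ hsxK
    have hc : Commute x (s * x⁻¹ * s⁻¹) := commute_others hL hxL hsxR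
    set h := x * (s * x⁻¹ * s⁻¹) with hh
    have hho : Odd (orderOf h) := by
      have h1 : orderOf h ∣ Nat.lcm (orderOf x) (orderOf (s * x⁻¹ * s⁻¹)) := hc.orderOf_mul_dvd_lcm
      rw [← MulAut.conj_apply, MulEquiv.orderOf_eq, orderOf_inv, Nat.lcm_self] at h1
      exact hxo.of_dvd_nat h1
    have hinv : s * h * s⁻¹ = h⁻¹ := by
      calc s * h * s⁻¹ = (s * x * s⁻¹) * ((s * s) * x⁻¹ * (s * s)⁻¹) := by rw [hh]; group
        _ = (s * x * s⁻¹) * x⁻¹ := by rw [hs2]; group
        _ = h⁻¹ := by rw [hh]; group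
    obtain ⟨t, ht, ht1, hth⟩ := hS h s hs hho hinv
    have hth' : t * h * t⁻¹ = h := by rw [hth, mul_inv_cancel_right]
    have htL := CfsgLib.Components.isComponent_conj t hL
    by_cases htK : cj t L = K
    · have h1 : cj (t⁻¹ * s) L = L := by
        rw [← cjmul, hsL, ← htK, cjmul, inv_mul_cancel]
        exact Subgroup.mem_normalizer_iff_map_conj_eq.1 (one_mem _)
      have h2 := (hV₀fix _ (mul_mem (inv_mem ht) hs) L hL).1 h1
      rw [hV₀b, Subgroup.mem_bot, inv_mul_eq_one] at h2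
      subst h2
      rw [hinv] at hth'
      have h3 := hodd1 h hho hth'
      rw [hh] at h3
      have h4 := (mul_unique hL (hcen L hL) hxL (one_mem L) hsxR (one_mem _) (h3.trans (mul_one 1).symm)).1
      exact hx1 h4
    · have htne : cj t L ≠ L := fun e => by
        have h2 := (hV₀fix t ht L hL).1 e
        rw [hV₀b, Subgroup.mem_bot] at h2
        exact ht1 h2
      have hb : h ∈ others (cj t L) := mul_mem
        (le_sSup (s := {K' : Subgroup G | Cfsg.IsComponent K' ∧ K' ≠ cj t L}) ⟨hL, fun e => htne e.symm⟩ hxL)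
        (le_sSup (s := {K' : Subgroup G | Cfsg.IsComponent K' ∧ K' ≠ cj t L}) ⟨hK, fun e => htK e.symm⟩ hsxK)
      have h5 : (t * x * t⁻¹) * (t * (s * x⁻¹ * s⁻¹) * t⁻¹) = 1 * h := by
        rw [one_mul]; refine Eq.trans ?_ hth'; rw [hh]; group
      have h6 := (mul_unique (show Cfsg.IsComponent (cj t L) from htL) (hcen _ htL) ⟨x, hxL, rfl⟩ (one_mem _)
        (map_others t hsxR) hb h5).1
      exact hx1 (conj_eq_one_iff.1 h6)
  · -- `V₀` satisfies the pair condition
    have hV₀S : Cfsg.IsSidkiPair V₀ := by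
      intro h v hv hodd hinv
      by_contra hcon
      obtain ⟨h, ⟨hodd, hinv, hcon⟩, hmin⟩ := Set.exists_min_image
        {h : G | Odd (orderOf h) ∧ v * h * v⁻¹ = h⁻¹ ∧ ¬ ∃ w ∈ V₀, w ≠ 1 ∧ w * h = h * w}
        (fun h => {K' : Subgroup G | Cfsg.IsComponent K' ∧ h ∉ others K'}.ncard) (Set.toFinite _)
        ⟨h, hodd, hinv, hcon⟩
      obtain ⟨t, ht, ht1, hth⟩ := hS h v hv.1 hodd hinv
      have hth' : t * h * t⁻¹ = h := by rw [hth, mul_inv_cancel_right]
      have htV₀ : t ∉ V₀ := fun h' => hcon ⟨t, h', ht1, hth⟩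
      have hhE := hoddE h hodd
      obtain ⟨J, hJ, hhJ⟩ : ∃ J, Cfsg.IsComponent J ∧ h ∉ others J := by
        by_contra hc
        push Not at hc
        have hh1 : h ∈ Subgroup.centralizer (Cfsg.layer G : Set G) := by
          refine Subgroup.le_centralizer_iff.1 ?_ (Subgroup.mem_zpowers h)
          refine sSup_le fun A hA a ha => Subgroup.mem_centralizer_iff.2 ?_
          rintro _ ⟨i, rfl⟩
          exact ((commute_others hA ha (hc A hA)).zpow_right i).eq.symm
        rw [hCE, Subgroup.mem_bot] at hh1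
        obtain ⟨w, hw, hw1⟩ := (Subgroup.bot_or_exists_ne_one _).resolve_left hV₀b
        exact hcon ⟨w, hw, hw1, by simp [hh1]⟩
      set I := cj t J with hI
      have hIc : Cfsg.IsComponent I := CfsgLib.Components.isComponent_conj t hJ
      have hIJ : I ≠ J := fun e => htV₀ ((hV₀fix t ht J hJ).1 e)
      obtain ⟨c, hc, d, hd, hcd⟩ := exists_decomp hJ hhE
      obtain ⟨a, ha, b, hb, hab⟩ := exists_decomp hIc hhE
      have hbE : b ∈ Cfsg.layer G :=
        (sSup_le fun A hA => CfsgLib.Components.component_le_layer hA.1 : others I ≤ _) hb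
      obtain ⟨b₁, hb₁, b₂, hb₂, hb12⟩ := exists_decomp hJ hbE
      have hdt : (t * c * t⁻¹) * (t * d * t⁻¹) = a * b := by
        rw [hab]; refine Eq.trans ?_ hth'; rw [← hcd]; group
      have hat := (mul_unique hIc (hcen I hIc) ⟨c, hc, rfl⟩ ha (map_others t hd) hb hdt).1
      have haJ : a ∈ others J :=
        le_sSup (s := {K' : Subgroup G | Cfsg.IsComponent K' ∧ K' ≠ J}) ⟨hIc, hIJ⟩ ha
      have hcb : c = b₁ := (mul_unique hJ (hcen J hJ) hc hb₁ hd (mul_mem haJ hb₂) (by
        rw [hcd, ← hab, ← hb12, ← mul_assoc, ← mul_assoc,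
          (commute_others hJ hb₁ haJ).eq])).1
      have hstab : ∀ w ∈ V₀, ∀ A, Cfsg.IsComponent A → (∀ z ∈ A, w * z * w⁻¹ ∈ A) ∧
          (∀ z ∈ others A, w * z * w⁻¹ ∈ others A) := by
        intro w hw A hA
        have e : A.map (MulAut.conj w).toMonoidHom = A := (hV₀fix w hw.1 A hA).2 hw
        exact ⟨fun z hz => e ▸ ⟨z, hz, rfl⟩, fun z hz => e ▸ map_others w hz⟩
      have hab' : Commute a b := commute_others hIc ha hb
      obtain ⟨hva, hvb⟩ := mul_unique hIc (hcen I hIc) ((hstab v hv I hIc).1 a ha) (inv_mem ha)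
        ((hstab v hv I hIc).2 b hb) (inv_mem hb) (a := v * a * v⁻¹) (a' := a⁻¹) (b := v * b * v⁻¹)
        (b' := b⁻¹) (by
          rw [hab'.inv_inv.eq, ← mul_inv_rev, hab, ← hinv, ← hab]; group)
      have hbo : Odd (orderOf b) := by
        refine hodd.of_dvd_nat (orderOf_dvd_of_pow_eq_one ?_)
        have h1 : a ^ orderOf h * b ^ orderOf h = 1 * 1 := by
          rw [← hab'.mul_pow, hab, pow_orderOf_eq_one, mul_one]
        exact (mul_unique hIc (hcen I hIc) (pow_mem ha _) (one_mem I) (pow_mem hb _) (one_mem _) h1).2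
      have hbcon : ¬ ∃ w ∈ V₀, w ≠ 1 ∧ w * b = b * w := by
        rintro ⟨w, hw, hw1, hwb⟩
        have e1 : w * b₁ * w⁻¹ = b₁ :=
          (mul_unique hJ (hcen J hJ) ((hstab w hw J hJ).1 b₁ hb₁) hb₁ ((hstab w hw J hJ).2 b₂ hb₂) hb₂ (by
            rw [hb12, show w * b₁ * w⁻¹ * (w * b₂ * w⁻¹) = w * (b₁ * b₂) * w⁻¹ by group, hb12, hwb,
              mul_inv_cancel_right])).1
        have e2 : w * a = a * w := by
          rw [← hat, hcb]
          have hwt := hVc w hw.1 t ht
          calc w * (t * b₁ * t⁻¹) = w * t * b₁ * t⁻¹ := by group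
            _ = t * (w * b₁ * w⁻¹) * w * t⁻¹ := by rw [hwt.eq]; group
            _ = t * b₁ * (w * t⁻¹) := by rw [e1]; group
            _ = t * b₁ * t⁻¹ * w := by rw [hwt.inv_right.eq]; group
        exact hcon ⟨w, hw, hw1, hab ▸ (Commute.mul_right e2 hwb).eq⟩
      refine absurd (hmin b ⟨hbo, hvb, hbcon⟩) (not_le.2 (Set.ncard_lt_ncard ?_ (Set.toFinite _)))
      refine ⟨fun A hA => ⟨hA.1, fun hh => ?_⟩, fun hsub => ?_⟩
      · refine hA.2 ?_
        by_cases hAI : A = I
        · exact hAI ▸ hb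
        · have : a ∈ others A :=
            le_sSup (s := {K' : Subgroup G | Cfsg.IsComponent K' ∧ K' ≠ A}) ⟨hIc, fun e => hAI e.symm⟩ ha
          have h3 := mul_mem (inv_mem this) hh
          rwa [← hab, inv_mul_cancel_left] at h3
      · refine (hsub ⟨hIc, fun hh => hhJ ?_⟩).2 hb
        have ha1 : a = 1 := others_inter hIc (hcen I hIc) ha (by
          have h3 := mul_mem hh (inv_mem hb)
          rwa [← hab, mul_inv_cancel_right] at h3)
        rw [← hat] at ha1
        change t * c * t⁻¹ = 1 at ha1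
        rw [conj_eq_one_iff] at ha1
        rw [← hcd, ha1, one_mul]; exact hd
    haveI := hV.1
    have h1 := hminV V₀ hV₀lt ⟨⟨⟨fun a b => Subtype.ext (hVc a a.2.1 b b.2.1).eq⟩⟩,
      fun a ha => hV.2 a ha.1⟩ hV₀b hV₀S
    exact h1 (by rw [hO, inf_bot_eq])

end Cfsg.Agent.S3048
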