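import Cfsg.Statements.S3050
import Cfsg.Agent.Lib.SLTwoFpf.Action

set_option autoImplicit false
open Cfsg

namespace Cfsg.Agent.S3050

open Subgroup CfsgLib.SLTwoFpf
open scoped IsMulCommutative commutatorElement

theorem fpf_quot {G : Type*} [Group G] [Finite G] {Q : Subgroup G} [Q.Normal] {x : G}
    (hfpf : ∀ q ∈ Q, x * q * x⁻¹ = q → q = 1) (N : Subgroup G) [N.Normal] (hNQ : N ≤ Q) :
    ∀ a ∈ Q.map (QuotientGroup.mk' N), (x : G ⧸ N) * a * (x : G ⧸ N)⁻¹ = a → a = 1 := by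
  rintro _ ⟨q, hq, rfl⟩ he
  have hn : q⁻¹ * (x * q * x⁻¹) ∈ N := QuotientGroup.eq.1 he.symm
  let f : ↥N → ↥N := fun m => ⟨(m : G)⁻¹ * (x * m * x⁻¹),
    mul_mem (inv_mem m.2) (Normal.conj_mem inferInstance _ m.2 x)⟩
  have hinj : ∀ r ∈ Q, ∀ s ∈ Q, r⁻¹ * (x * r * x⁻¹) = s⁻¹ * (x * s * x⁻¹) → r = s := by
    intro r hr s hs h
    have h1 : x * (r * s⁻¹) * x⁻¹ = r * s⁻¹ := by
      calc x * (r * s⁻¹) * x⁻¹ = r * (r⁻¹ * (x * r * x⁻¹)) * (x * s⁻¹ * x⁻¹) := by group
        _ = r * (s⁻¹ * (x * s * x⁻¹)) * (x * s⁻¹ * x⁻¹) := by rw [h]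
        _ = r * s⁻¹ := by group
    exact mul_inv_eq_one.1 (hfpf _ (mul_mem hr (inv_mem hs)) h1)
  have hfi : Function.Injective f := fun a b h =>
    Subtype.ext (hinj a (hNQ a.2) b (hNQ b.2) (congrArg Subtype.val h))
  obtain ⟨m, hm⟩ := (Finite.injective_iff_surjective.1 hfi) ⟨_, hn⟩
  have hqm := hinj m (hNQ m.2) q hq (congrArg Subtype.val hm)
  exact (QuotientGroup.eq_one_iff q).2 (hqm ▸ m.2)

theorem exists_pow_kill {G : Type*} [Group G] [Finite G] (A : Subgroup G) [IsMulCommutative A]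
    (hA : IsPGroup 2 A) : ∃ k : ℕ, ∀ v : Additive ↥A, 2 ^ k • v = 0 := by
  have := Fact.mk Nat.prime_two
  obtain ⟨k, hk⟩ := IsPGroup.iff_card.1 hA
  exact ⟨k, fun v => congrArg Additive.ofMul (hk ▸ pow_card_eq_one' : v.toMul ^ 2 ^ k = 1)⟩

theorem class_two_abelian {G : Type*} [Group G] [Finite G] {K : Type*} [Field K] [Fintype K]
    [CharP K 2] (hK : 4 ∣ Fintype.card K) (Q : Subgroup G) [Q.Normal] (hQ : IsPGroup 2 Q)
    (e : G ⧸ Q ≃* Matrix.SpecialLinearGroup (Fin 2) K) {x : G} (hx : orderOf x = 3)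
    (hfpf : ∀ q ∈ Q, x * q * x⁻¹ = q → q = 1) (h2 : ⁅⁅Q, Q⁆, Q⁆ = ⊥) : ⁅Q, Q⁆ = ⊥ := by
  classical
  set D := ⁅Q, Q⁆ with hDdef
  have hDQ : D ≤ Q := commutator_le_left Q Q
  have hDc : D ≤ centralizer (Q : Set G) := commutator_eq_bot_iff_le_centralizer.1 h2
  have : IsMulCommutative D := ⟨⟨fun a b => Subtype.ext (hDc b.2 a (hDQ a.2))⟩⟩
  obtain ⟨σ, hσ, hσe⟩ := exists_action D hQ hDc e hx (fun a ha => hfpf a (hDQ ha))
  let π := QuotientGroup.mk' D
  set Qb := Q.map π with hQb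
  have : Qb.Normal := Normal.map inferInstance π (QuotientGroup.mk'_surjective D)
  have hQbc : ∀ a ∈ Qb, ∀ b ∈ Qb, a * b = b * a := by
    rintro _ ⟨a, ha, rfl⟩ _ ⟨b, hb, rfl⟩
    rw [← commutatorElement_eq_one_iff_mul_comm, ← map_commutatorElement]
    exact (QuotientGroup.eq_one_iff _).2 (commutator_mem_commutator ha hb)
  have : IsMulCommutative Qb := ⟨⟨fun a b => Subtype.ext (hQbc a a.2 b b.2)⟩⟩
  have hx3 : x ^ 3 = 1 := hx ▸ pow_orderOf_eq_one x
  have hxb : orderOf (x : G ⧸ D) = 3 := by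
    have := Fact.mk Nat.prime_three
    refine orderOf_eq_prime (by rw [← QuotientGroup.mk_pow, hx3]; rfl) fun h => ?_
    have hxQ : x ∈ Q := hDQ ((QuotientGroup.eq_one_iff x).1 h)
    obtain ⟨k, hk⟩ := hQ ⟨x, hxQ⟩
    have h1 := hx ▸ orderOf_dvd_of_pow_eq_one (congrArg Subtype.val hk : x ^ 2 ^ k = 1)
    exact absurd (Nat.Prime.dvd_of_dvd_pow Nat.prime_three h1) (by norm_num)
  let e' : (G ⧸ D) ⧸ Qb ≃* Matrix.SpecialLinearGroup (Fin 2) K :=
    (QuotientGroup.quotientQuotientEquivQuotient D Q hDQ).trans e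
  obtain ⟨ρ, hρ, hρe⟩ := exists_action Qb (hQ.map π) (fun a ha b hb => hQbc b hb a ha) e' hxb
    (fpf_quot hfpf D hDQ)
  obtain ⟨k, hk⟩ := exists_pow_kill Qb (hQ.map π)
  obtain ⟨j, hj⟩ := exists_pow_kill D (hQ.to_le hDQ)
  let lift : Additive ↥Qb → G := fun u => (mem_map.1 u.toMul.2).choose
  have hlift : ∀ u, lift u ∈ Q ∧ π (lift u) = (u.toMul : G ⧸ D) :=
    fun u => (mem_map.1 u.toMul.2).choose_spec
  let f : Additive ↥Qb → Additive ↥Qb → Additive ↥D := fun u w =>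
    Additive.ofMul ⟨⁅lift u, lift w⁆, commutator_mem_commutator (hlift u).1 (hlift w).1⟩
  have hf : ∀ (u w : Additive ↥Qb) (q r : G), q ∈ Q → r ∈ Q → (q : G ⧸ D) = u.toMul →
      (r : G ⧸ D) = w.toMul → ((f u w).toMul : G) = ⁅q, r⁆ := by
    intro u w q r hq hr hqu hrw
    have h1 : ∀ a ∈ Q, ∀ b ∈ Q, ∀ t ∈ Q, (a : G ⧸ D) = b → ⁅a, t⁆ = ⁅b, t⁆ := by
      intro a ha b hb t ht hab
      have hd : b⁻¹ * a ∈ D := QuotientGroup.eq.1 hab.symm
      calc ⁅a, t⁆ = ⁅b * (b⁻¹ * a), t⁆ := by rw [mul_inv_cancel_left]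
        _ = b * ⁅b⁻¹ * a, t⁆ * b⁻¹ * ⁅b, t⁆ := by group
        _ = ⁅b, t⁆ := by
          rw [commutatorElement_eq_one_iff_mul_comm.2 (hDc hd t ht).symm, mul_one, mul_inv_cancel,
            one_mul]
    show ⁅lift u, lift w⁆ = ⁅q, r⁆
    rw [h1 _ (hlift u).1 q hq _ (hlift w).1 ((hlift u).2.trans hqu.symm), ← inv_inj,
      commutatorElement_inv, commutatorElement_inv]
    exact h1 _ (hlift w).1 r hr q hq ((hlift w).2.trans hrw.symm)
  have hbot : ∀ u w, f u w = 0 := by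
    refine biadd_eq_zero hK hρ hσ hk hj f ?_ ?_ ?_
    · intro u u' w
      refine congrArg Additive.ofMul (Subtype.ext ?_ : (f (u + u') w).toMul = (f u w).toMul * (f u' w).toMul)
      rw [Subgroup.coe_mul, hf (u + u') w (lift u * lift u') (lift w) (mul_mem (hlift u).1 (hlift u').1)
        (hlift w).1 (by
          show π (lift u * lift u') = _
          rw [map_mul, (hlift u).2, (hlift u').2]; rfl) (hlift w).2]
      show ⁅lift u * lift u', lift w⁆ = ⁅lift u, lift w⁆ * ⁅lift u', lift w⁆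
      have hd := commutator_mem_commutator (hlift u').1 (hlift w).1
      calc ⁅lift u * lift u', lift w⁆ = lift u * ⁅lift u', lift w⁆ * (lift u)⁻¹ * ⁅lift u, lift w⁆ := by
            group
        _ = ⁅lift u', lift w⁆ * ⁅lift u, lift w⁆ := by
            rw [hDc hd _ (hlift u).1, mul_inv_cancel_right]
        _ = _ := (hDc hd _ (hDQ (commutator_mem_commutator (hlift u).1 (hlift w).1))).symm
    · intro u w w'
      refine congrArg Additive.ofMul (Subtype.ext ?_ : (f u (w + w')).toMul = (f u w).toMul * (f u w').toMul)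
      rw [Subgroup.coe_mul, hf u (w + w') (lift u) (lift w * lift w') (hlift u).1
        (mul_mem (hlift w).1 (hlift w').1) (hlift u).2 (by
          show π (lift w * lift w') = _
          rw [map_mul, (hlift w).2, (hlift w').2]; rfl)]
      show ⁅lift u, lift w * lift w'⁆ = ⁅lift u, lift w⁆ * ⁅lift u, lift w'⁆
      have hd := commutator_mem_commutator (hlift u).1 (hlift w').1
      calc ⁅lift u, lift w * lift w'⁆ = ⁅lift u, lift w⁆ * (lift w * ⁅lift u, lift w'⁆ * (lift w)⁻¹) := by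
            group
        _ = _ := by rw [hDc hd _ (hlift w).1, mul_inv_cancel_right]
    · intro s u w
      obtain ⟨q, hq⟩ := e.surjective s
      obtain ⟨g, rfl⟩ := QuotientGroup.mk_surjective q
      subst hq
      have hρg : ρ (e (g : G ⧸ Q)) = conjEnd Qb (g : G ⧸ D) := hρe (g : G ⧸ D)
      rw [hρg, hσe]
      refine congrArg Additive.ofMul (Subtype.ext ?_ : (f _ _).toMul = (conjEnd D g (f u w)).toMul)
      rw [hf _ _ (g * lift u * g⁻¹) (g * lift w * g⁻¹) (Normal.conj_mem inferInstance _ (hlift u).1 g)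
        (Normal.conj_mem inferInstance _ (hlift w).1 g)
        (by show π (g * lift u * g⁻¹) = _; rw [map_mul, map_mul, map_inv, (hlift u).2]; rfl)
        (by show π (g * lift w * g⁻¹) = _; rw [map_mul, map_mul, map_inv, (hlift w).2]; rfl)]
      show ⁅g * lift u * g⁻¹, g * lift w * g⁻¹⁆ = g * ⁅lift u, lift w⁆ * g⁻¹
      group
  rw [hDdef, eq_bot_iff]
  refine commutator_le.2 fun q hq r hr => ?_
  have h := hf (Additive.ofMul ⟨π q, mem_map_of_mem π hq⟩) (Additive.ofMul ⟨π r, mem_map_of_mem π hr⟩)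
    q r hq hr rfl rfl
  rw [hbot] at h
  exact (Subgroup.mem_bot).2 h.symm

/-- Let G be a finite group with a normal 2-subgroup Q such that G/Q is isomorphic to SL(2, 2ⁿ) with n ≥ 2, and suppose some element of G of order 3 fixes no nonidentity element of Q under conjugation. Then Q is elementary abelian and is the direct product of normal subgroups of G on each of which G acts as SL(2, 2ⁿ) acts on its natural two-dimensional module (a Galois twist of the natural action allowed). -/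
theorem result {G : Type*} [Group G] [Finite G]
    (Q : Subgroup G) [Q.Normal] (hQ : IsPGroup 2 ↥Q) (n : ℕ) (hn : 2 ≤ n)
    (K : Type*) [Field K] [Fintype K] (hK : Fintype.card K = 2 ^ n)
    (e : G ⧸ Q ≃* Matrix.SpecialLinearGroup (Fin 2) K)
    (x : G) (hx : orderOf x = 3) (hfpf : ∀ q ∈ Q, x * q * x⁻¹ = q → q = 1) :
    Cfsg.IsElementaryAbelian 2 Q ∧
      ∃ (k : ℕ) (V : Fin k → Subgroup G), (∀ i, V i ≤ Q ∧ (V i).Normal ∧
        Cfsg.ActsAsSL2OnSection K ⊤ ⊤ (V i) ⊥) ∧ iSupIndep V ∧ ⨆ i, V i = Q := by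
  classical
  have := Fact.mk Nat.prime_two
  have : CharP K 2 := by
    obtain ⟨m, hp, hm⟩ := FiniteField.card K (ringChar K)
    have hchar : ringChar K = 2 := by
      have h : ringChar K ∣ 2 ^ n := hK ▸ hm ▸ dvd_pow_self _ m.2.ne'
      exact (Nat.prime_dvd_prime_iff_eq hp Nat.prime_two).1 (hp.dvd_of_dvd_pow h)
    exact hchar ▸ ringChar.charP K
  have h4 : 4 ∣ Fintype.card K := hK ▸ pow_dvd_pow 2 hn
  have hQn : Group.IsNilpotent ↥Q := hQ.isNilpotent
  have hab : ⁅Q, Q⁆ = ⊥ := by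
    set D := ⁅Q, Q⁆ with hD
    set E := ⁅D, Q⁆ with hE
    have hDQ : D ≤ Q := commutator_le_left Q Q
    have hEQ : E ≤ Q := commutator_le_right D Q
    let π := QuotientGroup.mk' E
    have : (Q.map π).Normal := Normal.map inferInstance π (QuotientGroup.mk'_surjective E)
    have hxb : orderOf (x : G ⧸ E) = 3 := by
      have := Fact.mk Nat.prime_three
      refine orderOf_eq_prime (by rw [← QuotientGroup.mk_pow, ← hx, pow_orderOf_eq_one]; rfl) fun h => ?_
      obtain ⟨k, hk⟩ := hQ ⟨x, hEQ ((QuotientGroup.eq_one_iff x).1 h)⟩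
      have h1 := hx ▸ orderOf_dvd_of_pow_eq_one (congrArg Subtype.val hk : x ^ 2 ^ k = 1)
      exact absurd (Nat.Prime.dvd_of_dvd_pow Nat.prime_three h1) (by norm_num)
    have h := class_two_abelian h4 (Q.map π) (hQ.map π)
      ((QuotientGroup.quotientQuotientEquivQuotient E Q hEQ).trans e) hxb (fpf_quot hfpf E hEQ) (by
        rw [← map_commutator, ← map_commutator, eq_bot_iff, map_le_iff_le_comap]
        exact fun a ha => (QuotientGroup.eq_one_iff a).2 ha)
    have hDE : D ≤ E := fun a ha => by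
      have h1 : π a ∈ (⊥ : Subgroup (G ⧸ E)) := by
        rw [← h, ← map_commutator]; exact mem_map_of_mem π ha
      exact (QuotientGroup.eq_one_iff a).1 (mem_bot.1 h1)
    obtain ⟨m, hm⟩ := (Subgroup.isNilpotent_iff_lowerCentralSeries Q).1 hQn
    have key : ∀ i, D ≤ Q.lowerCentralSeries i := by
      intro i
      induction i with
      | zero => simpa using hDQ
      | succ i ih => exact hDE.trans (commutator_mono ih le_rfl)
    exact eq_bot_iff.2 ((key m).trans hm.le)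
  have hQc : Q ≤ centralizer (Q : Set G) := commutator_eq_bot_iff_le_centralizer.1 hab
  have : IsMulCommutative Q := ⟨⟨fun a b => Subtype.ext (hQc b.2 a a.2)⟩⟩
  obtain ⟨ρ, hρ, hρe⟩ := exists_action Q hQ hQc e hx hfpf
  obtain ⟨j, hj⟩ := exists_pow_kill Q hQ
  refine ⟨⟨inferInstance, fun a ha => ?_⟩, ?_⟩
  · have h := congrArg (fun v : Additive ↥Q => (v.toMul : G))
      (CfsgLib.SLTwoFpf.add_self_eq_zero h4 hρ hj (Additive.ofMul ⟨a, ha⟩))
    rw [pow_two]; exact h
  obtain ⟨r, Ψ, hΨ⟩ := exists_natural h4 hρ hj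
  let Φ : Multiplicative (Fin r → Fin 2 → K) →* G :=
    { toFun := fun c => ((Ψ c.toAdd).toMul : G)
      map_one' := by simp
      map_mul' := fun c d => by simp }
  have hΦi : Function.Injective Φ := fun c d h => Ψ.injective (Subtype.ext h)
  have hΦr : ∀ a, a ∈ Q ↔ ∃ c, Φ c = a := fun a =>
    ⟨fun ha => ⟨Multiplicative.ofAdd (Ψ.symm (Additive.ofMul ⟨a, ha⟩)), by simp [Φ]⟩,
      fun ⟨c, hc⟩ => hc ▸ (Ψ c.toAdd).toMul.2⟩
  let ι : Fin r → (Multiplicative (Fin 2 → K) →* G) := fun i =>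
    Φ.comp (AddMonoidHom.toMultiplicative (AddMonoidHom.single (fun _ : Fin r => Fin 2 → K) i))
  have hι : ∀ i, Function.Injective (ι i) := fun i p q h =>
    Pi.single_injective i (hΦi h)
  have hact : ∀ (g : G) (i : Fin r) (p : Fin 2 → K),
      g * ι i (Multiplicative.ofAdd p) * g⁻¹ =
        ι i (Multiplicative.ofAdd ((e (g : G ⧸ Q)).1.mulVec p)) := by
    intro g i p
    have h := congrArg (fun v : Additive ↥Q => (v.toMul : G)) (hΨ (e (g : G ⧸ Q)) (Pi.single i p))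
    simp only [hρe] at h
    refine h.trans ?_
    show ((Ψ _).toMul : G) = ((Ψ (Pi.single i _)).toMul : G)
    congr 3
    funext l
    rcases eq_or_ne l i with rfl | hne
    · simp
    · simp [hne]
  refine ⟨r, fun i => (ι i).range, fun i => ?_, ?_, ?_⟩
  · have hle : (ι i).range ≤ Q := fun a ⟨p, hp⟩ => (hΦr a).2 ⟨_, hp⟩
    have hN : ((ι i).range).Normal := ⟨by
      rintro _ ⟨p, rfl⟩ g
      exact ⟨_, (hact g i p.toAdd).symm⟩⟩
    refine ⟨hle, hN, le_top.trans (normalizer_eq_top_iff.2 hN).ge, bot_le,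
      e.toMonoidHom.comp ((QuotientGroup.mk' Q).comp (⊤ : Subgroup G).subtype),
      (MonoidHom.ofInjective (hι i)).symm.toMonoidHom, ?_, (MonoidHom.ofInjective (hι i)).symm.surjective,
      fun u => ?_, fun g u => ?_⟩
    · refine MonoidHom.range_eq_top.2 fun s => ?_
      obtain ⟨g, hg⟩ := QuotientGroup.mk_surjective (e.symm s)
      exact ⟨⟨g, mem_top g⟩, by simp [hg]⟩
    · rw [mem_bot, MulEquiv.coe_toMonoidHom, EmbeddingLike.map_eq_one_iff]
      exact Subtype.ext_iff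
    · obtain ⟨p, rfl⟩ := (MonoidHom.ofInjective (hι i)).surjective u
      refine ⟨MonoidHom.ofInjective (hι i)
        (Multiplicative.ofAdd ((e ((g : G) : G ⧸ Q)).1.mulVec p.toAdd)), (hact g i p.toAdd).symm, ?_⟩
      simp
  · intro i
    rw [disjoint_def]
    rintro a ⟨p, rfl⟩ h2
    let H : Subgroup G := (((Pi.evalAddMonoidHom (fun _ : Fin r => Fin 2 → K) i).toMultiplicative).ker).map Φ
    have hle : (⨆ (l : Fin r) (_ : l ≠ i), (ι l).range) ≤ H := iSup₂_le fun l hl => by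
      rintro _ ⟨q, rfl⟩
      exact ⟨_, (congrArg Multiplicative.ofAdd (Pi.single_eq_of_ne (M := fun _ : Fin r => Fin 2 → K) hl.symm q.toAdd) : _), rfl⟩
    obtain ⟨c, hc, hcp⟩ := hle h2
    have e1 := congrArg (fun c : Multiplicative (Fin r → Fin 2 → K) => c.toAdd i) (hΦi hcp)
    have e2 : c.toAdd i = 0 := congrArg Multiplicative.toAdd hc
    have e3 : p.toAdd = 0 := by simpa [e2] using e1.symm
    rw [show p = 1 from e3, map_one]
  · refine le_antisymm (iSup_le fun i a ⟨p, hp⟩ => (hΦr a).2 ⟨_, hp⟩) fun a ha => ?_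
    obtain ⟨c, rfl⟩ := (hΦr a).1 ha
    show c ∈ (⨆ i, (ι i).range).comap Φ
    rw [show c = Multiplicative.ofAdd c.toAdd from rfl, ← Finset.univ_sum_single c.toAdd, ofAdd_sum]
    exact prod_mem fun i _ => mem_comap.2
      (le_iSup (fun i => (ι i).range) i ⟨Multiplicative.ofAdd (c.toAdd i), rfl⟩)

end Cfsg.Agent.S3050
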