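import Cfsg.Statements.S3053
import Cfsg.Agent.Lib.PGroup.Extraspecial
import Cfsg.Agent.Lib.PGroup.Class2

set_option autoImplicit false
open Cfsg

namespace Cfsg.Agent.S3053

open scoped commutatorElement

/-- The `p`-th power map of an extraspecial group, as a homomorphism. -/
def powHom {P : Type*} [Group P] {p : ℕ} [Fact p.Prime] (hp : p ≠ 2) (hE : Cfsg.IsExtraspecial p P) :
    P →* P where
  toFun x := x ^ p
  map_one' := one_pow p
  map_mul' x y := CfsgLib.PGroup.mul_pow_odd_of_central ((Fact.out : p.Prime).odd_of_ne_two hp)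
    (CfsgLib.PGroup.extraspecial_comm_mem_center hE y x) (CfsgLib.PGroup.extraspecial_comm_pow_eq_one hE y x)


/-- Let p be an odd prime and G a finite group with a Sylow p-subgroup P that is extraspecial of order p³ and exponent p². Then the centre of P is strongly closed in P with respect to G: a G-conjugate of an element of Z(P) that lies in P already lies in Z(P). In particular a nontrivial central element of P is conjugate in G to no noncentral element of P. -/
theorem result {G : Type*} [Group G] [Finite G]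
    {p : ℕ} [Fact p.Prime] (hp : p ≠ 2) (P : Sylow p G) (hE : Cfsg.IsExtraspecial p ↥P)
    (hcard : Nat.card P = p ^ 3) (hexp : Monoid.exponent ↥P = p ^ 2) :
    Cfsg.IsStronglyClosed ((Subgroup.center ↥P).map (P : Subgroup G).subtype) (P : Subgroup G) := by
  classical
  have hpr : p.Prime := Fact.out
  show Cfsg.IsStronglyClosed ((Subgroup.center ↥(P : Subgroup G)).map (P : Subgroup G).subtype) (P : Subgroup G)
  replace hE : Cfsg.IsExtraspecial p ↥(P : Subgroup G) := hE
  replace hcard : Nat.card ↥(P : Subgroup G) = p ^ 3 := hcard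
  replace hexp : Monoid.exponent ↥(P : Subgroup G) = p ^ 2 := hexp
  revert hE hcard hexp
  generalize hP' : (P : Subgroup G) = P'
  intro hE hcard hexp
  refine ⟨Subgroup.map_subtype_le _, ?_⟩
  rintro _ ⟨z, hz, rfl⟩ g hgP
  by_contra hnot
  change g * (z : G) * g⁻¹ ∈ P' at hgP
  change g * (z : G) * g⁻¹ ∉ _ at hnot
  set e : G := g * (z : G) * g⁻¹ with he
  have hz1 : z ≠ 1 := by
    rintro rfl
    exact hnot ⟨1, one_mem _, by simp [he]⟩
  have hzp : z ^ p = 1 := CfsgLib.PGroup.extraspecial_center_pow_eq_one hE hz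
  have hzc : ∀ x ∈ P', x * (z : G) = (z : G) * x := fun x hx =>
    congrArg Subtype.val (Subgroup.mem_center_iff.mp hz ⟨x, hx⟩)
  -- the subgroup of elements of order dividing `p`
  set φ := powHom hp hE with hφ
  have hker : Nat.card φ.ker = p ^ 2 := by
    have hrange : φ.range = Subgroup.center P' := by
      apply le_antisymm
      · rintro _ ⟨x, rfl⟩
        exact CfsgLib.PGroup.extraspecial_pow_mem_center hE x
      · have hne : φ.range ≠ ⊥ := fun h => by
          have hall : ∀ x : P', x ^ p = 1 := fun x => by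
            have : φ x ∈ φ.range := ⟨x, rfl⟩
            rw [h, Subgroup.mem_bot] at this
            exact this
          have := Monoid.exponent_dvd_of_forall_pow_eq_one hall
          rw [show Monoid.exponent P' = p ^ 2 from hexp] at this
          have := Nat.le_of_dvd hpr.pos this
          nlinarith [hpr.two_le]
        obtain ⟨w, ⟨x, rfl⟩, hw⟩ := (Subgroup.bot_or_exists_ne_one φ.range).resolve_left hne
        rw [← CfsgLib.PGroup.extraspecial_zpowers_eq_center hE (CfsgLib.PGroup.extraspecial_pow_mem_center hE x) hw]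
        exact Subgroup.zpowers_le.mpr ⟨x, rfl⟩
    have h := Subgroup.card_mul_index φ.ker
    rw [Subgroup.index_ker, hrange, hE.2, show Nat.card P' = p ^ 3 from hcard, pow_succ] at h
    exact Nat.eq_of_mul_eq_mul_right hpr.pos h
  set E := φ.ker.map P'.subtype with hEdef
  have hmemE : ∀ x, x ∈ E ↔ x ∈ P' ∧ x ^ p = 1 := by
    intro x
    constructor
    · rintro ⟨y, hy, rfl⟩
      exact ⟨y.2, congrArg Subtype.val (show y ^ p = 1 from hy)⟩
    · rintro ⟨hx, hxp⟩
      exact ⟨⟨x, hx⟩, (show (⟨x, hx⟩ : P') ^ p = 1 from Subtype.ext hxp), rfl⟩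
  have hEcard : Nat.card E = p ^ 2 := by
    rw [hEdef, Subgroup.card_map_of_injective P'.subtype_injective, hker]
  have hzE : (z : G) ∈ E := (hmemE _).mpr ⟨z.2, congrArg Subtype.val hzp⟩
  have heE : e ∈ E := (hmemE _).mpr ⟨hgP, by
    rw [he, conj_pow, show (z : G) ^ p = 1 from congrArg Subtype.val hzp]; simp⟩
  -- `E` is generated by `z` and `e`
  have he1 : e ≠ 1 := fun h => hnot (by rw [h]; exact one_mem _)
  have hgen : E = Subgroup.closure {(z : G), e} := by
    set K := Subgroup.closure {(z : G), e} with hK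
    have hle : K ≤ E := (Subgroup.closure_le _).mpr (Set.pair_subset hzE heE)
    refine (Subgroup.eq_of_le_of_card_ge hle ?_).symm
    rw [hEcard]
    obtain ⟨i, hi, hi'⟩ := (Nat.dvd_prime_pow hpr).mp (hEcard ▸ Subgroup.card_dvd_of_le hle)
    rw [hi']
    refine Nat.pow_le_pow_right hpr.pos (Nat.le_of_not_lt fun hlt => hnot ?_)
    have hord : orderOf (z : G) = p := by
      rw [Subgroup.orderOf_coe]; exact orderOf_eq_prime hzp hz1
    have hzK : Subgroup.zpowers (z : G) ≤ K :=
      Subgroup.zpowers_le.mpr (Subgroup.subset_closure (Set.mem_insert _ _))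
    have heq : Subgroup.zpowers (z : G) = K := Subgroup.eq_of_le_of_card_ge hzK (by
      rw [Nat.card_zpowers, hord, hi']
      exact le_trans (Nat.pow_le_pow_right hpr.pos (Nat.le_of_lt_succ hlt)) (pow_one p).le)
    have heK : e ∈ Subgroup.zpowers (z : G) := heq ▸ Subgroup.subset_closure (Set.mem_insert_of_mem _ rfl)
    obtain ⟨k, hk⟩ := heK
    exact ⟨z ^ k, zpow_mem hz k, by simpa using hk⟩
  have hEcomm : ∀ a ∈ E, a * e = e * a := by
    intro a ha
    rw [hgen] at ha
    have : Subgroup.closure {(z : G), e} ≤ Subgroup.centralizer {e} := by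
      refine (Subgroup.closure_le _).mpr (Set.pair_subset ?_ ?_)
      · exact Subgroup.mem_centralizer_singleton_iff.mpr (hzc e hgP).symm
      · exact Subgroup.mem_centralizer_singleton_iff.mpr rfl
    exact Subgroup.mem_centralizer_singleton_iff.mp (this ha)
  -- adjust `g` so that it normalises `E`
  obtain ⟨g₂, hg₂e, hg₂E⟩ : ∃ g₂ : G, g₂ * (z : G) * g₂⁻¹ = e ∧ ∀ a, a ∈ E ↔ g₂ * a * g₂⁻¹ ∈ E := by
    set C := Subgroup.centralizer ({e} : Set G) with hC
    set P₁ := g • P with hP₁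
    have hmem₁ : ∀ x, x ∈ (P₁ : Subgroup G) ↔ g⁻¹ * x * g ∈ P' := fun x => by
      rw [hP₁, Sylow.coe_subgroup_smul, Subgroup.mem_pointwise_smul_iff_inv_smul_mem]
      simp [MulAut.smul_def, ← hP', mul_assoc]
    have hP₁C : (P₁ : Subgroup G) ≤ C := fun x hx => by
      rw [hC, Subgroup.mem_centralizer_singleton_iff]
      have := hzc _ ((hmem₁ x).mp hx)
      calc x * e = g * ((g⁻¹ * x * g) * z) * g⁻¹ := by rw [he]; group
        _ = e * x := by rw [this, he]; group
    have hEC : E ≤ C := fun a ha => Subgroup.mem_centralizer_singleton_iff.mpr (hEcomm a ha)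
    obtain ⟨R, hR⟩ := ((IsPGroup.of_card hEcard).comap_subtype (K := C)).exists_le_sylow
    obtain ⟨c, hc⟩ := MulAction.exists_smul_eq C (P₁.subtype hP₁C) R
    have hcmem : ∀ a ∈ E, (c : G)⁻¹ * a * c ∈ (P₁ : Subgroup G) := fun a ha => by
      have : (⟨a, hEC ha⟩ : C) ∈ (R : Subgroup C) := hR ha
      rw [← hc, Sylow.coe_subgroup_smul, Subgroup.mem_pointwise_smul_iff_inv_smul_mem] at this
      simpa [MulAut.smul_def, Sylow.coe_subtype, Subgroup.mem_subgroupOf, mul_assoc] using this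
    have hce : (c : G) * e * (c : G)⁻¹ = e := by
      rw [Subgroup.mem_centralizer_singleton_iff.mp c.2, mul_inv_cancel_right]
    refine ⟨c * g, by rw [← hce, he]; group, ?_⟩
    set f := fun a => (c * g : G)⁻¹ * a * (c * g : G) with hf
    have hfE : ∀ a ∈ E, f a ∈ E := fun a ha => by
      refine (hmemE _).mpr ⟨?_, ?_⟩
      · have := (hmem₁ _).mp (hcmem a ha)
        simpa [hf, mul_assoc] using this
      · have h2 := ((hmemE a).mp ha).2
        have := conj_pow (i := p) (a := ((c : G) * g)⁻¹) (b := a)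
        rw [inv_inv] at this
        simp only [hf, this, h2]
        group
    have hbij : E.map (MulAut.conj (c * g : G)⁻¹).toMonoidHom = E := by
      refine Subgroup.eq_of_le_of_card_ge ?_ (le_of_eq (Subgroup.card_map_of_injective (MulAut.conj (c * g : G)⁻¹).injective).symm)
      rintro _ ⟨a, ha, rfl⟩
      simpa [hf, mul_assoc] using hfE a ha
    intro a
    constructor
    · intro ha
      have : a ∈ E.map (MulAut.conj (c * g : G)⁻¹).toMonoidHom := hbij.symm ▸ ha
      obtain ⟨b, hb, rfl⟩ := this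
      simpa [mul_assoc] using hb
    · intro ha
      have := hfE _ ha
      simpa [hf, mul_assoc] using this
  -- an element acting nontrivially
  obtain ⟨y, hyP, hye⟩ : ∃ y ∈ P', y * e ≠ e * y := by
    by_contra hcon
    push Not at hcon
    exact hnot ⟨⟨e, hgP⟩, Subgroup.mem_center_iff.mpr fun x => Subtype.ext (hcon x x.2), rfl⟩
  have hyN : ∀ a, a ∈ E ↔ y * a * y⁻¹ ∈ E := fun a => by
    rw [hmemE, hmemE, conj_pow]
    constructor
    · rintro ⟨h1, h2⟩
      exact ⟨mul_mem (mul_mem hyP h1) (inv_mem hyP), by rw [h2]; group⟩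
    · rintro ⟨h1, h2⟩
      refine ⟨?_, ?_⟩
      · simpa [mul_assoc] using mul_mem (mul_mem (inv_mem hyP) h1) hyP
      · calc a ^ p = y⁻¹ * (y * a ^ p * y⁻¹) * y := by group
          _ = 1 := by rw [h2]; group
  have hEN : ∀ n, n ∈ Subgroup.normalizer (E : Set G) ↔ ∀ a, a ∈ E ↔ n * a * n⁻¹ ∈ E :=
    fun n => Subgroup.mem_normalizer_iff
  -- coordinates: `y e y⁻¹ = e z'`
  set z' : G := e⁻¹ * (y * e * y⁻¹) with hz'
  have hz'P : (⟨z', mul_mem (inv_mem hgP) (mul_mem (mul_mem hyP hgP) (inv_mem hyP))⟩ : P') ∈ Subgroup.center P' := by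
    have h := CfsgLib.PGroup.extraspecial_comm_mem_center hE (⟨e, hgP⟩⁻¹ : P') ⟨y, hyP⟩
    convert h using 1
    apply Subtype.ext
    simp [hz', commutatorElement_def, mul_assoc]
  have hz'1 : z' ≠ 1 := fun h => hye (mul_inv_eq_iff_eq_mul.mp (inv_mul_eq_one.mp h).symm)
  have hz'z : z' ∈ Subgroup.zpowers (z : G) := by
    have hh := CfsgLib.PGroup.extraspecial_zpowers_eq_center hE hz hz1
    rw [← hh] at hz'P
    obtain ⟨k, hk⟩ := hz'P
    exact ⟨k, congrArg Subtype.val hk⟩
  have hz'E : z' ∈ E := (Subgroup.zpowers_le.mpr hzE) hz'z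
  have hyz' : y * z' * y⁻¹ = z' := by
    obtain ⟨k, hk⟩ := hz'z
    simp only at hk
    rw [← hk, (Commute.zpow_right (hzc y hyP) k).eq, mul_inv_cancel_right]
  have hze' : (z : G) ∈ Subgroup.zpowers z' := by
    have hh := CfsgLib.PGroup.extraspecial_zpowers_eq_center hE hz'P
      (fun h => hz'1 (congrArg Subtype.val h))
    rw [← hh] at hz
    obtain ⟨k, hk⟩ := hz
    exact ⟨k, congrArg Subtype.val hk⟩
  have hgen' : ∀ n : G, n * z' * n⁻¹ = z'⁻¹ → n * e * n⁻¹ = e⁻¹ → ∀ a ∈ E, n * a * n⁻¹ = a⁻¹ := by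
    intro n h1 h2
    have hzn : n * (z : G) * n⁻¹ = (z : G)⁻¹ := by
      obtain ⟨k, hk⟩ := hze'
      simp only at hk
      rw [← hk, ← conj_zpow, h1, inv_zpow]
    intro a ha
    rw [hgen] at ha
    have hsub : Subgroup.closure {(z : G), e} ≤ E := hgen.ge
    have : a ∈ E ∧ n * a * n⁻¹ = a⁻¹ := by
      induction ha using Subgroup.closure_induction with
      | mem x hx => exact ⟨hsub (Subgroup.subset_closure hx), by rcases hx with rfl | rfl <;> assumption⟩
      | one => exact ⟨one_mem _, by simp⟩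
      | mul u v _ _ hu hv =>
        refine ⟨mul_mem hu.1 hv.1, ?_⟩
        have hc : u⁻¹ * v⁻¹ = v⁻¹ * u⁻¹ := by
          obtain ⟨⟨⟨u', hu'⟩, hu0, rfl⟩, ⟨⟨v', hv'⟩, hv0, rfl⟩⟩ := And.intro hu.1 hv.1
          have hab : ∀ a ∈ E, ∀ b ∈ E, a * b = b * a := by
            intro a ha b hb
            rw [hgen] at ha hb
            have := Subgroup.closure_le (K := Subgroup.centralizer {(z : G), e}) |>.mpr (?_ : ({(z : G), e} : Set G) ⊆ _)
            · exact Subgroup.mem_centralizer_iff.mp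
                (Subgroup.centralizer_closure ({(z : G), e} : Set G) ▸ this hb) a ha
            · refine Set.pair_subset ?_ ?_ <;> rw [SetLike.mem_coe, Subgroup.mem_centralizer_iff] <;>
                rintro x (rfl | rfl)
              · rfl
              · exact hzc _ hgP
              · exact (hzc _ hgP).symm
              · rfl
          exact hab _ (inv_mem hu.1) _ (inv_mem hv.1)
        calc n * (u * v) * n⁻¹ = (n * u * n⁻¹) * (n * v * n⁻¹) := by group
          _ = (u * v)⁻¹ := by rw [hu.2, hv.2, hc, mul_inv_rev]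
      | inv u _ hu => exact ⟨inv_mem hu.1, by rw [← conj_inv, hu.2]⟩
    exact this.2
  -- the second transvection
  set v := g₂ * y * g₂⁻¹ with hv
  have hve : v * e * v⁻¹ = e := by
    rw [hv, ← hg₂e]
    calc g₂ * y * g₂⁻¹ * (g₂ * z * g₂⁻¹) * (g₂ * y * g₂⁻¹)⁻¹ = g₂ * (y * z * y⁻¹) * g₂⁻¹ := by group
      _ = _ := by rw [hzc y hyP, mul_inv_cancel_right]
  have hvN : v ∈ Subgroup.normalizer (E : Set G) := by
    have h1 : g₂ ∈ Subgroup.normalizer (E : Set G) := (hEN _).mpr hg₂E
    exact mul_mem (mul_mem h1 ((hEN _).mpr hyN)) (inv_mem h1)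
  -- how `v` moves `z'`
  have hvz : ∃ d : G, d ∈ Subgroup.zpowers e ∧ d ≠ 1 ∧ v * z' * v⁻¹ = z' * d := by
    set w := g₂⁻¹ * z' * g₂ with hw
    have hwE : w ∈ E := by
      rw [hg₂E w, hw]
      simpa [mul_assoc] using hz'E
    have hwP : w ∈ P' := ((hmemE _).mp hwE).1
    set c := w⁻¹ * (y * w * y⁻¹) with hc
    have hcC : (⟨c, mul_mem (inv_mem hwP) (mul_mem (mul_mem hyP hwP) (inv_mem hyP))⟩ : P') ∈ Subgroup.center P' := by
      have h := CfsgLib.PGroup.extraspecial_comm_mem_center hE (⟨w, hwP⟩⁻¹ : P') ⟨y, hyP⟩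
      convert h using 1
      apply Subtype.ext
      simp [hc, commutatorElement_def, mul_assoc]
    refine ⟨g₂ * c * g₂⁻¹, ?_, fun h => ?_, ?_⟩
    · rw [← CfsgLib.PGroup.extraspecial_zpowers_eq_center hE hz hz1] at hcC
      obtain ⟨k, hk⟩ := hcC
      refine ⟨k, ?_⟩
      have hk' : (z : G) ^ k = c := congrArg Subtype.val hk
      show e ^ k = _
      rw [← hg₂e, conj_zpow, hk']
    · have hc1 : c = 1 := by
        calc c = g₂⁻¹ * (g₂ * c * g₂⁻¹) * g₂ := by group
          _ = 1 := by rw [h]; group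
      have hwy : y * w = w * y := mul_inv_eq_iff_eq_mul.mp (inv_mul_eq_one.mp hc1).symm
      -- then `y` centralises `E = ⟨w, z⟩`
      have hE' : E ≤ Subgroup.centralizer {y} := by
        have hle : Subgroup.closure {w, (z : G)} ≤ Subgroup.centralizer {y} :=
          (Subgroup.closure_le _).mpr (Set.pair_subset
            (Subgroup.mem_centralizer_singleton_iff.mpr hwy.symm)
            (Subgroup.mem_centralizer_singleton_iff.mpr (hzc y hyP).symm))
        refine le_trans ?_ hle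
        intro a ha
        have : g₂ * a * g₂⁻¹ ∈ Subgroup.closure {z', e} := by
          have h2 : E ≤ Subgroup.closure {z', e} := by
            rw [hgen]
            refine (Subgroup.closure_le _).mpr (Set.pair_subset ?_ (Subgroup.subset_closure (Set.mem_insert_of_mem _ rfl)))
            exact (Subgroup.zpowers_le.mpr (Subgroup.subset_closure (Set.mem_insert _ _))) hze'
          exact h2 ((hg₂E a).mp ha)
        have himg : Subgroup.closure {z', e} ≤ (Subgroup.closure {w, (z : G)}).map (MulAut.conj g₂).toMonoidHom :=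
          (Subgroup.closure_le _).mpr (Set.pair_subset
            ⟨w, Subgroup.subset_closure (Set.mem_insert _ _), by simp [hw, mul_assoc]⟩
            ⟨z, Subgroup.subset_closure (Set.mem_insert_of_mem _ rfl), by simpa using hg₂e⟩)
        obtain ⟨b, hb, hb'⟩ := himg this
        rw [show a = b from (MulAut.conj g₂).injective (hb'.symm.trans rfl)]
        exact hb
      exact hye (Subgroup.mem_centralizer_singleton_iff.mp (hE' heE)).symm
    · rw [hv, hc, hw]; group
  obtain ⟨d, ⟨j, hj⟩, hd1, hvd⟩ := hvz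
  simp only at hj
  have hord : orderOf e = p := orderOf_eq_prime ((hmemE e).mp heE).2 he1
  -- a power of `v` sends `z'` to `z' e⁻¹`
  obtain ⟨k, hk⟩ : ∃ k : ℕ, d ^ k = e⁻¹ := by
    have hdo : orderOf d = p := orderOf_eq_prime (by
      rw [← hj, ← zpow_natCast, ← zpow_mul, mul_comm, zpow_mul, zpow_natCast, ((hmemE e).mp heE).2, one_zpow]) hd1
    have hle : Subgroup.zpowers d ≤ Subgroup.zpowers e := Subgroup.zpowers_le.mpr ⟨j, hj⟩
    have heq := Subgroup.eq_of_le_of_card_ge hle (by rw [Nat.card_zpowers, Nat.card_zpowers, hord, hdo])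
    have : e⁻¹ ∈ Subgroup.zpowers d := heq ▸ inv_mem (Subgroup.mem_zpowers e)
    exact (Submonoid.mem_powers_iff _ _).mp (mem_powers_iff_mem_zpowers.mpr this)
  have hvk : v ^ k * z' * (v ^ k)⁻¹ = z' * d ^ k ∧ v ^ k * e * (v ^ k)⁻¹ = e := by
    have hvd' : v * d * v⁻¹ = d := by rw [← hj, ← conj_zpow, hve]
    clear hk
    induction k with
    | zero => simp
    | succ n ih =>
      constructor
      · calc v ^ (n + 1) * z' * (v ^ (n + 1))⁻¹ = v * (v ^ n * z' * (v ^ n)⁻¹) * v⁻¹ := by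
              rw [pow_succ']; group
          _ = (v * z' * v⁻¹) * (v * d ^ n * v⁻¹) := by rw [ih.1]; group
          _ = _ := by rw [hvd, ← conj_pow, hvd', pow_succ']; group
      · calc v ^ (n + 1) * e * (v ^ (n + 1))⁻¹ = v * (v ^ n * e * (v ^ n)⁻¹) * v⁻¹ := by
              rw [pow_succ']; group
          _ = _ := by rw [ih.2, hve]
  set r := v ^ k with hr
  rw [hk] at hvk
  have hye' : y * e * y⁻¹ = e * z' := by rw [hz']; group
  have hez : e * z' = z' * e := (hEcomm z' hz'E).symm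
  have hw1 : y * r * y * z' * (y * r * y)⁻¹ = e⁻¹ := by
    calc y * r * y * z' * (y * r * y)⁻¹ = y * (r * (y * z' * y⁻¹) * r⁻¹) * y⁻¹ := by group
      _ = y * (z' * e⁻¹) * y⁻¹ := by rw [hyz', hvk.1]
      _ = (y * z' * y⁻¹) * (y * e * y⁻¹)⁻¹ := by group
      _ = e⁻¹ := by rw [hyz', hye']; group
  have hw2 : y * r * y * e * (y * r * y)⁻¹ = z' := by
    calc y * r * y * e * (y * r * y)⁻¹ = y * ((r * e * r⁻¹) * (r * z' * r⁻¹)) * y⁻¹ := by
          rw [show y * r * y * e * (y * r * y)⁻¹ = y * (r * (y * e * y⁻¹) * r⁻¹) * y⁻¹ by group, hye']; group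
      _ = y * (e * z' * e⁻¹) * y⁻¹ := by rw [hvk.2, hvk.1]; group
      _ = z' := by rw [hez, mul_inv_cancel_right, hyz']
  set q := y * r * y with hq
  set n := q * q with hn
  have hn1 : n * z' * n⁻¹ = z'⁻¹ := by
    calc n * z' * n⁻¹ = q * (q * z' * q⁻¹) * q⁻¹ := by rw [hn]; group
      _ = (q * e * q⁻¹)⁻¹ := by rw [hw1]; group
      _ = _ := by rw [hw2]
  have hn2 : n * e * n⁻¹ = e⁻¹ := by
    calc n * e * n⁻¹ = q * (q * e * q⁻¹) * q⁻¹ := by rw [hn]; group
      _ = _ := by rw [hw2, hw1]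
  have hninv := hgen' n hn1 hn2
  have hnN : n ∈ Subgroup.normalizer (E : Set G) := by
    have hyn : y ∈ Subgroup.normalizer (E : Set G) := (hEN _).mpr hyN
    have hqn : q ∈ Subgroup.normalizer (E : Set G) := mul_mem (mul_mem hyn (pow_mem hvN k)) hyn
    exact mul_mem hqn hqn
  -- Frattini argument
  set N := Subgroup.normalizer (E : Set G) with hNdef
  set K := Subgroup.centralizer (E : Set G) with hK
  have hPN : P' ≤ N := fun x hx => (hEN x).mpr fun a => by
    rw [hmemE, hmemE, conj_pow]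
    constructor
    · rintro ⟨h1, h2⟩
      exact ⟨mul_mem (mul_mem hx h1) (inv_mem hx), by rw [h2]; group⟩
    · rintro ⟨h1, h2⟩
      refine ⟨?_, ?_⟩
      · simpa [mul_assoc] using mul_mem (mul_mem (inv_mem hx) h1) hx
      · calc a ^ p = x⁻¹ * (x * a ^ p * x⁻¹) * x := by group
          _ = 1 := by rw [h2]; group
  have hcomK : ∀ x ∈ N, (n * x * n⁻¹) * x⁻¹ ∈ K := by
    intro x hx
    rw [hK, Subgroup.mem_centralizer_iff]
    intro a ha
    set b := x⁻¹ * a * x with hb
    have hbE : b ∈ E := ((hEN x⁻¹).mp (inv_mem hx) a).mp ha |> fun h => by simpa [hb] using h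
    have h1 : n⁻¹ * b * n = b⁻¹ := by
      have h := hninv b⁻¹ (inv_mem hbE)
      rw [inv_inv] at h
      conv_lhs => rw [← h]
      group
    have h2 : x * b⁻¹ * x⁻¹ = a⁻¹ := by rw [hb]; group
    have h3 : n * a⁻¹ * n⁻¹ = a := by rw [hninv a⁻¹ (inv_mem ha), inv_inv]
    have : (n * x * n⁻¹ * x⁻¹) * a * (n * x * n⁻¹ * x⁻¹)⁻¹ = a := by
      calc (n * x * n⁻¹ * x⁻¹) * a * (n * x * n⁻¹ * x⁻¹)⁻¹
          = n * (x * (n⁻¹ * b * n) * x⁻¹) * n⁻¹ := by rw [hb]; group
        _ = a := by rw [h1, h2, h3]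
    exact (mul_inv_eq_iff_eq_mul.mp this).symm
  obtain ⟨w, hwP, hwinv⟩ : ∃ w : G, (∀ x ∈ P', w * x * w⁻¹ ∈ P') ∧ ∀ a ∈ E, w * a * w⁻¹ = a⁻¹ := by
    set X := K ⊔ P' with hX
    have hKN : P' ≤ Subgroup.normalizer (K : Set G) := hPN.trans (by
      intro x hx
      rw [Subgroup.mem_normalizer_iff]
      intro c
      have hxi := inv_mem hx
      have key : ∀ x ∈ N, ∀ c ∈ K, x * c * x⁻¹ ∈ K := by
        intro x hx c hc
        rw [hK, Subgroup.mem_centralizer_iff]
        intro a ha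
        have hbE : x⁻¹ * a * x ∈ E := by simpa using ((hEN x⁻¹).mp (inv_mem hx) a).mp ha
        have := Subgroup.mem_centralizer_iff.mp hc _ hbE
        calc a * (x * c * x⁻¹) = x * ((x⁻¹ * a * x) * c) * x⁻¹ := by group
          _ = x * c * x⁻¹ * a := by rw [this]; group
      exact ⟨key x hx c, fun h => by simpa [mul_assoc] using key x⁻¹ hxi _ h⟩)
    have hnP : (n • P : Sylow p G).1 ≤ X := by
      intro x hx
      rw [Sylow.coe_subgroup_smul, Subgroup.mem_pointwise_smul_iff_inv_smul_mem] at hx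
      have hx' : n⁻¹ * x * n ∈ P' := by rw [← hP']; simpa [MulAut.smul_def, mul_assoc] using hx
      have h := hcomK _ (hPN hx')
      have : x = (n * (n⁻¹ * x * n) * n⁻¹ * (n⁻¹ * x * n)⁻¹) * (n⁻¹ * x * n) := by group
      rw [this]
      exact Subgroup.mul_mem_sup h hx'
    obtain ⟨c, hc⟩ := MulAction.exists_smul_eq X (P.subtype (hP'.le.trans le_sup_right : (P : Subgroup G) ≤ X)) ((n • P).subtype hnP)
    obtain ⟨c₁, hc₁, c₂, hc₂, hcc⟩ : ∃ c₁ ∈ K, ∃ c₂ ∈ P', (c : G) = c₁ * c₂ := by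
      have : (c : G) ∈ ((K ⊔ P' : Subgroup G) : Set G) := c.2
      rw [Subgroup.coe_mul_of_right_le_normalizer_left K P' hKN] at this
      obtain ⟨a, ha, b, hb, hab⟩ := this
      exact ⟨a, ha, b, hb, hab.symm⟩
    refine ⟨c₁⁻¹ * n, fun x hx => ?_, fun a ha => ?_⟩
    · have hnx : n * x * n⁻¹ ∈ ((n • P : Sylow p G) : Subgroup G) := ⟨x, (hP'.symm ▸ hx : x ∈ (P : Subgroup G)), rfl⟩
      have : (⟨n * x * n⁻¹, hnP hnx⟩ : X) ∈ ((c • P.subtype (hP'.le.trans le_sup_right : (P : Subgroup G) ≤ X) : Sylow p X) : Subgroup X) := by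
        rw [hc]; exact hnx
      rw [Sylow.coe_subgroup_smul, Subgroup.mem_pointwise_smul_iff_inv_smul_mem] at this
      have h2 : (c : G)⁻¹ * (n * x * n⁻¹) * c ∈ P' := by
        rw [← hP']; simpa [MulAut.smul_def, Sylow.coe_subtype, Subgroup.mem_subgroupOf, mul_assoc] using this
      have := mul_mem (mul_mem hc₂ h2) (inv_mem hc₂)
      rw [hcc] at this
      have e0 : c₁⁻¹ * n * x * (c₁⁻¹ * n)⁻¹ = c₂ * ((c₁ * c₂)⁻¹ * (n * x * n⁻¹) * (c₁ * c₂)) * c₂⁻¹ := by group
      rw [e0]
      exact this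
    · have h1 := Subgroup.mem_centralizer_iff.mp hc₁ _ (inv_mem ha)
      calc c₁⁻¹ * n * a * (c₁⁻¹ * n)⁻¹ = c₁⁻¹ * (n * a * n⁻¹) * c₁ := by group
        _ = c₁⁻¹ * (a⁻¹ * c₁) := by rw [hninv a ha]; group
        _ = a⁻¹ := by rw [h1]; group
  -- final contradiction
  set y' := w * y * w⁻¹ with hy'
  have hy'P : y' ∈ P' := hwP y hyP
  have hzeta : (y : G) ^ p ∈ E ∧ y ^ p ≠ 1 := by
    refine ⟨(hmemE _).mpr ⟨pow_mem hyP p, ?_⟩, fun h => ?_⟩
    · have := congrArg Subtype.val (CfsgLib.PGroup.extraspecial_center_pow_eq_one hE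
        (CfsgLib.PGroup.extraspecial_pow_mem_center hE (⟨y, hyP⟩ : P')))
      simpa using this
    · exact hye (hEcomm y ((hmemE y).mpr ⟨hyP, h⟩))
  have hact : ∀ a ∈ E, y' * a * y'⁻¹ = y * a * y⁻¹ := by
    intro a ha
    have h1 : w⁻¹ * a * w = a⁻¹ := by
      have := hwinv a⁻¹ (inv_mem ha)
      rw [inv_inv] at this
      conv_lhs => rw [← this]
      group
    have h2 : y * a⁻¹ * y⁻¹ ∈ E := (hyN _).mp (inv_mem ha)
    calc y' * a * y'⁻¹ = w * (y * (w⁻¹ * a * w) * y⁻¹) * w⁻¹ := by rw [hy']; group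
      _ = (y * a⁻¹ * y⁻¹)⁻¹ := by rw [h1, hwinv _ h2]
      _ = y * a * y⁻¹ := by group
  set a₀ := y' * y⁻¹ with ha₀
  have ha₀P : a₀ ∈ P' := mul_mem hy'P (inv_mem hyP)
  have ha₀E : a₀ ∈ E := by
    set C := P' ⊓ K with hC
    have hEC : E ≤ C := le_inf (fun a ha => ((hmemE a).mp ha).1) (fun a ha => by
      rw [hK, Subgroup.mem_centralizer_iff]
      intro b hb
      have hle : E ≤ Subgroup.centralizer (E : Set G) := by
        conv_rhs => rw [hgen, Subgroup.centralizer_closure]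
        conv_lhs => rw [hgen]
        refine (Subgroup.closure_le _).mpr (Set.pair_subset ?_ ?_) <;>
          rw [SetLike.mem_coe, Subgroup.mem_centralizer_iff] <;> rintro x (rfl | rfl)
        · rfl
        · exact hzc _ hgP
        · exact (hzc _ hgP).symm
        · rfl
      exact Subgroup.mem_centralizer_iff.mp (hle ha) b hb)
    have hyC : y ∉ C := fun h => hye (Subgroup.mem_centralizer_iff.mp h.2 e heE).symm
    have hlt : Nat.card C < p ^ 3 := by
      rw [← show Nat.card P' = p ^ 3 from hcard]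
      refine lt_of_le_of_ne (Nat.le_of_dvd Nat.card_pos (Subgroup.card_dvd_of_le inf_le_left)) fun h => hyC ?_
      exact (Subgroup.eq_of_le_of_card_ge (H := C) inf_le_left h.ge).symm ▸ hyP
    have hdvd : Nat.card C ∣ p ^ 3 := hcard ▸ Subgroup.card_dvd_of_le inf_le_left
    obtain ⟨i, -, hi⟩ := (Nat.dvd_prime_pow hpr).mp hdvd
    rw [hi] at hlt
    have hi3 := (Nat.pow_lt_pow_iff_right hpr.one_lt).mp hlt
    have heq : E = C := Subgroup.eq_of_le_of_card_ge hEC (by
      rw [hi, hEcard]; exact Nat.pow_le_pow_right hpr.pos (by omega))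
    rw [heq]
    refine ⟨ha₀P, ?_⟩
    show a₀ ∈ Subgroup.centralizer (E : Set G)
    rw [Subgroup.mem_centralizer_iff]
    intro a ha
    have hb : y⁻¹ * a * y ∈ E := (hyN _).mpr (by simpa [mul_assoc] using ha)
    have := hact _ hb
    have h3 : a₀ * a * a₀⁻¹ = a := by
      calc a₀ * a * a₀⁻¹ = y' * (y⁻¹ * a * y) * y'⁻¹ := by rw [ha₀]; group
        _ = a := by rw [this]; group
    exact (mul_inv_eq_iff_eq_mul.mp h3).symm
  have hpow : y' ^ p = y ^ p := by
    have h : φ (⟨a₀, ha₀P⟩ * ⟨y, hyP⟩) = φ ⟨a₀, ha₀P⟩ * φ ⟨y, hyP⟩ := map_mul φ _ _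
    have h2 : ((a₀ * y : G)) ^ p = a₀ ^ p * y ^ p := congrArg Subtype.val h
    rw [((hmemE a₀).mp ha₀E).2, one_mul, ha₀, inv_mul_cancel_right] at h2
    exact h2
  have h2 : y' ^ p = (y ^ p)⁻¹ := by rw [hy', conj_pow, hwinv _ hzeta.1]
  rw [hpow, ← mul_eq_one_iff_eq_inv, ← sq] at h2
  apply hzeta.2
  rw [← orderOf_eq_one_iff]
  exact Nat.eq_one_of_dvd_coprimes ((Nat.coprime_primes hpr Nat.prime_two).mpr hp)
    (orderOf_dvd_of_pow_eq_one ((hmemE _).mp hzeta.1).2) (orderOf_dvd_of_pow_eq_one h2)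

end Cfsg.Agent.S3053
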