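import Cfsg.Statements.S3054
import Cfsg.Agent.Lib.LocalEvenSix.ExtraAutomizerCount

set_option autoImplicit false
open Cfsg

namespace Cfsg.Agent.S3054

/-- Let p be an odd prime and G a finite group with a Sylow p-subgroup P that is extraspecial of order p³ and exponent p. Suppose P contains three distinct subgroups A of order p² (each is elementary abelian of rank 2) such that every automorphism of A of order p is induced by conjugation by an element of G; equivalently the automorphism group induced on A by its normalizer contains the special linear group of A. Then p ≤ 13. -/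
theorem result {G : Type*} [Group G] [Finite G]
    {p : ℕ} [Fact p.Prime] (hp : p ≠ 2) (P : Sylow p G) (hE : Cfsg.IsExtraspecial p ↥P)
    (hcard : Nat.card P = p ^ 3) (hexp : Monoid.exponent ↥P = p)
    (A : Fin 3 → Subgroup G) (hA : Function.Injective A) (hAP : ∀ i, A i ≤ (P : Subgroup G))
    (hAcard : ∀ i, Nat.card ↥(A i) = p ^ 2)
    (hSL : ∀ i, ∀ φ : MulAut ↥(A i), orderOf φ = p → ∃ g : G, ∀ a : ↥(A i), (φ a : G) = g * (a : G) * g⁻¹) :
    p ≤ 13 := by
  classical
  by_contra hp13
  have h17 : 17 ≤ p := by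
    have hpr : p.Prime := Fact.out
    by_contra hlt
    have h : p = 14 ∨ p = 15 ∨ p = 16 := by omega
    rcases h with rfl | rfl | rfl <;> norm_num at hpr
  obtain ⟨z, hzP, hz1, hZ⟩ := CfsgLib.LocalEvenSix.ExtraAutomizer.exists_generator hE
  obtain ⟨C⟩ := CfsgLib.LocalEvenSix.ExtraAutomizer.exists_coord_data hE hcard
  have hzp : z ^ p = 1 := CfsgLib.LocalEvenSix.ExtraAutomizer.pow_p_eq_one hexp hzP
  have hzc : (⟨z, hzP⟩ : P) ∈ Subgroup.center P :=
    (hZ _).2 ⟨1, by rw [CfsgLib.LocalEvenSix.ExtraAutomizer.zv_one]⟩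
  -- the centre lies in each `A i`
  have hzA : ∀ i, z ∈ A i := by
    intro i
    set B := (A i).subgroupOf (P : Subgroup G)
    have hBc : Nat.card B = p ^ 2 :=
      (Nat.card_congr (Subgroup.subgroupOfEquivOfLe (hAP i)).toEquiv).trans (hAcard i)
    haveI : B.Normal := by
      refine Subgroup.normal_of_index_eq_minFac_card ?_
      have h := B.card_mul_index
      rw [hBc, hcard, show p ^ 3 = p ^ 2 * p from pow_succ p 2] at h
      rw [Nat.eq_of_mul_eq_mul_left (pow_pos (Fact.out : p.Prime).pos 2) h, hcard,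
        (Fact.out : p.Prime).pow_minFac (by norm_num)]
    have hBb : B ≠ ⊥ := fun h => by
      rw [h, Subgroup.card_bot] at hBc
      exact absurd hBc.symm (Nat.one_lt_pow (by norm_num) (Fact.out : p.Prime).one_lt).ne'
    exact CfsgLib.PGroup.extraspecial_center_le_of_normal hE B hBb hzc
  -- an element of `A i` outside the centre
  have hex : ∀ i, ∃ u : P, (u : G) ∈ A i ∧ u ∉ Subgroup.center P := by
    intro i
    by_contra hcon
    push Not at hcon
    have h1 : A i ≤ (Subgroup.center P).map (P : Subgroup G).subtype :=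
      fun a ha => ⟨⟨a, hAP i ha⟩, hcon ⟨a, hAP i ha⟩ ha, rfl⟩
    have h2 := Subgroup.card_le_of_le h1
    rw [hAcard, Subgroup.card_map_of_injective (Subgroup.subtype_injective _)] at h2
    exact absurd (h2.trans hE.2.le) (not_le.2 (lt_self_pow₀ (Fact.out : p.Prime).one_lt (by norm_num)))
  choose u huA huc using hex
  have hup : ∀ i, (u i : G) ^ p = 1 := fun i =>
    CfsgLib.LocalEvenSix.ExtraAutomizer.pow_p_eq_one hexp (u i).2
  have hzu : ∀ i, Commute z (u i : G) := fun i =>
    CfsgLib.LocalEvenSix.ExtraAutomizer.z_central hzP hZ (u i).2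
  have hmemA : ∀ i a b, CfsgLib.LocalEvenSix.ExtraAutomizer.E (p := p) z (u i : G) a b ∈ A i := fun i a b =>
    mul_mem (pow_mem (hzA i) _) (pow_mem (huA i) _)
  have hzinj : ∀ a : ZMod p, z ^ a.val = 1 → a = 0 := fun a h => by
    have h1 := orderOf_dvd_of_pow_eq_one h
    rw [orderOf_eq_prime hzp hz1] at h1
    exact (ZMod.val_eq_zero a).1 (Nat.eq_zero_of_dvd_of_lt h1 (ZMod.val_lt a))
  have hbij : ∀ i, Function.Bijective fun ab : ZMod p × ZMod p =>
      (⟨_, hmemA i ab.1 ab.2⟩ : A i) := by
    intro i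
    have hinj : Function.Injective fun ab : ZMod p × ZMod p => (⟨_, hmemA i ab.1 ab.2⟩ : A i) := by
      rintro ⟨a, b⟩ ⟨a', b'⟩ h
      have h' := congrArg Subtype.val h
      simp only at h'
      have h2 : CfsgLib.LocalEvenSix.ExtraAutomizer.E (p := p) z (u i : G) (a - a') (b - b') = 1 := by
        have e := CfsgLib.LocalEvenSix.ExtraAutomizer.E_mul hzp (hup i) (hzu i) (a - a') (b - b') a' b'
        rw [sub_add_cancel, sub_add_cancel, h'] at e
        exact mul_eq_right.1 e
      have hb : b - b' = 0 := by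
        by_contra hb
        obtain ⟨n, hn⟩ : ∃ n : ℕ, (n : ZMod p) * (b - b') = 1 := ⟨((b - b')⁻¹).val, by
          rw [ZMod.natCast_zmod_val, inv_mul_cancel₀ hb]⟩
        have e := CfsgLib.LocalEvenSix.ExtraAutomizer.E_pow hzp (hup i) (hzu i) (a - a') (b - b') n
        rw [h2, one_pow, hn, CfsgLib.LocalEvenSix.ExtraAutomizer.E,
          CfsgLib.LocalEvenSix.ExtraAutomizer.zv_one] at e
        refine huc i ?_
        rw [show u i = (⟨z, hzP⟩ ^ ((n : ZMod p) * (a - a')).val : P)⁻¹ from Subtype.ext (by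
          rw [Subgroup.coe_inv, SubgroupClass.coe_pow]; exact eq_inv_of_mul_eq_one_right e.symm)]
        exact inv_mem (pow_mem hzc _)
      rw [hb, CfsgLib.LocalEvenSix.ExtraAutomizer.E, ZMod.val_zero, pow_zero, mul_one] at h2
      rw [sub_eq_zero.1 (hzinj _ h2), sub_eq_zero.1 hb]
    refine (Nat.bijective_iff_injective_and_card _).2 ⟨hinj, ?_⟩
    rw [hAcard, Nat.card_prod, Nat.card_zmod, pow_two]
  have hmoves : ∀ i, CfsgLib.LocalEvenSix.ExtraAutomizer.Moves z (u i) := by
    intro i
    let e := Equiv.ofBijective _ (hbij i)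
    have he : ∀ ab, ((e ab : A i) : G) = CfsgLib.LocalEvenSix.ExtraAutomizer.E z (u i : G) ab.1 ab.2 :=
      fun _ => rfl
    have hemul : ∀ x y, e (x + y) = e x * e y := fun x y => Subtype.ext
      (CfsgLib.LocalEvenSix.ExtraAutomizer.E_mul hzp (hup i) (hzu i) x.1 x.2 y.1 y.2).symm
    let T : ZMod p × ZMod p ≃ ZMod p × ZMod p :=
      { toFun := fun x => (x.1, x.2 + x.1), invFun := fun x => (x.1, x.2 - x.1),
        left_inv := fun x => by simp, right_inv := fun x => by simp }
    let φ : MulAut (A i) :=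
      { toEquiv := (e.symm.trans T).trans e
        map_mul' := fun a b => by
          obtain ⟨x, rfl⟩ := e.surjective a
          obtain ⟨y, rfl⟩ := e.surjective b
          show e (T (e.symm (e x * e y))) = e (T (e.symm (e x))) * e (T (e.symm (e y)))
          rw [← hemul, e.symm_apply_apply, e.symm_apply_apply, e.symm_apply_apply, ← hemul]
          congr 1
          refine Prod.ext rfl ?_
          show (x + y).2 + (x + y).1 = (x.2 + x.1) + (y.2 + y.1)
          simp only [Prod.fst_add, Prod.snd_add]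
          ring }
    have hφ : ∀ x, φ (e x) = e (T x) := fun x => by
      show e (T (e.symm (e x))) = _
      rw [e.symm_apply_apply]
    have hφn : ∀ (n : ℕ) x, (φ ^ n) (e x) = e (x.1, x.2 + (n : ZMod p) * x.1) := by
      intro n
      induction n with
      | zero => intro x; simp
      | succ n ih =>
        intro x
        rw [pow_succ', MulAut.mul_apply, ih, hφ]
        refine congrArg e (Prod.ext rfl ?_)
        show x.2 + (n : ZMod p) * x.1 + x.1 = _
        push_cast; ring
    have hord : orderOf φ = p := by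
      refine orderOf_eq_prime (MulEquiv.ext fun a => ?_) fun h => ?_
      · obtain ⟨x, rfl⟩ := e.surjective a
        rw [hφn]; simp
      · have := hφ (1, 0)
        rw [h, MulAut.one_apply] at this
        simpa [T] using e.injective this
    obtain ⟨g, hg⟩ := hSL i φ hord
    refine ⟨huc i, g, ?_, ?_⟩
    · have := hg (e (0, 1))
      rw [hφ, he, he] at this
      simpa [T, CfsgLib.LocalEvenSix.ExtraAutomizer.E, CfsgLib.LocalEvenSix.ExtraAutomizer.zv_one] using this.symm
    · have := hg (e (1, 0))
      rw [hφ, he, he] at this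
      simpa [T, CfsgLib.LocalEvenSix.ExtraAutomizer.E, CfsgLib.LocalEvenSix.ExtraAutomizer.zv_one] using this.symm
  refine CfsgLib.LocalEvenSix.ExtraAutomizer.not_three_lines hE hexp hzP hZ hz1 C (by omega) (Or.inl h17) u
    hmoves fun i j hij a ha => hij (hA ?_)
  -- `u j ∈ A i`
  have hπpow : ∀ (v : P) (n : ℕ), C.π (v ^ n) = (n : ZMod p) • C.π v := by
    intro v n
    induction n with
    | zero => simp [(C.hker 1).2 (one_mem _)]
    | succ n ih => rw [pow_succ, C.hadd, ih]; push_cast; rw [add_smul, one_smul]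
  have huj : (u j : G) ∈ A i := by
    have hc : ((u i ^ a.val)⁻¹ * u j) ∈ Subgroup.center P := by
      rw [← C.hker]
      have e : C.π (u i ^ a.val) + C.π ((u i ^ a.val)⁻¹ * u j) = C.π (u j) := by
        rw [← C.hadd, mul_inv_cancel_left]
      rw [hπpow, ZMod.natCast_zmod_val, ← ha] at e
      exact add_eq_left.1 e
    obtain ⟨k, hk⟩ := (hZ _).1 hc
    rw [show (u j : G) = (u i : G) ^ a.val * z ^ k.val by
      rw [← hk, Subgroup.coe_mul, Subgroup.coe_inv, SubgroupClass.coe_pow, mul_inv_cancel_left]]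
    exact mul_mem (pow_mem (huA i) _) (pow_mem (hzA i) _)
  refine (Subgroup.eq_of_le_of_card_ge (fun x hx => ?_) (by rw [hAcard, hAcard])).symm
  obtain ⟨ab, hab⟩ := (hbij j).2 ⟨x, hx⟩
  rw [← show CfsgLib.LocalEvenSix.ExtraAutomizer.E z (u j : G) ab.1 ab.2 = x from congrArg Subtype.val hab]
  exact mul_mem (pow_mem (hzA i) _) (pow_mem huj _)

end Cfsg.Agent.S3054
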