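import Cfsg.Statements.S3055
import Cfsg.Agent.Lib.LocalEvenSix.ExtraAutomizerCount

set_option autoImplicit false
open Cfsg
open scoped commutatorElement

namespace Cfsg.Agent.S3055

/-- Let p be an odd prime and G a finite group with a Sylow p-subgroup P that is extraspecial of order p³ and exponent p. If all nonidentity elements of P are conjugate in G, then p ≤ 7. -/
theorem result {G : Type*} [Group G] [Finite G]
    {p : ℕ} [Fact p.Prime] (hp : p ≠ 2) (P : Sylow p G) (hE : Cfsg.IsExtraspecial p ↥P)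
    (hcard : Nat.card P = p ^ 3) (hexp : Monoid.exponent ↥P = p)
    (hconj : ∀ x y : ↥P, x ≠ 1 → y ≠ 1 → ∃ g : G, g * (x : G) * g⁻¹ = (y : G)) :
    p ≤ 7 := by
  classical
  by_contra hp7
  have hpr : p.Prime := Fact.out
  obtain ⟨z, hzP, hz1, hZ⟩ := CfsgLib.LocalEvenSix.ExtraAutomizer.exists_generator hE
  obtain ⟨C⟩ := CfsgLib.LocalEvenSix.ExtraAutomizer.exists_coord_data hE hcard
  have hzp : z ^ p = 1 := CfsgLib.LocalEvenSix.ExtraAutomizer.pow_p_eq_one hexp hzP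
  have hzc : (⟨z, hzP⟩ : P) ∈ Subgroup.center P :=
    (hZ _).2 ⟨1, by rw [CfsgLib.LocalEvenSix.ExtraAutomizer.zv_one]⟩
  have hzcent : ∀ x ∈ (P : Subgroup G), Commute z x := fun x hx =>
    CfsgLib.LocalEvenSix.ExtraAutomizer.z_central hzP hZ hx
  have hmoves : ∀ u : P, u ∉ Subgroup.center P → CfsgLib.LocalEvenSix.ExtraAutomizer.Moves z u := by
    intro u hu
    obtain ⟨g₀, hg₀⟩ := hconj u ⟨z, hzP⟩ (fun h => hu (h ▸ one_mem _))
      (fun h => hz1 (congrArg Subtype.val h))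
    change g₀ * (u : G) * g₀⁻¹ = z at hg₀
    set Cz := Subgroup.centralizer ({z} : Set G) with hCz
    have hPC : (P : Subgroup G) ≤ Cz := fun x hx =>
      Subgroup.mem_centralizer_singleton_iff.2 (hzcent x hx).eq.symm
    set w₀ := g₀ * z * g₀⁻¹ with hw₀
    have hw₀C : w₀ ∈ Cz := by
      rw [hCz, Subgroup.mem_centralizer_singleton_iff]
      calc w₀ * z = (g₀ * z * g₀⁻¹) * (g₀ * u * g₀⁻¹) := by rw [hg₀]
        _ = g₀ * (z * u) * g₀⁻¹ := by group
        _ = g₀ * (u * z) * g₀⁻¹ := by rw [(hzcent u u.2).eq]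
        _ = (g₀ * u * g₀⁻¹) * (g₀ * z * g₀⁻¹) := by group
        _ = z * w₀ := by rw [hg₀]
    have hwp : IsPGroup p (Subgroup.zpowers (⟨w₀, hw₀C⟩ : Cz)) := by
      refine IsPGroup.of_card (n := 1) ?_
      rw [Nat.card_zpowers, Subgroup.orderOf_mk, pow_one]
      refine orderOf_eq_prime (by rw [hw₀, conj_pow, hzp, mul_one, mul_inv_cancel]) fun h => hz1 ?_
      exact conj_eq_one_iff.1 h
    obtain ⟨S, hS⟩ := hwp.exists_le_sylow
    obtain ⟨⟨k, hk⟩, hk'⟩ := MulAction.exists_smul_eq Cz S (P.subtype hPC)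
    have hkw : k * w₀ * k⁻¹ ∈ (P : Subgroup G) := by
      have h2 : (⟨k, hk⟩ : Cz) * ⟨w₀, hw₀C⟩ * (⟨k, hk⟩ : Cz)⁻¹ ∈ (P.subtype hPC : Subgroup Cz) := by
        rw [← hk', Sylow.coe_subgroup_smul]
        exact ⟨_, hS (Subgroup.mem_zpowers _), rfl⟩
      exact h2
    have hkz : k * z * k⁻¹ = z := by
      rw [Subgroup.mem_centralizer_singleton_iff.1 hk, mul_inv_cancel_right]
    set h := k * g₀ with hh
    have hhu : h * u * h⁻¹ = z := by
      calc h * u * h⁻¹ = k * (g₀ * u * g₀⁻¹) * k⁻¹ := by rw [hh]; group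
        _ = z := by rw [hg₀, hkz]
    set w := h * z * h⁻¹ with hw
    have hwP : w ∈ (P : Subgroup G) := by
      rwa [hw, hh, show k * g₀ * z * (k * g₀)⁻¹ = k * w₀ * k⁻¹ by rw [hw₀]; group]
    have hwc : (⟨w, hwP⟩ : P) ∉ Subgroup.center P := by
      intro hc
      obtain ⟨i, hi⟩ := (hZ _).1 hc
      have hi' : h * z * h⁻¹ = h * (u : G) ^ i.val * h⁻¹ := by
        rw [← conj_pow, hhu]; exact hi
      have h1 : z = (u : G) ^ i.val := mul_left_cancel (mul_right_cancel hi')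
      have hi0 : i ≠ 0 := fun h0 => hz1 (by rw [h1, h0, ZMod.val_zero, pow_zero])
      refine hu ?_
      have e : (u : G) = z ^ (i⁻¹).val := by
        rw [h1, ← CfsgLib.LocalEvenSix.ExtraAutomizer.zv_mul
          (CfsgLib.LocalEvenSix.ExtraAutomizer.pow_p_eq_one hexp u.2), mul_inv_cancel₀ hi0,
          CfsgLib.LocalEvenSix.ExtraAutomizer.zv_one]
      exact (hZ u).2 ⟨i⁻¹, e⟩
    obtain ⟨y, hy⟩ : ∃ y : P, y * ⟨w, hwP⟩ ≠ ⟨w, hwP⟩ * y := by
      by_contra hc
      push Not at hc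
      exact hwc (Subgroup.mem_center_iff.2 hc)
    obtain ⟨c, hc⟩ := CfsgLib.LocalEvenSix.ExtraAutomizer.commutator_eq hE hzP hZ y.2 hwP
    have hc0 : c ≠ 0 := by
      intro h0
      rw [h0, CfsgLib.LocalEvenSix.ExtraAutomizer.zv_zero,
        commutatorElement_eq_one_iff_mul_comm] at hc
      exact hy (Subtype.ext hc)
    set r := h⁻¹ * (y : G) * h with hr
    have hru : r * u * r⁻¹ = u := by
      calc r * u * r⁻¹ = h⁻¹ * ((y : G) * (h * u * h⁻¹) * (y : G)⁻¹) * h := by rw [hr]; group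
        _ = u := by rw [hhu, ← (hzcent _ y.2).eq, mul_inv_cancel_right, ← hhu]; group
    have hrz : r * z * r⁻¹ = (u : G) ^ c.val * z := by
      calc r * z * r⁻¹ = h⁻¹ * (⁅(y : G), w⁆ * w) * h := by
            rw [commutatorElement_def, hr, hw]; group
        _ = h⁻¹ * ((h * u * h⁻¹) ^ c.val * w) * h := by rw [hc, hhu]
        _ = (u : G) ^ c.val * z := by rw [conj_pow, hw]; group
    obtain ⟨n, hn⟩ : ∃ n : ℕ, c * (n : ZMod p) = 1 :=
      ⟨(c⁻¹).val, by rw [ZMod.natCast_zmod_val, mul_inv_cancel₀ hc0]⟩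
    have hrn : ∀ m : ℕ, r ^ m * u * (r ^ m)⁻¹ = u ∧
        r ^ m * z * (r ^ m)⁻¹ = (u : G) ^ (c * (m : ZMod p)).val * z := by
      intro m
      induction m with
      | zero => simp
      | succ m ih =>
        refine ⟨?_, ?_⟩
        · rw [pow_succ', show r * r ^ m * u * (r * r ^ m)⁻¹ = r * (r ^ m * u * (r ^ m)⁻¹) * r⁻¹ by group,
            ih.1, hru]
        · calc r ^ (m + 1) * z * (r ^ (m + 1))⁻¹ = r * (r ^ m * z * (r ^ m)⁻¹) * r⁻¹ := by
                rw [pow_succ']; group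
            _ = (r * (u : G) ^ (c * (m : ZMod p)).val * r⁻¹) * (r * z * r⁻¹) := by rw [ih.2]; group
            _ = (u : G) ^ (c * ((m + 1 : ℕ) : ZMod p)).val * z := by
              rw [← conj_pow, hru, hrz, ← mul_assoc, ← CfsgLib.LocalEvenSix.ExtraAutomizer.zv_add
                (CfsgLib.LocalEvenSix.ExtraAutomizer.pow_p_eq_one hexp u.2)]
              push_cast; rw [mul_add, mul_one]
    refine ⟨hu, r ^ n, (hrn n).1, ?_⟩
    rw [(hrn n).2, hn, CfsgLib.LocalEvenSix.ExtraAutomizer.zv_one, (hzcent u u.2).eq]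
  choose s hs using C.hsurj
  have hvec : ∀ k : ℕ, C.π (s ![1, (k : ZMod p)]) = ![1, (k : ZMod p)] := fun k => hs _
  have hnc : ∀ k : ℕ, s ![1, (k : ZMod p)] ∉ Subgroup.center P := fun k h => by
    have h0 := (C.hker _).2 h
    rw [hvec] at h0
    simpa using congrFun h0 0
  have hdist : ∀ j k : ℕ, j < p → k < p → j ≠ k → ∀ a : ZMod p,
      C.π (s ![1, (k : ZMod p)]) ≠ a • C.π (s ![1, (j : ZMod p)]) := by
    intro j k hj hk hjk a h
    rw [hvec, hvec] at h
    have h0 := congrFun h 0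
    have h1 := congrFun h 1
    simp only [Pi.smul_apply, smul_eq_mul, Matrix.cons_val_zero, Matrix.cons_val_one, mul_one] at h0 h1
    rw [← h0, one_mul] at h1
    refine hjk ?_
    have h2 := congrArg ZMod.val h1
    rwa [ZMod.val_natCast_of_lt hk, ZMod.val_natCast_of_lt hj, eq_comm] at h2
  have hcases : 17 ≤ p ∨ p = 11 ∨ p = 13 := by
    by_contra h
    have h' : p = 8 ∨ p = 9 ∨ p = 10 ∨ p = 12 ∨ p = 14 ∨ p = 15 ∨ p = 16 := by omega
    rcases h' with rfl | rfl | rfl | rfl | rfl | rfl | rfl <;> norm_num at hpr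
  rcases or_assoc.2 hcases with h | h13
  · exact CfsgLib.LocalEvenSix.ExtraAutomizer.not_three_lines hE hexp hzP hZ hz1 C (by omega) h
      (fun i => s ![1, ((i : ℕ) : ZMod p)]) (fun i => hmoves _ (hnc _))
      fun i j hij => hdist i j (by omega) (by omega) fun e => hij (Fin.ext e)
  · exact CfsgLib.LocalEvenSix.ExtraAutomizer.not_nine_lines hE hexp hzP hZ hz1 C h13
      (fun i => s ![1, ((i : ℕ) : ZMod p)]) (fun i => hmoves _ (hnc _))
      fun i j hij => hdist i j (by omega) (by omega) fun e => hij (Fin.ext e)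

end Cfsg.Agent.S3055
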