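import Cfsg.Statements.S3057
import Cfsg.Agent.Lib.LocalEvenSix.StronglyP
import Cfsg.Agent.Lib.Coprime.HyperplaneGeneration
import Cfsg.Agent.Lib.PCore.PSolvable
import Cfsg.Agent.Lib.TwoGroups.OneInvolution
import Cfsg.Agent.Lib.ConstStab.Basic

set_option autoImplicit false
open Cfsg

namespace Cfsg.Agent.S3057

open Subgroup

theorem cyclic_unique {C : Type*} [Group C] [Finite C] [IsCyclic C] {p : ℕ} [Fact p.Prime] {x y : C}
    (hx : orderOf x = p) (hy : orderOf y = p) : y ∈ zpowers x := by
  classical
  letI := Fintype.ofFinite C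
  have hle := IsCyclic.card_pow_eq_one_le (α := C) (n := p) (Fact.out : p.Prime).pos
  have hsub : (Finset.univ.filter fun a : C => a ∈ zpowers x) ⊆ Finset.univ.filter (fun a : C => a ^ p = 1) := by
    intro a ha
    simp only [Finset.mem_filter, Finset.mem_univ, true_and] at ha ⊢
    exact orderOf_dvd_iff_pow_eq_one.mp (hx ▸ (Nat.card_zpowers x ▸ Subgroup.orderOf_dvd_natCard _ ha))
  have hcard : (Finset.univ.filter fun a : C => a ∈ zpowers x).card = p := by
    rw [← Fintype.card_subtype, ← Nat.card_eq_fintype_card]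
    exact (Nat.card_zpowers x).trans hx
  have heq := Finset.eq_of_subset_of_card_le hsub (by rw [hcard]; exact hle)
  have : y ∈ Finset.univ.filter (fun a : C => a ^ p = 1) := by simp [hy ▸ pow_orderOf_eq_one y]
  rw [← heq] at this
  simpa using this

theorem quaternion_unique (N : ℕ) [NeZero N] {x y : QuaternionGroup N} (hx : orderOf x = 2) (hy : orderOf y = 2) :
    x = y := by
  suffices ∀ z : QuaternionGroup N, orderOf z = 2 → z = QuaternionGroup.a (N : ZMod (2 * N)) by
    rw [this x hx, this y hy]
  intro z hz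
  rcases z with i | i
  · have h1 : (QuaternionGroup.a i) * QuaternionGroup.a i = 1 := by
      rw [← pow_two, ← hz]; exact pow_orderOf_eq_one _
    rw [QuaternionGroup.a_mul_a, QuaternionGroup.one_def, QuaternionGroup.a.injEq] at h1
    have h2 : i ≠ 0 := by
      rintro rfl
      rw [← QuaternionGroup.one_def, orderOf_one] at hz
      norm_num at hz
    congr 1
    haveI : NeZero (2 * N) := ⟨mul_ne_zero two_ne_zero (NeZero.ne N)⟩
    have h3 : ((2 * i.val : ℕ) : ZMod (2 * N)) = 0 := by
      push_cast; rw [ZMod.natCast_zmod_val]; linear_combination h1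
    rw [ZMod.natCast_eq_zero_iff] at h3
    have hiv : i.val = N := by
      obtain ⟨c, hc⟩ := h3
      have hlt := ZMod.val_lt i
      have hpos : i.val ≠ 0 := fun h => h2 ((ZMod.val_eq_zero i).mp h)
      have hc' : i.val = N * c := by
        have : 2 * i.val = 2 * (N * c) := by rw [hc]; ring
        omega
      rcases c with _ | _ | c
      · exfalso; exact hpos (by simpa using hc')
      · simpa using hc'
      · exfalso
        have : N * 2 ≤ N * (c + 1 + 1) := Nat.mul_le_mul_left N (by omega)
        omega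
    exact (ZMod.natCast_zmod_val i).symm.trans (congrArg _ hiv)
  · rw [QuaternionGroup.orderOf_xa] at hz
    omega


/-- Let p be a prime and G a finite p-solvable group of order divisible by p, with Sylow p-subgroup P. Then the Sylow p-subgroups of G fail to be chain-connected through nontrivial intersections (equivalently, G has a strongly p-embedded subgroup) if and only if O_p(G) = 1 and P is cyclic or, for p = 2, generalized quaternion. -/
theorem result {G : Type*} [Group G] [Finite G]
    (p : ℕ) [Fact p.Prime] (hdiv : p ∣ Nat.card G) (hsol : Cfsg.IsPSolvable p G) (P : Sylow p G) :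
    ¬ Cfsg.IsSylowChainConnected p G ↔
      Cfsg.pCore p G = ⊥ ∧ (IsCyclic ↥P ∨ (p = 2 ∧ ∃ n : ℕ, Nonempty (↥P ≃* QuaternionGroup (2 ^ n)))) := by
  have hp : p.Prime := Fact.out
  constructor
  · intro hG
    obtain ⟨H, hH, hpH, hse⟩ := CfsgLib.LocalEvenSix.exists_SEc_of_not_chainConnected hG
    obtain ⟨S, hS⟩ := hse.exists_sylow hpH
    have hO : Cfsg.pCore p G = ⊥ := by
      by_contra h
      haveI := Cfsg.pCore_normal p G
      refine hH (top_le_iff.mp ?_)
      have := hse.normalizer_le ((CfsgLib.PCore.pCore_le_sylow S).trans hS)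
        (CfsgLib.LocalEvenSix.dvd_card_of_ne_bot CfsgLib.PCore.pCore_isPGroup h)
      rwa [Subgroup.normalizer_eq_top_iff.mpr inferInstance] at this
    refine ⟨hO, ?_⟩
    have hu : ∀ x y : P, orderOf x = p → orderOf y = p → y ∈ zpowers x := by
      by_contra hne
      push Not at hne
      obtain ⟨x, y, hx, hy, hyx⟩ := hne
      haveI : Nontrivial G := ⟨⟨x, 1, fun h => by
        have h1 : x = 1 := Subtype.ext h
        rw [h1, orderOf_one] at hx
        exact hp.ne_one hx.symm⟩⟩
      haveI hPnt : Nontrivial P := ⟨⟨x, 1, fun h => by rw [h, orderOf_one] at hx; exact hp.ne_one hx.symm⟩⟩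
      haveI := P.isPGroup'.isNilpotent
      have hz0 : ∃ z : P, z ∈ Subgroup.center P ∧ orderOf z = p := by
        have hcd : p ∣ Nat.card (Subgroup.center P) :=
          CfsgLib.LocalEvenSix.dvd_card_of_ne_bot (G := P) (P.isPGroup'.to_subgroup _)
            ((Subgroup.nontrivial_iff_ne_bot _).mp P.isPGroup'.center_nontrivial)
        exact CfsgLib.LocalEvenSix.exists_orderOf_eq_of_dvd hcd
      obtain ⟨z, hzc, hz⟩ := hz0
      obtain ⟨w, hw, hwz⟩ : ∃ w : P, orderOf w = p ∧ w ∉ zpowers z := by
        by_contra hcon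
        push Not at hcon
        apply hyx
        have hxz : zpowers x = zpowers z := Subgroup.eq_of_le_of_card_ge (zpowers_le.mpr (hcon x hx))
          (by rw [Nat.card_zpowers, Nat.card_zpowers, hx, hz])
        rw [hxz]; exact hcon y hy
      have hzw : z * w = w * z := (Subgroup.mem_center_iff.mp hzc w).symm
      set E := Subgroup.closure ({(z : G), (w : G)} : Set G) with hE
      have hEP : E ≤ (P : Subgroup G) := by
        rw [hE, Subgroup.closure_le]
        rintro a (rfl | rfl) <;> exact Subtype.coe_prop _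
      haveI hEc : IsMulCommutative E := by
        refine Subgroup.isMulCommutative_closure ?_
        rintro a (rfl | rfl) b (rfl | rfl)
        · rfl
        · exact congrArg Subtype.val hzw
        · exact (congrArg Subtype.val hzw).symm
        · rfl
      have hEel : Cfsg.IsElementaryAbelian p E := by
        refine ⟨hEc, fun a ha => ?_⟩
        let T : Subgroup E :=
          { carrier := {a | a ^ p = 1}
            one_mem' := one_pow p
            mul_mem' := fun {a b} (ha : a ^ p = 1) (hb : b ^ p = 1) => by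
              show (a * b) ^ p = 1
              rw [(show Commute a b from Subtype.ext (setLike_mul_comm a.2 b.2)).mul_pow, ha, hb, one_mul]
            inv_mem' := fun {a} (ha : a ^ p = 1) => by show a⁻¹ ^ p = 1; rw [inv_pow, ha, inv_one] }
        have hle : E ≤ T.map E.subtype := by
          refine (Subgroup.closure_le (T.map E.subtype)).mpr ?_
          rintro a (rfl | rfl)
          · exact ⟨⟨z, Subgroup.subset_closure (Or.inl rfl)⟩, Subtype.ext
              (show (z : G) ^ p = 1 from orderOf_dvd_iff_pow_eq_one.mp (dvd_of_eq (by rw [Subgroup.orderOf_coe, hz]))), rfl⟩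
          · exact ⟨⟨w, Subgroup.subset_closure (Or.inr rfl)⟩, Subtype.ext
              (show (w : G) ^ p = 1 from orderOf_dvd_iff_pow_eq_one.mp (dvd_of_eq (by rw [Subgroup.orderOf_coe, hw]))), rfl⟩
        obtain ⟨u, hu, rfl⟩ := hle ha
        exact congrArg Subtype.val (hu : u ^ p = 1)
      have hzE : (z : G) ∈ E := Subgroup.subset_closure (Or.inl rfl)
      have hwE : (w : G) ∈ E := Subgroup.subset_closure (Or.inr rfl)
      have hE1 : E ≠ ⊥ := fun h => by
        rw [h, Subgroup.mem_bot, OneMemClass.coe_eq_one] at hzE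
        rw [hzE, orderOf_one] at hz
        exact hp.ne_one hz.symm
      -- replace `E` by a conjugate inside `S`
      obtain ⟨g, hg⟩ := MulAction.exists_smul_eq G P S
      set E' := E.map (MulAut.conj g).toMonoidHom with hE'
      have hE'S : E' ≤ (S : Subgroup G) := by
        rw [← hg, Sylow.coe_subgroup_smul]
        rintro _ ⟨a, ha, rfl⟩
        exact ⟨a, hEP ha, rfl⟩
      have hE'el : Cfsg.IsElementaryAbelian p E' := by
        refine ⟨⟨⟨?_⟩⟩, ?_⟩
        · rintro ⟨_, a, ha, rfl⟩ ⟨_, b, hb, rfl⟩
          apply Subtype.ext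
          show (MulAut.conj g).toMonoidHom a * (MulAut.conj g).toMonoidHom b = _ * _
          rw [← map_mul, ← map_mul, setLike_mul_comm ha hb]
        · rintro _ ⟨a, ha, rfl⟩
          rw [← map_pow, hEel.2 a ha, map_one]
      have hE'1 : E' ≠ ⊥ := fun h =>
        hE1 ((Subgroup.map_eq_bot_iff_of_injective _ (MulAut.conj g).injective).mp h)
      have hKH : Cfsg.pPrimeCore p G ≤ H := by
        haveI := Cfsg.pPrimeCore_normal p G
        refine (CfsgLib.Coprime39.eq_hyperCent hE'el hE'1 (CfsgLib.PCore.pPrimeCore_coprime (p := p))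
          (fun e _ => Subgroup.subset_normalizer_of_normal (Set.mem_univ e))).ge.trans
          (iSup_le fun B => inf_le_right.trans ?_)
        have hBp : IsPGroup p B.1 := S.isPGroup'.to_le (B.2.1.trans hE'S)
        have hB1 : B.1 ≠ ⊥ := fun h => by
          have hi := B.2.2
          rw [h, Subgroup.relIndex_bot_left, hE', Subgroup.card_map_of_injective (MulAut.conj g).injective] at hi
          have hze : Subgroup.zpowers (z : G) = E := Subgroup.eq_of_le_of_card_ge (Subgroup.zpowers_le.mpr hzE)
            (by rw [hi, Nat.card_zpowers, Subgroup.orderOf_coe, hz])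
          apply hwz
          obtain ⟨k, hk⟩ := (hze.symm ▸ hwE : (w : G) ∈ Subgroup.zpowers (z : G))
          exact ⟨k, Subtype.ext (by simpa using hk)⟩
        refine le_trans (fun c hc => ?_) (hse.normalizer_le ((B.2.1.trans hE'S).trans hS)
          (CfsgLib.LocalEvenSix.dvd_card_of_ne_bot hBp hB1))
        refine Subgroup.mem_normalizer_iff.mpr fun b => ⟨fun hb => ?_, fun hb => ?_⟩
        · rw [← Subgroup.mem_centralizer_iff.mp hc b hb, mul_inv_cancel_right]; exact hb
        · have h1 := Subgroup.mem_centralizer_iff.mp hc _ hb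
          have h2 : c * b * c⁻¹ = b := by
            calc c * b * c⁻¹ = c⁻¹ * (c * b * c⁻¹ * c) := by rw [h1]; group
              _ = b := by group
          rwa [h2] at hb
      -- `O_{p',p}(G)` has order divisible by `p`
      set L := Cfsg.pPrimePCore p G with hL
      have hLH : L ≤ H := (CfsgLib.PCore.pPrimePCore_le_sup_sylow S).trans (sup_le hKH hS)
      have hpL : p ∣ Nat.card L := by
        haveI := Cfsg.pPrimeCore_normal p G
        have hnt : Nontrivial (G ⧸ Cfsg.pPrimeCore p G) := by
          rw [QuotientGroup.nontrivial_iff]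
          intro h
          apply CfsgLib.PCore.not_dvd_card_pPrimeCore (p := p) (G := G)
          rw [h, Subgroup.card_top]; exact hdiv
        have h1 := CfsgLib.PCore.pCore_ne_bot (CfsgLib.PCore.isPSolvable_quotient hsol (Cfsg.pPrimeCore p G))
          CfsgLib.PCore.pPrimeCore_quotient_pPrimeCore
        have h2 := CfsgLib.LocalEvenSix.dvd_card_of_ne_bot CfsgLib.PCore.pCore_isPGroup h1
        rw [← CfsgLib.PCore.map_pPrimePCore, ← hL] at h2
        exact h2.trans (Subgroup.card_map_dvd _ _)
      exact hH (top_le_iff.mp ((hse.sup_normal_eq_top hpH L hpL).ge.trans (sup_le le_rfl hLH)))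
    rcases eq_or_ne p 2 with rfl | hp2
    · rcases CfsgLib.TwoGroups.OneInvolution.isCyclic_or_quaternion (P := P) P.isPGroup' (fun a b ha hb => by
        obtain ⟨k, hk⟩ := hu a b ha hb
        have hk' : a ^ k = b := hk
        have ha2 : a ^ (2 : ℕ) = 1 := orderOf_dvd_iff_pow_eq_one.mp (dvd_of_eq ha)
        rcases Int.even_or_odd k with ⟨j, rfl⟩ | ⟨j, rfl⟩
        · exfalso
          have : b = 1 := by
            rw [← hk', ← two_mul, zpow_mul, zpow_ofNat, ha2, one_zpow]
          rw [this, orderOf_one] at hb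
          norm_num at hb
        · rw [← hk', zpow_add, zpow_one, zpow_mul, zpow_ofNat, ha2, one_zpow, one_mul]) with h | ⟨n, -, hn⟩
      · exact Or.inl h
      · exact Or.inr ⟨rfl, n, hn⟩
    · refine Or.inl (CfsgLib.ConstStab.isCyclic_of_unique_prime_subgroup hp2 P.isPGroup' fun x y hx hxp hyp => ?_)
      rcases eq_or_ne y 1 with rfl | hy
      · exact one_mem _
      · exact hu x y (orderOf_eq_prime hxp hx) (orderOf_eq_prime hyp hy)
  · rintro ⟨hO, hP⟩
    have hu : ∀ x y : P, orderOf x = p → orderOf y = p → y ∈ zpowers x := by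
      intro x y hx hy
      rcases hP with hc | ⟨rfl, n, ⟨e⟩⟩
      · exact cyclic_unique hx hy
      · have h := quaternion_unique (2 ^ n) (x := e x) (y := e y) (by rw [e.orderOf_eq, hx]) (by rw [e.orderOf_eq, hy])
        rw [e.injective h]
        exact Subgroup.mem_zpowers y
    obtain ⟨z, hzP, hz⟩ := CfsgLib.LocalEvenSix.exists_orderOf_eq_of_dvd (P.dvd_card_of_dvd_card hdiv)
    set W := Subgroup.zpowers z with hW
    have hPW : ∀ y ∈ (P : Subgroup G), orderOf y = p → y ∈ W := fun y hy hyo => by
      obtain ⟨k, hk⟩ := hu ⟨z, hzP⟩ ⟨y, hy⟩ (by rw [Subgroup.orderOf_mk, hz]) (by rw [Subgroup.orderOf_mk, hyo])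
      exact ⟨k, congrArg Subtype.val hk⟩
    have hWmem : ∀ y ∈ W, y ≠ 1 → orderOf y = p := fun y hy hy1 => by
      refine orderOf_eq_prime ?_ hy1
      rw [← hz, ← orderOf_dvd_iff_pow_eq_one, ← Nat.card_zpowers z]
      exact Subgroup.orderOf_dvd_natCard W hy
    set H := Subgroup.normalizer (W : Set G) with hH
    have hnorm : ∀ g : G, g * z * g⁻¹ ∈ W → g ∈ H := fun g hg => by
      have hz1 : z ≠ 1 := fun h => by rw [h, orderOf_one] at hz; exact hp.ne_one hz.symm
      have he : Subgroup.zpowers (g * z * g⁻¹) = W := by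
        refine Subgroup.eq_of_le_of_card_ge (Subgroup.zpowers_le.mpr hg) (le_of_eq ?_)
        rw [hW, Nat.card_zpowers, Nat.card_zpowers]
        exact ((MulAut.conj g).orderOf_eq z).symm
      have hmap : W.map (MulAut.conj g).toMonoidHom = W := by
        rw [hW, MonoidHom.map_zpowers]; exact he
      refine Subgroup.mem_normalizer_iff.mpr fun y => ⟨fun hy => ?_, fun hy => ?_⟩
      · rw [← hmap]; exact ⟨y, hy, rfl⟩
      · rw [← hmap] at hy
        obtain ⟨a, ha, hae⟩ := hy
        rwa [← (MulAut.conj g).injective hae]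
    have hPH : (P : Subgroup G) ≤ H := fun u hu' =>
      hnorm u (hPW _ (mul_mem (mul_mem hu' hzP) (inv_mem hu')) (((MulAut.conj u).orderOf_eq z).trans hz))
    have hall : ∀ x ∈ H, orderOf x = p → x ∈ W := fun x hx hxo => by
      obtain ⟨R, hR⟩ := (IsPGroup.of_card (n := 1) (G := Subgroup.zpowers (⟨x, hx⟩ : H))
        (by rw [Nat.card_zpowers, Subgroup.orderOf_mk, hxo, pow_one])).exists_le_sylow (p := p)
      obtain ⟨h, rfl⟩ := MulAction.exists_smul_eq H (P.subtype hPH) R
      have h1 := hR (Subgroup.mem_zpowers _)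
      rw [Sylow.coe_subgroup_smul, Subgroup.mem_pointwise_smul_iff_inv_smul_mem, Sylow.coe_subtype] at h1
      have h2 : (h : G)⁻¹ * x * h ∈ W := hPW _ (by simpa [MulAut.smul_def, Subgroup.mem_subgroupOf] using h1)
        (by rw [← hxo]; simpa using (MulAut.conj (h : G)⁻¹).orderOf_eq x)
      have h3 := (Subgroup.mem_normalizer_iff.mp h.2 _).mp h2
      simpa [mul_assoc] using h3
    refine CfsgLib.LocalEvenSix.SEc.not_chainConnected (H := H) ?_ ?_
      (CfsgLib.LocalEvenSix.dvd_card_of_orderOf (hPH hzP) hz)
    · intro g hg hd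
      obtain ⟨x, ⟨hxH, y, hyH, hyx⟩, hxo⟩ := CfsgLib.LocalEvenSix.exists_orderOf_eq_of_dvd hd
      have hyo : orderOf y = p := by rw [← hxo, ← hyx]; exact ((MulAut.conj g).orderOf_eq y).symm
      have hxW := hall x hxH hxo
      have hyW := hall y hyH hyo
      have hy' : Subgroup.zpowers y = W := Subgroup.eq_of_le_of_card_ge (Subgroup.zpowers_le.mpr hyW)
        (by rw [hW, Nat.card_zpowers, Nat.card_zpowers, hz, hyo])
      apply hg
      apply hnorm
      obtain ⟨k, hk⟩ := (hy'.symm ▸ Subgroup.mem_zpowers z : z ∈ Subgroup.zpowers y)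
      have hk' : y ^ k = z := hk
      rw [← hk']
      show (MulAut.conj g) (y ^ k) ∈ W
      rw [map_zpow]
      exact zpow_mem (by rw [show (MulAut.conj g) y = x from hyx]; exact hxW) k
    · intro h
      haveI : W.Normal := Subgroup.normalizer_eq_top_iff.mp h
      have h1 := CfsgLib.PCore.le_pCore (p := p) (N := W) inferInstance
        (IsPGroup.of_card (n := 1) (by rw [hW, Nat.card_zpowers, hz, pow_one]))
      rw [hO, hW] at h1
      have h2 := h1 (Subgroup.mem_zpowers z)
      rw [Subgroup.mem_bot] at h2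
      rw [h2, orderOf_one] at hz
      exact hp.ne_one hz.symm

end Cfsg.Agent.S3057
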