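import Cfsg.Statements.S3059
import Cfsg.Agent.Lib.LocalEvenSix.StronglyP

set_option autoImplicit false
open Cfsg

namespace Cfsg.Agent.S3059

/-- Let p be a prime and H a strongly p-embedded subgroup of the finite group G in the classical sense: H is proper, p divides the order of H, and H ∩ gHg⁻¹ has order prime to p for every g outside H. Then for every normal subgroup N of G of order divisible by p, G = H · O^p(N), where O^p(N) is the subgroup generated by the elements of N of order prime to p. -/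
theorem result {G : Type*} [Group G] [Finite G]
    (p : ℕ) [Fact p.Prime] (H : Subgroup G) (hH : H ≠ ⊤) (hpH : p ∣ Nat.card H)
    (hse : ∀ g : G, g ∉ H → ¬ p ∣ Nat.card ↥(H ⊓ H.map (MulAut.conj g).toMonoidHom))
    (N : Subgroup G) [N.Normal] (hN : p ∣ Nat.card N) :
    H ⊔ Subgroup.closure {g : G | g ∈ N ∧ (orderOf g).Coprime p} = ⊤ := by
  set K := Subgroup.closure {g : G | g ∈ N ∧ (orderOf g).Coprime p}
  have hse' : CfsgLib.LocalEvenSix.SEc p H := hse
  set M := H ⊔ K with hM
  obtain ⟨x, hx, ho⟩ := CfsgLib.LocalEvenSix.exists_orderOf_eq_of_dvd (hse'.dvd_card_inf_normal hpH N hN)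
  obtain ⟨S, hS⟩ := (IsPGroup.of_card (n := 1) (G := Subgroup.zpowers (⟨x, hx.2⟩ : N))
    (by rw [Nat.card_zpowers, Subgroup.orderOf_mk, ho, pow_one])).exists_le_sylow (p := p)
  have hSH : (S : Subgroup N).map N.subtype ≤ H := by
    refine hse'.le_of_inf_ne_bot (S.isPGroup'.map _) fun h => ?_
    have : x ∈ (⊥ : Subgroup G) := h ▸ ⟨⟨_, hS (Subgroup.mem_zpowers _), rfl⟩, hx.1⟩
    rw [Subgroup.mem_bot] at this
    rw [this, orderOf_one] at ho
    exact (Fact.out : p.Prime).ne_one ho.symm
  have hNM : N ≤ M := by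
    have hidx : (M.subgroupOf N).index = 1 := by
      refine Nat.eq_one_iff_not_exists_prime_dvd.mpr fun q hq hdvd => ?_
      have : Fact q.Prime := ⟨hq⟩
      have key : ∃ T : Sylow q N, (T : Subgroup N) ≤ M.subgroupOf N := by
        rcases eq_or_ne q p with rfl | hqp
        · exact ⟨S, fun s hs => Subgroup.mem_sup_left (hSH ⟨s, hs, rfl⟩)⟩
        · obtain ⟨T⟩ : Nonempty (Sylow q N) := inferInstance
          refine ⟨T, fun t ht => Subgroup.mem_sup_right (Subgroup.subset_closure ⟨t.2, ?_⟩)⟩
          obtain ⟨k, hk⟩ := IsPGroup.iff_orderOf.mp T.isPGroup' ⟨t, ht⟩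
          rw [Subgroup.orderOf_mk] at hk
          show (orderOf (t : G)).Coprime p
          rw [Subgroup.orderOf_coe, show orderOf t = q ^ k from hk]
          exact Nat.Coprime.pow_left k ((Nat.coprime_primes hq Fact.out).mpr hqp)
      obtain ⟨T, hT⟩ := key
      exact T.not_dvd_index (hdvd.trans (Subgroup.index_dvd_of_le hT))
    rwa [Subgroup.index_eq_one, Subgroup.subgroupOf_eq_top] at hidx
  exact top_le_iff.mp ((hse'.sup_normal_eq_top hpH N hN).ge.trans (sup_le le_sup_left hNM))

end Cfsg.Agent.S3059
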