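import Cfsg.Statements.S3061
import Mathlib.GroupTheory.Nilpotent

set_option autoImplicit false
open Cfsg

namespace Cfsg.Agent.S3061

open scoped commutatorElement

theorem class_two_of_comm {S : Type*} [Group S] (A : Subgroup S) (x : S)
    (hA : IsMulCommutative A)
    (h : ∀ a ∈ A, ∀ b ∈ A ⊔ Subgroup.zpowers x, Commute ⁅x, a⁆ b) :
    ⁅⁅A ⊔ Subgroup.zpowers x, A ⊔ Subgroup.zpowers x⁆, A ⊔ Subgroup.zpowers x⁆ = ⊥ := by
  set H := A ⊔ Subgroup.zpowers x with hH
  set Z := H ⊓ Subgroup.centralizer (H : Set S) with hZ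
  have hxH : x ∈ H := le_sup_right (a := A) (Subgroup.mem_zpowers x)
  have hsymm : ∀ g k : S, ⁅g, k⁆ ∈ Z → ⁅k, g⁆ ∈ Z := fun g k hgk => by
    rw [← commutatorElement_inv g k]; exact inv_mem hgk
  let K : S → Subgroup S := fun g =>
    { carrier := {k | k ∈ H ∧ ⁅g, k⁆ ∈ Z}
      one_mem' := ⟨one_mem _, by simp [one_mem]⟩
      mul_mem' := by
        rintro u v ⟨hu, hu'⟩ ⟨hv, hv'⟩
        refine ⟨mul_mem hu hv, ?_⟩
        have e : ⁅g, u * v⁆ = ⁅g, u⁆ * (u * ⁅g, v⁆ * u⁻¹) := by
          simp only [commutatorElement_def]; group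
        rw [e, (Subgroup.mem_centralizer_iff.mp hv'.2 u hu), mul_inv_cancel_right]
        exact mul_mem hu' hv'
      inv_mem' := by
        rintro u ⟨hu, hu'⟩
        refine ⟨inv_mem hu, ?_⟩
        have e : ⁅g, u⁻¹⁆ = u⁻¹ * ⁅g, u⁆⁻¹ * u := by
          simp only [commutatorElement_def]; group
        rw [e, Subgroup.mem_centralizer_iff.mp (Subgroup.inv_mem _ hu'.2) u⁻¹ (inv_mem hu), inv_mul_cancel_right]
        exact inv_mem hu' }
  have hK : ∀ g, (∀ a ∈ A, ⁅g, a⁆ ∈ Z) → ⁅g, x⁆ ∈ Z → H ≤ K g := fun g h1 h2 =>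
    sup_le (fun a ha => ⟨le_sup_left (b := Subgroup.zpowers x) ha, h1 a ha⟩)
      (Subgroup.zpowers_le.mpr ⟨hxH, h2⟩)
  have hxa : ∀ a ∈ A, ⁅x, a⁆ ∈ Z := fun a ha => by
    have haH : a ∈ H := le_sup_left (b := Subgroup.zpowers x) ha
    refine ⟨?_, Subgroup.mem_centralizer_iff.mpr fun b hb => (h a ha b hb).symm.eq⟩
    show _ ∈ H
    rw [commutatorElement_def]
    exact mul_mem (mul_mem (mul_mem hxH haH) (inv_mem hxH)) (inv_mem haH)
  have hA' : ∀ a ∈ A, H ≤ K a := fun a ha => hK a (fun b hb => by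
    have : a * b = b * a := congrArg Subtype.val (hA.is_comm.comm ⟨a, ha⟩ ⟨b, hb⟩)
    rw [commutatorElement_eq_one_iff_mul_comm.mpr this]; exact one_mem _)
    (hsymm _ _ (hxa a ha))
  have hx' : H ≤ K x := hK x hxa (by simp [commutatorElement_def, one_mem])
  have hall : ∀ g ∈ H, H ≤ K g := fun g hg => hK g
    (fun a ha => hsymm _ _ (hA' a ha hg).2) (hsymm _ _ (hx' hg).2)
  have : ⁅H, H⁆ ≤ Subgroup.centralizer (H : Set S) :=
    Subgroup.commutator_le.mpr fun g hg k hk => (hall g hg hk).2.2
  exact Subgroup.commutator_eq_bot_iff_le_centralizer.mpr this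

theorem members_commute {S : Type*} [Group S] [Group.IsNilpotent S] (A B : Subgroup S)
    (hA : A ∈ dStarFamily S) (hB : B ∈ dStarFamily S) :
    ∀ a ∈ A, ∀ b ∈ B, a * b = b * a := by
  set H := A ⊔ B with hH
  have hc : ∀ x ∈ H, (∀ y ∈ H, ∀ z ∈ H, Commute ⁅x, y⁆ z) → ∀ y ∈ H, x * y = y * x := by
    intro x hx hz
    have hAx : ∀ a ∈ A, a * x = x * a := by
      refine hA.2 x (class_two_of_comm A x hA.1 ?_)
      intro a ha b hb
      have : A ⊔ Subgroup.zpowers x ≤ H := sup_le le_sup_left (by simpa using hx)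
      exact hz a (le_sup_left (a := A) ha) b (this hb)
    have hBx : ∀ a ∈ B, a * x = x * a := by
      refine hB.2 x (class_two_of_comm B x hB.1 ?_)
      intro a ha b hb
      have : B ⊔ Subgroup.zpowers x ≤ H := sup_le le_sup_right (by simpa using hx)
      exact hz a (le_sup_right (a := A) ha) b (this hb)
    intro y hy
    have : H ≤ Subgroup.centralizer {x} := by
      refine sup_le (fun a ha => ?_) (fun a ha => ?_)
      · exact Subgroup.mem_centralizer_singleton_iff.mpr (hAx a ha)
      · exact Subgroup.mem_centralizer_singleton_iff.mpr (hBx a ha)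
    exact (Subgroup.mem_centralizer_singleton_iff.mp (this hy)).symm
  have hn : Group.IsNilpotent H := inferInstance
  have h2 : Subgroup.upperCentralSeries H 2 = Subgroup.upperCentralSeries H 1 := by
    refine le_antisymm ?_ (Subgroup.upperCentralSeries_mono H (by norm_num))
    intro x hx
    rw [Subgroup.upperCentralSeries_one, Subgroup.mem_center_iff]
    intro y
    have := hc x x.2 ?_ y y.2
    · exact Subtype.ext this.symm
    · intro u hu v hv
      have hx' := (Subgroup.mem_upperCentralSeries_succ_iff).mp hx ⟨u, hu⟩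
      rw [Subgroup.upperCentralSeries_one, Subgroup.mem_center_iff] at hx'
      have := congrArg Subtype.val (hx' ⟨v, hv⟩)
      exact Commute.symm (by simpa [Commute, SemiconjBy, commutatorElement_def] using this)
  have hall : ∀ n, Subgroup.upperCentralSeries H n ≤ Subgroup.upperCentralSeries H 1 := by
    intro n
    induction n with
    | zero => exact Subgroup.upperCentralSeries_mono H (by norm_num)
    | succ n ih =>
      intro x hx
      have hx2 : x ∈ Subgroup.upperCentralSeries H 2 := by
        rw [Subgroup.mem_upperCentralSeries_succ_iff] at hx ⊢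
        exact fun y => ih (hx y)
      exact h2.le hx2
  obtain ⟨n, hn⟩ := Group.IsNilpotent.nilpotent H
  intro a ha b hb
  have : (⟨a, le_sup_left (b := B) ha⟩ : H) ∈ Subgroup.upperCentralSeries H 1 := hall n (hn ▸ Subgroup.mem_top _)
  rw [Subgroup.upperCentralSeries_one, Subgroup.mem_center_iff] at this
  exact (congrArg Subtype.val (this ⟨b, le_sup_right (a := A) hb⟩)).symm

/-- Let S be a finite p-group. Then D*(S) itself belongs to the family that generates it: D*(S) is abelian, and every x ∈ S with ⟨D*(S), x⟩ of class at most two centralizes D*(S). Hence D*(S) is the unique maximal member of that family. -/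
theorem result {S : Type*} [Group S] [Finite S] {p : ℕ} [Fact p.Prime] (hS : IsPGroup p S) :
    Cfsg.dStar S ∈ Cfsg.dStarFamily S := by
  have := hS.isNilpotent
  constructor
  · rw [dStar, sSup_eq_iSup']
    refine ⟨⟨fun a b => Subtype.ext ?_⟩⟩
    have key : (⨆ A : dStarFamily S, (A : Subgroup S)) ≤
        Subgroup.centralizer ((⨆ A : dStarFamily S, (A : Subgroup S) : Subgroup S) : Set S) := by
      refine iSup_le fun A => Subgroup.le_centralizer_iff.mp (iSup_le fun B => ?_)
      intro b hb c hc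
      exact (members_commute B A B.2 A.2 b hb c hc).symm
    exact key b.2 a a.2
  · intro x hx
    have key : dStar S ≤ Subgroup.centralizer {x} := by
      refine sSup_le fun A hA a ha => Subgroup.mem_centralizer_singleton_iff.mpr (hA.2 x ?_ a ha)
      have hle : A ⊔ Subgroup.zpowers x ≤ dStar S ⊔ Subgroup.zpowers x := sup_le_sup_right (le_sSup hA) _
      exact le_bot_iff.mp (hx ▸ Subgroup.commutator_mono (Subgroup.commutator_mono hle hle) hle)
    intro a ha
    exact Subgroup.mem_centralizer_singleton_iff.mp (key ha)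

end Cfsg.Agent.S3061
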