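import Cfsg.Statements.S3060
import Cfsg.Agent.S3061
import Cfsg.Agent.Lib.PCore.Basic
import Cfsg.Agent.Lib.LocalEven.PReduced

set_option autoImplicit false
open Cfsg

namespace Cfsg.Agent.S3060

open Subgroup
open scoped commutatorElement

variable {G : Type*} [Group G]

/-- Membership of `A` in the family defining `D*(T)`, inside the ambient group. -/
def Fam (T A : Subgroup G) : Prop :=
  A ≤ T ∧ (∀ a ∈ A, ∀ b ∈ A, a * b = b * a) ∧ ∀ x ∈ T,
    ⁅⁅A ⊔ zpowers x, A ⊔ zpowers x⁆, A ⊔ zpowers x⁆ = ⊥ → ∀ a ∈ A, a * x = x * a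

theorem triple_map {T : Subgroup G} {A : Subgroup T} (x : T) :
    ⁅⁅A.map T.subtype ⊔ zpowers (x : G), A.map T.subtype ⊔ zpowers (x : G)⁆, A.map T.subtype ⊔ zpowers (x : G)⁆ =
      (⁅⁅A ⊔ zpowers x, A ⊔ zpowers x⁆, A ⊔ zpowers x⁆).map T.subtype := by
  rw [map_commutator, map_commutator, Subgroup.map_sup, MonoidHom.map_zpowers]; rfl

theorem fam_of_mem {T : Subgroup G} {A : Subgroup T} (hA : A ∈ Cfsg.dStarFamily T) :
    Fam T (A.map T.subtype) := by
  refine ⟨map_subtype_le A, ?_, fun x hx htr => ?_⟩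
  · rintro _ ⟨a, ha, rfl⟩ _ ⟨b, hb, rfl⟩
    rw [← map_mul, ← map_mul]
    exact congrArg _ (congrArg Subtype.val (hA.1.is_comm.comm ⟨a, ha⟩ ⟨b, hb⟩))
  · rw [triple_map (⟨x, hx⟩ : T), map_eq_bot_iff_of_injective _ T.subtype_injective] at htr
    rintro _ ⟨a, ha, rfl⟩
    exact congrArg Subtype.val (hA.2 ⟨x, hx⟩ htr a ha)

theorem mem_of_fam {T A : Subgroup G} (h : Fam T A) : A.subgroupOf T ∈ Cfsg.dStarFamily T := by
  have e : (A.subgroupOf T).map T.subtype = A := by rw [map_subgroupOf_eq_of_le h.1]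
  refine ⟨⟨⟨fun a b => Subtype.ext (Subtype.ext (h.2.1 _ a.2 _ b.2))⟩⟩, fun x htr a ha => ?_⟩
  apply Subtype.ext
  refine h.2.2 x x.2 ?_ a ha
  rw [← e, triple_map x, htr, Subgroup.map_bot]

theorem Fam.mono {S T A : Subgroup G} (h : Fam S A) (hTS : T ≤ S) (hAT : A ≤ T) : Fam T A :=
  ⟨hAT, h.2.1, fun x hx => h.2.2 x (hTS hx)⟩

theorem Fam.conj {S A : Subgroup G} (h : Fam S A) (g : G) :
    Fam (S.map (MulAut.conj g).toMonoidHom) (A.map (MulAut.conj g).toMonoidHom) := by
  refine ⟨map_mono h.1, ?_, ?_⟩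
  · rintro _ ⟨a, ha, rfl⟩ _ ⟨b, hb, rfl⟩
    rw [← map_mul, ← map_mul, h.2.1 a ha b hb]
  · rintro _ ⟨x, hx, rfl⟩ htr
    rw [← MonoidHom.map_zpowers, ← Subgroup.map_sup, ← map_commutator, ← map_commutator,
      map_eq_bot_iff_of_injective _ (MulAut.conj g).injective] at htr
    rintro _ ⟨a, ha, rfl⟩
    rw [← map_mul, ← map_mul, h.2.2 x hx htr a ha]



/-- The D*-Theorem. For a finite p-group S let D*(S) be the subgroup generated by the abelian subgroups A of S such that every x ∈ S with ⟨A, x⟩ of nilpotency class at most two centralizes A. Let p be an odd prime and H a finite p-stable group with Sylow p-subgroup S. Here H is p-stable in the following sense: the largest normal p-subgroup O_p(H) contains its centralizer in H, and for every normal p-subgroup P of H, every element acting quadratically on P has image in O_p(H/C_H(P)). Then D*(S) is a normal subgroup of H. -/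
theorem result {G : Type*} [Group G] [Finite G] {p : ℕ} [Fact p.Prime] (hp : p ≠ 2)
    (hc : Subgroup.centralizer (Cfsg.pCore p G : Set G) ≤ Cfsg.pCore p G)
    (hst : ∀ (P : Subgroup G) [P.Normal], IsPGroup p P → Cfsg.IsPStableOn p P) (S : Sylow p G) :
    (Cfsg.dStarOf (S : Subgroup G)).Normal := by
  set D := Cfsg.dStarOf (S : Subgroup G) with hDdef
  have hD : Fam (S : Subgroup G) D := fam_of_mem (S3061.result S.isPGroup')
  have hDS : D ≤ (S : Subgroup G) := hD.1
  have hSD : ∀ s ∈ (S : Subgroup G), ∀ d ∈ D, s * d * s⁻¹ ∈ D := by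
    intro s hs d hd
    have h1 := hD.conj s
    have hmap : (S : Subgroup G).map (MulAut.conj s).toMonoidHom = S := by
      refine le_antisymm ?_ fun z hz => ⟨s⁻¹ * z * s, mul_mem (mul_mem (inv_mem hs) hz) hs, by simp [mul_assoc]⟩
      rintro _ ⟨z, hz, rfl⟩
      exact mul_mem (mul_mem hs hz) (inv_mem hs)
    rw [hmap] at h1
    have h2 := le_sSup (mem_of_fam h1)
    obtain ⟨z, hz, hze⟩ : (MulAut.conj s).toMonoidHom d ∈ D := by
      obtain ⟨w, hw, hwe⟩ := (⟨d, hd, rfl⟩ : (MulAut.conj s).toMonoidHom d ∈ D.map (MulAut.conj s).toMonoidHom)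
      refine ⟨⟨_, h1.1 ⟨w, hw, rfl⟩⟩, h2 (show _ ∈ _ from ?_), hwe⟩
      exact (Subgroup.mem_subgroupOf).mpr ⟨w, hw, rfl⟩
    exact ⟨z, hz, hze⟩
  have hOn := Cfsg.pCore_normal p G
  -- `D ≤ O_p(G)`
  set O := Cfsg.pCore p G with hO
  have hOS : O ≤ (S : Subgroup G) := CfsgLib.PCore.pCore_le_sylow S
  have hDO : D ≤ O := by
    intro d hd
    have hq : ⁅⁅O, Subgroup.zpowers d⁆, Subgroup.zpowers d⁆ = ⊥ := by
      have h1 : ⁅O, Subgroup.zpowers d⁆ ≤ D := by
        rw [Subgroup.commutator_le]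
        intro o ho z hz
        have hzD : z ∈ D := Subgroup.zpowers_le.mpr hd hz
        rw [commutatorElement_def]
        exact mul_mem (hSD o (hOS ho) z hzD) (inv_mem hzD)
      rw [Subgroup.commutator_eq_bot_iff_le_centralizer]
      exact h1.trans fun x hx => Subgroup.mem_centralizer_iff.mpr fun z hz =>
        hD.2.1 z (Subgroup.zpowers_le.mpr hd hz) x hx
    have hC : IsPGroup p (Subgroup.centralizer (O : Set G)) := CfsgLib.PCore.pCore_isPGroup.to_le hc
    have h2 : d ∈ (Cfsg.pCore p (G ⧸ Subgroup.centralizer (O : Set G))).comap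
        (QuotientGroup.mk' (Subgroup.centralizer (O : Set G))) := hst O CfsgLib.PCore.pCore_isPGroup d hq
    rwa [CfsgLib.PCore.comap_pCore_quotient hC] at h2
  -- the normal closure
  set V := ⨆ g : G, D.map (MulAut.conj g).toMonoidHom with hV
  have hVle : ∀ g : G, D.map (MulAut.conj g).toMonoidHom ≤ O := fun g => by
    rintro _ ⟨d, hd, rfl⟩
    exact hOn.conj_mem d (hDO hd) g
  have hVO : V ≤ O := iSup_le hVle
  have hOfam : ∀ g : G, Fam O (D.map (MulAut.conj g).toMonoidHom) := fun g =>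
    (hD.conj g).mono (fun o ho => ⟨g⁻¹ * o * g, hOS (by simpa using hOn.conj_mem o ho g⁻¹), by simp [mul_assoc]⟩)
      (hVle g)
  haveI : Group.IsNilpotent O := (CfsgLib.PCore.pCore_isPGroup (p := p) (G := G)).isNilpotent
  have hVc : ∀ a ∈ V, ∀ b ∈ V, a * b = b * a := by
    intro a ha b hb
    have key : V ≤ Subgroup.centralizer (V : Set G) := by
      refine iSup_le fun g => Subgroup.le_centralizer_iff.mp (iSup_le fun g' => ?_)
      intro x hx
      refine Subgroup.mem_centralizer_iff.mpr fun y hy => ?_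
      exact congrArg Subtype.val (S3061.members_commute _ _ (mem_of_fam (hOfam g)) (mem_of_fam (hOfam g'))
        ⟨y, hVle g hy⟩ hy ⟨x, hVle g' hx⟩ hx)
    exact (Subgroup.mem_centralizer_iff.mp (key ha) b hb).symm
  haveI hVn : V.Normal := ⟨fun v hv h => by
    have hle : V ≤ V.comap (MulAut.conj h).toMonoidHom := iSup_le fun g => by
      rintro _ ⟨d, hd, rfl⟩
      refine le_iSup (fun g : G => D.map (MulAut.conj g).toMonoidHom) (h * g) ⟨d, hd, ?_⟩
      simp [mul_assoc]
    exact hle hv⟩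
  have hVp : IsPGroup p V := CfsgLib.PCore.pCore_isPGroup.to_le hVO
  -- `V` belongs to the family of `S`
  set C := Subgroup.centralizer (V : Set G) with hCdef
  set K := (Cfsg.pCore p (G ⧸ C)).comap (QuotientGroup.mk' C) with hK
  haveI hKn : K.Normal := (Cfsg.pCore_normal p _).comap _
  have hfam : Fam (S : Subgroup G) V := by
    refine ⟨hVO.trans hOS, hVc, fun x hx htr => ?_⟩
    have hle := le_sup_left (a := V) (b := Subgroup.zpowers x)
    have hq : ⁅⁅V, Subgroup.zpowers x⁆, Subgroup.zpowers x⁆ = ⊥ := le_bot_iff.mp (htr ▸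
      Subgroup.commutator_mono (Subgroup.commutator_mono hle le_sup_right) le_sup_right)
    have hxK : x ∈ K := hst V hVp x hq
    have hsyl : ¬ p ∣ (S : Subgroup G).index := S.not_dvd_index
    -- `K = C (S ∩ K)`
    set T := (S : Subgroup G) ⊓ K with hT
    obtain ⟨T', hT'⟩ := CfsgLib.PRed.exists_sylow_inf_normal S K
    have hKT : K ≤ C ⊔ T := CfsgLib.PRed.le_sup_sylow_inf S K fun y hy => by
      obtain ⟨k, hk⟩ := CfsgLib.PCore.pCore_isPGroup (p := p) ⟨_, (hy : QuotientGroup.mk' C y ∈ Cfsg.pCore p (G ⧸ C))⟩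
      exact ⟨k, (QuotientGroup.eq_one_iff _).mp (congrArg Subtype.val hk)⟩
    have hfr : Subgroup.normalizer (T : Set G) ⊔ K = ⊤ := by
      have h := Sylow.normalizer_sup_eq_top T'
      rwa [hT', Subgroup.subgroupOf_map_subtype] at h
    have key : ∀ g : G, x ∈ (S : Subgroup G).map (MulAut.conj g).toMonoidHom →
        ∀ a ∈ D.map (MulAut.conj g).toMonoidHom, a * x = x * a := fun g hg a ha => by
      refine (hD.conj g).2.2 x hg (le_bot_iff.mp (htr ▸ ?_)) a ha
      have hl : D.map (MulAut.conj g).toMonoidHom ⊔ Subgroup.zpowers x ≤ V ⊔ Subgroup.zpowers x :=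
        sup_le_sup_right (le_iSup (fun g : G => D.map (MulAut.conj g).toMonoidHom) g) _
      exact Subgroup.commutator_mono (Subgroup.commutator_mono hl hl) hl
    have hcx : V ≤ Subgroup.centralizer ({x} : Set G) := by
      refine iSup_le fun h => ?_
      have hmem : h ∈ C ⊔ Subgroup.normalizer (T : Set G) := by
        have h1 : h ∈ Subgroup.normalizer (T : Set G) ⊔ K := hfr ▸ Subgroup.mem_top h
        exact (sup_le le_sup_right (hKT.trans (sup_le le_sup_left (Subgroup.le_normalizer.trans le_sup_right)))) h1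
      obtain ⟨c, hc', n, hn, rfl⟩ := Subgroup.mem_sup_of_normal_left.mp hmem
      rintro _ ⟨d, hd, rfl⟩
      rw [Subgroup.mem_centralizer_singleton_iff]
      have hxn : x ∈ (S : Subgroup G).map (MulAut.conj n).toMonoidHom :=
        ⟨n⁻¹ * x * n, ((Subgroup.mem_normalizer_iff''.mp hn x).mp ⟨hx, hxK⟩).1, by simp [mul_assoc]⟩
      have hy : n * d * n⁻¹ ∈ V := le_iSup (fun g : G => D.map (MulAut.conj g).toMonoidHom) n ⟨d, hd, rfl⟩
      have hcy := Subgroup.mem_centralizer_iff.mp hc' _ hy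
      have he : (MulAut.conj (c * n)).toMonoidHom d = n * d * n⁻¹ := by
        simp only [MulEquiv.coe_toMonoidHom, MulAut.conj_apply]
        calc c * n * d * (c * n)⁻¹ = c * (n * d * n⁻¹) * c⁻¹ := by group
          _ = n * d * n⁻¹ := by rw [← hcy]; group
      rw [he]
      exact key n hxn _ ⟨d, hd, rfl⟩
    exact fun a ha => Subgroup.mem_centralizer_singleton_iff.mp (hcx ha)
  have hVD : V ≤ D := fun v hv =>
    ⟨⟨v, hfam.1 hv⟩, le_sSup (mem_of_fam hfam) (Subgroup.mem_subgroupOf.mpr hv), rfl⟩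
  have hDV : D ≤ V := fun d hd => le_iSup (fun g : G => D.map (MulAut.conj g).toMonoidHom) 1 ⟨d, hd, by simp⟩
  rw [le_antisymm hDV hVD]
  exact hVn


end Cfsg.Agent.S3060
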