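import Cfsg.Statements.S3062
import Cfsg.Agent.S3061
import Cfsg.Agent.Lib.PLocal.Replacement

set_option autoImplicit false
open Cfsg

namespace Cfsg.Agent.S3062

open Subgroup
open scoped commutatorElement

/-- An abelian subgroup normalizing `D*` and normalized by it centralizes it. -/
theorem centralizes {S : Type*} [Group S] {D A : Subgroup S} (hD : D ∈ Cfsg.dStarFamily S)
    (hA : IsMulCommutative A) (hDA : ∀ d ∈ D, ∀ a ∈ A, d * a * d⁻¹ ∈ A)
    (hAD : ∀ a ∈ A, ∀ d ∈ D, a * d * a⁻¹ ∈ D) : ∀ d ∈ D, ∀ a ∈ A, d * a = a * d := by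
  intro d hd x hx
  refine hD.2 x (S3061.class_two_of_comm D x hD.1 fun a ha b hb => ?_) d hd
  have h1 : ⁅x, a⁆ ∈ A := by
    rw [commutatorElement_def, show x * a * x⁻¹ * a⁻¹ = x * (a * x⁻¹ * a⁻¹) by group]
    exact mul_mem hx (hDA a ha _ (inv_mem hx))
  have h2 : ⁅x, a⁆ ∈ D := by
    rw [commutatorElement_def]
    exact mul_mem (hAD x hx a ha) (inv_mem ha)
  have hle : D ⊔ zpowers x ≤ centralizer ({⁅x, a⁆} : Set S) := by
    refine sup_le (fun e he => ?_) (zpowers_le.mpr ?_)
    · rw [mem_centralizer_singleton_iff]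
      exact congrArg Subtype.val (hD.1.is_comm.comm ⟨e, he⟩ ⟨_, h2⟩)
    · rw [mem_centralizer_singleton_iff]
      exact congrArg Subtype.val (hA.is_comm.comm ⟨x, hx⟩ ⟨_, h1⟩)
  exact (mem_centralizer_singleton_iff.mp (hle hb)).symm

theorem dStar_normal (S : Type*) [Group S] : (Cfsg.dStar S).Normal := by
  refine ⟨fun x hx g => ?_⟩
  have key : ∀ A ∈ Cfsg.dStarFamily S, A.map (MulAut.conj g).toMonoidHom ∈ Cfsg.dStarFamily S := by
    intro A hA
    haveI := hA.1
    refine ⟨inferInstance, fun y hy => ?_⟩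
    rintro _ ⟨a, ha, rfl⟩
    have h1 : A.map (MulAut.conj g).toMonoidHom ⊔ zpowers y =
        (A ⊔ zpowers (g⁻¹ * y * g)).map (MulAut.conj g).toMonoidHom := by
      rw [Subgroup.map_sup, MonoidHom.map_zpowers]
      congr 2
      simp [mul_assoc]
    rw [h1, ← map_commutator, ← map_commutator, map_eq_bot_iff_of_injective _ (MulAut.conj g).injective] at hy
    have h2 := congrArg (MulAut.conj g) (hA.2 _ hy a ha)
    simpa [mul_assoc] using h2
  have : (Cfsg.dStar S).map (MulAut.conj g).toMonoidHom ≤ Cfsg.dStar S := by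
    rw [Cfsg.dStar, (gc_map_comap _).l_sSup]
    exact iSup₂_le fun A hA => le_sSup (key A hA)
  exact this ⟨x, hx, rfl⟩


/-- Let S be a finite p-group, J(S) the subgroup generated by the abelian subgroups of S of largest order and Z(J(S)) its centre. Then Z(S) ≤ D*(S) ≤ Z(J(S)), and every maximal normal abelian subgroup of S contains D*(S). -/
theorem result {S : Type*} [Group S] [Finite S] {p : ℕ} [Fact p.Prime]
    (hS : IsPGroup p S) :
    Subgroup.center S ≤ Cfsg.dStar S ∧
    Cfsg.dStar S ≤ Cfsg.thompsonSubgroupA S ⊓ Subgroup.centralizer (Cfsg.thompsonSubgroupA S : Set S) ∧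
    ∀ A : Subgroup S, A.Normal → IsMulCommutative A →
      (∀ B : Subgroup S, B.Normal → IsMulCommutative B → A ≤ B → B = A) → Cfsg.dStar S ≤ A := by
  have hD : Cfsg.dStar S ∈ Cfsg.dStarFamily S := S3061.result hS
  haveI hDn : (Cfsg.dStar S).Normal := dStar_normal S
  haveI := hD.1
  set D := Cfsg.dStar S with hDdef
  refine ⟨?_, ?_, ?_⟩
  · refine le_sSup ⟨inferInstance, fun x _ a ha => ?_⟩
    exact (Subgroup.mem_center_iff.mp ha x).symm
  · have key : ∀ (n : ℕ) (A : Subgroup S), CfsgLib.PLocal.IsMaxElemIn 0 ⊤ A →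
        Nat.card D - Nat.card (A ⊓ D : Subgroup S) = n → D ≤ A := by
      intro n
      induction n using Nat.strong_induction_on with
      | _ n ih =>
      intro A hA hn
      have hab : IsMulCommutative A := hA.elem.1
      have hnorm : D ≤ Subgroup.normalizer (A : Set S) := by
        by_contra hnot
        obtain ⟨A', h1, -, h3, h4, h5⟩ := CfsgLib.PLocal.exists_maxElemIn_replacement
          (S := ⊤) (P := ⊤) (B := D) (hS.to_subgroup ⊤) le_rfl le_normalizer le_top
          (fun g _ => Subgroup.subset_normalizer_of_normal (Set.mem_univ g)) hA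
          (by rw [Subgroup.commutator_self_eq_bot_iff.mpr hD.1]; exact bot_le)
          (fun _ => ⟨hD.1, fun a _ => pow_zero a⟩) (Or.inl rfl) hnot
        have hlt : Nat.card D - Nat.card (A' ⊓ D : Subgroup S) < n := by
          rw [← hn]
          have h6 : Nat.card (A ⊓ D : Subgroup S) < Nat.card (A' ⊓ D : Subgroup S) :=
            lt_of_not_ge fun h => h3.ne (Subgroup.eq_of_le_of_card_ge h3.le h)
          have h7 : Nat.card (A' ⊓ D : Subgroup S) ≤ Nat.card D :=
            Subgroup.card_le_of_le inf_le_right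
          omega
        exact hnot ((ih _ hlt A' h1 rfl).trans h5)
      have hc := centralizes hD hab (fun d hd a ha => (Subgroup.mem_normalizer_iff.mp (hnorm hd) a).mp ha)
        (fun a _ d hd => hDn.conj_mem d hd a)
      intro d hd
      exact hA.mem_of_centralizes (Subgroup.mem_top d) (pow_zero d) (fun a ha => (hc d hd a ha).symm)
    have key' : ∀ A ∈ Cfsg.maxAbelianSubgroups S, D ≤ A := fun A hA => by
      refine key _ A ?_ rfl
      have := CfsgLib.PLocal.setOf_isMaxElemIn_zero_top (G := S)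
      exact (Set.ext_iff.mp this A).mpr hA
    refine le_inf ?_ ?_
    · obtain ⟨A, hA⟩ := CfsgLib.PLocal.exists_isMaxElemIn 0 (⊤ : Subgroup S)
      refine (key _ A hA rfl).trans (le_sSup ?_)
      exact (Set.ext_iff.mp (CfsgLib.PLocal.setOf_isMaxElemIn_zero_top (G := S)) A).mp hA
    · rw [Subgroup.le_centralizer_iff]
      refine sSup_le fun A hA a ha => Subgroup.mem_centralizer_iff.mpr fun d hd => ?_
      exact congrArg Subtype.val (hA.1.is_comm.comm ⟨d, key' A hA hd⟩ ⟨a, ha⟩)
  · intro A hAn hA hmax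
    have hc := centralizes hD hA (fun d _ a ha => hAn.conj_mem a ha d) (fun a _ d hd => hDn.conj_mem d hd a)
    haveI : (D ⊔ A).Normal := Subgroup.sup_normal D A
    have h := hmax (D ⊔ A) inferInstance ?_ le_sup_right
    · exact h ▸ le_sup_left
    · haveI := hA
      rw [← Subgroup.closure_eq D, ← Subgroup.closure_eq A, ← Subgroup.closure_union]
      refine Subgroup.isMulCommutative_closure ?_
      rintro x (hx | hx) y (hy | hy)
      · exact congrArg Subtype.val (hD.1.is_comm.comm ⟨x, hx⟩ ⟨y, hy⟩)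
      · exact hc x hx y hy
      · exact (hc y hy x hx).symm
      · exact congrArg Subtype.val (hA.is_comm.comm ⟨x, hx⟩ ⟨y, hy⟩)

end Cfsg.Agent.S3062
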