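import Cfsg.Statements.S3063
import Cfsg.Agent.Lib.PLocal.Replacement

set_option autoImplicit false
open Cfsg

namespace Cfsg.Agent.S3063

open Subgroup
open scoped commutatorElement

variable {G : Type*} [Group G] [Finite G]

theorem card_sup_mul {A B : Subgroup G} (h : B ≤ normalizer (A : Set G)) :
    Nat.card (A ⊔ B : Subgroup G) * Nat.card (A ⊓ B : Subgroup G) = Nat.card A * Nat.card B := by
  have cm : ∀ {X Y : Subgroup G}, X ≤ Y → Nat.card X * X.relIndex Y = Nat.card Y := fun {X Y} hXY => by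
    have e := (X.subgroupOf Y).card_mul_index
    rwa [← relIndex, Nat.card_congr (subgroupOfEquivOfLe hXY).toEquiv] at e
  have e1 := cm (le_sup_left : A ≤ A ⊔ B)
  have e2 := cm (inf_le_right : A ⊓ B ≤ B)
  rw [inf_relIndex_right] at e2
  have e3 : A.relIndex (A ⊔ B) = A.relIndex B := by
    set N := normalizer (A : Set G)
    have h1 : ((A.subgroupOf N)).Normal := normal_in_normalizer
    have h2 := relIndex_sup_right (H := B.subgroupOf N) (K := A.subgroupOf N)
    rw [← subgroupOf_sup h le_normalizer, relIndex_subgroupOf (sup_le h le_normalizer), relIndex_subgroupOf h, sup_comm] at h2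
    exact h2
  rw [← e1, e3, ← e2]; ring


/-- A weak replacement Theorem for metabelian p-groups: let S be a finite p-group whose derived subgroup is abelian and A an abelian subgroup of S of largest possible order. Then the normal closure of A in S contains an abelian subgroup B of the same order as A that is normal in S. -/
theorem result {S : Type*} [Group S] [Finite S] {p : ℕ} [Fact p.Prime]
    (hS : IsPGroup p S) (hmeta : IsMulCommutative ↥(commutator S))
    (A : Subgroup S) (hA : A ∈ Cfsg.maxAbelianSubgroups S) :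
    ∃ B ∈ Cfsg.maxAbelianSubgroups S, B.Normal ∧ B ≤ Subgroup.normalClosure (A : Set S) := by
  set N := Subgroup.normalClosure (A : Set S) with hN
  set T := commutator S with hT
  haveI : N.Normal := Subgroup.normalClosure_normal
  have hTn : T.Normal := inferInstance
  obtain ⟨B, ⟨hB, hBN⟩, hBmax⟩ := Set.exists_max_image
    {B : Subgroup S | B ∈ Cfsg.maxAbelianSubgroups S ∧ B ≤ N}
    (fun B => Nat.card (B ⊓ T : Subgroup S)) (Set.toFinite _) ⟨A, hA, Subgroup.le_normalClosure⟩
  have hBT : T ≤ Subgroup.normalizer (B : Set S) := by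
    by_contra hnot
    have hB' : CfsgLib.PLocal.IsMaxElemIn 0 N B :=
      ⟨hBN, ⟨hB.1, fun b _ => pow_zero b⟩, fun C _ hC => hB.2 C hC.1⟩
    obtain ⟨B', h1, -, h3, -, -⟩ := CfsgLib.PLocal.exists_maxElemIn_replacement
      (S := ⊤) (B := T) (hS.to_subgroup ⊤) le_top
      (fun g _ => Subgroup.subset_normalizer_of_normal (Set.mem_univ g)) le_top
      (fun g _ => Subgroup.subset_normalizer_of_normal (Set.mem_univ g)) hB'
      (by rw [Subgroup.commutator_self_eq_bot_iff.mpr hmeta]; exact bot_le)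
      (fun _ => ⟨hmeta, fun a _ => pow_zero a⟩) (Or.inl rfl) hnot
    have hmem : B' ∈ Cfsg.maxAbelianSubgroups S :=
      ⟨h1.elem.1, fun C hC => (hB.2 C hC).trans (hB'.card_eq h1).le⟩
    exact h3.ne (Subgroup.eq_of_le_of_card_ge h3.le (hBmax B' ⟨hmem, h1.le⟩))
  refine ⟨B, hB, ⟨fun b hb x => ?_⟩, hBN⟩
  have hBc : ∀ a ∈ B, ∀ c ∈ B, a * c = c * a := fun a ha c hc =>
    congrArg Subtype.val (hB.1.is_comm.comm ⟨a, ha⟩ ⟨c, hc⟩)
  have hTc : ∀ a ∈ T, ∀ c ∈ T, a * c = c * a := fun a ha c hc =>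
    congrArg Subtype.val (hmeta.is_comm.comm ⟨a, ha⟩ ⟨c, hc⟩)
  set f := (MulAut.conj x).toMonoidHom
  set B' := B.map f with hB'def
  have hB'c : ∀ a ∈ B', ∀ c ∈ B', a * c = c * a := by
    rintro _ ⟨a, ha, rfl⟩ _ ⟨c, hc, rfl⟩
    rw [← map_mul, ← map_mul, hBc a ha c hc]
  have hTm : T.map f = T := by
    refine le_antisymm ?_ fun t ht => ⟨x⁻¹ * t * x, by simpa using hTn.conj_mem t ht x⁻¹, by simp [f, mul_assoc]⟩
    rintro _ ⟨t, ht, rfl⟩
    exact hTn.conj_mem t ht x
  have hBT' : T ≤ Subgroup.normalizer (B' : Set S) := by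
    rw [← hTm]
    exact (Subgroup.map_mono hBT).trans (Subgroup.le_normalizer_map f)
  have hB'le : B' ≤ B ⊔ T := by
    rintro _ ⟨a, ha, rfl⟩
    have h1 : ⁅x, a⁆ ∈ T := Subgroup.commutator_mem_commutator (Subgroup.mem_top _) (Subgroup.mem_top _)
    rw [show f a = ⁅x, a⁆ * a by simp [f, commutatorElement_def]]
    exact mul_mem (le_sup_right (a := B) h1) (le_sup_left (b := T) ha)
  have hBle : B ≤ B' ⊔ T := by
    intro a ha
    have h1 : ⁅x, a⁆⁻¹ ∈ T := inv_mem (Subgroup.commutator_mem_commutator (Subgroup.mem_top _) (Subgroup.mem_top _))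
    rw [show a = ⁅x, a⁆⁻¹ * f a by simp [f, commutatorElement_def, mul_assoc]]
    exact mul_mem (le_sup_right (a := B') h1) (le_sup_left (b := T) ⟨a, ha, rfl⟩)
  have hn1 : B' ≤ Subgroup.normalizer (B : Set S) := hB'le.trans (sup_le Subgroup.le_normalizer hBT)
  have hn2 : B ≤ Subgroup.normalizer (B' : Set S) := hBle.trans (sup_le Subgroup.le_normalizer hBT')
  set K := B ⊔ B'
  set W := B ⊓ B'
  set U := K ⊓ T
  have hWK : K ≤ Subgroup.centralizer (W : Set S) := by
    refine sup_le (fun a ha => ?_) (fun a ha => ?_)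
    · exact Subgroup.mem_centralizer_iff.mpr fun w hw => hBc w hw.1 a ha
    · exact Subgroup.mem_centralizer_iff.mpr fun w hw => hB'c w hw.2 a ha
  have hX : IsMulCommutative ↥(W ⊔ U) := by
    rw [← Subgroup.closure_eq W, ← Subgroup.closure_eq U, ← Subgroup.closure_union]
    refine Subgroup.isMulCommutative_closure ?_
    rintro a (ha | ha) c (hc | hc)
    · exact hBc a ha.1 c hc.1
    · exact Subgroup.mem_centralizer_iff.mp (hWK hc.1) a ha
    · exact (Subgroup.mem_centralizer_iff.mp (hWK ha.1) c hc).symm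
    · exact hTc a ha.2 c hc.2
  have hKU : K = B ⊔ U := by
    refine le_antisymm (fun k hk => ?_) (sup_le le_sup_left inf_le_left)
    obtain ⟨a, ha, t, ht, rfl⟩ := Subgroup.mem_sup_of_normal_right.mp
      ((sup_le le_sup_left hB'le : K ≤ B ⊔ T) hk)
    have htK : t ∈ K := by
      have := mul_mem (inv_mem (le_sup_left (b := B') ha : a ∈ K)) hk
      rwa [inv_mul_cancel_left] at this
    exact mul_mem (le_sup_left (b := U) ha) (le_sup_right (a := B) (⟨htK, ht⟩ : t ∈ U))
  have hBU : B ⊓ U = B ⊓ T := by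
    refine le_antisymm (inf_le_inf_left _ inf_le_right) (le_inf inf_le_left (le_inf ?_ inf_le_right))
    exact inf_le_left.trans le_sup_left
  have e1 := card_sup_mul hn1
  have e2 := card_sup_mul (A := B) (B := U) (inf_le_right.trans hBT)
  have e3 := card_sup_mul (A := W) (B := U) (fun u hu => by
    refine Subgroup.mem_normalizer_iff.mpr fun w => ⟨fun hw => ?_, fun hw => ?_⟩
    · rwa [← Subgroup.mem_centralizer_iff.mp (hWK hu.1) w hw, mul_inv_cancel_right]
    · have h1 := Subgroup.mem_centralizer_iff.mp (hWK hu.1) _ hw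
      have h2 : u * w * u⁻¹ = w := by
        calc u * w * u⁻¹ = u⁻¹ * (u * w * u⁻¹ * u) := by rw [h1]; group
          _ = w := by group
      rwa [h2] at hw)
  rw [← hKU, hBU] at e2
  have hB'card : Nat.card B' = Nat.card B := Subgroup.card_map_of_injective (MulAut.conj x).injective
  change Nat.card K * Nat.card W = _ at e1
  rw [hB'card] at e1
  have hle1 : Nat.card (W ⊓ U : Subgroup S) ≤ Nat.card (B ⊓ T : Subgroup S) :=
    Subgroup.card_le_of_le (inf_le_inf inf_le_left inf_le_right)
  have hWU : Nat.card W * Nat.card U = Nat.card B * Nat.card (B ⊓ T : Subgroup S) := by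
    have hB0 : 0 < Nat.card B := Nat.card_pos
    refine Nat.eq_of_mul_eq_mul_left hB0 ?_
    calc Nat.card B * (Nat.card W * Nat.card U) = Nat.card B * Nat.card U * Nat.card W := by ring
      _ = Nat.card K * Nat.card W * Nat.card (B ⊓ T : Subgroup S) := by rw [← e2]; ring
      _ = Nat.card B * (Nat.card B * Nat.card (B ⊓ T : Subgroup S)) := by rw [e1]; ring
  have hXge : Nat.card B ≤ Nat.card (W ⊔ U : Subgroup S) := by
    have hp : 0 < Nat.card (W ⊓ U : Subgroup S) := Nat.card_pos
    have : Nat.card B * Nat.card (W ⊓ U : Subgroup S) ≤ Nat.card (W ⊔ U : Subgroup S) * Nat.card (W ⊓ U : Subgroup S) := by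
      rw [e3, hWU]; exact Nat.mul_le_mul_left _ hle1
    exact Nat.le_of_mul_le_mul_right this hp
  have hXmem : W ⊔ U ∈ Cfsg.maxAbelianSubgroups S := ⟨hX, fun C hC => (hB.2 C hC).trans hXge⟩
  have hB'N : B' ≤ N := by
    rintro _ ⟨a, ha, rfl⟩
    exact ‹N.Normal›.conj_mem a (hBN ha) x
  have hXN : W ⊔ U ≤ N := sup_le (inf_le_left.trans hBN) (inf_le_left.trans (sup_le hBN hB'N))
  have hUle : Nat.card U ≤ Nat.card (B ⊓ T : Subgroup S) :=
    le_trans (Subgroup.card_le_of_le (le_inf le_sup_right inf_le_right)) (hBmax (W ⊔ U) ⟨hXmem, hXN⟩)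
  have hUeq : B ⊓ T = U := Subgroup.eq_of_le_of_card_ge
    (le_inf (inf_le_left.trans le_sup_left) inf_le_right) hUle
  have hKB : K = B := by
    rw [hKU, sup_eq_left, ← hUeq]; exact inf_le_left
  have : f b ∈ B := hKB ▸ (le_sup_right (a := B) (⟨b, hb, rfl⟩ : f b ∈ B'))
  exact this

end Cfsg.Agent.S3063
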