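import Cfsg.Statements.S3067
import Cfsg.Agent.S0215
import Cfsg.Agent.Lib.CoprimeCentral.Congr

set_option autoImplicit false
open Cfsg

namespace Cfsg.Agent.S3067

open CfsgLib.CoprimeCentral in
/-- Let G be a finite non-abelian simple group, τ an involution of G, and α a nontrivial automorphism of G whose order is coprime to the order of G. Then α moves some element of the centralizer of τ: α does not fix C_G(τ) elementwise. -/
theorem result {G : Type*} [Group G] [Finite G] [IsSimpleGroup G]
    (hG : ¬ IsMulCommutative G) (τ : G) (hτ : orderOf τ = 2) (α : MulAut G) (hα : α ≠ 1)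
    (hcop : (orderOf α).Coprime (Nat.card G)) :
    ∃ c ∈ Subgroup.centralizer ({τ} : Set G), α c ≠ c := by
  by_contra hcon
  push Not at hcon
  haveI : Fact (Nat.Prime 2) := ⟨Nat.prime_two⟩
  have ho1 : orderOf α ≠ 1 := fun h => hα (orderOf_eq_one_iff.1 h)
  obtain ⟨r, hr, hro⟩ := Nat.exists_prime_and_dvd ho1
  have ho0 : orderOf α ≠ 0 := (orderOf_pos α).ne'
  set β := α ^ (orderOf α / r) with hβdef
  have hβ : orderOf β = r := orderOf_pow_orderOf_div ho0 hro
  have hβr : β ^ r = 1 := hβ ▸ pow_orderOf_eq_one β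
  have hrG : ¬ r ∣ Nat.card G :=
    hr.coprime_iff_not_dvd.1 (Nat.Coprime.coprime_dvd_left hro hcop)
  have hfix : ∀ c ∈ Subgroup.centralizer ({τ} : Set G), β c = c := by
    intro c hc
    have : ∀ k : ℕ, (α ^ k) c = c := by
      intro k
      induction k with
      | zero => simp
      | succ k ih => rw [pow_succ', MulAut.mul_apply, ih, hcon c hc]
    exact this _
  have hne : fixedSub β ≠ ⊤ := by
    intro h
    have : β = 1 := MulEquiv.ext fun g => mem_fixedSub.1 (h ▸ Subgroup.mem_top g)
    rw [this, orderOf_one] at hβ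
    exact hr.one_lt.ne hβ
  have hcore : (fixedSub β).normalCore = ⊥ :=
    ((Subgroup.normalCore_normal (fixedSub β)).eq_bot_or_eq_top).resolve_right
      (fun h => hne (top_le_iff.1 (h ▸ Subgroup.normalCore_le _)))
  have huniq : ∀ u : G, IsConj τ u → β u = u → u = τ := by
    intro u hu huC
    have h := mul_inv_mem_core hr hβr hrG hτ hfix hu huC
    rw [hcore, Subgroup.mem_bot] at h
    exact (inv_mul_eq_one.1 h).symm
  have hτC : β τ = τ := hfix τ (Subgroup.mem_centralizer_iff.2 fun y hy => by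
      rw [Set.mem_singleton_iff.1 hy])
  have hz : IsPGroup 2 ↥(Subgroup.zpowers τ) :=
    IsPGroup.of_card (n := 1) (by rw [Nat.card_zpowers, hτ, pow_one])
  obtain ⟨T, hτT, hTα⟩ := exists_invariant_sylow_ge (p := 2) hr hβr hrG (Subgroup.zpowers τ) hz
    (by rw [MonoidHom.map_zpowers]; exact congrArg _ hτC)
  have hTC := le_fixedSub_of_invariant hr hβr hrG hτ hfix T.2 hTα
  obtain ⟨N, hN, hodd, hcomm⟩ := Cfsg.Agent.S0215.result T τ hτ (hτT (Subgroup.mem_zpowers τ))
    (fun g hg => huniq _ (isConj_iff.2 ⟨g, rfl⟩) (hTC hg))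
  rcases hN.eq_bot_or_eq_top with h | h
  · have hc : τ ∈ Subgroup.center G := by
      rw [Subgroup.mem_center_iff]
      intro g
      have := hcomm g
      rw [h, Subgroup.mem_bot, mul_inv_eq_one, mul_inv_eq_iff_eq_mul] at this
      exact this.symm
    rcases (inferInstance : (Subgroup.center G).Normal).eq_bot_or_eq_top with h2 | h2
    · rw [h2, Subgroup.mem_bot] at hc
      rw [hc, orderOf_one] at hτ
      exact absurd hτ (by norm_num)
    · exact hG ⟨⟨fun a b => Subgroup.mem_center_iff.1 (h2 ▸ Subgroup.mem_top b) a⟩⟩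
  · rw [h, Subgroup.card_top] at hodd
    exact (Nat.not_even_iff_odd.2 hodd) (even_iff_two_dvd.2 (hτ ▸ orderOf_dvd_natCard τ))

end Cfsg.Agent.S3067
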