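import Cfsg.Statements.S3070
import Cfsg.Agent.S2800
import Cfsg.Agent.Lib.ThompsonAbelian.Core
import Cfsg.Agent.Lib.PCore.Basic
import Cfsg.Agent.Lib.Coprime.Action
import Cfsg.Agent.Lib.Coprime.SchurZassenhaus
import Cfsg.Agent.Lib.Transfer.NormalComplement

set_option autoImplicit false
set_option linter.style.haveILetI false
set_option linter.unusedSectionVars false
open Cfsg
open scoped Pointwise

namespace Cfsg.Agent.S3070

open Subgroup CfsgLib.PLocal CfsgLib.Transfer

universe u

variable {G : Type u} [Group G] [Finite G] {p : ℕ} [Fact p.Prime]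

theorem mem_normalizer_of_conj_mem {H : Subgroup G} {g : G} (h : ∀ x ∈ H, g * x * g⁻¹ ∈ H) :
    g ∈ normalizer (H : Set G) :=
  Subgroup.mem_normalizer_iff_map_conj_eq.2 <|
    Subgroup.eq_of_le_of_card_ge (by rintro _ ⟨x, hx, rfl⟩; exact h x hx)
      (Subgroup.card_map_of_injective (MulAut.conj g).injective).ge

/-- Every `p'`-element normalising `J(S)` centralises it. -/
def Hyp (p : ℕ) {G : Type*} [Group G] (S : Subgroup G) : Prop :=
  ∀ g ∈ normalizer (thompson 0 S : Set G), (orderOf g).Coprime p →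
    g ∈ centralizer (thompson 0 S : Set G)

theorem hyp_subgroup {S H : Subgroup G} (hSH : S ≤ H) (h : Hyp p S) : Hyp p (S.subgroupOf H) := by
  intro g hg hc
  have hJ : thompson 0 S = (thompson 0 (S.subgroupOf H)).map H.subtype := by
    rw [← thompson_map H.subtype_injective, map_subgroupOf_eq_of_le hSH]
  have h1 : (g : G) ∈ normalizer (thompson 0 S : Set G) := by
    rw [hJ]
    exact le_normalizer_map H.subtype ⟨g, hg, rfl⟩
  have h2 := h g h1 (by rwa [Subgroup.orderOf_coe])
  rw [mem_centralizer_iff]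
  intro x hx
  refine Subtype.ext ?_
  exact mem_centralizer_iff.1 h2 _ (by rw [hJ]; exact ⟨x, hx, rfl⟩)

theorem hyp_quotient (S : Sylow p G) (L : Subgroup G) [L.Normal] (hL : (Nat.card L).Coprime p)
    (h : Hyp p (S : Subgroup G)) :
    Hyp p ((S : Subgroup G).map (QuotientGroup.mk' L)) := by
  set π := QuotientGroup.mk' L with hπ
  set f : ↥(S : Subgroup G) →* G ⧸ L := π.comp (S : Subgroup G).subtype with hf
  have hinj : Function.Injective f := by
    rw [injective_iff_map_eq_one]
    intro x hx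
    have hxL : (x : G) ∈ L := (QuotientGroup.eq_one_iff (x : G)).1 hx
    obtain ⟨i, hi⟩ := S.2 x
    refine Subtype.ext (orderOf_eq_one_iff.1 (Nat.eq_one_of_dvd_coprimes
      ((coprime_orderOf_of_not_dvd ?_ hxL).pow_right i) dvd_rfl
      (orderOf_dvd_of_pow_eq_one (congrArg Subtype.val hi))))
    exact fun hd => (Fact.out : p.Prime).ne_one (Nat.eq_one_of_dvd_coprimes hL hd dvd_rfl)
  set J := thompson 0 (S : Subgroup G) with hJ
  have hJ' : thompson 0 ((S : Subgroup G).map π) = J.map π := by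
    have e1 : (S : Subgroup G).map π = (⊤ : Subgroup ↥(S : Subgroup G)).map f := by
      rw [hf, ← Subgroup.map_map, map_subtype_top]
    rw [e1, thompson_map hinj, hf, ← Subgroup.map_map, ← thompson_map (S : Subgroup G).subtype_injective,
      map_subtype_top]
  intro x hx hc
  rw [hJ'] at hx ⊢
  obtain ⟨g, rfl⟩ := QuotientGroup.mk'_surjective L x
  set T := (J.map π).comap π with hT
  have hJT : J ≤ T := le_comap_map _ _
  have hgJ : J.map (MulAut.conj g).toMonoidHom ≤ T := by
    rintro _ ⟨j, hj, rfl⟩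
    have := (mem_set_normalizer_iff.1 hx (π j)).1 (mem_map_of_mem π hj)
    show π (g * j * g⁻¹) ∈ J.map π
    rwa [map_mul, map_mul, map_inv]
  have hLT : L ≤ T := fun l hl => by
    show π l ∈ J.map π
    rw [show π l = 1 from (QuotientGroup.eq_one_iff l).2 hl]; exact one_mem _
  haveI : (L.subgroupOf T).Normal := inferInstance
  have hJp : IsPGroup p J := S.2.to_le (thompson_le 0 _)
  obtain ⟨j, hj⟩ := IsPGroup.iff_card.1 hJp
  have hdisj : J ⊓ L = ⊥ := CfsgLib.PCore.inf_eq_bot_of_isPGroup_coprime hJp hL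
  have hcardT : Nat.card T = Nat.card L * Nat.card J := by
    rw [hT, CfsgLib.PCore.card_comap_mk']
    congr 1
    refine (Nat.card_eq_of_bijective (fun x : ↥J => (⟨π x, mem_map_of_mem π x.2⟩ : ↥(J.map π)))
      ⟨?_, ?_⟩).symm
    · intro a b hab
      have e : π ((a : G)⁻¹ * b) = 1 := by
        rw [map_mul, map_inv, show π (a : G) = π b from congrArg Subtype.val hab, inv_mul_cancel]
      have : (a : G)⁻¹ * b ∈ J ⊓ L :=
        ⟨J.mul_mem (J.inv_mem a.2) b.2, (QuotientGroup.eq_one_iff _).1 e⟩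
      rw [hdisj, mem_bot, inv_mul_eq_one] at this
      exact Subtype.ext this
    · rintro ⟨_, y, hy, rfl⟩
      exact ⟨⟨y, hy⟩, rfl⟩
  set L' := L.subgroupOf T with hL'
  have hL'c : Nat.card L' = Nat.card L := Nat.card_congr (subgroupOfEquivOfLe hLT).toEquiv
  have hidx : L'.index = Nat.card J := by
    have h2 := L'.index_mul_card
    rw [hL'c, hcardT, mul_comm] at h2
    exact mul_left_cancel₀ (Nat.card_pos (α := ↥L)).ne' h2
  have hcop : (Nat.card L').Coprime L'.index := by
    rw [hidx, hL'c, hj]; exact hL.pow_right j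
  have hs : Group.IsSolvable (↥T ⧸ L') := by
    haveI : Group.IsNilpotent (↥T ⧸ L') :=
      (IsPGroup.of_card (n := j) (by rw [← Subgroup.index, hidx, hj]) : IsPGroup p (↥T ⧸ L')).isNilpotent
    exact inferInstance
  obtain ⟨l, hl, hconj⟩ := CfsgLib.Coprime.conj_complement_of_card L' hcop (Or.inr hs)
    ((J.map (MulAut.conj g).toMonoidHom).subgroupOf T) (J.subgroupOf T)
    (by rw [hidx, Nat.card_congr (subgroupOfEquivOfLe hgJ).toEquiv,
      Subgroup.card_map_of_injective (MulAut.conj g).injective])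
    (by rw [hidx, Nat.card_congr (subgroupOfEquivOfLe hJT).toEquiv])
  have hn : (l : G) * g ∈ normalizer (J : Set G) := by
    refine mem_normalizer_of_conj_mem fun y hy => ?_
    have hm : (⟨g * y * g⁻¹, hgJ ⟨y, hy, rfl⟩⟩ : ↥T) ∈
        (J.map (MulAut.conj g).toMonoidHom).subgroupOf T := ⟨y, hy, rfl⟩
    have h1 := Subgroup.smul_mem_pointwise_smul _ (MulAut.conj l) _ hm
    rw [hconj] at h1
    have h2 : (l : G) * (g * y * g⁻¹) * (l : G)⁻¹ ∈ J := h1
    have e : (l : G) * g * y * ((l : G) * g)⁻¹ = (l : G) * (g * y * g⁻¹) * (l : G)⁻¹ := by group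
    rwa [e]
  set n := (l : G) * g with hndef
  have hπn : π n = π g := by
    rw [hndef, map_mul, show π (l : G) = 1 from (QuotientGroup.eq_one_iff _).2 hl, one_mul]
  -- the `p'`-part of the lift
  set a := (orderOf n).factorization p with ha
  have hp' : p.Prime := Fact.out
  obtain ⟨i, hi⟩ : ∃ i : ℕ, p ^ a * i ≡ 1 [MOD orderOf (π g)] := by
    rcases Nat.lt_or_ge 1 (orderOf (π g)) with h1 | h1
    · obtain ⟨i, -, hi⟩ := Nat.exists_mul_mod_eq_one_of_coprime (hc.symm.pow_left a) h1
      exact ⟨i, by rw [Nat.ModEq, hi, Nat.mod_eq_of_lt h1]⟩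
    · have : orderOf (π g) = 1 := le_antisymm h1 (orderOf_pos _)
      exact ⟨0, by rw [this]; exact Nat.modEq_one⟩
  set m := n ^ (p ^ a * i) with hm
  have hmc : (orderOf m).Coprime p := by
    have h1 : (orderOf (n ^ p ^ a)).Coprime p := by
      rw [orderOf_pow, Nat.gcd_eq_right (Nat.ordProj_dvd _ _)]
      exact (Nat.coprime_ordCompl hp' (orderOf_pos n).ne').symm
    exact Nat.Coprime.coprime_dvd_left (by rw [hm, pow_mul]; exact orderOf_pow_dvd i) h1
  have hmn : m ∈ normalizer (J : Set G) := pow_mem hn _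
  have hmπ : π m = π g := by
    rw [hm, map_pow, hπn, pow_eq_pow_of_modEq hi (pow_orderOf_eq_one _), pow_one]
  have hm2 := h m hmn hmc
  rw [← hmπ, mem_centralizer_iff]
  rintro _ ⟨y, hy, rfl⟩
  rw [← map_mul, ← map_mul, mem_centralizer_iff.1 hm2 y hy]

set_option maxHeartbeats 1000000 in
theorem main (hp : 5 ≤ p) : ∀ (n : ℕ) {G : Type u} [Group G] [Finite G], Nat.card G = n →
    ∀ S : Sylow p G, Hyp p (S : Subgroup G) → Cfsg.HasNormalPComplement p G := by
  intro n
  induction n using Nat.strong_induction_on with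
  | _ n ih =>
  intro G _ _ hn S hS
  subst hn
  have hp' : p.Prime := Fact.out
  have hsub : ∀ H : Subgroup G, (S : Subgroup G) ≤ H → H ≠ ⊤ →
      Cfsg.HasNormalPComplement p ↥H := fun H hSH hH =>
    ih (Nat.card H) (lt_of_le_of_ne (card_le_card_group H) fun e => hH (eq_top_of_card_eq _ e))
      (G := ↥H) rfl (S.subtype hSH) (hyp_subgroup hSH hS)
  by_cases hpp : Cfsg.pPrimeCore p G = ⊥
  swap
  · -- pass to the quotient by the `p'`-core
    set L := Cfsg.pPrimeCore p G with hLdef
    have hLc : (Nat.card L).Coprime p := CfsgLib.PCore.pPrimeCore_coprime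
    haveI hLn : L.Normal := inferInstance
    have hlt : Nat.card (G ⧸ L) < Nat.card G := by
      have h1 := L.card_eq_card_quotient_mul_card_subgroup
      rw [h1]
      exact lt_mul_of_one_lt_right Nat.card_pos (L.one_lt_card_iff_ne_bot.2 hpp)
    have hq := ih _ hlt (G := G ⧸ L) rfl (S.mapSurjective (QuotientGroup.mk'_surjective L)) (by
      rw [Sylow.coe_mapSurjective]
      exact hyp_quotient S L hLc hS)
    rw [hasNormalPComplement_iff] at hq ⊢
    intro hd
    rw [← map_pResidual_of_surjective _ (QuotientGroup.mk'_surjective L)] at hq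
    have hle : Cfsg.pResidual p G ≤
        ((Cfsg.pResidual p G).map (QuotientGroup.mk' L)).comap (QuotientGroup.mk' L) :=
      le_comap_map _ _
    have h2 := hd.trans (card_dvd_of_le hle)
    rw [CfsgLib.PCore.card_comap_mk'] at h2
    rcases hp'.dvd_mul.1 h2 with h3 | h3
    · exact hp'.ne_one (Nat.eq_one_of_dvd_coprimes hLc h3 dvd_rfl)
    · exact hq h3
  set J := thompson 0 (S : Subgroup G) with hJ
  have hSJ : (S : Subgroup G) ≤ normalizer (J : Set G) := le_normalizer_thompson 0 _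
  have hJS : J ≤ (S : Subgroup G) := thompson_le 0 _
  by_cases hN : normalizer (J : Set G) = ⊤
  · -- `J` is normal
    haveI : J.Normal := normalizer_eq_top_iff.1 hN
    set C := centralizer (J : Set G) with hC
    obtain ⟨Q⟩ : Nonempty (Sylow p ↥C) := inferInstance
    have hQJ : ∀ q ∈ (Q : Subgroup ↥C), (q : G) ∈ J := by
      intro q hq
      obtain ⟨R, hR⟩ := (Q.2.map C.subtype).exists_le_sylow
      obtain ⟨g, hg⟩ := MulAction.exists_smul_eq G R S
      have h1 : g * (q : G) * g⁻¹ ∈ (S : Subgroup G) := by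
        rw [← hg, Sylow.coe_subgroup_smul]
        exact ⟨q, hR ⟨q, hq, rfl⟩, rfl⟩
      have h2 : g * (q : G) * g⁻¹ ∈ C := (inferInstance : C.Normal).conj_mem _ q.2 g
      have h3 : g * (q : G) * g⁻¹ ∈ J :=
        (mem_centerJ_of_centralizes h1 (pow_zero _) h2).1
      simpa [mul_assoc] using (inferInstance : J.Normal).conj_mem _ h3 g⁻¹
    have hCC : Cfsg.HasNormalPComplement p ↥C :=
      hasNormalPComplement_of_normalizer_le Q fun x _ => mem_centralizer_iff.2 fun q hq =>
        Subtype.ext (mem_centralizer_iff.1 x.2 _ (hQJ q hq))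
    refine hasNormalPComplement_of_le C (pResidual_le_iff.2 fun x hx => ?_) hCC
    exact hS x (by rw [hN]; trivial) hx
  set Z := (S : Subgroup G) ⊓ centralizer ((S : Subgroup G) : Set G) with hZ
  by_cases hCZ : centralizer (Z : Set G) = ⊤
  swap
  · -- Thompson's criterion
    refine Cfsg.Agent.S2800.result S (Or.inl (by omega)) (hsub _ ?_ hCZ) ?_
    · intro s hs
      exact mem_centralizer_iff.2 fun z hz => (mem_centralizer_iff.1 hz.2 s hs).symm
    · rw [thompsonSubgroupAOf_eq]; exact hsub _ hSJ hN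
  -- `Z(S)` is central
  set P := Cfsg.pCore p G with hP
  have hPS : P ≤ (S : Subgroup G) := CfsgLib.PCore.pCore_le_sylow S
  haveI hPn : P.Normal := inferInstance
  have hPp : IsPGroup p P := CfsgLib.PCore.pCore_isPGroup
  have hnotnormal : ¬ (S : Subgroup G).Normal := fun h => hN (top_le_iff.1
    ((normalizer_eq_top_iff.2 h).ge.trans (normalizer_le_normalizer_thompson 0 _)))
  set π := QuotientGroup.mk' P with hπ
  have hπs : Function.Surjective π := QuotientGroup.mk'_surjective P
  set S' := S.mapSurjective hπs with hS'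
  have hS'c : (S' : Subgroup (G ⧸ P)) = (S : Subgroup G).map π := Sylow.coe_mapSurjective _ _
  have hS'ne : (S' : Subgroup (G ⧸ P)) ≠ ⊥ := by
    intro h
    rw [hS'c, Subgroup.map_eq_bot_iff, hπ, QuotientGroup.ker_mk'] at h
    exact hnotnormal (le_antisymm hPS h ▸ hPn)
  have hcore : Cfsg.pCore p (G ⧸ P) = ⊥ := CfsgLib.PCore.pCore_quotient_pCore
  have hpre : ∀ D : Subgroup (G ⧸ P), (S' : Subgroup (G ⧸ P)) ≤ D → D ≠ ⊤ →
      Cfsg.HasNormalPComplement p ↥D := by
    intro D hSD hD
    have h1 := hsub (D.comap π) (fun s hs => hSD (hS'c ▸ mem_map_of_mem π hs)) (fun e => hD (by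
      rw [← map_comap_eq_self_of_surjective hπs D, e, Subgroup.map_top_of_surjective _ hπs]))
    exact hasNormalPComplement_of_surjective (π.subgroupComap D)
      (MonoidHom.subgroupComap_surjective_of_surjective π D hπs) h1
  have hnb : ∀ D : Subgroup (G ⧸ P), D ≤ (S' : Subgroup (G ⧸ P)) → D.Normal → D = ⊥ :=
    fun D hD hDn => le_bot_iff.1 (hcore ▸ CfsgLib.PCore.le_pCore hDn (S'.2.to_le hD))
  have hnS' : Group.IsNilpotent ↥(S' : Subgroup (G ⧸ P)) := S'.2.isNilpotent
  have hq : Cfsg.HasNormalPComplement p (G ⧸ P) := by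
    refine Cfsg.Agent.S2800.result S' (Or.inl (by omega)) (hpre _ ?_ ?_) ?_
    · intro s hs
      exact mem_centralizer_iff.2 fun z hz => (mem_centralizer_iff.1 hz.2 s hs).symm
    · intro h
      set Z' := (S' : Subgroup (G ⧸ P)) ⊓ centralizer ((S' : Subgroup (G ⧸ P)) : Set (G ⧸ P))
      have hZn : Z'.Normal := by
        refine ⟨fun z hz g => ?_⟩
        have := mem_centralizer_iff.1 (h ▸ mem_top g : g ∈ centralizer (Z' : Set _)) z hz
        rwa [← this, mul_inv_cancel_right]
      have hZb := hnb Z' inf_le_left hZn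
      haveI : Nontrivial ↥(S' : Subgroup (G ⧸ P)) := (nontrivial_iff_ne_bot _).2 hS'ne
      obtain ⟨⟨z, hz⟩, hz1⟩ := ne_bot_iff_exists_ne_one.1 (ne_of_gt S'.2.bot_lt_center)
      have : (z : G ⧸ P) ∈ Z' := ⟨z.2, mem_centralizer_iff.2 fun a ha =>
        congrArg Subtype.val (mem_center_iff.1 hz ⟨a, ha⟩)⟩
      rw [hZb, mem_bot] at this
      exact hz1 (Subtype.ext (Subtype.ext this))
    · rw [thompsonSubgroupAOf_eq]
      refine hpre _ (le_normalizer_thompson 0 _) fun h => ?_
      have hb := hnb _ (thompson_le 0 _) (normalizer_eq_top_iff.1 h)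
      exact centerJ_zero_ne_bot S'.2 hS'ne (le_bot_iff.1 (hb ▸ centerJ_le_thompson 0 _))
  -- the `p'`-part
  set R := Cfsg.pResidual p (G ⧸ P) with hR
  haveI hRn : R.Normal := pResidual_normal
  have hRp : ¬ p ∣ Nat.card R := hasNormalPComplement_iff.1 hq
  set M := R.comap π with hM
  haveI hMn : M.Normal := hRn.comap π
  have hPM : P ≤ M := fun x hx => by
    show π x ∈ R
    rw [show π x = 1 from (QuotientGroup.eq_one_iff x).2 hx]; exact one_mem _
  have hMcard : Nat.card M = Nat.card P * Nat.card R := CfsgLib.PCore.card_comap_mk' P R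
  have hMq : IsPGroup p (G ⧸ M) := by
    intro x
    obtain ⟨g, rfl⟩ := QuotientGroup.mk_surjective x
    obtain ⟨k, hk⟩ := exists_pow_mem_pResidual (p := p) (π g)
    exact ⟨k, by rw [← QuotientGroup.mk_pow, QuotientGroup.eq_one_iff]
                 show π (g ^ p ^ k) ∈ R
                 rwa [map_pow]⟩
  have hSM : (S : Subgroup G) ⊔ M = ⊤ := sylow_sup_eq_top S M hMq
  -- a complement of `P` in `M`
  set P' := P.subgroupOf M with hP'
  have hP'c : Nat.card P' = Nat.card P := Nat.card_congr (subgroupOfEquivOfLe hPM).toEquiv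
  have hP'i : P'.index = Nat.card R := by
    have h2 := P'.index_mul_card
    rw [hP'c, hMcard, mul_comm] at h2
    exact mul_left_cancel₀ (Nat.card_pos (α := ↥P)).ne' h2
  obtain ⟨e, he⟩ := IsPGroup.iff_card.1 hPp
  have hRcop : (Nat.card R).Coprime p := CfsgLib.PCore.coprime_of_not_dvd_card hRp
  have hcop : (Nat.card P').Coprime P'.index := by
    rw [hP'c, hP'i, he]; exact (hRcop.pow_right e).symm
  obtain ⟨H₀, hH₀⟩ := Subgroup.exists_right_complement'_of_coprime hcop
  have hH₀c : Nat.card H₀ = P'.index := hH₀.symm.index_eq_card.symm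
  set H := H₀.map M.subtype with hH
  have hHM : H ≤ M := map_subtype_le _
  have hHc : Nat.card H = Nat.card R := by
    rw [hH, Subgroup.card_map_of_injective M.subtype_injective, hH₀c, hP'i]
  have hHcop : (Nat.card H).Coprime p := hHc ▸ hRcop
  have hPH : P ⊓ H = ⊥ := CfsgLib.PCore.inf_eq_bot_of_isPGroup_coprime hPp hHcop
  have hMPH : M ≤ P ⊔ H := by
    intro x hx
    obtain ⟨⟨⟨a, ha⟩, ⟨b, hb⟩⟩, hab⟩ := hH₀.2 ⟨x, hx⟩
    have e : (a : G) * (b : G) = x := congrArg Subtype.val hab
    rw [← e]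
    exact mul_mem_sup ha ⟨b, hb, rfl⟩
  have hsolvP : Group.IsSolvable ↥P' := by
    haveI : Group.IsNilpotent ↥P' := (hPp.of_equiv (subgroupOfEquivOfLe hPM).symm).isNilpotent
    exact inferInstance
  have hfrat : ∀ g : G, ∃ x ∈ P, x * g ∈ normalizer (H : Set G) := by
    intro g
    have hgH : H.map (MulAut.conj g).toMonoidHom ≤ M := by
      rintro _ ⟨y, hy, rfl⟩
      exact hMn.conj_mem y (hHM hy) g
    obtain ⟨x, hx, hxe⟩ := CfsgLib.Coprime.conj_complement_of_card P' hcop (Or.inl hsolvP)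
      ((H.map (MulAut.conj g).toMonoidHom).subgroupOf M) H₀
      (by rw [Nat.card_congr (subgroupOfEquivOfLe hgH).toEquiv,
        Subgroup.card_map_of_injective (MulAut.conj g).injective, hHc, hP'i]) hH₀c
    refine ⟨(x : G), hx, mem_normalizer_of_conj_mem fun y hy => ?_⟩
    have hm : (⟨g * y * g⁻¹, hgH ⟨y, hy, rfl⟩⟩ : ↥M) ∈
        (H.map (MulAut.conj g).toMonoidHom).subgroupOf M := ⟨y, hy, rfl⟩
    have h1 := Subgroup.smul_mem_pointwise_smul _ (MulAut.conj x) _ hm
    rw [hxe] at h1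
    refine ⟨_, h1, ?_⟩
    show (x : G) * (g * y * g⁻¹) * (x : G)⁻¹ = _
    group
  set S₀ := (S : Subgroup G) ⊓ normalizer (H : Set G) with hS₀
  have hSS₀ : (S : Subgroup G) ≤ P ⊔ S₀ := by
    intro s hs
    obtain ⟨x, hx, hxs⟩ := hfrat s
    have e : s = x⁻¹ * (x * s) := by group
    rw [e]
    exact mul_mem_sup (P.inv_mem hx) ⟨(S : Subgroup G).mul_mem (hPS hx) hs, hxs⟩
  have hnormPL : ∀ L : Subgroup G, S₀ ≤ normalizer (L : Set G) →
      H ≤ normalizer ((P ⊔ L : Subgroup G) : Set G) → (P ⊔ L).Normal := by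
    intro L hL hH'
    refine normalizer_eq_top_iff.1 (top_le_iff.1 ?_)
    have hPn' : P ≤ normalizer ((P ⊔ L : Subgroup G) : Set G) := le_sup_left.trans le_normalizer
    rw [← hSM]
    refine sup_le (hSS₀.trans (sup_le hPn' ?_)) (hMPH.trans (sup_le hPn' hH'))
    intro s hs
    refine mem_normalizer_of_conj_mem fun x hx => ?_
    obtain ⟨a, ha, b, hb, rfl⟩ := mem_sup_of_normal_left.1 hx
    have e : s * (a * b) * s⁻¹ = s * a * s⁻¹ * (s * b * s⁻¹) := by group
    rw [e]
    exact mul_mem_sup (hPn.conj_mem a ha s) ((mem_set_normalizer_iff.1 (hL hs) b).1 hb)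
  -- subgroups of `H` normalised by `S₀`
  have hmin : ∀ L ≤ H, S₀ ≤ normalizer (L : Set G) → L = H ∨ L = ⊥ := by
    intro L hLH hL
    by_cases hLeq : L = H
    · exact Or.inl hLeq
    refine Or.inr ?_
    set T := (P ⊔ L) ⊔ S₀ with hT
    have hST : (S : Subgroup G) ≤ T :=
      hSS₀.trans (sup_le (le_sup_left.trans le_sup_left) le_sup_right)
    have hTne : T ≠ ⊤ := by
      intro hTt
      refine hLeq (le_antisymm hLH fun h hh => ?_)
      have hn : S₀ ≤ normalizer ((P ⊔ L : Subgroup G) : Set G) := by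
        intro s hs
        refine mem_normalizer_of_conj_mem fun x hx => ?_
        obtain ⟨a, ha, b, hb, rfl⟩ := mem_sup_of_normal_left.1 hx
        have e : s * (a * b) * s⁻¹ = s * a * s⁻¹ * (s * b * s⁻¹) := by group
        rw [e]
        exact mul_mem_sup (hPn.conj_mem a ha s) ((mem_set_normalizer_iff.1 (hL hs) b).1 hb)
      have hmem : h ∈ T := hTt ▸ mem_top h
      rw [hT, sup_comm, ← SetLike.mem_coe, Subgroup.coe_mul_of_left_le_normalizer_right _ _ hn] at hmem
      obtain ⟨s, hs, y, hy, hsy⟩ := hmem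
      have hsM : s ∈ M := by
        have e : s = h * y⁻¹ := by rw [← hsy]; group
        rw [e]
        exact M.mul_mem (hHM hh) (M.inv_mem (sup_le hPM (hLH.trans hHM) hy))
      have hsP : s ∈ P := by
        refine (QuotientGroup.eq_one_iff s).1 (?_ : π s = 1)
        have h1 : IsPGroup p ↥((S : Subgroup G).map π) := S.2.map π
        have h2 := CfsgLib.PCore.inf_eq_bot_of_isPGroup_coprime h1 hRcop
        exact mem_bot.1 (h2 ▸ ⟨mem_map_of_mem π hs.1, hsM⟩)
      obtain ⟨a, ha, l, hl, rfl⟩ := mem_sup_of_normal_left.1 hy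
      have hz : h * l⁻¹ ∈ P ⊓ H := by
        refine ⟨?_, H.mul_mem hh (H.inv_mem (hLH hl))⟩
        have e : h * l⁻¹ = s * a := by rw [← hsy]; group
        rw [e]; exact P.mul_mem hsP ha
      rw [hPH, mem_bot, mul_inv_eq_one] at hz
      exact hz ▸ hl
    have hTC := frobeniusCond_of_hasNormalPComplement (hsub T hST hTne)
    -- `L` centralises `P`
    have hLP : L ≤ centralizer (P : Set G) := by
      intro l hl
      have hlT : l ∈ T := le_sup_left (a := P ⊔ L) (mem_sup_right hl)
      have hPT : P ≤ T := le_sup_left.trans le_sup_left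
      have h1 := hTC (P.subgroupOf T) (hPp.of_equiv (subgroupOfEquivOfLe hPT).symm) ⟨l, hlT⟩
        (by
          rw [normalizer_eq_top_iff.2 (inferInstance : (P.subgroupOf T).Normal)]
          trivial)
        (by
          rw [← Subgroup.orderOf_coe]
          exact hHcop.coprime_dvd_left (H.orderOf_dvd_natCard (hLH hl)))
      exact mem_centralizer_iff.2 fun x hx =>
        congrArg Subtype.val (mem_centralizer_iff.1 h1 ⟨x, hPT hx⟩ hx)
    -- so it lies in a normal `p'`-subgroup
    set C₀ := H ⊓ centralizer (P : Set G) with hC₀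
    have hC₀n : C₀.Normal := by
      refine normalizer_eq_top_iff.1 (top_le_iff.1 ?_)
      have hP0 : P ≤ normalizer (C₀ : Set G) := fun a ha => mem_normalizer_of_conj_mem fun c hc => by
        rw [mem_centralizer_iff.1 hc.2 a ha, mul_inv_cancel_right]; exact hc
      have hN0 : normalizer (H : Set G) ≤ normalizer (C₀ : Set G) := fun s hs =>
        mem_normalizer_of_conj_mem fun c hc =>
          ⟨(mem_set_normalizer_iff.1 hs c).1 hc.1,
            (inferInstance : (centralizer (P : Set G)).Normal).conj_mem c hc.2 s⟩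
      rw [← hSM]
      exact sup_le (hSS₀.trans (sup_le hP0 (inf_le_right.trans hN0)))
        (hMPH.trans (sup_le hP0 (le_normalizer.trans hN0)))
    have hC₀b : C₀ = ⊥ := le_bot_iff.1 (hpp ▸ CfsgLib.PCore.le_pPrimeCore hC₀n
      (hHcop.coprime_dvd_left (card_dvd_of_le inf_le_left)))
    exact le_bot_iff.1 (hC₀b ▸ le_inf hLH hLP)
  -- the complement is not trivial
  have hHne : H ≠ ⊥ := by
    intro h
    have hMP : M ≤ P := hMPH.trans (by rw [h, sup_bot_eq])
    refine hnotnormal ?_
    have htop : (S : Subgroup G) = ⊤ :=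
      top_le_iff.1 (hSM ▸ sup_le le_rfl (hMP.trans hPS))
    rw [htop]; infer_instance
  -- it is abelian
  obtain ⟨q, hq', hqd⟩ := Nat.exists_prime_and_dvd ((H.one_lt_card_iff_ne_bot.2 hHne).ne')
  haveI : Fact q.Prime := ⟨hq'⟩
  have hS₀p : IsPGroup p S₀ := S.2.to_le inf_le_left
  obtain ⟨e₀, he₀⟩ := IsPGroup.iff_card.1 hS₀p
  haveI : Group.IsNilpotent ↥S₀ := hS₀p.isNilpotent
  obtain ⟨Q, hQ⟩ := CfsgLib.Coprime.exists_invariant_sylow S₀ H inf_le_right
    (by rw [he₀]; exact (hHcop.pow_right e₀).symm) (Or.inl inferInstance) q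
  have hQH : (Q : Subgroup ↥H).map H.subtype = H := by
    refine (hmin _ (map_subtype_le _) hQ).resolve_right ?_
    rw [Subgroup.map_eq_bot_iff_of_injective _ H.subtype_injective]
    exact Q.ne_bot_of_dvd_card hqd
  have hHq : IsPGroup q H := hQH ▸ Q.2.map H.subtype
  have hab : ∀ a ∈ H, ∀ b ∈ H, a * b = b * a := by
    have hne' : ⁅H, H⁆ ≠ H := CfsgLib.ThompsonAbelian.commutator_lt hHq le_rfl hHne
    have hbot : ⁅H, H⁆ = ⊥ :=
      (hmin _ (commutator_le_self H) fun s hs =>
        Subgroup.mem_normalizer_iff_map_conj_eq.2 (by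
          rw [map_commutator, Subgroup.mem_normalizer_iff_map_conj_eq.1 hs.2])).resolve_left hne'
    intro a ha b hb
    exact commutatorElement_eq_one_iff_mul_comm.1
      (mem_bot.1 (hbot ▸ commutator_mem_commutator ha hb))
  have hHnorm : ∀ L ≤ H, H ≤ normalizer ((P ⊔ L : Subgroup G) : Set G) := by
    intro L hL h hh
    refine mem_normalizer_of_conj_mem fun x hx => ?_
    obtain ⟨a, ha, b, hb, rfl⟩ := mem_sup_of_normal_left.1 hx
    have e : h * (a * b) * h⁻¹ = h * a * h⁻¹ * (h * b * h⁻¹) := by group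
    rw [e, hab h hh b (hL hb), mul_inv_cancel_right]
    exact mul_mem_sup (hPn.conj_mem a ha h) hb
  have hKN : ∀ g : G, ∀ k ∈ H, g * k * g⁻¹ ∈ P ⊔ H := fun g k hk =>
    (hnormPL H inf_le_right (hHnorm H le_rfl)).conj_mem k (mem_sup_right hk) g
  have hmin' : ∀ L ≤ H, (∀ g : G, ∀ l ∈ L, g * l * g⁻¹ ∈ P ⊔ L) → L = ⊥ ∨ L = H := by
    intro L hL hLn
    refine (hmin L hL fun s hs => mem_normalizer_of_conj_mem fun l hl => ?_).symm
    obtain ⟨a, ha, b, hb, e⟩ := mem_sup_of_normal_left.1 (hLn s l hl)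
    have h1 : s * l * s⁻¹ ∈ H := (mem_set_normalizer_iff.1 hs.2 l).1 (hL hl)
    have ha1 : a ∈ P ⊓ H := ⟨ha, by
      have e' : a = s * l * s⁻¹ * b⁻¹ := by rw [← e, mul_inv_cancel_right]
      rw [e']; exact H.mul_mem h1 (H.inv_mem (hL hb))⟩
    rw [hPH, mem_bot] at ha1
    rw [← e, ha1, one_mul]; exact hb
  have hPK : ¬ P ≤ centralizer (H : Set G) := by
    intro h
    have hHC : H ≤ centralizer (P : Set G) := fun x hx =>
      mem_centralizer_iff.2 fun a ha => (mem_centralizer_iff.1 (h ha) x hx).symm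
    refine hHne (le_bot_iff.1 (hpp ▸ CfsgLib.PCore.le_pPrimeCore ?_ hHcop))
    refine normalizer_eq_top_iff.1 (top_le_iff.1 ?_)
    have hP0 : P ≤ normalizer (H : Set G) := fun a ha => mem_normalizer_of_conj_mem fun c hc => by
      rw [mem_centralizer_iff.1 (hHC hc) a ha, mul_inv_cancel_right]; exact hc
    rw [← hSM]
    exact sup_le (hSS₀.trans (sup_le hP0 inf_le_right)) (hMPH.trans (sup_le hP0 le_normalizer))
  -- the Thompson subgroup lies in `P`
  set D := centralizer (R : Set (G ⧸ P)) with hD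
  have hDb : (S' : Subgroup (G ⧸ P)) ⊓ D = ⊥ := by
    haveI : D.Normal := inferInstance
    refine hnb _ inf_le_left (normalizer_eq_top_iff.1 (top_le_iff.1 ?_))
    rw [← sylow_sup_eq_top S' R (isPGroup_quotient_of_pResidual_le R le_rfl)]
    refine sup_le (fun s hs => mem_normalizer_of_conj_mem fun x hx => ?_)
      (fun r hr => mem_normalizer_of_conj_mem fun x hx => ?_)
    · exact ⟨(S' : Subgroup (G ⧸ P)).mul_mem ((S' : Subgroup (G ⧸ P)).mul_mem hs hx.1)
        ((S' : Subgroup (G ⧸ P)).inv_mem hs), (inferInstance : D.Normal).conj_mem x hx.2 s⟩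
    · rw [mem_centralizer_iff.1 hx.2 r hr, mul_inv_cancel_right]; exact hx
  have hJP : J ≤ P := by
    rw [hJ, thompson_le_iff]
    intro A hA a ha
    have hconj := CfsgLib.ThompsonAbelian.conj_mem_of_isMaxElemIn hp hPS S.2 hab hHcop hKN hmin'
      hPK hA a ha
    refine (QuotientGroup.eq_one_iff a).1 (?_ : π a = 1)
    refine mem_bot.1 (hDb ▸ ⟨hS'c ▸ mem_map_of_mem π (hA.le ha), ?_⟩)
    refine mem_centralizer_iff.2 fun r hr => ?_
    obtain ⟨x, rfl⟩ := hπs r
    obtain ⟨b, hb, k, hk, rfl⟩ := mem_sup_of_normal_left.1 (hMPH (hr : x ∈ M))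
    have h2 := hconj k hk
    rw [map_mul, show π b = 1 from (QuotientGroup.eq_one_iff b).2 hb, one_mul]
    have h3 : π (a * k * a⁻¹ * k⁻¹) = 1 := (QuotientGroup.eq_one_iff _).2 h2
    rw [map_mul, map_mul, map_mul, map_inv, map_inv] at h3
    exact (mul_inv_eq_iff_eq_mul.1 (mul_inv_eq_one.1 h3)).symm
  refine (hN ?_).elim
  have e := thompson_eq_of_le (e := 0) hPS (hJ ▸ hJP)
  rw [hJ, ← e]
  exact top_le_iff.1 ((normalizer_eq_top_iff.2 hPn).ge.trans (normalizer_le_normalizer_thompson 0 P))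

/-- Let p ≥ 5 be a prime, S a Sylow p-subgroup of the finite group G and J(S) the subgroup generated by the abelian subgroups of S of largest order. Then G has a normal p-complement if and only if N_G(J(S))/C_G(J(S)) is a p-group (every element of N_G(J(S)) of order prime to p centralizes J(S)). -/
theorem result {G : Type*} [Group G] [Finite G] {p : ℕ} [Fact p.Prime]
    (hp : 5 ≤ p) (S : Sylow p G) :
    Cfsg.HasNormalPComplement p G ↔
      ∀ g ∈ Subgroup.normalizer (Cfsg.thompsonSubgroupAOf (S : Subgroup G) : Set G), (orderOf g).Coprime p →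
        g ∈ Subgroup.centralizer (Cfsg.thompsonSubgroupAOf (S : Subgroup G) : Set G) := by
  rw [CfsgLib.PLocal.thompsonSubgroupAOf_eq]
  refine ⟨fun h g hg hc => ?_, fun h => main hp _ rfl S h⟩
  exact CfsgLib.Transfer.frobeniusCond_of_hasNormalPComplement h _
    (S.2.to_le (CfsgLib.PLocal.thompson_le 0 _)) g hg hc

end Cfsg.Agent.S3070
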