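import Cfsg.Statements.S3073
import Cfsg.Agent.Lib.Frobenius.ZJComplement
import Cfsg.Agent.Lib.LocalEven.PReduced

set_option autoImplicit false
universe u
open Cfsg

namespace Cfsg.Agent.S3073

open Subgroup CfsgLib
open scoped commutatorElement

/-- The detection property of `K ≤ S`, for embeddings of `S` as a Sylow subgroup. -/
def Detects.{w} (p : ℕ) (S : Type w) [Group S] (K : Subgroup S) : Prop :=
  ∀ (G : Type w) [Group G] [Finite G] (f : S →* G), Function.Injective f → IsPGroup p f.range →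
    ¬ p ∣ f.range.index →
    (Cfsg.HasNormalPComplement p G ↔ ∀ g ∈ normalizer ((K.map f : Subgroup G) : Set G),
      (orderOf g).Coprime p → g ∈ centralizer ((K.map f : Subgroup G) : Set G))

variable {p : ℕ} [hp : Fact p.Prime]

/-- A power of `c` of order prime to `p` generates the image of `c` when that image has order prime to `p`. -/
theorem exists_lift_coprime {C D : Type*} [Group C] [Finite C] [Group D] [Finite D] (π : C →* D) (c : C)
    (hc : (orderOf (π c)).Coprime p) :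
    ∃ c0 : C, c0 ∈ zpowers c ∧ (orderOf c0).Coprime p ∧ π c ∈ zpowers (π c0) := by
  obtain ⟨i, m, hm, hcm⟩ := Nat.exists_eq_pow_mul_and_not_dvd (orderOf_pos c).ne' p hp.out.ne_one
  refine ⟨c ^ p ^ i, pow_mem (mem_zpowers c) _, ?_, ?_⟩
  · rw [orderOf_pow' c (pow_ne_zero i hp.out.ne_zero), hcm, Nat.gcd_eq_right (dvd_mul_right _ _),
      Nat.mul_div_cancel_left _ (pow_pos hp.out.pos i)]
    exact ((hp.out.coprime_iff_not_dvd).mpr hm).symm
  · have hz : zpowers ((π c) ^ p ^ i) = zpowers (π c) :=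
      eq_of_le_of_card_ge (zpowers_le.mpr (pow_mem (mem_zpowers _) _)) (by
        rw [Nat.card_zpowers, Nat.card_zpowers, Nat.Coprime.orderOf_pow (hc.pow_right i)])
    rw [map_pow, hz]
    exact mem_zpowers _

/-- Extending by a central `p`-group preserves the existence of a normal `p`-complement. -/
theorem hasNormalPComplement_of_central_quotient {C : Type*} [Group C] [Finite C] (Z : Subgroup C)
    [Z.Normal] (hZ : IsPGroup p Z) (hc : ∀ z ∈ Z, ∀ c : C, c * z = z * c)
    (h : Cfsg.HasNormalPComplement p (C ⧸ Z)) : Cfsg.HasNormalPComplement p C := by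
  refine Transfer.hasNormalPComplement_of_frobeniusCond fun Q hQ g hg hcop => ?_
  refine mem_centralizer_iff.mpr fun x hx => ?_
  set π := QuotientGroup.mk' Z
  have h1 := Transfer.frobeniusCond_of_hasNormalPComplement h (Q.map π) (hQ.map π) (π g)
    (le_normalizer_map π ⟨g, hg, rfl⟩) (hcop.coprime_dvd_left (orderOf_map_dvd π g))
  have h2 : π x * π g = π g * π x := mem_centralizer_iff.mp h1 _ ⟨x, hx, rfl⟩
  have hz : x⁻¹ * (g * x * g⁻¹) ∈ Z := by
    rw [← QuotientGroup.eq_one_iff]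
    show π (x⁻¹ * (g * x * g⁻¹)) = 1
    simp only [map_mul, map_inv]
    rw [← h2]; group
  obtain ⟨z, hz', hzd⟩ : ∃ z, z ∈ Z ∧ z = x⁻¹ * (g * x * g⁻¹) := ⟨_, hz, rfl⟩
  have hk : ∀ k : ℕ, g ^ k * x * (g ^ k)⁻¹ = x * z ^ k := by
    intro k
    induction k with
    | zero => simp
    | succ k ih =>
      have h3 : g * z ^ k * g⁻¹ = z ^ k := by rw [hc _ (pow_mem hz' k) g, mul_inv_cancel_right]
      calc g ^ (k + 1) * x * (g ^ (k + 1))⁻¹ = g * (g ^ k * x * (g ^ k)⁻¹) * g⁻¹ := by rw [pow_succ']; group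
        _ = (g * x * g⁻¹) * (g * z ^ k * g⁻¹) := by rw [ih]; group
        _ = (x * z) * z ^ k := by rw [h3, hzd]; group
        _ = x * z ^ (k + 1) := by rw [pow_succ']; group
  have h4 := hk (orderOf g)
  rw [pow_orderOf_eq_one, one_mul, inv_one, mul_one, left_eq_mul] at h4
  obtain ⟨i, hi⟩ := IsPGroup.iff_orderOf.mp hZ ⟨z, hz'⟩
  rw [orderOf_mk] at hi
  have h5 := orderOf_dvd_of_pow_eq_one h4
  have h6 : orderOf z = 1 := Nat.eq_one_of_dvd_coprimes hcop h5 (by
    rw [hi]
    rcases i with _ | i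
    · simp
    · exact absurd ((dvd_pow_self p i.succ_ne_zero).trans (hi ▸ h5))
        (hp.out.coprime_iff_not_dvd.mp hcop.symm))
  rw [orderOf_eq_one_iff] at h6
  rw [h6, eq_comm, inv_mul_eq_one] at hzd
  exact mul_inv_eq_iff_eq_mul.mp hzd.symm |>.symm

theorem exists_detects.{w} (hp2 : p ≠ 2) : ∀ (n : ℕ) (S : Type w) [Group S] [Finite S], Nat.card S = n →
    IsPGroup p S → ∃ K : Subgroup S, K.Characteristic ∧ centralizer (K : Set S) ≤ K ∧ Detects p S K := by
  intro n
  induction n using Nat.strong_induction_on with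
  | _ n ih =>
  intro S _ _ hn hS
  rcases subsingleton_or_nontrivial S with hs | hs
  · refine ⟨⊥, inferInstance, fun x _ => Subsingleton.elim 1 x ▸ one_mem _, fun G _ _ f _ _ hi => ?_⟩
    refine ⟨fun _ g _ _ => ?_, fun _ => ?_⟩
    · rw [mem_centralizer_iff, Subgroup.map_bot]
      intro x hx
      rw [coe_bot, Set.mem_singleton_iff] at hx
      simp [hx]
    · refine Transfer.hasNormalPComplement_of_coprime (p := p) (⊤ : Subgroup G) ?_ ?_
      swap
      · intro x
        obtain ⟨x, rfl⟩ := QuotientGroup.mk'_surjective _ x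
        exact ⟨0, by rw [pow_zero, pow_one, QuotientGroup.mk'_apply, (QuotientGroup.eq_one_iff x).mpr (mem_top x)]⟩
      rw [show f.range = ⊥ from (eq_bot_iff.mpr fun y ⟨x, hx⟩ => by
        rw [← hx, Subsingleton.elim x 1, map_one]; exact one_mem _), index_bot] at hi
      rwa [card_top]
  set Z := PLocal.zj 0 (⊤ : Subgroup S) with hZdef
  have hZne : Z ≠ ⊥ := Frobenius.ZJComp.zj_ne_bot (p := p) (Or.inl rfl) (hS.to_subgroup ⊤) top_ne_bot
  have hZα : ∀ α : MulAut S, Z.map α.toMonoidHom = Z := fun α => by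
    rw [hZdef, ← PLocal.zj_map (f := α.toMonoidHom) α.injective, map_top_of_surjective _ α.surjective]
  haveI hZchar : Z.Characteristic := characteristic_iff_map_eq.mpr hZα
  have hZc : ∀ a ∈ Z, ∀ b ∈ Z, a * b = b * a := fun a ha b hb =>
    congrArg Subtype.val ((PLocal.zj_elemAb 0 (⊤ : Subgroup S)).1.is_comm.comm ⟨a, ha⟩ ⟨b, hb⟩)
  set S1 := centralizer (Z : Set S) with hS1
  have hZS1 : Z ≤ S1 := fun a ha => mem_centralizer_iff.mpr fun b hb => hZc b hb a ha
  have hZ'n : (Z.subgroupOf S1).Normal := inferInstance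
  have hcard : Nat.card (↥S1 ⧸ Z.subgroupOf S1) < n := by
    have h1 := (Z.subgroupOf S1).card_mul_index
    have h2 : 1 < Nat.card (Z.subgroupOf S1) := by
      rw [Nat.card_congr (subgroupOfEquivOfLe hZS1).toEquiv]; exact (one_lt_card_iff_ne_bot _).mpr hZne
    have h3 : Nat.card S1 ≤ n := hn ▸ card_le_card_group S1
    have h4 : 0 < Nat.card (↥S1 ⧸ Z.subgroupOf S1) := Nat.card_pos
    rw [index] at h1
    nlinarith
  obtain ⟨Kb, hKbchar, hKbc, hKbdet⟩ := ih _ hcard (↥S1 ⧸ Z.subgroupOf S1) rfl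
    ((hS.to_subgroup S1).to_quotient _)
  set π := QuotientGroup.mk' (Z.subgroupOf S1) with hπ
  set K := (Kb.comap π).map S1.subtype with hKdef
  have hKS1 : K ≤ S1 := map_subtype_le _
  have hmemK : ∀ (x : S) (hx : x ∈ S1), x ∈ K ↔ π ⟨x, hx⟩ ∈ Kb := fun x hx =>
    ⟨fun ⟨y, hy, hyx⟩ => (Subtype.ext hyx : y = ⟨x, hx⟩) ▸ hy, fun h => ⟨⟨x, hx⟩, h, rfl⟩⟩
  have hZK : Z ≤ K := fun z hz => (hmemK z (hZS1 hz)).mpr (by
    rw [hπ, QuotientGroup.mk'_apply, (QuotientGroup.eq_one_iff _).mpr]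
    · exact one_mem _
    · exact hz)
  -- automorphisms of `S1` fixing `Z`
  have hinv : ∀ β : MulAut S1, (Z.subgroupOf S1).map β.toMonoidHom = Z.subgroupOf S1 →
      ∀ y, π y ∈ Kb → π (β y) ∈ Kb := by
    intro β hβ y hy
    have h := (characteristic_iff_map_eq.mp hKbchar
      (QuotientGroup.congr (Z.subgroupOf S1) (Z.subgroupOf S1) β hβ)).le ⟨π y, hy, rfl⟩
    exact h
  refine ⟨K, ?_, ?_, ?_⟩
  · refine characteristic_iff_map_le.mpr fun α => ?_
    have hS1α : S1.map α.toMonoidHom = S1 := by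
      rw [hS1]; exact characteristic_iff_map_eq.mp inferInstance α
    let β : MulAut S1 := (α.subgroupMap S1).trans (MulEquiv.subgroupCongr hS1α)
    have hβ : ∀ y : S1, ((β y : S1) : S) = α y := fun y => rfl
    rintro _ ⟨x, hx, rfl⟩
    have hxS1 := hKS1 hx
    have hαS1 : α x ∈ S1 := hS1α.le ⟨x, hxS1, rfl⟩
    refine (hmemK _ hαS1).mpr ?_
    have h := hinv β ?_ ⟨x, hxS1⟩ ((hmemK x hxS1).mp hx)
    · exact h
    · ext y
      rw [mem_map, mem_subgroupOf]
      constructor
      · rintro ⟨w, hw, rfl⟩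
        show ((β w : S1) : S) ∈ Z
        rw [hβ]; exact (hZα α).le ⟨w, hw, rfl⟩
      · intro hy
        obtain ⟨z, hz, hzy⟩ := (hZα α).ge hy
        exact ⟨⟨z, hZS1 hz⟩, hz, Subtype.ext hzy⟩
  · intro x hx
    have hxS1 : x ∈ S1 := centralizer_le hZK hx
    refine (hmemK x hxS1).mpr (hKbc (mem_centralizer_iff.mpr fun w hw => ?_))
    obtain ⟨w, rfl⟩ := QuotientGroup.mk'_surjective _ w
    have hwK : (w : S) ∈ K := (hmemK w w.2).mpr hw
    rw [← map_mul, ← map_mul]
    exact congrArg π (Subtype.ext (mem_centralizer_iff.mp hx _ hwK))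
  intro G _ _ f hf hfp hfi
  have hKp : IsPGroup p (K.map f : Subgroup G) := (hS.to_subgroup K).map f
  refine ⟨fun hG g hg hc => Transfer.frobeniusCond_of_hasNormalPComplement hG _ hKp g hg hc, fun hH => ?_⟩
  obtain ⟨P, hP⟩ : ∃ P : Sylow p G, (P : Subgroup G) = f.range := ⟨hfp.toSylow hfi, rfl⟩
  refine Frobenius.ZJComp.hasNormalPComplement_of_zj hp2 (e := 0) (Or.inl rfl) P ?_
  have hzP : PLocal.zj 0 (P : Subgroup G) = Z.map f := by
    rw [hP, MonoidHom.range_eq_map, PLocal.zj_map hf]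
  rw [hzP]
  set Zf := Z.map f with hZf
  set C := centralizer (Zf : Set G) with hC
  set N := normalizer (Zf : Set G) with hN
  have hCN : C ≤ N := fun c hc => by
    refine mem_normalizer_iff.mpr fun b => ⟨fun hb => ?_, fun hb => ?_⟩
    · rw [← mem_centralizer_iff.mp hc b hb, mul_inv_cancel_right]; exact hb
    · have h1 := mem_centralizer_iff.mp hc _ hb
      have h2 : c * b * c⁻¹ = b := by
        calc c * b * c⁻¹ = c⁻¹ * (c * b * c⁻¹ * c) := by rw [h1]; group
          _ = b := by group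
      rwa [h2] at hb
  have hPN : (P : Subgroup G) ≤ N := by
    rw [hN, ← hzP]; exact PLocal.le_normalizer_zj 0 _
  have hS1C : ∀ s : S, f s ∈ C ↔ s ∈ S1 := fun s => by
    rw [hC, hS1, mem_centralizer_iff, mem_centralizer_iff]
    refine ⟨fun h z hz => hf (by rw [map_mul, map_mul]; exact h _ ⟨z, hz, rfl⟩), ?_⟩
    rintro h _ ⟨z, hz, rfl⟩
    rw [← map_mul, ← map_mul, h z hz]
  have hZfC : Zf ≤ C := by
    rintro _ ⟨z, hz, rfl⟩; exact (hS1C z).mpr (hZS1 hz)
  haveI hC'n : (C.subgroupOf N).Normal := by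
    refine ⟨fun c hc g => ?_⟩
    rw [mem_subgroupOf, hC, mem_centralizer_iff] at hc ⊢
    intro z hz
    have hz' : (g : G)⁻¹ * z * g ∈ Zf := (mem_normalizer_iff''.mp g.2 z).mp hz
    have h1 := hc _ hz'
    simp only [coe_mul, InvMemClass.coe_inv]
    calc z * ((g : G) * (c : G) * (g : G)⁻¹) = g * (((g : G)⁻¹ * z * g) * c) * (g : G)⁻¹ := by group
      _ = g * (c * ((g : G)⁻¹ * z * g)) * (g : G)⁻¹ := by rw [h1]
      _ = ((g : G) * (c : G) * (g : G)⁻¹) * z := by group
  obtain ⟨T, hT⟩ := PRed.exists_sylow_inf_normal (P.subtype hPN) (C.subgroupOf N)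
  -- Sylow embedding into `C / Z`
  let g₁ : S1 →* C := (f.comp S1.subtype).codRestrict C fun s => (hS1C s).mpr s.2
  have hg₁ : ∀ s : S1, ((g₁ s : C) : G) = f s := fun s => rfl
  haveI hZ'C : (Zf.subgroupOf C).Normal := by
    refine ⟨fun z hz c => ?_⟩
    rw [mem_subgroupOf] at hz ⊢
    simp only [coe_mul, InvMemClass.coe_inv]
    rw [← mem_centralizer_iff.mp c.2 _ hz, mul_inv_cancel_right]
    exact hz
  let πC := QuotientGroup.mk' (Zf.subgroupOf C)
  have hker : Z.subgroupOf S1 = (πC.comp g₁).ker := by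
    ext y
    rw [MonoidHom.mem_ker, MonoidHom.comp_apply, QuotientGroup.mk'_apply, QuotientGroup.eq_one_iff,
      mem_subgroupOf, mem_subgroupOf, hg₁]
    exact ⟨fun h => ⟨y, h, rfl⟩, fun ⟨z, hz, hzy⟩ => hf hzy ▸ hz⟩
  let h := QuotientGroup.lift (Z.subgroupOf S1) (πC.comp g₁) hker.le
  have hh : ∀ y : S1, h (π y) = πC (g₁ y) := fun y => rfl
  have hhinj : Function.Injective h := by
    rw [injective_iff_map_eq_one]
    intro a ha
    obtain ⟨a, rfl⟩ := QuotientGroup.mk'_surjective _ a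
    exact (QuotientGroup.eq_one_iff a).mpr (hker.ge ha)
  have hhrange : h.range = g₁.range.map πC := by
    ext y
    constructor
    · rintro ⟨a, rfl⟩
      obtain ⟨a, rfl⟩ := QuotientGroup.mk'_surjective _ a
      exact ⟨g₁ a, ⟨a, rfl⟩, rfl⟩
    · rintro ⟨_, ⟨a, rfl⟩, rfl⟩
      exact ⟨π a, rfl⟩
  have hg₁i : ¬ p ∣ g₁.range.index := by
    have hd := T.not_dvd_index
    rw [hT, ← relIndex, Sylow.coe_subtype, relIndex_subgroupOf hCN, hP] at hd
    have e : g₁.range = f.range.subgroupOf C := by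
      ext y
      constructor
      · rintro ⟨a, rfl⟩
        exact ⟨a, rfl⟩
      · rintro ⟨a, ha⟩
        exact ⟨⟨a, (hS1C a).mp (by rw [ha]; exact y.2)⟩, Subtype.ext ha⟩
    rw [e]; exact hd
  have hhp : IsPGroup p h.range := by
    rw [hhrange]
    exact (IsPGroup.of_surjective (hS.to_subgroup S1) g₁.rangeRestrict g₁.rangeRestrict_surjective).map πC
  have hKbdet' := hKbdet (C ⧸ Zf.subgroupOf C) h hhinj hhp
    (fun hd => hg₁i (hd.trans (by rw [hhrange]; exact index_map_dvd _ (QuotientGroup.mk'_surjective _))))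
  -- `C` has a normal `p`-complement
  have hCnpc : Cfsg.HasNormalPComplement p C := by
    refine hasNormalPComplement_of_central_quotient (Zf.subgroupOf C)
      (((hS.to_subgroup Z).map f).comap_subtype) (fun z hz c =>
        Subtype.ext (mem_centralizer_iff.mp c.2 _ hz).symm) (hKbdet'.mpr ?_)
    intro x hx hxc
    obtain ⟨c, rfl⟩ := QuotientGroup.mk'_surjective _ x
    obtain ⟨c0, hc0, hc0c, hcc⟩ := exists_lift_coprime πC c hxc
    have hc0n : (c0 : G) ∈ normalizer ((K.map f : Subgroup G) : Set G) := by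
      have hmemKb : ∀ y : C, (y : G) ∈ K.map f ↔ πC y ∈ Kb.map h := by
        intro y
        constructor
        · rintro ⟨k, hk, hky⟩
          refine ⟨π ⟨k, hKS1 hk⟩, (hmemK k _).mp hk, ?_⟩
          rw [hh]; exact congrArg πC (Subtype.ext hky)
        · rintro ⟨a, ha, hay⟩
          obtain ⟨a, rfl⟩ := QuotientGroup.mk'_surjective _ a
          rw [hh] at hay
          have h1 : (g₁ a)⁻¹ * y ∈ Zf.subgroupOf C := QuotientGroup.eq.mp hay
          obtain ⟨z, hz, hzy⟩ := (mem_subgroupOf.mp h1)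
          refine ⟨(a : S) * z, mul_mem ((hmemK a a.2).mpr ha) (hZK hz), ?_⟩
          rw [map_mul, hzy]
          simp only [coe_mul, InvMemClass.coe_inv, hg₁, mul_inv_cancel_left]
      have hn : πC c0 ∈ normalizer ((Kb.map h : Subgroup _) : Set (C ⧸ Zf.subgroupOf C)) := by
        obtain ⟨k, hk⟩ := hc0
        have hk' : c ^ k = c0 := hk
        rw [← hk', map_zpow]
        exact zpow_mem hx k
      have hKC : ∀ u ∈ K.map f, u ∈ C := by
        rintro _ ⟨k, hk, rfl⟩; exact (hS1C k).mpr (hKS1 hk)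
      refine mem_normalizer_iff.mpr fun u => ⟨fun hu => ?_, fun hu => ?_⟩
      · refine (hmemKb (c0 * ⟨u, hKC u hu⟩ * c0⁻¹)).mpr ?_
        rw [map_mul, map_mul, map_inv]
        exact (mem_normalizer_iff.mp hn _).mp ((hmemKb ⟨u, hKC u hu⟩).mp hu)
      · have huC : u ∈ C := by
          have := mul_mem (mul_mem (inv_mem c0.2) (hKC _ hu)) c0.2
          simpa [mul_assoc] using this
        refine (hmemKb ⟨u, huC⟩).mpr ((mem_normalizer_iff.mp hn _).mpr ?_)
        rw [← map_inv, ← map_mul, ← map_mul]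
        exact (hmemKb _).mp hu
    have hcent := hH c0 hc0n (by rwa [orderOf_coe])
    have hc0' : πC c0 ∈ centralizer ((Kb.map h : Subgroup _) : Set (C ⧸ Zf.subgroupOf C)) := by
      rw [mem_centralizer_iff]
      rintro _ ⟨a, ha, rfl⟩
      obtain ⟨a, rfl⟩ := QuotientGroup.mk'_surjective _ a
      rw [hh, ← map_mul, ← map_mul]
      exact congrArg πC (Subtype.ext (mem_centralizer_iff.mp hcent _ ⟨a, (hmemK a a.2).mpr ha, rfl⟩))
    exact (zpowers_le.mpr hc0') hcc
  -- `p'`-elements of `N` lie in `C`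
  have hfr : normalizer ((((P : Subgroup G) ⊓ C : Subgroup G).subgroupOf N : Subgroup N) : Set N) ⊔ C.subgroupOf N = ⊤ := by
    have h1 := Sylow.normalizer_sup_eq_top T
    rwa [hT, Sylow.coe_subtype, subgroupOf_map_subtype] at h1
  have hNC : ∀ g : N, (orderOf g).Coprime p → g ∈ C.subgroupOf N := by
    intro g hg
    have hgmem : g ∈ normalizer ((((P : Subgroup G) ⊓ C : Subgroup G).subgroupOf N : Subgroup N) : Set N) ⊔ C.subgroupOf N :=
      hfr ▸ mem_top g
    obtain ⟨m, hm, c, hc, rfl⟩ := mem_sup_of_normal_right.mp hgmem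
    set q := QuotientGroup.mk' (C.subgroupOf N)
    have hqm : q (m * c) = q m := by
      rw [map_mul, show q c = 1 from (QuotientGroup.eq_one_iff c).mpr hc, mul_one]
    have hmc : (orderOf (q m)).Coprime p := hqm ▸ hg.coprime_dvd_left (orderOf_map_dvd q _)
    obtain ⟨m0, hm0, hm0c, hmm⟩ := exists_lift_coprime q m hmc
    have hm0n := zpowers_le.mpr hm hm0
    rw [← QuotientGroup.eq_one_iff (N := C.subgroupOf N), ← QuotientGroup.mk'_apply, hqm]
    suffices hm0C : m0 ∈ C.subgroupOf N by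
      rw [show q m0 = 1 from (QuotientGroup.eq_one_iff m0).mpr hm0C, zpowers_one_eq_bot, mem_bot] at hmm
      exact hmm
    -- `m0` normalises `K.map f`
    have hconjS : ∀ n' : N, n' ∈ normalizer ((((P : Subgroup G) ⊓ C : Subgroup G).subgroupOf N : Subgroup N) : Set N) →
        ∀ s : S1, ∃ t : S1, f t = (n' : G) * f s * (n' : G)⁻¹ := by
      intro n' hn' s
      have h1 : (⟨f s, hPN (hP.ge ⟨(s : S), rfl⟩)⟩ : N) ∈ ((P : Subgroup G) ⊓ C).subgroupOf N :=
        ⟨hP.ge ⟨(s : S), rfl⟩, (hS1C s).mpr s.2⟩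
      obtain ⟨h2, h3⟩ := (mem_normalizer_iff.mp hn' _).mp h1
      obtain ⟨t, ht⟩ := hP.le h2
      exact ⟨⟨t, (hS1C t).mp (by rw [ht]; exact h3)⟩, ht⟩
    choose b hb using hconjS m0 hm0n
    choose b' hb' using hconjS m0⁻¹ (inv_mem hm0n)
    let β : MulAut S1 :=
      { toFun := b
        invFun := b'
        left_inv := fun s => Subtype.ext (hf (by rw [hb', hb, InvMemClass.coe_inv]; group))
        right_inv := fun s => Subtype.ext (hf (by rw [hb, hb', InvMemClass.coe_inv]; group))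
        map_mul' := fun s t => Subtype.ext (hf (by rw [hb, coe_mul, coe_mul, map_mul, map_mul, hb, hb]; group)) }
    have hβZ : (Z.subgroupOf S1).map β.toMonoidHom = Z.subgroupOf S1 := by
      refine le_antisymm ?_ ?_
      · rintro _ ⟨y, hy, rfl⟩
        obtain ⟨z, hz, hze⟩ : f (b y) ∈ Zf := by
          rw [hb]; exact (mem_normalizer_iff.mp m0.2 _).mp ⟨y, hy, rfl⟩
        rw [mem_subgroupOf]
        exact hf hze ▸ hz
      · intro y hy
        refine ⟨b' y, ?_, Subtype.ext (hf (show f (b (b' y)) = f y by rw [hb, hb', InvMemClass.coe_inv]; group))⟩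
        obtain ⟨z, hz, hze⟩ : f (b' y) ∈ Zf := by
          rw [hb', InvMemClass.coe_inv, inv_inv]; exact (mem_normalizer_iff''.mp m0.2 _).mp ⟨y, hy, rfl⟩
        show ((b' y : S1) : S) ∈ Z
        rw [← hf hze]; exact hz
    have hm0K : (m0 : G) ∈ normalizer ((K.map f : Subgroup G) : Set G) := by
      have hle : (K.map f).map (MulAut.conj (m0 : G)).toMonoidHom ≤ K.map f := by
        rintro _ ⟨_, ⟨k, hk, rfl⟩, rfl⟩
        have h1 := hinv β hβZ ⟨k, hKS1 hk⟩ ((hmemK k _).mp hk)
        exact ⟨b ⟨k, hKS1 hk⟩, (hmemK _ (b _).2).mpr h1, hb ⟨k, hKS1 hk⟩⟩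
      rw [mem_normalizer_iff_map_conj_eq]
      exact eq_of_le_of_card_ge hle (le_of_eq (card_map_of_injective (MulAut.conj (m0 : G)).injective).symm)
    exact centralizer_le (map_mono hZK) (hH m0 hm0K (by rwa [orderOf_coe]))
  -- conclude
  rw [Transfer.hasNormalPComplement_iff]
  intro hd
  let ι : C →* N := inclusion hCN
  have hle : Cfsg.pResidual p N ≤ (Cfsg.pResidual p C).map ι := by
    refine Transfer.pResidual_le_iff.mpr fun x hx => ?_
    refine ⟨⟨x, hNC x hx⟩, Transfer.mem_pResidual ?_, rfl⟩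
    rw [← orderOf_injective ι (inclusion_injective hCN)]
    exact hx
  exact (Transfer.hasNormalPComplement_iff.mp hCnpc) (hd.trans ((card_dvd_of_le hle).trans (card_map_dvd _ _)))


/-- For an odd prime p, every finite p-group S has a characteristic subgroup K with C_S(K) ≤ K such that, whenever S is (isomorphic to) a Sylow p-subgroup of a finite group G, G has a normal p-complement if and only if N_G(K)/C_G(K) is a p-group, i.e. every element of N_G(K) of order prime to p centralizes K (K transported into G along the isomorphism). -/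
theorem result (p : ℕ) [Fact p.Prime] (hp : p ≠ 2)
    (S : Type u) [Group S] [Finite S] (hS : IsPGroup p S) :
    ∃ K : Subgroup S, K.Characteristic ∧ Subgroup.centralizer (K : Set S) ≤ K ∧
      ∀ (G : Type u) [Group G] [Finite G] (P : Sylow p G) (e : ↥(P : Subgroup G) ≃* S),
        Cfsg.HasNormalPComplement p G ↔
          ∀ g ∈ Subgroup.normalizer (((K.comap (e : ↥(P : Subgroup G) →* S)).map (P : Subgroup G).subtype : Subgroup G) : Set G),
            (orderOf g).Coprime p →
              g ∈ Subgroup.centralizer (((K.comap (e : ↥(P : Subgroup G) →* S)).map (P : Subgroup G).subtype : Subgroup G) : Set G) := by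
  obtain ⟨K, h1, h2, h3⟩ := exists_detects hp _ S rfl hS
  refine ⟨K, h1, h2, fun G _ _ P e => ?_⟩
  let f : S →* G := (P : Subgroup G).subtype.comp e.symm.toMonoidHom
  have hf : Function.Injective f := (P : Subgroup G).subtype_injective.comp e.symm.injective
  have hr : f.range = (P : Subgroup G) := by
    ext x
    exact ⟨fun ⟨s, hs⟩ => hs ▸ (e.symm s).2, fun hx => ⟨e ⟨x, hx⟩, by simp [f]⟩⟩
  have hK : (K.comap (e : ↥(P : Subgroup G) →* S)).map (P : Subgroup G).subtype = K.map f := by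
    ext x
    constructor
    · rintro ⟨y, hy, rfl⟩
      exact ⟨e y, hy, by simp [f]⟩
    · rintro ⟨k, hk, rfl⟩
      exact ⟨e.symm k, by simpa using hk, rfl⟩
  rw [hK]
  exact h3 G f hf (hr ▸ P.isPGroup') (hr ▸ P.not_dvd_index)

end Cfsg.Agent.S3073
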