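import Cfsg.Statements.S3074
import Cfsg.Agent.Lib.KnownSimple51.QdFree
import Cfsg.Agent.Lib.PGroup.Frattini
import Mathlib.LinearAlgebra.Matrix.GeneralLinearGroup.Card
import Mathlib.GroupTheory.Exponent
import Mathlib.Tactic.LinearCombination

set_option autoImplicit false
open Cfsg

namespace Cfsg.Agent.S3074

open Matrix
open scoped MatrixGroups commutatorElement

variable {p : ℕ} [hp : Fact p.Prime]

/-- The upper unitriangular matrices. -/
def heis (v : ZMod p × ZMod p × ZMod p) : SpecialLinearGroup (Fin 3) (ZMod p) :=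
  ⟨!![1, v.1, v.2.1; 0, 1, v.2.2; 0, 0, 1], by simp [det_fin_three]⟩

theorem heis_mul (u v : ZMod p × ZMod p × ZMod p) :
    heis u * heis v = heis (u.1 + v.1, u.2.1 + v.2.1 + u.1 * v.2.2, u.2.2 + v.2.2) := by
  ext i j
  show ((heis u).1 * (heis v).1) i j = (heis (u.1 + v.1, u.2.1 + v.2.1 + u.1 * v.2.2, u.2.2 + v.2.2)).1 i j
  fin_cases i <;> fin_cases j <;> simp [heis, Matrix.mul_apply, Fin.sum_univ_three] <;> ring

theorem heis_zero : heis (p := p) (0, 0, 0) = 1 := by
  ext i j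
  fin_cases i <;> fin_cases j <;> simp [heis]

theorem heis_injective : Function.Injective (heis (p := p)) := by
  intro u v h
  have h1 := congrArg (fun M : SpecialLinearGroup (Fin 3) (ZMod p) => M.1 0 1) h
  have h2 := congrArg (fun M : SpecialLinearGroup (Fin 3) (ZMod p) => M.1 0 2) h
  have h3 := congrArg (fun M : SpecialLinearGroup (Fin 3) (ZMod p) => M.1 1 2) h
  simp [heis] at h1 h2 h3
  ext <;> assumption

theorem heis_inv (v : ZMod p × ZMod p × ZMod p) :
    (heis v)⁻¹ = heis (-v.1, -v.2.1 + v.1 * v.2.2, -v.2.2) := by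
  rw [inv_eq_iff_mul_eq_one, heis_mul, ← heis_zero]
  congr 1
  ext <;> simp

theorem heis_pow (v : ZMod p × ZMod p × ZMod p) (n : ℕ) :
    heis v ^ n = heis ((n : ZMod p) * v.1, (n : ZMod p) * v.2.1 + (n.choose 2 : ZMod p) * (v.1 * v.2.2),
      (n : ZMod p) * v.2.2) := by
  induction n with
  | zero => simp [heis_zero]
  | succ n ih =>
    rw [pow_succ, ih, heis_mul]
    have hc : ((n + 1).choose 2 : ℕ) = n + n.choose 2 := by
      rw [Nat.choose_succ_succ, Nat.choose_one_right]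
    rw [hc]
    congr 1
    ext <;> push_cast <;> ring

/-- The subgroup of upper unitriangular matrices inside `qd p`. -/
def heisSub (p : ℕ) [Fact p.Prime] : Subgroup ↥(Cfsg.qd p) where
  carrier := {M | ∃ v, (M : SpecialLinearGroup (Fin 3) (ZMod p)) = heis v}
  one_mem' := ⟨(0, 0, 0), heis_zero.symm⟩
  mul_mem' := by
    rintro a b ⟨u, hu⟩ ⟨v, hv⟩
    exact ⟨_, by rw [Subgroup.coe_mul, hu, hv, heis_mul]⟩
  inv_mem' := by
    rintro a ⟨u, hu⟩
    exact ⟨_, by rw [Subgroup.coe_inv, hu, heis_inv]⟩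

/-- The parametrisation of `heisSub`. -/
noncomputable def heisEquiv (p : ℕ) [Fact p.Prime] :
    (ZMod p × ZMod p × ZMod p) ≃ heisSub p :=
  Equiv.ofBijective
    (fun v => (⟨⟨heis v, CfsgLib.KnownSimple51.QdFree.mem_qd_iff.mpr (by simp [heis])⟩, v, rfl⟩ : heisSub p))
    ⟨fun u v h => heis_injective (congrArg (fun M : heisSub p => ((M : ↥(Cfsg.qd p)) : SpecialLinearGroup (Fin 3) (ZMod p))) h),
      fun M => by
        obtain ⟨v, hv⟩ := M.2
        exact ⟨v, Subtype.ext (Subtype.ext hv.symm)⟩⟩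

theorem card_heisSub : Nat.card (heisSub p) = p ^ 3 := by
  rw [← Nat.card_congr (heisEquiv p), Nat.card_prod, Nat.card_prod, Nat.card_zmod]
  ring


/-- Let p be an odd prime. A Sylow p-subgroup of Qd(p), the split extension of an elementary abelian group of order p² by SL₂(p) acting naturally, is extraspecial of order p³ and exponent p. -/
theorem result (p : ℕ) [Fact p.Prime] (hp : p ≠ 2) (P : Sylow p ↥(Cfsg.qd p)) :
    Cfsg.IsExtraspecial p ↥P ∧ Nat.card P = p ^ 3 ∧ Monoid.exponent ↥P = p := by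
  classical
  have hpr : p.Prime := Fact.out
  -- the order of `P`
  obtain ⟨m, hm⟩ := P.isPGroup'.exists_card_eq
  have hUle : p ^ 3 ∣ Nat.card P := by
    rw [← card_heisSub]
    obtain ⟨Q, hQ⟩ := (IsPGroup.of_card (card_heisSub (p := p))).exists_le_sylow
    rw [Nat.card_congr (Sylow.equiv P Q).toEquiv]
    exact Subgroup.card_dvd_of_le hQ
  have hGL : Nat.card P ∣ Nat.card (GL (Fin 3) (ZMod p)) :=
    (Subgroup.card_subgroup_dvd_card _).trans ((Subgroup.card_subgroup_dvd_card _).trans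
      (Subgroup.card_dvd_of_injective _ Matrix.SpecialLinearGroup.toGL_injective))
  have hcard : Nat.card P = p ^ 3 := by
    rw [hm] at hUle hGL ⊢
    refine congrArg _ (le_antisymm ?_ ((Nat.pow_dvd_pow_iff_le_right hpr.one_lt).mp hUle))
    by_contra hlt
    have h4 : p ^ 4 ∣ Nat.card (GL (Fin 3) (ZMod p)) := (pow_dvd_pow p (by omega)).trans hGL
    rw [Matrix.card_GL_field, ZMod.card, Fin.prod_univ_three] at h4
    simp only [Fin.val_zero, Fin.val_one, Fin.val_two, pow_zero, pow_one] at h4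
    have e1 : (p ^ 3 - 1) * (p ^ 3 - p) * (p ^ 3 - p ^ 2) = p ^ 3 * ((p ^ 3 - 1) * (p ^ 2 - 1) * (p - 1)) := by
      have a1 : p ^ 3 - p = p * (p ^ 2 - 1) := by rw [Nat.mul_sub, mul_one]; ring_nf
      have a2 : p ^ 3 - p ^ 2 = p ^ 2 * (p - 1) := by rw [Nat.mul_sub, mul_one]; ring_nf
      rw [a1, a2]; ring
    rw [e1, pow_succ p 3] at h4
    have h5 := (Nat.mul_dvd_mul_iff_left (pow_pos hpr.pos 3)).mp h4
    have hnd : ∀ k, 0 < k → ¬ p ∣ p ^ k - 1 := fun k hk hd => by
      have h := Nat.dvd_sub (dvd_pow_self p hk.ne') hd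
      rw [Nat.sub_sub_self (Nat.one_le_pow _ _ hpr.pos)] at h
      exact hpr.ne_one (Nat.dvd_one.mp h)
    rcases hpr.dvd_mul.mp h5 with h | h
    · rcases hpr.dvd_mul.mp h with h | h
      · exact hnd 3 (by omega) h
      · exact hnd 2 (by omega) h
    · exact hnd 1 (by omega) (by rwa [pow_one])
  obtain ⟨e⟩ : Nonempty (heisSub p ≃* ↥(P : Subgroup ↥(Cfsg.qd p))) := by
    have hQ : IsPGroup p (heisSub p) := IsPGroup.of_card card_heisSub
    obtain ⟨Q, hQ'⟩ := hQ.exists_le_sylow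
    have : (heisSub p) = (Q : Subgroup _) := Subgroup.eq_of_le_of_card_ge hQ' (by
      rw [← Nat.card_congr (Sylow.equiv P Q).toEquiv, hcard, card_heisSub])
    exact ⟨(MulEquiv.subgroupCongr this).trans (Sylow.equiv Q P)⟩
  let φ : ZMod p × ZMod p × ZMod p → ↥(P : Subgroup ↥(Cfsg.qd p)) := fun v => e (heisEquiv p v)
  have hφs : Function.Surjective φ := e.surjective.comp (heisEquiv p).surjective
  have hφi : Function.Injective φ := e.injective.comp (heisEquiv p).injective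
  have hφm : ∀ u v, φ u * φ v = φ (u.1 + v.1, u.2.1 + v.2.1 + u.1 * v.2.2, u.2.2 + v.2.2) := by
    intro u v
    show e _ * e _ = e _
    rw [← map_mul]
    congr 1
    exact Subtype.ext (Subtype.ext (heis_mul u v))
  have hφ0 : φ (0, 0, 0) = 1 := by
    show e _ = 1
    rw [MulEquiv.map_eq_one_iff]
    exact Subtype.ext (Subtype.ext heis_zero)
  have hφinv : ∀ v, (φ v)⁻¹ = φ (-v.1, -v.2.1 + v.1 * v.2.2, -v.2.2) := fun v => by
    rw [inv_eq_iff_mul_eq_one, hφm, ← hφ0]
    congr 1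
    ext <;> simp
  have hpow : ∀ x : ↥(P : Subgroup ↥(Cfsg.qd p)), x ^ p = 1 := by
    intro x
    obtain ⟨v, rfl⟩ := hφs x
    have h2 : ((p.choose 2 : ℕ) : ZMod p) = 0 := by
      rw [ZMod.natCast_eq_zero_iff]
      exact hpr.dvd_choose_self (by norm_num) (lt_of_le_of_ne hpr.two_le (Ne.symm hp))
    show e _ ^ p = 1
    rw [← map_pow, MulEquiv.map_eq_one_iff]
    refine Subtype.ext (Subtype.ext ?_)
    show heis v ^ p = 1
    rw [heis_pow, h2, ZMod.natCast_self]
    simp [heis_zero]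
  have hcen : ∀ v, φ v ∈ Subgroup.center ↥(P : Subgroup ↥(Cfsg.qd p)) ↔ v.1 = 0 ∧ v.2.2 = 0 := by
    intro v
    constructor
    · intro h
      have h1 := Subgroup.mem_center_iff.mp h (φ (1, 0, 0))
      have h2 := Subgroup.mem_center_iff.mp h (φ (0, 0, 1))
      rw [hφm, hφm] at h1 h2
      have e1 := congrArg (fun w : ZMod p × ZMod p × ZMod p => w.2.1) (hφi h1)
      have e2 := congrArg (fun w : ZMod p × ZMod p × ZMod p => w.2.1) (hφi h2)
      simp at e1 e2
      exact ⟨e2, e1⟩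
    · rintro ⟨h1, h2⟩
      rw [Subgroup.mem_center_iff]
      intro g
      obtain ⟨u, rfl⟩ := hφs g
      rw [hφm, hφm]
      congr 1
      ext <;> simp [h1, h2] <;> ring
  have hcomm : ∀ x y : ↥(P : Subgroup ↥(Cfsg.qd p)), ⁅x, y⁆ ∈ Subgroup.center P := by
    intro x y
    obtain ⟨u, rfl⟩ := hφs x
    obtain ⟨v, rfl⟩ := hφs y
    rw [commutatorElement_def, hφinv, hφinv, hφm, hφm, hφm, hcen]
    constructor <;> simp
  have hZc : Subgroup.center ↥(P : Subgroup ↥(Cfsg.qd p)) ≤ commutator _ := by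
    intro z hz
    obtain ⟨v, rfl⟩ := hφs z
    obtain ⟨h1, h2⟩ := (hcen v).mp hz
    have : φ v = ⁅φ (1, 0, 0), φ (0, 0, v.2.1)⁆ := by
      rw [commutatorElement_def, hφinv, hφinv, hφm, hφm, hφm]
      congr 1
      ext <;> simp [h1, h2]
    rw [this]
    exact Subgroup.commutator_mem_commutator (Subgroup.mem_top _) (Subgroup.mem_top _)
  have hcZ : commutator ↥(P : Subgroup ↥(Cfsg.qd p)) ≤ Subgroup.center _ := Subgroup.commutator_le.mpr fun x _ y _ => hcomm x y
  have hΦ : frattini ↥(P : Subgroup ↥(Cfsg.qd p)) = Subgroup.center _ :=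
    le_antisymm (CfsgLib.PGroup.frattini_le_of _ hcZ (fun x => by rw [hpow]; exact one_mem _))
      (hZc.trans (CfsgLib.PGroup.commutator_le_frattini P.isPGroup'))
  have hZcard : Nat.card (Subgroup.center ↥(P : Subgroup ↥(Cfsg.qd p))) = p := by
    refine Eq.trans ?_ (Nat.card_zmod p)
    refine (Nat.card_congr (Equiv.ofBijective (fun b => ⟨φ (0, b, 0), (hcen _).mpr ⟨rfl, rfl⟩⟩) ⟨?_, ?_⟩)).symm
    · intro a b h
      exact congrArg (fun w : ZMod p × ZMod p × ZMod p => w.2.1) (hφi (congrArg Subtype.val h))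
    · rintro ⟨z, hz⟩
      obtain ⟨v, rfl⟩ := hφs z
      obtain ⟨h1, h2⟩ := (hcen v).mp hz
      exact ⟨v.2.1, Subtype.ext (congrArg φ (Prod.ext h1.symm (Prod.ext rfl h2.symm)))⟩
  refine ⟨⟨⟨P.isPGroup', hΦ, le_antisymm hcZ hZc⟩, hZcard⟩, hcard, ?_⟩
  rcases (Nat.dvd_prime hpr).mp (Monoid.exponent_dvd_of_forall_pow_eq_one hpow) with h | h
  · exfalso
    have h1 : ∀ x : ↥(P : Subgroup ↥(Cfsg.qd p)), x = 1 := fun x => by
      simpa [h] using Monoid.pow_exponent_eq_one x
    have : φ (1, 0, 0) = φ (0, 0, 0) := by rw [h1 (φ (1, 0, 0)), h1 (φ (0, 0, 0))]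
    simpa using congrArg Prod.fst (hφi this)
  · exact h

end Cfsg.Agent.S3074
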