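import Cfsg.Statements.S3075
import Mathlib.GroupTheory.SpecificGroups.Cyclic
import Mathlib.LinearAlgebra.Matrix.SpecialLinearGroup
import Mathlib.GroupTheory.Index
import Mathlib.FieldTheory.Finite.Basic

set_option autoImplicit false
open Cfsg

namespace Cfsg.Agent.S3075

/-- The subgroup of `A` of elements sent by conjugation with `t` to their `k`-th power. -/
def eig {N : Type*} [Group N] (A : Subgroup N) (hA : ∀ a ∈ A, ∀ b ∈ A, a * b = b * a) (t : N) (k : ℤ) :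
    Subgroup N where
  carrier := {a | a ∈ A ∧ t * a * t⁻¹ = a ^ k}
  one_mem' := ⟨one_mem _, by simp⟩
  mul_mem' := by
    rintro a b ⟨ha, ha'⟩ ⟨hb, hb'⟩
    refine ⟨mul_mem ha hb, ?_⟩
    rw [Commute.mul_zpow (hA a ha b hb), ← ha', ← hb']
    group
  inv_mem' := by
    rintro a ⟨ha, ha'⟩
    refine ⟨inv_mem ha, ?_⟩
    rw [inv_zpow, ← ha']
    group


/-- Let p be an odd prime and N a finite group with a normal elementary abelian subgroup A of order p² that is its own centralizer in N, such that N/A is isomorphic to SL₂(p) (over any field F with p elements). Then N splits over A: some subgroup U of N satisfies A ∩ U = 1 and AU = N. -/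
theorem result {N : Type*} [Group N] [Finite N] {p : ℕ} [Fact p.Prime] (hp : p ≠ 2)
    (A : Subgroup N) [A.Normal] (hAcomm : IsMulCommutative A) (hAcard : Nat.card A = p ^ 2) (hAexp : Monoid.exponent ↥A = p)
    (hAself : Subgroup.centralizer (A : Set N) = A)
    {F : Type*} [Field F] [Fintype F] (hF : Fintype.card F = p) (e : N ⧸ A ≃* Matrix.SpecialLinearGroup (Fin 2) F) :
    ∃ U : Subgroup N, A ⊓ U = ⊥ ∧ A ⊔ U = ⊤ := by
  classical
  have hpr : p.Prime := Fact.out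
  have hodd : Odd p := hpr.odd_of_ne_two hp
  obtain ⟨m, hm⟩ := hodd
  have hA' : ∀ a ∈ A, ∀ b ∈ A, a * b = b * a := fun a ha b hb =>
    congrArg Subtype.val (hAcomm.is_comm.comm ⟨a, ha⟩ ⟨b, hb⟩)
  have hap : ∀ a ∈ A, a ^ p = 1 := fun a ha => by
    have := Monoid.pow_exponent_eq_one (⟨a, ha⟩ : A)
    rw [hAexp] at this
    exact congrArg Subtype.val this
  have hnorm : ∀ n : N, ∀ a ∈ A, n * a * n⁻¹ ∈ A := fun n a ha => ‹A.Normal›.conj_mem a ha n
  -- a lift of minus one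
  obtain ⟨t₀, ht₀⟩ := QuotientGroup.mk'_surjective A (e.symm (-1))
  rw [QuotientGroup.mk'_apply] at ht₀
  have het : e (t₀ : N ⧸ A) = -1 := by rw [ht₀, MulEquiv.apply_symm_apply]
  have hz2 : ∀ M : Matrix.SpecialLinearGroup (Fin 2) F, (-1) * M = M * (-1) := fun M =>
    Subtype.ext (by simp)
  have hcomm : ∀ n : N, n * t₀ * n⁻¹ * t₀⁻¹ ∈ A := fun n => by
    rw [← QuotientGroup.eq_one_iff, QuotientGroup.mk_mul, QuotientGroup.mk_mul, QuotientGroup.mk_mul,
      QuotientGroup.mk_inv, QuotientGroup.mk_inv]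
    apply e.injective
    rw [map_mul, map_mul, map_mul, map_inv, map_inv, het, map_one, ← hz2, mul_inv_cancel_right, mul_inv_cancel]
  have hsq : t₀ * t₀ ∈ A := by
    rw [← QuotientGroup.eq_one_iff, QuotientGroup.mk_mul]
    apply e.injective
    rw [map_mul, het, map_one]
    exact Subtype.ext (by simp)
  have hneq : (-1 : Matrix.SpecialLinearGroup (Fin 2) F) ≠ 1 := fun h => by
    have := congrArg (fun M : Matrix.SpecialLinearGroup (Fin 2) F => M.1 0 0) h
    simp at this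
    refine Ring.neg_one_ne_one_of_char_ne_two (R := F) (fun h2 => ?_) this
    have he := FiniteField.even_card_of_char_two h2
    rw [hF] at he
    omega
  have ht₀A : t₀ ∉ A := fun h => by
    rw [← QuotientGroup.eq_one_iff] at h
    rw [h, map_one] at het
    exact hneq het.symm
  -- conjugation by `t₀` inverts `A`
  set σ : N → N := fun a => t₀ * a * t₀⁻¹
  have hσσ : ∀ a ∈ A, σ (σ a) = a := fun a ha => by
    show t₀ * (t₀ * a * t₀⁻¹) * t₀⁻¹ = a
    calc t₀ * (t₀ * a * t₀⁻¹) * t₀⁻¹ = (t₀ * t₀) * a * (t₀ * t₀)⁻¹ := by group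
      _ = a := by rw [hA' _ hsq a ha]; group
  set Sp := eig A hA' t₀ 1 with hSp
  set Sm := eig A hA' t₀ (-1) with hSm
  have hinv : ∀ (k : ℤ) (n : N), ∀ a ∈ eig A hA' t₀ k, n * a * n⁻¹ ∈ eig A hA' t₀ k := by
    rintro k n a ⟨ha, ha'⟩
    refine ⟨hnorm n a ha, ?_⟩
    rw [conj_zpow, ← ha']
    have h1 : n⁻¹ * t₀ * n * t₀⁻¹ ∈ A := by simpa using hcomm n⁻¹
    have h2 := hA' _ h1 _ (hnorm t₀ a ha)
    calc t₀ * (n * a * n⁻¹) * t₀⁻¹
        = n * ((n⁻¹ * t₀ * n * t₀⁻¹) * (t₀ * a * t₀⁻¹) * (n⁻¹ * t₀ * n * t₀⁻¹)⁻¹) * n⁻¹ := by group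
      _ = n * (t₀ * a * t₀⁻¹) * n⁻¹ := by rw [h2]; group
  have hdisj : Sp ⊓ Sm = ⊥ := by
    refine eq_bot_iff.mpr fun a ha => ?_
    obtain ⟨⟨haA, h1⟩, ⟨-, h2⟩⟩ := ha
    rw [h1, zpow_one, zpow_neg, zpow_one, ← mul_eq_one_iff_eq_inv, ← sq] at h2
    rw [Subgroup.mem_bot, ← orderOf_eq_one_iff]
    exact Nat.eq_one_of_dvd_coprimes ((Nat.coprime_primes hpr Nat.prime_two).mpr hp)
      (orderOf_dvd_of_pow_eq_one (hap a haA)) (orderOf_dvd_of_pow_eq_one h2)
  have hbot : Sp = ⊥ := by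
    by_contra hne
    have hmne : Sm ≠ ⊥ := fun hbot => by
      apply ht₀A
      have hle : t₀ ∈ Subgroup.centralizer (A : Set N) := by
        rw [Subgroup.mem_centralizer_iff]
        intro a ha
        have hmem : a * (σ a)⁻¹ ∈ Sm := by
          refine ⟨mul_mem ha (inv_mem (hnorm t₀ a ha)), ?_⟩
          calc t₀ * (a * (σ a)⁻¹) * t₀⁻¹ = σ a * (σ (σ a))⁻¹ := by simp only [σ]; group
            _ = σ a * a⁻¹ := by rw [hσσ a ha]
            _ = (a * (σ a)⁻¹) ^ (-1 : ℤ) := by rw [zpow_neg, zpow_one, mul_inv_rev, inv_inv]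
        rw [hbot, Subgroup.mem_bot, mul_inv_eq_one] at hmem
        conv_lhs => rw [hmem]
        simp [σ]
      rwa [hAself] at hle
    -- both lines, so the action is abelian
    have hprod : Nat.card Sp * Nat.card Sm ≤ p ^ 2 := by
      rw [← hAcard, ← Nat.card_prod]
      refine Nat.card_le_card_of_injective (fun x => (⟨x.1 * x.2, mul_mem x.1.2.1 x.2.2.1⟩ : A)) ?_
      intro x y hxy
      exact Subgroup.mul_injective_of_disjoint (disjoint_iff.mpr hdisj) (congrArg Subtype.val hxy)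
    have hcard : ∀ S : Subgroup N, S ≤ A → S ≠ ⊥ → ∀ c, Nat.card S * c ≤ p ^ 2 → p ≤ c → Nat.card S = p := by
      intro S hSA hS c hc hcp
      have hd : Nat.card S ∣ p ^ 2 := hAcard ▸ Subgroup.card_dvd_of_le hSA
      obtain ⟨i, hi, hi'⟩ := (Nat.dvd_prime_pow hpr).mp hd
      have h1 : Nat.card S ≠ 1 := fun h => hS (Subgroup.eq_bot_of_card_eq _ h)
      have : Nat.card S * p ≤ p * p := (Nat.mul_le_mul_left _ hcp).trans (hc.trans (sq p).le)
      have := Nat.le_of_mul_le_mul_right this hpr.pos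
      interval_cases i
      · simp [hi'] at h1
      · simpa using hi'
      · nlinarith [hpr.two_le]
    have hge : ∀ S : Subgroup N, S ≤ A → S ≠ ⊥ → p ≤ Nat.card S := by
      intro S hSA hS
      have hd : Nat.card S ∣ p ^ 2 := hAcard ▸ Subgroup.card_dvd_of_le hSA
      obtain ⟨i, hi, hi'⟩ := (Nat.dvd_prime_pow hpr).mp hd
      rw [hi']
      refine Nat.le_self_pow (fun h => hS (Subgroup.eq_bot_of_card_eq _ ?_)) p
      rw [hi', h, pow_zero]
    have cp : Nat.card Sp = p := hcard Sp (fun a h => h.1) hne _ hprod (hge Sm (fun a h => h.1) hmne)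
    have cm : Nat.card Sm = p := hcard Sm (fun a h => h.1) hmne _ (by rw [mul_comm]; exact hprod) (hge Sp (fun a h => h.1) hne)
    have hline : ∀ (S : Subgroup N), Nat.card S = p → (∀ n : N, ∀ a ∈ S, n * a * n⁻¹ ∈ S) →
        ∀ a ∈ S, ∀ x y : N, x * (y * a * y⁻¹) * x⁻¹ = y * (x * a * x⁻¹) * y⁻¹ := by
      intro S hS hSn a ha x y
      rcases eq_or_ne a 1 with rfl | ha1
      · simp
      have hgen : Subgroup.zpowers (⟨a, ha⟩ : S) = ⊤ :=
        zpowers_eq_top_of_prime_card hS (fun h => ha1 (congrArg Subtype.val h))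
      have hk : ∀ n : N, ∃ k : ℤ, n * a * n⁻¹ = a ^ k := fun n => by
        have : (⟨_, hSn n a ha⟩ : S) ∈ Subgroup.zpowers (⟨a, ha⟩ : S) := hgen ▸ Subgroup.mem_top _
        obtain ⟨k, hk⟩ := this
        exact ⟨k, (congrArg Subtype.val hk).symm⟩
      obtain ⟨i, hi⟩ := hk x
      obtain ⟨j, hj⟩ := hk y
      rw [hj, hi, ← conj_zpow, ← conj_zpow, hi, hj, ← zpow_mul, ← zpow_mul, mul_comm]
    have habel : ∀ x y : N, x * y * x⁻¹ * y⁻¹ ∈ A := fun x y => by
      rw [← hAself, Subgroup.mem_centralizer_iff]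
      intro a ha
      -- split `a`
      have hfix : ∀ b, b ∈ Sp ∨ b ∈ Sm → (x * y * x⁻¹ * y⁻¹) * b * (x * y * x⁻¹ * y⁻¹)⁻¹ = b := by
        intro b hb
        obtain ⟨S, hS, hSn, hbS⟩ : ∃ S : Subgroup N, Nat.card S = p ∧ (∀ n : N, ∀ c ∈ S, n * c * n⁻¹ ∈ S) ∧ b ∈ S := by
          rcases hb with hb | hb
          · exact ⟨Sp, cp, hinv 1, hb⟩
          · exact ⟨Sm, cm, hinv (-1), hb⟩
        have hw : x⁻¹ * (y⁻¹ * b * y) * x ∈ S := by
          have h1 : y⁻¹ * b * y ∈ S := by simpa using hSn y⁻¹ b hbS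
          simpa using hSn x⁻¹ _ h1
        have := hline S hS hSn _ hw x y
        calc (x * y * x⁻¹ * y⁻¹) * b * (x * y * x⁻¹ * y⁻¹)⁻¹
            = x * (y * (x⁻¹ * (y⁻¹ * b * y) * x) * y⁻¹) * x⁻¹ := by group
          _ = y * (x * (x⁻¹ * (y⁻¹ * b * y) * x) * x⁻¹) * y⁻¹ := this
          _ = b := by group
      -- `a ^ 2` is a product of the two parts
      have h1 : a * σ a ∈ Sp := ⟨mul_mem ha (hnorm t₀ a ha), by
        calc t₀ * (a * σ a) * t₀⁻¹ = σ a * σ (σ a) := by simp only [σ]; group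
          _ = (a * σ a) ^ (1 : ℤ) := by rw [hσσ a ha, zpow_one, hA' a ha _ (hnorm t₀ a ha)]⟩
      have h2 : a * (σ a)⁻¹ ∈ Sm := ⟨mul_mem ha (inv_mem (hnorm t₀ a ha)), by
        calc t₀ * (a * (σ a)⁻¹) * t₀⁻¹ = σ a * (σ (σ a))⁻¹ := by simp only [σ]; group
          _ = (a * (σ a)⁻¹) ^ (-1 : ℤ) := by rw [hσσ a ha, zpow_neg, zpow_one, mul_inv_rev, inv_inv]⟩
      have e2 : a ^ 2 = (a * σ a) * (a * (σ a)⁻¹) := by
        calc a ^ 2 = a * (a * σ a) * (σ a)⁻¹ := by rw [sq]; group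
          _ = a * (σ a * a) * (σ a)⁻¹ := by rw [hA' a ha _ (hnorm t₀ a ha)]
          _ = _ := by group
      set c := x * y * x⁻¹ * y⁻¹
      have hc2 : c * a ^ 2 * c⁻¹ = a ^ 2 := by
        rw [e2]
        calc c * ((a * σ a) * (a * (σ a)⁻¹)) * c⁻¹ = (c * (a * σ a) * c⁻¹) * (c * (a * (σ a)⁻¹) * c⁻¹) := by group
          _ = _ := by rw [hfix _ (Or.inl h1), hfix _ (Or.inr h2)]
      have hcc : Commute c (a ^ 2) := mul_inv_eq_iff_eq_mul.mp hc2
      have ha' : (a ^ 2) ^ (m + 1) = a := by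
        rw [← pow_mul, show 2 * (m + 1) = p + 1 by omega, pow_succ, hap a ha, one_mul]
      have := hcc.pow_right (m + 1)
      rw [ha'] at this
      exact this.symm.eq
    have hab : ∀ u v : Matrix.SpecialLinearGroup (Fin 2) F, u * v = v * u := by
      intro u v
      obtain ⟨x, hx⟩ := QuotientGroup.mk'_surjective A (e.symm u)
      obtain ⟨y, hy⟩ := QuotientGroup.mk'_surjective A (e.symm v)
      rw [QuotientGroup.mk'_apply] at hx hy
      have := habel x y
      rw [← QuotientGroup.eq_one_iff, QuotientGroup.mk_mul, QuotientGroup.mk_mul, QuotientGroup.mk_mul,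
        QuotientGroup.mk_inv, QuotientGroup.mk_inv, hx, hy] at this
      have h := congrArg e this
      simp only [map_mul, map_inv, MulEquiv.apply_symm_apply, map_one] at h
      exact commutatorElement_eq_one_iff_mul_comm.mp (by rw [commutatorElement_def]; exact h)
    have h := hab ⟨!![1, 1; 0, 1], by simp [Matrix.det_fin_two]⟩ ⟨!![1, 0; 1, 1], by simp [Matrix.det_fin_two]⟩
    have : ((!![1, 1; 0, 1] : Matrix (Fin 2) (Fin 2) F) * !![1, 0; 1, 1] : Matrix (Fin 2) (Fin 2) F) 0 0 =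
        ((!![1, 0; 1, 1] : Matrix (Fin 2) (Fin 2) F) * !![1, 1; 0, 1] : Matrix (Fin 2) (Fin 2) F) 0 0 :=
      congrArg (fun M : Matrix.SpecialLinearGroup (Fin 2) F => M.1 0 0) h
    simp [Matrix.mul_apply, Fin.sum_univ_two] at this
  have hinvert : ∀ a ∈ A, σ a = a⁻¹ := fun a ha => by
    have h1 : a * σ a ∈ Sp := ⟨mul_mem ha (hnorm t₀ a ha), by
      calc t₀ * (a * σ a) * t₀⁻¹ = σ a * σ (σ a) := by simp only [σ]; group
        _ = (a * σ a) ^ (1 : ℤ) := by rw [hσσ a ha, zpow_one, hA' a ha _ (hnorm t₀ a ha)]⟩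
    rw [hbot, Subgroup.mem_bot] at h1
    exact eq_inv_of_mul_eq_one_right h1
  -- an involution lift
  set t := t₀ ^ p with ht
  have htA : t₀⁻¹ * t ∈ A := by
    have : t₀⁻¹ * t = (t₀ * t₀) ^ m := by
      rw [ht, ← sq, ← pow_mul, hm, pow_succ', inv_mul_cancel_left]
    rw [this]; exact pow_mem hsq m
  have ht2 : t * t = 1 := by
    rw [ht, ← (Commute.refl t₀).mul_pow]
    exact hap _ hsq
  have hti : ∀ a ∈ A, t * a * t⁻¹ = a⁻¹ := fun a ha => by
    calc t * a * t⁻¹ = t₀ * ((t₀⁻¹ * t) * a * (t₀⁻¹ * t)⁻¹) * t₀⁻¹ := by group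
      _ = σ a := by rw [hA' _ htA a ha]; simp only [σ]; group
      _ = a⁻¹ := hinvert a ha
  refine ⟨Subgroup.centralizer {t}, ?_, ?_⟩
  · refine eq_bot_iff.mpr fun a ⟨ha, hc⟩ => ?_
    have h1 := hti a ha
    rw [← Subgroup.mem_centralizer_singleton_iff.mp hc, mul_inv_cancel_right, ← mul_eq_one_iff_eq_inv, ← sq] at h1
    rw [Subgroup.mem_bot, ← orderOf_eq_one_iff]
    exact Nat.eq_one_of_dvd_coprimes ((Nat.coprime_primes hpr Nat.prime_two).mpr hp)
      (orderOf_dvd_of_pow_eq_one (hap a ha)) (orderOf_dvd_of_pow_eq_one h1)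
  · rw [eq_top_iff]
    intro n _
    set u := t₀⁻¹ * t with hu
    have hnt : n * t * n⁻¹ * t⁻¹ ∈ A := by
      have h1 : n * t * n⁻¹ * t⁻¹ = (n * t₀ * n⁻¹ * t₀⁻¹) * (t₀ * ((n * u * n⁻¹) * u⁻¹) * t₀⁻¹) := by
        rw [hu]; group
      rw [h1]
      exact mul_mem (hcomm n) (hnorm t₀ _ (mul_mem (hnorm n u htA) (inv_mem htA)))
    set a := n * t * n⁻¹ * t⁻¹
    set b := a ^ (m + 1) with hb
    have hbA : b ∈ A := pow_mem hnt _
    have hb2 : b * b = a := by
      rw [hb, ← pow_add, show m + 1 + (m + 1) = p + 1 by omega, pow_succ, hap a hnt, one_mul]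
    have hct : b⁻¹ * n ∈ Subgroup.centralizer {t} := by
      rw [Subgroup.mem_centralizer_singleton_iff]
      have e1 : n * t = a * t * n := by simp only [a]; group
      have e2 : t * b⁻¹ = b * t := by
        have := hti _ (inv_mem hbA)
        rw [inv_inv] at this
        exact mul_inv_eq_iff_eq_mul.mp this
      calc b⁻¹ * n * t = b⁻¹ * (b * b) * t * n := by rw [mul_assoc, e1, ← hb2]; group
        _ = b * t * n := by group
        _ = t * (b⁻¹ * n) := by rw [← e2]; group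
    have : n = b * (b⁻¹ * n) := by group
    rw [this]
    exact Subgroup.mul_mem_sup hbA hct

end Cfsg.Agent.S3075
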