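import Cfsg.Statements.S3076
import Cfsg.Agent.Lib.PCore.Basic
import Mathlib.GroupTheory.SchurZassenhaus

set_option autoImplicit false
open Cfsg

namespace Cfsg.Agent.S3076

open Subgroup CfsgLib.PCore

theorem mem_of_pow_pow {G : Type*} [Group G] {S : Subgroup G} {x : G} {a b : ℕ} (ha : x ^ a ∈ S)
    (hb : x ^ b ∈ S) (hab : a.Coprime b) : x ∈ S := by
  have h : x = (x ^ a) ^ (Nat.gcdA a b) * (x ^ b) ^ (Nat.gcdB a b) := by
    rw [← zpow_natCast, ← zpow_natCast, ← zpow_mul, ← zpow_mul, ← zpow_add, ← Nat.gcd_eq_gcd_ab,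
      hab, Nat.cast_one, zpow_one]
  rw [h]
  exact mul_mem (zpow_mem ha _) (zpow_mem hb _)

variable {L : Type*} [Group L] [Finite L] {p : ℕ} [Fact p.Prime]

theorem pPrimePCore_eq (H C : Subgroup L) [hHn : H.Normal] [hCn : C.Normal] (hH : IsPGroup p H)
    (hC : C = centralizer (H : Set L)) (hidx : ¬ p ∣ H.relIndex C) :
    Cfsg.pPrimePCore p L = (Cfsg.pCore p (L ⧸ C)).comap (QuotientGroup.mk' C) := by
  have hpr : p.Prime := Fact.out
  let Z := H.subgroupOf C
  have hZ : IsPGroup p Z := hH.comap_of_injective C.subtype C.subtype_injective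
  obtain ⟨b, hb⟩ := hZ.exists_card_eq
  have hcop : (Nat.card Z).Coprime Z.index := by
    rw [hb]; exact Nat.Coprime.pow_left b ((hpr.coprime_iff_not_dvd).mpr hidx)
  obtain ⟨K, hK⟩ := Subgroup.exists_right_complement'_of_coprime hcop
  have hcentral : ∀ z : C, z ∈ Z → ∀ c : C, c * z = z * c := fun z hz c => Subtype.ext (by
    have := c.2
    simp only [hC, mem_centralizer_iff] at this
    exact (this _ hz).symm)
  haveI hKn : K.Normal := by
    rw [← normalizer_eq_top_iff, eq_top_iff, ← hK.sup_eq_top]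
    refine sup_le (fun z hz => mem_normalizer_iff.mpr fun k => ?_) le_normalizer
    rw [← hcentral z hz, mul_inv_cancel_right]
  have hKi : K.index = p ^ b := by rw [hK.index_eq_card]; exact hb
  have hKc : (Nat.card K).Coprime p := by
    rw [← hK.symm.index_eq_card]
    exact ((hpr.coprime_iff_not_dvd).mpr hidx).symm
  have hKO : K.map C.subtype ≤ Cfsg.pPrimeCore p L := by
    refine le_pPrimeCore ⟨?_⟩ (by rwa [card_map_of_injective C.subtype_injective])
    rintro _ ⟨k, hk, rfl⟩ g
    refine ⟨⟨g * (k : L) * g⁻¹, hCn.conj_mem _ k.2 g⟩, ?_, rfl⟩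
    refine mem_of_pow_pow (a := orderOf k) (b := p ^ b) ?_ (hKi ▸ pow_index_mem K _) ?_
    · have : (⟨g * (k : L) * g⁻¹, hCn.conj_mem _ k.2 g⟩ : C) ^ orderOf k = 1 := by
        apply Subtype.ext
        simp only [coe_pow, coe_one, conj_pow]
        rw [← coe_pow, pow_orderOf_eq_one]; simp
      rw [this]; exact one_mem _
    · exact Nat.Coprime.pow_right b (hKc.coprime_dvd_left (Subgroup.orderOf_dvd_natCard K hk))
  have hO'C : Cfsg.pPrimeCore p L ≤ C :=
    hC ▸ pPrimeCore_le_centralizer_pCore.trans (centralizer_le (le_pCore hHn hH))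
  refine le_antisymm (fun x hx => ?_) ?_
  · let f : L ⧸ Cfsg.pPrimeCore p L →* L ⧸ C :=
      QuotientGroup.map _ _ (MonoidHom.id L) (by simpa using hO'C)
    exact map_pCore_le f (fun y => by
      obtain ⟨y, rfl⟩ := QuotientGroup.mk'_surjective C y
      exact ⟨QuotientGroup.mk y, rfl⟩) ⟨_, hx, rfl⟩
  · refine map_le_iff_le_comap.mp (le_pCore (Normal.map ((Cfsg.pCore_normal p _).comap _) _
      (QuotientGroup.mk'_surjective _)) ?_)
    rintro ⟨_, x, hx, rfl⟩
    obtain ⟨i, hi⟩ := pCore_isPGroup (p := p) ⟨_, hx⟩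
    have hxC : x ^ p ^ i ∈ C := by
      rw [← QuotientGroup.eq_one_iff]
      exact congrArg Subtype.val hi
    obtain ⟨z, hz, k, hk, hzk⟩ : ∃ z ∈ Z, ∃ k ∈ K, z * k = (⟨x ^ p ^ i, hxC⟩ : C) := by
      obtain ⟨⟨⟨z, hz⟩, ⟨k, hk⟩⟩, he⟩ := (hK.2 ⟨x ^ p ^ i, hxC⟩)
      exact ⟨z, hz, k, hk, he⟩
    have hzb : z ^ p ^ b = 1 := by
      rw [← hb]; exact congrArg Subtype.val (pow_card_eq_one' (G := Z) (x := ⟨z, hz⟩))
    refine ⟨i + b, Subtype.ext ?_⟩
    simp only [coe_pow, coe_one, ← map_pow]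
    refine (QuotientGroup.eq_one_iff _).mpr (hKO ⟨(⟨x ^ p ^ i, hxC⟩ : C) ^ p ^ b, ?_, ?_⟩)
    · rw [← hzk, (show Commute z k from (hcentral z hz k).symm).mul_pow, hzb, one_mul]
      exact pow_mem hk _
    · simp [pow_add, pow_mul]

theorem core (H C : Subgroup L) [hHn : H.Normal] [hCn : C.Normal] (hH : IsPGroup p H)
    (hC : C = centralizer (H : Set L)) (T : Subgroup L) (hT : IsPGroup p T) (hTi : ¬ p ∣ T.index)
    (hHT : H ≤ T) :
    (H ≤ (Cfsg.pCore p (L ⧸ C)).comap (QuotientGroup.mk' C) ∧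
      ¬ p ∣ H.relIndex ((Cfsg.pCore p (L ⧸ C)).comap (QuotientGroup.mk' C))) ↔
    (T ⊓ C ≤ H ∧ Cfsg.pPrimePCore p L = H ⊔ C) := by
  have hpr : p.Prime := Fact.out
  set N := (Cfsg.pCore p (L ⧸ C)).comap (QuotientGroup.mk' C) with hN
  have hCN : C ≤ N := le_trans (le_of_eq (QuotientGroup.ker_mk' C).symm) (ker_le_comap _ _)
  have hHN : H ≤ N := map_le_iff_le_comap.mp
    (le_pCore (hHn.map _ (QuotientGroup.mk'_surjective C)) (hH.map _))
  have hTC : ¬ p ∣ (T ⊓ C).relIndex C := by
    rw [inf_relIndex_right]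
    refine fun h => hTi (h.trans ?_)
    have cm : ∀ {A B : Subgroup L}, A ≤ B → Nat.card A * A.relIndex B = Nat.card B := fun {A B} hAB => by
      have e := (A.subgroupOf B).card_mul_index
      rwa [← relIndex, Nat.card_congr (subgroupOfEquivOfLe hAB).toEquiv] at e
    have e1 := cm (le_sup_left : T ≤ T ⊔ C)
    have e2 := cm (le_sup_right : C ≤ T ⊔ C)
    have e3 := cm (inf_le_left : T ⊓ C ≤ T)
    have e4 := cm (inf_le_right : T ⊓ C ≤ C)
    rw [relIndex_sup_right] at e2
    rw [inf_relIndex_right] at e4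
    rw [inf_relIndex_left] at e3
    have : T.relIndex (T ⊔ C) = T.relIndex C := by
      refine Nat.eq_of_mul_eq_mul_left (Nat.card_pos (α := T)) ?_
      calc Nat.card T * T.relIndex (T ⊔ C) = Nat.card C * C.relIndex T := e1.trans e2.symm
        _ = Nat.card (T ⊓ C : Subgroup L) * T.relIndex C * C.relIndex T := by rw [e4]
        _ = Nat.card (T ⊓ C : Subgroup L) * C.relIndex T * T.relIndex C := by ring
        _ = Nat.card T * T.relIndex C := by rw [e3]
    rw [← this]
    exact relIndex_dvd_index_of_le le_sup_left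
  constructor
  · rintro ⟨-, hi⟩
    have h1 : T ⊓ C ≤ H := by
      intro x hx
      haveI : (H.subgroupOf N).Normal := hHn.subgroupOf N
      obtain ⟨i, hi'⟩ := IsPGroup.iff_orderOf.mp hT ⟨x, hx.1⟩
      rw [Subgroup.orderOf_mk] at hi'
      refine mem_of_pow_pow (a := p ^ i) (b := H.relIndex N) ?_ ?_
        (Nat.Coprime.pow_left i ((hpr.coprime_iff_not_dvd).mpr hi))
      · rw [← hi', pow_orderOf_eq_one]; exact one_mem _
      · exact (pow_index_mem (H.subgroupOf N) ⟨x, hCN hx.2⟩ :)
    have h2 : ¬ p ∣ H.relIndex C := fun h =>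
      hTC (h.trans (relIndex_dvd_of_le_left C h1))
    refine ⟨h1, ?_⟩
    rw [pPrimePCore_eq H C hH hC h2, ← hN]
    refine le_antisymm (fun x hx => ?_) (sup_le hHN hCN)
    obtain ⟨i, hi'⟩ := pCore_isPGroup (p := p) ⟨_, hx⟩
    haveI : (H.subgroupOf N).Normal := hHn.subgroupOf N
    refine mem_of_pow_pow (a := p ^ i) (b := H.relIndex N) (le_sup_right (a := H) ?_) (le_sup_left (b := C) ?_)
      (Nat.Coprime.pow_left i ((hpr.coprime_iff_not_dvd).mpr hi))
    · rw [← QuotientGroup.eq_one_iff]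
      exact congrArg Subtype.val hi'
    · exact (pow_index_mem (H.subgroupOf N) ⟨x, hx⟩ :)
  · rintro ⟨h1, h2⟩
    have hi : ¬ p ∣ H.relIndex C := fun h => hTC (h.trans (relIndex_dvd_of_le_left C h1))
    refine ⟨hHN, ?_⟩
    rw [hN, ← pPrimePCore_eq H C hH hC hi, h2, sup_comm, relIndex_sup_right]
    exact hi


/-- Let P be a Sylow p-subgroup of the finite group G and H ≤ P a subgroup with N_P(H) a Sylow p-subgroup of N_G(H). Let N be the preimage in N_G(H) of O_p(N_G(H)/C_G(H)). Then H is a Sylow p-subgroup of N if and only if C_P(H) ≤ H and O_{p',p}(N_G(H)) = H·C_G(H). -/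
theorem result {G : Type*} [Group G] [Finite G] {p : ℕ} [Fact p.Prime]
    (P : Sylow p G) (H : Subgroup G) (hHP : H ≤ (P : Subgroup G))
    (hSyl : ¬ p ∣ ((P : Subgroup G) ⊓ Subgroup.normalizer (H : Set G)).relIndex (Subgroup.normalizer (H : Set G)))
    [hC : ((Subgroup.centralizer (H : Set G)).subgroupOf (Subgroup.normalizer (H : Set G))).Normal] :
    (H ≤ ((Cfsg.pCore p (↥(Subgroup.normalizer (H : Set G)) ⧸
              (Subgroup.centralizer (H : Set G)).subgroupOf (Subgroup.normalizer (H : Set G)))).comap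
            (QuotientGroup.mk' _)).map (Subgroup.normalizer (H : Set G)).subtype ∧
      ¬ p ∣ H.relIndex (((Cfsg.pCore p (↥(Subgroup.normalizer (H : Set G)) ⧸
              (Subgroup.centralizer (H : Set G)).subgroupOf (Subgroup.normalizer (H : Set G)))).comap
            (QuotientGroup.mk' _)).map (Subgroup.normalizer (H : Set G)).subtype)) ↔
    ((P : Subgroup G) ⊓ Subgroup.centralizer (H : Set G) ≤ H ∧
      (Cfsg.pPrimePCore p ↥(Subgroup.normalizer (H : Set G))).map (Subgroup.normalizer (H : Set G)).subtype =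
        H ⊔ Subgroup.centralizer (H : Set G)) := by
  set L := Subgroup.normalizer (H : Set G) with hL
  have hHL : H ≤ L := Subgroup.le_normalizer
  have hCL : Subgroup.centralizer (H : Set G) ≤ L := fun c hc => by
    refine Subgroup.mem_normalizer_iff.mpr fun x => ⟨fun hx => ?_, fun hx => ?_⟩
    · rw [← (Subgroup.mem_centralizer_iff.mp hc x hx), mul_inv_cancel_right]; exact hx
    · have := Subgroup.mem_centralizer_iff.mp hc _ hx
      have h2 : c * x * c⁻¹ = x := by
        calc c * x * c⁻¹ = c⁻¹ * (c * x * c⁻¹ * c) := by rw [this]; group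
          _ = x := by group
      rwa [h2] at hx
  have hHn : (H.subgroupOf L).Normal := Subgroup.normal_in_normalizer
  have hH : IsPGroup p (H.subgroupOf L) :=
    (P.isPGroup'.to_le hHP).comap_of_injective L.subtype L.subtype_injective
  have hC' : (Subgroup.centralizer (H : Set G)).subgroupOf L = Subgroup.centralizer ((H.subgroupOf L : Subgroup L) : Set L) := by
    ext c
    simp only [Subgroup.mem_subgroupOf, Subgroup.mem_centralizer_iff, SetLike.mem_coe]
    exact ⟨fun h x hx => Subtype.ext (h _ hx), fun h x hx => congrArg Subtype.val (h ⟨x, hHL hx⟩ hx)⟩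
  have hT : IsPGroup p ((P : Subgroup G).subgroupOf L) :=
    P.isPGroup'.comap_of_injective L.subtype L.subtype_injective
  have hTi : ¬ p ∣ ((P : Subgroup G).subgroupOf L).index := by
    rw [Subgroup.inf_relIndex_right] at hSyl; exact hSyl
  have key := core (H.subgroupOf L) ((Subgroup.centralizer (H : Set G)).subgroupOf L) hH hC' _ hT hTi
    (Subgroup.comap_mono hHP)
  have e1 : H = (H.subgroupOf L).map L.subtype := by
    rw [Subgroup.map_subgroupOf_eq_of_le hHL]
  have e2 : Subgroup.centralizer (H : Set G) = ((Subgroup.centralizer (H : Set G)).subgroupOf L).map L.subtype := by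
    rw [Subgroup.map_subgroupOf_eq_of_le hCL]
  have hle : ∀ X : Subgroup L, (H ≤ X.map L.subtype ↔ H.subgroupOf L ≤ X) := fun X => by
    have := Subgroup.map_le_map_iff_of_injective (H := H.subgroupOf L) (K := X) L.subtype_injective
    rwa [← e1] at this
  have hri : ∀ X : Subgroup L, H.relIndex (X.map L.subtype) = (H.subgroupOf L).relIndex X := fun X => by
    have := Subgroup.relIndex_map_map_of_injective (H.subgroupOf L) X L.subtype_injective
    rwa [← e1] at this
  have heq : ∀ X : Subgroup L, (X.map L.subtype = H ⊔ Subgroup.centralizer (H : Set G) ↔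
      X = H.subgroupOf L ⊔ (Subgroup.centralizer (H : Set G)).subgroupOf L) := fun X => by
    have h := (Subgroup.map_injective L.subtype_injective).eq_iff
      (a := X) (b := H.subgroupOf L ⊔ (Subgroup.centralizer (H : Set G)).subgroupOf L)
    rwa [Subgroup.map_sup, ← e1, ← e2] at h
  have hinf : ((P : Subgroup G) ⊓ Subgroup.centralizer (H : Set G) ≤ H ↔
      (P : Subgroup G).subgroupOf L ⊓ (Subgroup.centralizer (H : Set G)).subgroupOf L ≤ H.subgroupOf L) :=
    ⟨fun h x hx => h hx, fun h x hx => h (x := ⟨x, hCL hx.2⟩) hx⟩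
  rw [hle, hri, heq, hinf]
  exact key

end Cfsg.Agent.S3076
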