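import Cfsg.Statements.S3084
import Cfsg.Agent.Lib.LocalEvenSix.CliffordCover

set_option autoImplicit false
open Cfsg

namespace Cfsg.Agent.S3084

/-- Let K be a group acting faithfully and linearly on a finite-dimensional vector space U of dimension 2n ≥ 2 over the field with two elements, preserving a quadratic form q whose polar bilinear form is non-degenerate and which vanishes on some n-dimensional subspace (a non-singular form of plus type). Then there is a finite group R with a normal extraspecial 2-subgroup Q of order 2^(2n+1), an isomorphism of R/Q with K, and a surjective homomorphism χ from Q onto (the additive group of) U with kernel the centre of Q, such that χ carries conjugation by any r in R to the action of the image of r in K, and an element a of Q squares to the identity exactly when q vanishes at χ(a). -/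
theorem result {K : Type*} [Group K] {U : Type*} [AddCommGroup U] [Module (ZMod 2) U] [Module.Finite (ZMod 2) U] (n : ℕ) (hn1 : 1 ≤ n) (hn : Module.finrank (ZMod 2) U = 2 * n) (ρ : Representation (ZMod 2) K U) (hρ : Function.Injective ρ) (q : QuadraticForm (ZMod 2) U) (hq : ∀ (k : K) (u : U), q (ρ k u) = q u) (hnd : (QuadraticMap.polarBilin q).Nondegenerate) (hplus : ∃ W : Submodule (ZMod 2) U, Module.finrank (ZMod 2) ↥W = n ∧ ∀ w ∈ W, q w = 0) : ∃ (R : Type) (_ : Group R) (_ : Finite R) (Q : Subgroup R) (hN : Q.Normal) (e : R ⧸ Q ≃* K) (χ : ↥Q →* Multiplicative U), Cfsg.IsExtraspecial 2 ↥Q ∧ Nat.card ↥Q = 2 ^ (2 * n + 1) ∧ Function.Surjective χ ∧ χ.ker = Subgroup.center ↥Q ∧ (∀ (r : R) (a : ↥Q), χ ⟨r * a * r⁻¹, hN.conj_mem (a : R) a.2 r⟩ = Multiplicative.ofAdd (ρ (e (r : R ⧸ Q)) (Multiplicative.toAdd (χ a)))) ∧ ∀ a : ↥Q, a * a = 1 ↔ q (Multiplicative.toAdd (χ a)) = 0 := by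
  obtain ⟨W, hW, hWq⟩ := hplus
  obtain ⟨Φ, hΦ⟩ := CfsgLib.LocalEvenSix.CliffordCover.exists_coord n hn q hnd W hW hWq
  let ρ' : Representation (ZMod 2) K (CfsgLib.LocalEvenSix.Clifford.Pair n) :=
    { toFun := fun k => (Φ.symm.toLinearMap.comp (ρ k)).comp Φ.toLinearMap
      map_one' := LinearMap.ext fun u => by simp
      map_mul' := fun a b => LinearMap.ext fun u => by simp }
  have hρ' : ∀ k u, Φ (ρ' k u) = ρ k (Φ u) := fun k u => Φ.apply_symm_apply _
  obtain ⟨R, _, _, Q, hN, e, χ, h1, h2, h3, h4, h5, h6⟩ :=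
    CfsgLib.LocalEvenSix.CliffordCover.exists_extraspecial_cover hn1 ρ'
      (fun a b hab => hρ (LinearMap.ext fun u => by
        rw [← Φ.apply_symm_apply u, ← hρ', ← hρ', hab]))
      (fun k u => by rw [← hΦ, hρ', hq, hΦ])
  refine ⟨R, inferInstance, inferInstance, Q, hN, e,
    (AddMonoidHom.toMultiplicative Φ.toLinearMap.toAddMonoidHom).comp χ, h1, h2, ?_, ?_, ?_, ?_⟩
  · intro u
    obtain ⟨a, ha⟩ := h3 (Multiplicative.ofAdd (Φ.symm (Multiplicative.toAdd u)))
    exact ⟨a, by simp [ha]⟩
  · rw [← h4]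
    ext a
    simp
  · intro r a
    simp only [MonoidHom.comp_apply]
    rw [h5]
    simp [hρ']
  · intro a
    rw [h6, ← hΦ]
    rfl

end Cfsg.Agent.S3084
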