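import Cfsg.Statements.S3086
-- import your own Cfsg.Agent.* helpers here

import Cfsg.Agent.Lib.Components.Basic
import Cfsg.Agent.Lib.LocalEven.PGV.Main

set_option autoImplicit false
open Cfsg
open scoped commutatorElement

namespace Cfsg.Agent.S3086

/-- The P(G,V)-theorem. Let p be a prime, G a finite group acting faithfully and linearly on a finite vector space V over the field with p elements, and A a nontrivial elementary abelian p-subgroup of G such that |A|·|C_V(A)| ≥ |B|·|C_V(B)| for every subgroup B of A. Then A normalizes every component (subnormal quasisimple subgroup) of G. -/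
theorem result {G V : Type*} [Group G] [Finite G] [AddCommGroup V] [Finite V] (p : ℕ) [Fact p.Prime] [Module (ZMod p) V]
    (ρ : Representation (ZMod p) G V) (hρ : Function.Injective ρ)
    (A : Subgroup G) (hA : A ≠ ⊥) (hAel : Cfsg.IsElementaryAbelian p A)
    (hP : ∀ B : Subgroup G, B ≤ A →
      Nat.card ↥B * Nat.card {v : V // ∀ b ∈ B, ρ b v = v} ≤ Nat.card ↥A * Nat.card {v : V // ∀ a ∈ A, ρ a v = v}) :
    ∀ K : Subgroup G, Cfsg.IsComponent K → A ≤ Subgroup.normalizer (K : Set G) := by
  intro K hK a ha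
  let φ : G →* CfsgLib.LocalEven.PGV.Γ V :=
    MonoidHom.toHomUnits
      { toFun := fun g => ((ρ g).toAddMonoidHom : AddMonoid.End V)
        map_one' := AddMonoidHom.ext fun v => by show ρ 1 v = v; rw [map_one]; rfl
        map_mul' := fun g h => AddMonoidHom.ext fun v => by show ρ (g * h) v = ρ g (ρ h v); rw [map_mul]; rfl }
  have hφs : ∀ g v, φ g • v = ρ g v := fun g v => rfl
  have hφ : Function.Injective φ := fun g h e => hρ (LinearMap.ext fun v => by
    rw [← hφs, ← hφs, e])
  have hp : ∀ v : V, p • v = 0 := fun v => by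
    rw [← Nat.cast_smul_eq_nsmul (ZMod p), ZMod.natCast_self, zero_smul]
  have hel : Cfsg.IsElementaryAbelian p (A.map φ) := by
    refine ⟨⟨⟨?_⟩⟩, ?_⟩
    · rintro ⟨_, x, hx, rfl⟩ ⟨_, y, hy, rfl⟩
      refine Subtype.ext ?_
      simp only [Subgroup.coe_mul, ← map_mul]
      exact congrArg φ (congrArg Subtype.val (hAel.1.is_comm.comm ⟨x, hx⟩ ⟨y, hy⟩))
    · rintro _ ⟨x, hx, rfl⟩
      rw [← map_pow, hAel.2 x hx, map_one]
  have hcj : ∀ g : G, CfsgLib.LocalEven.PGV.cj (φ g) (K.map φ) =
      (K.map (MulAut.conj g).toMonoidHom).map φ := fun g => by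
    rw [CfsgLib.LocalEven.PGV.cj, Subgroup.map_map, Subgroup.map_map]
    congr 1
    ext x
    simp
  have hset : CfsgLib.LocalEven.PGV.Setup p (A.map φ) (K.map φ) := by
    refine ⟨hel, ?_, ?_, ?_, ?_⟩
    · rw [← Subgroup.map_commutator, CfsgLib.Components.component_commutator_self hK]
    · intro e
      exact CfsgLib.Components.component_ne_bot hK ((Subgroup.map_eq_bot_iff_of_injective _ hφ).1 e)
    · intro N hN hnorm
      haveI : ((N.comap φ).subgroupOf K).Normal := ⟨fun n hn k => by
        rw [Subgroup.mem_subgroupOf, Subgroup.mem_comap] at hn ⊢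
        simp only [Subgroup.coe_mul, InvMemClass.coe_inv, map_mul, map_inv]
        exact hnorm _ ⟨k, k.2, rfl⟩ _ hn⟩
      rcases CfsgLib.Components.quasisimple_normal_eq_top_or_le_center hK.2
          ((N.comap φ).subgroupOf K) with e | e
      · left
        refine le_antisymm hN ?_
        rintro _ ⟨k, hk, rfl⟩
        exact Subgroup.subgroupOf_eq_top.1 e hk
      · right
        intro n hn
        obtain ⟨k, hk, rfl⟩ := hN hn
        rw [Subgroup.mem_centralizer_iff]
        rintro _ ⟨l, hl, rfl⟩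
        rw [← map_mul, ← map_mul]
        have hc : (⟨k, hk⟩ : K) ∈ Subgroup.center K := e (Subgroup.mem_subgroupOf.2 hn)
        exact congrArg φ (congrArg Subtype.val (Subgroup.mem_center_iff.1 hc ⟨l, hl⟩))
    · rintro _ ⟨b, hb, rfl⟩ hne _ ⟨x, hx, rfl⟩ y hy
      rw [hcj] at hne hy
      obtain ⟨z, hz, rfl⟩ := hy
      have hne' : K ≠ K.map (MulAut.conj b).toMonoidHom := fun e => hne (by rw [← e])
      have := CfsgLib.Components.commutator_components_eq_bot hK
        (CfsgLib.Components.isComponent_conj b hK) hne'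
      refine Commute.map ?_ φ
      exact commutatorElement_eq_one_iff_mul_comm.1
        (Subgroup.mem_bot.1 (this ▸ Subgroup.commutator_mem_commutator hx hz))
  have hcardfix : ∀ B : Subgroup G, Nat.card (CfsgLib.LocalEven.PGV.fix (B.map φ)) =
      Nat.card {v : V // ∀ b ∈ B, ρ b v = v} := fun B =>
    Nat.card_congr (Equiv.subtypeEquivRight fun v =>
      ⟨fun h b hb => h _ ⟨b, hb, rfl⟩, by rintro h _ ⟨b, hb, rfl⟩; exact h b hb⟩)
  have hcardB : ∀ B : Subgroup G, Nat.card (B.map φ) = Nat.card B := fun B =>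
    (Nat.card_congr (Subgroup.equivMapOfInjective B φ hφ).toEquiv).symm
  have hbest : CfsgLib.LocalEven.PGV.Best (A.map φ) := by
    intro B hB
    have hB' : B = (B.comap φ ⊓ A).map φ := by
      refine le_antisymm (fun x hx => ?_) ?_
      · obtain ⟨y, hy, rfl⟩ := hB hx
        exact ⟨y, ⟨hx, hy⟩, rfl⟩
      · rintro _ ⟨y, hy, rfl⟩
        exact hy.1
    rw [hB', hcardB, hcardB, hcardfix, hcardfix]
    exact hP _ inf_le_right
  have key := CfsgLib.LocalEven.PGV.normalizes _ hp rfl hset hbest (φ a) ⟨a, ha, rfl⟩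
  rw [hcj] at key
  exact Subgroup.mem_normalizer_iff_map_conj_eq.2 (Subgroup.map_injective hφ key)

end Cfsg.Agent.S3086
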