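import Cfsg.Statements.S3087
import Mathlib.GroupTheory.Coset.Card

set_option autoImplicit false
open Cfsg

namespace Cfsg.Agent.S3087

/-- Let p be a prime, G a finite group acting linearly on a finite vector space V over the field with p elements, W a G-invariant subspace, and A a subgroup of G with |A|·|C_V(A)| ≥ |B|·|C_V(B)| for every subgroup B of A. Then |A|·|C_W(A)| ≥ |B|·|C_W(B)| for every subgroup B of A that contains C_A(W); that is, the image of A in the group induced on W satisfies the same maximality condition. -/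
theorem result {G V : Type*} [Group G] [Finite G] [AddCommGroup V] [Finite V] (p : ℕ) [Fact p.Prime] [Module (ZMod p) V]
    (ρ : Representation (ZMod p) G V) (W : Submodule (ZMod p) V) (hW : ∀ g : G, ∀ w ∈ W, ρ g w ∈ W)
    (A : Subgroup G)
    (hP : ∀ B : Subgroup G, B ≤ A →
      Nat.card ↥B * Nat.card {v : V // ∀ b ∈ B, ρ b v = v} ≤ Nat.card ↥A * Nat.card {v : V // ∀ a ∈ A, ρ a v = v})
    (B : Subgroup G) (hBA : B ≤ A) (hCB : ∀ a ∈ A, (∀ w ∈ W, ρ a w = w) → a ∈ B) :
    Nat.card ↥B * Nat.card {w : W // ∀ b ∈ B, ρ b w = w} ≤ Nat.card ↥A * Nat.card {w : W // ∀ a ∈ A, ρ a w = w} := by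
  let fix : Subgroup G → Submodule (ZMod p) V := fun C =>
    { carrier := {v | ∀ b ∈ C, ρ b v = v}
      add_mem' := fun hx hy b hb => by simp [map_add, hx b hb, hy b hb]
      zero_mem' := fun b _ => map_zero _
      smul_mem' := fun c x hx b hb => by simp [map_smul, hx b hb] }
  have hV : ∀ C : Subgroup G, Nat.card {v : V // ∀ b ∈ C, ρ b v = v} = Nat.card (fix C) :=
    fun C => rfl
  have hWc : ∀ C : Subgroup G, Nat.card {w : W // ∀ b ∈ C, ρ b w = w} = Nat.card ↥(fix C ⊓ W) :=
    fun C => Nat.card_congr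
      { toFun := fun w => ⟨w.1.1, w.2, w.1.2⟩
        invFun := fun v => ⟨⟨v.1, v.2.2⟩, v.2.1⟩
        left_inv := fun _ => rfl
        right_inv := fun _ => rfl }
  rw [hWc B, hWc A]
  set X := fix B ⊓ W with hX
  let Y := fix A
  have hY : Y = fix A := rfl
  have hle : X ⊔ Y ≤ fix B := sup_le inf_le_left (fun v hv b hb => hv b (hBA hb))
  have hinf : X ⊓ Y = fix A ⊓ W :=
    le_antisymm (le_inf inf_le_right (inf_le_left.trans inf_le_right))
      (le_inf (le_inf (fun v hv b hb => hv.1 b (hBA hb)) inf_le_right) inf_le_left)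
  have e1 := (LinearMap.quotientInfEquivSupQuotient X Y).toEquiv
  have c1 := Submodule.card_eq_card_quotient_mul_card ((X ⊓ Y).comap X.subtype)
  have c2 := Submodule.card_eq_card_quotient_mul_card (Y.comap (X ⊔ Y).subtype)
  rw [← Submodule.comap_inf] at e1
  rw [Nat.card_congr e1] at c1
  rw [Nat.card_congr (Submodule.comapSubtypeEquivOfLe (inf_le_left : X ⊓ Y ≤ X)).toEquiv, hinf] at c1
  rw [Nat.card_congr (Submodule.comapSubtypeEquivOfLe (le_sup_right : Y ≤ X ⊔ Y)).toEquiv] at c2
  have h1 : Nat.card ↥(X ⊔ Y) ≤ Nat.card (fix B) :=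
    Nat.card_le_card_of_injective _ (Submodule.inclusion_injective hle)
  have h2 := hP B hBA
  rw [hV B, hV A] at h2
  have hY0 : 0 < Nat.card Y := Nat.card_pos
  have key : Nat.card X * Nat.card Y = Nat.card ↥(X ⊔ Y) * Nat.card ↥(fix A ⊓ W) := by
    rw [c1, c2]; ring
  have : (Nat.card B * Nat.card X) * Nat.card Y ≤ (Nat.card A * Nat.card ↥(fix A ⊓ W)) * Nat.card Y := by
    calc (Nat.card B * Nat.card X) * Nat.card Y
        = Nat.card B * Nat.card ↥(X ⊔ Y) * Nat.card ↥(fix A ⊓ W) := by rw [mul_assoc, key, ← mul_assoc]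
      _ ≤ Nat.card B * Nat.card (fix B) * Nat.card ↥(fix A ⊓ W) :=
          Nat.mul_le_mul_right _ (Nat.mul_le_mul_left _ h1)
      _ ≤ Nat.card A * Nat.card (fix A) * Nat.card ↥(fix A ⊓ W) := Nat.mul_le_mul_right _ h2
      _ = (Nat.card A * Nat.card ↥(fix A ⊓ W)) * Nat.card Y := by rw [hY]; ring
  exact Nat.le_of_mul_le_mul_right this hY0

end Cfsg.Agent.S3087
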