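import Cfsg.Statements.S3104
import Cfsg.Agent.Lib.InvChar.RankFourQuotient
import Cfsg.Agent.Lib.InvChar.RankFourSymSix

set_option autoImplicit false
open Cfsg

namespace Cfsg.Agent.S3104

/-- Let X be a finite nonsolvable 2-constrained group with no nontrivial normal subgroup of odd order such that O₂(X) has sectional 2-rank at most 4, and write Q for X/O₂(X). Then Q is isomorphic to the projective special linear group of dimension 3 over the field with 2 elements, to an alternating group of degree n with 5 ≤ n ≤ 8, to a symmetric group of degree n with 5 ≤ n ≤ 7, or else O₃(Q) has order 3 and Q/O₃(Q) is isomorphic to the alternating or the symmetric group of degree 5 (so Q is the direct product of a group of order 3 with the alternating group of degree 5, or an extension of that direct product by a group of order 2). If moreover X itself has sectional 2-rank at most 4, then Q is not isomorphic to the symmetric group of degree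 6 or 7 nor to the alternating group of degree 8. -/
theorem result {X : Type*} [Group X] [Finite X] (hns : ¬ Group.IsSolvable X) (hc : Cfsg.IsPConstrained 2 X) (hO : Cfsg.oddCore X = ⊥)
    (h4 : Cfsg.SectionalPRankLE 2 4 ↥(Cfsg.pCore 2 X)) :
    ((∃ (F : Type) (_ : Field F) (_ : Fintype F), Fintype.card F = 2 ∧
          Nonempty (X ⧸ Cfsg.pCore 2 X ≃* Matrix.ProjectiveSpecialLinearGroup (Fin 3) F)) ∨
        (∃ n : ℕ, 5 ≤ n ∧ n ≤ 8 ∧ Nonempty (X ⧸ Cfsg.pCore 2 X ≃* ↥(alternatingGroup (Fin n)))) ∨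
        (∃ n : ℕ, 5 ≤ n ∧ n ≤ 7 ∧ Nonempty (X ⧸ Cfsg.pCore 2 X ≃* Equiv.Perm (Fin n))) ∨
        (Nat.card ↥(Cfsg.pCore 3 (X ⧸ Cfsg.pCore 2 X)) = 3 ∧
          (Nonempty ((X ⧸ Cfsg.pCore 2 X) ⧸ Cfsg.pCore 3 (X ⧸ Cfsg.pCore 2 X) ≃* ↥(alternatingGroup (Fin 5))) ∨
            Nonempty ((X ⧸ Cfsg.pCore 2 X) ⧸ Cfsg.pCore 3 (X ⧸ Cfsg.pCore 2 X) ≃* Equiv.Perm (Fin 5))))) ∧
      (Cfsg.SectionalPRankLE 2 4 X →
        ¬ (Nonempty (X ⧸ Cfsg.pCore 2 X ≃* Equiv.Perm (Fin 6)) ∨ Nonempty (X ⧸ Cfsg.pCore 2 X ≃* Equiv.Perm (Fin 7)) ∨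
            Nonempty (X ⧸ Cfsg.pCore 2 X ≃* ↥(alternatingGroup (Fin 8))))) := by
  classical
  have : Fact (Nat.Prime 2) := ⟨Nat.prime_two⟩
  refine ⟨?_, fun h4X => ?_⟩
  · obtain ⟨f, hf⟩ := CfsgLib.InvCharRankFour.exists_embedding hc hO h4
    let j : X ⧸ Cfsg.pCore 2 X →* Equiv.Perm (Fin 8) := (alternatingGroup (Fin 8)).subtype.comp
      (CfsgLib.KnownSimple.GLFourTwo.glFourTwoEquivAlt.toMonoidHom.comp f)
    have hj : Function.Injective j :=
      Subtype.val_injective.comp (CfsgLib.KnownSimple.GLFourTwo.glFourTwoEquivAlt.injective.comp hf)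
    let e : X ⧸ Cfsg.pCore 2 X ≃* j.range := MonoidHom.ofInjective hj
    have hle : j.range ≤ alternatingGroup (Fin 8) := by rintro _ ⟨x, rfl⟩; exact SetLike.coe_mem _
    have hns' : ¬ Group.IsSolvable j.range := fun h => hns (by
      have : Group.IsSolvable (X ⧸ Cfsg.pCore 2 X) := Group.isSolvable_of_isSolvable_injective (f := e.toMonoidHom) e.injective
      have : Group.IsSolvable (Cfsg.pCore 2 X) :=
        CfsgLib.InvCharSmall.isSolvable_of_forall_orderOf 2 CfsgLib.PCore.pCore_isPGroup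
      exact Group.isSolvable_of_ker_le_range (Cfsg.pCore 2 X).subtype (QuotientGroup.mk' (Cfsg.pCore 2 X))
        (by rw [QuotientGroup.ker_mk', Subgroup.range_subtype]))
    have hcore : Cfsg.pCore 2 j.range = ⊥ :=
      CfsgLib.PCore.pCore_eq_bot_of_equiv e CfsgLib.PCore.pCore_quotient_pCore
    rcases CfsgLib.InvCharRankFour.subgroup_cases hle hns' hcore with
      (⟨n, h5, h8, ⟨i⟩⟩ | ⟨⟨i⟩⟩ | ⟨⟨i⟩⟩ | ⟨⟨i⟩⟩) | ⟨h3, R, hR, ⟨i⟩⟩
    · exact Or.inr (Or.inl ⟨n, h5, h8, ⟨e.trans i⟩⟩)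
    · exact Or.inr (Or.inr (Or.inl ⟨5, le_rfl, by norm_num, ⟨e.trans i⟩⟩))
    · exact Or.inr (Or.inr (Or.inl ⟨6, by norm_num, by norm_num, ⟨e.trans i⟩⟩))
    · refine Or.inl ⟨ZMod 2, inferInstance, inferInstance, ZMod.card 2, ⟨(e.trans i).trans ?_⟩⟩
      exact CfsgLib.InvCharRankFour.glThreeEquivPSL
    · have : Fact (Nat.Prime 3) := ⟨Nat.prime_three⟩
      have hmap : (Cfsg.pCore 3 (X ⧸ Cfsg.pCore 2 X)).map e.toMonoidHom = Cfsg.pCore 3 j.range :=
        CfsgLib.PCore.map_pCore_equiv e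
      have hQn : (Cfsg.pCore 3 (X ⧸ Cfsg.pCore 2 X)).Normal := Cfsg.pCore_normal 3 _
      have hQn' : (Cfsg.pCore 3 j.range).Normal := Cfsg.pCore_normal 3 _
      refine Or.inr (Or.inr (Or.inr ⟨?_, ?_⟩))
      · refine Eq.trans ?_ h3
        rw [← hmap]
        exact Nat.card_congr (Subgroup.equivMapOfInjective _ e.toMonoidHom e.injective).toEquiv
      · let i' := (QuotientGroup.congr _ _ e hmap).trans i
        rcases CfsgLib.InvCharRankFour.subgroup_perm_five R hR with ⟨⟨k⟩⟩ | ⟨⟨k⟩⟩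
        · exact Or.inl ⟨i'.trans k⟩
        · exact Or.inr ⟨i'.trans k⟩
  · rintro (⟨⟨i⟩⟩ | ⟨⟨i⟩⟩ | ⟨⟨i⟩⟩)
    · exact CfsgLib.InvCharRankFour.not_embeds_symSix hc hO h4 i.symm.toMonoidHom i.symm.injective h4X
    · obtain ⟨g, hg⟩ := CfsgLib.InvCharRankFour.exists_symSix_to_symSeven
      exact CfsgLib.InvCharRankFour.not_embeds_symSix hc hO h4 (i.symm.toMonoidHom.comp g)
        (i.symm.injective.comp hg) h4X
    · obtain ⟨g, hg⟩ := CfsgLib.InvCharRankFour.exists_symSix_to_altEight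
      exact CfsgLib.InvCharRankFour.not_embeds_symSix hc hO h4 (i.symm.toMonoidHom.comp g)
        (i.symm.injective.comp hg) h4X

end Cfsg.Agent.S3104
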