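import Cfsg.Statements.S3105
import Cfsg.Agent.Lib.InvChar.RankFourLinear.Main
import Cfsg.Agent.Lib.PLocal.Constraint
import Cfsg.Agent.Lib.PCore.Basic
import Cfsg.Agent.S0249
import Cfsg.Agent.Classical.SLBasic

set_option autoImplicit false
open Cfsg

namespace Cfsg.Agent.S3105

/-- Let X be a finite nonsolvable 2-constrained group with no nontrivial normal subgroup of odd order and of sectional 2-rank at most 4, and suppose X/O₂(X) is isomorphic to the projective special linear group of dimension 3 over the field with 2 elements. Then O₂(X) is elementary abelian of order 8 or 16, or is isomorphic to the direct product of a cyclic group of order 4 and an elementary abelian group of order 8. -/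
theorem result {X : Type*} [Group X] [Finite X] (hns : ¬ Group.IsSolvable X) (hc : Cfsg.IsPConstrained 2 X) (hO : Cfsg.oddCore X = ⊥)
    (h4 : Cfsg.SectionalPRankLE 2 4 X) {F : Type*} [Field F] [Fintype F] (hF : Fintype.card F = 2)
    (hQ : Nonempty (X ⧸ Cfsg.pCore 2 X ≃* Matrix.ProjectiveSpecialLinearGroup (Fin 3) F)) :
    (Cfsg.IsElementaryAbelian 2 (Cfsg.pCore 2 X) ∧ (Nat.card ↥(Cfsg.pCore 2 X) = 8 ∨ Nat.card ↥(Cfsg.pCore 2 X) = 16)) ∨
      Nonempty (↥(Cfsg.pCore 2 X) ≃* Multiplicative (ZMod 4) × (Fin 3 → Multiplicative (ZMod 2))) := by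
  classical
  obtain ⟨e⟩ := hQ
  haveI : IsSimpleGroup (Matrix.ProjectiveSpecialLinearGroup (Fin 3) F) := Cfsg.Agent.S0249.result 3 le_rfl
  have hL : Nat.card (Matrix.ProjectiveSpecialLinearGroup (Fin 3) F) = 168 := by
    have h := Cfsg.Agent.Classical.card_psl_mul (F := F) 3 (by norm_num)
    rw [hF, Fin.prod_univ_three] at h
    simpa using h
  set R := Cfsg.pCore 2 X with hR
  have hchar : Subgroup.centralizer (R : Set X) ≤ R :=
    (CfsgLib.PLocal.isPConstrained_iff_of_core_eq_bot (p := 2) (G := X) hO).1 hc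
  let π : X →* Matrix.ProjectiveSpecialLinearGroup (Fin 3) F := e.toMonoidHom.comp (QuotientGroup.mk' R)
  have hπ : Function.Surjective π := e.surjective.comp (QuotientGroup.mk'_surjective R)
  have hker : π.ker = R := by
    ext x
    rw [MonoidHom.mem_ker]
    show e _ = 1 ↔ _
    rw [MulEquiv.map_eq_one_iff]
    exact QuotientGroup.eq_one_iff x
  have hM : IsPGroup 2 π.ker := hker ▸ CfsgLib.PCore.pCore_isPGroup (p := 2) (G := X)
  have hsec := CfsgLib.RankFourAltFive.secLE_of_sectional h4
  rcases CfsgLib.RankFourLinear.radical_cases hL hπ hM (hker ▸ hchar) hsec with ⟨hcard, hsq⟩ | h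
  · rw [hker] at hcard hsq
    refine Or.inl ⟨⟨⟨⟨fun a b => ?_⟩⟩, fun a ha => ?_⟩, hcard⟩
    · have h2 : ∀ r : R, r * r = 1 := fun r => Subtype.ext (hsq r r.2)
      have ha := inv_eq_of_mul_eq_one_right (h2 a)
      have hb := inv_eq_of_mul_eq_one_right (h2 b)
      have hab := inv_eq_of_mul_eq_one_right (h2 (a * b))
      rw [mul_inv_rev, ha, hb] at hab
      exact hab.symm
    · rw [pow_two]
      exact hsq a ha
  · rw [hker] at h
    exact Or.inr h

end Cfsg.Agent.S3105
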