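import Cfsg.Statements.S3106
import Cfsg.Agent.Lib.InvChar.RankFourAltFive.Main
import Cfsg.Agent.Lib.PLocal.Constraint
import Cfsg.Agent.Lib.PCore.Basic

set_option autoImplicit false
open Cfsg

namespace Cfsg.Agent.S3106

/-- Let X be a finite nonsolvable 2-constrained group with no nontrivial normal subgroup of odd order and of sectional 2-rank at most 4, and suppose X/O₂(X) contains a subgroup isomorphic to the alternating group of degree 5. Then O₂(X) is elementary abelian of order 16, or O₂(X) is a central product of a quaternion group of order 8 and a dihedral group of order 8 (it has order 32 and is generated by two elementwise-commuting subgroups, one quaternion of order 8 and one dihedral of order 8, meeting in the centre). -/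
theorem result {X : Type*} [Group X] [Finite X] (hns : ¬ Group.IsSolvable X) (hc : Cfsg.IsPConstrained 2 X) (hO : Cfsg.oddCore X = ⊥)
    (h4 : Cfsg.SectionalPRankLE 2 4 X)
    (hQ : ∃ A : Subgroup (X ⧸ Cfsg.pCore 2 X), Nonempty (↥A ≃* ↥(alternatingGroup (Fin 5)))) :
    (Cfsg.IsElementaryAbelian 2 (Cfsg.pCore 2 X) ∧ Nat.card ↥(Cfsg.pCore 2 X) = 16) ∨
      (Nat.card ↥(Cfsg.pCore 2 X) = 32 ∧ ∃ A B : Subgroup ↥(Cfsg.pCore 2 X),
        Nonempty (↥A ≃* QuaternionGroup 2) ∧ Nonempty (↥B ≃* DihedralGroup 4) ∧ (∀ a ∈ A, ∀ b ∈ B, a * b = b * a) ∧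
          A ⊔ B = ⊤ ∧ A ⊓ B = Subgroup.center ↥(Cfsg.pCore 2 X)) := by
  classical
  have : Fact (Nat.Prime 2) := ⟨Nat.prime_two⟩
  obtain ⟨A, ⟨e⟩⟩ := hQ
  set R := Cfsg.pCore 2 X with hR
  have hchar : Subgroup.centralizer (R : Set X) ≤ R :=
    (CfsgLib.PLocal.isPConstrained_iff_of_core_eq_bot (p := 2) (G := X) hO).1 hc
  let Y : Subgroup X := A.comap (QuotientGroup.mk' R)
  let π : Y →* alternatingGroup (Fin 5) := e.toMonoidHom.comp ((QuotientGroup.mk' R).subgroupComap A)
  have hπ : Function.Surjective π := e.surjective.comp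
    ((QuotientGroup.mk' R).subgroupComap_surjective_of_surjective A (QuotientGroup.mk'_surjective R))
  have hRY : R ≤ Y := fun r hr => by
    show QuotientGroup.mk' R r ∈ A
    rw [show QuotientGroup.mk' R r = 1 from (QuotientGroup.eq_one_iff r).2 hr]
    exact one_mem A
  have hker : ∀ y : Y, y ∈ π.ker ↔ (y : X) ∈ R := fun y => by
    rw [MonoidHom.mem_ker]
    show e _ = 1 ↔ _
    rw [MulEquiv.map_eq_one_iff, ← QuotientGroup.eq_one_iff (N := R)]
    exact Subtype.ext_iff
  have hM : IsPGroup 2 π.ker := by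
    intro ⟨y, hy⟩
    obtain ⟨k, hk⟩ := CfsgLib.PCore.pCore_isPGroup (p := 2) (G := X) ⟨(y : X), (hker y).1 hy⟩
    refine ⟨k, Subtype.ext (Subtype.ext ?_)⟩
    simpa only [SubmonoidClass.coe_pow, Subgroup.coe_one] using congrArg Subtype.val hk
  have hcY : Subgroup.centralizer (π.ker : Set Y) ≤ π.ker := fun y hy => (hker y).2 (hchar
    (Subgroup.mem_centralizer_iff.2 fun r hr =>
      congrArg Subtype.val (Subgroup.mem_centralizer_iff.1 hy ⟨r, hRY hr⟩ ((hker _).2 hr))))
  have hsec := (CfsgLib.RankFourAltFive.secLE_of_sectional h4).comap Y.subtype Subtype.val_injective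
  let ι : R ≃* π.ker :=
    { toFun := fun r => ⟨⟨r, hRY r.2⟩, (hker _).2 r.2⟩
      invFun := fun y => ⟨((y : Y) : X), (hker _).1 y.2⟩
      left_inv := fun r => rfl
      right_inv := fun y => rfl
      map_mul' := fun r s => rfl }
  rcases CfsgLib.RankFourAltFive.radical_cases hπ hM hcY hsec with ⟨hcard, hsq⟩ |
    ⟨hcard, k, hk, hk1, hk2, hkc, v, hvm, hv, hvv⟩
  · refine Or.inl ⟨⟨⟨⟨fun a b => ?_⟩⟩, fun a ha => ?_⟩, (Nat.card_congr ι.toEquiv).trans hcard⟩
    · have h2 : ∀ r : R, r * r = 1 := fun r => ι.injective (by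
        rw [map_mul, map_one]; exact Subtype.ext (hsq _ (ι r).2))
      have ha := inv_eq_of_mul_eq_one_right (h2 a)
      have hb := inv_eq_of_mul_eq_one_right (h2 b)
      have hab := inv_eq_of_mul_eq_one_right (h2 (a * b))
      rw [mul_inv_rev, ha, hb] at hab
      exact hab.symm
    · have h := hsq _ (ι ⟨a, ha⟩).2
      rw [pow_two]
      exact congrArg (fun y : Y => (y : X)) h
  · have hcard' : Nat.card R = 32 := (Nat.card_congr ι.toEquiv).trans hcard
    refine Or.inr ⟨hcard', CfsgLib.RankFourAltFive.central_product_of_points hcard' (ι.symm ⟨k, hk⟩) ?_ ?_ ?_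
      (fun i => ι.symm ⟨v i, hvm i⟩) (fun i => ?_) fun i l hil => ?_⟩
    · exact fun h => hk1 (congrArg Subtype.val (ι.symm.injective (h.trans (map_one ι.symm).symm)))
    · rw [← map_mul, ← map_one ι.symm]
      exact congrArg _ (Subtype.ext hk2)
    · intro x
      obtain ⟨y, rfl⟩ := ι.symm.surjective x
      rw [← map_mul, ← map_mul]
      exact congrArg _ (Subtype.ext (hkc _ y.2))
    · rw [← map_mul, ← map_one ι.symm]
      exact congrArg _ (Subtype.ext (hv i))
    · rw [← map_mul, ← map_mul, ← map_mul]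
      exact congrArg _ (Subtype.ext (hvv i l hil))

end Cfsg.Agent.S3106
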