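import Cfsg.Statements.S3113
import Cfsg.Agent.Lib.DihProduct.Direct
import Cfsg.Agent.S1172

set_option autoImplicit false
open Cfsg

namespace Cfsg.Agent.S3113

/-- Let G be a finite group with no nontrivial normal subgroup of odd order, no proper normal subgroup of odd index and no normal subgroup of index 2, whose Sylow 2-subgroup S is non-abelian and is the internal direct product of two dihedral subgroups (each of order at least 4). Then G is the internal direct product of two normal subgroups G₁ and G₂, and for a suitable such factorization of S into dihedral subgroups S₁ × S₂ the factor Sᵢ is a Sylow 2-subgroup of Gᵢ for i = 1, 2. -/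
theorem result {G : Type*} [Group G] [Finite G] (hO : Cfsg.oddCore G = ⊥) (hidx : ∀ N : Subgroup G, N.Normal → Odd N.index → N = ⊤)
    (h2 : ∀ N : Subgroup G, N.Normal → N.index ≠ 2)
    (S : Sylow 2 G) (hS : ¬ IsMulCommutative ↥(S : Subgroup G))
    (D₁ D₂ : Subgroup G) (hD : Cfsg.IsInternalDirectProduct D₁ D₂ (S : Subgroup G))
    (hD₁ : ∃ m : ℕ, 2 ≤ m ∧ Nonempty (↥D₁ ≃* DihedralGroup m)) (hD₂ : ∃ m : ℕ, 2 ≤ m ∧ Nonempty (↥D₂ ≃* DihedralGroup m)) :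
    ∃ G₁ G₂ : Subgroup G, G₁.Normal ∧ G₂.Normal ∧ Cfsg.IsInternalDirectProduct G₁ G₂ ⊤ ∧
      ∃ S₁ S₂ : Subgroup G, Cfsg.IsInternalDirectProduct S₁ S₂ (S : Subgroup G) ∧
        (∃ m : ℕ, 2 ≤ m ∧ Nonempty (↥S₁ ≃* DihedralGroup m)) ∧ (∃ m : ℕ, 2 ≤ m ∧ Nonempty (↥S₂ ≃* DihedralGroup m)) ∧
        S₁ ≤ G₁ ∧ S₂ ≤ G₂ ∧ ¬ (2 ∣ (S₁.subgroupOf G₁).index) ∧ ¬ (2 ∣ (S₂.subgroupOf G₂).index) := by
  haveI : Fact (Nat.Prime 2) := ⟨Nat.prime_two⟩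
  obtain ⟨hD₁S, hD₂S, hc, hdisj, hgen⟩ := hD
  obtain ⟨m₁, hm₁, ⟨e₁⟩⟩ := hD₁
  obtain ⟨m₂, hm₂, ⟨e₂⟩⟩ := hD₂
  obtain ⟨d₁⟩ := CfsgLib.DihProduct.nonempty_dih (S.isPGroup'.to_le hD₁S) hm₁ e₁
  obtain ⟨d₂⟩ := CfsgLib.DihProduct.nonempty_dih (S.isPGroup'.to_le hD₂S) hm₂ e₂
  let σ : CfsgLib.DihProduct.Setting G := ⟨S, D₁, D₂, d₁, d₂, hD₁S, hD₂S, hc, hdisj, hgen⟩
  have main : ∀ τ : CfsgLib.DihProduct.Setting G, τ.P = S → 1 ≤ τ.d₁.k →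
      (∃ n, 2 ≤ n ∧ Nonempty (τ.D₁ ≃* DihedralGroup n)) →
      (∃ n, 2 ≤ n ∧ Nonempty (τ.D₂ ≃* DihedralGroup n)) →
      ∃ G₁ G₂ : Subgroup G, G₁.Normal ∧ G₂.Normal ∧ Cfsg.IsInternalDirectProduct G₁ G₂ ⊤ ∧
      ∃ S₁ S₂ : Subgroup G, Cfsg.IsInternalDirectProduct S₁ S₂ (S : Subgroup G) ∧
        (∃ m : ℕ, 2 ≤ m ∧ Nonempty (↥S₁ ≃* DihedralGroup m)) ∧
        (∃ m : ℕ, 2 ≤ m ∧ Nonempty (↥S₂ ≃* DihedralGroup m)) ∧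
        S₁ ≤ G₁ ∧ S₂ ≤ G₂ ∧ ¬ (2 ∣ (S₁.subgroupOf G₁).index) ∧ ¬ (2 ∣ (S₂.subgroupOf G₂).index) := by
    rintro τ rfl hk ⟨n₁, hn₁, ⟨f₁⟩⟩ ⟨n₂, hn₂, ⟨f₂⟩⟩
    have hP := τ.P_le_prod hk h2
    obtain ⟨g₁⟩ := τ.nonempty_equiv (fun c hc => τ.exists_fst hk hP hc)
      (fun x hx hxD => τ.inter₂ hk h2 hx hxD)
    obtain ⟨g₂⟩ := τ.swap.nonempty_equiv (fun d hd => τ.exists_snd hk h2 hd)
      (fun x hx hxD => τ.inter₁ hk hP hx hxD)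
    have hprod : Cfsg.IsInternalDirectProduct τ.factor τ.swap.factor (τ.P : Subgroup G) :=
      ⟨τ.factor_le_P, τ.swap.factor_le_P, fun a ha b hb => τ.factors_comm ha hb,
        τ.factors_disjoint hk h2, le_antisymm (sup_le τ.factor_le_P τ.swap.factor_le_P) hP⟩
    obtain ⟨G₁, G₂, hG₁, hG₂, hG, R₁, R₂, hR, hR₁, hR₂, hR₁G, hR₂G, ho₁, ho₂⟩ :=
      Cfsg.Agent.S1172.result hO hidx τ.P hS τ.factor τ.swap.factor hprod n₁ n₂ hn₁ hn₂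
        (g₁.symm.trans f₁) (g₂.symm.trans f₂) τ.factor_strongly_closed τ.swap.factor_strongly_closed
    exact ⟨G₁, G₂, hG₁, hG₂, hG, R₁, R₂, hR, hR₁, hR₂, hR₁G, hR₂G,
      fun h => Nat.not_even_iff_odd.2 ho₁ (even_iff_two_dvd.2 h),
      fun h => Nat.not_even_iff_odd.2 ho₂ (even_iff_two_dvd.2 h)⟩
  by_cases hk₁ : 1 ≤ σ.d₁.k
  · exact main σ rfl hk₁ ⟨m₁, hm₁, ⟨e₁⟩⟩ ⟨m₂, hm₂, ⟨e₂⟩⟩
  refine main σ.swap rfl (Nat.one_le_iff_ne_zero.2 fun hk₂ => hS ⟨⟨?_⟩⟩) ⟨m₂, hm₂, ⟨e₂⟩⟩ ⟨m₁, hm₁, ⟨e₁⟩⟩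
  rintro ⟨x, hx⟩ ⟨y, hy⟩
  refine Subtype.ext ?_
  show x * y = y * x
  obtain ⟨a, ha, b, hb, rfl⟩ := σ.exists_mul hx
  obtain ⟨a', ha', b', hb', rfl⟩ := σ.exists_mul hy
  rw [σ.pair_mul ha' hb, σ.pair_mul ha hb', σ.d₁.comm_of_four (by omega) ha ha',
    σ.d₂.comm_of_four hk₂ hb hb']

end Cfsg.Agent.S3113
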