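import Cfsg.Statements.S3117
import Cfsg.Agent.Lib.InvChar.AnisotropicQuadratic
import Cfsg.Agent.Lib.PGroup.Critical

set_option autoImplicit false
open Cfsg

namespace Cfsg.Agent.S3117

open scoped Classical

/-- Restriction of automorphisms to an invariant subgroup. -/
def restrictAut {X : Type*} [Group X] (S : Subgroup X) (hS : ∀ (φ : MulAut X), ∀ x ∈ S, φ x ∈ S) :
    MulAut X →* MulAut S where
  toFun φ :=
    { toFun := fun s => ⟨φ (s : X), hS φ s s.2⟩
      invFun := fun s => ⟨φ⁻¹ (s : X), hS φ⁻¹ s s.2⟩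
      left_inv := fun s => Subtype.ext (φ.symm_apply_apply s)
      right_inv := fun s => Subtype.ext (φ.apply_symm_apply s)
      map_mul' := fun a b => Subtype.ext (map_mul φ (a : X) b) }
  map_one' := by ext; rfl
  map_mul' φ ψ := by ext; rfl

/-- An automorphism of odd order of a 2-group which is trivial on the involutions, where
`h ↦ h⁻¹ φ h` lands in a fixed abelian subgroup, is trivial. -/
theorem odd_trivial {H : Type*} [Group H] [Finite H] (hH : IsPGroup 2 H) (φ : MulAut H) (m : ℕ) (hm : Odd m)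
    (hφ : φ ^ m = 1) (hE : ∀ h : H, h * h = 1 → φ h = h) (hV : ∀ h : H, h⁻¹ * φ h ∈ Subgroup.center H) :
    φ = 1 := by
  have iter : ∀ h d : H, φ h = h * d → φ d = d → d ^ m = 1 := by
    intro h d hh hd
    have h1 : ∀ j : ℕ, (φ ^ j) h = h * d ^ j := by
      intro j
      induction j with
      | zero => simp
      | succ j ih => rw [pow_succ', MulAut.mul_apply, ih, map_mul, map_pow, hh, hd, mul_assoc, ← pow_succ']
    have := h1 m
    rw [hφ, MulAut.one_apply] at this
    exact left_eq_mul.1 this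
  have odd_one : ∀ d : H, d ^ m = 1 → d = 1 := by
    intro d hd
    obtain ⟨j, hj⟩ := hH d
    have : orderOf d ∣ Nat.gcd (2 ^ j) m := Nat.dvd_gcd (orderOf_dvd_of_pow_eq_one hj) (orderOf_dvd_of_pow_eq_one hd)
    rw [(Nat.coprime_two_left.2 hm).pow_left j, Nat.dvd_one] at this
    exact orderOf_eq_one_iff.1 this
  have hZ : ∀ j : ℕ, ∀ z ∈ Subgroup.center H, z ^ (2 ^ j) = 1 → φ z = z := by
    intro j
    induction j with
    | zero => intro z _ hz; rw [pow_zero, pow_one] at hz; simp [hz]
    | succ j ih =>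
      intro z hz hzj
      have hz2 : φ (z * z) = z * z := ih _ (mul_mem hz hz) (by rw [← pow_two, ← pow_mul, ← pow_succ']; exact hzj)
      have he : (z⁻¹ * φ z) * (z⁻¹ * φ z) = 1 := by
        rw [map_mul] at hz2
        have hc : ∀ g, g * z⁻¹ = z⁻¹ * g := Subgroup.mem_center_iff.1 (inv_mem hz)
        rw [mul_assoc, ← mul_assoc (φ z), hc (φ z), ← mul_assoc, ← mul_assoc, mul_assoc, hz2]
        group
      have hfix := hE _ he
      have hd := odd_one _ (iter z (z⁻¹ * φ z) (by group) hfix)
      exact (inv_mul_eq_one.1 hd).symm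
  ext h
  obtain ⟨j, hj⟩ := hH (h⁻¹ * φ h)
  have hd := odd_one _ (iter h (h⁻¹ * φ h) (by group) (hZ j _ (hV h) hj))
  exact (inv_mul_eq_one.1 hd).symm

theorem core {H : Type*} [Group H] [Finite H] (hH : IsPGroup 2 H)
    (hcard : Nat.card {h : H // h * h = 1} = 4) (hinv : ∀ h : H, h * h = 1 → h ∈ Subgroup.center H)
    (hsq : ∀ h : H, h * h ∈ Subgroup.center H) (hcomm : ∀ g h : H, g * h * g⁻¹ * h⁻¹ ∈ Subgroup.center H) :
    Group.IsSolvable (MulAut H) := by
  have : Finite (MulAut H) := Finite.of_injective (fun φ : MulAut H => (φ : H → H)) DFunLike.coe_injective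
  let Z := Subgroup.center H
  have hc : ∀ z ∈ Z, ∀ g : H, g * z = z * g := fun z hz => Subgroup.mem_center_iff.1 hz
  let : CommGroup Z := { (inferInstance : Group Z) with mul_comm := fun a b => Subtype.ext (hc b b.2 a) }
  let sq : Z →* Z := powMonoidHom 2
  let Q := Z ⧸ sq.range
  have := Fintype.ofFinite Q
  have := Fintype.ofFinite (H ⧸ Z)
  have hQ : Fintype.card Q = 4 := by
    rw [← Nat.card_eq_fintype_card]
    have h1 := Subgroup.card_mul_index sq.ker
    rw [Subgroup.index_ker] at h1
    have h2 := Subgroup.card_mul_index sq.range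
    rw [← h1, mul_comm] at h2
    rw [show Nat.card Q = sq.range.index from rfl,
      Nat.eq_of_mul_eq_mul_right Nat.card_pos h2, ← hcard]
    exact Nat.card_congr
      { toFun := fun z => ⟨(z.1 : H), by
          have := congrArg (fun z : Z => (z : H)) z.2
          simpa [sq, pow_two] using this⟩
        invFun := fun h => ⟨⟨h.1, hinv _ h.2⟩, Subtype.ext (by simpa [sq, pow_two] using h.2)⟩
        left_inv := fun z => rfl
        right_inv := fun h => rfl }
  have hQ2 : ∀ c : Q, c * c = 1 := by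
    intro c
    induction c using QuotientGroup.induction_on with
    | _ z => exact (QuotientGroup.eq_one_iff _).2 ⟨z, by simp [sq, pow_two]⟩
  let : CommGroup (H ⧸ Z) :=
    { (inferInstance : Group (H ⧸ Z)) with
      mul_comm := fun a b => by
        induction a using QuotientGroup.induction_on with | _ g => ?_
        induction b using QuotientGroup.induction_on with | _ h => ?_
        rw [← QuotientGroup.mk_mul, ← QuotientGroup.mk_mul, QuotientGroup.eq]
        have := hcomm h⁻¹ g⁻¹
        simpa [mul_assoc] using this }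
  have hV2 : ∀ v : H ⧸ Z, v * v = 1 := by
    intro v
    induction v using QuotientGroup.induction_on with
    | _ h => exact (QuotientGroup.eq_one_iff _).2 (hsq h)
  let q : H ⧸ Z → Q := Quotient.lift (fun h => QuotientGroup.mk ⟨h * h, hsq h⟩) (by
    intro g h (hgh : QuotientGroup.leftRel Z g h)
    rw [QuotientGroup.leftRel_apply] at hgh
    refine QuotientGroup.eq.2 ⟨⟨g⁻¹ * h, hgh⟩, Subtype.ext ?_⟩
    simp only [sq, powMonoidHom_apply, Subgroup.coe_pow, Subgroup.coe_mul, Subgroup.coe_inv, pow_two, mul_inv_rev]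
    have h1 := hc _ hgh g⁻¹
    calc g⁻¹ * h * (g⁻¹ * h) = (g⁻¹ * h * g⁻¹) * h := by group
      _ = g⁻¹ * g⁻¹ * (h * h) := by rw [← h1]; group)
  have hqmk : ∀ h : H, q (QuotientGroup.mk h) = QuotientGroup.mk (⟨h * h, hsq h⟩ : Z) := fun _ => rfl
  let cz : H → H → Z := fun g h => ⟨g⁻¹ * h * g * h⁻¹, by simpa using hcomm g⁻¹ h⟩
  have hqmul : ∀ g h : H, q (QuotientGroup.mk (g * h)) = q (QuotientGroup.mk g) * q (QuotientGroup.mk h) * QuotientGroup.mk (cz g h) := by
    intro g h
    rw [hqmk, hqmk, hqmk, ← QuotientGroup.mk_mul, ← QuotientGroup.mk_mul]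
    congr 1
    apply Subtype.ext
    show g * h * (g * h) = g * g * (h * h) * (g⁻¹ * h * g * h⁻¹)
    have h1 := hc _ (cz g h).2
    rw [show g⁻¹ * h * g * h⁻¹ = (cz g h : H) from rfl, mul_assoc (g * g), h1 (h * h)]
    simp only [cz]
    group
  have hczmul : ∀ g h k : H, cz g (h * k) = cz g h * cz g k := by
    intro g h k
    apply Subtype.ext
    show g⁻¹ * (h * k) * g * (h * k)⁻¹ = g⁻¹ * h * g * h⁻¹ * (g⁻¹ * k * g * k⁻¹)
    have h1 := hc _ (cz g k).2 h⁻¹
    rw [show g⁻¹ * h * g * h⁻¹ * (g⁻¹ * k * g * k⁻¹) = g⁻¹ * h * g * (h⁻¹ * (cz g k : H)) by simp only [cz]; group, h1]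
    simp only [cz]
    group
  let b : H ⧸ Z → H ⧸ Z → Q := fun u v => (q u * q v)⁻¹ * q (u * v)
  have hbmk : ∀ g h : H, b (QuotientGroup.mk g) (QuotientGroup.mk h) = QuotientGroup.mk (cz g h) := by
    intro g h
    show _⁻¹ * q (QuotientGroup.mk (g * h)) = _
    rw [hqmul, inv_mul_cancel_left]
  have hqb : ∀ u v, q (u * v) = q u * q v * b u v := fun u v => (mul_inv_cancel_left _ _).symm
  have hb : ∀ u v w, b u (v * w) = b u v * b u w := by
    intro u v w
    induction u using QuotientGroup.induction_on with | _ g => ?_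
    induction v using QuotientGroup.induction_on with | _ h => ?_
    induction w using QuotientGroup.induction_on with | _ k => ?_
    rw [← QuotientGroup.mk_mul, hbmk, hbmk, hbmk, hczmul, QuotientGroup.mk_mul]
  have hq : ∀ v, q v = 1 ↔ v = 1 := by
    intro v
    induction v using QuotientGroup.induction_on with | _ h => ?_
    constructor
    · intro hh
      rw [hqmk, QuotientGroup.eq_one_iff] at hh
      obtain ⟨z, hz⟩ := hh
      rw [QuotientGroup.eq_one_iff]
      have hz' : (z : H) * z = h * h := by simpa [sq, pow_two] using congrArg Subtype.val hz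
      have hinv' : h * (z : H)⁻¹ * (h * (z : H)⁻¹) = 1 := by
        rw [mul_assoc, ← mul_assoc _ h, ← hc _ (inv_mem z.2) h, mul_assoc, ← mul_assoc, ← hz']
        group
      have := Subgroup.mul_mem _ (hinv _ hinv') z.2
      simpa using this
    · intro hh
      rw [hh]
      exact (QuotientGroup.eq_one_iff _).2 ⟨1, Subtype.ext (by simp [sq])⟩
  -- the action on the quotient
  have hcharZ : ∀ (φ : MulAut H), ∀ z ∈ Z, φ z ∈ Z := fun φ z hz => by
    rw [Subgroup.mem_center_iff] at hz ⊢
    intro g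
    obtain ⟨g, rfl⟩ := φ.surjective g
    rw [← map_mul, ← map_mul, hz]
  have hmap : ∀ φ : MulAut H, Z.map φ.toMonoidHom = Z := fun φ => le_antisymm
    (Subgroup.map_le_iff_le_comap.2 fun z hz => hcharZ φ z hz)
    (fun z hz => ⟨φ⁻¹ z, hcharZ _ z hz, φ.apply_symm_apply z⟩)
  let toV : MulAut H →* MulAut (H ⧸ Z) :=
    { toFun := fun φ => QuotientGroup.congr Z Z φ (hmap φ)
      map_one' := MulEquiv.ext fun v => by induction v using QuotientGroup.induction_on; rfl
      map_mul' := fun φ ψ => MulEquiv.ext fun v => by induction v using QuotientGroup.induction_on; rfl }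
  let toE : MulAut H →* Equiv.Perm {h : H // h * h = 1} :=
    { toFun := fun φ => φ.toEquiv.subtypeEquiv fun h => by
        show h * h = 1 ↔ φ h * φ h = 1
        rw [← map_mul, map_eq_one_iff _ φ.injective]
      map_one' := by ext; rfl
      map_mul' := fun φ ψ => by ext; rfl }
  have hmapQ : ∀ φ : MulAut Z, sq.range.map φ.toMonoidHom = sq.range := fun φ => le_antisymm
    (by rintro _ ⟨_, ⟨z, rfl⟩, rfl⟩; exact ⟨φ z, by simp [sq]⟩)
    (by rintro _ ⟨z, rfl⟩; exact ⟨sq (φ⁻¹ z), ⟨_, rfl⟩, by simp [sq]⟩)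
  let toQ : MulAut H →* Equiv.Perm Q :=
    { toFun := fun φ => (QuotientGroup.congr sq.range sq.range (restrictAut Z hcharZ φ) (hmapQ _)).toEquiv
      map_one' := Equiv.ext fun v => by induction v using QuotientGroup.induction_on; rfl
      map_mul' := fun φ ψ => Equiv.ext fun v => by induction v using QuotientGroup.induction_on; rfl }
  let f := toE.prod toQ
  have := CfsgLib.InvCharSmall.isSolvable_perm_of_card_le_four (α := {h : H // h * h = 1}) hcard.le
  have := CfsgLib.InvCharSmall.isSolvable_perm_of_card_le_four (α := Q) (by rw [Nat.card_eq_fintype_card, hQ])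
  let g : f.ker →* MulAut (H ⧸ Z) := toV.comp f.ker.subtype
  have : FaithfulSMul g.range (H ⧸ Z) := ⟨fun h => Subtype.ext (MulEquiv.ext fun v => h v)⟩
  have : Group.IsSolvable g.range := by
    refine CfsgLib.InvCharQuad.isSolvable_isometry q b hQ hQ2 hqb hb hV2 hq ?_
    rintro ⟨_, φ, rfl⟩ v
    induction v using QuotientGroup.induction_on with | _ h => ?_
    have h1 : toQ (φ : MulAut H) = 1 := (Prod.ext_iff.1 φ.2).2
    have h2 := congrArg (fun e : Equiv.Perm Q => e (q (QuotientGroup.mk h))) h1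
    rw [hqmk] at h2
    show q (QuotientGroup.mk ((φ : MulAut H) h)) = _
    rw [hqmk, hqmk]
    refine Eq.trans ?_ h2
    show QuotientGroup.mk (⟨_, _⟩ : Z) = QuotientGroup.mk (restrictAut Z hcharZ (φ : MulAut H) ⟨h * h, _⟩)
    congr 1
    exact Subtype.ext (map_mul (φ : MulAut H) h h).symm
  have : Fact (Nat.Prime 2) := ⟨Nat.prime_two⟩
  have hker : IsPGroup 2 g.ker := by
    intro φ
    obtain ⟨a, m, hm, he⟩ := Nat.exists_eq_two_pow_mul_odd (orderOf_pos φ).ne'
    refine ⟨a, ?_⟩
    set ψ : g.ker := φ ^ 2 ^ a with hψd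
    have hψ : ψ ^ m = 1 := by rw [hψd, ← pow_mul, ← he, pow_orderOf_eq_one]
    have := odd_trivial hH ((ψ : f.ker) : MulAut H) m hm
      (by rw [← Subgroup.coe_pow, ← Subgroup.coe_pow, hψ]; rfl)
      (fun h hh => congrArg (fun e : Equiv.Perm {h : H // h * h = 1} => ((e ⟨h, hh⟩ : {h : H // h * h = 1}) : H))
        (Prod.ext_iff.1 (ψ : f.ker).2).1)
      (fun h => QuotientGroup.eq.1 (congrArg (fun e : MulAut (H ⧸ Z) => e (QuotientGroup.mk h)) ψ.2).symm)
    exact Subtype.ext (Subtype.ext this)
  have := CfsgLib.InvCharSmall.isSolvable_of_forall_orderOf 2 hker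
  have : Group.IsSolvable f.ker := Group.isSolvable_of_ker_le_range g.ker.subtype g.rangeRestrict (by simp)
  exact Group.isSolvable_of_ker_le_range f.ker.subtype f (by simp)

theorem main {X : Type*} [Group X] [Finite X] (h2 : IsPGroup 2 X) (h3 : Nat.card {x : X // orderOf x = 2} = 3) :
    Group.IsSolvable (MulAut X) := by
  have : Fact (Nat.Prime 2) := ⟨Nat.prime_two⟩
  have ho : ∀ x : X, orderOf x = 2 ↔ x * x = 1 ∧ x ≠ 1 := fun x => by
    rw [orderOf_eq_prime_iff, pow_two]
  have : Nontrivial X := by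
    obtain ⟨⟨⟨x, hx⟩⟩, -⟩ := Nat.card_pos_iff.1 (show 0 < Nat.card {x : X // orderOf x = 2} by omega)
    exact ⟨⟨x, 1, ((ho x).1 hx).2⟩⟩
  have := h2.center_nontrivial
  obtain ⟨z, hz⟩ : ∃ z : Subgroup.center X, orderOf z = 2 := exists_prime_orderOf_dvd_card' 2
    ((h2.to_subgroup _).card_eq_or_dvd.resolve_left (by have := Finite.one_lt_card (α := Subgroup.center X); omega))
  have hz' : orderOf (z : X) = 2 := by rw [Subgroup.orderOf_coe]; exact hz
  obtain ⟨hzz, hz1⟩ := (ho _).1 hz'
  have hzc : ∀ g : X, g * (z : X) = z * g := Subgroup.mem_center_iff.1 z.2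
  -- all involutions commute
  have hcomm : ∀ a b : X, a * a = 1 → b * b = 1 → a * b = b * a := by
    intro a b ha hb
    by_cases ha1 : a = 1
    · simp [ha1]
    by_cases hb1 : b = 1
    · simp [hb1]
    by_cases haz : a = z
    · rw [haz, hzc]
    by_cases hbz : b = z
    · rw [hbz, hzc]
    by_cases hab : a = b
    · rw [hab]
    suffices b = a * z by rw [this, mul_assoc a (z : X) a, ← hzc a]
    by_contra hne
    have haz2 : a * z * (a * z) = 1 := by
      rw [mul_assoc, ← mul_assoc (z : X), ← hzc a, mul_assoc, hzz, mul_one, ha]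
    have haz1 : a * z ≠ 1 := fun e => haz (by
      rw [← inv_eq_of_mul_eq_one_left e, inv_eq_of_mul_eq_one_right hzz])
    have := Fintype.ofFinite X
    have hsub : ({(z : X), a, b, a * z} : Finset X) ⊆ Finset.univ.filter (fun x => orderOf x = 2) := by
      intro x hx
      simp only [Finset.mem_insert, Finset.mem_singleton] at hx
      rw [Finset.mem_filter, ho]
      refine ⟨Finset.mem_univ _, ?_⟩
      rcases hx with rfl | rfl | rfl | rfl
      exacts [⟨hzz, hz1⟩, ⟨ha, ha1⟩, ⟨hb, hb1⟩, ⟨haz2, haz1⟩]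
    have hle := Finset.card_le_card hsub
    rw [← Fintype.card_subtype, ← Nat.card_eq_fintype_card, h3, Finset.card_insert_of_notMem,
      Finset.card_insert_of_notMem, Finset.card_insert_of_notMem, Finset.card_singleton] at hle
    · omega
    · simpa using hne
    · simp only [Finset.mem_insert, Finset.mem_singleton, not_or]
      exact ⟨hab, fun e => hz1 (left_eq_mul.1 e)⟩
    · simp only [Finset.mem_insert, Finset.mem_singleton, not_or]
      exact ⟨Ne.symm haz, Ne.symm hbz, fun e => ha1 (by simpa using e)⟩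
  have hfour : Nat.card {x : X // x * x = 1} = 4 := by
    have := Fintype.ofFinite X
    rw [Nat.card_eq_fintype_card, Fintype.card_subtype]
    rw [Nat.card_eq_fintype_card, Fintype.card_subtype] at h3
    have : Finset.univ.filter (fun x : X => x * x = 1) = insert 1 (Finset.univ.filter fun x : X => orderOf x = 2) := by
      ext x; simp only [Finset.mem_filter, Finset.mem_univ, true_and, Finset.mem_insert, ho]
      by_cases hx : x = 1 <;> simp [hx]
    rw [this, Finset.card_insert_of_notMem (by simp), h3]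
  let Y := Subgroup.centralizer {x : X | x * x = 1}
  have hEY : ∀ x : X, x * x = 1 → x ∈ Y := fun x hx y hy => hcomm y x hy hx
  have hY : ∀ (φ : MulAut X), ∀ x ∈ Y, φ x ∈ Y := by
    intro φ x hx y hy
    obtain ⟨y, rfl⟩ := φ.surjective y
    rw [← map_mul, ← map_mul, hx y]
    have : φ (y * y) = φ 1 := by rw [map_mul, map_one]; exact hy
    exact φ.injective this
  obtain ⟨H, hHc, hCH, hHcomm, hHsq⟩ := CfsgLib.PGroup.exists_critical (p := 2) (h2.to_subgroup Y)
  have hHY : ∀ (φ : MulAut Y), ∀ x ∈ H, φ x ∈ H := fun φ x hx =>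
    (Subgroup.characteristic_iff_le_comap.1 hHc φ) hx
  have hEcen : ∀ y : Y, (y : X) * y = 1 → ∀ g : Y, g * y = y * g := fun y hy g =>
    Subtype.ext (g.2 y hy).symm
  have hEH : ∀ y : Y, (y : X) * y = 1 → y ∈ H := fun y hy => hCH fun h _ => hEcen y hy h
  have hsolH : Group.IsSolvable (MulAut H) := by
    refine core ((h2.to_subgroup Y).to_subgroup H) ?_ ?_ ?_ ?_
    · rw [← hfour]
      exact Nat.card_congr
        { toFun := fun h => ⟨((h.1 : Y) : X), congrArg (fun h : H => ((h : Y) : X)) h.2⟩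
          invFun := fun x => ⟨⟨⟨x.1, hEY _ x.2⟩, hEH _ x.2⟩, Subtype.ext (Subtype.ext x.2)⟩
          left_inv := fun h => rfl
          right_inv := fun x => rfl }
    · intro h hh
      rw [Subgroup.mem_center_iff]
      exact fun g => Subtype.ext (hEcen h (congrArg (fun h : H => ((h : Y) : X)) hh) g)
    · intro h
      rw [Subgroup.mem_center_iff]
      intro g
      have h1 := (hHsq h h.2).2 g g.2
      rw [pow_two] at h1
      exact Subtype.ext h1
    · intro g h
      rw [Subgroup.mem_center_iff]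
      intro k
      have h1 := (hHcomm g h h.2).2 k k.2
      rw [commutatorElement_def] at h1
      exact Subtype.ext h1
  let r : MulAut X →* MulAut H := (restrictAut H hHY).comp (restrictAut Y hY)
  have : Group.IsSolvable r.ker := by
    apply Group.isSolvable_of_comm
    intro φ ψ
    have hfixH : ∀ (φ : r.ker) (y : Y), y ∈ H → (φ : MulAut X) y = y := fun φ y hy =>
      congrArg (fun e : MulAut H => (((e ⟨y, hy⟩ : H) : Y) : X)) φ.2
    -- displacements lie in the centre of `H`
    have hd : ∀ (φ : r.ker) (g : X), ∃ y : Y, y ∈ H ∧ (∀ k : Y, k ∈ H → k * y = y * k) ∧ (φ : MulAut X) g = g * y := by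
      intro φ g
      have hcen : ∀ k : Y, k ∈ H → (k : X) * (g⁻¹ * (φ : MulAut X) g) = g⁻¹ * (φ : MulAut X) g * k := by
        intro k hk
        have hgk : g * k * g⁻¹ ∈ Y := by
          simpa using hY (MulAut.conj g) k k.2
        have hgkH : (⟨g * k * g⁻¹, hgk⟩ : Y) ∈ H := by
          have := hHY (restrictAut Y hY (MulAut.conj g)) k hk
          have e : (⟨g * k * g⁻¹, hgk⟩ : Y) = restrictAut Y hY (MulAut.conj g) k :=
            Subtype.ext (MulAut.conj_apply g (k : X)).symm
          rw [e]; exact this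
        have h1 := hfixH φ _ hgkH
        simp only [map_mul, map_inv, hfixH φ k hk] at h1
        have h1' : (φ : MulAut X) g * k = g * k * g⁻¹ * (φ : MulAut X) g := by
          rw [← h1]; group
        calc (k : X) * (g⁻¹ * (φ : MulAut X) g) = g⁻¹ * (g * k * g⁻¹ * (φ : MulAut X) g) := by group
          _ = _ := by rw [← h1']; group
      have hdY : g⁻¹ * (φ : MulAut X) g ∈ Y := fun x hx => hcen ⟨x, hEY x hx⟩ (hEH _ hx)
      refine ⟨⟨_, hdY⟩, hCH fun k hk => Subtype.ext (hcen k hk), fun k hk => Subtype.ext (hcen k hk), by group⟩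
    apply Subtype.ext
    ext g
    obtain ⟨a, ha, hac, hφ⟩ := hd φ g
    obtain ⟨b, hb, hbc, hψ⟩ := hd ψ g
    show (φ : MulAut X) ((ψ : MulAut X) g) = (ψ : MulAut X) ((φ : MulAut X) g)
    rw [hφ, hψ, map_mul, map_mul, hfixH φ b hb, hfixH ψ a ha, hφ, hψ, mul_assoc, mul_assoc,
      ← Subgroup.coe_mul, ← Subgroup.coe_mul, hbc a ha]
  exact Group.isSolvable_of_ker_le_range r.ker.subtype r (by simp)

/-- If X is a finite 2-group containing exactly three involutions, then the automorphism group of X is solvable. -/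
theorem result {X : Type*} [Group X] [Finite X] (h2 : IsPGroup 2 X) (h3 : Nat.card {x : X // orderOf x = 2} = 3) : Group.IsSolvable (MulAut X) := by
  exact main h2 h3

end Cfsg.Agent.S3117
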