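import Cfsg.Statements.S3147
import Cfsg.Agent.Lib.Recognition.TwoTimesSym.KleinAssembly
import Cfsg.Agent.Lib.Recognition.TwoTimesSym.PairCard
import Cfsg.Agent.Lib.Recognition.TwoTimesSym.Seven

set_option autoImplicit false
open Cfsg

namespace Cfsg.Agent.S3147

/-- Let G be a finite group of even order with an involution t whose centralizer is isomorphic to the direct product of a group of order 2 and the symmetric group of degree 7. Then G has a subgroup of index 2. -/
theorem result {G : Type*} [Group G] [Finite G] (hG : Even (Nat.card G)) (t : G) (ht : orderOf t = 2)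
    (hC : Nonempty (↥(Subgroup.centralizer ({t} : Set G)) ≃* Multiplicative (ZMod 2) × Equiv.Perm (Fin 7))) :
    ∃ H : Subgroup G, H.index = 2 := by
  classical
  by_contra hno
  have hN : CfsgLib.TwoTimesSym.NoIndexTwo G := fun H hH => hno ⟨H, hH⟩
  obtain ⟨φ⟩ := hC
  obtain ⟨e⟩ := CfsgLib.TwoTimesSym.exists_emb ht (by norm_num) φ
  obtain ⟨e', F, h⟩ := e.four hN CfsgLib.TwoTimesSym.Seven.facts
    CfsgLib.TwoTimesSym.Seven.half CfsgLib.TwoTimesSym.Seven.half'
    (by decide +kernel) (by decide +kernel) (by decide +kernel)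
  refine F.not_four_of_ne hN h ?_
  simp only [← map_mul]
  rw [e'.card_pair, e'.card_pair, CfsgLib.TwoTimesSym.Seven.card_lists.1,
    CfsgLib.TwoTimesSym.Seven.card_lists.2]
  norm_num

end Cfsg.Agent.S3147
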