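import Cfsg.Statements.S3153
import Cfsg.Agent.Lib.Components.Basic
import Cfsg.Agent.Lib.Components.PComponent
import Cfsg.Agent.Lib.RankOneInvol.OddGroup
import Cfsg.Agent.Lib.PCore.Basic

set_option autoImplicit false
open Cfsg

namespace Cfsg.Agent.S3153

open Subgroup
open scoped commutatorElement

/-- A quasisimple subgroup centralises the odd core when it contains an involution `p` with
`p` or `t * p` centralising it, `t` in its centralizer. -/
theorem le_centralizer_of_involution {X : Type*} [Group X] (P O : Subgroup X) [O.Normal]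
    (hq : Cfsg.IsQuasisimple P) (t p : X) (htP : t ∈ centralizer (P : Set X)) (hp : p ∈ P)
    (hpZ : p ∉ centralizer (P : Set X)) (he : p ∈ centralizer (O : Set X) ∨ t * p ∈ centralizer (O : Set X)) :
    P ≤ centralizer (O : Set X) := by
  set K := centralizer (O : Set X) with hK
  have hKn : K.Normal := inferInstance
  by_cases hx : ∃ x ∈ P, x ∈ K ∧ x ∉ centralizer (P : Set X)
  · obtain ⟨x, hxP, hxK, hxc⟩ := hx
    have : (K.subgroupOf P).Normal := hKn.subgroupOf P
    rcases CfsgLib.Components.quasisimple_normal_eq_top_or_le_center hq (K.subgroupOf P) with h | h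
    · exact subgroupOf_eq_top.1 h
    · refine absurd (fun y hy => ?_) hxc
      exact congrArg Subtype.val (mem_center_iff.1 (h (show (⟨x, hxP⟩ : P) ∈ K.subgroupOf P from hxK)) ⟨y, hy⟩)
  exfalso
  push Not at hx
  rcases he with he | he
  · exact hpZ (hx p hp he)
  -- `y ↦ ⁅p, y⁆` is a homomorphism into the centre
  have hcomm : ∀ y ∈ P, ⁅p, y⁆ ∈ centralizer (P : Set X) := by
    intro y hy
    refine hx _ (mul_mem (mul_mem (mul_mem hp hy) (inv_mem hp)) (inv_mem hy)) ?_
    have h1 : ⁅t * p, y⁆ ∈ K := by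
      rw [commutatorElement_def, show t * p * y * (t * p)⁻¹ * y⁻¹ = t * p * (y * (t * p)⁻¹ * y⁻¹) by group]
      exact mul_mem he (hKn.conj_mem _ (inv_mem he) y)
    have h2 : ⁅t * p, y⁆ = ⁅p, y⁆ := by
      have hmem : p * y * p⁻¹ ∈ P := mul_mem (mul_mem hp hy) (inv_mem hp)
      have h := mem_centralizer_iff.1 htP _ hmem
      rw [commutatorElement_def, commutatorElement_def]
      calc t * p * y * (t * p)⁻¹ * y⁻¹ = t * (p * y * p⁻¹) * t⁻¹ * y⁻¹ := by group
        _ = (p * y * p⁻¹) * t * t⁻¹ * y⁻¹ := by rw [h]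
        _ = p * y * p⁻¹ * y⁻¹ := by group
    rwa [h2] at h1
  apply hpZ
  have hzc : ∀ y ∈ P, ∀ w ∈ P, ⁅p, y⁆ * w = w * ⁅p, y⁆ := fun y hy w hw => (mem_centralizer_iff.1 (hcomm y hy) w hw).symm
  let φ : P →* center P := MonoidHom.mk'
    (fun y => ⟨⟨⁅p, (y : X)⁆, mul_mem (mul_mem (mul_mem hp y.2) (inv_mem hp)) (inv_mem y.2)⟩,
      mem_center_iff.2 fun w => Subtype.ext (hzc y y.2 w w.2).symm⟩)
    (fun y z => by
      refine Subtype.ext (Subtype.ext ?_)
      show ⁅p, (y : X) * z⁆ = ⁅p, (y : X)⁆ * ⁅p, (z : X)⁆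
      have h := hzc z z.2 y⁻¹ (inv_mem y.2)
      calc ⁅p, (y : X) * z⁆ = p * y * p⁻¹ * (⁅p, (z : X)⁆ * (y : X)⁻¹) := by rw [commutatorElement_def, commutatorElement_def]; group
        _ = p * y * p⁻¹ * ((y : X)⁻¹ * ⁅p, (z : X)⁆) := by rw [h]
        _ = ⁅p, (y : X)⁆ * ⁅p, (z : X)⁆ := by rw [commutatorElement_def, commutatorElement_def]; group)
  intro y hy
  have hker : φ.ker = ⊤ := by
    rw [eq_top_iff, ← CfsgLib.Components.quasisimple_commutator_eq_top hq, _root_.commutator_def,
      Subgroup.commutator_le]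
    intro a _ b _
    rw [MonoidHom.mem_ker, map_commutatorElement, commutatorElement_eq_one_iff_commute]
    exact Subtype.ext (mem_center_iff.1 (φ b).2 _)
  have h := congrArg (fun z : center P => ((z : P) : X)) (MonoidHom.mem_ker.1 (show (⟨y, hy⟩ : P) ∈ φ.ker by rw [hker]; exact Subgroup.mem_top _))
  have h' : ⁅p, y⁆ = 1 := h
  exact (commutatorElement_eq_one_iff_mul_comm.1 h').symm

/-- Let X be a finite group and P a standard subgroup of X whose centralizer has 2-rank at most 1 and whose centre has odd order. Let S be a Sylow 2-subgroup of N_X(P) and t an involution of S centralizing P. Suppose some element g of X normalizes S, does not lie in S, has its square in S, and conjugates t into P·C_X(P). Then P commutes elementwise with the largest normal odd-order subgroup O(X) of X; consequently every t-invariant 2-component of X containing P is quasisimple. -/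
theorem result {X : Type*} [Group X] [Finite X] (P : Subgroup X) (hP : Cfsg.IsStandardSubgroup P)
    (hr : Cfsg.PRankLE 2 1 ↥(Subgroup.centralizer (P : Set X))) (hZ : Odd (Nat.card ↥(Subgroup.center ↥P)))
    (S : Sylow 2 ↥(Subgroup.normalizer (P : Set X))) (t : X) (ht : orderOf t = 2) (htS : t ∈ (S : Subgroup ↥(Subgroup.normalizer (P : Set X))).map (Subgroup.normalizer (P : Set X)).subtype)
    (htP : t ∈ Subgroup.centralizer (P : Set X))
    (g : X) (hgN : ∀ s ∈ (S : Subgroup ↥(Subgroup.normalizer (P : Set X))).map (Subgroup.normalizer (P : Set X)).subtype, g * s * g⁻¹ ∈ (S : Subgroup ↥(Subgroup.normalizer (P : Set X))).map (Subgroup.normalizer (P : Set X)).subtype)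
    (hgS : g ∉ (S : Subgroup ↥(Subgroup.normalizer (P : Set X))).map (Subgroup.normalizer (P : Set X)).subtype) (hg2 : g ^ 2 ∈ (S : Subgroup ↥(Subgroup.normalizer (P : Set X))).map (Subgroup.normalizer (P : Set X)).subtype)
    (hgt : g * t * g⁻¹ ∈ P ⊔ Subgroup.centralizer (P : Set X)) :
    ⁅P, Cfsg.oddCore X⁆ = ⊥ ∧
      ∀ L : Subgroup X, Cfsg.IsPComponent 2 L → P ≤ L → (∀ l ∈ L, t * l * t⁻¹ ∈ L) → Cfsg.IsQuasisimple ↥L := by
  obtain ⟨hqs, ⟨-, htight⟩, -, hnorm⟩ := hP
  have : Fact (Nat.Prime 2) := ⟨Nat.prime_two⟩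
  have hperf : ⁅P, P⁆ = P := Subgroup.isPerfect_iff.mp hqs.1
  let N := Subgroup.normalizer (P : Set X)
  let C := Subgroup.centralizer (P : Set X)
  let T := (S : Subgroup ↥N).map N.subtype
  have htt : t * t = 1 := by rw [← pow_two, ← ht, pow_orderOf_eq_one]
  have hti : t⁻¹ = t := inv_eq_of_mul_eq_one_right htt
  have hTN : T ≤ N := map_subtype_le _
  have hT2 : IsPGroup 2 T := S.2.map _
  -- commuting involutions of `C` are equal
  have huniq : ∀ x y : X, x ∈ C → y ∈ C → orderOf x = 2 → y * y = 1 → x * y = y * x → y = 1 ∨ y = x := by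
    intro x y hx hy ox hyy hxy
    by_contra! hne
    have hxx : x * x = 1 := by rw [← pow_two, ← ox, pow_orderOf_eq_one]
    let A : Subgroup C := Subgroup.closure ({⟨x, hx⟩, ⟨y, hy⟩} : Set C)
    have hAc : A ≤ centralizer (({⟨x, hx⟩, ⟨y, hy⟩} : Set C)) := by
      refine (Subgroup.closure_le _).2 ?_
      rintro z hz w hw
      simp only [Set.mem_insert_iff, Set.mem_singleton_iff] at hz hw
      rcases hz with rfl | rfl <;> rcases hw with rfl | rfl <;> first | rfl | exact Subtype.ext hxy | exact Subtype.ext hxy.symm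
    have hAA : ∀ a ∈ A, ∀ b ∈ A, a * b = b * a := by
      have h' : A ≤ centralizer (A : Set C) := (Subgroup.closure_le _).2 fun v hv u hu => (hAc hu v hv).symm
      exact fun a ha b hb => (h' ha b hb).symm
    have hA2 : ∀ a ∈ A, a ^ 2 = 1 := by
      intro a ha
      induction ha using Subgroup.closure_induction with
      | mem z hz =>
        simp only [Set.mem_insert_iff, Set.mem_singleton_iff] at hz
        rcases hz with rfl | rfl
        · exact Subtype.ext (by rw [pow_two]; exact hxx)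
        · exact Subtype.ext (by rw [pow_two]; exact hyy)
      | one => simp
      | mul z w hz hw ihz ihw =>
        rw [(show Commute z w from hAA z hz w hw).mul_pow, ihz, ihw, one_mul]
      | inv z hz ihz => rw [inv_pow, ihz, inv_one]
    have hcard := hr A ⟨⟨fun a b => Subtype.ext (hAA a a.2 b b.2)⟩⟩ hA2
    classical
    have := Fintype.ofFinite A
    have h3 : ({1, ⟨⟨x, hx⟩, subset_closure (Or.inl rfl)⟩, ⟨⟨y, hy⟩, subset_closure (Or.inr rfl)⟩} : Finset A).card = 3 := by
      have hx1 : x ≠ 1 := fun e => by rw [e, orderOf_one] at ox; omega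
      rw [Finset.card_insert_of_notMem, Finset.card_pair]
      · simp [Subtype.ext_iff, hne.2.symm]
      · simp [Subtype.ext_iff, hx1.symm, hne.1.symm]
    have := Finset.card_le_univ ({1, ⟨⟨x, hx⟩, subset_closure (Or.inl rfl)⟩, ⟨⟨y, hy⟩, subset_closure (Or.inr rfl)⟩} : Finset A)
    rw [h3, ← Nat.card_eq_fintype_card] at this
    exact absurd (this.trans hcard) (by norm_num)
  -- `C(t) ≤ N`
  have hCN : ∀ u : X, u * t = t * u → u ∈ N := by
    intro u hu
    show u ∈ Subgroup.normalizer (P : Set X)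
    rw [hnorm]
    by_contra huN
    have hmem : t ∈ C ⊓ C.map (MulAut.conj u).toMonoidHom :=
      ⟨htP, ⟨t, htP, by simp [MulAut.conj_apply, hu]⟩⟩
    have h1 := Subgroup.orderOf_dvd_natCard _ hmem
    rw [ht] at h1
    exact Nat.not_even_iff_odd.2 (htight u huN) (even_iff_two_dvd.2 h1)
  have hNC : ∀ u ∈ N, ∀ c ∈ C, u * c * u⁻¹ ∈ C := fun u hu c hc => by
    have hu' : u ∈ Subgroup.normalizer (C : Set X) := hnorm ▸ hu
    exact (mem_normalizer_iff.1 hu' c).1 hc
  -- `g ∉ N`
  have hgN' : g ∉ N := by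
    intro hg
    apply hgS
    let g' : N := ⟨g, hg⟩
    have hg'2 : g' ^ 2 ∈ (S : Subgroup N) := by
      obtain ⟨s, hs, he⟩ := Subgroup.mem_map.1 hg2
      have : s = g' ^ 2 := Subtype.ext he
      exact this ▸ hs
    have hZ2 : IsPGroup 2 (Subgroup.zpowers g') := by
      obtain ⟨k, hk⟩ := S.2 ⟨g' ^ 2, hg'2⟩
      have hk' : g' ^ 2 ^ (k + 1) = 1 := by
        rw [pow_succ', pow_mul]
        exact congrArg Subtype.val hk
      obtain ⟨i, -, hi⟩ := (Nat.dvd_prime_pow Nat.prime_two).1 (orderOf_dvd_of_pow_eq_one hk')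
      exact IsPGroup.of_card (n := i) (by rw [Nat.card_zpowers, hi])
    have hle : Subgroup.zpowers g' ≤ Subgroup.normalizer ((S : Subgroup N) : Set N) := by
      rw [zpowers_le]
      refine Subgroup.mem_normalizer_fintype fun s hs => ?_
      obtain ⟨s', hs', he⟩ := Subgroup.mem_map.1 (hgN _ (Subgroup.mem_map_of_mem N.subtype hs))
      have : s' = g' * s * g'⁻¹ := Subtype.ext he
      exact this ▸ hs'
    have h := S.3 (hZ2.to_sup_of_normal_right' S.2 hle) le_sup_right
    exact ⟨g', h ▸ (le_sup_left : Subgroup.zpowers g' ≤ _) (Subgroup.mem_zpowers g'), rfl⟩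
  -- `t` is central in `T`
  have htc : ∀ s ∈ T, s * t = t * s := by
    have hD2 : IsPGroup 2 ↥(T ⊓ C) := hT2.to_le inf_le_left
    have : Nontrivial ↥(T ⊓ C) := by
      refine ⟨⟨⟨t, htS, htP⟩, 1, fun e => ?_⟩⟩
      have : t = 1 := congrArg Subtype.val e
      rw [this, orderOf_one] at ht; omega
    have := hD2.center_nontrivial
    obtain ⟨z, hz⟩ : ∃ z : ↥(center ↥(T ⊓ C)), orderOf z = 2 :=
      exists_prime_orderOf_dvd_card' 2 (by
        obtain ⟨k, hk⟩ := IsPGroup.iff_card.1 (hD2.to_subgroup (center ↥(T ⊓ C)))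
        have h1 := Finite.one_lt_card_iff_nontrivial.2 this
        rw [hk] at h1 ⊢
        rcases k with _ | k
        · simp at h1
        · exact dvd_pow_self 2 k.succ_ne_zero)
    set z' : X := ((z : ↥(T ⊓ C)) : X)
    have hz2 : orderOf z' = 2 := by rw [Subgroup.orderOf_coe, Subgroup.orderOf_coe, hz]
    have hall : ∀ u ∈ T, u ∈ C → orderOf u = 2 → u = z' := by
      intro u hu hu' ou
      have hcm : z' * u = u * z' := congrArg Subtype.val (mem_center_iff.1 z.2 ⟨u, hu, hu'⟩).symm
      exact (huniq z' u (z : ↥(T ⊓ C)).2.2 hu' hz2 (by rw [← pow_two, ← ou, pow_orderOf_eq_one]) hcm).resolve_left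
        (fun e => by rw [e, orderOf_one] at ou; omega)
    intro s hs
    have h1 : s * t * s⁻¹ = t := by
      rw [hall _ (mul_mem (mul_mem hs htS) (inv_mem hs)) (hNC s (hTN hs) t htP)
        (by rw [← MulAut.conj_apply, MulEquiv.orderOf_eq, ht]), hall t htS htP ht]
    calc s * t = s * t * s⁻¹ * s := by group
      _ = t * s := by rw [h1]
  -- the conjugate
  set u := g * t * g⁻¹ with hu
  have huT : u ∈ T := hgN t htS
  have huu : u * u = 1 := by rw [hu, show g * t * g⁻¹ * (g * t * g⁻¹) = g * (t * t) * g⁻¹ by group, htt]; group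
  have hut : u * t = t * u := htc u huT
  have hu1 : u ≠ 1 := fun e => by
    have : t = 1 := by
      calc t = g⁻¹ * u * g := by rw [hu]; group
        _ = 1 := by rw [e]; group
    rw [this, orderOf_one] at ht; omega
  have hune : u ≠ t := fun e => hgN' (hCN g (by
    calc g * t = u * g := by rw [hu]; group
      _ = t * g := by rw [e]))
  have hPC : ∀ p ∈ P, ∀ c ∈ C, p * c = c * p := fun p hp c hc => mem_centralizer_iff.1 hc p hp
  obtain ⟨p₀, hp₀, c₀, hc₀, huPC⟩ : ∃ p ∈ P, ∃ c ∈ C, u = p * c := by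
    let M : Subgroup X :=
      { carrier := {x | ∃ p ∈ P, ∃ c ∈ C, x = p * c}
        one_mem' := ⟨1, one_mem _, 1, one_mem _, (one_mul 1).symm⟩
        mul_mem' := by
          rintro _ _ ⟨p, hp, c, hc, rfl⟩ ⟨p', hp', c', hc', rfl⟩
          refine ⟨p * p', mul_mem hp hp', c * c', mul_mem hc hc', ?_⟩
          rw [mul_assoc p c, ← mul_assoc c, ← hPC p' hp' c hc]; group
        inv_mem' := by
          rintro _ ⟨p, hp, c, hc, rfl⟩
          exact ⟨p⁻¹, inv_mem hp, c⁻¹, inv_mem hc, by rw [mul_inv_rev, hPC p⁻¹ (inv_mem hp) c⁻¹ (inv_mem hc)]⟩ }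
    have hle : P ⊔ C ≤ M := sup_le (fun p hp => ⟨p, hp, 1, one_mem _, (mul_one p).symm⟩)
      (fun c hc => ⟨1, one_mem _, c, hc, (one_mul c).symm⟩)
    exact hle hgt
  have hpc₀ : Commute p₀ c₀ := hPC p₀ hp₀ c₀ hc₀
  have hsq : p₀ * p₀ = (c₀ * c₀)⁻¹ := by
    apply eq_inv_of_mul_eq_one_left
    rw [← huu, huPC]
    calc p₀ * p₀ * (c₀ * c₀) = p₀ * (p₀ * c₀) * c₀ := by group
      _ = p₀ * (c₀ * p₀) * c₀ := by rw [hpc₀.eq]
      _ = p₀ * c₀ * (p₀ * c₀) := by group
  set m := orderOf (p₀ * p₀) with hm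
  have hcent : ∀ x ∈ P, x ∈ C → Odd (orderOf x) := by
    intro x hx hxC
    refine hZ.of_dvd_nat ?_
    have hx' : (⟨x, hx⟩ : P) ∈ center P := mem_center_iff.2 fun w => Subtype.ext (hPC w w.2 x hxC)
    have h := Subgroup.orderOf_dvd_natCard _ hx'
    rwa [← Subgroup.orderOf_coe] at h
  have hmodd : Odd m := hcent _ (mul_mem hp₀ hp₀) (hsq ▸ inv_mem (mul_mem hc₀ hc₀))
  have hum : u ^ m = u := by
    obtain ⟨j, hj⟩ := hmodd
    rw [hj, pow_succ, pow_mul, pow_two, huu, one_pow, one_mul]
  set p := p₀ ^ m with hpdef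
  set c := c₀ ^ m with hcdef
  have hpP : p ∈ P := pow_mem hp₀ m
  have hcC : c ∈ C := pow_mem hc₀ m
  have hupc : u = p * c := by rw [← hum, huPC, hpc₀.mul_pow]
  have hpp : p * p = 1 := by rw [hpdef, ← (Commute.refl p₀).mul_pow, hm, pow_orderOf_eq_one]
  have hcc : c * c = 1 := by
    have hpi : p⁻¹ = p := inv_eq_of_mul_eq_one_right hpp
    have hcu : c = p * u := by rw [hupc, ← mul_assoc, hpp, one_mul]
    calc c * c = c * (p * u) := by rw [← hcu]
      _ = (c * p) * u := by group
      _ = (p * c) * u := by rw [hPC p hpP c hcC]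
      _ = 1 := by rw [← hupc, huu]
  have hct : t * c = c * t := by
    have hpt := hPC p hpP t htP
    have hcu : c = p * u := by rw [hupc, ← mul_assoc, hpp, one_mul]
    rw [hcu, ← mul_assoc, ← hpt, mul_assoc, ← hut, ← mul_assoc]
  have hcases : c = 1 ∨ c = t := huniq t c htP hcC ht hcc hct
  have hp1 : p ≠ 1 := fun e => by
    rw [e, one_mul] at hupc
    rcases hcases with h | h
    · exact hu1 (hupc.trans h)
    · exact hune (hupc.trans h)
  have op : orderOf p = 2 := orderOf_eq_prime (by rw [pow_two]; exact hpp) hp1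
  have hpZ : p ∉ C := fun h => by
    have := hcent p hpP h
    rw [op] at this
    exact absurd this (by decide)
  -- the odd core
  set O := Cfsg.oddCore X with hO
  have hOn : O.Normal := by
    rw [hO, Cfsg.oddCore]; infer_instance
  have hOodd : Odd (Nat.card O) := Nat.coprime_two_left.1 CfsgLib.PCore.pPrimeCore_coprime.symm
  have hOP : ∀ x ∈ P, x ∈ O → x ∈ C := by
    intro x hx hxO
    have : (O.subgroupOf P).Normal := hOn.subgroupOf P
    rcases CfsgLib.Components.quasisimple_normal_eq_top_or_le_center hqs (O.subgroupOf P) with h | h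
    · exfalso
      have := hOodd.of_dvd_nat (Subgroup.orderOf_dvd_natCard _ (subgroupOf_eq_top.1 h hpP))
      rw [op] at this
      exact absurd this (by decide)
    · exact fun y hy => congrArg Subtype.val (mem_center_iff.1 (h (show (⟨x, hx⟩ : P) ∈ O.subgroupOf P from hxO)) ⟨y, hy⟩)
  have hfix : ∀ w ∈ O, w * t = t * w → w ∈ C := by
    intro w hw hwt
    let W := O ⊓ centralizer ({t} : Set X)
    have hW : ⁅P, W⁆ ≤ C := by
      rw [Subgroup.commutator_le]
      intro x hx d hd
      have hd' : d ∈ N := hCN d (Subgroup.mem_centralizer_singleton_iff.1 hd.2)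
      refine hOP _ ?_ ?_
      · rw [commutatorElement_def, show x * d * x⁻¹ * d⁻¹ = x * (d * x⁻¹ * d⁻¹) by group]
        exact mul_mem hx ((mem_normalizer_iff.1 hd' _).1 (inv_mem hx))
      · rw [commutatorElement_def]
        exact mul_mem (hOn.conj_mem d hd.1 x) (inv_mem hd.1)
    have hbot : ⁅P, W⁆ = ⊥ :=
      CfsgLib.Components.commutator_eq_bot_of_perfect hperf (Subgroup.commutator_eq_bot_iff_le_centralizer.2 hW)
    rw [Subgroup.commutator_comm] at hbot
    exact CfsgLib.Components.le_centralizer_of_commutator_eq_bot hbot ⟨hw, Subgroup.mem_centralizer_singleton_iff.2 hwt⟩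
  have hmain : P ≤ centralizer (O : Set X) := by
    have hnn : ∀ s : X, s * s = 1 → ∀ w ∈ O, s * w * s ∈ O := fun s hs w hw => by
      have := hOn.conj_mem w hw s
      rwa [inv_eq_of_mul_eq_one_right hs] at this
    let A := O ⊓ centralizer ({t} : Set X)
    let B := O ⊓ centralizer ({u} : Set X)
    have hAB : A ≤ B := by
      intro w hw
      have hwt := Subgroup.mem_centralizer_singleton_iff.1 hw.2
      have hwC := hfix w hw.1 hwt
      refine ⟨hw.1, Subgroup.mem_centralizer_singleton_iff.2 ?_⟩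
      rw [hupc]
      rcases hcases with h | h <;> rw [h]
      · simp only [mul_one]; exact (hPC p hpP w hwC).symm
      · rw [← mul_assoc, ← hPC p hpP w hwC, mul_assoc, hwt, ← mul_assoc]
    have hB : B = A.map (MulAut.conj g).toMonoidHom := by
      ext w
      simp only [A, B, Subgroup.mem_map_equiv, Subgroup.mem_inf, Subgroup.mem_centralizer_singleton_iff,
        MulAut.conj_symm_apply]
      constructor
      · rintro ⟨h1, h2⟩
        refine ⟨by simpa using hOn.conj_mem w h1 g⁻¹, ?_⟩
        calc g⁻¹ * w * g * t = g⁻¹ * (w * u) * g := by rw [hu]; group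
          _ = g⁻¹ * (u * w) * g := by rw [h2]
          _ = t * (g⁻¹ * w * g) := by rw [hu]; group
      · rintro ⟨h1, h2⟩
        refine ⟨by simpa [mul_assoc] using hOn.conj_mem _ h1 g, ?_⟩
        calc w * u = g * (g⁻¹ * w * g * t) * g⁻¹ := by rw [hu]; group
          _ = g * (t * (g⁻¹ * w * g)) * g⁻¹ := by rw [h2]
          _ = u * w := by rw [hu]; group
    have hAeq : A = B := Subgroup.eq_of_le_of_card_ge hAB (by
      rw [hB]; exact (Subgroup.card_map_of_injective (MulAut.conj g).injective).le)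
    have hinv : ∀ s w : X, s * s = 1 → s * w * s = w → w * s = s * w := fun s w hs h => by
      calc w * s = s * w * s * s := by rw [h]
        _ = s * w := by rw [mul_assoc _ s s, hs, mul_one]
    have hAfix : A ≤ centralizer ({t * u} : Set X) := fun w hw => by
      refine Subgroup.mem_centralizer_singleton_iff.2 ?_
      rw [← mul_assoc, Subgroup.mem_centralizer_singleton_iff.1 hw.2, mul_assoc,
        Subgroup.mem_centralizer_singleton_iff.1 (hAB hw).2, ← mul_assoc]
    have htu : t * u * (t * u) = 1 := by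
      calc t * u * (t * u) = t * (u * t) * u := by group
        _ = t * t * (u * u) := by rw [hut]; group
        _ = 1 := by rw [htt, huu, one_mul]
    have hall : O ≤ centralizer ({t * u} : Set X) :=
      CfsgLib.RankOneInvol.le_of_fourGroup_fixed hOodd htt huu hut.symm (hnn t htt) (hnn u huu)
        (fun w hw h => hAfix ⟨hw, Subgroup.mem_centralizer_singleton_iff.2 (hinv t w htt h)⟩)
        (fun w hw h => hAfix (hAeq ▸ ⟨hw, Subgroup.mem_centralizer_singleton_iff.2 (hinv u w huu h)⟩))
        (fun w _ h => Subgroup.mem_centralizer_singleton_iff.2 (hinv _ w htu h))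
    have hcent' : t * u ∈ centralizer (O : Set X) := fun w hw =>
      Subgroup.mem_centralizer_singleton_iff.1 (hall hw)
    refine le_centralizer_of_involution P O hqs t p htP hpP hpZ ?_
    rcases hcases with h | h
    · right; rwa [hupc, h, mul_one] at hcent'
    · left
      rwa [hupc, h, ← mul_assoc, ← hPC p hpP t htP, mul_assoc, htt, mul_one] at hcent'
  have hcomm : ⁅P, O⁆ = ⊥ := commutator_eq_bot_iff_le_centralizer.2 hmain
  refine ⟨hcomm, fun L hL hPL _ => ?_⟩
  rw [CfsgLib.Components.pComponent_quasisimple_iff hL]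
  have hinf : (Cfsg.pPrimeCore 2 L).map L.subtype = O ⊓ L :=
    (CfsgLib.Components.map_pPrimeCore_eq_inf hL.1).trans (inf_comm _ _)
  rw [hinf]
  refine eq_bot_iff.2 (le_trans (Subgroup.commutator_mono le_rfl inf_le_left) ?_)
  refine le_of_eq (commutator_eq_bot_iff_le_centralizer.2 ?_)
  let K := L ⊓ centralizer (O : Set X)
  suffices K = L by rw [← this]; exact inf_le_right
  have hKn : (K.subgroupOf L).Normal := by
    simp only [K, inf_subgroupOf_left]
    exact Subgroup.Normal.subgroupOf inferInstance L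
  have hKsub : K.IsSubnormal := by
    have e : (K.subgroupOf L).map L.subtype = K := by rw [subgroupOf_map_subtype]; exact inf_of_le_left inf_le_left
    rw [← e]
    exact hKn.isSubnormal.trans' hL.1
  refine hL.2.2 K hKsub inf_le_left ?_
  set π := QuotientGroup.mk' (Cfsg.pPrimeCore 2 X)
  have hKle : K.map π ≤ L.map π := Subgroup.map_mono inf_le_left
  have : ((K.map π).subgroupOf (L.map π)).Normal := by
    refine Subgroup.normal_subgroupOf_iff hKle |>.2 ?_
    rintro _ _ ⟨k, hk, rfl⟩ ⟨l, hl, rfl⟩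
    refine ⟨l * k * l⁻¹, ?_, by simp⟩
    exact ⟨L.mul_mem (L.mul_mem hl hk.1) (L.inv_mem hl), (inferInstance : (centralizer (O : Set X)).Normal).conj_mem k hk.2 l⟩
  rcases CfsgLib.Components.quasisimple_normal_eq_top_or_le_center hL.2.1.2 ((K.map π).subgroupOf (L.map π)) with h | h
  · exact le_antisymm hKle (subgroupOf_eq_top.1 h)
  · exfalso
    have hab : ⁅P.map π, P.map π⁆ = ⊥ := by
      rw [commutator_eq_bot_iff_le_centralizer]
      rintro _ ⟨x, hx, rfl⟩ _ ⟨y, hy, rfl⟩
      have hx' : π x ∈ K.map π := mem_map_of_mem π ⟨hPL hx, hmain hx⟩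
      have hz := h (show (⟨π x, hKle hx'⟩ : ↥(L.map π)) ∈ (K.map π).subgroupOf (L.map π) from hx')
      exact congrArg Subtype.val (mem_center_iff.1 hz ⟨π y, mem_map_of_mem π (hPL hy)⟩)
    rw [← map_commutator, hperf] at hab
    have hpO : p ∈ O := (QuotientGroup.eq_one_iff p).1 (eq_bot_iff.1 hab ⟨p, hpP, rfl⟩)
    have := hOodd.of_dvd_nat (Subgroup.orderOf_dvd_natCard _ hpO)
    rw [op] at this
    exact absurd this (by decide)

end Cfsg.Agent.S3153
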