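import Cfsg.Statements.S3154
import Cfsg.Agent.Lib.InvChar.PSLThreeFourCover
import Cfsg.Agent.Lib.Components.Basic

set_option autoImplicit false
open Cfsg

namespace Cfsg.Agent.S3154

/-- Let X be a finite quasisimple group whose centre is an elementary abelian 2-group and whose central quotient is isomorphic to the projective special linear group of dimension 3 over the field with 4 elements. Let T be a Sylow 2-subgroup of X and H ≠ K subgroups of T containing the centre Z(X) whose images in X/Z(X) are elementary abelian of order 16 (the two such subgroups of a Sylow 2-subgroup of the quotient). Then H and K are elementary abelian, H ∩ K is the centre of the subgroup they generate, and each of N_X(H), N_X(K) is a split extension of H, respectively K, by the projective special linear group of dimension 2 over the field with 4 elements (there is a complement isomorphic to that group). -/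
theorem result {X : Type*} [Group X] [Finite X] (hq : Cfsg.IsQuasisimple X) (hZ : Cfsg.IsElementaryAbelian 2 (Subgroup.center X))
    {F : Type*} [Field F] [Fintype F] (hF : Fintype.card F = 4) (hXL : Nonempty ((X ⧸ Subgroup.center X) ≃* Matrix.ProjectiveSpecialLinearGroup (Fin 3) F))
    (T : Sylow 2 X) (H K : Subgroup X) (hHK : H ≠ K) (hHT : H ≤ T) (hKT : K ≤ T) (hZH : Subgroup.center X ≤ H) (hZK : Subgroup.center X ≤ K)
    (hH : Cfsg.IsElementaryAbelian 2 (H.map (QuotientGroup.mk' (Subgroup.center X))) ∧ Nat.card ↥(H.map (QuotientGroup.mk' (Subgroup.center X))) = 16)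
    (hK : Cfsg.IsElementaryAbelian 2 (K.map (QuotientGroup.mk' (Subgroup.center X))) ∧ Nat.card ↥(K.map (QuotientGroup.mk' (Subgroup.center X))) = 16) :
    Cfsg.IsElementaryAbelian 2 H ∧ Cfsg.IsElementaryAbelian 2 K ∧
      H ⊓ K = (Subgroup.center ↥(H ⊔ K)).map (H ⊔ K).subtype ∧
      (∃ C : Subgroup X, C ≤ Subgroup.normalizer (H : Set X) ∧ C ⊓ H = ⊥ ∧ H ⊔ C = Subgroup.normalizer (H : Set X) ∧
        Nonempty (↥C ≃* Matrix.ProjectiveSpecialLinearGroup (Fin 2) F)) ∧
      (∃ C : Subgroup X, C ≤ Subgroup.normalizer (K : Set X) ∧ C ⊓ K = ⊥ ∧ K ⊔ C = Subgroup.normalizer (K : Set X) ∧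
        Nonempty (↥C ≃* Matrix.ProjectiveSpecialLinearGroup (Fin 2) F)) := by
  have : Fact (Fintype.card F = 4) := ⟨hF⟩
  have : Fact (Nat.Prime 2) := ⟨Nat.prime_two⟩
  obtain ⟨e⟩ := hXL
  let π₀ : X →* Matrix.ProjectiveSpecialLinearGroup (Fin 3) F := e.toMonoidHom.comp (QuotientGroup.mk' (Subgroup.center X))
  have hZ2 : ∀ z ∈ Subgroup.center X, z * z = 1 := fun z hz => by rw [← pow_two]; exact hZ.2 z hz
  -- move the image of `T` into the standard Sylow subgroup
  obtain ⟨Q, hQ⟩ := (CfsgLib.InvCharPSLThree.isPGroup_sylowU (F := F)).exists_le_sylow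
  have hQeq : CfsgLib.InvCharPSLThree.sylowU F = (Q : Subgroup _) := by
    refine Subgroup.eq_of_le_of_card_ge hQ ?_
    obtain ⟨f⟩ := CfsgLib.InvCharThree.uni_equiv_sylow_psl (F := F) (n := 2) (by norm_num) (by rw [hF]; norm_num) Q
    rw [CfsgLib.InvCharPSLThree.card_sylowU, ← Nat.card_congr f.toEquiv, CfsgLib.InvCharThree.natCard_uni, hF]; norm_num
  obtain ⟨R, hR⟩ := (T.2.map π₀).exists_le_sylow
  obtain ⟨g, hg⟩ := MulAction.exists_smul_eq (Matrix.ProjectiveSpecialLinearGroup (Fin 3) F) R Q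
  let π : X →* Matrix.ProjectiveSpecialLinearGroup (Fin 3) F := (MulAut.conj g).toMonoidHom.comp π₀
  have hπ : Function.Surjective π :=
    (MulAut.conj g).surjective.comp (e.surjective.comp (QuotientGroup.mk'_surjective _))
  have hker : π.ker = Subgroup.center X := by
    ext y
    simp [π, π₀, MonoidHom.mem_ker]
  have hTU : (T : Subgroup X).map π ≤ CfsgLib.InvCharPSLThree.sylowU F := by
    rw [hQeq, ← hg, ← Subgroup.map_map]
    exact (Subgroup.map_mono hR).trans (le_of_eq rfl)
  have hident : ∀ A : Subgroup X, A ≤ T → Subgroup.center X ≤ A →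
      (Cfsg.IsElementaryAbelian 2 (A.map (QuotientGroup.mk' (Subgroup.center X))) ∧ Nat.card ↥(A.map (QuotientGroup.mk' (Subgroup.center X))) = 16) →
      A = (CfsgLib.InvCharPSLThree.eOne F).comap π ∨ A = (CfsgLib.InvCharPSLThree.eTwo F).comap π := by
    intro A hAT hZA hA
    let φ := (MulAut.conj g).toMonoidHom.comp e.toMonoidHom
    have hφ : Function.Injective φ := (MulAut.conj g).injective.comp e.injective
    have hmap : A.map π = (A.map (QuotientGroup.mk' (Subgroup.center X))).map φ := by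
      rw [Subgroup.map_map]; rfl
    have hcomap : (A.map π).comap π = A := by
      rw [Subgroup.comap_map_eq, hker, sup_eq_left]; exact hZA
    rcases CfsgLib.InvCharPSLThree.eq_eOne_or_eTwo (A.map π) ((Subgroup.map_mono hAT).trans hTU)
      (by
        rw [hmap]
        rintro _ ⟨a, ha, rfl⟩
        rw [← map_mul, ← pow_two, hA.1.2 a ha, map_one])
      (by rw [hmap, Subgroup.card_map_of_injective hφ, hA.2]) with h | h
    · left; rw [← h, hcomap]
    · right; rw [← h, hcomap]
  obtain ⟨φg, hφg⟩ := CfsgLib.InvCharPSLThree.exists_graph (F := F)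
  let π' : X →* Matrix.ProjectiveSpecialLinearGroup (Fin 3) F := φg.toMonoidHom.comp π
  have hπ' : Function.Surjective π' := φg.surjective.comp hπ
  have hker' : π'.ker = Subgroup.center X := by
    rw [← hker]; ext y; simp [π', MonoidHom.mem_ker]
  have hswap : (CfsgLib.InvCharPSLThree.eOne F).comap π' = (CfsgLib.InvCharPSLThree.eTwo F).comap π := by
    rw [← hφg, ← Subgroup.comap_comap, Subgroup.comap_map_eq_self_of_injective (f := φg.toMonoidHom) φg.injective]
  -- `SL₂ = PSL₂`
  have hpsl : ∀ {C : Subgroup X}, Nonempty (C ≃* Matrix.SpecialLinearGroup (Fin 2) F) →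
      Nonempty (C ≃* Matrix.ProjectiveSpecialLinearGroup (Fin 2) F) := by
    rintro C ⟨f⟩
    have hb : Subgroup.center (Matrix.SpecialLinearGroup (Fin 2) F) = ⊥ :=
      Subgroup.eq_bot_of_card_eq _ (by
        rw [Cfsg.Agent.Classical.card_center_sl 2 (by norm_num), hF]; rfl)
    exact ⟨f.trans ((QuotientGroup.quotientMulEquivOfEq hb).trans QuotientGroup.quotientBot).symm⟩
  have hcomp : ∀ A : Subgroup X, (A = (CfsgLib.InvCharPSLThree.eOne F).comap π ∨ A = (CfsgLib.InvCharPSLThree.eTwo F).comap π) →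
      Cfsg.IsElementaryAbelian 2 A ∧ (∃ C : Subgroup X, C ≤ Subgroup.normalizer (A : Set X) ∧ C ⊓ A = ⊥ ∧
        A ⊔ C = Subgroup.normalizer (A : Set X) ∧ Nonempty (↥C ≃* Matrix.ProjectiveSpecialLinearGroup (Fin 2) F)) := by
    rintro A (rfl | rfl)
    · obtain ⟨C, h1, h2, h3, h4⟩ := CfsgLib.InvCharPSLThree.exists_complement π hπ hker hZ2
      exact ⟨CfsgLib.InvCharPSLThree.elementary_comap π hπ hker hZ2, C, h1, h2, h3, hpsl h4⟩
    · rw [← hswap]
      obtain ⟨C, h1, h2, h3, h4⟩ := CfsgLib.InvCharPSLThree.exists_complement π' hπ' hker' hZ2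
      exact ⟨CfsgLib.InvCharPSLThree.elementary_comap π' hπ' hker' hZ2, C, h1, h2, h3, hpsl h4⟩
  have hH' := hident H hHT hZH hH
  have hK' := hident K hKT hZK hK
  refine ⟨(hcomp H hH').1, (hcomp K hK').1, ?_, (hcomp H hH').2, (hcomp K hK').2⟩
  have hHab := (hcomp H hH').1.1
  have hKab := (hcomp K hK').1.1
  have hsupinf : (H ⊔ K = (CfsgLib.InvCharPSLThree.sylowU F).comap π) ∧
      H ⊓ K = (CfsgLib.InvCharPSLThree.eOne F ⊓ CfsgLib.InvCharPSLThree.eTwo F).comap π := by
    rw [← CfsgLib.InvCharPSLThree.sup_eq, Subgroup.comap_inf]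
    rcases hH' with rfl | rfl <;> rcases hK' with rfl | rfl
    · exact absurd rfl hHK
    · exact ⟨Subgroup.comap_sup_eq π _ _ hπ, rfl⟩
    · exact ⟨(sup_comm _ _).trans (Subgroup.comap_sup_eq π _ _ hπ), inf_comm _ _⟩
    · exact absurd rfl hHK
  rw [CfsgLib.Components.map_center_subtype]
  refine le_antisymm ?_ ?_
  · intro z hz
    refine ⟨Subgroup.mem_sup_left hz.1, Subgroup.mem_centralizer_iff.2 fun y hy => ?_⟩
    have hle : H ⊔ K ≤ Subgroup.centralizer ({z} : Set X) := sup_le
      (fun h hh => Subgroup.mem_centralizer_singleton_iff.2 (congrArg Subtype.val (hHab.is_comm.comm (⟨h, hh⟩ : H) ⟨z, hz.1⟩)))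
      (fun k hk => Subgroup.mem_centralizer_singleton_iff.2 (congrArg Subtype.val (hKab.is_comm.comm (⟨k, hk⟩ : K) ⟨z, hz.2⟩)))
    exact Subgroup.mem_centralizer_singleton_iff.1 (hle hy)
  · rintro z ⟨hz, hzc⟩
    rw [hsupinf.2]
    rw [hsupinf.1] at hz hzc
    refine CfsgLib.InvCharPSLThree.center_le hz fun p hp => ?_
    obtain ⟨y, rfl⟩ := hπ p
    rw [← map_mul, ← map_mul, Subgroup.mem_centralizer_iff.1 hzc y hp]

end Cfsg.Agent.S3154
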