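import Cfsg.Statements.S3155
import Mathlib

set_option autoImplicit false
open Cfsg

namespace Cfsg.Agent.S3155

/-- Let B be the direct product of three cyclic groups of order 4. Then the automorphism of B inverting every element is not the square of any automorphism of B. -/
theorem result {B : Type*} [CommGroup B] [Finite B] (hB : Nonempty (B ≃* Multiplicative (ZMod 4 × ZMod 4 × ZMod 4)))
    (τ : B ≃* B) : τ.trans τ ≠ MulEquiv.inv B := by
  intro h
  obtain ⟨e⟩ := hB
  let M := ZMod 4 × ZMod 4 × ZMod 4
  let t : Multiplicative M ≃* Multiplicative M := e.symm.trans (τ.trans e)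
  let f : M →+ M := MonoidHom.toAdditive (t.toMonoidHom)
  let L : M →ₗ[ZMod 4] M := f.toZModLinearMap 4
  have hL : L ∘ₗ L = (-1 : ZMod 4) • LinearMap.id := by
    refine LinearMap.ext fun v => ?_
    have hv := congrArg (fun s : B ≃* B => s (e.symm (Multiplicative.ofAdd v))) h
    simp only [MulEquiv.trans_apply, MulEquiv.inv_apply] at hv
    simp only [LinearMap.comp_apply, LinearMap.smul_apply, LinearMap.id_coe, id_eq, neg_smul, one_smul]
    apply Multiplicative.ofAdd.injective
    show t (t (Multiplicative.ofAdd v)) = (Multiplicative.ofAdd v)⁻¹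
    simp [t, hv]
  haveI : Fact (1 < 4) := ⟨by norm_num⟩
  have hd := congrArg LinearMap.det hL
  rw [LinearMap.det_comp, LinearMap.det_smul, LinearMap.det_id, Module.finrank_prod, Module.finrank_prod,
    Module.finrank_self] at hd
  have : ∀ d : ZMod 4, d * d ≠ (-1) ^ (1 + (1 + 1)) * 1 := by decide
  exact this _ hd

end Cfsg.Agent.S3155
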