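import Cfsg.Statements.S3156
import Cfsg.Agent.Lib.InvChar.HermNoSymThree

set_option autoImplicit false
open Cfsg

namespace Cfsg.Agent.S3156

/-- If a finite group T is isomorphic to a Sylow 2-subgroup of the projective special unitary group of dimension 3 with parameter 4 (realised over the field with 16 elements), then no subgroup of the automorphism group of T is isomorphic to the symmetric group of degree 3. -/
theorem result {T : Type*} [Group T] [Finite T] (hT : (∃ (F : Type) (_ : Field F) (_ : Fintype F), Fintype.card F = 16 ∧ ∃ S : Sylow 2 (Cfsg.PSU 3 F 4), Nonempty (T ≃* ↥(S : Subgroup (Cfsg.PSU 3 F 4))))) (H : Subgroup (MulAut T)) : ¬ Nonempty (↥H ≃* Equiv.Perm (Fin 3)) := by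
  rintro ⟨e⟩
  obtain ⟨F, _, _, hF, S, ⟨f⟩⟩ := hT
  have hF' : Fintype.card F = 4 ^ 2 := by rw [hF]; norm_num
  have he : Even 4 := by decide
  let _ := CfsgLib.InvCharThree.hermGroup hF' he
  obtain ⟨g⟩ := CfsgLib.InvCharThree.herm_equiv_sylow_psu hF' he (n := 2) (by norm_num) S
  have hlike := CfsgLib.InvCharSixtyFour.hermLike_of_equiv (g.trans f.symm)
    (CfsgLib.InvCharSixtyFour.hermLike_herm hF' he)
  let φ : Equiv.Perm (Fin 3) →* MulAut T := H.subtype.comp e.symm.toMonoidHom
  have hφ : Function.Injective φ := Subtype.val_injective.comp e.symm.injective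
  have key : ∀ {p q : Equiv.Perm (Fin 3)}, p = q → ∀ y, φ p y = φ q y := fun h y => by rw [h]
  have hr : finRotate 3 * finRotate 3 * finRotate 3 = 1 := by decide
  have hs : Equiv.swap (0 : Fin 3) 1 * Equiv.swap 0 1 = 1 := by decide
  have hrs : Equiv.swap (0 : Fin 3) 1 * finRotate 3 = finRotate 3 * finRotate 3 * Equiv.swap 0 1 := by decide
  refine CfsgLib.InvCharSixtyFour.no_inverted_three hlike (φ (finRotate 3)) (φ (Equiv.swap 0 1)) ?_ ?_ ?_ ?_
  · intro y
    have := key hr y
    simpa only [map_mul, map_one, MulAut.mul_apply, MulAut.one_apply] using this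
  · by_contra! h
    have h1 : φ (finRotate 3) = φ 1 := by rw [map_one]; exact MulEquiv.ext h
    exact absurd (hφ h1) (by decide)
  · intro y
    have := key hs y
    simpa only [map_mul, map_one, MulAut.mul_apply, MulAut.one_apply] using this
  · intro y
    have := key hrs y
    simpa only [map_mul, map_one, MulAut.mul_apply, MulAut.one_apply] using this

end Cfsg.Agent.S3156
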