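import Cfsg.Statements.S3157
import Cfsg.Agent.Lib.InvChar.SixtyFourInverting

set_option autoImplicit false
open Cfsg

namespace Cfsg.Agent.S3157

/-- Let T be a non-abelian group of order 64 admitting automorphisms ρ of order 3 and x of order 2 with x ρ x⁻¹ = ρ⁻¹ (so they generate a symmetric group of degree 3), where ρ fixes only the identity. Then T is isomorphic to a Sylow 2-subgroup of the projective special linear group of dimension 3 over the field with 4 elements, and the subgroup of fixed points of x is dihedral of order 8 or quaternion of order 8. -/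
theorem result {T : Type*} [Group T] [Finite T] (hT : Nat.card T = 64) (hna : ¬ IsMulCommutative T) (ρ x : MulAut T) (hρ : orderOf ρ = 3) (hx : orderOf x = 2)
    (hxr : x * ρ * x⁻¹ = ρ⁻¹) (hfp : ∀ y : T, ρ y = y → y = 1) (C : Subgroup T) (hC : ∀ y : T, y ∈ C ↔ x y = y) :
    (∃ (F : Type) (_ : Field F) (_ : Fintype F), Fintype.card F = 4 ∧
        ∃ S : Sylow 2 (Matrix.ProjectiveSpecialLinearGroup (Fin 3) F), Nonempty (T ≃* ↥(S : Subgroup (Matrix.ProjectiveSpecialLinearGroup (Fin 3) F)))) ∧
      (Nonempty (↥C ≃* DihedralGroup 4) ∨ Nonempty (↥C ≃* QuaternionGroup 2)) := by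
  have h3 : ∀ y, ρ (ρ (ρ y)) = y := fun y => by
    have h : ρ ^ 3 = 1 := by rw [← hρ, pow_orderOf_eq_one]
    have := DFunLike.congr_fun h y
    simpa [pow_succ, MulAut.mul_apply] using this
  have hx2 : ∀ y, x (x y) = y := fun y => by
    have h : x ^ 2 = 1 := by rw [← hx, pow_orderOf_eq_one]
    have := DFunLike.congr_fun h y
    simpa [pow_succ, MulAut.mul_apply] using this
  have hxr' : ∀ y, x (ρ y) = ρ (ρ (x y)) := fun y => by
    have h := DFunLike.congr_fun hxr (x y)
    simp only [MulAut.mul_apply, MulAut.inv_apply_self] at h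
    rw [h]
    apply ρ.injective
    rw [MulAut.apply_inv_self, h3]
  have hna' : ¬ ∀ a b : T, a * b = b * a := fun h => hna ⟨⟨h⟩⟩
  let F := GaloisField 2 2
  let : Fintype F := Fintype.ofFinite F
  have hF : Fintype.card F = 4 := by
    rw [← Nat.card_eq_fintype_card, GaloisField.card 2 2 (by norm_num)]; norm_num
  have : Fact (Nat.Prime 2) := ⟨Nat.prime_two⟩
  obtain ⟨⟨e⟩, hD⟩ := CfsgLib.InvCharSixtyFour.structure_sixty_four hT hna' ρ h3 hfp x hx2 hxr' C hC F hF
  obtain ⟨S⟩ := Sylow.nonempty (p := 2) (G := Matrix.ProjectiveSpecialLinearGroup (Fin 3) F)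
  obtain ⟨e'⟩ := CfsgLib.InvCharThree.uni_equiv_sylow_psl (n := 2) (by norm_num) (by rw [hF]; norm_num) S
  exact ⟨⟨F, inferInstance, inferInstance, hF, S, ⟨e.symm.trans e'⟩⟩, hD⟩

end Cfsg.Agent.S3157
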