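import Cfsg.Statements.S3158
import Mathlib

set_option autoImplicit false
open Cfsg

namespace Cfsg.Agent.S3158

section
variable {U : Type*} [Group U] [Finite U]

/-- A nonabelian-free criterion: biadditive equivariant alternating maps on a finite field of characteristic two vanish. -/
theorem alternating_semilinear_zero {A : Type*} [Field A] [Finite A] (h2 : (2 : A) = 0) (B : A → A → A)
    (hadd : ∀ u v w, B u (v + w) = B u v + B u w) (halt : ∀ u, B u u = 0)
    (hsymm : ∀ u v, B u v = B v u) (hhom : ∀ c u v, c ≠ 0 → B (c * u) (c * v) = c * B u v) :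
    ∀ u v, B u v = 0 := by
  have hself : ∀ a : A, a + a = 0 := fun a => by rw [← two_mul, h2, zero_mul]
  let f : A → A := fun v => B 1 v
  have h0 : f 0 = 0 := by
    have := hadd 1 0 0
    rw [add_zero] at this
    simpa using this
  have hf : ∀ u : A, u ≠ 0 → f u⁻¹ = u⁻¹ * f u := by
    intro u hu
    have h := hhom u 1 u⁻¹ hu
    rw [mul_one, mul_inv_cancel₀ hu, hsymm] at h
    show B 1 u⁻¹ = u⁻¹ * B 1 u
    rw [h, ← mul_assoc, inv_mul_cancel₀ hu, one_mul]
  have hsq : ∀ x : A, f (x ^ 2) = 0 := by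
    intro x
    by_cases hx : x = 0
    · simpa [hx] using h0
    by_cases hx1 : 1 + x = 0
    · have : x ^ 2 = 1 := by linear_combination (x - 1) * hx1
      rw [this]; exact halt 1
    have hsum : x⁻¹ + (1 + x)⁻¹ = (x + x ^ 2)⁻¹ := by
      have hxx : x + x ^ 2 ≠ 0 := by
        rw [show x + x ^ 2 = x * (1 + x) by ring]; exact mul_ne_zero hx hx1
      field_simp
      linear_combination (x * h2)
    have hxx : x + x ^ 2 ≠ 0 := by
      rw [show x + x ^ 2 = x * (1 + x) by ring]; exact mul_ne_zero hx hx1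
    have h := congrArg f hsum
    rw [show f (x⁻¹ + (1 + x)⁻¹) = f x⁻¹ + f (1 + x)⁻¹ from hadd _ _ _, hf x hx, hf _ hx1, hf _ hxx,
      show f (1 + x) = f 1 + f x from hadd _ _ _, show f 1 = 0 from halt 1, zero_add,
      show f (x + x ^ 2) = f x + f (x ^ 2) from hadd _ _ _, ← add_mul, hsum, mul_add] at h
    rw [left_eq_add, mul_eq_zero, inv_eq_zero] at h
    exact h.resolve_left hxx
  have : CharP A 2 := by
    obtain ⟨p, hp⟩ := CharP.exists A
    have h : p ∣ 2 := (CharP.cast_eq_zero_iff A p 2).1 (by exact_mod_cast h2)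
    rcases (Nat.dvd_prime Nat.prime_two).1 h with rfl | rfl
    · exact absurd rfl (CharP.char_ne_one A 1)
    · exact hp
  have := Fintype.ofFinite A
  have hf0 : ∀ v, f v = 0 := by
    intro v
    obtain ⟨w, rfl⟩ := FiniteField.isSquare_of_char_two (ringChar.eq A 2) v
    rw [← pow_two]; exact hsq w
  intro u v
  by_cases hu : u = 0
  · subst hu
    rw [hsymm]
    have := hadd v 0 0
    rw [add_zero] at this
    simpa using this
  · have h := hhom u 1 (u⁻¹ * v) hu
    rw [mul_one, ← mul_assoc, mul_inv_cancel₀ hu, one_mul] at h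
    rw [h, show B 1 (u⁻¹ * v) = 0 from hf0 _, mul_zero]

/-- The commutator, written out. -/
def cmt (u w : U) : U := u * w * u⁻¹ * w⁻¹

open scoped Classical in
/-- The main argument. -/
theorem main (n : ℕ) (hn : 1 ≤ n) (hU : Nat.card U = (2 ^ n) ^ 2)
    (y : MulAut U) (hy : orderOf y = 2 ^ n - 1) (hfp : ∀ k : ℕ, y ^ k ≠ 1 → ∀ u : U, (y ^ k) u = u → u = 1)
    (V : Subgroup U) [V.Normal] (hV : V ≠ ⊤) (hyV : ∀ v ∈ V, y v ∈ V)
    (hVe : ∀ v ∈ V, v ^ 2 = 1) (hQe : ∀ u : U, u ^ 2 ∈ V) (hQc : ∀ u w : U, u * w * u⁻¹ * w⁻¹ ∈ V)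
    (φ : ↥V ≃* U ⧸ V) (hφ : ∀ (v : ↥V) (u : U), (QuotientGroup.mk u : U ⧸ V) = φ v → φ ⟨y v, hyV v v.2⟩ = QuotientGroup.mk (y u)) :
    IsMulCommutative U := by
  have hcardV : Nat.card V = 2 ^ n := by
    have h := Subgroup.card_mul_index V
    rw [Subgroup.index, ← Nat.card_congr φ.toEquiv, hU, ← pow_two] at h
    exact Nat.pow_left_injective (by norm_num) h
  have hV2 : IsPGroup 2 U := IsPGroup.of_card (n := n * 2) (by rw [hU, ← pow_mul])
  let : CommGroup V :=
    { (inferInstance : Group V) with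
      mul_comm := fun a b => Subtype.ext (by
        have ha := hVe a a.2; have hb := hVe b b.2; have hab := hVe _ (V.mul_mem a.2 b.2)
        rw [pow_two] at ha hb hab
        calc (a : U) * b = ((a : U) * b)⁻¹ := (inv_eq_of_mul_eq_one_right hab).symm
          _ = b * a := by rw [mul_inv_rev, inv_eq_of_mul_eq_one_right ha, inv_eq_of_mul_eq_one_right hb]) }
  let yV : ↥V →* ↥V := (y.toMonoidHom.comp V.subtype).codRestrict V (fun v => hyV v v.2)
  let l : AddMonoid.End (Additive V) := MonoidHom.toAdditive yV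
  have hl : ∀ (i : ℕ) (v : ↥V), ((Additive.toMul ((l ^ i) (Additive.ofMul v)) : ↥V) : U) = (y ^ i) v := by
    intro i
    induction i with
    | zero => intro v; simp
    | succ i ih => intro v; rw [pow_succ, pow_succ, AddMonoid.End.coe_mul, MulAut.mul_apply]; exact ih (yV v)
  -- transitivity
  have hnt : Nontrivial ↥V := by
    rw [← Finite.one_lt_card_iff_nontrivial, hcardV]
    exact Nat.one_lt_two_pow (by omega)
  obtain ⟨v₀, hv₀⟩ := exists_ne (1 : ↥V)
  have hinj : ∀ i j, i < orderOf y → j < orderOf y → (y ^ i) (v₀ : U) = (y ^ j) v₀ → i = j := by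
    intro i j hi hj h
    wlog hij : i ≤ j generalizing i j
    · exact (this j i hj hi h.symm (by omega)).symm
    obtain ⟨d, rfl⟩ := Nat.exists_eq_add_of_le hij
    rw [pow_add, MulAut.mul_apply] at h
    have h2 := (y ^ i).injective h
    by_contra hd
    have hd0 : y ^ d ≠ 1 := pow_ne_one_of_lt_orderOf (by omega) (by omega)
    exact hv₀ (Subtype.ext (hfp d hd0 _ h2.symm))
  have htr : ∀ v : ↥V, v ≠ 1 → ∃ i : ℕ, (y ^ i) (v₀ : U) = v := by
    let F : Fin (orderOf y) → {v : ↥V // v ≠ 1} := fun i =>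
      ⟨Additive.toMul ((l ^ (i : ℕ)) (Additive.ofMul v₀)), fun h => hv₀ (by
        have h' := congrArg Subtype.val h
        rw [hl] at h'
        exact Subtype.ext ((y ^ (i : ℕ)).injective (h'.trans (map_one (y ^ (i : ℕ))).symm)))⟩
    have hF : Function.Injective F := fun i j h => Fin.ext (hinj i j i.2 j.2 (by
      have h' := congrArg (fun v : {v : ↥V // v ≠ 1} => ((v : ↥V) : U)) h
      simp only [F, hl] at h'
      exact h'))
    have hc : Nat.card {v : ↥V // v ≠ 1} = Nat.card (Fin (orderOf y)) := by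
      have := Fintype.ofFinite ↥V
      rw [Nat.card_eq_fintype_card, Fintype.card_subtype_compl, Fintype.card_subtype_eq, ← Nat.card_eq_fintype_card,
        hcardV, Nat.card_fin, hy]
    intro v hv
    obtain ⟨i, hi⟩ := ((Nat.bijective_iff_injective_and_card F).2 ⟨hF, hc.symm⟩).2 ⟨v, hv⟩
    exact ⟨i, by rw [← hl]; exact congrArg (fun v : {v : ↥V // v ≠ 1} => ((v : ↥V) : U)) hi⟩
  -- centrality
  have hcen : V ≤ Subgroup.center U := by
    have : Fact (Nat.Prime 2) := ⟨Nat.prime_two⟩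
    have hVb : (V : Subgroup U) ≠ ⊥ := fun h => by
      exact hv₀ (Subtype.ext (Subgroup.mem_bot.1 (h.le v₀.2)))
    obtain ⟨z, hz, hz1⟩ : ∃ z ∈ V ⊓ Subgroup.center U, z ≠ 1 := by
      have hd : 2 ∣ Nat.card ↥V := by rw [hcardV]; exact dvd_pow_self 2 (by omega)
      obtain ⟨b, hb, hb1⟩ := (IsPGroup.of_equiv hV2 ConjAct.toConjAct).exists_fixed_point_of_prime_dvd_card_of_fixed_point
        ↥V hd (a := 1) (fun g => smul_one g)
      refine ⟨b, ⟨b.2, Subgroup.mem_center_iff.2 fun g => ?_⟩, fun h => hb1 (Subtype.ext h.symm)⟩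
      have h := congrArg Subtype.val (hb (ConjAct.toConjAct g))
      simp only [ConjAct.Subgroup.val_conj_smul, ConjAct.toConjAct_smul] at h
      exact mul_inv_eq_iff_eq_mul.1 h
    intro v hv
    by_cases hv1 : v = 1
    · rw [hv1]; exact one_mem _
    obtain ⟨i, hi⟩ := htr ⟨z, hz.1⟩ (fun h => hz1 (congrArg Subtype.val h))
    obtain ⟨j, hj⟩ := htr ⟨v, hv⟩ (fun h => hv1 (congrArg Subtype.val h))
    rw [Subgroup.mem_center_iff]
    intro g
    simp only at hi hj
    have hzc : ∀ g : U, g * z = z * g := Subgroup.mem_center_iff.1 hz.2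
    have h1 := congrArg (y ^ j * (y ^ i)⁻¹) (hzc ((y ^ i * (y ^ j)⁻¹) g))
    rw [map_mul, map_mul, ← hi, ← MulAut.mul_apply, ← MulAut.mul_apply] at h1
    simpa [mul_assoc, hj] using h1
  have hc0 : ∀ u : U, ∀ v ∈ V, u * v = v * u := fun u v hv => Subgroup.mem_center_iff.1 (hcen hv) u
  -- the field
  let A : Subring (AddMonoid.End (Additive V)) := Subring.closure {l}
  let v : Additive ↥V := Additive.ofMul v₀
  have hlA : l ∈ A := Subring.subset_closure rfl
  have hcommA : ∀ a ∈ A, ∀ i : ℕ, ∀ x, a ((l ^ i) x) = (l ^ i) (a x) := by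
    intro a ha i x
    have hc : Commute a l := by
      have hle : A ≤ Subring.centralizer {l} := Subring.closure_le.2 (by rintro _ rfl; exact Subring.mem_centralizer_iff.2 (by rintro _ rfl; rfl))
      exact ((Subring.mem_centralizer_iff.1 (hle ha)) l rfl).symm
    exact DFunLike.congr_fun (hc.pow_right i) x
  have hsurj : ∀ x : Additive ↥V, x ≠ 0 → ∃ i : ℕ, (l ^ i) v = x := by
    intro x hx
    obtain ⟨i, hi⟩ := htr (Additive.toMul x) hx
    exact ⟨i, Additive.toMul.injective (Subtype.ext (by rw [hl]; exact hi))⟩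
  have heval : ∀ a ∈ A, a v = 0 → a = 0 := by
    intro a ha h
    ext x
    by_cases hx : x = 0
    · simp [hx]
    obtain ⟨i, rfl⟩ := hsurj x hx
    rw [hcommA a ha, h, map_zero]
    rfl
  have hev_inj : ∀ a b : A, (a : AddMonoid.End (Additive V)) v = (b : AddMonoid.End (Additive V)) v → a = b := by
    intro a b h
    apply Subtype.ext
    rw [← sub_eq_zero]
    exact heval _ (A.sub_mem a.2 b.2) (sub_eq_zero.2 h)
  have hev_surj : ∀ x, ∃ a : A, (a : AddMonoid.End (Additive V)) v = x := by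
    intro x
    by_cases hx : x = 0
    · exact ⟨0, by rw [hx]; rfl⟩
    obtain ⟨i, rfl⟩ := hsurj x hx
    exact ⟨⟨l ^ i, pow_mem hlA i⟩, rfl⟩
  let : CommRing A := Subring.closureCommRingOfComm (by simp)
  have : Finite A := Finite.of_injective _ fun a b => hev_inj a b
  have : Nontrivial A := by
    refine ⟨⟨1, 0, fun h => hv₀ ?_⟩⟩
    exact congrArg (fun a : A => Additive.toMul ((a : AddMonoid.End (Additive V)) v)) h
  have : NoZeroDivisors A := by
    refine ⟨fun {a b} h => ?_⟩
    by_cases hb : (b : AddMonoid.End (Additive V)) v = 0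
    · exact Or.inr (hev_inj b 0 hb)
    · left
      obtain ⟨i, hi⟩ := hsurj _ hb
      apply hev_inj
      have h' : (a : AddMonoid.End (Additive V)) ((b : AddMonoid.End (Additive V)) v) = 0 :=
        congrArg (fun a : A => (a : AddMonoid.End (Additive V)) v) h
      rw [← hi, hcommA _ a.2] at h'
      have hli : Function.Injective (l ^ i) := by
        intro p q hpq
        obtain ⟨p, rfl⟩ := Additive.ofMul.surjective p
        obtain ⟨q, rfl⟩ := Additive.ofMul.surjective q
        congr 1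
        apply Subtype.ext
        have h'' := congrArg (fun x : Additive ↥V => ((Additive.toMul x : ↥V) : U)) hpq
        simp only [hl] at h''
        exact (y ^ i).injective h''
      exact hli (h'.trans (map_zero (l ^ i)).symm)
  have : IsDomain A := NoZeroDivisors.to_isDomain A
  let : Field A := (Finite.isField_of_domain A).toField
  choose ev hev using hev_surj
  have hev' : ∀ a : A, ev ((a : AddMonoid.End (Additive V)) v) = a := fun a => hev_inj _ _ (hev _)
  -- lifts and commutators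
  let g : ↥V → U := fun w => (φ w).out
  have hg : ∀ w, (QuotientGroup.mk (g w) : U ⧸ V) = φ w := fun w => QuotientGroup.out_eq' _
  have hcm : ∀ u₁ u₂ w₁ w₂ : U, (QuotientGroup.mk u₁ : U ⧸ V) = QuotientGroup.mk u₂ →
      (QuotientGroup.mk w₁ : U ⧸ V) = QuotientGroup.mk w₂ → cmt u₁ w₁ = cmt u₂ w₂ := by
    intro u₁ u₂ w₁ w₂ h1 h2
    rw [QuotientGroup.eq] at h1 h2
    obtain ⟨a, ha, rfl⟩ : ∃ a ∈ V, u₂ = u₁ * a := ⟨_, h1, by group⟩
    obtain ⟨b, hb, rfl⟩ : ∃ b ∈ V, w₂ = w₁ * b := ⟨_, h2, by group⟩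
    unfold cmt
    rw [mul_inv_rev, mul_inv_rev]
    symm
    calc u₁ * a * (w₁ * b) * (a⁻¹ * u₁⁻¹) * (b⁻¹ * w₁⁻¹)
        = u₁ * (a * (w₁ * b)) * a⁻¹ * u₁⁻¹ * b⁻¹ * w₁⁻¹ := by group
      _ = u₁ * w₁ * (b * u₁⁻¹) * b⁻¹ * w₁⁻¹ := by rw [← hc0 _ a ha]; group
      _ = u₁ * w₁ * u₁⁻¹ * w₁⁻¹ := by rw [← hc0 _ b hb]; group
  have hcmul : ∀ u w₁ w₂ : U, cmt u (w₁ * w₂) = cmt u w₁ * cmt u w₂ := by
    intro u w₁ w₂
    have h1 : cmt u (w₁ * w₂) = u * w₁ * u⁻¹ * (cmt u w₂ * w₁⁻¹) := by unfold cmt; group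
    have hm : cmt u w₂ ∈ V := hQc u w₂
    rw [h1, ← hc0 w₁⁻¹ _ hm]
    unfold cmt; group
  have hVinv : ∀ a : ↥V, a⁻¹ = a := fun a =>
    inv_eq_of_mul_eq_one_right (Subtype.ext (by simpa [pow_two] using hVe a a.2))
  let β : ↥V → ↥V → ↥V := fun a b => ⟨cmt (g a) (g b), hQc _ _⟩
  let B : A → A → A := fun a b =>
    ev (Additive.ofMul (β (Additive.toMul ((a : AddMonoid.End (Additive V)) v)) (Additive.toMul ((b : AddMonoid.End (Additive V)) v))))
  have hβeq : ∀ (i : ℕ) (a b a' b' : ↥V), (a' : U) = (y ^ i) a → (b' : U) = (y ^ i) b →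
      (β a' b' : U) = (y ^ i) (β a b) := by
    intro i
    induction i with
    | zero => intro a b a' b' ha hb; obtain rfl : a' = a := Subtype.ext (by simpa using ha); obtain rfl : b' = b := Subtype.ext (by simpa using hb); simp
    | succ i ih =>
      intro a b a' b' ha hb
      rw [pow_succ, MulAut.mul_apply] at ha hb ⊢
      rw [ih (yV a) (yV b) a' b' ha hb]
      congr 1
      show cmt (g (yV a)) (g (yV b)) = y (cmt (g a) (g b))
      rw [hcm (g (yV a)) (y (g a)) (g (yV b)) (y (g b)) ((hg _).trans (hφ a _ (hg a))) ((hg _).trans (hφ b _ (hg b)))]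
      simp [cmt]
  have h2 : (2 : A) = 0 := by
    apply hev_inj
    rw [show (2 : A) = 1 + 1 by norm_num]
    apply Additive.toMul.injective
    show v₀ * v₀ = 1
    rw [← mul_inv_cancel v₀, hVinv]
  have hB := alternating_semilinear_zero h2 B ?_ ?_ ?_ ?_
  · constructor
    constructor
    intro u w
    have h := hB (ev (Additive.ofMul (φ.symm (QuotientGroup.mk u)))) (ev (Additive.ofMul (φ.symm (QuotientGroup.mk w))))
    simp only [B, hev, toMul_ofMul] at h
    have h' : β (φ.symm (QuotientGroup.mk u)) (φ.symm (QuotientGroup.mk w)) = 1 := by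
      have h'' := congrArg (fun a : A => Additive.toMul ((a : AddMonoid.End (Additive V)) v)) h
      simp only [hev, toMul_ofMul] at h''
      exact h''
    have h3 : cmt u w = 1 := by
      rw [hcm u (g (φ.symm (QuotientGroup.mk u))) w (g (φ.symm (QuotientGroup.mk w))) (by rw [hg, MulEquiv.apply_symm_apply]) (by rw [hg, MulEquiv.apply_symm_apply])]
      exact congrArg Subtype.val h'
    unfold cmt at h3
    rwa [← commutatorElement_def, commutatorElement_eq_one_iff_mul_comm] at h3
  · intro a b c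
    apply hev_inj
    simp only [B, hev]
    show _ = (ev _ : AddMonoid.End (Additive V)) v + (ev _ : AddMonoid.End (Additive V)) v
    rw [hev, hev, ← ofMul_mul]
    congr 1
    apply Subtype.ext
    show cmt _ (g _) = cmt _ (g _) * cmt _ (g _)
    rw [← hcmul]
    apply hcm _ _ _ _ rfl
    rw [QuotientGroup.mk_mul, hg, hg, hg, ← map_mul]
    rfl
  · intro a
    apply hev_inj
    simp only [B, hev]
    apply Additive.toMul.injective
    apply Subtype.ext
    show cmt _ _ = (1 : U)
    simp [cmt]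
  · intro a b
    apply hev_inj
    simp only [B, hev]
    congr 1
    rw [← hVinv (β (Additive.toMul ((b : AddMonoid.End (Additive V)) v)) _)]
    apply Subtype.ext
    show cmt _ _ = (cmt _ _)⁻¹
    unfold cmt; group
  · intro c a b hc
    obtain ⟨i, hi⟩ := hsurj ((c : AddMonoid.End (Additive V)) v) (fun h => hc (hev_inj c 0 h))
    have hci : (c : AddMonoid.End (Additive V)) = l ^ i :=
      congrArg Subtype.val (hev_inj c ⟨l ^ i, pow_mem hlA i⟩ hi.symm)
    apply hev_inj
    simp only [B, hev, Subring.coe_mul, AddMonoid.End.coe_mul, Function.comp_apply, hci]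
    apply Additive.toMul.injective
    apply Subtype.ext
    rw [hl]
    exact hβeq i _ _ _ _ (hl i (Additive.toMul _)) (hl i (Additive.toMul _))

end

/-- Let U be a group of order q² with q = 2^n ≥ 2, and y an automorphism of U of order q − 1 all of whose nontrivial powers fix only the identity. Let V be a proper normal y-invariant subgroup of U such that V and U/V are elementary abelian 2-groups and there is an isomorphism from V to U/V commuting with the actions of y. Then U is abelian. -/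
theorem result {U : Type*} [Group U] [Finite U] (n : ℕ) (hn : 1 ≤ n) (hU : Nat.card U = (2 ^ n) ^ 2)
    (y : MulAut U) (hy : orderOf y = 2 ^ n - 1) (hfp : ∀ k : ℕ, y ^ k ≠ 1 → ∀ u : U, (y ^ k) u = u → u = 1)
    (V : Subgroup U) [V.Normal] (hV : V ≠ ⊤) (hyV : ∀ v ∈ V, y v ∈ V)
    (hVe : ∀ v ∈ V, v ^ 2 = 1) (hQe : ∀ u : U, u ^ 2 ∈ V) (hQc : ∀ u w : U, u * w * u⁻¹ * w⁻¹ ∈ V)
    (φ : ↥V ≃* U ⧸ V) (hφ : ∀ (v : ↥V) (u : U), (QuotientGroup.mk u : U ⧸ V) = φ v → φ ⟨y v, hyV v v.2⟩ = QuotientGroup.mk (y u)) :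
    IsMulCommutative U := by
  exact main n hn hU y hy hfp V hV hyV hVe hQe hQc φ hφ

end Cfsg.Agent.S3158
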