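import Cfsg.Statements.S3161
import Cfsg.Agent.Lib.InvChar.TransitiveFixedModel

set_option autoImplicit false
open Cfsg

namespace Cfsg.Agent.S3161

/-- Let Q be a non-abelian finite 2-group admitting commuting automorphisms α of order 2 and ρ of order 2^n − 1, where n ≥ 2, such that the fixed points of α form an elementary abelian subgroup of order 2^n on whose nonidentity elements the group generated by ρ acts transitively. Then Q is isomorphic to a Sylow 2-subgroup of the projective special unitary group of dimension 3 with parameter 2^n (realised over the field with 4^n elements) or of the projective special linear group of dimension 3 over the field with 2^n elements. -/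
theorem result {Q : Type*} [Group Q] [Finite Q] (hQ : IsPGroup 2 Q) (hna : ¬ IsMulCommutative Q) (n : ℕ) (hn : 2 ≤ n)
    (α ρ : MulAut Q) (hα : orderOf α = 2) (hρ : orderOf ρ = 2 ^ n - 1) (hc : Commute α ρ)
    (C : Subgroup Q) (hC : ∀ x : Q, x ∈ C ↔ α x = x) (hCE : Cfsg.IsElementaryAbelian 2 C ∧ Nat.card ↥C = 2 ^ n)
    (htr : ∀ x y : Q, x ∈ C → y ∈ C → x ≠ 1 → y ≠ 1 → ∃ k : ℕ, (ρ ^ k) x = y) :
    (∃ (F : Type) (_ : Field F) (_ : Fintype F), Fintype.card F = 4 ^ n ∧
        ∃ S : Sylow 2 (Cfsg.PSU 3 F (2 ^ n)), Nonempty (Q ≃* ↥(S : Subgroup (Cfsg.PSU 3 F (2 ^ n))))) ∨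
      (∃ (F : Type) (_ : Field F) (_ : Fintype F), Fintype.card F = 2 ^ n ∧
        ∃ S : Sylow 2 (Matrix.ProjectiveSpecialLinearGroup (Fin 3) F), Nonempty (Q ≃* ↥(S : Subgroup (Matrix.ProjectiveSpecialLinearGroup (Fin 3) F)))) := by
  classical
  have : IsMulCommutative C := hCE.1.1
  have hinv : ∀ a ∈ C, ρ a ∈ C := fun a ha => by
    rw [hC] at ha ⊢
    have := DFunLike.congr_fun hc.eq a
    rw [MulAut.mul_apply, MulAut.mul_apply, ha] at this
    exact this
  obtain ⟨μ, cC, hinj, hadd, hmem, hρC, hgen⟩ :=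
    CfsgLib.InvCharTransFix.exists_field ρ C n hn hCE.1.1 hCE.1.2 hCE.2 hinv htr
  let _ : Fintype (GaloisField 2 n) := Fintype.ofFinite _
  have hq : Fintype.card (GaloisField 2 n) = 2 ^ n := by
    rw [← Nat.card_eq_fintype_card]; exact GaloisField.card 2 n (by omega)
  have h4 : 4 ≤ Fintype.card (GaloisField 2 n) := by
    rw [hq]; exact (Nat.pow_le_pow_right (by norm_num) hn : 2 ^ 2 ≤ 2 ^ n)
  have S : CfsgLib.InvCharTransFix.Setup α ρ μ cC := by
    refine ⟨hQ, fun a => ?_, fun a => DFunLike.congr_fun hc.eq a, fun a => ?_, hinj, hadd,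
      fun a => (hC a).symm.trans (hmem a), hρC⟩
    · have := DFunLike.congr_fun (pow_orderOf_eq_one α) a
      rwa [hα, pow_two, MulAut.mul_apply] at this
    · rw [hq, ← hρ, pow_orderOf_eq_one]; rfl
  rcases CfsgLib.InvCharTransFix.classification_aux hgen h4 (Nat.card Q) Q α ρ cC le_rfl S with
    hA | ⟨cD, px, py, β, K⟩
  · exact absurd ⟨⟨hA⟩⟩ hna
  by_cases hr : ∃ r : GaloisField 2 n, r ^ 2 + r = β
  · obtain ⟨r, hr⟩ := hr
    obtain ⟨f⟩ := CfsgLib.InvCharTransFix.nonempty_equiv_uni hgen h4 K r hr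
    let S₂ : Sylow 2 (Matrix.ProjectiveSpecialLinearGroup (Fin 3) (GaloisField 2 n)) := default
    obtain ⟨g⟩ := CfsgLib.InvCharThree.uni_equiv_sylow_psl (by omega) hq S₂
    exact Or.inr ⟨GaloisField 2 n, inferInstance, inferInstance, hq, S₂, ⟨f.trans g⟩⟩
  · push Not at hr
    obtain ⟨L, iF, iFt, q, hF, he, hqc, f⟩ := CfsgLib.InvCharTransFix.nonempty_equiv_herm hgen h4 K hr
    have hqn : q = 2 ^ n := hqc.trans hq
    subst hqn
    let _ := CfsgLib.InvCharThree.hermGroup hF he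
    obtain ⟨f⟩ := f
    let S₂ : Sylow 2 (Cfsg.PSU 3 L (2 ^ n)) := default
    obtain ⟨g⟩ := CfsgLib.InvCharThree.herm_equiv_sylow_psu hF he (n := n) rfl S₂
    refine Or.inl ⟨L, iF, iFt, ?_, S₂, ⟨f.trans g⟩⟩
    rw [hF, ← pow_mul, mul_comm, pow_mul]; norm_num

end Cfsg.Agent.S3161
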