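import Cfsg.Statements.S3162
import Cfsg.Agent.Lib.InvChar.HermAut

set_option autoImplicit false
open Cfsg

namespace Cfsg.Agent.S3162

/-- Let S be a Sylow 2-subgroup of the special unitary group of dimension 3 with parameter q = 2^n (n ≥ 2; realised over the field with q² elements). Then the largest normal 2-subgroup of the automorphism group of S is elementary abelian of order 2^(2n²), and the automorphism group has order 2^(2n²) · 2n(q² − 1). -/
theorem result {S : Type*} [Group S] [Finite S] (n : ℕ) (hn : 2 ≤ n) {F : Type*} [Field F] [Fintype F] (hF : Fintype.card F = 4 ^ n)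
    (P : Sylow 2 ↥(Cfsg.SU 3 F (2 ^ n))) (hS : Nonempty (S ≃* ↥(P : Subgroup ↥(Cfsg.SU 3 F (2 ^ n))))) :
    Cfsg.IsElementaryAbelian 2 (Cfsg.pCore 2 (MulAut S)) ∧ Nat.card ↥(Cfsg.pCore 2 (MulAut S)) = 2 ^ (2 * n ^ 2) ∧
      Nat.card (MulAut S) = 2 ^ (2 * n ^ 2) * (2 * n * ((2 ^ n) ^ 2 - 1)) := by
  obtain ⟨g⟩ := hS
  have hF' : Fintype.card F = (2 ^ n) ^ 2 := by rw [hF, ← pow_mul, mul_comm, pow_mul]; norm_num
  have he : Even (2 ^ n) := even_two.pow_of_ne_zero (by omega)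
  have : Fact (Fintype.card F = (2 ^ n) ^ 2) := ⟨hF'⟩
  have : Fact (Even (2 ^ n)) := ⟨he⟩
  let _ := CfsgLib.InvCharThree.hermGroup hF' he
  obtain ⟨f⟩ := CfsgLib.InvCharThree.herm_equiv_sylow_su hF' he (n := n) rfl P
  let e : MulAut (CfsgLib.InvCharThree.Herm F (2 ^ n)) ≃* MulAut S := MulAut.congr (f.trans g.symm)
  have : Finite (MulAut (CfsgLib.InvCharThree.Herm F (2 ^ n))) := Finite.of_injective _ DFunLike.coe_injective
  have hp : Cfsg.pCore 2 (MulAut S) =
      (CfsgLib.InvCharHermAut.res (F := F) (q := 2 ^ n)).ker.map e.toMonoidHom := by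
    refine Eq.trans (CfsgLib.PCore.map_pCore_equiv e).symm ?_
    congr 1
    exact CfsgLib.InvCharHermAut.pCore_eq_ker (F := F) (q := 2 ^ n)
  have hk : Nat.card (CfsgLib.InvCharHermAut.res (F := F) (q := 2 ^ n)).ker = 2 ^ (2 * n ^ 2) := by
    refine (CfsgLib.InvCharHermAut.card_ker (n := n) rfl).trans ?_
    rw [← pow_mul]; ring_nf
  obtain ⟨hcomm, hexp⟩ := CfsgLib.InvCharHermAut.ker_elementary (F := F) (q := 2 ^ n)
  refine ⟨⟨?_, ?_⟩, ?_, ?_⟩
  · rw [hp]
    refine ⟨⟨?_⟩⟩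
    rintro ⟨_, a, ha, rfl⟩ ⟨_, b, hb, rfl⟩
    refine Subtype.ext ?_
    show e a * e b = e b * e a
    have hab : a * b = b * a := congrArg Subtype.val (hcomm.is_comm.comm ⟨a, ha⟩ ⟨b, hb⟩)
    rw [← map_mul, ← map_mul, hab]
  · rw [hp]
    rintro _ ⟨a, ha, rfl⟩
    rw [← map_pow, hexp a ha, map_one]
  · rw [hp, Subgroup.card_map_of_injective e.injective, hk]
  · rw [← Nat.card_congr e.toEquiv,
      ← Subgroup.card_mul_index (CfsgLib.InvCharHermAut.res (F := F) (q := 2 ^ n)).ker,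
      Subgroup.index_ker, hk]
    exact congrArg _ (CfsgLib.InvCharHermAut.card_range (n := n) rfl)

end Cfsg.Agent.S3162
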