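import Cfsg.Statements.S3163
import Mathlib

set_option autoImplicit false
open Cfsg

namespace Cfsg.Agent.S3163

/-- Reversing a factorisation. -/
theorem hswap {S : Type*} [Group S] (A B : Subgroup S) (h : ∀ s : S, ∃ a ∈ A, ∃ b ∈ B, s = a * b)
    (s : S) : ∃ b ∈ B, ∃ a ∈ A, s = b * a := by
  obtain ⟨a, ha, b, hb, hs⟩ := h s⁻¹
  exact ⟨b⁻¹, B.inv_mem hb, a⁻¹, A.inv_mem ha, by rw [← mul_inv_rev, ← hs, inv_inv]⟩

/-- If `S = AB` and `A ⊓ C ≤ A ⊓ B` then `|C| ≤ |B|`. -/
theorem card_le {S : Type*} [Group S] [Finite S] (A B C : Subgroup S)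
    (h : ∀ s : S, ∃ a ∈ A, ∃ b ∈ B, s = a * b) (hC : A ⊓ C ≤ A ⊓ B) : Nat.card C ≤ Nat.card B := by
  have h1 : A.index ≤ A.relIndex B := by
    refine Nat.card_le_card_of_surjective (Quotient.map' (fun x : B => (x : S)) fun x y hxy => ?_) ?_
    · rw [QuotientGroup.leftRel_apply] at hxy ⊢
      simpa [Subgroup.mem_subgroupOf] using hxy
    · intro q
      obtain ⟨s, rfl⟩ := Quotient.mk''_surjective q
      obtain ⟨b, hb, a, ha, rfl⟩ := hswap A B h s
      refine ⟨Quotient.mk'' ⟨b, hb⟩, ?_⟩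
      rw [Quotient.map'_mk'', Quotient.eq'', QuotientGroup.leftRel_apply]
      simpa using ha
  have h2 : A.relIndex C ≤ A.index := by
    rw [← Subgroup.relIndex_top_right]
    exact Subgroup.relIndex_le_of_le_right le_top Subgroup.index_ne_zero_of_finite
  have e : ∀ K : Subgroup S, Nat.card ↥(A ⊓ K) * A.relIndex K = Nat.card K := by
    intro K
    rw [← Subgroup.inf_relIndex_right, ← Subgroup.relIndex_bot_left, ← Subgroup.relIndex_bot_left]
    exact Subgroup.relIndex_mul_relIndex _ _ _ bot_le inf_le_right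
  calc Nat.card C = Nat.card ↥(A ⊓ C) * A.relIndex C := (e C).symm
    _ ≤ Nat.card ↥(A ⊓ B) * A.relIndex B :=
      Nat.mul_le_mul (Nat.card_le_card_of_injective _ (Subgroup.inclusion_injective hC)) (h2.trans h1)
    _ = Nat.card B := e B

/-- Let S be a non-abelian finite 2-group which is the product S = AB of two elementary abelian subgroups A and B, and suppose that the centralizer in S of every element of A outside B is exactly A. Then the centralizer of every element of B outside A is exactly B; A and B are maximal elementary abelian subgroups of S and the only ones; the centre of S is A ∩ B; and every element of S outside A ∪ B has centralizer of order at most min(|A|, |B|). -/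
theorem result {S : Type*} [Group S] [Finite S] (hS : IsPGroup 2 S) (hna : ¬ IsMulCommutative S) (A B : Subgroup S)
    (hA : Cfsg.IsElementaryAbelian 2 A) (hB : Cfsg.IsElementaryAbelian 2 B) (hAB : ∀ s : S, ∃ a ∈ A, ∃ b ∈ B, s = a * b)
    (hC : ∀ a ∈ A, a ∉ B → Subgroup.centralizer ({a} : Set S) = A) :
    (∀ b ∈ B, b ∉ A → Subgroup.centralizer ({b} : Set S) = B) ∧
      (∀ E : Subgroup S, Cfsg.IsElementaryAbelian 2 E → (∀ E' : Subgroup S, Cfsg.IsElementaryAbelian 2 E' → E ≤ E' → E' = E) → E = A ∨ E = B) ∧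
      (∀ E' : Subgroup S, Cfsg.IsElementaryAbelian 2 E' → A ≤ E' → E' = A) ∧ (∀ E' : Subgroup S, Cfsg.IsElementaryAbelian 2 E' → B ≤ E' → E' = B) ∧
      Subgroup.center S = A ⊓ B ∧
      (∀ x : S, x ∉ A → x ∉ B → Nat.card ↥(Subgroup.centralizer ({x} : Set S)) ≤ min (Nat.card ↥A) (Nat.card ↥B)) := by
  have hAc : ∀ x ∈ A, ∀ y ∈ A, x * y = y * x := fun x hx y hy =>
    congrArg Subtype.val (hA.1.is_comm.comm ⟨x, hx⟩ ⟨y, hy⟩)
  have hBc : ∀ x ∈ B, ∀ y ∈ B, x * y = y * x := fun x hx y hy =>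
    congrArg Subtype.val (hB.1.is_comm.comm ⟨x, hx⟩ ⟨y, hy⟩)
  have hS' : ¬ ∀ x y : S, x * y = y * x := fun hc => hna ⟨⟨hc⟩⟩
  obtain ⟨a₀, ha₀, ha₀B⟩ : ∃ a ∈ A, a ∉ B := by
    by_contra! hc
    refine hS' fun x y => ?_
    obtain ⟨a, ha, b, hb, rfl⟩ := hAB x
    obtain ⟨a', ha', b', hb', rfl⟩ := hAB y
    exact hBc _ (B.mul_mem (hc a ha) hb) _ (B.mul_mem (hc a' ha') hb')
  obtain ⟨b₀, hb₀, hb₀A⟩ : ∃ b ∈ B, b ∉ A := by
    by_contra! hc
    refine hS' fun x y => ?_
    obtain ⟨a, ha, b, hb, rfl⟩ := hAB x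
    obtain ⟨a', ha', b', hb', rfl⟩ := hAB y
    exact hAc _ (A.mul_mem ha (hc b hb)) _ (A.mul_mem ha' (hc b' hb'))
  -- an element of `A` and one of `B` which commute
  have key : ∀ a ∈ A, ∀ b ∈ B, a * b = b * a → a ∈ B ∨ b ∈ A := by
    intro a ha b hb hab
    by_cases h : a ∈ B
    · exact Or.inl h
    · exact Or.inr (by rw [← hC a ha h, Subgroup.mem_centralizer_singleton_iff]; exact hab.symm)
  have hCB : ∀ b ∈ B, b ∉ A → Subgroup.centralizer ({b} : Set S) = B := by
    intro b hb hbA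
    refine le_antisymm (fun x hx => ?_) (fun x hx => ?_)
    · rw [Subgroup.mem_centralizer_singleton_iff] at hx
      obtain ⟨a, ha, b', hb', rfl⟩ := hAB x
      have hcomm : a * b = b * a := by
        apply mul_right_cancel (b := b')
        rw [mul_assoc, hBc b hb b' hb', ← mul_assoc, hx, mul_assoc]
      exact B.mul_mem ((key a ha b hb hcomm).resolve_right hbA) hb'
    · rw [Subgroup.mem_centralizer_singleton_iff]
      exact hBc x hx b hb
  have hinf : ∀ z ∈ A ⊓ B, ∀ x : S, x * z = z * x := by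
    intro z hz x
    obtain ⟨a, ha, b, hb, rfl⟩ := hAB x
    rw [mul_assoc, hBc b hb z hz.2, ← mul_assoc, hAc a ha z hz.1, mul_assoc]
  have hAmax : ∀ E' : Subgroup S, Cfsg.IsElementaryAbelian 2 E' → A ≤ E' → E' = A := by
    intro E hE hle
    refine le_antisymm (fun x hx => ?_) hle
    rw [← hC a₀ ha₀ ha₀B, Subgroup.mem_centralizer_singleton_iff]
    exact congrArg Subtype.val (hE.1.is_comm.comm ⟨x, hx⟩ ⟨a₀, hle ha₀⟩)
  have hBmax : ∀ E' : Subgroup S, Cfsg.IsElementaryAbelian 2 E' → B ≤ E' → E' = B := by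
    intro E hE hle
    refine le_antisymm (fun x hx => ?_) hle
    rw [← hCB b₀ hb₀ hb₀A, Subgroup.mem_centralizer_singleton_iff]
    exact congrArg Subtype.val (hE.1.is_comm.comm ⟨x, hx⟩ ⟨b₀, hle hb₀⟩)
  have hinv : ∀ x : S, x ^ 2 = 1 → x ∈ A ∨ x ∈ B := by
    intro x hx
    obtain ⟨a, ha, b, hb, rfl⟩ := hAB x
    have ha2 : a * a = 1 := by rw [← pow_two]; exact hA.2 a ha
    have hb2 : b * b = 1 := by rw [← pow_two]; exact hB.2 b hb
    have hcomm : a * b = b * a :=
      calc a * b = (a * a) * (a * b) * (b * b) := by rw [ha2, hb2, one_mul, mul_one]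
        _ = a * ((a * (a * b) * b)) * b := by group
        _ = b * a := by
          have h1 : (a * b) * (a * b) = 1 := by rw [← pow_two]; exact hx
          have h2 : b * a = a⁻¹ * b⁻¹ := by
            rw [eq_inv_mul_iff_mul_eq, eq_inv_iff_mul_eq_one]; simpa [mul_assoc] using h1
          rw [h2, inv_eq_of_mul_eq_one_right ha2, inv_eq_of_mul_eq_one_right hb2]
          simp [← mul_assoc, ha2, hb2]
    rcases key a ha b hb hcomm with h | h
    · exact Or.inr (B.mul_mem h hb)
    · exact Or.inl (A.mul_mem ha h)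
  refine ⟨hCB, ?_, hAmax, hBmax, ?_, ?_⟩
  · intro E hE hmax
    have hsub : E ≤ A ∨ E ≤ B := by
      by_contra! hc
      obtain ⟨x, hx, hxA⟩ := SetLike.not_le_iff_exists.1 hc.1
      obtain ⟨y, hy, hyB⟩ := SetLike.not_le_iff_exists.1 hc.2
      have hxB := (hinv x (hE.2 x hx)).resolve_left hxA
      have hyA := (hinv y (hE.2 y hy)).resolve_right hyB
      rcases hinv (x * y) (hE.2 _ (E.mul_mem hx hy)) with h | h
      · exact hxA ((A.mul_mem_cancel_right hyA).1 h)
      · exact hyB ((B.mul_mem_cancel_left hxB).1 h)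
    rcases hsub with h | h
    · exact Or.inl (hmax A hA h).symm
    · exact Or.inr (hmax B hB h).symm
  · refine le_antisymm (fun z hz => ?_) (fun z hz => Subgroup.mem_center_iff.2 (hinf z hz))
    rw [Subgroup.mem_center_iff] at hz
    refine Subgroup.mem_inf.2 ⟨?_, ?_⟩
    · rw [← hC a₀ ha₀ ha₀B, Subgroup.mem_centralizer_singleton_iff]; exact (hz a₀).symm
    · rw [← hCB b₀ hb₀ hb₀A, Subgroup.mem_centralizer_singleton_iff]; exact (hz b₀).symm
  · intro x hxA hxB
    set C := Subgroup.centralizer ({x} : Set S) with hCdef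
    obtain ⟨a, ha, b, hb, rfl⟩ := hAB x
    have haB : a ∉ B := fun h => hxB (B.mul_mem h hb)
    have hbA : b ∉ A := fun h => hxA (A.mul_mem ha h)
    have hCA : A ⊓ C ≤ A ⊓ B := by
      rintro c ⟨hc, hcC⟩
      refine ⟨hc, ?_⟩
      rw [hCdef] at hcC
      replace hcC : c * (a * b) = (a * b) * c := Subgroup.mem_centralizer_singleton_iff.1 hcC
      have : c * b = b * c := by
        apply mul_left_cancel (a := a)
        rw [← mul_assoc, hAc a ha c hc, mul_assoc, hcC, mul_assoc]
      exact (key c hc b hb this).resolve_right hbA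
    have hCB' : B ⊓ C ≤ B ⊓ A := by
      rintro c ⟨hc, hcC⟩
      refine ⟨hc, ?_⟩
      rw [hCdef] at hcC
      replace hcC : c * (a * b) = (a * b) * c := Subgroup.mem_centralizer_singleton_iff.1 hcC
      have : a * c = c * a := by
        apply mul_right_cancel (b := b)
        rw [mul_assoc, hBc c hc b hb, ← mul_assoc, ← hcC, mul_assoc]
      exact (key a ha c hc this).resolve_left haB
    exact le_min (card_le B A C (fun s => hswap A B hAB s) hCB') (card_le A B C hAB hCA)

end Cfsg.Agent.S3163
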