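import Cfsg.Statements.S3164
import Cfsg.Agent.Lib.Components.FStar
import Cfsg.Agent.Lib.Coprime.Commutator
import Cfsg.Agent.Lib.RankOneInvol.OddGroup
import Cfsg.Agent.Lib.Techniques.Basic
import Cfsg.Agent.Lib.Solvable.Fitting

set_option autoImplicit false
open Cfsg

namespace Cfsg.Agent.S3164

open Subgroup
open scoped commutatorElement

/-- The main argument. -/
theorem main {G : Type*} [Group G] [Finite G] (A : Subgroup G) (hA : Cfsg.IsStandardSubgroup A)
    (hcyc : ∀ R : Sylow 2 ↥(Subgroup.centralizer (A : Set G)), IsCyclic ↥(R : Subgroup ↥(Subgroup.centralizer (A : Set G)))) (t : G) (ht : orderOf t = 2) (htA : t ∈ Subgroup.centralizer (A : Set G))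
    (R : Subgroup G) (_hR2 : IsPGroup 2 ↥R) (hRX : R ≤ Subgroup.normalClosure (A : Set G)) (_hRt : ∀ r ∈ R, t * r * t⁻¹ ∈ R)
    (hc1 : ⁅R, Subgroup.zpowers t⁆ ≠ ⊥) (hc2 : ⁅R, Subgroup.zpowers t⁆ ≤ A) :
    Cfsg.layer ↥(Subgroup.normalClosure (A : Set G)) = ⊤ ∧ Odd (Nat.card ↥(Subgroup.center ↥(Subgroup.normalClosure (A : Set G)))) := by
  obtain ⟨hqs, ⟨-, htight⟩, -, hnorm⟩ := hA
  have : Fact (Nat.Prime 2) := ⟨Nat.prime_two⟩
  have hperf : ⁅A, A⁆ = A := Subgroup.isPerfect_iff.mp hqs.1
  have ht1 : t ≠ 1 := fun e => by rw [e, orderOf_one] at ht; omega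
  have htt : t * t = 1 := by rw [← pow_two, ← ht, pow_orderOf_eq_one]
  have hti : t⁻¹ = t := inv_eq_of_mul_eq_one_right htt
  have htc : ∀ a ∈ A, a * t = t * a := fun a ha => mem_centralizer_iff.1 htA a ha
  -- a unique involution in each commuting family inside the centralizer
  have huniq : ∀ x y : G, x ∈ centralizer (A : Set G) → y ∈ centralizer (A : Set G) → orderOf x = 2 →
      orderOf y = 2 → x * y = y * x → x = y := by
    intro x y hx hy ox oy hxy
    let x' : centralizer (A : Set G) := ⟨x, hx⟩
    let y' : centralizer (A : Set G) := ⟨y, hy⟩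
    let K := Subgroup.closure ({x', y'} : Set (centralizer (A : Set G)))
    have hcom : Commute x' y' := Subtype.ext hxy
    have hK : IsPGroup 2 K := by
      rintro ⟨k, hk⟩
      have hle : K ≤ Subgroup.centralizer ({x', y'} : Set (centralizer (A : Set G))) := by
        refine (Subgroup.closure_le _).2 ?_
        rintro z hz w hw
        simp only [Set.mem_insert_iff, Set.mem_singleton_iff] at hz hw
        rcases hz with rfl | rfl <;> rcases hw with rfl | rfl <;> first | rfl | exact hcom | exact hcom.symm
      refine ⟨1, Subtype.ext ?_⟩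
      show k ^ 2 ^ 1 = 1
      rw [pow_one]
      revert hk
      intro hk
      induction hk using Subgroup.closure_induction with
      | mem z hz =>
        simp only [Set.mem_insert_iff, Set.mem_singleton_iff] at hz
        rcases hz with rfl | rfl
        · exact Subtype.ext (by show x ^ 2 = 1; rw [← ox, pow_orderOf_eq_one])
        · exact Subtype.ext (by show y ^ 2 = 1; rw [← oy, pow_orderOf_eq_one])
      | one => simp
      | mul z w hz hw ihz ihw =>
        have hzc : ∀ u ∈ K, Commute z u := by
          intro u hu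
          have h' : K ≤ Subgroup.centralizer (K : Set (centralizer (A : Set G))) :=
            (Subgroup.closure_le _).2 fun v hv u hu => (hle hu v hv).symm
          exact (Commute.symm (h' hz u hu) : _)
        rw [(hzc w hw).mul_pow, ihz, ihw, one_mul]
      | inv z hz ihz => rw [inv_pow, ihz, inv_one]
    obtain ⟨Q, hQ⟩ := hK.exists_le_sylow
    have := hcyc Q
    classical
    have := Fintype.ofFinite (Q : Subgroup (centralizer (A : Set G)))
    by_contra hne
    have hxQ : x' ∈ (Q : Subgroup _) := hQ (Subgroup.subset_closure (Or.inl rfl))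
    have hyQ : y' ∈ (Q : Subgroup _) := hQ (Subgroup.subset_closure (Or.inr rfl))
    have h2 : (Finset.univ.filter fun q : (Q : Subgroup (centralizer (A : Set G))) => orderOf q = 2).card ≤ 1 := by
      by_cases hd : 2 ∣ Fintype.card (Q : Subgroup (centralizer (A : Set G)))
      · rw [IsCyclic.card_orderOf_eq_totient hd]; rfl
      · rw [Finset.filter_false_of_mem]
        · simp
        · intro q _ hq
          have hd2 := orderOf_dvd_card (x := q)
          rw [hq] at hd2
          exact hd hd2
    have := Finset.card_le_one.1 h2 ⟨x', hxQ⟩ (by simp [← ox, Subgroup.orderOf_mk, x'])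
      ⟨y', hyQ⟩ (by simp [← oy, Subgroup.orderOf_mk, y'])
    exact hne (congrArg (fun q : (Q : Subgroup (centralizer (A : Set G))) => ((q : centralizer (A : Set G)) : G)) this)
  -- `C(t) ≤ N(A)`
  have hCN : ∀ g : G, g * t = t * g → g ∈ normalizer (A : Set G) := by
    intro g hg
    rw [hnorm]
    by_contra hgN
    have hmem : t ∈ centralizer (A : Set G) ⊓ (centralizer (A : Set G)).map (MulAut.conj g).toMonoidHom :=
      ⟨htA, ⟨t, htA, by simp [MulAut.conj_apply, hg]⟩⟩
    have h1 := Subgroup.orderOf_dvd_natCard _ hmem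
    rw [ht] at h1
    exact Nat.not_even_iff_odd.2 (htight g hgN) (even_iff_two_dvd.2 h1)
  -- the element `a = [r, t]`
  obtain ⟨r, hr, hrt⟩ : ∃ r ∈ R, ⁅r, t⁆ ≠ 1 := by
    by_contra! h
    apply hc1
    rw [eq_bot_iff, Subgroup.commutator_le]
    intro r hr s hs
    rw [Subgroup.mem_bot, commutatorElement_eq_one_iff_commute]
    obtain ⟨i, rfl⟩ := hs
    exact (commutatorElement_eq_one_iff_commute.1 (h r hr)).zpow_right i
  set a := ⁅r, t⁆ with hadef
  have haA : a ∈ A := hc2 (Subgroup.commutator_mem_commutator hr (Subgroup.mem_zpowers t))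
  have hat : a * t = r * t * r⁻¹ := by
    rw [hadef, commutatorElement_def, mul_assoc, hti, htt, mul_one]
  have hat2 : a * t * (a * t) = 1 := by
    rw [hat, show r * t * r⁻¹ * (r * t * r⁻¹) = r * (t * t) * r⁻¹ by group, htt]; group
  have haZ : a ∉ centralizer (A : Set G) := by
    intro hC
    have haa : a * a = 1 := by
      have h := hat2
      rw [mul_assoc, ← mul_assoc t, ← htc a haA, mul_assoc a t t, htt, mul_one] at h
      exact h
    have oa : orderOf a = 2 := orderOf_eq_prime (by rw [pow_two]; exact haa) hrt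
    have heq := huniq a t hC htA oa ht (htc a haA)
    rw [heq, htt] at hat
    exact ht1 (by
      have := congrArg (fun g => r⁻¹ * g * r) hat
      simpa [mul_assoc] using this.symm)
  have hAsolv : ¬ Group.IsSolvable A := CfsgLib.Components.quasisimple_not_isSolvable hqs
  -- a normal subgroup containing a noncentral element of `A` contains `A`
  have hfull : ∀ N : Subgroup G, A ≤ normalizer (N : Set G) → ∀ x ∈ A, x ∈ N → x ∉ centralizer (A : Set G) → A ≤ N := by
    intro N hN x hxA hxN hx
    have : (N.subgroupOf A).Normal := by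
      refine ⟨fun n hn g => ?_⟩
      rw [Subgroup.mem_subgroupOf] at hn ⊢
      exact (mem_normalizer_iff.1 (hN g.2) (n : G)).1 hn
    rcases CfsgLib.Components.quasisimple_normal_eq_top_or_le_center hqs (N.subgroupOf A) with h | h
    · exact Subgroup.subgroupOf_eq_top.1 h
    · exfalso
      have hc := h (show (⟨x, hxA⟩ : A) ∈ N.subgroupOf A from hxN)
      exact hx fun y hy => congrArg Subtype.val (Subgroup.mem_center_iff.1 hc ⟨y, hy⟩)
  -- commutators of `A` with fixed points of `t` in a normal subgroup `N`
  have hfix : ∀ N : Subgroup G, N.Normal → (∀ x ∈ A, x ∈ N → x ∈ centralizer (A : Set G)) →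
      ∀ c ∈ N, c * t = t * c → c ∈ centralizer (A : Set G) := by
    intro N hN hNA c hc hct
    let C := N ⊓ centralizer ({t} : Set G)
    have hCmem : c ∈ C := ⟨hc, Subgroup.mem_centralizer_singleton_iff.2 hct⟩
    have hCA : ⁅A, C⁆ ≤ centralizer (A : Set G) := by
      rw [Subgroup.commutator_le]
      intro x hx d hd
      have hd' : d ∈ normalizer (A : Set G) :=
        hCN d (Subgroup.mem_centralizer_singleton_iff.1 hd.2)
      refine hNA _ ?_ ?_
      · rw [commutatorElement_def, show x * d * x⁻¹ * d⁻¹ = x * (d * x⁻¹ * d⁻¹) by group]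
        exact mul_mem hx ((mem_normalizer_iff.1 hd' _).1 (inv_mem hx))
      · rw [commutatorElement_def]
        exact mul_mem (hN.conj_mem d hd.1 x) (inv_mem hd.1)
    have hbot : ⁅A, C⁆ = ⊥ :=
      CfsgLib.Components.commutator_eq_bot_of_perfect hperf
        (Subgroup.commutator_eq_bot_iff_le_centralizer.2 hCA)
    rw [Subgroup.commutator_comm] at hbot
    exact CfsgLib.Components.le_centralizer_of_commutator_eq_bot hbot hCmem
  -- normal subgroups of odd order are centralised by `A`
  have hodd : ∀ N : Subgroup G, N.Normal → Odd (Nat.card N) → A ≤ centralizer (N : Set G) := by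
    intro N hN hNodd
    have hCn : A ≤ normalizer ((centralizer (N : Set G) : Subgroup G) : Set G) :=
      le_top.trans (Subgroup.normalizer_eq_top (H := centralizer (N : Set G))).ge
    by_cases hA' : ∃ x ∈ A, x ∈ centralizer (N : Set G) ∧ x ∉ centralizer (A : Set G)
    · obtain ⟨x, hx, hxN, hx'⟩ := hA'
      exact hfull _ hCn x hx hxN hx'
    exfalso
    apply hA'
    refine ⟨a, haA, ?_, haZ⟩
    have hNA : ∀ x ∈ A, x ∈ N → x ∈ centralizer (A : Set G) := by
      intro x hxA hxN
      by_contra hxc
      have hAN : A ≤ N := hfull N (le_top.trans (Subgroup.normalizer_eq_top (H := N)).ge) x hxA hxN hxc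
      have hd := Subgroup.card_dvd_of_le hAN
      obtain ⟨j, hj⟩ := (IsPGroup.iff_card (G := (R : Subgroup G))).1 _hR2
      have ha2 : Odd (orderOf a) := (hNodd.of_dvd_nat (Subgroup.orderOf_dvd_natCard _ (hAN haA)))
      have haa : a * t * (a * t) = a * a := by
        rw [mul_assoc, ← mul_assoc t, ← htc a haA, mul_assoc a t t, htt, mul_one]
      rw [haa] at hat2
      have : orderOf a ∣ 2 := orderOf_dvd_of_pow_eq_one (by rw [pow_two]; exact hat2)
      rcases (Nat.dvd_prime Nat.prime_two).1 this with h | h
      · exact hrt (orderOf_eq_one_iff.1 h)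
      · rw [h] at ha2; exact absurd ha2 (by decide)
    have hcfix : ∀ c ∈ N, c * t = t * c → c * a = a * c := fun c hc hct =>
      (mem_centralizer_iff.1 (hfix N hN hNA c hc hct) a haA).symm
    have hnt : ∀ (s : G), s * s = 1 → ∀ x ∈ N, s * x * s ∈ N := fun s hs x hx => by
      have := hN.conj_mem x hx s
      rwa [inv_eq_of_mul_eq_one_right hs] at this
    set s := a * t with hsdef
    have hts : t * s = s * t := by rw [hsdef, ← mul_assoc, ← htc a haA, mul_assoc]
    -- the fixed points of `t` and of `a * t` coincide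
    have hsub : ∀ c ∈ N, t * c * t = c → s * c * s = c := by
      intro c hc hct
      have hct' : c * t = t * c := by
        calc c * t = (t * c * t) * t := by rw [hct]
          _ = t * c * (t * t) := by group
          _ = t * c := by rw [htt, mul_one]
      have hcs : c * s = s * c := by
        rw [hsdef, ← mul_assoc, hcfix c hc hct', mul_assoc, hct', ← mul_assoc]
      rw [← hcs, mul_assoc, hat2, mul_one]
    let Ct : Finset N := by
      classical
      have := Fintype.ofFinite N
      exact Finset.univ.filter fun c => t * (c : G) * t = c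
    let Cs : Finset N := by
      classical
      have := Fintype.ofFinite N
      exact Finset.univ.filter fun c => s * (c : G) * s = c
    have hri : s = r * t * r⁻¹ := hat
    have hCeq : Ct = Cs := by
      classical
      refine Finset.eq_of_subset_of_card_le (fun c hc => ?_) ?_
      · simp only [Ct, Cs, Finset.mem_filter, Finset.mem_univ, true_and] at hc ⊢
        exact hsub c c.2 hc
      · refine le_of_eq (Finset.card_bij (fun c _ => ⟨r⁻¹ * c * r, by simpa using hN.conj_mem c c.2 r⁻¹⟩) ?_ ?_ ?_)
        · intro c hc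
          simp only [Ct, Cs, Finset.mem_filter, Finset.mem_univ, true_and] at hc ⊢
          rw [hri] at hc
          calc t * (r⁻¹ * c * r) * t = r⁻¹ * (r * t * r⁻¹ * c * (r * t * r⁻¹)) * r := by group
            _ = r⁻¹ * c * r := by rw [hc]
        · intro c _ d _ h
          apply Subtype.ext
          have := congrArg Subtype.val h
          simpa using this
        · intro c hc
          refine ⟨⟨r * c * r⁻¹, hN.conj_mem c c.2 r⟩, ?_, Subtype.ext (by show r⁻¹ * (r * (c : G) * r⁻¹) * r = c; group)⟩
          simp only [Ct, Cs, Finset.mem_filter, Finset.mem_univ, true_and] at hc ⊢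
          rw [hri]
          calc r * t * r⁻¹ * (r * c * r⁻¹) * (r * t * r⁻¹) = r * (t * c * t) * r⁻¹ := by group
            _ = r * c * r⁻¹ := by rw [hc]
    have hsup : ∀ c ∈ N, s * c * s = c → t * c * t = c := by
      intro c hc hcs
      have hm : (⟨c, hc⟩ : N) ∈ Cs := by simp [Cs, hcs]
      rw [← hCeq] at hm
      simpa [Ct] using hm
    intro x hx
    obtain ⟨c, z, hcN, hct, hzN, hzt, rfl⟩ :=
      CfsgLib.RankOneInvol.exists_fixed_mul_inverted hNodd htt (hnt t htt) hx
    obtain ⟨d, j, hdN, hds, hjN, hjs, hz⟩ :=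
      CfsgLib.RankOneInvol.exists_fixed_mul_inverted hNodd hat2 (hnt s hat2) hzN
    -- `d = 1`
    have hdt := hsup d hdN hds
    have hjt : s * (t * j * t) * s = (t * j * t)⁻¹ := by
      calc s * (t * j * t) * s = (s * t) * j * (t * s) := by group
        _ = (t * s) * j * (s * t) := by rw [hts]
        _ = t * (s * j * s) * t := by group
        _ = (t * j * t)⁻¹ := by rw [hjs, mul_inv_rev, mul_inv_rev, hti]; group
    have e1 : t * z * t = d * (t * j * t) := by
      calc t * z * t = t * d * (t * t) * j * t := by rw [hz, htt]; group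
        _ = (t * d * t) * (t * j * t) := by group
        _ = d * (t * j * t) := by rw [hdt]
    have hsi : s⁻¹ = s := inv_eq_of_mul_eq_one_right hat2
    have hsx : ∀ x : G, s * x * s = MulAut.conj s x := fun x => by rw [MulAut.conj_apply, hsi]
    have hk : s * (d * j⁻¹ * d⁻¹) * s = (d * j⁻¹ * d⁻¹)⁻¹ := by
      rw [hsx, map_mul, map_mul, map_inv, map_inv, ← hsx, ← hsx, hjs, hds]; group
    have hdd : d = d⁻¹ := (CfsgLib.RankOneInvol.fixed_mul_inverted_unique hNodd hat2 (y := d) (y' := d⁻¹)
      (z := t * j * t) (z' := d * j⁻¹ * d⁻¹) hds (hnt t htt j hjN) hjt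
      (by rw [hsx, map_inv, ← hsx, hds])
      (mul_mem (mul_mem hdN (inv_mem hjN)) (inv_mem hdN)) hk
      (by rw [← e1, hzt, hz]; group)).1
    have hd1 : d = 1 := by
      have h1 : orderOf d ∣ Nat.gcd 2 (Nat.card N) :=
        Nat.dvd_gcd (orderOf_dvd_of_pow_eq_one (by rw [pow_two]; nth_rw 1 [hdd]; exact inv_mul_cancel d))
          (Subgroup.orderOf_dvd_natCard _ hdN)
      rw [Nat.coprime_two_left.2 hNodd, Nat.dvd_one] at h1
      exact orderOf_eq_one_iff.1 h1
    rw [hd1, one_mul] at hz
    subst hz
    -- so `a` fixes `z` and `c`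
    have hza : a * z = z * a := by
      have h1 : a * t * z * (a * t) = t * z * t := by rw [← hsdef, hjs, hzt]
      have h2 : a * t = t * a := htc a haA
      have h3 : a * (t * z * t) * a = t * z * t := by
        calc a * (t * z * t) * a = a * t * z * (t * a) := by group
          _ = t * z * t := by rw [← h2]; exact h1
      rw [hzt] at h3
      have haa : a * a = 1 := by
        have h := hat2
        rw [hsdef, mul_assoc, ← mul_assoc t, ← h2, mul_assoc a t t, htt, mul_one] at h
        exact h
      have h4 : a * z⁻¹ = z⁻¹ * a := by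
        calc a * z⁻¹ = a * z⁻¹ * a * a := by rw [mul_assoc _ a a, haa, mul_one]
          _ = z⁻¹ * a := by rw [h3]
      exact (Commute.inv_right_iff.1 h4 : _)
    have hca : c * a = a * c := hcfix c hcN (by
      calc c * t = (t * c * t) * t := by rw [hct]
        _ = t * c * (t * t) := by group
        _ = t * c := by rw [htt, mul_one])
    show c * z * a = a * (c * z)
    rw [mul_assoc, ← hza, ← mul_assoc, hca, mul_assoc]
  -- the 2-core is centralised
  have htwo : A ≤ centralizer (Cfsg.pCore 2 G : Set G) := by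
    have hO := CfsgLib.Fitting.pCore_normal (G := G) 2
    have hOp := CfsgLib.Fitting.pCore_isPGroup (G := G) 2
    have hNA : ∀ x ∈ A, x ∈ Cfsg.pCore 2 G → x ∈ centralizer (A : Set G) := by
      intro x hxA hxN
      by_contra hxc
      have hle : A ≤ Cfsg.pCore 2 G := hfull _ (le_top.trans (Subgroup.normalizer_eq_top (H := Cfsg.pCore 2 G)).ge) x hxA hxN hxc
      have := (hOp.to_le hle).isNilpotent
      exact hAsolv inferInstance
    have hoddel : ∀ q ∈ A, Odd (orderOf q) → q ∈ centralizer (Cfsg.pCore 2 G : Set G) := by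
      intro q hq hqo
      have hn : ∀ H : Subgroup G, H ≤ normalizer (Cfsg.pCore 2 G : Set G) := fun H =>
        le_top.trans (Subgroup.normalizer_eq_top (H := Cfsg.pCore 2 G)).ge
      refine CfsgLib.Coprime.pq_lemma 2 (zpowers t) (zpowers q)
        (IsPGroup.of_card (n := 1) (by rw [Nat.card_zpowers, ht, pow_one])) ?_ ?_ _ hOp (hn _) (hn _) ?_ (mem_zpowers q)
      · rw [Nat.card_zpowers]; exact Nat.coprime_two_right.2 hqo
      · rw [zpowers_le]
        rintro _ ⟨i, rfl⟩
        exact (Commute.zpow_left (show Commute q t from htc q hq) i).eq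
      · intro c hc
        have hct : c * t = t * c := (mem_centralizer_iff.1 hc.2 t (mem_zpowers t)).symm
        have hcA := hfix _ hO hNA c hc.1 hct
        rintro _ ⟨i, rfl⟩
        exact mem_centralizer_iff.1 hcA (q ^ i) (zpow_mem hq i)
    let D := (centralizer (Cfsg.pCore 2 G : Set G)).subgroupOf A
    have : D.Normal := Subgroup.Normal.subgroupOf inferInstance A
    have hQ : IsPGroup 2 (A ⧸ D) := by
      intro x
      induction x using QuotientGroup.induction_on with | _ x => ?_
      obtain ⟨i, m, hm, he⟩ := Nat.exists_eq_two_pow_mul_odd (orderOf_pos x).ne'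
      refine ⟨i, ?_⟩
      rw [← QuotientGroup.mk_pow, QuotientGroup.eq_one_iff]
      refine hoddel _ (x ^ 2 ^ i).2 ?_
      show Odd (orderOf ((x ^ 2 ^ i : A) : G))
      rw [Subgroup.orderOf_coe, orderOf_pow, he, Nat.gcd_mul_right_left, Nat.mul_div_cancel_left _ (by positivity)]
      exact hm
    have := hQ.isNilpotent
    have hDt : D = ⊤ := by
      by_contra hD
      have : Nontrivial (A ⧸ D) := QuotientGroup.nontrivial_iff.2 hD
      have := hqs.1
      have : Group.IsPerfect (A ⧸ D) := Group.IsPerfect.ofSurjective (QuotientGroup.mk'_surjective D)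
      exact Group.IsPerfect.not_isSolvable (A ⧸ D) inferInstance
    exact Subgroup.subgroupOf_eq_top.1 hDt
  have hFit : A ≤ centralizer (Cfsg.fittingSubgroup G : Set G) := by
    rw [Subgroup.le_centralizer_iff, CfsgLib.Fitting.fitting_eq_iSup_pCore]
    refine iSup_le fun p => ?_
    rw [← Subgroup.le_centralizer_iff]
    by_cases hp : (p : ℕ) = 2
    · rw [hp]; exact htwo
    · have hpp := Nat.prime_of_mem_primeFactors p.2
      have : Fact (p : ℕ).Prime := ⟨hpp⟩
      refine hodd _ (CfsgLib.Fitting.pCore_normal _) ?_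
      obtain ⟨k, hk⟩ := (IsPGroup.iff_card).1 (CfsgLib.Fitting.pCore_isPGroup (G := G) (p : ℕ))
      rw [hk]
      exact (hpp.odd_of_ne_two hp).pow
  -- `A` lies in the layer
  let E := Cfsg.layer G
  have hEn : E.Normal := by
    refine ⟨fun x hx g => ?_⟩
    have hle : E ≤ E.comap (MulAut.conj g).toMonoidHom := sSup_le fun K hK =>
      Subgroup.map_le_iff_le_comap.1 (le_sSup (CfsgLib.Components.isComponent_conj g hK))
    exact hle hx
  have hAE : A ≤ E := by
    have hEn' : A ≤ normalizer (E : Set G) := le_top.trans (Subgroup.normalizer_eq_top (H := E)).ge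
    by_contra hnle
    have hNA : ∀ x ∈ A, x ∈ E → x ∈ centralizer (A : Set G) := fun x hx hxE => by
      by_contra hxc; exact hnle (hfull E hEn' x hx hxE hxc)
    have hEev : 2 ∣ Nat.card E := by
      by_contra hd
      have hAEc := hodd E hEn (Nat.not_even_iff_odd.1 (mt even_iff_two_dvd.1 hd))
      have hle : A ≤ Cfsg.fittingSubgroup G :=
        (Subgroup.le_centralizer_iff.2 (sup_le (Subgroup.le_centralizer_iff.1 hAEc) (Subgroup.le_centralizer_iff.1 hFit))).trans
          CfsgLib.Components.centralizer_generalizedFitting_le_fitting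
      have := CfsgLib.Fitting.isNilpotent_of_le (CfsgLib.Fitting.fitting_isNilpotent (G := G)) hle
      exact hAsolv inferInstance
    obtain ⟨P, hP⟩ := (IsPGroup.of_card (p := 2) (n := 1) (G := zpowers t) (by rw [Nat.card_zpowers, ht, pow_one])).exists_le_sylow
    have hPE : ¬ 2 ∣ ((P : Subgroup G) ⊓ E).relIndex E := CfsgLib.Techniques.not_dvd_relIndex_inf_normal P E
    have hTev : 2 ∣ Nat.card ↥((P : Subgroup G) ⊓ E) := by
      have he : Nat.card ↥((P : Subgroup G) ⊓ E) * ((P : Subgroup G) ⊓ E).relIndex E = Nat.card E := by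
        rw [← Subgroup.relIndex_bot_left, ← Subgroup.relIndex_bot_left]
        exact Subgroup.relIndex_mul_relIndex _ _ _ bot_le inf_le_right
      rw [← he] at hEev
      exact (Nat.prime_two.dvd_mul.1 hEev).resolve_right hPE
    let Tp := ((P : Subgroup G) ⊓ E).subgroupOf (P : Subgroup G)
    have : Tp.Normal := by
      simp only [Tp, Subgroup.inf_subgroupOf_left]
      exact Subgroup.Normal.subgroupOf hEn _
    obtain ⟨b, hb, hb1⟩ := (IsPGroup.of_equiv P.2 ConjAct.toConjAct).exists_fixed_point_of_prime_dvd_card_of_fixed_point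
      ↥Tp (by rwa [Nat.card_congr (Subgroup.subgroupOfEquivOfLe inf_le_left).toEquiv]) (a := 1) (fun g => smul_one g)
    have hbE : ((b : (P : Subgroup G)) : G) ∈ E := (Subgroup.mem_inf.1 (Subgroup.mem_subgroupOf.1 b.2)).2
    have hbc : ∀ g ∈ (P : Subgroup G), g * ((b : (P : Subgroup G)) : G) = (b : (P : Subgroup G)) * g := by
      intro g hg
      have h := congrArg Subtype.val (hb (ConjAct.toConjAct ⟨g, hg⟩))
      simp only [ConjAct.Subgroup.val_conj_smul, ConjAct.toConjAct_smul] at h
      exact congrArg Subtype.val (mul_inv_eq_iff_eq_mul.1 h)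
    have hbone : ((b : (P : Subgroup G)) : G) ≠ 1 := fun e => hb1 (Subtype.ext (Subtype.ext e.symm))
    obtain ⟨k, hk⟩ := P.2 (b : (P : Subgroup G))
    have hk' : ((b : (P : Subgroup G)) : G) ^ 2 ^ k = 1 := by
      simpa using congrArg Subtype.val hk
    obtain ⟨i, hi⟩ : 2 ∣ orderOf ((b : (P : Subgroup G)) : G) := by
      obtain ⟨i, -, hi⟩ := (Nat.dvd_prime_pow Nat.prime_two).1 (orderOf_dvd_of_pow_eq_one hk')
      rcases i with _ | i
      · exact absurd (orderOf_eq_one_iff.1 hi) hbone
      · exact ⟨2 ^ i, by rw [hi, pow_succ']⟩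
    set e := ((b : (P : Subgroup G)) : G) ^ i with hedef
    have he2 : orderOf e = 2 := by
      have hipos : i ≠ 0 := by rintro rfl; exact (orderOf_pos ((b : (P : Subgroup G)) : G)).ne' (by rw [hi])
      rw [hedef, orderOf_pow, hi, Nat.gcd_mul_left_left, Nat.mul_div_cancel _ (Nat.pos_of_ne_zero hipos)]
    have het : e * t = t * e := (Commute.pow_left (show Commute ((b : (P : Subgroup G)) : G) t from (hbc t (hP (mem_zpowers t))).symm) i).eq
    have hte := huniq e t (hfix E hEn hNA e (pow_mem hbE i) het) htA he2 ht het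
    have htE : t ∈ E := hte ▸ pow_mem hbE i
    refine haZ (hNA a haA ?_)
    rw [hadef, commutatorElement_def]
    exact mul_mem (hEn.conj_mem t htE r) (inv_mem htE)
  -- conclusion
  set X := Subgroup.normalClosure (A : Set G) with hX
  have hXn : X.Normal := Subgroup.normalClosure_normal
  have hXE : X ≤ E := Subgroup.normalClosure_le_normal hAE
  have hXp : ⁅X, X⁆ = X := by
    refine le_antisymm (Subgroup.commutator_le_self X) ?_
    refine Subgroup.normalClosure_le_normal ?_
    intro x hx
    rw [SetLike.mem_coe, ← hperf] at hx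
    exact Subgroup.commutator_mono Subgroup.le_normalClosure Subgroup.le_normalClosure hx
  constructor
  · let M := sSup {K : Subgroup G | Cfsg.IsComponent K ∧ K ≤ X}
    have hMX : M ≤ X := sSup_le fun K hK => hK.2
    have hM : M = X := by
      refine le_antisymm hMX ?_
      have hEM : E ≤ M ⊔ centralizer (X : Set G) := sSup_le fun K hK => by
        rcases CfsgLib.Components.le_or_commutator_eq_bot hK (Subgroup.Normal.isSubnormal hXn) with h | h
        · exact (le_sSup (s := {K : Subgroup G | Cfsg.IsComponent K ∧ K ≤ X}) ⟨hK, h⟩).trans le_sup_left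
        · exact (CfsgLib.Components.le_centralizer_of_commutator_eq_bot h).trans le_sup_right
      have hMn : M.Normal := by
        refine ⟨fun x hx g => ?_⟩
        have hle : M ≤ M.comap (MulAut.conj g).toMonoidHom := sSup_le fun K hK =>
          Subgroup.map_le_iff_le_comap.1 (le_sSup ⟨CfsgLib.Components.isComponent_conj g hK.1, by
            rintro _ ⟨y, hy, rfl⟩; exact hXn.conj_mem y (hK.2 hy) g⟩)
        exact hle hx
      rw [← hXp, Subgroup.commutator_le]
      intro x hx y hy
      obtain ⟨m, hm, c, hc, rfl⟩ := Subgroup.mem_sup_of_normal_left.1 (hEM (hXE hx))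
      have hcy : c * y = y * c := (mem_centralizer_iff.1 hc y hy).symm
      rw [commutatorElement_def, show m * c * y * (m * c)⁻¹ * y⁻¹ = m * (c * y) * c⁻¹ * m⁻¹ * y⁻¹ by group, hcy,
        show m * (y * c) * c⁻¹ * m⁻¹ * y⁻¹ = m * (y * m⁻¹ * y⁻¹) by group]
      exact mul_mem hm (hMn.conj_mem _ (inv_mem hm) y)
    rw [eq_top_iff]
    intro x _
    have hmap : M ≤ (Cfsg.layer ↥X).map X.subtype := sSup_le fun K hK => by
      rw [← Subgroup.map_subgroupOf_eq_of_le hK.2]
      exact Subgroup.map_mono (le_sSup (CfsgLib.Components.isComponent_subgroupOf hK.1 hK.2))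
    obtain ⟨y, hy, hyx⟩ := (hM ▸ hmap) x.2
    rwa [← Subtype.ext hyx]
  · by_contra hd
    have h2 : 2 ∣ Nat.card (center X) := even_iff_two_dvd.1 (Nat.not_odd_iff_even.1 hd)
    let Z := (center X).map X.subtype
    have hZn : Z.Normal := by
      refine ⟨fun z hz g => ?_⟩
      simp only [Z, CfsgLib.Components.map_center_subtype] at hz ⊢
      exact ⟨hXn.conj_mem z hz.1 g, (inferInstance : (centralizer (X : Set G)).Normal).conj_mem z hz.2 g⟩
    have hZc : ∀ z ∈ Z, z ∈ centralizer (X : Set G) := fun z hz => by
      simp only [Z, CfsgLib.Components.map_center_subtype] at hz; exact hz.2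
    have hZ2 : 2 ∣ Nat.card {z : Z // (z : G) * z = 1} := by
      classical
      have := Fintype.ofFinite Z
      let Ω : Subgroup Z :=
        { carrier := {z | (z : G) * z = 1}
          one_mem' := by simp
          mul_mem' := fun {u v} hu hv => by
            simp only [Set.mem_ofPred_eq] at *
            have huX : (u : G) ∈ X := (Subgroup.map_subtype_le (center X)) u.2
            have hc : (v : G) * u = u * v := (mem_centralizer_iff.1 (hZc _ v.2) u huX).symm
            rw [Subgroup.coe_mul, show (u : G) * v * (u * v) = u * (v * u) * v by group, hc,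
              show (u : G) * (u * v) * v = u * u * (v * v) by group, hu, hv, one_mul]
          inv_mem' := fun {u} hu => by
            simp only [Set.mem_ofPred_eq] at *
            rw [Subgroup.coe_inv, ← mul_inv_rev, hu, inv_one] }
      obtain ⟨z, hz⟩ := exists_prime_orderOf_dvd_card' (G := Z) 2
        (by rwa [Nat.card_congr ((center X).equivMapOfInjective X.subtype X.subtype_injective).toEquiv.symm])
      have hzΩ : z ∈ Ω := by
        show (z : G) * z = 1
        rw [← Subgroup.coe_mul, ← pow_two, ← hz, pow_orderOf_eq_one]; rfl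
      have := Subgroup.orderOf_dvd_natCard Ω hzΩ
      rw [hz] at this
      exact this
    let f : zpowers t →* Equiv.Perm {z : Z // (z : G) * z = 1} :=
      { toFun := fun u =>
          { toFun := fun z => ⟨⟨(u : G) * z.1 * (u : G)⁻¹, hZn.conj_mem _ z.1.2 _⟩, by
              show (u : G) * z.1 * (u : G)⁻¹ * ((u : G) * z.1 * (u : G)⁻¹) = 1
              rw [show (u : G) * z.1 * (u : G)⁻¹ * ((u : G) * z.1 * (u : G)⁻¹) = (u : G) * ((z.1 : G) * z.1) * (u : G)⁻¹ by group, z.2]; group⟩
            invFun := fun z => ⟨⟨(u : G)⁻¹ * z.1 * (u : G), by simpa using hZn.conj_mem _ z.1.2 (u : G)⁻¹⟩, by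
              show (u : G)⁻¹ * z.1 * (u : G) * ((u : G)⁻¹ * z.1 * (u : G)) = 1
              rw [show (u : G)⁻¹ * z.1 * (u : G) * ((u : G)⁻¹ * z.1 * (u : G)) = (u : G)⁻¹ * ((z.1 : G) * z.1) * (u : G) by group, z.2]; group⟩
            left_inv := fun z => by apply Subtype.ext; apply Subtype.ext; simp [mul_assoc]
            right_inv := fun z => by apply Subtype.ext; apply Subtype.ext; simp [mul_assoc] }
        map_one' := by ext; simp
        map_mul' := fun u v => by ext; simp [mul_assoc] }
    let _ : MulAction (zpowers t) {z : Z // (z : G) * z = 1} := MulAction.compHom _ f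
    obtain ⟨z, hz, hz1⟩ := (IsPGroup.of_card (p := 2) (n := 1) (G := zpowers t)
      (by rw [Nat.card_zpowers, ht, pow_one])).exists_fixed_point_of_prime_dvd_card_of_fixed_point
      {z : Z // (z : G) * z = 1} hZ2 (a := ⟨1, by simp⟩)
      (fun u => by apply Subtype.ext; apply Subtype.ext; show (u : G) * 1 * (u : G)⁻¹ = 1; group)
    have hz' : orderOf (z.1 : G) = 2 := orderOf_eq_prime (by rw [pow_two]; exact z.2)
      (fun e => hz1 (Subtype.ext (Subtype.ext e.symm)))
    have hzt : (z.1 : G) * t = t * z.1 := by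
      have h : t * (z.1 : G) * t⁻¹ = z.1 :=
        congrArg (fun w : {z : Z // (z : G) * z = 1} => (w.1 : G)) (hz ⟨t, mem_zpowers t⟩)
      rw [mul_inv_eq_iff_eq_mul] at h
      exact h.symm
    have hzA : (z.1 : G) ∈ centralizer (A : Set G) := fun x hx =>
      mem_centralizer_iff.1 (hZc _ z.1.2) x (Subgroup.le_normalClosure hx)
    have hte := huniq _ t hzA htA hz' ht hzt
    apply hrt
    rw [commutatorElement_eq_one_iff_commute, ← hte]
    exact mem_centralizer_iff.1 (hZc _ z.1.2) r (hRX hr)

/-- Let A be a standard subgroup of a finite group G whose centralizer has cyclic Sylow 2-subgroups, t an involution centralizing A, and X the normal closure of A in G. If X has a t-invariant 2-subgroup R with [R, t] nontrivial and contained in A, then X is semisimple (X equals its own layer, a central product of quasisimple groups) and the centre of X has odd order. -/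
theorem result {G : Type*} [Group G] [Finite G] (A : Subgroup G) (hA : Cfsg.IsStandardSubgroup A)
    (hcyc : ∀ R : Sylow 2 ↥(Subgroup.centralizer (A : Set G)), IsCyclic ↥(R : Subgroup ↥(Subgroup.centralizer (A : Set G)))) (t : G) (ht : orderOf t = 2) (htA : t ∈ Subgroup.centralizer (A : Set G))
    (R : Subgroup G) (hR2 : IsPGroup 2 ↥R) (hRX : R ≤ Subgroup.normalClosure (A : Set G)) (hRt : ∀ r ∈ R, t * r * t⁻¹ ∈ R)
    (hc1 : ⁅R, Subgroup.zpowers t⁆ ≠ ⊥) (hc2 : ⁅R, Subgroup.zpowers t⁆ ≤ A) :
    Cfsg.layer ↥(Subgroup.normalClosure (A : Set G)) = ⊤ ∧ Odd (Nat.card ↥(Subgroup.center ↥(Subgroup.normalClosure (A : Set G)))) := by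
  exact main A hA hcyc t ht htA R hR2 hRX hRt hc1 hc2

end Cfsg.Agent.S3164
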