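import Cfsg.Statements.S3166
import Mathlib

set_option autoImplicit false
open Cfsg

namespace Cfsg.Agent.S3166

set_option maxHeartbeats 4000000 in
theorem key (k p m : ℕ) (hp : p.Prime) (q : ℕ) (hq : q = 2 ^ (k + 1)) (hq2 : 2 ≤ q)
    (h : q ^ 4 - q ^ 3 + q ^ 2 - q + 1 = p ^ m) : m = 1 := by
  have hpow : q ^ 3 ≤ q ^ 4 := Nat.pow_le_pow_right (by omega) (by omega)
  have hsq : q ≤ q ^ 4 - q ^ 3 + q ^ 2 := le_add_left (Nat.le_self_pow (by omega) q)
  have hI : (q : ℤ) ^ 4 - q ^ 3 + q ^ 2 - q + 1 = (p : ℤ) ^ m := by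
    have := congrArg (Nat.cast : ℕ → ℤ) h
    push_cast [Nat.cast_sub hpow, Nat.cast_sub hsq] at this
    linarith
  have hQ : (2 : ℤ) ≤ q := by exact_mod_cast hq2
  have hm0 : m ≠ 0 := by
    rintro rfl
    simp only [pow_zero] at hI
    nlinarith [mul_le_mul_of_nonneg_left hQ (sq_nonneg (q : ℤ)), mul_le_mul_of_nonneg_left hQ (by positivity : (0 : ℤ) ≤ (q : ℤ) ^ 3)]
  rcases Nat.even_or_odd m with ⟨j, hj⟩ | ⟨j, hj⟩
  · exfalso
    obtain ⟨a, ha⟩ : ∃ a : ℤ, q = 2 * a := ⟨2 ^ k, by rw [hq]; push_cast; ring⟩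
    have ha1 : 1 ≤ a := by omega
    have h2 : (q : ℤ) ^ 4 - q ^ 3 + q ^ 2 - q + 1 = ((p : ℤ) ^ j) ^ 2 := by
      rw [hI, hj]; ring
    have hpos : (0 : ℤ) ≤ (p : ℤ) ^ j := by positivity
    rw [ha] at h2
    have hl : 4 * a ^ 2 - a < (p : ℤ) ^ j := by
      by_contra hc
      push Not at hc
      have := mul_le_mul hc hc hpos (le_trans hpos hc)
      nlinarith
    have hu : (p : ℤ) ^ j < 4 * a ^ 2 - a + 1 := by
      by_contra hc
      push Not at hc
      have h0 : (0 : ℤ) ≤ 4 * a ^ 2 - a + 1 := by nlinarith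
      have := mul_le_mul hc hc h0 hpos
      nlinarith
    omega
  · -- odd exponent
    have hsum : Odd (∑ i ∈ Finset.range m, (p : ℤ) ^ i) := by
      have hpodd : Odd (p : ℤ) := by
        have h' : Odd ((p : ℤ) ^ m) := by
          rw [← hI]
          have he : Even (q : ℤ) := ⟨2 ^ k, by rw [hq]; push_cast; ring⟩
          simp [parity_simps, he]
        exact (Int.odd_pow' hm0).1 h'
      have hgen : ∀ i : ℕ, Odd (∑ l ∈ Finset.range (2 * i + 1), (p : ℤ) ^ l) := by
        intro i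
        induction i with
        | zero => simp
        | succ i ih =>
          rw [show 2 * (i + 1) + 1 = (2 * i + 1) + 1 + 1 by ring, Finset.sum_range_succ, Finset.sum_range_succ,
            add_assoc]
          exact ih.add_even ((hpodd.pow).add_odd hpodd.pow)
      rw [hj]
      exact hgen j
    have hfac : ((p : ℤ) - 1) * (∑ i ∈ Finset.range m, (p : ℤ) ^ i) = q * ((q - 1) * (q ^ 2 + 1)) := by
      rw [mul_geom_sum]; linear_combination -hI
    have hdvd : (q : ℤ) ∣ (p : ℤ) - 1 := by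
      have hcop : IsCoprime (q : ℤ) (∑ i ∈ Finset.range m, (p : ℤ) ^ i) := by
        rw [hq]; push_cast
        apply IsCoprime.pow_left
        obtain ⟨c, hc⟩ := hsum
        exact ⟨-c, 1, by rw [hc]; ring⟩
      exact hcop.dvd_of_dvd_mul_right ⟨_, hfac⟩
    obtain ⟨u, hu⟩ := hdvd
    have hp2 : (2 : ℤ) ≤ p := by exact_mod_cast hp.two_le
    have hu1 : 1 ≤ u := by nlinarith
    have hpq : (q : ℤ) < p := by nlinarith
    have hm3 : m ≤ 3 := by
      by_contra hc
      have h1 : (p : ℤ) ^ 4 ≤ (p : ℤ) ^ m := pow_le_pow_right₀ (by linarith) (by omega)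
      have h2' : (q : ℤ) ^ 4 < (p : ℤ) ^ 4 := by gcongr
      nlinarith [mul_le_mul_of_nonneg_left hQ (sq_nonneg (q : ℤ))]
    rcases (show m = 1 ∨ m = 3 by omega) with h1 | h3
    · exact h1
    · exfalso
      subst h3
      have hp' : (p : ℤ) = q * u + 1 := by linarith
      rw [hp'] at hI
      have hE : (q : ℤ) ^ 2 * u ^ 3 + 3 * q * u ^ 2 + 3 * u = q ^ 3 - q ^ 2 + q - 1 := by
        have h0 : (q : ℤ) * ((q : ℤ) ^ 2 * u ^ 3 + 3 * q * u ^ 2 + 3 * u - (q ^ 3 - q ^ 2 + q - 1)) = 0 := by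
          linear_combination -hI
        rcases mul_eq_zero.1 h0 with h4 | h4 <;> linarith
      have hu3 : u ^ 3 < (q : ℤ) := by
        by_contra hc
        push Not at hc
        nlinarith [mul_le_mul_of_nonneg_left hc (sq_nonneg (q : ℤ))]
      obtain ⟨c, hc⟩ : (q : ℤ) ∣ 3 * u + 1 := ⟨q ^ 2 - q + 1 - q * u ^ 3 - 3 * u ^ 2, by linear_combination hE⟩
      have hc1 : 1 ≤ c := by nlinarith
      have hle : (q : ℤ) ≤ 3 * u + 1 := by nlinarith
      have hu2 : u ≤ 2 := by
        by_contra hc'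
        have h3 : (3 : ℤ) ≤ u := by omega
        have h4 : (9 : ℤ) * u ≤ u * u * u :=
          mul_le_mul_of_nonneg_right (mul_le_mul h3 h3 (by norm_num) (by omega)) (by omega)
        have h5 : u ^ 3 = u * u * u := by ring
        linarith
      have hqle : q ≤ 7 := by
        have : (q : ℤ) ≤ 7 := by linarith
        exact_mod_cast this
      have hk : k ≤ 1 := by
        by_contra hc
        have : 2 ^ 3 ≤ 2 ^ (k + 1) := Nat.pow_le_pow_right (by omega) (by omega)
        omega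
      interval_cases k <;> norm_num at hq <;> subst hq <;> interval_cases u <;> norm_num at hE

/-- Let q = 2^n with n ≥ 1. If q⁴ − q³ + q² − q + 1 is a power p^m of a prime p, then m = 1: the value is never a prime power with exponent greater than 1. -/
theorem result (n p m : ℕ) (hn : 1 ≤ n) (hp : p.Prime) (h : (2 ^ n) ^ 4 - (2 ^ n) ^ 3 + (2 ^ n) ^ 2 - 2 ^ n + 1 = p ^ m) : m = 1 := by
  obtain ⟨k, rfl⟩ : ∃ k, n = k + 1 := ⟨n - 1, by omega⟩
  set q := 2 ^ (k + 1) with hqdef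
  have hq2 : 2 ≤ q := by
    rw [hqdef, pow_succ]; exact Nat.le_mul_of_pos_left 2 (by positivity)
  exact key k p m hp q hqdef hq2 h

end Cfsg.Agent.S3166
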