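import Cfsg.Statements.S3171
import Cfsg.Agent.Lib.InvChar.M24Sylow

set_option autoImplicit false
open Cfsg

namespace Cfsg.Agent.S3171

/-- Let P be a Sylow 2-subgroup of the Mathieu group of degree 24 and S the quotient of P by its centre. Then the centre of every maximal subgroup of S has order at most 8; S has an elementary abelian subgroup of order 64; and S has only one abelian subgroup of order 64. -/
theorem result (P : Sylow 2 ↥Cfsg.M24) :
    (∀ M : Subgroup (↥(P : Subgroup ↥Cfsg.M24) ⧸ Subgroup.center ↥(P : Subgroup ↥Cfsg.M24)), IsCoatom M →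
        Nat.card ↥(Subgroup.center ↥M) ≤ 8) ∧
      (∃ A : Subgroup (↥(P : Subgroup ↥Cfsg.M24) ⧸ Subgroup.center ↥(P : Subgroup ↥Cfsg.M24)),
        Cfsg.IsElementaryAbelian 2 A ∧ Nat.card ↥A = 64) ∧
      ∀ A B : Subgroup (↥(P : Subgroup ↥Cfsg.M24) ⧸ Subgroup.center ↥(P : Subgroup ↥Cfsg.M24)),
        IsMulCommutative ↥A → Nat.card ↥A = 64 → IsMulCommutative ↥B → Nat.card ↥B = 64 → A = B := by
  have : Fact (Nat.Prime 2) := ⟨Nat.prime_two⟩
  obtain ⟨T, hT, -, A₀, hA₀, hexp⟩ := CfsgLib.InvChar.M24Syl.exists_hyp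
  obtain ⟨Q, hQ⟩ := (IsPGroup.of_card hT).exists_le_sylow
  have hQcard : Nat.card (Q : Subgroup ↥Cfsg.M24) ≤ Nat.card T := by
    obtain ⟨n, hn⟩ := IsPGroup.iff_card.mp Q.isPGroup'
    have hd : 2 ^ n ∣ Nat.card ↥Cfsg.M24 := hn ▸ (Q : Subgroup ↥Cfsg.M24).card_subgroup_dvd_card
    rw [hT, hn]
    refine Nat.pow_le_pow_right (by norm_num) ?_
    by_contra hlt
    have h11 : 2 ^ 11 ∣ Nat.card ↥Cfsg.M24 :=
      (Nat.pow_dvd_pow 2 (by omega)).trans hd
    rw [CfsgLib.Golay.natCard_M24] at h11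
    norm_num at h11
  have hTQ : T = (Q : Subgroup ↥Cfsg.M24) := Subgroup.eq_of_le_of_card_ge hQ hQcard
  subst hTQ
  let e : ↥(Q : Subgroup ↥Cfsg.M24) ≃* ↥(P : Subgroup ↥Cfsg.M24) := Q.equiv P
  let ε := QuotientGroup.congr (Subgroup.center ↥(Q : Subgroup ↥Cfsg.M24))
    (Subgroup.center ↥(P : Subgroup ↥Cfsg.M24)) e (by
      ext x
      constructor
      · rintro ⟨y, hy, rfl⟩
        rw [Subgroup.mem_center_iff]
        intro g
        obtain ⟨g', rfl⟩ := e.surjective g
        show e g' * e y = e y * e g'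
        rw [← map_mul, ← map_mul, Subgroup.mem_center_iff.mp hy g']
      · intro hx
        refine ⟨e.symm x, Subgroup.mem_center_iff.mpr fun g => e.injective ?_,
          e.apply_symm_apply x⟩
        rw [map_mul, map_mul, MulEquiv.apply_symm_apply, Subgroup.mem_center_iff.mp hx (e g)])
  have h : CfsgLib.InvChar.AbelianSixtyFour.Hyp (A₀.map ε.toMonoidHom) := by
    have hcard : ∀ B : Subgroup (↥(Q : Subgroup ↥Cfsg.M24) ⧸
        Subgroup.center ↥(Q : Subgroup ↥Cfsg.M24)),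
        Nat.card (B.map ε.toMonoidHom) = Nat.card B := fun B =>
      (Nat.card_congr (Subgroup.equivMapOfInjective B _ ε.injective).toEquiv).symm
    have hsub : ∀ (C : Subgroup (↥(P : Subgroup ↥Cfsg.M24) ⧸
        Subgroup.center ↥(P : Subgroup ↥Cfsg.M24))) (D : Subgroup (↥(Q : Subgroup ↥Cfsg.M24) ⧸
        Subgroup.center ↥(Q : Subgroup ↥Cfsg.M24))),
        (∀ y, ε y ∈ C → y ∈ D) → Nat.card C ≤ Nat.card D := by
      intro C D hCD
      rw [← hcard D]
      refine Subgroup.card_le_of_le fun x hx => ?_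
      obtain ⟨y, rfl⟩ := ε.surjective x
      exact Subgroup.mem_map_of_mem _ (hCD y hx)
    have hmem : ∀ y, ε y ∈ A₀.map ε.toMonoidHom → y ∈ A₀ := fun y hy => by
      obtain ⟨z, hz, he⟩ := hy
      exact ε.injective he ▸ hz
    refine ⟨(Nat.card_congr ε.toEquiv).symm.trans hA₀.card, (hcard _).trans hA₀.cardA,
      hA₀.normal.map _ ε.surjective, ?_, ?_, ?_, ?_⟩
    · rintro _ ⟨a, ha, rfl⟩ _ ⟨b, hb, rfl⟩
      rw [← map_mul, ← map_mul, hA₀.comm a ha b hb]
    · intro x hx
      obtain ⟨x, rfl⟩ := ε.surjective x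
      refine (hsub _ _ fun y hy => ?_).trans (hA₀.fix_one x fun hm => hx (Subgroup.mem_map_of_mem _ hm))
      refine ⟨hmem y hy.1, Subgroup.mem_centralizer_singleton_iff.mpr (ε.injective ?_)⟩
      rw [map_mul, map_mul]
      exact Subgroup.mem_centralizer_singleton_iff.mp hy.2
    · intro x y hx hy hxy
      obtain ⟨x, rfl⟩ := ε.surjective x
      obtain ⟨y, rfl⟩ := ε.surjective y
      refine (hsub _ _ fun w hw => ?_).trans (hA₀.fix_two x y (fun hm => hx (Subgroup.mem_map_of_mem _ hm))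
        (fun hm => hy (Subgroup.mem_map_of_mem _ hm)) fun hm => hxy ?_)
      · refine ⟨hmem w hw.1, Subgroup.mem_centralizer_iff.mpr fun g hg => ε.injective ?_⟩
        rw [map_mul, map_mul]
        refine Subgroup.mem_centralizer_iff.mp hw.2 (ε g) ?_
        rcases hg with rfl | rfl
        · exact Or.inl rfl
        · exact Or.inr rfl
      · have := Subgroup.mem_map_of_mem ε.toMonoidHom hm
        simpa using this
    · refine (hsub _ _ fun y hy => ?_).trans hA₀.fix_all
      refine ⟨hmem y hy.1, Subgroup.mem_center_iff.mpr fun g => ε.injective ?_⟩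
      rw [map_mul, map_mul]
      exact Subgroup.mem_center_iff.mp hy.2 _
  refine ⟨fun M hM => CfsgLib.InvChar.AbelianSixtyFour.coatom_center h hM,
    ⟨A₀.map ε.toMonoidHom, ⟨⟨⟨fun a b => Subtype.ext (h.comm _ a.2 _ b.2)⟩⟩, ?_⟩, h.cardA⟩,
    fun A B hA hA64 hB hB64 => (CfsgLib.InvChar.AbelianSixtyFour.unique h hA hA64).trans
      (CfsgLib.InvChar.AbelianSixtyFour.unique h hB hB64).symm⟩
  rintro _ ⟨a, ha, rfl⟩
  rw [pow_two, ← map_mul, hexp a ha, map_one]

end Cfsg.Agent.S3171
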