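import Cfsg.Statements.S3175
import Cfsg.Agent.Lib.InvChar.BigTwoGroup
import Cfsg.Agent.Lib.Transfer.NormalComplement

set_option autoImplicit false
open Cfsg

namespace Cfsg.Agent.S3175

/-- Let G be a finite group whose Sylow 2-subgroup T has order at least 2^14 and whose upper central series has fourth term of order 16; let W be the centralizer in T of the third term, and suppose the Frattini subgroup of W has order at most 8 and lies in every subgroup of W of index at most 16. Then the normalizer of T in G has a normal 2-complement, and W is weakly closed in T with respect to G. -/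
theorem result {G : Type*} [Group G] [Finite G]
    (T : Sylow 2 G) (ha : 2 ^ 14 ≤ Nat.card ↥(T : Subgroup G))
    (hb : Nat.card ↥(Subgroup.upperCentralSeries ↥(T : Subgroup G) 4) = 16)
    (W : Subgroup ↥(T : Subgroup G))
    (hW : W = Subgroup.centralizer ((Subgroup.upperCentralSeries ↥(T : Subgroup G) 3 : Subgroup ↥(T : Subgroup G)) : Set ↥(T : Subgroup G)))
    (hc : Nat.card ↥(frattini ↥W) ≤ 8)
    (hd : ∀ U : Subgroup ↥W, U.index ≤ 16 → frattini ↥W ≤ U) :
    Cfsg.HasNormalPComplement 2 ↥(Subgroup.normalizer ((T : Subgroup G) : Set G)) ∧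
      Cfsg.IsWeaklyClosed (W.map (T : Subgroup G).subtype) (T : Subgroup G) := by
  haveI : Fact (Nat.Prime 2) := ⟨Nat.prime_two⟩
  classical
  have h : CfsgLib.InvChar.BigHyp ↥(T : Subgroup G) W := ⟨T.isPGroup', ha, hb, hW, hc, hd⟩
  haveI := h.normal
  refine ⟨?_, ?_⟩
  · set N := Subgroup.normalizer ((T : Subgroup G) : Set G)
    refine CfsgLib.Transfer.hasNormalPComplement_of_frobeniusCond fun Q hQ g hg hcop => ?_
    have hQT : Q.map N.subtype ≤ (T : Subgroup G) := by
      have h1 := (hQ.map N.subtype).to_sup_of_normal_right' T.isPGroup' (Subgroup.map_subtype_le Q)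
      exact le_sup_left.trans (T.is_maximal' h1 le_sup_right).le
    let φ : MulAut ↥(T : Subgroup G) := Subgroup.normalizerMonoidHom (T : Subgroup G) g
    have hodd : Odd (orderOf φ) :=
      (Nat.coprime_two_right.1 hcop).of_dvd_nat (orderOf_map_dvd (Subgroup.normalizerMonoidHom (T : Subgroup G)) g)
    have hφ := h.aut_eq_one φ hodd
    rw [Subgroup.mem_centralizer_iff]
    intro q hq
    have hqT : (q : G) ∈ (T : Subgroup G) := hQT ⟨q, hq, rfl⟩
    have h2 : ((φ ⟨q, hqT⟩ : ↥(T : Subgroup G)) : G) = (g : G) * q * (g : G)⁻¹ := rfl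
    rw [hφ] at h2
    exact Subtype.ext (eq_mul_inv_iff_mul_eq.1 h2)
  refine ⟨Subgroup.map_subtype_le W, fun g hle => ?_⟩
  set W' := W.map (T : Subgroup G).subtype with hW'
  set Wg := W'.map (MulAut.conj g).toMonoidHom with hWg
  set W2 := Wg.subgroupOf (T : Subgroup G) with hW2
  have hW2c : Nat.card ↥W2 = 2 ^ 11 := by
    rw [hW2, Nat.card_congr (Subgroup.subgroupOfEquivOfLe hle).toEquiv, hWg,
      Subgroup.card_map_of_injective (MulAut.conj g).injective, hW', Subgroup.card_subtype, h.card_W]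
  have hmem : ∀ v ∈ W2, ∃ w ∈ W, (v : G) = g * w * g⁻¹ := by
    intro v hv
    obtain ⟨_, ⟨w, hw, rfl⟩, hv'⟩ := Subgroup.mem_subgroupOf.1 hv
    exact ⟨w, hw, hv'.symm⟩
  set X := W ⊓ W2 with hX
  have hXW : X.relIndex W ≤ 8 := by
    have h1 := Subgroup.relIndex_mul_relIndex ⊥ X W bot_le inf_le_left
    have h2 := Subgroup.relIndex_mul_relIndex ⊥ X W2 bot_le inf_le_right
    rw [Subgroup.relIndex_bot_left, Subgroup.relIndex_bot_left] at h1 h2
    rw [hW2c] at h2
    rw [h.card_W] at h1
    have h3 : X.relIndex W = X.relIndex W2 :=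
      Nat.eq_of_mul_eq_mul_left Nat.card_pos (h1.trans h2.symm)
    rw [h3, hX, Subgroup.inf_relIndex_right, ← h.index_W]
    exact Nat.le_of_dvd (Nat.pos_of_ne_zero Subgroup.index_ne_zero_of_finite)
      (Subgroup.relIndex_dvd_index_of_normal W W2)
  have hZ : ∀ z ∈ Subgroup.upperCentralSeries ↥(T : Subgroup G) 3,
      ∃ c ∈ Subgroup.upperCentralSeries ↥(T : Subgroup G) 3, (z : G) = g * c * g⁻¹ := by
    intro z hz
    have hz' := h.ucs_three_le_closure_sq X inf_le_left hXW hz
    induction hz' using Subgroup.closure_induction with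
    | mem y hy =>
      obtain ⟨x, hx, rfl⟩ := hy
      obtain ⟨w, hw, hxw⟩ := hmem x hx.2
      exact ⟨w * w, h.sq_mem hw, by push_cast; rw [hxw]; group⟩
    | one => exact ⟨1, one_mem _, by simp⟩
    | mul a b ha' hb' iha ihb =>
      have hXsub : Subgroup.closure {y | ∃ x ∈ X, y = x * x} ≤
          Subgroup.upperCentralSeries ↥(T : Subgroup G) 3 :=
        (Subgroup.closure_le _).2 (by rintro y ⟨x, hx, rfl⟩; exact h.sq_mem hx.1)
      obtain ⟨c1, hc1, e1⟩ := iha (hXsub ha')
      obtain ⟨c2, hc2, e2⟩ := ihb (hXsub hb')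
      exact ⟨c1 * c2, mul_mem hc1 hc2, by push_cast; rw [e1, e2]; group⟩
    | inv a ha' iha =>
      have hXsub : Subgroup.closure {y | ∃ x ∈ X, y = x * x} ≤
          Subgroup.upperCentralSeries ↥(T : Subgroup G) 3 :=
        (Subgroup.closure_le _).2 (by rintro y ⟨x, hx, rfl⟩; exact h.sq_mem hx.1)
      obtain ⟨c1, hc1, e1⟩ := iha (hXsub ha')
      exact ⟨c1⁻¹, inv_mem hc1, by push_cast; rw [e1]; group⟩
  have hsub : W2 ≤ W := by
    intro v hv
    rw [h.mem_W_iff]
    intro z hz
    obtain ⟨w, hw, hvw⟩ := hmem v hv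
    obtain ⟨c, hc', hzc⟩ := hZ z hz
    have hcw : (c : G) * w = w * c := congrArg Subtype.val (h.commute_ucs hc' hw).eq
    refine Subtype.ext ?_
    push_cast
    rw [hvw, hzc]
    calc g * (c : G) * g⁻¹ * (g * w * g⁻¹) = g * ((c : G) * w) * g⁻¹ := by group
      _ = g * (w * c) * g⁻¹ := by rw [hcw]
      _ = _ := by group
  have heq : W2 = W := Subgroup.eq_of_le_of_card_ge hsub (by rw [h.card_W, hW2c])
  rw [hW2] at heq
  calc Wg = (Wg.subgroupOf (T : Subgroup G)).map (T : Subgroup G).subtype := by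
        rw [Subgroup.subgroupOf_map_subtype, inf_eq_left.2 hle]
    _ = W' := by rw [heq]

end Cfsg.Agent.S3175
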