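import Cfsg.Statements.S3178
import Cfsg.Agent.Lib.Transfer.NormalComplement
import Cfsg.Agent.Lib.InvChar.SolvableTwo
import Cfsg.Agent.Lib.InvChar.Conj

set_option autoImplicit false
open Cfsg

namespace Cfsg.Agent.S3178

open Subgroup

variable {G : Type*} [Group G] [Finite G]

theorem coprime_odd {m v : ℕ} (hv : Odd v) : v.Coprime (2 ^ m) :=
  (Nat.coprime_two_right.2 hv).pow_right m

/-- The data of a modular maximal-cyclic 2-group inside `G`. -/
structure Modular (S : Subgroup G) (n : ℕ) (a b : G) : Prop where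
  hn : 3 ≤ n
  ha : a ∈ S
  hb : b ∈ S
  hao : orderOf a = 2 ^ n
  hbo : orderOf b = 2
  hrel : b * a * b⁻¹ = a ^ (2 ^ (n - 1) + 1)
  hcard : Nat.card ↥S = 2 ^ (n + 1)

variable {S : Subgroup G} {n : ℕ} {a b : G}

theorem Modular.bb (h : Modular S n a b) : b * b = 1 := by
  rw [← pow_two, ← h.hbo]; exact pow_orderOf_eq_one b

theorem Modular.conj_pow (h : Modular S n a b) (i : ℕ) :
    b * a ^ i = a ^ (i * (2 ^ (n - 1) + 1)) * b := by
  have : b * a ^ i * b⁻¹ = a ^ (i * (2 ^ (n - 1) + 1)) := by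
    rw [← _root_.conj_pow, h.hrel, ← pow_mul, mul_comm]
  exact mul_inv_eq_iff_eq_mul.1 this

theorem Modular.commute_even (h : Modular S n a b) {i : ℕ} (hi : Even i) :
    Commute b (a ^ i) := by
  obtain ⟨l, rfl⟩ := hi
  show b * a ^ (l + l) = a ^ (l + l) * b
  rw [h.conj_pow]
  congr 1
  rw [pow_eq_pow_iff_modEq, h.hao]
  have h2 : 2 ^ n = 2 * 2 ^ (n - 1) := by
    rw [← pow_succ']; congr 1; have := h.hn; omega
  have : (l + l) * (2 ^ (n - 1) + 1) = (l + l) + l * 2 ^ n := by rw [h2]; ring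
  rw [this]
  exact Nat.add_mul_modulus_modEq_iff.2 rfl

theorem Modular.not_commute (h : Modular S n a b) : ¬ Commute b a := by
  intro hc
  have h1 : a ^ (2 ^ (n - 1) + 1) = a := by
    rw [← h.hrel, hc.eq, mul_inv_cancel_right]
  rw [pow_succ, mul_eq_right] at h1
  have h2 := orderOf_dvd_of_pow_eq_one h1
  rw [h.hao, Nat.pow_dvd_pow_iff_le_right (by norm_num)] at h2
  have := h.hn
  omega

theorem Modular.notMem (h : Modular S n a b) : b ∉ zpowers a := by
  intro hb
  obtain ⟨i, hi⟩ := mem_zpowers_iff.1 hb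
  exact h.not_commute (hi ▸ (Commute.refl a).zpow_left i)

theorem Modular.exists_form (h : Modular S n a b) {s : G} (hs : s ∈ S) :
    ∃ i : ℕ, s = a ^ i ∨ s = a ^ i * b := by
  have hle : zpowers a ≤ S := zpowers_le.2 h.ha
  have hidx : ((zpowers a).subgroupOf S).index = 2 := by
    have h1 := ((zpowers a).subgroupOf S).card_mul_index
    rw [Nat.card_congr (subgroupOfEquivOfLe hle).toEquiv, Nat.card_zpowers, h.hao, h.hcard,
      pow_succ] at h1
    exact Nat.eq_of_mul_eq_mul_left (pow_pos (by norm_num) n) h1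
  by_cases hsa : s ∈ zpowers a
  · obtain ⟨i, hi⟩ := mem_powers_iff_mem_zpowers.2 hsa
    exact ⟨i, Or.inl hi.symm⟩
  · have h2 : (⟨s, hs⟩ * ⟨b, h.hb⟩ : ↥S) ∈ (zpowers a).subgroupOf S :=
      (mul_mem_iff_of_index_two hidx).2 (iff_of_false hsa h.notMem)
    obtain ⟨i, hi⟩ := mem_powers_iff_mem_zpowers.2 (mem_subgroupOf.1 h2)
    have hi' : a ^ i = s * b := hi
    exact ⟨i, Or.inr (by rw [hi', mul_assoc, h.bb, mul_one])⟩

theorem Modular.sq_form (h : Modular S n a b) (i : ℕ) :
    (a ^ i * b) * (a ^ i * b) = a ^ (2 * i * (2 ^ (n - 2) + 1)) := by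
  have h2 : 2 ^ (n - 1) = 2 * 2 ^ (n - 2) := by
    rw [← pow_succ']; congr 1; have := h.hn; omega
  calc (a ^ i * b) * (a ^ i * b) = a ^ i * (b * a ^ i) * b := by group
    _ = a ^ i * a ^ (i * (2 ^ (n - 1) + 1)) * (b * b) := by rw [h.conj_pow]; group
    _ = a ^ (2 * i * (2 ^ (n - 2) + 1)) := by
      rw [h.bb, mul_one, ← pow_add, h2]; congr 1; ring

theorem Modular.sq_eq_one (h : Modular S n a b) {i : ℕ} (hi : a ^ (2 * i) = 1) :
    a ^ i = 1 ∨ a ^ i = a ^ (2 ^ (n - 1)) := by
  have h1 : 2 ^ n ∣ 2 * i := h.hao ▸ orderOf_dvd_of_pow_eq_one hi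
  have h2 : 2 ^ n = 2 * 2 ^ (n - 1) := by
    rw [← pow_succ']; congr 1; have := h.hn; omega
  obtain ⟨j, rfl⟩ := Nat.dvd_of_mul_dvd_mul_left (by norm_num) (h2 ▸ h1)
  rcases Nat.even_or_odd' j with ⟨l, rfl | rfl⟩
  · left
    rw [show 2 ^ (n - 1) * (2 * l) = 2 ^ n * l by rw [h2]; ring, pow_mul, ← h.hao,
      pow_orderOf_eq_one, one_pow]
  · right
    rw [show 2 ^ (n - 1) * (2 * l + 1) = 2 ^ n * l + 2 ^ (n - 1) by rw [h2]; ring, pow_add,
      pow_mul, ← h.hao, pow_orderOf_eq_one, one_pow, one_mul]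

theorem Modular.zmem (h : Modular S n a b) {x : G} (hx : x ∈ zpowers a) (hx2 : x * x = 1) :
    x = 1 ∨ x = a ^ (2 ^ (n - 1)) := by
  obtain ⟨i, hi⟩ := mem_powers_iff_mem_zpowers.2 hx
  simp only at hi
  subst hi
  exact h.sq_eq_one (by rw [two_mul, pow_add]; exact hx2)

theorem Modular.inv_form (h : Modular S n a b) {x : G} (hx : x ∈ S) (hx2 : x * x = 1) :
    x = 1 ∨ x = a ^ (2 ^ (n - 1)) ∨ x = b ∨ x = a ^ (2 ^ (n - 1)) * b := by
  obtain ⟨i, rfl | rfl⟩ := h.exists_form hx
  · rcases h.zmem (pow_mem (mem_zpowers a) i) hx2 with h' | h'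
    · exact Or.inl h'
    · exact Or.inr (Or.inl h')
  · rw [h.sq_form] at hx2
    have hu : Odd (2 ^ (n - 2) + 1) :=
      (Nat.even_pow.2 ⟨even_two, by have := h.hn; omega⟩).add_one
    have h1 : a ^ (2 * i) = 1 := by
      rw [← orderOf_dvd_iff_pow_eq_one, h.hao]
      exact ((coprime_odd hu).symm).dvd_of_dvd_mul_right
        (h.hao ▸ orderOf_dvd_of_pow_eq_one hx2)
    rcases h.sq_eq_one h1 with h' | h' <;> rw [h'] <;> simp

/-- The central involution is the only one of the form `y * y`. -/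
theorem Modular.sq_mem (h : Modular S n a b) {y : G} (hy : y ∈ S) :
    y * y ∈ zpowers a := by
  obtain ⟨i, rfl | rfl⟩ := h.exists_form hy
  · rw [← pow_add]; exact pow_mem (mem_zpowers a) _
  · rw [h.sq_form]; exact pow_mem (mem_zpowers a) _

theorem fixes_center_involution (T : Sylow 2 G) (h : Modular (T : Subgroup G) n a b) {g : G}
    (hg : ∀ x ∈ centralizer ({a ^ (2 ^ (n - 1)), b} : Set G),
      g * x * g⁻¹ ∈ centralizer ({a ^ (2 ^ (n - 1)), b} : Set G)) :
    g * a ^ (2 ^ (n - 1)) * g⁻¹ = a ^ (2 ^ (n - 1)) := by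
  haveI : Fact (Nat.Prime 2) := ⟨Nat.prime_two⟩
  classical
  set z := a ^ (2 ^ (n - 1)) with hz
  set C := centralizer ({z, b} : Set G) with hC
  have hn := h.hn
  have hz1 : z ≠ 1 := by
    intro e
    have h2 := orderOf_dvd_of_pow_eq_one e
    rw [h.hao, Nat.pow_dvd_pow_iff_le_right (by norm_num)] at h2
    omega
  have hmemC : ∀ x, x ∈ C ↔ Commute z x ∧ Commute b x := by
    intro x; simp [hC, mem_centralizer_iff, Commute, SemiconjBy]
  set D := (T : Subgroup G) ⊓ C with hD
  have hzc : ∀ i : ℕ, Commute z (a ^ i) := fun i => (Commute.refl a).pow_pow _ _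
  have hzb : Commute z b := (h.commute_even (Nat.even_pow.2 ⟨even_two, by omega⟩)).symm
  have hinC : ∀ i : ℕ, Even i → a ^ i ∈ C := fun i hi => (hmemC _).2 ⟨hzc i, h.commute_even hi⟩
  have hbC : b ∈ C := (hmemC _).2 ⟨hzb, Commute.refl b⟩
  have hodd : ∀ i : ℕ, Odd i → a ^ i ∉ C := by
    rintro i ⟨l, rfl⟩ hmem
    have h1 := ((hmemC _).1 hmem).2
    have h2 := h.commute_even (even_two_mul l)
    rw [pow_succ] at h1
    refine h.not_commute ?_
    have h3 := h2.inv_right.mul_right h1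
    rwa [inv_mul_cancel_left] at h3
  have hidx : (D.subgroupOf (T : Subgroup G)).index = 2 := by
    rw [index_eq_two_iff]
    refine ⟨⟨a, h.ha⟩, fun x => ?_⟩
    rw [mem_subgroupOf, mem_subgroupOf, coe_mul]
    have haC : a ∉ C := by simpa using hodd 1 odd_one
    by_cases hx : (x : G) ∈ D
    · exact Or.inr ⟨hx, fun hc => haC (by
        have := mul_mem (inv_mem (mem_inf.1 hx).2) (mem_inf.1 hc).2
        rwa [inv_mul_cancel_left] at this)⟩
    · refine Or.inl ⟨⟨mul_mem x.2 h.ha, ?_⟩, hx⟩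
      obtain ⟨i, hi | hi⟩ := h.exists_form x.2
      · have hio : Odd i := Nat.not_even_iff_odd.1 fun he => hx ⟨x.2, hi ▸ hinC i he⟩
        rw [hi, ← pow_succ]; exact hinC _ hio.add_one
      · have hio : Odd i := Nat.not_even_iff_odd.1 fun he => hx ⟨x.2, hi ▸ mul_mem (hinC i he) hbC⟩
        have e : a ^ i * b * a = a ^ (i + (2 ^ (n - 1) + 1)) * b := by
          have := h.conj_pow 1
          rw [pow_one, one_mul] at this
          rw [mul_assoc, this, ← mul_assoc, ← pow_add]
        rw [hi, e]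
        exact mul_mem (hinC _ (hio.add_odd (Nat.even_pow.2 ⟨even_two, by omega⟩).add_one)) hbC
  have hDcard : Nat.card ↥D = 2 ^ n := by
    have h1 := (D.subgroupOf (T : Subgroup G)).card_mul_index
    rw [Nat.card_congr (subgroupOfEquivOfLe (inf_le_left : D ≤ (T : Subgroup G))).toEquiv, hidx,
      h.hcard, pow_succ] at h1
    exact Nat.eq_of_mul_eq_mul_right (by norm_num) h1
  -- the 2-part of the order of `C`
  have hCfac : 2 ^ (Nat.card ↥C).factorization 2 = 2 ^ n := by
    obtain ⟨P⟩ := (inferInstance : Nonempty (Sylow 2 ↥C))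
    rw [← P.card_eq_multiplicity]
    obtain ⟨R, hR⟩ := (P.isPGroup'.map C.subtype).exists_le_sylow
    have h1 : Nat.card ↥((P : Subgroup ↥C).map C.subtype) ∣ 2 ^ (n + 1) := by
      rw [← h.hcard, T.card_eq_multiplicity, ← R.card_eq_multiplicity]
      exact card_dvd_of_le hR
    rw [card_subtype] at h1
    obtain ⟨j, hj, hjc⟩ := (Nat.dvd_prime_pow Nat.prime_two).1 h1
    rw [hjc]
    have hge : 2 ^ n ≤ 2 ^ j := by
      obtain ⟨P', hP'⟩ := (((T.isPGroup').to_le (inf_le_left : D ≤ (T : Subgroup G))).comap_of_injective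
        C.subtype C.subtype_injective).exists_le_sylow
      have hle := card_le_of_le hP'
      rw [show D.comap C.subtype = D.subgroupOf C from rfl,
        Nat.card_congr (subgroupOfEquivOfLe (inf_le_right : D ≤ C)).toEquiv, hDcard,
        P'.card_eq_multiplicity, ← P.card_eq_multiplicity, hjc] at hle
      exact hle
    have hne : j ≠ n + 1 := by
      rintro rfl
      -- a Sylow subgroup of `G` centralizing `z` and `b`
      have hRC : (R : Subgroup G) ≤ C := by
        have he : (P : Subgroup ↥C).map C.subtype = (R : Subgroup G) :=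
          eq_of_le_of_card_ge hR (by
            rw [card_subtype, hjc, ← h.hcard, T.card_eq_multiplicity, R.card_eq_multiplicity])
        rw [← he]; exact map_subtype_le _
      obtain ⟨x, hx⟩ := CfsgLib.InvChar.sylow_conj T R
      have hmem : ∀ v : G, v * v = 1 → v ≠ 1 → (∀ r ∈ (R : Subgroup G), Commute v r) →
          v ∈ (R : Subgroup G) → x⁻¹ * v * x = z := by
        intro v hv2 hv1 hvc hv
        have hT : x⁻¹ * v * x ∈ (T : Subgroup G) := by
          rw [← hx, CfsgLib.InvChar.mem_map_conj] at hv; exact hv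
        have hcomm : Commute (x⁻¹ * v * x) a := by
          have : x * a * x⁻¹ ∈ (R : Subgroup G) := by
            rw [← hx, CfsgLib.InvChar.mem_map_conj]; simpa [mul_assoc] using h.ha
          have := (hvc _ this).eq
          show x⁻¹ * v * x * a = a * (x⁻¹ * v * x)
          calc x⁻¹ * v * x * a = x⁻¹ * (v * (x * a * x⁻¹)) * x := by group
            _ = _ := by rw [this]; group
        have hsq : x⁻¹ * v * x * (x⁻¹ * v * x) = 1 := by
          calc _ = x⁻¹ * (v * v) * x := by group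
            _ = 1 := by rw [hv2]; group
        rcases h.inv_form hT hsq with e | e | e | e
        · exfalso
          refine hv1 ?_
          calc v = x * (x⁻¹ * v * x) * x⁻¹ := by group
            _ = 1 := by rw [e]; group
        · exact e
        · exact absurd (e ▸ hcomm) h.not_commute
        · refine absurd ?_ h.not_commute
          have h1 : Commute (z * b) a := e ▸ hcomm
          have h2 : Commute z a := by simpa using hzc 1
          have h3 := h2.inv_left.mul_left h1
          rwa [inv_mul_cancel_left] at h3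
      have hcent : ∀ v ∈ ({z, b} : Set G), ∀ r ∈ (R : Subgroup G), Commute v r := fun v hv r hr =>
        mem_centralizer_iff.1 (hRC hr) v hv
      have hmemR : ∀ v ∈ ({z, b} : Set G), v * v = 1 → v ∈ (R : Subgroup G) := by
        intro v hv hv2
        have hp : IsPGroup 2 ↥(zpowers v) := by
          obtain ⟨l, -, hl⟩ := (Nat.dvd_prime_pow Nat.prime_two).1
            (orderOf_dvd_of_pow_eq_one (show v ^ (2 ^ 1) = 1 by rw [pow_one, pow_two]; exact hv2))
          exact IsPGroup.of_card (n := l) (by rw [Nat.card_zpowers, hl])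
        have hn' : zpowers v ≤ normalizer ((R : Subgroup G) : Set G) := by
          refine le_trans (zpowers_le.2 ?_) (centralizer_le_normalizer _)
          exact mem_centralizer_iff.2 fun r hr => (hcent v hv r hr).symm.eq
        have h2 := hp.to_sup_of_normal_right' R.isPGroup' hn'
        exact (le_sup_left.trans (R.is_maximal' h2 le_sup_right).le) (mem_zpowers v)
      have hzz : z * z = 1 := by
        rw [hz, ← pow_add, ← two_mul, ← pow_succ', show n - 1 + 1 = n by omega, ← h.hao,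
          pow_orderOf_eq_one]
      have hb1 : b ≠ 1 := fun e => by simpa [e] using h.hbo
      have h5 := hmem z hzz hz1 (hcent z (by simp)) (hmemR z (by simp) hzz)
      have h6 := hmem b h.bb hb1 (hcent b (by simp)) (hmemR b (by simp) h.bb)
      have h7 : z = b := mul_left_cancel (mul_right_cancel (h5.trans h6.symm))
      exact h.notMem (h7 ▸ pow_mem (mem_zpowers a) _)
    have := (Nat.pow_le_pow_iff_right (by norm_num : 1 < 2)).1 hge
    rw [show j = n by omega]
  set D1 := D.map (MulAut.conj g).toMonoidHom with hD1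
  have hD1C : D1 ≤ C := by
    rintro _ ⟨x, hx, rfl⟩; exact hg x (mem_inf.1 hx).2
  let P0 : Sylow 2 ↥C := Sylow.ofCard (D.subgroupOf C) (by
    rw [Nat.card_congr (subgroupOfEquivOfLe (inf_le_right : D ≤ C)).toEquiv, hDcard, hCfac])
  let P1 : Sylow 2 ↥C := Sylow.ofCard (D1.subgroupOf C) (by
    rw [Nat.card_congr (subgroupOfEquivOfLe hD1C).toEquiv, CfsgLib.InvChar.card_map_conj, hDcard,
      hCfac])
  obtain ⟨c, hc⟩ := CfsgLib.InvChar.sylow_conj P1 P0
  have hw : a ^ (2 ^ (n - 2)) ∈ D :=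
    mem_inf.2 ⟨pow_mem h.ha _, hinC _ (Nat.even_pow.2 ⟨even_two, by omega⟩)⟩
  have hwC : a ^ (2 ^ (n - 2)) ∈ C := (mem_inf.1 hw).2
  set y := (c : G) * (g * a ^ (2 ^ (n - 2)) * g⁻¹) * (c : G)⁻¹ with hy
  have hyD : y ∈ D := by
    have h1 : (⟨g * a ^ (2 ^ (n - 2)) * g⁻¹, hg _ hwC⟩ : ↥C) ∈ D1.subgroupOf C :=
      mem_subgroupOf.2 ⟨_, hw, rfl⟩
    have h2 : c * ⟨g * a ^ (2 ^ (n - 2)) * g⁻¹, hg _ hwC⟩ * c⁻¹ ∈ (P0 : Subgroup ↥C) := by
      rw [← hc, CfsgLib.InvChar.mem_map_conj]
      change _ ∈ D1.subgroupOf C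
      simpa [mul_assoc] using h1
    exact mem_subgroupOf.1 h2
  have hww : a ^ (2 ^ (n - 2)) * a ^ (2 ^ (n - 2)) = z := by
    rw [hz, ← pow_add, ← two_mul, ← pow_succ']; congr 2; omega
  have hcz : (c : G) * z * (c : G)⁻¹ = z :=
    mul_inv_eq_iff_eq_mul.2 ((hmemC _).1 c.2).1.symm.eq
  have hyy : y * y = (c : G) * (g * z * g⁻¹) * (c : G)⁻¹ := by
    rw [← hww, hy]; group
  have hyy2 : y * y * (y * y) = 1 := by
    rw [hyy]
    have hzz : z * z = 1 := by
      rw [hz, ← pow_add, ← two_mul, ← pow_succ', show n - 1 + 1 = n by omega, ← h.hao,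
        pow_orderOf_eq_one]
    calc _ = (c : G) * (g * (z * z) * g⁻¹) * (c : G)⁻¹ := by group
      _ = 1 := by rw [hzz]; group
  rcases h.zmem (h.sq_mem (mem_inf.1 hyD).1) hyy2 with e | e
  · exfalso
    refine hz1 ?_
    rw [hyy] at e
    calc z = g⁻¹ * ((c : G)⁻¹ * ((c : G) * (g * z * g⁻¹) * (c : G)⁻¹) * c) * g := by group
      _ = 1 := by rw [e]; group
  · rw [hyy, ← hz] at e
    calc g * z * g⁻¹ = (c : G)⁻¹ * ((c : G) * (g * z * g⁻¹) * (c : G)⁻¹) * c := by group
      _ = (c : G)⁻¹ * ((c : G) * z * (c : G)⁻¹) * c := by rw [e, hcz]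
      _ = z := by group


/-- Groups with a modular Sylow 2-subgroup have a normal 2-complement. Let S, of order 2^(n+1) with n ≥ 3, be a Sylow 2-subgroup of a finite group G, and suppose S contains an element a of order 2^n and an involution b with b a b⁻¹ = a^(2^(n-1) + 1); so S is the non-abelian 2-group with a cyclic subgroup of index 2 that is neither dihedral, semidihedral nor generalized quaternion. Then G has a normal 2-complement. -/
theorem result {G : Type*} [Group G] [Finite G]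
    (S : Sylow 2 G) (n : ℕ) (hn : 3 ≤ n) (hS : Nat.card ↥(S : Subgroup G) = 2 ^ (n + 1))
    (a b : G) (ha : a ∈ (S : Subgroup G)) (hb : b ∈ (S : Subgroup G))
    (hao : orderOf a = 2 ^ n) (hbo : orderOf b = 2) (hrel : b * a * b⁻¹ = a ^ (2 ^ (n - 1) + 1)) :
    Cfsg.HasNormalPComplement 2 G := by
  haveI : Fact (Nat.Prime 2) := ⟨Nat.prime_two⟩
  classical
  have h : Modular (S : Subgroup G) n a b := ⟨hn, ha, hb, hao, hbo, hrel, hS⟩
  refine CfsgLib.Transfer.hasNormalPComplement_of_frobeniusCond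
    (CfsgLib.Transfer.frobeniusCond_of_le_sylow S fun Q hQS g hg hcop => ?_)
  have hgodd : Odd (orderOf g) := Nat.coprime_two_right.1 hcop
  have hgq : ∀ q ∈ Q, g * q * g⁻¹ ∈ Q := fun q hq =>
    ((Subgroup.mem_normalizer_iff.1 hg) q).1 hq
  have hQp : IsPGroup 2 ↥Q := S.isPGroup'.to_le hQS
  have hchain : ∀ y r : G, r ∈ (S : Subgroup G) → g * r = r * g → g * y * g⁻¹ = y * r →
      g * y = y * g := by
    intro y r hr h1 h2
    obtain ⟨k, hk⟩ := S.isPGroup' ⟨r, hr⟩
    exact CfsgLib.InvChar.commute_of_odd_of_chain hgodd ⟨k, congrArg Subtype.val hk⟩ h1 h2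
  have hcyclic : ∀ d : G, Q ≤ Subgroup.zpowers d → g ∈ Subgroup.centralizer (Q : Set G) := by
    intro d hd
    haveI : IsCyclic ↥Q := isCyclic_of_injective (Subgroup.inclusion hd) (Subgroup.inclusion_injective hd)
    exact Subgroup.mem_centralizer_iff.2 fun q hq =>
      (CfsgLib.InvChar.commute_of_odd_of_cyclic hgodd Q hQp hg hq).symm
  by_cases hQa : Q ≤ Subgroup.zpowers a
  · exact hcyclic a hQa
  obtain ⟨d, hdQ, hda⟩ := SetLike.not_le_iff_exists.1 hQa
  obtain ⟨k, hk | hk⟩ := h.exists_form (hQS hdQ)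
  · exact absurd (hk ▸ pow_mem (Subgroup.mem_zpowers a) k) hda
  obtain ⟨c, hc⟩ := (Subgroup.isCyclic_iff_exists_zpowers_eq_top (Q ⊓ Subgroup.zpowers a)).1
    (isCyclic_of_injective (Subgroup.inclusion inf_le_right) (Subgroup.inclusion_injective _))
  have hcK : c ∈ Q ⊓ Subgroup.zpowers a := hc ▸ Subgroup.mem_zpowers c
  obtain ⟨l, hl⟩ := mem_powers_iff_mem_zpowers.2 (Subgroup.mem_inf.1 hcK).2
  simp only at hl
  have hKc : ∀ i : ℕ, a ^ i ∈ Q → a ^ i ∈ Subgroup.zpowers c := fun i hi =>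
    hc.symm ▸ Subgroup.mem_inf.2 ⟨hi, pow_mem (Subgroup.mem_zpowers a) i⟩
  by_cases hcd : c ∈ Subgroup.zpowers (d * d)
  · refine hcyclic d fun q hq => ?_
    have hK : ∀ i : ℕ, a ^ i ∈ Q → a ^ i ∈ Subgroup.zpowers d := fun i hi =>
      (Subgroup.zpowers_le.2 (mul_mem (Subgroup.mem_zpowers d) (Subgroup.mem_zpowers d)))
        ((Subgroup.zpowers_le.2 hcd) (hKc i hi))
    obtain ⟨i, hi | hi⟩ := h.exists_form (hQS hq)
    · exact hi ▸ hK i (hi ▸ hq)
    · have h1 : q * d⁻¹ ∈ Q ⊓ Subgroup.zpowers a := by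
        refine Subgroup.mem_inf.2 ⟨mul_mem hq (inv_mem hdQ), ?_⟩
        have : q * d⁻¹ = a ^ i * (a ^ k)⁻¹ := by rw [hi, hk]; group
        rw [this]
        exact mul_mem (pow_mem (Subgroup.mem_zpowers a) i)
          (inv_mem (pow_mem (Subgroup.mem_zpowers a) k))
      obtain ⟨j, hj⟩ := mem_powers_iff_mem_zpowers.2 (Subgroup.mem_inf.1 h1).2
      simp only at hj
      have h2 := hK j (hj ▸ (Subgroup.mem_inf.1 h1).1)
      rw [hj] at h2
      simpa using mul_mem h2 (Subgroup.mem_zpowers d)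
  -- now `b ∈ Q`
  set z := a ^ (2 ^ (n - 1)) with hz
  have hc1 : c ≠ 1 := fun e => hcd (e ▸ one_mem _)
  have hcQ : c ∈ Q := (Subgroup.mem_inf.1 hcK).1
  have hzc : z ∈ Subgroup.zpowers c := by
    obtain ⟨j, hj⟩ := S.isPGroup' ⟨c, hQS hcQ⟩
    have hj' : c ^ 2 ^ j = 1 := congrArg Subtype.val hj
    obtain ⟨m, -, hm⟩ := (Nat.dvd_prime_pow Nat.prime_two).1 (orderOf_dvd_of_pow_eq_one hj')
    rcases m with _ | m
    · exact absurd (orderOf_eq_one_iff.1 hm) hc1
    have ho : orderOf (c ^ 2 ^ m) = 2 := by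
      rw [orderOf_pow_of_dvd (by positivity) (hm ▸ pow_dvd_pow 2 (Nat.le_succ m)), hm, pow_succ]
      rw [Nat.mul_div_cancel_left _ (by positivity)]
    rcases h.zmem (pow_mem (Subgroup.mem_inf.1 hcK).2 (2 ^ m))
      (by
        have hp := pow_orderOf_eq_one (c ^ 2 ^ m)
        rw [ho] at hp
        exact (pow_two _).symm.trans hp) with e | e
    · rw [e, orderOf_one] at ho; omega
    · rw [hz, ← e]; exact pow_mem (Subgroup.mem_zpowers c) _
  have hzQ : z ∈ Q := (Subgroup.zpowers_le.2 hcQ) hzc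
  have hu : Odd (2 ^ (n - 2) + 1) := (Nat.even_pow.2 ⟨even_two, by omega⟩).add_one
  have hbQ : b ∈ Q := by
    have hdd : d * d ∈ Subgroup.zpowers c := by
      have := mul_mem hdQ hdQ
      rw [hk, h.sq_form] at this ⊢
      exact hKc _ this
    obtain ⟨i, hi⟩ := mem_powers_iff_mem_zpowers.2 hdd
    simp only at hi
    have hie : Even i := by
      rw [← Nat.not_odd_iff_even]
      intro hio
      refine hcd ?_
      obtain ⟨j, hj⟩ := S.isPGroup' ⟨c, hQS hcQ⟩
      obtain ⟨m, -, hm⟩ := (Nat.dvd_prime_pow Nat.prime_two).1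
        (orderOf_dvd_of_pow_eq_one (show c ^ 2 ^ j = 1 from congrArg Subtype.val hj))
      obtain ⟨r, hr⟩ := exists_pow_eq_self_of_coprime (x := c) (n := i)
        (hm ▸ coprime_odd hio)
      rw [← hr, hi]
      exact pow_mem (Subgroup.mem_zpowers _) r
    obtain ⟨i, rfl⟩ := hie
    rw [hk, h.sq_form] at hi
    have hak : a ^ (k * (2 ^ (n - 2) + 1)) ∈ Q := by
      set x := a ^ (k * (2 ^ (n - 2) + 1)) * (c ^ i)⁻¹ with hx
      have hcomm : Commute (a ^ (k * (2 ^ (n - 2) + 1))) (c ^ i)⁻¹ := by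
        rw [← hl]; exact (((Commute.refl a).pow_pow _ l).pow_right i).inv_right
      have hxx : x * x = 1 := by
        rw [hx, ← pow_two, hcomm.mul_pow, inv_pow, ← pow_mul, ← pow_mul, mul_inv_eq_one,
          show k * (2 ^ (n - 2) + 1) * 2 = 2 * k * (2 ^ (n - 2) + 1) by ring, ← hi, mul_two]
      have hxa : x ∈ Subgroup.zpowers a :=
        mul_mem (pow_mem (Subgroup.mem_zpowers a) _) (inv_mem (pow_mem (Subgroup.mem_inf.1 hcK).2 i))
      have hxQ : x ∈ Q := by
        rcases h.zmem hxa hxx with e | e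
        · rw [e]; exact one_mem _
        · rw [e, ← hz]; exact hzQ
      have := mul_mem hxQ (pow_mem hcQ i)
      simpa [hx] using this
    obtain ⟨r, hr⟩ := exists_pow_eq_self_of_coprime (x := a ^ k) (n := 2 ^ (n - 2) + 1) (by
      obtain ⟨m, -, hm⟩ := (Nat.dvd_prime_pow Nat.prime_two).1
        (h.hao ▸ (orderOf_pow_dvd k : orderOf (a ^ k) ∣ orderOf a))
      rw [hm]; exact coprime_odd hu)
    have hakQ : a ^ k ∈ Q := by rw [← hr, ← pow_mul a]; exact pow_mem hak r
    have := mul_mem (inv_mem hakQ) hdQ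
    rwa [hk, inv_mul_cancel_left] at this
  have hform : ∀ q ∈ Q, ∃ i : ℕ, q = c ^ i ∨ q = c ^ i * b := by
    intro q hq
    obtain ⟨i, hi | hi⟩ := h.exists_form (hQS hq)
    · obtain ⟨j, hj⟩ := mem_powers_iff_mem_zpowers.2 (hKc i (hi ▸ hq))
      exact ⟨j, Or.inl (by rw [hi]; exact hj.symm)⟩
    · have : a ^ i ∈ Q := by
        have := mul_mem hq (inv_mem hbQ)
        rwa [hi, mul_inv_cancel_right] at this
      obtain ⟨j, hj⟩ := mem_powers_iff_mem_zpowers.2 (hKc i this)
      exact ⟨j, Or.inr (by rw [hi]; congr 1; exact hj.symm)⟩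
  -- `g` fixes `z` and `c ^ 2`
  have hbcomm : ∀ i : ℕ, Commute b (c ^ (2 * i)) := fun i => by
    rw [← hl, ← pow_mul]; exact h.commute_even (by rw [mul_left_comm]; exact even_two_mul _)
  have hfix : g * z = z * g ∧ g * (c * c) = (c * c) * g := by
    by_cases hc2 : c * c = 1
    · refine ⟨?_, by rw [hc2]; simp⟩
      have hcz : c = z := ((h.zmem (Subgroup.mem_inf.1 hcK).2 hc2).resolve_left hc1)
      have hQV : ∀ q ∈ Q, q = 1 ∨ q = z ∨ q = b ∨ q = z * b := fun q hq => by
        obtain ⟨i, hi⟩ := hform q hq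
        have hci : c ^ i = 1 ∨ c ^ i = z := by
          rcases Nat.even_or_odd' i with ⟨j, rfl | rfl⟩
          · left; rw [pow_mul, pow_two, hc2, one_pow]
          · right; rw [pow_succ, pow_mul, pow_two, hc2, one_pow, one_mul, hcz]
        rcases hci with e | e <;> rw [e] at hi <;> rcases hi with hi | hi <;> simp [hi]
      refine mul_inv_eq_iff_eq_mul.1 (fixes_center_involution S h fun x hx => ?_)
      rw [Subgroup.mem_centralizer_iff] at hx ⊢
      intro v hv
      have hvQ : v ∈ Q := by rcases hv with rfl | rfl; exacts [hzQ, hbQ]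
      have hv' : g⁻¹ * v * g ∈ Q :=
        ((Subgroup.mem_normalizer_iff.1 hg) _).2 (by simpa [mul_assoc] using hvQ)
      have hx' : g⁻¹ * v * g * x = x * (g⁻¹ * v * g) := by
        rcases hQV _ hv' with e | e | e | e <;> rw [e]
        · simp
        · exact hx z (by simp [hz])
        · exact hx b (by simp)
        · have h1 : Commute z x := hx z (by simp [hz])
          have h2 : Commute b x := hx b (by simp)
          exact (h1.mul_left h2).eq
      calc v * (g * x * g⁻¹) = g * (g⁻¹ * v * g * x) * g⁻¹ := by group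
        _ = g * x * g⁻¹ * v := by rw [hx']; group
    · have hn2 : g ∈ Subgroup.normalizer (Subgroup.zpowers (c * c) : Set G) := by
        have key : ∀ q ∈ Q, q * q ∈ Subgroup.zpowers (c * c) := by
          intro q hq
          obtain ⟨i, rfl | rfl⟩ := hform q hq
          · rw [← (Commute.refl c).mul_pow]; exact pow_mem (Subgroup.mem_zpowers _) i
          · rw [← hl, ← pow_mul, h.sq_form, ← pow_add,
              show 2 * (l * i) * (2 ^ (n - 2) + 1) = (l + l) * (i * (2 ^ (n - 2) + 1)) by ring,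
              pow_mul]
            exact pow_mem (Subgroup.mem_zpowers _) _
        have hsub : ∀ x ∈ Subgroup.zpowers (c * c), g * x * g⁻¹ ∈ Subgroup.zpowers (c * c) := by
          rintro x ⟨j, rfl⟩
          simp only
          rw [← conj_zpow]
          refine zpow_mem ?_ j
          rw [← conj_mul]
          exact key _ (hgq c hcQ)
        rw [Subgroup.mem_normalizer_iff]
        intro x
        refine ⟨hsub x, fun hx => ?_⟩
        have heq : (Subgroup.zpowers (c * c)).map (MulAut.conj g).toMonoidHom =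
            Subgroup.zpowers (c * c) :=
          Subgroup.eq_of_le_of_card_ge (by rintro _ ⟨y, hy, rfl⟩; exact hsub y hy)
            (by rw [CfsgLib.InvChar.card_map_conj])
        rw [← heq, CfsgLib.InvChar.mem_map_conj] at hx
        simpa [mul_assoc] using hx
      have hle : Subgroup.zpowers (c * c) ≤ Q := Subgroup.zpowers_le.2 (mul_mem hcQ hcQ)
      have hcomm : ∀ x ∈ Subgroup.zpowers (c * c), g * x = x * g := fun x hx =>
        CfsgLib.InvChar.commute_of_odd_of_cyclic hgodd _ (hQp.to_le hle) hn2 hx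
      refine ⟨hcomm z ?_, hcomm _ (Subgroup.mem_zpowers _)⟩
      obtain ⟨j, hj⟩ := mem_powers_iff_mem_zpowers.2 hzc
      simp only at hj
      rcases Nat.even_or_odd' j with ⟨j, rfl | rfl⟩
      · rw [← hj, pow_mul, pow_two]; exact pow_mem (Subgroup.mem_zpowers _) j
      · exfalso
        refine hc2 ?_
        have hz2 : (c ^ (2 * j + 1)) ^ 2 = 1 := by
          rw [hj, hz, ← pow_mul, mul_comm, ← pow_succ', show n - 1 + 1 = n by omega, ← h.hao,
            pow_orderOf_eq_one]
        obtain ⟨i, hi⟩ := S.isPGroup' ⟨c, hQS hcQ⟩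
        obtain ⟨m, -, hm⟩ := (Nat.dvd_prime_pow Nat.prime_two).1
          (orderOf_dvd_of_pow_eq_one (show c ^ 2 ^ i = 1 from congrArg Subtype.val hi))
        rw [← pow_two]
        rw [← orderOf_dvd_iff_pow_eq_one, hm]
        rw [← pow_mul, ← orderOf_dvd_iff_pow_eq_one, hm, mul_comm] at hz2
        exact ((coprime_odd ⟨j, rfl⟩).symm).dvd_of_dvd_mul_right hz2
  obtain ⟨hgz, hgc2⟩ := hfix
  have hzS : z ∈ (S : Subgroup G) := hQS hzQ
  have hzfix : g * z * g⁻¹ = z := mul_inv_eq_iff_eq_mul.2 hgz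
  have hgb : g * b = b * g := by
    have h1 : g * b * g⁻¹ * (g * b * g⁻¹) = 1 := by
      rw [conj_mul, h.bb]; group
    rcases h.inv_form (hQS (hgq b hbQ)) h1 with e | e | e | e
    · exact absurd (conj_eq_one_iff.1 e) (fun e' => by simpa [e'] using hbo)
    · exfalso
      refine h.notMem ?_
      have : b = z := mul_left_cancel (mul_right_cancel (e.trans hzfix.symm))
      exact this ▸ pow_mem (Subgroup.mem_zpowers a) _
    · exact mul_inv_eq_iff_eq_mul.1 e
    · exact hchain b z hzS hgz (by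
        rw [e, (h.commute_even (Nat.even_pow.2 ⟨even_two, by omega⟩)).eq])
  have hgc : g * c = c * g := by
    have hy2 : g * c * g⁻¹ * (g * c * g⁻¹) = c * c := by
      rw [conj_mul, hgc2, mul_inv_cancel_right]
    obtain ⟨i, e | e⟩ := hform _ (hgq c hcQ)
    · set r := c⁻¹ * (g * c * g⁻¹) with hr
      have hr2 : r * r = 1 := by
        have : Commute c⁻¹ (c ^ i) := ((Commute.refl c).pow_right i).inv_left
        rw [hr, e, ← pow_two, this.mul_pow, inv_pow, pow_two, pow_two, ← e, hy2, inv_mul_cancel]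
      have hra : r ∈ Subgroup.zpowers a := by
        rw [hr, e]; exact mul_mem (inv_mem (Subgroup.mem_inf.1 hcK).2) (pow_mem (Subgroup.mem_inf.1 hcK).2 i)
      have hrS : r ∈ (S : Subgroup G) := (Subgroup.zpowers_le.2 ha) hra
      refine hchain c r hrS ?_ (by rw [hr]; group)
      rcases h.zmem hra hr2 with e' | e' <;> rw [e']
      · simp
      · exact hgz
    · rcases Nat.even_or_odd' i with ⟨j, rfl | rfl⟩
      · exfalso
        have h1 : (c ^ (2 * j)) * c ^ (2 * j) = c * c := by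
          rw [← hy2, e]
          calc c ^ (2 * j) * c ^ (2 * j) = c ^ (2 * j) * (c ^ (2 * j) * (b * b)) := by rw [h.bb, mul_one]
            _ = c ^ (2 * j) * ((b * c ^ (2 * j)) * b) := by rw [(hbcomm j).eq, mul_assoc]
            _ = _ := by group
        refine hcd ?_
        have hdm : ∀ m : ℕ, orderOf c = 2 ^ m → m ≤ 1 := by
          intro m hm
          rw [← pow_add, ← pow_two, pow_eq_pow_iff_modEq, hm] at h1
          by_contra hlt
          have h4 : (2 * j + 2 * j) ≡ 2 [MOD 4] :=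
            Nat.ModEq.of_dvd (by
              calc 4 = 2 ^ 2 := by norm_num
                _ ∣ 2 ^ m := pow_dvd_pow 2 (by omega)) h1
          unfold Nat.ModEq at h4
          omega
        obtain ⟨i, hi⟩ := S.isPGroup' ⟨c, hQS hcQ⟩
        obtain ⟨m, -, hm⟩ := (Nat.dvd_prime_pow Nat.prime_two).1
          (orderOf_dvd_of_pow_eq_one (show c ^ 2 ^ i = 1 from congrArg Subtype.val hi))
        exfalso
        have hcc : c * c = 1 := by
          rw [← pow_two, ← orderOf_dvd_iff_pow_eq_one, hm]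
          exact (pow_dvd_pow 2 (hdm m hm)).trans (by norm_num)
        -- then `g c g⁻¹ = b`, but `g` fixes `b`
        rw [pow_mul, pow_two, hcc, one_pow, one_mul] at e
        have hbfix : g * b * g⁻¹ = b := mul_inv_eq_iff_eq_mul.2 hgb
        have : c = b := mul_left_cancel (mul_right_cancel (e.trans hbfix.symm))
        exact h.notMem (this ▸ (Subgroup.mem_inf.1 hcK).2)
      · refine hchain c (c ^ (2 * j) * b) (mul_mem (pow_mem (hQS hcQ) _) hb) ?_ ?_
        · have h1 : Commute g (c ^ (2 * j)) := by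
            rw [pow_mul, pow_two]; exact (show Commute g (c * c) from hgc2).pow_right j
          exact (h1.mul_right (show Commute g b from hgb)).eq
        · rw [e, pow_succ', mul_assoc]
  refine Subgroup.mem_centralizer_iff.2 fun q hq => ?_
  obtain ⟨i, rfl | rfl⟩ := hform q hq
  · exact ((show Commute g c from hgc).pow_right i).eq.symm
  · exact (((show Commute g c from hgc).pow_right i).mul_right (show Commute g b from hgb)).eq.symm

end Cfsg.Agent.S3178
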