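import Cfsg.Statements.S3179
import Cfsg.Agent.Lib.PSL2.Basic
import Cfsg.Agent.Lib.SuzukiGroup.Group
import Cfsg.Agent.S0280
import Cfsg.Agent.Lib.Frobenius.Action

set_option autoImplicit false
open Cfsg

namespace Cfsg.Agent.S3179

open Matrix

theorem card_gl5 : Nat.card (GL (Fin 5) (ZMod 2)) = 9999360 := by
  haveI : Fact (Nat.Prime 2) := ⟨Nat.prime_two⟩
  rw [Matrix.card_GL_field, ZMod.card, Fin.prod_univ_five]
  norm_num

abbrev M5 := Matrix (Fin 5) (Fin 5) (ZMod 2)

theorem no_order_nine (g : GL (Fin 5) (ZMod 2)) : orderOf g ≠ 9 := by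
  intro hg
  haveI : Fact (Nat.Prime 2) := ⟨Nat.prime_two⟩
  classical
  set A : Matrix (Fin 5) (Fin 5) (ZMod 2) := ↑g with hA
  set B := A ^ 3 with hB
  have h9 : A ^ 9 = 1 := by
    rw [hA, ← Units.val_pow_eq_pow_val, ← hg, pow_orderOf_eq_one, Units.val_one]
  have h3 : B ≠ 1 := by
    rw [hB, hA, ← Units.val_pow_eq_pow_val, Ne, Units.val_eq_one]
    intro h
    have := orderOf_dvd_of_pow_eq_one h
    rw [hg] at this
    norm_num at this
  have hB3 : B ^ 3 = 1 := by rw [hB, ← pow_mul, show 3 * 3 = 9 by norm_num, h9]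
  set W : AddSubgroup (Fin 5 → ZMod 2) := (Matrix.mulVecLin (B + 1)).toAddMonoidHom.range with hW
  have hmemW : ∀ w : W, ∃ v, (B + 1) *ᵥ v = (w : Fin 5 → ZMod 2) := fun w => w.2
  have hinv : ∀ k : ℕ, ∀ w ∈ W, (A ^ k) *ᵥ w ∈ W := by
    rintro k w ⟨v, rfl⟩
    refine ⟨(A ^ k) *ᵥ v, ?_⟩
    change (B + 1) *ᵥ ((A ^ k) *ᵥ v) = (A ^ k) *ᵥ ((B + 1) *ᵥ v)
    rw [mulVec_mulVec, mulVec_mulVec, add_mul, one_mul, mul_add, mul_one, hB, ← pow_add, ← pow_add,
      add_comm 3 k]
  have htwo : ∀ u : Fin 5 → ZMod 2, u + u = 0 := fun u => funext fun i => by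
    simpa using CharTwo.add_self_eq_zero (u i)
  -- the cyclic group acts semiregularly on `W`
  letI act : MulDistribMulAction (Subgroup.zpowers g) (Multiplicative W) :=
    { smul := fun x w => Multiplicative.ofAdd ⟨((x : GL (Fin 5) (ZMod 2)) : M5) *ᵥ
        ((Multiplicative.toAdd w : W) : Fin 5 → ZMod 2), by
          obtain ⟨k, hk⟩ := mem_powers_iff_mem_zpowers.2 x.2
          rw [← hk, Units.val_pow_eq_pow_val, ← hA]
          exact hinv k _ (Multiplicative.toAdd w : W).2⟩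
      one_smul := fun w => Subtype.ext (by
        show ((1 : GL (Fin 5) (ZMod 2)) : M5) *ᵥ _ = _
        rw [Units.val_one, one_mulVec]; rfl)
      mul_smul := fun x y w => Subtype.ext (by
        show (((x * y : Subgroup.zpowers g) : GL (Fin 5) (ZMod 2)) : M5) *ᵥ _ =
          ((x : GL (Fin 5) (ZMod 2)) : M5) *ᵥ
            (((y : GL (Fin 5) (ZMod 2)) : M5) *ᵥ _)
        rw [mulVec_mulVec, Subgroup.coe_mul, Units.val_mul])
      smul_one := fun x => Subtype.ext (by
        show _ *ᵥ (0 : Fin 5 → ZMod 2) = 0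
        rw [mulVec_zero])
      smul_mul := fun x v w => Subtype.ext (by
        exact mulVec_add ((x : GL (Fin 5) (ZMod 2)) : M5) _ _) }
  have hfpf : CfsgLib.Frobenius.IsFPF (Subgroup.zpowers g) (Multiplicative W) := by
    intro x hx w hw
    obtain ⟨v, hv⟩ := hmemW (Multiplicative.toAdd w)
    have hfix : ((x : GL (Fin 5) (ZMod 2)) : M5) *ᵥ ((B + 1) *ᵥ v) = (B + 1) *ᵥ v := by
      rw [hv]
      exact congrArg (fun z : Multiplicative W =>
        ((Multiplicative.toAdd z : W) : Fin 5 → ZMod 2)) hw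
    -- `B` fixes the vector
    obtain ⟨k, hk⟩ := mem_powers_iff_mem_zpowers.2 x.2
    simp only at hk
    have hk9 : ¬ 9 ∣ k := by
      rintro ⟨j, rfl⟩
      refine hx (Subtype.ext ?_)
      rw [← hk, pow_mul, ← hg, pow_orderOf_eq_one, one_pow]
      rfl
    rw [← hk, Units.val_pow_eq_pow_val, ← hA] at hfix
    have hiter : ∀ m : ℕ, (A ^ (k * m)) *ᵥ ((B + 1) *ᵥ v) = (B + 1) *ᵥ v := by
      intro m
      induction m with
      | zero => simp
      | succ m ih => rw [Nat.mul_succ, pow_add, ← mulVec_mulVec, hfix, ih]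
    have hBfix : B *ᵥ ((B + 1) *ᵥ v) = (B + 1) *ᵥ v := by
      obtain ⟨m, hm⟩ : ∃ m, k * m % 9 = 3 := by
        have : k % 9 ≠ 0 := fun h => hk9 (Nat.dvd_of_mod_eq_zero h)
        have hlt := Nat.mod_lt k (show 9 > 0 by norm_num)
        interval_cases h : k % 9
        all_goals first
          | omega
          | (refine ⟨3, ?_⟩; rw [Nat.mul_mod, h]; done)
          | (refine ⟨6, ?_⟩; rw [Nat.mul_mod, h]; done)
          | (refine ⟨1, ?_⟩; rw [Nat.mul_mod, h]; done)
          | (refine ⟨2, ?_⟩; rw [Nat.mul_mod, h]; done)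
      have := hiter m
      rwa [← Nat.mod_add_div (k * m) 9, hm, pow_add, pow_mul, h9, one_pow, mul_one] at this
    have h2 : (B ^ 2) *ᵥ v = v := by
      rw [mulVec_mulVec, mul_add, mul_one, add_mulVec, add_mulVec, one_mulVec, ← pow_two] at hBfix
      calc (B ^ 2) *ᵥ v = (B ^ 2) *ᵥ v + B *ᵥ v + B *ᵥ v := by rw [add_assoc, htwo, add_zero]
        _ = v := by rw [hBfix, add_comm (B *ᵥ v) v, add_assoc, htwo, add_zero]
    have h4 : B *ᵥ v = v := by
      conv_lhs => rw [← h2, mulVec_mulVec, ← pow_succ', hB3, one_mulVec]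
    have h0 : (B + 1) *ᵥ v = 0 := by rw [add_mulVec, one_mulVec, h4, htwo]
    apply Multiplicative.toAdd.injective
    exact Subtype.ext (hv.symm.trans h0)
  have hd := hfpf.card_dvd_sub_one
  rw [Nat.card_zpowers, hg, Nat.card_congr Multiplicative.toAdd] at hd
  have hW32 : Nat.card W ∣ 32 := by
    have h := AddSubgroup.card_addSubgroup_dvd_card W
    simpa [Nat.card_eq_fintype_card] using h
  have h1 : Nat.card W = 1 := by
    have := Nat.le_of_dvd (by norm_num) hW32
    have := Nat.card_pos (α := W)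
    interval_cases h : Nat.card W <;> revert hd hW32 <;> norm_num
  apply h3
  refine Matrix.ext_of_mulVec_single fun i => ?_
  have hbot : W = ⊥ := AddSubgroup.eq_bot_of_card_eq W h1
  have : (B + 1) *ᵥ Pi.single i 1 ∈ W := ⟨Pi.single i 1, rfl⟩
  rw [hbot, AddSubgroup.mem_bot, add_mulVec, one_mulVec] at this
  rw [one_mulVec]
  calc B *ᵥ Pi.single i 1 = B *ᵥ Pi.single i 1 + Pi.single i 1 + Pi.single i 1 := by
        rw [add_assoc, htwo, add_zero]
    _ = Pi.single i 1 := by rw [this, zero_add]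

theorem exists_order_nine {F : Type*} [Field F] [Fintype F] (hF : Fintype.card F = 8) :
    ∃ y : Matrix.ProjectiveSpecialLinearGroup (Fin 2) F, orderOf y = 9 := by
  classical
  obtain ⟨p, hp⟩ := CharP.exists F
  haveI := hp
  obtain ⟨n, hprime, hn⟩ := FiniteField.card F p
  have hp2 : p = 2 := by
    have : p ∣ 2 ^ 3 := by rw [show (2 : ℕ) ^ 3 = 8 by norm_num, ← hF, hn]; exact dvd_pow_self p n.2.ne'
    exact (Nat.prime_dvd_prime_iff_eq hprime Nat.prime_two).1 (hprime.dvd_of_dvd_pow this)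
  subst hp2
  have two : (2 : F) = 0 := CharTwo.two_eq_zero
  obtain ⟨x, hx0, hx1⟩ : ∃ x : F, x ≠ 0 ∧ x ≠ 1 := by
    by_contra h
    push Not at h
    have h2 : (Finset.univ : Finset F) ⊆ {0, 1} := fun x _ => by
      by_cases hx : x = 0
      · simp [hx]
      · simp [h x hx]
    have := (Finset.card_le_card h2).trans Finset.card_le_two
    rw [Finset.card_univ, hF] at this
    omega
  have h7 : x ^ 7 = 1 := by
    have := FiniteField.pow_card_sub_one_eq_one x hx0
    rwa [hF] at this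
  obtain ⟨t, ht⟩ : ∃ t : F, t ^ 3 + t + 1 = 0 := by
    have h : (x - 1) * ((x ^ 3 + x + 1) * (x ^ 3 + x ^ 2 + 1)) = 0 := by
      linear_combination h7 - x ^ 3 * two + x ^ 4 * two
    rcases mul_eq_zero.1 ((mul_eq_zero.1 h).resolve_left (sub_ne_zero.2 hx1)) with h' | h'
    · exact ⟨x, h'⟩
    · refine ⟨x⁻¹, ?_⟩
      field_simp
      linear_combination h'
  obtain ⟨M, hM⟩ : ∃ M : Matrix.SpecialLinearGroup (Fin 2) F,
      (M : Matrix (Fin 2) (Fin 2) F) = !![t, 1; 1, 0] :=
    ⟨⟨!![t, 1; 1, 0], by rw [det_fin_two_of]; linear_combination (-1 : F) * two⟩, rfl⟩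
  have hM3 : ((M ^ 3 : Matrix.SpecialLinearGroup (Fin 2) F) : Matrix (Fin 2) (Fin 2) F) =
      !![t + 1, t ^ 2 + 1; t ^ 2 + 1, t] := by
    rw [pow_succ, pow_succ, pow_one]
    change M.1 * M.1 * M.1 = _
    rw [show M.1 = !![t, 1; 1, 0] from hM]
    simp only [mul_fin_two]
    ext i j
    fin_cases i <;> fin_cases j <;>
      simp only [of_apply, cons_val', cons_val_fin_one, cons_val_zero, cons_val_one, Fin.zero_eta, Fin.mk_one] <;>
      first
        | ring1
        | linear_combination ht - two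
        | linear_combination ht
  have hM9 : M ^ 9 = 1 := by
    rw [show (9 : ℕ) = 3 * 3 by norm_num, pow_mul]
    apply Subtype.ext
    generalize M ^ 3 = R at hM3 ⊢
    rw [pow_succ, pow_succ, pow_one]
    change R.1 * R.1 * R.1 = (1 : Matrix (Fin 2) (Fin 2) F)
    rw [show R.1 = !![t + 1, t ^ 2 + 1; t ^ 2 + 1, t] from hM3]
    simp only [mul_fin_two]
    ext i j
    fin_cases i <;> fin_cases j <;>
      simp only [of_apply, cons_val', cons_val_fin_one, cons_val_zero, cons_val_one, Fin.zero_eta, Fin.mk_one, one_apply_eq, ne_eq, one_apply_ne, Fin.reduceEq, not_false_eq_true] <;>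
      first
        | linear_combination (4 + 2 * t + 3 * t ^ 2) * ht + (-1 + t ^ 2) * two
        | linear_combination (2 + 5 * t + t ^ 3) * ht + (-2 * t + t ^ 2) * two
        | linear_combination (4 + t + 3 * t ^ 2) * ht + (-2 - t - t ^ 2) * two
        | ring1
  refine ⟨QuotientGroup.mk M, ?_⟩
  haveI : Fact (Nat.Prime 3) := ⟨by norm_num⟩
  refine orderOf_eq_prime_pow (p := 3) (n := 1) ?_ ?_
  · rw [pow_one, ← QuotientGroup.mk_pow, QuotientGroup.eq_one_iff]
    intro hc
    have h0 := Matrix.SpecialLinearGroup.mem_center_iff.1 hc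
    obtain ⟨r, -, hr⟩ := h0
    rw [hM3] at hr
    have h01 := congrFun (congrFun hr 0) 1
    simp [Matrix.scalar_apply] at h01
    have hsq : (t + 1) ^ 2 = 0 := by linear_combination -h01 + t * two
    have ht1 : t + 1 = 0 := eq_zero_of_pow_eq_zero hsq
    have : (1 : F) = 0 := by linear_combination ht - (t ^ 2 - t + 2) * ht1 + two
    exact one_ne_zero this
  · rw [show (3 : ℕ) ^ (1 + 1) = 9 by norm_num, ← QuotientGroup.mk_pow, hM9]
    rfl

theorem dvd_card {H : Subgroup (GL (Fin 5) (ZMod 2))} {K : Subgroup ↥H} [K.Normal] {X : Type*}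
    [Group X] (e : ↥H ⧸ K ≃* X) : Nat.card X ∣ 9999360 := by
  rw [← Nat.card_congr e.toEquiv, ← card_gl5]
  exact (Subgroup.card_quotient_dvd_card K).trans (Subgroup.card_subgroup_dvd_card H)


/-- Let X be a section of the general linear group GL(5, 2), that is, a quotient of a subgroup of it. If X is isomorphic to PSL(2, 2^n) for some n ≥ 2, to a Suzuki group over the field with 2^(2m+1) elements for some m ≥ 1, or to PSU(3, 2^n) for some n ≥ 2, then X is isomorphic to PSL(2, 4). -/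
theorem result {H : Subgroup (GL (Fin 5) (ZMod 2))}
    {K : Subgroup ↥H} [K.Normal]
    (hX : (∃ (n : ℕ) (F : Type) (_ : Field F) (_ : Fintype F), 2 ≤ n ∧ Fintype.card F = 2 ^ n ∧
        Nonempty (↥H ⧸ K ≃* Matrix.ProjectiveSpecialLinearGroup (Fin 2) F)) ∨
      (∃ (m : ℕ) (F : Type) (_ : Field F) (_ : Fintype F), 1 ≤ m ∧ Fintype.card F = 2 ^ (2 * m + 1) ∧
        Nonempty (↥H ⧸ K ≃* ↥(Cfsg.Lie.Sz F (2 ^ (m + 1))))) ∨
      (∃ (n : ℕ) (F : Type) (_ : Field F) (_ : Fintype F), 2 ≤ n ∧ Fintype.card F = 4 ^ n ∧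
        Nonempty (↥H ⧸ K ≃* Cfsg.PSU 3 F (2 ^ n)))) :
    ∃ (F : Type) (_ : Field F) (_ : Fintype F), Fintype.card F = 4 ∧
      Nonempty (↥H ⧸ K ≃* Matrix.ProjectiveSpecialLinearGroup (Fin 2) F) := by
  classical
  rcases hX with ⟨n, F, i1, i2, hn, hF, ⟨e⟩⟩ | ⟨m, F, i1, i2, hm, hF, ⟨e⟩⟩ | ⟨n, F, i1, i2, hn, hF, ⟨e⟩⟩
  · have hd := dvd_card e
    have hc := CfsgLib.PSL2.card_psl (F := F)
    have hg : Nat.gcd 2 (Fintype.card F - 1) = 1 := by
      have h2 : 2 ∣ Fintype.card F := hF ▸ dvd_pow_self 2 (by omega)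
      have hpos : 0 < Fintype.card F := Fintype.card_pos
      exact (Nat.coprime_two_left.2 (Nat.odd_iff.2 (by omega))).gcd_eq_one
    rw [hg, one_mul] at hc
    rw [hc, hF] at hd
    have hn8 : n < 8 := by
      by_contra hge
      have h256 : 256 ≤ 2 ^ n := le_trans (by norm_num) (Nat.pow_le_pow_right (by norm_num) (not_lt.1 hge))
      have h1 := Nat.le_of_dvd (by norm_num) hd
      have h2 : 257 * (256 * 255) ≤ (2 ^ n + 1) * (2 ^ n * (2 ^ n - 1)) :=
        Nat.mul_le_mul (by omega) (Nat.mul_le_mul h256 (by omega))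
      omega
    interval_cases n
    · exact ⟨F, i1, i2, by rw [hF]; norm_num, ⟨e⟩⟩
    · exfalso
      obtain ⟨y, hy⟩ := exists_order_nine (by rw [hF]; norm_num : Fintype.card F = 8)
      obtain ⟨h, hh⟩ := QuotientGroup.mk'_surjective K (e.symm y)
      have h9 : 9 ∣ orderOf (h : GL (Fin 5) (ZMod 2)) := by
        rw [Subgroup.orderOf_coe, ← hy, ← MulEquiv.orderOf_eq e.symm y, ← hh]
        exact orderOf_map_dvd _ h
      exact no_order_nine _ (orderOf_pow_orderOf_div (orderOf_pos _).ne' h9)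
    all_goals norm_num at hd
  · exfalso
    have hd := dvd_card e
    obtain ⟨hc2, ⟨P⟩⟩ := CfsgLib.SuzukiGroup.exists_params hF
    haveI := hc2
    rw [CfsgLib.SuzukiGroup.card_sz P, hF] at hd
    rcases eq_or_lt_of_le hm with rfl | hm2
    · norm_num at hd
    · have h32 : 32 ≤ 2 ^ (2 * m + 1) := le_trans (by norm_num) (Nat.pow_le_pow_right (by norm_num) (show 5 ≤ 2 * m + 1 by omega))
      have h1 := Nat.le_of_dvd (by norm_num) hd
      have h2 : 32 ^ 2 * 31 * 1025 ≤ (2 ^ (2 * m + 1)) ^ 2 * (2 ^ (2 * m + 1) - 1) * ((2 ^ (2 * m + 1)) ^ 2 + 1) :=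
        Nat.mul_le_mul (Nat.mul_le_mul (Nat.pow_le_pow_left h32 2) (by omega))
          (by have := Nat.pow_le_pow_left h32 2; omega)
      norm_num at h2
      omega
  · exfalso
    have hd := dvd_card e
    have hq : Fintype.card F = (2 ^ n) ^ 2 := by rw [hF, ← pow_mul, mul_comm n 2, pow_mul]; norm_num
    have hc := Cfsg.Agent.S0280.result hq 3 (by norm_num)
    simp only [Finset.prod_range_succ, Finset.prod_range_zero, Nat.reduceAdd, Nat.reduceMul,
      Nat.reduceDiv, Nat.reduceSub, Nat.not_even_one, even_two, Even.zero, if_true, if_false,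
      one_mul, pow_one] at hc
    rcases le_or_gt 4 n with h4 | h4
    · have h16 : 16 ≤ 2 ^ n := le_trans (by norm_num) (Nat.pow_le_pow_right (by norm_num) h4)
      have h1 := Nat.le_of_dvd (by norm_num) hd
      set q := 2 ^ n
      set N := Nat.card (Cfsg.PSU 3 F q)
      have hg : Nat.gcd 3 (q + 1) ≤ 3 := Nat.le_of_dvd (by norm_num) (Nat.gcd_dvd_left _ _)
      have e2 : Nat.gcd 3 (q + 1) * ((q + 1) * N) ≤ 3 * ((q + 1) * N) := Nat.mul_le_mul_right _ hg
      have e3 : q ^ 3 * ((q + 1) * (q ^ 2 - 1) * (q ^ 3 + 1)) ≤ 3 * ((q + 1) * N) := hc ▸ e2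
      have h256 : 255 ≤ q ^ 2 - 1 := by have := Nat.pow_le_pow_left h16 2; omega
      have e4 : 16 ^ 3 * ((q + 1) * 255 * (16 ^ 3 + 1)) ≤ q ^ 3 * ((q + 1) * (q ^ 2 - 1) * (q ^ 3 + 1)) :=
        Nat.mul_le_mul (Nat.pow_le_pow_left h16 3) (Nat.mul_le_mul (Nat.mul_le_mul_left _ h256)
          (by have := Nat.pow_le_pow_left h16 3; omega))
      have e5 : 3 * ((q + 1) * N) ≤ 3 * ((q + 1) * 9999360) := by
        exact Nat.mul_le_mul_left _ (Nat.mul_le_mul_left _ h1)
      nlinarith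
    · interval_cases n
      all_goals
        simp only [Nat.reducePow, Nat.reduceAdd, Nat.reduceSub, Nat.reduceMul] at hc
        norm_num at hc
      · have hN : Nat.card (Cfsg.PSU 3 F (2 ^ 2)) = 62400 := by norm_num; omega
        rw [hN] at hd
        norm_num at hd
      · have hN : Nat.card (Cfsg.PSU 3 F (2 ^ 3)) = 5515776 := by norm_num; omega
        rw [hN] at hd
        norm_num at hd

end Cfsg.Agent.S3179
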