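import Cfsg.Statements.S3180
import Cfsg.Agent.Lib.InvChar.Conj

set_option autoImplicit false
open Cfsg

namespace Cfsg.Agent.S3180

open CfsgLib.InvChar


/-- Let P be a Sylow p-subgroup of a finite group J and P₁ a subgroup of P that is weakly closed in P with respect to J. If J acts on a set and two points, each fixed by every element of P₁, lie in one J-orbit, then they lie in one orbit of the normalizer of P₁ in J. -/
theorem result {J : Type*} [Group J] [Finite J]
    {p : ℕ} [Fact p.Prime] (P : Sylow p J) (P₁ : Subgroup J) (hW : Cfsg.IsWeaklyClosed P₁ (P : Subgroup J))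
    {Ω : Type*} [MulAction J Ω] (x y : Ω) (hx : ∀ g ∈ P₁, g • x = x) (hy : ∀ g ∈ P₁, g • y = y)
    (hc : ∃ g : J, g • x = y) :
    ∃ g ∈ Subgroup.normalizer (P₁ : Set J), g • x = y := by
  obtain ⟨g, hg⟩ := hc
  obtain ⟨hle, hwc⟩ := hW
  set H := MulAction.stabilizer J y with hH
  have hP1p : IsPGroup p ↥P₁ := P.2.to_le hle
  have h1 : P₁ ≤ H := fun a ha => hy a ha
  have h2 : P₁.map (MulAut.conj g).toMonoidHom ≤ H := by
    intro a ha
    rw [mem_map_conj] at ha
    have := hx _ ha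
    rw [hH, MulAction.mem_stabilizer_iff]
    calc a • y = g • ((g⁻¹ * a * g) • x) := by rw [← hg, ← mul_smul, ← mul_smul]; congr 1; simp [mul_assoc]
      _ = g • x := by rw [this]
      _ = y := hg
  obtain ⟨T0, hT0⟩ := (hP1p.comap_subtype (K := H)).exists_le_sylow
  obtain ⟨T, hT⟩ := (T0.2.map H.subtype).exists_le_sylow
  have h1T : P₁ ≤ (T : Subgroup J) := fun a ha =>
    hT ⟨⟨a, h1 ha⟩, hT0 ha, rfl⟩
  obtain ⟨h, hh, hhle⟩ := exists_conj_le_of_sylow_in H T0 _ (hP1p.map _) h2
  have hhT := hhle.trans hT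
  obtain ⟨c, hc⟩ := sylow_conj T P
  have hcP : P₁.map (MulAut.conj c).toMonoidHom = P₁ := hwc c (hc ▸ map_conj_mono c h1T)
  have h3 : P₁.map (MulAut.conj (c * (h * g))).toMonoidHom = P₁ := hwc _ (by
    rw [map_conj_mul, map_conj_mul, ← hc]
    exact map_conj_mono c hhT)
  refine ⟨h * g, ?_, ?_⟩
  · have h4 := Subgroup.mul_mem _ (Subgroup.inv_mem _ (map_conj_eq_iff.1 hcP)) (map_conj_eq_iff.1 h3)
    simpa using h4
  · rw [mul_smul, hg]
    exact hh

end Cfsg.Agent.S3180
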