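import Cfsg.Statements.S3183
import Cfsg.Agent.Lib.InvChar.Conj

set_option autoImplicit false
open Cfsg

namespace Cfsg.Agent.S3183

open CfsgLib.InvChar

variable {G : Type*} [Group G]

theorem mem_center_map {H : Subgroup G} {x : G} :
    x ∈ (Subgroup.center ↥H).map H.subtype ↔ x ∈ H ∧ ∀ h ∈ H, h * x = x * h := by
  constructor
  · rintro ⟨y, hy, rfl⟩
    exact ⟨y.2, fun h hh => congrArg Subtype.val (Subgroup.mem_center_iff.1 hy ⟨h, hh⟩)⟩
  · rintro ⟨hx, hc⟩
    exact ⟨⟨x, hx⟩, Subgroup.mem_center_iff.2 fun h => Subtype.ext (hc h h.2), rfl⟩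

theorem inter_le_center [Finite G]
    (hCI : ∀ S T : Sylow 2 G, S ≠ T → ∃ U : Sylow 2 G,
      (S : Subgroup G) ⊓ (T : Subgroup G) ≤ (Subgroup.center ↥(U : Subgroup G)).map (U : Subgroup G).subtype) :
    ∀ (n : ℕ) (S T : Sylow 2 G), T ≠ S →
      Nat.card G - Nat.card ↥((S : Subgroup G) ⊓ (T : Subgroup G)) = n →
      (S : Subgroup G) ⊓ (T : Subgroup G) ≤ (Subgroup.center ↥(S : Subgroup G)).map (S : Subgroup G).subtype := by
  intro n
  induction n using Nat.strong_induction_on with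
  | _ n ih =>
  intro S T hTS hn
  have : Fact (Nat.Prime 2) := ⟨Nat.prime_two⟩
  obtain ⟨U, hU⟩ := hCI S T hTS.symm
  by_cases hUS : U = S
  · exact hUS ▸ hU
  have hDU : (S : Subgroup G) ⊓ (T : Subgroup G) ≤ (U : Subgroup G) :=
    hU.trans (Subgroup.map_subtype_le _)
  set D := (S : Subgroup G) ⊓ (T : Subgroup G) with hD
  have key : ∀ V : Sylow 2 G, V ≠ S → D < (S : Subgroup G) ⊓ (V : Subgroup G) →
      D ≤ (Subgroup.center ↥(S : Subgroup G)).map (S : Subgroup G).subtype := by
    intro V hV hlt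
    refine le_trans hlt.le (ih _ ?_ S V hV rfl)
    have h1 : Nat.card ↥D < Nat.card ↥((S : Subgroup G) ⊓ (V : Subgroup G)) := by
      by_contra hcon
      exact hlt.ne (Subgroup.eq_of_le_of_card_ge hlt.le (not_lt.1 hcon))
    have h2 := Subgroup.card_le_card_group ((S : Subgroup G) ⊓ (V : Subgroup G))
    omega
  -- `U` normalises `D`
  have hUN : (U : Subgroup G) ≤ Subgroup.normalizer (D : Set G) := by
    intro u hu
    rw [← map_conj_eq_iff]
    ext d
    rw [mem_map_conj]
    constructor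
    · intro hd
      obtain ⟨-, hc⟩ := mem_center_map.1 (hU hd)
      have := hc u hu
      have h3 : u * (u⁻¹ * d * u) = d * u := by simp [mul_assoc]
      rw [this] at h3
      have h4 : u⁻¹ * d * u = d := mul_right_cancel h3
      rwa [h4] at hd
    · intro hd
      obtain ⟨-, hc⟩ := mem_center_map.1 (hU hd)
      have h5 : u⁻¹ * d * u = d := by rw [mul_assoc, ← hc u hu, inv_mul_cancel_left]
      rwa [h5]
  have hDlt : D < (S : Subgroup G) := by
    refine lt_of_le_of_ne inf_le_left fun h => hTS ?_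
    exact Sylow.ext (S.3 T.2 (inf_eq_left.1 h))
  obtain ⟨h, hhN, hhle⟩ := exists_conj_le_of_sylow_in (Subgroup.normalizer (D : Set G))
    (U.subtype hUN) ((S : Subgroup G) ⊓ Subgroup.normalizer (D : Set G)) (S.2.to_le inf_le_left) inf_le_right
  rw [Sylow.coe_subtype, Subgroup.map_subgroupOf_eq_of_le hUN] at hhle
  have hhle' : (S : Subgroup G) ⊓ Subgroup.normalizer (D : Set G) ≤
      ((h⁻¹ • U : Sylow 2 G) : Subgroup G) := by
    intro a ha
    have : h * a * h⁻¹ ∈ (U : Subgroup G) := hhle ⟨a, ha, rfl⟩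
    rw [Sylow.coe_subgroup_smul]
    exact ⟨_, this, by simp [mul_assoc]⟩
  by_cases hV : h⁻¹ • U = S
  · -- then `S` centralises `D`
    intro d hd
    refine mem_center_map.2 ⟨hd.1, fun s hs => ?_⟩
    rw [← hV, Sylow.coe_subgroup_smul] at hs
    obtain ⟨u, hu, rfl⟩ := hs
    have hd' : h * d * h⁻¹ ∈ D := (Subgroup.mem_normalizer_iff.1 hhN d).1 hd
    obtain ⟨-, hc⟩ := mem_center_map.1 (hU hd')
    show (h⁻¹ * u * h⁻¹⁻¹) * d = d * (h⁻¹ * u * h⁻¹⁻¹)
    calc (h⁻¹ * u * h⁻¹⁻¹) * d = h⁻¹ * (u * (h * d * h⁻¹)) * h := by simp [mul_assoc]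
      _ = h⁻¹ * ((h * d * h⁻¹) * u) * h := by rw [hc u hu]
      _ = d * (h⁻¹ * u * h⁻¹⁻¹) := by simp [mul_assoc]
  · exact key _ hV (lt_of_lt_of_le (lt_normalizer_inf_of_lt S.2 hDlt) (le_inf inf_le_left hhle'))


/-- Let G be a finite group in which the intersection of any two distinct Sylow 2-subgroups is contained in the centre of some Sylow 2-subgroup, and let S be a Sylow 2-subgroup. Then for every x in S the centralizer of x in S is a Sylow 2-subgroup of the centralizer of x in G (no 2-subgroup centralizing x is larger), and for every other Sylow 2-subgroup T the intersection S ∩ T lies in both the centre of S and the centre of T. -/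
theorem result {G : Type*} [Group G] [Finite G]
    (hCI : ∀ S T : Sylow 2 G, S ≠ T → ∃ U : Sylow 2 G,
      (S : Subgroup G) ⊓ (T : Subgroup G) ≤ (Subgroup.center ↥(U : Subgroup G)).map (U : Subgroup G).subtype)
    (S : Sylow 2 G) :
    (∀ x ∈ (S : Subgroup G), ∀ P : Subgroup G, IsPGroup 2 ↥P → P ≤ Subgroup.centralizer ({x} : Set G) →
        Nat.card ↥P ≤ Nat.card ↥((S : Subgroup G) ⊓ Subgroup.centralizer ({x} : Set G))) ∧
    (∀ T : Sylow 2 G, T ≠ S →
        (S : Subgroup G) ⊓ (T : Subgroup G) ≤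
          (Subgroup.center ↥(S : Subgroup G)).map (S : Subgroup G).subtype ⊓
            (Subgroup.center ↥(T : Subgroup G)).map (T : Subgroup G).subtype) := by
  haveI : Fact (Nat.Prime 2) := ⟨Nat.prime_two⟩
  refine ⟨?_, fun T hT => le_inf (inter_le_center hCI _ S T hT rfl) ?_⟩
  · intro x hxS P hP hPx
    have hPN : P ≤ Subgroup.normalizer ((Subgroup.zpowers x : Subgroup G) : Set G) := by
      intro p hp
      rw [← map_conj_eq_iff, MonoidHom.map_zpowers]
      have := Subgroup.mem_centralizer_singleton_iff.1 (hPx hp)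
      simp [this, mul_assoc]
    have hzP : IsPGroup 2 ↥(P ⊔ Subgroup.zpowers x) :=
      hP.to_sup_of_normal_right' (S.2.to_le (Subgroup.zpowers_le.2 hxS)) hPN
    obtain ⟨T, hT⟩ := hzP.exists_le_sylow
    have hPT : P ≤ (T : Subgroup G) := le_sup_left.trans hT
    by_cases hTS : T = S
    · exact Subgroup.card_le_of_le (le_inf (hTS ▸ hPT) hPx)
    · have hx : x ∈ (Subgroup.center ↥(S : Subgroup G)).map (S : Subgroup G).subtype :=
        inter_le_center hCI _ S T hTS rfl
          ⟨hxS, hT (Subgroup.mem_sup_right (Subgroup.mem_zpowers x))⟩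
      have hS : (S : Subgroup G) ⊓ Subgroup.centralizer ({x} : Set G) = (S : Subgroup G) :=
        inf_eq_left.2 fun s hs => Subgroup.mem_centralizer_singleton_iff.2 ((mem_center_map.1 hx).2 s hs)
      rw [hS]
      calc Nat.card ↥P ≤ Nat.card ↥(T : Subgroup G) := Subgroup.card_le_of_le hPT
        _ = Nat.card ↥(S : Subgroup G) := Nat.card_congr (T.equiv S).toEquiv
  · rw [inf_comm]
    exact inter_le_center hCI _ T S (Ne.symm hT) rfl

end Cfsg.Agent.S3183
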