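import Cfsg.Statements.S3184
import Cfsg.Agent.S0215
-- import your own Cfsg.Agent.* helpers here

set_option autoImplicit false
open Cfsg

namespace Cfsg.Agent.S3184

/-- Let G be a finite group in which the intersection of any two distinct Sylow 2-subgroups is contained in the centre of some Sylow 2-subgroup, and let S be a Sylow 2-subgroup. If C is a nontrivial cyclic characteristic subgroup of S, then the involution of C is central modulo the largest normal subgroup of odd order of G: each of its conjugates has the same image in G/O(G). -/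
theorem result {G : Type*} [Group G] [Finite G]
    (hCI : ∀ S T : Sylow 2 G, S ≠ T → ∃ U : Sylow 2 G,
      (S : Subgroup G) ⊓ (T : Subgroup G) ≤ (Subgroup.center ↥(U : Subgroup G)).map (U : Subgroup G).subtype)
    (S : Sylow 2 G) (C : Subgroup ↥(S : Subgroup G)) (hC : C ≠ ⊥) (hCc : IsCyclic ↥C) (hCh : C.Characteristic)
    (c : ↥(S : Subgroup G)) (hc : c ∈ C) (hc2 : orderOf c = 2) :
    ∀ g : G, (QuotientGroup.mk (s := Cfsg.oddCore G) (g * (c : G) * g⁻¹)) =
      QuotientGroup.mk (s := Cfsg.oddCore G) (c : G) := by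
  have huniq : ∀ a ∈ C, orderOf a = 2 → a = c := by
    intro a ha ha2
    haveI := hCc
    have := Fintype.ofFinite ↥C
    classical
    have h1 : (Finset.univ.filter fun x : ↥C => orderOf x = 2).card = 1 := by
      rw [IsCyclic.card_orderOf_eq_totient (by
        have h := Subgroup.orderOf_dvd_natCard C hc
        rwa [hc2, Nat.card_eq_fintype_card] at h)]
      rfl
    exact congrArg Subtype.val (Finset.card_le_one.mp h1.le (⟨a, ha⟩ : ↥C)
      (by simp [Subgroup.orderOf_mk, ha2]) (⟨c, hc⟩ : ↥C) (by simp [Subgroup.orderOf_mk, hc2]))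
  have hcSc : ∀ s ∈ (S : Subgroup G), s * (c : G) = (c : G) * s := by
    intro s hs
    have h1 := hCh.fixed (MulAut.conj (⟨s, hs⟩ : ↥(S : Subgroup G)))
    have h2 : (⟨s, hs⟩ : ↥(S : Subgroup G)) * c * (⟨s, hs⟩ : ↥(S : Subgroup G))⁻¹ ∈ C := by
      rw [← h1] at hc; exact hc
    have h3 := huniq _ h2 (by rw [CfsgLib.Involutions.orderOf_conj_eq]; exact hc2)
    exact mul_inv_eq_iff_eq_mul.mp (congrArg Subtype.val h3)
  have hnorm : ∀ n ∈ Subgroup.normalizer ((S : Subgroup G) : Set G), n * (c : G) * n⁻¹ = (c : G) := by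
    intro n hn
    let f := MulEquiv.subgroupMap (MulAut.conj n) (S : Subgroup G) |>.trans
      (MulEquiv.subgroupCongr (Subgroup.mem_normalizer_iff_map_conj_eq.mp hn))
    have h1 := hCh.fixed f
    have h2 : f c ∈ C := by rw [← h1] at hc; exact hc
    have h3 := huniq _ h2 (by rw [MulEquiv.orderOf_eq]; exact hc2)
    exact congrArg Subtype.val h3
  have key : ∀ (U : Sylow 2 G) (x : G), (x • S : Sylow 2 G) = U →
      (∀ s ∈ U, s * (c : G) = (c : G) * s) → x * (c : G) * x⁻¹ = (c : G) := by
    intro U x hx hU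
    -- both Sylow subgroups centralize `c`, hence are conjugate in the centralizer
    set K := Subgroup.centralizer ({(c : G)} : Set G) with hK
    have hSK : (S : Subgroup G) ≤ K := fun s hs => Subgroup.mem_centralizer_singleton_iff.mpr (hcSc s hs)
    have hUK : (U : Subgroup G) ≤ K := fun s hs => Subgroup.mem_centralizer_singleton_iff.mpr (hU s hs)
    obtain ⟨k, hk⟩ := MulAction.exists_smul_eq K (S.subtype hSK) (U.subtype hUK)
    have hkU : ((k : G) • S : Sylow 2 G) = U := by
      rw [Sylow.smul_subtype] at hk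
      exact Sylow.subtype_injective hk
    have hn : (k : G)⁻¹ * x ∈ Subgroup.normalizer ((S : Subgroup G) : Set G) :=
      Sylow.smul_eq_iff_mem_normalizer.mp (by rw [mul_smul, hx, ← hkU, inv_smul_smul])
    have h1 := hnorm _ hn
    have hkc : (k : G) * (c : G) = (c : G) * k := Subgroup.mem_centralizer_singleton_iff.mp k.2
    calc x * (c : G) * x⁻¹ = (k : G) * (((k : G)⁻¹ * x) * (c : G) * ((k : G)⁻¹ * x)⁻¹) * (k : G)⁻¹ := by group
      _ = (c : G) := by rw [h1, hkc, mul_inv_cancel_right]
  have hc2' : orderOf (c : G) = 2 := by rw [Subgroup.orderOf_coe]; exact hc2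
  have hiso : ∀ g : G, g * (c : G) * g⁻¹ ∈ (S : Subgroup G) → g * (c : G) * g⁻¹ = (c : G) := by
    intro g hg
    set v := g * (c : G) * g⁻¹ with hv
    -- a Sylow subgroup of `G` centralizing `v` and containing `c`
    set K := Subgroup.centralizer ({v} : Set G) with hK
    have hT : ((g • S : Sylow 2 G) : Subgroup G) ≤ K := by
      rw [Sylow.coe_subgroup_smul]
      rintro _ ⟨s, hs, rfl⟩
      refine Subgroup.mem_centralizer_singleton_iff.mpr ?_
      show g * s * g⁻¹ * v = v * (g * s * g⁻¹)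
      calc g * s * g⁻¹ * v = g * (s * (c : G)) * g⁻¹ := by rw [hv]; group
        _ = g * ((c : G) * s) * g⁻¹ := by rw [hcSc s hs]
        _ = v * (g * s * g⁻¹) := by rw [hv]; group
    have hcK : (c : G) ∈ K := Subgroup.mem_centralizer_singleton_iff.mpr (hcSc v hg).symm
    obtain ⟨P, hP⟩ := (S.2.to_le (Subgroup.zpowers_le.mpr c.2)).comap_subtype (K := K) |>.exists_le_sylow
    obtain ⟨k, hk⟩ := MulAction.exists_smul_eq K ((g • S : Sylow 2 G).subtype hT) P
    rw [Sylow.smul_subtype] at hk
    set R := ((k : G) • (g • S) : Sylow 2 G) with hR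
    have hcR : (c : G) ∈ R := by
      have h1 : (⟨(c : G), hcK⟩ : K) ∈ P := hP (Subgroup.mem_subgroupOf.mpr (Subgroup.mem_zpowers _))
      rw [← hk] at h1
      exact Subgroup.mem_subgroupOf.mp h1
    have hkv : (k : G) * v = v * k := Subgroup.mem_centralizer_singleton_iff.mp k.2
    have hvR : v ∈ R := by
      rw [hR]
      show v ∈ (((k : G) • (g • S) : Sylow 2 G) : Subgroup G)
      rw [smul_smul, Sylow.coe_subgroup_smul]
      exact ⟨(c : G), c.2, (show (k : G) * g * (c : G) * ((k : G) * g)⁻¹ = v by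
        calc (k : G) * g * (c : G) * ((k : G) * g)⁻¹ = (k : G) * v * (k : G)⁻¹ := by rw [hv]; group
          _ = v := by rw [hkv, mul_inv_cancel_right])⟩
    by_cases hRS : S = R
    · have h1 := key R ((k : G) * g) (by rw [hR, smul_smul]) (fun s hs => hcSc s (hRS ▸ hs))
      calc v = (k : G) * v * (k : G)⁻¹ := by rw [hkv, mul_inv_cancel_right]
        _ = (k : G) * g * (c : G) * ((k : G) * g)⁻¹ := by rw [hv]; group
        _ = (c : G) := h1
    · obtain ⟨V, hV⟩ := hCI S R hRS
      obtain ⟨x, hx⟩ := MulAction.exists_smul_eq G S V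
      have hcen : ∀ w ∈ (S : Subgroup G) ⊓ (R : Subgroup G), ∀ s ∈ V, s * w = w * s := by
        intro w hw s hs
        obtain ⟨w', hw', rfl⟩ := hV hw
        exact congrArg Subtype.val (Subgroup.mem_center_iff.mp hw' ⟨s, hs⟩)
      have h1 := key V x hx (hcen _ ⟨c.2, hcR⟩)
      have h2 : g⁻¹ * x * (c : G) * (g⁻¹ * x)⁻¹ = (c : G) := by
        refine key (g⁻¹ • V) (g⁻¹ * x) (by rw [mul_smul, hx]) ?_
        intro s hs
        have hs' : g * s * g⁻¹ ∈ V := by
          have h3 : s ∈ ((g⁻¹ • V : Sylow 2 G) : Subgroup G) := hs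
          rw [Sylow.coe_subgroup_smul] at h3
          obtain ⟨t, ht, rfl⟩ := h3
          simpa [mul_assoc] using ht
        have h3 := hcen v ⟨hg, hvR⟩ _ hs'
        calc s * (c : G) = g⁻¹ * ((g * s * g⁻¹) * v) * g := by rw [hv]; group
          _ = g⁻¹ * (v * (g * s * g⁻¹)) * g := by rw [h3]
          _ = (c : G) * s := by rw [hv]; group
      calc v = g * (g⁻¹ * x * (c : G) * (g⁻¹ * x)⁻¹) * g⁻¹ := by rw [h2]
        _ = x * (c : G) * x⁻¹ := by group
        _ = (c : G) := h1
  obtain ⟨N, hN, hNodd, hNc⟩ := Cfsg.Agent.S0215.result S (c : G) hc2' c.2 hiso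
  intro g
  have hle : N ≤ Cfsg.oddCore G := CfsgLib.PCore.le_pPrimeCore hN (Nat.coprime_two_right.mpr hNodd)
  refine (QuotientGroup.eq).mpr (hle ?_)
  have h := hNc g
  have hci := CfsgLib.Involutions.inv_eq_self_of_involution hc2'
  have h' := hN.conj_mem _ h g
  have h'' := hN.conj_mem _ (N.inv_mem h) 1
  simp only [mul_inv_rev, inv_inv, one_mul, inv_one, mul_one, hci] at h''
  rw [mul_inv_rev, mul_inv_rev, inv_inv, hci]
  simpa [mul_assoc] using h''


end Cfsg.Agent.S3184
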