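import Cfsg.Statements.S3190
import Cfsg.Agent.Lib.InvChar.Conj

set_option autoImplicit false
open Cfsg

namespace Cfsg.Agent.S3190

theorem mem_center_map {G : Type*} [Group G] {H : Subgroup G} {x : G} :
    x ∈ (Subgroup.center ↥H).map H.subtype ↔ x ∈ H ∧ ∀ h ∈ H, h * x = x * h := by
  constructor
  · rintro ⟨y, hy, rfl⟩
    exact ⟨y.2, fun h hh => congrArg Subtype.val (Subgroup.mem_center_iff.1 hy ⟨h, hh⟩)⟩
  · rintro ⟨hx, hc⟩
    exact ⟨⟨x, hx⟩, Subgroup.mem_center_iff.2 fun h => Subtype.ext (hc h h.2), rfl⟩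


/-- Let p be an odd prime and, inside a finite group, let P be a p-subgroup normalized by a Klein four-group T. Let R be a subgroup of P, normal in P and normalized by T, such that P is the product of R with the centralizer of T in P. If T centralizes the centre of P, then T centralizes the centre of R. -/
theorem result {X : Type*} [Group X] [Finite X]
    {p : ℕ} (hp : p.Prime) (hodd : Odd p) (P T R : Subgroup X) (hP : IsPGroup p ↥P) (hT : IsKleinFour ↥T)
    (hTP : T ≤ Subgroup.normalizer (P : Set X)) (hRP : R ≤ P) (hRn : (R.subgroupOf P).Normal)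
    (hTR : T ≤ Subgroup.normalizer (R : Set X)) (hfac : R ⊔ (P ⊓ Subgroup.centralizer (T : Set X)) = P)
    (hZ : T ≤ Subgroup.centralizer (((Subgroup.center ↥P).map P.subtype : Subgroup X) : Set X)) :
    T ≤ Subgroup.centralizer (((Subgroup.center ↥R).map R.subtype : Subgroup X) : Set X) := by
  haveI : Fact p.Prime := ⟨hp⟩
  haveI : Group.IsNilpotent ↥P := hP.isNilpotent
  intro t ht
  have ht2 : t * t = 1 := by
    have h := Monoid.pow_exponent_eq_one (G := ↥T) ⟨t, ht⟩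
    rw [hT.exponent_two, pow_two] at h
    exact congrArg Subtype.val h
  have htinv : t⁻¹ = t := inv_eq_of_mul_eq_one_right ht2
  -- centre of `R`
  set M : Subgroup X := (Subgroup.center ↥R).map R.subtype with hM
  have hMmem : ∀ a, a ∈ M ↔ a ∈ R ∧ ∀ r ∈ R, r * a = a * r := fun a => mem_center_map
  have htR : ∀ a, a ∈ R ↔ t * a * t⁻¹ ∈ R := Subgroup.mem_normalizer_iff.1 (hTR ht)
  have htM : ∀ a ∈ M, t * a * t⁻¹ ∈ M := by
    intro a ha
    obtain ⟨haR, hac⟩ := (hMmem a).1 ha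
    refine (hMmem _).2 ⟨(htR a).1 haR, fun r hr => ?_⟩
    have hr' : t * r * t⁻¹ ∈ R := (htR r).1 hr
    have := hac _ hr'
    rw [htinv] at this ⊢
    calc r * (t * a * t) = (t * t) * r * (t * a * t) := by rw [ht2, one_mul]
      _ = t * ((t * r * t) * a) * t := by simp [mul_assoc]
      _ = t * (a * (t * r * t)) * t := by rw [this]
      _ = t * a * t * r * (t * t) := by simp [mul_assoc]
      _ = t * a * t * r := by rw [ht2, mul_one]
  -- the commutators `[t, a]`, `a ∈ M`, form a subgroup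
  have hcom : ∀ a ∈ M, ∀ b ∈ M, a * b = b * a := fun a ha b hb =>
    ((hMmem b).1 hb).2 a ((hMmem a).1 ha).1
  let W : Subgroup X :=
    { carrier := {w | ∃ a ∈ M, t * a * t⁻¹ * a⁻¹ = w}
      one_mem' := ⟨1, M.one_mem, by simp⟩
      mul_mem' := by
        rintro _ _ ⟨a, ha, rfl⟩ ⟨b, hb, rfl⟩
        refine ⟨a * b, M.mul_mem ha hb, ?_⟩
        have h1 := hcom a⁻¹ (M.inv_mem ha) _ (M.mul_mem (htM b hb) (M.inv_mem hb))
        calc t * (a * b) * t⁻¹ * (a * b)⁻¹
            = (t * a * t⁻¹) * ((t * b * t⁻¹ * b⁻¹) * a⁻¹) := by simp [mul_assoc]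
          _ = (t * a * t⁻¹) * (a⁻¹ * (t * b * t⁻¹ * b⁻¹)) := by rw [h1]
          _ = t * a * t⁻¹ * a⁻¹ * (t * b * t⁻¹ * b⁻¹) := by simp [mul_assoc]
      inv_mem' := by
        rintro _ ⟨a, ha, rfl⟩
        refine ⟨a⁻¹, M.inv_mem ha, ?_⟩
        have h1 := hcom _ (htM a⁻¹ (M.inv_mem ha)) a ha
        rw [inv_inv, h1]
        simp [mul_assoc] }
  have hWM : W ≤ M := by
    rintro _ ⟨a, ha, rfl⟩
    exact M.mul_mem (htM a ha) (M.inv_mem ha)
  have hWP : W ≤ P := hWM.trans ((Subgroup.map_subtype_le _).trans hRP)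
  -- `W` is normalised by `P`
  have hN : P ≤ Subgroup.normalizer (W : Set X) := by
    rw [← hfac]
    refine sup_le ?_ ?_
    · intro r hr
      rw [Subgroup.mem_normalizer_iff]
      intro w
      constructor
      · intro hw
        have := ((hMmem w).1 (hWM hw)).2 r hr
        rwa [show r * w * r⁻¹ = w by rw [this]; simp]
      · intro hw
        have h := ((hMmem _).1 (hWM hw)).2 r hr
        have h2 : r * w * r⁻¹ = w := by
          have h3 : r * (r * w * r⁻¹) = r * w := by rw [h]; simp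
          exact mul_left_cancel h3
        rwa [h2] at hw
    · rintro c ⟨hcP, hcT⟩
      have hct : c * t = t * c := (hcT t ht).symm
      have hkey : ∀ c' ∈ P, c' * t = t * c' → ∀ w ∈ W, c' * w * c'⁻¹ ∈ W := by
        rintro c' hc' hc't _ ⟨a, ha, rfl⟩
        obtain ⟨haR, hac⟩ := (hMmem a).1 ha
        have hc'R : ∀ r, r ∈ R → c' * r * c'⁻¹ ∈ R := fun r hr =>
          hRn.conj_mem ⟨r, hRP hr⟩ hr ⟨c', hc'⟩
        have hc'R' : ∀ r, r ∈ R → c'⁻¹ * r * c' ∈ R := fun r hr => by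
          simpa [Subgroup.mem_subgroupOf, mul_assoc] using hRn.conj_mem ⟨r, hRP hr⟩ hr ⟨c'⁻¹, P.inv_mem hc'⟩
        refine ⟨c' * a * c'⁻¹, (hMmem _).2 ⟨hc'R a haR, fun r hr => ?_⟩, ?_⟩
        · have := hac _ (hc'R' r hr)
          calc r * (c' * a * c'⁻¹) = c' * ((c'⁻¹ * r * c') * a) * c'⁻¹ := by simp [mul_assoc]
            _ = c' * (a * (c'⁻¹ * r * c')) * c'⁻¹ := by rw [this]
            _ = c' * a * c'⁻¹ * r := by simp [mul_assoc]
        · have h2 : c'⁻¹ * t⁻¹ = t⁻¹ * c'⁻¹ := by rw [← mul_inv_rev, ← mul_inv_rev, hc't]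
          calc t * (c' * a * c'⁻¹) * t⁻¹ * (c' * a * c'⁻¹)⁻¹
              = (t * c') * a * (c'⁻¹ * t⁻¹) * (c' * (a⁻¹ * c'⁻¹)) := by simp [mul_assoc]
            _ = (c' * t) * a * (t⁻¹ * c'⁻¹) * (c' * (a⁻¹ * c'⁻¹)) := by rw [h2, hc't]
            _ = c' * (t * a * t⁻¹ * a⁻¹) * c'⁻¹ := by simp [mul_assoc]
      rw [Subgroup.mem_normalizer_iff]
      intro w
      refine ⟨hkey c hcP hct w, fun hw => ?_⟩
      have hc' : c⁻¹ * t = t * c⁻¹ := by
        have := congrArg (fun z => c⁻¹ * z * c⁻¹) hct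
        simpa [mul_assoc] using this.symm
      simpa [mul_assoc] using hkey c⁻¹ (P.inv_mem hcP) hc' _ hw
  -- hence trivial
  have hW : W.subgroupOf P = ⊥ := by
    by_contra hne
    haveI : Nontrivial ↥(W.subgroupOf P) := (Subgroup.nontrivial_iff_ne_bot _).2 hne
    haveI : (W.subgroupOf P).Normal := Subgroup.normal_subgroupOf_iff_le_normalizer hWP |>.2 hN
    obtain ⟨w, hwW, hw1, hwZ⟩ := CfsgLib.InvChar.exists_ne_one_mem_center hP _ hne
    obtain ⟨a, ha, hwa⟩ := hwW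
    have hfix : t * (w : X) * t⁻¹ = w := by
      have := hZ ht (w : X) ⟨w, hwZ, rfl⟩
      rw [← this]; simp [mul_assoc]
    have hinv : t * (w : X) * t⁻¹ = (w : X)⁻¹ := by
      show t * P.subtype w * t⁻¹ = (P.subtype w)⁻¹
      rw [← hwa, htinv]
      calc t * (t * a * t * a⁻¹) * t = (t * t) * (a * (t * a⁻¹ * t)) := by simp [mul_assoc]
        _ = a * (t⁻¹ * a⁻¹ * t⁻¹) := by rw [ht2, one_mul, htinv]
        _ = (t * a * t * a⁻¹)⁻¹ := by simp [mul_assoc]
    have hw2 : w ^ 2 = 1 := Subtype.ext (by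
      rw [hfix] at hinv
      simp only [Subgroup.coe_pow, Subgroup.coe_one, pow_two]
      exact mul_eq_one_iff_eq_inv.2 hinv)
    obtain ⟨k, hk⟩ := (IsPGroup.iff_orderOf.1 hP) w
    have h2 := orderOf_dvd_of_pow_eq_one hw2
    rw [hk] at h2
    rcases Nat.eq_zero_or_pos k with rfl | hk'
    · exact hw1 (orderOf_eq_one_iff.1 (by simpa using hk))
    · have := Nat.le_of_dvd two_pos ((dvd_pow_self p hk'.ne').trans h2)
      obtain ⟨m, rfl⟩ := hodd
      have := hp.two_le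
      omega
  rw [Subgroup.mem_centralizer_iff]
  intro a ha
  have hwW : t * a * t⁻¹ * a⁻¹ ∈ W := ⟨a, ha, rfl⟩
  have : (⟨_, hWP hwW⟩ : ↥P) ∈ W.subgroupOf P := hwW
  rw [hW, Subgroup.mem_bot] at this
  have h1 : t * a * t⁻¹ * a⁻¹ = 1 := congrArg Subtype.val this
  rw [mul_inv_eq_one, mul_inv_eq_iff_eq_mul] at h1
  exact h1.symm

end Cfsg.Agent.S3190
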