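import Cfsg.Statements.S3192
import Cfsg.Agent.Lib.InvChar.RankThreeCA
import Cfsg.Agent.Lib.Maximal.CASimple
import Cfsg.Agent.Lib.Recog.ClassSizesPSLTwoSplit
import Cfsg.Agent.S2507

set_option autoImplicit false
open Cfsg

namespace Cfsg.Agent.S3192

/-- Simple groups of conjugate type rank three. For a finite group G consider the set of indices of the centralizers of the non-central elements of G. Then G is a non-abelian simple group for which this set has exactly three members if and only if G is isomorphic to PSL(2, 2^m) for some m ≥ 2. -/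
theorem result (G : Type*) [Group G] [Finite G] :
    (IsSimpleGroup G ∧ ¬ IsMulCommutative G ∧
        Set.ncard {m : ℕ | ∃ x : G, x ∉ Subgroup.center G ∧ m = (Subgroup.centralizer ({x} : Set G)).index} = 3) ↔
      ∃ (m : ℕ) (F : Type) (_ : Field F) (_ : Fintype F), 2 ≤ m ∧ Fintype.card F = 2 ^ m ∧
        Nonempty (G ≃* Matrix.ProjectiveSpecialLinearGroup (Fin 2) F) := by
  constructor
  · rintro ⟨hs, hna, h3⟩
    have hG : ¬ ∀ a b : G, a * b = b * a := fun h => hna ⟨⟨h⟩⟩
    have hnc : ∀ x : G, x ≠ 1 → x ∉ Subgroup.center G := fun x hx hc =>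
      hG (CfsgLib.Burnside.isMulCommutative_of_mem_center hx hc)
    set V : Set ℕ :=
      {m : ℕ | ∃ x : G, x ∉ Subgroup.center G ∧ m = (Subgroup.centralizer ({x} : Set G)).index} with hV
    have hmem : ∀ x : G, x ≠ 1 → (Subgroup.centralizer ({x} : Set G)).index ∈ V :=
      fun x hx => ⟨x, hnc x hx, rfl⟩
    have hne1 : ∀ x : G, x ∉ Subgroup.center G → x ≠ 1 := fun x hx e => hx (e ▸ one_mem _)
    obtain ⟨u, v, t, huv, hut, hvt, hset⟩ := Set.ncard_eq_three.mp h3
    obtain ⟨gu, hgu, rfl⟩ : u ∈ V := by rw [hset]; simp
    obtain ⟨gv, hgv, rfl⟩ : v ∈ V := by rw [hset]; simp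
    obtain ⟨gt, hgt, rfl⟩ : t ∈ V := by rw [hset]; simp
    have hmin : CfsgLib.InvChar.RankThree.NoInclusion G := by
      intro w x hw hx hle
      by_contra hne
      have hlt : Subgroup.centralizer ({w} : Set G) < Subgroup.centralizer ({x} : Set G) :=
        lt_of_le_of_ne hle hne
      have hxw : (Subgroup.centralizer ({w} : Set G)).index ≠
          (Subgroup.centralizer ({x} : Set G)).index := fun e =>
        hne (CfsgLib.InvChar.RankThree.eq_of_le_of_cs hle e)
      have h1 : (V \ {(Subgroup.centralizer ({x} : Set G)).index}).ncard = 2 := by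
        rw [Set.ncard_diff_singleton_of_mem (hmem x hx), h3]
      obtain ⟨b, hb⟩ : ∃ b : ℕ, ((V \ {(Subgroup.centralizer ({x} : Set G)).index}) \
          {(Subgroup.centralizer ({w} : Set G)).index} : Set ℕ) = {b} := by
        rw [← Set.ncard_eq_one, Set.ncard_diff_singleton_of_mem (s := V \ {(Subgroup.centralizer ({x} : Set G)).index})
          (a := (Subgroup.centralizer ({w} : Set G)).index) ⟨hmem w hw, hxw⟩, h1]
      have hbV := hb.symm ▸ (Set.mem_singleton b)
      obtain ⟨y, hy, hyb⟩ := hbV.1.1
      refine CfsgLib.InvChar.RankThree.no_chain hG (fun g hg => ?_) hw hx (hne1 y hy) hlt rfl rfl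
        hyb.symm (fun e => hbV.1.2 e.symm) (fun e => hbV.2 e)
      by_cases e1 : (Subgroup.centralizer ({g} : Set G)).index =
          (Subgroup.centralizer ({x} : Set G)).index
      · exact Or.inl e1
      by_cases e2 : (Subgroup.centralizer ({g} : Set G)).index =
          (Subgroup.centralizer ({w} : Set G)).index
      · exact Or.inr (Or.inr e2)
      exact Or.inr (Or.inl (Set.mem_singleton_iff.mp (hb ▸ ⟨⟨hmem g hg, e1⟩, e2⟩)))
    have hca := CfsgLib.InvChar.RankThree.ca hG hmin (hne1 gu hgu) (hne1 gv hgv) (hne1 gt hgt)
      fun h hh => by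
        have hcard : ∀ x : G, (Subgroup.centralizer ({h} : Set G)).index =
            (Subgroup.centralizer ({x} : Set G)).index →
            Nat.card (Subgroup.centralizer ({h} : Set G)) =
              Nat.card (Subgroup.centralizer ({x} : Set G)) := fun x e => by
          have h1 := (Subgroup.centralizer ({h} : Set G)).card_mul_index
          have h2 := (Subgroup.centralizer ({x} : Set G)).card_mul_index
          rw [← e] at h2
          exact Nat.eq_of_mul_eq_mul_right (Nat.pos_of_ne_zero Subgroup.index_ne_zero_of_finite)
            (h1.trans h2.symm)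
        have hh' := hmem h hh
        rw [hset, Set.mem_insert_iff, Set.mem_insert_iff, Set.mem_singleton_iff] at hh'
        exact hh'.imp (hcard gu) (Or.imp (hcard gv) (hcard gt))
    obtain ⟨F, iF, iF', f, hf, hcard, hiso⟩ :=
      CfsgLib.CASimple.exists_psl_of_ca (G := G) (fun g hg a ha b hb => hca g hg a ha b hb) hG
    exact ⟨f, F, iF, iF', hf, hcard, hiso⟩
  · rintro ⟨m, F, _, _, hm, hcard, ⟨e⟩⟩
    have h4 : 4 ≤ Fintype.card F := by
      rw [hcard]
      exact le_trans (by norm_num) (Nat.pow_le_pow_right (by norm_num) hm)
    obtain ⟨hsP, hperf, hcent⟩ := CfsgLib.Recog.ClassSizesPSLTwoSplit.psl_perfect (F := F) h4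
    have hs : IsSimpleGroup G := e.isSimpleGroup_congr.mpr hsP
    refine ⟨hs, fun hab => ?_, ?_⟩
    · haveI : Nontrivial (Matrix.ProjectiveSpecialLinearGroup (Fin 2) F) := hsP.toNontrivial
      have htop : Subgroup.center (Matrix.ProjectiveSpecialLinearGroup (Fin 2) F) = ⊤ := by
        rw [eq_top_iff]
        intro a _
        rw [Subgroup.mem_center_iff]
        intro b
        apply e.symm.injective
        rw [map_mul, map_mul]
        exact Std.Commutative.comm (self := hab.is_comm) _ _
      rw [htop] at hcent
      exact top_ne_bot hcent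
    · have hS := Cfsg.Agent.S2507.result (F := F) (hcard ▸ dvd_pow_self 2 (by omega)) h4
      have hidx : ∀ x : G, (Subgroup.centralizer ({e x} : Set _)).index =
          (Subgroup.centralizer ({x} : Set G)).index := by
        intro x
        have : Subgroup.centralizer ({e x} : Set _) =
            (Subgroup.centralizer ({x} : Set G)).map e.toMonoidHom := by
          ext y
          rw [Subgroup.mem_map_equiv, Subgroup.mem_centralizer_singleton_iff,
            Subgroup.mem_centralizer_singleton_iff, ← e.injective.eq_iff (a := e.symm y * x)]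
          simp
        rw [this]; exact Subgroup.index_map_of_bijective e.bijective _
      have hset : {n : ℕ | ∃ x : G, x ∉ Subgroup.center G ∧
          n = (Subgroup.centralizer ({x} : Set G)).index} =
          {Fintype.card F * (Fintype.card F - 1), Fintype.card F ^ 2 - 1,
            Fintype.card F * (Fintype.card F + 1)} := by
        ext n
        constructor
        · rintro ⟨x, hx, rfl⟩
          have h1 : (Subgroup.centralizer ({x} : Set G)).index ∈ Set.range
              (fun g : Matrix.ProjectiveSpecialLinearGroup (Fin 2) F =>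
                (Subgroup.centralizer ({g} : Set _)).index) := ⟨e x, hidx x⟩
          rw [hS, Set.mem_insert_iff] at h1
          refine h1.resolve_left fun h1 => hx ?_
          exact CfsgLib.Recog.ClassSizesPSLTwo.mem_center_iff_cs.mp h1
        · intro hn
          have h1 : n ∈ Set.range (fun g : Matrix.ProjectiveSpecialLinearGroup (Fin 2) F =>
              (Subgroup.centralizer ({g} : Set _)).index) := by
            rw [hS]; exact Set.mem_insert_of_mem _ hn
          obtain ⟨g, rfl⟩ := h1
          refine ⟨e.symm g, fun hx => ?_, by rw [← hidx, e.apply_symm_apply]⟩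
          have h1 : (Subgroup.centralizer ({g} : Set _)).index = 1 := by
            rw [← e.apply_symm_apply g, hidx]
            exact CfsgLib.Recog.ClassSizesPSLTwo.mem_center_iff_cs.mpr hx
          simp only [Set.mem_insert_iff, Set.mem_singleton_iff, h1] at hn
          obtain ⟨c, hc⟩ : ∃ c, Fintype.card F = c + 4 := ⟨_, (Nat.sub_add_cancel h4).symm⟩
          rw [hc] at hn
          rcases hn with hn | hn | hn
          · have := Nat.eq_one_of_mul_eq_one_right hn.symm
            omega
          · have : (c + 4) ^ 2 = c * c + 8 * c + 16 := by ring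
            omega
          · have := Nat.eq_one_of_mul_eq_one_right hn.symm
            omega
      rw [hset, Set.ncard_eq_three]
      refine ⟨_, _, _, ?_, ?_, ?_, rfl⟩
      · intro h
        obtain ⟨c, hc⟩ : ∃ c, Fintype.card F = c + 4 := ⟨_, (Nat.sub_add_cancel h4).symm⟩
        rw [hc, show c + 4 - 1 = c + 3 by omega] at h
        have : (c + 4) ^ 2 = (c + 4) * (c + 3) + (c + 4) := by ring
        omega
      · intro h
        have := Nat.eq_of_mul_eq_mul_left (by omega) h
        omega
      · intro h
        have : Fintype.card F * (Fintype.card F + 1) = Fintype.card F ^ 2 + Fintype.card F := by ring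
        omega

end Cfsg.Agent.S3192
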