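import Cfsg.Statements.S3195
import Cfsg.Agent.Lib.Involutions.Basic
import Cfsg.Agent.Lib.Involutions.BaerSuzuki

set_option autoImplicit false
open Cfsg

namespace Cfsg.Agent.S3195

variable {G : Type*} [Group G] [Finite G]

theorem inv_conj {t u : G} (ht : t * t = 1) (h : t * u * t⁻¹ = u⁻¹) (w : ℕ) :
    (u ^ w)⁻¹ * t * u ^ w = t * u ^ (2 * w) := by
  have hti : t⁻¹ = t := inv_eq_of_mul_eq_one_right ht
  have h1 : (u ^ w)⁻¹ * t = t * u ^ w := by
    have h2 : t * u ^ w * t⁻¹ = (u ^ w)⁻¹ := by rw [← conj_pow, h, inv_pow]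
    rw [← h2, hti]
    simp [mul_assoc, ht]
  rw [h1, mul_assoc, ← pow_add, two_mul]

/-- An odd-order element whose inverse is a conjugate by itself is trivial. -/
theorem eq_one_of_odd_sq {u : G} (hu : Odd (orderOf u)) (h : u ^ 2 = 1) : u = 1 := by
  rcases (Nat.dvd_prime Nat.prime_two).1 (orderOf_dvd_of_pow_eq_one h) with h1 | h1
  · exact orderOf_eq_one_iff.1 h1
  · rw [h1] at hu; exact absurd hu (by decide)

theorem eq_one_of_inverted_by_product {u y c : G} (hu : Odd (orderOf u)) (hy : Odd (orderOf y))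
    (hc : c * y * c⁻¹ = y⁻¹) (hs : Commute (c * u ^ 2) y) : y = 1 := by
  have hconj : u ^ 2 * y * (u ^ 2)⁻¹ = y⁻¹ := by
    have hc' : c⁻¹ * y * c = y⁻¹ := by
      have h := congrArg (fun z => (c⁻¹ * z * c)⁻¹) hc
      simp [mul_assoc] at h
      simpa [mul_assoc] using h.symm
    calc u ^ 2 * y * (u ^ 2)⁻¹ = c⁻¹ * ((c * u ^ 2) * y * (c * u ^ 2)⁻¹) * c := by simp [mul_assoc]
      _ = c⁻¹ * y * c := by rw [hs.eq, mul_inv_cancel_right]
      _ = y⁻¹ := hc'
  have h4 : Commute (u ^ 4) y := by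
    have h2 : u ^ 2 * y⁻¹ * (u ^ 2)⁻¹ = y := by
      have := congrArg Inv.inv hconj
      simpa [mul_assoc] using this
    have : u ^ 4 * y * (u ^ 4)⁻¹ = y := by
      calc u ^ 4 * y * (u ^ 4)⁻¹ = u ^ 2 * (u ^ 2 * y * (u ^ 2)⁻¹) * (u ^ 2)⁻¹ := by
            rw [show (4 : ℕ) = 2 + 2 from rfl, pow_add]; simp [mul_assoc]
        _ = y := by rw [hconj, h2]
    exact mul_inv_eq_iff_eq_mul.1 this
  obtain ⟨m, hm⟩ := exists_pow_eq_self_of_coprime (x := u) (n := 4)
    (by
      have : Nat.Coprime 2 (orderOf u) := (Nat.prime_two.coprime_iff_not_dvd).2 (fun h => by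
        rw [Nat.odd_iff] at hu; omega)
      exact Nat.Coprime.pow_left 2 this)
  have hcu : Commute (u ^ 2) y := by
    have := (h4.pow_left m).pow_left 2
    rwa [hm] at this
  rw [hcu.eq, mul_inv_cancel_right] at hconj
  exact eq_one_of_odd_sq hy (by rw [pow_two]; exact mul_eq_one_iff_eq_inv.2 hconj)


/-- Let A be a Klein four-subgroup of a finite group G. If every G-conjugate of every involution of A commutes with some involution of A (its centralizer meets A nontrivially), then A meets the largest normal 2-subgroup O₂(G) nontrivially. -/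
theorem result {G : Type*} [Group G] [Finite G]
    (A : Subgroup G) (hA : IsKleinFour ↥A)
    (h : ∀ a ∈ A, a ≠ 1 → ∀ g : G, A ⊓ Subgroup.centralizer ({g * a * g⁻¹} : Set G) ≠ ⊥) :
    A ⊓ Cfsg.pCore 2 G ≠ ⊥ := by
  haveI : Fact (Nat.Prime 2) := ⟨Nat.prime_two⟩
  by_contra hbot
  have hexp : ∀ a ∈ A, a * a = 1 := fun a ha => by
    have h := Monoid.pow_exponent_eq_one (G := ↥A) ⟨a, ha⟩
    rw [hA.exponent_two, pow_two] at h
    exact congrArg Subtype.val h
  have hcomm : ∀ a ∈ A, ∀ b ∈ A, Commute a b := fun a ha b hb => by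
    have h := hexp _ (A.mul_mem ha hb)
    show a * b = b * a
    calc a * b = a * (a * b * (a * b)) * b := by rw [h]; simp
      _ = (a * a) * (b * a) * (b * b) := by simp [mul_assoc]
      _ = b * a := by rw [hexp a ha, hexp b hb]; simp
  have hmeet : ∀ a ∈ A, a ≠ 1 → ∀ g k : G, ∃ e ∈ A, e ≠ 1 ∧ Commute (g * a * g⁻¹) (k⁻¹ * e * k) := by
    intro a ha ha1 g k
    obtain ⟨⟨e, he⟩, he1⟩ := Subgroup.ne_bot_iff_exists_ne_one.1 (h a ha ha1 (k * g))
    refine ⟨e, he.1, fun h => he1 (Subtype.ext h), ?_⟩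
    have := Commute.map (Subgroup.mem_centralizer_singleton_iff.1 he.2 : Commute e _).symm
      (MulAut.conj k⁻¹).toMonoidHom
    simpa [mul_assoc] using this
  have houtside : ∀ a ∈ A, a ≠ 1 → a ∉ Cfsg.pCore 2 G := fun a ha ha1 hO =>
    ha1 (Subgroup.mem_bot.1 (hbot.le ⟨ha, hO⟩))
  have hinvert : ∀ a ∈ A, a ≠ 1 → ∃ u : G, Odd (orderOf u) ∧ u ≠ 1 ∧ a * u * a⁻¹ = u⁻¹ := by
    intro a ha ha1
    by_contra hno
    push Not at hno
    obtain ⟨N, hN, hNp, haN⟩ := CfsgLib.Involutions.exists_normal_isPGroup_of_mem (p := 2) (x := a) (by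
      intro g
      have h2 : orderOf a = 2 := orderOf_eq_prime (by rw [pow_two]; exact hexp a ha) ha1
      have h2' : orderOf (g * a * g⁻¹) = 2 := by rw [CfsgLib.Involutions.orderOf_conj_eq]; exact h2
      obtain ⟨k, m, hm, hkm⟩ := Nat.exists_eq_two_pow_mul_odd (orderOf_pos (a * (g * a * g⁻¹))).ne'
      refine CfsgLib.Involutions.isPGroup_two_closure_pair h2 h2' (k := k) ?_
      have hu := CfsgLib.Involutions.inverts_pow (CfsgLib.Involutions.left_inverts_prod h2 h2') (2 ^ k)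
      by_contra hne
      refine hno ((a * (g * a * g⁻¹)) ^ 2 ^ k) ?_ ?_ hu
      · rw [orderOf_pow, hkm, Nat.gcd_eq_right (Dvd.intro _ rfl), Nat.mul_div_cancel_left _ (by positivity)]
        exact hm
      · intro h1
        apply hne
        have := orderOf_dvd_of_pow_eq_one h1
        rw [hkm] at this ⊢
        have hm1 : m = 1 := Nat.dvd_one.1 (Nat.dvd_of_mul_dvd_mul_left (pow_pos two_pos k) (by rwa [mul_one]))
        simp [hm1])
    exact houtside a ha ha1 ((le_sSup ⟨hN, hNp⟩ : N ≤ Cfsg.pCore 2 G) haN)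
  -- the element centralising an inverted element
  have hcent : ∀ a ∈ A, a ≠ 1 → ∀ u : G, Odd (orderOf u) → u ≠ 1 → a * u * a⁻¹ = u⁻¹ →
      ∃ b ∈ A, b ≠ 1 ∧ b ≠ a ∧ Commute b u ∧ (a * b) * u * (a * b)⁻¹ = u⁻¹ := by
    intro a ha ha1 u hu hu1 hau
    obtain ⟨e, he, he1, hec⟩ := hmeet a ha ha1 (u ^ 1)⁻¹ 1
    rw [inv_inv, inv_conj (hexp a ha) hau] at hec
    simp only [inv_one, one_mul, mul_one] at hec
    have hbu2 : e ≠ a ∧ Commute e (u ^ 2) := by
      refine ⟨?_, ?_⟩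
      · rintro rfl
        apply hu1
        have h1 : Commute e (u ^ 2) := by
          have h2 : Commute e (e⁻¹ * (e * u ^ 2)) := (Commute.refl e).inv_right.mul_right hec.symm
          simpa using h2
        have h3 : e * u ^ 2 * e⁻¹ = (u ^ 2)⁻¹ := by rw [← conj_pow, hau, inv_pow]
        rw [h1.eq, mul_inv_cancel_right] at h3
        refine eq_one_of_odd_sq hu (eq_one_of_odd_sq ?_ (by rw [pow_two]; exact mul_eq_one_iff_eq_inv.2 h3))
        exact Odd.of_dvd_nat hu (orderOf_pow_dvd 2)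
      · have h2 : Commute e (a⁻¹ * (a * u ^ 2)) := (hcomm e he a ha).inv_right.mul_right hec.symm
        simpa using h2
    obtain ⟨m, hm⟩ := exists_pow_eq_self_of_coprime (x := u) (n := 2)
      ((Nat.prime_two.coprime_iff_not_dvd).2 (fun h => by rw [Nat.odd_iff] at hu; omega))
    have heu : Commute e u := hm ▸ hbu2.2.pow_right m
    refine ⟨e, he, he1, hbu2.1, heu, ?_⟩
    calc a * e * u * (a * e)⁻¹ = a * (e * u * e⁻¹) * a⁻¹ := by simp [mul_assoc]
      _ = u⁻¹ := by rw [heu.eq, mul_inv_cancel_right, hau]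
  -- the core configuration
  have core : ∀ a b c : G, a ∈ A → b ∈ A → c ∈ A → a ≠ 1 → c ≠ 1 → a * b = c →
      (∀ e ∈ A, e ≠ 1 → e = a ∨ e = b ∨ e = c) → ∀ u v : G, Odd (orderOf u) → u ≠ 1 → Odd (orderOf v) →
      v ≠ 1 → a * u * a⁻¹ = u⁻¹ → c * u * c⁻¹ = u⁻¹ → Commute b u → Commute a v →
      b * v * b⁻¹ = v⁻¹ → c * v * c⁻¹ = v⁻¹ → False := by
    intro a b c ha hb hc ha1 hc1 hab hall u v hu hu1 hv hv1 hau hcu hbu hav hbv hcv
    set s := c * u ^ 2 with hs
    have hbs : Commute b s := (hcomm b hb c hc).mul_right (hbu.pow_right 2)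
    have hneq : ∀ n : ℕ, (n = 1 ∨ n = 2) → Commute s (c * v ^ (2 * n)) := by
      intro n hn
      have hvn : v ^ (2 * n) ≠ 1 := fun h0 => by
        have h1 : v ^ 2 ^ n = 1 := by rcases hn with rfl | rfl <;> simpa using h0
        obtain ⟨i, -, hi⟩ := (Nat.dvd_prime_pow Nat.prime_two).1 (orderOf_dvd_of_pow_eq_one h1)
        rcases Nat.eq_zero_or_pos i with rfl | hi0
        · exact hv1 (orderOf_eq_one_iff.1 (by simpa using hi))
        · rw [hi, Nat.odd_iff] at hv
          have : 2 ∣ 2 ^ i := dvd_pow_self 2 hi0.ne'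
          omega
      obtain ⟨e, he, he1, hec⟩ := hmeet c hc hc1 (u ^ 1)⁻¹ (v ^ n)
      rw [inv_inv, inv_conj (hexp c hc) hcu] at hec
      change Commute s _ at hec
      rcases hall e he he1 with rfl | rfl | rfl
      · exfalso
        rw [mul_assoc, (hav.pow_right n).eq, inv_mul_cancel_left] at hec
        have h2 : Commute e (c⁻¹ * s) := (hcomm e he c hc).inv_right.mul_right hec.symm
        rw [hs, inv_mul_cancel_left] at h2
        have h3 : e * u ^ 2 * e⁻¹ = (u ^ 2)⁻¹ := by rw [← conj_pow, hau, inv_pow]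
        rw [h2.eq, mul_inv_cancel_right] at h3
        exact hu1 (eq_one_of_odd_sq hu (eq_one_of_odd_sq (Odd.of_dvd_nat hu (orderOf_pow_dvd 2))
          (by rw [pow_two]; exact mul_eq_one_iff_eq_inv.2 h3)))
      · exfalso
        rw [inv_conj (hexp e he) hbv] at hec
        have h2 : Commute s (e⁻¹ * (e * v ^ (2 * n))) := hbs.symm.inv_right.mul_right hec
        rw [inv_mul_cancel_left] at h2
        refine hvn (eq_one_of_inverted_by_product hu (Odd.of_dvd_nat hv (orderOf_pow_dvd _)) ?_ h2)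
        rw [← conj_pow, hcv, inv_pow]
      · rwa [inv_conj (hexp e he) hcv] at hec
    have h1 := hneq 1 (Or.inl rfl)
    have h2 := hneq 2 (Or.inr rfl)
    have h3 : Commute s ((c * v ^ (2 * 1))⁻¹ * (c * v ^ (2 * 2))) := h1.inv_right.mul_right h2
    rw [mul_inv_rev, mul_assoc, inv_mul_cancel_left, show 2 * 2 = 2 * 1 + 2 from rfl, pow_add,
      inv_mul_cancel_left] at h3
    refine hv1 (eq_one_of_odd_sq hv (eq_one_of_inverted_by_product hu (Odd.of_dvd_nat hv (orderOf_pow_dvd _)) ?_ h3))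
    rw [← conj_pow, hcv, inv_pow]
  have hall : ∀ a b : G, a ∈ A → b ∈ A → a ≠ 1 → b ≠ 1 → a ≠ b → ∀ e ∈ A, e ≠ 1 → e = a ∨ e = b ∨ e = a * b := by
    intro a b ha hb ha1 hb1 hab e he he1
    by_contra hno
    push Not at hno
    have hsub : ({1, a, b, a * b, e} : Set G) ⊆ (A : Set G) := by
      intro x hx
      rcases hx with rfl | rfl | rfl | rfl | rfl
      exacts [A.one_mem, ha, hb, A.mul_mem ha hb, he]
    have h5 := Set.ncard_le_ncard hsub (Set.toFinite _)
    have h4 : (A : Set G).ncard = 4 := by rw [← Nat.card_coe_set_eq]; exact hA.card_four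
    have : ({1, a, b, a * b, e} : Set G).ncard = 5 := by
      rw [Set.ncard_insert_of_notMem, Set.ncard_insert_of_notMem, Set.ncard_insert_of_notMem, Set.ncard_pair]
      · exact hno.2.2.symm
      · simp [hno.2.1.symm, ha1]
      · simp [hab, hno.1.symm, hb1]
      · have : a * b ≠ 1 := fun h0 => hab (by rw [mul_eq_one_iff_eq_inv.1 h0]; exact inv_eq_of_mul_eq_one_right (hexp b hb))
        simp [Ne.symm ha1, Ne.symm hb1, Ne.symm he1, this.symm]
    omega
  obtain ⟨⟨a, ha⟩, ha1'⟩ := Subgroup.ne_bot_iff_exists_ne_one.1 (show A ≠ ⊥ by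
    rintro rfl; have := hA.card_four; simp at this)
  have ha1 : a ≠ 1 := fun h0 => ha1' (Subtype.ext h0)
  obtain ⟨u, hu, hu1, hau⟩ := hinvert a ha ha1
  obtain ⟨b, hb, hb1, hba, hbu, hcu⟩ := hcent a ha ha1 u hu hu1 hau
  obtain ⟨v, hv, hv1, hbv⟩ := hinvert b hb hb1
  obtain ⟨e, he, he1, heb, hev, hbev⟩ := hcent b hb hb1 v hv hv1 hbv
  have hc1 : a * b ≠ 1 := fun h0 => hba (by
    rw [mul_eq_one_iff_eq_inv.1 h0]; exact (inv_eq_of_mul_eq_one_right (hexp b hb)).symm)
  rcases hall a b ha hb ha1 hb1 (Ne.symm hba) e he he1 with rfl | rfl | rfl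
  · rw [(hcomm b hb e he).eq] at hbev
    exact core e b (e * b) he hb (A.mul_mem he hb) he1 hc1 rfl (hall e b he hb he1 hb1 (Ne.symm hba))
      u v hu hu1 hv hv1 hau hcu hbu hev hbv hbev
  · exact heb rfl
  · have hba' : b * (a * b) = a := by rw [← mul_assoc, (hcomm b hb a ha).eq, mul_assoc, hexp b hb, mul_one]
    rw [hba'] at hbev
    refine core (a * b) b a (A.mul_mem ha hb) hb ha hc1 ha1 (by rw [mul_assoc, hexp b hb, mul_one]) ?_
      u v hu hu1 hv hv1 hcu hau hbu hev hbv hbev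
    intro x hx hx1
    rcases hall a b ha hb ha1 hb1 (Ne.symm hba) x hx hx1 with h | h | h
    · exact Or.inr (Or.inr h)
    · exact Or.inr (Or.inl h)
    · exact Or.inl h

end Cfsg.Agent.S3195
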