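import Cfsg.Statements.S3196
import Mathlib.GroupTheory.Sylow

set_option autoImplicit false
open Cfsg

namespace Cfsg.Agent.S3196

variable {G : Type*} [Group G] {p : ℕ}

/-- `x` is a generator of a member of the family `K`. -/
def Gen (K : Set (Subgroup G)) (x : G) : Prop := x ≠ 1 ∧ Subgroup.zpowers x ∈ K

theorem gen_of_mem [Finite G] (hp : p.Prime) {K : Set (Subgroup G)} (hK : ∀ X ∈ K, Nat.card ↥X = p)
    {X : Subgroup G} (hX : X ∈ K) {x : G} (hx : x ∈ X) (hx1 : x ≠ 1) : Gen K x ∧ Subgroup.zpowers x = X := by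
  have hle : Subgroup.zpowers x ≤ X := Subgroup.zpowers_le.2 hx
  have h := Subgroup.card_dvd_of_le hle
  rw [hK X hX, Nat.card_zpowers] at h
  have ho : orderOf x = p := ((Nat.dvd_prime hp).1 h).resolve_left (fun h1 => hx1 (orderOf_eq_one_iff.1 h1))
  have he : Subgroup.zpowers x = X :=
    Subgroup.eq_of_le_of_card_ge hle (by rw [hK X hX, Nat.card_zpowers, ho])
  exact ⟨⟨hx1, he.symm ▸ hX⟩, he⟩

theorem orderOf_gen {K : Set (Subgroup G)} (hK : ∀ X ∈ K, Nat.card ↥X = p) {x : G} (hx : Gen K x) :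
    orderOf x = p := by rw [← Nat.card_zpowers]; exact hK _ hx.2

theorem commute_of_mem_zpowers {x y a b : G} (h : Commute x y) (ha : a ∈ Subgroup.zpowers x)
    (hb : b ∈ Subgroup.zpowers y) : Commute a b := by
  obtain ⟨i, rfl⟩ := Subgroup.mem_zpowers_iff.1 ha
  obtain ⟨j, rfl⟩ := Subgroup.mem_zpowers_iff.1 hb
  exact (h.zpow_left i).zpow_right j

/-- A point on the line through `x`, `y` commuting with `w`. -/
structure Setting (p : ℕ) (K : Set (Subgroup G)) : Prop where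
  hp : p.Prime
  card : ∀ X ∈ K, Nat.card ↥X = p
  conj : ∀ x, Gen K x → ∀ g : G, Gen K (g * x * g⁻¹)
  line : ∀ x y, Gen K x → Gen K y → Subgroup.zpowers x ≠ Subgroup.zpowers y → Commute x y →
    ∀ i j : ℕ, x ^ i * y ^ j ≠ 1 → Gen K (x ^ i * y ^ j)
  meet : ∀ x y, Gen K x → Gen K y → Subgroup.zpowers x ≠ Subgroup.zpowers y → Commute x y →
    ∀ w, Gen K w → ∃ i j : ℕ, x ^ i * y ^ j ≠ 1 ∧ Commute w (x ^ i * y ^ j)

theorem mem_sup_zpowers [Finite G] {x y u : G} (hxy : Commute x y)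
    (hu : u ∈ Subgroup.zpowers x ⊔ Subgroup.zpowers y) : ∃ i j : ℕ, x ^ i * y ^ j = u := by
  classical
  let H : Subgroup G :=
    { carrier := {u | ∃ i j : ℕ, x ^ i * y ^ j = u}
      one_mem' := ⟨0, 0, by simp⟩
      mul_mem' := by
        rintro _ _ ⟨i, j, rfl⟩ ⟨k, l, rfl⟩
        refine ⟨i + k, j + l, ?_⟩
        rw [pow_add, pow_add, mul_assoc, ← mul_assoc (x ^ k), (hxy.pow_pow k j).eq]
        simp [mul_assoc]
      inv_mem' := by
        rintro _ ⟨i, j, rfl⟩
        obtain ⟨i', -, hi⟩ := Finset.mem_image.1 (mem_zpowers_iff_mem_range_orderOf.1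
          (Subgroup.inv_mem _ (Subgroup.pow_mem _ (Subgroup.mem_zpowers x) i)))
        obtain ⟨j', -, hj⟩ := Finset.mem_image.1 (mem_zpowers_iff_mem_range_orderOf.1
          (Subgroup.inv_mem _ (Subgroup.pow_mem _ (Subgroup.mem_zpowers y) j)))
        refine ⟨i', j', ?_⟩
        rw [(hxy.pow_pow i j).eq, mul_inv_rev, hi, hj] }
  have h1 : Subgroup.zpowers x ≤ H := Subgroup.zpowers_le.2 ⟨1, 0, by simp⟩
  have h2 : Subgroup.zpowers y ≤ H := Subgroup.zpowers_le.2 ⟨0, 1, by simp⟩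
  exact sup_le h1 h2 hu

theorem pow_ne_zero' {K : Set (Subgroup G)} (hS : Setting p K) {x w : G} (hw : Gen K w) {i : ℕ}
    (h : Commute x (w ^ i)) (hi : w ^ i ≠ 1) : Commute x w := by
  have ho := orderOf_gen hS.card hw
  have hcop : Nat.Coprime i (orderOf w) := by
    rw [ho]
    refine ((Nat.Prime.coprime_iff_not_dvd hS.hp).2 fun hd => hi ?_).symm
    exact orderOf_dvd_iff_pow_eq_one.1 (ho.symm ▸ hd)
  obtain ⟨m, hm⟩ := exists_pow_eq_self_of_coprime hcop
  rw [← hm]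
  exact h.pow_right m

theorem noncomm_pow {K : Set (Subgroup G)} (hS : Setting p K) {x w : G} (hx : Gen K x) (hw : Gen K w)
    (hxw : ¬ Commute x w) {i j : ℕ} (hi : x ^ i ≠ 1) (hj : w ^ j ≠ 1) : ¬ Commute (x ^ i) (w ^ j) :=
  fun h => hxw (pow_ne_zero' hS hx (pow_ne_zero' hS hw h hj).symm hi).symm

/-- Two commuting non-commuting pairs produce a central member. -/
theorem central_of_config [Finite G] {K : Set (Subgroup G)} (hS : Setting p K) {x w z₁ z₂ : G}
    (hx : Gen K x) (hw : Gen K w) (hz₁ : Gen K z₁) (hz₂ : Gen K z₂)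
    (hxw : ¬ Commute x w) (hz : ¬ Commute z₁ z₂) (h1 : Commute x z₁) (h2 : Commute x z₂)
    (h3 : Commute w z₁) (h4 : Commute w z₂) : ∃ c, Gen K c ∧ ∀ r, Gen K r → Commute c r := by
  have hne1 : Subgroup.zpowers x ≠ Subgroup.zpowers z₁ := fun h =>
    hz (commute_of_mem_zpowers h2 (h ▸ Subgroup.mem_zpowers z₁) (Subgroup.mem_zpowers z₂))
  have hne2 : Subgroup.zpowers w ≠ Subgroup.zpowers z₂ := fun h =>
    hxw (commute_of_mem_zpowers h2 (Subgroup.mem_zpowers x) (h ▸ Subgroup.mem_zpowers w))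
  have hu1 : x * z₁ ≠ 1 := fun h => hne1 (by rw [mul_eq_one_iff_eq_inv.1 h, Subgroup.zpowers_inv])
  have hu : Gen K (x * z₁) := by
    have := hS.line x z₁ hx hz₁ hne1 h1 1 1 (by simpa using hu1)
    simpa using this
  obtain ⟨i, j, hij, hcomm⟩ := hS.meet w z₂ hw hz₂ hne2 h4 (x * z₁) hu
  set a := w ^ i with ha_def
  set b := z₂ ^ j with hb_def
  have hxb : Commute x b := h2.pow_right j
  have haz : Commute a z₁ := h3.pow_left i
  have hab : Commute a b := h4.pow_pow i j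
  set c := x * a * x⁻¹ * a⁻¹ with hc
  set d := z₁ * b * z₁⁻¹ * b⁻¹ with hd
  have hcz1 : Commute z₁ c :=
    ((h1.symm.mul_right haz.symm).mul_right h1.symm.inv_right).mul_right haz.symm.inv_right
  have hcb : Commute b c :=
    ((hxb.symm.mul_right hab.symm).mul_right hxb.symm.inv_right).mul_right hab.symm.inv_right
  have hcd : c * d = 1 := by
    calc c * d = (z₁ * c) * b * z₁⁻¹ * b⁻¹ := by rw [hd, hcz1.eq]; simp [mul_assoc]
      _ = z₁ * (x * a * x⁻¹ * a⁻¹ * b) * z₁⁻¹ * b⁻¹ := by simp [hc, mul_assoc]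
      _ = z₁ * (x * (a * b) * (x⁻¹ * a⁻¹)) * z₁⁻¹ * b⁻¹ := by
          rw [mul_assoc (x * a * x⁻¹) a⁻¹ b, hab.inv_left.eq, ← mul_assoc (x * a * x⁻¹) b a⁻¹,
            mul_assoc (x * a) x⁻¹ b, hxb.inv_left.eq]
          simp [mul_assoc]
      _ = (z₁ * x) * (a * b) * x⁻¹ * (a⁻¹ * z₁⁻¹) * b⁻¹ := by simp [mul_assoc]
      _ = (x * z₁) * (a * b) * x⁻¹ * (z₁⁻¹ * a⁻¹) * b⁻¹ := by rw [h1.eq, haz.inv_inv.eq]
      _ = ((x * z₁) * (a * b)) * (x⁻¹ * z₁⁻¹) * (a⁻¹ * b⁻¹) := by simp [mul_assoc]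
      _ = 1 := by rw [hcomm.eq, hab.inv_inv.eq, h1.inv_inv.eq]; simp [mul_assoc]
  have hz1a : a ≠ 1 := by
    intro h
    have hb1 : b ≠ 1 := by rw [ha_def] at h; simpa [ha_def, h] using hij
    apply hz
    refine pow_ne_zero' hS hz₂ (x := z₁) (i := j) ?_ hb1
    have : c = 1 := by simp [hc, h]
    rw [this, one_mul, hd, mul_inv_eq_one, mul_inv_eq_iff_eq_mul] at hcd
    exact hcd
  have hc1 : c ≠ 1 := fun h => hxw (pow_ne_zero' hS hw (x := x) (i := i)
    (by rw [hc, mul_inv_eq_one, mul_inv_eq_iff_eq_mul] at h; exact h) hz1a)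
  have hxc : Commute x c := by
    rw [eq_inv_of_mul_eq_one_left hcd]
    exact (((h1.mul_right hxb).mul_right h1.inv_right).mul_right hxb.inv_right).inv_right
  have hac : Commute a c := by
    rw [eq_inv_of_mul_eq_one_left hcd]
    exact (((haz.mul_right hab).mul_right haz.inv_right).mul_right hab.inv_right).inv_right
  have hag : Gen K a := (gen_of_mem hS.hp hS.card hw.2 (Subgroup.pow_mem _ (Subgroup.mem_zpowers w) i) hz1a).1
  have hxa : ¬ Commute x a := fun h => hxw (pow_ne_zero' hS hw h hz1a)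
  have hcg : Gen K c := by
    have hy : a * x⁻¹ * a⁻¹ = x⁻¹ * c := by simp [hc, mul_assoc]
    have hxi : Gen K x⁻¹ := ⟨inv_ne_one.2 hx.1, by rw [Subgroup.zpowers_inv]; exact hx.2⟩
    have hyg : Gen K (a * x⁻¹ * a⁻¹) := hS.conj _ hxi a
    have hxy : Commute x (x⁻¹ * c) := (Commute.refl x).inv_right.mul_right hxc
    have hne : Subgroup.zpowers x ≠ Subgroup.zpowers (x⁻¹ * c) := by
      intro h
      have hcx : c ∈ Subgroup.zpowers x := by
        have h5 : x⁻¹ * c ∈ Subgroup.zpowers x := h ▸ Subgroup.mem_zpowers _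
        simpa using Subgroup.mul_mem _ (Subgroup.mem_zpowers x) h5
      have := (gen_of_mem hS.hp hS.card hx.2 hcx hc1).2
      exact hxa (commute_of_mem_zpowers hac (Subgroup.mem_zpowers a) (this.symm ▸ Subgroup.mem_zpowers x)).symm
    rw [hy] at hyg
    have := hS.line x _ hx hyg hne hxy 1 1 (by simpa using hc1)
    simpa using this
  refine ⟨c, hcg, fun r hr => ?_⟩
  by_contra hcr
  have hnxc : Subgroup.zpowers x ≠ Subgroup.zpowers c := fun h =>
    hxa (commute_of_mem_zpowers hac.symm (h ▸ Subgroup.mem_zpowers x) (Subgroup.mem_zpowers a))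
  have hnac : Subgroup.zpowers a ≠ Subgroup.zpowers c := fun h =>
    hxa (commute_of_mem_zpowers hxc (Subgroup.mem_zpowers x) (h ▸ Subgroup.mem_zpowers a))
  obtain ⟨e, f, hef, hre⟩ := hS.meet x c hx hcg hnxc hxc r hr
  obtain ⟨e', f', hef', hre'⟩ := hS.meet a c hag hcg hnac hac r hr
  have hxe : x ^ e ≠ 1 := fun h => by
    rw [h, one_mul] at hef hre
    exact hcr (pow_ne_zero' hS hcg hre hef).symm
  have hae : a ^ e' ≠ 1 := fun h => by
    rw [h, one_mul] at hef' hre'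
    exact hcr (pow_ne_zero' hS hcg hre' hef').symm
  have hconj : x * a * x⁻¹ = c * a := by simp [hc, mul_assoc]
  have hpow : ∀ m : ℕ, x ^ m * a * (x ^ m)⁻¹ = c ^ m * a := by
    intro m
    induction m with
    | zero => simp
    | succ m ih =>
      calc x ^ (m + 1) * a * (x ^ (m + 1))⁻¹ = x * (x ^ m * a * (x ^ m)⁻¹) * x⁻¹ := by
            rw [pow_succ', mul_inv_rev]; simp [mul_assoc]
        _ = x * (c ^ m * a) * x⁻¹ := by rw [ih]
        _ = c ^ m * (x * a * x⁻¹) := by rw [← mul_assoc, (hxc.pow_right m).eq]; simp [mul_assoc]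
        _ = c ^ (m + 1) * a := by rw [hconj, ← mul_assoc, ← pow_succ]
  have hxz : Commute (x ^ e * c ^ f) c := ((hxc.pow_left e).mul_left (Commute.self_pow c f).symm)
  have hq : (x ^ e * c ^ f) * (a ^ e' * c ^ f') * (x ^ e * c ^ f)⁻¹ * (a ^ e' * c ^ f')⁻¹ =
      c ^ (e * e') := by
    have s1 : (x ^ e * c ^ f) * a * (x ^ e * c ^ f)⁻¹ = c ^ e * a := by
      rw [mul_inv_rev, mul_assoc (x ^ e) (c ^ f) a, ← (hac.pow_right f).eq]
      simpa [mul_assoc] using hpow e
    have hca : Commute (c ^ e) a := (hac.pow_right e).symm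
    rw [show ∀ A B C D : G, A * (B * C) * A⁻¹ * D = (A * B * A⁻¹) * (A * C * A⁻¹) * D from
        fun A B C D => by simp [mul_assoc],
      (hxz.pow_right f').eq, mul_inv_cancel_right, ← conj_pow, s1, hca.mul_pow, ← pow_mul]
    simp [mul_assoc]
  have hrq : Commute r (c ^ (e * e')) :=
    hq ▸ ((hre.mul_right hre').mul_right hre.inv_right).mul_right hre'.inv_right
  refine hcr (pow_ne_zero' hS hcg hrq fun h => ?_).symm
  rcases hS.hp.dvd_mul.1 ((orderOf_gen hS.card hcg) ▸ orderOf_dvd_of_pow_eq_one h) with hd | hd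
  · exact hxe (orderOf_dvd_iff_pow_eq_one.1 ((orderOf_gen hS.card hx).symm ▸ hd))
  · exact hae (orderOf_dvd_iff_pow_eq_one.1 ((orderOf_gen hS.card hag).symm ▸ hd))

theorem exists_central [Finite G] {K : Set (Subgroup G)} (hS : Setting p K) {s t : G} (hs : Gen K s)
    (ht : Gen K t) (hst : Commute s t) (hne : Subgroup.zpowers s ≠ Subgroup.zpowers t) :
    ∃ c, Gen K c ∧ ∀ r, Gen K r → Commute c r := by
  by_contra hcon
  push Not at hcon
  obtain ⟨w, hw, hsw⟩ := hcon s hs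
  obtain ⟨i, j, hij, hwz⟩ := hS.meet s t hs ht hne hst w hw
  set z := s ^ i * t ^ j
  have hz : Gen K z := hS.line s t hs ht hne hst i j hij
  have hsz : Commute s z := (Commute.self_pow s i).mul_right (hst.pow_right j)
  obtain ⟨r, hr, hzr⟩ := hcon z hz
  have hn1 : Subgroup.zpowers s ≠ Subgroup.zpowers z := fun h =>
    hsw (commute_of_mem_zpowers hwz.symm (h ▸ Subgroup.mem_zpowers s) (Subgroup.mem_zpowers w))
  have hn2 : Subgroup.zpowers w ≠ Subgroup.zpowers z := fun h =>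
    hsw (commute_of_mem_zpowers hsz (Subgroup.mem_zpowers s) (h ▸ Subgroup.mem_zpowers w))
  obtain ⟨a, b, hab, hrx⟩ := hS.meet s z hs hz hn1 hsz r hr
  obtain ⟨a', b', hab', hrw⟩ := hS.meet w z hw hz hn2 hwz r hr
  have hxg := hS.line s z hs hz hn1 hsz a b hab
  have hwg := hS.line w z hw hz hn2 hwz a' b' hab'
  have hsa : s ^ a ≠ 1 := fun h => by
    rw [h, one_mul] at hab hrx
    exact hzr (pow_ne_zero' hS hz hrx hab).symm
  have hwa : w ^ a' ≠ 1 := fun h => by
    rw [h, one_mul] at hab' hrw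
    exact hzr (pow_ne_zero' hS hz hrw hab').symm
  have hnc : ¬ Commute (s ^ a * z ^ b) (w ^ a' * z ^ b') := by
    intro h
    apply noncomm_pow hS hs hw hsw hsa hwa
    have h1 : Commute (s ^ a * z ^ b) (z ^ b') :=
      (hsz.pow_pow a b').mul_left ((Commute.refl z).pow_pow b b')
    have h2 : Commute (s ^ a * z ^ b) (w ^ a') := by
      have := h.mul_right h1.inv_right
      simpa [mul_assoc] using this
    have h3 : Commute (z ^ b) (w ^ a') := (hwz.pow_pow a' b).symm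
    have := h2.mul_left h3.inv_left
    simpa [mul_assoc] using this
  obtain ⟨c, hcg, hc⟩ := central_of_config hS hxg hwg hr hz hnc (fun h => hzr h.symm) hrx.symm
    ((hsz.pow_left a).mul_left (Commute.self_pow z b).symm) hrw.symm
    ((hwz.pow_left a').mul_left (Commute.self_pow z b').symm)
  obtain ⟨q, hq, hcq⟩ := hcon c hcg
  exact hcq (hc q hq)


/-- Let p be a prime and K a set of subgroups of order p of a finite group G, closed under conjugation, such that at least two distinct members of K commute elementwise, and whenever two distinct members X, Y of K commute: every subgroup of order p of the group XY they generate belongs to K, and every member W of K has centralizer meeting XY nontrivially. Then some member V of K commutes elementwise with every member of K and lies in O_p(G); in particular G is not simple. -/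
theorem result {G : Type*} [Group G] [Finite G]
    {p : ℕ} (hp : p.Prime) (K : Set (Subgroup G)) (hK : ∀ X ∈ K, Nat.card ↥X = p)
    (hKc : ∀ X ∈ K, ∀ g : G, X.map (MulAut.conj g).toMonoidHom ∈ K)
    (hex : ∃ X ∈ K, ∃ Y ∈ K, X ≠ Y ∧ ∀ x ∈ X, ∀ y ∈ Y, x * y = y * x)
    (ha : ∀ X ∈ K, ∀ Y ∈ K, X ≠ Y → (∀ x ∈ X, ∀ y ∈ Y, x * y = y * x) →
      ∀ Z : Subgroup G, Z ≤ X ⊔ Y → Nat.card ↥Z = p → Z ∈ K)
    (hb : ∀ X ∈ K, ∀ Y ∈ K, X ≠ Y → (∀ x ∈ X, ∀ y ∈ Y, x * y = y * x) →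
      ∀ W ∈ K, (X ⊔ Y) ⊓ Subgroup.centralizer (W : Set G) ≠ ⊥) :
    (∃ V ∈ K, (∀ W ∈ K, ∀ v ∈ V, ∀ w ∈ W, v * w = w * v) ∧ V ≤ Cfsg.pCore p G) ∧ ¬ IsSimpleGroup G := by
  classical
  haveI : Fact p.Prime := ⟨hp⟩
  have hgen : ∀ X ∈ K, ∃ x, x ∈ X ∧ x ≠ 1 := by
    intro X hX
    suffices X ≠ ⊥ by
      obtain ⟨⟨a, haX⟩, ha1⟩ := Subgroup.ne_bot_iff_exists_ne_one.1 this
      exact ⟨a, haX, fun h => ha1 (Subtype.ext h)⟩
    rintro rfl
    have := hK _ hX
    simp at this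
    exact hp.one_lt.ne this
  have hcomm : ∀ x y : G, Commute x y → ∀ a ∈ Subgroup.zpowers x, ∀ b ∈ Subgroup.zpowers y, a * b = b * a :=
    fun x y h a ha b hb => commute_of_mem_zpowers h ha hb
  have hS : Setting p K := by
    refine ⟨hp, hK, ?_, ?_, ?_⟩
    · intro x hx g
      have := hKc _ hx.2 g
      rw [MonoidHom.map_zpowers] at this
      exact ⟨fun h => hx.1 (conj_eq_one_iff.1 h), this⟩
    · intro x y hx hy hne hxy i j hij
      refine ⟨hij, ha _ hx.2 _ hy.2 hne (hcomm x y hxy) _ (Subgroup.zpowers_le.2 ?_) ?_⟩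
      · exact Subgroup.mul_mem_sup (Subgroup.pow_mem _ (Subgroup.mem_zpowers x) i)
          (Subgroup.pow_mem _ (Subgroup.mem_zpowers y) j)
      · rw [Nat.card_zpowers]
        refine orderOf_eq_prime ?_ hij
        rw [(hxy.pow_pow i j).mul_pow, pow_right_comm, pow_right_comm y, ← orderOf_gen hK hx,
          pow_orderOf_eq_one, orderOf_gen hK hx, ← orderOf_gen hK hy, pow_orderOf_eq_one]
        simp
    · intro x y hx hy hne hxy w hw
      obtain ⟨⟨u, hu⟩, hu1⟩ := Subgroup.ne_bot_iff_exists_ne_one.1 (hb _ hx.2 _ hy.2 hne (hcomm x y hxy) _ hw.2)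
      obtain ⟨i, j, rfl⟩ := mem_sup_zpowers hxy hu.1
      exact ⟨i, j, fun h => hu1 (Subtype.ext h),
        (Subgroup.mem_centralizer_iff.1 hu.2 w (Subgroup.mem_zpowers w))⟩
  obtain ⟨X, hX, Y, hY, hXY, hXYc⟩ := hex
  obtain ⟨s, hsX, hs1⟩ := hgen X hX
  obtain ⟨t, htY, ht1⟩ := hgen Y hY
  obtain ⟨hsg, hsX'⟩ := gen_of_mem hp hK hX hsX hs1
  obtain ⟨htg, htY'⟩ := gen_of_mem hp hK hY htY ht1
  obtain ⟨c, hcg, hc⟩ := exists_central hS hsg htg (hXYc s hsX t htY) (by rwa [hsX', htY'])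
  have hVK : ∀ W ∈ K, ∀ v ∈ Subgroup.zpowers c, ∀ w ∈ W, v * w = w * v := by
    intro W hW v hv w hw
    by_cases hw1 : w = 1
    · simp [hw1]
    obtain ⟨hwg, -⟩ := gen_of_mem hp hK hW hw hw1
    exact commute_of_mem_zpowers (hc w hwg) hv (Subgroup.mem_zpowers w)
  -- the normal closure of `c` is an elementary abelian group
  set N := Subgroup.normalClosure ({c} : Set G) with hN
  have hgens : ∀ a ∈ Group.conjugatesOfSet ({c} : Set G), ∀ b ∈ Group.conjugatesOfSet ({c} : Set G),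
      Commute a b ∧ a ^ p = 1 := by
    intro a ha' b hb'
    obtain ⟨ca, hca, hconja⟩ := Group.mem_conjugatesOfSet_iff.1 ha'
    rw [Set.mem_singleton_iff] at hca; subst ca
    obtain ⟨ga, rfl⟩ := isConj_iff.1 hconja
    obtain ⟨cb, hcb, hconjb⟩ := Group.mem_conjugatesOfSet_iff.1 hb'
    rw [Set.mem_singleton_iff] at hcb; subst cb
    obtain ⟨gb, rfl⟩ := isConj_iff.1 hconjb
    refine ⟨?_, by rw [conj_pow, ← orderOf_gen hK hcg, pow_orderOf_eq_one]; simp⟩
    have h := hc _ (hS.conj c hcg (ga⁻¹ * gb))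
    have h' := Commute.map h (MulAut.conj ga).toMonoidHom
    simpa [mul_assoc] using h'
  haveI : IsMulCommutative ↥N := Subgroup.isMulCommutative_closure fun a ha b hb => (hgens a ha b hb).1.eq
  have hNp : IsPGroup p ↥N := by
    intro u
    refine ⟨1, Subtype.ext ?_⟩
    rw [pow_one]
    have := u.2
    show (u : G) ^ p = 1
    refine Subgroup.closure_induction (p := fun a _ => a ^ p = 1) (fun a ha => (hgens a ha a ha).2)
      (one_pow p) (fun a b ha hb h1 h2 => ?_) (fun a _ h1 => by rw [inv_pow, h1, inv_one]) this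
    have hcom : Commute a b :=
      congrArg Subtype.val (mul_comm' (⟨a, ha⟩ : ↥N) ⟨b, hb⟩)
    rw [hcom.mul_pow, h1, h2, one_mul]
  have hcN : c ∈ N := Subgroup.subset_normalClosure rfl
  refine ⟨⟨Subgroup.zpowers c, hcg.2, hVK, (Subgroup.zpowers_le.2 hcN).trans (le_sSup ⟨Subgroup.normalClosure_normal, hNp⟩)⟩, ?_⟩
  intro hsimple
  haveI : Nontrivial G := hsimple.toNontrivial
  have htop : N = ⊤ := (hsimple.eq_bot_or_eq_top_of_normal N Subgroup.normalClosure_normal).resolve_left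
    fun h => hcg.1 (Subgroup.mem_bot.1 (h ▸ hcN))
  have hG : ∀ a b : G, a * b = b * a := fun a b =>
    congrArg Subtype.val (mul_comm' (⟨a, htop ▸ Subgroup.mem_top a⟩ : ↥N) ⟨b, htop ▸ Subgroup.mem_top b⟩)
  have hnorm : X.Normal := ⟨fun a ha g => by rw [hG g a, mul_inv_cancel_right]; exact ha⟩
  have hnormY : Y.Normal := ⟨fun a ha g => by rw [hG g a, mul_inv_cancel_right]; exact ha⟩
  have hXt := (hsimple.eq_bot_or_eq_top_of_normal X hnorm).resolve_left fun h => hs1 (Subgroup.mem_bot.1 (h ▸ hsX))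
  have hYt := (hsimple.eq_bot_or_eq_top_of_normal Y hnormY).resolve_left fun h => ht1 (Subgroup.mem_bot.1 (h ▸ htY))
  exact hXY (hXt.trans hYt.symm)

end Cfsg.Agent.S3196
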