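import Cfsg.Statements.S3200
import Cfsg.Agent.Lib.Characters.Burnside
import Cfsg.Agent.Lib.Hall.Solvable

set_option autoImplicit false
open Cfsg

namespace Cfsg.Agent.S3200

open Subgroup
open scoped Pointwise

universe v

/-- An abelian subgroup of odd order and 2-power index. -/
def HasAbelianOddHall (H : Type v) [Group H] : Prop :=
  ∃ C : Subgroup H, IsMulCommutative ↥C ∧ Odd (Nat.card ↥C) ∧ ∃ k : ℕ, C.index = 2 ^ k

theorem of_normal {H : Type v} [Group H] [Finite H] (h : HasAbelianOddHall H) (N : Subgroup H)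
    [N.Normal] : HasAbelianOddHall ↥N := by
  obtain ⟨C, hC, hodd, k, hk⟩ := h
  refine ⟨C.subgroupOf N, ⟨⟨fun x y => ?_⟩⟩, ?_, ?_⟩
  · exact Subtype.ext (Subtype.ext (congrArg Subtype.val
      (mul_comm' (⟨((x : ↥N) : H), x.2⟩ : ↥C) ⟨((y : ↥N) : H), y.2⟩) :))
  · refine hodd.of_dvd_nat ?_
    rw [← card_subtype N (C.subgroupOf N)]
    exact card_dvd_of_le (by rintro _ ⟨x, hx, rfl⟩; exact hx)
  · have h1 : C.relIndex N ∣ 2 ^ k := by
      have e : C.relIndex N = C.relIndex (C ⊔ N) := by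
        have a1 := relIndex_mul_relIndex ⊥ (C ⊓ N) C bot_le inf_le_left
        have a2 := relIndex_mul_relIndex ⊥ (C ⊓ N) N bot_le inf_le_right
        have a3 := relIndex_mul_relIndex ⊥ C (C ⊔ N) bot_le le_sup_left
        have a4 := relIndex_mul_relIndex ⊥ N (C ⊔ N) bot_le le_sup_right
        rw [relIndex_sup_right] at a4
        simp only [relIndex_bot_left, inf_relIndex_left, inf_relIndex_right] at a1 a2 a3 a4
        have h0 : N.relIndex C ≠ 0 := by
          intro h0; rw [h0, mul_zero] at a1; exact Nat.card_pos.ne' a1.symm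
        refine Nat.eq_of_mul_eq_mul_left
          (Nat.mul_pos (Nat.card_pos (α := ↥(C ⊓ N))) (Nat.pos_of_ne_zero h0)) ?_
        calc Nat.card ↥(C ⊓ N) * N.relIndex C * C.relIndex N
            = Nat.card ↥(C ⊓ N) * C.relIndex N * N.relIndex C := by ring
          _ = Nat.card ↥(C ⊔ N) := by rw [a2, a4]
          _ = Nat.card ↥(C ⊓ N) * N.relIndex C * C.relIndex (C ⊔ N) := by rw [a1, a3]
      rw [← hk, e]
      exact Dvd.intro _ (relIndex_mul_index le_sup_left)
    obtain ⟨j, -, hj⟩ := (Nat.dvd_prime_pow Nat.prime_two).1 h1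
    exact ⟨j, hj⟩

theorem of_quotient {H : Type v} [Group H] [Finite H] (h : HasAbelianOddHall H) (N : Subgroup H)
    [N.Normal] : HasAbelianOddHall (H ⧸ N) := by
  obtain ⟨C, hC, hodd, k, hk⟩ := h
  refine ⟨C.map (QuotientGroup.mk' N), ⟨⟨fun x y => ?_⟩⟩, hodd.of_dvd_nat (card_map_dvd C _), ?_⟩
  · obtain ⟨_, a, ha, rfl⟩ := x
    obtain ⟨_, b, hb, rfl⟩ := y
    refine Subtype.ext ?_
    change QuotientGroup.mk' N a * QuotientGroup.mk' N b = QuotientGroup.mk' N b * QuotientGroup.mk' N a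
    rw [← map_mul, ← map_mul]
    exact congrArg _ (congrArg Subtype.val (mul_comm' (⟨a, ha⟩ : ↥C) ⟨b, hb⟩))
  · obtain ⟨j, -, hj⟩ := (Nat.dvd_prime_pow Nat.prime_two).1
      (hk ▸ index_map_dvd C (QuotientGroup.mk'_surjective N))
    exact ⟨j, hj⟩

theorem isSolvable_aux : ∀ (n : ℕ) {H : Type v} [Group H] [Finite H],
    Nat.card H ≤ n → HasAbelianOddHall H → Group.IsSolvable H := by
  intro n
  induction n with
  | zero => intro H _ _ hn; exact absurd hn (by have := Nat.card_pos (α := H); omega)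
  | succ n ih =>
    intro H _ _ hn h
    by_cases hsimp : ∃ N : Subgroup H, N.Normal ∧ N ≠ ⊥ ∧ N ≠ ⊤
    · obtain ⟨N, hN, hb, ht⟩ := hsimp
      have h1 : Group.IsSolvable ↥N := ih (by
        have := Subgroup.card_le_card_group N
        have : Nat.card ↥N ≠ Nat.card H := fun e => ht (eq_top_of_card_eq N e)
        omega) (of_normal h N)
      have h2 : Group.IsSolvable (H ⧸ N) := ih (by
        have e := card_eq_card_quotient_mul_card_subgroup N
        have := (one_lt_card_iff_ne_bot N).2 hb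
        have := Nat.card_pos (α := H ⧸ N)
        nlinarith) (of_quotient h N)
      exact (Group.isSolvable_iff_subgroup_quotient N).mpr ⟨h1, h2⟩
    push Not at hsimp
    rcases subsingleton_or_nontrivial H with hs | hnt
    · infer_instance
    haveI : IsSimpleGroup H := ⟨fun N hN => or_iff_not_imp_left.2 (hsimp N hN)⟩
    obtain ⟨C, hC, hodd, k, hk⟩ := h
    by_cases hCb : C = ⊥
    · haveI : Fact (Nat.Prime 2) := ⟨Nat.prime_two⟩
      have : IsPGroup 2 H := IsPGroup.of_card (n := k) (by rw [← index_bot, ← hCb, hk])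
      haveI := this.isNilpotent
      infer_instance
    obtain ⟨x, hx, hx1⟩ := (Subgroup.ne_bot_iff_exists_ne_one.1 hCb |> fun ⟨y, hy⟩ =>
      (⟨y.1, y.2, fun e => hy (Subtype.ext e)⟩ : ∃ x ∈ C, x ≠ (1 : H)))
    have hle : C ≤ centralizer ({x} : Set H) := fun c hc => mem_centralizer_singleton_iff.2
      (congrArg Subtype.val (mul_comm' (⟨c, hc⟩ : ↥C) ⟨x, hx⟩))
    obtain ⟨j, -, hj⟩ := (Nat.dvd_prime_pow Nat.prime_two).1 (hk ▸ index_dvd_of_le hle)
    have hp := CfsgLib.Burnside.prime_card_of_prime_power_class Nat.prime_two hx1 hj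
    haveI : Fact (Nat.card H).Prime := ⟨hp⟩
    haveI : IsCyclic H := isCyclic_of_prime_card rfl
    letI : CommGroup H := IsCyclic.commGroup
    exact Group.isSolvable_of_comm fun a b => mul_comm a b


/-- Let H be a finite group in which a Sylow 2-subgroup has an abelian complement (an abelian subgroup meeting it trivially whose product with it is all of H). Then H is solvable, and every subgroup and every quotient group of H again has a Sylow 2-subgroup with an abelian complement. -/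
theorem result {H : Type*} [Group H] [Finite H]
    (S : Sylow 2 H) (C : Subgroup H) (hC : IsMulCommutative ↥C) (hSC : Subgroup.IsComplement' (S : Subgroup H) C) :
    Group.IsSolvable H ∧
    (∀ L : Subgroup H, ∃ (P : Sylow 2 ↥L) (D : Subgroup ↥L), IsMulCommutative ↥D ∧ Subgroup.IsComplement' (P : Subgroup ↥L) D) ∧
    (∀ (N : Subgroup H) [N.Normal], ∃ (P : Sylow 2 (H ⧸ N)) (D : Subgroup (H ⧸ N)),
      IsMulCommutative ↥D ∧ Subgroup.IsComplement' (P : Subgroup (H ⧸ N)) D) := by
  haveI : Fact (Nat.Prime 2) := ⟨Nat.prime_two⟩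
  classical
  have hmul : Nat.card ↥(S : Subgroup H) * Nat.card ↥C = Nat.card H := hSC.card_mul
  have hCodd : Odd (Nat.card ↥C) := by
    rw [← Nat.not_even_iff_odd, even_iff_two_dvd]
    have := S.not_dvd_index
    rwa [hSC.symm.index_eq_card] at this
  have hindex : C.index = Nat.card ↥(S : Subgroup H) := hSC.index_eq_card
  obtain ⟨k, hk⟩ := IsPGroup.iff_card.1 S.isPGroup'
  have hH : HasAbelianOddHall H := ⟨C, hC, hCodd, k, hindex.trans hk⟩
  have hsol : Group.IsSolvable H := isSolvable_aux _ le_rfl hH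
  have hmk : ∀ (K : Type _) [Group K] [Finite K], HasAbelianOddHall K →
      ∃ (P : Sylow 2 K) (D : Subgroup K), IsMulCommutative ↥D ∧
        Subgroup.IsComplement' (P : Subgroup K) D := by
    rintro K _ _ ⟨D, hD, hodd, j, hj⟩
    obtain ⟨P⟩ := (inferInstance : Nonempty (Sylow 2 K))
    refine ⟨P, D, hD, ?_⟩
    have hcop : (Nat.card ↥(P : Subgroup K)).Coprime (Nat.card ↥D) := by
      rw [P.card_eq_multiplicity]
      exact ((Nat.coprime_two_left.2 hodd)).pow_left _
    refine Subgroup.isComplement'_of_coprime ?_ hcop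
    have h1 := D.card_mul_index
    rw [hj] at h1
    rw [P.card_eq_multiplicity, ← h1, Nat.factorization_mul (Nat.card_pos).ne' (by positivity),
      Finsupp.add_apply, Nat.factorization_eq_zero_of_not_dvd
        (fun h => Nat.not_even_iff_odd.2 hodd (even_iff_two_dvd.2 h)),
      Nat.Prime.factorization_pow Nat.prime_two, Finsupp.single_eq_same, zero_add, mul_comm]
  refine ⟨hsol, fun L => ?_, fun N _ => hmk _ (of_quotient hH N)⟩
  refine hmk _ ?_
  haveI := hsol
  have hL : 0 < Nat.card ↥L := Nat.card_pos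
  obtain ⟨D, hD⟩ := CfsgLib.Hall.exists_subgroup_card (G := ↥L)
    (m := Nat.card ↥L / 2 ^ (Nat.card ↥L).factorization 2) (k := 2 ^ (Nat.card ↥L).factorization 2)
    (Nat.div_mul_cancel (Nat.ordProj_dvd _ _)).symm
    ((Nat.coprime_ordCompl Nat.prime_two hL.ne').symm.pow_right _)
  have hDodd : Odd (Nat.card ↥D) := by
    rw [hD, ← Nat.coprime_two_left]
    exact Nat.coprime_ordCompl Nat.prime_two hL.ne'
  refine ⟨D, ?_, hDodd, (Nat.card ↥L).factorization 2, ?_⟩
  · have hU : (Nat.card ↥(D.map L.subtype)).Coprime (2 ^ k) := by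
      rw [Subgroup.card_subtype]; exact (Nat.coprime_two_right.2 hDodd).pow_right k
    have hcard : Nat.card H = Nat.card ↥C * 2 ^ k := by rw [← hk, mul_comm, hmul]
    have hcop : (Nat.card ↥C).Coprime (2 ^ k) := (Nat.coprime_two_right.2 hCodd).pow_right k
    obtain ⟨B, hB, hDB⟩ := CfsgLib.Hall.exists_ge_card hcard hcop hU
    obtain ⟨g, hg⟩ := CfsgLib.Hall.conj_of_card hcard hcop rfl hB
    subst hg
    refine ⟨⟨fun x y => Subtype.ext (Subtype.ext ?_)⟩⟩
    obtain ⟨a, ha, hax⟩ := hDB ⟨(x : ↥L), x.2, rfl⟩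
    obtain ⟨b, hb, hby⟩ := hDB ⟨(y : ↥L), y.2, rfl⟩
    change ((x : ↥L) : H) * ((y : ↥L) : H) = ((y : ↥L) : H) * ((x : ↥L) : H)
    change MulAut.conj g a = ((x : ↥L) : H) at hax
    change MulAut.conj g b = ((y : ↥L) : H) at hby
    rw [← hax, ← hby, ← map_mul, ← map_mul]
    exact congrArg _ (congrArg Subtype.val (mul_comm' (⟨a, ha⟩ : ↥C) ⟨b, hb⟩))
  · have h1 := D.card_mul_index
    rw [hD] at h1
    refine Nat.eq_of_mul_eq_mul_left (Nat.ordCompl_pos 2 hL.ne') ?_
    rw [h1, Nat.div_mul_cancel (Nat.ordProj_dvd _ _)]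

end Cfsg.Agent.S3200
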