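import Cfsg.Statements.S3201
import Cfsg.Agent.Lib.TwoGroups.Semidihedral
import Cfsg.Agent.Lib.InvChar.UniqueInvolution

set_option autoImplicit false
open Cfsg

namespace Cfsg.Agent.S3201

open CfsgLib.InvChar


/-- Let S be a finite 2-group whose centre Z(S) has n ≥ 2 distinct maximal subgroups C₁, …, Cₙ with trivial intersection such that each quotient S/Cᵢ is a non-abelian group with exactly one involution (a generalized quaternion group). Then S is the internal direct product of an elementary abelian subgroup and a non-abelian subgroup with exactly one involution. -/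
theorem result {S : Type*} [Group S] [Finite S]
    (hS : IsPGroup 2 S) (n : ℕ) (hn : 2 ≤ n) (C : Fin n → Subgroup ↥(Subgroup.center S))
    (hCmax : ∀ i, IsCoatom (C i)) (hCinj : Function.Injective C) (hCint : ⨅ i, C i = ⊥)
    (hCq : ∀ i, ∃ (_ : ((C i).map (Subgroup.center S).subtype).Normal),
      ¬ IsMulCommutative (S ⧸ (C i).map (Subgroup.center S).subtype) ∧
      ∃! x : S ⧸ (C i).map (Subgroup.center S).subtype, orderOf x = 2) :
    ∃ E Q : Subgroup S, Cfsg.IsInternalDirectProduct E Q ⊤ ∧ Cfsg.IsElementaryAbelian 2 E ∧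
      ¬ IsMulCommutative ↥Q ∧ ∃! x : ↥Q, orderOf x = 2 := by
  classical
  haveI : Fact (Nat.Prime 2) := ⟨Nat.prime_two⟩
  haveI : Nonempty (Fin n) := ⟨⟨0, by omega⟩⟩
  let D : Fin n → Subgroup S := fun i => (C i).map (Subgroup.center S).subtype
  have hDn : ∀ i, (D i).Normal := fun i => (hCq i).1
  have hnc : ∀ i, ¬ IsMulCommutative (S ⧸ D i) := fun i => (hCq i).2.1
  have hone : ∀ i, ∀ u v : S ⧸ D i, orderOf u = 2 → orderOf v = 2 → u = v := fun i u v hu hv => by
    obtain ⟨x, -, hx⟩ := (hCq i).2.2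
    exact (hx u hu).trans (hx v hv).symm
  have hDz : ∀ i, ∀ d ∈ D i, d ∈ Subgroup.center S := fun i d hd => Subgroup.map_subtype_le _ hd
  have hCidx : ∀ i, (C i).index = 2 := fun i =>
    CfsgLib.TwoGroups.SD.index_of_isCoatom (hS.to_subgroup (Subgroup.center S)) (hCmax i)
  -- the centre is elementary abelian
  have hmemD : ∀ i (z : ↥(Subgroup.center S)), (z : S) ∈ D i ↔ z ∈ C i := fun i z => by
    constructor
    · rintro ⟨z', hz', he⟩; rwa [← Subtype.ext he]
    · exact fun h => ⟨z, h, rfl⟩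
  have hint : ∀ z ∈ Subgroup.center S, (∀ i, z ∈ D i) → z = 1 := by
    intro z hz h
    have : (⟨z, hz⟩ : ↥(Subgroup.center S)) ∈ ⨅ i, C i := Subgroup.mem_iInf.2 fun i => (hmemD i ⟨z, hz⟩).1 (h i)
    rw [hCint, Subgroup.mem_bot] at this
    exact congrArg Subtype.val this
  have hprod : ∀ i, ∀ u ∈ Subgroup.center S, ∀ v ∈ Subgroup.center S, (u * v ∈ D i ↔ (u ∈ D i ↔ v ∈ D i)) := by
    intro i u hu v hv
    rw [show u * v = ((⟨u, hu⟩ * ⟨v, hv⟩ : ↥(Subgroup.center S)) : S) from rfl, hmemD, hmemD i ⟨u, hu⟩, hmemD i ⟨v, hv⟩,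
      Subgroup.mul_mem_iff_of_index_two (hCidx i)]
  have helem : ∀ z ∈ Subgroup.center S, z * z = 1 := fun z hz =>
    hint _ (mul_mem hz hz) fun i => (hprod i z hz z hz).2 Iff.rfl
  -- an element outside the centre has no square in any `D i`
  have hsqout : ∀ i (g : S), g * g ∈ D i → g ∈ Subgroup.center S := by
    intro i g hg
    by_cases h : g ∈ D i
    · exact hDz i g h
    obtain ⟨z, hz⟩ : ∃ z : ↥(Subgroup.center S), z ∉ C i := by
      by_contra h'; push Not at h'
      exact (hCmax i).1 ((Subgroup.eq_top_iff' _).2 h')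
    have h2 : ∀ u : S, u * u ∈ D i → u ∉ D i → orderOf (QuotientGroup.mk' (D i) u) = 2 := fun u hu hu' => by
      refine orderOf_eq_prime ?_ fun h1 => hu' ((QuotientGroup.eq_one_iff u).1 h1)
      rw [pow_two, ← map_mul]; exact (QuotientGroup.eq_one_iff _).2 hu
    have hz2 : (z : S) * z ∈ D i := by rw [helem z z.2]; exact one_mem _
    have := hone i _ _ (h2 g hg h) (h2 z hz2 fun h' => hz ((hmemD i z).1 h'))
    have hmem : (z : S)⁻¹ * g ∈ D i := (QuotientGroup.eq.1 this.symm)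
    have := mul_mem z.2 (hDz i _ hmem)
    simpa using this
  -- the fixed quotient
  let i₀ : Fin n := ⟨0, by omega⟩
  set π := QuotientGroup.mk' (D i₀) with hπ
  obtain ⟨a, m, hm, ha, hidx, hout⟩ := exists_cyclic_index_two (hS.to_quotient (D i₀)) (hnc i₀) (hone i₀)
  obtain ⟨t, rfl⟩ := QuotientGroup.mk'_surjective (D i₀) a
  obtain ⟨y, hy⟩ : ∃ y, π y ∉ Subgroup.zpowers (π t) := by
    by_contra h
    push Not at h
    have : Subgroup.zpowers (π t) = ⊤ := (Subgroup.eq_top_iff' _).2 fun q => by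
      obtain ⟨g, rfl⟩ := QuotientGroup.mk'_surjective (D i₀) q
      exact h g
    rw [this] at hidx
    simp at hidx
  obtain ⟨m', rfl⟩ : ∃ m', m = m' + 2 := ⟨m - 2, by omega⟩
  have hcen2 : ∀ g ∈ Subgroup.center S, π g * π g = 1 := fun g hg => by rw [← map_mul, helem g hg, map_one]
  -- the distinguished involution
  have hw : ∀ g : S, g ∉ Subgroup.center S → g * g ∈ Subgroup.center S →
      ∀ i, g * g ∉ D i := fun g hg _ i h => hg (hsqout i g h)
  have huniq : ∀ u ∈ Subgroup.center S, ∀ v ∈ Subgroup.center S, (∀ i, u ∉ D i) → (∀ i, v ∉ D i) → u = v := by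
    intro u hu v hv hu' hv'
    have h1 := hint (u * v) (mul_mem hu hv) fun i => (hprod i u hu v hv).2 (iff_of_false (hu' i) (hv' i))
    rw [mul_eq_one_iff_eq_inv.1 h1]
    exact inv_eq_of_mul_eq_one_right (helem v hv)
  have hzmem : ∀ g : S, π g = π t ^ 2 ^ (m' + 1) → g ∈ Subgroup.center S := by
    intro g hg
    refine hsqout i₀ g ((QuotientGroup.eq_one_iff _).1 ?_)
    show π (g * g) = 1
    rw [map_mul, hg, ← pow_add, ← two_mul, ← pow_succ', show m' + 1 + 1 = m' + 2 from rfl, ← ha, pow_orderOf_eq_one]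
  set w := t ^ 2 ^ (m' + 1) with hwdef
  have hwz : w ∈ Subgroup.center S := hzmem w (map_pow π t _)
  have hwD : ∀ i, w ∉ D i := by
    intro i h
    have hh : t ^ 2 ^ m' * t ^ 2 ^ m' = w := by rw [← pow_add, ← two_mul, ← pow_succ', hwdef]
    have h1 := hcen2 _ (hsqout i _ (hh ▸ h))
    rw [map_pow, ← pow_add, ← two_mul, ← pow_succ', ← orderOf_dvd_iff_pow_eq_one, ha,
      Nat.pow_dvd_pow_iff_le_right (by norm_num)] at h1
    omega
  -- elements outside square to `w`
  have hyout : ∀ g : S, π g ∉ Subgroup.zpowers (π t) → g * g = w := by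
    intro g hg
    have hg2 : π g ^ 2 = π t ^ 2 ^ (m' + 1) := (hout _ hg).2
    have hgz : g * g ∈ Subgroup.center S := hzmem _ (by rw [map_mul, ← pow_two, hg2])
    refine huniq _ hgz w hwz (fun i h => ?_) hwD
    have := hcen2 g (hsqout i g h)
    rw [← pow_two, hg2, ← map_pow] at this
    exact hwD i₀ ((QuotientGroup.eq_one_iff _).1 this)
  have htpow : t ^ 2 ^ (m' + 2) = 1 := by rw [pow_succ, pow_mul, pow_two, ← hwdef]; exact helem w hwz
  have hinv : y * t * y⁻¹ = t⁻¹ := by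
    have h1 : (t * y) * (t * y) = w := hyout _ (by
      rw [map_mul, Subgroup.mul_mem_iff_of_index_two hidx]
      exact fun h => hy (h.1 (Subgroup.mem_zpowers _)))
    have h2 : y * y = w := hyout y hy
    refine eq_inv_of_mul_eq_one_right ?_
    calc t * (y * t * y⁻¹) = (t * y) * (t * y) * (y * y)⁻¹ := by simp [mul_assoc]
      _ = 1 := by rw [h1, h2, mul_inv_cancel]
  have hyt : ∀ i : ℤ, y * t ^ i = t ^ (-i) * y := fun i => by
    rw [← mul_inv_eq_iff_eq_mul, ← conj_zpow, hinv, inv_zpow, zpow_neg]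
  have hw0 : y * y ∈ Subgroup.zpowers t := by rw [hyout y hy]; exact pow_mem (Subgroup.mem_zpowers t) _
  -- the complement
  let Qs : Subgroup S :=
    { carrier := {g | ∃ i : ℤ, g = t ^ i ∨ g = t ^ i * y}
      one_mem' := ⟨0, Or.inl (by simp)⟩
      mul_mem' := by
        obtain ⟨k, hk⟩ := Subgroup.mem_zpowers_iff.1 hw0
        rintro _ _ ⟨i, rfl | rfl⟩ ⟨j, rfl | rfl⟩
        · exact ⟨i + j, Or.inl (zpow_add t i j).symm⟩
        · exact ⟨i + j, Or.inr (by rw [zpow_add, mul_assoc])⟩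
        · exact ⟨i - j, Or.inr (by rw [mul_assoc, hyt, ← mul_assoc, ← zpow_add, sub_eq_add_neg])⟩
        · exact ⟨i - j + k, Or.inl (by
            rw [mul_assoc, ← mul_assoc y, hyt, mul_assoc, ← hk, ← zpow_add, ← zpow_add]; congr 1; ring)⟩
      inv_mem' := by
        obtain ⟨k, hk⟩ := Subgroup.mem_zpowers_iff.1 hw0
        rintro _ ⟨i, rfl | rfl⟩
        · exact ⟨-i, Or.inl (zpow_neg t i).symm⟩
        · refine ⟨i - k, Or.inr (inv_eq_of_mul_eq_one_right ?_)⟩
          rw [mul_assoc, ← mul_assoc y, hyt, mul_assoc, ← hk, ← zpow_add, ← zpow_add]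
          rw [show i + (-(i - k) + k) = k + k by ring, zpow_add, hk, hyout y hy]
          exact helem w hwz }
  have htQ : t ∈ Qs := ⟨1, Or.inl (zpow_one t).symm⟩
  have hyQ : y ∈ Qs := ⟨0, Or.inr (by simp)⟩
  have hfaith : ∀ g ∈ Qs, π g = 1 → g = 1 := by
    rintro g ⟨i, rfl | rfl⟩ hg
    · rw [map_zpow, ← orderOf_dvd_iff_zpow_eq_one, ha] at hg
      rw [← orderOf_dvd_iff_zpow_eq_one]
      exact (Int.natCast_dvd_natCast.2 (orderOf_dvd_of_pow_eq_one htpow)).trans hg
    · exfalso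
      apply hy
      rw [map_mul, mul_eq_one_iff_eq_inv] at hg
      rw [← inv_inv (π y), ← hg, map_zpow]
      exact inv_mem (zpow_mem (Subgroup.mem_zpowers _) i)
  refine ⟨D i₀, Qs, ⟨le_top, le_top, fun d hd q _ => (Subgroup.mem_center_iff.1 (hDz i₀ d hd) q).symm, ?_, ?_⟩,
    ⟨⟨⟨fun u v => Subtype.ext (Subgroup.mem_center_iff.1 (hDz i₀ _ v.2) _)⟩⟩, fun d hd => by
      rw [pow_two]; exact helem d (hDz i₀ d hd)⟩, ?_, ?_⟩
  · rw [Subgroup.eq_bot_iff_forall]
    rintro g ⟨hgD, hgQ⟩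
    exact hfaith g hgQ ((QuotientGroup.eq_one_iff g).2 hgD)
  · rw [Subgroup.eq_top_iff']
    intro g
    obtain ⟨q, hq, hqg⟩ : ∃ q ∈ Qs, π q = π g := by
      by_cases hg : π g ∈ Subgroup.zpowers (π t)
      · obtain ⟨i, hi⟩ := Subgroup.mem_zpowers_iff.1 hg
        exact ⟨t ^ i, Qs.zpow_mem htQ i, by rw [map_zpow, hi]⟩
      · have h1 : π g * (π y)⁻¹ ∈ Subgroup.zpowers (π t) := by
          rw [Subgroup.mul_mem_iff_of_index_two hidx, inv_mem_iff]; exact iff_of_false hg hy
        obtain ⟨i, hi⟩ := Subgroup.mem_zpowers_iff.1 h1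
        exact ⟨t ^ i * y, Qs.mul_mem (Qs.zpow_mem htQ i) hyQ, by
          rw [map_mul, map_zpow, hi, inv_mul_cancel_right]⟩
    have hmem : g * q⁻¹ ∈ D i₀ := (QuotientGroup.eq_one_iff _).1 (by
      show π (g * q⁻¹) = 1
      rw [map_mul, map_inv, hqg, mul_inv_cancel])
    have := Subgroup.mul_mem_sup hmem hq
    simpa using this
  · intro h
    have h1 := congrArg Subtype.val (h.is_comm.comm (⟨y, hyQ⟩ : ↥Qs) ⟨t, htQ⟩)
    have h2 : π t * π t = 1 := by
      rw [← map_mul]
      refine (QuotientGroup.eq_one_iff _).2 ?_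
      have h3 : t = t⁻¹ := by
        rw [← hinv, show y * t = t * y from h1, mul_inv_cancel_right]
      nth_rewrite 1 [h3]
      rw [inv_mul_cancel]
      exact one_mem _
    have h4 := orderOf_dvd_of_pow_eq_one (show π t ^ 2 = 1 by rw [pow_two]; exact h2)
    rw [ha] at h4
    have := Nat.le_of_dvd two_pos h4
    have : 2 ^ 2 ≤ 2 ^ (m' + 2) := Nat.pow_le_pow_right two_pos (by omega)
    omega
  · have hwQ : w ∈ Qs := Qs.pow_mem htQ _
    have hw1 : w ≠ 1 := fun h => hwD i₀ (h ▸ one_mem _)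
    refine ⟨⟨w, hwQ⟩, orderOf_eq_prime (by rw [pow_two]; exact Subtype.ext (helem w hwz))
      (fun h => hw1 (congrArg Subtype.val h)), ?_⟩
    rintro ⟨g, hgQ⟩ hg
    refine Subtype.ext ?_
    have hgg : g * g = 1 := by
      have := pow_orderOf_eq_one (⟨g, hgQ⟩ : ↥Qs)
      rw [hg, pow_two] at this
      exact congrArg Subtype.val this
    have hg1 : g ≠ 1 := fun h => by
      rw [show (⟨g, hgQ⟩ : ↥Qs) = 1 from Subtype.ext h, orderOf_one] at hg
      norm_num at hg
    have hgz : g ∈ Subgroup.center S := hsqout i₀ g (hgg ▸ one_mem _)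
    -- inside the complement only one central involution
    have hπg : orderOf (π g) = 2 := orderOf_eq_prime (by rw [pow_two]; exact hcen2 g hgz)
      (fun h => hg1 (hfaith g hgQ h))
    have hπw : orderOf (π w) = 2 := orderOf_eq_prime (by rw [pow_two]; exact hcen2 w hwz)
      (fun h => hwD i₀ ((QuotientGroup.eq_one_iff w).1 h))
    have heq := hone i₀ _ _ hπg hπw
    have := hfaith (g * w⁻¹) (Qs.mul_mem hgQ (Qs.inv_mem hwQ)) (by rw [map_mul, map_inv, heq, mul_inv_cancel])
    exact mul_inv_eq_one.1 this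

end Cfsg.Agent.S3201
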