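import Cfsg.Statements.S3202
import Cfsg.Agent.Lib.InvChar.UniqueInvolution

set_option autoImplicit false
open Cfsg

namespace Cfsg.Agent.S3202

open CfsgLib.InvChar
open scoped commutatorElement


/-- Let S be a finite 2-group of 2-rank exactly 2 and D a maximal subgroup of the centre of S such that S/D is a non-abelian group with exactly one involution (a generalized quaternion group). Then S has a nontrivial cyclic characteristic subgroup. -/
theorem result {S : Type*} [Group S]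
    [Finite S] (hS : IsPGroup 2 S) (hr2 : Cfsg.PRankLE 2 2 S) (hr1 : ¬ Cfsg.PRankLE 2 1 S)
    (D : Subgroup ↥(Subgroup.center S)) (hD : IsCoatom D)
    (hq : ∃ (_ : (D.map (Subgroup.center S).subtype).Normal),
      ¬ IsMulCommutative (S ⧸ D.map (Subgroup.center S).subtype) ∧
      ∃! x : S ⧸ D.map (Subgroup.center S).subtype, orderOf x = 2) :
    ∃ C : Subgroup S, C ≠ ⊥ ∧ IsCyclic ↥C ∧ C.Characteristic := by
  obtain ⟨hN, hnc, x0, hx0, hu⟩ := hq
  set D' := D.map (Subgroup.center S).subtype with hD'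
  obtain ⟨a, m, hm, ha, hidx, hout⟩ := exists_cyclic_index_two (hS.to_quotient D') hnc
    (fun u v hu' hv' => (hu u hu').trans (hu v hv').symm)
  obtain ⟨t, rfl⟩ := QuotientGroup.mk'_surjective D' a
  set π := QuotientGroup.mk' D' with hπ
  set A := (Subgroup.zpowers (π t)).comap π with hA
  have hDz : ∀ d ∈ D', d ∈ Subgroup.center S := fun d hd => Subgroup.map_subtype_le _ hd
  have hAmem : ∀ u ∈ A, ∃ i : ℤ, ∃ d ∈ D', u = t ^ i * d := by
    intro u hu'
    obtain ⟨i, hi⟩ := Subgroup.mem_zpowers_iff.1 hu'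
    refine ⟨i, (t ^ i)⁻¹ * u, (QuotientGroup.eq_one_iff _).1 ?_, by simp⟩
    show π ((t ^ i)⁻¹ * u) = 1
    rw [map_mul, map_inv, map_zpow, hi, inv_mul_cancel]
  have hAc : ∀ u ∈ A, ∀ v ∈ A, Commute u v := by
    intro u hu' v hv'
    obtain ⟨i, d, hd, rfl⟩ := hAmem u hu'
    obtain ⟨j, e, he, rfl⟩ := hAmem v hv'
    have hd' : ∀ g, Commute d g := fun g => (Subgroup.mem_center_iff.1 (hDz d hd) g).symm
    have he' : ∀ g, Commute g e := fun g => Subgroup.mem_center_iff.1 (hDz e he) g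
    exact (((Commute.refl t).zpow_zpow i j).mul_right (he' _)).mul_left (hd' _)
  obtain ⟨y, hy⟩ : ∃ y, π y ∉ Subgroup.zpowers (π t) := by
    by_contra h
    push Not at h
    have : Subgroup.zpowers (π t) = ⊤ := (Subgroup.eq_top_iff' _).2 fun q => by
      obtain ⟨g, rfl⟩ := QuotientGroup.mk'_surjective D' q
      exact h g
    rw [this] at hidx
    simp at hidx
  have htA : t ∈ A := Subgroup.mem_zpowers (π t)
  have hyA : ∀ u ∈ A, y * u * y⁻¹ ∈ A := by
    intro u hu'
    show π (y * u * y⁻¹) ∈ Subgroup.zpowers (π t)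
    rw [map_mul, map_mul, map_inv]
    exact (Subgroup.normal_of_index_eq_two hidx).conj_mem _ hu' _
  set c := y * t * y⁻¹ * t⁻¹ with hc
  have hcom : ∀ u ∈ A, y * u * y⁻¹ * u⁻¹ ∈ Subgroup.zpowers c := by
    intro u hu'
    obtain ⟨i, d, hd, rfl⟩ := hAmem u hu'
    refine Subgroup.mem_zpowers_iff.2 ⟨i, ?_⟩
    have hd' : y * d * y⁻¹ = d := by rw [Subgroup.mem_center_iff.1 (hDz d hd) y, mul_inv_cancel_right]
    rw [hc, (hAc _ (hyA t htA) _ (A.inv_mem htA)).mul_zpow, conj_zpow, inv_zpow]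
    calc y * t ^ i * y⁻¹ * (t ^ i)⁻¹ = (y * t ^ i * y⁻¹) * (y * d * y⁻¹) * (d⁻¹ * (t ^ i)⁻¹) := by
          rw [hd']; simp [mul_assoc]
      _ = _ := by simp [mul_assoc]
  have hsplit : ∀ u : S, u ∈ A ∨ u * y⁻¹ ∈ A := by
    intro u
    by_cases hu' : u ∈ A
    · exact Or.inl hu'
    · refine Or.inr ?_
      show π (u * y⁻¹) ∈ Subgroup.zpowers (π t)
      rw [map_mul, map_inv, Subgroup.mul_mem_iff_of_index_two hidx, inv_mem_iff]
      exact iff_of_false hu' hy
  have hle : commutator S ≤ Subgroup.zpowers c := by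
    rw [commutator_eq_closure, Subgroup.closure_le]
    rintro _ ⟨u, v, rfl⟩
    rw [SetLike.mem_coe, commutatorElement_def]
    have mixed : ∀ α ∈ A, ∀ β ∈ A, (β * y) * α * (β * y)⁻¹ * α⁻¹ ∈ Subgroup.zpowers c := by
      intro α hα β hβ
      have e1 : (β * y) * α * (β * y)⁻¹ = y * α * y⁻¹ := by
        calc (β * y) * α * (β * y)⁻¹ = β * (y * α * y⁻¹) * β⁻¹ := by simp [mul_assoc]
          _ = y * α * y⁻¹ := by rw [(hAc _ hβ _ (hyA α hα)).eq, mul_inv_cancel_right]
      rw [e1]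
      exact hcom α hα
    rcases hsplit u with hu' | hu' <;> rcases hsplit v with hv' | hv'
    · rw [(hAc u hu' v hv').eq]; simp
    · have := Subgroup.inv_mem _ (mixed u hu' _ hv')
      simpa [mul_assoc] using this
    · have := mixed v hv' _ hu'
      simpa [mul_assoc] using this
    · set α := u * y⁻¹
      set β := v * y⁻¹
      have e : u * v * u⁻¹ * v⁻¹ = (y * β * y⁻¹ * β⁻¹) * (y * α * y⁻¹ * α⁻¹)⁻¹ := by
        have h1 : u * v * u⁻¹ * v⁻¹ = α * (y * β * y⁻¹) * ((y * α * y⁻¹)⁻¹ * β⁻¹) := by simp [α, β, mul_assoc]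
        rw [h1]
        have k1 := hyA β hv'
        have k2 := A.inv_mem (hyA α hu')
        calc α * (y * β * y⁻¹) * ((y * α * y⁻¹)⁻¹ * β⁻¹)
            = (y * β * y⁻¹) * α * (β⁻¹ * (y * α * y⁻¹)⁻¹) := by
              rw [(hAc _ hu' _ k1).eq, (hAc _ k2 _ (A.inv_mem hv')).eq]
          _ = (y * β * y⁻¹) * (β⁻¹ * α) * (y * α * y⁻¹)⁻¹ := by
              rw [← (hAc _ hu' _ (A.inv_mem hv')).eq]; simp [mul_assoc]
          _ = _ := by simp [mul_assoc]
      rw [e]
      exact Subgroup.mul_mem _ (hcom β hv') (Subgroup.inv_mem _ (hcom α hu'))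
  refine ⟨commutator S, ?_, ?_, inferInstance⟩
  · intro h
    refine hnc ⟨⟨fun u v => ?_⟩⟩
    obtain ⟨u, rfl⟩ := QuotientGroup.mk'_surjective D' u
    obtain ⟨v, rfl⟩ := QuotientGroup.mk'_surjective D' v
    have h1 : ⁅u, v⁆ ∈ commutator S := Subgroup.commutator_mem_commutator (Subgroup.mem_top u) (Subgroup.mem_top v)
    rw [h, Subgroup.mem_bot, commutatorElement_eq_one_iff_mul_comm] at h1
    rw [← map_mul, ← map_mul, h1]
  · exact isCyclic_of_injective (Subgroup.inclusion hle) (Subgroup.inclusion_injective hle)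

end Cfsg.Agent.S3202
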