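import Cfsg.Statements.S3203
import Cfsg.Agent.Lib.InvChar.Conj

set_option autoImplicit false
open Cfsg

namespace Cfsg.Agent.S3203

open CfsgLib.InvChar

variable {G : Type*} [Group G]

theorem elab_map {H K : Type*} [Group H] [Group K] {C : Subgroup H} (f : H →* K)
    (h : Cfsg.IsElementaryAbelian 2 C) : Cfsg.IsElementaryAbelian 2 (C.map f) := by
  refine ⟨⟨⟨?_⟩⟩, ?_⟩
  · rintro ⟨_, a, ha, rfl⟩ ⟨_, b, hb, rfl⟩
    have := congrArg Subtype.val (h.1.is_comm.comm (⟨a, ha⟩ : ↥C) ⟨b, hb⟩)
    exact Subtype.ext (by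
      show f a * f b = f b * f a
      rw [← map_mul, ← map_mul]
      exact congrArg f this)
  · rintro _ ⟨a, ha, rfl⟩
    rw [← map_pow, h.2 a ha, map_one]

theorem elab_subgroupOf {C H : Subgroup G} (h : Cfsg.IsElementaryAbelian 2 C) :
    Cfsg.IsElementaryAbelian 2 (C.subgroupOf H) := by
  refine ⟨⟨⟨?_⟩⟩, ?_⟩
  · rintro ⟨⟨a, _⟩, ha⟩ ⟨⟨b, _⟩, hb⟩
    have := congrArg Subtype.val (h.1.is_comm.comm (⟨a, ha⟩ : ↥C) ⟨b, hb⟩)
    exact Subtype.ext (Subtype.ext this)
  · rintro ⟨a, _⟩ ha
    exact Subtype.ext (h.2 a ha)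

theorem isPGroup_of_elab {C : Subgroup G} (h : Cfsg.IsElementaryAbelian 2 C) : IsPGroup 2 ↥C :=
  fun x => ⟨1, Subtype.ext (h.2 x x.2)⟩

theorem le_or_le [Finite G] {S : Subgroup G} {A B : Subgroup ↥S}
    (honly : ∀ C : Subgroup ↥S, Cfsg.IsElementaryAbelian 2 C →
      (∀ D : Subgroup ↥S, Cfsg.IsElementaryAbelian 2 D → C ≤ D → D = C) → C = A ∨ C = B)
    {C : Subgroup G} (hC : Cfsg.IsElementaryAbelian 2 C) (hCS : C ≤ S) :
    C ≤ A.map S.subtype ∨ C ≤ B.map S.subtype := by
  obtain ⟨M, hle, hmax⟩ := Finite.exists_le_maximal (p := fun D : Subgroup ↥S => Cfsg.IsElementaryAbelian 2 D)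
    (elab_subgroupOf (H := S) hC)
  have h1 : C ≤ M.map S.subtype := by
    rw [← Subgroup.map_subgroupOf_eq_of_le hCS]
    exact Subgroup.map_mono hle
  rcases honly M hmax.1 (fun D hD hMD => le_antisymm (hmax.2 hD hMD) hMD) with rfl | rfl
  · exact Or.inl h1
  · exact Or.inr h1

theorem closed_of_two [Finite G] (S : Sylow 2 G) (A B : Subgroup ↥(S : Subgroup G)) (hAB : A ≠ B)
    (hA : Cfsg.IsElementaryAbelian 2 A ∧ ∀ C : Subgroup ↥(S : Subgroup G), Cfsg.IsElementaryAbelian 2 C → A ≤ C → C = A)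
    (hB : Cfsg.IsElementaryAbelian 2 B ∧ ∀ C : Subgroup ↥(S : Subgroup G), Cfsg.IsElementaryAbelian 2 C → B ≤ C → C = B)
    (honly : ∀ C : Subgroup ↥(S : Subgroup G), Cfsg.IsElementaryAbelian 2 C →
      (∀ D : Subgroup ↥(S : Subgroup G), Cfsg.IsElementaryAbelian 2 D → C ≤ D → D = C) → C = A ∨ C = B)
    (hprod : ∀ s : ↥(S : Subgroup G), ∃ a ∈ A, ∃ b ∈ B, a * b = s) :
    Cfsg.IsWeaklyClosed (A.map (S : Subgroup G).subtype) (S : Subgroup G) := by
  have : Fact (Nat.Prime 2) := ⟨Nat.prime_two⟩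
  set A' := A.map (S : Subgroup G).subtype with hA'
  set B' := B.map (S : Subgroup G).subtype with hB'
  have hAS : A' ≤ (S : Subgroup G) := Subgroup.map_subtype_le _
  have hBS : B' ≤ (S : Subgroup G) := Subgroup.map_subtype_le _
  have hAe : Cfsg.IsElementaryAbelian 2 A' := elab_map _ hA.1
  have hBe : Cfsg.IsElementaryAbelian 2 B' := elab_map _ hB.1
  have hinj := Subgroup.map_injective (S : Subgroup G).subtype_injective
  have hAB' : ¬ A' ≤ B' := fun h => hAB
    (hA.2 B hB.1 ((Subgroup.map_le_map_iff_of_injective (S : Subgroup G).subtype_injective).1 h)).symm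
  have hBA' : ¬ B' ≤ A' := fun h => hAB
    (hB.2 A hA.1 ((Subgroup.map_le_map_iff_of_injective (S : Subgroup G).subtype_injective).1 h))
  -- inside `S`, a conjugate of `A'` is `A'` or `B'`, likewise for `B'`
  have step : ∀ (X : Subgroup G), (X = A' ∨ X = B') → ∀ s ∈ (S : Subgroup G),
      X.map (MulAut.conj s).toMonoidHom = A' ∨ X.map (MulAut.conj s).toMonoidHom = B' := by
    intro X hX s hs
    have hSs : (S : Subgroup G).map (MulAut.conj s).toMonoidHom = (S : Subgroup G) :=
      map_conj_eq_iff.2 (Subgroup.le_normalizer hs)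
    have hXS : X ≤ (S : Subgroup G) := by rcases hX with rfl | rfl <;> assumption
    have hXe : Cfsg.IsElementaryAbelian 2 X := by rcases hX with rfl | rfl <;> assumption
    have hSs' : (S : Subgroup G).map (MulAut.conj s⁻¹).toMonoidHom = (S : Subgroup G) :=
      map_conj_eq_iff.2 (Subgroup.inv_mem _ (Subgroup.le_normalizer hs))
    -- `X` is maximal elementary abelian
    have hmax : ∀ Y : Subgroup G, Cfsg.IsElementaryAbelian 2 Y → Y ≤ (S : Subgroup G) → X ≤ Y → Y = X := by
      intro Y hY hYS hXY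
      rcases le_or_le honly hY hYS with h | h <;> rcases hX with rfl | rfl
      · exact le_antisymm h hXY
      · exact absurd (hXY.trans h) hBA'
      · exact absurd (hXY.trans h) hAB'
      · exact le_antisymm h hXY
    have h1 : X.map (MulAut.conj s).toMonoidHom ≤ (S : Subgroup G) := hSs ▸ map_conj_mono s hXS
    rcases le_or_le honly (elab_map _ hXe) h1 with h | h
    · left
      have := hmax _ (elab_map (MulAut.conj s⁻¹).toMonoidHom hAe) (hSs' ▸ map_conj_mono s⁻¹ hAS)
        (by rw [← map_conj_inv_map_conj s X]; exact map_conj_mono _ h)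
      rw [← this, map_conj_map_conj_inv]
    · right
      have := hmax _ (elab_map (MulAut.conj s⁻¹).toMonoidHom hBe) (hSs' ▸ map_conj_mono s⁻¹ hBS)
        (by rw [← map_conj_inv_map_conj s X]; exact map_conj_mono _ h)
      rw [← this, map_conj_map_conj_inv]
  have hfix : ∀ s ∈ (S : Subgroup G), A'.map (MulAut.conj s).toMonoidHom = A' := by
    intro s hs
    obtain ⟨a, ha, b, hb, hab⟩ := hprod ⟨s, hs⟩
    have haA : (a : G) ∈ A' := ⟨a, ha, rfl⟩
    have hbB : (b : G) ∈ B' := ⟨b, hb, rfl⟩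
    have hs' : s = (a : G) * b := by
      have := congrArg Subtype.val hab
      simpa using this.symm
    have hbA : A'.map (MulAut.conj (b : G)).toMonoidHom = A' := by
      refine (step A' (Or.inl rfl) b (hBS hbB)).resolve_right fun h => hAB' (le_of_eq ?_)
      have h2 : B'.map (MulAut.conj (b : G)).toMonoidHom = B' := map_conj_eq_iff.2 (Subgroup.le_normalizer hbB)
      exact Subgroup.map_injective (MulAut.conj (b : G)).injective (h.trans h2.symm)
    rw [hs', map_conj_mul, hbA]
    exact map_conj_eq_iff.2 (Subgroup.le_normalizer haA)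
  refine ⟨hAS, fun g hg => ?_⟩
  rcases le_or_le honly (elab_map _ hAe) hg with h | h
  · exact Subgroup.eq_of_le_of_card_ge h (card_map_conj g A').ge
  exfalso
  -- `A'` is maximal elementary abelian in all of `G`
  have hSN : (S : Subgroup G) ≤ Subgroup.normalizer (A' : Set G) := fun s hs => map_conj_eq_iff.1 (hfix s hs)
  have hAB2 : A'.map (MulAut.conj g).toMonoidHom = B' := by
    set E := B'.map (MulAut.conj g⁻¹).toMonoidHom with hE
    have hAE : A' ≤ E := by rw [hE, ← map_conj_inv_map_conj g A']; exact map_conj_mono _ h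
    have hEe : Cfsg.IsElementaryAbelian 2 E := elab_map _ hBe
    have hEN : E ≤ Subgroup.normalizer (A' : Set G) := by
      intro e he
      refine map_conj_eq_iff.1 ?_
      ext x
      rw [mem_map_conj]
      have hc : ∀ y ∈ A', e * y = y * e := fun y hy =>
        congrArg Subtype.val (hEe.1.is_comm.comm (⟨e, he⟩ : ↥E) ⟨y, hAE hy⟩)
      constructor
      · intro hx
        have := hc _ hx
        have h3 : x * e = e * (e⁻¹ * x * e) := by simp [mul_assoc]
        rw [this] at h3
        rwa [← mul_right_cancel h3] at hx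
      · intro hx
        rwa [mul_assoc, ← hc x hx, inv_mul_cancel_left]
    obtain ⟨n, hn, hnle⟩ := exists_conj_le_of_sylow_in _ (S.subtype hSN) E (isPGroup_of_elab hEe) hEN
    rw [Sylow.coe_subtype, Subgroup.map_subgroupOf_eq_of_le hSN] at hnle
    have hA_n : A'.map (MulAut.conj n).toMonoidHom = A' := map_conj_eq_iff.2 hn
    have h4 : A' ≤ E.map (MulAut.conj n).toMonoidHom := hA_n ▸ map_conj_mono n hAE
    rcases le_or_le honly (elab_map _ hEe) hnle with h5 | h5
    · have h6 : E.map (MulAut.conj n).toMonoidHom = A'.map (MulAut.conj n).toMonoidHom :=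
        (le_antisymm h5 h4).trans hA_n.symm
      have h7 : E = A' := Subgroup.map_injective (MulAut.conj n).injective h6
      rw [← h7, hE, map_conj_map_conj_inv]
    · exact absurd (h4.trans h5) hAB'
  -- an element of `N(S)` carries `A'` to `B'`
  have hgS : (S : Subgroup G).map (MulAut.conj g).toMonoidHom ≤ Subgroup.normalizer (B' : Set G) := by
    intro x hx
    rw [mem_map_conj] at hx
    refine map_conj_eq_iff.1 ?_
    have : x = g * (g⁻¹ * x * g) * g⁻¹ := by simp [mul_assoc]
    rw [this, map_conj_mul, map_conj_mul, ← hAB2, map_conj_inv_map_conj, hfix _ hx]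
  have hBN : (S : Subgroup G) ≤ Subgroup.normalizer (B' : Set G) := fun s hs => by
    refine map_conj_eq_iff.1 ((step B' (Or.inr rfl) s hs).resolve_left fun h' => hBA' (le_of_eq ?_))
    exact Subgroup.map_injective (MulAut.conj s).injective (h'.trans (hfix s hs).symm)
  obtain ⟨k, hk, hkle⟩ := exists_conj_le_of_sylow_in _ (S.subtype hBN) _ (S.2.map _) hgS
  rw [Sylow.coe_subtype, Subgroup.map_subgroupOf_eq_of_le hBN, ← map_conj_mul] at hkle
  have hnS : (S : Subgroup G).map (MulAut.conj (k * g)).toMonoidHom = (S : Subgroup G) :=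
    Subgroup.eq_of_le_of_card_ge hkle (card_map_conj (k * g) (S : Subgroup G)).ge
  set n := k * g with hndef
  have hnA : A'.map (MulAut.conj n).toMonoidHom = B' := by
    rw [map_conj_mul, hAB2]; exact map_conj_eq_iff.2 hk
  have hnB : B'.map (MulAut.conj n).toMonoidHom = A' := by
    have h1 : B'.map (MulAut.conj n).toMonoidHom ≤ (S : Subgroup G) := hnS ▸ map_conj_mono n hBS
    rcases le_or_le honly (elab_map _ hBe) h1 with h2 | h2
    · refine Subgroup.eq_of_le_of_card_ge h2 ?_
      rw [card_map_conj, ← hAB2, card_map_conj]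
    · have := Subgroup.eq_of_le_of_card_ge h2 (card_map_conj n B').ge
      exact absurd (Subgroup.map_injective (MulAut.conj n).injective (hnA.trans this.symm)).le hAB'
  have hodd : ∀ m : ℕ, A'.map (MulAut.conj (n ^ (2 * m + 1))).toMonoidHom = B' := by
    intro m
    induction m with
    | zero => simpa using hnA
    | succ m ih =>
      rw [show 2 * (m + 1) + 1 = 2 + (2 * m + 1) by ring, pow_add, map_conj_mul, ih, pow_two, map_conj_mul,
        hnB, hnA]
  obtain ⟨a, m, hm, hord⟩ := Nat.exists_eq_pow_mul_and_not_dvd (orderOf_pos n).ne' 2 (by decide)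
  obtain ⟨m', rfl⟩ : ∃ m', m = 2 * m' + 1 := ⟨m / 2, by omega⟩
  have hz : IsPGroup 2 ↥(Subgroup.zpowers (n ^ (2 * m' + 1))) := by
    refine IsPGroup.of_card (n := a) ?_
    rw [Nat.card_zpowers, orderOf_pow' n (by omega), hord,
      Nat.gcd_eq_right (Dvd.intro_left _ rfl), Nat.mul_div_cancel _ (by omega)]
  have hzN : Subgroup.zpowers (n ^ (2 * m' + 1)) ≤ Subgroup.normalizer ((S : Subgroup G) : Set G) :=
    Subgroup.zpowers_le.2 (Subgroup.pow_mem _ (map_conj_eq_iff.1 hnS) _)
  have hnin : n ^ (2 * m' + 1) ∈ (S : Subgroup G) := by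
    have h2 := S.3 (hz.to_sup_of_normal_right' S.2 hzN) le_sup_right
    rw [← h2]
    exact Subgroup.mem_sup_left (Subgroup.mem_zpowers _)
  exact hAB' ((hfix _ hnin).symm.trans (hodd m')).le


/-- Let S be a Sylow 2-subgroup of a finite group G having exactly two subgroups A ≠ B that are maximal among its elementary abelian subgroups, with S = AB. Then A and B are each weakly closed in S with respect to G, and the normalizer of S normalizes both A and B. -/
theorem result {G : Type*} [Group G] [Finite G] (S : Sylow 2 G)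
    (A B : Subgroup ↥(S : Subgroup G)) (hAB : A ≠ B)
    (hA : Cfsg.IsElementaryAbelian 2 A ∧ ∀ C : Subgroup ↥(S : Subgroup G), Cfsg.IsElementaryAbelian 2 C → A ≤ C → C = A)
    (hB : Cfsg.IsElementaryAbelian 2 B ∧ ∀ C : Subgroup ↥(S : Subgroup G), Cfsg.IsElementaryAbelian 2 C → B ≤ C → C = B)
    (honly : ∀ C : Subgroup ↥(S : Subgroup G), Cfsg.IsElementaryAbelian 2 C →
      (∀ D : Subgroup ↥(S : Subgroup G), Cfsg.IsElementaryAbelian 2 D → C ≤ D → D = C) → C = A ∨ C = B)
    (hprod : ∀ s : ↥(S : Subgroup G), ∃ a ∈ A, ∃ b ∈ B, a * b = s)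
    (A' B' : Subgroup G) (hA' : A' = A.map (S : Subgroup G).subtype) (hB' : B' = B.map (S : Subgroup G).subtype) :
    Cfsg.IsWeaklyClosed A' (S : Subgroup G) ∧ Cfsg.IsWeaklyClosed B' (S : Subgroup G) ∧
      Subgroup.normalizer ((S : Subgroup G) : Set G) ≤ Subgroup.normalizer (A' : Set G) ⊓ Subgroup.normalizer (B' : Set G) := by
  haveI : Fact (Nat.Prime 2) := ⟨Nat.prime_two⟩
  subst hA' hB'
  have h1 := closed_of_two S A B hAB hA hB honly hprod
  have hprod' : ∀ s : ↥(S : Subgroup G), ∃ b ∈ B, ∃ a ∈ A, b * a = s := by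
    intro s
    obtain ⟨a, ha, b, hb, hab⟩ := hprod s⁻¹
    exact ⟨b⁻¹, B.inv_mem hb, a⁻¹, A.inv_mem ha, by rw [← mul_inv_rev, hab, inv_inv]⟩
  have h2 := closed_of_two S B A hAB.symm hB hA (fun C h h' => (honly C h h').symm) hprod'
  refine ⟨h1, h2, fun x hx => ?_⟩
  have hxS := map_conj_eq_iff.2 hx
  exact ⟨map_conj_eq_iff.1 (h1.2 x (le_trans (map_conj_mono x h1.1) hxS.le)),
    map_conj_eq_iff.1 (h2.2 x (le_trans (map_conj_mono x h2.1) hxS.le))⟩

end Cfsg.Agent.S3203
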