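import Cfsg.Statements.S3206
import Cfsg.Agent.Lib.InvChar.EightSylowMultiplier
import Cfsg.Agent.S4593

set_option autoImplicit false
open Cfsg

namespace Cfsg.Agent.S3206

/-- Let G be a non-abelian finite simple group with abelian Sylow 2-subgroups, and let t be an involution of G whose centralizer is a maximal subgroup of G and is the direct product of the subgroup generated by t with a subgroup E having a normal subgroup isomorphic to PSL(2, q), q odd and greater than 3, with trivial centralizer in E. Then every finite perfect group having a central 2-subgroup with quotient isomorphic to G has that central subgroup trivial (G has no nontrivial perfect central extension by a 2-group), and every automorphism of G of 2-power order that fixes every element of some Sylow 2-subgroup of G is inner. -/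
theorem result {G : Type*} [Group G] [Finite G] [IsSimpleGroup G]
    (hG : ¬ IsMulCommutative G) (hab : ∀ S : Sylow 2 G, IsMulCommutative ↥(S : Subgroup G))
    (t : G) (ht : orderOf t = 2) (hmax : IsCoatom (Subgroup.centralizer ({t} : Set G)))
    (E : Subgroup G) (hE : Cfsg.IsInternalDirectProduct (Subgroup.zpowers t) E (Subgroup.centralizer ({t} : Set G)))
    {F : Type*} [Field F] [Fintype F] (hFo : Odd (Fintype.card F)) (hF3 : 3 < Fintype.card F)
    (N : Subgroup ↥E) [N.Normal] (hN : Nonempty (↥N ≃* Matrix.ProjectiveSpecialLinearGroup (Fin 2) F))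
    (hNc : Subgroup.centralizer (N : Set ↥E) = ⊥) :
    (∀ (L : Type) (_ : Group L) (_ : Finite L) (Z : Subgroup L) (_ : Z.Normal), commutator L = ⊤ → Z ≤ Subgroup.center L →
        IsPGroup 2 ↥Z → Nonempty (L ⧸ Z ≃* G) → Z = ⊥) ∧
    (∀ (φ : G ≃* G) (k : ℕ), φ ^ (2 ^ k) = 1 → (∃ S : Sylow 2 G, ∀ s ∈ (S : Subgroup G), φ s = s) →
        ∃ g : G, ∀ x : G, φ x = g * x * g⁻¹) := by
  classical
  have : Fact (Nat.Prime 2) := ⟨Nat.prime_two⟩
  set C := Subgroup.centralizer ({t} : Set G) with hCdef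
  obtain ⟨htC, hEC, hcomm, hdisj, hsup⟩ := hE
  have ht2 : t * t = 1 := by rw [← pow_two, ← ht, pow_orderOf_eq_one]
  have ht1 : t ≠ 1 := fun h => by rw [h, orderOf_one] at ht; omega
  obtain ⟨S, hS⟩ := (IsPGroup.of_card (p := 2) (n := 1) (G := Subgroup.zpowers t)
    (by rw [Nat.card_zpowers, ht, pow_one])).exists_le_sylow
  have htS : t ∈ (S : Subgroup G) := hS (Subgroup.mem_zpowers t)
  have hSab := hab S
  have hSC : (S : Subgroup G) ≤ C := fun s hs =>
    Subgroup.mem_centralizer_singleton_iff.mpr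
      (congrArg Subtype.val (hSab.is_comm.comm (⟨s, hs⟩ : (S : Subgroup G)) ⟨t, htS⟩))
  let f : ↥(Subgroup.zpowers t) × ↥E →* G := MonoidHom.noncommCoprod (Subgroup.zpowers t).subtype E.subtype
    fun a b => hcomm a.1 a.2 b.1 b.2
  have hfa : ∀ a b, f (a, b) = a.1 * b.1 := fun _ _ => rfl
  have hfr : f.range = C := by
    exact (MonoidHom.noncommCoprod_range (Subgroup.zpowers t).subtype E.subtype _).trans
      (by rw [Subgroup.range_subtype, Subgroup.range_subtype, hsup])
  have hfi : Function.Injective f := by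
    rw [injective_iff_map_eq_one]
    rintro ⟨a, b⟩ hab1
    have h1 : a.1 * b.1 = 1 := hab1
    have hmem : a.1 ∈ Subgroup.zpowers t ⊓ E :=
      ⟨a.2, by rw [eq_inv_of_mul_eq_one_left h1]; exact E.inv_mem b.2⟩
    rw [hdisj, Subgroup.mem_bot] at hmem
    rw [hmem, one_mul] at h1
    exact Prod.ext (Subtype.ext hmem) (Subtype.ext h1)
  have hzp : ∀ a ∈ Subgroup.zpowers t, a = 1 ∨ a = t := by
    intro a ha
    obtain ⟨k, rfl⟩ := Subgroup.mem_zpowers_iff.mp ha
    have hz : t ^ (2 : ℤ) = 1 := by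
      rw [show (2 : ℤ) = ((2 : ℕ) : ℤ) from rfl, zpow_natCast, pow_two, ht2]
    rcases Int.even_or_odd' k with ⟨j, rfl | rfl⟩
    · left; rw [zpow_mul, hz, one_zpow]
    · right; rw [zpow_add, zpow_mul, hz, one_zpow, one_mul, zpow_one]
  let SE : Subgroup E := (S : Subgroup G).subgroupOf E
  -- `|S| = 2 |SE|`
  have hScard : Nat.card (S : Subgroup G) = 2 * Nat.card SE := by
    have e1 : ↥(Subgroup.zpowers t) × ↥SE ≃ ↥(S : Subgroup G) := by
      refine Equiv.ofBijective (fun p => ⟨f (p.1, p.2.1), (S : Subgroup G).mul_mem (hS p.1.2) p.2.2⟩) ⟨?_, ?_⟩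
      · intro p q h
        have h' := hfi (congrArg Subtype.val h)
        exact Prod.ext (congrArg Prod.fst h' :) (Subtype.ext (congrArg Prod.snd h' :))
      · rintro ⟨s, hs⟩
        have hsC : s ∈ f.range := hfr.symm ▸ hSC hs
        obtain ⟨⟨a, b⟩, rfl⟩ := hsC
        have hb : b.1 ∈ (S : Subgroup G) := by
          have := (S : Subgroup G).mul_mem ((S : Subgroup G).inv_mem (hS a.2)) hs
          rwa [hfa, inv_mul_cancel_left] at this
        exact ⟨(a, ⟨b, hb⟩), rfl⟩
    rw [← Nat.card_congr e1, Nat.card_prod, Nat.card_zpowers, ht]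
  have hCcard : Nat.card C = 2 * Nat.card E := by
    rw [← hfr, ← Nat.card_congr (MonoidHom.ofInjective hfi).toEquiv, Nat.card_prod, Nat.card_zpowers, ht]
  have hSEodd : ¬ 2 ∣ SE.index := by
    intro hd
    have h1 := Subgroup.card_mul_index ((S : Subgroup G).subgroupOf C)
    change _ * (S : Subgroup G).relIndex C = _ at h1
    rw [Nat.card_congr (Subgroup.subgroupOfEquivOfLe hSC).toEquiv, hScard, hCcard, mul_assoc] at h1
    have h2 := Nat.eq_of_mul_eq_mul_left (by norm_num) h1
    rw [← SE.card_mul_index] at h2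
    have h3 := Nat.eq_of_mul_eq_mul_left Nat.card_pos h2
    rw [← h3] at hd
    exact S.not_dvd_index (hd.trans (Subgroup.relIndex_dvd_index_of_le hSC))
  have hSEp : IsPGroup 2 SE := S.isPGroup'.comap_subtype
  have hSEab : ∀ a ∈ SE, ∀ b ∈ SE, a * b = b * a := fun a ha b hb => Subtype.ext
    (congrArg Subtype.val (hSab.is_comm.comm (⟨a.1, ha⟩ : (S : Subgroup G)) ⟨b.1, hb⟩) :)
  let SN : Subgroup N := SE.subgroupOf N
  have hSNodd : ¬ 2 ∣ SN.index := by
    intro hd
    refine hSEodd (hd.trans ?_)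
    show SE.relIndex N ∣ SE.index
    have h1 : SE.relIndex N ∣ SE.relIndex (N ⊔ SE) := by
      have h2 := Subgroup.card_mul_index (N.subgroupOf SE)
      change _ * N.relIndex SE = _ at h2
      have h3 := Subgroup.card_mul_index (N.subgroupOf (N ⊔ SE))
      change _ * N.relIndex (N ⊔ SE) = _ at h3
      have h4 := Subgroup.card_mul_index (SE.subgroupOf N)
      change _ * SE.relIndex N = _ at h4
      have h5 := Subgroup.card_mul_index (SE.subgroupOf (N ⊔ SE))
      change _ * SE.relIndex (N ⊔ SE) = _ at h5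
      rw [Nat.card_congr (Subgroup.subgroupOfEquivOfLe (le_sup_left : N ≤ N ⊔ SE)).toEquiv,
        Subgroup.relIndex_sup_left] at h3
      rw [Nat.card_congr (Subgroup.subgroupOfEquivOfLe (le_sup_right : SE ≤ N ⊔ SE)).toEquiv] at h5
      rw [← Subgroup.inf_subgroupOf_left,
        Nat.card_congr (Subgroup.subgroupOfEquivOfLe inf_le_left).toEquiv] at h2 h4
      rw [inf_comm SE N] at h2
      refine dvd_of_eq (Nat.eq_of_mul_eq_mul_left (Nat.card_pos (α := SE)) ?_)
      rw [h5, ← h3, ← h2, ← h4]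
      ring
    exact h1.trans (Subgroup.relIndex_dvd_index_of_le le_sup_right)
  have hSNp : IsPGroup 2 SN := hSEp.comap_subtype
  obtain ⟨eN⟩ := hN
  let PN : Sylow 2 N := hSNp.toSylow hSNodd
  have hPNab : IsMulCommutative (PN : Subgroup N) :=
    ⟨⟨fun a b => Subtype.ext (Subtype.ext (hSEab _ a.2 _ b.2))⟩⟩
  let P2 := PN.mapSurjective (f := eN.toMonoidHom) eN.surjective
  have hP2 : IsMulCommutative (P2 : Subgroup (Matrix.ProjectiveSpecialLinearGroup (Fin 2) F)) := by
    refine ⟨⟨?_⟩⟩
    rintro ⟨_, a, ha, rfl⟩ ⟨_, b, hb, rfl⟩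
    apply Subtype.ext
    show eN a * eN b = eN b * eN a
    rw [← map_mul, ← map_mul, Subtype.ext (hSEab _ ha _ hb) (a1 := a * b) (a2 := b * a)]
  have hK := CfsgLib.InvChar.EightSylow.klein_psl_sylow hFo P2 hP2
  have eP : ↥(PN : Subgroup N) ≃* ↥(P2 : Subgroup (Matrix.ProjectiveSpecialLinearGroup (Fin 2) F)) :=
    (PN : Subgroup N).equivMapOfInjective eN.toMonoidHom eN.injective
  have hP4 : Nat.card (PN : Subgroup N) = 4 := (Nat.card_congr eP.toEquiv).trans hK.card_four
  have hPsq : ∀ a : ↥(PN : Subgroup N), a * a = 1 := fun a => eP.injective (by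
    rw [map_mul, map_one]; exact IsKleinFour.mul_self (eP a))
  have hNsimple : IsSimpleGroup N := by
    have := Matrix.ProjectiveSpecialLinearGroup.rank_two_simple (F := F)
      (by rw [Nat.card_eq_fintype_card]; omega)
    exact eN.isSimpleGroup_congr.mpr this
  have hNcen : Subgroup.center N = ⊥ := by
    refine (inferInstance : (Subgroup.center N).Normal).eq_bot_or_eq_top.resolve_right fun h => ?_
    obtain ⟨x, hx⟩ := exists_prime_orderOf_dvd_card' (G := N) 2
      (dvd_trans (by rw [hP4]; norm_num : 2 ∣ Nat.card (PN : Subgroup N))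
        (PN : Subgroup N).card_subgroup_dvd_card)
    have hn : (Subgroup.zpowers x).Normal := ⟨fun y hy g => by
      rw [Subgroup.mem_center_iff.mp (h ▸ Subgroup.mem_top y) g, mul_inv_cancel_right]; exact hy⟩
    rcases hn.eq_bot_or_eq_top with hb | hb
    · rw [Subgroup.zpowers_eq_bot] at hb
      rw [hb, orderOf_one] at hx
      omega
    · have h1 := Subgroup.card_le_of_le (le_top : (PN : Subgroup N) ≤ ⊤)
      rw [← hb, Nat.card_zpowers, hx, hP4] at h1
      omega
  have hNcore : Cfsg.pPrimeCore 2 N = ⊥ := by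
    refine (inferInstance : (Cfsg.pPrimeCore 2 N).Normal).eq_bot_or_eq_top.resolve_right fun h => ?_
    have hc := CfsgLib.PCore.pPrimeCore_coprime (p := 2) (G := N)
    rw [h, Subgroup.card_top, Nat.coprime_two_right] at hc
    have h2 : 2 ∣ Nat.card N :=
      dvd_trans (by rw [hP4]; norm_num : 2 ∣ Nat.card (PN : Subgroup N))
        (PN : Subgroup N).card_subgroup_dvd_card
    exact (Nat.not_even_iff_odd.mpr hc) (even_iff_two_dvd.mpr h2)
  have hSEN : SE ≤ N := by
    intro s hs
    let α : MulAut N := MulAut.conjNormal s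
    have hα : ∀ x : N, (α x).1 = s * x.1 * s⁻¹ := fun x => MulAut.conjNormal_apply s x
    have hord : ∃ j : ℕ, orderOf α = 2 ^ j := by
      obtain ⟨k, hk⟩ := hSEp ⟨s, hs⟩
      obtain ⟨j, -, hj⟩ := (Nat.dvd_prime_pow Nat.prime_two).mp (orderOf_dvd_of_pow_eq_one
        (show (MulAut.conjNormal s : MulAut N) ^ (2 ^ k) = 1 by
          rw [← map_pow, show s ^ 2 ^ k = 1 from congrArg Subtype.val hk, map_one]))
      exact ⟨j, hj⟩
    obtain ⟨n, hn⟩ := Cfsg.Agent.S4593.result hNcen hNcore PN hPNab α hord fun x hx => Subtype.ext (by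
      rw [hα, hSEab s hs x.1 hx, mul_inv_cancel_right])
    have hmem : n.1⁻¹ * s ∈ Subgroup.centralizer (N : Set E) := by
      rw [Subgroup.mem_centralizer_iff]
      intro x hx
      have h1 : s * x * s⁻¹ = n.1 * x * n.1⁻¹ := (hα ⟨x, hx⟩).symm.trans (congrArg Subtype.val (hn ⟨x, hx⟩))
      have h2 := congrArg (fun y => n.1⁻¹ * y * s) h1
      simpa [mul_assoc] using h2.symm
    rw [hNc, Subgroup.mem_bot] at hmem
    rw [← inv_mul_eq_one.mp hmem]
    exact n.2
  have hSEeq : Nat.card SE = 4 := by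
    rw [← hP4]
    exact (Nat.card_congr (Subgroup.subgroupOfEquivOfLe hSEN).toEquiv).symm
  have h8 : Nat.card (S : Subgroup G) = 8 := by rw [hScard, hSEeq]
  have hexp : ∀ s ∈ (S : Subgroup G), s * s = 1 := by
    intro s hs
    have hsC : s ∈ f.range := hfr.symm ▸ hSC hs
    obtain ⟨⟨a, b⟩, rfl⟩ := hsC
    have hb : b ∈ SE := by
      show b.1 ∈ (S : Subgroup G)
      have := (S : Subgroup G).mul_mem ((S : Subgroup G).inv_mem (hS a.2)) hs
      rwa [hfa, inv_mul_cancel_left] at this
    have hb2 : b * b = 1 := congrArg (fun x : ↥(PN : Subgroup N) => x.1.1)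
      (hPsq ⟨⟨b, hSEN hb⟩, hb⟩)
    rw [← map_mul, Prod.mk_mul_mk, hb2]
    rcases hzp a.1 a.2 with h | h
    · rw [show a = 1 from Subtype.ext h, one_mul, Prod.mk_one_one, map_one]
    · rw [show a * a = 1 from Subtype.ext (by show a.1 * a.1 = 1; rw [h, ht2]), Prod.mk_one_one, map_one]
  refine ⟨fun L _ _ Z _ hperf hZc hZ ⟨e⟩ =>
    CfsgLib.InvChar.EightSylow.extension_trivial hG S h8 hexp Z hperf hZc hZ e, ?_⟩
  rintro φ k hk ⟨S', hS'⟩
  have hZ : Subgroup.center G = ⊥ :=
    (inferInstance : (Subgroup.center G).Normal).eq_bot_or_eq_top.resolve_right fun h =>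
      hG ⟨⟨fun a b => Subgroup.mem_center_iff.mp (h ▸ Subgroup.mem_top b) a⟩⟩
  have hcore : Cfsg.pPrimeCore 2 G = ⊥ := by
    refine (inferInstance : (Cfsg.pPrimeCore 2 G).Normal).eq_bot_or_eq_top.resolve_right fun h => ?_
    have hc := CfsgLib.PCore.pPrimeCore_coprime (p := 2) (G := G)
    rw [h, Subgroup.card_top, Nat.coprime_two_right] at hc
    exact (Nat.not_even_iff_odd.mpr hc) (even_iff_two_dvd.mpr (ht ▸ orderOf_dvd_natCard t))
  obtain ⟨j, -, hj⟩ := (Nat.dvd_prime_pow Nat.prime_two).mp (orderOf_dvd_of_pow_eq_one hk)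
  exact Cfsg.Agent.S4593.result hZ hcore S' (hab S') φ ⟨j, hj⟩ hS'

end Cfsg.Agent.S3206
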