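import Cfsg.Statements.S3208
import Cfsg.Agent.Lib.InvChar.Conj

set_option autoImplicit false
open Cfsg

namespace Cfsg.Agent.S3208

open CfsgLib.InvChar


/-- Let j be an involution of a finite group G, H a subgroup of G, and T a Sylow 2-subgroup of H ∩ C_G(j) containing j such that ⟨j⟩ is a characteristic subgroup of T. Then T is a Sylow 2-subgroup of H. -/
theorem result {G : Type*} [Group G] [Finite G]
    (j : G) (hj : orderOf j = 2) (H T : Subgroup G) (hT : T ≤ H ⊓ Subgroup.centralizer ({j} : Set G)) (h2 : IsPGroup 2 ↥T)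
    (hSyl : ¬ 2 ∣ T.relIndex (H ⊓ Subgroup.centralizer ({j} : Set G))) (hjT : j ∈ T)
    (hchar : ((Subgroup.zpowers j).subgroupOf T).Characteristic) :
    ¬ 2 ∣ T.relIndex H := by
  haveI : Fact (Nat.Prime 2) := ⟨Nat.prime_two⟩
  have hTH : T ≤ H := hT.trans inf_le_left
  obtain ⟨Q0, hQ0⟩ := (h2.comap_subtype (K := H)).exists_le_sylow
  have hTQ : T ≤ (Q0 : Subgroup ↥H).map H.subtype := fun a ha => ⟨⟨a, hTH ha⟩, hQ0 ha, rfl⟩
  rcases eq_or_lt_of_le hTQ with he | hlt
  · have hne := Q0.not_dvd_index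
    rw [show T.relIndex H = (Q0 : Subgroup ↥H).index by
      rw [he, Subgroup.relIndex, Subgroup.subgroupOf,
        Subgroup.comap_map_eq_self_of_injective H.subtype_injective]]
    exact hne
  exfalso
  have hQ : IsPGroup 2 ↥((Q0 : Subgroup ↥H).map H.subtype) := Q0.2.map H.subtype
  obtain ⟨x, hx, hxT⟩ := SetLike.exists_of_lt (lt_normalizer_inf_of_lt hQ hlt)
  obtain ⟨hxQ, hxN⟩ := Subgroup.mem_inf.1 hx
  have hxH : x ∈ H := by
    obtain ⟨a, -, rfl⟩ := hxQ
    exact a.2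
  have hxN' := map_conj_eq_iff.2 hxN
  -- conjugation by `x` restricts to an automorphism of `T`
  have hxC : x ∈ Subgroup.centralizer ({j} : Set G) := by
    let φ : ↥T ≃* ↥T := ((MulAut.conj x).subgroupMap T).trans (MulEquiv.subgroupCongr hxN')
    have hφ := hchar.fixed φ
    have hjm : (⟨j, hjT⟩ : ↥T) ∈ (Subgroup.zpowers j).subgroupOf T := Subgroup.mem_zpowers j
    have h5 : φ ⟨j, hjT⟩ ∈ (Subgroup.zpowers j).subgroupOf T := by
      rw [← hφ] at hjm
      exact hjm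
    have h6 : x * j * x⁻¹ ∈ Subgroup.zpowers j := h5
    have hne : x * j * x⁻¹ ≠ 1 := by
      intro h
      rw [conj_eq_one_iff] at h
      simp [h] at hj
    have h7 : x * j * x⁻¹ = j := by
      exact (eq_one_or_eq_of_mem_zpowers hj h6).resolve_left hne
    rw [Subgroup.mem_centralizer_singleton_iff]
    exact (mul_inv_eq_iff_eq_mul.1 h7)
  -- so the 2-group generated by `T` and `x` lies in `H ⊓ C(j)`
  have hQ' : (T ⊔ Subgroup.zpowers x) ≤ (Q0 : Subgroup ↥H).map H.subtype :=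
    sup_le hTQ (Subgroup.zpowers_le.2 hxQ)
  have hK : T ⊔ Subgroup.zpowers x ≤ H ⊓ Subgroup.centralizer ({j} : Set G) :=
    sup_le hT (Subgroup.zpowers_le.2 ⟨hxH, hxC⟩)
  have hmul := Subgroup.relIndex_mul_relIndex _ _ _ (le_sup_left : T ≤ T ⊔ Subgroup.zpowers x) hK
  obtain ⟨n, hn⟩ := (hQ.to_le hQ').index (T.subgroupOf (T ⊔ Subgroup.zpowers x))
  change T.relIndex (T ⊔ Subgroup.zpowers x) = 2 ^ n at hn
  rcases Nat.eq_zero_or_pos n with rfl | hnpos
  · exact hxT (Subgroup.relIndex_eq_one.1 hn (Subgroup.mem_sup_right (Subgroup.mem_zpowers x)))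
  · exact hSyl (hmul ▸ (hn ▸ dvd_pow_self 2 hnpos.ne').mul_right _)

end Cfsg.Agent.S3208
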