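import Cfsg.Statements.S3209
import Cfsg.Agent.Lib.InvChar.SLTwo
import Cfsg.Agent.Lib.InvChar.Conj

set_option autoImplicit false
open Cfsg

namespace Cfsg.Agent.S3209

open CfsgLib.InvChar


/-- Let L₁ ≅ SL₂(q₁) and L₂ ≅ SL₂(q₂), q₁ and q₂ odd, be elementwise-commuting subgroups of a finite group meeting in ⟨j⟩ for an involution j. Then L₁L₂ has exactly two conjugacy classes of involutions: the central involution j, and one further class (there is an involution x ≠ j in L₁L₂, and every involution of L₁L₂ other than j is conjugate to x by an element of L₁L₂). -/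
theorem result {G : Type*} [Group G] [Finite G]
    {F₁ : Type*} [Field F₁] [Fintype F₁] {F₂ : Type*} [Field F₂] [Fintype F₂]
    (hF₁ : Odd (Fintype.card F₁)) (hF₂ : Odd (Fintype.card F₂)) (L₁ L₂ : Subgroup G)
    (e₁ : ↥L₁ ≃* Matrix.SpecialLinearGroup (Fin 2) F₁) (e₂ : ↥L₂ ≃* Matrix.SpecialLinearGroup (Fin 2) F₂)
    (hc : ∀ x ∈ L₁, ∀ y ∈ L₂, x * y = y * x) (j : G) (hj : orderOf j = 2) (hm : L₁ ⊓ L₂ = Subgroup.zpowers j) :
    ∃ x ∈ L₁ ⊔ L₂, orderOf x = 2 ∧ x ≠ j ∧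
      ∀ y ∈ L₁ ⊔ L₂, orderOf y = 2 → y = j ∨ ∃ g ∈ L₁ ⊔ L₂, g * x * g⁻¹ = y := by
  have hjj : j * j = 1 := by rw [← pow_two, ← hj]; exact pow_orderOf_eq_one j
  have hj1 : j ≠ 1 := by rintro rfl; simp at hj
  have hjm : j ∈ L₁ ⊓ L₂ := hm ▸ Subgroup.mem_zpowers j
  have h1 := IsSL2Like.of_mulEquiv hF₁ e₁ hjm.1 hj1 hjj
  have h2 := IsSL2Like.of_mulEquiv hF₂ e₂ hjm.2 hj1 hjj
  obtain ⟨a, ha, haa⟩ := h1.sqrt
  obtain ⟨b, hb, hbb⟩ := h2.sqrt
  have hab : (a * b) * (a * b) = 1 := by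
    calc (a * b) * (a * b) = a * (b * a) * b := by simp [mul_assoc]
      _ = a * a * (b * b) := by rw [← hc a ha b hb]; simp [mul_assoc]
      _ = 1 := by rw [haa, hbb, hjj]
  have hsmall : ∀ z, z ∈ L₁ → z ∈ L₂ → z * z ≠ j := by
    intro z hz1 hz2 hzz
    have : z ∈ Subgroup.zpowers j := hm ▸ Subgroup.mem_inf.2 ⟨hz1, hz2⟩
    rcases CfsgLib.InvChar.eq_one_or_eq_of_mem_zpowers hj this with rfl | rfl
    · exact hj1 (by rw [← hzz, one_mul])
    · exact hj1 (hzz.symm.trans hjj)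
  have hab1 : a * b ≠ 1 := fun h =>
    hsmall a ha (by rw [mul_eq_one_iff_eq_inv.1 h]; exact L₂.inv_mem hb) haa
  have habj : a * b ≠ j := fun h =>
    hsmall a ha (by rw [← mul_inv_eq_iff_eq_mul.2 h.symm]; exact L₂.mul_mem hjm.2 (L₂.inv_mem hb)) haa
  refine ⟨a * b, Subgroup.mul_mem_sup ha hb, orderOf_eq_prime (by rw [pow_two]; exact hab) hab1, habj, ?_⟩
  intro y hy hyo
  obtain ⟨u, hu, v, hv, rfl⟩ := mem_sup_of_commute hc hy
  have hy1 : u * v ≠ 1 := fun h => by rw [h, orderOf_one] at hyo; exact absurd hyo (by norm_num)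
  have hyy : (u * v) * (u * v) = 1 := by rw [← pow_two, ← hyo]; exact pow_orderOf_eq_one _
  have huv : u * u * (v * v) = 1 := by
    rw [← hyy]
    calc u * u * (v * v) = u * (u * v) * v := by simp [mul_assoc]
      _ = u * (v * u) * v := by rw [hc u hu v hv]
      _ = _ := by simp [mul_assoc]
  have huuz : u * u ∈ Subgroup.zpowers j := by
    rw [← hm]
    exact ⟨L₁.mul_mem hu hu, by rw [mul_eq_one_iff_eq_inv.1 huv]; exact L₂.inv_mem (L₂.mul_mem hv hv)⟩
  rcases CfsgLib.InvChar.eq_one_or_eq_of_mem_zpowers hj huuz with huu | huu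
  · left
    have hvv : v * v = 1 := by rwa [huu, one_mul] at huv
    rcases h1.inv_eq u hu huu with rfl | rfl <;> rcases h2.inv_eq v hv hvv with rfl | rfl <;>
      simp_all
  · right
    have hvv : v * v = j := by
      rw [huu] at huv
      rw [eq_inv_of_mul_eq_one_right huv, inv_eq_of_mul_eq_one_right hjj]
    obtain ⟨g, hg, hga⟩ := h1.conj a ha u hu haa huu
    obtain ⟨k, hk, hkb⟩ := h2.conj b hb v hv hbb hvv
    refine ⟨g * k, Subgroup.mul_mem_sup hg hk, ?_⟩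
    calc g * k * (a * b) * (g * k)⁻¹ = g * (k * a) * b * (k⁻¹ * g⁻¹) := by simp [mul_assoc]
      _ = g * (a * k) * b * (k⁻¹ * g⁻¹) := by rw [hc a ha k hk]
      _ = g * a * (k * b * k⁻¹ * g⁻¹) := by simp [mul_assoc]
      _ = g * a * (v * g⁻¹) := by rw [hkb]
      _ = g * a * (g⁻¹ * v) := by rw [hc g⁻¹ (L₁.inv_mem hg) v hv]
      _ = u * v := by rw [← mul_assoc, hga]

end Cfsg.Agent.S3209
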