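import Cfsg.Statements.S3210
import Cfsg.Agent.Lib.InvChar.SLTwo
import Cfsg.Agent.Lib.InvChar.Conj

set_option autoImplicit false
open Cfsg

namespace Cfsg.Agent.S3210

open CfsgLib.InvChar

variable {G : Type*} [Group G]

theorem conj_le_or_le {L₁ L₂ L : Subgroup G} {j n : G} (h1 : IsSL2Like L₁ j) (h2 : IsSL2Like L₂ j)
    (hL : IsSL2Like L j) (hc : ∀ x ∈ L₁, ∀ y ∈ L₂, x * y = y * x) (hnj : n * j = j * n)
    (hm : ∀ x, x ∈ L₁ → x ∈ L₂ → x = 1 ∨ x = j) (hLY : L ≤ L₁ ⊔ L₂)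
    (hnY : ∀ y ∈ L₁ ⊔ L₂, n * y * n⁻¹ ∈ L₁ ⊔ L₂ ∧ n⁻¹ * y * n ∈ L₁ ⊔ L₂)
    (hLn : ∀ y ∈ L₁ ⊔ L₂, ∀ l ∈ L, y * l * y⁻¹ ∈ L) :
    L.map (MulAut.conj n).toMonoidHom ≤ L₁ ∨ L.map (MulAut.conj n).toMonoidHom ≤ L₂ := by
  set M := L.map (MulAut.conj n).toMonoidHom with hM
  have hMY : M ≤ L₁ ⊔ L₂ := by
    rintro _ ⟨l, hl, rfl⟩
    exact (hnY l (hLY hl)).1
  have hjM : j ∈ M := ⟨j, hL.jmem, by simp [hnj]⟩
  have hMn : ∀ y ∈ L₁ ⊔ L₂, ∀ m ∈ M, y * m * y⁻¹ ∈ M := by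
    rintro y hy _ ⟨l, hl, rfl⟩
    refine ⟨_, hLn _ (hnY y hy).2 l hl, ?_⟩
    simp [mul_assoc]
  -- one of the intersections is small
  have hside : (∀ x, x ∈ M → x ∈ L₁ → x = 1 ∨ x = j) ∨ (∀ x, x ∈ M → x ∈ L₂ → x = 1 ∨ x = j) := by
    by_contra h
    push Not at h
    obtain ⟨⟨x₁, hx₁M, hx₁, hx₁1, hx₁j⟩, x₂, hx₂M, hx₂, hx₂1, hx₂j⟩ := h
    apply absurd (h2.conj_central x₂ hx₂ ?_) (by simp [hx₂1, hx₂j])
    intro t ht
    have hty : t * x₂ * t⁻¹ ∈ M := hMn t (Subgroup.mem_sup_right ht) x₂ hx₂M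
    have htL : t * x₂ * t⁻¹ ∈ L₂ := L₂.mul_mem (L₂.mul_mem ht hx₂) (L₂.inv_mem ht)
    obtain ⟨a, ha, hax⟩ := hx₁M
    obtain ⟨g, hg, hgx⟩ := hx₂M
    obtain ⟨k, hk, hkx⟩ := hty
    let f := (MulAut.conj n).toMonoidHom
    have hf : Function.Injective f := (MulAut.conj n).injective
    have ha1 : a ≠ 1 := fun h => hx₁1 (by rw [← hax, h, map_one])
    have haj : a ≠ j := fun h => hx₁j (by rw [← hax, h]; simp [hnj])
    have hag : Commute a g := hf (by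
      show f (a * g) = f (g * a)
      rw [map_mul, map_mul, show f a = x₁ from hax, show f g = x₂ from hgx]; exact hc _ hx₁ _ hx₂)
    have hak : Commute a k := hf (by
      show f (a * k) = f (k * a)
      rw [map_mul, map_mul, show f a = x₁ from hax, show f k = t * x₂ * t⁻¹ from hkx]; exact hc _ hx₁ _ htL)
    have := (hL.cent a ha ha1 haj g hg k hk hag hak).map f
    rwa [show f g = x₂ from hgx, show f k = t * x₂ * t⁻¹ from hkx] at this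
  rcases hside with h | h
  · -- `M ≤ L₂`
    right
    intro m hm'
    obtain ⟨u, hu, v, hv, rfl⟩ := mem_sup_of_commute hc (hMY hm')
    have hu' : u = 1 ∨ u = j := by
      refine h1.mod_central u hu fun t ht => ?_
      have h3 : (u * v) * t * (u * v)⁻¹ * t⁻¹ = u * t * u⁻¹ * t⁻¹ := by
        calc (u * v) * t * (u * v)⁻¹ * t⁻¹ = u * (v * t * v⁻¹) * (u⁻¹ * t⁻¹) := by simp [mul_assoc]
          _ = _ := by rw [← hc t ht v hv, mul_inv_cancel_right]; simp [mul_assoc]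
      refine h _ ?_ (L₁.mul_mem (L₁.mul_mem (L₁.mul_mem hu ht) (L₁.inv_mem hu)) (L₁.inv_mem ht))
      rw [← h3]
      have h4 := M.mul_mem hm' (hMn t (Subgroup.mem_sup_left ht) _ (M.inv_mem hm'))
      simpa [mul_assoc] using h4
    rcases hu' with rfl | rfl
    · simpa using hv
    · exact L₂.mul_mem h2.jmem hv
  · left
    intro m hm'
    obtain ⟨u, hu, v, hv, rfl⟩ := mem_sup_of_commute hc (hMY hm')
    have hv' : v = 1 ∨ v = j := by
      refine h2.mod_central v hv fun t ht => ?_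
      have h3 : (u * v) * t * (u * v)⁻¹ * t⁻¹ = v * t * v⁻¹ * t⁻¹ := by
        have hcu : u * (v * t * v⁻¹) * u⁻¹ = v * t * v⁻¹ := by
          rw [hc u hu _ (L₂.mul_mem (L₂.mul_mem hv ht) (L₂.inv_mem hv)), mul_inv_cancel_right]
        calc (u * v) * t * (u * v)⁻¹ * t⁻¹ = u * (v * t * v⁻¹) * u⁻¹ * t⁻¹ := by simp [mul_assoc]
          _ = _ := by rw [hcu]
      refine h _ ?_ (L₂.mul_mem (L₂.mul_mem (L₂.mul_mem hv ht) (L₂.inv_mem hv)) (L₂.inv_mem ht))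
      rw [← h3]
      have h4 := M.mul_mem hm' (hMn t (Subgroup.mem_sup_right ht) _ (M.inv_mem hm'))
      simpa [mul_assoc] using h4
    rcases hv' with rfl | rfl
    · simpa using hu
    · exact L₁.mul_mem hu h1.jmem


/-- Let G be a finite group with subgroups L₁ ≅ SL₂(q₁) and L₂ ≅ SL₂(q₂), q₁ and q₂ odd prime powers, which commute elementwise and meet in ⟨j⟩ for an involution j, and suppose L₁L₂ has index 2 in C_G(j). Then every element n of C_G(j) outside L₁L₂ either normalizes both L₁ and L₂, or conjugates L₁ onto L₂; in the second case q₁ = q₂ and there is an element n′ of C_G(j) outside L₁L₂ conjugating L₁ onto L₂ with n′² ∈ ⟨j⟩. -/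
theorem result {G : Type*} [Group G] [Finite G]
    {F₁ : Type*} [Field F₁] [Fintype F₁] {F₂ : Type*} [Field F₂] [Fintype F₂]
    (hF₁ : Odd (Fintype.card F₁)) (hF₂ : Odd (Fintype.card F₂)) (L₁ L₂ : Subgroup G)
    (e₁ : ↥L₁ ≃* Matrix.SpecialLinearGroup (Fin 2) F₁) (e₂ : ↥L₂ ≃* Matrix.SpecialLinearGroup (Fin 2) F₂)
    (hc : ∀ x ∈ L₁, ∀ y ∈ L₂, x * y = y * x) (j : G) (hj : orderOf j = 2) (hm : L₁ ⊓ L₂ = Subgroup.zpowers j)
    (hle : L₁ ⊔ L₂ ≤ Subgroup.centralizer ({j} : Set G)) (hi : (L₁ ⊔ L₂).relIndex (Subgroup.centralizer ({j} : Set G)) = 2) (n : G) (hn : n ∈ Subgroup.centralizer ({j} : Set G)) (hn' : n ∉ L₁ ⊔ L₂) :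
    (L₁.map (MulAut.conj n).toMonoidHom = L₁ ∧ L₂.map (MulAut.conj n).toMonoidHom = L₂) ∨
      (L₁.map (MulAut.conj n).toMonoidHom = L₂ ∧ Fintype.card F₁ = Fintype.card F₂ ∧
        ∃ n' ∈ Subgroup.centralizer ({j} : Set G), n' ∉ L₁ ⊔ L₂ ∧ L₁.map (MulAut.conj n').toMonoidHom = L₂ ∧ n' ^ 2 ∈ Subgroup.zpowers j) := by
  have hjj : j * j = 1 := by rw [← pow_two, ← hj]; exact pow_orderOf_eq_one j
  have hj1 : j ≠ 1 := by rintro rfl; simp at hj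
  have hjm : j ∈ L₁ ⊓ L₂ := hm ▸ Subgroup.mem_zpowers j
  have hm' : ∀ x, x ∈ L₁ → x ∈ L₂ → x = 1 ∨ x = j := fun x hx hx' =>
    eq_one_or_eq_of_mem_zpowers hj (hm ▸ Subgroup.mem_inf.2 ⟨hx, hx'⟩)
  have h1 := IsSL2Like.of_mulEquiv hF₁ e₁ hjm.1 hj1 hjj
  have h2 := IsSL2Like.of_mulEquiv hF₂ e₂ hjm.2 hj1 hjj
  set C := Subgroup.centralizer ({j} : Set G) with hC
  set Y := L₁ ⊔ L₂ with hY
  have hnj : n * j = j * n := Subgroup.mem_centralizer_singleton_iff.1 hn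
  have hnorm : (Y.subgroupOf C).Normal := Subgroup.normal_of_index_eq_two hi
  have hnY : ∀ y ∈ Y, n * y * n⁻¹ ∈ Y ∧ n⁻¹ * y * n ∈ Y := by
    intro y hy
    refine ⟨?_, ?_⟩
    · simpa [Subgroup.mem_subgroupOf] using hnorm.conj_mem ⟨y, hle hy⟩ hy ⟨n, hn⟩
    · simpa [Subgroup.mem_subgroupOf, mul_assoc] using hnorm.conj_mem ⟨y, hle hy⟩ hy ⟨n⁻¹, C.inv_mem hn⟩
  have hn₁ : ∀ y ∈ Y, ∀ l ∈ L₁, y * l * y⁻¹ ∈ L₁ := by
    intro y hy l hl
    obtain ⟨u, hu, v, hv, rfl⟩ := mem_sup_of_commute hc hy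
    have : u * v * l * (u * v)⁻¹ = u * l * u⁻¹ := by
      calc u * v * l * (u * v)⁻¹ = u * (v * l) * v⁻¹ * u⁻¹ := by simp [mul_assoc]
        _ = _ := by rw [← hc l hl v hv]; simp [mul_assoc]
    rw [this]
    exact L₁.mul_mem (L₁.mul_mem hu hl) (L₁.inv_mem hu)
  have hn₂ : ∀ y ∈ Y, ∀ l ∈ L₂, y * l * y⁻¹ ∈ L₂ := by
    intro y hy l hl
    obtain ⟨u, hu, v, hv, rfl⟩ := mem_sup_of_commute hc hy
    have hvl : v * l * v⁻¹ ∈ L₂ := L₂.mul_mem (L₂.mul_mem hv hl) (L₂.inv_mem hv)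
    have : u * v * l * (u * v)⁻¹ = v * l * v⁻¹ := by
      calc u * v * l * (u * v)⁻¹ = u * (v * l * v⁻¹) * u⁻¹ := by simp [mul_assoc]
        _ = _ := by rw [hc u hu _ hvl]; simp [mul_assoc]
    rwa [this]
  set f := (MulAut.conj n).toMonoidHom with hf
  have hd1 := conj_le_or_le h1 h2 h1 hc hnj hm' le_sup_left hnY hn₁
  have hd2 := conj_le_or_le h1 h2 h2 hc hnj hm' le_sup_right hnY hn₂
  have hYY : L₁.map f ⊔ L₂.map f = Y := by
    rw [← Subgroup.map_sup]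
    refine le_antisymm ?_ fun y hy => ⟨n⁻¹ * y * n, (hnY y hy).2, by simp [hf, mul_assoc]⟩
    rintro _ ⟨y, hy, rfl⟩
    exact (hnY y hy).1
  have hnot1 : ¬ L₂ ≤ L₁ := fun h => by
    obtain ⟨b, hb, hbb⟩ := h2.sqrt
    rcases hm' b (h hb) hb with rfl | rfl
    · exact hj1 (by rw [← hbb, one_mul])
    · exact hj1 (hbb.symm.trans hjj)
  have hnot2 : ¬ L₁ ≤ L₂ := fun h => by
    obtain ⟨b, hb, hbb⟩ := h1.sqrt
    rcases hm' b hb (h hb) with rfl | rfl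
    · exact hj1 (by rw [← hbb, one_mul])
    · exact hj1 (hbb.symm.trans hjj)
  have hcard : ∀ L : Subgroup G, Nat.card ↥(L.map f) = Nat.card ↥L := fun L => card_map_conj n L
  rcases hd1 with ha | ha
  · left
    refine ⟨Subgroup.eq_of_le_of_card_ge ha (hcard L₁).ge, ?_⟩
    rcases hd2 with hb | hb
    · exact absurd (le_sup_right.trans (hYY.symm.le.trans (sup_le ha hb))) hnot1
    · exact Subgroup.eq_of_le_of_card_ge hb (hcard L₂).ge
  · rcases hd2 with hb | hb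
    swap
    · exact absurd (le_sup_left.trans (hYY.symm.le.trans (sup_le ha hb))) hnot2
    have hc1 : Nat.card ↥L₁ ≤ Nat.card ↥L₂ := hcard L₁ ▸ Subgroup.card_le_of_le ha
    have hc2 : Nat.card ↥L₂ ≤ Nat.card ↥L₁ := hcard L₂ ▸ Subgroup.card_le_of_le hb
    have hswap : L₁.map f = L₂ := Subgroup.eq_of_le_of_card_ge ha (by rw [hcard]; exact hc2)
    right
    refine ⟨hswap, card_eq_of_natCard_slTwo_eq ?_, ?_⟩
    · rw [← Nat.card_congr e₁.toEquiv, ← Nat.card_congr e₂.toEquiv]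
      exact le_antisymm hc1 hc2
    have hn2 : n * n ∈ Y := by
      have := Subgroup.mul_self_mem_of_index_two (H := Y.subgroupOf C) hi ⟨n, hn⟩
      exact this
    obtain ⟨a, ha', b, hb', hab⟩ := mem_sup_of_commute hc hn2
    have hnA : n * a * n⁻¹ ∈ L₂ := ha ⟨a, ha', rfl⟩
    have hnB : n * b * n⁻¹ ∈ L₁ := hb ⟨b, hb', rfl⟩
    have hfix : n * a * n⁻¹ * (n * b * n⁻¹) = a * b := by
      calc n * a * n⁻¹ * (n * b * n⁻¹) = n * (a * b) * n⁻¹ := by simp [mul_assoc]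
        _ = a * b := by rw [hab]; simp [mul_assoc]
    have hz : (n * a * n⁻¹)⁻¹ * b ∈ Subgroup.zpowers j := by
      rw [← hm]
      refine ⟨?_, L₂.mul_mem (L₂.inv_mem hnA) hb'⟩
      have e : (n * a * n⁻¹)⁻¹ * b = a⁻¹ * (n * b * n⁻¹) := by
        rw [inv_mul_eq_iff_eq_mul, ← mul_assoc, ← hc a⁻¹ (L₁.inv_mem ha') _ hnA, mul_assoc, hfix,
          inv_mul_cancel_left]
      rw [e]
      exact L₁.mul_mem (L₁.inv_mem ha') hnB
    refine ⟨a⁻¹ * n, C.mul_mem (hle (Subgroup.mem_sup_left (L₁.inv_mem ha'))) hn, ?_, ?_, ?_⟩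
    · intro h
      exact hn' (by simpa using Y.mul_mem (Subgroup.mem_sup_left ha') h)
    · rw [map_conj_mul]
      show (L₁.map f).map _ = L₂
      rw [hswap]
      refine map_conj_eq_iff.2 ?_
      refine Subgroup.centralizer_le_normalizer _ ?_
      intro y hy
      exact (hc a⁻¹ (L₁.inv_mem ha') y hy).symm
    · have e : (a⁻¹ * n) ^ 2 = (n * a * n⁻¹)⁻¹ * b := by
        calc (a⁻¹ * n) ^ 2 = a⁻¹ * (n * a * n⁻¹)⁻¹ * (n * n) := by simp [pow_two, mul_assoc]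
          _ = (n * a * n⁻¹)⁻¹ * (a⁻¹ * (n * n)) := by
              rw [hc a⁻¹ (L₁.inv_mem ha') _ (L₂.inv_mem hnA), mul_assoc]
          _ = _ := by rw [← hab, inv_mul_cancel_left]
      rw [e]
      exact hz

end Cfsg.Agent.S3210
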