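import Cfsg.Statements.S3211
import Cfsg.Agent.Lib.InvChar.SwappedSLTwo
import Cfsg.Agent.Lib.PCore.Basic

set_option autoImplicit false
open Cfsg

namespace Cfsg.Agent.S3211

/-- Let G be a finite group with subgroups L₁ ≅ SL₂(q₁) and L₂ ≅ SL₂(q₂), q₁ and q₂ odd prime powers, which commute elementwise and meet in ⟨j⟩ for an involution j, and suppose L₁L₂ has index 2 in C_G(j). If some n ∈ C_G(j) with n² = j interchanges L₁ and L₂ under conjugation (so that C_G(j) = L₁L₂⟨n⟩), then G = C_G(j)O(G). -/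
theorem result {G : Type*} [Group G] [Finite G]
    {F₁ : Type*} [Field F₁] [Fintype F₁] {F₂ : Type*} [Field F₂] [Fintype F₂]
    (hF₁ : Odd (Fintype.card F₁)) (hF₂ : Odd (Fintype.card F₂)) (L₁ L₂ : Subgroup G)
    (e₁ : ↥L₁ ≃* Matrix.SpecialLinearGroup (Fin 2) F₁) (e₂ : ↥L₂ ≃* Matrix.SpecialLinearGroup (Fin 2) F₂)
    (hc : ∀ x ∈ L₁, ∀ y ∈ L₂, x * y = y * x) (j : G) (hj : orderOf j = 2) (hm : L₁ ⊓ L₂ = Subgroup.zpowers j)
    (hle : L₁ ⊔ L₂ ≤ Subgroup.centralizer ({j} : Set G)) (hi : (L₁ ⊔ L₂).relIndex (Subgroup.centralizer ({j} : Set G)) = 2) (n : G) (hn : n ∈ Subgroup.centralizer ({j} : Set G))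
    (hn2 : n ^ 2 = j) (hswap : L₁.map (MulAut.conj n).toMonoidHom = L₂) :
    Subgroup.centralizer ({j} : Set G) ⊔ Cfsg.oddCore G = ⊤ := by
  have hjj : j * j = 1 := by rw [← pow_two, ← hj, pow_orderOf_eq_one]
  have hj1 : j ≠ 1 := by intro h; rw [h, orderOf_one] at hj; omega
  have hj₁ : j ∈ L₁ := (hm.ge (Subgroup.mem_zpowers j)).1
  have hj₂ : j ∈ L₂ := (hm.ge (Subgroup.mem_zpowers j)).2
  have hm' : ∀ a ∈ L₁, a ∈ L₂ → a = 1 ∨ a = j := by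
    intro a h1 h2
    have h : a ∈ Subgroup.zpowers j := hm.le ⟨h1, h2⟩
    obtain ⟨k, rfl⟩ := Subgroup.mem_zpowers_iff.mp h
    rw [← zpow_mod_orderOf, hj]
    rcases Int.emod_two_eq_zero_or_one k with h0 | h0 <;> simp [h0]
  have hnn : n * n = j := by rw [← pow_two, hn2]
  set C := Subgroup.centralizer ({j} : Set G) with hC
  have hidx : ((L₁ ⊔ L₂).subgroupOf C).index = 2 := hi
  have hnormal := Subgroup.normal_of_index_eq_two hidx
  have hnY : n ∉ L₁ ⊔ L₂ := by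
    intro hY
    obtain ⟨a, ha, b, hb, hab⟩ := CfsgLib.InvChar.mem_sup_of_commute hc hY
    have hL : L₁ ≤ L₂ := by
      intro x hx
      rw [← hswap]
      refine ⟨a⁻¹ * x * a, L₁.mul_mem (L₁.mul_mem (L₁.inv_mem ha) hx) ha, ?_⟩
      show n * (a⁻¹ * x * a) * n⁻¹ = x
      calc n * (a⁻¹ * x * a) * n⁻¹ = a * (b * (a⁻¹ * x * a)) * b⁻¹ * a⁻¹ := by rw [← hab]; group
        _ = a * ((a⁻¹ * x * a) * b) * b⁻¹ * a⁻¹ := by
          rw [hc _ (L₁.mul_mem (L₁.mul_mem (L₁.inv_mem ha) hx) ha) b hb]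
        _ = x := by group
    obtain ⟨x, hx, hxx⟩ := (CfsgLib.InvChar.SwappedSLTwo.IsSL2.of_mulEquiv hF₁ e₁ hj₁ hj1 hjj).sqrt
    rcases hm' x hx (hL hx) with rfl | rfl
    · exact hj1 (by rw [← hxx, one_mul])
    · exact hj1 (hxx.symm.trans hjj)
  have hin : ∀ u ∈ C, u * u = 1 → u ∈ L₁ ⊔ L₂ := by
    intro u hu huu
    by_contra huY
    have h1 : (⟨n, hn⟩⁻¹ * ⟨u, hu⟩ : C) ∈ (L₁ ⊔ L₂).subgroupOf C := by
      rw [Subgroup.mul_mem_iff_of_index_two hidx, Subgroup.inv_mem_iff,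
        Subgroup.mem_subgroupOf, Subgroup.mem_subgroupOf]
      exact iff_of_false hnY huY
    obtain ⟨a, ha, b, hb, hab⟩ := CfsgLib.InvChar.mem_sup_of_commute hc h1
    exact CfsgLib.InvChar.SwappedSLTwo.involution_mem hjj hj1 hc hm' hj₁ hle hnn hswap
      ⟨a, ha, b, hb, by rw [hab]; simp⟩ huu
  have hiso := CfsgLib.InvChar.SwappedSLTwo.isolated hj
    (CfsgLib.InvChar.SwappedSLTwo.IsSL2.of_mulEquiv hF₁ e₁ hj₁ hj1 hjj)
    (CfsgLib.InvChar.SwappedSLTwo.IsSL2.of_mulEquiv hF₂ e₂ hj₂ hj1 hjj) hc hm' hle hin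
    fun h hh a ha => hnormal.conj_mem ⟨a, hle ha⟩ ha ⟨h, hh⟩
  rw [eq_top_iff]
  intro g _
  have h1 : g * j * g⁻¹ * j⁻¹ ∈ Cfsg.pPrimeCore 2 G := CfsgLib.Involutions.zstar G j hiso g
  rw [inv_eq_of_mul_eq_one_right hjj] at h1
  obtain ⟨c, hc1, hc2⟩ := CfsgLib.Involutions.Isolated.quotient_centralizer hiso _ h1
  have hc3 : g⁻¹ * c ∈ Cfsg.oddCore G := hc2
  have := Subgroup.mul_mem_sup (Subgroup.mem_centralizer_singleton_iff.mpr hc1.eq : c ∈ C)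
    ((Cfsg.oddCore G).inv_mem hc3)
  simpa using this

end Cfsg.Agent.S3211
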