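import Cfsg.Statements.S3213
import Mathlib.LinearAlgebra.Matrix.SpecialLinearGroup
import Mathlib.LinearAlgebra.SymplecticGroup
import Mathlib.LinearAlgebra.Determinant
import Mathlib.GroupTheory.Perm.Cycle.Type
import Mathlib.FieldTheory.Finite.Basic
import Mathlib.Tactic.LinearCombination
import Mathlib.LinearAlgebra.FiniteDimensional.Lemmas

set_option autoImplicit false
open Cfsg

namespace Cfsg.Agent.S3213

open Matrix

variable {K : Type*} [Field K] [Fintype K]

theorem five_facts (hK : Fintype.card K = 5) : (5 : K) = 0 ∧ (2 : K) ≠ 0 ∧ (3 : K) ≠ 0 ∧ ∀ a : K, a ≠ 0 → a ^ 4 = 1 := by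
  have h5 : (5 : K) = 0 := by
    have := Nat.cast_card_eq_zero K
    rw [hK] at this
    exact_mod_cast this
  refine ⟨h5, fun h => one_ne_zero (α := K) (by linear_combination h5 - 2 * h),
    fun h => one_ne_zero (α := K) (by linear_combination 2 * h - h5), fun a ha => ?_⟩
  have := FiniteField.pow_card_sub_one_eq_one a ha
  rwa [hK] at this

theorem exists_inverting (hK : Fintype.card K = 5) (x : Matrix.SpecialLinearGroup (Fin 2) K)
    (hx : orderOf x = 3) :
    ∃ y : Matrix.SpecialLinearGroup (Fin 2) K, y * y = -1 ∧ y * x * y⁻¹ = x⁻¹ := by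
  obtain ⟨h5, h2, h3, h4⟩ := five_facts hK
  set A : Matrix (Fin 2) (Fin 2) K := (x : Matrix (Fin 2) (Fin 2) K) with hAdef
  have hA : A.det = 1 := x.2
  set a := A 0 0 with ha
  set b := A 0 1 with hb
  set c := A 1 0 with hc
  set d := A 1 1 with hd
  have hdet : a * d - b * c = 1 := by rw [ha, hb, hc, hd, ← det_fin_two]; exact hA
  have hb0 : b ≠ 0 := by
    intro h0
    rw [h0] at hdet
    have ha0 : a ≠ 0 := by intro h; rw [h] at hdet; simp at hdet
    have hpow : A * A * A = 1 := by
      have := pow_orderOf_eq_one x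
      rw [hx] at this
      have := congrArg (fun g : Matrix.SpecialLinearGroup (Fin 2) K => (g : Matrix (Fin 2) (Fin 2) K)) this
      simpa [pow_succ, hAdef] using this
    have h00 := congrFun (congrFun hpow 0) 0
    have h11 := congrFun (congrFun hpow 1) 1
    simp [Matrix.mul_apply, Fin.sum_univ_two, ← ha, ← hb, ← hc, ← hd, h0] at h00 h11
    have ha1 : a = 1 := by linear_combination h4 a ha0 - a * h00
    rw [ha1] at hdet
    have hd1 : d = 1 := by linear_combination hdet
    have h10 := congrFun (congrFun hpow 1) 0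
    simp [Matrix.mul_apply, Fin.sum_univ_two, ← ha, ← hb, ← hc, ← hd, h0, ha1, hd1] at h10
    have hc0 : c = 0 := by
      have : (3 : K) * c = 0 := by linear_combination h10
      exact (mul_eq_zero.1 this).resolve_left h3
    have : x = 1 := by
      refine Subtype.ext ?_
      show A = 1
      ext i j
      fin_cases i <;> fin_cases j <;> simp [← ha, ← hb, ← hc, ← hd, h0, ha1, hd1, hc0]
    rw [this, orderOf_one] at hx
    exact absurd hx (by norm_num)
  set r : K := -2 * (a - d) / b with hr
  have hrb : r * b = -2 * (a - d) := by rw [hr]; exact div_mul_cancel₀ _ hb0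
  let y : Matrix.SpecialLinearGroup (Fin 2) K :=
    ⟨!![2, 0; r, -2], by rw [det_fin_two_of]; linear_combination -h5⟩
  refine ⟨y, ?_, ?_⟩
  · refine Subtype.ext ?_
    show (!![2, 0; r, -2] : Matrix (Fin 2) (Fin 2) K) * !![2, 0; r, -2] = -(1 : Matrix (Fin 2) (Fin 2) K)
    rw [Matrix.mul_fin_two, Matrix.one_fin_two, Matrix.neg_of]
    ext i j
    fin_cases i <;> fin_cases j <;> simp <;> first | linear_combination h5 | linear_combination -h5 | ring
  · rw [mul_inv_eq_iff_eq_mul, eq_inv_mul_iff_mul_eq]
    refine Subtype.ext ?_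
    show A * ((!![2, 0; r, -2] : Matrix (Fin 2) (Fin 2) K) * A) = !![2, 0; r, -2]
    rw [Matrix.eta_fin_two A, ← ha, ← hb, ← hc, ← hd, Matrix.mul_fin_two, Matrix.mul_fin_two]
    ext i j
    fin_cases i <;> fin_cases j <;> simp
    · linear_combination a * hrb + 2 * hdet
    · linear_combination b * hrb
    · linear_combination c * hrb + r * hdet
    · linear_combination d * hrb - 2 * hdet

/-- An endomorphism of order dividing five fixes every invariant subspace of `F₃⁴` of dimension `< 4`. -/
theorem fixes_small {F V : Type*} [Field F] [Fintype F] (hF : Fintype.card F = 3) [AddCommGroup V] [Module F V]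
    [FiniteDimensional F V] (hk : Module.finrank F V ≤ 3) (g : V →ₗ[F] V) (hg : g ^ 5 = 1) (v : V) : g v = v := by
  classical
  have : Finite V := Module.finite_of_finite F
  haveI : Fintype V := Fintype.ofFinite V
  haveI : Fact (Nat.Prime 5) := ⟨by decide⟩
  have happ : ∀ v, g (g (g (g (g v)))) = v := fun v => by simpa [pow_succ] using LinearMap.congr_fun hg v
  let σ : Equiv.Perm V := ⟨g, fun v => g (g (g (g v))), happ, happ⟩
  have hmod := Equiv.Perm.card_fixedPoints_modEq (p := 5) (n := 1) (f := (⇑σ : Function.End V)) (by funext v; exact happ v)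
  have hcong : Fintype.card V ≡ Nat.card ↥(LinearMap.ker (g - LinearMap.id)) [MOD 5] := by
    refine hmod.trans ?_
    rw [← Nat.card_eq_fintype_card]
    rw [show ∀ a b : ℕ, a = b → (a ≡ b [MOD 5]) = True from fun a b h => by subst h; simp [Nat.ModEq.refl]]
    · trivial
    refine Nat.card_congr (Equiv.subtypeEquivRight fun v => ?_)
    simp [LinearMap.mem_ker, sub_eq_zero, Function.IsFixedPt, σ]
  rw [Module.natCard_eq_pow_finrank (K := F), Nat.card_eq_fintype_card, hF,
    Module.card_eq_pow_finrank (K := F), hF] at hcong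
  have hle : Module.finrank F ↥(LinearMap.ker (g - LinearMap.id)) ≤ Module.finrank F V := Submodule.finrank_le _
  have heq : Module.finrank F ↥(LinearMap.ker (g - LinearMap.id)) = Module.finrank F V := by
    generalize Module.finrank F ↥(LinearMap.ker (g - LinearMap.id)) = f at *
    generalize Module.finrank F V = k at *
    interval_cases k <;> interval_cases f <;> simp_all [Nat.ModEq]
  have htop := Submodule.eq_top_of_finrank_eq heq
  have : v ∈ LinearMap.ker (g - LinearMap.id) := htop ▸ Submodule.mem_top
  simpa [sub_eq_zero] using this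


/-- Let F be the field with 3 elements and K the field with 5 elements. For every injective homomorphism φ from SL₂(K) into the symplectic group Sp₄(F) (4 × 4 matrices g with g J gᵀ = J for the standard alternating matrix J) and every element x of order 3 of SL₂(K), the vectors of F⁴ fixed by φ(x) form a 2-dimensional subspace that is totally isotropic for the alternating form defined by J. -/
theorem result {F : Type*} [Field F] [Fintype F] (hF : Fintype.card F = 3)
    {K : Type*} [Field K] [Fintype K] (hK : Fintype.card K = 5)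
    (φ : Matrix.SpecialLinearGroup (Fin 2) K →* ↥(Matrix.symplecticGroup (Fin 2) F)) (hφ : Function.Injective φ)
    (x : Matrix.SpecialLinearGroup (Fin 2) K) (hx : orderOf x = 3) :
    Module.finrank F ↥(LinearMap.ker (Matrix.toLin' ((φ x : Matrix (Fin 2 ⊕ Fin 2) (Fin 2 ⊕ Fin 2) F)) - LinearMap.id)) = 2 ∧
      ∀ v w : Fin 2 ⊕ Fin 2 → F, (φ x : Matrix (Fin 2 ⊕ Fin 2) (Fin 2 ⊕ Fin 2) F).mulVec v = v →
        (φ x : Matrix (Fin 2 ⊕ Fin 2) (Fin 2 ⊕ Fin 2) F).mulVec w = w →
          dotProduct v ((Matrix.J (Fin 2) F).mulVec w) = 0 := by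
  classical
  obtain ⟨h5, h2K, h3K, h4K⟩ := five_facts hK
  have h3 : (3 : F) = 0 := by
    have := Nat.cast_card_eq_zero F
    rw [hF] at this
    exact_mod_cast this
  have h2 : (2 : F) ≠ 0 := fun h => one_ne_zero (α := F) (by linear_combination h3 - h)
  let ι := Fin 2 ⊕ Fin 2
  let ψ : Matrix.SpecialLinearGroup (Fin 2) K →* Module.End F (ι → F) :=
    { toFun := fun g => Matrix.toLin' (φ g : Matrix ι ι F)
      map_one' := by simp [Module.End.one_eq_id, ι]
      map_mul' := fun g h => by
        rw [map_mul]
        exact Matrix.toLin'_mul _ _ }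
  have hψ : Function.Injective ψ := fun g h e => hφ (Subtype.ext (Matrix.toLin'.injective e))
  set z := ψ (-1) with hz
  have hzz : z * z = 1 := by
    rw [hz, ← map_mul, show (-1 : Matrix.SpecialLinearGroup (Fin 2) K) * -1 = 1 by simp, map_one]
  -- the central involution maps to `-1`
  have hzneg : ∀ v, z v = -v := by
    have hinv : ∀ v, z (z v) = v := fun v => LinearMap.congr_fun hzz v
    have hV : Module.finrank F (ι → F) = 4 := by rw [Module.finrank_fintype_fun_eq_card]; rfl
    by_contra hne
    push Not at hne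
    obtain ⟨v₀, hv₀⟩ := hne
    let W (s : F) : Submodule F (ι → F) := LinearMap.ker (z - s • LinearMap.id)
    have hW : ∀ s v, v ∈ W s ↔ z v = s • v := fun s v => by simp [W, sub_eq_zero]
    have hsplit : ∀ v, v + z v ∈ W 1 ∧ v - z v ∈ W (-1) := fun v =>
      ⟨by rw [hW]; simp [map_add, hinv, add_comm], by rw [hW]; simp [map_sub, hinv]⟩
    have hWne : W (-1) ≠ ⊤ := fun h => hv₀ (by
      have : v₀ ∈ W (-1) := h ▸ Submodule.mem_top
      rw [hW] at this; simpa using this)
    have hWne' : W 1 ≠ ⊤ := fun h => by
      have h1 : z = 1 := LinearMap.ext fun v => by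
        have : v ∈ W 1 := h ▸ Submodule.mem_top
        rw [hW] at this; simpa using this
      have h2' : (-1 : Matrix.SpecialLinearGroup (Fin 2) K) = 1 := hψ (by rw [← hz, h1, map_one])
      have := congrFun (congrFun (congrArg Subtype.val h2') 0) 0
      simp at this
      exact h2K (by linear_combination -this)
    -- an element of order five
    let u : Matrix.SpecialLinearGroup (Fin 2) K := ⟨!![1, 1; 0, 1], by simp [det_fin_two_of]⟩
    have hu5 : u ^ 5 = 1 := by
      refine Subtype.ext ?_
      rw [SpecialLinearGroup.coe_pow]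
      show (!![1, 1; 0, 1] : Matrix (Fin 2) (Fin 2) K) ^ 5 = 1
      ext i j
      fin_cases i <;> fin_cases j <;> simp [pow_succ, Matrix.mul_apply, Fin.sum_univ_two]
      linear_combination h5
    have hu1 : u ≠ 1 := fun h => by
      have := congrFun (congrFun (congrArg Subtype.val h) 0) 1
      simp [u] at this
    have hfix : ∀ s, W s ≠ ⊤ → ∀ v ∈ W s, ψ u v = v := by
      intro s hs v hv
      have hmaps : Set.MapsTo (ψ u) (W s : Set (ι → F)) (W s) := by
        intro w hw
        rw [SetLike.mem_coe, hW] at hw ⊢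
        have hc : z * ψ u = ψ u * z := by rw [hz, ← map_mul, ← map_mul]; simp
        calc z (ψ u w) = ψ u (z w) := LinearMap.congr_fun hc w
          _ = s • ψ u w := by rw [hw, map_smul]
      let g : W s →ₗ[F] W s := (ψ u).restrict hmaps
      have hg : g ^ 5 = 1 := by
        refine LinearMap.ext fun w => Subtype.ext ?_
        have h1 : (ψ u ^ 5) (w : ι → F) = w := by rw [← map_pow, hu5, map_one]; rfl
        simp only [pow_succ, pow_zero, one_mul, Module.End.mul_apply] at h1 ⊢
        exact h1
      have hk : Module.finrank F (W s) ≤ 3 := by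
        have := Submodule.finrank_lt hs
        rw [hV] at this; omega
      exact congrArg Subtype.val (fixes_small hF hk g hg ⟨v, hv⟩)
    refine hu1 (hψ ?_)
    rw [map_one]
    refine LinearMap.ext fun v => ?_
    have e : v = (2 : F)⁻¹ • ((v + z v) + (v - z v)) := by
      rw [add_add_sub_cancel, ← two_smul F v, smul_smul, inv_mul_cancel₀ h2, one_smul]
    rw [e, map_smul, map_add, hfix 1 hWne' _ (hsplit v).1, hfix _ hWne _ (hsplit v).2]
    rfl
  -- the fixed space
  obtain ⟨y, hyy, hyx⟩ := exists_inverting hK x hx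
  set M := ψ x with hM
  have hM3 : ∀ v, M (M (M v)) = v := fun v => by
    have h1 : ψ x ^ 3 = 1 := by rw [← map_pow, ← hx, pow_orderOf_eq_one, map_one]
    have := LinearMap.congr_fun h1 v
    simpa [pow_succ] using this
  set W := LinearMap.ker (Matrix.toLin' ((φ x : Matrix (Fin 2 ⊕ Fin 2) (Fin 2 ⊕ Fin 2) F)) - LinearMap.id) with hWdef
  have hWmem : ∀ v, v ∈ W ↔ M v = v := fun v => by
    rw [hWdef]; exact LinearMap.mem_ker.trans sub_eq_zero
  have hxne : ∃ v, M v ≠ v := by
    by_contra h
    push Not at h
    have : x = 1 := hψ (by rw [map_one]; exact LinearMap.ext h)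
    rw [this, orderOf_one] at hx
    exact absurd hx (by norm_num)
  -- one of `N u`, `N (N u)` is a nonzero fixed vector
  have hN3 : ∀ u, M (M (M u - u) - (M u - u)) = M (M u - u) - (M u - u) := by
    intro u
    simp only [map_sub, hM3]
    have h3' : (3 : F) • (M u - M (M u)) = 0 := by rw [h3, zero_smul]
    have h4' : (3 : F) • (M u - M (M u)) = (u - M (M u) - (M (M u) - M u)) - (M (M u) - M u - (M u - u)) := by
      module
    exact sub_eq_zero.1 (h4'.symm.trans h3')
  have hdim2 : Module.finrank F W = 2 := by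
    set Y := ψ y with hY
    have hYY : ∀ v, Y (Y v) = -v := fun v => by
      have h1 : Y * Y = z := by rw [hY, hz, ← map_mul, hyy]
      rw [← hzneg v, ← h1]; rfl
    have hMY : ∀ v, M (Y v) = Y (M (M v)) := fun v => by
      have h1 : x * y = y * (x * x) := by
        have hxx : x * x = x⁻¹ := eq_inv_of_mul_eq_one_left (by
          have := pow_orderOf_eq_one x
          rwa [hx, pow_succ, pow_two] at this)
        rw [hxx, eq_mul_inv_iff_mul_eq, mul_assoc, mul_inv_eq_iff_eq_mul.1 hyx, mul_inv_cancel_left]
      exact LinearMap.congr_fun (show ψ x * ψ y = ψ y * (ψ x * ψ x) by rw [← map_mul, ← map_mul, ← map_mul, h1]) v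
    have hmaps : Set.MapsTo Y (W : Set (ι → F)) W := by
      intro v hv
      rw [SetLike.mem_coe, hWmem] at hv ⊢
      rw [hMY, hv, hv]
    let g : W →ₗ[F] W := Y.restrict hmaps
    have hgg : g ∘ₗ g = (-1 : F) • LinearMap.id := by
      refine LinearMap.ext fun v => Subtype.ext ?_
      show Y (Y (v : ι → F)) = (-1 : F) • (v : ι → F)
      rw [neg_one_smul]
      exact hYY v
    have heven : Even (Module.finrank F W) := by
      rw [← Nat.not_odd_iff_even]
      intro ho
      have h1 := congrArg LinearMap.det hgg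
      rw [LinearMap.det_comp, LinearMap.det_smul, LinearMap.det_id, ho.neg_one_pow, mul_one] at h1
      have hne : LinearMap.det g ≠ 0 := by
        intro h0; rw [h0, mul_zero] at h1; exact one_ne_zero (neg_eq_zero.1 h1.symm)
      have h2' := FiniteField.pow_card_sub_one_eq_one _ hne
      rw [hF, show 3 - 1 = 2 from rfl, pow_two, h1] at h2'
      exact h2 (by linear_combination -h2')
    have hpos : Module.finrank F W ≠ 0 := by
      intro h0
      rw [Submodule.finrank_eq_zero] at h0
      obtain ⟨u, hu⟩ := hxne
      have h1 : M (M u - u) - (M u - u) ∈ W := (hWmem _).2 (hN3 u)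
      rw [h0, Submodule.mem_bot, sub_eq_zero] at h1
      have h1' : M u - u ∈ W := (hWmem _).2 h1
      rw [h0, Submodule.mem_bot, sub_eq_zero] at h1'
      exact hu h1'
    have hlt : Module.finrank F W < 4 := by
      have hV : Module.finrank F (ι → F) = 4 := by rw [Module.finrank_fintype_fun_eq_card]; rfl
      rw [← hV]
      refine Submodule.finrank_lt fun h => ?_
      obtain ⟨u, hu⟩ := hxne
      exact hu ((hWmem u).1 (h ▸ Submodule.mem_top))
    obtain ⟨k, hk⟩ := heven
    omega
  refine ⟨hdim2, fun v w hv hw => ?_⟩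
  let J := Matrix.J (Fin 2) F
  let ω : (ι → F) → (ι → F) → F := fun a b => dotProduct a (J.mulVec b)
  show ω v w = 0
  by_contra hvw
  have hω : ∀ a b, ω (M a) (M b) = ω a b := fun a b => by
    show dotProduct (Matrix.toLin' (φ x : Matrix ι ι F) a) (J.mulVec (Matrix.toLin' (φ x : Matrix ι ι F) b)) = dotProduct a (J.mulVec b)
    rw [Matrix.toLin'_apply, Matrix.toLin'_apply, Matrix.dotProduct_mulVec, Matrix.vecMul_mulVec,
      ← Matrix.dotProduct_mulVec, Matrix.mulVec_mulVec, SymplecticGroup.mem_iff'.1 (φ x).2]
  have hMv : M v = v := by rw [hM]; exact (Matrix.toLin'_apply _ _).trans hv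
  have hMw : M w = w := by rw [hM]; exact (Matrix.toLin'_apply _ _).trans hw
  have horth : ∀ a, M a = a → ∀ u, ω a (M u - u) = 0 := fun a ha u => by
    have := hω a u
    rw [ha] at this
    show dotProduct a (J.mulVec (M u - u)) = 0
    rw [Matrix.mulVec_sub, dotProduct_sub, sub_eq_zero]; exact this
  have halt : ∀ a b, ω a b = -ω b a := fun a b => by
    show dotProduct a (J.mulVec b) = -dotProduct b (J.mulVec a)
    rw [Matrix.dotProduct_mulVec, ← Matrix.mulVec_transpose, Matrix.J_transpose, Matrix.neg_mulVec,
      neg_dotProduct, dotProduct_comm]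
  have hself : ∀ a, ω a a = 0 := fun a => by
    have := halt a a
    exact (mul_eq_zero.1 (show (2 : F) * ω a a = 0 by linear_combination this)).resolve_left h2
  -- `v`, `w` span the fixed space
  have hli : LinearIndependent F ![(⟨v, (hWmem v).2 hMv⟩ : W), ⟨w, (hWmem w).2 hMw⟩] := by
    rw [LinearIndependent.pair_iff]
    intro s t hst
    have hst' : s • v + t • w = 0 := congrArg Subtype.val hst
    have e1 := congrArg (fun a => dotProduct v (J.mulVec a)) hst'
    have e2 := congrArg (fun a => dotProduct w (J.mulVec a)) hst'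
    simp only [Matrix.mulVec_add, Matrix.mulVec_smul, dotProduct_add, dotProduct_smul, Matrix.mulVec_zero,
      dotProduct_zero, smul_eq_mul] at e1 e2
    have hwv : ω w v ≠ 0 := by rw [halt]; simpa using hvw
    exact ⟨(mul_eq_zero.1 (show s * ω w v = 0 by linear_combination e2 - t * hself w)).resolve_right hwv,
      (mul_eq_zero.1 (show t * ω v w = 0 by linear_combination e1 - s * hself v)).resolve_right hvw⟩
  have hspan := hli.span_eq_top_of_card_eq_finrank (by rw [hdim2]; rfl)
  have hzero : ∀ e, M e = e → ω v e = 0 → ω w e = 0 → e = 0 := by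
    intro e he hve hwe
    have h1 : (⟨e, (hWmem e).2 he⟩ : W) ∈ Submodule.span F (Set.range ![(⟨v, (hWmem v).2 hMv⟩ : W), ⟨w, (hWmem w).2 hMw⟩]) :=
      hspan ▸ Submodule.mem_top
    rw [Matrix.range_cons, Matrix.range_cons, Matrix.range_empty, Set.union_empty, Set.singleton_union,
      Submodule.mem_span_pair] at h1
    obtain ⟨s, t, hst⟩ := h1
    obtain rfl : s • v + t • w = e := congrArg Subtype.val hst
    replace hve : dotProduct v (J.mulVec (s • v + t • w)) = 0 := hve
    replace hwe : dotProduct w (J.mulVec (s • v + t • w)) = 0 := hwe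
    simp only [Matrix.mulVec_add, Matrix.mulVec_smul, dotProduct_add, dotProduct_smul, smul_eq_mul] at hve hwe
    have hwv : ω w v ≠ 0 := by rw [halt]; simpa using hvw
    rw [(mul_eq_zero.1 (show s * ω w v = 0 by linear_combination hwe - t * hself w)).resolve_right hwv,
      (mul_eq_zero.1 (show t * ω v w = 0 by linear_combination hve - s * hself v)).resolve_right hvw]
    simp
  obtain ⟨u, hu⟩ := hxne
  have h1 := hzero _ (hN3 u) (horth v hMv _) (horth w hMw _)
  rw [sub_eq_zero] at h1
  exact hu (sub_eq_zero.1 (hzero _ h1 (horth v hMv _) (horth w hMw _)))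

end Cfsg.Agent.S3213
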