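import Cfsg.Statements.S3215
import Cfsg.Agent.Lib.InvChar.SolvableTwo
import Cfsg.Agent.Lib.InvChar.InvolutionCount
import Cfsg.Agent.Lib.InvChar.Conj
import Cfsg.Agent.Lib.InvChar.ConjClosure
import Cfsg.Agent.Lib.InvChar.UniqueInvolution
import Cfsg.Agent.Lib.Frobenius.Action
import Cfsg.Agent.Lib.ConstStab.Basic
import Cfsg.Agent.Lib.Coprime.Action

set_option autoImplicit false
open Cfsg

namespace Cfsg.Agent.S3215

open Subgroup

variable {H : Type*} [Group H] [Finite H]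

theorem exists_involution_pow {c : H} {k : ℕ} (hk : c ^ 2 ^ k = 1) (hc : c ≠ 1) :
    ∃ i : ℕ, orderOf (c ^ i) = 2 := by
  have h2 : 2 ∣ orderOf c := by
    obtain ⟨j, -, hj⟩ := (Nat.dvd_prime_pow Nat.prime_two).1 (orderOf_dvd_of_pow_eq_one hk)
    rcases j with _ | j
    · exact absurd (orderOf_eq_one_iff.1 hj) hc
    · exact hj ▸ dvd_pow_self 2 (Nat.succ_ne_zero j)
  exact ⟨orderOf c / 2, orderOf_pow_orderOf_div (orderOf_pos c).ne' h2⟩

/-- An element of odd order commuting with an involution centralizes its fixed points in `O₂`. -/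
theorem commute_fixed (hI : ∀ t : H, orderOf t = 2 →
      Cfsg.HasNormalPComplement 2 ↥(centralizer ({t} : Set H)))
    {t x d : H} (ht : orderOf t = 2) (hx : Odd (orderOf x)) (hxt : x * t = t * x)
    (hd : d ∈ Cfsg.pCore 2 H) (hdt : d * t = t * d) : x * d = d * x := by
  haveI : Fact (Nat.Prime 2) := ⟨Nat.prime_two⟩
  set C := centralizer ({t} : Set H)
  obtain ⟨P, N, hN, hc⟩ := hI t ht
  haveI := hN
  set x' : ↥C := ⟨x, mem_centralizer_singleton_iff.2 hxt⟩
  set d' : ↥C := ⟨d, mem_centralizer_singleton_iff.2 hdt⟩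
  haveI := Cfsg.pCore_normal 2 H
  set D := (Cfsg.pCore 2 H).subgroupOf C with hD
  have hDp : IsPGroup 2 ↥D := (CfsgLib.PCore.pCore_isPGroup (p := 2)).comap_of_injective _
    C.subtype_injective
  -- `N` contains every element of odd order
  have hxN : x' ∈ N := by
    rw [← QuotientGroup.eq_one_iff]
    have hox : orderOf x' = orderOf x := orderOf_mk x _
    obtain ⟨k, hk⟩ := IsPGroup.iff_card.1 P.isPGroup'
    have h1 : orderOf (x' : ↥C ⧸ N) ∣ 2 ^ k := by
      rw [← hk, ← hc.symm.index_eq_card]; exact orderOf_dvd_natCard _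
    have h2 : orderOf (x' : ↥C ⧸ N) ∣ orderOf x := hox ▸ orderOf_map_dvd (QuotientGroup.mk' N) x'
    exact orderOf_eq_one_iff.1 (Nat.eq_one_of_dvd_coprimes
      ((Nat.coprime_two_right.2 hx).symm.pow_left k) h1 h2)
  have hNodd : (Nat.card ↥N).Coprime 2 := by
    have h2 : ¬ 2 ∣ (P : Subgroup ↥C).index := P.not_dvd_index
    rw [hc.index_eq_card] at h2
    exact (Nat.prime_two.coprime_iff_not_dvd.2 h2).symm
  have h1 : x' * d' * x'⁻¹ * d'⁻¹ ∈ D :=
    mul_mem ((inferInstance : D.Normal).conj_mem d' (mem_subgroupOf.2 hd) x')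
      (inv_mem (mem_subgroupOf.2 hd))
  have h2 : x' * d' * x'⁻¹ * d'⁻¹ ∈ N := by
    have := mul_mem hxN (hN.conj_mem x'⁻¹ (inv_mem hxN) d')
    simpa [mul_assoc] using this
  have h3 : x' * d' * x'⁻¹ * d'⁻¹ = 1 :=
    mem_bot.1 ((CfsgLib.PCore.inf_eq_bot_of_isPGroup_coprime hDp hNodd).le ⟨h1, h2⟩)
  have h4 := congrArg Subtype.val (mul_inv_eq_iff_eq_mul.1 (mul_inv_eq_one.1 h3))
  exact h4

/-- No nontrivial element of odd order commutes with an involution or with an element of `O₂ ♯`. -/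
theorem odd_free [Group.IsSolvable H] (hO : Cfsg.oddCore H = ⊥)
    (hI : ∀ t : H, orderOf t = 2 → Cfsg.HasNormalPComplement 2 ↥(centralizer ({t} : Set H)))
    {x : H} (hx : Odd (orderOf x)) :
    (∀ y ∈ Cfsg.pCore 2 H, y ≠ 1 → x * y = y * x → x = 1) ∧
      (∀ t : H, orderOf t = 2 → x * t = t * x → x = 1) := by
  haveI : Fact (Nat.Prime 2) := ⟨Nat.prime_two⟩
  haveI := Cfsg.pCore_normal 2 H
  set Y := Cfsg.pCore 2 H
  have hYp : IsPGroup 2 ↥Y := CfsgLib.PCore.pCore_isPGroup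
  have hone : ∀ y : H, (∀ d ∈ Y, x * d = d * x) → x = 1 := by
    intro _ h
    have h1 : x ∈ Y := CfsgLib.InvChar.centralizer_pCore_le hO
      (mem_centralizer_iff.2 fun d hd => (h d hd).symm)
    obtain ⟨k, hk⟩ := hYp ⟨x, h1⟩
    have h2 : orderOf x ∣ 2 ^ k := orderOf_dvd_of_pow_eq_one (congrArg Subtype.val hk)
    exact orderOf_eq_one_iff.1 (Nat.eq_one_of_dvd_coprimes
      ((Nat.coprime_two_right.2 hx).pow_right k) dvd_rfl h2)
  have h1 : ∀ y ∈ Y, y ≠ 1 → x * y = y * x → x = 1 := by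
    intro y hy hy1 hxy
    obtain ⟨k, hk⟩ := hYp ⟨y, hy⟩
    obtain ⟨i, hi⟩ := exists_involution_pow (c := y) (congrArg Subtype.val hk) hy1
    have hxi : x * y ^ i = y ^ i * x := (Commute.pow_right hxy i).eq
    obtain ⟨s, -, hs1, hsc⟩ := CfsgLib.InvChar.exists_ne_one_mem_center hYp (⊤ : Subgroup ↥Y)
      (fun h => hy1 (congrArg Subtype.val
        (mem_bot.1 (h ▸ mem_top (⟨y, hy⟩ : ↥Y)) : (⟨y, hy⟩ : ↥Y) = 1)))
    obtain ⟨l, hl⟩ := hYp s
    obtain ⟨j, hj⟩ := exists_involution_pow (c := (s : H)) (congrArg Subtype.val hl)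
      (fun h => hs1 (Subtype.ext h))
    have hcent : ∀ d ∈ Y, d * (s : H) ^ j = (s : H) ^ j * d := fun d hd =>
      (Commute.pow_right (show Commute d (s : H) from
      congrArg Subtype.val (Subgroup.mem_center_iff.1 hsc ⟨d, hd⟩)) j).eq
    have hxs : x * (s : H) ^ j = (s : H) ^ j * x :=
      commute_fixed hI hi hx hxi (pow_mem s.2 j) (hcent _ (pow_mem hy i)).symm
    exact hone 1 fun d hd => commute_fixed hI hj hx hxs hd (hcent d hd)
  refine ⟨h1, fun t ht hxt => ?_⟩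
  by_cases hY : Y = ⊥
  · exact hone 1 fun d hd => by rw [hY, mem_bot] at hd; subst hd; simp
  have hTp : IsPGroup 2 ↥(Y ⊔ zpowers t) := hYp.to_sup_of_normal_left
    (IsPGroup.of_card (n := 1) (by rw [Nat.card_zpowers, ht, pow_one]))
  have hne : Y.subgroupOf (Y ⊔ zpowers t) ≠ ⊥ := by
    rw [Ne, subgroupOf_eq_bot, disjoint_iff, inf_eq_left.2 le_sup_left]
    exact hY
  obtain ⟨d, hd, hd1, hdc⟩ := CfsgLib.InvChar.exists_ne_one_mem_center hTp _ hne
  have hdt : (d : H) * t = t * d :=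
    (congrArg Subtype.val (Subgroup.mem_center_iff.1 hdc
      ⟨t, (le_sup_right : zpowers t ≤ Y ⊔ zpowers t) (mem_zpowers t)⟩)).symm
  exact h1 d (mem_subgroupOf.1 hd) (fun h => hd1 (Subtype.ext h))
    (commute_fixed hI ht hx hxt (mem_subgroupOf.1 hd) hdt)

/-- A `p`-group acting fixed-point-freely, `p` odd, is cyclic. -/
theorem isCyclic_of_fpf {p : ℕ} [Fact p.Prime] (hp2 : p ≠ 2) (Y : Subgroup H) [Y.Normal]
    (hY : Y ≠ ⊥) (A : Subgroup H) (hA : IsPGroup p ↥A)
    (hfree : ∀ a ∈ A, a ≠ 1 → ∀ y ∈ Y, y ≠ 1 → a * y ≠ y * a) : IsCyclic ↥A := by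
  classical
  haveI : Nontrivial ↥Y := (nontrivial_iff_ne_bot Y).2 hY
  letI : MulDistribMulAction ↥A ↥Y :=
    MulDistribMulAction.compHom ↥Y ((MulAut.conjNormal (H := Y)).comp A.subtype)
  have hfpf : CfsgLib.Frobenius.IsFPF ↥A ↥Y := by
    intro a ha y hy
    by_contra hy1
    have h1 : (a : H) * y * (a : H)⁻¹ = y := congrArg Subtype.val hy
    exact hfree a a.2 (fun h => ha (Subtype.ext h)) y y.2 (fun h => hy1 (Subtype.ext h))
      (mul_inv_eq_iff_eq_mul.1 h1)
  -- commuting elements of order `p` generate a cyclic group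
  have hcomm : ∀ x y : ↥A, x ≠ 1 → x ^ p = 1 → y ^ p = 1 → Commute x y → y ∈ zpowers x := by
    intro x y hx hxp hyp hxy
    set B := closure ({x, y} : Set ↥A)
    haveI : IsMulCommutative ↥B := CfsgLib.InvChar.closure_isMulCommutative_of_commute _ (by
      rintro a (rfl | rfl) b (rfl | rfl)
      exacts [Commute.refl _, hxy, hxy.symm, Commute.refl _])
    letI : MulDistribMulAction ↥B ↥Y := MulDistribMulAction.compHom ↥Y B.subtype
    haveI : IsCyclic ↥B := (hfpf.comp B.subtype B.subtype_injective).isCyclic_of_commutative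
    have hB : ∀ b ∈ B, b ^ p = 1 := by
      intro b hb
      induction hb using closure_induction with
      | mem a ha => rcases ha with rfl | rfl <;> assumption
      | one => simp
      | mul a b ha hb iha ihb =>
        have : Commute a b := congrArg Subtype.val (mul_comm' (⟨a, ha⟩ : ↥B) ⟨b, hb⟩)
        rw [this.mul_pow, iha, ihb, one_mul]
      | inv a ha iha => rw [inv_pow, iha, inv_one]
    obtain ⟨g, hg⟩ := IsCyclic.exists_generator (α := ↥B)
    have hgp : Nat.card ↥B ≤ p := by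
      rw [← orderOf_eq_card_of_forall_mem_zpowers hg]
      exact Nat.le_of_dvd (Fact.out : p.Prime).pos
        (orderOf_dvd_of_pow_eq_one (Subtype.ext (hB g g.2)))
    have hle : zpowers x ≤ B := zpowers_le.2 (subset_closure (Set.mem_insert _ _))
    have heq : zpowers x = B := eq_of_le_of_card_ge hle (by
      rw [Nat.card_zpowers, orderOf_eq_prime hxp hx]; exact hgp)
    rw [heq]
    exact subset_closure (by simp)
  refine CfsgLib.ConstStab.isCyclic_of_unique_prime_subgroup hp2 hA fun x y hx hxp hyp => ?_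
  obtain ⟨z, -, hz1, hzc⟩ := CfsgLib.InvChar.exists_ne_one_mem_center hA (⊤ : Subgroup ↥A)
    (fun h => hx (mem_bot.1 (h ▸ mem_top x)))
  obtain ⟨k, hk⟩ := hA z
  have hpd : p ∣ orderOf z := by
    obtain ⟨j, -, hj⟩ := (Nat.dvd_prime_pow (Fact.out : p.Prime)).1 (orderOf_dvd_of_pow_eq_one hk)
    rcases j with _ | j
    · exact absurd (orderOf_eq_one_iff.1 hj) hz1
    · exact hj ▸ dvd_pow_self p (Nat.succ_ne_zero j)
  set w := z ^ (orderOf z / p) with hw
  have hwo : orderOf w = p := orderOf_pow_orderOf_div (orderOf_pos z).ne' hpd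
  have hw1 : w ≠ 1 := fun h => (Fact.out : p.Prime).one_lt.ne (by rw [← hwo, h, orderOf_one])
  have hwp : w ^ p = 1 := hwo ▸ pow_orderOf_eq_one w
  have hwc : ∀ a : ↥A, Commute w a := fun a =>
    (Subgroup.mem_center_iff.1 (pow_mem hzc (orderOf z / p)) a).symm
  have hxw := hcomm w x hw1 hwp hxp (hwc x)
  have hyw := hcomm w y hw1 hwp hyp (hwc y)
  have : zpowers x = zpowers w := eq_of_le_of_card_ge (zpowers_le.2 hxw) (by
    rw [Nat.card_zpowers, Nat.card_zpowers, hwo, orderOf_eq_prime hxp hx])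
  rw [this]; exact hyw


/-- Let H be a finite solvable group with no nontrivial normal subgroup of odd order in which the centralizer of every involution has a normal 2-complement. Let X be a Hall 2'-subgroup of H (odd order, index a power of 2) and Y = O₂(H). Then no non-identity element of X commutes with a non-identity element of Y (so for X ≠ 1 the group XY is a Frobenius group with kernel Y), every Sylow subgroup of X is cyclic, XY is normal in H, and H/XY is a cyclic 2-group. -/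
theorem result {H : Type*} [Group H] [Finite H] (hsol : Group.IsSolvable H)
    (hO : Cfsg.oddCore H = ⊥)
    (hI : ∀ t : H, orderOf t = 2 → Cfsg.HasNormalPComplement 2 ↥(Subgroup.centralizer ({t} : Set H)))
    (X : Subgroup H) (hXodd : Odd (Nat.card X)) (hXidx : ∃ k : ℕ, X.index = 2 ^ k) :
    (∀ x ∈ X, x ≠ 1 → ∀ y ∈ Cfsg.pCore 2 H, y ≠ 1 → x * y ≠ y * x) ∧
      (∀ (p : ℕ) [Fact p.Prime] (P : Sylow p ↥X), IsCyclic ↥(P : Subgroup ↥X)) ∧
      (X ⊔ Cfsg.pCore 2 H).Normal ∧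
      ∀ hN : (X ⊔ Cfsg.pCore 2 H).Normal, IsCyclic (H ⧸ (X ⊔ Cfsg.pCore 2 H)) ∧ IsPGroup 2 (H ⧸ (X ⊔ Cfsg.pCore 2 H)) := by
  classical
  haveI := hsol
  haveI : Fact (Nat.Prime 2) := ⟨Nat.prime_two⟩
  haveI := Cfsg.pCore_normal 2 H
  set Y := Cfsg.pCore 2 H with hY
  have hYp : IsPGroup 2 ↥Y := CfsgLib.PCore.pCore_isPGroup
  have hodd : ∀ x ∈ X, Odd (orderOf x) := fun x hx =>
    hXodd.of_dvd_nat (Subgroup.orderOf_dvd_natCard X hx)
  have hfree : ∀ x ∈ X, x ≠ 1 → ∀ y ∈ Y, y ≠ 1 → x * y ≠ y * x := fun x hx hx1 y hy hy1 h =>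
    hx1 ((odd_free hO hI (hodd x hx)).1 y hy hy1 h)
  have hcyc : ∀ (p : ℕ) [Fact p.Prime] (P : Sylow p ↥X), IsCyclic ↥(P : Subgroup ↥X) := by
    intro p _ P
    set A := (P : Subgroup ↥X).map X.subtype with hA
    suffices IsCyclic ↥A from
      (MulEquiv.isCyclic ((P : Subgroup ↥X).equivMapOfInjective X.subtype X.subtype_injective)).2 this
    have hAX : A ≤ X := Subgroup.map_subtype_le _
    by_cases hAbot : A = ⊥
    · rw [hAbot]; infer_instance
    have hp2 : p ≠ 2 := by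
      rintro rfl
      haveI : Nontrivial ↥A := (Subgroup.nontrivial_iff_ne_bot A).2 hAbot
      have h2 : 2 ∣ Nat.card ↥A :=
        ((P.isPGroup'.map X.subtype).card_eq_or_dvd).resolve_left Finite.one_lt_card.ne'
      exact (Nat.not_even_iff_odd.2 hXodd)
        (even_iff_two_dvd.2 (h2.trans (Subgroup.card_dvd_of_le hAX)))
    refine isCyclic_of_fpf hp2 Y ?_ A (P.isPGroup'.map X.subtype)
      fun a ha => hfree a (hAX ha)
    intro hYb
    refine hAbot (eq_bot_iff.2 fun a ha => ?_)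
    have h1 : a ∈ Y := CfsgLib.InvChar.centralizer_pCore_le hO
      (by rw [← hY, hYb, Subgroup.mem_centralizer_iff]; rintro h rfl; simp)
    rwa [hYb] at h1
  -- the quotient by `Y`
  set π := QuotientGroup.mk' Y with hπ
  have hπs : Function.Surjective π := QuotientGroup.mk'_surjective Y
  set Xb := X.map π with hXb
  set F := Cfsg.fittingSubgroup (H ⧸ Y) with hF
  haveI hFn : F.Normal := CfsgLib.Fitting.fitting_normal
  have hXbodd : Odd (Nat.card ↥Xb) := hXodd.of_dvd_nat (Subgroup.card_map_dvd X π)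
  have hFodd : ¬ 2 ∣ Nat.card ↥F := by
    intro h
    obtain ⟨P⟩ := (inferInstance : Nonempty (Sylow 2 ↥F))
    have h1 := CfsgLib.Fitting.sylow_fitting_eq_pCore P
    rw [show Cfsg.pCore 2 (H ⧸ Y) = ⊥ from CfsgLib.PCore.pCore_quotient_pCore,
      Subgroup.map_eq_bot_iff_of_injective _
      (Subgroup.subtype_injective _)] at h1
    exact P.ne_bot_of_dvd_card h h1
  have hFX : F ≤ Xb := by
    have hdvd : Xb.index ∣ X.index := Subgroup.index_map_dvd X hπs
    obtain ⟨k, hk⟩ := hXidx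
    have h1 : Xb.relIndex (Xb ⊔ F) ∣ 2 ^ k :=
      (Dvd.intro _ (Subgroup.relIndex_mul_index le_sup_left)).trans (hk ▸ hdvd)
    have h2 : ¬ 2 ∣ Nat.card ↥(Xb ⊔ F) := by
      intro h
      have := h.trans (CfsgLib.PCore.card_sup_dvd_mul F Xb |> fun h' => sup_comm Xb F ▸ h')
      rcases (Nat.prime_two.dvd_mul).1 this with h | h
      · exact hFodd h
      · exact Nat.not_even_iff_odd.2 hXbodd (even_iff_two_dvd.2 h)
    have h3 : Xb.relIndex (Xb ⊔ F) = 1 := by
      obtain ⟨j, -, hj⟩ := (Nat.dvd_prime_pow Nat.prime_two).1 h1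
      rcases j with _ | j
      · exact hj
      · exact absurd ((hj ▸ dvd_pow_self 2 (Nat.succ_ne_zero j)).trans
          (Subgroup.index_dvd_card _ |>.trans
            (Nat.card_congr (Equiv.refl _)).dvd)) h2
    exact le_sup_right.trans (Subgroup.relIndex_eq_one.1 h3)
  haveI : IsZGroup ↥X := ⟨fun p hp P => haveI := Fact.mk hp; hcyc p P⟩
  haveI : IsZGroup ↥Xb := IsZGroup.of_surjective (π.subgroupMap_surjective X)
  haveI : IsZGroup ↥F := IsZGroup.of_injective (Subgroup.inclusion_injective hFX)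
  haveI : Group.IsNilpotent ↥F := CfsgLib.Fitting.fitting_isNilpotent
  haveI hFc : IsCyclic ↥F := inferInstance
  have hcomF : ∀ a b : H ⧸ Y, a * b * a⁻¹ * b⁻¹ ∈ F := by
    intro a b
    set φ := MulAut.conjNormal (H := F) with hφ
    have h1 : φ (a * b * a⁻¹ * b⁻¹) = 1 := by
      have hc : φ a * φ b = φ b * φ a :=
        (IsCyclic.mulAutMulEquiv ↥F).injective (by rw [map_mul, map_mul]; exact mul_comm _ _)
      rw [map_mul, map_mul, map_mul, map_inv, map_inv, hc]
      group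
    refine CfsgLib.Fitting.centralizer_fitting_le (Subgroup.mem_centralizer_iff.2 fun f hf => ?_)
    have h2 := congrArg Subtype.val (DFunLike.congr_fun h1 ⟨f, hf⟩)
    rw [MulAut.conjNormal_apply] at h2
    exact (mul_inv_eq_iff_eq_mul.1 h2).symm
  haveI hXbn : Xb.Normal := ⟨fun x hx g => by
    have := mul_mem (hFX (hcomF g x)) hx
    simpa using this⟩
  have hXY : X ⊔ Y = Xb.comap π := by
    rw [hXb, Subgroup.comap_map_eq, hπ, QuotientGroup.ker_mk']
  have hN0 : (X ⊔ Y).Normal := hXY ▸ hXbn.comap π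
  refine ⟨hfree, hcyc, hN0, fun hN => ?_⟩
  haveI := hN
  have hQ : IsPGroup 2 (H ⧸ (X ⊔ Y)) := by
    obtain ⟨k, hk⟩ := hXidx
    have : (X ⊔ Y).index ∣ 2 ^ k := hk ▸ Subgroup.index_dvd_of_le le_sup_left
    obtain ⟨j, -, hj⟩ := (Nat.dvd_prime_pow Nat.prime_two).1 this
    exact IsPGroup.of_card (n := j) hj
  refine ⟨?_, hQ⟩
  -- involutions of the quotient by `Y` have no fixed points on `F`
  have hfix : ∀ s : H ⧸ Y, s ≠ 1 → (∃ k : ℕ, s ^ 2 ^ k = 1) → ∀ c ∈ Xb, Commute c s → c = 1 := by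
    intro s hs1 hsp c hc hcs
    obtain ⟨g, hg, rfl⟩ := hc
    by_contra hne
    set K := (Subgroup.zpowers s).comap π with hK
    have hKp : IsPGroup 2 ↥K := CfsgLib.PCore.isPGroup_comap_mk' hYp (by
      obtain ⟨k, hk⟩ := hsp
      obtain ⟨j, -, hj⟩ := (Nat.dvd_prime_pow Nat.prime_two).1 (orderOf_dvd_of_pow_eq_one hk)
      exact IsPGroup.of_card (n := j) (by rw [Nat.card_zpowers, hj]))
    have hgK : Subgroup.zpowers g ≤ Subgroup.normalizer (K : Set H) := by
      rw [Subgroup.zpowers_le, Subgroup.mem_normalizer_iff]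
      intro h
      have e : ∀ v ∈ Subgroup.zpowers s, π g * v * (π g)⁻¹ = v := by
        intro v hv
        obtain ⟨i, rfl⟩ := Subgroup.mem_zpowers_iff.1 hv
        rw [(hcs.zpow_right i).eq, mul_inv_cancel_right]
      rw [hK, Subgroup.mem_comap, Subgroup.mem_comap, map_mul, map_mul, map_inv]
      refine ⟨fun h' => (e _ h').symm ▸ h', fun h' => ?_⟩
      have : π h = π g * π h * (π g)⁻¹ := by
        have h'' := e _ h'
        refine mul_left_cancel (a := π g) (mul_right_cancel (b := (π g)⁻¹) ?_)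
        exact h''.symm
      exact this ▸ h'
    obtain ⟨s0, hs0⟩ := hπs s
    obtain ⟨k, hk⟩ := IsPGroup.iff_card.1 hKp
    obtain ⟨c, ⟨hcK, hcg⟩, hcY⟩ := CfsgLib.Coprime.exists_centralizing_rep
      (Subgroup.zpowers g) K hgK
      (by rw [Nat.card_zpowers, hk]; exact (Nat.coprime_two_right.2 (hodd g hg)).pow_right k)
      (Or.inr (by haveI := hKp.isNilpotent; infer_instance)) Y
      (fun y hy => by
        rw [hK, Subgroup.mem_comap, hπ, QuotientGroup.mk'_apply, (QuotientGroup.eq_one_iff y).2 hy]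
        exact one_mem _)
      (by rw [Subgroup.normalizer_eq_top Y]; exact le_top)
      (show s0 ∈ K by rw [hK, Subgroup.mem_comap, hs0]; exact Subgroup.mem_zpowers s)
      (fun a ha => by
        rw [← QuotientGroup.eq_one_iff]
        change π (s0⁻¹ * (a * s0 * a⁻¹)) = 1
        obtain ⟨i, rfl⟩ := Subgroup.mem_zpowers_iff.1 ha
        rw [map_mul, map_inv, map_mul, map_mul, map_inv, map_zpow, hs0,
          (hcs.zpow_left i).eq, mul_inv_cancel_right, inv_mul_cancel])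
    have hc1 : c ≠ 1 := by
      rintro rfl
      rw [mul_one, inv_mem_iff] at hcY
      exact hs1 (hs0 ▸ (QuotientGroup.eq_one_iff s0).2 hcY)
    obtain ⟨l, hl⟩ := hKp ⟨c, hcK⟩
    obtain ⟨i, hi⟩ := exists_involution_pow (c := c) (congrArg Subtype.val hl) hc1
    have hgc : Commute g c := Subgroup.mem_centralizer_iff.1 hcg g (Subgroup.mem_zpowers g)
    exact hne (by rw [(odd_free hO hI (hodd g hg)).2 _ hi (hgc.pow_right i).eq, map_one])
  obtain ⟨T⟩ := (inferInstance : Nonempty (Sylow 2 (H ⧸ Y)))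
  have hTF : ∀ a ∈ (T : Subgroup (H ⧸ Y)), a ∈ F → a = 1 := fun a ha haF =>
    Subgroup.mem_bot.1 ((CfsgLib.PCore.inf_eq_bot_of_isPGroup_coprime T.isPGroup'
      (Nat.prime_two.coprime_iff_not_dvd.2 hFodd).symm).le ⟨ha, haF⟩)
  have hTc : ∀ u v : ↥(T : Subgroup (H ⧸ Y)), Commute u v := by
    intro u v
    have h1 := hTF _ (mul_mem (mul_mem (mul_mem u.2 v.2) (inv_mem u.2)) (inv_mem v.2))
      (hcomF u v)
    exact Subtype.ext (mul_inv_eq_iff_eq_mul.1 (mul_inv_eq_one.1 h1))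
  haveI := Fintype.ofFinite (H ⧸ Y)
  have hinv : ∀ u : ↥(T : Subgroup (H ⧸ Y)), orderOf u = 2 → ∀ f ∈ F,
      (u : H ⧸ Y) * f * (u : H ⧸ Y)⁻¹ = f⁻¹ := by
    intro u hu
    have hu' : orderOf (u : H ⧸ Y) = 2 := by rw [Subgroup.orderOf_coe]; exact hu
    refine CfsgLib.InvChar.inverts_of_fixedPointFree hu' (fun f hf => hFn.conj_mem f hf _)
      fun f hf hcm => hfix _ ?_ ⟨1, ?_⟩ f (hFX hf) hcm
    · intro h; rw [h, orderOf_one] at hu'; omega
    · simpa [hu'] using pow_orderOf_eq_one (u : H ⧸ Y)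
  have huniq : ∀ u v : ↥(T : Subgroup (H ⧸ Y)), orderOf u = 2 → orderOf v = 2 → u = v := by
    intro u v hu hv
    have h1 : ((u * v : ↥(T : Subgroup (H ⧸ Y))) : H ⧸ Y) ∈ F := by
      refine CfsgLib.Fitting.centralizer_fitting_le (Subgroup.mem_centralizer_iff.2 fun f hf => ?_)
      have h2 : ((u : H ⧸ Y) * v) * f * ((u : H ⧸ Y) * v)⁻¹ = f := by
        calc ((u : H ⧸ Y) * v) * f * ((u : H ⧸ Y) * v)⁻¹
            = (u : H ⧸ Y) * ((v : H ⧸ Y) * f * (v : H ⧸ Y)⁻¹) * (u : H ⧸ Y)⁻¹ := by group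
          _ = f := by rw [hinv v hv f hf, hinv u hu _ (inv_mem hf), inv_inv]
      rw [Subgroup.coe_mul]
      exact (mul_inv_eq_iff_eq_mul.1 h2).symm
    have h3 : u * v = 1 := Subtype.ext (hTF _ (u * v).2 h1)
    have h4 : v * v = 1 := by simpa [hv, pow_two] using pow_orderOf_eq_one v
    calc u = u * (v * v) := by rw [h4, mul_one]
      _ = v := by rw [← mul_assoc, h3, one_mul]
  obtain ⟨a, ha⟩ := CfsgLib.InvChar.exists_zpowers_eq_of_commute T.isPGroup' huniq ⊤
    (fun u _ v _ => hTc u v)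
  haveI : IsCyclic ↥(T : Subgroup (H ⧸ Y)) :=
    isCyclic_iff_exists_zpowers_eq_top.2 ⟨a, ha.symm⟩
  have hYle : Y ≤ (X ⊔ Y).comap (MonoidHom.id H) := by simp
  set ψ := QuotientGroup.map Y (X ⊔ Y) (MonoidHom.id H) hYle with hψ
  have hψs : Function.Surjective ψ := fun q => by
    obtain ⟨h, rfl⟩ := QuotientGroup.mk_surjective q
    exact ⟨(h : H ⧸ Y), rfl⟩
  have htop : ((T.mapSurjective hψs : Sylow 2 (H ⧸ (X ⊔ Y))) : Subgroup (H ⧸ (X ⊔ Y))) = ⊤ :=
    ((T.mapSurjective hψs).is_maximal' (hQ.of_equiv Subgroup.topEquiv.symm) le_top).symm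
  refine isCyclic_of_surjective (ψ.comp (T : Subgroup (H ⧸ Y)).subtype) fun q => ?_
  have hq : q ∈ ((T.mapSurjective hψs : Sylow 2 (H ⧸ (X ⊔ Y))) : Subgroup (H ⧸ (X ⊔ Y))) := by
    rw [htop]; trivial
  rw [Sylow.coe_mapSurjective] at hq
  obtain ⟨t, ht, rfl⟩ := hq
  exact ⟨⟨t, ht⟩, rfl⟩

end Cfsg.Agent.S3215
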