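import Cfsg.Statements.S3219
import Cfsg.Agent.Lib.TwoTransAFour.Affine
import Cfsg.Agent.Lib.TwoTransAFour.OddFano
import Cfsg.Agent.Lib.TwoTransAFour.OddSix
import Cfsg.Agent.Lib.TwoTransAFour.FourLocal
import Cfsg.Agent.Lib.TwoTransAFour.DihedralOrder

set_option autoImplicit false
open Cfsg

namespace Cfsg.Agent.S3219

/-- Let G be a finite doubly transitive permutation group on a set Ω in which the stabilizer of two points is isomorphic to the alternating group A₄. Then Ω has 6 points and G ≅ A₆, or Ω has 15 points and G ≅ A₇, or Ω has 16 points and G is isomorphic to the group of all affine transformations of the affine plane over the field with 4 elements, or G = C_G(J)O(G) for some involution J of G, where O(G) is the largest normal subgroup of G of odd order. -/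
theorem result {G : Type*} [Group G] [Finite G] {Ω : Type*} [Fintype Ω] [MulAction G Ω] [FaithfulSMul G Ω]
    (h2 : MulAction.IsMultiplyPretransitive G Ω 2) (a b : Ω) (hab : a ≠ b)
    (e : ↥(MulAction.stabilizer G a ⊓ MulAction.stabilizer G b) ≃* ↥(alternatingGroup (Fin 4))) :
    (Fintype.card Ω = 6 ∧ Nonempty (G ≃* ↥(alternatingGroup (Fin 6)))) ∨ (Fintype.card Ω = 15 ∧ Nonempty (G ≃* ↥(alternatingGroup (Fin 7)))) ∨
      (Fintype.card Ω = 16 ∧ ∃ (F : Type) (_ : Field F) (_ : Fintype F), Fintype.card F = 4 ∧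
        Nonempty (G ≃* ((Fin 2 → F) ≃ᵃ[F] (Fin 2 → F)))) ∨
      (∃ J : G, orderOf J = 2 ∧ Subgroup.centralizer ({J} : Set G) ⊔ Cfsg.oddCore G = ⊤) := by
  classical
  have hyp := CfsgLib.TwoTransAFour.hyp_of_pair h2 hab e
  obtain ⟨P⟩ := CfsgLib.TwoTransAFour.exists_par hyp
    (fun g hg => eq_of_smul_eq_smul (α := Ω) fun x => by rw [hg x, one_smul]) hab
  obtain ⟨j, K⟩ := P.exists_kind hab
  have hcard : Fintype.card Ω = P.n := by rw [P.n_eq, Nat.card_eq_fintype_card]
  have hrel := K.n_rel hab
  rw [hcard]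
  rcases Nat.even_or_odd P.n with hn | hn
  · rcases P.even_cases CfsgLib.TwoTransAFour.FourLocal.arith K hab hn with
      ⟨hj, hf, -⟩ | ⟨hj, hf, -⟩ | ⟨hj, hf, hs⟩ <;> rw [hj, hf] at hrel
    · exact Or.inl ⟨by omega, P.iso_six hab (by omega)⟩
    · exact (K.false_of_28 hj hab (by omega) hf).elim
    · exact Or.inr (Or.inr (Or.inl ⟨by omega, K.iso_affine hj hs (by omega) hf
        (fun {_} [_] [_] H e hK {_} hz hz2 hc _ =>
          CfsgLib.TwoTransAFour.FourLocal.exists_central_three H e hK hz hz2 hc) hab⟩))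
  · rcases K.j_cases with hj | hj | hj | hj
    · exact absurd hj (K.j_ne_one hab)
    · exact Or.inr (Or.inr (Or.inr (K.central_three hj hab hn)))
    · exfalso
      obtain ⟨z, hz, hz1⟩ := P.hyp.exists_invol hab
      rcases K.f_cases hab with h | ⟨-, h⟩ | ⟨-, h⟩
      · exact K.false_fano_one hj hab hn h
      · exact K.false_fano_two hj hab hn h
      · exact K.false_double hj h (P.hyp.I0_of_mem hab hz hz1)
          CfsgLib.TwoTransAFour.DihedralOrder.main hn
    · exact Or.inr (Or.inl (K.iso_seven hj CfsgLib.TwoTransAFour.DihedralOrder.main hab hn))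

end Cfsg.Agent.S3219
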