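import Cfsg.Statements.S3230
import Cfsg.Agent.Lib.U6Large.Hyp
import Cfsg.Agent.Lib.U6Large.Minus
import Cfsg.Agent.Lib.U6Large.Build
import Cfsg.Agent.Lib.U6Large.Shape.Main

set_option autoImplicit false
open Cfsg

namespace Cfsg.Agent.S3230

/-- Let G be a finite group with an involution z, H = C_G(z), such that J = O₂(H) is extraspecial of order 2⁹ with C_H(J) ≤ J and H/J ≅ PSp₄(3). Then G ≅ U₆(2) or G = H·O(G). -/
theorem result {G : Type*} [Group G] [Finite G] (z : G) (hz : orderOf z = 2)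
    {F : Type*} [Field F] [Fintype F] (hF : Fintype.card F = 3) {K : Type*} [Field K] [Fintype K] (hK : Fintype.card K = 4)
    (hJ : Cfsg.IsExtraspecial 2 ↥(Cfsg.pCore 2 ↥(Subgroup.centralizer ({z} : Set G)))) (hJc : Nat.card ↥(Cfsg.pCore 2 ↥(Subgroup.centralizer ({z} : Set G))) = 2 ^ 9)
    (hCJ : Subgroup.centralizer ((Cfsg.pCore 2 ↥(Subgroup.centralizer ({z} : Set G))) : Set ↥(Subgroup.centralizer ({z} : Set G))) ≤ Cfsg.pCore 2 ↥(Subgroup.centralizer ({z} : Set G))) [hJn : (Cfsg.pCore 2 ↥(Subgroup.centralizer ({z} : Set G))).Normal]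
    (e : (↥(Subgroup.centralizer ({z} : Set G)) ⧸ Cfsg.pCore 2 ↥(Subgroup.centralizer ({z} : Set G))) ≃* Cfsg.PSp 2 F) :
    Nonempty (G ≃* Cfsg.PSU 6 K 2) ∨ Subgroup.centralizer ({z} : Set G) ⊔ Cfsg.oddCore G = ⊤ := by
  obtain ⟨f⟩ := CfsgLib.U6Large.pspThree hF
  obtain ⟨S⟩ := CfsgLib.U6Large.exists_ctx z hz (Cfsg.pCore 2 ↥(Subgroup.centralizer ({z} : Set G))) rfl hJ hJc hCJ
    (e.trans f)
  rcases S.cases with ⟨⟨N⟩⟩ | ⟨M, -⟩
  · exact N.conclusion hK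
  · exact Or.inr (CfsgLib.U6Large.sup_oddCore hz M.isolated)

end Cfsg.Agent.S3230
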