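import Cfsg.Statements.S3237
import Cfsg.Agent.Lib.AutL34.Small
import Cfsg.Agent.Lib.AutL34.Recog

set_option autoImplicit false
open Cfsg

namespace Cfsg.Agent.S3237

/-- Let G be a finite group of even order with an involution z, H = C_G(z), such that H has a normal subgroup E of order 32 that is extraspecial and contains no elementary abelian subgroup of order 8 (the central product of a dihedral group of order 8 with a quaternion group), C_H(E) ≤ E, and H/E ≅ S₄. Then O(G) is abelian, and if G is not solvable then G is isomorphic to the automorphism group of PGL₃(4). -/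
theorem result {G : Type*} [Group G] [Finite G]
    (hev : Even (Nat.card G)) (z : G) (hz : orderOf z = 2)
    (E : Subgroup ↥(Subgroup.centralizer ({z} : Set G))) [hEn : E.Normal] (hE : Cfsg.IsExtraspecial 2 ↥E) (hE32 : Nat.card ↥E = 32)
    (hEminus : ∀ A : Subgroup ↥E, Cfsg.IsElementaryAbelian 2 A → Nat.card ↥A ≠ 8)
    (hCE : Subgroup.centralizer (E : Set ↥(Subgroup.centralizer ({z} : Set G))) ≤ E)
    (e : (↥(Subgroup.centralizer ({z} : Set G)) ⧸ E) ≃* Equiv.Perm (Fin 4)) {F : Type*} [Field F] [Fintype F] (hF : Fintype.card F = 4) :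
    IsMulCommutative ↥(Cfsg.oddCore G) ∧
      (¬ Group.IsSolvable G → Nonempty (G ≃* MulAut (GL (Fin 3) F ⧸ Subgroup.center (GL (Fin 3) F)))) := by
  haveI : Fact (Nat.Prime 2) := ⟨Nat.prime_two⟩
  have hq : Nat.card (↥(Subgroup.centralizer ({z} : Set G)) ⧸ E) = 24 := by
    rw [Nat.card_congr e.toEquiv, Nat.card_perm, Nat.card_fin]; rfl
  obtain ⟨Fr⟩ := CfsgLib.AutL34.exists_frame z hz E hE hE32 hEminus hCE hq
  refine ⟨Fr.isMulCommutative_oddCore, fun hns => ?_⟩
  have hEs : Group.IsSolvable ↥E := by
    haveI : Group.IsNilpotent ↥E := (IsPGroup.of_card (n := 5) (by rw [hE32]; norm_num) : IsPGroup 2 ↥E).isNilpotent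
    infer_instance
  have hC : Group.IsSolvable ↥(Subgroup.centralizer ({z} : Set G)) := by
    haveI := hEs
    haveI := CfsgLib.InvCharSmall.isSolvable_perm_four
    haveI : Group.IsSolvable (↥(Subgroup.centralizer ({z} : Set G)) ⧸ E) :=
      Group.isSolvable_of_surjective (f := e.symm.toMonoidHom) e.symm.surjective
    exact Group.isSolvable_of_ker_le_range E.subtype (QuotientGroup.mk' E)
      (by rw [QuotientGroup.ker_mk', Subgroup.range_subtype])
  by_cases ha : IsConj z Fr.a
  · by_cases hU : ∃ w, Fr.InU w ∧ IsConj z w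
    · exact Fr.nonempty_equiv_of_bigCase ⟨ha, hU⟩ hF
    · push Not at hU
      exact absurd (Fr.isSolvable_of_smallCase (hS := ⟨ha, hU⟩) hC) hns
  · exact absurd (Fr.isSolvable_of_not_conj hC ha) hns

end Cfsg.Agent.S3237
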