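import Cfsg.Statements.S3244
import Cfsg.Agent.Lib.InvChar.UniqueLocalCentre
-- import your own Cfsg.Agent.* helpers here

set_option autoImplicit false
open Cfsg

namespace Cfsg.Agent.S3244

/-- Say that a finite group G is of characteristic 2 type in the early sense when a Sylow 2-subgroup S of G has a self-centralizing normal subgroup of rank at least 3, S normalizes no nontrivial subgroup of odd order, and every 2-local subgroup of G is 2-constrained. If G is a non-abelian simple group of characteristic 2 type in this sense, then for some maximal 2-local subgroup M of G the centre of O₂(M) is not cyclic. -/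
theorem result {G : Type*} [Group G] [Finite G] [IsSimpleGroup G]
    (hG : ¬ IsMulCommutative G) (S : Sylow 2 G) (A : Subgroup G) (hA : Cfsg.IsSCN (S : Subgroup G) A) (hA3 : ¬ Cfsg.PRankLE 2 2 ↥A)
    (hinv : ∀ X : Subgroup G, Odd (Nat.card ↥X) → (S : Subgroup G) ≤ Subgroup.normalizer (X : Set G) → X = ⊥)
    (hcon : ∀ T : Subgroup G, IsPGroup 2 ↥T → T ≠ ⊥ → Cfsg.IsPConstrained 2 ↥(Subgroup.normalizer (T : Set G))) :
    ∃ M : Subgroup G, Cfsg.IsMaximalTwoLocal M ∧ ¬ IsCyclic ↥(Subgroup.center ↥(Cfsg.pCore 2 ↥M)) := by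
  classical
  obtain ⟨hAS, hSA, hCA⟩ := hA
  have hAcomm : ∀ a ∈ A, ∀ b ∈ A, Commute a b := by
    intro a ha b hb
    have h : a ∈ Subgroup.centralizer (A : Set G) := (hCA.symm ▸ ha : a ∈ (S : Subgroup G) ⊓ Subgroup.centralizer (A : Set G)).2
    exact (Subgroup.mem_centralizer_iff.1 h b hb).symm
  let E : Subgroup G :=
    { carrier := {a | a ∈ A ∧ a * a = 1}
      one_mem' := ⟨A.one_mem, one_mul 1⟩
      mul_mem' := fun {a b} ha hb => ⟨A.mul_mem ha.1 hb.1, by
        rw [mul_assoc, ← mul_assoc b, (hAcomm b hb.1 a ha.1).eq, mul_assoc a b b, hb.2, mul_one, ha.2]⟩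
      inv_mem' := fun {a} ha => ⟨A.inv_mem ha.1, by rw [← mul_inv_rev, ha.2, inv_one]⟩ }
  obtain ⟨B, hBc, hB2, hBcard⟩ : ∃ B : Subgroup ↥A, IsMulCommutative B ∧ (∀ b ∈ B, b ^ 2 = 1) ∧
      2 ^ 2 < Nat.card B := by
    simpa [Cfsg.PRankLE, not_forall, not_le] using hA3
  have hBE : B.map A.subtype ≤ E := by
    rintro _ ⟨b, hb, rfl⟩
    refine ⟨b.2, ?_⟩
    have := congrArg Subtype.val (hB2 b hb)
    simpa [pow_two] using this
  have hbig : 4 < Nat.card ↥E := by
    have h1 := Nat.le_of_dvd Nat.card_pos (Subgroup.card_dvd_of_le hBE)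
    rw [← Nat.card_congr (Subgroup.equivMapOfInjective B _ A.subtype_injective).toEquiv] at h1
    omega
  refine CfsgLib.InvChar.UniqueLocalCentre.exists_noncyclic hG S E (fun a ha => hAS ha.1)
    (fun a ha => ha.2) (fun a ha b hb => hAcomm a ha.1 b hb.1) hbig ?_ ?_ hinv hcon
  · intro s hs a ha
    refine ⟨(Subgroup.mem_normalizer_iff.1 (hSA hs) a).1 ha.1, ?_⟩
    rw [show s * a * s⁻¹ * (s * a * s⁻¹) = s * (a * a) * s⁻¹ by group, ha.2, mul_one, mul_inv_cancel]
  · intro z hz hzS hzc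
    refine ⟨?_, by rw [← pow_two, ← hz]; exact pow_orderOf_eq_one z⟩
    rw [← hCA]
    exact ⟨hzS, Subgroup.mem_centralizer_iff.2 fun a ha => (hzc a (hAS ha)).eq⟩

end Cfsg.Agent.S3244
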