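import Cfsg.Statements.S3246
import Cfsg.Agent.Lib.Classif.LocalCharTwo
import Cfsg.Agent.Lib.PLocal.Constraint
import Cfsg.Agent.Lib.InvChar.InvolutionCount
import Cfsg.Agent.Lib.InvChar.Conj

set_option autoImplicit false
open Cfsg

namespace Cfsg.Agent.S3246

open Subgroup CfsgLib.LocalEvenCharP CfsgLib.PLocal

variable {G : Type*} [Group G] [Finite G]

theorem le_sylow_of_normalized {S : Sylow 2 G} {R : Subgroup G} (hR : IsPGroup 2 ↥R)
    (hn : (S : Subgroup G) ≤ normalizer (R : Set G)) : R ≤ (S : Subgroup G) := by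
  have h1 : IsPGroup 2 ↥((S : Subgroup G) ⊔ R) := S.isPGroup'.to_sup_of_normal_right' hR hn
  exact le_sup_right.trans (S.is_maximal' h1 le_sup_left).le

theorem mul_self_eq_one {t : G} (h : orderOf t = 2) : t * t = 1 := by
  rw [← pow_two, ← h]; exact pow_orderOf_eq_one t

theorem comm_eq_one {X R : Subgroup G} (hR : IsPGroup 2 ↥R) (hX : Odd (Nat.card ↥X)) {c : G}
    (hc : c ∈ X) (hc' : c ∈ R) : c = 1 := by
  haveI : Fact (Nat.Prime 2) := ⟨Nat.prime_two⟩
  exact CfsgLib.LocalEvenCharP.eq_one_of_coprime_of_mem hR hc'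
    ((Nat.Coprime.coprime_dvd_left
      ((Subgroup.orderOf_coe ⟨c, hc⟩).symm ▸ orderOf_dvd_natCard (⟨c, hc⟩ : ↥X)) (Nat.coprime_two_right.2 hX)))

/-- An involution moved by `S` at most inside a coset of size two has no fixed point on `X`. -/
theorem fixed_eq_one (hIC : ∀ t : G, orderOf t = 2 → IsCharP 2 ↥(centralizer ({t} : Set G)))
    {S : Sylow 2 G} {X : Subgroup G} (hX : Odd (Nat.card ↥X))
    (hSX : (S : Subgroup G) ≤ normalizer (X : Set G)) {u z : G} (hu : orderOf u = 2)
    (hmove : ∀ s ∈ (S : Subgroup G), s * u * s⁻¹ = u ∨ s * u * s⁻¹ = u * z)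
    {x : G} (hx : x ∈ X) (hxu : x * u = u * x) : x = 1 := by
  haveI : Fact (Nat.Prime 2) := ⟨Nat.prime_two⟩
  classical
  set C := centralizer ({u} : Set G) with hC
  set R := Cfsg.pCoreOf 2 C with hR
  have hRp : IsPGroup 2 ↥R := isPGroup_pCoreOf 2 C
  have hxC : x ∈ C := mem_centralizer_singleton_iff.2 hxu
  have hxo : (orderOf x).Coprime 2 := Nat.Coprime.coprime_dvd_left
    ((Subgroup.orderOf_coe ⟨x, hx⟩).symm ▸ orderOf_dvd_natCard (⟨x, hx⟩ : ↥X)) (Nat.coprime_two_right.2 hX)
  set S0 := (S : Subgroup G) ⊓ C with hS0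
  -- the centralizer of `u` in `S` has index at most two
  have hidx : S0.relIndex (S : Subgroup G) ≤ 2 := by
    have hkey : ∀ a b : ↥(S : Subgroup G), (a : ↥(S : Subgroup G)) ∉ S0.subgroupOf (S : Subgroup G) →
        b ∉ S0.subgroupOf (S : Subgroup G) → a⁻¹ * b ∈ S0.subgroupOf (S : Subgroup G) := by
      intro a b ha hb
      have hne : ∀ s : ↥(S : Subgroup G), s ∉ S0.subgroupOf (S : Subgroup G) →
          (s : G) * u * (s : G)⁻¹ = u * z := by
        intro s hs
        refine (hmove s s.2).resolve_left fun h => hs ?_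
        exact mem_subgroupOf.2 ⟨s.2, mem_centralizer_singleton_iff.2 (mul_inv_eq_iff_eq_mul.1 h)⟩
      refine mem_subgroupOf.2 ⟨(a⁻¹ * b).2, mem_centralizer_singleton_iff.2 ?_⟩
      have h := (hne b hb).trans (hne a ha).symm
      calc ((a⁻¹ * b : ↥(S : Subgroup G)) : G) * u
          = (a : G)⁻¹ * ((b : G) * u * (b : G)⁻¹) * b := by push_cast; group
        _ = (a : G)⁻¹ * ((a : G) * u * (a : G)⁻¹) * b := by rw [h]
        _ = u * ((a⁻¹ * b : ↥(S : Subgroup G)) : G) := by push_cast; group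
    unfold Subgroup.relIndex Subgroup.index
    calc Nat.card (↥(S : Subgroup G) ⧸ S0.subgroupOf (S : Subgroup G))
        ≤ Nat.card Bool := by
          refine Nat.card_le_card_of_injective
            (fun q : ↥(S : Subgroup G) ⧸ S0.subgroupOf (S : Subgroup G) =>
              decide (q = ((1 : ↥(S : Subgroup G)) : _ ⧸ _))) ?_
          intro q q' hqq
          induction q using QuotientGroup.induction_on with | _ a => ?_
          induction q' using QuotientGroup.induction_on with | _ b => ?_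
          simp only [decide_eq_decide] at hqq
          by_cases ha : (a : ↥(S : Subgroup G) ⧸ S0.subgroupOf (S : Subgroup G)) =
              ((1 : ↥(S : Subgroup G)) : _ ⧸ _)
          · rw [ha, hqq.1 ha]
          · have hb := fun hb => ha (hqq.2 hb)
            rw [QuotientGroup.eq] at ha hb
            simp only [mul_one, inv_mem_iff] at ha hb
            exact QuotientGroup.eq.2 (hkey a b ha hb)
      _ = 2 := by simp
  -- a Sylow subgroup of the centralizer above `S0`
  obtain ⟨P, hP⟩ := IsPGroup.exists_le_sylow (G := ↥C)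
    ((S.isPGroup'.to_le (inf_le_left : S0 ≤ (S : Subgroup G))).comap_of_injective C.subtype
      C.subtype_injective)
  set P' := (P : Subgroup ↥C).map C.subtype with hP'
  have hS0P : S0 ≤ P' := fun s hs => ⟨⟨s, hs.2⟩, hP (mem_subgroupOf.2 hs), rfl⟩
  have hRP : R ≤ P' := map_mono (CfsgLib.PCore.pCore_le_sylow P)
  obtain ⟨Q, hQ⟩ := (P.isPGroup'.map C.subtype).exists_le_sylow
  have hcard : Nat.card ↥P' ≤ Nat.card ↥(S : Subgroup G) := by
    refine (Nat.le_of_dvd Nat.card_pos (card_dvd_of_le hQ)).trans ?_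
    rw [S.card_eq_multiplicity, Q.card_eq_multiplicity]
  have hrel : S0.relIndex P' ≤ 2 := by
    have h1 := relIndex_mul_relIndex ⊥ S0 P' bot_le hS0P
    have h2 := relIndex_mul_relIndex ⊥ S0 (S : Subgroup G) bot_le inf_le_left
    rw [relIndex_bot_left, relIndex_bot_left] at h1 h2
    refine Nat.le_of_mul_le_mul_left ?_ (Nat.card_pos (α := ↥S0))
    rw [h1]
    exact hcard.trans (h2 ▸ Nat.mul_le_mul_left _ hidx)
  have hmul : ∀ a b : G, a ∈ P' → b ∈ P' → a ∉ S0 → b ∉ S0 → a * b ∈ S0 := by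
    intro a b ha hb ha0 hb0
    have hi : (S0.subgroupOf P').index = 2 := by
      have h0 : (S0.subgroupOf P').index ≠ 0 := index_ne_zero_of_finite
      have h1 : (S0.subgroupOf P').index ≠ 1 := by
        intro h
        exact ha0 (subgroupOf_eq_top.1 (index_eq_one.1 h) ha)
      have h2 : (S0.subgroupOf P').index ≤ 2 := hrel
      omega
    exact ((mul_mem_iff_of_index_two hi (a := ⟨a, ha⟩) (b := ⟨b, hb⟩)).2
      (iff_of_false (fun h => ha0 h) fun h => hb0 h) :)
  -- `x` centralizes `R`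
  have hRn : ∀ r ∈ R, x * r * x⁻¹ ∈ R := fun r hr =>
    ((Subgroup.mem_normalizer_iff.1 (le_normalizer_pCoreOf 2 C hxC)) r).1 hr
  have hfix : ∀ r ∈ R, r ∈ S0 → x * r = r * x := by
    intro r hr hr0
    have h1 : x * r * x⁻¹ * r⁻¹ ∈ R := mul_mem (hRn r hr) (inv_mem hr)
    have h2 : x * r * x⁻¹ * r⁻¹ ∈ X := by
      have : r * x⁻¹ * r⁻¹ ∈ X :=
        ((Subgroup.mem_normalizer_iff.1 (hSX hr0.1)) _).1 (inv_mem hx)
      have h := mul_mem hx this
      simpa [mul_assoc] using h
    have := comm_eq_one hRp hX h2 h1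
    exact mul_inv_eq_iff_eq_mul.1 (mul_inv_eq_one.1 this)
  refine (hIC u hu).eq_one_subgroup hxC hxo fun r hr => ?_
  by_cases hr0 : r ∈ S0
  · exact hfix r hr hr0
  set c := x * r * x⁻¹ * r⁻¹ with hc
  have hc1 : c ∈ R := mul_mem (hRn r hr) (inv_mem hr)
  have hne : x * r * x⁻¹ ∉ S0 := by
    intro h
    refine hr0 ?_
    have h3 := hfix _ (hRn r hr) h
    have : x * r * x⁻¹ = r :=
      mul_left_cancel (h3.trans (by group : x * r * x⁻¹ * x = x * r))
    rwa [this] at h
  have hc0 : c ∈ S0 :=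
    hmul _ _ (hRP (hRn r hr)) (inv_mem (hRP hr)) hne (fun h => hr0 ((inv_mem_iff).1 h))
  have h4 : c = 1 := eq_one_of_conj_eq hRp hxo hc1 (hfix c hc1 hc0)
    (show x * r * x⁻¹ = c * r by rw [hc]; group)
  exact mul_inv_eq_iff_eq_mul.1 (mul_inv_eq_one.1 (hc ▸ h4))


/-- Let G be a finite group whose Sylow 2-subgroup S has a self-centralizing normal subgroup of rank at least 3. Suppose that either every maximal 2-local subgroup of G is 2-constrained with no nontrivial normal subgroup of odd order, or the centralizer of every involution of G is 2-constrained with no nontrivial normal subgroup of odd order. Then S normalizes no nontrivial subgroup of G of odd order and every 2-local subgroup of G is 2-constrained. -/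
theorem result {G : Type*} [Group G] [Finite G]
    (S : Sylow 2 G) (A : Subgroup G) (hA : Cfsg.IsSCN (S : Subgroup G) A) (hA3 : ¬ Cfsg.PRankLE 2 2 ↥A)
    (h : (∀ M : Subgroup G, Cfsg.IsMaximalTwoLocal M → Cfsg.IsPConstrained 2 ↥M ∧ Cfsg.oddCore ↥M = ⊥) ∨
      (∀ t : G, orderOf t = 2 → Cfsg.IsPConstrained 2 ↥(Subgroup.centralizer ({t} : Set G)) ∧
        Cfsg.oddCore ↥(Subgroup.centralizer ({t} : Set G)) = ⊥)) :
    (∀ X : Subgroup G, Odd (Nat.card ↥X) → (S : Subgroup G) ≤ Subgroup.normalizer (X : Set G) → X = ⊥) ∧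
      (∀ T : Subgroup G, IsPGroup 2 ↥T → T ≠ ⊥ → Cfsg.IsPConstrained 2 ↥(Subgroup.normalizer (T : Set G))) := by
  classical
  haveI : Fact (Nat.Prime 2) := ⟨Nat.prime_two⟩
  haveI := Fintype.ofFinite G
  have hcp : ∀ M : Subgroup G, Cfsg.IsPConstrained 2 ↥M → Cfsg.oddCore ↥M = ⊥ → IsCharP 2 ↥M :=
    fun M h1 h2 => (isPConstrained_iff_of_core_eq_bot h2).1 h1
  have hIC : ∀ t : G, orderOf t = 2 → IsCharP 2 ↥(Subgroup.centralizer ({t} : Set G)) := by
    intro t ht
    rcases h with h | h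
    · rw [← CfsgLib.Classif.normalizer_zpowers_involution ht]
      have hp : IsPGroup 2 ↥(Subgroup.zpowers t) :=
        IsPGroup.of_card (n := 1) (by rw [Nat.card_zpowers, ht, pow_one])
      have hloc : Cfsg.IsTwoLocal (Subgroup.normalizer (Subgroup.zpowers t : Set G)) := by
        refine ⟨_, hp, ?_, rfl⟩
        rw [Ne, Subgroup.zpowers_eq_bot]
        rintro rfl
        simp at ht
      obtain ⟨M, hle, hM⟩ := Finite.exists_le_maximal hloc
      have hM' : Cfsg.IsMaximalTwoLocal M :=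
        ⟨hM.prop, fun N hN hMN => le_antisymm (hM.le_of_ge hN hMN) hMN⟩
      exact CfsgLib.Classif.isCharP_normalizer_of_centralizer_le (hcp M (h M hM').1 (h M hM').2) hp
        (Subgroup.le_normalizer.trans hle) ((Subgroup.centralizer_le_normalizer _).trans hle)
    · exact hcp _ (h t ht).1 (h t ht).2
  refine ⟨fun X hX hSX => ?_, fun T hT hT1 => ?_⟩
  swap
  · haveI : Nontrivial ↥T := (Subgroup.nontrivial_iff_ne_bot T).2 hT1
    obtain ⟨w, hw⟩ := exists_prime_orderOf_dvd_card' (G := ↥T) 2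
      (hT.card_eq_or_dvd.resolve_left Finite.one_lt_card.ne')
    have hw' : orderOf (w : G) = 2 := by rw [Subgroup.orderOf_coe]; exact hw
    have hN := CfsgLib.Classif.isCharP_normalizer_of_le hT (A := Subgroup.zpowers (w : G))
      (Subgroup.zpowers_le.2 w.2)
      (by rw [CfsgLib.Classif.normalizer_zpowers_involution hw']; exact hIC _ hw')
    refine (isPConstrained_iff_of_core_eq_bot ?_).2 hN
    rw [eq_bot_iff, ← CfsgLib.PCore.pCore_inf_pPrimeCore (p := 2)]
    exact le_inf (CfsgLib.PCore.pPrimeCore_le_centralizer_pCore.trans hN) le_rfl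
  rw [Subgroup.eq_bot_iff_forall]
  intro x hx
  -- the elementary subgroup `E` of `A`
  obtain ⟨hAS, hSA, hAC⟩ := hA
  have hAcomm : ∀ a ∈ A, ∀ b ∈ A, a * b = b * a := fun a ha b hb =>
    (Subgroup.mem_centralizer_iff.1 (hAC.ge hb).2 a ha)
  let E : Subgroup G :=
    { carrier := {a | a ∈ A ∧ a * a = 1}
      one_mem' := ⟨one_mem A, one_mul 1⟩
      mul_mem' := fun {a b} ha hb => ⟨mul_mem ha.1 hb.1, by
        calc a * b * (a * b) = a * (b * a) * b := by group
          _ = a * (a * b) * b := by rw [hAcomm b hb.1 a ha.1]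
          _ = (a * a) * (b * b) := by group
          _ = 1 := by rw [ha.2, hb.2, one_mul]⟩
      inv_mem' := fun {a} ha => ⟨inv_mem ha.1, by
        rw [← mul_inv_rev, ha.2, inv_one]⟩ }
  have hEn : ∀ s ∈ (S : Subgroup G), ∀ a ∈ E, s * a * s⁻¹ ∈ E := fun s hs a ha =>
    ⟨((Subgroup.mem_normalizer_iff.1 (hSA hs)) a).1 ha.1, by
      calc s * a * s⁻¹ * (s * a * s⁻¹) = s * (a * a) * s⁻¹ := by group
        _ = 1 := by rw [ha.2]; group⟩
  have hE : 4 < Nat.card ↥E := by
    simp only [Cfsg.PRankLE, not_forall, not_le] at hA3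
    obtain ⟨B, hB1, hB2, hB3⟩ := hA3
    refine lt_of_lt_of_le ((show (4 : ℕ) = 2 ^ 2 by norm_num).trans_lt hB3) ?_
    rw [← Subgroup.card_subtype A B]
    refine Nat.le_of_dvd Nat.card_pos (Subgroup.card_dvd_of_le ?_)
    rintro _ ⟨b, hb, rfl⟩
    exact ⟨b.2, by rw [← pow_two]; exact congrArg Subtype.val (hB2 b hb)⟩
  have hES : E ≤ (S : Subgroup G) := fun a ha => hAS ha.1
  haveI hEN : (E.subgroupOf (S : Subgroup G)).Normal :=
    ⟨fun a ha s => Subgroup.mem_subgroupOf.2 (hEn s s.2 a (Subgroup.mem_subgroupOf.1 ha))⟩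
  have hEne : E.subgroupOf (S : Subgroup G) ≠ ⊥ := by
    intro h
    have := Nat.card_congr (Subgroup.subgroupOfEquivOfLe hES).toEquiv
    rw [h, Subgroup.card_bot] at this
    omega
  obtain ⟨z, hzE, hz1, hzc⟩ := CfsgLib.InvChar.exists_ne_one_mem_center S.isPGroup' _ hEne
  have hz2 : orderOf (z : G) = 2 :=
    orderOf_eq_prime (by rw [pow_two]; exact (Subgroup.mem_subgroupOf.1 hzE).2)
      (fun h => hz1 (Subtype.ext h))
  -- `z` inverts `X`
  have hzfix : ∀ c ∈ X, Commute c (z : G) → c = 1 := by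
    intro c hc hcz
    refine fixed_eq_one hIC hX hSX hz2 (z := 1) (fun s hs => Or.inl ?_) hc hcz.eq
    exact mul_inv_eq_iff_eq_mul.2
      (congrArg Subtype.val (Subgroup.mem_center_iff.1 hzc ⟨s, hs⟩))
  have hinv := CfsgLib.InvChar.inverts_of_fixedPointFree hz2
    (fun c hc => ((Subgroup.mem_normalizer_iff.1 (hSX z.2)) c).1 hc) hzfix
  have hXcomm : ∀ a ∈ X, ∀ b ∈ X, a * b = b * a := by
    intro a ha b hb
    have h1 := hinv _ (mul_mem ha hb)
    rw [← conj_mul, hinv a ha, hinv b hb, ← mul_inv_rev] at h1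
    exact (inv_injective h1).symm
  -- the second involution
  haveI hZn : (Subgroup.zpowers z).Normal := ⟨fun a ha s => by
    have : a ∈ Subgroup.center ↥(S : Subgroup G) := Subgroup.zpowers_le.2 hzc ha
    rw [Subgroup.mem_center_iff.1 this s, mul_inv_cancel_right]; exact ha⟩
  haveI hImn : ((E.subgroupOf (S : Subgroup G)).map (QuotientGroup.mk' (Subgroup.zpowers z))).Normal :=
    hEN.map _ (QuotientGroup.mk'_surjective _)
  have hzo : orderOf z = 2 := by rw [← Subgroup.orderOf_coe]; exact hz2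
  have hne : (E.subgroupOf (S : Subgroup G)).map (QuotientGroup.mk' (Subgroup.zpowers z)) ≠ ⊥ := by
    intro h
    rw [Subgroup.map_eq_bot_iff, QuotientGroup.ker_mk'] at h
    have := Subgroup.card_le_of_le h
    rw [Nat.card_congr (Subgroup.subgroupOfEquivOfLe hES).toEquiv, Nat.card_zpowers, hzo] at this
    omega
  obtain ⟨q, hq, hq1, hqc⟩ :=
    CfsgLib.InvChar.exists_ne_one_mem_center (S.isPGroup'.to_quotient _) _ hne
  obtain ⟨t, htE, rfl⟩ := hq
  have htz : ¬ (t ∈ Subgroup.zpowers z) := fun h => hq1 ((QuotientGroup.eq_one_iff t).2 h)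
  have ht2 : orderOf (t : G) = 2 :=
    orderOf_eq_prime (by rw [pow_two]; exact (Subgroup.mem_subgroupOf.1 htE).2)
      (fun h => htz (by rw [show t = 1 from Subtype.ext h]; exact one_mem _))
  have htzcomm : Commute (t : G) (z : G) :=
    congrArg Subtype.val (Subgroup.mem_center_iff.1 hzc t)
  have hmove : ∀ s ∈ (S : Subgroup G), s * t * s⁻¹ = t ∨ s * t * s⁻¹ = t * (z : G) := by
    intro s hs
    have h1 : (⟨s, hs⟩ * t * ⟨s, hs⟩⁻¹ * t⁻¹ : ↥(S : Subgroup G)) ∈ Subgroup.zpowers z := by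
      rw [← QuotientGroup.eq_one_iff]
      simp only [QuotientGroup.mk_mul, QuotientGroup.mk_inv]
      have := Subgroup.mem_center_iff.1 hqc (QuotientGroup.mk' _ ⟨s, hs⟩)
      simp only [QuotientGroup.mk'_apply] at this
      rw [this, mul_inv_cancel_right, mul_inv_cancel]
    rcases CfsgLib.InvChar.eq_one_or_eq_of_mem_zpowers hzo h1 with h | h
    · left
      simpa [mul_inv_eq_one] using congrArg Subtype.val h
    · right
      have := congrArg Subtype.val h
      push_cast at this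
      rw [htzcomm.eq]
      exact mul_inv_eq_iff_eq_mul.1 this
  have htz2 : orderOf ((t : G) * z) = 2 := by
    refine orderOf_eq_prime ?_ ?_
    · rw [htzcomm.mul_pow, pow_two, pow_two, mul_self_eq_one hz2, mul_self_eq_one ht2, one_mul]
    · intro h
      refine htz ?_
      rw [show t = z⁻¹ from Subtype.ext (by push_cast; exact eq_inv_of_mul_eq_one_left h)]
      exact inv_mem (Subgroup.mem_zpowers z)
  have hmove' : ∀ s ∈ (S : Subgroup G), s * ((t : G) * z) * s⁻¹ = t * z ∨
      s * ((t : G) * z) * s⁻¹ = t * z * z := by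
    intro s hs
    have hs' : s * (z : G) * s⁻¹ = z := mul_inv_eq_iff_eq_mul.2
      (congrArg Subtype.val (Subgroup.mem_center_iff.1 hzc ⟨s, hs⟩))
    have he : s * ((t : G) * z) * s⁻¹ = s * t * s⁻¹ * z := by
      rw [← conj_mul, hs']
    rcases hmove s hs with h | h
    · left; rw [he, h]
    · right; rw [he, h]
  have htX : ∀ c ∈ X, (t : G) * c * (t : G)⁻¹ ∈ X := fun c hc =>
    ((Subgroup.mem_normalizer_iff.1 (hSX t.2)) c).1 hc
  have hti : (t : G)⁻¹ = t := inv_eq_of_mul_eq_one_right (mul_self_eq_one ht2)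
  have h2 : (t : G) * x * (t : G)⁻¹ = x⁻¹ := by
    have hw : x * ((t : G) * x * (t : G)⁻¹) = 1 := by
      refine fixed_eq_one hIC hX hSX ht2 hmove (mul_mem hx (htX x hx)) ?_
      have : (t : G) * (x * ((t : G) * x * (t : G)⁻¹)) * (t : G)⁻¹
          = x * ((t : G) * x * (t : G)⁻¹) := by
        rw [← conj_mul]
        have : (t : G) * ((t : G) * x * (t : G)⁻¹) * (t : G)⁻¹ = x := by
          calc (t : G) * ((t : G) * x * (t : G)⁻¹) * (t : G)⁻¹
              = ((t : G) * t) * x * ((t : G) * t)⁻¹ := by group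
            _ = x := by rw [mul_self_eq_one ht2]; group
        rw [this]
        exact hXcomm _ (htX x hx) x hx
      exact (mul_inv_eq_iff_eq_mul.1 this).symm
    exact eq_inv_of_mul_eq_one_right hw
  refine fixed_eq_one hIC hX hSX htz2 hmove' hx ?_
  have h3 : ((t : G) * z) * x * ((t : G) * z)⁻¹ = x := by
    calc ((t : G) * z) * x * ((t : G) * z)⁻¹
        = (t : G) * ((z : G) * x * (z : G)⁻¹) * (t : G)⁻¹ := by group
      _ = ((t : G) * x * (t : G)⁻¹)⁻¹ := by rw [hinv x hx]; group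
      _ = x := by rw [h2, inv_inv]
  exact (mul_inv_eq_iff_eq_mul.1 h3).symm

end Cfsg.Agent.S3246
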