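import Cfsg.Statements.S3247
import Cfsg.Agent.Lib.PLocal.Constraint

set_option autoImplicit false
open Cfsg

namespace Cfsg.Agent.S3247


theorem isPConstrained_of_equiv {G H : Type*} [Group G] [Group H] [Finite G] [Finite H] {p : ℕ}
    [Fact p.Prime] (e : G ≃* H) (h : Cfsg.IsPConstrained p G) : Cfsg.IsPConstrained p H := by
  rw [CfsgLib.PLocal.isPConstrained_iff] at h ⊢
  exact CfsgLib.PLocal.isCharP_of_equiv
    (QuotientGroup.congr _ _ e (CfsgLib.PCore.map_pPrimeCore_equiv e)) h

/-- A group with a normal `p`-subgroup `T` whose centralizer is `p`-constrained is `p`-constrained. -/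
theorem isPConstrained_of_normal_centralizer {H : Type*} [Group H] [Finite H] {p : ℕ} [Fact p.Prime]
    {T : Subgroup H} [T.Normal] (hT : IsPGroup p ↥T)
    (hC : Cfsg.IsPConstrained p ↥(Subgroup.centralizer (T : Set H))) :
    Cfsg.IsPConstrained p H := by
  set C := Subgroup.centralizer (T : Set H) with hCdef
  set N := Cfsg.pPrimeCore p H with hNdef
  set q := QuotientGroup.mk' N with hq
  have hNC : N ≤ C := by
    have h : ⁅N, T⁆ = ⊥ := le_bot_iff.1 ((Subgroup.commutator_le_inf _ _).trans_eq
      ((inf_comm _ _).trans (CfsgLib.PCore.inf_eq_bot_of_isPGroup_coprime hT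
        CfsgLib.PCore.pPrimeCore_coprime)))
    exact Subgroup.commutator_eq_bot_iff_le_centralizer.1 h
  have hCn : (Cfsg.pPrimeCore p ↥C).map C.subtype = N := by
    rw [CfsgLib.PCore.map_pPrimeCore_subtype_of_normal, inf_eq_right.2 hNC]
  have hker : (q.subgroupMap C).ker = Cfsg.pPrimeCore p ↥C := by
    ext c
    rw [MonoidHom.mem_ker, Subtype.ext_iff]
    show q (c : H) = 1 ↔ _
    rw [hq, QuotientGroup.mk'_apply, QuotientGroup.eq_one_iff, ← hCn]
    exact ⟨fun ⟨d, hd, he⟩ => C.subtype_injective he ▸ hd, fun hc => ⟨c, hc, rfl⟩⟩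
  have hchar : CfsgLib.LocalEvenCharP.IsCharP p ↥(C.map q) :=
    CfsgLib.PLocal.isCharP_of_equiv
      ((QuotientGroup.quotientMulEquivOfEq hker.symm).trans
        (QuotientGroup.quotientKerEquivOfSurjective _ (MonoidHom.subgroupMap_surjective q C)))
      (CfsgLib.PLocal.isPConstrained_iff.1 hC)
  rw [CfsgLib.PLocal.isPConstrained_iff]
  refine CfsgLib.LocalEvenCharP.isCharP_of_forall fun c hc hcent => ?_
  have hTq : T.map q ≤ Cfsg.pCore p (H ⧸ N) := CfsgLib.PCore.le_pCore
    (Subgroup.Normal.map inferInstance q (QuotientGroup.mk'_surjective _)) (hT.map q)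
  have hcC : c ∈ C.map q := by
    obtain ⟨x, rfl⟩ := QuotientGroup.mk'_surjective N c
    have hx : x ∈ (Subgroup.centralizer (T.map q : Set (H ⧸ N))).comap q :=
      Subgroup.mem_centralizer_iff.2 fun y hy => (hcent y (hTq hy)).symm
    rw [hq, CfsgLib.PLocal.comap_centralizer_map CfsgLib.PCore.pPrimeCore_coprime hT] at hx
    exact ⟨x, (sup_le hNC le_rfl) hx, rfl⟩
  haveI : (C.map q).Normal :=
    Subgroup.Normal.map inferInstance q (QuotientGroup.mk'_surjective _)
  refine hchar.eq_one_subgroup hcC hc fun x hx => hcent x ?_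
  refine CfsgLib.PCore.le_pCore ?_ (CfsgLib.LocalEvenCharP.isPGroup_pCoreOf p (C.map q)) hx
  rw [Cfsg.pCoreOf, CfsgLib.PCore.map_pCore_subtype_of_normal]
  infer_instance

/-- Let G be a finite group and p a prime; here a p-local subgroup means the normalizer of a nontrivial p-subgroup, other than G itself. If every p-local subgroup of G that is maximal among p-local subgroups is p-constrained, or if the centralizer of every element of order p of G is p-constrained, then every p-local subgroup of G is p-constrained. -/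
theorem result {G : Type*} [Group G] [Finite G] (p : ℕ) [hp : Fact p.Prime]
    (h : (∀ M : Subgroup G, (∃ T : Subgroup G, IsPGroup p ↥T ∧ T ≠ ⊥ ∧ M = Subgroup.normalizer (T : Set G)) → M ≠ ⊤ →
        (∀ M' : Subgroup G, (∃ T' : Subgroup G, IsPGroup p ↥T' ∧ T' ≠ ⊥ ∧ M' = Subgroup.normalizer (T' : Set G)) → M' ≠ ⊤ → M ≤ M' → M = M') →
        Cfsg.IsPConstrained p ↥M) ∨
      (∀ x : G, orderOf x = p → Cfsg.IsPConstrained p ↥(Subgroup.centralizer ({x} : Set G))))
    (T : Subgroup G) (hT : IsPGroup p ↥T) (hT1 : T ≠ ⊥) (hTG : Subgroup.normalizer (T : Set G) ≠ ⊤) :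
    Cfsg.IsPConstrained p ↥(Subgroup.normalizer (T : Set G)) := by
  classical
  set N := Subgroup.normalizer (T : Set G) with hN
  rcases h with hmax | hcen
  · -- `N` lies in a maximal proper `p`-local
    set S := {M : Subgroup G | (∃ T' : Subgroup G, IsPGroup p ↥T' ∧ T' ≠ ⊥ ∧
      M = Subgroup.normalizer (T' : Set G)) ∧ M ≠ ⊤ ∧ N ≤ M} with hSdef
    obtain ⟨M, ⟨hM1, hM2, hNM⟩, hMmax⟩ :=
      (Set.toFinite S).exists_maximal ⟨N, ⟨T, hT, hT1, hN⟩, hTG, le_rfl⟩
    have hMc : Cfsg.IsPConstrained p ↥M := hmax M hM1 hM2 fun M' h1 h2 h3 =>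
      le_antisymm h3 (hMmax ⟨h1, h2, hNM.trans h3⟩ h3)
    have hTM : T ≤ M := Subgroup.le_normalizer.trans hNM
    have hloc := CfsgLib.PLocal.isPConstrained_local (P := T.subgroupOf M)
      (M := Subgroup.normalizer (T.subgroupOf M : Set ↥M)) hMc hT.comap_subtype
      (Subgroup.centralizer_le_normalizer _) le_rfl (Or.inl Subgroup.le_normalizer)
    have hmap : (Subgroup.normalizer (T.subgroupOf M : Set ↥M)).map M.subtype = N := by
      apply le_antisymm
      · rintro _ ⟨x, hx, rfl⟩
        rw [hN, Subgroup.mem_normalizer_iff]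
        intro y
        constructor
        · intro hy
          exact ((Subgroup.mem_normalizer_iff.1 hx) ⟨y, hTM hy⟩).1 hy
        · intro hy
          have hyM : y ∈ M := by
            have h1 := hTM hy
            have h2 := M.mul_mem (M.mul_mem (M.inv_mem x.2) h1) x.2
            simpa [mul_assoc] using h2
          exact ((Subgroup.mem_normalizer_iff.1 hx) ⟨y, hyM⟩).2 hy
      · intro x hx
        refine ⟨⟨x, hNM hx⟩, ?_, rfl⟩
        show (⟨x, hNM hx⟩ : ↥M) ∈ Subgroup.normalizer (T.subgroupOf M : Set ↥M)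
        rw [Subgroup.mem_normalizer_iff]
        intro y
        exact Subgroup.mem_normalizer_iff.1 hx (y : G)
    exact isPConstrained_of_equiv
      ((Subgroup.equivMapOfInjective _ M.subtype M.subtype_injective).trans
        (MulEquiv.subgroupCongr hmap)) hloc
  · -- `C(T)` is `p`-constrained, being a local subgroup of `C(x)`, `x ∈ Z(T)`
    haveI := hT
    haveI : Nontrivial ↥T := (Subgroup.nontrivial_iff_ne_bot T).2 hT1
    have hZ : Nontrivial ↥(Subgroup.center ↥T) := hT.center_nontrivial
    have hpZ : p ∣ Nat.card ↥(Subgroup.center ↥T) := by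
      obtain ⟨k, hk⟩ := (hT.to_subgroup (Subgroup.center ↥T)).exists_card_eq
      rcases Nat.eq_zero_or_pos k with rfl | hk0
      · exfalso
        have := Finite.one_lt_card (α := ↥(Subgroup.center ↥T))
        simp [hk] at this
      · rw [hk]; exact dvd_pow_self p hk0.ne'
    obtain ⟨x, hx⟩ := exists_prime_orderOf_dvd_card' p hpZ
    have hxo : orderOf ((x : ↥T) : G) = p := by
      rw [Subgroup.orderOf_coe, Subgroup.orderOf_coe, hx]
    set X := Subgroup.centralizer ({((x : ↥T) : G)} : Set G) with hX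
    have hTX : T ≤ X := fun t ht => Subgroup.mem_centralizer_singleton_iff.2
      (congrArg Subtype.val (Subgroup.mem_center_iff.1 x.2 ⟨t, ht⟩))
    have hCX : Subgroup.centralizer (T : Set G) ≤ X := fun c hc =>
      Subgroup.mem_centralizer_singleton_iff.2
        (Subgroup.mem_centralizer_iff.1 hc _ (x : ↥T).2).symm
    have hloc := CfsgLib.PLocal.isPConstrained_local (P := T.subgroupOf X)
      (M := Subgroup.centralizer (T.subgroupOf X : Set ↥X)) (hcen _ hxo) hT.comap_subtype
      le_rfl (Subgroup.centralizer_le_normalizer _) (Or.inr le_rfl)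
    set C := (Subgroup.centralizer (T : Set G)).subgroupOf N with hCdef
    have hCN : Subgroup.centralizer (T : Set G) ≤ N := Subgroup.centralizer_le_normalizer _
    have hmap : (Subgroup.centralizer (T.subgroupOf X : Set ↥X)).map X.subtype =
        Subgroup.centralizer (T : Set G) := by
      apply le_antisymm
      · rintro _ ⟨c, hc, rfl⟩
        exact Subgroup.mem_centralizer_iff.2 fun t ht =>
          congrArg Subtype.val (Subgroup.mem_centralizer_iff.1 hc ⟨t, hTX ht⟩ ht)
      · intro c hc
        exact ⟨⟨c, hCX hc⟩, Subgroup.mem_centralizer_iff.2 fun t ht =>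
          Subtype.ext (Subgroup.mem_centralizer_iff.1 hc (t : G) ht), rfl⟩
    have hCc : Cfsg.IsPConstrained p ↥C := isPConstrained_of_equiv
      (((Subgroup.equivMapOfInjective _ X.subtype X.subtype_injective).trans
        (MulEquiv.subgroupCongr hmap)).trans (Subgroup.subgroupOfEquivOfLe hCN).symm) hloc
    have hCeq : C = Subgroup.centralizer (T.subgroupOf N : Set ↥N) := by
      ext c
      rw [hCdef, Subgroup.mem_subgroupOf, Subgroup.mem_centralizer_iff, Subgroup.mem_centralizer_iff]
      constructor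
      · intro h t ht
        exact Subtype.ext (h (t : G) ht)
      · intro h t ht
        exact congrArg Subtype.val (h ⟨t, Subgroup.le_normalizer ht⟩ ht)
    exact isPConstrained_of_normal_centralizer (T := T.subgroupOf N) hT.comap_subtype (hCeq ▸ hCc)

end Cfsg.Agent.S3247
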