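import Cfsg.Statements.S3260
import Cfsg.Agent.Lib.QuadFixed.Reduce

set_option autoImplicit false
open Cfsg

namespace Cfsg.Agent.S3260

/-- Let p ≥ 5 be a prime, G a finite p-constrained group with Sylow p-subgroup S, and A a group of automorphisms of G of order coprime to |G| whose fixed-point subgroup has no section isomorphic to PSL₂(p). Then G = O_{p'}(G) · N_G(Z(J(S))), where J(S) is the subgroup generated by the abelian subgroups of S of largest order. -/
theorem result {G : Type*} [Group G] [Finite G] (p : ℕ) [hp : Fact p.Prime] (hp5 : 5 ≤ p)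
    (hG : Cfsg.IsPConstrained p G) (S : Sylow p G) (A : Subgroup (MulAut G)) (hA : (Nat.card ↥A).Coprime (Nat.card G))
    (C : Subgroup G) (hC : ∀ g : G, g ∈ C ↔ ∀ a ∈ A, a g = g)
    {F : Type*} [Field F] [Fintype F] (hF : Fintype.card F = p)
    (hfix : ¬ Cfsg.Involves (Matrix.ProjectiveSpecialLinearGroup (Fin 2) F) ↥C) :
    Cfsg.pPrimeCore p G ⊔ Subgroup.normalizer (Cfsg.centerThompsonAOf (S : Subgroup G) : Set G) = ⊤ := by
  classical
  by_cases hpG : p ∣ Nat.card G
  swap
  · have hS : (S : Subgroup G) = ⊥ :=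
      CfsgLib.PCore.eq_bot_of_isPGroup_coprime S.isPGroup'
        ((CfsgLib.PCore.coprime_of_not_dvd_card hpG).coprime_dvd_left (S : Subgroup G).card_subgroup_dvd_card)
    have hz : Cfsg.centerThompsonAOf (S : Subgroup G) = ⊥ := by
      rw [CfsgLib.PLocal.centerThompsonAOf_eq, ← CfsgLib.PLocal.zj_zero]
      exact le_bot_iff.1 ((CfsgLib.PLocal.zj_le 0 _).trans hS.le)
    rw [hz, Subgroup.normalizer_eq_top, sup_top_eq]
  rw [CfsgLib.PLocal.centerThompsonAOf_eq, ← CfsgLib.PLocal.zj_zero]
  exact CfsgLib.QuadFixed.sup_normalizer_zj_of_fixed hF hp5 hpG hG S A hA C hC hfix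

end Cfsg.Agent.S3260
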