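import Cfsg.Statements.S3262
import Cfsg.Agent.Lib.TwoTransAFive.Glue
import Cfsg.Agent.Lib.TwoTransAFive.Even
import Cfsg.Agent.Lib.TwoTransAFive.SwapT
import Cfsg.Agent.Lib.TwoTransAFive.OddHigh

set_option autoImplicit false
open Cfsg

namespace Cfsg.Agent.S3262

open CfsgLib.TwoTransAFive in
/-- Let G be a finite doubly transitive permutation group on a set Ω with no regular normal subgroup, in which the stabilizer of two points is isomorphic to the alternating group A₅. Then either Ω has 7 points and G ≅ A₇, or Ω has 12 points and G is isomorphic to the Mathieu group M₁₁. -/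
theorem result {G : Type*} [Group G] [Finite G] {Ω : Type*} [Fintype Ω] [MulAction G Ω] [FaithfulSMul G Ω]
    (h2 : MulAction.IsMultiplyPretransitive G Ω 2) (a b : Ω) (hab : a ≠ b)
    (hnr : ∀ N : Subgroup G, N.Normal → MulAction.IsPretransitive ↥N Ω → (∀ x : Ω, MulAction.stabilizer ↥N x = ⊥) → False)
    (e : ↥(MulAction.stabilizer G a ⊓ MulAction.stabilizer G b) ≃* ↥(alternatingGroup (Fin 5))) :
    (Fintype.card Ω = 7 ∧ Nonempty (G ≃* ↥(alternatingGroup (Fin 7)))) ∨ (Fintype.card Ω = 12 ∧ Cfsg.Spor.IsoM11 G) := by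
  have H : Hyp G Ω := hyp_of h2 hab hnr e
  rcases Nat.even_or_odd (Nat.card Ω) with he | ho
  · have h12 := H.eq_twelve_of_even he
    exact Or.inr ⟨by rw [← Nat.card_eq_fintype_card, h12], H.isoM11_of_twelve h12⟩
  · by_cases hB : NoExtra Ω G
    · rcases eq_or_lt_of_le H.hNum_le_fNum with hhf | hlt
      · have h7 : Fintype.card Ω = 7 := by rw [← Nat.card_eq_fintype_card, H.eq_seven_of_noExtra ho hB hhf]
        exact Or.inl ⟨h7, H.alt_seven h7⟩
      · exact (H.false_of_noExtra_low ho hB hlt).elim
    · obtain ⟨p, q, z, hz⟩ := H.exists_swap ho hB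
      by_cases hT : IsT Ω z
      · exact (H.false_of_swap_T ho hz hT).elim
      · exact (H.false_of_swap_one ho hz hT).elim

end Cfsg.Agent.S3262
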