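import Cfsg.Statements.S3265
import Cfsg.Agent.Lib.Involutions.OddProductPerm

set_option autoImplicit false
open Cfsg

namespace Cfsg.Agent.S3265

open Equiv CfsgLib.Involutions

theorem common {n : ℕ} (hn : 5 ≤ n) {t : Perm (Fin n)} (ht : t * t = 1) :
    ∀ x y : Perm (Fin n), IsConj t x → IsConj t y →
      ∃ z, z * z = 1 ∧ Odd (orderOf (x * z)) ∧ Odd (orderOf (y * z)) := by
  intro x y hx hy
  have inv : ∀ {w : Perm (Fin n)}, IsConj t w → w * w = 1 := fun {w} hw => by
    obtain ⟨c, rfl⟩ := isConj_iff.mp hw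
    rw [conj_mul, ht, mul_one, mul_inv_cancel]
  have card : ∀ {w : Perm (Fin n)}, IsConj t w → w.support.card = t.support.card := fun {w} hw => by
    rw [← Perm.sum_cycleType, ← Perm.sum_cycleType, Perm.isConj_iff_cycleType_eq.mp hw]
  obtain ⟨z, ⟨hz, -⟩, h1, h2⟩ := OddProductPerm.exists_sol _ Finset.univ x y rfl
    ⟨inv hx, fun p hp => absurd (Finset.mem_univ p) hp⟩ ⟨inv hy, fun p hp => absurd (Finset.mem_univ p) hp⟩
    ((card hx).trans (card hy).symm) (fun h => by
      have := h.1
      rw [Finset.card_univ, Fintype.card_fin] at this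
      omega)
  exact ⟨z, hz, h1, h2⟩

theorem exists_commuting {n : ℕ} (hn : 5 ≤ n) {t : Perm (Fin n)} (ht : t * t = 1) (hne : t ≠ 1) :
    ∃ y, IsConj t y ∧ y ≠ t ∧ Commute t y := by
  have hinv : ∀ w, t (t w) = w := fun w => OddProductPerm.app_app ht w
  obtain ⟨a, ha⟩ : ∃ a, t a ≠ a := by
    by_contra h
    push Not at h
    exact hne (Equiv.ext h)
  by_cases h2 : ∃ c, t c ≠ c ∧ c ≠ a ∧ c ≠ t a
  · obtain ⟨c, hc, hca, hcb⟩ := h2
    refine ⟨swap (t a) c * t * (swap (t a) c)⁻¹, isConj_iff.mpr ⟨_, rfl⟩, fun e => ?_, ?_⟩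
    · have := congrArg (fun f : Perm (Fin n) => f a) e
      simp only [swap_inv, Perm.mul_apply, swap_apply_of_ne_of_ne ha.symm hca.symm, swap_apply_left] at this
      exact hcb this
    · refine Equiv.ext fun w => ?_
      simp only [swap_inv, Perm.mul_apply, swap_apply_def]
      grind
  · push Not at h2
    have ht' : t = swap a (t a) := Equiv.ext fun w => by
      by_cases h : t w = w
      · rw [h, swap_apply_of_ne_of_ne]
        · intro e; exact ha (e ▸ h)
        · intro e; rw [e, hinv] at h; exact ha h.symm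
      · by_cases hwa : w = a
        · rw [hwa, swap_apply_left]
        · rw [h2 w h hwa, swap_apply_right, hinv]
    obtain ⟨c, d, hcd, hsub⟩ : ∃ c d, c ≠ d ∧ c ∈ ({a, t a} : Finset (Fin n))ᶜ ∧ d ∈ ({a, t a} : Finset (Fin n))ᶜ := by
      have : 1 < (({a, t a} : Finset (Fin n))ᶜ).card := by
        rw [Finset.card_compl, Fintype.card_fin]
        have := Finset.card_le_two (a := a) (b := t a)
        omega
      obtain ⟨c, hc, d, hd, hcd⟩ := Finset.one_lt_card.mp this
      exact ⟨c, d, hcd, hc, hd⟩
    simp only [Finset.mem_compl, Finset.mem_insert, Finset.mem_singleton, not_or] at hsub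
    obtain ⟨⟨c1, c2⟩, d1, d2⟩ := hsub
    refine ⟨swap c d, ?_, fun e => ?_, ?_⟩
    · rw [ht']; exact Perm.isConj_swap ha.symm hcd
    · have := congrArg (fun f : Perm (Fin n) => f c) e
      simp only [swap_apply_left] at this
      rw [ht', swap_apply_of_ne_of_ne c1 c2] at this
      exact hcd this.symm
    · have h3 : t c = c := by rw [ht', swap_apply_of_ne_of_ne c1 c2]
      have h4 : t d = d := by rw [ht', swap_apply_of_ne_of_ne d1 d2]
      exact OddProductPerm.swap_comm_of_fix h3 h4

/-- Let n ≥ 5 and let X be a conjugacy class of involutions of the symmetric group of degree n. The graph on X joining two distinct involutions whose product has odd order is connected and has diameter exactly 2. -/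
theorem result (n : ℕ) (hn : 5 ≤ n) (t : Equiv.Perm (Fin n)) (ht : orderOf t = 2) :
    (SimpleGraph.fromRel fun x y : {x : Equiv.Perm (Fin n) // IsConj t x} =>
        Odd (orderOf (x.1 * y.1))).Connected ∧
      (SimpleGraph.fromRel fun x y : {x : Equiv.Perm (Fin n) // IsConj t x} =>
        Odd (orderOf (x.1 * y.1))).diam = 2 := by
  have ht2 : t * t = 1 := by rw [← pow_two, ← ht, pow_orderOf_eq_one]
  refine CfsgLib.Involutions.OddGraph.connected_diam_two ht2 (common hn ht2) (exists_commuting hn ht2 ?_)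
  intro h1
  rw [h1, orderOf_one] at ht
  omega

end Cfsg.Agent.S3265
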