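import Cfsg.Statements.S3266
import Cfsg.Agent.Lib.Involutions.OddGraph
import Cfsg.Agent.Lib.PSL2.Involution
import Cfsg.Agent.Lib.SpecLin.SLTwoTrace

set_option autoImplicit false
open Cfsg

namespace Cfsg.Agent.S3266

open Matrix CfsgLib.SpecLin.SLTwo CfsgLib.Involutions.OddGraph

variable {F : Type*} [Field F] [Fintype F]

local notation "SL2" => Matrix.SpecialLinearGroup (Fin 2) F
local notation "PSL" => Matrix.ProjectiveSpecialLinearGroup (Fin 2) F
local notation "M2" => Matrix (Fin 2) (Fin 2) F

/-- an element of `SL₂` from its entries -/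
def mkSL (a b c d : F) (h : a * d - b * c = 1) : SL2 := ⟨!![a, b; c, d], by rw [det_fin_two_of]; exact h⟩

theorem trace_mkSL_mul (a b c d : F) (h : a * d - b * c = 1) (M : SL2) :
    ((mkSL a b c d h * M : SL2) : M2).trace =
      a * (M : M2) 0 0 + b * (M : M2) 1 0 + c * (M : M2) 0 1 + d * (M : M2) 1 1 := by
  rw [Matrix.trace_fin_two, Matrix.SpecialLinearGroup.coe_mul, Matrix.mul_apply, Matrix.mul_apply]
  simp [mkSL, Fin.sum_univ_two]; ring

theorem odd_q (h2 : (2 : F) ≠ 0) : Fintype.card F % 2 = 1 := odd_card h2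

theorem even_q (h2 : (2 : F) = 0) : Even (Fintype.card F) := by
  have : CharP F 2 := CharTwo.of_one_ne_zero_of_two_eq_zero one_ne_zero h2
  obtain ⟨n, -, hn⟩ := FiniteField.card F 2
  rw [hn]
  exact Nat.even_pow.mpr ⟨even_two, n.pos.ne'⟩

/-- Trace `±2`: the image has odd order. -/
theorem odd_of_unipotent (h2 : (2 : F) ≠ 0) {M : SL2} (h : (M : M2).trace ^ 2 = 4) :
    Odd (orderOf (QuotientGroup.mk M : PSL)) := by
  obtain ⟨p, hp⟩ := CharP.exists F
  have : Fact p.Prime := ⟨CharP.char_is_prime F p⟩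
  have hpo : Odd p := (Fact.out : p.Prime).odd_of_ne_two fun e => by
    subst e; exact h2 (CharP.cast_eq_zero F 2)
  refine hpo.of_dvd_nat (orderOf_dvd_of_pow_eq_one ?_)
  rw [← QuotientGroup.mk_pow, QuotientGroup.eq_one_iff]
  exact pow_char_mem_center p h

/-- A split element, when `q ≡ 3 (mod 4)`: the image has odd order. -/
theorem odd_of_split (h2 : (2 : F) ≠ 0) (h3 : Fintype.card F % 4 = 3) {M : SL2} {r : F}
    (hr : r * r - (M : M2).trace * r + 1 = 0) : Odd (orderOf (QuotientGroup.mk M : PSL)) := by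
  by_cases h : (M : M2).trace ^ 2 = 4
  · exact odd_of_unipotent h2 h
  have hodd : Odd ((Fintype.card F - 1) / 2) := Nat.odd_iff.mpr (by omega)
  refine hodd.of_dvd_nat (orderOf_dvd_of_pow_eq_one ?_)
  rw [← QuotientGroup.mk_pow, QuotientGroup.eq_one_iff]
  refine CfsgLib.PSL2.mem_center_of_sq_eq_one h2 ?_
  rw [← pow_mul, show (Fintype.card F - 1) / 2 * 2 = Fintype.card F - 1 by omega]
  exact pow_card_sub_one_of_root h hr

/-- Characteristic two: non-zero trace gives odd order. -/
theorem odd_of_trace_ne_zero (h2 : (2 : F) = 0) {M : SL2} (h : (M : M2).trace ≠ 0) :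
    Odd (orderOf (QuotientGroup.mk M : PSL)) := by
  have hq := even_q h2
  have hq1 : 1 < Fintype.card F := Fintype.one_lt_card
  have hne : (M : M2).trace ^ 2 ≠ 4 := fun e => h (by
    have h4 : (4 : F) = 0 := by linear_combination (2 : F) * h2
    rw [h4] at e
    exact (pow_eq_zero_iff two_ne_zero).mp e)
  have hpow : M ^ (Fintype.card F - 1) = 1 ∨ M ^ (Fintype.card F + 1) = 1 := by
    by_cases hr : ∃ r : F, r * r - (M : M2).trace * r + 1 = 0
    · exact Or.inl (pow_card_sub_one_of_root hne hr.choose_spec)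
    · exact Or.inr (pow_card_add_one_of_no_root (not_exists.mp hr))
  obtain ⟨k, hk⟩ := hq
  rcases hpow with h' | h'
  · exact (Nat.odd_iff.mpr (by omega) : Odd (Fintype.card F - 1)).of_dvd_nat
      (orderOf_dvd_of_pow_eq_one (by rw [← QuotientGroup.mk_pow, h', QuotientGroup.mk_one]))
  · exact (Nat.odd_iff.mpr (by omega) : Odd (Fintype.card F + 1)).of_dvd_nat
      (orderOf_dvd_of_pow_eq_one (by rw [← QuotientGroup.mk_pow, h', QuotientGroup.mk_one]))

theorem mk_sq_one {M : SL2} (h : (M : M2).trace = 0) :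
    (QuotientGroup.mk M : PSL) * QuotientGroup.mk M = 1 := by
  rw [← pow_two]; exact sq_eq_one_of_trace_eq_zero h

/-- An involution of the quotient lifts to trace zero, and is not scalar. -/
theorem lift_invol {x : PSL} (hx : x * x = 1) (hx1 : x ≠ 1) :
    ∃ M : SL2, QuotientGroup.mk M = x ∧ (M : M2).trace = 0 ∧ ∀ s : F, (M : M2) ≠ s • 1 := by
  obtain ⟨M, rfl⟩ := QuotientGroup.mk_surjective x
  have ho : orderOf (QuotientGroup.mk M : PSL) = 2 := orderOf_eq_prime (by rw [pow_two, hx]) hx1
  refine ⟨M, rfl, ?_⟩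
  by_cases h2 : (2 : F) = 0
  · have hns : ∀ s : F, (M : M2) ≠ s • 1 := fun s h =>
      hx1 ((QuotientGroup.eq_one_iff M).2 (mem_center_of_scalar h))
    refine ⟨?_, hns⟩
    have hc : M ^ 2 ∈ Subgroup.center SL2 := by
      rw [← QuotientGroup.eq_one_iff, QuotientGroup.mk_pow, pow_two, hx]
    have hneg : (-1 : F) = 1 := by linear_combination -h2
    have hMM : (M : M2) * M = 1 := by
      rcases mem_center_iff'.1 hc with h | h <;> rw [sq] at h <;> change (M : M2) * M = _ at h
      · exact h
      · rw [h]; ext i j; fin_cases i <;> fin_cases j <;> simp [hneg]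
    by_contra ht
    have h1 := CfsgLib.SpecLin.SLTwo.sq_eq (M : M2) M.2
    rw [hMM, eq_sub_iff_add_eq] at h1
    have h0 : (1 : M2) + 1 = 0 := by
      rw [show (1 : M2) + 1 = (2 : F) • 1 by rw [two_smul], h2, zero_smul]
    rw [h0, eq_comm, smul_eq_zero] at h1
    exact hns 0 (by rw [h1.resolve_left ht, zero_smul])
  · exact ⟨(CfsgLib.PSL2.lift_orderOf_two h2 ho).2.1, (CfsgLib.PSL2.lift_orderOf_two h2 ho).2.2⟩

/-- every involution is conjugate to a reference one -/
theorem conj_ref {x : PSL} (hx : x * x = 1) (hx1 : x ≠ 1) {N : SL2} (hN : (N : M2).trace = 0)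
    (hNs : ∀ s : F, (N : M2) ≠ s • 1) : IsConj x (QuotientGroup.mk N) := by
  obtain ⟨M, rfl, hM, hMs⟩ := lift_invol hx hx1
  refine (QuotientGroup.mk' _).map_isConj (isConj_of_trace_eq ?_ hMs hNs (hM.trans hN.symm))
  by_cases h2 : (2 : F) = 0
  · exact Or.inl h2
  · refine Or.inr ?_
    rw [hM]
    intro e
    exact mul_ne_zero h2 h2 (by linear_combination -e)

/-- The exceptional field of seven elements. -/
theorem seven_check : ∀ a b c : ZMod 7, a * a + b * c = -1 →
    ∃ u v w : ZMod 7, u * u + v * w = -1 ∧ (∃ r, r * r - (v - w) * r + 1 = 0) ∧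
      ∃ r, r * r - (2 * a * u + b * w + c * v) * r + 1 = 0 := by
  decide +kernel

open Polynomial in
/-- A cubic with three distinct roots takes a non-square value: otherwise `2h^((q+1)/2) - 2h - (X^q - X)h'`
has too many roots. -/
theorem exists_nonsquare (h3 : Fintype.card F % 4 = 3) (h4 : 10 ≤ Fintype.card F) {e₁ e₂ : F} (h1 : e₁ ≠ 0)
    (h2 : e₂ ≠ 0) (h12 : e₁ ≠ e₂) {m : F} (hm : m ≠ 0) :
    ∃ t, t ≠ 0 ∧ t ≠ e₁ ∧ t ≠ e₂ ∧ ¬ IsSquare (m * (t * (t - e₁) * (t - e₂))) := by
  classical
  by_contra hcon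
  push Not at hcon
  have two0 : (2 : F) ≠ 0 := fun e => by
    obtain ⟨k, hk⟩ := even_q e
    omega
  have hq0 : (Fintype.card F : F) = 0 := FiniteField.cast_card_eq_zero F
  set q := Fintype.card F with hq
  set N := (q - 1) / 2 with hN
  have hqN : q = 2 * N + 1 := by omega
  set h : F[X] := C m * (X * (X - C e₁) * (X - C e₂)) with hh
  have hdeg : h.natDegree = 3 := by
    rw [hh, natDegree_C_mul hm, natDegree_mul (mul_ne_zero X_ne_zero (X_sub_C_ne_zero _)) (X_sub_C_ne_zero _),
      natDegree_mul X_ne_zero (X_sub_C_ne_zero _), natDegree_X, natDegree_X_sub_C, natDegree_X_sub_C]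
  have hev : ∀ t, h.eval t = m * (t * (t - e₁) * (t - e₂)) := fun t => by simp [hh]
  set P : F[X] := C 2 * h ^ (N + 1) - (C 2 * h + (X ^ q - X) * derivative h) with hP
  have hdegP : P.natDegree = 3 * (N + 1) := by
    have hl : (C 2 * h ^ (N + 1)).natDegree = 3 * (N + 1) := by
      rw [natDegree_C_mul two0, natDegree_pow, hdeg, mul_comm]
    have hr : (C 2 * h + (X ^ q - X) * derivative h).natDegree ≤ q + 2 := by
      refine natDegree_add_le_of_degree_le ?_ ?_
      · rw [natDegree_C_mul two0, hdeg]; omega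
      · refine natDegree_mul_le.trans (Nat.add_le_add ?_ ?_)
        · exact (natDegree_sub_le _ _).trans (by rw [natDegree_X_pow, natDegree_X]; omega)
        · exact (natDegree_derivative_le h).trans (by omega)
    rw [hP, natDegree_sub_eq_left_of_natDegree_lt (by omega), hl]
  have hP0 : P ≠ 0 := fun e => by rw [e, natDegree_zero] at hdegP; omega
  have hroot : ∀ t, h.eval t = 0 → P.IsRoot t := fun t ht => by
    simp [hP, ht, hq, FiniteField.pow_card]
  have hsq : ∀ t, t ≠ 0 → t ≠ e₁ → t ≠ e₂ → (h.eval t) ^ N = 1 := fun t a b c => by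
    obtain ⟨s, hs⟩ := hcon t a b c
    have hs0 : s ≠ 0 := fun e => by
      rw [e, mul_zero] at hs
      simp [hm, a, sub_eq_zero, b, c] at hs
    rw [hev, hs, ← sq, ← pow_mul, show 2 * N = q - 1 by omega]
    exact FiniteField.pow_card_sub_one_eq_one s hs0
  have hdouble : ∀ t, t ≠ 0 → t ≠ e₁ → t ≠ e₂ → 2 ≤ P.rootMultiplicity t := fun t a b c => by
    refine (one_lt_rootMultiplicity_iff_isRoot hP0).mpr ⟨?_, ?_⟩
    · simp [hP, hq, FiniteField.pow_card, pow_succ, hsq t a b c]
    · have hN2 : (2 : F) * (N + 1 : ℕ) = 1 := by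
        have : ((2 * (N + 1) : ℕ) : F) = ((q + 1 : ℕ) : F) := by congr 1; omega
        push_cast [hq0] at this ⊢
        linear_combination this
      simp only [IsRoot, hP, derivative_sub, derivative_add, derivative_mul, derivative_C, zero_mul, zero_add,
        derivative_pow, derivative_X_pow, derivative_X, eval_sub, eval_add, eval_mul, eval_C, eval_pow, eval_X,
        eval_one, mul_one, hq0, Nat.add_sub_cancel, hsq t a b c, FiniteField.pow_card, sub_self]
      push_cast at hN2 ⊢
      have e : t ^ q = t := FiniteField.pow_card t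
      rw [e]
      linear_combination (eval t (derivative h)) * hN2
  have hge : ∀ t, (if t ∈ ({0, e₁, e₂} : Finset F) then 1 else 2) ≤ P.roots.count t := fun t => by
    rw [count_roots]
    by_cases ht : t ∈ ({0, e₁, e₂} : Finset F)
    · rw [if_pos ht]
      refine (rootMultiplicity_pos hP0).mpr (hroot t ?_)
      simp only [Finset.mem_insert, Finset.mem_singleton] at ht
      rcases ht with rfl | rfl | rfl <;> simp [hev]
    · rw [if_neg ht]
      simp only [Finset.mem_insert, Finset.mem_singleton, not_or] at ht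
      exact hdouble t ht.1 ht.2.1 ht.2.2
  have hsum := Finset.sum_le_sum (s := Finset.univ) fun t _ => hge t
  rw [Multiset.sum_count_eq_card (fun a _ => Finset.mem_univ a), Finset.sum_ite] at hsum
  have hc3 : ({0, e₁, e₂} : Finset F).card = 3 := by simp [h1.symm, h2.symm, h12]
  have hcr := card_roots' P
  simp only [Finset.filter_mem_eq_inter, Finset.univ_inter, Finset.sum_const, smul_eq_mul, mul_one, hc3,
    Finset.filter_not, Finset.card_sdiff_of_subset (Finset.subset_univ _), Finset.card_univ] at hsum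
  omega

/-- the reference involution in odd characteristic -/
abbrev refJ : SL2 := mkSL 0 (-1) 1 0 (by ring)

theorem refJ_trace : ((refJ : SL2) : M2).trace = 0 := by simp [mkSL, Matrix.trace_fin_two]

theorem refJ_not_scalar : ∀ s : F, ((refJ : SL2) : M2) ≠ s • 1 := fun s h => by
  have := congrFun (congrFun h 1) 0
  simp [mkSL] at this

/-- two involutions have a common odd neighbour, the first in normal form -/
theorem common_ref_three (h2 : (2 : F) ≠ 0) (h3 : Fintype.card F % 4 = 3) (h4 : 4 ≤ Fintype.card F)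
    (B : SL2) (hB : (B : M2).trace = 0) :
    ∃ z : PSL, z * z = 1 ∧ Odd (orderOf (QuotientGroup.mk refJ * z)) ∧
      Odd (orderOf (QuotientGroup.mk B * z)) := by
  have hneg : ¬ IsSquare (-1 : F) := fun h => FiniteField.isSquare_neg_one_iff.mp h h3
  set a := (B : M2) 0 0 with ha
  set b := (B : M2) 0 1 with hb
  set c := (B : M2) 1 0 with hc
  have hd : (B : M2) 1 1 = -a := by
    rw [Matrix.trace_fin_two] at hB
    linear_combination hB
  have hdet : a * a + b * c = -1 := by
    have := B.2
    rw [Matrix.det_fin_two, ← ha, ← hb, ← hc, hd] at this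
    linear_combination -this
  have hb0 : b ≠ 0 := fun e => hneg ⟨a, by rw [e] at hdet; linear_combination -hdet⟩
  have hc0 : c ≠ 0 := fun e => hneg ⟨a, by rw [e] at hdet; linear_combination -hdet⟩
  by_cases ha0 : a = 0
  · -- they share a pair
    refine ⟨QuotientGroup.mk refJ, mk_sq_one refJ_trace, by rw [mk_sq_one refJ_trace, orderOf_one]; exact odd_one, ?_⟩
    rw [orderOf_mul_comm_invol (mk_sq_one refJ_trace) (mk_sq_one hB), ← QuotientGroup.mk_mul]
    refine odd_of_split h2 h3 (r := b) ?_
    rw [trace_mkSL_mul, ← ha, ← hb, ← hc, hd, ha0]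
    rw [ha0] at hdet
    linear_combination hdet
  by_cases h7 : Fintype.card F = 7
  · have : Fact (Nat.Prime 7) := ⟨by norm_num⟩
    let φ : ZMod 7 ≃+* F := ZMod.ringEquivOfPrime F (by norm_num) h7
    obtain ⟨u, v, w, huv, ⟨r, hr⟩, r', hr'⟩ := seven_check (φ.symm a) (φ.symm b) (φ.symm c)
      (by rw [← map_mul, ← map_mul, ← map_add, hdet, map_neg, map_one])
    have huv' := congrArg φ huv
    have hr1 := congrArg φ hr
    have hr2 := congrArg φ hr'
    simp only [map_add, map_sub, map_mul, map_neg, map_one, map_ofNat, map_zero, RingEquiv.apply_symm_apply] at huv' hr1 hr2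
    let C : SL2 := mkSL (φ u) (φ v) (φ w) (-φ u) (by linear_combination -huv')
    have hC : (C : M2).trace = 0 := by simp [C, mkSL, Matrix.trace_fin_two]
    refine ⟨QuotientGroup.mk C, mk_sq_one hC, ?_, ?_⟩
    · rw [← QuotientGroup.mk_mul]
      refine odd_of_split h2 h3 (r := φ r) ?_
      rw [trace_mkSL_mul]
      simp [C, mkSL]
      linear_combination hr1
    · rw [orderOf_mul_comm_invol (mk_sq_one hC) (mk_sq_one hB), ← QuotientGroup.mk_mul]
      refine odd_of_split h2 h3 (r := φ r') ?_
      rw [trace_mkSL_mul, ← ha, ← hb, ← hc, hd]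
      linear_combination hr2
  have hroots : -b / a ≠ a / c := by
    intro e
    rw [div_eq_div_iff ha0 hc0] at e
    exact one_ne_zero (α := F) (by linear_combination hdet + e)
  obtain ⟨t, t0, t1, t2, hns⟩ := exists_nonsquare h3 (by omega) (e₁ := -b / a) (e₂ := a / c)
    (div_ne_zero (neg_ne_zero.2 hb0) ha0) (div_ne_zero ha0 hc0) hroots (m := a * c) (mul_ne_zero ha0 hc0)
  set k := t * (a * t + b) / (c * t - a) with hk
  have hden : c * t - a ≠ 0 := fun e => t2 (by field_simp; linear_combination e)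
  have hk0 : k ≠ 0 := div_ne_zero (mul_ne_zero t0 fun e => t1 (by field_simp; linear_combination e)) hden
  have hkn : ¬ IsSquare k := by
    rintro ⟨s, hs⟩
    apply hns
    refine ⟨s * (c * t - a), ?_⟩
    rw [hk, div_eq_iff hden] at hs
    rw [show a * c * (t * (t - -b / a) * (t - a / c)) = t * (a * t + b) * (c * t - a) by field_simp; ring]
    linear_combination (c * t - a) * hs
  obtain ⟨s, hs⟩ : IsSquare (-k) := by
    rw [show -k = (-1) * k by ring]
    exact CfsgLib.PSL2.isSquare_mul_of_not hneg hkn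
  have hs0 : s ≠ 0 := fun e => hk0 (by rw [e] at hs; linear_combination -hs)
  let C : SL2 := mkSL 0 (k / s) (1 / s) 0 (by field_simp; linear_combination hs)
  have hC : (C : M2).trace = 0 := by simp [C, mkSL, Matrix.trace_fin_two]
  refine ⟨QuotientGroup.mk C, mk_sq_one hC, ?_, ?_⟩
  · rw [← QuotientGroup.mk_mul]
    refine odd_of_split h2 h3 (r := -1 / s) ?_
    rw [trace_mkSL_mul]
    simp [C, mkSL]
    field_simp
    linear_combination -hs
  · rw [orderOf_mul_comm_invol (mk_sq_one hC) (mk_sq_one hB), ← QuotientGroup.mk_mul]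
    refine odd_of_split h2 h3 (r := (c * k - a * t) / s) ?_
    rw [trace_mkSL_mul, ← ha, ← hb, ← hc, hd]
    have hk' : k * (c * t - a) = t * (a * t + b) := by rw [hk, div_mul_cancel₀ _ hden]
    field_simp
    linear_combination -hs - a * hk' - k * hdet


/-- two involutions have a common odd neighbour when `-1` is a square -/
theorem common_ref_one (h2 : (2 : F) ≠ 0) {i : F} (hi : i * i = -1) (B : SL2) (hB : (B : M2).trace = 0) :
    ∃ z : PSL, z * z = 1 ∧
      Odd (orderOf (QuotientGroup.mk (mkSL i 0 0 (-i) (by linear_combination -hi)) * z)) ∧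
      Odd (orderOf (QuotientGroup.mk B * z)) := by
  set R : SL2 := mkSL i 0 0 (-i) (by linear_combination -hi) with hR
  have hRt : (R : M2).trace = 0 := by simp [hR, mkSL, Matrix.trace_fin_two]
  set a := (B : M2) 0 0 with ha
  set b := (B : M2) 0 1 with hb
  set c := (B : M2) 1 0 with hc
  have hd : (B : M2) 1 1 = -a := by
    rw [Matrix.trace_fin_two] at hB
    linear_combination hB
  have hdet : a * a + b * c = -1 := by
    have := B.2
    rw [Matrix.det_fin_two, ← ha, ← hb, ← hc, hd] at this
    linear_combination -this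
  by_cases hc0 : c = 0
  · refine ⟨QuotientGroup.mk R, mk_sq_one hRt, by rw [mk_sq_one hRt, orderOf_one]; exact odd_one, ?_⟩
    rw [orderOf_mul_comm_invol (mk_sq_one hRt) (mk_sq_one hB), ← QuotientGroup.mk_mul]
    refine odd_of_unipotent h2 ?_
    rw [hR, trace_mkSL_mul, ← ha, ← hb, ← hc, hd]
    rw [hc0] at hdet
    linear_combination (4 * a * a) * hi - 4 * hdet
  · let C : SL2 := mkSL i (-2 * i * ((a + i) / c)) 0 (-i) (by linear_combination -hi)
    have hC : (C : M2).trace = 0 := by simp [C, mkSL, Matrix.trace_fin_two]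
    refine ⟨QuotientGroup.mk C, mk_sq_one hC, ?_, ?_⟩
    · rw [← QuotientGroup.mk_mul]
      refine odd_of_unipotent h2 ?_
      rw [hR, trace_mkSL_mul]
      simp [C, mkSL]
      linear_combination (4 * i * i - 4) * hi
    · rw [orderOf_mul_comm_invol (mk_sq_one hC) (mk_sq_one hB), ← QuotientGroup.mk_mul]
      refine odd_of_unipotent h2 ?_
      rw [trace_mkSL_mul, ← ha, ← hb, ← hc, hd]
      field_simp
      linear_combination (4 * i * i - 4) * hi

/-- two involutions have a common odd neighbour in characteristic two -/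
theorem common_ref_two (h2 : (2 : F) = 0) (B : SL2) (hB : (B : M2).trace = 0)
    (hBs : ∀ s : F, (B : M2) ≠ s • 1) :
    ∃ z : PSL, z * z = 1 ∧ Odd (orderOf (QuotientGroup.mk (mkSL (1 : F) 1 0 1 (by ring)) * z)) ∧
      Odd (orderOf (QuotientGroup.mk B * z)) := by
  set a := (B : M2) 0 0 with ha
  set b := (B : M2) 0 1 with hb
  set c := (B : M2) 1 0 with hc
  have hd : (B : M2) 1 1 = a := by
    rw [Matrix.trace_fin_two] at hB
    linear_combination hB - a * h2
  by_cases hb0 : b = 0
  · have hc0 : c ≠ 0 := fun e => hBs a <| by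
      ext i j
      fin_cases i <;> fin_cases j <;> simp [← ha, ← hb, ← hc, hd, hb0, e]
    let C : SL2 := mkSL 0 1 1 0 (by linear_combination -h2)
    have hC : (C : M2).trace = 0 := by simp [C, mkSL, Matrix.trace_fin_two]
    refine ⟨QuotientGroup.mk C, mk_sq_one hC, ?_, ?_⟩
    · rw [← QuotientGroup.mk_mul]
      refine odd_of_trace_ne_zero h2 ?_
      rw [trace_mkSL_mul]
      simp [C, mkSL]
    · rw [orderOf_mul_comm_invol (mk_sq_one hC) (mk_sq_one hB), ← QuotientGroup.mk_mul]
      refine odd_of_trace_ne_zero h2 ?_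
      rw [trace_mkSL_mul, ← ha, ← hb, ← hc, hd, hb0]
      simpa using hc0
  · let C : SL2 := mkSL 1 0 1 1 (by ring)
    have hC : (C : M2).trace = 0 := by
      simp only [C, mkSL, Matrix.trace_fin_two]
      simp
      linear_combination h2
    refine ⟨QuotientGroup.mk C, mk_sq_one hC, ?_, ?_⟩
    · rw [← QuotientGroup.mk_mul]
      refine odd_of_trace_ne_zero h2 ?_
      rw [trace_mkSL_mul]
      simp [C, mkSL]
      exact fun e => one_ne_zero (α := F) (by linear_combination e - h2)
    · rw [orderOf_mul_comm_invol (mk_sq_one hC) (mk_sq_one hB), ← QuotientGroup.mk_mul]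
      refine odd_of_trace_ne_zero h2 ?_
      rw [trace_mkSL_mul, ← ha, ← hb, ← hc, hd]
      exact fun e => hb0 (by linear_combination e - a * h2)

/-- a reference involution with the common-neighbour property -/
theorem exists_ref (h4 : 4 ≤ Fintype.card F) :
    ∃ R : SL2, (R : M2).trace = 0 ∧ (∀ s : F, (R : M2) ≠ s • 1) ∧
      ∀ B : SL2, (B : M2).trace = 0 → (∀ s : F, (B : M2) ≠ s • 1) →
        ∃ z : PSL, z * z = 1 ∧ Odd (orderOf (QuotientGroup.mk R * z)) ∧ Odd (orderOf (QuotientGroup.mk B * z)) := by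
  by_cases h2 : (2 : F) = 0
  · refine ⟨mkSL 1 1 0 1 (by ring), ?_, fun s e => ?_, common_ref_two h2⟩
    · simp [mkSL, Matrix.trace_fin_two]; linear_combination h2
    · simpa [mkSL] using congrFun (congrFun e 0) 1
  · by_cases hs : IsSquare (-1 : F)
    · obtain ⟨i, hi⟩ := hs
      refine ⟨mkSL i 0 0 (-i) (by linear_combination hi), ?_, fun s e => ?_,
        fun B hB _ => common_ref_one h2 hi.symm B hB⟩
      · simp [mkSL, Matrix.trace_fin_two]
      · have e0 := congrFun (congrFun e 0) 0
        have e1 := congrFun (congrFun e 1) 1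
        simp [mkSL] at e0 e1
        have hi0 : 2 * i = 0 := by linear_combination e0 - e1
        rw [mul_eq_zero, or_iff_right h2] at hi0
        rw [hi0, mul_zero] at hi
        exact neg_ne_zero.2 one_ne_zero hi
    · have h3 : Fintype.card F % 4 = 3 := by
        by_contra e
        exact hs (FiniteField.isSquare_neg_one_iff.mpr e)
      exact ⟨refJ, refJ_trace, refJ_not_scalar, fun B hB _ => common_ref_three h2 h3 h4 B hB⟩

theorem common (h4 : 4 ≤ Fintype.card F) {x y : PSL} (hx : x * x = 1) (hx1 : x ≠ 1) (hy : y * y = 1)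
    (hy1 : y ≠ 1) : ∃ z, z * z = 1 ∧ Odd (orderOf (x * z)) ∧ Odd (orderOf (y * z)) := by
  obtain ⟨R, hRt, hRs, hR⟩ := exists_ref h4
  obtain ⟨g, hg⟩ := isConj_iff.mp (conj_ref hx hx1 hRt hRs)
  set f := MulAut.conj g with hf
  have hfx : f x = QuotientGroup.mk R := hg
  obtain ⟨B, hB, hBt, hBs⟩ := lift_invol (x := f y) (by rw [← map_mul, hy, map_one])
    (fun e => hy1 (f.injective (by rw [e, map_one])))
  obtain ⟨z, hz, hzx, hzy⟩ := hR B hBt hBs
  refine ⟨f.symm z, by rw [← map_mul, hz, map_one], ?_, ?_⟩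
  · rwa [← f.orderOf_eq, map_mul, f.apply_symm_apply, hfx]
  · rwa [← f.orderOf_eq, map_mul, f.apply_symm_apply, ← hB]

/-- every involution class contains two commuting members -/
theorem exists_commuting (h4 : 4 ≤ Fintype.card F) {t : PSL} (ht : t * t = 1) (ht1 : t ≠ 1) :
    ∃ y, IsConj t y ∧ y ≠ t ∧ Commute t y := by
  obtain ⟨R, S, hRt, hRs, hSt, hSs, hRS, hne⟩ : ∃ R S : SL2, (R : M2).trace = 0 ∧ (∀ s : F, (R : M2) ≠ s • 1) ∧
      (S : M2).trace = 0 ∧ (∀ s : F, (S : M2) ≠ s • 1) ∧ ((R * S : SL2) : M2).trace = 0 ∧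
      R * S ∉ Subgroup.center SL2 := by
    by_cases h2 : (2 : F) = 0
    · classical
      obtain ⟨l, hl⟩ : ∃ l : F, l ∉ ({0, 1} : Finset F) := by
        by_contra hcon
        push Not at hcon
        have := Finset.card_le_card (fun x (_ : x ∈ (Finset.univ : Finset F)) => hcon x)
        rw [Finset.card_univ] at this
        have h5 := Finset.card_le_two (a := (0 : F)) (b := 1)
        omega
      simp only [Finset.mem_insert, Finset.mem_singleton, not_or] at hl
      refine ⟨mkSL 1 1 0 1 (by ring), mkSL 1 l 0 1 (by ring), ?_, ?_, ?_, ?_, ?_, ?_⟩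
      · simp [mkSL, Matrix.trace_fin_two]; linear_combination h2
      · intro s e; simpa [mkSL] using congrFun (congrFun e 0) 1
      · simp [mkSL, Matrix.trace_fin_two]; linear_combination h2
      · intro s e
        have := congrFun (congrFun e 0) 1
        simp [mkSL] at this
        exact hl.1 this
      · rw [trace_mkSL_mul]; simp [mkSL]; linear_combination h2
      · intro hc
        rcases mem_center_iff'.mp hc with e | e <;>
        · rw [Matrix.SpecialLinearGroup.coe_mul] at e
          have := congrFun (congrFun e 0) 1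
          simp [mkSL, Matrix.mul_apply] at this
          exact hl.2 (by linear_combination this - h2)
    · obtain ⟨p, r, hpr⟩ := exists_form_eq (0 : F) (Or.inr (by
        intro e; exact mul_ne_zero h2 h2 (by linear_combination -e))) (-1)
      simp only [zero_mul, add_zero] at hpr
      refine ⟨refJ, mkSL p r r (-p) (by linear_combination -hpr), refJ_trace, refJ_not_scalar, ?_, ?_, ?_, ?_⟩
      · simp [mkSL, Matrix.trace_fin_two]
      · intro s e
        have e0 := congrFun (congrFun e 0) 0
        have e1 := congrFun (congrFun e 1) 1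
        have e2 := congrFun (congrFun e 0) 1
        simp [mkSL] at e0 e1 e2
        have hp0 : 2 * p = 0 := by linear_combination e0 - e1
        rw [mul_eq_zero, or_iff_right h2] at hp0
        rw [hp0, e2] at hpr
        exact neg_ne_zero.2 (one_ne_zero : (1 : F) ≠ 0) (by linear_combination -hpr)
      · rw [trace_mkSL_mul]; simp [mkSL]
      · intro hc
        have hs : p * (-p) - r * r = 1 := by linear_combination -hpr
        have h0 : ((refJ * mkSL p r r (-p) hs : SL2) : M2).trace = 0 := by
          rw [trace_mkSL_mul]; simp [mkSL]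
        rcases mem_center_iff'.mp hc with e | e <;>
        · rw [e] at h0
          simp [h2] at h0
  have hne1 : ∀ {N : SL2}, (∀ s : F, (N : M2) ≠ s • 1) → (QuotientGroup.mk N : PSL) ≠ 1 := fun {N} hN e => by
    rcases mem_center_iff'.mp ((QuotientGroup.eq_one_iff N).mp e) with h | h
    · exact hN 1 (by simp [h])
    · exact hN (-1) (by simp [h])
  obtain ⟨g, hg⟩ := isConj_iff.mp (conj_ref ht ht1 hRt hRs)
  set f := MulAut.conj g with hf
  have hft : f t = QuotientGroup.mk R := hg
  refine ⟨f.symm (QuotientGroup.mk S), ?_, ?_, ?_⟩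
  · have hs2 := mk_sq_one hSt
    exact (conj_ref ht ht1 hSt hSs).trans (isConj_iff.mpr ⟨g⁻¹, by simp [hf]⟩)
  · intro e
    have e' : (QuotientGroup.mk S : PSL) = QuotientGroup.mk R := by rw [← hft, ← e, f.apply_symm_apply]
    refine hne ((QuotientGroup.eq_one_iff _).mp ?_)
    rw [QuotientGroup.mk_mul, e', mk_sq_one hRt]
  · have hc : Commute (QuotientGroup.mk R : PSL) (QuotientGroup.mk S) := by
      have h := mk_sq_one hRS
      rw [QuotientGroup.mk_mul, ← eq_inv_iff_mul_eq_one, _root_.mul_inv_rev, inv_eq_self (mk_sq_one hRt),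
        inv_eq_self (mk_sq_one hSt)] at h
      exact h
    have := hc.map f.symm
    rwa [← hft, f.symm_apply_apply] at this


/-- Let F be a finite field with at least 4 elements and let X be a conjugacy class of involutions of PSL(2, F). The graph on X joining two distinct involutions whose product has odd order is connected and has diameter exactly 2. -/
theorem result {F : Type*} [Field F] [Fintype F] (hF : 4 ≤ Fintype.card F)
    (t : Matrix.ProjectiveSpecialLinearGroup (Fin 2) F) (ht : orderOf t = 2) :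
    (SimpleGraph.fromRel fun x y : {x : Matrix.ProjectiveSpecialLinearGroup (Fin 2) F // IsConj t x} =>
        Odd (orderOf (x.1 * y.1))).Connected ∧
      (SimpleGraph.fromRel fun x y : {x : Matrix.ProjectiveSpecialLinearGroup (Fin 2) F // IsConj t x} =>
        Odd (orderOf (x.1 * y.1))).diam = 2 := by
  have ht2 : t * t = 1 := by
    have := pow_orderOf_eq_one t
    rwa [ht, pow_two] at this
  have h1 : t ≠ 1 := fun h => by rw [h, orderOf_one] at ht; omega
  refine CfsgLib.Involutions.OddGraph.connected_diam_two ht2 (fun x y hx hy => ?_)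
    (exists_commuting hF ht2 h1)
  obtain ⟨a, rfl⟩ := isConj_iff.mp hx
  obtain ⟨b, rfl⟩ := isConj_iff.mp hy
  exact common hF (by rw [conj_mul, ht2, mul_one, mul_inv_cancel]) (fun e => h1 (conj_eq_one_iff.mp e))
    (by rw [conj_mul, ht2, mul_one, mul_inv_cancel]) (fun e => h1 (conj_eq_one_iff.mp e))

end Cfsg.Agent.S3266
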