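import Cfsg.Statements.S3269
import Cfsg.Agent.Lib.InvChar.QuaternionFactor
import Cfsg.Agent.Lib.Involutions.BrauerSuzuki
import Cfsg.Agent.Lib.PCore.Basic

set_option autoImplicit false
open Cfsg

namespace Cfsg.Agent.S3269

/-- Let G be a finite group whose Sylow 2-subgroup S is an internal direct product Q × R with Q generalized quaternion (of order at least 8) and R a subgroup all of whose involutions are central in R. Then G is not simple. In particular no finite simple group has a Sylow 2-subgroup that is a direct product of one or more generalized quaternion groups. -/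
theorem result {G : Type*} [Group G] [Finite G]
    (S : Sylow 2 G) (Q R : Subgroup G) (hQR : Cfsg.IsInternalDirectProduct Q R (S : Subgroup G))
    (n : ℕ) (hn : 1 ≤ n) (eQ : ↥Q ≃* QuaternionGroup (2 ^ n))
    (hR : ∀ r ∈ R, orderOf r = 2 → ∀ s ∈ R, r * s = s * r) :
    ¬ IsSimpleGroup G := by
  intro hsimple
  haveI : Fact (Nat.Prime 2) := ⟨Nat.prime_two⟩
  have hm : 2 ≤ 2 ^ n := by
    calc 2 = 2 ^ 1 := (pow_one 2).symm
      _ ≤ 2 ^ n := Nat.pow_le_pow_right two_pos hn
  obtain ⟨w, -, hw⟩ := CfsgLib.InvChar.QuaternionFactor.exists_isolated S Q R hQR hm eQ hR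
  have hz := CfsgLib.Involutions.zstar G w hw
  have hcore : Cfsg.pPrimeCore 2 G = ⊥ := by
    rcases (Cfsg.pPrimeCore_normal 2 G).eq_bot_or_eq_top with h | h
    · exact h
    · exfalso
      have h1 : ¬ 2 ∣ Nat.card ↥(Cfsg.pPrimeCore 2 G) := CfsgLib.PCore.not_dvd_card_pPrimeCore
      rw [h, Subgroup.card_top] at h1
      exact h1 (hw.1 ▸ orderOf_dvd_natCard w)
  have hc : w ∈ Subgroup.center G := Subgroup.mem_center_iff.2 fun g => by
    have h1 := hz g
    rw [hcore, Subgroup.mem_bot, mul_inv_eq_one, mul_inv_eq_iff_eq_mul] at h1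
    exact h1
  have htop : Subgroup.center G = ⊤ := by
    refine (Subgroup.Normal.eq_bot_or_eq_top inferInstance).resolve_left fun h => ?_
    rw [h, Subgroup.mem_bot] at hc
    exact CfsgLib.Involutions.ne_one_of_involution hw.1 hc
  have hcomm : ∀ a b : G, a * b = b * a := fun a b =>
    (Subgroup.mem_center_iff.1 (htop ▸ Subgroup.mem_top b : b ∈ Subgroup.center G) a)
  letI : CommGroup G := { ‹Group G› with mul_comm := hcomm }
  haveI : IsSimpleGroup G := hsimple
  have hp := IsSimpleGroup.prime_card (α := G)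
  have h4 : 4 ∣ Nat.card ↥Q := by
    haveI : NeZero (2 ^ n) := ⟨by positivity⟩
    rw [Nat.card_congr eQ.toEquiv, Nat.card_eq_fintype_card, QuaternionGroup.card]
    exact dvd_mul_right 4 _
  have h4' : 4 ∣ Nat.card G := h4.trans Q.card_subgroup_dvd_card
  rcases hp.eq_one_or_self_of_dvd 4 h4' with h | h
  · omega
  · rw [← h] at hp; norm_num at hp

end Cfsg.Agent.S3269
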