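import Cfsg.Statements.S3276
import Cfsg.Agent.Lib.InvChar.ConjClosure

set_option autoImplicit false
open Cfsg

namespace Cfsg.Agent.S3276

theorem result {G : Type*} [Group G] [Finite G] (x y : G) (hx : orderOf x = 2) (hy : orderOf y = 2)
    (hxy : Commute x y) (hnc : ¬ IsConj x y)
    (hstar : ∀ u : G, orderOf u = 2 → Commute u x → ∀ g : G, Commute (g * y * g⁻¹) u → Commute (g * y * g⁻¹) y) :
    Subgroup.normalClosure ({y} : Set G) ≠ ⊤ ∧ Cfsg.IsElementaryAbelian 2 (Subgroup.normalClosure ({y} : Set G)) ∧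
      ((∀ u ∈ Subgroup.normalClosure ({y} : Set G), orderOf u = 2 → Commute u x → u = y) →
        Nat.card ↥(Subgroup.normalClosure ({y} : Set G)) ≤ 4) := by
  have hc := CfsgLib.InvChar.conjugates_commute hx hy hnc hstar
  have hel := CfsgLib.InvChar.elementaryAbelian_normalClosure hy hc
  refine ⟨CfsgLib.InvChar.normalClosure_ne_top_of_commute hx hy hnc hc, hel, fun huniq => ?_⟩
  have hy1 := hxy
  refine (CfsgLib.InvChar.card_le_sq_of_fixed _ hel hx (k := 2) ?_).trans (by norm_num)
  have hsub : ((Subgroup.normalClosure ({y} : Set G) ⊓ Subgroup.centralizer ({x} : Set G) :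
      Subgroup G) : Set G) ⊆ {1, y} := by
    rintro u ⟨hu1, hu2⟩
    rcases eq_or_ne u 1 with rfl | hne
    · exact Or.inl rfl
    · exact Or.inr (huniq u hu1 (orderOf_eq_prime (hel.2 u hu1) hne)
        (Subgroup.mem_centralizer_singleton_iff.1 hu2))
  have h := Set.ncard_le_ncard hsub (Set.toFinite _)
  rw [show ∀ K : Subgroup G, Nat.card ↥K = (K : Set G).ncard from fun K => Nat.card_coe_set_eq _]
  exact h.trans ((Set.ncard_insert_le _ _).trans (by simp))

end Cfsg.Agent.S3276
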