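import Cfsg.Statements.S3279
import Cfsg.Agent.Lib.InvChar.ConjClosure

set_option autoImplicit false
open Cfsg CfsgLib.Involutions

namespace Cfsg.Agent.S3279

variable {G : Type*} [Group G]

/-- Pairwise commuting involutions lie in a common conjugate of a given Sylow subgroup. -/
theorem exists_conj_into_sylow [Finite G] (S : Sylow 2 G) (s : Set G)
    (hs : ∀ a ∈ s, orderOf a = 2) (hc : ∀ a ∈ s, ∀ b ∈ s, Commute a b) :
    ∃ g : G, ∀ a ∈ s, g * a * g⁻¹ ∈ (S : Subgroup G) := by
  have hcm := CfsgLib.InvChar.closure_isMulCommutative_of_commute s hc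
  have hp : IsPGroup 2 ↥(Subgroup.closure s) := by
    rintro ⟨a, ha⟩
    refine ⟨1, Subtype.ext ?_⟩
    change a ^ 2 ^ 1 = 1
    rw [pow_one]
    induction ha using Subgroup.closure_induction with
    | mem a ha => rw [← hs a ha, pow_orderOf_eq_one]
    | one => simp
    | mul a b ha hb iha ihb =>
      have h2 : Commute a b := congrArg Subtype.val (hcm.is_comm.comm ⟨a, ha⟩ ⟨b, hb⟩)
      rw [h2.mul_pow, iha, ihb, one_mul]
    | inv a _ iha => rw [inv_pow, iha, inv_one]
  obtain ⟨P, hP⟩ := hp.exists_le_sylow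
  obtain ⟨g, hg⟩ := MulAction.exists_smul_eq G P S
  refine ⟨g, fun a ha => ?_⟩
  rw [← hg]
  exact ⟨a, hP (Subgroup.subset_closure ha), rfl⟩

theorem normalClosure_eq_top [IsSimpleGroup G] {y : G} (hy : y ≠ 1) :
    Subgroup.normalClosure ({y} : Set G) = ⊤ := by
  rcases IsSimpleGroup.eq_bot_or_eq_top_of_normal (Subgroup.normalClosure ({y} : Set G))
    inferInstance with h | h
  · exact absurd (Subgroup.mem_bot.1 (h ▸ Subgroup.subset_normalClosure (Set.mem_singleton y))) hy
  · exact h

/-- A simple group cannot have non-conjugate commuting involutions with the closure property. -/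
theorem conj_of_star [Finite G] [IsSimpleGroup G] {x y : G} (hx : orderOf x = 2) (hy : orderOf y = 2)
    (hstar : ∀ u : G, orderOf u = 2 → Commute u x → ∀ g : G, Commute (g * y * g⁻¹) u → Commute (g * y * g⁻¹) y) :
    IsConj x y := by
  by_contra hnc
  exact CfsgLib.InvChar.normalClosure_ne_top_of_commute hx hy hnc
    (CfsgLib.InvChar.conjugates_commute hx hy hnc hstar) (normalClosure_eq_top (ne_one_of_involution hy))

/-- The neighbours of an involution in the commuting graph on a class. -/
def nbrs (a p : G) : Set G := {q | IsConj a q ∧ Commute p q ∧ p ≠ q}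

theorem not_comm [IsSimpleGroup G] {x a : G} (hx : orderOf x = 2) (ha : orderOf a = 2) (hne : x ≠ a)
    (hG : ∀ p q : G, Commute p q) : False := by
  have hn : (Subgroup.zpowers x).Normal := ⟨fun n hn g => by rwa [(hG g n).eq, mul_inv_cancel_right]⟩
  rcases IsSimpleGroup.eq_bot_or_eq_top_of_normal _ hn with h | h
  · exact ne_one_of_involution hx (Subgroup.mem_bot.1 (h ▸ Subgroup.mem_zpowers x))
  · obtain ⟨k, hk⟩ := Subgroup.mem_zpowers_iff.1 (h ▸ Subgroup.mem_top a)
    rw [← zpow_mod_orderOf, hx] at hk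
    rcases Int.emod_two_eq_zero_or_one k with h0 | h0
    · rw [show k % ((2 : ℕ) : ℤ) = 0 by exact_mod_cast h0, zpow_zero] at hk
      exact ne_one_of_involution ha hk.symm
    · rw [show k % ((2 : ℕ) : ℤ) = 1 by exact_mod_cast h0, zpow_one] at hk
      exact hne hk

theorem result {G : Type*} [Group G] [Finite G] [IsSimpleGroup G] (x : G) (hx : orderOf x = 2)
    (h3 : Nat.card {u : ↥(Subgroup.centralizer ({x} : Set G)) // orderOf u = 2} ≤ 3) :
    (∃ S : Sylow 2 G, (S : Subgroup G) ≤ Subgroup.centralizer ({x} : Set G)) ∧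
      ∀ u v : G, orderOf u = 2 → orderOf v = 2 → IsConj u v := by
  classical
  have := Fintype.ofFinite G
  let I : Set G := {u | orderOf u = 2 ∧ Commute u x}
  have hI : I.ncard ≤ 3 := by
    rw [← Nat.card_coe_set_eq]
    refine le_trans (Nat.card_le_card_of_injective
      (fun u : I => (⟨⟨u.1, Subgroup.mem_centralizer_singleton_iff.2 u.2.2⟩,
        by rw [Subgroup.orderOf_mk]; exact u.2.1⟩ :
        {u : ↥(Subgroup.centralizer ({x} : Set G)) // orderOf u = 2})) ?_) h3
    intro u v h
    exact Subtype.ext (congrArg (fun w => ((w.1 : ↥(Subgroup.centralizer ({x} : Set G))) : G)) h)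
  have hxI : x ∈ I := ⟨hx, Commute.refl x⟩
  -- structure of the involutions commuting with `x`
  have hprod : ∀ u ∈ I, u ≠ x → x * u ∈ I ∧ x * u ≠ x ∧ x * u ≠ u := by
    intro u hu hne
    refine ⟨⟨orderOf_eq_two_iff_mul.2 ⟨?_, ?_⟩, (Commute.refl x).mul_left hu.2⟩,
      fun h => ne_one_of_involution hu.1 (mul_eq_left.1 h),
      fun h => ne_one_of_involution hx (mul_eq_right.1 h)⟩
    · intro h
      exact hne ((inv_eq_of_mul_eq_one_right h).symm.trans (inv_eq_self_of_involution hx))
    · rw [hu.2.mul_mul_mul_comm, mul_self_eq_one hx, mul_self_eq_one hu.1, one_mul]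
  have hthree : ∀ a ∈ I, a ≠ x → ∀ u ∈ I, u = x ∨ u = a ∨ u = x * a := by
    intro a ha hne u hu
    have hsub : ({x, a, x * a} : Finset G) ⊆ I.toFinset := by
      intro w hw
      simp only [Finset.mem_insert, Finset.mem_singleton] at hw
      rw [Set.mem_toFinset]
      rcases hw with rfl | rfl | rfl
      · exact hxI
      · exact ha
      · exact (hprod a ha hne).1
    have hcard : ({x, a, x * a} : Finset G).card = 3 := by
      rw [Finset.card_eq_three]
      exact ⟨x, a, x * a, hne.symm, (hprod a ha hne).2.1.symm, (hprod a ha hne).2.2.symm, rfl⟩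
    have heq := Finset.eq_of_subset_of_card_le hsub (by
      rw [hcard, ← Set.ncard_eq_toFinset_card']; exact hI)
    have : u ∈ ({x, a, x * a} : Finset G) := by rw [heq]; exact Set.mem_toFinset.2 hu
    simpa [Finset.mem_insert, Finset.mem_singleton] using this
  have hIcomm : ∀ a ∈ I, ∀ b ∈ I, Commute a b := by
    intro a ha b hb
    by_cases hne : a = x
    · subst hne; exact hb.2.symm
    rcases hthree a ha hne b hb with rfl | rfl | rfl
    · exact ha.2
    · exact Commute.refl _
    · exact ha.2.mul_right (Commute.refl a)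
  have hIconj : ∀ g : G, ∀ v, orderOf v = 2 → Commute v (g * x * g⁻¹) → g⁻¹ * v * g ∈ I := by
    intro g v hv hvx
    refine ⟨?_, ?_⟩
    · have := orderOf_conj_eq g⁻¹ v
      rw [inv_inv] at this
      rw [this, hv]
    · have := Commute.map hvx (MulAut.conj g⁻¹).toMonoidHom
      simpa [MulAut.conj_apply, mul_assoc] using this
  -- a Sylow subgroup containing `x`
  obtain ⟨S₀, hS₀⟩ : ∃ S : Sylow 2 G, x ∈ (S : Subgroup G) := by
    have hp : IsPGroup 2 ↥(Subgroup.zpowers x) := IsPGroup.of_card (n := 1) (by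
      rw [Nat.card_zpowers, hx, pow_one])
    obtain ⟨S, hS⟩ := hp.exists_le_sylow
    exact ⟨S, hS (Subgroup.mem_zpowers x)⟩
  have hcentral : ∃ S : Sylow 2 G, (S : Subgroup G) ≤ Subgroup.centralizer ({x} : Set G) := by
    have hne : Nontrivial ↥(S₀ : Subgroup G) :=
      ⟨⟨⟨x, hS₀⟩, 1, fun h => ne_one_of_involution hx (congrArg Subtype.val h)⟩⟩
    have hzc := S₀.isPGroup'.center_nontrivial
    obtain ⟨z0, hz0⟩ := exists_prime_orderOf_dvd_card' (G := ↥(Subgroup.center ↥(S₀ : Subgroup G))) 2
      (by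
        obtain ⟨n, hn⟩ := (S₀.isPGroup'.to_subgroup (Subgroup.center _)).exists_card_eq
        rcases n with _ | n
        · have h1 := Finite.one_lt_card_iff_nontrivial.2 hzc
          rw [hn, pow_zero] at h1
          omega
        · rw [hn]; exact dvd_pow_self 2 (by omega))
    set z : G := ((z0 : ↥(S₀ : Subgroup G)) : G) with hzdef
    have hzc' : ∀ s ∈ (S₀ : Subgroup G), Commute s z := fun s hs =>
      congrArg Subtype.val (Subgroup.mem_center_iff.1 z0.2 ⟨s, hs⟩)
    have hzord : orderOf z = 2 := by rw [hzdef, Subgroup.orderOf_coe, Subgroup.orderOf_coe, hz0]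
    have hzI : z ∈ I := ⟨hzord, (hzc' x hS₀).symm⟩
    by_cases hzx : z = x
    · refine ⟨S₀, fun s hs => Subgroup.mem_centralizer_singleton_iff.2 ?_⟩
      rw [← hzx]; exact (hzc' s hs).eq
    by_contra hno
    push Not at hno
    -- some element of `S₀` maps `x` to `x * z`
    have hC : ¬ (S₀ : Subgroup G) ≤ Subgroup.centralizer ({x} : Set G) := hno S₀
    set D : Subgroup ↥(S₀ : Subgroup G) :=
      (Subgroup.centralizer ({x} : Set G)).subgroupOf (S₀ : Subgroup G) with hD
    have hDtop : D < ⊤ := by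
      rw [lt_top_iff_ne_top]; exact fun h => hC (Subgroup.subgroupOf_eq_top.1 h)
    have hnil : Group.IsNilpotent ↥(S₀ : Subgroup G) := S₀.isPGroup'.isNilpotent
    obtain ⟨s, hsN, hsD⟩ := SetLike.exists_of_lt (Group.normalizerCondition_of_isNilpotent D hDtop)
    have hxD : (⟨x, hS₀⟩ : ↥(S₀ : Subgroup G)) ∈ D := Subgroup.mem_centralizer_singleton_iff.2 rfl
    have hsx : (s : G) * x * (s : G)⁻¹ ∈ I :=
      ⟨by rw [orderOf_conj_eq, hx],
        Subgroup.mem_centralizer_singleton_iff.1 ((Subgroup.mem_normalizer_iff.1 hsN _).1 hxD)⟩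
    have hswap : IsConj x (x * z) := by
      rcases hthree z hzI hzx _ hsx with h | h | h
      · exact absurd (Subgroup.mem_centralizer_singleton_iff.2 (mul_inv_eq_iff_eq_mul.1 h)) hsD
      · exfalso
        apply hzx
        have hc : (s : G) * z * (s : G)⁻¹ = z := by
          rw [(hzc' s s.2).eq, mul_inv_cancel_right]
        exact (mul_left_cancel (mul_right_cancel (h.trans hc.symm))).symm
      · exact isConj_iff.2 ⟨s, h⟩
    have hconj : IsConj x z := by
      refine conj_of_star hx hzord fun u hu hux g hgu => ?_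
      have hgz : orderOf (g * z * g⁻¹) = 2 := by rw [orderOf_conj_eq, hzord]
      rcases hthree z hzI hzx u ⟨hu, hux⟩ with rfl | rfl | rfl
      · exact hIcomm _ ⟨hgz, hgu⟩ _ hzI
      · exact hgu
      · obtain ⟨h, hh⟩ := isConj_iff.1 hswap
        rw [← hh] at hgu
        have h1 := hIconj h _ hgz hgu
        have h2 : h⁻¹ * z * h ∈ I := hIconj h z hzord (by
          rw [hh]; exact (hzI.2).mul_right (Commute.refl z))
        have h4 := Commute.map (hIcomm _ h1 _ h2) (MulAut.conj h).toMonoidHom
        simpa [MulAut.conj_apply, mul_assoc] using h4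
    obtain ⟨g, hg⟩ := isConj_iff.1 hconj.symm
    apply hno (g • S₀)
    rintro _ ⟨s, hs, rfl⟩
    rw [Subgroup.mem_centralizer_singleton_iff, ← hg]
    have h1 := (Commute.map (hzc' s hs) (MulAut.conj g).toMonoidHom).eq
    simpa [MulAut.conj_apply] using h1
  refine ⟨hcentral, ?_⟩
  obtain ⟨S, hS⟩ := hcentral
  have hinto : ∀ s : Set G, (∀ a ∈ s, orderOf a = 2) → (∀ a ∈ s, ∀ b ∈ s, Commute a b) →
      ∃ g : G, ∀ a ∈ s, g * a * g⁻¹ ∈ I := by
    intro s hs hc
    obtain ⟨g, hg⟩ := exists_conj_into_sylow S s hs hc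
    exact ⟨g, fun a ha => ⟨by rw [orderOf_conj_eq, hs a ha],
      Subgroup.mem_centralizer_singleton_iff.1 (hS (hg a ha))⟩⟩
  suffices hall : ∀ a ∈ I, IsConj x a by
    intro u v hu hv
    obtain ⟨g, hg⟩ := hinto {u} (by simpa using hu) (by simp)
    obtain ⟨k, hk⟩ := hinto {v} (by simpa using hv) (by simp)
    have h1 : IsConj u x := (isConj_iff.2 ⟨g, rfl⟩ : IsConj u _).trans (hall _ (hg u rfl)).symm
    have h2 : IsConj v x := (isConj_iff.2 ⟨k, rfl⟩ : IsConj v _).trans (hall _ (hk v rfl)).symm
    exact h1.trans h2.symm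
  intro a ha
  by_contra hxa
  have hne : a ≠ x := fun h => hxa (h ▸ IsConj.refl x)
  obtain ⟨hbI, hbx, hba⟩ := hprod a ha hne
  have hxb : ¬ IsConj x (x * a) := by
    intro hxb
    apply hxa
    -- otherwise `a` is forced to be conjugate to `x`
    refine conj_of_star hx ha.1 fun u hu hux g hgu => ?_
    have hga : orderOf (g * a * g⁻¹) = 2 := by rw [orderOf_conj_eq, ha.1]
    rcases hthree a ha hne u ⟨hu, hux⟩ with rfl | rfl | rfl
    · exact hIcomm _ ⟨hga, hgu⟩ _ ha
    · exact hgu
    · obtain ⟨h, hh⟩ := isConj_iff.1 hxb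
      rw [← hh] at hgu
      have h1 := hIconj h _ hga hgu
      have h2 : h⁻¹ * a * h ∈ I := hIconj h a ha.1 (by
        rw [hh]; exact ha.2.mul_right (Commute.refl a))
      have h4 := Commute.map (hIcomm _ h1 _ h2) (MulAut.conj h).toMonoidHom
      simpa [MulAut.conj_apply, mul_assoc] using h4
  set b := x * a with hb
  have hbord : orderOf b = 2 := hbI.1
  have hbnx : ∀ q, IsConj b q → orderOf q = 2 ∧ ¬ IsConj x q := fun q hq =>
    ⟨(orderOf_eq_of_isConj hq).trans hbord, fun h => hxb (h.trans hq.symm)⟩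
  have hanx : ∀ q, IsConj a q → orderOf q = 2 ∧ ¬ IsConj x q := fun q hq =>
    ⟨(orderOf_eq_of_isConj hq).trans ha.1, fun h => hxa (h.trans hq.symm)⟩
  have hedge : ∀ h : G, IsConj a (h * a * h⁻¹) ∧ IsConj b (h * b * h⁻¹) := fun h =>
    ⟨isConj_iff.2 ⟨h, rfl⟩, isConj_iff.2 ⟨h, rfl⟩⟩
  -- an element of `I` conjugate to `a` or `b` is `a` or `b`
  have hab : ∀ w ∈ I, ¬ IsConj x w → w = a ∨ w = b := fun w hw hnx =>
    (hthree a ha hne w hw).resolve_left fun h => hnx (h ▸ IsConj.refl x)
  have hpair : ∀ p q : G, orderOf p = 2 → orderOf q = 2 → Commute p q →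
      ∃ g : G, g * p * g⁻¹ ∈ I ∧ g * q * g⁻¹ ∈ I := by
    intro p q hp hq hpq
    obtain ⟨g, hg⟩ := hinto {p, q} (by rintro _ (rfl | rfl) <;> assumption)
      (by rintro _ (rfl | rfl) _ (rfl | rfl) <;> first | exact Commute.refl _ | exact hpq | exact hpq.symm)
    exact ⟨g, hg p (by simp), hg q (by simp)⟩
  -- linking: every pair `h a h⁻¹`, `h b h⁻¹` is attached to a given conjugate of `a`
  have hlink : ∀ p : G, IsConj a p → ∀ h : G,
      Commute (h * a * h⁻¹) p ∨ Commute (h * b * h⁻¹) p := by
    intro p hp h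
    obtain ⟨hp2, hpx⟩ := hanx p hp
    obtain ⟨u, hu, hup, hux⟩ := exists_common_involution hp2
      (show orderOf (h * x * h⁻¹) = 2 by rw [orderOf_conj_eq, hx])
      (fun h' => hpx ((isConj_iff.2 ⟨h, rfl⟩ : IsConj x _).trans h'.symm))
    have hw := hIconj h u hu hux
    have hu' : u = h * (h⁻¹ * u * h) * h⁻¹ := by group
    rcases hthree a ha hne _ hw with hw' | hw' | hw'
    · rw [hw'] at hu'
      subst hu'
      -- then `p` itself is one of the two
      have hpI := hIconj h p hp2 hup.symm
      have hp' : p = h * (h⁻¹ * p * h) * h⁻¹ := by group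
      rcases hab _ hpI (fun h' => hpx (h'.trans (isConj_iff.2 ⟨h, by group⟩))) with hw'' | hw''
      · left; rw [hp', hw'']
      · right; rw [hp', hw'']
    · left; rw [hw'] at hu'; rwa [← hu']
    · right; rw [hw'] at hu'; rwa [← hu']
  by_cases hconjab : IsConj a b
  · -- the commuting graph on the class is complete bipartite
    have hnomix : ∀ q, IsConj a q → orderOf q = 2 ∧ ¬ IsConj x q := hanx
    have htriangle : ∀ p q r : G, IsConj a p → IsConj a q → IsConj a r →
        Commute p q → Commute q r → Commute p r → p ≠ q → q ≠ r → p ≠ r → False := by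
      intro p q r hp hq hr hpq hqr hpr n1 n2 n3
      obtain ⟨g, hg⟩ := hinto {p, q, r}
        (by rintro _ (rfl | rfl | rfl) <;> first | exact (hanx _ hp).1 | exact (hanx _ hq).1 | exact (hanx _ hr).1)
        (by
          rintro _ (rfl | rfl | rfl) _ (rfl | rfl | rfl) <;>
            first | exact Commute.refl _ | assumption | exact hpq.symm | exact hqr.symm | exact hpr.symm)
      have key : ∀ w, IsConj a w → w ∈ ({p, q, r} : Set G) → g * w * g⁻¹ = a ∨ g * w * g⁻¹ = b :=
        fun w hw hw' => hab _ (hg w hw') (hanx _ (hw.trans (isConj_iff.2 ⟨g, rfl⟩))).2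
      have inj : ∀ {v w : G}, g * v * g⁻¹ = g * w * g⁻¹ → v = w := fun h =>
        mul_left_cancel (mul_right_cancel h)
      rcases key p hp (by simp) with h1 | h1 <;> rcases key q hq (by simp) with h2 | h2 <;>
        rcases key r hr (by simp) with h3 | h3 <;>
        first
        | exact n1 (inj (h1.trans h2.symm))
        | exact n2 (inj (h2.trans h3.symm))
        | exact n3 (inj (h1.trans h3.symm))
    have hnn : ∀ p r s : G, IsConj a p → r ∈ nbrs a p → s ∈ nbrs a p → s ∈ nbrs a r → False := by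
      intro p r s hp hr hs hrs
      exact htriangle p r s hp hr.1 hs.1 hr.2.1 hrs.2.1 hs.2.1 hr.2.2 hrs.2.2 hs.2.2
    have hcover : ∀ p r s : G, IsConj a p → IsConj a r → s ∈ nbrs a r →
        r ∈ nbrs a p ∨ s ∈ nbrs a p := by
      intro p r s hp hr hs
      obtain ⟨g, hgr, hgs⟩ := hpair r s (hanx r hr).1 (hanx s hs.1).1 hs.2.1
      have hgr' := hab _ hgr (hanx _ (hr.trans (isConj_iff.2 ⟨g, rfl⟩))).2
      have hgs' := hab _ hgs (hanx _ (hs.1.trans (isConj_iff.2 ⟨g, rfl⟩))).2
      have hne' : g * r * g⁻¹ ≠ g * s * g⁻¹ := fun h =>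
        hs.2.2 (mul_left_cancel (mul_right_cancel h))
      have hl := hlink p hp g⁻¹
      rw [inv_inv] at hl
      have hl' : Commute r p ∨ Commute s p := by
        rcases hgr' with h1 | h1 <;> rcases hgs' with h2 | h2
        · exact absurd (h1.trans h2.symm) hne'
        · rw [← h1, ← h2] at hl
          simpa [mul_assoc] using hl
        · rw [← h1, ← h2] at hl
          have := hl.symm
          simpa [mul_assoc] using this
        · exact absurd (h1.trans h2.symm) hne'
      rcases eq_or_ne p r with rfl | hpr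
      · exact Or.inr hs
      rcases eq_or_ne p s with rfl | hps
      · exact Or.inl ⟨hr, hs.2.1.symm, hpr⟩
      rcases hl' with h | h
      · exact Or.inl ⟨hr, h.symm, hpr⟩
      · exact Or.inr ⟨hs.1, h.symm, hps⟩
    have hdeg : ∀ p, IsConj a p → (nbrs a p).ncard = (nbrs a a).ncard := by
      intro p hp
      obtain ⟨g, rfl⟩ := isConj_iff.1 hp
      rw [← Set.ncard_image_of_injective (nbrs a a) (MulAut.conj g).injective]
      congr 1
      ext q
      constructor
      · rintro ⟨h1, h2, h3⟩
        refine ⟨g⁻¹ * q * g, ⟨h1.trans (isConj_iff.2 ⟨g⁻¹, by group⟩), ?_, ?_⟩, by simp [MulAut.conj_apply, mul_assoc]⟩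
        · have := Commute.map h2 (MulAut.conj g⁻¹).toMonoidHom
          simpa [MulAut.conj_apply, mul_assoc] using this
        · intro h
          apply h3
          rw [h]; group
      · rintro ⟨q', ⟨h1, h2, h3⟩, rfl⟩
        exact ⟨h1.trans (isConj_iff.2 ⟨g, rfl⟩), Commute.map h2 (MulAut.conj g).toMonoidHom,
          fun h => h3 ((MulAut.conj g).injective h)⟩
    have hrel : ∀ r s, IsConj a r → IsConj a s →
        (s ∈ nbrs a r ↔ ¬ (r ∈ nbrs a a ↔ s ∈ nbrs a a)) := by
      have hone : ∀ r s, IsConj a r → IsConj a s → r ∉ nbrs a a → s ∈ nbrs a a → s ∈ nbrs a r := by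
        intro r s hr _ hrn hsn
        have hsub : nbrs a r ⊆ nbrs a a := fun t ht =>
          (hcover a r t (IsConj.refl a) hr ht).resolve_left hrn
        rw [Set.eq_of_subset_of_ncard_le hsub (hdeg r hr).ge (Set.toFinite _)]
        exact hsn
      intro r s hr hs
      constructor
      · intro h hiff
        rcases hcover a r s (IsConj.refl a) hr h with h1 | h1
        · exact hnn a r s (IsConj.refl a) h1 (hiff.1 h1) h
        · exact hnn a r s (IsConj.refl a) (hiff.2 h1) h1 h
      · intro h
        by_cases hrn : r ∈ nbrs a a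
        · have hsn : s ∉ nbrs a a := fun h' => h ⟨fun _ => h', fun _ => hrn⟩
          obtain ⟨-, h2, h3⟩ := hone s r hs hr hsn hrn
          exact ⟨hs, h2.symm, h3.symm⟩
        · have hsn : s ∈ nbrs a a := by
            by_contra hsn
            exact h ⟨fun h' => absurd h' hrn, fun h' => absurd h' hsn⟩
          exact hone r s hr hs hrn hsn
    let σ : G → Prop := fun g => g * a * g⁻¹ ∈ nbrs a a
    have hσ : ∀ g h : G, σ (g * h) ↔ ¬ (σ g ↔ σ h) := by
      intro g h
      have c1 : IsConj a (g * a * g⁻¹) := isConj_iff.2 ⟨g, rfl⟩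
      have c2 : IsConj a (g * h * a * (g * h)⁻¹) := isConj_iff.2 ⟨g * h, rfl⟩
      have c3 : g * h * a * (g * h)⁻¹ ∈ nbrs a (g * a * g⁻¹) ↔ σ h := by
        have hrw : g * h * a * (g * h)⁻¹ = g * (h * a * h⁻¹) * g⁻¹ := by group
        rw [hrw]
        constructor
        · rintro ⟨-, h2, h3⟩
          refine ⟨isConj_iff.2 ⟨h, rfl⟩, ?_, fun e => h3 (by rw [← e])⟩
          have := Commute.map h2 (MulAut.conj g⁻¹).toMonoidHom
          simpa [MulAut.conj_apply, mul_assoc] using this
        · rintro ⟨-, h2, h3⟩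
          exact ⟨(isConj_iff.2 ⟨h, rfl⟩ : IsConj a _).trans (isConj_iff.2 ⟨g, rfl⟩),
            Commute.map h2 (MulAut.conj g).toMonoidHom, fun e => h3 ((MulAut.conj g).injective e)⟩
      have := hrel _ _ c1 c2
      rw [c3] at this
      show σ (g * h) ↔ _
      constructor
      · intro hgh; simp only [σ] at this hgh ⊢; tauto
      · intro hh; simp only [σ] at this hh ⊢; tauto
    let H : Subgroup G :=
      { carrier := {g | ¬ σ g}
        one_mem' := by intro h; exact h.2.2 (by simp)
        mul_mem' := by intro g h hg hh; simp only [Set.mem_setOf_eq, hσ] at *; tauto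
        inv_mem' := by
          intro g hg
          have h1 := hσ g⁻¹ g
          rw [inv_mul_cancel] at h1
          have h2 : ¬ σ 1 := fun h => h.2.2 (by simp)
          simp only [Set.mem_setOf_eq] at *
          tauto }
    have hHn : H.Normal := ⟨fun n hn g => by
      change ¬ σ (g * n * g⁻¹)
      have h1 := hσ (g * n) g⁻¹
      have h2 := hσ g n
      have h3 := hσ g g⁻¹
      rw [mul_inv_cancel] at h3
      have h4 : ¬ σ 1 := fun h => h.2.2 (by simp)
      have hn' : ¬ σ n := hn
      tauto⟩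
    obtain ⟨h0, hh0⟩ := isConj_iff.1 hconjab
    have hbn : b ∈ nbrs a a := ⟨hconjab, hIcomm a ha b hbI, hba.symm⟩
    rcases IsSimpleGroup.eq_bot_or_eq_top_of_normal H hHn with hH | hH
    · apply not_comm hx ha.1 hne.symm
      have key : ∀ g h : G, σ g → σ h → g = h := by
        intro g h hg hh
        have : g⁻¹ * h ∈ H := by
          change ¬ σ (g⁻¹ * h)
          have h1 := hσ g (g⁻¹ * h)
          rw [mul_inv_cancel_left] at h1
          tauto
        rw [hH, Subgroup.mem_bot, inv_mul_eq_one] at this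
        exact this
      have triv : ∀ g : G, ¬ σ g → g = 1 := fun g hg => Subgroup.mem_bot.1 (hH ▸ (hg : g ∈ H))
      intro p q
      by_cases hp : σ p
      · by_cases hq : σ q
        · rw [key p q hp hq]
        · rw [triv q hq]; exact Commute.one_right p
      · rw [triv p hp]; exact Commute.one_left q
    · have : h0 ∈ H := by rw [hH]; trivial
      exact this (by simpa only [σ, hh0] using hbn)
  · -- every conjugate of `a` commutes with every conjugate of `b`
    have hnoaa : ∀ p q, IsConj a p → IsConj a q → Commute p q → p = q := by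
      intro p q hp hq hpq
      obtain ⟨g, hgp, hgq⟩ := hpair p q (hanx p hp).1 (hanx q hq).1 hpq
      have key : ∀ w, IsConj a w → g * w * g⁻¹ ∈ I → g * w * g⁻¹ = a := fun w hw hwI =>
        (hab _ hwI (hanx _ (hw.trans (isConj_iff.2 ⟨g, rfl⟩))).2).resolve_right
          fun e => hconjab (hw.trans (isConj_iff.2 ⟨g, e⟩))
      exact mul_left_cancel (mul_right_cancel ((key p hp hgp).trans (key q hq hgq).symm))
    have hcomm : ∀ g h : G, Commute (g * a * g⁻¹) (h * b * h⁻¹) := by
      intro g h
      rcases hlink _ (hedge g).1 h with h' | h'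
      · rw [← hnoaa _ _ (hedge h).1 (hedge g).1 h']
        exact Commute.map (hIcomm a ha b hbI) (MulAut.conj h).toMonoidHom
      · exact h'.symm
    have hle : Subgroup.normalClosure ({b} : Set G) ≤ Subgroup.centralizer ({a} : Set G) := by
      refine (Subgroup.closure_le _).2 fun w hw => ?_
      obtain ⟨b', rfl, hb'⟩ := Group.mem_conjugatesOfSet_iff.1 hw
      obtain ⟨h, rfl⟩ := isConj_iff.1 hb'
      refine Subgroup.mem_centralizer_singleton_iff.2 ?_
      have := hcomm 1 h
      simp only [one_mul, inv_one, mul_one] at this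
      exact this.symm.eq
    rw [normalClosure_eq_top (ne_one_of_involution hbord)] at hle
    have hcen : a ∈ Subgroup.center G := Subgroup.mem_center_iff.2 fun g =>
      Subgroup.mem_centralizer_singleton_iff.1 (hle (Subgroup.mem_top g))
    rcases IsSimpleGroup.eq_bot_or_eq_top_of_normal (Subgroup.center G) inferInstance with h | h
    · rw [h, Subgroup.mem_bot] at hcen
      exact ne_one_of_involution ha.1 hcen
    · exact not_comm hx ha.1 hne.symm fun p q =>
        (Subgroup.mem_center_iff.1 (h ▸ Subgroup.mem_top q) p)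

end Cfsg.Agent.S3279
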