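-- Statement S3280 (frozen type Cfsg.CfsgFrozen.S3280).
import Cfsg.Statements.S3280
import Cfsg.Agent.Lib.SmallCent31.Main
import Cfsg.Agent.S0494
import Cfsg.Agent.S0495
import Cfsg.Agent.S0497
import Cfsg.Agent.S0984

set_option autoImplicit false
open Cfsg

namespace Cfsg.Agent.S3280

/-- A non-cyclic finite simple group containing an element whose centralizer has order at most 4 is isomorphic to the alternating group of degree 5, 6 or 7, or to PSL(2, 7). -/
theorem result {G : Type*} [Group G] [Finite G] [IsSimpleGroup G] (hG : ¬ IsCyclic G)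
    (w : G) (hw : Nat.card ↥(Subgroup.centralizer ({w} : Set G)) ≤ 4) :
    Nonempty (G ≃* ↥(alternatingGroup (Fin 5))) ∨ Nonempty (G ≃* ↥(alternatingGroup (Fin 6))) ∨
      Nonempty (G ≃* ↥(alternatingGroup (Fin 7))) ∨
      (∃ (F : Type) (_ : Field F) (_ : Fintype F), Fintype.card F = 7 ∧ Nonempty (G ≃* Matrix.ProjectiveSpecialLinearGroup (Fin 2) F)) := by
  rcases CfsgLib.SmallCent31.reduce hG w hw with h | h | ⟨P, σ, h1, h2, h3, h4⟩
  · exact Or.inl h
  · exact Or.inr (Or.inr (Or.inr h))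
  · obtain ⟨d⟩ := CfsgLib.SmallCent31.exists_D8 hG P h1 h2 h3 h4
    rcases d.order_cases with h | h | h
    · refine Or.inr (Or.inr (Or.inr ⟨ZMod 7, @ZMod.instField 7 ⟨by norm_num⟩, inferInstance, ?_, ?_⟩))
      · simp
      · exact @Cfsg.Agent.S0495.result G _ _ _ h (ZMod 7) (@ZMod.instField 7 ⟨by norm_num⟩) inferInstance (ZMod.card 7)
    · exact Or.inr (Or.inl (Cfsg.Agent.S0497.result h))
    · exact Or.inr (Or.inr (Or.inl (Cfsg.Agent.S0984.result h)))

end Cfsg.Agent.S3280
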