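import Cfsg.Statements.S3283
import Cfsg.Agent.Lib.ExtraNineS3A6.Main

set_option autoImplicit false
open Cfsg

namespace Cfsg.Agent.S3283

/-- Let G be a finite group with an involution z whose centralizer M has Q = O₂(M) extraspecial of order 2⁹ with C_M(Q) ≤ Q, and M/Q isomorphic to S₃ × A₆ or to S₃ × S₆. Then G is not simple. -/
theorem result {G : Type*} [Group G] [Finite G] (z : G) (hz : orderOf z = 2)
    (hQ : Cfsg.IsExtraspecial 2 ↥(Cfsg.pCore 2 ↥(Subgroup.centralizer ({z} : Set G)))) (hQ9 : Nat.card ↥(Cfsg.pCore 2 ↥(Subgroup.centralizer ({z} : Set G))) = 2 ^ 9)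
    (hCQ : Subgroup.centralizer ((Cfsg.pCore 2 ↥(Subgroup.centralizer ({z} : Set G))) : Set ↥(Subgroup.centralizer ({z} : Set G))) ≤ Cfsg.pCore 2 ↥(Subgroup.centralizer ({z} : Set G)))
    (hMQ : Nonempty (↥(Subgroup.centralizer ({z} : Set G)) ⧸ Cfsg.pCore 2 ↥(Subgroup.centralizer ({z} : Set G)) ≃* (Equiv.Perm (Fin 3) × ↥(alternatingGroup (Fin 6)))) ∨
      Nonempty (↥(Subgroup.centralizer ({z} : Set G)) ⧸ Cfsg.pCore 2 ↥(Subgroup.centralizer ({z} : Set G)) ≃* (Equiv.Perm (Fin 3) × Equiv.Perm (Fin 6)))) :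
    ¬ IsSimpleGroup G := by
  intro hs
  have hG : ¬ IsMulCommutative G := by
    intro hc
    have htop : Subgroup.center ↥(Cfsg.pCore 2 ↥(Subgroup.centralizer ({z} : Set G))) = ⊤ :=
      (Subgroup.eq_top_iff' _).2 fun q => Subgroup.mem_center_iff.2 fun r =>
        Subtype.ext (Subtype.ext (hc.is_comm.comm _ _))
    have h := hQ.2
    rw [htop, Subgroup.card_top, hQ9] at h
    norm_num at h
  rcases hMQ with ⟨⟨e⟩⟩ | ⟨⟨e⟩⟩
  · let ι := MonoidHom.prodMap (MonoidHom.id (Equiv.Perm (Fin 3))) (alternatingGroup (Fin 6)).subtype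
    have hι : Function.Injective ι := Prod.map_injective.2 ⟨Function.injective_id, Subtype.val_injective⟩
    obtain ⟨h1, h2⟩ := CfsgLib.ExtraNineS3A6.setting_of_equiv _ ι hι e
    refine CfsgLib.ExtraNineS3A6.false_of_setting hG z hz hQ hQ9 hCQ _ h1 (fun p _ hp2 => ?_)
      ⟨(Equiv.swap 0 1, 1), ?_, by decide⟩
    · rw [h2]
      exact ⟨(p.1, ⟨p.2, hp2⟩), rfl⟩
    · rw [h2]
      exact ⟨(Equiv.swap 0 1, 1), rfl⟩
  · obtain ⟨h1, h2⟩ := CfsgLib.ExtraNineS3A6.setting_of_equiv _ (MonoidHom.id _) Function.injective_id e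
    refine CfsgLib.ExtraNineS3A6.false_of_setting hG z hz hQ hQ9 hCQ _ h1 (fun p _ _ => ?_)
      ⟨(Equiv.swap 0 1, 1), ?_, by decide⟩
    · rw [h2]
      exact ⟨p, rfl⟩
    · rw [h2]
      exact ⟨(Equiv.swap 0 1, 1), rfl⟩

end Cfsg.Agent.S3283
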