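import Cfsg.Statements.S3284
import Cfsg.Agent.Lib.ExtraNineS3A6.Main
import Cfsg.Agent.Lib.Components.FStar

set_option autoImplicit false
open Cfsg

namespace Cfsg.Agent.S3284

/-- There is no non-abelian finite simple group with an involution z whose centralizer M has generalized Fitting subgroup Q = F*(M) extraspecial of order 2⁹ and M/Q isomorphic to the subgroup of S₃ × S₆ consisting of the pairs of permutations with equal sign (a group (3 × A₆)·2 in which an involution outside 3 × A₆ induces S₃ on the first factor and S₆ on the second). -/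
theorem result {G : Type*} [Group G] [Finite G] [IsSimpleGroup G] (hG : ¬ IsMulCommutative G) (z : G) (hz : orderOf z = 2)
    [hn : (Cfsg.generalizedFittingSubgroup ↥(Subgroup.centralizer ({z} : Set G))).Normal]
    (hQ : Cfsg.IsExtraspecial 2 ↥(Cfsg.generalizedFittingSubgroup ↥(Subgroup.centralizer ({z} : Set G)))) (hQ9 : Nat.card ↥(Cfsg.generalizedFittingSubgroup ↥(Subgroup.centralizer ({z} : Set G))) = 2 ^ 9)
    (e : (↥(Subgroup.centralizer ({z} : Set G)) ⧸ Cfsg.generalizedFittingSubgroup ↥(Subgroup.centralizer ({z} : Set G))) ≃*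
      ↥(MonoidHom.ker (Equiv.Perm.sign.comp (MonoidHom.fst (Equiv.Perm (Fin 3)) (Equiv.Perm (Fin 6))) *
          Equiv.Perm.sign.comp (MonoidHom.snd (Equiv.Perm (Fin 3)) (Equiv.Perm (Fin 6)))))) :
    False := by
  haveI : Fact (Nat.Prime 2) := ⟨Nat.prime_two⟩
  have hF : Cfsg.generalizedFittingSubgroup ↥(Subgroup.centralizer ({z} : Set G)) =
      Cfsg.pCore 2 ↥(Subgroup.centralizer ({z} : Set G)) :=
    le_antisymm (CfsgLib.PCore.le_pCore hn hQ.1.1)
      ((CfsgLib.Fitting.pCore_le_fitting Nat.prime_two).trans CfsgLib.Components.fitting_le_generalizedFitting)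
  have hC := CfsgLib.Components.centralizer_pCore_le_of_generalizedFitting_eq hF
  obtain ⟨h1, h2⟩ := CfsgLib.ExtraNineS3A6.setting_of_equiv _ (Subgroup.subtype _) Subtype.val_injective e
  rw [Subgroup.range_subtype] at h2
  refine CfsgLib.ExtraNineS3A6.false_of_setting hG z hz (hF ▸ hQ) (hF ▸ hQ9) hC _ (h1.trans hF)
    (fun p hp1 hp2 => ?_) ⟨(Equiv.swap 0 1, Equiv.swap 0 1), ?_, by decide⟩
  · rw [h2, MonoidHom.mem_ker]
    show Equiv.Perm.sign p.1 * Equiv.Perm.sign p.2 = 1
    rw [hp1, hp2, one_mul]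
  · rw [h2, MonoidHom.mem_ker]
    decide

end Cfsg.Agent.S3284
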