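import Cfsg.Statements.S3294
import Cfsg.Agent.Lib.InvChar.SolvableTwo
import Mathlib.GroupTheory.SpecificGroups.Quaternion

set_option autoImplicit false
open Cfsg

namespace Cfsg.Agent.S3294

/-- In a generalized quaternion group every element is a power of `a 1` or has order 4, and the
products involved in a normal subgroup. -/
theorem quat_facts {m : ℕ} [NeZero m] (q : QuaternionGroup m) :
    q ∈ Subgroup.zpowers (QuaternionGroup.a 1) ∨ ∃ i, q = QuaternionGroup.xa i := by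
  rcases q with i | i
  · refine Or.inl ?_
    refine Subgroup.mem_zpowers_iff.2 ⟨(i.val : ℤ), ?_⟩
    rw [zpow_natCast, QuaternionGroup.a_one_pow, ZMod.natCast_zmod_val]
  · exact Or.inr ⟨i, rfl⟩

theorem result {G : Type*} [Group G] [Finite G] (hsol : Group.IsSolvable G) (T : Sylow 2 G) (n : ℕ) (hn : 3 ≤ n) (hT : Nonempty ((T : Subgroup G) ≃* QuaternionGroup (2 ^ n))) : Cfsg.HasNormalPComplement 2 G := by
  obtain ⟨eT⟩ := hT
  have := hsol
  apply CfsgLib.InvChar.hasNormalPComplement_of_isPGroup_quotient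
  set K := G ⧸ oddCore G
  obtain ⟨T', ⟨eq'⟩⟩ := CfsgLib.InvChar.exists_sylow_quotient_equiv T
  set e : ↥(T' : Subgroup K) ≃* QuaternionGroup (2 ^ n) := eq'.symm.trans eT
  have hm : 8 ≤ 2 ^ n := by
    calc 8 = 2 ^ 3 := by norm_num
      _ ≤ 2 ^ n := Nat.pow_le_pow_right (by norm_num) hn
  set c : K := ((e.symm (QuaternionGroup.a 1) : ↥(T' : Subgroup K)) : K) with hc
  have hcT : c ∈ (T' : Subgroup K) := SetLike.coe_mem _
  have hordc : orderOf c = 2 * 2 ^ n := by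
    rw [Subgroup.orderOf_coe, MulEquiv.orderOf_eq, QuaternionGroup.orderOf_a_one]
  -- elements of the Sylow subgroup outside `⟨c⟩` have order 4
  have hout : ∀ (y : K) (hy : y ∈ (T' : Subgroup K)), y ∉ Subgroup.zpowers c →
      ∃ i, e ⟨y, hy⟩ = QuaternionGroup.xa i := by
    intro y hy hyc
    rcases quat_facts (e ⟨y, hy⟩) with h | h
    · exfalso
      apply hyc
      obtain ⟨k, hk⟩ := Subgroup.mem_zpowers_iff.1 h
      refine Subgroup.mem_zpowers_iff.2 ⟨k, ?_⟩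
      have h2 : e.symm (QuaternionGroup.a 1) ^ k = ⟨y, hy⟩ := by
        rw [← map_zpow, hk, MulEquiv.symm_apply_apply]
      have h5 := congrArg Subtype.val h2
      rw [SubgroupClass.coe_zpow] at h5
      exact h5
    · exact h
  have hord4 : ∀ y, y ∈ (T' : Subgroup K) → y ∉ Subgroup.zpowers c → orderOf y = 4 := by
    intro y hy hyc
    obtain ⟨i, hi⟩ := hout y hy hyc
    have h3 : orderOf (⟨y, hy⟩ : ↥(T' : Subgroup K)) = 4 := by
      rw [← MulEquiv.orderOf_eq e, hi, QuaternionGroup.orderOf_xa]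
    rwa [Subgroup.orderOf_mk] at h3
  have hdiv : ∀ y z, y ∈ (T' : Subgroup K) → z ∈ (T' : Subgroup K) → y ∉ Subgroup.zpowers c →
      z ∉ Subgroup.zpowers c → y⁻¹ * z ∈ Subgroup.zpowers c := by
    intro y z hy hz hyc hzc
    obtain ⟨i, hi⟩ := hout y hy hyc
    obtain ⟨j, hj⟩ := hout z hz hzc
    by_contra h
    obtain ⟨l, hl⟩ := hout (y⁻¹ * z) (mul_mem (inv_mem hy) hz) h
    have h2 : (⟨y⁻¹ * z, mul_mem (inv_mem hy) hz⟩ : ↥(T' : Subgroup K)) = ⟨y, hy⟩⁻¹ * ⟨z, hz⟩ :=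
      Subtype.ext rfl
    rw [h2, map_mul, map_inv, hi, hj, inv_mul_eq_iff_eq_mul, QuaternionGroup.xa_mul_xa] at hl
    exact absurd hl (by simp)
  refine CfsgLib.InvChar.isPGroup_two_of_odd_centralize CfsgLib.InvChar.oddCore_quotient_oddCore ?_
  intro g hg
  set Q := pCore 2 K
  have hQT : Q ≤ (T' : Subgroup K) := CfsgLib.PCore.pCore_le_sylow T'
  have hQ2 : IsPGroup 2 ↥Q := CfsgLib.PCore.pCore_isPGroup
  have hQn : Q.Normal := pCore_normal 2 _
  set R := Q ⊓ Subgroup.zpowers c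
  haveI : IsCyclic ↥R := isCyclic_of_injective
    (Subgroup.inclusion (inf_le_right : R ≤ Subgroup.zpowers c)) (Subgroup.inclusion_injective _)
  have hgnorm : g ∈ Subgroup.normalizer (Q : Set K) := by
    rw [Subgroup.normalizer_eq_top_iff.2 hQn]; trivial
  by_cases hcyc : Q ≤ Subgroup.zpowers c
  · have hRQ : R = Q := inf_eq_left.2 hcyc
    intro x hx
    refine CfsgLib.InvChar.commute_of_odd_of_cyclic hg R (hRQ ▸ hQ2) ?_ (hRQ ▸ hx)
    rw [hRQ]; exact hgnorm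
  -- `Q` is not contained in `⟨c⟩`, so it contains `c ^ 2`
  obtain ⟨y, hyQ, hyc⟩ := SetLike.not_le_iff_exists.1 hcyc
  have hc2 : c ^ 2 ∈ Q := by
    obtain ⟨i, hi⟩ := hout y (hQT hyQ) hyc
    have h1 : y⁻¹ * (c * y * c⁻¹) ∈ Q := mul_mem (inv_mem hyQ) (hQn.conj_mem y hyQ c)
    have h2 : e (⟨y, hQT hyQ⟩⁻¹ * (⟨c, hcT⟩ * ⟨y, hQT hyQ⟩ * ⟨c, hcT⟩⁻¹)) =
        (QuaternionGroup.a 1 : QuaternionGroup (2 ^ n))⁻¹ ^ 2 := by
      have hec : e ⟨c, hcT⟩ = QuaternionGroup.a 1 := by simp [c]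
      have hinv : (QuaternionGroup.a 1 : QuaternionGroup (2 ^ n))⁻¹ = QuaternionGroup.a (-1) := rfl
      rw [map_mul, map_inv, map_mul, map_mul, map_inv, hi, hec, inv_mul_eq_iff_eq_mul, pow_two,
        mul_inv_eq_iff_eq_mul, hinv, QuaternionGroup.a_mul_xa, QuaternionGroup.a_mul_a,
        QuaternionGroup.xa_mul_a, QuaternionGroup.xa_mul_a]
      congr 1
      ring
    have h3 : (⟨y, hQT hyQ⟩⁻¹ * (⟨c, hcT⟩ * ⟨y, hQT hyQ⟩ * ⟨c, hcT⟩⁻¹) : ↥(T' : Subgroup K)) =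
        (e.symm (QuaternionGroup.a 1))⁻¹ ^ 2 := by
      have h5 := congrArg e.symm h2
      rwa [MulEquiv.symm_apply_apply, map_pow, map_inv] at h5
    have h4 : y⁻¹ * (c * y * c⁻¹) = c⁻¹ ^ 2 := congrArg Subtype.val h3
    rw [h4, inv_pow] at h1
    exact (Subgroup.inv_mem_iff Q).1 h1
  have hord2 : orderOf (c ^ 2) = 2 ^ n := by
    rw [orderOf_pow_of_dvd two_ne_zero (hordc ▸ dvd_mul_right 2 _), hordc,
      Nat.mul_div_cancel_left _ two_pos]
  -- `g` normalizes `R`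
  have hcard : 8 ≤ Nat.card ↥R := by
    have hmem : c ^ 2 ∈ R := ⟨hc2, Subgroup.mem_zpowers_iff.2 ⟨2, by norm_cast⟩⟩
    have := Nat.le_of_dvd Nat.card_pos (Subgroup.orderOf_dvd_natCard R hmem)
    rw [hord2] at this
    omega
  have hgR : g ∈ Subgroup.normalizer (R : Set K) := by
    obtain ⟨⟨r, hr⟩, hgen⟩ := IsCyclic.exists_generator (α := ↥R)
    have hr8 : 8 ≤ orderOf r := by
      have := orderOf_eq_card_of_forall_mem_zpowers hgen
      rw [Subgroup.orderOf_mk] at this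
      omega
    have hgr : g * r * g⁻¹ ∈ R := by
      refine ⟨hQn.conj_mem r hr.1 g, ?_⟩
      by_contra h
      have h4 := hord4 _ (hQT (hQn.conj_mem r hr.1 g)) h
      have : orderOf (g * r * g⁻¹) = orderOf r := (orderOf_injective (MulAut.conj g).toMonoidHom
        (MulAut.conj g).injective r)
      omega
    refine Subgroup.mem_normalizer_fintype fun x hx => ?_
    obtain ⟨k, hk⟩ := Subgroup.mem_zpowers_iff.1 (hgen ⟨x, hx⟩)
    have hk' : r ^ k = x := congrArg Subtype.val hk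
    rw [← hk', ← conj_zpow]
    exact zpow_mem hgr k
  have hR2 : IsPGroup 2 ↥R := hQ2.to_le inf_le_left
  intro x hx
  by_cases hxc : x ∈ Subgroup.zpowers c
  · exact CfsgLib.InvChar.commute_of_odd_of_cyclic hg R hR2 hgR ⟨hx, hxc⟩
  have hgx : g * x * g⁻¹ ∈ Q := hQn.conj_mem x hx g
  have hgxc : g * x * g⁻¹ ∉ Subgroup.zpowers c := by
    intro h
    apply hxc
    have := (Subgroup.mem_normalizer_iff.1 hgR x).2 ⟨hgx, h⟩
    exact this.2
  have hr : x⁻¹ * (g * x * g⁻¹) ∈ R :=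
    ⟨Q.mul_mem (Q.inv_mem hx) hgx, hdiv _ _ (hQT hx) (hQT hgx) hxc hgxc⟩
  refine CfsgLib.InvChar.commute_of_odd_of_chain hg ?_
    (CfsgLib.InvChar.commute_of_odd_of_cyclic hg R hR2 hgR hr) (by group)
  obtain ⟨k, hk⟩ := hR2 ⟨_, hr⟩
  exact ⟨k, congrArg Subtype.val hk⟩

end Cfsg.Agent.S3294
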