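import Cfsg.Statements.S3299
import Cfsg.Agent.Lib.InvChar.LargeExtraTransfer

set_option autoImplicit false
open Cfsg

namespace Cfsg.Agent.S3299

/-- Let G be a finite group with no nontrivial 2-group quotient (O^2(G) = G), z an involution of G with H = C_G(z), and suppose E = O_2(H) is extraspecial with C_G(E) ≤ E and of order 2^(2n+1) with n ≥ 2. Then E is contained in every normal subgroup of H of index 2. -/
theorem result {G : Type*} [Group G] [Finite G] (hres : Cfsg.pResidual 2 G = ⊤) (z : G) (hz : orderOf z = 2)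
    (E : Subgroup G) (hE : E = (Cfsg.pCore 2 ↥(Subgroup.centralizer ({z} : Set G))).map (Subgroup.centralizer ({z} : Set G)).subtype)
    (hext : Cfsg.IsExtraspecial 2 ↥E) (hcent : Subgroup.centralizer (E : Set G) ≤ E) (n : ℕ) (hn : 2 ≤ n) (hcard : Nat.card ↥E = 2 ^ (2 * n + 1))
    (K : Subgroup G) (hKH : K ≤ Subgroup.centralizer ({z} : Set G))
    (hKn : ∀ h ∈ Subgroup.centralizer ({z} : Set G), K.map (MulAut.conj h).toMonoidHom = K)
    (hKi : K.relIndex (Subgroup.centralizer ({z} : Set G)) = 2) : E ≤ K := by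
  classical
  haveI : Fact (Nat.Prime 2) := ⟨Nat.prime_two⟩
  have S := CfsgLib.InvChar.LargeExtraTransfer.setting_of_pCore hz hE hext hcent
  have h32 : 32 ≤ Nat.card ↥E := by
    rw [hcard]
    exact (show (32 : ℕ) = 2 ^ 5 by norm_num) ▸ Nat.pow_le_pow_right two_pos (by omega)
  set C := Subgroup.centralizer ({z} : Set G) with hC
  have hidx : (K.subgroupOf C).index = 2 := hKi
  let φ : ↥C →* ℤˣ :=
    { toFun := fun x => if x ∈ K.subgroupOf C then 1 else -1
      map_one' := if_pos (K.subgroupOf C).one_mem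
      map_mul' := fun x y => by
        have := Subgroup.mul_mem_iff_of_index_two hidx (a := x) (b := y)
        by_cases hx : x ∈ K.subgroupOf C <;> by_cases hy : y ∈ K.subgroupOf C <;> simp [hx, hy, this] }
  have hV : MonoidHom.transfer φ = 1 := by
    refine MonoidHom.ext fun g => ?_
    have h2 : IsPGroup 2 ℤˣ := IsPGroup.of_card (n := 1) (by simp [Nat.card_eq_fintype_card])
    have hg : g ∈ Cfsg.pResidual 2 G := hres ▸ Subgroup.mem_top g
    exact CfsgLib.Transfer.pResidual_le_ker h2 _ hg
  intro x hx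
  have h1 := S.map_eq_one h32 φ hV hx
  by_contra hxK
  have h2 : φ ⟨x, S.le hx⟩ = -1 := if_neg fun h => hxK h
  rw [h1] at h2
  exact absurd h2 (by decide)

end Cfsg.Agent.S3299
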