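import Mathlib
import Cfsg.Statements.S3301
import Cfsg.Agent.Lib.OrbitTransfer.Extraspecial
-- import your own Cfsg.Agent.* helpers here

set_option autoImplicit false
open Cfsg

namespace Cfsg.Agent.S3301

/-- Let G be a finite group with no nontrivial 2-group quotient (O^2(G) = G), z an involution of G with H = C_G(z), and suppose E = O_2(H) is extraspecial with C_G(E) ≤ E. Then the Sylow 2-subgroups of H/[H, H] are elementary abelian: every element of 2-power order of the abelianization of H has order at most 2. -/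
theorem result {G : Type*} [Group G] [Finite G] (hres : Cfsg.pResidual 2 G = ⊤) (z : G) (hz : orderOf z = 2)
    (E : Subgroup G) (hE : E = (Cfsg.pCore 2 ↥(Subgroup.centralizer ({z} : Set G))).map (Subgroup.centralizer ({z} : Set G)).subtype)
    (hext : Cfsg.IsExtraspecial 2 ↥E) (hcent : Subgroup.centralizer (E : Set G) ≤ E) :
    ∀ q : Abelianization ↥(Subgroup.centralizer ({z} : Set G)), (∃ k : ℕ, orderOf q = 2 ^ k) → q ^ 2 = 1 := by
  intro q hq
  by_contra hne
  obtain ⟨ψ, hψ⟩ := CfsgLib.OrbitTransfer.exists_surj_four hq hne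
  have hEH : E ≤ Subgroup.centralizer ({z} : Set G) := by
    rw [hE]; exact Subgroup.map_subtype_le _
  have hEn : ∀ x ∈ Subgroup.centralizer ({z} : Set G), ∀ e ∈ E, x * e * x⁻¹ ∈ E := by
    intro x hx e he
    rw [hE] at he ⊢
    obtain ⟨k, hk, rfl⟩ := Subgroup.mem_map.1 he
    refine Subgroup.mem_map.2 ⟨⟨x, hx⟩ * k * ⟨x, hx⟩⁻¹, ?_, rfl⟩
    exact (inferInstance : (Cfsg.pCore 2 ↥(Subgroup.centralizer ({z} : Set G))).Normal).conj_mem k hk _
  have hzE : z ∈ E := hcent (by
    rw [Subgroup.mem_centralizer_iff]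
    intro e he
    exact Subgroup.mem_centralizer_singleton_iff.1 (hEH he))
  refine CfsgLib.OrbitTransfer.no_char_four hres z hz E hEH hzE hEn hext hcent
    (ψ.comp Abelianization.of) ?_
  rw [MonoidHom.coe_comp]
  exact hψ.comp (QuotientGroup.mk'_surjective _)

end Cfsg.Agent.S3301
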