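import Cfsg.Statements.S3303
import Cfsg.Agent.Lib.InvChar.SylowInter
import Cfsg.Agent.Lib.InvChar.SolvableTwo

set_option autoImplicit false
open Cfsg

namespace Cfsg.Agent.S3303

theorem result {G : Type*} [Group G] [Finite G] (hs : Group.IsSolvable G)
    (hC : ∀ S T : Sylow 2 G, S ≠ T → IsCyclic ↥((S : Subgroup G) ⊓ (T : Subgroup G))) :
    ∃ P : Sylow 2 (G ⧸ Cfsg.oddCore G), (P : Subgroup (G ⧸ Cfsg.oddCore G)).Normal := by
  have := hs
  have : Group.IsSolvable (G ⧸ oddCore G) := inferInstance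
  obtain ⟨P⟩ := (inferInstance : Nonempty (Sylow 2 (G ⧸ oddCore G)))
  refine ⟨P, ?_⟩
  by_cases hall : ∀ S : Sylow 2 (G ⧸ oddCore G), S = P
  · haveI : Subsingleton (Sylow 2 (G ⧸ oddCore G)) := ⟨fun a b => (hall a).trans (hall b).symm⟩
    exact Sylow.normal_of_subsingleton P
  push Not at hall
  obtain ⟨S, hS⟩ := hall
  obtain ⟨S₁, T₁, U, hne, hU, hmap⟩ := CfsgLib.InvChar.exists_sylow_lift_inf (oddCore G) S P hS
  have := hC S₁ T₁ hne
  have : IsCyclic ↥U :=
    isCyclic_of_injective (Subgroup.inclusion hU) (Subgroup.inclusion_injective hU)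
  have hc : IsCyclic ↥((S : Subgroup (G ⧸ oddCore G)) ⊓ (P : Subgroup (G ⧸ oddCore G))) := by
    rw [← hmap]
    exact isCyclic_of_surjective ((QuotientGroup.mk' (oddCore G)).subgroupMap U)
      ((QuotientGroup.mk' (oddCore G)).subgroupMap_surjective U)
  have hle : pCore 2 (G ⧸ oddCore G) ≤ (S : Subgroup _) ⊓ (P : Subgroup _) :=
    le_inf (CfsgLib.PCore.pCore_le_sylow S) (CfsgLib.PCore.pCore_le_sylow P)
  have hQc : IsCyclic ↥(pCore 2 (G ⧸ oddCore G)) :=
    isCyclic_of_injective (Subgroup.inclusion hle) (Subgroup.inclusion_injective hle)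
  have h2 : IsPGroup 2 (G ⧸ oddCore G) := by
    refine CfsgLib.InvChar.isPGroup_two_of_odd_centralize CfsgLib.InvChar.oddCore_quotient_oddCore ?_
    intro g hg x hx
    refine CfsgLib.InvChar.commute_of_odd_of_cyclic hg _ CfsgLib.PCore.pCore_isPGroup ?_ hx
    rw [Subgroup.normalizer_eq_top_iff.2 (pCore_normal 2 _)]
    trivial
  exfalso
  apply hS
  exact Sylow.ext ((S.is_maximal' (h2.of_equiv Subgroup.topEquiv.symm) le_top).symm.trans
    (P.is_maximal' (h2.of_equiv Subgroup.topEquiv.symm) le_top))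

end Cfsg.Agent.S3303
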