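import Cfsg.Statements.S3304
import Cfsg.Agent.Lib.InvChar.SylowInter
import Cfsg.Agent.Lib.InvChar.OctahedralRecog
import Cfsg.Agent.Lib.InvChar.GLTwoThree

set_option autoImplicit false
open Cfsg

namespace Cfsg.Agent.S3304

theorem eq_of_rank_le_one {K : Type*} [Group K] [Finite K] {A : Subgroup K} (h : PRankLE 2 1 ↥A)
    {a b : K} (ha : a ∈ A) (hb : b ∈ A) (ha2 : orderOf a = 2) (hb2 : orderOf b = 2) (hab : Commute a b) :
    a = b := by
  classical
  by_contra hne
  set a' : ↥A := ⟨a, ha⟩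
  set b' : ↥A := ⟨b, hb⟩
  have hc : ∀ x ∈ ({a', b'} : Set ↥A), ∀ y ∈ ({a', b'} : Set ↥A), x * y = y * x := by
    rintro x (rfl | rfl) y (rfl | rfl) <;> apply Subtype.ext
    · rfl
    · exact hab
    · exact hab.symm
    · rfl
  set V := Subgroup.closure ({a', b'} : Set ↥A)
  have hVc : IsMulCommutative ↥V := by
    have h1 : V ≤ Subgroup.centralizer (V : Set ↥A) := by
      rw [Subgroup.le_centralizer_iff]
      refine (Subgroup.closure_le _).2 fun y hy => ?_
      intro x hx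
      induction hx using Subgroup.closure_induction with
      | mem x hx => exact hc x hx y hy
      | one => simp
      | mul x z _ _ i1 i2 => exact (Commute.mul_left i1 i2).eq
      | inv x _ i1 => exact (Commute.inv_left i1).eq
    exact ⟨⟨fun x y => Subtype.ext (h1 y.2 x x.2)⟩⟩
  have hexp : ∀ x ∈ V, x ^ 2 = 1 := by
    intro x hx
    induction hx using Subgroup.closure_induction with
    | mem x hx =>
      rcases hx with rfl | rfl <;> apply Subtype.ext
      · change a ^ 2 = 1; rw [← ha2, pow_orderOf_eq_one]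
      · change b ^ 2 = 1; rw [← hb2, pow_orderOf_eq_one]
    | one => simp
    | mul x y hx' hy' i1 i2 =>
      have : Commute x y := congrArg Subtype.val (hVc.is_comm.comm ⟨x, hx'⟩ ⟨y, hy'⟩)
      rw [this.mul_pow, i1, i2, one_mul]
    | inv x _ i1 => rw [inv_pow, i1, inv_one]
  have hcard := h V hVc hexp
  have hsub : ({1, a', b'} : Set ↥A) ⊆ (V : Set ↥A) := by
    rintro x (rfl | hx)
    · exact V.one_mem
    · exact Subgroup.subset_closure hx
  have h3 : ({1, a', b'} : Set ↥A).ncard = 3 := by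
    rw [Set.ncard_eq_three]
    refine ⟨1, a', b', ?_, ?_, fun e => hne (congrArg Subtype.val e), rfl⟩
    · intro e
      have e' : (1 : K) = a := congrArg Subtype.val e
      rw [← e'] at ha2; simp at ha2
    · intro e
      have e' : (1 : K) = b := congrArg Subtype.val e
      rw [← e'] at hb2; simp at hb2
  have h4 := Set.ncard_le_ncard hsub (Set.toFinite _)
  rw [h3, ← Nat.card_coe_set_eq] at h4
  rw [pow_one] at hcard
  exact absurd (h4.trans hcard) (by norm_num)

theorem result {G : Type*} [Group G] [Finite G] (hs : Group.IsSolvable G)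
    (hI : ∀ S T : Sylow 2 G, S ≠ T → Cfsg.PRankLE 2 1 ↥((S : Subgroup G) ⊓ (T : Subgroup G))) :
    (∃ P : Sylow 2 (G ⧸ Cfsg.oddCore G), (P : Subgroup (G ⧸ Cfsg.oddCore G)).Normal) ∨
    Nonempty ((G ⧸ Cfsg.oddCore G) ≃* GL (Fin 2) (ZMod 3)) ∨
    (Nat.card (G ⧸ Cfsg.oddCore G) = 48 ∧ Nat.card ↥(Subgroup.center (G ⧸ Cfsg.oddCore G)) = 2 ∧
      Nonempty ((G ⧸ Cfsg.oddCore G) ⧸ Subgroup.center (G ⧸ Cfsg.oddCore G) ≃* Equiv.Perm (Fin 4)) ∧
      ∀ P : Sylow 2 (G ⧸ Cfsg.oddCore G), Nonempty (↥(P : Subgroup (G ⧸ Cfsg.oddCore G)) ≃* QuaternionGroup 4)) := by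
  classical
  have := hs
  by_cases hn : ∃ P : Sylow 2 (G ⧸ Cfsg.oddCore G), (P : Subgroup (G ⧸ Cfsg.oddCore G)).Normal
  · exact Or.inl hn
  push Not at hn
  right
  obtain ⟨P⟩ := (inferInstance : Nonempty (Sylow 2 (G ⧸ oddCore G)))
  obtain ⟨S, hS⟩ : ∃ S : Sylow 2 (G ⧸ oddCore G), S ≠ P := by
    by_contra hall
    push Not at hall
    have : Subsingleton (Sylow 2 (G ⧸ oddCore G)) := ⟨fun a b => (hall a).trans (hall b).symm⟩
    exact hn P (Sylow.normal_of_subsingleton P)
  obtain ⟨S₁, T₁, U, hne, hU, hmap⟩ := CfsgLib.InvChar.exists_sylow_lift_inf (oddCore G) S P hS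
  -- the intersection upstairs has rank one, and it maps onto the one downstairs
  have hrank : ∀ a b : G ⧸ oddCore G, a ∈ pCore 2 (G ⧸ oddCore G) → b ∈ pCore 2 (G ⧸ oddCore G) →
      orderOf a = 2 → orderOf b = 2 → a = b := by
    -- first for commuting pairs
    have hcomm : ∀ a b : G ⧸ oddCore G, a ∈ pCore 2 (G ⧸ oddCore G) → b ∈ pCore 2 (G ⧸ oddCore G) →
        orderOf a = 2 → orderOf b = 2 → Commute a b → a = b := by
      intro a b ha hb ha2 hb2 hab
      have hinj : ∀ u ∈ U, QuotientGroup.mk' (oddCore G) u = 1 → u = 1 := by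
        intro u hu h
        rw [QuotientGroup.mk'_apply, QuotientGroup.eq_one_iff] at h
        have hb' := CfsgLib.PCore.inf_eq_bot_of_isPGroup_coprime (p := 2)
          (S₁.isPGroup'.to_le (hU.trans inf_le_left)) (CfsgLib.PCore.pPrimeCore_coprime (G := G))
        have : u ∈ U ⊓ oddCore G := ⟨hu, h⟩
        rw [hb', Subgroup.mem_bot] at this
        exact this
      have hle : pCore 2 (G ⧸ oddCore G) ≤ (S : Subgroup _) ⊓ (P : Subgroup _) :=
        le_inf (CfsgLib.PCore.pCore_le_sylow S) (CfsgLib.PCore.pCore_le_sylow P)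
      obtain ⟨u, hu, rfl⟩ := hmap.ge (hle ha)
      obtain ⟨v, hv, rfl⟩ := hmap.ge (hle hb)
      let π : ↥U →* G ⧸ oddCore G := (QuotientGroup.mk' (oddCore G)).comp U.subtype
      have hπ : Function.Injective π := (injective_iff_map_eq_one π).2 fun w hw => Subtype.ext (hinj w w.2 hw)
      have huv : Commute (⟨u, hu⟩ : ↥U) ⟨v, hv⟩ := hπ (by rw [map_mul, map_mul]; exact hab)
      have hu2 : orderOf u = 2 := by
        rw [← ha2, show (QuotientGroup.mk' (oddCore G)) u = π ⟨u, hu⟩ from rfl, orderOf_injective π hπ,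
          Subgroup.orderOf_mk]
      have hv2 : orderOf v = 2 := by
        rw [← hb2, show (QuotientGroup.mk' (oddCore G)) v = π ⟨v, hv⟩ from rfl, orderOf_injective π hπ,
          Subgroup.orderOf_mk]
      rw [eq_of_rank_le_one (hI S₁ T₁ hne) (hU hu) (hU hv) hu2 hv2 (congrArg Subtype.val huv)]
    intro a b ha hb ha2 hb2
    set Q := pCore 2 (G ⧸ oddCore G)
    have hQ2 : IsPGroup 2 ↥Q := CfsgLib.PCore.pCore_isPGroup
    have hne : Nontrivial ↥Q := ⟨⟨⟨a, ha⟩, 1, fun h => by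
      rw [show a = 1 from congrArg Subtype.val h] at ha2; simp at ha2⟩⟩
    obtain ⟨z0, hz0⟩ := exists_prime_orderOf_dvd_card' (G := ↥(Subgroup.center ↥Q)) 2 (by
      obtain ⟨n, hn'⟩ := (hQ2.to_subgroup (Subgroup.center _)).exists_card_eq
      rcases n with _ | n
      · have h1 := Finite.one_lt_card_iff_nontrivial.2 hQ2.center_nontrivial
        rw [hn', pow_zero] at h1
        omega
      · rw [hn']; exact dvd_pow_self 2 (by omega))
    have hc : ∀ c (hc : c ∈ Q), Commute c ((z0 : ↥Q) : G ⧸ oddCore G) := fun c hc =>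
      congrArg Subtype.val (Subgroup.mem_center_iff.1 z0.2 ⟨c, hc⟩)
    have hz2 : orderOf ((z0 : ↥Q) : G ⧸ oddCore G) = 2 := by rw [Subgroup.orderOf_coe, Subgroup.orderOf_coe, hz0]
    rw [hcomm a _ ha (z0 : ↥Q).2 ha2 hz2 (hc a ha), hcomm b _ hb (z0 : ↥Q).2 hb2 hz2 (hc b hb)]
  obtain ⟨h48, hZ, hS4, hP, hGL⟩ :=
    CfsgLib.InvChar.octahedral CfsgLib.InvChar.oddCore_quotient_oddCore hrank hn
  by_cases ht : ∃ t : G ⧸ oddCore G, orderOf t = 2 ∧ t ∉ Subgroup.center (G ⧸ oddCore G)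
  · left
    obtain ⟨e1⟩ := hGL ht
    obtain ⟨e2⟩ := CfsgLib.InvChar.Q8Action.nonempty_equiv_GL23
    exact ⟨e1.symm.trans e2⟩
  right
  push Not at ht
  refine ⟨h48, hZ, hS4, fun R => ?_⟩
  obtain ⟨hR16, hRc⟩ := hP R
  obtain hc | ⟨n, hn1, ⟨e⟩⟩ := CfsgLib.TwoGroups.OneInvolution.isCyclic_or_quaternion R.isPGroup'
    (fun a b ha hb => by
      apply Subtype.ext
      have ha' := ht _ ((Subgroup.orderOf_coe a).trans ha)
      have hb' := ht _ ((Subgroup.orderOf_coe b).trans hb)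
      have : Fact (Nat.Prime 2) := ⟨Nat.prime_two⟩
      have hcyc : IsCyclic ↥(Subgroup.center (G ⧸ oddCore G)) := isCyclic_of_prime_card hZ
      obtain ⟨g, hg⟩ := IsCyclic.exists_generator (α := ↥(Subgroup.center (G ⧸ oddCore G)))
      have key : ∀ c : ↥(Subgroup.center (G ⧸ oddCore G)), c ≠ 1 → c = g := by
        intro c hc
        obtain ⟨i, hi⟩ := Subgroup.mem_zpowers_iff.1 (hg c)
        have hg2 : orderOf g = 2 := (orderOf_eq_card_of_forall_mem_zpowers hg).trans hZ
        rw [← zpow_mod_orderOf, hg2] at hi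
        rcases Int.emod_two_eq_zero_or_one i with h | h
        · rw [show i % ((2 : ℕ) : ℤ) = 0 by exact_mod_cast h, zpow_zero] at hi
          exact absurd hi.symm hc
        · rw [show i % ((2 : ℕ) : ℤ) = 1 by exact_mod_cast h, zpow_one] at hi
          exact hi.symm
      have h1 : (⟨_, ha'⟩ : ↥(Subgroup.center (G ⧸ oddCore G))) = ⟨_, hb'⟩ := by
        rw [key ⟨_, ha'⟩ ?_, key ⟨_, hb'⟩ ?_] <;> intro h <;> have h2 := congrArg Subtype.val h <;>
          simp at h2 <;> first | (rw [h2] at ha; simp at ha) | (rw [h2] at hb; simp at hb)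
      have h2 := congrArg Subtype.val h1
      exact h2)
  · exact absurd hc hRc
  · have h4 := Nat.card_congr e.toEquiv
    rw [hR16, Nat.card_eq_fintype_card, QuaternionGroup.card] at h4
    rw [show 2 ^ n = 4 by omega] at e
    exact ⟨e⟩

end Cfsg.Agent.S3304
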