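import Cfsg.Statements.S3309
import Cfsg.Agent.Lib.Transfer.Basic

set_option autoImplicit false
open Cfsg

namespace Cfsg.Agent.S3309

abbrev D := Multiplicative (ZMod 2) × DihedralGroup 4

/-- The homomorphism cutting out one of the maximal subgroups not containing the direct factor. -/
def cutFun (i j : ZMod 2) (d : D) : Multiplicative (ZMod 2) :=
  d.1 * match d.2 with
  | .r k => Multiplicative.ofAdd (i * (k.val : ZMod 2))
  | .sr k => Multiplicative.ofAdd (j + i * (k.val : ZMod 2))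

theorem cutFun_mul : ∀ (i j : ZMod 2) (a b : D), cutFun i j (a * b) = cutFun i j a * cutFun i j b := by
  decide +kernel

def cut (i j : ZMod 2) : D →* Multiplicative (ZMod 2) :=
  MonoidHom.mk' (cutFun i j) (cutFun_mul i j)

def zC : D := (1, DihedralGroup.r 2)
def cC : D := (Multiplicative.ofAdd 1, 1)
def nc (e : ZMod 2) (k : ZMod 4) : D := (Multiplicative.ofAdd e, DihedralGroup.sr k)

set_option synthInstance.maxSize 1000 in
theorem facts :
    (∀ d : D, d * d = 1 ∨ d * d = zC) ∧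
    (∀ d : D, d * zC = zC * d ∧ d * cC = cC * d) ∧
    (∀ d : D, d * d = 1 → d ≠ 1 → d = zC ∨ d = cC ∨ d = cC * zC ∨
      ∃ h : D, h * d * h⁻¹ = nc 0 0 ∨ h * d * h⁻¹ = nc 0 1 ∨ h * d * h⁻¹ = nc 1 0 ∨ h * d * h⁻¹ = nc 1 1) ∧
    (∀ i j : ZMod 2, cutFun i j cC = Multiplicative.ofAdd 1 ∧
      cutFun i j (cC * zC) = Multiplicative.ofAdd 1) ∧
    (∀ (i j : ZMod 2) (d : D), cutFun i j d = 1 → d * d = 1 → d ≠ 1 → d = zC ∨
      ∃ h : D, h * d * h⁻¹ = nc j 0 ∨ h * d * h⁻¹ = nc (i + j) 1) ∧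
    (∀ (e : ZMod 2) (k : ZMod 4), ∃ h : D, h * (nc e k * zC) * h⁻¹ = nc e k) ∧
    (∃ r : D, r * r = zC) := by
  refine ⟨?_, ?_, ?_, ?_, ?_, ?_, ?_⟩ <;> decide +kernel

theorem result {G : Type*} [Group G] [Finite G] (S : Sylow 2 G) (hS : Nonempty (↥(S : Subgroup G) ≃* Multiplicative (ZMod 2) × DihedralGroup 4))
    [IsSimpleGroup G] (hG : ¬ IsMulCommutative G) : False := by
  classical
  obtain ⟨e⟩ := hS
  obtain ⟨f1, f2, f3, f4, f5, f6, r0, hr0⟩ := facts
  set f : D →* G := (S : Subgroup G).subtype.comp e.symm.toMonoidHom with hf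
  have hfi : Function.Injective f := (S : Subgroup G).subtype_injective.comp e.symm.injective
  have hfS : ∀ d, f d ∈ (S : Subgroup G) := fun d => (e.symm d).2
  have hfs : ∀ x ∈ (S : Subgroup G), ∃ d, f d = x := fun x hx => ⟨e ⟨x, hx⟩, by simp [f]⟩
  have hrange : (⊤ : Subgroup D).map f = (S : Subgroup G) := by
    ext x
    exact ⟨fun ⟨d, _, hd⟩ => hd ▸ hfS d, fun hx => (hfs x hx).imp fun d hd => ⟨trivial, hd⟩⟩
  have hcen : ∀ {u : D}, (∀ d : D, d * u = u * d) → ∀ x ∈ (S : Subgroup G), Commute x (f u) := by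
    intro u hu x hx
    obtain ⟨d, rfl⟩ := hfs x hx
    change f d * f u = f u * f d
    rw [← map_mul, ← map_mul, hu]
  have hne1 : ∀ {d : D}, d ≠ 1 → f d ≠ 1 := fun hd h => hd (hfi (h.trans (map_one f).symm))
  -- conjugation between central elements happens in the normalizer
  have hnorm : ∀ u v : D, (∀ d : D, d * u = u * d) → (∀ d : D, d * v = v * d) →
      IsConj (f u) (f v) → ∃ n ∈ Subgroup.normalizer ((S : Subgroup G) : Set G),
        n * f u * n⁻¹ = f v := by
    intro u v hu hv h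
    obtain ⟨g, hg⟩ := isConj_iff.1 h
    obtain ⟨c, hc, hn⟩ := CfsgLib.Transfer.exists_normalizer_of_image_eq S {f u} {f v}
      (fun x hx => by
        rw [Set.image_singleton, (hcen hu x hx).eq, mul_inv_cancel_right])
      (fun x hx => by
        rw [Set.image_singleton, (hcen hv x hx).eq, mul_inv_cancel_right]) g
      (by rw [Set.image_singleton, hg])
    rw [Set.image_singleton, Set.singleton_eq_singleton_iff] at hc
    refine ⟨g * c, hn, ?_⟩
    calc g * c * f u * (g * c)⁻¹ = g * (c * f u * c⁻¹) * g⁻¹ := by group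
      _ = f v := by rw [hc, hg]
  have hzsq : ∀ n ∈ Subgroup.normalizer ((S : Subgroup G) : Set G), n * f zC * n⁻¹ = f zC := by
    intro n hn
    obtain ⟨d, hd⟩ := hfs _ ((Subgroup.mem_normalizer_iff.1 hn (f r0)).1 (hfS r0))
    have h1 : n * f zC * n⁻¹ = f (d * d) := by
      rw [map_mul f d d, hd, conj_mul, ← map_mul f r0 r0, hr0]
    rcases f1 d with h | h
    · rw [h, map_one, conj_eq_one_iff] at h1
      exact absurd h1 (hne1 (by decide))
    · rw [h1, h]
  have hcC : ∀ d : D, d * cC = cC * d := fun d => (f2 d).2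
  have hzC : ∀ d : D, d * zC = zC * d := fun d => (f2 d).1
  have hczC : ∀ d : D, d * (cC * zC) = cC * zC * d := fun d => by
    rw [← mul_assoc, hcC, mul_assoc, hzC, ← mul_assoc]
  have hzc : ¬ IsConj (f zC) (f cC) := fun h => by
    obtain ⟨n, hn, hn'⟩ := hnorm _ _ hzC hcC h
    exact absurd (hfi ((hzsq n hn).symm.trans hn')) (by decide)
  have hzcz : ¬ IsConj (f zC) (f (cC * zC)) := fun h => by
    obtain ⟨n, hn, hn'⟩ := hnorm _ _ hzC hczC h
    exact absurd (hfi ((hzsq n hn).symm.trans hn')) (by decide)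
  have hccz : ¬ IsConj (f cC) (f (cC * zC)) := fun h => by
    obtain ⟨n, hn, hn'⟩ := hnorm _ _ hcC hczC h
    -- an odd power of `n` swaps the two elements, and a suitable one lies in `S`
    obtain ⟨k, m, hm, hkm⟩ := Nat.exists_eq_two_pow_mul_odd (orderOf_pos n).ne'
    have hfz : f zC * f zC = 1 := by
      rw [← map_mul, show zC * zC = (1 : D) by decide, map_one]
    have hswap : n * (f (cC * zC)) * n⁻¹ = f cC := by
      rw [map_mul, ← conj_mul, hn', hzsq n hn, map_mul, mul_assoc, hfz, mul_one]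
    have hsq : n ^ 2 * f cC * (n ^ 2)⁻¹ = f cC := by
      calc n ^ 2 * f cC * (n ^ 2)⁻¹ = n * (n * f cC * n⁻¹) * n⁻¹ := by rw [pow_two]; group
        _ = f cC := by rw [hn', hswap]
    have hodd : ∀ j : ℕ, n ^ (2 * j + 1) * f cC * (n ^ (2 * j + 1))⁻¹ = f (cC * zC) := by
      intro j
      induction j with
      | zero => simpa using hn'
      | succ j ih =>
        calc n ^ (2 * (j + 1) + 1) * f cC * (n ^ (2 * (j + 1) + 1))⁻¹
            = n ^ (2 * j + 1) * (n ^ 2 * f cC * (n ^ 2)⁻¹) * (n ^ (2 * j + 1))⁻¹ := by group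
          _ = _ := by rw [hsq, ih]
    obtain ⟨j, hj⟩ := hm
    have hmem : n ^ m ∈ (S : Subgroup G) := by
      have hp : IsPGroup 2 ↥(Subgroup.zpowers (n ^ m)) := by
        have hd : orderOf (n ^ m) ∣ 2 ^ k := orderOf_dvd_of_pow_eq_one (by
          rw [← pow_mul, mul_comm, ← hkm, pow_orderOf_eq_one])
        obtain ⟨i, -, hi⟩ := (Nat.dvd_prime_pow Nat.prime_two).1 hd
        exact IsPGroup.of_card (n := i) (by rw [Nat.card_zpowers, hi])
      have h2 := S.isPGroup'.to_sup_of_normal_left' hp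
        (Subgroup.zpowers_le.2 (Subgroup.pow_mem _ hn m))
      rw [← S.is_maximal' h2 le_sup_left]
      exact Subgroup.mem_sup_right (Subgroup.mem_zpowers _)
    have h3 := hodd j
    rw [← hj, (hcen hcC _ hmem).eq, mul_inv_cancel_right] at h3
    exact absurd (hfi h3) (by decide)
  have hconjD : ∀ {a b h : D}, h * a * h⁻¹ = b → IsConj (f a) (f b) := fun {a b h} hab =>
    isConj_iff.2 ⟨f h, by rw [← map_inv, ← map_mul, ← map_mul, hab]⟩
  -- the transfer lemma
  have htr : ∀ u : D, (u = cC ∨ u = cC * zC) → ∀ i j : ZMod 2,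
      IsConj (f u) (f (nc j 0)) ∨ IsConj (f u) (f (nc (i + j) 1)) := by
    intro u hu i j
    have hu1 : cutFun i j u = Multiplicative.ofAdd 1 := by
      rcases hu with rfl | rfl
      · exact (f4 i j).1
      · exact (f4 i j).2
    have hu2 : u * u = 1 ∧ u ≠ 1 := by
      rcases hu with rfl | rfl <;> decide
    set Q := (cut i j).ker.map f with hQ
    have hrel : Q.relIndex (S : Subgroup G) = 2 := by
      rw [hQ, ← hrange, Subgroup.relIndex_map_map_of_injective _ _ hfi, Subgroup.relIndex_top_right,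
        Subgroup.index_ker]
      have hsurj : (cut i j).range = ⊤ := by
        rw [MonoidHom.range_eq_top]
        intro y
        have hy : ∀ y : Multiplicative (ZMod 2), y = 1 ∨ y = Multiplicative.ofAdd 1 := by decide
        rcases hy y with rfl | rfl
        · exact ⟨1, map_one _⟩
        · exact ⟨u, hu1⟩
      rw [hsurj, Subgroup.card_top, Nat.card_eq_fintype_card]
      rfl
    by_contra hcon
    obtain ⟨M, hMn, hMi, huM⟩ := CfsgLib.Transfer.thompson_transfer S Q hrel (f u)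
      (by rw [pow_two, ← map_mul, hu2.1, map_one]) fun g _ hgQ => by
      obtain ⟨d, hd, hd'⟩ := hgQ
      have hd2 : d * d = 1 := hfi (by
        rw [map_mul, map_one, hd', conj_mul, ← map_mul f u u, hu2.1, map_one, mul_one, mul_inv_cancel])
      have hd1 : d ≠ 1 := by
        rintro rfl
        rw [map_one] at hd'
        exact hne1 hu2.2 (conj_eq_one_iff.1 hd'.symm)
      have hud : IsConj (f u) (f d) := isConj_iff.2 ⟨g, hd'.symm⟩
      rcases f5 i j d hd hd2 hd1 with rfl | ⟨h, hh | hh⟩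
      · rcases hu with rfl | rfl
        · exact hzc hud.symm
        · exact hzcz hud.symm
      · exact hcon (Or.inl (hud.trans (hconjD hh)))
      · exact hcon (Or.inr (hud.trans (hconjD hh)))
    rcases IsSimpleGroup.eq_bot_or_eq_top_of_normal M hMn with h | h
    · rw [h, Subgroup.index_bot] at hMi
      have : Fact (Nat.Prime 2) := ⟨Nat.prime_two⟩
      have := isCyclic_of_prime_card hMi
      exact hG IsCyclic.commutative
    · exact huM (h ▸ Subgroup.mem_top _)
  -- the two possible patterns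
  have hpair : ∀ u : D, (u = cC ∨ u = cC * zC) → ∃ k : ZMod 4, (k = 0 ∨ k = 1) ∧
      IsConj (f u) (f (nc 0 k)) ∧ IsConj (f u) (f (nc 1 k)) := by
    intro u hu
    have h00 := htr u hu 0 0
    have h10 := htr u hu 1 0
    have h01 := htr u hu 0 1
    have h11 := htr u hu 1 1
    simp only [show (0 : ZMod 2) + 0 = 0 from by decide, show (1 : ZMod 2) + 0 = 1 from by decide,
      show (0 : ZMod 2) + 1 = 1 from by decide, show (1 : ZMod 2) + 1 = 0 from by decide] at h00 h10 h01 h11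
    rcases h00 with a | b
    · by_cases a1 : IsConj (f u) (f (nc 1 0))
      · exact ⟨0, Or.inl rfl, a, a1⟩
      · exact ⟨1, Or.inr rfl, h11.resolve_left a1, h01.resolve_left a1⟩
    · by_cases b1 : IsConj (f u) (f (nc 1 1))
      · exact ⟨1, Or.inr rfl, b, b1⟩
      · exact ⟨0, Or.inl rfl, h10.resolve_right b1, h01.resolve_right b1⟩
  obtain ⟨k, hk, hk0, hk1⟩ := hpair cC (Or.inl rfl)
  obtain ⟨l, hl, hl0, hl1⟩ := hpair (cC * zC) (Or.inr rfl)
  have hkl : k ≠ l := fun h => hccz (hk0.trans (h ▸ hl0).symm)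
  have hcover : ∀ (ε : ZMod 2) (j : ZMod 4), (j = 0 ∨ j = 1) →
      IsConj (f cC) (f (nc ε j)) ∨ IsConj (f (cC * zC)) (f (nc ε j)) := by
    intro ε j hj
    have hε : ε = 0 ∨ ε = 1 := by revert ε; decide
    have hjkl : j = k ∨ j = l := by
      rcases hj with rfl | rfl <;> rcases hk with rfl | rfl <;> rcases hl with rfl | rfl <;>
        first | exact Or.inl rfl | exact Or.inr rfl | exact absurd rfl hkl
    rcases hjkl with rfl | rfl <;> rcases hε with rfl | rfl
    · exact Or.inl hk0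
    · exact Or.inl hk1
    · exact Or.inr hl0
    · exact Or.inr hl1
  -- `z` is weakly closed
  have hwc : ∀ d : D, IsConj (f zC) (f d) → d = zC := by
    intro d hd
    obtain ⟨g, hg⟩ := isConj_iff.1 hd
    have hd2 : d * d = 1 := hfi (by
      rw [map_mul, map_one, ← hg, conj_mul, ← map_mul, show zC * zC = (1 : D) by decide, map_one,
        mul_one, mul_inv_cancel])
    have hd1 : d ≠ 1 := by
      rintro rfl
      rw [map_one, conj_eq_one_iff] at hg
      exact hne1 (by decide) hg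
    have bad : ∀ {ε : ZMod 2} {j : ZMod 4} {h : D}, (j = 0 ∨ j = 1) → h * d * h⁻¹ = nc ε j → False := by
      intro ε j h hj hh
      rcases hcover ε j hj with h' | h'
      · exact hzc ((hd.trans (hconjD hh)).trans h'.symm)
      · exact hzcz ((hd.trans (hconjD hh)).trans h'.symm)
    rcases f3 d hd2 hd1 with h | h | h | ⟨h', h | h | h | h⟩
    · exact h
    · exact absurd (h ▸ hd) hzc
    · exact absurd (h ▸ hd) hzcz
    · exact (bad (Or.inl rfl) h).elim
    · exact (bad (Or.inr rfl) h).elim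
    · exact (bad (Or.inl rfl) h).elim
    · exact (bad (Or.inr rfl) h).elim
  -- conjugate `s = nc 0 k` to `c`, carrying `z` into `S`
  obtain ⟨g, hg⟩ := isConj_iff.1 hk0.symm
  set C := Subgroup.centralizer ({f cC} : Set G) with hC
  have hSC : (S : Subgroup G) ≤ C := fun x hx =>
    Subgroup.mem_centralizer_singleton_iff.2 (hcen hcC x hx).eq
  let A : Subgroup G := (Subgroup.zpowers (g * f zC * g⁻¹))
  have hgz : g * f zC * g⁻¹ ∈ C := by
    refine Subgroup.mem_centralizer_singleton_iff.2 ?_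
    rw [← hg, conj_mul, conj_mul, ← map_mul, ← map_mul, hzC]
  have hp : IsPGroup 2 ↥A := by
    have h2 : (g * f zC * g⁻¹) ^ 2 = 1 := by
      rw [pow_two, conj_mul, ← map_mul, show zC * zC = (1 : D) by decide, map_one, mul_one,
        mul_inv_cancel]
    obtain ⟨i, -, hi⟩ := (Nat.dvd_prime_pow Nat.prime_two).1
      (show orderOf (g * f zC * g⁻¹) ∣ 2 ^ 1 from orderOf_dvd_of_pow_eq_one (by rwa [pow_one]))
    exact IsPGroup.of_card (n := i) (by rw [Nat.card_zpowers, hi])
  obtain ⟨P, hP⟩ := (hp.comap_subtype (K := C)).exists_le_sylow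
  obtain ⟨⟨h, hh⟩, hh'⟩ := MulAction.exists_smul_eq (↥C) P (S.subtype hSC)
  have hmem : (⟨h, hh⟩ : ↥C) * ⟨_, hgz⟩ * (⟨h, hh⟩ : ↥C)⁻¹ ∈ (S.subtype hSC : Subgroup ↥C) := by
    rw [← hh']
    exact ⟨_, hP (Subgroup.mem_zpowers _), rfl⟩
  have hmem' : h * (g * f zC * g⁻¹) * h⁻¹ ∈ (S : Subgroup G) := hmem
  obtain ⟨d, hd⟩ := hfs _ hmem'
  have hd' : d = zC := hwc d (isConj_iff.2 ⟨h * g, by rw [hd]; group⟩)
  rw [hd'] at hd
  apply hccz
  obtain ⟨h6, hh6⟩ := f6 0 k
  have h7 : IsConj (f (nc 0 k)) (f (cC * zC)) := by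
    refine (hconjD hh6).symm.trans (isConj_iff.2 ⟨h * g, ?_⟩)
    have hhc : h * f cC * h⁻¹ = f cC :=
      mul_inv_eq_iff_eq_mul.2 (Subgroup.mem_centralizer_singleton_iff.1 hh)
    calc h * g * f (nc 0 k * zC) * (h * g)⁻¹
        = (h * (g * f (nc 0 k) * g⁻¹) * h⁻¹) * (h * (g * f zC * g⁻¹) * h⁻¹) := by
          rw [map_mul]; group
      _ = f (cC * zC) := by rw [hg, hhc, ← hd, map_mul]
  exact hk0.trans h7

end Cfsg.Agent.S3309
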