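import Cfsg.Statements.S3312
import Cfsg.Agent.Lib.Blocks.WeakOrth
import Cfsg.Agent.Lib.Blocks.BlockParts
import Cfsg.Agent.Lib.Characters.Burnside
import Cfsg.Agent.Lib.Involutions.Basic
import Cfsg.Agent.Lib.Involutions.Fusion
import Cfsg.Agent.Lib.PCore.Basic
import Cfsg.Agent.Lib.KGV.Ito

set_option autoImplicit false
open Cfsg

namespace Cfsg.Agent.S3312

open CfsgLib.Involutions
open scoped ComplexConjugate

variable {G : Type*} [Group G] [Finite G]

/-- A weakly closed subgroup has only one conjugate in any 2-subgroup. -/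
theorem conj_mem_unique {T : Sylow 2 G} {W : Subgroup G} (hwc : Cfsg.IsWeaklyClosed W (T : Subgroup G))
    {R : Subgroup G} (hR : IsPGroup 2 R) (hWR : W ≤ R) {g : G} (hgR : ∀ v ∈ W, g * v * g⁻¹ ∈ R) :
    ∀ v ∈ W, g * v * g⁻¹ ∈ W := by
  obtain ⟨c, hc⟩ := exists_conj_le_sylow hR T
  have h1 : W.map (MulAut.conj c).toMonoidHom = W := by
    refine hwc.2 c ?_
    rintro _ ⟨v, hv, rfl⟩
    exact hc v (hWR hv)
  have h2 : W.map (MulAut.conj (c * g)).toMonoidHom = W := by
    refine hwc.2 (c * g) ?_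
    rintro _ ⟨v, hv, rfl⟩
    have := hc _ (hgR v hv)
    show (MulAut.conj (c * g)) v ∈ (T : Subgroup G)
    rw [show (MulAut.conj (c * g)) v = c * (g * v * g⁻¹) * c⁻¹ by simp [mul_assoc]]
    exact this
  intro v hv
  have h3 : c * g * v * (c * g)⁻¹ ∈ W := by
    have : (MulAut.conj (c * g)).toMonoidHom v ∈ W.map (MulAut.conj (c * g)).toMonoidHom :=
      Subgroup.mem_map_of_mem _ hv
    rw [h2] at this
    simpa [mul_assoc] using this
  rw [← h1] at h3
  obtain ⟨v', hv', he⟩ := h3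
  have : g * v * g⁻¹ = v' := by
    have he' : c * v' * c⁻¹ = c * g * v * (c * g)⁻¹ := by simpa using he
    have : c * v' * c⁻¹ = c * (g * v * g⁻¹) * c⁻¹ := by rw [he']; group
    exact (mul_left_cancel (mul_right_cancel this)).symm
  exact this ▸ hv'

/-- The normaliser of a weakly closed central subgroup controls fusion in the Sylow subgroup. -/
theorem fusion {T : Sylow 2 G} {W : Subgroup G}
    (hWc : ∀ v ∈ W, ∀ s ∈ (T : Subgroup G), Commute v s)
    (hwc : Cfsg.IsWeaklyClosed W (T : Subgroup G)) {x y g : G} (hx : x ∈ (T : Subgroup G))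
    (hy : y ∈ (T : Subgroup G)) (hg : g * x * g⁻¹ = y) :
    ∃ n : G, n * x * n⁻¹ = y ∧ (∀ v ∈ W, n * v * n⁻¹ ∈ W) ∧ ∀ v ∈ W, n⁻¹ * v * n ∈ W := by
  set C := Subgroup.centralizer ({y} : Set G)
  have hW2 : IsPGroup 2 W := T.isPGroup'.to_le hwc.1
  have hWC : W ≤ C := fun v hv => Subgroup.mem_centralizer_singleton_iff.mpr (hWc v hv y hy).eq
  set W' := W.map (MulAut.conj g).toMonoidHom
  have hW'C : W' ≤ C := by
    rintro _ ⟨v, hv, rfl⟩
    refine Subgroup.mem_centralizer_singleton_iff.mpr ?_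
    have h := ((hWc v hv x hx).map (MulAut.conj g).toMonoidHom).eq
    simp only [MulEquiv.coe_toMonoidHom, MulAut.conj_apply, hg] at h
    simpa using h
  obtain ⟨Q, hQ⟩ := (hW2.comap_of_injective C.subtype C.subtype_injective).exists_le_sylow
  obtain ⟨c, hc⟩ := exists_conj_le_sylow
    ((hW2.map (MulAut.conj g).toMonoidHom).comap_of_injective C.subtype C.subtype_injective) Q
  have hn : ∀ v ∈ W, (c : G) * g * v * ((c : G) * g)⁻¹ ∈ W := by
    refine conj_mem_unique hwc (Q.isPGroup'.map C.subtype) ?_ ?_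
    · exact fun v hv => ⟨⟨v, hWC hv⟩, hQ hv, rfl⟩
    · intro v hv
      have hv' : g * v * g⁻¹ ∈ W' := ⟨v, hv, by simp⟩
      refine ⟨_, hc ⟨g * v * g⁻¹, hW'C hv'⟩ hv', ?_⟩
      simp [mul_assoc]
  refine ⟨(c : G) * g, ?_, hn, ?_⟩
  · have hcy : (c : G) * y = y * c := Subgroup.mem_centralizer_singleton_iff.mp c.2
    calc (c : G) * g * x * ((c : G) * g)⁻¹ = (c : G) * (g * x * g⁻¹) * (c : G)⁻¹ := by group
      _ = y := by rw [hg, hcy, mul_inv_cancel_right]
  · intro v hv
    have hle : W.map (MulAut.conj ((c : G) * g)).toMonoidHom = W := by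
      refine hwc.2 _ ?_
      rintro _ ⟨u, hu, rfl⟩
      exact hwc.1 (by simpa [mul_assoc] using hn u hu)
    rw [← hle] at hv
    obtain ⟨u, hu, rfl⟩ := hv
    convert hu using 1
    simp [mul_assoc]

/-- The product of a conjugate of an involution in `W` and a conjugate of an involution in `W t`
lies in the 2-section of an involution in `W t`. -/
theorem product_char {T : Sylow 2 G} {W : Subgroup G}
    (hWc : ∀ v ∈ W, ∀ s ∈ (T : Subgroup G), Commute v s)
    (hwc : Cfsg.IsWeaklyClosed W (T : Subgroup G)) {t : G} (htT : t ∈ (T : Subgroup G)) (htW : t ∉ W)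
    (hcos : ∀ w ∈ W, orderOf (w * t) = 2 →
      W.subgroupOf (Subgroup.centralizer ({w * t} : Set G)) ≤
        Cfsg.pPrimePCore 2 ↥(Subgroup.centralizer ({w * t} : Set G)))
    {M : Ideal Cfsg.AlgInt} (hM : Cfsg.IsPModular 2 M)
    {w0 : G} (hw0 : w0 ∈ W) (hw02 : orderOf w0 = 2) {w : G} (hw : w ∈ W) (hx : orderOf (w * t) = 2)
    {a : G} (ha : IsConj w0 a) :
    ∃ w' ∈ W, orderOf (w' * t) = 2 ∧ ∀ χ : Cfsg.IrrCharacter G, χ ∈ Cfsg.principalBlock M G →
      (χ : G → ℂ) (a * (w * t)) = (χ : G → ℂ) (w' * t) := by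
  set b := w * t with hb_def
  have hbT : b ∈ (T : Subgroup G) := mul_mem (hwc.1 hw) htT
  have ha2 : orderOf a = 2 := (orderOf_eq_of_isConj ha).trans hw02
  have hinW : ∀ {g : G}, g * w0 * g⁻¹ ∈ (T : Subgroup G) → g * w0 * g⁻¹ ∈ W := by
    intro g hg
    obtain ⟨n, hn, hnW, -⟩ := fusion hWc hwc (hwc.1 hw0) hg rfl
    exact hn ▸ hnW w0 hw0
  have hncj : ¬ IsConj a b := by
    intro h
    obtain ⟨g, hg⟩ := isConj_iff.mp (ha.trans h)
    have : b ∈ W := hg ▸ hinW (hg.symm ▸ hbT)
    exact htW ((W.mul_mem_cancel_left hw).mp this)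
  have heven := even_order_of_not_isConj ha2 hx hncj
  obtain ⟨hz, hza, hzb⟩ := central_involution ha2 hx heven
  obtain ⟨g0, hg0⟩ := isConj_iff.mp ha
  -- a 2-group containing `a` has `a` in its centre
  have hcomm : ∀ R : Subgroup G, IsPGroup 2 R → a ∈ R → ∀ s ∈ R, Commute a s := by
    intro R hR haR s hs
    obtain ⟨h, hh⟩ := exists_conj_le_sylow hR T
    have haT := hh a haR
    rw [← hg0, show h * (g0 * w0 * g0⁻¹) * h⁻¹ = h * g0 * w0 * (h * g0)⁻¹ by group] at haT
    have h1 := hWc _ (hinW haT) _ (hh s hs)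
    rw [show h * g0 * w0 * (h * g0)⁻¹ = MulAut.conj h a by simp [← hg0, mul_assoc],
      show h * s * h⁻¹ = MulAut.conj h s by simp] at h1
    exact Commute.of_map (MulAut.conj h).injective h1
  set r := a * b with hr
  -- the order of `a * b` is twice odd
  obtain ⟨j, hj⟩ : ∃ j, orderOf r = 2 * (2 * j + 1) := by
    obtain ⟨m, hm⟩ := heven
    rcases Nat.even_or_odd m with ⟨i, hi⟩ | ⟨i, hi⟩
    · exfalso
      set c := r ^ i with hcdef
      have hc4 : orderOf c = 4 := by
        have hi0 : i ≠ 0 := by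
          rintro rfl
          have := orderOf_pos r
          omega
        rw [hcdef, orderOf_pow_of_dvd hi0 ⟨4, by omega⟩,
          show orderOf r = 4 * i by omega, Nat.mul_div_cancel _ (Nat.pos_of_ne_zero hi0)]
      have hinv : a * c * a⁻¹ = c⁻¹ := inverts_pow (left_inverts_prod ha2 hx) i
      have hv : orderOf (a * c) = 2 := by
        rw [orderOf_eq_two_iff_mul]
        refine ⟨fun h => ?_, ?_⟩
        · rw [eq_inv_of_mul_eq_one_right h, orderOf_inv, ha2] at hc4
          omega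
        · rw [inv_eq_self_of_involution ha2] at hinv
          rw [show a * c * (a * c) = a * c * a * c by group, hinv, inv_mul_cancel]
      have hR := isPGroup_two_closure_pair ha2 hv (k := 2)
        (by rw [← mul_assoc, mul_self_eq_one ha2, one_mul, hc4]; norm_num)
      have h1 := hcomm _ hR (Subgroup.subset_closure (by simp)) (a * c)
        (Subgroup.subset_closure (by simp))
      have h2 : Commute a c := by
        have := ((Commute.refl a).inv_right).mul_right h1
        simpa using this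
      rw [h2.eq, mul_inv_cancel_right] at hinv
      have : c ^ 2 = 1 := by
        rw [pow_two]; nth_rewrite 1 [hinv]; exact inv_mul_cancel c
      have := orderOf_dvd_of_pow_eq_one this
      rw [hc4] at this
      omega
    · exact ⟨i, by omega⟩
  rw [show orderOf r / 2 = 2 * j + 1 by omega] at hz hza hzb
  set z := r ^ (2 * j + 1) with hzdef
  have hbza : IsConj b (z * a) := by
    refine isConj_iff.mpr ⟨r ^ ((j : ℤ) + 1), ?_⟩
    have hv' : r ^ (-1 : ℤ) * a = b := by
      rw [zpow_neg_one, hr, mul_inv_rev, inv_eq_self_of_involution ha2,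
        inv_eq_self_of_involution hx, mul_assoc, mul_self_eq_one ha2, mul_one]
    have h1 := conj_by_zpow ha2 hx ((j : ℤ) + 1) (-1)
    rw [← hr, hv'] at h1
    rw [h1, hzdef, ← zpow_natCast]
    congr 2
    push_cast
    ring
  -- move `a` and `z * a` into `T`
  have hza2 : orderOf (z * a) = 2 := (orderOf_eq_of_isConj hbza).trans hx
  obtain ⟨h, hh⟩ := exists_conj_le_sylow
    (isPGroup_two_closure_pair ha2 hza2 (k := 1) (by
      rw [← mul_assoc, ← hza.eq, mul_assoc, mul_self_eq_one ha2, mul_one, hz]; norm_num)) T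
  have hw1T := hh a (Subgroup.subset_closure (by simp))
  have hw1W : h * a * h⁻¹ ∈ W := by
    rw [← hg0, show h * (g0 * w0 * g0⁻¹) * h⁻¹ = h * g0 * w0 * (h * g0)⁻¹ by group] at hw1T ⊢
    exact hinW hw1T
  have hyT := hh (z * a) (Subgroup.subset_closure (by simp))
  obtain ⟨g1, hg1⟩ := isConj_iff.mp hbza
  obtain ⟨n, hn, -, hnW⟩ := fusion hWc hwc hbT hyT
    (g := h * g1) (by rw [← hg1]; group)
  set g := h⁻¹ * n with hgdef
  have hga : g⁻¹ * a * g ∈ W := by
    have : g⁻¹ * a * g = n⁻¹ * (h * a * h⁻¹) * n := by rw [hgdef]; group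
    exact this ▸ hnW _ hw1W
  have hgza : g⁻¹ * (z * a) * g = b := by
    have : g⁻¹ * (z * a) * g = n⁻¹ * (h * (z * a) * h⁻¹) * n := by rw [hgdef]; group
    rw [this, ← hn]; group
  set w' := g⁻¹ * a * g * w with hw'def
  have hgz : g⁻¹ * z * g = w' * t := by
    have hcm : Commute (g⁻¹ * a * g) b := hWc _ hga _ hbT
    calc g⁻¹ * z * g = g⁻¹ * (z * a) * g * (g⁻¹ * a⁻¹ * g) := by group
      _ = b * (g⁻¹ * a * g) := by rw [hgza, inv_eq_self_of_involution ha2]
      _ = w' * t := by rw [← hcm.eq, hb_def, hw'def, mul_assoc (g⁻¹ * a * g) w t]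
  have hw't : orderOf (w' * t) = 2 := by
    rw [← hgz, show g⁻¹ * z * g = g⁻¹ * z * g⁻¹⁻¹ by group, orderOf_conj_eq, hz]
  refine ⟨w', W.mul_mem hga hw, hw't, fun χ hχ => ?_⟩
  set x := w' * t with hxdef
  set C := Subgroup.centralizer ({x} : Set G) with hCdef
  have hmemC : ∀ {d : G}, Commute z d → g⁻¹ * d * g ∈ C := by
    intro d hd
    refine Subgroup.mem_centralizer_singleton_iff.mpr ?_
    rw [← hgz]
    calc g⁻¹ * d * g * (g⁻¹ * z * g) = g⁻¹ * (d * z) * g := by group
      _ = g⁻¹ * (z * d) * g := by rw [hd.eq]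
      _ = g⁻¹ * z * g * (g⁻¹ * d * g) := by group
  set A : C := ⟨g⁻¹ * a * g, hmemC hza⟩ with hA
  set B : C := ⟨g⁻¹ * b * g, hmemC hzb⟩ with hB
  set q := QuotientGroup.mk' (Cfsg.pPrimeCore 2 C) with hq
  have hAmem : q A ∈ Cfsg.pCore 2 (C ⧸ Cfsg.pPrimeCore 2 C) :=
    hcos w' (W.mul_mem hga hw) hw't (show A ∈ W.subgroupOf C from hga)
  have hAB : ((A * B : C) : G) = g⁻¹ * r * g := by
    simp only [hA, hB, Subgroup.coe_mul, hr]; group
  have hord : orderOf (A * B) = 2 * (2 * j + 1) := by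
    rw [← hj, ← Subgroup.orderOf_coe, hAB, show g⁻¹ * r * g = g⁻¹ * r * g⁻¹⁻¹ by group,
      orderOf_conj_eq]
  have hsq : (A * B) ^ 2 ∈ Cfsg.pPrimeCore 2 C := by
    have hBi : B⁻¹ = B := by
      refine Subtype.ext ?_
      simp only [hB, Subgroup.coe_inv, mul_inv_rev, inv_inv, inv_eq_self_of_involution hx]
      group
    have h1 : q ((A * B) ^ 2) ∈ Cfsg.pCore 2 (C ⧸ Cfsg.pPrimeCore 2 C) := by
      have : (A * B) ^ 2 = A * (B * A * B⁻¹) := by rw [hBi, pow_two]; group
      rw [this, map_mul, map_mul, map_mul, map_inv]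
      exact mul_mem hAmem ((Cfsg.pCore_normal 2 _).conj_mem _ hAmem _)
    rw [← QuotientGroup.eq_one_iff, ← orderOf_eq_one_iff]
    obtain ⟨k, hk⟩ := IsPGroup.iff_orderOf.mp CfsgLib.PCore.pCore_isPGroup ⟨_, h1⟩
    rw [Subgroup.orderOf_mk] at hk
    have hodd : orderOf ((A * B) ^ 2) = 2 * j + 1 := by
      rw [orderOf_pow_of_dvd two_ne_zero (by omega : 2 ∣ orderOf (A * B)), hord]
      omega
    change orderOf (q ((A * B) ^ 2)) = 1
    refine Nat.eq_one_of_dvd_coprimes (a := 2 ^ k) (b := 2 * j + 1) ?_ (dvd_of_eq hk)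
      (hodd ▸ orderOf_map_dvd q _)
    exact Nat.Coprime.pow_left k (Nat.coprime_two_left.mpr ⟨j, rfl⟩)
  have hpow : ((A * B) ^ 2) ^ (j + 1) ∈ Cfsg.pPrimeCore 2 C := pow_mem hsq _
  haveI : Fintype G := Fintype.ofFinite G
  have hval := CfsgLib.Blocks.principal_apply_mul hM (u := x) ⟨1, by rw [hw't, pow_one]⟩
    CfsgLib.PCore.not_dvd_card_pPrimeCore hpow hχ
  have hxr : x = ((A * B : C) : G) ^ (2 * j + 1) := by
    rw [hAB, ← hgz, hzdef, show g⁻¹ * r * g = g⁻¹ * r * g⁻¹⁻¹ by group, conj_pow, inv_inv]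
  rw [← hval]
  refine CfsgLib.Characters.classFunction_eq_of_isConj (CfsgLib.Characters.irr_isClassFunction χ) ?_
  have e : x * (((A * B) ^ 2) ^ (j + 1) : C) = g⁻¹ * r * g := by
    rw [hxr, Subgroup.coe_pow, Subgroup.coe_pow, ← pow_mul, ← pow_add,
      show 2 * j + 1 + 2 * (j + 1) = orderOf (A * B) + 1 by omega, pow_succ,
      ← Subgroup.coe_pow, pow_orderOf_eq_one, Subgroup.coe_one, one_mul, hAB]
  refine isConj_iff.mpr ⟨g⁻¹, ?_⟩
  rw [e]
  group

/-- A non-simplicity criterion by weak closure. Let T be a Sylow 2-subgroup of a finite group G, W a nontrivial subgroup of the centre of T that is weakly closed in T with respect to G, and t an involution of T outside W. Suppose that for every involution x in the coset Wt, W lies in O_{2',2}(C_G(x)), the preimage of O₂ of C_G(x)/O_{2'}(C_G(x)). Then G is not simple. -/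
theorem result {G : Type*} [Group G] [Finite G]
    (T : Sylow 2 G) (W : Subgroup G) (hW1 : W ≠ ⊥) (hWZ : W ≤ (T : Subgroup G) ⊓ Subgroup.centralizer ((T : Subgroup G) : Set G))
    (hwc : Cfsg.IsWeaklyClosed W (T : Subgroup G)) (t : G) (ht : orderOf t = 2) (htT : t ∈ (T : Subgroup G)) (htW : t ∉ W)
    (hcos : ∀ w ∈ W, orderOf (w * t) = 2 →
      W.subgroupOf (Subgroup.centralizer ({w * t} : Set G)) ≤ Cfsg.pPrimePCore 2 ↥(Subgroup.centralizer ({w * t} : Set G))) :
    ¬ IsSimpleGroup G := by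
  rintro hS
  classical
  haveI : Fintype G := Fintype.ofFinite G
  have hWc : ∀ v ∈ W, ∀ s ∈ (T : Subgroup G), Commute v s := fun v hv s hs =>
    ((Subgroup.mem_centralizer_iff.mp (hWZ hv).2) s hs).symm
  obtain ⟨w0, hw0, hw02⟩ : ∃ w0 ∈ W, orderOf w0 = 2 := by
    haveI : Nontrivial W := (Subgroup.nontrivial_iff_ne_bot W).mpr hW1
    obtain ⟨k, hk⟩ := (T.isPGroup'.to_le hwc.1).exists_card_eq
    have h2 : 2 ∣ Nat.card W := by
      rcases k with _ | k
      · have := Finite.one_lt_card (α := W)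
        omega
      · exact hk ▸ dvd_pow_self 2 (Nat.succ_ne_zero k)
    obtain ⟨v, hv⟩ := exists_prime_orderOf_dvd_card' (G := W) 2 h2
    exact ⟨v, v.2, (Subgroup.orderOf_coe v).trans hv⟩
  obtain ⟨M, hM⟩ := CfsgLib.KGV.exists_isPModular 2 Nat.prime_two
  have hB := CfsgLib.Blocks.isPBlock_principalBlock (G := G) M
  set S := Finset.univ.filter (fun χ : Cfsg.IrrCharacter G => χ ∈ Cfsg.principalBlock M G) with hSdef
  set L : Cfsg.IrrCharacter G → ℂ := fun χ => Cfsg.centralChar (χ : G → ℂ) w0 with hL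
  -- the coset involutions stay orthogonal to the identity
  have key : ∀ n : ℕ, ∀ w ∈ W, orderOf (w * t) = 2 →
      ∑ χ ∈ S, (χ : G → ℂ) 1 * (L χ) ^ n * (χ : G → ℂ) (w * t) = 0 := by
    intro n
    induction n with
    | zero =>
      intro w hw hx
      have h0 := CfsgLib.Blocks.weak_orth hM hB (x := (1 : G)) (y := w * t)
        (by rw [orderOf_one]; decide) (by rw [hx])
      rw [← h0]
      refine Finset.sum_congr rfl fun χ _ => ?_
      rw [pow_zero, mul_one, ← CfsgLib.Characters.irr_apply_inv, inv_eq_self_of_involution hx]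
    | succ n ih =>
      intro w hw hx
      have hp : ∀ a : G, IsConj w0 a → ∃ w' ∈ W, orderOf (w' * t) = 2 ∧
          ∀ χ : Cfsg.IrrCharacter G, χ ∈ Cfsg.principalBlock M G →
            (χ : G → ℂ) (a * (w * t)) = (χ : G → ℂ) (w' * t) := fun a ha =>
        product_char hWc hwc htT htW hcos hM hw0 hw02 hw hx ha
      choose φ hφW hφ2 hφ using hp
      calc ∑ χ ∈ S, (χ : G → ℂ) 1 * (L χ) ^ (n + 1) * (χ : G → ℂ) (w * t)
          = ∑ χ ∈ S, ∑ a : G, (χ : G → ℂ) 1 * (L χ) ^ n *
              (if IsConj w0 a then (χ : G → ℂ) (a * (w * t)) else 0) := by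
            refine Finset.sum_congr rfl fun χ _ => ?_
            rw [← Finset.mul_sum, CfsgLib.Blocks.sum_isConj_mul χ w0 (w * t), hL]
            ring
        _ = ∑ a : G, ∑ χ ∈ S, (χ : G → ℂ) 1 * (L χ) ^ n *
              (if IsConj w0 a then (χ : G → ℂ) (a * (w * t)) else 0) := Finset.sum_comm
        _ = 0 := by
            refine Finset.sum_eq_zero fun a _ => ?_
            by_cases ha : IsConj w0 a
            · rw [← ih (φ a ha) (hφW a ha) (hφ2 a ha)]
              refine Finset.sum_congr rfl fun χ hχ => ?_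
              rw [if_pos ha, hφ a ha χ (Finset.mem_filter.mp hχ).2]
            · exact Finset.sum_eq_zero fun χ _ => by rw [if_neg ha, mul_zero]
  -- a polynomial in `L` separating the trivial character
  set χ1 := CfsgLib.Characters.principalIrr G with hχ1
  have hsep : ∀ χ : Cfsg.IrrCharacter G, L χ = L χ1 → χ = χ1 := by
    intro χ he
    obtain ⟨χf, hirr⟩ := χ
    obtain ⟨m, ρ, hρ, rfl⟩ := hirr
    haveI := hρ
    haveI := CfsgLib.Characters.nontrivial_of_irreducible ρ
    have hd : (Module.finrank ℂ (Fin m → ℂ) : ℂ) ≠ 0 := Nat.cast_ne_zero.2 Module.finrank_pos.ne'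
    have hc : (Nat.card {x : G // IsConj w0 x} : ℂ) ≠ 0 := by
      haveI : Nonempty {x : G // IsConj w0 x} := ⟨⟨w0, IsConj.refl w0⟩⟩
      exact Nat.cast_ne_zero.2 Nat.card_pos.ne'
    simp only [hL, hχ1, Cfsg.centralChar, CfsgLib.Characters.principalIrr_apply,
      Representation.char_one] at he
    have hρw : ρ w0 = LinearMap.id := by
      refine (CfsgLib.Characters.char_eq_degree_iff ρ w0).mp ?_
      rw [← CfsgLib.Blocks.natCard_isConj] at he
      field_simp at he
      exact he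
    have hker : MonoidHom.ker ρ = ⊤ := (hS.eq_bot_or_eq_top_of_normal _ inferInstance).resolve_left
      fun h => ne_one_of_involution hw02 (Subgroup.mem_bot.mp (h ▸ MonoidHom.mem_ker.mpr hρw))
    refine CfsgLib.Burnside.eq_one_of_irr_const (c := (Module.finrank ℂ (Fin m → ℂ) : ℂ)) fun g => ?_
    have : ρ g = 1 := MonoidHom.mem_ker.mp (hker ▸ Subgroup.mem_top g)
    change ρ.character g = _
    simp [Representation.character, this]
  set s := (S.image L).erase (L χ1) with hs
  set P : Polynomial ℂ := ∏ v ∈ s, (Polynomial.X - Polynomial.C v) with hP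
  have htot : ∑ χ ∈ S, (χ : G → ℂ) 1 * P.eval (L χ) * (χ : G → ℂ) t = 0 := by
    simp only [Polynomial.eval_eq_sum_range (p := P), Finset.mul_sum, Finset.sum_mul]
    rw [Finset.sum_comm]
    refine Finset.sum_eq_zero fun i _ => ?_
    have h := key i 1 W.one_mem (by rwa [one_mul])
    rw [one_mul] at h
    calc ∑ χ ∈ S, (χ : G → ℂ) 1 * (P.coeff i * L χ ^ i) * (χ : G → ℂ) t
        = P.coeff i * ∑ χ ∈ S, (χ : G → ℂ) 1 * L χ ^ i * (χ : G → ℂ) t := by
          rw [Finset.mul_sum]
          exact Finset.sum_congr rfl fun χ _ => by ring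
      _ = 0 := by rw [h, mul_zero]
  have hmem : χ1 ∈ S := Finset.mem_filter.2 ⟨Finset.mem_univ _, CfsgLib.Blocks.sameBlock_refl hM _⟩
  rw [Finset.sum_eq_single χ1 (fun χ hχ hne => ?_) (fun h => absurd hmem h)] at htot
  · have hne0 : P.eval (L χ1) ≠ 0 := by
      rw [hP, Polynomial.eval_prod]
      refine Finset.prod_ne_zero_iff.2 fun v hv => ?_
      simpa [sub_eq_zero] using (Finset.ne_of_mem_erase hv).symm
    exact hne0 (by simpa [hχ1] using htot)
  · have : P.eval (L χ) = 0 := by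
      rw [hP, Polynomial.eval_prod]
      exact Finset.prod_eq_zero (i := L χ)
        (Finset.mem_erase.2 ⟨fun h => hne (hsep χ h), Finset.mem_image_of_mem L hχ⟩) (by simp)
    rw [this, mul_zero, zero_mul]

end Cfsg.Agent.S3312
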