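import Cfsg.Statements.S3344
import Cfsg.Agent.Lib.ExtraSpS3.Bridge
import Cfsg.Agent.Lib.ExtraSpS3.TypeP
import Cfsg.Agent.Lib.ExtraSpS3.CaseI
import Cfsg.Agent.Lib.ExtraSpS3.CaseThree
import Cfsg.Agent.Lib.ExtraSpS3.Nine

set_option autoImplicit false
open Cfsg

namespace Cfsg.Agent.S3344

/-- Let G be a finite group with an involution s, L = C_G(s) and Q = O₂(L). Suppose Q is extraspecial of order 32, L/Q is isomorphic to Sym(3), C_Q(X) = ⟨s⟩ for a Sylow 3-subgroup X of L, and s is not weakly closed in Q with respect to G (some conjugate of s other than s lies in Q). Then either G has an elementary abelian normal subgroup of order 8 with quotient isomorphic to PSL(3,2), or G is isomorphic to the alternating group of degree 8 or 9, or to the Mathieu group M₁₂. -/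
theorem result {G : Type*} [Group G] [Finite G]
    (s : G) (hs : orderOf s = 2) (L : Subgroup G) (hL : L = Subgroup.centralizer ({s} : Set G))
    (Q : Subgroup G) (hQ : Q = (Cfsg.pCore 2 L).map L.subtype)
    (hQex : Cfsg.IsExtraspecial 2 Q) (hQcard : Nat.card Q = 32)
    (e : L ⧸ Cfsg.pCore 2 L ≃* Equiv.Perm (Fin 3))
    (X : Sylow 3 L) (hCQX : Q ⊓ Subgroup.centralizer (((X : Subgroup L).map L.subtype : Subgroup G) : Set G) = Subgroup.zpowers s)
    (hnwc : ∃ g : G, g * s * g⁻¹ ∈ Q ∧ g * s * g⁻¹ ≠ s) :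
    (∃ (N : Subgroup G) (hN : N.Normal), IsMulCommutative N ∧ (∀ n ∈ N, n ^ 2 = 1) ∧ Nat.card N = 8 ∧
        Nonempty (G ⧸ N ≃* Matrix.ProjectiveSpecialLinearGroup (Fin 3) (ZMod 2))) ∨
    Nonempty (G ≃* alternatingGroup (Fin 8)) ∨ Nonempty (G ≃* alternatingGroup (Fin 9)) ∨ Cfsg.Spor.IsoM12 G := by
  obtain ⟨B, rfl⟩ := CfsgLib.ExtraSpS3.exists_base s hs L hL Q hQ hQex hQcard e X hCQX
  obtain ⟨g, haQ, has⟩ := hnwc
  rcases B.exists_frame rfl haQ has with ⟨F, i, hi, hia⟩ | ⟨F, i, hi, hia⟩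
  · obtain ⟨M, hM⟩ := CfsgLib.ExtraSpS3.bridge F hi hia rfl has
    rcases CfsgLib.ExtraSpS3.typeP_main M hM with h | h
    · exact Or.inl h
    · exact Or.inr (Or.inr (Or.inr h))
  have hel : F.el i = g * s * g⁻¹ := (F.el_of_lt (by omega)).trans hia
  have h0 : i ≠ 0 := fun h => by
    rw [h, F.el_zero] at hel
    exact F.s_ne (conj_eq_one_iff.1 hel.symm)
  have h1 : i ≠ 1 := fun h => has (by rw [← hel, h, F.el_one])
  have hk : ∀ i < 8, i ≠ 0 → i ≠ 1 → CfsgLib.ExtraSpS3.kind i = CfsgLib.ExtraSpS3.kind 2 ∧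
      CfsgLib.ExtraSpS3.kind i < 7 := by decide +kernel
  have hA : IsConj s (F.el 2) := (isConj_iff.2 ⟨g, hel.symm⟩).trans
    (F.isConj_kind (by omega) (by omega) (hk i hi h0 h1).1 (hk i hi h0 h1).2)
  by_cases h8 : IsConj s (F.el 8) <;> by_cases h10 : IsConj s (F.el 10)
  · exact (F.caseThree hA h8 h10).elim
  · obtain ⟨D⟩ := CfsgLib.ExtraSpS3.exists_two F hA (Or.inl ⟨h8, h10⟩)
    exact Or.inr (D.classify.imp_right Or.inl)
  · obtain ⟨D⟩ := CfsgLib.ExtraSpS3.exists_two F hA (Or.inr ⟨h8, h10⟩)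
    exact Or.inr (D.classify.imp_right Or.inl)
  · exact Or.inl (F.caseI hA h8 h10)

end Cfsg.Agent.S3344
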