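import Cfsg.Statements.S3348
import Cfsg.Agent.Lib.Recognition.MTwelveAmalgam.Main
-- import your own Cfsg.Agent.* helpers here

set_option autoImplicit false
open Cfsg

namespace Cfsg.Agent.S3348

/-- Let G be a finite group generated by isomorphic subgroups A and B such that C = A ∩ B contains a Sylow 3-subgroup of each of A and B and no non-trivial subgroup of C is normalized by both A and B. Suppose A/O₃(A) and B/O₃(B) are isomorphic to GL(2,3), that O₃(A) and O₃(B) are elementary abelian of order 9 and self-centralizing in A and B respectively (natural modules), and that for a Sylow 3-subgroup S of C the normalizer N_G(Z(S)) lies in A ∩ B. Then G is isomorphic to the Mathieu group M₁₂ or to PSL(3,3). -/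
theorem result {G : Type*} [Group G] [Finite G]
    (A B : Subgroup G) (eAB : Nonempty (A ≃* B)) (hgen : A ⊔ B = ⊤)
    (hSylA : ¬ 3 ∣ ((A ⊓ B).subgroupOf A).index) (hSylB : ¬ 3 ∣ ((A ⊓ B).subgroupOf B).index)
    (hcore : ∀ N : Subgroup G, N ≤ A ⊓ B → (∀ a ∈ A, N.map (MulAut.conj a).toMonoidHom = N) →
      (∀ b ∈ B, N.map (MulAut.conj b).toMonoidHom = N) → N = ⊥)
    (eA : A ⧸ Cfsg.pCore 3 A ≃* GL (Fin 2) (ZMod 3)) (eB : B ⧸ Cfsg.pCore 3 B ≃* GL (Fin 2) (ZMod 3))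
    (hOA : IsMulCommutative (Cfsg.pCore 3 A) ∧ (∀ x ∈ Cfsg.pCore 3 A, x ^ 3 = 1) ∧ Nat.card (Cfsg.pCore 3 A) = 9 ∧
      Subgroup.centralizer ((Cfsg.pCore 3 A : Subgroup A) : Set A) = Cfsg.pCore 3 A)
    (hOB : IsMulCommutative (Cfsg.pCore 3 B) ∧ (∀ x ∈ Cfsg.pCore 3 B, x ^ 3 = 1) ∧ Nat.card (Cfsg.pCore 3 B) = 9 ∧
      Subgroup.centralizer ((Cfsg.pCore 3 B : Subgroup B) : Set B) = Cfsg.pCore 3 B)
    (S : Sylow 3 ↥(A ⊓ B)) (Z : Subgroup G)
    (hZ : Z = ((S : Subgroup ↥(A ⊓ B)) ⊓ Subgroup.centralizer ((S : Subgroup ↥(A ⊓ B)) : Set ↥(A ⊓ B))).map (A ⊓ B).subtype)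
    (hNZ : Subgroup.normalizer (Z : Set G) ≤ A ⊓ B) :
    Cfsg.Spor.IsoM12 G ∨ Nonempty (G ≃* Matrix.ProjectiveSpecialLinearGroup (Fin 3) (ZMod 3)) := by
  have hn : ∀ C : Subgroup G, (Cfsg.pCore 3 C).Normal := fun C => inferInstance
  let S₀ : Subgroup G := (S : Subgroup ↥(A ⊓ B)).map (A ⊓ B).subtype
  have hA := CfsgLib.MTwelveAmalgam.half_of_hyp A eA hOA (hn := hn A)
  have hB := CfsgLib.MTwelveAmalgam.half_of_hyp B eB hOB (hn := hn B)
  have hconj : ∀ (C N : Subgroup G), (∀ a ∈ C, ∀ n ∈ N, a * n * a⁻¹ ∈ N) →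
      ∀ a ∈ C, N.map (MulAut.conj a).toMonoidHom = N := by
    intro C N h a ha
    refine le_antisymm ?_ fun n hn' => ⟨a⁻¹ * n * a, ?_, ?_⟩
    · rintro _ ⟨n, hn', rfl⟩
      exact h a ha n hn'
    · simpa using h a⁻¹ (inv_mem ha) n hn'
    · show a * (a⁻¹ * n * a) * a⁻¹ = n
      group
  have hcard : Nat.card S₀ = 27 := by
    rw [Subgroup.card_map_of_injective (A ⊓ B).subtype_injective, Sylow.card_eq_multiplicity]
    have e1 := ((A ⊓ B).subgroupOf A).card_mul_index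
    rw [Nat.card_congr (Subgroup.subgroupOfEquivOfLe (inf_le_left : A ⊓ B ≤ A)).toEquiv, hA.index] at e1
    have hne : ((A ⊓ B).subgroupOf A).index ≠ 0 := by
      intro h0; rw [h0] at e1; simp at e1
    have e2 : (Nat.card ↥(A ⊓ B) * ((A ⊓ B).subgroupOf A).index).factorization 3 = 3 := by
      rw [e1, show (432 : ℕ) = 3 ^ 3 * 16 by norm_num, Nat.factorization_mul_apply_of_coprime (by norm_num),
        Nat.prime_three.factorization_pow, Finsupp.single_eq_same,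
        Nat.factorization_eq_zero_of_not_dvd (by norm_num)]
    rw [Nat.factorization_mul Nat.card_pos.ne' hne, Finsupp.add_apply,
      Nat.factorization_eq_zero_of_not_dvd hSylA, add_zero] at e2
    rw [e2]
    norm_num
  refine CfsgLib.MTwelveAmalgam.Pair.identify (S := S₀) ⟨hA, hB, hgen,
    fun N hN ha hb => hcore N hN (hconj A N ha) (hconj B N hb), Subgroup.map_subtype_le _, hcard, ?_⟩
  intro x hx hx'
  refine hNZ ?_
  have hmem : ∀ z, z ∈ Z ↔ z ∈ S₀ ∧ ∀ y ∈ S₀, z * y = y * z := by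
    intro z
    rw [hZ]
    constructor
    · rintro ⟨z', ⟨hz1, hz2⟩, rfl⟩
      refine ⟨⟨z', hz1, rfl⟩, ?_⟩
      rintro _ ⟨y, hy, rfl⟩
      exact congrArg Subtype.val (Subgroup.mem_centralizer_iff.1 hz2 y hy).symm
    · rintro ⟨⟨z', hz1, rfl⟩, hz2⟩
      refine ⟨z', ⟨hz1, Subgroup.mem_centralizer_iff.2 fun y hy => ?_⟩, rfl⟩
      exact Subtype.ext (hz2 y ⟨y, hy, rfl⟩).symm
  rw [Subgroup.mem_normalizer_iff]
  intro z
  constructor
  · intro hz
    exact (hmem _).2 (hx z ((hmem z).1 hz).1 ((hmem z).1 hz).2)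
  · intro hz
    have h2 := (hmem _).2 (hx' _ ((hmem _).1 hz).1 ((hmem _).1 hz).2)
    simpa [mul_assoc] using h2

end Cfsg.Agent.S3348
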