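import Cfsg.Statements.S3349
-- import your own Cfsg.Agent.* helpers here

set_option autoImplicit false
open Cfsg

namespace Cfsg.Agent.S3349

/-- Let Q be a finite extraspecial p-group and α an automorphism of Q fixing every element of some maximal abelian subgroup of Q. Then the order of α is a power of p. -/
theorem result {Q : Type*} [Group Q] [Finite Q]
    (p : ℕ) [Fact p.Prime] (hQ : Cfsg.IsExtraspecial p Q) (α : MulAut Q)
    (A : Subgroup Q) (hA : IsMulCommutative A) (hmax : ∀ B : Subgroup Q, A ≤ B → IsMulCommutative B → B = A)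
    (hfix : ∀ a ∈ A, α a = a) :
    ∃ k : ℕ, orderOf α = p ^ k := by
  have hcenter : Subgroup.center Q ≤ A := by
    have h := hmax (A ⊔ Subgroup.center Q) le_sup_left (by
      constructor; constructor
      rintro ⟨x, hx⟩ ⟨y, hy⟩
      apply Subtype.ext
      show x * y = y * x
      rw [Subgroup.mem_sup_of_normal_right] at hx hy
      obtain ⟨a, ha, z, hz, rfl⟩ := hx
      obtain ⟨b, hb, w, hw, rfl⟩ := hy
      rw [Subgroup.mem_center_iff] at hz hw
      have hab : a * b = b * a := congrArg Subtype.val (hA.is_comm.comm ⟨a, ha⟩ ⟨b, hb⟩)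
      calc a * z * (b * w) = a * (z * b) * w := by group
        _ = a * (b * z) * w := by rw [hz b]
        _ = a * b * (z * w) := by group
        _ = b * a * (z * w) := by rw [hab]
        _ = b * a * (w * z) := by rw [hz w]
        _ = b * (a * w) * z := by group
        _ = b * (w * a) * z := by rw [hw a]
        _ = b * w * (a * z) := by group)
    exact le_sup_right.trans h.le
  have hAn : A.Normal := Subgroup.Normal.of_commutator_le (G := Q) (hQ.1.2.2.le.trans hcenter)
  have hCA : ∀ t : Q, (∀ a ∈ A, t * a = a * t) → t ∈ A := by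
    intro t ht
    have h := hmax (A ⊔ Subgroup.zpowers t) le_sup_left (by
      constructor; constructor
      rintro ⟨x, hx⟩ ⟨y, hy⟩
      apply Subtype.ext
      show x * y = y * x
      rw [Subgroup.mem_sup_of_normal_left] at hx hy
      obtain ⟨a, ha, z, hz, rfl⟩ := hx
      obtain ⟨b, hb, w, hw, rfl⟩ := hy
      obtain ⟨i, rfl⟩ := Subgroup.mem_zpowers_iff.1 hz
      obtain ⟨j, rfl⟩ := Subgroup.mem_zpowers_iff.1 hw
      have hab : a * b = b * a := congrArg Subtype.val (hA.is_comm.comm ⟨a, ha⟩ ⟨b, hb⟩)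
      have hta : Commute t a := ht a ha
      have htb : Commute t b := ht b hb
      calc a * t ^ i * (b * t ^ j) = a * (t ^ i * b) * t ^ j := by group
        _ = a * (b * t ^ i) * t ^ j := by rw [(htb.zpow_left i).eq]
        _ = a * b * (t ^ j * t ^ i) := by group
        _ = b * a * (t ^ j * t ^ i) := by rw [hab]
        _ = b * (a * t ^ j) * t ^ i := by group
        _ = b * (t ^ j * a) * t ^ i := by rw [(hta.zpow_left j).eq]
        _ = b * t ^ j * (a * t ^ i) := by group)
    exact h ▸ (le_sup_right : Subgroup.zpowers t ≤ A ⊔ Subgroup.zpowers t) (Subgroup.mem_zpowers t)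
  have hδ : ∀ x : Q, α x * x⁻¹ ∈ A := by
    intro x
    refine hCA _ fun a ha => ?_
    have h1 : x⁻¹ * a * x ∈ A := by simpa using hAn.conj_mem a ha x⁻¹
    have h2 := hfix _ h1
    rw [map_mul, map_mul, map_inv, hfix a ha] at h2
    calc α x * x⁻¹ * a = α x * (x⁻¹ * a * x) * x⁻¹ := by group
      _ = α x * ((α x)⁻¹ * a * α x) * x⁻¹ := by rw [h2]
      _ = a * (α x * x⁻¹) := by group
  have hpow : ∀ (n : ℕ) (x : Q), (α ^ n) x = (α x * x⁻¹) ^ n * x := by
    intro n
    induction n with
    | zero => intro x; simp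
    | succ n ih =>
      intro x
      rw [pow_succ', MulAut.mul_apply, ih, map_mul, map_pow, hfix _ (hδ x), pow_succ]
      group
  have h1 : α ^ Nat.card Q = 1 := by
    apply MulEquiv.ext
    intro x
    rw [hpow, pow_card_eq_one', one_mul, MulAut.one_apply]
  obtain ⟨n, hn⟩ := hQ.1.1.exists_card_eq
  obtain ⟨k, -, hk⟩ := (Nat.dvd_prime_pow Fact.out).1 (hn ▸ orderOf_dvd_of_pow_eq_one h1)
  exact ⟨k, hk⟩

end Cfsg.Agent.S3349
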