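import Cfsg.Statements.S3356
import Cfsg.Agent.Lib.PCore.Basic

set_option autoImplicit false
open Cfsg

namespace Cfsg.Agent.S3356

/-- Let G be a finite 3/2-transitive permutation group: G acts faithfully and transitively on a finite set, the point stabilizers are non-trivial, and for each point a all orbits of G_a on the remaining points have the same size. Suppose G has a regular normal subgroup N and G is not a Frobenius group (some two-point stabilizer is non-trivial). Then N is an elementary abelian p-group for some prime p, and every non-trivial normal subgroup of G contains N (so N is the unique minimal normal subgroup). -/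
theorem result {G Ω : Type*} [Group G] [Finite G]
    [MulAction G Ω] [FaithfulSMul G Ω] [Finite Ω] (htrans : MulAction.IsPretransitive G Ω)
    (hne : ∀ a : Ω, MulAction.stabilizer G a ≠ ⊥)
    (hhalf : ∀ a b c : Ω, b ≠ a → c ≠ a →
      Nat.card (MulAction.orbit (MulAction.stabilizer G a) b) = Nat.card (MulAction.orbit (MulAction.stabilizer G a) c))
    (N : Subgroup G) [hN : N.Normal] (hNt : MulAction.IsPretransitive N Ω) (hNr : ∀ a : Ω, MulAction.stabilizer N a = ⊥)
    (hnotF : ∃ a b : Ω, a ≠ b ∧ MulAction.stabilizer G a ⊓ MulAction.stabilizer G b ≠ ⊥) :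
    (∃ p : ℕ, p.Prime ∧ IsMulCommutative N ∧ ∀ x ∈ N, x ^ p = 1) ∧
    (∀ M : Subgroup G, M.Normal → M ≠ ⊥ → N ≤ M) := by
  classical
  obtain ⟨a, b, hab, hfix⟩ := hnotF
  set H := MulAction.stabilizer G a with hH
  have hinjΩ : ∀ m n : G, m ∈ N → n ∈ N → m • a = n • a → m = n := by
    intro m n hm hn h
    have h1 : (⟨n⁻¹ * m, mul_mem (inv_mem hn) hm⟩ : N) ∈ MulAction.stabilizer N a := by
      show (n⁻¹ * m) • a = a
      rw [mul_smul, h, inv_smul_smul]
    rw [hNr a, Subgroup.mem_bot] at h1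
    exact (inv_mul_eq_one.mp (congrArg Subtype.val h1)).symm
  have hsurj : ∀ w : Ω, ∃ n ∈ N, n • a = w := fun w => by
    obtain ⟨⟨n, hn⟩, h⟩ := MulAction.exists_smul_eq N a w
    exact ⟨n, hn, h⟩
  have heq : ∀ (h : H) (n : G), (h : G) • n • a = ((h : G) * n * (h : G)⁻¹) • a := by
    intro h n
    rw [mul_smul, mul_smul, show (h : G)⁻¹ • a = a from (inv_mem h.2 : (h : G)⁻¹ ∈ H)]
  set C : G → Subgroup G := fun n => H ⊓ Subgroup.centralizer ({n} : Set G) with hC
  have horb : ∀ n : G, n ∈ N →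
      Nat.card (MulAction.orbit H (n • a)) * Nat.card (C n) = Nat.card H := by
    intro n hn
    have hst : MulAction.stabilizer H (n • a) = (C n).subgroupOf H := by
      ext h
      rw [MulAction.mem_stabilizer_iff, Subgroup.mem_subgroupOf]
      show (h : G) • n • a = n • a ↔ _
      rw [heq h n]
      constructor
      · intro h1
        refine Subgroup.mem_inf.mpr ⟨h.2, Subgroup.mem_centralizer_singleton_iff.mpr ?_⟩
        exact mul_inv_eq_iff_eq_mul.mp (hinjΩ _ _ (hN.conj_mem n hn h) hn h1)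
      · intro h1
        rw [mul_inv_eq_iff_eq_mul.mpr (Subgroup.mem_centralizer_singleton_iff.mp h1.2)]
    have h1 := Subgroup.card_mul_index (MulAction.stabilizer H (n • a))
    rw [MulAction.index_stabilizer, hst,
      Nat.card_congr (Subgroup.subgroupOfEquivOfLe (inf_le_left : C n ≤ H)).toEquiv] at h1
    rw [mul_comm]
    exact h1
  obtain ⟨n₀, hn₀, hn₀b⟩ := hsurj b
  have hn₀1 : n₀ ≠ 1 := fun h => hab (by rw [← hn₀b, h, one_smul])
  set k := Nat.card (MulAction.orbit H b) with hkdef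
  have hk : ∀ n ∈ N, n ≠ 1 → Nat.card (MulAction.orbit H (n • a)) = k := by
    intro n hn hn1
    exact hhalf a (n • a) b (fun h => hn1 (hinjΩ n 1 hn (one_mem N) (by rw [h, one_smul]))) hab.symm
  set c := Nat.card (C n₀) with hcdef
  have hkpos : 0 < k := by
    haveI : Nonempty (MulAction.orbit H b) := ⟨⟨b, MulAction.mem_orbit_self b⟩⟩
    exact Nat.card_pos
  have hHkc : Nat.card H = k * c := by rw [← horb n₀ hn₀, hk n₀ hn₀ hn₀1]
  have hc : ∀ n ∈ N, n ≠ 1 → Nat.card (C n) = c := by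
    intro n hn hn1
    have := horb n hn
    rw [hk n hn hn1, hHkc] at this
    exact Nat.eq_of_mul_eq_mul_left hkpos this
  have hCne : C n₀ ≠ ⊥ := by
    intro hbot
    apply hfix
    rw [Subgroup.eq_bot_iff_forall]
    intro g hg
    have hgC : g ∈ C n₀ := by
      refine Subgroup.mem_inf.mpr ⟨hg.1, Subgroup.mem_centralizer_singleton_iff.mpr ?_⟩
      have h1 : g • n₀ • a = n₀ • a := by rw [hn₀b]; exact hg.2
      rw [heq ⟨g, hg.1⟩ n₀] at h1
      exact mul_inv_eq_iff_eq_mul.mp (hinjΩ _ _ (hN.conj_mem n₀ hn₀ g) hn₀ h1)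
    rwa [hbot, Subgroup.mem_bot] at hgC
  -- no nontrivial element of the stabiliser centralises `N`
  have hfaith : ∀ g ∈ H, (∀ n ∈ N, n * g = g * n) → g = 1 := by
    intro g hg hcomm
    apply eq_of_smul_eq_smul (α := Ω)
    intro w
    obtain ⟨n, hn, rfl⟩ := hsurj w
    rw [one_smul, ← mul_smul, ← hcomm n hn, mul_smul, show g • a = a from hg]
  -- hence no common centraliser
  have hnocommon : ∀ D : Subgroup G, (∀ n ∈ N, n ≠ 1 → C n = D) → False := by
    intro D hD
    apply hCne
    rw [Subgroup.eq_bot_iff_forall]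
    intro g hg
    refine hfaith g hg.1 fun n hn => ?_
    by_cases hn1 : n = 1
    · simp [hn1]
    · have h1 : g ∈ C n := by rw [hD n hn hn1, ← hD n₀ hn₀ hn₀1]; exact hg
      exact (Subgroup.mem_centralizer_singleton_iff.mp h1.2).symm
  have hkN : k ∣ Nat.card N - 1 := by
    haveI := Fintype.ofFinite Ω
    haveI := Fintype.ofFinite (MulAction.orbitRel.Quotient H Ω)
    have hcardΩ : Nat.card N = Nat.card Ω := by
      refine Nat.card_congr (Equiv.ofBijective (fun n : N => (n : G) • a) ⟨fun m n h => ?_, fun w => ?_⟩)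
      · exact Subtype.ext (hinjΩ m n m.2 n.2 h)
      · obtain ⟨n, hn, h⟩ := hsurj w; exact ⟨⟨n, hn⟩, h⟩
    have hsum : Nat.card Ω = ∑ q : MulAction.orbitRel.Quotient H Ω, Nat.card q.orbit := by
      rw [Nat.card_congr (MulAction.selfEquivSigmaOrbits' H Ω), Nat.card_sigma]
    rw [hcardΩ, hsum, ← Finset.sum_erase_add _ _ (Finset.mem_univ (Quotient.mk'' a : MulAction.orbitRel.Quotient H Ω))]
    have h1 : Nat.card (MulAction.orbitRel.Quotient.orbit (Quotient.mk'' a : MulAction.orbitRel.Quotient H Ω)) = 1 := by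
      rw [MulAction.orbitRel.Quotient.orbit_mk, Nat.card_eq_one_iff_unique]
      refine ⟨⟨?_⟩, ⟨⟨a, MulAction.mem_orbit_self a⟩⟩⟩
      rintro ⟨_, h, rfl⟩ ⟨_, h', rfl⟩
      exact Subtype.ext (h.2.trans h'.2.symm)
    rw [h1, Nat.add_sub_cancel]
    refine Finset.dvd_sum fun q hq => ?_
    induction q using Quotient.inductionOn' with
    | h w =>
      rw [MulAction.orbitRel.Quotient.orbit_mk]
      have hwa : w ≠ a := fun h => (Finset.mem_erase.mp hq).1 (by rw [h])
      exact dvd_of_eq (hhalf a w b hwa hab.symm).symm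
  have hcop : ∀ m, m ∣ Nat.card N → Nat.Coprime k m := by
    intro m hm
    have hpos : 1 ≤ Nat.card N := Nat.one_le_iff_ne_zero.mpr Nat.card_pos.ne'
    have h1 : Nat.Coprime (Nat.card N - 1) (Nat.card N) := by
      rw [Nat.coprime_self_sub_left hpos]
      exact Nat.coprime_one_left _
    exact (h1.coprime_dvd_left hkN).coprime_dvd_right hm
  -- the stabiliser of a set `K` of coprime size fixes `K` pointwise
  have hset : ∀ (K : Set G) (y : G), y ∈ K → K ⊆ (N : Set G) → (∀ z ∈ K, z ≠ 1) →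
      Nat.card K ∣ Nat.card N → (∀ z ∈ K, ∀ h ∈ C z, ∀ u ∈ K, h * u * h⁻¹ ∈ K) →
      ∀ z ∈ K, C z = C y := by
    intro K y hyK hKN hK1 hKdvd hKst
    let L : Subgroup G :=
      { carrier := {h | h ∈ H ∧ ∀ u, h * u * h⁻¹ ∈ K ↔ u ∈ K}
        one_mem' := ⟨one_mem H, fun u => by simp⟩
        mul_mem' := fun {g h} hg hh => ⟨mul_mem hg.1 hh.1, fun u => by
          rw [show g * h * u * (g * h)⁻¹ = g * (h * u * h⁻¹) * g⁻¹ by group, hg.2, hh.2]⟩
        inv_mem' := fun {g} hg => ⟨inv_mem hg.1, fun u => by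
          rw [← hg.2]; simp [mul_assoc]⟩ }
    have hCL : ∀ z ∈ K, C z ≤ L := by
      intro z hz h hh
      refine ⟨hh.1, fun u => ⟨fun hu => ?_, hKst z hz h hh u⟩⟩
      have := hKst z hz h⁻¹ (inv_mem hh) _ hu
      simpa [mul_assoc] using this
    have hcardC : ∀ z ∈ K, Nat.card (C z) = c := fun z hz => hc z (hKN hz) (hK1 z hz)
    letI : MulAction L K :=
      { smul := fun h u => ⟨(h : G) * u * (h : G)⁻¹, (h.2.2 u).mpr u.2⟩
        one_smul := fun u => Subtype.ext (by show ((1 : L) : G) * u * ((1 : L) : G)⁻¹ = u; simp)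
        mul_smul := fun g h u => Subtype.ext (by
          show ((g * h : L) : G) * u * ((g * h : L) : G)⁻¹ = (g : G) * ((h : G) * u * (h : G)⁻¹) * (g : G)⁻¹
          simp [mul_assoc]) }
    have hst : ∀ u : K, Nat.card (MulAction.stabilizer L u) = c := by
      intro u
      have he : MulAction.stabilizer L u = (C u).subgroupOf L := by
        ext h
        rw [MulAction.mem_stabilizer_iff, Subgroup.mem_subgroupOf, Subtype.ext_iff]
        show (h : G) * u * (h : G)⁻¹ = u ↔ _
        rw [mul_inv_eq_iff_eq_mul]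
        exact ⟨fun e => Subgroup.mem_inf.mpr ⟨h.2.1, Subgroup.mem_centralizer_singleton_iff.mpr e⟩,
          fun e => Subgroup.mem_centralizer_singleton_iff.mp e.2⟩
      rw [he, Nat.card_congr (Subgroup.subgroupOfEquivOfLe (hCL u u.2)).toEquiv, hcardC u u.2]
    have hl : ∀ u : K, c * Nat.card (MulAction.orbit L u) = Nat.card L := by
      intro u
      rw [← hst u, ← Nat.card_coe_set_eq (MulAction.orbit L u) |>.symm]
      have := Subgroup.card_mul_index (MulAction.stabilizer L u)
      rwa [MulAction.index_stabilizer] at this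
    have hcpos : 0 < c := Nat.card_pos
    set l := Nat.card (MulAction.orbit L (⟨y, hyK⟩ : K)) with hldef
    have hlk : l ∣ k := by
      have h1 : c * l ∣ c * k := by
        rw [hl, mul_comm c k, ← hHkc]
        exact Subgroup.card_dvd_of_le fun h hh => hh.1
      exact Nat.dvd_of_mul_dvd_mul_left hcpos h1
    have hlK : l ∣ Nat.card K := by
      haveI := Fintype.ofFinite (MulAction.orbitRel.Quotient L K)
      rw [Nat.card_congr (MulAction.selfEquivSigmaOrbits' L K), Nat.card_sigma]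
      refine Finset.dvd_sum fun q _ => ?_
      induction q using Quotient.inductionOn' with
      | h u =>
        rw [MulAction.orbitRel.Quotient.orbit_mk]
        exact dvd_of_eq (Nat.eq_of_mul_eq_mul_left hcpos ((hl _).trans (hl u).symm))
    have hl1 : l = 1 := Nat.eq_one_of_dvd_coprimes (hcop _ hKdvd) hlk hlK
    have hLc : Nat.card L = c := by rw [← hl ⟨y, hyK⟩, ← hldef, hl1, mul_one]
    intro z hz
    rw [Subgroup.eq_of_le_of_card_ge (hCL z hz) (by rw [hLc, hcardC z hz]),
      Subgroup.eq_of_le_of_card_ge (hCL y hyK) (by rw [hLc, hcardC y hyK])]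
  -- `N` has no proper nontrivial invariant subgroup
  have hirr : ∀ M : Subgroup G, M ≤ N → M ≠ ⊥ → (∀ h ∈ H, ∀ m ∈ M, h * m * h⁻¹ ∈ M) → M = N := by
    intro M hMN hM1 hinv
    by_contra hne
    obtain ⟨y, hyN, hyM⟩ := SetLike.exists_of_lt (lt_of_le_of_ne hMN hne)
    obtain ⟨⟨m₀, hm₀⟩, hm₀1⟩ := Subgroup.ne_bot_iff_exists_ne_one.mp hM1
    have hm₀1' : m₀ ≠ 1 := fun h => hm₀1 (Subtype.ext h)
    have hout : ∀ y ∈ N, y ∉ M → ∀ m ∈ M, m ≠ 1 → C y = C m := by
      intro y hyN hyM m hm hm1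
      set K : Set G := (fun u => y * u) '' (M : Set G) with hKdef
      have hy : y ∈ K := ⟨1, one_mem M, mul_one y⟩
      have hcard : Nat.card K = Nat.card M :=
        Nat.card_image_of_injective (mul_right_injective y) (M : Set G)
      have hall : ∀ z ∈ K, C z = C y := by
        refine hset K y hy ?_ ?_ (hcard ▸ Subgroup.card_dvd_of_le hMN) ?_
        · rintro _ ⟨u, hu, rfl⟩; exact mul_mem hyN (hMN hu)
        · rintro _ ⟨u, hu, rfl⟩ h
          exact hyM (eq_inv_of_mul_eq_one_left h ▸ inv_mem hu)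
        · rintro _ ⟨u, hu, rfl⟩ h hh _ ⟨v, hv, rfl⟩
          refine ⟨u * (h * (u⁻¹ * v) * h⁻¹), mul_mem hu (hinv h hh.1 _ (mul_mem (inv_mem hu) hv)), ?_⟩
          have e : h * (y * u) = (y * u) * h := Subgroup.mem_centralizer_singleton_iff.mp hh.2
          calc y * (u * (h * (u⁻¹ * v) * h⁻¹)) = (y * u * h) * (u⁻¹ * v) * h⁻¹ := by group
            _ = (h * (y * u)) * (u⁻¹ * v) * h⁻¹ := by rw [e]
            _ = h * (y * v) * h⁻¹ := by group
      have hle : C y ≤ C m := by
        intro h hh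
        have h1 : h ∈ C (y * m) := by rw [hall _ ⟨m, hm, rfl⟩]; exact hh
        refine Subgroup.mem_inf.mpr ⟨hh.1, Subgroup.mem_centralizer_singleton_iff.mpr ?_⟩
        have e1 : Commute h y := Subgroup.mem_centralizer_singleton_iff.mp hh.2
        have e2 : Commute h (y * m) := Subgroup.mem_centralizer_singleton_iff.mp h1.2
        have e3 := (e1.inv_right).mul_right e2
        rw [inv_mul_cancel_left] at e3
        exact e3.eq
      exact Subgroup.eq_of_le_of_card_ge hle (by rw [hc m (hMN hm) hm1,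
        hc y hyN fun h => hyM (h ▸ one_mem M)])
    refine hnocommon (C y) fun n hn hn1 => ?_
    by_cases hnM : n ∈ M
    · exact (hout y hyN hyM n hnM hn1).symm
    · rw [hout n hn hnM m₀ hm₀ hm₀1', hout y hyN hyM m₀ hm₀ hm₀1']
  haveI : Nontrivial N := ⟨⟨⟨n₀, hn₀⟩, 1, fun h => hn₀1 (congrArg Subtype.val h)⟩⟩
  -- `N` has a nontrivial abelian normal subgroup
  obtain ⟨A, hA, hAne, hAab⟩ : ∃ A : Subgroup N, A.Normal ∧ A ≠ ⊥ ∧ IsMulCommutative A := by
    by_contra! hno
    obtain ⟨A, -, hA⟩ := Set.Finite.exists_le_minimal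
      (Set.toFinite {B : Subgroup N | B.Normal ∧ B ≠ ⊥}) (a := ⊤) ⟨inferInstance, top_ne_bot⟩
    obtain ⟨hAn, hAne⟩ := hA.prop
    haveI := hAn
    obtain ⟨⟨α, hα⟩, hα1⟩ := Subgroup.ne_bot_iff_exists_ne_one.mp hAne
    have hα1' : α ≠ 1 := fun h => hα1 (Subtype.ext h)
    -- `A` has trivial centre
    have hcentre : ∀ u ∈ A, (∀ v ∈ A, v * u = u * v) → u = 1 := by
      intro u hu hcomm
      by_contra hu1
      let Z : Subgroup N := A ⊓ Subgroup.centralizer (A : Set N)
      haveI : Z.Normal := by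
        haveI : (Subgroup.centralizer (A : Set N)).Normal := Subgroup.normal_centralizer
        infer_instance
      have hZne : Z ≠ ⊥ := fun h => hu1 (by
        have : u ∈ Z := Subgroup.mem_inf.mpr ⟨hu, Subgroup.mem_centralizer_iff.mpr hcomm⟩
        rwa [h, Subgroup.mem_bot] at this)
      have hZA : Z = A := le_antisymm inf_le_left (hA.2 ⟨inferInstance, hZne⟩ inf_le_left)
      refine hno A hAn hAne ⟨⟨fun v w => Subtype.ext ?_⟩⟩
      have hv : (v : N) ∈ Z := hZA.ge v.2
      exact (Subgroup.mem_centralizer_iff.mp hv.2 w w.2).symm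
    -- the centraliser of `z` fixes the normal closure of `z`
    have hclass : ∀ z : N, z ≠ 1 → ∀ h ∈ C (z : G), ∀ u ∈ Subgroup.normalClosure ({z} : Set N),
        h * (u : G) = (u : G) * h := by
      intro z hz h hh
      set K : Set G := (fun g : N => (g : G) * z * (g : G)⁻¹) '' Set.univ with hKdef
      have hzK : (z : G) ∈ K := ⟨1, trivial, by simp⟩
      have hKcard : Nat.card K = Nat.card (MulAction.orbit (ConjAct N) z) := by
        refine (Nat.card_congr (Equiv.ofBijective (fun u : MulAction.orbit (ConjAct N) z =>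
          (⟨((u : N) : G), ?_⟩ : K)) ⟨fun u v e => ?_, fun w => ?_⟩)).symm
        · obtain ⟨g, hg⟩ := u.2
          exact ⟨ConjAct.ofConjAct g, trivial, by rw [← hg]; simp [ConjAct.smul_def]⟩
        · exact Subtype.ext (Subtype.ext (Subtype.ext_iff.mp e :))
        · obtain ⟨g, -, hg⟩ := w.2
          exact ⟨⟨g * z * g⁻¹, ⟨ConjAct.toConjAct g, by simp [ConjAct.smul_def]⟩⟩, Subtype.ext hg⟩
      have hall := hset K z hzK (by rintro _ ⟨g, -, rfl⟩; exact (g * z * g⁻¹).2)
        (by
          rintro _ ⟨g, -, rfl⟩ e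
          apply hz
          apply Subtype.ext
          simpa using e)
        (by
          rw [hKcard, Nat.card_coe_set_eq, ← MulAction.index_stabilizer]
          exact (Subgroup.index_dvd_card _).trans (by rw [Nat.card_congr ConjAct.ofConjAct.toEquiv]))
        (by
          rintro _ ⟨g, -, rfl⟩ h hh _ ⟨g', -, rfl⟩
          refine ⟨⟨h * g' * h⁻¹, hN.conj_mem g' g'.2 h⟩ * ⟨h * (g : G)⁻¹ * h⁻¹, hN.conj_mem _ (inv_mem g.2) h⟩ * g, trivial, ?_⟩
          have e : Commute h ((g : G) * z * (g : G)⁻¹) := Subgroup.mem_centralizer_singleton_iff.mp hh.2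
          have e' : (g : G) * z * (g : G)⁻¹ = h * ((g : G) * z * (g : G)⁻¹) * h⁻¹ := by
            rw [e.eq, mul_inv_cancel_right]
          simp only [Subgroup.coe_mul]
          calc (h * g' * h⁻¹) * (h * (g : G)⁻¹ * h⁻¹) * g * z * ((h * g' * h⁻¹) * (h * (g : G)⁻¹ * h⁻¹) * g)⁻¹
              = (h * g' * (g : G)⁻¹ * h⁻¹) * ((g : G) * z * (g : G)⁻¹) * (h * g' * (g : G)⁻¹ * h⁻¹)⁻¹ := by group
            _ = (h * g' * (g : G)⁻¹ * h⁻¹) * (h * ((g : G) * z * (g : G)⁻¹) * h⁻¹) * (h * g' * (g : G)⁻¹ * h⁻¹)⁻¹ := by rw [← e']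
            _ = h * ((g' : G) * z * (g' : G)⁻¹) * h⁻¹ := by group)
      have hle : Subgroup.normalClosure ({z} : Set N) ≤
          (Subgroup.centralizer ({h} : Set G)).comap N.subtype := by
        refine (Subgroup.closure_le _).mpr ?_
        intro v hv
        obtain ⟨w, hw, hwv⟩ := Group.mem_conjugatesOfSet_iff.mp hv
        rw [Set.mem_singleton_iff] at hw
        rw [hw] at hwv
        obtain ⟨g, rfl⟩ := isConj_iff.mp hwv
        refine Subgroup.mem_centralizer_singleton_iff.mpr ?_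
        have h1 : h ∈ C ((g : G) * z * (g : G)⁻¹) := by rw [hall _ ⟨g, trivial, rfl⟩]; exact hh
        exact (Subgroup.mem_centralizer_singleton_iff.mp h1.2).symm
      intro u hu
      exact (Subgroup.mem_centralizer_singleton_iff.mp (hle hu)).symm
    -- elements moving `A` have the centraliser of `α`
    have hmove : ∀ z : N, ¬ (∀ v ∈ A, v * z = z * v) → C (z : G) = C (α : G) ∧
        ∀ h ∈ C (α : G), ∀ v ∈ A, h * (v : G) = (v : G) * h := by
      intro z hz
      have hz1 : z ≠ 1 := fun h => hz (by intro v _; simp [h])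
      haveI : (Subgroup.normalClosure ({z} : Set N)).Normal := Subgroup.normalClosure_normal
      push Not at hz
      obtain ⟨v, hv, hvz⟩ := hz
      have hmem : v * z * v⁻¹ * z⁻¹ ∈ A ⊓ Subgroup.normalClosure ({z} : Set N) := by
        have hzm : z ∈ Subgroup.normalClosure ({z} : Set N) := Subgroup.subset_normalClosure rfl
        refine Subgroup.mem_inf.mpr ⟨?_, mul_mem (Subgroup.Normal.conj_mem ‹_› z hzm v) (inv_mem hzm)⟩
        have := mul_mem hv (hAn.conj_mem v⁻¹ (inv_mem hv) z)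
        simpa [mul_assoc] using this
      have hne : A ⊓ Subgroup.normalClosure ({z} : Set N) ≠ ⊥ := fun e => by
        rw [e, Subgroup.mem_bot, mul_inv_eq_one, mul_inv_eq_iff_eq_mul] at hmem
        exact hvz hmem
      have hAM : A ≤ Subgroup.normalClosure ({z} : Set N) :=
        (hA.2 ⟨inferInstance, hne⟩ inf_le_left).trans inf_le_right
      have hz1' : (z : G) ≠ 1 := fun e => hz1 (Subtype.ext e)
      have hα' : (α : G) ≠ 1 := fun e => hα1' (Subtype.ext e)
      have hle : C (z : G) ≤ C (α : G) := fun h hh => Subgroup.mem_inf.mpr ⟨hh.1,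
        Subgroup.mem_centralizer_singleton_iff.mpr (hclass z hz1 h hh α (hAM hα))⟩
      have heq' := Subgroup.eq_of_le_of_card_ge hle (by rw [hc _ z.2 hz1', hc _ α.2 hα'])
      exact ⟨heq', fun h hh v' hv' => hclass z hz1 h (heq' ▸ hh) v' (hAM hv')⟩
    have hαmove : ¬ ∀ v ∈ A, v * α = α * v := fun hall => hα1' (hcentre α hα hall)
    have hDA := (hmove α hαmove).2
    refine hnocommon (C (α : G)) fun n hn hn1 => ?_
    by_cases hcz : ∀ v ∈ A, v * (⟨n, hn⟩ : N) = ⟨n, hn⟩ * v
    · have hzα : ¬ ∀ v ∈ A, v * (⟨n, hn⟩ * α) = (⟨n, hn⟩ * α) * v := by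
        intro hall
        refine hαmove fun v hv => ?_
        have e := hall v hv
        rw [← mul_assoc, hcz v hv, mul_assoc, mul_assoc] at e
        exact mul_left_cancel e
      obtain ⟨hC1, -⟩ := hmove _ hzα
      refine (Subgroup.eq_of_le_of_card_ge (fun h hh => ?_) (by
        rw [hc n hn hn1, hc _ α.2 fun e => hα1' (Subtype.ext e)])).symm
      have e1 : Commute h (n * (α : G)) := Subgroup.mem_centralizer_singleton_iff.mp
        (((hC1.ge hh : h ∈ C ((⟨n, hn⟩ * α : N) : G))).2)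
      have e2 : Commute h (α : G) := hDA h hh α hα
      have e3 := e1.mul_right e2.inv_right
      rw [mul_inv_cancel_right] at e3
      exact Subgroup.mem_inf.mpr ⟨hh.1, Subgroup.mem_centralizer_singleton_iff.mpr e3.eq⟩
    · exact (hmove _ hcz).1
  -- `N` is elementary abelian
  obtain ⟨p, hp, hpA⟩ : ∃ p : ℕ, p.Prime ∧ p ∣ Nat.card A :=
    Nat.exists_prime_and_dvd fun h => hAne (Subgroup.card_eq_one.mp h)
  haveI : Fact p.Prime := ⟨hp⟩
  haveI := hA
  haveI := hAab
  let T : Subgroup N :=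
    { carrier := {u | u ∈ A ∧ u ^ p = 1}
      one_mem' := ⟨one_mem A, one_pow p⟩
      mul_mem' := fun {u v} hu hv => ⟨mul_mem hu.1 hv.1, by
        have : Commute u v := congrArg Subtype.val (mul_comm' (⟨u, hu.1⟩ : A) ⟨v, hv.1⟩)
        rw [this.mul_pow, hu.2, hv.2, one_mul]⟩
      inv_mem' := fun {u} hu => ⟨inv_mem hu.1, by rw [inv_pow, hu.2, inv_one]⟩ }
  haveI : T.Normal := ⟨fun u hu g => ⟨hA.conj_mem u hu.1 g, by rw [conj_pow, hu.2, mul_one, mul_inv_cancel]⟩⟩
  have hTp : IsPGroup p T := fun u => ⟨1, Subtype.ext (by simpa using u.2.2)⟩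
  have hTne : T ≠ ⊥ := by
    obtain ⟨⟨u, huA⟩, hu⟩ := exists_prime_orderOf_dvd_card' p hpA
    intro e
    have hu' : orderOf u = p := hu ▸ Subgroup.orderOf_coe (⟨u, huA⟩ : A)
    have : u ∈ T := ⟨huA, hu' ▸ pow_orderOf_eq_one u⟩
    rw [e, Subgroup.mem_bot] at this
    rw [this, orderOf_one] at hu'
    exact hp.ne_one hu'.symm
  have hchar : ∀ B : Subgroup N, B ≠ ⊥ → B.Characteristic → B = ⊤ := by
    intro B hB hBc
    haveI := hBc
    have h1 := hirr (B.map N.subtype) (Subgroup.map_subtype_le _)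
      (by rwa [ne_eq, Subgroup.map_eq_bot_iff_of_injective _ N.subtype_injective])
      (fun h _ m hm => by
        obtain ⟨u, hu, rfl⟩ := hm
        exact ⟨MulAut.conjNormal h u, (SetLike.ext_iff.mp (hBc.fixed (MulAut.conjNormal h)) u).mpr hu, MulAut.conjNormal_apply h u⟩)
    apply Subgroup.map_injective N.subtype_injective
    rw [h1, ← MonoidHom.range_eq_map, Subgroup.range_subtype]
  have hPtop : Cfsg.pCore p N = ⊤ := hchar _
    (fun e => hTne (le_bot_iff.mp (e ▸ CfsgLib.PCore.le_pCore (by infer_instance) hTp))) (by infer_instance)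
  have hNp : IsPGroup p N := IsPGroup.of_equiv (hPtop ▸ CfsgLib.PCore.pCore_isPGroup) Subgroup.topEquiv
  have hZtop : Subgroup.center N = ⊤ := hchar _ (by
    haveI := hNp.center_nontrivial
    exact (Subgroup.nontrivial_iff_ne_bot _).mp inferInstance) inferInstance
  have hcommN : ∀ u v : N, u * v = v * u := fun u v =>
    Subgroup.mem_center_iff.mp (hZtop ▸ Subgroup.mem_top v) u
  let Ω₁ : Subgroup N :=
    { carrier := {u | u ^ p = 1}
      one_mem' := one_pow p
      mul_mem' := fun {u v} hu hv => by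
        show (u * v) ^ p = 1
        rw [(show Commute u v from hcommN u v).mul_pow, hu, hv, one_mul]
      inv_mem' := fun {u} hu => by show u⁻¹ ^ p = 1; rw [inv_pow, hu, inv_one] }
  have hΩ : Ω₁ = ⊤ := by
    refine hchar _ ?_ ⟨fun φ => ?_⟩
    · intro e
      exact hTne (le_bot_iff.mp (e ▸ fun u hu => hu.2))
    · ext u
      show (φ u) ^ p = 1 ↔ u ^ p = 1
      rw [← map_pow, MulEquiv.map_eq_one_iff]
  refine ⟨⟨p, hp, ⟨⟨hcommN⟩⟩, fun x hx => ?_⟩, ?_⟩
  · have h1 : (⟨x, hx⟩ : N) ∈ Ω₁ := hΩ ▸ Subgroup.mem_top _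
    exact congrArg Subtype.val h1
  · intro M hM hM1
    by_cases hMN : M ⊓ N = ⊥
    · exfalso
      apply hM1
      rw [Subgroup.eq_bot_iff_forall]
      intro m hm
      have hcomm : ∀ n ∈ N, n * m = m * n := fun n hn =>
        (Subgroup.commute_of_normal_of_disjoint M N hM hN (disjoint_iff.mpr hMN) m n hm hn).eq.symm
      obtain ⟨n, hn, hna⟩ := hsurj (m • a)
      have h1 : n⁻¹ * m ∈ H := by
        show (n⁻¹ * m) • a = a
        rw [mul_smul, ← hna, inv_smul_smul]
      have h2 := hfaith _ h1 fun v hv => by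
        have e : v * n⁻¹ = n⁻¹ * v := congrArg Subtype.val (hcommN ⟨v, hv⟩ ⟨n⁻¹, inv_mem hn⟩)
        rw [← mul_assoc, e, mul_assoc, hcomm v hv, ← mul_assoc]
      have h3 : m ∈ M ⊓ N := ⟨hm, (inv_mul_eq_one.mp h2) ▸ hn⟩
      rwa [hMN, Subgroup.mem_bot] at h3
    · have h1 := hirr (M ⊓ N) inf_le_right hMN fun h _ m hm =>
        ⟨hM.conj_mem m hm.1 h, hN.conj_mem m hm.2 h⟩
      exact h1 ▸ inf_le_left
end Cfsg.Agent.S3356
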