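import Cfsg.Statements.S3358
import Cfsg.Agent.Lib.Recognition.ComplementNonsolvable
import Cfsg.Agent.Lib.Recognition.AutQ8
import Cfsg.Agent.Lib.Recognition.ZPresentation
import Cfsg.Agent.Lib.PCore.PSolvable
import Cfsg.Agent.Lib.TwoGroups.OneInvolution
import Cfsg.Agent.Lib.Frobenius.Theorem

set_option autoImplicit false
open Cfsg

namespace Cfsg.Agent.S3358

/-- The non-trivial map from a generalised quaternion group to the units of `ℤ`. -/
def quatSign (k : ℕ) : QuaternionGroup k →* Multiplicative (ZMod 2) :=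
  MonoidHom.mk' (fun g => match g with
    | .a _ => Multiplicative.ofAdd 0
    | .xa _ => Multiplicative.ofAdd 1) (by
      rintro (i | i) (j | j) <;>
        simp only [QuaternionGroup.a_mul_a, QuaternionGroup.a_mul_xa, QuaternionGroup.xa_mul_a,
          QuaternionGroup.xa_mul_xa] <;> rfl)

theorem ofAdd_one_ne : ¬ (Multiplicative.ofAdd (1 : ZMod 2) = 1) := by decide +kernel

/-- `ZMod 2` as permutations of four points. -/
theorem exists_two_into_four :
    ∃ f : Multiplicative (ZMod 2) →* Equiv.Perm (Fin 4), Function.Injective f :=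
  ⟨MonoidHom.mk' (fun u => if u = 1 then 1 else Equiv.swap 0 1) (by decide +kernel),
    by decide +kernel⟩

/-- An automorphism of odd order of `Q_{4k}`, `k ≥ 3`, is trivial. -/
theorem quat_odd_aut {k : ℕ} (hk : 3 ≤ k) (σ : MulAut (QuaternionGroup k))
    (hodd : Odd (orderOf σ)) (h2 : ∃ e, 2 * k = 2 ^ e) : σ = 1 := by
  have : NeZero k := ⟨by omega⟩
  obtain ⟨o, ho⟩ : ∃ o, orderOf σ = 2 * o + 1 := hodd
  have hσ : σ ^ (2 * o + 1) = 1 := ho ▸ pow_orderOf_eq_one σ
  have ha1 : orderOf (QuaternionGroup.a (1 : ZMod (2 * k))) = 2 * k :=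
    QuaternionGroup.orderOf_a_one
  -- the images of `a 1` stay in the cyclic part
  have hA : ∀ (τ : MulAut (QuaternionGroup k)), ∃ i : ZMod (2 * k),
      τ (QuaternionGroup.a 1) = QuaternionGroup.a i := by
    intro τ
    rcases hτ : τ (QuaternionGroup.a 1) with i | i
    · exact ⟨i, rfl⟩
    · exfalso
      have h := τ.orderOf_eq (QuaternionGroup.a 1)
      rw [hτ, QuaternionGroup.orderOf_xa, ha1] at h
      omega
  have hpow : ∀ i : ZMod (2 * k), QuaternionGroup.a i = QuaternionGroup.a 1 ^ i.val := fun i => by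
    rw [QuaternionGroup.a_one_pow, ZMod.natCast_zmod_val]
  obtain ⟨c, hc⟩ := hA σ
  have hmap : ∀ i : ZMod (2 * k), σ (QuaternionGroup.a i) = QuaternionGroup.a (c * i) := by
    intro i
    rw [hpow i, map_pow, hc, hpow c, ← pow_mul, QuaternionGroup.a_one_pow]
    congr 1
    push_cast
    rw [ZMod.natCast_zmod_val, ZMod.natCast_zmod_val]
  have hiter : ∀ (j : ℕ) (i : ZMod (2 * k)),
      (σ ^ j) (QuaternionGroup.a i) = QuaternionGroup.a (c ^ j * i) := by
    intro j
    induction j with
    | zero => intro i; simp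
    | succ j ih =>
      intro i
      rw [pow_succ', MulAut.mul_apply, ih, hmap, pow_succ', mul_assoc]
  have hco : c ^ (2 * o + 1) = 1 := by
    have h := hiter (2 * o + 1) 1
    rw [hσ, MulAut.one_apply, mul_one] at h
    simpa using h.symm
  -- `c` has odd order in a 2-group of units
  have hc1 : c = 1 := by
    obtain ⟨e, he⟩ := h2
    let u : (ZMod (2 * k))ˣ := Units.ofPowEqOne c (2 * o + 1) hco (by omega)
    have hu1 : u ^ (2 * o + 1) = 1 := Units.ext (by simpa [u] using hco)
    have hu2 : u ^ Nat.totient (2 * k) = 1 := ZMod.pow_totient u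
    have he0 : e ≠ 0 := fun h0 => by rw [h0] at he; simp at he
    obtain ⟨e, rfl⟩ : ∃ e', e = e' + 1 := ⟨e - 1, by omega⟩
    have ht : Nat.totient (2 * k) = 2 ^ e := by
      rw [he, Nat.totient_prime_pow_succ Nat.prime_two, Nat.add_one_sub_one, mul_one]
    rw [ht] at hu2
    have hg := pow_gcd_eq_one.2 ⟨hu1, hu2⟩
    rw [show Nat.gcd (2 * o + 1) (2 ^ e) = 1 from
      Nat.Coprime.pow_right e (Nat.coprime_two_right.2 ⟨o, rfl⟩), pow_one] at hg
    exact congrArg Units.val hg
  subst hc1
  -- now `σ` fixes the cyclic part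
  obtain ⟨d, hd⟩ : ∃ d : ZMod (2 * k), σ (QuaternionGroup.xa 0) = QuaternionGroup.xa d := by
    rcases hx : σ (QuaternionGroup.xa 0) with d | d
    · have h1 : σ (QuaternionGroup.a d) = QuaternionGroup.a d := by rw [hmap, one_mul]
      have := σ.injective (hx.trans h1.symm)
      simp at this
    · exact ⟨d, rfl⟩
  have hxa : ∀ i : ZMod (2 * k), σ (QuaternionGroup.xa i) = QuaternionGroup.xa (d + i) := by
    intro i
    have : QuaternionGroup.xa i = QuaternionGroup.xa 0 * QuaternionGroup.a i := by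
      rw [QuaternionGroup.xa_mul_a, zero_add]
    rw [this, map_mul, hd, hmap, one_mul, QuaternionGroup.xa_mul_a]
  have hiterx : ∀ (j : ℕ) (i : ZMod (2 * k)),
      (σ ^ j) (QuaternionGroup.xa i) = QuaternionGroup.xa ((j : ZMod (2 * k)) * d + i) := by
    intro j
    induction j with
    | zero => intro i; simp
    | succ j ih =>
      intro i
      rw [pow_succ', MulAut.mul_apply, ih, hxa]
      congr 1
      push_cast; ring
  have hd0 : d = 0 := by
    have h := hiterx (2 * o + 1) 0
    rw [hσ, MulAut.one_apply, add_zero] at h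
    have h' : ((2 * o + 1 : ℕ) : ZMod (2 * k)) * d = 0 := by simpa using h.symm
    obtain ⟨e, he⟩ := h2
    have hu : IsUnit ((2 * o + 1 : ℕ) : ZMod (2 * k)) := by
      rw [ZMod.isUnit_iff_coprime, he]
      exact Nat.Coprime.pow_right e (Nat.coprime_two_right.2 ⟨o, rfl⟩)
    exact hu.mul_right_eq_zero.1 h'
  apply MulEquiv.ext
  rintro (i | i)
  · rw [hmap, one_mul, MulAut.one_apply]
  · rw [hxa, hd0, zero_add, MulAut.one_apply]

open CfsgLib in
/-- A solvable group without fixed points has a map to `Sym(4)` with a Z-group kernel. -/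
theorem exists_hom {G N : Type*} [Group G] [Finite G] [Group N] [Finite N] [Nontrivial N]
    [MulDistribMulAction G N] (h : CfsgLib.Frobenius.IsFPF G N) (hsol : Group.IsSolvable G) :
    ∃ f : G →* Equiv.Perm (Fin 4), ∀ Q : Subgroup G, IsPGroup 2 Q → Q ≤ f.ker → IsCyclic Q := by
  classical
  haveI : Fact (Nat.Prime 2) := ⟨Nat.prime_two⟩
  by_cases hQ : ∀ Q : Subgroup G, IsPGroup 2 Q → IsCyclic Q
  · exact ⟨1, fun Q hQ2 _ => hQ Q hQ2⟩
  let O := Cfsg.pPrimeCore 2 G
  have hOn : O.Normal := inferInstance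
  let π := QuotientGroup.mk' O
  let T := Cfsg.pCore 2 (G ⧸ O)
  have hinj : ∀ Q : Subgroup G, IsPGroup 2 Q → ∀ a ∈ Q, π a = 1 → a = 1 := by
    intro Q hQ2 a ha h0
    have haO : a ∈ O := (QuotientGroup.eq_one_iff a).1 h0
    obtain ⟨j, hj⟩ := hQ2 ⟨a, ha⟩
    have hd1 : orderOf a ∣ 2 ^ j := orderOf_dvd_of_pow_eq_one (congrArg Subtype.val hj)
    have hd2 := Nat.dvd_gcd hd1 (Subgroup.orderOf_dvd_natCard O haO)
    rw [show Nat.gcd (2 ^ j) (Nat.card O) = 1 from
      Nat.Coprime.pow_left j (Nat.prime_two.coprime_iff_not_dvd.2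
        CfsgLib.PCore.not_dvd_card_pPrimeCore)] at hd2
    exact orderOf_eq_one_iff.1 (Nat.dvd_one.1 hd2)
  obtain ⟨P⟩ := (inferInstance : Nonempty (Sylow 2 G))
  have hπ : Function.Surjective π := QuotientGroup.mk'_surjective O
  let P' : Sylow 2 (G ⧸ O) := P.mapSurjective hπ
  have hP' : (P' : Subgroup (G ⧸ O)) = (P : Subgroup G).map π := Sylow.coe_mapSurjective hπ P
  let ι : (P : Subgroup G) →* G ⧸ O := π.comp (P : Subgroup G).subtype
  have hι : Function.Injective ι := (injective_iff_map_eq_one _).2 fun a ha =>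
    Subtype.ext (hinj _ P.2 a a.2 ha)
  -- involutions in the 2-groups of the quotient
  have hinv : ∀ a b : T, orderOf a = 2 → orderOf b = 2 → a = b := by
    intro a b ha hb
    have hTP : T ≤ (P : Subgroup G).map π := hP' ▸ CfsgLib.PCore.pCore_le_sylow P'
    obtain ⟨a', ha', hae⟩ := hTP a.2
    obtain ⟨b', hb', hbe⟩ := hTP b.2
    have key : ∀ (c : T) (c' : G), c' ∈ (P : Subgroup G) → π c' = c → orderOf c = 2 →
        c' ≠ 1 ∧ c' * c' = 1 := by
      intro c c' hc' hce hc
      refine ⟨fun h0 => ?_, hinj _ P.2 _ (mul_mem hc' hc') ?_⟩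
      · have : c = 1 := Subtype.ext (by rw [← hce, h0, map_one]; rfl)
        rw [this, orderOf_one] at hc; omega
      · rw [map_mul, hce, ← pow_two]
        exact congrArg Subtype.val (hc ▸ pow_orderOf_eq_one c)
    obtain ⟨a1, a2⟩ := key a a' ha' hae ha
    obtain ⟨b1, b2⟩ := key b b' hb' hbe hb
    exact Subtype.ext (by rw [← hae, ← hbe, h.involution_unique a1 a2 b1 b2])
  have hTp : IsPGroup 2 T := CfsgLib.PCore.pCore_isPGroup
  have hsolQ : Group.IsSolvable (G ⧸ O) := Group.isSolvable_of_surjective hπ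
  have hcent : Subgroup.centralizer (T : Set (G ⧸ O)) ≤ T :=
    CfsgLib.PCore.centralizer_pCore_le CfsgLib.PCore.isPSolvable_of_isSolvable
      CfsgLib.PCore.pPrimeCore_quotient_pPrimeCore
  have hTn : T.Normal := inferInstance
  let act : G →* MulAut T := (MulAut.conjNormal (H := T)).comp π
  have hkerT : ∀ g, act g = 1 → π g ∈ T ∧ ∀ t ∈ T, π g * t = t * π g := by
    intro g hg
    have hc : ∀ t ∈ T, π g * t = t * π g := by
      intro t ht
      have h2 := congrArg Subtype.val (DFunLike.congr_fun hg ⟨t, ht⟩)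
      simp only [act, MonoidHom.coe_comp, Function.comp_apply, MulAut.conjNormal_apply,
        MulAut.one_apply] at h2
      exact mul_inv_eq_iff_eq_mul.1 h2
    exact ⟨hcent (Subgroup.mem_centralizer_iff.2 fun t ht => (hc t ht).symm), hc⟩
  by_cases h8 : Nonempty (T ≃* QuaternionGroup 2)
  · obtain ⟨e⟩ := h8
    obtain ⟨f4, hf4⟩ := CfsgLib.Recognition.AutQ8.exists_injective_hom
    refine ⟨f4.comp ((MulAut.congr e).toMonoidHom.comp act), fun Q hQ2 hQk => ?_⟩
    have hmem : ∀ q ∈ Q, π q = 1 ∨ ∃ t : T, (t : G ⧸ O) = π q ∧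
        ∀ x : QuaternionGroup 2, e t * x = x * e t := by
      intro q hq
      have h0 : act q = 1 := (MulAut.congr e).injective
        ((hf4 ((hQk hq : f4 (MulAut.congr e (act q)) = 1).trans (map_one f4).symm)).trans
          (map_one (MulAut.congr e)).symm)
      obtain ⟨hq1, hq2⟩ := hkerT q h0
      refine Or.inr ⟨⟨π q, hq1⟩, rfl, fun x => ?_⟩
      obtain ⟨w, rfl⟩ := e.surjective x
      rw [← map_mul, ← map_mul]
      exact congrArg e (Subtype.ext (hq2 w w.2))
    have hcard : Nat.card Q ≤ 2 := by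
      have hZ : ∀ u : QuaternionGroup 2, (∀ x, u * x = x * u) → u = 1 ∨ u = QuaternionGroup.a 2 := by
        decide +kernel
      let F : Q → Bool := fun q => decide (π (q : G) = 1)
      have hF : Function.Injective F := by
        intro q1 q2 hq
        have hq' : (π (q1 : G) = 1) ↔ (π (q2 : G) = 1) := decide_eq_decide.1 hq
        refine Subtype.ext (inv_mul_eq_one.1 (hinj Q hQ2 _ (mul_mem (inv_mem q1.2) q2.2) ?_))
        rw [map_mul, map_inv, inv_mul_eq_one]
        by_cases h1 : π (q1 : G) = 1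
        · rw [h1, hq'.1 h1]
        · have h2 : π (q2 : G) ≠ 1 := fun h' => h1 (hq'.2 h')
          obtain ⟨t1, ht1, hc1⟩ := (hmem q1 q1.2).resolve_left h1
          obtain ⟨t2, ht2, hc2⟩ := (hmem q2 q2.2).resolve_left h2
          have key : ∀ (t : T) (q : G), (t : G ⧸ O) = π q → π q ≠ 1 →
              (∀ x, e t * x = x * e t) → e t = QuaternionGroup.a 2 := by
            intro t q hte hne hc
            refine (hZ _ hc).resolve_left fun h' => hne ?_
            rw [← hte, e.injective (h'.trans (map_one e).symm)]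
            rfl
          rw [← ht1, ← ht2, e.injective ((key t1 q1 ht1 h1 hc1).trans (key t2 q2 ht2 h2 hc2).symm)]
      exact (Nat.card_le_card_of_injective F hF).trans (by simp)
    rcases Nat.lt_or_ge (Nat.card Q) 2 with h2 | h2
    · have : Subsingleton Q := (Finite.card_le_one_iff_subsingleton).1 (by omega)
      infer_instance
    · exact isCyclic_of_prime_card (p := 2) (by omega)
  -- otherwise the quotient is a 2-group
  have hodd : ∀ g : G ⧸ O, Odd (orderOf g) → g = 1 := by
    intro g hg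
    obtain ⟨g, rfl⟩ := hπ g
    let σ : MulAut T := act g
    have hσd : orderOf σ ∣ orderOf (π g) := orderOf_map_dvd (MulAut.conjNormal (H := T)) (π g)
    have hσo : Odd (orderOf σ) := hg.of_dvd_nat hσd
    have hσ1 : σ = 1 := by
      rcases CfsgLib.TwoGroups.OneInvolution.isCyclic_or_quaternion hTp hinv with hc | ⟨k, hk, ⟨e⟩⟩
      · obtain ⟨j, hj⟩ := hTp.exists_card_eq
        have hA : Nat.card (MulAut T) = Nat.totient (2 ^ j) := by rw [IsCyclic.card_mulAut, hj]
        have hd : orderOf σ ∣ Nat.totient (2 ^ j) := hA ▸ orderOf_dvd_natCard σ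
        rw [← orderOf_eq_one_iff]
        rcases j with - | j
        · simpa using hd
        · rw [Nat.totient_prime_pow_succ Nat.prime_two, Nat.add_one_sub_one, mul_one] at hd
          obtain ⟨i, -, hi⟩ := (Nat.dvd_prime_pow Nat.prime_two).1 hd
          rcases i with - | i
          · simpa using hi
          · rw [hi, pow_succ, Nat.odd_mul] at hσo
            exact absurd hσo.2 (by decide)
      · have hk2 : 3 ≤ 2 ^ k := by
          rcases k with - | - | k
          · omega
          · exact absurd ⟨e⟩ h8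
          · exact le_trans (by norm_num : 3 ≤ 2 ^ 2)
              (Nat.pow_le_pow_right (by norm_num) (by omega))
        have h2 : MulAut.congr e σ = 1 := quat_odd_aut hk2 _
          (by rwa [(MulAut.congr e).orderOf_eq])
          ⟨k + 1, by rw [pow_succ, mul_comm]⟩
        exact (MulAut.congr e).injective (h2.trans (map_one _).symm)
    obtain ⟨hgT, -⟩ := hkerT g hσ1
    obtain ⟨j, hj⟩ := hTp ⟨π g, hgT⟩
    have hd := orderOf_dvd_of_pow_eq_one (congrArg Subtype.val hj : π g ^ 2 ^ j = 1)
    obtain ⟨i, -, hi⟩ := (Nat.dvd_prime_pow Nat.prime_two).1 hd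
    rcases i with - | i
    · rw [pow_zero, orderOf_eq_one_iff] at hi; exact hi
    · rw [hi, pow_succ, Nat.odd_mul] at hg
      exact absurd hg.2 (by decide)
  have h2G : IsPGroup 2 (G ⧸ O) := by
    refine IsPGroup.of_card (n := (Nat.card (G ⧸ O)).primeFactorsList.length)
      (Nat.eq_prime_pow_of_unique_prime_dvd Nat.card_pos.ne' fun {p} hp hpd => ?_)
    by_contra hp2
    haveI := Fact.mk hp
    obtain ⟨g, hg⟩ := exists_prime_orderOf_dvd_card' p hpd
    have := hodd g (by rw [hg]; exact hp.odd_of_ne_two hp2)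
    rw [this, orderOf_one] at hg
    exact hp.one_lt.ne hg
  have hιs : Function.Surjective ι := by
    intro w
    obtain ⟨g, rfl⟩ := hπ w
    have : π g ∈ (P' : Subgroup (G ⧸ O)) := by
      have htop : (P' : Subgroup (G ⧸ O)) = ⊤ :=
        (P'.3 (h2G.to_subgroup ⊤) le_top).symm
      rw [htop]; exact Subgroup.mem_top _
    rw [hP'] at this
    obtain ⟨q, hq, hqe⟩ := this
    exact ⟨⟨q, hq⟩, hqe⟩
  let eP : (P : Subgroup G) ≃* G ⧸ O := MulEquiv.ofBijective ι ⟨hι, hιs⟩
  have huniq : ∀ a b : (P : Subgroup G), orderOf a = 2 → orderOf b = 2 → a = b := by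
    intro a b ha hb
    have key : ∀ c : (P : Subgroup G), orderOf c = 2 → (c : G) ≠ 1 ∧ (c : G) * c = 1 := by
      intro c hc
      refine ⟨fun h0 => ?_, ?_⟩
      · rw [show c = 1 from Subtype.ext h0, orderOf_one] at hc; omega
      · have h0 := pow_orderOf_eq_one c
        rw [hc] at h0
        have := congrArg Subtype.val h0
        simpa [pow_two] using this
    exact Subtype.ext (h.involution_unique (key a ha).1 (key a ha).2 (key b hb).1 (key b hb).2)
  rcases CfsgLib.TwoGroups.OneInvolution.isCyclic_or_quaternion P.2 huniq with hc | ⟨k, hk, ⟨e⟩⟩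
  · exfalso
    apply hQ
    intro Q hQ2
    haveI := hc
    have hQc : IsCyclic (G ⧸ O) := eP.isCyclic.1 hc
    refine isCyclic_of_injective (π.comp Q.subtype) ((injective_iff_map_eq_one _).2 fun a ha => ?_)
    exact Subtype.ext (hinj Q hQ2 a a.2 ha)
  · obtain ⟨f2, hf2⟩ := exists_two_into_four
    refine ⟨f2.comp ((quatSign (2 ^ k)).comp ((e.toMonoidHom.comp eP.symm.toMonoidHom).comp π)),
      fun Q hQ2 hQk => ?_⟩
    let g : Q →* QuaternionGroup (2 ^ k) :=
      ((e.toMonoidHom.comp eP.symm.toMonoidHom).comp π).comp Q.subtype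
    have hg : Function.Injective g := (injective_iff_map_eq_one _).2 fun a ha =>
      Subtype.ext (hinj Q hQ2 a a.2 (eP.symm.injective
        ((e.injective (ha.trans (map_one e).symm)).trans (map_one eP.symm).symm)))
    haveI : IsCyclic (Subgroup.zpowers (QuaternionGroup.a (1 : ZMod (2 * 2 ^ k)))) := inferInstance
    have hgA : ∀ q, g q ∈ Subgroup.zpowers (QuaternionGroup.a (1 : ZMod (2 * 2 ^ k))) := by
      intro q
      have h1 : quatSign (2 ^ k) (g q) = 1 := hf2 ((hQk q.2).trans (map_one f2).symm)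
      rcases hq : g q with i | i
      · refine Subgroup.mem_zpowers_iff.2 ⟨i.val, ?_⟩
        rw [zpow_natCast, QuaternionGroup.a_one_pow, ZMod.natCast_zmod_val]
      · rw [hq] at h1
        exact absurd h1 ofAdd_one_ne
    exact isCyclic_of_injective (g.codRestrict _ hgA) fun a b hab =>
      hg (congrArg Subtype.val hab)

/-- Structure of solvable Frobenius complements. Let G be a finite solvable group that occurs as a Frobenius complement. Then G has a normal subgroup G₀ such that G/G₀ is isomorphic to a subgroup of Sym(4) (G₀ is the kernel of a homomorphism to Sym(4)), all Sylow subgroups of G₀ are cyclic, and G₀ has a presentation ⟨x, y | x^n = 1, y^m = 1, x⁻¹ y x = y^r⟩ with n, m ≥ 1, gcd(r − 1, m) = gcd(n, m) = 1 and r^(n/n′) ≡ 1 (mod m), where n′ is the product of the distinct primes dividing n. -/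
theorem result {G : Type*} [Group G] [Finite G] (hsol : Group.IsSolvable G)
    (hFC : ∃ (L : Type) (_ : Group L) (_ : Finite L) (H : Subgroup L), Cfsg.IsFrobeniusComplement H ∧ Nonempty (G ≃* H)) :
    ∃ G₀ : Subgroup G, G₀.Normal ∧
      (∃ f : G →* Equiv.Perm (Fin 4), f.ker = G₀) ∧
      (∀ (p : ℕ) [Fact p.Prime] (P : Sylow p G₀), IsCyclic P) ∧
      ∃ n m r : ℕ, 0 < n ∧ 0 < m ∧ Nat.Coprime (r - 1) m ∧ Nat.Coprime n m ∧ 1 ≤ r ∧
        r ^ (n / ∏ p ∈ n.primeFactors, p) % m = 1 % m ∧
        Nonempty (G₀ ≃* PresentedGroup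
          ({FreeGroup.of (0 : Fin 2) ^ n, FreeGroup.of (1 : Fin 2) ^ m,
            (FreeGroup.of (0 : Fin 2))⁻¹ * FreeGroup.of 1 * FreeGroup.of 0 * (FreeGroup.of (1 : Fin 2) ^ r)⁻¹} :
            Set (FreeGroup (Fin 2)))) := by
  obtain ⟨L, _, _, H, hH, ⟨e⟩⟩ := hFC
  obtain ⟨K, -, hKn, hK⟩ := CfsgLib.Frobenius.exists_normal_kernel hH
  letI : MulDistribMulAction G K := MulDistribMulAction.compHom K
    ((MulAut.conjNormal (H := K)).comp (H.subtype.comp e.toMonoidHom))
  have hval : ∀ (g : G) (k : K), ((g • k : K) : L) = (e g : L) * k * (e g : L)⁻¹ := fun g k => rfl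
  have hfpf : CfsgLib.Frobenius.IsFPF G K := by
    intro g hg k hk
    have hc : (e g : L) * k * (e g : L)⁻¹ = k := by rw [← hval, hk]
    refine Subtype.ext (CfsgLib.Frobenius.eq_one_of_commute hH hK.disjoint k.2 (e g).2 ?_
      (mul_inv_eq_iff_eq_mul.1 hc))
    exact fun h => hg (e.injective (by rw [map_one]; exact Subtype.ext h))
  have : Nontrivial K := by
    rw [← Finite.one_lt_card_iff_nontrivial, ← hK.index_eq_card]
    exact CfsgLib.Frobenius.one_lt_index hH
  obtain ⟨f, hf⟩ := exists_hom hfpf hsol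
  have hcyc : ∀ (p : ℕ) [Fact p.Prime] (P : Sylow p f.ker), IsCyclic P := by
    intro p hp P
    have hP : IsPGroup p ((P : Subgroup f.ker).map f.ker.subtype) := P.2.map _
    have hc : IsCyclic ((P : Subgroup f.ker).map f.ker.subtype) := by
      by_cases hp2 : p = 2
      · subst hp2; exact hf _ hP (Subgroup.map_subtype_le _)
      · exact CfsgLib.Recognition.Complement.isCyclic_odd_pgroup hfpf hp2 _ hP
    exact ((P : Subgroup f.ker).equivMapOfInjective f.ker.subtype f.ker.subtype_injective).isCyclic.2 hc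
  haveI : IsZGroup f.ker := ⟨fun p hp P => by haveI := Fact.mk hp; exact hcyc p P⟩
  refine ⟨f.ker, MonoidHom.normal_ker f, ⟨f, rfl⟩, hcyc,
    CfsgLib.Recognition.ZPresentation.exists_presentation (G := f.ker) ?_⟩
  intro u v hu hv hne huv
  let A := Subgroup.zpowers (u : G) ⊔ Subgroup.zpowers (v : G)
  have huv' : (u : G)⁻¹ * v * u ∈ Subgroup.zpowers (v : G) := by
    obtain ⟨i, hi⟩ := Subgroup.mem_zpowers_iff.1 huv
    exact Subgroup.mem_zpowers_iff.2 ⟨i, by simpa using congrArg Subtype.val hi⟩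
  have hnorm : Subgroup.zpowers (u : G) ≤
      Subgroup.normalizer ((Subgroup.zpowers (v : G) : Subgroup G) : Set G) := by
    rw [Subgroup.zpowers_le, ← inv_mem_iff]
    apply Subgroup.mem_normalizer_fintype
    rintro w hw
    obtain ⟨i, rfl⟩ := Subgroup.mem_zpowers_iff.1 hw
    rw [← conj_zpow, inv_inv]
    exact Subgroup.zpow_mem _ huv' i
  have hcop : Nat.Coprime (orderOf u) (orderOf v) := (Nat.coprime_primes hu hv).2 hne
  have hinf : Subgroup.zpowers (u : G) ⊓ Subgroup.zpowers (v : G) = ⊥ := by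
    apply Subgroup.inf_eq_bot_of_coprime
    rw [Nat.card_zpowers, Nat.card_zpowers, Subgroup.orderOf_coe, Subgroup.orderOf_coe]
    exact hcop
  have hA : Nat.card A = orderOf u * orderOf v := by
    apply le_antisymm
    · let F : Subgroup.zpowers (u : G) × Subgroup.zpowers (v : G) → A := fun w =>
        ⟨(w.1 : G) * w.2, mul_mem (Subgroup.mem_sup_left w.1.2) (Subgroup.mem_sup_right w.2.2)⟩
      have hF : Function.Surjective F := by
        rintro ⟨w, hw⟩
        have hw' : w ∈ ((A : Subgroup G) : Set G) := hw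
        rw [Subgroup.coe_mul_of_left_le_normalizer_right _ _ hnorm] at hw'
        obtain ⟨w1, h1, w2, h2, rfl⟩ := hw'
        exact ⟨(⟨w1, h1⟩, ⟨w2, h2⟩), rfl⟩
      have := Nat.card_le_card_of_surjective F hF
      rwa [Nat.card_prod, Nat.card_zpowers, Nat.card_zpowers, Subgroup.orderOf_coe,
        Subgroup.orderOf_coe] at this
    · refine Nat.le_of_dvd Nat.card_pos (Nat.Coprime.mul_dvd_of_dvd_of_dvd hcop ?_ ?_)
      · rw [← Subgroup.orderOf_coe]
        exact Subgroup.orderOf_dvd_natCard A (Subgroup.mem_sup_left (Subgroup.mem_zpowers _))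
      · rw [← Subgroup.orderOf_coe]
        exact Subgroup.orderOf_dvd_natCard A (Subgroup.mem_sup_right (Subgroup.mem_zpowers _))
  letI : MulDistribMulAction A K := MulDistribMulAction.compHom K A.subtype
  haveI : IsCyclic A := (hfpf.comp A.subtype A.subtype_injective).isCyclic_of_card_eq_mul hu hv hA
  let a : A := ⟨u, Subgroup.mem_sup_left (Subgroup.mem_zpowers _)⟩
  let b : A := ⟨v, Subgroup.mem_sup_right (Subgroup.mem_zpowers _)⟩
  letI := IsCyclic.commGroup (α := A)
  exact Subtype.ext (congrArg (fun w : A => (w : G)) (mul_comm a b))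

end Cfsg.Agent.S3358
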