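import Cfsg.Statements.S3359
import Cfsg.Agent.Lib.Recognition.ComplementNonsolvable
import Cfsg.Agent.Lib.Frobenius.Theorem

set_option autoImplicit false
open Cfsg

namespace Cfsg.Agent.S3359

/-- Structure of non-solvable Frobenius complements. Let G be a finite non-solvable group that occurs as a Frobenius complement. Then G has a normal subgroup G₀ of index 1 or 2 which is the direct product of a subgroup isomorphic to SL(2,5) and a subgroup M of order prime to 30 all of whose Sylow subgroups are cyclic. -/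
theorem result {G : Type*} [Group G] [Finite G] (hns : ¬ Group.IsSolvable G)
    (hFC : ∃ (L : Type) (_ : Group L) (_ : Finite L) (H : Subgroup L), Cfsg.IsFrobeniusComplement H ∧ Nonempty (G ≃* H)) :
    ∃ G₀ : Subgroup G, G₀.Normal ∧ (G₀.index = 1 ∨ G₀.index = 2) ∧
      ∃ S M : Subgroup G, S ⊔ M = G₀ ∧ S ⊓ M = ⊥ ∧ (∀ s ∈ S, ∀ x ∈ M, s * x = x * s) ∧
        Nonempty (S ≃* Matrix.SpecialLinearGroup (Fin 2) (ZMod 5)) ∧
        (∀ (p : ℕ) [Fact p.Prime] (P : Sylow p M), IsCyclic P) ∧ (Nat.card M).Coprime 30 := by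
  obtain ⟨L, _, _, H, hH, ⟨e⟩⟩ := hFC
  obtain ⟨K, -, hKn, hK⟩ := CfsgLib.Frobenius.exists_normal_kernel hH
  letI : MulDistribMulAction G K := MulDistribMulAction.compHom K
    ((MulAut.conjNormal (H := K)).comp (H.subtype.comp e.toMonoidHom))
  have hval : ∀ (g : G) (k : K), ((g • k : K) : L) = (e g : L) * k * (e g : L)⁻¹ := fun g k => rfl
  have hfpf : CfsgLib.Frobenius.IsFPF G K := by
    intro g hg k hk
    have hc : (e g : L) * k * (e g : L)⁻¹ = k := by rw [← hval, hk]
    refine Subtype.ext (CfsgLib.Frobenius.eq_one_of_commute hH hK.disjoint k.2 (e g).2 ?_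
      (mul_inv_eq_iff_eq_mul.1 hc))
    exact fun h => hg (e.injective (by rw [map_one]; exact Subtype.ext h))
  have : Nontrivial K := by
    rw [← Finite.one_lt_card_iff_nontrivial, ← hK.index_eq_card]
    exact CfsgLib.Frobenius.one_lt_index hH
  obtain ⟨G₀, h0, hi, S, M, h1, h2, -, -, h3, h4, h5, h6⟩ :=
    CfsgLib.Recognition.Complement.structure_of_fpf hfpf hns
  exact ⟨G₀, h0, hi, S, M, h1, h2, h3, h4, h5, h6⟩

end Cfsg.Agent.S3359
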