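import Cfsg.Statements.S3361
import Cfsg.Agent.Lib.RegLinear.QuatCase
import Cfsg.Agent.S0688
-- import your own Cfsg.Agent.* helpers here

set_option autoImplicit false
open Cfsg

namespace Cfsg.Agent.S3361

/-- Let q be a prime and V a non-trivial finite vector space over the field with q elements, and let G be a finite solvable group acting faithfully and linearly on V and regularly on the non-zero vectors (transitively, with only the identity fixing a non-zero vector). Then either V can be identified with the additive group of a finite field F so that every element of G acts as x ↦ a·σ(x) (a ∈ F, σ a field automorphism), or V has 5^2, 7^2, 11^2 or 23^2 elements. Moreover, if q ≠ 2 then G has a normal subgroup of index 2, except that when V has 25 elements G may be isomorphic to SL(2,3) and when V has 121 elements G may be isomorphic to SL(2,3) × C₅. -/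
theorem result
    (q : ℕ) [Fact q.Prime] {V : Type*} [AddCommGroup V] [Module (ZMod q) V] [Finite V] [Nontrivial V]
    {G : Type*} [Group G] [Finite G] (hsol : Group.IsSolvable G)
    (ρ : G →* (V ≃ₗ[ZMod q] V)) (hρ : Function.Injective ρ)
    (htrans : ∀ v w : V, v ≠ 0 → w ≠ 0 → ∃ g : G, ρ g v = w)
    (hreg : ∀ v : V, v ≠ 0 → ∀ g : G, ρ g v = v → g = 1) :
    ((∃ (F : Type) (_ : Field F) (_ : Fintype F) (e : V ≃+ F),
        ∀ g : G, ∃ (a : F) (σ : F ≃+* F), ∀ v : V, e (ρ g v) = a * σ (e v)) ∨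
      Nat.card V ∈ ({25, 49, 121, 529} : Set ℕ)) ∧
    (q ≠ 2 → (∃ N : Subgroup G, N.Normal ∧ N.index = 2) ∨
      (Nat.card V = 25 ∧ Nonempty (G ≃* Matrix.SpecialLinearGroup (Fin 2) (ZMod 3))) ∨
      (Nat.card V = 121 ∧ Nonempty (G ≃* Matrix.SpecialLinearGroup (Fin 2) (ZMod 3) × Multiplicative (ZMod 5)))) := by
  classical
  set H := ρ.range with hH
  let e : G ≃* H := MonoidHom.ofInjective hρ
  have hact : ∀ g v, CfsgLib.RegLinear.act H (e g) v = ρ g v := fun g v => rfl
  have hr : CfsgLib.RegLinear.Reg H := by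
    intro v w hv hw
    obtain ⟨g, hg⟩ := htrans v w hv hw
    refine ⟨e g, hg, fun h hh => ?_⟩
    obtain ⟨k, rfl⟩ := e.surjective h
    have hk : ρ k v = w := hh
    have h1 : ρ (g⁻¹ * k) v = v := by
      rw [map_mul, map_inv]
      show (ρ g)⁻¹ (ρ k v) = v
      rw [hk, ← hg]
      exact (ρ g).symm_apply_apply v
    rw [inv_mul_eq_one.mp (hreg v hv _ h1)]
  have hsolH : Group.IsSolvable H := Group.isSolvable_of_surjective (f := e.toMonoidHom) e.surjective
  have hback : (∃ N : Subgroup H, N.Normal ∧ N.index = 2) →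
      ∃ N : Subgroup G, N.Normal ∧ N.index = 2 := by
    rintro ⟨N, hN, hi⟩
    exact ⟨N.comap e.toMonoidHom, hN.comap _, by
      exact (Subgroup.index_comap_of_surjective _ e.surjective).trans hi⟩
  by_cases hI : CfsgLib.RegLinear.NoIrrCyclic H
  · refine ⟨Or.inr ?_, fun _ => ?_⟩
    · have h := Cfsg.Agent.S0688.result H hr hI hsolH
      simpa using h
    · rcases CfsgLib.RegLinear.q8_consequences hr hI hsolH with h | ⟨h1, ⟨f⟩⟩ | ⟨h1, ⟨f⟩⟩
      · exact Or.inl (hback h)
      · exact Or.inr (Or.inl ⟨h1, ⟨e.trans f⟩⟩)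
      · exact Or.inr (Or.inr ⟨h1, ⟨e.trans f⟩⟩)
  · simp only [CfsgLib.RegLinear.NoIrrCyclic, not_forall, not_exists, not_and] at hI
    obtain ⟨A, hAn, hAc, hA⟩ := hI
    have hirr : ∀ W : Submodule (ZMod q) V,
        (∀ a ∈ A, ∀ w ∈ W, CfsgLib.RegLinear.act H a w ∈ W) → W = ⊥ ∨ W = ⊤ := by
      intro W hW
      by_contra hne
      rw [not_or] at hne
      obtain ⟨a, ha, v, hv, hav⟩ := hA W hne.1 hne.2
      exact hav (hW a ha v hv)
    obtain ⟨⟨F, iF, iFin, f, hf⟩, htwo⟩ := CfsgLib.RegLinear.semilinear_structure hr hAn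
      inferInstance hirr
    refine ⟨Or.inl ⟨F, iF, iFin, f, fun g => ?_⟩, fun hq => Or.inl (hback (htwo hq))⟩
    obtain ⟨a, σ, h⟩ := hf (e g)
    exact ⟨a, σ, fun v => (hact g v).symm ▸ h v⟩

end Cfsg.Agent.S3361
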