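import Cfsg.Statements.S3362
import Cfsg.Agent.Lib.Recognition.SiftChain

set_option autoImplicit false
open Cfsg

namespace Cfsg.Agent.S3362

open CfsgLib.SiftChain

/-- The eight generators in the order `u, v, w, s, t, x₁, x₂, x₃`. -/
def gens : ℕ → Equiv.Perm (Fin 12)
  | 0 => Equiv.swap (4 : Fin 12) 9 * Equiv.swap (4 : Fin 12) 5 * Equiv.swap (4 : Fin 12) 6 * Equiv.swap (7 : Fin 12) 10 * Equiv.swap (7 : Fin 12) 11 * Equiv.swap (7 : Fin 12) 8
  | 1 => Equiv.swap (4 : Fin 12) 11 * Equiv.swap (4 : Fin 12) 5 * Equiv.swap (4 : Fin 12) 7 * Equiv.swap (6 : Fin 12) 8 * Equiv.swap (6 : Fin 12) 9 * Equiv.swap (6 : Fin 12) 10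
  | 2 => Equiv.swap (4 : Fin 12) 8 * Equiv.swap (4 : Fin 12) 5 * Equiv.swap (4 : Fin 12) 10 * Equiv.swap (6 : Fin 12) 7 * Equiv.swap (6 : Fin 12) 9 * Equiv.swap (6 : Fin 12) 11
  | 3 => Equiv.swap (3 : Fin 12) 5 * Equiv.swap (3 : Fin 12) 4 * Equiv.swap (6 : Fin 12) 8 * Equiv.swap (6 : Fin 12) 7 * Equiv.swap (9 : Fin 12) 11 * Equiv.swap (9 : Fin 12) 10
  | 4 => Equiv.swap (3 : Fin 12) 9 * Equiv.swap (3 : Fin 12) 6 * Equiv.swap (4 : Fin 12) 10 * Equiv.swap (4 : Fin 12) 7 * Equiv.swap (5 : Fin 12) 11 * Equiv.swap (5 : Fin 12) 8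
  | 5 => Equiv.swap (0 : Fin 12) 3 * Equiv.swap (6 : Fin 12) 7 * Equiv.swap (8 : Fin 12) 10 * Equiv.swap (9 : Fin 12) 11
  | 6 => Equiv.swap (0 : Fin 12) 1 * Equiv.swap (6 : Fin 12) 9 * Equiv.swap (7 : Fin 12) 10 * Equiv.swap (8 : Fin 12) 11
  | _ => Equiv.swap (1 : Fin 12) 2 * Equiv.swap (6 : Fin 12) 11 * Equiv.swap (7 : Fin 12) 9 * Equiv.swap (8 : Fin 12) 10

/-- The levels of the stabiliser chain with base `2, 1, 0, 3, 4`. -/
def chain : List (Level 12) :=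
  [⟨2, 8, [[], [7], [6, 7], [5, 6, 7], [3, 5, 6, 7], [4, 5, 6, 7], [3, 3, 5, 6, 7], [1, 3, 5, 6, 7],
      [4, 4, 5, 6, 7], [2, 3, 5, 6, 7], [2, 4, 5, 6, 7], [0, 1, 3, 5, 6, 7]]⟩,
   ⟨1, 7, [[], [6], [5, 6], [3, 5, 6], [4, 5, 6], [3, 3, 5, 6], [1, 3, 5, 6], [4, 4, 5, 6],
      [2, 3, 5, 6], [2, 4, 5, 6], [0, 1, 3, 5, 6]]⟩,
   ⟨0, 6, [[], [5], [3, 5], [4, 5], [3, 3, 5], [1, 3, 5], [4, 4, 5], [2, 3, 5], [2, 4, 5],
      [0, 1, 3, 5]]⟩,
   ⟨3, 5, [[], [3], [4], [3, 3], [1, 3], [4, 4], [2, 3], [2, 4], [0, 1, 3]]⟩,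
   ⟨4, 3, [[], [0], [1], [2], [0, 0], [0, 1], [1, 2], [2, 0]]⟩]

theorem check_chain : check gens chain = true := by decide +kernel

theorem gens_eight : gens '' {i | i < 8} =
    {gens 3, gens 4, gens 0, gens 1, gens 2, gens 5, gens 6, gens 7} := by
  ext x
  constructor
  · rintro ⟨i, hi, rfl⟩
    simp only [Set.mem_setOf_eq] at hi
    interval_cases i <;> simp
  · rintro (rfl | rfl | rfl | rfl | rfl | rfl | rfl | rfl) <;> exact ⟨_, by simp, rfl⟩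

theorem gens_seven : gens '' {i | i < 7} =
    {gens 3, gens 4, gens 0, gens 1, gens 2, gens 5, gens 6} := by
  ext x
  constructor
  · rintro ⟨i, hi, rfl⟩
    simp only [Set.mem_setOf_eq] at hi
    interval_cases i <;> simp
  · rintro (rfl | rfl | rfl | rfl | rfl | rfl | rfl) <;> exact ⟨_, by simp, rfl⟩

theorem eq_one_of_fix_base {p : Equiv.Perm (Fin 12)} (hp : p ∈ grp gens chain)
    (h2 : p 2 = 2) (h1 : p 1 = 1) (h0 : p 0 = 0) (h3 : p 3 = 3) (h4 : p 4 = 4) : p = 1 := by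
  have hc := check_chain
  rw [chain] at hp hc
  have c1 := (mem_tail hc).2 ⟨hp, h2⟩
  simp only [check, Bool.and_eq_true] at hc
  have c2 := (mem_tail (l := ⟨1, 7, _⟩) (r := _) (gen := gens) (by exact (by decide +kernel))).2 ⟨c1, h1⟩
  have c3 := (mem_tail (l := ⟨0, 6, _⟩) (r := _) (gen := gens) (by exact (by decide +kernel))).2 ⟨c2, h0⟩
  have c4 := (mem_tail (l := ⟨3, 5, _⟩) (r := _) (gen := gens) (by exact (by decide +kernel))).2 ⟨c3, h3⟩
  have c5 := (mem_tail (l := ⟨4, 3, _⟩) (r := _) (gen := gens) (by exact (by decide +kernel))).2 ⟨c4, h4⟩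
  have h := ((main ([] : List (Level 12)) rfl).1 p).2 c5
  exact Equiv.ext (by simpa [sift] using h)

/-- An explicit construction of the Mathieu groups of degrees 11 and 12. On the points 0, …, 11 let s = (3 4 5)(6 7 8)(9 10 11), t = (3 6 9)(4 7 10)(5 8 11), u = (4 6 5 9)(7 8 11 10), v = (4 7 5 11)(6 10 9 8), w = (4 10 5 8)(6 11 9 7), x₁ = (0 3)(6 7)(8 10)(9 11), x₂ = (0 1)(6 9)(7 10)(8 11), x₃ = (1 2)(6 11)(7 9)(8 10) (each written as a product of transpositions). Then the group M₁₂ generated by all eight permutations is sharply 5-transitive on the 12 points and has order 95040, and the group M₁₁ generated by the first seven has order 7920 and is the stabilizer of the point 2 in M₁₂. -/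
theorem result
    (s t u v w x₁ x₂ x₃ : Equiv.Perm (Fin 12))
    (hs : s = Equiv.swap (3 : Fin 12) 5 * Equiv.swap (3 : Fin 12) 4 * Equiv.swap (6 : Fin 12) 8 * Equiv.swap (6 : Fin 12) 7 * Equiv.swap (9 : Fin 12) 11 * Equiv.swap (9 : Fin 12) 10) (ht : t = Equiv.swap (3 : Fin 12) 9 * Equiv.swap (3 : Fin 12) 6 * Equiv.swap (4 : Fin 12) 10 * Equiv.swap (4 : Fin 12) 7 * Equiv.swap (5 : Fin 12) 11 * Equiv.swap (5 : Fin 12) 8)
    (hu : u = Equiv.swap (4 : Fin 12) 9 * Equiv.swap (4 : Fin 12) 5 * Equiv.swap (4 : Fin 12) 6 * Equiv.swap (7 : Fin 12) 10 * Equiv.swap (7 : Fin 12) 11 * Equiv.swap (7 : Fin 12) 8) (hv : v = Equiv.swap (4 : Fin 12) 11 * Equiv.swap (4 : Fin 12) 5 * Equiv.swap (4 : Fin 12) 7 * Equiv.swap (6 : Fin 12) 8 * Equiv.swap (6 : Fin 12) 9 * Equiv.swap (6 : Fin 12) 10) (hw : w = Equiv.swap (4 : Fin 12) 8 * Equiv.swap (4 : Fin 12) 5 * Equiv.swap (4 : Fin 12) 10 * Equiv.swap (6 : Fin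 12) 7 * Equiv.swap (6 : Fin 12) 9 * Equiv.swap (6 : Fin 12) 11)
    (hx₁ : x₁ = Equiv.swap (0 : Fin 12) 3 * Equiv.swap (6 : Fin 12) 7 * Equiv.swap (8 : Fin 12) 10 * Equiv.swap (9 : Fin 12) 11) (hx₂ : x₂ = Equiv.swap (0 : Fin 12) 1 * Equiv.swap (6 : Fin 12) 9 * Equiv.swap (7 : Fin 12) 10 * Equiv.swap (8 : Fin 12) 11)
    (hx₃ : x₃ = Equiv.swap (1 : Fin 12) 2 * Equiv.swap (6 : Fin 12) 11 * Equiv.swap (7 : Fin 12) 9 * Equiv.swap (8 : Fin 12) 10)
    (M₁₂ M₁₁ : Subgroup (Equiv.Perm (Fin 12))) (hM₁₂ : M₁₂ = Subgroup.closure {s, t, u, v, w, x₁, x₂, x₃})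
    (hM₁₁ : M₁₁ = Subgroup.closure {s, t, u, v, w, x₁, x₂}) :
    MulAction.IsMultiplyPretransitive M₁₂ (Fin 12) 5 ∧ (∀ y : Fin 5 ↪ Fin 12, MulAction.stabilizer M₁₂ y = ⊥) ∧
    Nat.card M₁₂ = 95040 ∧ Nat.card M₁₁ = 7920 ∧
    M₁₁ = M₁₂ ⊓ MulAction.stabilizer (Equiv.Perm (Fin 12)) (2 : Fin 12) := by
  have e12 : M₁₂ = grp gens chain := by
    rw [hM₁₂, grp, show topK chain = 8 from rfl, gens_eight]
    simp only [gens, hs, ht, hu, hv, hw, hx₁, hx₂, hx₃]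
  have e11 : M₁₁ = grp gens chain.tail := by
    rw [hM₁₁, grp, show topK chain.tail = 7 from rfl, gens_seven]
    simp only [gens, hs, ht, hu, hv, hw, hx₁, hx₂]
  have hc := check_chain
  have c12 : Nat.card M₁₂ = 95040 := by rw [e12, (main chain hc).2]; rfl
  have c11 : Nat.card M₁₁ = 7920 := by
    rw [e11, (main chain.tail (by decide +kernel)).2]; rfl
  let y0 : Fin 5 ↪ Fin 12 := ⟨![2, 1, 0, 3, 4], by decide⟩
  have hst : MulAction.stabilizer M₁₂ y0 = ⊥ := by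
    rw [Subgroup.eq_bot_iff_forall]
    intro g hg
    have hfix : ∀ i, (g : Equiv.Perm (Fin 12)) (y0 i) = y0 i := fun i => by
      have := DFunLike.congr_fun (MulAction.mem_stabilizer_iff.1 hg) i
      simpa [Subgroup.smul_def] using this
    exact Subtype.ext (eq_one_of_fix_base (e12 ▸ g.2) (hfix 0) (hfix 1) (hfix 2) (hfix 3) (hfix 4))
  have horb : MulAction.orbit M₁₂ y0 = Set.univ := by
    have h := Nat.card_congr (MulAction.orbitProdStabilizerEquivGroup M₁₂ y0)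
    rw [Nat.card_prod, hst, Subgroup.card_bot, mul_one, c12] at h
    apply Set.eq_of_subset_of_ncard_le (Set.subset_univ _) _ (Set.toFinite _)
    rw [Set.ncard_univ, ← Nat.card_coe_set_eq]
    refine (le_of_eq ?_).trans h.ge
    rw [Nat.card_eq_fintype_card, Fintype.card_embedding_eq, Fintype.card_fin, Fintype.card_fin]
    decide +kernel
  have htr : MulAction.IsPretransitive M₁₂ (Fin 5 ↪ Fin 12) :=
    (MulAction.isPretransitive_iff_orbit_eq_univ y0).2 horb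
  refine ⟨htr, fun y => ?_, c12, c11, ?_⟩
  · obtain ⟨g, hg⟩ := htr.exists_smul_eq y0 y
    rw [← hg]
    exact (MulAction.stabilizer_smul_eq_stabilizer_map_conj g y0).trans
      (by rw [hst, Subgroup.map_bot])
  · rw [e11, e12]
    ext p
    rw [chain, List.tail_cons, mem_tail (gen := gens) (l := ⟨2, 8, _⟩) (by exact check_chain),
      Subgroup.mem_inf, MulAction.mem_stabilizer_iff, Equiv.Perm.smul_def]

end Cfsg.Agent.S3362
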