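import Cfsg.Statements.S3366
import Cfsg.Agent.Lib.Recog45.ExtraThreeFrame
import Cfsg.Agent.Lib.Recog45.PSpThreeCentral
-- import your own Cfsg.Agent.* helpers here

set_option autoImplicit false
open Cfsg

namespace Cfsg.Agent.S3366

open Matrix CfsgLib.Recog45.HeisenbergFrame CfsgLib.Recog45.PSpThree

theorem neg_one_ne_one_three : (-1 : ZMod 3) ≠ 1 := by decide

theorem three_sum : (-1 : ZMod 3) + -1 + -1 = 0 := by decide

/-- Let X be a finite group with O₃(X) extraspecial of order 27 and exponent 3, X/O₃(X) isomorphic to SL(2,3), O₂(X) = 1, and a Sylow 3-subgroup of X containing an elementary abelian subgroup of order 27. Then X is isomorphic to the centralizer in PSp(4,3) of a 3-central element of order 3 (an element of order 3 in the centre of a Sylow 3-subgroup). -/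
theorem result {X : Type*} [Group X] [Finite X]
    (hR : Cfsg.IsExtraspecial 3 (Cfsg.pCore 3 X)) (hRcard : Nat.card (Cfsg.pCore 3 X) = 27)
    (hRexp : ∀ r ∈ Cfsg.pCore 3 X, r ^ 3 = 1)
    (e : X ⧸ Cfsg.pCore 3 X ≃* Matrix.SpecialLinearGroup (Fin 2) (ZMod 3))
    (hO2 : Cfsg.pCore 2 X = ⊥)
    (hE : ∃ E : Subgroup X, IsMulCommutative E ∧ (∀ a ∈ E, a ^ 3 = 1) ∧ Nat.card E = 27)
    (F : Type*) [Field F] [Fintype F] (hF : Fintype.card F = 3) :
    ∃ (c : Cfsg.PSp 2 F) (S : Sylow 3 (Cfsg.PSp 2 F)), orderOf c = 3 ∧ c ∈ (S : Subgroup (Cfsg.PSp 2 F)) ∧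
      c ∈ Subgroup.centralizer ((S : Subgroup (Cfsg.PSp 2 F)) : Set (Cfsg.PSp 2 F)) ∧
      Nonempty (X ≃* Subgroup.centralizer ({c} : Set (Cfsg.PSp 2 F))) := by
  classical
  haveI : Fact (Nat.Prime 3) := ⟨Nat.prime_three⟩
  haveI : CharP F 3 := charP_of_card_eq_prime hF
  haveI : (Cfsg.pCore 3 X).Normal := inferInstance
  obtain ⟨A⟩ := CfsgLib.Recog45.ExtraThree.exists_frame hR hRcard hRexp e hO2 hE
  let φ : ZMod 3 →+* F := ZMod.castHom dvd_rfl F
  have hφi : Function.Injective φ := φ.injective
  have hφs : Function.Surjective φ :=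
    ((Fintype.bijective_iff_injective_and_card φ).2 ⟨hφi, by rw [hF, ZMod.card]⟩).2
  let Sp := symplecticGroup (Fin 2) F
  let q : Sp →* Cfsg.PSp 2 F := QuotientGroup.mk' (Subgroup.center Sp)
  let g : V → ZMod 3 → Sp := fun v z => ⟨gmat (φ v.1) (φ v.2) (-φ z), gmat_mem _ _ _⟩
  have hdet : ∀ s : SL, φ (s.1 0 0) * φ (s.1 1 1) - φ (s.1 0 1) * φ (s.1 1 0) = 1 := fun s => by
    rw [← map_mul, ← map_mul, ← map_sub, ← Matrix.det_fin_two, s.2, map_one]
  let τ : SL →* Sp :=
    { toFun := fun s => ⟨smat (φ (s.1 0 0)) (φ (s.1 0 1)) (φ (s.1 1 0)) (φ (s.1 1 1)),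
        smat_mem _ _ _ _ (hdet s)⟩
      map_one' := Subtype.ext (by simp [smat_one])
      map_mul' := fun s t => Subtype.ext (by
        change smat _ _ _ _ = smat _ _ _ _ * smat _ _ _ _
        rw [smat_mul]
        simp [Matrix.SpecialLinearGroup.coe_mul, Matrix.mul_apply, Fin.sum_univ_two]) }
  have hg_mul : ∀ v z w y, g v z * g w y = g (v + w) (z + y - CfsgLib.Recog45.HeisenbergFrame.det v w) := fun v z w y =>
    Subtype.ext (by
      change gmat _ _ _ * gmat _ _ _ = gmat _ _ _
      rw [gmat_mul]
      simp [CfsgLib.Recog45.HeisenbergFrame.det]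
      congr 1
      ring)
  have hconj : ∀ s v z, τ s * g v z = g (act s v) z * τ s := fun s v z => Subtype.ext (by
    change smat _ _ _ _ * gmat _ _ _ = gmat _ _ _ * smat _ _ _ _
    rw [smat_mul_gmat _ _ _ _ _ _ _ (hdet s)]
    simp [act])
  have hval : ∀ v z s, ((g v z * τ s : Sp) : Matrix Idx Idx F) =
      gmat (φ v.1) (φ v.2) (-φ z) * smat (φ (s.1 0 0)) (φ (s.1 0 1)) (φ (s.1 1 0)) (φ (s.1 1 1)) :=
    fun v z s => rfl
  -- the transvection
  let T : Sp := g 0 (-1)
  have hT : (T : Matrix Idx Idx F) = gmat (0 : F) 0 1 := by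
    simp [T, g]
  have hg0 : g 0 0 = 1 := Subtype.ext (by
    ext (i | i) (j | j) <;> fin_cases i <;> fin_cases j <;> simp [g, gmat, fromBlocks])
  have hcommT : ∀ v z s, Commute T (g v z * τ s) := fun v z s => by
    refine Commute.mul_right ?_ ?_
    · show T * g v z = g v z * T
      rw [hg_mul, hg_mul, zero_add, add_zero]
      simp [CfsgLib.Recog45.HeisenbergFrame.det, add_comm]
    · show T * τ s = τ s * T
      rw [hconj, show act s (0 : V) = 0 by simp [act]]
  have hneg : ∀ B : Sp, B ∈ Subgroup.center Sp → B = 1 ∨ (B : Matrix Idx Idx F) = -1 := fun B hB => by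
    rcases CfsgLib.Sp.mem_center_iff.1 hB with h | h
    · exact Or.inl (Subtype.ext h)
    · exact Or.inr h
  set c : Cfsg.PSp 2 F := q T with hc
  let C := Subgroup.centralizer ({c} : Set (Cfsg.PSp 2 F))
  have hmemC : ∀ v z s, q (g v z * τ s) ∈ C := fun v z s => by
    rw [Subgroup.mem_centralizer_singleton_iff, hc, ← map_mul, ← map_mul, (hcommT v z s).eq]
  have hmemr : ∀ v z, q (g v z) ∈ C := fun v z => by simpa using hmemC v z 1
  have hmems : ∀ s, q (τ s) ∈ C := fun s => by simpa [hg0] using hmemC 0 0 s
  let B : Frame C :=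
    { r := fun v z => ⟨q (g v z), hmemr v z⟩
      σ := (q.comp τ).codRestrict C hmems
      law := fun v z w y => Subtype.ext (by
        change q (g v z) * q (g w y) = q _
        rw [← map_mul, hg_mul])
      conj := fun s v z => Subtype.ext (by
        change q (τ s) * q (g v z) = q _ * q (τ s)
        rw [← map_mul, ← map_mul, hconj])
      bij := by
        constructor
        · rintro ⟨⟨⟨v1, v2⟩, z⟩, s⟩ ⟨⟨⟨w1, w2⟩, y⟩, t⟩ h
          have h' : q (g (v1, v2) z * τ s) = q (g (w1, w2) y * τ t) := by
            rw [map_mul, map_mul]; exact congrArg Subtype.val h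
          obtain ⟨ε, hε, heq⟩ := (QuotientGroup.mk'_eq_mk' _).1 h'
          have hε1 : ε = 1 := by
            rcases hneg ε hε with h1 | h1
            · exact h1
            · exfalso
              have h2 := congrArg (fun B : Sp => (B : Matrix Idx Idx F) (.inl 0) (.inl 0)) heq
              simp only [Submonoid.coe_mul, hval, h1] at h2
              simp [gmat, smat, Matrix.mul_apply, Fintype.sum_sum_type, Fin.sum_univ_two,
                fromBlocks] at h2
              have h3 : φ (-1) = φ 1 := by rw [map_neg, map_one]; exact h2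
              exact neg_one_ne_one_three (hφi h3)
          rw [hε1, mul_one] at heq
          have hM := congrArg (fun B : Sp => (B : Matrix Idx Idx F)) heq
          simp only [hval] at hM
          have e : ∀ i j : Idx, _ = _ := fun i j => congrFun (congrFun hM i) j
          have e1 := e (.inl 1) (.inr 0)
          have e2 := e (.inr 1) (.inr 0)
          have e3 := e (.inl 0) (.inr 0)
          have e4 := e (.inl 1) (.inl 1)
          have e5 := e (.inl 1) (.inr 1)
          have e6 := e (.inr 1) (.inl 1)
          have e7 := e (.inr 1) (.inr 1)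
          simp [gmat, smat, Matrix.mul_apply, Fintype.sum_sum_type, Fin.sum_univ_two, fromBlocks]
            at e1 e2 e3 e4 e5 e6 e7
          have hs : s = t := by
            ext i j
            fin_cases i <;> fin_cases j
            · exact hφi e4
            · exact hφi e5
            · exact hφi e6
            · exact hφi e7
          rw [hφi e1, hφi e2, hφi e3, hs]
        · rintro ⟨x, hx⟩
          obtain ⟨a, rfl⟩ := QuotientGroup.mk'_surjective (Subgroup.center Sp) x
          rw [Subgroup.mem_centralizer_singleton_iff, hc] at hx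
          change q a * q T = q T * q a at hx
          rw [← map_mul, ← map_mul] at hx
          obtain ⟨ε, hε, heq⟩ := (QuotientGroup.mk'_eq_mk' _).1 hx
          have hT3 : T ^ 3 = 1 := by
            rw [pow_succ, pow_two, hg_mul, hg_mul,
              show ((0 : V) + 0 + 0) = 0 by simp,
              show ((-1 : ZMod 3) + -1 - CfsgLib.Recog45.HeisenbergFrame.det 0 0 + -1 - CfsgLib.Recog45.HeisenbergFrame.det (0 + 0) 0) = 0 by simpa [CfsgLib.Recog45.HeisenbergFrame.det] using three_sum,
              hg0]
          have hε1 : ε = 1 := by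
            rcases hneg ε hε with h1 | h1
            · exact h1
            · exfalso
              have hcε : Commute T ε := Subgroup.mem_center_iff.1 hε T
              have h4 : T * ε = a⁻¹ * T * a := by
                have hcε' : ε * a = a * ε := (Subgroup.mem_center_iff.1 hε a).symm
                calc T * ε = a⁻¹ * (a * T * ε) := by
                      rw [mul_assoc a T ε, ← mul_assoc a⁻¹, inv_mul_cancel, one_mul]
                  _ = _ := by rw [heq, mul_assoc]
              have h5 : (T * ε) ^ 3 = 1 := by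
                rw [h4, show a⁻¹ * T * a = a⁻¹ * T * a⁻¹⁻¹ by rw [inv_inv], conj_pow, hT3, mul_one,
                  inv_inv, inv_mul_cancel]
              rw [hcε.mul_pow, hT3, one_mul] at h5
              have h6 := congrArg (fun B : Sp => (B : Matrix Idx Idx F) (.inl 0) (.inl 0)) h5
              simp [h1, pow_succ] at h6
              have h3 : φ (-1) = φ 1 := by rw [map_neg, map_one]; exact h6
              exact neg_one_ne_one_three (hφi h3)
          rw [hε1, mul_one] at heq
          have hcomm : (a : Matrix Idx Idx F) * gmat (0 : F) 0 1 =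
              gmat (0 : F) 0 1 * (a : Matrix Idx Idx F) := by
            rw [← hT]; exact congrArg (fun B : Sp => (B : Matrix Idx Idx F)) heq
          -- normalise the sign
          obtain ⟨b, hb, hbcomm, hbd⟩ : ∃ b : Sp, q b = q a ∧
              (b : Matrix Idx Idx F) * gmat (0 : F) 0 1 = gmat (0 : F) 0 1 * (b : Matrix Idx Idx F) ∧
              (b : Matrix Idx Idx F) (.inl 0) (.inl 0) = 1 := by
            have h1 := congrFun (congrFun hcomm (.inl 0)) (.inr 0)
            have h2 := congrFun (congrFun ((SymplecticGroup.mem_iff').1 a.2) (.inl 0)) (.inr 0)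
            have h3 := congrFun (congrFun hcomm (.inl 1)) (.inr 0)
            have h4 := congrFun (congrFun hcomm (.inr 0)) (.inr 0)
            have h5 := congrFun (congrFun hcomm (.inr 1)) (.inr 0)
            simp [gmat, Matrix.mul_apply, Fintype.sum_sum_type, Fin.sum_univ_two, fromBlocks]
              at h1 h3 h4 h5
            simp [J, Matrix.mul_apply, Fintype.sum_sum_type, Fin.sum_univ_two, fromBlocks,
              Matrix.one_apply, h3, h4, h5] at h2
            set M : Matrix Idx Idx F := a.1
            have hdd : M (.inl 0) (.inl 0) * M (.inl 0) (.inl 0) = 1 := by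
              have h1' : M (.inr 0) (.inr 0) = M (.inl 0) (.inl 0) := by linear_combination -h1
              rw [h1'] at h2
              linear_combination h2
            rcases mul_self_eq_one_iff.1 hdd with hd | hd
            · exact ⟨a, rfl, hcomm, hd⟩
            · let N : Sp := ⟨-1, SymplecticGroup.neg_mem (one_mem _)⟩
              have hN : N ∈ Subgroup.center Sp := CfsgLib.Sp.mem_center_iff.2 (Or.inr rfl)
              refine ⟨a * N, ?_, ?_, ?_⟩
              · rw [map_mul, (QuotientGroup.eq_one_iff N).2 hN |> (fun h => show q N = 1 from h),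
                  mul_one]
              · simp [N, M, hcomm]
              · simp [N, M, hd]
          obtain ⟨v1, v2, z, a', b', c', d', hdt, hbM⟩ := exists_eq_gmat_smat b hbcomm hbd
          obtain ⟨w1, rfl⟩ := hφs v1
          obtain ⟨w2, rfl⟩ := hφs v2
          obtain ⟨z', rfl⟩ := hφs z
          obtain ⟨sa, rfl⟩ := hφs a'
          obtain ⟨sb, rfl⟩ := hφs b'
          obtain ⟨sc, rfl⟩ := hφs c'
          obtain ⟨sd, rfl⟩ := hφs d'
          let s : SL := ⟨!![sa, sb; sc, sd], by
            apply hφi
            rw [Matrix.det_fin_two, map_one]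
            simpa using hdt⟩
          refine ⟨(((w1, w2), -z'), s), Subtype.ext ?_⟩
          change q (g (w1, w2) (-z')) * q (τ s) = q a
          rw [← map_mul, ← hb]
          refine congrArg q (Subtype.ext ?_)
          rw [hval, hbM]
          simp [s] }
  obtain ⟨iso⟩ := A.nonempty_equiv B
  have hCcard : Nat.card C = 648 := by
    rw [← Nat.card_eq_of_bijective _ B.bij, Nat.card_prod, Nat.card_prod, Nat.card_prod,
      CfsgLib.Large.SLTwoThree.card_sl, Nat.card_zmod]
  have hc1 : c ≠ 1 := by
    intro h
    rcases hneg T ((QuotientGroup.eq_one_iff T).1 h) with h1 | h1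
    · have := congrArg (fun B : Sp => (B : Matrix Idx Idx F) (.inl 0) (.inr 0)) h1
      simp [hT, gmat, fromBlocks] at this
    · have := congrFun (congrFun h1 (.inl 0)) (.inr 0)
      simp [hT, gmat, fromBlocks] at this
  have hc3 : c ^ 3 = 1 := by
    rw [hc, ← map_pow, pow_succ, pow_two, hg_mul, hg_mul,
      show ((0 : V) + 0 + 0) = 0 by simp,
      show ((-1 : ZMod 3) + -1 - CfsgLib.Recog45.HeisenbergFrame.det 0 0 + -1 - CfsgLib.Recog45.HeisenbergFrame.det (0 + 0) 0) = 0 by simpa [CfsgLib.Recog45.HeisenbergFrame.det] using three_sum,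
      hg0, map_one]
  have hord : orderOf c = 3 := orderOf_eq_prime hc3 hc1
  let c' : C := ⟨c, Subgroup.mem_centralizer_singleton_iff.2 rfl⟩
  have hc' : IsPGroup 3 (Subgroup.zpowers c') := by
    refine IsPGroup.of_card (n := 1) ?_
    rw [Nat.card_zpowers, pow_one]
    exact (orderOf_injective C.subtype C.subtype_injective c').symm.trans hord
  obtain ⟨S₀, hS₀⟩ := hc'.exists_le_sylow
  have hP : Nat.card ((S₀ : Subgroup C).map C.subtype) = 81 := by
    rw [← Nat.card_congr ((S₀ : Subgroup C).equivMapOfInjective _ C.subtype_injective).toEquiv,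
      Sylow.card_eq_multiplicity, hCcard,
      show (648 : ℕ) = 3 ^ 4 * 8 by norm_num, Nat.factorization_mul (by norm_num) (by norm_num),
      Finsupp.add_apply, Nat.Prime.factorization_pow Nat.prime_three,
      Nat.factorization_eq_zero_of_not_dvd (by norm_num : ¬ 3 ∣ 8)]
    simp
  have hG : Nat.card (Cfsg.PSp 2 F) = 3 ^ 4 * 320 := by
    have h := CfsgLib.Sp.card_psp (m := 2) hF (by norm_num)
    simp [Finset.prod_range_succ] at h ⊢
    omega
  have hval' : (Nat.card (Cfsg.PSp 2 F)).factorization 3 = 4 := by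
    rw [hG, Nat.factorization_mul (by norm_num) (by norm_num),
      Finsupp.add_apply, Nat.Prime.factorization_pow Nat.prime_three,
      Nat.factorization_eq_zero_of_not_dvd (by norm_num : ¬ 3 ∣ 320)]
    simp
  let S : Sylow 3 (Cfsg.PSp 2 F) := Sylow.ofCard ((S₀ : Subgroup C).map C.subtype)
    (by rw [hP, hval']; norm_num)
  have hcS : c ∈ (S : Subgroup (Cfsg.PSp 2 F)) :=
    ⟨c', hS₀ (Subgroup.mem_zpowers c'), rfl⟩
  refine ⟨c, S, hord, hcS, ?_, ⟨iso⟩⟩
  rw [Subgroup.mem_centralizer_iff]
  rintro _ ⟨u, -, rfl⟩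
  exact Subgroup.mem_centralizer_singleton_iff.1 u.2

end Cfsg.Agent.S3366
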