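import Cfsg.Statements.S3370
import Cfsg.Agent.Lib.Recognition.TwoTransTwoModFour

set_option autoImplicit false
open Cfsg

namespace Cfsg.Agent.S3370

/-- `2^n - 1` is a proper prime power only as a prime. -/
theorem two_pow_eq (p a n : ℕ) (hp : p.Prime) (ha : 1 ≤ a) (h : 2 ^ n = p ^ a + 1) : a = 1 := by
  have hpodd : p % 2 = 1 := by
    rcases hp.eq_two_or_odd with rfl | h2
    · exfalso
      rcases n with _ | n
      · rw [pow_zero] at h
        have : 0 < 2 ^ a := pow_pos (by norm_num) a
        omega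
      · obtain ⟨b, rfl⟩ : ∃ b, a = b + 1 := ⟨a - 1, by omega⟩
        rw [pow_succ, pow_succ] at h; omega
    · exact h2
  rcases Nat.even_or_odd a with ⟨c, rfl⟩ | hodd
  · exfalso
    have h4 : p ^ (c + c) % 4 = 1 := by
      rw [← two_mul, pow_mul, Nat.pow_mod]
      have : p ^ 2 % 4 = 1 := by
        obtain ⟨j, rfl⟩ : ∃ j, p = 2 * j + 1 := ⟨p / 2, by omega⟩
        ring_nf; omega
      rw [this, one_pow]; rfl
    have hge : 2 ≤ p ^ (c + c) := hp.two_le.trans (Nat.le_self_pow (by omega) p)
    rcases n with _ | _ | n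
    · rw [pow_zero] at h; omega
    · rw [pow_one] at h; omega
    · rw [pow_succ, pow_succ] at h; omega
  · have hd : p + 1 ∣ 2 ^ n := by
      rw [h]
      simpa using hodd.nat_add_dvd_pow_add_pow p 1
    obtain ⟨s, hsn, hs⟩ := (Nat.dvd_prime_pow Nat.prime_two).1 hd
    have h2 : p ^ 2 ≡ 1 [MOD 2 ^ (s + 1)] := by
      apply Nat.ModEq.symm
      rw [Nat.modEq_iff_dvd' (Nat.one_le_pow _ _ hp.pos)]
      rw [show p ^ 2 - 1 = (p + 1) * (p - 1) by
        have := Nat.sq_sub_sq p 1; simpa using this, pow_succ, hs]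
      exact mul_dvd_mul_left _ (by omega)
    obtain ⟨k, rfl⟩ := hodd
    have h3 : p ^ (2 * k + 1) ≡ p [MOD 2 ^ (s + 1)] := by
      have := (h2.pow k).mul_right p
      rwa [one_pow, one_mul, ← pow_mul, ← pow_succ] at this
    have h4 : 2 ^ n ≡ 2 ^ s [MOD 2 ^ (s + 1)] := by
      rw [h, ← hs]; exact h3.add_right 1
    have hns : n = s := by
      by_contra hne
      have h5 : 2 ^ (s + 1) ∣ 2 ^ n := Nat.pow_dvd_pow 2 (by omega)
      have h6 : 2 ^ (s + 1) ∣ 2 ^ s := (Nat.ModEq.dvd_iff h4 dvd_rfl).1 h5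
      have := Nat.le_of_dvd (pow_pos (by norm_num) _) h6
      rw [pow_succ] at this
      have : 0 < 2 ^ s := pow_pos (by norm_num) _
      omega
    subst hns
    have h7 : p ^ (2 * k + 1) = p ^ 1 := by rw [pow_one]; omega
    exact Nat.pow_right_injective hp.two_le h7

/-- `q^N - 1` a power of two for odd `q`. -/
theorem pow_eq_two_pow (q N a : ℕ) (hq : 3 ≤ q) (hodd : q % 2 = 1) (hN : 1 ≤ N)
    (h : q ^ N = 2 ^ a + 1) : N = 1 ∨ (q = 3 ∧ N = 2) := by
  rcases Nat.even_or_odd N with ⟨k, rfl⟩ | hNodd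
  · right
    obtain ⟨x, hx⟩ : ∃ x, q ^ k = x + 1 := ⟨q ^ k - 1, by have := Nat.one_le_pow k q (by omega); omega⟩
    have h1 : x * (x + 2) = 2 ^ a := by
      rw [pow_add, hx] at h
      have : (x + 1) * (x + 1) = x * (x + 2) + 1 := by ring
      omega
    obtain ⟨u, -, hu⟩ := (Nat.dvd_prime_pow Nat.prime_two).1 ⟨x + 2, h1.symm⟩
    obtain ⟨w, -, hw⟩ := (Nat.dvd_prime_pow Nat.prime_two).1 (Dvd.intro_left x h1)
    have hkpos : 1 ≤ k := by omega
    have hqk : q ≤ q ^ k := Nat.le_self_pow (by omega) q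
    have hu2 : x = 2 := by
      rcases u with _ | _ | u
      · simp at hu; omega
      · simpa using hu
      · exfalso
        have h4 : x % 4 = 0 := by rw [hu, pow_succ, pow_succ]; omega
        rcases w with _ | _ | w
        · simp at hw
        · simp at hw; omega
        · have : (x + 2) % 4 = 0 := by rw [hw, pow_succ, pow_succ]; omega
          omega
    subst hu2
    have hq3 : q = 3 := by omega
    subst hq3
    have : k = 1 := Nat.pow_right_injective (by norm_num : 2 ≤ 3) (by simpa using hx)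
    omega
  · left
    obtain ⟨y, rfl⟩ : ∃ y, q = y + 1 := ⟨q - 1, by omega⟩
    have hgs := geom_sum_mul_add y N
    set S := ∑ i ∈ Finset.range N, (y + 1) ^ i with hS
    have hSd : S ∣ 2 ^ a := ⟨y, by omega⟩
    obtain ⟨u, -, hu⟩ := (Nat.dvd_prime_pow Nat.prime_two).1 hSd
    have hSodd : Odd S := by
      rw [hS, Finset.odd_sum_iff_odd_card_odd]
      rw [Finset.filter_true_of_mem (fun i _ => (Nat.odd_iff.2 hodd).pow), Finset.card_range]
      exact hNodd
    have hu0 : u = 0 := by
      rcases u with _ | u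
      · rfl
      · rw [hu, pow_succ, Nat.odd_iff] at hSodd; omega
    subst hu0
    by_contra hne
    have h2 : (y + 1) ^ 1 < (y + 1) ^ N := Nat.pow_lt_pow_right (by omega) (by omega)
    rw [pow_one, ← hgs, hu] at h2
    omega

def xGL : GL (Fin 2) (ZMod 3) := ⟨!![1, 1; 1, 0], !![0, 1; 1, 2], by decide, by decide⟩
def yGL : GL (Fin 2) (ZMod 3) := ⟨!![1, 0; 2, 2], !![1, 0; 2, 2], by decide, by decide⟩

/-- The semidihedral Sylow subgroup of `GL(2,3)`. -/
def sdGL : Subgroup (GL (Fin 2) (ZMod 3)) where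
  carrier := {g | ∃ (i : Fin 8) (j : Fin 2), g = xGL ^ i.val * yGL ^ j.val}
  mul_mem' := by
    have key : ∀ (i : Fin 8) (j : Fin 2) (k : Fin 8) (l : Fin 2), ∃ (m : Fin 8) (o : Fin 2),
        xGL ^ i.val * yGL ^ j.val * (xGL ^ k.val * yGL ^ l.val) = xGL ^ m.val * yGL ^ o.val := by
      decide +kernel
    rintro _ _ ⟨i, j, rfl⟩ ⟨k, l, rfl⟩
    exact key i j k l
  one_mem' := ⟨0, 0, by simp⟩
  inv_mem' := by
    have key : ∀ (i : Fin 8) (j : Fin 2), ∃ (m : Fin 8) (o : Fin 2),
        xGL ^ i.val * yGL ^ j.val * (xGL ^ m.val * yGL ^ o.val) = 1 := by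
      decide +kernel
    rintro _ ⟨i, j, rfl⟩
    obtain ⟨m, o, h⟩ := key i j
    exact ⟨m, o, inv_eq_of_mul_eq_one_right h⟩

theorem card_sdGL : Nat.card sdGL = 16 := by
  let f : Fin 8 × Fin 2 → sdGL := fun ij => ⟨xGL ^ ij.1.val * yGL ^ ij.2.val, ij.1, ij.2, rfl⟩
  have hf : Function.Bijective f := by
    refine ⟨fun a b h => ?_, fun ⟨g, i, j, h⟩ => ⟨(i, j), Subtype.ext h.symm⟩⟩
    have key : ∀ a b : Fin 8 × Fin 2,
        xGL ^ a.1.val * yGL ^ a.2.val = xGL ^ b.1.val * yGL ^ b.2.val → a = b := by decide +kernel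
    exact key a b (congrArg Subtype.val h)
  rw [← Nat.card_eq_of_bijective f hf]
  simp

theorem orderOf_xGL : orderOf xGL = 8 := by
  have := Fact.mk Nat.prime_two
  exact orderOf_eq_prime_pow (p := 2) (n := 2) (by decide +kernel) (by decide +kernel)

theorem orderOf_yGL : orderOf yGL = 2 := orderOf_eq_prime (by decide +kernel) (by decide +kernel)

theorem yGL_conj : yGL * xGL * yGL⁻¹ = xGL ^ 3 := by decide +kernel

/-- A group of order `8` with a single involution is cyclic or quaternion. -/
theorem cyclic_or_quaternion {G : Type*} [Group G] [Finite G] (h8 : Nat.card G = 8) (z : G)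
    (hz : ∀ g : G, g * g = 1 → g = 1 ∨ g = z) :
    IsCyclic G ∨ Nonempty (G ≃* QuaternionGroup 2) := by
  by_cases hc : ∃ g : G, orderOf g = 8
  · obtain ⟨g, hg⟩ := hc
    exact Or.inl (isCyclic_of_orderOf_eq_card g (hg.trans h8.symm))
  right
  push Not at hc
  have hord : ∀ g : G, g ≠ 1 → g ≠ z → orderOf g = 4 ∧ g * g = z := by
    intro g h1 hgz
    have hd : orderOf g ∣ 2 ^ 3 := by
      have := orderOf_dvd_natCard g; rwa [h8] at this
    obtain ⟨k, hk, hk'⟩ := (Nat.dvd_prime_pow Nat.prime_two).1 hd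
    interval_cases k
    · exact absurd (orderOf_eq_one_iff.1 hk') h1
    · exact absurd ((hz g (by rw [← pow_two, show (2 : ℕ) = orderOf g by rw [hk', pow_one], pow_orderOf_eq_one])).resolve_left h1) hgz
    · refine ⟨hk', (hz (g * g) ?_).resolve_left ?_⟩
      · rw [← pow_two, ← pow_two, ← pow_mul, show 2 * 2 = orderOf g by rw [hk']; rfl, pow_orderOf_eq_one]
      · intro h
        have := orderOf_dvd_of_pow_eq_one (n := 2) (by rw [pow_two, h] : g ^ 2 = 1)
        rw [hk'] at this; exact absurd this (by decide)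
    · exact absurd hk' (hc g)
  obtain ⟨x, hx1, hxz⟩ : ∃ x : G, x ≠ 1 ∧ x ≠ z := by
    classical
    have := Fintype.ofFinite G
    by_contra h
    push Not at h
    have hsub : (Finset.univ : Finset G) ⊆ {1, z} := fun g _ => by
      by_cases hg : g = 1
      · simp [hg]
      · simp [h g hg]
    have := Finset.card_le_card hsub
    rw [Finset.card_univ, ← Nat.card_eq_fintype_card, h8] at this
    have := this.trans Finset.card_le_two
    omega
  obtain ⟨hx4, hxx⟩ := hord x hx1 hxz
  set X := Subgroup.zpowers x with hX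
  have hXcard : Nat.card X = 4 := by rw [hX, Nat.card_zpowers, hx4]
  have hXidx : X.index = 2 := by
    have := X.card_mul_index; rw [hXcard, h8] at this; omega
  obtain ⟨y, hy⟩ : ∃ y, y ∉ X := by
    by_contra h
    push Not at h
    rw [Subgroup.index_eq_one.2 (by rw [eq_top_iff]; exact fun g _ => h g)] at hXidx
    omega
  have hy1 : y ≠ 1 := fun h => hy (h ▸ X.one_mem)
  have hzX : z ∈ X := hxx ▸ X.mul_mem (Subgroup.mem_zpowers x) (Subgroup.mem_zpowers x)
  have hyz : y ≠ z := fun h => hy (h ▸ hzX)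
  obtain ⟨hy4, hyy⟩ := hord y hy1 hyz
  have hx4' : x ^ 4 = 1 := by rw [← hx4, pow_orderOf_eq_one]
  have hconj : y * x * y⁻¹ = x⁻¹ := by
    have hn : X.Normal := Subgroup.normal_of_index_eq_two hXidx
    obtain ⟨k, hk⟩ := Subgroup.mem_zpowers_iff.1 (hn.conj_mem x (Subgroup.mem_zpowers x) y)
    have hk' : x ^ k = x ^ (k % 4) := by
      conv_lhs => rw [← zpow_mod_orderOf, hx4]
      rfl
    have ho : orderOf (y * x * y⁻¹) = 4 := by
      rw [show orderOf (y * x * y⁻¹) = orderOf x from (MulAut.conj y).orderOf_eq x, hx4]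
    have hk4 : k % 4 = 0 ∨ k % 4 = 1 ∨ k % 4 = 2 ∨ k % 4 = 3 := by omega
    rw [← hk] at ho ⊢
    rw [hk'] at ho ⊢
    rcases hk4 with h | h | h | h <;> rw [h] at hk' ho ⊢
    · rw [zpow_zero, orderOf_one] at ho; omega
    · exfalso
      rw [zpow_one] at hk'
      have hcomm : y * x = x * y := by
        rw [hk'] at hk
        rw [← mul_inv_eq_iff_eq_mul]; exact hk.symm
      have hne : y * x⁻¹ ∉ X := fun hm => hy (by
        have := X.mul_mem hm (Subgroup.mem_zpowers x)
        rwa [inv_mul_cancel_right] at this)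
      have hsq : (y * x⁻¹) * (y * x⁻¹) = 1 := by
        have hc' : Commute y x⁻¹ := (show Commute y x from hcomm).inv_right
        rw [← pow_two, hc'.mul_pow, inv_pow, pow_two, pow_two, hyy, hxx, mul_inv_cancel]
      rcases hz _ hsq with h1 | h1
      · exact hne (h1 ▸ X.one_mem)
      · exact hne (h1 ▸ hzX)
    · have h2 : (x ^ (2 : ℤ)) ^ 2 = 1 := by
        rw [← zpow_natCast, ← zpow_mul]; exact_mod_cast hx4'
      have := orderOf_dvd_of_pow_eq_one h2
      rw [ho] at this; exact absurd this (by decide)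
    · rw [eq_inv_iff_mul_eq_one, ← zpow_add_one]; exact_mod_cast hx4'
  have hyx : ∀ i : ℤ, y * x ^ i = x ^ (-i) * y := by
    intro i
    rw [← mul_inv_eq_iff_eq_mul, ← conj_zpow, hconj, inv_zpow']
  have hval : ∀ a : ℤ, x ^ ((a : ZMod 4).val : ℤ) = x ^ a := by
    intro a
    rw [ZMod.val_intCast]
    conv_rhs => rw [← zpow_mod_orderOf, hx4]
  let e : ZMod 4 → G := fun i => x ^ (i.val : ℤ)
  have heI : ∀ a : ℤ, e (a : ZMod 4) = x ^ a := hval
  have hadd : ∀ i j : ZMod 4, e (i + j) = e i * e j := by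
    intro i j
    obtain ⟨a, rfl⟩ := ZMod.intCast_surjective i
    obtain ⟨b, rfl⟩ := ZMod.intCast_surjective j
    rw [← Int.cast_add, heI, heI, heI, zpow_add]
  have hneg : ∀ i : ZMod 4, e i * y = y * e (-i) := by
    intro i
    obtain ⟨a, rfl⟩ := ZMod.intCast_surjective i
    rw [← Int.cast_neg, heI, heI, hyx, neg_neg]
  have he2 : y * y = e 2 := by
    have : e ((2 : ℤ) : ZMod 4) = x ^ (2 : ℤ) := heI 2
    rw [Int.cast_ofNat] at this
    rw [this, hyy, ← hxx, zpow_two]
  let f : QuaternionGroup 2 →* G :=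
    { toFun := fun g => match g with
        | .a i => e i
        | .xa i => y * e i
      map_one' := by
        show e 0 = 1
        exact zpow_zero x
      map_mul' := by
        intro g h
        cases g with
        | a i => cases h with
          | a j => exact hadd i j
          | xa j =>
            show y * e (j - i) = e i * (y * e j)
            rw [← mul_assoc, hneg, mul_assoc, ← hadd, neg_add_eq_sub]
        | xa i => cases h with
          | a j =>
            show y * e (i + j) = y * e i * e j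
            rw [mul_assoc, ← hadd]
          | xa j =>
            show e (2 + j - i) = y * e i * (y * e j)
            rw [← mul_assoc, mul_assoc y, hneg, ← mul_assoc, he2, mul_assoc, ← hadd, ← hadd]
            congr 1
            ring }
  have hcardQ : Nat.card (QuaternionGroup 2) = 8 := by
    rw [Nat.card_eq_fintype_card, QuaternionGroup.card]
  have hsurj : Function.Surjective f := by
    intro g
    have hmem : ∀ g ∈ X, ∃ i, e i = g := fun g hg => by
      obtain ⟨a, rfl⟩ := Subgroup.mem_zpowers_iff.1 hg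
      exact ⟨_, heI a⟩
    by_cases hg : g ∈ X
    · obtain ⟨i, hi⟩ := hmem g hg
      exact ⟨.a i, hi⟩
    · obtain ⟨i, hi⟩ := hmem (y⁻¹ * g) ((Subgroup.mul_mem_iff_of_index_two hXidx).2
        (iff_of_false (fun h => hy (X.inv_mem_iff.1 h)) hg))
      exact ⟨.xa i, by show y * e i = g; rw [hi, mul_inv_cancel_left]⟩
  exact ⟨(MulEquiv.ofBijective f ((Nat.bijective_iff_surjective_and_card f).2
    ⟨hsurj, hcardQ.trans h8.symm⟩)).symm⟩

/-- Let q be a prime, V a non-trivial finite vector space over the field with q elements, and G a non-trivial finite p-group (p prime) acting faithfully and linearly on V and transitively on the non-zero vectors. Then either q = 2 and G has prime order p = |V| − 1; or p = 2, V has q elements with q = 2^m + 1 and G is cyclic of order 2^m; or p = 2, q = 3, V has 9 elements and G is cyclic of order 8, quaternion of order 8, or semidihedral of order 16. -/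
theorem result (q : ℕ) [Fact q.Prime] {V : Type*} [AddCommGroup V] [Module (ZMod q) V] [Finite V] [Nontrivial V]
    {G : Type*} [Group G] [Finite G] [Nontrivial G] (p : ℕ) [Fact p.Prime] (hG : IsPGroup p G)
    (ρ : G →* (V ≃ₗ[ZMod q] V)) (hρ : Function.Injective ρ)
    (htrans : ∀ v w : V, v ≠ 0 → w ≠ 0 → ∃ g : G, ρ g v = w) :
    (q = 2 ∧ p = Nat.card V - 1 ∧ Nat.card G = p) ∨
    (p = 2 ∧ Nat.card V = q ∧ (∃ m : ℕ, q = 2 ^ m + 1 ∧ Nat.card G = 2 ^ m) ∧ IsCyclic G) ∨
    (p = 2 ∧ q = 3 ∧ Nat.card V = 9 ∧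
      ((IsCyclic G ∧ Nat.card G = 8) ∨ Nonempty (G ≃* QuaternionGroup 2) ∨ (Cfsg.IsQuasiDihedral G ∧ Nat.card G = 16))) := by
  classical
  have hp := (Fact.out : p.Prime)
  have hq := (Fact.out : q.Prime)
  have : Module.Finite (ZMod q) V := Module.Finite.of_finite
  set N := Module.finrank (ZMod q) V with hN
  have hV : Nat.card V = q ^ N := by
    rw [Module.natCard_eq_pow_finrank (K := ZMod q), Nat.card_zmod]
  have hN1 : 1 ≤ N := Module.finrank_pos
  obtain ⟨v, hv⟩ := exists_ne (0 : V)
  let act : MulAction G V :=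
    { smul := fun g w => ρ g w
      one_smul := fun w => by
        show ρ 1 w = w
        rw [map_one]; rfl
      mul_smul := fun g h w => by
        show ρ (g * h) w = ρ g (ρ h w)
        rw [map_mul]; rfl }
  have horb : MulAction.orbit G v = {w : V | w ≠ 0} := by
    ext w
    constructor
    · rintro ⟨g, rfl⟩
      intro (h : ρ g v = 0)
      exact hv ((ρ g).map_eq_zero_iff.1 h)
    · intro hw
      obtain ⟨g, hg⟩ := htrans v w hv hw
      exact ⟨g, hg⟩
  have hocard : Nat.card (MulAction.orbit G v) + 1 = q ^ N := by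
    rw [horb, ← hV, Nat.card_coe_set_eq, show {w : V | w ≠ 0} = {(0 : V)}ᶜ from rfl,
      Set.ncard_compl, Set.ncard_singleton, Nat.sub_add_cancel Nat.card_pos]
  obtain ⟨a, ha⟩ := hG.card_orbit v
  rw [ha] at hocard
  obtain ⟨b, hb⟩ := hG.exists_card_eq
  have hb1 : 1 ≤ b := by
    by_contra h
    rw [show b = 0 by omega, pow_zero] at hb
    have := (Finite.one_lt_card_iff_nontrivial (α := G)).2 inferInstance
    omega
  have hinj : ∀ g : G, (∀ w : V, ρ g w = w) → g = 1 := by
    intro g hg
    apply hρ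
    rw [map_one]
    exact LinearEquiv.ext hg
  have hdvdorb : Nat.card (MulAction.orbit G v) * Nat.card (MulAction.stabilizer G v) = Nat.card G := by
    rw [← Subgroup.card_mul_index (MulAction.stabilizer G v), mul_comm]
    congr 1
    exact (Nat.card_congr (MulAction.orbitEquivQuotientStabilizer G v))
  let B := Module.finBasis (ZMod q) V
  let toGL : G →* GL (Fin N) (ZMod q) :=
    (Units.map (LinearMap.toMatrixAlgEquiv B).toRingEquiv.toMonoidHom).comp
      ((LinearMap.GeneralLinearGroup.generalLinearEquiv (ZMod q) V).symm.toMonoidHom.comp ρ)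
  have htoGL : Function.Injective toGL := by
    intro g h hgh
    apply hρ
    apply (LinearMap.GeneralLinearGroup.generalLinearEquiv (ZMod q) V).symm.injective
    apply Units.ext
    exact (LinearMap.toMatrixAlgEquiv B).injective (congrArg Units.val hgh)
  by_cases hq2 : q = 2
  · left
    subst hq2
    have ha1 : a ≠ 0 := by
      intro h0
      rw [h0, pow_zero] at hocard ha
      have hN' : N = 1 := Nat.pow_right_injective le_rfl (show 2 ^ N = 2 ^ 1 by omega)
      rw [hN', pow_one] at hV
      have h01 : ∀ w : V, w ≠ 0 → w = v := by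
        intro w hw
        have : Subsingleton (MulAction.orbit G v) := (Nat.card_eq_one_iff_unique.1 ha).1
        exact congrArg Subtype.val (Subsingleton.elim (⟨w, by rw [horb]; exact hw⟩ : MulAction.orbit G v)
          ⟨v, MulAction.mem_orbit_self v⟩)
      obtain ⟨g, hg⟩ := exists_ne (1 : G)
      refine hg (hinj g fun w => ?_)
      by_cases hw : w = 0
      · rw [hw, map_zero]
      · rw [h01 w hw]
        exact h01 _ (fun h => hv ((ρ g).map_eq_zero_iff.1 h))
    have ha' := two_pow_eq p a N hp (by omega) hocard.symm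
    rw [ha', pow_one] at hocard
    refine ⟨rfl, by omega, ?_⟩
    have hdvd : Nat.card G ∣ Nat.card (GL (Fin N) (ZMod 2)) := Subgroup.card_dvd_of_injective toGL htoGL
    rw [Matrix.card_GL_field, hb, ZMod.card] at hdvd
    have hb' : b = 1 := by
      by_contra hne
      have h2 : p ^ 2 ∣ ∏ i : Fin N, (2 ^ N - 2 ^ (i : ℕ)) := (pow_dvd_pow p (by omega)).trans hdvd
      obtain ⟨M, hM⟩ : ∃ M, N = M + 1 := ⟨N - 1, by omega⟩
      rw [hM, Fin.prod_univ_succ, show 2 ^ (M + 1) - 2 ^ ((0 : Fin (M+1)) : ℕ) = p by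
        rw [hM] at hocard; simp; omega, pow_two] at h2
      obtain ⟨i, -, hi⟩ := (Prime.dvd_finsetProd_iff hp.prime _).1 (Nat.dvd_of_mul_dvd_mul_left hp.pos h2)
      rw [Fin.val_succ] at hi
      have hfac : 2 ^ (M + 1) - 2 ^ ((i : ℕ) + 1) = 2 ^ ((i : ℕ) + 1) * (2 ^ (M - i) - 1) := by
        rw [Nat.mul_sub, ← pow_add, mul_one]
        congr 2
        omega
      rw [hfac] at hi
      rcases hp.dvd_mul.1 hi with h | h
      · have := (Nat.prime_dvd_prime_iff_eq hp Nat.prime_two).1 (hp.dvd_of_dvd_pow h)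
        have heven : 2 ^ N % 2 = 0 := by rw [hM, pow_succ]; omega
        omega
      · have h0 : 0 < 2 ^ (M - i) - 1 := by
          have : 1 < 2 ^ (M - (i : ℕ)) := Nat.one_lt_pow (by omega) (by norm_num)
          omega
        have h1 := Nat.le_of_dvd h0 h
        have h2 : 2 ^ (M - (i : ℕ)) * 2 ≤ 2 ^ N := by
          rw [← pow_succ]; exact Nat.pow_le_pow_right (by norm_num) (by omega)
        omega
    rw [hb, hb', pow_one]
  have hqodd : q % 2 = 1 := hq.eq_two_or_odd.resolve_left hq2
  have hq3 : 3 ≤ q := by have := hq.two_le; omega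
  have hp2 : p = 2 := by
    rcases hp.eq_two_or_odd with h | h
    · exact h
    · exfalso
      have h1 : p ^ a % 2 = 1 := by simp [Nat.pow_mod, h]
      have h2 : q ^ N % 2 = 1 := by simp [Nat.pow_mod, hqodd]
      omega
  subst hp2
  right
  rcases pow_eq_two_pow q N a hq3 hqodd hN1 hocard.symm with hN' | ⟨rfl, hN'⟩
  · left
    rw [hN', pow_one] at hocard hV
    have hspan : ∀ w : V, ∃ c : ZMod q, c • v = w := exists_smul_eq_of_finrank_eq_one hN' hv
    choose c hc using fun g : G => hspan (ρ g v)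
    have hcne : ∀ g, c g ≠ 0 := fun g h => by
      have := hc g
      rw [h, zero_smul] at this
      exact hv ((ρ g).map_eq_zero_iff.1 this.symm)
    have hcmul : ∀ g h, c (g * h) = c g * c h := by
      intro g h
      apply smul_left_injective (ZMod q) hv
      show c (g * h) • v = (c g * c h) • v
      rw [hc, map_mul, LinearEquiv.mul_apply, ← hc h, map_smul, ← hc g, smul_smul, mul_comm]
    let u : G →* (ZMod q)ˣ := MonoidHom.mk' (fun g => Units.mk0 (c g) (hcne g))
      (fun g h => Units.ext (hcmul g h))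
    have huinj : Function.Injective u := by
      intro g h hgh
      have h' : c g = c h := congrArg Units.val hgh
      apply hρ
      refine LinearEquiv.ext fun w => ?_
      obtain ⟨d, rfl⟩ := hspan w
      rw [map_smul, map_smul, ← hc g, ← hc h, h']
    have hle : Nat.card G ≤ q - 1 := by
      have := Nat.card_le_card_of_injective u huinj
      rwa [Nat.card_eq_fintype_card (α := (ZMod q)ˣ), ZMod.card_units] at this
    have hge : 2 ^ a ≤ Nat.card G := by
      rw [← ha, ← hdvdorb]; exact Nat.le_mul_of_pos_right _ Nat.card_pos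
    exact ⟨rfl, hV, ⟨a, by omega, by omega⟩, isCyclic_of_injective u huinj⟩
  · right
    rw [hN'] at hocard hV
    have ha3 : a = 3 := Nat.pow_right_injective le_rfl (show 2 ^ a = 2 ^ 3 by norm_num at hocard ⊢; omega)
    subst ha3
    refine ⟨rfl, rfl, by norm_num [hV], ?_⟩
    -- transport to `GL(2,3)`
    let e0 : GL (Fin N) (ZMod 3) ≃* GL (Fin 2) (ZMod 3) :=
      Units.mapEquiv (Matrix.reindexAlgEquiv (ZMod 3) (ZMod 3) (finCongr hN')).toRingEquiv.toMulEquiv
    let f : G →* GL (Fin 2) (ZMod 3) := e0.toMonoidHom.comp toGL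
    have hf : Function.Injective f := e0.injective.comp htoGL
    have h48 : Nat.card (GL (Fin 2) (ZMod 3)) = 48 := by
      rw [Matrix.card_GL_field, ZMod.card, Fin.prod_univ_two]
      norm_num
    have hb34 : b = 3 ∨ b = 4 := by
      have h1 : 2 ^ b ∣ 48 := h48 ▸ hb ▸ Subgroup.card_dvd_of_injective f hf
      have h2 : 2 ^ 3 ≤ 2 ^ b := by
        rw [← hb, ← ha, ← hdvdorb]; exact Nat.le_mul_of_pos_right _ Nat.card_pos
      have h2' := (Nat.pow_le_pow_iff_right one_lt_two).1 h2
      have h5 : b ≤ 5 := by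
        by_contra hgt
        have := (pow_dvd_pow 2 (show 6 ≤ b by omega)).trans h1
        norm_num at this
      interval_cases b <;> simp at h1 ⊢
    rcases hb34 with hb' | hb' <;> subst hb'
    · -- regular: only one involution
      have hstab : ∀ (g : G) (w : V), w ≠ 0 → ρ g w = w → g = 1 := by
        intro g w hw hgw
        have ho : MulAction.orbit G w = MulAction.orbit G v :=
          MulAction.orbit_eq_iff.2 (by rw [horb]; exact hw)
        have h := Subgroup.card_mul_index (MulAction.stabilizer G w)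
        rw [show (MulAction.stabilizer G w).index = Nat.card (MulAction.orbit G w) from
          (Nat.card_congr (MulAction.orbitEquivQuotientStabilizer G w)).symm, ho, ha, hb] at h
        have h1 : Nat.card (MulAction.stabilizer G w) = 1 := by omega
        have := Subgroup.card_eq_one.1 h1
        have hmem : g ∈ MulAction.stabilizer G w := hgw
        rwa [this, Subgroup.mem_bot] at hmem
      have hinv : ∀ g : G, g * g = 1 → g ≠ 1 → ∀ w, ρ g w = -w := by
        intro g hg hg1 w
        have h2 : ρ g (ρ g w) = w := by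
          have : (ρ g * ρ g) w = w := by rw [← map_mul, hg, map_one]; rfl
          exact this
        apply eq_neg_of_add_eq_zero_right
        by_contra hne
        exact hg1 (hstab g _ hne (by rw [map_add, h2, add_comm]))
      by_cases hex : ∃ z : G, z * z = 1 ∧ z ≠ 1
      · obtain ⟨z, hz, hz1⟩ := hex
        rcases cyclic_or_quaternion (by rw [hb]; norm_num) z (fun g hg => by
          by_cases hg1 : g = 1
          · exact Or.inl hg1
          · refine Or.inr (hρ (LinearEquiv.ext fun w => ?_))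
            rw [hinv g hg hg1, hinv z hz hz1]) with h | h
        · exact Or.inl ⟨h, by rw [hb]; norm_num⟩
        · exact Or.inr (Or.inl h)
      · exfalso
        apply hex
        obtain ⟨z, hz⟩ := exists_prime_orderOf_dvd_card' (G := G) 2 (hb ▸ dvd_pow_self 2 (by norm_num))
        refine ⟨z, by rw [← pow_two, ← hz, pow_orderOf_eq_one], fun h => ?_⟩
        rw [h, orderOf_one] at hz
        omega
    · right; right
      have hR : Nat.card f.range = 16 := by
        rw [← Nat.card_congr (MonoidHom.ofInjective hf).toEquiv, hb]; norm_num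
      have hidx : ¬ 2 ∣ sdGL.relIndex ⊤ := by
        rw [Subgroup.relIndex_top_right]
        have := sdGL.card_mul_index
        rw [card_sdGL, h48] at this
        rw [show sdGL.index = 3 by omega]
        decide
      obtain ⟨g, -, hg⟩ := CfsgLib.Recognition.exists_conj_eq_of_not_dvd_relIndex
        (T' := f.range) (le_top : sdGL ≤ ⊤) le_top
        (IsPGroup.of_card (p := 2) (n := 4) (by rw [card_sdGL]; norm_num))
        (hR.trans card_sdGL.symm) hidx
      let e : sdGL ≃* G := ((sdGL.equivMapOfInjective (MulAut.conj g).toMonoidHom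
        (MulAut.conj g).injective).trans (MulEquiv.subgroupCongr hg)).trans (MonoidHom.ofInjective hf).symm
      have hx : xGL ∈ sdGL := ⟨1, 0, by simp⟩
      have hy : yGL ∈ sdGL := ⟨0, 1, by simp⟩
      refine ⟨⟨3, le_rfl, by rw [hb], e ⟨xGL, hx⟩, e ⟨yGL, hy⟩, ?_, ?_, ?_⟩, by rw [hb]; norm_num⟩
      · rw [e.orderOf_eq, Subgroup.orderOf_mk, orderOf_xGL]; norm_num
      · rw [e.orderOf_eq, Subgroup.orderOf_mk, orderOf_yGL]
      · rw [← map_inv, ← map_mul, ← map_mul, ← map_pow]
        congr 1
        exact Subtype.ext yGL_conj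

end Cfsg.Agent.S3370
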